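import Cfsg.Statements.S1600
import Cfsg.Agent.Lib.Helper7.M12General
import Cfsg.Agent.Lib.Helper7.M24Trans
import Cfsg.Agent.Lib.Helper92.M24Trans

set_option autoImplicit false
open Cfsg

namespace Cfsg.Agent.S1600
open Cfsg.Agent.Lib.Helper7 Cfsg.Agent.Lib.Helper92
open scoped Pointwise

/-- Words of the stabilizer of the dodecad `d0` fixing the base points `∞, 0, 1` and mapping the
point `4` to the point `y` outside `d0`. -/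
def m9Tab : List (List ℕ) :=
  [[],
   [],
   [],
   [],
   [],
   [3, 0, 2, 0, 4, 4, 2, 0, 3, 0, 0, 2, 0, 3, 3, 2, 3, 0, 4, 3, 0, 2, 0, 4, 4, 2, 0, 3, 0, 2, 1, 3, 2, 2, 1, 1, 1, 0, 2, 1, 3, 2, 2, 1, 1, 1],
   [],
   [],
   [],
   [],
   [1, 3, 0, 0, 4, 0, 3, 1, 3, 0, 0, 0, 4, 0, 3, 1, 2, 0, 0, 2, 0, 3, 3, 2, 3, 0, 4, 0, 0, 2, 0, 3, 3, 2, 3, 0, 4, 3, 0, 2, 0, 4, 4, 2, 0, 3],
   [3, 0, 2, 0, 4, 4, 2, 0, 3, 3, 0, 2, 0, 4, 4, 2, 0, 3, 4, 4, 2, 1, 1, 0, 3, 3, 3, 0, 2, 0, 4, 4, 2, 0, 3, 3, 0, 2, 0, 4, 4, 2, 0, 3],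
   [],
   [1, 3, 0, 0, 4, 0, 3, 3, 0, 2, 0, 4, 4, 2, 0, 3, 3, 0, 2, 0, 4, 4, 2, 0, 3, 3, 0, 2, 0, 4, 4, 2, 0, 3, 3, 0, 2, 0, 4, 4, 2, 0, 3, 4, 4, 2, 1, 1, 0, 3, 3],
   [],
   [],
   [3, 0, 2, 0, 4, 4, 2, 0, 3, 1, 3, 0, 0, 0, 4, 0, 3, 1, 2, 1, 3, 0, 0, 4, 0, 3, 1, 3, 0, 0, 0, 4, 0, 3, 1, 2, 0, 0, 2, 0, 3, 3, 2, 3, 0, 4, 4, 4, 2, 1, 1, 0, 3, 3],
   [1, 3, 0, 0, 0, 4, 0, 3, 1, 2, 3, 0, 2, 0, 4, 4, 2, 0, 3, 1, 3, 0, 0, 4, 0, 3, 4, 4, 2, 1, 1, 0, 3, 3, 4, 4, 2, 1, 1, 0, 3, 3, 3, 0, 2, 0, 4, 4, 2, 0, 3],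
   [0, 2, 1, 3, 2, 2, 1, 1, 1, 1, 3, 0, 0, 0, 4, 0, 3, 1, 2, 1, 3, 0, 0, 4, 0, 3, 1, 3, 0, 0, 0, 4, 0, 3, 1, 2, 1, 3, 0, 0, 4, 0, 3, 4, 4, 2, 1, 1, 0, 3, 3],
   [1, 3, 0, 0, 4, 0, 3, 0, 2, 1, 3, 2, 2, 1, 1, 1, 1, 3, 0, 0, 4, 0, 3, 0, 0, 2, 0, 3, 3, 2, 3, 0, 4, 1, 3, 0, 0, 4, 0, 3, 3, 0, 2, 0, 4, 4, 2, 0, 3],
   [1, 3, 0, 0, 0, 4, 0, 3, 1, 2, 0, 2, 1, 3, 2, 2, 1, 1, 1, 0, 2, 1, 3, 2, 2, 1, 1, 1, 1, 3, 0, 0, 4, 0, 3, 3, 0, 2, 0, 4, 4, 2, 0, 3, 0, 0, 2, 0, 3, 3, 2, 3, 0, 4],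
   [1, 3, 0, 0, 4, 0, 3, 3, 0, 2, 0, 4, 4, 2, 0, 3, 1, 3, 0, 0, 0, 4, 0, 3, 1, 2, 0, 0, 2, 0, 3, 3, 2, 3, 0, 4, 1, 3, 0, 0, 0, 4, 0, 3, 1, 2],
   [1, 3, 0, 0, 0, 4, 0, 3, 1, 2, 4, 4, 2, 1, 1, 0, 3, 3, 1, 3, 0, 0, 0, 4, 0, 3, 1, 2, 3, 0, 2, 0, 4, 4, 2, 0, 3],
   []]

/-- The indices of the points outside `d0`. -/
def compL : List ℕ := [4, 5, 10, 11, 13, 16, 17, 18, 19, 20, 21, 22]

theorem mem_compL : ∀ y < 24, d0Mask.testBit y = false → y ∈ compL := by decide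

set_option maxRecDepth 100000 in
theorem m9Tab_ok1 : ∀ y ∈ compL, ∀ j < 24, d0Mask.testBit j = true →
    d0Mask.testBit (m24Eval (m9Tab.getD y []) j) = true := by
  decide +kernel

set_option maxRecDepth 100000 in
theorem m9Tab_ok2 : ∀ y ∈ compL, m24Eval (m9Tab.getD y []) 23 = 23 ∧
    m24Eval (m9Tab.getD y []) 0 = 0 ∧ m24Eval (m9Tab.getD y []) 1 = 1 ∧
    m24Eval (m9Tab.getD y []) 4 = y := by
  decide +kernel

theorem bp0 : bp 0 = pt 23 := rfl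
theorem bp1 : bp 1 = pt 0 := rfl
theorem bp2 : bp 2 = pt 1 := rfl

/-- In the standard configuration, the three-point stabilizer is transitive on the complement. -/
theorem std_trans (y : GolayPt) (hy : y ∉ d0) : ∃ g ∈ Hs 3, g (pt 4) = y := by
  have hyb : d0Mask.testBit (idx y) = false := by
    have : ¬ d0Mask.testBit (idx y) = true := fun h => hy (mem_setOf.mpr h)
    simpa using this
  have hmem := mem_compL (idx y) (idx_lt y) hyb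
  obtain ⟨e23, e0, e1, e4⟩ := m9Tab_ok2 (idx y) hmem
  refine ⟨m24Word (m9Tab.getD (idx y) []), ?_, ?_⟩
  · rw [mem_Hs]
    refine ⟨?_, ?_⟩
    · show _ ∈ stabM24 d0
      rw [mem_stabM24]
      exact ⟨m24Word_mem _, m24Word_smul_setOf _ d0Mask d0Mask rfl (m9Tab_ok1 (idx y) hmem)⟩
    · intro j hj
      interval_cases j
      · rw [bp0, m24Word_apply_pt _ (by norm_num), e23]
      · rw [bp1, m24Word_apply_pt _ (by norm_num), e0]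
      · rw [bp2, m24Word_apply_pt _ (by norm_num), e1]
  · rw [m24Word_apply_pt _ (by norm_num), e4, pt_idx]

theorem pt4_notMem : pt 4 ∉ d0 := by
  intro h
  have := mem_setOf.mp h
  rw [idx_pt (by norm_num)] at this
  exact absurd this (by decide)

/-- Move a dodecad with three of its points to the standard configuration. -/
theorem exists_to_std {d : Finset GolayPt} (hd : d ∈ dodecads) {p q r : GolayPt} (hp : p ∈ d)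
    (hq : q ∈ d) (hr : r ∈ d) (hpq : p ≠ q) (hpr : p ≠ r) (hqr : q ≠ r) :
    ∃ ρ ∈ M24, ρ • d = d0 ∧ ρ p = bp 0 ∧ ρ q = bp 1 ∧ ρ r = bp 2 := by
  obtain ⟨ρ, hρ, hρd⟩ := exists_map_dodecad hd
  have hmem : ∀ x ∈ d, ρ x ∈ d0 := fun x hx => by
    rw [← hρd, apply_mem_perm_smul_finset]; exact hx
  let x : Fin 3 ↪ GolayPt := ⟨![ρ p, ρ q, ρ r], by
    intro i j h
    fin_cases i <;> fin_cases j <;> simp at h <;> first | rfl | (exfalso; tauto)⟩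
  obtain ⟨a, ha, hax⟩ := exists_H12_map_emb_to_base (k := 3) (by norm_num) x (by
    intro i
    fin_cases i
    · exact hmem p hp
    · exact hmem q hq
    · exact hmem r hr)
  have haM : a ∈ M24 := (mem_stabM24.mp ha).1
  have had : a • d0 = d0 := (mem_stabM24.mp ha).2
  refine ⟨a * ρ, M24.mul_mem haM hρ, ?_, ?_, ?_, ?_⟩
  · rw [mul_smul, hρd, had]
  · exact hax 0
  · exact hax 1
  · exact hax 2

/-- Membership in the three-point stabilizer, transported to the standard configuration. -/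
theorem conj_mem_Hs {ρ : Equiv.Perm GolayPt} (hρ : ρ ∈ M24) {d : Finset GolayPt} {p q r : GolayPt}
    (hρd : ρ • d = d0) (hρp : ρ p = bp 0) (hρq : ρ q = bp 1) (hρr : ρ r = bp 2)
    (g : Equiv.Perm GolayPt) :
    ρ * g * ρ⁻¹ ∈ Hs 3 ↔ (g ∈ M24 ∧ g • d = d ∧ g p = p ∧ g q = q ∧ g r = r) := by
  rw [mem_Hs]
  have h1 : ρ * g * ρ⁻¹ ∈ H12 ↔ g ∈ stabM24 d := by
    rw [conj_mem_stabM24 hρ d, hρd]; rfl
  rw [h1, mem_stabM24]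
  constructor
  · rintro ⟨⟨hM, hd⟩, hfix⟩
    refine ⟨hM, hd, ?_, ?_, ?_⟩
    · have := hfix 0 (by norm_num); rwa [← hρp, conj_apply_eq_iff] at this
    · have := hfix 1 (by norm_num); rwa [← hρq, conj_apply_eq_iff] at this
    · have := hfix 2 (by norm_num); rwa [← hρr, conj_apply_eq_iff] at this
  · rintro ⟨hM, hd, h0, h1, h2⟩
    refine ⟨⟨hM, hd⟩, ?_⟩
    intro j hj
    interval_cases j
    · rw [← hρp, conj_apply_eq_iff]; exact h0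
    · rw [← hρq, conj_apply_eq_iff]; exact h1
    · rw [← hρr, conj_apply_eq_iff]; exact h2

theorem mem_G {d : Finset GolayPt} {p q r : GolayPt} (g : ↥M24) :
    g ∈ (MulAction.stabilizer M24 d ⊓ MulAction.stabilizer M24 p ⊓ MulAction.stabilizer M24 q ⊓
      MulAction.stabilizer M24 r) ↔
    ((g : Equiv.Perm GolayPt) ∈ M24 ∧ (g : Equiv.Perm GolayPt) • d = d ∧
      (g : Equiv.Perm GolayPt) p = p ∧ (g : Equiv.Perm GolayPt) q = q ∧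
      (g : Equiv.Perm GolayPt) r = r) := by
  simp only [Subgroup.mem_inf, MulAction.mem_stabilizer_iff, M24_smul_def, M24_smul_finset_def]
  constructor
  · rintro ⟨⟨⟨h1, h2⟩, h3⟩, h4⟩; exact ⟨g.2, h1, h2, h3, h4⟩
  · rintro ⟨_, h1, h2, h3, h4⟩; exact ⟨⟨⟨h1, h2⟩, h3⟩, h4⟩

/-- The equivalence between the three-point stabilizer and the standard one. -/
noncomputable def equivHs {ρ : Equiv.Perm GolayPt} (hρ : ρ ∈ M24) {d : Finset GolayPt}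
    {p q r : GolayPt} (hρd : ρ • d = d0) (hρp : ρ p = bp 0) (hρq : ρ q = bp 1)
    (hρr : ρ r = bp 2) :
    ↥(MulAction.stabilizer M24 d ⊓ MulAction.stabilizer M24 p ⊓ MulAction.stabilizer M24 q ⊓
      MulAction.stabilizer M24 r) ≃ Hs 3 where
  toFun g := ⟨ρ * ((g : ↥M24) : Equiv.Perm GolayPt) * ρ⁻¹,
    (conj_mem_Hs hρ hρd hρp hρq hρr _).mpr ((mem_G g.1).mp g.2)⟩
  invFun h := ⟨⟨ρ⁻¹ * h * ρ, M24.mul_mem (M24.mul_mem (M24.inv_mem hρ)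
      ((mem_stabM24.mp (mem_Hs.mp h.2).1).1)) hρ⟩, by
    rw [mem_G]
    apply (conj_mem_Hs hρ hρd hρp hρq hρr _).mp
    have : ρ * (ρ⁻¹ * (h : Equiv.Perm GolayPt) * ρ) * ρ⁻¹ = h := by group
    show ρ * (ρ⁻¹ * (h : Equiv.Perm GolayPt) * ρ) * ρ⁻¹ ∈ Hs 3
    rw [this]; exact h.2⟩
  left_inv g := by
    apply Subtype.ext; apply Subtype.ext
    show ρ⁻¹ * (ρ * ((g : ↥M24) : Equiv.Perm GolayPt) * ρ⁻¹) * ρ = _
    group
  right_inv h := by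
    apply Subtype.ext
    show ρ * (ρ⁻¹ * (h : Equiv.Perm GolayPt) * ρ) * ρ⁻¹ = _
    group

/-- The pointwise stabiliser of three points of a dodecad inside the dodecad stabiliser (order 72) is transitive on the complementary dodecad. -/
theorem result (d : Finset Cfsg.GolayPt) (hd : d ∈ Cfsg.dodecads) (p q r : Cfsg.GolayPt) (hp : p ∈ d) (hq : q ∈ d) (hr : r ∈ d) (hpq : p ≠ q) (hpr : p ≠ r) (hqr : q ≠ r) : Nat.card ↥(MulAction.stabilizer Cfsg.M24 d ⊓ MulAction.stabilizer Cfsg.M24 p ⊓ MulAction.stabilizer Cfsg.M24 q ⊓ MulAction.stabilizer Cfsg.M24 r) = 72 ∧ ∀ x ∉ d, ∀ y ∉ d, ∃ g ∈ (MulAction.stabilizer Cfsg.M24 d ⊓ MulAction.stabilizer Cfsg.M24 p ⊓ MulAction.stabilizer Cfsg.M24 q ⊓ MulAction.stabilizer Cfsg.M24 r), ((g : ↥Cfsg.M24) : Equiv.Perm Cfsg.GolayPt) x = y := by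
  obtain ⟨ρ, hρ, hρd, hρp, hρq, hρr⟩ := exists_to_std hd hp hq hr hpq hpr hqr
  refine ⟨?_, ?_⟩
  · rw [Nat.card_congr (equivHs hρ hρd hρp hρq hρr)]
    exact card_Hs_3
  · intro x hx y hy
    have hx' : ρ x ∉ d0 := by rw [← hρd, apply_mem_perm_smul_finset]; exact hx
    have hy' : ρ y ∉ d0 := by rw [← hρd, apply_mem_perm_smul_finset]; exact hy
    obtain ⟨g1, hg1, hg1x⟩ := std_trans (ρ x) hx'
    obtain ⟨g2, hg2, hg2y⟩ := std_trans (ρ y) hy'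
    have hk : g2 * g1⁻¹ ∈ Hs 3 := (Hs 3).mul_mem hg2 ((Hs 3).inv_mem hg1)
    refine ⟨(equivHs hρ hρd hρp hρq hρr).symm ⟨g2 * g1⁻¹, hk⟩, Subtype.property _, ?_⟩
    show (ρ⁻¹ * (g2 * g1⁻¹) * ρ) x = y
    simp only [Equiv.Perm.mul_apply]
    rw [← hg1x]
    simp [hg2y]

end Cfsg.Agent.S1600
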