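import Cfsg.Statements.S1601
import Cfsg.Agent.Lib.Helper7.M12General
import Cfsg.Agent.Lib.Helper92.M24Trans
import Cfsg.Agent.Lib.Helper17.PrimeDegree
import Cfsg.Agent.S0498

set_option autoImplicit false
open Cfsg

namespace Cfsg.Agent.S1601
open Cfsg.Agent.Lib.Helper7 Cfsg.Agent.Lib.Helper92
open scoped Pointwise

/-! ### Abstract lemmas -/

/-- two distinct commuting involutions in a subgroup force `4 ∣ |K|` -/
theorem four_dvd_card {G : Type*} [Group G] (K : Subgroup G) [Finite K] {s u : G} (hs : s ∈ K)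
    (hu : u ∈ K) (hs2 : s * s = 1) (hu2 : u * u = 1) (hs1 : s ≠ 1) (hu1 : u ≠ 1) (hne : s ≠ u)
    (hc : s * u = u * s) : 4 ∣ Nat.card K := by
  have hzs : ∀ x ∈ Subgroup.zpowers s, x = 1 ∨ x = s := by
    rintro x ⟨i, rfl⟩
    show s ^ i = 1 ∨ s ^ i = s
    rcases Int.even_or_odd i with ⟨k, rfl⟩ | ⟨k, rfl⟩
    · left
      rw [← two_mul, zpow_mul, zpow_two, hs2, one_zpow]
    · right
      rw [zpow_add, zpow_mul, zpow_two, hs2, one_zpow, one_mul, zpow_one]
  have hzu : ∀ x ∈ Subgroup.zpowers u, x = 1 ∨ x = u := by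
    rintro x ⟨i, rfl⟩
    show u ^ i = 1 ∨ u ^ i = u
    rcases Int.even_or_odd i with ⟨k, rfl⟩ | ⟨k, rfl⟩
    · left
      rw [← two_mul, zpow_mul, zpow_two, hu2, one_zpow]
    · right
      rw [zpow_add, zpow_mul, zpow_two, hu2, one_zpow, one_mul, zpow_one]
  have hcomm : Commute s u := hc
  let f : ↥(Subgroup.zpowers s) →* G := (Subgroup.zpowers s).subtype
  let g : ↥(Subgroup.zpowers u) →* G := (Subgroup.zpowers u).subtype
  have comm : ∀ m n, Commute (f m) (g n) := by
    rintro ⟨m, i, rfl⟩ ⟨n, j, rfl⟩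
    exact hcomm.zpow_zpow i j
  have hinj : Function.Injective (MonoidHom.noncommCoprod f g comm) := by
    rw [MonoidHom.noncommCoprod_injective]
    refine ⟨Subgroup.subtype_injective _, Subgroup.subtype_injective _, ?_⟩
    rw [Subgroup.range_subtype, Subgroup.range_subtype, Subgroup.disjoint_def]
    intro x hx1 hx2
    rcases hzs x hx1 with h | h
    · exact h
    · rcases hzu x hx2 with h' | h'
      · exact h'
      · exact absurd (h.symm.trans h') hne
  have hrange : (MonoidHom.noncommCoprod f g comm).range ≤ K := by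
    rintro _ ⟨⟨m, n⟩, rfl⟩
    rw [MonoidHom.noncommCoprod_apply]
    exact K.mul_mem ((Subgroup.zpowers_le.mpr hs) m.2) ((Subgroup.zpowers_le.mpr hu) n.2)
  have hos : orderOf s = 2 := orderOf_eq_prime (by rw [pow_two]; exact hs2) hs1
  have hou : orderOf u = 2 := orderOf_eq_prime (by rw [pow_two]; exact hu2) hu1
  have hcard : Nat.card (MonoidHom.noncommCoprod f g comm).range = 4 := by
    rw [← Nat.card_congr (MonoidHom.ofInjective hinj).toEquiv, Nat.card_prod, Nat.card_zpowers,
      Nat.card_zpowers, hos, hou]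
  rw [← hcard]
  exact Subgroup.card_dvd_of_le hrange

/-- A group of order `660`, faithful and transitive on `11` points, generated by an involution
`s` and an element `t` of order `11` with `(ts)³ = 1`, is simple. -/
theorem simple_of_data {G : Type*} [Group G] [Finite G] {α : Type*} [MulAction G α]
    [FaithfulSMul G α] [MulAction.IsPretransitive G α] (hα : Nat.card α = 11)
    (hG : Nat.card G = 660) (s t : G) (hs : s * s = 1) (ht : orderOf t = 11)
    (hts : t * (s * (t * (s * (t * s)))) = 1)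
    (hgen : Subgroup.closure ({s, t} : Set G) = ⊤) : IsSimpleGroup G := by
  have : Fact (Nat.Prime 11) := ⟨by norm_num⟩
  have : Nontrivial G := by
    rw [← Finite.one_lt_card_iff_nontrivial, hG]; norm_num
  refine ⟨fun N hN => ?_⟩
  by_cases hb : N = ⊥
  · exact Or.inl hb
  right
  haveI := hN
  have htr : MulAction.IsPretransitive N α :=
    Cfsg.Agent.Lib.Helper17.isPretransitive_of_normal_of_prime_degree (p := 11) hα N hb
  have hdvd : 11 ∣ Nat.card N :=
    Cfsg.Agent.Lib.Helper17.dvd_card_of_pretransitive (Γ := N) (p := 11) hα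
  obtain ⟨x, hx⟩ := exists_prime_orderOf_dvd_card' 11 hdvd
  have hxG : orderOf (x : G) = 11 := by rw [Subgroup.orderOf_coe]; exact hx
  have hp1 : IsPGroup 11 (Subgroup.zpowers (x : G)) :=
    IsPGroup.of_card (n := 1) (by rw [Nat.card_zpowers, hxG, pow_one])
  have hp2 : IsPGroup 11 (Subgroup.zpowers t) :=
    IsPGroup.of_card (n := 1) (by rw [Nat.card_zpowers, ht, pow_one])
  obtain ⟨Q1, hQ1⟩ := hp1.exists_le_sylow
  obtain ⟨Q2, hQ2⟩ := hp2.exists_le_sylow
  have hfac : (660 : ℕ).factorization 11 = 1 := by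
    have h1 : (660 : ℕ) = 11 * 60 := by norm_num
    rw [h1, Nat.factorization_mul (by norm_num) (by norm_num), Finsupp.add_apply,
      Nat.Prime.factorization_self (by norm_num),
      Nat.factorization_eq_zero_of_not_dvd (by norm_num : ¬ 11 ∣ 60)]
  have hcardQ : Nat.card (Q1 : Subgroup G) = 11 := by
    rw [Sylow.card_eq_multiplicity, hG, hfac, pow_one]
  have hQ1eq : Subgroup.zpowers (x : G) = (Q1 : Subgroup G) :=
    Subgroup.eq_of_le_of_card_ge hQ1 (by rw [hcardQ, Nat.card_zpowers, hxG])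
  obtain ⟨g, hg⟩ := MulAction.exists_smul_eq G Q2 Q1
  have h1 : MulAut.conj g • t ∈ MulAut.conj g • (Q2 : Subgroup G) :=
    Subgroup.smul_mem_pointwise_smul t _ _ (hQ2 (Subgroup.mem_zpowers t))
  rw [← Sylow.coe_subgroup_smul, hg, ← hQ1eq] at h1
  have h2 : MulAut.conj g • t ∈ N := (Subgroup.zpowers_le.mpr x.2) h1
  rw [MulAut.smul_def, MulAut.conj_apply] at h2
  have htN : t ∈ N := by
    have := hN.conj_mem _ h2 g⁻¹
    simpa [mul_assoc] using this
  have hsinv : s⁻¹ = s := inv_eq_of_mul_eq_one_right hs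
  have hsN : s ∈ N := by
    have h5 : t * (s * t * s⁻¹) * t ∈ N := N.mul_mem (N.mul_mem htN (hN.conj_mem t htN s)) htN
    have h6 : t * (s * t * s⁻¹) * t = s⁻¹ := by
      apply eq_inv_of_mul_eq_one_left
      rw [hsinv]
      simpa [mul_assoc] using hts
    rw [h6] at h5
    exact (Subgroup.inv_mem_iff N).mp h5
  rw [eq_top_iff, ← hgen, Subgroup.closure_le]
  rintro y (rfl | rfl)
  · exact hsN
  · exact htN

/-! ### The standard configuration -/

/-- the stabilizer of the point `pt 4` in `M11 = K11` -/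
def L : Subgroup (Equiv.Perm GolayPt) :=
  K11 ⊓ MulAction.stabilizer (Equiv.Perm GolayPt) (pt 4)

theorem mem_L {g : Equiv.Perm GolayPt} : g ∈ L ↔ g ∈ K11 ∧ g (pt 4) = pt 4 := by
  simp [L, MulAction.mem_stabilizer_iff]

theorem bp0 : bp 0 = pt 23 := rfl

/-- the complement of `d0` -/
def compl0 : Finset GolayPt := Finset.univ.filter fun x => x ∉ d0

theorem mem_compl0 {x : GolayPt} : x ∈ compl0 ↔ x ∉ d0 := by simp [compl0]

set_option maxRecDepth 100000 in
theorem card_compl0 : compl0.card = 12 := by decide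

theorem pt4_notMem : pt 4 ∉ d0 := by
  intro h
  have := mem_setOf.mp h
  rw [idx_pt (by norm_num)] at this
  exact absurd this (by decide)

theorem card_L : Nat.card L = 660 := by
  have h := card_eq_card_mul_card_inf_stabilizer (P := Equiv.Perm GolayPt) K11 (pt 4) compl0
    (by
      intro g hg
      have hgH : g ∈ stabM24 d0 := (mem_K11.mp hg).1
      rw [mem_compl0, Equiv.Perm.smul_def, apply_mem_of_mem_stabM24 hgH]
      exact pt4_notMem)
    (by
      intro q hq
      have hx : q ∉ d0 := mem_compl0.mp hq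
      obtain ⟨g, hg, hgm⟩ := exists_K11_map_to_baseC 1 (by norm_num) (fun _ => q)
        (by intro a ha b hb _; omega)
        (by intro j _; exact hx)
      have h0 : g q = pt 4 := by simpa [baseC] using hgm 0 (by norm_num)
      exact ⟨g, hg, h0⟩)
  rw [card_K11, card_compl0] at h
  have : Nat.card L = Nat.card ↥(K11 ⊓ MulAction.stabilizer (Equiv.Perm GolayPt) (pt 4)) := rfl
  omega

/-! ### Words -/

theorem m24Word_append (w w' : List ℕ) : m24Word (w ++ w') = m24Word w * m24Word w' := by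
  simp [m24Word]

theorem m24Word_eq_of_eval {w w' : List ℕ} (h : ∀ j < 24, m24Eval w j = m24Eval w' j) :
    m24Word w = m24Word w' := by
  ext p
  rw [m24Word_apply, m24Word_apply, h _ (idx_lt p)]

theorem m24Word_ne_of_eval {w w' : List ℕ} (j : ℕ) (hj : j < 24)
    (h : m24Eval w j ≠ m24Eval w' j) : m24Word w ≠ m24Word w' := by
  intro e
  have := congrArg (fun σ : Equiv.Perm GolayPt => idx (σ (pt j))) e
  simp only [m24Word_apply_pt _ hj, idx_pt (m24Eval_lt _ hj)] at this
  exact h this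

/-- the involution `s` -/
def ws : List ℕ := [4, 0, 3, 3, 0, 3, 0, 3, 0, 4, 1, 3]
/-- the element `t` of order `11` -/
def wt : List ℕ := [1, 4, 0, 4, 1, 1, 4, 0, 0, 3, 1, 1]

/-- letters: `false = s`, `true = t` -/
def gen : Bool → List ℕ
  | false => ws
  | true => wt

/-- the `M24`-word of a word in `s, t` -/
def W (l : List Bool) : List ℕ := (l.map gen).flatten

/-- the permutation of a word in `s, t` -/
noncomputable def E (l : List Bool) : Equiv.Perm GolayPt := m24Word (W l)

theorem E_nil : E [] = 1 := rfl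

theorem E_append (l l' : List Bool) : E (l ++ l') = E l * E l' := by
  unfold E W
  rw [List.map_append, List.flatten_append, m24Word_append]

theorem E_replicate (b : Bool) (k : ℕ) : E (List.replicate k b) = E [b] ^ k := by
  induction k with
  | zero => simp [E_nil]
  | succ k ih =>
    rw [List.replicate_succ]
    show E ([b] ++ List.replicate k b) = _
    rw [E_append, ih, pow_succ']

theorem E_eq {l l' : List Bool} (h : ∀ j < 24, m24Eval (W l) j = m24Eval (W l') j) :
    E l = E l' := m24Word_eq_of_eval h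

theorem E_eq_one {l : List Bool} (h : ∀ j < 24, m24Eval (W l) j = j) : E l = 1 := by
  rw [← E_nil]
  exact E_eq h

theorem E_ne {l l' : List Bool} (j : ℕ) (hj : j < 24)
    (h : m24Eval (W l) j ≠ m24Eval (W l') j) : E l ≠ E l' := m24Word_ne_of_eval j hj h

theorem gen_mem_L (b : Bool) : m24Word (gen b) ∈ L := by
  have key : ∀ w : List ℕ,
      (∀ j < 24, d0Mask.testBit j = true → d0Mask.testBit (m24Eval w j) = true) →
      m24Eval w 23 = 23 → m24Eval w 4 = 4 → m24Word w ∈ L := by
    intro w h1 h2 h3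
    rw [mem_L, mem_K11]
    refine ⟨⟨?_, ?_⟩, ?_⟩
    · show _ ∈ stabM24 d0
      rw [mem_stabM24]
      exact ⟨m24Word_mem _, m24Word_smul_setOf _ d0Mask d0Mask rfl h1⟩
    · rw [bp0, m24Word_apply_pt _ (by norm_num), h2]
    · rw [m24Word_apply_pt _ (by norm_num), h3]
  cases b
  · exact key ws (by decide +kernel) (by decide +kernel) (by decide +kernel)
  · exact key wt (by decide +kernel) (by decide +kernel) (by decide +kernel)

theorem E_mem_L (l : List Bool) : E l ∈ L := by
  induction l with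
  | nil => rw [E_nil]; exact L.one_mem
  | cons b l ih =>
    show E ([b] ++ l) ∈ L
    rw [E_append]
    refine L.mul_mem ?_ ih
    have : E [b] = m24Word (gen b) := by simp [E, W]
    rw [this]
    exact gen_mem_L b

/-- words as elements of `L` -/
noncomputable def EL (l : List Bool) : ↥L := ⟨E l, E_mem_L l⟩

theorem EL_append (l l' : List Bool) : EL (l ++ l') = EL l * EL l' :=
  Subtype.ext (E_append l l')

theorem EL_replicate (b : Bool) (k : ℕ) : EL (List.replicate k b) = EL [b] ^ k := by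
  apply Subtype.ext
  rw [Subgroup.coe_pow]
  exact E_replicate b k

theorem EL_eq_one {l : List Bool} (h : ∀ j < 24, m24Eval (W l) j = j) : EL l = 1 :=
  Subtype.ext (E_eq_one h)

theorem EL_ne {l l' : List Bool} (j : ℕ) (hj : j < 24)
    (h : m24Eval (W l) j ≠ m24Eval (W l') j) : EL l ≠ EL l' := fun e =>
  E_ne j hj h (congrArg Subtype.val e)

theorem EL_ne_one {l : List Bool} (j : ℕ) (hj : j < 24) (h : m24Eval (W l) j ≠ j) :
    EL l ≠ 1 := by
  have : (1 : ↥L) = EL [] := Subtype.ext E_nil.symm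
  rw [this]
  exact EL_ne j hj h

/-- the word `u = t³ s t⁸` -/
def lu : List Bool := List.replicate 3 true ++ [false] ++ List.replicate 8 true

/-- the word `s t³` -/
def l5 : List Bool := [false, true, true, true]

theorem rel_s : EL [false] * EL [false] = 1 := by
  rw [← EL_append]; exact EL_eq_one (by decide +kernel)

theorem rel_t : EL [true] ^ 11 = 1 := by
  rw [← EL_replicate]; exact EL_eq_one (by decide +kernel)

theorem t_ne : EL [true] ≠ 1 := EL_ne_one 0 (by norm_num) (by decide +kernel)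

theorem s_ne : EL [false] ≠ 1 := EL_ne_one 0 (by norm_num) (by decide +kernel)

theorem rel_ts : EL [true] * (EL [false] * (EL [true] * (EL [false] * (EL [true] * EL [false]))))
    = 1 := by
  simp only [← EL_append]; exact EL_eq_one (by decide +kernel)

theorem rel_ts3 : (EL [true, false]) ^ 3 = 1 := by
  rw [pow_succ, pow_two]
  simp only [← EL_append]; exact EL_eq_one (by decide +kernel)

theorem ts_ne : EL [true, false] ≠ 1 := EL_ne_one 1 (by norm_num) (by decide +kernel)

theorem rel_5 : (EL l5) ^ 5 = 1 := by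
  rw [show (5 : ℕ) = 2 + 2 + 1 from rfl, pow_succ, pow_add, pow_two]
  simp only [← EL_append]; exact EL_eq_one (by decide +kernel)

theorem l5_ne : EL l5 ≠ 1 := EL_ne_one 0 (by norm_num) (by decide +kernel)

theorem rel_u : EL lu * EL lu = 1 := by
  rw [← EL_append]; exact EL_eq_one (by decide +kernel)

theorem u_ne : EL lu ≠ 1 := EL_ne_one 0 (by norm_num) (by decide +kernel)

theorem s_ne_u : EL [false] ≠ EL lu := EL_ne 0 (by norm_num) (by decide +kernel)

theorem su_comm : EL [false] * EL lu = EL lu * EL [false] := by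
  rw [← EL_append, ← EL_append]
  exact Subtype.ext (E_eq (by decide +kernel))

/-- the subgroup generated by `s` and `t` -/
noncomputable def KK : Subgroup ↥L := Subgroup.closure {EL [false], EL [true]}

theorem EL_mem_KK (l : List Bool) : EL l ∈ KK := by
  induction l with
  | nil =>
    have : EL [] = 1 := Subtype.ext E_nil
    rw [this]; exact KK.one_mem
  | cons b l ih =>
    show EL ([b] ++ l) ∈ KK
    rw [EL_append]
    refine KK.mul_mem ?_ ih
    cases b
    · exact Subgroup.subset_closure (by simp)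
    · exact Subgroup.subset_closure (by simp)

instance : Finite ↥L := Nat.finite_of_card_ne_zero (by rw [card_L]; norm_num)

theorem KK_eq_top : KK = ⊤ := by
  have h4 : 4 ∣ Nat.card KK :=
    four_dvd_card KK (EL_mem_KK [false]) (EL_mem_KK lu) rel_s rel_u s_ne u_ne s_ne_u su_comm
  have hord : ∀ (l : List Bool) (p : ℕ), p.Prime → EL l ^ p = 1 → EL l ≠ 1 → p ∣ Nat.card KK := by
    intro l p hp h1 h2
    haveI : Fact p.Prime := ⟨hp⟩
    have ho : orderOf (⟨EL l, EL_mem_KK l⟩ : ↥KK) = p :=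
      orderOf_eq_prime (Subtype.ext (by rw [Subgroup.coe_pow]; exact h1))
        (fun e => h2 (congrArg Subtype.val e))
    rw [← ho]
    exact orderOf_dvd_natCard _
  have h3 : 3 ∣ Nat.card KK := hord [true, false] 3 (by norm_num) rel_ts3 ts_ne
  have h5 : 5 ∣ Nat.card KK := hord l5 5 (by norm_num) rel_5 l5_ne
  have h11 : 11 ∣ Nat.card KK := hord [true] 11 (by norm_num) rel_t t_ne
  have h12 : 12 ∣ Nat.card KK := by
    have := Nat.Coprime.mul_dvd_of_dvd_of_dvd (by norm_num : Nat.Coprime 4 3) h4 h3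
    simpa using this
  have h60 : 60 ∣ Nat.card KK := by
    have := Nat.Coprime.mul_dvd_of_dvd_of_dvd (by norm_num : Nat.Coprime 12 5) h12 h5
    simpa using this
  have h660 : 660 ∣ Nat.card KK := by
    have := Nat.Coprime.mul_dvd_of_dvd_of_dvd (by norm_num : Nat.Coprime 60 11) h60 h11
    simpa using this
  have hle : Nat.card KK ∣ 660 := by
    have := Subgroup.card_subgroup_dvd_card KK
    rwa [card_L] at this
  apply Subgroup.eq_top_of_card_eq
  rw [card_L]
  exact Nat.dvd_antisymm hle h660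

/-! ### The action on the eleven points of `d0` other than `∞` -/

/-- the eleven points -/
def D11 : Finset GolayPt := d0.erase (pt 23)

theorem mem_D11 {x : GolayPt} : x ∈ D11 ↔ x ≠ pt 23 ∧ x ∈ d0 := by
  simp [D11]

theorem L_apply_mem_D11 {g : Equiv.Perm GolayPt} (hg : g ∈ L) (x : GolayPt) :
    g x ∈ D11 ↔ x ∈ D11 := by
  obtain ⟨hK, _⟩ := mem_L.mp hg
  obtain ⟨hH, hfix⟩ := mem_K11.mp hK
  rw [mem_D11, mem_D11, apply_mem_of_mem_stabM24 hH]
  have h2 : g x ≠ pt 23 ↔ x ≠ pt 23 := by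
    rw [← bp0]
    constructor
    · intro h hx; apply h; rw [hx, hfix]
    · intro h hx; apply h; apply g.injective; rw [hx, hfix]
  rw [h2]

noncomputable instance : MulAction ↥L {x : GolayPt // x ∈ D11} where
  smul g x := ⟨(g : Equiv.Perm GolayPt) x.1, (L_apply_mem_D11 g.2 x.1).mpr x.2⟩
  one_smul x := Subtype.ext rfl
  mul_smul g h x := Subtype.ext rfl

theorem smul_val (g : ↥L) (x : {x : GolayPt // x ∈ D11}) :
    ((g • x : {x : GolayPt // x ∈ D11}) : GolayPt) = (g : Equiv.Perm GolayPt) x.1 := rfl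

/-- five points of `d0` other than `∞` -/
def emb5 : Fin 5 ↪ GolayPt := ⟨![pt 0, pt 1, pt 2, pt 3, pt 6], by decide⟩

set_option maxRecDepth 100000 in
theorem emb5_mem : ∀ i, emb5 i ∈ d0 ∧ emb5 i ∈ D11 := by decide

instance : FaithfulSMul ↥L {x : GolayPt // x ∈ D11} where
  eq_of_smul_eq_smul := by
    intro g h H
    have hmem : (g⁻¹ * h : ↥L).1 ∈ H12 := (mem_K11.mp (mem_L.mp (g⁻¹ * h).2).1).1
    have h1 : ((g⁻¹ * h : ↥L) : Equiv.Perm GolayPt) = 1 := by
      apply eq_one_of_H12_fixes hmem emb5 (fun i => (emb5_mem i).1)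
      intro i
      have := congrArg Subtype.val (H ⟨emb5 i, (emb5_mem i).2⟩)
      rw [smul_val, smul_val] at this
      show ((g⁻¹ : ↥L) : Equiv.Perm GolayPt) ((h : Equiv.Perm GolayPt) (emb5 i)) = emb5 i
      rw [← this]
      show ((g : Equiv.Perm GolayPt)⁻¹) ((g : Equiv.Perm GolayPt) (emb5 i)) = emb5 i
      simp
    have h2 : g⁻¹ * h = 1 := Subtype.ext h1
    exact (inv_mul_eq_one.mp h2)

set_option maxRecDepth 100000 in
theorem reach_tab : ∀ j < 24, d0Mask.testBit j = true → j ≠ 23 →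
    ∃ k < 11, m24Eval (W (List.replicate k true)) 0 = j := by
  decide +kernel

theorem reach (x : {x : GolayPt // x ∈ D11}) :
    ∃ g : ↥L, g • (⟨pt 0, (emb5_mem 0).2⟩ : {x : GolayPt // x ∈ D11}) = x := by
  obtain ⟨hne, hmem⟩ := mem_D11.mp x.2
  have hb : d0Mask.testBit (idx x.1) = true := mem_setOf.mp hmem
  have hn : idx x.1 ≠ 23 := by
    intro h
    apply hne
    rw [← pt_idx x.1, h]
  obtain ⟨k, _, hk⟩ := reach_tab (idx x.1) (idx_lt _) hb hn
  refine ⟨EL (List.replicate k true), Subtype.ext ?_⟩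
  rw [smul_val]
  show E (List.replicate k true) (pt 0) = x.1
  unfold E
  rw [m24Word_apply_pt _ (by norm_num), hk, pt_idx]

instance : MulAction.IsPretransitive ↥L {x : GolayPt // x ∈ D11} where
  exists_smul_eq x y := by
    obtain ⟨g, hg⟩ := reach x
    obtain ⟨h, hh⟩ := reach y
    exact ⟨h * g⁻¹, by rw [mul_smul, ← hg, inv_smul_smul, hh]⟩

set_option maxRecDepth 100000 in
theorem card_D11 : Nat.card {x : GolayPt // x ∈ D11} = 11 := by
  rw [Nat.card_eq_fintype_card, Fintype.card_coe]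
  decide

theorem L_simple : IsSimpleGroup ↥L := by
  haveI : Fact (Nat.Prime 11) := ⟨by norm_num⟩
  apply simple_of_data card_D11 card_L (EL [false]) (EL [true]) rel_s
    (orderOf_eq_prime rel_t t_ne) rel_ts
  exact KK_eq_top

/-- the standard point stabilizer is `PSL(2,11)` -/
theorem L_iso : Nonempty (↥L ≃* Matrix.ProjectiveSpecialLinearGroup (Fin 2) (ZMod 11)) := by
  haveI := L_simple
  haveI : Fact (Nat.Prime 11) := ⟨by norm_num⟩
  exact Cfsg.Agent.S0498.result (G := ↥L) 11 (Or.inl rfl) (by rw [card_L]; norm_num) (F := ZMod 11)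
    (ZMod.card 11)

/-! ### Transport -/

/-- conjugation by an element of `M24` as an isomorphism of subgroups -/
noncomputable def conjEquiv (σ : Equiv.Perm GolayPt) (hσ : σ ∈ M24) (A : Subgroup ↥M24)
    (B : Subgroup (Equiv.Perm GolayPt)) (hB : B ≤ M24)
    (h : ∀ g : ↥M24, g ∈ A ↔ σ * (g : Equiv.Perm GolayPt) * σ⁻¹ ∈ B) : ↥A ≃* ↥B where
  toFun g := ⟨σ * ((g : ↥M24) : Equiv.Perm GolayPt) * σ⁻¹, (h g.1).mp g.2⟩
  invFun b := ⟨⟨σ⁻¹ * (b : Equiv.Perm GolayPt) * σ,
      M24.mul_mem (M24.mul_mem (M24.inv_mem hσ) (hB b.2)) hσ⟩, by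
    rw [h]
    have : σ * (σ⁻¹ * (b : Equiv.Perm GolayPt) * σ) * σ⁻¹ = b := by group
    show σ * (σ⁻¹ * (b : Equiv.Perm GolayPt) * σ) * σ⁻¹ ∈ B
    rw [this]; exact b.2⟩
  left_inv g := by
    apply Subtype.ext; apply Subtype.ext
    show σ⁻¹ * (σ * ((g : ↥M24) : Equiv.Perm GolayPt) * σ⁻¹) * σ = _
    group
  right_inv b := by
    apply Subtype.ext
    show σ * (σ⁻¹ * (b : Equiv.Perm GolayPt) * σ) * σ⁻¹ = _
    group
  map_mul' g g' := by
    apply Subtype.ext
    show σ * (((g : ↥M24) : Equiv.Perm GolayPt) * ((g' : ↥M24) : Equiv.Perm GolayPt)) * σ⁻¹ =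
      (σ * ((g : ↥M24) : Equiv.Perm GolayPt) * σ⁻¹) * (σ * ((g' : ↥M24) : Equiv.Perm GolayPt) * σ⁻¹)
    group

theorem L_le : L ≤ M24 := fun g hg =>
  (mem_stabM24.mp (mem_K11.mp (mem_L.mp hg).1).1).1

/-- The point stabiliser of a Mathieu point stabiliser on the complementary dodecad is `PSL(2,11)`. -/
theorem result (d : Finset Cfsg.GolayPt) (hd : d ∈ Cfsg.dodecads) (p q : Cfsg.GolayPt) (hp : p ∈ d) (hq : q ∉ d) : Nonempty (↥(MulAction.stabilizer Cfsg.M24 d ⊓ MulAction.stabilizer Cfsg.M24 p ⊓ MulAction.stabilizer Cfsg.M24 q) ≃* Matrix.ProjectiveSpecialLinearGroup (Fin 2) (ZMod 11)) := by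
  obtain ⟨ρ, hρ, hρd, hρp⟩ := exists_map_dodecad_point hd hp
  have hρq : ρ q ∉ d0 := by rw [← hρd, apply_mem_perm_smul_finset]; exact hq
  obtain ⟨u, hu, hum⟩ := exists_K11_map_to_baseC 1 (by norm_num) (fun _ => ρ q)
    (by intro a ha b hb _; omega)
    (by intro j _; exact hρq)
  have h0 : u (ρ q) = pt 4 := by simpa [baseC] using hum 0 (by norm_num)
  obtain ⟨huH, hufix⟩ := mem_K11.mp hu
  have huM : u ∈ M24 := (mem_stabM24.mp huH).1
  have hud : u • d0 = d0 := (mem_stabM24.mp huH).2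
  set σ := u * ρ with hσdef
  have hσ : σ ∈ M24 := M24.mul_mem huM hρ
  have hσd : σ • d = d0 := by rw [hσdef, mul_smul, hρd, hud]
  have hσp : σ p = bp 0 := by rw [hσdef, Equiv.Perm.mul_apply, hρp, hufix]
  have hσq : σ q = pt 4 := by rw [hσdef, Equiv.Perm.mul_apply, h0]
  have key : ∀ g : ↥M24, g ∈ (MulAction.stabilizer M24 d ⊓ MulAction.stabilizer M24 p ⊓
      MulAction.stabilizer M24 q) ↔ σ * (g : Equiv.Perm GolayPt) * σ⁻¹ ∈ L := by
    intro g
    rw [mem_L, ← stabM24Pt_d0, ← hσd, ← hσp, ← conj_mem_stabM24Pt hσ d p, ← hσq,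
      conj_apply_eq_iff, mem_stabM24Pt, mem_stabM24]
    simp only [Subgroup.mem_inf, MulAction.mem_stabilizer_iff, M24_smul_def, M24_smul_finset_def]
    constructor
    · rintro ⟨⟨h1, h2⟩, h3⟩; exact ⟨⟨⟨g.2, h1⟩, h2⟩, h3⟩
    · rintro ⟨⟨⟨_, h1⟩, h2⟩, h3⟩; exact ⟨⟨h1, h2⟩, h3⟩
  obtain ⟨e⟩ := L_iso
  exact ⟨(conjEquiv σ hσ _ L L_le key).trans e⟩

end Cfsg.Agent.S1601
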