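import Cfsg.Statements.S1602
import Cfsg.Agent.Lib.Helper7.M12General
import Cfsg.Agent.Lib.Helper27.M24Classes

set_option autoImplicit false
open Cfsg

namespace Cfsg.Agent.S1602
open Cfsg.Agent.Lib.Helper7 Cfsg.Agent.Lib.Helper27
open scoped Pointwise

/-! ### The standard configuration: `d0`, the point `∞ = pt 23` and the pair `{pt 4, pt 5}` -/

/-- the standard pair outside `d0` -/
def pairS : Finset GolayPt := {pt 4, pt 5}

/-- the stabilizer of the standard pair in `M11 = K11` -/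
def L2 : Subgroup (Equiv.Perm GolayPt) :=
  K11 ⊓ MulAction.stabilizer (Equiv.Perm GolayPt) pairS

theorem mem_L2 {g : Equiv.Perm GolayPt} : g ∈ L2 ↔ g ∈ K11 ∧ g • pairS = pairS := by
  simp [L2, MulAction.mem_stabilizer_iff]

theorem bp0 : bp 0 = pt 23 := rfl

theorem pt4_ne_pt5 : pt 4 ≠ pt 5 := by decide

theorem pt4_notMem : pt 4 ∉ d0 := by
  intro h
  have := mem_setOf.mp h
  rw [idx_pt (by norm_num)] at this
  exact absurd this (by decide)

theorem pt5_notMem : pt 5 ∉ d0 := by
  intro h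
  have := mem_setOf.mp h
  rw [idx_pt (by norm_num)] at this
  exact absurd this (by decide)

theorem notMem_of_mem_pairS {y : GolayPt} (hy : y ∈ pairS) : y ∉ d0 := by
  simp only [pairS, Finset.mem_insert, Finset.mem_singleton] at hy
  rcases hy with rfl | rfl
  · exact pt4_notMem
  · exact pt5_notMem

/-- the complement of `d0` -/
def compl0 : Finset GolayPt := Finset.univ.filter fun x => x ∉ d0

theorem mem_compl0 {x : GolayPt} : x ∈ compl0 ↔ x ∉ d0 := by simp [compl0]

set_option maxRecDepth 100000 in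
theorem card_compl0 : compl0.card = 12 := by decide

/-- the pairs of points outside `d0` -/
def pairsO : Finset (Finset GolayPt) := compl0.powersetCard 2

theorem card_pairsO : pairsO.card = 66 := by
  rw [pairsO, Finset.card_powersetCard, card_compl0]
  decide

theorem card_L2 : Nat.card L2 = 120 := by
  have h := card_eq_card_mul_card_inf_stabilizer (P := Equiv.Perm GolayPt) K11 pairS pairsO
    (by
      intro g hg
      have hgH : g ∈ stabM24 d0 := (mem_K11.mp hg).1
      rw [pairsO, Finset.mem_powersetCard]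
      refine ⟨?_, ?_⟩
      · intro x hx
        obtain ⟨y, hy, rfl⟩ := Finset.mem_smul_finset.mp hx
        rw [mem_compl0, Equiv.Perm.smul_def, apply_mem_of_mem_stabM24 hgH]
        exact notMem_of_mem_pairS hy
      · rw [Finset.card_smul_finset]
        exact Finset.card_pair pt4_ne_pt5)
    (by
      intro q hq
      rw [pairsO, Finset.mem_powersetCard] at hq
      obtain ⟨x, y, hxy, rfl⟩ := Finset.card_eq_two.mp hq.2
      have hx : x ∉ d0 := mem_compl0.mp (hq.1 (by simp))
      have hy : y ∉ d0 := mem_compl0.mp (hq.1 (by simp))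
      obtain ⟨g, hg, hgm⟩ := exists_K11_map_to_baseC 2 (by norm_num)
        (fun j => if j = 0 then x else y)
        (by
          intro a ha b hb hab
          interval_cases a <;> interval_cases b <;> simp_all)
        (by
          intro j hj
          interval_cases j <;> simp [hx, hy])
      have h0 : g x = pt 4 := by simpa [baseC] using hgm 0 (by norm_num)
      have h1 : g y = pt 5 := by simpa [baseC] using hgm 1 (by norm_num)
      refine ⟨g, hg, ?_⟩
      rw [Finset.smul_finset_insert, Finset.smul_finset_singleton, Equiv.Perm.smul_def,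
        Equiv.Perm.smul_def, h0, h1]
      rfl)
  rw [card_K11, card_pairsO] at h
  have : Nat.card L2 = Nat.card ↥(K11 ⊓ MulAction.stabilizer (Equiv.Perm GolayPt) pairS) := rfl
  omega

/-! ### The invariant octad -/

/-- the octad `{∞, 4, 5} ∪ {0, 1, 7, 8, 15}` -/
def o6 : Finset GolayPt := setOf 0x8081b3

set_option maxRecDepth 100000 in
theorem o6_mem_octL : 0x8081b3 ∈ octL := by decide +kernel

theorem o6_mem : o6 ∈ octads := setOf_mem_octads7 o6_mem_octL

set_option maxRecDepth 100000 in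
theorem uniq_mask : ∀ m ∈ octL, m.testBit 23 = true → m.testBit 4 = true → m.testBit 5 = true →
    (∀ j < 24, m.testBit j = true → d0Mask.testBit j = true ∨ j = 4 ∨ j = 5) → m = 0x8081b3 := by
  decide +kernel

theorem uniq_o6 : ∀ o ∈ octads, pt 23 ∈ o → pt 4 ∈ o → pt 5 ∈ o →
    (∀ x ∈ o, x ∈ d0 ∨ x = pt 4 ∨ x = pt 5) → o = o6 := by
  apply forall_octads7
  intro m hm h23 h4 h5 hsub
  have e := uniq_mask m hm
    (by have := mem_setOf.mp h23; rwa [idx_pt (by norm_num)] at this)
    (by have := mem_setOf.mp h4; rwa [idx_pt (by norm_num)] at this)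
    (by have := mem_setOf.mp h5; rwa [idx_pt (by norm_num)] at this)
    (by
      intro j hj hb
      have hx : pt j ∈ setOf m := by rw [mem_setOf, idx_pt hj]; exact hb
      rcases hsub _ hx with h | h | h
      · left
        have := mem_setOf.mp h
        rwa [idx_pt hj] at this
      · right; left
        have := congrArg idx h
        rwa [idx_pt hj, idx_pt (by norm_num)] at this
      · right; right
        have := congrArg idx h
        rwa [idx_pt hj, idx_pt (by norm_num)] at this)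
  rw [e]; rfl

set_option maxRecDepth 100000 in
theorem o6_sub : ∀ y : GolayPt, y ∈ o6 → y ∈ d0 ∨ y ∈ pairS := by decide

set_option maxRecDepth 100000 in
theorem o6_facts : pt 23 ∈ o6 ∧ pairS ⊆ o6 := by decide

theorem pairS_mem {x : GolayPt} : x ∈ pairS ↔ x = pt 4 ∨ x = pt 5 := by
  simp [pairS]

theorem L2_smul_o6 {g : Equiv.Perm GolayPt} (hg : g ∈ L2) : g • o6 = o6 := by
  obtain ⟨hK, hpair⟩ := mem_L2.mp hg
  obtain ⟨hH, hfix⟩ := mem_K11.mp hK
  have hM : g ∈ M24 := (mem_stabM24.mp hH).1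
  have hsubset : pairS ⊆ g • o6 := by
    rw [← hpair]
    exact Finset.smul_finset_subset_smul_finset o6_facts.2
  apply uniq_o6 _ ((smul_mem_octads_iff hM).mpr o6_mem)
  · rw [← bp0, ← hfix, apply_mem_perm_smul_finset, bp0]
    exact o6_facts.1
  · exact hsubset (by simp [pairS])
  · exact hsubset (by simp [pairS])
  · intro x hx
    obtain ⟨y, hy, rfl⟩ := Finset.mem_smul_finset.mp hx
    rw [Equiv.Perm.smul_def]
    rcases o6_sub y hy with h | h
    · left
      exact (apply_mem_of_mem_stabM24 hH y).mpr h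
    · right
      have : g y ∈ g • pairS := (apply_mem_perm_smul_finset g pairS y).mpr h
      rw [hpair] at this
      exact pairS_mem.mp this

/-- the five points of the invariant octad inside `d0`, other than `∞` -/
def O5 : Finset GolayPt := {pt 0, pt 1, pt 7, pt 8, pt 15}

set_option maxRecDepth 100000 in
theorem mem_O5_iff : ∀ x : GolayPt, x ∈ O5 ↔ (x ∈ o6 ∧ x ∈ d0 ∧ x ≠ pt 23) := by decide

theorem L2_apply_mem_O5 {g : Equiv.Perm GolayPt} (hg : g ∈ L2) (x : GolayPt) :
    g x ∈ O5 ↔ x ∈ O5 := by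
  obtain ⟨hK, hpair⟩ := mem_L2.mp hg
  obtain ⟨hH, hfix⟩ := mem_K11.mp hK
  rw [mem_O5_iff, mem_O5_iff, apply_mem_of_mem_stabM24 hH]
  have h1 : g x ∈ o6 ↔ x ∈ o6 := by
    conv_lhs => rw [← L2_smul_o6 hg]
    exact apply_mem_perm_smul_finset g o6 x
  have h2 : g x ≠ pt 23 ↔ x ≠ pt 23 := by
    rw [← bp0]
    constructor
    · intro h hx; apply h; rw [hx, hfix]
    · intro h hx; apply h; apply g.injective; rw [hx, hfix]
  rw [h1, h2]

/-- the action of `L2` on the five points -/
noncomputable def φ : ↥L2 →* Equiv.Perm {x : GolayPt // x ∈ O5} where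
  toFun g := Equiv.Perm.subtypePerm (g : Equiv.Perm GolayPt) (fun x => L2_apply_mem_O5 g.2 x)
  map_one' := by
    apply Equiv.ext; intro x; apply Subtype.ext; rfl
  map_mul' g h := by
    apply Equiv.ext; intro x; apply Subtype.ext; rfl

theorem φ_apply (g : ↥L2) (x : {x : GolayPt // x ∈ O5}) :
    ((φ g x : {x : GolayPt // x ∈ O5}) : GolayPt) = (g : Equiv.Perm GolayPt) x := rfl

/-- five points of `d0` -/
def emb5 : Fin 5 ↪ GolayPt := ⟨![pt 0, pt 1, pt 7, pt 8, pt 15], by decide⟩

set_option maxRecDepth 100000 in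
theorem emb5_mem : ∀ i, emb5 i ∈ d0 ∧ emb5 i ∈ O5 := by decide

theorem φ_injective : Function.Injective φ := by
  rw [injective_iff_map_eq_one]
  intro g hg
  have hK := (mem_L2.mp g.2).1
  have hH := (mem_K11.mp hK).1
  apply Subtype.ext
  apply eq_one_of_H12_fixes hH emb5 (fun i => (emb5_mem i).1)
  intro i
  have := φ_apply g ⟨emb5 i, (emb5_mem i).2⟩
  rw [hg] at this
  exact this.symm

theorem card_perm_O5 : Nat.card (Equiv.Perm {x : GolayPt // x ∈ O5}) = 120 := by
  rw [Nat.card_perm, Nat.card_eq_fintype_card, Fintype.card_coe]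
  decide

/-- the standard pair stabilizer is `S5` -/
theorem L2_iso : Nonempty (↥L2 ≃* Equiv.Perm (Fin 5)) := by
  have hbij : Function.Bijective φ :=
    (Nat.bijective_iff_injective_and_card φ).mpr ⟨φ_injective, by rw [card_L2, card_perm_O5]⟩
  have hc : Fintype.card {x : GolayPt // x ∈ O5} = Fintype.card (Fin 5) := by
    rw [Fintype.card_coe, Fintype.card_fin]; decide
  exact ⟨(MulEquiv.ofBijective φ hbij).trans (Fintype.equivOfCardEq hc).permCongrHom⟩

/-! ### Transport -/

/-- conjugation by an element of `M24` as an isomorphism of subgroups -/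
noncomputable def conjEquiv (σ : Equiv.Perm GolayPt) (hσ : σ ∈ M24) (A : Subgroup ↥M24)
    (B : Subgroup (Equiv.Perm GolayPt)) (hB : B ≤ M24)
    (h : ∀ g : ↥M24, g ∈ A ↔ σ * (g : Equiv.Perm GolayPt) * σ⁻¹ ∈ B) : ↥A ≃* ↥B where
  toFun g := ⟨σ * ((g : ↥M24) : Equiv.Perm GolayPt) * σ⁻¹, (h g.1).mp g.2⟩
  invFun b := ⟨⟨σ⁻¹ * (b : Equiv.Perm GolayPt) * σ,
      M24.mul_mem (M24.mul_mem (M24.inv_mem hσ) (hB b.2)) hσ⟩, by
    rw [h]
    have : σ * (σ⁻¹ * (b : Equiv.Perm GolayPt) * σ) * σ⁻¹ = b := by group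
    show σ * (σ⁻¹ * (b : Equiv.Perm GolayPt) * σ) * σ⁻¹ ∈ B
    rw [this]; exact b.2⟩
  left_inv g := by
    apply Subtype.ext; apply Subtype.ext
    show σ⁻¹ * (σ * ((g : ↥M24) : Equiv.Perm GolayPt) * σ⁻¹) * σ = _
    group
  right_inv b := by
    apply Subtype.ext
    show σ * (σ⁻¹ * (b : Equiv.Perm GolayPt) * σ) * σ⁻¹ = _
    group
  map_mul' g g' := by
    apply Subtype.ext
    show σ * (((g : ↥M24) : Equiv.Perm GolayPt) * ((g' : ↥M24) : Equiv.Perm GolayPt)) * σ⁻¹ =
      (σ * ((g : ↥M24) : Equiv.Perm GolayPt) * σ⁻¹) * (σ * ((g' : ↥M24) : Equiv.Perm GolayPt) * σ⁻¹)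
    group

theorem conj_smul_iff (σ g : Equiv.Perm GolayPt) (s : Finset GolayPt) :
    (σ * g * σ⁻¹) • (σ • s) = σ • s ↔ g • s = s := by
  rw [mul_smul, mul_smul, inv_smul_smul]
  exact smul_left_cancel_iff σ

theorem L2_le : L2 ≤ M24 := fun g hg =>
  (mem_stabM24.mp (mem_K11.mp (mem_L2.mp hg).1).1).1

/-- The stabiliser in a Mathieu point stabiliser of a pair of points of the complementary dodecad is `S5`. -/
theorem result (d : Finset Cfsg.GolayPt) (hd : d ∈ Cfsg.dodecads) (p q q' : Cfsg.GolayPt) (hp : p ∈ d) (hq : q ∉ d) (hq' : q' ∉ d) (hqq' : q ≠ q') : Nonempty (↥(MulAction.stabilizer Cfsg.M24 d ⊓ MulAction.stabilizer Cfsg.M24 p ⊓ MulAction.stabilizer Cfsg.M24 ({q, q'} : Finset Cfsg.GolayPt)) ≃* Equiv.Perm (Fin 5)) := by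
  obtain ⟨ρ, hρ, hρd, hρp⟩ := exists_map_dodecad_point hd hp
  have hρq : ρ q ∉ d0 := by rw [← hρd, apply_mem_perm_smul_finset]; exact hq
  have hρq' : ρ q' ∉ d0 := by rw [← hρd, apply_mem_perm_smul_finset]; exact hq'
  obtain ⟨u, hu, hum⟩ := exists_K11_map_to_baseC 2 (by norm_num)
    (fun j => if j = 0 then ρ q else ρ q')
    (by
      intro a ha b hb hab
      have hne : ρ q ≠ ρ q' := fun h => hqq' (ρ.injective h)
      interval_cases a <;> interval_cases b <;> simp_all)
    (by
      intro j hj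
      interval_cases j <;> simp [hρq, hρq'])
  have h0 : u (ρ q) = pt 4 := by simpa [baseC] using hum 0 (by norm_num)
  have h1 : u (ρ q') = pt 5 := by simpa [baseC] using hum 1 (by norm_num)
  obtain ⟨huH, hufix⟩ := mem_K11.mp hu
  have huM : u ∈ M24 := (mem_stabM24.mp huH).1
  have hud : u • d0 = d0 := (mem_stabM24.mp huH).2
  set σ := u * ρ with hσdef
  have hσ : σ ∈ M24 := M24.mul_mem huM hρ
  have hσd : σ • d = d0 := by rw [hσdef, mul_smul, hρd, hud]
  have hσp : σ p = bp 0 := by rw [hσdef, Equiv.Perm.mul_apply, hρp, hufix]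
  have hσpair : σ • ({q, q'} : Finset GolayPt) = pairS := by
    rw [Finset.smul_finset_insert, Finset.smul_finset_singleton, Equiv.Perm.smul_def,
      Equiv.Perm.smul_def, hσdef, Equiv.Perm.mul_apply, Equiv.Perm.mul_apply, h0, h1]
    rfl
  have key : ∀ g : ↥M24, g ∈ (MulAction.stabilizer M24 d ⊓ MulAction.stabilizer M24 p ⊓
      MulAction.stabilizer M24 ({q, q'} : Finset GolayPt)) ↔
      σ * (g : Equiv.Perm GolayPt) * σ⁻¹ ∈ L2 := by
    intro g
    rw [mem_L2, ← stabM24Pt_d0, ← hσd, ← hσp, ← conj_mem_stabM24Pt hσ d p, ← hσpair,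
      conj_smul_iff, mem_stabM24Pt, mem_stabM24]
    simp only [Subgroup.mem_inf, MulAction.mem_stabilizer_iff, M24_smul_def, M24_smul_finset_def]
    constructor
    · rintro ⟨⟨h1, h2⟩, h3⟩; exact ⟨⟨⟨g.2, h1⟩, h2⟩, h3⟩
    · rintro ⟨⟨⟨_, h1⟩, h2⟩, h3⟩; exact ⟨⟨h1, h2⟩, h3⟩
  obtain ⟨e⟩ := L2_iso
  exact ⟨(conjEquiv σ hσ _ L2 L2_le key).trans e⟩

end Cfsg.Agent.S1602
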