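import Cfsg.Statements.S1604
import Cfsg.Agent.Lib.Helper27.M24Flag
import Cfsg.Agent.Lib.Helper27.M24TwoData
-- import your own Cfsg.Agent.* helpers here

set_option autoImplicit false
open scoped Pointwise
open Cfsg

namespace Cfsg.Agent.S1604

open Cfsg.Agent.Lib.Helper27 Cfsg.Agent.Lib.Helper7

theorem twoT_eq : slpT twoProg twoIdx = twoT := by decide +kernel

theorem two_fix : twoT.all (fixesOK [23, 0] [octO]) = true := by decide +kernel

theorem two_classesOK : classesOK twoT twoClasses = true := by decide +kernel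

/-- octads through `∞` and `0` -/
def twoSel (m : ℕ) : Bool := m.testBit 23 && m.testBit 0

theorem two_coverOK : coverOK twoSel octInv twoClasses = true := by decide +kernel

theorem two_orbits : ∀ m ∈ octL, ∀ m' ∈ octL, twoSel m = true → twoSel m' = true →
    octInv m = octInv m' → ∃ g ∈ cfgStab [pt 23, pt 0] [setOf octO], g • setOf m = setOf m' :=
  cfg_orbits twoProg twoIdx twoT twoT_eq [23, 0] [octO] (by decide) two_fix twoSel
    octInv twoClasses (by decide) two_classesOK two_coverOK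

theorem count2 : (octL.filter (fun m => twoSel m && octInv m == 2)).length = 16 := by
  decide +kernel

theorem count4 : (octL.filter (fun m => twoSel m && octInv m == 4)).length = 60 := by
  decide +kernel

theorem base_ncard (k : ℕ) :
    {o' : Finset GolayPt | o' ∈ octads ∧ pt 23 ∈ o' ∧ pt 0 ∈ o' ∧
        (setOf octO ∩ o').card = k}.ncard =
      (octL.filter (fun m => twoSel m && octInv m == k)).length := by
  apply ncard_octads_filter (fun o' => pt 23 ∈ o' ∧ pt 0 ∈ o' ∧ (setOf octO ∩ o').card = k)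
  intro m _
  rw [pt_mem_setOf (by decide), pt_mem_setOf (by decide), card_setOf_inter]
  simp [twoSel, octInv, and_assoc]

theorem base_conj : ∀ o' ∈ octads, ∀ o'' ∈ octads, pt 23 ∈ o' → pt 0 ∈ o' → pt 23 ∈ o'' →
    pt 0 ∈ o'' → (setOf octO ∩ o').card = (setOf octO ∩ o'').card →
    ∃ g ∈ M24, g (pt 23) = pt 23 ∧ g (pt 0) = pt 0 ∧ g • setOf octO = setOf octO ∧
      g • o' = o'' := by
  refine forall_octads7 fun m hm => forall_octads7 fun m' hm' => ?_
  intro h1 h1' h2 h2' h3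
  rw [pt_mem_setOf (by decide)] at h1 h2 h1' h2'
  rw [card_setOf_inter, card_setOf_inter] at h3
  obtain ⟨g, hg, hgm⟩ := two_orbits m hm m' hm' (by simp [twoSel, h1, h1'])
    (by simp [twoSel, h2, h2']) h3
  rw [mem_cfgStab] at hg
  exact ⟨g, hg.1, hg.2.1 _ (by simp), hg.2.1 _ (by simp), hg.2.2 _ (by simp), hgm⟩

/-- A hexad stabiliser in the two-point stabiliser has orbits of sizes 1, 16, 60 on the 77 hexads: the 16 hexads disjoint from it and the 60 meeting it in two points. -/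
theorem result (p q : Cfsg.GolayPt) (hpq : p ≠ q) (o o' o'' : Finset Cfsg.GolayPt) (ho : o ∈ Cfsg.octads) (ho' : o' ∈ Cfsg.octads) (ho'' : o'' ∈ Cfsg.octads) (hp : p ∈ o ∧ p ∈ o' ∧ p ∈ o'') (hq : q ∈ o ∧ q ∈ o' ∧ q ∈ o'') (h : (o ∩ o').card = (o ∩ o'').card) : {x : Finset Cfsg.GolayPt | x ∈ Cfsg.octads ∧ p ∈ x ∧ q ∈ x ∧ (o ∩ x).card = 2}.ncard = 16 ∧ {x : Finset Cfsg.GolayPt | x ∈ Cfsg.octads ∧ p ∈ x ∧ q ∈ x ∧ (o ∩ x).card = 4}.ncard = 60 ∧ ∃ g : Equiv.Perm Cfsg.GolayPt, g ∈ Cfsg.M24 ∧ g p = p ∧ g q = q ∧ g • o = o ∧ g • o' = o'' := by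
  have h23 : pt 23 ∈ setOf octO := by rw [pt_mem_setOf (by decide)]; decide
  have h0 : pt 0 ∈ setOf octO := by rw [pt_mem_setOf (by decide)]; decide
  have hne : pt 23 ≠ pt 0 := by decide
  obtain ⟨g0, hg0, hg0p, hg0q, hg0o⟩ :=
    exists_M24_flag2 ho setOf_octO_mem hpq hne hp.1 hq.1 h23 h0
  have htr : ∀ k : ℕ, {x : Finset GolayPt | x ∈ octads ∧ p ∈ x ∧ q ∈ x ∧
      (o ∩ x).card = k}.ncard =
      (octL.filter (fun m => twoSel m && octInv m == k)).length := by
    intro k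
    rw [← base_ncard k]
    apply ncard_smul_transport g0
    intro s
    rw [smul_mem_octads_iff hg0, ← hg0p, perm_apply_mem_smul_iff, ← hg0q,
      perm_apply_mem_smul_iff, ← hg0o, card_smul_inter_smul]
  refine ⟨by rw [htr 2, count2], by rw [htr 4, count4], ?_⟩
  obtain ⟨h', hh, hhp, hhq, hho, hh'⟩ := base_conj (g0 • o') (smul_mem_octads hg0 ho') (g0 • o'')
    (smul_mem_octads hg0 ho'') (by rw [← hg0p, perm_apply_mem_smul_iff]; exact hp.2.1)
    (by rw [← hg0q, perm_apply_mem_smul_iff]; exact hq.2.1)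
    (by rw [← hg0p, perm_apply_mem_smul_iff]; exact hp.2.2)
    (by rw [← hg0q, perm_apply_mem_smul_iff]; exact hq.2.2)
    (by rw [← hg0o, card_smul_inter_smul, card_smul_inter_smul]; exact h)
  refine ⟨g0⁻¹ * h' * g0, M24.mul_mem (M24.mul_mem (M24.inv_mem hg0) hh) hg0, ?_, ?_, ?_, ?_⟩
  · rw [Equiv.Perm.mul_apply, Equiv.Perm.mul_apply, hg0p, hhp, ← hg0p]
    simp
  · rw [Equiv.Perm.mul_apply, Equiv.Perm.mul_apply, hg0q, hhq, ← hg0q]
    simp
  · rw [mul_smul, mul_smul, hg0o, hho, ← hg0o, inv_smul_smul]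
  · rw [mul_smul, mul_smul, hh', inv_smul_smul]

end Cfsg.Agent.S1604
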