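import Cfsg.Statements.S1605
import Cfsg.Agent.Lib.Helper27.M24Flag
import Cfsg.Agent.Lib.Helper27.M24InOutData
-- import your own Cfsg.Agent.* helpers here

set_option autoImplicit false
open scoped Pointwise
open Cfsg

namespace Cfsg.Agent.S1605

open Cfsg.Agent.Lib.Helper27 Cfsg.Agent.Lib.Helper7

theorem inoutT_eq : slpT inoutProg inoutIdx = inoutT := by decide +kernel

theorem inout_fix : inoutT.all (fixesOK [23, 4] [octO]) = true := by decide +kernel

theorem inout_classesOK : classesOK inoutT inoutClasses = true := by decide +kernel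

/-- octads through `∞` avoiding the point `4` -/
def inoutSel (m : ℕ) : Bool := m.testBit 23 && !m.testBit 4

theorem inout_coverOK : coverOK inoutSel octInv inoutClasses = true := by decide +kernel

theorem inout_orbits : ∀ m ∈ octL, ∀ m' ∈ octL, inoutSel m = true → inoutSel m' = true →
    octInv m = octInv m' → ∃ g ∈ cfgStab [pt 23, pt 4] [setOf octO], g • setOf m = setOf m' :=
  cfg_orbits inoutProg inoutIdx inoutT inoutT_eq [23, 4] [octO] (by decide) inout_fix inoutSel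
    octInv inoutClasses (by decide) inout_classesOK inout_coverOK

theorem count_all : (octL.filter inoutSel).length = 176 := by decide +kernel

theorem count2 : (octL.filter (fun m => inoutSel m && octInv m == 2)).length = 70 := by
  decide +kernel

theorem count4 : (octL.filter (fun m => inoutSel m && octInv m == 4)).length = 105 := by
  decide +kernel

theorem base_ncard_all :
    {o' : Finset GolayPt | o' ∈ octads ∧ pt 23 ∈ o' ∧ pt 4 ∉ o'}.ncard =
      (octL.filter inoutSel).length := by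
  apply ncard_octads_filter (fun o' => pt 23 ∈ o' ∧ pt 4 ∉ o')
  intro m _
  rw [pt_mem_setOf (by decide), pt_mem_setOf (by decide)]
  simp [inoutSel]

theorem base_ncard (k : ℕ) :
    {o' : Finset GolayPt | o' ∈ octads ∧ (pt 23 ∈ o' ∧ pt 4 ∉ o') ∧
        (setOf octO ∩ o').card = k}.ncard =
      (octL.filter (fun m => inoutSel m && octInv m == k)).length := by
  apply ncard_octads_filter (fun o' => (pt 23 ∈ o' ∧ pt 4 ∉ o') ∧ (setOf octO ∩ o').card = k)
  intro m _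
  rw [pt_mem_setOf (by decide), pt_mem_setOf (by decide), card_setOf_inter]
  simp [inoutSel, octInv]

theorem base_conj : ∀ o' ∈ octads, ∀ o'' ∈ octads, pt 23 ∈ o' → pt 4 ∉ o' → pt 23 ∈ o'' →
    pt 4 ∉ o'' → (setOf octO ∩ o').card = (setOf octO ∩ o'').card →
    ∃ g ∈ M24, g (pt 23) = pt 23 ∧ g (pt 4) = pt 4 ∧ g • setOf octO = setOf octO ∧
      g • o' = o'' := by
  refine forall_octads7 fun m hm => forall_octads7 fun m' hm' => ?_
  intro h1 h1' h2 h2' h3
  rw [pt_mem_setOf (by decide)] at h1 h2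
  rw [pt_mem_setOf (by decide), Bool.not_eq_true] at h1' h2'
  rw [card_setOf_inter, card_setOf_inter] at h3
  obtain ⟨g, hg, hgm⟩ := inout_orbits m hm m' hm' (by simp [inoutSel, h1, h1'])
    (by simp [inoutSel, h2, h2']) h3
  rw [mem_cfgStab] at hg
  exact ⟨g, hg.1, hg.2.1 _ (by simp), hg.2.1 _ (by simp), hg.2.2 _ (by simp), hgm⟩

/-- `M24` is 2-transitive, in the form needed here -/
theorem exists_M24_two {p q : GolayPt} (hpq : p ≠ q) : ∃ g ∈ M24, g p = pt 23 ∧ g q = pt 4 := by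
  have h1 : Function.Injective ![p, q] := by
    intro i j hij
    fin_cases i <;> fin_cases j <;> simp_all
  have h2 : Function.Injective ![pt 23, pt 4] := by
    intro i j hij
    fin_cases i <;> fin_cases j <;> first | rfl | (exfalso; revert hij; decide)
  obtain ⟨g, hg, hgXY⟩ := exists_M24_map_emb (k := 2) (by decide) ⟨![p, q], h1⟩ ⟨![pt 23, pt 4], h2⟩
  exact ⟨g, hg, hgXY 0, hgXY 1⟩

/-- The two-point stabiliser acts on the 176 octads through the first point avoiding the second with rank 3 and subdegrees 1, 70, 105 (intersections 8, 2, 4). -/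
theorem result (p q : Cfsg.GolayPt) (hpq : p ≠ q) : {x : Finset Cfsg.GolayPt | (x ∈ Cfsg.octads ∧ p ∈ x ∧ q ∉ x)}.ncard = 176 ∧ (∀ o o' : Finset Cfsg.GolayPt, (o ∈ Cfsg.octads ∧ p ∈ o ∧ q ∉ o) → (o' ∈ Cfsg.octads ∧ p ∈ o' ∧ q ∉ o') → ∃ g : Equiv.Perm Cfsg.GolayPt, g ∈ Cfsg.M24 ∧ g p = p ∧ g q = q ∧ g • o = o') ∧ ∀ o : Finset Cfsg.GolayPt, (o ∈ Cfsg.octads ∧ p ∈ o ∧ q ∉ o) → {x : Finset Cfsg.GolayPt | (x ∈ Cfsg.octads ∧ p ∈ x ∧ q ∉ x) ∧ (o ∩ x).card = 2}.ncard = 70 ∧ {x : Finset Cfsg.GolayPt | (x ∈ Cfsg.octads ∧ p ∈ x ∧ q ∉ x) ∧ (o ∩ x).card = 4}.ncard = 105 ∧ ∀ o' o'' : Finset Cfsg.GolayPt, (o' ∈ Cfsg.octads ∧ p ∈ o' ∧ q ∉ o') → (o'' ∈ Cfsg.octads ∧ p ∈ o'' ∧ q ∉ o'') → (o ∩ o').card = (o ∩ o'').card → ∃ g : Equiv.Perm Cfsg.GolayPt, g ∈ Cfsg.M24 ∧ g p = p ∧ g q = q ∧ g • o = o ∧ g • o' = o'' := by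
  refine ⟨?_, ?_, ?_⟩
  · obtain ⟨g1, hg1, hg1p, hg1q⟩ := exists_M24_two hpq
    rw [← count_all, ← base_ncard_all]
    apply ncard_smul_transport g1
    intro s
    rw [smul_mem_octads_iff hg1, ← hg1p, perm_apply_mem_smul_iff, ← hg1q, perm_apply_mem_smul_iff]
  · rintro o o' ⟨ho, hpo, hqo⟩ ⟨ho', hpo', hqo'⟩
    obtain ⟨g, hg, hgp, hgq, hgo⟩ := exists_M24_flag_out ho hpo hqo
    obtain ⟨g', hg', hgp', hgq', hgo'⟩ := exists_M24_flag_out ho' hpo' hqo'
    refine ⟨g'⁻¹ * g, M24.mul_mem (M24.inv_mem hg') hg, ?_, ?_, ?_⟩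
    · rw [Equiv.Perm.mul_apply, hgp, ← hgp']; simp
    · rw [Equiv.Perm.mul_apply, hgq, ← hgq']; simp
    · rw [mul_smul, hgo, ← hgo', inv_smul_smul]
  · rintro o ⟨ho, hpo, hqo⟩
    obtain ⟨g0, hg0, hg0p, hg0q, hg0o⟩ := exists_M24_flag_out ho hpo hqo
    have htr : ∀ k : ℕ, {x : Finset GolayPt | (x ∈ octads ∧ p ∈ x ∧ q ∉ x) ∧
        (o ∩ x).card = k}.ncard =
        (octL.filter (fun m => inoutSel m && octInv m == k)).length := by
      intro k
      rw [← base_ncard k]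
      apply ncard_smul_transport g0
      intro s
      rw [smul_mem_octads_iff hg0, ← hg0p, perm_apply_mem_smul_iff, ← hg0q,
        perm_apply_mem_smul_iff, ← hg0o, card_smul_inter_smul, and_assoc]
    refine ⟨by rw [htr 2, count2], by rw [htr 4, count4], ?_⟩
    rintro o' o'' ⟨ho', hpo', hqo'⟩ ⟨ho'', hpo'', hqo''⟩ hcard
    obtain ⟨h, hh, hhp, hhq, hho, hh'⟩ := base_conj (g0 • o') (smul_mem_octads hg0 ho') (g0 • o'')
      (smul_mem_octads hg0 ho'') (by rw [← hg0p, perm_apply_mem_smul_iff]; exact hpo')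
      (by rw [← hg0q, perm_apply_mem_smul_iff]; exact hqo')
      (by rw [← hg0p, perm_apply_mem_smul_iff]; exact hpo'')
      (by rw [← hg0q, perm_apply_mem_smul_iff]; exact hqo'')
      (by rw [← hg0o, card_smul_inter_smul, card_smul_inter_smul]; exact hcard)
    refine ⟨g0⁻¹ * h * g0, M24.mul_mem (M24.mul_mem (M24.inv_mem hg0) hh) hg0, ?_, ?_, ?_, ?_⟩
    · rw [Equiv.Perm.mul_apply, Equiv.Perm.mul_apply, hg0p, hhp, ← hg0p]
      simp
    · rw [Equiv.Perm.mul_apply, Equiv.Perm.mul_apply, hg0q, hhq, ← hg0q]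
      simp
    · rw [mul_smul, mul_smul, hg0o, hho, ← hg0o, inv_smul_smul]
    · rw [mul_smul, mul_smul, hh', inv_smul_smul]

end Cfsg.Agent.S1605
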