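import Cfsg.Statements.S1606
import Cfsg.Agent.Lib.Helper7.M22NoIndex

set_option autoImplicit false
open scoped Pointwise
open Cfsg

namespace Cfsg.Agent.S1606

/-- The stabiliser of two points in the group of the length-24 code has no subgroups of index 56 or 210. -/
theorem result (p q : Cfsg.GolayPt) (hpq : p ≠ q) (H : Subgroup ↥(MulAction.stabilizer Cfsg.M24 p ⊓ MulAction.stabilizer Cfsg.M24 q)) : H.index ≠ 56 ∧ H.index ≠ 210 := by
  open Cfsg.Agent.Lib.Helper7 in
  have hA := card_stabilizer_pair_M24 hpq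
  have hidx := Subgroup.index_mul_card H
  rw [hA] at hidx
  let φ : ↥(MulAction.stabilizer Cfsg.M24 p ⊓ MulAction.stabilizer Cfsg.M24 q) →*
      Equiv.Perm GolayPt := (Subgroup.subtype M24).comp (Subgroup.subtype _)
  have hφ : Function.Injective φ :=
    (Subgroup.subtype_injective _).comp (Subgroup.subtype_injective _)
  obtain ⟨g, hg, hgx⟩ := Cfsg.Agent.Lib.Helper7.exists_map_to_base 2 (by decide)
    (fun j => if j = 0 then p else q) (by
      intro a ha b hb hab
      interval_cases a <;> interval_cases b <;> simp_all)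
  have hgp : g p = Cfsg.Agent.Lib.Helper7.bp 0 := by simpa using hgx 0 (by decide)
  have hgq : g q = Cfsg.Agent.Lib.Helper7.bp 1 := by simpa using hgx 1 (by decide)
  let X : Subgroup (Equiv.Perm GolayPt) := (H.map φ).map (MulAut.conj g).toMonoidHom
  have hX : X ≤ Cfsg.Agent.Lib.Helper7.Gst 2 := by
    rintro _ ⟨_, ⟨y, _, rfl⟩, rfl⟩
    rw [Cfsg.Agent.Lib.Helper7.mem_Gst]
    have hy := Subgroup.mem_inf.mp y.2
    have hyp : ((y : ↥M24) : Equiv.Perm GolayPt) p = p := MulAction.mem_stabilizer_iff.mp hy.1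
    have hyq : ((y : ↥M24) : Equiv.Perm GolayPt) q = q := MulAction.mem_stabilizer_iff.mp hy.2
    refine ⟨M24.mul_mem (M24.mul_mem hg (y : ↥M24).2) (M24.inv_mem hg), ?_⟩
    intro j hj
    show (g * ((y : ↥M24) : Equiv.Perm GolayPt) * g⁻¹) _ = _
    have hj' : j = 0 ∨ j = 1 := by omega
    rcases hj' with rfl | rfl
    · rw [← hgp]; simp [hyp]
    · rw [← hgq]; simp [hyq]
  have hcard : Nat.card X = Nat.card H := by
    rw [Subgroup.card_map_of_injective (MulAut.conj g).injective,
      Subgroup.card_map_of_injective hφ]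
  have hne := Cfsg.Agent.Lib.Helper7.card_ne_of_le_Gst2 X hX
  rw [hcard] at hne
  constructor
  · intro h
    rw [h] at hidx
    exact hne.1 (by omega)
  · intro h
    rw [h] at hidx
    exact hne.2 (by omega)

end Cfsg.Agent.S1606
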