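import Cfsg.Statements.S1607
import Cfsg.Agent.Lib.Helper27.M24Flag
-- import your own Cfsg.Agent.* helpers here

set_option autoImplicit false
open scoped Pointwise
open Cfsg

namespace Cfsg.Agent.S1607

open Cfsg.Agent.Lib.Helper27 Cfsg.Agent.Lib.Helper7

theorem count2 : (octL.filter (fun m => flagSel m && octInv m == 2)).length = 112 := by
  decide +kernel

theorem count4 : (octL.filter (fun m => flagSel m && octInv m == 4)).length = 140 := by
  decide +kernel

theorem base_ncard (k : ℕ) :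
    {o' : Finset GolayPt | o' ∈ octads ∧ pt 23 ∈ o' ∧ (setOf octO ∩ o').card = k}.ncard =
      (octL.filter (fun m => flagSel m && octInv m == k)).length := by
  apply ncard_octads_filter (fun o' => pt 23 ∈ o' ∧ (setOf octO ∩ o').card = k)
  intro m _
  rw [pt_mem_setOf (by decide), card_setOf_inter]
  simp [flagSel, octInv]

theorem base_conj : ∀ o' ∈ octads, ∀ o'' ∈ octads, pt 23 ∈ o' → pt 23 ∈ o'' →
    (setOf octO ∩ o').card = (setOf octO ∩ o'').card →
    ∃ g ∈ M24, g (pt 23) = pt 23 ∧ g • setOf octO = setOf octO ∧ g • o' = o'' := by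
  refine forall_octads7 fun m hm => forall_octads7 fun m' hm' => ?_
  intro h1 h2 h3
  rw [pt_mem_setOf (by decide)] at h1 h2
  rw [card_setOf_inter, card_setOf_inter] at h3
  obtain ⟨g, hg, hgm⟩ := flag_orbits m hm m' hm' h1 h2 h3
  rw [mem_flagStab] at hg
  exact ⟨g, hg.1, hg.2.1, hg.2.2, hgm⟩

/-- The point stabiliser acts on the 253 heptads of its S(4, 7, 23) with rank 3 and subdegrees 1, 112, 140 (intersections 8, 2, 4). -/
theorem result (x : Cfsg.GolayPt) (o : Finset Cfsg.GolayPt) (ho : o ∈ Cfsg.octads) (hx : x ∈ o) : {o' : Finset Cfsg.GolayPt | o' ∈ Cfsg.octads ∧ x ∈ o' ∧ (o ∩ o').card = 2}.ncard = 112 ∧ {o' : Finset Cfsg.GolayPt | o' ∈ Cfsg.octads ∧ x ∈ o' ∧ (o ∩ o').card = 4}.ncard = 140 ∧ ∀ o' o'' : Finset Cfsg.GolayPt, o' ∈ Cfsg.octads → o'' ∈ Cfsg.octads → x ∈ o' → x ∈ o'' → (o ∩ o').card = (o ∩ o'').card → ∃ g : Equiv.Perm Cfsg.GolayPt, g ∈ Cfsg.M24 ∧ g x = x ∧ g • o = o ∧ g • o' = o'' := by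
  have h23 : pt 23 ∈ setOf octO := by rw [pt_mem_setOf (by decide)]; decide
  obtain ⟨g0, hg0, hg0x, hg0o⟩ := exists_M24_flag ho setOf_octO_mem hx h23
  have htr : ∀ k : ℕ, {o' : Finset GolayPt | o' ∈ octads ∧ x ∈ o' ∧ (o ∩ o').card = k}.ncard =
      (octL.filter (fun m => flagSel m && octInv m == k)).length := by
    intro k
    rw [← base_ncard k]
    apply ncard_smul_transport g0
    intro s
    rw [smul_mem_octads_iff hg0, ← hg0x, perm_apply_mem_smul_iff, ← hg0o, card_smul_inter_smul]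
  refine ⟨by rw [htr 2, count2], by rw [htr 4, count4], ?_⟩
  intro o' o'' ho' ho'' hxo' hxo'' hcard
  obtain ⟨h, hh, hhx, hho, hh'⟩ := base_conj (g0 • o') (smul_mem_octads hg0 ho') (g0 • o'')
    (smul_mem_octads hg0 ho'') (by rw [← hg0x, perm_apply_mem_smul_iff]; exact hxo')
    (by rw [← hg0x, perm_apply_mem_smul_iff]; exact hxo'')
    (by rw [← hg0o, card_smul_inter_smul, card_smul_inter_smul]; exact hcard)
  refine ⟨g0⁻¹ * h * g0, M24.mul_mem (M24.mul_mem (M24.inv_mem hg0) hh) hg0, ?_, ?_, ?_⟩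
  · rw [Equiv.Perm.mul_apply, Equiv.Perm.mul_apply, hg0x, hhx, ← hg0x]
    simp
  · rw [mul_smul, mul_smul, hg0o, hho, ← hg0o, inv_smul_smul]
  · rw [mul_smul, mul_smul, hh', inv_smul_smul]

end Cfsg.Agent.S1607
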