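import Cfsg.Statements.S1609
import Cfsg.Agent.Lib.Helper92.M24Fix
import Cfsg.Agent.Lib.Helper92.M24Aut
import Cfsg.Agent.Lib.Helper7.M12General
import Cfsg.Agent.Lib.Helper92.OctadStab

set_option autoImplicit false
open scoped Pointwise
open Cfsg

namespace Cfsg.Agent.S1609
open Cfsg.Agent.Lib.Helper7 Cfsg.Agent.Lib.Helper92 Cfsg.Agent.Lib.Helper92.PermCount
  Cfsg.Agent.Lib.Helper92.M24Index Cfsg.Agent.Lib.Helper92.M24Fix Cfsg.Agent.Lib.Helper92.M24Aut
open scoped Pointwise

/-! ### A subgroup of order 40320 of a point stabilizer fixes no second point -/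

theorem no_second_fixed {J : Subgroup (Equiv.Perm GolayPt)} (hJ : J ≤ M24)
    {x y : GolayPt} (hxy : y ≠ x) (hx : FixesAll J {x, y}) (hcard : Nat.card J = 40320) : False := by
  have : Fact (Nat.Prime 7) := ⟨by norm_num⟩
  have : Fact (Nat.Prime 5) := ⟨by norm_num⟩
  have hS2 : ({x, y} : Finset GolayPt).card = 2 := Finset.card_pair (Ne.symm hxy)
  obtain ⟨u, huJ, hu⟩ := exists_orderOf_eq_prime J 7 (by rw [hcard]; norm_num)
  obtain ⟨f, hfJ, hf⟩ := exists_orderOf_eq_prime J 5 (by rw [hcard]; norm_num)
  obtain ⟨w, hw, hfixu⟩ := exists_fixPts_eq_insert (hx.subset_fixPts huJ)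
    (by rw [card_fixPts_7 (hJ huJ) hu, hS2])
  have hmod7 := card_orb_mod_of_insert hx huJ hu hw hfixu
  have hle := hx.card_orb_le hw
  rw [hS2] at hle
  have hmul := card_eq_orb_mul J w
  rw [hcard] at hmul
  have hpos := card_orb_pos J w
  have hmod5 := card_orb_mod hfJ hf w
  have hf2 : (fixIn f (orb J w)).card ≤ 2 := by
    have hsub : fixIn f (orb J w) ⊆ fixPts f \ {x, y} := by
      intro q hq
      rw [mem_fixIn] at hq
      rw [Finset.mem_sdiff]
      exact ⟨mem_fixPts.mpr hq.2, hx.not_mem_orb hw hq.1⟩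
    have h1 := Finset.card_le_card hsub
    rw [Finset.card_sdiff_of_subset (hx.subset_fixPts hfJ), card_fixPts_5 (hJ hfJ) hf, hS2] at h1
    exact h1
  have hdvd : (orb J w).card ∣ 40320 := Dvd.intro _ hmul.symm
  have hcases : (orb J w).card = 1 ∨ (orb J w).card = 15 := by
    have h8 : (orb J w).card ≠ 8 := by
      intro h; rw [h] at hmod5; omega
    have hlt : (orb J w).card < 23 := by omega
    generalize (orb J w).card = k at *
    interval_cases k <;> omega
  have hS3 : (insert w ({x, y} : Finset GolayPt)).card = 3 := by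
    rw [Finset.card_insert_of_notMem hw, hS2]
  rcases hcases with h1 | h15
  · have h3 : FixesAll J (insert w {x, y}) := by
      intro g hg q hq
      rw [Finset.mem_insert] at hq
      rcases hq with rfl | hq
      · exact fixes_of_card_orb_eq_one h1 g hg
      · exact hx g hg q hq
    have := card_dvd_of_fixesAll_three hJ hS3 h3
    rw [hcard] at this
    omega
  · have h3 := hx.inf_stabilizer w
    have hdvd3 := card_dvd_of_fixesAll_three (inf_le_left.trans hJ) hS3 h3
    rw [h15] at hmul
    have : Nat.card ↥(J ⊓ MulAction.stabilizer (Equiv.Perm GolayPt) w) = 2688 := by omega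
    rw [this] at hdvd3
    omega

/-! ### Subgroups fixing nine points -/

/-- An element of order dividing 7 that maps `g` (with `g ^ 3 = 1`) to `g` or `g ^ 2` under
conjugation commutes with `g`. -/
theorem conj_eq_of_pow_seven {G : Type*} [Group G] {g u : G} (hg : g ^ 3 = 1)
    (h : u * g * u⁻¹ = g ∨ u * g * u⁻¹ = g ^ 2) (hu : u ^ 7 = 1) : u * g * u⁻¹ = g := by
  rcases h with h | h
  · exact h
  · have h1 : MulAut.conj u g = g ^ 2 := by rw [MulAut.conj_apply]; exact h
    have h2 : MulAut.conj (u ^ 2) g = g := by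
      rw [map_pow, pow_two, MulAut.mul_apply, h1, map_pow, h1, ← pow_mul]
      calc g ^ (2 * 2) = g ^ 3 * g := by rw [← pow_succ]
        _ = g := by rw [hg, one_mul]
    have h3 : ∀ n : ℕ, MulAut.conj ((u ^ 2) ^ n) g = g := by
      intro n
      induction n with
      | zero => simp
      | succ n ih => rw [pow_succ, map_mul, MulAut.mul_apply, h2, ih]
    have h4 : (u ^ 2) ^ 4 = u := by
      rw [← pow_mul]
      calc u ^ (2 * 4) = u ^ 7 * u := by rw [← pow_succ]
        _ = u := by rw [hu, one_mul]
    have h5 := h3 4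
    rw [h4, MulAut.conj_apply] at h5
    exact h5

/-- A subgroup of `M24` fixing nine points has order dividing 3. -/
theorem card_dvd_three_of_fixes_nine {K : Subgroup (Equiv.Perm GolayPt)} (hK : K ≤ M24)
    {S : Finset GolayPt} (hS : 9 ≤ S.card) (hfix : FixesAll K S) : Nat.card K ∣ 3 := by
  have : Fact (Nat.Prime 2) := ⟨by norm_num⟩
  have h48 := card_dvd_of_five_le hK (by omega) hfix
  have hodd : ¬ 2 ∣ Nat.card K := by
    intro h2
    obtain ⟨z, hzK, hz⟩ := exists_orderOf_eq_prime K 2 h2
    obtain ⟨q, hq⟩ : S.Nonempty := by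
      rw [← Finset.card_pos]; omega
    have hoct := fixPts_mem_octads (hK hzK) hz (hfix z hzK q hq)
    have h8 : (fixPts z).card = 8 := octads_steiner.1 _ hoct
    have := Finset.card_le_card (hfix.subset_fixPts hzK)
    omega
  have hle : Nat.card K ≤ 48 := Nat.le_of_dvd (by norm_num) h48
  generalize Nat.card K = k at *
  interval_cases k <;> omega

/-- The elements of `J` fixing a set pointwise. -/
def fixer (J : Subgroup (Equiv.Perm GolayPt)) (A : Finset GolayPt) :
    Subgroup (Equiv.Perm GolayPt) :=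
  J ⊓ fixingSubgroup (Equiv.Perm GolayPt) (A : Set GolayPt)

theorem mem_fixer {J : Subgroup (Equiv.Perm GolayPt)} {A : Finset GolayPt}
    {g : Equiv.Perm GolayPt} : g ∈ fixer J A ↔ g ∈ J ∧ ∀ q ∈ A, g q = q := by
  unfold fixer
  rw [Subgroup.mem_inf, mem_fixingSubgroup_iff]
  simp

/-- Conjugation by an element of `J` preserves the fixer of an invariant set. -/
theorem conj_mem_fixer {J : Subgroup (Equiv.Perm GolayPt)} {A : Finset GolayPt}
    (hA : ∀ j ∈ J, ∀ q, j q ∈ A ↔ q ∈ A) {g j : Equiv.Perm GolayPt} (hg : g ∈ fixer J A)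
    (hj : j ∈ J) : j * g * j⁻¹ ∈ fixer J A := by
  rw [mem_fixer] at hg ⊢
  refine ⟨J.mul_mem (J.mul_mem hj hg.1) (J.inv_mem hj), fun q hq => ?_⟩
  have h1 : j⁻¹ q ∈ A := by
    rw [← hA j hj]; simpa using hq
  rw [Equiv.Perm.mul_apply, Equiv.Perm.mul_apply, hg.2 _ h1]
  simp

theorem fixer_trivial {J : Subgroup (Equiv.Perm GolayPt)} (hJ : J ≤ M24) {x a b : GolayPt}
    (hx : FixesAll J {x}) (hcover : ∀ q, q = x ∨ q ∈ orb J a ∨ q ∈ orb J b)
    (hA : 8 ≤ (orb J a).card) (hxa : x ∉ orb J a) {u : Equiv.Perm GolayPt} (huJ : u ∈ J)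
    (hu : orderOf u = 7) (hfixu : fixPts u = {x, a, b}) (hbx : b ≠ x) (hba : b ≠ a)
    {g : Equiv.Perm GolayPt} (hg : g ∈ fixer J (orb J a)) : g = 1 := by
  by_contra hne
  set K := fixer J (orb J a) with hKdef
  have hKJ : K ≤ J := inf_le_left
  have hfixK : FixesAll K (insert x (orb J a)) := by
    intro k hk q hq
    rw [Finset.mem_insert] at hq
    rcases hq with rfl | hq
    · exact hx k (hKJ hk) q (Finset.mem_singleton_self q)
    · exact (mem_fixer.mp hk).2 q hq
  have hK3 : Nat.card K ∣ 3 := card_dvd_three_of_fixes_nine (hKJ.trans hJ)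
    (by rw [Finset.card_insert_of_notMem hxa]; omega) hfixK
  have hog : orderOf g ∣ Nat.card K := Subgroup.orderOf_dvd_natCard K hg
  have hog3 : orderOf g = 3 := by
    have h1 : orderOf g ∣ 3 := hog.trans hK3
    have h2 : orderOf g ≠ 1 := fun h => hne (orderOf_eq_one_iff.mp h)
    have h3 : orderOf g ≤ 3 := Nat.le_of_dvd (by norm_num) h1
    have h4 : 0 < orderOf g := Nat.pos_of_dvd_of_pos h1 (by norm_num)
    interval_cases (orderOf g) <;> omega
  have hcardK : Nat.card K = 3 := by
    have h3 : Nat.card K ≤ 3 := Nat.le_of_dvd (by norm_num) hK3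
    have h4 : 3 ≤ Nat.card K := by
      rw [← hog3]; exact Nat.le_of_dvd Nat.card_pos hog
    omega
  have hzp : Subgroup.zpowers g = K := by
    apply Subgroup.eq_of_le_of_card_ge
    · rw [Subgroup.zpowers_le]; exact hg
    · rw [Nat.card_zpowers, hog3, hcardK]
  have hg3 : g ^ 3 = 1 := by rw [← hog3]; exact pow_orderOf_eq_one g
  have hinv : ∀ j ∈ J, ∀ q, j q ∈ orb J a ↔ q ∈ orb J a := fun j hj q => apply_mem_orb_iff hj q
  -- `u` commutes with `g`
  have hconj : u * g * u⁻¹ = g := by
    have hmem : u * g * u⁻¹ ∈ Subgroup.zpowers g := by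
      rw [hzp]; exact conj_mem_fixer hinv hg huJ
    obtain ⟨k, hk⟩ := Subgroup.mem_zpowers_iff.mp hmem
    have hk' : g ^ (k % 3) = u * g * u⁻¹ := by
      have := zpow_mod_orderOf g k
      rw [hog3] at this
      rw [← hk]; exact this
    have hu7 : u ^ 7 = 1 := by rw [← hu]; exact pow_orderOf_eq_one u
    apply conj_eq_of_pow_seven hg3 _ hu7
    have h0 : 0 ≤ k % 3 := Int.emod_nonneg k (by norm_num)
    have h3 : k % 3 < 3 := Int.emod_lt_of_pos k (by norm_num)
    generalize k % 3 = m at *
    interval_cases m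
    · exfalso
      apply hne
      rw [zpow_zero] at hk'
      have : g = u⁻¹ * (u * g * u⁻¹) * u := by group
      rw [this, ← hk']; group
    · left; rw [← hk', zpow_one]
    · right; rw [← hk']; rfl
  have hcomm : u * g = g * u := by
    have := congrArg (· * u) hconj
    simpa using this
  -- `g` fixes `b`
  have hgx : g x = x := hx g (hKJ hg) x (Finset.mem_singleton_self x)
  have hga : g a = a := (mem_fixer.mp hg).2 a (self_mem_orb J a)
  have hub : u b = b := by
    apply mem_fixPts.mp; rw [hfixu]; simp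
  have hgb : g b = b := by
    have h1 : u (g b) = g b := by
      have := congrArg (fun σ : Equiv.Perm GolayPt => σ b) hcomm
      simp only [Equiv.Perm.mul_apply] at this
      rw [this, hub]
    have h2 : g b ∈ fixPts u := mem_fixPts.mpr h1
    rw [hfixu] at h2
    simp only [Finset.mem_insert, Finset.mem_singleton] at h2
    rcases h2 with h2 | h2 | h2
    · exfalso; apply hbx; apply g.injective; rw [h2, hgx]
    · exfalso; apply hba; apply g.injective; rw [h2, hga]
    · exact h2
  -- `g` fixes the orbit of `b`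
  have hgB : ∀ q ∈ orb J b, g q = q := by
    intro q hq
    obtain ⟨j, hj, rfl⟩ := mem_orb.mp hq
    have hmem : j⁻¹ * g * j⁻¹⁻¹ ∈ Subgroup.zpowers g := by
      rw [hzp]; exact conj_mem_fixer hinv hg (J.inv_mem hj)
    obtain ⟨k, hk⟩ := Subgroup.mem_zpowers_iff.mp hmem
    have h1 : (g ^ k) b = b := by
      have hb' : b ∈ MulAction.fixedBy GolayPt g := hgb
      have : g ^ k ∈ MulAction.stabilizer (Equiv.Perm GolayPt) b :=
        (MulAction.stabilizer (Equiv.Perm GolayPt) b).zpow_mem
          (MulAction.mem_stabilizer_iff.mpr hgb) k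
      exact MulAction.mem_stabilizer_iff.mp this
    rw [hk] at h1
    simp only [inv_inv, Equiv.Perm.mul_apply] at h1
    have := congrArg j h1
    simpa using this
  apply hne
  apply Equiv.ext
  intro q
  rcases hcover q with rfl | hq | hq
  · exact hgx
  · exact (mem_fixer.mp hg).2 q hq
  · exact hgB q hq

/-! ### The case of orbits of sizes 8 and 15 -/

/-- The transposition and the 5-cycle of `S_8` used below. -/
theorem perm_facts : (Equiv.swap (0 : Fin 8) 1) ^ 2 = 1 ∧ (Equiv.swap (0 : Fin 8) 1) ≠ 1 ∧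
    (Equiv.swap (0 : Fin 8) 1) 0 = 1 ∧ (Equiv.swap (0 : Fin 8) 1) 1 = 0 ∧
    (List.formPerm [(2 : Fin 8), 3, 4, 5, 6]) 0 = 0 ∧ (List.formPerm [(2 : Fin 8), 3, 4, 5, 6]) 1 = 1 ∧
    (List.formPerm [(2 : Fin 8), 3, 4, 5, 6]) ^ 5 = 1 ∧ (List.formPerm [(2 : Fin 8), 3, 4, 5, 6]) ≠ 1 ∧
    (Equiv.swap (0 : Fin 8) 1) * (List.formPerm [(2 : Fin 8), 3, 4, 5, 6]) =
      (List.formPerm [(2 : Fin 8), 3, 4, 5, 6]) * (Equiv.swap (0 : Fin 8) 1) := by
  decide +kernel

/-- The action of `J` on an invariant set. -/
def restrict (J : Subgroup (Equiv.Perm GolayPt)) (A : Finset GolayPt)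
    (hA : ∀ j ∈ J, ∀ q, j q ∈ A ↔ q ∈ A) : ↥J →* Equiv.Perm {q // q ∈ A} where
  toFun g := (g : Equiv.Perm GolayPt).subtypePerm (hA g g.2)
  map_one' := by
    ext q
    rfl
  map_mul' g h := by
    ext q
    rfl

theorem restrict_apply (J : Subgroup (Equiv.Perm GolayPt)) (A : Finset GolayPt)
    (hA : ∀ j ∈ J, ∀ q, j q ∈ A ↔ q ∈ A) (g : ↥J) (q : {q // q ∈ A}) :
    ((restrict J A hA g) q : GolayPt) = (g : Equiv.Perm GolayPt) q := rfl

theorem no_eight {J : Subgroup (Equiv.Perm GolayPt)} (hJ : J ≤ M24) {x : GolayPt}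
    (hx : FixesAll J {x}) (hcard : Nat.card J = 40320) {A : Finset GolayPt} (hA8 : A.card = 8)
    (hA : ∀ j ∈ J, ∀ q, j q ∈ A ↔ q ∈ A) (htriv : ∀ g ∈ fixer J A, g = 1) : False := by
  have : Fact (Nat.Prime 2) := ⟨by norm_num⟩
  have : Fact (Nat.Prime 5) := ⟨by norm_num⟩
  set φ := restrict J A hA with hφ
  have hinj : Function.Injective φ := by
    rw [injective_iff_map_eq_one]
    intro g hg
    apply Subtype.ext
    apply htriv
    rw [mem_fixer]
    refine ⟨g.2, fun q hq => ?_⟩
    have := congrArg (fun σ : Equiv.Perm {q // q ∈ A} => ((σ ⟨q, hq⟩ : {q // q ∈ A}) : GolayPt)) hg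
    exact this
  have hcardA : Fintype.card {q // q ∈ A} = 8 := by rw [Fintype.card_coe, hA8]
  let e : {q // q ∈ A} ≃ Fin 8 := Fintype.equivFinOfCardEq hcardA
  let ψ : ↥J →* Equiv.Perm (Fin 8) := (Equiv.permCongrHom e).toMonoidHom.comp φ
  have hψinj : Function.Injective ψ := (Equiv.permCongrHom e).injective.comp hinj
  have hψbij : Function.Bijective ψ := by
    apply hψinj.bijective_of_nat_card_le
    rw [hcard, Nat.card_eq_fintype_card, Fintype.card_perm, Fintype.card_fin]
    decide
  have hψapply : ∀ (g : ↥J) (i : Fin 8), ((e.symm (ψ g i) : {q // q ∈ A}) : GolayPt) =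
      (g : Equiv.Perm GolayPt) (e.symm i : {q // q ∈ A}) := by
    intro g i
    show ((e.symm (e (φ g (e.symm i))) : {q // q ∈ A}) : GolayPt) = _
    rw [Equiv.symm_apply_apply]
    rfl
  obtain ⟨h1, h2, h3, h4, h5, h6, h7, h8, h9⟩ := perm_facts
  obtain ⟨t, ht⟩ := hψbij.2 (Equiv.swap (0 : Fin 8) 1)
  obtain ⟨f, hf⟩ := hψbij.2 (List.formPerm [(2 : Fin 8), 3, 4, 5, 6])
  set a0 : GolayPt := ((e.symm 0 : {q // q ∈ A}) : GolayPt) with ha0
  set a1 : GolayPt := ((e.symm 1 : {q // q ∈ A}) : GolayPt) with ha1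
  have ha01 : a0 ≠ a1 := by
    intro h
    have := e.symm.injective (Subtype.ext h)
    exact absurd this (by decide)
  have hta0 : (t : Equiv.Perm GolayPt) a0 = a1 := by
    rw [ha0, ← hψapply t 0, ht, h3]
  have hta1 : (t : Equiv.Perm GolayPt) a1 = a0 := by
    rw [ha1, ← hψapply t 1, ht, h4]
  have hfa0 : (f : Equiv.Perm GolayPt) a0 = a0 := by
    rw [ha0, ← hψapply f 0, hf, h5]
  have hfa1 : (f : Equiv.Perm GolayPt) a1 = a1 := by
    rw [ha1, ← hψapply f 1, hf, h6]
  have hot : orderOf (t : Equiv.Perm GolayPt) = 2 := by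
    rw [Subgroup.orderOf_coe]
    refine orderOf_eq_prime ?_ ?_
    · apply hψinj; rw [map_pow, ht, h1, map_one]
    · intro h; apply h2; rw [← ht, h, map_one]
  have hof : orderOf (f : Equiv.Perm GolayPt) = 5 := by
    rw [Subgroup.orderOf_coe]
    refine orderOf_eq_prime ?_ ?_
    · apply hψinj; rw [map_pow, hf, h7, map_one]
    · intro h; apply h8; rw [← hf, h, map_one]
  have hcomm : (t : Equiv.Perm GolayPt) * f = f * t := by
    have : t * f = f * t := by
      apply hψinj; rw [map_mul, map_mul, ht, hf, h9]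
    exact congrArg Subtype.val this
  have htx : (t : Equiv.Perm GolayPt) x = x := hx t t.2 x (Finset.mem_singleton_self x)
  have hoct := fixPts_mem_octads (hJ t.2) hot htx
  have hO8 : (fixPts (t : Equiv.Perm GolayPt)).card = 8 := octads_steiner.1 _ hoct
  have hf5 : (f : Equiv.Perm GolayPt) ^ 5 = 1 := by rw [← hof]; exact pow_orderOf_eq_one _
  have hinvO : ∀ q, (f : Equiv.Perm GolayPt) q ∈ fixPts (t : Equiv.Perm GolayPt) ↔
      q ∈ fixPts (t : Equiv.Perm GolayPt) := by
    intro q
    rw [mem_fixPts, mem_fixPts]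
    have hc : (t : Equiv.Perm GolayPt) ((f : Equiv.Perm GolayPt) q) =
        (f : Equiv.Perm GolayPt) ((t : Equiv.Perm GolayPt) q) := by
      have := congrArg (fun σ : Equiv.Perm GolayPt => σ q) hcomm
      simpa [Equiv.Perm.mul_apply] using this
    rw [hc]
    exact (f : Equiv.Perm GolayPt).injective.eq_iff
  have hmod := card_fixIn_modEq (p := 5) (f : Equiv.Perm GolayPt) hf5 _ hinvO
  rw [hO8] at hmod
  have hsub : fixIn (f : Equiv.Perm GolayPt) (fixPts (t : Equiv.Perm GolayPt)) ⊆
      ((fixPts (f : Equiv.Perm GolayPt)).erase a0).erase a1 := by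
    intro q hq
    rw [mem_fixIn] at hq
    rw [Finset.mem_erase, Finset.mem_erase]
    refine ⟨?_, ?_, mem_fixPts.mpr hq.2⟩
    · rintro rfl
      have := mem_fixPts.mp hq.1
      rw [hta1] at this
      exact ha01 this
    · rintro rfl
      have := mem_fixPts.mp hq.1
      rw [hta0] at this
      exact ha01 this.symm
  have hcard2 : (((fixPts (f : Equiv.Perm GolayPt)).erase a0).erase a1).card = 2 := by
    rw [Finset.card_erase_of_mem, Finset.card_erase_of_mem (mem_fixPts.mpr hfa0),
      card_fixPts_5 (hJ f.2) hof]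
    rw [Finset.mem_erase]
    exact ⟨Ne.symm ha01, mem_fixPts.mpr hfa1⟩
  have hle := Finset.card_le_card hsub
  rw [hcard2] at hle
  unfold Nat.ModEq at hmod
  omega

/-! ### The duad case -/

theorem duad_case {J : Subgroup (Equiv.Perm GolayPt)} (hJ : J ≤ M24) {x : GolayPt}
    (hx : FixesAll J {x}) (hcard : Nat.card J = 40320) {s : Finset GolayPt} (hs2 : s.card = 2)
    (hxs : x ∉ s) (hinv : ∀ j ∈ J, ∀ q, j q ∈ s ↔ q ∈ s) : J = stabM24Pt s x := by
  have hle : J ≤ stabM24Pt s x := by
    intro j hj
    rw [mem_stabM24Pt, mem_stabM24]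
    exact ⟨⟨hJ hj, perm_smul_eq_of_mem_iff (hinv j hj)⟩, hx j hj x (Finset.mem_singleton_self x)⟩
  apply Subgroup.eq_of_le_of_card_ge hle
  rw [hcard]
  obtain ⟨p, q, hpq, rfl⟩ := Finset.card_eq_two.mp hs2
  set K := stabM24Pt ({p, q} : Finset GolayPt) x with hK
  have hKM : K ≤ M24 := fun g hg => (mem_stabM24.mp (mem_stabM24Pt.mp hg).1).1
  have hKinv : ∀ g ∈ K, ∀ r, g r ∈ ({p, q} : Finset GolayPt) ↔ r ∈ ({p, q} : Finset GolayPt) :=
    fun g hg r => mem_iff_of_perm_smul_eq (mem_stabM24.mp (mem_stabM24Pt.mp hg).1).2 r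
  have hmul := card_eq_orb_mul K p
  have horb : (orb K p).card ≤ 2 := by
    have hsub : orb K p ⊆ {p, q} := orb_subset (by simp) (fun g hg r hr => (hKinv g hg r).mpr hr)
    have := Finset.card_le_card hsub
    rwa [Finset.card_pair hpq] at this
  have hpx : p ≠ x := fun h => hxs (by rw [← h]; simp)
  have hqx : q ≠ x := fun h => hxs (by rw [← h]; simp)
  have hfix3 : FixesAll (K ⊓ MulAction.stabilizer (Equiv.Perm GolayPt) p) {x, p, q} := by
    intro g hg r hr
    have hgp : g p = p := MulAction.mem_stabilizer_iff.mp hg.2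
    simp only [Finset.mem_insert, Finset.mem_singleton] at hr
    rcases hr with rfl | rfl | rfl
    · exact (mem_stabM24Pt.mp hg.1).2
    · exact hgp
    · have h1 : g r ∈ ({p, r} : Finset GolayPt) := (hKinv g hg.1 r).mpr (by simp)
      simp only [Finset.mem_insert, Finset.mem_singleton] at h1
      rcases h1 with h1 | h1
      · exfalso; apply hpq; apply g.injective; rw [hgp, h1]
      · exact h1
  have hc3 : ({x, p, q} : Finset GolayPt).card = 3 := by
    rw [Finset.card_insert_of_notMem, Finset.card_pair hpq]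
    simp only [Finset.mem_insert, Finset.mem_singleton, not_or]
    exact ⟨Ne.symm hpx, Ne.symm hqx⟩
  have hdvd := card_dvd_of_fixesAll_three (inf_le_left.trans hKM) hc3 hfix3
  have hle3 : Nat.card ↥(K ⊓ MulAction.stabilizer (Equiv.Perm GolayPt) p) ≤ 20160 :=
    Nat.le_of_dvd (by norm_num) hdvd
  rw [hmul]
  calc (orb K p).card * Nat.card ↥(K ⊓ MulAction.stabilizer (Equiv.Perm GolayPt) p)
      ≤ 2 * 20160 := Nat.mul_le_mul horb hle3
    _ = 40320 := by norm_num

/-! ### The heptad case -/

theorem heptad_case {J : Subgroup (Equiv.Perm GolayPt)} (hJ : J ≤ M24) {x : GolayPt}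
    (hx : FixesAll J {x}) (hcard : Nat.card J = 40320) {T : Finset GolayPt} (hT7 : T.card = 7)
    (hxT : x ∉ T) (hinv : ∀ j ∈ J, ∀ q, j q ∈ T ↔ q ∈ T) :
    insert x T ∈ octads ∧ J = stabM24Pt (insert x T) x := by
  have : Fact (Nat.Prime 2) := ⟨by norm_num⟩
  have ho8 : (insert x T).card = 8 := by rw [Finset.card_insert_of_notMem hxT, hT7]
  -- the kernel of the action on `T`
  set φ := restrict J T hinv with hφ
  have h1 := Subgroup.card_mul_index φ.ker
  rw [Subgroup.index_ker, hcard] at h1
  have hrange : Nat.card ↥φ.range ≤ 5040 := by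
    have h2 : Nat.card ↥φ.range ≤ Nat.card (Equiv.Perm {q // q ∈ T}) :=
      Nat.le_of_dvd Nat.card_pos (Subgroup.card_subgroup_dvd_card _)
    have h3 : Nat.card (Equiv.Perm {q // q ∈ T}) = 5040 := by
      rw [Nat.card_eq_fintype_card, Fintype.card_perm, Fintype.card_coe, hT7]
      decide
    omega
  have hker8 : 8 ≤ Nat.card ↥φ.ker := by
    by_contra hcon
    push Not at hcon
    have : Nat.card ↥φ.ker * Nat.card ↥φ.range ≤ 7 * 5040 :=
      Nat.mul_le_mul (by omega) hrange
    omega
  set K := φ.ker.map J.subtype with hK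
  have hKcard : Nat.card K = Nat.card ↥φ.ker :=
    Subgroup.card_map_of_injective J.subtype_injective
  have hKJ : K ≤ J := by
    rintro _ ⟨g, -, rfl⟩
    exact g.2
  have hfixK : FixesAll K (insert x T) := by
    rintro _ ⟨g, hg, rfl⟩ q hq
    rw [Finset.mem_insert] at hq
    rcases hq with rfl | hq
    · exact hx g g.2 q (Finset.mem_singleton_self q)
    · have hg1 : φ g = 1 := MonoidHom.mem_ker.mp hg
      have := congrArg (fun σ : Equiv.Perm {q // q ∈ T} => ((σ ⟨q, hq⟩ : {q // q ∈ T}) : GolayPt)) hg1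
      exact this
  have h48 := card_dvd_of_five_le (hKJ.trans hJ) (by omega) hfixK
  have heven : 2 ∣ Nat.card K := by
    have hle : Nat.card K ≤ 48 := Nat.le_of_dvd (by norm_num) h48
    rw [← hKcard] at hker8
    generalize Nat.card K = k at *
    interval_cases k <;> omega
  obtain ⟨z, hzK, hz⟩ := exists_orderOf_eq_prime K 2 heven
  have hzx : z x = x := hfixK z hzK x (Finset.mem_insert_self x T)
  have hoct := fixPts_mem_octads (hKJ.trans hJ hzK) hz hzx
  have hz8 : (fixPts z).card = 8 := octads_steiner.1 _ hoct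
  have heq : insert x T = fixPts z :=
    Finset.eq_of_subset_of_card_le (hfixK.subset_fixPts hzK) (by rw [hz8, ho8])
  have ho : insert x T ∈ octads := by rw [heq]; exact hoct
  refine ⟨ho, ?_⟩
  -- the stabilizer
  have hle : J ≤ stabM24Pt (insert x T) x := by
    intro j hj
    have hjx : j x = x := hx j hj x (Finset.mem_singleton_self x)
    rw [mem_stabM24Pt, mem_stabM24]
    refine ⟨⟨hJ hj, perm_smul_eq_of_mem_iff (fun q => ?_)⟩, hjx⟩
    rw [Finset.mem_insert, Finset.mem_insert, hinv j hj q]
    have : j q = x ↔ q = x := by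
      constructor
      · intro h; exact j.injective (h.trans hjx.symm)
      · intro h; rw [h, hjx]
    rw [this]
  apply Subgroup.eq_of_le_of_card_ge hle
  rw [hcard]
  have hd1 : Nat.card ↥(stabM24Pt (insert x T) x) ∣ 322560 := by
    rw [← card_stabM24_octad ho]
    exact Subgroup.card_dvd_of_le inf_le_left
  have hd2 : Nat.card ↥(stabM24Pt (insert x T) x) ∣ 10200960 := by
    apply card_dvd_of_fixesAll_one (x := x)
    · intro g hg; exact (mem_stabM24.mp (mem_stabM24Pt.mp hg).1).1
    · intro g hg q hq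
      rw [Finset.mem_singleton] at hq
      rw [hq]; exact (mem_stabM24Pt.mp hg).2
  have hd3 := Nat.dvd_gcd hd1 hd2
  have hg : Nat.gcd 322560 10200960 = 40320 := by norm_num
  rw [hg] at hd3
  exact Nat.le_of_dvd (by norm_num) hd3

/-! ### The orbit analysis -/

theorem eight_fifteen {J : Subgroup (Equiv.Perm GolayPt)} (hJ : J ≤ M24) {x a b : GolayPt}
    (hx : FixesAll J {x}) (hcard : Nat.card J = 40320) (hax : a ≠ x) (hbx : b ≠ x)
    (hA8 : (orb J a).card = 8) (hB15 : (orb J b).card = 15) (hba : b ∉ orb J a)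
    {u : Equiv.Perm GolayPt} (huJ : u ∈ J) (hu : orderOf u = 7) (hfixu : fixPts u = {x, a, b}) :
    False := by
  have hxa : x ∉ orb J a := fun h =>
    hx.not_mem_orb (s := a) (by simpa using hax) h (Finset.mem_singleton_self x)
  have hxb : x ∉ orb J b := fun h =>
    hx.not_mem_orb (s := b) (by simpa using hbx) h (Finset.mem_singleton_self x)
  have hdisj : Disjoint (orb J b) (orb J a) := orb_disjoint hba
  have hcover : ∀ q, q = x ∨ q ∈ orb J a ∨ q ∈ orb J b := by
    have hcardU : (insert x (orb J b ∪ orb J a)).card = 24 := by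
      rw [Finset.card_insert_of_notMem, Finset.card_union_of_disjoint hdisj, hA8, hB15]
      rw [Finset.mem_union, not_or]
      exact ⟨hxb, hxa⟩
    have huniv : insert x (orb J b ∪ orb J a) = Finset.univ := by
      apply Finset.eq_univ_of_card
      rw [hcardU]; decide
    intro q
    have hq : q ∈ insert x (orb J b ∪ orb J a) := by rw [huniv]; exact Finset.mem_univ q
    rw [Finset.mem_insert, Finset.mem_union] at hq
    tauto
  have hab : b ≠ a := fun h => hba (h ▸ self_mem_orb J a)
  apply no_eight hJ hx hcard hA8 (fun j hj q => apply_mem_orb_iff hj q)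
  intro g hg
  exact fixer_trivial hJ hx hcover (by omega) hxa huJ hu hfixu hbx hab hg

theorem main_cases {J : Subgroup (Equiv.Perm GolayPt)} (hJ : J ≤ M24) {x : GolayPt}
    (hx : FixesAll J {x}) (hcard : Nat.card J = 40320) :
    (∃ s : Finset GolayPt, s.card = 2 ∧ x ∉ s ∧ ∀ j ∈ J, ∀ q, j q ∈ s ↔ q ∈ s) ∨
    (∃ T : Finset GolayPt, T.card = 7 ∧ x ∉ T ∧ ∀ j ∈ J, ∀ q, j q ∈ T ↔ q ∈ T) := by
  have : Fact (Nat.Prime 7) := ⟨by norm_num⟩
  have : Fact (Nat.Prime 5) := ⟨by norm_num⟩
  obtain ⟨u, huJ, hu⟩ := exists_orderOf_eq_prime J 7 (by rw [hcard]; norm_num)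
  obtain ⟨f, hfJ, hf⟩ := exists_orderOf_eq_prime J 5 (by rw [hcard]; norm_num)
  have hux : x ∈ fixPts u := mem_fixPts.mpr (hx u huJ x (Finset.mem_singleton_self x))
  have hfx : x ∈ fixPts f := mem_fixPts.mpr (hx f hfJ x (Finset.mem_singleton_self x))
  have he2 : ((fixPts u).erase x).card = 2 := by
    rw [Finset.card_erase_of_mem hux, card_fixPts_7 (hJ huJ) hu]
  have hf3 : ((fixPts f).erase x).card = 3 := by
    rw [Finset.card_erase_of_mem hfx, card_fixPts_5 (hJ hfJ) hf]
  obtain ⟨y1, y2, hy12, hye⟩ := Finset.card_eq_two.mp he2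
  have hy1 : y1 ∈ (fixPts u).erase x := by rw [hye]; simp
  have hy2 : y2 ∈ (fixPts u).erase x := by rw [hye]; simp
  rw [Finset.mem_erase] at hy1 hy2
  have hfixu : fixPts u = {x, y1, y2} := by
    rw [← hye, Finset.insert_erase hux]
  -- general facts on orbits of points other than `x`
  have hgen : ∀ w, w ≠ x → (orb J w).card ∣ 40320 ∧ (orb J w).card + 1 ≤ 24 ∧
      0 < (orb J w).card ∧ x ∉ orb J w ∧
      (fixIn f (orb J w)).card ≤ 3 ∧ (fixIn f (orb J w)).card % 5 = (orb J w).card % 5 ∧
      fixIn f (orb J w) ⊆ (fixPts f).erase x := by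
    intro w hw
    have hw' : w ∉ ({x} : Finset GolayPt) := by simpa using hw
    have hxw : x ∉ orb J w := fun h => hx.not_mem_orb hw' h (Finset.mem_singleton_self x)
    have hsub : fixIn f (orb J w) ⊆ (fixPts f).erase x := by
      intro q hq
      rw [mem_fixIn] at hq
      rw [Finset.mem_erase]
      exact ⟨fun h => hxw (h ▸ hq.1), mem_fixPts.mpr hq.2⟩
    refine ⟨Dvd.intro _ (by rw [← card_eq_orb_mul J w, hcard]), ?_, card_orb_pos J w, hxw, ?_,
      card_orb_mod hfJ hf w, hsub⟩
    · have := hx.card_orb_le hw'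
      rwa [Finset.card_singleton] at this
    · have := Finset.card_le_card hsub
      rwa [hf3] at this
  obtain ⟨hd1, hl1, hp1, hx1, hf1, hm1, hs1⟩ := hgen y1 hy1.1
  obtain ⟨hd2, hl2, hp2, hx2, hf2, hm2, hs2⟩ := hgen y2 hy2.1
  have hmod7 : ∀ w, (fixIn u (orb J w)).card % 7 = (orb J w).card % 7 := fun w =>
    card_orb_mod huJ hu w
  by_cases h21 : y2 ∈ orb J y1
  · -- one orbit contains both fixed points
    have hfi : fixIn u (orb J y1) = {y1, y2} := by
      ext q
      rw [mem_fixIn, Finset.mem_insert, Finset.mem_singleton]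
      constructor
      · rintro ⟨hq, hq2⟩
        have : q ∈ fixPts u := mem_fixPts.mpr hq2
        rw [hfixu] at this
        simp only [Finset.mem_insert, Finset.mem_singleton] at this
        rcases this with rfl | h | h
        · exact absurd hq hx1
        · exact Or.inl h
        · exact Or.inr h
      · rintro (rfl | rfl)
        · exact ⟨self_mem_orb J _, mem_fixPts.mp hy1.2⟩
        · exact ⟨h21, mem_fixPts.mp hy2.2⟩
    have h7 := hmod7 y1
    rw [hfi, Finset.card_pair hy12] at h7
    have hcases : (orb J y1).card = 2 ∨ (orb J y1).card = 16 := by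
      generalize (orb J y1).card = k at *
      generalize (fixIn f (orb J y1)).card = m at *
      have hk : k < 24 := by omega
      interval_cases k <;> omega
    rcases hcases with h2 | h16
    · left
      exact ⟨orb J y1, h2, hx1, fun j hj q => apply_mem_orb_iff hj q⟩
    · right
      refine ⟨(insert x (orb J y1))ᶜ, ?_, ?_, ?_⟩
      · rw [Finset.card_compl, Finset.card_insert_of_notMem hx1, h16]
        decide
      · rw [Finset.mem_compl, not_not]
        exact Finset.mem_insert_self _ _
      · intro j hj q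
        have hjx : j x = x := hx j hj x (Finset.mem_singleton_self x)
        rw [Finset.mem_compl, Finset.mem_compl, Finset.mem_insert, Finset.mem_insert,
          apply_mem_orb_iff hj q]
        have : j q = x ↔ q = x := by
          constructor
          · intro h; exact j.injective (h.trans hjx.symm)
          · intro h; rw [h, hjx]
        rw [this]
  · -- the two fixed points lie in different orbits
    exfalso
    have h12 : y1 ∉ orb J y2 := fun h => h21 (mem_orb_symm h)
    have hfi1 : fixIn u (orb J y1) = {y1} := by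
      ext q
      rw [mem_fixIn, Finset.mem_singleton]
      constructor
      · rintro ⟨hq, hq2⟩
        have : q ∈ fixPts u := mem_fixPts.mpr hq2
        rw [hfixu] at this
        simp only [Finset.mem_insert, Finset.mem_singleton] at this
        rcases this with rfl | h | rfl
        · exact absurd hq hx1
        · exact h
        · exact absurd hq h21
      · rintro rfl
        exact ⟨self_mem_orb J _, mem_fixPts.mp hy1.2⟩
    have hfi2 : fixIn u (orb J y2) = {y2} := by
      ext q
      rw [mem_fixIn, Finset.mem_singleton]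
      constructor
      · rintro ⟨hq, hq2⟩
        have : q ∈ fixPts u := mem_fixPts.mpr hq2
        rw [hfixu] at this
        simp only [Finset.mem_insert, Finset.mem_singleton] at this
        rcases this with rfl | rfl | h
        · exact absurd hq hx2
        · exact absurd hq h12
        · exact h
      · rintro rfl
        exact ⟨self_mem_orb J _, mem_fixPts.mp hy2.2⟩
    have h71 := hmod7 y1
    have h72 := hmod7 y2
    rw [hfi1, Finset.card_singleton] at h71
    rw [hfi2, Finset.card_singleton] at h72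
    have hne1 : (orb J y1).card ≠ 1 := by
      intro h1
      have hfix := fixes_of_card_orb_eq_one h1
      refine no_second_fixed hJ hy1.1 ?_ hcard
      intro g hg q hq
      simp only [Finset.mem_insert, Finset.mem_singleton] at hq
      rcases hq with rfl | rfl
      · exact hx g hg q (Finset.mem_singleton_self q)
      · exact hfix g hg
    have hne2 : (orb J y2).card ≠ 1 := by
      intro h1
      have hfix := fixes_of_card_orb_eq_one h1
      refine no_second_fixed hJ hy2.1 ?_ hcard
      intro g hg q hq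
      simp only [Finset.mem_insert, Finset.mem_singleton] at hq
      rcases hq with rfl | rfl
      · exact hx g hg q (Finset.mem_singleton_self q)
      · exact hfix g hg
    have hc1 : (orb J y1).card = 8 ∨ (orb J y1).card = 15 := by
      generalize (orb J y1).card = k at *
      have hk : k < 24 := by omega
      interval_cases k <;> omega
    have hc2 : (orb J y2).card = 8 ∨ (orb J y2).card = 15 := by
      generalize (orb J y2).card = k at *
      have hk : k < 24 := by omega
      interval_cases k <;> omega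
    have hdisj : Disjoint (orb J y2) (orb J y1) := orb_disjoint h21
    have hsum : (orb J y2).card + (orb J y1).card + 1 ≤ 24 := by
      have h1 : (insert x (orb J y2 ∪ orb J y1)).card = (orb J y2).card + (orb J y1).card + 1 := by
        rw [Finset.card_insert_of_notMem, Finset.card_union_of_disjoint hdisj]
        rw [Finset.mem_union, not_or]
        exact ⟨hx2, hx1⟩
      rw [← h1]
      have h24 : (Finset.univ : Finset GolayPt).card = 24 := by decide
      rw [← h24]
      exact Finset.card_le_univ _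
    rcases hc1 with h8 | h15
    · rcases hc2 with h8' | h15'
      · -- both of size 8: too many fixed points of `f`
        have e1 : (fixIn f (orb J y1)).card = 3 := by rw [h8] at hm1; omega
        have e2 : (fixIn f (orb J y2)).card = 3 := by rw [h8'] at hm2; omega
        have hd : Disjoint (fixIn f (orb J y2)) (fixIn f (orb J y1)) := by
          rw [Finset.disjoint_left]
          intro q hq2 hq1
          exact (Finset.disjoint_left.mp hdisj) (mem_fixIn.mp hq2).1 (mem_fixIn.mp hq1).1
        have hsub : fixIn f (orb J y2) ∪ fixIn f (orb J y1) ⊆ (fixPts f).erase x :=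
          Finset.union_subset hs2 hs1
        have := Finset.card_le_card hsub
        rw [Finset.card_union_of_disjoint hd, e1, e2, hf3] at this
        omega
      · exact eight_fifteen hJ hx hcard hy1.1 hy2.1 h8 h15' h21 huJ hu hfixu
    · rcases hc2 with h8' | h15'
      · refine eight_fifteen hJ hx hcard hy2.1 hy1.1 h8' h15 h12 huJ hu ?_
        rw [hfixu]
        ext q
        simp only [Finset.mem_insert, Finset.mem_singleton]
        tauto
      · omega

/-! ### Transport to subgroups of the point stabilizer -/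

/-- The inclusion of the point stabilizer into the symmetric group. -/
def incl (x : GolayPt) : ↥(MulAction.stabilizer M24 x) →* Equiv.Perm GolayPt :=
  M24.subtype.comp (MulAction.stabilizer M24 x).subtype

theorem incl_injective (x : GolayPt) : Function.Injective (incl x) :=
  M24.subtype_injective.comp (MulAction.stabilizer M24 x).subtype_injective

theorem incl_mem (x : GolayPt) (h : ↥(MulAction.stabilizer M24 x)) : incl x h ∈ M24 :=
  (h : ↥M24).2

theorem incl_fix (x : GolayPt) (h : ↥(MulAction.stabilizer M24 x)) : incl x h x = x :=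
  MulAction.mem_stabilizer_iff.mp h.2

theorem transport {x : GolayPt} (H : Subgroup ↥(MulAction.stabilizer M24 x)) (s : Finset GolayPt)
    (hJ : H.map (incl x) = stabM24Pt s x) :
    H = (MulAction.stabilizer M24 s).subgroupOf (MulAction.stabilizer M24 x) := by
  ext h
  rw [Subgroup.mem_subgroupOf, MulAction.mem_stabilizer_iff, M24_smul_finset_def]
  constructor
  · intro hh
    have h1 : incl x h ∈ stabM24Pt s x := by
      rw [← hJ]; exact Subgroup.mem_map_of_mem _ hh
    exact (mem_stabM24.mp (mem_stabM24Pt.mp h1).1).2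
  · intro hs
    have h1 : incl x h ∈ H.map (incl x) := by
      rw [hJ, mem_stabM24Pt, mem_stabM24]
      exact ⟨⟨incl_mem x h, hs⟩, incl_fix x h⟩
    obtain ⟨h', hh', he⟩ := Subgroup.mem_map.mp h1
    rw [← incl_injective x he]
    exact hh'

/-- Subgroups of index 253 in the Mathieu group of degree 23 are exactly the duad stabilisers and the heptad stabilisers. -/
theorem result (x : Cfsg.GolayPt) (H : Subgroup ↥(MulAction.stabilizer Cfsg.M24 x)) (hH : H.index = 253) : (∃ s : Finset Cfsg.GolayPt, s.card = 2 ∧ x ∉ s ∧ H = (MulAction.stabilizer Cfsg.M24 s).subgroupOf (MulAction.stabilizer Cfsg.M24 x)) ∨ ∃ o ∈ Cfsg.octads, x ∈ o ∧ H = (MulAction.stabilizer Cfsg.M24 o).subgroupOf (MulAction.stabilizer Cfsg.M24 x) := by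
  set J := H.map (incl x) with hJdef
  have hcardH : Nat.card H = 40320 := by
    have h1 := Subgroup.card_mul_index H
    rw [hH, card_stabilizer_M24 x] at h1
    omega
  have hcard : Nat.card J = 40320 := by
    rw [hJdef, Subgroup.card_map_of_injective (incl_injective x), hcardH]
  have hJ : J ≤ M24 := by
    rintro _ ⟨h, -, rfl⟩
    exact incl_mem x h
  have hx : FixesAll J {x} := by
    rintro _ ⟨h, -, rfl⟩ q hq
    rw [Finset.mem_singleton] at hq
    rw [hq]
    exact incl_fix x h
  rcases main_cases hJ hx hcard with ⟨s, hs2, hxs, hinv⟩ | ⟨T, hT7, hxT, hinv⟩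
  · left
    exact ⟨s, hs2, hxs, transport H s (duad_case hJ hx hcard hs2 hxs hinv)⟩
  · right
    obtain ⟨ho, hJo⟩ := heptad_case hJ hx hcard hT7 hxT hinv
    exact ⟨insert x T, ho, Finset.mem_insert_self x T, transport H _ hJo⟩

end Cfsg.Agent.S1609
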