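import Cfsg.Statements.S1610
import Cfsg.Agent.Lib.Helper27.Hexacode
-- import your own Cfsg.Agent.* helpers here

set_option autoImplicit false
open Cfsg

namespace Cfsg.Agent.S1610

open Cfsg.Agent.Lib.Helper27

theorem wt_cases4 : ∀ p : P3, w4 p ≠ 0 → (Finset.univ.filter fun i => w4 p i ≠ 0).card = 4 ∨
    (Finset.univ.filter fun i => w4 p i ≠ 0).card = 6 := by
  decide +kernel

theorem count4 : (Finset.univ.filter fun p : P3 =>
    (Finset.univ.filter fun i => w4 p i ≠ 0).card = 4).card = 45 := by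
  decide +kernel

theorem count6 : (Finset.univ.filter fun p : P3 =>
    (Finset.univ.filter fun i => w4 p i ≠ 0).card = 6).card = 18 := by
  decide +kernel

/-- The hexacode has 64 words, minimum weight 4, and weight distribution 0^1 4^45 6^18. -/
theorem result (F : Type*) [Field F] [Fintype F] [DecidableEq F] (hF : Fintype.card F = 4) (ω : F) (hω : ω ^ 2 + ω + 1 = 0) : Nat.card ↥(Cfsg.hexacode F ω) = 64 ∧ (∀ x ∈ Cfsg.hexacode F ω, x ≠ 0 → (Finset.univ.filter fun i => x i ≠ 0).card = 4 ∨ (Finset.univ.filter fun i => x i ≠ 0).card = 6) ∧ {x : Fin 6 → F | x ∈ Cfsg.hexacode F ω ∧ (Finset.univ.filter fun i => x i ≠ 0).card = 4}.ncard = 45 ∧ {x : Fin 6 → F | x ∈ Cfsg.hexacode F ω ∧ (Finset.univ.filter fun i => x i ≠ 0).card = 6}.ncard = 18 := by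
  refine ⟨hexacode_card hF hω, ?_, ?_, ?_⟩
  · intro x hx hx0
    obtain ⟨p, rfl⟩ := (mem_hexacode_iff hF hω x).mp hx
    rw [wt_emb hF hω]
    apply wt_cases4 p
    intro h
    apply hx0
    funext k
    simp only [emb, h]
    rfl
  · rw [hex_ncard hF hω _ (fun y => (Finset.univ.filter fun i => y i ≠ 0).card = 4)
      (fun y => by rw [wt_emb hF hω])]
    exact count4
  · rw [hex_ncard hF hω _ (fun y => (Finset.univ.filter fun i => y i ≠ 0).card = 6)
      (fun y => by rw [wt_emb hF hω])]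
    exact count6

end Cfsg.Agent.S1610
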