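import Cfsg.Statements.S1611
import Cfsg.Agent.Lib.Helper27.HexAut
import Cfsg.Agent.Lib.Helper27.AltGen
-- import your own Cfsg.Agent.* helpers here

set_option autoImplicit false
open Cfsg

namespace Cfsg.Agent.S1611

open Cfsg.Agent.Lib.Helper27

section
variable {F : Type*} [Field F] [Fintype F] (hF : Fintype.card F = 4) {ω : F}
  (hω : ω ^ 2 + ω + 1 = 0)

include hF hω in
/-- the concrete monomial map models the abstract one -/
theorem mono_emb (σ : Equiv.Perm (Fin 6)) (c : Fin 6 → Fˣ) (c4 : Fin 6 → Fin 4)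
    (hc : ∀ i, ι ω (c4 i) = (c i : F)) (y : Fin 6 → Fin 4) :
    monomialMap σ c (emb ω y) = emb ω (mono4 σ c4 y) := by
  funext i
  simp only [monomialMap_apply, emb, mono4]
  rw [← hc i, ι_mul_eq hF hω]

include hF hω in
theorem emb_G1_mem : emb ω G1 ∈ hexacode F ω := by
  have : emb ω G1 = (![ω, ω ^ 2, ω ^ 2, ω, ω ^ 2, ω] : Fin 6 → F) := (gen1_eq hF hω).symm
  rw [this]
  exact Submodule.subset_span (by simp)

include hF hω in
theorem emb_G2_mem : emb ω G2 ∈ hexacode F ω := by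
  have : emb ω G2 = (![ω ^ 2, ω, ω, ω ^ 2, ω ^ 2, ω] : Fin 6 → F) := (gen2_eq hF hω).symm
  rw [this]
  exact Submodule.subset_span (by simp)

include hF hω in
theorem emb_G3_mem : emb ω G3 ∈ hexacode F ω := by
  have : emb ω G3 = (![ω ^ 2, ω, ω ^ 2, ω, ω, ω ^ 2] : Fin 6 → F) := (gen3_eq hF hω).symm
  rw [this]
  exact Submodule.subset_span (by simp)

include hF hω in
/-- abstract preservation is equivalent to the concrete check on generators -/
theorem monoPres_iff (σ : Equiv.Perm (Fin 6)) (c : Fin 6 → Fˣ) (c4 : Fin 6 → Fin 4)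
    (hc : ∀ i, ι ω (c4 i) = (c i : F)) :
    MonoPres (hexacode F ω) σ c ↔ Pres4 σ c4 := by
  constructor
  · intro h
    refine ⟨?_, ?_, ?_⟩
    · have := h _ (emb_G1_mem hF hω)
      rw [mono_emb hF hω σ c c4 hc] at this
      exact (emb_mem_hexacode_iff hF hω _).mp this
    · have := h _ (emb_G2_mem hF hω)
      rw [mono_emb hF hω σ c c4 hc] at this
      exact (emb_mem_hexacode_iff hF hω _).mp this
    · have := h _ (emb_G3_mem hF hω)
      rw [mono_emb hF hω σ c c4 hc] at this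
      exact (emb_mem_hexacode_iff hF hω _).mp this
  · rintro ⟨h1, h2, h3⟩
    unfold hexacode
    apply monoPres_of_span
    intro x hx
    simp only [Set.mem_insert_iff, Set.mem_singleton_iff] at hx
    change monomialMap σ c x ∈ hexacode F ω
    rcases hx with rfl | rfl | rfl
    · rw [gen1_eq hF hω]
      change monomialMap σ c (emb ω G1) ∈ _
      rw [mono_emb hF hω σ c c4 hc]
      exact (emb_mem_hexacode_iff hF hω _).mpr h1
    · rw [gen2_eq hF hω]
      change monomialMap σ c (emb ω G2) ∈ _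
      rw [mono_emb hF hω σ c c4 hc]
      exact (emb_mem_hexacode_iff hF hω _).mpr h2
    · rw [gen3_eq hF hω]
      change monomialMap σ c (emb ω G3) ∈ _
      rw [mono_emb hF hω σ c c4 hc]
      exact (emb_mem_hexacode_iff hF hω _).mpr h3

include hF hω in
/-- every family of units comes from a concrete coefficient vector with nonzero entries -/
theorem exists_c4 (c : Fin 6 → Fˣ) :
    ∃ c4 : Fin 6 → Fin 4, (∀ i, ι ω (c4 i) = (c i : F)) ∧ ∀ i, c4 i ≠ 0 := by
  choose c4 hc4 using fun i => ι_surjective hF hω (c i : F)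
  refine ⟨c4, hc4, fun i h0 => ?_⟩
  have := hc4 i
  rw [h0] at this
  exact Units.ne_zero (c i) this.symm

include hF hω in
/-- every concrete coefficient vector with nonzero entries comes from a family of units -/
theorem exists_c (c4 : Fin 6 → Fin 4) (h : ∀ i, c4 i ≠ 0) :
    ∃ c : Fin 6 → Fˣ, ∀ i, ι ω (c4 i) = (c i : F) :=
  ⟨fun i => Units.mk0 (ι ω (c4 i)) (fun h0 => h i ((ι_eq_zero_iff hF hω _).mp h0)), fun _ => rfl⟩

include hF hω in
theorem diag_scalar (c : Fin 6 → Fˣ) (h : MonoPres (hexacode F ω) 1 c) : ∀ i j, c i = c j := by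
  obtain ⟨c4, hc4, hne⟩ := exists_c4 hF hω c
  obtain ⟨q1, q2, rfl⟩ := c4of_surj c4 hne
  have hP := (monoPres_iff hF hω 1 c _ hc4).mp h
  intro i j
  apply Units.ext
  rw [← hc4 i, ← hc4 j, kernel4 q1 q2 hP i j]

include hF hω in
theorem swap_mul_swap_mem (a b c d : Fin 6) (hab : a ≠ b) (hcd : c ≠ d) :
    ∃ u : Fin 6 → Fˣ, MonoPres (hexacode F ω) (Equiv.swap a b * Equiv.swap c d) u := by
  obtain ⟨c4, hP, hne⟩ := wit_spec a b c d hab hcd
  obtain ⟨u, hu⟩ := exists_c hF hω c4 hne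
  exact ⟨u, (monoPres_iff hF hω _ u c4 hu).mpr hP⟩

include hF hω in
theorem alt_mem (σ : Equiv.Perm (Fin 6)) (hσ : σ ∈ alternatingGroup (Fin 6)) :
    ∃ u : Fin 6 → Fˣ, MonoPres (hexacode F ω) σ u := by
  refine alternating_induction (fun σ => ∃ u : Fin 6 → Fˣ, MonoPres (hexacode F ω) σ u)
    ⟨_, monoPres_one _⟩ ?_ (swap_mul_swap_mem hF hω) σ hσ
  rintro σ τ ⟨u, hu⟩ ⟨v, hv⟩
  exact ⟨_, monoPres_mul hu hv⟩

include hF hω in
theorem swap01_not_mem : ¬ ∃ u : Fin 6 → Fˣ, MonoPres (hexacode F ω) (Equiv.swap 0 1) u := by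
  rintro ⟨u, hu⟩
  obtain ⟨c4, hc4, hne⟩ := exists_c4 hF hω u
  obtain ⟨q1, q2, rfl⟩ := c4of_surj c4 hne
  exact swap01_not q1 q2 ((monoPres_iff hF hω _ u _ hc4).mp hu)

include hF hω in
theorem perm_parts : {σ : Equiv.Perm (Fin 6) | ∃ c : Fin 6 → Fˣ, MonoPres (hexacode F ω) σ c} =
    (alternatingGroup (Fin 6) : Set (Equiv.Perm (Fin 6))) := by
  ext σ
  simp only [Set.mem_ofPred_eq, SetLike.mem_coe]
  constructor
  · rintro ⟨u, hu⟩
    by_contra hσ
    rw [Equiv.Perm.mem_alternatingGroup] at hσ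
    have hs : Equiv.Perm.sign σ = -1 := by
      rcases Int.units_eq_one_or (Equiv.Perm.sign σ) with h | h
      · exact absurd h hσ
      · exact h
    have hτ : σ⁻¹ * Equiv.swap 0 1 ∈ alternatingGroup (Fin 6) := by
      rw [Equiv.Perm.mem_alternatingGroup, map_mul, map_inv, hs,
        Equiv.Perm.sign_swap (by decide : (0 : Fin 6) ≠ 1)]
      decide
    obtain ⟨v, hv⟩ := alt_mem hF hω _ hτ
    apply swap01_not_mem hF hω
    have := monoPres_mul hu hv
    rw [mul_inv_cancel_left] at this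
    exact ⟨_, this⟩
  · exact alt_mem hF hω σ

end

/-- The monomial automorphism group of the hexacode has order 1080: its diagonal part is the scalars and its permutation parts form the alternating group of degree 6. -/
theorem result (F : Type*) [Field F] [Fintype F] [DecidableEq F] (hF : Fintype.card F = 4) (ω : F) (hω : ω ^ 2 + ω + 1 = 0) : Nat.card {f : Equiv.Perm (Fin 6) × (Fin 6 → Fˣ) // (∀ x ∈ Cfsg.hexacode F ω, Cfsg.monomialMap f.1 f.2 x ∈ Cfsg.hexacode F ω)} = 1080 ∧ (∀ c : Fin 6 → Fˣ, (∀ x ∈ Cfsg.hexacode F ω, Cfsg.monomialMap 1 c x ∈ Cfsg.hexacode F ω) → ∀ i j, c i = c j) ∧ {σ : Equiv.Perm (Fin 6) | ∃ c : Fin 6 → Fˣ, (∀ x ∈ Cfsg.hexacode F ω, Cfsg.monomialMap σ c x ∈ Cfsg.hexacode F ω)} = (alternatingGroup (Fin 6) : Set (Equiv.Perm (Fin 6))) := by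
  have hdiag : ∀ c : Fin 6 → Fˣ, MonoPres (hexacode F ω) 1 c → ∀ i j, c i = c j :=
    diag_scalar hF hω
  have hperm := perm_parts hF hω
  refine ⟨?_, hdiag, hperm⟩
  have hfin : Finite (hexacode F ω) := inferInstance
  have h1 := monoAut_card (H := hexacode F ω) (0 : Fin 6) hdiag
  have h2 : Nat.card {σ : Equiv.Perm (Fin 6) // ∃ c : Fin 6 → Fˣ, MonoPres (hexacode F ω) σ c} =
      360 := by
    have e : {σ : Equiv.Perm (Fin 6) // ∃ c : Fin 6 → Fˣ, MonoPres (hexacode F ω) σ c} ≃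
        alternatingGroup (Fin 6) :=
      Equiv.subtypeEquivRight (fun σ => by
        have := Set.ext_iff.mp hperm σ
        simpa using this)
    rw [Nat.card_congr e, nat_card_alternatingGroup]
    simp [Nat.factorial]
  have h3 : Nat.card Fˣ = 3 := by
    rw [Nat.card_eq_fintype_card, Fintype.card_units, hF]
  change Nat.card {f : Equiv.Perm (Fin 6) × (Fin 6 → Fˣ) // MonoPres (hexacode F ω) f.1 f.2} = 1080
  rw [h1, h2, h3]

end Cfsg.Agent.S1611
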