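import Cfsg.Statements.S1612
import Cfsg.Agent.S0215
import Cfsg.Agent.Lib.Helper8.FischerTrans5
import Cfsg.Agent.Lib.Helper8.FischerTrans6

set_option autoImplicit false
open Cfsg

namespace Cfsg.Agent.S1612

/-- In a 3-transposition group (no solvable normal subgroup, perfect derived group), the normaliser of a commuting set of transpositions of maximum size contains a Sylow 2-subgroup and is doubly transitive on the set. -/
theorem result {G : Type*} [Group G] [Finite G] (hsol : ∀ N : Subgroup G, N.Normal → Group.IsSolvable ↥N → N = ⊥) (hperf : ⁅commutator G, commutator G⁆ = commutator G) {D : Set G} (hD : Cfsg.IsThreeTranspositionClass D) {E : Set G} (hE : E ⊆ D) (hc : ∀ a ∈ E, ∀ b ∈ E, Commute a b) (hmax : ∀ E' : Set G, E' ⊆ D → (∀ a ∈ E', ∀ b ∈ E', Commute a b) → E'.ncard ≤ E.ncard) : (∃ P : Sylow 2 G, (P : Subgroup G) ≤ Subgroup.normalizer E) ∧ ∀ a ∈ E, ∀ b ∈ E, ∀ c ∈ E, ∀ d ∈ E, a ≠ b → c ≠ d → ∃ g ∈ Subgroup.normalizer E, g * a * g⁻¹ = c ∧ g * b * g⁻¹ = d := by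
  have hZs : ∀ H : Subgroup G, Cfsg.Agent.Lib.Helper58.ZStarProd.ZStarHyp ↥H :=
    fun H P u hu huP hiso => Cfsg.Agent.S0215.result P u hu huP hiso
  have hZq : ∀ N : Subgroup G, ∀ _ : N.Normal,
      Cfsg.Agent.Lib.Helper58.ZStarProd.ZStarHyp (G ⧸ N) :=
    fun N _ P u hu huP hiso => Cfsg.Agent.S0215.result P u hu huP hiso
  have hG := Cfsg.Agent.Lib.Helper90.class_to_group hD
  have hD2 : ∃ a ∈ D, ∃ b ∈ D, a ≠ b := by
    by_contra hcon
    push Not at hcon
    obtain ⟨-, ⟨d₀, hd₀, -⟩, hgen⟩ := hD
    -- `G` is abelian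
    have hab : ∀ x ∈ Subgroup.closure D, ∀ y ∈ Subgroup.closure D, Commute x y := by
      intro x hx
      induction hx using Subgroup.closure_induction with
      | mem v hv =>
        intro y hy
        induction hy using Subgroup.closure_induction with
        | mem w hw => rw [hcon v hv w hw]
        | one => exact Commute.one_right v
        | mul a b _ _ ha hb => exact ha.mul_right hb
        | inv a _ ha => exact ha.inv_right
      | one => intro y _; exact Commute.one_left y
      | mul a b _ _ ha hb => intro y hy; exact (ha y hy).mul_left (hb y hy)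
      | inv a _ ha => intro y hy; exact (ha y hy).inv_left
    have hsolv : Group.IsSolvable ↥(⊤ : Subgroup G) := by
      apply Group.isSolvable_of_comm
      intro a b
      apply Subtype.ext
      exact (hab a.1 (by rw [hgen]; exact Subgroup.mem_top _) b.1
        (by rw [hgen]; exact Subgroup.mem_top _)).eq
    have htb : (⊤ : Subgroup G) = ⊥ := hsol ⊤ inferInstance hsolv
    have h1 : d₀ = 1 := by
      have : d₀ ∈ (⊤ : Subgroup G) := Subgroup.mem_top d₀
      rwa [htb, Subgroup.mem_bot] at this
    have h2 := hG.1.1 d₀ hd₀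
    rw [h1, orderOf_one] at h2
    omega
  have hprim := Cfsg.Agent.Lib.Helper8.FT.prim_of_nosolv_perfect hZs hZq hD hsol hperf hD2
  exact Cfsg.Agent.Lib.Helper8.FT.max_commuting_set hG hprim hE hc hmax

end Cfsg.Agent.S1612
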