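import Cfsg.Statements.S1615
import Cfsg.Agent.S0215
import Cfsg.Agent.Lib.Helper8.FischerTrans5
import Cfsg.Agent.Lib.Helper90.FisOddF

set_option autoImplicit false
open Cfsg

namespace Cfsg.Agent.S1615

/-- If O(⟨D_x⟩) is not central in ⟨D_x⟩ for some transposition x, the 3-transposition group is the symmetric group of degree 5. -/
theorem result {G : Type*} [Group G] [Finite G] (hsol : ∀ N : Subgroup G, N.Normal → Group.IsSolvable ↥N → N = ⊥) (hperf : ⁅commutator G, commutator G⁆ = commutator G) {D : Set G} (hD : Cfsg.IsThreeTranspositionClass D) (x : G) (hx : x ∈ D) (h : ¬ Cfsg.oddCore ↥(Subgroup.closure {y : G | y ∈ D ∧ y ≠ x ∧ Commute x y}) ≤ Subgroup.center ↥(Subgroup.closure {y : G | y ∈ D ∧ y ≠ x ∧ Commute x y})) : Nonempty (G ≃* Equiv.Perm (Fin 5)) := by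
  have hZs : ∀ H : Subgroup G, Cfsg.Agent.Lib.Helper58.ZStarProd.ZStarHyp ↥H :=
    fun H P u hu huP hiso => Cfsg.Agent.S0215.result P u hu huP hiso
  have hZq : ∀ N : Subgroup G, ∀ _ : N.Normal,
      Cfsg.Agent.Lib.Helper58.ZStarProd.ZStarHyp (G ⧸ N) :=
    fun N _ P u hu huP hiso => Cfsg.Agent.S0215.result P u hu huP hiso
  have hZ : Subgroup.center G = ⊥ := by
    apply hsol _ inferInstance
    apply Group.isSolvable_of_comm
    intro a b
    apply Subtype.ext
    have := (Subgroup.mem_center_iff.1 b.2) a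
    simpa using this
  have : Fact (Nat.Prime 3) := ⟨Nat.prime_three⟩
  have h3 : pCore 3 G = ⊥ := by
    apply hsol _ (Cfsg.Agent.Lib.Helper90.pCore_normal 3 G)
    have : Group.IsNilpotent ↥(pCore 3 G) :=
      (Cfsg.Agent.Lib.Helper90.pCore_isPGroup 3 G).isNilpotent
    infer_instance
  have hD2 : ∃ a ∈ D, ∃ b ∈ D, a ≠ b := by
    by_contra hno
    apply h
    have hempty : {y : G | y ∈ D ∧ y ≠ x ∧ Commute x y} = ∅ := by
      ext y
      simp only [Set.mem_ofPred_eq, Set.mem_empty_iff_false, iff_false]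
      rintro ⟨hy, hne, -⟩
      exact hno ⟨x, hx, y, hy, fun e => hne e.symm⟩
    intro n _
    rw [Subgroup.mem_center_iff]
    intro g
    have hbot : ∀ k : ↥(Subgroup.closure {y : G | y ∈ D ∧ y ≠ x ∧ Commute x y}), k = 1 := by
      intro k
      have hcl : Subgroup.closure {y : G | y ∈ D ∧ y ≠ x ∧ Commute x y} = ⊥ := by
        rw [hempty, Subgroup.closure_empty]
      have hk : (k : G) ∈ (⊥ : Subgroup G) := hcl.le k.2
      rw [Subgroup.mem_bot] at hk
      exact Subtype.ext hk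
    rw [hbot g, hbot n]
  have hprim := Cfsg.Agent.Lib.Helper8.FT.prim_of_nosolv_perfect hZs hZq hD hsol hperf hD2
  exact Cfsg.Agent.Lib.Helper90.fischer_odd_core_s5 hZs hD hprim hZ h3 hx h

end Cfsg.Agent.S1615
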