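import Cfsg.Statements.S1628
-- import your own Cfsg.Agent.* helpers here
import Cfsg.Agent.Lib.Helper89.RuLat
import Cfsg.Agent.Lib.Helper89.RuLatData

set_option autoImplicit false
open Cfsg

namespace Cfsg.Agent.S1628

open Cfsg.Agent.Lib.Helper89


/-- The Conway–Wales lattice as stored is even with no vectors of true norm 2: stored norms are multiples of 8, never equal to 8, and the minimum over nonzero vectors is 16. -/
theorem result : (∀ x ∈ Cfsg.Spor.ruLattice, (8 : ℤ) ∣ Cfsg.Spor.ruNorm x) ∧ (∀ x ∈ Cfsg.Spor.ruLattice, Cfsg.Spor.ruNorm x ≠ 8) ∧ (∀ x ∈ Cfsg.Spor.ruLattice, x ≠ 0 → 16 ≤ Cfsg.Spor.ruNorm x) ∧ ∃ x ∈ Cfsg.Spor.ruLattice, Cfsg.Spor.ruNorm x = 16 := by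
  refine ⟨fun x hx => RuLatData.even_of_mem hx, fun x hx => RuLatData.norm_ne_eight hx,
    fun x hx hx0 => ?_, ?_⟩
  · have h8 := RuLatData.even_of_mem hx
    have hne := RuLatData.norm_ne_eight hx
    have hnn := RuLat.ruNorm_nonneg x
    have h0 : Cfsg.Spor.ruNorm x ≠ 0 := fun h => hx0 (RuLat.eq_zero_of_ruNorm x h)
    omega
  · refine ⟨Cfsg.Spor.ruTable.getD 0 0, ?_, ?_⟩
    · rw [Cfsg.Spor.ruLattice, AddSubgroup.mem_sInf]
      intro L hL
      exact hL.1 _ (by simp [Cfsg.Spor.ruTable])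
    · decide +kernel

end Cfsg.Agent.S1628
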