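import Cfsg.Statements.S1631
import Mathlib
import Cfsg.Agent.S0837
import Cfsg.Agent.S0781
import Cfsg.Agent.S2644
import Cfsg.Agent.S0780
import Cfsg.Agent.Lib.Helper13.Herm
import Cfsg.Agent.Lib.Helper37.UnitaryGen
import Cfsg.Agent.Lib.Helper37.UnitarySimple

set_option autoImplicit false
open scoped MatrixGroups
open Cfsg

namespace Cfsg.Agent.S1631

open Matrix Module Cfsg.Agent.S0837 Cfsg.Agent.S0781 Cfsg.Agent.S2644 Cfsg.Agent.Lib.Helper37

section aux
variable {F : Type*} [Field F] (σ : F →+* F) {n : ℕ}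

theorem rank_ne_zero_of_ne_zero (M : Matrix (Fin n) (Fin n) F) (h : M ≠ 0) : M.rank ≠ 0 := by
  intro h0
  apply h
  unfold Matrix.rank at h0
  rw [Submodule.finrank_eq_zero] at h0
  apply Matrix.toLin'.injective
  apply LinearMap.ext
  intro x
  have : M.mulVecLin x ∈ LinearMap.range M.mulVecLin := ⟨x, rfl⟩
  rw [h0, Submodule.mem_bot] at this
  rw [Matrix.toLin'_apply, map_zero]
  exact this

/-- rank one and determinant one give a transvection -/
theorem isTransvection_of_rank_one_det (S : Matrix (Fin n) (Fin n) F) (hr : (S - 1).rank = 1)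
    (hd : S.det = 1) : Cfsg.IsTransvection S := by
  refine ⟨hr, ?_⟩
  obtain ⟨a, b, hab⟩ := exists_vecMulVec_of_rank_one (S - 1) hr
  have hS : S = 1 + vecMulVec a b := by rw [← hab]; abel
  have hba : b ⬝ᵥ a = 0 := by
    rw [hS, vecMulVec_eq Unit, det_one_add_replicateCol_mul_replicateRow] at hd
    linear_combination hd
  rw [hab, vecMulVec_mul_vecMulVec, hba, zero_smul]
  ext i j
  simp [vecMulVec_apply]

theorem tv_ne_one (hσ2 : ∀ a, σ (σ a) = a) (v : Fin n → F) (hv : v ≠ 0) (c : F) (hc : c ≠ 0) :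
    tv σ v c ≠ 1 := by
  intro h
  obtain ⟨y, hy⟩ := exists_hf_ne_zero σ hσ2 v hv
  have h1 : tv σ v c *ᵥ y = y := by rw [h, one_mulVec]
  rw [tv_mulVec] at h1
  have h2 : (c * hf σ y v) • v = 0 := by
    have := congrArg (fun z => z - y) h1
    simpa using this
  rcases smul_eq_zero.mp h2 with h3 | h3
  · exact (mul_ne_zero hc hy) h3
  · exact hv h3

theorem rank_tv_sub_one (hσ2 : ∀ a, σ (σ a) = a) (v : Fin n → F) (hv : v ≠ 0) (c : F)
    (hc : c ≠ 0) : (tv σ v c - 1).rank = 1 := by
  have h : tv σ v c - 1 = vecMulVec (c • v) (σ ∘ v) := by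
    unfold tv sieg
    have h2 : (σ ∘ (0 : Fin n → F)) = 0 := funext fun j => map_zero σ
    rw [h2, Matrix.vecMulVec_zero, sub_zero, zero_add]
    abel
  have h1 : (tv σ v c - 1).rank ≤ 1 := by rw [h]; exact rank_vecMulVec_le _ _
  have h2 : (tv σ v c - 1).rank ≠ 0 := by
    apply rank_ne_zero_of_ne_zero
    intro h0
    exact tv_ne_one σ hσ2 v hv c hc (sub_eq_zero.mp h0)
  omega

end aux

section four
variable {F : Type*} [Field F] [Fintype F] (σ : F →+* F) {n : ℕ}

theorem two_eq_zero (hF : Fintype.card F = 4) : (2 : F) = 0 := by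
  have h4 : ((Fintype.card F : ℕ) : F) = 0 := Nat.cast_card_eq_zero F
  rw [hF] at h4
  have h5 : (2 : F) * 2 = 0 := by
    have : ((4 : ℕ) : F) = 2 * 2 := by norm_num
    rw [← this]; exact h4
  rcases mul_eq_zero.mp h5 with h | h <;> exact h

theorem norm_eq_one (hF : Fintype.card F = 4) (hσ : ∀ x, σ x = x ^ 2) (a : F) (ha : a ≠ 0) :
    a * σ a = 1 := by
  have := FiniteField.pow_card_sub_one_eq_one a ha
  rw [hF] at this
  rw [hσ, ← pow_succ']
  exact this

theorem trace_zero_eq_one (hF : Fintype.card F = 4) (hσ : ∀ x, σ x = x ^ 2) (c : F) (hc : c ≠ 0)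
    (hc0 : c + σ c = 0) : c = 1 := by
  have h2 := two_eq_zero hF
  rw [hσ] at hc0
  have h3 : c * (1 + c) = 0 := by linear_combination hc0
  rcases mul_eq_zero.mp h3 with h | h
  · exact absurd h hc
  · linear_combination h - h2

end four

/-- The unitary transvections of SU(n, 2), n ≥ 4, form a generating conjugacy class of 3-transpositions. -/
theorem result (F : Type) [Field F] [Fintype F] [DecidableEq F] (hF : Fintype.card F = 4) (n : ℕ) (hn : 4 ≤ n) : Cfsg.IsThreeTranspositionClass {g : ↥(Cfsg.SU n F 2) | (((g : Matrix.SpecialLinearGroup (Fin n) F) : Matrix (Fin n) (Fin n) F) - 1).rank = 1} := by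
  have hF2 : Fintype.card F = 2 ^ 2 := by rw [hF]; norm_num
  obtain ⟨σ, hσ, hσ2⟩ := Cfsg.Agent.Lib.Helper13.exists_frob hF2
  have hne := frob_ne_id σ hF2 hσ
  have h2 : (2 : F) = 0 := two_eq_zero hF
  have h11 : (1 : F) + 1 = 0 := by rw [one_add_one_eq_two]; exact h2
  have hσ1 : (1 : F) + σ 1 = 0 := by rw [map_one]; exact h11
  set ι : ↥(Cfsg.SU n F 2) →* GL (Fin n) F :=
    Matrix.SpecialLinearGroup.toGL.comp (Cfsg.SU n F 2).subtype with hι
  have hιc : ∀ A : ↥(Cfsg.SU n F 2), mat ι A =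
      ((A : Matrix.SpecialLinearGroup (Fin n) F) : Matrix (Fin n) (Fin n) F) := fun A => rfl
  have hιinj : Function.Injective ι := by
    intro A B hAB
    apply Subtype.ext
    apply Subtype.ext
    have := congrArg (fun g : GL (Fin n) F => (g : Matrix (Fin n) (Fin n) F)) hAB
    exact this
  have hpres : ∀ (A : ↥(Cfsg.SU n F 2)) (x y : Fin n → F),
      hf σ (mat ι A *ᵥ x) (mat ι A *ᵥ y) = hf σ x y := by
    intro A x y
    rw [hιc, ← hermForm_eq_hf σ hσ, ← hermForm_eq_hf σ hσ]
    exact A.2 x y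
  have hdet : ∀ A : ↥(Cfsg.SU n F 2), (mat ι A).det = 1 := by
    intro A
    rw [hιc]
    exact (A : Matrix.SpecialLinearGroup (Fin n) F).2
  -- existence of the group element of a transvection
  have hmk : ∀ v : Fin n → F, hf σ v v = 0 → ∃ A : ↥(Cfsg.SU n F 2), mat ι A = tv σ v 1 := by
    intro v hv
    have hd : (tv σ v 1).det = 1 := by rw [tv_det, hv, mul_zero, add_zero]
    have hmem : (⟨tv σ v 1, hd⟩ : Matrix.SpecialLinearGroup (Fin n) F) ∈ Cfsg.SU n F 2 := by
      intro x y
      rw [hermForm_eq_hf σ hσ, hermForm_eq_hf σ hσ]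
      show hf σ (tv σ v 1 *ᵥ x) (tv σ v 1 *ᵥ y) = hf σ x y
      rw [hf_tv σ hσ2, hσ1, hv]
      ring
    exact ⟨⟨_, hmem⟩, rfl⟩
  set D : Set ↥(Cfsg.SU n F 2) := {g : ↥(Cfsg.SU n F 2) |
    (((g : Matrix.SpecialLinearGroup (Fin n) F) : Matrix (Fin n) (Fin n) F) - 1).rank = 1} with hD
  -- characterisation of `D`
  have hchar : ∀ A : ↥(Cfsg.SU n F 2), A ∈ D ↔
      ∃ v : Fin n → F, v ≠ 0 ∧ hf σ v v = 0 ∧ mat ι A = tv σ v 1 := by
    intro A
    constructor
    · intro hA
      have hA' : (mat ι A - 1).rank = 1 := hA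
      have htr := isTransvection_of_rank_one_det (mat ι A) hA' (hdet A)
      obtain ⟨v, c, hv, hc, hvv, hct, hS⟩ := exists_tv_of_isTransvection σ hσ2 _ htr (hpres A)
      have hc1 := trace_zero_eq_one σ hF hσ c hc hct
      exact ⟨v, hv, hvv, by rw [hS, hc1]⟩
    · rintro ⟨v, hv, -, hA⟩
      show (mat ι A - 1).rank = 1
      rw [hA]
      exact rank_tv_sub_one σ hσ2 v hv 1 one_ne_zero
  have htvsq : ∀ v : Fin n → F, hf σ v v = 0 → tv σ v 1 * tv σ v 1 = 1 := by
    intro v hv
    rw [tv_mul_tv σ v hv, h11]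
    show sieg σ v 0 0 = 1
    rw [sieg_zero]
  have hsq : ∀ A ∈ D, A * A = 1 := by
    intro A hA
    obtain ⟨v, hv, hvv, hAm⟩ := (hchar A).mp hA
    apply hιinj
    apply Units.ext
    show mat ι (A * A) = mat ι 1
    rw [mat_mul, mat_one, hAm, htvsq v hvv]
  have hne1 : ∀ A ∈ D, A ≠ 1 := by
    intro A hA h1
    obtain ⟨v, hv, hvv, hAm⟩ := (hchar A).mp hA
    rw [h1, mat_one] at hAm
    exact tv_ne_one σ hσ2 v hv 1 one_ne_zero hAm.symm
  refine ⟨⟨?_, ?_⟩, ?_, ?_⟩
  · -- order two
    intro A hA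
    exact orderOf_eq_prime (by rw [pow_two]; exact hsq A hA) (hne1 A hA)
  · -- products
    intro d hd e he
    obtain ⟨u, hu, huu, hdm⟩ := (hchar d).mp hd
    obtain ⟨v, hv, hvv, hem⟩ := (hchar e).mp he
    have hdd := hsq d hd
    have hee := hsq e he
    by_cases huv : hf σ v u = 0
    · left
      have hvu : hf σ u v = 0 := by rw [hf_symm σ hσ2, huv, map_zero]
      have hcomm : d * e = e * d := by
        apply hιinj
        apply Units.ext
        show mat ι (d * e) = mat ι (e * d)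
        rw [mat_mul, mat_mul, hdm, hem]
        apply Matrix.toLin'.injective
        apply LinearMap.ext
        intro x
        rw [Matrix.toLin'_apply, Matrix.toLin'_apply, ← mulVec_mulVec, ← mulVec_mulVec, tv_mulVec,
          tv_mulVec, tv_mulVec, tv_mulVec]
        simp only [hf_add_left, hf_smul_left, huv, hvu]
        module
      calc (d * e) ^ 2 = d * (e * d) * e := by rw [pow_two]; group
        _ = d * (d * e) * e := by rw [hcomm]
        _ = (d * d) * (e * e) := by group
        _ = 1 := by rw [hdd, hee, one_mul]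
    · right
      set a := hf σ v u with ha
      have hσa : hf σ u v = σ a := hf_symm σ hσ2 u v
      have hN : a * σ a = 1 := norm_eq_one σ hF hσ a huv
      have hσa0 : σ a ≠ 0 := map_ne_zero_of_invol σ hσ2 huv
      have hbraid : d * e * d = e * d * e := by
        apply hιinj
        apply Units.ext
        show mat ι (d * e * d) = mat ι (e * d * e)
        rw [mat_mul, mat_mul, mat_mul, mat_mul, hdm, hem]
        have h1 : tv σ u 1 * tv σ v 1 * tv σ u 1 = tv σ (tv σ u 1 *ᵥ v) 1 := by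
          rw [tv_conj σ (tv σ u 1) (fun x y => by rw [hf_tv σ hσ2, hσ1, huu]; ring) v 1,
            Matrix.mul_assoc, htvsq u huu, Matrix.mul_one]
        have h2 : tv σ v 1 * tv σ u 1 * tv σ v 1 = tv σ (tv σ v 1 *ᵥ u) 1 := by
          rw [tv_conj σ (tv σ v 1) (fun x y => by rw [hf_tv σ hσ2, hσ1, hvv]; ring) u 1,
            Matrix.mul_assoc, htvsq v hvv, Matrix.mul_one]
        rw [h1, h2, tv_mulVec, tv_mulVec, one_mul, one_mul, ← ha, hσa]
        have h3 : u + σ a • v = σ a • (v + a • u) := by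
          rw [smul_add, smul_smul, mul_comm, hN, one_smul, add_comm]
        rw [h3, tv_smul_center σ hσ2, hσ2, mul_comm (σ a) a, hN, mul_one]
      calc (d * e) ^ 3 = (d * e * d) * (e * d * e) := by rw [pow_succ, pow_two]; group
        _ = (e * d * e) * (e * d * e) := by rw [hbraid]
        _ = e * d * (e * e) * d * e := by group
        _ = e * (d * d) * e := by rw [hee]; group
        _ = 1 := by rw [hdd, mul_one, hee]
  · -- a single conjugacy class
    obtain ⟨u₀, v₀, hp⟩ := exists_HP σ hne hσ2 (n := n) (by omega)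
    obtain ⟨d, hdm⟩ := hmk u₀ hp.uu
    have hdD : d ∈ D := (hchar d).mpr ⟨u₀, hp.ne_zero, hp.uu, hdm⟩
    refine ⟨d, hdD, ?_⟩
    ext A
    show A ∈ D ↔ IsConj d A
    constructor
    · intro hA
      have h1 := isTransvection_of_rank_one_det (mat ι d) hdD (hdet d)
      have h2 := isTransvection_of_rank_one_det (mat ι A) hA (hdet A)
      exact Cfsg.Agent.S2644.result hF2 (by omega) d A h1 h2
    · intro hconj
      rw [isConj_iff] at hconj
      obtain ⟨g, hg⟩ := hconj
      rw [hchar]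
      refine ⟨mat ι g *ᵥ u₀, ?_, by rw [hpres, hp.uu], ?_⟩
      · intro h0
        have := hpres g u₀ v₀
        rw [h0, hf_zero_left, hp.uv hσ2] at this
        exact zero_ne_one this
      · rw [← hg, mat_mul, mat_mul, hdm, tv_conj σ (mat ι g) (hpres g), Matrix.mul_assoc,
          mat_mul_inv, Matrix.mul_one]
  · -- generation
    rw [eq_top_iff, ← Cfsg.Agent.S0780.result hF2 n (by omega) (by omega), Subgroup.closure_le]
    rintro A ⟨v, c, hv, hA⟩
    by_cases hA1 : A = 1
    · rw [hA1]; exact Subgroup.one_mem _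
    apply Subgroup.subset_closure
    have hvv : hf σ v v = 0 := by rw [← hermForm_eq_hf σ hσ]; exact hv
    have hAm : mat ι A = tv σ v c := by
      rw [hιc, hA, unitaryTransvection_eq_sieg σ hσ]; rfl
    have hv0 : v ≠ 0 := by
      rintro rfl
      apply hA1
      apply hιinj
      apply Units.ext
      show mat ι A = mat ι 1
      rw [hAm, tv_zero_vec, mat_one]
    have hc0 : c ≠ 0 := by
      rintro rfl
      apply hA1
      apply hιinj
      apply Units.ext
      show mat ι A = mat ι 1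
      rw [hAm, mat_one]
      show sieg σ v 0 0 = 1
      rw [sieg_zero]
    show (mat ι A - 1).rank = 1
    rw [hAm]
    exact rank_tv_sub_one σ hσ2 v hv0 c hc0

end Cfsg.Agent.S1631
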