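import Cfsg.Statements.S1635
import Cfsg.Agent.Lib.Helper7.GolayFacts

set_option autoImplicit false
open Cfsg

namespace Cfsg.Agent.S1635

/-- Coset leaders of the length-24 code: a coset contains a unique word of weight ≤ 3, or else exactly six words of weight 4 and none lighter. -/
theorem result (w : Cfsg.GolayPt → ZMod 2) : ({v : Cfsg.GolayPt → ZMod 2 | hammingNorm v ≤ 4 ∧ w - v ∈ Cfsg.golayCode}.ncard = 1 ∧ ∃ v : Cfsg.GolayPt → ZMod 2, hammingNorm v ≤ 3 ∧ w - v ∈ Cfsg.golayCode) ∨ ({v : Cfsg.GolayPt → ZMod 2 | hammingNorm v ≤ 4 ∧ w - v ∈ Cfsg.golayCode}.ncard = 6 ∧ ∀ v : Cfsg.GolayPt → ZMod 2, w - v ∈ Cfsg.golayCode → hammingNorm v ≤ 4 → hammingNorm v = 4) := by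
  classical
  have hG := Cfsg.Agent.Lib.Helper7.golay_isGolayLike
  have hiff : ∀ v : Cfsg.GolayPt → ZMod 2, w - v ∈ Cfsg.golayCode ↔ v - w ∈ Cfsg.golayCode := by
    intro v
    rw [← neg_sub v w]
    exact neg_mem_iff
  set A : Finset (Cfsg.GolayPt → ZMod 2) :=
    Finset.univ.filter (fun v => v - w ∈ Cfsg.golayCode ∧ hammingNorm v ≤ 4) with hAdef
  have hA : ∀ u, u ∈ A ↔ u - w ∈ Cfsg.golayCode ∧ hammingNorm u ≤ 4 := by
    intro u
    simp [hAdef]
  have hS : {v : Cfsg.GolayPt → ZMod 2 | hammingNorm v ≤ 4 ∧ w - v ∈ Cfsg.golayCode} = (A : Set _) := by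
    ext v
    simp only [Set.mem_ofPred_eq, Finset.mem_coe, hA, hiff]
    exact and_comm
  rw [hS, Set.ncard_coe_finset]
  rcases hG.coset_structure w A hA with ⟨u, hu, hu3⟩ | ⟨h6, h4, _⟩
  · left
    refine ⟨by rw [hu, Finset.card_singleton], u, hu3, ?_⟩
    rw [hiff]
    have : u ∈ A := by rw [hu]; exact Finset.mem_singleton_self u
    exact ((hA u).mp this).1
  · right
    refine ⟨h6, ?_⟩
    intro v hv hv4
    exact h4 v ((hA v).mpr ⟨(hiff v).mp hv, hv4⟩)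

end Cfsg.Agent.S1635
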