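import Cfsg.Statements.S1637
import Cfsg.Agent.Lib.Helper27.Golay23
-- import your own Cfsg.Agent.* helpers here

set_option autoImplicit false
open Cfsg

namespace Cfsg.Agent.S1637

open Cfsg.Agent.Lib.Helper26 Cfsg.Agent.Lib.Helper93 Cfsg.Agent.Lib.Helper27

theorem exists_close (u : ZMod 23 → ZMod 2) : ∃ c ∈ golay23, hammingDist u c ≤ 3 := by
  classical
  have hG := golayCode_isGolayLike
  set w0 := ext0 u with hw0
  set A : Finset (GolayPt → ZMod 2) :=
    (Finset.univ : Finset (GolayPt → ZMod 2)).filter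
      (fun v => v - w0 ∈ golayCode ∧ hammingNorm v ≤ 4) with hAdef
  have hA : ∀ v, v ∈ A ↔ v - w0 ∈ golayCode ∧ hammingNorm v ≤ 4 := by
    intro v; simp [hAdef]
  -- a light word `v` of the coset gives the codeword `u - punct v`
  have key : ∀ v, v - w0 ∈ golayCode → hammingNorm (punct v) ≤ 3 →
      ∃ c ∈ golay23, hammingDist u c ≤ 3 := by
    intro v hv h3
    refine ⟨punct (w0 - v), (mem_golay23_iff _).mpr ⟨w0 - v, ?_, rfl⟩, ?_⟩
    · rw [← neg_sub v w0]; exact golayCode.neg_mem hv
    · rw [hammingDist_comm, hammingDist_eq_hammingNorm, punct_sub, hw0, punct_ext0]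
      have : -(u - punct v) + u = punct v := by abel
      rw [this]; exact h3
  rcases hG.coset_structure w0 A hA with ⟨v, hv, hv3⟩ | ⟨h6, h4, hd⟩
  · have hvA : v ∈ A := by rw [hv]; exact Finset.mem_singleton_self v
    exact key v ((hA v).mp hvA).1 ((hammingNorm_punct_le v).trans hv3)
  · have hcov : A.biUnion supp = Finset.univ := by
      apply Finset.eq_univ_of_card
      have hpd : (A : Set (GolayPt → ZMod 2)).PairwiseDisjoint supp := by
        intro v hv v' hv' hne
        exact hd v hv v' hv' hne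
      rw [Finset.card_biUnion hpd, card_golayPt]
      rw [Finset.sum_congr rfl (fun v hv => by rw [← hammingNorm_eq_card_supp, h4 v hv])]
      rw [Finset.sum_const, smul_eq_mul, h6]
    have hnone : (none : GolayPt) ∈ A.biUnion supp := by rw [hcov]; exact Finset.mem_univ _
    rw [Finset.mem_biUnion] at hnone
    obtain ⟨v, hvA, hvn⟩ := hnone
    have hv1 : v none = 1 := mem_supp.mp hvn
    have h4v := h4 v hvA
    have hp := hammingNorm_punct v
    rw [hv1] at hp
    simp only [ne_eq, one_ne_zero, not_false_eq_true, if_true] at hp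
    exact key v ((hA v).mp hvA).1 (by omega)

theorem close_unique (u c c' : ZMod 23 → ZMod 2) (hc : c ∈ golay23) (hc' : c' ∈ golay23)
    (h : hammingDist u c ≤ 3) (h' : hammingDist u c' ≤ 3) : c = c' := by
  by_contra hne
  have h1 := golay23_min (golay23_sub hc hc') (sub_ne_zero.mpr hne)
  have e : c - c' = -c' + c := by abel
  rw [e, ← hammingDist_eq_hammingNorm] at h1
  have h2 := hammingDist_triangle c' u c
  rw [hammingDist_comm c' u] at h2
  omega

/-- The punctured length-23 code is a perfect 3-error-correcting code: each word of length 23 is within distance 3 of exactly one codeword. -/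
theorem result (u : ZMod 23 → ZMod 2) : ∃! c : ZMod 23 → ZMod 2, c ∈ {u : ZMod 23 → ZMod 2 | ∃ w ∈ Cfsg.golayCode, ∀ x : ZMod 23, u x = w (some x)} ∧ hammingDist u c ≤ 3 := by
  obtain ⟨c, hc, hd⟩ := exists_close u
  refine ⟨c, ⟨hc, hd⟩, ?_⟩
  rintro c' ⟨hc', hd'⟩
  exact close_unique u c' c hc' hc hd' hd

end Cfsg.Agent.S1637
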