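import Cfsg.Statements.S1638
import Cfsg.Agent.Lib.Helper27.M24Flag
import Cfsg.Agent.Lib.Helper27.M24ClassesD
import Cfsg.Agent.Lib.Helper27.M24PairData
-- import your own Cfsg.Agent.* helpers here

set_option autoImplicit false
open scoped Pointwise
open Cfsg

namespace Cfsg.Agent.S1638

open Cfsg.Agent.Lib.Helper27 Cfsg.Agent.Lib.Helper7

/-- the 276 masks with exactly two bits (below `2^24`) -/
def pairL : List ℕ :=
  (List.range 24).flatMap fun i => (List.range i).map fun j => 2 ^ i ||| 2 ^ j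

theorem pairL_mem : ∀ i < 24, ∀ j < 24, i ≠ j → (2 ^ i ||| 2 ^ j) ∈ pairL := by
  have h : (List.range 24).all (fun i => (List.range 24).all fun j =>
      i == j || pairL.contains (2 ^ i ||| 2 ^ j)) = true := by decide +kernel
  intro i hi j hj hij
  have h1 := List.all_eq_true.1 h i (List.mem_range.2 hi)
  have h2 := List.all_eq_true.1 h1 j (List.mem_range.2 hj)
  simp only [Bool.or_eq_true, beq_iff_eq, List.contains_iff_mem] at h2
  rcases h2 with h2 | h2
  · exact absurd h2 hij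
  · exact h2

theorem pairL_check : pairL.all (fun m => pc m == 2 && decide (m < 2 ^ 24)) = true := by
  decide +kernel

theorem pairL_nodup : pairL.Nodup := by decide +kernel

theorem pairL_pc {m : ℕ} (h : m ∈ pairL) : pc m = 2 ∧ m < 2 ^ 24 := by
  have := List.all_eq_true.1 pairL_check m h
  simpa using this

theorem exists_pair_mask {t : Finset GolayPt} (ht : t.card = 2) : ∃ m ∈ pairL, setOf m = t := by
  obtain ⟨x, y, hxy, rfl⟩ := Finset.card_eq_two.1 ht
  refine ⟨2 ^ idx x ||| 2 ^ idx y, pairL_mem _ (idx_lt x) _ (idx_lt y) ?_, ?_⟩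
  · intro h; exact hxy (idx_injective h)
  · rw [setOf_or, setOf_two_pow (idx_lt x), setOf_two_pow (idx_lt y), pt_idx, pt_idx]
    rfl

/-- counting 2-subsets with a property that is decided on masks by `q` -/
theorem ncard_pairs_filter (P : Finset GolayPt → Prop) (q : ℕ → Bool)
    (h : ∀ m ∈ pairL, (P (setOf m) ↔ q m = true)) :
    {t : Finset GolayPt | t.card = 2 ∧ P t}.ncard = (pairL.filter q).length := by
  classical
  have hset : {t : Finset GolayPt | t.card = 2 ∧ P t} =
      ↑((pairL.filter q).toFinset.image Cfsg.Agent.Lib.Helper7.setOf) := by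
    ext t
    simp only [Set.mem_ofPred_eq, Finset.coe_image, Set.mem_image, Finset.mem_coe,
      List.mem_toFinset, List.mem_filter]
    constructor
    · rintro ⟨ht, hP⟩
      obtain ⟨m, hm, rfl⟩ := exists_pair_mask ht
      exact ⟨m, ⟨hm, (h m hm).1 hP⟩, rfl⟩
    · rintro ⟨m, ⟨hm, hq⟩, rfl⟩
      exact ⟨by rw [card_setOf]; exact (pairL_pc hm).1, (h m hm).2 hq⟩
  rw [hset, Set.ncard_coe_finset, Finset.card_image_of_injOn, List.toFinset_card_of_nodup]
  · exact pairL_nodup.filter _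
  · intro m hm n hn hmn
    rw [Finset.mem_coe, List.mem_toFinset, List.mem_filter] at hm hn
    exact setOf_injOn (pairL_pc hm.1).2 (pairL_pc hn.1).2 hmn

/-- the union of the base pair `{1, 2}` with `m` lies in an octad through `∞` and `0` -/
def octCond (m : ℕ) : Bool :=
  octL.any fun o => o.testBit 23 && o.testBit 0 && ((6 ||| m) &&& o == (6 ||| m))

theorem subset_setOf_iff {a b : ℕ} (ha : a < 2 ^ 24) : setOf a ⊆ setOf b ↔ a &&& b = a := by
  rw [setOf_eq_setOf26, setOf_eq_setOf26]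
  exact Cfsg.Agent.Lib.Helper26.subset_iff_and ha

theorem octCond_iff {m : ℕ} (hm : m < 2 ^ 24) :
    (∃ o ∈ octads, pt 23 ∈ o ∧ pt 0 ∈ o ∧ setOf 6 ∪ setOf m ⊆ o) ↔ octCond m = true := by
  have hlt : 6 ||| m < 2 ^ 24 := Nat.or_lt_two_pow (by norm_num) hm
  unfold octCond
  rw [List.any_eq_true]
  constructor
  · rintro ⟨o, ho, h1, h2, h3⟩
    have hmo := (Cfsg.Agent.Lib.Helper26.mem_octads_iff_mem_list o).1 ho
    have hs : setOf (Cfsg.Agent.Lib.Helper26.maskOfSet o) = o := by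
      rw [setOf_eq_setOf26, Cfsg.Agent.Lib.Helper26.setOf_maskOfSet]
    refine ⟨_, hmo, ?_⟩
    rw [← hs, pt_mem_setOf (by decide)] at h1 h2
    rw [← hs, ← setOf_or, subset_setOf_iff hlt] at h3
    simp [h1, h2, h3]
  · rintro ⟨o, ho, h⟩
    simp only [Bool.and_eq_true, beq_iff_eq] at h
    refine ⟨setOf o, setOf_mem_octads7 ho, ?_, ?_, ?_⟩
    · rw [pt_mem_setOf (by decide)]; exact h.1.1
    · rw [pt_mem_setOf (by decide)]; exact h.1.2
    · rw [← setOf_or, subset_setOf_iff hlt]; exact h.2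

theorem pairT_eq : slpT pairProg pairIdx = pairT := by decide +kernel

theorem pair_fix : pairT.all (fixesOK [23, 0] [6]) = true := by decide +kernel

theorem pair_classesOK : classesOK pairT pairClasses = true := by decide +kernel

/-- pairs avoiding `∞` and `0`, other than the base pair -/
def pairSel (m : ℕ) : Bool := !m.testBit 23 && !m.testBit 0 && m != 6

/-- the invariant: intersection with the base pair, and the octad condition -/
def pairInv (m : ℕ) : ℕ := 2 * pc (6 &&& m) + (if octCond m then 1 else 0)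

theorem pair_coverOK : coverOKL pairL pairSel pairInv pairClasses = true := by decide +kernel

theorem pair_orbits : ∀ m ∈ pairL, ∀ m' ∈ pairL, pairSel m = true → pairSel m' = true →
    pairInv m = pairInv m' → ∃ g ∈ cfgStab [pt 23, pt 0] [setOf 6], g • setOf m = setOf m' :=
  cfg_orbitsL pairL pairProg pairIdx pairT pairT_eq [23, 0] [6] (by decide) pair_fix pairSel
    pairInv pairClasses (by decide) pair_classesOK pair_coverOK

theorem count30 : (pairL.filter (fun m => !m.testBit 23 && !m.testBit 0 && (6 &&& m == 0) &&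
    octCond m)).length = 30 := by decide +kernel

theorem count160 : (pairL.filter (fun m => !m.testBit 23 && !m.testBit 0 && (6 &&& m == 0) &&
    !octCond m)).length = 160 := by decide +kernel

theorem disjoint_setOf_iff {a b : ℕ} (ha : a < 2 ^ 24) :
    Disjoint (setOf a) (setOf b) ↔ a &&& b = 0 := by
  rw [setOf_eq_setOf26, setOf_eq_setOf26]
  exact Cfsg.Agent.Lib.Helper26.disjoint_iff_and ha

/-- the octad condition for arbitrary data -/
def OctC (p q : GolayPt) (s t : Finset GolayPt) : Prop :=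
  ∃ o ∈ octads, p ∈ o ∧ q ∈ o ∧ s ∪ t ⊆ o

theorem octC_smul {g : Equiv.Perm GolayPt} (hg : g ∈ M24) (p q : GolayPt)
    (s t : Finset GolayPt) : OctC (g p) (g q) (g • s) (g • t) ↔ OctC p q s t := by
  constructor
  · rintro ⟨o, ho, h1, h2, h3⟩
    refine ⟨g⁻¹ • o, smul_mem_octads (M24.inv_mem hg) ho, ?_, ?_, ?_⟩
    · rw [← perm_apply_mem_smul_iff g, smul_inv_smul]; exact h1
    · rw [← perm_apply_mem_smul_iff g, smul_inv_smul]; exact h2
    · rw [← Finset.smul_finset_union] at h3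
      rw [← Finset.smul_finset_subset_smul_finset_iff (a := g), smul_inv_smul]
      exact h3
  · rintro ⟨o, ho, h1, h2, h3⟩
    refine ⟨g • o, smul_mem_octads hg ho, ?_, ?_, ?_⟩
    · rw [perm_apply_mem_smul_iff]; exact h1
    · rw [perm_apply_mem_smul_iff]; exact h2
    · rw [← Finset.smul_finset_union, Finset.smul_finset_subset_smul_finset_iff]
      exact h3

theorem base_ncard30 :
    {t : Finset GolayPt | t.card = 2 ∧ (pt 23 ∉ t ∧ pt 0 ∉ t) ∧ Disjoint (setOf 6) t ∧
      OctC (pt 23) (pt 0) (setOf 6) t}.ncard = 30 := by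
  rw [← count30]
  apply ncard_pairs_filter (fun t => (pt 23 ∉ t ∧ pt 0 ∉ t) ∧ Disjoint (setOf 6) t ∧
      OctC (pt 23) (pt 0) (setOf 6) t)
  intro m hm
  unfold OctC
  rw [pt_mem_setOf (by decide), pt_mem_setOf (by decide), disjoint_setOf_iff (by norm_num),
    octCond_iff (pairL_pc hm).2]
  simp [and_assoc]

theorem base_ncard160 :
    {t : Finset GolayPt | t.card = 2 ∧ (pt 23 ∉ t ∧ pt 0 ∉ t) ∧ Disjoint (setOf 6) t ∧
      ¬ OctC (pt 23) (pt 0) (setOf 6) t}.ncard = 160 := by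
  rw [← count160]
  apply ncard_pairs_filter (fun t => (pt 23 ∉ t ∧ pt 0 ∉ t) ∧ Disjoint (setOf 6) t ∧
      ¬ OctC (pt 23) (pt 0) (setOf 6) t)
  intro m hm
  unfold OctC
  rw [pt_mem_setOf (by decide), pt_mem_setOf (by decide), disjoint_setOf_iff (by norm_num),
    octCond_iff (pairL_pc hm).2]
  simp [and_assoc]

theorem base_conj (t t' : Finset GolayPt) (ht : t.card = 2) (ht' : t'.card = 2)
    (h1 : pt 23 ∉ t ∧ pt 0 ∉ t) (h1' : pt 23 ∉ t' ∧ pt 0 ∉ t') (hts : t ≠ setOf 6)
    (hts' : t' ≠ setOf 6) (hc : (setOf 6 ∩ t).card = (setOf 6 ∩ t').card)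
    (ho : OctC (pt 23) (pt 0) (setOf 6) t ↔ OctC (pt 23) (pt 0) (setOf 6) t') :
    ∃ g ∈ M24, g (pt 23) = pt 23 ∧ g (pt 0) = pt 0 ∧ g • setOf 6 = setOf 6 ∧ g • t = t' := by
  obtain ⟨m, hm, rfl⟩ := exists_pair_mask ht
  obtain ⟨m', hm', rfl⟩ := exists_pair_mask ht'
  rw [pt_mem_setOf (by decide), pt_mem_setOf (by decide), Bool.not_eq_true,
    Bool.not_eq_true] at h1 h1'
  have hne : m ≠ 6 := fun h => hts (by rw [h])
  have hne' : m' ≠ 6 := fun h => hts' (by rw [h])
  rw [card_setOf_inter, card_setOf_inter] at hc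
  unfold OctC at ho
  rw [octCond_iff (pairL_pc hm).2, octCond_iff (pairL_pc hm').2] at ho
  have hinv : pairInv m = pairInv m' := by
    have hif : (if octCond m = true then 1 else 0 : ℕ) = (if octCond m' = true then 1 else 0) := by
      by_cases h : octCond m = true
      · rw [if_pos h, if_pos (ho.1 h)]
      · rw [if_neg h, if_neg (fun h' => h (ho.2 h'))]
    unfold pairInv
    rw [hc, hif]
  have hsel : pairSel m = true := by
    simp only [pairSel, h1.1, h1.2, Bool.not_false, Bool.true_and, bne_iff_ne, ne_eq]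
    exact hne
  have hsel' : pairSel m' = true := by
    simp only [pairSel, h1'.1, h1'.2, Bool.not_false, Bool.true_and, bne_iff_ne, ne_eq]
    exact hne'
  obtain ⟨g, hg, hgm⟩ := pair_orbits m hm m' hm' hsel hsel' hinv
  rw [mem_cfgStab] at hg
  exact ⟨g, hg.1, hg.2.1 _ (by simp), hg.2.1 _ (by simp), hg.2.2 _ (by simp), hgm⟩

/-- `M24` is 4-transitive, in the form needed here -/
theorem exists_M24_four {p q : GolayPt} (hpq : p ≠ q) {s : Finset GolayPt} (hs : s.card = 2)
    (hp : p ∉ s) (hq : q ∉ s) :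
    ∃ g ∈ M24, g p = pt 23 ∧ g q = pt 0 ∧ g • s = setOf 6 := by
  obtain ⟨x, y, hxy, rfl⟩ := Finset.card_eq_two.1 hs
  simp only [Finset.mem_insert, Finset.mem_singleton, not_or] at hp hq
  have h1 : Function.Injective ![p, q, x, y] := by
    intro i j hij
    fin_cases i <;> fin_cases j <;> simp_all
  have h2 : Function.Injective ![pt 23, pt 0, pt 1, pt 2] := by
    intro i j hij
    fin_cases i <;> fin_cases j <;> first | rfl | (exfalso; revert hij; decide)
  obtain ⟨g, hg, hgXY⟩ := exists_M24_map_emb (k := 4) (by decide) ⟨![p, q, x, y], h1⟩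
    ⟨![pt 23, pt 0, pt 1, pt 2], h2⟩
  refine ⟨g, hg, hgXY 0, hgXY 1, ?_⟩
  have h6 : setOf 6 = {pt 1, pt 2} := by
    rw [show (6 : ℕ) = 2 ^ 1 ||| 2 ^ 2 by rfl, setOf_or, setOf_two_pow (by decide),
      setOf_two_pow (by decide)]
    rfl
  have hx : g x = pt 1 := hgXY 2
  have hy : g y = pt 2 := hgXY 3
  rw [h6, Finset.smul_finset_insert, Finset.smul_finset_singleton, Equiv.Perm.smul_def,
    Equiv.Perm.smul_def, hx, hy]

/-- Fix two points p ≠ q and a pair s of two further points. Among the pairs avoiding p, q and disjoint from s, exactly 30 lie in an octad together with p, q and s and exactly 160 do not; and any two pairs other than s that meet s in equally many points and agree on that octad property are carried to one another by an element of the group of the length-24 code fixing p, q and s. -/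
theorem result (p q : Cfsg.GolayPt) (hpq : p ≠ q) (s : Finset Cfsg.GolayPt) (hs : (s.card = 2 ∧ p ∉ s ∧ q ∉ s)) : {t : Finset Cfsg.GolayPt | (t.card = 2 ∧ p ∉ t ∧ q ∉ t) ∧ Disjoint s t ∧ (∃ o ∈ Cfsg.octads, p ∈ o ∧ q ∈ o ∧ s ∪ t ⊆ o)}.ncard = 30 ∧ {t : Finset Cfsg.GolayPt | (t.card = 2 ∧ p ∉ t ∧ q ∉ t) ∧ Disjoint s t ∧ ¬ (∃ o ∈ Cfsg.octads, p ∈ o ∧ q ∈ o ∧ s ∪ t ⊆ o)}.ncard = 160 ∧ ∀ t t' : Finset Cfsg.GolayPt, (t.card = 2 ∧ p ∉ t ∧ q ∉ t) → (t'.card = 2 ∧ p ∉ t' ∧ q ∉ t') → t ≠ s → t' ≠ s → (s ∩ t).card = (s ∩ t').card → ((∃ o ∈ Cfsg.octads, p ∈ o ∧ q ∈ o ∧ s ∪ t ⊆ o) ↔ (∃ o ∈ Cfsg.octads, p ∈ o ∧ q ∈ o ∧ s ∪ t' ⊆ o)) → ∃ g : Equiv.Perm Cfsg.GolayPt, g ∈ Cfsg.M24 ∧ g p = p ∧ g q = q ∧ g • s = s ∧ g • t = t' := by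
  obtain ⟨hs2, hps, hqs⟩ := hs
  obtain ⟨g0, hg0, hg0p, hg0q, hg0s⟩ := exists_M24_four hpq hs2 hps hqs
  have hdis : ∀ t : Finset GolayPt, Disjoint (setOf 6) (g0 • t) ↔ Disjoint s t := by
    intro t
    rw [← hg0s, Finset.disjoint_iff_inter_eq_empty, Finset.disjoint_iff_inter_eq_empty,
      ← Finset.smul_finset_inter, Finset.smul_finset_eq_empty]
  refine ⟨?_, ?_, ?_⟩
  · rw [← base_ncard30]
    apply ncard_smul_transport g0
    intro t
    rw [Finset.card_smul_finset, ← hg0p, perm_apply_mem_smul_iff, ← hg0q, perm_apply_mem_smul_iff,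
      hg0p, hg0q, hdis, ← hg0s, ← hg0p, ← hg0q, octC_smul hg0]
    unfold OctC
    tauto
  · rw [← base_ncard160]
    apply ncard_smul_transport g0
    intro t
    rw [Finset.card_smul_finset, ← hg0p, perm_apply_mem_smul_iff, ← hg0q, perm_apply_mem_smul_iff,
      hg0p, hg0q, hdis, ← hg0s, ← hg0p, ← hg0q, octC_smul hg0]
    unfold OctC
    tauto
  · rintro t t' ⟨ht2, hpt, hqt⟩ ⟨ht2', hpt', hqt'⟩ hts hts' hc ho
    have key := base_conj (g0 • t) (g0 • t') (by rw [Finset.card_smul_finset]; exact ht2)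
      (by rw [Finset.card_smul_finset]; exact ht2')
      ⟨by rw [← hg0p, perm_apply_mem_smul_iff]; exact hpt,
        by rw [← hg0q, perm_apply_mem_smul_iff]; exact hqt⟩
      ⟨by rw [← hg0p, perm_apply_mem_smul_iff]; exact hpt',
        by rw [← hg0q, perm_apply_mem_smul_iff]; exact hqt'⟩
      (by rw [← hg0s]; intro h; exact hts (smul_left_cancel g0 h))
      (by rw [← hg0s]; intro h; exact hts' (smul_left_cancel g0 h))
      (by rw [← hg0s, card_smul_inter_smul, card_smul_inter_smul]; exact hc)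
      (by rw [← hg0s, ← hg0p, ← hg0q, octC_smul hg0, octC_smul hg0]; exact ho)
    obtain ⟨h, hh, hhp, hhq, hhs, hh'⟩ := key
    refine ⟨g0⁻¹ * h * g0, M24.mul_mem (M24.mul_mem (M24.inv_mem hg0) hh) hg0, ?_, ?_, ?_, ?_⟩
    · rw [Equiv.Perm.mul_apply, Equiv.Perm.mul_apply, hg0p, hhp, ← hg0p]
      simp
    · rw [Equiv.Perm.mul_apply, Equiv.Perm.mul_apply, hg0q, hhq, ← hg0q]
      simp
    · rw [mul_smul, mul_smul, hg0s, hhs, ← hg0s, inv_smul_smul]
    · rw [mul_smul, mul_smul, hh', inv_smul_smul]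

end Cfsg.Agent.S1638
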