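import Cfsg.Statements.S1639
import Cfsg.Agent.Lib.Helper7.M12General
import Cfsg.Agent.Lib.Helper27.M24ClassesD
import Cfsg.Agent.Lib.Helper27.M24Tree
import Cfsg.Agent.Lib.Helper27.M24DodPtData
-- import your own Cfsg.Agent.* helpers here

set_option autoImplicit false
open scoped Pointwise
open Cfsg

namespace Cfsg.Agent.S1639

open Cfsg.Agent.Lib.Helper27 Cfsg.Agent.Lib.Helper7

theorem dodptT_eq : slpT dodptProg dodptIdx = dodptT := by decide +kernel

theorem dodpt_fix : dodptT.all (fixesOK [23] [d0Mask]) = true := by decide +kernel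

theorem dodpt_classesOK : classesOKT dodptT dodptClasses = true := by decide +kernel

/-- size of the intersection with the base dodecad -/
def dodInv (m : ℕ) : ℕ := pc (d0Mask &&& m)

/-- dodecads through `∞` -/
def ptSel (m : ℕ) : Bool := m.testBit 23

theorem dodpt_coverOK : coverOKT dodL ptSel dodInv dodptClasses = true := by decide +kernel

theorem dodpt_orbits : ∀ m ∈ dodL, ∀ m' ∈ dodL, ptSel m = true → ptSel m' = true →
    dodInv m = dodInv m' → ∃ g ∈ cfgStab [pt 23] [setOf d0Mask], g • setOf m = setOf m' :=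
  cfg_orbitsT dodL dodptProg dodptIdx dodptT dodptT_eq [23] [d0Mask] (by decide) dodpt_fix ptSel
    dodInv dodptClasses dodpt_classesOK dodpt_coverOK

theorem count4 : (dodL.filter (fun m => ptSel m && dodInv m == 4)).length = 165 := by
  decide +kernel

theorem count8 : (dodL.filter (fun m => ptSel m && dodInv m == 8)).length = 330 := by
  decide +kernel

theorem count6 : (dodL.filter (fun m => ptSel m && dodInv m == 6)).length = 792 := by
  decide +kernel

theorem base_ncard (k : ℕ) :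
    {d' : Finset GolayPt | d' ∈ dodecads ∧ pt 23 ∈ d' ∧ (d0 ∩ d').card = k}.ncard =
      (dodL.filter (fun m => ptSel m && dodInv m == k)).length := by
  apply ncard_dodecads_filter (fun d' => pt 23 ∈ d' ∧ (d0 ∩ d').card = k)
  intro m _
  unfold d0
  rw [pt_mem_setOf (by decide), card_setOf_inter]
  simp [ptSel, dodInv]

theorem base_conj : ∀ d' ∈ dodecads, ∀ d'' ∈ dodecads, pt 23 ∈ d' → pt 23 ∈ d'' →
    (d0 ∩ d').card = (d0 ∩ d'').card →
    ∃ g ∈ M24, g (pt 23) = pt 23 ∧ g • d0 = d0 ∧ g • d' = d'' := by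
  refine forall_dodecads7 fun m hm => forall_dodecads7 fun m' hm' => ?_
  intro h1 h2 h3
  unfold d0 at h3 ⊢
  rw [pt_mem_setOf (by decide)] at h1 h2
  rw [card_setOf_inter, card_setOf_inter] at h3
  obtain ⟨g, hg, hgm⟩ := dodpt_orbits m hm m' hm' h1 h2 h3
  rw [mem_cfgStab] at hg
  exact ⟨g, hg.1, hg.2.1 _ (by simp), hg.2.2 _ (by simp), hgm⟩

/-- The point stabiliser acts on the 1288 dodecads through the point with rank 4 and subdegrees 1, 165, 330, 792, distinguished by intersection 4, 8, 6 with the fixed dodecad. -/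
theorem result (x : Cfsg.GolayPt) (d : Finset Cfsg.GolayPt) (hd : d ∈ Cfsg.dodecads) (hx : x ∈ d) : {d' : Finset Cfsg.GolayPt | d' ∈ Cfsg.dodecads ∧ x ∈ d' ∧ (d ∩ d').card = 4}.ncard = 165 ∧ {d' : Finset Cfsg.GolayPt | d' ∈ Cfsg.dodecads ∧ x ∈ d' ∧ (d ∩ d').card = 8}.ncard = 330 ∧ {d' : Finset Cfsg.GolayPt | d' ∈ Cfsg.dodecads ∧ x ∈ d' ∧ (d ∩ d').card = 6}.ncard = 792 ∧ ∀ d' d'' : Finset Cfsg.GolayPt, d' ∈ Cfsg.dodecads → d'' ∈ Cfsg.dodecads → x ∈ d' → x ∈ d'' → (d ∩ d').card = (d ∩ d'').card → ∃ g : Equiv.Perm Cfsg.GolayPt, g ∈ Cfsg.M24 ∧ g x = x ∧ g • d = d ∧ g • d' = d'' := by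
  obtain ⟨g0, hg0, hg0d, hg0x⟩ := exists_map_dodecad_point hd hx
  change g0 x = pt 23 at hg0x
  have htr : ∀ k : ℕ, {d' : Finset GolayPt | d' ∈ dodecads ∧ x ∈ d' ∧ (d ∩ d').card = k}.ncard =
      (dodL.filter (fun m => ptSel m && dodInv m == k)).length := by
    intro k
    rw [← base_ncard k]
    apply ncard_smul_transport g0
    intro s
    rw [smul_mem_dodecads_iff hg0, ← hg0x, perm_apply_mem_smul_iff, ← hg0d, card_smul_inter_smul]
  refine ⟨by rw [htr 4, count4], by rw [htr 8, count8], by rw [htr 6, count6], ?_⟩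
  intro d' d'' hd' hd'' hxd' hxd'' hcard
  obtain ⟨h, hh, hhx, hhd, hh'⟩ := base_conj (g0 • d') (smul_mem_dodecads hg0 hd') (g0 • d'')
    (smul_mem_dodecads hg0 hd'') (by rw [← hg0x, perm_apply_mem_smul_iff]; exact hxd')
    (by rw [← hg0x, perm_apply_mem_smul_iff]; exact hxd'')
    (by rw [← hg0d, card_smul_inter_smul, card_smul_inter_smul]; exact hcard)
  refine ⟨g0⁻¹ * h * g0, M24.mul_mem (M24.mul_mem (M24.inv_mem hg0) hh) hg0, ?_, ?_, ?_⟩
  · rw [Equiv.Perm.mul_apply, Equiv.Perm.mul_apply, hg0x, hhx, ← hg0x]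
    simp
  · rw [mul_smul, mul_smul, hg0d, hhd, ← hg0d, inv_smul_smul]
  · rw [mul_smul, mul_smul, hh', inv_smul_smul]

end Cfsg.Agent.S1639
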