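import Cfsg.Statements.S1641
import Cfsg.Agent.Lib.Helper27.Co3Trans
import Cfsg.Agent.Lib.Helper8.Co3Orbits

set_option autoImplicit false
open Cfsg

namespace Cfsg.Agent.S1641

open Cfsg.Agent.Lib.Helper7 Cfsg.Agent.Lib.Helper8 Cfsg.Agent.Lib.Helper27 Cfsg.Spor

theorem neg_uL_coe : ((-uL : leechLattice) : GolayPt → ℤ) = -uF := rfl

/-- membership in the configuration, transported to the standard frame -/
theorem mem_iff_std {u : leechLattice} {g : Co0} (hgu : g • u = -uL) (y : leechLattice) :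
    (sqNorm (y : GolayPt → ℤ) = 32 ∧ dotInt (u : GolayPt → ℤ) (y : GolayPt → ℤ) = -16) ↔
      ((g • y : leechLattice) : GolayPt → ℤ) ∈ YF := by
  have e1 : dotInt uF ((g • y : leechLattice) : GolayPt → ℤ)
      = - dotInt (u : GolayPt → ℤ) (y : GolayPt → ℤ) := by
    rw [← co0_dotInt g u y, hgu, neg_uL_coe, dotInt_neg_left, neg_neg]
  unfold YF
  rw [Set.mem_setOf_eq, e1, co0_sqNorm]
  constructor
  · rintro ⟨h1, h2⟩
    exact ⟨(g • y).2, h1, by omega⟩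
  · rintro ⟨-, h1, h2⟩
    exact ⟨h1, by omega⟩

theorem ncard_lvl (d : ℤ) : {y : leechLattice | (y : GolayPt → ℤ) ∈ J d}.ncard = (J d).ncard := by
  rw [← Set.ncard_image_of_injective _ Subtype.val_injective]
  congr 1
  ext x
  simp only [Set.mem_image, Set.mem_setOf_eq]
  constructor
  · rintro ⟨y, hy, rfl⟩
    exact hy
  · intro hx
    exact ⟨⟨x, hx.1.1⟩, hx, rfl⟩

/-- the stabiliser of the standard pair preserves the level sets -/
theorem smul_mem_J {k : Co0} (h1 : k • uL = uL) (h3 : k • yU = yU)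
    {d : ℤ} {z : leechLattice} (hz : (z : GolayPt → ℤ) ∈ J d) :
    ((k • z : leechLattice) : GolayPt → ℤ) ∈ J d := by
  obtain ⟨⟨-, hn, hu⟩, hd⟩ := hz
  refine ⟨⟨(k • z).2, by rw [co0_sqNorm]; exact hn, ?_⟩, ?_⟩
  · have := co0_dotInt k uL z
    rw [h1, uL_coe] at this
    rw [this]; exact hu
  · have := co0_dotInt k yU z
    rw [h3] at this
    rw [this]; exact hd

theorem fix_uL_of_neg {k : Co0} (h : k • (-uL) = -uL) : k • uL = uL := by
  rw [co0_smul_neg] at h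
  exact neg_injective h

theorem fix_neg_of_uL {k : Co0} (h : k • uL = uL) : k • (-uL) = -uL := by
  rw [co0_smul_neg, h]

/-- the orbit of the pair stabiliser through a point of a level set -/
theorem orbit_eq {u x : leechLattice} {g : Co0} (hgu : g • u = -uL) (hgx : g • x = yU) (d : ℤ)
    (T : ∀ y y' : leechLattice, (y : GolayPt → ℤ) ∈ J d → (y' : GolayPt → ℤ) ∈ J d →
      ∃ k : Co0, k • uL = uL ∧ k • yU = yU ∧ k • y = y')
    (z : leechLattice) (hz : (z : GolayPt → ℤ) ∈ J d) :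
    MulAction.orbit ↥(MulAction.stabilizer ↥Co0 u ⊓ MulAction.stabilizer ↥Co0 x) (g⁻¹ • z)
      = (fun y : leechLattice => g⁻¹ • y) '' {y : leechLattice | (y : GolayPt → ℤ) ∈ J d} := by
  ext a
  rw [MulAction.mem_orbit_iff]
  constructor
  · rintro ⟨⟨h, hh⟩, rfl⟩
    rw [Subgroup.mem_inf, MulAction.mem_stabilizer_iff, MulAction.mem_stabilizer_iff] at hh
    obtain ⟨hu, hx⟩ := hh
    refine ⟨(g * h * g⁻¹) • z, ?_, ?_⟩
    · apply smul_mem_J _ _ hz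
      · apply fix_uL_of_neg
        rw [mul_smul, mul_smul, ← hgu, inv_smul_smul, hu]
      · rw [mul_smul, mul_smul, ← hgx, inv_smul_smul, hx]
    · show g⁻¹ • ((g * h * g⁻¹) • z) = h • (g⁻¹ • z)
      rw [mul_smul, mul_smul, inv_smul_smul]
  · rintro ⟨y, hy, rfl⟩
    obtain ⟨k, k1, k3, k4⟩ := T z y hz hy
    have hmem : g⁻¹ * k * g ∈ MulAction.stabilizer ↥Co0 u ⊓ MulAction.stabilizer ↥Co0 x := by
      rw [Subgroup.mem_inf, MulAction.mem_stabilizer_iff, MulAction.mem_stabilizer_iff]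
      refine ⟨?_, ?_⟩
      · rw [mul_smul, mul_smul, hgu, fix_neg_of_uL k1, inv_smul_eq_iff, hgu]
      · rw [mul_smul, mul_smul, hgx, k3, inv_smul_eq_iff, hgx]
    refine ⟨⟨g⁻¹ * k * g, hmem⟩, ?_⟩
    show (g⁻¹ * k * g) • (g⁻¹ • z) = g⁻¹ • y
    rw [mul_smul, mul_smul, smul_inv_smul, k4]

/-- a point of a nonempty level set, as a lattice element -/
theorem exists_lvl (d : ℤ) (hd : 0 < (J d).ncard) : ∃ z : leechLattice, (z : GolayPt → ℤ) ∈ J d := by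
  obtain ⟨x, hx⟩ := (Set.ncard_pos (Set.finite_of_ncard_pos hd)).1 hd
  exact ⟨⟨x, hx.1.1⟩, hx⟩

theorem sqNorm_neg_uL : sqNorm ((-uL : leechLattice) : GolayPt → ℤ) = 48 := by
  rw [neg_uL_coe, sqNorm_neg', sqNorm_uF]

theorem dotInt_neg_uL_yU :
    dotInt ((-uL : leechLattice) : GolayPt → ℤ) (yU : GolayPt → ℤ) = -16 := by
  rw [neg_uL_coe, dotInt_neg_left, dotInt_uF_yU]


/-- The third Conway group acts on the 11178 cosets of the Higman–Sims group with rank 5 and subdegrees 1, 352, 1100, 4125, 5600. -/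
theorem result (u x : ↥Cfsg.leechLattice) (hu : Cfsg.sqNorm (u : Cfsg.GolayPt → ℤ) = 48) (hx : x ∈ {x : ↥Cfsg.leechLattice | Cfsg.sqNorm (x : Cfsg.GolayPt → ℤ) = 32 ∧ Cfsg.dotInt (u : Cfsg.GolayPt → ℤ) (x : Cfsg.GolayPt → ℤ) = -16}) : ∃ y₁ ∈ {x : ↥Cfsg.leechLattice | Cfsg.sqNorm (x : Cfsg.GolayPt → ℤ) = 32 ∧ Cfsg.dotInt (u : Cfsg.GolayPt → ℤ) (x : Cfsg.GolayPt → ℤ) = -16}, ∃ y₂ ∈ {x : ↥Cfsg.leechLattice | Cfsg.sqNorm (x : Cfsg.GolayPt → ℤ) = 32 ∧ Cfsg.dotInt (u : Cfsg.GolayPt → ℤ) (x : Cfsg.GolayPt → ℤ) = -16}, ∃ y₃ ∈ {x : ↥Cfsg.leechLattice | Cfsg.sqNorm (x : Cfsg.GolayPt → ℤ) = 32 ∧ Cfsg.dotInt (u : Cfsg.GolayPt → ℤ) (x : Cfsg.GolayPt → ℤ) = -16}, ∃ y₄ ∈ {x : ↥Cfsg.leechLattice | Cfsg.sqNorm (x : Cfsg.GolayPt → ℤ) = 32 ∧ Cfsg.dotInt (u : Cfsg.GolayPt → ℤ) (x : Cfsg.GolayPt → ℤ) = -16}, (MulAction.orbit ↥(MulAction.stabilizer ↥Cfsg.Co0 u ⊓ MulAction.stabilizer ↥Cfsg.Co0 x) y₁).ncard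 = 352 ∧ (MulAction.orbit ↥(MulAction.stabilizer ↥Cfsg.Co0 u ⊓ MulAction.stabilizer ↥Cfsg.Co0 x) y₂).ncard = 1100 ∧ (MulAction.orbit ↥(MulAction.stabilizer ↥Cfsg.Co0 u ⊓ MulAction.stabilizer ↥Cfsg.Co0 x) y₃).ncard = 4125 ∧ (MulAction.orbit ↥(MulAction.stabilizer ↥Cfsg.Co0 u ⊓ MulAction.stabilizer ↥Cfsg.Co0 x) y₄).ncard = 5600 ∧ {x : ↥Cfsg.leechLattice | Cfsg.sqNorm (x : Cfsg.GolayPt → ℤ) = 32 ∧ Cfsg.dotInt (u : Cfsg.GolayPt → ℤ) (x : Cfsg.GolayPt → ℤ) = -16} = {x} ∪ MulAction.orbit ↥(MulAction.stabilizer ↥Cfsg.Co0 u ⊓ MulAction.stabilizer ↥Cfsg.Co0 x) y₁ ∪ MulAction.orbit ↥(MulAction.stabilizer ↥Cfsg.Co0 u ⊓ MulAction.stabilizer ↥Cfsg.Co0 x) y₂ ∪ MulAction.orbit ↥(MulAction.stabilizer ↥Cfsg.Co0 u ⊓ MulAction.stabilizer ↥Cfsg.Co0 x) y₃ ∪ MulAction.orbit ↥(MulAction.stabilizer ↥Cfsg.Co0 u ⊓ MulAction.stabilizer ↥Cfsg.Co0 x) y₄ := by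
  obtain ⟨hx1, hx2⟩ := hx
  obtain ⟨g, g1, g3⟩ := pair3_trans u x (-uL) yU hu hx1 hx2 sqNorm_neg_uL sqNorm_yU
    dotInt_neg_uL_yU
  obtain ⟨c1, c2, c3, c4⟩ := ncard_J
  obtain ⟨z1, hz1⟩ := exists_lvl (-8) (by rw [c1]; norm_num)
  obtain ⟨z2, hz2⟩ := exists_lvl 16 (by rw [c2]; norm_num)
  obtain ⟨z3, hz3⟩ := exists_lvl 0 (by rw [c3]; norm_num)
  obtain ⟨z4, hz4⟩ := exists_lvl 8 (by rw [c4]; norm_num)
  have hP : ∀ (d : ℤ) (z : leechLattice), (z : GolayPt → ℤ) ∈ J d →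
      (sqNorm ((g⁻¹ • z : leechLattice) : GolayPt → ℤ) = 32 ∧
        dotInt (u : GolayPt → ℤ) ((g⁻¹ • z : leechLattice) : GolayPt → ℤ) = -16) := by
    intro d z hz
    rw [mem_iff_std g1, smul_inv_smul]
    exact hz.1
  have T1 := co3_trans_neg8
  have T2 := co3_trans 16 (Or.inl rfl)
  have T3 := co3_trans 0 (Or.inr (Or.inl rfl))
  have T4 := co3_trans 8 (Or.inr (Or.inr rfl))
  have o1 := orbit_eq g1 g3 (-8) T1 z1 hz1
  have o2 := orbit_eq g1 g3 16 T2 z2 hz2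
  have o3 := orbit_eq g1 g3 0 T3 z3 hz3
  have o4 := orbit_eq g1 g3 8 T4 z4 hz4
  refine ⟨g⁻¹ • z1, hP _ z1 hz1, g⁻¹ • z2, hP _ z2 hz2, g⁻¹ • z3, hP _ z3 hz3,
    g⁻¹ • z4, hP _ z4 hz4, ?_, ?_, ?_, ?_, ?_⟩
  · rw [o1, Set.ncard_image_of_injective _ (MulAction.injective g⁻¹), ncard_lvl, c1]
  · rw [o2, Set.ncard_image_of_injective _ (MulAction.injective g⁻¹), ncard_lvl, c2]
  · rw [o3, Set.ncard_image_of_injective _ (MulAction.injective g⁻¹), ncard_lvl, c3]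
  · rw [o4, Set.ncard_image_of_injective _ (MulAction.injective g⁻¹), ncard_lvl, c4]
  · rw [o1, o2, o3, o4]
    ext y
    have hmem : ∀ d : ℤ, y ∈ (fun y : leechLattice => g⁻¹ • y) ''
        {y : leechLattice | (y : GolayPt → ℤ) ∈ J d} ↔
        ((g • y : leechLattice) : GolayPt → ℤ) ∈ J d := by
      intro d
      constructor
      · rintro ⟨a, ha, rfl⟩
        show ((g • g⁻¹ • a : leechLattice) : GolayPt → ℤ) ∈ J d
        rw [smul_inv_smul]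
        exact ha
      · intro h
        exact ⟨g • y, h, inv_smul_smul g y⟩
    simp only [Set.mem_union, Set.mem_singleton_iff, hmem]
    rw [Set.mem_setOf_eq, mem_iff_std g1]
    constructor
    · intro hy
      rcases YF_sub hy with (((h | h) | h) | h) | h
      · left; left; left; left
        rw [Set.mem_singleton_iff] at h
        have : g • y = g • x := by
          rw [g3]; exact Subtype.ext h
        exact MulAction.injective g this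
      · exact Or.inl (Or.inl (Or.inl (Or.inr h)))
      · exact Or.inl (Or.inl (Or.inr h))
      · exact Or.inl (Or.inr h)
      · exact Or.inr h
    · rintro ((((h | h) | h) | h) | h)
      · rw [h, g3]
        exact mem_YF_of yU_mem_F2
      · exact h.1
      · exact h.1
      · exact h.1
      · exact h.1

end Cfsg.Agent.S1641
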