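import Cfsg.Statements.S1680
import Cfsg.Agent.Lib.Helper28.Suz1782.Main
import Cfsg.Agent.Lib.Helper28.Suz1782.Orbits

set_option autoImplicit false
open Cfsg
open Cfsg.Agent.Lib.Helper28

namespace Cfsg.Agent.S1680

/-- In the presented sporadic Suzuki group, let H be the subgroup generated by the images of a, …, f. Then H has index 1782, H has orbits of sizes 416 and 1365 on the cosets of H other than H itself (with the index 1782 this makes the action rank 3). -/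
theorem result : (((Subgroup.closure ({Cfsg.Spor.Suz.a, Cfsg.Spor.Suz.b, Cfsg.Spor.Suz.c, Cfsg.Spor.Suz.d, Cfsg.Spor.Suz.e, Cfsg.Spor.Suz.f} : Set (FreeGroup Cfsg.Spor.Suz.Gen))).map (PresentedGroup.mk (Cfsg.Spor.coxRelators Cfsg.Spor.Suz.edges ∪ {r | r ∈ Cfsg.Spor.Suz.extra})))).index = 1782 ∧ ∃ q₁ q₂ : Cfsg.Spor.Suz ⧸ (((Subgroup.closure ({Cfsg.Spor.Suz.a, Cfsg.Spor.Suz.b, Cfsg.Spor.Suz.c, Cfsg.Spor.Suz.d, Cfsg.Spor.Suz.e, Cfsg.Spor.Suz.f} : Set (FreeGroup Cfsg.Spor.Suz.Gen))).map (PresentedGroup.mk (Cfsg.Spor.coxRelators Cfsg.Spor.Suz.edges ∪ {r | r ∈ Cfsg.Spor.Suz.extra})))), (MulAction.orbit (((Subgroup.closure ({Cfsg.Spor.Suz.a, Cfsg.Spor.Suz.b, Cfsg.Spor.Suz.c, Cfsg.Spor.Suz.d, Cfsg.Spor.Suz.e, Cfsg.Spor.Suz.f} : Set (FreeGroup Cfsg.Spor.Suz.Gen))).map (PresentedGroup.mk (Cfsg.Spor.coxRelators Cfsg.Spor.Suz.edges ∪ {r | r ∈ Cfsg.Spor.Suz.extra})))) q₁).ncard =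 416 ∧ (MulAction.orbit (((Subgroup.closure ({Cfsg.Spor.Suz.a, Cfsg.Spor.Suz.b, Cfsg.Spor.Suz.c, Cfsg.Spor.Suz.d, Cfsg.Spor.Suz.e, Cfsg.Spor.Suz.f} : Set (FreeGroup Cfsg.Spor.Suz.Gen))).map (PresentedGroup.mk (Cfsg.Spor.coxRelators Cfsg.Spor.Suz.edges ∪ {r | r ∈ Cfsg.Spor.Suz.extra})))) q₂).ncard = 1365 := by
  obtain ⟨e, _, hequiv⟩ := Suz1782.cosetEquiv
  have hS : ∀ s ∈ Suz1782.subS, ∃ w ∈ Suz1782.subWords,
      FreeGroup.lift Suz1782.T.perm s = (w.map Suz1782.T.perm).prod := by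
    intro s hs
    obtain ⟨ex, hex, rfl⟩ := (Suz1782.subS_iff s).1 hs
    exact ⟨ex.evalW, Suz1782.subE_words ex hex,
      TC.WE.lift_evalF Suz1782.T.perm Suz1782.T.perm_mul_self ex⟩
  have hW : ∀ w ∈ Suz1782.subWords, ∃ s ∈ Suz1782.subS,
      FreeGroup.lift Suz1782.T.perm s = (w.map Suz1782.T.perm).prod := by
    intro w hw
    obtain ⟨ex, hex, rfl⟩ := Suz1782.subWords_cover w hw
    exact ⟨ex.evalF, (Suz1782.subS_iff _).2 ⟨ex, hex, rfl⟩,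
      TC.WE.lift_evalF Suz1782.T.perm Suz1782.T.perm_mul_self ex⟩
  refine ⟨?_, e.symm ⟨47, by decide⟩, e.symm ⟨1, by decide⟩, ?_, ?_⟩
  · exact (Nat.card_congr e).trans (Nat.card_fin _)
  · exact TC.orbit_ncard_of_cert Suz1782.T Suz1782.hrel e hequiv Suz1782.subWords hS hW
      (Suz1782.OC 2 47) (by decide) Suz1782.orb2_root Suz1782.orbP2_all 11 416
      Suz1782.nn_le_pow Suz1782.orb2_count
  · exact TC.orbit_ncard_of_cert Suz1782.T Suz1782.hrel e hequiv Suz1782.subWords hS hW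
      (Suz1782.OC 1 1) (by decide) Suz1782.orb1_root Suz1782.orbP1_all 11 1365
      Suz1782.nn_le_pow Suz1782.orb1_count

end Cfsg.Agent.S1680
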