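import Cfsg.Statements.S1683
import Cfsg.Agent.Lib.Helper28.He2058.Main
import Cfsg.Agent.Lib.Helper28.He2058.Orbits
import Cfsg.Agent.Lib.Helper28.TCOrbitSet

set_option autoImplicit false
open Cfsg
open Cfsg.Agent.Lib.Helper28

namespace Cfsg.Agent.S1683

/-- In the presented Held group, let H be the subgroup generated by the images of a, c, d, e, f, (ab)^2 and (bcde)^7. Then H has index 2058, there are four distinct H-orbits on the cosets of H other than H itself, of sizes 136, 136, 425 and 1360. -/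
theorem result : (((Subgroup.closure ({Cfsg.Spor.He.a, Cfsg.Spor.He.c, Cfsg.Spor.He.d, Cfsg.Spor.He.e, Cfsg.Spor.He.f, (Cfsg.Spor.He.a * Cfsg.Spor.He.b) ^ 2, (Cfsg.Spor.He.b * Cfsg.Spor.He.c * Cfsg.Spor.He.d * Cfsg.Spor.He.e) ^ 7} : Set (FreeGroup Cfsg.Spor.He.Gen))).map (PresentedGroup.mk (Cfsg.Spor.coxRelators Cfsg.Spor.He.edges ∪ {r | r ∈ Cfsg.Spor.He.extra})))).index = 2058 ∧ ∃ q₁ q₂ q₃ q₄ : Cfsg.Spor.He ⧸ (((Subgroup.closure ({Cfsg.Spor.He.a, Cfsg.Spor.He.c, Cfsg.Spor.He.d, Cfsg.Spor.He.e, Cfsg.Spor.He.f, (Cfsg.Spor.He.a * Cfsg.Spor.He.b) ^ 2, (Cfsg.Spor.He.b * Cfsg.Spor.He.c * Cfsg.Spor.He.d * Cfsg.Spor.He.e) ^ 7} : Set (FreeGroup Cfsg.Spor.He.Gen))).map (PresentedGroup.mk (Cfsg.Spor.coxRelators Cfsg.Spor.He.edges ∪ {r | r ∈ Cfsg.Spor.He.extra})))), MulAction.orbit (((Subgroup.closure ({Cfsg.Spor.He.a, Cfsg.Spor.He.c, Cfsg.Spor.He.d, Cfsg.Spor.He.e,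 Cfsg.Spor.He.f, (Cfsg.Spor.He.a * Cfsg.Spor.He.b) ^ 2, (Cfsg.Spor.He.b * Cfsg.Spor.He.c * Cfsg.Spor.He.d * Cfsg.Spor.He.e) ^ 7} : Set (FreeGroup Cfsg.Spor.He.Gen))).map (PresentedGroup.mk (Cfsg.Spor.coxRelators Cfsg.Spor.He.edges ∪ {r | r ∈ Cfsg.Spor.He.extra})))) q₁ ≠ MulAction.orbit (((Subgroup.closure ({Cfsg.Spor.He.a, Cfsg.Spor.He.c, Cfsg.Spor.He.d, Cfsg.Spor.He.e, Cfsg.Spor.He.f, (Cfsg.Spor.He.a * Cfsg.Spor.He.b) ^ 2, (Cfsg.Spor.He.b * Cfsg.Spor.He.c * Cfsg.Spor.He.d * Cfsg.Spor.He.e) ^ 7} : Set (FreeGroup Cfsg.Spor.He.Gen))).map (PresentedGroup.mk (Cfsg.Spor.coxRelators Cfsg.Spor.He.edges ∪ {r | r ∈ Cfsg.Spor.He.extra})))) q₂ ∧ (MulAction.orbit (((Subgroup.closure ({Cfsg.Spor.He.a, Cfsg.Spor.He.c, Cfsg.Spor.He.d, Cfsg.Spor.He.e, Cfsg.Spor.He.f, (Cfsg.Spor.He.a * Cfsg.Spor.He.b) ^ 2, (Cfsg.Spor.He.b * Cfsg.Spor.He.c * Cfsg.Spor.He.d * Cfsg.Spor.He.e)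 ^ 7} : Set (FreeGroup Cfsg.Spor.He.Gen))).map (PresentedGroup.mk (Cfsg.Spor.coxRelators Cfsg.Spor.He.edges ∪ {r | r ∈ Cfsg.Spor.He.extra})))) q₁).ncard = 136 ∧ (MulAction.orbit (((Subgroup.closure ({Cfsg.Spor.He.a, Cfsg.Spor.He.c, Cfsg.Spor.He.d, Cfsg.Spor.He.e, Cfsg.Spor.He.f, (Cfsg.Spor.He.a * Cfsg.Spor.He.b) ^ 2, (Cfsg.Spor.He.b * Cfsg.Spor.He.c * Cfsg.Spor.He.d * Cfsg.Spor.He.e) ^ 7} : Set (FreeGroup Cfsg.Spor.He.Gen))).map (PresentedGroup.mk (Cfsg.Spor.coxRelators Cfsg.Spor.He.edges ∪ {r | r ∈ Cfsg.Spor.He.extra})))) q₂).ncard = 136 ∧ (MulAction.orbit (((Subgroup.closure ({Cfsg.Spor.He.a, Cfsg.Spor.He.c, Cfsg.Spor.He.d, Cfsg.Spor.He.e, Cfsg.Spor.He.f, (Cfsg.Spor.He.a * Cfsg.Spor.He.b) ^ 2, (Cfsg.Spor.He.b * Cfsg.Spor.He.c * Cfsg.Spor.He.d * Cfsg.Spor.He.e) ^ 7} : Set (FreeGroup Cfsg.Spor.He.Gen))).map (PresentedGroup.mk (Cfsg.Spor.coxRelators Cfsg.Spor.He.edges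 ∪ {r | r ∈ Cfsg.Spor.He.extra})))) q₃).ncard = 425 ∧ (MulAction.orbit (((Subgroup.closure ({Cfsg.Spor.He.a, Cfsg.Spor.He.c, Cfsg.Spor.He.d, Cfsg.Spor.He.e, Cfsg.Spor.He.f, (Cfsg.Spor.He.a * Cfsg.Spor.He.b) ^ 2, (Cfsg.Spor.He.b * Cfsg.Spor.He.c * Cfsg.Spor.He.d * Cfsg.Spor.He.e) ^ 7} : Set (FreeGroup Cfsg.Spor.He.Gen))).map (PresentedGroup.mk (Cfsg.Spor.coxRelators Cfsg.Spor.He.edges ∪ {r | r ∈ Cfsg.Spor.He.extra})))) q₄).ncard = 1360 := by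
  obtain ⟨e, _, hequiv⟩ := He2058.cosetEquiv
  have hS : ∀ s ∈ He2058.subS, ∃ w ∈ He2058.subWords,
      FreeGroup.lift He2058.T.perm s = (w.map He2058.T.perm).prod := by
    intro s hs
    obtain ⟨ex, hex, rfl⟩ := (He2058.subS_iff s).1 hs
    exact ⟨ex.evalW, He2058.subE_words ex hex,
      TC.WE.lift_evalF He2058.T.perm He2058.T.perm_mul_self ex⟩
  have hW : ∀ w ∈ He2058.subWords, ∃ s ∈ He2058.subS,
      FreeGroup.lift He2058.T.perm s = (w.map He2058.T.perm).prod := by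
    intro w hw
    obtain ⟨ex, hex, rfl⟩ := He2058.subWords_cover w hw
    exact ⟨ex.evalF, (He2058.subS_iff _).2 ⟨ex, hex, rfl⟩,
      TC.WE.lift_evalF He2058.T.perm He2058.T.perm_mul_self ex⟩
  refine ⟨(Nat.card_congr e).trans (Nat.card_fin _), e.symm ⟨46, by decide⟩, e.symm ⟨65, by decide⟩,
    e.symm ⟨2, by decide⟩, e.symm ⟨1, by decide⟩, ?_, ?_, ?_, ?_, ?_⟩
  · exact TC.orbit_ne_of_cert He2058.T He2058.hrel e hequiv He2058.subWords hS hW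
      (He2058.OC 3 46) (by decide) He2058.orb3_root He2058.orbP3_all 65 (by decide) (by decide +kernel)
  · exact TC.orbit_ncard_of_cert He2058.T He2058.hrel e hequiv He2058.subWords hS hW
      (He2058.OC 3 46) (by decide) He2058.orb3_root He2058.orbP3_all 12 136
      He2058.nn_le_pow He2058.orb3_count
  · exact TC.orbit_ncard_of_cert He2058.T He2058.hrel e hequiv He2058.subWords hS hW
      (He2058.OC 4 65) (by decide) He2058.orb4_root He2058.orbP4_all 12 136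
      He2058.nn_le_pow He2058.orb4_count
  · exact TC.orbit_ncard_of_cert He2058.T He2058.hrel e hequiv He2058.subWords hS hW
      (He2058.OC 2 2) (by decide) He2058.orb2_root He2058.orbP2_all 12 425
      He2058.nn_le_pow He2058.orb2_count
  · exact TC.orbit_ncard_of_cert He2058.T He2058.hrel e hequiv He2058.subWords hS hW
      (He2058.OC 1 1) (by decide) He2058.orb1_root He2058.orbP1_all 12 1360
      He2058.nn_le_pow He2058.orb1_count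

end Cfsg.Agent.S1683
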