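import Cfsg.Statements.S1687
import Cfsg.Agent.Lib.Helper28.Fi22x3510.Main
import Cfsg.Agent.Lib.Helper28.Fi22x3510.Orbits

set_option autoImplicit false
open Cfsg
open Cfsg.Agent.Lib.Helper28

namespace Cfsg.Agent.S1687

/-- In the presented Fischer group Fi₂₂, let H be the subgroup generated by the images of a, c, d, e, f, g, h, i and (abcdeh)^5. Then H has index 3510, H has orbits of sizes 693 and 2816 on the cosets of H other than H itself. -/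
theorem result : (((Subgroup.closure ({Cfsg.Spor.Fi22.a, Cfsg.Spor.Fi22.c, Cfsg.Spor.Fi22.d, Cfsg.Spor.Fi22.e, Cfsg.Spor.Fi22.f, Cfsg.Spor.Fi22.g, Cfsg.Spor.Fi22.h, Cfsg.Spor.Fi22.i, (Cfsg.Spor.Fi22.a * Cfsg.Spor.Fi22.b * Cfsg.Spor.Fi22.c * Cfsg.Spor.Fi22.d * Cfsg.Spor.Fi22.e * Cfsg.Spor.Fi22.h) ^ 5} : Set (FreeGroup Cfsg.Spor.Fi22.Gen))).map (PresentedGroup.mk (Cfsg.Spor.coxRelators Cfsg.Spor.Fi22.edges ∪ {r | r ∈ Cfsg.Spor.Fi22.extra})))).index = 3510 ∧ ∃ q₁ q₂ : Cfsg.Spor.Fi22 ⧸ (((Subgroup.closure ({Cfsg.Spor.Fi22.a, Cfsg.Spor.Fi22.c, Cfsg.Spor.Fi22.d, Cfsg.Spor.Fi22.e, Cfsg.Spor.Fi22.f, Cfsg.Spor.Fi22.g, Cfsg.Spor.Fi22.h, Cfsg.Spor.Fi22.i, (Cfsg.Spor.Fi22.a * Cfsg.Spor.Fi22.b * Cfsg.Spor.Fi22.c * Cfsg.Spor.Fi22.d * Cfsg.Spor.Fi22.e * Cfsg.Spor.Fi22.h) ^ 5} : Set (FreeGroup Cfsg.Spor.Fi22.Gen))).map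 (PresentedGroup.mk (Cfsg.Spor.coxRelators Cfsg.Spor.Fi22.edges ∪ {r | r ∈ Cfsg.Spor.Fi22.extra})))), (MulAction.orbit (((Subgroup.closure ({Cfsg.Spor.Fi22.a, Cfsg.Spor.Fi22.c, Cfsg.Spor.Fi22.d, Cfsg.Spor.Fi22.e, Cfsg.Spor.Fi22.f, Cfsg.Spor.Fi22.g, Cfsg.Spor.Fi22.h, Cfsg.Spor.Fi22.i, (Cfsg.Spor.Fi22.a * Cfsg.Spor.Fi22.b * Cfsg.Spor.Fi22.c * Cfsg.Spor.Fi22.d * Cfsg.Spor.Fi22.e * Cfsg.Spor.Fi22.h) ^ 5} : Set (FreeGroup Cfsg.Spor.Fi22.Gen))).map (PresentedGroup.mk (Cfsg.Spor.coxRelators Cfsg.Spor.Fi22.edges ∪ {r | r ∈ Cfsg.Spor.Fi22.extra})))) q₁).ncard = 693 ∧ (MulAction.orbit (((Subgroup.closure ({Cfsg.Spor.Fi22.a, Cfsg.Spor.Fi22.c, Cfsg.Spor.Fi22.d, Cfsg.Spor.Fi22.e, Cfsg.Spor.Fi22.f, Cfsg.Spor.Fi22.g, Cfsg.Spor.Fi22.h, Cfsg.Spor.Fi22.i, (Cfsg.Spor.Fi22.a * Cfsg.Spor.Fi22.b * Cfsg.Spor.Fi22.c * Cfsg.Spor.Fi22.d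 * Cfsg.Spor.Fi22.e * Cfsg.Spor.Fi22.h) ^ 5} : Set (FreeGroup Cfsg.Spor.Fi22.Gen))).map (PresentedGroup.mk (Cfsg.Spor.coxRelators Cfsg.Spor.Fi22.edges ∪ {r | r ∈ Cfsg.Spor.Fi22.extra})))) q₂).ncard = 2816 := by
  obtain ⟨e, _, hequiv⟩ := Fi22x3510.cosetEquiv
  have hS : ∀ s ∈ Fi22x3510.subS, ∃ w ∈ Fi22x3510.subWords,
      FreeGroup.lift Fi22x3510.T.perm s = (w.map Fi22x3510.T.perm).prod := by
    intro s hs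
    obtain ⟨ex, hex, rfl⟩ := (Fi22x3510.subS_iff s).1 hs
    exact ⟨ex.evalW, Fi22x3510.subE_words ex hex,
      TC.WE.lift_evalF Fi22x3510.T.perm Fi22x3510.T.perm_mul_self ex⟩
  have hW : ∀ w ∈ Fi22x3510.subWords, ∃ s ∈ Fi22x3510.subS,
      FreeGroup.lift Fi22x3510.T.perm s = (w.map Fi22x3510.T.perm).prod := by
    intro w hw
    obtain ⟨ex, hex, rfl⟩ := Fi22x3510.subWords_cover w hw
    exact ⟨ex.evalF, (Fi22x3510.subS_iff _).2 ⟨ex, hex, rfl⟩,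
      TC.WE.lift_evalF Fi22x3510.T.perm Fi22x3510.T.perm_mul_self ex⟩
  refine ⟨(Nat.card_congr e).trans (Nat.card_fin _), e.symm ⟨6, by decide⟩, e.symm ⟨1, by decide⟩, ?_, ?_⟩
  · exact TC.orbit_ncard_of_cert Fi22x3510.T Fi22x3510.hrel e hequiv Fi22x3510.subWords hS hW
      (Fi22x3510.OC 2 6) (by decide) Fi22x3510.orb2_root Fi22x3510.orbP2_all 12 693
      Fi22x3510.nn_le_pow Fi22x3510.orb2_count
  · exact TC.orbit_ncard_of_cert Fi22x3510.T Fi22x3510.hrel e hequiv Fi22x3510.subWords hS hW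
      (Fi22x3510.OC 1 1) (by decide) Fi22x3510.orb1_root Fi22x3510.orbP1_all 12 2816
      Fi22x3510.nn_le_pow Fi22x3510.orb1_count

end Cfsg.Agent.S1687
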