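import Cfsg.Statements.S1689
import Cfsg.Agent.Lib.Helper28.Fi23x31671.Main
import Cfsg.Agent.Lib.Helper28.Fi23x31671.Orbits

set_option autoImplicit false
open Cfsg
open Cfsg.Agent.Lib.Helper28

namespace Cfsg.Agent.S1689

/-- In the presented Fischer group Fi₂₃, let H be the subgroup generated by the images of a, …, i. Then H has index 31671, H has orbits of sizes 3510 and 28160 on the cosets of H other than H itself. -/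
theorem result : (((Subgroup.closure ({Cfsg.Spor.Fi23.a, Cfsg.Spor.Fi23.b, Cfsg.Spor.Fi23.c, Cfsg.Spor.Fi23.d, Cfsg.Spor.Fi23.e, Cfsg.Spor.Fi23.f, Cfsg.Spor.Fi23.g, Cfsg.Spor.Fi23.h, Cfsg.Spor.Fi23.i} : Set (FreeGroup Cfsg.Spor.Fi23.Gen))).map (PresentedGroup.mk (Cfsg.Spor.coxRelators Cfsg.Spor.Fi23.edges ∪ {r | r ∈ Cfsg.Spor.Fi23.extra})))).index = 31671 ∧ ∃ q₁ q₂ : Cfsg.Spor.Fi23 ⧸ (((Subgroup.closure ({Cfsg.Spor.Fi23.a, Cfsg.Spor.Fi23.b, Cfsg.Spor.Fi23.c, Cfsg.Spor.Fi23.d, Cfsg.Spor.Fi23.e, Cfsg.Spor.Fi23.f, Cfsg.Spor.Fi23.g, Cfsg.Spor.Fi23.h, Cfsg.Spor.Fi23.i} : Set (FreeGroup Cfsg.Spor.Fi23.Gen))).map (PresentedGroup.mk (Cfsg.Spor.coxRelators Cfsg.Spor.Fi23.edges ∪ {r | r ∈ Cfsg.Spor.Fi23.extra})))), (MulAction.orbit (((Subgroup.closure ({Cfsg.Spor.Fi23.a, Cfsg.Spor.Fi23.b, Cfsg.Spor.Fi23.c, Cfsg.Spor.Fi23.d, Cfsg.Spor.Fi23.e, Cfsg.Spor.Fi23.f,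 Cfsg.Spor.Fi23.g, Cfsg.Spor.Fi23.h, Cfsg.Spor.Fi23.i} : Set (FreeGroup Cfsg.Spor.Fi23.Gen))).map (PresentedGroup.mk (Cfsg.Spor.coxRelators Cfsg.Spor.Fi23.edges ∪ {r | r ∈ Cfsg.Spor.Fi23.extra})))) q₁).ncard = 3510 ∧ (MulAction.orbit (((Subgroup.closure ({Cfsg.Spor.Fi23.a, Cfsg.Spor.Fi23.b, Cfsg.Spor.Fi23.c, Cfsg.Spor.Fi23.d, Cfsg.Spor.Fi23.e, Cfsg.Spor.Fi23.f, Cfsg.Spor.Fi23.g, Cfsg.Spor.Fi23.h, Cfsg.Spor.Fi23.i} : Set (FreeGroup Cfsg.Spor.Fi23.Gen))).map (PresentedGroup.mk (Cfsg.Spor.coxRelators Cfsg.Spor.Fi23.edges ∪ {r | r ∈ Cfsg.Spor.Fi23.extra})))) q₂).ncard = 28160 := by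
  obtain ⟨e, _, hequiv⟩ := Fi23x31671.cosetEquiv
  have hS : ∀ s ∈ Fi23x31671.subS, ∃ w ∈ Fi23x31671.subWords,
      FreeGroup.lift Fi23x31671.T.perm s = (w.map Fi23x31671.T.perm).prod := by
    intro s hs
    obtain ⟨ex, hex, rfl⟩ := (Fi23x31671.subS_iff s).1 hs
    exact ⟨ex.evalW, Fi23x31671.subE_words ex hex,
      TC.WE.lift_evalF Fi23x31671.T.perm Fi23x31671.T.perm_mul_self ex⟩
  have hW : ∀ w ∈ Fi23x31671.subWords, ∃ s ∈ Fi23x31671.subS,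
      FreeGroup.lift Fi23x31671.T.perm s = (w.map Fi23x31671.T.perm).prod := by
    intro w hw
    obtain ⟨ex, hex, rfl⟩ := Fi23x31671.subWords_cover w hw
    exact ⟨ex.evalF, (Fi23x31671.subS_iff _).2 ⟨ex, hex, rfl⟩,
      TC.WE.lift_evalF Fi23x31671.T.perm Fi23x31671.T.perm_mul_self ex⟩
  refine ⟨(Nat.card_congr e).trans (Nat.card_fin _), e.symm ⟨52, by decide⟩, e.symm ⟨1, by decide⟩, ?_, ?_⟩
  · exact TC.orbit_ncard_of_cert Fi23x31671.T Fi23x31671.hrel e hequiv Fi23x31671.subWords hS hW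
      (Fi23x31671.OC 2 52) (by decide) Fi23x31671.orb2_root Fi23x31671.orbP2_all 15 3510
      Fi23x31671.nn_le_pow Fi23x31671.orb2_count
  · exact TC.orbit_ncard_of_cert Fi23x31671.T Fi23x31671.hrel e hequiv Fi23x31671.subWords hS hW
      (Fi23x31671.OC 1 1) (by decide) Fi23x31671.orb1_root Fi23x31671.orbP1_all 15 28160
      Fi23x31671.nn_le_pow Fi23x31671.orb1_count

end Cfsg.Agent.S1689
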