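import Cfsg.Statements.S1717
-- import your own Cfsg.Agent.* helpers here

set_option autoImplicit false
open Cfsg

namespace Cfsg.Agent.S1717

theorem sylow_of_centralizer_aux {G : Type*} [Group G] [Finite G] (z : G) (hz : orderOf z = 2)
    (C : Subgroup G) (hC : ∀ x, x ∈ C ↔ x * z = z * x)
    (N : Subgroup C) [N.Normal] (hN : IsPGroup 2 N)
    (hzN : ∃ n ∈ N, (n : G) = z)
    (hCN : ∀ c : C, (∀ n ∈ N, c * n = n * c) → c = 1 ∨ (c : G) = z)
    (T : Sylow 2 C) :
    ¬ 2 ∣ ((T : Subgroup C).map C.subtype).index := by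
  have hp : Fact (Nat.Prime 2) := ⟨Nat.prime_two⟩
  have hNT : N ≤ T := hN.le_sylow_of_normal T
  have hmemT' : ∀ x : G, x ∈ (T : Subgroup C).map C.subtype ↔
      ∃ h : x ∈ C, (⟨x, h⟩ : C) ∈ (T : Subgroup C) := by
    intro x
    constructor
    · rintro ⟨c, hc, rfl⟩
      exact ⟨c.2, hc⟩
    · rintro ⟨h, hc⟩
      exact ⟨⟨x, h⟩, hc, rfl⟩
  have hT'C : (T : Subgroup C).map C.subtype ≤ C := by
    intro x hx
    obtain ⟨h, _⟩ := (hmemT' x).mp hx
    exact h
  have hz1 : z ≠ 1 := by
    rintro rfl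
    simp at hz
  have hzT' : z ∈ (T : Subgroup C).map C.subtype := by
    obtain ⟨n, hn, hnz⟩ := hzN
    rw [← hnz]
    exact (hmemT' _).mpr ⟨n.2, hNT hn⟩
  obtain ⟨n, hcardT⟩ := IsPGroup.iff_card.mp T.isPGroup'
  have hcardT' : Nat.card ((T : Subgroup C).map C.subtype) = 2 ^ n := by
    rw [Subgroup.card_map_of_injective (Subgroup.subtype_injective C)]
    exact hcardT
  intro hdvd
  have hdvd' : 2 ^ (n + 1) ∣ Nat.card G := by
    rw [← Subgroup.card_mul_index ((T : Subgroup C).map C.subtype), hcardT', pow_succ]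
    exact Nat.mul_dvd_mul_left _ hdvd
  obtain ⟨K, hKcard, hT'K⟩ := Sylow.exists_subgroup_card_pow_succ hdvd' hcardT'
  -- T' has index 2 in K, hence is normal in K
  have hidx : (((T : Subgroup C).map C.subtype).subgroupOf K).index = 2 := by
    have h1 := Subgroup.card_mul_index (((T : Subgroup C).map C.subtype).subgroupOf K)
    rw [Nat.card_congr (Subgroup.subgroupOfEquivOfLe hT'K).toEquiv, hcardT', hKcard, pow_succ] at h1
    exact Nat.eq_of_mul_eq_mul_left (by positivity) h1
  have hnorm : (((T : Subgroup C).map C.subtype).subgroupOf K).Normal :=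
    Subgroup.normal_of_index_eq_two hidx
  have hconj : ∀ x ∈ K, ∀ y ∈ (T : Subgroup C).map C.subtype,
      x * y * x⁻¹ ∈ (T : Subgroup C).map C.subtype := by
    intro x hx y hy
    have := hnorm.conj_mem ⟨y, hT'K hy⟩ (Subgroup.mem_subgroupOf.mpr hy) ⟨x, hx⟩
    exact Subgroup.mem_subgroupOf.mp this
  -- every element of K centralizes z
  have hKC : K ≤ C := by
    intro x hx
    have h1 : x * z * x⁻¹ ∈ (T : Subgroup C).map C.subtype := hconj x hx z hzT'
    have h1C : x * z * x⁻¹ ∈ C := hT'C h1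
    have h2 : ∀ m ∈ N, (⟨x * z * x⁻¹, h1C⟩ : C) * m = m * ⟨x * z * x⁻¹, h1C⟩ := by
      intro m hm
      apply Subtype.ext
      show x * z * x⁻¹ * (m : G) = (m : G) * (x * z * x⁻¹)
      have hmT' : (m : G) ∈ (T : Subgroup C).map C.subtype := (hmemT' _).mpr ⟨m.2, hNT hm⟩
      have h3 : x⁻¹ * (m : G) * x⁻¹⁻¹ ∈ (T : Subgroup C).map C.subtype :=
        hconj x⁻¹ (K.inv_mem hx) _ hmT'
      have h4 := (hC _).mp (hT'C h3)
      rw [inv_inv] at h4
      calc x * z * x⁻¹ * (m : G) = x * (z * (x⁻¹ * (m : G) * x)) * x⁻¹ := by group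
        _ = x * ((x⁻¹ * (m : G) * x) * z) * x⁻¹ := by rw [h4]
        _ = (m : G) * (x * z * x⁻¹) := by group
    rcases hCN _ h2 with h5 | h5
    · exfalso
      have h6 : x * z * x⁻¹ = 1 := congrArg Subtype.val h5
      apply hz1
      calc z = x⁻¹ * (x * z * x⁻¹) * x := by group
        _ = 1 := by rw [h6]; group
    · have h6 : x * z * x⁻¹ = z := h5
      rw [hC]
      calc x * z = (x * z * x⁻¹) * x := by group
        _ = z * x := by rw [h6]
  -- K gives a 2-subgroup of C containing T, contradiction with maximality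
  have hKp : IsPGroup 2 (K.subgroupOf C) := by
    apply IsPGroup.of_card (n := n + 1)
    rw [Nat.card_congr (Subgroup.subgroupOfEquivOfLe hKC).toEquiv, hKcard]
  have hTK : (T : Subgroup C) ≤ K.subgroupOf C := by
    intro c hc
    rw [Subgroup.mem_subgroupOf]
    exact hT'K ((hmemT' _).mpr ⟨c.2, hc⟩)
  have heq := T.is_maximal' hKp hTK
  have h7 : Nat.card (K.subgroupOf C) = 2 ^ (n + 1) := by
    rw [Nat.card_congr (Subgroup.subgroupOfEquivOfLe hKC).toEquiv, hKcard]
  rw [heq, hcardT] at h7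
  have : (2 : ℕ) ^ n < 2 ^ (n + 1) := Nat.pow_lt_pow_right (by norm_num) (Nat.lt_succ_self n)
  omega


open Matrix

/-- the index embedding `{0,1,2} → {2,3,4}` -/
def blk : Fin 3 → Fin 5 := ![2, 3, 4]

theorem blk_injective : Function.Injective blk := by
  unfold blk; decide

theorem commute_iff (s g : Matrix.SpecialLinearGroup (Fin 5) (ZMod 2))
    (hs : (s : Matrix (Fin 5) (Fin 5) (ZMod 2)) = Matrix.transvection 0 1 1) :
    g ∈ Subgroup.centralizer ({s} : Set (Matrix.SpecialLinearGroup (Fin 5) (ZMod 2))) ↔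
      Commute (Matrix.single (0 : Fin 5) (1 : Fin 5) (1 : ZMod 2))
        (g : Matrix (Fin 5) (Fin 5) (ZMod 2)) := by
  rw [Subgroup.mem_centralizer_iff]
  constructor
  · intro h
    have h1 := h s rfl
    have h2 : (s : Matrix (Fin 5) (Fin 5) (ZMod 2)) * g = g * s := by
      rw [← Matrix.SpecialLinearGroup.coe_mul, ← Matrix.SpecialLinearGroup.coe_mul, h1]
    rw [hs, Matrix.transvection, add_mul, mul_add, one_mul, mul_one, add_right_inj] at h2
    exact h2
  · intro h x hx
    rw [Set.mem_singleton_iff] at hx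
    subst hx
    apply Subtype.ext
    rw [Matrix.SpecialLinearGroup.coe_mul, Matrix.SpecialLinearGroup.coe_mul, hs,
      Matrix.transvection, add_mul, mul_add, one_mul, mul_one, add_right_inj]
    exact h

theorem block_mul (g h : Matrix (Fin 5) (Fin 5) (ZMod 2)) (hg : ∀ i, i ≠ 0 → g i 0 = 0)
    (hh : ∀ j, j ≠ 1 → h 1 j = 0) :
    (g * h).submatrix blk blk = g.submatrix blk blk * h.submatrix blk blk := by
  ext i j
  simp only [Matrix.submatrix_apply, Matrix.mul_apply, Fin.sum_univ_five, Fin.sum_univ_three]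
  fin_cases i <;> fin_cases j <;> simp [blk, hg, hh]

/-- entries of a matrix commuting with `E₀₁` -/
theorem entries_of_commute (m : Matrix (Fin 5) (Fin 5) (ZMod 2))
    (h : Commute (Matrix.single (0 : Fin 5) (1 : Fin 5) (1 : ZMod 2)) m) :
    (∀ i, i ≠ 0 → m i 0 = 0) ∧ (∀ j, j ≠ 1 → m 1 j = 0) ∧ m 0 0 = m 1 1 :=
  ⟨fun _ hi => Matrix.col_eq_zero_of_commute_single h hi,
   fun _ hj => Matrix.row_eq_zero_of_commute_single h hj,
   Matrix.diag_eq_of_commute_single h⟩

/-- a matrix of determinant one over `ZMod 2` whose first column is a multiple of `e₀` has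
`(0,0)`-entry one -/
theorem entry00 (m : Matrix (Fin 5) (Fin 5) (ZMod 2)) (hdet : m.det = 1)
    (hcol : ∀ i, i ≠ 0 → m i 0 = 0) : m 0 0 = 1 := by
  by_contra h
  have h0 : m 0 0 = 0 := by
    have : ∀ x : ZMod 2, x ≠ 1 → x = 0 := by decide
    exact this _ h
  have : m.det = 0 := by
    apply Matrix.det_eq_zero_of_column_eq_zero 0
    intro i
    by_cases hi : i = 0
    · rw [hi]; exact h0
    · exact hcol i hi
  rw [this] at hdet
  exact zero_ne_one hdet

/-- the block homomorphism on the centralizer -/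
noncomputable def blockHom (s : Matrix.SpecialLinearGroup (Fin 5) (ZMod 2))
    (hs : (s : Matrix (Fin 5) (Fin 5) (ZMod 2)) = Matrix.transvection 0 1 1) :
    Subgroup.centralizer ({s} : Set (Matrix.SpecialLinearGroup (Fin 5) (ZMod 2))) →*
      Matrix (Fin 3) (Fin 3) (ZMod 2) where
  toFun g := ((g : Matrix.SpecialLinearGroup (Fin 5) (ZMod 2)) :
    Matrix (Fin 5) (Fin 5) (ZMod 2)).submatrix blk blk
  map_one' := by
    show (1 : Matrix (Fin 5) (Fin 5) (ZMod 2)).submatrix blk blk = 1
    exact Matrix.submatrix_one blk blk_injective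
  map_mul' := by
    intro g h
    have hg := entries_of_commute _ ((commute_iff s g.1 hs).mp g.2)
    have hh := entries_of_commute _ ((commute_iff s h.1 hs).mp h.2)
    show ((((g * h : Subgroup.centralizer ({s} : Set (Matrix.SpecialLinearGroup (Fin 5) (ZMod 2)))) :
      Matrix.SpecialLinearGroup (Fin 5) (ZMod 2)) : Matrix (Fin 5) (Fin 5) (ZMod 2))).submatrix blk blk = _
    rw [Subgroup.coe_mul, Matrix.SpecialLinearGroup.coe_mul]
    exact block_mul _ _ hg.1 hh.2.1

theorem pow4 : ∀ a1 a2 a3 a4 b2 b3 b4 : ZMod 2,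
    (!![1, a1, a2, a3, a4; 0, 1, 0, 0, 0; 0, b2, 1, 0, 0; 0, b3, 0, 1, 0; 0, b4, 0, 0, 1] :
      Matrix (Fin 5) (Fin 5) (ZMod 2)) ^ 4 = 1 := by
  decide +kernel

/-- explicit form of a kernel element -/
theorem ker_form (m : Matrix (Fin 5) (Fin 5) (ZMod 2)) (hdet : m.det = 1)
    (h : Commute (Matrix.single (0 : Fin 5) (1 : Fin 5) (1 : ZMod 2)) m)
    (hb : m.submatrix blk blk = 1) :
    m = !![1, m 0 1, m 0 2, m 0 3, m 0 4; 0, 1, 0, 0, 0; 0, m 2 1, 1, 0, 0; 0, m 3 1, 0, 1, 0;
      0, m 4 1, 0, 0, 1] := by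
  obtain ⟨hcol, hrow, hdiag⟩ := entries_of_commute m h
  have h00 := entry00 m hdet hcol
  have h11 : m 1 1 = 1 := by rw [← hdiag, h00]
  have hblk : ∀ i j : Fin 3, m (blk i) (blk j) = (1 : Matrix (Fin 3) (Fin 3) (ZMod 2)) i j := by
    intro i j
    rw [← hb]; rfl
  have b00 := hblk 0 0
  have b01 := hblk 0 1
  have b02 := hblk 0 2
  have b10 := hblk 1 0
  have b11 := hblk 1 1
  have b12 := hblk 1 2
  have b20 := hblk 2 0
  have b21 := hblk 2 1
  have b22 := hblk 2 2
  simp [blk] at b00 b01 b02 b10 b11 b12 b20 b21 b22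
  ext i j
  fin_cases i <;> fin_cases j <;> simp [h00, h11, hcol, hrow, b00, b01, b02, b10, b11, b12, b20, b21, b22]

theorem ker_isPGroup (s : Matrix.SpecialLinearGroup (Fin 5) (ZMod 2))
    (hs : (s : Matrix (Fin 5) (Fin 5) (ZMod 2)) = Matrix.transvection 0 1 1) :
    IsPGroup 2 (blockHom s hs).ker := by
  intro g
  refine ⟨2, ?_⟩
  have hcomm := (commute_iff s g.1.1 hs).mp g.1.2
  have hb : ((g.1.1 : Matrix.SpecialLinearGroup (Fin 5) (ZMod 2)) :
      Matrix (Fin 5) (Fin 5) (ZMod 2)).submatrix blk blk = 1 := (MonoidHom.mem_ker).mp g.2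
  have hform := ker_form _ g.1.1.2 hcomm hb
  have hm : ((g.1.1 : Matrix.SpecialLinearGroup (Fin 5) (ZMod 2)) :
      Matrix (Fin 5) (Fin 5) (ZMod 2)) ^ 4 = 1 := by
    rw [hform]; exact pow4 _ _ _ _ _ _ _
  apply Subtype.ext
  apply Subtype.ext
  apply Subtype.ext
  show ((((g ^ 2 ^ 2 : (blockHom s hs).ker) : Subgroup.centralizer ({s} : Set _)) :
    Matrix.SpecialLinearGroup (Fin 5) (ZMod 2)) : Matrix (Fin 5) (Fin 5) (ZMod 2)) = 1
  rw [Subgroup.coe_pow, Subgroup.coe_pow, Matrix.SpecialLinearGroup.coe_pow]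
  exact hm

theorem s_mem_cent (s : Matrix.SpecialLinearGroup (Fin 5) (ZMod 2)) :
    s ∈ Subgroup.centralizer ({s} : Set (Matrix.SpecialLinearGroup (Fin 5) (ZMod 2))) := by
  rw [Subgroup.mem_centralizer_iff]
  intro x hx
  rw [Set.mem_singleton_iff] at hx
  rw [hx]

theorem s_mem_ker (s : Matrix.SpecialLinearGroup (Fin 5) (ZMod 2))
    (hs : (s : Matrix (Fin 5) (Fin 5) (ZMod 2)) = Matrix.transvection 0 1 1) :
    (⟨s, s_mem_cent s⟩ : Subgroup.centralizer ({s} : Set _)) ∈ (blockHom s hs).ker := by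
  rw [MonoidHom.mem_ker]
  show (s : Matrix (Fin 5) (Fin 5) (ZMod 2)).submatrix blk blk = 1
  rw [hs]
  decide

/-- commuting with the kernel forces commuting with the relevant elementary matrices -/
theorem comm_tv (s : Matrix.SpecialLinearGroup (Fin 5) (ZMod 2))
    (hs : (s : Matrix (Fin 5) (Fin 5) (ZMod 2)) = Matrix.transvection 0 1 1)
    (c : Subgroup.centralizer ({s} : Set (Matrix.SpecialLinearGroup (Fin 5) (ZMod 2))))
    (hc : ∀ n ∈ (blockHom s hs).ker, c * n = n * c) (a b : Fin 5) (hab : a ≠ b)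
    (hcomm : Commute (Matrix.single (0 : Fin 5) (1 : Fin 5) (1 : ZMod 2))
      (Matrix.transvection a b (1 : ZMod 2)))
    (hblk : (Matrix.transvection a b (1 : ZMod 2)).submatrix blk blk = 1) :
    Commute (Matrix.single a b (1 : ZMod 2))
      ((c : Matrix.SpecialLinearGroup (Fin 5) (ZMod 2)) : Matrix (Fin 5) (Fin 5) (ZMod 2)) := by
  let n₀ : Matrix.SpecialLinearGroup (Fin 5) (ZMod 2) :=
    ⟨Matrix.transvection a b 1, Matrix.det_transvection_of_ne a b hab 1⟩
  have hn₀ : n₀ ∈ Subgroup.centralizer ({s} : Set _) := (commute_iff s n₀ hs).mpr hcomm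
  have hker : (⟨n₀, hn₀⟩ : Subgroup.centralizer ({s} : Set _)) ∈ (blockHom s hs).ker := by
    rw [MonoidHom.mem_ker]
    exact hblk
  have h1 := hc _ hker
  have h2 : ((c : Matrix.SpecialLinearGroup (Fin 5) (ZMod 2)) : Matrix (Fin 5) (Fin 5) (ZMod 2)) *
      Matrix.transvection a b 1 = Matrix.transvection a b 1 *
      ((c : Matrix.SpecialLinearGroup (Fin 5) (ZMod 2)) : Matrix (Fin 5) (Fin 5) (ZMod 2)) := by
    have h3 := congrArg (fun x : Subgroup.centralizer ({s} : Set _) =>
      ((x : Matrix.SpecialLinearGroup (Fin 5) (ZMod 2)) : Matrix (Fin 5) (Fin 5) (ZMod 2))) h1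
    simpa using h3
  rw [Matrix.transvection, add_mul, mul_add, one_mul, mul_one, add_right_inj] at h2
  exact h2.symm

theorem cent_ker (s : Matrix.SpecialLinearGroup (Fin 5) (ZMod 2))
    (hs : (s : Matrix (Fin 5) (Fin 5) (ZMod 2)) = Matrix.transvection 0 1 1)
    (c : Subgroup.centralizer ({s} : Set (Matrix.SpecialLinearGroup (Fin 5) (ZMod 2))))
    (hc : ∀ n ∈ (blockHom s hs).ker, c * n = n * c) :
    c = 1 ∨ (c : Matrix.SpecialLinearGroup (Fin 5) (ZMod 2)) = s := by
  set m : Matrix (Fin 5) (Fin 5) (ZMod 2) :=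
    ((c : Matrix.SpecialLinearGroup (Fin 5) (ZMod 2)) : Matrix (Fin 5) (Fin 5) (ZMod 2)) with hm
  have hcomm := (commute_iff s c.1 hs).mp c.2
  obtain ⟨hcol, hrow, hdiag⟩ := entries_of_commute m hcomm
  have h00 := entry00 m c.1.2 hcol
  have h11 : m 1 1 = 1 := by rw [← hdiag, h00]
  have c02 := comm_tv s hs c hc 0 2 (by decide) (by show _ * _ = _ * _; decide) (by decide)
  have c03 := comm_tv s hs c hc 0 3 (by decide) (by show _ * _ = _ * _; decide) (by decide)
  have c04 := comm_tv s hs c hc 0 4 (by decide) (by show _ * _ = _ * _; decide) (by decide)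
  have c21 := comm_tv s hs c hc 2 1 (by decide) (by show _ * _ = _ * _; decide) (by decide)
  have c31 := comm_tv s hs c hc 3 1 (by decide) (by show _ * _ = _ * _; decide) (by decide)
  have c41 := comm_tv s hs c hc 4 1 (by decide) (by show _ * _ = _ * _; decide) (by decide)
  have r2 : ∀ j, j ≠ 2 → m 2 j = 0 := fun j hj => Matrix.row_eq_zero_of_commute_single c02 hj
  have r3 : ∀ j, j ≠ 3 → m 3 j = 0 := fun j hj => Matrix.row_eq_zero_of_commute_single c03 hj
  have r4 : ∀ j, j ≠ 4 → m 4 j = 0 := fun j hj => Matrix.row_eq_zero_of_commute_single c04 hj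
  have d2 : m 2 2 = 1 := (Matrix.diag_eq_of_commute_single c02).symm.trans h00
  have d3 : m 3 3 = 1 := (Matrix.diag_eq_of_commute_single c03).symm.trans h00
  have d4 : m 4 4 = 1 := (Matrix.diag_eq_of_commute_single c04).symm.trans h00
  have k2 : ∀ i, i ≠ 2 → m i 2 = 0 := fun i hi => Matrix.col_eq_zero_of_commute_single c21 hi
  have k3 : ∀ i, i ≠ 3 → m i 3 = 0 := fun i hi => Matrix.col_eq_zero_of_commute_single c31 hi
  have k4 : ∀ i, i ≠ 4 → m i 4 = 0 := fun i hi => Matrix.col_eq_zero_of_commute_single c41 hi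
  have hcases : ∀ x : ZMod 2, x = 0 ∨ x = 1 := by decide
  rcases hcases (m 0 1) with h01 | h01
  · left
    apply Subtype.ext
    apply Subtype.ext
    show m = 1
    ext i j
    fin_cases i <;> fin_cases j <;>
      simp [h00, h11, h01, hcol, hrow, r2, r3, r4, d2, d3, d4, k2, k3, k4]
  · right
    apply Subtype.ext
    show m = s
    rw [hs]
    ext i j
    fin_cases i <;> fin_cases j <;>
      simp [Matrix.transvection, Matrix.single, h00, h11, h01, hcol, hrow, r2, r3, r4, d2, d3, d4, k2, k3, k4]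


/-- Let G be a finite group with an involution z whose centraliser C is isomorphic to the centraliser of a transvection of SL(5, 2). Then a Sylow 2-subgroup of C, viewed in G, is a Sylow 2-subgroup of G (its index in G is odd). -/
theorem result {G : Type*} [Group G] [Finite G] (s : Matrix.SpecialLinearGroup (Fin 5) (ZMod 2)) (hs : (s : Matrix (Fin 5) (Fin 5) (ZMod 2)) = Matrix.transvection 0 1 1) (z : G) (hz : orderOf z = 2) (e : (Subgroup.centralizer ({z} : Set G)) ≃* Subgroup.centralizer ({s} : Set (Matrix.SpecialLinearGroup (Fin 5) (ZMod 2)))) (T : Sylow 2 (Subgroup.centralizer ({z} : Set G))) : ¬ 2 ∣ ((T : Subgroup (Subgroup.centralizer ({z} : Set G))).map (Subgroup.subtype (Subgroup.centralizer ({z} : Set G)))).index := by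
  have hzC : z ∈ Subgroup.centralizer ({z} : Set G) := by
    rw [Subgroup.mem_centralizer_iff]
    intro x hx
    rw [Set.mem_singleton_iff] at hx
    rw [hx]
  have hC : ∀ x, x ∈ Subgroup.centralizer ({z} : Set G) ↔ x * z = z * x := by
    intro x
    rw [Subgroup.mem_centralizer_iff]
    constructor
    · intro h; exact (h z rfl).symm
    · intro h y hy
      rw [Set.mem_singleton_iff] at hy
      rw [hy]; exact h.symm
  have hz1 : z ≠ 1 := by
    rintro rfl
    simp at hz
  -- z is central in its centralizer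
  have hzcen : ∀ c : Subgroup.centralizer ({z} : Set G),
      (⟨z, hzC⟩ : Subgroup.centralizer ({z} : Set G)) * c = c * ⟨z, hzC⟩ := by
    intro c
    apply Subtype.ext
    exact ((hC c.1).mp c.2).symm
  -- e maps z to s
  have hez : e ⟨z, hzC⟩ = ⟨s, s_mem_cent s⟩ := by
    have h1 : ∀ n ∈ (blockHom s hs).ker, e ⟨z, hzC⟩ * n = n * e ⟨z, hzC⟩ := by
      intro n _
      have h2 := congrArg e (hzcen (e.symm n))
      rw [map_mul, map_mul, MulEquiv.apply_symm_apply] at h2
      exact h2
    rcases cent_ker s hs _ h1 with h | h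
    · exfalso
      have h3 : (⟨z, hzC⟩ : Subgroup.centralizer ({z} : Set G)) = 1 := by
        apply e.injective
        rw [h, map_one]
      exact hz1 (congrArg Subtype.val h3)
    · exact Subtype.ext h
  have hNn : ((blockHom s hs).ker.comap e.toMonoidHom).Normal := inferInstance
  have hN : IsPGroup 2 ((blockHom s hs).ker.comap e.toMonoidHom) :=
    (ker_isPGroup s hs).comap_of_injective e.toMonoidHom e.injective
  refine sylow_of_centralizer_aux z hz _ hC ((blockHom s hs).ker.comap e.toMonoidHom) hN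
    ⟨⟨z, hzC⟩, ?_, rfl⟩ ?_ T
  · rw [Subgroup.mem_comap]
    show e ⟨z, hzC⟩ ∈ (blockHom s hs).ker
    rw [hez]
    exact s_mem_ker s hs
  · intro c hc
    have h1 : ∀ n ∈ (blockHom s hs).ker, e c * n = n * e c := by
      intro n hn
      have hmem : e.symm n ∈ (blockHom s hs).ker.comap e.toMonoidHom := by
        rw [Subgroup.mem_comap]
        show e (e.symm n) ∈ (blockHom s hs).ker
        rw [MulEquiv.apply_symm_apply]
        exact hn
      have h2 := congrArg e (hc _ hmem)
      rw [map_mul, map_mul, MulEquiv.apply_symm_apply] at h2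
      exact h2
    rcases cent_ker s hs _ h1 with h | h
    · left
      apply e.injective
      rw [h, map_one]
    · right
      have h3 : e c = e ⟨z, hzC⟩ := by
        rw [hez]
        exact Subtype.ext h
      have h4 := e.injective h3
      rw [h4]

end Cfsg.Agent.S1717
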