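import Cfsg.Statements.S1754
import Cfsg.Agent.Lib.Helper29.Iso

set_option autoImplicit false
open Cfsg

namespace Cfsg.Agent.S1754

/-- Let A be a standard subgroup of the finite group G (A quasisimple, C_G(A) tightly embedded of even order, A commuting elementwise with no other conjugate of itself, and N_G(A) = N_G(C_G(A))), and let t be an involution of G centralizing A. Then the centralizer of t lies in the normalizer of A; in particular A, viewed inside C_G(t), is a component of C_G(t). -/
theorem result {G : Type*} [Group G] [Finite G]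
    (A : Subgroup G) (hA : Cfsg.IsStandardSubgroup A) (t : G) (ht : orderOf t = 2) (htA : t ∈ Subgroup.centralizer (A : Set G)) :
    Subgroup.centralizer ({t} : Set G) ≤ Subgroup.normalizer (A : Set G) ∧
      Cfsg.IsComponent (A.subgroupOf (Subgroup.centralizer ({t} : Set G))) := by
  obtain ⟨hq, ⟨_, htight⟩, _, hnorm⟩ := hA
  have htg : ∀ g ∈ Subgroup.centralizer ({t} : Set G), g * t * g⁻¹ = t := by
    intro g hg
    rw [Subgroup.mem_centralizer_iff] at hg
    have := hg t rfl
    rw [← this]; group
  have hC : Subgroup.centralizer ({t} : Set G) ≤ Subgroup.normalizer (A : Set G) := by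
    intro g hg
    rw [hnorm]
    by_contra hgn
    have hodd := htight g hgn
    have htmem : t ∈ Subgroup.centralizer (A : Set G) ⊓
        (Subgroup.centralizer (A : Set G)).map (MulAut.conj g).toMonoidHom :=
      ⟨htA, ⟨t, htA, htg g hg⟩⟩
    have hdvd : 2 ∣ Nat.card ↥(Subgroup.centralizer (A : Set G) ⊓
        (Subgroup.centralizer (A : Set G)).map (MulAut.conj g).toMonoidHom) := by
      have := Subgroup.orderOf_dvd_natCard _ htmem
      rwa [ht] at this
    exact (Nat.not_even_iff_odd.mpr hodd) (even_iff_two_dvd.mpr hdvd)
  have hle : A ≤ Subgroup.centralizer ({t} : Set G) := by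
    intro a ha
    rw [Subgroup.mem_centralizer_iff]
    intro x hx
    rw [Set.mem_singleton_iff] at hx
    subst hx
    rw [Subgroup.mem_centralizer_iff] at htA
    exact (htA a ha).symm
  refine ⟨hC, ?_, ?_⟩
  · have : (A.subgroupOf (Subgroup.centralizer ({t} : Set G))).Normal :=
      (Subgroup.normal_subgroupOf_iff_le_normalizer hle).mpr hC
    exact this.isSubnormal
  · exact Cfsg.Agent.Lib.Helper29.isQuasisimple_of_mulEquiv (Subgroup.subgroupOfEquivOfLe hle).symm hq

end Cfsg.Agent.S1754
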