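import Cfsg.Statements.S1757
-- import your own Cfsg.Agent.* helpers here

set_option autoImplicit false
open Cfsg

namespace Cfsg.Agent.S1757

/-- Let p be a prime and A, B p-subgroups of the finite group G, each of which meets every conjugate of itself other than itself trivially. Suppose the order of A is at most that of B, A and B intersect trivially, and B normalizes A. Then A and B commute elementwise. -/
theorem result {G : Type*} [Group G] [Finite G] (p : ℕ) [Fact p.Prime] (A B : Subgroup G)
    (hA : IsPGroup p ↥A) (hB : IsPGroup p ↥B)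
    (hAti : ∀ g : G, A.map (MulAut.conj g).toMonoidHom = A ∨ A.map (MulAut.conj g).toMonoidHom ⊓ A = ⊥)
    (hBti : ∀ g : G, B.map (MulAut.conj g).toMonoidHom = B ∨ B.map (MulAut.conj g).toMonoidHom ⊓ B = ⊥)
    (hle : Nat.card ↥A ≤ Nat.card ↥B) (hAB : A ⊓ B = ⊥) (hN : B ≤ Subgroup.normalizer (A : Set G)) : ⁅A, B⁆ = ⊥ := by
  -- B normalizes A
  have hconjA : ∀ b ∈ B, ∀ a ∈ A, b * a * b⁻¹ ∈ A := by
    intro b hb a ha
    have := hN hb
    rw [Subgroup.mem_normalizer_iff] at this
    exact (this a).1 ha
  -- key: a nontrivial element of B fixing a forces all of B to fix a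
  have key : ∀ a ∈ A, ∀ b ∈ B, b ≠ 1 → b * a * b⁻¹ = a → ∀ b' ∈ B, b' * a * b'⁻¹ = a := by
    intro a ha b hb hb1 hba b' hb'
    rcases hBti a with h | h
    · have h1 : a * b' * a⁻¹ ∈ B := by
        rw [← h]; exact ⟨b', hb', rfl⟩
      have h2 : a * b' * a⁻¹ * b'⁻¹ ∈ A ⊓ B := by
        refine ⟨?_, B.mul_mem h1 (B.inv_mem hb')⟩
        have h3 : b' * a⁻¹ * b'⁻¹ ∈ A := hconjA b' hb' a⁻¹ (A.inv_mem ha)
        have : a * b' * a⁻¹ * b'⁻¹ = a * (b' * a⁻¹ * b'⁻¹) := by group
        rw [this]; exact A.mul_mem ha h3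
      rw [hAB, Subgroup.mem_bot] at h2
      have : a * b' = b' * a := by
        have h4 : a * b' * a⁻¹ * b'⁻¹ * b' * a = b' * a := by rw [h2]; group
        rw [← h4]; group
      rw [← this]; group
    · exfalso
      have hb2 : b ∈ B.map (MulAut.conj a).toMonoidHom ⊓ B := by
        refine ⟨⟨b, hb, ?_⟩, hb⟩
        show a * b * a⁻¹ = b
        have : b * a = a * b := by
          have h5 : b * a * b⁻¹ * b = a * b := by rw [hba]
          rw [← h5]; group
        rw [← this]; group
      rw [h, Subgroup.mem_bot] at hb2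
      exact hb1 hb2
  rw [Subgroup.commutator_eq_bot_iff_le_centralizer]
  intro a ha
  rw [Subgroup.mem_centralizer_iff]
  by_contra hcon
  push_neg at hcon
  obtain ⟨b₀, hb₀, hne⟩ := hcon
  have hb₀' : b₀ * a * b₀⁻¹ ≠ a := by
    intro h
    apply hne
    have h5 : b₀ * a * b₀⁻¹ * b₀ = a * b₀ := by rw [h]
    rw [← h5]; group
  have ha1 : a ≠ 1 := by
    rintro rfl
    apply hb₀'
    group
  -- injective map Option B → A
  let f : Option B → A := fun o => match o with
    | none => 1
    | some b => ⟨(b : G) * a * (b : G)⁻¹, hconjA b b.2 a ha⟩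
  have hf : Function.Injective f := by
    intro o₁ o₂ h
    match o₁, o₂ with
    | none, none => rfl
    | none, some b =>
      exfalso
      have : (1 : G) = (b : G) * a * (b : G)⁻¹ := congrArg Subtype.val h
      apply ha1
      have h6 : (b : G)⁻¹ * ((b : G) * a * (b : G)⁻¹) * (b : G) = a := by group
      rw [← h6, ← this]; group
    | some b, none =>
      exfalso
      have : (b : G) * a * (b : G)⁻¹ = (1 : G) := congrArg Subtype.val h
      apply ha1
      have h6 : (b : G)⁻¹ * ((b : G) * a * (b : G)⁻¹) * (b : G) = a := by group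
      rw [← h6, this]; group
    | some b, some b' =>
      have h7 : (b : G) * a * (b : G)⁻¹ = (b' : G) * a * (b' : G)⁻¹ := congrArg Subtype.val h
      by_contra hbb
      have hbb' : (b' : G)⁻¹ * (b : G) ≠ 1 := by
        intro h8
        apply hbb
        have : (b : G) = (b' : G) := by
          have : (b' : G) * ((b' : G)⁻¹ * (b : G)) = (b' : G) := by rw [h8, mul_one]
          rw [← this]; group
        rw [Subtype.ext this]
      have h9 : ((b' : G)⁻¹ * (b : G)) * a * ((b' : G)⁻¹ * (b : G))⁻¹ = a := by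
        have : ((b' : G)⁻¹ * (b : G)) * a * ((b' : G)⁻¹ * (b : G))⁻¹
            = (b' : G)⁻¹ * ((b : G) * a * (b : G)⁻¹) * (b' : G) := by group
        rw [this, h7]; group
      exact hb₀' (key a ha _ (B.mul_mem (B.inv_mem b'.2) b.2) hbb' h9 b₀ hb₀)
  have hcard := Nat.card_le_card_of_injective f hf
  rw [Finite.card_option] at hcard
  omega

end Cfsg.Agent.S1757
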