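import Cfsg.Statements.S1774
import Cfsg.Agent.Lib.Helper30.SympExp4
import Cfsg.Agent.Lib.Helper21.GenFitting

set_option autoImplicit false
open Cfsg

namespace Cfsg.Agent.S1774

open scoped commutatorElement

section Abstract

variable {G : Type*} [Group G]

/-- Elementwise package: `Q` is a 2-group of symplectic type and exponent 4 with central
involution `z`, normal and self-centralizing in `C_G(z)`. -/
structure SQ (Q : Subgroup G) (z : G) : Prop where
  z_mem : z ∈ Q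
  z_ne : z ≠ 1
  z_sq : z * z = 1
  z_comm : ∀ x ∈ Q, x * z = z * x
  comm_mem : ∀ x ∈ Q, ∀ y ∈ Q, ⁅x, y⁆ = 1 ∨ ⁅x, y⁆ = z
  sq_mem : ∀ x ∈ Q, x * x = 1 ∨ x * x = z
  center : ∀ x ∈ Q, x * x = 1 → (∀ y ∈ Q, x * y = y * x) → x = 1 ∨ x = z
  normal : ∀ c : G, c * z = z * c → ∀ q ∈ Q, c * q * c⁻¹ ∈ Q
  selfc : ∀ c : G, c * z = z * c → (∀ q ∈ Q, c * q = q * c) → c ∈ Q

theorem conj_mul_eq (g a b : G) : g * (a * b) * g⁻¹ = (g * a * g⁻¹) * (g * b * g⁻¹) := by group

theorem conj_inv_eq (g a : G) : g * a⁻¹ * g⁻¹ = (g * a * g⁻¹)⁻¹ := by group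

theorem conj_comm_eq (g a b : G) : g * ⁅a, b⁆ * g⁻¹ = ⁅g * a * g⁻¹, g * b * g⁻¹⁆ := by
  simp only [commutatorElement_def]; group

/-- transport of the package under conjugation -/
theorem SQ.conj {Q : Subgroup G} {z : G} (h : SQ Q z) (g : G) :
    SQ (Q.map (MulAut.conj g).toMonoidHom) (g * z * g⁻¹) := by
  have hmem : ∀ x : G, x ∈ Q.map (MulAut.conj g).toMonoidHom ↔ g⁻¹ * x * g ∈ Q := by
    intro x
    constructor
    · rintro ⟨q, hq, rfl⟩
      have : g⁻¹ * ((MulAut.conj g).toMonoidHom q) * g = q := by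
        simp [MulAut.conj_apply]; group
      rw [this]; exact hq
    · intro hx
      refine ⟨g⁻¹ * x * g, hx, ?_⟩
      simp [MulAut.conj_apply]; group
  have hback : ∀ x : G, g * (g⁻¹ * x * g) * g⁻¹ = x := fun x => by group
  refine ⟨?_, ?_, ?_, ?_, ?_, ?_, ?_, ?_, ?_⟩
  · rw [hmem]
    have : g⁻¹ * (g * z * g⁻¹) * g = z := by group
    rw [this]; exact h.z_mem
  · intro h1
    apply h.z_ne
    have := congrArg (fun t => g⁻¹ * t * g) h1
    simpa [mul_assoc] using this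
  · rw [← conj_mul_eq, h.z_sq]; group
  · intro x hx
    rw [hmem] at hx
    have := h.z_comm _ hx
    have h2 : g * (g⁻¹ * x * g * z) * g⁻¹ = g * (z * (g⁻¹ * x * g)) * g⁻¹ := by rw [this]
    calc x * (g * z * g⁻¹) = g * (g⁻¹ * x * g * z) * g⁻¹ := by group
      _ = g * (z * (g⁻¹ * x * g)) * g⁻¹ := h2
      _ = g * z * g⁻¹ * x := by group
  · intro x hx y hy
    rw [hmem] at hx hy
    have hxy : ⁅x, y⁆ = g * ⁅g⁻¹ * x * g, g⁻¹ * y * g⁆ * g⁻¹ := by
      rw [conj_comm_eq, hback, hback]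
    rcases h.comm_mem _ hx _ hy with h1 | h1
    · left; rw [hxy, h1]; group
    · right; rw [hxy, h1]
  · intro x hx
    rw [hmem] at hx
    have hxx : x * x = g * ((g⁻¹ * x * g) * (g⁻¹ * x * g)) * g⁻¹ := by group
    rcases h.sq_mem _ hx with h1 | h1
    · left; rw [hxx, h1]; group
    · right; rw [hxx, h1]
  · intro x hx hxx hall
    rw [hmem] at hx
    have h1 : (g⁻¹ * x * g) * (g⁻¹ * x * g) = 1 := by
      calc (g⁻¹ * x * g) * (g⁻¹ * x * g) = g⁻¹ * (x * x) * g := by group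
        _ = 1 := by rw [hxx]; group
    have h2 : ∀ y ∈ Q, (g⁻¹ * x * g) * y = y * (g⁻¹ * x * g) := by
      intro y hy
      have hy' : g * y * g⁻¹ ∈ Q.map (MulAut.conj g).toMonoidHom := by
        rw [hmem]
        have : g⁻¹ * (g * y * g⁻¹) * g = y := by group
        rw [this]; exact hy
      have := hall _ hy'
      calc (g⁻¹ * x * g) * y = g⁻¹ * (x * (g * y * g⁻¹)) * g := by group
        _ = g⁻¹ * ((g * y * g⁻¹) * x) * g := by rw [this]
        _ = y * (g⁻¹ * x * g) := by group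
    rcases h.center _ hx h1 h2 with h3 | h3
    · left
      have := congrArg (fun t => g * t * g⁻¹) h3
      simpa [mul_assoc] using this
    · right
      rw [← h3]; group
  · intro c hc q hq
    rw [hmem] at hq ⊢
    have hc' : (g⁻¹ * c * g) * z = z * (g⁻¹ * c * g) := by
      calc (g⁻¹ * c * g) * z = g⁻¹ * (c * (g * z * g⁻¹)) * g := by group
        _ = g⁻¹ * ((g * z * g⁻¹) * c) * g := by rw [hc]
        _ = z * (g⁻¹ * c * g) := by group
    have := h.normal _ hc' _ hq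
    have h2 : g⁻¹ * (c * q * c⁻¹) * g = (g⁻¹ * c * g) * (g⁻¹ * q * g) * (g⁻¹ * c * g)⁻¹ := by
      group
    rw [h2]; exact this
  · intro c hc hall
    rw [hmem]
    have hc' : (g⁻¹ * c * g) * z = z * (g⁻¹ * c * g) := by
      calc (g⁻¹ * c * g) * z = g⁻¹ * (c * (g * z * g⁻¹)) * g := by group
        _ = g⁻¹ * ((g * z * g⁻¹) * c) * g := by rw [hc]
        _ = z * (g⁻¹ * c * g) := by group
    apply h.selfc _ hc'
    intro q hq
    have hq' : g * q * g⁻¹ ∈ Q.map (MulAut.conj g).toMonoidHom := by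
      rw [hmem]
      have : g⁻¹ * (g * q * g⁻¹) * g = q := by group
      rw [this]; exact hq
    have := hall _ hq'
    calc (g⁻¹ * c * g) * q = g⁻¹ * (c * (g * q * g⁻¹)) * g := by group
      _ = g⁻¹ * ((g * q * g⁻¹) * c) * g := by rw [this]
      _ = q * (g⁻¹ * c * g) := by group

/-- a non-central involution `w` of `Q` is moved to `z * w` by some element of `Q`. -/
theorem SQ.exists_transvection {Q : Subgroup G} {z : G} (h : SQ Q z) {w : G} (hw : w ∈ Q)
    (hww : w * w = 1) (hw1 : w ≠ 1) (hwz : w ≠ z) : ∃ q ∈ Q, q * w * q⁻¹ = z * w := by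
  by_contra hno
  push Not at hno
  have hall : ∀ y ∈ Q, w * y = y * w := by
    intro y hy
    rcases h.comm_mem y hy w hw with h1 | h1
    · rw [commutatorElement_def] at h1
      have : y * w = (y * w * y⁻¹ * w⁻¹) * w * y := by group
      rw [this, h1]; group
    · exfalso
      apply hno y hy
      rw [commutatorElement_def] at h1
      calc y * w * y⁻¹ = (y * w * y⁻¹ * w⁻¹) * w := by group
        _ = z * w := by rw [h1]
  rcases h.center w hw hww hall with h1 | h1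
  · exact hw1 h1
  · exact hwz h1


/-- commutator trivial means commute -/
theorem comm_of_commutator_eq_one {a b : G} (h : ⁅a, b⁆ = 1) : a * b = b * a := by
  rw [commutatorElement_def] at h
  calc a * b = (a * b * a⁻¹ * b⁻¹) * b * a := by group
    _ = b * a := by rw [h]; group

theorem conj_of_commutator_eq {a b t : G} (h : ⁅a, b⁆ = t) : a * b * a⁻¹ = t * b := by
  rw [commutatorElement_def] at h
  calc a * b * a⁻¹ = (a * b * a⁻¹ * b⁻¹) * b := by group
    _ = t * b := by rw [h]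

/-- **Key step**: `z₁ ∈ Q₂`. -/
theorem main {Q₁ Q₂ : Subgroup G} {z₁ z₂ : G} (h₁ : SQ Q₁ z₁) (h₂ : SQ Q₂ z₂)
    (hz₂ : z₂ ∈ Q₁) (hne : z₂ ≠ z₁)
    (htr : ∀ x : G, x * z₁ * x⁻¹ = z₂ → ∀ q ∈ Q₁, x * q * x⁻¹ ∈ Q₂) : z₁ ∈ Q₂ := by
  by_contra hz₁
  have hz₁i : z₁⁻¹ = z₁ := inv_eq_of_mul_eq_one_left h₁.z_sq
  have hz₂i : z₂⁻¹ = z₂ := inv_eq_of_mul_eq_one_left h₂.z_sq
  have hc12 : z₂ * z₁ = z₁ * z₂ := h₁.z_comm z₂ hz₂
  obtain ⟨q₁, hq₁, hq₁z⟩ := h₁.exists_transvection hz₂ h₂.z_sq h₂.z_ne hne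
  have hq₁z₁ : q₁ * z₁ * q₁⁻¹ = z₁ := by
    rw [h₁.z_comm q₁ hq₁]; group
  have hq₁z₁₂ : q₁ * (z₁ * z₂) * q₁⁻¹ = z₂ := by
    rw [conj_mul_eq, hq₁z₁, hq₁z, ← mul_assoc, h₁.z_sq, one_mul]
  have hq₁nc : q₁ * z₂ ≠ z₂ * q₁ := by
    intro h
    have h' : q₁ * z₂ * q₁⁻¹ = z₂ := by rw [h]; group
    rw [hq₁z] at h'
    apply h₁.z_ne
    calc z₁ = (z₁ * z₂) * z₂⁻¹ := by group
      _ = 1 := by rw [h']; group
  by_cases hc2 : ∃ q₀ ∈ Q₂, q₀ * z₁ * q₀⁻¹ = z₁ * z₂
  · obtain ⟨q₀, hq₀, hq₀z⟩ := hc2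
    have hq₀z₂ : q₀ * z₂ * q₀⁻¹ = z₂ := by rw [h₂.z_comm q₀ hq₀]; group
    have hq₀z₁₂ : q₀ * (z₁ * z₂) * q₀⁻¹ = z₁ := by
      rw [conj_mul_eq, hq₀z, hq₀z₂, mul_assoc, h₂.z_sq, mul_one]
    have hx1 : (q₁ * q₀ * q₁) * z₁ * (q₁ * q₀ * q₁)⁻¹ = z₂ := by
      calc (q₁ * q₀ * q₁) * z₁ * (q₁ * q₀ * q₁)⁻¹
          = q₁ * (q₀ * (q₁ * z₁ * q₁⁻¹) * q₀⁻¹) * q₁⁻¹ := by group
        _ = z₂ := by rw [hq₁z₁, hq₀z, hq₁z₁₂]
    have hx2 : (q₁ * q₀ * q₁) * z₂ * (q₁ * q₀ * q₁)⁻¹ = z₁ := by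
      calc (q₁ * q₀ * q₁) * z₂ * (q₁ * q₀ * q₁)⁻¹
          = q₁ * (q₀ * (q₁ * z₂ * q₁⁻¹) * q₀⁻¹) * q₁⁻¹ := by group
        _ = z₁ := by rw [hq₁z, hq₀z₁₂, hq₁z₁]
    apply hz₁
    rw [← hx2]
    exact htr _ hx1 z₂ hz₂
  · push Not at hc2
    have hκmem : ∀ q ∈ Q₂, z₁ * q * z₁⁻¹ ∈ Q₂ := fun q hq => h₂.normal z₁ hc12.symm q hq
    have hN : ∀ q ∈ Q₂, (z₁ * q * z₁⁻¹ = q ∨ z₁ * q * z₁⁻¹ = z₂ * q) → z₁ * q * z₁⁻¹ = q := by
      intro q hq h
      rcases h with h | h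
      · exact h
      · exfalso
        apply hc2 q hq
        rw [hz₁i] at h
        calc q * z₁ * q⁻¹ = (z₁ * z₁) * q * z₁ * q⁻¹ := by rw [h₁.z_sq, one_mul]
          _ = z₁ * (z₁ * q * z₁) * q⁻¹ := by group
          _ = z₁ * (z₂ * q) * q⁻¹ := by rw [h]
          _ = z₁ * z₂ := by group
    -- cosets of R₁ = C_{Q₁}(z₂)
    have hcoset : ∀ q ∈ Q₁, q * z₂ ≠ z₂ * q → (q₁⁻¹ * q) * z₂ = z₂ * (q₁⁻¹ * q) := by
      intro q hq hnc
      have hqz : q * z₂ * q⁻¹ = z₁ * z₂ := by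
        rcases h₁.comm_mem q hq z₂ hz₂ with h | h
        · exact absurd (comm_of_commutator_eq_one h) hnc
        · exact conj_of_commutator_eq h
      have hback : q₁⁻¹ * (z₁ * z₂) * q₁ = z₂ := by
        rw [← hq₁z]; group
      calc (q₁⁻¹ * q) * z₂ = q₁⁻¹ * (q * z₂ * q⁻¹) * q₁ * (q₁⁻¹ * q) := by group
        _ = z₂ * (q₁⁻¹ * q) := by rw [hqz, hback]
    -- central involutions
    have hcen : ∀ w ∈ Q₁, w * w = 1 → (∀ r ∈ Q₁, r * z₂ = z₂ * r → w * r = r * w) →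
        w * q₁ = q₁ * w → w = 1 ∨ w = z₁ := by
      intro w hw hww hwr hwq
      have hall : ∀ y ∈ Q₁, w * y = y * w := by
        intro y hy
        by_cases hy2 : y * z₂ = z₂ * y
        · exact hwr y hy hy2
        · have hr := hcoset y hy hy2
          have hrQ : q₁⁻¹ * y ∈ Q₁ := Q₁.mul_mem (Q₁.inv_mem hq₁) hy
          have h3 := hwr _ hrQ hr
          calc w * y = (w * q₁) * (q₁⁻¹ * y) := by group
            _ = q₁ * (w * (q₁⁻¹ * y)) := by rw [hwq]; group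
            _ = q₁ * ((q₁⁻¹ * y) * w) := by rw [h3]
            _ = y * w := by group
      exact h₁.center w hw hww hall
    have hLc : ∀ w ∈ Q₁, w * w = 1 → (∀ r ∈ Q₁, r * z₂ = z₂ * r → w * r = r * w) →
        w = 1 ∨ w = z₁ ∨ w = z₂ ∨ w = z₁ * z₂ := by
      intro w hw hww hwr
      by_cases hwq : w * q₁ = q₁ * w
      · rcases hcen w hw hww hwr hwq with h | h
        · exact Or.inl h
        · exact Or.inr (Or.inl h)
      · have hqw : q₁ * w * q₁⁻¹ = z₁ * w := by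
          rcases h₁.comm_mem q₁ hq₁ w hw with h | h
          · exact absurd (comm_of_commutator_eq_one h).symm hwq
          · exact conj_of_commutator_eq h
        have hwz : w * z₂ = z₂ * w := hwr z₂ hz₂ rfl
        have hw'Q : w * z₂ ∈ Q₁ := Q₁.mul_mem hw hz₂
        have hw'w' : (w * z₂) * (w * z₂) = 1 := by
          calc (w * z₂) * (w * z₂) = w * (z₂ * w) * z₂ := by group
            _ = w * (w * z₂) * z₂ := by rw [hwz]
            _ = (w * w) * (z₂ * z₂) := by group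
            _ = 1 := by rw [hww, h₂.z_sq, one_mul]
        have hw'q : (w * z₂) * q₁ = q₁ * (w * z₂) := by
          have h5 : q₁ * (w * z₂) * q₁⁻¹ = w * z₂ := by
            rw [conj_mul_eq, hqw, hq₁z]
            calc z₁ * w * (z₁ * z₂) = z₁ * (w * z₁) * z₂ := by group
              _ = z₁ * (z₁ * w) * z₂ := by rw [h₁.z_comm w hw]
              _ = (z₁ * z₁) * w * z₂ := by group
              _ = w * z₂ := by rw [h₁.z_sq, one_mul]
          calc (w * z₂) * q₁ = (q₁ * (w * z₂) * q₁⁻¹) * q₁ := by rw [h5]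
            _ = q₁ * (w * z₂) := by group
        have hw'r : ∀ r ∈ Q₁, r * z₂ = z₂ * r → (w * z₂) * r = r * (w * z₂) := by
          intro r hr hrz
          calc (w * z₂) * r = w * (z₂ * r) := by group
            _ = w * (r * z₂) := by rw [hrz]
            _ = (w * r) * z₂ := by group
            _ = (r * w) * z₂ := by rw [hwr r hr hrz]
            _ = r * (w * z₂) := by group
        rcases hcen _ hw'Q hw'w' hw'r hw'q with h | h
        · right; right; left
          calc w = (w * z₂) * z₂⁻¹ := by group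
            _ = z₂ := by rw [h, hz₂i, one_mul]
        · right; right; right
          calc w = (w * z₂) * z₂⁻¹ := by group
            _ = z₁ * z₂ := by rw [h, hz₂i]
    -- Q₁ ∩ Q₂ = {1, z₂}
    have hW : ∀ w ∈ Q₁, w ∈ Q₂ → w = 1 ∨ w = z₂ := by
      intro w hw1 hw2
      have hww : w * w = 1 := by
        rcases h₁.sq_mem w hw1 with h | h
        · exact h
        · rcases h₂.sq_mem w hw2 with h' | h'
          · exact h'
          · exact absurd (h'.symm.trans h) hne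
      have hwr : ∀ r ∈ Q₁, r * z₂ = z₂ * r → w * r = r * w := by
        intro r hr hrz
        rcases h₁.comm_mem w hw1 r hr with h | h
        · exact comm_of_commutator_eq_one h
        · exfalso
          apply hz₁
          rw [← h]
          have : ⁅w, r⁆ = w * (r * w⁻¹ * r⁻¹) := by
            simp only [commutatorElement_def]; group
          rw [this]
          exact Q₂.mul_mem hw2 (h₂.normal r hrz _ (Q₂.inv_mem hw2))
      rcases hLc w hw1 hww hwr with h | h | h | h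
      · exact Or.inl h
      · exact absurd (h ▸ hw2) hz₁
      · exact Or.inr h
      · exfalso
        apply hz₁
        have : z₁ = w * z₂⁻¹ := by rw [h]; group
        rw [this]
        exact Q₂.mul_mem hw2 (Q₂.inv_mem h₂.z_mem)
    -- elements of {1, z₂} are central in Q₂ with square 1
    have hEc : ∀ e : G, (e = 1 ∨ e = z₂) → ∀ y ∈ Q₂, y * e = e * y := by
      intro e he y hy
      rcases he with rfl | rfl
      · simp
      · exact h₂.z_comm y hy
    have hEmul : ∀ e f : G, (e = 1 ∨ e = z₂) → (f = 1 ∨ f = z₂) → (e * f = 1 ∨ e * f = z₂) := by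
      intro e f he hf
      rcases he with rfl | rfl <;> rcases hf with rfl | rfl
      · left; simp
      · right; simp
      · right; simp
      · left; exact h₂.z_sq
    have hEinv : ∀ e : G, (e = 1 ∨ e = z₂) → (e⁻¹ = 1 ∨ e⁻¹ = z₂) := by
      intro e he
      rcases he with rfl | rfl
      · left; simp
      · right; exact hz₂i
    -- (S3)
    have hPR : ∀ p ∈ Q₂, z₁ * p * z₁⁻¹ = p → ∀ r ∈ Q₁, r * z₂ = z₂ * r →
        (⁅p, r⁆ = 1 ∨ ⁅p, r⁆ = z₂) := by
      intro p hp hκp r hr hrz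
      have hpz₁ : p * z₁ = z₁ * p := by
        calc p * z₁ = (z₁ * p * z₁⁻¹) * z₁ := by rw [hκp]
          _ = z₁ * p := by group
      apply hW
      · have : ⁅p, r⁆ = (p * r * p⁻¹) * r⁻¹ := by
          simp only [commutatorElement_def]
        rw [this]
        exact Q₁.mul_mem (h₁.normal p hpz₁ r hr) (Q₁.inv_mem hr)
      · have : ⁅p, r⁆ = p * (r * p⁻¹ * r⁻¹) := by
          simp only [commutatorElement_def]; group
        rw [this]
        exact Q₂.mul_mem hp (h₂.normal r hrz _ (Q₂.inv_mem hp))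
    -- (S4)
    have hS4m : ∀ q ∈ Q₂, z₁ * q * z₁⁻¹ * q⁻¹ ∈ Q₂ := fun q hq =>
      Q₂.mul_mem (hκmem q hq) (Q₂.inv_mem hq)
    have hS4 : ∀ q ∈ Q₂, z₁ * (z₁ * q * z₁⁻¹ * q⁻¹) * z₁⁻¹ = z₁ * q * z₁⁻¹ * q⁻¹ := by
      intro q hq
      set x := z₁ * q * z₁⁻¹ * q⁻¹ with hx
      have hxQ : x ∈ Q₂ := hS4m q hq
      have hκx : z₁ * x * z₁⁻¹ = x⁻¹ := by
        rw [hx]
        calc z₁ * (z₁ * q * z₁⁻¹ * q⁻¹) * z₁⁻¹ = (z₁ * z₁) * q * z₁⁻¹ * q⁻¹ * z₁⁻¹ := by group
          _ = q * z₁⁻¹ * q⁻¹ * z₁⁻¹ := by rw [h₁.z_sq, one_mul]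
          _ = q * z₁ * q⁻¹ * z₁⁻¹ := by rw [hz₁i]
          _ = (z₁ * q * z₁⁻¹ * q⁻¹)⁻¹ := by group
      apply hN x hxQ
      rcases h₂.sq_mem x hxQ with h | h
      · left
        rw [hκx]
        exact inv_eq_of_mul_eq_one_left h
      · right
        rw [hκx]
        calc x⁻¹ = (x * x)⁻¹ * x := by group
          _ = z₂ * x := by rw [h, hz₂i]
    -- (S5)
    have hS5 : ∀ q ∈ Q₂, ∀ r ∈ Q₁, r * z₂ = z₂ * r → z₁ * ⁅q, r⁆ * z₁⁻¹ = ⁅q, r⁆ := by
      intro q hq r hr hrz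
      set y := ⁅q, r⁆ with hy
      have hyQ : y ∈ Q₂ := by
        have : y = q * (r * q⁻¹ * r⁻¹) := by
          rw [hy]; simp only [commutatorElement_def]; group
        rw [this]
        exact Q₂.mul_mem hq (h₂.normal r hrz _ (Q₂.inv_mem hq))
      set x := z₁ * q * z₁⁻¹ * q⁻¹ with hx
      have hxQ : x ∈ Q₂ := hS4m q hq
      have hκx : z₁ * x * z₁⁻¹ = x := hS4 q hq
      have hκr : z₁ * r * z₁⁻¹ = r := by
        rw [← h₁.z_comm r hr]; group
      have hκq : z₁ * q * z₁⁻¹ = x * q := by rw [hx]; group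
      have h1 : z₁ * y * z₁⁻¹ = (x * y * x⁻¹) * ⁅x, r⁆ := by
        rw [hy, conj_comm_eq, hκr, hκq, Cfsg.Agent.Lib.Helper30.SympExp4.comm_mul_left_eq]
      have h2 : x * y * x⁻¹ = ⁅x, y⁆ * y := by
        simp only [commutatorElement_def]; group
      have he1 := h₂.comm_mem x hxQ y hyQ
      have he2 := hPR x hxQ hκx r hr hrz
      apply hN y hyQ
      rw [h1, h2]
      have h3 : ⁅x, y⁆ * y * ⁅x, r⁆ = (⁅x, y⁆ * ⁅x, r⁆) * y := by
        calc ⁅x, y⁆ * y * ⁅x, r⁆ = ⁅x, y⁆ * (y * ⁅x, r⁆) := by group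
          _ = ⁅x, y⁆ * (⁅x, r⁆ * y) := by rw [hEc _ he2 y hyQ]
          _ = (⁅x, y⁆ * ⁅x, r⁆) * y := by group
      rw [h3]
      rcases hEmul _ _ he1 he2 with h | h <;> rw [h]
      · left; simp
      · right; rfl
    -- it suffices that z₁ centralizes Q₂
    suffices hall : ∀ q ∈ Q₂, z₁ * q * z₁⁻¹ = q by
      apply hz₁
      apply h₂.selfc z₁ hc12.symm
      intro q hq
      calc z₁ * q = (z₁ * q * z₁⁻¹) * z₁ := by group
        _ = q * z₁ := by rw [hall q hq]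
    by_cases hy₀ : ∃ y₀ ∈ Q₁, y₀ * z₂ = z₂ * y₀ ∧ y₀ * y₀ = z₁
    · obtain ⟨y₀, hy₀Q, hy₀z, hy₀sq⟩ := hy₀
      intro q hq
      have hpQ : ⁅y₀, q⁆ ∈ Q₂ := by
        have : ⁅y₀, q⁆ = (y₀ * q * y₀⁻¹) * q⁻¹ := by
          simp only [commutatorElement_def]
        rw [this]
        exact Q₂.mul_mem (h₂.normal y₀ hy₀z q hq) (Q₂.inv_mem hq)
      have hκp : z₁ * ⁅y₀, q⁆ * z₁⁻¹ = ⁅y₀, q⁆ := by
        have h5 := hS5 q hq y₀ hy₀Q hy₀z
        have hpi : ⁅y₀, q⁆ = ⁅q, y₀⁆⁻¹ := (commutatorElement_inv q y₀).symm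
        rw [hpi, conj_inv_eq, h5]
      have hρq : y₀ * q * y₀⁻¹ = ⁅y₀, q⁆ * q := by
        simp only [commutatorElement_def]; group
      have he1 : ⁅y₀, ⁅y₀, q⁆⁆ = 1 ∨ ⁅y₀, ⁅y₀, q⁆⁆ = z₂ := by
        have h6 := hPR _ hpQ hκp y₀ hy₀Q hy₀z
        have hi : ⁅y₀, ⁅y₀, q⁆⁆ = ⁅⁅y₀, q⁆, y₀⁆⁻¹ := (commutatorElement_inv _ _).symm
        rw [hi]; exact hEinv _ h6
      have hρp : y₀ * ⁅y₀, q⁆ * y₀⁻¹ = ⁅y₀, ⁅y₀, q⁆⁆ * ⁅y₀, q⁆ := by
        simp only [commutatorElement_def]; group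
      have he2 := h₂.sq_mem _ hpQ
      have hκq : z₁ * q * z₁⁻¹ = (⁅y₀, ⁅y₀, q⁆⁆ * (⁅y₀, q⁆ * ⁅y₀, q⁆)) * q := by
        calc z₁ * q * z₁⁻¹ = (y₀ * y₀) * q * (y₀ * y₀)⁻¹ := by rw [hy₀sq]
          _ = y₀ * (y₀ * q * y₀⁻¹) * y₀⁻¹ := by group
          _ = y₀ * (⁅y₀, q⁆ * q) * y₀⁻¹ := by rw [hρq]
          _ = (y₀ * ⁅y₀, q⁆ * y₀⁻¹) * (y₀ * q * y₀⁻¹) := by group
          _ = (⁅y₀, ⁅y₀, q⁆⁆ * ⁅y₀, q⁆) * (⁅y₀, q⁆ * q) := by rw [hρp, hρq]
          _ = (⁅y₀, ⁅y₀, q⁆⁆ * (⁅y₀, q⁆ * ⁅y₀, q⁆)) * q := by group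
      apply hN q hq
      rw [hκq]
      rcases hEmul _ _ he1 he2 with h | h <;> rw [h]
      · left; simp
      · right; rfl
    · push Not at hy₀
      have hRsq : ∀ r ∈ Q₁, r * z₂ = z₂ * r → r * r = 1 := by
        intro r hr hrz
        rcases h₁.sq_mem r hr with h | h
        · exact h
        · exact absurd h (hy₀ r hr hrz)
      have hR : ∀ r ∈ Q₁, r * z₂ = z₂ * r → r = 1 ∨ r = z₁ ∨ r = z₂ ∨ r = z₁ * z₂ := by
        intro r hr hrz
        apply hLc r hr (hRsq r hr hrz)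
        intro r' hr' hr'z
        have hrr'Q : r * r' ∈ Q₁ := Q₁.mul_mem hr hr'
        have hrr'z : (r * r') * z₂ = z₂ * (r * r') := by
          calc (r * r') * z₂ = r * (r' * z₂) := by group
            _ = r * (z₂ * r') := by rw [hr'z]
            _ = (r * z₂) * r' := by group
            _ = (z₂ * r) * r' := by rw [hrz]
            _ = z₂ * (r * r') := by group
        have h1 := hRsq _ hrr'Q hrr'z
        have h2 := hRsq r hr hrz
        have h3 := hRsq r' hr' hr'z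
        calc r * r' = (r * r')⁻¹ := (inv_eq_of_mul_eq_one_left h1).symm
          _ = r'⁻¹ * r⁻¹ := by group
          _ = r' * r := by rw [inv_eq_of_mul_eq_one_left h3, inv_eq_of_mul_eq_one_left h2]
      have hcentral : ∀ c : G, c * z₁ = z₁ * c → c * z₂ = z₂ * c → c * q₁ = q₁ * c →
          c ∈ Q₁ := by
        intro c hc1 hc2 hcq
        apply h₁.selfc c hc1
        have hV : ∀ r ∈ Q₁, r * z₂ = z₂ * r → c * r = r * c := by
          intro r hr hrz
          rcases hR r hr hrz with h | h | h | h <;> rw [h]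
          · simp
          · exact hc1
          · exact hc2
          · calc c * (z₁ * z₂) = (c * z₁) * z₂ := by group
              _ = (z₁ * c) * z₂ := by rw [hc1]
              _ = z₁ * (c * z₂) := by group
              _ = z₁ * (z₂ * c) := by rw [hc2]
              _ = (z₁ * z₂) * c := by group
        intro y hy
        by_cases hy2 : y * z₂ = z₂ * y
        · exact hV y hy hy2
        · have hr := hcoset y hy hy2
          have hrQ : q₁⁻¹ * y ∈ Q₁ := Q₁.mul_mem (Q₁.inv_mem hq₁) hy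
          have h3 := hV _ hrQ hr
          calc c * y = (c * q₁) * (q₁⁻¹ * y) := by group
            _ = q₁ * (c * (q₁⁻¹ * y)) := by rw [hcq]; group
            _ = q₁ * ((q₁⁻¹ * y) * c) := by rw [h3]
            _ = y * c := by group
      have hz₂q₁ : z₂ * q₁ = q₁ * (z₁ * z₂) := by
        calc z₂ * q₁ = (q₁ * (z₁ * z₂) * q₁⁻¹) * q₁ := by rw [hq₁z₁₂]
          _ = q₁ * (z₁ * z₂) := by group
      have hP : ∀ p ∈ Q₂, z₁ * p * z₁⁻¹ = p → p = 1 ∨ p = z₂ := by
        intro p hp hκp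
        have hpz₁ : p * z₁ = z₁ * p := by
          calc p * z₁ = (z₁ * p * z₁⁻¹) * z₁ := by rw [hκp]
            _ = z₁ * p := by group
        have hpz₂ : p * z₂ = z₂ * p := h₂.z_comm p hp
        have hpz₂c : p * z₂ * p⁻¹ = z₂ := by rw [hpz₂]; group
        have hpz₁c : p * z₁ * p⁻¹ = z₁ := by rw [hpz₁]; group
        have hq'Q : p * q₁ * p⁻¹ ∈ Q₁ := h₁.normal p hpz₁ q₁ hq₁
        have hq'nc : (p * q₁ * p⁻¹) * z₂ ≠ z₂ * (p * q₁ * p⁻¹) := by
          intro h
          apply hq₁nc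
          calc q₁ * z₂ = p⁻¹ * ((p * q₁ * p⁻¹) * (p * z₂ * p⁻¹)) * p := by group
            _ = p⁻¹ * ((p * q₁ * p⁻¹) * z₂) * p := by rw [hpz₂c]
            _ = p⁻¹ * (z₂ * (p * q₁ * p⁻¹)) * p := by rw [h]
            _ = p⁻¹ * ((p * z₂ * p⁻¹) * (p * q₁ * p⁻¹)) * p := by rw [hpz₂c]
            _ = z₂ * q₁ := by group
        have hvz := hcoset _ hq'Q hq'nc
        have hvQ : q₁⁻¹ * (p * q₁ * p⁻¹) ∈ Q₁ := Q₁.mul_mem (Q₁.inv_mem hq₁) hq'Q
        have hq'sq : (p * q₁ * p⁻¹) * (p * q₁ * p⁻¹) = q₁ * q₁ := by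
          have : (p * q₁ * p⁻¹) * (p * q₁ * p⁻¹) = p * (q₁ * q₁) * p⁻¹ := by group
          rw [this]
          rcases h₁.sq_mem q₁ hq₁ with h | h <;> rw [h]
          · group
          · exact hpz₁c
        -- v q₁ v = q₁
        have hvq : ∀ v : G, q₁⁻¹ * (p * q₁ * p⁻¹) = v → v * q₁ * v = q₁ := by
          intro v hv
          have h1 : p * q₁ * p⁻¹ = q₁ * v := by rw [← hv]; group
          rw [h1] at hq'sq
          have h2 : q₁ * (v * q₁ * v) = q₁ * q₁ := by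
            rw [← hq'sq]; group
          exact mul_left_cancel h2
        have hbad : z₂ * q₁ * z₂ ≠ q₁ := by
          intro h
          apply hq₁nc
          calc q₁ * z₂ = (z₂ * z₂) * q₁ * z₂ := by rw [h₂.z_sq, one_mul]
            _ = z₂ * (z₂ * q₁ * z₂) := by group
            _ = z₂ * q₁ := by rw [h]
        rcases hR _ hvQ hvz with h | h | h | h
        · -- v = 1
          have hpq : p * q₁ = q₁ * p := by
            have h1 : p * q₁ * p⁻¹ = q₁ := by
              calc p * q₁ * p⁻¹ = q₁ * (q₁⁻¹ * (p * q₁ * p⁻¹)) := by group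
                _ = q₁ := by rw [h, mul_one]
            calc p * q₁ = (p * q₁ * p⁻¹) * p := by group
              _ = q₁ * p := by rw [h1]
          exact hW p (hcentral p hpz₁ hpz₂ hpq) hp
        · -- v = z₁
          have h1 : p * q₁ * p⁻¹ = q₁ * z₁ := by
            calc p * q₁ * p⁻¹ = q₁ * (q₁⁻¹ * (p * q₁ * p⁻¹)) := by group
              _ = q₁ * z₁ := by rw [h]
          have hp'q : (z₂ * p) * q₁ = q₁ * (z₂ * p) := by
            calc (z₂ * p) * q₁ = z₂ * (p * q₁ * p⁻¹) * p := by group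
              _ = z₂ * (q₁ * z₁) * p := by rw [h1]
              _ = (z₂ * q₁) * z₁ * p := by group
              _ = (q₁ * (z₁ * z₂)) * z₁ * p := by rw [hz₂q₁]
              _ = q₁ * z₁ * (z₂ * z₁) * p := by group
              _ = q₁ * z₁ * (z₁ * z₂) * p := by rw [hc12]
              _ = q₁ * (z₁ * z₁) * z₂ * p := by group
              _ = q₁ * (z₂ * p) := by rw [h₁.z_sq]; group
          have hp'1 : (z₂ * p) * z₁ = z₁ * (z₂ * p) := by
            calc (z₂ * p) * z₁ = z₂ * (p * z₁) := by group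
              _ = z₂ * (z₁ * p) := by rw [hpz₁]
              _ = (z₂ * z₁) * p := by group
              _ = (z₁ * z₂) * p := by rw [hc12]
              _ = z₁ * (z₂ * p) := by group
          have hp'2 : (z₂ * p) * z₂ = z₂ * (z₂ * p) := by
            calc (z₂ * p) * z₂ = z₂ * (p * z₂) := by group
              _ = z₂ * (z₂ * p) := by rw [hpz₂]
          have hp'Q₂ : z₂ * p ∈ Q₂ := Q₂.mul_mem h₂.z_mem hp
          rcases hW _ (hcentral _ hp'1 hp'2 hp'q) hp'Q₂ with h2 | h2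
          · right
            calc p = z₂⁻¹ * (z₂ * p) := by group
              _ = z₂ := by rw [h2, hz₂i, mul_one]
          · left
            calc p = z₂⁻¹ * (z₂ * p) := by group
              _ = 1 := by rw [h2]; group
        · -- v = z₂
          exact absurd (hvq _ h) hbad
        · -- v = z₁ z₂
          exfalso
          apply hbad
          have h1 := hvq _ h
          calc z₂ * q₁ * z₂ = (z₁ * z₁) * z₂ * q₁ * z₂ := by rw [h₁.z_sq, one_mul]
            _ = z₁ * z₂ * (z₁ * q₁) * z₂ := by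
                have : z₁ * z₂ = z₂ * z₁ := hc12.symm
                calc (z₁ * z₁) * z₂ * q₁ * z₂ = z₁ * (z₁ * z₂) * q₁ * z₂ := by group
                  _ = z₁ * (z₂ * z₁) * q₁ * z₂ := by rw [this]
                  _ = z₁ * z₂ * (z₁ * q₁) * z₂ := by group
            _ = z₁ * z₂ * (q₁ * z₁) * z₂ := by rw [h₁.z_comm q₁ hq₁]
            _ = (z₁ * z₂) * q₁ * (z₁ * z₂) := by group
            _ = q₁ := h1
      intro q hq
      have hx := hP _ (hS4m q hq) (hS4 q hq)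
      apply hN q hq
      have h7 : z₁ * q * z₁⁻¹ = (z₁ * q * z₁⁻¹ * q⁻¹) * q := by group
      rw [h7]
      rcases hx with h | h <;> rw [h]
      · left; simp
      · right; rfl

end Abstract

section Concrete

variable {G : Type*} [Group G] [Finite G]

theorem isNilpotent_center (H : Type*) [Group H] : Group.IsNilpotent ↥(Subgroup.center H) := by
  refine ⟨1, ?_⟩
  rw [Subgroup.upperCentralSeries_one_eq_top_iff]
  infer_instance

theorem sq_of_hyps (z : G) (hz : orderOf z = 2)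
    (hQ : Cfsg.IsOfSymplecticType
      ↥(Cfsg.generalizedFittingSubgroup ↥(Subgroup.centralizer ({z} : Set G))))
    (h4 : ∀ q ∈ (Cfsg.generalizedFittingSubgroup ↥(Subgroup.centralizer ({z} : Set G))).map
      (Subgroup.centralizer ({z} : Set G)).subtype, q ^ 4 = 1) :
    SQ ((Cfsg.generalizedFittingSubgroup ↥(Subgroup.centralizer ({z} : Set G))).map
      (Subgroup.centralizer ({z} : Set G)).subtype) z := by
  have : Fact (Nat.Prime 2) := ⟨Nat.prime_two⟩
  set C := Subgroup.centralizer ({z} : Set G) with hC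
  set Q' := Cfsg.generalizedFittingSubgroup ↥C with hQ'
  have hzsq : z * z = 1 := by
    rw [← pow_two, ← hz]; exact pow_orderOf_eq_one z
  have hzne : z ≠ 1 := by
    intro h1; rw [h1, orderOf_one] at hz; omega
  have hCz : ∀ g : ↥C, (g : G) * z = z * (g : G) := fun g =>
    ((Subgroup.mem_centralizer_iff.mp g.2) z rfl).symm
  have hmemC : ∀ c : G, c * z = z * c → c ∈ C := by
    intro c hc
    rw [hC, Subgroup.mem_centralizer_iff]
    intro g hg
    rw [Set.mem_singleton_iff] at hg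
    rw [hg]; exact hc.symm
  have hzC : z ∈ C := hmemC z rfl
  have hz'cen : (⟨z, hzC⟩ : ↥C) ∈ Subgroup.center ↥C := by
    rw [Subgroup.mem_center_iff]
    intro g
    exact Subtype.ext (hCz g)
  have hcenle : Subgroup.center ↥C ≤ Q' :=
    (Cfsg.Agent.Lib.Helper21.le_fittingSubgroup_of_normal_nilpotent inferInstance
      (isNilpotent_center ↥C)).trans le_sup_right
  have hz'Q' : (⟨z, hzC⟩ : ↥C) ∈ Q' := hcenle hz'cen
  set zQ : ↥Q' := ⟨⟨z, hzC⟩, hz'Q'⟩ with hzQ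
  have hzQcen : zQ ∈ Subgroup.center ↥Q' := by
    rw [Subgroup.mem_center_iff]
    intro g
    exact Subtype.ext (Subtype.ext (hCz g.1))
  have hzQ2 : orderOf zQ = 2 := by
    rw [hzQ, Subgroup.orderOf_mk, Subgroup.orderOf_mk]; exact hz
  have h4' : ∀ x : ↥Q', x ^ 4 = 1 := by
    intro x
    apply Subtype.ext
    apply Subtype.ext
    have := h4 ((x : ↥C) : G) ⟨x.1, x.2, rfl⟩
    simpa using this
  have hsq := Cfsg.Agent.Lib.Helper30.SympExp4.sq_eq_one_or hQ h4' zQ hzQ2 hzQcen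
  have hcm := Cfsg.Agent.Lib.Helper30.SympExp4.comm_eq_one_or hQ h4' zQ hzQ2 hzQcen
  have hn : Q'.Normal := Cfsg.Agent.Lib.Helper29.generalizedFittingSubgroup_normal ↥C
  refine ⟨⟨⟨z, hzC⟩, hz'Q', rfl⟩, hzne, hzsq, ?_, ?_, ?_, ?_, ?_, ?_⟩
  · rintro _ ⟨x', -, rfl⟩
    exact hCz x'
  · rintro _ ⟨x', hx', rfl⟩ _ ⟨y', hy', rfl⟩
    rcases hcm ⟨x', hx'⟩ ⟨y', hy'⟩ with h | h
    · left
      have := congrArg (fun t : ↥Q' => C.subtype (Q'.subtype t)) h
      simp only [map_commutatorElement] at this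
      simpa using this
    · right
      have := congrArg (fun t : ↥Q' => C.subtype (Q'.subtype t)) h
      simp only [map_commutatorElement] at this
      simpa using this
  · rintro _ ⟨x', hx', rfl⟩
    rcases hsq ⟨x', hx'⟩ with h | h
    · left
      have := congrArg (fun t : ↥Q' => C.subtype (Q'.subtype t)) h
      simpa using this
    · right
      have := congrArg (fun t : ↥Q' => C.subtype (Q'.subtype t)) h
      simpa using this
  · rintro _ ⟨x', hx', rfl⟩ hxx hall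
    have hcen : (⟨x', hx'⟩ : ↥Q') ∈ Subgroup.center ↥Q' := by
      rw [Subgroup.mem_center_iff]
      intro g
      refine Subtype.ext (Subtype.ext ?_)
      exact (hall _ ⟨g.1, g.2, rfl⟩).symm
    by_cases h1 : (⟨x', hx'⟩ : ↥Q') = 1
    · left
      have := congrArg (fun t : ↥Q' => C.subtype (Q'.subtype t)) h1
      simpa using this
    · right
      have hxx' : (⟨x', hx'⟩ : ↥Q') ^ 2 = 1 := by
        apply Subtype.ext
        apply Subtype.ext
        rw [pow_two]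
        exact hxx
      have hord : orderOf (⟨x', hx'⟩ : ↥Q') = 2 := orderOf_eq_prime hxx' h1
      have h2 : (⟨x', hx'⟩ : ↥Q') = zQ :=
        Cfsg.Agent.S1755.char_abelian_involution hQ (Subgroup.center ↥Q') inferInstance
          inferInstance zQ hzQ2 hzQcen _ hcen hord
      have h3 : (((⟨x', hx'⟩ : ↥Q') : ↥C) : G) = (((zQ : ↥Q') : ↥C) : G) := by rw [h2]
      exact h3
  · rintro c hc _ ⟨q', hq', rfl⟩
    have hcC : c ∈ C := hmemC c hc
    have := hn.conj_mem q' hq' ⟨c, hcC⟩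
    exact ⟨_, this, rfl⟩
  · intro c hc hall
    have hcC : c ∈ C := hmemC c hc
    have hcen : (⟨c, hcC⟩ : ↥C) ∈ Subgroup.centralizer (Q' : Set ↥C) := by
      rw [Subgroup.mem_centralizer_iff]
      intro q' hq'
      apply Subtype.ext
      exact (hall _ ⟨q', hq', rfl⟩).symm
    have := Cfsg.Agent.Lib.Helper21.centralizer_generalizedFittingSubgroup_le hcen
    exact ⟨_, this, rfl⟩

end Concrete

/-- Let G be a finite group and let z be an involution of G such that Q, the generalized Fitting subgroup of the centralizer C of z, is a 2-group of symplectic type (every characteristic abelian subgroup of Q is cyclic); suppose every element of Q has order dividing 4. Let g ∈ G with z' = g z g⁻¹ ≠ z and z' ∈ Q. Then z lies in the conjugate g Q g⁻¹, and the subgroup X generated by Q and g Q g⁻¹ induces every automorphism of the four-group generated by z and z': for any two distinct non-identity elements u, v of that four-group there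 is x ∈ X with x z x⁻¹ = u and x z' x⁻¹ = v. -/
theorem result {G : Type*} [Group G] [Finite G] (z : G) (hz : orderOf z = 2) (hQ : Cfsg.IsOfSymplecticType ↥(Cfsg.generalizedFittingSubgroup ↥(Subgroup.centralizer ({z} : Set G))))
    (h4 : ∀ q ∈ (Cfsg.generalizedFittingSubgroup ↥(Subgroup.centralizer ({z} : Set G))).map (Subgroup.centralizer ({z} : Set G)).subtype, q ^ 4 = 1) (g : G) (hne : g * z * g⁻¹ ≠ z) (hin : g * z * g⁻¹ ∈ (Cfsg.generalizedFittingSubgroup ↥(Subgroup.centralizer ({z} : Set G))).map (Subgroup.centralizer ({z} : Set G)).subtype) :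
    z ∈ ((Cfsg.generalizedFittingSubgroup ↥(Subgroup.centralizer ({z} : Set G))).map (Subgroup.centralizer ({z} : Set G)).subtype).map (MulAut.conj g).toMonoidHom ∧
      ∀ u ∈ Subgroup.closure ({z, g * z * g⁻¹} : Set G), ∀ v ∈ Subgroup.closure ({z, g * z * g⁻¹} : Set G),
        u ≠ 1 → v ≠ 1 → u ≠ v →
          ∃ x ∈ (Cfsg.generalizedFittingSubgroup ↥(Subgroup.centralizer ({z} : Set G))).map (Subgroup.centralizer ({z} : Set G)).subtype ⊔ ((Cfsg.generalizedFittingSubgroup ↥(Subgroup.centralizer ({z} : Set G))).map (Subgroup.centralizer ({z} : Set G)).subtype).map (MulAut.conj g).toMonoidHom, x * z * x⁻¹ = u ∧ x * (g * z * g⁻¹) * x⁻¹ = v := by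
  set Q := (Cfsg.generalizedFittingSubgroup ↥(Subgroup.centralizer ({z} : Set G))).map
    (Subgroup.centralizer ({z} : Set G)).subtype with hQdef
  have h₁ : SQ Q z := sq_of_hyps z hz hQ h4
  have h₂ : SQ (Q.map (MulAut.conj g).toMonoidHom) (g * z * g⁻¹) := h₁.conj g
  have htr : ∀ x : G, x * z * x⁻¹ = g * z * g⁻¹ → ∀ q ∈ Q,
      x * q * x⁻¹ ∈ Q.map (MulAut.conj g).toMonoidHom := by
    intro x hx q hq
    have hc : (g⁻¹ * x) * z = z * (g⁻¹ * x) := by
      calc (g⁻¹ * x) * z = g⁻¹ * (x * z * x⁻¹) * x := by group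
        _ = g⁻¹ * (g * z * g⁻¹) * x := by rw [hx]
        _ = z * (g⁻¹ * x) := by group
    have := h₁.normal _ hc q hq
    refine ⟨_, this, ?_⟩
    simp only [MulEquiv.coe_toMonoidHom, MulAut.conj_apply]; group
  have hz₁ : z ∈ Q.map (MulAut.conj g).toMonoidHom := main h₁ h₂ hin hne htr
  refine ⟨hz₁, ?_⟩
  obtain ⟨q₁, hq₁, hq₁z⟩ := h₁.exists_transvection hin h₂.z_sq h₂.z_ne hne
  obtain ⟨q₂, hq₂, hq₂z⟩ := h₂.exists_transvection hz₁ h₁.z_sq h₁.z_ne (Ne.symm hne)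
  set z' := g * z * g⁻¹ with hz'
  have hzz : z * z = 1 := h₁.z_sq
  have hz'z' : z' * z' = 1 := h₂.z_sq
  have hcomm : z' * z = z * z' := h₁.z_comm z' hin
  have hzz2 : ∀ x : G, z * (z * x) = x := fun x => by rw [← mul_assoc, hzz, one_mul]
  have hz'z'2 : ∀ x : G, z' * (z' * x) = x := fun x => by rw [← mul_assoc, hz'z', one_mul]
  have hcomm2 : ∀ x : G, z' * (z * x) = z * (z' * x) := fun x => by
    rw [← mul_assoc, hcomm, mul_assoc]
  have hzi : z⁻¹ = z := inv_eq_of_mul_eq_one_left hzz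
  have hz'i : z'⁻¹ = z' := inv_eq_of_mul_eq_one_left hz'z'
  have hV : ∀ u ∈ Subgroup.closure ({z, z'} : Set G),
      u = 1 ∨ u = z ∨ u = z' ∨ u = z * z' := by
    intro u hu
    refine Subgroup.closure_induction (p := fun x _ => x = 1 ∨ x = z ∨ x = z' ∨ x = z * z')
      ?_ ?_ ?_ ?_ hu
    · intro x hx
      rcases hx with rfl | hx
      · right; left; rfl
      · rw [Set.mem_singleton_iff] at hx
        right; right; left; exact hx
    · left; rfl
    · intro x y _ _ hx hy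
      rcases hx with rfl | rfl | rfl | rfl <;> rcases hy with rfl | rfl | rfl | rfl <;>
        simp [mul_assoc, hzz, hz'z', hcomm, hzz2, hz'z'2, hcomm2]
    · intro x _ hx
      rcases hx with rfl | rfl | rfl | rfl <;>
        simp [mul_assoc, hzz, hz'z', hcomm, hzz2, hz'z'2, hcomm2, hzi, hz'i]
  -- conjugation actions
  have c1z : q₁ * z * q₁⁻¹ = z := by rw [h₁.z_comm q₁ hq₁]; group
  have c1z' : q₁ * z' * q₁⁻¹ = z * z' := hq₁z
  have c1zz' : q₁ * (z * z') * q₁⁻¹ = z' := by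
    rw [conj_mul_eq, c1z, c1z', hzz2]
  have c2z' : q₂ * z' * q₂⁻¹ = z' := by rw [h₂.z_comm q₂ hq₂]; group
  have c2z : q₂ * z * q₂⁻¹ = z * z' := by rw [hq₂z, hcomm]
  have c2zz' : q₂ * (z * z') * q₂⁻¹ = z := by
    rw [conj_mul_eq, c2z, c2z', mul_assoc, hz'z', mul_one]
  have hm1 : q₁ ∈ Q ⊔ Q.map (MulAut.conj g).toMonoidHom := Subgroup.mem_sup_left hq₁
  have hm2 : q₂ ∈ Q ⊔ Q.map (MulAut.conj g).toMonoidHom := Subgroup.mem_sup_right hq₂
  intro u hu v hv hu1 hv1 huv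
  rcases hV u hu with hu' | hu' | hu' | hu'
  · exact absurd hu' hu1
  · rcases hV v hv with hv' | hv' | hv' | hv'
    · exact absurd hv' hv1
    · exact absurd (hu'.trans hv'.symm) huv
    · rw [hu', hv']
      exact ⟨1, Subgroup.one_mem _, by simp, by simp⟩
    · rw [hu', hv']
      exact ⟨q₁, hm1, c1z, c1z'⟩
  · rcases hV v hv with hv' | hv' | hv' | hv'
    · exact absurd hv' hv1
    · rw [hu', hv']
      refine ⟨q₁ * q₂ * q₁, Subgroup.mul_mem _ (Subgroup.mul_mem _ hm1 hm2) hm1, ?_, ?_⟩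
      · calc (q₁ * q₂ * q₁) * z * (q₁ * q₂ * q₁)⁻¹
            = q₁ * (q₂ * (q₁ * z * q₁⁻¹) * q₂⁻¹) * q₁⁻¹ := by group
          _ = z' := by rw [c1z, c2z, c1zz']
      · calc (q₁ * q₂ * q₁) * z' * (q₁ * q₂ * q₁)⁻¹
            = q₁ * (q₂ * (q₁ * z' * q₁⁻¹) * q₂⁻¹) * q₁⁻¹ := by group
          _ = z := by rw [c1z', c2zz', c1z]
    · exact absurd (hu'.trans hv'.symm) huv
    · rw [hu', hv']
      refine ⟨q₁ * q₂, Subgroup.mul_mem _ hm1 hm2, ?_, ?_⟩
      · calc (q₁ * q₂) * z * (q₁ * q₂)⁻¹ = q₁ * (q₂ * z * q₂⁻¹) * q₁⁻¹ := by group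
          _ = z' := by rw [c2z, c1zz']
      · calc (q₁ * q₂) * z' * (q₁ * q₂)⁻¹ = q₁ * (q₂ * z' * q₂⁻¹) * q₁⁻¹ := by group
          _ = z * z' := by rw [c2z', c1z']
  · rcases hV v hv with hv' | hv' | hv' | hv'
    · exact absurd hv' hv1
    · rw [hu', hv']
      refine ⟨q₂ * q₁, Subgroup.mul_mem _ hm2 hm1, ?_, ?_⟩
      · calc (q₂ * q₁) * z * (q₂ * q₁)⁻¹ = q₂ * (q₁ * z * q₁⁻¹) * q₂⁻¹ := by group
          _ = z * z' := by rw [c1z, c2z]
      · calc (q₂ * q₁) * z' * (q₂ * q₁)⁻¹ = q₂ * (q₁ * z' * q₁⁻¹) * q₂⁻¹ := by group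
          _ = z := by rw [c1z', c2zz']
    · rw [hu', hv']
      exact ⟨q₂, hm2, c2z, c2z'⟩
    · exact absurd (hu'.trans hv'.symm) huv

end Cfsg.Agent.S1774
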