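import Cfsg.Statements.S1780
import Mathlib
-- import your own Cfsg.Agent.* helpers here

set_option autoImplicit false
open Cfsg

namespace Cfsg.Agent.S1780

/-- the invariant set: elements of order dividing 2 of the form `t a / a`. -/
def invSub {A : Type*} [CommGroup A] (t : MulAut A) : SubMulAction (Subgroup.zpowers t) A where
  carrier := {c | c ^ 2 = 1 ∧ ∃ a, c = t a / a}
  smul_mem' := by
    rintro ⟨s, hs⟩ c ⟨hc2, a, hca⟩
    refine ⟨?_, s a, ?_⟩
    · change (s c) ^ 2 = 1
      rw [← map_pow, hc2, map_one]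
    · change s c = t (s a) / s a
      obtain ⟨n, rfl⟩ := hs
      rw [hca, map_div]
      congr 1
      have : (t ^ n) * t = t * (t ^ n) := by
        rw [← zpow_add_one, ← zpow_one_add, add_comm]
      have h2 := DFunLike.congr_fun this a
      simpa using h2

/-- the same set as a subgroup. -/
def invSubgroup {A : Type*} [CommGroup A] (t : MulAut A) : Subgroup A where
  carrier := {c | c ^ 2 = 1 ∧ ∃ a, c = t a / a}
  one_mem' := ⟨one_pow 2, 1, by simp⟩
  mul_mem' := by
    rintro x y ⟨hx, a, rfl⟩ ⟨hy, b, rfl⟩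
    refine ⟨by rw [mul_pow, hx, hy, one_mul], a * b, ?_⟩
    rw [map_mul, mul_div_mul_comm]
  inv_mem' := by
    rintro x ⟨hx, a, rfl⟩
    refine ⟨by rw [inv_pow, hx, inv_one], a⁻¹, ?_⟩
    rw [map_inv, inv_div_inv, inv_div]

theorem card_invSub {A : Type*} [CommGroup A] (t : MulAut A) :
    Nat.card ↥(invSub t) = Nat.card ↥(invSubgroup t) := rfl

/-- Let A be a finite abelian 2-group and t an automorphism of A whose order is a power of 2. If every element of A fixed by t² is fixed by t, then t fixes every element of A. -/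
theorem result {A : Type*} [CommGroup A] [Finite A]
    (hA : IsPGroup 2 A) (t : MulAut A) (ht : ∃ k : ℕ, orderOf t = 2 ^ k) (hC : ∀ a : A, t (t a) = a → t a = a) :
    ∀ a : A, t a = a := by
  classical
  by_contra hne
  push Not at hne
  obtain ⟨a0, ha0⟩ := hne
  have hx1 : t a0 / a0 ≠ 1 := by
    intro h
    exact ha0 (div_eq_one.mp h)
  obtain ⟨j, hj⟩ := (IsPGroup.iff_orderOf.mp hA) (t a0 / a0)
  have hj0 : j ≠ 0 := by
    rintro rfl
    rw [pow_zero, orderOf_eq_one_iff] at hj
    exact hx1 hj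
  obtain ⟨i, rfl⟩ := Nat.exists_eq_succ_of_ne_zero hj0
  -- c is the involution
  have hc2 : ((t a0 / a0) ^ (2 ^ i)) ^ 2 = 1 := by
    rw [← pow_mul, ← pow_succ, ← hj, pow_orderOf_eq_one]
  have hc1 : (t a0 / a0) ^ (2 ^ i) ≠ 1 := by
    intro h
    have := orderOf_dvd_of_pow_eq_one h
    rw [hj] at this
    have h2 := Nat.le_of_dvd (by positivity) this
    have : 2 ^ i < 2 ^ (i + 1) := Nat.pow_lt_pow_right (by norm_num) (Nat.lt_succ_self i)
    omega
  have hcmem : (t a0 / a0) ^ (2 ^ i) ∈ invSubgroup t :=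
    ⟨hc2, a0 ^ (2 ^ i), by rw [map_pow, div_pow]⟩
  -- the subgroup is a nontrivial 2-group
  have hP : IsPGroup 2 ↥(invSubgroup t) := hA.to_subgroup _
  have : Fact (Nat.Prime 2) := ⟨Nat.prime_two⟩
  have hdvd : 2 ∣ Nat.card ↥(invSub t) := by
    rw [card_invSub]
    rcases hP.card_eq_or_dvd with h | h
    · exfalso
      rw [Subgroup.card_eq_one] at h   -- invSubgroup t = ⊥
      rw [h, Subgroup.mem_bot] at hcmem
      exact hc1 hcmem
    · exact h
  -- zpowers t is a 2-group
  have hT : IsPGroup 2 ↥(Subgroup.zpowers t) := by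
    obtain ⟨k, hk⟩ := ht
    apply IsPGroup.of_card (n := k)
    rw [Nat.card_zpowers, hk]
  have hone : (⟨1, (invSubgroup t).one_mem⟩ : ↥(invSub t)) ∈
      MulAction.fixedPoints ↥(Subgroup.zpowers t) ↥(invSub t) := by
    rintro ⟨s, hs⟩
    apply Subtype.ext
    change s 1 = 1
    exact map_one s
  obtain ⟨⟨b, hb⟩, hbfix, hbne⟩ :=
    hT.exists_fixed_point_of_prime_dvd_card_of_fixed_point ↥(invSub t) hdvd hone
  obtain ⟨hb2, a, rfl⟩ := hb
  have hfix : t (t a / a) = t a / a := by
    have := hbfix ⟨t, Subgroup.mem_zpowers t⟩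
    exact congrArg Subtype.val this
  apply hbne
  apply Subtype.ext
  change (1 : A) = t a / a
  have hta : t (t a) = a := by
    have h1 : t (t a) = t a * (t a / a) := by
      have := hfix
      rw [map_div] at this
      rw [div_eq_iff_eq_mul] at this
      rw [this, mul_comm]
    rw [h1]
    have h3 : t a * (t a / a) = a * (t a / a) ^ 2 := by
      rw [sq]
      simp [div_eq_mul_inv, mul_comm, mul_left_comm]
    rw [h3, hb2, mul_one]
  rw [hC a hta, div_self']

end Cfsg.Agent.S1780
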