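import Cfsg.Statements.S1781
import Cfsg.Agent.S1780
-- import your own Cfsg.Agent.* helpers here

set_option autoImplicit false
open Cfsg

namespace Cfsg.Agent.S1781

/-- Core lemma: `B` an abelian 2-group, `A ∩ B = 1`, `A` satisfies a TI condition with respect to
conjugation by elements of `B`; if `a ∈ A` normalizes `B` and `a ^ 2 ≠ 1` then `a` centralizes `B`
and `B` normalizes `A`. -/
theorem core {G : Type*} [Group G] [Finite G] (A B : Subgroup G)
    (hB2 : IsPGroup 2 ↥B) (hBc : IsMulCommutative ↥B)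
    (hAB : ∀ x, x ∈ A → x ∈ B → x = 1)
    (hTI : ∀ b ∈ B, ∀ x ∈ A, x ≠ 1 → b * x * b⁻¹ ∈ A → ∀ y ∈ A, b * y * b⁻¹ ∈ A)
    (a : G) (haA : a ∈ A) (haN : a ∈ Subgroup.normalizer (B : Set G))
    (ha2 : a ^ 2 ≠ 1) (hao : ∃ k : ℕ, orderOf a = 2 ^ k) :
    (∀ b ∈ B, a * b * a⁻¹ = b) ∧ (∀ b ∈ B, ∀ y ∈ A, b * y * b⁻¹ ∈ A) := by
  classical
  let _ : CommGroup ↥B := { (inferInstance : Group ↥B) with mul_comm := fun x y => mul_comm' x y }
  set t : MulAut ↥B := B.normalizerMonoidHom ⟨a, haN⟩ with ht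
  have ht_apply : ∀ b : ↥B, ((t b : ↥B) : G) = a * b * a⁻¹ := fun b => rfl
  have hto : ∃ k : ℕ, orderOf t = 2 ^ k := by
    obtain ⟨k, hk⟩ := hao
    have h1 : t ^ (2 ^ k) = 1 := by
      rw [ht, ← map_pow]
      have : (⟨a, haN⟩ : ↥(Subgroup.normalizer (B : Set G))) ^ (2 ^ k) = 1 := by
        apply Subtype.ext
        simp [← hk, pow_orderOf_eq_one]
      rw [this, map_one]
    have h2 := orderOf_dvd_of_pow_eq_one h1
    obtain ⟨j, _, hj⟩ := (Nat.dvd_prime_pow Nat.prime_two).mp h2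
    exact ⟨j, hj⟩
  have hC : ∀ b : ↥B, t (t b) = b → t b = b := by
    intro b hb
    have h1 : a * (a * b * a⁻¹) * a⁻¹ = b := by
      have := congrArg Subtype.val hb
      simpa [ht_apply] using this
    have h2 : (b : G) * a ^ 2 * (b : G)⁻¹ = a ^ 2 := by
      have : a ^ 2 * b = b * a ^ 2 := by
        rw [sq]
        calc a * a * b = a * (a * b * a⁻¹) * a⁻¹ * (a * a) := by group
          _ = b * (a * a) := by rw [h1]
      rw [← this]; group
    have h3 : ∀ y ∈ A, (b : G) * y * (b : G)⁻¹ ∈ A :=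
      hTI b b.2 (a ^ 2) (A.pow_mem haA 2) ha2 (by rw [h2]; exact A.pow_mem haA 2)
    have h4 : a * b * a⁻¹ * (b : G)⁻¹ = 1 := by
      apply hAB
      · have : a * b * a⁻¹ * (b : G)⁻¹ = a * ((b : G) * a⁻¹ * (b : G)⁻¹) := by group
        rw [this]
        exact A.mul_mem haA (h3 _ (A.inv_mem haA))
      · exact B.mul_mem ((haN b).mp b.2) (B.inv_mem b.2)
    apply Subtype.ext
    rw [ht_apply]
    exact mul_inv_eq_one.mp h4
  have hres := Cfsg.Agent.S1780.result hB2 t hto hC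
  have hcent : ∀ b ∈ B, a * b * a⁻¹ = b := by
    intro b hb
    have := congrArg Subtype.val (hres ⟨b, hb⟩)
    simpa [ht_apply] using this
  refine ⟨hcent, ?_⟩
  intro b hb
  have ha1 : a ≠ 1 := by rintro rfl; simp at ha2
  apply hTI b hb a haA ha1
  have : b * a * b⁻¹ = a := by
    have := hcent b hb
    calc b * a * b⁻¹ = (a * b * a⁻¹) * a * b⁻¹ := by rw [this]
      _ = a := by group
  rw [this]; exact haA

/-- Let A be an abelian 2-subgroup of the finite group G such that every conjugate of A equals A or meets A trivially, and let g ∈ G with g A g⁻¹ ≠ A. Then either the subgroup of those elements of A that normalize g A g⁻¹ is an elementary abelian 2-group, or A and g A g⁻¹ commute elementwise. -/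
theorem result {G : Type*} [Group G] [Finite G] (A : Subgroup G)
    (hA2 : IsPGroup 2 ↥A) (hAa : IsMulCommutative ↥A)
    (hti : ∀ h : G, A.map (MulAut.conj h).toMonoidHom = A ∨ A.map (MulAut.conj h).toMonoidHom ⊓ A = ⊥)
    (g : G) (hg : A.map (MulAut.conj g).toMonoidHom ≠ A) :
    Cfsg.IsElementaryAbelian 2 (A ⊓ Subgroup.normalizer ((A.map (MulAut.conj g).toMonoidHom : Subgroup G) : Set G)) ∨
      ⁅A, A.map (MulAut.conj g).toMonoidHom⁆ = ⊥ := by
  classical
  set B := A.map (MulAut.conj g).toMonoidHom with hB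
  have memB : ∀ x, x ∈ B ↔ ∃ y ∈ A, g * y * g⁻¹ = x := by
    intro x
    rw [hB, Subgroup.mem_map]
    rfl
  by_cases hall : ∀ a ∈ A ⊓ Subgroup.normalizer (B : Set G), a ^ 2 = 1
  · left
    refine ⟨?_, hall⟩
    exact IsMulCommutative.of_setLike_mul_comm (fun x hx y hy => setLike_mul_comm hx.1 hy.1)
  · right
    push Not at hall
    obtain ⟨a, ⟨haA, haN⟩, ha2⟩ := hall
    -- TI for A in elementwise form
    have hTIA : ∀ h : G, ∀ x ∈ A, x ≠ 1 → h * x * h⁻¹ ∈ A → ∀ y ∈ A, h * y * h⁻¹ ∈ A := by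
      intro h x hx hx1 hxA y hy
      rcases hti h with h1 | h1
      · rw [← h1]
        exact Subgroup.mem_map.mpr ⟨y, hy, rfl⟩
      · exfalso
        have : h * x * h⁻¹ ∈ A.map (MulAut.conj h).toMonoidHom ⊓ A :=
          ⟨Subgroup.mem_map.mpr ⟨x, hx, rfl⟩, hxA⟩
        rw [h1, Subgroup.mem_bot] at this
        apply hx1
        have h2 : x = h⁻¹ * (h * x * h⁻¹) * h := by group
        rw [h2, this]; group
    have hTIB : ∀ h : G, ∀ x ∈ B, x ≠ 1 → h * x * h⁻¹ ∈ B → ∀ y ∈ B, h * y * h⁻¹ ∈ B := by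
      intro h x hx hx1 hxB y hy
      obtain ⟨x', hx', rfl⟩ := (memB x).mp hx
      obtain ⟨x'', hx'', hxx⟩ := (memB _).mp hxB
      obtain ⟨y', hy', rfl⟩ := (memB y).mp hy
      have hx'1 : x' ≠ 1 := by
        rintro rfl
        apply hx1; group
      have key : (g⁻¹ * h * g) * x' * (g⁻¹ * h * g)⁻¹ ∈ A := by
        have : (g⁻¹ * h * g) * x' * (g⁻¹ * h * g)⁻¹ = g⁻¹ * (h * (g * x' * g⁻¹) * h⁻¹) * g := by group
        rw [this, ← hxx]
        have : g⁻¹ * (g * x'' * g⁻¹) * g = x'' := by group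
        rw [this]; exact hx''
      have := hTIA (g⁻¹ * h * g) x' hx' hx'1 key y' hy'
      rw [memB]
      refine ⟨_, this, ?_⟩
      group
    have hABbot : B ⊓ A = ⊥ := by
      rcases hti g with h1 | h1
      · exact absurd h1 hg
      · exact h1
    have hAB : ∀ x, x ∈ A → x ∈ B → x = 1 := by
      intro x hxA hxB
      have : x ∈ B ⊓ A := ⟨hxB, hxA⟩
      rwa [hABbot, Subgroup.mem_bot] at this
    have hB2 : IsPGroup 2 ↥B := hA2.map _
    have hBc : IsMulCommutative ↥B := inferInstance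
    have hao : ∃ k : ℕ, orderOf a = 2 ^ k := by
      obtain ⟨k, hk⟩ := (IsPGroup.iff_orderOf.mp hA2) ⟨a, haA⟩
      exact ⟨k, by rw [← hk, Subgroup.orderOf_mk]⟩
    obtain ⟨_, hBN⟩ := core A B hB2 hBc hAB (fun b _ => hTIA b) a haA haN ha2 hao
    -- second application, roles swapped
    have hb0B : g * a * g⁻¹ ∈ B := (memB _).mpr ⟨a, haA, rfl⟩
    have hb0N : g * a * g⁻¹ ∈ Subgroup.normalizer (A : Set G) := by
      rw [Subgroup.mem_normalizer_iff]
      intro y
      constructor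
      · intro hy
        exact hBN _ hb0B y hy
      · intro hy
        have := hBN _ (B.inv_mem hb0B) _ hy
        have h2 : (g * a * g⁻¹)⁻¹ * (g * a * g⁻¹ * y * (g * a * g⁻¹)⁻¹) * (g * a * g⁻¹)⁻¹⁻¹ = y := by
          group
        rwa [h2] at this
    have hb02 : (g * a * g⁻¹) ^ 2 ≠ 1 := by
      intro h
      apply ha2
      rw [conj_pow] at h
      have h3 : a ^ 2 = g⁻¹ * (g * a ^ 2 * g⁻¹) * g := by group
      rw [h3, h]; group
    have hbo : ∃ k : ℕ, orderOf (g * a * g⁻¹) = 2 ^ k := by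
      obtain ⟨k, hk⟩ := (IsPGroup.iff_orderOf.mp hB2) ⟨g * a * g⁻¹, hb0B⟩
      exact ⟨k, by rw [← hk, Subgroup.orderOf_mk]⟩
    obtain ⟨_, hAN⟩ := core B A hA2 hAa (fun x hxB hxA => hAB x hxA hxB) (fun b _ => hTIB b)
      (g * a * g⁻¹) hb0B hb0N hb02 hbo
    -- conclusion
    rw [Subgroup.commutator_eq_bot_iff_le_centralizer]
    intro x hx
    rw [Subgroup.mem_centralizer_iff]
    intro y hy
    have h1 : x * y * x⁻¹ * y⁻¹ = 1 := by
      apply hAB
      · have : x * y * x⁻¹ * y⁻¹ = x * (y * x⁻¹ * y⁻¹) := by group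
        rw [this]
        exact A.mul_mem hx (hBN y hy _ (A.inv_mem hx))
      · exact B.mul_mem (hAN x hx y hy) (B.inv_mem hy)
    have h2 : x * y * x⁻¹ = y := mul_inv_eq_one.mp h1
    calc y * x = (x * y * x⁻¹) * x := by rw [h2]
      _ = x * y := by group

end Cfsg.Agent.S1781
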