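import Cfsg.Statements.S1782
-- import your own Cfsg.Agent.* helpers here

import Mathlib

set_option autoImplicit false
open Cfsg

namespace Cfsg.Agent.S1782

universe u

section core
variable {S : Type*} [Group S]

/-- Step 1: if `T` normalizes `R`, `|T| = |R|`, `R ∩ T = 1` and `T` is TI under conjugation by `R`,
then `R` and `T` commute elementwise. -/
theorem step1 [Finite S] (R T : Subgroup S) (hcard : Nat.card ↥R ≤ Nat.card ↥T)
    (h2 : ∀ x, x ∈ R → x ∈ T → x = 1)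
    (hTN : ∀ t ∈ T, t ∈ Subgroup.normalizer (R : Set S))
    (h4 : ∀ r ∈ R, r ∉ Subgroup.normalizer (T : Set S) → (∀ x ∈ T, r * x * r⁻¹ ∈ T → x = 1)) :
    ∀ r ∈ R, ∀ t ∈ T, r * t = t * r := by
  classical
  have hRN : ∀ r ∈ R, r ∈ Subgroup.normalizer (T : Set S) := by
    intro r hr
    by_contra hrN
    have hti := h4 r hr hrN
    have hmem : ∀ t : ↥T, r * t * r⁻¹ * (t : S)⁻¹ ∈ R := by
      intro t
      have h1 : r * t * r⁻¹ * (t : S)⁻¹ = r * ((t : S) * r⁻¹ * (t : S)⁻¹) := by group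
      rw [h1]
      exact R.mul_mem hr ((Subgroup.mem_normalizer_iff.mp (hTN t t.2) r⁻¹).mp (R.inv_mem hr))
    let φ : ↥T → ↥R := fun t => ⟨r * t * r⁻¹ * (t : S)⁻¹, hmem t⟩
    have hinj : Function.Injective φ := by
      intro t t' htt
      have h1 : r * t * r⁻¹ * (t : S)⁻¹ = r * t' * r⁻¹ * (t' : S)⁻¹ := congrArg Subtype.val htt
      have h3 : r * ((t' : S)⁻¹ * t) * r⁻¹ = (t' : S)⁻¹ * t := by
        have h5 : (t : S) * r⁻¹ * (t : S)⁻¹ = (t' : S) * r⁻¹ * (t' : S)⁻¹ := by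
          have := congrArg (fun z => r⁻¹ * z) h1
          simpa [mul_assoc] using this
        have h6 : ((t' : S)⁻¹ * t) * r⁻¹ = r⁻¹ * ((t' : S)⁻¹ * t) := by
          calc ((t' : S)⁻¹ * t) * r⁻¹ = (t' : S)⁻¹ * ((t : S) * r⁻¹ * (t : S)⁻¹) * t := by group
            _ = (t' : S)⁻¹ * ((t' : S) * r⁻¹ * (t' : S)⁻¹) * t := by rw [h5]
            _ = r⁻¹ * ((t' : S)⁻¹ * t) := by group
        calc r * ((t' : S)⁻¹ * t) * r⁻¹ = r * (((t' : S)⁻¹ * t) * r⁻¹) := by group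
          _ = r * (r⁻¹ * ((t' : S)⁻¹ * t)) := by rw [h6]
          _ = (t' : S)⁻¹ * t := by group
      have h7 : (t' : S)⁻¹ * t = 1 := by
        apply hti _ (T.mul_mem (T.inv_mem t'.2) t.2)
        rw [h3]
        exact T.mul_mem (T.inv_mem t'.2) t.2
      apply Subtype.ext
      have : (t : S) = t' * ((t' : S)⁻¹ * t) := by group
      rw [this, h7, mul_one]
    have hbij := hinj.bijective_of_nat_card_le hcard
    obtain ⟨t0, ht0⟩ := hbij.2 ⟨r, hr⟩
    have h1 : r * t0 * r⁻¹ * (t0 : S)⁻¹ = r := congrArg Subtype.val ht0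
    have h3 : r = 1 := by
      have h5 : (t0 : S) * r⁻¹ * (t0 : S)⁻¹ = 1 := by
        have := congrArg (fun z => r⁻¹ * z) h1
        simpa [mul_assoc] using this
      have h6 : r⁻¹ = (t0 : S)⁻¹ * ((t0 : S) * r⁻¹ * (t0 : S)⁻¹) * t0 := by group
      rw [h5] at h6
      simpa using h6
    apply hrN
    rw [h3]
    exact Subgroup.one_mem _
  intro r hr t ht
  have h1 : r * t * r⁻¹ * t⁻¹ = 1 := by
    apply h2
    · have h1 : r * t * r⁻¹ * t⁻¹ = r * (t * r⁻¹ * t⁻¹) := by group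
      rw [h1]
      exact R.mul_mem hr ((Subgroup.mem_normalizer_iff.mp (hTN t ht) r⁻¹).mp (R.inv_mem hr))
    · exact T.mul_mem ((Subgroup.mem_normalizer_iff.mp (hRN r hr) t).mp ht) (T.inv_mem ht)
  have h2 : r * t * r⁻¹ = t := mul_inv_eq_one.mp h1
  calc r * t = (r * t * r⁻¹) * r := by group
    _ = t * r := by rw [h2]

/-- the TI-and-commute hypothesis for `R` with respect to conjugation by elements of `T`. -/
def TIC (R T : Subgroup S) : Prop :=
  ∀ t ∈ T, t ∉ Subgroup.normalizer (R : Set S) →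
    (∀ x ∈ R, ∀ y ∈ R, x * (t * y * t⁻¹) = (t * y * t⁻¹) * x) ∧ (∀ x ∈ R, t * x * t⁻¹ ∈ R → x = 1)

/-- Step 2: the key identity. -/
theorem key_identity (R T : Subgroup S) (h3 : TIC R T) (h4 : TIC T R)
    (t : S) (ht : t ∈ T) (htN : t ∉ Subgroup.normalizer (R : Set S))
    (r : S) (hr : r ∈ R) (hrN : r ∉ Subgroup.normalizer (T : Set S)) :
    t * (r * r) * t⁻¹ * (r * r)⁻¹ = (t * t) * (r * (t * t)⁻¹ * r⁻¹) := by
  have hc1 : r⁻¹ * (t * r * t⁻¹) = (t * r * t⁻¹) * r⁻¹ := (h3 t ht htN).1 r⁻¹ (R.inv_mem hr) r hr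
  have hc2 : t * (r * t⁻¹ * r⁻¹) = (r * t⁻¹ * r⁻¹) * t := (h4 r hr hrN).1 t ht t⁻¹ (T.inv_mem ht)
  have e1 : (t * r * t⁻¹ * r⁻¹) * (t * r * t⁻¹ * r⁻¹) = t * (r * r) * t⁻¹ * (r * r)⁻¹ := by
    calc (t * r * t⁻¹ * r⁻¹) * (t * r * t⁻¹ * r⁻¹)
        = (t * r * t⁻¹) * (r⁻¹ * (t * r * t⁻¹)) * r⁻¹ := by group
      _ = (t * r * t⁻¹) * ((t * r * t⁻¹) * r⁻¹) * r⁻¹ := by rw [hc1]
      _ = t * (r * r) * t⁻¹ * (r * r)⁻¹ := by group
  have e2 : (t * r * t⁻¹ * r⁻¹) * (t * r * t⁻¹ * r⁻¹) = (t * t) * (r * (t * t)⁻¹ * r⁻¹) := by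
    calc (t * r * t⁻¹ * r⁻¹) * (t * r * t⁻¹ * r⁻¹)
        = t * ((r * t⁻¹ * r⁻¹) * t) * (r * t⁻¹ * r⁻¹) := by group
      _ = t * (t * (r * t⁻¹ * r⁻¹)) * (r * t⁻¹ * r⁻¹) := by rw [hc2]
      _ = (t * t) * (r * (t * t)⁻¹ * r⁻¹) := by group
  rw [← e1, e2]

/-- Step 3. -/
theorem sq_trivial (R T : Subgroup S) (h2 : ∀ x, x ∈ R → x ∈ T → x = 1)
    (h3 : TIC R T) (h4 : TIC T R)
    (t : S) (ht : t ∈ T) (htN : t ∉ Subgroup.normalizer (R : Set S))
    (r : S) (hr : r ∈ R) (hrN : r ∉ Subgroup.normalizer (T : Set S))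
    (hrr : r * r ∈ Subgroup.normalizer (T : Set S)) (htt : t * t ∈ Subgroup.normalizer (R : Set S)) :
    r * r = 1 ∧ t * t = 1 := by
  have key := key_identity R T h3 h4 t ht htN r hr hrN
  have hvT : t * (r * r) * t⁻¹ * (r * r)⁻¹ ∈ T := by
    have : t * (r * r) * t⁻¹ * (r * r)⁻¹ = t * ((r * r) * t⁻¹ * (r * r)⁻¹) := by group
    rw [this]
    exact T.mul_mem ht ((Subgroup.mem_normalizer_iff.mp hrr t⁻¹).mp (T.inv_mem ht))
  have hvR : t * (r * r) * t⁻¹ * (r * r)⁻¹ ∈ R := by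
    rw [key]
    have : (t * t) * (r * (t * t)⁻¹ * r⁻¹) = ((t * t) * r * (t * t)⁻¹) * r⁻¹ := by group
    rw [this]
    exact R.mul_mem ((Subgroup.mem_normalizer_iff.mp htt r).mp hr) (R.inv_mem hr)
  have hv1 := h2 _ hvR hvT
  constructor
  · apply (h3 t ht htN).2 (r * r) (R.mul_mem hr hr)
    have : t * (r * r) * t⁻¹ = r * r := mul_inv_eq_one.mp hv1
    rw [this]
    exact R.mul_mem hr hr
  · rw [key] at hv1
    have h5 : r * (t * t)⁻¹ * r⁻¹ = (t * t)⁻¹ := by
      have : r * (t * t)⁻¹ * r⁻¹ = (t * t)⁻¹ * ((t * t) * (r * (t * t)⁻¹ * r⁻¹)) := by group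
      rw [this, hv1, mul_one]
    have h6 : (t * t)⁻¹ = 1 := by
      apply (h4 r hr hrN).2 _ (T.inv_mem (T.mul_mem ht ht))
      rw [h5]
      exact T.inv_mem (T.mul_mem ht ht)
    exact inv_eq_one.mp h6

/-- Step 4: in a 2-group, an element outside a subgroup `N` has a power outside `N` whose
square lies in `N`. -/
theorem exists_last (hS : IsPGroup 2 S) (N : Subgroup S) (t : S) (ht : t ∉ N) :
    ∃ j : ℕ, t ^ (2 ^ j) ∉ N ∧ t ^ (2 ^ j) * t ^ (2 ^ j) ∈ N := by
  classical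
  obtain ⟨k, hk⟩ := hS t
  have hex : ∃ j : ℕ, t ^ (2 ^ j) ∈ N := ⟨k, by rw [hk]; exact N.one_mem⟩
  have h0 : Nat.find hex ≠ 0 := by
    intro h
    have := Nat.find_spec hex
    rw [h] at this
    simp at this
    exact ht this
  obtain ⟨j, hj⟩ := Nat.exists_eq_succ_of_ne_zero h0
  refine ⟨j, ?_, ?_⟩
  · exact Nat.find_min hex (by omega)
  · have := Nat.find_spec hex
    rw [hj, Nat.succ_eq_add_one, pow_succ, pow_mul, pow_two] at this
    exact this

/-- In a 2-group, an element whose square is nontrivial has a power of order 4. -/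
theorem exists_order_four (hS : IsPGroup 2 S) (u : S) (hu : u * u ≠ 1) :
    ∃ m : ℕ, (u ^ m) * (u ^ m) ≠ 1 ∧ (u ^ m) * (u ^ m) * ((u ^ m) * (u ^ m)) = 1 := by
  obtain ⟨k, hk⟩ := IsPGroup.iff_orderOf.mp hS u
  have hk2 : 2 ≤ k := by
    by_contra h
    have hk' : k = 0 ∨ k = 1 := by omega
    apply hu
    rcases hk' with rfl | rfl
    · rw [pow_zero, orderOf_eq_one_iff] at hk
      rw [hk, one_mul]
    · rw [pow_one] at hk
      rw [← pow_two, ← hk, pow_orderOf_eq_one]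
  obtain ⟨i, rfl⟩ : ∃ i, k = i + 2 := ⟨k - 2, by omega⟩
  refine ⟨2 ^ i, ?_, ?_⟩
  · rw [← pow_add, ← two_mul, ← pow_succ']
    apply pow_ne_one_of_lt_orderOf (by positivity)
    rw [hk]
    exact Nat.pow_lt_pow_right (by norm_num) (by omega)
  · rw [← pow_add, ← pow_add]
    have : 2 ^ i + 2 ^ i + (2 ^ i + 2 ^ i) = 2 ^ (i + 2) := by ring
    rw [this, ← hk, pow_orderOf_eq_one]

/-- The core contradiction. -/
theorem core_false (hS : IsPGroup 2 S) (R T : Subgroup S)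
    (h2 : ∀ x, x ∈ R → x ∈ T → x = 1) (h3 : TIC R T) (h4 : TIC T R)
    (u : S) (huR : u ∈ R) (hu2 : u * u ≠ 1)
    (t0 : S) (ht0 : t0 ∈ T) (ht0N : t0 ∉ Subgroup.normalizer (R : Set S))
    (r0 : S) (hr0 : r0 ∈ R) (hr0N : r0 ∉ Subgroup.normalizer (T : Set S)) : False := by
  -- involutions t, r outside the normalizers
  obtain ⟨j, htN, htt⟩ := exists_last hS _ t0 ht0N
  obtain ⟨i, hrN, hrr⟩ := exists_last hS _ r0 hr0N
  have ht : t0 ^ (2 ^ j) ∈ T := T.pow_mem ht0 _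
  have hr : r0 ^ (2 ^ i) ∈ R := R.pow_mem hr0 _
  generalize t0 ^ (2 ^ j) = t at htN htt ht
  generalize r0 ^ (2 ^ i) = r at hrN hrr hr
  obtain ⟨hr2, ht2⟩ := sq_trivial R T h2 h3 h4 t ht htN r hr hrN hrr htt
  -- Step 5
  have step5 : ∀ x ∈ R, x ∉ Subgroup.normalizer (T : Set S) → x * x = 1 := by
    intro x hx hxN
    have key := key_identity R T h3 h4 t ht htN x hx hxN
    rw [ht2] at key
    have h5 : t * (x * x) * t⁻¹ = x * x := by
      have : t * (x * x) * t⁻¹ * (x * x)⁻¹ = 1 := by rw [key]; group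
      exact mul_inv_eq_one.mp this
    apply (h3 t ht htN).2 (x * x) (R.mul_mem hx hx)
    rw [h5]
    exact R.mul_mem hx hx
  -- reduce to u of order 4
  obtain ⟨m, hv2, hv4⟩ := exists_order_four hS u hu2
  have hvR : u ^ m ∈ R := R.pow_mem huR m
  generalize u ^ m = v at hv2 hv4 hvR
  have hvN : v ∈ Subgroup.normalizer (T : Set S) := by
    by_contra h
    exact hv2 (step5 v hvR h)
  have hrvN : r * v ∉ Subgroup.normalizer (T : Set S) := by
    intro h
    apply hrN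
    have : r = (r * v) * v⁻¹ := by group
    rw [this]
    exact Subgroup.mul_mem _ h (Subgroup.inv_mem _ hvN)
  have hrv2 : (r * v) * (r * v) = 1 := step5 (r * v) (R.mul_mem hr hvR) hrvN
  have hrinv : r⁻¹ = r := inv_eq_of_mul_eq_one_left hr2
  have hinv : r * v * r⁻¹ = v⁻¹ := by
    calc r * v * r⁻¹ = r * v * r := by rw [hrinv]
      _ = ((r * v) * (r * v)) * v⁻¹ := by group
      _ = v⁻¹ := by rw [hrv2, one_mul]
  have hinv' : r * v⁻¹ * r⁻¹ = v := by
    have : r * v⁻¹ * r⁻¹ = (r * v * r⁻¹)⁻¹ := by group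
    rw [this, hinv, inv_inv]
  have hvinv2 : v⁻¹ * v⁻¹ = v * v := by
    have : v⁻¹ * v⁻¹ = (v * v)⁻¹ := by group
    rw [this]
    exact inv_eq_of_mul_eq_one_left hv4
  -- commutation facts
  have cR := (h3 t ht htN).1
  have c1 : r * (t * v * t⁻¹) = (t * v * t⁻¹) * r := cR r hr v hvR
  have c2 : v⁻¹ * (t * v * t⁻¹) = (t * v * t⁻¹) * v⁻¹ := cR v⁻¹ (R.inv_mem hvR) v hvR
  have c3 : v * (t * v * t⁻¹) = (t * v * t⁻¹) * v := cR v hvR v hvR
  -- c = t v t⁻¹ v⁻¹ ∈ T
  have hcT : t * v * t⁻¹ * v⁻¹ ∈ T := by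
    have : t * v * t⁻¹ * v⁻¹ = t * (v * t⁻¹ * v⁻¹) := by group
    rw [this]
    exact T.mul_mem ht ((Subgroup.mem_normalizer_iff.mp hvN t⁻¹).mp (T.inv_mem ht))
  have hccT : (t * v * t⁻¹ * v⁻¹) * (t * v * t⁻¹ * v⁻¹) ∈ T := T.mul_mem hcT hcT
  have hcc : (t * v * t⁻¹ * v⁻¹) * (t * v * t⁻¹ * v⁻¹) = (t * v * t⁻¹) * (t * v * t⁻¹) * (v * v) := by
    calc (t * v * t⁻¹ * v⁻¹) * (t * v * t⁻¹ * v⁻¹)
        = (t * v * t⁻¹) * (v⁻¹ * (t * v * t⁻¹)) * v⁻¹ := by group
      _ = (t * v * t⁻¹) * ((t * v * t⁻¹) * v⁻¹) * v⁻¹ := by rw [c2]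
      _ = (t * v * t⁻¹) * (t * v * t⁻¹) * (v⁻¹ * v⁻¹) := by group
      _ = (t * v * t⁻¹) * (t * v * t⁻¹) * (v * v) := by rw [hvinv2]
  have hd : r * (t * v * t⁻¹ * v⁻¹) * r⁻¹ = (t * v * t⁻¹) * v := by
    calc r * (t * v * t⁻¹ * v⁻¹) * r⁻¹ = (r * (t * v * t⁻¹)) * r⁻¹ * (r * v⁻¹ * r⁻¹) := by group
      _ = ((t * v * t⁻¹) * r) * r⁻¹ * v := by rw [c1, hinv']
      _ = (t * v * t⁻¹) * v := by group
  have hdd : r * ((t * v * t⁻¹ * v⁻¹) * (t * v * t⁻¹ * v⁻¹)) * r⁻¹
      = (t * v * t⁻¹) * (t * v * t⁻¹) * (v * v) := by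
    calc r * ((t * v * t⁻¹ * v⁻¹) * (t * v * t⁻¹ * v⁻¹)) * r⁻¹
        = (r * (t * v * t⁻¹ * v⁻¹) * r⁻¹) * (r * (t * v * t⁻¹ * v⁻¹) * r⁻¹) := by group
      _ = ((t * v * t⁻¹) * v) * ((t * v * t⁻¹) * v) := by rw [hd]
      _ = (t * v * t⁻¹) * (v * (t * v * t⁻¹)) * v := by group
      _ = (t * v * t⁻¹) * ((t * v * t⁻¹) * v) * v := by rw [c3]
      _ = (t * v * t⁻¹) * (t * v * t⁻¹) * (v * v) := by group
  have hcc1 : (t * v * t⁻¹ * v⁻¹) * (t * v * t⁻¹ * v⁻¹) = 1 := by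
    apply (h4 r hr hrN).2 _ hccT
    rw [hdd, ← hcc]
    exact hccT
  rw [hcc] at hcc1
  have h8 : t * (v * v) * t⁻¹ = v * v := by
    have e : t * (v * v) * t⁻¹ = (t * v * t⁻¹) * (t * v * t⁻¹) := by group
    rw [e]
    have : (t * v * t⁻¹) * (t * v * t⁻¹) = (v * v)⁻¹ := eq_inv_of_mul_eq_one_left hcc1
    rw [this]
    exact inv_eq_of_mul_eq_one_left hv4
  apply hv2
  apply (h3 t ht htN).2 (v * v) (R.mul_mem hvR hvR)
  rw [h8]
  exact R.mul_mem hvR hvR

/-- Combination: the conclusion under the TI-and-commute hypotheses. -/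
theorem core_comm [Finite S] (hS : IsPGroup 2 S) (R T : Subgroup S)
    (hcard : Nat.card ↥R = Nat.card ↥T)
    (h2 : ∀ x, x ∈ R → x ∈ T → x = 1) (h3 : TIC R T) (h4 : TIC T R)
    (u : S) (huR : u ∈ R) (hu2 : u * u ≠ 1) :
    ∀ r ∈ R, ∀ t ∈ T, r * t = t * r := by
  by_cases hT : ∀ t ∈ T, t ∈ Subgroup.normalizer (R : Set S)
  · exact step1 R T hcard.le h2 hT (fun r hr hrN => (h4 r hr hrN).2)
  by_cases hR : ∀ r ∈ R, r ∈ Subgroup.normalizer (T : Set S)
  · intro r hr t ht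
    exact (step1 T R hcard.ge (fun x hxT hxR => h2 x hxR hxT) hR
      (fun t ht htN => (h3 t ht htN).2) t ht r hr).symm
  exfalso
  push Not at hT hR
  obtain ⟨t0, ht0, ht0N⟩ := hT
  obtain ⟨r0, hr0, hr0N⟩ := hR
  exact core_false hS R T h2 h3 h4 u huR hu2 t0 ht0 ht0N r0 hr0 hr0N

/-- A finite group all of whose elements square to `1` has trivial Frattini subgroup. -/
theorem frattini_eq_bot_of_sq [Finite S] (hsq : ∀ x : S, x * x = 1) : frattini S = ⊥ := by
  classical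
  have hinv : ∀ x : S, x⁻¹ = x := fun x => inv_eq_of_mul_eq_one_left (hsq x)
  have hcomm : ∀ x y : S, x * y = y * x := by
    intro x y
    have h1 := hsq (x * y)
    calc x * y = (x * y)⁻¹ := (hinv _).symm
      _ = y⁻¹ * x⁻¹ := by group
      _ = y * x := by rw [hinv, hinv]
  let _ : CommGroup S := { (inferInstance : Group S) with mul_comm := hcomm }
  rw [eq_bot_iff]
  intro x hx
  rw [Subgroup.mem_bot]
  by_contra hx1
  -- a subgroup maximal with respect to not containing x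
  have hfin : {K : Subgroup S | x ∉ K}.Finite := Set.toFinite _
  have hne : {K : Subgroup S | x ∉ K}.Nonempty := ⟨⊥, by simpa [Subgroup.mem_bot] using hx1⟩
  obtain ⟨M, hM, hMmax⟩ := hfin.exists_maximal hne
  have hMx : x ∉ M := hM
  have hcoatom : IsCoatom M := by
    refine ⟨fun h => hMx (h ▸ Subgroup.mem_top x), ?_⟩
    intro N hMN
    have hxN : x ∈ N := by
      by_contra h
      exact lt_irrefl _ (lt_of_lt_of_le hMN (hMmax h hMN.le))
    rw [eq_top_iff]
    intro y _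
    by_cases hyM : y ∈ M
    · exact hMN.le hyM
    · have hlt : M < M ⊔ Subgroup.zpowers y := by
        refine lt_of_le_of_ne le_sup_left ?_
        intro h
        apply hyM
        rw [h]
        exact (le_sup_right : Subgroup.zpowers y ≤ _) (Subgroup.mem_zpowers y)
      have hx' : x ∈ M ⊔ Subgroup.zpowers y := by
        by_contra h
        exact lt_irrefl _ (lt_of_lt_of_le hlt (hMmax h hlt.le))
      obtain ⟨m, hm, z, hz, hmz⟩ := Subgroup.mem_sup.mp hx'
      obtain ⟨k, rfl⟩ := Subgroup.mem_zpowers_iff.mp hz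
      rcases Int.even_or_odd k with ⟨l, rfl⟩ | ⟨l, rfl⟩
      · exfalso
        apply hMx
        have : y ^ (l + l) = 1 := by
          rw [zpow_add, ← mul_zpow, hsq, one_zpow]
        rw [this, mul_one] at hmz
        rw [← hmz]; exact hm
      · have : y ^ (2 * l + 1) = y := by
          rw [zpow_add, zpow_one, two_mul, zpow_add, ← mul_zpow, hsq, one_zpow, one_mul]
        rw [this] at hmz
        have : y = m⁻¹ * x := by rw [← hmz]; group
        rw [this]
        exact N.mul_mem (N.inv_mem (hMN.le hm)) hxN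
  exact hMx (frattini_le_coatom hcoatom hx)

end core

theorem mem_normalizer_of_map_conj_eq {S : Type*} [Group S] (U : Subgroup S) (s : S)
    (h : U.map (MulAut.conj s).toMonoidHom = U) : s ∈ Subgroup.normalizer (U : Set S) := by
  rw [Subgroup.mem_normalizer_iff]
  intro x
  constructor
  · intro hx
    rw [← h]
    exact Subgroup.mem_map.mpr ⟨x, hx, rfl⟩
  · intro hx
    rw [← h] at hx
    obtain ⟨y, hy, hyx⟩ := Subgroup.mem_map.mp hx
    have : s * y * s⁻¹ = s * x * s⁻¹ := hyx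
    have h2 : y = x := by
      have := congrArg (fun z => s⁻¹ * z * s) this
      simpa [mul_assoc] using this
    rw [← h2]; exact hy

theorem map_subtype_conj {S : Type*} [Group S] (M : Subgroup S) (U : Subgroup ↥M) (s : ↥M) :
    (U.map (MulAut.conj s).toMonoidHom).map M.subtype
      = (U.map M.subtype).map (MulAut.conj (s : S)).toMonoidHom := by
  rw [Subgroup.map_map, Subgroup.map_map]
  congr 1

/-- The inductive statement, with the Frattini hypothesis replaced by the existence of a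
non-trivial square. -/
theorem main_aux (n : ℕ) : ∀ (S : Type u) [Group S] [Finite S], Nat.card S = n → IsPGroup 2 S →
    ∀ Δ : Set (Subgroup S), (∀ s : S, ∀ R ∈ Δ, R.map (MulAut.conj s).toMonoidHom ∈ Δ) →
    (∀ R ∈ Δ, ∃ u ∈ R, u * u ≠ 1) → (∀ R ∈ Δ, ∀ T ∈ Δ, Nat.card ↥R = Nat.card ↥T) →
    (∀ R ∈ Δ, ∀ T ∈ Δ, R = T ∨ R ⊓ T = ⊥) →
    ∀ R ∈ Δ, ∀ T ∈ Δ, R ≠ T → ∀ r ∈ R, ∀ t ∈ T, r * t = t * r := by
  induction n using Nat.strong_induction_on with
  | _ n ih =>
  intro S _ _ hn hS Δ hinv hsq hord hti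
  classical
  have : Fact (Nat.Prime 2) := ⟨Nat.prime_two⟩
  -- members of Δ inside a proper subgroup commute
  have step_sub : ∀ M : Subgroup S, M ≠ ⊤ → ∀ U ∈ Δ, ∀ V ∈ Δ, U ≠ V → U ≤ M → V ≤ M →
      ∀ x ∈ U, ∀ y ∈ V, x * y = y * x := by
    intro M hM U hU V hV hUV hUM hVM x hx y hy
    have hlt : Nat.card ↥M < n := by
      rw [← hn]
      refine lt_of_le_of_ne (Subgroup.card_le_card_group M) ?_
      intro h
      exact hM ((Subgroup.card_eq_iff_eq_top M).mp h)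
    have key := ih (Nat.card ↥M) hlt ↥M rfl (hS.to_subgroup M)
      {W : Subgroup ↥M | W.map M.subtype ∈ Δ}
      (by
        intro s W hW
        change (W.map (MulAut.conj s).toMonoidHom).map M.subtype ∈ Δ
        rw [map_subtype_conj]
        exact hinv _ _ hW)
      (by
        intro W hW
        obtain ⟨w, hw, hw2⟩ := hsq _ hW
        obtain ⟨w', hw', rfl⟩ := Subgroup.mem_map.mp hw
        refine ⟨w', hw', ?_⟩
        intro h
        apply hw2
        have := congrArg M.subtype h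
        simpa using this)
      (by
        intro W hW W' hW'
        have := hord _ hW _ hW'
        rwa [Subgroup.card_map_of_injective M.subtype_injective,
          Subgroup.card_map_of_injective M.subtype_injective] at this)
      (by
        intro W hW W' hW'
        rcases hti _ hW _ hW' with h | h
        · left
          exact Subgroup.map_injective M.subtype_injective h
        · right
          rw [eq_bot_iff]
          intro z hz
          have : (z : S) ∈ W.map M.subtype ⊓ W'.map M.subtype :=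
            ⟨Subgroup.mem_map.mpr ⟨z, hz.1, rfl⟩, Subgroup.mem_map.mpr ⟨z, hz.2, rfl⟩⟩
          rw [h, Subgroup.mem_bot] at this
          rw [Subgroup.mem_bot]
          exact Subtype.ext this)
      (U.subgroupOf M) (by
        change (U.subgroupOf M).map M.subtype ∈ Δ
        rw [Subgroup.map_subgroupOf_eq_of_le hUM]; exact hU)
      (V.subgroupOf M) (by
        change (V.subgroupOf M).map M.subtype ∈ Δ
        rw [Subgroup.map_subgroupOf_eq_of_le hVM]; exact hV)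
      (by
        intro h
        apply hUV
        have := congrArg (Subgroup.map M.subtype) h
        rwa [Subgroup.map_subgroupOf_eq_of_le hUM, Subgroup.map_subgroupOf_eq_of_le hVM] at this)
      ⟨x, hUM hx⟩ (by rw [Subgroup.mem_subgroupOf]; exact hx)
      ⟨y, hVM hy⟩ (by rw [Subgroup.mem_subgroupOf]; exact hy)
    exact congrArg Subtype.val key
  have hnil : Group.IsNilpotent S := hS.isNilpotent
  -- the TI-and-commute property for conjugation by arbitrary elements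
  have hTI_gen : ∀ U ∈ Δ, U ≠ ⊤ → ∀ s : S, s ∉ Subgroup.normalizer (U : Set S) →
      (∀ x ∈ U, ∀ y ∈ U, x * (s * y * s⁻¹) = (s * y * s⁻¹) * x) ∧
        (∀ x ∈ U, s * x * s⁻¹ ∈ U → x = 1) := by
    intro U hU hUtop s hs
    obtain ⟨M, hMco, hUM⟩ := (eq_top_or_exists_le_coatom U).resolve_left hUtop
    have hMn : M.Normal :=
      Subgroup.NormalizerCondition.normal_of_coatom M Group.normalizerCondition_of_isNilpotent hMco
    have hUs : U.map (MulAut.conj s).toMonoidHom ∈ Δ := hinv s U hU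
    have hne : U ≠ U.map (MulAut.conj s).toMonoidHom := by
      intro h
      exact hs (mem_normalizer_of_map_conj_eq U s h.symm)
    have hUsM : U.map (MulAut.conj s).toMonoidHom ≤ M := by
      intro z hz
      obtain ⟨y, hy, rfl⟩ := Subgroup.mem_map.mp hz
      exact hMn.conj_mem y (hUM hy) s
    constructor
    · intro x hx y hy
      exact step_sub M hMco.1 U hU _ hUs hne hUM hUsM x hx _ (Subgroup.mem_map.mpr ⟨y, hy, rfl⟩)
    · intro x hx hxs
      have hbot : U ⊓ U.map (MulAut.conj s).toMonoidHom = ⊥ := (hti U hU _ hUs).resolve_left hne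
      have : s * x * s⁻¹ ∈ U ⊓ U.map (MulAut.conj s).toMonoidHom :=
        ⟨hxs, Subgroup.mem_map.mpr ⟨x, hx, rfl⟩⟩
      rw [hbot, Subgroup.mem_bot] at this
      have h2 : x = s⁻¹ * (s * x * s⁻¹) * s := by group
      rw [h2, this]; group
  intro R hR T hT hRT
  have hcard := hord R hR T hT
  have hRtop : R ≠ ⊤ := by
    intro h
    apply hRT
    have h1 : Nat.card ↥T = Nat.card S := by rw [← hcard, h, Subgroup.card_top]
    rw [h, (Subgroup.card_eq_iff_eq_top _).mp h1]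
  have hTtop : T ≠ ⊤ := by
    intro h
    apply hRT
    have h1 : Nat.card ↥R = Nat.card S := by rw [hcard, h, Subgroup.card_top]
    rw [h, (Subgroup.card_eq_iff_eq_top _).mp h1]
  have hbot : R ⊓ T = ⊥ := (hti R hR T hT).resolve_left hRT
  have h2 : ∀ x, x ∈ R → x ∈ T → x = 1 := by
    intro x hxR hxT
    have : x ∈ R ⊓ T := ⟨hxR, hxT⟩
    rwa [hbot, Subgroup.mem_bot] at this
  obtain ⟨u, huR, hu2⟩ := hsq R hR
  exact core_comm hS R T hcard h2 (fun t _ htN => hTI_gen R hR hRtop t htN)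
    (fun r _ hrN => hTI_gen T hT hTtop r hrN) u huR hu2

/-- Let S be a finite 2-group and Δ a set of subgroups of S closed under conjugation by S, all of the same order, each with nontrivial Frattini subgroup, and such that two distinct members of Δ meet trivially. Then any two distinct members of Δ commute elementwise. -/
theorem result {S : Type*} [Group S] [Finite S] (hS : IsPGroup 2 S)
    (Δ : Set (Subgroup S)) (hinv : ∀ s : S, ∀ R ∈ Δ, R.map (MulAut.conj s).toMonoidHom ∈ Δ)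
    (hΦ : ∀ R ∈ Δ, frattini ↥R ≠ ⊥) (hord : ∀ R ∈ Δ, ∀ T ∈ Δ, Nat.card ↥R = Nat.card ↥T)
    (hti : ∀ R ∈ Δ, ∀ T ∈ Δ, R = T ∨ R ⊓ T = ⊥) :
    ∀ R ∈ Δ, ∀ T ∈ Δ, R ≠ T → ⁅R, T⁆ = ⊥ := by
  intro R hR T hT hRT
  have hsq : ∀ R ∈ Δ, ∃ u ∈ R, u * u ≠ 1 := by
    intro U hU
    by_contra h
    push Not at h
    apply hΦ U hU
    apply frattini_eq_bot_of_sq
    intro x
    apply Subtype.ext
    exact h x x.2
  have key := main_aux (Nat.card S) S rfl hS Δ hinv hsq hord hti R hR T hT hRT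
  rw [Subgroup.commutator_eq_bot_iff_le_centralizer]
  intro r hr
  rw [Subgroup.mem_centralizer_iff]
  intro t ht
  exact (key r hr t ht).symm

end Cfsg.Agent.S1782
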