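import Cfsg.Statements.S1783
-- import your own Cfsg.Agent.* helpers here
import Cfsg.Agent.S1782
import Cfsg.Agent.Lib.Helper70.FrattiniFaithful
import Cfsg.Agent.Lib.Helper22.FStar
import Mathlib

set_option autoImplicit false
open Cfsg

namespace Cfsg.Agent.S1783

section aux
variable {X : Type*} [Group X]

/-- conjugate subgroup -/
abbrev cj (A : Subgroup X) (h : X) : Subgroup X := A.map (MulAut.conj h).toMonoidHom

theorem mem_cj {A : Subgroup X} {h x : X} : x ∈ cj A h ↔ ∃ y ∈ A, h * y * h⁻¹ = x := by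
  rw [Subgroup.mem_map]
  rfl

theorem conj_mem_cj {A : Subgroup X} {y : X} (hy : y ∈ A) (h : X) : h * y * h⁻¹ ∈ cj A h :=
  mem_cj.mpr ⟨y, hy, rfl⟩

theorem cj_cj (A : Subgroup X) (g h : X) : cj (cj A h) g = cj A (g * h) := by
  ext x
  simp only [mem_cj]
  constructor
  · rintro ⟨y, ⟨w, hw, rfl⟩, rfl⟩
    exact ⟨w, hw, by group⟩
  · rintro ⟨w, hw, rfl⟩
    exact ⟨h * w * h⁻¹, ⟨w, hw, rfl⟩, by group⟩

theorem cj_one (A : Subgroup X) : cj A 1 = A := by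
  ext x
  simp only [mem_cj]
  constructor
  · rintro ⟨y, hy, rfl⟩
    simpa using hy
  · intro hx
    exact ⟨x, hx, by simp⟩

theorem cj_normal (N : Subgroup X) [hN : N.Normal] (g : X) : cj N g = N := by
  ext x
  simp only [mem_cj]
  constructor
  · rintro ⟨y, hy, rfl⟩
    exact hN.conj_mem y hy g
  · intro hx
    refine ⟨g⁻¹ * x * g, ?_, by group⟩
    have := hN.conj_mem x hx g⁻¹
    simpa using this

theorem cj_inf (A B : Subgroup X) (g : X) : cj (A ⊓ B) g = cj A g ⊓ cj B g :=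
  Subgroup.map_inf A B _ (MulAut.conj g).injective

theorem card_cj (A : Subgroup X) (h : X) : Nat.card (cj A h) = Nat.card A :=
  Subgroup.card_map_of_injective (MulAut.conj h).injective

theorem cj_mono {A B : Subgroup X} (hAB : A ≤ B) (g : X) : cj A g ≤ cj B g :=
  Subgroup.map_mono hAB

theorem ti_general (A : Subgroup X) (hti : ∀ h : X, cj A h = A ∨ cj A h ⊓ A = ⊥) (x y : X) :
    cj A x = cj A y ∨ cj A x ⊓ cj A y = ⊥ := by
  have e : y * (y⁻¹ * x) = x := by group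
  rcases hti (y⁻¹ * x) with h | h
  · left
    have := congrArg (fun B => cj B y) h
    simp only [cj_cj, e] at this
    exact this
  · right
    have := congrArg (fun B => cj B y) h
    simp only [cj_inf, cj_cj, e] at this
    rw [this]
    exact Subgroup.map_bot _

/-- relative form of `S1782.main_aux`: the family lives inside a 2-subgroup `P` -/
theorem rel_comm [Finite X] (P : Subgroup X) (hP : IsPGroup 2 P)
    (Δ : Set (Subgroup X)) (hle : ∀ R ∈ Δ, R ≤ P)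
    (hinv : ∀ s ∈ P, ∀ R ∈ Δ, cj R s ∈ Δ)
    (hsq : ∀ R ∈ Δ, ∃ u ∈ R, u * u ≠ 1)
    (hord : ∀ R ∈ Δ, ∀ T ∈ Δ, Nat.card R = Nat.card T)
    (hti : ∀ R ∈ Δ, ∀ T ∈ Δ, R = T ∨ R ⊓ T = ⊥) :
    ∀ R ∈ Δ, ∀ T ∈ Δ, R ≠ T → ∀ r ∈ R, ∀ t ∈ T, r * t = t * r := by
  let Δ' : Set (Subgroup P) := {U | U.map P.subtype ∈ Δ}
  have hinj : Function.Injective P.subtype := P.subtype_injective
  have hinv' : ∀ s : P, ∀ U ∈ Δ', U.map (MulAut.conj s).toMonoidHom ∈ Δ' := by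
    intro s U hU
    show (U.map (MulAut.conj s).toMonoidHom).map P.subtype ∈ Δ
    rw [Cfsg.Agent.S1782.map_subtype_conj]
    exact hinv s s.2 _ hU
  have hsq' : ∀ U ∈ Δ', ∃ u ∈ U, u * u ≠ 1 := by
    intro U hU
    obtain ⟨v, hv, hv1⟩ := hsq _ hU
    obtain ⟨u, hu, rfl⟩ := Subgroup.mem_map.mp hv
    refine ⟨u, hu, ?_⟩
    intro h
    apply hv1
    have := congrArg P.subtype h
    simpa using this
  have hord' : ∀ U ∈ Δ', ∀ V ∈ Δ', Nat.card U = Nat.card V := by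
    intro U hU V hV
    rw [← Subgroup.card_map_of_injective (K := U) hinj, ← Subgroup.card_map_of_injective (K := V) hinj]
    exact hord _ hU _ hV
  have hti' : ∀ U ∈ Δ', ∀ V ∈ Δ', U = V ∨ U ⊓ V = ⊥ := by
    intro U hU V hV
    rcases hti _ hU _ hV with h | h
    · left
      exact Subgroup.map_injective hinj h
    · right
      rw [← Subgroup.map_inf _ _ _ hinj] at h
      exact (Subgroup.map_eq_bot_iff_of_injective _ hinj).mp h
  intro R hR T hT hRT r hr t ht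
  have hRmap : (R.subgroupOf P).map P.subtype = R := Subgroup.map_subgroupOf_eq_of_le (hle R hR)
  have hTmap : (T.subgroupOf P).map P.subtype = T := Subgroup.map_subgroupOf_eq_of_le (hle T hT)
  have hR' : R.subgroupOf P ∈ Δ' := by show _ ∈ Δ; rw [hRmap]; exact hR
  have hT' : T.subgroupOf P ∈ Δ' := by show _ ∈ Δ; rw [hTmap]; exact hT
  have hne : R.subgroupOf P ≠ T.subgroupOf P := by
    intro h
    apply hRT
    rw [← hRmap, ← hTmap, h]
  have key := Cfsg.Agent.S1782.main_aux (Nat.card P) P rfl hP Δ' hinv' hsq' hord' hti'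
    _ hR' _ hT' hne ⟨r, hle R hR hr⟩ (Subgroup.mem_subgroupOf.mpr hr) ⟨t, hle T hT ht⟩
    (Subgroup.mem_subgroupOf.mpr ht)
  exact congrArg Subtype.val key

end aux

section main
variable {X : Type*} [Group X] [Finite X]

open Cfsg.Agent.Lib.Helper70 in
/-- Part 1: squares of elements of `A` lie in `O₂(X)`. -/
theorem sq_mem_pCore (hX : Cfsg.generalizedFittingSubgroup X = Cfsg.pCore 2 X) (A : Subgroup X)
    (hA2 : IsPGroup 2 ↥A) (hAc : ∀ a ∈ A, ∀ b ∈ A, a * b = b * a)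
    (hti : ∀ h : X, cj A h = A ∨ cj A h ⊓ A = ⊥) : ∀ a ∈ A, a ^ 2 ∈ Cfsg.pCore 2 X := by
  have hp2 : Fact (Nat.Prime 2) := ⟨Nat.prime_two⟩
  set Q := Cfsg.pCore 2 X with hQ
  have hQn : Q.Normal := Subgroup.sSup_normal _ (fun _ h => h.1)
  have hQ2 : IsPGroup 2 Q := Sylow.sSup_of_normal _ (fun _ h => h.2) (fun _ h => h.1)
  have hcent : Subgroup.centralizer (Q : Set X) ≤ Q := by
    have := Cfsg.Agent.Lib.Helper22.centralizer_generalizedFittingSubgroup_le (G := X)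
    rwa [hX] at this
  have hmax : ∀ N : Subgroup X, N.Normal → IsPGroup 2 N → N ≤ Q :=
    fun N hN hp => le_sSup ⟨hN, hp⟩
  have hT := trivOnFrattiniQuot_le Q hQ2 hcent hmax
  by_cases hall : ∀ a ∈ A, a * a = 1
  · intro a ha
    rw [pow_two, hall a ha]
    exact Q.one_mem
  push Not at hall
  obtain ⟨u, huA, hu⟩ := hall
  -- `A` commutes elementwise with its `Q`-conjugates
  have hcomm : ∀ q ∈ Q, ∀ a ∈ A, ∀ b ∈ A, a * (q * b * q⁻¹) = (q * b * q⁻¹) * a := by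
    intro q hq a ha b hb
    by_cases hAq : cj A q = A
    · have : q * b * q⁻¹ ∈ A := by
        rw [← hAq]; exact conj_mem_cj hb q
      exact hAc a ha _ this
    · set P := A ⊔ Q with hPdef
      have hP : IsPGroup 2 P := hA2.to_sup_of_normal_right hQ2
      have hAP : A ≤ P := le_sup_left
      have hQP : Q ≤ P := le_sup_right
      let Δ : Set (Subgroup X) := {R | (∃ x : X, R = cj A x) ∧ R ≤ P}
      have hinv : ∀ s ∈ P, ∀ R ∈ Δ, cj R s ∈ Δ := by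
        rintro s hs R ⟨⟨x, rfl⟩, hRP⟩
        refine ⟨⟨s * x, cj_cj A s x⟩, ?_⟩
        intro y hy
        obtain ⟨w, hw, rfl⟩ := mem_cj.mp hy
        exact P.mul_mem (P.mul_mem hs (hRP hw)) (P.inv_mem hs)
      have hsq : ∀ R ∈ Δ, ∃ v ∈ R, v * v ≠ 1 := by
        rintro R ⟨⟨x, rfl⟩, -⟩
        refine ⟨x * u * x⁻¹, conj_mem_cj huA x, ?_⟩
        intro h
        apply hu
        have e : u * u = x⁻¹ * (x * u * x⁻¹ * (x * u * x⁻¹)) * x := by group
        rw [e, h]; group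
      have hord : ∀ R ∈ Δ, ∀ T ∈ Δ, Nat.card R = Nat.card T := by
        rintro R ⟨⟨x, rfl⟩, -⟩ T ⟨⟨y, rfl⟩, -⟩
        rw [card_cj, card_cj]
      have hti' : ∀ R ∈ Δ, ∀ T ∈ Δ, R = T ∨ R ⊓ T = ⊥ := by
        rintro R ⟨⟨x, rfl⟩, -⟩ T ⟨⟨y, rfl⟩, -⟩
        exact ti_general A hti x y
      have hAΔ : A ∈ Δ := ⟨⟨1, (cj_one A).symm⟩, hAP⟩
      have hAqΔ : cj A q ∈ Δ := by
        refine ⟨⟨q, rfl⟩, ?_⟩
        intro y hy
        obtain ⟨w, hw, rfl⟩ := mem_cj.mp hy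
        exact P.mul_mem (P.mul_mem (hQP hq) (hAP hw)) (P.inv_mem (hQP hq))
      exact rel_comm P hP Δ (fun R hR => hR.2) hinv hsq hord hti' A hAΔ (cj A q) hAqΔ
        (fun h => hAq h.symm) a ha _ (conj_mem_cj hb q)
  intro a ha
  apply hT
  rw [mem_trivOnFrattiniQuot]
  intro r hr
  have hd : a * (r * a⁻¹ * r⁻¹) = (r * a⁻¹ * r⁻¹) * a := hcomm r hr a ha a⁻¹ (A.inv_mem ha)
  have hc : a ^ 2 * r * (a ^ 2)⁻¹ * r⁻¹ = (a * (r * a⁻¹ * r⁻¹)) ^ 2 := by
    have e1 : a ^ 2 * r * (a ^ 2)⁻¹ * r⁻¹ =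
        a * a * ((r * a⁻¹ * r⁻¹) * (r * a⁻¹ * r⁻¹)) := by
      rw [pow_two]; group
    rw [e1, pow_two]
    calc a * a * ((r * a⁻¹ * r⁻¹) * (r * a⁻¹ * r⁻¹))
        = a * (a * (r * a⁻¹ * r⁻¹)) * (r * a⁻¹ * r⁻¹) := by group
      _ = a * ((r * a⁻¹ * r⁻¹) * a) * (r * a⁻¹ * r⁻¹) := by rw [hd]
      _ = (a * (r * a⁻¹ * r⁻¹)) * (a * (r * a⁻¹ * r⁻¹)) := by group
  have hcQ : a * (r * a⁻¹ * r⁻¹) ∈ Q := by
    have : a * (r * a⁻¹ * r⁻¹) = (a * r * a⁻¹) * r⁻¹ := by group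
    rw [this]
    exact Q.mul_mem (hQn.conj_mem r hr a) (Q.inv_mem hr)
  rw [hc]
  have hfr := (Cfsg.Agent.S0012.result 2 hQ2).2 ⟨_, hcQ⟩
  exact ⟨_, hfr, rfl⟩

/-- Part 2: if some square of `A` has a nontrivial square, the conjugates of `A ∩ O₂(X)`
commute elementwise. -/
theorem conj_comm (A : Subgroup X)
    (hAc : ∀ a ∈ A, ∀ b ∈ A, a * b = b * a)
    (hti : ∀ h : X, cj A h = A ∨ cj A h ⊓ A = ⊥)
    (u : X) (huA : u ∈ A) (huQ : u ∈ Cfsg.pCore 2 X) (hu : u * u ≠ 1) :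
    ∀ x y : X, ∀ r ∈ cj (A ⊓ Cfsg.pCore 2 X) x, ∀ t ∈ cj (A ⊓ Cfsg.pCore 2 X) y, r * t = t * r := by
  have hp2 : Fact (Nat.Prime 2) := ⟨Nat.prime_two⟩
  set Q := Cfsg.pCore 2 X with hQ
  have hQn : Q.Normal := Subgroup.sSup_normal _ (fun _ h => h.1)
  have hQ2 : IsPGroup 2 Q := Sylow.sSup_of_normal _ (fun _ h => h.2) (fun _ h => h.1)
  set A₀ := A ⊓ Q with hA₀
  have hA₀x : ∀ x : X, cj A₀ x = cj A x ⊓ Q := by
    intro x
    rw [hA₀, cj_inf, cj_normal Q x]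
  let Δ : Set (Subgroup X) := {R | ∃ x : X, R = cj A₀ x}
  have hle : ∀ R ∈ Δ, R ≤ Q := by
    rintro R ⟨x, rfl⟩
    rw [hA₀x]; exact inf_le_right
  have hinv : ∀ s ∈ Q, ∀ R ∈ Δ, cj R s ∈ Δ := by
    rintro s - R ⟨x, rfl⟩
    exact ⟨s * x, cj_cj A₀ s x⟩
  have hsq : ∀ R ∈ Δ, ∃ v ∈ R, v * v ≠ 1 := by
    rintro R ⟨x, rfl⟩
    refine ⟨x * u * x⁻¹, conj_mem_cj (Subgroup.mem_inf.mpr ⟨huA, huQ⟩) x, ?_⟩
    intro h
    apply hu
    have e : u * u = x⁻¹ * (x * u * x⁻¹ * (x * u * x⁻¹)) * x := by group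
    rw [e, h]; group
  have hord : ∀ R ∈ Δ, ∀ T ∈ Δ, Nat.card R = Nat.card T := by
    rintro R ⟨x, rfl⟩ T ⟨y, rfl⟩
    rw [card_cj, card_cj]
  have hti' : ∀ R ∈ Δ, ∀ T ∈ Δ, R = T ∨ R ⊓ T = ⊥ := by
    rintro R ⟨x, rfl⟩ T ⟨y, rfl⟩
    rcases ti_general A hti x y with h | h
    · left
      rw [hA₀x, hA₀x, h]
    · right
      rw [eq_bot_iff, ← h]
      exact inf_le_inf (cj_mono inf_le_left x) (cj_mono inf_le_left y)
  intro x y r hr t ht
  by_cases hxy : cj A₀ x = cj A₀ y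
  · rw [← hxy] at ht
    obtain ⟨r', hr', rfl⟩ := mem_cj.mp hr
    obtain ⟨t', ht', rfl⟩ := mem_cj.mp ht
    have := hAc r' hr'.1 t' ht'.1
    calc x * r' * x⁻¹ * (x * t' * x⁻¹) = x * (r' * t') * x⁻¹ := by group
      _ = x * (t' * r') * x⁻¹ := by rw [this]
      _ = x * t' * x⁻¹ * (x * r' * x⁻¹) := by group
  · exact rel_comm Q hQ2 Δ hle hinv hsq hord hti' _ ⟨x, rfl⟩ _ ⟨y, rfl⟩ hxy r hr t ht

end main

/-- Let X be a finite group whose generalized Fitting subgroup equals its largest normal 2-subgroup Q, and let A be an abelian 2-subgroup of X such that every conjugate of A equals A or meets A trivially. Let B be the subgroup generated by the squares of the elements of A. Then B lies in Q, and if B is not an elementary abelian 2-group then the normal closure of B in X is commutative. -/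
theorem result {X : Type*} [Group X] [Finite X]
    (hX : Cfsg.generalizedFittingSubgroup X = Cfsg.pCore 2 X) (A : Subgroup X) (hA2 : IsPGroup 2 ↥A) (hAa : IsMulCommutative ↥A)
    (hti : ∀ h : X, A.map (MulAut.conj h).toMonoidHom = A ∨ A.map (MulAut.conj h).toMonoidHom ⊓ A = ⊥) :
    Subgroup.closure ((fun a : X => a ^ 2) '' (A : Set X)) ≤ Cfsg.pCore 2 X ∧
      (¬ Cfsg.IsElementaryAbelian 2 (Subgroup.closure ((fun a : X => a ^ 2) '' (A : Set X))) →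
        IsMulCommutative ↥(Subgroup.normalClosure ((fun a : X => a ^ 2) '' (A : Set X)))) := by
  have hAc : ∀ a ∈ A, ∀ b ∈ A, a * b = b * a := by
    intro a ha b hb
    have := hAa.is_comm.comm (⟨a, ha⟩ : A) ⟨b, hb⟩
    exact congrArg Subtype.val this
  have h1 := sq_mem_pCore hX A hA2 hAc hti
  have hBQ : Subgroup.closure ((fun a : X => a ^ 2) '' (A : Set X)) ≤ Cfsg.pCore 2 X := by
    rw [Subgroup.closure_le]
    rintro _ ⟨a, ha, rfl⟩
    exact h1 a ha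
  have hBA : Subgroup.closure ((fun a : X => a ^ 2) '' (A : Set X)) ≤ A := by
    rw [Subgroup.closure_le]
    rintro _ ⟨a, ha, rfl⟩
    exact A.pow_mem ha 2
  refine ⟨hBQ, ?_⟩
  intro hne
  -- an element of `B` with nontrivial square
  have hex : ∃ b ∈ Subgroup.closure ((fun a : X => a ^ 2) '' (A : Set X)), b ^ 2 ≠ 1 := by
    by_contra hcon
    push Not at hcon
    apply hne
    refine ⟨⟨⟨?_⟩⟩, hcon⟩
    rintro ⟨a, ha⟩ ⟨b, hb⟩
    apply Subtype.ext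
    exact hAc a (hBA ha) b (hBA hb)
  obtain ⟨b, hb, hb2⟩ := hex
  have key := conj_comm A hAc hti b (hBA hb) (hBQ hb) (by rwa [pow_two] at hb2)
  have hk : ∀ x ∈ Group.conjugatesOfSet ((fun a : X => a ^ 2) '' (A : Set X)),
      ∀ y ∈ Group.conjugatesOfSet ((fun a : X => a ^ 2) '' (A : Set X)), x * y = y * x := by
    intro x hx y hy
    rw [Group.mem_conjugatesOfSet_iff] at hx hy
    obtain ⟨_, ⟨a, ha, rfl⟩, hax⟩ := hx
    obtain ⟨_, ⟨c, hc, rfl⟩, hcy⟩ := hy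
    obtain ⟨g, rfl⟩ := isConj_iff.mp hax
    obtain ⟨k, rfl⟩ := isConj_iff.mp hcy
    exact key g k _ (conj_mem_cj (Subgroup.mem_inf.mpr ⟨A.pow_mem ha 2, h1 a ha⟩) g) _
      (conj_mem_cj (Subgroup.mem_inf.mpr ⟨A.pow_mem hc 2, h1 c hc⟩) k)
  exact Subgroup.isMulCommutative_closure hk

end Cfsg.Agent.S1783
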