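import Cfsg.Statements.S1784
import Cfsg.Agent.S0012
import Cfsg.Agent.Lib.Helper21.GenFitting

set_option autoImplicit false
open Cfsg

namespace Cfsg.Agent.S1784

open scoped commutatorElement

variable {G : Type*} [Group G]

/-- Elementwise package: `Q` behaves like an extraspecial `2`-group with centre `{1, z}`. -/
structure ES (Q : Subgroup G) (z : G) : Prop where
  z_mem : z ∈ Q
  z_ne : z ≠ 1
  z_sq : z * z = 1
  z_comm : ∀ x ∈ Q, x * z = z * x
  comm_mem : ∀ x ∈ Q, ∀ y ∈ Q, ⁅x, y⁆ = 1 ∨ ⁅x, y⁆ = z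
  sq_mem : ∀ x ∈ Q, x * x = 1 ∨ x * x = z
  center : ∀ x ∈ Q, (∀ y ∈ Q, x * y = y * x) → x = 1 ∨ x = z

theorem comm_mul_left_aux {a b q : G} (h : a * ⁅b, q⁆ = ⁅b, q⁆ * a) :
    ⁅a * b, q⁆ = ⁅b, q⁆ * ⁅a, q⁆ := by
  have h1 : ⁅a * b, q⁆ = a * ⁅b, q⁆ * (q * a⁻¹ * q⁻¹) := by
    simp only [commutatorElement_def]; group
  rw [h1, h]; simp only [commutatorElement_def]; group

theorem comm_mul_right_aux {y a b : G} (h : a * ⁅y, b⁆ = ⁅y, b⁆ * a) :
    ⁅y, a * b⁆ = ⁅y, a⁆ * ⁅y, b⁆ := by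
  have h1 : ⁅y, a * b⁆ = y * a * y⁻¹ * ⁅y, b⁆ * a⁻¹ := by
    simp only [commutatorElement_def]; group
  have h2 : ⁅y, b⁆ * a⁻¹ = a⁻¹ * ⁅y, b⁆ := by
    have : a⁻¹ * (a * ⁅y, b⁆) * a⁻¹ = a⁻¹ * (⁅y, b⁆ * a) * a⁻¹ := by rw [h]
    simpa [mul_assoc] using this
  rw [h1, mul_assoc, h2]
  simp only [commutatorElement_def]; group

namespace ES

variable {Q : Subgroup G} {z : G} (h : ES Q z)
include h

theorem z_inv : z⁻¹ = z := inv_eq_of_mul_eq_one_left h.z_sq

theorem comm_in (x y : G) (hx : x ∈ Q) (hy : y ∈ Q) : ⁅x, y⁆ ∈ Q := by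
  rcases h.comm_mem x hx y hy with h1 | h1 <;> rw [h1]
  · exact Q.one_mem
  · exact h.z_mem

/-- commutators are central in `Q` -/
theorem comm_central (x y w : G) (hx : x ∈ Q) (hy : y ∈ Q) (hw : w ∈ Q) :
    w * ⁅x, y⁆ = ⁅x, y⁆ * w := by
  rcases h.comm_mem x hx y hy with h1 | h1 <;> rw [h1]
  · simp
  · exact h.z_comm w hw

theorem comm_sq (x y : G) (hx : x ∈ Q) (hy : y ∈ Q) : ⁅x, y⁆ * ⁅x, y⁆ = 1 := by
  rcases h.comm_mem x hx y hy with h1 | h1 <;> rw [h1]
  · simp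
  · exact h.z_sq

theorem comm_mul_left (a b q : G) (ha : a ∈ Q) (hb : b ∈ Q) (hq : q ∈ Q) :
    ⁅a * b, q⁆ = ⁅a, q⁆ * ⁅b, q⁆ := by
  rw [comm_mul_left_aux (h.comm_central b q a hb hq ha)]
  exact (h.comm_central a q _ ha hq (h.comm_in b q hb hq))

theorem comm_mul_right (y a b : G) (hy : y ∈ Q) (ha : a ∈ Q) (hb : b ∈ Q) :
    ⁅y, a * b⁆ = ⁅y, a⁆ * ⁅y, b⁆ :=
  comm_mul_right_aux (h.comm_central y b a hy hb ha)

theorem comm_inv_left (y q : G) (hy : y ∈ Q) (hq : q ∈ Q) : ⁅y⁻¹, q⁆ = ⁅y, q⁆ := by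
  have h1 := h.comm_mul_left y y⁻¹ q hy (Q.inv_mem hy) hq
  rw [mul_inv_cancel, commutatorElement_one_left] at h1
  have h2 := h.comm_sq y q hy hq
  -- ⁅y,q⁆ * ⁅y⁻¹,q⁆ = 1 and ⁅y,q⁆ * ⁅y,q⁆ = 1
  exact mul_left_cancel (a := ⁅y, q⁆) (by rw [← h1, h2])

theorem comm_inv_right (y q : G) (hy : y ∈ Q) (hq : q ∈ Q) : ⁅y, q⁻¹⁆ = ⁅y, q⁆ := by
  have h1 := h.comm_mul_right y q q⁻¹ hy hq (Q.inv_mem hq)
  rw [mul_inv_cancel, commutatorElement_one_right] at h1
  have h2 := h.comm_sq y q hy hq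
  exact mul_left_cancel (a := ⁅y, q⁆) (by rw [← h1, h2])


/-- the commutator map `x ↦ ⁅x, y⁆` as a homomorphism on a subgroup `A ≤ Q` -/
noncomputable def commHom (A : Subgroup G) (hA : A ≤ Q) (y : G) (hy : y ∈ Q) : ↥A →* G :=
  MonoidHom.mk' (fun x => ⁅(x : G), y⁆) (by
    intro a b
    simp only [Subgroup.coe_mul]
    exact h.comm_mul_left a b y (hA a.2) (hA b.2) hy)

theorem orderOf_z : orderOf z = 2 := by
  have : Fact (Nat.Prime 2) := ⟨Nat.prime_two⟩
  refine orderOf_eq_prime ?_ h.z_ne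
  rw [pow_two]; exact h.z_sq

theorem mem_zpowers_z (w : G) : w ∈ Subgroup.zpowers z ↔ w = 1 ∨ w = z := by
  constructor
  · rintro ⟨k, rfl⟩
    rcases Int.even_or_odd' k with ⟨m, rfl | rfl⟩
    · left
      show z ^ (2 * m) = 1
      rw [zpow_mul, zpow_two, h.z_sq, one_zpow]
    · right
      show z ^ (2 * m + 1) = z
      rw [zpow_add, zpow_mul, zpow_two, h.z_sq, one_zpow, one_mul, zpow_one]
  · rintro (rfl | rfl)
    · exact Subgroup.one_mem _
    · exact Subgroup.mem_zpowers _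

theorem card_le [Finite G] (A : Subgroup G) (hA : A ≤ Q) (y : G) (hy : y ∈ Q) :
    Nat.card A ≤ 2 * Nat.card ↥(A ⊓ Subgroup.centralizer ({y} : Set G)) := by
  set f := h.commHom A hA y hy with hf
  have hfx : ∀ a : A, f a = ⁅(a : G), y⁆ := fun a => rfl
  have hker : f.ker.map A.subtype = A ⊓ Subgroup.centralizer ({y} : Set G) := by
    ext x
    constructor
    · rintro ⟨a, ha, rfl⟩
      rw [SetLike.mem_coe, MonoidHom.mem_ker, hfx, commutatorElement_eq_one_iff_mul_comm] at ha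
      refine Subgroup.mem_inf.mpr ⟨a.2, Subgroup.mem_centralizer_iff.mpr ?_⟩
      intro g hg
      rw [Set.mem_singleton_iff] at hg
      rw [hg]; exact ha.symm
    · intro hx
      obtain ⟨hxA, hxC⟩ := Subgroup.mem_inf.mp hx
      refine ⟨⟨x, hxA⟩, ?_, rfl⟩
      rw [SetLike.mem_coe, MonoidHom.mem_ker, hfx, commutatorElement_eq_one_iff_mul_comm]
      exact ((Subgroup.mem_centralizer_iff.mp hxC) y rfl).symm
  have hrange : f.range ≤ Subgroup.zpowers z := by
    rintro _ ⟨a, rfl⟩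
    rw [hfx, h.mem_zpowers_z]
    exact h.comm_mem _ (hA a.2) y hy
  have hcard : Nat.card A = Nat.card f.ker * Nat.card f.range := by
    rw [← Subgroup.index_ker, Subgroup.card_mul_index]
  have h2 : Nat.card f.range ≤ 2 := by
    have := Subgroup.card_le_of_le hrange
    rwa [Nat.card_zpowers, h.orderOf_z] at this
  have h3 : Nat.card ↥(A ⊓ Subgroup.centralizer ({y} : Set G)) = Nat.card f.ker := by
    rw [← hker]
    exact Subgroup.card_map_of_injective A.subtype_injective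
  rw [hcard, h3, mul_comm]
  exact Nat.mul_le_mul_right _ h2

theorem mono [Finite G] (W W' : Subgroup G) (hWW' : W ≤ W') (hW' : W' ≤ Q) :
    Nat.card ↥(Q ⊓ Subgroup.centralizer (W : Set G)) * Nat.card W ≤
      Nat.card ↥(Q ⊓ Subgroup.centralizer (W' : Set G)) * Nat.card W' := by
  induction' hn : Nat.card W' - Nat.card W using Nat.strong_induction_on with n ih generalizing W
  by_cases hEq : W = W'
  · subst hEq; exact le_rfl
  · have hlt : W < W' := lt_of_le_of_ne hWW' hEq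
    obtain ⟨y, hyW', hyW⟩ := SetLike.exists_of_lt hlt
    have hWW₁ : W ≤ W ⊔ Subgroup.zpowers y := le_sup_left
    have hyW₁ : y ∈ W ⊔ Subgroup.zpowers y :=
      (le_sup_right : Subgroup.zpowers y ≤ W ⊔ Subgroup.zpowers y) (Subgroup.mem_zpowers y)
    have hW₁W' : W ⊔ Subgroup.zpowers y ≤ W' := sup_le hWW' (Subgroup.zpowers_le.mpr hyW')
    have hne : W ≠ W ⊔ Subgroup.zpowers y := fun he => hyW (he ▸ hyW₁)
    have hlt' : Nat.card W < Nat.card ↥(W ⊔ Subgroup.zpowers y) := by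
      by_contra hcon
      exact hne (Subgroup.eq_of_le_of_card_ge hWW₁ (not_lt.mp hcon))
    have hle' : Nat.card ↥(W ⊔ Subgroup.zpowers y) ≤ Nat.card W' := Subgroup.card_le_of_le hW₁W'
    have hcard : 2 * Nat.card W ≤ Nat.card ↥(W ⊔ Subgroup.zpowers y) := by
      obtain ⟨k, hk⟩ := Subgroup.card_dvd_of_le hWW₁
      have hpos : 0 < Nat.card W := Nat.card_pos
      rw [hk] at hlt' ⊢
      have hk2 : 2 ≤ k := by
        by_contra hk2
        have : k = 0 ∨ k = 1 := by omega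
        rcases this with rfl | rfl
        · simp at hlt'
        · simp at hlt'
      rw [mul_comm]
      exact Nat.mul_le_mul_left _ hk2
    have hcent : (Q ⊓ Subgroup.centralizer (W : Set G)) ⊓ Subgroup.centralizer ({y} : Set G) ≤
        Q ⊓ Subgroup.centralizer ((W ⊔ Subgroup.zpowers y : Subgroup G) : Set G) := by
      intro g hg
      obtain ⟨hg1, hgy⟩ := Subgroup.mem_inf.mp hg
      obtain ⟨hgQ, hgW⟩ := Subgroup.mem_inf.mp hg1
      refine Subgroup.mem_inf.mpr ⟨hgQ, Subgroup.mem_centralizer_iff.mpr ?_⟩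
      have hsup : W ⊔ Subgroup.zpowers y ≤ Subgroup.centralizer ({g} : Set G) := by
        refine sup_le ?_ (Subgroup.zpowers_le.mpr ?_)
        · intro w hw
          refine Subgroup.mem_centralizer_iff.mpr ?_
          intro g' hg'
          rw [Set.mem_singleton_iff] at hg'
          rw [hg']
          exact ((Subgroup.mem_centralizer_iff.mp hgW) w hw).symm
        · refine Subgroup.mem_centralizer_iff.mpr ?_
          intro g' hg'
          rw [Set.mem_singleton_iff] at hg'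
          rw [hg']
          exact ((Subgroup.mem_centralizer_iff.mp hgy) y rfl).symm
      intro w hw
      exact ((Subgroup.mem_centralizer_iff.mp (hsup hw)) g rfl).symm
    have h1 := h.card_le (Q ⊓ Subgroup.centralizer (W : Set G)) inf_le_left y (hW' hyW')
    have h2 := Subgroup.card_le_of_le hcent
    have h3 := ih (Nat.card W' - Nat.card ↥(W ⊔ Subgroup.zpowers y)) (by omega)
      (W ⊔ Subgroup.zpowers y) hW₁W' rfl
    calc Nat.card ↥(Q ⊓ Subgroup.centralizer (W : Set G)) * Nat.card W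
        ≤ (2 * Nat.card ↥((Q ⊓ Subgroup.centralizer (W : Set G)) ⊓
            Subgroup.centralizer ({y} : Set G))) * Nat.card W := Nat.mul_le_mul_right _ h1
      _ = Nat.card ↥((Q ⊓ Subgroup.centralizer (W : Set G)) ⊓
            Subgroup.centralizer ({y} : Set G)) * (2 * Nat.card W) := by ring
      _ ≤ Nat.card ↥(Q ⊓ Subgroup.centralizer ((W ⊔ Subgroup.zpowers y : Subgroup G) : Set G)) *
            Nat.card ↥(W ⊔ Subgroup.zpowers y) := Nat.mul_le_mul h2 hcard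
      _ ≤ _ := h3

/-- duality: for `⟨z⟩ ≤ W ≤ Q`, `|C_Q(W)| * |W| = 2 * |Q|` -/
theorem dual [Finite G] (W : Subgroup G) (hzW : z ∈ W) (hW : W ≤ Q) :
    Nat.card ↥(Q ⊓ Subgroup.centralizer (W : Set G)) * Nat.card W = 2 * Nat.card Q := by
  have h1 := h.mono (Subgroup.zpowers z) W (Subgroup.zpowers_le.mpr hzW) hW
  have h2 := h.mono W Q hW le_rfl
  have e1 : Q ⊓ Subgroup.centralizer ((Subgroup.zpowers z : Subgroup G) : Set G) = Q := by
    refine inf_eq_left.mpr ?_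
    intro x hx
    refine Subgroup.mem_centralizer_iff.mpr ?_
    intro w hw
    rcases (h.mem_zpowers_z w).mp hw with rfl | rfl
    · simp
    · exact (h.z_comm x hx).symm
  have e2 : Q ⊓ Subgroup.centralizer ((Q : Subgroup G) : Set G) ≤ Subgroup.zpowers z := by
    intro x hx
    obtain ⟨hxQ, hxC⟩ := Subgroup.mem_inf.mp hx
    rw [h.mem_zpowers_z]
    refine h.center x hxQ ?_
    intro y hy
    exact ((Subgroup.mem_centralizer_iff.mp hxC) y hy).symm
  have e3 : Nat.card ↥(Q ⊓ Subgroup.centralizer ((Q : Subgroup G) : Set G)) ≤ 2 := by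
    have := Subgroup.card_le_of_le e2
    rwa [Nat.card_zpowers, h.orderOf_z] at this
  rw [e1, Nat.card_zpowers, h.orderOf_z] at h1
  have h4 : Nat.card ↥(Q ⊓ Subgroup.centralizer ((Q : Subgroup G) : Set G)) * Nat.card Q ≤
      2 * Nat.card Q := Nat.mul_le_mul_right _ e3
  omega

end ES


section Alpha

variable {Q : Subgroup G} {z : G}

theorem core [Finite G] (h : ES Q z) (α : G) (hαz : α * z = z * α) (hα2 : α * α = 1)
    (hαQ : ∀ q ∈ Q, α * q * α⁻¹ ∈ Q) (hαnc : ∃ q ∈ Q, ⁅α, q⁆ ≠ 1)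
    (Q₀ : Subgroup G) (hQ₀ : ∀ q, q ∈ Q₀ ↔ q ∈ Q ∧ ⁅α, q⁆ ∈ Subgroup.zpowers z) :
    Subgroup.closure ((fun q => ⁅α, q⁆) '' (Q : Set G)) =
      (Subgroup.center ↥Q₀).map Q₀.subtype := by
  have hαinv : α⁻¹ = α := inv_eq_of_mul_eq_one_left hα2
  have hc : ∀ q, ⁅α, q⁆ = (α * q * α⁻¹) * q⁻¹ := fun q => commutatorElement_def α q
  have hcQ : ∀ q ∈ Q, ⁅α, q⁆ ∈ Q := fun q hq => by
    rw [hc]; exact Q.mul_mem (hαQ q hq) (Q.inv_mem hq)
  -- conjugation by α fixes commutators of Q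
  have A1 : ∀ x ∈ Q, ∀ y ∈ Q, α * ⁅x, y⁆ * α⁻¹ = ⁅x, y⁆ := by
    intro x hx y hy
    rcases h.comm_mem x hx y hy with h1 | h1 <;> rw [h1]
    · simp
    · rw [hαz, mul_assoc, mul_inv_cancel, mul_one]
  have A2 : ∀ x ∈ Q, ∀ y ∈ Q, ⁅α * x * α⁻¹, α * y * α⁻¹⁆ = ⁅x, y⁆ := by
    intro x hx y hy
    rw [← conjugate_commutatorElement, A1 x hx y hy]
  have hαα : ∀ q, α * (α * q * α⁻¹) * α⁻¹ = q := by
    intro q
    have : α * (α * q * α⁻¹) * α⁻¹ = (α * α) * q * (α * α)⁻¹ := by group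
    rw [this, hα2]; simp
  -- the key identity
  have F2 : ∀ y ∈ Q, ∀ q ∈ Q, ⁅y, ⁅α, q⁆⁆ = ⁅⁅α, y⁆, q⁆ := by
    intro y hy q hq
    rw [hc q, hc y, h.comm_mul_right y _ _ hy (hαQ q hq) (Q.inv_mem hq),
      h.comm_mul_left _ _ q (hαQ y hy) (Q.inv_mem hy) hq, h.comm_inv_right y q hy hq,
      h.comm_inv_left y q hy hq]
    congr 1
    have := A2 y hy (α * q * α⁻¹) (hαQ q hq)
    rw [hαα q] at this
    exact this.symm
  -- elements of Q₀ centralize all commutators ⁅α, q⁆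
  have F3a : ∀ y ∈ Q₀, ∀ q ∈ Q, y * ⁅α, q⁆ = ⁅α, q⁆ * y := by
    intro y hy q hq
    obtain ⟨hyQ, hyz⟩ := (hQ₀ y).mp hy
    rw [← commutatorElement_eq_one_iff_mul_comm, F2 y hyQ q hq,
      commutatorElement_eq_one_iff_mul_comm]
    rcases (h.mem_zpowers_z _).mp hyz with h1 | h1 <;> rw [h1]
    · simp
    · exact (h.z_comm q hq).symm
  have F3b : ∀ y ∈ Q, (∀ q ∈ Q, y * ⁅α, q⁆ = ⁅α, q⁆ * y) → y ∈ Q₀ := by
    intro y hy hall
    refine (hQ₀ y).mpr ⟨hy, ?_⟩
    rw [h.mem_zpowers_z]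
    refine h.center _ (hcQ y hy) ?_
    intro q hq
    rw [← commutatorElement_eq_one_iff_mul_comm, ← F2 y hy q hq,
      commutatorElement_eq_one_iff_mul_comm]
    exact hall q hq
  -- the commutators lie in Q₀
  have F4 : ∀ q ∈ Q, ⁅α, q⁆ ∈ Q₀ := by
    intro q hq
    refine (hQ₀ _).mpr ⟨hcQ q hq, ?_⟩
    have e1 : ⁅α, ⁅α, q⁆⁆ = (q * (α * q * α⁻¹)⁻¹) * (q * (α * q * α⁻¹)⁻¹) := by
      rw [hc q]
      have : ⁅α, α * q * α⁻¹ * q⁻¹⁆ =
          (α * (α * q * α⁻¹) * α⁻¹) * (α * q * α⁻¹)⁻¹ * q * (α * q * α⁻¹)⁻¹ := by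
        simp only [commutatorElement_def]; group
      rw [this, hαα q]; group
    rw [e1, h.mem_zpowers_z]
    exact h.sq_mem _ (Q.mul_mem hq (Q.inv_mem (hαQ q hq)))
  set D := Subgroup.closure ((fun q => ⁅α, q⁆) '' (Q : Set G)) with hD
  have hgen : ∀ q ∈ Q, ⁅α, q⁆ ∈ D := fun q hq => Subgroup.subset_closure ⟨q, hq, rfl⟩
  have hDQ₀ : D ≤ Q₀ := by
    rw [hD, Subgroup.closure_le]
    rintro _ ⟨q, hq, rfl⟩
    exact F4 q hq
  have hQ₀Q : Q₀ ≤ Q := fun q hq => ((hQ₀ q).mp hq).1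
  have hDQ : D ≤ Q := hDQ₀.trans hQ₀Q
  -- Q₀ = C_Q(D)
  have hQ₀eq : Q ⊓ Subgroup.centralizer (D : Set G) = Q₀ := by
    ext y
    constructor
    · intro hy
      obtain ⟨hyQ, hyC⟩ := Subgroup.mem_inf.mp hy
      refine F3b y hyQ ?_
      intro q hq
      exact ((Subgroup.mem_centralizer_iff.mp hyC) _ (hgen q hq)).symm
    · intro hy
      refine Subgroup.mem_inf.mpr ⟨hQ₀Q hy, ?_⟩
      have hle : D ≤ Subgroup.centralizer ({y} : Set G) := by
        rw [hD, Subgroup.closure_le]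
        rintro _ ⟨q, hq, rfl⟩
        refine Subgroup.mem_centralizer_iff.mpr ?_
        intro g hg
        rw [Set.mem_singleton_iff] at hg
        rw [hg]; exact F3a y hy q hq
      refine Subgroup.mem_centralizer_iff.mpr ?_
      intro d hd
      exact ((Subgroup.mem_centralizer_iff.mp (hle hd)) y rfl).symm
  -- z ∈ D
  have hzD : z ∈ D := by
    obtain ⟨q₀, hq₀, hne⟩ := hαnc
    by_cases hcen : ∀ y ∈ Q, ⁅α, q₀⁆ * y = y * ⁅α, q₀⁆
    · rcases h.center _ (hcQ q₀ hq₀) hcen with h1 | h1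
      · exact absurd h1 hne
      · rw [← h1]; exact hgen q₀ hq₀
    · push Not at hcen
      obtain ⟨x, hx, hxne⟩ := hcen
      have hconj : x * ⁅α, q₀⁆ * x⁻¹ = ⁅α, x⁆⁻¹ * ⁅α, x * q₀⁆ := by
        simp only [commutatorElement_def]; group
      have hmem : ⁅x, ⁅α, q₀⁆⁆ ∈ D := by
        have : ⁅x, ⁅α, q₀⁆⁆ = (x * ⁅α, q₀⁆ * x⁻¹) * ⁅α, q₀⁆⁻¹ := commutatorElement_def _ _
        rw [this, hconj]
        exact D.mul_mem (D.mul_mem (D.inv_mem (hgen x hx)) (hgen _ (Q.mul_mem hx hq₀)))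
          (D.inv_mem (hgen q₀ hq₀))
      rcases h.comm_mem x hx _ (hcQ q₀ hq₀) with h1 | h1
      · rw [commutatorElement_eq_one_iff_mul_comm] at h1
        exact absurd h1.symm hxne
      · rwa [h1] at hmem
  -- counting
  have hzQ₀ : z ∈ Q₀ := hDQ₀ hzD
  have d1 := h.dual D hzD hDQ
  have d2 := h.dual Q₀ hzQ₀ hQ₀Q
  rw [hQ₀eq] at d1
  have hDle : D ≤ Q ⊓ Subgroup.centralizer (Q₀ : Set G) := by
    intro d hd
    refine Subgroup.mem_inf.mpr ⟨hDQ hd, Subgroup.mem_centralizer_iff.mpr ?_⟩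
    intro y hy
    have : y ∈ Q ⊓ Subgroup.centralizer (D : Set G) := hQ₀eq ▸ hy
    exact ((Subgroup.mem_centralizer_iff.mp (Subgroup.mem_inf.mp this).2) d hd).symm
  have hcardeq : Nat.card ↥(Q ⊓ Subgroup.centralizer (Q₀ : Set G)) = Nat.card D := by
    have hpos : 0 < Nat.card Q₀ := Nat.card_pos
    have : Nat.card ↥(Q ⊓ Subgroup.centralizer (Q₀ : Set G)) * Nat.card Q₀ =
        Nat.card D * Nat.card Q₀ := by rw [d2, ← d1, mul_comm]
    exact Nat.eq_of_mul_eq_mul_right hpos this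
  have hDeq : D = Q ⊓ Subgroup.centralizer (Q₀ : Set G) :=
    Subgroup.eq_of_le_of_card_ge hDle hcardeq.le
  -- conclusion
  apply le_antisymm
  · intro d hd
    refine ⟨⟨d, hDQ₀ hd⟩, ?_, rfl⟩
    rw [SetLike.mem_coe, Subgroup.mem_center_iff]
    intro g
    have := (Subgroup.mem_centralizer_iff.mp (Subgroup.mem_inf.mp (hDle hd)).2) g g.2
    exact Subtype.ext this
  · rintro _ ⟨x, hx, rfl⟩
    rw [SetLike.mem_coe, Subgroup.mem_center_iff] at hx
    rw [hDeq]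
    refine Subgroup.mem_inf.mpr ⟨hQ₀Q x.2, Subgroup.mem_centralizer_iff.mpr ?_⟩
    intro y hy
    have := hx ⟨y, hy⟩
    exact congrArg Subtype.val this

end Alpha


section Transport

variable {G : Type*} [Group G] [Finite G]

theorem isNilpotent_center (H : Type*) [Group H] : Group.IsNilpotent ↥(Subgroup.center H) := by
  refine ⟨1, ?_⟩
  rw [Subgroup.upperCentralSeries_one_eq_top_iff]
  infer_instance

theorem es_of_hyps (z : G) (hz : orderOf z = 2)
    (hE : Cfsg.IsExtraspecial 2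
      ↥(Cfsg.generalizedFittingSubgroup ↥(Subgroup.centralizer ({z} : Set G)))) :
    ES ((Cfsg.generalizedFittingSubgroup ↥(Subgroup.centralizer ({z} : Set G))).map
      (Subgroup.centralizer ({z} : Set G)).subtype) z := by
  have : Fact (Nat.Prime 2) := ⟨Nat.prime_two⟩
  set C := Subgroup.centralizer ({z} : Set G) with hC
  set Q' := Cfsg.generalizedFittingSubgroup ↥C with hQ'
  obtain ⟨⟨hP, hfrat, hcomm⟩, hcard⟩ := hE
  have hzsq : z * z = 1 := by
    rw [← pow_two, ← hz]; exact pow_orderOf_eq_one z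
  have hzne : z ≠ 1 := by
    intro h1; rw [h1, orderOf_one] at hz; omega
  have hCz : ∀ g : ↥C, (g : G) * z = z * (g : G) := fun g =>
    ((Subgroup.mem_centralizer_iff.mp g.2) z rfl).symm
  have hzC : z ∈ C := Subgroup.mem_centralizer_iff.mpr (by
    intro g hg; rw [Set.mem_singleton_iff] at hg; rw [hg])
  have hz'cen : (⟨z, hzC⟩ : ↥C) ∈ Subgroup.center ↥C := by
    rw [Subgroup.mem_center_iff]
    intro g
    exact Subtype.ext (hCz g)
  have hcenle : Subgroup.center ↥C ≤ Q' :=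
    (Cfsg.Agent.Lib.Helper21.le_fittingSubgroup_of_normal_nilpotent inferInstance
      (isNilpotent_center ↥C)).trans le_sup_right
  have hz'Q' : (⟨z, hzC⟩ : ↥C) ∈ Q' := hcenle hz'cen
  have hz''cen : (⟨⟨z, hzC⟩, hz'Q'⟩ : ↥Q') ∈ Subgroup.center ↥Q' := by
    rw [Subgroup.mem_center_iff]
    intro g
    exact Subtype.ext (Subtype.ext (hCz g.1))
  -- the centre of Q' is {1, z''}
  have hcen2 : ∀ w ∈ Subgroup.center ↥Q', w = 1 ∨ w = ⟨⟨z, hzC⟩, hz'Q'⟩ := by
    intro w hw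
    obtain ⟨y, hy, huniq⟩ := (Nat.card_eq_two_iff' (1 : ↥(Subgroup.center ↥Q'))).mp hcard
    by_cases hw1 : w = 1
    · exact Or.inl hw1
    · right
      have e1 : (⟨w, hw⟩ : ↥(Subgroup.center ↥Q')) = y := huniq _ (by
        intro hh; exact hw1 (congrArg Subtype.val hh))
      have e2 : (⟨⟨⟨z, hzC⟩, hz'Q'⟩, hz''cen⟩ : ↥(Subgroup.center ↥Q')) = y := huniq _ (by
        intro hh
        exact hzne (congrArg (fun t : ↥(Subgroup.center ↥Q') => (((t : ↥Q') : ↥C) : G)) hh))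
      exact congrArg Subtype.val (e1.trans e2.symm)
  have hcen2' : ∀ w ∈ Subgroup.center ↥Q', (((w : ↥Q') : ↥C) : G) = 1 ∨ (((w : ↥Q') : ↥C) : G) = z := by
    intro w hw
    rcases hcen2 w hw with h1 | h1 <;> rw [h1]
    · left; rfl
    · right; rfl
  refine ⟨⟨⟨z, hzC⟩, hz'Q', rfl⟩, hzne, hzsq, ?_, ?_, ?_, ?_⟩
  · rintro _ ⟨x', -, rfl⟩
    exact hCz x'
  · rintro _ ⟨x', hx', rfl⟩ _ ⟨y', hy', rfl⟩
    have hmem : ⁅(⟨x', hx'⟩ : ↥Q'), (⟨y', hy'⟩ : ↥Q')⁆ ∈ Subgroup.center ↥Q' := by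
      rw [← hcomm, commutator_def]
      exact Subgroup.commutator_mem_commutator (Subgroup.mem_top _) (Subgroup.mem_top _)
    exact hcen2' _ hmem
  · rintro _ ⟨x', hx', rfl⟩
    have hmem : (⟨x', hx'⟩ : ↥Q') ^ 2 ∈ Subgroup.center ↥Q' := by
      rw [← hfrat]
      exact (Cfsg.Agent.S0012.result 2 hP).2 _
    have := hcen2' _ hmem
    rw [pow_two] at this
    exact this
  · rintro _ ⟨x', hx', rfl⟩ hall
    have hmem : (⟨x', hx'⟩ : ↥Q') ∈ Subgroup.center ↥Q' := by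
      rw [Subgroup.mem_center_iff]
      intro g
      refine Subtype.ext (Subtype.ext ?_)
      exact (hall _ ⟨g.1, g.2, rfl⟩).symm
    exact hcen2' _ hmem

end Transport


/-- Let G be a finite group and let z be an involution of G such that Q, the generalized Fitting subgroup of the centralizer C of z, is a 2-group of symplectic type (every characteristic abelian subgroup of Q is cyclic); suppose Q is extraspecial, and view Q inside G. Let α be an involution of C that is not in Q, and let Q₀ be the subgroup of those q ∈ Q whose commutator with α lies in the subgroup generated by z. Then (a) the subgroup generated by the commutators α q α⁻¹ q⁻¹, q ∈ Q, equals the centre of Q₀; and (b) if Q₀ is not contained in the product of the centralizer of α in Q with the subgroup generated by z, then some element of Q conjugates α to α z. -/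
theorem result {G : Type*} [Group G] [Finite G] (z : G) (hz : orderOf z = 2) (hQ : Cfsg.IsOfSymplecticType ↥(Cfsg.generalizedFittingSubgroup ↥(Subgroup.centralizer ({z} : Set G)))) (hE : Cfsg.IsExtraspecial 2 ↥(Cfsg.generalizedFittingSubgroup ↥(Subgroup.centralizer ({z} : Set G))))
    (α : G) (hα : orderOf α = 2) (hαC : α ∈ Subgroup.centralizer ({z} : Set G)) (hαQ : α ∉ (Cfsg.generalizedFittingSubgroup ↥(Subgroup.centralizer ({z} : Set G))).map (Subgroup.centralizer ({z} : Set G)).subtype)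
    (Q₀ : Subgroup G) (hQ₀ : ∀ q : G, q ∈ Q₀ ↔ (q ∈ (Cfsg.generalizedFittingSubgroup ↥(Subgroup.centralizer ({z} : Set G))).map (Subgroup.centralizer ({z} : Set G)).subtype ∧ α * q * α⁻¹ * q⁻¹ ∈ Subgroup.zpowers z)) :
    Subgroup.closure ((fun q : G => α * q * α⁻¹ * q⁻¹) '' ((Cfsg.generalizedFittingSubgroup ↥(Subgroup.centralizer ({z} : Set G))).map (Subgroup.centralizer ({z} : Set G)).subtype : Set G)) = (Subgroup.center ↥Q₀).map Q₀.subtype ∧
      (¬ Q₀ ≤ ((Cfsg.generalizedFittingSubgroup ↥(Subgroup.centralizer ({z} : Set G))).map (Subgroup.centralizer ({z} : Set G)).subtype ⊓ Subgroup.centralizer ({α} : Set G)) ⊔ Subgroup.zpowers z →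
        ∃ q ∈ (Cfsg.generalizedFittingSubgroup ↥(Subgroup.centralizer ({z} : Set G))).map (Subgroup.centralizer ({z} : Set G)).subtype, q * α * q⁻¹ = α * z) := by
  have hES := es_of_hyps z hz hE
  have hα2 : α * α = 1 := by
    rw [← pow_two, ← hα]; exact pow_orderOf_eq_one α
  have hαz : α * z = z * α := ((Subgroup.mem_centralizer_iff.mp hαC) z rfl).symm
  have hnorm := Cfsg.Agent.Lib.Helper29.generalizedFittingSubgroup_normal
    ↥(Subgroup.centralizer ({z} : Set G))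
  have hαconj : ∀ q ∈ (Cfsg.generalizedFittingSubgroup ↥(Subgroup.centralizer ({z} : Set G))).map
      (Subgroup.centralizer ({z} : Set G)).subtype, α * q * α⁻¹ ∈
      (Cfsg.generalizedFittingSubgroup ↥(Subgroup.centralizer ({z} : Set G))).map
      (Subgroup.centralizer ({z} : Set G)).subtype := by
    rintro _ ⟨q', hq', rfl⟩
    exact ⟨⟨α, hαC⟩ * q' * ⟨α, hαC⟩⁻¹, hnorm.conj_mem q' hq' ⟨α, hαC⟩, rfl⟩
  have hαnc : ∃ q ∈ (Cfsg.generalizedFittingSubgroup ↥(Subgroup.centralizer ({z} : Set G))).map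
      (Subgroup.centralizer ({z} : Set G)).subtype, ⁅α, q⁆ ≠ 1 := by
    by_contra hcon
    push Not at hcon
    apply hαQ
    have hmem : (⟨α, hαC⟩ : ↥(Subgroup.centralizer ({z} : Set G))) ∈
        Subgroup.centralizer ((Cfsg.generalizedFittingSubgroup
          ↥(Subgroup.centralizer ({z} : Set G)) : Subgroup _) : Set _) := by
      refine Subgroup.mem_centralizer_iff.mpr ?_
      intro g hg
      have := hcon g ⟨g, hg, rfl⟩
      rw [commutatorElement_eq_one_iff_mul_comm] at this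
      exact Subtype.ext this.symm
    exact ⟨⟨α, hαC⟩,
      Cfsg.Agent.Lib.Helper21.centralizer_generalizedFittingSubgroup_le hmem, rfl⟩
  refine ⟨core hES α hαz hα2 hαconj hαnc Q₀ hQ₀, ?_⟩
  intro hnot
  obtain ⟨x, hxQ₀, hxn⟩ := SetLike.not_le_iff_exists.mp hnot
  obtain ⟨hxQ, hxz⟩ := (hQ₀ x).mp hxQ₀
  refine ⟨x, hxQ, ?_⟩
  rcases (hES.mem_zpowers_z _).mp hxz with h1 | h1
  · exfalso
    apply hxn
    refine (le_sup_left : _ ≤ _ ⊔ Subgroup.zpowers z) (Subgroup.mem_inf.mpr ⟨hxQ, ?_⟩)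
    refine Subgroup.mem_centralizer_iff.mpr ?_
    intro g hg
    rw [Set.mem_singleton_iff] at hg
    rw [hg]
    have : ⁅α, x⁆ = 1 := h1
    exact commutatorElement_eq_one_iff_mul_comm.mp this
  · have hzinv : z⁻¹ = z := hES.z_inv
    have e1 : x * α * x⁻¹ = (α * x * α⁻¹ * x⁻¹)⁻¹ * α := by group
    rw [e1, h1, hzinv, hαz]

end Cfsg.Agent.S1784
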