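import Cfsg.Statements.S1785
-- import your own Cfsg.Agent.* helpers here

import Mathlib

set_option autoImplicit false
open Cfsg

namespace Cfsg.Agent.S1785

variable {X : Type*} [Group X]

/-- `L1`: an involution `v` normalizing an elementary abelian 2-group `W` centralizes a subgroup
of order at least the square root of `|W|`. -/
theorem L1 [Finite X] (W : Subgroup X) (hWc : ∀ x ∈ W, ∀ y ∈ W, x * y = y * x)
    (hW2 : ∀ x ∈ W, x * x = 1) (v : X) (hv2 : v * v = 1) (hvW : ∀ x ∈ W, v * x * v⁻¹ ∈ W) :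
    Nat.card ↥W ≤ Nat.card ↥(W ⊓ Subgroup.centralizer ({v} : Set X)) ^ 2 := by
  classical
  have hvinv : v⁻¹ = v := inv_eq_of_mul_eq_one_left hv2
  let δ : ↥W →* ↥W :=
    { toFun := fun w => ⟨w * (v * w * v⁻¹), W.mul_mem w.2 (hvW w w.2)⟩
      map_one' := by apply Subtype.ext; simp
      map_mul' := by
        intro a b
        apply Subtype.ext
        simp only [Subgroup.coe_mul]
        have h1 : (b : X) * (v * a * v⁻¹) = (v * a * v⁻¹) * b := hWc _ b.2 _ (hvW a a.2)
        calc (a : X) * b * (v * (a * b) * v⁻¹) = a * (b * (v * a * v⁻¹)) * (v * b * v⁻¹) := by group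
          _ = a * ((v * a * v⁻¹) * b) * (v * b * v⁻¹) := by rw [h1]
          _ = a * (v * a * v⁻¹) * (b * (v * b * v⁻¹)) := by group }
  have hδ : ∀ w : ↥W, ((δ w : ↥W) : X) = w * (v * w * v⁻¹) := fun w => rfl
  have hker : Nat.card ↥δ.ker ≤ Nat.card ↥(W ⊓ Subgroup.centralizer ({v} : Set X)) := by
    have hle : δ.ker.map W.subtype ≤ W ⊓ Subgroup.centralizer ({v} : Set X) := by
      rintro x ⟨w, hw, rfl⟩
      refine ⟨w.2, Subgroup.mem_centralizer_singleton_iff.mpr ?_⟩
      have h1 : (w : X) * (v * w * v⁻¹) = 1 := by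
        have := congrArg Subtype.val (MonoidHom.mem_ker.mp hw)
        simpa [hδ] using this
      have h2 : v * w * v⁻¹ = (w : X) := by
        have h3 : v * w * v⁻¹ = (w : X)⁻¹ := eq_inv_of_mul_eq_one_right h1
        rw [h3]
        exact inv_eq_of_mul_eq_one_left (hW2 w w.2)
      change (w : X) * v = v * w
      calc (w : X) * v = (v * w * v⁻¹) * v := by rw [h2]
        _ = v * w := by group
    calc Nat.card ↥δ.ker = Nat.card ↥(δ.ker.map W.subtype) :=
          (Subgroup.card_map_of_injective W.subtype_injective).symm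
      _ ≤ _ := Subgroup.card_le_of_le hle
  have hrange : Nat.card ↥δ.range ≤ Nat.card ↥(W ⊓ Subgroup.centralizer ({v} : Set X)) := by
    have hle : δ.range.map W.subtype ≤ W ⊓ Subgroup.centralizer ({v} : Set X) := by
      rintro x ⟨y, ⟨w, rfl⟩, rfl⟩
      refine ⟨(δ w).2, Subgroup.mem_centralizer_singleton_iff.mpr ?_⟩
      change ((δ w : ↥W) : X) * v = v * (δ w : ↥W)
      rw [hδ]
      have h1 : (w : X) * (v * w * v⁻¹) = (v * w * v⁻¹) * w := hWc _ w.2 _ (hvW w w.2)
      calc (w : X) * (v * w * v⁻¹) * v = (v * w * v⁻¹) * w * v := by rw [h1]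
        _ = v * (w * (v⁻¹ * w * v)) := by group
        _ = v * (w * (v * w * v⁻¹)) := by rw [hvinv]
    calc Nat.card ↥δ.range = Nat.card ↥(δ.range.map W.subtype) :=
          (Subgroup.card_map_of_injective W.subtype_injective).symm
      _ ≤ _ := Subgroup.card_le_of_le hle
  calc Nat.card ↥W = Nat.card ↥δ.ker * δ.ker.index := (Subgroup.card_mul_index δ.ker).symm
    _ = Nat.card ↥δ.ker * Nat.card ↥δ.range := by rw [Subgroup.index_ker]
    _ ≤ _ := by rw [pow_two]; exact Nat.mul_le_mul hker hrange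

/-- Adjoin a commuting involution to a subgroup. -/
def adjoin (B : Subgroup X) (e : X) (he2 : e * e = 1) (heB : ∀ x ∈ B, x * e = e * x) :
    Subgroup X where
  carrier := {x | ∃ b ∈ B, b = x ∨ b * e = x}
  one_mem' := ⟨1, B.one_mem, Or.inl rfl⟩
  mul_mem' := by
    rintro x y ⟨b, hb, hx⟩ ⟨c, hc, hy⟩
    refine ⟨b * c, B.mul_mem hb hc, ?_⟩
    have hce := heB c hc
    rcases hx with rfl | rfl <;> rcases hy with rfl | rfl
    · left; rfl
    · right; group
    · right
      calc b * c * e = b * (c * e) := by group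
        _ = b * (e * c) := by rw [hce]
        _ = b * e * c := by group
    · left
      calc b * c = b * c * (e * e) := by rw [he2, mul_one]
        _ = b * (c * e) * e := by group
        _ = b * (e * c) * e := by rw [hce]
        _ = b * e * (c * e) := by group
  inv_mem' := by
    rintro x ⟨b, hb, hx⟩
    refine ⟨b⁻¹, B.inv_mem hb, ?_⟩
    have heinv : e⁻¹ = e := inv_eq_of_mul_eq_one_left he2
    have hbe := heB b⁻¹ (B.inv_mem hb)
    rcases hx with rfl | rfl
    · left; rfl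
    · right
      calc b⁻¹ * e = e * b⁻¹ := hbe
        _ = e⁻¹ * b⁻¹ := by rw [heinv]
        _ = (b * e)⁻¹ := by group

theorem mem_adjoin (B : Subgroup X) (e : X) (he2 : e * e = 1) (heB : ∀ x ∈ B, x * e = e * x)
    (x : X) : x ∈ adjoin B e he2 heB ↔ ∃ b ∈ B, b = x ∨ b * e = x := Iff.rfl

theorem le_adjoin (B : Subgroup X) (e : X) (he2 : e * e = 1) (heB : ∀ x ∈ B, x * e = e * x) :
    B ≤ adjoin B e he2 heB := fun b hb => ⟨b, hb, Or.inl rfl⟩

theorem self_mem_adjoin (B : Subgroup X) (e : X) (he2 : e * e = 1)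
    (heB : ∀ x ∈ B, x * e = e * x) : e ∈ adjoin B e he2 heB :=
  ⟨1, B.one_mem, Or.inr (one_mul e)⟩

theorem card_adjoin [Finite X] (B : Subgroup X) (e : X) (he2 : e * e = 1)
    (heB : ∀ x ∈ B, x * e = e * x) (heN : e ∉ B) :
    Nat.card ↥(adjoin B e he2 heB) = 2 * Nat.card ↥B := by
  classical
  apply le_antisymm
  · let f : ↥B × Bool → ↥(adjoin B e he2 heB) := fun p =>
      if p.2 then ⟨p.1 * e, ⟨p.1, p.1.2, Or.inr rfl⟩⟩ else ⟨p.1, ⟨p.1, p.1.2, Or.inl rfl⟩⟩
    have hf : Function.Surjective f := by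
      rintro ⟨x, b, hb, hx | hx⟩
      · exact ⟨(⟨b, hb⟩, false), Subtype.ext (by simp [f, hx])⟩
      · exact ⟨(⟨b, hb⟩, true), Subtype.ext (by simp [f, hx])⟩
    have := Nat.card_le_card_of_surjective f hf
    rw [Nat.card_prod] at this
    simpa [mul_comm] using this
  · have hle := le_adjoin B e he2 heB
    obtain ⟨q, hq⟩ := Subgroup.card_dvd_of_le hle
    have hq1 : q ≠ 1 := by
      rintro rfl
      rw [mul_one] at hq
      have := Subgroup.eq_of_le_of_card_ge hle hq.le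
      apply heN
      rw [this]
      exact self_mem_adjoin B e he2 heB
    have hq0 : q ≠ 0 := by
      rintro rfl
      rw [mul_zero] at hq
      exact (Nat.card_pos (α := ↥(adjoin B e he2 heB))).ne' hq
    calc 2 * Nat.card ↥B ≤ q * Nat.card ↥B := Nat.mul_le_mul_right _ (by omega)
      _ = _ := by rw [hq, mul_comm]

theorem ea_adjoin (B : Subgroup X) (hBc : ∀ x ∈ B, ∀ y ∈ B, x * y = y * x)
    (hB2 : ∀ x ∈ B, x * x = 1) (e : X) (he2 : e * e = 1) (heB : ∀ x ∈ B, x * e = e * x) :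
    (∀ x ∈ adjoin B e he2 heB, ∀ y ∈ adjoin B e he2 heB, x * y = y * x) ∧
      (∀ x ∈ adjoin B e he2 heB, x * x = 1) := by
  have hcomm_e : ∀ x ∈ adjoin B e he2 heB, x * e = e * x := by
    rintro x ⟨b, hb, rfl | rfl⟩
    · exact heB b hb
    · calc b * e * e = (b * e) * e := rfl
        _ = (e * b) * e := by rw [heB b hb]
        _ = e * (b * e) := by group
  have hcomm_B : ∀ x ∈ adjoin B e he2 heB, ∀ c ∈ B, x * c = c * x := by
    rintro x ⟨b, hb, rfl | rfl⟩ c hc
    · exact hBc b hb c hc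
    · calc b * e * c = b * (e * c) := by group
        _ = b * (c * e) := by rw [heB c hc]
        _ = (b * c) * e := by group
        _ = (c * b) * e := by rw [hBc b hb c hc]
        _ = c * (b * e) := by group
  constructor
  · rintro x hx y ⟨c, hc, rfl | rfl⟩
    · exact hcomm_B x hx c hc
    · calc x * (c * e) = (x * c) * e := by group
        _ = (c * x) * e := by rw [hcomm_B x hx c hc]
        _ = c * (x * e) := by group
        _ = c * (e * x) := by rw [hcomm_e x hx]
        _ = c * e * x := by group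
  · rintro x ⟨b, hb, rfl | rfl⟩
    · exact hB2 b hb
    · calc b * e * (b * e) = b * (e * b) * e := by group
        _ = b * (b * e) * e := by rw [heB b hb]
        _ = (b * b) * (e * e) := by group
        _ = 1 := by rw [hB2 b hb, he2, mul_one]

theorem numeric (k d : ℕ) (h : k * d ≤ 8) : d ^ k ≤ 16 := by
  rcases Nat.eq_zero_or_pos k with rfl | hk
  · simp
  rcases Nat.eq_zero_or_pos d with rfl | hd
  · rw [zero_pow hk.ne']; omega
  have hk8 : k ≤ 8 := by nlinarith
  have hd8 : d ≤ 8 := by nlinarith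
  interval_cases k <;> interval_cases d <;> first | (exfalso; omega) | norm_num

theorem ea_elim {B : Subgroup X} (h : Cfsg.IsElementaryAbelian 2 B) :
    (∀ x ∈ B, ∀ y ∈ B, x * y = y * x) ∧ (∀ x ∈ B, x * x = 1) := by
  obtain ⟨hc, h2⟩ := h
  refine ⟨fun x hx y hy => ?_, fun x hx => ?_⟩
  · exact congrArg Subtype.val (hc.is_comm.comm ⟨x, hx⟩ ⟨y, hy⟩)
  · rw [← pow_two]; exact h2 x hx

theorem ea_intro {B : Subgroup X} (hc : ∀ x ∈ B, ∀ y ∈ B, x * y = y * x)
    (h2 : ∀ x ∈ B, x * x = 1) : Cfsg.IsElementaryAbelian 2 B := by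
  refine ⟨IsMulCommutative.of_setLike_mul_comm (fun x hx y hy => hc x hx y hy), fun a ha => ?_⟩
  rw [pow_two]; exact h2 a ha

section main
variable [Finite X] (E : Subgroup X) [hEn : E.Normal]

theorem L2 (hEc : ∀ x ∈ E, ∀ y ∈ E, x * y = y * x) (hE2 : ∀ x ∈ E, x * x = 1)
    (B : Subgroup X) (hBc : ∀ x ∈ B, ∀ y ∈ B, x * y = y * x) (hB2 : ∀ x ∈ B, x * x = 1) :
    ∃ k : ℕ, k * Nat.card ↥(B ⊓ E) = Nat.card ↥B ∧
      Nat.card ↥E ≤ Nat.card ↥(E ⊓ Subgroup.centralizer (B : Set X)) ^ k := by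
  classical
  let P : Subgroup X → Prop := fun B0 => B ⊓ E ≤ B0 ∧ B0 ≤ B ∧
    ∃ k : ℕ, k * Nat.card ↥(B ⊓ E) = Nat.card ↥B0 ∧
      Nat.card ↥E ≤ Nat.card ↥(E ⊓ Subgroup.centralizer (B0 : Set X)) ^ k
  have hfin : {B0 | P B0}.Finite := Set.toFinite _
  have hne : {B0 | P B0}.Nonempty := by
    refine ⟨B ⊓ E, le_refl _, inf_le_left, 1, one_mul _, ?_⟩
    rw [pow_one]
    apply Subgroup.card_le_of_le
    intro x hx
    refine Subgroup.mem_inf.mpr ⟨hx, Subgroup.mem_centralizer_iff.mpr ?_⟩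
    intro y hy
    exact hEc y (Subgroup.mem_inf.mp hy).2 x hx
  obtain ⟨B0, hB0, hmax⟩ := hfin.exists_maximal hne
  obtain ⟨h1, h2, k, hk, hkE⟩ := hB0
  by_cases hB0B : B0 = B
  · rw [hB0B] at hk hkE
    exact ⟨k, hk, hkE⟩
  · exfalso
    obtain ⟨b, hbB, hbB0⟩ : ∃ b ∈ B, b ∉ B0 := by
      by_contra h
      push Not at h
      exact hB0B (le_antisymm h2 h)
    have hb2 : b * b = 1 := hB2 b hbB
    have hbc : ∀ x ∈ B0, x * b = b * x := fun x hx => hBc x (h2 hx) b hbB
    have hP1 : P (adjoin B0 b hb2 hbc) := by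
      refine ⟨h1.trans (le_adjoin _ _ _ _), ?_, 2 * k, ?_, ?_⟩
      · rintro x ⟨c, hc, rfl | rfl⟩
        · exact h2 hc
        · exact B.mul_mem (h2 hc) hbB
      · rw [card_adjoin B0 b hb2 hbc hbB0, mul_assoc, hk]
      · have hWc : ∀ x ∈ E ⊓ Subgroup.centralizer (B0 : Set X),
            ∀ y ∈ E ⊓ Subgroup.centralizer (B0 : Set X), x * y = y * x :=
          fun x hx y hy => hEc x hx.1 y hy.1
        have hW2 : ∀ x ∈ E ⊓ Subgroup.centralizer (B0 : Set X), x * x = 1 :=
          fun x hx => hE2 x hx.1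
        have hbW : ∀ x ∈ E ⊓ Subgroup.centralizer (B0 : Set X),
            b * x * b⁻¹ ∈ E ⊓ Subgroup.centralizer (B0 : Set X) := by
          intro x hx
          refine Subgroup.mem_inf.mpr ⟨hEn.conj_mem x hx.1 b, Subgroup.mem_centralizer_iff.mpr ?_⟩
          intro y hy
          have hyb : y * b = b * y := hbc y hy
          have hyb' : y * b⁻¹ = b⁻¹ * y := by
            calc y * b⁻¹ = b⁻¹ * (b * y) * b⁻¹ := by group
              _ = b⁻¹ * (y * b) * b⁻¹ := by rw [hyb]
              _ = b⁻¹ * y := by group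
          have hyx : y * x = x * y := (Subgroup.mem_centralizer_iff.mp hx.2) y hy
          calc y * (b * x * b⁻¹) = (y * b) * x * b⁻¹ := by group
            _ = (b * y) * x * b⁻¹ := by rw [hyb]
            _ = b * (y * x) * b⁻¹ := by group
            _ = b * (x * y) * b⁻¹ := by rw [hyx]
            _ = b * x * (y * b⁻¹) := by group
            _ = b * x * (b⁻¹ * y) := by rw [hyb']
            _ = b * x * b⁻¹ * y := by group
        have hL1 := L1 (E ⊓ Subgroup.centralizer (B0 : Set X)) hWc hW2 b hb2 hbW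
        have hle : (E ⊓ Subgroup.centralizer (B0 : Set X)) ⊓ Subgroup.centralizer ({b} : Set X) ≤
            E ⊓ Subgroup.centralizer ((adjoin B0 b hb2 hbc : Subgroup X) : Set X) := by
          rintro x ⟨⟨hxE, hxB0⟩, hxb⟩
          refine Subgroup.mem_inf.mpr ⟨hxE, Subgroup.mem_centralizer_iff.mpr ?_⟩
          have h4 : x * b = b * x := Subgroup.mem_centralizer_singleton_iff.mp hxb
          rintro y ⟨c, hc, rfl | rfl⟩
          · exact (Subgroup.mem_centralizer_iff.mp hxB0) c hc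
          · have h3 : c * x = x * c := (Subgroup.mem_centralizer_iff.mp hxB0) c hc
            calc c * b * x = c * (b * x) := by group
              _ = c * (x * b) := by rw [h4]
              _ = (c * x) * b := by group
              _ = (x * c) * b := by rw [h3]
              _ = x * (c * b) := by group
        calc Nat.card ↥E ≤ Nat.card ↥(E ⊓ Subgroup.centralizer (B0 : Set X)) ^ k := hkE
          _ ≤ (Nat.card ↥((E ⊓ Subgroup.centralizer (B0 : Set X)) ⊓
                Subgroup.centralizer ({b} : Set X)) ^ 2) ^ k := Nat.pow_le_pow_left hL1 k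
          _ ≤ (Nat.card ↥(E ⊓ Subgroup.centralizer
                ((adjoin B0 b hb2 hbc : Subgroup X) : Set X)) ^ 2) ^ k :=
              Nat.pow_le_pow_left (Nat.pow_le_pow_left (Subgroup.card_le_of_le hle) 2) k
          _ = _ := by rw [← pow_mul]
    have := hmax hP1 (le_adjoin _ _ _ _)
    exact hbB0 (this (self_mem_adjoin _ _ _ _))

theorem L4 (hEc : ∀ x ∈ E, ∀ y ∈ E, x * y = y * x) (hE2 : ∀ x ∈ E, x * x = 1)
    (hE32 : 32 ≤ Nat.card ↥E)
    (B : Subgroup X) (hBc : ∀ x ∈ B, ∀ y ∈ B, x * y = y * x) (hB2 : ∀ x ∈ B, x * x = 1)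
    (hB8 : Nat.card ↥B ≤ 8) :
    ∃ e ∈ E, e ∉ B ∧ ∀ x ∈ B, x * e = e * x := by
  obtain ⟨k, hk, hkE⟩ := L2 E hEc hE2 B hBc hB2
  by_contra hno
  push Not at hno
  have hle : E ⊓ Subgroup.centralizer (B : Set X) ≤ B ⊓ E := by
    rintro e ⟨heE, heC⟩
    refine Subgroup.mem_inf.mpr ⟨?_, heE⟩
    by_contra heB
    obtain ⟨x, hx, hxe⟩ := hno e heE heB
    exact hxe ((Subgroup.mem_centralizer_iff.mp heC) x hx)
  have hcd := Subgroup.card_le_of_le hle
  have h16 : Nat.card ↥(B ⊓ E) ^ k ≤ 16 := numeric k _ (by rw [hk]; exact hB8)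
  have h3 : Nat.card ↥(E ⊓ Subgroup.centralizer (B : Set X)) ^ k ≤ Nat.card ↥(B ⊓ E) ^ k :=
    Nat.pow_le_pow_left hcd k
  omega

end main

section final
variable [Finite X] (E : Subgroup X) [hEn : E.Normal]

/-- the relation of the statement -/
def rel (C D : Subgroup X) : Prop :=
  Cfsg.IsElementaryAbelian 2 C ∧ Nat.card ↥C = 8 ∧ Cfsg.IsElementaryAbelian 2 D ∧
    Nat.card ↥D = 8 ∧ ⁅C, D⁆ = ⊥

omit [Finite X] in
theorem rel_symm {C D : Subgroup X} (h : rel C D) : rel D C := by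
  obtain ⟨h1, h2, h3, h4, h5⟩ := h
  exact ⟨h3, h4, h1, h2, by rw [Subgroup.commutator_comm]; exact h5⟩

omit [Finite X] in
theorem chain_symm {A B : Subgroup X} (h : Relation.ReflTransGen rel A B) :
    Relation.ReflTransGen rel B A := by
  induction h with
  | refl => exact Relation.ReflTransGen.refl
  | tail _ hbc ih => exact Relation.ReflTransGen.head (rel_symm hbc) ih

theorem partB (hEc : ∀ x ∈ E, ∀ y ∈ E, x * y = y * x) (hE2 : ∀ x ∈ E, x * x = 1)
    (hE32 : 32 ≤ Nat.card ↥E) (V : Subgroup X) (hV : Cfsg.IsElementaryAbelian 2 V)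
    (hV4 : Nat.card ↥V = 4) :
    ∃ A : Subgroup X, V ≤ A ∧ Cfsg.IsElementaryAbelian 2 A ∧ Nat.card ↥A = 8 := by
  obtain ⟨hVc, hV2⟩ := ea_elim hV
  obtain ⟨e, heE, heV, hec⟩ := L4 E hEc hE2 hE32 V hVc hV2 (by omega)
  have he2 : e * e = 1 := hE2 e heE
  refine ⟨adjoin V e he2 hec, le_adjoin _ _ _ _, ?_, ?_⟩
  · obtain ⟨h1, h2⟩ := ea_adjoin V hVc hV2 e he2 hec
    exact ea_intro h1 h2
  · rw [card_adjoin V e he2 hec heV, hV4]

theorem reach (hX : IsPGroup 2 X) (hEc : ∀ x ∈ E, ∀ y ∈ E, x * y = y * x)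
    (hE2 : ∀ x ∈ E, x * x = 1) (hE32 : 32 ≤ Nat.card ↥E) :
    ∀ m : ℕ, ∀ A : Subgroup X, Cfsg.IsElementaryAbelian 2 A → Nat.card ↥A = 8 →
      8 - Nat.card ↥(A ⊓ E) = m →
      ∃ A' : Subgroup X, Cfsg.IsElementaryAbelian 2 A' ∧ Nat.card ↥A' = 8 ∧ A' ≤ E ∧
        Relation.ReflTransGen rel A A' := by
  classical
  have : Fact (Nat.Prime 2) := ⟨Nat.prime_two⟩
  intro m
  induction m using Nat.strong_induction_on with
  | _ m ih =>
  intro A hA hA8 hm
  by_cases hAE : A ≤ E
  · exact ⟨A, hA, hA8, hAE, Relation.ReflTransGen.refl⟩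
  obtain ⟨hAc, hA2⟩ := ea_elim hA
  obtain ⟨e, heE, heA, hec⟩ := L4 E hEc hE2 hE32 A hAc hA2 (by omega)
  have he2 : e * e = 1 := hE2 e heE
  -- D = A ⊓ E has order at most 4
  have hDA : A ⊓ E ≤ A := inf_le_left
  obtain ⟨j, hj⟩ := IsPGroup.iff_card.mp (hX.to_subgroup (A ⊓ E))
  have hD8 : Nat.card ↥(A ⊓ E) ≠ 8 := by
    intro h
    apply hAE
    have := Subgroup.eq_of_le_of_card_ge hDA (by rw [h, hA8])
    rw [← this]
    exact inf_le_right
  have hDle : Nat.card ↥(A ⊓ E) ≤ 8 := by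
    rw [← hA8]; exact Subgroup.card_le_of_le hDA
  have hj2 : j ≤ 2 := by
    by_contra h
    have h3 : 3 ≤ j := by omega
    have : 2 ^ 3 ≤ 2 ^ j := Nat.pow_le_pow_right (by norm_num) h3
    omega
  -- a subgroup A0 of order 4 between D and A
  have hHcard : Nat.card ↥((A ⊓ E).subgroupOf A) = 2 ^ j := by
    rw [← hj, ← Subgroup.card_map_of_injective A.subtype_injective,
      Subgroup.map_subgroupOf_eq_of_le hDA]
  have hdvd : 2 ^ 2 ∣ Nat.card ↥A := by rw [hA8]; norm_num
  obtain ⟨K, hK4, hHK⟩ := Sylow.exists_subgroup_card_pow_prime_le 2 hdvd _ hHcard hj2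
  have hA04 : Nat.card ↥(K.map A.subtype) = 4 := by
    rw [Subgroup.card_map_of_injective A.subtype_injective, hK4]; norm_num
  have hA0A : K.map A.subtype ≤ A := by
    rintro x ⟨y, _, rfl⟩
    exact y.2
  have hDA0 : A ⊓ E ≤ K.map A.subtype := by
    have := Subgroup.map_mono (f := A.subtype) hHK
    rwa [Subgroup.map_subgroupOf_eq_of_le hDA] at this
  have hA0c : ∀ x ∈ K.map A.subtype, ∀ y ∈ K.map A.subtype, x * y = y * x :=
    fun x hx y hy => hAc x (hA0A hx) y (hA0A hy)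
  have hA02 : ∀ x ∈ K.map A.subtype, x * x = 1 := fun x hx => hA2 x (hA0A hx)
  have hec0 : ∀ x ∈ K.map A.subtype, x * e = e * x := fun x hx => hec x (hA0A hx)
  have heA0 : e ∉ K.map A.subtype := fun h => heA (hA0A h)
  obtain ⟨h1, h2⟩ := ea_adjoin _ hA0c hA02 e he2 hec0
  have hA'ea : Cfsg.IsElementaryAbelian 2 (adjoin (K.map A.subtype) e he2 hec0) := ea_intro h1 h2
  have hA'8 : Nat.card ↥(adjoin (K.map A.subtype) e he2 hec0) = 8 := by
    rw [card_adjoin _ e he2 hec0 heA0, hA04]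
  have hcomm : ⁅A, adjoin (K.map A.subtype) e he2 hec0⁆ = ⊥ := by
    rw [Subgroup.commutator_eq_bot_iff_le_centralizer]
    intro x hx
    rw [Subgroup.mem_centralizer_iff]
    rintro y ⟨c, hc, rfl | rfl⟩
    · exact hAc c (hA0A hc) x hx
    · have h3 : c * x = x * c := hAc c (hA0A hc) x hx
      have h4 : x * e = e * x := hec x hx
      calc c * e * x = c * (e * x) := by group
        _ = c * (x * e) := by rw [h4]
        _ = (c * x) * e := by group
        _ = (x * c) * e := by rw [h3]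
        _ = x * (c * e) := by group
  -- the measure decreases
  have hlt : Nat.card ↥(A ⊓ E) < Nat.card ↥(adjoin (K.map A.subtype) e he2 hec0 ⊓ E) := by
    have hle : A ⊓ E ≤ adjoin (K.map A.subtype) e he2 hec0 ⊓ E :=
      le_inf (hDA0.trans (le_adjoin _ _ _ _)) inf_le_right
    by_contra h
    push Not at h
    have := Subgroup.eq_of_le_of_card_ge hle h
    apply heA
    have he' : e ∈ adjoin (K.map A.subtype) e he2 hec0 ⊓ E :=
      Subgroup.mem_inf.mpr ⟨self_mem_adjoin _ _ _ _, heE⟩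
    rw [← this] at he'
    exact (Subgroup.mem_inf.mp he').1
  have hle8 : Nat.card ↥(adjoin (K.map A.subtype) e he2 hec0 ⊓ E) ≤ 8 := by
    rw [← hA'8]; exact Subgroup.card_le_of_le inf_le_left
  obtain ⟨A'', hA''ea, hA''8, hA''E, hchain⟩ :=
    ih (8 - Nat.card ↥(adjoin (K.map A.subtype) e he2 hec0 ⊓ E)) (by omega)
      (adjoin (K.map A.subtype) e he2 hec0) hA'ea hA'8 rfl
  exact ⟨A'', hA''ea, hA''8, hA''E,
    Relation.ReflTransGen.head ⟨hA, hA8, hA'ea, hA'8, hcomm⟩ hchain⟩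

end final

/-- Let X be a finite 2-group having a normal elementary abelian subgroup of order at least 32. Then (a) for any two elementary abelian subgroups A, B of X of order 8 there is a chain A = A₁, A₂, …, Aₙ = B of elementary abelian subgroups of order 8 in which consecutive members commute elementwise; and (b) every elementary abelian subgroup of X of order 4 is contained in an elementary abelian subgroup of order 8. -/
theorem result {X : Type*} [Group X] [Finite X]
    (hX : IsPGroup 2 X) (E : Subgroup X) [E.Normal] (hE : Cfsg.IsElementaryAbelian 2 E) (hE32 : 32 ≤ Nat.card ↥E) :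
    (∀ A B : Subgroup X, Cfsg.IsElementaryAbelian 2 A → Nat.card ↥A = 8 → Cfsg.IsElementaryAbelian 2 B → Nat.card ↥B = 8 →
        Relation.ReflTransGen
          (fun C D : Subgroup X => Cfsg.IsElementaryAbelian 2 C ∧ Nat.card ↥C = 8 ∧ Cfsg.IsElementaryAbelian 2 D ∧ Nat.card ↥D = 8 ∧ ⁅C, D⁆ = ⊥)
          A B) ∧
      (∀ V : Subgroup X, Cfsg.IsElementaryAbelian 2 V → Nat.card ↥V = 4 →
        ∃ A : Subgroup X, V ≤ A ∧ Cfsg.IsElementaryAbelian 2 A ∧ Nat.card ↥A = 8) := by
  obtain ⟨hEc, hE2⟩ := ea_elim hE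
  refine ⟨?_, fun V hV hV4 => partB E hEc hE2 hE32 V hV hV4⟩
  intro A B hA hA8 hB hB8
  obtain ⟨A', hA'ea, hA'8, hA'E, hchainA⟩ := reach E hX hEc hE2 hE32 _ A hA hA8 rfl
  obtain ⟨B', hB'ea, hB'8, hB'E, hchainB⟩ := reach E hX hEc hE2 hE32 _ B hB hB8 rfl
  have hmid : rel A' B' := by
    refine ⟨hA'ea, hA'8, hB'ea, hB'8, ?_⟩
    rw [Subgroup.commutator_eq_bot_iff_le_centralizer]
    intro x hx
    rw [Subgroup.mem_centralizer_iff]
    intro y hy
    exact hEc y (hB'E hy) x (hA'E hx)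
  have hback : Relation.ReflTransGen rel B' B := chain_symm hchainB
  exact (hchainA.trans (Relation.ReflTransGen.single hmid)).trans hback

end Cfsg.Agent.S1785
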