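import Cfsg.Statements.S1850
import Cfsg.Agent.Lib.Helper31.CharPLocals
-- import your own Cfsg.Agent.* helpers here

set_option autoImplicit false
open Cfsg

namespace Cfsg.Agent.S1850

open Cfsg.Agent.Lib.Helper31 in
/-- Let G be a non-abelian finite simple QTKE-group and T a Sylow 2-subgroup of G. If U is a nontrivial 2-subgroup of G with U ∩ Z(T) ≠ 1, then F*(N_G(U)) = O₂(N_G(U)). -/
theorem result {G : Type*} [Group G] [Finite G] [IsSimpleGroup G]
    (hG : ¬ IsMulCommutative G) (hQ : Cfsg.IsQTKE G) (T : Sylow 2 G) (U : Subgroup G)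
    (hU : IsPGroup 2 ↥U) (hZ : U ⊓ ((T : Subgroup G) ⊓ Subgroup.centralizer ((T : Subgroup G) : Set G)) ≠ ⊥) :
    Subgroup.normalizer (U : Set G) ∈ Cfsg.calHe G := by
  have : Fact (Nat.Prime 2) := ⟨Nat.prime_two⟩
  -- a nontrivial element of `U ∩ Z(T)`
  obtain ⟨z, hz1⟩ := (Subgroup.ne_bot_iff_exists_ne_one).mp hZ
  have hz1' : (z : G) ≠ 1 := fun h => hz1 (Subtype.ext h)
  obtain ⟨hzU, hzT, hzC⟩ := z.2
  set A : Subgroup G := Subgroup.zpowers (z : G) with hA
  have hAU : A ≤ U := (Subgroup.zpowers_le).mpr hzU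
  have hA2 : IsPGroup 2 A := hU.to_le hAU
  have hAne : A ≠ ⊥ := by
    intro h
    exact hz1' ((Subgroup.zpowers_eq_bot).mp h)
  have hTA : (T : Subgroup G) ≤ Subgroup.normalizer (A : Set G) := by
    refine le_trans ?_ (Subgroup.centralizer_le_normalizer _)
    rw [Subgroup.le_centralizer_iff]
    exact (Subgroup.zpowers_le).mpr hzC
  have hloc : IsTwoLocal (Subgroup.normalizer (A : Set G)) := ⟨A, hA2, hAne, rfl⟩
  have hchar : CharP 2 (Subgroup.normalizer (A : Set G)) := hQ.2.2 _ hloc ⟨T, hTA⟩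
  have hN : CharP 2 (Subgroup.normalizer (U : Set G)) :=
    charP_normalizer_of_le_of_charP hU hAU hchar
  exact charP_iff_generalizedFittingSubgroup_eq.mp hN

end Cfsg.Agent.S1850
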