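import Cfsg.Statements.S1851
import Cfsg.Agent.Lib.Helper31.SubnormalChar
-- import your own Cfsg.Agent.* helpers here

set_option autoImplicit false
open Cfsg

namespace Cfsg.Agent.S1851

open Cfsg.Agent.Lib.Helper31 Cfsg.Agent.Lib.Helper49
open scoped commutatorElement

/-- In a group of even characteristic, `⟨K, T⟩` has characteristic 2 for `K ∈ ℒ(G, T)`. -/
theorem charP_sup_of_mem_calL {G : Type*} [Group G] [Finite G] (hE : IsOfEvenCharacteristic G)
    (T : Sylow 2 G) {K : Subgroup G} (hK : K ∈ calL (T : Subgroup G)) :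
    CharP 2 (K ⊔ (T : Subgroup G)) := by
  have : Fact (Nat.Prime 2) := ⟨Nat.prime_two⟩
  set H := K ⊔ (T : Subgroup G) with hH
  have hP1 : pCoreIn 2 H ≠ ⊥ := by
    intro h
    apply hK.2.2
    exact (Subgroup.map_eq_bot_iff_of_injective _ H.subtype_injective).mp h
  have hTH : (T : Subgroup G) ≤ H := le_sup_right
  have hHN : H ≤ Subgroup.normalizer ((pCoreIn 2 H : Subgroup G) : Set G) :=
    le_normalizer_pCoreIn 2 H
  have hN : CharP 2 (Subgroup.normalizer ((pCoreIn 2 H : Subgroup G) : Set G)) :=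
    hE _ ⟨pCoreIn 2 H, isPGroup_pCoreIn 2 H, hP1, rfl⟩ ⟨T, hTH.trans hHN⟩
  exact charP_of_pCoreIn_le hN hHN ((pCoreIn_le_sylow T (hTH.trans hHN)).trans hTH)

theorem perfect_of_mem_calL {G : Type*} [Group G] {S K : Subgroup G} (hK : K ∈ calL S) :
    ⁅K, K⁆ = K := by
  have h := hK.1.2.1
  have e : (K.subgroupOf (K ⊔ S)).map (K ⊔ S).subtype = K :=
    Subgroup.map_subgroupOf_eq_of_le le_sup_left
  have := congrArg (Subgroup.map (K ⊔ S).subtype) h
  rwa [Subgroup.map_commutator, e] at this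

/-- Let G be a non-abelian finite simple QTKE-group and T a Sylow 2-subgroup of G, and let L be a member of ℒ_f(G, T) (a member of ℒ(G, T) that lies in 𝒳 — L ≠ 1, L = O²(L), F*(L) = O₂(L) — and acts nontrivially on Ω₁(Z(O₂(L)))). Then (1) every member K of ℒ(G, T) containing L is again in ℒ_f(G, T) (a sharper form of (1) also compares the modules [Ω₁(Z(R)), L] and [Ω₁(Z(R')), K] for suitable 2-subgroups R, R'; that comparison is not included); and (2) if L is maximal under inclusion among the members of ℒ_f(G, T), then L is a maximal member of ℒ(G, T), hence a member of ℒ_f*(G, T). -/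
theorem result {G : Type*} [Group G] [Finite G] [IsSimpleGroup G]
    (hG : ¬ IsMulCommutative G) (hQ : Cfsg.IsQTKE G) (T : Sylow 2 G) (L : Subgroup G)
    (hL : L ∈ Cfsg.calLf (T : Subgroup G)) :
    (∀ K ∈ Cfsg.calL (T : Subgroup G), L ≤ K → K ∈ Cfsg.calLf (T : Subgroup G)) ∧
    ((∀ K ∈ Cfsg.calLf (T : Subgroup G), L ≤ K → K = L) → L ∈ Cfsg.calLfMax (T : Subgroup G)) := by
  have : Fact (Nat.Prime 2) := ⟨Nat.prime_two⟩
  have hE : IsOfEvenCharacteristic G := hQ.2.2
  have part1 : ∀ K ∈ Cfsg.calL (T : Subgroup G), L ≤ K → K ∈ Cfsg.calLf (T : Subgroup G) := by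
    intro K hK hLK
    obtain ⟨hne, -, hsubn, -⟩ := hK.1
    have hKperf := perfect_of_mem_calL hK
    have hKodd : oddGenerated K = K := oddGenerated_eq_of_perfect hKperf
    have hKne : K ≠ ⊥ := by
      intro h
      apply hne
      rw [h]
      exact Subgroup.bot_subgroupOf _
    have hHK : CharP 2 (K ⊔ (T : Subgroup G)) := charP_sup_of_mem_calL hE T hK
    have hKchar : CharP 2 K := charP_of_isSubnormal le_sup_left hHK hsubn
    have hKHe : K ∈ calHe G := charP_iff_generalizedFittingSubgroup_eq.mp hKchar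
    refine ⟨hK, ⟨hKne, hKodd, hKHe⟩, ?_⟩
    intro hV
    rw [moduleV_eq_bot_iff] at hV
    have h1 := (le_centralizer_omegaZ_iff_of_isSubnormal hKodd le_sup_left hsubn).mp hV
    have hle : L ⊔ (T : Subgroup G) ≤ K ⊔ (T : Subgroup G) := sup_le_sup_right hLK _
    have hmono : omegaZ (L ⊔ (T : Subgroup G)) ≤ omegaZ (K ⊔ (T : Subgroup G)) :=
      omegaZ_le_of_charP hHK hle ((pCoreIn_le_sylow T le_sup_right).trans le_sup_right)
    have h2 : L ≤ Subgroup.centralizer
        ((omegaZ (L ⊔ (T : Subgroup G)) : Subgroup G) : Set G) :=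
      hLK.trans (h1.trans (Subgroup.centralizer_le hmono))
    have h3 := (le_centralizer_omegaZ_iff_of_isSubnormal hL.2.1.2.1 le_sup_left hL.1.1.2.2.1).mpr h2
    exact hL.2.2 ((moduleV_eq_bot_iff L).mpr h3)
  refine ⟨part1, fun hmax => ⟨⟨hL.1, fun K hK hLK => hmax K (part1 K hK hLK) hLK⟩, hL.2⟩⟩

end Cfsg.Agent.S1851
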