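import Cfsg.Statements.S1892
import Cfsg.Agent.S0012
import Cfsg.Agent.S0028
import Cfsg.Agent.S0029
import Cfsg.Agent.S0055
import Cfsg.Agent.Lib.Helper76.PCore
-- import your own Cfsg.Agent.* helpers here

set_option autoImplicit false
open Cfsg

namespace Cfsg.Agent.S1892

open scoped commutatorElement

/-- The key step on an abelian normal section: if `Q` acts coprimely on the abelian normal
subgroup `V`, `A` normalizes `Q` with `[A, Q] = Q`, and `[V, A, Q] = 1`, then `[V, Q] = 1`. -/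
theorem abelian_step {G : Type*} [Group G] [Finite G] (V A Q : Subgroup G) [V.Normal]
    [IsMulCommutative V] (hcop : (Nat.card Q).Coprime (Nat.card V))
    (hAQn : A ≤ Subgroup.normalizer (Q : Set G)) (hAQ : ⁅A, Q⁆ = Q)
    (h : ⁅⁅V, A⁆, Q⁆ = ⊥) : ⁅V, Q⁆ = ⊥ := by
  have hVn : ∀ H : Subgroup G, H ≤ Subgroup.normalizer (V : Set G) := by
    intro H
    rw [Subgroup.normalizer_eq_top]
    exact le_top
  obtain ⟨h55, -⟩ := Cfsg.Agent.S0055.result Q V (hVn Q) hcop
  set W : Subgroup G := ⁅V, Q⁆ with hW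
  have hWV : W ≤ V := Subgroup.commutator_le_left V Q
  have hVA : ⁅V, A⁆ ≤ V ⊓ Subgroup.centralizer (Q : Set G) :=
    le_inf (Subgroup.commutator_le_left V A)
      (Subgroup.commutator_eq_bot_iff_le_centralizer.mp h)
  have hAW : A ≤ Subgroup.normalizer (W : Set G) :=
    Cfsg.Agent.S0028.le_normalizer_commutator (hVn A) hAQn
  have hQW : Q ≤ Subgroup.normalizer (W : Set G) :=
    Subgroup.normalizer_commutator_ge_right V Q
  have hWA : ⁅W, A⁆ = ⊥ := by
    rw [eq_bot_iff, ← h55]
    refine le_inf ((Subgroup.commutator_mono hWV le_rfl).trans hVA) ?_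
    exact Subgroup.le_normalizer_iff_commutator_le_left.mp hAW
  have h1 : ⁅⁅Q, W⁆, A⁆ = ⊥ := by
    rw [eq_bot_iff, ← hWA]
    refine Subgroup.commutator_mono ?_ le_rfl
    exact Subgroup.le_normalizer_iff_commutator_le_right.mp hQW
  have h2 : ⁅⁅W, A⁆, Q⁆ = ⊥ := by
    rw [hWA, Subgroup.commutator_bot_left]
  have h3 : ⁅⁅A, Q⁆, W⁆ = ⊥ := Subgroup.commutator_commutator_eq_bot_of_rotate h1 h2
  rw [hAQ, Subgroup.commutator_comm] at h3
  have hWC : W ≤ Subgroup.centralizer (Q : Set G) :=
    Subgroup.commutator_eq_bot_iff_le_centralizer.mp h3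
  rw [eq_bot_iff, ← h55]
  exact le_inf (le_inf hWV hWC) le_rfl

/-- Let S be a finite p-solvable group with no nontrivial normal subgroup of order prime to p, A a p-subgroup of S, and Q a nontrivial A-invariant subgroup of order prime to p with [A, Q] = Q. Then the commutator [O_p(S), A, Q] is nontrivial. -/
theorem result {S : Type*} [Group S] [Finite S] {p : ℕ} [Fact p.Prime]
    (hS : Cfsg.IsPSolvable p S) (hred : Cfsg.pPrimeCore p S = ⊥)
    (A Q : Subgroup S) (hA : IsPGroup p A) (hQ : ¬ p ∣ Nat.card Q) (hQ1 : Q ≠ ⊥)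
    (hinv : ∀ a ∈ A, ∀ x ∈ Q, a * x * a⁻¹ ∈ Q) (hAQ : ⁅A, Q⁆ = Q) :
    ⁅⁅Cfsg.pCore p S, A⁆, Q⁆ ≠ ⊥ := by
  intro hbot
  have hPp : IsPGroup p (Cfsg.pCore p S) := Cfsg.Agent.Lib.Helper76.pCore_isPGroup p
  set P : Subgroup S := Cfsg.pCore p S with hP
  have hPn : P.Normal := Cfsg.pCore_normal p S
  have hQcop : (Nat.card Q).Coprime p :=
    ((Nat.Prime.coprime_iff_not_dvd (Fact.out : p.Prime)).mpr hQ).symm
  -- the Frattini subgroup of `P`, as a normal subgroup of `S`
  have hNn : ((frattini P).map P.subtype).Normal := inferInstance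
  set N : Subgroup S := (frattini P).map P.subtype with hN
  have hNP : N ≤ P := Subgroup.map_subtype_le _
  have hPPN : ⁅P, P⁆ ≤ N := by
    rw [← Subgroup.map_subtype_commutator]
    exact Subgroup.map_mono (Cfsg.Agent.S0012.result p hPp).1
  -- pass to the quotient
  set π : S →* S ⧸ N := QuotientGroup.mk' N with hπ
  have hπs : Function.Surjective π := QuotientGroup.mk'_surjective N
  have hVn : (P.map π).Normal := hPn.map π hπs
  have hVc : IsMulCommutative (P.map π) := by
    rw [← Subgroup.le_centralizer_iff_isMulCommutative,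
      ← Subgroup.commutator_eq_bot_iff_le_centralizer, ← Subgroup.map_commutator,
      Subgroup.map_eq_bot_iff, hπ, QuotientGroup.ker_mk']
    exact hPPN
  obtain ⟨k, hk⟩ := IsPGroup.iff_card.mp hPp
  have hcopV : (Nat.card (Q.map π)).Coprime (Nat.card (P.map π)) := by
    have h1 : Nat.card (Q.map π) ∣ Nat.card Q := Subgroup.card_map_dvd Q π
    have h2 : Nat.card (P.map π) ∣ Nat.card P := Subgroup.card_map_dvd P π
    rw [hk] at h2
    exact Nat.Coprime.of_dvd h1 h2 (Nat.Coprime.pow_right k hQcop)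
  have hAQn : A ≤ Subgroup.normalizer (Q : Set S) := by
    intro a ha
    exact Subgroup.mem_normalizer_fintype (fun x hx => hinv a ha x hx)
  have hAQn' : A.map π ≤ Subgroup.normalizer ((Q.map π : Subgroup (S ⧸ N)) : Set (S ⧸ N)) :=
    (Subgroup.map_mono hAQn).trans (Subgroup.le_normalizer_map π)
  have hAQ' : ⁅A.map π, Q.map π⁆ = Q.map π := by
    rw [← Subgroup.map_commutator, hAQ]
  have hbot' : ⁅⁅P.map π, A.map π⁆, Q.map π⁆ = ⊥ := by
    rw [← Subgroup.map_commutator, ← Subgroup.map_commutator, hbot, Subgroup.map_bot]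
  have hstep := abelian_step (P.map π) (A.map π) (Q.map π) hcopV hAQn' hAQ' hbot'
  rw [← Subgroup.map_commutator, Subgroup.map_eq_bot_iff, hπ, QuotientGroup.ker_mk'] at hstep
  -- now `Q` acts trivially on `P / Φ(P)`, hence centralizes `P`
  have hQP : Q ≤ Subgroup.normalizer (P : Set S) := by
    rw [Subgroup.normalizer_eq_top]; exact le_top
  have hcopF : (Nat.card Q).Coprime (Nat.card (frattini P)) := by
    have h2 : Nat.card (frattini P) ∣ Nat.card P := Subgroup.card_subgroup_dvd_card _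
    rw [hk] at h2
    exact Nat.Coprime.of_dvd (dvd_refl _) h2 (Nat.Coprime.pow_right k hQcop)
  have hcent : Q ≤ Subgroup.centralizer (P : Set S) := by
    apply Cfsg.Agent.S0029.result Q P hQP hcopF
    intro a ha x hx
    apply hstep
    rw [Subgroup.commutator_comm]
    exact Subgroup.commutator_mem_commutator ha hx
  have hcore : ∀ M : Subgroup S, M.Normal → (Nat.card M).Coprime p → M = ⊥ := by
    intro M hM hMc
    rw [eq_bot_iff, ← hred]
    exact Cfsg.Agent.Lib.Helper76.le_pPrimeCore p M hM hMc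
  have hQleP : Q ≤ P := hcent.trans (Cfsg.Agent.Lib.Helper76.centralizer_pCore_le p hS hcore)
  have hQp : IsPGroup p Q := hPp.to_le hQleP
  obtain ⟨m, hm⟩ := IsPGroup.iff_card.mp hQp
  apply hQ1
  apply Subgroup.eq_bot_of_card_eq
  rcases Nat.eq_zero_or_pos m with rfl | hmpos
  · simpa using hm
  · exfalso
    apply hQ
    rw [hm]
    exact dvd_pow_self p hmpos.ne'

end Cfsg.Agent.S1892
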