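import Cfsg.Statements.S1893
import Cfsg.Agent.Lib.Helper32.QuadFitting
import Cfsg.Agent.Lib.Helper1.Fitting
import Cfsg.Agent.Lib.Helper71.Fitting

set_option autoImplicit false
open Cfsg
open scoped commutatorElement

namespace Cfsg.Agent.S1893

open Cfsg.Agent.Lib.Helper97 Cfsg.Agent.Lib.Helper24 Cfsg.Agent.Lib.Helper32

universe u

theorem main {S : Type u} [Group S] [Finite S] [Group.IsSolvable S]
    (π : Set ℕ) (h2 : 2 ∉ π) (h3 : 3 ∉ π) (H : Subgroup S) (hH : Cfsg.IsPiHall π H)
    (A : Subgroup S) (hA : Cfsg.IsSCN ((Cfsg.fittingSubgroup H).map H.subtype) A) :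
    ∃ D : Subgroup S, D ≤ Subgroup.centralizer (A : Set S) ∧
      (∀ c ∈ Subgroup.centralizer (A : Set S), ∀ d ∈ D, c * d * c⁻¹ ∈ D) ∧
      A ⊓ D = ⊥ ∧ A ⊔ D = Subgroup.centralizer (A : Set S) ∧
      ∀ q : ℕ, q.Prime → q ∣ Nat.card D → q ∉ π := by
  classical
  obtain ⟨hAF, hFN, hFC⟩ := hA
  obtain ⟨FH, hFHdef⟩ : ∃ FH : Subgroup S, FH = (fittingSubgroup ↥H).map H.subtype := ⟨_, rfl⟩
  rw [← hFHdef] at hAF hFN hFC
  have hFH : FH ≤ H := by rw [hFHdef]; exact Subgroup.map_subtype_le _
  have hAH : A ≤ H := hAF.trans hFH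
  have hAab : A ≤ Subgroup.centralizer (A : Set S) := by
    intro a ha
    have : a ∈ FH ⊓ Subgroup.centralizer (A : Set S) := by rw [hFC]; exact ha
    exact this.2
  -- the largest normal subgroup of order prime to `|H|`
  obtain ⟨hKn, hKcop⟩ := Cfsg.Agent.Lib.Helper1.normal_and_coprime_card_sSup (Nat.card H)
    {N : Subgroup S | N.Normal ∧ (Nat.card N).Coprime (Nat.card H)} (fun N hN => hN)
  obtain ⟨K, hKdef⟩ : ∃ K : Subgroup S,
    K = sSup {N : Subgroup S | N.Normal ∧ (Nat.card N).Coprime (Nat.card H)} := ⟨_, rfl⟩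
  rw [← hKdef] at hKn hKcop
  have hKmax : ∀ N : Subgroup S, N.Normal → (Nat.card N).Coprime (Nat.card H) → N ≤ K := by
    intro N h1 h2
    rw [hKdef]
    exact le_sSup ⟨h1, h2⟩
  have hHK : ∀ x ∈ H, x ∈ K → x = 1 := by
    intro x hxH hxK
    have h1 : orderOf x ∣ Nat.card H := by
      have := orderOf_dvd_natCard (⟨x, hxH⟩ : H)
      rwa [Subgroup.orderOf_mk] at this
    have h2 : orderOf x ∣ Nat.card K := by
      have := orderOf_dvd_natCard (⟨x, hxK⟩ : K)
      rwa [Subgroup.orderOf_mk] at this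
    have h3 : orderOf x ∣ Nat.gcd (Nat.card K) (Nat.card H) := Nat.dvd_gcd h2 h1
    rw [hKcop.gcd_eq_one, Nat.dvd_one] at h3
    exact orderOf_eq_one_iff.mp h3
  -- the quotient
  have hsurj : Function.Surjective (QuotientGroup.mk' K) := QuotientGroup.mk'_surjective K
  have hφinj : ∀ x ∈ H, (QuotientGroup.mk' K) x = 1 → x = 1 := fun x hx h =>
    hHK x hx ((QuotientGroup.eq_one_iff x).mp h)
  have hFbn : (fittingSubgroup (S ⧸ K)).Normal := inferInstance
  -- prime divisors of `|F(S/K)|` lie in `π`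
  have hprime : ∀ q : ℕ, q.Prime → q ∣ Nat.card (fittingSubgroup (S ⧸ K)) → q ∈ π := by
    intro q hq hqd
    have : Fact q.Prime := ⟨hq⟩
    have hPne : pCore q (S ⧸ K) ≠ ⊥ := by
      intro hbot
      have hle : fittingSubgroup (S ⧸ K) ≤ pCoreCompl q (S ⧸ K) := by
        have := fittingSubgroup_le_sup (G := S ⧸ K) q
        rwa [hbot, bot_sup_eq] at this
      have hc := card_pCoreCompl_coprime (G := S ⧸ K) q
      have h1 : q ∣ Nat.card (pCoreCompl q (S ⧸ K)) := hqd.trans (Subgroup.card_dvd_of_le hle)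
      have := Nat.Coprime.eq_one_of_dvd hc.symm h1
      exact hq.one_lt.ne' this
    by_contra hqπ
    have hqH : ¬ q ∣ Nat.card H := fun h => hqπ (hH.1 q hq h)
    apply hPne
    -- the preimage of `O_q(S/K)` is a normal subgroup of order prime to `|H|`
    have hPn : (pCore q (S ⧸ K)).Normal := inferInstance
    have hNn : ((pCore q (S ⧸ K)).comap (QuotientGroup.mk' K)).Normal := hPn.comap _
    have hNcop : (Nat.card ((pCore q (S ⧸ K)).comap (QuotientGroup.mk' K))).Coprime (Nat.card H) := by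
      apply Nat.coprime_of_dvd
      intro p hp hpN hpH
      have : Fact p.Prime := ⟨hp⟩
      obtain ⟨x, hx⟩ := exists_prime_orderOf_dvd_card' p hpN
      have hxo : orderOf (x : S) = p := by rw [Subgroup.orderOf_coe]; exact hx
      have hxP : (QuotientGroup.mk' K) (x : S) ∈ pCore q (S ⧸ K) := x.2
      obtain ⟨k, hk⟩ := (Cfsg.Agent.Lib.Helper55.isPGroup_pCore (G := S ⧸ K) q) ⟨_, hxP⟩
      have hk' : ((QuotientGroup.mk' K) (x : S)) ^ q ^ k = 1 := by
        have := congrArg Subtype.val hk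
        rwa [Subgroup.coe_pow, Subgroup.coe_one] at this
      have hp' : ((QuotientGroup.mk' K) (x : S)) ^ p = 1 := by
        rw [← map_pow, ← hxo, pow_orderOf_eq_one, map_one]
      by_cases hpq : p = q
      · exact hqH (hpq ▸ hpH)
      · have hcop : Nat.Coprime p (q ^ k) :=
          Nat.Coprime.pow_right k ((Nat.coprime_primes hp hq).mpr hpq)
        have h1 : orderOf ((QuotientGroup.mk' K) (x : S)) ∣ Nat.gcd p (q ^ k) :=
          Nat.dvd_gcd (orderOf_dvd_of_pow_eq_one hp') (orderOf_dvd_of_pow_eq_one hk')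
        rw [hcop.gcd_eq_one, Nat.dvd_one, orderOf_eq_one_iff] at h1
        have hxK : (x : S) ∈ K := (QuotientGroup.eq_one_iff _).mp h1
        have h2 : p ∣ Nat.card K := by
          have := orderOf_dvd_natCard (⟨(x : S), hxK⟩ : K)
          rwa [Subgroup.orderOf_mk, hxo] at this
        have := Nat.Coprime.eq_one_of_dvd (Nat.Coprime.coprime_dvd_left h2 hKcop) hpH
        exact hp.one_lt.ne' this
    have hle := hKmax _ hNn hNcop
    rw [eq_bot_iff]
    intro y hy
    obtain ⟨x, rfl⟩ := hsurj y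
    rw [Subgroup.mem_bot]
    exact (QuotientGroup.eq_one_iff x).mpr (hle hy)
  have h5 : ∀ q : ℕ, q.Prime → q ∣ Nat.card (fittingSubgroup (S ⧸ K)) → 5 ≤ q := by
    intro q hq hqd
    have hqπ := hprime q hq hqd
    have hq2 : q ≠ 2 := fun h => h2 (h ▸ hqπ)
    have hq3 : q ≠ 3 := fun h => h3 (h ▸ hqπ)
    have hq4 : q ≠ 4 := by
      rintro rfl
      exact absurd hq (by decide)
    have := hq.two_le
    omega
  -- `F(S/K) ≤ HK/K`
  have hFbHb : fittingSubgroup (S ⧸ K) ≤ H.map (QuotientGroup.mk' K) := by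
    rw [← Subgroup.relIndex_eq_one]
    by_contra hne
    obtain ⟨q, hq, hqd⟩ := Nat.exists_prime_and_dvd hne
    have h1 : q ∣ Nat.card (fittingSubgroup (S ⧸ K)) :=
      hqd.trans (Subgroup.relIndex_dvd_card _ _)
    have hqπ := hprime q hq h1
    have h2 : (H.map (QuotientGroup.mk' K)).relIndex (fittingSubgroup (S ⧸ K)) ∣
        (H.map (QuotientGroup.mk' K)).index := by
      exact Cfsg.Agent.Lib.Helper71.relIndex_dvd_index_of_normal_right _ _
    have h3 : (H.map (QuotientGroup.mk' K)).index ∣ H.index := H.index_map_dvd hsurj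
    exact hH.2 q hq hqπ ((hqd.trans h2).trans h3)
  -- `F₁`
  obtain ⟨F₁, hF₁def⟩ : ∃ F₁ : Subgroup S,
    F₁ = (fittingSubgroup (S ⧸ K)).comap (QuotientGroup.mk' K) ⊓ H := ⟨_, rfl⟩
  have hF₁H : F₁ ≤ H := by rw [hF₁def]; exact inf_le_right
  have hF₁map : F₁.map (QuotientGroup.mk' K) = fittingSubgroup (S ⧸ K) := by
    apply le_antisymm
    · rw [Subgroup.map_le_iff_le_comap, hF₁def]
      exact inf_le_left
    · intro f hf
      obtain ⟨h, hh, rfl⟩ := hFbHb hf
      exact ⟨h, by rw [hF₁def]; exact ⟨hf, hh⟩, rfl⟩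
  have hF₁FH : F₁ ≤ FH := by
    have hn : (F₁.subgroupOf H).Normal := by
      rw [hF₁def, Subgroup.inf_subgroupOf_right]
      exact (hFbn.comap _).subgroupOf H
    have hnil : Group.IsNilpotent (F₁.subgroupOf H) := by
      have hFbnil : Group.IsNilpotent (fittingSubgroup (S ⧸ K)) :=
        Cfsg.Agent.Lib.Helper1.fittingSubgroup_isNilpotent
      let ψ : ↥(F₁.subgroupOf H) →* ↥(fittingSubgroup (S ⧸ K)) :=
        (((QuotientGroup.mk' K).comp H.subtype).comp (F₁.subgroupOf H).subtype).codRestrict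
          (fittingSubgroup (S ⧸ K)) (by
            intro x
            have hx : ((x : ↥H) : S) ∈ F₁ := Subgroup.mem_subgroupOf.mp x.2
            rw [← hF₁map]
            exact ⟨_, hx, rfl⟩)
      have hψ : Function.Injective ψ := by
        rw [injective_iff_map_eq_one]
        intro x hx
        have h1 : (QuotientGroup.mk' K) ((x : ↥H) : S) = 1 := congrArg Subtype.val hx
        have h2 := hφinj _ (x : ↥H).2 h1
        apply Subtype.ext
        apply Subtype.ext
        exact h2
      have : Group.IsNilpotent ↥ψ.range := inferInstance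
      exact Group.nilpotent_of_mulEquiv (MonoidHom.ofInjective hψ).symm
    have hle : F₁.subgroupOf H ≤ fittingSubgroup ↥H :=
      le_sSup (⟨hn, hnil⟩ : F₁.subgroupOf H ∈ {N : Subgroup ↥H | N.Normal ∧ Group.IsNilpotent N})
    have := Subgroup.map_mono (f := H.subtype) hle
    rw [Subgroup.subgroupOf_map_subtype, inf_eq_left.mpr hF₁H, ← hFHdef] at this
    exact this
  -- `A ≤ F₁`
  have hAA : ⁅A, A⁆ = ⊥ := by
    rw [Subgroup.commutator_eq_bot_iff_le_centralizer]
    exact hAab
  have hAF₁ : A ≤ F₁ := by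
    intro a ha
    have hza : Subgroup.zpowers a ≤ A := by rw [Subgroup.zpowers_le]; exact ha
    have hquadS : ⁅⁅F₁, Subgroup.zpowers a⁆, Subgroup.zpowers a⁆ = ⊥ := by
      have h1 : ⁅F₁, Subgroup.zpowers a⁆ ≤ A := by
        rw [Subgroup.commutator_le]
        intro f hf y hy
        have hfN := hFN (hF₁FH hf)
        rw [Subgroup.mem_normalizer_iff] at hfN
        rw [commutatorElement_def]
        exact mul_mem ((hfN y).mp (hza hy)) (inv_mem (hza hy))
      rw [eq_bot_iff, ← hAA]
      exact Subgroup.commutator_mono h1 hza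
    have hq := quad_map (QuotientGroup.mk' K) hquadS
    rw [hF₁map] at hq
    have := mem_fittingSubgroup_of_quadratic h5 _ hq
    rw [hF₁def]
    exact ⟨this, hAH ha⟩
  -- images in the quotient
  have hAbFb : A.map (QuotientGroup.mk' K) ≤ fittingSubgroup (S ⧸ K) := by
    rw [← hF₁map]
    exact Subgroup.map_mono hAF₁
  have hFbAb : ⁅fittingSubgroup (S ⧸ K), A.map (QuotientGroup.mk' K)⁆ ≤
      A.map (QuotientGroup.mk' K) := by
    rw [← hF₁map, ← Subgroup.map_commutator]
    apply Subgroup.map_mono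
    rw [Subgroup.commutator_le]
    intro f hf y hy
    have hfN := hFN (hF₁FH hf)
    rw [Subgroup.mem_normalizer_iff] at hfN
    rw [commutatorElement_def]
    exact mul_mem ((hfN y).mp hy) (inv_mem hy)
  have hFbCAb : fittingSubgroup (S ⧸ K) ⊓
      Subgroup.centralizer (A.map (QuotientGroup.mk' K) : Set (S ⧸ K)) ≤
      A.map (QuotientGroup.mk' K) := by
    rintro z ⟨hzF, hzC⟩
    rw [← hF₁map] at hzF
    obtain ⟨f, hf, rfl⟩ := hzF
    have hfC : f ∈ Subgroup.centralizer (A : Set S) := by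
      rw [Subgroup.mem_centralizer_iff]
      intro a ha
      have h1 : (QuotientGroup.mk' K) (a * f * a⁻¹ * f⁻¹) = 1 := by
        have := Subgroup.mem_centralizer_iff.mp hzC ((QuotientGroup.mk' K) a) ⟨a, ha, rfl⟩
        rw [map_mul, map_mul, map_mul, this, map_inv, map_inv]
        group
      have h2 : a * f * a⁻¹ * f⁻¹ ∈ H :=
        mul_mem (mul_mem (mul_mem (hAH ha) (hF₁H hf)) (inv_mem (hAH ha))) (inv_mem (hF₁H hf))
      have h3 := hφinj _ h2 h1
      calc a * f = (a * f * a⁻¹ * f⁻¹) * (f * a) := by group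
        _ = f * a := by rw [h3, one_mul]
    have hfA : f ∈ A := by
      rw [← hFC]
      exact ⟨hF₁FH hf, hfC⟩
    exact ⟨f, hfA, rfl⟩
  -- `C_S(A) ≤ A K`
  have hCAK : ∀ y ∈ Subgroup.centralizer (A : Set S), ∃ a ∈ A,
      (QuotientGroup.mk' K) a = (QuotientGroup.mk' K) y := by
    intro y hy
    have hAX : ⁅A.map (QuotientGroup.mk' K), Subgroup.zpowers ((QuotientGroup.mk' K) y)⁆ = ⊥ := by
      rw [← MonoidHom.map_zpowers, ← Subgroup.map_commutator]
      have : ⁅A, Subgroup.zpowers y⁆ = ⊥ := by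
        rw [Subgroup.commutator_eq_bot_iff_le_centralizer, Subgroup.le_centralizer_iff,
          Subgroup.zpowers_le]
        exact hy
      rw [this, Subgroup.map_bot]
    have h3 : ⁅⁅Subgroup.zpowers ((QuotientGroup.mk' K) y), fittingSubgroup (S ⧸ K)⁆,
        A.map (QuotientGroup.mk' K)⁆ = ⊥ := by
      apply Subgroup.commutator_commutator_eq_bot_of_rotate
      · rw [eq_bot_iff, ← hAX]
        exact Subgroup.commutator_mono hFbAb le_rfl
      · rw [hAX, eq_bot_iff, Subgroup.commutator_le]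
        intro a ha b _
        rw [Subgroup.mem_bot] at ha
        rw [ha, commutatorElement_one_left]
        exact Subgroup.one_mem _
    have h4 : ⁅fittingSubgroup (S ⧸ K), Subgroup.zpowers ((QuotientGroup.mk' K) y)⁆ ≤
        A.map (QuotientGroup.mk' K) := by
      rw [Subgroup.commutator_comm]
      apply le_trans _ hFbCAb
      apply le_inf
      · rw [Subgroup.commutator_comm]
        exact Subgroup.commutator_le_left _ _
      · rw [← Subgroup.commutator_eq_bot_iff_le_centralizer]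
        exact h3
    have hquad : ⁅⁅fittingSubgroup (S ⧸ K), Subgroup.zpowers ((QuotientGroup.mk' K) y)⁆,
        Subgroup.zpowers ((QuotientGroup.mk' K) y)⁆ = ⊥ := by
      rw [eq_bot_iff, ← hAX]
      exact Subgroup.commutator_mono h4 le_rfl
    have hyF := mem_fittingSubgroup_of_quadratic h5 _ hquad
    have hyC : (QuotientGroup.mk' K) y ∈
        Subgroup.centralizer (A.map (QuotientGroup.mk' K) : Set (S ⧸ K)) := by
      have h5' : Subgroup.zpowers ((QuotientGroup.mk' K) y) ≤
          Subgroup.centralizer (A.map (QuotientGroup.mk' K) : Set (S ⧸ K)) := by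
        rw [← Subgroup.commutator_eq_bot_iff_le_centralizer, Subgroup.commutator_comm]
        exact hAX
      exact h5' (Subgroup.mem_zpowers _)
    obtain ⟨a, ha, hay⟩ := hFbCAb ⟨hyF, hyC⟩
    exact ⟨a, ha, hay⟩
  -- the complement
  refine ⟨Subgroup.centralizer (A : Set S) ⊓ K, inf_le_left, ?_, ?_, ?_, ?_⟩
  · intro c hc d hd
    have hd' := Subgroup.mem_inf.mp hd
    exact Subgroup.mem_inf.mpr ⟨mul_mem (mul_mem hc hd'.1) (inv_mem hc), hKn.conj_mem d hd'.2 c⟩
  · rw [eq_bot_iff]
    rintro x ⟨hxA, -, hxK⟩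
    rw [Subgroup.mem_bot]
    exact hHK x (hAH hxA) hxK
  · apply le_antisymm
    · exact sup_le hAab inf_le_left
    · intro y hy
      obtain ⟨a, ha, hay⟩ := hCAK y hy
      have hK : a⁻¹ * y ∈ K := by
        rw [← QuotientGroup.eq_one_iff]
        change (QuotientGroup.mk' K) (a⁻¹ * y) = 1
        rw [map_mul, map_inv, hay, inv_mul_cancel]
      have : y = a * (a⁻¹ * y) := by group
      rw [this]
      exact Subgroup.mul_mem_sup ha (Subgroup.mem_inf.mpr ⟨mul_mem (inv_mem (hAab ha)) hy, hK⟩)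
  · intro q hq hqd hqπ
    have h1 : q ∣ Nat.card K := hqd.trans (Subgroup.card_dvd_of_le inf_le_right)
    have h2 : q ∣ Nat.card H * H.index := by
      rw [Subgroup.card_mul_index]
      exact h1.trans (Subgroup.card_subgroup_dvd_card K)
    rcases (Nat.Prime.dvd_mul hq).mp h2 with h | h
    · have := Nat.Coprime.eq_one_of_dvd (Nat.Coprime.coprime_dvd_left h1 hKcop) h
      exact hq.one_lt.ne' this
    · exact hH.2 q hq hqπ h

/-- Let S be a finite solvable group, π a set of primes containing neither 2 nor 3, H a Hall π-subgroup of S, and A a self-centralizing normal subgroup of the Fitting subgroup F(H). Then C_S(A) = A × D for a normal subgroup D of C_S(A) whose order has no prime divisor in π. -/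
theorem result {S : Type*} [Group S] [Finite S] [Group.IsSolvable S]
    (π : Set ℕ) (h2 : 2 ∉ π) (h3 : 3 ∉ π) (H : Subgroup S) (hH : Cfsg.IsPiHall π H)
    (A : Subgroup S) (hA : Cfsg.IsSCN ((Cfsg.fittingSubgroup H).map H.subtype) A) :
    ∃ D : Subgroup S, D ≤ Subgroup.centralizer (A : Set S) ∧
      (∀ c ∈ Subgroup.centralizer (A : Set S), ∀ d ∈ D, c * d * c⁻¹ ∈ D) ∧
      A ⊓ D = ⊥ ∧ A ⊔ D = Subgroup.centralizer (A : Set S) ∧
      ∀ q : ℕ, q.Prime → q ∣ Nat.card D → q ∉ π := by
  exact main π h2 h3 H hH A hA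

end Cfsg.Agent.S1893
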