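import Cfsg.Statements.S1894
-- import your own Cfsg.Agent.* helpers here
import Mathlib.GroupTheory.GroupAction.ConjAct
import Mathlib.Order.Preorder.Finite

set_option autoImplicit false
open Cfsg

namespace Cfsg.Agent.S1894

/-- A nontrivial normal subgroup of a finite p-group meets the centre nontrivially. -/
theorem exists_central_of_normal {G : Type*} [Group G] [Finite G] {p : ℕ} [Fact p.Prime]
    (hG : IsPGroup p G) (N : Subgroup G) [N.Normal] (hN : N ≠ ⊥) :
    ∃ x ∈ N, x ≠ 1 ∧ x ∈ Subgroup.center G := by
  have hGc : IsPGroup p (ConjAct G) := hG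
  have hcard : p ∣ Nat.card N := by
    rcases (hG.to_subgroup N).card_eq_or_dvd with h | h
    · exact absurd (Subgroup.card_eq_one.mp h) hN
    · exact h
  have h1 : (1 : N) ∈ MulAction.fixedPoints (ConjAct G) N := fun g => smul_one g
  obtain ⟨b, hb, hne⟩ := hGc.exists_fixed_point_of_prime_dvd_card_of_fixed_point N hcard h1
  refine ⟨b.1, b.2, ?_, ?_⟩
  · intro h
    apply hne
    ext
    exact h.symm
  · rw [Subgroup.mem_center_iff]
    intro g
    have := hb (ConjAct.toConjAct g)
    have h2 := congrArg Subtype.val this
    rw [ConjAct.Subgroup.val_conj_smul, ConjAct.smul_def, ConjAct.ofConjAct_toConjAct] at h2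
    calc g * b = g * b * g⁻¹ * g := by group
      _ = b * g := by rw [h2]

/-- Let P be a finite p-group, A a normal subgroup of P and B an abelian subgroup of A that is normal in P. Then some subgroup C of A containing B is normal in P and is self-centralizing and normal in A (C ∈ SCN(A)). -/
theorem result {P : Type*} [Group P] [Finite P] {p : ℕ} [Fact p.Prime] (hP : IsPGroup p P)
    (A : Subgroup P) [A.Normal] (B : Subgroup P) [B.Normal] (hBA : B ≤ A) (hB : IsMulCommutative B) :
    ∃ C : Subgroup P, C.Normal ∧ B ≤ C ∧ Cfsg.IsSCN A C := by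
  let S : Subgroup P → Prop := fun C => C.Normal ∧ B ≤ C ∧ C ≤ A ∧ IsMulCommutative C
  have hBS : S B := ⟨inferInstance, le_rfl, hBA, hB⟩
  obtain ⟨C, hBC, hCmax⟩ := Finite.exists_le_maximal hBS
  obtain ⟨⟨hCn, -, hCA, hCc⟩, hmax⟩ := hCmax
  refine ⟨C, hCn, hBC, hCA, ?_, ?_⟩
  · rw [Subgroup.normalizer_eq_top_iff.mpr hCn]
    exact le_top
  · apply le_antisymm
    · by_contra hnot
      obtain ⟨D, hD⟩ : ∃ D : Subgroup P, D = A ⊓ Subgroup.centralizer (C : Set P) := ⟨_, rfl⟩
      rw [← hD] at hnot
      have hDn : D.Normal := by rw [hD]; infer_instance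
      have hDbar : D.map (QuotientGroup.mk' C) ≠ ⊥ := by
        intro h
        apply hnot
        intro y hy
        have : QuotientGroup.mk' C y ∈ D.map (QuotientGroup.mk' C) := Subgroup.mem_map_of_mem _ hy
        rw [h, Subgroup.mem_bot, QuotientGroup.mk'_apply, QuotientGroup.eq_one_iff] at this
        exact this
      have : (D.map (QuotientGroup.mk' C)).Normal :=
        Subgroup.Normal.map hDn _ (QuotientGroup.mk'_surjective C)
      obtain ⟨xbar, hx1, hx2, hx3⟩ :=
        exists_central_of_normal (hP.to_quotient C) (D.map (QuotientGroup.mk' C)) hDbar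
      obtain ⟨x, hxD, rfl⟩ := Subgroup.mem_map.mp hx1
      have hxA : x ∈ A := by rw [hD] at hxD; exact hxD.1
      have hxC : x ∈ Subgroup.centralizer (C : Set P) := by rw [hD] at hxD; exact hxD.2
      -- the bigger subgroup
      have hS' : S (C ⊔ Subgroup.zpowers x) := by
        refine ⟨?_, le_sup_of_le_left hBC, sup_le hCA (by rwa [Subgroup.zpowers_le]), ?_⟩
        · -- normality
          have hzn : (Subgroup.zpowers (QuotientGroup.mk' C x)).Normal := by
            constructor
            intro n hn g
            have hn' : n ∈ Subgroup.center (P ⧸ C) :=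
              (Subgroup.zpowers_le.mpr hx3) hn
            rw [Subgroup.mem_center_iff] at hn'
            have : g * n * g⁻¹ = n := by rw [hn' g]; group
            rw [this]
            exact hn
          have e : C ⊔ Subgroup.zpowers x =
              (Subgroup.zpowers (QuotientGroup.mk' C x)).comap (QuotientGroup.mk' C) := by
            rw [← MonoidHom.map_zpowers, Subgroup.comap_map_eq, QuotientGroup.ker_mk', sup_comm]
          rw [e]
          exact Subgroup.Normal.comap hzn _
        · -- commutativity
          have hcomm : ∀ a ∈ (C : Set P) ∪ {x}, ∀ b ∈ (C : Set P) ∪ {x}, a * b = b * a := by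
            have hCcomm : ∀ a ∈ C, ∀ b ∈ C, a * b = b * a := by
              intro a ha b hb
              have := hCc.is_comm.comm ⟨a, ha⟩ ⟨b, hb⟩
              exact congrArg Subtype.val this
            rw [Subgroup.mem_centralizer_iff] at hxC
            rintro a (ha | ha) b (hb | hb)
            · exact hCcomm a ha b hb
            · rw [Set.mem_singleton_iff] at hb; subst hb; exact hxC a ha
            · rw [Set.mem_singleton_iff] at ha; subst ha; exact (hxC b hb).symm
            · rw [Set.mem_singleton_iff] at ha hb; subst ha; subst hb; rfl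
          have e : C ⊔ Subgroup.zpowers x = Subgroup.closure ((C : Set P) ∪ {x}) := by
            rw [Subgroup.closure_union, Subgroup.closure_eq, Subgroup.zpowers_eq_closure]
          rw [e]
          exact Subgroup.isMulCommutative_closure hcomm
      have hle := hmax hS' le_sup_left
      have hxC' : x ∈ C := hle (Subgroup.mem_sup_right (Subgroup.mem_zpowers x))
      apply hx2
      rw [QuotientGroup.mk'_apply, QuotientGroup.eq_one_iff]
      exact hxC'
    · apply le_inf hCA
      exact Subgroup.le_centralizer_iff_isMulCommutative.mpr hCc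

end Cfsg.Agent.S1894
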