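import Cfsg.Statements.S1895
import Cfsg.Agent.Lib.Helper67.RankTwoChief
import Cfsg.Agent.Lib.Helper24.OddSolvableStructure
import Cfsg.Agent.Lib.Helper76.PCore

set_option autoImplicit false
open Cfsg

namespace Cfsg.Agent.S1895

/-- Let p be an odd prime and G a finite p-solvable group with no elementary abelian subgroup of order p³. Then every chief factor H/K of G (H, K normal in G with no normal subgroup of G strictly between them) whose order is a power of p has order p or p². -/
theorem result {G : Type*} [Group G] [Finite G] {p : ℕ} [Fact p.Prime] (hp : p ≠ 2)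
    (hG : Cfsg.IsPSolvable p G) (hr : Cfsg.PRankLE p 2 G)
    (H K : Subgroup G) [H.Normal] [K.Normal] (hKH : K < H) (hpow : ∃ n : ℕ, K.relIndex H = p ^ n)
    (hchief : ∀ L : Subgroup G, L.Normal → K ≤ L → L ≤ H → L = K ∨ L = H) :
    K.relIndex H = p ∨ K.relIndex H = p ^ 2 := by
  have hNn : (pPrimeCore p G).Normal := inferInstance
  have hNcop : (Nat.card (pPrimeCore p G)).Coprime p :=
    Cfsg.Agent.Lib.Helper76.pPrimeCore_coprime p
  have hQsolv : Cfsg.IsPSolvable p (G ⧸ pPrimeCore p G) :=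
    Cfsg.Agent.Lib.Helper76.IsPSolvable_of_surjective p (QuotientGroup.mk' (pPrimeCore p G))
      (QuotientGroup.mk'_surjective _) hG
  have hQr : Cfsg.PRankLE p 2 (G ⧸ pPrimeCore p G) :=
    Cfsg.Agent.Lib.Helper24.pRankLE_quotient p 2 (pPrimeCore p G) hNcop hr
  have hQcore : ∀ N : Subgroup (G ⧸ pPrimeCore p G), N.Normal → (Nat.card N).Coprime p → N = ⊥ :=
    fun N hN hc => Cfsg.Agent.Lib.Helper76.quotient_pPrimeCore_core_trivial p N hN hc
  have h1 : Cfsg.Agent.Lib.Helper67.SmallChief p (⊥ : Subgroup (G ⧸ pPrimeCore p G)) ⊤ :=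
    Cfsg.Agent.Lib.Helper67.smallChief_of_core_trivial hp hQsolv hQr hQcore
  have h2 : Cfsg.Agent.Lib.Helper67.SmallChief p (pPrimeCore p G) ⊤ :=
    Cfsg.Agent.Lib.Helper67.smallChief_of_quotient (pPrimeCore p G) h1
  have h3 : Cfsg.Agent.Lib.Helper67.SmallChief p (⊥ : Subgroup G) (pPrimeCore p G) := by
    apply Cfsg.Agent.Lib.Helper67.smallChief_of_not_dvd
    rw [Subgroup.relIndex_bot_left]
    intro hd
    have hpp : p.Prime := Fact.out
    have h4 : p ∣ Nat.card (pPrimeCore p G) := dvd_trans (dvd_pow_self p (by norm_num)) hd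
    have h5 := Nat.Coprime.eq_one_of_dvd hNcop.symm h4
    exact hpp.one_lt.ne' h5
  have h4 := Cfsg.Agent.Lib.Helper67.smallChief_trans ⊥ (pPrimeCore p G) ⊤ bot_le le_top h3 h2
  exact h4 H K inferInstance inferInstance bot_le hKH le_top hpow hchief

end Cfsg.Agent.S1895
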