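import Cfsg.Statements.S1896
import Mathlib
import Cfsg.Agent.Lib.Helper53.MetacyclicTwo

set_option autoImplicit false
open Cfsg

namespace Cfsg.Agent.S1896

/-- A finite metacyclic 2-group whose automorphism group is not a 2-group is isomorphic to the quaternion group of order 8 or to a homocyclic abelian group Z_{2^n} × Z_{2^n}. -/
theorem result {X : Type*} [Group X] [Finite X] (hX : IsPGroup 2 X)
    (hm : Cfsg.IsMetacyclic X) (hA : ¬ IsPGroup 2 (MulAut X)) :
    Nonempty (X ≃* QuaternionGroup 2) ∨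
      ∃ n : ℕ, Nonempty (X ≃* Multiplicative (ZMod (2 ^ n)) × Multiplicative (ZMod (2 ^ n))) := by
  classical
  obtain ⟨N, hNn, hNc, hQc⟩ := hm
  have hfinA : Finite (MulAut X) :=
    Finite.of_injective (fun α : MulAut X => (α : X → X)) DFunLike.coe_injective
  -- an automorphism whose order is not a power of 2
  have hex : ∃ β : MulAut X, ∀ k : ℕ, β ^ 2 ^ k ≠ 1 := by
    by_contra hcon
    push Not at hcon
    exact hA hcon
  obtain ⟨β, hβ⟩ := hex
  have hr0 : 0 < orderOf β := orderOf_pos β
  rcases Nat.eq_two_pow_or_exists_odd_prime_and_dvd (orderOf β) with ⟨k, hk⟩ | ⟨q, hqp, hqd, hqodd⟩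
  · exact absurd (by rw [← hk]; exact pow_orderOf_eq_one β) (hβ k)
  · haveI : Fact q.Prime := ⟨hqp⟩
    have hq2 : q ≠ 2 := by
      rintro rfl
      exact absurd hqodd (by decide)
    set α := β ^ (orderOf β / q) with hα
    have hoα : orderOf α = q := orderOf_pow_orderOf_div hr0.ne' hqd
    have hαq : α ^ q = 1 := by rw [← hoα]; exact pow_orderOf_eq_one α
    have hα1 : α ≠ 1 := by
      intro h
      rw [h, orderOf_one] at hoα
      exact hqp.one_lt.ne hoα
    exact Cfsg.Agent.Lib.Helper53.metacyclic_two_core hX N hNc hQc α q hq2 hαq hα1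

end Cfsg.Agent.S1896
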