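import Cfsg.Statements.S1897
import Cfsg.Agent.Lib.Helper57.HomL27
import Cfsg.Agent.Lib.Helper57.PSLMap

set_option autoImplicit false
open Cfsg

namespace Cfsg.Agent.S1897

open Cfsg.Agent.Lib.Helper57

/-- The projective special unitary group PSU₃(3) (realised over the field with 9 elements) has a subgroup isomorphic to PSL₂(7). -/
theorem result {F : Type*} [Field F] [Fintype F] (hF : Fintype.card F = 9)
    {K : Type*} [Field K] [Fintype K] (hK : Fintype.card K = 7) :
    ∃ H : Subgroup (Cfsg.PSU 3 F 3), Nonempty (H ≃* Matrix.ProjectiveSpecialLinearGroup (Fin 2) K) := by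
  have := charP_three_of_card_nine hF
  obtain ⟨Φ, hΦ⟩ := L27.exists_hom_SL27_SU33 hF
  have : Fact (Nat.Prime 7) := ⟨by norm_num⟩
  have e7 : ZMod 7 ≃+* K := ZMod.ringEquivOfPrime K (by norm_num) hK
  -- compose with the quotient map to `PSU`
  let comp : Matrix.SpecialLinearGroup (Fin 2) (ZMod 7) →* Cfsg.PSU 3 F 3 :=
    (QuotientGroup.mk' (Subgroup.center (Cfsg.SU 3 F 3))).comp Φ
  have hker : comp.ker = Subgroup.center (Matrix.SpecialLinearGroup (Fin 2) (ZMod 7)) := by
    rw [← hΦ]
    ext g
    simp only [comp, MonoidHom.mem_ker, MonoidHom.coe_comp, Function.comp_apply,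
      QuotientGroup.mk'_apply, QuotientGroup.eq_one_iff]
    rw [center_SU33_eq_bot (F := F), Subgroup.mem_bot]
  refine ⟨comp.range, ⟨?_⟩⟩
  exact ((QuotientGroup.quotientKerEquivRange comp).symm.trans
    (QuotientGroup.quotientMulEquivOfEq hker)).trans (pslMapEquiv e7)

end Cfsg.Agent.S1897
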