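import Cfsg.Statements.S1898
-- import your own Cfsg.Agent.* helpers here

set_option autoImplicit false
open Cfsg

namespace Cfsg.Agent.S1898

open scoped commutatorElement

section
variable {X : Type*} [Group X]

/-- the commutator element is in the commutator subgroup -/
theorem comm_mem (x y : X) : x * y * x⁻¹ * y⁻¹ ∈ commutator X := by
  have := Subgroup.commutator_mem_commutator (H₁ := (⊤ : Subgroup X)) (H₂ := ⊤)
    (Subgroup.mem_top x) (Subgroup.mem_top y)
  rw [commutatorElement_def] at this
  exact this

/-- squares are central when commutators are central involutions -/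
theorem sq_central (hel : Cfsg.IsElementaryAbelian 2 (commutator X))
    (hcen : commutator X ≤ Subgroup.center X) (x y : X) : x ^ 2 * y = y * x ^ 2 := by
  obtain ⟨c, hc⟩ : ∃ c, c = x * y * x⁻¹ * y⁻¹ := ⟨_, rfl⟩
  have hcm : c ∈ commutator X := hc ▸ comm_mem x y
  have hcz := Subgroup.mem_center_iff.mp (hcen hcm)
  have hc2 : c * c = 1 := by have := hel.2 c hcm; rwa [pow_two] at this
  have hxy : x * y = c * y * x := by rw [hc]; group
  rw [pow_two]
  calc x * x * y = x * (x * y) := by rw [mul_assoc]
    _ = x * (c * y * x) := by rw [hxy]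
    _ = (x * c) * y * x := by simp only [mul_assoc]
    _ = (c * x) * y * x := by rw [hcz x]
    _ = c * (x * y) * x := by simp only [mul_assoc]
    _ = c * (c * y * x) * x := by rw [hxy]
    _ = (c * c) * y * x * x := by simp only [mul_assoc]
    _ = y * (x * x) := by rw [hc2, one_mul, mul_assoc]

/-- the fourth power map is multiplicative -/
theorem pow_four_mul (hel : Cfsg.IsElementaryAbelian 2 (commutator X))
    (hcen : commutator X ≤ Subgroup.center X) (x y : X) : (x * y) ^ 4 = x ^ 4 * y ^ 4 := by
  obtain ⟨c, hc⟩ : ∃ c, c = y * x * y⁻¹ * x⁻¹ := ⟨_, rfl⟩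
  have hcm : c ∈ commutator X := hc ▸ comm_mem y x
  have hcz := Subgroup.mem_center_iff.mp (hcen hcm)
  have hc2 : c * c = 1 := by have := hel.2 c hcm; rwa [pow_two] at this
  have hyx : y * x = c * x * y := by rw [hc]; group
  have h2 : (x * y) * (x * y) = c * ((x * x) * (y * y)) := by
    calc (x * y) * (x * y) = x * (y * x) * y := by simp only [mul_assoc]
      _ = x * (c * x * y) * y := by rw [hyx]
      _ = (x * c) * x * y * y := by simp only [mul_assoc]
      _ = (c * x) * x * y * y := by rw [hcz x]
      _ = c * ((x * x) * (y * y)) := by simp only [mul_assoc]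
  have hs : (y * y) * (x * x) = (x * x) * (y * y) := by
    have := sq_central hel hcen y (x * x)
    rwa [pow_two] at this
  have e4 : ∀ z : X, z ^ 4 = (z * z) * (z * z) := fun z => by
    simp only [pow_succ, pow_zero, one_mul, mul_assoc]
  rw [e4, e4, e4]
  calc (x * y) * (x * y) * ((x * y) * (x * y))
      = c * ((x * x) * (y * y)) * (c * ((x * x) * (y * y))) := by rw [h2]
    _ = c * (((x * x) * (y * y)) * c) * ((x * x) * (y * y)) := by simp only [mul_assoc]
    _ = c * (c * ((x * x) * (y * y))) * ((x * x) * (y * y)) := by rw [hcz]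
    _ = (c * c) * (x * x) * ((y * y) * (x * x)) * (y * y) := by simp only [mul_assoc]
    _ = (c * c) * (x * x) * ((x * x) * (y * y)) * (y * y) := by rw [hs]
    _ = (x * x) * (x * x) * ((y * y) * (y * y)) := by rw [hc2]; simp only [one_mul, mul_assoc]

end

/-- Let X be a finite 2-group whose derived subgroup is elementary abelian and central. Then the subgroup generated by the elements of order dividing 4 has exponent dividing 4, and every automorphism of X fixing each element of order dividing 4 has 2-power order. -/
theorem result {X : Type*} [Group X] [Finite X] (hX : IsPGroup 2 X)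
    (hel : Cfsg.IsElementaryAbelian 2 (commutator X)) (hcen : commutator X ≤ Subgroup.center X) :
    (∀ x ∈ Subgroup.closure {g : X | g ^ 4 = 1}, x ^ 4 = 1) ∧
      ∀ φ : MulAut X, (∀ g : X, g ^ 4 = 1 → φ g = g) → ∃ k : ℕ, φ ^ (2 ^ k) = 1 := by
  have hmul := pow_four_mul hel hcen
  constructor
  · intro x hx
    induction hx using Subgroup.closure_induction with
    | mem g hg => exact hg
    | one => exact one_pow 4
    | mul a b _ _ ha hb => rw [hmul, ha, hb, one_mul]
    | inv a _ ha => rw [inv_pow, ha, inv_one]
  · intro φ hφ
    obtain ⟨k, r, hr, hkr⟩ := Nat.exists_eq_two_pow_mul_odd (orderOf_pos φ).ne'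
    refine ⟨k, ?_⟩
    obtain ⟨ψ, hψ⟩ : ∃ ψ : MulAut X, ψ = φ ^ (2 ^ k) := ⟨_, rfl⟩
    rw [← hψ]
    have hψr : ψ ^ r = 1 := by rw [hψ, ← pow_mul, ← hkr, pow_orderOf_eq_one]
    -- powers of φ fix elements of order dividing 4
    have hφpow : ∀ (m : ℕ) (g : X), g ^ 4 = 1 → (φ ^ m) g = g := by
      intro m
      induction m with
      | zero => intro g _; simp
      | succ m ih => intro g hg; rw [pow_succ, MulAut.mul_apply, hφ g hg, ih g hg]
    have hψfix : ∀ g : X, g ^ 4 = 1 → ψ g = g := fun g hg => by rw [hψ]; exact hφpow _ g hg
    -- main claim by induction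
    have key : ∀ (j : ℕ) (x : X), x ^ (2 ^ (j + 2)) = 1 → ψ x = x := by
      intro j
      induction j with
      | zero => intro x hx; exact hψfix x (by simpa using hx)
      | succ j ih =>
        intro x hx
        have hx2 : ψ (x ^ 2) = x ^ 2 := by
          apply ih
          rw [← pow_mul, ← pow_succ']
          exact hx
        obtain ⟨c, hc⟩ : ∃ c, c = x⁻¹ * ψ x := ⟨_, rfl⟩
        have hψx : ψ x = x * c := by rw [hc]; group
        have hc4 : c ^ 4 = 1 := by
          rw [hc, hmul, inv_pow, ← map_pow]
          have : x ^ 4 = (x ^ 2) ^ 2 := by group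
          rw [this, map_pow, hx2]
          group
        have hψc : ψ c = c := hψfix c hc4
        have hpow : ∀ i : ℕ, (ψ ^ i) x = x * c ^ i := by
          intro i
          induction i with
          | zero => simp
          | succ i ihi =>
            rw [pow_succ', MulAut.mul_apply, ihi, map_mul, map_pow, hψc, hψx]
            group
        have h1 := hpow r
        rw [hψr, MulAut.one_apply] at h1
        have hcr : c ^ r = 1 := by
          have : x * c ^ r = x * 1 := by rw [mul_one]; exact h1.symm
          exact mul_left_cancel this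
        have hc1 : c = 1 := by
          have hcop : Nat.Coprime r 4 := by
            have : Nat.Coprime r 2 := Nat.Coprime.symm (Nat.coprime_two_left.mpr hr)
            exact Nat.Coprime.pow_right 2 this
          have := orderOf_dvd_of_pow_eq_one hcr
          have h4 := orderOf_dvd_of_pow_eq_one hc4
          have := Nat.dvd_gcd this h4
          rw [hcop] at this
          exact orderOf_eq_one_iff.mp (Nat.dvd_one.mp this)
        rw [hψx, hc1, mul_one]
    apply MulEquiv.ext
    intro x
    obtain ⟨j, hj⟩ := (hX x)
    rw [MulAut.one_apply]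
    apply key j x
    rw [pow_add, pow_mul, hj, one_pow]

end Cfsg.Agent.S1898
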