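import Cfsg.Statements.S1899
import Mathlib.GroupTheory.Complement
import Mathlib.GroupTheory.Index
-- import your own Cfsg.Agent.* helpers here

set_option autoImplicit false
open Cfsg

namespace Cfsg.Agent.S1899

/-- Let a dihedral group of order 2n, n odd and n > 1, act on a finite abelian 2-group A through automorphisms d and t with d^n = 1, t² = 1 and t d t⁻¹ = d⁻¹, and suppose that d fixes only the identity. Then A is the internal direct product of C_A(t) and its image under d. -/
theorem result {A : Type*} [CommGroup A] [Finite A] (hA : IsPGroup 2 A)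
    {n : ℕ} (hn : Odd n) (hn1 : 1 < n) (d t : MulAut A) (hd : d ^ n = 1) (ht : t ^ 2 = 1) (hdt : t * d * t⁻¹ = d⁻¹)
    (hfix : ∀ a : A, d a = a → a = 1) :
    (MulEquiv.toMonoidHom t).eqLocus (MonoidHom.id A) ⊓ ((MulEquiv.toMonoidHom t).eqLocus (MonoidHom.id A)).map d.toMonoidHom = ⊥ ∧
      (MulEquiv.toMonoidHom t).eqLocus (MonoidHom.id A) ⊔ ((MulEquiv.toMonoidHom t).eqLocus (MonoidHom.id A)).map d.toMonoidHom = ⊤ := by
  obtain ⟨k, hk⟩ := hn
  -- basic facts
  have htt : ∀ a : A, t (t a) = a := by
    intro a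
    have : (t ^ 2) a = a := by rw [ht]; rfl
    rwa [pow_two, MulAut.mul_apply] at this
  obtain ⟨e, he⟩ : ∃ e : MulAut A, e = d ^ (k + 1) := ⟨_, rfl⟩
  have hee : e * e = d := by
    rw [he, ← pow_add]
    have : k + 1 + (k + 1) = n + 1 := by omega
    rw [this, pow_succ, hd, one_mul]
  have hte : t * e * t⁻¹ = e⁻¹ := by
    rw [he, ← conj_pow, hdt, inv_pow]
  have hte1 : ∀ a : A, t (e a) = e⁻¹ (t a) := by
    intro a
    have h1 : t * e = e⁻¹ * t := by rw [← hte]; group
    have := congrArg (fun f : MulAut A => f a) h1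
    simpa [MulAut.mul_apply] using this
  have hte2 : ∀ a : A, t (e⁻¹ a) = e (t a) := by
    intro a
    have h1 : t * e⁻¹ = e * t := by
      have : e = t * e⁻¹ * t⁻¹ := by
        calc e = (e⁻¹)⁻¹ := by group
          _ = (t * e * t⁻¹)⁻¹ := by rw [hte]
          _ = t * e⁻¹ * t⁻¹ := by group
      calc t * e⁻¹ = (t * e⁻¹ * t⁻¹) * t := by group
        _ = e * t := by rw [← this]
    have := congrArg (fun f : MulAut A => f a) h1
    simpa [MulAut.mul_apply] using this
  have hdee : ∀ a : A, e (e a) = d a := by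
    intro a
    rw [← hee, MulAut.mul_apply]
  have hefix : ∀ a : A, e a = e⁻¹ a → a = 1 := by
    intro a h
    apply hfix
    rw [← hdee, h, MulAut.apply_inv_self]
  have htd : ∀ a : A, t (d a) = d⁻¹ (t a) := by
    intro a
    have h1 : t * d = d⁻¹ * t := by rw [← hdt]; group
    have := congrArg (fun f : MulAut A => f a) h1
    simpa [MulAut.mul_apply] using this
  have hsq : ∀ a : A, d (d a) = a → a = 1 := by
    intro a h
    apply hfix
    have h1 : ∀ j : ℕ, ((d * d) ^ j) a = a := by
      intro j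
      induction j with
      | zero => simp
      | succ j ih => rw [pow_succ, MulAut.mul_apply, MulAut.mul_apply, h, ih]
    have h2 : (d * d) ^ (k + 1) = d := by
      rw [← pow_two, ← pow_mul]
      have : 2 * (k + 1) = n + 1 := by omega
      rw [this, pow_succ, hd, one_mul]
    have := h1 (k + 1)
    rwa [h2] at this
  -- notation
  obtain ⟨C, hC⟩ : ∃ C : Subgroup A, C = (MulEquiv.toMonoidHom t).eqLocus (MonoidHom.id A) := ⟨_, rfl⟩
  have hCmem : ∀ a : A, a ∈ C ↔ t a = a := by
    intro a
    rw [hC]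
    exact Iff.rfl
  rw [← hC]
  -- Part 1
  have hdisj : C ⊓ C.map d.toMonoidHom = ⊥ := by
    rw [eq_bot_iff]
    intro x hx
    obtain ⟨hx1, hx2⟩ := Subgroup.mem_inf.mp hx
    rw [Subgroup.mem_map] at hx2
    obtain ⟨c, hc, rfl⟩ := hx2
    rw [hCmem] at hx1 hc
    change t (d c) = d c at hx1
    rw [htd, hc] at hx1
    -- d⁻¹ c = d c
    have h2 : d (d c) = c := by
      rw [← hx1, MulAut.apply_inv_self]
    have : c = 1 := hsq c h2
    rw [Subgroup.mem_bot, this]
    exact map_one _
  refine ⟨hdisj, ?_⟩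
  have hdisj' : Disjoint C (C.map d.toMonoidHom) := disjoint_iff.mpr hdisj
  -- the hom f a = a * t a
  let f : A →* A := MonoidHom.id A * t.toMonoidHom
  have hf : ∀ a, f a = a * t a := fun a => rfl
  have hrange : f.range ≤ C := by
    rintro x ⟨a, rfl⟩
    rw [hCmem, hf, map_mul, htt, mul_comm]
  -- the hom g a = e a / e⁻¹ a
  let g : A →* A := e.toMonoidHom / (e⁻¹).toMonoidHom
  have hg : ∀ a, g a = e a / e⁻¹ a := fun a => rfl
  have hginj : Function.Injective g := by
    rw [injective_iff_map_eq_one]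
    intro a ha
    rw [hg, div_eq_one] at ha
    exact hefix a ha
  have hker : f.ker.map g ≤ C := by
    rintro x ⟨a, ha, rfl⟩
    rw [SetLike.mem_coe, MonoidHom.mem_ker, hf] at ha
    have hta : t a = a⁻¹ := by
      rw [eq_inv_iff_mul_eq_one, mul_comm]; exact ha
    rw [hCmem, hg, map_div, hte1, hte2, hta, map_inv, map_inv, inv_div_inv]
  have hc1 : Nat.card f.ker ≤ Nat.card C := by
    rw [← Subgroup.card_map_of_injective hginj]
    exact Subgroup.card_le_of_le hker
  have hc2 : Nat.card f.range ≤ Nat.card C := Subgroup.card_le_of_le hrange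
  have hc3 : Nat.card f.ker * Nat.card f.range = Nat.card A := by
    rw [← Subgroup.index_ker]
    exact Subgroup.card_mul_index _
  have hc4 : Nat.card (C.map d.toMonoidHom) = Nat.card C :=
    Subgroup.card_map_of_injective d.injective
  have hc5 : Nat.card C * Nat.card (C.map d.toMonoidHom) ≤ Nat.card A := by
    rw [← Nat.card_prod]
    exact Nat.card_le_card_of_injective _ (Subgroup.mul_injective_of_disjoint hdisj')
  have hc6 : Nat.card C * Nat.card (C.map d.toMonoidHom) = Nat.card A := by
    apply le_antisymm hc5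
    rw [hc4, ← hc3]
    exact Nat.mul_le_mul hc1 hc2
  exact (Subgroup.isComplement'_of_card_mul_and_disjoint hc6 hdisj').sup_eq_top

end Cfsg.Agent.S1899
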