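import Cfsg.Statements.S1900
import Cfsg.Agent.S0012
import Cfsg.Agent.S0055
import Cfsg.Agent.Lib.Helper48.Coprime
import Cfsg.Agent.Lib.Helper48.Generation
-- import your own Cfsg.Agent.* helpers here

set_option autoImplicit false
open Cfsg

namespace Cfsg.Agent.S1900


section general

variable {G : Type*} [Group G] [Finite G]

/-- If `X` acts coprimely on the normal `p`-subgroup `K` with `[K, X] = K`, then the fixed points
of `X` on `K` lie in the Frattini subgroup of `K`. -/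
theorem inf_centralizer_le_frattini {p : ℕ} [Fact p.Prime]
    (K X : Subgroup G) [hKn : K.Normal] (hK : IsPGroup p K)
    (hcop : (Nat.card X).Coprime (Nat.card K)) (h : ⁅K, X⁆ = K) :
    K ⊓ Subgroup.centralizer (X : Set G) ≤ (frattini K).map K.subtype := by
  have hNn : ((frattini K).map K.subtype).Normal := inferInstance
  set N : Subgroup G := (frattini K).map K.subtype with hN
  have hKKN : ⁅K, K⁆ ≤ N := by
    rw [← Subgroup.map_subtype_commutator]
    exact Subgroup.map_mono (Cfsg.Agent.S0012.result p hK).1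
  set π : G →* G ⧸ N := QuotientGroup.mk' N with hπ
  have hπs : Function.Surjective π := QuotientGroup.mk'_surjective N
  have hVn : (K.map π).Normal := hKn.map π hπs
  have hVc : IsMulCommutative (K.map π) := by
    rw [← Subgroup.le_centralizer_iff_isMulCommutative,
      ← Subgroup.commutator_eq_bot_iff_le_centralizer, ← Subgroup.map_commutator,
      Subgroup.map_eq_bot_iff, hπ, QuotientGroup.ker_mk']
    exact hKKN
  have hcopV : (Nat.card (X.map π)).Coprime (Nat.card (K.map π)) :=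
    Nat.Coprime.of_dvd (Subgroup.card_map_dvd X π) (Subgroup.card_map_dvd K π) hcop
  have hnorm : X.map π ≤ Subgroup.normalizer ((K.map π : Subgroup (G ⧸ N)) : Set (G ⧸ N)) := by
    rw [Subgroup.normalizer_eq_top]; exact le_top
  obtain ⟨h55, -⟩ := Cfsg.Agent.S0055.result (X.map π) (K.map π) hnorm hcopV
  have hcomm : ⁅K.map π, X.map π⁆ = K.map π := by
    rw [← Subgroup.map_commutator, h]
  rw [hcomm] at h55
  rintro k ⟨hkK, hkC⟩
  have hkK : k ∈ K := hkK
  have hkC : k ∈ Subgroup.centralizer (X : Set G) := hkC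
  have hmem : π k ∈ (K.map π ⊓ Subgroup.centralizer ((X.map π : Subgroup (G ⧸ N)) : Set (G ⧸ N))) ⊓
      K.map π := by
    refine ⟨⟨Subgroup.mem_map_of_mem π hkK, ?_⟩, Subgroup.mem_map_of_mem π hkK⟩
    show π k ∈ Subgroup.centralizer ((X.map π : Subgroup (G ⧸ N)) : Set (G ⧸ N))
    rw [Subgroup.mem_centralizer_iff]
    rintro _ ⟨x, hx, rfl⟩
    rw [← map_mul, ← map_mul, Subgroup.mem_centralizer_iff.mp hkC x hx]
  rw [h55, Subgroup.mem_bot] at hmem
  exact (QuotientGroup.eq_one_iff k).mp hmem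

/-- Non-generator property of the Frattini subgroup, for a subgroup `K` of `G`. -/
theorem le_of_le_frattini_sup (K H : Subgroup G) (hHK : H ≤ K)
    (h : K ≤ (frattini K).map K.subtype ⊔ H) : K ≤ H := by
  have h1 : H.subgroupOf K ⊔ frattini K = ⊤ := by
    rw [eq_top_iff]
    intro x _
    have hx : (x : G) ∈ (frattini K ⊔ H.subgroupOf K).map K.subtype := by
      rw [Subgroup.map_sup, Subgroup.subgroupOf_map_subtype, inf_of_le_left hHK]
      exact h x.2
    obtain ⟨y, hy, hyx⟩ := hx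
    have : y = x := Subtype.ext hyx
    rw [← this, sup_comm]
    exact hy
  have h2 := frattini_nongenerating h1
  rw [Subgroup.subgroupOf_eq_top] at h2
  exact h2

end general

section main

variable {S : Type*} [Group S] [Finite S] {p q : ℕ} [Fact p.Prime] [Fact q.Prime]

omit [Finite S] [Fact p.Prime] [Fact q.Prime] in
/-- an abelian group `Q` normalizing `K` normalizes `K ⊓ C(X)` for `X ≤ Q`. -/
theorem le_normalizer_inf_centralizer (Q X K : Subgroup S)
    (hQcomm : ∀ x ∈ Q, ∀ y ∈ Q, x * y = y * x) (hX : X ≤ Q)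
    (hQK : Q ≤ Subgroup.normalizer (K : Set S)) :
    Q ≤ Subgroup.normalizer ((K ⊓ Subgroup.centralizer (X : Set S) : Subgroup S) : Set S) := by
  intro g hg
  rw [Subgroup.mem_normalizer_iff]
  have key : ∀ g ∈ Q, ∀ n ∈ K ⊓ Subgroup.centralizer (X : Set S),
      g * n * g⁻¹ ∈ K ⊓ Subgroup.centralizer (X : Set S) := by
    intro g hg n hn
    refine ⟨(Subgroup.mem_normalizer_iff.mp (hQK hg) n).mp hn.1, ?_⟩
    show g * n * g⁻¹ ∈ Subgroup.centralizer (X : Set S)
    rw [Subgroup.mem_centralizer_iff]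
    intro y hy
    have h1 : y * g = g * y := hQcomm y (hX hy) g hg
    have h2 : y * n = n * y := Subgroup.mem_centralizer_iff.mp hn.2 y hy
    have h1' : y * g⁻¹ = g⁻¹ * y := by
      calc y * g⁻¹ = g⁻¹ * (g * y) * g⁻¹ := by group
        _ = g⁻¹ * (y * g) * g⁻¹ := by rw [h1]
        _ = g⁻¹ * y := by group
    calc y * (g * n * g⁻¹) = (y * g) * n * g⁻¹ := by group
      _ = (g * y) * n * g⁻¹ := by rw [h1]
      _ = g * (y * n) * g⁻¹ := by group
      _ = g * (n * y) * g⁻¹ := by rw [h2]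
      _ = g * n * (y * g⁻¹) := by group
      _ = g * n * (g⁻¹ * y) := by rw [h1']
      _ = g * n * g⁻¹ * y := by group
  intro n
  constructor
  · exact key g hg n
  · intro h
    have := key g⁻¹ (Q.inv_mem hg) _ h
    have e : g⁻¹ * (g * n * g⁻¹) * g⁻¹⁻¹ = n := by group
    rwa [e] at this

theorem not_dvd_card_of_le (hpq : p ≠ q) (P K : Subgroup S) (hP : IsPGroup p P) (hKP : K ≤ P) :
    ¬ q ∣ Nat.card K := by
  obtain ⟨k, hk⟩ := IsPGroup.iff_card.mp (hP.to_le hKP)
  rw [hk]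
  intro h
  have := (Nat.prime_dvd_prime_iff_eq (Fact.out : q.Prime) (Fact.out : p.Prime)).mp
    ((Fact.out : q.Prime).dvd_of_dvd_pow h)
  exact hpq this.symm

theorem half (hpq : p ≠ q) (P Q X₁ X₂ : Subgroup S) [hPn : P.Normal] (hP : IsPGroup p P)
    (hQcomm : ∀ x ∈ Q, ∀ y ∈ Q, x * y = y * x) (hQq : IsPGroup q Q)
    (hS : P ⊔ Q = ⊤) (h₁ : X₁ ≤ Q) (h₂ : X₂ ≤ Q)
    (hgen : ∀ K : Subgroup S, K ≤ P → Q ≤ Subgroup.normalizer (K : Set S) →
      K ≤ (K ⊓ Subgroup.centralizer (X₁ : Set S)) ⊔ (K ⊓ Subgroup.centralizer (X₂ : Set S)))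
    (hint : (P ⊓ Subgroup.centralizer (X₁ : Set S)) ⊓ (P ⊓ Subgroup.centralizer (X₂ : Set S)) = ⊥) :
    P ⊓ Subgroup.centralizer (X₂ : Set S) = ⁅P, X₁⁆ := by
  have hqP : ¬ q ∣ Nat.card P := not_dvd_card_of_le hpq P P hP le_rfl
  have hX₁q : IsPGroup q X₁ := hQq.to_le h₁
  have hnormP : ∀ H : Subgroup S, H ≤ Subgroup.normalizer (P : Set S) := by
    intro H
    rw [Subgroup.normalizer_eq_top]
    exact le_top
  set K : Subgroup S := ⁅P, X₁⁆ with hK
  have hKP : K ≤ P := Subgroup.commutator_le_left P X₁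
  have hQX₁ : Q ≤ Subgroup.normalizer (X₁ : Set S) := by
    refine le_trans ?_ (Subgroup.centralizer_le_normalizer _)
    intro g hg
    rw [Subgroup.mem_centralizer_iff]
    intro y hy
    exact hQcomm y (h₁ hy) g hg
  have hQK : Q ≤ Subgroup.normalizer (K : Set S) :=
    le_trans (le_inf (hnormP Q) hQX₁)
      (Cfsg.Agent.Lib.Helper48.normalizer_inf_le_normalizer_commutator P X₁)
  have hKn : K.Normal := by
    rw [← Subgroup.normalizer_eq_top_iff, eq_top_iff, ← hS]
    exact sup_le (Subgroup.normalizer_commutator_ge_left P X₁) hQK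
  have hKK : ⁅K, X₁⁆ = K :=
    Cfsg.Agent.Lib.Helper48.commutator_commutator_eq hX₁q hqP (hnormP X₁)
  have hKp : IsPGroup p K := hP.to_le hKP
  have hcop : (Nat.card X₁).Coprime (Nat.card K) := by
    obtain ⟨a, ha⟩ := IsPGroup.iff_card.mp hX₁q
    obtain ⟨b, hb⟩ := IsPGroup.iff_card.mp hKp
    rw [ha, hb]
    apply Nat.Coprime.pow
    exact (Nat.coprime_primes (Fact.out : q.Prime) (Fact.out : p.Prime)).mpr (Ne.symm hpq)
  have hfix := inf_centralizer_le_frattini K X₁ hKp hcop hKK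
  have hK2 : K ≤ K ⊓ Subgroup.centralizer (X₂ : Set S) := by
    apply le_of_le_frattini_sup K _ inf_le_left
    exact (hgen K hKP hQK).trans (sup_le_sup_right hfix _)
  apply le_antisymm
  · intro x hx
    have hX₁P₂ : X₁ ≤ Subgroup.normalizer
        ((P ⊓ Subgroup.centralizer (X₂ : Set S) : Subgroup S) : Set S) :=
      h₁.trans (le_normalizer_inf_centralizer Q X₂ P hQcomm h₂ (hnormP Q))
    obtain ⟨c, hc, w, hw, rfl⟩ := Cfsg.Agent.Lib.Helper48.exists_centralizer_mul_commutator hX₁q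
      (not_dvd_card_of_le hpq P _ hP inf_le_left) hX₁P₂ hx
    have hc1 : c = 1 := by
      have : c ∈ (P ⊓ Subgroup.centralizer (X₁ : Set S)) ⊓
          (P ⊓ Subgroup.centralizer (X₂ : Set S)) := ⟨⟨hc.1.1, hc.2⟩, hc.1⟩
      rwa [hint, Subgroup.mem_bot] at this
    rw [hc1, one_mul]
    exact Subgroup.commutator_mono inf_le_left le_rfl hw
  · exact fun x hx => ⟨hKP hx, (hK2 hx).2⟩

omit [Finite S] [Fact p.Prime] [Fact q.Prime] in
theorem centralizer_singleton_le_zpowers (u : S) :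
    Subgroup.centralizer ({u} : Set S) ≤ Subgroup.centralizer ((Subgroup.zpowers u : Subgroup S) : Set S) := by
  intro x hx
  rw [Subgroup.mem_centralizer_iff] at hx ⊢
  intro y hy
  obtain ⟨n, rfl⟩ := Subgroup.mem_zpowers_iff.mp hy
  have hc : Commute u x := hx u rfl
  exact (hc.zpow_left n).eq

theorem gen (hpq : p ≠ q) (P Q X₁ X₂ : Subgroup S) (hP : IsPGroup p P)
    (hQcomm : ∀ x ∈ Q, ∀ y ∈ Q, x * y = y * x) (hQexp : ∀ x ∈ Q, x ^ q = 1)
    (hQc : Nat.card Q = q ^ 2)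
    (honly : ∀ X : Subgroup S, X ≤ Q → Nat.card X = q →
      P ⊓ Subgroup.centralizer (X : Set S) ≠ ⊥ → X = X₁ ∨ X = X₂)
    (K : Subgroup S) (hKP : K ≤ P) (hQK : Q ≤ Subgroup.normalizer (K : Set S)) :
    K ≤ (K ⊓ Subgroup.centralizer (X₁ : Set S)) ⊔ (K ⊓ Subgroup.centralizer (X₂ : Set S)) := by
  apply Cfsg.Agent.Lib.Helper48.elemAb_generation Q hQcomm hQexp (by rw [hQc]) K _
    (not_dvd_card_of_le hpq P K hP hKP) hQK
  intro u hu hu1
  have hord : orderOf u = q := orderOf_eq_prime (hQexp u hu) hu1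
  have hcard : Nat.card (Subgroup.zpowers u) = q := by rw [Nat.card_zpowers, hord]
  have hle : Subgroup.zpowers u ≤ Q := by rw [Subgroup.zpowers_le]; exact hu
  have hcent := centralizer_singleton_le_zpowers u
  by_cases hbot : K ⊓ Subgroup.centralizer ({u} : Set S) = ⊥
  · rw [hbot]; exact bot_le
  · have hne : P ⊓ Subgroup.centralizer ((Subgroup.zpowers u : Subgroup S) : Set S) ≠ ⊥ := by
      intro h
      apply hbot
      rw [eq_bot_iff, ← h]
      exact inf_le_inf hKP hcent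
    rcases honly _ hle hcard hne with h | h
    · refine le_trans ?_ le_sup_left
      rw [← h]
      exact inf_le_inf le_rfl hcent
    · refine le_trans ?_ le_sup_right
      rw [← h]
      exact inf_le_inf le_rfl hcent

omit [Fact p.Prime] in
theorem eq_zpowers_of_card_prime (X : Subgroup S) (hc : Nat.card X = q) {x : S} (hx : x ∈ X)
    (hx1 : x ≠ 1) : Subgroup.zpowers x = X := by
  have hle : Subgroup.zpowers x ≤ X := by rw [Subgroup.zpowers_le]; exact hx
  apply Subgroup.eq_of_le_of_card_ge hle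
  rw [hc, Nat.card_zpowers]
  have hdvd : orderOf x ∣ q := by
    rw [← hc]
    have := Subgroup.card_dvd_of_le hle
    rwa [Nat.card_zpowers] at this
  rcases (Nat.dvd_prime (Fact.out : q.Prime)).mp hdvd with h | h
  · exact absurd (orderOf_eq_one_iff.mp h) hx1
  · exact h.ge

omit [Fact p.Prime] in
theorem exists_ne_one_of_card_prime (X : Subgroup S) (hc : Nat.card X = q) : ∃ x ∈ X, x ≠ 1 := by
  have hne : X ≠ ⊥ := by
    intro h
    rw [h, Subgroup.card_bot] at hc
    exact (Fact.out : q.Prime).one_lt.ne hc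
  obtain ⟨x, hx⟩ := (Subgroup.ne_bot_iff_exists_ne_one).mp hne
  exact ⟨x.1, x.2, fun h => hx (Subtype.ext h)⟩

omit [Fact p.Prime] in
theorem int (P Q X₁ X₂ : Subgroup S)
    (hQcomm : ∀ x ∈ Q, ∀ y ∈ Q, x * y = y * x) (hQexp : ∀ x ∈ Q, x ^ q = 1)
    (h₁ : X₁ ≤ Q) (h₂ : X₂ ≤ Q) (h₁₂ : X₁ ≠ X₂) (hc₁ : Nat.card X₁ = q) (hc₂ : Nat.card X₂ = q)
    (honly : ∀ X : Subgroup S, X ≤ Q → Nat.card X = q →
      P ⊓ Subgroup.centralizer (X : Set S) ≠ ⊥ → X = X₁ ∨ X = X₂) :
    (P ⊓ Subgroup.centralizer (X₁ : Set S)) ⊓ (P ⊓ Subgroup.centralizer (X₂ : Set S)) = ⊥ := by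
  rw [eq_bot_iff]
  intro x hx
  rw [Subgroup.mem_bot]
  by_contra hx1
  obtain ⟨x₁, hx₁, hx₁1⟩ := exists_ne_one_of_card_prime X₁ hc₁
  obtain ⟨x₂, hx₂, hx₂1⟩ := exists_ne_one_of_card_prime X₂ hc₂
  have hz₁ := eq_zpowers_of_card_prime X₁ hc₁ hx₁ hx₁1
  have hz₂ := eq_zpowers_of_card_prime X₂ hc₂ hx₂ hx₂1
  have hxP : x ∈ P := hx.1.1
  have hxc₁ : x₁ * x = x * x₁ := Subgroup.mem_centralizer_iff.mp hx.1.2 x₁ hx₁
  have hxc₂ : x₂ * x = x * x₂ := Subgroup.mem_centralizer_iff.mp hx.2.2 x₂ hx₂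
  -- if `x₂ ∈ X₁` then `X₂ = X₁`
  have hnot₂ : x₂ ∉ X₁ := by
    intro h
    apply h₁₂
    have hle : X₂ ≤ X₁ := by rw [← hz₂, Subgroup.zpowers_le]; exact h
    exact (Subgroup.eq_of_le_of_card_ge hle (by rw [hc₁, hc₂])).symm
  have hnot₁ : x₁ ∉ X₂ := by
    intro h
    apply h₁₂
    have hle : X₁ ≤ X₂ := by rw [← hz₁, Subgroup.zpowers_le]; exact h
    exact Subgroup.eq_of_le_of_card_ge hle (by rw [hc₁, hc₂])
  set u := x₁ * x₂ with hu
  have huQ : u ∈ Q := Q.mul_mem (h₁ hx₁) (h₂ hx₂)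
  have hu1 : u ≠ 1 := by
    intro h
    apply hnot₂
    have : x₂ = x₁⁻¹ := eq_inv_of_mul_eq_one_right h
    rw [this]
    exact X₁.inv_mem hx₁
  have hord : orderOf u = q := orderOf_eq_prime (hQexp u huQ) hu1
  have hcard : Nat.card (Subgroup.zpowers u) = q := by rw [Nat.card_zpowers, hord]
  have hle : Subgroup.zpowers u ≤ Q := by rw [Subgroup.zpowers_le]; exact huQ
  have hxu : x ∈ Subgroup.centralizer ({u} : Set S) := by
    rw [Subgroup.mem_centralizer_iff]
    intro y hy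
    rw [Set.mem_singleton_iff] at hy
    subst hy
    calc x₁ * x₂ * x = x₁ * (x₂ * x) := by group
      _ = x₁ * (x * x₂) := by rw [hxc₂]
      _ = (x₁ * x) * x₂ := by group
      _ = (x * x₁) * x₂ := by rw [hxc₁]
      _ = x * (x₁ * x₂) := by group
  have hne : P ⊓ Subgroup.centralizer ((Subgroup.zpowers u : Subgroup S) : Set S) ≠ ⊥ := by
    intro h
    have : x ∈ P ⊓ Subgroup.centralizer ((Subgroup.zpowers u : Subgroup S) : Set S) :=
      ⟨hxP, centralizer_singleton_le_zpowers u hxu⟩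
    rw [h, Subgroup.mem_bot] at this
    exact hx1 this
  rcases honly _ hle hcard hne with h | h
  · apply hnot₂
    have hu₁ : u ∈ X₁ := by rw [← h]; exact Subgroup.mem_zpowers u
    have : x₂ = x₁⁻¹ * u := by rw [hu]; group
    rw [this]
    exact X₁.mul_mem (X₁.inv_mem hx₁) hu₁
  · apply hnot₁
    have hu₂ : u ∈ X₂ := by rw [← h]; exact Subgroup.mem_zpowers u
    have : x₁ = u * x₂⁻¹ := by rw [hu]; group
    rw [this]
    exact X₂.mul_mem hu₂ (X₂.inv_mem hx₂)

end main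



/-- Let S = PQ be a finite group with P a normal Sylow p-subgroup and Q elementary abelian of order q², q a prime different from p. If exactly two subgroups X₁, X₂ of order q in Q have a nontrivial centralizer in P, then P is the internal direct product of C_P(X₁) and C_P(X₂): they commute elementwise, meet trivially and generate P. -/
theorem result {S : Type*} [Group S] [Finite S] {p q : ℕ} [Fact p.Prime] [Fact q.Prime] (hpq : p ≠ q)
    (P : Sylow p S) [(P : Subgroup S).Normal] (Q : Subgroup S) (hQ : Cfsg.IsElementaryAbelian q Q) (hQc : Nat.card Q = q ^ 2)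
    (hS : (P : Subgroup S) ⊔ Q = ⊤)
    (X₁ X₂ : Subgroup S) (h₁ : X₁ ≤ Q) (h₂ : X₂ ≤ Q) (h₁₂ : X₁ ≠ X₂) (hc₁ : Nat.card X₁ = q) (hc₂ : Nat.card X₂ = q)
    (hf₁ : (P : Subgroup S) ⊓ Subgroup.centralizer (X₁ : Set S) ≠ ⊥)
    (hf₂ : (P : Subgroup S) ⊓ Subgroup.centralizer (X₂ : Set S) ≠ ⊥)
    (honly : ∀ X : Subgroup S, X ≤ Q → Nat.card X = q →
      (P : Subgroup S) ⊓ Subgroup.centralizer (X : Set S) ≠ ⊥ → X = X₁ ∨ X = X₂) :
    ⁅(P : Subgroup S) ⊓ Subgroup.centralizer (X₁ : Set S), (P : Subgroup S) ⊓ Subgroup.centralizer (X₂ : Set S)⁆ = ⊥ ∧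
      ((P : Subgroup S) ⊓ Subgroup.centralizer (X₁ : Set S)) ⊓ ((P : Subgroup S) ⊓ Subgroup.centralizer (X₂ : Set S)) = ⊥ ∧
      ((P : Subgroup S) ⊓ Subgroup.centralizer (X₁ : Set S)) ⊔ ((P : Subgroup S) ⊓ Subgroup.centralizer (X₂ : Set S)) = P := by
  obtain ⟨hQcomm', hQexp⟩ := hQ
  have hQcomm : ∀ x ∈ Q, ∀ y ∈ Q, x * y = y * x := fun x hx y hy =>
    congrArg Subtype.val (hQcomm'.is_comm.comm ⟨x, hx⟩ ⟨y, hy⟩)
  have hQq : IsPGroup q Q := IsPGroup.of_card hQc
  have hP : IsPGroup p (P : Subgroup S) := P.isPGroup'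
  have hg := gen hpq (P : Subgroup S) Q X₁ X₂ hP hQcomm hQexp hQc honly
  have hi := int (P : Subgroup S) Q X₁ X₂ hQcomm hQexp h₁ h₂ h₁₂ hc₁ hc₂ honly
  have e2 : (P : Subgroup S) ⊓ Subgroup.centralizer (X₂ : Set S) = ⁅(P : Subgroup S), X₁⁆ :=
    half hpq (P : Subgroup S) Q X₁ X₂ hP hQcomm hQq hS h₁ h₂ hg hi
  have e1 : (P : Subgroup S) ⊓ Subgroup.centralizer (X₁ : Set S) = ⁅(P : Subgroup S), X₂⁆ :=
    half hpq (P : Subgroup S) Q X₂ X₁ hP hQcomm hQq hS h₂ h₁
      (fun K a b => by rw [sup_comm]; exact hg K a b) (by rw [inf_comm]; exact hi)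
  have hnormP : Q ≤ Subgroup.normalizer ((P : Subgroup S) : Set S) := by
    rw [Subgroup.normalizer_eq_top]
    exact le_top
  refine ⟨?_, hi, ?_⟩
  · rw [eq_bot_iff, ← hi]
    apply le_inf
    · have h : (P : Subgroup S) ⊓ Subgroup.centralizer (X₂ : Set S) ≤ Subgroup.normalizer
          (((P : Subgroup S) ⊓ Subgroup.centralizer (X₁ : Set S) : Subgroup S) : Set S) := by
        rw [e1]
        exact inf_le_left.trans (Subgroup.normalizer_commutator_ge_left (P : Subgroup S) X₂)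
      exact Subgroup.le_normalizer_iff_commutator_le_left.mp h
    · have h : (P : Subgroup S) ⊓ Subgroup.centralizer (X₁ : Set S) ≤ Subgroup.normalizer
          (((P : Subgroup S) ⊓ Subgroup.centralizer (X₂ : Set S) : Subgroup S) : Set S) := by
        rw [e2]
        exact inf_le_left.trans (Subgroup.normalizer_commutator_ge_left (P : Subgroup S) X₁)
      exact Subgroup.le_normalizer_iff_commutator_le_right.mp h
  · exact le_antisymm (sup_le inf_le_left inf_le_left) (hg (P : Subgroup S) le_rfl hnormP)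

end Cfsg.Agent.S1900
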