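import Cfsg.Statements.S1901
import Cfsg.Agent.Lib.Helper48.Coprime
import Cfsg.Agent.Lib.Helper54.PCores
import Cfsg.Agent.Lib.Helper76.PCore
-- import your own Cfsg.Agent.* helpers here

set_option autoImplicit false
open Cfsg

namespace Cfsg.Agent.S1901

universe u

section helpers

theorem mem_smul_sylow' {G : Type*} [Group G] {p : ℕ} (P : Sylow p G) (g x : G) :
    x ∈ ((g • P : Sylow p G) : Subgroup G) ↔ g⁻¹ * x * g ∈ (P : Subgroup G) := by
  rw [Sylow.coe_subgroup_smul, Subgroup.mem_pointwise_smul_iff_inv_smul_mem, ← map_inv,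
    MulAut.smul_def, MulAut.conj_apply, inv_inv]

theorem card_quotient_lt {G : Type*} [Group G] [Finite G] (N : Subgroup G) [N.Normal] (hN : N ≠ ⊥) :
    Nat.card (G ⧸ N) < Nat.card G := by
  have h1 : Nat.card G = Nat.card (G ⧸ N) * Nat.card N := Subgroup.card_eq_card_quotient_mul_card_subgroup N
  have h2 : 1 < Nat.card N := N.one_lt_card_iff_ne_bot.mpr hN
  have h3 : 0 < Nat.card (G ⧸ N) := Nat.card_pos
  rw [h1]
  nlinarith

/-- Element form of the statement, by induction on the order of the group. -/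
theorem aux (p : ℕ) [Fact p.Prime] : ∀ (n : ℕ) (G : Type u) [Group G] [Finite G], Nat.card G = n →
    Cfsg.IsPSolvable p G → ∀ Q : Subgroup G, ¬ p ∣ Nat.card Q →
    ∀ x : G, x ∈ Subgroup.normalizer (Q : Set G) → (∃ k : ℕ, x ^ p ^ k = 1) →
    x ∉ Subgroup.centralizer (Q : Set G) →
    ∀ P : Sylow p G, ¬ Q ≤ Subgroup.normalizer ((P : Subgroup G) : Set G) := by
  intro n
  induction n using Nat.strong_induction_on with
  | _ n ih =>
  intro G _ _ hcard hsolv Q hQ x hxN hxp hxC P hQP
  obtain ⟨k, hxk⟩ := hxp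
  have hQcop : (Nat.card Q).Coprime p :=
    ((Nat.Prime.coprime_iff_not_dvd (Fact.out : p.Prime)).mpr hQ).symm
  -- general facts on a quotient
  have quot : ∀ (N : Subgroup G) [N.Normal], N ≠ ⊥ →
      QuotientGroup.mk' N x ∈ Subgroup.centralizer ((Q.map (QuotientGroup.mk' N) : Subgroup (G ⧸ N)) : Set (G ⧸ N)) := by
    intro N _ hN
    by_contra hcon
    have hlt : Nat.card (G ⧸ N) < n := by rw [← hcard]; exact card_quotient_lt N hN
    have hπs : Function.Surjective (QuotientGroup.mk' N) := QuotientGroup.mk'_surjective N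
    refine ih _ hlt (G ⧸ N) rfl
      (Cfsg.Agent.Lib.Helper76.IsPSolvable_of_surjective p _ hπs hsolv)
      (Q.map (QuotientGroup.mk' N)) ?_ (QuotientGroup.mk' N x) ?_ ⟨k, ?_⟩ hcon
      (P.mapSurjective hπs) ?_
    · exact fun h => hQ (h.trans (Subgroup.card_map_dvd Q _))
    · exact Subgroup.le_normalizer_map _ (Subgroup.mem_map_of_mem _ hxN)
    · rw [← map_pow, hxk, map_one]
    · rw [Sylow.coe_mapSurjective]
      exact (Subgroup.map_mono hQP).trans (Subgroup.le_normalizer_map _)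
  set H : Subgroup G := Cfsg.pPrimeCore p G with hH
  have hHn : H.Normal := Cfsg.pPrimeCore_normal p G
  have hHcop : (Nat.card H).Coprime p := Cfsg.Agent.Lib.Helper54.card_pPrimeCore_coprime p
  by_cases hH1 : H = ⊥
  · -- `O_{p'}(G) = 1`
    set U : Subgroup G := Cfsg.pCore p G with hU
    have hUn : U.Normal := Cfsg.pCore_normal p G
    have hUp : IsPGroup p U := Cfsg.Agent.Lib.Helper76.pCore_isPGroup p
    have hcore : ∀ M : Subgroup G, M.Normal → (Nat.card M).Coprime p → M = ⊥ := by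
      intro M hM hMc
      rw [eq_bot_iff, ← hH1]
      exact Cfsg.Agent.Lib.Helper76.le_pPrimeCore p M hM hMc
    have hcent := Cfsg.Agent.Lib.Helper76.centralizer_pCore_le p hsolv hcore
    by_cases hU1 : U = ⊥
    · -- then `G` is trivial
      apply hxC
      have hx1 : x ∈ Cfsg.pCore p G := hcent (by
        rw [← hU, hU1, Subgroup.mem_centralizer_iff]
        intro h hh
        rw [Subgroup.coe_bot, Set.mem_singleton_iff] at hh
        rw [hh, one_mul, mul_one])
      rw [← hU, hU1, Subgroup.mem_bot] at hx1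
      rw [hx1]
      exact Subgroup.one_mem _
    · apply hxC
      have hq := quot U hU1
      rw [Subgroup.mem_centralizer_iff] at hq ⊢
      intro q hq'
      have h1 := hq _ (Subgroup.mem_map_of_mem (QuotientGroup.mk' U) hq')
      -- `[q, x] ∈ U ∩ Q = 1`
      have h2 : (q * x)⁻¹ * (x * q) ∈ U := by
        rw [← QuotientGroup.eq, ← QuotientGroup.mk'_apply, ← QuotientGroup.mk'_apply, map_mul, map_mul]
        exact h1
      have h3 : (q * x)⁻¹ * (x * q) ∈ Q := by
        have h4 : x⁻¹ * q⁻¹ * x⁻¹⁻¹ ∈ Q :=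
          (Subgroup.mem_normalizer_iff.mp (Subgroup.inv_mem _ hxN) _).mp (Q.inv_mem hq')
        have : (q * x)⁻¹ * (x * q) = (x⁻¹ * q⁻¹ * x⁻¹⁻¹) * q := by group
        rw [this]
        exact Q.mul_mem h4 hq'
      have h5 := Cfsg.Agent.Lib.Helper54.eq_one_of_mem_pGroup_of_mem_coprime hUp hQcop h2 h3
      calc q * x = (q * x) * ((q * x)⁻¹ * (x * q)) := by rw [h5, mul_one]
        _ = x * q := by group
  · -- `O_{p'}(G) ≠ 1`
    have hq := quot H hH1
    set π := QuotientGroup.mk' H with hπ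
    set Y : Subgroup G := Subgroup.zpowers x with hY
    have hYp : IsPGroup p Y := by
      rintro ⟨y, hy⟩
      obtain ⟨m, rfl⟩ := Subgroup.mem_zpowers_iff.mp hy
      refine ⟨k, Subtype.ext ?_⟩
      show (x ^ m) ^ p ^ k = 1
      rw [← zpow_natCast, ← zpow_mul, mul_comm, zpow_mul, zpow_natCast, hxk, one_zpow]
    have hYN : Y ≤ Subgroup.normalizer (Q : Set G) := by
      rw [hY, Subgroup.zpowers_le]; exact hxN
    set Q₀ : Subgroup G := ⁅Q, Y⁆ with hQ₀
    have hQ₀Q : Q₀ ≤ Q := Subgroup.le_normalizer_iff_commutator_le_left.mp hYN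
    have hQ₀ne : Q₀ ≠ ⊥ := by
      intro h
      apply hxC
      rw [hQ₀, Subgroup.commutator_comm, Subgroup.commutator_eq_bot_iff_le_centralizer] at h
      exact h (Subgroup.mem_zpowers x)
    have hQ₀Y : ⁅Q₀, Y⁆ = Q₀ := Cfsg.Agent.Lib.Helper48.commutator_commutator_eq hYp hQ hYN
    have hQ₀H : Q₀ ≤ H := by
      have h1 : (⁅Q, Y⁆).map π = ⊥ := by
        rw [Subgroup.map_commutator, Subgroup.commutator_comm,
          Subgroup.commutator_eq_bot_iff_le_centralizer, hY, MonoidHom.map_zpowers,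
          Subgroup.zpowers_le]
        exact hq
      rw [Subgroup.map_eq_bot_iff, hπ, QuotientGroup.ker_mk'] at h1
      exact h1
    -- `Q₀` centralizes `P`
    have hPQ₀ : ⁅(P : Subgroup G), Q₀⁆ = ⊥ := by
      rw [eq_bot_iff]
      intro z hz
      have h1 : z ∈ (P : Subgroup G) :=
        Subgroup.le_normalizer_iff_commutator_le_left.mp (hQ₀Q.trans hQP) hz
      have h2 : z ∈ H := by
        have : ⁅(P : Subgroup G), Q₀⁆ ≤ ⁅(⊤ : Subgroup G), H⁆ :=
          Subgroup.commutator_mono le_top hQ₀H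
        exact (Subgroup.commutator_le_right ⊤ H) (this hz)
      rw [Subgroup.mem_bot]
      exact Cfsg.Agent.Lib.Helper54.eq_one_of_mem_pGroup_of_mem_coprime P.isPGroup' hHcop h1 h2
    have hPC : (P : Subgroup G) ≤ Subgroup.centralizer (Q₀ : Set G) :=
      Subgroup.commutator_eq_bot_iff_le_centralizer.mp hPQ₀
    set M : Subgroup G := Subgroup.normalizer (Q₀ : Set G) with hM
    have hPM : (P : Subgroup G) ≤ M := hPC.trans (Subgroup.centralizer_le_normalizer _)
    have hxM : x ∈ M := by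
      have h1 : x ∈ Subgroup.normalizer (Q : Set G) ⊓ Subgroup.normalizer (Y : Set G) :=
        ⟨hxN, Subgroup.le_normalizer (Subgroup.mem_zpowers x)⟩
      exact Cfsg.Agent.Lib.Helper48.normalizer_inf_le_normalizer_commutator Q Y h1
    -- Sylow's theorem in `M`
    have hxMp : IsPGroup p (Subgroup.zpowers (⟨x, hxM⟩ : M)) := by
      rintro ⟨y, hy⟩
      obtain ⟨m, rfl⟩ := Subgroup.mem_zpowers_iff.mp hy
      refine ⟨k, Subtype.ext ?_⟩
      show ((⟨x, hxM⟩ : M) ^ m) ^ p ^ k = 1
      have : (⟨x, hxM⟩ : M) ^ p ^ k = 1 := Subtype.ext (by simpa using hxk)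
      rw [← zpow_natCast, ← zpow_mul, mul_comm, zpow_mul, zpow_natCast, this, one_zpow]
    obtain ⟨T, hT⟩ := hxMp.exists_le_sylow
    obtain ⟨m, hm⟩ := MulAction.exists_smul_eq M (P.subtype hPM) T
    have hmem : (⟨x, hxM⟩ : M) ∈ ((m • P.subtype hPM : Sylow p M) : Subgroup M) := by
      rw [hm]; exact hT (Subgroup.mem_zpowers _)
    rw [mem_smul_sylow', Sylow.coe_subtype, Subgroup.mem_subgroupOf] at hmem
    have hx' : (m : G)⁻¹ * x * (m : G) ∈ Subgroup.centralizer (Q₀ : Set G) := hPC hmem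
    -- hence `x` centralizes `Q₀`
    have hxQ₀ : x ∈ Subgroup.centralizer (Q₀ : Set G) := by
      rw [Subgroup.mem_centralizer_iff] at hx' ⊢
      intro q hq'
      have h1 : (m : G)⁻¹ * q * (m : G) ∈ Q₀ := by
        have := (Subgroup.mem_normalizer_iff.mp (Subgroup.inv_mem _ m.2) q).mp hq'
        simpa using this
      have h2 := hx' _ h1
      calc q * x = (m : G) * (((m : G)⁻¹ * q * (m : G)) * ((m : G)⁻¹ * x * (m : G))) * (m : G)⁻¹ := by
            group
        _ = (m : G) * (((m : G)⁻¹ * x * (m : G)) * ((m : G)⁻¹ * q * (m : G))) * (m : G)⁻¹ := by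
            rw [h2]
        _ = x * q := by group
    apply hQ₀ne
    rw [← hQ₀Y, Subgroup.commutator_comm, Subgroup.commutator_eq_bot_iff_le_centralizer, hY,
      Subgroup.zpowers_le]
    exact hxQ₀

end helpers


/-- Let G be a finite p-solvable group and Q a subgroup of order prime to p such that p divides the index of C_G(Q) in N_G(Q). Then Q normalizes no Sylow p-subgroup of G. -/
theorem result {G : Type*} [Group G] [Finite G] {p : ℕ} [Fact p.Prime]
    (hG : Cfsg.IsPSolvable p G) (Q : Subgroup G) (hQ : ¬ p ∣ Nat.card Q)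
    (hA : p ∣ (Subgroup.centralizer (Q : Set G)).relIndex (Subgroup.normalizer (Q : Set G)))
    (P : Sylow p G) : ¬ Q ≤ Subgroup.normalizer ((P : Subgroup G) : Set G) := by
  -- find a `p`-element of `N_G(Q)` outside `C_G(Q)`
  set Nn : Subgroup G := Subgroup.normalizer (Q : Set G) with hNn
  set Cc : Subgroup G := Subgroup.centralizer (Q : Set G) with hCc
  obtain ⟨T⟩ : Nonempty (Sylow p Nn) := inferInstance
  have hex : ∃ t : Nn, t ∈ (T : Subgroup Nn) ∧ (t : G) ∉ Cc := by
    by_contra hcon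
    push Not at hcon
    have hle : (T : Subgroup Nn) ≤ Cc.subgroupOf Nn := fun t ht => hcon t ht
    have h1 : (Cc.subgroupOf Nn).index ∣ (T : Subgroup Nn).index := Subgroup.index_dvd_of_le hle
    exact T.not_dvd_index (hA.trans h1)
  obtain ⟨t, htT, htC⟩ := hex
  obtain ⟨k, hk⟩ := T.isPGroup' ⟨t, htT⟩
  have hk1 : t ^ p ^ k = 1 := by
    have := congrArg Subtype.val hk
    simpa using this
  have hk' : (t : G) ^ p ^ k = 1 := by
    have := congrArg Subtype.val hk1
    simpa using this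
  exact aux p _ G rfl hG Q hQ (t : G) t.2 ⟨k, hk'⟩ htC P

end Cfsg.Agent.S1901
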