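import Cfsg.Statements.S1902
import Cfsg.Agent.Lib.Helper54.InvariantCore
import Cfsg.Agent.Lib.Helper54.PSolvable

set_option autoImplicit false
open Cfsg

namespace Cfsg.Agent.S1902

/-- Let p be an odd prime, G a finite p-solvable group, and B an elementary abelian subgroup of order p² such that B is the subgroup generated by the elements of order p of some Sylow p-subgroup of C_G(b₀), for some nontrivial b₀ ∈ B. Then every B-invariant subgroup of G of order prime to p lies in O_{p'}(G). -/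
theorem result {G : Type*} [Group G] [Finite G] {p : ℕ} [Fact p.Prime] (hp : p ≠ 2)
    (hG : Cfsg.IsPSolvable p G) (B : Subgroup G) (hB : Cfsg.IsElementaryAbelian p B) (hBc : Nat.card B = p ^ 2)
    (b₀ : G) (hb₀ : b₀ ∈ B) (hb₁ : b₀ ≠ 1) (P : Sylow p ↥(Subgroup.centralizer ({b₀} : Set G)))
    (hBP : B = Subgroup.closure {x : G | x ∈ ((P : Subgroup ↥(Subgroup.centralizer ({b₀} : Set G))).map
      (Subgroup.centralizer ({b₀} : Set G)).subtype : Subgroup G) ∧ orderOf x = p})
    (Q : Subgroup G) (hQ : ¬ p ∣ Nat.card Q) (hinv : ∀ b ∈ B, ∀ x ∈ Q, b * x * b⁻¹ ∈ Q) :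
    Q ≤ Cfsg.pPrimeCore p G := by
  classical
  have hpp : p.Prime := Fact.out
  have hcon : IsPConstrained p G := Cfsg.Agent.Lib.Helper54.isPConstrained_of_isPSolvable p hG
  have hBp : IsPGroup p B := by
    rintro ⟨b, hb⟩
    refine ⟨1, ?_⟩
    apply Subtype.ext
    rw [pow_one, Subgroup.coe_pow, Subgroup.coe_one]
    exact hB.2 b hb
  have hQc : (Nat.card Q).Coprime p := ((Nat.Prime.coprime_iff_not_dvd hpp).mpr hQ).symm
  have hBQ : B ≤ Subgroup.normalizer (Q : Set G) := by
    intro b hb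
    rw [Subgroup.mem_normalizer_iff]
    intro x
    constructor
    · exact hinv b hb x
    · intro h
      have h1 := hinv b⁻¹ (B.inv_mem hb) _ h
      have e : b⁻¹ * (b * x * b⁻¹) * b⁻¹⁻¹ = x := by group
      rwa [e] at h1
  refine Cfsg.Agent.Lib.Helper54.le_pPrimeCore_of_invariant p hcon B Q hBp hQc hBQ ?_ (Or.inl hp)
  intro x hx hxo
  set PG : Subgroup G := (P : Subgroup (Subgroup.centralizer ({b₀} : Set G))).map
    (Subgroup.centralizer ({b₀} : Set G)).subtype with hPG
  have hBcomm : ∀ a ∈ B, ∀ b ∈ B, a * b = b * a := by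
    intro a ha b hb
    have h1 := hB.1.is_comm.comm ⟨a, ha⟩ ⟨b, hb⟩
    exact congrArg Subtype.val h1
  have hBC : B ≤ Subgroup.centralizer ({b₀} : Set G) := by
    intro b hb
    rw [Subgroup.mem_centralizer_singleton_iff]
    exact hBcomm b hb b₀ hb₀
  have hxC : x ∈ Subgroup.centralizer ({b₀} : Set G) := by
    rw [Subgroup.mem_centralizer_singleton_iff]
    exact (Subgroup.mem_centralizer_iff.mp hx b₀ hb₀).symm
  set T := B ⊔ Subgroup.zpowers x with hT
  have hzp : IsPGroup p (Subgroup.zpowers x) := by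
    apply IsPGroup.of_card (n := 1)
    rw [Nat.card_zpowers, hxo, pow_one]
  have hzn : Subgroup.zpowers x ≤ Subgroup.normalizer (B : Set G) := by
    rw [Subgroup.zpowers_le]
    exact Subgroup.centralizer_le_normalizer _ hx
  have hTp : IsPGroup p T := by
    rw [hT, sup_comm]
    exact hzp.to_sup_of_normal_right' hBp hzn
  have hTC : T ≤ Subgroup.centralizer ({b₀} : Set G) := sup_le hBC (Subgroup.zpowers_le.mpr hxC)
  obtain ⟨P', hP'⟩ := (hTp.comap_subtype (K := Subgroup.centralizer ({b₀} : Set G))).exists_le_sylow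
  obtain ⟨g, hg⟩ := MulAction.exists_smul_eq (Subgroup.centralizer ({b₀} : Set G)) P' P
  have key : ∀ t ∈ T, (g : G) * t * (g : G)⁻¹ ∈ PG := by
    intro t ht
    have h1 : (⟨t, hTC ht⟩ : Subgroup.centralizer ({b₀} : Set G)) ∈ (P' : Subgroup (Subgroup.centralizer ({b₀} : Set G))) := hP' (Subgroup.mem_subgroupOf.mpr ht)
    have h2 : g * ⟨t, hTC ht⟩ * g⁻¹ ∈ (P : Subgroup (Subgroup.centralizer ({b₀} : Set G))) := by
      rw [← hg, Sylow.smul_def, Sylow.pointwise_smul_def]
      exact ⟨_, h1, rfl⟩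
    exact ⟨_, h2, rfl⟩
  have hgen : ∀ y ∈ PG, orderOf y = p → y ∈ B := by
    intro y hy ho
    rw [hBP]
    exact Subgroup.subset_closure ⟨hy, ho⟩
  have hord : ∀ y : G, orderOf ((g : G) * y * (g : G)⁻¹) = orderOf y := by
    intro y
    exact (MulAut.conj (g : G)).orderOf_eq y
  have hBconj : ∀ b ∈ B, (g : G) * b * (g : G)⁻¹ ∈ B := by
    intro b hb
    by_cases h1 : b = 1
    · rw [h1, mul_one, mul_inv_cancel]; exact B.one_mem
    · apply hgen _ (key b (le_sup_left (a := B) hb))
      rw [hord]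
      exact orderOf_eq_prime (hB.2 b hb) h1
  have hmap : B.map (MulAut.conj (g : G)).toMonoidHom = B := by
    apply Subgroup.eq_of_le_of_card_ge
    · rintro _ ⟨b, hb, rfl⟩
      exact hBconj b hb
    · rw [Subgroup.card_map_of_injective (MulAut.conj (g : G)).injective]
  have hxconj : (g : G) * x * (g : G)⁻¹ ∈ B :=
    hgen _ (key x (le_sup_right (a := B) (Subgroup.mem_zpowers x))) (by rw [hord]; exact hxo)
  rw [← hmap] at hxconj
  obtain ⟨b, hb, hbx⟩ := hxconj
  have h3 : b = x := by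
    have h4 : (g : G) * b * (g : G)⁻¹ = (g : G) * x * (g : G)⁻¹ := hbx
    have h5 := mul_right_cancel h4
    exact mul_left_cancel h5
  rw [← h3]
  exact hb

end Cfsg.Agent.S1902
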