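import Cfsg.Statements.S1905
import Cfsg.Agent.Lib.Helper21.StronglyEmbedded
import Cfsg.Agent.Lib.Helper4.StronglyEmb
import Cfsg.Agent.Lib.Helper9.PGroupLemmas
import Cfsg.Agent.Lib.Helper34.SylowConj
import Cfsg.Agent.Lib.Helper54.PLocal3
import Cfsg.Agent.Lib.Helper49.SylInExtras

set_option autoImplicit false
open Cfsg

namespace Cfsg.Agent.S1905

open Cfsg.Agent.Lib.Helper33 Cfsg.Agent.Lib.Helper49

/-- If `a ∈ M` and `b` are involutions which are not conjugate, then `b ∈ M`. -/
theorem mem_of_not_isConj {S : Type*} [Group S] [Finite S] (M : Subgroup S)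
    (hC : ∀ i ∈ M, orderOf i = 2 → Subgroup.centralizer ({i} : Set S) ≤ M)
    {a b : S} (haM : a ∈ M) (ha : orderOf a = 2) (hb : orderOf b = 2) (h : ¬ IsConj a b) :
    b ∈ M := by
  have hpos : 0 < orderOf (b * a) := orderOf_pos _
  rcases Nat.even_or_odd (orderOf (b * a)) with he | ho
  · obtain ⟨z, hz2, hza, hzb⟩ :=
      Cfsg.Agent.Lib.Helper21.exists_involution_commute_of_even ha hb he hpos
    have hzM : z ∈ M := by
      apply hC a haM ha
      rw [Subgroup.mem_centralizer_iff]
      intro x hx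
      rw [Set.mem_singleton_iff] at hx
      rw [hx]; exact hza.symm
    apply hC z hzM hz2
    rw [Subgroup.mem_centralizer_iff]
    intro x hx
    rw [Set.mem_singleton_iff] at hx
    rw [hx]; exact hzb
  · obtain ⟨i, _, hi, _⟩ := Cfsg.Agent.Lib.Helper21.exists_involution_conj_of_odd ha hb ho
    exact absurd (isConj_iff.mpr ⟨i, hi⟩) h

/-- Not all involutions lie in `M`. -/
theorem not_all_involutions_mem {S : Type*} [Group S] [Finite S] (M : Subgroup S)
    (hM : Even (Nat.card M)) (hcore : Odd (Nat.card M.normalCore))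
    (hall : ∀ j : S, orderOf j = 2 → j ∈ M) : False := by
  have : Fact (Nat.Prime 2) := ⟨Nat.prime_two⟩
  obtain ⟨t, ht⟩ := exists_prime_orderOf_dvd_card' (G := M) 2 (even_iff_two_dvd.mp hM)
  have ht2 : orderOf (t : S) = 2 := by rw [Subgroup.orderOf_coe]; exact ht
  have htc : (t : S) ∈ M.normalCore := by
    intro b
    apply hall
    exact Cfsg.Agent.Lib.Helper21.orderOf_conj_eq_two ht2 b
  exact (Cfsg.Agent.Lib.Helper4.odd_card_iff_no_involution _).mp hcore _ htc ht2

/-- Key lemma: `M` contains centralizers of its involutions and the normalizer of a Sylow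
`2`-subgroup; then an involution of `M ∩ gMg⁻¹` forces `g ∈ M`. -/
theorem mem_of_involution_inter {S : Type*} [Group S] [Finite S] (M P : Subgroup S)
    (hC : ∀ i ∈ M, orderOf i = 2 → Subgroup.centralizer ({i} : Set S) ≤ M)
    (hP : SylIn 2 P M) (hN : Subgroup.normalizer (P : Set S) ≤ M)
    (g s : S) (hs : orderOf s = 2) (hsM : s ∈ M) (hsg : g⁻¹ * s * g ∈ M) : g ∈ M := by
  have : Fact (Nat.Prime 2) := ⟨Nat.prime_two⟩
  have hsK : s ∈ M ⊓ cj g M := ⟨hsM, mem_cj.mpr hsg⟩
  have hzs : IsPGroup 2 (Subgroup.zpowers s) :=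
    IsPGroup.of_card (n := 1) (by rw [Nat.card_zpowers, hs, pow_one])
  obtain ⟨U, hU, hsU⟩ := exists_sylIn_ge hzs ((Subgroup.zpowers_le).mpr hsK)
  have hsU' : s ∈ U := hsU (Subgroup.mem_zpowers s)
  have hs1 : s ≠ 1 := by
    intro h; rw [h, orderOf_one] at hs; omega
  have hUM : U ≤ M := hU.le.trans inf_le_left
  have hUgM : U ≤ cj g M := hU.le.trans inf_le_right
  have hU' : cj g⁻¹ U ≤ M := by rw [cj_le_iff, inv_inv]; exact hUgM
  obtain ⟨k, hk, hkU⟩ := hP.exists_cj_le hU' (isPGroup_cj hU.isPGroup)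
  rw [cj_le_iff, cj_le_iff, inv_inv, ← cj_mul] at hkU
  have hP2p : IsPGroup 2 (cj (g * k⁻¹) P) := isPGroup_cj hP.isPGroup
  have hP2g : cj (g * k⁻¹) P ≤ cj g M := by
    rw [cj_mul]
    exact cj_mono (cj_le_of_mem hP.le (Subgroup.inv_mem _ hk))
  by_cases hUeq : U = cj (g * k⁻¹) P
  · have hP2M : cj (g * k⁻¹) P ≤ M := hUeq ▸ hUM
    obtain ⟨h', hh', hle⟩ := hP.exists_cj_le hP2M hP2p
    have heq : cj h' (cj (g * k⁻¹) P) = P :=
      Subgroup.eq_of_le_of_card_ge hle (by rw [card_cj, card_cj])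
    rw [← cj_mul] at heq
    have hn : h' * (g * k⁻¹) ∈ M := hN (mem_normalizer_iff_cj_eq.mpr heq)
    have e : g = h'⁻¹ * (h' * (g * k⁻¹)) * k := by group
    rw [e]
    exact Subgroup.mul_mem _ (Subgroup.mul_mem _ (Subgroup.inv_mem _ hh') hn) hk
  · exfalso
    have hlt : U < cj (g * k⁻¹) P := lt_of_le_of_ne hkU hUeq
    have hlt2 := Cfsg.Agent.Lib.Helper34.lt_inf_normalizer_of_lt hP2p hlt
    set W := cj (g * k⁻¹) P ⊓ Subgroup.normalizer (U : Set S) with hW
    have hWp : IsPGroup 2 W := hP2p.to_le inf_le_left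
    have hUW : U ≤ W := hlt2.le
    have hnorm : (U.subgroupOf W).Normal :=
      (Subgroup.normal_subgroupOf_iff_le_normalizer hUW).mpr inf_le_right
    have hne : U.subgroupOf W ≠ ⊥ := by
      intro h
      have h1 : (⟨s, hUW hsU'⟩ : W) ∈ U.subgroupOf W := hsU'
      rw [h, Subgroup.mem_bot] at h1
      exact hs1 (congrArg Subtype.val h1)
    obtain ⟨z, hzU, hz1, hzc⟩ :=
      Cfsg.Agent.Lib.Helper9.exists_ne_one_mem_center_of_normal (P := W)
        (hWp) (U.subgroupOf W) hne
    have hzU' : (z : S) ∈ U := hzU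
    have hz1' : (z : S) ≠ 1 := fun h => hz1 (Subtype.ext h)
    obtain ⟨m, hm⟩ := Cfsg.Agent.Lib.Helper54.exists_pow_orderOf_eq_prime_pl3 hU.isPGroup hzU' hz1'
    have hzmM : (z : S) ^ m ∈ M := hUM (Subgroup.pow_mem _ hzU' m)
    have hWM : W ≤ M := by
      intro w hw
      apply hC _ hzmM hm
      rw [Subgroup.mem_centralizer_iff]
      intro x hx
      rw [Set.mem_singleton_iff] at hx
      rw [hx]
      have h1 := (Subgroup.mem_center_iff.mp hzc) ⟨w, hw⟩
      have h2 : w * (z : S) = (z : S) * w := congrArg Subtype.val h1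
      have h3 : Commute w (z : S) := h2
      exact ((h3.pow_right m).eq).symm
    have hWK : W ≤ M ⊓ cj g M := le_inf hWM (inf_le_left.trans hP2g)
    have := hU.eq_of_le hWK hWp hUW
    exact hlt2.ne this.symm

/-- Let M be a subgroup of even order of a finite group S such that M contains the centralizer in S of each of its involutions and the normal core of M in S has odd order. Then all involutions of S are conjugate. If moreover N_S(X) ≤ M for a Sylow 2-subgroup X of M and I is an involution in the centre of X, then all involutions of M are conjugate in M and M = M₀ C_M(I) for some subgroup M₀ of M of odd order. -/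
theorem result {S : Type*} [Group S] [Finite S] (M : Subgroup S) (hM : Even (Nat.card M))
    (hC : ∀ i ∈ M, orderOf i = 2 → Subgroup.centralizer ({i} : Set S) ≤ M) (hcore : Odd (Nat.card M.normalCore)) :
    (∀ x y : S, orderOf x = 2 → orderOf y = 2 → IsConj x y) ∧
      ∀ (X : Sylow 2 M) (I : M), I ∈ (Subgroup.center ↥(X : Subgroup ↥M)).map (X : Subgroup ↥M).subtype → orderOf I = 2 →
        Subgroup.normalizer (((X : Subgroup M).map M.subtype : Subgroup S) : Set S) ≤ M →
        (∀ x y : M, orderOf x = 2 → orderOf y = 2 → IsConj x y) ∧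
          ∃ M₀ : Subgroup M, Odd (Nat.card M₀) ∧
            ∀ m : M, ∃ a ∈ M₀, ∃ c ∈ Subgroup.centralizer ({I} : Set M), m = a * c := by
  have h2 : Fact (Nat.Prime 2) := ⟨Nat.prime_two⟩
  constructor
  · by_contra hcon
    push Not at hcon
    obtain ⟨x, y, hx, hy, hxy⟩ := hcon
    obtain ⟨t, ht⟩ := exists_prime_orderOf_dvd_card' (G := M) 2 (even_iff_two_dvd.mp hM)
    have ht2 : orderOf (t : S) = 2 := by rw [Subgroup.orderOf_coe]; exact ht
    -- some involution `w ∈ M` not conjugate to `t`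
    have hw : ∃ w : S, w ∈ M ∧ orderOf w = 2 ∧ ¬ IsConj (t : S) w := by
      by_cases h1 : IsConj (t : S) x
      · have h3 : ¬ IsConj (t : S) y := fun h3 => hxy (h1.symm.trans h3)
        exact ⟨y, mem_of_not_isConj M hC t.2 ht2 hy h3, hy, h3⟩
      · exact ⟨x, mem_of_not_isConj M hC t.2 ht2 hx h1, hx, h1⟩
    obtain ⟨w, hwM, hw2, htw⟩ := hw
    apply not_all_involutions_mem M hM hcore
    intro j hj
    by_cases h1 : IsConj (t : S) j
    · have h3 : ¬ IsConj w j := fun h3 => htw (h1.trans h3.symm)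
      exact mem_of_not_isConj M hC hwM hw2 hj h3
    · exact mem_of_not_isConj M hC t.2 ht2 hj h1
  · intro X I _ hI2 hN
    have hP := Cfsg.Agent.Lib.Helper33.sylIn_of_sylow X
    obtain ⟨u, hu2, huM⟩ : ∃ u : S, orderOf u = 2 ∧ u ∉ M := by
      by_contra hcon
      push Not at hcon
      exact not_all_involutions_mem M hM hcore hcon
    have hSE : Cfsg.IsStronglyEmbedded M :=
      (Cfsg.Agent.Lib.Helper4.isStronglyEmbedded_iff M).mpr
        ⟨fun h => huM (h ▸ Subgroup.mem_top u), hM, fun g hg s hs hsg hs2 =>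
          hg (mem_of_involution_inter M _ hC hP hN g s hs2 hs hsg)⟩
    constructor
    · intro x y hx hy
      have hx' : orderOf (x : S) = 2 := by rw [Subgroup.orderOf_coe]; exact hx
      have hy' : orderOf (y : S) = 2 := by rw [Subgroup.orderOf_coe]; exact hy
      obtain ⟨d, hd, hdxy⟩ := Cfsg.Agent.Lib.Helper21.se_involutions_conj_in_inter hSE hu2 huM
        hx' x.2 hy' y.2
      exact isConj_iff.mpr ⟨⟨d, hd.1⟩, Subtype.ext hdxy⟩
    · refine ⟨(M ⊓ M.map (MulAut.conj u).toMonoidHom).subgroupOf M, ?_, ?_⟩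
      · have hodd := hSE.2.2 u huM
        rwa [Nat.card_congr (Subgroup.subgroupOfEquivOfLe (inf_le_left :
          M ⊓ M.map (MulAut.conj u).toMonoidHom ≤ M)).toEquiv]
      · intro m
        have hI' : orderOf (I : S) = 2 := by rw [Subgroup.orderOf_coe]; exact hI2
        have hmI : orderOf ((m : S) * (I : S) * (m : S)⁻¹) = 2 :=
          Cfsg.Agent.Lib.Helper21.orderOf_conj_eq_two hI' _
        have hmIM : (m : S) * (I : S) * (m : S)⁻¹ ∈ M :=
          Subgroup.mul_mem _ (Subgroup.mul_mem _ m.2 I.2) (Subgroup.inv_mem _ m.2)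
        obtain ⟨d, hd, hdI⟩ := Cfsg.Agent.Lib.Helper21.se_involutions_conj_in_inter hSE hu2 huM
          hI' I.2 hmI hmIM
        refine ⟨⟨d, hd.1⟩, hd, (⟨d, hd.1⟩ : M)⁻¹ * m, ?_, by group⟩
        rw [Subgroup.mem_centralizer_iff]
        intro x hx
        rw [Set.mem_singleton_iff] at hx
        rw [hx]
        apply Subtype.ext
        simp only [Subgroup.coe_mul, Subgroup.coe_inv]
        have e1 : (I : S) * (d⁻¹ * (m : S)) = d⁻¹ * (d * (I : S) * d⁻¹) * (m : S) := by group
        rw [e1, hdI]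
        group

end Cfsg.Agent.S1905
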