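import Cfsg.Statements.S1906
import Cfsg.Agent.Lib.Helper77.S1906LA
import Cfsg.Agent.Lib.Helper49.S1906T1
import Cfsg.Agent.Lib.Helper49.S1906T2
import Cfsg.Agent.Lib.Helper9.PGroupLemmas

set_option autoImplicit false
open Cfsg

namespace Cfsg.Agent.S1906


open scoped commutatorElement

/-- a finite field of odd order has `2 ≠ 0`. -/
theorem two_ne_zero_of_odd {F : Type*} [Field F] [Fintype F] (hF : Odd (Fintype.card F)) :
    (2 : F) ≠ 0 := by
  apply Ring.two_ne_zero
  intro h
  have := FiniteField.even_card_of_char_two h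
  rcases hF with ⟨k, hk⟩
  omega

/-- the determinant of `-1` in `GL₃`. -/
theorem det_neg_one {F : Type*} [Field F] :
    Matrix.GeneralLinearGroup.det (-1 : GL (Fin 3) F) = -1 := by
  apply Units.ext
  simp [Matrix.GeneralLinearGroup.det, Matrix.det_neg]
  norm_num

/-- Let G be a finite group with no subgroup of index 2 whose Sylow 2-subgroup X embeds in GL₃(F) for a finite field F of odd order. If X contains an elementary abelian subgroup of order 8, then X is abelian. -/
theorem result {G : Type*} [Group G] [Finite G] (hG : ∀ H : Subgroup G, H.index ≠ 2) (X : Sylow 2 G)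
    {F : Type*} [Field F] [Fintype F] (hF : Odd (Fintype.card F))
    (f : ↥(X : Subgroup G) →* GL (Fin 3) F) (hf : Function.Injective f)
    (E : Subgroup G) (hE : E ≤ (X : Subgroup G)) (hEa : Cfsg.IsElementaryAbelian 2 E) (hE8 : Nat.card E = 8) :
    IsMulCommutative (X : Subgroup G) := by
  classical
  have : Fact (Nat.Prime 2) := ⟨Nat.prime_two⟩
  by_contra hX
  have h2 : (2 : F) ≠ 0 := two_ne_zero_of_odd hF
  have hneg1 : (-1 : Fˣ) ≠ 1 := by
    intro h
    have h' : ((-1 : Fˣ) : F) = ((1 : Fˣ) : F) := congrArg Units.val h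
    simp only [Units.val_neg, Units.val_one] at h'
    apply h2
    linear_combination -h'
  -- the determinant character of `X`
  let δ : ↥(X : Subgroup G) →* Fˣ := Matrix.GeneralLinearGroup.det.comp f
  -- the image of `E`
  set 𝓔 : Subgroup (GL (Fin 3) F) := (E.subgroupOf (X : Subgroup G)).map f with h𝓔
  have hmem𝓔 : ∀ (x : G) (hx : x ∈ (X : Subgroup G)), x ∈ E → f ⟨x, hx⟩ ∈ 𝓔 := by
    intro x hx hxE
    exact Subgroup.mem_map_of_mem f (Subgroup.mem_subgroupOf.mpr hxE)
  have hinv : ∀ e ∈ 𝓔, e * e = 1 := by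
    rintro _ ⟨⟨x, hx⟩, hxE, rfl⟩
    have hxE' : x ∈ E := Subgroup.mem_subgroupOf.mp hxE
    have h1 : x ^ 2 = 1 := hEa.2 x hxE'
    rw [← map_mul, ← map_one f]
    congr 1
    apply Subtype.ext
    simp only [Subgroup.coe_mul, Subgroup.coe_one]
    rw [← sq]; exact h1
  have hcard : Nat.card 𝓔 = 8 := by
    rw [h𝓔, Subgroup.card_map_of_injective hf,
      Nat.card_congr (Subgroup.subgroupOfEquivOfLe hE).toEquiv, hE8]
  obtain ⟨hLA1, hLA2, hLA3⟩ := Cfsg.Agent.Lib.Helper77.S1906LA.elemAb_eight_GL_three h2 𝓔 hinv hcard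
  -- the central involution `u₀` with `f u₀ = -1`
  obtain ⟨⟨u₀, hu₀X⟩, hu₀E', hfu₀⟩ := hLA1
  have hu₀E : u₀ ∈ E := Subgroup.mem_subgroupOf.mp hu₀E'
  have hu₀sq : u₀ * u₀ = 1 := by
    have := hEa.2 u₀ hu₀E
    rwa [sq] at this
  have hu₀c : ∀ x ∈ (X : Subgroup G), x * u₀ = u₀ * x := by
    intro x hx
    have h1 : (⟨x, hx⟩ : ↥(X : Subgroup G)) * ⟨u₀, hu₀X⟩ = ⟨u₀, hu₀X⟩ * ⟨x, hx⟩ := by
      apply hf
      rw [map_mul, map_mul, hfu₀, mul_neg_one, neg_one_mul]
    exact congrArg Subtype.val h1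
  have hδu₀ : δ ⟨u₀, hu₀X⟩ = -1 := by
    show Matrix.GeneralLinearGroup.det (f ⟨u₀, hu₀X⟩) = -1
    rw [hfu₀]; exact det_neg_one
  -- central involutions of `X` lie in `E`
  have hW_E : ∀ w ∈ (X : Subgroup G), w * w = 1 → (∀ x ∈ (X : Subgroup G), x * w = w * x) →
      w ∈ E := by
    intro w hwX hw2 hwc
    have h1 : f ⟨w, hwX⟩ ∈ 𝓔 := by
      apply hLA2
      · rw [← map_mul, ← map_one f]
        congr 1
        exact Subtype.ext hw2
      · rintro _ ⟨⟨x, hx⟩, -, rfl⟩
        rw [← map_mul, ← map_mul]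
        congr 1
        exact Subtype.ext (hwc x hx).symm
    obtain ⟨⟨y, hyX⟩, hyE, hy⟩ := h1
    have h3 : (⟨y, hyX⟩ : ↥(X : Subgroup G)) = ⟨w, hwX⟩ := hf hy
    have h4 : y = w := congrArg Subtype.val h3
    rw [← h4]
    exact Subgroup.mem_subgroupOf.mp hyE
  -- the subgroup `W` of central elements of `E`
  set W : Subgroup G := E ⊓ Subgroup.centralizer ((X : Subgroup G) : Set G) with hW
  have hmemW : ∀ w, w ∈ W ↔ w ∈ E ∧ ∀ x ∈ (X : Subgroup G), x * w = w * x := by
    intro w
    rw [hW, Subgroup.mem_inf, Subgroup.mem_centralizer_iff]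
    constructor
    · rintro ⟨h1, h3⟩
      exact ⟨h1, fun x hx => h3 x hx⟩
    · rintro ⟨h1, h3⟩
      exact ⟨h1, fun x hx => h3 x hx⟩
  have hWE : W ≤ E := inf_le_left
  have hWneE : W ≠ E := by
    intro h
    apply hX
    have hall : ∀ e ∈ E, ∀ x ∈ (X : Subgroup G), x * e = e * x := by
      intro e he
      rw [← h] at he
      exact ((hmemW e).mp he).2
    have hcen : ∀ x : ↥(X : Subgroup G), ∀ e ∈ 𝓔, f x * e = e * f x := by
      rintro ⟨x, hx⟩ _ ⟨⟨e, heX⟩, heE, rfl⟩
      rw [← map_mul, ← map_mul]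
      congr 1
      exact Subtype.ext (hall e (Subgroup.mem_subgroupOf.mp heE) x hx)
    exact ⟨⟨fun a b => hf (by rw [map_mul, map_mul]; exact hLA3 (f a) (f b) (hcen a) (hcen b))⟩⟩
  have hWcard : Nat.card W ≤ 4 := by
    have h1 : Nat.card W ∣ 8 := hE8 ▸ Subgroup.card_dvd_of_le hWE
    have h3 : Nat.card W ≠ 8 := by
      intro h
      apply hWneE
      exact Subgroup.eq_of_le_of_card_ge hWE (by rw [hE8, h])
    have h4 : Nat.card W ≤ 8 := Nat.le_of_dvd (by norm_num) h1
    interval_cases h : Nat.card W <;> omega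
  -- an involution `v` in `X' ∩ Z(X)`
  have hK : _root_.commutator ↥(X : Subgroup G) ≠ ⊥ := by
    intro h
    apply hX
    refine ⟨⟨fun a b => ?_⟩⟩
    have h1 : ⁅a, b⁆ ∈ _root_.commutator ↥(X : Subgroup G) := by
      rw [_root_.commutator_def]
      exact Subgroup.commutator_mem_commutator (Subgroup.mem_top a) (Subgroup.mem_top b)
    rw [h, Subgroup.mem_bot] at h1
    exact commutatorElement_eq_one_iff_mul_comm.mp h1
  obtain ⟨z, hzK, hz1, hzZ⟩ := Cfsg.Agent.Lib.Helper9.exists_ne_one_mem_center_of_normal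
    (p := 2) X.isPGroup' (_root_.commutator ↥(X : Subgroup G)) hK
  set M : Subgroup ↥(X : Subgroup G) :=
    _root_.commutator ↥(X : Subgroup G) ⊓ Subgroup.center ↥(X : Subgroup G) with hM
  have hzM : z ∈ M := ⟨hzK, hzZ⟩
  have hMnt : Nontrivial M := ⟨⟨⟨z, hzM⟩, 1, fun h => hz1 (congrArg Subtype.val h)⟩⟩
  have hMp : IsPGroup 2 M := X.isPGroup'.to_subgroup M
  obtain ⟨n, hn0, hn⟩ := hMp.nontrivial_iff_card.mp hMnt
  have h2M : 2 ∣ Nat.card M := hn.symm ▸ dvd_pow_self _ (ne_of_gt hn0)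
  obtain ⟨⟨v', hv'M⟩, hv'ord⟩ := exists_prime_orderOf_dvd_card' 2 h2M
  have hv'ord' : orderOf v' = 2 := (Subgroup.orderOf_mk v' hv'M).symm.trans hv'ord
  have hv'sq : v' * v' = 1 := by
    have := pow_orderOf_eq_one v'
    rwa [hv'ord', sq] at this
  have hv'1 : v' ≠ 1 := by
    intro h
    rw [h, orderOf_one] at hv'ord'
    norm_num at hv'ord'
  have hv'K : v' ∈ _root_.commutator ↥(X : Subgroup G) := hv'M.1
  have hv'Z : v' ∈ Subgroup.center ↥(X : Subgroup G) := hv'M.2
  obtain ⟨v, hvX⟩ := v'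
  have hvsq : v * v = 1 := congrArg Subtype.val hv'sq
  have hv1 : v ≠ 1 := fun h => hv'1 (Subtype.ext h)
  have hvc : ∀ x ∈ (X : Subgroup G), x * v = v * x := by
    intro x hx
    have := Subgroup.mem_center_iff.mp hv'Z ⟨x, hx⟩
    exact congrArg Subtype.val this
  -- the determinant as a function on `G`
  let d : G → Fˣ := fun g => if hg : g ∈ (X : Subgroup G) then δ ⟨g, hg⟩ else 1
  have hd : ∀ (g : G) (hg : g ∈ (X : Subgroup G)), d g = δ ⟨g, hg⟩ := fun g hg => dif_pos hg
  have hdmul : ∀ a ∈ (X : Subgroup G), ∀ b ∈ (X : Subgroup G), d (a * b) = d a * d b := by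
    intro a ha b hb
    rw [hd a ha, hd b hb, hd (a * b) ((X : Subgroup G).mul_mem ha hb), ← map_mul]
    rfl
  have hd1 : d 1 = 1 := by
    rw [hd 1 (X : Subgroup G).one_mem]
    exact map_one δ
  have hdu₀ : d u₀ = -1 := by rw [hd u₀ hu₀X]; exact hδu₀
  have hdv : d v = 1 := by
    rw [hd v hvX]
    exact MonoidHom.mem_ker.mp (Abelianization.commutator_subset_ker δ hv'K)
  have hvu₀ : v ≠ u₀ := by
    intro h
    rw [h, hdu₀] at hdv
    exact hneg1 hdv
  have hu₀1 : u₀ ≠ 1 := by
    intro h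
    rw [h, hd1] at hdu₀
    exact hneg1 hdu₀.symm
  have hvW : v ∈ W := (hmemW v).mpr ⟨hW_E v hvX hvsq hvc, hvc⟩
  have hu₀W : u₀ ∈ W := (hmemW u₀).mpr ⟨hu₀E, hu₀c⟩
  -- `W = {1, v, u₀, u₀ v}`
  have hWfour : ∀ w ∈ W, w = 1 ∨ w = v ∨ w = u₀ ∨ w = u₀ * v := by
    intro w hw
    by_contra hcon
    push Not at hcon
    obtain ⟨hw1, hwv, hwu, hwuv⟩ := hcon
    have hsub : (({1, v, u₀, u₀ * v, w} : Finset G) : Set G) ⊆ (W : Set G) := by
      intro x hx
      simp only [Finset.coe_insert, Finset.coe_singleton, Set.mem_insert_iff,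
        Set.mem_singleton_iff] at hx
      rcases hx with rfl | rfl | rfl | rfl | rfl
      · exact W.one_mem
      · exact hvW
      · exact hu₀W
      · exact W.mul_mem hu₀W hvW
      · exact hw
    have hne1 : u₀ * v ≠ 1 := by
      intro h
      have : u₀ = v := by
        calc u₀ = u₀ * (v * v) := by rw [hvsq, mul_one]
          _ = (u₀ * v) * v := by rw [mul_assoc]
          _ = v := by rw [h, one_mul]
      exact hvu₀ this.symm
    have hne2 : u₀ * v ≠ v := by
      intro h
      exact hu₀1 (by simpa using h)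
    have hne3 : u₀ * v ≠ u₀ := by
      intro h
      exact hv1 (by simpa using h)
    have hcard5 : ({1, v, u₀, u₀ * v, w} : Finset G).card = 5 := by
      rw [Finset.card_insert_of_notMem, Finset.card_insert_of_notMem,
        Finset.card_insert_of_notMem, Finset.card_insert_of_notMem, Finset.card_singleton]
      · simp only [Finset.mem_singleton]; exact fun h => hwuv h.symm
      · simp only [Finset.mem_insert, Finset.mem_singleton, not_or]
        exact ⟨fun h => hne3 h.symm, fun h => hwu h.symm⟩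
      · simp only [Finset.mem_insert, Finset.mem_singleton, not_or]
        exact ⟨hvu₀, fun h => hne2 h.symm, fun h => hwv h.symm⟩
      · simp only [Finset.mem_insert, Finset.mem_singleton, not_or]
        exact ⟨fun h => hv1 h.symm, fun h => hu₀1 h.symm, fun h => hne1 h.symm,
          fun h => hw1 h.symm⟩
    have h5 : 5 ≤ Nat.card W := by
      have h1 : Nat.card W = (W : Set G).ncard := Nat.card_coe_set_eq (W : Set G)
      rw [h1, ← hcard5, ← Set.ncard_coe_finset]
      exact Set.ncard_le_ncard hsub (Set.toFinite _)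
    omega
  -- the normalizer of `X`
  have hconjX : ∀ h ∈ Subgroup.normalizer ((X : Subgroup G) : Set G), ∀ x ∈ (X : Subgroup G),
      h * x * h⁻¹ ∈ (X : Subgroup G) :=
    fun h hh x hx => (Subgroup.mem_normalizer_iff.mp hh x).mp hx
  have hconjX' : ∀ h ∈ Subgroup.normalizer ((X : Subgroup G) : Set G), ∀ x ∈ (X : Subgroup G),
      h⁻¹ * x * h ∈ (X : Subgroup G) := by
    intro h hh x hx
    have := hconjX h⁻¹ (Subgroup.inv_mem _ hh) x hx
    simpa using this
  have hconjW : ∀ h ∈ Subgroup.normalizer ((X : Subgroup G) : Set G), ∀ w ∈ W,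
      h * w * h⁻¹ ∈ W := by
    intro h hh w hw
    obtain ⟨hwE, hwc⟩ := (hmemW w).mp hw
    have hwX : w ∈ (X : Subgroup G) := hE hwE
    have hw2 : w * w = 1 := by
      have := hEa.2 w hwE
      rwa [sq] at this
    have hyX := hconjX h hh w hwX
    have hyc : ∀ x ∈ (X : Subgroup G), x * (h * w * h⁻¹) = (h * w * h⁻¹) * x := by
      intro x hx
      have h1 := hwc (h⁻¹ * x * h) (hconjX' h hh x hx)
      calc x * (h * w * h⁻¹) = h * (h⁻¹ * x * h * w) * h⁻¹ := by group
        _ = h * (w * (h⁻¹ * x * h)) * h⁻¹ := by rw [h1]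
        _ = (h * w * h⁻¹) * x := by group
    have hy2 : (h * w * h⁻¹) * (h * w * h⁻¹) = 1 := by
      calc (h * w * h⁻¹) * (h * w * h⁻¹) = h * (w * w) * h⁻¹ := by group
        _ = 1 := by rw [hw2]; group
    exact (hmemW _).mpr ⟨hW_E _ hyX hy2 hyc, hyc⟩
  -- `N_G(X)` fixes `v`
  have hdconjv : ∀ h ∈ Subgroup.normalizer ((X : Subgroup G) : Set G), d (h * v * h⁻¹) = 1 := by
    intro h hh
    let c : ↥(X : Subgroup G) →* ↥(X : Subgroup G) :=
      { toFun := fun x => ⟨h * x * h⁻¹, hconjX h hh x x.2⟩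
        map_one' := by apply Subtype.ext; simp
        map_mul' := by
          intro a b
          apply Subtype.ext
          show h * (↑a * ↑b) * h⁻¹ = (h * ↑a * h⁻¹) * (h * ↑b * h⁻¹)
          group }
    have h1 := MonoidHom.mem_ker.mp (Abelianization.commutator_subset_ker (δ.comp c) hv'K)
    rw [hd _ (hconjX h hh v hvX)]
    exact h1
  have hvfix : ∀ h ∈ Subgroup.normalizer ((X : Subgroup G) : Set G), h * v * h⁻¹ = v := by
    intro h hh
    have h1 := hdconjv h hh
    rcases hWfour _ (hconjW h hh v hvW) with h3 | h3 | h3 | h3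
    · exfalso
      apply hv1
      have : v = h⁻¹ * (h * v * h⁻¹) * h := by group
      rw [this, h3]; group
    · exact h3
    · exfalso
      rw [h3, hdu₀] at h1
      exact hneg1 h1
    · exfalso
      rw [h3, hdmul u₀ hu₀X v hvX, hdu₀, hdv, mul_one] at h1
      exact hneg1 h1
  have hu₀orb : ∀ h ∈ Subgroup.normalizer ((X : Subgroup G) : Set G),
      h * u₀ * h⁻¹ = u₀ ∨ h * u₀ * h⁻¹ = u₀ * v := by
    intro h hh
    rcases hWfour _ (hconjW h hh u₀ hu₀W) with h3 | h3 | h3 | h3
    · exfalso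
      apply hu₀1
      have : u₀ = h⁻¹ * (h * u₀ * h⁻¹) * h := by group
      rw [this, h3]; group
    · exfalso
      apply hvu₀
      have h4 := hvfix h⁻¹ (Subgroup.inv_mem _ hh)
      have : u₀ = h⁻¹ * (h * u₀ * h⁻¹) * h := by group
      rw [this, h3]
      simpa using h4.symm
    · exact Or.inl h3
    · exact Or.inr h3
  -- odd index of `X` in its normalizer
  have hfix : ∀ h ∈ Subgroup.normalizer ((X : Subgroup G) : Set G), h * u₀ * h⁻¹ = u₀ := by
    intro h hh
    rcases hu₀orb h hh with h3 | h3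
    · exact h3
    exfalso
    have hpow : ∀ k : ℕ, h ^ k * u₀ * (h ^ k)⁻¹ = u₀ * v ^ k := by
      intro k
      induction k with
      | zero => simp
      | succ k ih =>
        calc h ^ (k + 1) * u₀ * (h ^ (k + 1))⁻¹
            = h * (h ^ k * u₀ * (h ^ k)⁻¹) * h⁻¹ := by rw [pow_succ']; group
          _ = h * (u₀ * v ^ k) * h⁻¹ := by rw [ih]
          _ = (h * u₀ * h⁻¹) * (h * v * h⁻¹) ^ k := by rw [conj_pow]; group
          _ = u₀ * v ^ (k + 1) := by rw [h3, hvfix h hh, pow_succ', mul_assoc]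
    have : ((X : Subgroup G).subgroupOf (Subgroup.normalizer ((X : Subgroup G) : Set G))).Normal :=
      Subgroup.normal_in_normalizer
    set m := ((X : Subgroup G).subgroupOf (Subgroup.normalizer ((X : Subgroup G) : Set G))).index
      with hm
    have hmX : h ^ m ∈ (X : Subgroup G) := by
      have h1 := Subgroup.pow_index_mem
        ((X : Subgroup G).subgroupOf (Subgroup.normalizer ((X : Subgroup G) : Set G))) ⟨h, hh⟩
      rw [Subgroup.mem_subgroupOf, Subgroup.coe_pow] at h1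
      exact h1
    have hmodd : ¬ 2 ∣ m := by
      intro h2m
      have h1 : (X : Subgroup G).relIndex (Subgroup.normalizer ((X : Subgroup G) : Set G)) *
          (Subgroup.normalizer ((X : Subgroup G) : Set G)).index = (X : Subgroup G).index :=
        Subgroup.relIndex_mul_index Subgroup.le_normalizer
      have h4 : 2 ∣ (X : Subgroup G).index := by
        rw [← h1]
        exact Dvd.dvd.mul_right h2m _
      exact X.not_dvd_index h4
    have hvm : v ^ m = v := by
      obtain ⟨j, hj⟩ : ∃ j, m = 2 * j + 1 := ⟨m / 2, by omega⟩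
      rw [hj, pow_succ, pow_mul, sq, hvsq, one_pow, one_mul]
    have h5 := hpow m
    rw [hvm] at h5
    have h6 : h ^ m * u₀ * (h ^ m)⁻¹ = u₀ := by
      rw [hu₀c _ hmX]; group
    rw [h6] at h5
    apply hv1
    have : u₀ * 1 = u₀ * v := by rw [mul_one]; exact h5
    exact (mul_left_cancel this).symm
  -- transfer
  have hT1 := Cfsg.Agent.Lib.Helper49.S1906.transfer_central_involution X δ u₀ hu₀X hu₀sq hu₀c hfix
  have hT2 := Cfsg.Agent.Lib.Helper49.S1906.hom_involution_eq_one hG (MonoidHom.transfer δ) u₀ hu₀sq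
  rw [hT1, hδu₀] at hT2
  exact hneg1 hT2


end Cfsg.Agent.S1906
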