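import Cfsg.Statements.S1907
import Cfsg.Agent.Lib.Helper48.Generation
import Cfsg.Agent.Lib.Helper54.PCores
import Cfsg.Agent.Lib.Helper71.Fitting
-- import your own Cfsg.Agent.* helpers here

set_option autoImplicit false
open Cfsg

namespace Cfsg.Agent.S1907

section helpers

variable {G : Type*} [Group G]

/-- The normalizer of `H` normalizes the centralizer of `H` (elementwise form). -/
theorem conj_mem_centralizer_of_mem_normalizer {H : Subgroup G} {g c : G}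
    (hg : g ∈ Subgroup.normalizer (H : Set G)) (hc : c ∈ Subgroup.centralizer (H : Set G)) :
    g * c * g⁻¹ ∈ Subgroup.centralizer (H : Set G) := by
  rw [Subgroup.mem_centralizer_iff] at hc ⊢
  intro h hh
  have h1 : g⁻¹ * h * g ∈ H := by
    have := (Subgroup.mem_normalizer_iff.mp (Subgroup.inv_mem _ hg) h).mp hh
    simpa using this
  have h2 := hc _ h1
  calc h * (g * c * g⁻¹) = g * ((g⁻¹ * h * g) * c) * g⁻¹ := by group
    _ = g * (c * (g⁻¹ * h * g)) * g⁻¹ := by rw [h2]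
    _ = g * c * g⁻¹ * h := by group

/-- Part (a), for an arbitrary `p`-subgroup `H` and normal `p'`-subgroup `D`. -/
theorem part_a [Finite G] {p : ℕ} [Fact p.Prime] (D H : Subgroup G) [hDn : D.Normal]
    (hD : (Nat.card D).Coprime p) (hH : IsPGroup p H)
    (y : G) (hy : y ∈ Subgroup.normalizer (H : Set G)) (hyp : ∃ k : ℕ, orderOf y = p ^ k)
    (d : G) (hd : d ∈ D) (hdy : d⁻¹ * y * d ∈ Subgroup.normalizer (H : Set G)) :
    ∃ d₁ ∈ D ⊓ Subgroup.centralizer ({y} : Set G),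
      ∃ d₂ ∈ D ⊓ Subgroup.centralizer (H : Set G), d = d₁ * d₂ := by
  set C : Subgroup G := D ⊓ Subgroup.centralizer (H : Set G) with hC
  obtain ⟨k, hk⟩ := hyp
  have hyP : IsPGroup p (Subgroup.zpowers y) :=
    IsPGroup.of_card (n := k) (by rw [Nat.card_zpowers, hk])
  have hCcard : ¬ p ∣ Nat.card C := by
    intro h
    have h1 : p ∣ Nat.card D := h.trans (Subgroup.card_dvd_of_le inf_le_left)
    have h2 : p ∣ Nat.gcd (Nat.card D) p := Nat.dvd_gcd h1 dvd_rfl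
    rw [Nat.Coprime] at hD
    rw [hD] at h2
    exact (Fact.out : p.Prime).one_lt.ne' (Nat.dvd_one.mp h2)
  -- `y` normalizes `C`
  have hyC : y ∈ Subgroup.normalizer (C : Set G) := by
    have key : ∀ g ∈ Subgroup.normalizer (H : Set G), ∀ c ∈ C, g * c * g⁻¹ ∈ C := by
      intro g hg c hc
      exact ⟨hDn.conj_mem c hc.1 g, conj_mem_centralizer_of_mem_normalizer hg hc.2⟩
    rw [Subgroup.mem_normalizer_iff]
    intro c
    constructor
    · exact key y hy c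
    · intro h
      have := key y⁻¹ (Subgroup.inv_mem _ hy) _ h
      have e : y⁻¹ * (y * c * y⁻¹) * y⁻¹⁻¹ = c := by group
      rwa [e] at this
  -- `e = y⁻¹ * (d⁻¹ y d)` lies in `C`
  have heD : y⁻¹ * (d⁻¹ * y * d) ∈ D := by
    have h1 : y⁻¹ * d⁻¹ * y⁻¹⁻¹ ∈ D := hDn.conj_mem _ (D.inv_mem hd) y⁻¹
    have : y⁻¹ * (d⁻¹ * y * d) = (y⁻¹ * d⁻¹ * y⁻¹⁻¹) * d := by group
    rw [this]
    exact D.mul_mem h1 hd
  have heN : y⁻¹ * (d⁻¹ * y * d) ∈ Subgroup.normalizer (H : Set G) :=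
    Subgroup.mul_mem _ (Subgroup.inv_mem _ hy) hdy
  have heC : y⁻¹ * (d⁻¹ * y * d) ∈ C := by
    refine ⟨heD, ?_⟩
    set e := y⁻¹ * (d⁻¹ * y * d) with he
    show e ∈ Subgroup.centralizer (H : Set G)
    rw [Subgroup.mem_centralizer_iff]
    intro h hh
    have h1 : e * h * e⁻¹ ∈ H := (Subgroup.mem_normalizer_iff.mp heN h).mp hh
    have h2 : e * h * e⁻¹ * h⁻¹ ∈ H := H.mul_mem h1 (H.inv_mem hh)
    have h3 : e * h * e⁻¹ * h⁻¹ ∈ D := by
      have : e * h * e⁻¹ * h⁻¹ = e * (h * e⁻¹ * h⁻¹) := by group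
      rw [this]
      exact D.mul_mem heD (hDn.conj_mem _ (D.inv_mem heD) h)
    have h4 := Cfsg.Agent.Lib.Helper54.eq_one_of_mem_pGroup_of_mem_coprime hH hD h2 h3
    calc h * e = (e * h * e⁻¹ * h⁻¹)⁻¹ * (e * h) := by group
      _ = e * h := by rw [h4, inv_one, one_mul]
  -- the coset `d C` is stable under conjugation by `y`
  have hx : d⁻¹ * (y * d * y⁻¹) ∈ C := by
    have h1 := (Subgroup.mem_normalizer_iff.mp hyC _).mp heC
    have : y * (y⁻¹ * (d⁻¹ * y * d)) * y⁻¹ = d⁻¹ * (y * d * y⁻¹) := by group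
    rwa [this] at h1
  obtain ⟨n, hn, hfix⟩ :=
    Cfsg.Agent.Lib.Helper48.exists_fixed_in_coset_of_elem y hyP C hCcard hyC d hx
  refine ⟨d * n, ⟨D.mul_mem hd hn.1, ?_⟩, n⁻¹, C.inv_mem hn, by group⟩
  show d * n ∈ Subgroup.centralizer ({y} : Set G)
  rw [Subgroup.mem_centralizer_iff]
  intro z hz
  rw [Set.mem_singleton_iff] at hz
  subst hz
  calc z * (d * n) = (z * (d * n) * z⁻¹) * z := by group
    _ = d * n * z := by rw [hfix]

end helpers


/-- Let P be a Sylow p-subgroup of a finite group G, H = P ∩ O_{p',p}(G), N = N_G(H) and D = O_{p'}(G). (a) If y is an element of p-power order of N and d ∈ D with d⁻¹ y d ∈ N, then d = d₁ d₂ with d₁ ∈ C_D(y) and d₂ ∈ C_D(H). (b) Two elements of P that are conjugate in G are conjugate in N. -/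
theorem result {G : Type*} [Group G] [Finite G] {p : ℕ} [Fact p.Prime] (P : Sylow p G) :
    (∀ y ∈ Subgroup.normalizer (((P : Subgroup G) ⊓ Cfsg.pPrimePCore p G : Subgroup G) : Set G), (∃ k : ℕ, orderOf y = p ^ k) →
      ∀ d ∈ Cfsg.pPrimeCore p G, d⁻¹ * y * d ∈ Subgroup.normalizer (((P : Subgroup G) ⊓ Cfsg.pPrimePCore p G : Subgroup G) : Set G) →
        ∃ d₁ ∈ Cfsg.pPrimeCore p G ⊓ Subgroup.centralizer ({y} : Set G),
          ∃ d₂ ∈ Cfsg.pPrimeCore p G ⊓ Subgroup.centralizer (((P : Subgroup G) ⊓ Cfsg.pPrimePCore p G : Subgroup G) : Set G), d = d₁ * d₂) ∧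
    ∀ x y : G, x ∈ (P : Subgroup G) → y ∈ (P : Subgroup G) → IsConj x y →
      ∃ n ∈ Subgroup.normalizer (((P : Subgroup G) ⊓ Cfsg.pPrimePCore p G : Subgroup G) : Set G), n * x * n⁻¹ = y := by
  classical
  set D : Subgroup G := Cfsg.pPrimeCore p G with hDdef
  set K : Subgroup G := Cfsg.pPrimePCore p G with hKdef
  have hDn : D.Normal := Cfsg.pPrimeCore_normal p G
  have hKn : K.Normal := Cfsg.Agent.Lib.Helper54.pPrimePCore_normal_h54 p
  have hD : (Nat.card D).Coprime p := Cfsg.Agent.Lib.Helper54.card_pPrimeCore_coprime p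
  have hH : IsPGroup p ((P : Subgroup G) ⊓ K : Subgroup G) := P.isPGroup'.to_le inf_le_left
  have hA : ∀ y ∈ Subgroup.normalizer (((P : Subgroup G) ⊓ K : Subgroup G) : Set G),
      (∃ k : ℕ, orderOf y = p ^ k) → ∀ d ∈ D,
      d⁻¹ * y * d ∈ Subgroup.normalizer (((P : Subgroup G) ⊓ K : Subgroup G) : Set G) →
      ∃ d₁ ∈ D ⊓ Subgroup.centralizer ({y} : Set G),
        ∃ d₂ ∈ D ⊓ Subgroup.centralizer (((P : Subgroup G) ⊓ K : Subgroup G) : Set G),
          d = d₁ * d₂ :=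
    fun y hy hyp d hd hdy => part_a D _ hD hH y hy hyp d hd hdy
  refine ⟨hA, ?_⟩
  intro x y hx hy hxy
  obtain ⟨g, hg⟩ := isConj_iff.mp hxy
  -- `P ≤ N`
  have hPN : (P : Subgroup G) ≤
      Subgroup.normalizer (((P : Subgroup G) ⊓ K : Subgroup G) : Set G) := by
    intro a ha
    rw [Subgroup.mem_normalizer_iff]
    intro h
    constructor
    · intro hh
      exact ⟨(P : Subgroup G).mul_mem ((P : Subgroup G).mul_mem ha hh.1) ((P : Subgroup G).inv_mem ha),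
        hKn.conj_mem h hh.2 a⟩
    · intro hh
      have h1 : a⁻¹ * (a * h * a⁻¹) * a ∈ (P : Subgroup G) :=
        (P : Subgroup G).mul_mem ((P : Subgroup G).mul_mem ((P : Subgroup G).inv_mem ha) hh.1) ha
      have h2 : a⁻¹ * (a * h * a⁻¹) * a⁻¹⁻¹ ∈ K := hKn.conj_mem _ hh.2 a⁻¹
      have e1 : a⁻¹ * (a * h * a⁻¹) * a = h := by group
      have e2 : a⁻¹ * (a * h * a⁻¹) * a⁻¹⁻¹ = h := by group
      rw [e1] at h1
      rw [e2] at h2
      exact ⟨h1, h2⟩
  -- a Sylow `p`-subgroup of `K`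
  have hidx : ¬ p ∣ ((P : Subgroup G).subgroupOf K).index := by
    intro h
    have h1 : (P : Subgroup G).relIndex K ∣ (P : Subgroup G).index :=
      Cfsg.Agent.Lib.Helper71.relIndex_dvd_index_of_normal_right (P : Subgroup G) K
    exact P.not_dvd_index (h.trans h1)
  have hPK : IsPGroup p ((P : Subgroup G).subgroupOf K) := P.isPGroup'.comap_subtype
  set S' : Sylow p K := IsPGroup.toSylow hPK hidx with hS'
  have hS'map : (S' : Subgroup K).map K.subtype = (P : Subgroup G) ⊓ K := by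
    have hcoe : (S' : Subgroup K) = (P : Subgroup G).subgroupOf K := IsPGroup.toSylow_coe hPK hidx
    rw [hcoe, Subgroup.subgroupOf_map_subtype]
  -- Frattini argument
  have hfr := Sylow.normalizer_sup_eq_top S'
  rw [hS'map] at hfr
  have hgmem : g ∈ K ⊔ Subgroup.normalizer (((P : Subgroup G) ⊓ K : Subgroup G) : Set G) := by
    rw [sup_comm, hfr]; trivial
  rw [← SetLike.mem_coe, Subgroup.normal_mul] at hgmem
  obtain ⟨k, hk, n₀, hn₀, rfl⟩ := hgmem
  obtain ⟨d, hd, h, hh, rfl⟩ := Cfsg.Agent.Lib.Helper54.exists_mul_of_mem_pPrimePCore p S' hk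
  rw [hS'map] at hh
  have hhN : h ∈ Subgroup.normalizer (((P : Subgroup G) ⊓ K : Subgroup G) : Set G) :=
    hPN hh.1
  set m := h * n₀ with hm
  have hmN : m ∈ Subgroup.normalizer (((P : Subgroup G) ⊓ K : Subgroup G) : Set G) :=
    Subgroup.mul_mem _ hhN hn₀
  set x' := m * x * m⁻¹ with hx'
  have hx'N : x' ∈ Subgroup.normalizer (((P : Subgroup G) ⊓ K : Subgroup G) : Set G) :=
    Subgroup.mul_mem _ (Subgroup.mul_mem _ hmN (hPN hx)) (Subgroup.inv_mem _ hmN)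
  have hyx' : y = d * x' * d⁻¹ := by
    rw [← hg, hx', hm]; group
  have hx'ord : ∃ k : ℕ, orderOf x' = p ^ k := by
    obtain ⟨k, hk⟩ := P.isPGroup' ⟨x, hx⟩
    have hxk : x ^ p ^ k = 1 := congrArg Subtype.val hk
    have hx'k : x' ^ p ^ k = 1 := by
      rw [hx', conj_pow, hxk]; group
    obtain ⟨j, -, hj⟩ := (Nat.dvd_prime_pow (Fact.out : p.Prime)).mp (orderOf_dvd_of_pow_eq_one hx'k)
    exact ⟨j, hj⟩
  have hdinv : (d⁻¹)⁻¹ * x' * d⁻¹ ∈
      Subgroup.normalizer (((P : Subgroup G) ⊓ K : Subgroup G) : Set G) := by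
    rw [inv_inv, ← hyx']
    exact hPN hy
  obtain ⟨d₁, hd₁, d₂, hd₂, hdd⟩ := hA x' hx'N hx'ord d⁻¹ (D.inv_mem hd) hdinv
  have hd₁c : d₁ * x' = x' * d₁ := by
    have := Subgroup.mem_centralizer_iff.mp hd₁.2 x' rfl
    exact this.symm
  have hd₂N : d₂ ∈ Subgroup.normalizer (((P : Subgroup G) ⊓ K : Subgroup G) : Set G) :=
    Subgroup.centralizer_le_normalizer _ hd₂.2
  refine ⟨d₂⁻¹ * m, Subgroup.mul_mem _ (Subgroup.inv_mem _ hd₂N) hmN, ?_⟩
  have hd' : d = d₂⁻¹ * d₁⁻¹ := by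
    have : d = (d⁻¹)⁻¹ := (inv_inv d).symm
    rw [this, hdd, mul_inv_rev]
  rw [hyx', hd']
  calc d₂⁻¹ * m * x * (d₂⁻¹ * m)⁻¹ = d₂⁻¹ * (m * x * m⁻¹) * d₂ := by group
    _ = d₂⁻¹ * x' * d₂ := by rw [hx']
    _ = d₂⁻¹ * (d₁⁻¹ * (d₁ * x')) * d₂ := by group
    _ = d₂⁻¹ * (d₁⁻¹ * (x' * d₁)) * d₂ := by rw [hd₁c]
    _ = d₂⁻¹ * d₁⁻¹ * x' * (d₂⁻¹ * d₁⁻¹)⁻¹ := by group

end Cfsg.Agent.S1907
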