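import Cfsg.Statements.S1910
import Cfsg.Agent.Lib.Helper33.SylIn

set_option autoImplicit false
open Cfsg

namespace Cfsg.Agent.S1910

open Cfsg.Agent.Lib.Helper33
open scoped commutatorElement

variable {G : Type*} [Group G]

/-- The conjugate-intersection half of tight embedding. -/
def TE (A : Subgroup G) : Prop :=
  ∀ x : G, x ∉ Subgroup.normalizer (A : Set G) → Odd (Nat.card ↥(A ⊓ cj x A))

theorem te_cj {A : Subgroup G} (hA : TE A) (g : G) : TE (cj g A) := by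
  intro x hx
  have hx' : g⁻¹ * x * g ∉ Subgroup.normalizer (A : Set G) := by
    intro h
    apply hx
    rw [← cj_normalizer, mem_cj]
    exact h
  have h1 := hA _ hx'
  have h2 : cj g A ⊓ cj x (cj g A) = cj g (A ⊓ cj (g⁻¹ * x * g) A) := by
    rw [cj_inf, ← cj_mul, ← cj_mul]
    congr 2
    group
  rw [h2, card_cj]
  exact h1

theorem card_mul_relIndex_eq [Finite G] {A B : Subgroup G} (h : A ≤ B) :
    Nat.card A * A.relIndex B = Nat.card B := by
  have h1 := Subgroup.relIndex_mul_index h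
  have h2 := A.card_mul_index
  have h3 := B.card_mul_index
  have hB : B.index ≠ 0 := Subgroup.index_ne_zero_of_finite
  have : Nat.card A * A.relIndex B * B.index = Nat.card B * B.index := by
    rw [mul_assoc, h1, h2, h3]
  exact Nat.eq_of_mul_eq_mul_right (Nat.pos_of_ne_zero hB) this

theorem two_dvd_card [Finite G] {T : Subgroup G} (hT2 : IsPGroup 2 T) (hT1 : T ≠ ⊥) :
    2 ∣ Nat.card T := by
  obtain ⟨k, hk⟩ := IsPGroup.iff_card.mp hT2
  have hk0 : k ≠ 0 := by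
    rintro rfl
    rw [pow_zero] at hk
    exact hT1 (Subgroup.card_eq_one.mp hk)
  rw [hk]
  exact dvd_pow_self 2 hk0

theorem eq_bot_of_odd [Finite G] {K X : Subgroup G} (hKX : K ≤ X) (hX : Odd (Nat.card X))
    (hK : IsPGroup 2 K) : K = ⊥ := by
  by_contra hne
  have h1 := two_dvd_card hK hne
  have h2 : Nat.card K ∣ Nat.card X := Subgroup.card_dvd_of_le hKX
  exact (Nat.not_even_iff_odd.mpr hX) (even_iff_two_dvd.mpr (h1.trans h2))

theorem normalizer_le_of_te [Finite G] {B T : Subgroup G} (hB : TE B) (hTB : T ≤ B)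
    (hT2 : IsPGroup 2 T) (hT1 : T ≠ ⊥) :
    Subgroup.normalizer (T : Set G) ≤ Subgroup.normalizer (B : Set G) := by
  intro x hx
  by_contra hxB
  have hodd := hB x hxB
  apply hT1
  apply eq_bot_of_odd _ hodd hT2
  refine le_inf hTB ?_
  intro t ht
  rw [mem_cj]
  exact hTB ((Subgroup.mem_normalizer_iff''.mp hx t).mp ht)

/-- Normalizers grow in `p`-groups. -/
theorem exists_mem_normalizer_not_mem' [Finite G] {p : ℕ} [Fact p.Prime] {S P : Subgroup G}
    (hS : IsPGroup p S) (hP : P ≤ S) (hne : P ≠ S) :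
    ∃ x, x ∈ S ∧ x ∈ Subgroup.normalizer (P : Set G) ∧ x ∉ P := by
  have : Group.IsNilpotent S := hS.isNilpotent
  have hnc : NormalizerCondition S := Group.normalizerCondition_of_isNilpotent
  have hlt : P.subgroupOf S < ⊤ := by
    rw [lt_top_iff_ne_top]
    intro h
    apply hne
    apply le_antisymm hP
    intro x hx
    have : (⟨x, hx⟩ : S) ∈ P.subgroupOf S := by rw [h]; trivial
    exact this
  have := hnc _ hlt
  obtain ⟨x, hxN, hxP⟩ := SetLike.exists_of_lt this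
  rw [Subgroup.mem_normalizer_iff] at hxN
  refine ⟨(x : G), x.2, ?_, hxP⟩
  rw [Subgroup.mem_normalizer_iff]
  intro y
  constructor
  · intro hy
    have := (hxN ⟨y, hP hy⟩).mp hy
    exact this
  · intro hy
    have hyS : y ∈ S := by
      have h1 := hP hy
      have : y = (x : G)⁻¹ * ((x : G) * y * (x : G)⁻¹) * (x : G) := by group
      rw [this]
      exact mul_mem (mul_mem (inv_mem x.2) h1) x.2
    exact (hxN ⟨y, hyS⟩).mpr hy

/-- The projection of `L ≤ R × T` (internal, commuting factors) to `R`, injective when `L ∩ T = 1`. -/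
theorem exists_injective_hom (R T L : Subgroup G)
    (hfac : ∀ y ∈ L, ∃ a ∈ R, ∃ t ∈ T, y = a * t) (hRT : R ⊓ T = ⊥)
    (hcomm : ∀ a ∈ R, ∀ t ∈ T, a * t = t * a) (hLT : L ⊓ T = ⊥) :
    ∃ f : L →* R, Function.Injective f := by
  classical
  choose a ha t ht hy using hfac
  have huniq : ∀ a₁ ∈ R, ∀ t₁ ∈ T, ∀ a₂ ∈ R, ∀ t₂ ∈ T, a₁ * t₁ = a₂ * t₂ → a₁ = a₂ := by
    intro a₁ ha₁ t₁ ht₁ a₂ ha₂ t₂ ht₂ h
    have h1 : a₂⁻¹ * a₁ = t₂ * t₁⁻¹ := by
      calc a₂⁻¹ * a₁ = a₂⁻¹ * (a₁ * t₁) * t₁⁻¹ := by group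
        _ = a₂⁻¹ * (a₂ * t₂) * t₁⁻¹ := by rw [h]
        _ = t₂ * t₁⁻¹ := by group
    have h2 : a₂⁻¹ * a₁ ∈ R ⊓ T :=
      ⟨R.mul_mem (R.inv_mem ha₂) ha₁, h1 ▸ T.mul_mem ht₂ (T.inv_mem ht₁)⟩
    rw [hRT, Subgroup.mem_bot] at h2
    exact (inv_mul_eq_one.mp h2).symm
  refine ⟨MonoidHom.mk' (fun y => ⟨a y.1 y.2, ha y.1 y.2⟩) ?_, ?_⟩
  · intro y₁ y₂
    apply Subtype.ext
    show a (y₁ * y₂ : L) (y₁ * y₂).2 = a y₁ y₁.2 * a y₂ y₂.2
    apply huniq _ (ha _ _) _ (ht _ _) _ (R.mul_mem (ha _ _) (ha _ _)) (t y₁ y₁.2 * t y₂ y₂.2)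
      (T.mul_mem (ht _ _) (ht _ _))
    rw [← hy]
    have e1 := hy y₁ y₁.2
    have e2 := hy y₂ y₂.2
    have hc := hcomm _ (ha y₂ y₂.2) _ (ht y₁ y₁.2)
    calc ((y₁ * y₂ : L) : G) = (y₁ : G) * (y₂ : G) := rfl
      _ = (a y₁ y₁.2 * t y₁ y₁.2) * (a y₂ y₂.2 * t y₂ y₂.2) := by rw [← e1, ← e2]
      _ = a y₁ y₁.2 * (t y₁ y₁.2 * a y₂ y₂.2) * t y₂ y₂.2 := by group
      _ = a y₁ y₁.2 * (a y₂ y₂.2 * t y₁ y₁.2) * t y₂ y₂.2 := by rw [hc]
      _ = a y₁ y₁.2 * a y₂ y₂.2 * (t y₁ y₁.2 * t y₂ y₂.2) := by group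
  · rw [injective_iff_map_eq_one]
    intro y hy1
    have h1 : a y.1 y.2 = 1 := congrArg Subtype.val hy1
    have h2 : (y : G) = t y.1 y.2 := by
      have := hy y.1 y.2
      rw [h1, one_mul] at this
      exact this
    have h3 : (y : G) ∈ L ⊓ T := ⟨y.2, h2 ▸ ht y.1 y.2⟩
    rw [hLT, Subgroup.mem_bot] at h3
    exact Subtype.ext h3

theorem card_of_factor [Finite G] (T E B : Subgroup G) (hTB : T ≤ B)
    (hEB : E ≤ B) (hdisj : T ⊓ E = ⊥) (hfac : ∀ b ∈ B, ∃ t ∈ T, ∃ e ∈ E, b = t * e) :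
    Nat.card B = Nat.card T * Nat.card E := by
  let f : T × E → B := fun p => ⟨(p.1 : G) * (p.2 : G), B.mul_mem (hTB p.1.2) (hEB p.2.2)⟩
  have hinj : Function.Injective f := by
    intro p q hpq
    have h1 : (p.1 : G) * (p.2 : G) = (q.1 : G) * (q.2 : G) := congrArg Subtype.val hpq
    exact Subgroup.mul_injective_of_disjoint (disjoint_iff.mpr hdisj) h1
  have hsurj : Function.Surjective f := by
    rintro ⟨b, hb⟩
    obtain ⟨t, ht, e, he, rfl⟩ := hfac b hb
    exact ⟨(⟨t, ht⟩, ⟨e, he⟩), rfl⟩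
  rw [← Nat.card_prod]
  exact (Nat.card_congr (Equiv.ofBijective f ⟨hinj, hsurj⟩)).symm

/-- The asymmetric half of the lemma. -/
theorem lemmaX [Finite G] (A B T S : Subgroup G) (hB : TE B)
    (hABodd : Odd (Nat.card ↥(A ⊓ B))) (g : G) (hconj : B = cj g A)
    (hTB : T ≤ B) (hTNA : T ≤ Subgroup.normalizer (A : Set G)) (hT2 : IsPGroup 2 T) (hT1 : T ≠ ⊥)
    (hTS : T ≤ S) (hSAT : S ≤ A ⊔ T) (hS2 : IsPGroup 2 S) (hSsyl : ¬ 2 ∣ S.relIndex (A ⊔ T)) :
    S ⊓ Subgroup.normalizer (T : Set G) ⊓ A ≤ Subgroup.normalizer (B : Set G) ∧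
    T ⊓ A = ⊥ ∧
    ⁅T, S ⊓ Subgroup.normalizer (T : Set G) ⊓ A⁆ = ⊥ ∧
    T ⊔ (S ⊓ Subgroup.normalizer (T : Set G) ⊓ A) = S ⊓ Subgroup.normalizer (T : Set G) ∧
    Nat.card T ≤ Nat.card ↥(S ⊓ Subgroup.normalizer (T : Set G) ⊓ A) ∧
    (Nat.card T = Nat.card ↥(S ⊓ Subgroup.normalizer (T : Set G) ⊓ A) →
      Nonempty (↥(S ⊓ Subgroup.normalizer (T : Set G) ⊓ A) ≃* T)) := by
  have hp2 : Fact (Nat.Prime 2) := ⟨Nat.prime_two⟩
  set N := S ⊓ Subgroup.normalizer (T : Set G) with hN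
  set R := N ⊓ A with hR
  have hRN : R ≤ N := inf_le_left
  have hRA : R ≤ A := inf_le_right
  have hRS : R ≤ S := hRN.trans inf_le_left
  have hR2 : IsPGroup 2 R := hS2.to_le hRS
  have hTN : T ≤ N := le_inf hTS Subgroup.le_normalizer
  have hNTB := normalizer_le_of_te hB hTB hT2 hT1
  have h1 : R ≤ Subgroup.normalizer (B : Set G) := (hRN.trans inf_le_right).trans hNTB
  have h2 : T ⊓ A = ⊥ :=
    eq_bot_of_odd (le_inf inf_le_right (inf_le_left.trans hTB)) hABodd (hT2.to_le inf_le_left)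
  have hTR : T ⊓ R = ⊥ := le_bot_iff.mp (h2 ▸ inf_le_inf_left T hRA)
  have hcomm : ∀ t ∈ T, ∀ r ∈ R, ⁅t, r⁆ = 1 := by
    intro t ht r hr
    have hmem : ⁅t, r⁆ ∈ T ⊓ A := by
      rw [commutatorElement_def]
      constructor
      · have hrn : r ∈ Subgroup.normalizer (T : Set G) := (hRN hr).2
        have : r * t⁻¹ * r⁻¹ ∈ T := (Subgroup.mem_normalizer_iff.mp hrn t⁻¹).mp (T.inv_mem ht)
        have e : t * r * t⁻¹ * r⁻¹ = t * (r * t⁻¹ * r⁻¹) := by group
        rw [e]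
        exact T.mul_mem ht this
      · have htn : t ∈ Subgroup.normalizer (A : Set G) := hTNA ht
        have : t * r * t⁻¹ ∈ A := (Subgroup.mem_normalizer_iff.mp htn r).mp (hRA hr)
        exact A.mul_mem this (A.inv_mem (hRA hr))
    rw [h2, Subgroup.mem_bot] at hmem
    exact hmem
  have h3 : ⁅T, R⁆ = ⊥ := by
    rw [eq_bot_iff, Subgroup.commutator_le]
    intro t ht r hr
    rw [Subgroup.mem_bot]
    exact hcomm t ht r hr
  -- factorization of N
  have hfacN : ∀ y ∈ N, ∃ a ∈ R, ∃ t ∈ T, y = a * t := by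
    intro y hy
    have hyAT : y ∈ A ⊔ T := hSAT hy.1
    rw [← SetLike.mem_coe, Subgroup.coe_mul_of_right_le_normalizer_left A T hTNA] at hyAT
    obtain ⟨a, ha, t, ht, rfl⟩ := hyAT
    refine ⟨a, ⟨?_, ha⟩, t, ht, rfl⟩
    have : a = (a * t) * t⁻¹ := by group
    rw [this]
    exact N.mul_mem hy (N.inv_mem (hTN ht))
  have h4 : T ⊔ R = N := by
    apply le_antisymm (sup_le hTN hRN)
    intro y hy
    obtain ⟨a, ha, t, ht, rfl⟩ := hfacN y hy
    exact Subgroup.mul_mem _ (Subgroup.mem_sup_right ha) (Subgroup.mem_sup_left ht)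
  have hcommRT : ∀ a ∈ R, ∀ t ∈ T, a * t = t * a := by
    intro a ha t ht
    have := hcomm t ht a ha
    rw [commutatorElement_eq_one_iff_mul_comm] at this
    exact this.symm
  refine ⟨h1, h2, h3, h4, ?_⟩
  by_cases hcase : S ≤ Subgroup.normalizer (T : Set G)
  · -- Case 1: T normal in S, R is a Sylow 2-subgroup of A
    have hNS : N = S := inf_of_le_left hcase
    have hfacAT : ∀ y ∈ A ⊔ T, ∃ a ∈ A, ∃ t ∈ T, y = a * t := by
      intro y hy
      rw [← SetLike.mem_coe, Subgroup.coe_mul_of_right_le_normalizer_left A T hTNA] at hy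
      obtain ⟨a, ha, t, ht, rfl⟩ := hy
      exact ⟨a, ha, t, ht, rfl⟩
    have hAT : A ⊓ T = ⊥ := by rw [inf_comm]; exact h2
    have hcardAT : Nat.card ↥(A ⊔ T) = Nat.card A * Nat.card T :=
      card_of_factor A T (A ⊔ T) le_sup_left le_sup_right hAT hfacAT
    have hcardN : Nat.card N = Nat.card R * Nat.card T :=
      card_of_factor R T N hRN hTN (by rw [inf_comm]; exact hTR) hfacN
    have hrel : R.relIndex A = S.relIndex (A ⊔ T) := by
      have e1 := card_mul_relIndex_eq hRA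
      have e2 := card_mul_relIndex_eq hSAT
      rw [hcardAT, ← hNS, hcardN] at e2
      have hTpos : 0 < Nat.card T := Nat.card_pos
      have hRpos : 0 < Nat.card R := Nat.card_pos
      have : Nat.card R * R.relIndex A * Nat.card T = Nat.card R * N.relIndex (A ⊔ T) * Nat.card T := by
        rw [e1, ← e2]; ring
      have := Nat.eq_of_mul_eq_mul_right hTpos this
      have := Nat.eq_of_mul_eq_mul_left hRpos this
      rw [this, hNS]
    have hRsyl : SylIn 2 R A := ⟨hRA, hR2, by rw [hrel]; exact hSsyl⟩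
    have hT'A : cj g⁻¹ T ≤ A := by
      have := cj_mono (g := g⁻¹) hTB
      rwa [hconj, cj_inv_cj] at this
    obtain ⟨a, haA, hle⟩ := hRsyl.exists_cj_le hT'A (isPGroup_cj hT2)
    have hcard' : Nat.card ↥(cj a (cj g⁻¹ T)) = Nat.card T := by rw [card_cj, card_cj]
    constructor
    · rw [← hcard']
      exact Subgroup.card_le_of_le hle
    · intro heq
      have heq' : cj a (cj g⁻¹ T) = R :=
        Subgroup.eq_of_le_of_card_ge hle (by rw [hcard', heq])
      exact ⟨((cjEquiv g⁻¹ T).trans ((cjEquiv a (cj g⁻¹ T)).trans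
        (MulEquiv.subgroupCongr heq'))).symm⟩
  · -- Case 2: N < S
    have hNS : N ≠ S := fun h => hcase (h ▸ inf_le_right)
    obtain ⟨x, hxS, hxN, hxnN⟩ := exists_mem_normalizer_not_mem' hS2 (inf_le_left : N ≤ S) hNS
    have hxT : x ∉ Subgroup.normalizer (T : Set G) := fun h => hxnN ⟨hxS, h⟩
    have hxA : x ∈ Subgroup.normalizer (A : Set G) :=
      (sup_le Subgroup.le_normalizer hTNA : A ⊔ T ≤ _) (hSAT hxS)
    set L := cj x T with hL
    have hLN : L ≤ N := by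
      have := cj_mono (g := x) hTN
      rwa [cj_eq_self_of_mem_normalizer hxN] at this
    have hRB : R ⊓ B = ⊥ := eq_bot_of_odd (inf_le_inf_right B hRA) hABodd (hR2.to_le inf_le_left)
    have hxB : x ∉ Subgroup.normalizer (B : Set G) := by
      intro hxB
      apply hxT
      rw [mem_normalizer_iff_cj_eq]
      have hLB : L ≤ B := by
        have := cj_mono (g := x) hTB
        rwa [cj_eq_self_of_mem_normalizer hxB] at this
      have hLT : L ≤ T := by
        intro y hy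
        obtain ⟨a, ha, t, ht, rfl⟩ := hfacN y (hLN hy)
        have haB : a ∈ R ⊓ B := by
          refine ⟨ha, ?_⟩
          have : a = (a * t) * t⁻¹ := by group
          rw [this]
          exact B.mul_mem (hLB hy) (B.inv_mem (hTB ht))
        rw [hRB, Subgroup.mem_bot] at haB
        rw [haB, one_mul]
        exact ht
      exact Subgroup.eq_of_le_of_card_ge hLT (card_cj x T).ge
    have hodd := hB x hxB
    have hLT : L ⊓ T = ⊥ :=
      eq_bot_of_odd (le_inf (inf_le_right.trans hTB) (inf_le_left.trans (cj_mono hTB))) hodd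
        (hT2.to_le inf_le_right)
    obtain ⟨f, hf⟩ := exists_injective_hom R T L (fun y hy => hfacN y (hLN hy))
      (by rw [inf_comm]; exact hTR) hcommRT hLT
    have hcardL : Nat.card L = Nat.card T := card_cj x T
    constructor
    · rw [← hcardL]
      exact Nat.card_le_card_of_injective f hf
    · intro heq
      have hbij : Function.Bijective f :=
        hf.bijective_of_nat_card_le (by rw [hcardL, heq])
      exact ⟨((cjEquiv x T).trans (MulEquiv.ofBijective f hbij)).symm⟩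

/-- A `p`-subgroup of `M` lies in a Sylow `p`-subgroup of `M`. -/
theorem exists_sylIn_ge [Finite G] {p : ℕ} [Fact p.Prime] {K M : Subgroup G} (hKM : K ≤ M)
    (hK : IsPGroup p K) : ∃ S' : Subgroup G, K ≤ S' ∧ SylIn p S' M := by
  obtain ⟨P, hP⟩ := (hK.comap_subtype (K := M)).exists_le_sylow
  refine ⟨(P : Subgroup M).map M.subtype, ?_, sylIn_of_sylow P⟩
  intro k hk
  exact ⟨⟨k, hKM hk⟩, hP (show (⟨k, hKM hk⟩ : M) ∈ K.subgroupOf M from hk), rfl⟩

theorem card_le_of_sylIn [Finite G] {p : ℕ} [Fact p.Prime] {T X K : Subgroup G}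
    (hT : SylIn p T X) (hKX : K ≤ X) (hK : IsPGroup p K) : Nat.card K ≤ Nat.card T := by
  obtain ⟨h, -, hle⟩ := hT.exists_cj_le hKX hK
  rw [← card_cj h K]
  exact Subgroup.card_le_of_le hle


/-- Let Q be a tightly embedded subgroup of a finite group G, g an element outside N_G(Q), T a nontrivial Sylow 2-subgroup of Q^g ∩ N_G(Q), and S a Sylow 2-subgroup of QT containing T. Then T ∩ Q = 1, and N_S(T) is the direct product of T and N_S(T) ∩ Q, with N_S(T) ∩ Q isomorphic to T. -/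
theorem result {G : Type*} [Group G] [Finite G] (Q : Subgroup G) (hQ : Cfsg.IsTightlyEmbedded Q)
    (g : G) (hg : g ∉ Subgroup.normalizer (Q : Set G))
    (T : Subgroup G) (hT1 : T ≠ ⊥) (hT : T ≤ Q.map (MulAut.conj g).toMonoidHom ⊓ Subgroup.normalizer (Q : Set G))
    (hTsyl : IsPGroup 2 T ∧ ¬ 2 ∣ T.relIndex (Q.map (MulAut.conj g).toMonoidHom ⊓ Subgroup.normalizer (Q : Set G)))
    (S : Subgroup G) (hTS : T ≤ S) (hS : S ≤ Q ⊔ T) (hSsyl : IsPGroup 2 S ∧ ¬ 2 ∣ S.relIndex (Q ⊔ T)) :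
    T ⊓ Q = ⊥ ∧
      T ⊓ (S ⊓ Subgroup.normalizer (T : Set G) ⊓ Q) = ⊥ ∧
      ⁅T, S ⊓ Subgroup.normalizer (T : Set G) ⊓ Q⁆ = ⊥ ∧
      T ⊔ (S ⊓ Subgroup.normalizer (T : Set G) ⊓ Q) = S ⊓ Subgroup.normalizer (T : Set G) ∧
      Nonempty (↥(S ⊓ Subgroup.normalizer (T : Set G) ⊓ Q) ≃* T) := by
  have hp2 : Fact (Nat.Prime 2) := ⟨Nat.prime_two⟩
  set B := cj g Q with hBdef
  have hA : TE Q := hQ.2
  have hB : TE B := te_cj hA g
  have hABodd : Odd (Nat.card ↥(Q ⊓ B)) := hQ.2 g hg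
  have hTB : T ≤ B := hT.trans inf_le_left
  have hTNA : T ≤ Subgroup.normalizer (Q : Set G) := hT.trans inf_le_right
  obtain ⟨h1, h2, h3, h4, h5, h6⟩ := lemmaX Q B T S hB hABodd g rfl hTB hTNA hTsyl.1 hT1 hTS hS
    hSsyl.1 hSsyl.2
  set R := S ⊓ Subgroup.normalizer (T : Set G) ⊓ Q with hR
  have hRQ : R ≤ Q := inf_le_right
  have hRS : R ≤ S := inf_le_left.trans inf_le_left
  have hR2 : IsPGroup 2 R := hSsyl.1.to_le hRS
  have hR1 : R ≠ ⊥ := by
    intro h
    have hc : Nat.card R = 1 := Subgroup.card_eq_one.mpr h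
    have hT2' : 2 ≤ Nat.card T := Nat.le_of_dvd Nat.card_pos (two_dvd_card hTsyl.1 hT1)
    omega
  -- the symmetric application
  obtain ⟨S', hRS', hS'⟩ := exists_sylIn_ge (le_sup_right : R ≤ B ⊔ R) hR2
  have hBAodd : Odd (Nat.card ↥(B ⊓ Q)) := by rw [inf_comm]; exact hABodd
  have hconj' : Q = cj g⁻¹ B := (cj_inv_cj g Q).symm
  obtain ⟨k1, -, -, -, k5, -⟩ := lemmaX B Q R S' hA hBAodd g⁻¹ hconj' hRQ h1 hR2 hR1 hRS'
    hS'.le hS'.isPGroup hS'.not_dvd
  set R' := S' ⊓ Subgroup.normalizer (R : Set G) ⊓ B with hR'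
  have hR'X : R' ≤ B ⊓ Subgroup.normalizer (Q : Set G) := le_inf inf_le_right k1
  have hR'2 : IsPGroup 2 R' := hS'.isPGroup.to_le (inf_le_left.trans inf_le_left)
  have hTsylIn : SylIn 2 T (B ⊓ Subgroup.normalizer (Q : Set G)) := ⟨hT, hTsyl.1, hTsyl.2⟩
  have k6 : Nat.card R' ≤ Nat.card T := card_le_of_sylIn hTsylIn hR'X hR'2
  have hcard : Nat.card T = Nat.card R := le_antisymm h5 (k5.trans k6)
  have hTR : T ⊓ R = ⊥ := le_bot_iff.mp (h2 ▸ inf_le_inf_left T hRQ)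
  exact ⟨h2, hTR, h3, h4, h6 hcard⟩

end Cfsg.Agent.S1910
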