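import Cfsg.Statements.S1921
import Cfsg.Agent.Lib.Helper21.Components
-- import your own Cfsg.Agent.* helpers here

set_option autoImplicit false
open Cfsg

namespace Cfsg.Agent.S1921

open scoped Pointwise

/-- Let a be an involution of a finite group H and L a component of H with a L a⁻¹ ≠ L; put M = ⟨L, aLa⁻¹⟩ and let J be the subgroup generated by the elements x · a x a⁻¹ with x ∈ L (the diagonal). Then every element of M outside J·Z(M) generates M together with J. -/
theorem result {H : Type*} [Group H] [Finite H] (a : H) (ha : orderOf a = 2) (L : Subgroup H) (hL : Cfsg.IsComponent L)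
    (hLa : L.map (MulAut.conj a).toMonoidHom ≠ L) (x : H) (hxM : x ∈ L ⊔ L.map (MulAut.conj a).toMonoidHom)
    (hxJ : x ∉ Subgroup.closure {y : H | ∃ l ∈ L, y = l * (a * l * a⁻¹)} ⊔
      ((L ⊔ L.map (MulAut.conj a).toMonoidHom) ⊓ Subgroup.centralizer ((L ⊔ L.map (MulAut.conj a).toMonoidHom : Subgroup H) : Set H))) :
    Subgroup.closure {y : H | ∃ l ∈ L, y = l * (a * l * a⁻¹)} ⊔ Subgroup.zpowers x = L ⊔ L.map (MulAut.conj a).toMonoidHom := by
  classical
  have hLac : Cfsg.IsComponent (L.map (MulAut.conj a).toMonoidHom) :=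
    Cfsg.Agent.Lib.Helper21.isComponent_map_conj hL a
  have hcomm : ⁅L, L.map (MulAut.conj a).toMonoidHom⁆ = ⊥ :=
    Cfsg.Agent.Lib.Helper21.component_commutator_eq_bot_of_ne hL hLac (Ne.symm hLa)
  set La : Subgroup H := L.map (MulAut.conj a).toMonoidHom with hLadef
  have hmemLa : ∀ l ∈ L, a * l * a⁻¹ ∈ La := by
    intro l hl
    exact ⟨l, hl, by simp⟩
  have hcomm' : ∀ u ∈ L, ∀ t ∈ La, u * t = t * u :=
    Cfsg.Agent.Lib.Helper21.commutator_eq_bot_iff_commute.mp hcomm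
  set J : Subgroup H := Subgroup.closure {y : H | ∃ l ∈ L, y = l * (a * l * a⁻¹)} with hJ
  have hφJ : ∀ l ∈ L, l * (a * l * a⁻¹) ∈ J := by
    intro l hl
    exact Subgroup.subset_closure ⟨l, hl, rfl⟩
  have hJM : J ≤ L ⊔ La := by
    rw [hJ, Subgroup.closure_le]
    rintro y ⟨l, hl, rfl⟩
    exact Subgroup.mul_mem _ (Subgroup.mem_sup_left hl) (Subgroup.mem_sup_right (hmemLa l hl))
  have hKM : J ⊔ Subgroup.zpowers x ≤ L ⊔ La :=
    sup_le hJM (by rw [Subgroup.zpowers_le]; exact hxM)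
  apply le_antisymm hKM
  set K : Subgroup H := J ⊔ Subgroup.zpowers x with hK
  have hxK : x ∈ K := Subgroup.mem_sup_right (Subgroup.mem_zpowers x)
  have hJK : J ≤ K := le_sup_left
  -- decompose `x`
  have hLnorm : L ≤ Subgroup.normalizer (La : Set H) := by
    have : L ≤ Subgroup.centralizer (La : Set H) :=
      Subgroup.commutator_eq_bot_iff_le_centralizer.mp hcomm
    exact this.trans (Subgroup.centralizer_le_normalizer _)
  have hxmul : x ∈ ((L : Set H) * (La : Set H)) := by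
    rw [← Subgroup.coe_mul_of_left_le_normalizer_right L La hLnorm]
    exact hxM
  obtain ⟨u, hu, t, ht, hut⟩ := Set.mem_mul.mp hxmul
  obtain ⟨v, hv, hvt⟩ := ht
  have hvt' : a * v * a⁻¹ = t := by rw [← hvt]; simp
  -- `w = u * v⁻¹` lies in `K ⊓ L`
  have hwK : u * v⁻¹ ∈ K := by
    have h1 : x * (v * (a * v * a⁻¹))⁻¹ ∈ K :=
      K.mul_mem hxK (K.inv_mem (hJK (hφJ v hv)))
    have h2 : x * (v * (a * v * a⁻¹))⁻¹ = u * v⁻¹ := by
      rw [← hut, hvt']; group
    rwa [h2] at h1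
  have hwL : u * v⁻¹ ∈ L := L.mul_mem hu (L.inv_mem hv)
  -- `K ⊓ L` is normalized by `L`
  have hnorm : L ≤ Subgroup.normalizer ((K ⊓ L : Subgroup H) : Set H) := by
    intro l hl
    apply Subgroup.mem_normalizer_fintype
    intro n hn
    have hnK : n ∈ K := hn.1
    have hnL : n ∈ L := hn.2
    refine ⟨?_, L.mul_mem (L.mul_mem hl hnL) (L.inv_mem hl)⟩
    have h1 : (l * (a * l * a⁻¹)) * n * (l * (a * l * a⁻¹))⁻¹ ∈ K :=
      K.mul_mem (K.mul_mem (hJK (hφJ l hl)) hnK) (K.inv_mem (hJK (hφJ l hl)))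
    have h2 : (l * (a * l * a⁻¹)) * n * (l * (a * l * a⁻¹))⁻¹ = l * n * l⁻¹ := by
      have hc := hcomm' n hnL (a * l * a⁻¹) (hmemLa l hl)
      calc (l * (a * l * a⁻¹)) * n * (l * (a * l * a⁻¹))⁻¹
          = l * ((a * l * a⁻¹) * n) * (a * l * a⁻¹)⁻¹ * l⁻¹ := by group
        _ = l * (n * (a * l * a⁻¹)) * (a * l * a⁻¹)⁻¹ * l⁻¹ := by rw [hc]
        _ = l * n * l⁻¹ := by group
    rwa [h2] at h1
  rcases Cfsg.Agent.Lib.Helper21.qs_eq_or_commutator_eq_bot hL.2 inf_le_right hnorm with h | h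
  · -- `L ≤ K`
    have hLK : L ≤ K := by rw [← h]; exact inf_le_left
    apply sup_le hLK
    rintro _ ⟨l, hl, rfl⟩
    have h1 : l⁻¹ * (l * (a * l * a⁻¹)) ∈ K :=
      K.mul_mem (K.inv_mem (hLK hl)) (hJK (hφJ l hl))
    have h2 : l⁻¹ * (l * (a * l * a⁻¹)) = (MulAut.conj a).toMonoidHom l := by
      simp
    rwa [h2] at h1
  · -- `w` is central in `M`, so `x ∈ J Z(M)`
    exfalso
    apply hxJ
    have hwc : ∀ l ∈ L, l * (u * v⁻¹) = (u * v⁻¹) * l :=
      fun l hl => Cfsg.Agent.Lib.Helper21.commutator_eq_bot_iff_commute.mp h l hl (u * v⁻¹) ⟨hwK, hwL⟩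
    have hMc : L ⊔ La ≤ Subgroup.centralizer ({u * v⁻¹} : Set H) := by
      apply sup_le
      · intro l hl
        rw [Subgroup.mem_centralizer_iff]
        intro y hy
        rw [Set.mem_singleton_iff] at hy
        subst hy
        exact (hwc l hl).symm
      · intro s hs
        rw [Subgroup.mem_centralizer_iff]
        intro y hy
        rw [Set.mem_singleton_iff] at hy
        subst hy
        exact hcomm' (u * v⁻¹) hwL s hs
    have hwZ : u * v⁻¹ ∈ (L ⊔ La) ⊓ Subgroup.centralizer ((L ⊔ La : Subgroup H) : Set H) := by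
      refine ⟨Subgroup.mem_sup_left hwL, ?_⟩
      show u * v⁻¹ ∈ Subgroup.centralizer ((L ⊔ La : Subgroup H) : Set H)
      rw [Subgroup.mem_centralizer_iff]
      intro m hm
      have := Subgroup.mem_centralizer_iff.mp (hMc hm) (u * v⁻¹) (Set.mem_singleton _)
      exact this.symm
    have hx' : x = (u * v⁻¹) * (v * (a * v * a⁻¹)) := by
      rw [← hut, hvt']; group
    rw [hx']
    exact Subgroup.mul_mem _ (Subgroup.mem_sup_right hwZ) (Subgroup.mem_sup_left (hφJ v hv))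

end Cfsg.Agent.S1921
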