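import Cfsg.Statements.S1922
import Mathlib
-- import your own Cfsg.Agent.* helpers here

set_option autoImplicit false
open Cfsg

namespace Cfsg.Agent.S1922


section basics

variable {G : Type*} [Group G]

theorem mem_map_conj_iff (H : Subgroup G) (g x : G) :
    x ∈ H.map (MulAut.conj g).toMonoidHom ↔ g⁻¹ * x * g ∈ H := by
  constructor
  · rintro ⟨h, hh, rfl⟩
    have : g⁻¹ * ((MulAut.conj g).toMonoidHom h) * g = h := by
      simp [MulAut.conj_apply, mul_assoc]
    rw [this]; exact hh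
  · intro h
    refine ⟨g⁻¹ * x * g, h, ?_⟩
    simp [MulAut.conj_apply, mul_assoc]

theorem conj_pow_of_inv {a x : G} (h : a * x * a⁻¹ = x⁻¹) (n : ℕ) :
    a * x ^ n * a⁻¹ = (x ^ n)⁻¹ := by
  rw [← conj_pow, h, inv_pow]

theorem pow_conj_eq {a x : G} (h : a * x * a⁻¹ = x⁻¹) (j : ℕ) :
    x ^ j * a * (x ^ j)⁻¹ = x ^ (2 * j) * a := by
  have h0 := conj_pow_of_inv h j
  have h1 : a * (x ^ j)⁻¹ * a⁻¹ = x ^ j := by
    calc a * (x ^ j)⁻¹ * a⁻¹ = (a * x ^ j * a⁻¹)⁻¹ := by group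
      _ = x ^ j := by rw [h0, inv_inv]
  calc x ^ j * a * (x ^ j)⁻¹ = x ^ j * (a * (x ^ j)⁻¹ * a⁻¹) * a := by group
    _ = x ^ j * x ^ j * a := by rw [h1]
    _ = x ^ (2 * j) * a := by rw [← pow_add, two_mul]

/-- parity via an involution with a unique fixed point -/
theorem odd_card_of_involution {α : Type*} [Finite α] (σ : α → α) (hσ : ∀ a, σ (σ a) = a)
    (a₀ : α) (h0 : σ a₀ = a₀) (huniq : ∀ a, σ a = a → a = a₀) : Odd (Nat.card α) := by
  classical
  have := Fintype.ofFinite α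
  let f : Function.End α := σ
  have hf : f ^ 2 ^ 1 = 1 := by
    rw [pow_one, pow_two]
    funext a
    exact hσ a
  have h := Equiv.Perm.card_fixedPoints_modEq (p := 2) (n := 1) (f := f) hf
  have hfix : Function.fixedPoints f = {a₀} := by
    ext a
    simp only [Set.mem_singleton_iff]
    constructor
    · exact huniq a
    · rintro rfl; exact h0
  have hcard : Fintype.card (Function.fixedPoints f) = 1 := by
    simp [hfix]
  rw [hcard] at h
  rw [Nat.card_eq_fintype_card, Nat.odd_iff]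
  exact h

theorem eq_of_sq_eq_of_odd [Finite G] {y₁ y₂ : G} (h : y₁ * y₁ = y₂ * y₂)
    (h1 : Odd (orderOf y₁)) (h2 : Odd (orderOf y₂)) : y₁ = y₂ := by
  have c1 : (orderOf y₁).Coprime 2 := Nat.coprime_two_right.mpr h1
  have c2 : (orderOf y₂).Coprime 2 := Nat.coprime_two_right.mpr h2
  have e1 : orderOf (y₁ ^ 2) = orderOf y₁ := Nat.Coprime.orderOf_pow c1
  have e2 : orderOf (y₂ ^ 2) = orderOf y₂ := Nat.Coprime.orderOf_pow c2
  have hsq : y₁ ^ 2 = y₂ ^ 2 := by rw [pow_two, pow_two, h]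
  have hr : orderOf y₁ = orderOf y₂ := by rw [← e1, ← e2, hsq]
  obtain ⟨m, hm⟩ := h1
  have k1 : y₁ = (y₁ ^ 2) ^ (m + 1) := by
    rw [← pow_mul]
    have : 2 * (m + 1) = orderOf y₁ + 1 := by omega
    rw [this, pow_succ, pow_orderOf_eq_one, one_mul]
  have k2 : y₂ = (y₂ ^ 2) ^ (m + 1) := by
    rw [← pow_mul]
    have : 2 * (m + 1) = orderOf y₂ + 1 := by omega
    rw [this, pow_succ, pow_orderOf_eq_one, one_mul]
  rw [k1, k2, hsq]

end basics


section core

variable {G : Type*} [Group G] {z : G} {H : Subgroup G}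

theorem inv_eq_self_of_mul_self {a : G} (h : a * a = 1) : a⁻¹ = a :=
  inv_eq_of_mul_eq_one_right h

/-- generalized unique fixed point property for conjugates of `z` -/
theorem fix_conj (h0 : ∀ g : G, g⁻¹ * z * g ∈ H ↔ g ∈ H) (y g : G) :
    g⁻¹ * (y * z * y⁻¹) * g ∈ H ↔ y⁻¹ * g ∈ H := by
  rw [← h0 (y⁻¹ * g)]
  have : (y⁻¹ * g)⁻¹ * z * (y⁻¹ * g) = g⁻¹ * (y * z * y⁻¹) * g := by group
  rw [this]

theorem z_mem (h0 : ∀ g : G, g⁻¹ * z * g ∈ H ↔ g ∈ H) : z ∈ H := by
  have := (h0 1).mpr H.one_mem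
  simpa using this

theorem mem_of_commute (h0 : ∀ g : G, g⁻¹ * z * g ∈ H ↔ g ∈ H) {x : G} (hx : x * z = z * x) :
    x ∈ H := by
  rw [← h0 x]
  have : x⁻¹ * z * x = z := by
    rw [mul_assoc, ← hx, ← mul_assoc, inv_mul_cancel, one_mul]
  rw [this]; exact z_mem h0

/-- generalized hypothesis (1) for pairs of commuting conjugates -/
theorem fix_prod (h1 : ∀ t : G, IsConj z t → t ≠ z → t * z = z * t →
      ∀ g : G, g⁻¹ * (z * t) * g ∈ H ↔ g ∈ H)
    (y b : G) (hb : IsConj z b) (hne : b ≠ y * z * y⁻¹)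
    (hcomm : b * (y * z * y⁻¹) = (y * z * y⁻¹) * b) (g : G) :
    g⁻¹ * ((y * z * y⁻¹) * b) * g ∈ H ↔ y⁻¹ * g ∈ H := by
  have ht : IsConj z (y⁻¹ * b * y) := by
    refine hb.trans ?_
    rw [isConj_iff]
    exact ⟨y⁻¹, by group⟩
  have hne' : y⁻¹ * b * y ≠ z := by
    intro h
    apply hne
    rw [← h]; group
  have hcomm' : (y⁻¹ * b * y) * z = z * (y⁻¹ * b * y) := by
    have e1 : (y⁻¹ * b * y) * z = y⁻¹ * (b * (y * z * y⁻¹)) * y := by group
    have e2 : z * (y⁻¹ * b * y) = y⁻¹ * ((y * z * y⁻¹) * b) * y := by group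
    rw [e1, e2, hcomm]
  rw [← h1 _ ht hne' hcomm' (y⁻¹ * g)]
  have : (y⁻¹ * g)⁻¹ * (z * (y⁻¹ * b * y)) * (y⁻¹ * g) = g⁻¹ * ((y * z * y⁻¹) * b) * g := by group
  rw [this]

variable [Finite G]

/-- Step A: conjugates of `z` outside `H` have odd-order product with `z`. -/
theorem odd_order (hz : orderOf z = 2) (h0 : ∀ g : G, g⁻¹ * z * g ∈ H ↔ g ∈ H)
    (h1 : ∀ t : G, IsConj z t → t ≠ z → t * z = z * t →
      ∀ g : G, g⁻¹ * (z * t) * g ∈ H ↔ g ∈ H)
    {b : G} (hb : IsConj z b) (hbH : b ∉ H) : Odd (orderOf (z * b)) := by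
  by_contra hodd
  rw [Nat.not_odd_iff_even] at hodd
  obtain ⟨m, hm⟩ := hodd
  have hz2 : z * z = 1 := by rw [← pow_two, ← hz, pow_orderOf_eq_one]
  have hzinv : z⁻¹ = z := inv_eq_self_of_mul_self hz2
  obtain ⟨y, hy⟩ := isConj_iff.mp hb
  have hb2 : b * b = 1 := by
    rw [← hy]
    calc y * z * y⁻¹ * (y * z * y⁻¹) = y * (z * z) * y⁻¹ := by group
      _ = 1 := by rw [hz2]; group
  have hbinv : b⁻¹ = b := inv_eq_self_of_mul_self hb2
  have hyH : y ∉ H := by
    intro hyH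
    apply hbH
    rw [← hy]
    exact H.mul_mem (H.mul_mem hyH (z_mem h0)) (H.inv_mem hyH)
  set x := z * b with hx
  have hzx : z * x * z⁻¹ = x⁻¹ := by
    rw [hx, mul_inv_rev, hzinv, hbinv, ← mul_assoc, hz2, one_mul]
  have hbx : b * x * b⁻¹ = x⁻¹ := by
    rw [hx, mul_inv_rev, hzinv, hbinv, mul_assoc, mul_assoc, hb2, mul_one]
  have hmpos : 0 < m := by
    have := orderOf_pos x
    omega
  set c := x ^ m with hc
  have hc1 : c ≠ 1 := pow_ne_one_of_lt_orderOf hmpos.ne' (by omega)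
  have hc2 : c * c = 1 := by rw [hc, ← pow_add, ← hm, pow_orderOf_eq_one]
  have hcinv : c⁻¹ = c := inv_eq_self_of_mul_self hc2
  have hzc : z * c * z⁻¹ = c := by
    rw [hc, conj_pow_of_inv hzx m, ← hc, hcinv]
  have hbc : b * c * b⁻¹ = c := by
    rw [hc, conj_pow_of_inv hbx m, ← hc, hcinv]
  have hzc' : z * c = c * z := by
    calc z * c = (z * c * z⁻¹) * z := by group
      _ = c * z := by rw [hzc]
  have hbc' : b * c = c * b := by
    calc b * c = (b * c * b⁻¹) * b := by group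
      _ = c * b := by rw [hbc]
  -- `t = c * z` is a conjugate of `z`
  have htconj : IsConj z (c * z) := by
    rcases Nat.even_or_odd' m with ⟨j, hj | hj⟩
    · rw [isConj_iff]
      refine ⟨x ^ j, ?_⟩
      rw [pow_conj_eq hzx j, ← hj]
    · have ha' : (x * z) * x * (x * z)⁻¹ = x⁻¹ := by
        calc (x * z) * x * (x * z)⁻¹ = x * (z * x * z⁻¹) * x⁻¹ := by group
          _ = x⁻¹ := by rw [hzx]; group
      have hconj' : IsConj z (x * z) := by
        have : x * z = z * b * z⁻¹ := by rw [hx, hzinv]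
        rw [this]
        exact hb.trans (isConj_iff.mpr ⟨z, rfl⟩)
      have e : x ^ j * (x * z) * (x ^ j)⁻¹ = c * z := by
        rw [pow_conj_eq ha' j, hc, hj, pow_succ]
        exact (mul_assoc _ _ _).symm
      rw [← e]
      exact hconj'.trans (isConj_iff.mpr ⟨x ^ j, rfl⟩)
  have htne : c * z ≠ z := by
    intro h
    apply hc1
    calc c = c * z * z⁻¹ := by group
      _ = z * z⁻¹ := by rw [h]
      _ = 1 := by group
  have htcomm : (c * z) * z = z * (c * z) := by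
    rw [← mul_assoc, hzc']
  have key := h1 (c * z) htconj htne htcomm y
  have hzcz : z * (c * z) = c := by
    rw [← mul_assoc, hzc', mul_assoc, hz2, mul_one]
  rw [hzcz] at key
  have : y⁻¹ * c * y ∈ H := by
    apply mem_of_commute h0
    -- `y⁻¹ c y` commutes with `z = y⁻¹ b y`
    have hz' : z = y⁻¹ * b * y := by rw [← hy]; group
    calc y⁻¹ * c * y * z = y⁻¹ * c * y * (y⁻¹ * b * y) := by rw [← hz']
      _ = y⁻¹ * (c * b) * y := by group
      _ = y⁻¹ * (b * c) * y := by rw [hbc']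
      _ = (y⁻¹ * b * y) * (y⁻¹ * c * y) := by group
      _ = z * (y⁻¹ * c * y) := by rw [← hz']
  exact hyH (key.mp this)

/-- Step B: for a conjugate `b` of `z` outside `H` there is a conjugate `w` of `z` with
`w z w⁻¹ = b`. -/
theorem exists_reflection (hz : orderOf z = 2) (h0 : ∀ g : G, g⁻¹ * z * g ∈ H ↔ g ∈ H)
    (h1 : ∀ t : G, IsConj z t → t ≠ z → t * z = z * t →
      ∀ g : G, g⁻¹ * (z * t) * g ∈ H ↔ g ∈ H)
    {b : G} (hb : IsConj z b) (hbH : b ∉ H) : ∃ w : G, IsConj z w ∧ w * z * w⁻¹ = b := by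
  obtain ⟨m, hm⟩ := odd_order hz h0 h1 hb hbH
  have hz2 : z * z = 1 := by rw [← pow_two, ← hz, pow_orderOf_eq_one]
  have hzinv : z⁻¹ = z := inv_eq_self_of_mul_self hz2
  obtain ⟨y, hy⟩ := isConj_iff.mp hb
  have hb2 : b * b = 1 := by
    rw [← hy]
    calc y * z * y⁻¹ * (y * z * y⁻¹) = y * (z * z) * y⁻¹ := by group
      _ = 1 := by rw [hz2]; group
  have hbinv : b⁻¹ = b := inv_eq_self_of_mul_self hb2
  set x := z * b with hx
  have hzx : z * x * z⁻¹ = x⁻¹ := by
    rw [hx, mul_inv_rev, hzinv, hbinv, ← mul_assoc, hz2, one_mul]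
  have hw : x ^ (m * (m + 1)) * z * (x ^ (m * (m + 1)))⁻¹ = x ^ m * z := by
    rw [pow_conj_eq hzx]
    have : 2 * (m * (m + 1)) = orderOf x * m + m := by rw [hm]; ring
    rw [this, pow_add, pow_mul, pow_orderOf_eq_one, one_pow, one_mul]
  refine ⟨x ^ m * z, ?_, ?_⟩
  · rw [← hw]
    exact isConj_iff.mpr ⟨_, rfl⟩
  · have e1 : x ^ m * z * z * (x ^ m * z)⁻¹ = x ^ m * z * (x ^ m)⁻¹ := by group
    have e2 : x ^ (2 * m) = x⁻¹ := by
      apply eq_inv_of_mul_eq_one_left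
      rw [← pow_succ, ← hm, pow_orderOf_eq_one]
    have e3 : x⁻¹ * z = b := by
      rw [hx, mul_inv_rev, hzinv, hbinv, mul_assoc, hz2, mul_one]
    rw [e1, pow_conj_eq hzx, e2, e3]

/-- Key counting lemma: under (1), the number of conjugates of `z` in `H` is odd. -/
theorem odd_card_conj (hz : orderOf z = 2) (hH : H ≠ ⊤) (h0 : ∀ g : G, g⁻¹ * z * g ∈ H ↔ g ∈ H)
    (h1 : ∀ t : G, IsConj z t → t ≠ z → t * z = z * t →
      ∀ g : G, g⁻¹ * (z * t) * g ∈ H ↔ g ∈ H) :
    Odd (Nat.card {a : G // IsConj z a ∧ a ∈ H}) := by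
  have hz2 : z * z = 1 := by rw [← pow_two, ← hz, pow_orderOf_eq_one]
  have hzinv : z⁻¹ = z := inv_eq_self_of_mul_self hz2
  have hzH : z ∈ H := z_mem h0
  -- conjugates of `z` are involutions
  have hinv : ∀ w : G, IsConj z w → w⁻¹ = w := by
    intro w hw
    obtain ⟨y, rfl⟩ := isConj_iff.mp hw
    rw [mul_inv_rev, mul_inv_rev, inv_inv, hzinv, mul_assoc]
  obtain ⟨g, hg⟩ : ∃ g : G, g ∉ H := by
    by_contra hcon
    push Not at hcon
    exact hH (eq_top_iff.mpr fun x _ => hcon x)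
  -- the set `W` of conjugates of `z` in the coset `gH`
  let W := {w : G // IsConj z w ∧ g⁻¹ * w ∈ H}
  let X := {a : G // IsConj z a ∧ a ∈ H}
  have hWnotH : ∀ w : W, w.1 ∉ H := by
    intro w hw
    apply hg
    have := H.mul_mem w.2.2 (H.inv_mem hw)
    have e : g⁻¹ * w.1 * (w.1)⁻¹ = g⁻¹ := by group
    rw [e] at this
    simpa using H.inv_mem this
  let Ψ : W → X := fun w => ⟨(g⁻¹ * w.1) * z * (g⁻¹ * w.1)⁻¹,
    isConj_iff.mpr ⟨_, rfl⟩, H.mul_mem (H.mul_mem w.2.2 hzH) (H.inv_mem w.2.2)⟩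
  have hΨinj : Function.Injective Ψ := by
    intro w w' hww
    have h' : (g⁻¹ * w.1) * z * (g⁻¹ * w.1)⁻¹ = (g⁻¹ * w'.1) * z * (g⁻¹ * w'.1)⁻¹ :=
      congrArg Subtype.val hww
    have hb : w.1 * z * (w.1)⁻¹ = w'.1 * z * (w'.1)⁻¹ := by
      calc w.1 * z * (w.1)⁻¹ = g * ((g⁻¹ * w.1) * z * (g⁻¹ * w.1)⁻¹) * g⁻¹ := by group
        _ = g * ((g⁻¹ * w'.1) * z * (g⁻¹ * w'.1)⁻¹) * g⁻¹ := by rw [h']
        _ = w'.1 * z * (w'.1)⁻¹ := by group
    have hsq : (z * w.1) * (z * w.1) = (z * w'.1) * (z * w'.1) := by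
      have e1 : (z * w.1) * (z * w.1) = z * (w.1 * z * (w.1)⁻¹) := by
        rw [hinv w.1 w.2.1]; group
      have e2 : (z * w'.1) * (z * w'.1) = z * (w'.1 * z * (w'.1)⁻¹) := by
        rw [hinv w'.1 w'.2.1]; group
      rw [e1, e2, hb]
    have := eq_of_sq_eq_of_odd hsq (odd_order hz h0 h1 w.2.1 (hWnotH w))
      (odd_order hz h0 h1 w'.2.1 (hWnotH w'))
    exact Subtype.ext (mul_left_cancel this)
  have hΨsurj : Function.Surjective Ψ := by
    rintro ⟨a, ha, haH⟩
    have hb : IsConj z (g * a * g⁻¹) := ha.trans (isConj_iff.mpr ⟨g, rfl⟩)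
    have hbH : g * a * g⁻¹ ∉ H := by
      obtain ⟨y, rfl⟩ := isConj_iff.mp ha
      have hy : y ∈ H := by
        have := (fix_conj h0 y 1).mp (by simpa using haH)
        simpa using H.inv_mem this
      intro hcon
      have e : g * (y * z * y⁻¹) * g⁻¹ = (1 : G)⁻¹ * ((g * y) * z * (g * y)⁻¹) * 1 := by group
      rw [e, fix_conj h0 (g * y) 1] at hcon
      have h2 : g * y ∈ H := by simpa using H.inv_mem hcon
      apply hg
      have := H.mul_mem h2 (H.inv_mem hy)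
      simpa using this
    obtain ⟨w, hw, hwb⟩ := exists_reflection hz h0 h1 hb hbH
    have hmem : g⁻¹ * w ∈ H := by
      have h3 : g⁻¹ * (w * z * w⁻¹) * g ∈ H := by
        rw [hwb]
        have : g⁻¹ * (g * a * g⁻¹) * g = a := by group
        rw [this]; exact haH
      have h4 := (fix_conj h0 w g).mp h3
      have : g⁻¹ * w = (w⁻¹ * g)⁻¹ := by group
      rw [this]; exact H.inv_mem h4
    refine ⟨⟨w, hw, hmem⟩, ?_⟩
    apply Subtype.ext
    show (g⁻¹ * w) * z * (g⁻¹ * w)⁻¹ = a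
    calc (g⁻¹ * w) * z * (g⁻¹ * w)⁻¹ = g⁻¹ * (w * z * w⁻¹) * g := by group
      _ = a := by rw [hwb]; group
  have hcard : Nat.card W = Nat.card X := Nat.card_eq_of_bijective Ψ ⟨hΨinj, hΨsurj⟩
  show Odd (Nat.card X)
  rw [← hcard]
  -- `W` is nonempty
  obtain ⟨w₀, -⟩ := hΨsurj ⟨z, IsConj.refl z, hzH⟩
  have hw₀inv : (w₀.1)⁻¹ = w₀.1 := hinv w₀.1 w₀.2.1
  have hw₀g : w₀.1 * g ∈ H := by
    have : w₀.1 * g = (g⁻¹ * w₀.1)⁻¹ := by rw [mul_inv_rev, inv_inv, hw₀inv]
    rw [this]; exact H.inv_mem w₀.2.2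
  let σ : W → W := fun w => ⟨w₀.1 * w.1 * (w₀.1)⁻¹,
    w.2.1.trans (isConj_iff.mpr ⟨_, rfl⟩), by
      have hwg : w.1 * g ∈ H := by
        have : w.1 * g = (g⁻¹ * w.1)⁻¹ := by rw [mul_inv_rev, inv_inv, hinv w.1 w.2.1]
        rw [this]; exact H.inv_mem w.2.2
      have : g⁻¹ * (w₀.1 * w.1 * (w₀.1)⁻¹) = (g⁻¹ * w₀.1) * (w.1 * g) * (g⁻¹ * w₀.1) := by
        rw [hw₀inv]; group
      rw [this]
      exact H.mul_mem (H.mul_mem w₀.2.2 hwg) w₀.2.2⟩
  apply odd_card_of_involution σ _ w₀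
  · apply Subtype.ext
    show w₀.1 * w₀.1 * (w₀.1)⁻¹ = w₀.1
    group
  · intro w hw
    have hcomm : w₀.1 * w.1 * (w₀.1)⁻¹ = w.1 := congrArg Subtype.val hw
    by_contra hne
    obtain ⟨y, hy⟩ := isConj_iff.mp w₀.2.1
    have hne' : w.1 ≠ y * z * y⁻¹ := by
      rw [hy]; intro h; exact hne (Subtype.ext h)
    have hcomm' : w.1 * (y * z * y⁻¹) = (y * z * y⁻¹) * w.1 := by
      rw [hy]
      calc w.1 * w₀.1 = (w₀.1 * w.1 * (w₀.1)⁻¹) * w₀.1 := by rw [hcomm]
        _ = w₀.1 * w.1 := by group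
    have key := fix_prod h1 y w.1 w.2.1 hne' hcomm'
    rw [hy] at key
    have hwg : w.1 * g ∈ H := by
      have : w.1 * g = (g⁻¹ * w.1)⁻¹ := by rw [mul_inv_rev, inv_inv, hinv w.1 w.2.1]
      rw [this]; exact H.inv_mem w.2.2
    have k1 : y⁻¹ * 1 ∈ H := by
      apply (key 1).mp
      have : (1 : G)⁻¹ * (w₀.1 * w.1) * 1 = (w₀.1 * g) * (g⁻¹ * w.1) := by group
      rw [this]; exact H.mul_mem hw₀g w.2.2
    have k2 : y⁻¹ * g ∈ H := by
      apply (key g).mp
      have : g⁻¹ * (w₀.1 * w.1) * g = (g⁻¹ * w₀.1) * (w.1 * g) := by group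
      rw [this]; exact H.mul_mem w₀.2.2 hwg
    apply hg
    have : g = (y⁻¹ * 1)⁻¹ * (y⁻¹ * g) := by group
    rw [this]; exact H.mul_mem (H.inv_mem k1) k2
  · intro w
    apply Subtype.ext
    show w₀.1 * (w₀.1 * w.1 * (w₀.1)⁻¹) * (w₀.1)⁻¹ = w.1
    rw [hw₀inv]
    have : w₀.1 * w₀.1 = 1 := by
      have h := inv_mul_cancel w₀.1
      rwa [hw₀inv] at h
    calc w₀.1 * (w₀.1 * w.1 * w₀.1) * w₀.1 = (w₀.1 * w₀.1) * w.1 * (w₀.1 * w₀.1) := by group
      _ = w.1 := by rw [this]; group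

end core

section sylow

variable {G : Type*} [Group G] [Finite G] {z : G} {H : Subgroup G}

/-- fixed points of a subgroup on `G ⧸ H` -/
theorem smul_mk_eq_iff (K : Subgroup G) (k : K) (g : G) :
    k • (g : G ⧸ H) = (g : G ⧸ H) ↔ g⁻¹ * (k : G)⁻¹ * g ∈ H := by
  have e : k • (g : G ⧸ H) = (((k : G) * g : G) : G ⧸ H) := rfl
  rw [e, QuotientGroup.eq, mul_inv_rev]

/-- A `2`-subgroup containing `z` lies in `H`. -/
theorem le_of_mem_of_isPGroup (hz : orderOf z = 2) (h0 : ∀ g : G, g⁻¹ * z * g ∈ H ↔ g ∈ H)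
    (P : Subgroup G) (hP : IsPGroup 2 P) (hzP : z ∈ P) : P ≤ H := by
  have hz2 : z * z = 1 := by rw [← pow_two, ← hz, pow_orderOf_eq_one]
  have hzinv : z⁻¹ = z := inv_eq_of_mul_eq_one_right hz2
  -- `⟨z⟩` has exactly one fixed point on `G ⧸ H`
  have hK : IsPGroup 2 (Subgroup.zpowers z) :=
    IsPGroup.of_card (n := 1) (by rw [Nat.card_zpowers, hz, pow_one])
  have hfix : MulAction.fixedPoints (Subgroup.zpowers z) (G ⧸ H) = {((1 : G) : G ⧸ H)} := by
    ext q
    induction q using QuotientGroup.induction_on with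
    | H g =>
      simp only [MulAction.mem_fixedPoints, Set.mem_singleton_iff]
      constructor
      · intro h
        have h' := (smul_mk_eq_iff (H := H) (Subgroup.zpowers z)
          ⟨z, Subgroup.mem_zpowers z⟩ g).mp (h _)
        simp only [hzinv] at h'
        have hg : g ∈ H := (h0 g).mp h'
        rw [QuotientGroup.eq]
        simpa using H.inv_mem hg
      · intro h k
        have hg : g ∈ H := by
          rw [QuotientGroup.eq] at h
          simpa using H.inv_mem h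
        rw [smul_mk_eq_iff]
        have hk : (k : G) ∈ H := by
          obtain ⟨n, hn⟩ := Subgroup.mem_zpowers_iff.mp k.2
          rw [← hn]
          exact H.zpow_mem (z_mem h0) n
        exact H.mul_mem (H.mul_mem (H.inv_mem hg) (H.inv_mem hk)) hg
  have hcard : ¬ 2 ∣ Nat.card (G ⧸ H) := by
    have h1 := hK.card_modEq_card_fixedPoints (G ⧸ H)
    rw [hfix] at h1
    simp only [Nat.card_eq_fintype_card, Fintype.card_unique] at h1
    intro h2
    have := (Nat.modEq_zero_iff_dvd.mpr h2).symm.trans h1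
    simp [Nat.ModEq] at this
  obtain ⟨q, hq⟩ := hP.nonempty_fixed_point_of_prime_not_dvd_card (G ⧸ H) hcard
  induction q using QuotientGroup.induction_on with
  | H g =>
    rw [MulAction.mem_fixedPoints] at hq
    have hg : g ∈ H := by
      have h' := (smul_mk_eq_iff (H := H) P ⟨z, hzP⟩ g).mp (hq _)
      simp only [hzinv] at h'
      exact (h0 g).mp h'
    intro p hp
    have h' := (smul_mk_eq_iff (H := H) P ⟨p, hp⟩ g).mp (hq _)
    have : p = (g * (g⁻¹ * p⁻¹ * g) * g⁻¹)⁻¹ := by group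
    rw [this]
    exact H.inv_mem (H.mul_mem (H.mul_mem hg h') (H.inv_mem hg))

theorem mem_smul_sylow (P : Sylow 2 G) (g x : G) :
    x ∈ ((g • P : Sylow 2 G) : Subgroup G) ↔ g⁻¹ * x * g ∈ (P : Subgroup G) := by
  rw [Sylow.coe_subgroup_smul, Subgroup.mem_pointwise_smul_iff_inv_smul_mem, ← map_inv,
    MulAut.smul_def, MulAut.conj_apply, inv_inv]

/-- If the number of conjugates of `z` in `H` is odd then `z` is `2`-central. -/
theorem two_central (hz : orderOf z = 2) (h0 : ∀ g : G, g⁻¹ * z * g ∈ H ↔ g ∈ H)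
    (hodd : Odd (Nat.card {a : G // IsConj z a ∧ a ∈ H})) :
    ∃ P : Sylow 2 G, z ∈ (Subgroup.center ↥(P : Subgroup G)).map (P : Subgroup G).subtype := by
  have hz2 : z * z = 1 := by rw [← pow_two, ← hz, pow_orderOf_eq_one]
  have hz1 : z ≠ 1 := by
    intro h
    rw [h, orderOf_one] at hz
    omega
  have hK : IsPGroup 2 (Subgroup.zpowers z) :=
    IsPGroup.of_card (n := 1) (by rw [Nat.card_zpowers, hz, pow_one])
  obtain ⟨P, hP⟩ := hK.exists_le_sylow
  have hzP : z ∈ (P : Subgroup G) := hP (Subgroup.mem_zpowers z)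
  have hPH : (P : Subgroup G) ≤ H := le_of_mem_of_isPGroup hz h0 P P.isPGroup' hzP
  -- conjugation action of `P` on the conjugates of `z` in `H`
  letI : MulAction (P : Subgroup G) {a : G // IsConj z a ∧ a ∈ H} :=
    { smul := fun p a => ⟨p.1 * a.1 * p.1⁻¹, a.2.1.trans (isConj_iff.mpr ⟨_, rfl⟩),
        H.mul_mem (H.mul_mem (hPH p.2) a.2.2) (H.inv_mem (hPH p.2))⟩
      one_smul := fun a => Subtype.ext (by
        show (1 : G) * a.1 * (1 : G)⁻¹ = a.1
        group)
      mul_smul := fun p q a => Subtype.ext (by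
        show (p.1 * q.1) * a.1 * (p.1 * q.1)⁻¹ = p.1 * (q.1 * a.1 * q.1⁻¹) * p.1⁻¹
        group) }
  have hnd : ¬ 2 ∣ Nat.card {a : G // IsConj z a ∧ a ∈ H} := by
    rw [← even_iff_two_dvd, Nat.not_even_iff_odd]; exact hodd
  obtain ⟨a, ha⟩ := P.isPGroup'.nonempty_fixed_point_of_prime_not_dvd_card
    {a : G // IsConj z a ∧ a ∈ H} hnd
  rw [MulAction.mem_fixedPoints] at ha
  have hcomm : ∀ p ∈ (P : Subgroup G), p * a.1 = a.1 * p := by
    intro p hp
    have h1 : p * a.1 * p⁻¹ = a.1 := congrArg Subtype.val (ha ⟨p, hp⟩)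
    calc p * a.1 = (p * a.1 * p⁻¹) * p := by group
      _ = a.1 * p := by rw [h1]
  obtain ⟨y, hy⟩ := isConj_iff.mp a.2.1
  have ha2 : a.1 ^ 2 = 1 := by
    rw [← hy, pow_two]
    calc y * z * y⁻¹ * (y * z * y⁻¹) = y * (z * z) * y⁻¹ := by group
      _ = 1 := by rw [hz2]; group
  have ha1 : a.1 ≠ 1 := by
    rw [← hy]
    intro h
    apply hz1
    calc z = y⁻¹ * (y * z * y⁻¹) * y := by group
      _ = 1 := by rw [h]; group
  have haord : orderOf a.1 = 2 := orderOf_eq_prime ha2 ha1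
  -- `a ∈ P` by maximality
  have haP : a.1 ∈ (P : Subgroup G) := by
    have hA : IsPGroup 2 (Subgroup.zpowers a.1) :=
      IsPGroup.of_card (n := 1) (by rw [Nat.card_zpowers, haord, pow_one])
    have hcent : Subgroup.zpowers a.1 ≤ Subgroup.centralizer ((P : Subgroup G) : Set G) := by
      rw [Subgroup.zpowers_le, Subgroup.mem_centralizer_iff]
      intro p hp
      exact hcomm p hp
    have hnorm : Subgroup.zpowers a.1 ≤ Subgroup.normalizer ((P : Subgroup G) : Set G) :=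
      hcent.trans (Subgroup.centralizer_le_normalizer _)
    have := P.is_maximal' (hA.to_sup_of_normal_right' P.isPGroup' hnorm) le_sup_right
    rw [← this]
    exact Subgroup.mem_sup_left (Subgroup.mem_zpowers _)
  -- transport to `z`
  refine ⟨y⁻¹ • P, ?_⟩
  have hzP' : z ∈ ((y⁻¹ • P : Sylow 2 G) : Subgroup G) := by
    rw [mem_smul_sylow, inv_inv, hy]
    exact haP
  refine ⟨⟨z, hzP'⟩, ?_, rfl⟩
  show (⟨z, hzP'⟩ : ↥((y⁻¹ • P : Sylow 2 G) : Subgroup G)) ∈
    Subgroup.center ↥((y⁻¹ • P : Sylow 2 G) : Subgroup G)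
  rw [Subgroup.mem_center_iff]
  rintro ⟨q, hq⟩
  apply Subtype.ext
  show q * z = z * q
  rw [mem_smul_sylow, inv_inv] at hq
  have h1 := hcomm _ hq
  rw [← hy] at h1
  calc q * z = y⁻¹ * ((y * q * y⁻¹) * (y * z * y⁻¹)) * y := by group
    _ = y⁻¹ * ((y * z * y⁻¹) * (y * q * y⁻¹)) * y := by rw [h1]
    _ = z * q := by group

end sylow


section final

variable {G : Type*} [Group G]

theorem isPGroup_zpowers_of_sq (v : G) (hv : v * v = 1) : IsPGroup 2 (Subgroup.zpowers v) := by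
  rintro ⟨g, hg⟩
  obtain ⟨n, rfl⟩ := Subgroup.mem_zpowers_iff.mp hg
  refine ⟨1, Subtype.ext ?_⟩
  show (v ^ n) ^ 2 ^ 1 = 1
  rw [pow_one, ← zpow_natCast, ← zpow_mul, mul_comm, zpow_mul, zpow_natCast, pow_two, hv, one_zpow]

/-- (2) ⇒ (1) -/
theorem unique_fix_of_central [Finite G] {z : G} {H : Subgroup G} (hz : orderOf z = 2)
    (h0 : ∀ g : G, g⁻¹ * z * g ∈ H ↔ g ∈ H)
    (P : Sylow 2 G) (hzP : ∀ p ∈ (P : Subgroup G), p * z = z * p)
    (t : G) (ht : IsConj z t) (hcomm : t * z = z * t)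
    (hC : Subgroup.centralizer ({z * t} : Set G) ≤ H) (g : G) :
    g⁻¹ * (z * t) * g ∈ H ↔ g ∈ H := by
  have hz2 : z * z = 1 := by rw [← pow_two, ← hz, pow_orderOf_eq_one]
  have ht2 : t * t = 1 := by
    obtain ⟨y, rfl⟩ := isConj_iff.mp ht
    calc y * z * y⁻¹ * (y * z * y⁻¹) = y * (z * z) * y⁻¹ := by group
      _ = 1 := by rw [hz2]; group
  have hPH : (P : Subgroup G) ≤ H := fun p hp => mem_of_commute h0 (hzP p hp)
  have hu2 : (z * t) * (z * t) = 1 := by
    calc (z * t) * (z * t) = z * (t * z) * t := by group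
      _ = z * (z * t) * t := by rw [hcomm]
      _ = (z * z) * (t * t) := by group
      _ = 1 := by rw [hz2, ht2, one_mul]
  have huH : z * t ∈ H := by
    apply H.mul_mem
    · apply hC
      rw [Subgroup.mem_centralizer_iff]
      intro x hx
      rw [Set.mem_singleton_iff] at hx
      subst hx
      calc z * t * z = z * (t * z) := by group
        _ = z * (z * t) := by rw [hcomm]
    · apply hC
      rw [Subgroup.mem_centralizer_iff]
      intro x hx
      rw [Set.mem_singleton_iff] at hx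
      subst hx
      calc z * t * t = z * (t * t) := by group
        _ = (t * t) * z := by rw [ht2, mul_one, one_mul]
        _ = t * (t * z) := by group
        _ = t * (z * t) := by rw [hcomm]
  constructor
  · intro hu'
    -- Sylow's theorem in `H`
    set u' : H := ⟨g⁻¹ * (z * t) * g, hu'⟩ with hu'def
    have hu'2 : u' * u' = 1 := by
      apply Subtype.ext
      show (g⁻¹ * (z * t) * g) * (g⁻¹ * (z * t) * g) = 1
      calc (g⁻¹ * (z * t) * g) * (g⁻¹ * (z * t) * g) = g⁻¹ * ((z * t) * (z * t)) * g := by group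
        _ = 1 := by rw [hu2]; group
    obtain ⟨Q, hQ⟩ := (isPGroup_zpowers_of_sq u' hu'2).exists_le_sylow
    obtain ⟨h, hh⟩ := MulAction.exists_smul_eq H (P.subtype hPH) Q
    have hmem : u' ∈ ((h • P.subtype hPH : Sylow 2 H) : Subgroup H) := by
      rw [hh]; exact hQ (Subgroup.mem_zpowers u')
    rw [mem_smul_sylow, Sylow.coe_subtype, Subgroup.mem_subgroupOf] at hmem
    have hmem' : (h : G)⁻¹ * (g⁻¹ * (z * t) * g) * (h : G) ∈ (P : Subgroup G) := hmem
    have hc := hzP _ hmem'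
    -- `(g h) z (g h)⁻¹` commutes with `z t`
    have hz'' : (g * h) * z * (g * h)⁻¹ ∈ H := by
      apply hC
      rw [Subgroup.mem_centralizer_iff]
      intro x hx
      rw [Set.mem_singleton_iff] at hx
      subst hx
      calc z * t * ((g * ↑h) * z * (g * ↑h)⁻¹)
          = (g * h) * (((h : G)⁻¹ * (g⁻¹ * (z * t) * g) * (h : G)) * z) * (g * h)⁻¹ := by group
        _ = (g * h) * (z * ((h : G)⁻¹ * (g⁻¹ * (z * t) * g) * (h : G))) * (g * h)⁻¹ := by rw [hc]
        _ = (g * ↑h) * z * (g * ↑h)⁻¹ * (z * t) := by group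
    have h3 : (g * h)⁻¹ ∈ H := by
      rw [← h0 ((g * h)⁻¹)]
      rw [inv_inv]; exact hz''
    have h4 : g * h ∈ H := by simpa using H.inv_mem h3
    have : g = (g * h) * (h : G)⁻¹ := by group
    rw [this]
    exact H.mul_mem h4 (H.inv_mem h.2)
  · intro hg
    exact H.mul_mem (H.mul_mem (H.inv_mem hg) huH) hg

end final


/-- Let z be an involution of a finite group G and H a proper subgroup such that z lies in gHg⁻¹ exactly when g ∈ H. Then the following are equivalent: (1) for every conjugate t ≠ z of z commuting with z, the product zt lies in gHg⁻¹ exactly when g ∈ H; (2) z lies in the centre of some Sylow 2-subgroup of G, and for every conjugate t ≠ z of z commuting with z, the centralizer of zt is contained in H. -/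
theorem result {G : Type*} [Group G] [Finite G] (z : G) (hz : orderOf z = 2) (H : Subgroup G) (hH : H ≠ ⊤)
    (h0 : ∀ g : G, z ∈ H.map (MulAut.conj g).toMonoidHom ↔ g ∈ H) :
    (∀ t : G, IsConj z t → t ≠ z → t * z = z * t → ∀ g : G, z * t ∈ H.map (MulAut.conj g).toMonoidHom ↔ g ∈ H) ↔
      ((∃ P : Sylow 2 G, z ∈ (Subgroup.center ↥(P : Subgroup G)).map (P : Subgroup G).subtype) ∧
        ∀ t : G, IsConj z t → t ≠ z → t * z = z * t → Subgroup.centralizer ({z * t} : Set G) ≤ H) := by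
  have h0' : ∀ g : G, g⁻¹ * z * g ∈ H ↔ g ∈ H := fun g => by
    rw [← mem_map_conj_iff]; exact h0 g
  constructor
  · intro h1
    have h1' : ∀ t : G, IsConj z t → t ≠ z → t * z = z * t →
        ∀ g : G, g⁻¹ * (z * t) * g ∈ H ↔ g ∈ H := fun t a b c g => by
      rw [← mem_map_conj_iff]; exact h1 t a b c g
    refine ⟨two_central hz h0' (odd_card_conj hz hH h0' h1'), ?_⟩
    intro t ht hne hcomm x hx
    rw [Subgroup.mem_centralizer_iff] at hx
    have hx' : (z * t) * x = x * (z * t) := hx (z * t) rfl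
    have hmem : z * t ∈ H := by
      have := (h1' t ht hne hcomm 1).mpr H.one_mem
      simpa using this
    rw [← h1' t ht hne hcomm x]
    have : x⁻¹ * (z * t) * x = z * t := by
      rw [mul_assoc, hx', ← mul_assoc, inv_mul_cancel, one_mul]
    rw [this]; exact hmem
  · rintro ⟨⟨P, hzP⟩, hC⟩ t ht hne hcomm g
    rw [mem_map_conj_iff]
    obtain ⟨⟨z', hz'P⟩, hz'c, hz'⟩ := hzP
    have hz'eq : z' = z := hz'
    subst hz'eq
    have hcent : ∀ p ∈ (P : Subgroup G), p * z' = z' * p := by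
      intro p hp
      have := Subgroup.mem_center_iff.mp hz'c ⟨p, hp⟩
      exact congrArg Subtype.val this
    exact unique_fix_of_central hz h0' P hcent t ht hcomm (hC t ht hne hcomm) g

end Cfsg.Agent.S1922
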