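import Cfsg.Statements.S1924
import Cfsg.Agent.Lib.Helper34.PResidual
import Cfsg.Agent.Lib.Helper55.IndexTwoLift
import Cfsg.Agent.Lib.Helper71.Fitting

set_option autoImplicit false
open Cfsg

namespace Cfsg.Agent.S1924

open Cfsg.Agent.Lib.Helper34 Cfsg.Agent.Lib.Helper55 Equiv

theorem sign_eq_neg_one_of_semiregular {α : Type*} [Fintype α] [DecidableEq α] (σ : Equiv.Perm α)
    (m r : ℕ) (hm : Even m) (hm0 : 0 < m) (hr : Odd r) (hcard : Fintype.card α = m * r)
    (hσ : σ ^ m = 1) (hfree : ∀ j, 0 < j → j < m → ∀ a, (σ ^ j) a ≠ a) :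
    Equiv.Perm.sign σ = -1 := by
  have hm2 : 2 ≤ m := by
    rcases hm with ⟨k, hk⟩; omega
  have hall : ∀ n ∈ σ.cycleType, n = m := by
    intro n hn
    have hndvd : n ∣ m := (Equiv.Perm.dvd_of_mem_cycleType hn).trans (orderOf_dvd_of_pow_eq_one hσ)
    obtain ⟨c, τ, hστ, hdisj, hc, hcn⟩ := Equiv.Perm.mem_cycleType_iff.mp hn
    have hn2 : 2 ≤ n := hcn ▸ hc.two_le_card_support
    by_contra hne
    have hlt : n < m := lt_of_le_of_ne (Nat.le_of_dvd hm0 hndvd) hne
    obtain ⟨a, ha⟩ : ∃ a, c a ≠ a := hc.ne_one |> fun h => by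
      by_contra hcon
      push Not at hcon
      exact h (Equiv.Perm.ext hcon)
    have hτa : τ a = a := (hdisj a).resolve_left ha
    have hcn1 : c ^ n = 1 := by
      rw [← hcn, ← hc.orderOf]; exact pow_orderOf_eq_one c
    have : (σ ^ n) a = a := by
      rw [hστ, hdisj.commute.mul_pow, hcn1, one_mul]
      exact Equiv.Perm.pow_apply_eq_self_of_apply_eq_self hτa n
    exact hfree n (by omega) hlt a this
  have hrep : σ.cycleType = Multiset.replicate (Multiset.card σ.cycleType) m :=
    Multiset.eq_replicate_card.mpr hall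
  have hsupp : σ.support = Finset.univ := by
    ext a
    simp only [Equiv.Perm.mem_support, Finset.mem_univ, iff_true]
    have := hfree 1 one_pos (by omega) a
    simpa using this
  have hsum : σ.cycleType.sum = m * r := by
    rw [Equiv.Perm.sum_cycleType, hsupp, Finset.card_univ, hcard]
  have hk : Multiset.card σ.cycleType = r := by
    rw [hrep, Multiset.sum_replicate, smul_eq_mul] at hsum
    have : Multiset.card σ.cycleType * m = r * m := by rw [hsum, mul_comm]
    exact Nat.eq_of_mul_eq_mul_right hm0 (by simpa using this)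
  rw [Equiv.Perm.sign_of_cycleType, hsum, hk]
  have hodd : Odd (m * r + r) := by
    have : Even (m * r) := hm.mul_right r
    exact this.add_odd hr
  exact hodd.neg_one_pow

theorem exists_hom_neg_one {G₀ : Type*} [Group G₀] [Finite G₀] (M : Subgroup G₀) (y : G₀) (m r : ℕ)
    (hm : Even m) (hm0 : 0 < m) (hr : Odd r) (hidx : M.index = m * r) (hym : y ^ m = 1)
    (hfree : ∀ j, 0 < j → j < m → ∀ g : G₀, g⁻¹ * y ^ j * g ∉ M) :
    ∃ φ : G₀ →* ℤˣ, φ y = -1 := by
  classical
  have : Fintype (G₀ ⧸ M) := Fintype.ofFinite _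
  refine ⟨Equiv.Perm.sign.comp (MulAction.toPermHom G₀ (G₀ ⧸ M)), ?_⟩
  rw [MonoidHom.comp_apply]
  apply sign_eq_neg_one_of_semiregular _ m r hm hm0 hr
  · rw [← Nat.card_eq_fintype_card, ← Subgroup.index_eq_card, hidx]
  · rw [← map_pow, hym, map_one]
  · intro j hj0 hjm a
    induction a using QuotientGroup.induction_on with
    | H g =>
      rw [← map_pow]
      intro h
      have h1 : ((y ^ j * g : G₀) : G₀ ⧸ M) = (g : G₀ ⧸ M) := h
      rw [QuotientGroup.eq] at h1
      apply hfree j hj0 hjm g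
      have : g⁻¹ * y ^ j * g = ((y ^ j * g)⁻¹ * g)⁻¹ := by group
      rw [this]
      exact M.inv_mem h1

theorem r_pow_exists {n : ℕ} (i : ZMod n) (k : ℕ) : ∃ l : ZMod n, (DihedralGroup.r i) ^ k = DihedralGroup.r l := by
  induction k with
  | zero => exact ⟨0, by rw [pow_zero, DihedralGroup.one_def]⟩
  | succ k ih =>
    obtain ⟨l, hl⟩ := ih
    exact ⟨l + i, by rw [pow_succ, hl, DihedralGroup.r_mul_r]⟩

theorem orderOf_eq_two_of_not_mem {D : Type*} [Group D] {n : ℕ} (hn : 2 ≤ n) (φ : D ≃* DihedralGroup n)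
    (C : Subgroup D) (hC : IsCyclic C) (hCi : C.index = 2) (x : D) (hx : x ∉ C) : orderOf x = 2 := by
  have : NeZero n := ⟨by omega⟩
  have : Finite D := Finite.of_equiv _ φ.symm.toEquiv
  obtain ⟨⟨g, hgC⟩, hg⟩ := hC.exists_generator
  have hgen : ∀ c ∈ C, ∃ k : ℕ, c = g ^ k := by
    intro c hc
    have h1 := hg ⟨c, hc⟩
    rw [← mem_powers_iff_mem_zpowers] at h1
    obtain ⟨k, hk⟩ := h1
    refine ⟨k, ?_⟩
    have := congrArg Subtype.val hk
    simpa using this.symm
  have hord : orderOf x = orderOf (φ x) := (MulEquiv.orderOf_eq φ x).symm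
  rcases hφg : φ g with i | i
  · -- generator is a rotation: then x maps to a reflection
    rcases hφx : φ x with j | j
    · exfalso
      set y := φ.symm (DihedralGroup.sr 0) with hy
      have hyC : y ∉ C := by
        intro hyC
        obtain ⟨k, hk⟩ := hgen y hyC
        have := congrArg φ hk
        rw [hy, MulEquiv.apply_symm_apply, map_pow, hφg] at this
        obtain ⟨l, hl⟩ := r_pow_exists i k
        rw [hl] at this
        cases this
      have hxy : x⁻¹ * y ∈ C := by
        rw [Subgroup.mul_mem_iff_of_index_two hCi, Subgroup.inv_mem_iff]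
        exact ⟨fun h => absurd h hx, fun h => absurd h hyC⟩
      obtain ⟨k, hk⟩ := hgen _ hxy
      have := congrArg φ hk
      rw [map_mul, map_inv, hy, MulEquiv.apply_symm_apply, map_pow, hφg, hφx] at this
      obtain ⟨l, hl⟩ := r_pow_exists i k
      rw [hl] at this
      simp at this
    · rw [hord, hφx]; exact DihedralGroup.orderOf_sr j
  · -- generator is a reflection: n = 2
    have hcardC : Nat.card C = 2 := by
      have h1 : orderOf (⟨g, hgC⟩ : C) = Nat.card C := orderOf_eq_card_of_forall_mem_zpowers hg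
      rw [← h1, Subgroup.orderOf_mk, ← MulEquiv.orderOf_eq φ g, hφg, DihedralGroup.orderOf_sr]
    have hcardD : Nat.card D = 4 := by
      rw [← Subgroup.card_mul_index C, hcardC, hCi]
    have hn2 : n = 2 := by
      have h1 : Nat.card D = Nat.card (DihedralGroup n) := Nat.card_congr φ.toEquiv
      rw [hcardD, DihedralGroup.nat_card] at h1
      omega
    subst hn2
    have hx1 : x ≠ 1 := fun h => hx (h ▸ C.one_mem)
    have hφx1 : φ x ≠ 1 := fun h => hx1 (by simpa using h)
    rw [hord]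
    rcases hφx : φ x with j | j
    · rw [hφx] at hφx1
      have hj : j = 1 := by
        fin_cases j
        · exact absurd rfl hφx1
        · rfl
      rw [hj]; exact DihedralGroup.orderOf_r_one
    · exact DihedralGroup.orderOf_sr j

theorem card_mul_relIndex_eq {G : Type*} [Group G] [Finite G] {A B : Subgroup G} (h : A ≤ B) :
    Nat.card A * A.relIndex B = Nat.card B := by
  have h1 := Subgroup.relIndex_mul_index h
  have h2 := A.card_mul_index
  have h3 := B.card_mul_index
  have hB : B.index ≠ 0 := Subgroup.index_ne_zero_of_finite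
  have : Nat.card A * A.relIndex B * B.index = Nat.card B * B.index := by
    rw [mul_assoc, h1, h2, h3]
  exact Nat.eq_of_mul_eq_mul_right (Nat.pos_of_ne_zero hB) this

/-- `(t, e) ↦ t * e` as a map into `B`. -/
def mulMap {G : Type*} [Group G] (T E B : Subgroup G) (hTB : T ≤ B) (hEB : E ≤ B) :
    T × E → B := fun p => ⟨(p.1 : G) * (p.2 : G), B.mul_mem (hTB p.1.2) (hEB p.2.2)⟩

theorem mulMap_injective {G : Type*} [Group G] (T E B : Subgroup G) (hTB : T ≤ B) (hEB : E ≤ B)
    (hdisj : T ⊓ E = ⊥) : Function.Injective (mulMap T E B hTB hEB) := by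
  intro p q hpq
  have h1 : (p.1 : G) * (p.2 : G) = (q.1 : G) * (q.2 : G) := congrArg Subtype.val hpq
  exact Subgroup.mul_injective_of_disjoint (disjoint_iff.mpr hdisj) h1

theorem card_of_factor {G : Type*} [Group G] [Finite G] (T E B : Subgroup G) (hTB : T ≤ B)
    (hEB : E ≤ B) (hdisj : T ⊓ E = ⊥) (hfac : ∀ b ∈ B, ∃ t ∈ T, ∃ e ∈ E, b = t * e) :
    Nat.card B = Nat.card T * Nat.card E := by
  have hsurj : Function.Surjective (mulMap T E B hTB hEB) := by
    rintro ⟨b, hb⟩
    obtain ⟨t, ht, e, he, rfl⟩ := hfac b hb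
    exact ⟨(⟨t, ht⟩, ⟨e, he⟩), rfl⟩
  rw [← Nat.card_prod]
  exact (Nat.card_congr (Equiv.ofBijective _ ⟨mulMap_injective T E B hTB hEB hdisj, hsurj⟩)).symm

theorem factor_of_card {G : Type*} [Group G] [Finite G] (T E B : Subgroup G) (hTB : T ≤ B)
    (hEB : E ≤ B) (hdisj : T ⊓ E = ⊥) (hcard : Nat.card T * Nat.card E = Nat.card B) :
    ∀ b ∈ B, ∃ t ∈ T, ∃ e ∈ E, b = t * e := by
  have hbij : Function.Bijective (mulMap T E B hTB hEB) :=
    (mulMap_injective T E B hTB hEB hdisj).bijective_of_nat_card_le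
      (by rw [Nat.card_prod, hcard])
  intro b hb
  obtain ⟨⟨t, e⟩, hte⟩ := hbij.2 ⟨b, hb⟩
  exact ⟨t, t.2, e, e.2, (congrArg Subtype.val hte).symm⟩

theorem hom_trivial_on_pResidual {G₀ : Type*} [Group G₀] (φ : G₀ →* ℤˣ) :
    ∀ h ∈ pResidual 2 G₀, φ h = 1 := by
  have hle : pResidual 2 G₀ ≤ φ.ker := by
    unfold pResidual
    rw [Subgroup.closure_le]
    intro g hg
    have hg' : Nat.Coprime (orderOf g) 2 := hg
    show g ∈ φ.ker
    rw [MonoidHom.mem_ker]
    have h1 : orderOf (φ g) ∣ orderOf g := orderOf_map_dvd φ g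
    have h2 : orderOf (φ g) ∣ 2 := orderOf_dvd_of_pow_eq_one (Int.units_sq (φ g))
    have h3 : orderOf (φ g) ∣ 1 := by
      have := Nat.dvd_gcd h1 h2
      rwa [Nat.Coprime.gcd_eq_one hg'] at this
    exact orderOf_eq_one_iff.mp (Nat.dvd_one.mp h3)
  intro h hh
  exact MonoidHom.mem_ker.mp (hle hh)

theorem pResidual_pResidual_eq_top {G₀ : Type*} [Group G₀] :
    pResidual 2 ↥(pResidual 2 G₀) = ⊤ := by
  have h1 := pResidual_eq_map_of_forall_mem 2 (pResidual 2 G₀)
    (fun g hg => Subgroup.subset_closure hg)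
  rw [eq_top_iff]
  intro x _
  have hx : (x : G₀) ∈ (pResidual 2 ↥(pResidual 2 G₀)).map (pResidual 2 G₀).subtype := by
    rw [← h1]; exact x.2
  obtain ⟨y, hy, hyx⟩ := hx
  have : y = x := Subtype.ext hyx
  rwa [← this]


/-- A consequence of Thompson's transfer lemma. Let G be a finite group, L a subgroup with O²(L) = L, T a Sylow 2-subgroup of L and S a Sylow 2-subgroup of G containing T. Suppose D ≤ S is a dihedral subgroup of order at least 4 (the four-group counts) with D ∩ T = 1 and S = TD as a set of products (so |S| = |T|·|D|), and C ≤ D is cyclic of index 2 in D. If no involution of D outside C is G-conjugate to an involution of the subgroup generated by T and C, and the involution of C is not G-conjugate to any involution of T, then G has a normal subgroup K, containing every Sylow 2-subgroup of L as a Sylow 2-subgroup, with G = KD. -/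
theorem result {G : Type*} [Group G] [Finite G] (L T S D C : Subgroup G) (hL : Cfsg.pResidual 2 ↥L = ⊤)
    (hTL : T ≤ L) (hT2 : IsPGroup 2 T) (hTsyl : ¬ 2 ∣ T.relIndex L)
    (hS2 : IsPGroup 2 S) (hSsyl : ¬ 2 ∣ S.index) (hTS : T ≤ S)
    (hDS : D ≤ S) (hDih : ∃ n : ℕ, 2 ≤ n ∧ Nonempty (↥D ≃* DihedralGroup n)) (hDT : D ⊓ T = ⊥) (hTD : T ⊔ D = S) (hTDc : Nat.card T * Nat.card D = Nat.card S)
    (hCD : C ≤ D) (hC : IsCyclic ↥C) (hCi : C.relIndex D = 2)
    (h1 : ∀ x ∈ D, x ∉ C → orderOf x = 2 → ∀ g : G, g * x * g⁻¹ ∈ T ⊔ C → False)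
    (h2 : ∀ c ∈ C, orderOf c = 2 → ∀ g : G, g * c * g⁻¹ ∈ T → False) :
    ∃ K : Subgroup G, K.Normal ∧ K ⊔ D = ⊤ ∧
      ∀ T' : Subgroup G, T' ≤ L → IsPGroup 2 T' → ¬ 2 ∣ T'.relIndex L → T' ≤ K ∧ ¬ 2 ∣ T'.relIndex K := by
  classical
  have : Fact (Nat.Prime 2) := ⟨Nat.prime_two⟩
  obtain ⟨n, hn2, ⟨φD⟩⟩ := hDih
  set H := Cfsg.pResidual 2 G with hH
  have hHn : H.Normal := pResidual_normal 2 G
  have hLH : L ≤ H := by
    have h := map_pResidual_subtype_le 2 L
    rw [hL, ← MonoidHom.range_eq_map, Subgroup.range_subtype] at h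
    exact h
  have hTH : T ≤ H := hTL.trans hLH
  have hSodd : Odd S.index := Nat.odd_iff.mpr (Nat.two_dvd_ne_zero.mp hSsyl)
  have hSH : H ⊔ S = ⊤ := pResidual_sup_eq_top 2 S hSsyl
  -- F = S ∩ H
  set F := S ⊓ H with hF
  have hFodd : Odd (F.relIndex H) := by
    have h1 : F.relIndex H = S.relIndex H := Subgroup.inf_relIndex_right S H
    have h2 : S.relIndex H ∣ S.index := Cfsg.Agent.Lib.Helper71.relIndex_dvd_index_of_normal_right S H
    rw [h1]
    exact Odd.of_dvd_nat hSodd h2
  have hTF : T ≤ F := le_inf hTS hTH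
  have hCS : C ≤ S := hCD.trans hDS
  have hdisjTD : T ⊓ D = ⊥ := by rw [inf_comm]; exact hDT
  have hfacS : ∀ s ∈ S, ∃ t ∈ T, ∃ e ∈ D, s = t * e :=
    factor_of_card T D S hTS hDS hdisjTD hTDc
  -- elements of D outside C are involutions
  have hinv : ∀ x ∈ D, x ∉ C → orderOf x = 2 := by
    intro x hxD hxC
    have hcyc : IsCyclic ↥(C.subgroupOf D) :=
      isCyclic_of_surjective (Subgroup.subgroupOfEquivOfLe hCD).symm.toMonoidHom
        (Subgroup.subgroupOfEquivOfLe hCD).symm.surjective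
    have h := orderOf_eq_two_of_not_mem hn2 φD (C.subgroupOf D) hcyc hCi ⟨x, hxD⟩
      (by rw [Subgroup.mem_subgroupOf]; exact hxC)
    rwa [Subgroup.orderOf_mk] at h
  -- Step 1: F ∩ D ≤ C
  have hstep1 : ∀ x ∈ F, x ∈ D → x ∈ C := by
    intro x hxF hxD
    by_contra hxC
    have hord : orderOf x = 2 := hinv x hxD hxC
    set Q := T ⊔ C with hQ
    have hQS : Q ≤ S := sup_le hTS hCS
    have hfacQ : ∀ q ∈ Q, ∃ t ∈ T, ∃ e ∈ C, q = t * e := by
      intro q hq
      obtain ⟨t, ht, e, he, rfl⟩ := hfacS q (hQS hq)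
      refine ⟨t, ht, e, ?_, rfl⟩
      by_contra heC
      have heQ : e ∈ Q := by
        have : e = t⁻¹ * (t * e) := by group
        rw [this]
        exact Q.mul_mem (Q.inv_mem (le_sup_left (a := T) (b := C) ht)) hq
      exact h1 e he heC (hinv e he heC) 1 (by simpa using heQ)
    have hcardQ : Nat.card Q = Nat.card T * Nat.card C :=
      card_of_factor T C Q le_sup_left le_sup_right
        (le_bot_iff.mp (hdisjTD ▸ inf_le_inf_left T hCD)) hfacQ
    have hcardC : Nat.card C * 2 = Nat.card D := by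
      rw [← hCi]; exact card_mul_relIndex_eq hCD
    have hcardS : Nat.card S = Nat.card Q * 2 := by
      rw [← hTDc, hcardQ, ← hcardC, mul_assoc]
    have hidxQ : Q.index = 2 * S.index := by
      have h1' := Q.card_mul_index
      have h2' := S.card_mul_index
      rw [hcardS] at h2'
      have hQpos : 0 < Nat.card Q := Nat.card_pos
      have : Nat.card Q * Q.index = Nat.card Q * (2 * S.index) := by
        rw [h1', ← h2', mul_assoc]
      exact Nat.eq_of_mul_eq_mul_left hQpos this
    obtain ⟨φ, hφ⟩ := exists_hom_neg_one Q x 2 S.index (by decide) (by decide) hSodd hidxQ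
      (by rw [← hord]; exact pow_orderOf_eq_one x)
      (by
        intro j hj0 hj2 g hg
        have hj1 : j = 1 := by omega
        subst hj1
        rw [pow_one] at hg
        exact h1 x hxD hxC hord g⁻¹ (by simpa using hg))
    have h1φ : φ x = 1 := hom_trivial_on_pResidual φ x hxF.2
    rw [hφ] at h1φ
    exact absurd h1φ (by decide)
  -- Step 2: F ∩ D = ⊥
  have hstep2 : ∀ x ∈ F, x ∈ D → x = 1 := by
    set D₀ := F ⊓ D with hD₀
    have hD₀C : D₀ ≤ C := fun x hx => hstep1 x hx.1 hx.2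
    have : IsCyclic ↥C := hC
    have hcycD₀ : IsCyclic ↥D₀ := Subgroup.isCyclic_of_le hD₀C
    obtain ⟨d, hd⟩ := (Subgroup.isCyclic_iff_exists_zpowers_eq_top D₀).mp hcycD₀
    have hdD₀ : d ∈ D₀ := hd ▸ Subgroup.mem_zpowers d
    by_cases hd1 : d = 1
    · intro x hxF hxD
      have : x ∈ D₀ := ⟨hxF, hxD⟩
      rw [← hd, hd1, Subgroup.zpowers_one_eq_bot] at this
      exact Subgroup.mem_bot.mp this
    exfalso
    have hdH : d ∈ H := hdD₀.1.2
    have hdC : d ∈ C := hD₀C hdD₀
    set m := orderOf d with hm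
    have hcardD₀ : Nat.card D₀ = m := by rw [← hd, Nat.card_zpowers]
    have hD₀S : D₀ ≤ S := fun x hx => hx.1.1
    obtain ⟨k, hk⟩ := (IsPGroup.iff_card.mp (hS2.to_le hD₀S))
    have hm2 : m = 2 ^ k := by rw [← hcardD₀, hk]
    have hk0 : k ≠ 0 := by
      rintro rfl
      rw [pow_zero] at hm2
      exact hd1 (orderOf_eq_one_iff.mp (hm ▸ hm2))
    have hmeven : Even m := by
      rw [hm2]; exact (Nat.even_pow.mpr ⟨by decide, hk0⟩)
    have hm0 : 0 < m := by rw [hm2]; positivity
    have hfacF : ∀ f ∈ F, ∃ t ∈ T, ∃ e ∈ D₀, f = t * e := by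
      intro f hf
      obtain ⟨t, ht, e, he, rfl⟩ := hfacS f hf.1
      refine ⟨t, ht, e, ⟨?_, he⟩, rfl⟩
      have : e = t⁻¹ * (t * e) := by group
      rw [this]
      exact F.mul_mem (F.inv_mem (hTF ht)) hf
    have hcardF : Nat.card F = Nat.card T * m := by
      rw [← hcardD₀]
      exact card_of_factor T D₀ F hTF inf_le_left
        (le_bot_iff.mp (hdisjTD ▸ inf_le_inf_left T inf_le_right)) hfacF
    have hidxT : (T.subgroupOf H).index = m * F.relIndex H := by
      show T.relIndex H = m * F.relIndex H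
      have h1' := card_mul_relIndex_eq hTH
      have h2' := card_mul_relIndex_eq (inf_le_right : F ≤ H)
      rw [hcardF] at h2'
      have hTpos : 0 < Nat.card T := Nat.card_pos
      have : Nat.card T * T.relIndex H = Nat.card T * (m * F.relIndex H) := by
        rw [h1', ← h2', mul_assoc]
      exact Nat.eq_of_mul_eq_mul_left hTpos this
    obtain ⟨φ, hφ⟩ := exists_hom_neg_one (T.subgroupOf H) (⟨d, hdH⟩ : ↥H) m (F.relIndex H)
      hmeven hm0 hFodd hidxT
      (by
        apply Subtype.ext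
        rw [Subgroup.coe_pow, Subgroup.coe_one]
        exact pow_orderOf_eq_one d)
      (by
        intro j hj0 hjm g hg
        rw [Subgroup.mem_subgroupOf] at hg
        have hg' : (g : G)⁻¹ * d ^ j * (g : G) ∈ T := by simpa using hg
        set w := d ^ j with hw
        have hw1 : w ≠ 1 := pow_ne_one_of_lt_orderOf hj0.ne' hjm
        have hwC : w ∈ C := C.pow_mem hdC j
        have hwS : w ∈ S := hCS hwC
        obtain ⟨k', hk'⟩ := hS2 ⟨w, hwS⟩
        have hk'' : w ^ 2 ^ k' = 1 := by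
          have := congrArg Subtype.val hk'
          simpa using this
        obtain ⟨e, -, he⟩ := (Nat.dvd_prime_pow Nat.prime_two).mp (orderOf_dvd_of_pow_eq_one hk'')
        have he0 : e ≠ 0 := by
          rintro rfl
          rw [pow_zero] at he
          exact hw1 (orderOf_eq_one_iff.mp he)
        obtain ⟨e', rfl⟩ := Nat.exists_eq_succ_of_ne_zero he0
        set c := w ^ 2 ^ e' with hc
        have hc2 : c ^ 2 = 1 := by
          rw [hc, ← pow_mul, ← pow_succ, ← he]; exact pow_orderOf_eq_one w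
        have hc1 : c ≠ 1 := by
          apply pow_ne_one_of_lt_orderOf (by positivity)
          rw [he]; exact Nat.pow_lt_pow_right (by decide) (Nat.lt_succ_self e')
        have hcord : orderOf c = 2 := orderOf_eq_prime hc2 hc1
        have hcC : c ∈ C := C.pow_mem hwC _
        refine h2 c hcC hcord (g : G)⁻¹ ?_
        have : (g : G)⁻¹ * c * ((g : G)⁻¹)⁻¹ = ((g : G)⁻¹ * w * (g : G)) ^ 2 ^ e' := by
          rw [hc, inv_inv]
          have := conj_pow (a := (g : G)⁻¹) (b := w) (i := 2 ^ e')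
          rw [inv_inv] at this
          exact this.symm
        rw [this]
        exact T.pow_mem hg' _)
    have h1φ : φ ⟨d, hdH⟩ = 1 :=
      hom_trivial_on_pResidual φ _ (by rw [pResidual_pResidual_eq_top]; exact Subgroup.mem_top _)
    rw [hφ] at h1φ
    exact absurd h1φ (by decide)
  have hFT : F ≤ T := by
    intro f hf
    obtain ⟨t, ht, e, he, rfl⟩ := hfacS f hf.1
    have heF : e ∈ F := by
      have : e = t⁻¹ * (t * e) := by group
      rw [this]
      exact F.mul_mem (F.inv_mem (hTF ht)) hf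
    rw [hstep2 e heF he, mul_one]
    exact ht
  have hFeq : F = T := le_antisymm hFT hTF
  refine ⟨H, hHn, ?_, ?_⟩
  · rw [eq_top_iff, ← hSH, ← hTD]
    exact sup_le le_sup_left (sup_le (hTH.trans le_sup_left) le_sup_right)
  · intro T' hT'L hT'2 hT'syl
    have hT'H : T' ≤ H := hT'L.trans hLH
    refine ⟨hT'H, ?_⟩
    -- |T'| = |T|
    have hc1 := card_mul_relIndex_eq hTL
    have hc2 := card_mul_relIndex_eq hT'L
    obtain ⟨a, ha⟩ := IsPGroup.iff_card.mp hT2
    obtain ⟨b, hb⟩ := IsPGroup.iff_card.mp hT'2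
    have hcop1 : Nat.Coprime (2 ^ a) (T'.relIndex L) :=
      Nat.Coprime.pow_left a ((Nat.Prime.coprime_iff_not_dvd Nat.prime_two).mpr hT'syl)
    have hcop2 : Nat.Coprime (2 ^ b) (T.relIndex L) :=
      Nat.Coprime.pow_left b ((Nat.Prime.coprime_iff_not_dvd Nat.prime_two).mpr hTsyl)
    have hab : 2 ^ a ∣ 2 ^ b := by
      apply hcop1.dvd_of_dvd_mul_right
      rw [← hb, hc2, ← hc1, ha]
      exact Dvd.intro _ rfl
    have hba : 2 ^ b ∣ 2 ^ a := by
      apply hcop2.dvd_of_dvd_mul_right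
      rw [← ha, hc1, ← hc2, hb]
      exact Dvd.intro _ rfl
    have hcardTT' : Nat.card T' = Nat.card T := by
      rw [ha, hb]; exact Nat.dvd_antisymm hba hab
    have hr1 := card_mul_relIndex_eq hTH
    have hr2 := card_mul_relIndex_eq hT'H
    have hrel : T'.relIndex H = T.relIndex H := by
      have hTpos : 0 < Nat.card T := Nat.card_pos
      have : Nat.card T * T'.relIndex H = Nat.card T * T.relIndex H := by
        rw [hr1, ← hcardTT', hr2]
      exact Nat.eq_of_mul_eq_mul_left hTpos this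
    rw [hrel, ← hFeq]
    exact fun h => (Nat.not_even_iff_odd.mpr hFodd) (even_iff_two_dvd.mpr h)

end Cfsg.Agent.S1924
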