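import Cfsg.Statements.S1939
-- import your own Cfsg.Agent.* helpers here

set_option autoImplicit false
open Cfsg

namespace Cfsg.Agent.S1939

open scoped Pointwise

/-- Let S be a Sylow p-subgroup of the finite group G and a an element of S that is the only G-conjugate of a lying in S. Then every power of a has the same property: for every n, the only G-conjugate of a^n lying in S is a^n. -/
theorem result {G : Type*} [Group G] [Finite G] {p : ℕ} [Fact p.Prime] (S : Sylow p G) (a : G)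
    (haS : a ∈ (S : Subgroup G)) (hwc : ∀ g : G, g * a * g⁻¹ ∈ (S : Subgroup G) → g * a * g⁻¹ = a) (n : ℕ) :
    ∀ g : G, g * a ^ n * g⁻¹ ∈ (S : Subgroup G) → g * a ^ n * g⁻¹ = a ^ n := by
  intro g hg
  -- a is central in S
  have hcent : ∀ s ∈ (S : Subgroup G), s * a = a * s := by
    intro s hs
    have h1 : s * a * s⁻¹ ∈ (S : Subgroup G) :=
      Subgroup.mul_mem _ (Subgroup.mul_mem _ hs haS) (Subgroup.inv_mem _ hs)
    have h2 := hwc s h1
    calc s * a = s * a * s⁻¹ * s := by group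
      _ = a * s := by rw [h2]
  have hcentn : ∀ s ∈ (S : Subgroup G), s * a ^ n = a ^ n * s := by
    intro s hs
    exact ((Commute.pow_right (hcent s hs) n) : Commute s (a ^ n)).eq
  obtain ⟨x, hx⟩ : ∃ x, x = g * a ^ n * g⁻¹ := ⟨_, rfl⟩
  rw [← hx] at hg ⊢
  let H : Subgroup G := Subgroup.centralizer ({x} : Set G)
  -- g • S ≤ H
  have hP1 : ((g • S : Sylow p G) : Subgroup G) ≤ H := by
    intro y hy
    rw [Sylow.coe_subgroup_smul, Subgroup.mem_pointwise_smul_iff_inv_smul_mem] at hy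
    rw [MulAut.smul_def, ← map_inv, MulAut.conj_apply] at hy
    simp only [inv_inv] at hy
    have h3 := hcentn _ hy
    rw [Subgroup.mem_centralizer_iff]
    intro z hz
    rw [Set.mem_singleton_iff] at hz
    subst hz
    rw [hx]
    calc g * a ^ n * g⁻¹ * y = g * (a ^ n * (g⁻¹ * y * g)) * g⁻¹ := by group
      _ = g * ((g⁻¹ * y * g) * a ^ n) * g⁻¹ := by rw [h3]
      _ = y * (g * a ^ n * g⁻¹) := by group
  -- a ∈ H
  have haH : a ∈ H := by
    rw [Subgroup.mem_centralizer_iff]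
    intro z hz
    rw [Set.mem_singleton_iff] at hz
    subst hz
    exact hcent z hg
  -- Sylow theory in H
  have hK : IsPGroup p ((S : Subgroup G).subgroupOf H) := S.isPGroup'.comap_subtype
  obtain ⟨Q2, hQ2⟩ := hK.exists_le_sylow
  have haQ2 : (⟨a, haH⟩ : H) ∈ Q2 := hQ2 (by rw [Subgroup.mem_subgroupOf]; exact haS)
  obtain ⟨h, hh⟩ := MulAction.exists_smul_eq H Q2 ((g • S : Sylow p G).subtype hP1)
  have h4 : MulAut.conj h • (⟨a, haH⟩ : H) ∈ (h • Q2 : Sylow p H) := by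
    rw [Sylow.smul_def]
    exact Subgroup.smul_mem_pointwise_smul _ _ _ haQ2
  rw [hh] at h4
  have h4' : MulAut.conj h • (⟨a, haH⟩ : H) ∈ (((g • S : Sylow p G).subtype hP1 : Sylow p H) : Subgroup H) := h4
  rw [Sylow.coe_subtype, Subgroup.mem_subgroupOf] at h4'
  clear h4
  have h4 := h4'
  rw [MulAut.smul_def, MulAut.conj_apply] at h4
  rw [Sylow.coe_subgroup_smul, Subgroup.mem_pointwise_smul_iff_inv_smul_mem] at h4
  rw [MulAut.smul_def, ← map_inv, MulAut.conj_apply] at h4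
  simp only [inv_inv, Subgroup.coe_mul, Subgroup.coe_inv] at h4
  -- h4 : g⁻¹ * (h * a * h⁻¹) * g ∈ S
  have h5 : (g⁻¹ * (h : G)) * a * (g⁻¹ * (h : G))⁻¹ ∈ (S : Subgroup G) := by
    have : (g⁻¹ * (h : G)) * a * (g⁻¹ * (h : G))⁻¹ = g⁻¹ * ((h : G) * a * (h : G)⁻¹) * g := by group
    rw [this]; exact h4
  have h6 := hwc _ h5
  -- h a h⁻¹ = g a g⁻¹
  have h7 : (h : G) * a * (h : G)⁻¹ = g * a * g⁻¹ := by
    calc (h : G) * a * (h : G)⁻¹ = g * ((g⁻¹ * (h : G)) * a * (g⁻¹ * (h : G))⁻¹) * g⁻¹ := by group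
      _ = g * a * g⁻¹ := by rw [h6]
  have h8 : x = (h : G) * a ^ n * (h : G)⁻¹ := by
    rw [hx]
    have e1 : g * a ^ n * g⁻¹ = (g * a * g⁻¹) ^ n := (conj_pow).symm
    have e2 : (h : G) * a ^ n * (h : G)⁻¹ = ((h : G) * a * (h : G)⁻¹) ^ n := (conj_pow).symm
    rw [e1, e2, h7]
  -- h commutes with x
  have h9 : x * (h : G) = (h : G) * x := by
    have := h.2
    rw [Subgroup.mem_centralizer_iff] at this
    exact this x rfl
  calc x = (h : G)⁻¹ * ((h : G) * x) := by group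
    _ = (h : G)⁻¹ * (x * (h : G)) := by rw [h9]
    _ = (h : G)⁻¹ * ((h : G) * a ^ n * (h : G)⁻¹ * (h : G)) := by rw [← h8]
    _ = a ^ n := by group

end Cfsg.Agent.S1939
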