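import Cfsg.Statements.S1940
-- import your own Cfsg.Agent.* helpers here

set_option autoImplicit false
open Cfsg

namespace Cfsg.Agent.S1940

/-- Let the finite group L act by automorphisms on the finite abelian group M, and let N be an L-invariant subgroup of M such that M/N is a p-group on which L acts trivially (every l • m lies in the coset mN). If every element of M is a product of an element of N and an element fixed by a Sylow p-subgroup T of L, then every element of M is a product of an element of N and an element fixed by all of L. -/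
theorem result {L : Type*} [Group L] [Finite L] {M : Type*} [CommGroup M] [Finite M] [MulDistribMulAction L M]
    {p : ℕ} [Fact p.Prime] (N : Subgroup M) (hN : ∀ (l : L) (m : M), m ∈ N → l • m ∈ N)
    (hquot : IsPGroup p (M ⧸ N)) (htriv : ∀ (l : L) (m : M), (l • m) * m⁻¹ ∈ N) (T : Sylow p L)
    (hT : ∀ m : M, ∃ n ∈ N, ∃ c : M, (∀ t ∈ (T : Subgroup L), t • c = c) ∧ m = n * c) :
    ∀ m : M, ∃ n ∈ N, ∃ c : M, (∀ l : L, l • c = c) ∧ m = n * c := by
  intro m
  have : Fintype (L ⧸ (T : Subgroup L)) := Fintype.ofFinite _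
  obtain ⟨k, hk⟩ : ∃ k, k = (T : Subgroup L).index := ⟨_, rfl⟩
  have hkp : p.Coprime k := by
    rw [hk]
    exact (Fact.out : p.Prime).coprime_iff_not_dvd.mpr T.not_dvd_index
  -- find m' with m'^k ≡ m mod N
  obtain ⟨y, hy⟩ := (hquot.powEquiv hkp).surjective (QuotientGroup.mk m : M ⧸ N)
  obtain ⟨m', rfl⟩ := QuotientGroup.mk_surjective y
  rw [IsPGroup.powEquiv_apply, ← QuotientGroup.mk_pow, QuotientGroup.eq] at hy
  -- hy : (m' ^ k)⁻¹ * m ∈ N
  obtain ⟨n1, hn1, c1, hc1, rfl⟩ := hT m'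
  -- the function on cosets
  let F : L ⧸ (T : Subgroup L) → M := fun q =>
    Quotient.liftOn' q (fun l => l • c1) (by
      intro a b hab
      rw [QuotientGroup.leftRel_apply] at hab
      have : b = a * (a⁻¹ * b) := by group
      show a • c1 = b • c1
      rw [this, mul_smul, hc1 _ hab])
  have hF : ∀ l : L, F (QuotientGroup.mk l) = l • c1 := fun l => rfl
  have hFsmul : ∀ (l : L) (q : L ⧸ (T : Subgroup L)), l • F q = F (l • q) := by
    intro l q
    induction q using QuotientGroup.induction_on with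
    | H a => rw [hF, MulAction.Quotient.smul_mk, hF, smul_eq_mul, mul_smul]
  have hFN : ∀ q : L ⧸ (T : Subgroup L), F q * c1⁻¹ ∈ N := by
    intro q
    induction q using QuotientGroup.induction_on with
    | H a => rw [hF]; exact htriv a c1
  obtain ⟨c', hc'⟩ : ∃ c', c' = ∏ q : L ⧸ (T : Subgroup L), F q := ⟨_, rfl⟩
  have hc'fix : ∀ l : L, l • c' = c' := by
    intro l
    rw [hc', Finset.smul_prod']
    simp only [hFsmul]
    exact Fintype.prod_equiv (MulAction.toPerm l) _ _ (fun q => rfl)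
  have hc'N : c' * (c1 ^ k)⁻¹ ∈ N := by
    have h1 : c' * (c1 ^ k)⁻¹ = ∏ q : L ⧸ (T : Subgroup L), (F q * c1⁻¹) := by
      rw [Finset.prod_mul_distrib, Finset.prod_const, Finset.card_univ, hc', hk,
        Subgroup.index_eq_card, Nat.card_eq_fintype_card, inv_pow]
    rw [h1]
    exact Subgroup.prod_mem _ (fun q _ => hFN q)
  refine ⟨((n1 * c1) ^ k)⁻¹ * m * n1 ^ k * (c' * (c1 ^ k)⁻¹)⁻¹, ?_, c', hc'fix, ?_⟩
  · exact N.mul_mem (N.mul_mem hy (N.pow_mem hn1 k)) (N.inv_mem hc'N)
  · rw [mul_pow]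
    -- commutative group identity
    have : (n1 ^ k * c1 ^ k)⁻¹ * m * n1 ^ k * (c' * (c1 ^ k)⁻¹)⁻¹ * c' = m := by
      rw [mul_inv_rev, mul_inv_rev, inv_inv]
      calc (c1 ^ k)⁻¹ * (n1 ^ k)⁻¹ * m * n1 ^ k * (c1 ^ k * c'⁻¹) * c'
          = m * ((c1 ^ k)⁻¹ * c1 ^ k) * ((n1 ^ k)⁻¹ * n1 ^ k) * (c'⁻¹ * c') := by
            simp only [mul_assoc, mul_comm, mul_left_comm]
        _ = m := by simp
    exact this.symm

end Cfsg.Agent.S1940
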