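import Cfsg.Statements.S1941
import Cfsg.Agent.Lib.Helper21.GenFitting

set_option autoImplicit false
open Cfsg

namespace Cfsg.Agent.S1941

open Cfsg.Agent.Lib.Helper21 Cfsg.Agent.Lib.Helper29

universe u

section
variable {G : Type u} [Group G] [Finite G] {p : ℕ} [Fact p.Prime]

/-- With trivial `p'`-core, normal nilpotent subgroups are `p`-groups. -/
theorem normal_nilpotent_isPGroup (hcore : Cfsg.pPrimeCore p G = ⊥) (N : Subgroup G)
    (hN : N.Normal) (hnil : Group.IsNilpotent N) : IsPGroup p N := by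
  have hp : p.Prime := Fact.out
  have huniq : ∀ {q : ℕ}, q.Prime → q ∣ Nat.card N → q = p := by
    intro q hq hqN
    by_contra hne
    have hfq : Fact q.Prime := ⟨hq⟩
    obtain ⟨Q⟩ : Nonempty (Sylow q N) := inferInstance
    have hQn : (Q : Subgroup N).Normal := inferInstance
    have hQc : (Q : Subgroup N).Characteristic := Sylow.characteristic_of_normal Q hQn
    have hQG : ((Q : Subgroup N).map N.subtype).Normal :=
      ConjAct.normal_of_characteristic_of_normal
    have hcard : Nat.card ((Q : Subgroup N).map N.subtype) = Nat.card (Q : Subgroup N) :=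
      Subgroup.card_map_of_injective N.subtype_injective
    have hle : (Q : Subgroup N).map N.subtype ≤ Cfsg.pPrimeCore p G := by
      apply le_sSup
      refine ⟨hQG, ?_⟩
      rw [hcard, Sylow.card_eq_multiplicity]
      apply Nat.Coprime.pow_left
      exact (Nat.coprime_primes hq hp).mpr hne
    rw [hcore, le_bot_iff] at hle
    have h1 : Nat.card (Q : Subgroup N) = 1 := by
      rw [← hcard, hle, Subgroup.card_bot]
    have h2 := Q.dvd_card_of_dvd_card hqN
    rw [h1] at h2
    exact hq.one_lt.ne' (Nat.dvd_one.mp h2)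
  exact IsPGroup.of_card (Nat.eq_prime_pow_of_unique_prime_dvd Nat.card_pos.ne' huniq)

end

/-- Let G be a finite group with no nontrivial normal subgroup of order prime to p, T a Sylow p-subgroup of G and E(G) the layer of G (the subgroup generated by its components). An automorphism of G of p-power order that fixes T and E(G) elementwise is inner. -/
theorem result {G : Type*} [Group G] [Finite G] {p : ℕ} [Fact p.Prime] (hcore : Cfsg.pPrimeCore p G = ⊥)
    (T : Sylow p G) (α : MulAut G) (hα : ∃ j : ℕ, orderOf α = p ^ j) (hfixT : ∀ x ∈ (T : Subgroup G), α x = x)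
    (hfixE : ∀ x ∈ Cfsg.layer G, α x = x) : ∃ g : G, ∀ x : G, α x = g * x * g⁻¹ := by
  classical
  have hp : p.Prime := Fact.out
  -- the fixed points of α
  obtain ⟨Fix, hFix⟩ : ∃ Fix : Subgroup G, Fix = (α : G →* G).eqLocus (MonoidHom.id G) := ⟨_, rfl⟩
  have hFixmem : ∀ x, x ∈ Fix ↔ α x = x := fun x => by rw [hFix]; exact Iff.rfl
  -- F(G) ≤ T
  have hFT : Cfsg.fittingSubgroup G ≤ (T : Subgroup G) := by
    apply sSup_le
    rintro N ⟨hNn, hNnil⟩
    have := normal_nilpotent_isPGroup hcore N hNn hNnil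
    exact this.le_sylow_of_normal T
  have hFsFix : Cfsg.generalizedFittingSubgroup G ≤ Fix := by
    apply sup_le
    · intro x hx; exact (hFixmem x).mpr (hfixE x hx)
    · intro x hx; exact (hFixmem x).mpr (hfixT x (hFT hx))
  have hFsn : (Cfsg.generalizedFittingSubgroup G).Normal := generalizedFittingSubgroup_normal G
  obtain ⟨C, hC⟩ : ∃ C : Subgroup G,
      C = Subgroup.centralizer (Cfsg.generalizedFittingSubgroup G : Set G) := ⟨_, rfl⟩
  have hCF : C ≤ Cfsg.generalizedFittingSubgroup G := by
    rw [hC]; exact centralizer_generalizedFittingSubgroup_le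
  have hCn : C.Normal := by rw [hC]; exact Subgroup.normal_centralizer
  have hCcomm : ∀ a b : C, a * b = b * a := by
    intro a b
    have ha : (a : G) ∈ Subgroup.centralizer (Cfsg.generalizedFittingSubgroup G : Set G) := by
      rw [← hC]; exact a.2
    rw [Subgroup.mem_centralizer_iff] at ha
    exact Subtype.ext (ha b (hCF b.2)).symm
  let _ : CommGroup C := { (inferInstance : Group C) with mul_comm := hCcomm }
  have hCnil : Group.IsNilpotent C := CommGroup.isNilpotent
  have hCp : IsPGroup p C := normal_nilpotent_isPGroup hcore C hCn hCnil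
  have hCfix : ∀ c : C, α (c : G) = c := fun c => (hFixmem _).mp (hFsFix (hCF c.2))
  -- the cocycle
  have hcz : ∀ g : G, α g * g⁻¹ ∈ C := by
    intro g
    rw [hC, Subgroup.mem_centralizer_iff]
    intro x hx
    have hx' : g⁻¹ * x * g ∈ Cfsg.generalizedFittingSubgroup G := by
      have := hFsn.conj_mem x hx g⁻¹
      rwa [inv_inv] at this
    have h1 : α (g⁻¹ * x * g) = g⁻¹ * x * g := (hFixmem _).mp (hFsFix hx')
    have h2 : α x = x := (hFixmem _).mp (hFsFix hx)
    rw [map_mul, map_mul, map_inv, h2] at h1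
    -- (α g)⁻¹ * x * α g = g⁻¹ * x * g
    calc x * (α g * g⁻¹) = α g * ((α g)⁻¹ * x * α g) * g⁻¹ := by group
      _ = α g * (g⁻¹ * x * g) * g⁻¹ := by rw [h1]
      _ = α g * g⁻¹ * x := by group
  let cz : G → C := fun g => ⟨α g * g⁻¹, hcz g⟩
  have hcz_mul : ∀ h g : G, cz (h * g) = cz h * MulAut.conjNormal h (cz g) := by
    intro h g
    apply Subtype.ext
    rw [Subgroup.coe_mul, MulAut.conjNormal_apply]
    show α (h * g) * (h * g)⁻¹ = α h * h⁻¹ * (h * (α g * g⁻¹) * h⁻¹)
    rw [map_mul]; group
  have hcz_T : ∀ t ∈ (T : Subgroup G), cz t = 1 := by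
    intro t ht
    apply Subtype.ext
    show α t * t⁻¹ = 1
    rw [hfixT t ht, mul_inv_cancel]
  have hcz_right : ∀ (g : G) (t : G), t ∈ (T : Subgroup G) → cz (g * t) = cz g := by
    intro g t ht
    rw [hcz_mul, hcz_T t ht, map_one, mul_one]
  -- function on cosets
  have : Fintype (G ⧸ (T : Subgroup G)) := Fintype.ofFinite _
  let F : G ⧸ (T : Subgroup G) → C := fun q =>
    Quotient.liftOn' q cz (by
      intro a b hab
      rw [QuotientGroup.leftRel_apply] at hab
      have : b = a * (a⁻¹ * b) := by group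
      rw [this, hcz_right a _ hab])
  have hF : ∀ g : G, F (QuotientGroup.mk g) = cz g := fun g => rfl
  have hFsmul : ∀ (h : G) (q : G ⧸ (T : Subgroup G)),
      F (h • q) = cz h * MulAut.conjNormal h (F q) := by
    intro h q
    induction q using QuotientGroup.induction_on with
    | H a => rw [MulAction.Quotient.smul_mk, hF, hF, smul_eq_mul, hcz_mul]
  obtain ⟨d, hd⟩ : ∃ d : C, d = ∏ q : G ⧸ (T : Subgroup G), F q := ⟨_, rfl⟩
  obtain ⟨k, hk⟩ : ∃ k, k = (T : Subgroup G).index := ⟨_, rfl⟩
  have hkp : p.Coprime k := by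
    rw [hk]
    exact hp.coprime_iff_not_dvd.mpr T.not_dvd_index
  have hkey : ∀ h : G, d = (cz h) ^ k * MulAut.conjNormal h d := by
    intro h
    have h1 : ∏ q : G ⧸ (T : Subgroup G), F (h • q) = d := by
      rw [hd]
      exact Fintype.prod_equiv (MulAction.toPerm h) _ _ (fun q => rfl)
    have h2 : ∏ q : G ⧸ (T : Subgroup G), F (h • q) = (cz h) ^ k * MulAut.conjNormal h d := by
      simp only [hFsmul]
      rw [Finset.prod_mul_distrib, Finset.prod_const, Finset.card_univ, ← map_prod, ← hd, hk,
        Subgroup.index_eq_card, Nat.card_eq_fintype_card]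
    rw [← h2, h1]
  -- k-th root of d
  obtain ⟨z, hz⟩ := (hCp.powEquiv hkp).surjective d
  rw [IsPGroup.powEquiv_apply] at hz
  have hfinal : ∀ h : G, cz h = z * (MulAut.conjNormal h z)⁻¹ := by
    intro h
    apply (hCp.powEquiv hkp).injective
    rw [IsPGroup.powEquiv_apply, IsPGroup.powEquiv_apply, mul_pow, inv_pow, ← map_pow, hz]
    have := hkey h
    rw [eq_mul_inv_iff_mul_eq]
    exact this.symm
  refine ⟨(z : G), fun x => ?_⟩
  have h1 := congrArg Subtype.val (hfinal x)
  rw [Subgroup.coe_mul, Subgroup.coe_inv, MulAut.conjNormal_apply] at h1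
  change α x * x⁻¹ = _ at h1
  calc α x = α x * x⁻¹ * x := by group
    _ = (z : G) * (x * (z : G) * x⁻¹)⁻¹ * x := by rw [h1]
    _ = (z : G) * x * (z : G)⁻¹ := by group

end Cfsg.Agent.S1941
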