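import Cfsg.Statements.S1944
-- import your own Cfsg.Agent.* helpers here
import Cfsg.Agent.Lib.Helper97.NormMap
import Cfsg.Agent.Lib.Helper97.Cores
import Cfsg.Agent.Lib.Helper97.CoprimeQuot

set_option autoImplicit false
open Cfsg

namespace Cfsg.Agent.S1944

open Cfsg.Agent.Lib.Helper97 Cfsg.Agent.Lib.Helper33

/-- Let S be a Sylow p-subgroup of the finite group G and suppose that the centre Z(S) lies in O_{p',p}(G). The elements of S each of which is its only G-conjugate in S form a subgroup W of Z(S); W is then a direct factor of Z(S): there is a subgroup K of Z(S) with W ∩ K = 1 and WK = Z(S). -/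
theorem result {G : Type*} [Group G] [Finite G] {p : ℕ} [Fact p.Prime] (S : Sylow p G)
    (hZ : ((S : Subgroup G) ⊓ Subgroup.centralizer ((S : Subgroup G) : Set G)) ≤ Cfsg.pPrimePCore p G) :
    ∃ W K : Subgroup G, (∀ x : G, x ∈ W ↔ (x ∈ (S : Subgroup G) ∧ ∀ g : G, g * x * g⁻¹ ∈ (S : Subgroup G) → g * x * g⁻¹ = x)) ∧
      K ≤ ((S : Subgroup G) ⊓ Subgroup.centralizer ((S : Subgroup G) : Set G)) ∧ W ⊓ K = ⊥ ∧ W ⊔ K = ((S : Subgroup G) ⊓ Subgroup.centralizer ((S : Subgroup G) : Set G)) := by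
  classical
  have hp : p.Prime := Fact.out
  have hKcop : (Nat.card (pPrimeCore p G)).Coprime p := card_pPrimeCore_coprime p
  have hsurj := QuotientGroup.mk'_surjective (pPrimeCore p G)
  have hSK : (S : Subgroup G) ⊓ pPrimeCore p G = ⊥ :=
    inf_eq_bot_of_isPGroup_of_coprime S.isPGroup' hKcop
  -- `mk` is injective on `S`
  have hinj : ∀ s ∈ (S : Subgroup G), ∀ s' ∈ (S : Subgroup G),
      QuotientGroup.mk' (pPrimeCore p G) s = QuotientGroup.mk' (pPrimeCore p G) s' → s = s' := by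
    intro s hs s' hs' h
    have h1 : s⁻¹ * s' ∈ pPrimeCore p G := QuotientGroup.eq.mp h
    have h2 : s⁻¹ * s' ∈ (S : Subgroup G) ⊓ pPrimeCore p G :=
      Subgroup.mem_inf.mpr ⟨mul_mem (inv_mem hs) hs', h1⟩
    rw [hSK, Subgroup.mem_bot] at h2
    exact (inv_mul_eq_one.mp h2)
  -- the Sylow subgroup of the quotient
  set S' : Sylow p (G ⧸ pPrimeCore p G) := S.mapSurjective hsurj with hS'
  have hS'coe : (S' : Subgroup (G ⧸ pPrimeCore p G)) =
      (S : Subgroup G).map (QuotientGroup.mk' (pPrimeCore p G)) := Sylow.coe_mapSurjective _ _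
  have hP'S' : pCore p (G ⧸ pPrimeCore p G) ≤
      (S : Subgroup G).map (QuotientGroup.mk' (pPrimeCore p G)) := by
    rw [← hS'coe]; exact pCore_le_sylow' S'
  have hZP' : ∀ z ∈ (S : Subgroup G) ⊓ Subgroup.centralizer ((S : Subgroup G) : Set G),
      QuotientGroup.mk' (pPrimeCore p G) z ∈ pCore p (G ⧸ pPrimeCore p G) := fun z hz => hZ hz
  -- the abelian normal subgroup `A₀ = Z(O_p(G/K))`
  set A₀ : Subgroup (G ⧸ pPrimeCore p G) := pCore p (G ⧸ pPrimeCore p G) ⊓
    Subgroup.centralizer (pCore p (G ⧸ pPrimeCore p G) : Set (G ⧸ pPrimeCore p G)) with hA₀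
  have hcn : (Subgroup.centralizer
      (pCore p (G ⧸ pPrimeCore p G) : Set (G ⧸ pPrimeCore p G))).Normal :=
    Subgroup.normal_centralizer
  have hA₀n : A₀.Normal := Subgroup.normal_inf_normal _ _
  have hA₀c : ∀ x y : ↥A₀, x * y = y * x := by
    intro x y
    apply Subtype.ext
    have h1 := Subgroup.mem_centralizer_iff.mp (Subgroup.mem_inf.mp x.2).2 (y : G ⧸ pPrimeCore p G)
      (Subgroup.mem_inf.mp y.2).1
    simpa using h1.symm
  have hcentS : ∀ z ∈ (S : Subgroup G) ⊓ Subgroup.centralizer ((S : Subgroup G) : Set G),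
      ∀ s ∈ (S : Subgroup G), s * z = z * s :=
    fun z hz s hs => Subgroup.mem_centralizer_iff.mp (Subgroup.mem_inf.mp hz).2 s hs
  have hZA : ∀ z ∈ (S : Subgroup G) ⊓ Subgroup.centralizer ((S : Subgroup G) : Set G),
      QuotientGroup.mk' (pPrimeCore p G) z ∈ A₀ := by
    intro z hz
    refine Subgroup.mem_inf.mpr ⟨hZP' z hz, ?_⟩
    rw [Subgroup.mem_centralizer_iff]
    intro y hy
    obtain ⟨s, hs, rfl⟩ := hP'S' hy
    rw [← map_mul, ← map_mul, hcentS z hz s hs]
  -- the norm map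
  obtain ⟨N, hN1, hN2⟩ := exists_norm_hom hA₀c
    (MulAut.conjNormal : (G ⧸ pPrimeCore p G) →* MulAut ↥A₀)
    ((S : Subgroup G).map (QuotientGroup.mk' (pPrimeCore p G)))
  have hρ : ∀ (g : G ⧸ pPrimeCore p G) (a : ↥A₀),
      (((MulAut.conjNormal g : MulAut ↥A₀) a : ↥A₀) : G ⧸ pPrimeCore p G) = g * a * g⁻¹ :=
    MulAut.conjNormal_apply
  have hidx : ¬ p ∣ ((S : Subgroup G).map (QuotientGroup.mk' (pPrimeCore p G))).index := by
    rw [← hS'coe]; exact S'.not_dvd_index
  set n := ((S : Subgroup G).map (QuotientGroup.mk' (pPrimeCore p G))).index with hn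
  have hncop : n.Coprime p := ((Nat.Prime.coprime_iff_not_dvd hp).mpr hidx).symm
  -- `p`-power torsion in `S`
  have hSpow : ∀ s ∈ (S : Subgroup G), ∃ k : ℕ, s ^ (p ^ k) = 1 := by
    intro s hs
    obtain ⟨k, hk⟩ := S.isPGroup' ⟨s, hs⟩
    exact ⟨k, by simpa using congrArg Subtype.val hk⟩
  -- the subgroups `W` and `K₁`
  set Z : Subgroup G := (S : Subgroup G) ⊓ Subgroup.centralizer ((S : Subgroup G) : Set G) with hZdef
  set W : Subgroup G := Z ⊓ (Subgroup.center (G ⧸ pPrimeCore p G)).comap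
    (QuotientGroup.mk' (pPrimeCore p G)) with hW
  set K₁ : Subgroup G := Z ⊓ ((N.ker).map A₀.subtype).comap
    (QuotientGroup.mk' (pPrimeCore p G)) with hK₁
  have hK₁mem : ∀ x (hx : x ∈ Z), x ∈ K₁ ↔
      N ⟨QuotientGroup.mk' (pPrimeCore p G) x, hZA x hx⟩ = 1 := by
    intro x hx
    constructor
    · intro hxK
      obtain ⟨a, ha, hax⟩ := Subgroup.mem_comap.mp (Subgroup.mem_inf.mp hxK).2
      have : a = ⟨QuotientGroup.mk' (pPrimeCore p G) x, hZA x hx⟩ := Subtype.ext hax
      rw [← this]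
      exact ha
    · intro h
      exact Subgroup.mem_inf.mpr ⟨hx, Subgroup.mem_comap.mpr
        ⟨⟨QuotientGroup.mk' (pPrimeCore p G) x, hZA x hx⟩, h, rfl⟩⟩
  -- fixed points
  have hfixS : ∀ z (hz : z ∈ Z), ∀ h ∈ (S : Subgroup G).map (QuotientGroup.mk' (pPrimeCore p G)),
      (MulAut.conjNormal h : MulAut ↥A₀) ⟨QuotientGroup.mk' (pPrimeCore p G) z, hZA z hz⟩ =
        ⟨QuotientGroup.mk' (pPrimeCore p G) z, hZA z hz⟩ := by
    rintro z hz _ ⟨s, hs, rfl⟩
    apply Subtype.ext
    rw [hρ]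
    show QuotientGroup.mk' (pPrimeCore p G) s * QuotientGroup.mk' (pPrimeCore p G) z *
      (QuotientGroup.mk' (pPrimeCore p G) s)⁻¹ = QuotientGroup.mk' (pPrimeCore p G) z
    rw [← map_mul, hcentS z hz s hs, map_mul]
    group
  have hfixG : ∀ w (hw : w ∈ W), ∀ g : G ⧸ pPrimeCore p G,
      (MulAut.conjNormal g : MulAut ↥A₀)
        ⟨QuotientGroup.mk' (pPrimeCore p G) w, hZA w (Subgroup.mem_inf.mp hw).1⟩ =
        ⟨QuotientGroup.mk' (pPrimeCore p G) w, hZA w (Subgroup.mem_inf.mp hw).1⟩ := by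
    intro w hw g
    apply Subtype.ext
    rw [hρ]
    show g * QuotientGroup.mk' (pPrimeCore p G) w * g⁻¹ = QuotientGroup.mk' (pPrimeCore p G) w
    have hc : QuotientGroup.mk' (pPrimeCore p G) w ∈ Subgroup.center (G ⧸ pPrimeCore p G) :=
      Subgroup.mem_comap.mp (Subgroup.mem_inf.mp hw).2
    rw [Subgroup.mem_center_iff] at hc
    rw [hc g]
    group
  refine ⟨W, K₁, ?_, inf_le_left, ?_, ?_⟩
  · -- characterization of `W`
    intro x
    constructor
    · intro hxW
      obtain ⟨hxZ, hxc⟩ := Subgroup.mem_inf.mp hxW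
      have hxS : x ∈ (S : Subgroup G) := (Subgroup.mem_inf.mp hxZ).1
      refine ⟨hxS, fun g hg => ?_⟩
      apply hinj _ hg _ hxS
      have hc : QuotientGroup.mk' (pPrimeCore p G) x ∈ Subgroup.center (G ⧸ pPrimeCore p G) :=
        Subgroup.mem_comap.mp hxc
      rw [Subgroup.mem_center_iff] at hc
      rw [map_mul, map_mul, map_inv, hc (QuotientGroup.mk' (pPrimeCore p G) g)]
      group
    · rintro ⟨hxS, hxw⟩
      have hxZ : x ∈ Z := by
        refine Subgroup.mem_inf.mpr ⟨hxS, ?_⟩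
        rw [Subgroup.mem_centralizer_iff]
        intro s hs
        have h1 := hxw s (mul_mem (mul_mem hs hxS) (inv_mem hs))
        calc s * x = (s * x * s⁻¹) * s := by group
          _ = x * s := by rw [h1]
      refine Subgroup.mem_inf.mpr ⟨hxZ, ?_⟩
      rw [Subgroup.mem_comap, Subgroup.mem_center_iff]
      intro g'
      obtain ⟨g, rfl⟩ := hsurj g'
      -- `y = g x g⁻¹` is a `p`-element of `S K`
      set y := g * x * g⁻¹ with hy
      have hyP : QuotientGroup.mk' (pPrimeCore p G) y ∈ pCore p (G ⧸ pPrimeCore p G) := by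
        have hn : (pCore p (G ⧸ pPrimeCore p G)).Normal := inferInstance
        have := hn.conj_mem _ (hZP' x hxZ) (QuotientGroup.mk' (pPrimeCore p G) g)
        rw [hy, map_mul, map_mul, map_inv]
        exact this
      obtain ⟨s, hs, hsy⟩ := hP'S' hyP
      have hySK : y ∈ (S : Subgroup G) ⊔ pPrimeCore p G := by
        have h1 : s⁻¹ * y ∈ pPrimeCore p G := QuotientGroup.eq.mp hsy
        have : y = s * (s⁻¹ * y) := by group
        rw [this]
        exact Subgroup.mul_mem_sup hs h1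
      have hyp : IsPGroup p (Subgroup.zpowers y) := by
        obtain ⟨k, hk⟩ := hSpow x hxS
        have hyk : y ^ (p ^ k) = 1 := by
          rw [hy, conj_pow, hk]; group
        apply IsPGroup.of_card_dvd_pow (n := k)
        rw [Nat.card_zpowers]
        exact orderOf_dvd_of_pow_eq_one hyk
      have hsyl := sylIn_sup_of_coprime (N := pPrimeCore p G) S.isPGroup' hKcop
      obtain ⟨h, hh, hle⟩ := hsyl.exists_cj_le (Q := Subgroup.zpowers y)
        (by rw [Subgroup.zpowers_le]; exact hySK) hyp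
      have hhy : h * y * h⁻¹ ∈ (S : Subgroup G) :=
        hle (Cfsg.Agent.Lib.Helper33.conj_mem_cj (Subgroup.mem_zpowers y))
      have h1 : (h * g) * x * (h * g)⁻¹ = x := by
        apply hxw
        have : (h * g) * x * (h * g)⁻¹ = h * y * h⁻¹ := by rw [hy]; group
        rw [this]; exact hhy
      have h2 : y = h⁻¹ * x * h := by
        have : (h * g) * x * (h * g)⁻¹ = h * y * h⁻¹ := by rw [hy]; group
        rw [this] at h1
        rw [← h1]; group
      -- `mk h ∈ mk S`
      have hmkh : QuotientGroup.mk' (pPrimeCore p G) h ∈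
          (S : Subgroup G).map (QuotientGroup.mk' (pPrimeCore p G)) := by
        have := Subgroup.mem_map_of_mem (QuotientGroup.mk' (pPrimeCore p G)) hh
        rwa [Subgroup.map_sup, QuotientGroup.map_mk'_self, sup_bot_eq] at this
      obtain ⟨s₁, hs₁, hs₁h⟩ := hmkh
      have h3 : QuotientGroup.mk' (pPrimeCore p G) y = QuotientGroup.mk' (pPrimeCore p G) x := by
        rw [h2, map_mul, map_mul, map_inv, ← hs₁h, ← map_inv, ← map_mul, ← map_mul]
        congr 1
        have := hcentS x hxZ s₁ hs₁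
        calc s₁⁻¹ * x * s₁ = s₁⁻¹ * (x * s₁) := by group
          _ = s₁⁻¹ * (s₁ * x) := by rw [this]
          _ = x := by group
      have h4 : QuotientGroup.mk' (pPrimeCore p G) g * QuotientGroup.mk' (pPrimeCore p G) x *
          (QuotientGroup.mk' (pPrimeCore p G) g)⁻¹ = QuotientGroup.mk' (pPrimeCore p G) x := by
        have h5 : QuotientGroup.mk' (pPrimeCore p G) g * QuotientGroup.mk' (pPrimeCore p G) x *
            (QuotientGroup.mk' (pPrimeCore p G) g)⁻¹ = QuotientGroup.mk' (pPrimeCore p G) y := by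
          rw [hy, map_mul, map_mul, map_inv]
        rw [h5, h3]
      calc QuotientGroup.mk' (pPrimeCore p G) g * QuotientGroup.mk' (pPrimeCore p G) x
          = (QuotientGroup.mk' (pPrimeCore p G) g * QuotientGroup.mk' (pPrimeCore p G) x *
              (QuotientGroup.mk' (pPrimeCore p G) g)⁻¹) *
              QuotientGroup.mk' (pPrimeCore p G) g := by group
        _ = QuotientGroup.mk' (pPrimeCore p G) x * QuotientGroup.mk' (pPrimeCore p G) g := by
            rw [h4]
  · -- `W ⊓ K₁ = ⊥`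
    rw [eq_bot_iff]
    intro x hxWK
    obtain ⟨hxW, hxK⟩ := Subgroup.mem_inf.mp hxWK
    rw [Subgroup.mem_bot]
    have hxZ : x ∈ Z := (Subgroup.mem_inf.mp hxW).1
    have hxS : x ∈ (S : Subgroup G) := (Subgroup.mem_inf.mp hxZ).1
    have h1 := (hK₁mem x hxZ).mp hxK
    have h2 := hN2 _ (hfixG x hxW)
    rw [h1] at h2
    -- `a ^ n = 1` and `a ^ (p ^ k) = 1`
    obtain ⟨k, hk⟩ := hSpow x hxS
    have h3 : (QuotientGroup.mk' (pPrimeCore p G) x) ^ n = 1 := by
      have := congrArg Subtype.val h2.symm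
      simpa using this
    have h4 : (QuotientGroup.mk' (pPrimeCore p G) x) ^ (p ^ k) = 1 := by
      rw [← map_pow, hk, map_one]
    have h5 : orderOf (QuotientGroup.mk' (pPrimeCore p G) x) ∣ Nat.gcd n (p ^ k) :=
      Nat.dvd_gcd (orderOf_dvd_of_pow_eq_one h3) (orderOf_dvd_of_pow_eq_one h4)
    have h6 : Nat.gcd n (p ^ k) = 1 := Nat.Coprime.pow_right k hncop
    rw [h6, Nat.dvd_one, orderOf_eq_one_iff] at h5
    have h7 : x ∈ (S : Subgroup G) ⊓ pPrimeCore p G :=
      Subgroup.mem_inf.mpr ⟨hxS, (QuotientGroup.eq_one_iff x).mp h5⟩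
    rw [hSK, Subgroup.mem_bot] at h7
    exact h7
  · -- `W ⊔ K₁ = Z`
    apply le_antisymm (sup_le inf_le_left inf_le_left)
    intro z hz
    set a : ↥A₀ := ⟨QuotientGroup.mk' (pPrimeCore p G) z, hZA z hz⟩ with ha
    have hb := hN1 a (hfixS z hz)
    -- `N a = mk s` with `s ∈ S`
    obtain ⟨s, hs, hsb⟩ := hP'S' (Subgroup.mem_inf.mp (N a).2).1
    have hsZ : s ∈ Z := by
      refine Subgroup.mem_inf.mpr ⟨hs, ?_⟩
      rw [Subgroup.mem_centralizer_iff]
      intro t ht
      have h1 : t * s * t⁻¹ = s := by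
        apply hinj _ (mul_mem (mul_mem ht hs) (inv_mem ht)) _ hs
        rw [map_mul, map_mul, map_inv, hsb]
        have := congrArg Subtype.val (hb (QuotientGroup.mk' (pPrimeCore p G) t))
        rw [hρ] at this
        exact this
      calc t * s = (t * s * t⁻¹) * t := by group
        _ = s * t := by rw [h1]
    have hsW : s ∈ W := by
      refine Subgroup.mem_inf.mpr ⟨hsZ, ?_⟩
      rw [Subgroup.mem_comap, Subgroup.mem_center_iff]
      intro g
      have := congrArg Subtype.val (hb g)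
      rw [hρ] at this
      show g * QuotientGroup.mk' (pPrimeCore p G) s = QuotientGroup.mk' (pPrimeCore p G) s * g
      rw [hsb]
      calc g * ((N a : ↥A₀) : G ⧸ pPrimeCore p G)
          = (g * ((N a : ↥A₀) : G ⧸ pPrimeCore p G) * g⁻¹) * g := by group
        _ = ((N a : ↥A₀) : G ⧸ pPrimeCore p G) * g := by rw [this]
    -- an `n`-th root of `s` in `W`
    obtain ⟨k, hk⟩ := hSpow s hs
    have hos : n.Coprime (orderOf s) := by
      have h1 : orderOf s ∣ p ^ k := orderOf_dvd_of_pow_eq_one hk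
      exact Nat.Coprime.coprime_dvd_right h1 (Nat.Coprime.pow_right k hncop)
    obtain ⟨m, hm⟩ := exists_pow_eq_self_of_coprime hos
    set w := s ^ m with hw
    have hwW : w ∈ W := pow_mem hsW m
    have hwn : w ^ n = s := by
      rw [hw, ← pow_mul, mul_comm, pow_mul]; exact hm
    -- `k₁ = z w⁻¹ ∈ K₁`
    have hwZ : w ∈ Z := (Subgroup.mem_inf.mp hwW).1
    have hwS : w ∈ (S : Subgroup G) := (Subgroup.mem_inf.mp hwZ).1
    have hk₁Z : z * w⁻¹ ∈ Z := mul_mem hz (inv_mem hwZ)
    have hk₁ : z * w⁻¹ ∈ K₁ := by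
      rw [hK₁mem _ hk₁Z]
      have e1 : (⟨QuotientGroup.mk' (pPrimeCore p G) (z * w⁻¹), hZA _ hk₁Z⟩ : ↥A₀) =
          a * (⟨QuotientGroup.mk' (pPrimeCore p G) w, hZA w hwZ⟩ : ↥A₀)⁻¹ := by
        apply Subtype.ext
        simp [ha]
      rw [e1, map_mul, map_inv, hN2 _ (hfixG w hwW)]
      have e2 : (⟨QuotientGroup.mk' (pPrimeCore p G) w, hZA w hwZ⟩ : ↥A₀) ^ n = N a := by
        apply Subtype.ext
        rw [Subgroup.coe_pow]
        show (QuotientGroup.mk' (pPrimeCore p G) w) ^ n = _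
        rw [← map_pow, hwn, hsb]
      rw [e2, mul_inv_cancel]
    have : z = w * (z * w⁻¹) := by
      have hcomm : w * z = z * w := (hcentS z hz w hwS)
      calc z = z * w * w⁻¹ := by group
        _ = w * z * w⁻¹ := by rw [hcomm]
        _ = w * (z * w⁻¹) := by group
    rw [this]
    exact Subgroup.mul_mem_sup hwW hk₁

end Cfsg.Agent.S1944
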