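import Cfsg.Statements.S1946
import Cfsg.Agent.Lib.Helper29.OmegaTwo
import Cfsg.Agent.Lib.Helper71.FrobeniusPCompl
-- import your own Cfsg.Agent.* helpers here

set_option autoImplicit false
open Cfsg

namespace Cfsg.Agent.S1946

open scoped commutatorElement

/-- The iterated commutators `[U, Y, …, Y]`. -/
def ser {G : Type*} [Group G] (U Y : Subgroup G) : ℕ → Subgroup G
  | 0 => U
  | k + 1 => ⁅ser U Y k, Y⁆

theorem ser_normalized {G : Type*} [Group G] (U Y : Subgroup G)
    (hY : Y ≤ Subgroup.normalizer (U : Set G)) (k : ℕ) :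
    Y ≤ Subgroup.normalizer ((ser U Y k : Subgroup G) : Set G) := by
  cases k with
  | zero => exact hY
  | succ k => exact Subgroup.normalizer_commutator_ge_right _ _

theorem ser_le {G : Type*} [Group G] (U Y : Subgroup G)
    (hY : Y ≤ Subgroup.normalizer (U : Set G)) (k : ℕ) : ser U Y k ≤ U := by
  induction k with
  | zero => exact le_rfl
  | succ k ih =>
    have h1 : ser U Y (k + 1) ≤ ser U Y k :=
      Subgroup.le_normalizer_iff_commutator_le_left.mp (ser_normalized U Y hY k)
    exact h1.trans ih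

/-- Main lemma: if `P` controls the fusion of its elements of small order, then a `p'`-element
normalizing a subgroup `U ≤ P` of small exponent centralizes it. -/
theorem centralizes_of_fusion {G : Type*} [Group G] [Finite G] {p : ℕ} [Fact p.Prime]
    (P : Sylow p G)
    (hfus : ∀ a ∈ (P : Subgroup G), (a ^ p = 1 ∨ (p = 2 ∧ a ^ 4 = 1)) → ∀ g : G,
      g * a * g⁻¹ ∈ (P : Subgroup G) → ∃ x ∈ (P : Subgroup G), g * a * g⁻¹ = x * a * x⁻¹)
    (U : Subgroup G) (hUP : U ≤ (P : Subgroup G))
    (hexp : ∀ u ∈ U, u ^ p = 1 ∨ (p = 2 ∧ u ^ 4 = 1))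
    (y : G) (hy : y ∈ Subgroup.normalizer (U : Set G)) (hcop : (orderOf y).Coprime p) :
    ∀ x ∈ U, y * x = x * y := by
  set Y : Subgroup G := Subgroup.zpowers y with hYdef
  have hY : Y ≤ Subgroup.normalizer (U : Set G) := Subgroup.zpowers_le.mpr hy
  -- the iterated commutators descend the lower central series of `P`
  have hdesc : ∀ k, ser U Y k ≤ (P : Subgroup G).lowerCentralSeries k := by
    intro k
    induction k with
    | zero => exact hUP
    | succ k ih =>
      show ⁅ser U Y k, Y⁆ ≤ ⁅(P : Subgroup G).lowerCentralSeries k, (P : Subgroup G)⁆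
      rw [Subgroup.commutator_le]
      intro v hv q hq
      have hvU : v ∈ U := ser_le U Y hY k hv
      have hvinvU : v⁻¹ ∈ U := U.inv_mem hvU
      have hq' : q * v⁻¹ * q⁻¹ ∈ U := (Subgroup.mem_normalizer_iff.mp (hY hq) v⁻¹).mp hvinvU
      obtain ⟨x, hx, hxe⟩ := hfus v⁻¹ (hUP hvinvU) (hexp _ hvinvU) q (hUP hq')
      have : ⁅v, q⁆ = ⁅v, x⁆ := by
        rw [commutatorElement_def, commutatorElement_def]
        calc v * q * v⁻¹ * q⁻¹ = v * (q * v⁻¹ * q⁻¹) := by group
          _ = v * (x * v⁻¹ * x⁻¹) := by rw [hxe]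
          _ = v * x * v⁻¹ * x⁻¹ := by group
      rw [this]
      exact Subgroup.commutator_mem_commutator (ih hv) hx
  have hnil : Group.IsNilpotent (P : Subgroup G) := P.isPGroup'.isNilpotent
  obtain ⟨n, hn⟩ := (Subgroup.isNilpotent_iff_lowerCentralSeries (P : Subgroup G)).mp hnil
  -- downward induction
  have hdown : ∀ j k, j + k = n → ∀ x ∈ ser U Y k, y * x = x * y := by
    intro j
    induction j with
    | zero =>
      intro k hk x hx
      have hk' : k = n := by omega
      subst hk'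
      have := hdesc k hx
      rw [hn, Subgroup.mem_bot] at this
      subst this; simp
    | succ j ih =>
      intro k hk
      have h1 := ih (k + 1) (by omega)
      have hpk : IsPGroup p (ser U Y k) := P.isPGroup'.to_le ((ser_le U Y hY k).trans hUP)
      exact Cfsg.Agent.Lib.Helper24.centralizes_of_centralizes_comm p y hcop (ser U Y k) hpk
        (ser_normalized U Y hY k (Subgroup.mem_zpowers y)) h1
  exact hdown n 0 (by omega)

theorem backward {G : Type*} [Group G] [Finite G] {p : ℕ} [Fact p.Prime] (P : Sylow p G)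
    (hfus : ∀ a ∈ (P : Subgroup G), (a ^ p = 1 ∨ (p = 2 ∧ a ^ 4 = 1)) → ∀ g : G,
      g * a * g⁻¹ ∈ (P : Subgroup G) → ∃ x ∈ (P : Subgroup G), g * a * g⁻¹ = x * a * x⁻¹) :
    Cfsg.HasNormalPComplement p G := by
  apply Cfsg.Agent.Lib.Helper71.hasNormalPComplement_of_forall_coprime_centralize p
  intro H hH g hg hcop
  by_contra hnc
  have hnc' : ¬ ∀ x ∈ H, g * x = x * g := by
    intro h
    apply hnc
    rw [Subgroup.mem_centralizer_iff]
    intro x hx
    exact (h x hx).symm
  obtain ⟨U, hUH, hgU, hexp, hncU⟩ :=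
    Cfsg.Agent.Lib.Helper29.exists_small_exponent_not_centralized p g hcop H hH hg hnc'
  -- conjugate `U` into `P`
  have hUp : IsPGroup p U := hH.to_le hUH
  obtain ⟨c, hc⟩ : ∃ c : G, ∀ u ∈ U, c * u * c⁻¹ ∈ (P : Subgroup G) := by
    obtain ⟨Q, hQ⟩ := hUp.exists_le_sylow
    obtain ⟨c, hc⟩ := MulAction.exists_smul_eq G Q P
    refine ⟨c, fun u hu => ?_⟩
    have : c * u * c⁻¹ ∈ ((c • Q : Sylow p G) : Subgroup G) := by
      rw [Sylow.coe_subgroup_smul]
      exact ⟨u, hQ hu, rfl⟩
    rw [hc] at this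
    exact this
  -- the conjugated data
  set U' : Subgroup G := U.map (MulAut.conj c).toMonoidHom with hU'
  have hmemU' : ∀ z, z ∈ U' ↔ c⁻¹ * z * c ∈ U := by
    intro z
    constructor
    · rintro ⟨u, hu, rfl⟩
      have : c⁻¹ * (MulAut.conj c).toMonoidHom u * c = u := by
        simp only [MulEquiv.coe_toMonoidHom, MulAut.conj_apply]; group
      rw [this]; exact hu
    · intro hz
      refine ⟨c⁻¹ * z * c, hz, ?_⟩
      simp only [MulEquiv.coe_toMonoidHom, MulAut.conj_apply]; group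
  have hU'P : U' ≤ (P : Subgroup G) := by
    rintro _ ⟨u, hu, rfl⟩
    exact hc u hu
  have hexp' : ∀ u ∈ U', u ^ p = 1 ∨ (p = 2 ∧ u ^ 4 = 1) := by
    rintro _ ⟨u, hu, rfl⟩
    simp only [MulEquiv.coe_toMonoidHom, MulAut.conj_apply, conj_pow]
    rcases hexp u hu with h | ⟨h2, h⟩
    · left; rw [h]; group
    · right; exact ⟨h2, by rw [h]; group⟩
  have hg' : c * g * c⁻¹ ∈ Subgroup.normalizer (U' : Set G) := by
    rw [Subgroup.mem_normalizer_iff]
    intro z
    rw [hmemU', hmemU']
    have h1 := Subgroup.mem_normalizer_iff.mp hgU (c⁻¹ * z * c)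
    rw [h1]
    have : c⁻¹ * (c * g * c⁻¹ * z * (c * g * c⁻¹)⁻¹) * c = g * (c⁻¹ * z * c) * g⁻¹ := by group
    rw [this]
  have hcop' : (orderOf (c * g * c⁻¹)).Coprime p := by
    have : c * g * c⁻¹ = MulAut.conj c g := by simp
    rw [this, MulEquiv.orderOf_eq]
    exact hcop
  have hcen := centralizes_of_fusion P hfus U' hU'P hexp' (c * g * c⁻¹) hg' hcop'
  apply hncU
  intro x hx
  have hx' : c * x * c⁻¹ ∈ U' := by
    rw [hmemU']
    have : c⁻¹ * (c * x * c⁻¹) * c = x := by group
    rw [this]; exact hx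
  have := hcen _ hx'
  have h2 : c⁻¹ * (c * g * c⁻¹ * (c * x * c⁻¹)) * c = g * x := by group
  have h3 : c⁻¹ * (c * x * c⁻¹ * (c * g * c⁻¹)) * c = x * g := by group
  rw [← h2, ← h3, this]

theorem forward {G : Type*} [Group G] [Finite G] {p : ℕ} [Fact p.Prime] (P : Sylow p G)
    (h : Cfsg.HasNormalPComplement p G) :
    ∀ a ∈ (P : Subgroup G), ∀ g : G, g * a * g⁻¹ ∈ (P : Subgroup G) →
      ∃ x ∈ (P : Subgroup G), g * a * g⁻¹ = x * a * x⁻¹ := by
  obtain ⟨P₀, N, hN, hc⟩ := h
  have hcop : (Nat.card N).Coprime p := by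
    have h1 := hc.card_mul_card
    have h2 : Nat.card N = (P₀ : Subgroup G).index := by
      have h3 := (P₀ : Subgroup G).card_mul_index
      have hpos : 0 < Nat.card (P₀ : Subgroup G) := Nat.card_pos
      have : Nat.card N * Nat.card (P₀ : Subgroup G) =
          (P₀ : Subgroup G).index * Nat.card (P₀ : Subgroup G) := by
        rw [h1, mul_comm, h3]
      exact Nat.eq_of_mul_eq_mul_right hpos this
    rw [h2]
    exact ((Nat.Prime.coprime_iff_not_dvd Fact.out).mpr P₀.not_dvd_index).symm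
  have hdisj : ∀ z, z ∈ N → z ∈ (P : Subgroup G) → z = 1 := by
    intro z hzN hzP
    have h1 : orderOf z ∣ Nat.card N := by
      have := orderOf_dvd_natCard (⟨z, hzN⟩ : N)
      rwa [Subgroup.orderOf_mk] at this
    obtain ⟨k, hk⟩ := (IsPGroup.iff_orderOf.mp P.isPGroup') ⟨z, hzP⟩
    rw [Subgroup.orderOf_mk] at hk
    have h2 : (orderOf z).Coprime (orderOf z) := by
      have := Nat.Coprime.coprime_dvd_left h1 (Nat.Coprime.pow_right k hcop)
      rw [← hk] at this
      exact this
    rw [Nat.coprime_self] at h2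
    exact orderOf_eq_one_iff.mp h2
  -- `G = P N`
  have hPN : ∀ g : G, ∃ x ∈ (P : Subgroup G), ∃ k ∈ N, g = x * k := by
    have hcard : Nat.card (P : Subgroup G) = Nat.card (P₀ : Subgroup G) := by
      rw [Sylow.card_eq_multiplicity, Sylow.card_eq_multiplicity]
    have hcompl : Subgroup.IsComplement' (P : Subgroup G) N := by
      apply Subgroup.isComplement'_of_card_mul_and_disjoint
      · rw [hcard, mul_comm]; exact hc.card_mul_card
      · rw [Subgroup.disjoint_def]
        intro z hzP hzN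
        exact hdisj z hzN hzP
    intro g
    obtain ⟨⟨⟨x, hx⟩, ⟨k, hk⟩⟩, hxk, -⟩ := hcompl.existsUnique g
    exact ⟨x, hx, k, hk, hxk.symm⟩
  intro a ha g hga
  obtain ⟨x, hx, k, hk, rfl⟩ := hPN g
  refine ⟨x, hx, ?_⟩
  have h1 : k * a * k⁻¹ ∈ (P : Subgroup G) := by
    have : k * a * k⁻¹ = x⁻¹ * (x * k * a * (x * k)⁻¹) * x := by group
    rw [this]
    exact Subgroup.mul_mem _ (Subgroup.mul_mem _ (Subgroup.inv_mem _ hx) hga) hx
  have h2 : k * a * k⁻¹ * a⁻¹ ∈ N := by
    have : k * a * k⁻¹ * a⁻¹ = k * (a * k⁻¹ * a⁻¹) := by group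
    rw [this]
    exact N.mul_mem hk (hN.conj_mem _ (N.inv_mem hk) a)
  have h3 : k * a * k⁻¹ * a⁻¹ = 1 :=
    hdisj _ h2 (Subgroup.mul_mem _ h1 (Subgroup.inv_mem _ ha))
  have h4 : k * a * k⁻¹ = a := by
    have := congrArg (· * a) h3
    simpa using this
  calc x * k * a * (x * k)⁻¹ = x * (k * a * k⁻¹) * x⁻¹ := by group
    _ = x * a * x⁻¹ := by rw [h4]

/-- Let P be a Sylow p-subgroup of the finite group G. Then G has a normal p-complement if and only if P controls the fusion of its elements of order dividing p (dividing 4 when p = 2): whenever such an element a of P has a G-conjugate g a g⁻¹ in P, that conjugate is already x a x⁻¹ for some x in P. -/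
theorem result {G : Type*} [Group G] [Finite G] {p : ℕ} [Fact p.Prime] (P : Sylow p G) :
    Cfsg.HasNormalPComplement p G ↔
      ∀ a ∈ (P : Subgroup G), (a ^ p = 1 ∨ (p = 2 ∧ a ^ 4 = 1)) → ∀ g : G, g * a * g⁻¹ ∈ (P : Subgroup G) →
        ∃ x ∈ (P : Subgroup G), g * a * g⁻¹ = x * a * x⁻¹ := by
  constructor
  · intro h a ha _ g hga
    exact forward P h a ha g hga
  · exact backward P

end Cfsg.Agent.S1946
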