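import Cfsg.Statements.S1947
import Cfsg.Agent.S0071
import Cfsg.Agent.Lib.Helper52.OmegaTwo
-- import your own Cfsg.Agent.* helpers here

set_option autoImplicit false
open Cfsg

namespace Cfsg.Agent.S1947

open scoped commutatorElement in
/-- A `p'`-element normalizing a `p`-subgroup `Q` commutes with the elements of `Q` lying in the
upper central series of `G`. -/
theorem comm_of_mem_upperCentralSeries {G : Type*} [Group G] {p : ℕ} [Fact p.Prime] (a : G)
    (hcop : (orderOf a).Coprime p) (Q : Subgroup G) (hQ : IsPGroup p Q)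
    (ha : a ∈ Subgroup.normalizer (Q : Set G)) :
    ∀ k : ℕ, ∀ x ∈ Q, x ∈ Subgroup.upperCentralSeries G k → a * x = x * a := by
  intro k
  induction k with
  | zero =>
    intro x _ hx
    rw [Subgroup.upperCentralSeries_zero, Subgroup.mem_bot] at hx
    subst hx; simp
  | succ k ih =>
    intro x hxQ hx
    apply Cfsg.Agent.Lib.Helper24.commute_of_comm_commute_pgroup p a hcop Q hQ ha x hxQ
    have hwQ : x⁻¹ * (a * x * a⁻¹) ∈ Q :=
      Q.mul_mem (Q.inv_mem hxQ) ((Subgroup.mem_normalizer_iff.mp ha x).mp hxQ)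
    have hxinv : x⁻¹ ∈ Subgroup.upperCentralSeries G (k + 1) := Subgroup.inv_mem _ hx
    have hw : x⁻¹ * (a * x * a⁻¹) ∈ Subgroup.upperCentralSeries G k := by
      have := (Subgroup.mem_upperCentralSeries_succ_iff.mp hxinv) a
      have e : ⁅x⁻¹, a⁆ = x⁻¹ * (a * x * a⁻¹) := by
        rw [commutatorElement_def]; group
      rwa [e] at this
    exact ih _ hwQ hw

/-- Let G be a finite group and p a prime. If every element of G of order dividing p (dividing 4 when p = 2) lies in some fixed term Z_n(G) of the upper central series, then G has a normal p-complement. -/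
theorem result {G : Type*} [Group G] [Finite G] {p : ℕ} [Fact p.Prime] (n : ℕ)
    (h : ∀ a : G, (a ^ p = 1 ∨ (p = 2 ∧ a ^ 4 = 1)) → a ∈ Subgroup.upperCentralSeries G n) : Cfsg.HasNormalPComplement p G := by
  obtain ⟨P⟩ : Nonempty (Sylow p G) := inferInstance
  obtain ⟨N, hNn, hNc⟩ := (Cfsg.Agent.S0071.result P).mpr (by
    intro Q hQP g hg hcop
    have hQ : IsPGroup p Q := P.isPGroup'.to_le hQP
    rw [Subgroup.mem_centralizer_iff]
    intro x hx
    have := Cfsg.Agent.Lib.Helper52.centralizes_of_centralizes_omega_all p g hcop Q hQ hg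
      (fun y hy hyp => comm_of_mem_upperCentralSeries g hcop Q hQ hg n y hy (h y hyp)) x hx
    exact this.symm)
  exact ⟨P, N, hNn, hNc⟩

end Cfsg.Agent.S1947
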