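import Cfsg.Statements.S1948
import Cfsg.Agent.Lib.Helper54.PCores
import Cfsg.Agent.Lib.Helper25.PLength2
import Cfsg.Agent.Lib.Helper47.SylowLemmas

set_option autoImplicit false
open Cfsg

namespace Cfsg.Agent.S1948

open scoped commutatorElement

theorem forward_constrained {G : Type*} [Group G] [Finite G] {p : ℕ} [Fact p.Prime] (S : Sylow p G)
    (htop : Subgroup.normalizer ((S : Subgroup G) : Set G) ⊔ Cfsg.pPrimeCore p G = ⊤) :
    Cfsg.IsPConstrained p G := by
  rw [Cfsg.Agent.Lib.Helper54.isPConstrained_iff_centralizer_pCore_le]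
  have hsurj := QuotientGroup.mk'_surjective (Cfsg.pPrimeCore p G)
  apply Cfsg.Agent.Lib.Helper76.centralizer_pCore_le p
  · apply Cfsg.Agent.Lib.Helper25.isPSolvable_of_normal_sylow p (S.mapSurjective hsurj)
    rw [Sylow.coe_mapSurjective]
    refine ⟨?_⟩
    rintro _ ⟨s, hs, rfl⟩ gbar
    obtain ⟨g, rfl⟩ := hsurj gbar
    have hg : g ∈ Subgroup.normalizer ((S : Subgroup G) : Set G) ⊔ Cfsg.pPrimeCore p G := by
      rw [htop]; trivial
    rw [← SetLike.mem_coe, Subgroup.mul_normal] at hg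
    obtain ⟨a, ha, k, hk, rfl⟩ := hg
    have hk1 : QuotientGroup.mk' (Cfsg.pPrimeCore p G) k = 1 := by
      rw [QuotientGroup.mk'_apply, QuotientGroup.eq_one_iff]; exact hk
    refine ⟨a * s * a⁻¹, (Subgroup.mem_normalizer_iff.mp ha s).mp hs, ?_⟩
    simp only [map_mul, map_inv, hk1, mul_one]
  · intro N hN hcop
    exact Cfsg.Agent.Lib.Helper76.quotient_pPrimeCore_core_trivial p N hN hcop

theorem forward_fusion {G : Type*} [Group G] [Finite G] {p : ℕ} [Fact p.Prime] (S : Sylow p G)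
    (htop : Subgroup.normalizer ((S : Subgroup G) : Set G) ⊔ Cfsg.pPrimeCore p G = ⊤)
    (Q : Subgroup G) (hQ : Q ≤ (S : Subgroup G)) (g : G)
    (hg : Q.map (MulAut.conj g).toMonoidHom ≤ (S : Subgroup G)) :
    ∃ n ∈ Subgroup.normalizer ((S : Subgroup G) : Set G),
      ∃ c ∈ Subgroup.centralizer (Q : Set G), g = n * c := by
  have hg' : g ∈ Subgroup.normalizer ((S : Subgroup G) : Set G) ⊔ Cfsg.pPrimeCore p G := by
    rw [htop]; trivial
  rw [← SetLike.mem_coe, Subgroup.mul_normal] at hg'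
  obtain ⟨a, ha, k, hk, hak⟩ := hg'
  have hak' : g = a * k := hak.symm
  subst hak'
  refine ⟨a, ha, k, ?_, rfl⟩
  rw [Subgroup.mem_centralizer_iff]
  intro x hx
  have h1 : a * k * x * (a * k)⁻¹ ∈ (S : Subgroup G) :=
    hg ⟨x, hx, by rw [MulEquiv.coe_toMonoidHom, MulAut.conj_apply]⟩
  have h2 : k * x * k⁻¹ ∈ (S : Subgroup G) := by
    have := (Subgroup.mem_normalizer_iff.mp (Subgroup.inv_mem _ ha)
      (a * k * x * (a * k)⁻¹)).mp h1
    convert this using 1; group
  have h3 : ⁅k, x⁆ ∈ (S : Subgroup G) := by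
    rw [commutatorElement_def]; exact Subgroup.mul_mem _ h2 (Subgroup.inv_mem _ (hQ hx))
  have h4 : ⁅k, x⁆ ∈ Cfsg.pPrimeCore p G := by
    rw [commutatorElement_def]
    have : k * x * k⁻¹ * x⁻¹ = k * (x * k⁻¹ * x⁻¹) := by group
    rw [this]
    exact Subgroup.mul_mem _ hk
      ((Cfsg.pPrimeCore_normal p G).conj_mem _ (Subgroup.inv_mem _ hk) x)
  have h5 := Cfsg.Agent.Lib.Helper54.eq_one_of_mem_pGroup_of_mem_coprime S.isPGroup'
    (Cfsg.Agent.Lib.Helper54.card_pPrimeCore_coprime p) h3 h4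
  exact (commutatorElement_eq_one_iff_commute.mp h5).eq.symm

theorem backward {G : Type*} [Group G] [Finite G] {p : ℕ} [Fact p.Prime] (S : Sylow p G)
    (hcon : Cfsg.IsPConstrained p G)
    (hfus : ∀ Q : Subgroup G, Q ≤ (S : Subgroup G) → ∀ g : G,
      Q.map (MulAut.conj g).toMonoidHom ≤ (S : Subgroup G) →
        ∃ n ∈ Subgroup.normalizer ((S : Subgroup G) : Set G),
          ∃ c ∈ Subgroup.centralizer (Q : Set G), g = n * c) :
    Subgroup.normalizer ((S : Subgroup G) : Set G) ⊔ Cfsg.pPrimeCore p G = ⊤ := by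
  rw [eq_top_iff]
  intro g _
  obtain ⟨T, hT⟩ := Cfsg.Agent.Lib.Helper47.exists_sylow_eq_subgroupOf_of_normal S
    (Cfsg.pPrimePCore p G)
  have hTmap : (T : Subgroup ↥(Cfsg.pPrimePCore p G)).map (Cfsg.pPrimePCore p G).subtype =
      (S : Subgroup G) ⊓ Cfsg.pPrimePCore p G := by
    rw [hT, Subgroup.subgroupOf_map_subtype]
  obtain ⟨r, hr, hrn⟩ := Cfsg.Agent.Lib.Helper54.frattini_rel (Cfsg.pPrimePCore p G) T g
    (by rw [Subgroup.normalizer_eq_top]; trivial)
  have hPS : (T : Subgroup ↥(Cfsg.pPrimePCore p G)).map (Cfsg.pPrimePCore p G).subtype ≤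
      (S : Subgroup G) := by rw [hTmap]; exact inf_le_left
  have hconj : ((T : Subgroup ↥(Cfsg.pPrimePCore p G)).map
      (Cfsg.pPrimePCore p G).subtype).map (MulAut.conj (r⁻¹ * g)).toMonoidHom ≤
        (S : Subgroup G) := by
    rintro _ ⟨x, hx, rfl⟩
    apply hPS
    have := (Subgroup.mem_normalizer_iff.mp hrn x).mp hx
    show (MulAut.conj (r⁻¹ * g)) x ∈ _
    rw [MulAut.conj_apply]
    exact this
  obtain ⟨n, hn, c, hc, hgc⟩ := hfus _ hPS _ hconj
  have hcR : c ∈ Cfsg.pPrimePCore p G := hcon T hc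
  have hRle : Cfsg.pPrimePCore p G ≤
      Subgroup.normalizer ((S : Subgroup G) : Set G) ⊔ Cfsg.pPrimeCore p G := by
    rw [← Cfsg.Agent.Lib.Helper54.pPrimeCore_sup_sylow p T]
    exact sup_le le_sup_right (le_trans (hPS.trans Subgroup.le_normalizer) le_sup_left)
  have e : g = r * (n * c) := by rw [← hgc]; group
  rw [e]
  exact Subgroup.mul_mem _ (hRle hr)
    (Subgroup.mul_mem _ (Subgroup.mem_sup_left hn) (hRle hcR))

/-- Let S be a Sylow p-subgroup of the finite group G. Then G = N_G(S)·O_{p'}(G) if and only if G is p-constrained and N_G(S) controls fusion in S, in the sense that whenever a subgroup Q of S has a conjugate g Q g⁻¹ inside S, the element g is a product n c with n normalizing S and c centralizing Q. -/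
theorem result {G : Type*} [Group G] [Finite G] {p : ℕ} [Fact p.Prime] (S : Sylow p G) :
    Subgroup.normalizer ((S : Subgroup G) : Set G) ⊔ Cfsg.pPrimeCore p G = ⊤ ↔
      (Cfsg.IsPConstrained p G ∧
        ∀ Q : Subgroup G, Q ≤ (S : Subgroup G) → ∀ g : G, Q.map (MulAut.conj g).toMonoidHom ≤ (S : Subgroup G) →
          ∃ n ∈ Subgroup.normalizer ((S : Subgroup G) : Set G), ∃ c ∈ Subgroup.centralizer (Q : Set G), g = n * c) := by
  constructor
  · intro htop
    exact ⟨forward_constrained S htop, forward_fusion S htop⟩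
  · rintro ⟨hcon, hfus⟩
    exact backward S hcon hfus

end Cfsg.Agent.S1948
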