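import Mathlib
import Cfsg.Statements.S1952
-- import your own Cfsg.Agent.* helpers here

set_option autoImplicit false
open Cfsg

namespace Cfsg.Agent.S1952

open Polynomial

section algebra

variable {p : ℕ} [Fact p.Prime]

/-- In characteristic `p`, `1 + X + ⋯ + X^(p-1) = (X - 1)^(p-1)`. -/
lemma geom_eq : (∑ i ∈ Finset.range p, (X : (ZMod p)[X]) ^ i) = (X - 1) ^ (p - 1) := by
  have hp : p.Prime := Fact.out
  have h1 : (∑ i ∈ Finset.range p, (X : (ZMod p)[X]) ^ i) * (X - 1)
      = (X - 1) ^ (p - 1) * (X - 1) := by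
    rw [geom_sum_mul, ← pow_succ, Nat.sub_add_cancel hp.one_le, sub_pow_char, one_pow]
  have hne : (X - 1 : (ZMod p)[X]) ≠ 0 := by
    have := X_sub_C_ne_zero (1 : ZMod p)
    simpa using this
  exact mul_right_cancel₀ hne h1

variable {V : Type*} [AddCommGroup V] [Module (ZMod p) V]

/-- A nontrivial polynomial relation of degree `< p` on `x` forces the norm of `x` to vanish. -/
lemma norm_eq_zero_of_relation (T : Module.End (ZMod p) V) (hT : T ^ p = 1) (x : V)
    (f : (ZMod p)[X]) (hf : f ≠ 0) (hdeg : f.natDegree < p) (hfx : aeval T f x = 0) :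
    (∑ i ∈ Finset.range p, T ^ i) x = 0 := by
  have hp : p.Prime := Fact.out
  set g : (ZMod p)[X] := (X - 1) ^ p with hg
  have hgx : aeval T g x = 0 := by
    have : g = X ^ p - 1 := by rw [hg, sub_pow_char, one_pow]
    rw [this]
    simp [hT]
  have hbez := EuclideanDomain.gcd_eq_gcd_ab f g
  set d := EuclideanDomain.gcd f g with hd
  have hdx : aeval T d x = 0 := by
    rw [hbez, mul_comm f, mul_comm g, map_add, map_mul, map_mul]
    simp [Module.End.mul_apply, hfx, hgx]
  have hdg : d ∣ g := EuclideanDomain.gcd_dvd_right f g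
  have hdf : d ∣ f := EuclideanDomain.gcd_dvd_left f g
  have hprime : Prime (X - 1 : (ZMod p)[X]) := by
    have := (irreducible_X_sub_C (1 : ZMod p)).prime
    simpa using this
  obtain ⟨k, hk, hassoc⟩ := (dvd_prime_pow hprime p).1 hdg
  have hkf : (X - 1 : (ZMod p)[X]) ^ k ∣ f := hassoc.symm.dvd.trans hdf
  have hkdeg : k ≤ f.natDegree := by
    have := natDegree_le_of_dvd hkf hf
    have h2 : ((X - 1 : (ZMod p)[X]) ^ k).natDegree = k := by
      have : (X - 1 : (ZMod p)[X]) = X - C 1 := by simp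
      rw [this, natDegree_pow, natDegree_X_sub_C, mul_one]
    omega
  have hkx : aeval T ((X - 1 : (ZMod p)[X]) ^ k) x = 0 := by
    obtain ⟨u, hu⟩ := hassoc
    rw [← hu, mul_comm, map_mul, Module.End.mul_apply, hdx, map_zero]
  have : (∑ i ∈ Finset.range p, T ^ i)
      = aeval T ((X - 1 : (ZMod p)[X]) ^ (p - 1 - k) * (X - 1) ^ k) := by
    rw [← pow_add, Nat.sub_add_cancel (by omega), ← geom_eq]
    simp
  rw [this, map_mul, Module.End.mul_apply, hkx, map_zero]

lemma linIndep (T : Module.End (ZMod p) V) (hT : T ^ p = 1) (x : V)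
    (hN : (∑ i ∈ Finset.range p, T ^ i) x ≠ 0) :
    LinearIndependent (ZMod p) (fun i : Fin p => (T ^ (i : ℕ)) x) := by
  classical
  have hp : p.Prime := Fact.out
  rw [Fintype.linearIndependent_iff]
  intro g hg
  by_contra hne
  push Not at hne
  have hg0 : g ≠ 0 := by
    obtain ⟨i, hi⟩ := hne
    intro h
    exact hi (by rw [h]; rfl)
  set f := ofFn p g with hf
  have hf0 : f ≠ 0 := by
    intro h
    apply hg0
    apply injective_ofFn p
    rw [← hf, h, ofFn_zero]
  have hdeg : f.natDegree < p := ofFn_natDegree_lt hp.one_le g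
  have hfx : aeval T f x = 0 := by
    rw [hf, ofFn_eq_sum_monomial, map_sum, LinearMap.sum_apply, ← hg]
    refine Finset.sum_congr rfl (fun i _ => ?_)
    rw [aeval_monomial]
    simp [Module.End.mul_apply]
  exact hN (norm_eq_zero_of_relation T hT x f hf0 hdeg hfx)

/-- The key functional. -/
lemma exists_functional (T : Module.End (ZMod p) V) (hT : T ^ p = 1) (x : V)
    (hN : (∑ i ∈ Finset.range p, T ^ i) x ≠ 0) :
    ∃ l : V →ₗ[ZMod p] ZMod p, l x ≠ 0 ∧ ∀ i : ℕ, 0 < i → i < p → l ((T ^ i) x) = 0 := by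
  have hp : p.Prime := Fact.out
  have hli := linIndep T hT x hN
  have hnot := hli.notMem_span_image (s := {i : Fin p | i ≠ ⟨0, hp.pos⟩}) (x := ⟨0, hp.pos⟩)
    (by simp)
  obtain ⟨l, hl1, hl2⟩ := Submodule.exists_le_ker_of_notMem hnot
  refine ⟨l, by simpa using hl1, fun i hi0 hip => ?_⟩
  have : (T ^ i) x ∈ Submodule.span (ZMod p)
      ((fun i : Fin p => (T ^ (i : ℕ)) x) '' {i : Fin p | i ≠ ⟨0, hp.pos⟩}) := by
    apply Submodule.subset_span
    refine ⟨⟨i, hip⟩, ?_, rfl⟩
    change (⟨i, hip⟩ : Fin p) ≠ ⟨0, hp.pos⟩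
    intro h
    have := Fin.mk.inj_iff.mp h
    omega
  exact hl2 this

/-- Multiplicative version: a character of an elementary abelian group separating `x` from its
other conjugates under an automorphism of order `p` with nontrivial norm. -/
lemma exists_char {A' : Type*} [CommGroup A'] (hexp : ∀ a : A', a ^ p = 1) (c : MulAut A')
    (hc : c ^ p = 1) (x : A') (hN : ∏ i ∈ Finset.range p, (c ^ i) x ≠ 1) :
    ∃ ψ : A' →* Multiplicative (ZMod p), ψ x ≠ 1 ∧ ∀ i, 0 < i → i < p → ψ ((c ^ i) x) = 1 := by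
  have key : ∀ v : Additive A', p • v = 0 := fun v => by
    change Additive.ofMul ((Additive.toMul v) ^ p) = 0
    rw [hexp]; rfl
  letI inst : Module (ZMod p) (Additive A') := AddCommGroup.zmodModule (n := p) key
  let T : Module.End (ZMod p) (Additive A') :=
    AddMonoidHom.toZModLinearMap p (MonoidHom.toAdditive c.toMonoidHom)
  have hTpow : ∀ (i : ℕ) (a : A'), (T ^ i) (Additive.ofMul a) = Additive.ofMul ((c ^ i) a) := by
    intro i
    induction i with
    | zero => intro a; simp
    | succ i ih =>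
      intro a
      rw [pow_succ', Module.End.mul_apply, ih, pow_succ', MulAut.mul_apply]
      rfl
  have hT : T ^ p = 1 := by
    apply LinearMap.ext
    intro v
    have := hTpow p (Additive.toMul v)
    rw [hc] at this
    simpa using this
  have hsum : (∑ i ∈ Finset.range p, T ^ i) (Additive.ofMul x)
      = Additive.ofMul (∏ i ∈ Finset.range p, (c ^ i) x) := by
    rw [LinearMap.sum_apply, ofMul_prod]
    exact Finset.sum_congr rfl (fun i _ => hTpow i x)
  have hN' : (∑ i ∈ Finset.range p, T ^ i) (Additive.ofMul x) ≠ 0 := by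
    rw [hsum]
    intro h
    exact hN (Additive.ofMul.injective h)
  obtain ⟨l, hl1, hl2⟩ := exists_functional T hT (Additive.ofMul x) hN'
  refine ⟨AddMonoidHom.toMultiplicativeRight l.toAddMonoidHom, ?_, ?_⟩
  · intro h
    apply hl1
    exact Multiplicative.ofAdd.injective h
  · intro i hi0 hip
    have := hl2 i hi0 hip
    rw [hTpow] at this
    change Multiplicative.ofAdd (l (Additive.ofMul ((c ^ i) x))) = 1
    rw [this]; rfl

end algebra

/-- `p`-part of `(p²)!`. -/
lemma factorization_sq_factorial {p : ℕ} (hp : p.Prime) :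
    (Nat.factorial (p ^ 2)).factorization p = p + 1 := by
  rw [pow_two, Nat.factorization_factorial_mul hp]
  have : (Nat.factorial p).factorization p = 1 := by
    have h := Nat.factorization_factorial_mul (n := 1) hp
    rw [mul_one] at h
    rw [h]
    simp
  rw [this]; ring

lemma dvd_aux {p j j' : ℕ} (hj : j < p) (hj' : j' < p) : p ∣ j' + (p - j) ↔ j' = j := by
  constructor
  · intro h
    by_contra hne
    rcases Nat.lt_or_gt_of_ne hne with h1 | h1
    · have hlt : j' + (p - j) < p := by omega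
      have hpos : 0 < j' + (p - j) := by omega
      exact absurd (Nat.le_of_dvd hpos h) (by omega)
    · have h2 : p ∣ p + (j' - j) := by
        have : p + (j' - j) = j' + (p - j) := by omega
        rw [this]; exact h
      have h3 : p ∣ j' - j := (Nat.dvd_add_right (dvd_refl p)).mp h2
      exact absurd (Nat.le_of_dvd (by omega) h3) (by omega)
  · rintro rfl
    have : j' + (p - j') = p := by omega
    rw [this]

/-- A monoid hom from a commutative group sends a finite product to the list product. -/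
lemma map_prod_range {P A' : Type*} [Group P] [CommGroup A'] (ι : A' →* P)
    (f : ℕ → A') (n : ℕ) :
    ι (∏ i ∈ Finset.range n, f i) = ((List.range n).map (fun i => ι (f i))).prod := by
  induction n with
  | zero => simp
  | succ n ih =>
    rw [Finset.prod_range_succ, map_mul, ih, List.range_succ, List.map_append, List.prod_append]
    simp

/-- Let P be a finite p-group with a normal elementary abelian subgroup A of index p, and let x ∈ A and y ∈ P with y outside A. If the product of the p conjugates y^(-i) x y^i (i = 0, …, p−1) is not the identity, then the wreath product Z_p ≀ Z_p, realised as a Sylow p-subgroup of the symmetric group of degree p², is a homomorphic image of P. -/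
theorem result {P : Type*} [Group P] [Finite P] {p : ℕ} [Fact p.Prime] (hP : IsPGroup p P) (A : Subgroup P) [A.Normal]
    (hA : Cfsg.IsElementaryAbelian p A) (hidx : A.index = p) (x y : P) (hx : x ∈ A) (hy : y ∉ A)
    (hprod : ((List.range p).map (fun i => (y ^ i)⁻¹ * x * y ^ i)).prod ≠ 1) :
    ∃ (Q : Sylow p (Equiv.Perm (Fin (p ^ 2)))) (f : P →* ↥(Q : Subgroup (Equiv.Perm (Fin (p ^ 2))))), Function.Surjective f := by
  classical
  have hp : p.Prime := Fact.out
  obtain ⟨hcomm, hexp⟩ := hA
  letI instC : CommGroup A :=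
    { (inferInstance : Group A) with mul_comm := fun a b => hcomm.is_comm.comm a b }
  let c : MulAut A := MulAut.conjNormal y⁻¹
  have hcpow : ∀ (i : ℕ) (a : A), (((c ^ i) a : A) : P) = (y ^ i)⁻¹ * a * y ^ i := by
    intro i a
    have h1 : c ^ i = MulAut.conjNormal ((y⁻¹) ^ i) := (map_pow MulAut.conjNormal y⁻¹ i).symm
    rw [h1, MulAut.conjNormal_apply]
    simp [inv_pow]
  have hyp : y ^ p ∈ A := by
    have := A.pow_index_mem y
    rwa [hidx] at this
  have hc : c ^ p = 1 := by
    ext a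
    rw [hcpow]
    have h2 := hcomm.is_comm.comm (⟨y ^ p, hyp⟩ : A) a
    have h3 : y ^ p * (a : P) = (a : P) * y ^ p := congrArg Subtype.val h2
    simp only [MulAut.one_apply]
    rw [mul_assoc, ← h3, ← mul_assoc, inv_mul_cancel, one_mul]
  have hN : ∏ i ∈ Finset.range p, (c ^ i) ⟨x, hx⟩ ≠ 1 := by
    intro h
    apply hprod
    have h4 := map_prod_range (A' := A) A.subtype (fun i => (c ^ i) ⟨x, hx⟩) p
    rw [h, map_one] at h4
    rw [h4]
    congr 1
    apply List.map_congr_left
    intro i _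
    exact (hcpow i ⟨x, hx⟩).symm
  obtain ⟨ψ, hψx, hψ0⟩ :=
    exists_char (fun a => Subtype.ext (hexp a a.2)) c hc ⟨x, hx⟩ hN
  have hcmod : ∀ k : ℕ, c ^ k = c ^ (k % p) := by
    intro k
    conv_lhs => rw [← Nat.mod_add_div k p]
    rw [pow_add, pow_mul, hc, one_pow, mul_one]
  have hψk : ∀ k : ℕ, ψ ((c ^ k) ⟨x, hx⟩) = if p ∣ k then ψ ⟨x, hx⟩ else 1 := by
    intro k
    rw [hcmod k]
    by_cases hk : p ∣ k
    · rw [if_pos hk, Nat.mod_eq_zero_of_dvd hk, pow_zero]; rfl
    · rw [if_neg hk]
      apply hψ0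
      · exact Nat.pos_of_ne_zero (fun h => hk (Nat.dvd_of_mod_eq_zero h))
      · exact Nat.mod_lt _ hp.pos
  have hcardM : Nat.card (Multiplicative (ZMod p)) = p := by
    rw [Nat.card_congr Multiplicative.toAdd]; exact Nat.card_zmod p
  have hψtop : Subgroup.zpowers (ψ ⟨x, hx⟩) = ⊤ := zpowers_eq_top_of_prime_card hcardM hψx
  have hψsurj : Function.Surjective ψ := by
    intro m
    have : m ∈ Subgroup.zpowers (ψ ⟨x, hx⟩) := by rw [hψtop]; trivial
    obtain ⟨k, hk⟩ := Subgroup.mem_zpowers_iff.mp this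
    exact ⟨⟨x, hx⟩ ^ k, by rw [map_zpow, hk]⟩
  set B : Subgroup A := ψ.ker with hB
  have hBidx : B.index = p := by
    rw [hB, Subgroup.index_ker, MonoidHom.range_eq_top.mpr hψsurj, Subgroup.card_top, hcardM]
  set B' : Subgroup P := B.map A.subtype with hB'
  have hB'idx : B'.index = p ^ 2 := by
    rw [hB', Subgroup.index_map_subtype, hBidx, hidx, pow_two]
  have hB'A : B' ≤ A := by
    rw [hB']
    rintro _ ⟨b, _, rfl⟩
    exact b.2
  let Ψ : A →* (Fin p → Multiplicative (ZMod p)) :=
    MonoidHom.pi (fun j : Fin p => ψ.comp ((c ^ (j : ℕ)).toMonoidHom))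
  have hΨapp : ∀ a j, Ψ a j = ψ ((c ^ (j : ℕ)) a) := fun a j => rfl
  have hΨsurj : Function.Surjective Ψ := by
    intro f
    have hk : ∀ j : Fin p, ∃ k : ℤ, (ψ ⟨x, hx⟩) ^ k = f j := fun j => by
      have : f j ∈ Subgroup.zpowers (ψ ⟨x, hx⟩) := by rw [hψtop]; trivial
      exact Subgroup.mem_zpowers_iff.mp this
    choose k hk using hk
    refine ⟨∏ j : Fin p, ((c ^ (p - (j : ℕ))) ⟨x, hx⟩) ^ (k j), ?_⟩
    funext j'
    rw [map_prod, Finset.prod_apply, Finset.prod_eq_single j']
    · rw [map_zpow, Pi.pow_apply, hΨapp, ← MulAut.mul_apply, ← pow_add, hψk,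
        if_pos ((dvd_aux j'.2 j'.2).mpr rfl), hk]
    · intro j _ hne
      rw [map_zpow, Pi.pow_apply, hΨapp, ← MulAut.mul_apply, ← pow_add, hψk,
        if_neg (fun h => hne ((Fin.ext ((dvd_aux j.2 j'.2).mp h)).symm)), one_zpow]
    · intro h; exact absurd (Finset.mem_univ j') h
  have hΨidx : Ψ.ker.index = p ^ p := by
    rw [Subgroup.index_ker, MonoidHom.range_eq_top.mpr hΨsurj, Subgroup.card_top, Nat.card_fun,
      hcardM, Nat.card_fin]
  set K : Subgroup P := B'.normalCore with hK
  have hKB' : K ≤ B' := Subgroup.normalCore_le B'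
  have hKΨ : K.subgroupOf A ≤ Ψ.ker := by
    intro a ha
    rw [Subgroup.mem_subgroupOf] at ha
    rw [MonoidHom.mem_ker]
    funext j
    rw [hΨapp]
    have h1 : (((c ^ (j : ℕ)) a : A) : P) ∈ B' := by
      rw [hcpow]
      have := ha ((y ^ (j : ℕ))⁻¹)
      simpa using this
    obtain ⟨b, hb, hbe⟩ := Subgroup.mem_map.mp h1
    have hbeq : b = (c ^ (j : ℕ)) a := Subtype.ext hbe
    rw [← hbeq]
    exact MonoidHom.mem_ker.mp hb
  have hdiv : p ^ (p + 1) ∣ K.index := by
    have h1 : p ^ p ∣ (K.subgroupOf A).index := by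
      rw [← hΨidx]; exact Subgroup.index_dvd_of_le hKΨ
    have h2 : K.relIndex A * A.index = K.index := Subgroup.relIndex_mul_index (hKB'.trans hB'A)
    rw [← h2, hidx, pow_succ]
    exact Nat.mul_dvd_mul_right h1 p
  let φ : P →* Equiv.Perm (P ⧸ B') := MulAction.toPermHom P (P ⧸ B')
  have hφker : φ.ker = K := (Subgroup.normalCore_eq_ker B').symm
  have hcardquot : Nat.card (P ⧸ B') = p ^ 2 := hB'idx
  let e : (P ⧸ B') ≃ Fin (p ^ 2) := Finite.equivFinOfCardEq hcardquot
  let φ' : P →* Equiv.Perm (Fin (p ^ 2)) := (e.permCongrHom.toMonoidHom).comp φ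
  have hφ'ker : φ'.ker = K := by
    rw [← hφker]
    ext g
    simp only [MonoidHom.mem_ker, φ', MonoidHom.comp_apply]
    exact e.permCongrHom.map_eq_one_iff
  have hRcard : Nat.card φ'.range = K.index := by rw [← hφ'ker, Subgroup.index_ker]
  have hRp : IsPGroup p φ'.range :=
    hP.of_surjective φ'.rangeRestrict φ'.rangeRestrict_surjective
  obtain ⟨Q, hRQ⟩ := hRp.exists_le_sylow
  have hQcard : Nat.card Q = p ^ (p + 1) := by
    rw [Sylow.card_eq_multiplicity, Nat.card_eq_fintype_card, Fintype.card_perm, Fintype.card_fin,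
      factorization_sq_factorial hp]
  have hRQeq : φ'.range = (Q : Subgroup (Equiv.Perm (Fin (p ^ 2)))) := by
    apply Subgroup.eq_of_le_of_card_ge hRQ
    rw [hQcard, hRcard]
    exact Nat.le_of_dvd (Nat.pos_of_ne_zero (Subgroup.index_ne_zero_of_finite)) hdiv
  refine ⟨Q, φ'.codRestrict (Q : Subgroup (Equiv.Perm (Fin (p ^ 2)))) (fun g => hRQ ⟨g, rfl⟩), ?_⟩
  rintro ⟨q, hq⟩
  have hqr : q ∈ φ'.range := by rw [hRQeq]; exact hq
  obtain ⟨g, hg⟩ := hqr
  exact ⟨g, Subtype.ext hg⟩

end Cfsg.Agent.S1952
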