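import Cfsg.Statements.S1953
import Cfsg.Agent.Lib.Helper33.CrData

set_option autoImplicit false
open Cfsg Cfsg.Agent.Lib.Helper33

namespace Cfsg.Agent.S1953

/-- Let p be an odd prime and P a Sylow p-subgroup of the finite group G, and suppose that for no p-subgroup Q of G does N_G(Q)/C_G(Q) have a section isomorphic to SL₂(p). Call a subgroup Q of P centric-radical when Z(Q) is a Sylow p-subgroup of C_G(Q) and the only normal subgroup X of N_G(Q) containing Q·C_G(Q) such that the index of Q·C_G(Q) in X is a power of p is Q·C_G(Q) itself (that is, N_G(Q)/Q·C_G(Q) has no nontrivial normal p-subgroup). Then there is a centric-radical subgroup Q of P contained in every centric-radical subgroup of P; it is normal in P, and N_G(Q) controls strong fusion in P: whenever a subgroup A of P has g A g⁻¹ ≤ P, the element g is a product h c with h in N_G(Q) and c centralizing A. -/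
theorem result {G : Type*} [Group G] [Finite G] {p : ℕ} [Fact p.Prime] (hp : p ≠ 2) (P : Sylow p G)
    (hfree : ∀ Q : Subgroup G, IsPGroup p ↥Q → ¬ ∃ (H K : Subgroup G) (_ : (K.subgroupOf H).Normal),
      Subgroup.centralizer (Q : Set G) ≤ K ∧ K ≤ H ∧ H ≤ Subgroup.normalizer (Q : Set G) ∧
      Nonempty ((↥H ⧸ K.subgroupOf H) ≃* Matrix.SpecialLinearGroup (Fin 2) (ZMod p)))
    (cr : Subgroup G → Prop)
    (hcr : ∀ Q : Subgroup G, cr Q ↔ (Q ≤ (P : Subgroup G) ∧
      (∃ R : Sylow p ↥(Subgroup.centralizer (Q : Set G)),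
        (R : Subgroup ↥(Subgroup.centralizer (Q : Set G))).map (Subgroup.centralizer (Q : Set G)).subtype = Q ⊓ Subgroup.centralizer (Q : Set G)) ∧
      ∀ X : Subgroup G, X ≤ Subgroup.normalizer (Q : Set G) →
        (∀ n ∈ Subgroup.normalizer (Q : Set G), X.map (MulAut.conj n).toMonoidHom = X) →
        Q ⊔ Subgroup.centralizer (Q : Set G) ≤ X → (∃ k : ℕ, (Q ⊔ Subgroup.centralizer (Q : Set G)).relIndex X = p ^ k) →
        X = Q ⊔ Subgroup.centralizer (Q : Set G))) :
    ∃ Q : Subgroup G, cr Q ∧ (∀ R : Subgroup G, cr R → Q ≤ R) ∧ (∀ x ∈ (P : Subgroup G), Q.map (MulAut.conj x).toMonoidHom = Q) ∧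
      ∀ A : Subgroup G, A ≤ (P : Subgroup G) → ∀ g : G, A.map (MulAut.conj g).toMonoidHom ≤ (P : Subgroup G) →
        ∃ h ∈ Subgroup.normalizer (Q : Set G), ∃ c ∈ Subgroup.centralizer (A : Set G), g = h * c := by
  have hfree' : AutSL2Free p G := hfree
  obtain ⟨W, L, V, Y, d⟩ := exists_crData hp hfree' P
  refine ⟨(P : Subgroup G) ⊓ Y, ?_, ?_, ?_, ?_⟩
  · rw [hcr]
    refine ⟨inf_le_left, ?_, ?_⟩
    · refine ⟨d.sylIn_centralizer_Q.toSylow, ?_⟩
      rw [SylIn.coe_toSylow, Subgroup.subgroupOf_map_subtype, inf_assoc, inf_idem]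
    · intro X hXN hXinv hMX hidx
      exact d.radical_Q X hXN hXinv hMX hidx
  · intro R hR
    rw [hcr] at hR
    obtain ⟨hRS, ⟨R0, hR0⟩, hrad⟩ := hR
    refine d.minimal_Q R hRS ?_ hrad
    have h1 := sylIn_of_sylow R0
    rwa [hR0] at h1
  · intro x hx
    exact cj_eq_self_of_mem_normalizer (d.le_normalizer_Q hx)
  · intro A hA g hAg
    have hAg' : (fun a => g * a * g⁻¹) '' (A : Set G) ⊆ ((P : Subgroup G) : Set G) := by
      rintro _ ⟨a, ha, rfl⟩
      exact hAg ⟨a, ha, rfl⟩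
    obtain ⟨n, hn, hna⟩ := d.control_Q (A : Set G) g hA hAg'
    refine ⟨n, hn, n⁻¹ * g, ?_, by group⟩
    rw [Subgroup.mem_centralizer_iff]
    intro a ha
    have h1 := hna a ha
    calc a * (n⁻¹ * g) = n⁻¹ * (n * a * n⁻¹) * g := by group
      _ = n⁻¹ * (g * a * g⁻¹) * g := by rw [h1]
      _ = n⁻¹ * g * a := by group

end Cfsg.Agent.S1953
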