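import Cfsg.Statements.S1958
import Cfsg.Agent.S0028
import Cfsg.Agent.Lib.Helper48.Coprime
import Cfsg.Agent.Lib.Helper55.Cores2
import Cfsg.Agent.Lib.Helper31.Balance

set_option autoImplicit false
open Cfsg

namespace Cfsg.Agent.S1958

section key
variable {X : Type*} [Group X] [Finite X] (p : ℕ) [Fact p.Prime]

/-- In a finite solvable group `X`, a `p'`-subgroup `K` of `C_X(P)` (`P` a `p`-subgroup) which is
normalized by `C_X(P)` lies in `O_{p'}(X)`. In particular `O_{p'}(C_X(P)) ≤ O_{p'}(X)`. -/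
theorem key [Group.IsSolvable X] (P K : Subgroup X) (hP : IsPGroup p P)
    (hK : (Nat.card K).Coprime p)
    (hKP : K ≤ Subgroup.centralizer (P : Set X))
    (hKn : Subgroup.centralizer (P : Set X) ≤ Subgroup.normalizer (K : Set X)) :
    K ≤ pPrimeCore p X := by
  have hp : p.Prime := Fact.out
  have hbot : pPrimeCore p (X ⧸ pPrimeCore p X) = ⊥ :=
    Cfsg.Agent.Lib.Helper55.pPrimeCore_quotient_pPrimeCore p
  have hHH : Subgroup.centralizer (pCore p (X ⧸ pPrimeCore p X) : Set (X ⧸ pPrimeCore p X)) ≤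
      pCore p (X ⧸ pPrimeCore p X) := Cfsg.Agent.Lib.Helper55.centralizer_pCore_le p hbot
  have hRp : IsPGroup p (pCore p (X ⧸ pPrimeCore p X)) := Cfsg.Agent.Lib.Helper55.isPGroup_pCore p
  have hRn : (pCore p (X ⧸ pPrimeCore p X)).Normal := inferInstance
  have hNcop : (Nat.card (pPrimeCore p X)).Coprime p :=
    Cfsg.Agent.Lib.Helper55.card_pPrimeCore_coprime p
  have hKbar : (Nat.card (K.map (QuotientGroup.mk' (pPrimeCore p X)))).Coprime p :=
    Nat.Coprime.coprime_dvd_left (Subgroup.card_map_dvd _ _) hK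
  -- `R̄ ∩ K̄ = 1`
  have hdisj : pCore p (X ⧸ pPrimeCore p X) ⊓ K.map (QuotientGroup.mk' (pPrimeCore p X)) = ⊥ := by
    rw [← disjoint_iff]
    apply Subgroup.disjoint_of_coprime_natCard
    obtain ⟨k, hk⟩ := IsPGroup.iff_card.mp hRp
    rw [hk]
    exact (Nat.Coprime.pow_right k hKbar).symm
  have hPQ := Cfsg.Agent.S0028.result p (P.map (QuotientGroup.mk' (pPrimeCore p X)))
    (K.map (QuotientGroup.mk' (pPrimeCore p X))) (pCore p (X ⧸ pPrimeCore p X))
    (hP.map _) hKbar hRp ?_ ?_ ?_ ?_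
  · -- `K̄ ≤ C(R̄) ≤ R̄`, hence trivial
    have h1 : K.map (QuotientGroup.mk' (pPrimeCore p X)) ≤ ⊥ := by
      rw [← hdisj]
      exact le_inf (hPQ.trans hHH) le_rfl
    rw [le_bot_iff, Subgroup.map_eq_bot_iff, QuotientGroup.ker_mk'] at h1
    exact h1
  · -- `P̄ ≤ C(K̄)`
    rintro _ ⟨x, hx, rfl⟩
    rw [Subgroup.mem_centralizer_iff]
    rintro _ ⟨k, hk, rfl⟩
    rw [← map_mul, ← map_mul, Subgroup.mem_centralizer_iff.mp (hKP hk) x hx]
  · rw [Subgroup.normalizer_eq_top_iff.mpr hRn]; exact le_top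
  · rw [Subgroup.normalizer_eq_top_iff.mpr hRn]; exact le_top
  · -- `C_R̄(P̄) ≤ C(K̄)`
    rintro r ⟨hrR, hrP⟩
    obtain ⟨x, rfl⟩ := QuotientGroup.mk'_surjective _ r
    -- lift to an element of `C_X(P)`
    have hx : ∀ b ∈ P, x⁻¹ * (b * x * b⁻¹) ∈ pPrimeCore p X := by
      intro b hb
      rw [← QuotientGroup.eq_one_iff]
      have h1 := Subgroup.mem_centralizer_iff.mp hrP (QuotientGroup.mk' _ b) ⟨b, hb, rfl⟩
      show QuotientGroup.mk' (pPrimeCore p X) (x⁻¹ * (b * x * b⁻¹)) = 1
      rw [map_mul, map_mul, map_mul, map_inv, map_inv, h1]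
      group
    obtain ⟨n, hn, hfix⟩ := Cfsg.Agent.Lib.Helper48.exists_fixed_in_coset P hP (pPrimeCore p X)
      (by rw [← hp.coprime_iff_not_dvd]; exact hNcop.symm)
      (by rw [Subgroup.normalizer_eq_top_iff.mpr (inferInstance : (pPrimeCore p X).Normal)]
          exact le_top) x hx
    have hc : x * n ∈ Subgroup.centralizer (P : Set X) := by
      rw [Subgroup.mem_centralizer_iff]
      intro b hb
      have := hfix b hb
      calc b * (x * n) = (b * (x * n) * b⁻¹) * b := by group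
        _ = x * n * b := by rw [this]
    have hπ : QuotientGroup.mk' (pPrimeCore p X) (x * n) = QuotientGroup.mk' (pPrimeCore p X) x := by
      have hn1 : QuotientGroup.mk' (pPrimeCore p X) n = 1 := (QuotientGroup.eq_one_iff n).mpr hn
      rw [map_mul, hn1, mul_one]
    rw [SetLike.mem_coe, ← hπ] at hrR
    rw [← hπ, Subgroup.mem_centralizer_iff]
    rintro _ ⟨k, hk, rfl⟩
    -- the commutator lies in `R̄ ∩ K̄`
    have h1 : (x * n) * k * (x * n)⁻¹ * k⁻¹ ∈ K :=
      K.mul_mem ((Subgroup.mem_normalizer_iff.mp (hKn hc) k).mp hk) (K.inv_mem hk)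
    have h2 : QuotientGroup.mk' (pPrimeCore p X) ((x * n) * k * (x * n)⁻¹ * k⁻¹) ∈
        pCore p (X ⧸ pPrimeCore p X) ⊓ K.map (QuotientGroup.mk' (pPrimeCore p X)) := by
      refine Subgroup.mem_inf.mpr ⟨?_, ⟨_, h1, rfl⟩⟩
      have h3 := hRn.conj_mem _ (Subgroup.inv_mem _ hrR) (QuotientGroup.mk' (pPrimeCore p X) k)
      have h4 := Subgroup.mul_mem _ hrR h3
      simpa [mul_assoc] using h4
    rw [hdisj, Subgroup.mem_bot] at h2
    have h5 : QuotientGroup.mk' (pPrimeCore p X) (x * n) * QuotientGroup.mk' (pPrimeCore p X) k *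
        (QuotientGroup.mk' (pPrimeCore p X) (x * n))⁻¹ *
        (QuotientGroup.mk' (pPrimeCore p X) k)⁻¹ = 1 := by
      simpa using h2
    calc QuotientGroup.mk' (pPrimeCore p X) k * QuotientGroup.mk' (pPrimeCore p X) (x * n)
        = (QuotientGroup.mk' (pPrimeCore p X) (x * n) * QuotientGroup.mk' (pPrimeCore p X) k *
          (QuotientGroup.mk' (pPrimeCore p X) (x * n))⁻¹ *
          (QuotientGroup.mk' (pPrimeCore p X) k)⁻¹)⁻¹ *
          (QuotientGroup.mk' (pPrimeCore p X) (x * n) * QuotientGroup.mk' (pPrimeCore p X) k) := by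
          group
      _ = QuotientGroup.mk' (pPrimeCore p X) (x * n) * QuotientGroup.mk' (pPrimeCore p X) k := by
          rw [h5]; group

end key

section half
variable {G : Type*} [Group G] [Finite G] (p : ℕ) [Fact p.Prime]

theorem half (x y : G) (hy : y ^ p = 1) (hxy : x * y = y * x)
    (hCx : Group.IsSolvable ↥(Subgroup.centralizer ({x} : Set G))) :
    centralizerPPrimeCore p y ⊓ Subgroup.centralizer {x} ≤ centralizerPPrimeCore p x := by
  haveI := hCx
  have hyX : y ∈ Subgroup.centralizer ({x} : Set G) := by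
    rw [Subgroup.mem_centralizer_iff]
    intro h hh
    rw [Set.mem_singleton_iff] at hh
    rw [hh]; exact hxy
  have hKle := key p (Subgroup.zpowers (⟨y, hyX⟩ : ↥(Subgroup.centralizer ({x} : Set G))))
    ((centralizerPPrimeCore p y).subgroupOf (Subgroup.centralizer ({x} : Set G))) ?_ ?_ ?_ ?_
  · rintro g ⟨hg1, hg2⟩
    exact ⟨⟨g, hg2⟩, hKle (Subgroup.mem_subgroupOf.mpr hg1), rfl⟩
  · -- `⟨y⟩` is a `p`-group
    rintro ⟨z, hz⟩
    obtain ⟨i, rfl⟩ := Subgroup.mem_zpowers_iff.mp hz
    refine ⟨1, Subtype.ext ?_⟩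
    apply Subtype.ext
    simp only [pow_one, Subgroup.coe_pow, Subgroup.coe_zpow, Subgroup.coe_one]
    rw [← zpow_natCast, ← zpow_mul, mul_comm, zpow_mul, zpow_natCast, hy, one_zpow]
  · -- coprime
    have h1 : Nat.card ((centralizerPPrimeCore p y).subgroupOf (Subgroup.centralizer ({x} : Set G)))
        ∣ Nat.card (centralizerPPrimeCore p y) := by
      have h2 : Nat.card ((centralizerPPrimeCore p y).subgroupOf
          (Subgroup.centralizer ({x} : Set G))) =
          Nat.card ((centralizerPPrimeCore p y ⊓ Subgroup.centralizer ({x} : Set G) : Subgroup G)) := by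
        rw [← Subgroup.card_map_of_injective (Subgroup.subtype_injective _),
          Subgroup.subgroupOf_map_subtype]
      rw [h2]
      exact Subgroup.card_dvd_of_le inf_le_left
    exact Nat.Coprime.coprime_dvd_left h1
      (Cfsg.Agent.Lib.Helper31.card_centralizerPPrimeCore_coprime p y)
  · -- `K ≤ C(⟨y⟩)`
    intro k hk
    rw [Subgroup.mem_subgroupOf] at hk
    have hky := Cfsg.Agent.Lib.Helper31.centralizerPPrimeCore_le p y hk
    have hcomm : y * (k : G) = (k : G) * y := Subgroup.mem_centralizer_iff.mp hky y rfl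
    rw [Subgroup.mem_centralizer_iff]
    intro z hz
    obtain ⟨i, rfl⟩ := Subgroup.mem_zpowers_iff.mp hz
    have hc : Commute (⟨y, hyX⟩ : ↥(Subgroup.centralizer ({x} : Set G))) k :=
      Subtype.ext hcomm
    exact (hc.zpow_left i).eq
  · -- `C(⟨y⟩) ≤ N(K)`
    intro c hc
    have hcy : (c : G) * y = y * (c : G) := by
      have := Subgroup.mem_centralizer_iff.mp hc ⟨y, hyX⟩ (Subgroup.mem_zpowers _)
      exact (congrArg Subtype.val this).symm
    rw [Subgroup.mem_normalizer_iff]
    intro k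
    rw [Subgroup.mem_subgroupOf, Subgroup.mem_subgroupOf]
    constructor
    · intro hk
      have := Cfsg.Agent.Lib.Helper31.conj_mem_centralizerPPrimeCore hcy hk
      simpa using this
    · intro hk
      have hcy' : (c : G)⁻¹ * y = y * (c : G)⁻¹ := by
        calc (c : G)⁻¹ * y = (c : G)⁻¹ * (y * (c : G)) * (c : G)⁻¹ := by group
          _ = (c : G)⁻¹ * ((c : G) * y) * (c : G)⁻¹ := by rw [hcy]
          _ = y * (c : G)⁻¹ := by group
      have := Cfsg.Agent.Lib.Helper31.conj_mem_centralizerPPrimeCore hcy' hk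
      simpa [mul_assoc] using this

end half

/-- Let `G` be a finite group, `p` a prime, and `x, y` commuting elements of order `p` whose centralizers `C_G(x)` and `C_G(y)` are both solvable. Then `O_{p'}(C_G(x)) ∩ C_G(y) = O_{p'}(C_G(y)) ∩ C_G(x)` (balance). -/
theorem result {G : Type*} [Group G] [Finite G]
    (p : ℕ) [Fact p.Prime] (x y : G) (hx : orderOf x = p) (hy : orderOf y = p) (hxy : x * y = y * x)
    (hCx : Group.IsSolvable ↥(Subgroup.centralizer ({x} : Set G))) (hCy : Group.IsSolvable ↥(Subgroup.centralizer ({y} : Set G))) :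
    Cfsg.centralizerPPrimeCore p x ⊓ Subgroup.centralizer {y} = Cfsg.centralizerPPrimeCore p y ⊓ Subgroup.centralizer {x} := by
  have hxp : x ^ p = 1 := by rw [← hx]; exact pow_orderOf_eq_one x
  have hyp : y ^ p = 1 := by rw [← hy]; exact pow_orderOf_eq_one y
  apply le_antisymm
  · exact le_inf (half p y x hxp hxy.symm hCy)
      (inf_le_left.trans (Cfsg.Agent.Lib.Helper31.centralizerPPrimeCore_le p x))
  · exact le_inf (half p x y hyp hxy hCx)
      (inf_le_left.trans (Cfsg.Agent.Lib.Helper31.centralizerPPrimeCore_le p y))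

end Cfsg.Agent.S1958
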