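import Cfsg.Statements.S1962
import Cfsg.Agent.Lib.Helper33.TransferControl

set_option autoImplicit false
open Cfsg

namespace Cfsg.Agent.S1962

open Cfsg.Agent.Lib.Helper33 in
theorem controlsTransfer_iff_family {G : Type*} [Group G] {p : ℕ} {W : Subgroup G → Subgroup G}
    {H : Subgroup G} : Cfsg.ControlsTransferIn p W H ↔ Cfsg.FamilyControlsTransferIn p {W} H := by
  unfold Cfsg.ControlsTransferIn Cfsg.FamilyControlsTransferIn
  simp only [Set.mem_singleton_iff, iSup_iSup_eq_left]

open Cfsg.Agent.Lib.Helper33 in
/-- Local-to-global control of transfer through well-placed subgroups. Let p be a prime, G a finite group with Sylow p-subgroup S, and W a conjugacy functor for p on G. If W controls transfer in N_G(T) for every nonidentity subgroup T of S that is well placed in S with respect to W, then W controls transfer in G: S ∩ G' = S ∩ (N_G(W(S)))'. -/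
theorem result {G : Type*} [Group G] [Finite G] {p : ℕ} [Fact p.Prime] (S : Sylow p G) (W : Subgroup G → Subgroup G) (hW : Cfsg.IsConjugacyFunctor p W) (hloc : ∀ T : Subgroup G, T ≠ ⊥ → Cfsg.IsWellPlaced p W (S : Subgroup G) T → Cfsg.ControlsTransferIn p W (Subgroup.normalizer ((T : Subgroup G) : Set G))) : Cfsg.ControlsTransferIn p W ⊤ := by
  refine ⟨(S : Subgroup G), le_top, S.isPGroup', (sylIn_top S).not_dvd, le_antisymm ?_ ?_⟩
  · have := focal_le_of_local S {W}
      (by intro W' hW'; rw [Set.mem_singleton_iff.mp hW']; exact hW)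
      (focalTerm W ⊤ (S : Subgroup G))
      (by intro W' hW'; rw [Set.mem_singleton_iff.mp hW'])
      {U | Cfsg.IsWellPlaced p W (S : Subgroup G) U}
      (by
        intro P hP
        obtain ⟨g, hg⟩ := exists_cj_isWellPlaced S hW P hP
        exact ⟨cj g P, hg, ⟨g, rfl⟩, hg.1, hg.2 0⟩)
      (by
        intro U hU hUne _ _
        exact controlsTransfer_iff_family.mp (hloc U hUne hU))
    rw [commutator_def] at this
    exact this
  · exact inf_le_inf_left _ (Subgroup.commutator_mono inf_le_left inf_le_left)

end Cfsg.Agent.S1962
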