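import Cfsg.Statements.S1966

set_option autoImplicit false
open Cfsg

namespace Cfsg.Agent.S1966

theorem pCore_normal {G : Type*} [Group G] (p : ℕ) : (Cfsg.pCore p G).Normal :=
  Subgroup.sSup_normal _ (fun _ hN => hN.1)

theorem pCore_le_sylow {G : Type*} [Group G] {p : ℕ} [Fact p.Prime] (S : Sylow p G) :
    Cfsg.pCore p G ≤ (S : Subgroup G) := by
  apply sSup_le
  intro N hN
  have := hN.1
  exact hN.2.le_sylow_of_normal S

/-- Let p be a prime, G a finite group with Sylow p-subgroup S and 𝓕 a conjugation family for S in G. Then the members of 𝓕 containing O_p(G) still form a conjugation family for S in G. -/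
theorem result {G : Type*} [Group G] [Finite G] {p : ℕ} [Fact p.Prime] (S : Sylow p G) (𝓕 : Set (Subgroup G)) (h : Cfsg.IsConjugationFamily 𝓕 (S : Subgroup G)) : Cfsg.IsConjugationFamily {T : Subgroup G | T ∈ 𝓕 ∧ Cfsg.pCore p G ≤ T} (S : Subgroup G) := by
  obtain ⟨h1, h2⟩ := h
  refine ⟨fun T hT => h1 T hT.1, ?_⟩
  intro A g hAne hAS hAg
  have hN : (Cfsg.pCore p G).Normal := pCore_normal p
  have hle : Cfsg.pCore p G ≤ (S : Subgroup G) := pCore_le_sylow S
  have hA'S : A ∪ (Cfsg.pCore p G : Set G) ⊆ ((S : Subgroup G) : Set G) :=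
    Set.union_subset hAS hle
  have hA'g : (fun a => g⁻¹ * a * g) '' (A ∪ (Cfsg.pCore p G : Set G)) ⊆ ((S : Subgroup G) : Set G) := by
    rw [Set.image_union]
    apply Set.union_subset hAg
    rintro _ ⟨a, ha, rfl⟩
    apply hle
    have := hN.conj_mem a ha g⁻¹
    simpa using this
  obtain ⟨n, T, x, hprod, hT, hx, h0, hi⟩ := h2 (A ∪ (Cfsg.pCore p G : Set G)) g
    (hAne.mono Set.subset_union_left) hA'S hA'g
  refine ⟨n, T, x, hprod, ?_, hx, ?_, ?_⟩
  · intro i
    refine ⟨hT i, ?_⟩
    obtain ⟨i, hin⟩ := i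
    cases i with
    | zero =>
      exact fun z hz => h0 hin (Set.mem_union_right _ hz)
    | succ j =>
      intro z hz
      apply hi ⟨j, by omega⟩ hin
      refine ⟨((List.ofFn x).take (j + 1)).prod * z * (((List.ofFn x).take (j + 1)).prod)⁻¹, ?_, ?_⟩
      · exact Set.mem_union_right _ (hN.conj_mem z hz _)
      · simp [mul_assoc]
  · intro hn
    exact Set.subset_union_left.trans (h0 hn)
  · intro i hin
    exact (Set.image_mono Set.subset_union_left).trans (hi i hin)

end Cfsg.Agent.S1966
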