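import Cfsg.Statements.S1971
import Cfsg.Agent.Lib.Helper33.Sections
import Cfsg.Agent.Lib.Helper33.NormalIndexP
-- import your own Cfsg.Agent.* helpers here

set_option autoImplicit false
universe u
open Cfsg

namespace Cfsg.Agent.S1971

open Cfsg.Agent.Lib.Helper33
open scoped commutatorElement

/-- `N_G(S) = S C_G(S)`. -/
def AutP {G : Type u} [Group G] (S : Subgroup G) : Prop :=
  ∀ g ∈ Subgroup.normalizer (S : Set G), ∃ s ∈ S, ∃ c ∈ Subgroup.centralizer (S : Set G), g = s * c

theorem autP_subgroupOf {G : Type u} [Group G] {S N : Subgroup G} (hSN : S ≤ N) (hA : AutP S) :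
    AutP (S.subgroupOf N) := by
  intro g hg
  rw [← Subgroup.subgroupOf_normalizer_eq hSN, Subgroup.mem_subgroupOf] at hg
  obtain ⟨s, hs, c, hc, hgsc⟩ := hA g.1 hg
  have hcN : c ∈ N := by
    have : c = s⁻¹ * g.1 := by rw [hgsc]; group
    rw [this]
    exact N.mul_mem (N.inv_mem (hSN hs)) g.2
  refine ⟨⟨s, hSN hs⟩, Subgroup.mem_subgroupOf.mpr hs, ⟨c, hcN⟩, ?_, Subtype.ext hgsc⟩
  rw [Subgroup.mem_centralizer_iff]
  intro y hy
  apply Subtype.ext
  exact (Subgroup.mem_centralizer_iff.mp hc) y.1 (Subgroup.mem_subgroupOf.mp hy)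

theorem autP_map_mk {G : Type u} [Group G] {S M : Subgroup G} [M.Normal] (hMS : M ≤ S) (hA : AutP S) :
    AutP (S.map (QuotientGroup.mk' M)) := by
  have hcomap : ∀ x : G, (QuotientGroup.mk' M x ∈ S.map (QuotientGroup.mk' M)) ↔ x ∈ S := by
    intro x
    rw [← Subgroup.mem_comap, Subgroup.comap_map_eq, QuotientGroup.ker_mk', sup_eq_left.mpr hMS]
  intro gb hgb
  obtain ⟨g, rfl⟩ := QuotientGroup.mk'_surjective M gb
  have hg : g ∈ Subgroup.normalizer (S : Set G) := by
    rw [Subgroup.mem_normalizer_iff]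
    intro x
    rw [← hcomap x, ← hcomap (g * x * g⁻¹), map_mul, map_mul, map_inv]
    exact (Subgroup.mem_normalizer_iff.mp hgb) _
  obtain ⟨s, hs, c, hc, rfl⟩ := hA g hg
  refine ⟨QuotientGroup.mk' M s, Subgroup.mem_map_of_mem _ hs, QuotientGroup.mk' M c, ?_, map_mul _ _ _⟩
  rw [Subgroup.mem_centralizer_iff]
  rintro yb ⟨y, hy, rfl⟩
  rw [← map_mul, ← map_mul, (Subgroup.mem_centralizer_iff.mp hc) y hy]

theorem main {p : ℕ} [hp : Fact p.Prime] (W : ∀ (Q : Type u) [Group Q], Subgroup Q)
    (hW : Cfsg.IsCharPFunctor.{u} p W) :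
    ∀ n : ℕ, ∀ (G : Type u) [Group G] [Finite G], Nat.card G = n → SecCtl p W G →
      ∀ S : Subgroup G, SylIn p S ⊤ → S ≠ ⊥ → AutP S → ∃ M : Subgroup G, M.Normal ∧ M.index = p := by
  intro n
  induction n using Nat.strong_induction_on with
  | _ n IH =>
  intro G _ _ hn hsec S hS hSne hA
  have hcf := isConjugacyFunctor_inducedFunctor W hW (G := G)
  have hSp := hS.isPGroup
  have hSidx : ¬ p ∣ S.index := by
    have := hS.not_dvd
    rwa [Subgroup.relIndex_top_right] at this
  have hWle : Cfsg.inducedFunctor W S ≤ S := cf_le hcf hSp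
  have hWne : Cfsg.inducedFunctor W S ≠ ⊥ := cf_ne_bot hcf hSp hSne
  have hSN : S ≤ Subgroup.normalizer ((Cfsg.inducedFunctor W S : Subgroup G) : Set G) :=
    le_trans Subgroup.le_normalizer (cf_normalizer_le hcf hSp)
  have hfoc := focal_eq_of_controlsTransfer hcf hsec.self hS
  unfold focalTerm at hfoc
  rw [top_inf_eq] at hfoc
  by_cases hNtop : Subgroup.normalizer ((Cfsg.inducedFunctor W S : Subgroup G) : Set G) = ⊤
  · -- `W(S)` is normal in `G`
    have hWn : (Cfsg.inducedFunctor W S).Normal := Subgroup.normalizer_eq_top_iff.mp hNtop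
    by_cases hbar : S.map (QuotientGroup.mk' (Cfsg.inducedFunctor W S)) = ⊥
    · -- `S = W(S)` is normal in `G`
      have hSW : S ≤ Cfsg.inducedFunctor W S := by
        rw [Subgroup.map_eq_bot_iff, QuotientGroup.ker_mk'] at hbar
        exact hbar
      have hSeq : Cfsg.inducedFunctor W S = S := le_antisymm hWle hSW
      rw [hSeq] at hNtop
      apply exists_normal_index_eq_prime_of_not_le_commutator hSp
      intro hle
      have h1 : commutator G ⊓ S = S.focalSubgroup := by
        have := Subgroup.commutator_inf_eq_focalSubgroup hS.toSylowTop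
        rwa [hS.coe_toSylowTop] at this
      have h2 : S.focalSubgroup ≤ ⁅S, S⁆ := by
        rw [Subgroup.focalSubgroup_def, Subgroup.closure_le]
        rintro g ⟨-, x, hx, u, rfl⟩
        obtain ⟨s, hs, c, hc, rfl⟩ := hA u (by rw [hNtop]; exact Subgroup.mem_top u)
        have hcx : x⁻¹ * c = c * x⁻¹ := (Subgroup.mem_centralizer_iff.mp hc) x⁻¹ (S.inv_mem hx)
        have e : ⁅x, s * c⁆ = ⁅x, s⁆ := by
          rw [commutatorElement_def, commutatorElement_def]
          calc x * (s * c) * x⁻¹ * (s * c)⁻¹ = x * s * (c * x⁻¹) * c⁻¹ * s⁻¹ := by group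
            _ = x * s * (x⁻¹ * c) * c⁻¹ * s⁻¹ := by rw [hcx]
            _ = x * s * x⁻¹ * s⁻¹ := by group
        rw [SetLike.mem_coe, e]
        exact Subgroup.commutator_mem_commutator hx hs
      have h3 : S ≤ ⁅S, S⁆ := by
        calc S ≤ commutator G ⊓ S := le_inf hle le_rfl
          _ = S.focalSubgroup := h1
          _ ≤ ⁅S, S⁆ := h2
      have hnt : Nontrivial ↥S := (Subgroup.nontrivial_iff_ne_bot S).mpr hSne
      have hnil : Group.IsNilpotent ↥S := hSp.isNilpotent
      have h4 : commutator ↥S < ⊤ := Group.IsSolvable.commutator_lt_top_of_nontrivial ↥S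
      apply h4.ne
      rw [eq_top_iff]
      intro x _
      have hx : x.1 ∈ ⁅S, S⁆ := h3 x.2
      rw [← Subgroup.map_subtype_commutator] at hx
      obtain ⟨y, hy, hyx⟩ := hx
      have : y = x := Subtype.ext hyx
      rwa [← this]
    · -- pass to `G / W(S)`
      have hcard : Nat.card (G ⧸ Cfsg.inducedFunctor W S) < n := by
        rw [← hn, Subgroup.card_eq_card_quotient_mul_card_subgroup (Cfsg.inducedFunctor W S)]
        have h1 : 1 < Nat.card ↥(Cfsg.inducedFunctor W S) := by
          rw [Subgroup.one_lt_card_iff_ne_bot]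
          exact hWne
        have h0 : 0 < Nat.card (G ⧸ Cfsg.inducedFunctor W S) := Nat.card_pos
        nlinarith
      have hSbar : SylIn p (S.map (QuotientGroup.mk' (Cfsg.inducedFunctor W S))) ⊤ := by
        refine ⟨le_top, hSp.map _, ?_⟩
        rw [Subgroup.relIndex_top_right]
        intro hdvd
        exact hSidx (dvd_trans hdvd (Subgroup.index_map_dvd S (QuotientGroup.mk'_surjective _)))
      obtain ⟨Mb, hMbn, hMbi⟩ := IH _ hcard (G ⧸ Cfsg.inducedFunctor W S) rfl
        (hsec.quotient _) _ hSbar hbar (autP_map_mk hWle hA)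
      refine ⟨Mb.comap (QuotientGroup.mk' (Cfsg.inducedFunctor W S)), hMbn.comap _, ?_⟩
      rw [Subgroup.index_comap_of_surjective _ (QuotientGroup.mk'_surjective _), hMbi]
  · -- `N_G(W(S)) < G`
    apply exists_normal_index_eq_prime_of_not_le_commutator hSp
    intro hle
    have hcard : Nat.card ↥(Subgroup.normalizer ((Cfsg.inducedFunctor W S : Subgroup G) : Set G)) < n := by
      rw [← hn, ← Subgroup.card_top (G := G)]
      exact card_lt_card_of_lt (lt_top_iff_ne_top.mpr hNtop)
    have hS' : SylIn p (S.subgroupOf (Subgroup.normalizer ((Cfsg.inducedFunctor W S : Subgroup G) : Set G))) ⊤ := by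
      refine ⟨le_top, hSp.comap_subtype, ?_⟩
      rw [Subgroup.relIndex_top_right]
      intro hdvd
      exact hSidx (dvd_trans hdvd (Subgroup.relIndex_dvd_index_of_le hSN))
    have hS'ne : S.subgroupOf (Subgroup.normalizer ((Cfsg.inducedFunctor W S : Subgroup G) : Set G)) ≠ ⊥ := by
      rw [Ne, Subgroup.subgroupOf_eq_bot, disjoint_iff, inf_eq_left.mpr hSN]
      exact hSne
    obtain ⟨M', hM'n, hM'i⟩ := IH _ hcard _ rfl (hsec.subgroup _) _ hS' hS'ne (autP_subgroupOf hSN hA)
    have hS'idx : ¬ p ∣ (S.subgroupOf (Subgroup.normalizer ((Cfsg.inducedFunctor W S : Subgroup G) : Set G))).index := by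
      have := hS'.not_dvd
      rwa [Subgroup.relIndex_top_right] at this
    apply not_le_commutator_of_normal_index_eq_prime hM'i hS'idx
    intro x hx
    have h1 : S ≤ S ⊓ ⁅(⊤ : Subgroup G), ⊤⁆ := le_inf le_rfl hle
    rw [hfoc] at h1
    have hx2 : x.1 ∈ ⁅Subgroup.normalizer ((Cfsg.inducedFunctor W S : Subgroup G) : Set G),
        Subgroup.normalizer ((Cfsg.inducedFunctor W S : Subgroup G) : Set G)⁆ :=
      (h1 (Subgroup.mem_subgroupOf.mp hx)).2
    rw [← Subgroup.map_subtype_commutator] at hx2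
    obtain ⟨y, hy, hyx⟩ := hx2
    have : y = x := Subtype.ext hyx
    rwa [← this]

/-- Let p be a prime, G a finite group with nontrivial Sylow p-subgroup S, and W an isomorphism-invariant p-group functor (W assigns to every group Q a subgroup W(Q), nontrivial whenever Q is a nontrivial finite p-group, and every isomorphism from a finite p-group Q onto a group R carries W(Q) onto W(R)) that controls transfer in every section of G. If N_G(S)/C_G(S) is a p-group (every element of N_G(S) of order prime to p centralizes S), then G has a normal subgroup of index p. -/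
theorem result {G : Type u} [Group G] [Finite G] {p : ℕ} [Fact p.Prime] (W : ∀ (Q : Type u) [Group Q], Subgroup Q) (hW : Cfsg.IsCharPFunctor.{u} p W) (hctl : ∀ (K R : Subgroup G) [hR : (R.subgroupOf K).Normal], Cfsg.ControlsTransferIn p (Cfsg.inducedFunctor (G := (↥K ⧸ R.subgroupOf K)) W) ⊤) (S : Sylow p G) (hS : (S : Subgroup G) ≠ ⊥) (hN : ∀ g ∈ Subgroup.normalizer (((S : Subgroup G) : Subgroup G) : Set G), (orderOf g).Coprime p → g ∈ Subgroup.centralizer ((S : Subgroup G) : Set G)) : ∃ N : Subgroup G, N.Normal ∧ N.index = p := by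
  exact main W hW (Nat.card G) G rfl (secCtl_of_sections hW hctl) (S : Subgroup G) (sylIn_top S) hS
    (exists_mul_of_mem_normalizer_sylow S hN)

end Cfsg.Agent.S1971
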