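import Cfsg.Statements.S1982
import Cfsg.Agent.Lib.Helper51.KInfChiefQuad
-- import your own Cfsg.Agent.* helpers here

set_option autoImplicit false
universe u
open Cfsg

namespace Cfsg.Agent.S1982

/-- The centralizer of a critical subgroup of `O_p(G)` is a `p`-group when `C_G(O_p(G)) ≤ O_p(G)`. -/
theorem isPGroup_centralizer_of_aut {G : Type u} [Group G] [Finite G] {p : ℕ} [Fact p.Prime] (A : Subgroup G)
    (hA5 : ∀ φ : MulAut ↥(Cfsg.pCore p G), (orderOf φ).Coprime p →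
      (∀ a : ↥(Cfsg.pCore p G), (a : G) ∈ A → φ a = a) → φ = 1)
    (hc : Subgroup.centralizer (((Cfsg.pCore p G) : Subgroup G) : Set G) ≤ (Cfsg.pCore p G)) :
    IsPGroup p (Subgroup.centralizer ((A : Subgroup G) : Set G)) := by
  have hTn : (Cfsg.pCore p G).Normal := Cfsg.Agent.Lib.Helper97.pCore_normal p
  have hTp : IsPGroup p (Cfsg.pCore p G) := Cfsg.Agent.Lib.Helper97.isPGroup_pCore p G
  have hp : p.Prime := Fact.out
  rintro ⟨x, hx⟩
  have hn0 : orderOf x ≠ 0 := (orderOf_pos x).ne'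
  obtain ⟨k, m, hm, hn⟩ := Nat.exists_eq_pow_mul_and_not_dvd hn0 p hp.ne_one
  set y : G := x ^ (p ^ k) with hy
  have hyC : y ∈ Subgroup.centralizer ((A : Subgroup G) : Set G) := Subgroup.pow_mem _ hx _
  have hym : y ^ m = 1 := by
    rw [hy, ← pow_mul, ← hn]; exact pow_orderOf_eq_one x
  have hmcop : m.Coprime p := (Nat.Coprime.symm ((Nat.Prime.coprime_iff_not_dvd hp).mpr hm))
  have hord : (orderOf y).Coprime p := Nat.Coprime.coprime_dvd_left (orderOf_dvd_of_pow_eq_one hym) hmcop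
  -- conjugation by `y` on `O_p(G)`
  set φ : MulAut ↥(Cfsg.pCore p G) := MulAut.conjNormal y with hφ
  have hφord : (orderOf φ).Coprime p :=
    Nat.Coprime.coprime_dvd_left (orderOf_map_dvd (MulAut.conjNormal (H := Cfsg.pCore p G)) y) hord
  have hφ1 : φ = 1 := by
    apply hA5 φ hφord
    intro a ha
    apply Subtype.ext
    rw [hφ, MulAut.conjNormal_apply]
    have := (Subgroup.mem_centralizer_iff.mp hyC) (a : G) ha
    rw [← this]; group
  have hyT : y ∈ Cfsg.pCore p G := by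
    apply hc
    rw [Subgroup.mem_centralizer_iff]
    intro t ht
    have h1 : φ ⟨t, ht⟩ = ⟨t, ht⟩ := by rw [hφ1]; rfl
    have h2 := congrArg Subtype.val h1
    rw [hφ, MulAut.conjNormal_apply] at h2
    simp only [] at h2
    calc t * y = (y * t * y⁻¹) * y := by rw [h2]
      _ = y * t := by group
  obtain ⟨j, hj⟩ := hTp ⟨y, hyT⟩
  have hj' : y ^ (p ^ j) = 1 := by
    have := congrArg Subtype.val hj
    simpa using this
  have hy1 : y = 1 := by
    have h1 : orderOf y ∣ p ^ j := orderOf_dvd_of_pow_eq_one hj'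
    have h2 : orderOf y ∣ m := orderOf_dvd_of_pow_eq_one hym
    have h3 : orderOf y ∣ Nat.gcd (p ^ j) m := Nat.dvd_gcd h1 h2
    have h4 : Nat.gcd (p ^ j) m = 1 := Nat.Coprime.pow_left j hmcop.symm
    rw [h4, Nat.dvd_one] at h3
    exact orderOf_eq_one_iff.mp h3
  refine ⟨k, Subtype.ext ?_⟩
  rw [Subgroup.coe_pow, Subgroup.coe_one]
  exact hy1

/-- Let p be a prime, G a finite group with Sylow p-subgroup S, T = O_p(G), and A a characteristic subgroup of T with A/Z(A) elementary abelian, [T, A] ≤ Z(A), C_T(A) = Z(A), and such that every automorphism of T of order prime to p fixing A elementwise is trivial (a critical subgroup of T). Suppose that the lower or the upper K-infinity subgroup of S is not normal in G. Then there is an element g of S outside T with [A, g, g, g] ≤ Z(A) and [Z(A), g, g] = 1, and such that if moreover C_G(T) ≤ T then some chief factor X/Y of G with X ≤ A satisfies [X, g, g] ≤ Y but [X, g] ≰ Y. -/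
theorem result {G : Type u} [Group G] [Finite G] {p : ℕ} [Fact p.Prime] (S : Sylow p G) (A : Subgroup G) (hAT : A ≤ (Cfsg.pCore p G)) (hAchar : (A.subgroupOf (Cfsg.pCore p G)).Characteristic) (hA1 : ∀ a ∈ A, a ^ p ∈ A ⊓ Subgroup.centralizer ((A : Subgroup G) : Set G)) (hA2 : ⁅A, A⁆ ≤ Subgroup.centralizer ((A : Subgroup G) : Set G)) (hA3 : ⁅(Cfsg.pCore p G), A⁆ ≤ A ⊓ Subgroup.centralizer ((A : Subgroup G) : Set G)) (hA4 : (Cfsg.pCore p G) ⊓ Subgroup.centralizer ((A : Subgroup G) : Set G) = A ⊓ Subgroup.centralizer ((A : Subgroup G) : Set G)) (hA5 : ∀ φ : MulAut ↥(Cfsg.pCore p G), (orderOf φ).Coprime p → (∀ a : ↥(Cfsg.pCore p G), (a : G) ∈ A → φ a = a) → φ = 1) (hK : ¬ (Cfsg.inducedFunctor Cfsg.kInfLower (S : Subgroup G)).Normal ∨ ¬ (Cfsg.inducedFunctor Cfsg.kInfUpper (S : Subgroup G)).Normal) : ∃ g : G, g ∈ (S : Subgroup G) ∧ g ∉ (Cfsg.pCore p G) ∧ Cfsg.iterCommutator A (Subgroup.zpowers g) 3 ≤ A ⊓ Subgroup.centralizer ((A : Subgroup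 G) : Set G) ∧ ⁅⁅A ⊓ Subgroup.centralizer ((A : Subgroup G) : Set G), (Subgroup.zpowers g)⁆, (Subgroup.zpowers g)⁆ = ⊥ ∧ (Subgroup.centralizer (((Cfsg.pCore p G) : Subgroup G) : Set G) ≤ (Cfsg.pCore p G) → ∃ U V : Subgroup G, Cfsg.IsChiefFactor U V ∧ U ≤ A ∧ ⁅⁅U, (Subgroup.zpowers g)⁆, (Subgroup.zpowers g)⁆ ≤ V ∧ ¬ ⁅U, (Subgroup.zpowers g)⁆ ≤ V) := by
  have hTn : (Cfsg.pCore p G).Normal := Cfsg.Agent.Lib.Helper97.pCore_normal p
  have hAn : A.Normal := by
    have h1 : ((A.subgroupOf (Cfsg.pCore p G)).map (Cfsg.pCore p G).subtype).Normal :=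
      ConjAct.normal_of_characteristic_of_normal
    rwa [Subgroup.map_subgroupOf_eq_of_le hAT] at h1
  obtain ⟨g, hgS, hgT, h3, h4, h5⟩ := Cfsg.Agent.Lib.Helper51.exists_quadratic_chief S A hAT hA2 hA3 hK
  exact ⟨g, hgS, hgT, h3, h4, fun hc => h5 (isPGroup_centralizer_of_aut A hA5 hc)⟩

end Cfsg.Agent.S1982
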