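import Cfsg.Statements.S1983
import Cfsg.Agent.Lib.Helper51.KInfChiefQuad
import Cfsg.Agent.Lib.Helper51.ChiefStable
import Cfsg.Agent.Lib.Helper33.KInfMain
-- import your own Cfsg.Agent.* helpers here

set_option autoImplicit false
universe u
open Cfsg

namespace Cfsg.Agent.S1983

open Cfsg.Agent.Lib.Helper33 Cfsg.Agent.Lib.Helper51

/-- Let p be a prime, G a finite group with Sylow p-subgroup S and T = O_p(G). Suppose that the lower or the upper K-infinity subgroup of S is not normal in G. Then there is an element g of S outside T such that [X, g, g, g, g] ≤ Y for every chief factor X/Y of G with X ≤ T, and [Z(T), g, g] = 1; and if moreover C_G(T) ≤ T then some quotient group of G is not p-stable (in the normalizer form: some quadratically acting element of a normalizer fails to map into O_p of the automizer). -/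
theorem result {G : Type u} [Group G] [Finite G] {p : ℕ} [Fact p.Prime] (S : Sylow p G) (hK : ¬ (Cfsg.inducedFunctor Cfsg.kInfLower (S : Subgroup G)).Normal ∨ ¬ (Cfsg.inducedFunctor Cfsg.kInfUpper (S : Subgroup G)).Normal) : ∃ g : G, g ∈ (S : Subgroup G) ∧ g ∉ (Cfsg.pCore p G) ∧ (∀ U V : Subgroup G, Cfsg.IsChiefFactor U V → U ≤ (Cfsg.pCore p G) → Cfsg.iterCommutator U (Subgroup.zpowers g) 4 ≤ V) ∧ ⁅⁅((Cfsg.pCore p G) ⊓ Subgroup.centralizer (((Cfsg.pCore p G) : Subgroup G) : Set G)), (Subgroup.zpowers g)⁆, (Subgroup.zpowers g)⁆ = ⊥ ∧ (Subgroup.centralizer (((Cfsg.pCore p G) : Subgroup G) : Set G) ≤ (Cfsg.pCore p G) → ∃ (N : Subgroup G) (_ : N.Normal), ¬ Cfsg.IsNormalizerPStable p (G ⧸ N)) := by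
  have hQn : (Cfsg.pCore p G).Normal := Cfsg.Agent.Lib.Helper97.pCore_normal p
  have hQp : IsPGroup p (Cfsg.pCore p G) := Cfsg.Agent.Lib.Helper97.isPGroup_pCore p G
  have hQnil : Group.IsNilpotent ↥(Cfsg.pCore p G) := hQp.isNilpotent
  obtain ⟨B, hBT, hBQ, h4, h2⟩ := kInf_local S hK
  obtain ⟨g, hgB, hgQ⟩ := SetLike.not_le_iff_exists.mp hBQ
  have hz : Subgroup.zpowers g ≤ B := (Subgroup.zpowers_le).mpr hgB
  refine ⟨g, hBT hgB, hgQ, ?_, ?_, ?_⟩
  · intro U V hUV hUQ
    exact (iter_mono le_rfl hz 4).trans (h4 U V hUV hUQ)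
  · rw [eq_bot_iff, ← h2]
    exact Subgroup.commutator_mono (Subgroup.commutator_mono le_rfl hz) hz
  · intro hc
    obtain ⟨A, hAn, hAQ, hA2, hQA, hcent⟩ := exists_critical (Cfsg.pCore p G)
    have hCA : IsPGroup p (Subgroup.centralizer (A : Set G)) :=
      isPGroup_centralizer_of_critical (Cfsg.pCore p G) A hQp hAQ hQA hcent hc
    obtain ⟨g', _, _, _, _, h5⟩ := exists_quadratic_chief S A hAQ hA2 hQA hK
    obtain ⟨U, V, hUV, hUA, hquad, hmove⟩ := h5 hCA
    exact ⟨V, hUV.2.2.1,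
      not_isNormalizerPStable_quotient_of_chief hUV (hQp.to_le (hUA.trans hAQ)) g' hquad hmove hUV.2.2.1⟩

end Cfsg.Agent.S1983
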