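import Cfsg.Statements.S1986
import Cfsg.Agent.S1974
import Cfsg.Agent.S1985

set_option autoImplicit false
universe u
open Cfsg

namespace Cfsg.Agent.S1986

open Cfsg.Agent.Lib.Helper33

open scoped commutatorElement

/-- the local hypothesis of `S1974` for a functor with a quadratically acting subgroup outside `O_p` -/
theorem hloc_of_quadratic {G : Type u} [Group G] [Finite G] {p : ℕ} [Fact p.Prime]
    (W : ∀ (Q : Type u) [Group Q], Subgroup Q) (hW : Cfsg.IsCharPFunctor.{u} p W)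
    (hquad : ∀ (Y : Type u) [Group Y] [Finite Y] (T : Sylow p Y),
      ¬ (Cfsg.inducedFunctor W (T : Subgroup Y)).Normal →
      ∃ B : Subgroup Y, B ≤ (T : Subgroup Y) ∧ ¬ B ≤ Cfsg.pCore p Y ∧
        ⁅⁅Cfsg.pCore p Y ⊓ Subgroup.centralizer ((Cfsg.pCore p Y : Subgroup Y) : Set Y), B⁆, B⁆ = ⊥)
    (H T : Subgroup G) (hTH : T ≤ H) (hTp : IsPGroup p ↥T) (hidx : ¬ p ∣ (T).relIndex (H))
    (hnn : ¬ H ≤ Subgroup.normalizer ((Cfsg.inducedFunctor (G := G) W T : Subgroup G) : Set G)) :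
    ∃ g : G, g ∈ T ∧ g ∉ Cfsg.pCoreOf p H ∧
      ⁅⁅Cfsg.pCoreOf p H ⊓ Subgroup.centralizer ((Cfsg.pCoreOf p H : Subgroup G) : Set G), Subgroup.zpowers g⁆,
        Subgroup.zpowers g⁆ = ⊥ := by
  have hT : SylIn p T H := ⟨hTH, hTp, hidx⟩
  have hinj : Function.Injective H.subtype := H.subtype_injective
  have hTp' : IsPGroup p (T.subgroupOf H) := hTp.comap_subtype
  have hTmap : (T.subgroupOf H).map H.subtype = T := Subgroup.map_subgroupOf_eq_of_le hTH
  have hWT : Cfsg.inducedFunctor (G := G) W T =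
      (Cfsg.inducedFunctor (G := ↥H) W (T.subgroupOf H)).map H.subtype := by
    rw [← inducedFunctor_map_of_injOn W hW H.subtype (T.subgroupOf H) hTp'
      (fun x _ hx => hinj (by simpa using hx)), hTmap]
  have hnn' : ¬ (Cfsg.inducedFunctor (G := ↥H) W ((hT.toSylow : Sylow p ↥H) : Subgroup ↥H)).Normal := by
    intro hn
    apply hnn
    intro y hy
    rw [hWT, ← Cfsg.Agent.S1973.mem_normalizer_subtype_iff H _ ⟨y, hy⟩, SylIn.coe_toSylow] at *
    rw [Subgroup.normalizer_eq_top_iff.mpr hn]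
    exact Subgroup.mem_top _
  obtain ⟨B, hBT, hBQ, hquadB⟩ := hquad ↥H hT.toSylow hnn'
  obtain ⟨g', hg'B, hg'Q⟩ := SetLike.not_le_iff_exists.mp hBQ
  refine ⟨(g' : G), ?_, ?_, ?_⟩
  · have := hBT hg'B
    rw [SylIn.coe_toSylow] at this
    exact Subgroup.mem_subgroupOf.mp this
  · rintro ⟨z, hz, hzg⟩
    have : z = g' := Subtype.ext hzg
    exact hg'Q (this ▸ hz)
  · have h2 : ⁅⁅Cfsg.pCore p ↥H ⊓ Subgroup.centralizer ((Cfsg.pCore p ↥H : Subgroup ↥H) : Set ↥H),
        Subgroup.zpowers g'⁆, Subgroup.zpowers g'⁆ = ⊥ := by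
      rw [eq_bot_iff, ← hquadB]
      have hz : Subgroup.zpowers g' ≤ B := (Subgroup.zpowers_le).mpr hg'B
      exact Subgroup.commutator_mono (Subgroup.commutator_mono le_rfl hz) hz
    have h3 := congrArg (Subgroup.map H.subtype) h2
    rw [Subgroup.map_commutator, Subgroup.map_commutator, zc_map hinj, MonoidHom.map_zpowers, Subgroup.map_bot] at h3
    exact h3

/-- Let p be a prime, G a finite group with Sylow p-subgroup S, K the lower K-infinity subgroup of S, and Z the subgroup of p-th powers of elements of Z(S). Then every element of Z commuting with all of N_G(K) is weakly closed in S with respect to G, and every subgroup of Z that is normal in N_G(K) is weakly closed in S with respect to G. -/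
theorem result {G : Type u} [Group G] [Finite G] {p : ℕ} [Fact p.Prime] (S : Sylow p G) (Z : Subgroup G) (hZ : Z = Subgroup.closure ((fun z : G => z ^ p) '' (((S : Subgroup G) ⊓ Subgroup.centralizer (((S : Subgroup G) : Subgroup G) : Set G) : Subgroup G) : Set G))) : (∀ x ∈ Z ⊓ Subgroup.centralizer ((Subgroup.normalizer ((Cfsg.inducedFunctor Cfsg.kInfLower (S : Subgroup G) : Subgroup G) : Set G) : Subgroup G) : Set G), ∀ g : G, g * x * g⁻¹ ∈ (S : Subgroup G) → g * x * g⁻¹ = x) ∧ ∀ A : Subgroup G, A ≤ Z → Subgroup.normalizer ((Cfsg.inducedFunctor Cfsg.kInfLower (S : Subgroup G) : Subgroup G) : Set G) ≤ Subgroup.normalizer ((A : Subgroup G) : Set G) → Cfsg.IsWeaklyClosed A (S : Subgroup G) := by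
  have hW := isCharPFunctor_kInfLower.{u} p
  exact Cfsg.Agent.S1974.result S (Cfsg.inducedFunctor (G := G) Cfsg.kInfLower)
    (isConjugacyFunctor_inducedFunctor _ hW)
    (Cfsg.Agent.S1985.hWZ_of_center_le (p := p) _ (fun Q _ _ hQ =>
      (Cfsg.Agent.S1978.result hQ).2.1.trans (Cfsg.Agent.S1978.result hQ).1))
    (hloc_of_quadratic _ hW (fun Y _ _ T hT => by
      obtain ⟨B, hBT, hBQ, _, hq⟩ := kInf_local T (Or.inl hT)
      exact ⟨B, hBT, hBQ, hq⟩)) Z hZ

end Cfsg.Agent.S1986
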