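import Cfsg.Statements.S1988
import Cfsg.Agent.S2005
import Cfsg.Agent.S1978
import Cfsg.Agent.Lib.Helper51.KInfNPC
-- import your own Cfsg.Agent.* helpers here

set_option autoImplicit false
universe u
open Cfsg

namespace Cfsg.Agent.S1988

open Cfsg.Agent.Lib.Helper33 Cfsg.Agent.Lib.Helper51

/-- `C_S(K) ≤ K` for `K = K_∞(S)` viewed in `G`. -/
theorem inf_centralizer_kInfLower_le {G : Type u} [Group G] [Finite G] {p : ℕ} [Fact p.Prime]
    (S : Subgroup G) (hS : IsPGroup p S) :
    S ⊓ Subgroup.centralizer ((Cfsg.inducedFunctor Cfsg.kInfLower S : Subgroup G) : Set G) ≤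
      Cfsg.inducedFunctor Cfsg.kInfLower S := by
  rintro y ⟨hyS, hyC⟩
  have h1 := (Cfsg.Agent.S1978.result (P := ↥S) hS).1
  have h2 : (⟨y, hyS⟩ : ↥S) ∈ Subgroup.centralizer ((Cfsg.kInfLower ↥S : Subgroup ↥S) : Set ↥S) := by
    rw [Subgroup.mem_centralizer_iff]
    intro k hk
    have hk' : (k : G) ∈ Cfsg.inducedFunctor Cfsg.kInfLower S := ⟨k, hk, rfl⟩
    have := (Subgroup.mem_centralizer_iff.mp hyC) _ hk'
    exact Subtype.ext this
  exact ⟨⟨y, hyS⟩, h1 h2, rfl⟩

/-- Let p be an odd prime, G a finite group with Sylow p-subgroup S and K the lower K-infinity subgroup of S. If N_G(K) has a normal p-complement, or if N_G(K)/C_G(K) is a p-group (every element of N_G(K) of order prime to p centralizes K), then G has a normal p-complement. -/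
theorem result {G : Type u} [Group G] [Finite G] {p : ℕ} [Fact p.Prime] (hp : p ≠ 2) (S : Sylow p G) (h : Cfsg.HasNormalPComplement p ↥(Subgroup.normalizer ((Cfsg.inducedFunctor Cfsg.kInfLower (S : Subgroup G) : Subgroup G) : Set G)) ∨ ∀ g ∈ Subgroup.normalizer ((Cfsg.inducedFunctor Cfsg.kInfLower (S : Subgroup G) : Subgroup G) : Set G), (orderOf g).Coprime p → g ∈ Subgroup.centralizer ((Cfsg.inducedFunctor Cfsg.kInfLower (S : Subgroup G) : Subgroup G) : Set G)) : Cfsg.HasNormalPComplement p G := by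
  have hW := isCharPFunctor_kInfLower.{u} p
  have hSN : (S : Subgroup G) ≤ Subgroup.normalizer
      ((Cfsg.inducedFunctor Cfsg.kInfLower (S : Subgroup G) : Subgroup G) : Set G) :=
    Subgroup.le_normalizer.trans
      (Cfsg.Agent.Lib.Helper34.normalizer_le_normalizer_inducedFunctor _ hW _ S.isPGroup')
  have hN : Cfsg.HasNormalPComplement p ↥(Subgroup.normalizer
      ((Cfsg.inducedFunctor Cfsg.kInfLower (S : Subgroup G) : Subgroup G) : Set G)) := by
    rcases h with h | h
    · exact h
    · exact hasNPC_normalizer_of_automizer S _ hSN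
        (inf_centralizer_kInfLower_le (S : Subgroup G) S.isPGroup') h
  refine Cfsg.Agent.S2005.result Cfsg.kInfLower hW S hN ?_
  intro K R _ hc hnpc T hT
  have hPA := Cfsg.Agent.Lib.Helper97.isPAbelianP_of_sylow_coatom hnpc T hT
  exact (kInf_normal_of_secStable T hc (secStable_of_isPAbelianP hp hPA)).1

end Cfsg.Agent.S1988
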