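import Cfsg.Statements.S2795
import Cfsg.Agent.S0274
import Cfsg.Agent.Lib.Helper10.StrongDicksonProof
import Cfsg.Agent.Lib.Helper10.QdFreeStable
import Cfsg.Agent.Lib.Helper10.QdNotStable

set_option autoImplicit false
open Cfsg

namespace Cfsg.Agent.S2795

/-- For an odd prime p and a finite group G, the group Qd(p) is not involved in G if and only if every section of G is p-stable in the normalizer form (for every p-subgroup P of the section and every g in its normalizer acting quadratically on P, the image of g in N(P)/C(P) lies in O_p(N(P)/C(P))). -/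
theorem result {G : Type*} [Group G] [Finite G] {p : ℕ} [Fact p.Prime] (hp : p ≠ 2) : ¬ Cfsg.Involves ↥(Cfsg.qd p) G ↔ ∀ (K R : Subgroup G) [hR : (R.subgroupOf K).Normal], Cfsg.IsNormalizerPStable p (K ⧸ R.subgroupOf K) := by
  have hSD : Cfsg.Agent.Lib.Helper10.StrongDickson p :=
    Cfsg.Agent.Lib.Helper10.strongDickson_of_weak p hp
      (fun F _ _ _ H hH => Cfsg.Agent.S0274.result p hp H hH)
  constructor
  · intro hfree K R hR
    apply Cfsg.Agent.Lib.Helper10.isNormalizerPStable_of_qdfree hp hSD
    intro P _ _ hinv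
    apply hfree
    exact Cfsg.Agent.Lib.Helper88.Involves.of_subgroup K
      (Cfsg.Agent.Lib.Helper10.involves_of_quotient' (R.subgroupOf K)
        (Cfsg.Agent.Lib.Helper88.Involves.of_subgroup _ hinv))
  · rintro hall ⟨K, R, hN, ⟨e⟩⟩
    exact Cfsg.Agent.Lib.Helper10.not_isNormalizerPStable_qd
      (Cfsg.Agent.Lib.Helper10.isNormalizerPStable_of_mulEquiv e (hall K R))

end Cfsg.Agent.S2795
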