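import Cfsg.Statements.S1989
import Cfsg.Agent.S2795
import Cfsg.Agent.Lib.Helper33.KInfPStableFusion
import Cfsg.Agent.Lib.Helper33.QdFusion

set_option autoImplicit false
universe u
open Cfsg

namespace Cfsg.Agent.S1989

open Cfsg.Agent.Lib.Helper33

/-- in a section isomorphic to `Qd(p)` the lower K-infinity subgroup of some Sylow subgroup does not control strong fusion -/
theorem not_controls_of_equiv_qd {G' : Type u} [Group G'] {p : ℕ} [Fact p.Prime] (e : G' ≃* ↥(Cfsg.qd p))
    (h : ∀ T : Sylow p G', Cfsg.ControlsStrongFusion p (Cfsg.inducedFunctor (G := G') Cfsg.kInfLower (T : Subgroup G'))) :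
    False := by
  obtain ⟨T, a, g, hcl, haT, hgaT, hno⟩ := exists_sylow_not_control e
  have hK : Cfsg.kInfLower ↥(T : Subgroup G') = ⊤ := by
    apply kInfLower_eq_top_of_classTwo
    rw [Subgroup.commutator_le]
    intro x _ y _
    rw [Subgroup.mem_centralizer_iff]
    intro z _
    apply Subtype.ext
    have := hcl x x.2 y y.2 z z.2
    simp only [commutatorElement_def, Subgroup.coe_mul, Subgroup.coe_inv] at this ⊢
    exact this.symm
  have hind : Cfsg.inducedFunctor (G := G') Cfsg.kInfLower (T : Subgroup G') = (T : Subgroup G') := by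
    unfold Cfsg.inducedFunctor
    rw [hK, ← MonoidHom.range_eq_map, Subgroup.range_subtype]
  obtain ⟨T', hle, hall⟩ := h T
  rw [hind] at hle hall
  have hTT' : (T' : Subgroup G') = (T : Subgroup G') := T.is_maximal' T'.isPGroup' hle
  have hA : ({a} : Set G') ⊆ (T' : Subgroup G') := by
    intro x hx
    rw [Set.mem_singleton_iff.mp hx, SetLike.mem_coe, hTT']
    exact haT
  obtain ⟨_, hctl⟩ := hall {a} hA
  obtain ⟨x, hx, hxa⟩ := hctl g (by
    rintro _ ⟨b, hb, rfl⟩
    rw [Set.mem_singleton_iff.mp hb, SetLike.mem_coe, hTT']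
    exact hgaT)
  exact hno x hx (hxa a (Set.mem_singleton a)).symm

/-- Let p be an odd prime and G a finite group. Then Qd(p) (the natural semidirect product of an elementary abelian group of order p² by SL₂(p)) is not involved in G if and only if, in every section K/R of G and for every Sylow p-subgroup T of K/R, the lower K-infinity subgroup of T controls strong fusion in K/R. -/
theorem result {G : Type u} [Group G] [Finite G] {p : ℕ} [Fact p.Prime] (hp : p ≠ 2) : ¬ Cfsg.Involves ↥(Cfsg.qd p) G ↔ ∀ (K R : Subgroup G) [hR : (R.subgroupOf K).Normal], ∀ T : Sylow p (↥K ⧸ R.subgroupOf K), Cfsg.ControlsStrongFusion p (Cfsg.inducedFunctor (G := (↥K ⧸ R.subgroupOf K)) Cfsg.kInfLower (T : Subgroup (↥K ⧸ R.subgroupOf K))) := by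
  constructor
  · intro hfree K R hR T
    have hst := (Cfsg.Agent.S2795.result (G := G) hp).mp hfree
    have hsec : SecProp (ECN p) G := secProp_ecn_of_hst hst
    have hsecY : SecProp (ECN p) (↥K ⧸ R.subgroupOf K) := (hsec.subgroup K).quotient (R.subgroupOf K)
    exact controlsStrongFusion_of_secPStable _ (isCharPFunctor_kInfLower p)
      (fun _ _ _ hs hc T => (kInf_normal_of_secPStable hs hc T).1) hsecY T
  · intro h
    rintro ⟨K, R, hR, ⟨e⟩⟩
    exact not_controls_of_equiv_qd e (fun T => h K R T)

end Cfsg.Agent.S1989
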