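import Cfsg.Statements.S1992
import Cfsg.Agent.S1991
import Cfsg.Agent.S0144
import Cfsg.Agent.Lib.Helper33.NormalIndexP

set_option autoImplicit false
open Cfsg

namespace Cfsg.Agent.S1992


theorem isPGroup_of_normal_index_prime {G : Type*} [Group G] [Finite G]
    (h : ∀ q : ℕ, q.Prime → q ∣ Nat.card G → ∀ Q : Sylow q G, Subgroup.normalizer ((Q : Subgroup G) : Set G) = Q)
    (N : Subgroup G) [hN : N.Normal] (r : ℕ) [hr : Fact r.Prime] (hNr : N.index = r) : IsPGroup r G := by
  by_contra hnot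
  have hcard : Nat.card G ≠ 0 := Nat.card_pos.ne'
  have hex : ∃ q : ℕ, q.Prime ∧ q ∣ Nat.card G ∧ q ≠ r := by
    by_contra hcon
    push Not at hcon
    apply hnot
    have := Nat.eq_prime_pow_of_unique_prime_dvd hcard (fun {d} hd hdvd => hcon d hd hdvd)
    exact IsPGroup.of_card this
  obtain ⟨q, hq, hqdvd, hqr⟩ := hex
  have : Fact q.Prime := ⟨hq⟩
  obtain Q : Sylow q G := Classical.arbitrary _
  have hQN : (Q : Subgroup G) ≤ N := by
    intro x hx
    obtain ⟨k, hk⟩ := (Q.isPGroup' ⟨x, hx⟩)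
    have hk' : x ^ (q ^ k) = 1 := by simpa using congrArg Subtype.val hk
    rw [← QuotientGroup.eq_one_iff]
    have h1 : (x : G ⧸ N) ^ (q ^ k) = 1 := by rw [← QuotientGroup.mk_pow, hk', QuotientGroup.mk_one]
    have h2 : (x : G ⧸ N) ^ r = 1 := by
      have : Nat.card (G ⧸ N) = r := by rw [← Subgroup.index_eq_card]; exact hNr
      rw [← this]
      exact pow_card_eq_one'
    have hcop : Nat.Coprime (q ^ k) r := by
      apply Nat.Coprime.pow_left
      exact (Nat.coprime_primes hq hr.out).mpr hqr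
    have h3 := orderOf_dvd_of_pow_eq_one h1
    have h4 := orderOf_dvd_of_pow_eq_one h2
    have h5 : orderOf (x : G ⧸ N) ∣ 1 := by
      rw [← Nat.Coprime.gcd_eq_one hcop]
      exact Nat.dvd_gcd h3 h4
    exact orderOf_eq_one_iff.mp (Nat.dvd_one.mp h5)
  have hfr := Sylow.normalizer_sup_eq_top (Q.subtype hQN)
  have hmap : ((Q.subtype hQN : Sylow q ↥N) : Subgroup ↥N).map N.subtype = (Q : Subgroup G) := by
    rw [Sylow.coe_subtype]
    exact Subgroup.map_subgroupOf_eq_of_le hQN
  rw [hmap, h q hq hqdvd Q, sup_eq_right.mpr hQN] at hfr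
  rw [hfr, Subgroup.index_top] at hNr
  exact hr.out.one_lt.ne hNr

theorem exists_normal_index_prime_of_solvable {G : Type*} [Group G] [Finite G] [Nontrivial G]
    (hsol : Group.IsSolvable G) : ∃ (N : Subgroup G) (r : ℕ), N.Normal ∧ r.Prime ∧ N.index = r := by
  have hlt := Group.IsSolvable.commutator_lt_top_of_nontrivial G
  have hcard : Nat.card (Abelianization G) ≠ 1 := by
    intro h1
    have : (commutator G).index = 1 := by rw [Subgroup.index_eq_card]; exact h1
    rw [Subgroup.index_eq_one] at this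
    exact hlt.ne this
  obtain ⟨r, hr, hrdvd⟩ := Nat.exists_prime_and_dvd hcard
  have : Fact r.Prime := ⟨hr⟩
  obtain ⟨H, hH⟩ := Cfsg.Agent.Lib.Helper33.exists_index_eq_prime_of_comm (p := r) (A := Abelianization G) hrdvd
  refine ⟨H.comap Abelianization.of, r, inferInstance, hr, ?_⟩
  rw [Subgroup.index_comap_of_surjective _ (show Function.Surjective (Abelianization.of : G →* Abelianization G) from QuotientGroup.mk'_surjective _)]
  exact hH

theorem eq_two_pow_mul_three_pow {n : ℕ} (hn : n ≠ 0) (h : ∀ q : ℕ, q.Prime → q ∣ n → q = 2 ∨ q = 3) :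
    ∃ a b : ℕ, n = 2 ^ a * 3 ^ b := by
  obtain ⟨a, m, hm2, hnm⟩ := Nat.exists_eq_pow_mul_and_not_dvd hn 2 (by norm_num)
  have hm0 : m ≠ 0 := by
    rintro rfl
    simp at hnm
    exact hn hnm
  obtain ⟨b, m', hm3, hmm⟩ := Nat.exists_eq_pow_mul_and_not_dvd hm0 3 (by norm_num)
  have hm'1 : m' = 1 := by
    by_contra hne
    obtain ⟨q, hq, hqd⟩ := Nat.exists_prime_and_dvd hne
    have hqn : q ∣ n := by
      rw [hnm, hmm]
      exact Dvd.dvd.mul_left (Dvd.dvd.mul_left hqd _) _
    rcases h q hq hqn with rfl | rfl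
    · apply hm2
      rw [hmm]
      exact Dvd.dvd.mul_left hqd _
    · exact hm3 hqd
  refine ⟨a, b, ?_⟩
  rw [hnm, hmm, hm'1, mul_one]

/-- Let G be a finite group in which, for every prime q dividing the order of G, every Sylow q-subgroup is its own normalizer. Then the order of G is a power of a single prime (G is a q-group for some prime q; for G trivial any prime works). -/
theorem result {G : Type*} [Group G] [Finite G] (h : ∀ q : ℕ, q.Prime → q ∣ Nat.card G → ∀ Q : Sylow q G, Subgroup.normalizer ((Q : Subgroup G) : Set G) = Q) : ∃ q : ℕ, q.Prime ∧ IsPGroup q G := by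
  by_cases htriv : Nat.card G = 1
  · exact ⟨2, Nat.prime_two, IsPGroup.of_card (n := 0) (by rw [htriv, pow_zero])⟩
  by_cases h5 : ∃ p : ℕ, p.Prime ∧ 5 ≤ p ∧ p ∣ Nat.card G
  · obtain ⟨p, hp, hp5, hpdvd⟩ := h5
    have : Fact p.Prime := ⟨hp⟩
    obtain S : Sylow p G := Classical.arbitrary _
    have hS : (S : Subgroup G) ≠ ⊥ := Sylow.ne_bot_of_dvd_card S hpdvd
    have hN : ∀ g ∈ Subgroup.normalizer (((S : Subgroup G) : Subgroup G) : Set G), (orderOf g).Coprime p →
        g ∈ Subgroup.centralizer (((S : Subgroup G) : Subgroup G) : Set G) := by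
      intro g hg hcop
      rw [h p hp hpdvd S] at hg
      obtain ⟨k, hk⟩ := (S.isPGroup' ⟨g, hg⟩)
      have hk' : g ^ (p ^ k) = 1 := by simpa using congrArg Subtype.val hk
      have h1 : orderOf g ∣ p ^ k := orderOf_dvd_of_pow_eq_one hk'
      have h2 : orderOf g = 1 := Nat.Coprime.eq_one_of_dvd (Nat.Coprime.pow_right k hcop) h1
      rw [orderOf_eq_one_iff.mp h2]
      exact Subgroup.one_mem _
    obtain ⟨N, hNn, hNp⟩ := Cfsg.Agent.S1991.result hp5 S hS hN
    exact ⟨p, hp, isPGroup_of_normal_index_prime h N p hNp⟩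
  · push Not at h5
    have hnt : Nontrivial G := by
      rw [← Finite.one_lt_card_iff_nontrivial]
      have : 0 < Nat.card G := Nat.card_pos
      omega
    have h23 : ∀ q : ℕ, q.Prime → q ∣ Nat.card G → q = 2 ∨ q = 3 := by
      intro q hq hqd
      have hlt : q < 5 := by
        by_contra hge
        exact h5 q hq (by omega) hqd
      have h2 := hq.two_le
      interval_cases q
      · left; rfl
      · right; rfl
      · exact absurd hq (by norm_num)
    obtain ⟨a, b, hab⟩ := eq_two_pow_mul_three_pow Nat.card_pos.ne' h23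
    have hsol : Group.IsSolvable G := Cfsg.Agent.S0144.result 2 3 a b Nat.prime_two Nat.prime_three hab
    obtain ⟨N, r, hNn, hr, hNr⟩ := exists_normal_index_prime_of_solvable hsol
    have : Fact r.Prime := ⟨hr⟩
    exact ⟨r, hr, isPGroup_of_normal_index_prime h N r hNr⟩

end Cfsg.Agent.S1992
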