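import Cfsg.Statements.S1996
import Cfsg.Agent.Lib.Helper33.SectionFusion
-- import your own Cfsg.Agent.* helpers here

set_option autoImplicit false
universe u
open Cfsg

namespace Cfsg.Agent.S1996

open Cfsg.Agent.Lib.Helper33

/-- If `Y = N_Y(W₁(T)) N_Y(W₂(T))` for every Sylow `p`-subgroup `T` of `Y`, then `{W₁, W₂}` controls strong fusion in `Y`. -/
theorem familyControls_of_factorization {p : ℕ} [Fact p.Prime] {Y : Type u} [Group Y] [Finite Y]
    (W₁ W₂ : ∀ (Q : Type u) [Group Q], Subgroup Q) (hW₁ : Cfsg.IsCharPFunctor.{u} p W₁)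
    (hW₂ : Cfsg.IsCharPFunctor.{u} p W₂)
    (h : ∀ T : Sylow p Y, ∀ x : Y,
      ∃ a ∈ Subgroup.normalizer ((Cfsg.inducedFunctor W₁ (T : Subgroup Y) : Subgroup Y) : Set Y),
      ∃ b ∈ Subgroup.normalizer ((Cfsg.inducedFunctor W₂ (T : Subgroup Y) : Subgroup Y) : Set Y), x = a * b) :
    Cfsg.FamilyControlsStrongFusionIn p (indFam {W₁, W₂} Y) ⊤ := by
  obtain T : Sylow p Y := Classical.arbitrary _
  have hTp : IsPGroup p (T : Subgroup Y) := T.isPGroup'
  have hcf₁ := isConjugacyFunctor_inducedFunctor W₁ hW₁ (G := Y)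
  have hcf₂ := isConjugacyFunctor_inducedFunctor W₂ hW₂ (G := Y)
  have hTN₁ : (T : Subgroup Y) ≤ Subgroup.normalizer ((Cfsg.inducedFunctor W₁ (T : Subgroup Y) : Subgroup Y) : Set Y) :=
    Subgroup.le_normalizer.trans (cf_normalizer_le hcf₁ hTp)
  have hTN₂ : (T : Subgroup Y) ≤ Subgroup.normalizer ((Cfsg.inducedFunctor W₂ (T : Subgroup Y) : Subgroup Y) : Set Y) :=
    Subgroup.le_normalizer.trans (cf_normalizer_le hcf₂ hTp)
  rw [familyControls_iff_good]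
  refine ⟨(T : Subgroup Y), sylIn_top T, ?_⟩
  intro A g _ hA hgA
  obtain ⟨a, ha, b, hb, rfl⟩ := h T g
  have hAT : Subgroup.closure A ≤ (T : Subgroup Y) := (Subgroup.closure_le _).mpr hA
  -- the intermediate image lies in `N₁ ∩ N₂`
  have hle₂ : cj b (Subgroup.closure A) ≤
      Subgroup.normalizer ((Cfsg.inducedFunctor W₂ (T : Subgroup Y) : Subgroup Y) : Set Y) := by
    have := cj_mono (g := b) (hAT.trans hTN₂)
    rwa [cj_eq_self_of_mem hb] at this
  have hle₁ : cj b (Subgroup.closure A) ≤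
      Subgroup.normalizer ((Cfsg.inducedFunctor W₁ (T : Subgroup Y) : Subgroup Y) : Set Y) := by
    have h1 : cj (a * b) (Subgroup.closure A) ≤ (T : Subgroup Y) := lc_subset_subgroup_iff.mp hgA
    have h2 := cj_mono (g := a⁻¹) (h1.trans hTN₁)
    rw [cj_mul, cj_inv_cj, cj_eq_self_of_mem (inv_mem ha)] at h2
    exact h2
  have hsyl : SylIn p (T : Subgroup Y)
      (Subgroup.normalizer ((Cfsg.inducedFunctor W₁ (T : Subgroup Y) : Subgroup Y) : Set Y) ⊓
        Subgroup.normalizer ((Cfsg.inducedFunctor W₂ (T : Subgroup Y) : Subgroup Y) : Set Y)) :=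
    sylIn_of_sylow_le T (le_inf hTN₁ hTN₂)
  obtain ⟨y, hy, hyle⟩ := hsyl.exists_cj_le (le_inf hle₁ hle₂) (isPGroup_cj (hTp.to_le hAT))
  have hybA : lc (y * b) A ⊆ (T : Subgroup Y) := by
    rw [lc_subset_subgroup_iff, cj_mul]
    exact hyle
  have hmem₂ : y * b ∈ stepSet (indFam {W₁, W₂} Y) ⊤ (T : Subgroup Y) :=
    ⟨_, ⟨W₂, by simp, rfl⟩, ⟨Subgroup.mem_top _, mul_mem hy.2 hb⟩⟩
  have hmem₁ : a * b * (y * b)⁻¹ ∈ stepSet (indFam {W₁, W₂} Y) ⊤ (T : Subgroup Y) := by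
    have h3 : a * b * (y * b)⁻¹ ∈
        Subgroup.normalizer ((Cfsg.inducedFunctor W₁ (T : Subgroup Y) : Subgroup Y) : Set Y) := by
      have e : a * b * (y * b)⁻¹ = a * y⁻¹ := by group
      rw [e]
      exact mul_mem ha (inv_mem hy.1)
    exact ⟨_, ⟨W₁, by simp, rfl⟩, ⟨Subgroup.mem_top _, h3⟩⟩
  refine ⟨a * b, ?_, fun _ _ => rfl⟩
  exact Relation.ReflTransGen.tail (Reach.single hmem₂ hybA) ⟨hmem₁, hgA⟩

/-- Let p be a prime, G a finite group and W₁, W₂ two isomorphism-invariant p-group functors (W assigns to every group Q a subgroup W(Q), nontrivial whenever Q is a nontrivial finite p-group, and every isomorphism from a finite p-group Q onto a group R carries W(Q) onto W(R)). Suppose that G* = N_{G*}(W₁(S*)) N_{G*}(W₂(S*)) whenever G* = K/R is a section of G with C_{G*}(O_p(G*)) ≤ O_p(G*) and S* is a Sylow p-subgroup of G*. Then the pair {W₁, W₂} controls strong fusion in G. -/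
theorem result {G : Type u} [Group G] [Finite G] {p : ℕ} [Fact p.Prime] (W₁ W₂ : ∀ (Q : Type u) [Group Q], Subgroup Q) (hW₁ : Cfsg.IsCharPFunctor.{u} p W₁) (hW₂ : Cfsg.IsCharPFunctor.{u} p W₂) (hfac : ∀ (K R : Subgroup G) [hR : (R.subgroupOf K).Normal], Subgroup.centralizer ((Cfsg.pCore p (↥K ⧸ R.subgroupOf K) : Subgroup (↥K ⧸ R.subgroupOf K)) : Set (↥K ⧸ R.subgroupOf K)) ≤ Cfsg.pCore p (↥K ⧸ R.subgroupOf K) → ∀ T : Sylow p (↥K ⧸ R.subgroupOf K), ∀ x : (↥K ⧸ R.subgroupOf K), ∃ a ∈ Subgroup.normalizer ((Cfsg.inducedFunctor (G := (↥K ⧸ R.subgroupOf K)) W₁ (T : Subgroup (↥K ⧸ R.subgroupOf K)) : Subgroup (↥K ⧸ R.subgroupOf K)) : Set (↥K ⧸ R.subgroupOf K)), ∃ b ∈ Subgroup.normalizer ((Cfsg.inducedFunctor (G := (↥K ⧸ R.subgroupOf K)) W₂ (T : Subgroup (↥K ⧸ R.subgroupOf K)) : Subgroup (↥K ⧸ R.subgroupOf K)) : Set (↥K ⧸ R.subgroupOf K)), x = a * b) : Cfsg.FamilyControlsStrongFusionIn p {Cfsg.inducedFunctor (G := G)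 W₁, Cfsg.inducedFunctor (G := G) W₂} ⊤ := by
  have h𝓦 : ∀ W ∈ ({W₁, W₂} : Set (∀ (Q : Type u) [Group Q], Subgroup Q)), Cfsg.IsCharPFunctor.{u} p W := by
    rintro W (rfl | rfl)
    · exact hW₁
    · exact hW₂
  have hsec : SecProp (FusProp p {W₁, W₂}) G :=
    secProp_of_sections (fun X Y _ _ _ e h => fusProp_of_mulEquiv h𝓦 X Y e h)
      (fun K R _ hcon => familyControls_of_factorization W₁ W₂ hW₁ hW₂ (hfac K R hcon))
  have := familyControls_of_secProp h𝓦 (Nat.card G) G rfl hsec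
  have e : indFam {W₁, W₂} G = {Cfsg.inducedFunctor (G := G) W₁, Cfsg.inducedFunctor (G := G) W₂} := by
    unfold indFam
    rw [Set.image_pair]
  rwa [e] at this

end Cfsg.Agent.S1996
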