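import Cfsg.Statements.S1998
import Cfsg.Agent.Lib.Helper33.TransferMinimal

set_option autoImplicit false
universe u
open Cfsg

namespace Cfsg.Agent.S1998

open Cfsg.Agent.Lib.Helper33 in
/-- control of transfer in the image of a subgroup under a surjective homomorphism, from the hypothesis on sections -/
theorem control_of_section_hom {G : Type u} [Group G] [Finite G] {p : ℕ} [Fact p.Prime]
    (𝓦 : Set (∀ (Q : Type u) [Group Q], Subgroup Q)) (h𝓦 : ∀ W ∈ 𝓦, Cfsg.IsCharPFunctor.{u} p W)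
    (hsec : ∀ (K R : Subgroup G) [hR : (R.subgroupOf K).Normal], (K = ⊤ → R ≠ ⊥) →
      Cfsg.FamilyControlsTransferIn p ((fun W => Cfsg.inducedFunctor (G := (↥K ⧸ R.subgroupOf K)) W) '' 𝓦) ⊤)
    (K : Subgroup G) (Y : Type u) [Group Y] (φ : ↥K →* Y) (hφ : Function.Surjective φ)
    (hside : K = ⊤ → φ.ker ≠ ⊥) :
    Cfsg.FamilyControlsTransferIn p (indFam 𝓦 Y) ⊤ := by
  have hR : (φ.ker.map K.subtype).subgroupOf K = φ.ker :=
    Subgroup.comap_map_eq_self_of_injective K.subtype_injective φ.ker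
  have : ((φ.ker.map K.subtype).subgroupOf K).Normal := by rw [hR]; infer_instance
  have h1 := hsec K (φ.ker.map K.subtype) (by
    intro hK hbot
    apply hside hK
    exact (Subgroup.map_eq_bot_iff_of_injective _ K.subtype_injective).mp hbot)
  exact familyControlsTransfer_top_of_mulEquiv h𝓦
    ((QuotientGroup.quotientMulEquivOfEq hR).trans (QuotientGroup.quotientKerEquivOfSurjective φ hφ)) h1

/-- Let p be a prime, G a finite group with Sylow p-subgroup S, and 𝓦 a nonempty set of isomorphism-invariant p-group functors (W assigns to every group Q a subgroup W(Q), nontrivial whenever Q is a nontrivial finite p-group, and every isomorphism from a finite p-group Q onto a group R carries W(Q) onto W(R)). Suppose the induced conjugacy functors control transfer in every section of G other than G itself, but not in G. Let T be the subgroup generated by the S ∩ (N_G(W(S)))', W ∈ 𝓦, and M = N_G(T ∩ O_p(G)). Then: C_G(O_p(G)) ≤ O_p(G); M is a proper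 subgroup of G containing every proper subgroup of G that contains S (the unique maximal subgroup over S); [O_p(G), M] ≤ O_p(G) ∩ M' ≤ O_p(G) ∩ T; and every element u of S outside O_p(G) satisfies [X, u, …, u] ≰ Y with p − 1 entries u, for some chief factor X/Y of G with X ≤ O_p(G). -/
theorem result {G : Type u} [Group G] [Finite G] {p : ℕ} [Fact p.Prime] (S : Sylow p G) (𝓦 : Set (∀ (Q : Type u) [Group Q], Subgroup Q)) (h𝓦 : ∀ W ∈ 𝓦, Cfsg.IsCharPFunctor.{u} p W) (hne : 𝓦.Nonempty) (hsec : ∀ (K R : Subgroup G) [hR : (R.subgroupOf K).Normal], (K = ⊤ → R ≠ ⊥) → Cfsg.FamilyControlsTransferIn p ((fun W => Cfsg.inducedFunctor (G := (↥K ⧸ R.subgroupOf K)) W) '' 𝓦) ⊤) (hG : ¬ Cfsg.FamilyControlsTransferIn p ((fun W => Cfsg.inducedFunctor (G := G) W) '' 𝓦) ⊤) (T M : Subgroup G) (hT : T = (⨆ W ∈ 𝓦, (S : Subgroup G) ⊓ ⁅Subgroup.normalizer ((Cfsg.inducedFunctor (G := G) W (S : Subgroup G) : Subgroup G) : Set G), Subgroup.normalizer ((Cfsg.inducedFunctor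 (G := G) W (S : Subgroup G) : Subgroup G) : Set G)⁆)) (hM : M = Subgroup.normalizer ((T ⊓ Cfsg.pCore p G : Subgroup G) : Set G)) : Subgroup.centralizer ((Cfsg.pCore p G : Subgroup G) : Set G) ≤ Cfsg.pCore p G ∧ (M ≠ ⊤ ∧ ∀ H : Subgroup G, (S : Subgroup G) ≤ H → H ≠ ⊤ → H ≤ M) ∧ (⁅Cfsg.pCore p G, M⁆ ≤ Cfsg.pCore p G ⊓ ⁅M, M⁆ ∧ Cfsg.pCore p G ⊓ ⁅M, M⁆ ≤ Cfsg.pCore p G ⊓ T) ∧ ∀ u : G, u ∈ (S : Subgroup G) → u ∉ Cfsg.pCore p G → ∃ U V : Subgroup G, Cfsg.IsChiefFactor U V ∧ U ≤ Cfsg.pCore p G ∧ ¬ Cfsg.iterCommutator U (Subgroup.zpowers u) (p - 1) ≤ V := by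
  have IHsub : ∀ H : Subgroup G, H ≠ ⊤ →
      Cfsg.FamilyControlsTransferIn p (Cfsg.Agent.Lib.Helper33.indFam 𝓦 G) H := by
    intro H hH
    apply Cfsg.Agent.Lib.Helper33.familyControlsTransfer_subgroup_of_top h𝓦 H
    exact control_of_section_hom 𝓦 h𝓦 hsec H ↥H (MonoidHom.id ↥H) Function.surjective_id
      (fun h => absurd h hH)
  have IHquot : ∀ (N : Subgroup G) [N.Normal], N ≠ ⊥ →
      Cfsg.FamilyControlsTransferIn p (Cfsg.Agent.Lib.Helper33.indFam 𝓦 (G ⧸ N)) ⊤ := by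
    intro N _ hN
    refine control_of_section_hom 𝓦 h𝓦 hsec ⊤ (G ⧸ N)
      ((QuotientGroup.mk' N).comp (Subgroup.topEquiv (G := G)).toMonoidHom)
      ((QuotientGroup.mk'_surjective N).comp (Subgroup.topEquiv (G := G)).surjective) ?_
    intro _ hbot
    apply hN
    rw [eq_bot_iff]
    intro x hx
    have h1 : (⟨x, Subgroup.mem_top x⟩ : ↥(⊤ : Subgroup G)) ∈
        ((QuotientGroup.mk' N).comp (Subgroup.topEquiv (G := G)).toMonoidHom).ker := by
      rw [MonoidHom.mem_ker]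
      show QuotientGroup.mk' N x = 1
      rw [QuotientGroup.mk'_apply, QuotientGroup.eq_one_iff]
      exact hx
    rw [hbot, Subgroup.mem_bot] at h1
    exact congrArg Subtype.val h1
  have hTD : T = ⨆ W' ∈ Cfsg.Agent.Lib.Helper33.indFam 𝓦 G,
      Cfsg.Agent.Lib.Helper33.focalTerm W' ⊤ (S : Subgroup G) := by
    rw [hT]
    unfold Cfsg.Agent.Lib.Helper33.indFam Cfsg.Agent.Lib.Helper33.focalTerm
    rw [iSup_image]
    simp only [top_inf_eq]
  exact Cfsg.Agent.Lib.Helper33.minimal_failure_structure h𝓦 hne IHsub IHquot hG S T M hTD hM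

end Cfsg.Agent.S1998
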