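import Cfsg.Statements.S2001
import Cfsg.Agent.Lib.Helper33.TransferControl2
import Cfsg.Agent.S1968

set_option autoImplicit false
open Cfsg

namespace Cfsg.Agent.S2001

open Cfsg.Agent.Lib.Helper33
open scoped Pointwise

variable {G : Type*} [Group G] {p : ℕ}

local notation "NG(" V ")" => Subgroup.normalizer (SetLike.coe (V : Subgroup _))
local notation "CG(" V ")" => Subgroup.centralizer (SetLike.coe (V : Subgroup _))

/-- the local hypothesis, transported to the Sylow subgroup `N_P(H)` of `N_G(H)` -/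
theorem local_at_normalizer [Finite G] [Fact p.Prime] (P : Sylow p G) (W V : Subgroup G → Subgroup G)
    (hW : Cfsg.IsConjugacyFunctor p W) (hV : Cfsg.IsConjugacyFunctor p V)
    (H : Subgroup G) (hfn : FullyNormalized p (P : Subgroup G) H)
    (hloc : ∃ Q : Subgroup G, Q ≤ NG(H) ∧ IsPGroup p ↥Q ∧ ¬ p ∣ (Q).relIndex NG(H) ∧
      ∀ x : G, x ∈ Q ⊓ ⁅NG(H), NG(H)⁆ ↔
        ∃ a ∈ Q ⊓ ⁅NG(H) ⊓ NG(W Q), NG(H) ⊓ NG(W Q)⁆,
        ∃ b ∈ Q ⊓ ⁅NG(H) ⊓ CG(V Q), NG(H) ⊓ CG(V Q)⁆, x = a * b) :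
    ∀ x ∈ ((P : Subgroup G) ⊓ NG(H)) ⊓ ⁅NG(H), NG(H)⁆,
      ∃ a ∈ ((P : Subgroup G) ⊓ NG(H)) ⊓ ⁅NG(H) ⊓ NG(W ((P : Subgroup G) ⊓ NG(H))), NG(H) ⊓ NG(W ((P : Subgroup G) ⊓ NG(H)))⁆,
      ∃ b ∈ ((P : Subgroup G) ⊓ NG(H)) ⊓ ⁅NG(H) ⊓ CG(V ((P : Subgroup G) ⊓ NG(H))), NG(H) ⊓ CG(V ((P : Subgroup G) ⊓ NG(H)))⁆,
        x = a * b := by
  obtain ⟨Q, hQ1, hQ2, hQ3, hQ4⟩ := hloc
  have hQsyl : SylIn p Q NG(H) := ⟨hQ1, hQ2, hQ3⟩
  obtain ⟨u, hu, huQ⟩ := hfn.sylIn.exists_cj_eq hQsyl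
  set R := (P : Subgroup G) ⊓ NG(H) with hR
  have huN : cj u NG(H) = NG(H) := cj_eq_self_of_mem hu
  intro x hx
  -- y = u⁻¹ x u ∈ Q ∩ N(H)'
  have hy : u⁻¹ * x * u ∈ Q ⊓ ⁅NG(H), NG(H)⁆ := by
    have h1 : x ∈ cj u (Q ⊓ ⁅NG(H), NG(H)⁆) := by
      rw [cj_inf, cj_commutator, huN, huQ]; exact hx
    exact mem_cj.mp h1
  obtain ⟨a, ha, b, hb, hab⟩ := (hQ4 _).mp hy
  refine ⟨u * a * u⁻¹, ?_, u * b * u⁻¹, ?_, ?_⟩
  · have := conj_mem_cj (g := u) ha
    rwa [cj_inf, cj_commutator, cj_inf, huN, cj_normalizer, ← cf_cj hW hQ2, huQ] at this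
  · have := conj_mem_cj (g := u) hb
    rwa [cj_inf, cj_commutator, cj_inf, huN, cj_centralizer, ← cf_cj hV hQ2, huQ] at this
  · have : x = u * (u⁻¹ * x * u) * u⁻¹ := by group
    rw [this, hab]; group


section descent

variable [Finite G] [Fact p.Prime] (P : Sylow p G) (W V : Subgroup G → Subgroup G)
  (hW : Cfsg.IsConjugacyFunctor p W) (hV : Cfsg.IsConjugacyFunctor p V)
  (hWZ : ∀ H : Subgroup G, IsPGroup p ↥H → H ⊓ CG(H) ≤ W H)
  (hVmono : ∀ H K : Subgroup G, IsPGroup p ↥H → IsPGroup p ↥K → H ≠ ⊥ → K ≠ ⊥ →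
    H ⊓ CG(H) ≤ K ⊓ CG(K) → V H ≤ V K)
  (hloc : ∀ H : Subgroup G, (P : Subgroup G) ⊓ CG((P : Subgroup G)) ≤ H → H ≤ (P : Subgroup G) →
    ∃ Q : Subgroup G, Q ≤ NG(H) ∧ IsPGroup p ↥Q ∧ ¬ p ∣ (Q).relIndex NG(H) ∧
      ∀ x : G, x ∈ Q ⊓ ⁅NG(H), NG(H)⁆ ↔
        ∃ a ∈ Q ⊓ ⁅NG(H) ⊓ NG(W Q), NG(H) ⊓ NG(W Q)⁆,
        ∃ b ∈ Q ⊓ ⁅NG(H) ⊓ CG(V Q), NG(H) ⊓ CG(V Q)⁆, x = a * b)
  (hPne : (P : Subgroup G) ≠ ⊥)

include hW hV hWZ hVmono hloc hPne in
/-- descent along the tower of a well-placed subgroup containing `Z(P)` -/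
theorem tower_descent (D : Subgroup G)
    (hA : (P : Subgroup G) ⊓ ⁅NG(W (P : Subgroup G)), NG(W (P : Subgroup G))⁆ ≤ D)
    (hB : (P : Subgroup G) ⊓ ⁅CG(V (P : Subgroup G)), CG(V (P : Subgroup G))⁆ ≤ D) :
    ∀ m : ℕ, ∀ T : Subgroup G, Cfsg.IsWellPlaced p W (P : Subgroup G) T →
      (P : Subgroup G) ⊓ CG((P : Subgroup G)) ≤ T →
      Nat.card (P : Subgroup G) - Nat.card ((P : Subgroup G) ⊓ NG(T) : Subgroup G) = m →
      ((P : Subgroup G) ⊓ NG(T)) ⊓ ⁅NG(T), NG(T)⁆ ≤ D := by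
  intro m
  induction m using Nat.strong_induction_on with
  | _ m ih =>
    intro T hTwp hZT hm
    set R := (P : Subgroup G) ⊓ NG(T) with hR
    have hRp : IsPGroup p R := P.isPGroup'.to_le inf_le_left
    have hTR : T ≤ R := le_inf hTwp.1 Subgroup.le_normalizer
    have hRP : R ≤ (P : Subgroup G) := inf_le_left
    have hloc' : ∀ x ∈ R ⊓ ⁅NG(T), NG(T)⁆,
        ∃ a ∈ R ⊓ ⁅NG(T) ⊓ NG(W R), NG(T) ⊓ NG(W R)⁆,
        ∃ b ∈ R ⊓ ⁅NG(T) ⊓ CG(V R), NG(T) ⊓ CG(V R)⁆, x = a * b :=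
      local_at_normalizer P W V hW hV T (hTwp.2 0) (hloc T hZT hTwp.1)
    -- Z(P) ≤ Z(R)
    have hZR : (P : Subgroup G) ⊓ CG((P : Subgroup G)) ≤ R ⊓ CG(R) :=
      le_inf (hZT.trans hTR) (inf_le_right.trans (Subgroup.centralizer_le (fun _ hx => hRP hx)))
    have hRne : R ≠ ⊥ := by
      intro h
      by_cases hT : T = ⊥
      · have : R = (P : Subgroup G) := by
          rw [hR, hT]
          have : NG((⊥ : Subgroup G)) = ⊤ := Subgroup.normalizer_eq_top _
          rw [this, inf_top_eq]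
        exact hPne (this ▸ h)
      · apply hT
        rw [h] at hTR
        exact le_bot_iff.mp hTR
    have hVPR : V (P : Subgroup G) ≤ V R := hVmono _ _ P.isPGroup' hRp hPne hRne hZR
    intro x hx
    obtain ⟨a, ha, b, hb, rfl⟩ := hloc' x hx
    apply D.mul_mem
    · -- the W-part
      by_cases hS : R = (P : Subgroup G)
      · apply hA
        rw [hS] at ha
        exact ⟨ha.1, Subgroup.commutator_mono inf_le_right inf_le_right ha.2⟩
      · have hT₁wp : Cfsg.IsWellPlaced p W (P : Subgroup G) (W R) :=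
          Cfsg.Agent.S1968.isWellPlaced_tower_one P hW hTwp
        have hZT₁ : (P : Subgroup G) ⊓ CG((P : Subgroup G)) ≤ W R := hZR.trans (hWZ R hRp)
        have hNN : (P : Subgroup G) ⊓ NG(R) ≤ (P : Subgroup G) ⊓ NG(W R) :=
          le_inf inf_le_left (inf_le_right.trans (cf_normalizer_le hW hRp))
        have hcard : Nat.card R < Nat.card ((P : Subgroup G) ⊓ NG(W R) : Subgroup G) :=
          lt_of_lt_of_le (card_lt_card_normalizer_inf P inf_le_left hS) (Subgroup.card_le_of_le hNN)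
        have hle : Nat.card ((P : Subgroup G) ⊓ NG(W R) : Subgroup G) ≤ Nat.card (P : Subgroup G) :=
          Subgroup.card_le_of_le inf_le_left
        have hRR : R ≤ (P : Subgroup G) ⊓ NG(W R) := (le_inf hRP Subgroup.le_normalizer).trans hNN
        apply ih _ (by omega) (W R) hT₁wp hZT₁ rfl
        exact ⟨hRR ha.1, Subgroup.commutator_mono inf_le_right inf_le_right ha.2⟩
    · -- the V-part
      apply hB
      refine ⟨hRP hb.1, ?_⟩
      have hCC : CG(V R) ≤ CG(V (P : Subgroup G)) := Subgroup.centralizer_le hVPR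
      exact Subgroup.commutator_mono (inf_le_right.trans hCC) (inf_le_right.trans hCC) hb.2

end descent

open scoped commutatorElement in
/-- Let p be a prime dividing the order of the finite group G, P a Sylow p-subgroup, W a conjugacy functor for p on G with Z(H) ≤ W(H) for every nontrivial p-subgroup H, and V a central functor: a conjugacy functor with V(H) ≤ Z(H), and V(H) ≤ V(K) whenever Z(H) ≤ Z(K), for nontrivial p-subgroups H, K. Say that W with V controls transfer in a subgroup L when some Sylow p-subgroup Q of L satisfies Q ∩ L' = (Q ∩ (N_L(W(Q)))')·(Q ∩ (C_L(V(Q)))') as a product of two subgroups. If W with V controls transfer in N_G(H) for every subgroup H with Z(P) ≤ H ≤ P, then W with V controls transfer in G. -/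
theorem result {G : Type*} [Group G] [Finite G] {p : ℕ} [Fact p.Prime] (hdiv : p ∣ Nat.card G) (P : Sylow p G) (W V : Subgroup G → Subgroup G) (hW : Cfsg.IsConjugacyFunctor p W) (hV : Cfsg.IsConjugacyFunctor p V) (hWZ : ∀ H : Subgroup G, IsPGroup p ↥H → H ⊓ Subgroup.centralizer ((H : Subgroup G) : Set G) ≤ W H) (hVZ : ∀ H : Subgroup G, IsPGroup p ↥H → V H ≤ H ⊓ Subgroup.centralizer ((H : Subgroup G) : Set G)) (hVmono : ∀ H K : Subgroup G, IsPGroup p ↥H → IsPGroup p ↥K → H ≠ ⊥ → K ≠ ⊥ → H ⊓ Subgroup.centralizer ((H : Subgroup G) : Set G) ≤ K ⊓ Subgroup.centralizer ((K : Subgroup G) : Set G) → V H ≤ V K) (hloc : ∀ H : Subgroup G, (P : Subgroup G) ⊓ Subgroup.centralizer (((P : Subgroup G) : Subgroup G) : Set G) ≤ H → H ≤ (P : Subgroup G) → ∃ Q : Subgroup G, Q ≤ Subgroup.normalizer ((H : Subgroup G) : Set G) ∧ IsPGroup p ↥Q ∧ ¬ p ∣ (Q).relIndex (Subgroup.normalizer ((H : Subgroup G) : Set G)) ∧ ∀ x : G, x ∈ Q ⊓ ⁅Subgroup.normalizer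 ((H : Subgroup G) : Set G), Subgroup.normalizer ((H : Subgroup G) : Set G)⁆ ↔ ∃ a ∈ Q ⊓ ⁅Subgroup.normalizer ((H : Subgroup G) : Set G) ⊓ Subgroup.normalizer ((W Q : Subgroup G) : Set G), Subgroup.normalizer ((H : Subgroup G) : Set G) ⊓ Subgroup.normalizer ((W Q : Subgroup G) : Set G)⁆, ∃ b ∈ Q ⊓ ⁅Subgroup.normalizer ((H : Subgroup G) : Set G) ⊓ Subgroup.centralizer ((V Q : Subgroup G) : Set G), Subgroup.normalizer ((H : Subgroup G) : Set G) ⊓ Subgroup.centralizer ((V Q : Subgroup G) : Set G)⁆, x = a * b) : ∃ Q : Subgroup G, IsPGroup p ↥Q ∧ ¬ p ∣ Q.index ∧ ∀ x : G, x ∈ Q ⊓ commutator G ↔ ∃ a ∈ Q ⊓ ⁅Subgroup.normalizer ((W Q : Subgroup G) : Set G), Subgroup.normalizer ((W Q : Subgroup G) : Set G)⁆, ∃ b ∈ Q ⊓ ⁅Subgroup.centralizer ((V Q : Subgroup G) : Set G), Subgroup.centralizer ((V Q : Subgroup G) : Set G)⁆, x = a * b := by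
  have hPne : (P : Subgroup G) ≠ ⊥ := P.ne_bot_of_dvd_card hdiv
  set A := (P : Subgroup G) ⊓ ⁅NG(W (P : Subgroup G)), NG(W (P : Subgroup G))⁆ with hA
  set B := (P : Subgroup G) ⊓ ⁅CG(V (P : Subgroup G)), CG(V (P : Subgroup G))⁆ with hB
  -- P normalizes A
  have hPNW : (P : Subgroup G) ≤ NG(W (P : Subgroup G)) :=
    Subgroup.le_normalizer.trans (cf_normalizer_le hW P.isPGroup')
  have hPA : (P : Subgroup G) ≤ NG(A) := by
    intro g hg
    rw [mem_normalizer_iff_cj_eq, hA, cj_inf, cj_commutator, cj_eq_self_of_mem hg,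
      cj_eq_self_of_mem (hPNW hg)]
  have hdesc := tower_descent P W V hW hV hWZ hVmono hloc hPne (A ⊔ B) le_sup_left le_sup_right
  -- the Alperin induction
  have key := alperin_commutator P (A ⊔ B) {U | Cfsg.IsWellPlaced p W (P : Subgroup G) U}
    (by
      intro Q hQ
      obtain ⟨g, hg⟩ := exists_cj_isWellPlaced P hW Q hQ
      exact ⟨cj g Q, hg, ⟨g, rfl⟩, hg.1, hg.2 0⟩)
    (by
      intro U hUwp hUP hUfn IH g hg x hx
      -- Frattini factorization g = c⁻¹ n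
      obtain ⟨c, hc, hn⟩ := exists_centralizer_mul_mem_normalizer hUfn hg
      set n := c * g with hndef
      have hnU : n ∈ NG(U) := Subgroup.mul_mem _ (Subgroup.centralizer_le_normalizer _ hc) hg
      have hnx : n * x * n⁻¹ ∈ U := by
        have := conj_mem_cj (g := n) hx
        rwa [cj_eq_self_of_mem_normalizer hnU] at this
      have hgn : g * x * g⁻¹ * x⁻¹ = n * x * n⁻¹ * x⁻¹ := by
        have hcomm := (Subgroup.mem_centralizer_iff.mp hc) _ (show g * x * g⁻¹ ∈ (U : Set G) from by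
          have := conj_mem_cj (g := g) hx
          rwa [cj_eq_self_of_mem_normalizer hg] at this)
        have : n * x * n⁻¹ = g * x * g⁻¹ := by
          rw [hndef]
          calc c * g * x * (c * g)⁻¹ = c * (g * x * g⁻¹) * c⁻¹ := by group
            _ = (g * x * g⁻¹) * c * c⁻¹ := by rw [← hcomm]
            _ = g * x * g⁻¹ := by group
        rw [this]
      rw [hgn]
      set U₁ := U ⊔ ((P : Subgroup G) ⊓ CG(U)) with hU₁
      have hU₁P : U₁ ≤ (P : Subgroup G) := sup_le hUP inf_le_left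
      have hnU₁ : cj n U₁ = U₁ := by
        rw [hU₁, cj_sup, cj_eq_self_of_mem_normalizer hnU, cj_eq_self_of_mem_normalizer hn]
      by_cases hcentric : (P : Subgroup G) ⊓ CG(U) ≤ U
      · -- centric case: tower descent
        have hZU : (P : Subgroup G) ⊓ CG((P : Subgroup G)) ≤ U :=
          le_trans (inf_le_inf_left _ (Subgroup.centralizer_le (fun _ hx => hUP hx))) hcentric
        apply hdesc _ U hUwp hZU rfl
        refine ⟨le_inf hUP Subgroup.le_normalizer (U.mul_mem hnx (U.inv_mem hx)), ?_⟩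
        have e : n * x * n⁻¹ * x⁻¹ = ⁅n, x⁆ := by rw [commutatorElement_def]
        rw [e]
        exact Subgroup.commutator_mem_commutator hnU (Subgroup.le_normalizer hx)
      · -- U₁ is strictly larger
        have hlt : U < U₁ := by
          refine lt_of_le_of_ne le_sup_left ?_
          intro h
          apply hcentric
          exact le_sup_right.trans h.symm.le
        have hnU₁' : cj n U₁ ≤ (P : Subgroup G) := hnU₁.le.trans hU₁P
        exact IH U₁ hU₁P (card_lt_card_of_lt hlt) n hnU₁' x (le_sup_left (a := U) hx))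
  have hfocal := focal_le_of_forall P (A ⊔ B) key
  refine ⟨(P : Subgroup G), P.isPGroup', P.not_dvd_index, ?_⟩
  intro x
  constructor
  · intro hx
    have hxD : x ∈ A ⊔ B := hfocal hx
    have hcoe : ((A ⊔ B : Subgroup G) : Set G) = (A : Set G) * (B : Set G) :=
      Subgroup.coe_mul_of_right_le_normalizer_left A B ((inf_le_left : B ≤ (P : Subgroup G)).trans hPA)
    have : x ∈ (A : Set G) * (B : Set G) := hcoe ▸ hxD
    obtain ⟨a, ha, b, hb, rfl⟩ := Set.mem_mul.mp this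
    exact ⟨a, ha, b, hb, rfl⟩
  · rintro ⟨a, ha, b, hb, rfl⟩
    refine ⟨(P : Subgroup G).mul_mem ha.1 hb.1, ?_⟩
    apply Subgroup.mul_mem
    · exact Subgroup.commutator_mono le_top le_top ha.2
    · exact Subgroup.commutator_mono le_top le_top hb.2

end Cfsg.Agent.S2001
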