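import Cfsg.Statements.S2002
import Cfsg.Agent.Lib.Helper33.FusionControl
import Cfsg.Agent.Lib.Helper33.TransferControl2
import Cfsg.Agent.S1968

set_option autoImplicit false
open Cfsg

namespace Cfsg.Agent.S2002


open Cfsg.Agent.Lib.Helper33

section helpers

variable {G : Type*} [Group G] {p : ℕ}

local notation "NG(" V ")" => Subgroup.normalizer (SetLike.coe (V : Subgroup _))
local notation "CG(" V ")" => Subgroup.centralizer (SetLike.coe (V : Subgroup _))

/-- allowed steps in `L` relative to `T`: elements of `N_L(W T)` or of `C_L(V T)` -/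
def step2 (W V : Subgroup G → Subgroup G) (L T : Subgroup G) : Set G :=
  {x | x ∈ L ⊓ NG(W T) ∨ x ∈ L ⊓ CG(V T)}

theorem step2_inv {W V : Subgroup G → Subgroup G} {L T : Subgroup G} {x : G}
    (hx : x ∈ step2 W V L T) : x⁻¹ ∈ step2 W V L T := by
  rcases hx with hx | hx
  · exact Or.inl (inv_mem hx)
  · exact Or.inr (inv_mem hx)

theorem take_succ_prod {n : ℕ} (b : Fin n → G) (k : ℕ) (hk : k < n) :
    ((List.ofFn b).take (k + 1)).prod = ((List.ofFn b).take k).prod * b ⟨k, hk⟩ := by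
  have hlen : k < (List.ofFn b).length := by rw [List.length_ofFn]; exact hk
  rw [List.take_succ_eq_append_getElem hlen, List.prod_append, List.prod_singleton,
    List.getElem_ofFn]

theorem take_length_prod {n : ℕ} (b : Fin n → G) :
    ((List.ofFn b).take n).prod = (List.ofFn b).prod := by
  rw [List.take_of_length_le (by rw [List.length_ofFn])]

/-- from the list form to `Good` -/
theorem good_of_list {R : Set G} {Q : Subgroup G} {X : Set G} {a c : G}
    (hc : c ∈ Subgroup.centralizer X) {n : ℕ} (b : Fin n → G) (hb : ∀ i, (b i)⁻¹ ∈ R)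
    (ha : a = c * (List.ofFn b).prod)
    (hpart : ∀ k : ℕ, k ≤ n →
      (fun x => (((List.ofFn b).take k).prod)⁻¹ * x * ((List.ofFn b).take k).prod) ''
        ((fun x => c⁻¹ * x * c) '' X) ⊆ (Q : Set G)) :
    Good R Q X a⁻¹ := by
  have hcx : ∀ x ∈ X, c⁻¹ * x * c = x := by
    intro x hx
    have := Subgroup.mem_centralizer_iff.mp hc x hx
    rw [mul_assoc, this, ← mul_assoc, inv_mul_cancel, one_mul]
  have himg : (fun x => c⁻¹ * x * c) '' X = X := by
    ext y
    constructor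
    · rintro ⟨x, hx, rfl⟩; beta_reduce; rw [hcx x hx]; exact hx
    · intro hy; exact ⟨y, hy, hcx y hy⟩
  have hreach := reach_of_fin (R := R) (T := Q) (A := X) n
    (fun i : Fin (n + 1) => (((List.ofFn b).take i.val).prod)⁻¹)
    (by simp)
    (by
      intro i
      change (((List.ofFn b).take (i.val + 1)).prod)⁻¹ * ((((List.ofFn b).take i.val).prod)⁻¹)⁻¹ ∈ R
      rw [take_succ_prod b i.val i.isLt]
      have : (((List.ofFn b).take i.val).prod * b ⟨i.val, i.isLt⟩)⁻¹ *
          ((((List.ofFn b).take i.val).prod)⁻¹)⁻¹ = (b i)⁻¹ := by group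
      rw [this]
      exact hb i)
    (by
      intro i
      have := hpart i.val (Nat.lt_succ_iff.mp i.isLt)
      rw [himg] at this
      intro y hy
      obtain ⟨x, hx, rfl⟩ := hy
      apply this
      exact ⟨x, hx, by simp⟩)
  refine ⟨_, hreach, ?_⟩
  intro x hx
  change (((List.ofFn b).take n).prod)⁻¹ * x * ((((List.ofFn b).take n).prod)⁻¹)⁻¹ = _
  rw [take_length_prod, ha]
  have := hcx x hx
  calc ((List.ofFn b).prod)⁻¹ * x * (((List.ofFn b).prod)⁻¹)⁻¹
      = ((List.ofFn b).prod)⁻¹ * (c⁻¹ * x * c) * (List.ofFn b).prod := by rw [this]; group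
    _ = (c * (List.ofFn b).prod)⁻¹ * x * ((c * (List.ofFn b).prod)⁻¹)⁻¹ := by group

/-- from `Good` to the list form -/
theorem list_of_good {R : Set G} {Q : Subgroup G} {X : Set G} {a : G} (hX : X ⊆ (Q : Set G))
    (h : Good R Q X a⁻¹) :
    ∃ c ∈ Subgroup.centralizer X, ∃ (n : ℕ) (b : Fin n → G), (∀ i, (b i)⁻¹ ∈ R) ∧
      a = c * (List.ofFn b).prod ∧
      ∀ k : ℕ, k ≤ n →
        (fun x => (((List.ofFn b).take k).prod)⁻¹ * x * ((List.ofFn b).take k).prod) ''
          ((fun x => c⁻¹ * x * c) '' X) ⊆ (Q : Set G) := by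
  obtain ⟨g', hreach, hagree⟩ := h
  obtain ⟨n, cc, h0, hs, hA, hlast⟩ := fin_of_reach hreach hX
  set b : Fin n → G := fun i => cc i.castSucc * (cc i.succ)⁻¹ with hbdef
  have hprod : ∀ k : ℕ, ∀ hk : k < n + 1, ((List.ofFn b).take k).prod = (cc ⟨k, hk⟩)⁻¹ := by
    intro k
    induction k with
    | zero =>
      intro hk
      have : (⟨0, hk⟩ : Fin (n + 1)) = 0 := rfl
      rw [this, h0]; simp
    | succ k ih =>
      intro hk
      have hk' : k < n := Nat.lt_of_succ_lt_succ hk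
      rw [take_succ_prod b k hk', ih (Nat.lt_succ_of_lt hk')]
      change (cc ⟨k, _⟩)⁻¹ * (cc (Fin.castSucc ⟨k, hk'⟩) * (cc (Fin.succ ⟨k, hk'⟩))⁻¹) = _
      have e1 : Fin.castSucc (⟨k, hk'⟩ : Fin n) = ⟨k, Nat.lt_succ_of_lt hk'⟩ := rfl
      have e2 : Fin.succ (⟨k, hk'⟩ : Fin n) = ⟨k + 1, hk⟩ := rfl
      rw [e1, e2]
      group
  have hprodn : (List.ofFn b).prod = g'⁻¹ := by
    rw [← take_length_prod, hprod n (Nat.lt_succ_self n), ← hlast]
    rfl
  have hcmem : a * g' ∈ Subgroup.centralizer X := by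
    rw [Subgroup.mem_centralizer_iff]
    intro x hx
    have := hagree x hx
    have e : a * g' * x = a * (g' * x * g'⁻¹) * g' := by group
    rw [e, this]
    group
  have hcx : ∀ x ∈ X, (a * g')⁻¹ * x * (a * g') = x := by
    intro x hx
    have := Subgroup.mem_centralizer_iff.mp hcmem x hx
    rw [mul_assoc, this, ← mul_assoc, inv_mul_cancel, one_mul]
  refine ⟨a * g', hcmem, n, b, ?_, ?_, ?_⟩
  · intro i
    have := hs i
    have e : (b i)⁻¹ = cc i.succ * (cc i.castSucc)⁻¹ := by rw [hbdef]; group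
    rw [e]; exact this
  · rw [hprodn]; group
  · intro k hk
    rintro _ ⟨_, ⟨x, hx, rfl⟩, rfl⟩
    beta_reduce
    rw [hcx x hx, hprod k (Nat.lt_succ_of_le hk)]
    apply hA ⟨k, Nat.lt_succ_of_le hk⟩
    exact ⟨x, hx, by simp⟩


/-- the local hypothesis, in `Good` form and transported to the Sylow subgroup `N_P(H)` of `N_G(H)` -/
theorem good_local [Finite G] [Fact p.Prime] (P : Sylow p G) (W V : Subgroup G → Subgroup G)
    (hW : Cfsg.IsConjugacyFunctor p W) (hV : Cfsg.IsConjugacyFunctor p V)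
    (H : Subgroup G) (hfn : FullyNormalized p (P : Subgroup G) H)
    (hloc : ∃ Q : Subgroup G, Q ≤ Subgroup.normalizer ((H : Subgroup G) : Set G) ∧ IsPGroup p ↥Q ∧ ¬ p ∣ (Q).relIndex (Subgroup.normalizer ((H : Subgroup G) : Set G)) ∧ ∀ (X : Set G) (a : G), X ⊆ Q → a ∈ Subgroup.normalizer ((H : Subgroup G) : Set G) → (fun x => a⁻¹ * x * a) '' X ⊆ Q → ∃ c ∈ Subgroup.normalizer ((H : Subgroup G) : Set G) ⊓ Subgroup.centralizer X, ∃ (n : ℕ) (b : Fin n → G), (∀ i, b i ∈ Subgroup.normalizer ((H : Subgroup G) : Set G) ⊓ Subgroup.normalizer ((W Q : Subgroup G) : Set G) ∨ b i ∈ Subgroup.normalizer ((H : Subgroup G) : Set G) ⊓ Subgroup.centralizer ((V Q : Subgroup G) : Set G)) ∧ a = c * (List.ofFn b).prod ∧ ∀ k : ℕ, k ≤ n → (fun x => (((List.ofFn b).take k).prod)⁻¹ * x * ((List.ofFn b).take k).prod) '' ((fun x => c⁻¹ * x * c) '' X) ⊆ Q) :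
    ∀ (A : Set G) (h : G), h ∈ NG(H) → A ⊆ ((P : Subgroup G) ⊓ NG(H) : Subgroup G) →
      lc h A ⊆ ((P : Subgroup G) ⊓ NG(H) : Subgroup G) →
      Good (step2 W V NG(H) ((P : Subgroup G) ⊓ NG(H))) ((P : Subgroup G) ⊓ NG(H)) A h := by
  obtain ⟨Q, hQ1, hQ2, hQ3, hQ4⟩ := hloc
  have hQsyl : SylIn p Q NG(H) := ⟨hQ1, hQ2, hQ3⟩
  obtain ⟨u, hu, huQ⟩ := hfn.sylIn.exists_cj_eq hQsyl
  have hgoodQ : ∀ (A : Set G) (h : G), h ∈ NG(H) → A ⊆ Q → lc h A ⊆ Q →
      Good (step2 W V NG(H) Q) Q A h := by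
    intro A h hh hA hAh
    obtain ⟨c, hc, n, b, hb, ha, hpart⟩ := hQ4 A h⁻¹ hA (inv_mem hh) (by
      simp only [inv_inv]; exact hAh)
    have := good_of_list (R := step2 W V NG(H) Q) hc.2 b (fun i => step2_inv (hb i)) ha hpart
    rwa [inv_inv] at this
  intro A h hh hA hAh
  have hA0 : lc u⁻¹ A ⊆ Q := by
    rw [lc_subset_iff, inv_inv, lc_coe_subgroup, huQ]; exact hA
  have hh0 : u⁻¹ * h * u ∈ NG(H) := mul_mem (mul_mem (inv_mem hu) hh) hu
  have hAh0 : lc (u⁻¹ * h * u) (lc u⁻¹ A) ⊆ Q := by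
    rw [← lc_mul]
    have : u⁻¹ * h * u * u⁻¹ = u⁻¹ * h := by group
    rw [this, lc_mul, lc_subset_iff, inv_inv, lc_coe_subgroup, huQ]; exact hAh
  have h1 := hgoodQ _ _ hh0 hA0 hAh0
  have h2 := h1.conj (R' := step2 W V NG(H) ((P : Subgroup G) ⊓ NG(H))) u (by
    rintro x (hx | hx)
    · left
      rw [Subgroup.mem_inf] at hx ⊢
      refine ⟨mul_mem (mul_mem hu hx.1) (inv_mem hu), ?_⟩
      rw [← huQ, cf_cj hW hQ2, ← cj_normalizer]
      exact conj_mem_cj hx.2
    · right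
      rw [Subgroup.mem_inf] at hx ⊢
      refine ⟨mul_mem (mul_mem hu hx.1) (inv_mem hu), ?_⟩
      rw [← huQ, cf_cj hV hQ2, ← cj_centralizer]
      exact conj_mem_cj hx.2)
  rw [huQ, lc_lc_inv] at h2
  have e : u * (u⁻¹ * h * u) * u⁻¹ = h := by group
  rwa [e] at h2

section descent

variable [Finite G] [Fact p.Prime] (P : Sylow p G) (W V : Subgroup G → Subgroup G)
  (hW : Cfsg.IsConjugacyFunctor p W) (hV : Cfsg.IsConjugacyFunctor p V)
  (hWZ : ∀ H : Subgroup G, IsPGroup p ↥H → H ⊓ CG(H) ≤ W H)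
  (hVmono : ∀ H K : Subgroup G, IsPGroup p ↥H → IsPGroup p ↥K → H ≠ ⊥ → K ≠ ⊥ →
    H ⊓ CG(H) ≤ K ⊓ CG(K) → V H ≤ V K)
  (hloc : ∀ H : Subgroup G, (P : Subgroup G) ⊓ Subgroup.centralizer (((P : Subgroup G) : Subgroup G) : Set G) ≤ H → H ≤ (P : Subgroup G) → ∃ Q : Subgroup G, Q ≤ Subgroup.normalizer ((H : Subgroup G) : Set G) ∧ IsPGroup p ↥Q ∧ ¬ p ∣ (Q).relIndex (Subgroup.normalizer ((H : Subgroup G) : Set G)) ∧ ∀ (X : Set G) (a : G), X ⊆ Q → a ∈ Subgroup.normalizer ((H : Subgroup G) : Set G) → (fun x => a⁻¹ * x * a) '' X ⊆ Q → ∃ c ∈ Subgroup.normalizer ((H : Subgroup G) : Set G) ⊓ Subgroup.centralizer X, ∃ (n : ℕ) (b : Fin n → G), (∀ i, b i ∈ Subgroup.normalizer ((H : Subgroup G) : Set G) ⊓ Subgroup.normalizer ((W Q : Subgroup G) : Set G) ∨ b i ∈ Subgroup.normalizer ((H : Subgroup G) : Set G) ⊓ Subgroup.centralizer ((V Q : Subgroup G) : Set G)) ∧ a = c * (List.ofFn b).prod ∧ ∀ k : ℕ, k ≤ n → (fun x => (((List.ofFn b).take k).prod)⁻¹ * x * ((List.ofFn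 b).take k).prod) '' ((fun x => c⁻¹ * x * c) '' X) ⊆ Q)
  (hPne : (P : Subgroup G) ≠ ⊥)

include hW hV hWZ hVmono hloc hPne in
/-- descent along the tower of a well-placed subgroup containing `Z(P)` -/
theorem tower_descent :
    ∀ m : ℕ, ∀ T : Subgroup G, Cfsg.IsWellPlaced p W (P : Subgroup G) T →
      (P : Subgroup G) ⊓ CG((P : Subgroup G)) ≤ T →
      Nat.card (P : Subgroup G) - Nat.card ((P : Subgroup G) ⊓ NG(T) : Subgroup G) = m →
      ∀ y ∈ NG(T), ∀ B : Set G, B ⊆ ((P : Subgroup G) ⊓ NG(T) : Subgroup G) →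
        lc y B ⊆ ((P : Subgroup G) ⊓ NG(T) : Subgroup G) →
        Good (step2 W V ⊤ (P : Subgroup G)) (P : Subgroup G) B y := by
  intro m
  induction m using Nat.strong_induction_on with
  | _ m ih =>
    intro T hTwp hZT hm y hy B hB hyB
    set R := (P : Subgroup G) ⊓ NG(T) with hR
    have hRp : IsPGroup p R := P.isPGroup'.to_le inf_le_left
    have hTR : T ≤ R := le_inf hTwp.1 Subgroup.le_normalizer
    have hRP : R ≤ (P : Subgroup G) := inf_le_left
    have hloc' := good_local P W V hW hV T (hTwp.2 0) (hloc T hZT hTwp.1)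
    have hZR : (P : Subgroup G) ⊓ CG((P : Subgroup G)) ≤ R ⊓ CG(R) :=
      le_inf (hZT.trans hTR) (inf_le_right.trans (Subgroup.centralizer_le (fun _ hx => hRP hx)))
    have hRne : R ≠ ⊥ := by
      intro h
      by_cases hT : T = ⊥
      · have : R = (P : Subgroup G) := by
          rw [hR, hT]
          have : NG((⊥ : Subgroup G)) = ⊤ := Subgroup.normalizer_eq_top _
          rw [this, inf_top_eq]
        exact hPne (this ▸ h)
      · apply hT
        rw [h] at hTR
        exact le_bot_iff.mp hTR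
    have hVPR : V (P : Subgroup G) ≤ V R := hVmono _ _ P.isPGroup' hRp hPne hRne hZR
    obtain ⟨y', hreach, hagree⟩ := hloc' B y hy hB hyB
    refine (Good.of_reach hB ?_ hreach).congr hagree
    rintro z (hz | hz) C hC hzC
    · -- the W-part
      by_cases hS : R = (P : Subgroup G)
      · apply Good.single
        · left
          rw [← hR, hS] at hz
          exact ⟨Subgroup.mem_top _, hz.2⟩
        · exact hzC.trans (fun _ hx => hRP hx)
      · have hT₁wp : Cfsg.IsWellPlaced p W (P : Subgroup G) (W R) :=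
          Cfsg.Agent.S1968.isWellPlaced_tower_one P hW hTwp
        have hZT₁ : (P : Subgroup G) ⊓ CG((P : Subgroup G)) ≤ W R := hZR.trans (hWZ R hRp)
        have hNN : (P : Subgroup G) ⊓ NG(R) ≤ (P : Subgroup G) ⊓ NG(W R) :=
          le_inf inf_le_left (inf_le_right.trans (cf_normalizer_le hW hRp))
        have hcard : Nat.card R < Nat.card ((P : Subgroup G) ⊓ NG(W R) : Subgroup G) :=
          lt_of_lt_of_le (card_lt_card_normalizer_inf P inf_le_left hS) (Subgroup.card_le_of_le hNN)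
        have hle : Nat.card ((P : Subgroup G) ⊓ NG(W R) : Subgroup G) ≤ Nat.card (P : Subgroup G) :=
          Subgroup.card_le_of_le inf_le_left
        have hRR : R ≤ (P : Subgroup G) ⊓ NG(W R) := (le_inf hRP Subgroup.le_normalizer).trans hNN
        exact ih _ (by omega) (W R) hT₁wp hZT₁ rfl z hz.2 C (hC.trans hRR) (hzC.trans hRR)
    · -- the V-part
      apply Good.single
      · right
        exact ⟨Subgroup.mem_top _, Subgroup.centralizer_le hVPR hz.2⟩
      · exact hzC.trans (fun _ hx => hRP hx)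

include hW hV hWZ hVmono hloc hPne in
/-- global control in `Good` form -/
theorem good_global :
    ∀ (A : Set G) (g : G), A ⊆ (P : Subgroup G) → lc g A ⊆ (P : Subgroup G) →
      Good (step2 W V ⊤ (P : Subgroup G)) (P : Subgroup G) A g := by
  have key := alperin_induction P
    (fun Q g => Good (step2 W V ⊤ (P : Subgroup G)) (P : Subgroup G) (Q : Set G) g)
    {U | Cfsg.IsWellPlaced p W (P : Subgroup G) U}
    (by
      intro Q hQ
      obtain ⟨g, hg⟩ := exists_cj_isWellPlaced P hW Q hQ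
      exact ⟨cj g Q, hg, ⟨g, rfl⟩, hg.1, hg.2 0⟩)
    (by
      intro Q g h _ _ _ h1 h2
      apply h1.comp
      rw [lc_coe_subgroup]; exact h2)
    (by
      intro Q Q' g hle _ _ h1
      exact h1.mono le_rfl le_rfl hle)
    (by
      intro Q g hQ _ h1
      have := h1.inv (fun x hx => step2_inv hx) hQ
      rwa [lc_coe_subgroup] at this)
    (by
      intro U hUwp hUP hUfn IH g hg
      obtain ⟨c, hc, hn⟩ := exists_centralizer_mul_mem_normalizer hUfn hg
      have hnU : c * g ∈ NG(U) := Subgroup.mul_mem _ (Subgroup.centralizer_le_normalizer _ hc) hg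
      have hagree : ∀ a ∈ (U : Set G), c * g * a * (c * g)⁻¹ = g * a * g⁻¹ := by
        intro a ha
        have hga : g * a * g⁻¹ ∈ (U : Set G) := by
          have := conj_mem_cj (g := g) ha
          rwa [cj_eq_self_of_mem_normalizer hg] at this
        have hcomm := (Subgroup.mem_centralizer_iff.mp hc) _ hga
        calc c * g * a * (c * g)⁻¹ = c * (g * a * g⁻¹) * c⁻¹ := by group
          _ = (g * a * g⁻¹) * c * c⁻¹ := by rw [← hcomm]
          _ = g * a * g⁻¹ := by group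
      suffices hgood : Good (step2 W V ⊤ (P : Subgroup G)) (P : Subgroup G) (U : Set G) (c * g) from
        hgood.congr hagree
      have hUN : (U : Set G) ⊆ ((P : Subgroup G) ⊓ NG(U) : Subgroup G) :=
        le_inf hUP Subgroup.le_normalizer
      by_cases hcentric : (P : Subgroup G) ⊓ CG(U) ≤ U
      · have hZU : (P : Subgroup G) ⊓ CG((P : Subgroup G)) ≤ U :=
          le_trans (inf_le_inf_left _ (Subgroup.centralizer_le (fun _ hx => hUP hx))) hcentric
        apply tower_descent P W V hW hV hWZ hVmono hloc hPne _ U hUwp hZU rfl (c * g) hnU _ hUN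
        rw [lc_coe_subgroup, cj_eq_self_of_mem_normalizer hnU]
        exact hUN
      · set U₁ := U ⊔ ((P : Subgroup G) ⊓ CG(U)) with hU₁
        have hU₁P : U₁ ≤ (P : Subgroup G) := sup_le hUP inf_le_left
        have hnU₁ : cj (c * g) U₁ = U₁ := by
          rw [hU₁, cj_sup, cj_eq_self_of_mem_normalizer hnU, cj_eq_self_of_mem_normalizer hn]
        have hlt : U < U₁ := by
          refine lt_of_le_of_ne le_sup_left ?_
          intro h
          apply hcentric
          exact le_sup_right.trans h.symm.le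
        have hnU₁' : cj (c * g) U₁ ≤ (P : Subgroup G) := hnU₁.le.trans hU₁P
        have h1 := IH U₁ hU₁P (card_lt_card_of_lt hlt) (c * g) hnU₁'
        exact h1.mono le_rfl le_rfl (le_sup_left (a := U)))
  intro A g hA hAg
  have hP : Subgroup.closure A ≤ (P : Subgroup G) := (Subgroup.closure_le _).mpr hA
  have hPg : cj g (Subgroup.closure A) ≤ (P : Subgroup G) := lc_subset_subgroup_iff.mp hAg
  exact (key _ hP g hPg).mono le_rfl le_rfl Subgroup.subset_closure

end descent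

end helpers

/-- Let p be a prime dividing the order of the finite group G, P a Sylow p-subgroup, W a conjugacy functor for p on G with Z(H) ≤ W(H) for every nontrivial p-subgroup H, and V a central functor (a conjugacy functor with V(H) ≤ Z(H), and V(H) ≤ V(K) whenever Z(H) ≤ Z(K)). Say that W with V controls strong fusion in a subgroup L when some Sylow p-subgroup Q of L has the property: whenever X ⊆ Q and a ∈ L with a⁻¹Xa ⊆ Q, then a = c b with c ∈ C_L(X) and b = b₁ ⋯ bₙ a product of elements each in N_L(W(Q)) or in C_L(V(Q)) such that every partial conjugate (b₁ ⋯ bₖ)⁻¹ X (b₁ ⋯ bₖ) lies in Q. If W with V controls strong fusion in N_G(H) for every subgroup H with Z(P) ≤ H ≤ P, then W with V controls strong fusion in G. -/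
theorem result {G : Type*} [Group G] [Finite G] {p : ℕ} [Fact p.Prime] (hdiv : p ∣ Nat.card G) (P : Sylow p G) (W V : Subgroup G → Subgroup G) (hW : Cfsg.IsConjugacyFunctor p W) (hV : Cfsg.IsConjugacyFunctor p V) (hWZ : ∀ H : Subgroup G, IsPGroup p ↥H → H ⊓ Subgroup.centralizer ((H : Subgroup G) : Set G) ≤ W H) (hVZ : ∀ H : Subgroup G, IsPGroup p ↥H → V H ≤ H ⊓ Subgroup.centralizer ((H : Subgroup G) : Set G)) (hVmono : ∀ H K : Subgroup G, IsPGroup p ↥H → IsPGroup p ↥K → H ≠ ⊥ → K ≠ ⊥ → H ⊓ Subgroup.centralizer ((H : Subgroup G) : Set G) ≤ K ⊓ Subgroup.centralizer ((K : Subgroup G) : Set G) → V H ≤ V K) (hloc : ∀ H : Subgroup G, (P : Subgroup G) ⊓ Subgroup.centralizer (((P : Subgroup G) : Subgroup G) : Set G) ≤ H → H ≤ (P : Subgroup G) → ∃ Q : Subgroup G, Q ≤ Subgroup.normalizer ((H : Subgroup G) : Set G) ∧ IsPGroup p ↥Q ∧ ¬ p ∣ (Q).relIndex (Subgroup.normalizer ((H : Subgroup G) : Set G)) ∧ ∀ (X : Set G) (a : G), X ⊆ Q → a ∈ Subgroup.normalizer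 ((H : Subgroup G) : Set G) → (fun x => a⁻¹ * x * a) '' X ⊆ Q → ∃ c ∈ Subgroup.normalizer ((H : Subgroup G) : Set G) ⊓ Subgroup.centralizer X, ∃ (n : ℕ) (b : Fin n → G), (∀ i, b i ∈ Subgroup.normalizer ((H : Subgroup G) : Set G) ⊓ Subgroup.normalizer ((W Q : Subgroup G) : Set G) ∨ b i ∈ Subgroup.normalizer ((H : Subgroup G) : Set G) ⊓ Subgroup.centralizer ((V Q : Subgroup G) : Set G)) ∧ a = c * (List.ofFn b).prod ∧ ∀ k : ℕ, k ≤ n → (fun x => (((List.ofFn b).take k).prod)⁻¹ * x * ((List.ofFn b).take k).prod) '' ((fun x => c⁻¹ * x * c) '' X) ⊆ Q) : ∃ Q : Subgroup G, IsPGroup p ↥Q ∧ ¬ p ∣ Q.index ∧ ∀ (X : Set G) (a : G), X ⊆ Q → (fun x => a⁻¹ * x * a) '' X ⊆ Q → ∃ c ∈ Subgroup.centralizer X, ∃ (n : ℕ) (b : Fin n → G), (∀ i, b i ∈ ⊤ ⊓ Subgroup.normalizer ((W Q : Subgroup G) : Set G) ∨ b i ∈ ⊤ ⊓ Subgroup.centralizer ((V Q : Subgroup G) : Set G)) ∧ a = c * (List.ofFn b).prod ∧ ∀ k : ℕ, k ≤ n → (fun x => (((List.ofFn b).take k).prod)⁻¹ * x * ((List.ofFn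 b).take k).prod) '' ((fun x => c⁻¹ * x * c) '' X) ⊆ Q := by
  have hPne : (P : Subgroup G) ≠ ⊥ := P.ne_bot_of_dvd_card hdiv
  refine ⟨(P : Subgroup G), P.isPGroup', P.not_dvd_index, ?_⟩
  intro X a hX hXa
  have hgood := good_global P W V hW hV hWZ hVmono hloc hPne X a⁻¹ hX (by
    intro y hy
    obtain ⟨x, hx, rfl⟩ := hy
    apply hXa
    exact ⟨x, hx, by simp⟩)
  obtain ⟨c, hc, n, b, hb, ha, hpart⟩ := list_of_good hX hgood
  refine ⟨c, hc, n, b, ?_, ha, hpart⟩
  intro i
  have := step2_inv (hb i)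
  rw [inv_inv] at this
  exact this

end Cfsg.Agent.S2002
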