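import Cfsg.Statements.S2003
import Cfsg.Agent.Lib.Helper33.KInfFiltration

set_option autoImplicit false
set_option linter.style.haveILetI false
open Cfsg

namespace Cfsg.Agent.S2003

open Cfsg.Agent.Lib.Helper33
open scoped commutatorElement

section pairing

variable {Γ : Type*} [Group Γ]

/-- iterated three subgroups lemma for a pairing `M × W → Y`, where `[W, B; a]` is only assumed to pair trivially. -/
theorem pairing_engel' (N Y M W B : Subgroup Γ) [hN : N.Normal]
    (hBY : B ≤ Subgroup.normalizer (Y : Set Γ)) (hBM : B ≤ Subgroup.normalizer (M : Set Γ))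
    (hBW : B ≤ Subgroup.normalizer (W : Set Γ))
    (hMW : ⁅M, W⁆ ≤ Y) (hYM : ⁅Y, M⁆ ≤ N) (hYW : ⁅Y, W⁆ ≤ N) (a b : ℕ) (ha1 : 1 ≤ a)
    (ha : ⁅M, iterCommutator W B a⁆ ≤ N) (hb : iterCommutator Y B b ≤ N) :
    ⁅iterCommutator M B (a + b - 1), W⁆ ≤ N := by
  have hNtop : Subgroup.normalizer (N : Set Γ) = ⊤ := Subgroup.normalizer_eq_top_iff.mpr hN
  set y : ℕ → Subgroup Γ := fun t => iterCommutator Y B t ⊔ N with hy
  have hyY : ∀ t, y t ≤ Y ⊔ N := fun t => sup_le_sup_right (iter_props hBY t).1 N
  have hyB : ∀ t, B ≤ Subgroup.normalizer ((y t : Subgroup Γ) : Set Γ) := by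
    intro t
    exact le_normalizer_sup (iter_props hBY t).2 (by rw [hNtop]; exact le_top)
  have hystep : ∀ t, ⁅y t, B⁆ ≤ y (t + 1) := fun t => commutator_sup_le _ N B
  have hcent : ∀ L : Subgroup Γ, ⁅Y, L⁆ ≤ N → ∀ t, L ≤ Subgroup.normalizer ((y t : Subgroup Γ) : Set Γ) := by
    intro L hL t
    rw [Subgroup.le_normalizer_iff_commutator_le_left]
    refine le_trans ?_ (le_sup_right : N ≤ y t)
    have h1 : Y ⊔ N ≤ centMod N L := by
      apply sup_le
      · intro x hx
        rw [mem_centMod]
        intro l hl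
        exact hL (Subgroup.commutator_mem_commutator hx hl)
      · intro x hx
        rw [mem_centMod]
        intro l _
        rw [commutatorElement_def]
        have h2 : l * x⁻¹ * l⁻¹ ∈ N := hN.conj_mem _ (N.inv_mem hx) l
        have : x * l * x⁻¹ * l⁻¹ = x * (l * x⁻¹ * l⁻¹) := by group
        rw [this]
        exact N.mul_mem hx h2
    rw [Subgroup.commutator_le]
    intro x hx l hl
    exact mem_centMod.mp (h1 (hyY t hx)) l hl
  have hmM : ∀ n, iterCommutator M B n ≤ M := fun n => (iter_props hBM n).1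
  have hwW : ∀ k, iterCommutator W B k ≤ W := fun k => (iter_props hBW k).1
  have hYm : ∀ n, ⁅Y, iterCommutator M B n⁆ ≤ N := fun n => (Subgroup.commutator_mono le_rfl (hmM n)).trans hYM
  have hYw : ∀ k, ⁅Y, iterCommutator W B k⁆ ≤ N := fun k => (Subgroup.commutator_mono le_rfl (hwW k)).trans hYW
  have hlast : ∀ n t, ⁅iterCommutator M B n, iterCommutator W B a⁆ ≤ y t := fun n t =>
    ((Subgroup.commutator_mono (hmM n) le_rfl).trans ha).trans le_sup_right
  have main : ∀ n k t : ℕ, k ≤ a → n + k = t + (a - 1) →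
      ⁅iterCommutator M B n, iterCommutator W B k⁆ ≤ y t := by
    intro n
    induction n with
    | zero =>
      intro k t hk hnk
      rcases Nat.eq_zero_or_pos t with ht | ht
      · subst ht
        exact ((Subgroup.commutator_mono (hmM 0) (hwW k)).trans hMW).trans le_sup_left
      · have hka : k = a := by omega
        rw [hka]
        exact hlast 0 t
    | succ n ih =>
      intro k t hk hnk
      rcases Nat.eq_zero_or_pos t with ht | ht
      · subst ht
        exact ((Subgroup.commutator_mono (hmM (n + 1)) (hwW k)).trans hMW).trans le_sup_left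
      rcases Nat.lt_or_ge k a with hka | hka
      swap
      · have hka' : k = a := le_antisymm hk hka
        rw [hka']
        exact hlast (n + 1) t
      obtain ⟨t', rfl⟩ : ∃ t', t = t' + 1 := ⟨t - 1, by omega⟩
      show ⁅⁅iterCommutator M B n, B⁆, iterCommutator W B k⁆ ≤ y (t' + 1)
      apply three_subgroups_mod (hcent _ (hYm n) _) (hyB _) (hcent _ (hYw k) _)
      · rw [Subgroup.commutator_comm B, Subgroup.commutator_comm]
        exact ih (k + 1) (t' + 1) (by omega) (by omega)
      · rw [Subgroup.commutator_comm (iterCommutator W B k)]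
        exact (Subgroup.commutator_mono (ih k t' hk (by omega)) le_rfl).trans (hystep t')
  have h := main (a + b - 1) 0 b (Nat.zero_le _) (by omega)
  exact h.trans (sup_le hb le_rfl)

end pairing

section chain

variable {G : Type*} [Group G]

theorem le_normalizer_of_normal (H B : Subgroup G) [hH : H.Normal] : B ≤ Subgroup.normalizer (H : Set G) := by
  rw [Subgroup.normalizer_eq_top_iff.mpr hH]; exact le_top

theorem card_lt_card_of_lt [Finite G] {A N : Subgroup G} (h : A < N) : Nat.card A < Nat.card N := by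
  rcases lt_or_eq_of_le (Subgroup.card_le_of_le h.le) with h1 | h1
  · exact h1
  · exact absurd (Subgroup.eq_of_le_of_card_ge h.le h1.ge) h.ne

/-- a chief chain from `A` to `Q` -/
theorem exists_chain_aux [Finite G] (Q : Subgroup G) [hQ : Q.Normal] :
    ∀ n : ℕ, ∀ A : Subgroup G, A.Normal → A ≤ Q → Nat.card Q - Nat.card A = n →
      ∃ C : ℕ → Subgroup G, C 0 = A ∧ (∀ m, (C m).Normal) ∧ (∀ m, C m ≤ Q) ∧
        (∀ m, C m = C (m + 1) ∨ IsChiefFactor (C (m + 1)) (C m)) ∧ ∃ t, ∀ m, t ≤ m → C m = Q := by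
  intro n
  induction n using Nat.strong_induction_on with
  | _ n ih =>
    intro A hA hAQ hn
    by_cases hAeq : A = Q
    · exact ⟨fun _ => Q, hAeq.symm, fun _ => hQ, fun _ => le_rfl, fun _ => Or.inl rfl, 0, fun _ _ => rfl⟩
    · have hlt : A < Q := lt_of_le_of_ne hAQ hAeq
      let S : Set (Subgroup G) := {N | N.Normal ∧ A < N ∧ N ≤ Q}
      have hSne : S.Nonempty := ⟨Q, hQ, hlt, le_rfl⟩
      obtain ⟨N, hNS, hNmin⟩ := Set.exists_min_image S (fun N => Nat.card N) (Set.toFinite S) hSne
      obtain ⟨hNn, hAN, hNQ⟩ := hNS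
      have hchief : IsChiefFactor N A := by
        refine ⟨hAN, hNn, hA, fun K hK hAK hKN => ?_⟩
        by_cases hKA : K = A
        · exact Or.inl hKA
        · right
          have hAK' : A < K := lt_of_le_of_ne hAK (Ne.symm hKA)
          have hKS : K ∈ S := ⟨hK, hAK', hKN.trans hNQ⟩
          exact Subgroup.eq_of_le_of_card_ge hKN (hNmin K hKS)
      have h1 : Nat.card A < Nat.card N := card_lt_card_of_lt hAN
      have h2 : Nat.card N ≤ Nat.card Q := Subgroup.card_le_of_le hNQ
      obtain ⟨C', hC0, hCn, hCQ, hCstep, t, ht⟩ :=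
        ih (Nat.card Q - Nat.card N) (by omega) N hNn hNQ rfl
      refine ⟨fun m => match m with | 0 => A | (k + 1) => C' k, rfl, ?_, ?_, ?_, t + 1, ?_⟩
      · intro m
        cases m with
        | zero => exact hA
        | succ k => exact hCn k
      · intro m
        cases m with
        | zero => exact hAQ
        | succ k => exact hCQ k
      · intro m
        cases m with
        | zero =>
          right
          show IsChiefFactor (C' 0) A
          rw [hC0]
          exact hchief
        | succ k => exact hCstep k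
      · intro m hm
        cases m with
        | zero => omega
        | succ k => exact ht k (by omega)

theorem exists_chain [Finite G] (Q : Subgroup G) [hQ : Q.Normal] :
    ∃ C : ℕ → Subgroup G, C 0 = ⊥ ∧ (∀ m, (C m).Normal) ∧ (∀ m, C m ≤ Q) ∧
      (∀ m, C m = C (m + 1) ∨ IsChiefFactor (C (m + 1)) (C m)) ∧ ∃ t, ∀ m, t ≤ m → C m = Q :=
  exists_chain_aux Q _ ⊥ inferInstance bot_le rfl

/-- a normal `p`-subgroup centralizes the chief factors it contains -/
theorem commutator_le_of_isChiefFactor [Finite G] {p : ℕ} [Fact p.Prime] (P : Subgroup G) [hPn : P.Normal]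
    (hP : IsPGroup p ↥P) {U V : Subgroup G} (h : IsChiefFactor U V) (hUP : U ≤ P) : ⁅U, P⁆ ≤ V := by
  obtain ⟨hlt, hUn, hVn, hmin⟩ := h
  by_contra hcon
  have hKn : (V ⊔ ⁅U, P⁆).Normal := inferInstance
  have hKU : V ⊔ ⁅U, P⁆ ≤ U := sup_le hlt.le (Subgroup.commutator_le_left U P)
  rcases hmin _ hKn le_sup_left hKU with h1 | h1
  · exact hcon (le_sup_right.trans h1.le)
  · have hnil : Group.IsNilpotent ↥P := hP.isNilpotent
    have key : ∀ n, U ≤ V ⊔ iterCommutator U P n := by
      intro n
      induction n with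
      | zero => exact le_sup_right
      | succ n ih =>
        have h2 : ⁅U, P⁆ ≤ V ⊔ iterCommutator U P (n + 1) := by
          calc ⁅U, P⁆ ≤ ⁅iterCommutator U P n ⊔ V, P⁆ := by
                rw [sup_comm]; exact Subgroup.commutator_mono ih le_rfl
            _ ≤ ⁅iterCommutator U P n, P⁆ ⊔ V := commutator_sup_le _ V P
            _ = V ⊔ iterCommutator U P (n + 1) := by rw [sup_comm]; rfl
        calc U = V ⊔ ⁅U, P⁆ := h1.symm
          _ ≤ V ⊔ iterCommutator U P (n + 1) := sup_le le_sup_left h2
    obtain ⟨m, hm⟩ := exists_iterCommutator_eq_bot (N := U) (Q := P) hUP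
    have := key m
    rw [hm, sup_bot_eq] at this
    exact absurd this (not_le_of_gt hlt)

theorem eq_sup_of_isChiefFactor' {U V F : Subgroup G} (h : IsChiefFactor U V) [hF : F.Normal]
    (hne : ¬ U ⊓ F ≤ V) : U = V ⊔ (U ⊓ F) := by
  obtain ⟨hlt, hUn, hVn, hmin⟩ := h
  have hn : (V ⊔ (U ⊓ F)).Normal := inferInstance
  rcases hmin _ hn le_sup_left (sup_le hlt.le inf_le_left) with h1 | h1
  · exact absurd (le_sup_right.trans h1.le) hne
  · exact h1.symm

/-- Dedekind: the intersection of a chief factor with a normal subgroup is a chief factor or collapses -/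
theorem isChiefFactor_inf {U V F : Subgroup G} (h : IsChiefFactor U V) [hF : F.Normal]
    (hne : ¬ U ⊓ F ≤ V) : IsChiefFactor (U ⊓ F) (V ⊓ F) := by
  have hU := eq_sup_of_isChiefFactor' h hne
  obtain ⟨hlt, hUn, hVn, hmin⟩ := h
  refine ⟨lt_of_le_not_ge (inf_le_inf_right F hlt.le) (fun h1 => hne (h1.trans inf_le_left)), inferInstance,
    inferInstance, ?_⟩
  intro N hN hVN hNU
  have hKn : (V ⊔ N).Normal := inferInstance
  rcases hmin _ hKn le_sup_left (sup_le hlt.le (hNU.trans inf_le_left)) with h1 | h1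
  · left
    exact le_antisymm (le_inf (le_sup_right.trans h1.le) (hNU.trans inf_le_right)) hVN
  · right
    refine le_antisymm hNU ?_
    intro x hx
    have hxU : x ∈ V ⊔ N := by rw [h1]; exact hx.1
    have hxU' : x ∈ ((V ⊔ N : Subgroup G) : Set G) := hxU
    rw [Subgroup.mul_normal] at hxU'
    obtain ⟨v, hv, n, hn, rfl⟩ := Set.mem_mul.mp hxU'
    have hnF : n ∈ F := (hNU hn).2
    have hvF : v ∈ F := by
      have : v = v * n * n⁻¹ := by group
      rw [this]
      exact F.mul_mem hx.2 (F.inv_mem hnF)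
    exact N.mul_mem (hVN ⟨hv, hvF⟩) hn

end chain

section filtration

variable {G : Type*} [Group G]

/-- the shifted filtration of `P` by its action on a chain `C` of normal subgroups, with values taken inside `Z` -/
def filt (P Z : Subgroup G) [Z.Normal] (C : ℕ → Subgroup G) (hC : ∀ m, (C m).Normal) (k : ℕ) : Subgroup G :=
  P ⊓ ⨅ m : ℕ, @centMod G _ (C m ⊓ Z) (C (m + k)) (by haveI := hC m; infer_instance)

theorem mem_filt {P Z : Subgroup G} [Z.Normal] {C : ℕ → Subgroup G} {hC : ∀ m, (C m).Normal} {k : ℕ} {x : G} :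
    x ∈ filt P Z C hC k ↔ x ∈ P ∧ ∀ m : ℕ, ∀ c ∈ C (m + k), ⁅x, c⁆ ∈ C m ⊓ Z := by
  unfold filt
  rw [Subgroup.mem_inf, Subgroup.mem_iInf]
  constructor
  · rintro ⟨h1, h2⟩
    refine ⟨h1, fun m c hc => ?_⟩
    haveI := hC m
    exact mem_centMod.mp (h2 m) c hc
  · rintro ⟨h1, h2⟩
    refine ⟨h1, fun m => ?_⟩
    haveI := hC m
    exact mem_centMod.mpr (h2 m)

theorem filt_normal (P Z : Subgroup G) [P.Normal] [Z.Normal] (C : ℕ → Subgroup G) (hC : ∀ m, (C m).Normal) (k : ℕ) :
    (filt P Z C hC k).Normal := by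
  unfold filt
  have : (⨅ m : ℕ, @centMod G _ (C m ⊓ Z) (C (m + k)) (by haveI := hC m; infer_instance)).Normal := by
    apply Subgroup.normal_iInf_normal
    intro m
    haveI := hC m
    haveI := hC (m + k)
    exact centMod_normal _ _
  infer_instance

end filtration

theorem result {G : Type*} [Group G] [Finite G] {p : ℕ} [Fact p.Prime] (P : Subgroup G) [P.Normal] (hP : IsPGroup p ↥P) (Q : Subgroup G) (hQP : Q ≤ P) (hQchar : (Q.subgroupOf P).Characteristic) (hQ1 : ∀ a ∈ Q, a ^ p ∈ Q ⊓ Subgroup.centralizer ((Q : Subgroup G) : Set G)) (hQ2 : ⁅Q, Q⁆ ≤ Subgroup.centralizer ((Q : Subgroup G) : Set G)) (hQ3 : ⁅P, Q⁆ ≤ Q ⊓ Subgroup.centralizer ((Q : Subgroup G) : Set G)) (hQ4 : P ⊓ Subgroup.centralizer ((Q : Subgroup G) : Set G) = Q ⊓ Subgroup.centralizer ((Q : Subgroup G) : Set G)) (hQ5 : ∀ φ : MulAut ↥P, (orderOf φ).Coprime p → (∀ a : ↥P, (a : G) ∈ Q → φ a = a) → φ = 1) (g : G) (i j : ℕ) (hi : 1 ≤ i) (hj : 1 ≤ j) (hQi : ∀ U V : Subgroup G, Cfsg.IsChiefFactor U V → U ≤ Q → Cfsg.iterCommutator U (Subgroup.zpowers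 g) i ≤ V) (hZj : ∀ U V : Subgroup G, Cfsg.IsChiefFactor U V → U ≤ Q ⊓ Subgroup.centralizer ((Q : Subgroup G) : Set G) → Cfsg.iterCommutator U (Subgroup.zpowers g) j ≤ V) : ∀ U V : Subgroup G, Cfsg.IsChiefFactor U V → U ≤ P → Cfsg.iterCommutator U (Subgroup.zpowers g) (i + j - 1) ≤ V := by
  classical
  set B : Subgroup G := Subgroup.zpowers g with hB
  -- `Q` is normal in `G`
  have hQn : Q.Normal := by
    have h := ConjAct.normal_of_characteristic_of_normal (H := P) (K := Q.subgroupOf P)
    rwa [Subgroup.map_subgroupOf_eq_of_le hQP] at h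
  set Z : Subgroup G := Q ⊓ Subgroup.centralizer ((Q : Subgroup G) : Set G) with hZ
  have hZn : Z.Normal := inferInstance
  have hZQ : ⁅Z, Q⁆ = ⊥ := by
    rw [Subgroup.commutator_eq_bot_iff_le_centralizer]
    exact inf_le_right
  have hZP : ⁅Z, P⁆ ≤ Z := Subgroup.commutator_le_left Z P
  obtain ⟨C, hC0, hCn, hCQ, hCstep, t, ht⟩ := exists_chain Q
  set n : ℕ := i + j - 1 with hn
  -- `P` centralizes the steps of the chain
  have hCP : ∀ m, ⁅C (m + 1), P⁆ ≤ C m := by
    intro m
    rcases hCstep m with h | h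
    · haveI := hCn (m + 1)
      rw [h]
      exact Subgroup.commutator_le_left _ P
    · exact commutator_le_of_isChiefFactor P hP h ((hCQ (m + 1)).trans hQP)
  -- `g` on the steps of the chain
  have hCi : ∀ m, iterCommutator (C (m + 1)) B i ≤ C m := by
    intro m
    rcases hCstep m with h | h
    · haveI := hCn (m + 1)
      rw [h]
      exact iter_le_of_normal i
    · exact hQi _ _ h (hCQ (m + 1))
  have hCj : ∀ m, iterCommutator (C (m + 1) ⊓ Z) B j ≤ C m ⊓ Z := by
    intro m
    haveI := hCn m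
    haveI := hCn (m + 1)
    by_cases hcase : C (m + 1) ⊓ Z ≤ C m
    · exact (iter_le_of_normal j).trans (le_inf hcase inf_le_right)
    · rcases hCstep m with h | h
      · exact absurd (h ▸ inf_le_left) hcase
      · exact hZj _ _ (isChiefFactor_inf h hcase) inf_le_right
  -- the filtration
  set F : ℕ → Subgroup G := fun k => filt P Z C hCn k with hF
  have hFn : ∀ k, (F k).Normal := fun k => filt_normal P Z C hCn k
  have hFP : ∀ k, F k ≤ P := fun k x hx => (mem_filt.mp hx).1
  have hF0 : P ≤ F 0 := by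
    intro x hx
    refine mem_filt.mpr ⟨hx, fun m c hc => ?_⟩
    rw [Nat.add_zero] at hc
    haveI := hCn m
    refine ⟨?_, ?_⟩
    · have : ⁅x, c⁆ = x * c * x⁻¹ * c⁻¹ := commutatorElement_def x c
      rw [this]
      have h1 : x * c * x⁻¹ ∈ C m := (hCn m).conj_mem c hc x
      exact (C m).mul_mem h1 ((C m).inv_mem hc)
    · exact hQ3 (Subgroup.commutator_mem_commutator hx (hCQ m hc))
  have hFt : F t ≤ Z := by
    intro x hx
    obtain ⟨hxP, hx2⟩ := mem_filt.mp hx
    have hxc : x ∈ Subgroup.centralizer ((Q : Subgroup G) : Set G) := by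
      rw [Subgroup.mem_centralizer_iff]
      intro c hc
      have hc' : c ∈ C (0 + t) := by
        rw [Nat.zero_add, ht t le_rfl]; exact hc
      have h1 : ⁅x, c⁆ ∈ C 0 := (hx2 0 c hc').1
      rw [hC0, Subgroup.mem_bot, commutatorElement_eq_one_iff_mul_comm] at h1
      exact h1.symm
    have : x ∈ P ⊓ Subgroup.centralizer ((Q : Subgroup G) : Set G) := ⟨hxP, hxc⟩
    rw [hQ4] at this
    exact this
  have hstep : ∀ k, iterCommutator (F k) B n ≤ F (k + 1) := by
    intro k
    haveI := hFn k
    have hle : iterCommutator (F k) B n ≤ F k := iter_le_of_normal n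
    intro x hx
    refine mem_filt.mpr ⟨hFP k (hle hx), fun m c hc => ?_⟩
    haveI := hCn m
    haveI := hCn (m + 1)
    haveI := hCn (m + k + 1)
    have e1 : m + (k + 1) = m + k + 1 := by omega
    rw [e1] at hc
    have h := pairing_engel' (C m ⊓ Z) (C (m + 1) ⊓ Z) (F k) (C (m + k + 1)) B
      (le_normalizer_of_normal _ _) (le_normalizer_of_normal _ _) (le_normalizer_of_normal _ _)
      (by
        rw [Subgroup.commutator_le]
        intro y hy c' hc'
        have e2 : m + 1 + k = m + k + 1 := by omega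
        have := (mem_filt.mp hy).2 (m + 1) c' (by rw [e2]; exact hc')
        exact this)
      (by
        refine le_inf ?_ ?_
        · exact (Subgroup.commutator_mono inf_le_left (hFP k)).trans (hCP m)
        · exact (Subgroup.commutator_mono inf_le_right (hFP k)).trans hZP)
      (by
        refine le_trans ?_ bot_le
        rw [← hZQ]
        exact Subgroup.commutator_mono inf_le_right (hCQ _))
      i j hi
      (by
        refine (Subgroup.commutator_mono le_rfl (hCi (m + k))).trans ?_
        rw [Subgroup.commutator_le]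
        intro y hy c' hc'
        exact (mem_filt.mp hy).2 m c' hc')
      (hCj m)
    exact h (Subgroup.commutator_mem_commutator hx hc)
  -- the chief factors
  intro U V hUV hUP
  have hUn : U.Normal := hUV.2.1
  have hVn : V.Normal := hUV.2.2.1
  have hVB : ∀ k, iterCommutator V B k ≤ V := fun k => iter_le_of_normal k
  have hred : ∀ n', n' ≤ n → iterCommutator U B n' ≤ V → iterCommutator U B n ≤ V := by
    intro n' hn' h
    have e : n = n' + (n - n') := by omega
    rw [e, iter_add]
    exact (iter_mono h le_rfl (n - n')).trans (hVB (n - n'))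
  by_cases hcase1 : U ⊓ Q ≤ V
  swap
  · have hU := eq_sup_of_isChiefFactor' hUV hcase1
    apply hred i (by omega)
    rw [hU]
    refine (iter_sup_le _ V B i).trans (sup_le le_rfl ?_)
    exact (hQi _ _ (isChiefFactor_inf hUV hcase1) inf_le_right).trans inf_le_left
  by_contra hcon
  have hind : ∀ k, ¬ U ⊓ F k ≤ V := by
    intro k
    induction k with
    | zero =>
      intro h
      have : U ≤ V := (le_inf le_rfl (hUP.trans hF0)).trans h
      exact absurd this (not_le_of_gt hUV.1)
    | succ k ih =>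
      intro h
      apply hcon
      haveI := hFn k
      have hU := eq_sup_of_isChiefFactor' hUV ih
      rw [hU]
      refine (iter_sup_le _ V B n).trans (sup_le le_rfl ?_)
      refine le_trans (le_inf ?_ ?_) h
      · exact (iter_mono inf_le_left le_rfl n).trans (iter_le_of_normal n)
      · exact (iter_mono inf_le_right le_rfl n).trans (hstep k)
  apply hind t
  exact (inf_le_inf_left U (hFt.trans inf_le_left)).trans hcase1

end Cfsg.Agent.S2003
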