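import Cfsg.Statements.S2007
import Cfsg.Agent.Lib.Helper34.NormalPComplement
-- import your own Cfsg.Agent.* helpers here

set_option autoImplicit false
open Cfsg

namespace Cfsg.Agent.S2007

open Cfsg.Agent.Lib.Helper34

/-- Every Sylow `p`-subgroup of `C_G(T)` is central in `C_G(T)`. -/
theorem sylow_centralizer_le_center {G : Type*} [Group G] [Finite G] {p : ℕ} [Fact p.Prime]
    (S : Sylow p G) (T N C : Subgroup G)
    (hNdef : N = Subgroup.normalizer ((T : Subgroup G) : Set G))
    (hCdef : C = Subgroup.centralizer ((T : Subgroup G) : Set G))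
    (hTn : (S : Subgroup G) ≤ N)
    (hC : (S : Subgroup G) ⊓ C ≤ T)
    (Q : Sylow p ↥C) :
    (Q : Subgroup ↥C) ≤ Subgroup.center ↥C := by
  have hCN : C ≤ N := by rw [hNdef, hCdef]; exact Subgroup.centralizer_le_normalizer _
  -- the image of Q in G, as a p-subgroup of N
  set Q' : Subgroup G := (Q : Subgroup ↥C).map C.subtype with hQ'
  have hQ'p : IsPGroup p Q' := Q.isPGroup'.map C.subtype
  have hQ'C : Q' ≤ C := Subgroup.map_subtype_le _
  have hQ''p : IsPGroup p (Q'.subgroupOf N) := hQ'p.comap_subtype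
  obtain ⟨R, hR⟩ := hQ''p.exists_le_sylow
  obtain ⟨n, hn⟩ := MulAction.exists_smul_eq N (S.subtype hTn) R
  -- each q ∈ Q' lies in T
  have hqT : ∀ q ∈ Q', q ∈ T := by
    intro q hq
    have hqN : q ∈ N := hCN (hQ'C hq)
    have h1 : (⟨q, hqN⟩ : N) ∈ (R : Subgroup N) := hR (by rw [Subgroup.mem_subgroupOf]; exact hq)
    rw [← hn, Sylow.coe_subgroup_smul] at h1
    obtain ⟨s, hs, hsq⟩ := h1
    -- s ∈ S.subtype, n s n⁻¹ = q
    have hsS : (s : G) ∈ (S : Subgroup G) := by
      rw [Sylow.coe_subtype] at hs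
      exact Subgroup.mem_subgroupOf.mp hs
    have hsq' : (n : G) * s * (n : G)⁻¹ = q := by
      have := congrArg Subtype.val hsq
      simpa [MulAut.conj_apply] using this
    -- s centralizes T
    have hsC : (s : G) ∈ C := by
      rw [hCdef, Subgroup.mem_centralizer_iff]
      intro t ht
      -- q commutes with n t n⁻¹ ∈ T
      have hnN : (n : G) ∈ Subgroup.normalizer ((T : Subgroup G) : Set G) := hNdef ▸ n.2
      have hnt : (n : G) * t * (n : G)⁻¹ ∈ T := (Subgroup.mem_normalizer_iff.mp hnN t).mp ht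
      have hqc : (n : G) * t * (n : G)⁻¹ * q = q * ((n : G) * t * (n : G)⁻¹) :=
        (Subgroup.mem_centralizer_iff.mp (hCdef ▸ hQ'C hq)) _ hnt
      rw [← hsq'] at hqc
      have e1 : t * (s : G) = (n : G)⁻¹ * ((n : G) * t * (n : G)⁻¹ * ((n : G) * s * (n : G)⁻¹)) * n := by
        group
      have e2 : (s : G) * t = (n : G)⁻¹ * ((n : G) * s * (n : G)⁻¹ * ((n : G) * t * (n : G)⁻¹)) * n := by
        group
      rw [e1, e2, hqc]
    have hsT : (s : G) ∈ T := hC ⟨hsS, hsC⟩
    rw [← hsq']
    have hnN : (n : G) ∈ Subgroup.normalizer ((T : Subgroup G) : Set G) := hNdef ▸ n.2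
    exact (Subgroup.mem_normalizer_iff.mp hnN (s : G)).mp hsT
  intro q hq
  rw [Subgroup.mem_center_iff]
  intro c
  apply Subtype.ext
  have hqQ' : (q : G) ∈ Q' := ⟨q, hq, rfl⟩
  have hc2 : (c : G) ∈ Subgroup.centralizer ((T : Subgroup G) : Set G) := hCdef ▸ c.2
  have := (Subgroup.mem_centralizer_iff.mp hc2) (q : G) (hqT _ hqQ')
  simpa using this.symm

/-- Let p be a prime, G a finite group with Sylow p-subgroup S, and T a normal subgroup of S containing C_S(T). If N_G(T)/C_G(T) is a p-group (every element of N_G(T) of order prime to p centralizes T), then N_G(T) has a normal p-complement. -/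
theorem result {G : Type*} [Group G] [Finite G] {p : ℕ} [Fact p.Prime] (S : Sylow p G) (T : Subgroup G) (hTS : T ≤ (S : Subgroup G)) (hTn : (S : Subgroup G) ≤ Subgroup.normalizer ((T : Subgroup G) : Set G)) (hC : (S : Subgroup G) ⊓ Subgroup.centralizer ((T : Subgroup G) : Set G) ≤ T) (hN : ∀ g ∈ Subgroup.normalizer ((T : Subgroup G) : Set G), (orderOf g).Coprime p → g ∈ Subgroup.centralizer ((T : Subgroup G) : Set G)) : Cfsg.HasNormalPComplement p ↥(Subgroup.normalizer ((T : Subgroup G) : Set G)) := by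
  rw [hasNormalPComplement_iff_pResidual_coprime]
  set N : Subgroup G := Subgroup.normalizer ((T : Subgroup G) : Set G) with hNdef
  set C : Subgroup G := Subgroup.centralizer ((T : Subgroup G) : Set G) with hCdef
  obtain ⟨Q⟩ : Nonempty (Sylow p ↥C) := inferInstance
  obtain ⟨K, hKn, hK⟩ := exists_normal_complement_of_sylow_le_center Q
    (sylow_centralizer_le_center S T N C hNdef hCdef hTn hC Q)
  have hKcop : (Nat.card K).Coprime p := card_coprime_of_isComplement' Q K hK
  have hle : (pResidual p ↥N).map N.subtype ≤ K.map C.subtype := by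
    unfold pResidual
    rw [MonoidHom.map_closure, Subgroup.closure_le]
    rintro _ ⟨g, hg, rfl⟩
    have hg' : Nat.Coprime (orderOf (g : G)) p := by
      rw [Subgroup.orderOf_coe]; exact hg
    have hgC : (g : G) ∈ C := hN g g.2 hg'
    refine ⟨⟨(g : G), hgC⟩, ?_, rfl⟩
    have hg'' : Nat.Coprime (orderOf (⟨(g : G), hgC⟩ : C)) p := by
      rw [← Subgroup.orderOf_coe]; exact hg'
    exact mem_of_coprime_orderOf_of_isComplement' Q K hK _ hg''
  have h1 : Nat.card ((pResidual p ↥N).map N.subtype) = Nat.card (pResidual p ↥N) :=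
    Subgroup.card_map_of_injective N.subtype_injective
  have h2 : Nat.card (K.map C.subtype) = Nat.card K :=
    Subgroup.card_map_of_injective C.subtype_injective
  have h3 := Subgroup.card_dvd_of_le hle
  rw [h1, h2] at h3
  exact Nat.Coprime.coprime_dvd_left h3 hKcop

end Cfsg.Agent.S2007
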