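import Cfsg.Statements.S2009
-- import your own Cfsg.Agent.* helpers here

set_option autoImplicit false
open Cfsg

namespace Cfsg.Agent.S2009

/-- An involution `e` of `H` that has no nontrivial fixed points on the normal subgroup `N`
inverts `N`. -/
theorem inverts_of_fpf {H : Type*} [Group H] [Finite H] (N : Subgroup H) [hNn : N.Normal] (e : H)
    (he : e * e = 1) (hfix : ∀ n ∈ N, e * n * e⁻¹ = n → n = 1) :
    ∀ n ∈ N, e * n * e⁻¹ = n⁻¹ := by
  intro n hn
  let φ : N →* N := (MulAut.conjNormal e : MulAut N).toMonoidHom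
  have hφ : ∀ m : N, ((φ m : N) : H) = e * m * e⁻¹ := fun m => rfl
  have hfpf : MonoidHom.FixedPointFree φ := by
    intro m hm
    have h1 : e * (m : H) * e⁻¹ = m := by rw [← hφ, hm]
    exact Subtype.ext (hfix m m.2 h1)
  have hinv : Function.Involutive φ := by
    intro m
    apply Subtype.ext
    rw [hφ, hφ]
    have he' : e⁻¹ = e := inv_eq_of_mul_eq_one_right he
    rw [he']
    calc e * (e * (m : H) * e) * e = (e * e) * m * (e * e) := by group
      _ = m := by rw [he]; simp
  have key := hfpf.coe_eq_inv_of_involutive hinv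
  have := congrFun key ⟨n, hn⟩
  have h2 := congrArg (Subtype.val) this
  simpa [hφ] using h2

theorem exists_second {H : Type*} [Group H] (z : H) (E : Subgroup H) (hE : IsKleinFour ↥E) :
    ∃ e2 ∈ E, e2 ≠ 1 ∧ e2 ≠ z := by
  have : Finite E := IsKleinFour.instFinite
  have := Fintype.ofFinite E
  have hcard : 2 < Fintype.card E := by
    rw [← Nat.card_eq_fintype_card, hE.card_four]; norm_num
  obtain ⟨a, b, c, hab, hac, hbc⟩ := Fintype.two_lt_card_iff.mp hcard
  by_contra hcon
  push Not at hcon
  have h' : ∀ x : E, (x : H) = 1 ∨ (x : H) = z := by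
    intro x
    by_cases hx : (x : H) = 1
    · exact Or.inl hx
    · exact Or.inr (hcon x x.2 hx)
  have hab' : (a : H) ≠ b := fun h => hab (Subtype.ext h)
  have hac' : (a : H) ≠ c := fun h => hac (Subtype.ext h)
  have hbc' : (b : H) ≠ c := fun h => hbc (Subtype.ext h)
  rcases h' a with ha | ha <;> rcases h' b with hb | hb <;> rcases h' c with hc'' | hc'' <;>
    simp_all

theorem proper_normal_eq_bot {H : Type*} [Group H] [Finite H] (z : H) (hz : orderOf z = 2)
    (hN : ∀ N : Subgroup H, N.Normal → N ≠ ⊤ → N ⊓ Subgroup.centralizer ({z} : Set H) = ⊥)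
    (E : Subgroup H) (hE : IsKleinFour ↥E) (hzE : z ∈ E) (hc : ∀ e ∈ E, e ≠ 1 → IsConj z e)
    (N : Subgroup H) (hNn : N.Normal) (hNt : N ≠ ⊤) : N = ⊥ := by
  have hzz : z * z = 1 := by
    have := pow_orderOf_eq_one z
    rw [hz, pow_two] at this
    exact this
  have hz1 : z ≠ 1 := by
    intro h
    rw [h, orderOf_one] at hz
    omega
  -- every nontrivial element of E is a fixed-point-free involution on N
  have hfix : ∀ e ∈ E, e ≠ 1 → ∀ n ∈ N, e * n * e⁻¹ = n → n = 1 := by
    intro e heE he1 n hn hen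
    obtain ⟨c, hc'⟩ := isConj_iff.mp (hc e heE he1)
    -- c * z * c⁻¹ = e
    have hmem : c⁻¹ * n * c ∈ N ⊓ Subgroup.centralizer ({z} : Set H) := by
      refine ⟨?_, Subgroup.mem_centralizer_iff.mpr ?_⟩
      · have := hNn.conj_mem n hn c⁻¹
        simpa using this
      · intro y hy
        rw [Set.mem_singleton_iff] at hy
        subst hy
        -- y * (c⁻¹ n c) = (c⁻¹ n c) * y
        have h1 : e * n = n * e := by
          have := congrArg (· * e) hen
          simpa [mul_assoc] using this
        rw [← hc'] at h1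
        calc y * (c⁻¹ * n * c) = c⁻¹ * ((c * y * c⁻¹) * n) * c := by group
          _ = c⁻¹ * (n * (c * y * c⁻¹)) * c := by rw [h1]
          _ = c⁻¹ * n * c * y := by group
    rw [hN N hNn hNt, Subgroup.mem_bot] at hmem
    have : n = c * (c⁻¹ * n * c) * c⁻¹ := by group
    rw [this, hmem]; simp
  have hEsq : ∀ e ∈ E, e * e = 1 := by
    intro e he
    have := IsKleinFour.mul_self (G := E) ⟨e, he⟩
    exact congrArg Subtype.val this
  have hinv : ∀ e ∈ E, e ≠ 1 → ∀ n ∈ N, e * n * e⁻¹ = n⁻¹ := by
    intro e heE he1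
    have := hNn
    exact inverts_of_fpf N e (hEsq e heE) (hfix e heE he1)
  -- a second involution
  obtain ⟨e2, he2E, he21, he2z⟩ := exists_second z E hE
  have he3E : z * e2 ∈ E := E.mul_mem hzE he2E
  have he31 : z * e2 ≠ 1 := by
    intro h
    apply he2z
    have : e2 = z⁻¹ := by
      rw [eq_inv_iff_mul_eq_one]
      have := hEsq _ he3E
      -- use commutativity differently: z * e2 = 1 → e2 = z⁻¹
      have h2 : e2 = z⁻¹ * (z * e2) := by group
      rw [h2, h]; simp
    rw [this]
    exact inv_eq_of_mul_eq_one_right hzz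
  rw [Subgroup.eq_bot_iff_forall]
  intro n hn
  have h2 := hinv e2 he2E he21 n hn
  have h1 := hinv z hzE hz1 n⁻¹ (N.inv_mem hn)
  have h3 := hinv (z * e2) he3E he31 n hn
  have h4 : (z * e2) * n * (z * e2)⁻¹ = n := by
    calc (z * e2) * n * (z * e2)⁻¹ = z * (e2 * n * e2⁻¹) * z⁻¹ := by group
      _ = z * n⁻¹ * z⁻¹ := by rw [h2]
      _ = n := by rw [h1]; simp
  exact hfix (z * e2) he3E he31 n hn h4

/-- Let H be a finite group and z an involution such that every proper normal subgroup of H meets the centralizer of z trivially, and suppose z lies in a Klein four-subgroup E of H all three of whose involutions are conjugate to z in H. Then H is simple. -/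
theorem result {H : Type*} [Group H] [Finite H] (z : H) (hz : orderOf z = 2) (hN : ∀ N : Subgroup H, N.Normal → N ≠ ⊤ → N ⊓ Subgroup.centralizer ({z} : Set H) = ⊥) (E : Subgroup H) (hE : IsKleinFour ↥E) (hzE : z ∈ E) (hc : ∀ e ∈ E, e ≠ 1 → IsConj z e) : IsSimpleGroup H := by
  have hz1 : z ≠ 1 := by
    intro h
    rw [h, orderOf_one] at hz
    omega
  have : Nontrivial H := ⟨⟨z, 1, hz1⟩⟩
  refine ⟨fun N hNn => ?_⟩
  by_cases hNt : N = ⊤
  · exact Or.inr hNt
  · exact Or.inl (proper_normal_eq_bot z hz hN E hE hzE hc N hNn hNt)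

end Cfsg.Agent.S2009
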