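import Cfsg.Statements.S2010
-- import your own Cfsg.Agent.* helpers here
import Cfsg.Agent.Lib.Helper97.ClassTwoJ
import Cfsg.Agent.Lib.Helper97.CoprimeQuot
import Cfsg.Agent.Lib.Helper97.ThompsonMap

set_option autoImplicit false
open Cfsg

namespace Cfsg.Agent.S2010

/-- Let G be a finite solvable group with no section isomorphic to the symmetric group of degree 4, whose Sylow 2-subgroup S has nilpotency class at most 2. Then G = N_G(J_e(S)) · O_{2'}(G), where J_e(S) is the subgroup generated by the elementary abelian subgroups of S of largest order. -/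
theorem result {G : Type*} [Group G] [Finite G]
    [Group.IsSolvable G] (hS4 : ¬ Cfsg.Involves (Equiv.Perm (Fin 4)) G) (S : Sylow 2 G)
    (hcl : Subgroup.lowerCentralSeries (S : Subgroup G) 2 = ⊥) :
    Subgroup.normalizer ((Cfsg.thompsonSubgroupOf 2 (S : Subgroup G)) : Set G) ⊔ Cfsg.pPrimeCore 2 G = ⊤ := by
  have h2 : Fact (Nat.Prime 2) := ⟨Nat.prime_two⟩
  have hNcop : (Nat.card (pPrimeCore 2 G)).Coprime 2 :=
    Cfsg.Agent.Lib.Helper97.card_pPrimeCore_coprime 2
  have hsurj : Function.Surjective (QuotientGroup.mk' (pPrimeCore 2 G)) :=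
    QuotientGroup.mk'_surjective _
  have hinj : ∀ x ∈ (S : Subgroup G), (QuotientGroup.mk' (pPrimeCore 2 G)) x = 1 → x = 1 := by
    intro x hx h1
    have h2 : x ∈ pPrimeCore 2 G := (QuotientGroup.eq_one_iff x).mp h1
    have h3 : (S : Subgroup G) ⊓ pPrimeCore 2 G = ⊥ :=
      Cfsg.Agent.Lib.Helper97.inf_eq_bot_of_isPGroup_of_coprime S.isPGroup' hNcop
    have h4 : x ∈ (S : Subgroup G) ⊓ pPrimeCore 2 G := ⟨hx, h2⟩
    rw [h3, Subgroup.mem_bot] at h4
    exact h4
  have hsolvQ : IsPSolvable 2 (G ⧸ pPrimeCore 2 G) :=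
    Cfsg.Agent.Lib.Helper97.ClassTwoJ.isPSolvable_of_isSolvable_light 2 _ (G ⧸ pPrimeCore 2 G) rfl
  have hOQ : pPrimeCore 2 (G ⧸ pPrimeCore 2 G) = ⊥ :=
    Cfsg.Agent.Lib.Helper97.pPrimeCore_quotient_pPrimeCore 2
  have hS4Q : ¬ Cfsg.Involves (Equiv.Perm (Fin 4)) (G ⧸ pPrimeCore 2 G) := fun h =>
    hS4 (Cfsg.Agent.Lib.Helper99.S4Inv.Involves.of_quotient (pPrimeCore 2 G) h)
  have hclQ : Subgroup.lowerCentralSeries ((S.mapSurjective hsurj : Sylow 2 (G ⧸ pPrimeCore 2 G)) :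
      Subgroup (G ⧸ pPrimeCore 2 G)) 2 = ⊥ := by
    rw [Sylow.coe_mapSurjective]
    have h1 : Subgroup.lowerCentralSeries ((S : Subgroup G).map (QuotientGroup.mk' (pPrimeCore 2 G))) 2
        = (Subgroup.lowerCentralSeries (S : Subgroup G) 2).map (QuotientGroup.mk' (pPrimeCore 2 G)) := by
      simp only [Subgroup.lowerCentralSeries_succ, Subgroup.lowerCentralSeries_zero,
        Subgroup.map_commutator]
    rw [h1, hcl, Subgroup.map_bot]
  have key := Cfsg.Agent.Lib.Helper97.ClassTwoJ.thompsonSubgroupOf_normal hsolvQ hOQ hS4Q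
    (S.mapSurjective hsurj) hclQ
  rw [Sylow.coe_mapSurjective,
    Cfsg.Agent.Lib.Helper97.thompsonSubgroupOf_map_of_injOn 2 _ _ hinj] at key
  have hJ : IsPGroup 2 (thompsonSubgroupOf 2 (S : Subgroup G)) :=
    S.isPGroup'.to_le (Cfsg.Agent.Lib.Helper97.thompsonSubgroupOf_le 2 _)
  have key2 := Subgroup.normalizer_eq_top_iff.mpr key
  rw [Cfsg.Agent.Lib.Helper97.normalizer_map_mk_of_coprime hJ hNcop] at key2
  rw [eq_top_iff]
  intro g _
  have hg : (QuotientGroup.mk' (pPrimeCore 2 G)) g ∈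
      (Subgroup.normalizer ((thompsonSubgroupOf 2 (S : Subgroup G) : Subgroup G) : Set G)).map
        (QuotientGroup.mk' (pPrimeCore 2 G)) := by
    rw [key2]
    exact Subgroup.mem_top _
  obtain ⟨n, hn, hng⟩ := hg
  have h3 : n⁻¹ * g ∈ pPrimeCore 2 G := by
    rw [← QuotientGroup.eq_one_iff]
    have : ((n⁻¹ * g : G) : G ⧸ pPrimeCore 2 G) =
        ((QuotientGroup.mk' (pPrimeCore 2 G)) n)⁻¹ * (QuotientGroup.mk' (pPrimeCore 2 G)) g := by
      simp
    rw [this, hng, inv_mul_cancel]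
  have h4 : g = n * (n⁻¹ * g) := by group
  rw [h4]
  exact Subgroup.mul_mem _ (Subgroup.mem_sup_left hn) (Subgroup.mem_sup_right h3)

end Cfsg.Agent.S2010
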