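import Cfsg.Statements.S2011
import Cfsg.Agent.Lib.Helper34.Cores
import Cfsg.Agent.Lib.Helper34.SylowConj
import Cfsg.Agent.Lib.Helper34.NormalPComplement
-- import your own Cfsg.Agent.* helpers here

set_option autoImplicit false
open Cfsg

namespace Cfsg.Agent.S2011

open Cfsg.Agent.Lib.Helper34

theorem isConj_iff {G : Type*} [Group G] (P Q R : Subgroup G) (hQ : Q ≤ P) :
    (Cfsg.groupFusionSystem P).IsConj Q R ↔
      ∃ g : G, R = Q.map (MulAut.conj g).toMonoidHom ∧ R ≤ P := by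
  constructor
  · rintro ⟨φ, ⟨_, hφP, g, hg⟩, hrange⟩
    refine ⟨g, ?_, ?_⟩
    · rw [← hrange]
      ext x
      rw [mem_map_conj_iff, MonoidHom.mem_range]
      constructor
      · rintro ⟨q, rfl⟩
        rw [hg q]
        have : g⁻¹ * (g * (q : G) * g⁻¹) * g = q := by group
        rw [this]; exact q.2
      · intro hx
        refine ⟨⟨g⁻¹ * x * g, hx⟩, ?_⟩
        rw [hg]
        show g * (g⁻¹ * x * g) * g⁻¹ = x
        group
    · rw [← hrange]
      rintro _ ⟨q, rfl⟩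
      exact hφP q
  · rintro ⟨g, hR, hRP⟩
    refine ⟨Cfsg.conjHom Q g, ⟨hQ, fun x => ?_, g, fun x => rfl⟩, ?_⟩
    · apply hRP
      rw [hR]
      exact ⟨x, x.2, rfl⟩
    · rw [hR]
      unfold Cfsg.conjHom
      rw [MonoidHom.range_comp, Subgroup.range_subtype]

/-- conjugating a centralizing element -/
theorem conj_mem_centralizer_map_conj {G : Type*} [Group G] (Q : Subgroup G) (g m : G)
    (hm : m ∈ Subgroup.centralizer (Q : Set G)) :
    g * m * g⁻¹ ∈ Subgroup.centralizer ((Q.map (MulAut.conj g).toMonoidHom : Subgroup G) : Set G) := by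
  rw [Subgroup.mem_centralizer_iff]
  intro r hr
  rw [SetLike.mem_coe, mem_map_conj_iff] at hr
  have := (Subgroup.mem_centralizer_iff.mp hm) _ hr
  calc r * (g * m * g⁻¹) = g * ((g⁻¹ * r * g) * m) * g⁻¹ := by group
    _ = g * (m * (g⁻¹ * r * g)) * g⁻¹ := by rw [this]
    _ = g * m * g⁻¹ * r := by group

theorem conj_inv_mem_centralizer {G : Type*} [Group G] (Q : Subgroup G) (g y : G)
    (hy : y ∈ Subgroup.centralizer ((Q.map (MulAut.conj g).toMonoidHom : Subgroup G) : Set G)) :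
    g⁻¹ * y * g ∈ Subgroup.centralizer (Q : Set G) := by
  rw [Subgroup.mem_centralizer_iff]
  intro q hq
  have hq' : g * q * g⁻¹ ∈ ((Q.map (MulAut.conj g).toMonoidHom : Subgroup G) : Set G) := by
    rw [SetLike.mem_coe, mem_map_conj_iff]
    have : g⁻¹ * (g * q * g⁻¹) * g = q := by group
    rw [this]; exact hq
  have := (Subgroup.mem_centralizer_iff.mp hy) _ hq'
  calc q * (g⁻¹ * y * g) = g⁻¹ * ((g * q * g⁻¹) * y) * g := by group
    _ = g⁻¹ * (y * (g * q * g⁻¹)) * g := by rw [this]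
    _ = g⁻¹ * y * g * q := by group

/-- If `Q` is centric, every Sylow `p`-subgroup of `C_G(Q)` lies in `Z(Q)`. -/
theorem sylow_centralizer_le {G : Type*} [Group G] [Finite G] (p : ℕ) [Fact p.Prime] (P : Sylow p G)
    (Q C : Subgroup G) (hC : C = Subgroup.centralizer (Q : Set G)) (hQ : Q ≤ P)
    (hcen : (Cfsg.groupFusionSystem (P : Subgroup G)).IsCentric Q) (S : Sylow p ↥C) :
    (S : Subgroup ↥C) ≤ (Q ⊓ C).subgroupOf C := by
  have hQp : IsPGroup p Q := P.isPGroup'.to_le hQ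
  set M : Subgroup G := (S : Subgroup ↥C).map C.subtype with hM
  have hMp : IsPGroup p M := S.isPGroup'.map _
  have hMC : M ≤ C := Subgroup.map_subtype_le _
  have hMN : M ≤ Subgroup.normalizer (Q : Set G) := by
    rw [hC] at hMC
    exact hMC.trans (Subgroup.centralizer_le_normalizer _)
  have hBp : IsPGroup p (M ⊔ Q : Subgroup G) := hMp.to_sup_of_normal_right' hQp hMN
  obtain ⟨P₀, hP₀⟩ := hBp.exists_le_sylow
  obtain ⟨g, hg⟩ := MulAction.exists_smul_eq G P₀ P
  have hconjP : ∀ x ∈ (M ⊔ Q : Subgroup G), g * x * g⁻¹ ∈ (P : Subgroup G) := by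
    intro x hx
    rw [← hg, mem_sylow_smul_iff]
    have : g⁻¹ * (g * x * g⁻¹) * g = x := by group
    rw [this]; exact hP₀ hx
  set R : Subgroup G := Q.map (MulAut.conj g).toMonoidHom with hR
  have hRP : R ≤ (P : Subgroup G) := by
    rintro _ ⟨q, hq, rfl⟩
    exact hconjP q (le_sup_right (a := M) hq)
  have hconj : (Cfsg.groupFusionSystem (P : Subgroup G)).IsConj Q R :=
    (isConj_iff _ Q R hQ).mpr ⟨g, rfl, hRP⟩
  have hcR := hcen.2 R hconj
  intro s hs
  rw [Subgroup.mem_subgroupOf]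
  refine ⟨?_, s.2⟩
  have hsM : (s : G) ∈ M := ⟨s, hs, rfl⟩
  have h1 : g * (s : G) * g⁻¹ ∈ (P : Subgroup G) := hconjP _ (le_sup_left (b := Q) hsM)
  have h2 : g * (s : G) * g⁻¹ ∈ Subgroup.centralizer (R : Set G) :=
    conj_mem_centralizer_map_conj Q g _ (hC ▸ s.2)
  have h3 : g * (s : G) * g⁻¹ ∈ R := hcR ⟨h1, h2⟩
  rw [hR, mem_map_conj_iff] at h3
  have : g⁻¹ * (g * (s : G) * g⁻¹) * g = s := by group
  rw [this] at h3
  exact h3

theorem forward {G : Type*} [Group G] [Finite G] (p : ℕ) [Fact p.Prime] (P : Sylow p G)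
    (Q C : Subgroup G) (hC : C = Subgroup.centralizer (Q : Set G)) (hQ : Q ≤ P)
    (hcen : (Cfsg.groupFusionSystem (P : Subgroup G)).IsCentric Q) :
    Cfsg.IsInternalDirectProduct (Q ⊓ C) ((Cfsg.pPrimeCore p ↥C).map C.subtype) C := by
  have hQp : IsPGroup p Q := P.isPGroup'.to_le hQ
  have hOcop : (Nat.card (Cfsg.pPrimeCore p ↥C)).Coprime p := pPrimeCore_card_coprime p
  refine ⟨inf_le_right, Subgroup.map_subtype_le _, ?_, ?_, ?_⟩
  · rintro a ha _ ⟨b, _, rfl⟩
    have hb : (b : G) ∈ Subgroup.centralizer (Q : Set G) := hC ▸ b.2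
    exact (Subgroup.mem_centralizer_iff.mp hb) a ha.1
  · rw [Subgroup.eq_bot_iff_forall]
    rintro x ⟨hxZ, ⟨o, ho, rfl⟩⟩
    obtain ⟨k, hk⟩ := hQp ⟨(o : G), hxZ.1⟩
    have hk' : (o : G) ^ p ^ k = 1 := congrArg Subtype.val hk
    have h1 : orderOf (o : G) ∣ p ^ k := orderOf_dvd_of_pow_eq_one hk'
    have h2 : orderOf (o : G) ∣ Nat.card (Cfsg.pPrimeCore p ↥C) := by
      have : orderOf (⟨o, ho⟩ : Cfsg.pPrimeCore p ↥C) = orderOf (o : G) := by
        rw [← Subgroup.orderOf_coe, ← Subgroup.orderOf_coe]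
      rw [← this]
      exact orderOf_dvd_natCard _
    have h3 : orderOf (o : G) = 1 :=
      Nat.eq_one_of_dvd_coprimes (Nat.Coprime.pow_right k hOcop) h2 h1
    exact orderOf_eq_one_iff.mp h3
  · apply le_antisymm (sup_le inf_le_right (Subgroup.map_subtype_le _))
    intro c hc
    obtain ⟨S⟩ : Nonempty (Sylow p ↥C) := inferInstance
    have hSle := sylow_centralizer_le p P Q C hC hQ hcen S
    have hcenter : (S : Subgroup ↥C) ≤ Subgroup.center ↥C := by
      intro s hs
      have hsQ := hSle hs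
      rw [Subgroup.mem_subgroupOf] at hsQ
      rw [Subgroup.mem_center_iff]
      intro c'
      apply Subtype.ext
      have hc' : (c' : G) ∈ Subgroup.centralizer (Q : Set G) := hC ▸ c'.2
      have := (Subgroup.mem_centralizer_iff.mp hc') (s : G) hsQ.1
      simpa using this.symm
    obtain ⟨K, hKn, hK⟩ := exists_normal_complement_of_sylow_le_center S hcenter
    have hKcop : (Nat.card K).Coprime p := card_coprime_of_isComplement' S K hK
    have hKle : K ≤ Cfsg.pPrimeCore p ↥C := le_pPrimeCore_of_normal hKn hKcop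
    have htop : (⟨c, hc⟩ : ↥C) ∈ K ⊔ (S : Subgroup ↥C) := by
      rw [hK.sup_eq_top]; exact Subgroup.mem_top _
    have := hKn
    rw [Subgroup.mem_sup_of_normal_left] at htop
    obtain ⟨y, hy, z, hz, hyz⟩ := htop
    have hcz : c = (z : G) * ((z : G)⁻¹ * (y : G) * (z : G)) := by
      have := congrArg Subtype.val hyz
      simp only [Subgroup.coe_mul] at this
      rw [← this]; group
    rw [hcz]
    apply Subgroup.mul_mem_sup
    · have := hSle hz
      rw [Subgroup.mem_subgroupOf] at this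
      exact this
    · refine ⟨z⁻¹ * y * z, ?_, by simp⟩
      have hn : (Cfsg.pPrimeCore p ↥C).Normal := pPrimeCore_isNormal p
      have := hn.conj_mem y (hKle hy) z⁻¹
      simpa using this

theorem backward {G : Type*} [Group G] [Finite G] (p : ℕ) [Fact p.Prime] (P : Sylow p G)
    (Q C : Subgroup G) (hC : C = Subgroup.centralizer (Q : Set G)) (hQ : Q ≤ P)
    (h : Cfsg.IsInternalDirectProduct (Q ⊓ C) ((Cfsg.pPrimeCore p ↥C).map C.subtype) C) :
    (Cfsg.groupFusionSystem (P : Subgroup G)).IsCentric Q := by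
  obtain ⟨_, _, hcomm, hdisj, hsup⟩ := h
  have hOcop : (Nat.card (Cfsg.pPrimeCore p ↥C)).Coprime p := pPrimeCore_card_coprime p
  refine ⟨hQ, ?_⟩
  intro R hconj
  obtain ⟨g, hR, hRP⟩ := (isConj_iff _ Q R hQ).mp hconj
  rintro y ⟨hyP, hyC⟩
  rw [hR, mem_map_conj_iff]
  have hy'C : g⁻¹ * y * g ∈ C := by
    rw [hC]
    apply conj_inv_mem_centralizer Q g y
    rw [← hR]; exact hyC
  -- decompose y' = z * o
  have hmem : (⟨g⁻¹ * y * g, hy'C⟩ : ↥C) ∈ (Q ⊓ C).subgroupOf C ⊔ Cfsg.pPrimeCore p ↥C := by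
    have h1 : ((Cfsg.pPrimeCore p ↥C).map C.subtype).subgroupOf C = Cfsg.pPrimeCore p ↥C := by
      unfold Subgroup.subgroupOf
      exact Subgroup.comap_map_eq_self_of_injective C.subtype_injective _
    rw [← h1, ← Subgroup.subgroupOf_sup inf_le_right (Subgroup.map_subtype_le _), hsup,
      Subgroup.subgroupOf_self]
    exact Subgroup.mem_top _
  have hn : (Cfsg.pPrimeCore p ↥C).Normal := pPrimeCore_isNormal p
  rw [Subgroup.mem_sup_of_normal_right] at hmem
  obtain ⟨z, hz, o, ho, hzo⟩ := hmem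
  rw [Subgroup.mem_subgroupOf] at hz
  have hzo' : (z : G) * (o : G) = g⁻¹ * y * g := by
    have := congrArg Subtype.val hzo
    simpa using this
  -- y' is a p-element
  obtain ⟨k, hk⟩ := P.isPGroup' ⟨y, hyP⟩
  have hk' : y ^ p ^ k = 1 := congrArg Subtype.val hk
  have hy'k : (g⁻¹ * y * g) ^ p ^ k = 1 := by
    have : g⁻¹ * y * g = (MulAut.conj g⁻¹) y := by simp
    rw [this, ← map_pow, hk', map_one]
  have hoO : (o : G) ∈ (Cfsg.pPrimeCore p ↥C).map C.subtype := ⟨o, ho, rfl⟩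
  have hc : Commute (z : G) (o : G) := hcomm _ hz _ hoO
  rw [← hzo', hc.mul_pow] at hy'k
  have hopow : (o : G) ^ p ^ k ∈ (Q ⊓ C) ⊓ (Cfsg.pPrimeCore p ↥C).map C.subtype := by
    refine ⟨?_, Subgroup.pow_mem _ hoO _⟩
    have : (o : G) ^ p ^ k = ((z : G) ^ p ^ k)⁻¹ := eq_inv_of_mul_eq_one_right hy'k
    rw [this]
    exact Subgroup.inv_mem _ (Subgroup.pow_mem _ hz _)
  rw [hdisj, Subgroup.mem_bot] at hopow
  have h1 : orderOf (o : G) ∣ p ^ k := orderOf_dvd_of_pow_eq_one hopow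
  have h2 : orderOf (o : G) ∣ Nat.card (Cfsg.pPrimeCore p ↥C) := by
    have : orderOf (⟨o, ho⟩ : Cfsg.pPrimeCore p ↥C) = orderOf (o : G) := by
      rw [← Subgroup.orderOf_coe, ← Subgroup.orderOf_coe]
    rw [← this]
    exact orderOf_dvd_natCard _
  have h3 : orderOf (o : G) = 1 :=
    Nat.eq_one_of_dvd_coprimes (Nat.Coprime.pow_right k hOcop) h2 h1
  have ho1 : (o : G) = 1 := orderOf_eq_one_iff.mp h3
  rw [← hzo', ho1, mul_one]
  exact hz.1

/-- Let G be a finite group with Sylow p-subgroup P and Q ≤ P. Then Q is centric in the fusion system of G on P (C_P(R) ≤ R for every G-conjugate R of Q lying in P) if and only if C_G(Q) is the internal direct product of Z(Q) = Q ∩ C_G(Q) and the largest normal subgroup of C_G(Q) of order prime to p. -/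
theorem result {G : Type*} [Group G] [Finite G] (p : ℕ) [Fact p.Prime] (P : Sylow p G) (Q : Subgroup G) (hQ : Q ≤ P) : (Cfsg.groupFusionSystem (P : Subgroup G)).IsCentric Q ↔ Cfsg.IsInternalDirectProduct (Q ⊓ Subgroup.centralizer (Q : Set G)) ((Cfsg.pPrimeCore p ↥(Subgroup.centralizer (Q : Set G))).map (Subgroup.centralizer (Q : Set G)).subtype) (Subgroup.centralizer (Q : Set G)) :=
  ⟨forward p P Q _ rfl hQ, backward p P Q _ rfl hQ⟩

end Cfsg.Agent.S2011
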