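import Cfsg.Statements.S2014
import Cfsg.Agent.Lib.Helper34.PResidual
-- import your own Cfsg.Agent.* helpers here

set_option autoImplicit false
open Cfsg

namespace Cfsg.Agent.S2014

open Cfsg.Agent.Lib.Helper34

theorem mem_map_conj {G : Type*} [Group G] (H : Subgroup G) (g x : G) :
    x ∈ H.map (MulAut.conj g).toMonoidHom ↔ g⁻¹ * x * g ∈ H := by
  constructor
  · rintro ⟨y, hy, rfl⟩
    simpa [MulAut.conj_apply, mul_assoc] using hy
  · intro hx
    exact ⟨g⁻¹ * x * g, hx, by simp [MulAut.conj_apply, mul_assoc]⟩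

/-- Let P be a Sylow p-subgroup of a finite group G and A, C ≤ P subgroups conjugate in G, with C extremal: N_P(C) is a Sylow p-subgroup of N_G(C). Then there is g with gAg⁻¹ = C and g N_P(A) g⁻¹ ≤ N_P(C); moreover, given any h with hAh⁻¹ = C, g can be chosen so that h g⁻¹ lies in O^p(N_G(C)), the subgroup of N_G(C) generated by its elements of order prime to p. -/
theorem result {G : Type*} [Group G] [Finite G] (p : ℕ) [Fact p.Prime] (P : Sylow p G) (A C : Subgroup G) (hA : A ≤ P) (hC : C ≤ P) (hext : ¬ p ∣ ((P : Subgroup G) ⊓ Subgroup.normalizer ((C : Subgroup G) : Set G)).relIndex (Subgroup.normalizer ((C : Subgroup G) : Set G))) (h : G) (hh : A.map (MulAut.conj h).toMonoidHom = C) : ∃ g : G, A.map (MulAut.conj g).toMonoidHom = C ∧ ((P : Subgroup G) ⊓ Subgroup.normalizer ((A : Subgroup G) : Set G)).map (MulAut.conj g).toMonoidHom ≤ (P : Subgroup G) ⊓ Subgroup.normalizer ((C : Subgroup G) : Set G) ∧ h * g⁻¹ ∈ (Cfsg.pResidual p ↥(Subgroup.normalizer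 ((C : Subgroup G) : Set G))).map (Subgroup.normalizer ((C : Subgroup G) : Set G)).subtype := by
  set N : Subgroup G := Subgroup.normalizer ((C : Subgroup G) : Set G) with hN
  set S : Subgroup G := (P : Subgroup G) ⊓ N with hS
  set R : Subgroup G := ((P : Subgroup G) ⊓ Subgroup.normalizer ((A : Subgroup G) : Set G)).map
    (MulAut.conj h).toMonoidHom with hR
  have hSp : IsPGroup p (S.subgroupOf N) := (P.isPGroup'.to_le inf_le_left).comap_subtype
  have hRp : IsPGroup p (R.subgroupOf N) :=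
    ((P.isPGroup'.to_le inf_le_left).map (MulAut.conj h).toMonoidHom).comap_subtype
  have hRN : R ≤ N := by
    intro x hx
    rw [hR, mem_map_conj] at hx
    rw [hN, Subgroup.mem_normalizer_iff]
    intro c
    -- c ∈ C ↔ x c x⁻¹ ∈ C, with C = h A h⁻¹ and h⁻¹ x h ∈ N(A)
    have hx2 := (Subgroup.mem_normalizer_iff.mp hx.2)
    have hCmem : ∀ y, y ∈ C ↔ h⁻¹ * y * h ∈ A := by
      intro y; rw [← hh, mem_map_conj]
    rw [hCmem, hCmem, hx2 (h⁻¹ * c * h)]
    have : h⁻¹ * x * h * (h⁻¹ * c * h) * (h⁻¹ * x * h)⁻¹ = h⁻¹ * (x * c * x⁻¹) * h := by group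
    rw [this]
  obtain ⟨k, hk, hkR⟩ := exists_mem_pResidual_conj_le p (S.subgroupOf N) (R.subgroupOf N) hSp hext hRp
  refine ⟨(k : G) * h, ?_, ?_, ?_⟩
  · -- (k h) A (k h)⁻¹ = k C k⁻¹ = C
    have hkN : (k : G) ∈ Subgroup.normalizer ((C : Subgroup G) : Set G) := k.2
    ext x
    rw [mem_map_conj]
    have hCmem : ∀ y, y ∈ C ↔ h⁻¹ * y * h ∈ A := by
      intro y; rw [← hh, mem_map_conj]
    have : ((k : G) * h)⁻¹ * x * ((k : G) * h) = h⁻¹ * ((k : G)⁻¹ * x * k) * h := by group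
    rw [this, ← hCmem]
    have hk' := Subgroup.mem_normalizer_iff.mp (Subgroup.inv_mem _ hkN) x
    rw [hk']; simp
  · intro x hx
    rw [mem_map_conj] at hx
    -- y := h (..) h⁻¹ ∈ R where x = k y k⁻¹
    have hy : (k : G)⁻¹ * x * k ∈ R := by
      rw [hR, mem_map_conj]
      have : ((k : G) * h)⁻¹ * x * ((k : G) * h) = h⁻¹ * ((k : G)⁻¹ * x * k) * h := by group
      rw [← this]; exact hx
    have hyN : (k : G)⁻¹ * x * k ∈ N := hRN hy
    have := hkR ⟨(k : G)⁻¹ * x * k, hyN⟩ (by rw [Subgroup.mem_subgroupOf]; exact hy)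
    rw [Subgroup.mem_subgroupOf] at this
    have h2 : ((k * ⟨(k : G)⁻¹ * x * k, hyN⟩ * k⁻¹ : N) : G) = x := by
      simp only [Subgroup.coe_mul, Subgroup.coe_inv]
      group
    rw [h2] at this
    exact this
  · refine ⟨k⁻¹, Subgroup.inv_mem _ hk, ?_⟩
    simp

end Cfsg.Agent.S2014
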