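import Mathlib
import Cfsg.Statements.S2015
import Cfsg.Agent.S1984
import Cfsg.Agent.S1978
import Cfsg.Agent.Lib.Helper33.KInfFunctor

set_option autoImplicit false
universe u
open Cfsg

namespace Cfsg.Agent.S2015

open Cfsg.Agent.Lib.Helper33

/-- The induced functor of `kInfLower` at the range of an injective hom is the image of `kInfLower`. -/
theorem induced_range {P G : Type u} [Group P] [Group G] (ι : P →* G) (hι : Function.Injective ι) :
    Cfsg.inducedFunctor (G := G) Cfsg.kInfLower ι.range = (Cfsg.kInfLower P).map ι := by
  unfold Cfsg.inducedFunctor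
  have h := kInfLower_map_equiv (MonoidHom.ofInjective hι)
  rw [← h, Subgroup.map_map]
  congr 1

theorem normalizer_map_conj {G : Type*} [Group G] (H : Subgroup G) (g : G) :
    Subgroup.normalizer ((H.map (MulAut.conj g).toMonoidHom : Subgroup G) : Set G) =
      (Subgroup.normalizer (H : Set G)).map (MulAut.conj g).toMonoidHom := by
  ext x
  rw [Subgroup.mem_map_equiv]
  simp only [Subgroup.mem_normalizer_iff, Subgroup.mem_map_equiv]
  constructor
  · intro h y
    have := h (g * y * g⁻¹)
    simp only [MulAut.conj_symm_apply, MulAut.conj_apply] at this ⊢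
    convert this using 2 <;> group
  · intro h y
    have := h (g⁻¹ * y * g)
    simp only [MulAut.conj_symm_apply, MulAut.conj_apply] at this ⊢
    convert this using 2 <;> group

/-- For p ≥ 5, every finite p-group P has a characteristic subgroup K containing Z(P), depending only on P, whose normalizer controls transfer wherever P is a Sylow subgroup: for every finite group G and every embedding ι of P onto a Sylow p-subgroup of G, the intersection of ι(P) with the derived subgroup of G equals its intersection with the derived subgroup of N_G(ι(K)). -/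
theorem result (p : ℕ) [Fact p.Prime] (hp : 5 ≤ p) (P : Type u) [Group P] [Finite P] (hP : IsPGroup p P) : ∃ K : Subgroup P, K.Characteristic ∧ Subgroup.center P ≤ K ∧ ∀ (G : Type u) [Group G] [Finite G] (ι : P →* G), Function.Injective ι → (∃ T : Sylow p G, (T : Subgroup G) = ι.range) → ι.range ⊓ commutator G = ι.range ⊓ (commutator ↥(Subgroup.normalizer ((K.map ι : Subgroup G) : Set G))).map (Subgroup.normalizer ((K.map ι : Subgroup G) : Set G)).subtype := by
  refine ⟨Cfsg.kInfLower P, ?_, ?_, ?_⟩
  · rw [Subgroup.characteristic_iff_map_eq]
    intro φ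
    exact kInfLower_map_equiv φ
  · have h := Cfsg.Agent.S1978.result hP
    exact le_trans h.2.1 h.1
  · intro G _ _ ι hι ⟨T, hT⟩
    obtain ⟨T', -, hT'p, hT'idx, hT'eq⟩ := Cfsg.Agent.S1984.result (G := G) (p := p) hp
    rw [Subgroup.relIndex_top_right] at hT'idx
    -- T' is a Sylow subgroup
    let S' : Sylow p G := hT'p.toSylow hT'idx
    have hS' : (S' : Subgroup G) = T' := IsPGroup.toSylow_coe hT'p hT'idx
    obtain ⟨g, hg⟩ := MulAction.exists_smul_eq G T S'
    let d : G ≃* G := MulAut.conj g
    have hgT : (ι.range).map d.toMonoidHom = T' := by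
      rw [← hT, ← hS', ← hg, Sylow.coe_subgroup_smul, Subgroup.pointwise_smul_def]
      rfl
    let ι' : P →* G := d.toMonoidHom.comp ι
    have hι' : Function.Injective ι' := d.injective.comp hι
    have hr' : ι'.range = T' := by
      rw [← hgT, MonoidHom.map_range]
    rw [← hr', induced_range ι' hι'] at hT'eq
    rw [Subgroup.map_subtype_commutator, commutator_def]
    apply Subgroup.map_injective (f := d.toMonoidHom) d.injective
    rw [Subgroup.map_inf _ _ _ d.injective, Subgroup.map_inf _ _ _ d.injective,
      Subgroup.map_commutator, Subgroup.map_commutator, ← normalizer_map_conj, Subgroup.map_map,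
      MonoidHom.map_range, Subgroup.map_top_of_surjective _ d.surjective]
    simpa only [top_inf_eq] using hT'eq

end Cfsg.Agent.S2015
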