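import Cfsg.Statements.S2041
import Cfsg.Agent.Lib.Helper57.J3Mult.P2
import Cfsg.Agent.Lib.Helper57.J3Mult.P3
import Cfsg.Agent.Lib.Helper7.StemReduce
import Cfsg.Agent.S3958

set_option autoImplicit false
open Cfsg

namespace Cfsg.Agent.S2041

/-- For any field with 4 elements and any element ω of it with ω² + ω + 1 = 0: the Schur multiplier of the Janko group J₃ (the group generated by explicit 9 × 9 matrices over that field built from ω, taken modulo its centre) is cyclic of order 3; here the Schur multiplier is described through stem extensions, as in the definitions: surjective homomorphisms onto the group from a finite group, whose kernel is central in that finite group and contained in that finite group's commutator subgroup. -/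
theorem result {F : Type*} [Field F] [Fintype F] (hF : Fintype.card F = 4) (ω : F) (hω : ω ^ 2 + ω + 1 = 0) : Cfsg.HasCyclicSchurMultiplier (Cfsg.Spor.J3 F ω) 3 := by
  haveI := Cfsg.Agent.Lib.Helper93.J3.charP_two_of_card hF
  have hcardG := Cfsg.Agent.Lib.Helper93.J3.card_threeJ3_eq hF ω hω
  haveI : Finite ↥(Cfsg.Spor.threeJ3 F ω) := Nat.finite_of_card_ne_zero (by rw [hcardG]; norm_num)
  -- the triple cover has trivial multiplier
  have hM : Cfsg.HasCyclicSchurMultiplier ↥(Cfsg.Spor.threeJ3 F ω) 1 := by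
    apply Cfsg.Agent.Lib.Helper7.Stem.hasCyclicSchurMultiplier_one_of_primes
    intro p hp Δ _ _ τ hτ hexp
    by_cases h2 : p = 2
    · subst h2
      exact Cfsg.Agent.Lib.Helper57.J3Mult.ker_eq_bot_two hF ω hω Δ τ hτ hexp
    by_cases h3 : p = 3
    · subst h3
      exact Cfsg.Agent.Lib.Helper57.J3Mult.ker_eq_bot_three hF ω hω Δ τ hτ hexp
    by_cases hdvd : p ∣ 150698880
    · -- p is 5, 17 or 19
      have hfac : (150698880 : ℕ) = 2 ^ 7 * 3 ^ 6 * 5 * 17 * 19 := by norm_num
      have hp' : p = 5 ∨ p = 17 ∨ p = 19 := by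
        rw [hfac] at hdvd
        rcases (Nat.Prime.dvd_mul hp).1 hdvd with h | h
        · rcases (Nat.Prime.dvd_mul hp).1 h with h | h
          · rcases (Nat.Prime.dvd_mul hp).1 h with h | h
            · rcases (Nat.Prime.dvd_mul hp).1 h with h | h
              · exact absurd ((Nat.prime_dvd_prime_iff_eq hp Nat.prime_two).1
                  (hp.dvd_of_dvd_pow h)) h2
              · exact absurd ((Nat.prime_dvd_prime_iff_eq hp Nat.prime_three).1
                  (hp.dvd_of_dvd_pow h)) h3
            · exact Or.inl ((Nat.prime_dvd_prime_iff_eq hp (by norm_num)).1 h)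
          · exact Or.inr (Or.inl ((Nat.prime_dvd_prime_iff_eq hp (by norm_num)).1 h))
        · exact Or.inr (Or.inr ((Nat.prime_dvd_prime_iff_eq hp (by norm_num)).1 h))
      haveI : Fact p.Prime := ⟨hp⟩
      obtain ⟨e, he⟩ := exists_prime_orderOf_dvd_card' (G := ↥(Cfsg.Spor.threeJ3 F ω)) p
        (by rw [hcardG]; exact hdvd)
      rcases hp' with rfl | rfl | rfl
      · exact Cfsg.Agent.Lib.Helper7.Stem.ker_eq_bot_of_orderOf τ hτ 5 hexp e he 30139776
          (by rw [hcardG]) (by norm_num) (by norm_num)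
      · exact Cfsg.Agent.Lib.Helper7.Stem.ker_eq_bot_of_orderOf τ hτ 17 hexp e he 8864640
          (by rw [hcardG]) (by norm_num) (by norm_num)
      · exact Cfsg.Agent.Lib.Helper7.Stem.ker_eq_bot_of_orderOf τ hτ 19 hexp e he 7931520
          (by rw [hcardG]) (by norm_num) (by norm_num)
    · apply Cfsg.Agent.Lib.Helper7.Stem.ker_eq_bot_of_coprime_card τ hτ p hexp
      rw [hcardG]
      exact (Nat.Coprime.symm ((Nat.Prime.coprime_iff_not_dvd hp).2 hdvd))
  -- the covering map
  let σ : ↥(Cfsg.Spor.threeJ3 F ω) →* Cfsg.Spor.J3 F ω :=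
    QuotientGroup.mk' (Subgroup.center ↥(Cfsg.Spor.threeJ3 F ω))
  have hker : σ.ker = Subgroup.center ↥(Cfsg.Spor.threeJ3 F ω) := QuotientGroup.ker_mk' _
  have hσ : Cfsg.IsStemExtension σ := by
    refine ⟨QuotientGroup.mk'_surjective _, ?_, ?_⟩
    · rw [hker]
    · rw [Cfsg.Agent.Lib.Helper93.J3.commutator_threeJ3 ω hω]
      exact le_top
  have hcardK : Nat.card ↥σ.ker = 3 := by
    rw [hker]
    exact Cfsg.Agent.Lib.Helper93.J3.center_card ω hω hF
  haveI : Fact (Nat.Prime 3) := ⟨Nat.prime_three⟩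
  have hcardZ : Nat.card (Multiplicative (ZMod 3)) = 3 := by
    rw [Nat.card_eq_fintype_card]
    rfl
  let iso : ↥σ.ker ≃* Multiplicative (ZMod 3) := mulEquivOfPrimeCardEq hcardK hcardZ
  haveI : Finite (Cfsg.Spor.J3 F ω) := Finite.of_surjective σ hσ.1
  refine ⟨⟨↥(Cfsg.Spor.threeJ3 F ω), inferInstance, inferInstance, σ, hσ, ⟨iso⟩⟩, ?_⟩
  intro Δ _ _ τ hτ
  obtain ⟨π, hπ⟩ := Cfsg.Agent.S3958.result σ hσ hM Δ τ hτ
  exact ⟨π.comp iso.symm.toMonoidHom, hπ.comp iso.symm.surjective⟩

end Cfsg.Agent.S2041
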