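import Cfsg.Statements.S2061
import Cfsg.Agent.Lib.Helper99.M12OutMain

set_option autoImplicit false
open Cfsg

namespace Cfsg.Agent.S2061
open Cfsg.Agent.Lib.Helper7 Cfsg.Agent.Lib.Helper99.M12Out
open scoped Pointwise

/-- Mask of the dodecad of squares. -/
def sqMask : ℕ := 0x5335f

theorem squareDodecad_eq : Spor.squareDodecad = Cfsg.Agent.Lib.Helper7.setOf sqMask := by
  unfold Spor.squareDodecad
  rw [← wordOf_qrMask' 0, support₂_wordOf]
  rfl

theorem squareDodecad_mem : Spor.squareDodecad ∈ dodecads := by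
  rw [squareDodecad_eq]
  exact setOf_mem_dodecads (by decide +kernel)

theorem M12_eq : Spor.M12 = stabM24 Spor.squareDodecad := rfl

/-- The outer automorphism group of the Mathieu group M₁₂ (the stabiliser of a dodecad in the automorphism group of the length-24 binary code) has order 2. -/
theorem result : Nat.card (Cfsg.Out ↥Cfsg.Spor.M12) = 2 := by
  obtain ⟨ρ, hρ, hρd⟩ := exists_map_dodecad squareDodecad_mem
  have h : ∀ g, ρ * g * ρ⁻¹ ∈ H12 ↔ g ∈ Spor.M12 := by
    intro g
    rw [M12_eq, conj_mem_stabM24 hρ Spor.squareDodecad, hρd]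
    rfl
  rw [card_out_congr (conjMulEquivOfIff ρ Spor.M12 H12 h)]
  exact card_out_H12

end Cfsg.Agent.S2061
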