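import Cfsg.Statements.S5599
import Cfsg.Agent.Lib.Helper93.M24Extra

set_option autoImplicit false
open scoped Pointwise
open Cfsg

namespace Cfsg.Agent.S5599

open Cfsg.Spor Cfsg.Agent.Lib.Helper7 Cfsg.Agent.Lib.Helper93
open scoped Pointwise

theorem inv_apply_eq {σ : Equiv.Perm GolayPt} {a b : GolayPt} (h : σ a = b) : σ⁻¹ b = a := by
  rw [← h]; simp

/-- Membership in the setwise stabilizer of the pair. -/
theorem pair_cases {b : Equiv.Perm GolayPt}
    (hb : b ∈ MulAction.stabilizer (Equiv.Perm GolayPt) ({none, some 0} : Finset GolayPt)) :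
    (b none = none ∧ b (some 0) = some 0) ∨ (b none = some 0 ∧ b (some 0) = none) := by
  have hs : b • ({none, some 0} : Finset GolayPt) = {none, some 0} :=
    MulAction.mem_stabilizer_iff.mp hb
  have h1 : b none ∈ ({none, some 0} : Finset GolayPt) :=
    perm_apply_mem_of_smul_eq hs (by simp)
  have h2 : b (some 0) ∈ ({none, some 0} : Finset GolayPt) :=
    perm_apply_mem_of_smul_eq hs (by simp)
  have hne : b none ≠ b (some 0) := fun e => by
    have := b.injective e
    exact absurd this (by decide)
  simp only [Finset.mem_insert, Finset.mem_singleton] at h1 h2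
  rcases h1 with h1 | h1 <;> rcases h2 with h2 | h2
  · exact absurd (h1.trans h2.symm) hne
  · exact Or.inl ⟨h1, h2⟩
  · exact Or.inr ⟨h1, h2⟩
  · exact absurd (h1.trans h2.symm) hne

/-- In the automorphism group of the length-24 code, the two-point Mathieu group (permutations of the code's group fixing the extra point and the residue 0) has index 2 in the setwise stabiliser of that pair of points, and an element of the code's group interchanging the two points normalises the two-point group and induces on it, by conjugation, an automorphism that is not inner. -/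
theorem result (g : Equiv.Perm Cfsg.GolayPt) (hg : g ∈ Cfsg.M24) (h₁ : g none = some 0) (h₂ : g (some 0) = none) : Cfsg.Spor.M22.relIndex (Cfsg.M24 ⊓ MulAction.stabilizer (Equiv.Perm Cfsg.GolayPt) ({none, some 0} : Finset Cfsg.GolayPt)) = 2 ∧ (∀ x ∈ Cfsg.Spor.M22, g * x * g⁻¹ ∈ Cfsg.Spor.M22) ∧ ¬ ∃ h ∈ Cfsg.Spor.M22, ∀ x ∈ Cfsg.Spor.M22, g * x * g⁻¹ = h * x * h⁻¹ := by
  have hginv0 : g⁻¹ none = some 0 := inv_apply_eq h₂
  have hginv1 : g⁻¹ (some 0) = none := inv_apply_eq h₁
  refine ⟨?_, ?_, ?_⟩
  · rw [Subgroup.relIndex_eq_two_iff_exists_notMem_and]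
    refine ⟨g, ?_, ?_, ?_⟩
    · rw [Subgroup.mem_inf]
      refine ⟨hg, MulAction.mem_stabilizer_iff.mpr ?_⟩
      apply perm_smul_eq_of_forall_mem
      intro p hp
      simp only [Finset.mem_insert, Finset.mem_singleton] at hp ⊢
      rcases hp with rfl | rfl
      · right; exact h₁
      · left; exact h₂
    · intro hgM
      have := ((mem_M22_iff g).mp hgM).2.1
      rw [h₁] at this
      exact absurd this (by decide)
    · intro b hb
      rw [Subgroup.mem_inf] at hb
      rcases pair_cases hb.2 with ⟨c1, c2⟩ | ⟨c1, c2⟩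
      · right
        exact (mem_M22_iff b).mpr ⟨hb.1, c1, c2⟩
      · left
        refine (mem_M22_iff (b * g)).mpr ⟨M24.mul_mem hb.1 hg, ?_, ?_⟩
        · rw [Equiv.Perm.mul_apply, h₁, c2]
        · rw [Equiv.Perm.mul_apply, h₂, c1]
  · intro x hx
    obtain ⟨hx24, hx0, hx1⟩ := (mem_M22_iff x).mp hx
    refine (mem_M22_iff _).mpr ⟨M24.mul_mem (M24.mul_mem hg hx24) (M24.inv_mem hg), ?_, ?_⟩
    · rw [Equiv.Perm.mul_apply, Equiv.Perm.mul_apply, hginv0, hx1, h₂]
    · rw [Equiv.Perm.mul_apply, Equiv.Perm.mul_apply, hginv1, hx0, h₁]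
  · rintro ⟨h, hh, hconj⟩
    obtain ⟨hh24, hh0, hh1⟩ := (mem_M22_iff h).mp hh
    have hy24 : h⁻¹ * g ∈ M24 := M24.mul_mem (M24.inv_mem hh24) hg
    have hcomm : ∀ x ∈ M22, (h⁻¹ * g) * x = x * (h⁻¹ * g) := by
      intro x hx
      have := hconj x hx
      calc (h⁻¹ * g) * x = h⁻¹ * (g * x * g⁻¹) * g := by group
        _ = h⁻¹ * (h * x * h⁻¹) * g := by rw [this]
        _ = x * (h⁻¹ * g) := by group
    have hy0 : (h⁻¹ * g) none = some 0 := by
      rw [Equiv.Perm.mul_apply, h₁]; exact inv_apply_eq hh1
    have hy1 : (h⁻¹ * g) (some 0) = none := by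
      rw [Equiv.Perm.mul_apply, h₂]; exact inv_apply_eq hh0
    have hfix : ∀ p, p ∉ [none, some (0 : ZMod 23)] → (h⁻¹ * g) p = p := by
      intro p hp
      simp only [List.mem_cons, List.not_mem_nil, or_false, not_or] at hp
      by_contra hne
      set q := (h⁻¹ * g) p with hq
      have hq0 : q ≠ none := by
        intro e
        have : (h⁻¹ * g) p = (h⁻¹ * g) (some 0) := by rw [← hq, e, hy1]
        exact hp.2 ((h⁻¹ * g).injective this)
      have hq1 : q ≠ some 0 := by
        intro e
        have : (h⁻¹ * g) p = (h⁻¹ * g) none := by rw [← hq, e, hy0]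
        exact hp.1 ((h⁻¹ * g).injective this)
      -- a point outside {none, some 0, p, q}
      have hex : ∃ q' : GolayPt, q' ∉ ({none, some 0, p, q} : Finset GolayPt) := by
        by_contra hcon
        push Not at hcon
        have hsub : (Finset.univ : Finset GolayPt) ⊆ {none, some 0, p, q} := fun a _ => hcon a
        have hc := Finset.card_le_card hsub
        have h4 : ({none, some 0, p, q} : Finset GolayPt).card ≤ 4 := Finset.card_le_four
        have h24 : (Finset.univ : Finset GolayPt).card = 24 := by decide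
        omega
      obtain ⟨q', hq'⟩ := hex
      simp only [Finset.mem_insert, Finset.mem_singleton, not_or] at hq'
      obtain ⟨x, hx24, hxl⟩ := exists_M24_map_list [none, some 0, p, q] [none, some 0, p, q']
        (by
          simp only [List.nodup_cons, List.mem_cons, List.not_mem_nil, or_false, not_or,
            List.nodup_nil, and_true, not_false_eq_true]
          exact ⟨⟨by decide, Ne.symm hp.1, Ne.symm hq0⟩, ⟨Ne.symm hp.2, Ne.symm hq1⟩, Ne.symm hne⟩)
        (by
          simp only [List.nodup_cons, List.mem_cons, List.not_mem_nil, or_false, not_or,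
            List.nodup_nil, and_true, not_false_eq_true]
          exact ⟨⟨by decide, Ne.symm hp.1, Ne.symm hq'.1⟩, ⟨Ne.symm hp.2, Ne.symm hq'.2.1⟩,
            Ne.symm hq'.2.2.1⟩)
        rfl (by simp)
      have e0 : x none = none := hxl 0 (by simp)
      have e1 : x (some 0) = some 0 := hxl 1 (by simp)
      have e2 : x p = p := hxl 2 (by simp)
      have e3 : x q = q' := hxl 3 (by simp)
      have hxM : x ∈ M22 := (mem_M22_iff x).mpr ⟨hx24, e0, e1⟩
      have := congrArg (fun σ : Equiv.Perm GolayPt => σ p) (hcomm x hxM)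
      simp only [Equiv.Perm.mul_apply] at this
      rw [e2, ← Equiv.Perm.mul_apply, ← hq, e3] at this
      exact hq'.2.2.2 this.symm
    have hone := eq_one_of_fixes_compl hy24 [none, some 0] (by decide) (by simp) hfix
    rw [hone] at hy0
    exact absurd hy0 (by decide)

end Cfsg.Agent.S5599
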