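import Cfsg.Statements.S2062
import Cfsg.Agent.Lib.Helper93.M22Aut
import Cfsg.Agent.S5599

set_option autoImplicit false
open Cfsg

namespace Cfsg.Agent.S2062

open Cfsg.Agent.Lib.Helper7 Cfsg.Agent.Lib.Helper93 Cfsg.Agent.Lib.Helper93.M22Aut

/-- The conjugation by an element interchanging the two points is not inner. -/
theorem conjAut_not_inner {t : Equiv.Perm GolayPt} (ht : t ∈ M24) (h1 : t none = some 0)
    (h2 : t (some 0) = none) : conjAut t ht h1 h2 ∉ Cfsg.Inn ↥Cfsg.Spor.M22 := by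
  rintro ⟨h, hh⟩
  apply (Cfsg.Agent.S5599.result t ht h1 h2).2.2
  refine ⟨(h : Equiv.Perm GolayPt), h.2, fun x hx => ?_⟩
  have e := congrArg (fun β : MulAut ↥Cfsg.Spor.M22 => ((β ⟨x, hx⟩ : ↥Cfsg.Spor.M22) :
    Equiv.Perm GolayPt)) hh
  exact e.symm

/-- The square of that conjugation is inner. -/
theorem conjAut_sq_inner {t : Equiv.Perm GolayPt} (ht : t ∈ M24) (h1 : t none = some 0)
    (h2 : t (some 0) = none) :
    conjAut t ht h1 h2 * conjAut t ht h1 h2 ∈ Cfsg.Inn ↥Cfsg.Spor.M22 := by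
  have htt : t * t ∈ Cfsg.Spor.M22 := by
    refine (mem_M22_iff _).mpr ⟨M24.mul_mem ht ht, ?_, ?_⟩
    · rw [Equiv.Perm.mul_apply, h1, h2]
    · rw [Equiv.Perm.mul_apply, h2, h1]
  refine ⟨⟨t * t, htt⟩, ?_⟩
  apply MulEquiv.ext
  intro x
  apply Subtype.ext
  show (t * t) * (x : Equiv.Perm GolayPt) * (t * t)⁻¹ = t * (t * x * t⁻¹) * t⁻¹
  group

/-- The outer automorphism group of the Mathieu group M₂₂ (the permutations in the automorphism group of the length-24 binary code that fix each of two given points) has order 2. -/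
theorem result : Nat.card (Cfsg.Out ↥Cfsg.Spor.M22) = 2 := by
  obtain ⟨t, ht, h1, h2⟩ := exists_M24_swap
  show (Cfsg.Inn ↥Cfsg.Spor.M22).index = 2
  rw [Subgroup.index_eq_two_iff]
  refine ⟨conjAut t ht h1 h2, fun β => ?_⟩
  have hc := conjAut_not_inner ht h1 h2
  have hcc := conjAut_sq_inner ht h1 h2
  rcases aut_cases ht h1 h2 β with ⟨m, rfl⟩ | ⟨m, rfl⟩
  · right
    refine ⟨⟨m, rfl⟩, fun h => hc ?_⟩
    have := (Cfsg.Inn ↥Cfsg.Spor.M22).mul_mem
      ((Cfsg.Inn ↥Cfsg.Spor.M22).inv_mem ⟨m, rfl⟩) h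
    rwa [inv_mul_cancel_left] at this
  · left
    refine ⟨?_, fun h => hc ?_⟩
    · rw [mul_assoc]
      exact (Cfsg.Inn ↥Cfsg.Spor.M22).mul_mem ⟨m, rfl⟩ hcc
    · have := (Cfsg.Inn ↥Cfsg.Spor.M22).mul_mem
        ((Cfsg.Inn ↥Cfsg.Spor.M22).inv_mem ⟨m, rfl⟩) h
      rwa [inv_mul_cancel_left] at this

end Cfsg.Agent.S2062
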