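import Cfsg.Statements.S2063
import Cfsg.Agent.Lib.Helper92.M23Aut

set_option autoImplicit false
open Cfsg

namespace Cfsg.Agent.S2063
open Cfsg.Agent.Lib.Helper7 Cfsg.Agent.Lib.Helper93 Cfsg.Agent.Lib.Helper92.PermCount
  Cfsg.Agent.Lib.Helper92.M24Index Cfsg.Agent.Lib.Helper92.M24Aut Cfsg.Agent.Lib.Helper92.AutPerm
  Cfsg.Agent.Lib.Helper92.M23Aut
open scoped Pointwise

theorem mem_M23 {g : Equiv.Perm GolayPt} : g ∈ Spor.M23 ↔ g ∈ M24 ∧ g none = none := by
  show g ∈ M24 ⊓ MulAction.stabilizer (Equiv.Perm GolayPt) (none : GolayPt) ↔ _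
  rw [Subgroup.mem_inf, MulAction.mem_stabilizer_iff]
  rfl

theorem card_M23 : Nat.card ↥Spor.M23 = 10200960 := card_Gst_1

/-- The 23 points other than `none`, as a set on which `M23` acts. -/
def pts : SubMulAction ↥Spor.M23 GolayPt where
  carrier := {p | p ≠ none}
  smul_mem' := by
    intro g p hp h
    apply hp
    have hg : (g : Equiv.Perm GolayPt) none = none := (mem_M23.mp g.2).2
    exact (g : Equiv.Perm GolayPt).injective (h.trans hg.symm)

theorem mem_pts {p : GolayPt} : p ∈ pts ↔ p ≠ none := Iff.rfl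

theorem smul_val (g : ↥Spor.M23) (q : ↥pts) :
    ((g • q : ↥pts) : GolayPt) = (g : Equiv.Perm GolayPt) (q : GolayPt) := rfl

theorem card_pts : Nat.card ↥pts = 23 := by
  have h1 : Nat.card ↥pts = Nat.card {p : GolayPt // p ≠ none} := rfl
  rw [h1, Nat.card_eq_fintype_card, Fintype.card_subtype_compl (fun p : GolayPt => p = none),
    Fintype.card_subtype_eq]
  decide

instance : MulAction.IsPretransitive ↥Spor.M23 ↥pts := by
  constructor
  intro p q
  have hp : (p : GolayPt) ≠ none := p.2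
  have hq : (q : GolayPt) ≠ none := q.2
  obtain ⟨g, hg, hmap⟩ := exists_M24_map_list [none, (p : GolayPt)] [none, (q : GolayPt)]
    (by simp [hp.symm]) (by simp [hq.symm]) rfl (by simp)
  have h0 : g none = none := hmap 0 (by simp)
  have h1 : g p = q := hmap 1 (by simp)
  exact ⟨⟨g, mem_M23.mpr ⟨hg, h0⟩⟩, Subtype.ext h1⟩

instance : FaithfulSMul ↥Spor.M23 ↥pts := by
  constructor
  intro g g' h
  apply Subtype.ext
  apply Equiv.ext
  intro p
  by_cases hp : p = none
  · rw [hp, (mem_M23.mp g.2).2, (mem_M23.mp g'.2).2]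
  · exact congrArg Subtype.val (h ⟨p, hp⟩)

/-- Different points have different stabilizers. -/
theorem stab_inj (x y : ↥pts)
    (h : MulAction.stabilizer ↥Spor.M23 x = MulAction.stabilizer ↥Spor.M23 y) : x = y := by
  by_contra hxy
  have hx : (x : GolayPt) ≠ none := x.2
  have hy : (y : GolayPt) ≠ none := y.2
  have hxy' : (x : GolayPt) ≠ y := fun h => hxy (Subtype.ext h)
  obtain ⟨z, hzn, hzx, hzy⟩ : ∃ z : GolayPt, z ≠ none ∧ z ≠ x ∧ z ≠ y := by
    by_contra hcon
    push Not at hcon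
    have hsub : (Finset.univ : Finset GolayPt) ⊆ {none, (x : GolayPt), (y : GolayPt)} := fun z _ => by
      by_cases hz : z = none
      · simp [hz]
      · by_cases hz' : z = x
        · simp [hz']
        · simp [hcon z hz hz']
    have h1 := Finset.card_le_card hsub
    have h24 : (Finset.univ : Finset GolayPt).card = 24 := by decide
    have h2 := Finset.card_le_three (a := (none : GolayPt)) (b := (x : GolayPt)) (c := (y : GolayPt))
    omega
  obtain ⟨g, hg, hmap⟩ := exists_M24_map_list [none, (x : GolayPt), (y : GolayPt)]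
    [none, (x : GolayPt), z] (by simp [hx.symm, hy.symm, hxy']) (by simp [hx.symm, hzn.symm, hzx.symm])
    rfl (by simp)
  have h0 : g none = none := hmap 0 (by simp)
  have h1 : g x = x := hmap 1 (by simp)
  have h2 : g y = z := hmap 2 (by simp)
  have hmem : (⟨g, mem_M23.mpr ⟨hg, h0⟩⟩ : ↥Spor.M23) ∈ MulAction.stabilizer ↥Spor.M23 x :=
    MulAction.mem_stabilizer_iff.mpr (Subtype.ext h1)
  rw [h] at hmem
  have h3 : g y = y := congrArg Subtype.val (MulAction.mem_stabilizer_iff.mp hmem)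
  exact hzy (h2.symm.trans h3)

/-- A subgroup of index 23 fixes a point. -/
theorem index_fix (K : Subgroup ↥Spor.M23) (hK : K.index = Nat.card ↥pts) :
    ∃ y : ↥pts, K ≤ MulAction.stabilizer ↥Spor.M23 y := by
  have hcardK : Nat.card K = 443520 := by
    have := Subgroup.card_mul_index K
    rw [hK, card_pts, card_M23] at this
    omega
  set J : Subgroup (Equiv.Perm GolayPt) := K.map Spor.M23.subtype with hJ
  have hJ23 : ∀ g ∈ J, g ∈ Spor.M23 := by
    rintro _ ⟨k, _, rfl⟩
    exact k.2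
  have hJM : J ≤ M24 := fun g hg => (mem_M23.mp (hJ23 g hg)).1
  have hcardJ : Nat.card J = 443520 := by
    rw [hJ, Subgroup.card_map_of_injective Spor.M23.subtype_injective, hcardK]
  have hfix : FixesAll J {none} := by
    intro g hg q hq
    rw [Finset.mem_singleton] at hq
    rw [hq]
    exact (mem_M23.mp (hJ23 g hg)).2
  obtain ⟨y, hy, hfixy⟩ := exists_fixed_of_card_443520 hJM hfix hcardJ
  refine ⟨⟨y, hy⟩, fun k hk => MulAction.mem_stabilizer_iff.mpr (Subtype.ext ?_)⟩
  exact hfixy _ (Subgroup.mem_map_of_mem _ hk)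

/-- Every automorphism of `M23` is inner. -/
theorem aut_inner (α : MulAut ↥Spor.M23) : ∃ h : ↥Spor.M23, α = MulAut.conj h := by
  classical
  obtain ⟨σ, hσ⟩ := exists_perm_of_aut stab_inj index_fix α
  set σ' : Equiv.Perm GolayPt := Equiv.Perm.ofSubtype σ with hσ'
  have hσn : σ' none = none :=
    Equiv.Perm.ofSubtype_apply_of_not_mem σ (fun h : (none : GolayPt) ∈ pts => h rfl)
  have hσv : ∀ q : ↥pts, σ' (q : GolayPt) = (σ q : GolayPt) := fun q =>
    Equiv.Perm.ofSubtype_apply_coe σ q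
  have hσM : σ' ∈ M24 := by
    apply mem_M24_of_maps_octads_through
    intro o ho hno
    obtain ⟨z, hz, hz2, hzo⟩ := exists_invol_fixPts_eq ho
    have hzn : z none = none := by
      rw [← hzo] at hno
      exact mem_fixPts.mp hno
    have hz23 : z ∈ Spor.M23 := mem_M23.mpr ⟨hz, hzn⟩
    have hα2 : orderOf ((α ⟨z, hz23⟩ : ↥Spor.M23) : Equiv.Perm GolayPt) = 2 := by
      rw [Subgroup.orderOf_coe, MulEquiv.orderOf_eq, ← Subgroup.orderOf_coe]
      exact hz2
    apply smul_mem_octads_of_fixes (mem_M23.mp (α ⟨z, hz23⟩).2).1 hα2 ho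
    intro q hq
    rw [← hzo, mem_fixPts] at hq
    by_cases hqn : q = none
    · rw [hqn, hσn]
      exact (mem_M23.mp (α ⟨z, hz23⟩).2).2
    · have h1 := hσ ⟨z, hz23⟩ ⟨q, hqn⟩
      have h2 : (⟨z, hz23⟩ : ↥Spor.M23) • (⟨q, hqn⟩ : ↥pts) = ⟨q, hqn⟩ := Subtype.ext hq
      rw [h2] at h1
      have h3 := congrArg Subtype.val h1
      rw [smul_val] at h3
      have h4 := hσv ⟨q, hqn⟩
      simp only at h4
      rw [h4]
      exact h3
  have hσ23 : σ' ∈ Spor.M23 := mem_M23.mpr ⟨hσM, hσn⟩
  refine ⟨⟨σ', hσ23⟩, eq_conj_of_perm α σ hσ ⟨σ', hσ23⟩ (fun x => Subtype.ext ?_)⟩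
  rw [smul_val]
  exact hσv x


/-- The outer automorphism group of the Mathieu group M₂₃ (the stabiliser of a point in the automorphism group of the length-24 binary code) is trivial: every automorphism is inner. -/
theorem result : Nat.card (Cfsg.Out ↥Cfsg.Spor.M23) = 1 := by
  exact card_out_eq_one aut_inner

end Cfsg.Agent.S2063
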