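import Cfsg.Statements.S2064
import Cfsg.Agent.Lib.Helper92.M24Aut
import Cfsg.Agent.Lib.Helper93.M24Extra

set_option autoImplicit false
open Cfsg

namespace Cfsg.Agent.S2064
open Cfsg.Agent.Lib.Helper7 Cfsg.Agent.Lib.Helper93 Cfsg.Agent.Lib.Helper92.PermCount
  Cfsg.Agent.Lib.Helper92.M24Index Cfsg.Agent.Lib.Helper92.M24Aut Cfsg.Agent.Lib.Helper92.AutPerm
open scoped Pointwise

/-- Different points have different stabilizers. -/
theorem stab_inj (x y : GolayPt)
    (h : MulAction.stabilizer ↥M24 x = MulAction.stabilizer ↥M24 y) : x = y := by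
  by_contra hxy
  obtain ⟨z, hzx, hzy⟩ : ∃ z : GolayPt, z ≠ x ∧ z ≠ y := by
    by_contra hcon
    push Not at hcon
    have hsub : (Finset.univ : Finset GolayPt) ⊆ {x, y} := fun z _ => by
      by_cases hz : z = x
      · simp [hz]
      · simp [hcon z hz]
    have h1 := Finset.card_le_card hsub
    have h24 : (Finset.univ : Finset GolayPt).card = 24 := by decide
    have h2 := Finset.card_le_two (a := x) (b := y)
    omega
  obtain ⟨g, hg, hmap⟩ := exists_M24_map_list [x, y] [x, z] (by simp [hxy])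
    (by simp [hzx.symm]) rfl (by simp)
  have h0 : g x = x := hmap 0 (by simp)
  have h1 : g y = z := hmap 1 (by simp)
  have hmem : (⟨g, hg⟩ : ↥M24) ∈ MulAction.stabilizer ↥M24 x :=
    MulAction.mem_stabilizer_iff.mpr h0
  rw [h] at hmem
  have h2 : g y = y := MulAction.mem_stabilizer_iff.mp hmem
  exact hzy (h1.symm.trans h2)

/-- A subgroup of index 24 fixes a point. -/
theorem index_fix (K : Subgroup ↥M24) (hK : K.index = Nat.card GolayPt) :
    ∃ y : GolayPt, K ≤ MulAction.stabilizer ↥M24 y := by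
  have hcardK : Nat.card K = 10200960 := by
    have := Subgroup.card_mul_index K
    rw [hK, card_GolayPt, card_M24] at this
    omega
  set J : Subgroup (Equiv.Perm GolayPt) := K.map M24.subtype with hJ
  have hJM : J ≤ M24 := by
    rintro _ ⟨k, _, rfl⟩
    exact k.2
  have hcardJ : Nat.card J = 10200960 := by
    rw [hJ, Subgroup.card_map_of_injective M24.subtype_injective, hcardK]
  obtain ⟨x, hx⟩ := exists_fixed_of_card_10200960 hJM hcardJ
  refine ⟨x, fun k hk => MulAction.mem_stabilizer_iff.mpr ?_⟩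
  exact hx _ (Subgroup.mem_map_of_mem _ hk)

/-- Every automorphism of `M24` is inner. -/
theorem aut_inner (α : MulAut ↥M24) : ∃ h : ↥M24, α = MulAut.conj h := by
  have := M24_isPretransitive
  obtain ⟨σ, hσ⟩ := exists_perm_of_aut stab_inj index_fix α
  have hσM : σ ∈ M24 := by
    apply mem_M24_of_maps_octads
    intro o ho
    obtain ⟨z, hz, hz2, hzo⟩ := exists_invol_fixPts_eq ho
    have hα2 : orderOf ((α ⟨z, hz⟩ : ↥M24) : Equiv.Perm GolayPt) = 2 := by
      rw [Subgroup.orderOf_coe, MulEquiv.orderOf_eq, ← Subgroup.orderOf_coe]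
      exact hz2
    apply smul_mem_octads_of_fixes (α ⟨z, hz⟩).2 hα2 ho
    intro q hq
    have h1 := hσ ⟨z, hz⟩ q
    rw [← hzo, mem_fixPts] at hq
    have h2 : (⟨z, hz⟩ : ↥M24) • q = q := hq
    rw [h2] at h1
    exact h1
  exact ⟨⟨σ, hσM⟩, eq_conj_of_perm α σ hσ ⟨σ, hσM⟩ (fun x => rfl)⟩


/-- The outer automorphism group of the Mathieu group M₂₄ (the automorphism group of the length-24 binary code) is trivial: every automorphism is inner. -/
theorem result : Nat.card (Cfsg.Out ↥Cfsg.M24) = 1 := by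
  exact card_out_eq_one aut_inner

end Cfsg.Agent.S2064
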