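import Cfsg.Statements.S2067
import Cfsg.Agent.Lib.Helper93.J3OutSem5
import Cfsg.Agent.Lib.Helper93.J3OutAlpha2
import Cfsg.Agent.Lib.Helper77.OutRigid
import Cfsg.Agent.Lib.Helper77.OutCenter

set_option autoImplicit false
open Cfsg

namespace Cfsg.Agent.S2067

/-- For any field with 4 elements and any element ω of it with ω² + ω + 1 = 0, the outer automorphism group of the Janko group J₃ (the group generated by explicit 9 × 9 matrices over that field built from ω, taken modulo its centre) has order 2. -/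
theorem result {F : Type*} [Field F] [Fintype F] (hF : Fintype.card F = 4) (ω : F) (hω : ω ^ 2 + ω + 1 = 0) : Nat.card (Cfsg.Out (Cfsg.Spor.J3 F ω)) = 2 := by
  have hchar := Cfsg.Agent.Lib.Helper93.J3.charP_two_of_card hF
  obtain ⟨y, u, hy, hu, hrig⟩ := Cfsg.Agent.Lib.Helper93.J3.rigid ω hω hF
  obtain ⟨a, z, hz, haz⟩ := Cfsg.Agent.Lib.Helper93.J3.exists_aut_moving_center ω hω hF
  obtain ⟨α, hα⟩ := Cfsg.Agent.Lib.Helper77.exists_not_inner_of_center_moved
    (Cfsg.Agent.Lib.Helper93.J3.commutator_threeJ3 ω hω) a z hz haz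
  have hcard := Cfsg.Agent.Lib.Helper93.J3.card_J3 hF ω hω
  have hfin : Finite (Cfsg.Spor.J3 F ω) := Nat.finite_of_card_ne_zero (by rw [hcard]; norm_num)
  exact Cfsg.Agent.Lib.Helper77.out_card_two_of_rigid y u hy (by rw [hcard]; norm_num) hu hrig α hα

end Cfsg.Agent.S2067
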