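import Cfsg.Statements.S2075
import Cfsg.Agent.Lib.Helper28.HeOut.Alpha

set_option autoImplicit false
open Cfsg

namespace Cfsg.Agent.S2075

/-- The outer automorphism group of the Held group (the finitely presented group of the definitions) has order 2. -/
theorem result : Nat.card (Cfsg.Out Cfsg.Spor.He) = 2 :=
  Cfsg.Agent.Lib.Helper28.HeOut.card_out

end Cfsg.Agent.S2075
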