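-- Statement S2398 (Steinberg's Theorem 10: the group presented by (R1), (R2) is centrally closed over a field with
-- more than four elements).  helper60, project STEINBERG phase 3 (sheet Cfsg/Agent/Lib/Helper60/ST3_MODULES.md);
-- modules by helper44, helper46, helper50, helper84, helper89, helper97, helper66; phases 1-2 by helper35's team.
import Cfsg.Statements.S2398
import Cfsg.Agent.Lib.Helper60.St3Split
import Cfsg.Agent.Lib.Helper60.St3Cover
import Cfsg.Agent.Lib.Helper35.StMain2
import Cfsg.Agent.Lib.Helper35.StCover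
import Cfsg.Agent.Lib.Helper89.St3Idx
import Cfsg.Agent.Lib.Helper89.St3Sep
import Cfsg.Agent.Lib.Helper46.St3SCCert
import Cfsg.Agent.Lib.Helper89.St3WSym
import Cfsg.Agent.Lib.Helper46.St3TailInj
import Cfsg.Agent.S2395

set_option autoImplicit false
open Cfsg

namespace Cfsg.Agent.S2398

open Cfsg.Lie Cfsg.Agent.Lib.Helper35.St Cfsg.Agent.Lib.Helper60.St3

/-- Universality of the group Δ presented by Steinberg's generators with relators (R1), (R2), over a field with more than four elements (types G₂, B₂, D₄, F₄, E₆, E₇, E₈): for every central extension `π₁ : E → G₁` (surjective, central kernel) and every homomorphism `σ : Δ → G₁` there is exactly one homomorphism `τ : Δ → E` with `π₁ ∘ τ = σ`. In particular every central extension of Δ splits; together with the fact that Δ maps onto the Chevalley group with central kernel, this makes Δ the universal central extension of the Chevalley group. -/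
theorem result {K : Type*} [Field K] (hK5 : ∃ s : Finset K, 4 < s.card) (D : Cfsg.Lie.ChevalleyDatum) (hD : D ∈ [Cfsg.Lie.chevG2, Cfsg.Lie.chevB2, Cfsg.Lie.chevD4, Cfsg.Lie.chevF4, Cfsg.Lie.chevE6, Cfsg.Lie.chevE7, Cfsg.Lie.chevE8])
    {G₁ E : Type*} [Group G₁] [Group E] (π₁ : E →* G₁) (hπ : Function.Surjective π₁) (hc : π₁.ker ≤ Subgroup.center E)
    (σ : D.SteinbergCover K →* G₁) : ∃! τ : D.SteinbergCover K →* E, π₁.comp τ = σ := by
  obtain ⟨v, hv0, hv1, -, -⟩ := Cfsg.Agent.Lib.Helper44.St3.exists_unit3 hK5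
  have hK : D ∈ [Cfsg.Lie.chevB2, Cfsg.Lie.chevG2] → ∃ x : K, x ≠ 0 ∧ x ≠ 1 := fun _ => ⟨v, hv0, hv1⟩
  have hperf : commutator (D.SteinbergCover K) = ⊤ := Cfsg.Agent.S2395.result D hD hK
  have tf : TF D := tf_main hD
  have hlt : TermLt D := Cfsg.Agent.Lib.Helper89.St3.termLt_of_mem hD
  refine lift_existsUnique_of_splitting D hlt hperf π₁ hπ hc σ ?_
  intro P ψ hψ hker
  exact exists_splitting (coverModel (K := K) hD) tf (coverModel_gen hD) (act_main _ hD) (hAct_main _ hD) hperf hK5
    (Cfsg.Agent.Lib.Helper89.St3.sep_of_mem hD) (Cfsg.Agent.Lib.Helper46.St3.scCert_of_mem hD)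
    (Cfsg.Agent.Lib.Helper89.St3.idxLvl_of_mem hD) hlt (Cfsg.Agent.Lib.Helper89.St3.wSym_of_mem hD)
    (Cfsg.Agent.Lib.Helper89.St3.longest_of_mem hD) (Cfsg.Agent.Lib.Helper46.St3.tailInj hD _) ψ hψ hker

end Cfsg.Agent.S2398
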