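-- Statement S2100 (the Schur multiplier of G₂(q), q ≥ 5, is trivial).  helper60, project STEINBERG phase 3:
-- S1077 + S1078 (helper35: the Steinberg group of type G₂ is isomorphic to the Chevalley group), S2397 (Theorem 9),
-- S2398 (Theorem 10).
import Cfsg.Statements.S2100
import Cfsg.Agent.Lib.Helper60.St3Schur
import Cfsg.Agent.S1077
import Cfsg.Agent.S1078
import Cfsg.Agent.S2397
import Cfsg.Agent.S2398

set_option autoImplicit false
open Cfsg

namespace Cfsg.Agent.S2100

/-- Schur multipliers of the Chevalley groups of type G₂: over a field with q ≥ 5 elements the Schur multiplier of G₂(q) is trivial (here the Schur multiplier is described through stem extensions, as in the definitions); the cases q = 3 and q = 4 are exceptional and q = 2 gives a non-simple group. -/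
theorem result {F : Type*} [Field F] [Fintype F] (hF : 5 ≤ Fintype.card F) : Cfsg.HasCyclicSchurMultiplier ↥(Cfsg.Lie.chevG2.group F) 1 := by
  have hD : Cfsg.Lie.chevG2 ∈ [Cfsg.Lie.chevG2, Cfsg.Lie.chevB2, Cfsg.Lie.chevD4, Cfsg.Lie.chevF4, Cfsg.Lie.chevE6,
      Cfsg.Lie.chevE7, Cfsg.Lie.chevE8] := List.mem_cons_self
  have hD' : Cfsg.Lie.chevG2 ∈ [Cfsg.Lie.chevG2, Cfsg.Lie.chevF4, Cfsg.Lie.chevE8] := List.mem_cons_self
  have hK5 : ∃ s : Finset F, 4 < s.card := ⟨Finset.univ, by rw [Finset.card_univ]; omega⟩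
  have hK : Cfsg.Lie.chevG2 ∈ [Cfsg.Lie.chevB2, Cfsg.Lie.chevG2] → ∃ x : F, x ≠ 0 ∧ x ≠ 1 := by
    intro _
    classical
    by_contra hne
    have hall : ∀ x : F, x = 0 ∨ x = 1 := by
      intro x
      by_contra hx
      exact hne ⟨x, fun h => hx (Or.inl h), fun h => hx (Or.inr h)⟩
    have hsub : (Finset.univ : Finset F) ⊆ {0, 1} := by
      intro x _
      rcases hall x with rfl | rfl <;> simp
    have := Finset.card_le_card hsub
    rw [Finset.card_univ] at this
    have h2 : ({0, 1} : Finset F).card ≤ 2 := Finset.card_le_two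
    omega
  obtain ⟨θs, hθs, hker, -⟩ := Cfsg.Agent.S1077.result (K := F) Cfsg.Lie.chevG2 hD
  have hcen := Cfsg.Agent.S1078.result (K := F) Cfsg.Lie.chevG2 hD'
  obtain ⟨e, -⟩ := Cfsg.Agent.S2397.result (K := F) Cfsg.Lie.chevG2 hD hK
  have hθinj : Function.Injective θs := by
    rw [← MonoidHom.ker_eq_bot_iff, hker, hcen]
  have hbij : Function.Bijective (θs.comp e.toMonoidHom) :=
    ⟨hθinj.comp e.injective, hθs.comp e.surjective⟩
  have : Finite ↥(Cfsg.Lie.chevG2.group F) := inferInstance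
  refine Cfsg.Agent.Lib.Helper60.St3.hasCyclicSchurMultiplier_one_of_lift (θs.comp e.toMonoidHom) hbij ?_
  intro Γ _ σ hσ hc
  obtain ⟨τ, hτ, -⟩ := Cfsg.Agent.S2398.result hK5 Cfsg.Lie.chevG2 hD σ hσ hc (θs.comp e.toMonoidHom)
  exact ⟨τ, hτ⟩

end Cfsg.Agent.S2100
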