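import Cfsg.Statements.S2103
import Cfsg.Agent.Lib.Helper35.SmallF4
import Cfsg.Agent.Lib.Helper60.St3Schur
import Cfsg.Agent.S1077
import Cfsg.Agent.S1078
import Cfsg.Agent.S2397
import Cfsg.Agent.S2398

set_option autoImplicit false
open Cfsg

namespace Cfsg.Agent.S2103

/-- Schur multipliers of the Chevalley groups of type F₄: over a finite field with more than 2 elements the Schur multiplier of F₄(q) is trivial (here the Schur multiplier is described through stem extensions, as in the definitions); q = 2 is exceptional. -/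
theorem result {F : Type*} [Field F] [Fintype F] (hF : 3 ≤ Fintype.card F) : Cfsg.HasCyclicSchurMultiplier ↥(Cfsg.Lie.chevF4.group F) 1 := by
  have hD : Cfsg.Lie.chevF4 ∈ [Cfsg.Lie.chevG2, Cfsg.Lie.chevB2, Cfsg.Lie.chevD4, Cfsg.Lie.chevF4, Cfsg.Lie.chevE6,
      Cfsg.Lie.chevE7, Cfsg.Lie.chevE8] := by simp
  have hD' : Cfsg.Lie.chevF4 ∈ [Cfsg.Lie.chevG2, Cfsg.Lie.chevF4, Cfsg.Lie.chevE8] := by simp
  have hK : Cfsg.Lie.chevF4 ∈ [Cfsg.Lie.chevB2, Cfsg.Lie.chevG2] → ∃ x : F, x ≠ 0 ∧ x ≠ 1 := by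
    intro h
    exfalso
    simp only [List.mem_cons, List.not_mem_nil, or_false] at h
    rcases h with h | h
    · exact absurd (congrArg Cfsg.Lie.ChevalleyDatum.rank h) (by decide)
    · exact absurd (congrArg Cfsg.Lie.ChevalleyDatum.rank h) (by decide)
  obtain ⟨θs, hθs, hker, -⟩ := Cfsg.Agent.S1077.result (K := F) Cfsg.Lie.chevF4 hD
  have hcen := Cfsg.Agent.S1078.result (K := F) Cfsg.Lie.chevF4 hD'
  obtain ⟨e, -⟩ := Cfsg.Agent.S2397.result (K := F) Cfsg.Lie.chevF4 hD hK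
  have hθinj : Function.Injective θs := by
    rw [← MonoidHom.ker_eq_bot_iff, hker, hcen]
  have hbij : Function.Bijective (θs.comp e.toMonoidHom) :=
    ⟨hθinj.comp e.injective, hθs.comp e.surjective⟩
  have : Finite ↥(Cfsg.Lie.chevF4.group F) := inferInstance
  refine Cfsg.Agent.Lib.Helper60.St3.hasCyclicSchurMultiplier_one_of_lift (θs.comp e.toMonoidHom) hbij ?_
  intro Γ _ σ hσ hc
  by_cases h5 : 5 ≤ Fintype.card F
  · have hK5 : ∃ s : Finset F, 4 < s.card := ⟨Finset.univ, by rw [Finset.card_univ]; omega⟩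
    obtain ⟨τ, hτ, -⟩ := Cfsg.Agent.S2398.result hK5 Cfsg.Lie.chevF4 hD σ hσ hc (θs.comp e.toMonoidHom)
    exact ⟨τ, hτ⟩
  · have h34 : Fintype.card F = 3 ∨ Fintype.card F = 4 := by omega
    obtain ⟨τ, hτ, -⟩ := Cfsg.Agent.Lib.Helper35.Small.thm10_F4_small h34 σ hσ hc (θs.comp e.toMonoidHom)
    exact ⟨τ, hτ⟩

end Cfsg.Agent.S2103
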