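import Cfsg.Statements.S2107
import Cfsg.Agent.S1078
import Cfsg.Agent.Lib.Helper35.SteinSchur
import Cfsg.Agent.Lib.Helper35.SteinCert

set_option autoImplicit false
open Cfsg

namespace Cfsg.Agent.S2107

open Cfsg.Lie Cfsg.Agent.Lib.Helper35.Stein

/-- Schur multipliers of the Chevalley groups of type E₈: over every finite field the Schur multiplier of E₈(q) is trivial (here the Schur multiplier is described through stem extensions, as in the definitions). -/
theorem result {F : Type*} [Field F] [Fintype F] : Cfsg.HasCyclicSchurMultiplier ↥(Cfsg.Lie.chevE8.group F) 1 := by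
  have hcen := Cfsg.Agent.S1078.result (K := F) chevE8 (by simp)
  have hcard : Nat.card (Subgroup.center (chevE8.SteinbergGroup F)) = 1 := by
    rw [hcen]
    exact Subgroup.card_bot
  exact schur_of_center_card (mem_seven_of_mem (by simp)) (not_mem_of_mem (by simp)) (slCert_of_mem (by simp))
    hcard (Or.inl rfl)

end Cfsg.Agent.S2107
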