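import Cfsg.Statements.S2111
import Cfsg.Agent.Lib.Helper95.SzSchur
import Cfsg.Agent.Lib.Helper95.SzIso
set_option autoImplicit false
open Cfsg

namespace Cfsg.Agent.S2111

open Cfsg.Agent.Lib.Helper95.SzSchur

/-- a group all of whose finite stem extensions are isomorphisms has trivial Schur multiplier -/
theorem hasCyclicSchurMultiplier_one.{u} {G : Type u} [Group G] [Finite G]
    (h : ∀ (Γ : Type u) [Group Γ] [Finite Γ] (σ : Γ →* G), Cfsg.IsStemExtension σ → σ.ker = ⊥) :
    Cfsg.HasCyclicSchurMultiplier G 1 := by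
  refine ⟨⟨G, inferInstance, inferInstance, MonoidHom.id G, ⟨Function.surjective_id, ?_, ?_⟩, ?_⟩, ?_⟩
  · rw [MonoidHom.ker_id]; exact bot_le
  · rw [MonoidHom.ker_id]; exact bot_le
  · rw [MonoidHom.ker_id]
    have : Unique (Multiplicative (ZMod 1)) := by
      change Unique (Multiplicative (Fin 1))
      infer_instance
    exact ⟨MulEquiv.ofUnique⟩
  · intro Γ _ _ σ hs
    have hk := h Γ σ hs
    refine ⟨1, ?_⟩
    intro x
    refine ⟨1, ?_⟩
    have : (x : Γ) ∈ (⊥ : Subgroup Γ) := hk ▸ x.2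
    exact Subtype.ext (by simpa using (Subgroup.mem_bot.mp this).symm)

/-- Schur multipliers of the Suzuki groups: for q = 2^(2m+1) with m ≥ 2 the Schur multiplier of Sz(q) is trivial (here the Schur multiplier is described through stem extensions, as in the definitions); q = 8 is exceptional. -/
theorem result {F : Type*} [Field F] [Fintype F] {m : ℕ} (hm : 2 ≤ m) (hF : Fintype.card F = 2 ^ (2 * m + 1)) : Cfsg.HasCyclicSchurMultiplier ↥(Cfsg.Lie.Sz F (2 ^ (m + 1))) 1 := by
  have hm1 : 1 ≤ m := by omega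
  apply hasCyclicSchurMultiplier_one
  intro Γ _ _ σ hs
  set e := Cfsg.Agent.Lib.Helper95.szIso hm1 hF with he
  have hker : (e.symm.toMonoidHom.comp σ).ker = σ.ker := by
    ext x
    simp only [MonoidHom.mem_ker, MonoidHom.comp_apply, MulEquiv.coe_toMonoidHom,
      EmbeddingLike.map_eq_one_iff]
  have hs' : Cfsg.IsStemExtension (e.symm.toMonoidHom.comp σ) := by
    obtain ⟨h1, h2, h3⟩ := hs
    refine ⟨?_, ?_, ?_⟩
    · exact e.symm.surjective.comp h1
    · rw [hker]; exact h2
    · rw [hker]; exact h3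
  rw [← hker]
  exact ker_eq_bot hm hF _ hs'

end Cfsg.Agent.S2111
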