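import Cfsg.Statements.S2113
import Cfsg.Agent.S1152
import Cfsg.Agent.S1156
import Cfsg.Agent.S1157
import Cfsg.Agent.Lib.Helper20.ReeM.Three
import Cfsg.Agent.Lib.Helper20.ReeM.TwoOdd
import Cfsg.Agent.Lib.Helper20.ReeM.Split

set_option autoImplicit false
open Cfsg

namespace Cfsg.Agent.S2113

open Cfsg.Agent.Lib.Helper20.ReeM in
/-- Schur multipliers of the small Ree groups: for q = 3^(2m+1) with m ≥ 1 the Schur multiplier of ²G₂(q) is trivial (here the Schur multiplier is described through stem extensions, as in the definitions). -/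
theorem result {K : Type*} [Field K] [Fintype K] {m : ℕ} (hm : 1 ≤ m) (hK : Fintype.card K = 3 ^ (2 * m + 1)) : Cfsg.HasCyclicSchurMultiplier ↥(Cfsg.Lie.twistedG2 K (3 ^ m)) 1 := by
  have hchar : CharP K 3 := Cfsg.Agent.S1101.charP_three hK
  apply hasCyclicSchurMultiplier_one
  intro Γ _ _ σ hσ
  apply eq_bot_of_prime_order
  intro p hp z hz hzp
  haveI : Fact p.Prime := ⟨hp⟩
  rcases lt_trichotomy p 3 with h | h | h
  · -- `p = 2`
    have hp2 : p = 2 := by
      have := hp.two_le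
      omega
    subst hp2
    obtain ⟨a, haH, ha1, ha2⟩ := Cfsg.Agent.Lib.Helper20.ReeSyl2.exists_involution (K := K) m
    obtain ⟨Q⟩ : Nonempty (Sylow 2 ↥(Cfsg.Lie.twistedG2 K (3 ^ m))) := inferInstance
    obtain ⟨h8, hexp⟩ := (Cfsg.Agent.S1152.result hK a haH ha1 ha2).2 Q
    obtain ⟨hC, hN⟩ := Cfsg.Agent.S1157.result hm hK Q
    exact eq_one_of_sylow2 σ hσ Q h8 hexp hC hN z hz hzp
  · -- `p = 3`
    subst h
    exact three_case hK σ hσ (fun S hgen _ _ ρ₀ hρ₀ => split hm hK S hgen ρ₀ hρ₀) z hz hzp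
  · -- `p > 3`
    obtain ⟨Q⟩ : Nonempty (Sylow p ↥(Cfsg.Lie.twistedG2 K (3 ^ m))) := inferInstance
    exact eq_one_of_cyclic_sylow σ hσ Q (Cfsg.Agent.S1156.result hm hK h Q) z hz hzp

end Cfsg.Agent.S2113
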