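import Cfsg.Statements.S2122
import Cfsg.Agent.Lib.Helper69.Aut.OutAsm
import Cfsg.Agent.S1035

set_option autoImplicit false
open Cfsg

namespace Cfsg.Agent.S2122

/-- Outer automorphisms of the Chevalley groups of type F₄: over a field with q = p^f (p prime) elements, the outer automorphism group of F₄(q) has order gcd(2, p) · f (field automorphisms, and in characteristic 2 also the exceptional graph automorphism). -/
theorem result {F : Type*} [Field F] [Fintype F] (p f : ℕ) [Fact p.Prime] [CharP F p] (hF : Fintype.card F = p ^ f) : Nat.card (Cfsg.Out ↥(Cfsg.Lie.chevF4.group F)) = Nat.gcd 2 p * f := by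
  have hD : Cfsg.Lie.chevF4 ∈ [Cfsg.Lie.chevG2, Cfsg.Lie.chevB2, Cfsg.Lie.chevD4, Cfsg.Lie.chevF4, Cfsg.Lie.chevE6,
      Cfsg.Lie.chevE7, Cfsg.Lie.chevE8] := by simp
  have h := Cfsg.Agent.Lib.Helper69.Aut.card_out_formula hD p f hF 1 (Nat.gcd 2 p)
    (Cfsg.Agent.S1035.result (F := F) rfl (Cfsg.Lie.chevF4, 1) (by simp))
    (Cfsg.Agent.Lib.Helper69.Aut.card_realSym_F4 p hD)
  rw [h]
  ring

end Cfsg.Agent.S2122
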