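import Cfsg.Statements.S2126
import Cfsg.Agent.Lib.Helper95.SzIso
import Cfsg.Agent.Lib.Helper95.SzAut
set_option autoImplicit false
open Cfsg

namespace Cfsg.Agent.S2126

open Cfsg.Agent.Lib.Helper6 Cfsg.Agent.Lib.Helper95

/-- For q = 2^(2m+1) ≥ 8, Out(Sz(q)) has order 2m+1. -/
theorem result {F : Type*} [Field F] [Fintype F] {m : ℕ} (hm : 1 ≤ m) (hF : Fintype.card F = 2 ^ (2 * m + 1)) : Nat.card (Cfsg.Out ↥(Cfsg.Lie.Sz F (2 ^ (m + 1)))) = 2 * m + 1 := by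
  have _hch : CharP F 2 := sz_charP hF
  have hσ : SgSq (F := F) m := sgSq_of_card m hF
  rw [← OutSz.card_out_congr (szIso hm hF)]
  exact OutSz.card_out_Sz (hσ := hσ) hm hF

end Cfsg.Agent.S2126
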