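import Cfsg.Statements.S2129
import Cfsg.Agent.Lib.Helper91.TwOut.D4Final
import Cfsg.Agent.Lib.Helper91.TwOut.D4Syl
import Cfsg.Agent.Lib.Helper91.TwOut.D4Torus
import Cfsg.Agent.Lib.Helper69.TwOut.D4XA
import Cfsg.Agent.Lib.Helper69.TwOut.D4Gen
import Cfsg.Agent.Lib.Helper69.TwOut.D4Field
import Cfsg.Agent.Lib.Helper69.TwOut.D4SL2A
import Cfsg.Agent.Lib.Helper69.TwOut.D4SL2B

set_option autoImplicit false
open Cfsg

namespace Cfsg.Agent.S2129

/-- Outer automorphisms of the triality-twisted groups: for q = p^f (p prime), with the group realised over the field with q³ elements, the outer automorphism group of ³D₄(q) has order 3f (the field automorphisms of the cubic extension). -/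
theorem result {K : Type*} [Field K] [Fintype K] (p f : ℕ) [Fact p.Prime] [CharP K p] (hK : Fintype.card K = p ^ (3 * f)) (hf : 1 ≤ f) : Nat.card (Cfsg.Out ↥(Cfsg.Lie.twistedD4 K (p ^ f))) = 3 * f := by
  have hK' : Fintype.card K = (p ^ f) ^ 3 := by rw [hK, ← pow_mul, mul_comm]
  have hpp : IsPrimePow (p ^ f) :=
    ⟨p, f, (Nat.prime_iff.mp (Fact.out : p.Prime)), by omega, rfl⟩
  obtain ⟨φ, hφ⟩ := Cfsg.Agent.Lib.Helper18.exists_frobEquiv hpp hK'
  have hφ3 := Cfsg.Agent.Lib.Helper91.TwOut.phi_cube φ p f hφ hK'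
  rw [Cfsg.Agent.Lib.Helper18.twistedD4_eq (p ^ f) φ hφ hK']
  exact Cfsg.Agent.Lib.Helper91.TwOut.card_out_GD4 φ p f hφ hK' hf
    (Cfsg.Agent.Lib.Helper91.TwOut.sylow_D4' φ p f hφ hK' hf)
    (Cfsg.Agent.Lib.Helper69.TwOut.mem_UnegA φ hφ3) (Cfsg.Agent.Lib.Helper69.TwOut.mem_UnegB φ hφ3)
    (Cfsg.Agent.Lib.Helper69.TwOut.exists_PhiA φ hφ3) (Cfsg.Agent.Lib.Helper69.TwOut.exists_PhiB φ hφ3)
    (Cfsg.Agent.Lib.Helper91.TwOut.torus_conj_xaG' φ hφ3)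
    (Cfsg.Agent.Lib.Helper69.TwOut.exists_fieldAut φ (p ^ f) hφ hK')
    (Cfsg.Agent.Lib.Helper69.TwOut.glMap_unipotent)
    (Cfsg.Agent.Lib.Helper69.TwOut.GD4_eq_closure φ hφ3)

end Cfsg.Agent.S2129
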