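import Cfsg.Statements.S2130
import Cfsg.Agent.Lib.Helper69.TwOut.E6Final

set_option autoImplicit false
open Cfsg

namespace Cfsg.Agent.S2130

open Cfsg.Lie Cfsg.Agent.Lib.Helper18 Cfsg.Agent.Lib.Helper69.TwOut

/-- Outer automorphisms of the twisted groups of type ²E₆: for q = p^f (p prime), with the group realised over the field with q² elements, the outer automorphism group of ²E₆(q) has order 2 · gcd(3, q + 1) · f (diagonal automorphisms and the field automorphisms of the quadratic extension). -/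
theorem result {K : Type*} [Field K] [Fintype K] (p f : ℕ) [Fact p.Prime] [CharP K p] (hK : Fintype.card K = p ^ (2 * f)) (hf : 1 ≤ f) : Nat.card (Cfsg.Out ↥(Cfsg.Lie.twistedE6 K (p ^ f))) = 2 * Nat.gcd 3 (p ^ f + 1) * f := by
  have hp : p.Prime := Fact.out
  have hp2 : 2 ≤ p := hp.two_le
  have hq : 2 ≤ p ^ f := by
    calc 2 ≤ p := hp2
      _ = p ^ 1 := (pow_one p).symm
      _ ≤ p ^ f := Nat.pow_le_pow_right (by omega) hf
  have hK' : Fintype.card K = (p ^ f) ^ 2 := by rw [hK, ← pow_mul, mul_comm]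
  have hpp : IsPrimePow (p ^ f) := ⟨p, f, Nat.prime_iff.mp hp, by omega, rfl⟩
  obtain ⟨φ, hφ⟩ := exists_frobEquiv hpp hK'
  rw [twistedE6_eq (p ^ f) φ hφ hK']
  have h1 := card_out_GE6_mul φ p f hφ hK' hf
  have h2 := card_H1_E6 (p ^ f) φ hφ hK' hq
  rw [hK'] at h1
  set q := p ^ f with hqdef
  set N := Nat.card (Out ↥(Gtw hE6 chevData_E6 twCfg_E6 φ)) with hN
  set H := Nat.card ↥(chevE6.diagonalSubgroup K ⊓ Gtw hE6 chevData_E6 twCfg_E6 φ) with hH
  obtain ⟨k, hk⟩ : ∃ k, q = k + 1 := ⟨q - 1, by omega⟩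
  have hk1 : 1 ≤ k := by omega
  have e2 : q ^ 2 - 1 = k * (k + 2) := by
    rw [hk]
    apply Nat.sub_eq_of_eq_add
    ring
  have e1 : q - 1 = k := by omega
  rw [e2, e1] at h1
  rw [e1] at h2
  have e3 : q + 1 = k + 2 := by omega
  rw [e3] at h2 ⊢
  -- N * H = (k (k+2) k)^2 * (2 f),  g * H = k^4 (k+2)^2
  have hpos : 0 < k ^ 4 * (k + 2) ^ 2 := by positivity
  have key : N * (k ^ 4 * (k + 2) ^ 2) = (2 * Nat.gcd 3 (k + 2) * f) * (k ^ 4 * (k + 2) ^ 2) := by
    calc N * (k ^ 4 * (k + 2) ^ 2) = N * (Nat.gcd 3 (k + 2) * H) := by rw [h2]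
      _ = Nat.gcd 3 (k + 2) * (N * H) := by ring
      _ = Nat.gcd 3 (k + 2) * ((k * (k + 2) * k) ^ 2 * (2 * f)) := by rw [h1]
      _ = _ := by ring
  exact Nat.eq_of_mul_eq_mul_right hpos key

end Cfsg.Agent.S2130
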