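import Cfsg.Statements.S2133
-- import your own Cfsg.Agent.* helpers here
import Cfsg.Agent.Lib.Helper89.M24CentA

set_option autoImplicit false
open Cfsg

namespace Cfsg.Agent.S2133

open Cfsg.Agent.Lib.Helper89.TransvCent Cfsg.Agent.Lib.Helper89.M24CentA


/-- The Mathieu group M₂₄ (the automorphism group of the length-24 binary code) has an involution whose centraliser is isomorphic to the centraliser of a transvection in SL(5, 2) (a group of shape 2^{1+6}:GL(3, 2)). -/
theorem result (s : Matrix.SpecialLinearGroup (Fin 5) (ZMod 2)) (hs : (s : Matrix (Fin 5) (Fin 5) (ZMod 2)) = Matrix.transvection 0 1 1) : ∃ z : ↥Cfsg.M24, orderOf z = 2 ∧ Nonempty (↥(Subgroup.centralizer ({z} : Set ↥Cfsg.M24)) ≃* ↥(Subgroup.centralizer ({s} : Set (Matrix.SpecialLinearGroup (Fin 5) (ZMod 2))))) := by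
  refine ⟨zM, ?_, ?_⟩
  · have : Fact (Nat.Prime 2) := ⟨Nat.prime_two⟩
    apply orderOf_eq_prime
    · apply Subtype.ext
      show zA ^ 2 = 1
      rw [pow_two]
      exact zA_spec.2.2
    · intro h
      exact zA_ne_one (congrArg Subtype.val h)
  · have hle : Psi.range ≤ (Phi hs).range := by
      rintro _ ⟨σ, rfl⟩
      obtain ⟨g, hg⟩ := exists_of_isAffTr hs (Psi_isAffTr σ)
      exact ⟨g, hg⟩
    have hcard : Nat.card (Phi hs).range ≤ Nat.card Psi.range := by
      rw [← Nat.card_congr (MonoidHom.ofInjective (Phi_injective hs)).toEquiv,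
        ← Nat.card_congr (MonoidHom.ofInjective Psi_injective).toEquiv]
      exact (card_cent_le hs).trans card_CA_ge
    have heq : Psi.range = (Phi hs).range := Subgroup.eq_of_le_of_card_ge hle hcard
    exact ⟨(MonoidHom.ofInjective Psi_injective).trans
      ((MulEquiv.subgroupCongr heq).trans (MonoidHom.ofInjective (Phi_injective hs)).symm)⟩

end Cfsg.Agent.S2133
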