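import Cfsg.Statements.S2136
import Cfsg.Agent.Lib.Helper8.CoTwoCentMain
import Cfsg.Agent.Lib.Helper8.CoTwoCentSurj
import Cfsg.Agent.Lib.Helper29.PStruct
import Cfsg.Agent.Lib.Helper29.CoTwoKerMono
import Cfsg.Agent.Lib.Helper48.Sp6CoreTrivial
import Cfsg.Agent.Lib.Helper89.CoTwoKerRoot
import Cfsg.Agent.Lib.Helper89.CoTwoKerConn
import Cfsg.Agent.Lib.Helper8.CoTwoCentKerConv

set_option autoImplicit false
open Cfsg

namespace Cfsg.Agent.S2136
open Cfsg.Spor Cfsg.Agent.Lib.Helper7 Cfsg.Agent.Lib.Helper8 Cfsg.Agent.Lib.Helper8.CoTwoCent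

/-- the kernel of `phi` consists of the monomial elements of `PMono` -/
theorem ker_iff (g : CSub) : phi g = 1 ↔ (g : Co0) ∈ PMono := by
  constructor
  · intro h
    have h1 : phiMat g.1 = 1 := congrArg Subtype.val h
    rcases Cfsg.Agent.Lib.Helper89.CoTwoKer.act_id_or_swapNeg g.1 g.2
      (Cfsg.Agent.Lib.Helper89.CoTwoKer.root_fixed_or_neg g.1 g.2 h1) with h2 | h2
    · exact Cfsg.Agent.Lib.Helper29.CoTwoKerMono.mem_PMono_of_fix g.1 g.2 h2
    · exact absurd h2 (fun h3 => Cfsg.Agent.Lib.Helper29.CoTwoKerMono.not_swapNeg g.1 g.2 h3)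
  · intro h
    exact Subtype.ext (mem_CSub_of_mem_PMono' g.1 h).2

/-- The Conway group Co₂ (the stabiliser of a minimal vector of the rank-24 lattice) has an involution whose centraliser C has largest normal 2-subgroup extraspecial of order 2^9 with quotient C / O₂(C) isomorphic to the symplectic group Sp(6, 2) (shape 2^{1+8}Sp(6, 2)). -/
theorem result : ∃ t : ↥Cfsg.Spor.Co2, orderOf t = 2 ∧ Cfsg.IsExtraspecial 2 (Cfsg.pCore 2 ↥(Subgroup.centralizer ({t} : Set ↥Cfsg.Spor.Co2))) ∧ Nat.card (Cfsg.pCore 2 ↥(Subgroup.centralizer ({t} : Set ↥Cfsg.Spor.Co2))) = 2 ^ 9 ∧ Nonempty (↥(Subgroup.centralizer ({t} : Set ↥Cfsg.Spor.Co2)) ⧸ Cfsg.pCore 2 ↥(Subgroup.centralizer ({t} : Set ↥Cfsg.Spor.Co2)) ≃* Matrix.symplecticGroup (Fin 3) (ZMod 2)) := by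
  exact main_of phi_surjective ker_iff
    (fun g hg => (mem_CSub_of_mem_PMono' g hg).1)
    Cfsg.Agent.Lib.Helper29.PStruct.pset_struct_expl Cfsg.Agent.Lib.Helper48.sp6_core_trivial

end Cfsg.Agent.S2136
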