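import Cfsg.Statements.S2160
-- import your own Cfsg.Agent.* helpers here
import Cfsg.Agent.Lib.Helper91.ChevGen

set_option autoImplicit false
open Cfsg

namespace Cfsg.Agent.S2160

open Cfsg.Lie Cfsg.Agent.Lib.Helper18 Cfsg.Agent.Lib.Helper91.ChevGen

/-- In a Chevalley group of type G₂, B₂, D₄, F₄, E₆, E₇ or E₈ over a finite field, every field automorphism commutes with every graph automorphism. -/
theorem result {F : Type*} [Field F] [Finite F] (D : Cfsg.Lie.ChevalleyDatum) (hD : D ∈ [Cfsg.Lie.chevG2, Cfsg.Lie.chevB2, Cfsg.Lie.chevD4, Cfsg.Lie.chevF4, Cfsg.Lie.chevE6, Cfsg.Lie.chevE7, Cfsg.Lie.chevE8]) (f g : ↥(D.group F) ≃* ↥(D.group F))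
    (hf : D.IsFieldAut f) (hg : D.IsGraphAut g) (y : ↥(D.group F)) : f (g y) = g (f y) := by
  obtain ⟨σ, hσ⟩ := hf
  obtain ⟨π, -, hπ⟩ := hg
  obtain ⟨C⟩ := nonempty_chevData.{0} D hD
  have hrk : ∀ i < D.rank, D.simple i < D.nroots := fun i hi => C.simple_lt i hi
  have hnk : ∀ i < D.rank, D.neg (D.simple i) < D.nroots := fun i hi => neg_lt_nroots D hD _ (hrk i hi)
  have key : f.toMonoidHom.comp g.toMonoidHom = g.toMonoidHom.comp f.toMonoidHom := by
    apply hom_ext_fund hD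
    intro y i t hi hy
    show f (g y) = g (f y)
    apply Subtype.ext
    apply Units.ext
    rcases hy with hy | hy
    · have h1 := (hπ y ⟨i, hi⟩ t).1 hy
      have h2 := hσ (g y) _ _ (hrk _ (π ⟨i, hi⟩).isLt) h1
      have h3 := hσ y _ t (hrk i hi) hy
      have h4 := (hπ (f y) ⟨i, hi⟩ (σ t)).1 h3
      rw [h2, h4, map_pow]
    · have h1 := (hπ y ⟨i, hi⟩ t).2 hy
      have h2 := hσ (g y) _ _ (hnk _ (π ⟨i, hi⟩).isLt) h1
      have h3 := hσ y _ t (hnk i hi) hy
      have h4 := (hπ (f y) ⟨i, hi⟩ (σ t)).2 h3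
      rw [h2, h4, map_pow]
  exact DFunLike.congr_fun key y

end Cfsg.Agent.S2160
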