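import Cfsg.Statements.S2161
import Cfsg.Agent.Lib.Helper18.GAut2
import Cfsg.Agent.Lib.Helper18.GAutData
import Cfsg.Agent.S1081
-- import your own Cfsg.Agent.* helpers here

set_option autoImplicit false
open Cfsg

namespace Cfsg.Agent.S2161

open Cfsg.Lie Cfsg.Agent.Lib.Helper18

universe u

/-- `permRoot` for a permutation of the nodes given as a list. -/
def permRootL (D : ChevalleyDatum) (l : List ℕ) (r : ℕ) : ℕ :=
  ((List.range D.nroots).find? fun s => (List.finRange D.rank).all fun i =>
      (D.coroot.getD s #[]).getD (l.getD i.val 0) 0 == (D.coroot.getD r #[]).getD i.val 0).getD r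

theorem permRoot_eq (D : ChevalleyDatum) (π : Equiv.Perm (Fin D.rank)) (l : List ℕ)
    (h : ∀ i : Fin D.rank, (π i).val = l.getD i.val 0) (r : ℕ) : D.permRoot π r = permRootL D l r := by
  unfold ChevalleyDatum.permRoot permRootL
  simp only [h]

/-- The image of every root element under an automorphism acting as the graph automorphism on the fundamental root
elements and their negatives. -/
theorem graph_aut_image {F : Type u} [Field F] {D : ChevalleyDatum}
    (hD : D ∈ [chevG2, chevB2, chevD4, chevF4, chevE6, chevE7, chevE8]) (C : ChevData.{u} D)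
    (g : GraphData) (hok : g.ok C.T = true) (htab : Cfsg.Agent.S1081.simplesOK D g)
    (hperm : ∀ r < D.nroots, permRootL D g.hp r = tabRoot g.tab r)
    (π : Equiv.Perm (Fin D.rank)) (hπl : ∀ i : Fin D.rank, (π i).val = g.hp.getD i.val 0)
    (φ : ↥(D.group F) ≃* ↥(D.group F))
    (hφ : ∀ (x : ↥(D.group F)) (i : Fin D.rank) (t : F),
      (((x : GL D.Idx F) : Matrix D.Idx D.Idx F) = D.x F (D.simple i) t →
        ((φ x : GL D.Idx F) : Matrix D.Idx D.Idx F) = D.x F (D.simple (π i)) t) ∧
      (((x : GL D.Idx F) : Matrix D.Idx D.Idx F) = D.x F (D.neg (D.simple i)) t →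
        ((φ x : GL D.Idx F) : Matrix D.Idx D.Idx F) = D.x F (D.neg (D.simple (π i))) t))
    (r : ℕ) (hr : r < D.nroots) :
    ∃ ε : F, (ε = 1 ∨ ε = -1) ∧ ∀ (x : ↥(D.group F)) (t : F),
      ((x : GL D.Idx F) : Matrix D.Idx D.Idx F) = D.x F r t →
        ((φ x : GL D.Idx F) : Matrix D.Idx D.Idx F) = D.x F (D.permRoot π r) (ε * t) := by
  have heq : ∀ x : ↥(D.group F), φ x = graphAut hD C g hok x := by
    apply aut_ext hD C
    intro x i t hi hx
    obtain ⟨h1, h2, h3, h4⟩ := htab i hi
    have hs : D.simple i < D.nroots := C.simple_lt i hi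
    have hns : D.neg (D.simple i) < D.nroots := neg_lt_nroots D hD _ hs
    have hπi := hπl ⟨i, hi⟩
    simp only at hπi
    apply Subtype.ext
    apply Units.ext
    rcases hx with hx | hx
    · have hx' : ((x : GL D.Idx F) : Matrix D.Idx D.Idx F) = D.x F (D.simple i) t := by rw [hx, coe_xG]
      rw [(hφ x ⟨i, hi⟩ t).1 hx', graphAut_root hD C g hok x _ hs t hx', h1, h2, hπi]
      simp
    · have hx' : ((x : GL D.Idx F) : Matrix D.Idx D.Idx F) = D.x F (D.neg (D.simple i)) t := by rw [hx, coe_xG]
      rw [(hφ x ⟨i, hi⟩ t).2 hx', graphAut_root hD C g hok x _ hns t hx', h3, h4, hπi]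
      simp
  refine ⟨((tabSign g.tab r : ℤ) : F), ?_, ?_⟩
  · rcases tabSign_cases g.tab r with h | h <;> rw [h] <;> simp
  · intro x t hx
    rw [heq x, graphAut_root hD C g hok x r hr t hx, permRoot_eq D π g.hp hπl, hperm r hr]

/-- The identity as a graph automorphism of type D4. -/
def graphData_D4_0123 : GraphData where
  hp := [0, 1, 2, 3]
  tab := 0xc02e0b02a0a026090220801e0701a06016050120400e0300a0200601002
  hp' := [0, 1, 2, 3]
  tab' := 0xc02e0b02a0a026090220801e0701a06016050120400e0300a0200601002

set_option maxRecDepth 1000000 in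
theorem graphData_D4_0123_ok : graphData_D4_0123.ok fastD4 = true := by decide +kernel

/-- The table of bonds of type D4. -/
def bondsTab_D4 : List (List ℤ) := [[4, 1, 0, 0], [1, 4, 1, 1], [0, 1, 4, 0], [0, 1, 0, 4]]

set_option maxRecDepth 1000000 in
theorem bondsOK_D4 : bondsOK chevD4 bondsTab_D4 = true := by decide +kernel

/-- The symmetries of the diagram of type D4. -/
def syms_D4 : List (List ℕ) := [[0, 1, 2, 3], [0, 1, 3, 2], [2, 1, 0, 3], [2, 1, 3, 0], [3, 1, 0, 2], [3, 1, 2, 0]]

set_option maxRecDepth 1000000 in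
theorem symsOK_D4 : symsOK bondsTab_D4 chevD4.rank syms_D4 = true := by decide +kernel

set_option maxRecDepth 1000000 in
theorem simplesOK_D4_0123 : Cfsg.Agent.S1081.simplesOK chevD4 graphData_D4_0123 := by decide +kernel

set_option maxRecDepth 1000000 in
theorem permOK_D4_0123 : ∀ r < chevD4.nroots, permRootL chevD4 graphData_D4_0123.hp r = tabRoot graphData_D4_0123.tab r := by
  decide +kernel

set_option maxRecDepth 1000000 in
theorem simplesOK_D4_0132 : Cfsg.Agent.S1081.simplesOK chevD4 graphData_D4_0132 := by decide +kernel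

set_option maxRecDepth 1000000 in
theorem permOK_D4_0132 : ∀ r < chevD4.nroots, permRootL chevD4 graphData_D4_0132.hp r = tabRoot graphData_D4_0132.tab r := by
  decide +kernel

set_option maxRecDepth 1000000 in
theorem simplesOK_D4_2103 : Cfsg.Agent.S1081.simplesOK chevD4 graphData_D4_2103 := by decide +kernel

set_option maxRecDepth 1000000 in
theorem permOK_D4_2103 : ∀ r < chevD4.nroots, permRootL chevD4 graphData_D4_2103.hp r = tabRoot graphData_D4_2103.tab r := by
  decide +kernel

set_option maxRecDepth 1000000 in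
theorem simplesOK_D4_2130 : Cfsg.Agent.S1081.simplesOK chevD4 graphData_D4_2130 := by decide +kernel

set_option maxRecDepth 1000000 in
theorem permOK_D4_2130 : ∀ r < chevD4.nroots, permRootL chevD4 graphData_D4_2130.hp r = tabRoot graphData_D4_2130.tab r := by
  decide +kernel

set_option maxRecDepth 1000000 in
theorem simplesOK_D4_3102 : Cfsg.Agent.S1081.simplesOK chevD4 graphData_D4_3102 := by decide +kernel

set_option maxRecDepth 1000000 in
theorem permOK_D4_3102 : ∀ r < chevD4.nroots, permRootL chevD4 graphData_D4_3102.hp r = tabRoot graphData_D4_3102.tab r := by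
  decide +kernel

set_option maxRecDepth 1000000 in
theorem simplesOK_D4_3120 : Cfsg.Agent.S1081.simplesOK chevD4 graphData_D4_3120 := by decide +kernel

set_option maxRecDepth 1000000 in
theorem permOK_D4_3120 : ∀ r < chevD4.nroots, permRootL chevD4 graphData_D4_3120.hp r = tabRoot graphData_D4_3120.tab r := by
  decide +kernel

/-- The identity as a graph automorphism of type E6. -/
def graphData_E6_012345 : GraphData where
  hp := [0, 1, 2, 3, 4, 5]
  tab := 0x2408e2308a22086210822007e1f07a1e0761d0721c06e1b06a1a066190621805e1705a16056150521404e1304a12046110421003e0f03a0e0360d0320c02e0b02a0a026090220801e0701a06016050120400e0300a0200601002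
  hp' := [0, 1, 2, 3, 4, 5]
  tab' := 0x2408e2308a22086210822007e1f07a1e0761d0721c06e1b06a1a066190621805e1705a16056150521404e1304a12046110421003e0f03a0e0360d0320c02e0b02a0a026090220801e0701a06016050120400e0300a0200601002

set_option maxRecDepth 1000000 in
theorem graphData_E6_012345_ok : graphData_E6_012345.ok fastE6 = true := by decide +kernel

/-- The table of bonds of type E6. -/
def bondsTab_E6 : List (List ℤ) := [[4, 0, 1, 0, 0, 0], [0, 4, 0, 1, 0, 0], [1, 0, 4, 1, 0, 0], [0, 1, 1, 4, 1, 0], [0, 0, 0, 1, 4, 1], [0, 0, 0, 0, 1, 4]]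

set_option maxRecDepth 1000000 in
theorem bondsOK_E6 : bondsOK chevE6 bondsTab_E6 = true := by decide +kernel

/-- The symmetries of the diagram of type E6. -/
def syms_E6 : List (List ℕ) := [[0, 1, 2, 3, 4, 5], [5, 1, 4, 3, 2, 0]]

set_option maxRecDepth 1000000 in
theorem symsOK_E6 : symsOK bondsTab_E6 chevE6.rank syms_E6 = true := by decide +kernel

set_option maxRecDepth 1000000 in
theorem simplesOK_E6_012345 : Cfsg.Agent.S1081.simplesOK chevE6 graphData_E6_012345 := by decide +kernel

set_option maxRecDepth 1000000 in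
theorem permOK_E6_012345 : ∀ r < chevE6.nroots, permRootL chevE6 graphData_E6_012345.hp r = tabRoot graphData_E6_012345.tab r := by
  decide +kernel

set_option maxRecDepth 1000000 in
theorem simplesOK_E6_514320 : Cfsg.Agent.S1081.simplesOK chevE6 graphData_E6_514320 := by decide +kernel

set_option maxRecDepth 1000000 in
theorem permOK_E6_514320 : ∀ r < chevE6.nroots, permRootL chevE6 graphData_E6_514320.hp r = tabRoot graphData_E6_514320.tab r := by
  decide +kernel

/-- For the Chevalley groups of types D₄ and E₆ (one root length) over any field: if `π` is a symmetry of the Dynkin diagram and `φ` is an automorphism sending `x_{p_i}(t)` to `x_{p_{π i}}(t)` and `x_{-p_i}(t)` to `x_{-p_{π i}}(t)` for every fundamental root `p_i`, then for every root `r` there is a sign `ε = ±1` with `φ(x_r(t)) = x_{π·r}(ε t)` for all `t`, where `π·r` is the root whose coefficients are those of `r` permuted by `π`. -/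
theorem result {F : Type*} [Field F] (D : Cfsg.Lie.ChevalleyDatum) (hD : D ∈ [Cfsg.Lie.chevD4, Cfsg.Lie.chevE6])
    (π : Equiv.Perm (Fin D.rank)) (hπ : D.IsDiagramSymmetry π) (φ : ↥(D.group F) ≃* ↥(D.group F))
    (hφ : ∀ (g : ↥(D.group F)) (i : Fin D.rank) (t : F),
      (((g : GL D.Idx F) : Matrix D.Idx D.Idx F) = D.x F (D.simple i) t →
        ((φ g : GL D.Idx F) : Matrix D.Idx D.Idx F) = D.x F (D.simple (π i)) t) ∧
      (((g : GL D.Idx F) : Matrix D.Idx D.Idx F) = D.x F (D.neg (D.simple i)) t →
        ((φ g : GL D.Idx F) : Matrix D.Idx D.Idx F) = D.x F (D.neg (D.simple (π i))) t))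
    (r : ℕ) (hr : r < D.nroots) :
    ∃ ε : F, (ε = 1 ∨ ε = -1) ∧ ∀ (g : ↥(D.group F)) (t : F),
      ((g : GL D.Idx F) : Matrix D.Idx D.Idx F) = D.x F r t →
        ((φ g : GL D.Idx F) : Matrix D.Idx D.Idx F) = D.x F (D.permRoot π r) (ε * t) := by
  simp only [List.mem_cons, List.not_mem_nil, or_false] at hD
  rcases hD with rfl | rfl
  · -- D4
    have hD' : chevD4 ∈ [chevG2, chevB2, chevD4, chevF4, chevE6, chevE7, chevE8] := by simp
    obtain ⟨l, hl, hπl⟩ := perm_mem_syms chevD4 bondsTab_D4 syms_D4 bondsOK_D4 symsOK_D4 π hπ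
    simp only [syms_D4, List.mem_cons, List.not_mem_nil, or_false] at hl
    rcases hl with rfl | rfl | rfl | rfl | rfl | rfl
    · exact graph_aut_image hD' chevData_D4.{u_1} graphData_D4_0123 graphData_D4_0123_ok simplesOK_D4_0123 permOK_D4_0123
        π hπl φ hφ r hr
    · exact graph_aut_image hD' chevData_D4.{u_1} graphData_D4_0132 graphData_D4_0132_ok simplesOK_D4_0132 permOK_D4_0132
        π hπl φ hφ r hr
    · exact graph_aut_image hD' chevData_D4.{u_1} graphData_D4_2103 graphData_D4_2103_ok simplesOK_D4_2103 permOK_D4_2103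
        π hπl φ hφ r hr
    · exact graph_aut_image hD' chevData_D4.{u_1} graphData_D4_2130 graphData_D4_2130_ok simplesOK_D4_2130 permOK_D4_2130
        π hπl φ hφ r hr
    · exact graph_aut_image hD' chevData_D4.{u_1} graphData_D4_3102 graphData_D4_3102_ok simplesOK_D4_3102 permOK_D4_3102
        π hπl φ hφ r hr
    · exact graph_aut_image hD' chevData_D4.{u_1} graphData_D4_3120 graphData_D4_3120_ok simplesOK_D4_3120 permOK_D4_3120
        π hπl φ hφ r hr
  · -- E6
    have hD' : chevE6 ∈ [chevG2, chevB2, chevD4, chevF4, chevE6, chevE7, chevE8] := by simp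
    obtain ⟨l, hl, hπl⟩ := perm_mem_syms chevE6 bondsTab_E6 syms_E6 bondsOK_E6 symsOK_E6 π hπ
    simp only [syms_E6, List.mem_cons, List.not_mem_nil, or_false] at hl
    rcases hl with rfl | rfl
    · exact graph_aut_image hD' chevData_E6.{u_1} graphData_E6_012345 graphData_E6_012345_ok simplesOK_E6_012345 permOK_E6_012345
        π hπl φ hφ r hr
    · exact graph_aut_image hD' chevData_E6.{u_1} graphData_E6_514320 graphData_E6_514320_ok simplesOK_E6_514320 permOK_E6_514320
        π hπl φ hφ r hr

end Cfsg.Agent.S2161
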