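import Cfsg.Statements.S2162
import Cfsg.Agent.Lib.Helper36.SqZero

set_option autoImplicit false
open Cfsg

namespace Cfsg.Agent.S2162

open Matrix

variable {F : Type*} [Field F] {n : ℕ}

/-- A centralizing matrix of prescribed square determinant. -/
theorem exists_commuting_det (N : Matrix (Fin n) (Fin n) F) (hNN : N * N = 0) (hN0 : N ≠ 0) (δ : F) :
    ∃ H : Matrix (Fin n) (Fin n) F, H * N = N * H ∧ H.det = δ * δ := by
  -- find v with N v ≠ 0
  have hex : ∃ v : Fin n → F, N *ᵥ v ≠ 0 := by
    by_contra hcon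
    push Not at hcon
    apply hN0
    ext i j
    have := congrFun (hcon (Pi.single j 1)) i
    simpa using this
  obtain ⟨v, hv⟩ := hex
  set u := N *ᵥ v with hu
  have hex2 : ∃ i, u i ≠ 0 := by
    by_contra hcon
    push Not at hcon
    exact hv (funext hcon)
  obtain ⟨i, hi⟩ := hex2
  set β : Fin n → F := (u i)⁻¹ • Pi.single i 1 with hβ
  have hβu : β ⬝ᵥ u = 1 := by
    rw [hβ, smul_dotProduct, single_dotProduct, one_mul, smul_eq_mul, inv_mul_cancel₀ hi]
  have hNu : N *ᵥ u = 0 := by rw [hu, mulVec_mulVec, hNN, zero_mulVec]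
  set c := δ - 1 with hc
  set H₁ : Matrix (Fin n) (Fin n) F := 1 + vecMulVec (c • u) β with hH₁
  set H₂ : Matrix (Fin n) (Fin n) F := 1 + vecMulVec (c • v) (β ᵥ* N) with hH₂
  have h1 : H₂ * N = N := by
    rw [hH₂, Matrix.add_mul, Matrix.one_mul, vecMulVec_mul, vecMul_vecMul, hNN, vecMul_zero,
      vecMulVec_zero, add_zero]
  have h2 : N * H₁ = N := by
    rw [hH₁, Matrix.mul_add, Matrix.mul_one, mul_vecMulVec, mulVec_smul, hNu, smul_zero,
      zero_vecMulVec, add_zero]
  have h3 : H₁ * N = N + vecMulVec (c • u) (β ᵥ* N) := by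
    rw [hH₁, Matrix.add_mul, Matrix.one_mul, vecMulVec_mul]
  have h4 : N * H₂ = N + vecMulVec (c • u) (β ᵥ* N) := by
    rw [hH₂, Matrix.mul_add, Matrix.mul_one, mul_vecMulVec, mulVec_smul]
  have hd1 : H₁.det = δ := by
    rw [hH₁, vecMulVec_eq Unit, det_one_add_replicateCol_mul_replicateRow, dotProduct_smul, hβu,
      hc, smul_eq_mul, mul_one]
    ring
  have hd2 : H₂.det = δ := by
    rw [hH₂, vecMulVec_eq Unit, det_one_add_replicateCol_mul_replicateRow, dotProduct_smul,
      ← dotProduct_mulVec, ← hu, hβu, hc, smul_eq_mul, mul_one]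
    ring
  refine ⟨H₁ * H₂, ?_, ?_⟩
  · rw [Matrix.mul_assoc, h1, h3, ← Matrix.mul_assoc, h2, h4]
  · rw [det_mul, hd1, hd2]

/-- `GL`-conjugacy of square-zero matrices of equal rank, in matrix form. -/
theorem exists_intertwiner (N N' : Matrix (Fin n) (Fin n) F) (hNN : N * N = 0) (hNN' : N' * N' = 0)
    (hrank : N.rank = N'.rank) :
    ∃ P : Matrix (Fin n) (Fin n) F, P.det ≠ 0 ∧ P * N = N' * P := by
  have h1 : ∀ x, N.mulVecLin (N.mulVecLin x) = 0 := fun x => by
    simp only [mulVecLin_apply, mulVec_mulVec, hNN, zero_mulVec]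
  have h2 : ∀ x, N'.mulVecLin (N'.mulVecLin x) = 0 := fun x => by
    simp only [mulVecLin_apply, mulVec_mulVec, hNN', zero_mulVec]
  obtain ⟨e, he⟩ := Cfsg.Agent.Lib.Helper36.exists_linearEquiv_conj_of_sqZero N.mulVecLin N'.mulVecLin
    h1 h2 hrank
  refine ⟨LinearMap.toMatrix' e.toLinearMap, ?_, ?_⟩
  · have hinv : LinearMap.toMatrix' e.toLinearMap * LinearMap.toMatrix' e.symm.toLinearMap = 1 := by
      rw [← LinearMap.toMatrix'_comp]
      simp
    intro h0
    have := congrArg det hinv
    rw [det_mul, h0, zero_mul, det_one] at this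
    exact zero_ne_one this
  · have hcomp : e.toLinearMap ∘ₗ N.mulVecLin = N'.mulVecLin ∘ₗ e.toLinearMap := by
      apply LinearMap.ext
      intro x
      exact he x
    have := congrArg LinearMap.toMatrix' hcomp
    rw [LinearMap.toMatrix'_comp, LinearMap.toMatrix'_comp, ← Matrix.toLin'_apply',
      ← Matrix.toLin'_apply', LinearMap.toMatrix'_toLin', LinearMap.toMatrix'_toLin'] at this
    exact this

theorem sub_one_mul_self [CharP F 2] (A : Matrix (Fin n) (Fin n) F) (hAA : A * A = 1) :
    (A - 1) * (A - 1) = 0 := by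
  rw [Matrix.sub_mul, Matrix.mul_sub, Matrix.mul_sub, hAA, Matrix.one_mul, Matrix.mul_one,
    Matrix.one_mul]
  have : (1 : Matrix (Fin n) (Fin n) F) - A = A - 1 := by
    ext i j
    simp only [Matrix.sub_apply]
    rw [CharTwo.sub_eq_add, CharTwo.sub_eq_add, add_comm]
  rw [this, sub_self]

theorem result' [Fintype F] [CharP F 2] (hn : 3 ≤ n) (a b : Matrix.SpecialLinearGroup (Fin n) F) (ha : orderOf a = 2) (hb : orderOf b = 2) :
    IsConj a b ↔ ((a : Matrix (Fin n) (Fin n) F) - 1).rank = ((b : Matrix (Fin n) (Fin n) F) - 1).rank := by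
  constructor
  · intro h
    obtain ⟨c, hc⟩ := isConj_iff.mp h
    have hcm : (b : Matrix (Fin n) (Fin n) F) - 1 =
        (c : Matrix (Fin n) (Fin n) F) * ((a : Matrix (Fin n) (Fin n) F) - 1) * ((c⁻¹ : Matrix.SpecialLinearGroup (Fin n) F) : Matrix (Fin n) (Fin n) F) := by
      have h1 : (c : Matrix (Fin n) (Fin n) F) * ((c⁻¹ : Matrix.SpecialLinearGroup (Fin n) F) : Matrix (Fin n) (Fin n) F) = 1 := by
        rw [← Matrix.SpecialLinearGroup.coe_mul, mul_inv_cancel, Matrix.SpecialLinearGroup.coe_one]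
      rw [Matrix.mul_sub, Matrix.sub_mul, Matrix.mul_one, h1, ← hc]
      simp only [Matrix.SpecialLinearGroup.coe_mul]
    rw [hcm]
    have hdc : IsUnit (c : Matrix (Fin n) (Fin n) F).det := by rw [c.2]; exact isUnit_one
    have hdc' : IsUnit ((c⁻¹ : Matrix.SpecialLinearGroup (Fin n) F) : Matrix (Fin n) (Fin n) F).det := by
      rw [(c⁻¹).2]; exact isUnit_one
    rw [rank_mul_eq_left_of_isUnit_det _ _ hdc', rank_mul_eq_right_of_isUnit_det _ _ hdc]
  · intro hrank
    have hAA : (a : Matrix (Fin n) (Fin n) F) * (a : Matrix (Fin n) (Fin n) F) = 1 := by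
      have h2 : a ^ 2 = 1 := by rw [← ha]; exact pow_orderOf_eq_one a
      have := congrArg (fun x : Matrix.SpecialLinearGroup (Fin n) F => (x : Matrix (Fin n) (Fin n) F)) h2
      simpa [pow_two] using this
    have hBB : (b : Matrix (Fin n) (Fin n) F) * (b : Matrix (Fin n) (Fin n) F) = 1 := by
      have h2 : b ^ 2 = 1 := by rw [← hb]; exact pow_orderOf_eq_one b
      have := congrArg (fun x : Matrix.SpecialLinearGroup (Fin n) F => (x : Matrix (Fin n) (Fin n) F)) h2
      simpa [pow_two] using this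
    set A := (a : Matrix (Fin n) (Fin n) F) with hA
    set B := (b : Matrix (Fin n) (Fin n) F) with hB
    have hNA := sub_one_mul_self A hAA
    have hNB := sub_one_mul_self B hBB
    have hA0 : A - 1 ≠ 0 := by
      intro h0
      have h1 : A = 1 := sub_eq_zero.mp h0
      have h2 : a = 1 := by
        apply Subtype.ext
        rw [← hA, h1]; rfl
      rw [h2, orderOf_one] at ha
      omega
    obtain ⟨P, hPdet, hP⟩ := exists_intertwiner (A - 1) (B - 1) hNA hNB hrank
    obtain ⟨δ, hδ⟩ := FiniteField.isSquare_of_char_two (ringChar.eq F 2) (P.det)⁻¹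
    obtain ⟨H, hH, hHdet⟩ := exists_commuting_det (A - 1) hNA hA0 δ
    have hgdet : (P * H).det = 1 := by
      rw [det_mul, hHdet, ← hδ, mul_inv_cancel₀ hPdet]
    have hg : (P * H) * A = B * (P * H) := by
      have e1 : (P * H) * (A - 1) = (B - 1) * (P * H) := by
        rw [Matrix.mul_assoc, hH, ← Matrix.mul_assoc, hP, Matrix.mul_assoc]
      have e2 : A = (A - 1) + 1 := by rw [sub_add_cancel]
      have e3 : B = (B - 1) + 1 := by rw [sub_add_cancel]
      rw [e2, e3, Matrix.mul_add, Matrix.add_mul, e1, Matrix.mul_one, Matrix.one_mul]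
    rw [isConj_iff]
    let c : Matrix.SpecialLinearGroup (Fin n) F := ⟨P * H, hgdet⟩
    have hc : (c : Matrix (Fin n) (Fin n) F) = P * H := rfl
    refine ⟨c, ?_⟩
    rw [mul_inv_eq_iff_eq_mul]
    apply Subtype.ext
    simp only [Matrix.SpecialLinearGroup.coe_mul]
    rw [hc]
    exact hg

/-- Conjugacy of involutions in the special linear group over a finite field of characteristic two, in dimension at least 3: two elements of order 2 of SL_n(F) are conjugate in SL_n(F) exactly when the matrices a − 1 and b − 1 have the same rank (the rank of a − 1 is the dimension of the commutator space [V, a]). -/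
theorem result {F : Type*} [Field F] [Fintype F] [CharP F 2] {n : ℕ} (hn : 3 ≤ n) (a b : Matrix.SpecialLinearGroup (Fin n) F) (ha : orderOf a = 2) (hb : orderOf b = 2) :
    IsConj a b ↔ ((a : Matrix (Fin n) (Fin n) F) - 1).rank = ((b : Matrix (Fin n) (Fin n) F) - 1).rank := by
  exact result' hn a b ha hb

end Cfsg.Agent.S2162
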