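import Cfsg.Statements.S2163
-- import your own Cfsg.Agent.* helpers here

set_option autoImplicit false
open Cfsg

namespace Cfsg.Agent.S2163

/-- The nilpotent block matrix. -/
def nMat (F : Type*) [Field F] (n ℓ : ℕ) : Matrix (Fin n) (Fin n) F :=
  Matrix.of (fun i j : Fin n => if j.val < ℓ ∧ i.val = j.val + (n - ℓ) then (1 : F) else 0)

/-- Left factor. -/
def aMat (F : Type*) [Field F] (n ℓ : ℕ) : Matrix (Fin n) (Fin ℓ) F :=
  Matrix.of (fun (i : Fin n) (k : Fin ℓ) => if i.val = k.val + (n - ℓ) then (1 : F) else 0)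

/-- Right factor. -/
def bMat (F : Type*) [Field F] (n ℓ : ℕ) : Matrix (Fin ℓ) (Fin n) F :=
  Matrix.of (fun (k : Fin ℓ) (j : Fin n) => if j.val = k.val then (1 : F) else 0)

theorem nMat_eq_mul (F : Type*) [Field F] (n ℓ : ℕ) (h2 : 2 * ℓ ≤ n) :
    nMat F n ℓ = aMat F n ℓ * bMat F n ℓ := by
  ext i j
  simp only [nMat, aMat, bMat, Matrix.mul_apply, Matrix.of_apply]
  by_cases hj : j.val < ℓ
  · rw [Finset.sum_eq_single (⟨j.val, hj⟩ : Fin ℓ)]
    · simp [hj]
    · intro k _ hk
      have : ¬ (j.val = k.val) := fun h => hk (Fin.ext h.symm)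
      simp [this]
    · intro h; exact absurd (Finset.mem_univ _) h
  · have : ∀ k : Fin ℓ, ¬ (j.val = k.val) := fun k h => hj (h ▸ k.isLt)
    simp [hj, this]

theorem aMat_transpose_mul (F : Type*) [Field F] (n ℓ : ℕ) (h2 : 2 * ℓ ≤ n) :
    (aMat F n ℓ).transpose * aMat F n ℓ = 1 := by
  ext k k'
  simp only [aMat, Matrix.mul_apply, Matrix.of_apply, Matrix.transpose_apply]
  have hk : k.val + (n - ℓ) < n := by have := k.isLt; omega
  rw [Finset.sum_eq_single (⟨k.val + (n - ℓ), hk⟩ : Fin n)]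
  · by_cases hkk : k = k'
    · subst hkk; simp
    · have : ¬ (k.val = k'.val) := fun h => hkk (Fin.ext h)
      simp [hkk, this]
  · intro i _ hi
    have : ¬ (i.val = k.val + (n - ℓ)) := fun h => hi (Fin.ext h)
    simp [this]
  · intro h; exact absurd (Finset.mem_univ _) h

theorem bMat_mul_transpose (F : Type*) [Field F] (n ℓ : ℕ) (h2 : 2 * ℓ ≤ n) :
    bMat F n ℓ * (bMat F n ℓ).transpose = 1 := by
  ext k k'
  simp only [bMat, Matrix.mul_apply, Matrix.of_apply, Matrix.transpose_apply]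
  have hk : k.val < n := by have := k.isLt; omega
  rw [Finset.sum_eq_single (⟨k.val, hk⟩ : Fin n)]
  · by_cases hkk : k = k'
    · subst hkk; simp
    · have : ¬ (k.val = k'.val) := fun h => hkk (Fin.ext h)
      simp [hkk, this]
  · intro i _ hi
    have : ¬ (i.val = k.val) := fun h => hi (Fin.ext h)
    simp [this]
  · intro h; exact absurd (Finset.mem_univ _) h

theorem rank_nMat (F : Type*) [Field F] (n ℓ : ℕ) (h2 : 2 * ℓ ≤ n) :
    (nMat F n ℓ).rank = ℓ := by
  apply le_antisymm
  · rw [nMat_eq_mul F n ℓ h2]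
    exact (Matrix.rank_mul_le_left _ _).trans (Matrix.rank_le_width _)
  · have h1 : (aMat F n ℓ).transpose * nMat F n ℓ * (bMat F n ℓ).transpose = 1 := by
      rw [nMat_eq_mul F n ℓ h2, ← Matrix.mul_assoc, aMat_transpose_mul F n ℓ h2, Matrix.one_mul,
        bMat_mul_transpose F n ℓ h2]
    calc ℓ = (1 : Matrix (Fin ℓ) (Fin ℓ) F).rank := by rw [Matrix.rank_one]; simp
      _ = ((aMat F n ℓ).transpose * nMat F n ℓ * (bMat F n ℓ).transpose).rank := by rw [h1]
      _ ≤ ((aMat F n ℓ).transpose * nMat F n ℓ).rank := Matrix.rank_mul_le_left _ _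
      _ ≤ (nMat F n ℓ).rank := Matrix.rank_mul_le_right _ _

theorem nMat_mul_self (F : Type*) [Field F] (n ℓ : ℕ) (h2 : 2 * ℓ ≤ n) :
    nMat F n ℓ * nMat F n ℓ = 0 := by
  ext i k
  simp only [nMat, Matrix.mul_apply, Matrix.of_apply, Matrix.zero_apply]
  apply Finset.sum_eq_zero
  intro j _
  by_cases hj : j.val < ℓ
  · have : ¬ (k.val < ℓ ∧ j.val = k.val + (n - ℓ)) := by omega
    simp [this]
  · simp [hj]

theorem det_one_add_nMat (F : Type*) [Field F] (n ℓ : ℕ) (h1 : 1 ≤ ℓ) (h2 : 2 * ℓ ≤ n) :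
    (1 + nMat F n ℓ).det = 1 := by
  rw [Matrix.det_of_isLowerTriangular]
  · apply Finset.prod_eq_one
    intro i _
    have : ¬ (i.val < ℓ ∧ i.val = i.val + (n - ℓ)) := by omega
    simp only [nMat, Matrix.add_apply, Matrix.one_apply_eq, Matrix.of_apply, if_neg this, add_zero]
  · intro i j hij
    have hij' : i < j := hij
    have hne : i ≠ j := ne_of_lt hij'
    have hlt : i.val < j.val := hij'
    have : ¬ (j.val < ℓ ∧ i.val = j.val + (n - ℓ)) := by omega
    simp only [nMat, Matrix.add_apply, Matrix.one_apply_ne hne, Matrix.of_apply, if_neg this, add_zero]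

/-- Over a finite field of characteristic two and for n ≥ 3: for every ℓ with 1 ≤ ℓ and 2ℓ ≤ n, the matrix j_ℓ that is the identity plus the entries 1 in positions (n − ℓ + i, i) for i < ℓ (an identity block of size ℓ in the lower left corner) lies in SL_n(F), has order 2, and j_ℓ − 1 has rank ℓ. Together with the conjugacy criterion by rank, these matrices represent the conjugacy classes of involutions of SL_n(F). -/
theorem result {F : Type*} [Field F] [Fintype F] [CharP F 2] {n : ℕ} (hn : 3 ≤ n) (ℓ : ℕ) (h1 : 1 ≤ ℓ) (h2 : 2 * ℓ ≤ n) :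
    ∃ a : Matrix.SpecialLinearGroup (Fin n) F, (a : Matrix (Fin n) (Fin n) F) = 1 + Matrix.of (fun i j : Fin n => if j.val < ℓ ∧ i.val = j.val + (n - ℓ) then (1 : F) else 0) ∧ orderOf a = 2 ∧ ((a : Matrix (Fin n) (Fin n) F) - 1).rank = ℓ := by
  let a : Matrix.SpecialLinearGroup (Fin n) F := ⟨1 + nMat F n ℓ, det_one_add_nMat F n ℓ h1 h2⟩
  have ha : (a : Matrix (Fin n) (Fin n) F) = 1 + nMat F n ℓ := rfl
  refine ⟨a, rfl, ?_, ?_⟩
  · have : Fact (Nat.Prime 2) := ⟨Nat.prime_two⟩
    apply orderOf_eq_prime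
    · apply Matrix.SpecialLinearGroup.ext
      intro i j
      rw [Matrix.SpecialLinearGroup.coe_pow, Matrix.SpecialLinearGroup.coe_one, pow_two, ha,
        Matrix.add_mul, Matrix.mul_add, Matrix.mul_add, nMat_mul_self F n ℓ h2]
      simp only [Matrix.one_mul, Matrix.mul_one, add_zero]
      have : nMat F n ℓ + nMat F n ℓ = 0 := by
        ext i j
        simp only [Matrix.add_apply, Matrix.zero_apply]
        exact CharTwo.add_self_eq_zero _
      rw [add_assoc, this]
      simp
    · intro h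
      have h' := congrArg (fun a : Matrix.SpecialLinearGroup (Fin n) F => (a : Matrix (Fin n) (Fin n) F)) h
      simp only [Matrix.SpecialLinearGroup.coe_one] at h'
      rw [ha] at h'
      have h0 : nMat F n ℓ = 0 := by
        have := congrArg (fun M => M - 1) h'
        simpa using this
      have hr := rank_nMat F n ℓ h2
      rw [h0, Matrix.rank_zero] at hr
      omega
  · rw [ha, add_sub_cancel_left]
    exact rank_nMat F n ℓ h2

end Cfsg.Agent.S2163
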