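import Cfsg.Statements.S2164
import Cfsg.Agent.S2162
import Cfsg.Agent.Lib.Helper13.Herm
import Cfsg.Agent.Lib.Helper36.HermAdapted

set_option autoImplicit false
open Cfsg

namespace Cfsg.Agent.S2164

open Cfsg.Agent.Lib.Helper36 Cfsg.Agent.Lib.Helper13 Matrix Module

section

variable {F : Type*} [Field F] {n : ℕ}

/-- The form `(u, v) ↦ Σ v_i σ(u_i)` as a sesquilinear map. -/
noncomputable def hB (σ : F →+* F) : (Fin n → F) →ₛₗ[σ] (Fin n → F) →ₗ[F] F :=
  LinearMap.mk₂'ₛₗ σ (RingHom.id F) (fun u v => ∑ i, v i * σ (u i))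
    (by intro u u' v; simp [mul_add, Finset.sum_add_distrib])
    (by
      intro c u v
      simp only [Pi.smul_apply, smul_eq_mul, map_mul, Finset.mul_sum]
      apply Finset.sum_congr rfl
      intro i _
      ring)
    (by intro u v v'; simp [add_mul, Finset.sum_add_distrib])
    (by
      intro c u v
      simp only [Pi.smul_apply, smul_eq_mul, RingHom.id_apply, Finset.mul_sum]
      apply Finset.sum_congr rfl
      intro i _
      ring)

theorem hB_apply (σ : F →+* F) (u v : Fin n → F) : hB σ u v = ∑ i, v i * σ (u i) := rfl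

theorem hB_eq_hermForm (σ : F →+* F) {q : ℕ} (hσq : ∀ x, σ x = x ^ q) (u v : Fin n → F) :
    hB σ u v = hermForm n F q v u := by
  rw [hB_apply]
  unfold hermForm
  simp only [hσq]

theorem hB_isSymm (σ : F →+* F) (hσ2 : ∀ a : F, σ (σ a) = a) : (hB (n := n) σ).IsSymm := by
  refine ⟨fun u v => ?_⟩
  rw [hB_apply, hB_apply, map_sum]
  apply Finset.sum_congr rfl
  intro i _
  rw [map_mul, hσ2, mul_comm]

theorem hB_nondegenerate (σ : F →+* F) : (hB (n := n) σ).Nondegenerate := by
  classical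
  constructor
  · intro u hu
    ext i
    have h := hu (Pi.single i 1)
    rw [hB_apply, Finset.sum_eq_single i] at h
    · simpa using h
    · intro j _ hj
      simp [hj]
    · intro h'
      exact absurd (Finset.mem_univ i) h'
  · intro v hv
    ext i
    have h := hv (Pi.single i 1)
    rw [hB_apply, Finset.sum_eq_single i] at h
    · simpa using h
    · intro j _ hj
      simp [hj]
    · intro h'
      exact absurd (Finset.mem_univ i) h'

/-- The Frobenius-type involution of a field with `q ^ 2` elements is not the identity. -/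
theorem frob_ne_id [Fintype F] {q : ℕ} (hF : Fintype.card F = q ^ 2) (σ : F →+* F)
    (hσq : ∀ x, σ x = x ^ q) : σ ≠ RingHom.id F := by
  classical
  intro h
  have hq : 2 ≤ q := two_le_of_card_eq_sq hF
  have hall : ∀ x : F, x ^ q = x := fun x => by rw [← hσq, h]; rfl
  have hP : (Polynomial.X ^ q - Polynomial.X : Polynomial F) ≠ 0 :=
    FiniteField.X_pow_card_sub_X_ne_zero F (by omega)
  have hdeg := FiniteField.X_pow_card_sub_X_natDegree_eq F (p := q) (by omega)
  have hsub : (Finset.univ : Finset F) ⊆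
      (Polynomial.X ^ q - Polynomial.X : Polynomial F).roots.toFinset := by
    intro x _
    rw [Multiset.mem_toFinset, Polynomial.mem_roots hP]
    simp [hall x]
  have h1 := Finset.card_le_card hsub
  have h2 := Multiset.toFinset_card_le (Polynomial.X ^ q - Polynomial.X : Polynomial F).roots
  have h3 := Polynomial.card_roots' (Polynomial.X ^ q - Polynomial.X : Polynomial F)
  rw [Finset.card_univ, hF] at h1
  nlinarith

theorem exists_trace_one [CharP F 2] (σ : F →+* F) (hσ : σ ≠ RingHom.id F)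
    (hσ2 : ∀ a : F, σ (σ a) = a) : ∃ t : F, t + σ t = 1 := by
  have hex : ∃ θ, σ θ ≠ θ := by
    by_contra hc
    push Not at hc
    exact hσ (RingHom.ext hc)
  obtain ⟨θ, hθ⟩ := hex
  have hs : θ + σ θ ≠ 0 := by
    intro h0
    apply hθ
    have := CharTwo.add_eq_zero.mp h0
    exact this.symm
  refine ⟨θ / (θ + σ θ), ?_⟩
  rw [map_div₀, map_add, hσ2, add_comm (σ θ) θ, ← add_div, div_self hs]

theorem exists_sqrt_norm_one [Fintype F] [CharP F 2] {q : ℕ} (hF : Fintype.card F = q ^ 2)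
    (σ : F →+* F) (hσq : ∀ x, σ x = x ^ q) (ν : F) (hν : ν * σ ν = 1) :
    ∃ μ : F, μ * σ μ = 1 ∧ μ * μ = ν := by
  have h2 : 2 ∣ q := by
    have h0 : ((Fintype.card F : ℕ) : F) = 0 := Nat.cast_card_eq_zero F
    have h1 : 2 ∣ Fintype.card F := (CharP.cast_eq_zero_iff F 2 _).mp h0
    rw [hF] at h1
    exact Nat.Prime.dvd_of_dvd_pow Nat.prime_two h1
  obtain ⟨q', hq'⟩ := h2
  refine ⟨ν ^ (q' + 1), ?_, ?_⟩
  · rw [map_pow, ← mul_pow, hν, one_pow]
  · have h3 : ν ^ (q + 1) = 1 := by rw [pow_succ, ← hσq, mul_comm]; exact hν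
    calc ν ^ (q' + 1) * ν ^ (q' + 1) = ν ^ (q + 1) * ν := by rw [hq']; ring
      _ = ν := by rw [h3, one_mul]

theorem sqzero_adj [CharP F 2] (σ : F →+* F) (A : Matrix (Fin n) (Fin n) F) (hA2 : A * A = 1)
    (hAB : ∀ u v, hB σ (A *ᵥ u) (A *ᵥ v) = hB σ u v) :
    (∀ x, (A - 1).mulVecLin ((A - 1).mulVecLin x) = 0) ∧
      ∀ x y, hB σ ((A - 1).mulVecLin x) y = hB σ x ((A - 1).mulVecLin y) := by
  constructor
  · intro x
    simp only [mulVecLin_apply, mulVec_mulVec, Cfsg.Agent.S2162.sub_one_mul_self A hA2, zero_mulVec]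
  · intro x y
    have h1 : hB σ (A *ᵥ x) y = hB σ x (A *ᵥ y) := by
      have h := hAB x (A *ᵥ y)
      rw [mulVec_mulVec, hA2, one_mulVec] at h
      exact h
    simp only [mulVecLin_apply, one_mulVec, map_sub, LinearMap.sub_apply, h1]

end

section

variable {F : Type*} [Field F] [Fintype F] [CharP F 2] {n q : ℕ}

theorem exists_conj_matrix (hF : Fintype.card F = q ^ 2)
    (A A' : Matrix (Fin n) (Fin n) F) (hA2 : A * A = 1) (hA'2 : A' * A' = 1)
    (hA : ∀ u v, hermForm n F q (A *ᵥ u) (A *ᵥ v) = hermForm n F q u v)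
    (hA' : ∀ u v, hermForm n F q (A' *ᵥ u) (A' *ᵥ v) = hermForm n F q u v)
    (hne : A ≠ 1) (hrank : (A - 1).rank = (A' - 1).rank) :
    ∃ G : Matrix (Fin n) (Fin n) F, G.det = 1 ∧
      (∀ u v, hermForm n F q (G *ᵥ u) (G *ᵥ v) = hermForm n F q u v) ∧ G * A = A' * G := by
  classical
  obtain ⟨σ, hσq, hσ2⟩ := exists_frob hF
  have hσ : σ ≠ RingHom.id F := frob_ne_id hF σ hσq
  obtain ⟨t, ht⟩ := exists_trace_one σ hσ hσ2
  obtain ⟨B, hBdef⟩ : ∃ B : (Fin n → F) →ₛₗ[σ] (Fin n → F) →ₗ[F] F, B = hB σ := ⟨_, rfl⟩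
  have hBh : ∀ u v, B u v = hermForm n F q v u := fun u v => by
    rw [hBdef]; exact hB_eq_hermForm σ hσq u v
  have hS : B.IsSymm := by rw [hBdef]; exact hB_isSymm σ hσ2
  have hnd : B.Nondegenerate := by rw [hBdef]; exact hB_nondegenerate σ
  have hAB : ∀ u v, B (A *ᵥ u) (A *ᵥ v) = B u v := fun u v => by rw [hBh, hBh, hA]
  have hA'B : ∀ u v, B (A' *ᵥ u) (A' *ᵥ v) = B u v := fun u v => by rw [hBh, hBh, hA']
  obtain ⟨hN2, hadj⟩ := sqzero_adj σ A hA2 (by rw [← hBdef]; exact hAB)
  obtain ⟨hN2', hadj'⟩ := sqzero_adj σ A' hA'2 (by rw [← hBdef]; exact hA'B)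
  rw [← hBdef] at hadj hadj'
  obtain ⟨r, hr⟩ : ∃ r, (A - 1).rank = r := ⟨_, rfl⟩
  obtain ⟨s, e, e', hs, hfr, hgram, hNe1, hNe2⟩ :=
    exists_adapted_frame σ hσ hσ2 t ht B hS hnd (A - 1).mulVecLin hN2 hadj r hr
  obtain ⟨s', f, f', hs', hfr', hgram', hNf1, hNf2⟩ :=
    exists_adapted_frame σ hσ hσ2 t ht B hS hnd (A' - 1).mulVecLin hN2' hadj' r (hrank.symm.trans hr)
  have hss : s = s' := by omega
  subst hss
  -- r ≥ 1
  have hr1 : 0 < r := by
    rcases Nat.eq_zero_or_pos r with h0 | h0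
    · exfalso
      apply hne
      have h1 : finrank F (LinearMap.range (A - 1).mulVecLin) = 0 := by rw [← h0, ← hr]; rfl
      have h2 : LinearMap.range (A - 1).mulVecLin = ⊥ := Submodule.finrank_eq_zero.mp h1
      have h3 : (A - 1).mulVecLin = 0 := LinearMap.range_eq_bot.mp h2
      have h4 : A - 1 = 0 := by
        ext i j
        have := congrFun (LinearMap.congr_fun h3 (Pi.single j 1)) i
        simp only [mulVecLin_apply, mulVec_single_one, LinearMap.zero_apply, Pi.zero_apply,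
          col_apply] at this
        rw [this]
        rfl
      exact sub_eq_zero.mp h4
    · exact h0
  -- the transport map
  obtain ⟨g, hgdef⟩ : ∃ g : (Fin n → F) →ₗ[F] (Fin n → F), g = frameMap B e' f := ⟨_, rfl⟩
  obtain ⟨g', hg'def⟩ : ∃ g' : (Fin n → F) →ₗ[F] (Fin n → F), g' = frameMap B f' e := ⟨_, rfl⟩
  have hg1 : ∀ x y, B (g x) (g y) = B x y := by
    rw [hgdef]
    exact frameMap_isometry hfr (fun i j => by rw [hgram, hgram'])
  have hg2 : ∀ x, g ((A - 1).mulVecLin x) = (A' - 1).mulVecLin (g x) := by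
    rw [hgdef]
    refine frameMap_comm hfr _ _ ?_
    intro j
    rcases j with i | j
    · rw [hNe1, frameMap_apply_self hfr, hNf1]
    · rw [hNe2, map_zero, hNf2]
  have hg3 : ∀ x, g' (g x) = x := by
    rw [hgdef, hg'def]
    exact frameMap_frameMap hfr hfr'
  -- the centralizing isometry
  obtain ⟨G, hGdef⟩ : ∃ G : Matrix (Fin n) (Fin n) F, G = LinearMap.toMatrix' g := ⟨_, rfl⟩
  have hGmul : ∀ x, G *ᵥ x = g x := fun x => by rw [hGdef, LinearMap.toMatrix'_mulVec]
  have hGB : ∀ u v, B (G *ᵥ u) (G *ᵥ v) = B u v := fun u v => by rw [hGmul, hGmul, hg1]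
  have hGG : LinearMap.toMatrix' g' * G = 1 := by
    rw [hGdef, ← LinearMap.toMatrix'_comp]
    have : g' ∘ₗ g = LinearMap.id := LinearMap.ext hg3
    rw [this, LinearMap.toMatrix'_id]
  have hdet0 : G.det ≠ 0 := by
    intro h0
    have := congrArg det hGG
    rw [det_mul, h0, mul_zero, det_one] at this
    exact zero_ne_one this
  have hnorm : G.det * σ G.det = 1 := by
    have h1 : Gᵀ * (σ.mapMatrix G) = 1 := by
      ext i j
      have h := hGB (Pi.single j 1) (Pi.single i 1)
      rw [hBdef, hB_apply, hB_apply] at h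
      simp only [mulVec_single_one, col_apply] at h
      rw [Matrix.mul_apply]
      simp only [transpose_apply, RingHom.mapMatrix_apply, map_apply]
      rw [h, Matrix.one_apply]
      simp [Pi.single_apply, eq_comm]
    have h2 := congrArg det h1
    rw [det_mul, det_transpose, ← RingHom.map_det, det_one] at h2
    exact h2
  have hν : (G.det)⁻¹ * σ (G.det)⁻¹ = 1 := by
    rw [map_inv₀, ← mul_inv, hnorm, inv_one]
  obtain ⟨μ, hμ1, hμ2⟩ := exists_sqrt_norm_one hF σ hσq _ hν
  have hf11 : B (f (Sum.inl ⟨0, hr1⟩)) (f (Sum.inl ⟨0, hr1⟩)) = 0 := by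
    rw [hgram']; rfl
  have hf1N : B (f (Sum.inl ⟨0, hr1⟩)) ((A' - 1).mulVecLin (f (Sum.inl ⟨0, hr1⟩))) = 1 := by
    rw [hNf1, hgram']; simp [stdGram]
  obtain ⟨z, hzdet, hzB, hzN⟩ := exists_centralizing_isometry σ B hS (A' - 1).mulVecLin hN2' hadj'
    (f (Sum.inl ⟨0, hr1⟩)) hf11 hf1N μ hμ1
  obtain ⟨Z, hZdef⟩ : ∃ Z : Matrix (Fin n) (Fin n) F, Z = LinearMap.toMatrix' z := ⟨_, rfl⟩
  have hZmul : ∀ x, Z *ᵥ x = z x := fun x => by rw [hZdef, LinearMap.toMatrix'_mulVec]
  refine ⟨Z * G, ?_, ?_, ?_⟩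
  · rw [det_mul, hZdef, LinearMap.det_toMatrix', hzdet, hμ2, inv_mul_cancel₀ hdet0]
  · intro u v
    rw [← mulVec_mulVec, ← mulVec_mulVec, ← hBh, hZmul, hZmul, hzB, hGB, hBh]
  · have e1 : G * (A - 1) = (A' - 1) * G := by
      have hcomp : g ∘ₗ (A - 1).mulVecLin = (A' - 1).mulVecLin ∘ₗ g := LinearMap.ext hg2
      have := congrArg LinearMap.toMatrix' hcomp
      rw [LinearMap.toMatrix'_comp, LinearMap.toMatrix'_comp, ← Matrix.toLin'_apply',
        ← Matrix.toLin'_apply', LinearMap.toMatrix'_toLin', LinearMap.toMatrix'_toLin',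
        ← hGdef] at this
      exact this
    have e2 : Z * (A' - 1) = (A' - 1) * Z := by
      have hcomp : z ∘ₗ (A' - 1).mulVecLin = (A' - 1).mulVecLin ∘ₗ z := LinearMap.ext hzN
      have := congrArg LinearMap.toMatrix' hcomp
      rw [LinearMap.toMatrix'_comp, LinearMap.toMatrix'_comp, ← Matrix.toLin'_apply',
        LinearMap.toMatrix'_toLin', ← hZdef] at this
      exact this
    have e3 : (Z * G) * (A - 1) = (A' - 1) * (Z * G) := by
      rw [Matrix.mul_assoc, e1, ← Matrix.mul_assoc, e2, Matrix.mul_assoc]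
    have e4 : A = (A - 1) + 1 := by rw [sub_add_cancel]
    have e5 : A' = (A' - 1) + 1 := by rw [sub_add_cancel]
    rw [e4, e5, Matrix.mul_add, Matrix.add_mul, e3, Matrix.mul_one, Matrix.one_mul]

end

/-- Conjugacy of involutions in the special unitary group SU_n(q), q even, n ≥ 3, realised over the field F with q² elements as the matrices of determinant 1 preserving the form Σ u_i v_i^q: for two elements of order 2 of SU_n(q) the following are equivalent — they are conjugate in SU_n(q); they are conjugate in SL_n(F); the matrices a − 1 and b − 1 have the same rank. -/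
theorem result {F : Type*} [Field F] [Fintype F] [CharP F 2] {n q : ℕ} (hF : Fintype.card F = q ^ 2) (hn : 3 ≤ n) (a b : ↥(Cfsg.SU n F q)) (ha : orderOf a = 2) (hb : orderOf b = 2) :
    (IsConj a b ↔ IsConj (a : Matrix.SpecialLinearGroup (Fin n) F) (b : Matrix.SpecialLinearGroup (Fin n) F)) ∧
    (IsConj a b ↔ (((a : Matrix.SpecialLinearGroup (Fin n) F) : Matrix (Fin n) (Fin n) F) - 1).rank = (((b : Matrix.SpecialLinearGroup (Fin n) F) : Matrix (Fin n) (Fin n) F) - 1).rank) := by
  have hAA : ∀ c : ↥(Cfsg.SU n F q), orderOf c = 2 →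
      ((c : Matrix.SpecialLinearGroup (Fin n) F) : Matrix (Fin n) (Fin n) F) *
        ((c : Matrix.SpecialLinearGroup (Fin n) F) : Matrix (Fin n) (Fin n) F) = 1 := by
    intro c hc
    have h2 : c ^ 2 = 1 := by rw [← hc]; exact pow_orderOf_eq_one c
    have := congrArg (fun x : ↥(Cfsg.SU n F q) =>
      ((x : Matrix.SpecialLinearGroup (Fin n) F) : Matrix (Fin n) (Fin n) F)) h2
    simpa [pow_two] using this
  have hpres : ∀ c : ↥(Cfsg.SU n F q), ∀ u v,
      hermForm n F q (((c : Matrix.SpecialLinearGroup (Fin n) F) : Matrix (Fin n) (Fin n) F) *ᵥ u)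
        (((c : Matrix.SpecialLinearGroup (Fin n) F) : Matrix (Fin n) (Fin n) F) *ᵥ v) =
        hermForm n F q u v := fun c => c.2
  have hoa : orderOf (a : Matrix.SpecialLinearGroup (Fin n) F) = 2 := by
    rw [Subgroup.orderOf_coe]; exact ha
  have hob : orderOf (b : Matrix.SpecialLinearGroup (Fin n) F) = 2 := by
    rw [Subgroup.orderOf_coe]; exact hb
  have h2162 := Cfsg.Agent.S2162.result hn (a : Matrix.SpecialLinearGroup (Fin n) F)
    (b : Matrix.SpecialLinearGroup (Fin n) F) hoa hob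
  have hkey : (((a : Matrix.SpecialLinearGroup (Fin n) F) : Matrix (Fin n) (Fin n) F) - 1).rank =
      (((b : Matrix.SpecialLinearGroup (Fin n) F) : Matrix (Fin n) (Fin n) F) - 1).rank →
      IsConj a b := by
    intro hrank
    have hne : ((a : Matrix.SpecialLinearGroup (Fin n) F) : Matrix (Fin n) (Fin n) F) ≠ 1 := by
      intro h1
      have h2 : a = 1 := by
        apply Subtype.ext
        apply Subtype.ext
        rw [h1]
        rfl
      rw [h2, orderOf_one] at ha
      omega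
    obtain ⟨G, hGdet, hGpres, hGconj⟩ := exists_conj_matrix hF _ _ (hAA a ha) (hAA b hb)
      (hpres a) (hpres b) hne hrank
    let c0 : Matrix.SpecialLinearGroup (Fin n) F := ⟨G, hGdet⟩
    have hc0 : c0 ∈ Cfsg.SU n F q := by
      intro u v
      exact hGpres u v
    let c : ↥(Cfsg.SU n F q) := ⟨c0, hc0⟩
    rw [isConj_iff]
    refine ⟨c, ?_⟩
    rw [mul_inv_eq_iff_eq_mul]
    apply Subtype.ext
    apply Subtype.ext
    simp only [Subgroup.coe_mul, Matrix.SpecialLinearGroup.coe_mul]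
    exact hGconj
  have hsub : IsConj a b → IsConj (a : Matrix.SpecialLinearGroup (Fin n) F)
      (b : Matrix.SpecialLinearGroup (Fin n) F) := by
    intro h
    obtain ⟨c, hc⟩ := isConj_iff.mp h
    rw [isConj_iff]
    refine ⟨(c : Matrix.SpecialLinearGroup (Fin n) F), ?_⟩
    rw [← hc]
    simp
  constructor
  · exact ⟨hsub, fun h => hkey (h2162.mp h)⟩
  · exact ⟨fun h => h2162.mp (hsub h), hkey⟩

end Cfsg.Agent.S2164
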