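import Cfsg.Statements.S2165
-- import your own Cfsg.Agent.* helpers here

set_option autoImplicit false
open Cfsg

namespace Cfsg.Agent.S2165

/-- The swapping involution on indices. -/
def swapFun (n ℓ : ℕ) (h2 : 2 * ℓ ≤ n) (i : Fin n) : Fin n :=
  if h : i.val < ℓ then ⟨i.val + (n - ℓ), by omega⟩
  else if h' : n - ℓ ≤ i.val then ⟨i.val - (n - ℓ), by omega⟩
  else i

theorem swapFun_val (n ℓ : ℕ) (h2 : 2 * ℓ ≤ n) (i : Fin n) :
    (swapFun n ℓ h2 i).val = if i.val < ℓ then i.val + (n - ℓ) else if n - ℓ ≤ i.val then i.val - (n - ℓ) else i.val := by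
  unfold swapFun
  split_ifs <;> rfl

theorem swapFun_invol (n ℓ : ℕ) (h2 : 2 * ℓ ≤ n) : Function.Involutive (swapFun n ℓ h2) := by
  intro i
  apply Fin.ext
  rw [swapFun_val, swapFun_val]
  have := i.isLt
  split_ifs <;> omega

/-- The swapping permutation. -/
def swapPerm (n ℓ : ℕ) (h2 : 2 * ℓ ≤ n) : Equiv.Perm (Fin n) := (swapFun_invol n ℓ h2).toPerm

theorem swapPerm_val (n ℓ : ℕ) (h2 : 2 * ℓ ≤ n) (i : Fin n) :
    (swapPerm n ℓ h2 i).val = if i.val < ℓ then i.val + (n - ℓ) else if n - ℓ ≤ i.val then i.val - (n - ℓ) else i.val :=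
  swapFun_val n ℓ h2 i

theorem swapPerm_mul_self (n ℓ : ℕ) (h2 : 2 * ℓ ≤ n) : swapPerm n ℓ h2 * swapPerm n ℓ h2 = 1 := by
  ext i
  simp only [Equiv.Perm.coe_mul, Function.comp_apply, Equiv.Perm.coe_one, id_eq]
  exact congrArg Fin.val (swapFun_invol n ℓ h2 i)

/-- The matrix in the statement. -/
def pMat (F : Type*) [Field F] (n ℓ : ℕ) : Matrix (Fin n) (Fin n) F :=
  Matrix.of (fun i j : Fin n => if (j.val < ℓ ∧ i.val = j.val + (n - ℓ)) ∨ (i.val < ℓ ∧ j.val = i.val + (n - ℓ)) ∨ (i = j ∧ ℓ ≤ i.val ∧ i.val < n - ℓ) then (1 : F) else 0)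

theorem pMat_eq (F : Type*) [Field F] (n ℓ : ℕ) (h2 : 2 * ℓ ≤ n) :
    pMat F n ℓ = (swapPerm n ℓ h2).permMatrix F := by
  ext i j
  simp only [pMat, Matrix.of_apply, Equiv.Perm.permMatrix, PEquiv.toMatrix_apply, Equiv.toPEquiv_apply,
    Option.mem_def, Option.some.injEq]
  have hi := i.isLt
  have hj := j.isLt
  have hiff : ((j.val < ℓ ∧ i.val = j.val + (n - ℓ)) ∨ (i.val < ℓ ∧ j.val = i.val + (n - ℓ)) ∨ (i = j ∧ ℓ ≤ i.val ∧ i.val < n - ℓ)) ↔ swapPerm n ℓ h2 i = j := by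
    have h3 : (swapPerm n ℓ h2 i = j) ↔ (swapPerm n ℓ h2 i).val = j.val := Fin.ext_iff
    have h4 : i = j ↔ i.val = j.val := Fin.ext_iff
    rw [h3, h4, swapPerm_val]
    split_ifs <;> omega
  simp only [hiff]

theorem det_pMat (F : Type*) [Field F] [CharP F 2] (n ℓ : ℕ) (h2 : 2 * ℓ ≤ n) :
    (pMat F n ℓ).det = 1 := by
  rw [pMat_eq F n ℓ h2, Matrix.det_permutation]
  rcases Int.units_eq_one_or (Equiv.Perm.sign (swapPerm n ℓ h2)) with h | h
  · rw [h]; simp
  · rw [h]; simp [CharTwo.neg_eq]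

theorem pMat_mulVec (F : Type*) [Field F] (n ℓ : ℕ) (h2 : 2 * ℓ ≤ n) (v : Fin n → F) :
    Matrix.mulVec (pMat F n ℓ) v = v ∘ swapPerm n ℓ h2 := by
  rw [pMat_eq F n ℓ h2, Matrix.permMatrix_mulVec]

theorem pMat_mul_self (F : Type*) [Field F] (n ℓ : ℕ) (h2 : 2 * ℓ ≤ n) :
    pMat F n ℓ * pMat F n ℓ = 1 := by
  rw [pMat_eq F n ℓ h2, ← Matrix.permMatrix_mul, swapPerm_mul_self, Matrix.permMatrix_one]

theorem sum_ind (F : Type*) [Field F] (ℓ a b i j : ℕ) :
    (∑ k : Fin ℓ, (if i = k.val + a then (1 : F) else 0) * (if j = k.val + b then (1 : F) else 0)) =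
      if (a ≤ i ∧ i - a < ℓ ∧ j + a = i + b) then 1 else 0 := by
  by_cases h : a ≤ i ∧ i - a < ℓ ∧ j + a = i + b
  · rw [if_pos h]
    obtain ⟨h1, h2, h3⟩ := h
    rw [Finset.sum_eq_single (⟨i - a, h2⟩ : Fin ℓ)]
    · have e1 : i = i - a + a := by omega
      have e2 : j = i - a + b := by omega
      simp only [← e1, ← e2, if_true, mul_one]
    · intro k _ hk
      have : ¬ (i = k.val + a) := fun h => hk (Fin.ext (by simp only []; omega))
      rw [if_neg this, zero_mul]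
    · intro h; exact absurd (Finset.mem_univ _) h
  · rw [if_neg h]
    apply Finset.sum_eq_zero
    intro k _
    by_cases h1 : i = k.val + a
    · have : ¬ (j = k.val + b) := by
        intro h2
        apply h
        have := k.isLt
        omega
      rw [if_neg this, mul_zero]
    · rw [if_neg h1, zero_mul]

/-- The factor. -/
def cMat (F : Type*) [Field F] (n ℓ : ℕ) : Matrix (Fin n) (Fin ℓ) F :=
  Matrix.of (fun (i : Fin n) (k : Fin ℓ) => (if i.val = k.val + 0 then (1 : F) else 0) + (if i.val = k.val + (n - ℓ) then (1 : F) else 0))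

theorem pMat_sub_one_eq (F : Type*) [Field F] [CharP F 2] (n ℓ : ℕ) (h2 : 2 * ℓ ≤ n) :
    pMat F n ℓ - 1 = cMat F n ℓ * (cMat F n ℓ).transpose := by
  ext i j
  simp only [cMat, Matrix.mul_apply, Matrix.of_apply, Matrix.transpose_apply, add_mul, mul_add,
    Finset.sum_add_distrib, sum_ind]
  simp only [pMat, Matrix.sub_apply, Matrix.of_apply, Matrix.one_apply]
  have hi := i.isLt
  have hj := j.isLt
  have h4 : i = j ↔ i.val = j.val := Fin.ext_iff
  simp only [h4]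
  have h11 : (1 : F) + 1 = 0 := CharTwo.add_self_eq_zero 1
  split_ifs <;> first | (exfalso; omega) | simp [CharTwo.sub_eq_add]

theorem rank_pMat_sub_one (F : Type*) [Field F] [CharP F 2] (n ℓ : ℕ) (h2 : 2 * ℓ ≤ n) :
    (pMat F n ℓ - 1).rank = ℓ := by
  apply le_antisymm
  · rw [pMat_sub_one_eq F n ℓ h2]
    exact (Matrix.rank_mul_le_left _ _).trans (Matrix.rank_le_width _)
  · have hle : ℓ ≤ n := by omega
    have h1 : (pMat F n ℓ - 1).submatrix (Fin.castLE hle) (Fin.castLE hle) = 1 := by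
      ext k k'
      simp only [pMat, Matrix.submatrix_apply, Matrix.sub_apply, Matrix.of_apply, Matrix.one_apply]
      have hk := k.isLt
      have hk' := k'.isLt
      have h4 : (Fin.castLE hle k = Fin.castLE hle k') ↔ k = k' := by
        rw [Fin.ext_iff, Fin.ext_iff]; simp
      simp only [h4, Fin.val_castLE]
      have : ¬ ((k'.val < ℓ ∧ k.val = k'.val + (n - ℓ)) ∨ (k.val < ℓ ∧ k'.val = k.val + (n - ℓ)) ∨ (k = k' ∧ ℓ ≤ k.val ∧ k.val < n - ℓ)) := by
        omega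
      rw [if_neg this]
      simp [CharTwo.sub_eq_add]
    calc ℓ = (1 : Matrix (Fin ℓ) (Fin ℓ) F).rank := by rw [Matrix.rank_one]; simp
      _ = ((pMat F n ℓ - 1).submatrix (Fin.castLE hle) (Fin.castLE hle)).rank := by rw [h1]
      _ ≤ (pMat F n ℓ - 1).rank := Matrix.rank_submatrix_le _ _ _

theorem pMat_ne_one (F : Type*) [Field F] [CharP F 2] (n ℓ : ℕ) (h1 : 1 ≤ ℓ) (h2 : 2 * ℓ ≤ n) :
    pMat F n ℓ ≠ 1 := by
  intro h
  have hr := rank_pMat_sub_one F n ℓ h2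
  rw [h, sub_self, Matrix.rank_zero] at hr
  omega

/-- In SU_n(q), q even, n ≥ 3 (matrices of determinant 1 over the field with q² elements preserving Σ u_i v_i^q): for every ℓ with 1 ≤ ℓ and 2ℓ ≤ n, the permutation matrix of the involution of {0, …, n−1} exchanging i and n − ℓ + i for each i < ℓ lies in SU_n(q), has order 2, and differs from the identity by a matrix of rank ℓ. So every rank between 1 and n/2 occurs for involutions of SU_n(q). -/
theorem result {F : Type*} [Field F] [Fintype F] [CharP F 2] {n q : ℕ} (hF : Fintype.card F = q ^ 2) (hn : 3 ≤ n) (ℓ : ℕ) (h1 : 1 ≤ ℓ) (h2 : 2 * ℓ ≤ n) :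
    ∃ a : ↥(Cfsg.SU n F q), (((a : Matrix.SpecialLinearGroup (Fin n) F) : Matrix (Fin n) (Fin n) F) = Matrix.of (fun i j : Fin n => if (j.val < ℓ ∧ i.val = j.val + (n - ℓ)) ∨ (i.val < ℓ ∧ j.val = i.val + (n - ℓ)) ∨ (i = j ∧ ℓ ≤ i.val ∧ i.val < n - ℓ) then (1 : F) else 0)) ∧ orderOf a = 2 ∧ ((((a : Matrix.SpecialLinearGroup (Fin n) F) : Matrix (Fin n) (Fin n) F)) - 1).rank = ℓ := by
  let a0 : Matrix.SpecialLinearGroup (Fin n) F := ⟨pMat F n ℓ, det_pMat F n ℓ h2⟩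
  have ha0 : (a0 : Matrix (Fin n) (Fin n) F) = pMat F n ℓ := rfl
  have hmem : a0 ∈ Cfsg.SU n F q := by
    intro u v
    show hermForm n F q (Matrix.mulVec (a0 : Matrix (Fin n) (Fin n) F) u) (Matrix.mulVec (a0 : Matrix (Fin n) (Fin n) F) v) = hermForm n F q u v
    rw [ha0, pMat_mulVec F n ℓ h2, pMat_mulVec F n ℓ h2]
    unfold hermForm
    exact Equiv.sum_comp (swapPerm n ℓ h2) (fun i => u i * v i ^ q)
  let a : ↥(Cfsg.SU n F q) := ⟨a0, hmem⟩
  have ha : ((a : Matrix.SpecialLinearGroup (Fin n) F) : Matrix (Fin n) (Fin n) F) = pMat F n ℓ := rfl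
  refine ⟨a, rfl, ?_, ?_⟩
  · have : Fact (Nat.Prime 2) := ⟨Nat.prime_two⟩
    apply orderOf_eq_prime
    · apply Subtype.ext
      apply Matrix.SpecialLinearGroup.ext
      intro i j
      rw [Subgroup.coe_pow, Subgroup.coe_one, Matrix.SpecialLinearGroup.coe_pow, Matrix.SpecialLinearGroup.coe_one, pow_two, ha,
        pMat_mul_self F n ℓ h2]
    · intro h
      apply pMat_ne_one F n ℓ h1 h2
      rw [← ha, h]
      rfl
  · rw [ha]
    exact rank_pMat_sub_one F n ℓ h2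

end Cfsg.Agent.S2165
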