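import Cfsg.Statements.S2171
import Cfsg.Agent.S2170
import Cfsg.Agent.Lib.Helper36.DicksonMatrix

set_option autoImplicit false
open Cfsg

namespace Cfsg.Agent.S2171

open Cfsg.Agent.Lib.Helper36

/-- For the quadratic form Σ x_i y_i + (z₁² + c z₁ z₂ + d z₂²) in dimension 2m with anisotropic binary part over a finite field F of characteristic two, m ≥ 4 (minus type): an element of order 2 of the full isometry group O lies in the commutator subgroup Ω of O exactly when t − 1 has even rank. -/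
theorem result {F : Type*} [Field F] [Fintype F] [CharP F 2] {m : ℕ} (hm : 4 ≤ m) (c d : F) (hcd : ∀ z₁ z₂ : F, z₁ ^ 2 + c * z₁ * z₂ + d * z₂ ^ 2 = 0 → z₁ = 0 ∧ z₂ = 0) (t : ↥(Cfsg.isometryGroup F (Cfsg.quadFormMinus (m - 1) F c d))) (ht : orderOf t = 2) :
    t ∈ Cfsg.Omega F (Cfsg.quadFormMinus (m - 1) F c d) ↔ Even ((((t : ↥(Cfsg.isometryGroup F (Cfsg.quadFormMinus (m - 1) F c d))) : GL ((Fin (m - 1) ⊕ Fin (m - 1)) ⊕ Fin 2) F) : Matrix ((Fin (m - 1) ⊕ Fin (m - 1)) ⊕ Fin 2) ((Fin (m - 1) ⊕ Fin (m - 1)) ⊕ Fin 2) F) - 1).rank := by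
  have hsq : ∀ a : F, IsSquare a := fun a => FiniteField.isSquare_of_char_two (ringChar.eq F 2) a
  have hc : c ≠ 0 := by
    intro h0
    obtain ⟨r, hr⟩ := hsq d
    have h := hcd r 1
    rw [h0, hr] at h
    have h1 : r ^ 2 + 0 * r * 1 + r * r * 1 ^ 2 = 0 := by
      have : r ^ 2 + 0 * r * 1 + r * r * 1 ^ 2 = r * r + r * r := by ring
      rw [this]
      exact CharTwo.add_self_eq_zero _
    exact one_ne_zero (h h1).2
  have hcard : Fintype.card ((Fin (m - 1) ⊕ Fin (m - 1)) ⊕ Fin 2) ≠ 4 := by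
    rw [Fintype.card_sum, Fintype.card_sum, Fintype.card_fin, Fintype.card_fin]
    omega
  exact mem_Omega_iff_even_rank (Cfsg.Agent.S2170.minusQF (m - 1) F c d)
    (Cfsg.Agent.S2170.minusQF_nondeg (m - 1) F c d hc) (Or.inr hcard) hsq t

end Cfsg.Agent.S2171
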