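import Cfsg.Statements.S2177
-- import your own Cfsg.Agent.* helpers here
import Cfsg.Agent.Lib.Helper61.ChevJ.G2Inv3

set_option autoImplicit false
open Cfsg

namespace Cfsg.Agent.S2177

/-- Conjugacy classes of involutions in the Chevalley group of type G₂ over a finite field F of characteristic two with at least four elements (the matrix group generated by the root elements x_r(t)). In this problem's root numbering for type G₂ (the Chevalley data module; p₁ = a short, p₂ = b long; roots indexed by coefficient vectors in increasing order) let 11 be the highest root 3a + 2b (long) and 9 the short root 2a + b; consider x_{3a+2b}(1) and x_{2a+b}(1). Then: each invertible matrix equal to one of these two products lies in the group and has order 2; every element of order 2 of the group is conjugate in the group to one of them; and no two of them are conjugate in the group (so, the two matrices being distinct, the group has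 exactly two conjugacy classes of involutions). -/
theorem result {F : Type*} [Field F] [Fintype F] [CharP F 2] (hF : 4 ≤ Fintype.card F) :
    (∀ y : GL Cfsg.Lie.chevG2.Idx F, ((y : GL Cfsg.Lie.chevG2.Idx F) : Matrix Cfsg.Lie.chevG2.Idx Cfsg.Lie.chevG2.Idx F) ∈ [Cfsg.Lie.chevG2.x F 11 1, Cfsg.Lie.chevG2.x F 9 1] → y ∈ Cfsg.Lie.chevG2.group F ∧ orderOf y = 2) ∧
    (∀ g ∈ Cfsg.Lie.chevG2.group F, orderOf g = 2 → ∃ y ∈ Cfsg.Lie.chevG2.group F, ((y : GL Cfsg.Lie.chevG2.Idx F) : Matrix Cfsg.Lie.chevG2.Idx Cfsg.Lie.chevG2.Idx F) ∈ [Cfsg.Lie.chevG2.x F 11 1, Cfsg.Lie.chevG2.x F 9 1] ∧ ∃ h ∈ Cfsg.Lie.chevG2.group F, h * g * h⁻¹ = y) ∧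
    (∀ y₁ ∈ Cfsg.Lie.chevG2.group F, ∀ y₂ ∈ Cfsg.Lie.chevG2.group F, ((y₁ : GL Cfsg.Lie.chevG2.Idx F) : Matrix Cfsg.Lie.chevG2.Idx Cfsg.Lie.chevG2.Idx F) ∈ [Cfsg.Lie.chevG2.x F 11 1, Cfsg.Lie.chevG2.x F 9 1] → ((y₂ : GL Cfsg.Lie.chevG2.Idx F) : Matrix Cfsg.Lie.chevG2.Idx Cfsg.Lie.chevG2.Idx F) ∈ [Cfsg.Lie.chevG2.x F 11 1, Cfsg.Lie.chevG2.x F 9 1] →
      (∃ h ∈ Cfsg.Lie.chevG2.group F, h * y₁ * h⁻¹ = y₂) → ((y₁ : GL Cfsg.Lie.chevG2.Idx F) : Matrix Cfsg.Lie.chevG2.Idx Cfsg.Lie.chevG2.Idx F) = ((y₂ : GL Cfsg.Lie.chevG2.Idx F) : Matrix Cfsg.Lie.chevG2.Idx Cfsg.Lie.chevG2.Idx F)) := by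
  open Cfsg.Lie Cfsg.Agent.Lib.Helper18 Cfsg.Agent.Lib.Helper91.HighRoot Cfsg.Agent.Lib.Helper61.ChevJ.G2Short
    Cfsg.Agent.Lib.Helper61.ChevJ.G2Char2 in
  refine ⟨?_, ?_, ?_⟩
  · intro y hy
    simp only [List.mem_cons, List.not_mem_nil, or_false] at hy
    rcases hy with hy | hy
    · rw [eq_xG hG2 y 11 1 hy]
      exact ⟨xG_mem_group' hG2 11 (by decide) 1, orderOf_xG_one 11 (by norm_num)⟩
    · rw [eq_xG hG2 y 9 1 hy]
      exact ⟨xG_mem_group' hG2 9 (by decide) 1, orderOf_xG_one 9 (by norm_num)⟩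
  · intro g hg ho
    rcases invol_conj g hg ho with h | h
    · obtain ⟨k, hk, e⟩ := h
      exact ⟨xG hG2 11 1, xG_mem_group' hG2 11 (by decide) 1, by rw [coe_xG]; simp, k, hk, e⟩
    · obtain ⟨k, hk, e⟩ := h
      exact ⟨xG hG2 9 1, xG_mem_group' hG2 9 (by decide) 1, by rw [coe_xG]; simp, k, hk, e⟩
  · intro y₁ _ y₂ _ h1 h2 hc
    simp only [List.mem_cons, List.not_mem_nil, or_false] at h1 h2
    rcases h1 with h1 | h1 <;> rcases h2 with h2 | h2
    · rw [h1, h2]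
    · exfalso
      rw [eq_xG hG2 y₁ 11 1 h1, eq_xG hG2 y₂ 9 1 h2] at hc
      exact not_gconj hc
    · exfalso
      rw [eq_xG hG2 y₁ 9 1 h1, eq_xG hG2 y₂ 11 1 h2] at hc
      exact not_gconj (GConj.symm hc)
    · rw [h1, h2]

end Cfsg.Agent.S2177
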