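import Cfsg.Statements.S2178
-- import your own Cfsg.Agent.* helpers here
import Cfsg.Agent.Lib.Helper91.HighRoot

set_option autoImplicit false
open Cfsg

namespace Cfsg.Agent.S2178

open Cfsg.Lie in
/-- `U ⊔ X_a ⊔ X_b ⊔ X_c` is generated by `U` and the root elements of `a`, `b`, `c`. -/
theorem sup_rootSubgroup_eq {F : Type*} [Field F] (D : ChevalleyDatum) (a b c : ℕ) :
    D.posUnipotent F ⊔ D.rootSubgroup F a ⊔ D.rootSubgroup F b ⊔ D.rootSubgroup F c
      = D.posUnipotent F ⊔ Subgroup.closure {g : GL D.Idx F | ∃ s ∈ [a, b, c], ∃ t : F,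
          (g : Matrix D.Idx D.Idx F) = D.x F s t} := by
  have e : {g : GL D.Idx F | ∃ s ∈ [a, b, c], ∃ t : F, (g : Matrix D.Idx D.Idx F) = D.x F s t}
      = {g : GL D.Idx F | ∃ t : F, (g : Matrix D.Idx D.Idx F) = D.x F a t}
        ∪ {g : GL D.Idx F | ∃ t : F, (g : Matrix D.Idx D.Idx F) = D.x F b t}
        ∪ {g : GL D.Idx F | ∃ t : F, (g : Matrix D.Idx D.Idx F) = D.x F c t} := by
    ext g
    simp only [List.mem_cons, List.not_mem_nil, or_false, Set.mem_ofPred_eq, Set.mem_union]
    constructor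
    · rintro ⟨s, rfl | rfl | rfl, t, ht⟩
      · exact Or.inl (Or.inl ⟨t, ht⟩)
      · exact Or.inl (Or.inr ⟨t, ht⟩)
      · exact Or.inr ⟨t, ht⟩
    · rintro ((⟨t, ht⟩ | ⟨t, ht⟩) | ⟨t, ht⟩)
      · exact ⟨a, Or.inl rfl, t, ht⟩
      · exact ⟨b, Or.inr (Or.inl rfl), t, ht⟩
      · exact ⟨c, Or.inr (Or.inr rfl), t, ht⟩
  rw [e, Subgroup.closure_union, Subgroup.closure_union]
  unfold ChevalleyDatum.rootSubgroup
  rw [sup_assoc, sup_assoc, sup_assoc]

/-- Centralizers of the long and the short root involutions in the Chevalley group G of type F₄ over a finite field F of characteristic two (this problem's root numbering for type F₄, from the Chevalley data module: fundamental roots p₁, p₂ short, p₃, p₄ long, with indices 33, 27, 25, 24, their negatives 14, 20, 22, 23; highest root 47, highest short root 44; U the subgroup generated by the positive root subgroups). For an element t of G with matrix x_47(1): the centralizer of t in G is the subgroup generated by U and the root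 subgroups X_{−p₁}, X_{−p₂}, X_{−p₃} (the unipotent radical of the maximal parabolic subgroup whose Levi factor has fundamental roots p₁, p₂, p₃, together with that Levi factor's root subgroups; the Levi factor is of type C₃). For an element u of G with matrix x_44(1): the centralizer of u in G is generated by U and X_{−p₂}, X_{−p₃}, X_{−p₄} (the same construction for the Levi factor with fundamental roots p₂, p₃, p₄, of type B₃). -/
theorem result {F : Type*} [Field F] [Fintype F] [CharP F 2] (t u : GL Cfsg.Lie.chevF4.Idx F) (ht : (t : Matrix Cfsg.Lie.chevF4.Idx Cfsg.Lie.chevF4.Idx F) = Cfsg.Lie.chevF4.x F 47 1) (hu : (u : Matrix Cfsg.Lie.chevF4.Idx Cfsg.Lie.chevF4.Idx F) = Cfsg.Lie.chevF4.x F 44 1) :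
    Cfsg.Lie.chevF4.group F ⊓ Subgroup.centralizer {t} = Cfsg.Lie.chevF4.posUnipotent F ⊔ Cfsg.Lie.chevF4.rootSubgroup F 14 ⊔ Cfsg.Lie.chevF4.rootSubgroup F 20 ⊔ Cfsg.Lie.chevF4.rootSubgroup F 22 ∧
    Cfsg.Lie.chevF4.group F ⊓ Subgroup.centralizer {u} = Cfsg.Lie.chevF4.posUnipotent F ⊔ Cfsg.Lie.chevF4.rootSubgroup F 20 ⊔ Cfsg.Lie.chevF4.rootSubgroup F 22 ⊔ Cfsg.Lie.chevF4.rootSubgroup F 23 := by
  have h2 : ((2 : ℕ) : F) = 0 := CharP.cast_eq_zero F 2
  rw [sup_rootSubgroup_eq, sup_rootSubgroup_eq]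
  exact ⟨Cfsg.Agent.Lib.Helper91.HighRoot.inf_centralizer_eq (by simp)
      Cfsg.Agent.Lib.Helper91.HighRoot.dataF4long Nat.cast_zero t ht,
    Cfsg.Agent.Lib.Helper91.HighRoot.inf_centralizer_eq (by simp)
      Cfsg.Agent.Lib.Helper91.HighRoot.dataF4short h2 u hu⟩

end Cfsg.Agent.S2178
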