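-- Statement S2221: direct (in)decomposability of the Sylow 2-subgroups of the alternating groups.
import Cfsg.Statements.S2221
import Cfsg.Agent.Lib.Helper71.SylAltDefs
import Cfsg.Agent.Lib.Helper73.SylAltArith
import Cfsg.Agent.Lib.Helper73.SylAltTransfer
import Cfsg.Agent.Lib.Helper83.SylAltGlobalEx
import Cfsg.Agent.Lib.Helper83.SylAltProdIso
import Cfsg.Agent.Lib.Helper71.SylAltOdd
import Cfsg.Agent.Lib.Helper71.SylAltCenter
import Cfsg.Agent.Lib.Helper71.SylAltGood
import Cfsg.Agent.Lib.Helper49.SylAltNiceBasic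
import Cfsg.Agent.Lib.Helper34.SylAltNiceV4
import Cfsg.Agent.Lib.Helper34.SylAltAGC2
import Cfsg.Agent.Lib.Helper68.SylAltAGBasic
import Cfsg.Agent.Lib.Helper88.SylAltAGIndec

set_option autoImplicit false
open Cfsg

namespace Cfsg.Agent.S2221

open Equiv
open Cfsg.Agent.Lib.Helper71.SylAlt
open Cfsg.Agent.Lib.Helper73.SylAlt (exists_bits sum_two_pow_eq_two_pow sylow_alt_equiv)
open Cfsg.Agent.Lib.Helper83.SylAlt (exists_components prod_iso)
open Cfsg.Agent.Lib.Helper71.SylAltGood (nice_goodComp nice_ev_not_decomp)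
open Cfsg.Agent.Lib.Helper49.SylAlt (nice_suppOn nice_card nice_isPGroup)
open Cfsg.Agent.Lib.Helper34.SylAlt (nice_two_decomp decompGroup_ker_of_c2 not_decompGroup_ker_of_c2)
open Cfsg.Agent.Lib.Helper68.SylAlt (decompGroup_congr decomp_iff_decompGroup)
open Cfsg.Agent.Lib.Helper88.SylAlt (not_decompGroup_ker)
open Cfsg.Agent.Lib.Helper71.SylAltOdd (nice_odd)
open Cfsg.Agent.Lib.Helper71.SylAltCenter (nice_center_sub)

/-- all elements of `E.erase 1` are at least `2` when `0 ∉ E` -/
private theorem two_le_of_mem_erase {E : Finset ℕ} (h0 : 0 ∉ E) {a : ℕ} (ha : a ∈ E.erase 1) :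
    2 ≤ a := by
  have h1 : a ≠ 1 := (Finset.mem_erase.mp ha).1
  have h2 : a ∈ E := (Finset.mem_erase.mp ha).2
  have h3 : a ≠ 0 := fun h => h0 (h ▸ h2)
  omega

private theorem card_two_pow_ge (a : ℕ) (ha : 1 ≤ a) : 2 ≤ 2 ^ (2 ^ a - 1) := by
  have h1 : 2 ^ 1 ≤ 2 ^ a := Nat.pow_le_pow_right (by norm_num) ha
  have h2 : 1 ≤ 2 ^ a - 1 := by omega
  calc 2 = 2 ^ 1 := by norm_num
    _ ≤ 2 ^ (2 ^ a - 1) := Nat.pow_le_pow_right (by norm_num) h2

theorem result (n : ℕ) (hn : 4 ≤ n)
    (P : Sylow 2 (alternatingGroup (Fin n))) :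
    (∃ S₁ S₂ : Subgroup (alternatingGroup (Fin n)), S₁ ≠ ⊥ ∧ S₂ ≠ ⊥ ∧
        Cfsg.IsInternalDirectProduct S₁ S₂ (P : Subgroup (alternatingGroup (Fin n)))) ↔
      (n = 4 ∨ n = 5 ∨ ((n % 4 = 2 ∨ n % 4 = 3) ∧ ∀ r : ℕ, 4 * (n / 4) ≠ 2 ^ r)) := by
  classical
  rw [decomp_iff_decompGroup]
  obtain ⟨E, h0, hsum, hval, h1, hrest⟩ := exists_bits n
  have hle : ∑ a ∈ E, 2 ^ a ≤ n := by rw [hsum]; omega
  obtain ⟨W, Z, hN, hd⟩ := exists_components n E hle
  have hS : ∀ a ∈ E, SuppOn (W a) (Z a) := fun a ha => nice_suppOn (hN a ha)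
  obtain ⟨hcard, ⟨ψ⟩⟩ := prod_iso E W Z hS hd
  have hRcard : Nat.card ↥(⨆ a ∈ E, W a) = 2 ^ padicValNat 2 (Nat.factorial n) := by
    rw [hcard, ← hval, ← Finset.prod_pow_eq_pow_sum]
    exact Finset.prod_congr rfl (fun a ha => nice_card (hN a ha))
  obtain ⟨θ⟩ := sylow_alt_equiv (by omega) (⨆ a ∈ E, W a) hRcard P
  rw [decompGroup_congr θ]
  -- the set of exponents at least 2
  have hpos : 0 < 4 * (n / 4) := by omega
  have hE'ne : (E.erase 1).Nonempty := by
    by_contra hcon
    rw [Finset.not_nonempty_iff_eq_empty] at hcon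
    rw [hcon, Finset.sum_empty] at hrest
    omega
  by_cases hone : 1 ∈ E
  · -- `n ≡ 2, 3 (mod 4)`
    have hmod : n % 4 = 2 ∨ n % 4 = 3 := h1.mp hone
    have hW1card : Nat.card ↥(W 1) = 2 := by
      rw [nice_card (hN 1 hone)]; norm_num
    have hW1odd : ∃ t : ↥(W 1), ((Perm.sign).comp (W 1).subtype) t = -1 := by
      obtain ⟨t, ht, hts⟩ := nice_odd (hN 1 hone) le_rfl
      exact ⟨⟨t, ht⟩, hts⟩
    rcases Nat.lt_or_ge 1 (E.erase 1).card with hbig | hsmall
    · -- at least two big components: decomposable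
      obtain ⟨a, ha, b, hb, hab⟩ := Finset.one_lt_card.mp hbig
      have haE : a ∈ E := (Finset.mem_erase.mp ha).2
      have hbE : b ∈ E := (Finset.mem_erase.mp hb).2
      have ha2 : 2 ≤ a := two_le_of_mem_erase h0 ha
      have hb2 : 2 ≤ b := two_le_of_mem_erase h0 hb
      have hrhs : ∀ r : ℕ, 4 * (n / 4) ≠ 2 ^ r := by
        intro r hr
        rw [← hrest] at hr
        have := sum_two_pow_eq_two_pow hr
        rw [this, Finset.card_singleton] at hbig
        omega
      have hlhs : DecompGroup ↥((⨆ a ∈ E, W a) ⊓ alternatingGroup (Fin n)) := by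
        rw [← decompGroup_congr ψ]
        have hnta : Nontrivial ↥(W a) := by
          rw [← Finite.one_lt_card_iff_nontrivial, nice_card (hN a haE)]
          exact card_two_pow_ge a (by omega)
        have hntb : Nontrivial ↥(W b) := by
          rw [← Finite.one_lt_card_iff_nontrivial, nice_card (hN b hbE)]
          exact card_two_pow_ge b (by omega)
        exact decompGroup_ker_of_c2 (fun a : E => ↥(W a.1))
          (fun a => (Perm.sign).comp (W a.1).subtype) ⟨1, hone⟩ ⟨a, haE⟩ ⟨b, hbE⟩ hW1card hW1odd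
          (by intro h; have := congrArg Subtype.val h; simp at this; omega)
          (by intro h; have := congrArg Subtype.val h; simp at this; omega)
          (by intro h; exact hab (congrArg Subtype.val h)) hnta hntb
      exact ⟨fun _ => Or.inr (Or.inr ⟨hmod, hrhs⟩), fun _ => hlhs⟩
    · -- exactly one big component: indecomposable
      have hc1 : (E.erase 1).card = 1 := by
        have := Finset.card_pos.mpr hE'ne
        omega
      obtain ⟨a, ha⟩ := Finset.card_eq_one.mp hc1
      have haE' : a ∈ E.erase 1 := by rw [ha]; exact Finset.mem_singleton_self a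
      have haE : a ∈ E := (Finset.mem_erase.mp haE').2
      have ha2 : 2 ≤ a := two_le_of_mem_erase h0 haE'
      have hall : ∀ i : E, i = ⟨1, hone⟩ ∨ i = ⟨a, haE⟩ := by
        intro i
        by_cases hi : i.1 = 1
        · left; exact Subtype.ext hi
        · right
          have : i.1 ∈ E.erase 1 := Finset.mem_erase.mpr ⟨hi, i.2⟩
          rw [ha, Finset.mem_singleton] at this
          exact Subtype.ext this
      have hlhs : ¬ DecompGroup ↥((⨆ a ∈ E, W a) ⊓ alternatingGroup (Fin n)) := by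
        rw [← decompGroup_congr ψ]
        obtain ⟨z, hz⟩ := nice_center_sub (hN a haE) (by omega)
        exact not_decompGroup_ker_of_c2 (fun a : E => ↥(W a.1))
          (fun a => (Perm.sign).comp (W a.1).subtype) ⟨1, hone⟩ ⟨a, haE⟩
          (by intro h; have := congrArg Subtype.val h; simp at this; omega) hall hW1card hW1odd
          (nice_isPGroup (hN a haE)) z hz
      have hrhs : ¬ (n = 4 ∨ n = 5 ∨ ((n % 4 = 2 ∨ n % 4 = 3) ∧ ∀ r : ℕ, 4 * (n / 4) ≠ 2 ^ r)) := by
        rintro (h | h | ⟨_, h⟩)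
        · omega
        · omega
        · apply h a
          rw [← hrest, ha, Finset.sum_singleton]
      exact ⟨fun h => absurd h hlhs, fun h => absurd h hrhs⟩
  · -- `n ≡ 0, 1 (mod 4)`
    have hmod : ¬ (n % 4 = 2 ∨ n % 4 = 3) := fun h => hone (h1.mpr h)
    have hEE : E.erase 1 = E := Finset.erase_eq_of_notMem hone
    rw [hEE] at hrest hE'ne
    have hge2 : ∀ a ∈ E, 2 ≤ a := by
      intro a ha
      have : a ∈ E.erase 1 := by rw [hEE]; exact ha
      exact two_le_of_mem_erase h0 this
    rcases Nat.lt_or_ge 1 E.card with hbig | hsmall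
    · -- at least two components, all good: indecomposable
      have hlhs : ¬ DecompGroup ↥((⨆ a ∈ E, W a) ⊓ alternatingGroup (Fin n)) := by
        rw [← decompGroup_congr ψ]
        refine not_decompGroup_ker (fun a : E => ↥(W a.1))
          (fun a => (Perm.sign).comp (W a.1).subtype)
          (fun i => nice_goodComp (hN i.1 i.2) (hge2 i.1 i.2)) ?_
        have : Fintype.card ↥E = E.card := by simp
        omega
      have hrhs : ¬ (n = 4 ∨ n = 5 ∨ ((n % 4 = 2 ∨ n % 4 = 3) ∧ ∀ r : ℕ, 4 * (n / 4) ≠ 2 ^ r)) := by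
        have h4 : n = 4 ∨ n = 5 → False := by
          intro h
          have h44 : 4 * (n / 4) = 2 ^ 2 := by rcases h with h | h <;> subst h <;> norm_num
          rw [← hrest] at h44
          have := sum_two_pow_eq_two_pow h44
          rw [this, Finset.card_singleton] at hbig
          omega
        rintro (h | h | ⟨h, _⟩)
        · exact h4 (Or.inl h)
        · exact h4 (Or.inr h)
        · exact hmod h
      exact ⟨fun h => absurd h hlhs, fun h => absurd h hrhs⟩
    · -- a single component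
      have hc1 : E.card = 1 := by
        have := Finset.card_pos.mpr hE'ne
        omega
      obtain ⟨a, ha⟩ := Finset.card_eq_one.mp hc1
      have haE : a ∈ E := by rw [ha]; exact Finset.mem_singleton_self a
      have ha2 : 2 ≤ a := hge2 a haE
      have hRW : (⨆ a ∈ E, W a) = W a := by
        rw [ha]; simp
      rw [hRW]
      have hpow : 4 * (n / 4) = 2 ^ a := by
        rw [← hrest, ha, Finset.sum_singleton]
      rcases Nat.lt_or_ge 2 a with ha3 | ha2'
      · -- `a ≥ 3`: indecomposable, `n ≥ 8`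
        have hlhs := nice_ev_not_decomp (hN a haE) (by omega : 3 ≤ a)
        have h8 : 2 ^ 3 ≤ 2 ^ a := Nat.pow_le_pow_right (by norm_num) (by omega)
        have hrhs : ¬ (n = 4 ∨ n = 5 ∨ ((n % 4 = 2 ∨ n % 4 = 3) ∧ ∀ r : ℕ, 4 * (n / 4) ≠ 2 ^ r)) := by
          rintro (h | h | ⟨h, _⟩)
          · omega
          · omega
          · exact hmod h
        exact ⟨fun h => absurd h hlhs, fun h => absurd h hrhs⟩
      · -- `a = 2`: `n = 4` or `n = 5`, decomposable
        have ha2eq : a = 2 := by omega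
        subst ha2eq
        have hlhs := nice_two_decomp (hN 2 haE)
        have hrhs : n = 4 ∨ n = 5 := by
          have : 4 * (n / 4) = 4 := by rw [hpow]; norm_num
          omega
        exact ⟨fun _ => hrhs.elim Or.inl (fun h => Or.inr (Or.inl h)), fun _ => hlhs⟩

end Cfsg.Agent.S2221
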