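import Cfsg.Statements.S4271
import Cfsg.Agent.Lib.Helper71.Pronormal

set_option autoImplicit false
open Cfsg

namespace Cfsg.Agent.S4271

open Cfsg.Agent.Lib.Helper71

/-- A subgroup containing a self-normalising Sylow `p`-subgroup is self-normalising. -/
theorem normalizer_eq_of_sylow_le {X : Type*} [Group X] [Finite X] {p : ℕ} [Fact p.Prime]
    (P : Sylow p X) (hP : Subgroup.normalizer ((P : Subgroup X) : Set X) = P) (K : Subgroup X)
    (hPK : (P : Subgroup X) ≤ K) : Subgroup.normalizer (K : Set X) = K := by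
  apply le_antisymm _ Subgroup.le_normalizer
  intro n hn
  have hcard : Nat.card (P : Subgroup X) = p ^ (Nat.card (⊤ : Subgroup X)).factorization p := by
    rw [Subgroup.card_top]; exact P.card_eq_multiplicity
  obtain ⟨b, hb, hbn⟩ := exists_mem_mul_mem_normalizer (p := p) hPK (le_top : K ≤ ⊤) hcard n hn
  rw [hP] at hbn
  have : n = b * (b⁻¹ * n) := by group
  rw [this]
  exact K.mul_mem hb (hPK hbn)

/-- If the Sylow `p`-subgroups are self-normalising, all their overgroups are pronormal. -/
theorem sylOverPronormal_of_self_normalizing {X : Type*} [Group X] [Finite X] {p : ℕ}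
    [Fact p.Prime]
    (hX : ∀ P : Sylow p X, Subgroup.normalizer ((P : Subgroup X) : Set X) = P) :
    SylOverPronormal p X := by
  rintro K ⟨P, hPK⟩ g
  obtain ⟨x, hx, hxe⟩ := good_sylow P g
  have hx' : x ∈ K ⊔ cj g K := (sup_le_sup hPK (cj_mono g hPK)) hx
  apply good_of_good_mul hx'
  apply good_of_mem_normalizer
  apply Subgroup.le_normalizer
  apply hPK
  rw [← hX P, ← cj_eq_self_iff, cj_mul, hxe, cj_inv_cj]

/-- Let p be a prime and G a finite group with a normal subgroup A such that every subgroup of A containing a Sylow p-subgroup of A is pronormal in A, and the Sylow p-subgroups of G/A are self-normalizing. Let T be a Sylow p-subgroup of A. Then every subgroup of G containing a Sylow p-subgroup of G is pronormal in G if and only if every subgroup of N_G(T)/T containing a Sylow p-subgroup of N_G(T)/T is pronormal in N_G(T)/T. (Pronormal: H and gHg⁻¹ are conjugate inside the subgroup they generate, for every g.) -/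
theorem result {G : Type*} [Group G] [Finite G] {p : ℕ} [Fact p.Prime]
    (A : Subgroup G) [A.Normal] (hA : (∀ K : Subgroup ↥A, (∃ P : Sylow p ↥A, (P : Subgroup ↥A) ≤ K) → Cfsg.IsPronormal K))
    (hQ : ∀ P : Sylow p (G ⧸ A), Subgroup.normalizer ((P : Subgroup (G ⧸ A)) : Set (G ⧸ A)) = P)
    (T : Subgroup G) (hT : ∃ P : Sylow p ↥A, (P : Subgroup ↥A).map A.subtype = T) [(T.subgroupOf (Subgroup.normalizer (T : Set G))).Normal] :
    (∀ K : Subgroup G, (∃ P : Sylow p G, (P : Subgroup G) ≤ K) → Cfsg.IsPronormal K) ↔ (∀ K : Subgroup (↥(Subgroup.normalizer (T : Set G)) ⧸ T.subgroupOf (Subgroup.normalizer (T : Set G))), (∃ P : Sylow p (↥(Subgroup.normalizer (T : Set G)) ⧸ T.subgroupOf (Subgroup.normalizer (T : Set G))), (P : Subgroup (↥(Subgroup.normalizer (T : Set G)) ⧸ T.subgroupOf (Subgroup.normalizer (T : Set G)))) ≤ K) → Cfsg.IsPronormal K) := by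
  obtain ⟨P₀, hP₀⟩ := hT
  constructor
  · intro hG
    exact sylOverPronormal_quotient_normalizer A T P₀ hP₀ hG
  · rintro hN K ⟨S, hSK⟩
    have hQ' : SylOverPronormal p (G ⧸ A) := sylOverPronormal_of_self_normalizing hQ
    have hii : ∀ K : Subgroup G, (∃ P : Sylow p G, (P : Subgroup G) ≤ K) →
        (Subgroup.normalizer (K : Set G)).map (QuotientGroup.mk' A) =
          Subgroup.normalizer ((K.map (QuotientGroup.mk' A) : Subgroup (G ⧸ A)) : Set (G ⧸ A)) := by
      rintro K ⟨S, hSK⟩
      apply le_antisymm (Subgroup.le_normalizer_map _)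
      have h1 := normalizer_eq_of_sylow_le (S.mapSurjective (QuotientGroup.mk'_surjective A))
        (hQ _) (K.map (QuotientGroup.mk' A))
        (by rw [Sylow.coe_mapSurjective]; exact Subgroup.map_mono hSK)
      rw [h1]
      exact Subgroup.map_mono Subgroup.le_normalizer
    have hTp : IsPGroup p T := by rw [← hP₀]; exact P₀.2.map _
    obtain ⟨S', hTS'⟩ := hTp.exists_le_sylow
    obtain ⟨c, hc⟩ := MulAction.exists_smul_eq G S S'
    apply isPronormal_of_cj c
    have hS'K : (S' : Subgroup G) ≤ cj c K := by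
      rw [← hc, Sylow.coe_subgroup_smul]
      exact cj_mono c hSK
    intro g
    exact good_of_criterion A hA hQ' T P₀ hP₀ hN (cj c K) S' hS'K hTS' (hii _ ⟨S', hS'K⟩) g

end Cfsg.Agent.S4271
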