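import Cfsg.Statements.S2222
import Cfsg.Agent.Lib.Helper38.SylTwoPerm
import Cfsg.Agent.S4271
-- import your own Cfsg.Agent.* helpers here

set_option autoImplicit false
open Cfsg

namespace Cfsg.Agent.S2222

open Cfsg.Agent.Lib.Helper38.SylTwoPerm Cfsg.Agent.Lib.Helper71

theorem odd_divisors_sixty (i : ℕ) (hi : i ∣ 60) (hodd : i % 2 = 1) :
    i = 1 ∨ i = 3 ∨ i = 5 ∨ i = 15 := by
  have : i ≤ 60 := Nat.le_of_dvd (by norm_num) hi
  interval_cases i <;> omega

theorem card_alt_five : Nat.card (alternatingGroup (Fin 5)) = 60 := by
  rw [nat_card_alternatingGroup]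
  simp [Nat.factorial]

/-- a simple group of order `60` has no subgroup of index `3` -/
theorem index_ne_three {G : Type*} [Group G] [Finite G] [IsSimpleGroup G]
    (hG : Nat.card G = 60) (H : Subgroup G) : H.index ≠ 3 := by
  intro h3
  have hne : H ≠ ⊤ := by
    intro h
    rw [h, Subgroup.index_top] at h3
    omega
  have hcore : H.normalCore = ⊥ := by
    rcases (H.normalCore_normal).eq_bot_or_eq_top with h | h
    · exact h
    · exact absurd (top_le_iff.mp (h ▸ H.normalCore_le)) hne
  rw [Subgroup.normalCore_eq_ker] at hcore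
  have hinj := (MonoidHom.ker_eq_bot_iff _).mp hcore
  have hdvd := Subgroup.card_dvd_of_injective _ hinj
  rw [Nat.card_perm, hG] at hdvd
  have h4 : Nat.card (G ⧸ H) = 3 := h3
  rw [h4] at hdvd
  norm_num [Nat.factorial] at hdvd

/-- subgroups of prime index are pronormal -/
theorem isPronormal_of_prime_index {G : Type*} [Group G] [Finite G] (H : Subgroup G)
    (hH : H.index.Prime) : IsPronormal H := by
  intro g
  by_cases hg : cj g H = H
  · exact good_of_mem_normalizer (cj_eq_self_iff.mp hg)
  · have hle : H ≤ H ⊔ cj g H := le_sup_left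
    have hdvd : (H ⊔ cj g H).index ∣ H.index := Subgroup.index_dvd_of_le hle
    rcases (Nat.dvd_prime hH).mp hdvd with h1 | h1
    · have htop : H ⊔ cj g H = ⊤ := Subgroup.index_eq_one.mp h1
      exact ⟨g, by rw [htop]; exact Subgroup.mem_top g, rfl⟩
    · exfalso
      apply hg
      have h2 := Subgroup.relIndex_mul_index hle
      rw [h1] at h2
      have h3 : H.relIndex (H ⊔ cj g H) = 1 := by
        have hpos : 0 < H.index := hH.pos
        exact Nat.eq_of_mul_eq_mul_right hpos (by rw [h2, one_mul])
      have h4 : H ⊔ cj g H ≤ H := Subgroup.relIndex_eq_one.mp h3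
      have h5 : cj g H ≤ H := le_sup_right.trans h4
      exact Subgroup.eq_of_le_of_card_ge h5 (by rw [card_cj])

theorem isPronormal_top {G : Type*} [Group G] : IsPronormal (⊤ : Subgroup G) := by
  intro g
  exact good_of_mem_normalizer (by rw [Subgroup.normalizer_eq_top]; exact Subgroup.mem_top g)

theorem result_five (H : Subgroup (alternatingGroup (Fin 5))) (hH : Odd H.index) :
    Cfsg.IsPronormal H := by
  have hcard := card_alt_five
  have hdvd : H.index ∣ 60 := by rw [← hcard]; exact H.index_dvd_card
  rcases odd_divisors_sixty _ hdvd (Nat.odd_iff.mp hH) with h | h | h | h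
  · rw [Subgroup.index_eq_one.mp h]
    exact isPronormal_top
  · have : IsSimpleGroup (alternatingGroup (Fin 5)) := alternatingGroup.isSimpleGroup (by simp)
    exact absurd h (index_ne_three hcard H)
  · exact isPronormal_of_prime_index H (by rw [h]; norm_num)
  · obtain ⟨P, hP⟩ := exists_sylow_le_of_odd_index H hH
    have h1 := H.card_mul_index
    rw [h, hcard] at h1
    have h2 : Nat.card H = 4 := by omega
    have h3 := (P : Subgroup (alternatingGroup (Fin 5))).card_mul_index
    rw [hcard] at h3
    have h4 : Nat.card (P : Subgroup (alternatingGroup (Fin 5))) ∣ 4 := by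
      rw [← h2]; exact Subgroup.card_dvd_of_le hP
    have h5 : ¬ 2 ∣ (P : Subgroup (alternatingGroup (Fin 5))).index := P.not_dvd_index
    have h6 : Nat.card (P : Subgroup (alternatingGroup (Fin 5))) = 4 := by
      have : Nat.card (P : Subgroup (alternatingGroup (Fin 5))) ≤ 4 :=
        Nat.le_of_dvd (by norm_num) h4
      interval_cases hh : Nat.card (P : Subgroup (alternatingGroup (Fin 5))) <;> omega
    have h7 : (P : Subgroup (alternatingGroup (Fin 5))) = H :=
      Subgroup.eq_of_le_of_card_ge hP (by rw [h2, h6])
    rw [← h7]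
    exact isPronormal_sylow P

/-- In the alternating group of degree n ≥ 5 every subgroup H of odd index is pronormal: for every element g, the subgroups H and gHg⁻¹ are conjugate by an element of the subgroup they generate. -/
theorem result (n : ℕ) (hn : 5 ≤ n)
    (H : Subgroup (alternatingGroup (Fin n))) (hH : Odd H.index) : Cfsg.IsPronormal H := by
  rcases Nat.eq_or_lt_of_le hn with h5 | h6
  · subst h5
    exact result_five H hH
  · have hself : ∀ P : Sylow 2 (alternatingGroup (Fin n)),
        Subgroup.normalizer ((P : Subgroup (alternatingGroup (Fin n))) :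
          Set (alternatingGroup (Fin n))) = P :=
      fun P => sylow_two_alt_normalizer (by rw [Nat.card_fin]; omega) P
    exact Cfsg.Agent.S4271.sylOverPronormal_of_self_normalizing hself H
      (exists_sylow_le_of_odd_index H hH)

end Cfsg.Agent.S2222
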