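import Cfsg.Statements.S2231
-- import your own Cfsg.Agent.* helpers here

set_option autoImplicit false
open Cfsg

namespace Cfsg.Agent.S2231

/-- every `p`-subgroup of `G` is commutative -/
def PAb (p : ℕ) (G : Type*) [Group G] : Prop :=
  ∀ Q : Subgroup G, IsPGroup p Q → ∀ a ∈ Q, ∀ b ∈ Q, a * b = b * a

theorem PAb.of_injective {p : ℕ} {G H : Type*} [Group G] [Group H] (f : H →* G)
    (hf : Function.Injective f) (h : PAb p G) : PAb p H := by
  intro Q hQ a ha b hb
  apply hf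
  rw [map_mul, map_mul]
  exact h (Q.map f) (hQ.map f) (f a) (Subgroup.mem_map_of_mem f ha) (f b) (Subgroup.mem_map_of_mem f hb)

theorem PAb.of_surjective {p : ℕ} [Fact p.Prime] {G H : Type*} [Group G] [Finite G] [Group H] (f : G →* H)
    (hf : Function.Surjective f) (h : PAb p G) : PAb p H := by
  intro Q hQ a ha b hb
  -- restrict f to Q.comap f → Q
  let f' : Q.comap f →* Q := f.subgroupComap Q
  have hf' : Function.Surjective f' := f.subgroupComap_surjective_of_surjective Q hf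
  let S : Sylow p (Q.comap f) := Sylow.nonempty.some
  have hS : ((S.mapSurjective hf' : Sylow p Q) : Subgroup Q) = ⊤ :=
    ((S.mapSurjective hf').3 (IsPGroup.to_subgroup hQ ⊤) le_top).symm
  rw [Sylow.coe_mapSurjective] at hS
  have ha' : (⟨a, ha⟩ : Q) ∈ (S : Subgroup (Q.comap f)).map f' := by rw [hS]; trivial
  have hb' : (⟨b, hb⟩ : Q) ∈ (S : Subgroup (Q.comap f)).map f' := by rw [hS]; trivial
  obtain ⟨s, hs, hsa⟩ := ha'
  obtain ⟨t, ht, htb⟩ := hb'
  -- S as a subgroup of G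
  have hST : IsPGroup p ((S : Subgroup (Q.comap f)).map (Q.comap f).subtype) := S.2.map _
  have hcomm := h _ hST (s : G) (Subgroup.mem_map_of_mem _ hs) (t : G) (Subgroup.mem_map_of_mem _ ht)
  have e1 : f (s : G) = a := by
    have := congrArg Subtype.val hsa
    exact this
  have e2 : f (t : G) = b := by
    have := congrArg Subtype.val htb
    exact this
  rw [← e1, ← e2, ← map_mul, ← map_mul]
  exact congrArg f hcomm

theorem PAb.of_involves {p : ℕ} [Fact p.Prime] {G : Type*} {H : Type*} [Group G] [Finite G] [Group H]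
    (hinv : Cfsg.Involves H G) (h : PAb p G) : PAb p H := by
  obtain ⟨K, R, hN, ⟨e⟩⟩ := hinv
  have h1 : PAb p K := PAb.of_injective K.subtype K.subtype_injective h
  have h2 : PAb p (K ⧸ R.subgroupOf K) :=
    PAb.of_surjective (QuotientGroup.mk' (R.subgroupOf K)) (QuotientGroup.mk'_surjective _) h1
  exact PAb.of_surjective e.toMonoidHom e.surjective h2

open Matrix

theorem trace_eq_two_of_pow {p : ℕ} [hp : Fact p.Prime] {K : Type*} [Field K] [CharP K p]
    (g : Matrix.SpecialLinearGroup (Fin 2) K) (k : ℕ) (hg : g ^ (p ^ k) = 1) :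
    (g : Matrix (Fin 2) (Fin 2) K).trace = 2 := by
  have hM : (g : Matrix (Fin 2) (Fin 2) K) ^ (p ^ k) = 1 := by
    have := congrArg (fun x : Matrix.SpecialLinearGroup (Fin 2) K => (x : Matrix (Fin 2) (Fin 2) K)) hg
    simpa using this
  have : CharP (Matrix (Fin 2) (Fin 2) K) p := inferInstance
  have hnil : IsNilpotent ((g : Matrix (Fin 2) (Fin 2) K) - 1) := by
    refine ⟨p ^ k, ?_⟩
    rw [sub_pow_char_pow_of_commute p k (Commute.one_right _), hM, one_pow, sub_self]
  have h0 := (Matrix.isNilpotent_trace_of_isNilpotent hnil).eq_zero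
  rw [Matrix.trace_sub, Matrix.trace_one, sub_eq_zero] at h0
  simpa using h0

theorem field_aux {K : Type*} [Field K] (a b c d a' b' c' d' : K)
    (H1 : a + d = 2) (H2 : a * d - b * c = 1) (H1' : a' + d' = 2) (H2' : a' * d' - b' * c' = 1)
    (H3 : a * a' + b * c' + (c * b' + d * d') = 2) :
    b * c' = b' * c ∧ a * b' + b * d' = a' * b + b' * d ∧ c * a' + d * c' = c' * a + d' * c := by
  have E1 : (a - 1) ^ 2 + b * c = 0 := by linear_combination (-1) * H2 + a * H1
  have E2 : (a' - 1) ^ 2 + b' * c' = 0 := by linear_combination (-1) * H2' + a' * H1'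
  have hd : d = 2 - a := by linear_combination H1
  have hd' : d' = 2 - a' := by linear_combination H1'
  have E3 : 2 * (a - 1) * (a' - 1) + b * c' + c * b' = 0 := by
    rw [hd, hd'] at H3
    linear_combination H3
  have k1 : b * c' - c * b' = 0 := by
    have : (b * c' - c * b') ^ 2 = 0 := by
      linear_combination (b * c' + c * b' - 2 * (a - 1) * (a' - 1)) * E3
        + 4 * (a' - 1) ^ 2 * E1 - 4 * b * c * E2
    exact pow_eq_zero_iff (two_ne_zero) |>.mp this
  have k2 : (a - 1) * b' - b * (a' - 1) = 0 := by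
    have : ((a - 1) * b' - b * (a' - 1)) ^ 2 = 0 := by
      linear_combination (b'^2) * E1 + b^2 * E2 - b * b' * E3
    exact pow_eq_zero_iff (two_ne_zero) |>.mp this
  have k3 : (a' - 1) * c - (a - 1) * c' = 0 := by
    have : ((a' - 1) * c - (a - 1) * c') ^ 2 = 0 := by
      linear_combination (c'^2) * E1 + c^2 * E2 - c * c' * E3
    exact pow_eq_zero_iff (two_ne_zero) |>.mp this
  refine ⟨?_, ?_, ?_⟩
  · linear_combination k1
  · rw [hd, hd']; linear_combination 2 * k2
  · rw [hd, hd']; linear_combination 2 * k3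

theorem comm_of_trace {K : Type*} [Field K]
    (g h : Matrix.SpecialLinearGroup (Fin 2) K)
    (hg : (g : Matrix (Fin 2) (Fin 2) K).trace = 2) (hh : (h : Matrix (Fin 2) (Fin 2) K).trace = 2)
    (hgh : ((g * h : Matrix.SpecialLinearGroup (Fin 2) K) : Matrix (Fin 2) (Fin 2) K).trace = 2) :
    g * h = h * g := by
  have dg := g.det_coe
  have dh := h.det_coe
  rw [Matrix.det_fin_two] at dg dh
  rw [Matrix.trace_fin_two] at hg hh hgh
  simp only [Matrix.SpecialLinearGroup.coe_mul, Matrix.mul_apply, Fin.sum_univ_two] at hgh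
  obtain ⟨k1, k2, k3⟩ := field_aux _ _ _ _ _ _ _ _ hg dg hh dh hgh
  ext i j
  fin_cases i <;> fin_cases j <;>
    simp only [Matrix.SpecialLinearGroup.coe_mul, Matrix.mul_apply, Fin.sum_univ_two, Fin.zero_eta, Fin.mk_one]
  · linear_combination k1
  · linear_combination k2
  · linear_combination k3
  · linear_combination (-1 : K) * k1

theorem PAb_SL2 {p : ℕ} [hp : Fact p.Prime] {K : Type*} [Field K] [CharP K p] :
    PAb p (Matrix.SpecialLinearGroup (Fin 2) K) := by
  intro Q hQ a ha b hb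
  have key : ∀ g ∈ Q, (g : Matrix (Fin 2) (Fin 2) K).trace = 2 := by
    intro g hg
    obtain ⟨k, hk⟩ := hQ ⟨g, hg⟩
    have hk' : g ^ (p ^ k) = 1 := by
      have := congrArg Subtype.val hk
      simpa using this
    exact trace_eq_two_of_pow g k hk'
  exact comm_of_trace a b (key a ha) (key b hb) (key _ (Q.mul_mem ha hb))

/-- upper unitriangular matrices in SL₃ -/
def UT (p : ℕ) : Subgroup (Matrix.SpecialLinearGroup (Fin 3) (ZMod p)) where
  carrier := {M | (M : Matrix (Fin 3) (Fin 3) (ZMod p)) 1 0 = 0 ∧ (M : Matrix (Fin 3) (Fin 3) (ZMod p)) 2 0 = 0 ∧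
    (M : Matrix (Fin 3) (Fin 3) (ZMod p)) 2 1 = 0 ∧ (M : Matrix (Fin 3) (Fin 3) (ZMod p)) 0 0 = 1 ∧
    (M : Matrix (Fin 3) (Fin 3) (ZMod p)) 1 1 = 1 ∧ (M : Matrix (Fin 3) (Fin 3) (ZMod p)) 2 2 = 1}
  mul_mem' := by
    rintro a b ⟨a10, a20, a21, a00, a11, a22⟩ ⟨b10, b20, b21, b00, b11, b22⟩
    simp only [Set.mem_ofPred_eq, Matrix.SpecialLinearGroup.coe_mul, Matrix.mul_apply, Fin.sum_univ_three]
    simp [a10, a20, a21, a00, a11, a22, b10, b20, b21, b00, b11, b22]
  one_mem' := by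
    simp
  inv_mem' := by
    rintro a ⟨a10, a20, a21, a00, a11, a22⟩
    simp only [Set.mem_ofPred_eq, Matrix.SpecialLinearGroup.coe_inv, Matrix.adjugate_fin_three]
    simp [a10, a20, a21, a00, a11, a22]

theorem UT_cube {p : ℕ} (g : Matrix.SpecialLinearGroup (Fin 3) (ZMod p)) (hg : g ∈ UT p) :
    ((g : Matrix (Fin 3) (Fin 3) (ZMod p)) - 1) ^ 3 = 0 := by
  obtain ⟨a10, a20, a21, a00, a11, a22⟩ := hg
  ext i j
  fin_cases i <;> fin_cases j <;>
    simp [pow_succ, Matrix.mul_apply, Fin.sum_univ_three, a10, a20, a21, a00, a11, a22]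

theorem UT_isPGroup {p : ℕ} [hp : Fact p.Prime] (hp2 : p ≠ 2) : IsPGroup p (UT p) := by
  rintro ⟨g, hg⟩
  refine ⟨1, ?_⟩
  have h3 : 3 ≤ p := by
    have := hp.out.two_le
    omega
  have hM : ((g : Matrix (Fin 3) (Fin 3) (ZMod p)) - 1) ^ p = 0 := by
    obtain ⟨k, rfl⟩ := Nat.exists_eq_add_of_le h3
    rw [pow_add, UT_cube g hg, zero_mul]
  have : CharP (Matrix (Fin 3) (Fin 3) (ZMod p)) p := inferInstance
  rw [sub_pow_char_of_commute p (Commute.one_right _), one_pow, sub_eq_zero] at hM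
  apply Subtype.ext
  apply Subtype.ext
  simpa using hM

def ex (p : ℕ) : Matrix.SpecialLinearGroup (Fin 3) (ZMod p) :=
  ⟨!![1, 1, 0; 0, 1, 0; 0, 0, 1], by simp [Matrix.det_fin_three]⟩

def ey (p : ℕ) : Matrix.SpecialLinearGroup (Fin 3) (ZMod p) :=
  ⟨!![1, 0, 0; 0, 1, 1; 0, 0, 1], by simp [Matrix.det_fin_three]⟩

theorem ex_coe (p : ℕ) : ((ex p : Matrix.SpecialLinearGroup (Fin 3) (ZMod p)) : Matrix (Fin 3) (Fin 3) (ZMod p)) = !![1, 1, 0; 0, 1, 0; 0, 0, 1] := rfl

theorem ey_coe (p : ℕ) : ((ey p : Matrix.SpecialLinearGroup (Fin 3) (ZMod p)) : Matrix (Fin 3) (Fin 3) (ZMod p)) = !![1, 0, 0; 0, 1, 1; 0, 0, 1] := rfl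

theorem ex_mem_qd (p : ℕ) : ex p ∈ Cfsg.qd p :=
  Subgroup.subset_closure (by simp [ex_coe])

theorem ey_mem_qd (p : ℕ) : ey p ∈ Cfsg.qd p :=
  Subgroup.subset_closure (by simp [ey_coe])

theorem ex_mem_UT (p : ℕ) : ex p ∈ UT p := by
  show _ ∧ _ ∧ _ ∧ _ ∧ _ ∧ _
  simp [ex_coe]

theorem ey_mem_UT (p : ℕ) : ey p ∈ UT p := by
  show _ ∧ _ ∧ _ ∧ _ ∧ _ ∧ _
  simp [ey_coe]

theorem ex_ey_ne (p : ℕ) [hp : Fact p.Prime] : ex p * ey p ≠ ey p * ex p := by
  intro h
  have h1 := congrArg (fun M : Matrix.SpecialLinearGroup (Fin 3) (ZMod p) => (M : Matrix (Fin 3) (Fin 3) (ZMod p)) 0 2) h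
  simp [ex_coe, ey_coe, Matrix.mul_apply, Fin.sum_univ_three] at h1

theorem not_PAb_qd {p : ℕ} [hp : Fact p.Prime] (hp2 : p ≠ 2) : ¬ PAb p (Cfsg.qd p) := by
  intro h
  have hQ : IsPGroup p ((UT p).subgroupOf (Cfsg.qd p)) :=
    (UT_isPGroup hp2).comap_subtype
  have := h _ hQ ⟨ex p, ex_mem_qd p⟩ (by simpa [Subgroup.mem_subgroupOf] using ex_mem_UT p)
    ⟨ey p, ey_mem_qd p⟩ (by simpa [Subgroup.mem_subgroupOf] using ey_mem_UT p)
  apply ex_ey_ne p
  exact congrArg Subtype.val this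

/-- Let p be an odd prime and K a finite field of characteristic p. Then Qd(p) (the natural semidirect product of an elementary abelian group of order p² by SL₂(p)) is not involved in the projective special linear group PSL₂(K). -/
theorem result {p : ℕ} [Fact p.Prime] (hp : p ≠ 2) {K : Type*} [Field K] [Fintype K] [CharP K p] : ¬ Cfsg.Involves ↥(Cfsg.qd p) (Matrix.ProjectiveSpecialLinearGroup (Fin 2) K) := by
  intro hinv
  have h1 : PAb p (Matrix.SpecialLinearGroup (Fin 2) K) := PAb_SL2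
  have h2 : PAb p (Matrix.ProjectiveSpecialLinearGroup (Fin 2) K) :=
    PAb.of_surjective (QuotientGroup.mk' _) (QuotientGroup.mk'_surjective _) h1
  exact not_PAb_qd hp (PAb.of_involves hinv h2)

end Cfsg.Agent.S2231
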