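import Cfsg.Statements.S2239
import Cfsg.Agent.Lib.Helper6.SzSub13

set_option autoImplicit false
open Cfsg

namespace Cfsg.Agent.S2239

/-- Subfield subgroups of the Suzuki group: let q = 2^(2m+1) and s = 2^(2k+1) with m, k ≥ 1 and 2k+1 dividing 2m+1 (so q is a power of s), both groups realised as stabilisers in SL₄ of the Suzuki–Tits ovoid. Then Sz(q) has a subgroup isomorphic to Sz(s), and any two subgroups of Sz(q) isomorphic to Sz(s) are conjugate. -/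
theorem result {F : Type*} [Field F] [Fintype F] {m : ℕ} (hm : 1 ≤ m) (hF : Fintype.card F = 2 ^ (2 * m + 1)) {K : Type*} [Field K] [Fintype K] {k : ℕ} (hk : 1 ≤ k) (hK : Fintype.card K = 2 ^ (2 * k + 1)) (hdiv : 2 * k + 1 ∣ 2 * m + 1) :
    (∃ S : Subgroup ↥(Cfsg.Sz F m), Nonempty (↥S ≃* ↥(Cfsg.Sz K k))) ∧
    ∀ S₁ S₂ : Subgroup ↥(Cfsg.Sz F m), Nonempty (↥S₁ ≃* ↥(Cfsg.Sz K k)) → Nonempty (↥S₂ ≃* ↥(Cfsg.Sz K k)) →
      ∃ g : ↥(Cfsg.Sz F m), S₂ = S₁.map (MulAut.conj g).toMonoidHom := by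
  classical
  have hcharF := Cfsg.Agent.Lib.Helper6.sz_charP hF
  have hcharK := Cfsg.Agent.Lib.Helper6.sz_charP hK
  have hσ : Cfsg.Agent.Lib.Helper6.SgSq (F := F) m := Cfsg.Agent.Lib.Helper6.sgSq_of_card m hF
  have : Fact (Nat.Prime 2) := ⟨Nat.prime_two⟩
  constructor
  · -- existence
    let _ : Algebra (ZMod 2) K := ZMod.algebra K 2
    let _ : Algebra (ZMod 2) F := ZMod.algebra F 2
    have h1 : Module.finrank (ZMod 2) K = 2 * k + 1 := by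
      have := FiniteField.pow_finrank_eq_card 2 K
      rw [hK] at this
      exact Nat.pow_right_injective (le_refl 2) this
    have h2 : Module.finrank (ZMod 2) F = 2 * m + 1 := by
      have := FiniteField.pow_finrank_eq_card 2 F
      rw [hF] at this
      exact Nat.pow_right_injective (le_refl 2) this
    obtain ⟨f⟩ := FiniteField.nonempty_algHom_of_finrank_dvd (F := ZMod 2) (K := K) (L := F)
      (by rw [h1, h2]; exact hdiv)
    exact ⟨_, Cfsg.Agent.Lib.Helper6.nonempty_szSubK_equiv hk hK hF hdiv f.toRingHom hσ⟩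
  · -- conjugacy
    rintro S₁ S₂ ⟨e₁⟩ ⟨e₂⟩
    obtain ⟨g₁, K₁, hc₁, hiff₁⟩ := Cfsg.Agent.Lib.Helper6.sz_subfield_conj hσ hm hF hk hK S₁ e₁
    obtain ⟨g₂, K₂, hc₂, hiff₂⟩ := Cfsg.Agent.Lib.Helper6.sz_subfield_conj hσ hm hF hk hK S₂ e₂
    have hKK : K₁ = K₂ := Cfsg.Agent.Lib.Helper6.subfield_eq_of_card_eq K₁ K₂ (hc₁.trans hc₂.symm)
    subst hKK
    refine ⟨g₂⁻¹ * g₁, ?_⟩
    ext x
    rw [Cfsg.Agent.Lib.Helper6.mem_map_conj, hiff₂, hiff₁]
    have : g₁ * ((g₂⁻¹ * g₁)⁻¹ * x * (g₂⁻¹ * g₁)) * g₁⁻¹ = g₂ * x * g₂⁻¹ := by group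
    rw [this]

end Cfsg.Agent.S2239
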