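import Cfsg.Statements.S2240
import Cfsg.Agent.Lib.Helper6.SzTI

set_option autoImplicit false
open Cfsg

namespace Cfsg.Agent.S2240

open Cfsg.Agent.Lib.Helper6 Matrix

/-- A finite field with `2 ^ N` elements has a subfield with `2 ^ n` elements for each divisor `n ≠ 0` of `N`. -/
theorem exists_subfield_card {F : Type*} [Field F] [Fintype F] [CharP F 2] {N n : ℕ}
    (hF : Fintype.card F = 2 ^ N) (hn : n ∣ N) (hn0 : n ≠ 0) :
    ∃ K : Subfield F, Nat.card K = 2 ^ n := by
  have : Fact (Nat.Prime 2) := ⟨Nat.prime_two⟩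
  let _ : Algebra (ZMod 2) F := ZMod.algebra F 2
  have hfr : Module.finrank (ZMod 2) F = N := by
    have := FiniteField.pow_finrank_eq_card 2 F
    rw [hF] at this
    exact Nat.pow_right_injective (le_refl 2) this
  have hK : Module.finrank (ZMod 2) (GaloisField 2 n) = n := GaloisField.finrank 2 hn0
  obtain ⟨f⟩ := FiniteField.nonempty_algHom_of_finrank_dvd (F := ZMod 2) (K := GaloisField 2 n)
    (L := F) (by rw [hK, hfr]; exact hn)
  refine ⟨(f : GaloisField 2 n →+* F).fieldRange, ?_⟩
  have h1 : Nat.card ((f : GaloisField 2 n →+* F).fieldRange) = Nat.card (Set.range f) :=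
    Nat.card_congr (Equiv.setCongr (RingHom.coe_fieldRange _))
  rw [h1]
  have h2 : Nat.card (Set.range f) = Nat.card (GaloisField 2 n) :=
    Nat.card_range_of_injective f.injective
  rw [h2, GaloisField.card 2 n hn0]

/-- `2 ^ n - 1 ∣ 2 ^ N - 1` forces `n ∣ N`. -/
theorem dvd_of_two_pow_sub_one_dvd {n N : ℕ} (h : 2 ^ n - 1 ∣ 2 ^ N - 1) : n ∣ N := by
  have hg := Nat.pow_sub_one_gcd_pow_sub_one 2 n N
  rw [Nat.gcd_eq_left h] at hg
  have h1 : 1 ≤ 2 ^ n := Nat.one_le_two_pow
  have h2 : 1 ≤ 2 ^ Nat.gcd n N := Nat.one_le_two_pow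
  have h3 : 2 ^ n = 2 ^ Nat.gcd n N := by omega
  have h4 : n = Nat.gcd n N := Nat.pow_right_injective (le_refl 2) h3
  rw [h4]
  exact Nat.gcd_dvd_right n N

/-- Elementary abelian TI-subgroups of the Suzuki group: let q = 2^(2m+1) with m ≥ 1, the group realised as the stabiliser in SL₄ of the Suzuki–Tits ovoid, and n ≥ 2. There is an elementary abelian 2-subgroup E of order 2^n that is a TI-subgroup (every conjugate of E meeting E nontrivially is E itself) if and only if n divides 2m + 1. -/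
theorem result {F : Type*} [Field F] [Fintype F] {m : ℕ} (hm : 1 ≤ m) (hF : Fintype.card F = 2 ^ (2 * m + 1)) (n : ℕ) (hn : 2 ≤ n) :
    (∃ E : Subgroup ↥(Cfsg.Sz F m), Cfsg.IsElementaryAbelian 2 E ∧ Nat.card ↥E = 2 ^ n ∧
      ∀ x : ↥(Cfsg.Sz F m), E ⊓ E.map (MulAut.conj x).toMonoidHom ≠ ⊥ → x ∈ Subgroup.normalizer (E : Set ↥(Cfsg.Sz F m))) ↔ n ∣ 2 * m + 1 := by
  classical
  have := sz_charP hF
  have hσ : SgSq (F := F) m := sgSq_of_card m hF
  constructor
  · rintro ⟨E, ⟨-, hexp⟩, hcard, hTI⟩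
    have hEp : IsPGroup 2 E := IsPGroup.of_card hcard
    obtain ⟨g, hg⟩ := exists_conj_le_szTsub hσ hm hF hEp
    -- every element of E is g⁻¹ t0(b) g
    have hform : ∀ e ∈ E, ∃ b, e = g⁻¹ * t0 hσ b * g := by
      intro e he
      have h1 := hg e he
      have h2 : (g * e * g⁻¹) * (g * e * g⁻¹) = 1 := by
        have : e * e = 1 := by rw [← pow_two]; exact hexp e he
        calc g * e * g⁻¹ * (g * e * g⁻¹) = g * (e * e) * g⁻¹ := by group
          _ = 1 := by rw [this]; group
      obtain ⟨b, hb⟩ := eq_t0_of_mul_self hσ h1 h2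
      refine ⟨b, ?_⟩
      rw [← hb]; group
    let B : Set F := {b | g⁻¹ * t0 hσ b * g ∈ E}
    have hB0 : (0 : F) ∈ B := by
      show g⁻¹ * t0 hσ 0 * g ∈ E
      rw [t0_zero, mul_one, inv_mul_cancel]
      exact E.one_mem
    have hBcard : Nat.card B = 2 ^ n := by
      rw [← hcard]
      apply Nat.card_congr
      refine Equiv.ofBijective (fun b : B => (⟨g⁻¹ * t0 hσ b * g, b.2⟩ : E)) ⟨?_, ?_⟩
      · intro b d h
        have h' : g⁻¹ * t0 hσ b * g = g⁻¹ * t0 hσ d * g := congrArg Subtype.val h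
        have h'' : t0 hσ (b : F) = t0 hσ (d : F) := by
          have := congrArg (fun z => g * z * g⁻¹) h'
          simpa [mul_assoc] using this
        exact Subtype.ext (t0_injective hσ h'')
      · rintro ⟨e, he⟩
        obtain ⟨b, hb⟩ := hform e he
        exact ⟨⟨b, by show g⁻¹ * t0 hσ b * g ∈ E; rw [← hb]; exact he⟩, Subtype.ext hb.symm⟩
    -- the scaling property
    have hscale : ∀ l : Fˣ, (∃ b ∈ B, b ≠ 0 ∧ (l : F) * b ∈ B) → ∀ b ∈ B, (l : F) * b ∈ B := by
      rintro l ⟨b, hb, hb0, hlb⟩ c hc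
      obtain ⟨h, hh⟩ := exists_conj_t0 hσ l
      have hx : ∀ d, (g⁻¹ * h * g) * (g⁻¹ * t0 hσ d * g) * (g⁻¹ * h * g)⁻¹ =
          g⁻¹ * t0 hσ ((l : F) * d) * g := by
        intro d; rw [← hh d]; group
      have hne : E ⊓ E.map (MulAut.conj (g⁻¹ * h * g)).toMonoidHom ≠ ⊥ := by
        intro hbot
        have hmem : g⁻¹ * t0 hσ ((l : F) * b) * g ∈
            E ⊓ E.map (MulAut.conj (g⁻¹ * h * g)).toMonoidHom := by
          refine ⟨hlb, ?_⟩
          refine ⟨g⁻¹ * t0 hσ b * g, hb, ?_⟩
          show MulAut.conj (g⁻¹ * h * g) (g⁻¹ * t0 hσ b * g) = _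
          rw [MulAut.conj_apply, hx]
        rw [hbot, Subgroup.mem_bot] at hmem
        have h1 : t0 hσ ((l : F) * b) = 1 := by
          have := congrArg (fun z => g * z * g⁻¹) hmem
          simpa [mul_assoc] using this
        rw [t0_eq_one_iff] at h1
        rcases mul_eq_zero.mp h1 with h | h
        · exact l.ne_zero h
        · exact hb0 h
      have hxN := hTI _ hne
      rw [Subgroup.mem_normalizer_iff] at hxN
      have := (hxN (g⁻¹ * t0 hσ c * g)).mp hc
      rw [hx] at this
      exact this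
    -- a nonzero element of B
    have hBfin : B.Finite := Set.toFinite B
    have hBncard : B.ncard = 2 ^ n := by rw [← hBcard, Nat.card_coe_set_eq]
    obtain ⟨b1, hb1, hb10⟩ : ∃ b1 ∈ B, b1 ≠ 0 := by
      have h4 : 1 < B.ncard := by
        rw [hBncard]
        exact Nat.one_lt_two_pow (by omega)
      obtain ⟨b1, hb1, hne⟩ := Set.exists_ne_of_one_lt_ncard h4 (0 : F)
      exact ⟨b1, hb1, hne⟩
    -- the subgroup of scalars
    let S : Subgroup Fˣ :=
      { carrier := {l | (l : F) * b1 ∈ B}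
        one_mem' := by
          show ((1 : Fˣ) : F) * b1 ∈ B
          rw [Units.val_one, one_mul]; exact hb1
        mul_mem' := by
          intro l l' hl hl'
          show ((l * l' : Fˣ) : F) * b1 ∈ B
          rw [Units.val_mul, mul_assoc]
          exact hscale l ⟨b1, hb1, hb10, hl⟩ _ hl'
        inv_mem' := by
          intro l hl
          show ((l⁻¹ : Fˣ) : F) * b1 ∈ B
          have hsub : (fun c : F => (l : F) * c) '' B ⊆ B := by
            rintro _ ⟨c, hc, rfl⟩
            exact hscale l ⟨b1, hb1, hb10, hl⟩ c hc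
          have hinj : Function.Injective (fun c : F => (l : F) * c) :=
            fun c d hcd => mul_left_cancel₀ l.ne_zero hcd
          have himg : (fun c : F => (l : F) * c) '' B = B :=
            Set.eq_of_subset_of_ncard_le hsub (by rw [Set.ncard_image_of_injective _ hinj]) hBfin
          have hb1' : b1 ∈ (fun c : F => (l : F) * c) '' B := by rw [himg]; exact hb1
          obtain ⟨c, hc, hlc⟩ := hb1'
          simp only at hlc
          have : c = ((l⁻¹ : Fˣ) : F) * b1 := by
            rw [← hlc, ← mul_assoc, ← Units.val_mul, inv_mul_cancel, Units.val_one, one_mul]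
          rw [← this]
          exact hc }
    have hScard : Nat.card S = 2 ^ n - 1 := by
      have h1 : Nat.card S = ((S : Set Fˣ)).ncard := Nat.card_coe_set_eq _
      have himg : (fun l : Fˣ => (l : F) * b1) '' (S : Set Fˣ) = B \ {0} := by
        ext c
        constructor
        · rintro ⟨l, hl, rfl⟩
          exact ⟨hl, mul_ne_zero l.ne_zero hb10⟩
        · rintro ⟨hc, hc0⟩
          have hc0' : c ≠ 0 := hc0
          refine ⟨Units.mk0 (c / b1) (div_ne_zero hc0' hb10), ?_, ?_⟩
          · show ((Units.mk0 (c / b1) (div_ne_zero hc0' hb10) : Fˣ) : F) * b1 ∈ B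
            rw [Units.val_mk0, div_mul_cancel₀ _ hb10]
            exact hc
          · simp only [Units.val_mk0]
            exact div_mul_cancel₀ _ hb10
      have hinj : Function.Injective (fun l : Fˣ => (l : F) * b1) := by
        intro l l' h
        exact Units.ext (mul_right_cancel₀ hb10 h)
      rw [h1, ← Set.ncard_image_of_injective _ hinj, himg, Set.ncard_sdiff_singleton_of_mem hB0,
        hBncard]
    have hdvd : 2 ^ n - 1 ∣ 2 ^ (2 * m + 1) - 1 := by
      rw [← hScard]
      have h1 : Nat.card Fˣ = 2 ^ (2 * m + 1) - 1 := by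
        rw [Nat.card_units, Nat.card_eq_fintype_card, hF]
      rw [← h1]
      exact Subgroup.card_subgroup_dvd_card S
    exact dvd_of_two_pow_sub_one_dvd hdvd
  · intro hdiv
    obtain ⟨K, hK⟩ := exists_subfield_card hF hdiv (by omega)
    let E : Subgroup (Sz F m) :=
      { carrier := {g | ∃ c ∈ K, g = t0 hσ c}
        one_mem' := ⟨0, K.zero_mem, (t0_zero hσ).symm⟩
        mul_mem' := by
          rintro _ _ ⟨c, hc, rfl⟩ ⟨d, hd, rfl⟩
          exact ⟨c + d, K.add_mem hc hd, (t0_add hσ c d).symm⟩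
        inv_mem' := by
          rintro _ ⟨c, hc, rfl⟩
          exact ⟨c, hc, t0_inv hσ c⟩ }
    have hEmem : ∀ g, g ∈ E ↔ ∃ c ∈ K, g = t0 hσ c := fun g => Iff.rfl
    refine ⟨E, ⟨⟨⟨?_⟩⟩, ?_⟩, ?_, ?_⟩
    · rintro ⟨_, c, hc, rfl⟩ ⟨_, d, hd, rfl⟩
      apply Subtype.ext
      show t0 hσ c * t0 hσ d = t0 hσ d * t0 hσ c
      rw [← t0_add, ← t0_add, add_comm]
    · rintro _ ⟨c, hc, rfl⟩
      rw [pow_two, t0_mul_self]
    · rw [← hK]
      symm
      apply Nat.card_congr
      refine Equiv.ofBijective (fun c : K => (⟨t0 hσ c, c, c.2, rfl⟩ : E)) ⟨?_, ?_⟩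
      · intro c d h
        exact Subtype.ext (t0_injective hσ (congrArg Subtype.val h))
      · rintro ⟨_, c, hc, rfl⟩
        exact ⟨⟨c, hc⟩, rfl⟩
    · intro x hne
      obtain ⟨e, he1⟩ := (Subgroup.ne_bot_iff_exists_ne_one).mp hne
      obtain ⟨⟨d, hd, hed⟩, ⟨e', ⟨d', hd', he'd'⟩, hconj⟩⟩ := e.2
      have hconj' : x * t0 hσ d' * x⁻¹ = t0 hσ d := by
        rw [← he'd', ← hed]
        exact hconj
      have hd0 : d ≠ 0 := by
        rintro rfl
        apply he1
        apply Subtype.ext
        rw [hed, t0_zero]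
        rfl
      have hd'0 : d' ≠ 0 := by
        rintro rfl
        rw [t0_zero, mul_one, mul_inv_cancel] at hconj'
        exact hd0 ((t0_eq_one_iff hσ).mp hconj'.symm)
      have hfix : (x : SpecialLinearGroup (Fin 4) F) • suzukiPointInfinity F =
          suzukiPointInfinity F := by
        apply fix_inf_of_conj_szT hσ x.2 (a := 0) (b := d') (c := 0) (d := d)
        · rintro ⟨-, h⟩
          exact hd'0 h
        · exact congrArg Subtype.val hconj'
      obtain ⟨l, hl⟩ := conj_t0_of_fix_inf hσ hm hF hfix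
      have hld : (l : F) * d' = d := by
        have := hl d'
        rw [hconj'] at this
        exact (t0_injective hσ this).symm
      have hlK : (l : F) ∈ K := by
        have : (l : F) = d / d' := by
          rw [← hld, mul_div_cancel_right₀ _ hd'0]
        rw [this]
        exact K.div_mem hd hd'
      rw [Subgroup.mem_normalizer_iff]
      intro y
      constructor
      · rintro ⟨c, hc, rfl⟩
        exact ⟨(l : F) * c, K.mul_mem hlK hc, hl c⟩
      · rintro ⟨c, hc, hy⟩
        refine ⟨(l : F)⁻¹ * c, K.mul_mem (K.inv_mem hlK) hc, ?_⟩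
        have h1 : x * t0 hσ ((l : F)⁻¹ * c) * x⁻¹ = x * y * x⁻¹ := by
          rw [hl, hy, ← mul_assoc, mul_inv_cancel₀ l.ne_zero, one_mul]
        have := congrArg (fun z => x⁻¹ * z * x) h1
        simpa [mul_assoc] using this.symm

end Cfsg.Agent.S2240
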