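import Cfsg.Statements.S2245
import Cfsg.Agent.Lib.Helper38.Syl2MaxA
import Cfsg.Agent.Lib.Helper38.Syl2MaxD
import Cfsg.Agent.Lib.Helper38.Syl2MaxE
import Cfsg.Agent.Lib.Helper38.Syl2MaxF
-- import your own Cfsg.Agent.* helpers here

set_option autoImplicit false
open Cfsg

namespace Cfsg.Agent.S2245

open Equiv Equiv.Perm MulAction Cfsg.Agent.Lib.Helper38.Syl2Max

/-- arithmetic: an even `n ≥ 5`, `n ≠ 6` is at least 8 -/
theorem even_ge_eight {n : ℕ} (hn : 5 ≤ n) (h6 : n ≠ 6) (he : 2 ∣ n) : 8 ≤ n := by omega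

/-- The symmetric group part. -/
theorem perm_part (n : ℕ) (hn : 5 ≤ n) (h6 : n ≠ 6) (R : Sylow 2 (Perm (Fin n))) :
    (∃! M : Subgroup (Perm (Fin n)), IsCoatom M ∧ (R : Subgroup (Perm (Fin n))) ≤ M) ↔
      ∃ k : ℕ, 2 ≤ k ∧ n = 2 ^ k + 1 := by
  have hcardn : Fintype.card (Fin n) = n := Fintype.card_fin n
  constructor
  · intro huniq
    by_contra hform
    revert huniq
    by_cases hodd : 2 ∣ n
    · have h8 := even_ge_eight hn h6 hodd
      have h0 : (Fin.revPerm : Perm (Fin n)) * Fin.revPerm = 1 := by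
        ext x; simp
      by_cases hpow : ∃ j, n = 2 ^ j
      · obtain ⟨j, hj⟩ := hpow
        obtain ⟨c₀, hc, hs⟩ := exists_cycle_fin_pow hj (by omega)
        have htr := sylow_trans R (hcardn.trans hj) hc hs
        exact nonunique_pow flavor_perm (R : Subgroup (Perm (Fin n))) R.isPGroup'
          (by rw [hcardn]; exact h8) Fin.revPerm h0 (revPerm_fpf hodd) htr
      · exact nonunique_even flavor_perm (R : Subgroup (Perm (Fin n))) R.isPGroup'
          (by rw [hcardn]; exact hn) Fin.revPerm h0 (revPerm_fpf hodd)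
          (by rw [hcardn]; exact hpow)
    · exact nonunique_odd flavor_perm (R : Subgroup (Perm (Fin n))) R.isPGroup'
        (by rw [hcardn]; exact hn) (by rw [hcardn]; exact hodd) (by rw [hcardn]; exact hform)
  · rintro ⟨k, hk, hnk⟩
    obtain ⟨c₀, hc, hs⟩ := exists_cycle_fin_pow_succ hnk (by omega)
    obtain ⟨ω, hfix, htr⟩ := sylow_fix_trans R (hcardn.trans hnk) (by omega) hc hs
    refine unique_of_core flavor_perm (R : Subgroup (Perm (Fin n))) ω (by rw [hcardn]; omega)
      hfix ?_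
    intro M hPM hmove
    exact unique_core_perm R (by rw [hcardn]; omega) hfix htr M hPM hmove

/-- The alternating group part. -/
theorem alt_part (n : ℕ) (hn : 5 ≤ n) (h6 : n ≠ 6) (P : Sylow 2 (alternatingGroup (Fin n))) :
    (∃! M : Subgroup (alternatingGroup (Fin n)),
      IsCoatom M ∧ (P : Subgroup (alternatingGroup (Fin n))) ≤ M) ↔
      ∃ k : ℕ, 2 ≤ k ∧ n = 2 ^ k + 1 := by
  have hcardn : Fintype.card (Fin n) = n := Fintype.card_fin n
  obtain ⟨R, hlink⟩ := exists_sylow_perm_of_alt P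
  constructor
  · intro huniq
    by_contra hform
    revert huniq
    by_cases hodd : 2 ∣ n
    · have h8 := even_ge_eight hn h6 hodd
      have h0 : (Fin.revPerm : Perm (Fin n)) * Fin.revPerm = 1 := by
        ext x; simp
      by_cases hpow : ∃ j, n = 2 ^ j
      · obtain ⟨j, hj⟩ := hpow
        obtain ⟨c₀, hc, hs⟩ := exists_cycle_fin_pow hj (by omega)
        have htr := sylow_trans R (hcardn.trans hj) hc hs
        have htr' := sylow_trans_even R (by rw [hcardn]; omega) htr
        refine nonunique_pow flavor_alt (P : Subgroup (alternatingGroup (Fin n))) P.isPGroup'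
          (by rw [hcardn]; exact h8) Fin.revPerm h0 (revPerm_fpf hodd) ?_
        intro x y
        obtain ⟨g, hg, e⟩ := htr' x y
        exact ⟨⟨g, hg.2⟩, (hlink g hg.2).mpr hg.1, e⟩
      · exact nonunique_even flavor_alt (P : Subgroup (alternatingGroup (Fin n))) P.isPGroup'
          (by rw [hcardn]; exact hn) Fin.revPerm h0 (revPerm_fpf hodd)
          (by rw [hcardn]; exact hpow)
    · exact nonunique_odd flavor_alt (P : Subgroup (alternatingGroup (Fin n))) P.isPGroup'
        (by rw [hcardn]; exact hn) (by rw [hcardn]; exact hodd) (by rw [hcardn]; exact hform)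
  · rintro ⟨k, hk, hnk⟩
    obtain ⟨c₀, hc, hs⟩ := exists_cycle_fin_pow_succ hnk (by omega)
    obtain ⟨ω, hfix, htr⟩ := sylow_fix_trans R (hcardn.trans hnk) (by omega) hc hs
    have htr' := sylow_fix_trans_even R (by rw [hcardn]; omega) hfix htr
    refine unique_of_core flavor_alt (P : Subgroup (alternatingGroup (Fin n))) ω
      (by rw [hcardn]; omega) ?_ ?_
    · intro m hm
      exact hfix m.1 ((hlink m.1 m.2).mp hm)
    · intro M hPM hmove
      -- pass to `Perm (Fin n)`
      have hRG : (R : Subgroup (Perm (Fin n))) ⊓ alternatingGroup (Fin n) ≤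
          M.map (alternatingGroup (Fin n)).subtype := by
        intro g hg
        exact ⟨⟨g, hg.2⟩, hPM ((hlink g hg.2).mpr hg.1), rfl⟩
      have hmove' : ∃ g ∈ M.map (alternatingGroup (Fin n)).subtype, g ω ≠ ω := by
        obtain ⟨m, hm, hne⟩ := hmove
        exact ⟨m.1, ⟨m, hm, rfl⟩, hne⟩
      have hle : alternatingGroup (Fin n) ≤ M.map (alternatingGroup (Fin n)).subtype := by
        by_cases hk2 : k = 2
        · have h5 : n = 5 := by rw [hnk, hk2]; norm_num
          subst h5
          exact unique_core_alt_five R hfix htr' _ hRG hmove'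
        · have hk3 : 3 ≤ k := by omega
          have h9 : 9 ≤ n := by
            have : 2 ^ 3 ≤ 2 ^ k := Nat.pow_le_pow_right (by norm_num) hk3
            omega
          exact unique_core_alt_nine R hfix htr' Fin.revPerm revPerm_invol _ _ _ _
            (revPerm_pairs (by omega)) _ hRG hmove'
      rw [eq_top_iff]
      intro y _
      obtain ⟨m, hm, e⟩ := hle y.2
      have : m = y := Subtype.ext e
      rw [← this]; exact hm

theorem result (n : ℕ) (hn : 5 ≤ n) (h6 : n ≠ 6) :
    ((∀ R : Sylow 2 ↥(alternatingGroup (Fin n)), (∃! M : Subgroup ↥(alternatingGroup (Fin n)), IsCoatom M ∧ (R : Subgroup ↥(alternatingGroup (Fin n))) ≤ M) ↔ ∃ k : ℕ, 2 ≤ k ∧ n = 2 ^ k + 1) ∧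
    (∀ R : Sylow 2 (Equiv.Perm (Fin n)), (∃! M : Subgroup (Equiv.Perm (Fin n)), IsCoatom M ∧ (R : Subgroup (Equiv.Perm (Fin n))) ≤ M) ↔ ∃ k : ℕ, 2 ≤ k ∧ n = 2 ^ k + 1)) :=
  ⟨fun R => alt_part n hn h6 R, fun R => perm_part n hn h6 R⟩

end Cfsg.Agent.S2245
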