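import Cfsg.Statements.S2250
import Mathlib
-- import your own Cfsg.Agent.* helpers here
import Cfsg.Agent.Lib.Helper5.SpSylow
import Cfsg.Agent.S2234

set_option autoImplicit false
open Cfsg

namespace Cfsg.Agent.S2250


/-- The normal 2-rank of the symplectic group over a finite field of odd order: for n ≥ 1 and S a Sylow 2-subgroup of Sp_{2n}(F), the largest rank of an elementary abelian subgroup of S that is normal in S equals n. -/
theorem result {F : Type*} [Field F] [Fintype F] (hF : Odd (Fintype.card F)) (n : ℕ) (hn : 1 ≤ n) (S : Sylow 2 ↥(Matrix.symplecticGroup (Fin n) F)) :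
    ((∃ E : Subgroup ↥(S : Subgroup ↥(Matrix.symplecticGroup (Fin n) F)), E.Normal ∧ Cfsg.IsElementaryAbelian 2 E ∧ 2 ^ (n) ≤ Nat.card ↥E) ∧
      ∀ E : Subgroup ↥(S : Subgroup ↥(Matrix.symplecticGroup (Fin n) F)), E.Normal → Cfsg.IsElementaryAbelian 2 E → Nat.card ↥E ≤ 2 ^ (n)) := by
  have h2 : (2 : F) ≠ 0 := by
    intro h
    have hchar : ringChar F = 2 :=
      CharP.ringChar_of_prime_eq_zero Nat.prime_two (by exact_mod_cast h)
    have := FiniteField.even_card_iff_char_two.mp hchar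
    obtain ⟨j, hj⟩ := hF
    omega
  have h := Cfsg.Agent.Lib.Helper5.sylow_sp_towerData hF n hn S
  refine ⟨?_, ?_⟩
  · obtain ⟨E, hEn, hEe, hEc⟩ := h.elem
    exact ⟨E, hEn, hEe, hEc.ge⟩
  · intro E _ hE
    obtain ⟨hEc, hEe⟩ := hE
    let E' : Subgroup ↥(Matrix.symplecticGroup (Fin n) F) :=
      E.map (S : Subgroup ↥(Matrix.symplecticGroup (Fin n) F)).subtype
    have hcard : Nat.card E' = Nat.card E :=
      (Nat.card_congr (E.equivMapOfInjective _ (Subgroup.subtype_injective _)).toEquiv).symm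
    rw [← hcard]
    apply Cfsg.Agent.S2234.card_le h2 E'
    · refine ⟨⟨?_⟩⟩
      rintro ⟨_, ⟨a, ha, rfl⟩⟩ ⟨_, ⟨b, hb, rfl⟩⟩
      apply Subtype.ext
      have hab : a * b = b * a := congrArg Subtype.val (hEc.is_comm.comm ⟨a, ha⟩ ⟨b, hb⟩)
      show (a : ↥(Matrix.symplecticGroup (Fin n) F)) * b = b * a
      exact_mod_cast congrArg Subtype.val hab
    · rintro _ ⟨a, ha, rfl⟩
      have := hEe a ha
      show ((a : ↥(Matrix.symplecticGroup (Fin n) F))) ^ 2 = 1
      exact_mod_cast congrArg Subtype.val this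

end Cfsg.Agent.S2250
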