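import Cfsg.Statements.S2251
import Cfsg.Agent.Lib.Helper6.SzSub12

set_option autoImplicit false
open Cfsg

namespace Cfsg.Agent.S2251

open scoped Pointwise

/-- The subgroups of the Suzuki group: with q = 2^(2m+1), m ≥ 1, r = 2^m and the group realised as the stabiliser in SL₄ of the Suzuki–Tits ovoid, every proper subgroup is contained in the normalizer of a Sylow 2-subgroup, or in the normalizer of a cyclic subgroup of order q − 1, q + 2r + 1 or q − 2r + 1, or in a subgroup isomorphic to a smaller Suzuki group Sz(s) with s = 2^(2k+1) ≥ 8 and 2k+1 a proper divisor of 2m+1. -/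
theorem result {F : Type*} [Field F] [Fintype F] {m : ℕ} (hm : 1 ≤ m) (hF : Fintype.card F = 2 ^ (2 * m + 1)) (M : Subgroup ↥(Cfsg.Sz F m)) (hM : M ≠ ⊤) :
    (∃ P : Sylow 2 ↥(Cfsg.Sz F m), M ≤ Subgroup.normalizer ((P : Subgroup ↥(Cfsg.Sz F m)) : Set ↥(Cfsg.Sz F m))) ∨
    (∃ U : Subgroup ↥(Cfsg.Sz F m), IsCyclic ↥U ∧ Nat.card ↥U ∈ ({2 ^ (2 * m + 1) - 1, 2 ^ (2 * m + 1) + 2 ^ (m + 1) + 1, 2 ^ (2 * m + 1) - 2 ^ (m + 1) + 1} : Set ℕ) ∧
      M ≤ Subgroup.normalizer (U : Set ↥(Cfsg.Sz F m))) ∨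
    (∃ (K : Type) (_ : Field K) (_ : Fintype K) (k : ℕ), 1 ≤ k ∧ k < m ∧ Fintype.card K = 2 ^ (2 * k + 1) ∧ 2 * k + 1 ∣ 2 * m + 1 ∧
      ∃ S : Subgroup ↥(Cfsg.Sz F m), Nonempty (↥S ≃* ↥(Cfsg.Sz K k)) ∧ M ≤ S) := by
  classical
  have hchar := Cfsg.Agent.Lib.Helper6.sz_charP hF
  have hσ : Cfsg.Agent.Lib.Helper6.SgSq (F := F) m := Cfsg.Agent.Lib.Helper6.sgSq_of_card m hF
  rcases Cfsg.Agent.Lib.Helper6.sz_subgroup_concl hσ hm hF M with
    ⟨g, hg⟩ | ⟨U, hU, hMU⟩ | ⟨g, K, hK3, hiff⟩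
  · left
    refine ⟨g⁻¹ • Cfsg.Agent.Lib.Helper6.szSylow hσ hm hF, ?_⟩
    have h1 : M.map (MulAut.conj g).toMonoidHom ≤
        Subgroup.normalizer ((Cfsg.Agent.Lib.Helper6.szTsub hσ : Subgroup (Cfsg.Sz F m)) :
          Set (Cfsg.Sz F m)) := by
      intro y hy
      rw [Cfsg.Agent.Lib.Helper6.mem_map_conj] at hy
      have := hg _ hy
      have e : g * (g⁻¹ * y * g) * g⁻¹ = y := by group
      rw [e] at this
      exact Cfsg.Agent.Lib.Helper6.mem_normalizer_szTsub_of_fix_inf hσ hm hF this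
    have h2 := Cfsg.Agent.Lib.Helper6.le_normalizer_of_map_conj_le M _ g h1
    have h3 : ((g⁻¹ • Cfsg.Agent.Lib.Helper6.szSylow hσ hm hF : Sylow 2 (Cfsg.Sz F m)) :
        Subgroup (Cfsg.Sz F m)) =
        (Cfsg.Agent.Lib.Helper6.szTsub hσ).map (MulAut.conj g⁻¹).toMonoidHom := by
      have h4 : ((g⁻¹ • Cfsg.Agent.Lib.Helper6.szSylow hσ hm hF : Sylow 2 (Cfsg.Sz F m)) :
          Subgroup (Cfsg.Sz F m)) = MulAut.conj g⁻¹ •
            (Cfsg.Agent.Lib.Helper6.szSylow hσ hm hF : Subgroup (Cfsg.Sz F m)) :=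
        Sylow.pointwise_smul_def
      rw [h4, Cfsg.Agent.Lib.Helper6.coe_szSylow]
      rfl
    rw [h3]
    exact h2
  · right; left
    exact ⟨U, hU.cyclic, hU.card_mem, hMU⟩
  · right; right
    by_cases hKtop : K = ⊤
    · exfalso
      apply hM
      rw [eq_top_iff]
      intro x _
      rw [hiff, hKtop, Cfsg.Agent.Lib.Helper6.szSubK_top hσ hm hF]
      trivial
    · obtain ⟨k, hk1, hkm, hKcard, hkdiv⟩ :=
        Cfsg.Agent.Lib.Helper6.sz_subfield_card hF K hK3 hKtop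
      have : Fact (Nat.Prime 2) := ⟨Nat.prime_two⟩
      obtain ⟨ι, hι⟩ := Cfsg.Agent.Lib.Helper6.exists_galois_embedding K
        (j := 2 * k + 1) (by omega) hKcard
      let instFin : Fintype (GaloisField 2 (2 * k + 1)) := Fintype.ofFinite _
      have hK'card : Fintype.card (GaloisField 2 (2 * k + 1)) = 2 ^ (2 * k + 1) := by
        rw [← Nat.card_eq_fintype_card, GaloisField.card 2 (2 * k + 1) (by omega)]
      refine ⟨GaloisField 2 (2 * k + 1), inferInstance, instFin, k, hk1, hkm, hK'card, hkdiv, ?_⟩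
      obtain ⟨e⟩ := Cfsg.Agent.Lib.Helper6.nonempty_szSubK_equiv hk1 hK'card hF hkdiv ι hσ
      rw [hι] at e
      refine ⟨(Cfsg.Agent.Lib.Helper6.szSubK hσ K).map (MulAut.conj g⁻¹).toMonoidHom, ?_, ?_⟩
      · have e2 := (Cfsg.Agent.Lib.Helper6.szSubK hσ K).equivMapOfInjective
          (MulAut.conj g⁻¹).toMonoidHom (MulAut.conj g⁻¹).injective
        exact ⟨e2.symm.trans e⟩
      · intro x hx
        rw [Cfsg.Agent.Lib.Helper6.mem_map_conj, inv_inv]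
        exact (hiff x).mp hx

end Cfsg.Agent.S2251
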