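import Cfsg.Statements.S2254
import Cfsg.Agent.Lib.Helper96.NilpotentPerm
import Cfsg.Agent.Lib.Helper38.NilpThree

set_option autoImplicit false
open Cfsg

namespace Cfsg.Agent.S2254

open Cfsg.Agent.Lib.Helper96.NilpotentPerm Cfsg.Agent.Lib.Helper38.NilpThree in
/-- Let n ≡ 3 (mod 4). Then every nilpotent subgroup of the symmetric group on n letters has order at most 3 times the order of a Sylow 2-subgroup of the symmetric group on n − 3 letters; the bound is attained by a nilpotent subgroup isomorphic to the direct product of such a Sylow 2-subgroup with a cyclic group of order 3; and any two nilpotent subgroups attaining the bound are conjugate. -/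
theorem result  (n : ℕ) (hn : n % 4 = 3)
    (P : Sylow 2 (Equiv.Perm (Fin (n - 3)))) :
    (∀ N : Subgroup (Equiv.Perm (Fin n)), Group.IsNilpotent N → Nat.card N ≤ 3 * Nat.card P) ∧
    (∃ M : Subgroup (Equiv.Perm (Fin n)), Group.IsNilpotent M ∧ Nat.card M = 3 * Nat.card P ∧
      Nonempty (M ≃* (↥(P : Subgroup (Equiv.Perm (Fin (n - 3)))) × Multiplicative (ZMod 3)))) ∧
    (∀ N₁ N₂ : Subgroup (Equiv.Perm (Fin n)), Group.IsNilpotent N₁ → Group.IsNilpotent N₂ →
      Nat.card N₁ = 3 * Nat.card P → Nat.card N₂ = 3 * Nat.card P →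
      ∃ g : Equiv.Perm (Fin n), N₂ = N₁.map (MulAut.conj g).toMonoidHom) := by
  have : Fact (Nat.Prime 2) := ⟨Nat.prime_two⟩
  have hmn : (n - 3) + 3 = n := by omega
  have hm : (n - 3) % 4 = 0 := by omega
  have hPc : Nat.card P = 2 ^ (n - 3).factorial.factorization 2 := by
    rw [Sylow.card_eq_multiplicity, Nat.card_perm]
    simp
  have hΩ : Fintype.card (Fin n) = (n - 3) + 3 := by simp [hmn]
  refine ⟨?_, ?_, ?_⟩
  · intro N hN
    have h1 : Nat.card N ≤ s2' n := card_le_s2' n (Fin n) (by simp) N hN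
    unfold s2' at h1
    rw [if_pos hn] at h1
    rw [hPc]
    exact h1
  · obtain ⟨h1, ⟨e⟩⟩ := exists_nilpotent (n - 3) n hmn (P : Subgroup _) P.isPGroup'
    refine ⟨_, h1, ?_, ⟨e⟩⟩
    rw [Nat.card_congr e.toEquiv, Nat.card_prod]
    simp [mul_comm]
  · intro N₁ N₂ hN₁ hN₂ c₁ c₂
    obtain ⟨z₁, Q₁, hz₁, hQ₁, hc₁, rfl⟩ := structure_of_card (n - 3) _ hΩ hm (Nat.le_succ _) N₁ hN₁
      (by rw [c₁, hPc])
    obtain ⟨z₂, Q₂, hz₂, hQ₂, hc₂, rfl⟩ := structure_of_card (n - 3) _ hΩ hm (Nat.le_succ _) N₂ hN₂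
      (by rw [c₂, hPc])
    exact conj_of_structure (n - 3) hΩ z₁ z₂ Q₁ Q₂ hz₁ hz₂ hQ₁ hQ₂ hc₁ hc₂

end Cfsg.Agent.S2254
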