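import Cfsg.Statements.S2255
import Cfsg.Agent.Lib.Helper96.NilpotentAlt

set_option autoImplicit false
open Cfsg

namespace Cfsg.Agent.S2255

open Cfsg.Agent.Lib.Helper96.NilpotentPerm in
/-- Let n be a natural number not congruent to 3 modulo 4, with n ∉ {5, 6, 9}. Then every nilpotent subgroup of the alternating group on n letters has order at most the order of a Sylow 2-subgroup of the alternating group (so the nilpotent subgroups of largest order are exactly the Sylow 2-subgroups). -/
theorem result  (n : ℕ) (hn : n % 4 ≠ 3)
    (h5 : n ≠ 5) (h6 : n ≠ 6) (h9 : n ≠ 9)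
    (N : Subgroup (alternatingGroup (Fin n))) (hN : Group.IsNilpotent N)
    (P : Sylow 2 (alternatingGroup (Fin n))) :
    Nat.card N ≤ Nat.card P := by
  rcases Nat.lt_or_ge n 2 with hn2 | hn2
  · have hss : Subsingleton (Equiv.Perm (Fin n)) := by
      interval_cases n <;> infer_instance
    have hss' : Subsingleton (alternatingGroup (Fin n)) := inferInstance
    have h1 : Nat.card N = 1 := Nat.card_unique
    rw [h1]
    exact Nat.card_pos
  · have hnt : Nontrivial (Fin n) := Fin.nontrivial_iff_two_le.2 hn2
    have := hN
    have hinj : Function.Injective (alternatingGroup (Fin n)).subtype :=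
      Subgroup.subtype_injective _
    have hcardN' : Nat.card (N.map (alternatingGroup (Fin n)).subtype) = Nat.card N :=
      Subgroup.card_map_of_injective hinj
    have hN' : Group.IsNilpotent (N.map (alternatingGroup (Fin n)).subtype) :=
      Group.nilpotent_of_mulEquiv (N.equivMapOfInjective _ hinj)
    have hsign : ∀ g ∈ N.map (alternatingGroup (Fin n)).subtype, Equiv.Perm.sign g = 1 := by
      rintro _ ⟨g, _, rfl⟩
      exact Equiv.Perm.mem_alternatingGroup.1 g.2
    have h1 := two_mul_card_le_gA n (Fin n) (Nat.card_fin n) _ hN' hsign
    rw [hcardN', gA_eq n (by omega) (by omega) (by omega) h5 h6 h9] at h1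
    have h2 : s2' n = s2 n := by
      unfold s2'
      rw [if_neg hn]
    rw [h2] at h1
    have h3 : 2 * Nat.card P = s2 n := by
      have hf : Fact (Nat.Prime 2) := ⟨Nat.prime_two⟩
      rw [Sylow.card_eq_multiplicity]
      have h4 := two_mul_nat_card_alternatingGroup (α := Fin n)
      rw [Nat.card_perm, Nat.card_fin] at h4
      have h5 : n.factorial.factorization 2 =
          1 + (Nat.card (alternatingGroup (Fin n))).factorization 2 := by
        rw [← h4, Nat.factorization_mul two_ne_zero Nat.card_pos.ne']
        simp [Nat.prime_two.factorization_self]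
      unfold s2
      rw [h5, pow_add, pow_one]
    omega

end Cfsg.Agent.S2255
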