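import Cfsg.Statements.S2256
import Cfsg.Agent.Lib.Helper96.NilpotentAlt
import Cfsg.Agent.Lib.Helper38.NilpThreeAlt

set_option autoImplicit false
open Cfsg

namespace Cfsg.Agent.S2256

open Cfsg.Agent.Lib.Helper96.NilpotentPerm Cfsg.Agent.Lib.Helper38.NilpThree in
/-- Let n ≡ 3 (mod 4) with n ≥ 7. Then every nilpotent subgroup of the alternating group on n letters has order at most 3 times the order of a Sylow 2-subgroup of the alternating group on n − 3 letters; the bound is attained by a nilpotent subgroup isomorphic to the direct product of such a Sylow 2-subgroup with a cyclic group of order 3; and any two nilpotent subgroups of the alternating group attaining the bound are conjugate in it. -/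
theorem result  (n : ℕ) (hn : n % 4 = 3) (h7 : 7 ≤ n)
    (P : Sylow 2 (alternatingGroup (Fin (n - 3)))) :
    (∀ N : Subgroup (alternatingGroup (Fin n)), Group.IsNilpotent N → Nat.card N ≤ 3 * Nat.card P) ∧
    (∃ M : Subgroup (alternatingGroup (Fin n)), Group.IsNilpotent M ∧ Nat.card M = 3 * Nat.card P ∧
      Nonempty (M ≃* (↥(P : Subgroup (alternatingGroup (Fin (n - 3)))) × Multiplicative (ZMod 3)))) ∧
    (∀ N₁ N₂ : Subgroup (alternatingGroup (Fin n)), Group.IsNilpotent N₁ → Group.IsNilpotent N₂ →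
      Nat.card N₁ = 3 * Nat.card P → Nat.card N₂ = 3 * Nat.card P →
      ∃ g : alternatingGroup (Fin n), N₂ = N₁.map (MulAut.conj g).toMonoidHom) := by
  have : Fact (Nat.Prime 2) := ⟨Nat.prime_two⟩
  have hmn : (n - 3) + 3 = n := by omega
  have hm : (n - 3) % 4 = 0 := by omega
  have hm4 : 4 ≤ n - 3 := by omega
  have hnt : Nontrivial (Fin (n - 3)) := Fin.nontrivial_iff_two_le.2 (by omega)
  have hΩ : Fintype.card (Fin n) = (n - 3) + 3 := by simp [hmn]
  -- the order of P
  obtain ⟨k, hk⟩ : ∃ k, k = (Nat.card (alternatingGroup (Fin (n - 3)))).factorization 2 := ⟨_, rfl⟩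
  have hPk : Nat.card P = 2 ^ k := by rw [Sylow.card_eq_multiplicity, hk]
  have hfac : (n - 3).factorial.factorization 2 = 1 + k := by
    have h4 := two_mul_nat_card_alternatingGroup (α := Fin (n - 3))
    rw [Nat.card_perm, Nat.card_fin] at h4
    rw [← h4, Nat.factorization_mul two_ne_zero Nat.card_pos.ne', hk]
    simp [Nat.prime_two.factorization_self]
  have hs2 : s2 (n - 3) = 2 * Nat.card P := by
    unfold s2
    rw [hfac, pow_add, pow_one, hPk]
  have hinj : Function.Injective (alternatingGroup (Fin n)).subtype :=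
    Subgroup.subtype_injective _
  -- transfer of a subgroup of `A_n` to `Perm (Fin n)`
  have key : ∀ N : Subgroup (alternatingGroup (Fin n)), Group.IsNilpotent N →
      Group.IsNilpotent (N.map (alternatingGroup (Fin n)).subtype) ∧
      Nat.card (N.map (alternatingGroup (Fin n)).subtype) = Nat.card N ∧
      N.map (alternatingGroup (Fin n)).subtype ≤ alternatingGroup (Fin n) := by
    intro N hN
    have := hN
    refine ⟨Group.nilpotent_of_mulEquiv (N.equivMapOfInjective _ hinj),
      Subgroup.card_map_of_injective hinj, ?_⟩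
    rintro _ ⟨g, _, rfl⟩
    exact g.2
  refine ⟨?_, ?_, ?_⟩
  · intro N hN
    obtain ⟨hN', hcardN', hle⟩ := key N hN
    have h1 := Cfsg.Agent.Lib.Helper96.NilpotentPerm.two_mul_card_le_gA n (Fin n) (Nat.card_fin n) _ hN'
      (fun g hg => Equiv.Perm.mem_alternatingGroup.1 (hle hg))
    rw [hcardN', gA_eq n (by omega) (by omega) (by omega) (by omega) (by omega) (by omega)] at h1
    unfold s2' at h1
    rw [if_pos hn, hs2] at h1
    omega
  · have hB : Nat.card (Subgroup.zpowers c3) = 3 := by rw [Nat.card_zpowers, orderOf_c3]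
    obtain ⟨h1, ⟨e⟩⟩ := exists_nilpotent_gen (embedAlt (n - 3) n hmn) (embedAlt_injective _ _ _)
      (P : Subgroup _) P.isPGroup' hB
    refine ⟨_, h1, ?_, ⟨e⟩⟩
    rw [Nat.card_congr e.toEquiv, Nat.card_prod]
    simp [mul_comm]
  · intro N₁ N₂ hN₁ hN₂ c₁ c₂
    obtain ⟨hN₁', hcard₁, hle₁⟩ := key N₁ hN₁
    obtain ⟨hN₂', hcard₂, hle₂⟩ := key N₂ hN₂
    obtain ⟨z₁, Q₁, hz₁, hQ₁, hc₁, e₁⟩ := structure_of_card (n - 3) k hΩ hm (by omega) _ hN₁'
      (by rw [hcard₁, c₁, hPk])
    obtain ⟨z₂, Q₂, hz₂, hQ₂, hc₂, e₂⟩ := structure_of_card (n - 3) k hΩ hm (by omega) _ hN₂'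
      (by rw [hcard₂, c₂, hPk])
    have hA₁ : Q₁ ≤ alternatingGroup (Fin n) := by
      refine le_trans ?_ hle₁
      rw [e₁]; exact le_sup_left
    have hA₂ : Q₂ ≤ alternatingGroup (Fin n) := by
      refine le_trans ?_ hle₂
      rw [e₂]; exact le_sup_left
    obtain ⟨g, hgs, hconj⟩ := conj_of_structure_alt (n - 3) hΩ (by omega) z₁ z₂ Q₁ Q₂ hz₁ hz₂
      hQ₁ hQ₂ hA₁ hA₂ (by rw [hc₁, hfac, pow_add, pow_one]) (by rw [hc₂, hfac, pow_add, pow_one])
    refine ⟨⟨g, Equiv.Perm.mem_alternatingGroup.2 hgs⟩, ?_⟩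
    apply Subgroup.map_injective hinj
    rw [e₂, hconj, ← e₁, Subgroup.map_map, Subgroup.map_map]
    congr 1

end Cfsg.Agent.S2256
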