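import Cfsg.Statements.S2257
import Cfsg.Agent.Lib.Helper38.SolCount
import Cfsg.Agent.Lib.Helper41.SL2Order
import Cfsg.Agent.Lib.Helper41.SL2Nonsplit
import Cfsg.Agent.Lib.Helper41.SL2Trace
-- import your own Cfsg.Agent.* helpers here

set_option autoImplicit false
open Cfsg

namespace Cfsg.Agent.S2257

open Cfsg.Agent.Lib.Helper41 Cfsg.Agent.Lib.Helper38.SolMat Cfsg.Agent.Lib.Helper38.SolGen
  Cfsg.Agent.Lib.Helper38.SolStruct Cfsg.Agent.Lib.Helper38.SolCount

section Aux

variable {F : Type*} [Field F]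

local notation "SL2" => Matrix.SpecialLinearGroup (Fin 2) F
local notation "PSL2" => Matrix.ProjectiveSpecialLinearGroup (Fin 2) F

theorem center_eq_bot [CharP F 2] : Subgroup.center SL2 = ⊥ := by
  rw [eq_bot_iff]
  intro A hA
  rw [mem_center_iff_pm] at hA
  rw [Subgroup.mem_bot]
  apply Subtype.ext
  rcases hA with h | h
  · rw [h]; rfl
  · rw [h, neg_one_eq_one_of_two_eq_zero two_eq_zero']; rfl

/-- `SL₂(F) ≃* PSL₂(F)` in characteristic two -/
noncomputable def slEquiv [CharP F 2] : SL2 ≃* PSL2 :=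
  MulEquiv.ofBijective (QuotientGroup.mk' (Subgroup.center SL2))
    ⟨by rw [← MonoidHom.ker_eq_bot_iff, QuotientGroup.ker_mk', center_eq_bot],
     QuotientGroup.mk'_surjective _⟩

theorem card_sol_conj (c X : SL2) :
    Nat.card {y : SL2 // Group.IsSolvable ↥(Subgroup.closure ({X, y} : Set SL2))} =
    Nat.card {y : SL2 // Group.IsSolvable ↥(Subgroup.closure ({c * X * c⁻¹, y} : Set SL2))} := by
  have h := card_sol_congr (MulAut.conj c : SL2 ≃* SL2) X
  rw [MulAut.conj_apply] at h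
  exact h

theorem odd_two_pow_sub_one (p : ℕ) (hp : p ≠ 0) : Odd (2 ^ p - 1) :=
  Nat.Even.sub_odd Nat.one_le_two_pow ((Nat.even_pow).mpr ⟨even_two, hp⟩) odd_one

theorem odd_two_pow_add_one (p : ℕ) (hp : p ≠ 0) : Odd (2 ^ p + 1) :=
  Even.add_one ((Nat.even_pow).mpr ⟨even_two, hp⟩)

theorem coprime_sub_add (p : ℕ) (hp : p ≠ 0) : Nat.Coprime (2 ^ p - 1) (2 ^ p + 1) := by
  have h1 : 2 ^ p + 1 = 2 + (2 ^ p - 1) := by
    have : 1 ≤ 2 ^ p := Nat.one_le_two_pow
    omega
  rw [h1, Nat.coprime_add_self_right]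
  exact (Nat.coprime_two_right).mpr (odd_two_pow_sub_one p hp)

theorem eq_one_of_orderOf_dvd_coprime {G : Type*} [Group G] (g : G) (a b : ℕ) (hab : Nat.Coprime a b)
    (ha : orderOf g ∣ a) (hb : orderOf g ∣ b) : g = 1 := by
  have : orderOf g ∣ Nat.gcd a b := Nat.dvd_gcd ha hb
  rw [hab.gcd_eq_one, Nat.dvd_one] at this
  exact orderOf_eq_one_iff.mp this

variable [Fintype F] [CharP F 2]

omit [Fintype F] in
theorem tr2_ne_zero_of_odd_order (X : SL2) (hX : X ≠ 1) (m : ℕ) (hm : Odd m)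
    (hdvd : orderOf X ∣ m) : tr2 X ≠ 0 := by
  intro h
  have hXX : X * X = 1 := sq_eq_one_of_tr2 X h
  have h2 : orderOf X ∣ 2 := orderOf_dvd_of_pow_eq_one (by rw [pow_two]; exact hXX)
  exact hX (eq_one_of_orderOf_dvd_coprime X 2 m ((Nat.coprime_two_left).mpr hm) h2 hdvd)

omit [Fintype F] in
theorem tr2_sq_ne_four (X : SL2) (h : tr2 X ≠ 0) : (tr2 X) ^ 2 ≠ 4 := by
  intro h4
  apply h
  have h2 : (2 : F) = 0 := two_eq_zero'
  have : tr2 X * tr2 X = 0 := by linear_combination h4 + 2 * h2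
  exact mul_self_eq_zero.mp this

theorem pow_card_sub_one_of_root (X : SL2) (ht : tr2 X ≠ 0) (r : F)
    (hr : r ^ 2 = -1 + tr2 X * r) : X ^ (Fintype.card F - 1) = 1 := by
  obtain ⟨u, hu⟩ := isConj_diagHom_of_root X (tr2_sq_ne_four X ht) r hr
  obtain ⟨c, hc⟩ := isConj_iff.mp hu
  rw [← hc, conj_pow, ← map_pow]
  have : u ^ (Fintype.card F - 1) = 1 := by
    classical
    rw [← Fintype.card_units]
    exact pow_card_eq_one
  rw [this, map_one, mul_one, mul_inv_cancel]

end Aux

/-- Let G = PSL_2(F) with F a field of order q = 2^p, p prime, and for x ∈ G call the solubilizer of x the set of y ∈ G such that x and y generate a solvable subgroup. Then the solubilizer of an involution has 3q(q − 1) elements; that of a non-identity element of order dividing q − 1 has 2q(q − 1) elements; and that of a non-identity element of order dividing q + 1 has 2(q + 1) elements. -/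
theorem result (p : ℕ) (hp : p.Prime) {F : Type*} [Field F] [Fintype F]
    (hF : Fintype.card F = 2 ^ p) (x : Matrix.ProjectiveSpecialLinearGroup (Fin 2) F) :
    (orderOf x = 2 → Nat.card {y : Matrix.ProjectiveSpecialLinearGroup (Fin 2) F // Group.IsSolvable ↥(Subgroup.closure ({x, y} : Set (Matrix.ProjectiveSpecialLinearGroup (Fin 2) F)))} = 3 * 2 ^ p * (2 ^ p - 1)) ∧
    (x ≠ 1 → orderOf x ∣ 2 ^ p - 1 → Nat.card {y : Matrix.ProjectiveSpecialLinearGroup (Fin 2) F // Group.IsSolvable ↥(Subgroup.closure ({x, y} : Set (Matrix.ProjectiveSpecialLinearGroup (Fin 2) F)))} = 2 * 2 ^ p * (2 ^ p - 1)) ∧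
    (x ≠ 1 → orderOf x ∣ 2 ^ p + 1 → Nat.card {y : Matrix.ProjectiveSpecialLinearGroup (Fin 2) F // Group.IsSolvable ↥(Subgroup.closure ({x, y} : Set (Matrix.ProjectiveSpecialLinearGroup (Fin 2) F)))} = 2 * (2 ^ p + 1)) := by
  have hfact : Fact (Nat.Prime 2) := ⟨Nat.prime_two⟩
  have hchar : CharP F 2 := charP_of_card_eq_prime_pow hF
  have hp0 : p ≠ 0 := hp.ne_zero
  set e := slEquiv (F := F) with he
  set X := e.symm x with hX
  have hxX : x = e X := by rw [hX, MulEquiv.apply_symm_apply]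
  have hord : orderOf X = orderOf x := MulEquiv.orderOf_eq e.symm x
  have hX1 : x ≠ 1 → X ≠ 1 := by
    intro h h'
    apply h
    rw [hxX, h', map_one]
  have hcount := card_sol_congr e X
  rw [← hxX] at hcount
  rw [← hcount, ← hF, ← hord]
  refine ⟨?_, ?_, ?_⟩
  · intro h2
    have hX1' : X ≠ 1 := by
      intro h
      rw [h, orderOf_one] at h2
      omega
    have hXX : X * X = 1 := by
      have h3 := pow_orderOf_eq_one X
      rw [h2, pow_two] at h3
      exact h3
    have ht : tr2 X = 0 := tr2_eq_zero_of_sq X hXX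
    obtain ⟨g, s, hs, hgs⟩ := exists_conj_upperU' X ht hX1'
    have h1 := card_sol_conj g⁻¹ X
    rw [inv_inv, hgs] at h1
    rw [h1, card_sol_upperU s hs]
  · intro hx1 hdvd
    have hX1' := hX1 hx1
    rw [hF] at hdvd
    have ht : tr2 X ≠ 0 :=
      tr2_ne_zero_of_odd_order X hX1' _ (odd_two_pow_sub_one p hp0) hdvd
    have hroot : ∃ r : F, r ^ 2 = -1 + tr2 X * r := by
      by_contra hns
      push Not at hns
      have h1 := pow_card_add_one_eq_one X hns
      rw [coe_pow_eq_one_iff] at h1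
      have h2 : orderOf X ∣ Fintype.card F + 1 := orderOf_dvd_of_pow_eq_one h1
      rw [hF] at h2
      exact hX1' (eq_one_of_orderOf_dvd_coprime X _ _ (coprime_sub_add p hp0)
        hdvd h2)
    obtain ⟨r, hr⟩ := hroot
    obtain ⟨u, hu⟩ := isConj_diagHom_of_root X (tr2_sq_ne_four X ht) r hr
    obtain ⟨c, hc⟩ := isConj_iff.mp hu
    have hu1 : u ≠ 1 := by
      intro h
      apply hX1'
      rw [← hc, h, map_one, mul_one, mul_inv_cancel]
    have h1 := card_sol_conj c (diagHom u)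
    rw [hc] at h1
    rw [← h1, card_sol_diag u hu1]
  · intro hx1 hdvd
    have hX1' := hX1 hx1
    rw [hF] at hdvd
    have ht : tr2 X ≠ 0 :=
      tr2_ne_zero_of_odd_order X hX1' _ (odd_two_pow_add_one p hp0) hdvd
    have hns : ∀ r : F, r ^ 2 ≠ -1 + tr2 X * r := by
      intro r hr
      have h1 := pow_card_sub_one_of_root X ht r hr
      have h2 : orderOf X ∣ Fintype.card F - 1 := orderOf_dvd_of_pow_eq_one h1
      rw [hF] at h2
      exact hX1' (eq_one_of_orderOf_dvd_coprime X _ _ (coprime_sub_add p hp0) h2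
        hdvd)
    obtain ⟨P, hP⟩ := exists_conj_companion X (tr2_sq_ne_four X ht)
    have hPc : P * companion (tr2 X) * P⁻¹ = X := by
      rw [← hP]; group
    have h1 := card_sol_conj P (companion (tr2 X))
    rw [hPc] at h1
    rw [← h1, card_sol_companion (tr2 X) hns]

end Cfsg.Agent.S2257
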