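import Cfsg.Statements.S2258
import Cfsg.Agent.Lib.Helper39.Sol3PSL
-- import your own Cfsg.Agent.* helpers here

set_option autoImplicit false
open Cfsg

namespace Cfsg.Agent.S2258

/-- Let G = PSL_2(F) with F a field of order q = 3^p, p an odd prime, and for x ∈ G call the solubilizer of x the set of y ∈ G such that x and y generate a solvable subgroup. Then the solubilizer of an involution has q(q + 1) elements; that of an element of order 3 has q(q + 5)/2 elements; that of an element of order neither 1 nor 2 dividing q − 1 has q(q − 1) elements; and that of an element of order neither 1 nor 2 dividing q + 1 has q + 1 elements. -/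
theorem result (p : ℕ) (hp : p.Prime) (hodd : Odd p) {F : Type*} [Field F] [Fintype F]
    (hF : Fintype.card F = 3 ^ p) (x : Matrix.ProjectiveSpecialLinearGroup (Fin 2) F) :
    (orderOf x = 2 → Nat.card {y : Matrix.ProjectiveSpecialLinearGroup (Fin 2) F // Group.IsSolvable ↥(Subgroup.closure ({x, y} : Set (Matrix.ProjectiveSpecialLinearGroup (Fin 2) F)))} = 3 ^ p * (3 ^ p + 1)) ∧
    (orderOf x = 3 → 2 * Nat.card {y : Matrix.ProjectiveSpecialLinearGroup (Fin 2) F // Group.IsSolvable ↥(Subgroup.closure ({x, y} : Set (Matrix.ProjectiveSpecialLinearGroup (Fin 2) F)))} = 3 ^ p * (3 ^ p + 5)) ∧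
    (x ≠ 1 → orderOf x ≠ 2 → orderOf x ∣ 3 ^ p - 1 → Nat.card {y : Matrix.ProjectiveSpecialLinearGroup (Fin 2) F // Group.IsSolvable ↥(Subgroup.closure ({x, y} : Set (Matrix.ProjectiveSpecialLinearGroup (Fin 2) F)))} = 3 ^ p * (3 ^ p - 1)) ∧
    (x ≠ 1 → orderOf x ≠ 2 → orderOf x ∣ 3 ^ p + 1 → Nat.card {y : Matrix.ProjectiveSpecialLinearGroup (Fin 2) F // Group.IsSolvable ↥(Subgroup.closure ({x, y} : Set (Matrix.ProjectiveSpecialLinearGroup (Fin 2) F)))} = 3 ^ p + 1) := by
  open Cfsg.Agent.Lib.Helper41 Cfsg.Agent.Lib.Helper39.Sol3 in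
  have hfact : Fact (Nat.Prime 3) := ⟨Nat.prime_three⟩
  have hchar : CharP F 3 := charP_of_card_eq_prime_pow hF
  have h2 : (2 : F) ≠ 0 := two_ne_zero_of_char_three
  have hp0 : p ≠ 0 := hp.ne_zero
  have h3q : 3 ∣ Fintype.card F := by
    rw [hF]; exact dvd_pow_self 3 hp0
  have hm : ∀ r : F, r * r ≠ -1 := by
    intro r hr
    have hsq : IsSquare (-1 : F) := ⟨r, hr.symm⟩
    rw [FiniteField.isSquare_neg_one_iff, hF] at hsq
    apply hsq
    obtain ⟨k, rfl⟩ := hodd
    rw [pow_succ, pow_mul]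
    norm_num [Nat.mul_mod, Nat.pow_mod]
  have hq1 : 1 ≤ Fintype.card F := Fintype.card_pos
  rw [← hF]
  refine ⟨?_, ?_, ?_, ?_⟩
  · -- involutions
    intro ho
    obtain ⟨X, hX⟩ := QuotientGroup.mk_surjective x
    have hx1 : x ≠ 1 := by
      intro h
      rw [h, orderOf_one] at ho
      omega
    have hxx : x ^ 2 = 1 := by
      have := pow_orderOf_eq_one x
      rwa [ho] at this
    have ht : tr2 X = 0 := tr2_eq_zero_of_mk_sq h2 X (by rw [hX]; exact hxx) (by rw [hX]; exact hx1)
    have ht4 : (tr2 X) ^ 2 ≠ 4 := by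
      rw [ht, four_eq_one_of_char_three]; simp
    obtain ⟨c, hc⟩ := isConj_iff.mp (isConj_of_tr2_eq X (companion 0) ht4
      (by rw [ht, tr2_companion]))
    have h1 := card_sol_mk h2 X
    rw [card_sol_conj' c X, hc, card_sol_companion_zero hm, hX] at h1
    have : 2 * (Fintype.card F * (Fintype.card F + 1)) = 2 * Nat.card {y : Matrix.ProjectiveSpecialLinearGroup (Fin 2) F // Group.IsSolvable ↥(Subgroup.closure ({x, y} : Set (Matrix.ProjectiveSpecialLinearGroup (Fin 2) F)))} := by
      rw [← h1]; ring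
    exact (Nat.eq_of_mul_eq_mul_left (by norm_num) this).symm
  · -- elements of order three
    intro ho
    obtain ⟨X, hX, ht, hX1⟩ := exists_lift_unipotent x ho
    obtain ⟨c, s, hs, hc⟩ := Cfsg.Agent.Lib.Helper39.exists_conj_upperU_of_tr2 X ht hX1
    have h1 := card_sol_mk h2 X
    have h4 := card_sol_conj' c⁻¹ X
    rw [inv_inv, hc] at h4
    rw [h4, card_sol_upperU hm s hs, hX] at h1
    rw [← h1]
    obtain ⟨m, hm'⟩ := Nat.exists_eq_add_of_le hq1
    rw [hm', Nat.add_sub_cancel_left]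
    ring
  · -- split semisimple elements
    intro hx1 hx2 hdvd
    obtain ⟨X, hX⟩ := QuotientGroup.mk_surjective x
    rw [← hX] at hx1 hx2 hdvd
    obtain ⟨u, hu, hne⟩ := split_of_orderOf_dvd_sub h3q X hx1 hx2 hdvd
    obtain ⟨c, hc⟩ := isConj_iff.mp hu
    have h1 := card_sol_mk h2 X
    have h4 := card_sol_conj' c (diagHom u)
    rw [hc] at h4
    rw [← h4, card_sol_diagHom hm u hne, hX] at h1
    have : 2 * (Fintype.card F * (Fintype.card F - 1)) = 2 * Nat.card {y : Matrix.ProjectiveSpecialLinearGroup (Fin 2) F // Group.IsSolvable ↥(Subgroup.closure ({x, y} : Set (Matrix.ProjectiveSpecialLinearGroup (Fin 2) F)))} := by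
      rw [← h1]; ring
    exact (Nat.eq_of_mul_eq_mul_left (by norm_num) this).symm
  · -- nonsplit semisimple elements
    intro hx1 hx2 hdvd
    obtain ⟨X, hX⟩ := QuotientGroup.mk_surjective x
    rw [← hX] at hx1 hx2 hdvd
    obtain ⟨hns, ht0⟩ := nonsplit_of_orderOf_dvd_add h3q X hx1 hx2 hdvd
    have ht4 := tr2_sq_ne_four_of_nonsplit h2 X hns
    obtain ⟨c, hc⟩ := isConj_iff.mp (isConj_of_tr2_eq X (companion (tr2 X)) ht4
      (by rw [tr2_companion]))
    have h1 := card_sol_mk h2 X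
    rw [card_sol_conj' c X, hc, card_sol_companion hm (tr2 X) ht0 hns, hX] at h1
    exact (Nat.eq_of_mul_eq_mul_left (by norm_num) h1).symm

end Cfsg.Agent.S2258
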