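import Cfsg.Statements.S2259
import Cfsg.Agent.Lib.Helper6.SzSol10
import Cfsg.Agent.Lib.Helper95.SzIso

set_option autoImplicit false
open Cfsg

namespace Cfsg.Agent.S2259

/-- Let G be the Suzuki group Sz(q), q = 2^(2m+1) with 2m + 1 prime and m ≥ 1, realised inside Sp_4(F) for F the field of order q, write r = 2^(m+1) (so r² = 2q), and for x ∈ G call the solubilizer of x the set of y ∈ G such that x and y generate a solvable subgroup. Then the solubilizer of an involution has q²(4q − 3) elements; that of an element of order 4 has q²(q + 3) elements; that of a non-identity element of order dividing q − 1 has 2q²(q − 1) elements; that of a non-identity element of order dividing q + r + 1 has 4(q + r + 1) elements; and that of a non-identity element of order dividing q − r + 1 has 4(q − r + 1) elements. -/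
theorem result {F : Type*} [Field F] [Fintype F] {m : ℕ} (hm : 1 ≤ m)
    (hp : (2 * m + 1).Prime) (hF : Fintype.card F = 2 ^ (2 * m + 1)) (x : ↥(Cfsg.Lie.Sz F (2 ^ (m + 1)))) :
    (orderOf x = 2 → Nat.card {y : ↥(Cfsg.Lie.Sz F (2 ^ (m + 1))) // Group.IsSolvable ↥(Subgroup.closure ({x, y} : Set (↥(Cfsg.Lie.Sz F (2 ^ (m + 1))))))} = (2 ^ (2 * m + 1)) ^ 2 * (4 * 2 ^ (2 * m + 1) - 3)) ∧
    (orderOf x = 4 → Nat.card {y : ↥(Cfsg.Lie.Sz F (2 ^ (m + 1))) // Group.IsSolvable ↥(Subgroup.closure ({x, y} : Set (↥(Cfsg.Lie.Sz F (2 ^ (m + 1))))))} = (2 ^ (2 * m + 1)) ^ 2 * (2 ^ (2 * m + 1) + 3)) ∧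
    (x ≠ 1 → orderOf x ∣ 2 ^ (2 * m + 1) - 1 →
      Nat.card {y : ↥(Cfsg.Lie.Sz F (2 ^ (m + 1))) // Group.IsSolvable ↥(Subgroup.closure ({x, y} : Set (↥(Cfsg.Lie.Sz F (2 ^ (m + 1))))))} = 2 * (2 ^ (2 * m + 1)) ^ 2 * (2 ^ (2 * m + 1) - 1)) ∧
    (x ≠ 1 → orderOf x ∣ 2 ^ (2 * m + 1) + 2 ^ (m + 1) + 1 → Nat.card {y : ↥(Cfsg.Lie.Sz F (2 ^ (m + 1))) // Group.IsSolvable ↥(Subgroup.closure ({x, y} : Set (↥(Cfsg.Lie.Sz F (2 ^ (m + 1))))))} = 4 * (2 ^ (2 * m + 1) + 2 ^ (m + 1) + 1)) ∧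
    (x ≠ 1 → orderOf x ∣ 2 ^ (2 * m + 1) - 2 ^ (m + 1) + 1 → Nat.card {y : ↥(Cfsg.Lie.Sz F (2 ^ (m + 1))) // Group.IsSolvable ↥(Subgroup.closure ({x, y} : Set (↥(Cfsg.Lie.Sz F (2 ^ (m + 1))))))} = 4 * (2 ^ (2 * m + 1) - 2 ^ (m + 1) + 1)) := by
  have hchar : CharP F 2 := Cfsg.Agent.Lib.Helper6.sz_charP hF
  set e := (Cfsg.Agent.Lib.Helper95.szIso hm hF).symm with he
  have hcard : Nat.card {y : ↥(Cfsg.Lie.Sz F (2 ^ (m + 1))) //
      Group.IsSolvable ↥(Subgroup.closure ({x, y} : Set (↥(Cfsg.Lie.Sz F (2 ^ (m + 1))))))} =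
      Set.ncard {y : ↥(Cfsg.Sz F m) |
        Group.IsSolvable ↥(Subgroup.closure ({e x, y} : Set ↥(Cfsg.Sz F m)))} := by
    rw [Cfsg.Agent.Lib.Helper6.card_sol_congr e x]
    exact Nat.card_coe_set_eq _
  rw [hcard]
  have hord : orderOf (e x) = orderOf x := MulEquiv.orderOf_eq e x
  have hne : x ≠ 1 → e x ≠ 1 := fun h h' => h (by simpa using h')
  refine ⟨?_, ?_, ?_, ?_, ?_⟩
  · intro hx
    exact Cfsg.Agent.Lib.Helper6.sol_ncard_involution hm hF hp (hord.trans hx)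
  · intro hx
    exact Cfsg.Agent.Lib.Helper6.sol_ncard_four hm hF hp (hord.trans hx)
  · intro hx1 hdvd
    exact Cfsg.Agent.Lib.Helper6.sol_ncard_split hm hF hp (hne hx1) (hord ▸ hdvd)
  · intro hx1 hdvd
    exact Cfsg.Agent.Lib.Helper6.sol_ncard_nonsplit hm hF hp (hne hx1) (Or.inl rfl) (hord ▸ hdvd)
  · intro hx1 hdvd
    exact Cfsg.Agent.Lib.Helper6.sol_ncard_nonsplit hm hF hp (hne hx1) (Or.inr rfl) (hord ▸ hdvd)

end Cfsg.Agent.S2259
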