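import Cfsg.Statements.S2260
-- import your own Cfsg.Agent.* helpers here

set_option autoImplicit false
open Cfsg

namespace Cfsg.Agent.S2260


theorem nilp_pow_card {F : Type*} [Field F] {d : ℕ} (N : Matrix (Fin d) (Fin d) F)
    (hN : IsNilpotent N) : N ^ d = 0 := by
  have h1 := Matrix.isNilpotent_charpoly_sub_pow_of_isNilpotent hN
  have h2 : N.charpoly - Polynomial.X ^ (Fintype.card (Fin d)) = 0 := h1.eq_zero
  have h3 : N.charpoly = Polynomial.X ^ d := by
    have := sub_eq_zero.mp h2
    simpa using this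
  have h4 := Matrix.aeval_self_charpoly N
  rw [h3] at h4
  simpa using h4

theorem pow_eq_one_of_le {F : Type*} [Field F] (p : ℕ) [Fact p.Prime] [CharP F p] {d : ℕ}
    (hd : 0 < d) (M : Matrix (Fin d) (Fin d) F) (hM : IsNilpotent (M - 1)) (k : ℕ) :
    (M - 1) ^ (p ^ k) = M ^ (p ^ k) - 1 := by
  haveI : Nonempty (Fin d) := ⟨⟨0, hd⟩⟩
  have hc : Commute M (1 : Matrix (Fin d) (Fin d) F) := Commute.one_right M
  have := sub_pow_char_pow_of_commute (p := p) (n := k) hc
  simpa using this

/-- Let F be a finite field of prime characteristic p and u an invertible d × d matrix over F with u − 1 nilpotent (a unipotent element). Then the order of u is at most p^⌈log_p d⌉; and if moreover (u − 1)^(d−1) ≠ 0 (u is a single Jordan block) then the order of u is exactly p^⌈log_p d⌉. -/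
theorem result {F : Type*} [Field F] [Finite F] (p : ℕ) [Fact p.Prime] [CharP F p] (d : ℕ)
    (u : GL (Fin d) F) (hu : IsNilpotent ((u : Matrix (Fin d) (Fin d) F) - 1)) :
    orderOf u ≤ p ^ Nat.clog p d ∧
    (((u : Matrix (Fin d) (Fin d) F) - 1) ^ (d - 1) ≠ 0 → orderOf u = p ^ Nat.clog p d) := by
  rcases Nat.eq_zero_or_pos d with hd0 | hdpos
  · subst hd0
    have hsub : Subsingleton (GL (Fin 0) F) := by
      refine ⟨fun a b => ?_⟩
      apply Units.ext
      apply Subsingleton.elim
    have hu1 : u = 1 := Subsingleton.elim _ _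
    subst hu1
    refine ⟨by simp, fun _ => by simp⟩
  set N : Matrix (Fin d) (Fin d) F := (u : Matrix (Fin d) (Fin d) F) - 1 with hNdef
  have hp : p.Prime := Fact.out
  have hNd : N ^ d = 0 := nilp_pow_card N hu
  have key : ∀ k : ℕ, N ^ (p ^ k) = (u : Matrix (Fin d) (Fin d) F) ^ (p ^ k) - 1 :=
    fun k => pow_eq_one_of_le p hdpos _ hu k
  have hle : d ≤ p ^ Nat.clog p d := Nat.le_pow_clog hp.one_lt d
  have hpow : (u : Matrix (Fin d) (Fin d) F) ^ (p ^ Nat.clog p d) = 1 := by
    have h0 : N ^ (p ^ Nat.clog p d) = 0 := pow_eq_zero_of_le hle hNd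
    rw [key] at h0
    exact sub_eq_zero.mp h0
  have hpowu : u ^ (p ^ Nat.clog p d) = 1 := by
    apply Units.ext
    simpa using hpow
  have hdvd : orderOf u ∣ p ^ Nat.clog p d := orderOf_dvd_of_pow_eq_one hpowu
  refine ⟨Nat.le_of_dvd (pow_pos hp.pos _) hdvd, fun hne => ?_⟩
  obtain ⟨j, hj, hoj⟩ := (Nat.dvd_prime_pow hp).mp hdvd
  rcases Nat.lt_or_ge j (Nat.clog p d) with hlt | hge
  · exfalso
    -- p ^ j < d
    have hlt' : p ^ j < d := by
      by_contra hcon
      push Not at hcon
      have := (Nat.clog_le_iff_le_pow hp.one_lt).mpr hcon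
      omega
    have hle' : p ^ j ≤ d - 1 := by omega
    have huj : u ^ (p ^ j) = 1 := by rw [← hoj]; exact pow_orderOf_eq_one u
    have huj' : (u : Matrix (Fin d) (Fin d) F) ^ (p ^ j) = 1 := by
      have := congrArg (fun x : GL (Fin d) F => (x : Matrix (Fin d) (Fin d) F)) huj
      simpa using this
    have h0 : N ^ (p ^ j) = 0 := by rw [key, huj', sub_self]
    exact hne (pow_eq_zero_of_le hle' h0)
  · have : j = Nat.clog p d := le_antisymm hj hge
    rw [hoj, this]

end Cfsg.Agent.S2260
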