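import Cfsg.Statements.S2261
-- import your own Cfsg.Agent.* helpers here

set_option autoImplicit false
open Cfsg

namespace Cfsg.Agent.S2261

/-- all powers of a `d × d` matrix lie in the span of the first `d` powers. -/
theorem pow_mem_span {F : Type*} [Field F] {d : ℕ} (M : Matrix (Fin d) (Fin d) F) (k : ℕ) :
    M ^ k ∈ Submodule.span F (Set.range (fun i : Fin d => M ^ (i : ℕ))) := by
  rcases Nat.eq_zero_or_pos d with hd0 | hdpos
  · subst hd0
    have : M ^ k = 0 := Subsingleton.elim _ _
    rw [this]; exact Submodule.zero_mem _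
  have hmonic : M.charpoly.Monic := Matrix.charpoly_monic M
  have h1 : Polynomial.aeval M (Polynomial.X ^ k %ₘ M.charpoly) = Polynomial.aeval M (Polynomial.X ^ k : Polynomial F) :=
    Polynomial.aeval_modByMonic_eq_self_of_root (Matrix.aeval_self_charpoly M)
  have h2 : M ^ k = Polynomial.aeval M (Polynomial.X ^ k %ₘ M.charpoly) := by
    rw [h1]; simp
  rw [h2]
  have hdeg : (Polynomial.X ^ k %ₘ M.charpoly).natDegree < d := by
    by_cases h0 : (Polynomial.X ^ k %ₘ M.charpoly) = 0
    · rw [h0]; simpa using hdpos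
    · have := Polynomial.degree_modByMonic_lt (Polynomial.X ^ k : Polynomial F) hmonic
      rw [Matrix.charpoly_degree_eq_dim] at this
      have h3 := (Polynomial.natDegree_lt_iff_degree_lt h0).mpr (by simpa using this)
      simpa using h3
  rw [Polynomial.aeval_eq_sum_range' hdeg]
  apply Submodule.sum_mem
  intro i hi
  apply Submodule.smul_mem
  apply Submodule.subset_span
  exact ⟨⟨i, Finset.mem_range.mp hi⟩, rfl⟩

theorem card_span_le {F : Type*} [Field F] [Fintype F] {d : ℕ} (M : Matrix (Fin d) (Fin d) F) :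
    Nat.card (Submodule.span F (Set.range (fun i : Fin d => M ^ (i : ℕ)))) ≤ Fintype.card F ^ d := by
  classical
  set A := Submodule.span F (Set.range (fun i : Fin d => M ^ (i : ℕ))) with hA
  have h1 : Module.finrank F A ≤ d := by
    have := finrank_range_le_card (R := F) (fun i : Fin d => M ^ (i : ℕ))
    simpa [Set.finrank] using this
  rw [Module.natCard_eq_pow_finrank (K := F) (V := A), Nat.card_eq_fintype_card]
  exact Nat.pow_le_pow_right Fintype.card_pos h1

theorem upper {F : Type*} [Field F] [Fintype F] (d : ℕ) (hd : 1 ≤ d)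
    (g : (GL (Fin d) F ⧸ Subgroup.center (GL (Fin d) F))) :
    (Fintype.card F - 1) * orderOf g ≤ Fintype.card F ^ d - 1 := by
  classical
  obtain ⟨γ, rfl⟩ := QuotientGroup.mk_surjective g
  have : Nonempty (Fin d) := ⟨⟨0, hd⟩⟩
  set Z := Subgroup.center (GL (Fin d) F) with hZ
  set H := Subgroup.zpowers γ ⊔ Z with hH
  set M : Matrix (Fin d) (Fin d) F := (γ : Matrix (Fin d) (Fin d) F) with hM
  set A := Submodule.span F (Set.range (fun i : Fin d => M ^ (i : ℕ))) with hA
  -- card of the center
  have hZcard : Nat.card Z = Fintype.card F - 1 := by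
    rw [hZ, Matrix.GeneralLinearGroup.center_eq_range_scalar]
    have hinj : Function.Injective (Matrix.GeneralLinearGroup.scalar (Fin d) : Fˣ →* GL (Fin d) F) := by
      intro a b hab
      have h1 := congrArg (fun x : GL (Fin d) F => (x : Matrix (Fin d) (Fin d) F) ⟨0, hd⟩ ⟨0, hd⟩) hab
      apply Units.ext
      simpa [Matrix.GeneralLinearGroup.scalar] using h1
    rw [Nat.card_congr (MonoidHom.ofInjective hinj).toEquiv.symm, Nat.card_eq_fintype_card,
      Fintype.card_units]
  -- card of H
  have hZH : Z ≤ H := le_sup_right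
  have hrel : Z.relIndex H = orderOf (γ : GL (Fin d) F ⧸ Z) := by
    have h1 := Subgroup.relIndex_ker (QuotientGroup.mk' Z) (K := H)
    rw [QuotientGroup.ker_mk'] at h1
    rw [h1, hH, Subgroup.map_sup, MonoidHom.map_zpowers, QuotientGroup.map_mk'_self, sup_bot_eq]
    exact Nat.card_zpowers _
  have hHcard : Nat.card H = (Fintype.card F - 1) * orderOf (γ : GL (Fin d) F ⧸ Z) := by
    have h1 := Subgroup.relIndex_mul_relIndex ⊥ Z H bot_le hZH
    rw [Subgroup.relIndex_bot_left, Subgroup.relIndex_bot_left] at h1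
    rw [← h1, hZcard, hrel]
  rw [← hHcard]
  -- injection of H into nonzero elements of A
  have hmem : ∀ h : H, ((h : GL (Fin d) F) : Matrix (Fin d) (Fin d) F) ∈ A := by
    rintro ⟨h, hh⟩
    obtain ⟨y, hy, z, hz, rfl⟩ := Subgroup.mem_sup_of_normal_right.mp hh
    rw [← mem_powers_iff_mem_zpowers] at hy
    obtain ⟨k, rfl⟩ := hy
    rw [hZ, Matrix.GeneralLinearGroup.center_eq_range_scalar] at hz
    obtain ⟨c, rfl⟩ := hz
    have : (((γ ^ k * Matrix.GeneralLinearGroup.scalar (Fin d) c : GL (Fin d) F)) : Matrix (Fin d) (Fin d) F)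
        = (c : F) • M ^ k := by
      simp only [Matrix.GeneralLinearGroup.scalar, hM, Units.val_mul, Units.val_pow_eq_pow_val,
        Units.coe_map]
      change (γ : Matrix (Fin d) (Fin d) F) ^ k * (Matrix.scalar (Fin d) (c : F)) = _
      rw [Matrix.scalar_apply, ← Matrix.smul_eq_mul_diagonal]
    simp only []
    rw [this]
    exact Submodule.smul_mem _ _ (pow_mem_span M k)
  let f : H → {a : A // a ≠ 0} := fun h => ⟨⟨_, hmem h⟩, by
    intro h0
    have h1 : ((h : GL (Fin d) F) : Matrix (Fin d) (Fin d) F) = 0 := congrArg Subtype.val h0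
    have h2 := (h : GL (Fin d) F).isUnit
    have h3 : IsUnit ((h : GL (Fin d) F) : Matrix (Fin d) (Fin d) F) := Units.isUnit _
    rw [h1] at h3
    exact not_isUnit_zero h3⟩
  have hf : Function.Injective f := by
    intro h1 h2 h12
    have e1 : ((h1 : GL (Fin d) F) : Matrix (Fin d) (Fin d) F) = ((h2 : GL (Fin d) F) : Matrix (Fin d) (Fin d) F) := by
      have := congrArg (fun x : {a : A // a ≠ 0} => ((x : A) : Matrix (Fin d) (Fin d) F)) h12
      simpa [f] using this
    exact Subtype.ext (Units.ext e1)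
  have : Finite A := Finite.of_injective (fun a : A => (a : Matrix (Fin d) (Fin d) F)) Subtype.val_injective
  have hle := Nat.card_le_card_of_injective f hf
  have hcard2 : Nat.card {a : A // a ≠ 0} = Nat.card A - 1 := by
    have : Fintype A := Fintype.ofFinite A
    rw [Nat.card_eq_fintype_card, Nat.card_eq_fintype_card, Fintype.card_subtype_compl, Fintype.card_subtype_eq]
  rw [hcard2] at hle
  have hfin : Nat.card A ≤ Fintype.card F ^ d := card_span_le M
  omega



theorem lower {F : Type*} [Field F] [Fintype F] (d : ℕ) (hd : 1 ≤ d) :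
    ∃ g : (GL (Fin d) F ⧸ Subgroup.center (GL (Fin d) F)),
      Fintype.card F ^ d - 1 ≤ (Fintype.card F - 1) * orderOf g := by
  classical
  obtain ⟨p, hp⟩ := CharP.exists F
  have := hp
  have : Fact p.Prime := ⟨CharP.char_is_prime F p⟩
  have : NeZero d := ⟨by omega⟩
  let K := FiniteField.Extension F p d
  have hfr : Module.finrank F K = d := FiniteField.finrank_extension F p d
  let b : Module.Basis (Fin d) F K := Module.finBasisOfFinrankEq F K hfr
  let φ : K →ₐ[F] Matrix (Fin d) (Fin d) F := Algebra.leftMulMatrix b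
  have hφ : Function.Injective φ := Algebra.leftMulMatrix_injective b
  have : Fintype K := Fintype.ofFinite K
  obtain ⟨ω, hω⟩ := IsCyclic.exists_generator (α := Kˣ)
  have hωord : orderOf ω = Fintype.card F ^ d - 1 := by
    rw [orderOf_eq_card_of_forall_mem_zpowers hω, Nat.card_eq_fintype_card, Fintype.card_units,
      Fintype.card_eq_nat_card, FiniteField.natCard_extension, Nat.card_eq_fintype_card]
  let γ : GL (Fin d) F := Units.map φ.toRingHom.toMonoidHom ω
  refine ⟨(γ : GL (Fin d) F ⧸ Subgroup.center (GL (Fin d) F)), ?_⟩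
  set g : GL (Fin d) F ⧸ Subgroup.center (GL (Fin d) F) := (γ : GL (Fin d) F ⧸ Subgroup.center (GL (Fin d) F)) with hg
  set o := orderOf g with ho
  have : Finite (GL (Fin d) F ⧸ Subgroup.center (GL (Fin d) F)) := inferInstance
  have hopos : 0 < o := orderOf_pos g
  have hgo : g ^ o = 1 := pow_orderOf_eq_one g
  have hmem : γ ^ o ∈ Subgroup.center (GL (Fin d) F) := by
    have : ((γ ^ o : GL (Fin d) F) : GL (Fin d) F ⧸ Subgroup.center (GL (Fin d) F)) = 1 := by
      simpa [hg] using hgo
    exact (QuotientGroup.eq_one_iff _).mp this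
  rw [Matrix.GeneralLinearGroup.center_eq_range_scalar] at hmem
  obtain ⟨c, hc⟩ := hmem
  -- as matrices
  have hc' : (Matrix.scalar (Fin d) (c : F)) = φ ((ω : K) ^ o) := by
    have := congrArg (fun x : GL (Fin d) F => (x : Matrix (Fin d) (Fin d) F)) hc
    simp only [Matrix.GeneralLinearGroup.scalar, Units.coe_map, Units.val_pow_eq_pow_val, γ] at this
    rw [map_pow]
    exact this
  have hc'' : φ (algebraMap F K (c : F)) = φ ((ω : K) ^ o) := by
    rw [← hc', AlgHom.commutes]
    rfl
  have hωo : (ω : K) ^ o = algebraMap F K (c : F) := (hφ hc'').symm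
  have hpow : ((ω : K) ^ o) ^ (Fintype.card F - 1) = 1 := by
    rw [hωo, ← map_pow, FiniteField.pow_card_sub_one_eq_one (c : F) (Units.ne_zero c), map_one]
  have hpow' : ω ^ (o * (Fintype.card F - 1)) = 1 := by
    apply Units.ext
    rw [pow_mul]
    simpa using hpow
  have hdvd : Fintype.card F ^ d - 1 ∣ o * (Fintype.card F - 1) := by
    rw [← hωord]; exact orderOf_dvd_of_pow_eq_one hpow'
  have hq : 1 < Fintype.card F := Fintype.one_lt_card
  have hpos : 0 < o * (Fintype.card F - 1) := Nat.mul_pos hopos (by omega)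
  have := Nat.le_of_dvd hpos hdvd
  rw [mul_comm]
  exact this

/-- Let F be a finite field with q elements and d ≥ 1. Then every element of PGL_d(F) = GL_d(F)/Z has order at most (q^d − 1)/(q − 1), and some element (the image of a Singer cycle) has exactly this order. -/
theorem result {F : Type*} [Field F] [Fintype F] (d : ℕ) (hd : 1 ≤ d) :
    (∀ g : (GL (Fin d) F ⧸ Subgroup.center (GL (Fin d) F)), (Fintype.card F - 1) * orderOf g ≤ Fintype.card F ^ d - 1) ∧
    (∃ g : (GL (Fin d) F ⧸ Subgroup.center (GL (Fin d) F)), (Fintype.card F - 1) * orderOf g = Fintype.card F ^ d - 1) := by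
  refine ⟨fun g => upper d hd g, ?_⟩
  obtain ⟨g, hg⟩ := lower (F := F) d hd
  exact ⟨g, le_antisymm (upper d hd g) hg⟩

end Cfsg.Agent.S2261
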