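import Cfsg.Statements.S2268
-- import your own Cfsg.Agent.* helpers here

set_option autoImplicit false
open Cfsg

namespace Cfsg.Agent.S2268

/-- Let G be a finite group with an abelian Sylow p-subgroup P and let Q ≤ P. Then N_G(Q) = (N_G(Q) ∩ N_G(P))·C_G(Q), so that N_G(Q)/C_G(Q) is a homomorphic image of the subgroup (N_G(Q) ∩ N_G(P))/C_G(P) of N_G(P)/C_G(P); in particular the order of N_G(Q)/C_G(Q) divides the order of N_G(P)/C_G(P). -/
theorem result {G : Type*} [Group G] [Finite G] {p : ℕ} [Fact p.Prime]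
    (P : Sylow p G) (hP : IsMulCommutative (P : Subgroup G)) (Q : Subgroup G) (hQ : Q ≤ (P : Subgroup G)) :
    Subgroup.normalizer (Q : Set G) =
      (Subgroup.normalizer (Q : Set G) ⊓ Subgroup.normalizer ((P : Subgroup G) : Set G)) ⊔ Subgroup.centralizer (Q : Set G) ∧
    ((Subgroup.centralizer (Q : Set G)).subgroupOf (Subgroup.normalizer (Q : Set G))).index ∣ ((Subgroup.centralizer ((P : Subgroup G) : Set G)).subgroupOf (Subgroup.normalizer ((P : Subgroup G) : Set G))).index := by
  classical
  have hp : p.Prime := Fact.out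
  have : IsMulCommutative (P : Subgroup G) := hP
  -- basic containments
  have hPC : (P : Subgroup G) ≤ Subgroup.centralizer (Q : Set G) := by
    intro x hx y hy
    have hy' : y ∈ (P : Subgroup G) := hQ hy
    have := mul_comm' (⟨x, hx⟩ : (P : Subgroup G)) ⟨y, hy'⟩
    have h2 := congrArg Subtype.val this
    exact h2.symm
  have hCN : Subgroup.centralizer (Q : Set G) ≤ Subgroup.normalizer (Q : Set G) :=
    Subgroup.centralizer_le_normalizer _
  have hCPCQ : Subgroup.centralizer ((P : Subgroup G) : Set G) ≤ Subgroup.centralizer (Q : Set G) :=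
    Subgroup.centralizer_le hQ
  have hCPNP : Subgroup.centralizer ((P : Subgroup G) : Set G) ≤ Subgroup.normalizer ((P : Subgroup G) : Set G) :=
    Subgroup.centralizer_le_normalizer _
  have part1 : Subgroup.normalizer (Q : Set G) =
      (Subgroup.normalizer (Q : Set G) ⊓ Subgroup.normalizer ((P : Subgroup G) : Set G)) ⊔ Subgroup.centralizer (Q : Set G) := by
    apply le_antisymm
    · intro g hg
      -- g • P ≤ C(Q)
      have h2 : ↑(g • P) ≤ Subgroup.centralizer (Q : Set G) := by
        intro z hz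
        rw [Sylow.coe_subgroup_smul, Subgroup.mem_smul_pointwise_iff_exists] at hz
        obtain ⟨w, hw, rfl⟩ := hz
        intro y hy
        -- y ∈ Q; g⁻¹ y g ∈ Q
        have hginv : g⁻¹ ∈ Subgroup.normalizer (Q : Set G) := inv_mem hg
        have hy2 : g⁻¹ * y * g ∈ Q := by
          have := (Subgroup.mem_normalizer_iff.mp hginv y).mp hy
          simpa using this
        have hcomm := hPC hw (g⁻¹ * y * g) hy2
        simp only [MulAut.smul_def, MulAut.conj_apply]
        calc y * (g * w * g⁻¹) = g * ((g⁻¹ * y * g) * w) * g⁻¹ := by group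
          _ = g * (w * (g⁻¹ * y * g)) * g⁻¹ := by rw [hcomm]
          _ = g * w * g⁻¹ * y := by group
      obtain ⟨h, hh⟩ :=
        MulAction.exists_smul_eq (Subgroup.centralizer (Q : Set G)) ((g • P).subtype h2) (P.subtype hPC)
      simp_rw [Sylow.smul_subtype, Subgroup.smul_def, smul_smul] at hh
      have hn : (h : G) * g ∈ Subgroup.normalizer ((P : Subgroup G) : Set G) :=
        Sylow.smul_eq_iff_mem_normalizer.mp (Sylow.subtype_injective hh)
      have hn2 : (h : G) * g ∈ Subgroup.normalizer (Q : Set G) := mul_mem (hCN h.2) hg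
      have : g = (h : G)⁻¹ * ((h : G) * g) := by group
      rw [this]
      exact mul_mem (Subgroup.mem_sup_right (inv_mem h.2)) (Subgroup.mem_sup_left ⟨hn2, hn⟩)
    · exact sup_le inf_le_left hCN
  refine ⟨part1, ?_⟩
  set A := Subgroup.normalizer (Q : Set G) ⊓ Subgroup.normalizer ((P : Subgroup G) : Set G) with hA
  set C := Subgroup.centralizer (Q : Set G) with hC
  set CP := Subgroup.centralizer ((P : Subgroup G) : Set G) with hCP
  set NP := Subgroup.normalizer ((P : Subgroup G) : Set G) with hNP
  change C.relIndex (Subgroup.normalizer (Q : Set G)) ∣ CP.relIndex NP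
  rw [part1]
  have hAle : A ≤ Subgroup.normalizer (C : Set G) := by
    intro a ha
    have haQ : a ∈ Subgroup.normalizer (Q : Set G) := ha.1
    rw [Subgroup.mem_normalizer_iff]
    intro c
    constructor
    · intro hc y hy
      have hainv : a⁻¹ ∈ Subgroup.normalizer (Q : Set G) := inv_mem haQ
      have hy2 : a⁻¹ * y * a ∈ Q := by
        have := (Subgroup.mem_normalizer_iff.mp hainv y).mp hy
        simpa using this
      have hcomm := hc (a⁻¹ * y * a) hy2
      calc y * (a * c * a⁻¹) = a * ((a⁻¹ * y * a) * c) * a⁻¹ := by group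
        _ = a * (c * (a⁻¹ * y * a)) * a⁻¹ := by rw [hcomm]
        _ = a * c * a⁻¹ * y := by group
    · intro hc y hy
      have hy2 : a * y * a⁻¹ ∈ Q := (Subgroup.mem_normalizer_iff.mp haQ y).mp hy
      have hcomm := hc (a * y * a⁻¹) hy2
      calc y * c = a⁻¹ * ((a * y * a⁻¹) * (a * c * a⁻¹)) * a := by group
        _ = a⁻¹ * ((a * c * a⁻¹) * (a * y * a⁻¹)) * a := by rw [hcomm]
        _ = c * y := by group
  have h1 : C.relIndex (A ⊔ C) = C.relIndex A := by
    have := Subgroup.normal_subgroupOf_of_le_normalizer hAle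
    have := Subgroup.normal_subgroupOf_sup_of_le_normalizer hAle
    exact (Nat.card_congr (QuotientGroup.quotientInfEquivProdNormalizerQuotient A C hAle).toEquiv).symm
  rw [h1]
  -- CP ≤ A ⊓ C ≤ A ≤ NP
  have hCPA : CP ≤ A ⊓ C := le_inf (le_inf (hCPCQ.trans hCN) hCPNP) hCPCQ
  have hANP : A ≤ NP := inf_le_right
  have e1 : CP.relIndex A * A.relIndex NP = CP.relIndex NP :=
    Subgroup.relIndex_mul_relIndex CP A NP (hCPA.trans inf_le_left) hANP
  have e2 : CP.relIndex (A ⊓ C) * (A ⊓ C).relIndex A = CP.relIndex A :=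
    Subgroup.relIndex_mul_relIndex CP (A ⊓ C) A hCPA inf_le_left
  have e3 : (A ⊓ C).relIndex A = C.relIndex A := Subgroup.inf_relIndex_left A C
  rw [← e1, ← e2, e3]
  exact Dvd.intro_left _ rfl |>.mul_right _

end Cfsg.Agent.S2268
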