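import Cfsg.Statements.S2270
-- import your own Cfsg.Agent.* helpers here

set_option autoImplicit false
open Cfsg

namespace Cfsg.Agent.S2270

/-- General fact: if `P` is an abelian Sylow `p`-subgroup (p odd) containing an element `x` of order `p`
which is conjugate in `G` to its inverse, then `N(P)/C(P)` has even order. -/
theorem even_automizer {G : Type*} [Group G] [Finite G] {p : ℕ} [Fact p.Prime] (hp : p ≠ 2)
    (P : Sylow p G) (hP : IsMulCommutative (P : Subgroup G))
    (x : G) (hxP : x ∈ (P : Subgroup G)) (hxo : orderOf x = p) (g : G) (hg : g⁻¹ * x * g = x⁻¹) :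
    2 ∣ ((Subgroup.centralizer ((P : Subgroup G) : Set G)).subgroupOf
      (Subgroup.normalizer ((P : Subgroup G) : Set G))).index := by
  classical
  have : IsMulCommutative (P : Subgroup G) := hP
  have hxinv : g⁻¹ * x * g ∈ (P : Subgroup G) := by rw [hg]; exact inv_mem hxP
  obtain ⟨h, hh, hconj⟩ := Sylow.conj_eq_normalizer_conj_of_mem P x g hxP hxinv
  rw [hg] at hconj
  -- hconj : x⁻¹ = h⁻¹ * x * h
  have hconj' : h⁻¹ * x * h = x⁻¹ := hconj.symm
  have hconj'' : h⁻¹ * x⁻¹ * h = x := by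
    have : h⁻¹ * x⁻¹ * h = (h⁻¹ * x * h)⁻¹ := by group
    rw [this, hconj', inv_inv]
  have heven : ∀ k : ℕ, (h ^ (2 * k))⁻¹ * x * h ^ (2 * k) = x := by
    intro k
    induction k with
    | zero => simp
    | succ k ih =>
      have e : h ^ (2 * (k + 1)) = h ^ (2 * k) * h * h := by
        rw [mul_add, pow_add]; simp [pow_two, mul_assoc]
      rw [e]
      calc (h ^ (2 * k) * h * h)⁻¹ * x * (h ^ (2 * k) * h * h)
          = h⁻¹ * (h⁻¹ * ((h ^ (2 * k))⁻¹ * x * h ^ (2 * k)) * h) * h := by group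
        _ = h⁻¹ * (h⁻¹ * x * h) * h := by rw [ih]
        _ = h⁻¹ * x⁻¹ * h := by rw [hconj']
        _ = x := hconj''
  have hodd : ∀ k : ℕ, (h ^ (2 * k + 1))⁻¹ * x * h ^ (2 * k + 1) = x⁻¹ := by
    intro k
    rw [pow_succ]
    calc (h ^ (2 * k) * h)⁻¹ * x * (h ^ (2 * k) * h)
        = h⁻¹ * ((h ^ (2 * k))⁻¹ * x * h ^ (2 * k)) * h := by group
      _ = h⁻¹ * x * h := by rw [heven]
      _ = x⁻¹ := hconj'
  -- x ≠ x⁻¹
  have hxne : x ≠ x⁻¹ := by
    intro hx
    have hx2 : x ^ 2 = 1 := by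
      rw [pow_two]
      nth_rewrite 2 [hx]
      exact mul_inv_cancel x
    have hdvd : orderOf x ∣ 2 := orderOf_dvd_of_pow_eq_one hx2
    rw [hxo] at hdvd
    have hp' : p.Prime := Fact.out
    have := (Nat.prime_dvd_prime_iff_eq hp' Nat.prime_two).mp hdvd
    exact hp this
  -- the quotient
  set N := Subgroup.normalizer ((P : Subgroup G) : Set G) with hN
  set C := (Subgroup.centralizer ((P : Subgroup G) : Set G)).subgroupOf N with hC
  have hCnormal : C.Normal := Subgroup.normal_subgroupOf_centralizer_normalizer _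
  let q : N ⧸ C := QuotientGroup.mk (⟨h, hh⟩ : N)
  have hq : orderOf q ∣ C.index := by
    rw [Subgroup.index_eq_card]
    exact orderOf_dvd_natCard q
  refine dvd_trans ?_ hq
  by_contra hnd
  have hoddq : Odd (orderOf q) := Nat.odd_iff.mpr (by omega)
  obtain ⟨k, hk⟩ := hoddq
  have hpow : q ^ (2 * k + 1) = 1 := by rw [← hk]; exact pow_orderOf_eq_one q
  have hmem : (⟨h, hh⟩ : N) ^ (2 * k + 1) ∈ C := by
    have : ((⟨h, hh⟩ : N) ^ (2 * k + 1) : N ⧸ C) = 1 := by
      simpa [q] using hpow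
    exact (QuotientGroup.eq_one_iff _).mp this
  have hmem' : h ^ (2 * k + 1) ∈ Subgroup.centralizer ((P : Subgroup G) : Set G) := by
    have := Subgroup.mem_subgroupOf.mp hmem
    simpa using this
  have hcomm : x * h ^ (2 * k + 1) = h ^ (2 * k + 1) * x := hmem' x hxP
  have := hodd k
  apply hxne
  rw [← this]
  calc x = (h ^ (2 * k + 1))⁻¹ * (h ^ (2 * k + 1) * x) := by group
    _ = (h ^ (2 * k + 1))⁻¹ * (x * h ^ (2 * k + 1)) := by rw [hcomm]
    _ = (h ^ (2 * k + 1))⁻¹ * x * h ^ (2 * k + 1) := by group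

/-- Let n ≥ 3, p an odd prime, and P an abelian Sylow p-subgroup of the symmetric group S_n (with p dividing n!, so that P ≠ 1). Then N(P)/C(P) has even order. -/
theorem result (n : ℕ) (hn : 3 ≤ n) {p : ℕ} [Fact p.Prime] (hp : p ≠ 2) (hpn : p ≤ n)
    (P : Sylow p (Equiv.Perm (Fin n))) (hP : IsMulCommutative (P : Subgroup (Equiv.Perm (Fin n)))) :
    2 ∣ ((Subgroup.centralizer ((P : Subgroup (Equiv.Perm (Fin n))) : Set (Equiv.Perm (Fin n)))).subgroupOf (Subgroup.normalizer ((P : Subgroup (Equiv.Perm (Fin n))) : Set (Equiv.Perm (Fin n))))).index := by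
  classical
  have hp' : p.Prime := Fact.out
  -- p divides the order of Perm (Fin n)
  have hdvd : p ∣ Nat.card (Equiv.Perm (Fin n)) := by
    rw [Nat.card_eq_fintype_card, Fintype.card_perm, Fintype.card_fin]
    exact (Nat.Prime.dvd_factorial hp').mpr hpn
  -- P has an element of order p
  have hdvdP : p ∣ Nat.card (P : Subgroup (Equiv.Perm (Fin n))) := P.dvd_card_of_dvd_card hdvd
  obtain ⟨y, hy⟩ := exists_prime_orderOf_dvd_card' p hdvdP
  set x : Equiv.Perm (Fin n) := (y : Equiv.Perm (Fin n)) with hx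
  have hxP : x ∈ (P : Subgroup (Equiv.Perm (Fin n))) := y.2
  have hxo : orderOf x = p := by rw [hx, Subgroup.orderOf_coe, hy]
  -- x is conjugate to x⁻¹
  have hconj : IsConj x x⁻¹ := by
    rw [Equiv.Perm.isConj_iff_cycleType_eq, Equiv.Perm.cycleType_inv]
  obtain ⟨c, hc⟩ := isConj_iff.mp hconj
  -- hc : c * x * c⁻¹ = x⁻¹
  refine even_automizer hp P hP x hxP hxo c⁻¹ ?_
  simpa using hc

end Cfsg.Agent.S2270
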