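import Cfsg.Statements.S2269
import Cfsg.Agent.S2270

set_option autoImplicit false
open Cfsg

namespace Cfsg.Agent.S2269

open Equiv Equiv.Perm

/-- a permutation with cycle type `{p}` on `Fin n` with `p + 2 ≤ n` is conjugate to its inverse by
an even permutation. -/
theorem conj_inv_even {n p : ℕ} (x : Perm (Fin n)) (hx : x.cycleType = {p}) (hpn : p + 2 ≤ n) :
    ∃ g : Perm (Fin n), sign g = 1 ∧ g * x * g⁻¹ = x⁻¹ := by
  classical
  have hsupp : x.support.card = p := by
    rw [← Equiv.Perm.sum_cycleType, hx]; simp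
  have hcompl : 1 < (x.supportᶜ).card := by
    rw [Finset.card_compl, hsupp, Fintype.card_fin]; omega
  obtain ⟨a, ha, b, hb, hab⟩ := Finset.one_lt_card.mp hcompl
  have ha' : a ∉ x.support := Finset.mem_compl.mp ha
  have hb' : b ∉ x.support := Finset.mem_compl.mp hb
  have hdisj : Equiv.Perm.Disjoint x (swap a b) := by
    rw [Equiv.Perm.disjoint_iff_disjoint_support, Equiv.Perm.support_swap hab]
    rw [Finset.disjoint_left]
    intro c hc hc2
    simp only [Finset.mem_insert, Finset.mem_singleton] at hc2
    rcases hc2 with rfl | rfl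
    · exact ha' hc
    · exact hb' hc
  have hcomm : Commute x (swap a b) := hdisj.commute
  have hconj : IsConj x x⁻¹ := by
    rw [Equiv.Perm.isConj_iff_cycleType_eq, Equiv.Perm.cycleType_inv]
  obtain ⟨c, hc⟩ := isConj_iff.mp hconj
  rcases Int.units_eq_one_or (sign c) with h1 | h1
  · exact ⟨c, h1, hc⟩
  · refine ⟨c * swap a b, ?_, ?_⟩
    · rw [map_mul, h1, Equiv.Perm.sign_swap hab]; simp
    · have : swap a b * x * (swap a b)⁻¹ = x := by
        rw [← hcomm.eq, mul_assoc, mul_inv_cancel, mul_one]
      calc c * swap a b * x * (c * swap a b)⁻¹ = c * (swap a b * x * (swap a b)⁻¹) * c⁻¹ := by group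
        _ = c * x * c⁻¹ := by rw [this]
        _ = x⁻¹ := hc

/-- existence of an element of `P` with cycle type `{p}`. -/
theorem exists_pcycle_mem {n p : ℕ} [Fact p.Prime] (hp2 : p ≠ 2) (hpn : p ≤ n)
    (P : Sylow p (alternatingGroup (Fin n))) :
    ∃ x : alternatingGroup (Fin n), x ∈ (P : Subgroup (alternatingGroup (Fin n))) ∧
      (x : Perm (Fin n)).cycleType = {p} := by
  classical
  have hp : p.Prime := Fact.out
  obtain ⟨c, hc⟩ := (Equiv.Perm.exists_with_cycleType_iff (α := Fin n) (m := {p})).mpr
    ⟨by simpa using hpn, by intro a ha; simp at ha; rw [ha]; exact hp.two_le⟩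
  have hodd : Odd p := hp.odd_of_ne_two hp2
  have hsign : sign c = 1 := by
    rw [Equiv.Perm.sign_of_cycleType, hc]
    simp only [Multiset.sum_singleton, Multiset.card_singleton]
    exact Even.neg_one_pow (Odd.add_one hodd)
  let c' : alternatingGroup (Fin n) := ⟨c, Equiv.Perm.mem_alternatingGroup.mpr hsign⟩
  have hord : orderOf c' = p := by
    rw [← Subgroup.orderOf_coe]
    show orderOf c = p
    rw [← Equiv.Perm.lcm_cycleType, hc]; simp
  have hpg : IsPGroup p (Subgroup.zpowers c') := by
    apply IsPGroup.of_card (n := 1)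
    rw [Nat.card_zpowers, hord, pow_one]
  obtain ⟨Q, hQ⟩ := hpg.exists_le_sylow
  obtain ⟨a, ha⟩ := MulAction.exists_smul_eq (alternatingGroup (Fin n)) Q P
  -- a • Q = P
  have hcQ : c' ∈ (Q : Subgroup (alternatingGroup (Fin n))) := hQ (Subgroup.mem_zpowers c')
  refine ⟨a * c' * a⁻¹, ?_, ?_⟩
  · rw [← ha, Sylow.coe_subgroup_smul, Subgroup.mem_smul_pointwise_iff_exists]
    exact ⟨c', hcQ, by simp [MulAut.smul_def]⟩
  · have : ((a * c' * a⁻¹ : alternatingGroup (Fin n)) : Perm (Fin n)) = (a : Perm (Fin n)) * c * (a : Perm (Fin n))⁻¹ := by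
      simp [c']
    rw [this, Equiv.Perm.cycleType_conj, hc]

theorem odd_case_big {n p : ℕ} [Fact p.Prime] (hp2 : p ≠ 2) (hpn : p + 2 ≤ n)
    (P : Sylow p (alternatingGroup (Fin n))) (hP : IsMulCommutative (P : Subgroup (alternatingGroup (Fin n)))) :
    2 ∣ ((Subgroup.centralizer ((P : Subgroup (alternatingGroup (Fin n))) : Set (alternatingGroup (Fin n)))).subgroupOf (Subgroup.normalizer ((P : Subgroup (alternatingGroup (Fin n))) : Set (alternatingGroup (Fin n))))).index := by
  classical
  obtain ⟨x, hxP, hxc⟩ := exists_pcycle_mem hp2 (by omega) P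
  obtain ⟨g, hg1, hg2⟩ := conj_inv_even (x : Perm (Fin n)) hxc hpn
  let g' : alternatingGroup (Fin n) := ⟨g, Equiv.Perm.mem_alternatingGroup.mpr hg1⟩
  have hxo : orderOf x = p := by
    rw [← Subgroup.orderOf_coe, ← Equiv.Perm.lcm_cycleType, hxc]; simp
  refine Cfsg.Agent.S2270.even_automizer hp2 P hP x hxP hxo g'⁻¹ ?_
  apply Subtype.ext
  simpa [g'] using hg2

theorem odd_case_small {n p : ℕ} [Fact p.Prime] (hpn : n ≤ p + 1) (hn : 2 ≤ n)
    (P : Sylow p (alternatingGroup (Fin n))) :
    IsCyclic (P : Subgroup (alternatingGroup (Fin n))) := by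
  classical
  have hp : p.Prime := Fact.out
  obtain ⟨k, hk⟩ := (IsPGroup.iff_card.mp P.isPGroup')
  have hnt : Nontrivial (Fin n) := Fin.nontrivial_iff_two_le.mpr hn
  have h1 : Nat.card (P : Subgroup (alternatingGroup (Fin n))) ∣ Nat.card (alternatingGroup (Fin n)) :=
    Subgroup.card_subgroup_dvd_card _
  have h2 : Nat.card (alternatingGroup (Fin n)) ∣ n.factorial := by
    have := two_mul_nat_card_alternatingGroup (α := Fin n)
    rw [Nat.card_eq_fintype_card (α := Perm (Fin n)), Fintype.card_perm, Fintype.card_fin] at this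
    exact Dvd.intro_left 2 this
  have h3 : p ^ k ∣ n.factorial := hk ▸ h1.trans h2
  have h4 : k ≤ padicValNat p n.factorial :=
    (padicValNat_dvd_iff_le (Nat.factorial_ne_zero n)).mp h3
  have hlog : Nat.log p n < 2 := by
    apply Nat.log_lt_of_lt_pow (by omega)
    have : 2 ≤ p := hp.two_le
    nlinarith
  rw [padicValNat_factorial hlog] at h4
  have h5 : n / p ≤ 1 := by
    have : n < 2 * p := by have := hp.two_le; omega
    have := Nat.div_lt_of_lt_mul (m := n) (n := p) (k := 2) (by linarith)
    omega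
  have h6 : k ≤ 1 := by
    simpa using h4.trans (by simpa using h5)
  interval_cases k
  · have : Subsingleton (P : Subgroup (alternatingGroup (Fin n))) := by
      rw [← Finite.card_le_one_iff_subsingleton, hk]; simp
    exact isCyclic_of_subsingleton
  · have hcard : Nat.card (P : Subgroup (alternatingGroup (Fin n))) = p := by simpa using hk
    exact isCyclic_of_prime_card hcard

/-- `(0 1 2 3)(4 5)` -/
def permR : Perm (Fin 6) := swap 0 1 * swap 1 2 * swap 2 3 * swap 4 5
/-- `(0 2)(4 5)` -/
def permS : Perm (Fin 6) := swap 0 2 * swap 4 5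

def dihFun : DihedralGroup 4 → Perm (Fin 6)
  | DihedralGroup.r i => permR ^ i.val
  | DihedralGroup.sr i => permS * permR ^ i.val

set_option maxRecDepth 100000 in
theorem dihFun_mul : ∀ a b : DihedralGroup 4, dihFun (a * b) = dihFun a * dihFun b := by
  decide

set_option maxRecDepth 100000 in
theorem dihFun_sign : ∀ a : DihedralGroup 4, sign (dihFun a) = 1 := by
  decide

set_option maxRecDepth 100000 in
theorem dihFun_noncomm : dihFun (DihedralGroup.r 1) * dihFun (DihedralGroup.sr 0) ≠
    dihFun (DihedralGroup.sr 0) * dihFun (DihedralGroup.r 1) := by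
  decide

def dihHom : DihedralGroup 4 →* Perm (Fin 6) := MonoidHom.mk' dihFun dihFun_mul

theorem two_case_big {n : ℕ} (hn : 6 ≤ n)
    (P : Sylow 2 (alternatingGroup (Fin n))) (hP : IsMulCommutative (P : Subgroup (alternatingGroup (Fin n)))) :
    False := by
  classical
  let ι : Fin 6 ↪ Fin n := Fin.castLEEmb hn
  let ψ : DihedralGroup 4 →* Perm (Fin n) := (viaEmbeddingHom ι).comp dihHom
  have hψsign : ∀ a, ψ a ∈ alternatingGroup (Fin n) := by
    intro a
    rw [Equiv.Perm.mem_alternatingGroup]
    show sign (viaEmbedding (dihFun a) ι) = 1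
    unfold viaEmbedding
    rw [Equiv.Perm.sign_extendDomain, dihFun_sign]
  let ψ' : DihedralGroup 4 →* alternatingGroup (Fin n) := ψ.codRestrict _ hψsign
  have hdih : IsPGroup 2 (DihedralGroup 4) := by
    apply IsPGroup.of_card (n := 3)
    rw [DihedralGroup.nat_card]; norm_num
  have hD : IsPGroup 2 ψ'.range :=
    hdih.of_surjective ψ'.rangeRestrict ψ'.rangeRestrict_surjective
  obtain ⟨Q, hQ⟩ := hD.exists_le_sylow
  obtain ⟨a, ha⟩ := MulAction.exists_smul_eq (alternatingGroup (Fin n)) P Q
  -- a • P = Q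
  have : IsMulCommutative (P : Subgroup (alternatingGroup (Fin n))) := hP
  have hQcomm : ∀ y z : alternatingGroup (Fin n), y ∈ (Q : Subgroup (alternatingGroup (Fin n))) → z ∈ (Q : Subgroup (alternatingGroup (Fin n))) → y * z = z * y := by
    intro y z hy hz
    rw [← ha, Sylow.coe_subgroup_smul, Subgroup.mem_smul_pointwise_iff_exists] at hy hz
    obtain ⟨y', hy', rfl⟩ := hy
    obtain ⟨z', hz', rfl⟩ := hz
    have hc : y' * z' = z' * y' := by
      have := mul_comm' (⟨y', hy'⟩ : (P : Subgroup (alternatingGroup (Fin n)))) ⟨z', hz'⟩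
      exact congrArg Subtype.val this
    simp only [MulAut.smul_def, MulAut.conj_apply]
    calc a * y' * a⁻¹ * (a * z' * a⁻¹) = a * (y' * z') * a⁻¹ := by group
      _ = a * (z' * y') * a⁻¹ := by rw [hc]
      _ = a * z' * a⁻¹ * (a * y' * a⁻¹) := by group
  have hu : ψ' (DihedralGroup.r 1) ∈ (Q : Subgroup (alternatingGroup (Fin n))) := hQ ⟨_, rfl⟩
  have hv : ψ' (DihedralGroup.sr 0) ∈ (Q : Subgroup (alternatingGroup (Fin n))) := hQ ⟨_, rfl⟩
  have hcomm := hQcomm _ _ hu hv
  have hcomm2 : ψ (DihedralGroup.r 1) * ψ (DihedralGroup.sr 0) = ψ (DihedralGroup.sr 0) * ψ (DihedralGroup.r 1) := by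
    have := congrArg Subtype.val hcomm
    simpa [ψ'] using this
  have hcomm3 : viaEmbeddingHom ι (dihFun (DihedralGroup.r 1) * dihFun (DihedralGroup.sr 0)) =
      viaEmbeddingHom ι (dihFun (DihedralGroup.sr 0) * dihFun (DihedralGroup.r 1)) := by
    rw [map_mul, map_mul]; exact hcomm2
  exact dihFun_noncomm (viaEmbeddingHom_injective ι hcomm3)

set_option maxRecDepth 1000000 in
theorem a5_no_order4 : ∀ σ : Perm (Fin 5), sign σ = 1 → σ ^ 4 = 1 → σ ^ 2 = 1 := by
  decide

theorem card_A5 : Nat.card (alternatingGroup (Fin 5)) = 60 := by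
  have := two_mul_nat_card_alternatingGroup (α := Fin 5)
  rw [Nat.card_eq_fintype_card (α := Perm (Fin 5)), Fintype.card_perm, Fintype.card_fin] at this
  have h : (5 : ℕ).factorial = 120 := by decide
  omega

local notation "G" => alternatingGroup (Fin 5)

theorem two_case_five [Fact (Nat.Prime 2)] (P : Sylow 2 (alternatingGroup (Fin 5)))
    (hP : IsMulCommutative (P : Subgroup (alternatingGroup (Fin 5)))) :
    ((Subgroup.centralizer ((P : Subgroup (alternatingGroup (Fin 5))) : Set (alternatingGroup (Fin 5)))).subgroupOf (Subgroup.normalizer ((P : Subgroup (alternatingGroup (Fin 5))) : Set (alternatingGroup (Fin 5))))).index = 3 ∧ IsKleinFour (P : Subgroup (alternatingGroup (Fin 5))) := by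
  classical
  have : IsMulCommutative (P : Subgroup (alternatingGroup (Fin 5))) := hP
  -- card of P
  have hidx : ¬ 2 ∣ (P : Subgroup G).index := P.not_dvd_index
  have hmul : Nat.card (P : Subgroup G) * (P : Subgroup G).index = 60 := by
    rw [Subgroup.card_mul_index, card_A5]
  obtain ⟨k, hk⟩ := (IsPGroup.iff_card.mp P.isPGroup')
  have hPcard : Nat.card (P : Subgroup G) = 4 := by
    rw [hk] at hmul ⊢
    have hk5 : k < 6 := by
      by_contra hcon
      push Not at hcon
      have : 2 ^ 6 ≤ 2 ^ k := Nat.pow_le_pow_right (by norm_num) hcon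
      have hpos : 0 < (P : Subgroup G).index := Nat.pos_of_ne_zero (by intro h0; rw [h0] at hmul; omega)
      nlinarith
    interval_cases k <;> omega
  have hPidx : (P : Subgroup G).index = 15 := by rw [hPcard] at hmul; omega
  -- exponent
  have hexp : ∀ x : (P : Subgroup G), x ^ 2 = 1 := by
    intro x
    have h4 : x ^ 4 = 1 := by rw [← hPcard]; exact pow_card_eq_one'
    have h4' : ((x : G) : Perm (Fin 5)) ^ 4 = 1 := by
      have := congrArg (fun y : (P : Subgroup G) => ((y : G) : Perm (Fin 5))) h4
      simpa using this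
    have hs : sign ((x : G) : Perm (Fin 5)) = 1 := Equiv.Perm.mem_alternatingGroup.mp (x : G).2
    have h2 := a5_no_order4 _ hs h4'
    apply Subtype.ext; apply Subtype.ext
    simpa using h2
  have hklein : IsKleinFour (P : Subgroup G) := by
    refine ⟨hPcard, ?_⟩
    have hdvd : Monoid.exponent (P : Subgroup G) ∣ 2 := Monoid.exponent_dvd_of_forall_pow_eq_one hexp
    have hne1 : Monoid.exponent (P : Subgroup G) ≠ 1 := by
      intro h1
      have := Monoid.exp_eq_one_iff.mp h1
      have hc : Nat.card (P : Subgroup G) ≤ 1 := Finite.card_le_one_iff_subsingleton.mpr this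
      omega
    rcases (Nat.dvd_prime Nat.prime_two).mp hdvd with h | h
    · exact absurd h hne1
    · exact h
  refine ⟨?_, hklein⟩
  set N := Subgroup.normalizer ((P : Subgroup G) : Set G) with hN
  set C := Subgroup.centralizer ((P : Subgroup G) : Set G) with hC
  change C.relIndex N = 3
  have hPC : (P : Subgroup G) ≤ C := Subgroup.le_centralizer _
  have hPN : (P : Subgroup G) ≤ N := Subgroup.le_normalizer
  have h15 : C.relIndex N ∣ 15 := by
    rw [← hPidx]
    exact (Subgroup.relIndex_dvd_of_le_left N hPC).trans (Subgroup.relIndex_dvd_index_of_le hPN)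
  have h24 : C.relIndex N ∣ 24 := by
    have hker := Subgroup.normalizerMonoidHom_ker (H := (P : Subgroup G))
    have h1 : C.relIndex N = Nat.card ((P : Subgroup G).normalizerMonoidHom).range := by
      rw [← Subgroup.index_ker, hker]; rfl
    rw [h1]
    have h2 : Nat.card ((P : Subgroup G).normalizerMonoidHom).range ∣ Nat.card (MulAut (P : Subgroup G)) :=
      Subgroup.card_subgroup_dvd_card _
    have h3 : Nat.card (MulAut (P : Subgroup G)) ∣ Nat.card (Perm (P : Subgroup G)) :=
      Subgroup.card_dvd_of_injective (MulAut.toPerm (P : Subgroup G)) (by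
        intro a b hab
        exact MulEquiv.ext (fun x => by
          have := congrArg (fun e : Perm (P : Subgroup G) => e x) hab
          exact this))
    have h4 : Nat.card (Perm (P : Subgroup G)) = 24 := by
      have : Fintype (P : Subgroup G) := Fintype.ofFinite _
      rw [Nat.card_eq_fintype_card, Fintype.card_perm, ← Nat.card_eq_fintype_card, hPcard]; rfl
    rw [h4] at h3
    exact h2.trans h3
  have h3 : C.relIndex N ∣ 3 := by
    have := Nat.dvd_gcd h15 h24
    simpa using this
  have hne1 : C.relIndex N ≠ 1 := by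
    intro h1
    have hNC : N ≤ C := Subgroup.relIndex_eq_one.mp h1
    have hcompl := MonoidHom.ker_transferSylow_isComplement' P hNC
    have hsimple : IsSimpleGroup G := alternatingGroup.isSimpleGroup (by simp)
    have hnormal : (MonoidHom.transferSylow P hNC).ker.Normal := inferInstance
    have hcard := hcompl.card_mul_card
    rw [hPcard, card_A5] at hcard
    rcases hnormal.eq_bot_or_eq_top with hb | ht
    · rw [hb] at hcard; simp at hcard
    · rw [ht] at hcard
      simp only [Subgroup.card_top] at hcard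
      rw [card_A5] at hcard; omega
  rcases (Nat.dvd_prime Nat.prime_three).mp h3 with h | h
  · exact absurd h hne1
  · exact h

/-- Let n ≥ 5 and let P be an abelian Sylow p-subgroup of the alternating group A_n. Then N(P)/C(P) (taken in A_n) has even order, or P is cyclic, except when n = 5 and p = 2, where P is a four-group and N(P)/C(P) has order 3. -/
theorem result (n : ℕ) (hn : 5 ≤ n) {p : ℕ} [Fact p.Prime]
    (P : Sylow p (alternatingGroup (Fin n))) (hP : IsMulCommutative (P : Subgroup (alternatingGroup (Fin n)))) :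
    (¬ (n = 5 ∧ p = 2) → 2 ∣ ((Subgroup.centralizer ((P : Subgroup (alternatingGroup (Fin n))) : Set (alternatingGroup (Fin n)))).subgroupOf (Subgroup.normalizer ((P : Subgroup (alternatingGroup (Fin n))) : Set (alternatingGroup (Fin n))))).index ∨ IsCyclic (P : Subgroup (alternatingGroup (Fin n)))) ∧
    ((n = 5 ∧ p = 2) → ((Subgroup.centralizer ((P : Subgroup (alternatingGroup (Fin n))) : Set (alternatingGroup (Fin n)))).subgroupOf (Subgroup.normalizer ((P : Subgroup (alternatingGroup (Fin n))) : Set (alternatingGroup (Fin n))))).index = 3 ∧ IsKleinFour (P : Subgroup (alternatingGroup (Fin n)))) := by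
  constructor
  · intro hne
    by_cases hp2 : p = 2
    · subst hp2
      have h6 : 6 ≤ n := by
        by_contra hcon
        exact hne ⟨by omega, rfl⟩
      exact (two_case_big h6 P hP).elim
    · by_cases hbig : p + 2 ≤ n
      · exact Or.inl (odd_case_big hp2 hbig P hP)
      · exact Or.inr (odd_case_small (by omega) (by omega) P)
  · rintro ⟨rfl, rfl⟩
    exact two_case_five P hP

end Cfsg.Agent.S2269
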