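import Cfsg.Statements.S2272
import Cfsg.Agent.Lib.Helper36.ClsProd.Glue

set_option autoImplicit false
open Cfsg

namespace Cfsg.Agent.S2272

/-- Let F be a finite field and d ≥ 3, and let a, b be non-identity elements of PSL_d(F). Then the product of the conjugacy classes of a and b is not a single conjugacy class: there are conjugates a′ of a and b′ of b such that a′b′ is not conjugate to ab. -/
theorem result {F : Type*} [Field F] [Fintype F] (d : ℕ) (hd : 3 ≤ d)
    (a b : Matrix.ProjectiveSpecialLinearGroup (Fin d) F) (ha : a ≠ 1) (hb : b ≠ 1) :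
    ∃ g h : Matrix.ProjectiveSpecialLinearGroup (Fin d) F, ¬ IsConj (a * b) (g * a * g⁻¹ * (h * b * h⁻¹)) := by
  obtain ⟨A, rfl⟩ := QuotientGroup.mk_surjective a
  obtain ⟨B, rfl⟩ := QuotientGroup.mk_surjective b
  have hA : A ∉ Subgroup.center (Matrix.SpecialLinearGroup (Fin d) F) :=
    fun h => ha ((QuotientGroup.eq_one_iff A).mpr h)
  have hB : B ∉ Subgroup.center (Matrix.SpecialLinearGroup (Fin d) F) :=
    fun h => hb ((QuotientGroup.eq_one_iff B).mpr h)
  obtain ⟨h₀, h₁, t0, t1⟩ := Cfsg.Agent.Lib.Helper36.ClsProd.exists_trace_zero_and_ne hd A B hA hB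
  by_contra hcon
  push Not at hcon
  have c0 := hcon 1 (QuotientGroup.mk h₀)
  have c1 := hcon 1 (QuotientGroup.mk h₁)
  have c01 := c0.symm.trans c1
  rw [one_mul, inv_one, mul_one] at c01
  obtain ⟨k, hk⟩ := isConj_iff.mp c01
  obtain ⟨K, rfl⟩ := QuotientGroup.mk_surjective k
  simp only [← QuotientGroup.mk_inv, ← QuotientGroup.mk_mul] at hk
  rw [QuotientGroup.eq] at hk
  apply t1
  rw [← Matrix.SpecialLinearGroup.coe_mul] at t0 ⊢
  refine Cfsg.Agent.Lib.Helper36.ClsProd.trace_eq_zero_of_conj_mod_center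
    (A * (h₀ * B * h₀⁻¹)) (A * (h₁ * B * h₁⁻¹)) _ (inv_mem hk) K ?_ t0
  group

end Cfsg.Agent.S2272
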