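import Cfsg.Statements.S2280
import Cfsg.Agent.Lib.Helper39.RankOne
import Cfsg.Agent.Lib.Helper39.JordanMat
import Cfsg.Agent.Lib.Helper39.JordanW
import Cfsg.Agent.Lib.Helper39.JordanGen
-- import your own Cfsg.Agent.* helpers here

set_option autoImplicit false
open Cfsg

namespace Cfsg.Agent.S2280

/-- Let F be a finite field and n ≥ 3. Then SL_n(F) is generated by three conjugate regular unipotent elements: there are u with u − 1 nilpotent and (u − 1)^(n−1) ≠ 0, and g, h, such that u, g u g⁻¹ and h u h⁻¹ generate SL_n(F). -/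
theorem result {F : Type*} [Field F] [Fintype F] (n : ℕ) (hn : 3 ≤ n) :
    ∃ u g h : Matrix.SpecialLinearGroup (Fin n) F, (IsNilpotent ((u : Matrix (Fin n) (Fin n) F) - 1) ∧ ((u : Matrix (Fin n) (Fin n) F) - 1) ^ (n - 1) ≠ 0) ∧
      Subgroup.closure ({u, g * u * g⁻¹, h * u * h⁻¹} : Set (Matrix.SpecialLinearGroup (Fin n) F)) = ⊤ := by
  open Matrix Cfsg.Agent.Lib.Helper39.RankOne Cfsg.Agent.Lib.Helper39.JordanMat
    Cfsg.Agent.Lib.Helper39.JordanGen in
  obtain ⟨m, rfl⟩ : ∃ m, n = m + 3 := ⟨n - 3, by omega⟩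
  classical
  -- the data
  set μ : Fin (m + 3) → F := sgnVec F (m + 3) with hμdef
  have hμ : ∀ k, μ k ≠ 0 := sgnVec_ne_zero F (m + 3)
  set u : Matrix.SpecialLinearGroup (Fin (m + 3)) F := ⟨Jmat (m + 3), det_Jmat⟩ with hu
  set g : Matrix.SpecialLinearGroup (Fin (m + 3)) F :=
    ⟨Wmat (m + 3) (sgnVec F (m + 3)), det_Wmat_sgnVec F (m + 3) (by omega)⟩ with hg
  set L' : Matrix (Fin (m + 3)) (Fin (m + 3)) F := (Lmat (m + 3) μ)⁻¹ with hL'
  have hLL' : Lmat (m + 3) μ * L' = 1 :=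
    Matrix.mul_nonsing_inv _ (by rw [det_Lmat]; exact isUnit_one)
  -- a generator of the multiplicative group
  obtain ⟨ζ, hζ⟩ := IsCyclic.exists_monoid_generator (α := Fˣ)
  set t : F := (ζ : F) with ht
  have htgen : ∀ c : F, c ≠ 0 → ∃ k : ℕ, c = t ^ (k + 1) := by
    intro c hc
    obtain ⟨k, hk⟩ := (Submonoid.mem_powers_iff _ _).mp (hζ (Units.mk0 c hc))
    have hpos : 0 < orderOf ζ := orderOf_pos ζ
    refine ⟨k + orderOf ζ - 1, ?_⟩
    have e : k + orderOf ζ - 1 + 1 = k + orderOf ζ := by omega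
    rw [e, ht, ← Units.val_pow_eq_pow_val, pow_add, pow_orderOf_eq_one, mul_one, hk]
    rfl
  set l : Fin (m + 3) := Fin.last (m + 2) with hl
  set c₀ : F := t / (-(L' l 0) * μ 0) with hc₀
  have h1l : (1 : Fin (m + 3)) ≠ l := by
    intro h; have := congrArg Fin.val h; simp [hl] at this
  have h1val : ((1 : Fin (m + 3)) : ℕ) = 1 := by simp
  set h : Matrix.SpecialLinearGroup (Fin (m + 3)) F :=
    Matrix.SpecialLinearGroup.transvection h1l (-c₀) with hh
  refine ⟨u, g, h, ⟨?_, ?_⟩, ?_⟩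
  · -- nilpotent
    have : ((u : Matrix (Fin (m + 3)) (Fin (m + 3)) F) - 1) = Nmat (m + 3) := by
      show Jmat (m + 3) - 1 = Nmat (m + 3)
      unfold Jmat; rw [add_sub_cancel_left]
    rw [this]
    exact ⟨m + 3, Nmat_pow_self⟩
  · have : ((u : Matrix (Fin (m + 3)) (Fin (m + 3)) F) - 1) = Nmat (m + 3) := by
      show Jmat (m + 3) - 1 = Nmat (m + 3)
      unfold Jmat; rw [add_sub_cancel_left]
    rw [this]
    exact Nmat_pow_pred_ne_zero (by omega)
  · set H : Subgroup (Matrix.SpecialLinearGroup (Fin (m + 3)) F) :=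
      Subgroup.closure ({u, g * u * g⁻¹, h * u * h⁻¹} : Set (Matrix.SpecialLinearGroup (Fin (m + 3)) F)) with hH
    have hJ : InH H (Jmat (m + 3) : Matrix (Fin (m + 3)) (Fin (m + 3)) F) :=
      InH.of_mem (g := u) (Subgroup.subset_closure (by simp))
    have hL : InH H (Lmat (m + 3) μ) := by
      have hmem : g * u * g⁻¹ ∈ H := Subgroup.subset_closure (by simp)
      have hcoe : ((g * u * g⁻¹ : Matrix.SpecialLinearGroup (Fin (m + 3)) F) : Matrix (Fin (m + 3)) (Fin (m + 3)) F)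
          = Lmat (m + 3) μ := by
        have hgg : (g : Matrix (Fin (m + 3)) (Fin (m + 3)) F) *
            ((g⁻¹ : Matrix.SpecialLinearGroup (Fin (m + 3)) F) : Matrix (Fin (m + 3)) (Fin (m + 3)) F) = 1 := by
          show ((g * g⁻¹ : Matrix.SpecialLinearGroup (Fin (m + 3)) F) : Matrix (Fin (m + 3)) (Fin (m + 3)) F) = 1
          rw [mul_inv_cancel]; rfl
        show (g : Matrix (Fin (m + 3)) (Fin (m + 3)) F) * (u : Matrix (Fin (m + 3)) (Fin (m + 3)) F) *
          ((g⁻¹ : Matrix.SpecialLinearGroup (Fin (m + 3)) F) : Matrix (Fin (m + 3)) (Fin (m + 3)) F) = _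
        have hWJ : (g : Matrix (Fin (m + 3)) (Fin (m + 3)) F) * (u : Matrix (Fin (m + 3)) (Fin (m + 3)) F)
            = Lmat (m + 3) μ * (g : Matrix (Fin (m + 3)) (Fin (m + 3)) F) := Wmat_sgnVec_mul_Jmat F (m + 3)
        rw [hWJ, Matrix.mul_assoc, hgg, mul_one]
      rw [← hcoe]; exact InH.of_mem hmem
    have hZ : InH H ((Jmat (m + 3) : Matrix (Fin (m + 3)) (Fin (m + 3)) F) *
        tv (Pi.single (0 : Fin (m + 3)) (t / (-(L' (Fin.last (m + 2)) 0) * μ 0)))
          (Pi.single (Fin.last (m + 2)) 1)) := by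
      have hmem : h * u * h⁻¹ ∈ H := Subgroup.subset_closure (by simp)
      have hcoe : ((h * u * h⁻¹ : Matrix.SpecialLinearGroup (Fin (m + 3)) F) : Matrix (Fin (m + 3)) (Fin (m + 3)) F)
          = Jmat (m + 3) * tv (Pi.single (0 : Fin (m + 3)) c₀) (Pi.single l 1) := by
        have hhh : (h : Matrix (Fin (m + 3)) (Fin (m + 3)) F) *
            ((h⁻¹ : Matrix.SpecialLinearGroup (Fin (m + 3)) F) : Matrix (Fin (m + 3)) (Fin (m + 3)) F) = 1 := by
          show ((h * h⁻¹ : Matrix.SpecialLinearGroup (Fin (m + 3)) F) : Matrix (Fin (m + 3)) (Fin (m + 3)) F) = 1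
          rw [mul_inv_cancel]; rfl
        have hhcoe : (h : Matrix (Fin (m + 3)) (Fin (m + 3)) F) = tv (Pi.single 1 (-c₀)) (Pi.single l 1) := by
          rw [hh, Matrix.SpecialLinearGroup.transvection_coe, one_add_single_eq_tv]
        have hl1 : Pi.single l (1 : F) ⬝ᵥ (Pi.single (1 : Fin (m + 3)) (-c₀)) = 0 := by
          rw [single_one_dot, Pi.single_eq_of_ne h1l.symm]
        have key : (h : Matrix (Fin (m + 3)) (Fin (m + 3)) F) * Jmat (m + 3)
            = Jmat (m + 3) * tv (Pi.single (0 : Fin (m + 3)) c₀) (Pi.single l 1) *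
              (h : Matrix (Fin (m + 3)) (Fin (m + 3)) F) := by
          rw [hhcoe, Matrix.mul_assoc, tv_mul_tv _ _ _ hl1]
          unfold tv
          rw [add_mul, one_mul, mul_add, mul_one, Matrix.vecMulVec_mul, Matrix.mul_vecMulVec,
            single_vecMul_Jmat_last l (by simp [hl]) 1, Matrix.mulVec_add,
            Jmat_mulVec_single_zero 0 rfl, Jmat_mulVec_single 0 1 (by simp)]
          congr 2
          ext i
          simp only [Pi.add_apply, Pi.single_apply]
          split_ifs <;> ring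
        show (h : Matrix (Fin (m + 3)) (Fin (m + 3)) F) * (u : Matrix (Fin (m + 3)) (Fin (m + 3)) F) *
          ((h⁻¹ : Matrix.SpecialLinearGroup (Fin (m + 3)) F) : Matrix (Fin (m + 3)) (Fin (m + 3)) F) = _
        have hu' : (u : Matrix (Fin (m + 3)) (Fin (m + 3)) F) = Jmat (m + 3) := rfl
        rw [hu', key, Matrix.mul_assoc, hhh, mul_one]
      rw [← hcoe]; exact InH.of_mem hmem
    exact eq_top_of_gens μ hμ H L' hLL' hJ hL t htgen hZ

end Cfsg.Agent.S2280
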