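import Cfsg.Statements.S2298
import Cfsg.Agent.Lib.Helper39.GL2Count
import Cfsg.Agent.Lib.Helper39.DegType

set_option autoImplicit false
open Cfsg

namespace Cfsg.Agent.S2298

open Cfsg.Agent.Lib.Helper39

/-- Over a finite field F with q elements, every irreducible complex character of GL₂ has degree 1, q − 1, q or q + 1; and when q ≥ 3 (so that these four numbers are distinct) there are exactly q − 1 irreducible characters of degree 1, exactly q − 1 of degree q, exactly (q − 1)(q − 2)/2 of degree q + 1 and exactly q(q − 1)/2 of degree q − 1. -/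
theorem result {F : Type*} [Field F] [Fintype F] :
    (∀ χ : Matrix.GeneralLinearGroup (Fin 2) F → ℂ, Cfsg.IsIrrCharacter (Matrix.GeneralLinearGroup (Fin 2) F) χ →
      χ 1 = 1 ∨ χ 1 = (Fintype.card F : ℂ) - 1 ∨ χ 1 = (Fintype.card F : ℂ) ∨ χ 1 = (Fintype.card F : ℂ) + 1) ∧
    (3 ≤ Fintype.card F →
      Nat.card {χ : Cfsg.IrrCharacter (Matrix.GeneralLinearGroup (Fin 2) F) // (χ : Matrix.GeneralLinearGroup (Fin 2) F → ℂ) 1 = 1} = Fintype.card F - 1 ∧
      Nat.card {χ : Cfsg.IrrCharacter (Matrix.GeneralLinearGroup (Fin 2) F) // (χ : Matrix.GeneralLinearGroup (Fin 2) F → ℂ) 1 = (Fintype.card F : ℂ)} = Fintype.card F - 1 ∧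
      Nat.card {χ : Cfsg.IrrCharacter (Matrix.GeneralLinearGroup (Fin 2) F) // (χ : Matrix.GeneralLinearGroup (Fin 2) F → ℂ) 1 = (Fintype.card F : ℂ) + 1} = (Fintype.card F - 1) * (Fintype.card F - 2) / 2 ∧
      Nat.card {χ : Cfsg.IrrCharacter (Matrix.GeneralLinearGroup (Fin 2) F) // (χ : Matrix.GeneralLinearGroup (Fin 2) F → ℂ) 1 = (Fintype.card F : ℂ) - 1} = Fintype.card F * (Fintype.card F - 1) / 2) := by
  classical
  obtain ⟨m, a, hd, ht, hX, hY, hZ, hC⟩ := gl2_main (F := F)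
  have hq : 2 ≤ Fintype.card F := Fintype.one_lt_card
  have hq1 : ((Fintype.card F - 1 : ℕ) : ℂ) = (Fintype.card F : ℂ) - 1 := by
    rw [Nat.cast_sub (by omega)]; simp
  constructor
  · intro χ hχ
    have h := hd ⟨χ, hχ⟩
    change χ 1 = _ at h
    rcases ht ⟨χ, hχ⟩ with ⟨h1, h2⟩ | ⟨h1, h2⟩ | ⟨h1, h2⟩ | ⟨h1, h2⟩
    · right; left; rw [h, h1, h2]; push_cast [hq1]; ring
    · left; rw [h, h1, h2]; push_cast [hq1]; ring
    · right; right; left; rw [h, h1, h2]; push_cast [hq1]; ring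
    · right; right; right; rw [h, h1, h2]; push_cast [hq1]; ring
  · intro hq3
    have hiff := deg_iff_type (Fintype.card F) hq3 m a hd ht
    have s1 := natCard_subtype_eq_sum_indicator
      (fun χ : Cfsg.IrrCharacter (Matrix.GeneralLinearGroup (Fin 2) F) =>
        (χ : Matrix.GeneralLinearGroup (Fin 2) F → ℂ) 1 = 1)
    have sq := natCard_subtype_eq_sum_indicator
      (fun χ : Cfsg.IrrCharacter (Matrix.GeneralLinearGroup (Fin 2) F) =>
        (χ : Matrix.GeneralLinearGroup (Fin 2) F → ℂ) 1 = (Fintype.card F : ℂ))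
    have sq1 := natCard_subtype_eq_sum_indicator
      (fun χ : Cfsg.IrrCharacter (Matrix.GeneralLinearGroup (Fin 2) F) =>
        (χ : Matrix.GeneralLinearGroup (Fin 2) F → ℂ) 1 = (Fintype.card F : ℂ) + 1)
    have sqm1 := natCard_subtype_eq_sum_indicator
      (fun χ : Cfsg.IrrCharacter (Matrix.GeneralLinearGroup (Fin 2) F) =>
        (χ : Matrix.GeneralLinearGroup (Fin 2) F → ℂ) 1 = (Fintype.card F : ℂ) - 1)
    rw [Finset.sum_congr rfl (fun χ _ => if_congr (hiff χ).1 rfl rfl), hX] at s1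
    rw [Finset.sum_congr rfl (fun χ _ => if_congr (hiff χ).2.1 rfl rfl), hY] at sq
    rw [Finset.sum_congr rfl (fun χ _ => if_congr (hiff χ).2.2.1 rfl rfl)] at sq1
    rw [Finset.sum_congr rfl (fun χ _ => if_congr (hiff χ).2.2.2 rfl rfl)] at sqm1
    rw [← sq1] at hZ
    rw [← sqm1] at hC
    have hc1 : ((Fintype.card F - 1 : ℕ) : ℤ) = (Fintype.card F : ℤ) - 1 := by
      rw [Nat.cast_sub (by omega)]; simp
    have hc2 : ((Fintype.card F - 2 : ℕ) : ℤ) = (Fintype.card F : ℤ) - 2 := by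
      rw [Nat.cast_sub (by omega)]; simp
    refine ⟨?_, ?_, ?_, ?_⟩
    · have : ((Nat.card {χ : Cfsg.IrrCharacter (Matrix.GeneralLinearGroup (Fin 2) F) //
          (χ : Matrix.GeneralLinearGroup (Fin 2) F → ℂ) 1 = 1} : ℕ) : ℤ) =
          ((Fintype.card F - 1 : ℕ) : ℤ) := by rw [hc1]; exact s1
      exact_mod_cast this
    · have : ((Nat.card {χ : Cfsg.IrrCharacter (Matrix.GeneralLinearGroup (Fin 2) F) //
          (χ : Matrix.GeneralLinearGroup (Fin 2) F → ℂ) 1 = (Fintype.card F : ℂ)} : ℕ) : ℤ) =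
          ((Fintype.card F - 1 : ℕ) : ℤ) := by rw [hc1]; exact sq
      exact_mod_cast this
    · have h2 : ((2 * Nat.card {χ : Cfsg.IrrCharacter (Matrix.GeneralLinearGroup (Fin 2) F) //
          (χ : Matrix.GeneralLinearGroup (Fin 2) F → ℂ) 1 = (Fintype.card F : ℂ) + 1} : ℕ) : ℤ) =
          (((Fintype.card F - 1) * (Fintype.card F - 2) : ℕ) : ℤ) := by
        push_cast [hc1, hc2]
        linear_combination hZ
      have h3 : 2 * Nat.card {χ : Cfsg.IrrCharacter (Matrix.GeneralLinearGroup (Fin 2) F) //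
          (χ : Matrix.GeneralLinearGroup (Fin 2) F → ℂ) 1 = (Fintype.card F : ℂ) + 1} =
          (Fintype.card F - 1) * (Fintype.card F - 2) := by exact_mod_cast h2
      rw [← h3, Nat.mul_div_cancel_left _ (by norm_num)]
    · have h2 : ((2 * Nat.card {χ : Cfsg.IrrCharacter (Matrix.GeneralLinearGroup (Fin 2) F) //
          (χ : Matrix.GeneralLinearGroup (Fin 2) F → ℂ) 1 = (Fintype.card F : ℂ) - 1} : ℕ) : ℤ) =
          ((Fintype.card F * (Fintype.card F - 1) : ℕ) : ℤ) := by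
        push_cast [hc1]
        linear_combination hC
      have h3 : 2 * Nat.card {χ : Cfsg.IrrCharacter (Matrix.GeneralLinearGroup (Fin 2) F) //
          (χ : Matrix.GeneralLinearGroup (Fin 2) F → ℂ) 1 = (Fintype.card F : ℂ) - 1} =
          Fintype.card F * (Fintype.card F - 1) := by exact_mod_cast h2
      rw [← h3, Nat.mul_div_cancel_left _ (by norm_num)]

end Cfsg.Agent.S2298
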