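import Cfsg.Statements.S2301
-- import your own Cfsg.Agent.* helpers here

set_option autoImplicit false
open Cfsg

namespace Cfsg.Agent.S2301

open Matrix

local notation "SL2" F => Matrix.SpecialLinearGroup (Fin 2) F

section general

variable {F : Type*} [Field F]

theorem det_rel (g : SL2 F) : g.1 0 0 * g.1 1 1 - g.1 0 1 * g.1 1 0 = 1 := by
  have := g.2
  rwa [Matrix.det_fin_two] at this

/-- build an element of `SL₂` -/
def mk2 (a b c d : F) (h : a * d - b * c = 1) : SL2 F :=
  ⟨!![a, b; c, d], by rw [Matrix.det_fin_two_of]; exact h⟩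

/-- upper unitriangular element -/
def upper (b : F) : SL2 F := mk2 1 b 0 1 (by ring)

theorem eq_upper (g : SL2 F) (h00 : g.1 0 0 = 1) (h11 : g.1 1 1 = 1) (h10 : g.1 1 0 = 0) :
    g = upper (g.1 0 1) := by
  apply Subtype.ext
  ext i j
  fin_cases i <;> fin_cases j <;> simp [upper, mk2, h00, h11, h10]

theorem eq_one_iff (g : SL2 F) : g = 1 ↔ g.1 0 0 = 1 ∧ g.1 0 1 = 0 ∧ g.1 1 0 = 0 ∧ g.1 1 1 = 1 := by
  constructor
  · rintro rfl; simp
  · rintro ⟨h1, h2, h3, h4⟩
    apply Subtype.ext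
    ext i j
    fin_cases i <;> fin_cases j <;> simp [h1, h2, h3, h4]

/-- conjugacy of upper unitriangular matrices -/
theorem conj_upper_iff (b b' : F) (hb : b ≠ 0) (hb' : b' ≠ 0) :
    IsConj (upper b) (upper b') ↔ IsSquare (b * b') := by
  rw [isConj_iff]
  constructor
  · rintro ⟨T, hT⟩
    have hT' : T * upper b = upper b' * T := by
      rw [← hT]; group
    have hm : T.1 * !![1, b; 0, 1] = !![1, b'; 0, 1] * T.1 := congrArg Subtype.val hT'
    have e00 := congrFun (congrFun hm 0) 0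
    have e01 := congrFun (congrFun hm 0) 1
    simp [Matrix.mul_apply, Fin.sum_univ_two] at e00 e01
    have hdet := det_rel T
    have hz : T.1 1 0 = 0 := by
      rcases e00 with h | h
      · exact absurd h hb'
      · exact h
    rw [hz] at hdet
    simp at hdet
    refine ⟨T.1 0 0 * b, ?_⟩
    -- b' = x² b
    have : b' = T.1 0 0 * T.1 0 0 * b := by
      have h1 : b' * (T.1 0 0 * T.1 1 1) = T.1 0 0 * (T.1 0 0 * b) := by
        linear_combination (-T.1 0 0) * e01
      rw [hdet, mul_one] at h1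
      rw [h1]; ring
    rw [this]; ring
  · rintro ⟨s, hs⟩
    have hs0 : s ≠ 0 := by
      rintro rfl
      simp at hs
      rcases hs with h | h
      · exact hb h
      · exact hb' h
    have hx : s / b ≠ 0 := div_ne_zero hs0 hb
    refine ⟨mk2 (s / b) 0 0 (s / b)⁻¹ (by field_simp; ring), ?_⟩
    apply mul_inv_eq_of_eq_mul
    apply Subtype.ext
    show (!![s / b, 0; 0, (s / b)⁻¹] : Matrix (Fin 2) (Fin 2) F) * !![1, b; 0, 1] = !![1, b'; 0, 1] * !![s / b, 0; 0, (s / b)⁻¹]
    ext i j
    fin_cases i <;> fin_cases j <;> simp [Matrix.mul_apply, Fin.sum_univ_two]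
    field_simp
    linear_combination -hs

theorem sub_one_sq (g : SL2 F) :
    (g.1 - 1) ^ 2 = (g.1 0 0 + g.1 1 1 - 2) • g.1 := by
  have hdet := det_rel g
  rw [pow_two]
  ext i j
  fin_cases i <;> fin_cases j <;> simp [Matrix.mul_apply, Fin.sum_univ_two, Matrix.one_apply]
  · linear_combination -hdet
  · ring
  · ring
  · linear_combination -hdet

theorem nilp_sq (N : Matrix (Fin 2) (Fin 2) F) (hN : IsNilpotent N) : N ^ 2 = 0 := by
  have h1 := Matrix.isNilpotent_charpoly_sub_pow_of_isNilpotent hN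
  have h2 : N.charpoly - Polynomial.X ^ (Fintype.card (Fin 2)) = 0 := h1.eq_zero
  have h3 : N.charpoly = Polynomial.X ^ 2 := by
    have := sub_eq_zero.mp h2
    simpa using this
  have h4 := Matrix.aeval_self_charpoly N
  rw [h3] at h4
  simpa using h4

theorem coe_ne_zero (g : SL2 F) : g.1 ≠ 0 := by
  intro h
  have := g.2
  rw [h] at this
  simp at this

variable (p : ℕ) [Fact p.Prime] [CharP F p]

theorem order_p_iff (g : SL2 F) : orderOf g = p ↔ g ≠ 1 ∧ g.1 0 0 + g.1 1 1 = 2 := by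
  have hp : p.Prime := Fact.out
  have hcomm : Commute g.1 (1 : Matrix (Fin 2) (Fin 2) F) := Commute.one_right _
  have hsub : (g.1 - 1) ^ p = g.1 ^ p - 1 := by
    have := sub_pow_char_of_commute (p := p) hcomm
    simpa using this
  rw [orderOf_eq_prime_iff]
  constructor
  · rintro ⟨hpow, hne⟩
    refine ⟨hne, ?_⟩
    have hpow' : g.1 ^ p = 1 := by
      have := congrArg Subtype.val hpow
      simpa using this
    have hnil : IsNilpotent (g.1 - 1) := ⟨p, by rw [hsub, hpow', sub_self]⟩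
    have h2 := nilp_sq _ hnil
    rw [sub_one_sq] at h2
    rcases smul_eq_zero.mp h2 with h | h
    · exact sub_eq_zero.mp h
    · exact absurd h (coe_ne_zero g)
  · rintro ⟨hne, htr⟩
    refine ⟨?_, hne⟩
    have h2 : (g.1 - 1) ^ 2 = 0 := by rw [sub_one_sq, htr, sub_self, zero_smul]
    have h3 : (g.1 - 1) ^ p = 0 := pow_eq_zero_of_le hp.two_le h2
    rw [hsub] at h3
    apply Subtype.ext
    simpa using sub_eq_zero.mp h3

theorem upper_order (b : F) (hb : b ≠ 0) : orderOf (upper b) = p := by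
  rw [order_p_iff]
  refine ⟨?_, ?_⟩
  · intro h
    rw [eq_one_iff] at h
    exact hb h.2.1
  · simp [upper, mk2]; norm_num

theorem conj_to_upper (g : SL2 F) (hg : orderOf g = p) : ∃ b : F, b ≠ 0 ∧ IsConj (upper b) g := by
  obtain ⟨hne, htr⟩ := (order_p_iff p g).mp hg
  have hdet := det_rel g
  have hd : g.1 1 1 = 2 - g.1 0 0 := by linear_combination htr
  by_cases hc : g.1 1 0 = 0
  · -- γ = 0
    rw [hc, hd] at hdet
    have ha : g.1 0 0 = 1 := by
      have : (g.1 0 0 - 1) * (g.1 0 0 - 1) = 0 := by linear_combination -hdet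
      have := mul_self_eq_zero.mp this
      exact sub_eq_zero.mp this
    have hd1 : g.1 1 1 = 1 := by rw [hd, ha]; norm_num
    have hb : g.1 0 1 ≠ 0 := by
      intro hb
      apply hne
      rw [eq_one_iff]
      exact ⟨ha, hb, hc, hd1⟩
    refine ⟨g.1 0 1, hb, ?_⟩
    rw [← eq_upper g ha hd1 hc]
  · refine ⟨-(g.1 1 0)⁻¹, by simpa using hc, ?_⟩
    rw [isConj_iff]
    refine ⟨mk2 (g.1 0 0 - 1) (-(g.1 1 0)⁻¹) (g.1 1 0) 0 (by field_simp; ring), ?_⟩
    apply mul_inv_eq_of_eq_mul
    apply Subtype.ext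
    show (!![g.1 0 0 - 1, -(g.1 1 0)⁻¹; g.1 1 0, 0] : Matrix (Fin 2) (Fin 2) F) * !![1, -(g.1 1 0)⁻¹; 0, 1]
      = g.1 * !![g.1 0 0 - 1, -(g.1 1 0)⁻¹; g.1 1 0, 0]
    ext i j
    fin_cases i <;> fin_cases j <;> simp [Matrix.mul_apply, Fin.sum_univ_two, hd] <;>
      first
      | (field_simp; linear_combination hdet - g.1 0 0 * htr)
      | (linear_combination hdet - g.1 0 0 * htr)
      | (field_simp; ring)

end general

section finite

variable {F : Type*} [Field F] [Fintype F]

/-- The range of `SL → GL` is the kernel of the determinant. (same argument as helper57's CardSL) -/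
theorem range_toGL_eq_ker_det' :
    (SpecialLinearGroup.toGL : SpecialLinearGroup (Fin 2) F →* GL (Fin 2) F).range =
      (GeneralLinearGroup.det : GL (Fin 2) F →* Fˣ).ker := by
  ext g
  rw [MonoidHom.mem_range, MonoidHom.mem_ker]
  constructor
  · rintro ⟨s, rfl⟩
    apply Units.ext
    simp [GeneralLinearGroup.det]
  · intro h
    have hdet : (g : Matrix (Fin 2) (Fin 2) F).det = 1 := by
      have := congrArg Units.val h
      simpa [GeneralLinearGroup.det] using this
    refine ⟨⟨(g : Matrix (Fin 2) (Fin 2) F), hdet⟩, ?_⟩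
    apply Units.ext
    rfl

theorem card_SL2 : Nat.card (SL2 F) = Fintype.card F * (Fintype.card F ^ 2 - 1) := by
  classical
  have hsurj : Function.Surjective (GeneralLinearGroup.det : GL (Fin 2) F →* Fˣ) :=
    GeneralLinearGroup.det_surjective
  have h1 : Nat.card (GL (Fin 2) F) =
      Nat.card (GL (Fin 2) F ⧸ (GeneralLinearGroup.det : GL (Fin 2) F →* Fˣ).ker) *
        Nat.card (GeneralLinearGroup.det : GL (Fin 2) F →* Fˣ).ker :=
    Subgroup.card_eq_card_quotient_mul_card_subgroup _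
  have h2 : Nat.card (GL (Fin 2) F ⧸ (GeneralLinearGroup.det : GL (Fin 2) F →* Fˣ).ker) =
      Nat.card Fˣ :=
    Nat.card_congr (QuotientGroup.quotientKerEquivOfSurjective _ hsurj).toEquiv
  have h3 : Nat.card (GeneralLinearGroup.det : GL (Fin 2) F →* Fˣ).ker =
      Nat.card (SpecialLinearGroup (Fin 2) F) := by
    rw [← range_toGL_eq_ker_det']
    exact (Nat.card_congr (MonoidHom.ofInjective SpecialLinearGroup.toGL_injective).toEquiv).symm
  have h4 : Nat.card Fˣ = Fintype.card F - 1 := by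
    rw [Nat.card_eq_fintype_card, Fintype.card_units]
  have h5 := Matrix.card_GL_field (𝔽 := F) (n := 2)
  rw [h1, h2, h3, h4, Fin.prod_univ_two] at h5
  simp only [Fin.val_zero, pow_zero, Fin.val_one, pow_one] at h5
  have hq : 2 ≤ Fintype.card F := Fintype.one_lt_card
  set q := Fintype.card F with hqdef
  have hq1 : 0 < q - 1 := by omega
  have h6 : q ^ 2 - q = (q - 1) * q := by
    rw [Nat.sub_mul, one_mul, pow_two]
  rw [h6] at h5
  have h7 : (q - 1) * Nat.card (SL2 F) = (q - 1) * (q * (q ^ 2 - 1)) := by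
    rw [h5]; ring
  exact Nat.eq_of_mul_eq_mul_left hq1 h7

theorem two_ne_zero_of (p : ℕ) [Fact p.Prime] [CharP F p] (hp : p ≠ 2) : (2 : F) ≠ 0 := by
  have : ringChar F ≠ 2 := by rw [ringChar.eq F p]; exact hp
  exact Ring.two_ne_zero this

theorem card_sq_eq_one (h2 : (2 : F) ≠ 0) : Nat.card {x : F // x * x = 1} = 2 := by
  classical
  rw [Nat.card_eq_fintype_card, Fintype.card_subtype]
  have : (Finset.univ.filter (fun x : F => x * x = 1)) = {1, -1} := by
    ext x
    simp [mul_self_eq_one_iff]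
  rw [this, Finset.card_pair]
  intro h
  have : (2 : F) = 0 := by linear_combination h
  exact h2 this

theorem card_centralizer_upper (h2 : (2 : F) ≠ 0) (b : F) (hb : b ≠ 0) :
    Nat.card (Subgroup.centralizer ({upper b} : Set (SL2 F))) = 2 * Fintype.card F := by
  classical
  have hcard : Nat.card ({x : F // x * x = 1} × F) = 2 * Fintype.card F := by
    rw [Nat.card_prod, card_sq_eq_one h2, Nat.card_eq_fintype_card]
  rw [← hcard]
  have key : ∀ T : SL2 F, T ∈ Subgroup.centralizer ({upper b} : Set (SL2 F)) →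
      T.1 1 0 = 0 ∧ T.1 1 1 = T.1 0 0 ∧ T.1 0 0 * T.1 0 0 = 1 := by
    intro T hT
    have hT' := hT (upper b) (Set.mem_singleton _)
    have hm : !![1, b; 0, 1] * T.1 = T.1 * !![1, b; 0, 1] := congrArg Subtype.val hT'
    have e00 := congrFun (congrFun hm 0) 0
    have e01 := congrFun (congrFun hm 0) 1
    simp [Matrix.mul_apply, Fin.sum_univ_two] at e00 e01
    have hdet := det_rel T
    have hz : T.1 1 0 = 0 := by
      rcases e00 with h | h
      · exact absurd h hb
      · exact h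
    have hw : T.1 1 1 = T.1 0 0 := by
      have : b * (T.1 1 1 - T.1 0 0) = 0 := by linear_combination e01
      rcases mul_eq_zero.mp this with h | h
      · exact absurd h hb
      · exact sub_eq_zero.mp h
    rw [hz, hw] at hdet
    simp at hdet
    exact ⟨hz, hw, hdet⟩
  let toF : Subgroup.centralizer ({upper b} : Set (SL2 F)) → {x : F // x * x = 1} × F :=
    fun T => (⟨T.1.1 0 0, (key T.1 T.2).2.2⟩, T.1.1 0 1)
  have hinj : Function.Injective toF := by
    intro T1 T2 h12
    simp only [toF, Prod.mk.injEq, Subtype.mk.injEq] at h12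
    apply Subtype.ext
    apply Subtype.ext
    ext i j
    fin_cases i <;> fin_cases j
    · exact h12.1
    · exact h12.2
    · show T1.1.1 1 0 = T2.1.1 1 0
      rw [(key T1.1 T1.2).1, (key T2.1 T2.2).1]
    · show T1.1.1 1 1 = T2.1.1 1 1
      rw [(key T1.1 T1.2).2.1, (key T2.1 T2.2).2.1]; exact h12.1
  have hsurj : Function.Surjective toF := by
    rintro ⟨⟨x, hx⟩, y⟩
    let T : SL2 F := mk2 x y 0 x (by linear_combination hx)
    have hmem : T ∈ Subgroup.centralizer ({upper b} : Set (SL2 F)) := by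
      intro u hu
      rw [Set.mem_singleton_iff] at hu
      subst hu
      apply Subtype.ext
      show (!![1, b; 0, 1] : Matrix (Fin 2) (Fin 2) F) * !![x, y; 0, x] = !![x, y; 0, x] * !![1, b; 0, 1]
      ext i j
      fin_cases i <;> fin_cases j <;> simp [Matrix.mul_apply, Fin.sum_univ_two]
      ring
    exact ⟨⟨T, hmem⟩, rfl⟩
  exact Nat.card_congr (Equiv.ofBijective toF ⟨hinj, hsurj⟩)

theorem card_class_upper (h2 : (2 : F) ≠ 0) (b : F) (hb : b ≠ 0) :
    Nat.card (ConjClasses.mk (upper b : SL2 F)).carrier = (Fintype.card F ^ 2 - 1) / 2 := by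
  classical
  have : Fintype (SL2 F) := Fintype.ofFinite _
  have h1 := ConjClasses.card_carrier (upper b : SL2 F)
  rw [← Nat.card_eq_fintype_card, ← Nat.card_eq_fintype_card, ← Nat.card_eq_fintype_card,
    ← Subgroup.nat_card_centralizer_nat_card_stabilizer, card_centralizer_upper h2 b hb, card_SL2] at h1
  rw [h1, mul_comm (Fintype.card F) _]
  exact Nat.mul_div_mul_right _ _ (Fintype.card_pos (α := F))

end finite

section mainsec

variable {F : Type*} [Field F] [Fintype F]

theorem nonsq_mul (hchar : ringChar F ≠ 2) {a b : F} (ha : a ≠ 0) (hb : b ≠ 0)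
    (hna : ¬ IsSquare a) (hnb : ¬ IsSquare b) : IsSquare (a * b) := by
  rw [FiniteField.isSquare_iff hchar ha] at hna
  rw [FiniteField.isSquare_iff hchar hb] at hnb
  rw [FiniteField.isSquare_iff hchar (mul_ne_zero ha hb), mul_pow]
  have h1 := (FiniteField.pow_dichotomy hchar ha).resolve_left hna
  have h2 := (FiniteField.pow_dichotomy hchar hb).resolve_left hnb
  rw [h1, h2]; ring

theorem main (p : ℕ) [Fact p.Prime] [CharP F p] (hp : p ≠ 2) :
    Nat.card {C : ConjClasses (SL2 F) // ∃ g : SL2 F, orderOf g = p ∧ ConjClasses.mk g = C} = 2 ∧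
    (∀ g : SL2 F, orderOf g = p → Nat.card (ConjClasses.mk g).carrier = (Fintype.card F ^ 2 - 1) / 2) ∧
    ∀ g h : SL2 F, (g : Matrix (Fin 2) (Fin 2) F) 0 0 = 1 → (g : Matrix (Fin 2) (Fin 2) F) 1 1 = 1 → (g : Matrix (Fin 2) (Fin 2) F) 1 0 = 0 → (g : Matrix (Fin 2) (Fin 2) F) 0 1 ≠ 0 →
      (h : Matrix (Fin 2) (Fin 2) F) 0 0 = 1 → (h : Matrix (Fin 2) (Fin 2) F) 1 1 = 1 → (h : Matrix (Fin 2) (Fin 2) F) 1 0 = 0 → (h : Matrix (Fin 2) (Fin 2) F) 0 1 ≠ 0 →
      (IsConj g h ↔ IsSquare ((g : Matrix (Fin 2) (Fin 2) F) 0 1 * (h : Matrix (Fin 2) (Fin 2) F) 0 1)) := by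
  classical
  have h2 : (2 : F) ≠ 0 := two_ne_zero_of p hp
  have hchar : ringChar F ≠ 2 := by rw [ringChar.eq F p]; exact hp
  refine ⟨?_, ?_, ?_⟩
  · obtain ⟨ε, hε⟩ := FiniteField.exists_nonsquare hchar
    have hε0 : ε ≠ 0 := by
      rintro rfl
      exact hε ⟨0, by simp⟩
    have hset : {C : ConjClasses (SL2 F) | ∃ g : SL2 F, orderOf g = p ∧ ConjClasses.mk g = C}
        = {ConjClasses.mk (upper (1 : F)), ConjClasses.mk (upper ε)} := by
      ext C
      simp only [Set.mem_ofPred_eq, Set.mem_insert_iff, Set.mem_singleton_iff]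
      constructor
      · rintro ⟨g, hg, rfl⟩
        obtain ⟨b, hb, hbg⟩ := conj_to_upper p g hg
        rw [← ConjClasses.mk_eq_mk_iff_isConj] at hbg
        rw [← hbg]
        by_cases hsq : IsSquare b
        · left
          rw [ConjClasses.mk_eq_mk_iff_isConj, conj_upper_iff b 1 hb one_ne_zero, mul_one]
          exact hsq
        · right
          rw [ConjClasses.mk_eq_mk_iff_isConj, conj_upper_iff b ε hb hε0]
          exact nonsq_mul hchar hb hε0 hsq hε
      · rintro (rfl | rfl)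
        · exact ⟨upper 1, upper_order p 1 one_ne_zero, rfl⟩
        · exact ⟨upper ε, upper_order p ε hε0, rfl⟩
    have hne : ConjClasses.mk (upper (1 : F)) ≠ ConjClasses.mk (upper ε) := by
      rw [Ne, ConjClasses.mk_eq_mk_iff_isConj, conj_upper_iff 1 ε one_ne_zero hε0, one_mul]
      exact hε
    have : Nat.card {C : ConjClasses (SL2 F) // ∃ g : SL2 F, orderOf g = p ∧ ConjClasses.mk g = C}
        = Set.ncard {C : ConjClasses (SL2 F) | ∃ g : SL2 F, orderOf g = p ∧ ConjClasses.mk g = C} := rfl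
    rw [this, hset, Set.ncard_pair hne]
  · intro g hg
    obtain ⟨b, hb, hbg⟩ := conj_to_upper p g hg
    rw [← ConjClasses.mk_eq_mk_iff_isConj] at hbg
    rw [← hbg]
    exact card_class_upper h2 b hb
  · intro g h g00 g11 g10 g01 h00 h11 h10 h01
    rw [eq_upper g g00 g11 g10, eq_upper h h00 h11 h10]
    have e1 : (upper (g.1 0 1)).1 0 1 = g.1 0 1 := by simp [upper, mk2]
    have e2 : (upper (h.1 0 1)).1 0 1 = h.1 0 1 := by simp [upper, mk2]
    show IsConj (upper (g.1 0 1)) (upper (h.1 0 1)) ↔ IsSquare ((upper (g.1 0 1)).1 0 1 * (upper (h.1 0 1)).1 0 1)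
    rw [e1, e2]
    exact conj_upper_iff _ _ g01 h01

end mainsec

/-- Over a finite field with q elements of odd characteristic p, the elements of order p of SL₂ (the non-identity unipotent elements) fall into exactly two conjugacy classes, each of size (q² − 1)/2; two upper unitriangular matrices with non-zero off-diagonal entries b and b′ are conjugate exactly when bb′ is a square. -/
theorem result {F : Type*} [Field F] [Fintype F] (p : ℕ) [Fact p.Prime] [CharP F p] (hp : p ≠ 2) :
    Nat.card {C : ConjClasses (Matrix.SpecialLinearGroup (Fin 2) F) // ∃ g : Matrix.SpecialLinearGroup (Fin 2) F, orderOf g = p ∧ ConjClasses.mk g = C} = 2 ∧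
    (∀ g : Matrix.SpecialLinearGroup (Fin 2) F, orderOf g = p → Nat.card (ConjClasses.mk g).carrier = (Fintype.card F ^ 2 - 1) / 2) ∧
    ∀ g h : Matrix.SpecialLinearGroup (Fin 2) F, (g : Matrix (Fin 2) (Fin 2) F) 0 0 = 1 → (g : Matrix (Fin 2) (Fin 2) F) 1 1 = 1 → (g : Matrix (Fin 2) (Fin 2) F) 1 0 = 0 → (g : Matrix (Fin 2) (Fin 2) F) 0 1 ≠ 0 →
      (h : Matrix (Fin 2) (Fin 2) F) 0 0 = 1 → (h : Matrix (Fin 2) (Fin 2) F) 1 1 = 1 → (h : Matrix (Fin 2) (Fin 2) F) 1 0 = 0 → (h : Matrix (Fin 2) (Fin 2) F) 0 1 ≠ 0 →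
      (IsConj g h ↔ IsSquare ((g : Matrix (Fin 2) (Fin 2) F) 0 1 * (h : Matrix (Fin 2) (Fin 2) F) 0 1)) := by
  exact main p hp

end Cfsg.Agent.S2301
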