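import Cfsg.Statements.S2302
-- import your own Cfsg.Agent.* helpers here

set_option autoImplicit false
open Cfsg

namespace Cfsg.Agent.S2302

open Matrix

local notation "SL2" F => Matrix.SpecialLinearGroup (Fin 2) F

variable {F : Type*} [Field F] [CharP F 2]

theorem two_eq_zero' : (2 : F) = 0 := CharTwo.two_eq_zero

theorem det_rel (g : SL2 F) : g.1 0 0 * g.1 1 1 - g.1 0 1 * g.1 1 0 = 1 := by
  have := g.2
  rwa [Matrix.det_fin_two] at this

/-- build an element of `SL₂` -/
def mk2 (a b c d : F) (h : a * d - b * c = 1) : SL2 F :=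
  ⟨!![a, b; c, d], by rw [Matrix.det_fin_two_of]; exact h⟩

theorem eq_one_iff (g : SL2 F) : g = 1 ↔ g.1 0 0 = 1 ∧ g.1 0 1 = 0 ∧ g.1 1 0 = 0 ∧ g.1 1 1 = 1 := by
  constructor
  · rintro rfl; simp
  · rintro ⟨h1, h2, h3, h4⟩
    apply Subtype.ext
    ext i j
    fin_cases i <;> fin_cases j <;> simp [h1, h2, h3, h4]

theorem sq_coe (g : SL2 F) : (g ^ 2).1 = !![g.1 0 0 * g.1 0 0 + g.1 0 1 * g.1 1 0, g.1 0 0 * g.1 0 1 + g.1 0 1 * g.1 1 1;
    g.1 1 0 * g.1 0 0 + g.1 1 1 * g.1 1 0, g.1 1 0 * g.1 0 1 + g.1 1 1 * g.1 1 1] := by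
  rw [pow_two]
  show g.1 * g.1 = _
  ext i j
  fin_cases i <;> fin_cases j <;> simp [Matrix.mul_apply, Fin.sum_univ_two]

/-- characterization of involutions in characteristic 2 -/
theorem order_two_iff (g : SL2 F) : orderOf g = 2 ↔ g ≠ 1 ∧ g.1 0 0 = g.1 1 1 := by
  have h2 : (2 : F) = 0 := two_eq_zero'
  have hdet := det_rel g
  have : Fact (Nat.Prime 2) := ⟨Nat.prime_two⟩
  rw [orderOf_eq_prime_iff]
  constructor
  · rintro ⟨hsq, hne⟩
    refine ⟨hne, ?_⟩
    have hsq' : (g ^ 2).1 = 1 := by rw [hsq]; rfl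
    rw [sq_coe] at hsq'
    have e00 := congrFun (congrFun hsq' 0) 0
    have e01 := congrFun (congrFun hsq' 0) 1
    have e10 := congrFun (congrFun hsq' 1) 0
    have e11 := congrFun (congrFun hsq' 1) 1
    simp at e00 e01 e10 e11
    by_contra had
    have hs : g.1 0 0 + g.1 1 1 ≠ 0 := by
      intro h0
      apply had
      have : g.1 0 0 = -g.1 1 1 := eq_neg_of_add_eq_zero_left h0
      rw [this, CharTwo.neg_eq]
    have hb : g.1 0 1 = 0 := by
      have : g.1 0 1 * (g.1 0 0 + g.1 1 1) = 0 := by linear_combination e01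
      rcases mul_eq_zero.mp this with h | h
      · exact h
      · exact absurd h hs
    have hc : g.1 1 0 = 0 := by
      have : g.1 1 0 * (g.1 0 0 + g.1 1 1) = 0 := by linear_combination e10
      rcases mul_eq_zero.mp this with h | h
      · exact h
      · exact absurd h hs
    rw [hb] at e00 e11
    simp at e00 e11
    have ha : g.1 0 0 = 1 := by
      have : (g.1 0 0 - 1) * (g.1 0 0 - 1) = 0 := by linear_combination e00 - g.1 0 0 * h2 + h2
      have := mul_self_eq_zero.mp this
      exact sub_eq_zero.mp this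
    have hd : g.1 1 1 = 1 := by
      have : (g.1 1 1 - 1) * (g.1 1 1 - 1) = 0 := by linear_combination e11 - g.1 1 1 * h2 + h2
      have := mul_self_eq_zero.mp this
      exact sub_eq_zero.mp this
    exact had (by rw [ha, hd])
  · rintro ⟨hne, had⟩
    refine ⟨?_, hne⟩
    apply Subtype.ext
    rw [sq_coe]
    show _ = (1 : Matrix (Fin 2) (Fin 2) F)
    rw [← had] at hdet ⊢
    ext i j
    fin_cases i <;> fin_cases j <;> simp
    · linear_combination hdet + g.1 0 1 * g.1 1 0 * h2
    · linear_combination g.1 0 0 * g.1 0 1 * h2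
    · linear_combination g.1 1 0 * g.1 0 0 * h2
    · linear_combination hdet + g.1 0 1 * g.1 1 0 * h2

/-- the standard involution -/
def stdU : SL2 F := mk2 1 1 0 1 (by ring)

theorem isConj_std [Finite F] (g : SL2 F) (hg : orderOf g = 2) : IsConj (stdU : SL2 F) g := by
  have h2 : (2 : F) = 0 := two_eq_zero'
  obtain ⟨hne, had⟩ := (order_two_iff g).mp hg
  have hdet := det_rel g
  rw [← had] at hdet
  rw [isConj_iff]
  by_cases hc : g.1 1 0 = 0
  · -- c = 0
    rw [hc] at hdet
    have ha : g.1 0 0 = 1 := by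
      have : (g.1 0 0 - 1) * (g.1 0 0 - 1) = 0 := by linear_combination hdet - g.1 0 0 * h2 + h2
      have := mul_self_eq_zero.mp this
      exact sub_eq_zero.mp this
    have hb : g.1 0 1 ≠ 0 := by
      intro hb
      apply hne
      rw [eq_one_iff]
      exact ⟨ha, hb, hc, by rw [← had, ha]⟩
    obtain ⟨t, ht⟩ := isSquare_of_charTwo' (g.1 0 1)
    have ht0 : t ≠ 0 := by
      rintro rfl
      simp at ht
      exact hb ht
    refine ⟨mk2 t 0 0 t⁻¹ (by field_simp; ring), ?_⟩
    apply mul_inv_eq_of_eq_mul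
    apply Subtype.ext
    show (!![t, 0; 0, t⁻¹] : Matrix (Fin 2) (Fin 2) F) * !![1, 1; 0, 1] = g.1 * !![t, 0; 0, t⁻¹]
    ext i j
    fin_cases i <;> fin_cases j <;> simp [Matrix.mul_apply, Fin.sum_univ_two, ha, hc, ← had]
    · rw [ht]; field_simp
  · -- c ≠ 0
    obtain ⟨s, hs⟩ := isSquare_of_charTwo' ((g.1 1 0)⁻¹)
    have hs0 : s ≠ 0 := by
      rintro rfl
      simp at hs
      exact hc hs
    have hsc : s * s * g.1 1 0 = 1 := by rw [← hs]; exact inv_mul_cancel₀ hc
    refine ⟨mk2 (s * (g.1 0 0 + 1)) s (s * g.1 1 0) 0 (by linear_combination (-1 : F) * hsc - h2), ?_⟩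
    apply mul_inv_eq_of_eq_mul
    apply Subtype.ext
    show (!![s * (g.1 0 0 + 1), s; s * g.1 1 0, 0] : Matrix (Fin 2) (Fin 2) F) * !![1, 1; 0, 1]
      = g.1 * !![s * (g.1 0 0 + 1), s; s * g.1 1 0, 0]
    ext i j
    fin_cases i <;> fin_cases j <;> simp [Matrix.mul_apply, Fin.sum_univ_two, ← had] <;>
      first
      | linear_combination (-s) * hdet - s * g.1 0 1 * g.1 1 0 * h2
      | linear_combination s * h2
      | linear_combination (- s * g.1 1 0 * g.1 0 0) * h2
      | ring

theorem orderOf_conj' {G : Type*} [Group G] (a c : G) : orderOf (c * a * c⁻¹) = orderOf a := by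
  have := orderOf_injective (MulAut.conj c).toMonoidHom (MulAut.conj c).injective a
  simpa using this

theorem card_involutions [Fintype F] :
    Nat.card {x : SL2 F // orderOf x = 2} = Fintype.card F ^ 2 - 1 := by
  classical
  have h2 : (2 : F) = 0 := two_eq_zero'
  have hcard : Nat.card {p : F × F // p ≠ 0} = Fintype.card F ^ 2 - 1 := by
    rw [Nat.card_eq_fintype_card, Fintype.card_subtype_compl, Fintype.card_subtype_eq,
      Fintype.card_prod, pow_two]
  rw [← hcard]
  let toF : {x : SL2 F // orderOf x = 2} → {p : F × F // p ≠ 0} := fun x =>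
    ⟨(x.1.1 0 1, x.1.1 1 0), by
      intro h0
      simp only [Prod.mk_eq_zero] at h0
      obtain ⟨hne, had⟩ := (order_two_iff x.1).mp x.2
      have hdet := det_rel x.1
      rw [← had, h0.1, h0.2] at hdet
      have ha : x.1.1 0 0 = 1 := by
        have : (x.1.1 0 0 - 1) * (x.1.1 0 0 - 1) = 0 := by linear_combination hdet - x.1.1 0 0 * h2 + h2
        have := mul_self_eq_zero.mp this
        exact sub_eq_zero.mp this
      apply hne
      rw [eq_one_iff]
      exact ⟨ha, h0.1, h0.2, by rw [← had, ha]⟩⟩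
  have hinj : Function.Injective toF := by
    intro x y hxy
    have e := congrArg Subtype.val hxy
    simp only [toF, Prod.mk.injEq] at e
    obtain ⟨_, hadx⟩ := (order_two_iff x.1).mp x.2
    obtain ⟨_, hady⟩ := (order_two_iff y.1).mp y.2
    have hdx := det_rel x.1
    have hdy := det_rel y.1
    rw [← hadx] at hdx
    rw [← hady, ← e.1, ← e.2] at hdy
    have ha : x.1.1 0 0 = y.1.1 0 0 := by
      have : (x.1.1 0 0 - y.1.1 0 0) * (x.1.1 0 0 - y.1.1 0 0) = 0 := by
        linear_combination hdx - hdy + (y.1.1 0 0 * y.1.1 0 0 - x.1.1 0 0 * y.1.1 0 0) * h2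
      have := mul_self_eq_zero.mp this
      exact sub_eq_zero.mp this
    apply Subtype.ext
    apply Subtype.ext
    ext i j
    fin_cases i <;> fin_cases j
    · exact ha
    · exact e.1
    · exact e.2
    · show x.1.1 1 1 = y.1.1 1 1
      rw [← hadx, ← hady]; exact ha
  have hsurj : Function.Surjective toF := by
    rintro ⟨⟨b, c⟩, hbc⟩
    obtain ⟨a, ha⟩ := isSquare_of_charTwo' (1 + b * c)
    let x : SL2 F := mk2 a b c a (by linear_combination -ha)
    have hx : orderOf x = 2 := by
      rw [order_two_iff]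
      refine ⟨?_, rfl⟩
      intro h1
      rw [eq_one_iff] at h1
      apply hbc
      have hb : b = 0 := h1.2.1
      have hc : c = 0 := h1.2.2.1
      rw [hb, hc]; rfl
    exact ⟨⟨x, hx⟩, rfl⟩
  exact Nat.card_congr (Equiv.ofBijective toF ⟨hinj, hsurj⟩)

theorem main [Fintype F] (g h : SL2 F) (hg : orderOf g = 2) (hh : orderOf h = 2) :
    IsConj g h ∧ Nat.card (ConjClasses.mk g).carrier = Fintype.card F ^ 2 - 1 := by
  refine ⟨(isConj_std g hg).symm.trans (isConj_std h hh), ?_⟩
  rw [← card_involutions]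
  apply Nat.card_congr
  apply Equiv.subtypeEquivRight
  intro x
  rw [ConjClasses.mem_carrier_iff_mk_eq, ConjClasses.mk_eq_mk_iff_isConj]
  constructor
  · intro hx
    obtain ⟨c, hc⟩ := isConj_iff.mp hx
    -- c * x * c⁻¹ = g
    rw [← orderOf_conj' x c, hc]; exact hg
  · intro hx
    exact (isConj_std x hx).symm.trans (isConj_std g hg)

/-- Over a finite field with q elements of characteristic 2, the involutions of SL₂ (the non-identity unipotent elements) form a single conjugacy class, of size q² − 1. -/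
theorem result {F : Type*} [Field F] [Fintype F] [CharP F 2] (g h : Matrix.SpecialLinearGroup (Fin 2) F) (hg : orderOf g = 2) (hh : orderOf h = 2) :
    IsConj g h ∧ Nat.card (ConjClasses.mk g).carrier = Fintype.card F ^ 2 - 1 := by
  exact main g h hg hh

end Cfsg.Agent.S2302
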