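import Cfsg.Statements.S2303
-- import your own Cfsg.Agent.* helpers here

set_option autoImplicit false
open Cfsg

namespace Cfsg.Agent.S2303

open Matrix

theorem mem_cent_iff {F : Type*} [Field F] (g h : GL (Fin 2) F) :
    h ∈ Subgroup.centralizer ({g} : Set (GL (Fin 2) F)) ↔
      (g : Matrix (Fin 2) (Fin 2) F) * (h : Matrix (Fin 2) (Fin 2) F) =
        (h : Matrix (Fin 2) (Fin 2) F) * (g : Matrix (Fin 2) (Fin 2) F) := by
  rw [Subgroup.mem_centralizer_iff]
  constructor
  · intro hh
    have := hh g (Set.mem_singleton g)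
    have h2 := congrArg (fun x : GL (Fin 2) F => (x : Matrix (Fin 2) (Fin 2) F)) this
    simpa using h2
  · intro hh x hx
    rw [Set.mem_singleton_iff] at hx
    subst hx
    apply Units.ext
    simpa using hh

theorem card_nonzero_pairs {F : Type*} [Field F] [Fintype F] :
    Nat.card {p : F × F // p.1 ≠ 0 ∧ p.2 ≠ 0} = (Fintype.card F - 1) ^ 2 := by
  classical
  have e : {p : F × F // p.1 ≠ 0 ∧ p.2 ≠ 0} ≃ {x : F // x ≠ 0} × {y : F // y ≠ 0} :=
    Equiv.subtypeProdEquivProd (p := fun x : F => x ≠ 0) (q := fun y : F => y ≠ 0)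
  rw [Nat.card_congr e, Nat.card_prod, Nat.card_eq_fintype_card, Fintype.card_subtype_compl,
    Fintype.card_subtype_eq, pow_two]

theorem part1 {F : Type*} [Field F] [Fintype F] (g : GL (Fin 2) F)
    (h01 : (g : Matrix (Fin 2) (Fin 2) F) 0 1 = 0) (h10 : (g : Matrix (Fin 2) (Fin 2) F) 1 0 = 0)
    (hne : (g : Matrix (Fin 2) (Fin 2) F) 0 0 ≠ (g : Matrix (Fin 2) (Fin 2) F) 1 1) :
    Nat.card (Subgroup.centralizer ({g} : Set (GL (Fin 2) F))) = (Fintype.card F - 1) ^ 2 := by
  classical
  rw [← card_nonzero_pairs]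
  -- entries of centralizing elements
  have key : ∀ h : GL (Fin 2) F, h ∈ Subgroup.centralizer ({g} : Set (GL (Fin 2) F)) →
      (h : Matrix (Fin 2) (Fin 2) F) 0 1 = 0 ∧ (h : Matrix (Fin 2) (Fin 2) F) 1 0 = 0 ∧
      (h : Matrix (Fin 2) (Fin 2) F) 0 0 ≠ 0 ∧ (h : Matrix (Fin 2) (Fin 2) F) 1 1 ≠ 0 := by
    intro h hh
    rw [mem_cent_iff] at hh
    have e01 := congrFun (congrFun hh 0) 1
    have e10 := congrFun (congrFun hh 1) 0
    simp only [Matrix.mul_apply, Fin.sum_univ_two, h01, h10, zero_mul, mul_zero, add_zero, zero_add] at e01 e10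
    have hz01 : (h : Matrix (Fin 2) (Fin 2) F) 0 1 = 0 := by
      have : ((g : Matrix (Fin 2) (Fin 2) F) 0 0 - (g : Matrix (Fin 2) (Fin 2) F) 1 1) * (h : Matrix (Fin 2) (Fin 2) F) 0 1 = 0 := by
        rw [sub_mul, e01]; ring
      rcases mul_eq_zero.mp this with h1 | h1
      · exact absurd (sub_eq_zero.mp h1) hne
      · exact h1
    have hz10 : (h : Matrix (Fin 2) (Fin 2) F) 1 0 = 0 := by
      have : ((g : Matrix (Fin 2) (Fin 2) F) 0 0 - (g : Matrix (Fin 2) (Fin 2) F) 1 1) * (h : Matrix (Fin 2) (Fin 2) F) 1 0 = 0 := by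
        rw [sub_mul, e10]; ring
      rcases mul_eq_zero.mp this with h1 | h1
      · exact absurd (sub_eq_zero.mp h1) hne
      · exact h1
    have hdet : (h : Matrix (Fin 2) (Fin 2) F).det ≠ 0 := by
      have := Matrix.GeneralLinearGroup.det_ne_zero h
      simpa using this
    rw [Matrix.det_fin_two, hz01, hz10] at hdet
    simp only [mul_zero, sub_zero] at hdet
    exact ⟨hz01, hz10, left_ne_zero_of_mul hdet, right_ne_zero_of_mul hdet⟩
  let toF : Subgroup.centralizer ({g} : Set (GL (Fin 2) F)) → {p : F × F // p.1 ≠ 0 ∧ p.2 ≠ 0} :=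
    fun h => ⟨((h : GL (Fin 2) F).val 0 0, (h : GL (Fin 2) F).val 1 1), (key h h.2).2.2.1, (key h h.2).2.2.2⟩
  have hinj : Function.Injective toF := by
    intro h1 h2 h12
    have e := congrArg Subtype.val h12
    simp only [toF, Prod.mk.injEq] at e
    apply Subtype.ext
    apply Matrix.GeneralLinearGroup.ext
    intro i j
    fin_cases i <;> fin_cases j
    · exact e.1
    · simp [(key h1 h1.2).1, (key h2 h2.2).1]
    · simp [(key h1 h1.2).2.1, (key h2 h2.2).2.1]
    · exact e.2
  have hsurj : Function.Surjective toF := by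
    rintro ⟨⟨x, y⟩, hx, hy⟩
    simp only at hx hy
    have hdet : (!![x, 0; 0, y] : Matrix (Fin 2) (Fin 2) F).det ≠ 0 := by
      rw [Matrix.det_fin_two_of]; simp [hx, hy]
    let h : GL (Fin 2) F := Matrix.GeneralLinearGroup.mkOfDetNeZero !![x, 0; 0, y] hdet
    have hmem : h ∈ Subgroup.centralizer ({g} : Set (GL (Fin 2) F)) := by
      rw [mem_cent_iff]
      have hg : (g : Matrix (Fin 2) (Fin 2) F) = !![(g : Matrix (Fin 2) (Fin 2) F) 0 0, 0; 0, (g : Matrix (Fin 2) (Fin 2) F) 1 1] := by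
        ext i j; fin_cases i <;> fin_cases j <;> simp [h01, h10]
      rw [hg]
      show _ * !![x, 0; 0, y] = !![x, 0; 0, y] * _
      ext i j; fin_cases i <;> fin_cases j <;> simp [Matrix.mul_apply, Fin.sum_univ_two, mul_comm]
    refine ⟨⟨h, hmem⟩, ?_⟩
    apply Subtype.ext
    simp [toF, h, Matrix.GeneralLinearGroup.mkOfDetNeZero]
  exact Nat.card_congr (Equiv.ofBijective toF ⟨hinj, hsurj⟩)

theorem mem_cent_iff' {F : Type*} [Field F] (g h : GL (Fin 2) F) :
    h ∈ Subgroup.centralizer ({g} : Set (GL (Fin 2) F)) ↔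
      (g : Matrix (Fin 2) (Fin 2) F) * (h : Matrix (Fin 2) (Fin 2) F) =
        (h : Matrix (Fin 2) (Fin 2) F) * (g : Matrix (Fin 2) (Fin 2) F) := by
  rw [Subgroup.mem_centralizer_iff]
  constructor
  · intro hh
    have := hh g (Set.mem_singleton g)
    have h2 := congrArg (fun x : GL (Fin 2) F => (x : Matrix (Fin 2) (Fin 2) F)) this
    simpa using h2
  · intro hh x hx
    rw [Set.mem_singleton_iff] at hx
    subst hx
    apply Units.ext
    simpa using hh

theorem card_nonzero_pair {F : Type*} [Field F] [Fintype F] :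
    Nat.card {p : F × F // p ≠ 0} = Fintype.card F ^ 2 - 1 := by
  classical
  rw [Nat.card_eq_fintype_card, Fintype.card_subtype_compl, Fintype.card_subtype_eq,
    Fintype.card_prod, pow_two]

theorem part2 {F : Type*} [Field F] [Fintype F] (g : GL (Fin 2) F)
    (hne : ∀ (c : F) (v : Fin 2 → F), v ≠ 0 → (g : Matrix (Fin 2) (Fin 2) F).mulVec v ≠ c • v) :
    Nat.card (Subgroup.centralizer ({g} : Set (GL (Fin 2) F))) = Fintype.card F ^ 2 - 1 := by
  classical
  rw [← card_nonzero_pair]
  set G : Matrix (Fin 2) (Fin 2) F := (g : Matrix (Fin 2) (Fin 2) F) with hG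
  -- c ≠ 0
  have hc : G 1 0 ≠ 0 := by
    intro h0
    apply hne (G 0 0) ![1, 0] (by intro h; have := congrFun h 0; simp at this)
    ext i
    fin_cases i <;> simp [Matrix.mulVec, dotProduct, Fin.sum_univ_two, h0]
  -- invertibility of x + y g
  have hdet : ∀ x y : F, (x, y) ≠ (0 : F × F) → (x • (1 : Matrix (Fin 2) (Fin 2) F) + y • G).det ≠ 0 := by
    intro x y hxy hd
    obtain ⟨v, hv, hMv⟩ := Matrix.exists_mulVec_eq_zero_iff.mpr hd
    rw [Matrix.add_mulVec, Matrix.smul_mulVec, Matrix.smul_mulVec, Matrix.one_mulVec] at hMv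
    by_cases hy : y = 0
    · subst hy
      simp only [zero_smul, add_zero] at hMv
      rcases smul_eq_zero.mp hMv with h | h
      · exact hxy (by rw [h]; rfl)
      · exact hv h
    · apply hne (-x / y) v hv
      have : y • (G.mulVec v) = -(x • v) := by
        rw [eq_neg_iff_add_eq_zero, add_comm]; exact hMv
      calc G.mulVec v = y⁻¹ • (y • G.mulVec v) := by rw [smul_smul, inv_mul_cancel₀ hy, one_smul]
        _ = y⁻¹ • (-(x • v)) := by rw [this]
        _ = (-x / y) • v := by rw [smul_neg, smul_smul, ← neg_smul]; congr 1; field_simp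
  -- structure of centralizing elements
  have key : ∀ h : GL (Fin 2) F, h ∈ Subgroup.centralizer ({g} : Set (GL (Fin 2) F)) →
      (h : Matrix (Fin 2) (Fin 2) F) =
        ((h : Matrix (Fin 2) (Fin 2) F) 0 0 - (h : Matrix (Fin 2) (Fin 2) F) 1 0 / G 1 0 * G 0 0) • (1 : Matrix (Fin 2) (Fin 2) F)
          + ((h : Matrix (Fin 2) (Fin 2) F) 1 0 / G 1 0) • G := by
    intro h hh
    rw [mem_cent_iff'] at hh
    have e00 := congrFun (congrFun hh 0) 0
    have e10 := congrFun (congrFun hh 1) 0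
    simp only [Matrix.mul_apply, Fin.sum_univ_two] at e00 e10
    rw [← hG] at e00 e10
    ext i j
    fin_cases i <;> fin_cases j
    · simp
    · simp
      field_simp
      linear_combination -e00
    · simp; field_simp
    · simp
      field_simp
      linear_combination -e10
  let toF : Subgroup.centralizer ({g} : Set (GL (Fin 2) F)) → {p : F × F // p ≠ 0} :=
    fun h => ⟨((h : GL (Fin 2) F).val 0 0 - (h : GL (Fin 2) F).val 1 0 / G 1 0 * G 0 0, (h : GL (Fin 2) F).val 1 0 / G 1 0), by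
      intro h0
      have e := key h h.2
      simp only [Prod.mk_eq_zero] at h0
      rw [h0.1, h0.2] at e
      simp only [zero_smul, add_zero] at e
      have hdet := Matrix.GeneralLinearGroup.det_ne_zero (h : GL (Fin 2) F)
      apply hdet
      show ((h : GL (Fin 2) F) : Matrix (Fin 2) (Fin 2) F).det = 0
      rw [e]; simp⟩
  have hinj : Function.Injective toF := by
    intro h1 h2 h12
    have e := congrArg Subtype.val h12
    simp only [toF, Prod.mk.injEq] at e
    apply Subtype.ext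
    apply Units.ext
    rw [key h1 h1.2, key h2 h2.2, e.1, e.2]
  have hsurj : Function.Surjective toF := by
    rintro ⟨⟨x, y⟩, hxy⟩
    have hd := hdet x y hxy
    let h : GL (Fin 2) F := Matrix.GeneralLinearGroup.mkOfDetNeZero _ hd
    have hval : (h : Matrix (Fin 2) (Fin 2) F) = x • (1 : Matrix (Fin 2) (Fin 2) F) + y • G := rfl
    have hmem : h ∈ Subgroup.centralizer ({g} : Set (GL (Fin 2) F)) := by
      rw [mem_cent_iff', hval]
      show G * _ = _ * G
      rw [mul_add, add_mul, Matrix.mul_smul, Matrix.smul_mul, Matrix.mul_smul, Matrix.smul_mul, mul_one, one_mul]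
    refine ⟨⟨h, hmem⟩, ?_⟩
    apply Subtype.ext
    simp only [toF]
    show ((h : Matrix (Fin 2) (Fin 2) F) 0 0 - (h : Matrix (Fin 2) (Fin 2) F) 1 0 / G 1 0 * G 0 0, (h : Matrix (Fin 2) (Fin 2) F) 1 0 / G 1 0) = (x, y)
    rw [hval]
    ext
    · simp; field_simp; ring
    · simp; field_simp
  exact Nat.card_congr (Equiv.ofBijective toF ⟨hinj, hsurj⟩)

/-- Over a finite field with q elements: a diagonal element of GL₂ with two distinct diagonal entries has centralizer of order (q − 1)² (so q(q + 1) conjugates), and an element of GL₂ with no eigenvector in F² has centralizer of order q² − 1 (so q(q − 1) conjugates). -/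
theorem result {F : Type*} [Field F] [Fintype F] (g : Matrix.GeneralLinearGroup (Fin 2) F) :
    ((g : Matrix (Fin 2) (Fin 2) F) 0 1 = 0 → (g : Matrix (Fin 2) (Fin 2) F) 1 0 = 0 → (g : Matrix (Fin 2) (Fin 2) F) 0 0 ≠ (g : Matrix (Fin 2) (Fin 2) F) 1 1 →
      Nat.card (Subgroup.centralizer ({g} : Set (Matrix.GeneralLinearGroup (Fin 2) F))) = (Fintype.card F - 1) ^ 2) ∧
    ((∀ (c : F) (v : Fin 2 → F), v ≠ 0 → (g : Matrix (Fin 2) (Fin 2) F).mulVec v ≠ c • v) →
      Nat.card (Subgroup.centralizer ({g} : Set (Matrix.GeneralLinearGroup (Fin 2) F))) = Fintype.card F ^ 2 - 1) := by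
  exact ⟨fun h01 h10 hne => part1 g h01 h10 hne, fun hne => part2 g hne⟩

end Cfsg.Agent.S2303
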