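import Cfsg.Statements.S2305
import Cfsg.Agent.Lib.Helper39.IndBorel

set_option autoImplicit false
open Cfsg

namespace Cfsg.Agent.S2305

open Matrix Cfsg.Agent.Lib.Helper39

variable {F : Type*} [Field F] [Fintype F] [DecidableEq F]

/-- the sum over fixed lines is symmetric in the two eigenvalues -/
theorem swap_sum (A : Matrix (Fin 2) (Fin 2) F) (f : F → F → ℂ) :
    (∑ c : Option F, if borelEntry A c = 0 then f (borelDiag0 A c) (borelDiag1 A c) else 0) =
    ∑ c : Option F, if borelEntry A c = 0 then f (borelDiag1 A c) (borelDiag0 A c) else 0 := by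
  by_cases hq : A 0 1 = 0
  · -- upper right entry zero
    rw [Fintype.sum_option, Fintype.sum_option]
    simp only [borelEntry_none, borelEntry_some, borelDiag0_none, borelDiag1_none, borelDiag0_some,
      borelDiag1_some, hq, zero_mul, add_zero, sub_zero, if_true]
    by_cases hps : A 1 1 = A 0 0
    · rw [hps]
    · have hne : A 1 1 - A 0 0 ≠ 0 := sub_ne_zero.mpr hps
      have hiff : ∀ c : F, A 1 0 + (A 1 1 - A 0 0) * c = 0 ↔ c = -A 1 0 / (A 1 1 - A 0 0) := by
        intro c
        constructor
        · intro h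
          field_simp
          linear_combination h
        · intro h
          rw [h]
          field_simp
          ring
      simp only [hiff, Finset.sum_ite_eq', Finset.mem_univ, if_true]
      ring
  · -- upper right entry non-zero: involution on the affine line
    let e : Option F ≃ Option F :=
      { toFun := fun c => c.map (fun c => (A 1 1 - A 0 0) / A 0 1 - c)
        invFun := fun c => c.map (fun c => (A 1 1 - A 0 0) / A 0 1 - c)
        left_inv := fun c => by cases c <;> simp
        right_inv := fun c => by cases c <;> simp }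
    rw [← e.sum_comp]
    refine Finset.sum_congr rfl (fun c _ => ?_)
    cases c with
    | none => simp [e, hq]
    | some c =>
      have h1 : borelEntry A (e (some c)) = borelEntry A (some c) := by
        simp only [e, Equiv.coe_fn_mk, Option.map_some, borelEntry_some]
        field_simp
        ring
      have h2 : borelDiag0 A (e (some c)) = borelDiag1 A (some c) := by
        simp only [e, Equiv.coe_fn_mk, Option.map_some, borelDiag0_some, borelDiag1_some]
        field_simp
        ring
      have h3 : borelDiag1 A (e (some c)) = borelDiag0 A (some c) := by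
        simp only [e, Equiv.coe_fn_mk, Option.map_some, borelDiag0_some, borelDiag1_some]
        field_simp
        ring
      rw [h1, h2, h3]

/-- the induced function attached to a pair of multiplicative characters -/
noncomputable def ps (α β : MulChar F ℂ) : Matrix.GeneralLinearGroup (Fin 2) F → ℂ :=
  Cfsg.indFun (Cfsg.upperTriangularGL 2 F) (fun b => α (((b : Matrix.GeneralLinearGroup (Fin 2) F) : Matrix (Fin 2) (Fin 2) F) 0 0) * β (((b : Matrix.GeneralLinearGroup (Fin 2) F) : Matrix (Fin 2) (Fin 2) F) 1 1))

theorem ps_apply (α β : MulChar F ℂ) (g : Matrix.GeneralLinearGroup (Fin 2) F) :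
    ps α β g = ∑ c : Option F, if borelEntry (g : Matrix (Fin 2) (Fin 2) F) c = 0 then
      α (borelDiag0 (g : Matrix (Fin 2) (Fin 2) F) c) * β (borelDiag1 (g : Matrix (Fin 2) (Fin 2) F) c)
      else 0 :=
  indFun_borel (fun x y => α x * β y) g

theorem ps_swap (α β : MulChar F ℂ) : ps α β = ps β α := by
  funext g
  rw [ps_apply, ps_apply, swap_sum _ (fun x y => α x * β y)]
  refine Finset.sum_congr rfl (fun c _ => ?_)
  split_ifs
  · exact mul_comm _ _
  · rfl

/-- value at a diagonal matrix with distinct entries -/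
theorem ps_diag (α β : MulChar F ℂ) {a b : F} (ha : a ≠ 0) (hb : b ≠ 0) (hab : a ≠ b) :
    ps α β (Matrix.GeneralLinearGroup.mkOfDetNeZero !![a, 0; 0, b]
      (by simp [Matrix.det_fin_two, ha, hb])) = α a * β b + α b * β a := by
  rw [ps_apply, Fintype.sum_option]
  have hval : ((Matrix.GeneralLinearGroup.mkOfDetNeZero !![a, 0; 0, b]
      (by simp [Matrix.det_fin_two, ha, hb]) : Matrix.GeneralLinearGroup (Fin 2) F) :
      Matrix (Fin 2) (Fin 2) F) = !![a, 0; 0, b] := rfl
  rw [hval]
  have hne : b - a ≠ 0 := sub_ne_zero.mpr (Ne.symm hab)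
  simp only [borelEntry_none, borelEntry_some, borelDiag0_none, borelDiag1_none, borelDiag0_some,
    borelDiag1_some, of_apply, cons_val', cons_val_zero, cons_val_one, cons_val_fin_one,
    zero_mul, add_zero, sub_zero, zero_add, if_true, mul_eq_zero, hne, false_or,
    Finset.sum_ite_eq', Finset.mem_univ]
  ring

/-- value at a non-semisimple matrix -/
theorem ps_unip (α β : MulChar F ℂ) {a : F} (ha : a ≠ 0) :
    ps α β (Matrix.GeneralLinearGroup.mkOfDetNeZero !![a, 1; 0, a]
      (by simp [Matrix.det_fin_two, ha])) = α a * β a := by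
  rw [ps_apply, Fintype.sum_option]
  have hval : ((Matrix.GeneralLinearGroup.mkOfDetNeZero !![a, 1; 0, a]
      (by simp [Matrix.det_fin_two, ha]) : Matrix.GeneralLinearGroup (Fin 2) F) :
      Matrix (Fin 2) (Fin 2) F) = !![a, 1; 0, a] := rfl
  rw [hval]
  simp only [borelEntry_none, borelEntry_some, borelDiag0_none, borelDiag1_none, borelDiag0_some,
    borelDiag1_some, of_apply, cons_val', cons_val_zero, cons_val_one, cons_val_fin_one,
    one_ne_zero, if_false, sub_self, zero_mul, add_zero, zero_add, one_mul, zero_sub, neg_eq_zero,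
    pow_eq_zero_iff (two_ne_zero), Finset.sum_ite_eq', Finset.mem_univ, if_true, mul_zero,
    sub_zero]

/-- orthogonality for multiplicative characters -/
theorem sum_inv_mul (χ ψ : MulChar F ℂ) :
    ∑ a : F, χ⁻¹ a * ψ a = if χ = ψ then ((Fintype.card F : ℂ) - 1) else 0 := by
  have h : ∀ a : F, χ⁻¹ a * ψ a = (χ⁻¹ * ψ) a := fun a => (MulChar.mul_apply _ _ _).symm
  simp only [h]
  split_ifs with heq
  · rw [heq, inv_mul_cancel, MulChar.sum_one_eq_card_units, Fintype.card_units,
      Nat.cast_sub Fintype.card_pos, Nat.cast_one]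
  · apply MulChar.sum_eq_zero_of_ne_one
    intro h1
    apply heq
    have := congrArg (fun x => χ * x) h1
    simpa using this.symm

theorem key_identity (α β α' β' : MulChar F ℂ)
    (h : ∀ a b : F, α a * β b + α b * β a = α' a * β' b + α' b * β' a) :
    (α = α' ∧ β = β') ∨ (α = β' ∧ β = α') := by
  have hq : ((Fintype.card F : ℂ) - 1) ≠ 0 := by
    have h1 : 1 < Fintype.card F := Fintype.one_lt_card
    intro h0
    have h2 : (Fintype.card F : ℂ) = 1 := by linear_combination h0
    have h3 : Fintype.card F = 1 := by exact_mod_cast h2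
    omega
  have hsum : ∑ a : F, ∑ b : F, α⁻¹ a * β⁻¹ b * (α a * β b + α b * β a) =
      ∑ a : F, ∑ b : F, α⁻¹ a * β⁻¹ b * (α' a * β' b + α' b * β' a) := by
    refine Finset.sum_congr rfl (fun a _ => Finset.sum_congr rfl (fun b _ => ?_))
    rw [h a b]
  have expand : ∀ γ δ : MulChar F ℂ,
      ∑ a : F, ∑ b : F, α⁻¹ a * β⁻¹ b * (γ a * δ b + γ b * δ a) =
      (∑ a : F, α⁻¹ a * γ a) * (∑ b : F, β⁻¹ b * δ b) +
      (∑ a : F, α⁻¹ a * δ a) * (∑ b : F, β⁻¹ b * γ b) := by
    intro γ δ
    rw [Finset.sum_mul_sum, Finset.sum_mul_sum, ← Finset.sum_add_distrib]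
    refine Finset.sum_congr rfl (fun a _ => ?_)
    rw [← Finset.sum_add_distrib]
    refine Finset.sum_congr rfl (fun b _ => ?_)
    ring
  rw [expand, expand] at hsum
  simp only [sum_inv_mul] at hsum
  by_contra hcon
  rw [not_or, not_and_or, not_and_or] at hcon
  have h1 : ¬ (α = α' ∧ β = β') := by tauto
  have h2 : ¬ (α = β' ∧ β = α') := by tauto
  have e1 : (if α = α' then ((Fintype.card F : ℂ) - 1) else 0) *
      (if β = β' then ((Fintype.card F : ℂ) - 1) else 0) = 0 := by
    by_cases ha : α = α'
    · have hb : β ≠ β' := fun hb => h1 ⟨ha, hb⟩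
      simp [hb]
    · simp [ha]
  have e2 : (if α = β' then ((Fintype.card F : ℂ) - 1) else 0) *
      (if β = α' then ((Fintype.card F : ℂ) - 1) else 0) = 0 := by
    by_cases ha : α = β'
    · have hb : β ≠ α' := fun hb => h2 ⟨ha, hb⟩
      simp [hb]
    · simp [ha]
  rw [e1, e2] at hsum
  simp only [if_true, add_zero] at hsum
  by_cases hab : α = β
  · subst hab
    simp only [if_true] at hsum
    have : ((Fintype.card F : ℂ) - 1) * ((Fintype.card F : ℂ) - 1) = 0 := by
      linear_combination hsum / 2
    rcases mul_eq_zero.mp this with h | h <;> exact hq h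
  · have hba : ¬ β = α := fun h => hab h.symm
    simp only [hab, hba, if_false, mul_zero, add_zero] at hsum
    rcases mul_eq_zero.mp hsum with h | h <;> exact hq h

/-- Over a finite field F, for multiplicative characters α, β, α′, β′ of F, the characters of GL₂ induced from the linear characters b ↦ α(b₁₁) β(b₂₂) and b ↦ α′(b₁₁) β′(b₂₂) of the upper triangular subgroup coincide exactly when {α, β} = {α′, β′} as unordered pairs. -/
theorem result {F : Type*} [Field F] [Fintype F] [DecidableEq F] (α β α' β' : MulChar F ℂ) :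
    Cfsg.indFun (Cfsg.upperTriangularGL 2 F) (fun b => α (((b : Matrix.GeneralLinearGroup (Fin 2) F) : Matrix (Fin 2) (Fin 2) F) 0 0) * β (((b : Matrix.GeneralLinearGroup (Fin 2) F) : Matrix (Fin 2) (Fin 2) F) 1 1)) = Cfsg.indFun (Cfsg.upperTriangularGL 2 F) (fun b => α' (((b : Matrix.GeneralLinearGroup (Fin 2) F) : Matrix (Fin 2) (Fin 2) F) 0 0) * β' (((b : Matrix.GeneralLinearGroup (Fin 2) F) : Matrix (Fin 2) (Fin 2) F) 1 1)) ↔
      (α = α' ∧ β = β') ∨ (α = β' ∧ β = α') := by
  change ps α β = ps α' β' ↔ _
  constructor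
  · intro h
    apply key_identity
    intro a b
    by_cases ha : a = 0
    · subst ha
      simp [MulChar.map_zero]
    by_cases hb : b = 0
    · subst hb
      simp [MulChar.map_zero]
    by_cases hab : a = b
    · subst hab
      have h1 := congrFun h (Matrix.GeneralLinearGroup.mkOfDetNeZero !![a, 1; 0, a]
        (by simp [Matrix.det_fin_two, ha]))
      rw [ps_unip α β ha, ps_unip α' β' ha] at h1
      linear_combination 2 * h1
    · have h1 := congrFun h (Matrix.GeneralLinearGroup.mkOfDetNeZero !![a, 0; 0, b]
        (by simp [Matrix.det_fin_two, ha, hb]))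
      rw [ps_diag α β ha hb hab, ps_diag α' β' ha hb hab] at h1
      exact h1
  · rintro (⟨rfl, rfl⟩ | ⟨rfl, rfl⟩)
    · rfl
    · exact ps_swap _ _

end Cfsg.Agent.S2305
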