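import Cfsg.Statements.S2308
import Cfsg.Agent.Lib.Helper39.BorelGL2

set_option autoImplicit false
open Cfsg

namespace Cfsg.Agent.S2308

open Matrix Cfsg.Agent.Lib.Helper39

/-- Values of the permutation character of GL₂ over a finite field F with q elements on the cosets of its upper triangular subgroup (equivalently, the number of lines of F² that an element maps to themselves): q + 1 at a scalar matrix, 2 at a diagonal matrix with two different diagonal entries, 0 at an element with no eigenvector in F², and 1 at an upper triangular matrix with equal diagonal entries and non-zero upper right entry. -/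
theorem result {F : Type*} [Field F] [Fintype F] (g : Matrix.GeneralLinearGroup (Fin 2) F) :
    ((∃ a : F, (g : Matrix (Fin 2) (Fin 2) F) = a • (1 : Matrix (Fin 2) (Fin 2) F)) → Cfsg.fixedPointCharacter (Cfsg.upperTriangularGL 2 F) g = Fintype.card F + 1) ∧
    ((g : Matrix (Fin 2) (Fin 2) F) 0 1 = 0 → (g : Matrix (Fin 2) (Fin 2) F) 1 0 = 0 → (g : Matrix (Fin 2) (Fin 2) F) 0 0 ≠ (g : Matrix (Fin 2) (Fin 2) F) 1 1 →
      Cfsg.fixedPointCharacter (Cfsg.upperTriangularGL 2 F) g = 2) ∧
    ((∀ (c : F) (v : Fin 2 → F), v ≠ 0 → (g : Matrix (Fin 2) (Fin 2) F).mulVec v ≠ c • v) → Cfsg.fixedPointCharacter (Cfsg.upperTriangularGL 2 F) g = 0) ∧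
    ((g : Matrix (Fin 2) (Fin 2) F) 1 0 = 0 → (g : Matrix (Fin 2) (Fin 2) F) 0 0 = (g : Matrix (Fin 2) (Fin 2) F) 1 1 → (g : Matrix (Fin 2) (Fin 2) F) 0 1 ≠ 0 →
      Cfsg.fixedPointCharacter (Cfsg.upperTriangularGL 2 F) g = 1) := by
  classical
  rw [fixedPointCharacter_borel]
  set A : Matrix (Fin 2) (Fin 2) F := (g : Matrix (Fin 2) (Fin 2) F) with hA
  refine ⟨?_, ?_, ?_, ?_⟩
  · rintro ⟨a, ha⟩
    have h00 : A 0 0 = a := by rw [ha]; simp
    have h01 : A 0 1 = 0 := by rw [ha]; simp
    have h10 : A 1 0 = 0 := by rw [ha]; simp
    have h11 : A 1 1 = a := by rw [ha]; simp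
    have : ∀ c : Option F, borelEntry A c = 0 := by
      intro c
      cases c <;> simp [h00, h01, h10, h11]
    rw [Nat.card_congr (Equiv.subtypeUnivEquiv this), Nat.card_eq_fintype_card, Fintype.card_option]
    push_cast
    rfl
  · intro h01 h10 hne
    have : ∀ c : Option F, borelEntry A c = 0 ↔ c ∈ ({some 0, none} : Finset (Option F)) := by
      intro c
      cases c with
      | none => simp [h01]
      | some c =>
        rw [borelEntry_some, h01, h10]
        simp only [zero_mul, sub_zero, zero_add, mul_eq_zero, Finset.mem_insert,
          Option.some.injEq, Finset.mem_singleton, reduceCtorEq, or_false]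
        constructor
        · rintro (h | h)
          · exact absurd (sub_eq_zero.mp h).symm hne
          · exact h
        · intro h; exact Or.inr h
    rw [Nat.card_congr (Equiv.subtypeEquivRight this), Nat.card_eq_fintype_card,
      Fintype.card_coe, Finset.card_pair (by simp)]
    norm_num
  · intro hev
    have : ∀ c : Option F, ¬ borelEntry A c = 0 := by
      intro c
      cases c with
      | none =>
        intro h01
        rw [borelEntry_none] at h01
        apply hev (A 1 1) ![0, 1] (by intro h; simpa using congrFun h 1)
        funext i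
        fin_cases i <;> simp [Matrix.mulVec, dotProduct, Fin.sum_univ_two, h01]
      | some c =>
        intro hc
        rw [borelEntry_some] at hc
        apply hev (A 0 0 + A 0 1 * c) ![1, c] (by intro h; simpa using congrFun h 0)
        funext i
        fin_cases i
        · simp [Matrix.mulVec, dotProduct, Fin.sum_univ_two]
        · simp [Matrix.mulVec, dotProduct, Fin.sum_univ_two]
          linear_combination hc
    have hempty : IsEmpty {c : Option F // borelEntry A c = 0} := ⟨fun x => this x.1 x.2⟩
    rw [Nat.card_of_isEmpty]
    simp
  · intro h10 h00 h01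
    have : ∀ c : Option F, borelEntry A c = 0 ↔ c ∈ ({some 0} : Finset (Option F)) := by
      intro c
      cases c with
      | none => simp [h01]
      | some c =>
        rw [borelEntry_some, h10, h00]
        simp only [sub_self, zero_mul, zero_add, add_zero, zero_sub, neg_eq_zero,
          mul_eq_zero, Finset.mem_singleton, Option.some.injEq]
        constructor
        · rintro (h | h)
          · exact absurd h h01
          · exact pow_eq_zero_iff (two_ne_zero) |>.mp h
        · intro h; right; rw [h]; ring
    rw [Nat.card_congr (Equiv.subtypeEquivRight this), Nat.card_eq_fintype_card,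
      Fintype.card_coe, Finset.card_singleton]
    norm_num

end Cfsg.Agent.S2308
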