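import Cfsg.Statements.S2309
import Cfsg.Agent.Lib.Helper39.GL2PS

set_option autoImplicit false
open Cfsg

namespace Cfsg.Agent.S2309

open Cfsg.Agent.Lib.Helper39 in
/-- Over a finite field F with q elements: every irreducible complex character of GL₂ of degree q − 1 vanishes at every diagonal matrix with two distinct entries, and every irreducible complex character of degree q + 1 vanishes at every element with no eigenvector in F². -/
theorem result {F : Type*} [Field F] [Fintype F] (χ : Matrix.GeneralLinearGroup (Fin 2) F → ℂ) (hχ : Cfsg.IsIrrCharacter (Matrix.GeneralLinearGroup (Fin 2) F) χ) (g : Matrix.GeneralLinearGroup (Fin 2) F) :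
    (χ 1 = (Fintype.card F : ℂ) - 1 → (g : Matrix (Fin 2) (Fin 2) F) 0 1 = 0 → (g : Matrix (Fin 2) (Fin 2) F) 1 0 = 0 → (g : Matrix (Fin 2) (Fin 2) F) 0 0 ≠ (g : Matrix (Fin 2) (Fin 2) F) 1 1 → χ g = 0) ∧
    (χ 1 = (Fintype.card F : ℂ) + 1 → (∀ (c : F) (v : Fin 2 → F), v ≠ 0 → (g : Matrix (Fin 2) (Fin 2) F).mulVec v ≠ c • v) → χ g = 0) := by
  classical
  obtain ⟨n, ρ, hirr, rfl⟩ := hχ
  obtain ⟨h1, h2, h3, h4⟩ := fixU_cases ρ hirr
  have hq2 : 2 ≤ Fintype.card F := Fintype.one_lt_card
  rw [Representation.char_one]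
  refine ⟨?_, ?_⟩
  · intro hdeg h01 h10 hne
    have hdeg' : Module.finrank ℂ (Fin n → ℂ) + 1 = Fintype.card F := by
      have : ((Module.finrank ℂ (Fin n → ℂ) + 1 : ℕ) : ℂ) = (Fintype.card F : ℂ) := by
        push_cast; rw [hdeg]; ring
      exact_mod_cast this
    rcases Nat.lt_or_ge (Fintype.card F) 3 with hq | hq
    · -- q = 2: no regular diagonal elements
      exfalso
      have hcard : Fintype.card Fˣ = 1 := by rw [Fintype.card_units]; omega
      have : Subsingleton Fˣ := Fintype.card_le_one_iff_subsingleton.mp hcard.le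
      have hdet := Matrix.GeneralLinearGroup.det_ne_zero g
      rw [Matrix.det_fin_two, h01, zero_mul, sub_zero] at hdet
      have h00 : (g : Matrix (Fin 2) (Fin 2) F) 0 0 ≠ 0 := left_ne_zero_of_mul hdet
      have h11 : (g : Matrix (Fin 2) (Fin 2) F) 1 1 ≠ 0 := right_ne_zero_of_mul hdet
      have := Subsingleton.elim (Units.mk0 _ h00) (Units.mk0 _ h11)
      exact hne (congrArg Units.val this)
    · exact char_regular_diag_eq_zero ρ (h3 hq hdeg').1 g h01 h10 hne
  · intro hdeg hell
    have hdeg' : Module.finrank ℂ (Fin n → ℂ) = Fintype.card F + 1 := by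
      exact_mod_cast hdeg
    have hfix : fixU ρ ≠ 0 := by rw [(h2 hdeg').1]; norm_num
    obtain ⟨lam, m, R, hU, hm, hR, hdec, -⟩ := exists_ps ρ hirr hfix
    have hone := congrFun hdec 1
    rw [indFun_lam_one lam hU] at hone
    simp only [Pi.add_apply, Pi.smul_apply, smul_eq_mul, Representation.char_one] at hone
    obtain ⟨r, ρR, rfl⟩ := hR
    rw [Representation.char_one, hdeg'] at hone
    have hone' : Fintype.card F + 1 = m * (Fintype.card F + 1) +
        Module.finrank ℂ (Fin r → ℂ) := by exact_mod_cast hone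
    have hm1 : m = 1 := by
      rcases Nat.lt_or_ge m 2 with h | h
      · omega
      · exfalso
        have : 2 * (Fintype.card F + 1) ≤ m * (Fintype.card F + 1) := Nat.mul_le_mul_right _ h
        omega
    subst hm1
    have hr0 : Module.finrank ℂ (Fin r → ℂ) = 0 := by omega
    have hR0 := Cfsg.Agent.Lib.Helper78.character_eq_zero_of_finrank_eq_zero ρR hr0
    have hg := congrFun hdec g
    rw [indFun_lam_elliptic lam hU g hell, hR0] at hg
    simp only [Nat.cast_one, one_smul, Pi.add_apply, Pi.zero_apply, add_zero] at hg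
    exact hg.symm

end Cfsg.Agent.S2309
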