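import Cfsg.Statements.S2310
import Cfsg.Agent.Lib.Helper39.GL2Char

set_option autoImplicit false
open Cfsg

namespace Cfsg.Agent.S2310

/-- Over a finite field F with q ≥ 3 elements, let u be the upper unitriangular matrix of GL₂ with off-diagonal entry 1. An irreducible complex character χ of GL₂ takes at u the value 1 if χ has degree 1 or q + 1, the value −1 if χ has degree q − 1, and the value 0 if χ has degree q. -/
theorem result {F : Type*} [Field F] [Fintype F] (hq : 3 ≤ Fintype.card F) (χ : Matrix.GeneralLinearGroup (Fin 2) F → ℂ) (hχ : Cfsg.IsIrrCharacter (Matrix.GeneralLinearGroup (Fin 2) F) χ)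
    (u : Matrix.GeneralLinearGroup (Fin 2) F) (hu : (u : Matrix (Fin 2) (Fin 2) F) = !![1, 1; 0, 1]) :
    (χ 1 = 1 → χ u = 1) ∧ (χ 1 = (Fintype.card F : ℂ) + 1 → χ u = 1) ∧
    (χ 1 = (Fintype.card F : ℂ) - 1 → χ u = -1) ∧ (χ 1 = (Fintype.card F : ℂ) → χ u = 0) := by
  classical
  obtain ⟨n, ρ, hirr, rfl⟩ := hχ
  have hu' : u = Cfsg.Agent.Lib.Helper39.uT 1 := Units.ext hu
  subst hu'
  obtain ⟨h1, h2, h3, h4⟩ := Cfsg.Agent.Lib.Helper39.fixU_cases ρ hirr
  rw [Representation.char_one]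
  refine ⟨?_, ?_, ?_, ?_⟩
  · intro h
    apply h4 hq
    exact_mod_cast h
  · intro h
    apply (h2 _).2
    exact_mod_cast h
  · intro h
    apply (h3 hq _).2
    have : ((Module.finrank ℂ (Fin n → ℂ) + 1 : ℕ) : ℂ) = (Fintype.card F : ℂ) := by
      push_cast; rw [h]; ring
    exact_mod_cast this
  · intro h
    apply (h1 _).2
    exact_mod_cast h

end Cfsg.Agent.S2310
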