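import Cfsg.Statements.S2317
import Mathlib
import Cfsg.Agent.Lib.Helper40.NilpotentJordan
import Cfsg.Agent.Lib.Helper40.FineHerstein

set_option autoImplicit false
open Cfsg

namespace Cfsg.Agent.S2317

/-- Over a finite field of characteristic p, the conjugacy classes of GL_n consisting of elements of p-power order (the unipotent classes) are as many as the partitions of n. -/
theorem result {F : Type*} [Field F] [Fintype F] (p : ℕ) [Fact p.Prime] [CharP F p] (n : ℕ) :
    Nat.card {C : ConjClasses (Matrix.GeneralLinearGroup (Fin n) F) //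
      ∃ g : Matrix.GeneralLinearGroup (Fin n) F, (∃ k : ℕ, orderOf g = p ^ k) ∧ ConjClasses.mk g = C} =
      Fintype.card (Nat.Partition n) := by
  classical
  have hA : ∀ ν : Nat.Partition n, ∃ A : Matrix (Fin n) (Fin n) F, IsNilpotent A ∧
      ∀ j, Lib.Helper40.kd (Matrix.toLin' A) j = (ν.parts.map (fun a => min j a)).sum :=
    fun ν => Lib.Helper40.exists_matrix_of_type ν.parts ν.parts_sum
  choose A hAnil hAkd using hA
  -- the p-element attached to a partition
  let g : Nat.Partition n → Matrix.GeneralLinearGroup (Fin n) F :=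
    fun ν => (hAnil ν).isUnit_add_one.unit
  have hgval : ∀ ν, (g ν).val - 1 = A ν := by
    intro ν
    show (hAnil ν).isUnit_add_one.unit.val - 1 = A ν
    rw [IsUnit.unit_spec, add_sub_cancel_right]
  have hgp : ∀ ν, ∃ k : ℕ, orderOf (g ν) = p ^ k := by
    intro ν
    rw [Lib.Helper40.exists_orderOf_eq_prime_pow_iff_isNilpotent p, hgval]
    exact hAnil ν
  have hconj : ∀ (x y c : Matrix.GeneralLinearGroup (Fin n) F), c * x * c⁻¹ = y →
      c.val * (x.val - 1) = (y.val - 1) * c.val := by
    intro x y c h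
    have h1 : c * x = y * c := by rw [← h]; group
    have h2 : c.val * x.val = y.val * c.val := by
      rw [← Units.val_mul, ← Units.val_mul, h1]
    rw [mul_sub, sub_mul, h2, mul_one, one_mul]
  rw [← Nat.card_eq_fintype_card]
  symm
  refine Nat.card_eq_of_bijective (fun ν => ⟨ConjClasses.mk (g ν), g ν, hgp ν, rfl⟩) ⟨?_, ?_⟩
  · intro ν ν' h
    have h1 : ConjClasses.mk (g ν) = ConjClasses.mk (g ν') := congrArg Subtype.val h
    rw [ConjClasses.mk_eq_mk_iff_isConj, isConj_iff] at h1
    obtain ⟨c, hc⟩ := h1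
    have h2 := hconj _ _ c hc
    rw [hgval, hgval] at h2
    have h3 := Lib.Helper40.kd_eq_of_gl_conj (A ν) (A ν') c h2
    apply Nat.Partition.ext
    apply Lib.Helper40.type_unique _ _ (fun a ha => ν.parts_pos ha) (fun a ha => ν'.parts_pos ha)
    intro j
    rw [← hAkd ν j, ← hAkd ν' j, h3]
  · rintro ⟨C, x, hx, rfl⟩
    have hxn : IsNilpotent (x.val - 1) :=
      (Lib.Helper40.exists_orderOf_eq_prime_pow_iff_isNilpotent p x).mp hx
    obtain ⟨μ, hμpos, hμsum, hμkd⟩ := Lib.Helper40.exists_type_matrix (x.val - 1) hxn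
    let ν : Nat.Partition n := ⟨μ, fun {a} ha => hμpos a ha, hμsum⟩
    obtain ⟨P, hP⟩ := Lib.Helper40.exists_gl_conj_of_kd_eq (A ν) (x.val - 1) (hAnil ν) hxn
      (fun j => by rw [hAkd ν j, hμkd j])
    refine ⟨ν, Subtype.ext ?_⟩
    show ConjClasses.mk (g ν) = ConjClasses.mk x
    rw [ConjClasses.mk_eq_mk_iff_isConj, isConj_iff]
    refine ⟨P, ?_⟩
    rw [← hgval ν] at hP
    have h1 : P.val * (g ν).val = x.val * P.val := by
      rw [mul_sub, sub_mul, mul_one, one_mul] at hP
      exact sub_left_injective hP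
    have h2 : P * g ν = x * P := Units.ext h1
    rw [h2]; group

end Cfsg.Agent.S2317
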