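import Cfsg.Statements.S2319
import Mathlib
-- import your own Cfsg.Agent.* helpers here
import Cfsg.Agent.Lib.Helper5.HeckeChev
import Cfsg.Agent.Lib.Helper5.HeckeDefC
import Cfsg.Agent.Lib.Helper11.HeckeOne
import Cfsg.Agent.Lib.Helper92.HeckeChar

set_option autoImplicit false
open Cfsg

namespace Cfsg.Agent.S2319

open Cfsg.Agent.Lib.Helper5.HeckeDef Cfsg.Agent.Lib.Helper5.HeckeCell Cfsg.Agent.Lib.Helper5.HeckeCox
  Cfsg.Agent.Lib.Helper5.HeckeChev

/-- infinitely many genuine parameters: the powers of two -/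
theorem infinite_genuine (dw : Cfsg.Lie.ChevalleyDatum × (Σ n : ℕ, CoxeterMatrix (Fin n)))
    (hdw : dw ∈ dwList) [Fintype dw.2.2.Group] [DecidableEq dw.2.2.Group] :
    {c : ℂ | Genuine (lenData dw.2.2.toCoxeterSystem) c}.Infinite := by
  have hp : Fact (Nat.Prime 2) := ⟨Nat.prime_two⟩
  have hsub : Set.range (fun k : ℕ => ((2 : ℂ) ^ (k + 1))) ⊆
      {c : ℂ | Genuine (lenData dw.2.2.toCoxeterSystem) c} := by
    rintro _ ⟨k, rfl⟩
    have : Fintype (GaloisField 2 (k + 1)) := Fintype.ofFinite _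
    have : Fintype ↥(dw.1.group (GaloisField 2 (k + 1))) := Fintype.ofFinite _
    have h := (chev_point (F := GaloisField 2 (k + 1)) dw hdw).1
    have hc : Fintype.card (GaloisField 2 (k + 1)) = 2 ^ (k + 1) := by
      rw [← Nat.card_eq_fintype_card]
      exact GaloisField.card 2 (k + 1) (Nat.succ_ne_zero k)
    rw [hc] at h
    push_cast at h
    exact h
  refine Set.Infinite.mono hsub (Set.infinite_range_of_injective ?_)
  intro a b hab
  have h2 : ((2 : ℕ) : ℂ) ^ (a + 1) = ((2 : ℕ) : ℂ) ^ (b + 1) := by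
    push_cast
    exact hab
  have h3 : (2 : ℕ) ^ (a + 1) = 2 ^ (b + 1) := by exact_mod_cast h2
  have := Nat.pow_right_injective (le_refl 2) h3
  omega

/-- In a Chevalley group of type G₂, B₂, D₄, F₄, E₆, E₇ or E₈ over a finite field, the number of distinct irreducible constituents of the permutation character on the cosets of B = UH equals the number of conjugacy classes (equivalently, of irreducible characters) of the Weyl group, the Coxeter group of the type with nodes numbered as the fundamental roots. -/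
theorem result {F : Type*} [Field F] [Fintype F]
    (dw : Cfsg.Lie.ChevalleyDatum × (Σ n : ℕ, CoxeterMatrix (Fin n)))
    (hdw : dw ∈ [(Cfsg.Lie.chevG2, ⟨2, CoxeterMatrix.G₂⟩), (Cfsg.Lie.chevB2, ⟨2, CoxeterMatrix.B 2⟩), (Cfsg.Lie.chevD4, ⟨4, Cfsg.Lie.coxeterD4⟩), (Cfsg.Lie.chevF4, ⟨4, CoxeterMatrix.F₄⟩),
      (Cfsg.Lie.chevE6, ⟨6, CoxeterMatrix.E₆⟩), (Cfsg.Lie.chevE7, ⟨7, CoxeterMatrix.E₇⟩), (Cfsg.Lie.chevE8, ⟨8, CoxeterMatrix.E₈⟩)]) :
    Nat.card {χ : Cfsg.IrrCharacter ↥(dw.1.group F) //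
      ∃ φ : ↥(dw.1.group F) → ℂ, Cfsg.IsCharacter ↥(dw.1.group F) φ ∧
        Cfsg.fixedPointCharacter ((dw.1.borelSubgroup F).subgroupOf (dw.1.group F)) = (χ : ↥(dw.1.group F) → ℂ) + φ} =
      Nat.card (ConjClasses dw.2.2.Group) := by
  classical
  have hdw' : dw ∈ dwList := hdw
  have hfin : Finite dw.2.2.Group := finite_coxeter (F := F) dw hdw'
  have : Fintype dw.2.2.Group := Fintype.ofFinite _
  have : Fintype ↥(dw.1.group F) := Fintype.ofFinite _
  obtain ⟨hg, hz, hc⟩ := chev_point (F := F) dw hdw'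
  have hinf := infinite_genuine dw hdw'
  have h1 := Cfsg.Agent.Lib.Helper11.HeckeOne.genuine_one (lenData dw.2.2.toCoxeterSystem)
  have h1z := Cfsg.Agent.Lib.Helper11.HeckeOne.zInj_one (lenData dw.2.2.toCoxeterSystem)
  have h1c := Cfsg.Agent.Lib.Helper11.HeckeOne.finrank_center_one (lenData dw.2.2.toCoxeterSystem)
  have heq := finrank_center_eq (lenData dw.2.2.toCoxeterSystem) hinf hg hz h1 h1z
  have hchar := Cfsg.Agent.Lib.Helper92.HeckeChar.finrank_avg_mul_center
    ((dw.1.borelSubgroup F).subgroupOf (dw.1.group F))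
  rw [← hchar, ← h1c, ← heq, hc]
  rfl

end Cfsg.Agent.S2319
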