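import Cfsg.Statements.S2320
import Cfsg.Agent.Lib.Helper39.GL2PS

set_option autoImplicit false
set_option linter.style.haveILetI false
open Cfsg

namespace Cfsg.Agent.S2320

open Cfsg.Agent.Lib.Helper39 in
/-- the structure of a degree `q` irreducible character: `χ = Ind lam - μ` with `μ` a linear
character of `GL₂` restricting to `lam` on the Borel subgroup -/
theorem structure_deg_q {F : Type*} [Field F] [Fintype F] [DecidableEq F] {n : ℕ}
    (ρ : Representation ℂ (Matrix.GeneralLinearGroup (Fin 2) F) (Fin n → ℂ))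
    (hirr : ρ.IsIrreducible) (hdeg : Module.finrank ℂ (Fin n → ℂ) = Fintype.card F) :
    ∃ (lam : (Cfsg.upperTriangularGL 2 F) →* ℂˣ) (μ : Matrix.GeneralLinearGroup (Fin 2) F →* ℂˣ),
      (∀ x : F, lam ⟨uT x, uT_mem_borel x⟩ = 1) ∧
      (∀ b : Cfsg.upperTriangularGL 2 F, lam b = μ b) ∧
      ∀ g, Cfsg.indFun (Cfsg.upperTriangularGL 2 F) (fun b => ((lam b : ℂˣ) : ℂ)) g =
        ρ.character g + ((μ g : ℂˣ) : ℂ) := by
  obtain ⟨h1, -, -, -⟩ := fixU_cases ρ hirr
  have hq2 : 2 ≤ Fintype.card F := Fintype.one_lt_card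
  have hfix : fixU ρ ≠ 0 := by rw [(h1 hdeg).1]; norm_num
  obtain ⟨lam, m, R, hU, hm, hR, hdec, hRχ⟩ := exists_ps ρ hirr hfix
  have hone := congrFun hdec 1
  rw [indFun_lam_one lam hU] at hone
  simp only [Pi.add_apply, Pi.smul_apply, smul_eq_mul, Representation.char_one] at hone
  obtain ⟨r, hr⟩ : ∃ r : ℕ, R 1 = (r : ℂ) := by
    obtain ⟨r, ρR, rfl⟩ := hR
    exact ⟨_, Representation.char_one ρR⟩
  rw [hr, hdeg] at hone
  have hone' : Fintype.card F + 1 = m * Fintype.card F + r := by exact_mod_cast hone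
  have hm1 : m = 1 := by
    rcases Nat.lt_or_ge m 2 with h | h
    · omega
    · exfalso
      have : 2 * Fintype.card F ≤ m * Fintype.card F := Nat.mul_le_mul_right _ h
      omega
  subst hm1
  have hr1 : r = 1 := by omega
  subst hr1
  obtain ⟨μ, hμ⟩ := exists_hom_of_degree_one hR (by rw [hr]; norm_num)
  refine ⟨lam, μ, hU, ?_, ?_⟩
  · -- Frobenius reciprocity: lam = μ on B
    haveI : Fintype (Cfsg.upperTriangularGL 2 F) := Fintype.ofFinite _
    have hχ := Cfsg.Agent.Lib.Helper78.isIrrCharacter_of_isIrreducible ρ hirr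
    have hμirr : Cfsg.IsIrrCharacter (Matrix.GeneralLinearGroup (Fin 2) F)
        (fun g => ((μ g : ℂˣ) : ℂ)) := Cfsg.Agent.Lib.Helper80.isIrrCharacter_of_hom μ
    have hfr := Cfsg.Agent.Lib.Helper75.frobenius_reciprocity (Cfsg.upperTriangularGL 2 F)
      (fun b => ((lam b : ℂˣ) : ℂ))
      (Cfsg.Agent.Lib.Helper78.IsCharacter.isClassFunction
        (Cfsg.Agent.Lib.Helper78.IsIrrCharacter.isCharacter hμirr))
    rw [hdec, Cfsg.Agent.Lib.Helper78.classInner_add_left,
      Cfsg.Agent.Lib.Helper78.classInner_smul_left, hμ,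
      Cfsg.Agent.Lib.Helper78.classInner_irr_self hμirr] at hfr
    have h0 : Cfsg.classInner ρ.character (fun g => ((μ g : ℂˣ) : ℂ)) = 0 := by
      rw [← Cfsg.Agent.Lib.Helper78.classInner_conj_symm, ← hμ, hRχ, map_zero]
    rw [h0, mul_zero, zero_add] at hfr
    have hlamirr : Cfsg.IsIrrCharacter (Cfsg.upperTriangularGL 2 F)
        (fun b => ((lam b : ℂˣ) : ℂ)) := Cfsg.Agent.Lib.Helper80.isIrrCharacter_of_hom lam
    have hμres : Cfsg.IsIrrCharacter (Cfsg.upperTriangularGL 2 F)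
        (fun b : Cfsg.upperTriangularGL 2 F =>
          ((μ (b : Matrix.GeneralLinearGroup (Fin 2) F) : ℂˣ) : ℂ)) :=
      Cfsg.Agent.Lib.Helper80.isIrrCharacter_of_hom (μ.comp (Cfsg.upperTriangularGL 2 F).subtype)
    rw [Cfsg.Agent.Lib.Helper78.classInner_irr hlamirr hμres] at hfr
    intro b
    by_contra hne
    rw [if_neg] at hfr
    · exact one_ne_zero hfr
    · intro heq
      exact hne (Units.ext (congrFun heq b))
  · intro g
    have := congrFun hdec g
    rw [this, hμ]
    simp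

open Cfsg.Agent.Lib.Helper39 in
/-- Over a finite field F with q elements, every irreducible complex character of GL₂ of degree q takes a value of absolute value 1 at every diagonal matrix with two different diagonal entries and at every element with no eigenvector in F². -/
theorem result {F : Type*} [Field F] [Fintype F] (χ : Matrix.GeneralLinearGroup (Fin 2) F → ℂ) (hχ : Cfsg.IsIrrCharacter (Matrix.GeneralLinearGroup (Fin 2) F) χ) (hdeg : χ 1 = (Fintype.card F : ℂ)) (g : Matrix.GeneralLinearGroup (Fin 2) F) :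
    ((g : Matrix (Fin 2) (Fin 2) F) 0 1 = 0 → (g : Matrix (Fin 2) (Fin 2) F) 1 0 = 0 → (g : Matrix (Fin 2) (Fin 2) F) 0 0 ≠ (g : Matrix (Fin 2) (Fin 2) F) 1 1 → ‖χ g‖ = 1) ∧
    ((∀ (c : F) (v : Fin 2 → F), v ≠ 0 → (g : Matrix (Fin 2) (Fin 2) F).mulVec v ≠ c • v) → ‖χ g‖ = 1) := by
  classical
  obtain ⟨n, ρ, hirr, rfl⟩ := hχ
  rw [Representation.char_one] at hdeg
  have hdeg' : Module.finrank ℂ (Fin n → ℂ) = Fintype.card F := by exact_mod_cast hdeg
  obtain ⟨lam, μ, hU, hlamμ, hval⟩ := structure_deg_q ρ hirr hdeg'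
  refine ⟨?_, ?_⟩
  · intro h01 h10 hne
    have hdet := Matrix.GeneralLinearGroup.det_ne_zero g
    rw [Matrix.det_fin_two, h01, zero_mul, sub_zero] at hdet
    have h00 : (g : Matrix (Fin 2) (Fin 2) F) 0 0 ≠ 0 := left_ne_zero_of_mul hdet
    have h11 : (g : Matrix (Fin 2) (Fin 2) F) 1 1 ≠ 0 := right_ne_zero_of_mul hdet
    have hg : g = dT (Units.mk0 _ h00) (Units.mk0 _ h11) := by
      apply gl2_ext <;> simp [dT_val, h01, h10]
    have hst : Units.mk0 _ h00 ≠ Units.mk0 _ h11 := fun h => hne (congrArg Units.val h)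
    have h1 := hval g
    rw [hg, indFun_lam_diag lam hU _ _ hst, hlamμ, hlamμ] at h1
    simp only [] at h1
    have h2 : μ (dT (Units.mk0 _ h11) (Units.mk0 _ h00)) =
        μ (dT (Units.mk0 _ h00) (Units.mk0 _ h11)) := by
      have : dT (Units.mk0 _ h11) (Units.mk0 _ h00) =
          wT * dT (Units.mk0 _ h00) (Units.mk0 _ h11) * wT⁻¹ := by
        rw [wT_mul_dT]; simp
      rw [this, map_mul, map_mul, map_inv, mul_comm, ← mul_assoc, inv_mul_cancel, one_mul]
    rw [h2] at h1
    have h3 : ρ.character (dT (Units.mk0 _ h00) (Units.mk0 _ h11)) =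
        ((μ (dT (Units.mk0 _ h00) (Units.mk0 _ h11)) : ℂˣ) : ℂ) := by
      linear_combination -h1
    rw [hg, h3]
    exact norm_hom_eq_one μ _
  · intro hell
    have h1 := hval g
    rw [indFun_lam_elliptic lam hU g hell] at h1
    have h3 : ρ.character g = -((μ g : ℂˣ) : ℂ) := by linear_combination -h1
    rw [h3, norm_neg]
    exact norm_hom_eq_one μ _

end Cfsg.Agent.S2320
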