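import Cfsg.Statements.S2321
import Cfsg.Agent.Lib.Helper39.SL2Char

set_option autoImplicit false
open Cfsg

namespace Cfsg.Agent.S2321

open Cfsg.Agent.Lib.Helper39 Cfsg.Agent.Lib.Helper41 in
/-- Over a finite field F with q elements, an irreducible complex character of SL₂ of degree q (the Steinberg character) takes the value 1 at every diagonal matrix whose diagonal entry a has a² ≠ 1, the value −1 at every element with no eigenvector in F², and the value 0 at every upper triangular matrix with equal diagonal entries and non-zero upper right entry. -/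
theorem result {F : Type*} [Field F] [Fintype F] (χ : Matrix.SpecialLinearGroup (Fin 2) F → ℂ) (hχ : Cfsg.IsIrrCharacter (Matrix.SpecialLinearGroup (Fin 2) F) χ) (hdeg : χ 1 = (Fintype.card F : ℂ)) (g : Matrix.SpecialLinearGroup (Fin 2) F) :
    ((g : Matrix (Fin 2) (Fin 2) F) 0 1 = 0 → (g : Matrix (Fin 2) (Fin 2) F) 1 0 = 0 → (g : Matrix (Fin 2) (Fin 2) F) 0 0 ^ 2 ≠ 1 → χ g = 1) ∧
    ((∀ (c : F) (v : Fin 2 → F), v ≠ 0 → (g : Matrix (Fin 2) (Fin 2) F).mulVec v ≠ c • v) → χ g = -1) ∧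
    ((g : Matrix (Fin 2) (Fin 2) F) 1 0 = 0 → (g : Matrix (Fin 2) (Fin 2) F) 0 0 = (g : Matrix (Fin 2) (Fin 2) F) 1 1 → (g : Matrix (Fin 2) (Fin 2) F) 0 1 ≠ 0 → χ g = 0) := by
  classical
  obtain ⟨n, ρ, hirr, rfl⟩ := hχ
  rw [Representation.char_one] at hdeg
  have hdeg' : Module.finrank ℂ (Fin n → ℂ) = Fintype.card F := by exact_mod_cast hdeg
  rw [steinberg_SL ρ hirr hdeg' g]
  refine ⟨?_, ?_, ?_⟩
  · intro h01 h10 ha
    rw [indFun_borel_diag (fun _ => (1 : ℂ)) g h01 h10 ha]
    norm_num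
  · intro hell
    rw [indFun_borel_no_eigenvector (fun _ => (1 : ℂ)) g hell]
    norm_num
  · intro h10 hd h01
    rw [indFun_borel_unipotent (fun _ => (1 : ℂ)) g h10 hd h01]
    norm_num

end Cfsg.Agent.S2321
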