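import Cfsg.Statements.S2323
import Cfsg.Agent.Lib.Helper39.SL2Cusp2

set_option autoImplicit false
open Cfsg

namespace Cfsg.Agent.S2323

/-- Over a finite field F with q ≥ 4 elements, let u be the upper unitriangular matrix of SL₂ with off-diagonal entry 1. An irreducible complex character of SL₂ takes at u the value 1 if its degree is q + 1 and the value −1 if its degree is q − 1. -/
theorem result {F : Type*} [Field F] [Fintype F] (hq : 4 ≤ Fintype.card F) (χ : Matrix.SpecialLinearGroup (Fin 2) F → ℂ) (hχ : Cfsg.IsIrrCharacter (Matrix.SpecialLinearGroup (Fin 2) F) χ)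
    (u : Matrix.SpecialLinearGroup (Fin 2) F) (hu : (u : Matrix (Fin 2) (Fin 2) F) = !![1, 1; 0, 1]) :
    (χ 1 = (Fintype.card F : ℂ) + 1 → χ u = 1) ∧ (χ 1 = (Fintype.card F : ℂ) - 1 → χ u = -1) := by
  classical
  obtain ⟨n, ρ, hirr, rfl⟩ := hχ
  have hu' : u = Cfsg.Agent.Lib.Helper41.upperU 1 := by
    apply Subtype.ext
    rw [hu, Cfsg.Agent.Lib.Helper41.coe_upperU]
  subst hu'
  have hq1 : 1 ≤ Fintype.card F := by omega
  constructor
  · intro hd
    rw [Representation.char_one] at hd
    have hd' : Module.finrank ℂ (Fin n → ℂ) = Fintype.card F + 1 := by exact_mod_cast hd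
    exact Cfsg.Agent.Lib.Helper39.char_upperU_of_degree_add_one hq ρ hirr hd' 1 one_ne_zero
  · intro hd
    rw [Representation.char_one] at hd
    have hd' : Module.finrank ℂ (Fin n → ℂ) + 1 = Fintype.card F := by
      have : (Module.finrank ℂ (Fin n → ℂ) : ℂ) + 1 = (Fintype.card F : ℂ) := by
        rw [hd]; ring
      exact_mod_cast this
    exact Cfsg.Agent.Lib.Helper39.char_upperU_of_degree_sub_one hq ρ hirr hd' 1 one_ne_zero

end Cfsg.Agent.S2323
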