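import Cfsg.Statements.S2324
import Cfsg.Agent.Lib.Helper39.SL2OddValues
import Cfsg.Agent.Lib.Helper39.SL2OddDeg

set_option autoImplicit false
open Cfsg

namespace Cfsg.Agent.S2324

/-- Over a finite field F with q elements, q odd and q ≥ 5, let u be the upper unitriangular matrix of SL₂ with off-diagonal entry 1 and let δ = (−1)^((q−1)/2). Every irreducible complex character χ of SL₂ of degree (q + 1)/2 satisfies (2χ(u) − 1)² = δq, and every irreducible complex character χ of degree (q − 1)/2 satisfies (2χ(u) + 1)² = δq; that is, χ(u) = (1 ± √(δq))/2 in the first case and χ(u) = (−1 ± √(δq))/2 in the second. Moreover two different irreducible characters of degree (q + 1)/2 take the two different values (their values at u add up to 1), and likewise for degree (q − 1)/2 (values adding up to −1). -/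
theorem result {F : Type*} [Field F] [Fintype F] (hodd : Odd (Fintype.card F)) (hq : 5 ≤ Fintype.card F)
    (u : Matrix.SpecialLinearGroup (Fin 2) F) (hu : (u : Matrix (Fin 2) (Fin 2) F) = !![1, 1; 0, 1]) :
    (∀ χ : Matrix.SpecialLinearGroup (Fin 2) F → ℂ, Cfsg.IsIrrCharacter (Matrix.SpecialLinearGroup (Fin 2) F) χ → χ 1 = (((Fintype.card F + 1) / 2 : ℕ) : ℂ) → (2 * χ u - 1) ^ 2 = (-1 : ℂ) ^ ((Fintype.card F - 1) / 2) * (Fintype.card F : ℂ)) ∧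
    (∀ χ : Matrix.SpecialLinearGroup (Fin 2) F → ℂ, Cfsg.IsIrrCharacter (Matrix.SpecialLinearGroup (Fin 2) F) χ → χ 1 = (((Fintype.card F - 1) / 2 : ℕ) : ℂ) → (2 * χ u + 1) ^ 2 = (-1 : ℂ) ^ ((Fintype.card F - 1) / 2) * (Fintype.card F : ℂ)) ∧
    (∀ χ₁ χ₂ : Matrix.SpecialLinearGroup (Fin 2) F → ℂ, Cfsg.IsIrrCharacter (Matrix.SpecialLinearGroup (Fin 2) F) χ₁ → Cfsg.IsIrrCharacter (Matrix.SpecialLinearGroup (Fin 2) F) χ₂ → χ₁ ≠ χ₂ →
      χ₁ 1 = (((Fintype.card F + 1) / 2 : ℕ) : ℂ) → χ₂ 1 = (((Fintype.card F + 1) / 2 : ℕ) : ℂ) → χ₁ u + χ₂ u = 1) ∧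
    (∀ χ₁ χ₂ : Matrix.SpecialLinearGroup (Fin 2) F → ℂ, Cfsg.IsIrrCharacter (Matrix.SpecialLinearGroup (Fin 2) F) χ₁ → Cfsg.IsIrrCharacter (Matrix.SpecialLinearGroup (Fin 2) F) χ₂ → χ₁ ≠ χ₂ →
      χ₁ 1 = (((Fintype.card F - 1) / 2 : ℕ) : ℂ) → χ₂ 1 = (((Fintype.card F - 1) / 2 : ℕ) : ℂ) → χ₁ u + χ₂ u = -1) := by
  classical
  obtain ⟨N, hN⟩ := hodd
  have hF : ringChar F ≠ 2 := by
    intro h2
    have := FiniteField.even_card_iff_char_two.mp h2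
    omega
  obtain ⟨ψ, hψ⟩ := Cfsg.Agent.Lib.Helper39.exists_primitive_addChar (F := F)
  obtain ⟨ε, hε'⟩ := FiniteField.exists_nonsquare hF
  have hε : quadraticChar F ε = -1 := quadraticChar_neg_one_iff_not_isSquare.mpr hε'
  obtain ⟨m, a, b, hd, hval, ht, hT, hS, hP, hHp, hHm, hC11, hC10, hC01⟩ :=
    Cfsg.Agent.Lib.Helper39.sl2_odd_main N hN hψ ε hε
  have hN2 : 2 ≤ N := by omega
  have hu' : u = Cfsg.Agent.Lib.Helper41.upperU 1 :=
    Subtype.ext (by rw [hu, Cfsg.Agent.Lib.Helper41.coe_upperU])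
  subst hu'
  have hh1 : (Fintype.card F + 1) / 2 = N + 1 := by omega
  have hh2 : (Fintype.card F - 1) / 2 = N := by omega
  have hadd := Cfsg.Agent.Lib.Helper39.sumSq_add_sumNsq hψ
  have hsq := Cfsg.Agent.Lib.Helper39.sumSq_sub_sumNsq_sq hF hψ
  rw [hh1, hh2]
  rw [hh2] at hsq
  have hv : ∀ χ : Cfsg.IrrCharacter (Matrix.SpecialLinearGroup (Fin 2) F),
      (χ : Matrix.SpecialLinearGroup (Fin 2) F → ℂ) (Cfsg.Agent.Lib.Helper41.upperU 1) =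
        (m χ : ℂ) + (a χ : ℂ) * Cfsg.Agent.Lib.Helper39.sumSq ψ +
          (b χ : ℂ) * Cfsg.Agent.Lib.Helper39.sumNsq ψ := by
    intro χ
    rw [hval χ 1, Cfsg.Agent.Lib.Helper39.sum_nOdd_psi]
  have key : ∀ (χ : Cfsg.IrrCharacter (Matrix.SpecialLinearGroup (Fin 2) F)) (k : ℕ),
      ((χ : Matrix.SpecialLinearGroup (Fin 2) F → ℂ) 1 = (k : ℂ)) ↔
        m χ + N * (a χ + b χ) = k := by
    intro χ k
    rw [hd χ]
    exact Nat.cast_inj
  have hiff := fun χ : Cfsg.IrrCharacter (Matrix.SpecialLinearGroup (Fin 2) F) =>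
    Cfsg.Agent.Lib.Helper39.sl2_odd_deg_iff N hN2 (m χ) (a χ) (b χ) (ht χ)
  have hplus : ∀ χ : Cfsg.IrrCharacter (Matrix.SpecialLinearGroup (Fin 2) F),
      (χ : Matrix.SpecialLinearGroup (Fin 2) F → ℂ) 1 = ((N + 1 : ℕ) : ℂ) →
      (m χ = 1 ∧ a χ = 1 ∧ b χ = 0) ∨ (m χ = 1 ∧ a χ = 0 ∧ b χ = 1) :=
    fun χ h => (hiff χ).2.2.2.2.1.mp ((key χ _).mp h)
  have hminus : ∀ χ : Cfsg.IrrCharacter (Matrix.SpecialLinearGroup (Fin 2) F),
      (χ : Matrix.SpecialLinearGroup (Fin 2) F → ℂ) 1 = ((N : ℕ) : ℂ) →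
      (m χ = 0 ∧ a χ = 1 ∧ b χ = 0) ∨ (m χ = 0 ∧ a χ = 0 ∧ b χ = 1) :=
    fun χ h => (hiff χ).2.2.2.2.2.mp ((key χ _).mp h)
  refine ⟨?_, ?_, ?_, ?_⟩
  · intro χ hχ hdeg
    have hvχ := hv ⟨χ, hχ⟩
    change χ (Cfsg.Agent.Lib.Helper41.upperU 1) = _ at hvχ
    rcases hplus ⟨χ, hχ⟩ hdeg with ⟨h1, h2, h3⟩ | ⟨h1, h2, h3⟩
    · rw [h1, h2, h3] at hvχ
      have : 2 * χ (Cfsg.Agent.Lib.Helper41.upperU 1) - 1 =
          Cfsg.Agent.Lib.Helper39.sumSq ψ - Cfsg.Agent.Lib.Helper39.sumNsq ψ := by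
        rw [hvχ]; push_cast; linear_combination hadd
      rw [this, hsq]
    · rw [h1, h2, h3] at hvχ
      have : 2 * χ (Cfsg.Agent.Lib.Helper41.upperU 1) - 1 =
          -(Cfsg.Agent.Lib.Helper39.sumSq ψ - Cfsg.Agent.Lib.Helper39.sumNsq ψ) := by
        rw [hvχ]; push_cast; linear_combination hadd
      rw [this, neg_sq, hsq]
  · intro χ hχ hdeg
    have hvχ := hv ⟨χ, hχ⟩
    change χ (Cfsg.Agent.Lib.Helper41.upperU 1) = _ at hvχ
    rcases hminus ⟨χ, hχ⟩ hdeg with ⟨h1, h2, h3⟩ | ⟨h1, h2, h3⟩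
    · rw [h1, h2, h3] at hvχ
      have : 2 * χ (Cfsg.Agent.Lib.Helper41.upperU 1) + 1 =
          Cfsg.Agent.Lib.Helper39.sumSq ψ - Cfsg.Agent.Lib.Helper39.sumNsq ψ := by
        rw [hvχ]; push_cast; linear_combination hadd
      rw [this, hsq]
    · rw [h1, h2, h3] at hvχ
      have : 2 * χ (Cfsg.Agent.Lib.Helper41.upperU 1) + 1 =
          -(Cfsg.Agent.Lib.Helper39.sumSq ψ - Cfsg.Agent.Lib.Helper39.sumNsq ψ) := by
        rw [hvχ]; push_cast; linear_combination hadd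
      rw [this, neg_sq, hsq]
  · intro χ₁ χ₂ h₁ h₂ hne hd₁ hd₂
    have hv₁ := hv ⟨χ₁, h₁⟩
    have hv₂ := hv ⟨χ₂, h₂⟩
    change χ₁ (Cfsg.Agent.Lib.Helper41.upperU 1) = _ at hv₁
    change χ₂ (Cfsg.Agent.Lib.Helper41.upperU 1) = _ at hv₂
    rcases hplus ⟨χ₁, h₁⟩ hd₁ with t1 | t1 <;> rcases hplus ⟨χ₂, h₂⟩ hd₂ with t2 | t2
    · exfalso
      apply hne
      exact congrArg Subtype.val
        (Cfsg.Agent.Lib.Helper39.eq_of_sum_indicator_eq_one _ hHp t1 t2)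
    · rw [hv₁, hv₂, t1.1, t1.2.1, t1.2.2, t2.1, t2.2.1, t2.2.2]
      push_cast; linear_combination hadd
    · rw [hv₁, hv₂, t1.1, t1.2.1, t1.2.2, t2.1, t2.2.1, t2.2.2]
      push_cast; linear_combination hadd
    · exfalso
      apply hne
      exact congrArg Subtype.val
        (Cfsg.Agent.Lib.Helper39.eq_of_sum_indicator_eq_one _ hHm t1 t2)
  · intro χ₁ χ₂ h₁ h₂ hne hd₁ hd₂
    have hv₁ := hv ⟨χ₁, h₁⟩
    have hv₂ := hv ⟨χ₂, h₂⟩
    change χ₁ (Cfsg.Agent.Lib.Helper41.upperU 1) = _ at hv₁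
    change χ₂ (Cfsg.Agent.Lib.Helper41.upperU 1) = _ at hv₂
    rcases hminus ⟨χ₁, h₁⟩ hd₁ with t1 | t1 <;> rcases hminus ⟨χ₂, h₂⟩ hd₂ with t2 | t2
    · exfalso
      apply hne
      exact congrArg Subtype.val
        (Cfsg.Agent.Lib.Helper39.eq_of_sum_indicator_eq_one _ hC10 t1 t2)
    · rw [hv₁, hv₂, t1.1, t1.2.1, t1.2.2, t2.1, t2.2.1, t2.2.2]
      push_cast; linear_combination hadd
    · rw [hv₁, hv₂, t1.1, t1.2.1, t1.2.2, t2.1, t2.2.1, t2.2.2]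
      push_cast; linear_combination hadd
    · exfalso
      apply hne
      exact congrArg Subtype.val
        (Cfsg.Agent.Lib.Helper39.eq_of_sum_indicator_eq_one _ hC01 t1 t2)

end Cfsg.Agent.S2324
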