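import Cfsg.Statements.S2329

set_option autoImplicit false
open Cfsg

namespace Cfsg.Agent.S2329

open Matrix Polynomial

theorem sq_zero_of_nilpotent {F : Type*} [Field F] (N : Matrix (Fin 2) (Fin 2) F)
    (h : IsNilpotent N) : N ^ 2 = 0 := by
  have h1 := Matrix.isNilpotent_charpoly_sub_pow_of_isNilpotent h
  have h2 : N.charpoly = X ^ 2 := by
    have := h1.eq_zero
    simpa [sub_eq_zero] using this
  have h3 := Matrix.aeval_self_charpoly N
  rw [h2] at h3
  simpa using h3

/-- the standard transvection. -/
noncomputable def stdU (F : Type*) [Field F] : Matrix.GeneralLinearGroup (Fin 2) F :=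
  Matrix.GeneralLinearGroup.mkOfDetNeZero !![1, 1; 0, 1] (by simp [Matrix.det_fin_two])

theorem conj_stdU {F : Type*} [Field F] (g : Matrix.GeneralLinearGroup (Fin 2) F)
    (hN2 : ((g : Matrix (Fin 2) (Fin 2) F) - 1) ^ 2 = 0)
    (hN : (g : Matrix (Fin 2) (Fin 2) F) - 1 ≠ 0) : IsConj (stdU F) g := by
  set A : Matrix (Fin 2) (Fin 2) F := (g : Matrix (Fin 2) (Fin 2) F) with hA
  obtain ⟨a, b, c, d, hN'⟩ : ∃ a b c d : F, A - 1 = !![a, b; c, d] :=
    ⟨(A - 1) 0 0, (A - 1) 0 1, (A - 1) 1 0, (A - 1) 1 1, by
      ext i j; fin_cases i <;> fin_cases j <;> rfl⟩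
  have hAe : A = !![1 + a, b; c, 1 + d] := by
    have : A = 1 + (A - 1) := by abel
    rw [this, hN']
    ext i j; fin_cases i <;> fin_cases j <;> simp
  rw [hN'] at hN2 hN
  have e00 : a * a + b * c = 0 := by
    have := congrFun (congrFun hN2 0) 0
    simpa [pow_two, Matrix.mul_apply, Fin.sum_univ_two] using this
  have e01 : a * b + b * d = 0 := by
    have := congrFun (congrFun hN2 0) 1
    simpa [pow_two, Matrix.mul_apply, Fin.sum_univ_two] using this
  have e10 : c * a + d * c = 0 := by
    have := congrFun (congrFun hN2 1) 0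
    simpa [pow_two, Matrix.mul_apply, Fin.sum_univ_two] using this
  have e11 : c * b + d * d = 0 := by
    have := congrFun (congrFun hN2 1) 1
    simpa [pow_two, Matrix.mul_apply, Fin.sum_univ_two] using this
  rw [isConj_iff]
  by_cases hc : c = 0
  · by_cases hb : b = 0
    · exfalso
      apply hN
      subst hc hb
      have ha : a = 0 := by simpa using e00
      have hd : d = 0 := by simpa using e11
      subst ha hd
      ext i j; fin_cases i <;> fin_cases j <;> rfl
    · refine ⟨Matrix.GeneralLinearGroup.mkOfDetNeZero !![b, 0; d, 1]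
        (by simpa [Matrix.det_fin_two] using hb), ?_⟩
      rw [mul_inv_eq_iff_eq_mul]
      apply Units.ext
      simp only [Units.val_mul, stdU, Matrix.GeneralLinearGroup.mkOfDetNeZero]
      change _ = A * _
      rw [hAe]
      ext i j; fin_cases i <;> fin_cases j <;>
        simp [Matrix.mul_apply, Fin.sum_univ_two] <;> first | ring1 | linear_combination -e00 | linear_combination -e01 | linear_combination -e10 | linear_combination -e11
  · refine ⟨Matrix.GeneralLinearGroup.mkOfDetNeZero !![a, 1; c, 0]
        (by simpa [Matrix.det_fin_two] using hc), ?_⟩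
    rw [mul_inv_eq_iff_eq_mul]
    apply Units.ext
    simp only [Units.val_mul, stdU, Matrix.GeneralLinearGroup.mkOfDetNeZero]
    change _ = A * _
    rw [hAe]
    ext i j; fin_cases i <;> fin_cases j <;>
      simp [Matrix.mul_apply, Fin.sum_univ_two] <;> first | ring1 | linear_combination -e00 | linear_combination -e01 | linear_combination -e10 | linear_combination -e11

/-- Over a finite field of characteristic p, any two elements of order p of GL₂ are conjugate: there is a single conjugacy class of non-identity unipotent elements. -/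
theorem result {F : Type*} [Field F] [Fintype F] (p : ℕ) [Fact p.Prime] [CharP F p] (g h : Matrix.GeneralLinearGroup (Fin 2) F)
    (hg : orderOf g = p) (hh : orderOf h = p) : IsConj g h := by
  have key : ∀ g : Matrix.GeneralLinearGroup (Fin 2) F, orderOf g = p → IsConj (stdU F) g := by
    intro g hg
    have hp : p.Prime := Fact.out
    have hgp : g ^ p = 1 := by rw [← hg]; exact pow_orderOf_eq_one g
    have hg1 : g ≠ 1 := by
      intro h1
      rw [h1, orderOf_one] at hg
      exact hp.one_lt.ne hg
    have hAp : (g : Matrix (Fin 2) (Fin 2) F) ^ p = 1 := by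
      have := congrArg (fun x : Matrix.GeneralLinearGroup (Fin 2) F => (x : Matrix (Fin 2) (Fin 2) F)) hgp
      simpa using this
    have hnil : IsNilpotent ((g : Matrix (Fin 2) (Fin 2) F) - 1) := by
      refine ⟨p, ?_⟩
      rw [sub_pow_char_of_commute _ (Commute.one_right _), hAp, one_pow, sub_self]
    apply conj_stdU g (sq_zero_of_nilpotent _ hnil)
    intro h0
    apply hg1
    apply Units.ext
    simpa [sub_eq_zero] using h0
  exact (key g hg).symm.trans (key h hh)

end Cfsg.Agent.S2329
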