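import Cfsg.Statements.S2337
import Cfsg.Agent.S0325
import Cfsg.Agent.Lib.Helper95.SzIso
import Cfsg.Agent.Lib.Helper95.LSBound
import Cfsg.Agent.Lib.Helper6.SzTI
set_option autoImplicit false
open Cfsg

namespace Cfsg.Agent.S2337

open Cfsg.Agent.Lib.Helper6 Cfsg.Agent.Lib.Helper95

/-- a trivial representation on `Fin k → ℂ`, `k ≥ 2`, is not irreducible -/
theorem not_irreducible_of_trivial {G : Type*} [Group G] {k : ℕ} (hk : 2 ≤ k)
    (ρ : Representation ℂ G (Fin k → ℂ)) (htriv : ∀ g, ρ g = 1) : ¬ ρ.IsIrreducible := by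
  intro hirr
  let v₀ : Fin k → ℂ := Pi.single ⟨0, by omega⟩ 1
  let U : Subrepresentation ρ :=
    { toSubmodule := Submodule.span ℂ {v₀}
      apply_mem_toSubmodule := by
        intro g v hv
        rw [htriv g]; exact hv }
  rcases hirr.eq_bot_or_eq_top U with h | h
  · have hmem : v₀ ∈ U.toSubmodule := Submodule.subset_span rfl
    rw [h] at hmem
    have : v₀ = 0 := hmem
    have h1 := congrFun this ⟨0, by omega⟩
    simp [v₀] at h1
  · have hmem : (Pi.single ⟨1, by omega⟩ 1 : Fin k → ℂ) ∈ U.toSubmodule := by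
      rw [h]; trivial
    obtain ⟨c, hc⟩ := Submodule.mem_span_singleton.mp hmem
    have h1 := congrFun hc ⟨1, by omega⟩
    simp [v₀, Fin.ext_iff] at h1

/-- For the Suzuki group Sz(q), q = 2^(2m+1) with m ≥ 1 (realised inside Sp₄ over the field with q elements), every irreducible complex representation of degree at least 2 has degree at least 2^m·(q − 1). -/
theorem result {F : Type*} [Field F] [Fintype F] (m : ℕ) (hm : 1 ≤ m) (hF : Fintype.card F = 2 ^ (2 * m + 1)) :
    (∀ (k : ℕ) (ρ : Representation ℂ (Cfsg.Lie.Sz F (2 ^ (m + 1))) (Fin k → ℂ)), ρ.IsIrreducible → 2 ≤ k → 2 ^ m * (2 ^ (2 * m + 1) - 1) ≤ k) := by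
  intro k ρ hirr hk
  classical
  have _hch : CharP F 2 := sz_charP hF
  have hσ : SgSq (F := F) m := sgSq_of_card m hF
  let e := szIso hm hF
  let ρ' : Representation ℂ (Cfsg.Sz F m) (Fin k → ℂ) := ρ.comp e.toMonoidHom
  let _ : Fintype (szTsub hσ) := Fintype.ofFinite _
  have hsimple : IsSimpleGroup (Cfsg.Sz F m) := Cfsg.Agent.S0325.result hm hF
  have hι : ∀ b : F, (szTsub hσ).subtype (tq hσ 0 b) = t0 hσ b := fun b => rfl
  have hne : ρ' ((szTsub hσ).subtype (tq hσ 0 1)) ≠ 1 := by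
    intro h1
    rw [hι] at h1
    have hker : t0 hσ (1 : F) ∈ MonoidHom.ker ρ' := h1
    have hne1 : t0 hσ (1 : F) ≠ 1 := fun h => one_ne_zero ((t0_eq_one_iff hσ).mp h)
    have hbot : MonoidHom.ker ρ' ≠ ⊥ := by
      intro hb
      rw [hb, Subgroup.mem_bot] at hker
      exact hne1 hker
    have htop : MonoidHom.ker ρ' = ⊤ :=
      (hsimple.eq_bot_or_eq_top_of_normal _ inferInstance).resolve_left hbot
    apply not_irreducible_of_trivial hk ρ _ hirr
    intro x
    have : e.symm x ∈ MonoidHom.ker ρ' := by rw [htop]; trivial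
    have h2 : ρ' (e.symm x) = 1 := this
    have h3 : ρ' (e.symm x) = ρ x := by
      show ρ (e (e.symm x)) = ρ x
      rw [MulEquiv.apply_symm_apply]
    rw [← h3, h2]
  have hbij : Function.Bijective (fun ab : F × F => tq hσ ab.1 ab.2) := by
    constructor
    · rintro ⟨a, b⟩ ⟨c, d⟩ h
      obtain ⟨h1, h2⟩ := tq_inj hσ h
      simp only at h1 h2
      rw [h1, h2]
    · intro g
      obtain ⟨a, b, h⟩ := tq_surj hσ g
      exact ⟨(a, b), h.symm⟩
  have hconj : ∀ l : F, l ≠ 0 → ∃ h : Cfsg.Sz F m,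
      h * (szTsub hσ).subtype (tq hσ 0 1) * h⁻¹ = (szTsub hσ).subtype (tq hσ 0 l) := by
    intro l hl
    obtain ⟨h, hh⟩ := exists_conj_t0 hσ (Units.mk0 l hl)
    refine ⟨h, ?_⟩
    rw [hι, hι, hh 1, Units.val_mk0, mul_one]
  have := LS.ls_bound (szTsub hσ).subtype m hF (sg m) hσ
    (fun c hc => eq_zero_or_one_of_sg_eq hσ hc) (tq hσ) (tq_mul hσ) hbij hconj ρ' hne
  rwa [Module.finrank_fin_fun] at this

end Cfsg.Agent.S2337
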