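import Cfsg.Statements.S2343
import Cfsg.Agent.Lib.Helper20.ReeD.Conc
import Cfsg.Agent.Lib.Helper20.ReeD.Bound
import Cfsg.Agent.Lib.Helper23.ReeDRep
import Cfsg.Agent.Lib.Helper23.ReeDNontriv

set_option autoImplicit false
open Cfsg

namespace Cfsg.Agent.S2343

open Cfsg.Agent.Lib.Helper20.ReeD in
/-- For the Ree group ²G₂(q), q = 3^(2m+1) with m ≥ 1 (realised over the field with q elements), every irreducible complex representation of degree at least 2 has degree at least q² − q + 1. -/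
theorem result {K : Type*} [Field K] [Fintype K] (m : ℕ) (hm : 1 ≤ m) (hK : Fintype.card K = 3 ^ (2 * m + 1)) :
    (∀ (k : ℕ) (ρ : Representation ℂ (Cfsg.Lie.twistedG2 K (3 ^ m)) (Fin k → ℂ)), ρ.IsIrreducible → 2 ≤ k → (3 ^ (2 * m + 1)) ^ 2 - 3 ^ (2 * m + 1) + 1 ≤ k) := by
  intro k ρ hρ hk
  have hsimple : IsSimpleGroup ↥(Cfsg.Lie.twistedG2 K (3 ^ m)) :=
    Cfsg.Agent.Lib.Helper20.ReeSimple.ree_simple hm hK
  obtain ⟨D, hDZ⟩ := exists_degData hm hK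
  obtain ⟨C, hC⟩ := Cfsg.Agent.Lib.Helper23.ReeD.exists_charData ρ
  have hbot : C.I ⊥ = k := by
    have h := C.sum ⊥
    rw [Fintype.sum_unique, Fintype.card_unique, Nat.cast_one, one_mul] at h
    have h1 : ((default : ↥(⊥ : Subgroup ↥(Cfsg.Lie.twistedG2 K (3 ^ m)))) : ↥(Cfsg.Lie.twistedG2 K (3 ^ m))) = 1 :=
      Subgroup.mem_bot.mp (default : ↥(⊥ : Subgroup ↥(Cfsg.Lie.twistedG2 K (3 ^ m)))).2
    rw [h1, C.one] at h
    exact_mod_cast h.symm
  have hle : C.I D.Z ≤ k := le_of_le_of_eq (C.mono ⊥ D.Z bot_le) hbot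
  have hN : C.I D.Z < k :=
    lt_of_le_of_ne hle (fun h => Cfsg.Agent.Lib.Helper23.ReeD.not_trivial_on_of_simple hk ρ hρ D.Z hDZ (hC D.Z h))
  exact degree_bound D C hN

end Cfsg.Agent.S2343
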