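import Cfsg.Statements.S2354
import Cfsg.Agent.Lib.Helper95.SzIso
set_option autoImplicit false
open Cfsg

namespace Cfsg.Agent.S2354

open Polynomial Matrix

section poly

variable {F : Type*} [Field F]

/-- generic central "upper" involution `T(0,b)` with `bt` in the place of `b^θ` -/
noncomputable def Umat (b bt : F[X]) : Matrix (Fin 4) (Fin 4) F[X] :=
  !![1, 0, b, bt; 0, 1, 0, b; 0, 0, 1, 0; 0, 0, 0, 1]

/-- its conjugate under the antidiagonal matrix -/
noncomputable def Vmat (c ct : F[X]) : Matrix (Fin 4) (Fin 4) F[X] :=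
  !![1, 0, 0, 0; 0, 1, 0, 0; c, 0, 1, 0; ct, c, 0, 1]

theorem Umat_mulVec (b bt : F[X]) (v : Fin 4 → F[X]) :
    Umat b bt *ᵥ v = ![v 0 + b * v 2 + bt * v 3, v 1 + b * v 3, v 2, v 3] := by
  funext i
  fin_cases i <;> simp [Umat, Matrix.mulVec, dotProduct, Fin.sum_univ_four]

theorem Vmat_mulVec (c ct : F[X]) (v : Fin 4 → F[X]) :
    Vmat c ct *ᵥ v = ![v 0, v 1, v 2 + c * v 0, v 3 + ct * v 0 + c * v 1] := by
  funext i
  fin_cases i <;> simp [Vmat, Matrix.mulVec, dotProduct, Fin.sum_univ_four] <;> ring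

theorem det_Umat (b bt : F[X]) : (Umat b bt).det = 1 := by
  rw [Umat]
  simp [Matrix.det_succ_row_zero, Fin.sum_univ_succ, Fin.succAbove]

theorem det_Vmat (c ct : F[X]) : (Vmat c ct).det = 1 := by
  rw [Vmat]
  simp [Matrix.det_succ_row_zero, Fin.sum_univ_succ, Fin.succAbove]

theorem Umat_mul (b bt b' bt' : F[X]) : Umat b bt * Umat b' bt' = Umat (b + b') (bt + bt') := by
  ext i j
  fin_cases i <;> fin_cases j <;>
    simp [Umat, Matrix.mul_apply, Fin.sum_univ_four] <;> ring

theorem Vmat_mul (c ct c' ct' : F[X]) : Vmat c ct * Vmat c' ct' = Vmat (c + c') (ct + ct') := by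
  ext i j
  fin_cases i <;> fin_cases j <;>
    simp [Vmat, Matrix.mul_apply, Fin.sum_univ_four]

theorem Umat_zero : Umat (0 : F[X]) 0 = 1 := by
  ext i j
  fin_cases i <;> fin_cases j <;> simp [Umat]

theorem Vmat_zero : Vmat (0 : F[X]) 0 = 1 := by
  ext i j
  fin_cases i <;> fin_cases j <;> simp [Vmat]

/-- the first coordinate strictly dominates -/
def Top (v : Fin 4 → F[X]) : Prop :=
  (v 1).natDegree < (v 0).natDegree ∧ (v 2).natDegree < (v 0).natDegree ∧
    (v 3).natDegree < (v 0).natDegree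

/-- the last coordinate strictly dominates -/
def Bot (v : Fin 4 → F[X]) : Prop :=
  (v 0).natDegree < (v 3).natDegree ∧ (v 1).natDegree < (v 3).natDegree ∧
    (v 2).natDegree < (v 3).natDegree

theorem ne_zero_of_lt_natDegree {p : F[X]} {n : ℕ} (h : n < p.natDegree) : p ≠ 0 := by
  rintro rfl; simp at h

theorem deg_main {p q bt u : F[X]} (hbt : bt ≠ 0) (hu : u ≠ 0)
    (hp : p.natDegree < bt.natDegree + u.natDegree)
    (hq : q.natDegree < bt.natDegree + u.natDegree) :
    (p + q + bt * u).natDegree = bt.natDegree + u.natDegree := by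
  have h1 : (bt * u).natDegree = bt.natDegree + u.natDegree := natDegree_mul hbt hu
  have h2 : (p + q).natDegree < (bt * u).natDegree := by
    rw [h1]
    exact lt_of_le_of_lt (natDegree_add_le _ _) (max_lt hp hq)
  rw [natDegree_add_eq_right_of_natDegree_lt h2, h1]

theorem deg_side {p b u : F[X]} {D : ℕ} (hp : p.natDegree < D)
    (hb : b.natDegree + u.natDegree < D) : (p + b * u).natDegree < D :=
  lt_of_le_of_lt (natDegree_add_le _ _) (max_lt hp (lt_of_le_of_lt natDegree_mul_le hb))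

theorem step_U {b bt : F[X]} (hb : b.natDegree < bt.natDegree) {u : Fin 4 → F[X]} (hu : Bot u) :
    Top (Umat b bt *ᵥ u) := by
  obtain ⟨h0, h1, h2⟩ := hu
  have hbt : bt ≠ 0 := ne_zero_of_lt_natDegree hb
  have hu3 : u 3 ≠ 0 := ne_zero_of_lt_natDegree h0
  have hD : (u 0 + b * u 2 + bt * u 3).natDegree = bt.natDegree + (u 3).natDegree := by
    apply deg_main hbt hu3
    · omega
    · exact lt_of_le_of_lt natDegree_mul_le (by omega)
  rw [Umat_mulVec]
  refine ⟨?_, ?_, ?_⟩
  · show (u 1 + b * u 3).natDegree < (u 0 + b * u 2 + bt * u 3).natDegree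
    rw [hD]
    exact deg_side (by omega) (by omega)
  · show (u 2).natDegree < (u 0 + b * u 2 + bt * u 3).natDegree
    rw [hD]; omega
  · show (u 3).natDegree < (u 0 + b * u 2 + bt * u 3).natDegree
    rw [hD]; omega

theorem step_V {c ct : F[X]} (hc : c.natDegree < ct.natDegree) {u : Fin 4 → F[X]} (hu : Top u) :
    Bot (Vmat c ct *ᵥ u) := by
  obtain ⟨h1, h2, h3⟩ := hu
  have hct : ct ≠ 0 := ne_zero_of_lt_natDegree hc
  have hu0 : u 0 ≠ 0 := ne_zero_of_lt_natDegree h1
  have hD : (u 3 + ct * u 0 + c * u 1).natDegree = ct.natDegree + (u 0).natDegree := by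
    have e : u 3 + ct * u 0 + c * u 1 = u 3 + c * u 1 + ct * u 0 := by ring
    rw [e]
    apply deg_main hct hu0
    · omega
    · exact lt_of_le_of_lt natDegree_mul_le (by omega)
  rw [Vmat_mulVec]
  refine ⟨?_, ?_, ?_⟩
  · show (u 0).natDegree < (u 3 + ct * u 0 + c * u 1).natDegree
    rw [hD]; omega
  · show (u 1).natDegree < (u 3 + ct * u 0 + c * u 1).natDegree
    rw [hD]; omega
  · show (u 2 + c * u 0).natDegree < (u 3 + ct * u 0 + c * u 1).natDegree
    rw [hD]
    exact deg_side (by omega) (by omega)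

/-! ### degrees of the parameters -/

theorem mono_deg {e : ℕ} (he : 2 ≤ e) (i : ℕ) :
    (X ^ (i + 1) : F[X]).natDegree < (X ^ (e * (i + 1)) : F[X]).natDegree := by
  rw [natDegree_X_pow, natDegree_X_pow]
  nlinarith

theorem binom_natDegree {a b : ℕ} (h : a < b) : (X ^ a + X ^ b : F[X]).natDegree = b := by
  rw [natDegree_add_eq_right_of_natDegree_lt (by rw [natDegree_X_pow, natDegree_X_pow]; exact h),
    natDegree_X_pow]

theorem binom_deg {e : ℕ} (he : 2 ≤ e) {i j : ℕ} (hij : i ≠ j) :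
    (X ^ (i + 1) + X ^ (j + 1) : F[X]).natDegree <
      (X ^ (e * (i + 1)) + X ^ (e * (j + 1)) : F[X]).natDegree := by
  rcases lt_or_gt_of_ne hij with h | h
  · rw [binom_natDegree (by omega), binom_natDegree (Nat.mul_lt_mul_of_pos_left (by omega) (by omega))]
    nlinarith
  · rw [add_comm (X ^ (i + 1)), add_comm (X ^ (e * (i + 1))), binom_natDegree (by omega),
      binom_natDegree (Nat.mul_lt_mul_of_pos_left (by omega) (by omega))]
    nlinarith

end poly

section gens

variable {F : Type*} [Field F] [CharP F 2]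

theorem Umat_sq (b bt : F[X]) : Umat b bt * Umat b bt = 1 := by
  rw [Umat_mul, CharTwo.add_self_eq_zero, CharTwo.add_self_eq_zero, Umat_zero]

theorem Vmat_sq (c ct : F[X]) : Vmat c ct * Vmat c ct = 1 := by
  rw [Vmat_mul, CharTwo.add_self_eq_zero, CharTwo.add_self_eq_zero, Vmat_zero]

variable (F) (e : ℕ)

/-- `T(0, X^(i+1))` -/
noncomputable def Ug (i : ℕ) : Matrix (Fin 4) (Fin 4) F[X] :=
  Umat (X ^ (i + 1)) (X ^ (e * (i + 1)))

/-- `W T(0, X^(i+1)) W` -/
noncomputable def Vg (i : ℕ) : Matrix (Fin 4) (Fin 4) F[X] :=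
  Vmat (X ^ (i + 1)) (X ^ (e * (i + 1)))

/-- the generators -/
noncomputable def gen (i : ℕ) : Matrix.SpecialLinearGroup (Fin 4) F[X] :=
  ⟨Ug F e i * Vg F e i, by rw [det_mul, Ug, Vg, det_Umat, det_Vmat, one_mul]⟩

/-- the inverses of the generators -/
noncomputable def genInv (i : ℕ) : Matrix.SpecialLinearGroup (Fin 4) F[X] :=
  ⟨Vg F e i * Ug F e i, by rw [det_mul, Ug, Vg, det_Umat, det_Vmat, one_mul]⟩

theorem gen_inv (i : ℕ) : (gen F e i)⁻¹ = genInv F e i := by
  apply inv_eq_of_mul_eq_one_left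
  apply Subtype.ext
  show Vg F e i * Ug F e i * (Ug F e i * Vg F e i) = 1
  rw [Matrix.mul_assoc, ← Matrix.mul_assoc (Ug F e i), Ug, Vg, Umat_sq, Matrix.one_mul, Vmat_sq]

/-- the matrix of a letter -/
noncomputable def letter (s : ℕ × Bool) : Matrix.SpecialLinearGroup (Fin 4) F[X] :=
  cond s.2 (gen F e s.1) (gen F e s.1)⁻¹

omit [CharP F 2] in
theorem lift_mk_cons (s : ℕ × Bool) (t : List (ℕ × Bool)) :
    FreeGroup.lift (gen F e) (FreeGroup.mk (s :: t)) =
      letter F e s * FreeGroup.lift (gen F e) (FreeGroup.mk t) := by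
  rw [FreeGroup.lift_mk, FreeGroup.lift_mk, List.map_cons, List.prod_cons]
  rfl

/-- the vector obtained by applying a word to `(1,0,0,1)` -/
noncomputable def vec (t : List (ℕ × Bool)) : Fin 4 → F[X] :=
  (FreeGroup.lift (gen F e) (FreeGroup.mk t)).1 *ᵥ ![1, 0, 0, 1]

omit [CharP F 2] in
theorem vec_nil : vec F e [] = ![1, 0, 0, 1] := by
  simp [vec, ← FreeGroup.one_eq_mk]

theorem vec_cons (s : ℕ × Bool) (t : List (ℕ × Bool)) :
    vec F e (s :: t) = (letter F e s).1 *ᵥ vec F e t := by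
  rw [vec, lift_mk_cons, Matrix.SpecialLinearGroup.coe_mul, ← Matrix.mulVec_mulVec]
  rfl

theorem vec_cons_true (i : ℕ) (t : List (ℕ × Bool)) :
    vec F e ((i, true) :: t) = Ug F e i *ᵥ (Vg F e i *ᵥ vec F e t) := by
  rw [vec_cons, Matrix.mulVec_mulVec]; rfl

theorem vec_cons_false (i : ℕ) (t : List (ℕ × Bool)) :
    vec F e ((i, false) :: t) = Vg F e i *ᵥ (Ug F e i *ᵥ vec F e t) := by
  rw [vec_cons, Matrix.mulVec_mulVec]
  simp only [letter, cond_false, gen_inv]
  rfl

/-- the invariant -/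
def Inv (s : ℕ × Bool) (v : Fin 4 → F[X]) : Prop :=
  if s.2 then ∃ u, Bot u ∧ v = Ug F e s.1 *ᵥ u else ∃ u, Top u ∧ v = Vg F e s.1 *ᵥ u

variable {F e}

omit [CharP F 2] in
theorem bot_start (he : 2 ≤ e) (i : ℕ) : Bot (Vg F e i *ᵥ ![1, 0, 0, 1]) := by
  have h1 : (1 + X ^ (e * (i + 1)) : F[X]).natDegree = e * (i + 1) := by
    have := binom_natDegree (F := F) (a := 0) (b := e * (i + 1)) (by positivity)
    simpa using this
  have h2 : i + 1 < e * (i + 1) := by nlinarith
  rw [Vg, Vmat_mulVec]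
  refine ⟨?_, ?_, ?_⟩
  · show (1 : F[X]).natDegree < ((1 : F[X]) + X ^ (e * (i + 1)) * 1 + X ^ (i + 1) * 0).natDegree
    rw [mul_one, mul_zero, add_zero, h1, natDegree_one]; omega
  · show (0 : F[X]).natDegree < ((1 : F[X]) + X ^ (e * (i + 1)) * 1 + X ^ (i + 1) * 0).natDegree
    rw [mul_one, mul_zero, add_zero, h1, natDegree_zero]; omega
  · show ((0 : F[X]) + X ^ (i + 1) * 1).natDegree <
      ((1 : F[X]) + X ^ (e * (i + 1)) * 1 + X ^ (i + 1) * 0).natDegree
    rw [mul_one, mul_one, mul_zero, add_zero, zero_add, h1, natDegree_X_pow]; omega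

omit [CharP F 2] in
theorem top_start (he : 2 ≤ e) (i : ℕ) : Top (Ug F e i *ᵥ ![1, 0, 0, 1]) := by
  have h1 : (1 + X ^ (e * (i + 1)) : F[X]).natDegree = e * (i + 1) := by
    have := binom_natDegree (F := F) (a := 0) (b := e * (i + 1)) (by positivity)
    simpa using this
  have h2 : i + 1 < e * (i + 1) := by nlinarith
  rw [Ug, Umat_mulVec]
  refine ⟨?_, ?_, ?_⟩
  · show ((0 : F[X]) + X ^ (i + 1) * 1).natDegree <
      ((1 : F[X]) + X ^ (i + 1) * 0 + X ^ (e * (i + 1)) * 1).natDegree
    rw [mul_one, mul_one, mul_zero, add_zero, zero_add, h1, natDegree_X_pow]; omega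
  · show (0 : F[X]).natDegree < ((1 : F[X]) + X ^ (i + 1) * 0 + X ^ (e * (i + 1)) * 1).natDegree
    rw [mul_one, mul_zero, add_zero, h1, natDegree_zero]; omega
  · show (1 : F[X]).natDegree < ((1 : F[X]) + X ^ (i + 1) * 0 + X ^ (e * (i + 1)) * 1).natDegree
    rw [mul_one, mul_zero, add_zero, h1, natDegree_one]; omega

theorem inv_of_reduced (he : 2 ≤ e) : ∀ (t : List (ℕ × Bool)), FreeGroup.IsReduced t →
    ∀ (s : ℕ × Bool) (t' : List (ℕ × Bool)), t = s :: t' → Inv F e s (vec F e t) := by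
  intro t
  induction t with
  | nil => intro _ s t' h; cases h
  | cons a t ih =>
    intro hred s t' h
    obtain ⟨rfl, rfl⟩ := List.cons.inj h
    cases t with
    | nil =>
      obtain ⟨i, b⟩ := a
      cases b
      · simp only [Inv, Bool.false_eq_true, if_false]
        rw [vec_cons_false, vec_nil]
        exact ⟨_, top_start he i, rfl⟩
      · simp only [Inv, if_true]
        rw [vec_cons_true, vec_nil]
        exact ⟨_, bot_start he i, rfl⟩
    | cons a' t'' =>
      rw [FreeGroup.IsReduced, List.isChain_cons_cons] at hred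
      have ih' := ih hred.2 a' t'' rfl
      obtain ⟨i, b⟩ := a
      obtain ⟨j, b'⟩ := a'
      have hrel := hred.1
      simp only at hrel
      cases b <;> cases b'
      · simp only [Inv, Bool.false_eq_true, if_false] at ih' ⊢
        obtain ⟨u, hu, hv⟩ := ih'
        rw [vec_cons_false, hv]
        exact ⟨_, step_U (mono_deg he i) (step_V (mono_deg he j) hu), rfl⟩
      · simp only [Inv, Bool.false_eq_true, if_false, if_true] at ih' ⊢
        obtain ⟨u, hu, hv⟩ := ih'
        have hij : i ≠ j := fun h => by simpa using hrel h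
        rw [vec_cons_false, hv]
        refine ⟨Umat (X ^ (i + 1) + X ^ (j + 1)) (X ^ (e * (i + 1)) + X ^ (e * (j + 1))) *ᵥ u,
          step_U (binom_deg he hij) hu, ?_⟩
        rw [← Umat_mul, ← Matrix.mulVec_mulVec]
        rfl
      · simp only [Inv, Bool.false_eq_true, if_false, if_true] at ih' ⊢
        obtain ⟨u, hu, hv⟩ := ih'
        have hij : i ≠ j := fun h => by simpa using hrel h
        rw [vec_cons_true, hv]
        refine ⟨Vmat (X ^ (i + 1) + X ^ (j + 1)) (X ^ (e * (i + 1)) + X ^ (e * (j + 1))) *ᵥ u,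
          step_V (binom_deg he hij) hu, ?_⟩
        rw [← Vmat_mul, ← Matrix.mulVec_mulVec]
        rfl
      · simp only [Inv, if_true] at ih' ⊢
        obtain ⟨u, hu, hv⟩ := ih'
        rw [vec_cons_true, hv]
        exact ⟨_, step_V (mono_deg he i) (step_U (mono_deg he j) hu), rfl⟩

/-! ### Degree bound -/

/-- weight of a word, bounding degrees -/
def wt (t : List (ℕ × Bool)) : ℕ := (t.map fun s => 2 * (s.1 + 1)).sum

omit [CharP F 2] in
theorem mulVec_natDegree_le {M : Matrix (Fin 4) (Fin 4) F[X]} {v : Fin 4 → F[X]} {d k : ℕ}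
    (hM : ∀ i j, (M i j).natDegree ≤ d) (hv : ∀ j, (v j).natDegree ≤ k) (i : Fin 4) :
    ((M *ᵥ v) i).natDegree ≤ d + k := by
  have : (M *ᵥ v) i = ∑ j, M i j * v j := rfl
  rw [this]
  apply natDegree_sum_le_of_forall_le
  intro j _
  exact natDegree_mul_le.trans (add_le_add (hM i j) (hv j))

omit [CharP F 2] in
theorem Ug_natDegree_le (he : 2 ≤ e) (n : ℕ) (i j : Fin 4) :
    (Ug F e n i j).natDegree ≤ e * (n + 1) := by
  have h1 : (X ^ (n + 1) : F[X]).natDegree ≤ e * (n + 1) := by
    rw [natDegree_X_pow]; nlinarith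
  have h2 : (X ^ (e * (n + 1)) : F[X]).natDegree ≤ e * (n + 1) := by
    rw [natDegree_X_pow]
  fin_cases i <;> fin_cases j <;> simp [Ug, Umat] <;> first | exact h1 | exact h2 | omega

omit [CharP F 2] in
theorem Vg_natDegree_le (he : 2 ≤ e) (n : ℕ) (i j : Fin 4) :
    (Vg F e n i j).natDegree ≤ e * (n + 1) := by
  have h1 : (X ^ (n + 1) : F[X]).natDegree ≤ e * (n + 1) := by
    rw [natDegree_X_pow]; nlinarith
  have h2 : (X ^ (e * (n + 1)) : F[X]).natDegree ≤ e * (n + 1) := by
    rw [natDegree_X_pow]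
  fin_cases i <;> fin_cases j <;> simp [Vg, Vmat] <;> first | exact h1 | exact h2 | omega

theorem vec_natDegree_le (he : 2 ≤ e) (t : List (ℕ × Bool)) :
    ∀ j, (vec F e t j).natDegree ≤ e * wt t := by
  induction t with
  | nil =>
    intro j
    rw [vec_nil]
    fin_cases j <;> simp
  | cons s t ih =>
    intro j
    obtain ⟨i, b⟩ := s
    have hwt : e * wt ((i, b) :: t) = e * (i + 1) + (e * (i + 1) + e * wt t) := by
      simp [wt]; ring
    rw [hwt]
    cases b
    · rw [vec_cons_false]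
      exact mulVec_natDegree_le (Vg_natDegree_le he i)
        (mulVec_natDegree_le (Ug_natDegree_le he i) ih) j
    · rw [vec_cons_true]
      exact mulVec_natDegree_le (Ug_natDegree_le he i)
        (mulVec_natDegree_le (Vg_natDegree_le he i) ih) j

/-- For a non-trivial reduced word, the polynomial `vec 0 - vec 3` is non-zero of bounded degree. -/
theorem vec_sub_ne_zero (he : 2 ≤ e) {t : List (ℕ × Bool)} (hred : FreeGroup.IsReduced t)
    (ht : t ≠ []) :
    vec F e t 0 - vec F e t 3 ≠ 0 ∧ (vec F e t 0 - vec F e t 3).natDegree ≤ e * wt t := by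
  constructor
  · obtain ⟨s, t', rfl⟩ := List.exists_cons_of_ne_nil ht
    have h := inv_of_reduced (F := F) he _ hred s t' rfl
    intro h0
    have heq : vec F e (s :: t') 0 = vec F e (s :: t') 3 := sub_eq_zero.mp h0
    obtain ⟨i, b⟩ := s
    cases b
    · simp only [Inv, Bool.false_eq_true, if_false] at h
      obtain ⟨u, hu, hv⟩ := h
      have hB := step_V (mono_deg (F := F) he i) hu
      rw [← Vg, ← hv] at hB
      have := hB.1
      rw [heq] at this
      omega
    · simp only [Inv, if_true] at h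
      obtain ⟨u, hu, hv⟩ := h
      have hT := step_U (mono_deg (F := F) he i) hu
      rw [← Ug, ← hv] at hT
      have := hT.2.2
      rw [heq] at this
      omega
  · exact (natDegree_sub_le _ _).trans (max_le (vec_natDegree_le he t 0) (vec_natDegree_le he t 3))

end gens

open Cfsg.Agent.Lib.Helper6 Cfsg.Agent.Lib.Helper95 Matrix.SpecialLinearGroup in
/-- A non-trivial law holds in only finitely many Suzuki groups: for every non-trivial element w of the free group on countably many generators there is N such that for q = 2^(2m+1) with m ≥ N some substitution of elements of the Suzuki group over the field with q elements into w is not the identity. -/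
theorem result (w : FreeGroup ℕ) (hw : w ≠ 1) :
    ∃ N : ℕ, ∀ (F : Type*) [Field F] [Fintype F] (m : ℕ), 1 ≤ m → N ≤ m →
      Fintype.card F = 2 ^ (2 * m + 1) →
      ∃ f : ℕ → ↥(Cfsg.Lie.Sz F (2 ^ (m + 1))), FreeGroup.lift f w ≠ 1 := by
  classical
  have hred : FreeGroup.IsReduced w.toWord := FreeGroup.isReduced_toWord
  have hne : w.toWord ≠ [] := fun h => hw (FreeGroup.toWord_eq_nil_iff.mp h)
  have hmk : FreeGroup.mk w.toWord = w := FreeGroup.mk_toWord
  refine ⟨wt w.toWord + 1, fun F _ _ m hm hN hF => ?_⟩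
  have : CharP F 2 := sz_charP hF
  have hσ : SgSq (F := F) m := sgSq_of_card m hF
  obtain ⟨e, he_def⟩ : ∃ e : ℕ, e = 2 ^ (m + 1) := ⟨_, rfl⟩
  have he : 2 ≤ e := by
    rw [he_def, pow_succ]
    have : 1 ≤ 2 ^ m := Nat.one_le_two_pow
    omega
  obtain ⟨hP, hdeg⟩ := vec_sub_ne_zero (F := F) he hred hne
  set P : F[X] := vec F e w.toWord 0 - vec F e w.toWord 3 with hPdef
  have hcard : P.natDegree < Fintype.card F := by
    have h1 : wt w.toWord < 2 ^ m :=
      lt_of_lt_of_le (by omega : wt w.toWord < m) (Nat.lt_two_pow_self).le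
    rw [hF]
    calc P.natDegree ≤ e * wt w.toWord := hdeg
      _ < e * 2 ^ m := Nat.mul_lt_mul_of_pos_left h1 (by omega)
      _ = 2 ^ (2 * m + 1) := by rw [he_def, ← pow_add]; congr 1; ring
  obtain ⟨a, ha⟩ : ∃ a : F, P.eval a ≠ 0 := by
    by_contra hcon
    push Not at hcon
    exact hP (eq_zero_of_natDegree_lt_card_of_eval_eq_zero P (f := id) Function.injective_id hcon
      hcard)
  let φ : F[X] →+* F := Polynomial.evalRingHom a
  let g : ℕ → Matrix.SpecialLinearGroup (Fin 4) F := fun i =>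
    szT m 0 (a ^ (i + 1)) * (szW * szT m 0 (a ^ (i + 1)) * szW)
  have hU : ∀ i, (Ug F e i).map φ = szTmat m 0 (a ^ (i + 1)) := by
    intro i
    ext k l
    fin_cases k <;> fin_cases l <;>
      simp [φ, Ug, Umat, szTmat, szF, he_def] <;> ring
  have hV : ∀ i, (Vg F e i).map φ = szWmat * szTmat m 0 (a ^ (i + 1)) * szWmat := by
    intro i
    ext k l
    fin_cases k <;> fin_cases l <;>
      simp [φ, Vg, Vmat, szTmat, szWmat, szF, he_def, Matrix.mul_apply, Fin.sum_univ_four] <;> ring
  have hg : ∀ i, Matrix.SpecialLinearGroup.map φ (gen F e i) = g i := by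
    intro i
    apply Subtype.ext
    rw [Matrix.SpecialLinearGroup.map_apply_coe, RingHom.mapMatrix_apply]
    show (Ug F e i * Vg F e i).map φ =
      szTmat m 0 (a ^ (i + 1)) * (szWmat * szTmat m 0 (a ^ (i + 1)) * szWmat)
    rw [Matrix.map_mul, hU, hV]
  have hmem : ∀ i, toGL (g i) ∈ Cfsg.Lie.Sz F (2 ^ (m + 1)) := by
    intro i
    rw [lieSz_eq_closure]
    simp only [g, map_mul]
    exact Subgroup.mul_mem _ (Subgroup.subset_closure (szT_mem_szSet hσ _ _))
      (Subgroup.mul_mem _ (Subgroup.mul_mem _ (Subgroup.subset_closure szW_mem_szSet)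
        (Subgroup.subset_closure (szT_mem_szSet hσ _ _))) (Subgroup.subset_closure szW_mem_szSet))
  refine ⟨fun i => ⟨toGL (g i), hmem i⟩, ?_⟩
  intro h1
  let Φ : Matrix.SpecialLinearGroup (Fin 4) F[X] →* GL (Fin 4) F :=
    (toGL).comp (Matrix.SpecialLinearGroup.map φ)
  have hcomp : (Subgroup.subtype _).comp (FreeGroup.lift
      (fun i => (⟨toGL (g i), hmem i⟩ : ↥(Cfsg.Lie.Sz F (2 ^ (m + 1))))))
        = Φ.comp (FreeGroup.lift (gen F e)) := by
    ext i
    simp [Φ, hg]
  set M := FreeGroup.lift (gen F e) w with hM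
  have h2 : Φ M = 1 := by
    have := DFunLike.congr_fun hcomp w
    simp only [MonoidHom.comp_apply] at this
    rw [← this, h1]
    simp
  have h3 : Matrix.SpecialLinearGroup.map φ M = 1 := by
    apply toGL_injective
    rw [map_one]
    exact h2
  have hentry : ∀ i j, φ (M.1 i j) = (1 : Matrix (Fin 4) (Fin 4) F) i j := by
    intro i j
    have := congrArg (fun s : Matrix.SpecialLinearGroup (Fin 4) F => s.1 i j) h3
    simpa using this
  have hvec : ∀ j, vec F e w.toWord j = M.1 j 0 + M.1 j 3 := by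
    intro j
    rw [vec, hmk, ← hM]
    simp [Matrix.mulVec, dotProduct, Fin.sum_univ_four]
  apply ha
  rw [hPdef, hvec, hvec]
  have hφ : ∀ p : F[X], p.eval a = φ p := fun p => rfl
  rw [eval_sub, eval_add, eval_add, hφ, hφ, hφ, hφ, hentry, hentry, hentry, hentry]
  simp

end Cfsg.Agent.S2354
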