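import Cfsg.Statements.S2355
import Cfsg.Agent.Lib.Helper39.Law.Orth
import Cfsg.Agent.Lib.Helper39.Law.SU

set_option autoImplicit false
open Cfsg

namespace Cfsg.Agent.S2355

open Cfsg.Agent.Lib.Helper39

/-- the special linear groups of large degree or over large fields -/
theorem nonLaw_SL_main {w : FreeGroup ℕ} {NA NL : ℕ}
    (hNA : ∀ n : ℕ, NA ≤ n → ∃ f : ℕ → alternatingGroup (Fin n), FreeGroup.lift f w ≠ 1)
    (hNL : ∀ (F : Type) [Field F] [Fintype F], NL ≤ Fintype.card F →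
      ∃ f : ℕ → Matrix.ProjectiveSpecialLinearGroup (Fin 2) F, FreeGroup.lift f w ≠ 1)
    {F : Type} [Field F] [Fintype F] {n : ℕ} (h2 : 2 ≤ n)
    (h : max NA 4 ≤ n ∨ NL ≤ Fintype.card F) :
    NonLawModCenter w (Matrix.SpecialLinearGroup (Fin n) F) := by
  rcases h with h | h
  · exact nonLaw_SL_of_alt F (le_trans (le_max_right _ _) h) (hNA n (le_trans (le_max_left _ _) h))
  · exact nonLaw_SL_of_SL2 h2 (hNL F h)

/-- the special unitary groups of large degree or over large fields -/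
theorem nonLaw_SU_main {w : FreeGroup ℕ} {NA NL : ℕ}
    (hNA : ∀ n : ℕ, NA ≤ n → ∃ f : ℕ → alternatingGroup (Fin n), FreeGroup.lift f w ≠ 1)
    (hNL : ∀ (F : Type) [Field F] [Fintype F], NL ≤ Fintype.card F →
      ∃ f : ℕ → Matrix.ProjectiveSpecialLinearGroup (Fin 2) F, FreeGroup.lift f w ≠ 1)
    {F : Type} [Field F] [Fintype F] {n q : ℕ} (hF : Fintype.card F = q ^ 2) (h2 : 2 ≤ n)
    (h : max NA 4 ≤ n ∨ NL ≤ q - 1) :
    NonLawModCenter w (Cfsg.SU n F q) := by
  rcases h with h | h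
  · exact nonLaw_SU_of_alt hF (nonLaw_alternating (le_trans (le_max_right _ _) h)
      (hNA n (le_trans (le_max_left _ _) h)))
  · obtain ⟨σ, hσq, hσ2⟩ := Cfsg.Agent.Lib.Helper13.exists_frob hF
    apply nonLaw_SU_of_SL2 hF h2 σ hσq hσ2
    apply nonLaw_SL2
    let _ : Fintype (σ.eqLocusField (RingHom.id F)) := Fintype.ofFinite _
    apply hNL
    have h1 := card_fixedField_ge hF σ hσq
    rw [Nat.card_eq_fintype_card] at h1
    exact le_trans h h1

theorem card_alt_le {n NA : ℕ} (h : n ≤ NA) :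
    Nat.card (alternatingGroup (Fin n)) ≤ NA.factorial := by
  calc Nat.card (alternatingGroup (Fin n)) ≤ Nat.card (Equiv.Perm (Fin n)) :=
        Nat.card_le_card_of_injective _ Subtype.val_injective
    _ = n.factorial := by
        rw [Nat.card_eq_fintype_card, Fintype.card_perm, Fintype.card_fin]
    _ ≤ NA.factorial := Nat.factorial_le h

/-- A non-trivial law is satisfied by only finitely many finite simple groups that are alternating or classical, up to isomorphism: for every non-trivial element w of the free group on countably many generators there is a bound N such that every alternating group of degree ≥ 5 and every simple classical group (linear, symplectic, unitary or orthogonal, in this problem's sense) in which w is a law has order at most N. -/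
theorem result (w : FreeGroup ℕ) (hw : w ≠ 1) :
    ∃ N : ℕ, ∀ (G : Type*) [Group G] [Finite G],
      (Cfsg.IsAlternating G ∨ Cfsg.IsPSL G ∨ Cfsg.IsPSp G ∨ Cfsg.IsPSU G ∨ Cfsg.IsPOmegaOdd G ∨
          Cfsg.IsPOmegaPlus G ∨ Cfsg.IsPOmegaMinus G) →
      (∀ f : ℕ → G, FreeGroup.lift f w = 1) → Nat.card G ≤ N := by
  obtain ⟨NA, hNA⟩ := Cfsg.Agent.S2352.result w hw
  obtain ⟨NL, hNL⟩ := Cfsg.Agent.S2353.result.{0} w hw
  have hQ1 : 1 ≤ (NL + 1) ^ 2 := Nat.one_le_pow _ _ (by omega)
  have hQNL : NL ≤ (NL + 1) ^ 2 := by nlinarith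
  refine ⟨NA.factorial + ((NL + 1) ^ 2) ^ ((2 * max NA 4 + 2) * (2 * max NA 4 + 2)), ?_⟩
  intro G _ _ hG hlaw
  rcases hG with hG | hG | hG | hG | hG | hG | hG
  · -- alternating
    obtain ⟨n, -, ⟨e⟩⟩ := hG
    have hn : n < NA := by
      by_contra hcon
      push Not at hcon
      obtain ⟨f, hf⟩ := exists_of_mulEquiv e (hNA n hcon)
      exact hf (hlaw f)
    calc Nat.card G = Nat.card (alternatingGroup (Fin n)) := Nat.card_congr e.toEquiv
      _ ≤ NA.factorial := card_alt_le hn.le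
      _ ≤ _ := Nat.le_add_right _ _
  · -- PSL
    obtain ⟨F, _, _, n, h2, -, ⟨e⟩⟩ := hG
    have hsmall : ¬ (max NA 4 ≤ n ∨ NL ≤ Fintype.card F) := by
      intro h
      exact (nonLaw_SL_main hNA hNL h2 h).not_law e hlaw
    push Not at hsmall
    calc Nat.card G ≤ Nat.card (Matrix (Fin n) (Fin n) F) :=
        card_le_of_equiv_quotient _ e Subtype.val Subtype.val_injective
      _ ≤ ((NL + 1) ^ 2) ^ ((2 * max NA 4 + 2) * (2 * max NA 4 + 2)) :=
        card_matrix_le _ _ hQ1 (by rw [Fintype.card_fin]; omega) (by omega)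
      _ ≤ _ := Nat.le_add_left _ _
  · -- PSp
    obtain ⟨F, _, _, m, h2, -, ⟨e⟩⟩ := hG
    have hsmall : ¬ (max NA 4 ≤ m ∨ NL ≤ Fintype.card F) := by
      intro h
      exact (nonLaw_Sp (nonLaw_SL_main hNA hNL h2 h)).not_law e hlaw
    push Not at hsmall
    calc Nat.card G ≤ Nat.card (Matrix (Fin m ⊕ Fin m) (Fin m ⊕ Fin m) F) :=
        card_le_of_equiv_quotient _ e Subtype.val Subtype.val_injective
      _ ≤ ((NL + 1) ^ 2) ^ ((2 * max NA 4 + 2) * (2 * max NA 4 + 2)) :=
        card_matrix_le _ _ hQ1 (by rw [Fintype.card_sum, Fintype.card_fin]; omega) (by omega)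
      _ ≤ _ := Nat.le_add_left _ _
  · -- PSU
    obtain ⟨F, _, _, n, q, hF, h3, -, ⟨e⟩⟩ := hG
    have hsmall : ¬ (max NA 4 ≤ n ∨ NL ≤ q - 1) := by
      intro h
      exact (nonLaw_SU_main hNA hNL hF (by omega) h).not_law e hlaw
    push Not at hsmall
    have hq : 2 ≤ q := Cfsg.Agent.Lib.Helper13.two_le_of_card_eq_sq hF
    have hFle : Fintype.card F ≤ (NL + 1) ^ 2 := by
      rw [hF]
      exact Nat.pow_le_pow_left (by omega) 2
    calc Nat.card G ≤ Nat.card (Matrix (Fin n) (Fin n) F) :=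
        card_le_of_equiv_quotient _ e (fun g => g.1.1)
          (Subtype.val_injective.comp Subtype.val_injective)
      _ ≤ ((NL + 1) ^ 2) ^ ((2 * max NA 4 + 2) * (2 * max NA 4 + 2)) :=
        card_matrix_le _ _ hQ1 (by rw [Fintype.card_fin]; omega) hFle
      _ ≤ _ := Nat.le_add_left _ _
  · -- POmegaOdd
    obtain ⟨F, _, _, m, h3, -, ⟨e⟩⟩ := hG
    have hsmall : ¬ (max NA 4 ≤ m ∨ NL ≤ Fintype.card F) := by
      intro h
      exact (nonLaw_OmegaOdd h3 (nonLaw_SL_main hNA hNL (by omega) h)).not_law e hlaw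
    push Not at hsmall
    calc Nat.card G ≤ Nat.card (Matrix (Unit ⊕ (Fin m ⊕ Fin m)) (Unit ⊕ (Fin m ⊕ Fin m)) F) :=
        card_le_of_equiv_quotient _ e (fun g => ((g.1.1 : Matrix.GeneralLinearGroup _ F) : Matrix _ _ F))
          (Units.val_injective.comp (Subtype.val_injective.comp Subtype.val_injective))
      _ ≤ ((NL + 1) ^ 2) ^ ((2 * max NA 4 + 2) * (2 * max NA 4 + 2)) :=
        card_matrix_le _ _ hQ1 (by
          rw [Fintype.card_sum, Fintype.card_sum, Fintype.card_fin, Fintype.card_unit]; omega)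
          (by omega)
      _ ≤ _ := Nat.le_add_left _ _
  · -- POmegaPlus
    obtain ⟨F, _, _, m, h4, ⟨e⟩⟩ := hG
    have hsmall : ¬ (max NA 4 ≤ m ∨ NL ≤ Fintype.card F) := by
      intro h
      exact (nonLaw_OmegaPlus (by omega) (nonLaw_SL_main hNA hNL (by omega) h)).not_law e hlaw
    push Not at hsmall
    calc Nat.card G ≤ Nat.card (Matrix (Fin m ⊕ Fin m) (Fin m ⊕ Fin m) F) :=
        card_le_of_equiv_quotient _ e (fun g => ((g.1.1 : Matrix.GeneralLinearGroup _ F) : Matrix _ _ F))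
          (Units.val_injective.comp (Subtype.val_injective.comp Subtype.val_injective))
      _ ≤ ((NL + 1) ^ 2) ^ ((2 * max NA 4 + 2) * (2 * max NA 4 + 2)) :=
        card_matrix_le _ _ hQ1 (by rw [Fintype.card_sum, Fintype.card_fin]; omega) (by omega)
      _ ≤ _ := Nat.le_add_left _ _
  · -- POmegaMinus
    obtain ⟨F, _, _, m, a, b, h4, -, ⟨e⟩⟩ := hG
    have hsmall : ¬ (max NA 4 ≤ m - 1 ∨ NL ≤ Fintype.card F) := by
      intro h
      exact (nonLaw_OmegaMinus a b (by omega)
        (nonLaw_SL_main hNA hNL (by omega) h)).not_law e hlaw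
    push Not at hsmall
    calc Nat.card G ≤ Nat.card (Matrix ((Fin (m - 1) ⊕ Fin (m - 1)) ⊕ Fin 2)
          ((Fin (m - 1) ⊕ Fin (m - 1)) ⊕ Fin 2) F) :=
        card_le_of_equiv_quotient _ e (fun g => ((g.1.1 : Matrix.GeneralLinearGroup _ F) : Matrix _ _ F))
          (Units.val_injective.comp (Subtype.val_injective.comp Subtype.val_injective))
      _ ≤ ((NL + 1) ^ 2) ^ ((2 * max NA 4 + 2) * (2 * max NA 4 + 2)) :=
        card_matrix_le _ _ hQ1 (by
          rw [Fintype.card_sum, Fintype.card_sum, Fintype.card_fin, Fintype.card_fin]; omega)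
          (by omega)
      _ ≤ _ := Nat.le_add_left _ _

end Cfsg.Agent.S2355
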