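import Mathlib
import Cfsg.Prelude.Def_LieClassical
import Cfsg.Agent.Lib.Helper37.SU3Graph

set_option autoImplicit false
open Cfsg

namespace Cfsg.Agent.S2356

open Cfsg.Agent.Lib.Helper37 Cfsg.Agent.Lib.Helper5

theorem arith (q N2 : ℕ) (hq3 : 3 ≤ q)
    (h : q ^ 2 * (q ^ 2 - q + 1) = (1 + q * (q - 1)) + (N2 + (q + 1) * (q ^ 2 - 1))) :
    N2 = q * (q - 2) * (q ^ 2 - 1) := by
  obtain ⟨k, rfl⟩ : ∃ k, q = k + 3 := ⟨q - 3, by omega⟩
  have e1 : (k + 3) ^ 2 - 1 = k ^ 2 + 6 * k + 8 := by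
    have : (k + 3) ^ 2 = k ^ 2 + 6 * k + 8 + 1 := by ring
    omega
  have e2 : (k + 3) ^ 2 - (k + 3) + 1 = k ^ 2 + 5 * k + 7 := by
    have : (k + 3) ^ 2 = k ^ 2 + 5 * k + 6 + (k + 3) := by ring
    omega
  have e3 : k + 3 - 1 = k + 2 := by omega
  have e4 : k + 3 - 2 = k + 1 := by omega
  rw [e1, e2, e3] at h
  rw [e1, e4]
  have h' : (k + 3) ^ 2 * (k ^ 2 + 5 * k + 7) =
      (k + 3) * (k + 1) * (k ^ 2 + 6 * k + 8) +
        (1 + (k + 3) * (k + 2) + (k + 3 + 1) * (k ^ 2 + 6 * k + 8)) := by ring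
  rw [h'] at h
  omega

/-- Let q be odd, F the field with q² elements, S = SU_3(F) (determinant-one isometries of the standard Hermitian form) and t an involution of S. Then: exactly q(q−1) involutions other than t commute with t; exactly q(q−2)(q²−1) involutions do not commute with t but commute with some involution commuting with t; exactly (q+1)(q²−1) involutions x do not commute with t and admit no involution commuting with both t and x; and every involution can be reached from t in at most three steps, each step going to an involution that commutes with the previous one (the commuting involution graph is connected of diameter 3). -/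
theorem result {F : Type*} [Field F] [Fintype F] {q : ℕ} (hq : Odd q)
    (hF : Fintype.card F = q ^ 2) (t : ↥(Cfsg.SU 3 F q)) (ht : t ≠ 1) (ht2 : t * t = 1) :
    Nat.card {x : ↥(Cfsg.SU 3 F q) // x ≠ 1 ∧ x * x = 1 ∧ x ≠ t ∧ Commute t x} = q * (q - 1) ∧
    Nat.card {x : ↥(Cfsg.SU 3 F q) // x ≠ 1 ∧ x * x = 1 ∧ ¬ Commute t x ∧
        ∃ y : ↥(Cfsg.SU 3 F q), y ≠ 1 ∧ y * y = 1 ∧ Commute t y ∧ Commute y x} = q * (q - 2) * (q ^ 2 - 1) ∧
    Nat.card {x : ↥(Cfsg.SU 3 F q) // x ≠ 1 ∧ x * x = 1 ∧ ¬ Commute t x ∧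
        ∀ y : ↥(Cfsg.SU 3 F q), y ≠ 1 → y * y = 1 → ¬ (Commute t y ∧ Commute y x)} = (q + 1) * (q ^ 2 - 1) ∧
    ∀ x : ↥(Cfsg.SU 3 F q), x ≠ 1 → x * x = 1 →
      ∃ y z : ↥(Cfsg.SU 3 F q), y ≠ 1 ∧ y * y = 1 ∧ z ≠ 1 ∧ z * z = 1 ∧
        Commute t y ∧ Commute y z ∧ Commute z x := by
  have h2q := two_le_of_card_eq_sq hF
  have hq3 : 3 ≤ q := by
    rcases hq with ⟨k, hk⟩
    omega
  obtain ⟨a, rfl⟩ := exists_Rf hq hF t ht ht2
  -- the first count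
  have hN1 : Nat.card {x : ↥(Cfsg.SU 3 F q) // x ≠ 1 ∧ x * x = 1 ∧ x ≠ Rf hF a ∧
      Commute (Rf hF a) x} = q * (q - 1) := by
    have h1 := card_invol_pred hq hF (fun x => x ≠ Rf hF a ∧ Commute (Rf hF a) x)
    have h3 : Nat.card {b : N3 F q // Rf hF b ≠ Rf hF a ∧ Commute (Rf hF a) (Rf hF b)} =
        Nat.card {b : N3 F q // hermForm 3 F q b.1 a.1 = 0} :=
      Nat.card_congr (Equiv.subtypeEquivRight (fun b => pred_one_iff hq hF a b))
    rw [h3, card_perp hF a, ← q_add_one_mul_q_sub_one hF] at h1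
    apply Nat.eq_of_mul_eq_mul_left (show 0 < q + 1 by omega)
    rw [← h1]
    ring
  -- the third count
  have hN3 : Nat.card {x : ↥(Cfsg.SU 3 F q) // x ≠ 1 ∧ x * x = 1 ∧ ¬ Commute (Rf hF a) x ∧
      ∀ y : ↥(Cfsg.SU 3 F q), y ≠ 1 → y * y = 1 → ¬ (Commute (Rf hF a) y ∧ Commute y x)} =
      (q + 1) * (q ^ 2 - 1) := by
    have h1 := card_invol_pred hq hF (fun x => ¬ Commute (Rf hF a) x ∧
      ∀ y : ↥(Cfsg.SU 3 F q), y ≠ 1 → y * y = 1 → ¬ (Commute (Rf hF a) y ∧ Commute y x))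
    have h3 : Nat.card {b : N3 F q // ¬ Commute (Rf hF a) (Rf hF b) ∧
        ∀ y : ↥(Cfsg.SU 3 F q), y ≠ 1 → y * y = 1 →
          ¬ (Commute (Rf hF a) y ∧ Commute y (Rf hF b))} =
        Nat.card {b : N3 F q // hermForm 3 F q b.1 a.1 * hermForm 3 F q b.1 a.1 ^ q = 1 ∧
          b.1 ≠ hermForm 3 F q b.1 a.1 • a.1} :=
      Nat.card_congr (Equiv.subtypeEquivRight (fun b => pred_three_iff hq hF a b))
    rw [h3, card_tangent hF a] at h1
    apply Nat.eq_of_mul_eq_mul_left (show 0 < q + 1 by omega)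
    rw [← h1]
    ring
  refine ⟨hN1, ?_, hN3, ?_⟩
  · -- the second count, by complement
    have hall := card_invol hq hF
    have s1 := card_split (fun x : ↥(Cfsg.SU 3 F q) => x ≠ 1 ∧ x * x = 1)
      (fun x => Commute (Rf hF a) x)
    have s2 := card_split (fun x : ↥(Cfsg.SU 3 F q) => (x ≠ 1 ∧ x * x = 1) ∧ Commute (Rf hF a) x)
      (fun x => x = Rf hF a)
    have s3 := card_split
      (fun x : ↥(Cfsg.SU 3 F q) => (x ≠ 1 ∧ x * x = 1) ∧ ¬ Commute (Rf hF a) x)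
      (fun x => ∃ y : ↥(Cfsg.SU 3 F q), y ≠ 1 ∧ y * y = 1 ∧ Commute (Rf hF a) y ∧ Commute y x)
    have c1 : Nat.card {x : ↥(Cfsg.SU 3 F q) // ((x ≠ 1 ∧ x * x = 1) ∧ Commute (Rf hF a) x) ∧
        x = Rf hF a} = 1 := by
      rw [Nat.card_eq_one_iff_unique]
      constructor
      · constructor
        intro x y
        apply Subtype.ext
        rw [x.2.2, y.2.2]
      · exact ⟨⟨Rf hF a, ⟨⟨ht, ht2⟩, Commute.refl _⟩, rfl⟩⟩
    have c2 : Nat.card {x : ↥(Cfsg.SU 3 F q) // ((x ≠ 1 ∧ x * x = 1) ∧ Commute (Rf hF a) x) ∧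
        ¬ x = Rf hF a} = q * (q - 1) := by
      rw [← hN1]
      apply Nat.card_congr
      apply Equiv.subtypeEquivRight
      intro x
      constructor
      · rintro ⟨⟨⟨h1, h2⟩, h3⟩, h4⟩
        exact ⟨h1, h2, h4, h3⟩
      · rintro ⟨h1, h2, h4, h3⟩
        exact ⟨⟨⟨h1, h2⟩, h3⟩, h4⟩
    have c3 : Nat.card {x : ↥(Cfsg.SU 3 F q) // ((x ≠ 1 ∧ x * x = 1) ∧ ¬ Commute (Rf hF a) x) ∧
        ∃ y : ↥(Cfsg.SU 3 F q), y ≠ 1 ∧ y * y = 1 ∧ Commute (Rf hF a) y ∧ Commute y x} =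
        Nat.card {x : ↥(Cfsg.SU 3 F q) // x ≠ 1 ∧ x * x = 1 ∧ ¬ Commute (Rf hF a) x ∧
        ∃ y : ↥(Cfsg.SU 3 F q), y ≠ 1 ∧ y * y = 1 ∧ Commute (Rf hF a) y ∧ Commute y x} := by
      apply Nat.card_congr
      apply Equiv.subtypeEquivRight
      intro x
      constructor
      · rintro ⟨⟨⟨h1, h2⟩, h3⟩, h4⟩
        exact ⟨h1, h2, h3, h4⟩
      · rintro ⟨h1, h2, h3, h4⟩
        exact ⟨⟨⟨h1, h2⟩, h3⟩, h4⟩
    have c4 : Nat.card {x : ↥(Cfsg.SU 3 F q) // ((x ≠ 1 ∧ x * x = 1) ∧ ¬ Commute (Rf hF a) x) ∧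
        ¬ ∃ y : ↥(Cfsg.SU 3 F q), y ≠ 1 ∧ y * y = 1 ∧ Commute (Rf hF a) y ∧ Commute y x} =
        (q + 1) * (q ^ 2 - 1) := by
      rw [← hN3]
      apply Nat.card_congr
      apply Equiv.subtypeEquivRight
      intro x
      constructor
      · rintro ⟨⟨⟨h1, h2⟩, h3⟩, h4⟩
        refine ⟨h1, h2, h3, ?_⟩
        intro y hy1 hy2 hc
        exact h4 ⟨y, hy1, hy2, hc.1, hc.2⟩
      · rintro ⟨h1, h2, h3, h4⟩
        refine ⟨⟨⟨h1, h2⟩, h3⟩, ?_⟩
        rintro ⟨y, hy1, hy2, hc1, hc2⟩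
        exact h4 y hy1 hy2 ⟨hc1, hc2⟩
    rw [c1, c2] at s2
    rw [c3, c4] at s3
    rw [s2, s3, hall] at s1
    exact arith q _ hq3 s1
  · intro x hx1 hx2
    obtain ⟨b, rfl⟩ := exists_Rf hq hF x hx1 hx2
    obtain ⟨c, d, h1, h2, h3⟩ := exists_path hq hF a b
    exact ⟨Rf hF c, Rf hF d, Rf_ne_one hq hF c, Rf_sq hF c, Rf_ne_one hq hF d, Rf_sq hF d,
      h1, h2, h3⟩

end Cfsg.Agent.S2356
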