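import Cfsg.Statements.S2357
-- import your own Cfsg.Agent.* helpers here
import Cfsg.Agent.Lib.Helper61.ReeW2.Main
import Cfsg.Agent.S1101

set_option autoImplicit false
open Cfsg

namespace Cfsg.Agent.S2357

/-- Let R be the small Ree group over the field with q = 3^(2m+1) ≥ 27 elements and write φ for Euler's totient function. Then R has exactly q²(q²−q+1) involutions, (q²−1)(q³+1) elements of order 3, and q²(q−1)(q³+1) elements of order 6 and as many of order 9; for i > 2 dividing q−1 it has φ(i)q³(q³+1)/2 elements of order i; for i > 1 dividing (q+1)/4 it has φ(i)q³(q−1)(q²−q+1)/6 elements of order i and φ(i)q³(q−1)(q²−q+1)/2 elements of order 2i; and for i > 1 dividing q − 3^(m+1) + 1 (respectively q + 3^(m+1) + 1) it has φ(i)q³(q²−1)(q + 3^(m+1) + 1)/6 (respectively φ(i)q³(q²−1)(q − 3^(m+1) + 1)/6) elements of order i. -/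
theorem result {K : Type*} [Field K] [Fintype K] {m : ℕ} (hm : 1 ≤ m)
    (hK : Fintype.card K = 3 ^ (2 * m + 1)) :
    Nat.card {g : ↥(Cfsg.Lie.twistedG2 K (3 ^ m)) // orderOf g = 2} = (3 ^ (2 * m + 1)) ^ 2 * ((3 ^ (2 * m + 1)) ^ 2 - 3 ^ (2 * m + 1) + 1) ∧
    Nat.card {g : ↥(Cfsg.Lie.twistedG2 K (3 ^ m)) // orderOf g = 3} = ((3 ^ (2 * m + 1)) ^ 2 - 1) * ((3 ^ (2 * m + 1)) ^ 3 + 1) ∧
    Nat.card {g : ↥(Cfsg.Lie.twistedG2 K (3 ^ m)) // orderOf g = 6} = (3 ^ (2 * m + 1)) ^ 2 * (3 ^ (2 * m + 1) - 1) * ((3 ^ (2 * m + 1)) ^ 3 + 1) ∧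
    Nat.card {g : ↥(Cfsg.Lie.twistedG2 K (3 ^ m)) // orderOf g = 9} = (3 ^ (2 * m + 1)) ^ 2 * (3 ^ (2 * m + 1) - 1) * ((3 ^ (2 * m + 1)) ^ 3 + 1) ∧
    (∀ i : ℕ, 2 < i → i ∣ 3 ^ (2 * m + 1) - 1 →
      2 * Nat.card {g : ↥(Cfsg.Lie.twistedG2 K (3 ^ m)) // orderOf g = i} = Nat.totient i * (3 ^ (2 * m + 1)) ^ 3 * ((3 ^ (2 * m + 1)) ^ 3 + 1)) ∧
    (∀ i : ℕ, 1 < i → i ∣ (3 ^ (2 * m + 1) + 1) / 4 →
      6 * Nat.card {g : ↥(Cfsg.Lie.twistedG2 K (3 ^ m)) // orderOf g = i} =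
          Nat.totient i * (3 ^ (2 * m + 1)) ^ 3 * (3 ^ (2 * m + 1) - 1) * ((3 ^ (2 * m + 1)) ^ 2 - 3 ^ (2 * m + 1) + 1) ∧
        2 * Nat.card {g : ↥(Cfsg.Lie.twistedG2 K (3 ^ m)) // orderOf g = 2 * i} =
          Nat.totient i * (3 ^ (2 * m + 1)) ^ 3 * (3 ^ (2 * m + 1) - 1) * ((3 ^ (2 * m + 1)) ^ 2 - 3 ^ (2 * m + 1) + 1)) ∧
    (∀ i : ℕ, 1 < i → i ∣ 3 ^ (2 * m + 1) - 3 ^ (m + 1) + 1 →
      6 * Nat.card {g : ↥(Cfsg.Lie.twistedG2 K (3 ^ m)) // orderOf g = i} =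
        Nat.totient i * (3 ^ (2 * m + 1)) ^ 3 * ((3 ^ (2 * m + 1)) ^ 2 - 1) * (3 ^ (2 * m + 1) + 3 ^ (m + 1) + 1)) ∧
    (∀ i : ℕ, 1 < i → i ∣ 3 ^ (2 * m + 1) + 3 ^ (m + 1) + 1 →
      6 * Nat.card {g : ↥(Cfsg.Lie.twistedG2 K (3 ^ m)) // orderOf g = i} =
        Nat.totient i * (3 ^ (2 * m + 1)) ^ 3 * ((3 ^ (2 * m + 1)) ^ 2 - 1) * (3 ^ (2 * m + 1) - 3 ^ (m + 1) + 1)) := by
  haveI : CharP K 3 := Cfsg.Agent.S1101.charP_three hK
  have hq := Cfsg.Agent.Lib.Helper61.ReeW2.q_ge m hm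
  have h8 := Cfsg.Agent.Lib.Helper61.ReeW2.q_mod_eight m
  have hG := Cfsg.Agent.Lib.Helper61.ReeInv.ree_card hK
  have hGN := Cfsg.Agent.Lib.Helper61.ReeW2.card_eq_N_mul (2 * m + 1)
  refine ⟨Cfsg.Agent.Lib.Helper61.ReeW2.card_invol hm hK, Cfsg.Agent.Lib.Helper61.ReeW2.card_order_three hm hK,
    Cfsg.Agent.Lib.Helper61.ReeW2.card_order_six hm hK, Cfsg.Agent.Lib.Helper61.ReeW2.card_order_nine hm hK,
    ?_, ?_, ?_, ?_⟩
  · intro i hi2 hi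
    have h := Cfsg.Agent.Lib.Helper61.ReeW2.card_orderOf_sub_one hm hK i hi2 hi
    rw [hG] at h
    generalize Nat.card {g : ↥(Cfsg.Lie.twistedG2 K (3 ^ m)) // orderOf g = i} = c at *
    have ht : 0 < 3 ^ (2 * m + 1) - 1 := by omega
    generalize 3 ^ (2 * m + 1) - 1 = t at *
    apply Nat.eq_of_mul_eq_mul_right ht
    calc 2 * c * t = c * (2 * t) := by ring
      _ = _ := h
      _ = _ := by ring
  · intro i hi1 hi
    obtain ⟨h1, h2⟩ := (Cfsg.Agent.Lib.Helper61.ReeW2.four_torus_ree hm hK).2.1 i hi1 hi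
    rw [hG, hGN] at h1 h2
    generalize Nat.card {g : ↥(Cfsg.Lie.twistedG2 K (3 ^ m)) // orderOf g = i} = c at *
    generalize Nat.card {g : ↥(Cfsg.Lie.twistedG2 K (3 ^ m)) // orderOf g = 2 * i} = c' at *
    generalize (3 ^ (2 * m + 1)) ^ 2 - 3 ^ (2 * m + 1) + 1 = N at *
    generalize 3 ^ (2 * m + 1) - 1 = t at *
    have hs : 0 < 3 ^ (2 * m + 1) + 1 := by omega
    generalize 3 ^ (2 * m + 1) + 1 = s at *
    constructor
    · apply Nat.eq_of_mul_eq_mul_right hs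
      calc 6 * c * s = c * (6 * s) := by ring
        _ = _ := h1
        _ = _ := by ring
    · apply Nat.eq_of_mul_eq_mul_right (show 0 < 3 * s by omega)
      calc 2 * c' * (3 * s) = c' * (6 * s) := by ring
        _ = _ := h2
        _ = _ := by ring
  · intro i hi1 hi
    obtain ⟨x, hx1, hxN, hc⟩ := (Cfsg.Agent.Lib.Helper61.ReeW2.N_tori hm hK).2.1
    have h := Cfsg.Agent.Lib.Helper61.ReeW2.card_orderOf_N_torus hm hK x hx1 hxN i hi1 (hc ▸ hi)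
    rw [hc, hG, hGN, ← Cfsg.Agent.Lib.Helper61.ReeW2.k_mul_k m] at h
    rw [Cfsg.Agent.Lib.Helper61.ReeW2.sq_sub_one _ (by omega)]
    generalize Nat.card {g : ↥(Cfsg.Lie.twistedG2 K (3 ^ m)) // orderOf g = i} = c at *
    have hk : 0 < 3 ^ (2 * m + 1) - 3 ^ (m + 1) + 1 := by omega
    generalize 3 ^ (2 * m + 1) - 3 ^ (m + 1) + 1 = k₂ at *
    generalize 3 ^ (2 * m + 1) + 3 ^ (m + 1) + 1 = k₃ at *
    generalize 3 ^ (2 * m + 1) - 1 = t at *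
    apply Nat.eq_of_mul_eq_mul_right hk
    calc 6 * c * k₂ = c * (6 * k₂) := by ring
      _ = _ := h
      _ = _ := by ring
  · intro i hi1 hi
    obtain ⟨x, hx1, hxN, hc⟩ := (Cfsg.Agent.Lib.Helper61.ReeW2.N_tori hm hK).2.2
    have h := Cfsg.Agent.Lib.Helper61.ReeW2.card_orderOf_N_torus hm hK x hx1 hxN i hi1 (hc ▸ hi)
    rw [hc, hG, hGN, ← Cfsg.Agent.Lib.Helper61.ReeW2.k_mul_k m] at h
    rw [Cfsg.Agent.Lib.Helper61.ReeW2.sq_sub_one _ (by omega)]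
    generalize Nat.card {g : ↥(Cfsg.Lie.twistedG2 K (3 ^ m)) // orderOf g = i} = c at *
    have hk : 0 < 3 ^ (2 * m + 1) + 3 ^ (m + 1) + 1 := by omega
    generalize 3 ^ (2 * m + 1) - 3 ^ (m + 1) + 1 = k₂ at *
    generalize 3 ^ (2 * m + 1) + 3 ^ (m + 1) + 1 = k₃ at *
    generalize 3 ^ (2 * m + 1) - 1 = t at *
    apply Nat.eq_of_mul_eq_mul_right hk
    calc 6 * c * k₃ = c * (6 * k₃) := by ring
      _ = _ := h
      _ = _ := by ring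

end Cfsg.Agent.S2357
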