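import Cfsg.Statements.S2358
-- import your own Cfsg.Agent.* helpers here
import Cfsg.Agent.Lib.Helper61.ReeW.CentAdd
import Cfsg.Agent.Lib.Helper61.ReeW.Seven
import Cfsg.Agent.Lib.Helper86.ReeWConj

set_option autoImplicit false
open Cfsg

namespace Cfsg.Agent.S2358

/-- Let R be the small Ree group over the field with q = 3^(2m+1) ≥ 27 elements. If d divides one of (q−1)/2, (q+1)/4, q − 3^(m+1) + 1 or q + 3^(m+1) + 1, then any two cyclic subgroups of R of order d are conjugate in R. -/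
theorem result {K : Type*} [Field K] [Fintype K] {m : ℕ} (hm : 1 ≤ m)
    (hK : Fintype.card K = 3 ^ (2 * m + 1)) (d : ℕ)
    (hd : d ∣ (3 ^ (2 * m + 1) - 1) / 2 ∨ d ∣ (3 ^ (2 * m + 1) + 1) / 4 ∨ d ∣ 3 ^ (2 * m + 1) - 3 ^ (m + 1) + 1 ∨ d ∣ 3 ^ (2 * m + 1) + 3 ^ (m + 1) + 1)
    (A B : Subgroup ↥(Cfsg.Lie.twistedG2 K (3 ^ m))) (hA : IsCyclic A) (hB : IsCyclic B)
    (hAd : Nat.card A = d) (hBd : Nat.card B = d) :
    ∃ g : ↥(Cfsg.Lie.twistedG2 K (3 ^ m)), B = A.map (MulAut.conj g).toMonoidHom := by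
  haveI : CharP K 3 := Cfsg.Agent.S1101.charP_three hK
  have hfacts : ∀ p : ℕ, p.Prime → p ∣ d → 3 < p ∧
      ∀ x : ↥(Cfsg.Lie.twistedG2 K (3 ^ m)), orderOf x = p →
        ∀ y z : ↥(Cfsg.Lie.twistedG2 K (3 ^ m)), y * x = x * y → z * x = x * z → y * z = z * y := by
    intro p hp hpd
    rcases hd with hd | hd | hd | hd
    · obtain ⟨hp2, hp3, hpq⟩ := Cfsg.Agent.Lib.Helper61.ReeW.prime_half_facts m p hp (hpd.trans hd)
      exact ⟨hp3, fun x hx =>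
        (Cfsg.Agent.Lib.Helper61.ReeW.centralizer_sub_one hK x p hp hp2 hpq hx).2.2⟩
    · obtain ⟨hp2, hpq⟩ := Cfsg.Agent.Lib.Helper61.ReeW.prime_quarter_facts m p hp (hpd.trans hd)
      obtain ⟨-, hp3, -, -⟩ := Cfsg.Agent.Lib.Helper61.ReeW.prime_add_one_facts (2 * m + 1) p hp hp2 hpq
      exact ⟨hp3, fun x hx =>
        (Cfsg.Agent.Lib.Helper61.ReeW.centralizer_add_one hm hK x p hp hp2 hpq hx).1⟩
    · have hN := Cfsg.Agent.Lib.Helper61.ReeW.dvd_N_of_dvd m d (Or.inl hd)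
      obtain ⟨hp2, hp3, h1, h2⟩ :=
        Cfsg.Agent.Lib.Helper61.ReeW.prime_N_facts (2 * m + 1) (by omega) p hp (hpd.trans hN)
      exact ⟨hp3, fun x hx y z hy hz =>
        Cfsg.Agent.Lib.Helper61.ReeW.centralizer_seven hm hK x p hp hp2 h1 h2 hx y z hy hz⟩
    · have hN := Cfsg.Agent.Lib.Helper61.ReeW.dvd_N_of_dvd m d (Or.inr hd)
      obtain ⟨hp2, hp3, h1, h2⟩ :=
        Cfsg.Agent.Lib.Helper61.ReeW.prime_N_facts (2 * m + 1) (by omega) p hp (hpd.trans hN)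
      exact ⟨hp3, fun x hx y z hy hz =>
        Cfsg.Agent.Lib.Helper61.ReeW.centralizer_seven hm hK x p hp hp2 h1 h2 hx y z hy hz⟩
  exact Cfsg.Agent.Lib.Helper86.ReeW.conj_of_cyclic_of_comm_centralizers d
    (fun p hp hpd R hR =>
      Cfsg.Agent.Lib.Helper61.ReeW.pgroup_cyclic_gt_three hm hK p hp (hfacts p hp hpd).1 R hR)
    (fun x hx hxd y z hy hz => (hfacts _ hx hxd).2 x rfl y z hy hz) A B hA hB hAd hBd

end Cfsg.Agent.S2358
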