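import Cfsg.Statements.S2359
-- import your own Cfsg.Agent.* helpers here
import Cfsg.Agent.Lib.Helper61.ReeW.CentAdd
import Cfsg.Agent.Lib.Helper61.ReeW.Seven
import Cfsg.Agent.Lib.Helper86.ReeWConj

set_option autoImplicit false
open Cfsg

namespace Cfsg.Agent.S2359

/-- A non-trivial subgroup contains an element of prime order dividing its order. -/
theorem exists_prime_order {G : Type*} [Group G] [Finite G] (A : Subgroup G) (hA : A ≠ ⊥) :
    ∃ x ∈ A, (orderOf x).Prime ∧ orderOf x ∣ Nat.card ↥A := by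
  have h1 : Nat.card ↥A ≠ 1 := fun h => hA (Subgroup.eq_bot_of_card_eq A h)
  obtain ⟨p, hp, hpd⟩ := Nat.exists_prime_and_dvd h1
  haveI : Fact p.Prime := ⟨hp⟩
  obtain ⟨x, hx⟩ := exists_prime_orderOf_dvd_card' p hpd
  refine ⟨x, x.2, ?_, ?_⟩
  · rw [Subgroup.orderOf_coe, hx]; exact hp
  · rw [Subgroup.orderOf_coe, hx]; exact hpd

/-- Let R be the small Ree group over the field with q = 3^(2m+1) ≥ 27 elements. If H is a cyclic subgroup of R of order (q−1)/2, then the centralizer of H in R is cyclic of order q−1, and every non-trivial subgroup of H has the same centralizer as H. If H is a cyclic subgroup of order (q+1)/4, then the centralizer of H is abelian of order q+1 with no element of order 4 (so it is the direct product of H and a group of order 4 whose non-identity elements all have order 2), and every non-trivial subgroup of H has the same centralizer as H. -/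
theorem result {K : Type*} [Field K] [Fintype K] {m : ℕ} (hm : 1 ≤ m)
    (hK : Fintype.card K = 3 ^ (2 * m + 1)) (H : Subgroup ↥(Cfsg.Lie.twistedG2 K (3 ^ m))) (hH : IsCyclic H) :
    (Nat.card H = (3 ^ (2 * m + 1) - 1) / 2 →
      IsCyclic ↥(Subgroup.centralizer (H : Set ↥(Cfsg.Lie.twistedG2 K (3 ^ m)))) ∧
        Nat.card ↥(Subgroup.centralizer (H : Set ↥(Cfsg.Lie.twistedG2 K (3 ^ m)))) = 3 ^ (2 * m + 1) - 1 ∧
        ∀ A : Subgroup ↥(Cfsg.Lie.twistedG2 K (3 ^ m)), A ≤ H → A ≠ ⊥ →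
          Subgroup.centralizer (A : Set ↥(Cfsg.Lie.twistedG2 K (3 ^ m))) = Subgroup.centralizer (H : Set ↥(Cfsg.Lie.twistedG2 K (3 ^ m)))) ∧
    (Nat.card H = (3 ^ (2 * m + 1) + 1) / 4 →
      IsMulCommutative ↥(Subgroup.centralizer (H : Set ↥(Cfsg.Lie.twistedG2 K (3 ^ m)))) ∧
        Nat.card ↥(Subgroup.centralizer (H : Set ↥(Cfsg.Lie.twistedG2 K (3 ^ m)))) = 3 ^ (2 * m + 1) + 1 ∧
        (∀ x ∈ Subgroup.centralizer (H : Set ↥(Cfsg.Lie.twistedG2 K (3 ^ m))), orderOf x ≠ 4) ∧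
        ∀ A : Subgroup ↥(Cfsg.Lie.twistedG2 K (3 ^ m)), A ≤ H → A ≠ ⊥ →
          Subgroup.centralizer (A : Set ↥(Cfsg.Lie.twistedG2 K (3 ^ m))) = Subgroup.centralizer (H : Set ↥(Cfsg.Lie.twistedG2 K (3 ^ m)))) := by
  haveI : CharP K 3 := Cfsg.Agent.S1101.charP_three hK
  have hHcomm := Cfsg.Agent.Lib.Helper86.ReeW.comm_of_isCyclic H hH
  have hq27 : 27 ≤ 3 ^ (2 * m + 1) := by
    calc 27 = 3 ^ 3 := by norm_num
      _ ≤ 3 ^ (2 * m + 1) := Nat.pow_le_pow_right (by norm_num) (by omega)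
  have h8 := Cfsg.Agent.Lib.Helper61.ReeW.three_pow_mod_eight'' m
  constructor
  · intro hcard
    -- every element of prime order of `H` has a cyclic centraliser of order `q - 1`
    have key : ∀ x ∈ H, (orderOf x).Prime →
        IsCyclic ↥(Subgroup.centralizer {x}) ∧ Nat.card ↥(Subgroup.centralizer {x}) = 3 ^ (2 * m + 1) - 1 ∧
        ∀ y z : ↥(Cfsg.Lie.twistedG2 K (3 ^ m)), y * x = x * y → z * x = x * z → y * z = z * y := by
      intro x hx hxp
      have hd : orderOf x ∣ (3 ^ (2 * m + 1) - 1) / 2 := by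
        rw [← hcard]
        exact (Subgroup.orderOf_mk x hx).symm ▸ orderOf_dvd_natCard (⟨x, hx⟩ : ↥H)
      obtain ⟨hp2, -, hpq⟩ := Cfsg.Agent.Lib.Helper61.ReeW.prime_half_facts m _ hxp hd
      exact Cfsg.Agent.Lib.Helper61.ReeW.centralizer_sub_one hK x _ hxp hp2 hpq rfl
    have hHne : H ≠ ⊥ := by
      intro h
      rw [h, Subgroup.card_bot] at hcard
      omega
    obtain ⟨x₀, hx₀, hx₀p, -⟩ := exists_prime_order H hHne
    obtain ⟨k1, k2, k3⟩ := key x₀ hx₀ hx₀p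
    have hH0 := (Cfsg.Agent.Lib.Helper61.ReeW.centralizer_eq_of_comm H H le_rfl hHcomm x₀ hx₀ k3).2
    refine ⟨?_, ?_, ?_⟩
    · rw [hH0]; exact k1
    · rw [hH0]; exact k2
    · intro A hAH hA
      obtain ⟨x, hx, hxp, -⟩ := exists_prime_order A hA
      obtain ⟨-, -, l3⟩ := key x (hAH hx) hxp
      obtain ⟨e1, e2⟩ := Cfsg.Agent.Lib.Helper61.ReeW.centralizer_eq_of_comm H A hAH hHcomm x hx l3
      rw [e1, e2]
  · intro hcard
    have key : ∀ x ∈ H, (orderOf x).Prime →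
        (∀ y z : ↥(Cfsg.Lie.twistedG2 K (3 ^ m)), y * x = x * y → z * x = x * z → y * z = z * y) ∧
        Nat.card ↥(Subgroup.centralizer {x}) = 3 ^ (2 * m + 1) + 1 ∧
        ∀ w ∈ Subgroup.centralizer {x}, orderOf w ≠ 4 := by
      intro x hx hxp
      have hd : orderOf x ∣ (3 ^ (2 * m + 1) + 1) / 4 := by
        rw [← hcard]
        exact (Subgroup.orderOf_mk x hx).symm ▸ orderOf_dvd_natCard (⟨x, hx⟩ : ↥H)
      obtain ⟨hp2, hpq⟩ := Cfsg.Agent.Lib.Helper61.ReeW.prime_quarter_facts m _ hxp hd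
      exact Cfsg.Agent.Lib.Helper61.ReeW.centralizer_add_one hm hK x _ hxp hp2 hpq rfl
    have hHne : H ≠ ⊥ := by
      intro h
      rw [h, Subgroup.card_bot] at hcard
      omega
    obtain ⟨x₀, hx₀, hx₀p, -⟩ := exists_prime_order H hHne
    obtain ⟨k1, k2, k3⟩ := key x₀ hx₀ hx₀p
    have hH0 := (Cfsg.Agent.Lib.Helper61.ReeW.centralizer_eq_of_comm H H le_rfl hHcomm x₀ hx₀ k1).2
    refine ⟨?_, ?_, ?_, ?_⟩
    · rw [hH0]
      refine ⟨⟨fun y z => ?_⟩⟩
      apply Subtype.ext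
      exact k1 y z (Subgroup.mem_centralizer_singleton_iff.mp y.2) (Subgroup.mem_centralizer_singleton_iff.mp z.2)
    · rw [hH0]; exact k2
    · rw [hH0]; exact k3
    · intro A hAH hA
      obtain ⟨x, hx, hxp, -⟩ := exists_prime_order A hA
      obtain ⟨l1, -, -⟩ := key x (hAH hx) hxp
      obtain ⟨e1, e2⟩ := Cfsg.Agent.Lib.Helper61.ReeW.centralizer_eq_of_comm H A hAH hHcomm x hx l1
      rw [e1, e2]

end Cfsg.Agent.S2359
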