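import Mathlib
import Cfsg.Prelude.Def_LieClassical
import Cfsg.Agent.Lib.Helper37.SU3Invol

set_option autoImplicit false
open Cfsg

namespace Cfsg.Agent.S2360

open Cfsg.Agent.Lib.Helper37 Cfsg.Agent.Lib.Helper5

/-- Let q be odd, F the field with q² elements and S = SU_3(F) (determinant-one isometries of the standard Hermitian form). Then all involutions of S are conjugate; there are exactly q²(q²−q+1) of them; the centralizer of an involution has order q(q+1)(q²−1), the order of the full unitary group of degree 2; and for two distinct commuting involutions t and x there is exactly one further involution commuting with both. -/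
theorem result {F : Type*} [Field F] [Fintype F] {q : ℕ} (hq : Odd q)
    (hF : Fintype.card F = q ^ 2) (t : ↥(Cfsg.SU 3 F q)) (ht : t ≠ 1) (ht2 : t * t = 1) :
    (∀ x : ↥(Cfsg.SU 3 F q), x ≠ 1 → x * x = 1 → ∃ g : ↥(Cfsg.SU 3 F q), g * t * g⁻¹ = x) ∧
    Nat.card {x : ↥(Cfsg.SU 3 F q) // x ≠ 1 ∧ x * x = 1} = q ^ 2 * (q ^ 2 - q + 1) ∧
    Nat.card ↥(Subgroup.centralizer ({t} : Set ↥(Cfsg.SU 3 F q))) = q * (q + 1) * (q ^ 2 - 1) ∧
    ∀ x : ↥(Cfsg.SU 3 F q), x ≠ 1 → x * x = 1 → x ≠ t → Commute t x →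
      Nat.card {y : ↥(Cfsg.SU 3 F q) // y ≠ 1 ∧ y * y = 1 ∧ y ≠ t ∧ y ≠ x ∧ Commute t y ∧ Commute x y} = 1 := by
  have h2q := two_le_of_card_eq_sq hF
  obtain ⟨a, rfl⟩ := exists_Rf hq hF t ht ht2
  have hconj : ∀ x : ↥(Cfsg.SU 3 F q), x ≠ 1 → x * x = 1 →
      ∃ g : ↥(Cfsg.SU 3 F q), g * Rf hF a * g⁻¹ = x := by
    intro x hx1 hx2
    obtain ⟨b, rfl⟩ := exists_Rf hq hF x hx1 hx2
    exact exists_conj_Rf hq hF a b
  refine ⟨hconj, card_invol hq hF, ?_, ?_⟩
  · have h1 := card_conj_mul_card_centralizer (Rf hF a)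
    have h3 : Nat.card {x : ↥(Cfsg.SU 3 F q) // ∃ g : ↥(Cfsg.SU 3 F q), g * Rf hF a * g⁻¹ = x} =
        Nat.card {x : ↥(Cfsg.SU 3 F q) // x ≠ 1 ∧ x * x = 1} := by
      apply Nat.card_congr
      apply Equiv.subtypeEquivRight
      intro x
      constructor
      · rintro ⟨g, rfl⟩
        constructor
        · intro h
          apply ht
          have : Rf hF a = g⁻¹ * 1 * g := by rw [← h]; group
          rw [this]; group
        · have : g * Rf hF a * g⁻¹ * (g * Rf hF a * g⁻¹) = g * (Rf hF a * Rf hF a) * g⁻¹ := by group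
          rw [this, ht2]; group
      · rintro ⟨hx1, hx2⟩
        exact hconj x hx1 hx2
    rw [h3, card_invol hq hF, card_SU3 hF, q_cube_add_one q (by omega)] at h1
    have hpos : 0 < q ^ 2 * (q ^ 2 - q + 1) := by positivity
    apply Nat.eq_of_mul_eq_mul_left hpos
    rw [h1]
    ring
  · intro x hx1 hx2 hxt hcomm
    obtain ⟨b, rfl⟩ := exists_Rf hq hF x hx1 hx2
    have hba : hermForm 3 F q b.1 a.1 = 0 := by
      rcases (Rf_commute_iff hq hF a b).mp hcomm with h | h
      · exact absurd h.symm hxt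
      · exact h
    rw [Nat.card_eq_one_iff_unique]
    constructor
    · constructor
      have huniq : ∀ y : {y : ↥(Cfsg.SU 3 F q) // y ≠ 1 ∧ y * y = 1 ∧ y ≠ Rf hF a ∧ y ≠ Rf hF b ∧
          Commute (Rf hF a) y ∧ Commute (Rf hF b) y}, y.1 = Rf hF a * Rf hF b := by
        rintro ⟨y, hy1, hy2, hya, hyb, hcya, hcyb⟩
        obtain ⟨c, rfl⟩ := exists_Rf hq hF y hy1 hy2
        have hca : hermForm 3 F q c.1 a.1 = 0 := by
          rcases (Rf_commute_iff hq hF a c).mp hcya with h | h
          · exact absurd h.symm hya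
          · exact h
        have hcb : hermForm 3 F q c.1 b.1 = 0 := by
          rcases (Rf_commute_iff hq hF b c).mp hcyb with h | h
          · exact absurd h.symm hyb
          · exact h
        exact Rf_eq_mul hF a b c hba hca hcb
      intro y y'
      apply Subtype.ext
      rw [huniq y, huniq y']
    · have hinv : (Rf hF a)⁻¹ = Rf hF a := inv_eq_of_mul_eq_one_right ht2
      refine ⟨⟨Rf hF a * Rf hF b, ?_, ?_, ?_, ?_, ?_, ?_⟩⟩
      · intro h
        apply hxt
        rw [← hinv]
        exact (inv_eq_of_mul_eq_one_right h).symm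
      · rw [hcomm.symm.mul_mul_mul_comm, ht2, hx2, one_mul]
      · intro h
        apply hx1
        exact mul_left_cancel (a := Rf hF a) (by rw [h, mul_one])
      · intro h
        apply ht
        exact mul_right_cancel (b := Rf hF b) (by rw [h, one_mul])
      · exact (Commute.refl _).mul_right hcomm
      · exact hcomm.symm.mul_right (Commute.refl _)

end Cfsg.Agent.S2360
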