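import Cfsg.Statements.S2362
-- import your own Cfsg.Agent.* helpers here
import Mathlib
import Cfsg.Agent.Lib.Helper40.SpMixedP
import Cfsg.Agent.Lib.Helper40.OrthMainB
import Cfsg.Agent.Lib.Helper14.OddTransport
import Cfsg.Agent.Lib.Helper44.OddQF

set_option autoImplicit false
open Cfsg

namespace Cfsg.Agent.S2362

/-- Let F be a finite field of odd order and n ≥ 3. The simple orthogonal group PΩ(2n+1, F) (type B_n) and the projective symplectic group PSp(2n, F) (type C_n), which have the same order, do not have the same set of element orders. -/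
theorem result {F : Type*} [Field F] [Fintype F] (hodd : Odd (Fintype.card F)) (n : ℕ) (hn : 3 ≤ n) :
    Set.range (orderOf : Cfsg.POmega F (Cfsg.quadFormOdd n F) → ℕ) ≠ Set.range (orderOf : Cfsg.PSp n F → ℕ) := by
  classical
  obtain ⟨p, hchar⟩ := CharP.exists F
  have hpp : p.Prime := CharP.char_is_prime F p
  haveI : Fact p.Prime := ⟨hpp⟩
  obtain ⟨a, -, hqa⟩ := FiniteField.card F p
  have hp2 : p ≠ 2 := by
    rintro rfl
    rw [hqa] at hodd
    have : Even (2 ^ (a : ℕ)) := (Nat.even_pow' a.ne_zero).mpr even_two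
    exact (Nat.not_odd_iff_even.mpr this) hodd
  have h2F : (2 : F) ≠ 0 := by
    intro h
    have h1 : ((2 : ℕ) : F) = 0 := by exact_mod_cast h
    rw [CharP.cast_eq_zero_iff F p] at h1
    exact hp2 ((Nat.prime_dvd_prime_iff_eq hpp Nat.prime_two).mp h1)
  have hq1 : 1 < Fintype.card F := Fintype.one_lt_card
  obtain ⟨m, rfl⟩ : ∃ m, n = m + 1 := ⟨n - 1, by omega⟩
  have hm : 2 ≤ m := by omega
  have hqm1 : 1 ≤ Fintype.card F ^ m := Nat.one_le_pow _ _ (by omega)
  -- the key claim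
  suffices hmain : ∃ M : ℕ, (M = Fintype.card F ^ m - 1 ∨ M = Fintype.card F ^ m + 1) ∧
      p * M ∉ Set.range (orderOf : Cfsg.POmega F (Cfsg.quadFormOdd (m + 1) F) → ℕ) by
    obtain ⟨M, hM, hnot⟩ := hmain
    intro heq
    apply hnot
    rw [heq]
    obtain ⟨y, hy⟩ := Cfsg.Agent.Lib.Helper40.exists_psp_orderOf_p_mul' (F := F) p hp2 (by omega : 1 ≤ m) M hM
    exact ⟨y, hy⟩
  have hcenter := Cfsg.Agent.Lib.Helper14.center_Omega_quadFormOdd (m + 1) F h2F (by omega)
  have hcardι : Fintype.card (Unit ⊕ (Fin (m + 1) ⊕ Fin (m + 1))) = 2 * m + 3 := by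
    simp only [Fintype.card_sum, Fintype.card_fin, Fintype.card_unit]
    ring
  -- reduction to `Ω`
  have hred : ∀ (M r : ℕ), r.Prime → r ≠ 2 →
      (orderOf ((Fintype.card F : ℕ) : ZMod r) = 2 * m ∨
        (orderOf ((Fintype.card F : ℕ) : ZMod r) = m ∧ Odd m)) →
      (orderOf ((Fintype.card F : ℕ) : ZMod r) = 2 * m → Fintype.card F ^ m % 4 = 1) →
      (orderOf ((Fintype.card F : ℕ) : ZMod r) = m → Fintype.card F ^ m % 4 = 3) →
      r ∣ M → M % 4 = 2 →
      p * M ∉ Set.range (orderOf : Cfsg.POmega F (Cfsg.quadFormOdd (m + 1) F) → ℕ) := by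
    intro M r hr hr2 hord hA hB hrM hM4
    rintro ⟨y, hy⟩
    obtain ⟨g, rfl⟩ := QuotientGroup.mk_surjective y
    have hinj : Function.Injective
        (QuotientGroup.mk' (Subgroup.center ↥(Cfsg.Omega F (Cfsg.quadFormOdd (m + 1) F)))) := by
      rw [← MonoidHom.ker_eq_bot_iff, QuotientGroup.ker_mk', hcenter]
    have h1 : orderOf g = p * M := by
      rw [← hy]
      exact (orderOf_injective _ hinj g).symm
    have h2 : orderOf (g : ↥(Cfsg.isometryGroup F (Cfsg.quadFormOdd (m + 1) F))) = p * M := by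
      rw [← h1]
      exact Subgroup.orderOf_coe g
    revert h2
    have key : ∀ (Qf : (Unit ⊕ (Fin (m + 1) ⊕ Fin (m + 1)) → F) → F)
        (Q : QuadraticForm F (Unit ⊕ (Fin (m + 1) ⊕ Fin (m + 1)) → F)) (hQf : ⇑Q = Qf)
        (hQ : (QuadraticMap.polarBilin Q).Nondegenerate)
        (g : ↥(Cfsg.isometryGroup F Qf)) (hg : g ∈ Cfsg.Omega F Qf), orderOf g ≠ p * M := by
      intro Qf Q hQf hQ g hg
      subst hQf
      exact Cfsg.Agent.Lib.Helper40.orderOf_ne_of_mem_Omega p hp2 Q hQ hm hcardι hr hr2 hord hA hB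
        hrM hM4 g hg
    exact key _ (Cfsg.Agent.Lib.Helper44.oddQF (m + 1) F) (Cfsg.Agent.Lib.Helper44.oddQF_coe (m + 1) F)
      (Cfsg.Agent.Lib.Helper44.oddQF_nondeg (m + 1) F h2F) (g : ↥(Cfsg.isometryGroup F _)) g.2
  -- the two cases
  have hqmodd : Odd (Fintype.card F ^ m) := hodd.pow
  have hmod : Fintype.card F ^ m % 4 = 1 ∨ Fintype.card F ^ m % 4 = 3 := by
    obtain ⟨t, ht⟩ := hqmodd
    omega
  rcases hmod with h4 | h4
  · obtain ⟨r, hr, hr2, hord, hrM⟩ :=
      Cfsg.Agent.Lib.Helper40.exists_ppd_even (Fintype.card F) m hodd hq1 hm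
    refine ⟨Fintype.card F ^ m + 1, Or.inr rfl, ?_⟩
    exact hred _ r hr hr2 (Or.inl hord) (fun _ => h4) (fun h => by rw [hord] at h; omega) hrM
      (by omega)
  · have hmodd : Odd m := by
      by_contra hne
      rw [Nat.not_odd_iff_even] at hne
      obtain ⟨j, hj⟩ := hne
      have hsq : Fintype.card F ^ m = (Fintype.card F ^ j) ^ 2 := by
        rw [hj, ← two_mul, mul_comm, pow_mul]
      have hjodd : Odd (Fintype.card F ^ j) := hodd.pow
      obtain ⟨t, ht⟩ := hjodd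
      rw [hsq, ht] at h4
      have : (2 * t + 1) ^ 2 = 4 * (t * t + t) + 1 := by ring
      rw [this] at h4
      omega
    have hm3 : 3 ≤ m := by
      obtain ⟨j, hj⟩ := hmodd
      omega
    obtain ⟨r, hr, hr2, hord, hrM⟩ :=
      Cfsg.Agent.Lib.Helper40.exists_ppd_odd (Fintype.card F) m hodd hq1 hm3
    refine ⟨Fintype.card F ^ m - 1, Or.inl rfl, ?_⟩
    exact hred _ r hr hr2 (Or.inr ⟨hord, hmodd⟩) (fun h => by rw [hord] at h; omega) (fun _ => h4)
      hrM (by omega)

end Cfsg.Agent.S2362
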