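import Cfsg.Statements.S2363
import Cfsg.Agent.S0243
import Cfsg.Agent.S0245
import Cfsg.Agent.S0246
import Cfsg.Agent.S0280
import Cfsg.Agent.S0292
import Cfsg.Agent.S0293
import Cfsg.Agent.S0294
import Cfsg.Agent.S1059
import Cfsg.Agent.S1062
import Cfsg.Agent.S1063
import Cfsg.Agent.S1064
import Cfsg.Agent.S1065
import Cfsg.Agent.S1066
import Cfsg.Agent.S1067
import Cfsg.Agent.S1068
import Cfsg.Agent.S1069
import Cfsg.Agent.S1163
import Cfsg.Agent.Lib.Helper40.LieBoundAsm

set_option autoImplicit false
open Cfsg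

namespace Cfsg.Agent.S2363

/-- Let G be a finite simple group of Lie type in characteristic p and let p^k be the exact power of p dividing the order of G. Then the order of G is less than p^(3k); and unless G is isomorphic to PSL(2, F) for the field F with p^k elements, the cube of the order of G is less than p^(8k) (that is, the order is below p^(8k/3)). -/
theorem result {G : Type*} [Group G] [Finite G] (p : ℕ) (hp : p.Prime) (hG : Cfsg.IsLieTypeChar p G) :
    Nat.card G < p ^ (3 * (Nat.card G).factorization p) ∧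
      ((¬ ∃ (F : Type) (_ : Field F) (_ : Fintype F), Fintype.card F = p ^ (Nat.card G).factorization p ∧
          Nonempty (G ≃* Matrix.ProjectiveSpecialLinearGroup (Fin 2) F)) →
        Nat.card G ^ 3 < p ^ (8 * (Nat.card G).factorization p)) := by
  open Cfsg.Agent.Lib.Helper40.LieBoundAsm in
  show Concl p G
  rcases hG with h | h | h | h | h | h | h | h | ⟨rfl, h⟩ | ⟨rfl, h⟩ | ⟨rfl, h⟩
  · exact concl_psl hp (fun F _ _ n hn => Cfsg.Agent.S0243.result (F := F) rfl n hn) h
  · refine concl_psp hp (fun F _ _ m hm => ?_) h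
    rw [← Cfsg.Agent.S0245.result (F := F) rfl m, ← Cfsg.Agent.S0246.result (F := F) rfl m hm,
      mul_comm]
    exact (Subgroup.card_eq_card_quotient_mul_card_subgroup _).symm
  · exact concl_psu hp (fun F _ _ q n hF hn => Cfsg.Agent.S0280.result (F := F) hF n hn) h
  · exact concl_podd hp (fun F _ _ m hodd hm => Cfsg.Agent.S0292.result (F := F) rfl hodd m hm) h
  · exact concl_pplus hp (fun F _ _ m hm => Cfsg.Agent.S0293.result (F := F) rfl m hm) h
  · exact concl_pminus hp (fun F _ _ m a b hm hab => Cfsg.Agent.S0294.result (F := F) rfl m hm a b hab) h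
  · exact concl_exc hp (fun F _ _ => Cfsg.Agent.S1059.result (F := F) rfl)
      (fun F _ _ => Cfsg.Agent.S1062.result (F := F) rfl)
      (fun F _ _ => Cfsg.Agent.S1063.result (F := F) rfl)
      (fun F _ _ => Cfsg.Agent.S1064.result (F := F) rfl)
      (fun F _ _ => Cfsg.Agent.S1065.result (F := F) rfl) h
  · exact concl_tw hp (fun K _ _ q hq hK => Cfsg.Agent.S1066.result (K := K) hq hK)
      (fun K _ _ q hq hK => Cfsg.Agent.S1067.result (K := K) hq hK) h
  · exact concl_sz (fun F _ _ m hm hF => (Cfsg.Agent.S1163.result (F := F) hm hF).1) h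
  · exact concl_2f4 (fun K _ _ m hK => Cfsg.Agent.S1068.result (K := K) hK) h
  · exact concl_2g2 (fun K _ _ m hK => Cfsg.Agent.S1069.result (K := K) hK) h

end Cfsg.Agent.S2363
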