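import Cfsg.Statements.S2365
-- import your own Cfsg.Agent.* helpers here
import Mathlib
import Cfsg.Agent.Lib.Helper40.UnitaryCommute

set_option autoImplicit false
open Cfsg

namespace Cfsg.Agent.S2365

open Cfsg.Agent.Lib.Helper40 Matrix

/-- Let q be a power of the prime p, F the field with q² elements, m ≥ 4, and let a, b be commuting elements of PSU(m, q) with a of order p. Then every prime divisor of the order of b divides the order of SU(m − 2, q). -/
theorem result {F : Type*} [Field F] [Fintype F] (p : ℕ) [Fact p.Prime] [CharP F p] (m q : ℕ) (hm : 4 ≤ m) (hF : Fintype.card F = q ^ 2)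
    (a b : Cfsg.PSU m F q) (ha : orderOf a = p) (hab : Commute a b) :
    (orderOf b).primeFactors ⊆ (Nat.card ↥(Cfsg.SU (m - 2) F q)).primeFactors := by
  classical
  have hpp : p.Prime := Fact.out
  obtain ⟨k, hk1, hqk⟩ := exists_eq_prime_pow_of_card_eq_sq p q hF
  subst hqk
  have hpq : p ∣ p ^ k := dvd_pow_self p (by omega)
  have hq1 : 1 ≤ p ^ k := Nat.one_le_pow _ _ hpp.pos
  obtain ⟨n, rfl⟩ : ∃ n, m = n + 1 := ⟨m - 1, by omega⟩
  have hcardSU := card_SU_eq hF (n + 1 - 2) (by omega)
  have hfin : Finite ↥(Cfsg.SU (n + 1 - 2) F (p ^ k)) := inferInstance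
  have hcard0 : Nat.card ↥(Cfsg.SU (n + 1 - 2) F (p ^ k)) ≠ 0 := Nat.card_pos.ne'
  have hb0 : orderOf b ≠ 0 := by
    have : Finite (Cfsg.PSU (n + 1) F (p ^ k)) := inferInstance
    exact (orderOf_pos b).ne'
  intro r hr
  rw [Nat.mem_primeFactors] at hr ⊢
  obtain ⟨hrp, hrb, -⟩ := hr
  refine ⟨hrp, ?_, hcard0⟩
  have : Fact r.Prime := ⟨hrp⟩
  by_cases hrp' : r = p
  · rw [hrp', hcardSU]
    apply Dvd.dvd.mul_right
    apply hpq.trans
    apply dvd_pow_self
    have h1 : 2 ≤ n + 1 - 2 := by omega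
    have h2 : 2 * 1 ≤ (n + 1 - 2) * (n + 1 - 2 - 1) := Nat.mul_le_mul h1 (by omega)
    omega
  · by_cases hrq : r ∣ (p ^ k) ^ 2 - 1
    · rw [hcardSU]
      apply Dvd.dvd.mul_left
      have hmem : 0 ∈ Finset.range (n + 1 - 2 - 1) := Finset.mem_range.mpr (by omega)
      refine Dvd.dvd.trans ?_ (Finset.dvd_prod_of_mem _ hmem)
      rw [if_neg (by decide)]
      exact hrq
    · -- the main case
      have hb' : orderOf (b ^ (orderOf b / r)) = r := orderOf_pow_orderOf_div hb0 hrb
      have hcomm : Commute (b ^ (orderOf b / r)) a := hab.symm.pow_left _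
      have hcop : r.Coprime p := (Nat.coprime_primes hrp hpp).mpr hrp'
      have hx : orderOf (b ^ (orderOf b / r) * a) = r * p := by
        rw [hcomm.orderOf_mul_eq_mul_orderOf_of_coprime (by rw [hb', ha]; exact hcop), hb', ha]
      obtain ⟨MB, N, c, hMBu, hMBr, hc0, hcq, hMBns, hNp, hN0, hMBN⟩ :=
        exists_lift_data_PSU p (p ^ k) hF r hrp (b ^ (orderOf b / r) * a) hx
      have hrq' : ¬ r ∣ Fintype.card F - 1 := by rw [hF]; exact hrq
      obtain ⟨β, hβ⟩ := exists_pow_eq_of_not_dvd r hrp hrq' c hc0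
      have hβ0 : β ≠ 0 := by
        rintro rfl
        rw [zero_pow hrp.ne_zero] at hβ
        exact hc0 hβ.symm
      have hγ : β * β ^ (p ^ k) = 1 := by
        apply eq_one_of_pow_eq_one_of_coprime _ r hrp.ne_zero
          ((Nat.Prime.coprime_iff_not_dvd hrp).mpr hrq')
        rw [mul_pow, ← pow_mul, mul_comm (p ^ k) r, pow_mul, hβ, hcq]
      obtain ⟨S, hS⟩ : ∃ S : Matrix (Fin (n + 1)) (Fin (n + 1)) F, S = β⁻¹ • MB := ⟨_, rfl⟩
      have hSr : S ^ r = 1 := by
        rw [hS, smul_pow, hMBr, smul_smul, ← hβ, inv_pow, inv_mul_cancel₀ (pow_ne_zero _ hβ0),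
          one_smul]
      have hS1 : S ≠ 1 := by
        intro h1
        apply hMBns β
        have h2 := congrArg (fun Y => β • Y) h1
        simp only [hS, smul_smul, mul_inv_cancel₀ hβ0, one_smul] at h2
        exact h2
      have hSN : S * N = N * S := by
        rw [hS, Matrix.smul_mul, Matrix.mul_smul, hMBN]
      have hSu : Sᵀ * S.map (· ^ (p ^ k)) = 1 := by
        have h1 : S.map (· ^ (p ^ k)) = (β⁻¹) ^ (p ^ k) • MB.map (· ^ (p ^ k)) := by
          ext i j
          simp [hS, mul_pow]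
        rw [h1, hS, Matrix.transpose_smul, Matrix.smul_mul, Matrix.mul_smul, hMBu, smul_smul,
          inv_pow, ← mul_inv, hγ, inv_one, one_smul]
      obtain ⟨e, he⟩ : ∃ e, orderOf (-((p ^ k : ℕ) : ZMod r)) = e := ⟨_, rfl⟩
      have hem := unitary_order_add_two_le p k hF r hrp hrp' hm S N hSu hSr hS1 hNp hN0 hSN e he
      have hpow : (-((p ^ k : ℕ) : ZMod r)) ^ e = 1 := by
        rw [← he]
        exact pow_orderOf_eq_one _
      -- `e ≥ 3`
      have he0 : e ≠ 0 := by
        intro h0
        have hrq0 : ¬ r ∣ p ^ k := fun h =>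
          hrp' ((Nat.prime_dvd_prime_iff_eq hrp hpp).mp (hrp.dvd_of_dvd_pow h))
        have hunit : IsUnit (-((p ^ k : ℕ) : ZMod r)) := by
          rw [IsUnit.neg_iff, ZMod.isUnit_iff_coprime]
          exact ((Nat.Prime.coprime_iff_not_dvd hrp).mpr hrq0).symm
        obtain ⟨u, hu⟩ := hunit
        rw [← hu, orderOf_units] at he
        exact (orderOf_pos u).ne' (he.trans h0)
      have hsq : ((p ^ k : ℕ) : ZMod r) ^ 2 ≠ 1 := by
        intro h
        apply hrq
        rw [← ZMod.natCast_eq_zero_iff, Nat.cast_sub (Nat.one_le_pow _ _ hq1)]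
        push_cast at h ⊢
        rw [h, sub_self]
      have he1 : e ≠ 1 := by
        intro h1
        rw [h1, pow_one] at hpow
        apply hsq
        rw [← neg_sq, hpow, one_pow]
      have he2 : e ≠ 2 := by
        intro h2
        rw [h2, neg_sq] at hpow
        exact hsq hpow
      rw [hcardSU]
      apply Dvd.dvd.mul_left
      have hmem : e - 2 ∈ Finset.range (n + 1 - 2 - 1) := Finset.mem_range.mpr (by omega)
      refine Dvd.dvd.trans ?_ (Finset.dvd_prod_of_mem _ hmem)
      have h3 : e - 2 + 1 + 1 = e := by omega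
      have h4 : e - 2 + 1 = e - 1 := by omega
      rw [h3, h4]
      rcases Nat.even_or_odd e with hev | hod
      · have h5 : ¬ Even (e - 1) := by
          rw [Nat.not_even_iff_odd]
          exact Nat.Even.sub_odd (by omega) hev odd_one
        rw [if_neg h5, ← ZMod.natCast_eq_zero_iff, Nat.cast_sub (Nat.one_le_pow _ _ hq1)]
        rw [Even.neg_pow hev] at hpow
        push_cast at hpow ⊢
        rw [hpow, sub_self]
      · have h5 : Even (e - 1) := Nat.Odd.sub_odd hod odd_one
        rw [if_pos h5, ← ZMod.natCast_eq_zero_iff]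
        rw [Odd.neg_pow hod] at hpow
        push_cast at hpow ⊢
        linear_combination -hpow

end Cfsg.Agent.S2365
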