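import Cfsg.Statements.S2366
-- import your own Cfsg.Agent.* helpers here
import Mathlib
import Cfsg.Agent.Lib.Helper40.UnitaryBasic
import Cfsg.Agent.Lib.Helper40.SU3Center
import Cfsg.Agent.Lib.Helper40.UnitaryCharpoly
import Cfsg.Agent.Lib.Helper40.SU3Elements
import Cfsg.Agent.Lib.Helper40.SU3Coxeter

set_option autoImplicit false
open Cfsg

namespace Cfsg.Agent.S2366
open Cfsg.Agent.Lib.Helper40 Cfsg.Agent.S2476

universe u

theorem orderOf_mem {F : Type u} [Field F] [Fintype F] (p : ℕ) [Fact p.Prime] [CharP F p]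
    (hp3 : 3 ≤ p) (k : ℕ) (hk : 1 ≤ k) (hF : Fintype.card F = (p ^ k) ^ 2)
    (x : Cfsg.PSU 3 F (p ^ k)) :
    orderOf x ∣ p ^ k + 1 ∨ orderOf x ∣ p * (p ^ k + 1) / Nat.gcd 3 (p ^ k + 1) ∨
      orderOf x ∣ ((p ^ k) ^ 2 - 1) / Nat.gcd 3 (p ^ k + 1) ∨
      orderOf x ∣ ((p ^ k) ^ 2 - p ^ k + 1) / Nat.gcd 3 (p ^ k + 1) := by
  have hpp : p.Prime := Fact.out
  have hq0 : p ^ k ≠ 0 := (pow_pos hpp.pos k).ne'
  obtain ⟨X, rfl⟩ := QuotientGroup.mk_surjective x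
  set M : Matrix (Fin 3) (Fin 3) F := ((X : Matrix.SpecialLinearGroup (Fin 3) F) : Matrix (Fin 3) (Fin 3) F) with hM
  have hm : M.charpoly.Monic := Matrix.charpoly_monic _
  have hdeg : M.charpoly.natDegree = 3 := by
    rw [Matrix.charpoly_natDegree_eq_dim, Fintype.card_fin]
  have h0 : M.charpoly.coeff 0 = -1 := by
    have h1 := Matrix.det_eq_sign_charpoly_coeff M
    rw [hM, (X : Matrix.SpecialLinearGroup (Fin 3) F).2, Fintype.card_fin] at h1
    linear_combination h1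
  have hU : M.transpose * M.map (· ^ (p ^ k)) = 1 := transpose_mul_map_of_mem_SU (p ^ k) hq0 _ X.2
  have hS : ∀ (K : Type u) [Field K] [Algebra F K] (α : K), Polynomial.aeval α M.charpoly = 0 →
      Polynomial.aeval (α⁻¹ ^ (p ^ k)) M.charpoly = 0 := by
    intro K _ _ α hα
    exact aeval_inv_pow_charpoly_of_unitary p k hF M hU α hα
  have hd3 : Nat.gcd 3 (p ^ k + 1) ∣ 3 := Nat.gcd_dvd_left _ _
  have hdq : Nat.gcd 3 (p ^ k + 1) ∣ p ^ k + 1 := Nat.gcd_dvd_right _ _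
  obtain ⟨k', hk'⟩ := hdq
  have hdpos : 0 < Nat.gcd 3 (p ^ k + 1) := Nat.gcd_pos_of_pos_left _ (by norm_num)
  obtain ⟨N, c, hdvd, hN⟩ := unitary_poly_main p hp3 k hk hF M.charpoly hm hdeg h0 hS
    (Nat.gcd 3 (p ^ k + 1)) k' hd3 hk'.symm
  have h1 := pow_eq_smul_of_charpoly_dvd M N c hdvd
  have h2 := mk_pow_eq_one_of_scalar (p ^ k) X N c h1
  have h3 := orderOf_dvd_of_pow_eq_one h2
  rcases hN with rfl | rfl | rfl | rfl
  · exact Or.inr (Or.inr (Or.inr h3))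
  · exact Or.inl h3
  · refine Or.inr (Or.inl ?_)
    have : p * (p ^ k + 1) / Nat.gcd 3 (p ^ k + 1) = p * k' := by
      apply Nat.div_eq_of_eq_mul_right hdpos
      have : p * (p ^ k + 1) = p * (Nat.gcd 3 (p ^ k + 1) * k') := congrArg (p * ·) hk'
      rw [this]
      ring
    rw [this]
    exact h3
  · refine Or.inr (Or.inr (Or.inl ?_))
    have : ((p ^ k) ^ 2 - 1) / Nat.gcd 3 (p ^ k + 1) = (p ^ k - 1) * k' := by
      rw [sq_sub_one_eq' (p ^ k) (Nat.one_le_iff_ne_zero.mpr hq0)]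
      apply Nat.div_eq_of_eq_mul_right hdpos
      have : (p ^ k + 1) * (p ^ k - 1) = (Nat.gcd 3 (p ^ k + 1) * k') * (p ^ k - 1) :=
        congrArg (· * (p ^ k - 1)) hk'
      rw [this]
      ring
    rw [this]
    exact h3


/-- The set of element orders of PSU(3, q) for an odd prime power q = p^n: writing d = gcd(3, q + 1), a positive integer is the order of some element exactly when it divides one of q + 1, p(q + 1)/d, (q² − 1)/d, (q² − q + 1)/d. -/
theorem result {F : Type*} [Field F] [Fintype F] (p : ℕ) [Fact p.Prime] [CharP F p] (hp : p ≠ 2) (q : ℕ) (hF : Fintype.card F = q ^ 2) :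
    Set.range (orderOf : Cfsg.PSU 3 F q → ℕ) =
      {s : ℕ | s ∣ q + 1} ∪ {s : ℕ | s ∣ p * (q + 1) / Nat.gcd 3 (q + 1)} ∪
        {s : ℕ | s ∣ (q ^ 2 - 1) / Nat.gcd 3 (q + 1)} ∪ {s : ℕ | s ∣ (q ^ 2 - q + 1) / Nat.gcd 3 (q + 1)} := by
  obtain ⟨k, hk, rfl⟩ := exists_eq_prime_pow_of_card_eq_sq p q hF
  have hpp : p.Prime := Fact.out
  have hp3 : 3 ≤ p := by
    have := hpp.two_le
    omega
  have hq1 : 1 ≤ p ^ k := Nat.one_le_pow _ _ hpp.pos
  have hq3 : 3 ≤ p ^ k := by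
    calc 3 ≤ p := hp3
      _ = p ^ 1 := (pow_one p).symm
      _ ≤ p ^ k := Nat.pow_le_pow_right hpp.pos hk
  have hd3 : Nat.gcd 3 (p ^ k + 1) ∣ 3 := Nat.gcd_dvd_left _ _
  have hdq : Nat.gcd 3 (p ^ k + 1) ∣ p ^ k + 1 := Nat.gcd_dvd_right _ _
  have hdN : Nat.gcd 3 (p ^ k + 1) ∣ (p ^ k) ^ 2 - p ^ k + 1 := by
    have e : (p ^ k) ^ 2 - p ^ k + 1 = (p ^ k + 1) * (p ^ k - 2) + 3 := by
      obtain ⟨t, ht⟩ : ∃ t, p ^ k = t + 2 := ⟨p ^ k - 2, by omega⟩
      rw [ht]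
      simp only [Nat.add_sub_cancel]
      have : (t + 2) ^ 2 = (t + 2 + 1) * t + 2 + (t + 2) := by ring
      rw [this, Nat.add_sub_cancel]
    rw [e]
    exact Dvd.dvd.add (hdq.mul_right _) hd3
  ext s
  simp only [Set.mem_range, Set.mem_union, Set.mem_ofPred_eq]
  constructor
  · rintro ⟨x, rfl⟩
    rcases orderOf_mem p hp3 k hk hF x with h | h | h | h
    · exact Or.inl (Or.inl (Or.inl h))
    · exact Or.inl (Or.inl (Or.inr h))
    · exact Or.inl (Or.inr h)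
    · exact Or.inr h
  · rintro (((h | h) | h) | h)
    · obtain ⟨M, hdet, hU, hN⟩ := exists_SU3_diag (F := F) p hp3 k hk hF
      exact exists_PSU3_of_matrix' p k hk hF M hdet hU _ hN s h
    · obtain ⟨M, hdet, hU, hN⟩ := exists_SU3_mixed (F := F) p hp3 k hk hF
      refine exists_PSU3_of_matrix p k hk hF M hdet hU _ ?_ s h
      rw [Nat.div_mul_cancel (hdq.mul_left _)]
      exact hN
    · obtain ⟨M, hdet, hU, hN⟩ := exists_SU3_torus2 (F := F) p hp3 k hk hF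
      refine exists_PSU3_of_matrix p k hk hF M hdet hU _ ?_ s h
      rw [Nat.div_mul_cancel (by
        rw [sq_sub_one_eq' _ hq1]
        exact hdq.mul_right _)]
      exact hN
    · obtain ⟨M, hdet, hU, hN⟩ := exists_SU3_coxeter (F := F) p k hk hF
      refine exists_PSU3_of_matrix p k hk hF M hdet hU _ ?_ s h
      rw [Nat.div_mul_cancel hdN]
      exact hN

end Cfsg.Agent.S2366
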