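import Cfsg.Statements.S2367
import Mathlib
-- import your own Cfsg.Agent.* helpers here

set_option autoImplicit false
open Cfsg

namespace Cfsg.Agent.S2367

open Nat

theorem prime_mem_of_dvd_prod (p : ℕ) (hp : p.Prime) (L : List (ℕ × ℕ)) (hL : ∀ x ∈ L, x.1.Prime)
    (h : p ∣ (L.map (fun x => x.1 ^ x.2)).prod) : p ∈ L.map Prod.fst := by
  induction L with
  | nil => simp at h; exact absurd h hp.one_lt.ne'
  | cons x L ih =>
    rw [List.map_cons, List.prod_cons] at h
    rcases (Nat.Prime.dvd_mul hp).1 h with h1 | h1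
    · have := hp.dvd_of_dvd_pow h1
      have hx : x.1.Prime := hL x (by simp)
      rw [(Nat.prime_dvd_prime_iff_eq hp hx).1 this]
      simp
    · have := ih (fun y hy => hL y (by simp [hy])) h1
      simp only [List.map_cons, List.mem_cons]
      right; exact this

theorem spor_aux (N a : ℕ) (L : List (ℕ × ℕ)) (hL : ∀ x ∈ L, x.1.Prime)
    (hN : N = (L.map (fun x => x.1 ^ x.2)).prod)
    (hN0 : N ≠ 0)
    (h2 : 2 ^ a ∣ N) (h2' : ¬ 2 ^ (a+1) ∣ N)
    (hcheck : ∀ q ∈ L.map Prod.fst, q ≠ 2 → q^3 ∣ N → ¬ q^4 ∣ N → q^3 < 2^a)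
    (p : ℕ) (hp : p.Prime) (hodd : p ≠ 2) (h3 : N.factorization p = 3) :
    p^3 < 2^(N.factorization 2) := by
  have ha : N.factorization 2 = a := by
    have h1 := (Nat.prime_two.pow_dvd_iff_le_factorization hN0).1 h2
    have h2'' := mt (Nat.prime_two.pow_dvd_iff_le_factorization hN0).2 h2'
    omega
  rw [ha]
  have hd3 : p ^ 3 ∣ N := (hp.pow_dvd_iff_le_factorization hN0).2 (by omega)
  have hd4 : ¬ p ^ 4 ∣ N := fun h => by
    have := (hp.pow_dvd_iff_le_factorization hN0).1 h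
    omega
  have hpd : p ∣ N := dvd_trans (dvd_pow_self p (by norm_num)) hd3
  have hmem := prime_mem_of_dvd_prod p hp L hL (hN ▸ hpd)
  exact hcheck p hmem hodd hd3 hd4

theorem two_pow_gt_cube (p : ℕ) (hp : 3 ≤ p) : p ^ 3 < 2 ^ (2 * p - 1) := by
  induction p, hp using Nat.le_induction with
  | base => norm_num
  | succ p hp ih =>
    have h1 : 2 * (p + 1) - 1 = (2 * p - 1) + 2 := by omega
    rw [h1, pow_add]
    have h4 : 3 * p ≤ p ^ 2 := by nlinarith
    have h3 : 3 * p ^ 2 ≤ p ^ 3 := by nlinarith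
    have h5 : (p + 1) ^ 3 = p ^ 3 + 3 * p ^ 2 + 3 * p + 1 := by ring
    omega

theorem v2_lower (n : ℕ) : n / 2 + n / 4 + n / 8 ≤ padicValNat 2 (n !) := by
  have : Fact (Nat.Prime 2) := ⟨Nat.prime_two⟩
  rw [padicValNat_factorial (p := 2) (b := max (Nat.log 2 n + 1) 4) (by
    exact lt_of_lt_of_le (Nat.lt_succ_self _) (le_max_left _ _))]
  have hsub : Finset.Ico 1 4 ⊆ Finset.Ico 1 (max (Nat.log 2 n + 1) 4) :=
    Finset.Ico_subset_Ico_right (le_max_right _ _)
  calc n / 2 + n / 4 + n / 8 = ∑ i ∈ Finset.Ico 1 4, n / 2 ^ i := by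
        simp [Finset.sum_Ico_eq_sum_range, Finset.sum_range_succ]
    _ ≤ _ := Finset.sum_le_sum_of_subset hsub

theorem vp_upper (p n : ℕ) (hp : p.Prime) (hp3 : 3 ≤ p) (hn : n < 3 * p) : padicValNat p (n !) ≤ 2 := by
  have : Fact p.Prime := ⟨hp⟩
  rw [padicValNat_factorial (p := p) (b := Nat.log p n + 1) (Nat.lt_succ_self _)]
  have hsq : n < p ^ 2 := by nlinarith
  calc ∑ i ∈ Finset.Ico 1 (Nat.log p n + 1), n / p ^ i
      ≤ ∑ i ∈ Finset.Ico 1 (Nat.log p n + 1), (if i = 1 then 2 else 0) := by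
        apply Finset.sum_le_sum
        intro i hi
        rw [Finset.mem_Ico] at hi
        by_cases h1 : i = 1
        · subst h1
          simp only [pow_one, if_true]
          have : n / p < 3 := by
            rw [Nat.div_lt_iff_lt_mul hp.pos]; omega
          omega
        · rw [if_neg h1]
          have h2 : 2 ≤ i := by omega
          have : n < p ^ i := lt_of_lt_of_le hsq (Nat.pow_le_pow_right hp.pos h2)
          simp [Nat.div_eq_of_lt this]
    _ ≤ 2 := by
        rw [Finset.sum_ite_eq']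
        split_ifs <;> omega

theorem alt_aux (n : ℕ) (hn : 5 ≤ n) (p : ℕ) (hp : p.Prime) (hodd : p ≠ 2)
    (h3 : (n ! / 2).factorization p = 3) : p ^ 3 < 2 ^ (n ! / 2).factorization 2 := by
  have hp3 : 3 ≤ p := by
    have := hp.two_le
    omega
  have hdvd : 2 ∣ n ! := Nat.dvd_factorial (by norm_num) (by omega)
  obtain ⟨N, hN⟩ := hdvd
  have hN' : n ! / 2 = N := by rw [hN]; simp
  rw [hN'] at h3 ⊢
  have hN0 : N ≠ 0 := by
    rintro rfl
    exact (Nat.factorial_ne_zero n) (by simpa using hN)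
  have hfac : (n !).factorization = (2 : ℕ).factorization + N.factorization := by
    rw [hN, Nat.factorization_mul (by norm_num) hN0]
  have hfp : (n !).factorization p = N.factorization p := by
    rw [hfac, Nat.prime_two.factorization]
    simp [hodd.symm]
  have hf2 : (n !).factorization 2 = 1 + N.factorization 2 := by
    rw [hfac, Nat.prime_two.factorization]
    simp
  rw [Nat.factorization_def _ hp] at hfp
  rw [Nat.factorization_def _ Nat.prime_two] at hf2
  have h3p : 3 * p ≤ n := by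
    by_contra hcon
    have := vp_upper p n hp hp3 (by omega)
    omega
  have hv2 := v2_lower n
  have hge : 2 * p - 1 ≤ N.factorization 2 := by omega
  exact lt_of_lt_of_le (two_pow_gt_cube p hp3) (Nat.pow_le_pow_right (by norm_num) hge)

theorem spor_IsM11 (p : ℕ) (hp : p.Prime) (hodd : p ≠ 2) (h3 : (7920 : ℕ).factorization p = 3) :
    p ^ 3 < 2 ^ ((7920 : ℕ).factorization 2) := by
  refine spor_aux _ 4 [(2,4),(3,2),(5,1),(11,1)] ?_ ?_ ?_ ?_ ?_ ?_ p hp hodd h3
  · intro x hx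
    simp only [List.mem_cons, List.not_mem_nil, or_false] at hx
    rcases hx with rfl | rfl | rfl | rfl <;> norm_num
  · norm_num
  · norm_num
  · norm_num
  · norm_num
  · decide

theorem spor_IsM12 (p : ℕ) (hp : p.Prime) (hodd : p ≠ 2) (h3 : (95040 : ℕ).factorization p = 3) :
    p ^ 3 < 2 ^ ((95040 : ℕ).factorization 2) := by
  refine spor_aux _ 6 [(2,6),(3,3),(5,1),(11,1)] ?_ ?_ ?_ ?_ ?_ ?_ p hp hodd h3
  · intro x hx
    simp only [List.mem_cons, List.not_mem_nil, or_false] at hx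
    rcases hx with rfl | rfl | rfl | rfl <;> norm_num
  · norm_num
  · norm_num
  · norm_num
  · norm_num
  · decide

theorem spor_IsM22 (p : ℕ) (hp : p.Prime) (hodd : p ≠ 2) (h3 : (443520 : ℕ).factorization p = 3) :
    p ^ 3 < 2 ^ ((443520 : ℕ).factorization 2) := by
  refine spor_aux _ 7 [(2,7),(3,2),(5,1),(7,1),(11,1)] ?_ ?_ ?_ ?_ ?_ ?_ p hp hodd h3
  · intro x hx
    simp only [List.mem_cons, List.not_mem_nil, or_false] at hx
    rcases hx with rfl | rfl | rfl | rfl | rfl <;> norm_num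
  · norm_num
  · norm_num
  · norm_num
  · norm_num
  · decide

theorem spor_IsM23 (p : ℕ) (hp : p.Prime) (hodd : p ≠ 2) (h3 : (10200960 : ℕ).factorization p = 3) :
    p ^ 3 < 2 ^ ((10200960 : ℕ).factorization 2) := by
  refine spor_aux _ 7 [(2,7),(3,2),(5,1),(7,1),(11,1),(23,1)] ?_ ?_ ?_ ?_ ?_ ?_ p hp hodd h3
  · intro x hx
    simp only [List.mem_cons, List.not_mem_nil, or_false] at hx
    rcases hx with rfl | rfl | rfl | rfl | rfl | rfl <;> norm_num
  · norm_num
  · norm_num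
  · norm_num
  · norm_num
  · decide

theorem spor_IsM24 (p : ℕ) (hp : p.Prime) (hodd : p ≠ 2) (h3 : (244823040 : ℕ).factorization p = 3) :
    p ^ 3 < 2 ^ ((244823040 : ℕ).factorization 2) := by
  refine spor_aux _ 10 [(2,10),(3,3),(5,1),(7,1),(11,1),(23,1)] ?_ ?_ ?_ ?_ ?_ ?_ p hp hodd h3
  · intro x hx
    simp only [List.mem_cons, List.not_mem_nil, or_false] at hx
    rcases hx with rfl | rfl | rfl | rfl | rfl | rfl <;> norm_num
  · norm_num
  · norm_num
  · norm_num
  · norm_num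
  · decide

theorem spor_IsJ1 (p : ℕ) (hp : p.Prime) (hodd : p ≠ 2) (h3 : (175560 : ℕ).factorization p = 3) :
    p ^ 3 < 2 ^ ((175560 : ℕ).factorization 2) := by
  refine spor_aux _ 3 [(2,3),(3,1),(5,1),(7,1),(11,1),(19,1)] ?_ ?_ ?_ ?_ ?_ ?_ p hp hodd h3
  · intro x hx
    simp only [List.mem_cons, List.not_mem_nil, or_false] at hx
    rcases hx with rfl | rfl | rfl | rfl | rfl | rfl <;> norm_num
  · norm_num
  · norm_num
  · norm_num
  · norm_num
  · decide

theorem spor_IsJ2 (p : ℕ) (hp : p.Prime) (hodd : p ≠ 2) (h3 : (604800 : ℕ).factorization p = 3) :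
    p ^ 3 < 2 ^ ((604800 : ℕ).factorization 2) := by
  refine spor_aux _ 7 [(2,7),(3,3),(5,2),(7,1)] ?_ ?_ ?_ ?_ ?_ ?_ p hp hodd h3
  · intro x hx
    simp only [List.mem_cons, List.not_mem_nil, or_false] at hx
    rcases hx with rfl | rfl | rfl | rfl <;> norm_num
  · norm_num
  · norm_num
  · norm_num
  · norm_num
  · decide

theorem spor_IsJ3 (p : ℕ) (hp : p.Prime) (hodd : p ≠ 2) (h3 : (50232960 : ℕ).factorization p = 3) :
    p ^ 3 < 2 ^ ((50232960 : ℕ).factorization 2) := by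
  refine spor_aux _ 7 [(2,7),(3,5),(5,1),(17,1),(19,1)] ?_ ?_ ?_ ?_ ?_ ?_ p hp hodd h3
  · intro x hx
    simp only [List.mem_cons, List.not_mem_nil, or_false] at hx
    rcases hx with rfl | rfl | rfl | rfl | rfl <;> norm_num
  · norm_num
  · norm_num
  · norm_num
  · norm_num
  · decide

theorem spor_IsJ4 (p : ℕ) (hp : p.Prime) (hodd : p ≠ 2) (h3 : (86775571046077562880 : ℕ).factorization p = 3) :
    p ^ 3 < 2 ^ ((86775571046077562880 : ℕ).factorization 2) := by
  refine spor_aux _ 21 [(2,21),(3,3),(5,1),(7,1),(11,3),(23,1),(29,1),(31,1),(37,1),(43,1)] ?_ ?_ ?_ ?_ ?_ ?_ p hp hodd h3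
  · intro x hx
    simp only [List.mem_cons, List.not_mem_nil, or_false] at hx
    rcases hx with rfl | rfl | rfl | rfl | rfl | rfl | rfl | rfl | rfl | rfl <;> norm_num
  · norm_num
  · norm_num
  · norm_num
  · norm_num
  · decide

theorem spor_IsCo1 (p : ℕ) (hp : p.Prime) (hodd : p ≠ 2) (h3 : (4157776806543360000 : ℕ).factorization p = 3) :
    p ^ 3 < 2 ^ ((4157776806543360000 : ℕ).factorization 2) := by
  refine spor_aux _ 21 [(2,21),(3,9),(5,4),(7,2),(11,1),(13,1),(23,1)] ?_ ?_ ?_ ?_ ?_ ?_ p hp hodd h3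
  · intro x hx
    simp only [List.mem_cons, List.not_mem_nil, or_false] at hx
    rcases hx with rfl | rfl | rfl | rfl | rfl | rfl | rfl <;> norm_num
  · norm_num
  · norm_num
  · norm_num
  · norm_num
  · decide

theorem spor_IsCo2 (p : ℕ) (hp : p.Prime) (hodd : p ≠ 2) (h3 : (42305421312000 : ℕ).factorization p = 3) :
    p ^ 3 < 2 ^ ((42305421312000 : ℕ).factorization 2) := by
  refine spor_aux _ 18 [(2,18),(3,6),(5,3),(7,1),(11,1),(23,1)] ?_ ?_ ?_ ?_ ?_ ?_ p hp hodd h3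
  · intro x hx
    simp only [List.mem_cons, List.not_mem_nil, or_false] at hx
    rcases hx with rfl | rfl | rfl | rfl | rfl | rfl <;> norm_num
  · norm_num
  · norm_num
  · norm_num
  · norm_num
  · decide

theorem spor_IsCo3 (p : ℕ) (hp : p.Prime) (hodd : p ≠ 2) (h3 : (495766656000 : ℕ).factorization p = 3) :
    p ^ 3 < 2 ^ ((495766656000 : ℕ).factorization 2) := by
  refine spor_aux _ 10 [(2,10),(3,7),(5,3),(7,1),(11,1),(23,1)] ?_ ?_ ?_ ?_ ?_ ?_ p hp hodd h3
  · intro x hx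
    simp only [List.mem_cons, List.not_mem_nil, or_false] at hx
    rcases hx with rfl | rfl | rfl | rfl | rfl | rfl <;> norm_num
  · norm_num
  · norm_num
  · norm_num
  · norm_num
  · decide

theorem spor_IsFi22 (p : ℕ) (hp : p.Prime) (hodd : p ≠ 2) (h3 : (64561751654400 : ℕ).factorization p = 3) :
    p ^ 3 < 2 ^ ((64561751654400 : ℕ).factorization 2) := by
  refine spor_aux _ 17 [(2,17),(3,9),(5,2),(7,1),(11,1),(13,1)] ?_ ?_ ?_ ?_ ?_ ?_ p hp hodd h3
  · intro x hx
    simp only [List.mem_cons, List.not_mem_nil, or_false] at hx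
    rcases hx with rfl | rfl | rfl | rfl | rfl | rfl <;> norm_num
  · norm_num
  · norm_num
  · norm_num
  · norm_num
  · decide

theorem spor_IsFi23 (p : ℕ) (hp : p.Prime) (hodd : p ≠ 2) (h3 : (4089470473293004800 : ℕ).factorization p = 3) :
    p ^ 3 < 2 ^ ((4089470473293004800 : ℕ).factorization 2) := by
  refine spor_aux _ 18 [(2,18),(3,13),(5,2),(7,1),(11,1),(13,1),(17,1),(23,1)] ?_ ?_ ?_ ?_ ?_ ?_ p hp hodd h3
  · intro x hx
    simp only [List.mem_cons, List.not_mem_nil, or_false] at hx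
    rcases hx with rfl | rfl | rfl | rfl | rfl | rfl | rfl | rfl <;> norm_num
  · norm_num
  · norm_num
  · norm_num
  · norm_num
  · decide

theorem spor_IsFi24p (p : ℕ) (hp : p.Prime) (hodd : p ≠ 2) (h3 : (1255205709190661721292800 : ℕ).factorization p = 3) :
    p ^ 3 < 2 ^ ((1255205709190661721292800 : ℕ).factorization 2) := by
  refine spor_aux _ 21 [(2,21),(3,16),(5,2),(7,3),(11,1),(13,1),(17,1),(23,1),(29,1)] ?_ ?_ ?_ ?_ ?_ ?_ p hp hodd h3
  · intro x hx
    simp only [List.mem_cons, List.not_mem_nil, or_false] at hx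
    rcases hx with rfl | rfl | rfl | rfl | rfl | rfl | rfl | rfl | rfl <;> norm_num
  · norm_num
  · norm_num
  · norm_num
  · norm_num
  · decide

theorem spor_IsHS (p : ℕ) (hp : p.Prime) (hodd : p ≠ 2) (h3 : (44352000 : ℕ).factorization p = 3) :
    p ^ 3 < 2 ^ ((44352000 : ℕ).factorization 2) := by
  refine spor_aux _ 9 [(2,9),(3,2),(5,3),(7,1),(11,1)] ?_ ?_ ?_ ?_ ?_ ?_ p hp hodd h3
  · intro x hx
    simp only [List.mem_cons, List.not_mem_nil, or_false] at hx
    rcases hx with rfl | rfl | rfl | rfl | rfl <;> norm_num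
  · norm_num
  · norm_num
  · norm_num
  · norm_num
  · decide

theorem spor_IsMcL (p : ℕ) (hp : p.Prime) (hodd : p ≠ 2) (h3 : (898128000 : ℕ).factorization p = 3) :
    p ^ 3 < 2 ^ ((898128000 : ℕ).factorization 2) := by
  refine spor_aux _ 7 [(2,7),(3,6),(5,3),(7,1),(11,1)] ?_ ?_ ?_ ?_ ?_ ?_ p hp hodd h3
  · intro x hx
    simp only [List.mem_cons, List.not_mem_nil, or_false] at hx
    rcases hx with rfl | rfl | rfl | rfl | rfl <;> norm_num
  · norm_num
  · norm_num
  · norm_num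
  · norm_num
  · decide

theorem spor_IsHe (p : ℕ) (hp : p.Prime) (hodd : p ≠ 2) (h3 : (4030387200 : ℕ).factorization p = 3) :
    p ^ 3 < 2 ^ ((4030387200 : ℕ).factorization 2) := by
  refine spor_aux _ 10 [(2,10),(3,3),(5,2),(7,3),(17,1)] ?_ ?_ ?_ ?_ ?_ ?_ p hp hodd h3
  · intro x hx
    simp only [List.mem_cons, List.not_mem_nil, or_false] at hx
    rcases hx with rfl | rfl | rfl | rfl | rfl <;> norm_num
  · norm_num
  · norm_num
  · norm_num
  · norm_num
  · decide

theorem spor_IsRu (p : ℕ) (hp : p.Prime) (hodd : p ≠ 2) (h3 : (145926144000 : ℕ).factorization p = 3) :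
    p ^ 3 < 2 ^ ((145926144000 : ℕ).factorization 2) := by
  refine spor_aux _ 14 [(2,14),(3,3),(5,3),(7,1),(13,1),(29,1)] ?_ ?_ ?_ ?_ ?_ ?_ p hp hodd h3
  · intro x hx
    simp only [List.mem_cons, List.not_mem_nil, or_false] at hx
    rcases hx with rfl | rfl | rfl | rfl | rfl | rfl <;> norm_num
  · norm_num
  · norm_num
  · norm_num
  · norm_num
  · decide

theorem spor_IsSuz (p : ℕ) (hp : p.Prime) (hodd : p ≠ 2) (h3 : (448345497600 : ℕ).factorization p = 3) :
    p ^ 3 < 2 ^ ((448345497600 : ℕ).factorization 2) := by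
  refine spor_aux _ 13 [(2,13),(3,7),(5,2),(7,1),(11,1),(13,1)] ?_ ?_ ?_ ?_ ?_ ?_ p hp hodd h3
  · intro x hx
    simp only [List.mem_cons, List.not_mem_nil, or_false] at hx
    rcases hx with rfl | rfl | rfl | rfl | rfl | rfl <;> norm_num
  · norm_num
  · norm_num
  · norm_num
  · norm_num
  · decide

theorem spor_IsON (p : ℕ) (hp : p.Prime) (hodd : p ≠ 2) (h3 : (460815505920 : ℕ).factorization p = 3) :
    p ^ 3 < 2 ^ ((460815505920 : ℕ).factorization 2) := by
  refine spor_aux _ 9 [(2,9),(3,4),(5,1),(7,3),(11,1),(19,1),(31,1)] ?_ ?_ ?_ ?_ ?_ ?_ p hp hodd h3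
  · intro x hx
    simp only [List.mem_cons, List.not_mem_nil, or_false] at hx
    rcases hx with rfl | rfl | rfl | rfl | rfl | rfl | rfl <;> norm_num
  · norm_num
  · norm_num
  · norm_num
  · norm_num
  · decide

theorem spor_IsHN (p : ℕ) (hp : p.Prime) (hodd : p ≠ 2) (h3 : (273030912000000 : ℕ).factorization p = 3) :
    p ^ 3 < 2 ^ ((273030912000000 : ℕ).factorization 2) := by
  refine spor_aux _ 14 [(2,14),(3,6),(5,6),(7,1),(11,1),(19,1)] ?_ ?_ ?_ ?_ ?_ ?_ p hp hodd h3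
  · intro x hx
    simp only [List.mem_cons, List.not_mem_nil, or_false] at hx
    rcases hx with rfl | rfl | rfl | rfl | rfl | rfl <;> norm_num
  · norm_num
  · norm_num
  · norm_num
  · norm_num
  · decide

theorem spor_IsLy (p : ℕ) (hp : p.Prime) (hodd : p ≠ 2) (h3 : (51765179004000000 : ℕ).factorization p = 3) :
    p ^ 3 < 2 ^ ((51765179004000000 : ℕ).factorization 2) := by
  refine spor_aux _ 8 [(2,8),(3,7),(5,6),(7,1),(11,1),(31,1),(37,1),(67,1)] ?_ ?_ ?_ ?_ ?_ ?_ p hp hodd h3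
  · intro x hx
    simp only [List.mem_cons, List.not_mem_nil, or_false] at hx
    rcases hx with rfl | rfl | rfl | rfl | rfl | rfl | rfl | rfl <;> norm_num
  · norm_num
  · norm_num
  · norm_num
  · norm_num
  · decide

theorem spor_IsTh (p : ℕ) (hp : p.Prime) (hodd : p ≠ 2) (h3 : (90745943887872000 : ℕ).factorization p = 3) :
    p ^ 3 < 2 ^ ((90745943887872000 : ℕ).factorization 2) := by
  refine spor_aux _ 15 [(2,15),(3,10),(5,3),(7,2),(13,1),(19,1),(31,1)] ?_ ?_ ?_ ?_ ?_ ?_ p hp hodd h3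
  · intro x hx
    simp only [List.mem_cons, List.not_mem_nil, or_false] at hx
    rcases hx with rfl | rfl | rfl | rfl | rfl | rfl | rfl <;> norm_num
  · norm_num
  · norm_num
  · norm_num
  · norm_num
  · decide

theorem spor_IsB (p : ℕ) (hp : p.Prime) (hodd : p ≠ 2) (h3 : (4154781481226426191177580544000000 : ℕ).factorization p = 3) :
    p ^ 3 < 2 ^ ((4154781481226426191177580544000000 : ℕ).factorization 2) := by
  refine spor_aux _ 41 [(2,41),(3,13),(5,6),(7,2),(11,1),(13,1),(17,1),(19,1),(23,1),(31,1),(47,1)] ?_ ?_ ?_ ?_ ?_ ?_ p hp hodd h3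
  · intro x hx
    simp only [List.mem_cons, List.not_mem_nil, or_false] at hx
    rcases hx with rfl | rfl | rfl | rfl | rfl | rfl | rfl | rfl | rfl | rfl | rfl <;> norm_num
  · norm_num
  · norm_num
  · norm_num
  · norm_num
  · decide

theorem spor_IsM (p : ℕ) (hp : p.Prime) (hodd : p ≠ 2) (h3 : (808017424794512875886459904961710757005754368000000000 : ℕ).factorization p = 3) :
    p ^ 3 < 2 ^ ((808017424794512875886459904961710757005754368000000000 : ℕ).factorization 2) := by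
  refine spor_aux _ 46 [(2,46),(3,20),(5,9),(7,6),(11,2),(13,3),(17,1),(19,1),(23,1),(29,1),(31,1),(41,1),(47,1),(59,1),(71,1)] ?_ ?_ ?_ ?_ ?_ ?_ p hp hodd h3
  · intro x hx
    simp only [List.mem_cons, List.not_mem_nil, or_false] at hx
    rcases hx with rfl | rfl | rfl | rfl | rfl | rfl | rfl | rfl | rfl | rfl | rfl | rfl | rfl | rfl | rfl <;> norm_num
  · norm_num
  · norm_num
  · norm_num
  · norm_num
  · decide

/-- Let G be an alternating group of degree at least 5 or a simple group with the order of one of the 26 sporadic groups, and let p be an odd prime such that p³ is the exact power of p dividing the order of G. Then p³ is less than the 2-part of the order of G. -/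
theorem result {G : Type*} [Group G] [Finite G] (hG : Cfsg.IsAlternating G ∨ Cfsg.IsSporadic G)
    (p : ℕ) (hp : p.Prime) (hodd : p ≠ 2) (h3 : (Nat.card G).factorization p = 3) :
    p ^ 3 < 2 ^ (Nat.card G).factorization 2 := by
  rcases hG with ⟨n, hn, ⟨e⟩⟩ | hS
  · have hnt : Nontrivial (Fin n) := Fin.nontrivial_iff_two_le.2 (by omega)
    have hcard : Nat.card G = n ! / 2 := by
      rw [Nat.card_congr e.toEquiv, nat_card_alternatingGroup]
      simp
    rw [hcard] at h3 ⊢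
    exact alt_aux n hn p hp hodd h3
  · unfold IsSporadic at hS
    rcases hS with ⟨-, h⟩ | ⟨-, h⟩ | ⟨-, h⟩ | ⟨-, h⟩ | ⟨-, h⟩ | ⟨-, h⟩ | ⟨-, h⟩ | ⟨-, h⟩ | ⟨-, h⟩ | ⟨-, h⟩ | ⟨-, h⟩ | ⟨-, h⟩ | ⟨-, h⟩ | ⟨-, h⟩ | ⟨-, h⟩ | ⟨-, h⟩ | ⟨-, h⟩ | ⟨-, h⟩ | ⟨-, h⟩ | ⟨-, h⟩ | ⟨-, h⟩ | ⟨-, h⟩ | ⟨-, h⟩ | ⟨-, h⟩ | ⟨-, h⟩ | ⟨-, h⟩
    · rw [h] at h3 ⊢; exact spor_IsM11 p hp hodd h3
    · rw [h] at h3 ⊢; exact spor_IsM12 p hp hodd h3
    · rw [h] at h3 ⊢; exact spor_IsM22 p hp hodd h3
    · rw [h] at h3 ⊢; exact spor_IsM23 p hp hodd h3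
    · rw [h] at h3 ⊢; exact spor_IsM24 p hp hodd h3
    · rw [h] at h3 ⊢; exact spor_IsJ1 p hp hodd h3
    · rw [h] at h3 ⊢; exact spor_IsJ2 p hp hodd h3
    · rw [h] at h3 ⊢; exact spor_IsJ3 p hp hodd h3
    · rw [h] at h3 ⊢; exact spor_IsJ4 p hp hodd h3
    · rw [h] at h3 ⊢; exact spor_IsCo1 p hp hodd h3
    · rw [h] at h3 ⊢; exact spor_IsCo2 p hp hodd h3
    · rw [h] at h3 ⊢; exact spor_IsCo3 p hp hodd h3
    · rw [h] at h3 ⊢; exact spor_IsFi22 p hp hodd h3
    · rw [h] at h3 ⊢; exact spor_IsFi23 p hp hodd h3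
    · rw [h] at h3 ⊢; exact spor_IsFi24p p hp hodd h3
    · rw [h] at h3 ⊢; exact spor_IsHS p hp hodd h3
    · rw [h] at h3 ⊢; exact spor_IsMcL p hp hodd h3
    · rw [h] at h3 ⊢; exact spor_IsHe p hp hodd h3
    · rw [h] at h3 ⊢; exact spor_IsRu p hp hodd h3
    · rw [h] at h3 ⊢; exact spor_IsSuz p hp hodd h3
    · rw [h] at h3 ⊢; exact spor_IsON p hp hodd h3
    · rw [h] at h3 ⊢; exact spor_IsHN p hp hodd h3
    · rw [h] at h3 ⊢; exact spor_IsLy p hp hodd h3
    · rw [h] at h3 ⊢; exact spor_IsTh p hp hodd h3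
    · rw [h] at h3 ⊢; exact spor_IsB p hp hodd h3
    · rw [h] at h3 ⊢; exact spor_IsM p hp hodd h3

end Cfsg.Agent.S2367
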