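import Cfsg.Statements.S2368
import Mathlib
-- import your own Cfsg.Agent.* helpers here

set_option autoImplicit false
open Cfsg

namespace Cfsg.Agent.S2368

theorem nilp_pow_card {F : Type*} [Field F] {m : ℕ} (N : Matrix (Fin m) (Fin m) F)
    (h : IsNilpotent N) : N ^ m = 0 := by
  have h1 := Matrix.isNilpotent_charpoly_sub_pow_of_isNilpotent h
  have h2 : N.charpoly - Polynomial.X ^ (Fintype.card (Fin m)) = 0 := h1.eq_zero
  have h3 : N.charpoly = Polynomial.X ^ m := by
    rw [sub_eq_zero] at h2; simpa using h2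
  have h4 := Matrix.aeval_self_charpoly N
  rw [h3] at h4
  simpa using h4

/-- the shift matrix -/
def shiftMat (F : Type*) [Field F] (m : ℕ) : Matrix (Fin m) (Fin m) F :=
  Matrix.of fun i j => if i.val + 1 = j.val then 1 else 0

theorem shiftMat_apply {F : Type*} [Field F] (m : ℕ) (i j : Fin m) :
    shiftMat F m i j = if i.val + 1 = j.val then 1 else 0 := rfl

theorem shiftMat_pow {F : Type*} [Field F] (m : ℕ) (e : ℕ) (i j : Fin m) :
    (shiftMat F m ^ e) i j = if i.val + e = j.val then 1 else 0 := by
  induction e generalizing i j with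
  | zero =>
    simp [Matrix.one_apply, Fin.ext_iff]
  | succ e ih =>
    rw [pow_succ, Matrix.mul_apply]
    simp_rw [ih, shiftMat_apply]
    by_cases h : i.val + (e + 1) = j.val
    · rw [if_pos h]
      have hk : i.val + e < m := by have := j.isLt; omega
      rw [Finset.sum_eq_single (⟨i.val + e, hk⟩ : Fin m)]
      · have : i.val + e + 1 = j.val := by omega
        simp [this]
      · intro b _ hb
        have : b.val ≠ i.val + e := fun h' => hb (Fin.ext h')
        have h1 : ¬ (i.val + e = b.val) := fun h' => this h'.symm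
        simp [h1]
      · simp
    · rw [if_neg h]
      apply Finset.sum_eq_zero
      intro b _
      by_cases h1 : i.val + e = b.val
      · have : ¬ (b.val + 1 = j.val) := by omega
        simp [this]
      · simp [h1]

theorem shiftMat_pow_eq_zero {F : Type*} [Field F] (m e : ℕ) (h : m ≤ e) : shiftMat F m ^ e = 0 := by
  ext i j
  rw [shiftMat_pow]
  have : ¬ (i.val + e = j.val) := by have := j.isLt; omega
  simp [this]

theorem shiftMat_pow_ne_zero {F : Type*} [Field F] (m e : ℕ) (h : e < m) : shiftMat F m ^ e ≠ 0 := by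
  intro h0
  have h1 := shiftMat_pow (F := F) m e ⟨0, by omega⟩ ⟨e, h⟩
  rw [h0] at h1
  simp at h1

/-- Let F be a finite field of characteristic p and m ≥ 1. Every element of GL(m, F) of p-power order has order less than p·m, and GL(m, F) has an element of p-power order at least m; so the largest order of a p-element of GL(m, F) is the least power of p that is at least m. -/
theorem result {F : Type*} [Field F] [Fintype F] (p : ℕ) [Fact p.Prime] [CharP F p] (m : ℕ) (hm : 1 ≤ m) :
    (∀ g : Matrix.GeneralLinearGroup (Fin m) F, (∃ j : ℕ, orderOf g = p ^ j) → orderOf g < p * m) ∧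
      ∃ g : Matrix.GeneralLinearGroup (Fin m) F, (∃ j : ℕ, orderOf g = p ^ j) ∧ m ≤ orderOf g := by
  have hp : p.Prime := Fact.out
  have : CharP (Matrix (Fin m) (Fin m) F) p := by
    have : Nonempty (Fin m) := ⟨⟨0, by omega⟩⟩
    exact Matrix.charP p
  -- k with p^k ≥ m, and p^k < p * m
  obtain ⟨k, hk1, hk2⟩ : ∃ k : ℕ, m ≤ p ^ k ∧ p ^ k < p * m := by
    refine ⟨Nat.clog p m, Nat.le_pow_clog hp.one_lt m, ?_⟩
    by_cases h0 : Nat.clog p m = 0
    · rw [h0, pow_zero]
      have := hp.two_le
      nlinarith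
    · obtain ⟨c, hc⟩ := Nat.exists_eq_succ_of_ne_zero h0
      have h1 : p ^ c < m := by
        have := Nat.pow_pred_clog_lt_self hp.one_lt (show 1 < m by
          by_contra hcon
          have : m = 1 := by omega
          rw [this] at h0
          exact h0 (Nat.clog_one_right p))
        rw [hc] at this
        simpa using this
      rw [hc, pow_succ, mul_comm]
      exact Nat.mul_lt_mul_of_pos_left h1 hp.pos
  constructor
  · rintro g ⟨j, hj⟩
    have h1 : (g : Matrix (Fin m) (Fin m) F) ^ p ^ j = 1 := by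
      have : g ^ p ^ j = 1 := by rw [← hj]; exact pow_orderOf_eq_one g
      have h2 := congrArg (fun u : Matrix.GeneralLinearGroup (Fin m) F => (u : Matrix (Fin m) (Fin m) F)) this
      simpa using h2
    have h2 : ((g : Matrix (Fin m) (Fin m) F) - 1) ^ p ^ j = 0 := by
      rw [sub_pow_char_pow_of_commute _ _ (Commute.one_right _), h1, one_pow, sub_self]
    have h3 : ((g : Matrix (Fin m) (Fin m) F) - 1) ^ m = 0 := nilp_pow_card _ ⟨_, h2⟩
    have h4 : ((g : Matrix (Fin m) (Fin m) F) - 1) ^ p ^ k = 0 := by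
      rw [← Nat.sub_add_cancel hk1, pow_add, h3, mul_zero]
    have h5 : (g : Matrix (Fin m) (Fin m) F) ^ p ^ k = 1 := by
      rw [sub_pow_char_pow_of_commute _ _ (Commute.one_right _), one_pow, sub_eq_zero] at h4
      exact h4
    have h6 : g ^ p ^ k = 1 := by
      apply Units.ext
      simpa using h5
    have h7 : orderOf g ∣ p ^ k := orderOf_dvd_of_pow_eq_one h6
    exact lt_of_le_of_lt (Nat.le_of_dvd (pow_pos hp.pos k) h7) hk2
  · have hnil : IsNilpotent (shiftMat F m) := ⟨m, shiftMat_pow_eq_zero m m le_rfl⟩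
    let u : (Matrix (Fin m) (Fin m) F)ˣ := (IsNilpotent.isUnit_one_add hnil).unit
    have hu : (u : Matrix (Fin m) (Fin m) F) = 1 + shiftMat F m := rfl
    have hupow : ∀ e : ℕ, ((u ^ p ^ e : (Matrix (Fin m) (Fin m) F)ˣ) : Matrix (Fin m) (Fin m) F)
        = 1 + shiftMat F m ^ p ^ e := by
      intro e
      rw [Units.val_pow_eq_pow_val, hu, add_pow_char_pow_of_commute _ _ (Commute.one_left _), one_pow]
    have h1 : u ^ p ^ k = 1 := by
      apply Units.ext
      rw [hupow, shiftMat_pow_eq_zero m _ hk1]
      simp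
    obtain ⟨j, hjk, hj⟩ := (Nat.dvd_prime_pow hp).1 (orderOf_dvd_of_pow_eq_one h1)
    refine ⟨u, ⟨j, hj⟩, ?_⟩
    by_contra hlt
    rw [not_le] at hlt
    have h2 : u ^ p ^ j = 1 := by rw [← hj]; exact pow_orderOf_eq_one u
    have h3 := hupow j
    rw [h2] at h3
    have h4 : shiftMat F m ^ p ^ j = 0 := by
      have : (1 : Matrix (Fin m) (Fin m) F) = 1 + shiftMat F m ^ p ^ j := by simpa using h3
      simpa using this.symm
    rw [hj] at hlt
    exact shiftMat_pow_ne_zero m _ hlt h4

end Cfsg.Agent.S2368
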