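import Cfsg.Statements.S2369
import Cfsg.Agent.Lib.Helper18.Inv2F4.Main
import Cfsg.Agent.Lib.Helper69.C2F4.Z69
import Cfsg.Agent.Lib.Helper69.C2F4.Conj69
import Cfsg.Agent.Lib.Helper89.C2F4T
import Cfsg.Agent.Lib.Helper74.C2F4Arith

set_option autoImplicit false
open Cfsg

namespace Cfsg.Agent.S2369

open Cfsg.Lie Cfsg.Agent.Lib.Helper18 Cfsg.Agent.Lib.Helper91.ReeF4 Cfsg.Agent.Lib.Helper18.F4T
open Cfsg.Agent.Lib.Helper69.C2F4

/-- An element of `F₄(K)` commuting with `z` or `t` has order dividing the order of the parabolic. -/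
theorem order_dvd_aux {K : Type*} [Field K] [Fintype K] [CharP K 2] (y : GL chevF4.Idx K)
    (hy : y ∈ chevF4.group K)
    (h : y * (xG hD4 44 1 * xG hD4 47 1) = (xG hD4 44 1 * xG hD4 47 1) * y ∨
      y * (xG hD4 39 1 * xG hD4 45 1) = (xG hD4 39 1 * xG hD4 45 1) * y) :
    orderOf y ∣ Fintype.card K ^ 24 * (Fintype.card K - 1) ^ 4
      * ((1 + Fintype.card K) ^ 2 * (1 + Fintype.card K ^ 2)) := by
  rcases h with h | h
  · have hm := cent_z_le_h69 (K := K) 1 1 one_ne_zero one_ne_zero y hy h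
    have h1 : orderOf (⟨y, hm⟩ : ↥(MA K AZ)) ∣ Nat.card ↥(MA K AZ) := orderOf_dvd_natCard _
    rw [card_MZ_h69] at h1
    have h2 : orderOf (⟨y, hm⟩ : ↥(MA K AZ)) = orderOf y := by
      rw [← Subgroup.orderOf_coe]
    rw [← h2]
    exact h1
  · have hm := Cfsg.Agent.Lib.Helper89.C2F4.cent_t_le_h89 (K := K) 1 1 one_ne_zero one_ne_zero y hy h
    have h1 : orderOf (⟨y, hm⟩ : ↥(MA K AT)) ∣ Nat.card ↥(MA K AT) := orderOf_dvd_natCard _
    rw [card_MT_h69] at h1
    have h2 : orderOf (⟨y, hm⟩ : ↥(MA K AT)) = orderOf y := by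
      rw [← Subgroup.orderOf_coe]
    rw [← h2]
    refine dvd_trans h1 ?_
    exact mul_dvd_mul_left _ (dvd_mul_right _ _)

theorem orderOf_conj' {G : Type*} [Group G] (g x : G) : orderOf (g * x * g⁻¹) = orderOf x := by
  have : g * x * g⁻¹ = MulAut.conj g x := rfl
  rw [this, MulEquiv.orderOf_eq]

/-- Let q = 2^(2m+1) with m ≥ 1 and let a, b be commuting elements of the large Ree group ²F₄(q) with a an involution. Then every prime divisor of the order of b divides q(q⁴ − 1). -/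
theorem result {K : Type*} [Field K] [Fintype K] (m : ℕ) (hm : 1 ≤ m) (hK : Fintype.card K = 2 ^ (2 * m + 1))
    (a b : ↥(Cfsg.Lie.twistedF4 K (2 ^ m))) (ha : orderOf a = 2) (hab : Commute a b) :
    (orderOf b).primeFactors ⊆ (2 ^ (2 * m + 1) * ((2 ^ (2 * m + 1)) ^ 4 - 1)).primeFactors := by
  have : CharP K 2 := charP_two_of_card hK
  have hGle := Cfsg.Agent.Lib.Helper91.ReeF4.twistedF4_le_group K (2 ^ m)
  -- the involution in `GL`
  have ha2 : (a : GL chevF4.Idx K) * (a : GL chevF4.Idx K) = 1 := by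
    have h1 : a ^ 2 = 1 := by
      have := pow_orderOf_eq_one a
      rwa [ha] at this
    have h2 : ((a ^ 2 : ↥(twistedF4 K (2 ^ m))) : GL chevF4.Idx K) = 1 := by rw [h1]; rfl
    rw [← h2, pow_two]
    rfl
  have ha1 : (a : GL chevF4.Idx K) ≠ 1 := by
    intro h
    have : a = 1 := Subtype.ext h
    rw [this, orderOf_one] at ha
    exact absurd ha (by norm_num)
  have hcomm : (a : GL chevF4.Idx K) * (b : GL chevF4.Idx K) = (b : GL chevF4.Idx K) * (a : GL chevF4.Idx K) :=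
    congrArg Subtype.val hab.eq
  obtain ⟨g, hg, hga⟩ := Cfsg.Agent.Lib.Helper18.Inv2F4.involution_conj K m hK (a : GL chevF4.Idx K) a.2 ha2 ha1
  -- the key divisibility
  have hdvd : orderOf b ∣ Fintype.card K ^ 24 * (Fintype.card K - 1) ^ 4
      * ((1 + Fintype.card K) ^ 2 * (1 + Fintype.card K ^ 2)) := by
    have hbG : (b : GL chevF4.Idx K) ∈ chevF4.group K := hGle b.2
    have hgG : g ∈ chevF4.group K := hGle hg
    have hob : orderOf b = orderOf (b : GL chevF4.Idx K) := (Subgroup.orderOf_coe b).symm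
    rw [hob]
    -- `b' = g b g⁻¹` commutes with `g a g⁻¹`
    have hc' : (g * (b : GL chevF4.Idx K) * g⁻¹) * (g * (a : GL chevF4.Idx K) * g⁻¹)
        = (g * (a : GL chevF4.Idx K) * g⁻¹) * (g * (b : GL chevF4.Idx K) * g⁻¹) := by
      have e1 : (g * (b : GL chevF4.Idx K) * g⁻¹) * (g * (a : GL chevF4.Idx K) * g⁻¹)
          = g * ((b : GL chevF4.Idx K) * (a : GL chevF4.Idx K)) * g⁻¹ := by group
      have e2 : (g * (a : GL chevF4.Idx K) * g⁻¹) * (g * (b : GL chevF4.Idx K) * g⁻¹)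
          = g * ((a : GL chevF4.Idx K) * (b : GL chevF4.Idx K)) * g⁻¹ := by group
      rw [e1, e2, hcomm]
    have key : ∀ (n z z' : GL chevF4.Idx K), n ∈ chevF4.group K → n * z * n⁻¹ = z' →
        g * (a : GL chevF4.Idx K) * g⁻¹ = z →
        (n * (g * (b : GL chevF4.Idx K) * g⁻¹) * n⁻¹) * z' = z' * (n * (g * (b : GL chevF4.Idx K) * g⁻¹) * n⁻¹) := by
      intro n z z' _ hz hgz
      rw [← hz, ← hgz]
      have e1 : n * (g * (b : GL chevF4.Idx K) * g⁻¹) * n⁻¹ * (n * (g * (a : GL chevF4.Idx K) * g⁻¹) * n⁻¹)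
          = n * ((g * (b : GL chevF4.Idx K) * g⁻¹) * (g * (a : GL chevF4.Idx K) * g⁻¹)) * n⁻¹ := by group
      have e2 : n * (g * (a : GL chevF4.Idx K) * g⁻¹) * n⁻¹ * (n * (g * (b : GL chevF4.Idx K) * g⁻¹) * n⁻¹)
          = n * ((g * (a : GL chevF4.Idx K) * g⁻¹) * (g * (b : GL chevF4.Idx K) * g⁻¹)) * n⁻¹ := by group
      rw [e1, e2, hc']
    obtain ⟨-, hNG, -⟩ := Cfsg.Agent.S1043.result (F := K) chevF4 hD4
    rcases hga with hz | ht
    · set n := nW (F := K) hD4 chevData_F4 [3, 2, 0, 1, 2, 3, 1, 0] with hn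
      have hnG : n ∈ chevF4.group K := hNG (nW_mem_monomial hD4 chevData_F4 _)
      have h1 := key n _ _ hnG conj_z0_h69 hz
      have hyG : n * (g * (b : GL chevF4.Idx K) * g⁻¹) * n⁻¹ ∈ chevF4.group K :=
        mul_mem (mul_mem hnG (mul_mem (mul_mem hgG hbG) (inv_mem hgG))) (inv_mem hnG)
      have := order_dvd_aux _ hyG (Or.inl h1)
      rwa [orderOf_conj', orderOf_conj'] at this
    · set n := nW (F := K) hD4 chevData_F4 [2, 1, 2, 3, 1, 2, 0, 1, 2, 1] with hn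
      have hnG : n ∈ chevF4.group K := hNG (nW_mem_monomial hD4 chevData_F4 _)
      have h1 := key n _ _ hnG conj_t0_h69 ht
      have hyG : n * (g * (b : GL chevF4.Idx K) * g⁻¹) * n⁻¹ ∈ chevF4.group K :=
        mul_mem (mul_mem hnG (mul_mem (mul_mem hgG hbG) (inv_mem hgG))) (inv_mem hnG)
      have := order_dvd_aux _ hyG (Or.inr h1)
      rwa [orderOf_conj', orderOf_conj'] at this
  -- arithmetic
  intro p hp
  rw [Nat.mem_primeFactors] at hp ⊢
  obtain ⟨hpp, hpb, -⟩ := hp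
  have h1 := Cfsg.Agent.Lib.Helper74.C2F4Arith.prime_dvd_arith m p hpp (Fintype.card K) hK (dvd_trans hpb hdvd)
  rw [hK] at h1
  refine ⟨hpp, h1, ?_⟩
  have h2 : 2 ≤ 2 ^ (2 * m + 1) := by
    calc 2 = 2 ^ 1 := by norm_num
      _ ≤ 2 ^ (2 * m + 1) := Nat.pow_le_pow_right (by norm_num) (by omega)
  have h3 : 2 ^ 4 ≤ (2 ^ (2 * m + 1)) ^ 4 := Nat.pow_le_pow_left h2 4
  have h4 : 0 < (2 ^ (2 * m + 1)) ^ 4 - 1 := by omega
  positivity

end Cfsg.Agent.S2369
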