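import Cfsg.Statements.S2370
-- import your own Cfsg.Agent.* helpers here
import Cfsg.Agent.S2326
import Cfsg.Agent.S1043
import Cfsg.Agent.Lib.Helper61.ChevJ.Depth

set_option autoImplicit false
open Cfsg

namespace Cfsg.Agent.S2370

open Cfsg.Lie Cfsg.Agent.Lib.Helper61.ChevJ Cfsg.Agent.Lib.Helper18 Matrix

universe u

/-- The heights of the 48 roots of `F₄` lie between `-11` and `11` (table check). -/
def htOK : Bool :=
  (List.range 48).all fun r =>
    decide ((-11 : ℤ) ≤ rcAt rcT_F4 4 r 0 + rcAt rcT_F4 4 r 1 + rcAt rcT_F4 4 r 2 + rcAt rcT_F4 4 r 3) &&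
      decide (rcAt rcT_F4 4 r 0 + rcAt rcT_F4 4 r 1 + rcAt rcT_F4 4 r 2 + rcAt rcT_F4 4 r 3 ≤ (11 : ℤ))

theorem htOK_true : htOK = true := by decide +kernel

theorem ht_bound (r : ℕ) (hr : r < 48) :
    (-11 : ℤ) ≤ rcAt rcT_F4 4 r 0 + rcAt rcT_F4 4 r 1 + rcAt rcT_F4 4 r 2 + rcAt rcT_F4 4 r 3 ∧
      rcAt rcT_F4 4 r 0 + rcAt rcT_F4 4 r 1 + rcAt rcT_F4 4 r 2 + rcAt rcT_F4 4 r 3 ≤ (11 : ℤ) := by
  have h := htOK_true
  unfold htOK at h
  rw [List.all_eq_true] at h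
  have h1 := h r (List.mem_range.2 hr)
  simpa only [Bool.and_eq_true, decide_eq_true_eq] using h1

theorem hF4 : chevF4 ∈ [chevG2, chevB2, chevD4, chevF4, chevE6, chevE7, chevE8] := by
  simp

theorem lvlR_bound (r : ℕ) (hr : r < 48) :
    (-11 : ℤ) ≤ (jData_F4.{u}).lvlR ∅ r ∧ (jData_F4.{u}).lvlR ∅ r ≤ 11 := by
  have e : (jData_F4.{u}).lvlR ∅ r =
      rcAt rcT_F4 4 r 0 + rcAt rcT_F4 4 r 1 + rcAt rcT_F4 4 r 2 + rcAt rcT_F4 4 r 3 := by
    unfold JData.lvlR
    have h4 : chevF4.rank = 4 := rfl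
    have hr4 : (jData_F4.{u}).C.T.rank = 4 := by
      rw [(jData_F4.{u}).C.rank_eq]
      rfl
    have hrc : (jData_F4.{u}).rcT = rcT_F4 := rfl
    rw [h4, hr4, hrc]
    rw [Finset.sum_filter]
    simp only [Set.mem_empty_iff_false, not_false_eq_true, if_true, Finset.sum_range_succ,
      Finset.sum_range_zero, zero_add]
  rw [e]
  exact ht_bound r hr

theorem lvl_bound (a : chevF4.Idx) :
    (-11 : ℤ) ≤ (jData_F4.{u}).lvl ∅ a ∧ (jData_F4.{u}).lvl ∅ a ≤ 11 := by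
  rcases a with i | j
  · rw [JData.lvl_inl]
    constructor <;> norm_num
  · rw [JData.lvl_inr]
    exact lvlR_bound j.val j.isLt

variable {F : Type u} [Field F]

/-- Elements of `U` of `F₄(F)`: `(u - 1)^23 = 0`, the height grading having `23` levels. -/
theorem sub_one_pow_eq_zero (g : GL chevF4.Idx F) (hg : g ∈ chevF4.posUnipotent F) :
    ((g : Matrix chevF4.Idx chevF4.Idx F) - 1) ^ 23 = 0 := by
  have X := jData_F4.{u}
  have h1 := (jData_F4.{u}).isSUd_of_mem_posUnipotent hF4 g hg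
  have key : ∀ k : ℕ, (jData_F4.{u}).IsSUd ∅ ((k : ℤ) + 1)
      (((g : Matrix chevF4.Idx chevF4.Idx F) - 1) ^ (k + 1)) := by
    intro k
    induction k with
    | zero => simpa using h1
    | succ k ih =>
      rw [pow_succ]
      have := (jData_F4.{u}).isSUd_mul ∅ _ _ _ _ ih h1
      push_cast
      exact this
  have h23 := key 22
  ext a b
  rw [Matrix.zero_apply]
  apply h23 a b
  have ha := (lvl_bound.{u} a).2
  have hb := (lvl_bound.{u} b).1
  push_cast
  linarith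

instance : Nonempty chevF4.Idx := ⟨Sum.inl ⟨0, by decide⟩⟩

/-- In characteristic `2` the elements of `U` have order dividing `32`. -/
theorem pow_32_eq_one [CharP F 2] (g : GL chevF4.Idx F) (hg : g ∈ chevF4.posUnipotent F) :
    g ^ 32 = 1 := by
  have h0 := sub_one_pow_eq_zero g hg
  have h32 : ((g : Matrix chevF4.Idx chevF4.Idx F) - 1) ^ 32 = 0 := by
    rw [show 32 = 23 + 9 from rfl, pow_add, h0, zero_mul]
  have : Fact (Nat.Prime 2) := ⟨Nat.prime_two⟩
  have h2 := sub_pow_char_pow_of_commute (R := Matrix chevF4.Idx chevF4.Idx F) 2 5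
    (Commute.one_right (g : Matrix chevF4.Idx chevF4.Idx F))
  rw [show (2 : ℕ) ^ 5 = 32 from rfl, h32, one_pow] at h2
  apply Units.ext
  rw [Units.val_pow_eq_pow_val, Units.val_one]
  exact (sub_eq_zero.mp h2.symm)

theorem twisted_le_group (e : ℕ) : twistedF4 F e ≤ chevF4.group F := by
  unfold twistedF4 ChevalleyDatum.genSubgroup
  rw [Subgroup.closure_le]
  rintro g ⟨w, -, hg⟩
  exact Cfsg.Agent.S1043.mem_group_of_wordMat chevF4 hF4 w g hg

/-- Every `2`-element of `F₄(F)`, `F` finite of characteristic `2`, has order dividing `32`. -/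
theorem pow_32_of_two_element [Fintype F] [CharP F 2] (y : chevF4.group F) (j : ℕ)
    (hy : y ^ 2 ^ j = 1) : y ^ 32 = 1 := by
  classical
  have : Fact (Nat.Prime 2) := ⟨Nat.prime_two⟩
  obtain ⟨P, hP⟩ := Cfsg.Agent.S2326.result (F := F) 2 chevF4 hF4
  have hpg : IsPGroup 2 (Subgroup.zpowers y) := by
    rintro ⟨z, hz⟩
    obtain ⟨k, rfl⟩ := Subgroup.mem_zpowers_iff.mp hz
    refine ⟨j, Subtype.ext ?_⟩
    rw [Subgroup.coe_pow, Subgroup.coe_one]
    show (y ^ k) ^ 2 ^ j = 1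
    rw [← zpow_natCast, ← _root_.zpow_mul, mul_comm, _root_.zpow_mul, zpow_natCast, hy, _root_.one_zpow]
  obtain ⟨Q, hQ⟩ := hpg.exists_le_sylow
  obtain ⟨g, hgQ⟩ := MulAction.exists_smul_eq (chevF4.group F) Q P
  have hyQ : y ∈ (Q : Subgroup (chevF4.group F)) := hQ (Subgroup.mem_zpowers y)
  have hyP : g * y * g⁻¹ ∈ (P : Subgroup (chevF4.group F)) := by
    rw [← hgQ, Sylow.coe_subgroup_smul]
    exact ⟨y, hyQ, rfl⟩
  rw [hP, Subgroup.mem_subgroupOf] at hyP
  have h1 := pow_32_eq_one _ hyP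
  have h2 : (g * y * g⁻¹) ^ 32 = 1 := by
    apply Subtype.ext
    rw [Subgroup.coe_pow, Subgroup.coe_one]
    exact h1
  rw [conj_pow] at h2
  have h3 : y ^ 32 = g⁻¹ * (g * y ^ 32 * g⁻¹) * g := by group
  rw [h3, h2]
  group

/-- Let q = 2^(2m+1) with m ≥ 1. Every element of 2-power order of the large Ree group ²F₄(q) has order at most 32. -/
theorem result {K : Type*} [Field K] [Fintype K] (m : ℕ) (hm : 1 ≤ m) (hK : Fintype.card K = 2 ^ (2 * m + 1))
    (x : ↥(Cfsg.Lie.twistedF4 K (2 ^ m))) (hx : ∃ j : ℕ, orderOf x = 2 ^ j) : orderOf x ≤ 32 := by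
  obtain ⟨j, hj⟩ := hx
  -- the characteristic is 2
  obtain ⟨p, hp⟩ := CharP.exists K
  obtain ⟨n, hpp, hn⟩ := FiniteField.card K p
  have hp2 : p = 2 := by
    have h1 : p ∣ 2 ^ (2 * m + 1) := by
      rw [← hK, hn]
      exact dvd_pow_self p n.pos.ne'
    exact (Nat.prime_dvd_prime_iff_eq hpp Nat.prime_two).mp (hpp.dvd_of_dvd_pow h1)
  subst hp2
  have hxG : (x : GL chevF4.Idx K) ∈ chevF4.group K := twisted_le_group (2 ^ m) x.2
  have hy : (⟨(x : GL chevF4.Idx K), hxG⟩ : chevF4.group K) ^ 2 ^ j = 1 := by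
    apply Subtype.ext
    rw [Subgroup.coe_pow, Subgroup.coe_one]
    show (x : GL chevF4.Idx K) ^ 2 ^ j = 1
    rw [← Subgroup.coe_pow, ← hj, pow_orderOf_eq_one, Subgroup.coe_one]
  have h32 := pow_32_of_two_element _ j hy
  have hx32 : x ^ 32 = 1 := by
    apply Subtype.ext
    rw [Subgroup.coe_pow, Subgroup.coe_one]
    have := congrArg Subtype.val h32
    rw [Subgroup.coe_pow, Subgroup.coe_one] at this
    exact this
  exact Nat.le_of_dvd (by norm_num) (orderOf_dvd_of_pow_eq_one hx32)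

end Cfsg.Agent.S2370
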