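import Cfsg.Statements.S2569
import Cfsg.Agent.Lib.Helper43.SemisimpleCentralizerDet

set_option autoImplicit false
open Cfsg

namespace Cfsg.Agent.S2569

/-- In GL_n over a finite field of characteristic p, the conjugacy class of a semisimple element (an element of order prime to p) under the special linear group is its whole GL-conjugacy class: for every such x and every invertible g there is h of determinant one with h x h⁻¹ = g x g⁻¹. -/
theorem result {F : Type*} [Field F] [Fintype F] {p : ℕ} [Fact p.Prime] [CharP F p] {n : ℕ} (x g : GL (Fin n) F) (hx : (orderOf x).Coprime p) : ∃ h : GL (Fin n) F, (h : Matrix (Fin n) (Fin n) F).det = 1 ∧ h * x * h⁻¹ = g * x * g⁻¹ := by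
  classical
  rcases Nat.eq_zero_or_pos n with hn | hn
  · subst hn
    exact ⟨g, Matrix.det_isEmpty, rfl⟩
  have : NeZero n := ⟨hn.ne'⟩
  have hp : p.Prime := Fact.out
  set k := orderOf x with hk
  have hkpos : 0 < k := orderOf_pos x
  have hkF : (k : F) ≠ 0 := by
    intro h0
    rw [CharP.cast_eq_zero_iff F p k] at h0
    have := Nat.Coprime.eq_one_of_dvd hx.symm h0
    exact hp.one_lt.ne' this
  -- semisimplicity
  let φ : Module.End F (Fin n → F) := Matrix.toLin' (x : Matrix (Fin n) (Fin n) F)
  have hxk : (x : Matrix (Fin n) (Fin n) F) ^ k = 1 := by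
    have h1 : x ^ k = 1 := pow_orderOf_eq_one x
    have := congrArg (fun y : GL (Fin n) F => (y : Matrix (Fin n) (Fin n) F)) h1
    simpa using this
  have hφk : φ ^ k = 1 := by
    have : φ = Matrix.toLinAlgEquiv' (x : Matrix (Fin n) (Fin n) F) := rfl
    rw [this, ← map_pow, hxk, map_one]
  have hss : φ.IsSemisimple := by
    apply Module.End.isSemisimple_of_squarefree_aeval_eq_zero (p := Polynomial.X ^ k - Polynomial.C 1)
    · exact (Polynomial.separable_X_pow_sub_C (1 : F) hkF one_ne_zero).squarefree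
    · simp [hφk]
  have hg : (g : Matrix (Fin n) (Fin n) F).det ≠ 0 := by
    have := Matrix.GeneralLinearGroup.det_ne_zero g
    exact this
  obtain ⟨ψ, hψc, hψd⟩ := Cfsg.Agent.Lib.Helper43.exists_commute_det_eq φ hss
    ((g : Matrix (Fin n) (Fin n) F).det)⁻¹
  let Z : Matrix (Fin n) (Fin n) F := LinearMap.toMatrix' ψ
  have hZd : Z.det = ((g : Matrix (Fin n) (Fin n) F).det)⁻¹ := by
    rw [← hψd]; exact LinearMap.det_toMatrix' ψ
  have hZx : Z * (x : Matrix (Fin n) (Fin n) F) = (x : Matrix (Fin n) (Fin n) F) * Z := by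
    have h1 := congrArg LinearMap.toMatrix' hψc
    rw [LinearMap.toMatrix'_comp, LinearMap.toMatrix'_comp] at h1
    simpa [φ] using h1
  have hZ0 : Z.det ≠ 0 := by rw [hZd]; exact inv_ne_zero hg
  let z : GL (Fin n) F := Matrix.GeneralLinearGroup.mkOfDetNeZero Z hZ0
  have hzx : z * x = x * z := by
    apply Units.ext
    exact hZx
  refine ⟨g * z, ?_, ?_⟩
  · show ((g : Matrix (Fin n) (Fin n) F) * Z).det = 1
    rw [Matrix.det_mul, hZd, mul_inv_cancel₀ hg]
  · rw [mul_inv_rev, mul_assoc g z x, hzx]
    group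

end Cfsg.Agent.S2569
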