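import Cfsg.Statements.S2388
import Cfsg.Agent.Lib.Helper40.SemisimpleGL
import Cfsg.Agent.S2569

set_option autoImplicit false
open Cfsg

namespace Cfsg.Agent.S2388

/-- An element of `SL_n(F)` of order prime to the characteristic is semisimple. -/
theorem isSemisimple_of_coprime {F : Type*} [Field F] [Fintype F] (p : ℕ) [Fact p.Prime] [CharP F p]
    (n : ℕ) (g : Matrix.SpecialLinearGroup (Fin n) F) (hg : (orderOf g).Coprime p) :
    Module.End.IsSemisimple (Matrix.toLin' (g : Matrix (Fin n) (Fin n) F)) := by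
  have hp : p.Prime := Fact.out
  apply Cfsg.Agent.Lib.Helper40.isSemisimple_toLin'_of_pow_eq_one _ (orderOf g)
  · intro h0
    rw [CharP.cast_eq_zero_iff F p] at h0
    exact hp.one_lt.ne' (Nat.Coprime.eq_one_of_dvd hg.symm h0)
  · have h1 : g ^ orderOf g = 1 := pow_orderOf_eq_one g
    have h2 : ((g ^ orderOf g : Matrix.SpecialLinearGroup (Fin n) F) : Matrix (Fin n) (Fin n) F) = 1 := by
      rw [h1]; rfl
    rwa [Matrix.SpecialLinearGroup.coe_pow] at h2

/-- In `SL_n(q)`, `q` a power of the prime `p`, two elements of order prime to `p` with the same characteristic polynomial are conjugate in `SL_n(q)` (not merely in `GL_n`). -/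
theorem result {F : Type*} [Field F] [Fintype F] (p : ℕ) [Fact p.Prime] [CharP F p] (n : ℕ)
    (g h : Matrix.SpecialLinearGroup (Fin n) F) (hg : (orderOf g).Coprime p) (hh : (orderOf h).Coprime p)
    (hc : (g : Matrix (Fin n) (Fin n) F).charpoly = (h : Matrix (Fin n) (Fin n) F).charpoly) : IsConj g h := by
  classical
  obtain ⟨P, hP⟩ := Cfsg.Agent.Lib.Helper40.exists_gl_conj_of_charpoly_eq
    (g : Matrix (Fin n) (Fin n) F) (h : Matrix (Fin n) (Fin n) F)
    (isSemisimple_of_coprime p n g hg) (isSemisimple_of_coprime p n h hh) hc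
  -- pass to `GL`
  let x : GL (Fin n) F := Matrix.SpecialLinearGroup.toGL g
  let y : GL (Fin n) F := Matrix.SpecialLinearGroup.toGL h
  have hxo : (orderOf x).Coprime p := by
    have : orderOf x = orderOf g :=
      orderOf_injective (Matrix.SpecialLinearGroup.toGL (n := Fin n) (R := F))
        Matrix.SpecialLinearGroup.toGL_injective g
    rw [this]; exact hg
  have hPx : P * x * P⁻¹ = y := by
    rw [mul_inv_eq_iff_eq_mul]
    apply Units.ext
    exact hP
  obtain ⟨c, hcdet, hcx⟩ := Cfsg.Agent.S2569.result (p := p) x P hxo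
  rw [hPx, mul_inv_eq_iff_eq_mul] at hcx
  rw [isConj_iff]
  obtain ⟨c', hc'⟩ : ∃ c' : Matrix.SpecialLinearGroup (Fin n) F,
      (c' : Matrix (Fin n) (Fin n) F) = (c : Matrix (Fin n) (Fin n) F) := ⟨⟨_, hcdet⟩, rfl⟩
  refine ⟨c', ?_⟩
  rw [mul_inv_eq_iff_eq_mul]
  apply Subtype.ext
  have := congrArg (fun z : GL (Fin n) F => (z : Matrix (Fin n) (Fin n) F)) hcx
  simpa [x, y, hc'] using this

end Cfsg.Agent.S2388
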