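import Cfsg.Statements.S2384
import Cfsg.Agent.Lib.Helper40.SemisimpleCount
import Cfsg.Agent.S2388

set_option autoImplicit false
open Cfsg

namespace Cfsg.Agent.S2384

open Polynomial Cfsg.Agent.Lib.Helper40

section
variable {F : Type*} [Field F] (k : ℕ)

/-- The characteristic polynomial of an element of `SL_{k+1}(F)`, as a monic polynomial of degree
`k+1` with constant coefficient `(-1)^(k+1)`. -/
noncomputable def cp (g : Matrix.SpecialLinearGroup (Fin (k + 1)) F) :
    {f : F[X] // f.Monic ∧ f.natDegree = k + 1 ∧ f.coeff 0 = (-1) ^ (k + 1)} :=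
  ⟨(g : Matrix (Fin (k + 1)) (Fin (k + 1)) F).charpoly, Matrix.charpoly_monic _, by
    rw [Matrix.charpoly_natDegree_eq_dim, Fintype.card_fin], by
    have h1 := Matrix.det_eq_sign_charpoly_coeff (g : Matrix (Fin (k + 1)) (Fin (k + 1)) F)
    rw [g.2, Fintype.card_fin] at h1
    have h2 : ((-1 : F) ^ (k + 1)) * ((-1 : F) ^ (k + 1)) = 1 := by
      rw [← mul_pow]; simp
    calc (g : Matrix (Fin (k + 1)) (Fin (k + 1)) F).charpoly.coeff 0
        = ((-1 : F) ^ (k + 1) * (-1 : F) ^ (k + 1)) *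
            (g : Matrix (Fin (k + 1)) (Fin (k + 1)) F).charpoly.coeff 0 := by rw [h2, one_mul]
      _ = (-1 : F) ^ (k + 1) * ((-1 : F) ^ (k + 1) *
            (g : Matrix (Fin (k + 1)) (Fin (k + 1)) F).charpoly.coeff 0) := by ring
      _ = (-1 : F) ^ (k + 1) := by rw [← h1, mul_one]⟩

theorem cp_eq_of_isConj (g g' : Matrix.SpecialLinearGroup (Fin (k + 1)) F) (h : IsConj g g') :
    cp k g = cp k g' := by
  rw [isConj_iff] at h
  obtain ⟨c, rfl⟩ := h
  apply Subtype.ext
  show (g : Matrix (Fin (k + 1)) (Fin (k + 1)) F).charpoly =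
    ((c * g * c⁻¹ : Matrix.SpecialLinearGroup (Fin (k + 1)) F) :
      Matrix (Fin (k + 1)) (Fin (k + 1)) F).charpoly
  have h1 : ((c * g * c⁻¹ : Matrix.SpecialLinearGroup (Fin (k + 1)) F) :
      Matrix (Fin (k + 1)) (Fin (k + 1)) F) =
      ((Matrix.SpecialLinearGroup.toGL c : GL (Fin (k + 1)) F) : Matrix (Fin (k + 1)) (Fin (k + 1)) F) *
        (g : Matrix (Fin (k + 1)) (Fin (k + 1)) F) *
        ((Matrix.SpecialLinearGroup.toGL c : GL (Fin (k + 1)) F) :
          Matrix (Fin (k + 1)) (Fin (k + 1)) F)⁻¹ := by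
    have h2 : ((c : Matrix (Fin (k + 1)) (Fin (k + 1)) F))⁻¹ =
        ((c⁻¹ : Matrix.SpecialLinearGroup (Fin (k + 1)) F) : Matrix (Fin (k + 1)) (Fin (k + 1)) F) := by
      rw [Matrix.SpecialLinearGroup.coe_inv, Matrix.inv_def, c.2]
      simp
    rw [Matrix.SpecialLinearGroup.coe_mul, Matrix.SpecialLinearGroup.coe_mul]
    show _ = (c : Matrix (Fin (k + 1)) (Fin (k + 1)) F) * _ *
      ((c : Matrix (Fin (k + 1)) (Fin (k + 1)) F))⁻¹
    rw [h2]
  rw [h1]
  exact (Matrix.charpoly_units_conj _ _).symm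

end

/-- `SL_n(q)`, `q` a power of the prime `p`, has exactly `q ^ (n - 1)` conjugacy classes of elements of order prime to `p`. -/
theorem result {F : Type*} [Field F] [Fintype F] {q : ℕ} (hq : Fintype.card F = q) (p : ℕ) [Fact p.Prime] [CharP F p] (n : ℕ) (hn : 1 ≤ n) :
    Nat.card {c : ConjClasses (Matrix.SpecialLinearGroup (Fin n) F) //
      ∃ g : Matrix.SpecialLinearGroup (Fin n) F, ConjClasses.mk g = c ∧ (orderOf g).Coprime p} = q ^ (n - 1) := by
  classical
  obtain ⟨k, rfl⟩ : ∃ k, n = k + 1 := ⟨n - 1, by omega⟩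
  subst hq
  rw [Nat.add_sub_cancel, ← card_monic_coeff_zero_eq k ((-1 : F) ^ (k + 1))]
  let Φ : {c : ConjClasses (Matrix.SpecialLinearGroup (Fin (k + 1)) F) //
      ∃ g : Matrix.SpecialLinearGroup (Fin (k + 1)) F, ConjClasses.mk g = c ∧ (orderOf g).Coprime p} →
      {f : F[X] // f.Monic ∧ f.natDegree = k + 1 ∧ f.coeff 0 = (-1) ^ (k + 1)} :=
    fun c => cp k (Classical.choose c.2)
  refine Nat.card_congr (Equiv.ofBijective Φ ⟨?_, ?_⟩)
  · intro c₁ c₂ h
    obtain ⟨h1, h1'⟩ := Classical.choose_spec c₁.2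
    obtain ⟨h2, h2'⟩ := Classical.choose_spec c₂.2
    set g₁ := Classical.choose c₁.2 with hg₁
    set g₂ := Classical.choose c₂.2 with hg₂
    have hchar : (g₁ : Matrix (Fin (k + 1)) (Fin (k + 1)) F).charpoly =
        (g₂ : Matrix (Fin (k + 1)) (Fin (k + 1)) F).charpoly := congrArg Subtype.val h
    have hconj : IsConj g₁ g₂ := Cfsg.Agent.S2388.result p (k + 1) g₁ g₂ h1' h2' hchar
    apply Subtype.ext
    rw [← h1, ← h2]
    exact ConjClasses.mk_eq_mk_iff_isConj.mpr hconj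
  · intro f
    obtain ⟨A, hA, hAf⟩ := exists_matrix_semisimple_charpoly (k + 1) f.1 f.2.1 f.2.2.1
    have hdet : A.det = 1 := by
      rw [Matrix.det_eq_sign_charpoly_coeff, hAf, f.2.2.2, Fintype.card_fin, ← mul_pow]
      simp
    let g : Matrix.SpecialLinearGroup (Fin (k + 1)) F := ⟨A, hdet⟩
    have hgA : ((Matrix.SpecialLinearGroup.toGL g : GL (Fin (k + 1)) F) :
        Matrix (Fin (k + 1)) (Fin (k + 1)) F) = A := rfl
    have hcop : (orderOf g).Coprime p := by
      have h1 : (orderOf (Matrix.SpecialLinearGroup.toGL g : GL (Fin (k + 1)) F)).Coprime p :=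
        coprime_orderOf_of_isSemisimple p _ (by rw [hgA]; exact hA)
      rwa [orderOf_injective (Matrix.SpecialLinearGroup.toGL (n := Fin (k + 1)) (R := F))
        Matrix.SpecialLinearGroup.toGL_injective g] at h1
    let c : {c : ConjClasses (Matrix.SpecialLinearGroup (Fin (k + 1)) F) //
      ∃ g : Matrix.SpecialLinearGroup (Fin (k + 1)) F, ConjClasses.mk g = c ∧ (orderOf g).Coprime p} :=
      ⟨ConjClasses.mk g, g, rfl, hcop⟩
    refine ⟨c, ?_⟩
    have h1 := (Classical.choose_spec c.2).1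
    have h2 : IsConj (Classical.choose c.2) g := ConjClasses.mk_eq_mk_iff_isConj.mp h1
    show cp k (Classical.choose c.2) = f
    rw [cp_eq_of_isConj k _ _ h2]
    apply Subtype.ext
    exact hAf

end Cfsg.Agent.S2384
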