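import Cfsg.Statements.S2589
import Mathlib
import Cfsg.Agent.Lib.Helper37.SpConj

set_option autoImplicit false
open Cfsg

namespace Cfsg.Agent.S2589

open Cfsg.Agent.Lib.Helper37.SpConj

/-- Two semisimple elements of the finite symplectic group Sp_2m(F) (elements of order prime to the characteristic) are conjugate in Sp_2m(F) if and only if they are conjugate in GL_2m(F). -/
theorem result {F : Type*} [Field F] [Fintype F] {p : ℕ} [Fact p.Prime] [CharP F p] {m : ℕ} (A B : Matrix.symplecticGroup (Fin m) F) (hA : (orderOf A).Coprime p) : IsConj A B ↔ IsConj (A : Matrix (Fin m ⊕ Fin m) (Fin m ⊕ Fin m) F) (B : Matrix (Fin m ⊕ Fin m) (Fin m ⊕ Fin m) F) := by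
  classical
  constructor
  · intro h
    exact (Submonoid.subtype (Matrix.symplecticGroup (Fin m) F)).map_isConj h
  · intro h
    obtain ⟨P, hP⟩ := h
    have hPA : (P : Matrix (Fin m ⊕ Fin m) (Fin m ⊕ Fin m) F) * A.1 = B.1 * P := hP
    have hp : p.Prime := Fact.out
    set k₀ := orderOf A with hk₀
    have hApow : A.1 ^ k₀ = 1 := by
      have := congrArg Subtype.val (pow_orderOf_eq_one A)
      rwa [SubmonoidClass.coe_pow] at this
    have hk₀F : (k₀ : F) ≠ 0 := by
      rw [Ne, CharP.cast_eq_zero_iff F p]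
      intro hd
      have := Nat.dvd_gcd hd (dvd_refl p)
      rw [hA] at this
      exact hp.one_lt.ne' (Nat.dvd_one.1 this)
    obtain ⟨k, hk, hAk, hlam⟩ : ∃ k : ℕ, (k : F) ≠ 0 ∧ A.1 ^ k = 1 ∧
        ∀ l : F, l * l = 1 → l ^ k = 1 := by
      by_cases hp2 : p = 2
      · refine ⟨k₀, hk₀F, hApow, ?_⟩
        intro l hl
        have h2 : (2 : F) = 0 := by
          have := CharP.cast_eq_zero F p
          rw [hp2] at this
          exact_mod_cast this
        have h3 : (l - 1) * (l - 1) = 0 := by linear_combination hl + (1 - l) * h2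
        have h4 : l = 1 := by
          rcases mul_self_eq_zero.1 h3 with h
          exact sub_eq_zero.1 h
        rw [h4, one_pow]
      · refine ⟨2 * k₀, ?_, ?_, ?_⟩
        · rw [Nat.cast_mul]
          apply mul_ne_zero _ hk₀F
          rw [Ne, show ((2 : ℕ) : F) = ((2 : ℕ) : F) from rfl, CharP.cast_eq_zero_iff F p]
          intro hd
          exact hp2 ((Nat.prime_dvd_prime_iff_eq hp Nat.prime_two).1 hd)
        · rw [mul_comm, pow_mul, hApow, one_pow]
        · intro l hl
          rw [pow_mul, pow_two, hl, one_pow]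
    obtain ⟨Q, hQ, hQA⟩ := exists_symplectic_conj A.1 B.1 (P : Matrix _ _ F)
      ((P⁻¹ : (Matrix (Fin m ⊕ Fin m) (Fin m ⊕ Fin m) F)ˣ) : Matrix _ _ F) A.2 B.2
      (by rw [← Units.val_mul, mul_inv_cancel, Units.val_one]) hPA k hk hAk hlam
    rw [isConj_iff]
    refine ⟨⟨Q, hQ⟩, ?_⟩
    rw [mul_inv_eq_iff_eq_mul]
    apply Subtype.ext
    exact hQA

end Cfsg.Agent.S2589
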