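import Cfsg.Statements.S2389
import Mathlib
import Cfsg.Agent.S2589
import Cfsg.Agent.Lib.Helper40.SemisimpleGL

set_option autoImplicit false
open Cfsg

namespace Cfsg.Agent.S2389

/-- In the symplectic group `Sp_{2n}(q)`, `q` a power of the prime `p`, two elements of order prime to `p` with the same characteristic polynomial are conjugate in `Sp_{2n}(q)`. -/
theorem result {F : Type*} [Field F] [Fintype F] (p : ℕ) [Fact p.Prime] [CharP F p] (n : ℕ)
    (g h : ↥(Matrix.symplecticGroup (Fin n) F)) (hg : (orderOf g).Coprime p) (hh : (orderOf h).Coprime p)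
    (hc : (g : Matrix (Fin n ⊕ Fin n) (Fin n ⊕ Fin n) F).charpoly = (h : Matrix (Fin n ⊕ Fin n) (Fin n ⊕ Fin n) F).charpoly) :
    IsConj g h := by
  classical
  have hp : p.Prime := Fact.out
  have hss : ∀ x : ↥(Matrix.symplecticGroup (Fin n) F), (orderOf x).Coprime p →
      Module.End.IsSemisimple (Matrix.toLin' x.1) := by
    intro x hx
    apply Cfsg.Agent.Lib.Helper40.isSemisimple_toLin'_of_pow_eq_one x.1 (orderOf x)
    · rw [Ne, CharP.cast_eq_zero_iff F p]
      intro hd
      have := Nat.dvd_gcd hd (dvd_refl p)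
      rw [hx] at this
      exact hp.one_lt.ne' (Nat.dvd_one.1 this)
    · have := congrArg Subtype.val (pow_orderOf_eq_one x)
      rwa [SubmonoidClass.coe_pow] at this
  obtain ⟨P, hP⟩ := Cfsg.Agent.Lib.Helper40.exists_gl_conj_of_charpoly_eq g.1 h.1 (hss g hg)
    (hss h hh) hc
  exact (Cfsg.Agent.S2589.result g h hg).2 ⟨P, hP⟩

end Cfsg.Agent.S2389
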