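import Cfsg.Statements.S2385
import Mathlib
import Cfsg.Agent.S2389
import Cfsg.Agent.Lib.Helper37.SpExistGen
import Cfsg.Agent.Lib.Helper37.SpCount
import Cfsg.Agent.Lib.Helper37.PalCount

set_option autoImplicit false
open Cfsg

namespace Cfsg.Agent.S2385

open Polynomial Cfsg.Agent.Lib.Helper37.DualPoly Cfsg.Agent.Lib.Helper37.SpCount
  Cfsg.Agent.Lib.Helper37.SpExist Cfsg.Agent.Lib.Helper37.PalCount

/-- In the symplectic group `Sp_{2n}(q)`, `q` a power of the prime `p`, the number of conjugacy classes of elements of order prime to `p` is `q^n`. -/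
theorem result {F : Type*} [Field F] [Fintype F] {q : ℕ} (hq : Fintype.card F = q) (p : ℕ) [Fact p.Prime] [CharP F p] (n : ℕ) :
    Nat.card {c : ConjClasses ↥(Matrix.symplecticGroup (Fin n) F) //
      ∃ g : ↥(Matrix.symplecticGroup (Fin n) F), ConjClasses.mk g = c ∧ (orderOf g).Coprime p} = q ^ n := by
  classical
  have hp : p.Prime := Fact.out
  have hcharP : ∀ g : ↥(Matrix.symplecticGroup (Fin n) F),
      g.1.charpoly.Monic ∧ g.1.charpoly.natDegree = 2 * n ∧
        rdual g.1.charpoly = g.1.charpoly ∧ g.1.charpoly.coeff 0 = 1 := by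
    intro g
    refine ⟨Matrix.charpoly_monic _, by
      rw [Matrix.charpoly_natDegree_eq_dim, Fintype.card_sum, Fintype.card_fin]; ring,
      rdual_charpoly_of_mem_symplecticGroup g.1 g.2, ?_⟩
    have h1 := Matrix.det_eq_sign_charpoly_coeff g.1
    rw [SymplecticGroup.det_eq_one g.2, Fintype.card_sum, Fintype.card_fin] at h1
    have h2 : ((-1 : F)) ^ (n + n) = 1 := by
      rw [← two_mul, pow_mul]; norm_num
    rw [h2, one_mul] at h1
    exact h1.symm
  let Φ : {c : ConjClasses ↥(Matrix.symplecticGroup (Fin n) F) //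
        ∃ g : ↥(Matrix.symplecticGroup (Fin n) F), ConjClasses.mk g = c ∧ (orderOf g).Coprime p} →
      {f : F[X] // f.Monic ∧ f.natDegree = 2 * n ∧ rdual f = f ∧ f.coeff 0 = 1} :=
    fun C => ⟨(Classical.choose C.2).1.charpoly, hcharP _⟩
  have hconj_char : ∀ g g' : ↥(Matrix.symplecticGroup (Fin n) F), IsConj g g' →
      g.1.charpoly = g'.1.charpoly := by
    intro g g' h
    have h1 : IsConj g.1 g'.1 :=
      (Submonoid.subtype (Matrix.symplecticGroup (Fin n) F)).map_isConj h
    obtain ⟨c, hc⟩ := h1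
    have h2 : g'.1 = c.val * g.1 * c⁻¹.val := by
      have : c.val * g.1 = g'.1 * c.val := hc
      rw [this, Matrix.mul_assoc, ← Units.val_mul, mul_inv_cancel, Units.val_one, Matrix.mul_one]
    rw [h2, Matrix.coe_units_inv, Matrix.charpoly_units_conj]
  have hΦ : Function.Bijective Φ := by
    constructor
    · intro C₁ C₂ h
      obtain ⟨h1, h1'⟩ := Classical.choose_spec C₁.2
      obtain ⟨h2, h2'⟩ := Classical.choose_spec C₂.2
      set g₁ := Classical.choose C₁.2 with hg₁
      set g₂ := Classical.choose C₂.2 with hg₂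
      have hchar : g₁.1.charpoly = g₂.1.charpoly := congrArg Subtype.val h
      have hconj : IsConj g₁ g₂ := Cfsg.Agent.S2389.result p n g₁ g₂ h1' h2' hchar
      apply Subtype.ext
      rw [← h1, ← h2]
      exact ConjClasses.mk_eq_mk_iff_isConj.mpr hconj
    · intro f
      obtain ⟨g, hg, hgchar, N, hN, hgN⟩ :=
        exists_symplectic_charpoly_general (p := p) n f.1 f.2.1 f.2.2.1 f.2.2.2.1 f.2.2.2.2
      let gs : ↥(Matrix.symplecticGroup (Fin n) F) := ⟨g, hg⟩
      have hgs : gs ^ N = 1 := by
        apply Subtype.ext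
        rw [SubmonoidClass.coe_pow]
        exact hgN
      have hcop : (orderOf gs).Coprime p :=
        Nat.Coprime.coprime_dvd_left (orderOf_dvd_of_pow_eq_one hgs) hN
      refine ⟨⟨ConjClasses.mk gs, gs, rfl, hcop⟩, ?_⟩
      apply Subtype.ext
      have hc : ∃ g' : ↥(Matrix.symplecticGroup (Fin n) F),
          ConjClasses.mk g' = ConjClasses.mk gs ∧ (orderOf g').Coprime p := ⟨gs, rfl, hcop⟩
      show (Classical.choose hc).1.charpoly = f.1
      have h1 := (Classical.choose_spec hc).1
      have h2 : IsConj (Classical.choose hc) gs := ConjClasses.mk_eq_mk_iff_isConj.mp h1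
      rw [hconj_char _ _ h2]
      exact hgchar
  rw [Nat.card_congr (Equiv.ofBijective Φ hΦ), card_pal, hq]

end Cfsg.Agent.S2385
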