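import Cfsg.Statements.S2390
import Mathlib
import Cfsg.Agent.Lib.Helper37.UnitaryCentDet

set_option autoImplicit false
open Cfsg

namespace Cfsg.Agent.S2390

open Matrix Cfsg.Agent.Lib.Helper5 Cfsg.Agent.Lib.Helper37.GUConj Cfsg.Agent.Lib.Helper37.GUSimilar
  Cfsg.Agent.Lib.Helper37.UCD

/-- the matrix of an element of `SU` is unitary -/
theorem SU_unitary {F : Type*} [Field F] [Fintype F] {q n : ℕ} (hF : Fintype.card F = q ^ 2)
    (g : ↥(Cfsg.SU n F q)) : IsUnitaryMat q (g.1.1 : Matrix (Fin n) (Fin n) F) :=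
  (isUnitaryMat_iff_preserves hF _).2 (fun u v => g.2 u v)

/-- an element of `SU` of order prime to `p` has a semisimple matrix -/
theorem SU_semisimple {F : Type*} [Field F] [Fintype F] {q n : ℕ} (p : ℕ) [Fact p.Prime]
    [CharP F p] (g : ↥(Cfsg.SU n F q)) (hg : (orderOf g).Coprime p) :
    Module.End.IsSemisimple (Matrix.toLin' (g.1.1 : Matrix (Fin n) (Fin n) F)) := by
  have hp : p.Prime := Fact.out
  apply Cfsg.Agent.Lib.Helper40.isSemisimple_toLin'_of_pow_eq_one _ (orderOf g)
  · rw [Ne, CharP.cast_eq_zero_iff F p]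
    intro hd
    exact hp.one_lt.ne' (Nat.Coprime.eq_one_of_dvd hg.symm hd)
  · have h1 : g ^ orderOf g = 1 := pow_orderOf_eq_one g
    have h2 : ((g ^ orderOf g : ↥(Cfsg.SU n F q)) : Matrix.SpecialLinearGroup (Fin n) F) = 1 := by
      rw [h1]; rfl
    rw [SubgroupClass.coe_pow] at h2
    have h3 := congrArg (fun x : Matrix.SpecialLinearGroup (Fin n) F =>
      (x : Matrix (Fin n) (Fin n) F)) h2
    simpa using h3

/-- In the special unitary group `SU_n(q)` (inside `SL_n` over the field with `q²` elements), `q` a power of the prime `p`, two elements of order prime to `p` with the same characteristic polynomial are conjugate in `SU_n(q)`. -/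
theorem result {F : Type*} [Field F] [Fintype F] {q : ℕ} (hF : Fintype.card F = q ^ 2) (p : ℕ) [Fact p.Prime] [CharP F p] (n : ℕ)
    (g h : ↥(Cfsg.SU n F q)) (hg : (orderOf g).Coprime p) (hh : (orderOf h).Coprime p)
    (hc : ((g : Matrix.SpecialLinearGroup (Fin n) F) : Matrix (Fin n) (Fin n) F).charpoly =
      ((h : Matrix.SpecialLinearGroup (Fin n) F) : Matrix (Fin n) (Fin n) F).charpoly) : IsConj g h := by
  classical
  rcases Nat.eq_zero_or_pos n with hn | hn
  · subst hn
    have : g = h := by
      apply Subtype.ext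
      apply Subtype.ext
      exact Subsingleton.elim _ _
    rw [this]
  set a : Matrix (Fin n) (Fin n) F := g.1.1 with ha
  set b : Matrix (Fin n) (Fin n) F := h.1.1 with hb
  have hau : IsUnitaryMat q a := SU_unitary hF g
  have hbu : IsUnitaryMat q b := SU_unitary hF h
  have hass := SU_semisimple p g hg
  have hbss := SU_semisimple p h hh
  obtain ⟨P, hP⟩ := Cfsg.Agent.Lib.Helper40.exists_gl_conj_of_charpoly_eq a b hass hbss hc
  have hPdet : IsUnit (P : Matrix (Fin n) (Fin n) F).det :=
    (Matrix.isUnit_iff_isUnit_det _).1 P.isUnit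
  obtain ⟨u, hu, hua⟩ := exists_unitary_conj hF a b P hau hbu hPdet hP
  -- the determinant of `u` has norm one
  have hu' := (isUnitaryMat_iff_st hF u).1 hu
  have hdet : u.det * sig hF u.det = 1 := by
    have := congrArg det hu'
    rw [det_mul, det_one, st_det] at this
    rw [mul_comm]; exact this
  have hdetinv : (u.det)⁻¹ * sig hF (u.det)⁻¹ = 1 := by
    rw [map_inv₀, ← mul_inv, hdet, inv_one]
  obtain ⟨c, hcu, hca, hcdet⟩ := exists_unitary_commute_det (p := p) hF hn a hau hass _ hdetinv
  have hcu' := (isUnitaryMat_iff_st hF c).1 hcu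
  -- the conjugating element
  set y := u * c with hy
  have hyu : IsUnitaryMat q y := by
    rw [isUnitaryMat_iff_st hF, hy, st_mul]
    calc st hF c * st hF u * (u * c) = st hF c * (st hF u * u) * c := by
          simp only [Matrix.mul_assoc]
      _ = 1 := by rw [hu', Matrix.mul_one, hcu']
  have hydet : y.det = 1 := by
    rw [hy, det_mul, hcdet]
    have hne : u.det ≠ 0 := by
      intro h0
      rw [h0, zero_mul] at hdet
      exact zero_ne_one hdet
    exact mul_inv_cancel₀ hne
  have hya : y * a = b * y := by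
    calc y * a = u * (c * a) := by rw [hy, Matrix.mul_assoc]
      _ = (u * a) * c := by rw [hca]; simp only [Matrix.mul_assoc]
      _ = b * y := by rw [hua, hy, Matrix.mul_assoc]
  let Y : ↥(Cfsg.SU n F q) := ⟨⟨y, hydet⟩, (isUnitaryMat_iff_preserves hF y).1 hyu⟩
  rw [isConj_iff]
  refine ⟨Y, ?_⟩
  rw [mul_inv_eq_iff_eq_mul]
  apply Subtype.ext
  apply Subtype.ext
  exact hya

end Cfsg.Agent.S2390
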