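import Cfsg.Statements.S2386
import Mathlib
import Cfsg.Agent.S2390
import Cfsg.Agent.Lib.Helper37.UnitaryCentDet
import Cfsg.Agent.Lib.Helper37.UdualCount

set_option autoImplicit false
open Cfsg

namespace Cfsg.Agent.S2386

open Matrix Polynomial Cfsg.Agent.Lib.Helper5 Cfsg.Agent.Lib.Helper37.GUConj
  Cfsg.Agent.Lib.Helper37.GUSimilar Cfsg.Agent.Lib.Helper37.CycloDual
  Cfsg.Agent.Lib.Helper37.UCD Cfsg.Agent.Lib.Helper37.UdualCount

/-- In the special unitary group `SU_n(q)` (matrices of determinant one over the field with `q²` elements preserving the standard Hermitian form), `q` a power of the prime `p`, the number of conjugacy classes of elements of order prime to `p` is `q^(n-1)`. -/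
theorem result {F : Type*} [Field F] [Fintype F] {q : ℕ} (hF : Fintype.card F = q ^ 2) (p : ℕ) [Fact p.Prime] [CharP F p] (n : ℕ) (hn : 1 ≤ n) :
    Nat.card {c : ConjClasses ↥(Cfsg.SU n F q) // ∃ g : ↥(Cfsg.SU n F q), ConjClasses.mk g = c ∧ (orderOf g).Coprime p} = q ^ (n - 1) := by
  classical
  have hp : p.Prime := Fact.out
  obtain ⟨k, rfl⟩ : ∃ k, n = k + 1 := ⟨n - 1, by omega⟩
  rw [Nat.add_sub_cancel]
  have hsq : ((-1 : F) ^ (k + 1)) * ((-1 : F) ^ (k + 1)) = 1 := by
    rw [← pow_add, ← two_mul, pow_mul]; norm_num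
  have hcharP : ∀ g : ↥(Cfsg.SU (k + 1) F q),
      (g.1.1 : Matrix (Fin (k + 1)) (Fin (k + 1)) F).charpoly.Monic ∧
      (g.1.1 : Matrix (Fin (k + 1)) (Fin (k + 1)) F).charpoly.natDegree = k + 1 ∧
      udual hF (g.1.1 : Matrix (Fin (k + 1)) (Fin (k + 1)) F).charpoly =
        (g.1.1 : Matrix (Fin (k + 1)) (Fin (k + 1)) F).charpoly ∧
      (g.1.1 : Matrix (Fin (k + 1)) (Fin (k + 1)) F).charpoly.coeff 0 = (-1) ^ (k + 1) := by
    intro g
    set a : Matrix (Fin (k + 1)) (Fin (k + 1)) F := g.1.1 with ha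
    have hau : IsUnitaryMat q a := Cfsg.Agent.S2390.SU_unitary hF g
    have ha' := (isUnitaryMat_iff_st hF a).1 hau
    have hdet1 : a.det = 1 := g.1.2
    have hadet : IsUnit a.det := by rw [hdet1]; exact isUnit_one
    refine ⟨charpoly_monic a, by rw [Matrix.charpoly_natDegree_eq_dim, Fintype.card_fin], ?_, ?_⟩
    · rw [← charpoly_st_inv hF a hadet]
      congr 1
      exact Matrix.inv_eq_left_inv (by rw [mul_eq_one_comm]; exact ha')
    · have h1 := Matrix.det_eq_sign_charpoly_coeff a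
      rw [hdet1, Fintype.card_fin] at h1
      calc a.charpoly.coeff 0 = ((-1) ^ (k + 1) * (-1) ^ (k + 1)) * a.charpoly.coeff 0 := by
            rw [hsq, one_mul]
        _ = (-1) ^ (k + 1) * ((-1) ^ (k + 1) * a.charpoly.coeff 0) := by ring
        _ = (-1) ^ (k + 1) := by rw [← h1, mul_one]
  let Φ : {c : ConjClasses ↥(Cfsg.SU (k + 1) F q) //
        ∃ g : ↥(Cfsg.SU (k + 1) F q), ConjClasses.mk g = c ∧ (orderOf g).Coprime p} →
      {f : F[X] // f.Monic ∧ f.natDegree = k + 1 ∧ udual hF f = f ∧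
        f.coeff 0 = (-1) ^ (k + 1)} :=
    fun C => ⟨(Classical.choose C.2).1.1.charpoly, hcharP _⟩
  have hconj_char : ∀ g g' : ↥(Cfsg.SU (k + 1) F q), IsConj g g' →
      (g.1.1 : Matrix (Fin (k + 1)) (Fin (k + 1)) F).charpoly =
        (g'.1.1 : Matrix (Fin (k + 1)) (Fin (k + 1)) F).charpoly := by
    intro g g' h
    have h1 : IsConj (Matrix.SpecialLinearGroup.toGL g.1) (Matrix.SpecialLinearGroup.toGL g'.1) :=
      (Matrix.SpecialLinearGroup.toGL.comp (Cfsg.SU (k + 1) F q).subtype).map_isConj h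
    obtain ⟨c, hc⟩ := isConj_iff.1 h1
    have h2 : (g'.1.1 : Matrix (Fin (k + 1)) (Fin (k + 1)) F) = c.val * g.1.1 * c⁻¹.val := by
      have := congrArg Units.val hc
      simpa using this.symm
    rw [h2, Matrix.coe_units_inv, Matrix.charpoly_units_conj]
  have hΦ : Function.Bijective Φ := by
    constructor
    · intro C₁ C₂ h
      obtain ⟨h1, h1'⟩ := Classical.choose_spec C₁.2
      obtain ⟨h2, h2'⟩ := Classical.choose_spec C₂.2
      set g₁ := Classical.choose C₁.2 with hg₁
      set g₂ := Classical.choose C₂.2 with hg₂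
      have hchar : (g₁.1.1 : Matrix (Fin (k + 1)) (Fin (k + 1)) F).charpoly =
          (g₂.1.1 : Matrix (Fin (k + 1)) (Fin (k + 1)) F).charpoly := congrArg Subtype.val h
      have hconj : IsConj g₁ g₂ := Cfsg.Agent.S2390.result hF p (k + 1) g₁ g₂ h1' h2' hchar
      apply Subtype.ext
      rw [← h1, ← h2]
      exact ConjClasses.mk_eq_mk_iff_isConj.mpr hconj
    · intro f
      have hf0 : f.1.coeff 0 ≠ 0 := by
        rw [f.2.2.2.2]
        intro h0
        rw [h0, mul_zero] at hsq
        exact zero_ne_one hsq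
      obtain ⟨B, hBu, hBchar, N, hNK, hBN⟩ :=
        exists_unitary_charpoly (p := p) hF f.1 f.2.1 f.2.2.1 f.2.2.2.1 hf0
      have hBdet : B.det = 1 := by
        rw [Matrix.det_eq_sign_charpoly_coeff, hBchar, f.2.2.2.2, Fintype.card_fin, hsq]
      let gs : ↥(Cfsg.SU (k + 1) F q) := ⟨⟨B, hBdet⟩, (isUnitaryMat_iff_preserves hF B).1 hBu⟩
      have hgs : gs ^ N = 1 := by
        apply Subtype.ext
        apply Subtype.ext
        rw [SubgroupClass.coe_pow, Matrix.SpecialLinearGroup.coe_pow]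
        exact hBN
      have hNp : Nat.Coprime N p := by
        rw [Nat.coprime_comm, Nat.Prime.coprime_iff_not_dvd hp]
        intro hd
        exact hNK ((CharP.cast_eq_zero_iff F p N).2 hd)
      have hcop : (orderOf gs).Coprime p :=
        Nat.Coprime.coprime_dvd_left (orderOf_dvd_of_pow_eq_one hgs) hNp
      refine ⟨⟨ConjClasses.mk gs, gs, rfl, hcop⟩, ?_⟩
      apply Subtype.ext
      have hc : ∃ g' : ↥(Cfsg.SU (k + 1) F q),
          ConjClasses.mk g' = ConjClasses.mk gs ∧ (orderOf g').Coprime p := ⟨gs, rfl, hcop⟩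
      show (Classical.choose hc).1.1.charpoly = f.1
      have h1 := (Classical.choose_spec hc).1
      have h2 : IsConj (Classical.choose hc) gs := ConjClasses.mk_eq_mk_iff_isConj.mp h1
      rw [hconj_char _ _ h2]
      exact hBchar
  rw [Nat.card_congr (Equiv.ofBijective Φ hΦ), card_udual_poly hF k]

end Cfsg.Agent.S2386
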