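import Cfsg.Statements.S2387
import Cfsg.Agent.Lib.Helper40.SemisimpleCount

set_option autoImplicit false
open Cfsg

namespace Cfsg.Agent.S2387

open Polynomial Cfsg.Agent.Lib.Helper40

section
variable {F : Type*} [Field F] [Fintype F] (k : ℕ)

/-- The characteristic polynomial of an element of `GL_{k+1}(F)`, as a monic polynomial of degree
`k+1` with nonzero constant coefficient. -/
noncomputable def cp (g : GL (Fin (k + 1)) F) :
    {f : F[X] // f.Monic ∧ f.natDegree = k + 1 ∧ f.coeff 0 ≠ 0} :=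
  ⟨(g : Matrix (Fin (k + 1)) (Fin (k + 1)) F).charpoly, Matrix.charpoly_monic _, by
    rw [Matrix.charpoly_natDegree_eq_dim, Fintype.card_fin], by
    intro h0
    have h1 := Matrix.det_eq_sign_charpoly_coeff (g : Matrix (Fin (k + 1)) (Fin (k + 1)) F)
    rw [h0, mul_zero] at h1
    exact Matrix.GeneralLinearGroup.det_ne_zero g h1⟩

omit [Fintype F] in
theorem cp_eq_of_isConj (g g' : GL (Fin (k + 1)) F) (h : IsConj g g') : cp k g = cp k g' := by
  rw [isConj_iff] at h
  obtain ⟨c, rfl⟩ := h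
  apply Subtype.ext
  show (g : Matrix (Fin (k + 1)) (Fin (k + 1)) F).charpoly =
    ((c * g * c⁻¹ : GL (Fin (k + 1)) F) : Matrix (Fin (k + 1)) (Fin (k + 1)) F).charpoly
  rw [Units.val_mul, Units.val_mul, Matrix.coe_units_inv]
  exact (Matrix.charpoly_units_conj c (g : Matrix (Fin (k + 1)) (Fin (k + 1)) F)).symm

theorem isSemisimple_of_coprime (p : ℕ) [Fact p.Prime] [CharP F p] (g : GL (Fin (k + 1)) F)
    (hg : (orderOf g).Coprime p) :
    Module.End.IsSemisimple (Matrix.toLin' (g : Matrix (Fin (k + 1)) (Fin (k + 1)) F)) := by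
  have hp : p.Prime := Fact.out
  apply isSemisimple_toLin'_of_pow_eq_one _ (orderOf g)
  · intro h0
    rw [CharP.cast_eq_zero_iff F p] at h0
    exact hp.one_lt.ne' (Nat.Coprime.eq_one_of_dvd hg.symm h0)
  · have h1 : g ^ orderOf g = 1 := pow_orderOf_eq_one g
    have h2 := congrArg (fun y : GL (Fin (k + 1)) F => (y : Matrix (Fin (k + 1)) (Fin (k + 1)) F)) h1
    simp only [Units.val_pow_eq_pow_val, Units.val_one] at h2
    exact h2

end

/-- `GL_n(q)`, `q` a power of the prime `p`, has exactly `(q - 1) * q ^ (n - 1)` conjugacy classes of elements of order prime to `p`. -/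
theorem result {F : Type*} [Field F] [Fintype F] {q : ℕ} (hq : Fintype.card F = q) (p : ℕ) [Fact p.Prime] [CharP F p] (n : ℕ) (hn : 1 ≤ n) :
    Nat.card {c : ConjClasses (GL (Fin n) F) // ∃ g : GL (Fin n) F, ConjClasses.mk g = c ∧ (orderOf g).Coprime p} = (q - 1) * q ^ (n - 1) := by
  classical
  obtain ⟨k, rfl⟩ : ∃ k, n = k + 1 := ⟨n - 1, by omega⟩
  subst hq
  rw [Nat.add_sub_cancel, ← card_monic_coeff_zero_ne k]
  let Φ : {c : ConjClasses (GL (Fin (k + 1)) F) //
      ∃ g : GL (Fin (k + 1)) F, ConjClasses.mk g = c ∧ (orderOf g).Coprime p} →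
      {f : F[X] // f.Monic ∧ f.natDegree = k + 1 ∧ f.coeff 0 ≠ 0} :=
    fun c => cp k (Classical.choose c.2)
  refine Nat.card_congr (Equiv.ofBijective Φ ⟨?_, ?_⟩)
  · intro c₁ c₂ h
    obtain ⟨h1, h1'⟩ := Classical.choose_spec c₁.2
    obtain ⟨h2, h2'⟩ := Classical.choose_spec c₂.2
    set g₁ := Classical.choose c₁.2 with hg₁
    set g₂ := Classical.choose c₂.2 with hg₂
    have hchar : (g₁ : Matrix (Fin (k + 1)) (Fin (k + 1)) F).charpoly =
        (g₂ : Matrix (Fin (k + 1)) (Fin (k + 1)) F).charpoly := congrArg Subtype.val h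
    obtain ⟨P, hP⟩ := exists_gl_conj_of_charpoly_eq _ _ (isSemisimple_of_coprime k p g₁ h1')
      (isSemisimple_of_coprime k p g₂ h2') hchar
    have hconj : IsConj g₁ g₂ := by
      rw [isConj_iff]
      refine ⟨P, ?_⟩
      rw [mul_inv_eq_iff_eq_mul]
      apply Units.ext
      exact hP
    apply Subtype.ext
    rw [← h1, ← h2]
    exact ConjClasses.mk_eq_mk_iff_isConj.mpr hconj
  · intro f
    obtain ⟨A, hA, hAf⟩ := exists_matrix_semisimple_charpoly (k + 1) f.1 f.2.1 f.2.2.1
    have hdet : A.det ≠ 0 := by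
      rw [Matrix.det_eq_sign_charpoly_coeff, hAf]
      exact mul_ne_zero (pow_ne_zero _ (by simp)) f.2.2.2
    let g : GL (Fin (k + 1)) F := Matrix.GeneralLinearGroup.mkOfDetNeZero A hdet
    have hgA : (g : Matrix (Fin (k + 1)) (Fin (k + 1)) F) = A := rfl
    have hcop : (orderOf g).Coprime p := coprime_orderOf_of_isSemisimple p g (by rw [hgA]; exact hA)
    let c : {c : ConjClasses (GL (Fin (k + 1)) F) //
      ∃ g : GL (Fin (k + 1)) F, ConjClasses.mk g = c ∧ (orderOf g).Coprime p} :=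
      ⟨ConjClasses.mk g, g, rfl, hcop⟩
    refine ⟨c, ?_⟩
    have h1 := (Classical.choose_spec c.2).1
    have h2 : IsConj (Classical.choose c.2) g := ConjClasses.mk_eq_mk_iff_isConj.mp h1
    show cp k (Classical.choose c.2) = f
    rw [cp_eq_of_isConj k _ _ h2]
    apply Subtype.ext
    exact hAf

end Cfsg.Agent.S2387
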