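import Cfsg.Statements.S2391
import Mathlib
-- import your own Cfsg.Agent.* helpers here

set_option autoImplicit false
open Cfsg

namespace Cfsg.Agent.S2391


section helpers
open Matrix

variable {F : Type*} [Field F] [Fintype F] {p : ℕ} [Fact p.Prime] [CharP F p] {n : ℕ}

theorem exists_fixed_mod (U : Subgroup (Matrix.SpecialLinearGroup (Fin n) F)) (hU : IsPGroup p ↥U)
    (W : Submodule F (Fin n → F))
    (hinv : ∀ u ∈ U, ∀ v ∈ W, (u : Matrix (Fin n) (Fin n) F).mulVec v ∈ W) (hW : W ≠ ⊤) :
    ∃ v, v ∉ W ∧ ∀ u ∈ U, (u : Matrix (Fin n) (Fin n) F).mulVec v - v ∈ W := by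
  classical
  have hcomap : ∀ u : U, W ≤ W.comap (Matrix.mulVecLin ((u : Matrix.SpecialLinearGroup (Fin n) F) : Matrix (Fin n) (Fin n) F)) := by
    intro u v hv
    exact hinv u.1 u.2 v hv
  let _ : MulAction U ((Fin n → F) ⧸ W) :=
    { smul := fun u x => W.mapQ W (Matrix.mulVecLin ((u : Matrix.SpecialLinearGroup (Fin n) F) : Matrix (Fin n) (Fin n) F)) (hcomap u) x
      one_smul := by
        intro x
        induction x using Submodule.Quotient.induction_on with
        | H v =>
          change W.mapQ W _ _ (Submodule.Quotient.mk v) = _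
          rw [Submodule.mapQ_apply]
          simp
      mul_smul := by
        intro u u' x
        induction x using Submodule.Quotient.induction_on with
        | H v =>
          change W.mapQ W _ _ (Submodule.Quotient.mk v) = W.mapQ W _ _ (W.mapQ W _ _ (Submodule.Quotient.mk v))
          rw [Submodule.mapQ_apply, Submodule.mapQ_apply, Submodule.mapQ_apply]
          simp [Matrix.mulVec_mulVec] }
  have hsmul : ∀ (u : U) (v : Fin n → F), u • (Submodule.Quotient.mk v : (Fin n → F) ⧸ W) =
      Submodule.Quotient.mk (((u : Matrix.SpecialLinearGroup (Fin n) F) : Matrix (Fin n) (Fin n) F).mulVec v) := by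
    intro u v
    rfl
  have hnt : Nontrivial ((Fin n → F) ⧸ W) := Submodule.Quotient.nontrivial_iff.2 hW
  have hdvd : p ∣ Nat.card ((Fin n → F) ⧸ W) := by
    obtain ⟨x, hx⟩ := exists_ne (0 : (Fin n → F) ⧸ W)
    have hpx : p • x = 0 := by
      rw [← Nat.cast_smul_eq_nsmul F, CharP.cast_eq_zero, zero_smul]
    rw [← addOrderOf_eq_prime hpx hx]
    exact addOrderOf_dvd_natCard x
  have h0 : (0 : (Fin n → F) ⧸ W) ∈ MulAction.fixedPoints U ((Fin n → F) ⧸ W) := by
    intro u
    have := hsmul u 0
    simpa using this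
  obtain ⟨b, hb, hb0⟩ := hU.exists_fixed_point_of_prime_dvd_card_of_fixed_point _ hdvd h0
  induction b using Submodule.Quotient.induction_on with
  | H v =>
    refine ⟨v, ?_, ?_⟩
    · intro hv
      exact hb0 ((Submodule.Quotient.mk_eq_zero W).2 hv).symm
    · intro u hu
      have := hb ⟨u, hu⟩
      rw [hsmul, Submodule.Quotient.eq] at this
      exact this


/-- next term of the fixed-point series -/
def nxt (U : Subgroup (Matrix.SpecialLinearGroup (Fin n) F)) (W : Submodule F (Fin n → F)) :
    Submodule F (Fin n → F) :=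
  ⨅ u : U, W.comap (Matrix.mulVecLin ((u : Matrix.SpecialLinearGroup (Fin n) F) : Matrix (Fin n) (Fin n) F) - LinearMap.id)

omit [Fintype F] in
theorem mem_nxt (U : Subgroup (Matrix.SpecialLinearGroup (Fin n) F)) (W : Submodule F (Fin n → F))
    (v : Fin n → F) :
    v ∈ nxt U W ↔ ∀ u ∈ U, (u : Matrix (Fin n) (Fin n) F).mulVec v - v ∈ W := by
  unfold nxt
  rw [Submodule.mem_iInf]
  constructor
  · intro h u hu
    have := h ⟨u, hu⟩
    simpa using this
  · intro h u
    have := h u.1 u.2
    simpa using this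

theorem nxt_mono (U : Subgroup (Matrix.SpecialLinearGroup (Fin n) F)) {W W' : Submodule F (Fin n → F)}
    (h : W ≤ W') : nxt U W ≤ nxt U W' := by
  intro v hv
  rw [mem_nxt] at hv ⊢
  exact fun u hu => h (hv u hu)

/-- the ascending fixed-point series -/
def ser (U : Subgroup (Matrix.SpecialLinearGroup (Fin n) F)) : ℕ → Submodule F (Fin n → F)
  | 0 => ⊥
  | m + 1 => nxt U (ser U m)

theorem ser_le_succ (U : Subgroup (Matrix.SpecialLinearGroup (Fin n) F)) (m : ℕ) :
    ser U m ≤ ser U (m + 1) := by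
  induction m with
  | zero => exact bot_le
  | succ m ih => exact nxt_mono U ih

theorem ser_mono (U : Subgroup (Matrix.SpecialLinearGroup (Fin n) F)) : Monotone (ser U) :=
  monotone_nat_of_le_succ (ser_le_succ U)

theorem ser_inv (U : Subgroup (Matrix.SpecialLinearGroup (Fin n) F)) (m : ℕ) :
    ∀ u ∈ U, ∀ v ∈ ser U m, (u : Matrix (Fin n) (Fin n) F).mulVec v ∈ ser U m := by
  cases m with
  | zero =>
    intro u _ v hv
    change v ∈ (⊥ : Submodule F (Fin n → F)) at hv
    rw [Submodule.mem_bot] at hv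
    rw [hv, Matrix.mulVec_zero]
    exact Submodule.zero_mem _
  | succ m =>
    intro u hu v hv
    have h1 : (u : Matrix (Fin n) (Fin n) F).mulVec v - v ∈ ser U m := (mem_nxt U _ v).1 hv u hu
    have h2 := ser_le_succ U m h1
    have : (u : Matrix (Fin n) (Fin n) F).mulVec v = ((u : Matrix (Fin n) (Fin n) F).mulVec v - v) + v := by
      abel
    rw [this]
    exact Submodule.add_mem _ h2 hv

theorem ser_norm (U : Subgroup (Matrix.SpecialLinearGroup (Fin n) F)) (m : ℕ) :
    ∀ g ∈ Subgroup.normalizer (U : Set (Matrix.SpecialLinearGroup (Fin n) F)), ∀ v ∈ ser U m,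
      (g : Matrix (Fin n) (Fin n) F).mulVec v ∈ ser U m := by
  induction m with
  | zero =>
    intro g _ v hv
    change v ∈ (⊥ : Submodule F (Fin n → F)) at hv
    rw [Submodule.mem_bot] at hv
    rw [hv, Matrix.mulVec_zero]
    exact Submodule.zero_mem _
  | succ m ih =>
    intro g hg v hv
    change _ ∈ nxt U (ser U m)
    rw [mem_nxt]
    intro u hu
    have hu' : g⁻¹ * u * g ∈ U := by
      have := (Subgroup.mem_normalizer_iff.1 hg (g⁻¹ * u * g))
      rw [this]
      have e : g * (g⁻¹ * u * g) * g⁻¹ = u := by group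
      rw [e]; exact hu
    have h1 : ((g⁻¹ * u * g : Matrix.SpecialLinearGroup (Fin n) F) : Matrix (Fin n) (Fin n) F).mulVec v - v ∈ ser U m :=
      (mem_nxt U _ v).1 hv _ hu'
    have h2 := ih g hg _ h1
    have e2 : (g : Matrix (Fin n) (Fin n) F).mulVec
        (((g⁻¹ * u * g : Matrix.SpecialLinearGroup (Fin n) F) : Matrix (Fin n) (Fin n) F).mulVec v - v) =
        (u : Matrix (Fin n) (Fin n) F).mulVec ((g : Matrix (Fin n) (Fin n) F).mulVec v) -
          (g : Matrix (Fin n) (Fin n) F).mulVec v := by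
      have e3 : g * (g⁻¹ * u * g) = u * g := by group
      rw [Matrix.mulVec_sub, Matrix.mulVec_mulVec, Matrix.mulVec_mulVec,
        ← Matrix.SpecialLinearGroup.coe_mul, ← Matrix.SpecialLinearGroup.coe_mul, e3]
    rw [← e2]
    exact h2

theorem ser_norm_map (U : Subgroup (Matrix.SpecialLinearGroup (Fin n) F)) (m : ℕ)
    (g : Matrix.SpecialLinearGroup (Fin n) F)
    (hg : g ∈ Subgroup.normalizer (U : Set (Matrix.SpecialLinearGroup (Fin n) F))) :
    (ser U m).map (Matrix.mulVecLin (g : Matrix (Fin n) (Fin n) F)) = ser U m := by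
  apply le_antisymm
  · rintro _ ⟨v, hv, rfl⟩
    exact ser_norm U m g hg v hv
  · intro v hv
    refine ⟨(g⁻¹ : Matrix.SpecialLinearGroup (Fin n) F).1.mulVec v, ?_, ?_⟩
    · exact ser_norm U m g⁻¹ (Subgroup.inv_mem _ hg) v hv
    · change (g : Matrix (Fin n) (Fin n) F).mulVec ((g⁻¹ : Matrix.SpecialLinearGroup (Fin n) F).1.mulVec v) = v
      rw [Matrix.mulVec_mulVec, ← Matrix.SpecialLinearGroup.coe_mul, mul_inv_cancel]
      simp

theorem ser_strict (U : Subgroup (Matrix.SpecialLinearGroup (Fin n) F)) (hU : IsPGroup p ↥U) (m : ℕ)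
    (h : ser U m ≠ ⊤) : ser U m < ser U (m + 1) := by
  obtain ⟨v, hv1, hv2⟩ := exists_fixed_mod U hU (ser U m) (ser_inv U m) h
  refine lt_of_le_of_ne (ser_le_succ U m) ?_
  intro heq
  apply hv1
  rw [heq]
  change v ∈ nxt U (ser U m)
  rw [mem_nxt]
  exact hv2

theorem exists_ser_top (U : Subgroup (Matrix.SpecialLinearGroup (Fin n) F)) (hU : IsPGroup p ↥U) :
    ∃ m, ser U m = ⊤ := by
  by_contra hcon
  push Not at hcon
  have hdim : ∀ m, m ≤ Module.finrank F (ser U m) := by
    intro m
    induction m with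
    | zero => exact Nat.zero_le _
    | succ m ih =>
      have := Submodule.finrank_lt_finrank_of_lt (ser_strict U hU m (hcon m))
      omega
  have h1 := hdim (n + 1)
  have h2 : Module.finrank F (ser U (n + 1)) ≤ Module.finrank F (Fin n → F) := Submodule.finrank_le _
  rw [Module.finrank_fin_fun] at h2
  omega

theorem ser_one_ne_top (U : Subgroup (Matrix.SpecialLinearGroup (Fin n) F)) (hne : U ≠ ⊥) :
    ser U 1 ≠ ⊤ := by
  intro htop
  apply hne
  rw [Subgroup.eq_bot_iff_forall]
  intro u hu
  apply Subtype.ext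
  apply Matrix.toLin'.injective
  apply LinearMap.ext
  intro v
  have hv : v ∈ ser U 1 := by rw [htop]; exact Submodule.mem_top
  change v ∈ nxt U (ser U 0) at hv
  rw [mem_nxt] at hv
  have := hv u hu
  change _ ∈ (⊥ : Submodule F (Fin n → F)) at this
  rw [Submodule.mem_bot, sub_eq_zero] at this
  rw [Matrix.toLin'_apply, this]
  simp

end helpers

/-- The Borel–Tits property of `SL_n(q)` in flag form: for a field `F` of characteristic `p` with finitely many elements and a non-trivial `p`-subgroup `U` of `SL_n(F)`, there is a flag `0 = V₀ < V₁ < ⋯ < V_{k+1} = F^n` with at least one proper non-zero member such that every element of the normaliser of `U` maps each `V_i` onto itself and every element of `U` acts trivially on each quotient `V_{i+1}/V_i` (so the normaliser lies in the parabolic subgroup of the flag and `U` in its unipotent radical). -/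
theorem result {F : Type*} [Field F] [Fintype F] (p : ℕ) [Fact p.Prime] [CharP F p] (n : ℕ)
    (U : Subgroup (Matrix.SpecialLinearGroup (Fin n) F)) (hU : IsPGroup p ↥U) (hne : U ≠ ⊥) :
    ∃ (k : ℕ) (V : Fin (k + 2) → Submodule F (Fin n → F)), 1 ≤ k ∧ StrictMono V ∧ V 0 = ⊥ ∧ V (Fin.last (k + 1)) = ⊤ ∧
      (∀ g ∈ Subgroup.normalizer (U : Set (Matrix.SpecialLinearGroup (Fin n) F)), ∀ i, (V i).map (Matrix.mulVecLin (g : Matrix (Fin n) (Fin n) F)) = V i) ∧
      (∀ u ∈ U, ∀ i : Fin (k + 1), ∀ v ∈ V i.succ, (u : Matrix (Fin n) (Fin n) F).mulVec v - v ∈ V (Fin.castSucc i)) := by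
  classical
  have hex := exists_ser_top U hU
  have h1 : ser U 1 ≠ ⊤ := ser_one_ne_top U hne
  have h0 : ser U 0 ≠ ⊤ := by
    intro h
    apply h1
    exact top_le_iff.1 (h ▸ ser_le_succ U 0)
  have hK2 : 2 ≤ Nat.find hex := by
    by_contra hlt
    have hfind := Nat.find_spec hex
    have : Nat.find hex = 0 ∨ Nat.find hex = 1 := by omega
    rcases this with h | h
    · rw [h] at hfind; exact h0 hfind
    · rw [h] at hfind; exact h1 hfind
  obtain ⟨k, hk⟩ : ∃ k, Nat.find hex = k + 1 := ⟨Nat.find hex - 1, by omega⟩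
  have hmin : ∀ m, m < k + 1 → ser U m ≠ ⊤ := by
    intro m hm
    exact Nat.find_min hex (by omega)
  refine ⟨k, fun i => ser U i.val, by omega, ?_, rfl, ?_, ?_, ?_⟩
  · intro i j hij
    have hij' : i.val < j.val := hij
    have hj := j.isLt
    have h2 : ser U i.val < ser U (i.val + 1) := ser_strict U hU i.val (hmin i.val (by omega))
    exact lt_of_lt_of_le h2 (ser_mono U (by omega))
  · change ser U (k + 1) = ⊤
    rw [← hk]
    exact Nat.find_spec hex
  · intro g hg i
    exact ser_norm_map U i.val g hg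
  · intro u hu i v hv
    change v ∈ ser U (i.val + 1) at hv
    change _ ∈ ser U i.val
    exact (mem_nxt U _ v).1 hv u hu

end Cfsg.Agent.S2391
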