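import Cfsg.Statements.S2392
import Mathlib
import Cfsg.Agent.Lib.Helper40.CrossCharCore
import Cfsg.Agent.Lib.Helper58.Affine

set_option autoImplicit false
open scoped MatrixGroups
open Cfsg

namespace Cfsg.Agent.S2392

open Matrix

section blocks
variable {F : Type*} [Field F] {m : ℕ}

/-- the elementary abelian subgroup `Q` -/
noncomputable def Tm (v : Fin m → F) : Matrix (Unit ⊕ Fin m) (Unit ⊕ Fin m) F :=
  fromBlocks 1 0 (replicateCol Unit v) 1

theorem Tm_mul (v w : Fin m → F) : Tm v * Tm w = Tm (v + w) := by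
  rw [Tm, Tm, Tm, fromBlocks_multiply, replicateCol_add]
  simp

theorem Tm_det (v : Fin m → F) : (Tm v).det = 1 := by
  rw [Tm, det_fromBlocks_zero₁₂]
  simp

theorem Tm_zero : Tm (0 : Fin m → F) = 1 := by
  rw [Tm, replicateCol_zero, fromBlocks_one]

/-- the Levi part `diag(1, A)` -/
noncomputable def Jm (A : Matrix (Fin m) (Fin m) F) : Matrix (Unit ⊕ Fin m) (Unit ⊕ Fin m) F :=
  fromBlocks 1 0 0 A

theorem Jm_mul (A B : Matrix (Fin m) (Fin m) F) : Jm A * Jm B = Jm (A * B) := by
  rw [Jm, Jm, Jm, fromBlocks_multiply]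
  simp

theorem Jm_det (A : Matrix (Fin m) (Fin m) F) : (Jm A).det = A.det := by
  rw [Jm, det_fromBlocks_zero₁₂]
  simp

theorem Jm_one : Jm (1 : Matrix (Fin m) (Fin m) F) = 1 := by
  rw [Jm, fromBlocks_one]

theorem Jm_mul_Tm (A : Matrix (Fin m) (Fin m) F) (v : Fin m → F) :
    Jm A * Tm v = Tm (A.mulVec v) * Jm A := by
  rw [Jm, Tm, Tm, fromBlocks_multiply, fromBlocks_multiply, replicateCol_mulVec]
  simp

theorem Tm_injective : Function.Injective (Tm : (Fin m → F) → _) := by
  intro v w h
  rw [Tm, Tm, fromBlocks_inj] at h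
  exact replicateCol_injective h.2.2.1

end blocks

section sl
variable {F : Type*} [Field F] {m : ℕ}

/-- `Q` as a homomorphism into `SL` -/
noncomputable def iQ : Multiplicative (Fin m → F) →* SpecialLinearGroup (Unit ⊕ Fin m) F where
  toFun v := ⟨Tm (Multiplicative.toAdd v), Tm_det _⟩
  map_one' := by
    apply Subtype.ext
    exact Tm_zero
  map_mul' v w := by
    apply Subtype.ext
    change Tm (Multiplicative.toAdd v + Multiplicative.toAdd w) = Tm _ * Tm _
    rw [Tm_mul]

/-- the Levi factor as a homomorphism into `SL` -/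
noncomputable def jH : SpecialLinearGroup (Fin m) F →* SpecialLinearGroup (Unit ⊕ Fin m) F where
  toFun A := ⟨Jm (A : Matrix (Fin m) (Fin m) F), by rw [Jm_det]; exact A.2⟩
  map_one' := by
    apply Subtype.ext
    exact Jm_one
  map_mul' A B := by
    apply Subtype.ext
    change Jm ((A : Matrix (Fin m) (Fin m) F) * (B : Matrix (Fin m) (Fin m) F)) = Jm (A : Matrix (Fin m) (Fin m) F) * Jm (B : Matrix (Fin m) (Fin m) F)
    rw [Jm_mul]

/-- the action of the Levi factor on `Q` -/
noncomputable def αH : SpecialLinearGroup (Fin m) F →* MulAut (Multiplicative (Fin m → F)) where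
  toFun A :=
    { toFun := fun v => Multiplicative.ofAdd ((A : Matrix (Fin m) (Fin m) F).mulVec (Multiplicative.toAdd v))
      invFun := fun v => Multiplicative.ofAdd (((A⁻¹ : SpecialLinearGroup (Fin m) F) : Matrix (Fin m) (Fin m) F).mulVec (Multiplicative.toAdd v))
      left_inv := fun v => by
        simp only [toAdd_ofAdd, mulVec_mulVec]
        have h : ((A⁻¹ : SpecialLinearGroup (Fin m) F) : Matrix (Fin m) (Fin m) F) *
            (A : Matrix (Fin m) (Fin m) F) = 1 := congrArg Subtype.val (inv_mul_cancel A)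
        rw [h, one_mulVec, ofAdd_toAdd]
      right_inv := fun v => by
        simp only [toAdd_ofAdd, mulVec_mulVec]
        have h : (A : Matrix (Fin m) (Fin m) F) *
            ((A⁻¹ : SpecialLinearGroup (Fin m) F) : Matrix (Fin m) (Fin m) F) = 1 :=
          congrArg Subtype.val (mul_inv_cancel A)
        rw [h, one_mulVec, ofAdd_toAdd]
      map_mul' := fun v w => by
        simp only [toAdd_mul, mulVec_add, ofAdd_add] }
  map_one' := by
    apply MulEquiv.ext
    intro v
    change Multiplicative.ofAdd ((1 : Matrix (Fin m) (Fin m) F).mulVec (Multiplicative.toAdd v)) = v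
    rw [one_mulVec, ofAdd_toAdd]
  map_mul' A B := by
    apply MulEquiv.ext
    intro v
    change Multiplicative.ofAdd (((A : Matrix (Fin m) (Fin m) F) * (B : Matrix (Fin m) (Fin m) F)).mulVec
      (Multiplicative.toAdd v)) = Multiplicative.ofAdd ((A : Matrix (Fin m) (Fin m) F).mulVec
        ((B : Matrix (Fin m) (Fin m) F).mulVec (Multiplicative.toAdd v)))
    rw [mulVec_mulVec]

theorem αH_apply (A : SpecialLinearGroup (Fin m) F) (v : Multiplicative (Fin m → F)) :
    αH A v = Multiplicative.ofAdd ((A : Matrix (Fin m) (Fin m) F).mulVec (Multiplicative.toAdd v)) := rfl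

theorem jH_mul_iQ (A : SpecialLinearGroup (Fin m) F) (v : Multiplicative (Fin m → F)) :
    jH A * iQ v = iQ (αH A v) * jH A := by
  apply Subtype.ext
  change Jm (A : Matrix (Fin m) (Fin m) F) * Tm _ = Tm _ * Jm (A : Matrix (Fin m) (Fin m) F)
  rw [Jm_mul_Tm]
  rfl

theorem iQ_injective : Function.Injective (iQ : Multiplicative (Fin m → F) →* _) := by
  intro v w h
  have h1 := congrArg Subtype.val h
  exact Multiplicative.toAdd.injective (Tm_injective h1)

/-- `SL_m` is transitive on nonzero vectors for `m ≥ 2` -/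
theorem exists_sl_mulVec_eq (hm : 2 ≤ m) (v w : Fin m → F) (hv : v ≠ 0) (hw : w ≠ 0) :
    ∃ A : SpecialLinearGroup (Fin m) F, (A : Matrix (Fin m) (Fin m) F).mulVec v = w := by
  obtain ⟨g, hg⟩ := Cfsg.Agent.Lib.Helper58.exists_linearEquiv_map_vector (K := F) v w hv hw
  have hW : Submodule.span F {v} < ⊤ := by
    rw [lt_top_iff_ne_top]
    intro htop
    have h1 : Module.finrank F (Submodule.span F {v}) ≤ 1 := by
      have := finrank_span_le_card (R := F) ({v} : Set (Fin m → F))
      simpa using this
    rw [htop, finrank_top, Module.finrank_fin_fun] at h1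
    omega
  obtain ⟨A', hdet, hA'⟩ := Cfsg.Agent.Lib.Helper58.exists_linearEquiv_det_one_eqOn
    (Submodule.span F {v}) hW g
  refine ⟨⟨LinearMap.toMatrix' (A' : (Fin m → F) →ₗ[F] (Fin m → F)), ?_⟩, ?_⟩
  · rw [LinearMap.det_toMatrix']
    exact hdet
  · change (LinearMap.toMatrix' (A' : (Fin m → F) →ₗ[F] (Fin m → F))).mulVec v = w
    rw [LinearMap.toMatrix'_mulVec]
    change A' v = w
    rw [hA' v (Submodule.mem_span_singleton_self v), hg]

end sl


section reindex
variable {F : Type*} [Field F]

/-- transport of `SL` along an equivalence of index types -/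
noncomputable def slReindex {ι κ : Type*} [Fintype ι] [DecidableEq ι] [Fintype κ] [DecidableEq κ]
    (e : ι ≃ κ) : SpecialLinearGroup ι F →* SpecialLinearGroup κ F where
  toFun A := ⟨Matrix.reindex e e (A : Matrix ι ι F), by
    rw [Matrix.det_reindex_self]; exact A.2⟩
  map_one' := by
    apply Subtype.ext
    change Matrix.reindex e e (1 : Matrix ι ι F) = 1
    simp
  map_mul' A B := by
    apply Subtype.ext
    change Matrix.reindex e e ((A : Matrix ι ι F) * (B : Matrix ι ι F)) =
      Matrix.reindex e e (A : Matrix ι ι F) * Matrix.reindex e e (B : Matrix ι ι F)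
    simp [Matrix.submatrix_mul_equiv]

theorem slReindex_injective {ι κ : Type*} [Fintype ι] [DecidableEq ι] [Fintype κ] [DecidableEq κ]
    (e : ι ≃ κ) : Function.Injective (slReindex (F := F) e) := by
  intro A B h
  have h1 : Matrix.reindex e e (A : Matrix ι ι F) = Matrix.reindex e e (B : Matrix ι ι F) :=
    congrArg Subtype.val h
  apply Subtype.ext
  exact (Matrix.reindex e e).injective h1

end reindex

/-- A lower bound for representations in cross characteristic: for `n ≥ 3` and a field `F` with `q` elements, every homomorphism from `SL_n(F)` to `GL_d(K)`, `K` a field of characteristic different from that of `F`, whose kernel is central has `d ≥ q^(n-1) - 1`. -/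
theorem result {F : Type*} [Field F] [Fintype F] {q : ℕ} (hq : Fintype.card F = q) (n : ℕ) (hn : 3 ≤ n)
    {K : Type*} [Field K] (hK : ringChar K ≠ ringChar F) {d : ℕ}
    (ρ : Matrix.SpecialLinearGroup (Fin n) F →* GL (Fin d) K) (hker : ρ.ker ≤ Subgroup.center (Matrix.SpecialLinearGroup (Fin n) F)) :
    q ^ (n - 1) - 1 ≤ d := by
  classical
  subst hq
  obtain ⟨m, rfl⟩ : ∃ m, n = m + 1 := ⟨n - 1, by omega⟩
  have hm : 2 ≤ m := by omega
  rw [Nat.add_sub_cancel]
  -- characteristic data
  obtain ⟨p, hp⟩ := CharP.exists F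
  have hpp : p.Prime := CharP.char_is_prime F p
  obtain ⟨k, hk⟩ := FiniteField.card F p
  have hpK : (p : K) ≠ 0 := by
    intro h0
    have h1 : ringChar K ∣ p := ringChar.dvd h0
    rcases (Nat.dvd_prime hpp).mp h1 with h | h
    · exact CharP.ringChar_ne_one h
    · apply hK
      rw [h]
      exact (ringChar.eq F p).symm
  -- the algebraic closure
  let L := AlgebraicClosure K
  have hinj : Function.Injective (algebraMap K L) := (algebraMap K L).injective
  have hpL : (p : L) ≠ 0 := by
    intro h0
    apply hpK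
    apply hinj
    rw [map_natCast, h0, map_zero]
  have hcardQ : Fintype.card (Multiplicative (Fin m → F)) = Fintype.card F ^ m := by
    rw [Fintype.card_multiplicative, Fintype.card_fun, Fintype.card_fin]
  have hQL : (Fintype.card (Multiplicative (Fin m → F)) : L) ≠ 0 := by
    rw [hcardQ, hk.2, Nat.cast_pow, Nat.cast_pow]
    exact pow_ne_zero _ (pow_ne_zero _ hpL)
  have hexp : NeZero ((Monoid.exponent (Multiplicative (Fin m → F)) : ℕ) : L) := by
    constructor
    intro h0
    apply hQL
    obtain ⟨c, hc⟩ := Group.exponent_dvd_card (G := Multiplicative (Fin m → F))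
    rw [hc, Nat.cast_mul, h0, zero_mul]
  have hroots : HasEnoughRootsOfUnity L (Monoid.exponent (Multiplicative (Fin m → F))) :=
    inferInstance
  -- the transported representation
  let e : Unit ⊕ Fin m ≃ Fin (m + 1) := Fintype.equivOfCardEq (by simp [add_comm])
  let ρ' : SpecialLinearGroup (Unit ⊕ Fin m) F →* GL (Fin d) L :=
    (Matrix.GeneralLinearGroup.map (algebraMap K L)).comp (ρ.comp (slReindex e))
  let R : SpecialLinearGroup (Unit ⊕ Fin m) F →* Module.End L (Fin d → L) :=
    { toFun := fun g => Matrix.toLin' ((ρ' g : GL (Fin d) L) : Matrix (Fin d) (Fin d) L)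
      map_one' := by
        rw [map_one, Units.val_one, Matrix.toLin'_one]
        rfl
      map_mul' := fun a b => by
        rw [map_mul, Units.val_mul, Matrix.toLin'_mul]
        rfl }
  -- a non-central element of `Q`
  have hex : ∃ x₀ : Multiplicative (Fin m → F), R (iQ x₀) ≠ 1 := by
    let i0 : Fin m := ⟨0, by omega⟩
    let i1 : Fin m := ⟨1, by omega⟩
    have hi01 : i0 ≠ i1 := by
      intro h
      have := congrArg Fin.val h
      simp [i0, i1] at this
    let v : Fin m → F := Pi.single i0 1
    let w : Fin m → F := Pi.single i1 1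
    have hv : v ≠ 0 := by
      intro h
      have := congrFun h i0
      simp [v] at this
    have hw : w ≠ 0 := by
      intro h
      have := congrFun h i1
      simp [w] at this
    have hvw : v ≠ w := by
      intro h
      have := congrFun h i0
      simp [v, w, Pi.single_eq_of_ne hi01] at this
    obtain ⟨A, hA⟩ := exists_sl_mulVec_eq hm v w hv hw
    refine ⟨Multiplicative.ofAdd v, ?_⟩
    intro hR
    -- `ρ (Φ (iQ v)) = 1`
    have h1 : ρ (slReindex e (iQ (Multiplicative.ofAdd v))) = 1 := by
      have h2 : Matrix.toLin' ((ρ' (iQ (Multiplicative.ofAdd v)) : GL (Fin d) L) :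
          Matrix (Fin d) (Fin d) L) = Matrix.toLin' (1 : Matrix (Fin d) (Fin d) L) := by
        rw [Matrix.toLin'_one]
        exact hR
      have h3 := Matrix.toLin'.injective h2
      apply Units.ext
      apply Matrix.ext
      intro a b
      have h4 := congrFun (congrFun h3 a) b
      change algebraMap K L ((ρ (slReindex e (iQ (Multiplicative.ofAdd v))) :
        Matrix (Fin d) (Fin d) K) a b) = (1 : Matrix (Fin d) (Fin d) L) a b at h4
      apply hinj
      rw [h4, Units.val_one, Matrix.one_apply, Matrix.one_apply]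
      split_ifs <;> simp
    have h5 : slReindex e (iQ (Multiplicative.ofAdd v)) ∈
        Subgroup.center (SpecialLinearGroup (Fin (m + 1)) F) := hker (MonoidHom.mem_ker.mpr h1)
    rw [Subgroup.mem_center_iff] at h5
    have h6 := h5 (slReindex e (jH A))
    rw [← map_mul, ← map_mul] at h6
    have h7 := slReindex_injective e h6
    rw [jH_mul_iQ, mul_left_inj] at h7
    have h8 := iQ_injective h7
    apply hvw
    have h9 := congrArg Multiplicative.toAdd h8
    rw [αH_apply, toAdd_ofAdd, toAdd_ofAdd, hA] at h9
    exact h9.symm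
  obtain ⟨x₀, hx₀⟩ := hex
  have key := Cfsg.Agent.Lib.Helper40.card_sub_one_le_finrank (L := L) R iQ jH αH
    (fun h x => jH_mul_iQ h x) ?_ hQL x₀ hx₀
  · rw [hcardQ, Module.finrank_fin_fun] at key
    exact key
  · intro x y hx hy
    obtain ⟨A, hA⟩ := exists_sl_mulVec_eq hm (Multiplicative.toAdd x) (Multiplicative.toAdd y)
      (fun h => hx (Multiplicative.toAdd.injective h))
      (fun h => hy (Multiplicative.toAdd.injective h))
    exact ⟨A, by rw [αH_apply, hA, ofAdd_toAdd]⟩

end Cfsg.Agent.S2392
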