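import Cfsg.Statements.S2393
-- import your own Cfsg.Agent.* helpers here
import Mathlib
import Cfsg.Agent.Lib.Helper40.CrossCharOrbit

set_option autoImplicit false
open scoped MatrixGroups
open Cfsg

namespace Cfsg.Agent.S2393

set_option linter.unusedSectionVars false
open Matrix Cfsg.Agent.Lib.Helper40

section mats
variable {F : Type*} [Field F] {l : Type*} [Fintype l] [DecidableEq l]

/-- the symmetric matrix `e_o uᵀ + u e_oᵀ` -/
def Sm (o : l) (u : l → F) : Matrix l l F :=
  vecMulVec (Pi.single o 1) u + vecMulVec u (Pi.single o 1)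

theorem Sm_transpose (o : l) (u : l → F) : (Sm o u)ᵀ = Sm o u := by
  rw [Sm, transpose_add, transpose_vecMulVec, transpose_vecMulVec, add_comm]

theorem Sm_add (o : l) (u v : l → F) : Sm o (u + v) = Sm o u + Sm o v := by
  rw [Sm, Sm, Sm, vecMulVec_add, add_vecMulVec]
  abel

theorem Sm_zero (o : l) : Sm o (0 : l → F) = 0 := by
  rw [Sm, vecMulVec_zero, zero_vecMulVec, add_zero]

theorem Sm_apply_o (o : l) (u : l → F) (j : l) :
    Sm o u o j = u j + u o * (if j = o then 1 else 0) := by
  rw [Sm, Matrix.add_apply, vecMulVec_apply, vecMulVec_apply, Pi.single_eq_same, one_mul,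
    Pi.single_apply]

theorem Sm_injective (h2 : (2 : F) ≠ 0) (o : l) (u v : l → F) (h : Sm o u = Sm o v) : u = v := by
  have h1 : ∀ j, Sm o u o j = Sm o v o j := fun j => by rw [h]
  have ho : u o = v o := by
    have := h1 o
    rw [Sm_apply_o, Sm_apply_o, if_pos rfl, mul_one, mul_one, ← two_mul, ← two_mul] at this
    exact mul_left_cancel₀ h2 this
  funext j
  have := h1 j
  rw [Sm_apply_o, Sm_apply_o, ho] at this
  exact add_right_cancel this

/-- conjugating `Sm` -/
theorem mul_Sm_mul (o : l) (g : Matrix l l F) (u : l → F) :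
    g * Sm o u * gᵀ = vecMulVec (g *ᵥ Pi.single o 1) (g *ᵥ u)
      + vecMulVec (g *ᵥ u) (g *ᵥ Pi.single o 1) := by
  rw [Sm, mul_add, add_mul, mul_vecMulVec, mul_vecMulVec, vecMulVec_mul, vecMulVec_mul,
    vecMul_transpose, vecMul_transpose]

/-- the upper unitriangular elements -/
def aMat (o : l) (u : l → F) : Matrix (l ⊕ l) (l ⊕ l) F := fromBlocks 1 (Sm o u) 0 1

theorem aMat_mem (o : l) (u : l → F) : aMat o u ∈ symplecticGroup l F := by
  rw [aMat, SymplecticGroup.fromBlocks_mem_iff]
  refine ⟨by simp, ?_, by simp⟩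
  rw [Sm_transpose, mul_one, transpose_one, one_mul]

theorem aMat_mul (o : l) (u v : l → F) : aMat o u * aMat o v = aMat o (u + v) := by
  rw [aMat, aMat, aMat, fromBlocks_multiply, Sm_add]
  simp [add_comm]

/-- the abelian unipotent subgroup as a homomorphism -/
def iQ (o : l) : Multiplicative (l → F) →* ↥(symplecticGroup l F) where
  toFun u := ⟨aMat o (Multiplicative.toAdd u), aMat_mem o _⟩
  map_one' := by
    apply Subtype.ext
    change aMat o (0 : l → F) = 1
    rw [aMat, Sm_zero, fromBlocks_one]
  map_mul' u v := by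
    apply Subtype.ext
    change aMat o (Multiplicative.toAdd u + Multiplicative.toAdd v) = _
    rw [← aMat_mul]
    rfl

theorem iQ_val (o : l) (u : Multiplicative (l → F)) :
    ((iQ o u : ↥(symplecticGroup l F)) : Matrix (l ⊕ l) (l ⊕ l) F) =
      aMat o (Multiplicative.toAdd u) := rfl

/-- the Levi elements -/
noncomputable def dMat (g : Matrix l l F) : Matrix (l ⊕ l) (l ⊕ l) F := fromBlocks g 0 0 (g⁻¹)ᵀ

theorem dMat_mem (g : Matrix l l F) (hg : IsUnit g.det) : dMat g ∈ symplecticGroup l F := by
  rw [dMat, SymplecticGroup.fromBlocks_mem_iff]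
  refine ⟨by simp, by simp, ?_⟩
  rw [transpose_zero, zero_mul, sub_zero, ← transpose_mul, nonsing_inv_mul _ hg, transpose_one]

theorem dMat_mul_aMat (o : l) (g : Matrix l l F) (hg : IsUnit g.det) (u u' : l → F)
    (h : g * Sm o u * gᵀ = Sm o u') : dMat g * aMat o u = aMat o u' * dMat g := by
  rw [dMat, aMat, aMat, fromBlocks_multiply, fromBlocks_multiply]
  congr 1
  · simp
  · rw [Matrix.zero_mul, add_zero, Matrix.mul_zero, zero_add, ← h, Matrix.mul_assoc,
      ← transpose_mul, nonsing_inv_mul _ hg, transpose_one, Matrix.mul_one]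
  · simp
  · simp

end mats

section gw
variable {F : Type*} [Field F] {l : Type*} [Fintype l] [DecidableEq l]

/-- the element `1 + e_o wᵀ` -/
def gW (o : l) (w : l → F) : Matrix l l F := 1 + vecMulVec (Pi.single o 1) w

theorem gW_mulVec (o : l) (w x : l → F) :
    gW o w *ᵥ x = x + (w ⬝ᵥ x) • Pi.single o 1 := by
  rw [gW, add_mulVec, one_mulVec, vecMulVec_mulVec, op_smul_eq_smul]

theorem gW_det (o : l) (w : l → F) : (gW o w).det = 1 + w o := by
  rw [gW, vecMulVec_eq Unit, det_one_add_replicateCol_mul_replicateRow, dotProduct_single, mul_one]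

/-- the induced map on the parameters of the unipotent subgroup -/
def gam (o : l) (w : l → F) : (l → F) →ₗ[F] (l → F) := (1 + w o) • Matrix.mulVecLin (gW o w)

theorem gam_apply (o : l) (w u : l → F) :
    gam o w u = (1 + w o) • (u + (w ⬝ᵥ u) • Pi.single o 1) := by
  rw [gam, LinearMap.smul_apply, Matrix.mulVecLin_apply, gW_mulVec]

theorem gW_conj (o : l) (w u : l → F) :
    gW o w * Sm o u * (gW o w)ᵀ = Sm o (gam o w u) := by
  have he : gW o w *ᵥ Pi.single o 1 = (1 + w o) • (Pi.single o 1 : l → F) := by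
    rw [gW_mulVec, dotProduct_single, mul_one, add_smul, one_smul]
  rw [mul_Sm_mul, he, Sm, gam, LinearMap.smul_apply, Matrix.mulVecLin_apply, smul_vecMulVec,
    vecMulVec_smul, vecMulVec_smul, smul_vecMulVec]

theorem gam_smul_single_o (o : l) (w : l → F) (c : F) :
    gam o w (c • Pi.single o 1) = ((1 + w o) ^ 2 * c) • (Pi.single o 1 : l → F) := by
  rw [gam_apply, dotProduct_smul, dotProduct_single, mul_one, smul_eq_mul, ← add_smul, smul_smul]
  congr 1
  ring

theorem gam_smul_single (o : l) (w : l → F) (c : F) (j : l) :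
    gam o w (c • Pi.single j 1) = ((1 + w o) * c) • (Pi.single j 1 : l → F)
      + ((1 + w o) * c * w j) • (Pi.single o 1 : l → F) := by
  rw [gam_apply, dotProduct_smul, dotProduct_single, mul_one, smul_eq_mul, smul_add, smul_smul,
    smul_smul]
  congr 2
  ring

/-- `gam` as an endomorphism of the multiplicative group -/
def gamM (o : l) (w : l → F) : Multiplicative (l → F) →* Multiplicative (l → F) :=
  AddMonoidHom.toMultiplicative (gam o w).toAddMonoidHom

theorem gamM_apply (o : l) (w : l → F) (u : Multiplicative (l → F)) :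
    gamM o w u = Multiplicative.ofAdd (gam o w (Multiplicative.toAdd u)) := rfl

end gw

section chars
variable {F : Type*} [Field F] {l : Type*} [Fintype l] [DecidableEq l] {L : Type*} [Field L]

/-- the additive character of `F` attached to a character of the unipotent subgroup -/
def lam (o : l) (χ : Multiplicative (l → F) →* Lˣ) (c : F) : Lˣ :=
  χ (Multiplicative.ofAdd (c • (Pi.single o 1 : l → F)))

theorem lam_sub (o : l) (χ : Multiplicative (l → F) →* Lˣ) (a b : F) :
    lam o χ (a - b) = lam o χ a / lam o χ b := by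
  rw [lam, sub_smul, ofAdd_sub, map_div]
  rfl

theorem eq_of_lam (o : l) (χ : Multiplicative (l → F) →* Lˣ) (hχ : lam o χ 1 ≠ 1) (a b : F)
    (h : ∀ c, lam o χ (a * c) = lam o χ (b * c)) : a = b := by
  by_contra hab
  apply hχ
  have h1 := h (a - b)⁻¹
  have h2 : a * (a - b)⁻¹ - b * (a - b)⁻¹ = 1 := by
    rw [← sub_mul, mul_inv_cancel₀ (sub_ne_zero.mpr hab)]
  rw [← h2, lam_sub, h1, div_self']

theorem sq_eq_of_comp_eq (o : l) (χ : Multiplicative (l → F) →* Lˣ) (hχ : lam o χ 1 ≠ 1)
    (w w' : l → F) (h : χ.comp (gamM o w) = χ.comp (gamM o w')) :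
    (1 + w o) ^ 2 = (1 + w' o) ^ 2 := by
  apply eq_of_lam o χ hχ
  intro c
  have h1 := congrArg (fun f : Multiplicative (l → F) →* Lˣ =>
    f (Multiplicative.ofAdd (c • (Pi.single o 1 : l → F)))) h
  simp only [MonoidHom.comp_apply, gamM_apply, toAdd_ofAdd, gam_smul_single_o] at h1
  exact h1

theorem eq_of_comp_eq (o : l) (χ : Multiplicative (l → F) →* Lˣ) (hχ : lam o χ 1 ≠ 1)
    (w w' : l → F) (h : χ.comp (gamM o w) = χ.comp (gamM o w')) (ho : w o = w' o)
    (ht : 1 + w o ≠ 0) : w = w' := by
  funext j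
  have key : (1 + w o) * w j = (1 + w o) * w' j := by
    apply eq_of_lam o χ hχ
    intro c
    have h1 := congrArg (fun f : Multiplicative (l → F) →* Lˣ =>
      f (Multiplicative.ofAdd (c • (Pi.single j 1 : l → F)))) h
    simp only [MonoidHom.comp_apply, gamM_apply, toAdd_ofAdd, gam_smul_single, ofAdd_add,
      map_mul] at h1
    rw [← ho] at h1
    have h2 := mul_left_cancel h1
    have e1 : (1 + w o) * w j * c = (1 + w o) * c * w j := by ring
    have e2 : (1 + w o) * w' j * c = (1 + w o) * c * w' j := by ring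
    rw [lam, lam, e1, e2]
    exact h2
  exact mul_left_cancel₀ ht key

end chars


/-- A lower bound for representations in cross characteristic: for `n ≥ 2` and a field `F` with `q` elements, `q` odd, every homomorphism from the symplectic group `Sp_{2n}(F)` to `GL_d(K)`, `K` a field of characteristic different from that of `F`, whose kernel is central has `d ≥ q^(n-1)(q-1)/2`. -/
theorem result {F : Type*} [Field F] [Fintype F] {q : ℕ} (hq : Fintype.card F = q) (hodd : Odd q) (n : ℕ) (hn : 2 ≤ n)
    {K : Type*} [Field K] (hK : ringChar K ≠ ringChar F) {d : ℕ}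
    (ρ : ↥(Matrix.symplecticGroup (Fin n) F) →* GL (Fin d) K) (hker : ρ.ker ≤ Subgroup.center ↥(Matrix.symplecticGroup (Fin n) F)) :
    q ^ (n - 1) * (q - 1) / 2 ≤ d := by
  classical
  subst hq
  -- characteristic data
  obtain ⟨p, hp⟩ := CharP.exists F
  have hpp : p.Prime := CharP.char_is_prime F p
  obtain ⟨k, hk⟩ := FiniteField.card F p
  have hpK : (p : K) ≠ 0 := by
    intro h0
    have h1 : ringChar K ∣ p := ringChar.dvd h0
    rcases (Nat.dvd_prime hpp).mp h1 with h | h
    · exact CharP.ringChar_ne_one h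
    · apply hK
      rw [h]
      exact (ringChar.eq F p).symm
  have h2F : (2 : F) ≠ 0 := by
    apply Ring.two_ne_zero
    intro h2
    have h3 := FiniteField.even_card_of_char_two h2
    have h4 := Nat.odd_iff.mp hodd
    omega
  -- the algebraic closure
  let L := AlgebraicClosure K
  have hinj : Function.Injective (algebraMap K L) := (algebraMap K L).injective
  have hpL : (p : L) ≠ 0 := by
    intro h0
    apply hpK
    apply hinj
    rw [map_natCast, h0, map_zero]
  have hcardQ : Fintype.card (Multiplicative (Fin n → F)) = Fintype.card F ^ n := by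
    rw [Fintype.card_multiplicative, Fintype.card_fun, Fintype.card_fin]
  have hQL : (Fintype.card (Multiplicative (Fin n → F)) : L) ≠ 0 := by
    rw [hcardQ, hk.2, Nat.cast_pow, Nat.cast_pow]
    exact pow_ne_zero _ (pow_ne_zero _ hpL)
  have hexp : NeZero ((Monoid.exponent (Multiplicative (Fin n → F)) : ℕ) : L) := by
    constructor
    intro h0
    apply hQL
    obtain ⟨c, hc⟩ := Group.exponent_dvd_card (G := Multiplicative (Fin n → F))
    rw [hc, Nat.cast_mul, h0, zero_mul]
  have hroots : HasEnoughRootsOfUnity L (Monoid.exponent (Multiplicative (Fin n → F))) :=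
    inferInstance
  let o : Fin n := ⟨0, by omega⟩
  let R' : ↥(Matrix.symplecticGroup (Fin n) F) →* Module.End L (Fin d → L) := endOfGL L ρ
  let R : Multiplicative (Fin n → F) →* Module.End L (Fin d → L) := R'.comp (iQ o)
  -- a non-central element
  let x₀ : Multiplicative (Fin n → F) := Multiplicative.ofAdd (Pi.single o 1)
  have hx₀ : R x₀ ≠ 1 := by
    intro hR
    have h1 : ρ (iQ o x₀) = 1 := eq_one_of_endOfGL_eq_one L ρ _ hR
    have h5 : iQ o x₀ ∈ Subgroup.center ↥(Matrix.symplecticGroup (Fin n) F) :=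
      hker (MonoidHom.mem_ker.mpr h1)
    rw [Subgroup.mem_center_iff] at h5
    have h6 := h5 (SymplecticGroup.symJ (Fin n) F)
    have h7 : J (Fin n) F * aMat o (Pi.single o 1) = aMat o (Pi.single o 1) * J (Fin n) F :=
      congrArg Subtype.val h6
    rw [J, aMat, fromBlocks_multiply, fromBlocks_multiply] at h7
    have h8 := (fromBlocks_inj.mp h7).1
    have h9 := congrFun (congrFun h8 o) o
    simp only [Matrix.mul_zero, add_zero, Matrix.zero_apply, Matrix.add_apply, Sm_apply_o,
      if_pos, Pi.single_eq_same, mul_one, zero_add] at h9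
    apply h2F
    rw [← one_add_one_eq_two]
    exact h9.symm
  obtain ⟨χ₀, hχ₀, v₀, hv₀, hev⟩ := exists_eigen_apply_ne_one hQL R x₀ hx₀
  have hlam : lam o χ₀ 1 ≠ 1 := by
    rw [lam, one_smul]
    exact hχ₀
  -- the parameter set
  let s : Fin n → Finset F := fun j => if j = o then Finset.univ.erase (-1) else Finset.univ
  let W : Finset (Fin n → F) := Fintype.piFinset s
  have hW : ∀ w ∈ W, 1 + w o ≠ 0 := by
    intro w hw h0
    have h1 := Fintype.mem_piFinset.mp hw o
    simp only [s, if_pos] at h1
    apply (Finset.mem_erase.mp h1).1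
    exact (neg_eq_of_add_eq_zero_right h0).symm
  have hWcard : W.card = (Fintype.card F - 1) * Fintype.card F ^ (n - 1) := by
    rw [Fintype.card_piFinset, ← Finset.mul_prod_erase Finset.univ _ (Finset.mem_univ o)]
    congr 1
    · simp only [s, if_pos]
      rw [Finset.card_erase_of_mem (Finset.mem_univ _), Finset.card_univ]
    · rw [Finset.prod_congr rfl (fun j hj => by
        simp only [s, if_neg (Finset.ne_of_mem_erase hj)]
        exact Finset.card_univ), Finset.prod_const, Finset.card_erase_of_mem (Finset.mem_univ _),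
        Finset.card_univ, Fintype.card_fin]
  have key := card_le_mul_finrank_of_fibers R W (fun w => χ₀.comp (gamM o w)) 2 ?_ ?_
  · rw [hWcard, Module.finrank_fin_fun] at key
    apply Nat.div_le_of_le_mul
    rw [mul_comm]
    exact key
  · intro w hw
    have hdet : IsUnit (gW o w).det := by
      rw [gW_det]
      exact IsUnit.mk0 _ (hW w hw)
    let D : ↥(Matrix.symplecticGroup (Fin n) F) := ⟨dMat (gW o w), dMat_mem _ hdet⟩
    have hD : ∀ a, D * iQ o a = iQ o (gamM o w a) * D := fun a =>
      Subtype.ext (dMat_mul_aMat o _ hdet _ _ (gW_conj o w _))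
    exact ⟨_, eigen_conj R' (iQ o) (gamM o w) D hD χ₀ v₀ hv₀ hev⟩
  · intro w₀ hw₀ T hT
    have hsub : ∀ w ∈ T, w o ∈ ({w₀ o, -2 - w₀ o} : Finset F) := by
      intro w hw
      obtain ⟨hwW, hΦ⟩ := hT w hw
      have hsq := sq_eq_of_comp_eq o χ₀ hlam w w₀ hΦ
      rw [Finset.mem_insert, Finset.mem_singleton]
      rcases sq_eq_sq_iff_eq_or_eq_neg.mp hsq with h | h
      · left
        linear_combination h
      · right
        linear_combination h
    have hinj : Set.InjOn (fun w : Fin n → F => w o) (T : Set (Fin n → F)) := by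
      intro w hw w' hw' h
      exact eq_of_comp_eq o χ₀ hlam w w' ((hT w hw).2.trans (hT w' hw').2.symm) h
        (hW w (hT w hw).1)
    calc T.card ≤ ({w₀ o, -2 - w₀ o} : Finset F).card :=
          Finset.card_le_card_of_injOn _ hsub hinj
      _ ≤ 2 := Finset.card_le_two

end Cfsg.Agent.S2393
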