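import Cfsg.Statements.S2394
import Cfsg.Agent.Lib.Helper5.SymplecticOrder
import Cfsg.Agent.Lib.Helper99.Zsigmondy
-- import your own Cfsg.Agent.* helpers here

set_option autoImplicit false
open scoped MatrixGroups
open Cfsg

namespace Cfsg.Agent.S2394

/-- The order of `Sp_{2n}(q)` divides the order of `GL_d(q)` when there is an embedding. -/
theorem key_dvd {F : Type*} [Field F] [Fintype F] (n : ℕ) {d : ℕ}
    (ρ : ↥(Matrix.symplecticGroup (Fin n) F) →* GL (Fin d) F) (hρ : Function.Injective ρ) :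
    Fintype.card F ^ (n ^ 2) * ∏ i ∈ Finset.range n, (Fintype.card F ^ (2 * (i + 1)) - 1) ∣
      ∏ i : Fin d, (Fintype.card F ^ d - Fintype.card F ^ (i : ℕ)) := by
  rw [← Cfsg.Agent.Lib.Helper5.card_symplecticGroup, ← Matrix.card_GL_field]
  exact Subgroup.card_dvd_of_injective ρ hρ

/-- The `GL_d(q)` order product is positive. -/
theorem gl_prod_pos (q d : ℕ) (hq : 2 ≤ q) : 0 < ∏ i : Fin d, (q ^ d - q ^ (i : ℕ)) := by
  apply Finset.prod_pos
  intro i _
  have : q ^ (i : ℕ) < q ^ d := Nat.pow_lt_pow_right (by omega) i.2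
  omega

/-- Pure arithmetic: if the order of `Sp_{2n}(q)` divides the order of `GL_d(q)` then `2n ≤ d`. -/
theorem arith (q n d : ℕ) (hq : 2 ≤ q)
    (h : q ^ (n ^ 2) * ∏ i ∈ Finset.range n, (q ^ (2 * (i + 1)) - 1) ∣
      ∏ i : Fin d, (q ^ d - q ^ (i : ℕ))) : 2 * n ≤ d := by
  by_contra hlt
  push Not at hlt
  have hpos := gl_prod_pos q d hq
  rcases Nat.lt_or_ge n 2 with hn2 | hn2
  · -- n = 1
    have hn1 : n = 1 := by omega
    subst hn1
    have hle := Nat.le_of_dvd hpos h
    have hd : d = 0 ∨ d = 1 := by omega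
    have hq2 : 4 ≤ q ^ 2 := by nlinarith
    have hqq : q ≤ q * (q ^ 2 - 1) := Nat.le_mul_of_pos_right _ (by omega)
    rcases hd with rfl | rfl
    · simp at hle
      omega
    · simp at hle
      omega
  · by_cases h6 : q = 2 ∧ 2 * n = 6
    · obtain ⟨rfl, h6⟩ := h6
      have hn3 : n = 3 := by omega
      subst hn3
      have hd : d ≤ 5 := by omega
      interval_cases d <;>
        norm_num [Finset.prod_range_succ, Fin.prod_univ_succ] at h
    · obtain ⟨r, hr, hrd, hprim⟩ := Cfsg.Agent.Lib.Helper99.zsigmondy q (2 * n) (by omega) (by omega) h6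
        (by omega)
      have hr1 : r ∣ q ^ (n ^ 2) * ∏ i ∈ Finset.range n, (q ^ (2 * (i + 1)) - 1) := by
        apply Dvd.dvd.mul_left
        have hmem : n - 1 ∈ Finset.range n := by simp; omega
        refine dvd_trans ?_ (Finset.dvd_prod_of_mem _ hmem)
        have : 2 * (n - 1 + 1) = 2 * n := by omega
        rw [this]
        exact hrd
      have hr2 := dvd_trans hr1 h
      obtain ⟨i, _, hi⟩ := (Prime.dvd_finsetProd_iff hr.prime _).mp hr2
      have hsplit : q ^ d - q ^ (i : ℕ) = q ^ (i : ℕ) * (q ^ (d - i) - 1) := by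
        rw [Nat.mul_sub, mul_one, ← pow_add]
        congr 2
        have := i.2
        omega
      rw [hsplit] at hi
      rcases (Nat.Prime.dvd_mul hr).mp hi with hi | hi
      · have hrq : r ∣ q := hr.dvd_of_dvd_pow hi
        have hrq' : r ∣ q ^ (2 * n) := dvd_trans hrq (dvd_pow_self q (by omega))
        have hge : 1 ≤ q ^ (2 * n) := Nat.one_le_pow _ _ (by omega)
        have h1 : r ∣ 1 := by
          have := Nat.dvd_sub hrq' hrd
          have e : q ^ (2 * n) - (q ^ (2 * n) - 1) = 1 := by omega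
          rwa [e] at this
        exact hr.one_lt.ne' (Nat.dvd_one.mp h1)
      · have := i.2
        exact hprim (d - i) (by omega) (by omega) hi

/-- The smallest degree of a faithful representation of the symplectic group `Sp_{2n}(q)` over its own field `F_q` is `2n`: every injective homomorphism from `Sp_{2n}(F)` to `GL_d(F)`, `F` the field with `q` elements, has `d ≥ 2n`. -/
theorem result {F : Type*} [Field F] [Fintype F] (n : ℕ) {d : ℕ}
    (ρ : ↥(Matrix.symplecticGroup (Fin n) F) →* GL (Fin d) F) (hρ : Function.Injective ρ) : 2 * n ≤ d := by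
  have hq : 2 ≤ Fintype.card F := Fintype.one_lt_card
  exact arith _ n d hq (key_dvd n ρ hρ)

end Cfsg.Agent.S2394
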