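-- Statement S2399 (projective representations in the natural characteristic lift to the group presented by (R1), (R2)).
-- helper60, project STEINBERG phase 3c (sheet Cfsg/Agent/Lib/Helper60/ST3_MODULES.md): |K| > 4 by S2398 (Theorem 10);
-- |K| ≤ 4 by Steinberg's p-element argument (modules P-[...]).
import Cfsg.Statements.S2399
import Cfsg.Agent.Lib.Helper60.St4Split
import Cfsg.Agent.Lib.Helper60.St4Cover
import Cfsg.Agent.Lib.Helper80.St3PScalar
import Cfsg.Agent.Lib.Helper60.St4PUbar
import Cfsg.Agent.Lib.Helper35.StMain2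
import Cfsg.Agent.Lib.Helper35.StCover
import Cfsg.Agent.Lib.Helper89.St3Idx
import Cfsg.Agent.Lib.Helper89.St3WSym
import Cfsg.Agent.S2395
import Cfsg.Agent.S2398

set_option autoImplicit false
open Cfsg

namespace Cfsg.Agent.S2399

open Cfsg.Lie Cfsg.Agent.Lib.Helper35.St Cfsg.Agent.Lib.Helper60.St3

/-- Projective representations in the natural characteristic lift: for each of the types G₂, B₂, D₄, F₄, E₆, E₇, E₈ over any field `K` (for types B₂ and G₂ the field must have more than two elements — the cases where the Chevalley group is not simple are set aside), every homomorphism from the Chevalley group to `PGL_n(L) = GL_n(L)/Z`, `L` a field of the same characteristic as `K`, lifts uniquely to a homomorphism from the group Δ presented by (R1), (R2) to `GL_n(L)`, compatibly with the projection Δ → Chevalley group sending x̄_r(t) to x_r(t). -/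
theorem result {K : Type*} [Field K] (D : Cfsg.Lie.ChevalleyDatum) (hD : D ∈ [Cfsg.Lie.chevG2, Cfsg.Lie.chevB2, Cfsg.Lie.chevD4, Cfsg.Lie.chevF4, Cfsg.Lie.chevE6, Cfsg.Lie.chevE7, Cfsg.Lie.chevE8]) (hK : D ∈ [Cfsg.Lie.chevB2, Cfsg.Lie.chevG2] → ∃ x : K, x ≠ 0 ∧ x ≠ 1)
    (θ : D.SteinbergCover K →* ↥(D.group K))
    (hθ : ∀ (r : ℕ) (t : K), r < D.nroots → ((θ (D.scGen K r t) : GL D.Idx K) : Matrix D.Idx D.Idx K) = D.x K r t)
    {L : Type*} [Field L] (hL : ringChar L = ringChar K) {n : ℕ}
    (φ : ↥(D.group K) →* GL (Fin n) L ⧸ Subgroup.center (GL (Fin n) L)) :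
    ∃! ψ : D.SteinbergCover K →* GL (Fin n) L, (QuotientGroup.mk' (Subgroup.center (GL (Fin n) L))).comp ψ = φ.comp θ := by
  have hq : Function.Surjective (QuotientGroup.mk' (Subgroup.center (GL (Fin n) L))) :=
    QuotientGroup.mk'_surjective _
  have hcq : (QuotientGroup.mk' (Subgroup.center (GL (Fin n) L))).ker ≤ Subgroup.center (GL (Fin n) L) := by
    rw [QuotientGroup.ker_mk']
  have hperf : commutator (D.SteinbergCover K) = ⊤ := Cfsg.Agent.S2395.result D hD hK
  have hex : ∃ ψ : D.SteinbergCover K →* GL (Fin n) L,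
      (QuotientGroup.mk' (Subgroup.center (GL (Fin n) L))).comp ψ = φ.comp θ := by
    by_cases hK5 : ∃ s : Finset K, 4 < s.card
    · obtain ⟨τ, hτ, -⟩ := Cfsg.Agent.S2398.result hK5 D hD _ hq hcq (φ.comp θ)
      exact ⟨τ, hτ⟩
    · have hfinK : Finite K := by
        by_contra hinf
        rw [not_finite_iff_infinite] at hinf
        obtain ⟨s, hs⟩ := Infinite.exists_subset_card_eq K 5
        exact hK5 ⟨s, by omega⟩
      have hp : (ringChar K).Prime := CharP.char_is_prime K (ringChar K)
      have : Fact (ringChar K).Prime := ⟨hp⟩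
      have : CharP L (ringChar K) := hL ▸ ringChar.charP L
      have tf : TF D := tf_main hD
      have hlt : TermLt D := Cfsg.Agent.Lib.Helper89.St3.termLt_of_mem hD
      have hfinG : Finite (GL D.Idx K) := inferInstance
      have hfinC : Finite (commutator (D.SteinbergCover K)) :=
        Cfsg.Agent.Lib.Helper80.St3.finite_commutator_of_central (coverModel (K := K) hD).π
          (ker_le_center_main _ hD (coverModel_gen hD))
      have hfinΔ : Finite (D.SteinbergCover K) := by
        rw [hperf] at hfinC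
        exact Finite.of_equiv _ Subgroup.topEquiv.toEquiv
      have hpp : ∀ x ∈ (QuotientGroup.mk' (Subgroup.center (GL (Fin n) L))).ker, x ^ (ringChar K) = 1 → x = 1 := by
        intro x hx hxp
        exact Cfsg.Agent.Lib.Helper80.St3.center_pow_eq_one (ringChar K) x (hcq hx) hxp
      apply lift_exists_of_pb_splitting D hlt
      obtain ⟨z, hz1, hz2, hz3⟩ := exists_splitting_pprime (ringChar K) (coverModel (K := K) hD) tf (act_main _ hD) hperf
        (isPGroup_Ubar hD (ringChar K) _ (injPos_main _ hD))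
        (Cfsg.Agent.Lib.Helper89.St3.idxLvl_of_mem hD) hlt (Cfsg.Agent.Lib.Helper89.St3.wSym_of_mem hD)
        (Cfsg.Agent.Lib.Helper89.St3.longest_of_mem hD)
        (pbHom (QuotientGroup.mk' (Subgroup.center (GL (Fin n) L))) (φ.comp θ))
        (pbHom_surjective _ _ hq) (pbHom_ker_le_center _ _ hcq) (pbHom_ker_pow _ _ _ hpp)
      exact ⟨z, fun s hs t => hz1 s hs t, hz2, hz3⟩
  obtain ⟨ψ, hψ⟩ := hex
  exact ⟨ψ, hψ, fun ψ' hψ' => lift_unique_of_perfect hperf _ hcq ψ' ψ (hψ'.trans hψ.symm)⟩

end Cfsg.Agent.S2399
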