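import Cfsg.Statements.S2400
import Cfsg.Agent.Lib.Helper35.SmallBD
import Cfsg.Agent.Lib.Helper35.SteinThm10
import Cfsg.Agent.Lib.Helper35.SteinCert
import Cfsg.Agent.Lib.Helper60.St3Schur
import Cfsg.Agent.Lib.Helper80.St3PSchurFin
import Cfsg.Agent.S2395
import Cfsg.Agent.S2397
import Cfsg.Agent.S2398

set_option autoImplicit false
open Cfsg

namespace Cfsg.Agent.S2400

open Cfsg.Lie Cfsg.Agent.Lib.Helper35.St Cfsg.Agent.Lib.Helper35.Stein Cfsg.Agent.Lib.Helper35.Small

universe u

/-- The trivial Schur multiplier of the Steinberg group from Theorem 10 for the group presented by (R1), (R2). -/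
theorem schur_of_thm10 {K : Type u} [Field K] [Fintype K] (D : ChevalleyDatum)
    (hD : D ∈ [chevG2, chevB2, chevD4, chevF4, chevE6, chevE7, chevE8])
    (hKv : D ∈ [chevB2, chevG2] → ∃ x : K, x ≠ 0 ∧ x ≠ 1)
    (h10 : ∀ (Γ : Type u) [Group Γ] (σ : Γ →* D.SteinbergGroup K), Function.Surjective σ →
      σ.ker ≤ Subgroup.center Γ → ∀ Φ : D.SteinbergCover K →* D.SteinbergGroup K,
        ∃ τ : D.SteinbergCover K →* Γ, σ.comp τ = Φ) :
    Cfsg.HasCyclicSchurMultiplier (D.SteinbergGroup K) 1 := by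
  obtain ⟨e, -⟩ := Cfsg.Agent.S2397.result (K := K) D hD hKv
  have hperf : commutator (D.SteinbergCover K) = ⊤ := Cfsg.Agent.S2395.result D hD hKv
  have hfinG : Finite (GL D.Idx K) := inferInstance
  have hfinC : Finite (commutator (D.SteinbergCover K)) :=
    Cfsg.Agent.Lib.Helper80.St3.finite_commutator_of_central (coverModel (K := K) hD).π
      (ker_le_center_main _ hD (coverModel_gen hD))
  have hfinΔ : Finite (D.SteinbergCover K) := by
    rw [hperf] at hfinC
    exact Finite.of_equiv _ Subgroup.topEquiv.toEquiv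
  have hfinSt : Finite (D.SteinbergGroup K) := Finite.of_equiv _ e.toEquiv
  refine Cfsg.Agent.Lib.Helper60.St3.hasCyclicSchurMultiplier_one_of_lift e.toMonoidHom e.bijective ?_
  intro Γ _ σ hσ hc
  exact h10 Γ σ hσ hc e.toMonoidHom

/-- Over a finite field `K`, the group presented by Steinberg's relators (R1)–(R3) (the universal Chevalley group) of type E₆ or E₇, or of type B₂ or D₄ with `K` of more than two elements, has trivial Schur multiplier: every finite stem extension of it is an isomorphism (Schur multiplier described through stem extensions as in the definitions). Types G₂, F₄ and E₈ are not covered here. -/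
theorem result {K : Type*} [Field K] [Fintype K] (e : Cfsg.Lie.ChevalleyDatum × ℕ)
    (he : e ∈ [(Cfsg.Lie.chevE6, 0), (Cfsg.Lie.chevE7, 0), (Cfsg.Lie.chevB2, 2), (Cfsg.Lie.chevD4, 2)]) (hK : Fintype.card K ≠ e.2) :
    Cfsg.HasCyclicSchurMultiplier (e.1.SteinbergGroup K) 1 := by
  have hcard2 : 2 ≤ Fintype.card K := by
    have := Fintype.one_lt_card (α := K)
    omega
  have hK5 : 5 ≤ Fintype.card K → ∃ s : Finset K, 4 < s.card := fun h =>
    ⟨Finset.univ, by rw [Finset.card_univ]; omega⟩
  simp only [List.mem_cons, List.not_mem_nil, or_false] at he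
  rcases he with rfl | rfl | rfl | rfl
  · -- `E₆`
    have hm : chevE6 ∈ [chevE6, chevE7, chevE8] := by simp
    refine schur_of_thm10 chevE6 (mem_seven_of_mem hm) (fun h => absurd h (not_mem_of_mem hm)) ?_
    intro Γ _ σ hσ hc Φ
    obtain ⟨τ, hτ, -⟩ := thm10_of_cert (K := K) (mem_seven_of_mem hm) (not_mem_of_mem hm) (slCert_of_mem hm)
      σ hσ hc Φ
    exact ⟨τ, hτ⟩
  · -- `E₇`
    have hm : chevE7 ∈ [chevE6, chevE7, chevE8] := by simp
    refine schur_of_thm10 chevE7 (mem_seven_of_mem hm) (fun h => absurd h (not_mem_of_mem hm)) ?_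
    intro Γ _ σ hσ hc Φ
    obtain ⟨τ, hτ, -⟩ := thm10_of_cert (K := K) (mem_seven_of_mem hm) (not_mem_of_mem hm) (slCert_of_mem hm)
      σ hσ hc Φ
    exact ⟨τ, hτ⟩
  · -- `B₂`, more than two elements
    have hK' : Fintype.card K ≠ 2 := hK
    have hKv : chevB2 ∈ [chevB2, chevG2] → ∃ x : K, x ≠ 0 ∧ x ≠ 1 := by
      intro _
      by_contra hne
      have hall : ∀ x : K, x = 0 ∨ x = 1 := by
        intro x
        by_contra hx
        exact hne ⟨x, fun h => hx (Or.inl h), fun h => hx (Or.inr h)⟩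
      have hle : Fintype.card K ≤ 2 := by
        classical
        have hsub : (Finset.univ : Finset K) ⊆ {0, 1} := by
          intro x _
          rcases hall x with rfl | rfl <;> simp
        calc Fintype.card K = (Finset.univ : Finset K).card := Finset.card_univ.symm
          _ ≤ ({0, 1} : Finset K).card := Finset.card_le_card hsub
          _ ≤ 2 := Finset.card_le_two
      omega
    refine schur_of_thm10 chevB2 B2_mem hKv ?_
    intro Γ _ σ hσ hc Φ
    by_cases h5 : 5 ≤ Fintype.card K
    · obtain ⟨τ, hτ, -⟩ := Cfsg.Agent.S2398.result (hK5 h5) chevB2 B2_mem σ hσ hc Φ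
      exact ⟨τ, hτ⟩
    · have h34 : Fintype.card K = 3 ∨ Fintype.card K = 4 := by omega
      obtain ⟨τ, hτ, -⟩ := thm10_B2_small h34 σ hσ hc Φ
      exact ⟨τ, hτ⟩
  · -- `D₄`, more than two elements
    have hK' : Fintype.card K ≠ 2 := hK
    have hKv : chevD4 ∈ [chevB2, chevG2] → ∃ x : K, x ≠ 0 ∧ x ≠ 1 := by
      intro h
      exfalso
      simp only [List.mem_cons, List.not_mem_nil, or_false] at h
      rcases h with h | h
      · exact absurd (congrArg ChevalleyDatum.rank h) (by decide)
      · exact absurd (congrArg ChevalleyDatum.rank h) (by decide)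
    refine schur_of_thm10 chevD4 D4_mem hKv ?_
    intro Γ _ σ hσ hc Φ
    by_cases h5 : 5 ≤ Fintype.card K
    · obtain ⟨τ, hτ, -⟩ := Cfsg.Agent.S2398.result (hK5 h5) chevD4 D4_mem σ hσ hc Φ
      exact ⟨τ, hτ⟩
    · have h34 : Fintype.card K = 3 ∨ Fintype.card K = 4 := by omega
      obtain ⟨τ, hτ, -⟩ := thm10_D4_small h34 σ hσ hc Φ
      exact ⟨τ, hτ⟩

end Cfsg.Agent.S2400
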