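import Cfsg.Statements.S2402
import Cfsg.Agent.Lib.Helper40.SteinbergGen
-- import your own Cfsg.Agent.* helpers here

set_option autoImplicit false
open Cfsg

namespace Cfsg.Agent.S2402

/-- Explicit two-element generation of `PSL_{n+1}(K)` for a finite field `K` with more than three elements: let `k` generate the multiplicative group of `K`, `h = diag(k, k⁻¹, 1, …, 1)`, `x = 1 + E₁₂` (the elementary transvection) and `w` the monomial matrix with entries `1` in positions `(i, i+1)` and `(−1)^n` in position `(n+1, 1)`. Then `h` and `x·w` generate `SL_{n+1}(K)` modulo its centre: the subgroup they generate together with the centre is everything. -/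
theorem result {K : Type*} [Field K] [Fintype K] (hK : 3 < Fintype.card K) (n : ℕ) (hn : 1 ≤ n)
    (k : Kˣ) (hk : ∀ u : Kˣ, u ∈ Subgroup.zpowers k)
    (h x w : Matrix.SpecialLinearGroup (Fin (n + 1)) K)
    (hh : (h : Matrix (Fin (n + 1)) (Fin (n + 1)) K) =
      Matrix.diagonal (fun i => if i.val = 0 then (k : K) else if i.val = 1 then ((k⁻¹ : Kˣ) : K) else 1))
    (hx : (x : Matrix (Fin (n + 1)) (Fin (n + 1)) K) = Matrix.transvection (0 : Fin (n + 1)) (1 : Fin (n + 1)) 1)
    (hw : (w : Matrix (Fin (n + 1)) (Fin (n + 1)) K) =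
      Matrix.of (fun i j => if j.val = i.val + 1 then 1 else if i.val = n ∧ j.val = 0 then (-1) ^ n else 0)) :
    Subgroup.closure ({h, x * w} : Set (Matrix.SpecialLinearGroup (Fin (n + 1)) K)) ⊔
      Subgroup.center (Matrix.SpecialLinearGroup (Fin (n + 1)) K) = ⊤ := by
  classical
  open Matrix Matrix.SpecialLinearGroup Cfsg.Agent.Lib.Helper40 in
  open scoped Fin.NatCast Fin.CommRing in
  have h01 : (0 : Fin (n + 1)) ≠ 1 := by
    intro h'
    have := congrArg Fin.val h'
    rw [Fin.val_zero, Fin.val_one', Nat.mod_eq_of_lt (by omega)] at this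
    omega
  have hval1 : (1 : Fin (n + 1)).val = 1 := by
    rw [Fin.val_one', Nat.mod_eq_of_lt (by omega)]
  set G₁ := Subgroup.closure ({h, x * w} : Set (Matrix.SpecialLinearGroup (Fin (n + 1)) K)) with hG₁
  have hhG : h ∈ G₁ := Subgroup.subset_closure (by simp)
  have huG : x * w ∈ G₁ := Subgroup.subset_closure (by simp)
  have hxT : x = Matrix.SpecialLinearGroup.transvection h01 (1 : K) := Subtype.ext hx
  have hwc : (w : Matrix (Fin (n + 1)) (Fin (n + 1)) K) = Cfsg.Agent.Lib.Helper40.cycMat K n := hw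
  -- the diagonal entries
  set d : Fin (n + 1) → K := fun i => if i.val = 0 then (k : K) else if i.val = 1 then ((k⁻¹ : Kˣ) : K) else 1 with hd_def
  have hk0 : (k : K) ≠ 0 := k.ne_zero
  have hkinv : ((k⁻¹ : Kˣ) : K) = (k : K)⁻¹ := by simp
  have hd : ∀ a, d a ≠ 0 := by
    intro a
    simp only [hd_def]
    split_ifs
    · exact hk0
    · exact (k⁻¹).ne_zero
    · exact one_ne_zero
  have hd0 : d 0 = (k : K) := by simp [hd_def]
  have hd1 : d 1 = (k : K)⁻¹ := by
    change (if (1 : Fin (n + 1)).val = 0 then (k : K) else if (1 : Fin (n + 1)).val = 1 then ((k⁻¹ : Kˣ) : K) else 1) = _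
    rw [hval1, if_neg one_ne_zero, if_pos rfl, hkinv]
  -- order of k
  have hord : orderOf k = Fintype.card K - 1 := by
    rw [orderOf_eq_card_of_forall_mem_zpowers hk, Nat.card_eq_fintype_card, Fintype.card_units]
  have hk2 : (k : K) ^ 2 ≠ 1 := by
    intro h2
    have : k ^ 2 = 1 := Units.ext (by simpa using h2)
    have := orderOf_dvd_of_pow_eq_one this
    have := Nat.le_of_dvd (by norm_num) this
    omega
  have hk1 : (k : K) ≠ 1 := fun h1 => hk2 (by rw [h1, one_pow])
  -- y
  set y := h * w * h⁻¹ * w⁻¹ with hy_def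
  set e : Fin (n + 1) → K := fun a => d a * (d (a + 1))⁻¹ with he_def
  have hyD : (y : Matrix (Fin (n + 1)) (Fin (n + 1)) K) = Matrix.diagonal e :=
    Cfsg.Agent.Lib.Helper40.comm_diag h w d hh hwc hd
  have he0 : e 0 = (k : K) ^ 2 := by
    simp only [he_def, zero_add, hd0, hd1, inv_inv]; ring
  have he1ne : e 1 ≠ 0 := mul_ne_zero (hd _) (inv_ne_zero (hd _))
  have he1 : e 1 ≠ 1 := by
    intro h1
    simp only [he_def, hd1] at h1
    have hd2 : d (1 + 1) = (k : K) ∨ d (1 + 1) = 1 := by
      simp only [hd_def]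
      split_ifs with h3 h4
      · left; rfl
      · exfalso
        have hlt : (1 + 1 : Fin (n + 1)).val = if (1 : Fin (n + 1)) = Fin.last n then 0 else 1 + 1 := by
          rw [Fin.val_add_one, hval1]
        split_ifs at hlt <;> omega
      · right; rfl
    rcases hd2 with h2 | h2
    · rw [h2, ← mul_inv, inv_eq_one] at h1
      apply hk2
      rw [pow_two]; exact h1
    · rw [h2, inv_one, mul_one, inv_eq_one] at h1
      exact hk1 h1
  set δ : K := e 0 * (e 1)⁻¹ with hδ_def
  have hkδ : (k : K) ^ 2 ≠ δ := by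
    intro h1
    rw [hδ_def, he0] at h1
    apply he1
    have hk2ne : (k : K) ^ 2 ≠ 0 := pow_ne_zero 2 hk0
    have : (e 1)⁻¹ = 1 := by
      have h2 : (k : K) ^ 2 * 1 = (k : K) ^ 2 * (e 1)⁻¹ := by rw [mul_one]; exact h1
      exact (mul_left_cancel₀ hk2ne h2).symm
    rw [inv_eq_one] at this
    exact this
  have ha : ∀ c : K, h * Matrix.SpecialLinearGroup.transvection h01 c =
      Matrix.SpecialLinearGroup.transvection h01 ((k : K) ^ 2 * c) * h := by
    intro c
    apply Cfsg.Agent.Lib.Helper40.diag_conj h d hh h01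
    rw [hd0, hd1]
    field_simp
  have hb : ∀ c : K, y * Matrix.SpecialLinearGroup.transvection h01 c =
      Matrix.SpecialLinearGroup.transvection h01 (δ * c) * y := by
    intro c
    apply Cfsg.Agent.Lib.Helper40.diag_conj y e hyD h01
    rw [hδ_def]
    field_simp
  have hcomm : h * y = y * h := by
    apply Subtype.ext
    rw [Matrix.SpecialLinearGroup.coe_mul h y, Matrix.SpecialLinearGroup.coe_mul y h, hh, hyD,
      Matrix.diagonal_mul_diagonal, Matrix.diagonal_mul_diagonal]
    congr 1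
    funext a
    exact mul_comm _ _
  have key := Cfsg.Agent.Lib.Helper40.steinberg_comm
    (fun c : K => Matrix.SpecialLinearGroup.transvection h01 c) h y w ((k : K) ^ 2) δ
    (fun a b => Matrix.SpecialLinearGroup.transvection_add h01 a b) ha hb hcomm hy_def
  beta_reduce at key
  have hTb : Matrix.SpecialLinearGroup.transvection h01 (((k : K) ^ 2 - 1) * ((k : K) ^ 2 - δ)) ∈ G₁ := by
    rw [← key, ← hxT]
    have h1 : h * (x * w) * h⁻¹ * (x * w)⁻¹ ∈ G₁ :=
      G₁.mul_mem (G₁.mul_mem (G₁.mul_mem hhG huG) (G₁.inv_mem hhG)) (G₁.inv_mem huG)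
    exact G₁.mul_mem (G₁.mul_mem (G₁.mul_mem hhG h1) (G₁.inv_mem hhG)) (G₁.inv_mem h1)
  set b : K := ((k : K) ^ 2 - 1) * ((k : K) ^ 2 - δ) with hb_def
  have hbne : b ≠ 0 := mul_ne_zero (sub_ne_zero.2 hk2) (sub_ne_zero.2 hkδ)
  -- the additive subgroup S
  let S : AddSubgroup K :=
    { carrier := {c | Matrix.SpecialLinearGroup.transvection h01 c ∈ G₁}
      zero_mem' := by
        simp only [Set.mem_ofPred_eq, Matrix.SpecialLinearGroup.transvection_coeff_zero]
        exact G₁.one_mem
      add_mem' := by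
        intro a c ha' hc'
        simp only [Set.mem_ofPred_eq] at ha' hc' ⊢
        rw [Matrix.SpecialLinearGroup.transvection_add]
        exact G₁.mul_mem ha' hc'
      neg_mem' := by
        intro a ha'
        simp only [Set.mem_ofPred_eq] at ha' ⊢
        rw [← Matrix.SpecialLinearGroup.transvection_inv]
        exact G₁.inv_mem ha' }
  have hSmem : ∀ c, c ∈ S ↔ Matrix.SpecialLinearGroup.transvection h01 c ∈ G₁ := fun c => Iff.rfl
  have hSk : ∀ c, c ∈ S → (k : K) ^ 2 * c ∈ S := by
    intro c hc'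
    rw [hSmem] at hc' ⊢
    have : Matrix.SpecialLinearGroup.transvection h01 ((k : K) ^ 2 * c) =
        h * Matrix.SpecialLinearGroup.transvection h01 c * h⁻¹ := by
      rw [ha, mul_inv_cancel_right]
    rw [this]
    exact G₁.mul_mem (G₁.mul_mem hhG hc') (G₁.inv_mem hhG)
  have hSkinv : ∀ c, c ∈ S → ((k : K) ^ 2)⁻¹ * c ∈ S := by
    intro c hc'
    rw [hSmem] at hc' ⊢
    have h1 := ha (((k : K) ^ 2)⁻¹ * c)
    rw [← mul_assoc, mul_inv_cancel₀ (pow_ne_zero 2 hk0), one_mul] at h1
    have : Matrix.SpecialLinearGroup.transvection h01 (((k : K) ^ 2)⁻¹ * c) =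
        h⁻¹ * Matrix.SpecialLinearGroup.transvection h01 c * h := by
      rw [mul_assoc, ← h1, inv_mul_cancel_left]
    rw [this]
    exact G₁.mul_mem (G₁.mul_mem (G₁.inv_mem hhG) hc') hhG
  have hSz : ∀ (j : ℤ) (c : K), c ∈ S → ((k : K) ^ 2) ^ j * c ∈ S := by
    intro j
    induction j with
    | zero => intro c hc'; simpa using hc'
    | succ j ih =>
      intro c hc'
      have := hSk _ (ih c hc')
      rw [zpow_add_one₀ (pow_ne_zero 2 hk0), mul_comm (((k : K) ^ 2) ^ (j : ℤ)), mul_assoc]
      exact this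
    | pred j ih =>
      intro c hc'
      have := hSkinv _ (ih c hc')
      rw [zpow_sub_one₀ (pow_ne_zero 2 hk0), mul_comm (((k : K) ^ 2) ^ (-(j : ℤ))), mul_assoc]
      exact this
  have hSsq : ∀ (s c : K), c ∈ S → s ^ 2 * c ∈ S := by
    intro s c hc'
    by_cases hs : s = 0
    · rw [hs]; simp only [ne_eq, OfNat.ofNat_ne_zero, not_false_eq_true, zero_pow, zero_mul]
      exact S.zero_mem
    · obtain ⟨j, hj⟩ := Subgroup.mem_zpowers_iff.1 (hk (Units.mk0 s hs))
      have hs' : s = (k : K) ^ j := by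
        have := congrArg Units.val hj
        rw [Units.val_zpow_eq_zpow_val] at this
        simpa using this.symm
      have : s ^ 2 = ((k : K) ^ 2) ^ j := by
        rw [hs', ← zpow_natCast, ← _root_.zpow_mul, ← zpow_natCast, ← _root_.zpow_mul, mul_comm]
      rw [this]
      exact hSz j c hc'
  have hStop : ∀ c : K, c ∈ S := by
    intro c
    obtain ⟨s, t, hst⟩ := Cfsg.Agent.Lib.Helper40.sum_two_sq K (c / b)
    have : c = s ^ 2 * b + t ^ 2 * b := by
      rw [← add_mul, hst, div_mul_cancel₀ _ hbne]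
    rw [this]
    exact S.add_mem (hSsq s b hTb) (hSsq t b hTb)
  have hroot : Cfsg.Agent.Lib.Helper40.RootIn G₁ 0 1 := fun _ c => hStop c
  have hxG : x ∈ G₁ := by rw [hxT]; exact hStop 1
  have hwG : w ∈ G₁ := by
    have : w = x⁻¹ * (x * w) := by rw [inv_mul_cancel_left]
    rw [this]
    exact G₁.mul_mem (G₁.inv_mem hxG) huG
  rw [Cfsg.Agent.Lib.Helper40.eq_top_of_cyc G₁ w hwc hwG hroot, top_sup_eq]

end Cfsg.Agent.S2402
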