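import Cfsg.Statements.S2403
import Cfsg.Agent.Lib.Helper40.CycGen
-- import your own Cfsg.Agent.* helpers here

set_option autoImplicit false
open Cfsg

namespace Cfsg.Agent.S2403


open Matrix Matrix.SpecialLinearGroup Cfsg.Agent.Lib.Helper40 in
theorem natCast_surj {K : Type*} [Field K] [Fintype K] (hK : Fintype.card K ≤ 3) (c : K) :
    ∃ m : ℕ, (m : K) = c := by
  obtain ⟨p, hp⟩ := CharP.exists K
  obtain ⟨k, hprime, hcard⟩ := FiniteField.card K p
  have hk : (k : ℕ) = 1 := by
    by_contra hne
    have h2 : 2 ≤ (k : ℕ) := by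
      have := k.pos
      omega
    have : p ^ 2 ≤ p ^ (k : ℕ) := Nat.pow_le_pow_right hprime.pos h2
    have hp2 := hprime.two_le
    nlinarith
  rw [hk, pow_one] at hcard
  have : Fact p.Prime := ⟨hprime⟩
  let e := ZMod.ringEquivOfPrime K hprime hcard
  refine ⟨(e.symm c).val, ?_⟩
  have h1 : (((e.symm c).val : ℕ) : K) = e (((e.symm c).val : ℕ) : ZMod p) := by
    rw [map_natCast]
  rw [h1, ZMod.natCast_zmod_val, RingEquiv.apply_symm_apply]

open Matrix Matrix.SpecialLinearGroup Cfsg.Agent.Lib.Helper40 in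
theorem transvection_natCast {K : Type*} [Field K] {ι : Type*} [DecidableEq ι] [Fintype ι] {i j : ι}
    (hij : i ≠ j) (m : ℕ) :
    transvection hij ((m : ℕ) : K) = (transvection hij (1 : K)) ^ m := by
  induction m with
  | zero => simp
  | succ m ih => rw [Nat.cast_succ, transvection_add, ih, pow_succ]

/-- Explicit two-element generation of `PSL_{n+1}(K)` over the fields with two or three elements: with `x = 1 + E₁₂` and `w` the monomial matrix with entries `1` in positions `(i, i+1)` and `(−1)^n` in position `(n+1, 1)`, the elements `x` and `w` generate `SL_{n+1}(K)` modulo its centre. -/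
theorem result {K : Type*} [Field K] [Fintype K] (hK : Fintype.card K ≤ 3) (n : ℕ) (hn : 1 ≤ n)
    (x w : Matrix.SpecialLinearGroup (Fin (n + 1)) K)
    (hx : (x : Matrix (Fin (n + 1)) (Fin (n + 1)) K) = Matrix.transvection (0 : Fin (n + 1)) (1 : Fin (n + 1)) 1)
    (hw : (w : Matrix (Fin (n + 1)) (Fin (n + 1)) K) =
      Matrix.of (fun i j => if j.val = i.val + 1 then 1 else if i.val = n ∧ j.val = 0 then (-1) ^ n else 0)) :
    Subgroup.closure ({x, w} : Set (Matrix.SpecialLinearGroup (Fin (n + 1)) K)) ⊔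
      Subgroup.center (Matrix.SpecialLinearGroup (Fin (n + 1)) K) = ⊤ := by
  have h01 : (0 : Fin (n + 1)) ≠ 1 := by
    intro h
    have := congrArg Fin.val h
    rw [Fin.val_zero, Fin.val_one', Nat.mod_eq_of_lt (by omega)] at this
    omega
  have hxT : x = Matrix.SpecialLinearGroup.transvection h01 (1 : K) := Subtype.ext hx
  have hwc : (w : Matrix (Fin (n + 1)) (Fin (n + 1)) K) = Cfsg.Agent.Lib.Helper40.cycMat K n := hw
  have hxG : x ∈ Subgroup.closure ({x, w} : Set (Matrix.SpecialLinearGroup (Fin (n + 1)) K)) :=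
    Subgroup.subset_closure (by simp)
  have hwG : w ∈ Subgroup.closure ({x, w} : Set (Matrix.SpecialLinearGroup (Fin (n + 1)) K)) :=
    Subgroup.subset_closure (by simp)
  have hroot : Cfsg.Agent.Lib.Helper40.RootIn
      (Subgroup.closure ({x, w} : Set (Matrix.SpecialLinearGroup (Fin (n + 1)) K))) 0 1 := by
    intro h c
    obtain ⟨m, rfl⟩ := natCast_surj hK c
    rw [transvection_natCast]
    apply Subgroup.pow_mem
    rw [← hxT]
    exact hxG
  rw [Cfsg.Agent.Lib.Helper40.eq_top_of_cyc _ w hwc hwG hroot, top_sup_eq]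

end Cfsg.Agent.S2403
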