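import Cfsg.Statements.S2410
import Cfsg.Agent.Lib.Helper6.SzSub13

set_option autoImplicit false
open Cfsg

namespace Cfsg.Agent.S2410

open Cfsg.Agent.Lib.Helper6

/-- The Suzuki group over the field with `2^(2m+1)` elements, `m ≥ 1` (realised as the stabiliser in `SL₄` of the Suzuki–Tits ovoid), is generated by two of its elements. -/
theorem result {F : Type*} [Field F] [Fintype F] {m : ℕ} (hm : 1 ≤ m) (hF : Fintype.card F = 2 ^ (2 * m + 1)) :
    ∃ a b : ↥(Cfsg.Sz F m), Subgroup.closure ({a, b} : Set ↥(Cfsg.Sz F m)) = ⊤ := by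
  classical
  have hchar := sz_charP hF
  have hσ : SgSq (F := F) m := sgSq_of_card m hF
  have hsimp : IsSimpleGroup (Cfsg.Sz F m) := Cfsg.Agent.S0325.result hm hF
  obtain ⟨x₁, x₂, hx₁, hx₂, hc₁, -⟩ := sz_fpf_classes hm hF
  set U₁ : Subgroup (Cfsg.Sz F m) := Subgroup.centralizer ({x₁} : Set (Cfsg.Sz F m)) with hU₁def
  have hU₁ : IsSzTorus U₁ := isSzTorus_of_fpf hm hF hx₁
  have hcyc := hU₁.cyclic
  obtain ⟨a, ha⟩ := IsCyclic.exists_generator (α := U₁)
  have hq8 : 8 ≤ 2 ^ (2 * m + 1) := sz_q_ge_eight hm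
  have horda : orderOf (a : Cfsg.Sz F m) = 2 ^ (2 * m + 1) + 2 ^ (m + 1) + 1 := by
    rw [Subgroup.orderOf_coe, orderOf_eq_card_of_forall_mem_zpowers ha, hc₁]
  have hx₁U : x₁ ∈ U₁ := Subgroup.mem_centralizer_singleton_iff.mpr rfl
  have hafpf : ∀ c : suzukiOvoid F m, (a : Cfsg.Sz F m) • c ≠ c := by
    intro c hc
    obtain ⟨n, hn⟩ := Subgroup.mem_zpowers_iff.mp (ha ⟨x₁, hx₁U⟩)
    have hn' : (a : Cfsg.Sz F m) ^ n = x₁ := by
      have := congrArg Subtype.val hn
      simpa using this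
    apply hx₁ c
    rw [← hn']
    have hstab : (a : Cfsg.Sz F m) ∈ MulAction.stabilizer (Cfsg.Sz F m) c := hc
    exact (MulAction.stabilizer (Cfsg.Sz F m) c).zpow_mem hstab n
  -- the involution T(0,1)
  have ht1 : tz hσ (0 : F) 1 ≠ 1 := by
    intro h
    rw [← tz_zero hσ] at h
    exact one_ne_zero (tz_inj hσ h).2
  have ht2 : tz hσ (0 : F) 1 * tz hσ (0 : F) 1 = 1 := by
    rw [tz_sq, zero_mul, tz_zero]
  -- the normaliser of U₁ is proper
  have hNtop : Subgroup.normalizer (U₁ : Set (Cfsg.Sz F m)) ≠ ⊤ := by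
    intro h
    have hn : U₁.Normal := Subgroup.normalizer_eq_top_iff.mp h
    rcases hn.eq_bot_or_eq_top with h0 | h0
    · have : Nat.card U₁ = 1 := by rw [h0]; exact Subgroup.card_bot
      rw [hc₁] at this
      have hpos : 0 < 2 ^ (m + 1) := by positivity
      generalize 2 ^ (2 * m + 1) = Q at *
      generalize 2 ^ (m + 1) = R at *
      omega
    · have htU : tz hσ (0 : F) 1 ∈ U₁ := by rw [h0]; trivial
      have hord : orderOf (tz hσ (0 : F) 1) = 2 := orderOf_eq_prime (by rw [pow_two, ht2]) ht1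
      have := Subgroup.orderOf_dvd_natCard U₁ htU
      rw [hord] at this
      exact hU₁.card_odd this
  obtain ⟨b, hb⟩ : ∃ b : Cfsg.Sz F m, b ∉ Subgroup.normalizer (U₁ : Set (Cfsg.Sz F m)) := by
    by_contra hcon
    push Not at hcon
    exact hNtop (eq_top_iff.mpr fun x _ => hcon x)
  refine ⟨a, b, ?_⟩
  set M : Subgroup (Cfsg.Sz F m) := Subgroup.closure ({(a : Cfsg.Sz F m), b} : Set (Cfsg.Sz F m))
    with hMdef
  have haM : (a : Cfsg.Sz F m) ∈ M := Subgroup.subset_closure (by simp)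
  have hbM : b ∈ M := Subgroup.subset_closure (by simp)
  have haodd : ¬ 2 ∣ orderOf (a : Cfsg.Sz F m) := by
    rw [horda]
    obtain ⟨q', hq'⟩ : 2 ∣ 2 ^ (2 * m + 1) := dvd_pow_self 2 (by omega)
    obtain ⟨r', hr'⟩ : 2 ∣ 2 ^ (m + 1) := dvd_pow_self 2 (by omega)
    rw [hq', hr']
    omega
  have ha1 : (a : Cfsg.Sz F m) ≠ 1 := by
    intro h
    rw [h, orderOf_one] at horda
    generalize 2 ^ (2 * m + 1) = Q at *
    generalize 2 ^ (m + 1) = R at *
    omega
  rcases sz_subgroup_concl hσ hm hF M with ⟨g, hg⟩ | ⟨U, hU, hMU⟩ | ⟨g, K, hK3, hiff⟩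
  · exfalso
    have h1 := hg a haM
    apply hafpf (g⁻¹ • ovInf F m)
    rw [mul_smul, mul_smul] at h1
    exact (smul_eq_iff_eq_inv_smul g).mp h1
  · exfalso
    have haU : (a : Cfsg.Sz F m) ∈ U := hU.mem_of_odd (hMU haM) haodd
    have hUU : U = U₁ := hU.eq_of_mem hU₁ haU a.2 ha1
    exact hb (hUU ▸ hMU hbM)
  · by_cases hKtop : K = ⊤
    · rw [eq_top_iff]
      intro x _
      rw [hiff, hKtop, szSubK_top hσ hm hF]
      trivial
    · exfalso
      obtain ⟨k, hk1, hkm, hKcard, hkdiv⟩ := sz_subfield_card hF K hK3 hKtop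
      have : Fact (Nat.Prime 2) := ⟨Nat.prime_two⟩
      obtain ⟨ι, hι⟩ := exists_galois_embedding K (j := 2 * k + 1) (by omega) hKcard
      let instFin : Fintype (GaloisField 2 (2 * k + 1)) := Fintype.ofFinite _
      have hK'card : Fintype.card (GaloisField 2 (2 * k + 1)) = 2 ^ (2 * k + 1) := by
        rw [← Nat.card_eq_fintype_card, GaloisField.card 2 (2 * k + 1) (by omega)]
      obtain ⟨e⟩ := nonempty_szSubK_equiv hk1 hK'card hF hkdiv ι hσ
      rw [hι] at e
      set a' : szSubK hσ K := ⟨g * a * g⁻¹, (hiff a).mp haM⟩ with ha'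
      have horda' : orderOf (e a') = 2 ^ (2 * m + 1) + 2 ^ (m + 1) + 1 := by
        rw [e.orderOf_eq, ← Subgroup.orderOf_coe, ha', ← horda]
        exact (MulAut.conj g).orderOf_eq (a : Cfsg.Sz F m)
      have he1 : e a' ≠ 1 := by
        intro h
        rw [h, orderOf_one] at horda'
        generalize 2 ^ (2 * m + 1) = Q at *
        generalize 2 ^ (m + 1) = R at *
        omega
      have heodd : ¬ 2 ∣ orderOf (e a') := by
        rw [horda', ← horda]; exact haodd
      obtain ⟨U'', hU'', haU''⟩ := exists_isSzTorus_of_odd hk1 hK'card he1 heodd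
      have hdvd := Subgroup.orderOf_dvd_natCard U'' haU''
      rw [horda'] at hdvd
      have hpos : 0 < Nat.card U'' := Nat.card_pos
      have hle := Nat.le_of_dvd hpos hdvd
      have h1 : 2 ^ (2 * k + 1) < 2 ^ (2 * m + 1) := Nat.pow_lt_pow_right (by norm_num) (by omega)
      have h2 : 2 ^ (k + 1) < 2 ^ (m + 1) := Nat.pow_lt_pow_right (by norm_num) (by omega)
      have h3 : 0 < 2 ^ (k + 1) := by positivity
      have h4 : 0 < 2 ^ (2 * k + 1) := by positivity
      rcases hU''.card_mem with h | h | h <;> rw [h] at hle <;>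
        (generalize 2 ^ (2 * m + 1) = Q at *; generalize 2 ^ (m + 1) = R at *;
         generalize 2 ^ (2 * k + 1) = Q' at *; generalize 2 ^ (k + 1) = R' at *; omega)

end Cfsg.Agent.S2410
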