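import Cfsg.Statements.S2411
import Cfsg.Agent.Lib.Helper53.SpReg.TwoGen

set_option autoImplicit false
open Cfsg

namespace Cfsg.Agent.S2411

/-- The projective symplectic group `PSp_{2m}(q)` with `m ≥ 2` (and `q > 2` if `m = 2`) is generated by two of its elements. -/
theorem result {F : Type*} [Field F] [Fintype F] (m : ℕ) (hm : 2 ≤ m) (hF : m = 2 → 2 < Fintype.card F) :
    ∃ a b : Cfsg.PSp m F, Subgroup.closure ({a, b} : Set (Cfsg.PSp m F)) = ⊤ := by
  have h22 : ¬ (m = 2 ∧ Fintype.card F = 2) := by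
    rintro ⟨h1, h2⟩
    have := hF h1
    omega
  obtain ⟨x, y, hxy⟩ := Cfsg.Agent.Lib.Helper53.SpReg.sp_two_gen (n := m) (F := F) hm h22
  refine ⟨QuotientGroup.mk x, QuotientGroup.mk y, ?_⟩
  have himg : ({(QuotientGroup.mk x : Cfsg.PSp m F), QuotientGroup.mk y} : Set (Cfsg.PSp m F)) =
      (QuotientGroup.mk' (Subgroup.center (Matrix.symplecticGroup (Fin m) F))) ''
        ({x, y} : Set (Matrix.symplecticGroup (Fin m) F)) := by
    rw [Set.image_pair]
    rfl
  rw [himg, ← MonoidHom.map_closure, hxy, ← MonoidHom.range_eq_map, MonoidHom.range_eq_top]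
  exact QuotientGroup.mk'_surjective _

end Cfsg.Agent.S2411
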