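import Cfsg.Statements.S2416
import Cfsg.Agent.Lib.Helper18.Gen1
import Cfsg.Agent.Lib.Helper18.ChevDataAll
-- import your own Cfsg.Agent.* helpers here

set_option autoImplicit false
open scoped MatrixGroups
open Cfsg

namespace Cfsg.Agent.S2416

open Cfsg.Lie Cfsg.Agent.Lib.Helper18

universe u

theorem xG_mem_rootSubgroup {F : Type u} [Field F] {D : ChevalleyDatum}
    (hD : D ∈ [chevG2, chevB2, chevD4, chevF4, chevE6, chevE7, chevE8]) (r : ℕ) (t : F) :
    xG hD r t ∈ D.rootSubgroup F r :=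
  Subgroup.subset_closure ⟨t, coe_xG hD r t⟩

/-- The table check for the types with one root length: `W[i][k]` maps the fundamental root `i` to the fundamental
root `k`. -/
def simpleWordsOK (tabs simples : List ℕ) (rank : ℕ) (W : List (List (List ℕ))) : Bool :=
  (List.range rank).all fun i => (List.range rank).all fun k =>
    ((W.getD i []).getD k []).all (fun a => decide (a < rank)) &&
      (wordRootF tabs ((W.getD i []).getD k []) (simples.getD i 0) == simples.getD k 0)

/-- One root length: all the fundamental roots are conjugate. -/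
theorem group_le_of_simpleWordsOK {F : Type u} [Field F] {D : ChevalleyDatum}
    (hD : D ∈ [chevG2, chevB2, chevD4, chevF4, chevE6, chevE7, chevE8]) (C : ChevData.{u} D)
    (W : List (List (List ℕ))) (hW : simpleWordsOK C.tabs C.simples D.rank W = true) (i : ℕ) (hi : i < D.rank) :
    D.group F ≤ D.monomialSubgroup F ⊔ D.rootSubgroup F (D.simple i) := by
  apply group_le_of_simples hD C _ le_sup_left
  intro k hk t
  unfold simpleWordsOK at hW
  simp only [List.all_eq_true, List.mem_range, Bool.and_eq_true, decide_eq_true_eq, beq_iff_eq] at hW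
  obtain ⟨h1, h2⟩ := hW i hi k hk
  rw [← C.hsimple i hi, ← C.hsimple k hk] at h2
  exact xG_word_mem' hD C _ le_sup_left _ _ (C.simple_lt i hi)
    (fun t => Subgroup.mem_sup_right (xG_mem_rootSubgroup hD _ t)) _ h1 h2 t

theorem int_two_ne_zero {K : Type*} [Field K] (h : ringChar K ≠ 2) : ((2 : ℤ) : K) ≠ 0 := by
  have := Ring.two_ne_zero h
  simpa using this

theorem int_three_ne_zero {K : Type*} [Field K] (h : ringChar K ≠ 3) : ((3 : ℤ) : K) ≠ 0 := by
  intro h0
  have h1 : ((3 : ℕ) : K) = 0 := by simpa using h0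
  rw [ringChar.spec] at h1
  rcases (Nat.dvd_prime Nat.prime_three).mp h1 with h2 | h2
  · exact CharP.ringChar_ne_one h2
  · exact h h2

/-- Words mapping each fundamental root of type D4 to each other one. -/
def simpleWords_D4 : List (List (List ℕ)) := [[[], [0, 1], [1, 2, 0, 1], [1, 3, 0, 1]], [[1, 0], [], [1, 2], [1, 3]], [[1, 2, 0, 1], [2, 1], [], [1, 3, 2, 1]], [[1, 3, 0, 1], [3, 1], [1, 3, 2, 1], []]]

set_option maxRecDepth 1000000 in
theorem simpleWordsOK_D4 : simpleWordsOK wTabs_D4 simples_D4 chevD4.rank simpleWords_D4 = true := by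
  decide +kernel

/-- Words mapping each fundamental root of type E6 to each other one. -/
def simpleWords_E6 : List (List (List ℕ)) := [[[], [3, 2, 1, 3, 0, 2], [0, 2], [2, 3, 0, 2], [3, 4, 2, 3, 0, 2], [4, 5, 3, 4, 2, 3, 0, 2]], [[2, 3, 0, 2, 1, 3], [], [3, 2, 1, 3], [1, 3], [3, 4, 1, 3], [4, 5, 3, 4, 1, 3]], [[2, 0], [3, 2, 1, 3], [], [2, 3], [3, 4, 2, 3], [4, 5, 3, 4, 2, 3]], [[2, 3, 0, 2], [3, 1], [3, 2], [], [3, 4], [4, 5, 3, 4]], [[2, 3, 4, 0, 2, 3], [3, 4, 1, 3], [3, 4, 2, 3], [4, 3], [], [4, 5]], [[2, 3, 4, 5, 0, 2, 3, 4], [3, 4, 5, 1, 3, 4], [3, 4, 5, 2, 3, 4], [4, 5, 3, 4], [5, 4], []]]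

set_option maxRecDepth 1000000 in
theorem simpleWordsOK_E6 : simpleWordsOK wTabs_E6 simples_E6 chevE6.rank simpleWords_E6 = true := by
  decide +kernel

/-- Words mapping each fundamental root of type E7 to each other one. -/
def simpleWords_E7 : List (List (List ℕ)) := [[[], [3, 2, 1, 3, 0, 2], [0, 2], [2, 3, 0, 2], [3, 4, 2, 3, 0, 2], [4, 5, 3, 4, 2, 3, 0, 2], [5, 6, 4, 5, 3, 4, 2, 3, 0, 2]], [[2, 3, 0, 2, 1, 3], [], [3, 2, 1, 3], [1, 3], [3, 4, 1, 3], [4, 5, 3, 4, 1, 3], [5, 6, 4, 5, 3, 4, 1, 3]], [[2, 0], [3, 2, 1, 3], [], [2, 3], [3, 4, 2, 3], [4, 5, 3, 4, 2, 3], [5, 6, 4, 5, 3, 4, 2, 3]], [[2, 3, 0, 2], [3, 1], [3, 2], [], [3, 4], [4, 5, 3, 4], [5, 6, 4, 5, 3, 4]], [[2, 3, 4, 0, 2, 3], [3, 4, 1, 3], [3, 4, 2, 3], [4, 3], [], [4, 5], [5, 6, 4, 5]], [[2, 3, 4, 5, 0, 2, 3, 4], [3, 4, 5, 1, 3, 4], [3, 4, 5, 2, 3, 4], [4, 5, 3, 4], [5, 4], [], [5, 6]], [[2, 3, 4, 5, 6, 0, 2, 3, 4, 5], [3, 4, 5, 6, 1, 3, 4, 5], [3, 4, 5, 6, 2, 3, 4, 5], [4, 5, 6, 3, 4, 5],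 [5, 6, 4, 5], [6, 5], []]]

set_option maxRecDepth 1000000 in
theorem simpleWordsOK_E7 : simpleWordsOK wTabs_E7 simples_E7 chevE7.rank simpleWords_E7 = true := by
  decide +kernel

/-- Words mapping each fundamental root of type E8 to each other one. -/
def simpleWords_E8 : List (List (List ℕ)) := [[[], [3, 2, 1, 3, 0, 2], [0, 2], [2, 3, 0, 2], [3, 4, 2, 3, 0, 2], [4, 5, 3, 4, 2, 3, 0, 2], [5, 6, 4, 5, 3, 4, 2, 3, 0, 2], [6, 7, 5, 6, 4, 5, 3, 4, 2, 3, 0, 2]], [[2, 3, 0, 2, 1, 3], [], [3, 2, 1, 3], [1, 3], [3, 4, 1, 3], [4, 5, 3, 4, 1, 3], [5, 6, 4, 5, 3, 4, 1, 3], [6, 7, 5, 6, 4, 5, 3, 4, 1, 3]], [[2, 0], [3, 2, 1, 3], [], [2, 3], [3, 4, 2, 3], [4, 5, 3, 4, 2, 3], [5, 6, 4, 5, 3, 4, 2, 3], [6, 7, 5, 6, 4, 5, 3, 4, 2, 3]], [[2, 3, 0, 2], [3, 1], [3, 2], [], [3, 4], [4, 5, 3, 4], [5, 6, 4, 5, 3, 4], [6, 7, 5, 6, 4, 5, 3, 4]], [[2, 3, 4, 0, 2, 3], [3, 4, 1, 3], [3, 4, 2, 3], [4, 3], [], [4, 5], [5, 6, 4, 5], [6, 7, 5, 6, 4, 5]], [[2, 3, 4, 5, 0, 2, 3, 4], [3,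 4, 5, 1, 3, 4], [3, 4, 5, 2, 3, 4], [4, 5, 3, 4], [5, 4], [], [5, 6], [6, 7, 5, 6]], [[2, 3, 4, 5, 6, 0, 2, 3, 4, 5], [3, 4, 5, 6, 1, 3, 4, 5], [3, 4, 5, 6, 2, 3, 4, 5], [4, 5, 6, 3, 4, 5], [5, 6, 4, 5], [6, 5], [], [6, 7]], [[2, 3, 4, 5, 6, 7, 0, 2, 3, 4, 5, 6], [3, 4, 5, 6, 7, 1, 3, 4, 5, 6], [3, 4, 5, 6, 7, 2, 3, 4, 5, 6], [4, 5, 6, 7, 3, 4, 5, 6], [5, 6, 7, 4, 5, 6], [6, 7, 5, 6], [7, 6], []]]

set_option maxRecDepth 1000000 in
theorem simpleWordsOK_E8 : simpleWordsOK wTabs_E8 simples_E8 chevE8.rank simpleWords_E8 = true := by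
  decide +kernel

/-- A Chevalley group of type G₂, B₂, D₄, F₄, E₆, E₇ or E₈ over a finite field lies in (indeed equals) the subgroup generated by its monomial subgroup `N` and a single fundamental root subgroup `X_p`, where `p` is a short fundamental root if there are two root lengths (any fundamental root otherwise), provided the characteristic is not 2 for types B₂, F₄ and not 3 for type G₂ (and the field has more than two elements for B₂, G₂). -/
theorem result {K : Type*} [Field K] [Finite K] (D : Cfsg.Lie.ChevalleyDatum) (hD : D ∈ [Cfsg.Lie.chevG2, Cfsg.Lie.chevB2, Cfsg.Lie.chevD4, Cfsg.Lie.chevF4, Cfsg.Lie.chevE6, Cfsg.Lie.chevE7, Cfsg.Lie.chevE8])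
    (hK : D ∈ [Cfsg.Lie.chevB2, Cfsg.Lie.chevG2] → ∃ x : K, x ≠ 0 ∧ x ≠ 1)
    (h2 : D ∈ [Cfsg.Lie.chevB2, Cfsg.Lie.chevF4] → ringChar K ≠ 2) (h3 : D = Cfsg.Lie.chevG2 → ringChar K ≠ 3)
    (i : ℕ) (hi : i < D.rank) (hshort : D.isLong (D.simple i) = false) :
    D.group K ≤ D.monomialSubgroup K ⊔ D.rootSubgroup K (D.simple i) := by
  simp only [List.mem_cons, List.not_mem_nil, or_false] at hD
  rcases hD with rfl | rfl | rfl | rfl | rfl | rfl | rfl
  · -- G2
    have hD : chevG2 ∈ [chevG2, chevB2, chevD4, chevF4, chevE6, chevE7, chevE8] := by simp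
    have hc := int_three_ne_zero (h3 rfl)
    change i < 2 at hi
    interval_cases i
    · have hN : chevG2.monomialSubgroup K ≤ chevG2.monomialSubgroup K ⊔ chevG2.rootSubgroup K (chevG2.simple 0) := le_sup_left
      have ha : ∀ t : K, xG hD (chevG2.simple 0) t ∈ chevG2.monomialSubgroup K ⊔ chevG2.rootSubgroup K (chevG2.simple 0) := fun t =>
        Subgroup.mem_sup_right (xG_mem_rootSubgroup hD _ t)
      have h1 : ∀ t : K, xG hD 7 t ∈ chevG2.monomialSubgroup K ⊔ chevG2.rootSubgroup K (chevG2.simple 0) := fun t =>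
        xG_word_mem' hD chevData_G2.{u_1} _ hN _ _ (by decide) ha [] (by decide) (by decide +kernel) t
      have h2' : ∀ t : K, xG hD 9 t ∈ chevG2.monomialSubgroup K ⊔ chevG2.rootSubgroup K (chevG2.simple 0) := fun t =>
        xG_word_mem' hD chevData_G2.{u_1} _ hN _ _ (by decide) ha [0, 1] (by decide) (by decide +kernel) t
      have hβ : ∀ t : K, xG hD 10 t ∈ chevG2.monomialSubgroup K ⊔ chevG2.rootSubgroup K (chevG2.simple 0) := fun t =>
        xG_comm_mem hD chevData_G2.{u_1} _ 7 9 10 3 (by decide) (by decide) (by decide) (by decide)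
          (by decide +kernel) hc h1 h2' t
      apply group_le_of_simples hD chevData_G2.{u_1} _ hN
      intro k hk t
      change k < 2 at hk
      interval_cases k
      · exact ha t
      · exact xG_word_mem' hD chevData_G2.{u_1} _ hN _ _ (by decide) hβ [0] (by decide) (by decide +kernel) t
    · exact absurd hshort (by decide +kernel)
  · -- B2
    have hD : chevB2 ∈ [chevG2, chevB2, chevD4, chevF4, chevE6, chevE7, chevE8] := by simp
    have hc := int_two_ne_zero (h2 (by simp))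
    change i < 2 at hi
    interval_cases i
    · have hN : chevB2.monomialSubgroup K ≤ chevB2.monomialSubgroup K ⊔ chevB2.rootSubgroup K (chevB2.simple 0) := le_sup_left
      have ha : ∀ t : K, xG hD (chevB2.simple 0) t ∈ chevB2.monomialSubgroup K ⊔ chevB2.rootSubgroup K (chevB2.simple 0) := fun t =>
        Subgroup.mem_sup_right (xG_mem_rootSubgroup hD _ t)
      have h1 : ∀ t : K, xG hD 5 t ∈ chevB2.monomialSubgroup K ⊔ chevB2.rootSubgroup K (chevB2.simple 0) := fun t =>
        xG_word_mem' hD chevData_B2.{u_1} _ hN _ _ (by decide) ha [] (by decide) (by decide +kernel) t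
      have h2' : ∀ t : K, xG hD 6 t ∈ chevB2.monomialSubgroup K ⊔ chevB2.rootSubgroup K (chevB2.simple 0) := fun t =>
        xG_word_mem' hD chevData_B2.{u_1} _ hN _ _ (by decide) ha [1] (by decide) (by decide +kernel) t
      have hβ : ∀ t : K, xG hD 7 t ∈ chevB2.monomialSubgroup K ⊔ chevB2.rootSubgroup K (chevB2.simple 0) := fun t =>
        xG_comm_mem hD chevData_B2.{u_1} _ 5 6 7 2 (by decide) (by decide) (by decide) (by decide)
          (by decide +kernel) hc h1 h2' t
      apply group_le_of_simples hD chevData_B2.{u_1} _ hN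
      intro k hk t
      change k < 2 at hk
      interval_cases k
      · exact ha t
      · exact xG_word_mem' hD chevData_B2.{u_1} _ hN _ _ (by decide) hβ [0] (by decide) (by decide +kernel) t
    · exact absurd hshort (by decide +kernel)
  · exact group_le_of_simpleWordsOK (by simp) chevData_D4.{u_1} simpleWords_D4 simpleWordsOK_D4 i hi
  · -- F4
    have hD : chevF4 ∈ [chevG2, chevB2, chevD4, chevF4, chevE6, chevE7, chevE8] := by simp
    have hc := int_two_ne_zero (h2 (by simp))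
    change i < 4 at hi
    interval_cases i
    · have hN : chevF4.monomialSubgroup K ≤ chevF4.monomialSubgroup K ⊔ chevF4.rootSubgroup K (chevF4.simple 0) := le_sup_left
      have ha : ∀ t : K, xG hD (chevF4.simple 0) t ∈ chevF4.monomialSubgroup K ⊔ chevF4.rootSubgroup K (chevF4.simple 0) := fun t =>
        Subgroup.mem_sup_right (xG_mem_rootSubgroup hD _ t)
      have h1 : ∀ t : K, xG hD 27 t ∈ chevF4.monomialSubgroup K ⊔ chevF4.rootSubgroup K (chevF4.simple 0) := fun t =>
        xG_word_mem' hD chevData_F4.{u_1} _ hN _ _ (by decide) ha [0, 1] (by decide) (by decide +kernel) t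
      have h2' : ∀ t : K, xG hD 28 t ∈ chevF4.monomialSubgroup K ⊔ chevF4.rootSubgroup K (chevF4.simple 0) := fun t =>
        xG_word_mem' hD chevData_F4.{u_1} _ hN _ _ (by decide) ha [2, 0, 1] (by decide) (by decide +kernel) t
      have hβ : ∀ t : K, xG hD 30 t ∈ chevF4.monomialSubgroup K ⊔ chevF4.rootSubgroup K (chevF4.simple 0) := fun t =>
        xG_comm_mem hD chevData_F4.{u_1} _ 27 28 30 2 (by decide) (by decide) (by decide) (by decide)
          (by decide +kernel) hc h1 h2' t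
      apply group_le_of_simples hD chevData_F4.{u_1} _ hN
      intro k hk t
      change k < 4 at hk
      interval_cases k
      · exact ha t
      · exact xG_word_mem' hD chevData_F4.{u_1} _ hN _ _ (by decide) ha [0, 1] (by decide) (by decide +kernel) t
      · exact xG_word_mem' hD chevData_F4.{u_1} _ hN _ _ (by decide) hβ [1] (by decide) (by decide +kernel) t
      · exact xG_word_mem' hD chevData_F4.{u_1} _ hN _ _ (by decide) hβ [2, 3, 1] (by decide) (by decide +kernel) t
    · have hN : chevF4.monomialSubgroup K ≤ chevF4.monomialSubgroup K ⊔ chevF4.rootSubgroup K (chevF4.simple 1) := le_sup_left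
      have ha : ∀ t : K, xG hD (chevF4.simple 1) t ∈ chevF4.monomialSubgroup K ⊔ chevF4.rootSubgroup K (chevF4.simple 1) := fun t =>
        Subgroup.mem_sup_right (xG_mem_rootSubgroup hD _ t)
      have h1 : ∀ t : K, xG hD 27 t ∈ chevF4.monomialSubgroup K ⊔ chevF4.rootSubgroup K (chevF4.simple 1) := fun t =>
        xG_word_mem' hD chevData_F4.{u_1} _ hN _ _ (by decide) ha [] (by decide) (by decide +kernel) t
      have h2' : ∀ t : K, xG hD 28 t ∈ chevF4.monomialSubgroup K ⊔ chevF4.rootSubgroup K (chevF4.simple 1) := fun t =>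
        xG_word_mem' hD chevData_F4.{u_1} _ hN _ _ (by decide) ha [2] (by decide) (by decide +kernel) t
      have hβ : ∀ t : K, xG hD 30 t ∈ chevF4.monomialSubgroup K ⊔ chevF4.rootSubgroup K (chevF4.simple 1) := fun t =>
        xG_comm_mem hD chevData_F4.{u_1} _ 27 28 30 2 (by decide) (by decide) (by decide) (by decide)
          (by decide +kernel) hc h1 h2' t
      apply group_le_of_simples hD chevData_F4.{u_1} _ hN
      intro k hk t
      change k < 4 at hk
      interval_cases k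
      · exact xG_word_mem' hD chevData_F4.{u_1} _ hN _ _ (by decide) ha [1, 0] (by decide) (by decide +kernel) t
      · exact ha t
      · exact xG_word_mem' hD chevData_F4.{u_1} _ hN _ _ (by decide) hβ [1] (by decide) (by decide +kernel) t
      · exact xG_word_mem' hD chevData_F4.{u_1} _ hN _ _ (by decide) hβ [2, 3, 1] (by decide) (by decide +kernel) t
    · exact absurd hshort (by decide +kernel)
    · exact absurd hshort (by decide +kernel)
  · exact group_le_of_simpleWordsOK (by simp) chevData_E6.{u_1} simpleWords_E6 simpleWordsOK_E6 i hi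
  · exact group_le_of_simpleWordsOK (by simp) chevData_E7.{u_1} simpleWords_E7 simpleWordsOK_E7 i hi
  · exact group_le_of_simpleWordsOK (by simp) chevData_E8.{u_1} simpleWords_E8 simpleWordsOK_E8 i hi

end Cfsg.Agent.S2416
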