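import Cfsg.Statements.S2417
import Cfsg.Agent.Lib.Helper18.Gen1
import Cfsg.Agent.Lib.Helper18.ChevDataAll
-- import your own Cfsg.Agent.* helpers here

set_option autoImplicit false
open scoped MatrixGroups
open Cfsg

namespace Cfsg.Agent.S2417

open Cfsg.Lie Cfsg.Agent.Lib.Helper18

universe u

set_option maxRecDepth 1000000 in
theorem nodes_B2 : ∀ i < 2, ∀ j < 2, chevB2.isLong (chevB2.simple i) = false →
    chevB2.isLong (chevB2.simple j) = true → i = 0 ∧ j = 1 := by decide +kernel

set_option maxRecDepth 1000000 in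
theorem nodes_G2 : ∀ i < 2, ∀ j < 2, chevG2.isLong (chevG2.simple i) = false →
    chevG2.isLong (chevG2.simple j) = true → i = 0 ∧ j = 1 := by decide +kernel

set_option maxRecDepth 1000000 in
theorem nodes_F4 : ∀ i < 4, ∀ j < 4, (!(chevF4.isLong (chevF4.simple i)) && chevF4.isLong (chevF4.simple j) &&
    (chevF4.bonds i j != 0)) = true → i = 1 ∧ j = 2 := by decide +kernel

set_option maxRecDepth 1000000 in
theorem word_F4_0 : wordRootF wTabs_F4 [1, 0] (chevF4.simple 1) = chevF4.simple 0 := by decide +kernel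

set_option maxRecDepth 1000000 in
theorem word_F4_3 : wordRootF wTabs_F4 [2, 3] (chevF4.simple 2) = chevF4.simple 3 := by decide +kernel

theorem xG_mem_rootSubgroup {F : Type u} [Field F] {D : ChevalleyDatum}
    (hD : D ∈ [chevG2, chevB2, chevD4, chevF4, chevE6, chevE7, chevE8]) (r : ℕ) (t : F) :
    xG hD r t ∈ D.rootSubgroup F r :=
  Subgroup.subset_closure ⟨t, coe_xG hD r t⟩

/-- In the characteristics with an exceptional graph symmetry — type B₂ or F₄ in characteristic 2 (field of more than two elements for B₂) and type G₂ in characteristic 3 — the Chevalley group lies in the subgroup generated by its monomial subgroup `N` and the two fundamental root subgroups `X_a`, `X_b` of a short root `a` and a long root `b` joined in the Dynkin diagram. -/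
theorem result {K : Type*} [Field K] [Finite K] (e : Cfsg.Lie.ChevalleyDatum × ℕ)
    (he : e ∈ [(Cfsg.Lie.chevB2, 2), (Cfsg.Lie.chevF4, 2), (Cfsg.Lie.chevG2, 3)]) [CharP K e.2]
    (hK : e.1 = Cfsg.Lie.chevB2 → ∃ x : K, x ≠ 0 ∧ x ≠ 1)
    (i j : ℕ) (hi : i < e.1.rank) (hj : j < e.1.rank) (hshort : e.1.isLong (e.1.simple i) = false)
    (hlong : e.1.isLong (e.1.simple j) = true) (hbond : e.1.bonds i j ≠ 0) :
    e.1.group K ≤ e.1.monomialSubgroup K ⊔ e.1.rootSubgroup K (e.1.simple i) ⊔ e.1.rootSubgroup K (e.1.simple j) := by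
  simp only [List.mem_cons, List.not_mem_nil, or_false] at he
  rcases he with rfl | rfl | rfl
  · -- B2
    have hD : chevB2 ∈ [chevG2, chevB2, chevD4, chevF4, chevE6, chevE7, chevE8] := by simp
    obtain ⟨rfl, rfl⟩ := nodes_B2 i hi j hj hshort hlong
    apply group_le_of_simples hD chevData_B2.{u_1} _ (le_sup_of_le_left le_sup_left)
    intro k hk t
    change k < 2 at hk
    interval_cases k
    · exact Subgroup.mem_sup_left (Subgroup.mem_sup_right (xG_mem_rootSubgroup hD _ t))
    · exact Subgroup.mem_sup_right (xG_mem_rootSubgroup hD _ t)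
  · -- F4
    have hD : chevF4 ∈ [chevG2, chevB2, chevD4, chevF4, chevE6, chevE7, chevE8] := by simp
    obtain ⟨rfl, rfl⟩ := nodes_F4 i hi j hj (by simp [hshort, hlong, hbond])
    have hN : chevF4.monomialSubgroup K ≤ chevF4.monomialSubgroup K ⊔ chevF4.rootSubgroup K (chevF4.simple 1)
        ⊔ chevF4.rootSubgroup K (chevF4.simple 2) := le_sup_of_le_left le_sup_left
    have ha : ∀ t : K, xG hD (chevF4.simple 1) t ∈ chevF4.monomialSubgroup K
        ⊔ chevF4.rootSubgroup K (chevF4.simple 1) ⊔ chevF4.rootSubgroup K (chevF4.simple 2) := fun t =>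
      Subgroup.mem_sup_left (Subgroup.mem_sup_right (xG_mem_rootSubgroup hD _ t))
    have hb : ∀ t : K, xG hD (chevF4.simple 2) t ∈ chevF4.monomialSubgroup K
        ⊔ chevF4.rootSubgroup K (chevF4.simple 1) ⊔ chevF4.rootSubgroup K (chevF4.simple 2) := fun t =>
      Subgroup.mem_sup_right (xG_mem_rootSubgroup hD _ t)
    apply group_le_of_simples hD chevData_F4.{u_1} _ hN
    intro k hk t
    change k < 4 at hk
    interval_cases k
    · exact xG_word_mem' hD chevData_F4.{u_1} _ hN _ _ (by decide) ha [1, 0] (by decide) word_F4_0 t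
    · exact ha t
    · exact hb t
    · exact xG_word_mem' hD chevData_F4.{u_1} _ hN _ _ (by decide) hb [2, 3] (by decide) word_F4_3 t
  · -- G2
    have hD : chevG2 ∈ [chevG2, chevB2, chevD4, chevF4, chevE6, chevE7, chevE8] := by simp
    obtain ⟨rfl, rfl⟩ := nodes_G2 i hi j hj hshort hlong
    apply group_le_of_simples hD chevData_G2.{u_1} _ (le_sup_of_le_left le_sup_left)
    intro k hk t
    change k < 2 at hk
    interval_cases k
    · exact Subgroup.mem_sup_left (Subgroup.mem_sup_right (xG_mem_rootSubgroup hD _ t))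
    · exact Subgroup.mem_sup_right (xG_mem_rootSubgroup hD _ t)

end Cfsg.Agent.S2417
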