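import Cfsg.Statements.S2419
import Mathlib
-- import your own Cfsg.Agent.* helpers here

set_option autoImplicit false
open Cfsg

namespace Cfsg.Agent.S2419

section abstract
variable {W : Type*} [Group W]

theorem commute_of_sq {a b : W} (ha : a * a = 1) (hb : b * b = 1) (h : (a * b) ^ 2 = 1) : Commute a b := by
  have h1 : a * b * (a * b) = 1 := by rw [← pow_two]; exact h
  have h2 : a * b = (a * b)⁻¹ := eq_inv_of_mul_eq_one_left h1
  have ha' : a⁻¹ = a := inv_eq_of_mul_eq_one_left ha
  have hb' : b⁻¹ = b := inv_eq_of_mul_eq_one_left hb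
  rw [mul_inv_rev, ha', hb'] at h2
  exact h2

theorem braid_of_cube {a b : W} (ha : a * a = 1) (hb : b * b = 1) (h : (a * b) ^ 3 = 1) :
    a * b * a = b * a * b := by
  have ha' : a⁻¹ = a := inv_eq_of_mul_eq_one_left ha
  have hb' : b⁻¹ = b := inv_eq_of_mul_eq_one_left hb
  have h1 : a * b * (a * b) * (a * b) = 1 := by rw [← h]; simp [pow_succ]
  have h2 : a * b * a * (b * a * b) = 1 := by rw [← h1]; simp only [mul_assoc]
  have h3 : a * b * a = (b * a * b)⁻¹ := eq_inv_of_mul_eq_one_left h2
  rw [h3, mul_inv_rev, mul_inv_rev, ha', hb', mul_assoc]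

theorem conj_shift (A B a b : W) (_ha : a * a = 1) (_hb : b * b = 1) (hbr : a * b * a = b * a * b)
    (hAb : Commute A b) (hBa : Commute B a) : (A * a * b * B) * a * (A * a * b * B)⁻¹ = b := by
  rw [mul_inv_eq_iff_eq_mul]
  calc A * a * b * B * a = A * a * b * (B * a) := by simp only [mul_assoc]
    _ = A * a * b * (a * B) := by rw [hBa.eq]
    _ = A * (a * b * a) * B := by simp only [mul_assoc]
    _ = A * (b * a * b) * B := by rw [hbr]
    _ = (A * b) * a * b * B := by simp only [mul_assoc]
    _ = (b * A) * a * b * B := by rw [hAb.eq]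
    _ = b * (A * a * b * B) := by simp only [mul_assoc]

/-- chain condition -/
def IsCh : W → List W → Prop
  | _, [] => True
  | a, b :: tl => a * b * a = b * a * b ∧ b * b = 1 ∧ (∀ x ∈ tl, Commute x a) ∧ IsCh b tl

theorem chain_mem (H : Subgroup W) : ∀ (tl : List W) (A a : W), a * a = 1 → (∀ x ∈ tl, Commute A x) →
    IsCh a tl → A * a * tl.prod ∈ H → a ∈ H → ∀ x ∈ tl, x ∈ H := by
  intro tl
  induction tl with
  | nil => intro A a _ _ _ _ _ x hx; simp at hx
  | cons b tl ih =>
    intro A a ha hA hch hc hat x hx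
    obtain ⟨hbr, hb, hcomm, hch'⟩ := hch
    have hB : Commute tl.prod a := by
      apply Commute.list_prod_left
      intro y hy
      exact hcomm y hy
    have hAb : Commute A b := hA b (by simp)
    have hc' : A * a * b * tl.prod ∈ H := by
      have : A * a * (b :: tl).prod = A * a * b * tl.prod := by simp [mul_assoc]
      rw [← this]; exact hc
    have hbH : b ∈ H := by
      rw [← conj_shift A tl.prod a b ha hb hbr hAb hB]
      exact H.mul_mem (H.mul_mem hc' hat) (H.inv_mem hc')
    rcases List.mem_cons.1 hx with rfl | hx'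
    · exact hbH
    · refine ih (A * a) b hb ?_ hch' hc' hbH x hx'
      intro y hy
      exact (hA y (by simp [hy])).mul_left (hcomm y hy).symm

theorem a3_trick (H : Subgroup W) (a b z : W) (ha : a * a = 1) (hb : b * b = 1) (hz : z * z = 1)
    (haz : Commute a z) (hbr : b * z * b = z * b * z) (he : a * b ∈ H) (hzH : z ∈ H) : a ∈ H ∧ b ∈ H := by
  have ha' : a⁻¹ = a := inv_eq_of_mul_eq_one_left ha
  have hb' : b⁻¹ = b := inv_eq_of_mul_eq_one_left hb
  have hz' : z⁻¹ = z := inv_eq_of_mul_eq_one_left hz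
  have hx : (a * b)⁻¹ * z * (a * b) = z * b * z := by
    rw [mul_inv_rev, ha', hb', ← hbr]
    calc b * a * z * (a * b) = b * (a * z) * a * b := by simp only [mul_assoc]
      _ = b * (z * a) * a * b := by rw [haz.eq]
      _ = b * z * (a * a) * b := by simp only [mul_assoc]
      _ = b * z * b := by rw [ha, mul_one]
  have hxH : z * b * z ∈ H := by
    rw [← hx]; exact H.mul_mem (H.mul_mem (H.inv_mem he) hzH) he
  have hbH : b ∈ H := by
    have : (z * b * z) * z * (z * b * z)⁻¹ = b := by
      rw [mul_inv_rev, mul_inv_rev, hz', hb']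
      calc z * b * z * z * (z * (b * z)) = z * b * (z * z) * z * b * z := by simp only [mul_assoc]
        _ = z * (b * z * b) * z := by rw [hz, mul_one]; simp only [mul_assoc]
        _ = z * (z * b * z) * z := by rw [hbr]
        _ = (z * z) * b * (z * z) := by simp only [mul_assoc]
        _ = b := by rw [hz, one_mul, mul_one]
    rw [← this]
    exact H.mul_mem (H.mul_mem hxH hzH) (H.inv_mem hxH)
  refine ⟨?_, hbH⟩
  have : a = (a * b) * b⁻¹ := by rw [mul_inv_cancel_right]
  rw [this]
  exact H.mul_mem he (H.inv_mem hbH)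


theorem head_trick (H : Subgroup W) (s0 s1 s2 s3 : W) (h0 : s0 * s0 = 1) (h1 : s1 * s1 = 1)
    (h2 : s2 * s2 = 1) (h3 : s3 * s3 = 1) (c01 : Commute s0 s1) (c12 : Commute s1 s2)
    (c03 : Commute s0 s3) (b02 : (s0 * s2) ^ 3 = 1) (b23 : s2 * s3 * s2 = s3 * s2 * s3)
    (hd : s0 * s1 * s2 ∈ H) (h3H : s3 ∈ H) : s0 ∈ H ∧ s1 ∈ H ∧ s2 ∈ H := by
  have hd' : s0 * s1 * s2 = s1 * (s0 * s2) := by rw [c01.eq, mul_assoc]
  have hcomm : Commute s1 (s0 * s2) := c01.symm.mul_right c12
  have h1H : s1 ∈ H := by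
    have : (s0 * s1 * s2) ^ 3 = s1 := by
      rw [hd', hcomm.mul_pow, b02, mul_one, pow_succ, pow_two, h1, one_mul]
    rw [← this]
    exact H.pow_mem hd 3
  have heH : s0 * s2 ∈ H := by
    have : s0 * s2 = s1⁻¹ * (s0 * s1 * s2) := by rw [hd', inv_mul_cancel_left]
    rw [this]
    exact H.mul_mem (H.inv_mem h1H) hd
  obtain ⟨h0H, h2H⟩ := a3_trick H s0 s2 s3 h0 h2 h3 c03 b23 heH h3H
  exact ⟨h0H, h1H, h2H⟩

end abstract

section concrete
open CoxeterMatrix

variable {n : ℕ} (M : CoxeterMatrix (Fin n))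

theorem sq_one (i : Fin n) : M.simple i * M.simple i = 1 := by
  have := M.toCoxeterSystem.simple_mul_simple_self i
  rwa [CoxeterMatrix.toCoxeterSystem_simple] at this

theorem rel_pow (i j : Fin n) : (M.simple i * M.simple j) ^ (M i j) = 1 := by
  have := M.toCoxeterSystem.simple_mul_simple_pow i j
  rwa [CoxeterMatrix.toCoxeterSystem_simple] at this

theorem comm_of_two (i j : Fin n) (h : M i j = 2) : Commute (M.simple i) (M.simple j) := by
  apply commute_of_sq (sq_one M i) (sq_one M j)
  rw [← h]; exact rel_pow M i j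

theorem braid_of_three (i j : Fin n) (h : M i j = 3) :
    M.simple i * M.simple j * M.simple i = M.simple j * M.simple i * M.simple j := by
  apply braid_of_cube (sq_one M i) (sq_one M j)
  rw [← h]; exact rel_pow M i j

theorem top_of_simple_mem (H : Subgroup M.Group) (h : ∀ i, M.simple i ∈ H) : H = ⊤ := by
  rw [eq_top_iff, ← M.toCoxeterSystem.subgroup_closure_range_simple, Subgroup.closure_le]
  rintro _ ⟨i, rfl⟩
  rw [CoxeterMatrix.toCoxeterSystem_simple]
  exact h i

/-- rank two: Coxeter element and first simple reflection -/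
theorem rank_two (M : CoxeterMatrix (Fin 2)) :
    ∃ T : Finset M.Group, T.card = 1 ∧ (∀ t ∈ T, ∃ (g : M.Group) (i : Fin 2), t = g * M.simple i * g⁻¹) ∧
      Subgroup.closure (({((List.finRange 2).map M.simple).prod} : Set M.Group) ∪ ↑T) = ⊤ := by
  refine ⟨{M.simple 0}, by simp, ?_, ?_⟩
  · intro t ht
    rw [Finset.mem_singleton] at ht
    exact ⟨1, 0, by simp [ht]⟩
  · apply top_of_simple_mem
    have hprod : ((List.finRange 2).map M.simple).prod = M.simple 0 * M.simple 1 := by
      simp [List.finRange_succ]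
    rw [hprod]
    set H := Subgroup.closure (({M.simple 0 * M.simple 1} : Set M.Group) ∪ ↑({M.simple 0} : Finset M.Group)) with hH
    have h0 : M.simple 0 ∈ H := Subgroup.subset_closure (by simp)
    have hc : M.simple 0 * M.simple 1 ∈ H := Subgroup.subset_closure (by simp)
    have h1 : M.simple 1 ∈ H := by
      have : M.simple 1 = (M.simple 0)⁻¹ * (M.simple 0 * M.simple 1) := by rw [inv_mul_cancel_left]
      rw [this]
      exact H.mul_mem (H.inv_mem h0) hc
    intro i
    fin_cases i
    · exact h0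
    · exact h1

/-- type E: Coxeter element and the reflection of the branch node -/
theorem type_E (n : ℕ) (_hn : 4 ≤ n) (M : CoxeterMatrix (Fin n))
    (i0 i1 i2 i3 : Fin n) (tl : List (Fin n))
    (hlist : List.finRange n = i0 :: i1 :: i2 :: i3 :: tl)
    (m01 : M i0 i1 = 2) (m12 : M i1 i2 = 2) (m03 : M i0 i3 = 2) (m02 : M i0 i2 = 3) (m23 : M i2 i3 = 3)
    (hA : ∀ x ∈ tl, M i0 x = 2 ∧ M i1 x = 2 ∧ M i2 x = 2)
    (hch : IsCh (M.simple i3) (tl.map M.simple)) :
    ∃ T : Finset M.Group, T.card = 1 ∧ (∀ t ∈ T, ∃ (g : M.Group) (i : Fin n), t = g * M.simple i * g⁻¹) ∧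
      Subgroup.closure (({((List.finRange n).map M.simple).prod} : Set M.Group) ∪ ↑T) = ⊤ := by
  refine ⟨{M.simple i3}, by simp, ?_, ?_⟩
  · intro t ht
    rw [Finset.mem_singleton] at ht
    exact ⟨1, i3, by simp [ht]⟩
  · have hprod : ((List.finRange n).map M.simple).prod =
        M.simple i0 * M.simple i1 * M.simple i2 * M.simple i3 * (tl.map M.simple).prod := by
      rw [hlist]; simp [mul_assoc]
    rw [hprod]
    set H := Subgroup.closure (({M.simple i0 * M.simple i1 * M.simple i2 * M.simple i3 * (tl.map M.simple).prod} : Set M.Group) ∪ ↑({M.simple i3} : Finset M.Group)) with hH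
    have h3H : M.simple i3 ∈ H := Subgroup.subset_closure (by simp)
    have hcH : M.simple i0 * M.simple i1 * M.simple i2 * M.simple i3 * (tl.map M.simple).prod ∈ H :=
      Subgroup.subset_closure (by simp)
    have htl : ∀ x ∈ tl.map M.simple, x ∈ H := by
      apply chain_mem H (tl.map M.simple) (M.simple i0 * M.simple i1 * M.simple i2) (M.simple i3)
        (sq_one M i3) ?_ hch hcH h3H
      intro x hx
      obtain ⟨j, hj, rfl⟩ := List.mem_map.1 hx
      obtain ⟨a, b, c⟩ := hA j hj
      exact ((comm_of_two M _ _ a).mul_left (comm_of_two M _ _ b)).mul_left (comm_of_two M _ _ c)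
    have htlprod : (tl.map M.simple).prod ∈ H := Subgroup.list_prod_mem _ htl
    have hd : M.simple i0 * M.simple i1 * M.simple i2 ∈ H := by
      have : M.simple i0 * M.simple i1 * M.simple i2 =
          (M.simple i0 * M.simple i1 * M.simple i2 * M.simple i3 * (tl.map M.simple).prod) *
            ((tl.map M.simple).prod)⁻¹ * (M.simple i3)⁻¹ := by
        simp [mul_assoc]
      rw [this]
      exact H.mul_mem (H.mul_mem hcH (H.inv_mem htlprod)) (H.inv_mem h3H)
    obtain ⟨h0H, h1H, h2H⟩ := head_trick H (M.simple i0) (M.simple i1) (M.simple i2) (M.simple i3)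
      (sq_one M _) (sq_one M _) (sq_one M _) (sq_one M _) (comm_of_two M _ _ m01) (comm_of_two M _ _ m12)
      (comm_of_two M _ _ m03) (by rw [← m02]; exact rel_pow M _ _) (braid_of_three M _ _ m23) hd h3H
    apply top_of_simple_mem
    intro i
    have hi : i ∈ List.finRange n := List.mem_finRange i
    rw [hlist] at hi
    simp only [List.mem_cons] at hi
    rcases hi with rfl | rfl | rfl | rfl | hi
    · exact h0H
    · exact h1H
    · exact h2H
    · exact h3H
    · exact htl _ (List.mem_map.2 ⟨i, hi, rfl⟩)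

theorem caseE6 : ∃ T : Finset E₆.Group, T.card = 1 ∧ (∀ t ∈ T, ∃ (g : E₆.Group) (i : Fin 6), t = g * E₆.simple i * g⁻¹) ∧
      Subgroup.closure (({((List.finRange 6).map E₆.simple).prod} : Set E₆.Group) ∪ ↑T) = ⊤ := by
  apply type_E 6 (by norm_num) E₆ 0 1 2 3 [4, 5] (by decide) (by decide) (by decide) (by decide) (by decide) (by decide) (by decide)
  simp only [List.map_cons, List.map_nil, IsCh, List.mem_cons, List.not_mem_nil, or_false, forall_eq, and_true,
    forall_const, false_imp_iff]
  exact ⟨braid_of_three _ _ _ (by decide), sq_one _ _, comm_of_two _ _ _ (by decide),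
    braid_of_three _ _ _ (by decide), sq_one _ _⟩

theorem caseE7 : ∃ T : Finset E₇.Group, T.card = 1 ∧ (∀ t ∈ T, ∃ (g : E₇.Group) (i : Fin 7), t = g * E₇.simple i * g⁻¹) ∧
      Subgroup.closure (({((List.finRange 7).map E₇.simple).prod} : Set E₇.Group) ∪ ↑T) = ⊤ := by
  apply type_E 7 (by norm_num) E₇ 0 1 2 3 [4, 5, 6] (by decide) (by decide) (by decide) (by decide) (by decide) (by decide) (by decide)
  simp only [List.map_cons, List.map_nil, IsCh, List.mem_cons, List.not_mem_nil, or_false, forall_eq, and_true,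
    forall_const, false_imp_iff, forall_eq_or_imp]
  exact ⟨braid_of_three _ _ _ (by decide), sq_one _ _, ⟨comm_of_two _ _ _ (by decide), comm_of_two _ _ _ (by decide)⟩,
    braid_of_three _ _ _ (by decide), sq_one _ _, comm_of_two _ _ _ (by decide),
    braid_of_three _ _ _ (by decide), sq_one _ _⟩

theorem caseE8 : ∃ T : Finset E₈.Group, T.card = 1 ∧ (∀ t ∈ T, ∃ (g : E₈.Group) (i : Fin 8), t = g * E₈.simple i * g⁻¹) ∧
      Subgroup.closure (({((List.finRange 8).map E₈.simple).prod} : Set E₈.Group) ∪ ↑T) = ⊤ := by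
  apply type_E 8 (by norm_num) E₈ 0 1 2 3 [4, 5, 6, 7] (by decide) (by decide) (by decide) (by decide) (by decide) (by decide) (by decide)
  simp only [List.map_cons, List.map_nil, IsCh, List.mem_cons, List.not_mem_nil, or_false, forall_eq, and_true,
    forall_const, false_imp_iff, forall_eq_or_imp]
  exact ⟨braid_of_three _ _ _ (by decide), sq_one _ _,
    ⟨comm_of_two _ _ _ (by decide), comm_of_two _ _ _ (by decide), comm_of_two _ _ _ (by decide)⟩,
    braid_of_three _ _ _ (by decide), sq_one _ _, ⟨comm_of_two _ _ _ (by decide), comm_of_two _ _ _ (by decide)⟩,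
    braid_of_three _ _ _ (by decide), sq_one _ _, comm_of_two _ _ _ (by decide),
    braid_of_three _ _ _ (by decide), sq_one _ _⟩

/-- a homomorphism distinguishing two simple reflections of D₄ -/
theorem D4_ne : Cfsg.Lie.coxeterD4.simple 0 ≠ Cfsg.Lie.coxeterD4.simple 2 := by
  intro h
  let f : Fin 4 → Equiv.Perm (Fin 4) := ![Equiv.swap 0 1, Equiv.swap 1 2, Equiv.swap 2 3, Equiv.swap 2 3]
  have hf : Cfsg.Lie.coxeterD4.IsLiftable f := by
    intro i j
    fin_cases i <;> fin_cases j <;> decide
  have h1 := congrArg (Cfsg.Lie.coxeterD4.toCoxeterSystem.lift ⟨f, hf⟩) h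
  rw [← CoxeterMatrix.toCoxeterSystem_simple, CoxeterSystem.lift_apply_simple,
    CoxeterSystem.lift_apply_simple] at h1
  revert h1
  decide

theorem F4_ne : F₄.simple 0 ≠ F₄.simple 3 := by
  intro h
  let f : Fin 4 → Equiv.Perm (Fin 2) := ![Equiv.swap 0 1, Equiv.swap 0 1, 1, 1]
  have hf : F₄.IsLiftable f := by
    intro i j
    fin_cases i <;> fin_cases j <;> decide
  have h1 := congrArg (F₄.toCoxeterSystem.lift ⟨f, hf⟩) h
  rw [← CoxeterMatrix.toCoxeterSystem_simple, CoxeterSystem.lift_apply_simple,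
    CoxeterSystem.lift_apply_simple] at h1
  revert h1
  decide

theorem caseD4 : ∃ T : Finset Cfsg.Lie.coxeterD4.Group, T.card = 2 ∧
    (∀ t ∈ T, ∃ (g : Cfsg.Lie.coxeterD4.Group) (i : Fin 4), t = g * Cfsg.Lie.coxeterD4.simple i * g⁻¹) ∧
      Subgroup.closure (({((List.finRange 4).map Cfsg.Lie.coxeterD4.simple).prod} : Set Cfsg.Lie.coxeterD4.Group) ∪ ↑T) = ⊤ := by
  classical
  set M := Cfsg.Lie.coxeterD4 with hM
  refine ⟨{M.simple 0, M.simple 2}, Finset.card_pair D4_ne, ?_, ?_⟩
  · intro t ht
    rw [Finset.mem_insert, Finset.mem_singleton] at ht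
    rcases ht with rfl | rfl
    · exact ⟨1, 0, by simp⟩
    · exact ⟨1, 2, by simp⟩
  · have hprod : ((List.finRange 4).map M.simple).prod = M.simple 0 * M.simple 1 * M.simple 2 * M.simple 3 := by
      simp [List.finRange_succ, mul_assoc]
    rw [hprod]
    set H := Subgroup.closure (({M.simple 0 * M.simple 1 * M.simple 2 * M.simple 3} : Set M.Group) ∪
      ↑({M.simple 0, M.simple 2} : Finset M.Group)) with hH
    have h0 : M.simple 0 ∈ H := Subgroup.subset_closure (by simp)
    have h2 : M.simple 2 ∈ H := Subgroup.subset_closure (by simp)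
    have hc : M.simple 0 * M.simple 1 * M.simple 2 * M.simple 3 ∈ H := Subgroup.subset_closure (by simp)
    have c23 : Commute (M.simple 2) (M.simple 3) := comm_of_two M 2 3 (by decide)
    have he : M.simple 3 * M.simple 1 ∈ H := by
      have : M.simple 3 * M.simple 1 =
          ((M.simple 0)⁻¹ * (M.simple 0 * M.simple 1 * M.simple 2 * M.simple 3) * (M.simple 2)⁻¹)⁻¹ := by
        have e1 : (M.simple 0)⁻¹ * (M.simple 0 * M.simple 1 * M.simple 2 * M.simple 3) * (M.simple 2)⁻¹
            = M.simple 1 * M.simple 3 := by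
          calc (M.simple 0)⁻¹ * (M.simple 0 * M.simple 1 * M.simple 2 * M.simple 3) * (M.simple 2)⁻¹
              = M.simple 1 * (M.simple 2 * M.simple 3) * (M.simple 2)⁻¹ := by simp only [mul_assoc, inv_mul_cancel_left]
            _ = M.simple 1 * (M.simple 3 * M.simple 2) * (M.simple 2)⁻¹ := by rw [c23.eq]
            _ = M.simple 1 * M.simple 3 := by simp only [mul_assoc, mul_inv_cancel, mul_one]
        rw [e1, mul_inv_rev, inv_eq_of_mul_eq_one_left (sq_one M 1), inv_eq_of_mul_eq_one_left (sq_one M 3)]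
      rw [this]
      exact H.inv_mem (H.mul_mem (H.mul_mem (H.inv_mem h0) hc) (H.inv_mem h2))
    obtain ⟨h3, h1⟩ := a3_trick H (M.simple 3) (M.simple 1) (M.simple 0) (sq_one M 3) (sq_one M 1) (sq_one M 0)
      (comm_of_two M 3 0 (by decide)) (braid_of_three M 1 0 (by decide)) he h0
    apply top_of_simple_mem
    intro i
    fin_cases i
    · exact h0
    · exact h1
    · exact h2
    · exact h3

theorem caseF4 : ∃ T : Finset F₄.Group, T.card = 2 ∧
    (∀ t ∈ T, ∃ (g : F₄.Group) (i : Fin 4), t = g * F₄.simple i * g⁻¹) ∧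
      Subgroup.closure (({((List.finRange 4).map F₄.simple).prod} : Set F₄.Group) ∪ ↑T) = ⊤ := by
  classical
  set M := F₄ with hM
  refine ⟨{M.simple 0, M.simple 3}, Finset.card_pair F4_ne, ?_, ?_⟩
  · intro t ht
    rw [Finset.mem_insert, Finset.mem_singleton] at ht
    rcases ht with rfl | rfl
    · exact ⟨1, 0, by simp⟩
    · exact ⟨1, 3, by simp⟩
  · have hprod : ((List.finRange 4).map M.simple).prod = M.simple 0 * M.simple 1 * M.simple 2 * M.simple 3 := by
      simp [List.finRange_succ, mul_assoc]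
    rw [hprod]
    set H := Subgroup.closure (({M.simple 0 * M.simple 1 * M.simple 2 * M.simple 3} : Set M.Group) ∪
      ↑({M.simple 0, M.simple 3} : Finset M.Group)) with hH
    have h0 : M.simple 0 ∈ H := Subgroup.subset_closure (by simp)
    have h3 : M.simple 3 ∈ H := Subgroup.subset_closure (by simp)
    have hc : M.simple 0 * M.simple 1 * M.simple 2 * M.simple 3 ∈ H := Subgroup.subset_closure (by simp)
    have i0 : (M.simple 0)⁻¹ = M.simple 0 := inv_eq_of_mul_eq_one_left (sq_one M 0)
    have i1 : (M.simple 1)⁻¹ = M.simple 1 := inv_eq_of_mul_eq_one_left (sq_one M 1)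
    have i2 : (M.simple 2)⁻¹ = M.simple 2 := inv_eq_of_mul_eq_one_left (sq_one M 2)
    have hρ : M.simple 1 * M.simple 2 ∈ H := by
      have : M.simple 1 * M.simple 2 =
          (M.simple 0)⁻¹ * (M.simple 0 * M.simple 1 * M.simple 2 * M.simple 3) * (M.simple 3)⁻¹ := by
        simp only [mul_assoc, inv_mul_cancel_left, mul_inv_cancel, mul_one]
      rw [this]
      exact H.mul_mem (H.mul_mem (H.inv_mem h0) hc) (H.inv_mem h3)
    have c02 : Commute (M.simple 0) (M.simple 2) := comm_of_two M 0 2 (by decide)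
    have b01 : M.simple 0 * M.simple 1 * M.simple 0 = M.simple 1 * M.simple 0 * M.simple 1 :=
      braid_of_three M 0 1 (by decide)
    have h1 : M.simple 1 ∈ H := by
      have : M.simple 1 = M.simple 0 * ((M.simple 1 * M.simple 2) * M.simple 0 * (M.simple 1 * M.simple 2)⁻¹) * M.simple 0 := by
        have e1 : (M.simple 1 * M.simple 2) * M.simple 0 * (M.simple 1 * M.simple 2)⁻¹ =
            M.simple 0 * M.simple 1 * M.simple 0 := by
          rw [mul_inv_rev, i1, i2, b01]
          calc M.simple 1 * M.simple 2 * M.simple 0 * (M.simple 2 * M.simple 1)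
              = M.simple 1 * (M.simple 2 * M.simple 0) * M.simple 2 * M.simple 1 := by simp only [mul_assoc]
            _ = M.simple 1 * (M.simple 0 * M.simple 2) * M.simple 2 * M.simple 1 := by rw [c02.eq]
            _ = M.simple 1 * M.simple 0 * (M.simple 2 * M.simple 2) * M.simple 1 := by simp only [mul_assoc]
            _ = M.simple 1 * M.simple 0 * M.simple 1 := by rw [sq_one M 2, mul_one]
        rw [e1]
        calc M.simple 1 = (M.simple 0 * M.simple 0) * M.simple 1 * (M.simple 0 * M.simple 0) := by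
              rw [sq_one M 0, one_mul, mul_one]
          _ = _ := by simp only [mul_assoc]
      rw [this]
      exact H.mul_mem (H.mul_mem h0 (H.mul_mem (H.mul_mem hρ h0) (H.inv_mem hρ))) h0
    have h2 : M.simple 2 ∈ H := by
      have : M.simple 2 = (M.simple 1)⁻¹ * (M.simple 1 * M.simple 2) := by rw [inv_mul_cancel_left]
      rw [this]
      exact H.mul_mem (H.inv_mem h1) hρ
    apply top_of_simple_mem
    intro i
    fin_cases i
    · exact h0
    · exact h1
    · exact h2
    · exact h3

end concrete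

/-- The Coxeter groups of types B₂, G₂, E₆, E₇, E₈ are generated by the Coxeter element `s₁ s₂ ⋯ s_l` together with one suitable reflection (a conjugate of a simple reflection); for types D₄ and F₄ the Coxeter element together with two suitable reflections suffices. -/
theorem result (c : (Σ n : ℕ, CoxeterMatrix (Fin n)) × ℕ)
    (hc : c ∈ [(⟨2, CoxeterMatrix.B 2⟩, 1), (⟨2, CoxeterMatrix.G₂⟩, 1), (⟨4, Cfsg.Lie.coxeterD4⟩, 2), (⟨4, CoxeterMatrix.F₄⟩, 2),
      (⟨6, CoxeterMatrix.E₆⟩, 1), (⟨7, CoxeterMatrix.E₇⟩, 1), (⟨8, CoxeterMatrix.E₈⟩, 1)]) :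
    ∃ T : Finset c.1.2.Group, T.card = c.2 ∧ (∀ t ∈ T, ∃ (g : c.1.2.Group) (i : Fin c.1.1), t = g * c.1.2.simple i * g⁻¹) ∧
      Subgroup.closure (({((List.finRange c.1.1).map c.1.2.simple).prod} : Set c.1.2.Group) ∪ ↑T) = ⊤ := by
  simp only [List.mem_cons, List.not_mem_nil, or_false] at hc
  rcases hc with rfl | rfl | rfl | rfl | rfl | rfl | rfl
  · exact rank_two (CoxeterMatrix.B 2)
  · exact rank_two CoxeterMatrix.G₂
  · exact caseD4
  · exact caseF4
  · exact caseE6
  · exact caseE7
  · exact caseE8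

end Cfsg.Agent.S2419
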