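import Cfsg.Statements.S2423
import Mathlib
-- import your own Cfsg.Agent.* helpers here
import Cfsg.Agent.Lib.Helper5.GLUPar

set_option autoImplicit false
open scoped MatrixGroups
open Cfsg

namespace Cfsg.Agent.S2423

open Cfsg.Agent.Lib.Helper5.GLU in
lemma youngSubgroup_eq {n : ℕ} (μ : Fin n → ℕ) (hμ : ∑ i, μ i = n) :
    Cfsg.youngSubgroup μ = young (labF μ hμ) := by
  ext σ
  show (∀ i, compLabel μ (σ i) = compLabel μ i) ↔ ∀ i, labF μ hμ (σ i) = labF μ hμ i
  simp only [Fin.ext_iff, labF_val]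


/-- The comparison of `GL_n(q)` with the symmetric group on flags: for partitions `ν`, `μ` of `n` (each with `n` non-decreasing parts, zeros allowed), the inner product of the permutation characters of `GL_n(q)` on partial flags of types `ν` and `μ` equals the inner product of the permutation characters of `Sym(n)` on the cosets of the Young subgroups of types `ν` and `μ` (both count the orbits on pairs). -/
theorem result {F : Type*} [Field F] [Fintype F] [DecidableEq F] {n : ℕ} (ν μ : Fin n → ℕ) (hν : Monotone ν) (hνs : ∑ i, ν i = n)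
    (hμ : Monotone μ) (hμs : ∑ i, μ i = n) :
    (Nat.card (GL (Fin n) F) : ℂ)⁻¹ * ∑ g : GL (Fin n) F,
        Cfsg.fixedPointCharacter (Cfsg.parabolicGL n F ν) g * Cfsg.fixedPointCharacter (Cfsg.parabolicGL n F μ) g =
      (Nat.card (Equiv.Perm (Fin n)) : ℂ)⁻¹ * ∑ σ : Equiv.Perm (Fin n),
        Cfsg.fixedPointCharacter (Cfsg.youngSubgroup ν) σ * Cfsg.fixedPointCharacter (Cfsg.youngSubgroup μ) σ := by
  classical
  have h1 := Cfsg.Agent.Lib.Helper5.GLU.sum_card_fixedBy_mul_card_fixedBy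
    (G := GL (Fin n) F) (X := GL (Fin n) F ⧸ Cfsg.parabolicGL n F ν)
    (Y := GL (Fin n) F ⧸ Cfsg.parabolicGL n F μ)
  have h2 := Cfsg.Agent.Lib.Helper5.GLU.sum_card_fixedBy_mul_card_fixedBy
    (G := Equiv.Perm (Fin n)) (X := Equiv.Perm (Fin n) ⧸ Cfsg.youngSubgroup ν)
    (Y := Equiv.Perm (Fin n) ⧸ Cfsg.youngSubgroup μ)
  unfold Cfsg.fixedPointCharacter
  rw [h1, h2, Cfsg.Agent.Lib.Helper5.GLU.card_orbits_parabolic ν μ hνs hμs]
  have h3 := Cfsg.Agent.Lib.Helper5.GLU.card_orbits_young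
    (Cfsg.Agent.Lib.Helper5.GLU.labF ν hνs) (Cfsg.Agent.Lib.Helper5.GLU.labF μ hμs)
  rw [Cfsg.Agent.Lib.Helper5.GLU.cnt_labF, Cfsg.Agent.Lib.Helper5.GLU.cnt_labF,
    ← youngSubgroup_eq ν hνs, ← youngSubgroup_eq μ hμs] at h3
  rw [h3]

end Cfsg.Agent.S2423
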