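import Cfsg.Statements.S2427
import Mathlib

set_option autoImplicit false
open Cfsg

namespace Cfsg.Agent.S2427

/-- the group `SL₂(3)` -/
abbrev G3 := Matrix.SpecialLinearGroup (Fin 2) (ZMod 3)

/-- the trace -/
def trz (g : G3) : ZMod 3 := g.1 0 0 + g.1 1 1

/-- diagonal (= central) elements -/
def inZ (g : G3) : Prop := g.1 0 1 = 0 ∧ g.1 1 0 = 0

/-- membership predicate for the quaternion subgroup -/
def inQ (g : G3) : Prop := trz g = 0 ∨ inZ g

instance decInZ : DecidablePred inZ := fun g => by unfold inZ; infer_instance

instance decInQ : DecidablePred inQ := fun g => by unfold inQ; infer_instance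

set_option maxRecDepth 100000 in
theorem card_G3 : Fintype.card G3 = 24 := by decide +kernel

set_option maxRecDepth 100000 in
theorem inQ_mul : ∀ a b : G3, inQ a → inQ b → inQ (a * b) := by decide +kernel

set_option maxRecDepth 100000 in
theorem inQ_inv : ∀ a : G3, inQ a → inQ a⁻¹ := by decide +kernel

set_option maxRecDepth 100000 in
theorem inQ_one : inQ (1 : G3) := by decide +kernel

set_option maxRecDepth 100000 in
theorem comm_inQ : ∀ a b : G3, inQ (a * b * a⁻¹ * b⁻¹) := by decide +kernel

set_option maxRecDepth 100000 in
theorem inQ_comm : ∀ g : G3, inQ g → ∃ a b : G3, a * b * a⁻¹ * b⁻¹ = g := by decide +kernel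

set_option maxRecDepth 100000 in
theorem factA : ∀ g h : G3, trz g = 0 → trz h = 0 → ∃ c : G3, c * g * c⁻¹ = h := by
  decide +kernel

set_option maxRecDepth 100000 in
theorem factB : ∀ g : G3, ¬ inQ g → ∃ c : G3, trz (g * (c * g⁻¹ * c⁻¹)) = 0 := by
  decide +kernel

set_option maxRecDepth 100000 in
theorem factC : ∀ g : G3, ¬ inQ g → ∀ k : G3, inQ k ∨ inQ (k * g) ∨ inQ (k * g * g) := by
  decide +kernel

set_option maxRecDepth 100000 in
theorem factD : ∀ h : G3, trz h = 0 → ∀ q : G3, inZ q → q = 1 ∨ q = h * h := by
  decide +kernel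

set_option maxRecDepth 100000 in
theorem factE : ∀ g z : G3, inZ g → g ≠ 1 → inZ z → z = 1 ∨ z = g := by
  decide +kernel

set_option maxRecDepth 100000 in
theorem inZ_iff_comm : ∀ z : G3, inZ z ↔ ∀ g : G3, g * z = z * g := by
  decide +kernel

set_option maxRecDepth 100000 in
theorem card_inQ : Fintype.card {g : G3 // inQ g} = 8 := by decide +kernel

set_option maxRecDepth 100000 in
theorem card_inZ : Fintype.card {g : G3 // inZ g} = 2 := by decide +kernel

/-- the quaternion subgroup -/
def Q : Subgroup G3 where
  carrier := {g | inQ g}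
  mul_mem' := fun {a b} ha hb => inQ_mul a b ha hb
  one_mem' := inQ_one
  inv_mem' := fun {a} ha => inQ_inv a ha

theorem mem_Q (g : G3) : g ∈ Q ↔ inQ g := Iff.rfl

theorem commutator_eq_Q : commutator G3 = Q := by
  apply le_antisymm
  · rw [commutator_eq_closure, Subgroup.closure_le]
    rintro g ⟨a, b, rfl⟩
    rw [commutatorElement_def]
    exact comm_inQ a b
  · intro g hg
    obtain ⟨a, b, rfl⟩ := inQ_comm g hg
    rw [commutator_eq_closure]
    apply Subgroup.subset_closure
    exact ⟨a, b, commutatorElement_def a b⟩

theorem mem_center_iff_inZ (z : G3) : z ∈ Subgroup.center G3 ↔ inZ z := by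
  rw [Subgroup.mem_center_iff, inZ_iff_comm]

theorem card_Q : Nat.card Q = 8 := by
  have : Nat.card Q = Nat.card {g : G3 // inQ g} := rfl
  rw [this, Nat.card_eq_fintype_card, card_inQ]

theorem card_center : Nat.card (Subgroup.center G3) = 2 := by
  have : Nat.card (Subgroup.center G3) = Nat.card {g : G3 // inZ g} := by
    apply Nat.card_congr
    exact Equiv.subtypeEquivRight mem_center_iff_inZ
  rw [this, Nat.card_eq_fintype_card, card_inZ]

/-- the quaternion generators -/
def Imat : G3 := ⟨!![0, 2; 1, 0], by decide⟩
def Jmat : G3 := ⟨!![1, 1; 1, 2], by decide⟩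

/-- the map from the abstract quaternion group -/
def qmap : QuaternionGroup 2 → G3
  | QuaternionGroup.a i => Imat ^ (ZMod.val i)
  | QuaternionGroup.xa i => Jmat * Imat ^ (ZMod.val i)

set_option maxRecDepth 100000 in
theorem qmap_mul : ∀ x y : QuaternionGroup 2, qmap (x * y) = qmap x * qmap y := by
  decide +kernel

set_option maxRecDepth 100000 in
theorem qmap_inj : ∀ x y : QuaternionGroup 2, qmap x = qmap y → x = y := by
  decide +kernel

set_option maxRecDepth 100000 in
theorem qmap_mem : ∀ x : QuaternionGroup 2, inQ (qmap x) := by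
  decide +kernel

set_option maxRecDepth 100000 in
theorem qmap_surj : ∀ g : G3, inQ g → ∃ x : QuaternionGroup 2, qmap x = g := by
  decide +kernel

/-- `qmap` as a homomorphism -/
def qhom : QuaternionGroup 2 →* G3 := MonoidHom.mk' qmap qmap_mul

theorem qhom_range : qhom.range = Q := by
  ext g
  rw [MonoidHom.mem_range, mem_Q]
  constructor
  · rintro ⟨x, rfl⟩; exact qmap_mem x
  · intro h; exact qmap_surj g h

theorem qhom_injective : Function.Injective qhom := fun x y h => qmap_inj x y h

/-- The group SL₂ over the field with 3 elements has order 24 and centre of order 2; its commutator subgroup has order 8, is isomorphic to the quaternion group of order 8 and is complemented by every Sylow 3-subgroup (so the group is a semidirect product of a quaternion group of order 8 by a cyclic group of order 3); and its only normal subgroups besides the trivial subgroup and the whole group are the centre and the commutator subgroup. -/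
theorem result :
    Nat.card (Matrix.SpecialLinearGroup (Fin 2) (ZMod 3)) = 24 ∧
    Nat.card (Subgroup.center (Matrix.SpecialLinearGroup (Fin 2) (ZMod 3))) = 2 ∧
    Nat.card (commutator (Matrix.SpecialLinearGroup (Fin 2) (ZMod 3))) = 8 ∧
    Nonempty (commutator (Matrix.SpecialLinearGroup (Fin 2) (ZMod 3)) ≃* QuaternionGroup 2) ∧
    (∀ P : Sylow 3 (Matrix.SpecialLinearGroup (Fin 2) (ZMod 3)),
      Subgroup.IsComplement' (commutator (Matrix.SpecialLinearGroup (Fin 2) (ZMod 3)))
        (P : Subgroup (Matrix.SpecialLinearGroup (Fin 2) (ZMod 3)))) ∧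
    ∀ N : Subgroup (Matrix.SpecialLinearGroup (Fin 2) (ZMod 3)), N.Normal →
      N = ⊥ ∨ N = ⊤ ∨ N = Subgroup.center (Matrix.SpecialLinearGroup (Fin 2) (ZMod 3)) ∨
        N = commutator (Matrix.SpecialLinearGroup (Fin 2) (ZMod 3)) := by
  have hG : Nat.card G3 = 24 := by rw [Nat.card_eq_fintype_card, card_G3]
  have hQ : Nat.card (commutator G3) = 8 := by rw [commutator_eq_Q, card_Q]
  refine ⟨hG, card_center, hQ, ?_, ?_, ?_⟩
  · -- isomorphism with the quaternion group
    refine ⟨?_⟩
    have e1 : QuaternionGroup 2 ≃* qhom.range := MonoidHom.ofInjective qhom_injective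
    have e2 : qhom.range ≃* commutator G3 :=
      MulEquiv.subgroupCongr (by rw [qhom_range, commutator_eq_Q])
    exact (e1.trans e2).symm
  · -- complements
    intro P
    have hP : Nat.card P = 3 := by
      rw [Sylow.card_eq_multiplicity, hG]
      have : (24 : ℕ).factorization 3 = 1 := by decide +kernel
      rw [this, pow_one]
    apply Subgroup.isComplement'_of_coprime
    · rw [hQ, hP, hG]
    · rw [hQ, hP]; decide
  · -- normal subgroups
    intro N hN
    have hconj : ∀ n ∈ N, ∀ c : G3, c * n * c⁻¹ ∈ N := fun n hn c => hN.conj_mem n hn c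
    -- if `N` contains a trace-zero element then `Q ≤ N`
    have hQle : (∃ h ∈ N, trz h = 0) → Q ≤ N := by
      rintro ⟨h, hhN, hh0⟩ q hq
      rcases hq with hq | hq
      · obtain ⟨c, rfl⟩ := factA h q hh0 hq
        exact hconj h hhN c
      · rcases factD h hh0 q hq with rfl | rfl
        · exact N.one_mem
        · exact N.mul_mem hhN hhN
    by_cases h1 : ∃ g ∈ N, ¬ inQ g
    · right; left
      obtain ⟨g, hgN, hgQ⟩ := h1
      obtain ⟨c, hc⟩ := factB g hgQ
      have hmem : g * (c * g⁻¹ * c⁻¹) ∈ N := N.mul_mem hgN (hconj _ (N.inv_mem hgN) c)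
      have hQN : Q ≤ N := hQle ⟨_, hmem, hc⟩
      rw [eq_top_iff]
      intro k _
      rcases factC g hgQ k with hk | hk | hk
      · exact hQN hk
      · have := N.mul_mem (hQN hk) (N.inv_mem hgN)
        simpa using this
      · have := N.mul_mem (N.mul_mem (hQN hk) (N.inv_mem hgN)) (N.inv_mem hgN)
        simpa using this
    · push Not at h1
      by_cases h2 : ∃ h ∈ N, trz h = 0
      · right; right; right
        rw [commutator_eq_Q]
        exact le_antisymm (fun g hg => h1 g hg) (hQle h2)
      · push Not at h2
        have hNZ : ∀ g ∈ N, inZ g := by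
          intro g hg
          rcases h1 g hg with h | h
          · exact absurd h (h2 g hg)
          · exact h
        by_cases h3 : ∃ g ∈ N, g ≠ 1
        · right; right; left
          obtain ⟨g, hgN, hg1⟩ := h3
          apply le_antisymm
          · intro n hn
            exact (mem_center_iff_inZ n).mpr (hNZ n hn)
          · intro z hz
            rcases factE g z (hNZ g hgN) hg1 ((mem_center_iff_inZ z).mp hz) with rfl | rfl
            · exact N.one_mem
            · exact hgN
        · left
          push Not at h3
          rw [eq_bot_iff]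
          intro g hg
          rw [Subgroup.mem_bot]
          exact h3 g hg

end Cfsg.Agent.S2427
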