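import Cfsg.Statements.S2430
import Mathlib
import Cfsg.Agent.Lib.Helper5.SL2Sylow
import Cfsg.Agent.Lib.Helper41.SL2Basic
import Cfsg.Agent.Lib.Helper41.SL2Nonsplit
import Cfsg.Agent.Lib.Helper41.SL2Torus
import Cfsg.Agent.Lib.Helper41.SL2TorusCount
import Cfsg.Agent.Lib.Helper41.SL2NsTorus
import Cfsg.Agent.Lib.Helper41.SL2NsTorusNorm
import Cfsg.Agent.Lib.Helper41.SL2NsTorusCard
import Cfsg.Agent.Lib.Helper41.SL2NsTorusMain
import Cfsg.Agent.Lib.Helper41.SL2NsTorusClass
import Cfsg.Agent.Lib.Helper41.SylowAbelian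

set_option autoImplicit false
open Cfsg

namespace Cfsg.Agent.S2430

open Cfsg.Agent.Lib.Helper41
open scoped Pointwise

theorem two_ne_zero_of_odd_card {F : Type*} [Field F] [Fintype F] (hodd : Odd (Fintype.card F)) :
    (2 : F) ≠ 0 := by
  intro h
  have h' : ((2 : ℕ) : F) = 0 := by exact_mod_cast h
  have hchar : ringChar F = 2 := CharP.ringChar_of_prime_eq_zero Nat.prime_two h'
  have := FiniteField.even_card_of_char_two hchar
  rw [Nat.odd_iff] at hodd
  omega

theorem isDiag_commute {F : Type*} [Field F] {g h : Matrix.SpecialLinearGroup (Fin 2) F}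
    (hg : IsDiag g) (hh : IsDiag h) : g * h = h * g := by
  apply sl2_ext <;>
    simp only [mul_apply_00, mul_apply_01, mul_apply_10, mul_apply_11, hg.1, hg.2, hh.1, hh.2] <;>
    ring

theorem not_order_of_mul_self {G : Type*} [Group G] {x : G} (hx : x * x = 1) {ℓ : ℕ}
    (hℓp : ℓ.Prime) (hℓ : ℓ ≠ 2) : orderOf x ≠ ℓ := by
  intro h
  have h2 : orderOf x ∣ 2 := orderOf_dvd_of_pow_eq_one (by rw [pow_two]; exact hx)
  rw [h] at h2
  exact hℓ ((Nat.prime_dvd_prime_iff_eq hℓp Nat.prime_two).mp h2)

theorem isCyclic_diagSub {F : Type*} [Field F] [Fintype F] : IsCyclic (diagSub F) := by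
  rw [diagSub_eq_range]
  exact isCyclic_of_surjective (diagHom (F := F)).rangeRestrict
    (diagHom (F := F)).rangeRestrict_surjective

/-- Let F be a finite field with q elements, q odd, ℓ an odd prime, and P a Sylow ℓ-subgroup of SL₂ over F. If ℓ divides q − 1, the centraliser of P is cyclic of order q − 1 (a split torus) and the normaliser of P has order 2(q − 1); if ℓ divides q + 1, the centraliser of P is cyclic of order q + 1 (a non-split torus) and the normaliser of P has order 2(q + 1). -/
theorem result {F : Type*} [Field F] [Fintype F] (hodd : Odd (Fintype.card F)) (ℓ : ℕ) [Fact ℓ.Prime] (hℓ : ℓ ≠ 2)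
    (P : Sylow ℓ (Matrix.SpecialLinearGroup (Fin 2) F)) :
    (ℓ ∣ Fintype.card F - 1 →
      Nat.card (Subgroup.centralizer ((P : Subgroup (Matrix.SpecialLinearGroup (Fin 2) F)) : Set (Matrix.SpecialLinearGroup (Fin 2) F))) = Fintype.card F - 1 ∧
      IsCyclic (Subgroup.centralizer ((P : Subgroup (Matrix.SpecialLinearGroup (Fin 2) F)) : Set (Matrix.SpecialLinearGroup (Fin 2) F))) ∧
      Nat.card (Subgroup.normalizer ((P : Subgroup (Matrix.SpecialLinearGroup (Fin 2) F)) : Set (Matrix.SpecialLinearGroup (Fin 2) F))) = 2 * (Fintype.card F - 1)) ∧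
    (ℓ ∣ Fintype.card F + 1 →
      Nat.card (Subgroup.centralizer ((P : Subgroup (Matrix.SpecialLinearGroup (Fin 2) F)) : Set (Matrix.SpecialLinearGroup (Fin 2) F))) = Fintype.card F + 1 ∧
      IsCyclic (Subgroup.centralizer ((P : Subgroup (Matrix.SpecialLinearGroup (Fin 2) F)) : Set (Matrix.SpecialLinearGroup (Fin 2) F))) ∧
      Nat.card (Subgroup.normalizer ((P : Subgroup (Matrix.SpecialLinearGroup (Fin 2) F)) : Set (Matrix.SpecialLinearGroup (Fin 2) F))) = 2 * (Fintype.card F + 1)) := by
  have h2 : (2 : F) ≠ 0 := two_ne_zero_of_odd_card hodd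
  have hℓp : ℓ.Prime := Fact.out
  have hq : 2 ≤ Fintype.card F := Fintype.one_lt_card
  have hG : Nat.card (Matrix.SpecialLinearGroup (Fin 2) F)
      = Fintype.card F * (Fintype.card F ^ 2 - 1) := Cfsg.Agent.Lib.Helper5.card_SL2
  have hfac : Fintype.card F ^ 2 - 1 = (Fintype.card F + 1) * (Fintype.card F - 1) := by
    zify [show 1 ≤ Fintype.card F by omega,
      show 1 ≤ Fintype.card F ^ 2 from Nat.one_le_pow _ _ (by omega)]
    ring
  have hcop1 : ¬ ℓ ∣ Fintype.card F ∨ ¬ ℓ ∣ Fintype.card F - 1 := by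
    by_contra hcon
    push Not at hcon
    have := (Nat.dvd_sub hcon.1 hcon.2)
    rw [show Fintype.card F - (Fintype.card F - 1) = 1 by omega] at this
    exact hℓp.one_lt.ne' (Nat.dvd_one.mp this)
  have hcop2 : ¬ ℓ ∣ Fintype.card F ∨ ¬ ℓ ∣ Fintype.card F + 1 := by
    by_contra hcon
    push Not at hcon
    have := (Nat.dvd_sub hcon.2 hcon.1)
    rw [show Fintype.card F + 1 - Fintype.card F = 1 by omega] at this
    exact hℓp.one_lt.ne' (Nat.dvd_one.mp this)
  have hcop3 : ¬ ℓ ∣ Fintype.card F - 1 ∨ ¬ ℓ ∣ Fintype.card F + 1 := by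
    by_contra hcon
    push Not at hcon
    have := (Nat.dvd_sub hcon.2 hcon.1)
    rw [show Fintype.card F + 1 - (Fintype.card F - 1) = 2 by omega] at this
    exact hℓ ((Nat.prime_dvd_prime_iff_eq hℓp Nat.prime_two).mp this)
  constructor
  · intro hdvd
    -- a regular diagonal element exists since `T` contains an element of order `ℓ`
    have hcardT : Nat.card (diagSub F) = Fintype.card F - 1 := card_diagSub
    have hidx : ¬ ℓ ∣ (diagSub F).index := by
      intro hcon
      have h1 := (diagSub F).card_mul_index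
      rw [hcardT, hG, hfac] at h1
      have h3 : (diagSub F).index = Fintype.card F * (Fintype.card F + 1) := by
        have hpos : 0 < Fintype.card F - 1 := by omega
        apply Nat.eq_of_mul_eq_mul_left hpos
        rw [h1]; ring
      rw [h3] at hcon
      rcases (Nat.Prime.dvd_mul hℓp).mp hcon with h | h
      · rcases hcop1 with h' | h'
        · exact h' h
        · exact h' hdvd
      · rcases hcop3 with h' | h'
        · exact h' hdvd
        · exact h' h
    have hreg : ∀ x ∈ diagSub F, orderOf x = ℓ →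
        (x : Matrix (Fin 2) (Fin 2) F) 0 0 ^ 2 ≠ 1 := by
      intro x hx hord ha
      have hdet := sl2_det x
      rw [hx.1, zero_mul, sub_zero] at hdet
      have h11 : (x : Matrix (Fin 2) (Fin 2) F) 1 1 = (x : Matrix (Fin 2) (Fin 2) F) 0 0 := by
        calc (x : Matrix (Fin 2) (Fin 2) F) 1 1
            = (x : Matrix (Fin 2) (Fin 2) F) 0 0 ^ 2 * (x : Matrix (Fin 2) (Fin 2) F) 1 1 := by
              rw [ha, one_mul]
          _ = (x : Matrix (Fin 2) (Fin 2) F) 0 0 := by
              rw [pow_two, mul_assoc, hdet, mul_one]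
      have hxx : x * x = 1 := by
        apply sl2_ext <;>
          simp only [mul_apply_00, mul_apply_01, mul_apply_10, mul_apply_11, hx.1, hx.2, h11] <;>
          simp
        · rw [← pow_two]; exact ha
        · rw [← pow_two]; exact ha
      exact not_order_of_mul_self hxx hℓp hℓ hord
    obtain ⟨g, hCg, hNg⟩ := exists_conj_centralizer_normalizer_sylow (diagSub F) ℓ
      (fun a ha b hb => isDiag_commute ha hb) (by rw [hcardT]; exact hdvd) hidx
      (fun x hx hord => (centralizer_eq_diagSub x hx (hreg x hx hord)).le) P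
    -- a regular element, to identify the normaliser
    obtain ⟨x₀, hx₀⟩ := exists_prime_orderOf_dvd_card' (G := diagSub F) ℓ
      (by rw [hcardT]; exact hdvd)
    have hx₀' : orderOf ((x₀ : diagSub F) : Matrix.SpecialLinearGroup (Fin 2) F) = ℓ := by
      rw [Subgroup.orderOf_coe, hx₀]
    have hN := normalizer_diagSub (x₀ : Matrix.SpecialLinearGroup (Fin 2) F) x₀.2
      (hreg _ x₀.2 hx₀')
    rw [hCg, hNg, hN]
    refine ⟨?_, ?_, ?_⟩
    · rw [card_conj_smul, hcardT]
    · have := isCyclic_diagSub (F := F)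
      exact isCyclic_conj_smul g (diagSub F)
    · rw [card_conj_smul, card_monoSub]
  · intro hdvd
    obtain ⟨t, ht⟩ := exists_nonsplit_trace (F := F)
    have hcardT : Nat.card (nsTorus t) = Fintype.card F + 1 := card_nsTorus ht
    have hidx : ¬ ℓ ∣ (nsTorus t).index := by
      intro hcon
      have h1 := (nsTorus t).card_mul_index
      rw [hcardT, hG, hfac] at h1
      have h3 : (nsTorus t).index = Fintype.card F * (Fintype.card F - 1) := by
        have hpos : 0 < Fintype.card F + 1 := by omega
        apply Nat.eq_of_mul_eq_mul_left hpos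
        rw [h1]; ring
      rw [h3] at hcon
      rcases (Nat.Prime.dvd_mul hℓp).mp hcon with h | h
      · rcases hcop2 with h' | h'
        · exact h' h
        · exact h' hdvd
      · rcases hcop3 with h' | h'
        · exact h' h
        · exact h' hdvd
    have hreg : ∀ x ∈ nsTorus t, orderOf x = ℓ →
        (x : Matrix (Fin 2) (Fin 2) F) 1 0 ≠ 0 := by
      intro x hx hord hc
      rw [mem_nsTorus_iff] at hx
      have hxx : x * x = 1 := by
        apply Subtype.ext
        rw [Matrix.SpecialLinearGroup.coe_mul]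
        rcases hx.eq_one_or_neg_one hc with h | h <;> rw [h] <;> simp
      exact not_order_of_mul_self hxx hℓp hℓ hord
    obtain ⟨g, hCg, hNg⟩ := exists_conj_centralizer_normalizer_sylow (nsTorus t) ℓ
      (fun a ha b hb => ((mem_nsTorus_iff t a).mp ha).commute ((mem_nsTorus_iff t b).mp hb))
      (by rw [hcardT]; exact hdvd) hidx
      (fun x hx hord =>
        (centralizer_eq_nsTorus ((mem_nsTorus_iff t x).mp hx) (hreg x hx hord)).le) P
    rw [hCg, hNg]
    refine ⟨?_, ?_, ?_⟩
    · rw [card_conj_smul, hcardT]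
    · have := isCyclic_nsTorus ht
      exact isCyclic_conj_smul g (nsTorus t)
    · rw [card_conj_smul, card_normalizer_nsTorus h2 ht]

end Cfsg.Agent.S2430
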