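import Cfsg.Statements.S2436
import Cfsg.Agent.Lib.Helper39.SL2McKayLeft
import Cfsg.Agent.Lib.Helper39.SL2McKayRight

set_option autoImplicit false
open Cfsg

namespace Cfsg.Agent.S2436

/-- Let F be a finite field with q elements, q odd, ℓ any prime and S a Sylow ℓ-subgroup of SL₂ over F with normaliser N. Then SL₂ and N have the same number of irreducible complex characters of degree not divisible by ℓ (the McKay equality holds for SL₂ over F at every prime). -/
theorem result {F : Type*} [Field F] [Fintype F] (hodd : Odd (Fintype.card F)) (ℓ : ℕ) [Fact ℓ.Prime] (S : Sylow ℓ (Matrix.SpecialLinearGroup (Fin 2) F)) :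
    Nat.card {χ : Cfsg.IrrCharacter (Matrix.SpecialLinearGroup (Fin 2) F) // ¬ ℓ ∣ Cfsg.charDegree (χ : Matrix.SpecialLinearGroup (Fin 2) F → ℂ)} =
      Nat.card {ψ : Cfsg.IrrCharacter (Subgroup.normalizer ((S : Subgroup (Matrix.SpecialLinearGroup (Fin 2) F)) : Set (Matrix.SpecialLinearGroup (Fin 2) F))) //
        ¬ ℓ ∣ Cfsg.charDegree (ψ : Subgroup.normalizer ((S : Subgroup (Matrix.SpecialLinearGroup (Fin 2) F)) : Set (Matrix.SpecialLinearGroup (Fin 2) F)) → ℂ)} := by
  classical
  have hℓp : ℓ.Prime := Fact.out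
  have hℓ2' : 2 ≤ ℓ := hℓp.two_le
  have h2 : (2 : F) ≠ 0 := Cfsg.Agent.Lib.Helper39.two_ne_zero_of_odd_card' hodd
  have hodd' := hodd
  obtain ⟨N, hN⟩ := hodd
  have hq : 2 ≤ Fintype.card F := Fintype.one_lt_card
  have hN1 : 1 ≤ N := by omega
  have hL := Cfsg.Agent.Lib.Helper39.sl2_mckay_left (F := F) N hN ℓ
  have hn1 : ¬ ℓ ∣ 1 := fun h => by have := Nat.le_of_dvd one_pos h; omega
  have hdiff : ∀ a b : ℕ, a ≤ b → ℓ ∣ a → ℓ ∣ b → ℓ ∣ b - a := fun a b _ ha hb => Nat.dvd_sub hb ha
  by_cases hℓ2 : ℓ = 2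
  · subst hℓ2
    rw [Cfsg.Agent.Lib.Helper39.mckay_right_two hodd' S]
    have h4 : (Nat.card {χ : Cfsg.IrrCharacter (Matrix.SpecialLinearGroup (Fin 2) F) //
        ¬ 2 ∣ Cfsg.charDegree (χ : Matrix.SpecialLinearGroup (Fin 2) F → ℂ)} : ℤ) = 4 := by
      rw [hL]
      split_ifs <;> omega
    exact_mod_cast h4
  · have hodd2 : ∀ k : ℕ, ℓ ∣ 2 * k → ℓ ∣ k := by
      intro k hk
      rcases (Nat.Prime.dvd_mul hℓp).mp hk with h | h
      · exact absurd ((Nat.prime_dvd_prime_iff_eq hℓp Nat.prime_two).mp h) hℓ2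
      · exact h
    have hn2 : ¬ ℓ ∣ 2 := fun h => hℓ2 ((Nat.prime_dvd_prime_iff_eq hℓp Nat.prime_two).mp h)
    by_cases hq0 : ℓ ∣ Fintype.card F
    · -- the defining characteristic
      have hchar : CharP F ℓ := by
        obtain ⟨n, hp, hn⟩ := FiniteField.card F (ringChar F)
        rw [hn] at hq0
        have h1 := hℓp.dvd_of_dvd_pow hq0
        have h3 := (Nat.prime_dvd_prime_iff_eq hℓp hp).mp h1
        rw [h3]
        exact ringChar.charP F
      rw [Cfsg.Agent.Lib.Helper39.mckay_right_char h2 ℓ S]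
      rw [hN] at hq0
      have c1 : ¬ ℓ ∣ 2 * N + 2 := fun h => hn1 (by
        have := hdiff _ _ (by omega) hq0 h
        rwa [show 2 * N + 2 - (2 * N + 1) = 1 by omega] at this)
      have c2 : ¬ ℓ ∣ N + 1 := fun h => c1 (by
        have := Dvd.dvd.mul_left h 2
        rwa [show 2 * (N + 1) = 2 * N + 2 by ring] at this)
      have c3 : ¬ ℓ ∣ 2 * N := fun h => hn1 (by
        have := hdiff _ _ (by omega) h hq0
        rwa [show 2 * N + 1 - 2 * N = 1 by omega] at this)
      have c4 : ¬ ℓ ∣ N := fun h => c3 (Dvd.dvd.mul_left h 2)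
      rw [if_pos hn1, if_neg (not_not.mpr hq0), if_pos c1, if_pos c2, if_pos c3, if_pos c4] at hL
      have : (Nat.card {χ : Cfsg.IrrCharacter (Matrix.SpecialLinearGroup (Fin 2) F) //
          ¬ ℓ ∣ Cfsg.charDegree (χ : Matrix.SpecialLinearGroup (Fin 2) F → ℂ)} : ℤ) =
          ((Fintype.card F + 3 : ℕ) : ℤ) := by
        rw [hL, hN]; push_cast; ring
      exact_mod_cast this
    · by_cases hqm : ℓ ∣ Fintype.card F - 1
      · have hR := Cfsg.Agent.Lib.Helper39.mckay_right_split hodd' ℓ hℓ2 hqm hq0 S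
        rw [hN] at hq0 hqm
        rw [show 2 * N + 1 - 1 = 2 * N by omega] at hqm
        have c0 : ℓ ∣ N := hodd2 N hqm
        have c1 : ¬ ℓ ∣ 2 * N + 2 := fun h => hn2 (by
          have := hdiff _ _ (by omega) hqm h
          rwa [show 2 * N + 2 - 2 * N = 2 by omega] at this)
        have c2 : ¬ ℓ ∣ N + 1 := fun h => hn1 (by
          have := hdiff _ _ (by omega) c0 h
          rwa [show N + 1 - N = 1 by omega] at this)
        rw [if_pos hn1, if_pos hq0, if_pos c1, if_pos c2, if_neg (not_not.mpr hqm),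
          if_neg (not_not.mpr c0)] at hL
        rw [hN] at hR
        have hR' : (2 : ℤ) * (Nat.card {ψ : Cfsg.IrrCharacter (Subgroup.normalizer ((S : Subgroup (Matrix.SpecialLinearGroup (Fin 2) F)) : Set (Matrix.SpecialLinearGroup (Fin 2) F))) //
            ¬ ℓ ∣ Cfsg.charDegree (ψ : Subgroup.normalizer ((S : Subgroup (Matrix.SpecialLinearGroup (Fin 2) F)) : Set (Matrix.SpecialLinearGroup (Fin 2) F)) → ℂ)} : ℤ) =
            2 * (N : ℤ) + 6 := by
          have := congrArg (fun n : ℕ => (n : ℤ)) hR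
          rw [show 2 * N + 1 - 1 + 6 = 2 * N + 6 by omega] at this
          push_cast at this
          exact this
        have : (Nat.card {χ : Cfsg.IrrCharacter (Matrix.SpecialLinearGroup (Fin 2) F) //
            ¬ ℓ ∣ Cfsg.charDegree (χ : Matrix.SpecialLinearGroup (Fin 2) F → ℂ)} : ℤ) =
            (Nat.card {ψ : Cfsg.IrrCharacter (Subgroup.normalizer ((S : Subgroup (Matrix.SpecialLinearGroup (Fin 2) F)) : Set (Matrix.SpecialLinearGroup (Fin 2) F))) //
            ¬ ℓ ∣ Cfsg.charDegree (ψ : Subgroup.normalizer ((S : Subgroup (Matrix.SpecialLinearGroup (Fin 2) F)) : Set (Matrix.SpecialLinearGroup (Fin 2) F)) → ℂ)} : ℤ) := by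
          rw [hL]; linarith
        exact_mod_cast this
      · by_cases hqp : ℓ ∣ Fintype.card F + 1
        · have hR := Cfsg.Agent.Lib.Helper39.mckay_right_nonsplit hodd' ℓ hℓ2 hqp hq0 S
          rw [hN] at hq0 hqm hqp
          rw [show 2 * N + 1 - 1 = 2 * N by omega] at hqm
          rw [show 2 * N + 1 + 1 = 2 * (N + 1) by ring] at hqp
          have c0 : ℓ ∣ N + 1 := hodd2 (N + 1) hqp
          have c1 : ℓ ∣ 2 * N + 2 := by rwa [show 2 * N + 2 = 2 * (N + 1) by ring]
          have c2 : ¬ ℓ ∣ N := fun h => hqm (Dvd.dvd.mul_left h 2)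
          rw [if_pos hn1, if_pos hq0, if_neg (not_not.mpr c1), if_neg (not_not.mpr c0), if_pos hqm,
            if_pos c2] at hL
          rw [hN] at hR
          have hR' : (2 : ℤ) * (Nat.card {ψ : Cfsg.IrrCharacter (Subgroup.normalizer ((S : Subgroup (Matrix.SpecialLinearGroup (Fin 2) F)) : Set (Matrix.SpecialLinearGroup (Fin 2) F))) //
              ¬ ℓ ∣ Cfsg.charDegree (ψ : Subgroup.normalizer ((S : Subgroup (Matrix.SpecialLinearGroup (Fin 2) F)) : Set (Matrix.SpecialLinearGroup (Fin 2) F)) → ℂ)} : ℤ) =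
              2 * (N : ℤ) + 8 := by
            have := congrArg (fun n : ℕ => (n : ℤ)) hR
            push_cast at this
            linarith
          have : (Nat.card {χ : Cfsg.IrrCharacter (Matrix.SpecialLinearGroup (Fin 2) F) //
              ¬ ℓ ∣ Cfsg.charDegree (χ : Matrix.SpecialLinearGroup (Fin 2) F → ℂ)} : ℤ) =
              (Nat.card {ψ : Cfsg.IrrCharacter (Subgroup.normalizer ((S : Subgroup (Matrix.SpecialLinearGroup (Fin 2) F)) : Set (Matrix.SpecialLinearGroup (Fin 2) F))) //
              ¬ ℓ ∣ Cfsg.charDegree (ψ : Subgroup.normalizer ((S : Subgroup (Matrix.SpecialLinearGroup (Fin 2) F)) : Set (Matrix.SpecialLinearGroup (Fin 2) F)) → ℂ)} : ℤ) := by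
            rw [hL]; linarith
          exact_mod_cast this
        · -- `ℓ` does not divide the group order
          have hG : Nat.card (Matrix.SpecialLinearGroup (Fin 2) F)
              = Fintype.card F * (Fintype.card F ^ 2 - 1) := Cfsg.Agent.Lib.Helper5.card_SL2
          have hfac : Fintype.card F ^ 2 - 1 = (Fintype.card F + 1) * (Fintype.card F - 1) := by
            zify [show 1 ≤ Fintype.card F by omega,
              show 1 ≤ Fintype.card F ^ 2 from Nat.one_le_pow _ _ (by omega)]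
            ring
          have hnd : ¬ ℓ ∣ Nat.card (Matrix.SpecialLinearGroup (Fin 2) F) := by
            rw [hG, hfac]
            intro h
            rcases (Nat.Prime.dvd_mul hℓp).mp h with h | h
            · exact hq0 h
            · rcases (Nat.Prime.dvd_mul hℓp).mp h with h | h
              · exact hqp h
              · exact hqm h
          exact (Cfsg.Agent.Lib.Helper39.mckay_right_trivial ℓ hnd S).symm

end Cfsg.Agent.S2436
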