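import Cfsg.Statements.S2438
import Cfsg.Agent.Lib.Helper39.SL2Cusp

set_option autoImplicit false
open Cfsg

namespace Cfsg.Agent.S2438

/-- Let F be a finite field with q elements, q odd, q ≥ 5, U the upper unitriangular subgroup of SL₂ over F, and χ an irreducible complex character. The sum of the values of χ over U equals 2q, q, 0, q, 0 according as the degree of χ is q + 1, q, q − 1, (q + 1)/2, (q − 1)/2; so among these five degrees the sum vanishes exactly for the degrees q − 1 and (q − 1)/2, i.e. the irreducible characters of those two degrees are the ones whose restriction to U does not contain the trivial character (the cuspidal characters), while those of degree q + 1, q and (q + 1)/2 are not cuspidal. -/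
theorem result {F : Type*} [Field F] [Fintype F] [DecidableEq F] (hodd : Odd (Fintype.card F)) (hq : 5 ≤ Fintype.card F)
    (χ : Matrix.SpecialLinearGroup (Fin 2) F → ℂ) (hχ : Cfsg.IsIrrCharacter (Matrix.SpecialLinearGroup (Fin 2) F) χ) :
    (χ 1 = (Fintype.card F : ℂ) + 1 →
      (∑ g : Matrix.SpecialLinearGroup (Fin 2) F, if (g : Matrix (Fin 2) (Fin 2) F) 1 0 = 0 ∧ (g : Matrix (Fin 2) (Fin 2) F) 0 0 = 1 ∧ (g : Matrix (Fin 2) (Fin 2) F) 1 1 = 1 then χ g else 0) = 2 * (Fintype.card F : ℂ)) ∧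
    (χ 1 = (Fintype.card F : ℂ) →
      (∑ g : Matrix.SpecialLinearGroup (Fin 2) F, if (g : Matrix (Fin 2) (Fin 2) F) 1 0 = 0 ∧ (g : Matrix (Fin 2) (Fin 2) F) 0 0 = 1 ∧ (g : Matrix (Fin 2) (Fin 2) F) 1 1 = 1 then χ g else 0) = (Fintype.card F : ℂ)) ∧
    (χ 1 = (Fintype.card F : ℂ) - 1 →
      (∑ g : Matrix.SpecialLinearGroup (Fin 2) F, if (g : Matrix (Fin 2) (Fin 2) F) 1 0 = 0 ∧ (g : Matrix (Fin 2) (Fin 2) F) 0 0 = 1 ∧ (g : Matrix (Fin 2) (Fin 2) F) 1 1 = 1 then χ g else 0) = 0) ∧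
    (χ 1 = (((Fintype.card F + 1) / 2 : ℕ) : ℂ) →
      (∑ g : Matrix.SpecialLinearGroup (Fin 2) F, if (g : Matrix (Fin 2) (Fin 2) F) 1 0 = 0 ∧ (g : Matrix (Fin 2) (Fin 2) F) 0 0 = 1 ∧ (g : Matrix (Fin 2) (Fin 2) F) 1 1 = 1 then χ g else 0) = (Fintype.card F : ℂ)) ∧
    (χ 1 = (((Fintype.card F - 1) / 2 : ℕ) : ℂ) →
      (∑ g : Matrix.SpecialLinearGroup (Fin 2) F, if (g : Matrix (Fin 2) (Fin 2) F) 1 0 = 0 ∧ (g : Matrix (Fin 2) (Fin 2) F) 0 0 = 1 ∧ (g : Matrix (Fin 2) (Fin 2) F) 1 1 = 1 then χ g else 0) = 0) := by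
  classical
  obtain ⟨n, ρ, hirr, rfl⟩ := hχ
  simp only [Cfsg.Agent.Lib.Helper39.sum_unitriangular, Cfsg.Agent.Lib.Helper39.sum_char_upperU,
    Representation.char_one]
  obtain ⟨h1, h2, h3, h4, h5⟩ := Cfsg.Agent.Lib.Helper39.fixUS_of_degree_odd hodd hq ρ hirr
  have hq1 : 1 ≤ Fintype.card F := by omega
  obtain ⟨k, hk⟩ := hodd
  refine ⟨?_, ?_, ?_, ?_, ?_⟩
  · intro hd
    have hd' : Module.finrank ℂ (Fin n → ℂ) = Fintype.card F + 1 := by exact_mod_cast hd
    rw [h1 hd']; push_cast; ring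
  · intro hd
    have hd' : Module.finrank ℂ (Fin n → ℂ) = Fintype.card F := by exact_mod_cast hd
    rw [h2 hd']; push_cast; ring
  · intro hd
    have hd' : Module.finrank ℂ (Fin n → ℂ) + 1 = Fintype.card F := by
      have : (Module.finrank ℂ (Fin n → ℂ) : ℂ) + 1 = (Fintype.card F : ℂ) := by
        rw [hd]; ring
      exact_mod_cast this
    rw [h3 hd']; push_cast; ring
  · intro hd
    have hd' : Module.finrank ℂ (Fin n → ℂ) = (Fintype.card F + 1) / 2 := by exact_mod_cast hd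
    rw [h4 (by omega)]; push_cast; ring
  · intro hd
    have hd' : Module.finrank ℂ (Fin n → ℂ) = (Fintype.card F - 1) / 2 := by exact_mod_cast hd
    rw [h5 (by omega)]; push_cast; ring

end Cfsg.Agent.S2438
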