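import Cfsg.Statements.S2439
import Cfsg.Agent.Lib.Helper39.SL2Blocks
import Cfsg.Agent.Lib.Helper16.Osima
import Cfsg.Agent.Lib.Helper80.CharBasic

set_option autoImplicit false
open Cfsg

namespace Cfsg.Agent.S2439

/-- Let F be a finite field with q elements of odd characteristic p, and M a maximal ideal of the algebraic integers containing p. Then SL₂ over F has exactly three p-blocks relative to M: the irreducible character of degree q (the Steinberg character) alone; the other irreducible characters taking the same value at −1 as at 1 (the principal block); and the irreducible characters χ with χ(−1) = −χ(1). Every Sylow p-subgroup is a defect group of each of the last two blocks. -/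
theorem result {F : Type*} [Field F] [Fintype F] (p : ℕ) [Fact p.Prime] [CharP F p] (hp : p ≠ 2)
    (M : Ideal Cfsg.AlgInt) (hM : Cfsg.IsPModular p M) :
    (∀ B : Set (Cfsg.IrrCharacter (Matrix.SpecialLinearGroup (Fin 2) F)), Cfsg.IsPBlock M B ↔
      (B = {χ : Cfsg.IrrCharacter (Matrix.SpecialLinearGroup (Fin 2) F) | (χ : Matrix.SpecialLinearGroup (Fin 2) F → ℂ) 1 = (Fintype.card F : ℂ)} ∨
       B = {χ : Cfsg.IrrCharacter (Matrix.SpecialLinearGroup (Fin 2) F) | (χ : Matrix.SpecialLinearGroup (Fin 2) F → ℂ) (-1) = (χ : Matrix.SpecialLinearGroup (Fin 2) F → ℂ) 1 ∧ (χ : Matrix.SpecialLinearGroup (Fin 2) F → ℂ) 1 ≠ (Fintype.card F : ℂ)} ∨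
       B = {χ : Cfsg.IrrCharacter (Matrix.SpecialLinearGroup (Fin 2) F) | (χ : Matrix.SpecialLinearGroup (Fin 2) F → ℂ) (-1) = -(χ : Matrix.SpecialLinearGroup (Fin 2) F → ℂ) 1})) ∧
    Nat.card {B : Set (Cfsg.IrrCharacter (Matrix.SpecialLinearGroup (Fin 2) F)) // Cfsg.IsPBlock M B} = 3 ∧
    ∀ P : Sylow p (Matrix.SpecialLinearGroup (Fin 2) F),
      Cfsg.IsDefectGroup p M {χ : Cfsg.IrrCharacter (Matrix.SpecialLinearGroup (Fin 2) F) | (χ : Matrix.SpecialLinearGroup (Fin 2) F → ℂ) (-1) = (χ : Matrix.SpecialLinearGroup (Fin 2) F → ℂ) 1 ∧ (χ : Matrix.SpecialLinearGroup (Fin 2) F → ℂ) 1 ≠ (Fintype.card F : ℂ)} (P : Subgroup (Matrix.SpecialLinearGroup (Fin 2) F)) ∧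
      Cfsg.IsDefectGroup p M {χ : Cfsg.IrrCharacter (Matrix.SpecialLinearGroup (Fin 2) F) | (χ : Matrix.SpecialLinearGroup (Fin 2) F → ℂ) (-1) = -(χ : Matrix.SpecialLinearGroup (Fin 2) F → ℂ) 1} (P : Subgroup (Matrix.SpecialLinearGroup (Fin 2) F)) := by
  classical
  have hpp : p.Prime := Fact.out
  have hMp : M.IsPrime := hM.2.1.isPrime
  have hMtop : M ≠ ⊤ := hMp.ne_top
  have hF : ringChar F ≠ 2 := by
    rw [ringChar.eq F p]; exact hp
  obtain ⟨sgn, hsgn, hz1, hStsgn, hStuniq, ⟨St, hSt⟩, hsame, hdiffsgn, hStalone⟩ :=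
    Cfsg.Agent.Lib.Helper39.sl2_block_core (F := F) p hp M hM
  have hneg : (-1 : Matrix.SpecialLinearGroup (Fin 2) F) = Cfsg.Agent.Lib.Helper39.negOneSL := by
    apply Subtype.ext
    rw [Matrix.SpecialLinearGroup.coe_neg, Cfsg.Agent.Lib.Helper39.coe_negOneSL]
    simp [Matrix.one_fin_two]
  have hq2 : 2 ≤ Fintype.card F := Fintype.one_lt_card
  have hq0 : (Fintype.card F : ℂ) ≠ 0 := by
    have : Fintype.card F ≠ 0 := by omega
    exact_mod_cast this
  have hdeg0 : ∀ χ : Cfsg.IrrCharacter (Matrix.SpecialLinearGroup (Fin 2) F),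
      (χ : Matrix.SpecialLinearGroup (Fin 2) F → ℂ) 1 ≠ 0 :=
    fun χ => Cfsg.Agent.Lib.Helper79.irr_apply_one_ne_zero χ
  have hone_ne : (1 : ℂ) ≠ -1 := by norm_num
  -- membership conversions
  have hodd_iff : ∀ χ : Cfsg.IrrCharacter (Matrix.SpecialLinearGroup (Fin 2) F),
      ((χ : Matrix.SpecialLinearGroup (Fin 2) F → ℂ) (-1) =
        -(χ : Matrix.SpecialLinearGroup (Fin 2) F → ℂ) 1) ↔ sgn χ = -1 := by
    intro χ
    rw [hneg, hz1 χ]
    constructor
    · intro h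
      have : (sgn χ + 1) * (χ : Matrix.SpecialLinearGroup (Fin 2) F → ℂ) 1 = 0 := by
        linear_combination h
      rcases mul_eq_zero.mp this with h' | h'
      · linear_combination h'
      · exact absurd h' (hdeg0 χ)
    · intro h; rw [h]; ring
  have heven_iff : ∀ χ : Cfsg.IrrCharacter (Matrix.SpecialLinearGroup (Fin 2) F),
      ((χ : Matrix.SpecialLinearGroup (Fin 2) F → ℂ) (-1) =
        (χ : Matrix.SpecialLinearGroup (Fin 2) F → ℂ) 1) ↔ sgn χ = 1 := by
    intro χ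
    rw [hneg, hz1 χ]
    constructor
    · intro h
      have : (sgn χ - 1) * (χ : Matrix.SpecialLinearGroup (Fin 2) F → ℂ) 1 = 0 := by
        linear_combination h
      rcases mul_eq_zero.mp this with h' | h'
      · linear_combination h'
      · exact absurd h' (hdeg0 χ)
    · intro h; rw [h]; ring
  -- the three sets
  set A1 : Set (Cfsg.IrrCharacter (Matrix.SpecialLinearGroup (Fin 2) F)) :=
    {χ | (χ : Matrix.SpecialLinearGroup (Fin 2) F → ℂ) 1 = (Fintype.card F : ℂ)} with hA1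
  set A2 : Set (Cfsg.IrrCharacter (Matrix.SpecialLinearGroup (Fin 2) F)) :=
    {χ | (χ : Matrix.SpecialLinearGroup (Fin 2) F → ℂ) (-1) =
      (χ : Matrix.SpecialLinearGroup (Fin 2) F → ℂ) 1 ∧
      (χ : Matrix.SpecialLinearGroup (Fin 2) F → ℂ) 1 ≠ (Fintype.card F : ℂ)} with hA2
  set A3 : Set (Cfsg.IrrCharacter (Matrix.SpecialLinearGroup (Fin 2) F)) :=
    {χ | (χ : Matrix.SpecialLinearGroup (Fin 2) F → ℂ) (-1) =
      -(χ : Matrix.SpecialLinearGroup (Fin 2) F → ℂ) 1} with hA3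
  have hmem2 : ∀ χ, χ ∈ A2 ↔ (sgn χ = 1 ∧
      (χ : Matrix.SpecialLinearGroup (Fin 2) F → ℂ) 1 ≠ (Fintype.card F : ℂ)) := by
    intro χ
    rw [hA2, Set.mem_ofPred_eq, heven_iff χ]
  have hmem3 : ∀ χ, χ ∈ A3 ↔ sgn χ = -1 := by
    intro χ
    rw [hA3, Set.mem_ofPred_eq, hodd_iff χ]
  have hnotSt_of_odd : ∀ χ : Cfsg.IrrCharacter (Matrix.SpecialLinearGroup (Fin 2) F), sgn χ = -1 →
      (χ : Matrix.SpecialLinearGroup (Fin 2) F → ℂ) 1 ≠ (Fintype.card F : ℂ) := by
    intro χ h hq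
    rw [hStsgn χ hq] at h
    exact hone_ne h
  -- the blocks
  have hB1 : ∀ χ : Cfsg.IrrCharacter (Matrix.SpecialLinearGroup (Fin 2) F),
      (χ : Matrix.SpecialLinearGroup (Fin 2) F → ℂ) 1 = (Fintype.card F : ℂ) →
      Cfsg.blockOf M (χ : Matrix.SpecialLinearGroup (Fin 2) F → ℂ) = A1 := by
    intro χ hχ
    ext ψ
    rw [Cfsg.Agent.Lib.Helper16.mem_blockOf_iff, hA1, Set.mem_ofPred_eq]
    constructor
    · intro h
      by_contra hψ
      exact hStalone χ ψ hχ hψ h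
    · intro hψ
      rw [hStuniq ψ χ hψ hχ]
      exact Cfsg.Agent.Lib.Helper16.sameBlock_refl hMtop _
  have hB2 : ∀ χ : Cfsg.IrrCharacter (Matrix.SpecialLinearGroup (Fin 2) F), χ ∈ A2 →
      Cfsg.blockOf M (χ : Matrix.SpecialLinearGroup (Fin 2) F → ℂ) = A2 := by
    intro χ hχ
    obtain ⟨hχ1, hχ2⟩ := (hmem2 χ).mp hχ
    ext ψ
    rw [Cfsg.Agent.Lib.Helper16.mem_blockOf_iff, hmem2 ψ]
    constructor
    · intro h
      constructor
      · by_contra hs
        exact hdiffsgn χ ψ (fun e => hs (e ▸ hχ1)) h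
      · intro hψ
        exact hStalone ψ χ hψ hχ2 (Cfsg.Agent.Lib.Helper16.sameBlock_symm h)
    · rintro ⟨hψ1, hψ2⟩
      exact hsame χ ψ hχ2 hψ2 (hχ1.trans hψ1.symm)
  have hB3 : ∀ χ : Cfsg.IrrCharacter (Matrix.SpecialLinearGroup (Fin 2) F), χ ∈ A3 →
      Cfsg.blockOf M (χ : Matrix.SpecialLinearGroup (Fin 2) F → ℂ) = A3 := by
    intro χ hχ
    have hχ1 := (hmem3 χ).mp hχ
    ext ψ
    rw [Cfsg.Agent.Lib.Helper16.mem_blockOf_iff, hmem3 ψ]
    constructor
    · intro h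
      by_contra hs
      exact hdiffsgn χ ψ (fun e => hs (e ▸ hχ1)) h
    · intro hψ1
      exact hsame χ ψ (hnotSt_of_odd χ hχ1) (hnotSt_of_odd ψ hψ1) (hχ1.trans hψ1.symm)
  -- witnesses
  have hone : Cfsg.IsIrrCharacter (Matrix.SpecialLinearGroup (Fin 2) F) (fun _ => (1 : ℂ)) :=
    Cfsg.Agent.Lib.Helper80.isIrrCharacter_one
  set triv : Cfsg.IrrCharacter (Matrix.SpecialLinearGroup (Fin 2) F) := ⟨fun _ => (1 : ℂ), hone⟩
    with htriv
  have htriv2 : triv ∈ A2 := by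
    rw [hA2, Set.mem_ofPred_eq]
    refine ⟨rfl, ?_⟩
    change (1 : ℂ) ≠ (Fintype.card F : ℂ)
    have : (1 : ℕ) ≠ Fintype.card F := by omega
    exact_mod_cast this
  -- sums
  have hGcard : Nat.card (Matrix.SpecialLinearGroup (Fin 2) F) =
      Fintype.card F * (Fintype.card F ^ 2 - 1) := Cfsg.Agent.Lib.Helper5.card_SL2
  have hGne : (Nat.card (Matrix.SpecialLinearGroup (Fin 2) F) : ℂ) ≠ 0 := by
    have : Nat.card (Matrix.SpecialLinearGroup (Fin 2) F) ≠ 0 := Nat.card_pos.ne'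
    exact_mod_cast this
  have hsum3 := Cfsg.Agent.Lib.Helper39.sl2_sign_sums hF sgn hsgn hz1
    (Finset.univ.filter (fun χ => χ ∈ A3)) (-1) (Or.inr rfl) (by
      intro χ
      rw [Finset.mem_filter, hmem3 χ]
      simp)
  have hsumE := Cfsg.Agent.Lib.Helper39.sl2_sign_sums hF sgn hsgn hz1
    (Finset.univ.filter (fun χ => sgn χ = 1)) 1 (Or.inl rfl) (by
      intro χ
      rw [Finset.mem_filter]
      simp)
  have hcoeff3 : Cfsg.blockCoeff A3 1 = 1 / 2 := by
    rw [Cfsg.Agent.Lib.Helper16.blockCoeff_eq_sum, hsum3]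
    field_simp
  have hStmem : St ∈ Finset.univ.filter (fun χ => sgn χ = 1) := by
    rw [Finset.mem_filter]
    exact ⟨Finset.mem_univ _, hStsgn St hSt⟩
  have hsum2 : ∀ (inst : DecidablePred (fun χ => χ ∈ A2)),
      ∑ χ ∈ @Finset.filter _ (fun χ => χ ∈ A2) inst Finset.univ,
        (χ : Matrix.SpecialLinearGroup (Fin 2) F → ℂ) 1 *
          (starRingEnd ℂ) ((χ : Matrix.SpecialLinearGroup (Fin 2) F → ℂ) 1) =
        (Nat.card (Matrix.SpecialLinearGroup (Fin 2) F) : ℂ) / 2 - (Fintype.card F : ℂ) ^ 2 := by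
    intro inst
    have hfilter2 : @Finset.filter _ (fun χ => χ ∈ A2) inst Finset.univ =
        (Finset.univ.filter (fun χ => sgn χ = 1)).erase St := by
      ext χ
      rw [Finset.mem_filter, Finset.mem_erase, Finset.mem_filter, hmem2 χ]
      constructor
      · rintro ⟨-, h1, h2⟩
        exact ⟨fun e => h2 (e ▸ hSt), Finset.mem_univ _, h1⟩
      · rintro ⟨h1, -, h2⟩
        exact ⟨Finset.mem_univ _, h2, fun e => h1 (hStuniq χ St e hSt)⟩
    rw [hfilter2]
    have := Finset.add_sum_erase (Finset.univ.filter (fun χ => sgn χ = 1))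
      (fun χ : Cfsg.IrrCharacter (Matrix.SpecialLinearGroup (Fin 2) F) =>
        (χ : Matrix.SpecialLinearGroup (Fin 2) F → ℂ) 1 *
          (starRingEnd ℂ) ((χ : Matrix.SpecialLinearGroup (Fin 2) F → ℂ) 1)) hStmem
    rw [hsumE] at this
    rw [← this]
    simp only [hSt, Complex.conj_natCast]
    ring
  have hcoeff2 : Cfsg.blockCoeff A2 1 =
      1 / 2 - (Fintype.card F : ℂ) ^ 2 / (Nat.card (Matrix.SpecialLinearGroup (Fin 2) F) : ℂ) := by
    rw [Cfsg.Agent.Lib.Helper16.blockCoeff_eq_sum, hsum2]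
    field_simp
  -- arithmetic
  have hpq : p ∣ Fintype.card F := Cfsg.Agent.Lib.Helper39.char_dvd_card p
  have htwo : ¬ p ∣ 2 := fun h => hp ((Nat.prime_dvd_prime_iff_eq hpp Nat.prime_two).mp h)
  have hhalf_ring : Cfsg.MemLocalRing M ((1 : ℂ) / 2) := by
    have := Cfsg.Agent.Lib.Helper16.memLocalRing_inv_natCast hM htwo
    simpa using this
  have hhalf_not : ¬ Cfsg.MemLocalIdeal M ((1 : ℂ) / 2) := by
    intro h
    have h2 := Cfsg.Agent.Lib.Helper16.memLocalIdeal_mul_left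
      (Cfsg.Agent.Lib.Helper16.memLocalRing_natCast hMtop 2) h
    have e : ((2 : ℕ) : ℂ) * (1 / 2) = 1 := by norm_num
    rw [e] at h2
    exact Cfsg.Agent.Lib.Helper16.one_not_memLocalIdeal h2
  -- the coefficient of the principal block
  have hq1 : 1 ≤ Fintype.card F ^ 2 := Nat.one_le_pow _ _ (by omega)
  have hD : ¬ p ∣ 2 * (Fintype.card F ^ 2 - 1) := by
    intro h
    rcases hpp.dvd_mul.mp h with h | h
    · exact htwo h
    · have h3 : p ∣ Fintype.card F ^ 2 := Dvd.dvd.pow hpq two_ne_zero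
      have h5 : p ∣ Fintype.card F ^ 2 - (Fintype.card F ^ 2 - 1) := Nat.dvd_sub h3 h
      have h6 : Fintype.card F ^ 2 - (Fintype.card F ^ 2 - 1) = 1 := by omega
      rw [h6] at h5
      exact hpp.one_lt.ne' (Nat.dvd_one.mp h5)
  have hcoeff2' : ((2 * (Fintype.card F ^ 2 - 1) : ℕ) : ℂ) * Cfsg.blockCoeff A2 1 =
      (((Fintype.card F : ℤ) ^ 2 - 1 - 2 * (Fintype.card F : ℤ) : ℤ) : ℂ) := by
    rw [hcoeff2, hGcard]
    have hq1' : ((Fintype.card F ^ 2 - 1 : ℕ) : ℂ) = (Fintype.card F : ℂ) ^ 2 - 1 := by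
      rw [Nat.cast_sub hq1]; push_cast; ring
    have hne : (Fintype.card F : ℂ) ^ 2 - 1 ≠ 0 := by
      rw [← hq1']
      have : Fintype.card F ^ 2 - 1 ≠ 0 := by
        have : 4 ≤ Fintype.card F ^ 2 := by nlinarith
        omega
      exact_mod_cast this
    push_cast
    rw [hq1']
    field_simp
  have hnum : ¬ (p : ℤ) ∣ ((Fintype.card F : ℤ) ^ 2 - 1 - 2 * (Fintype.card F : ℤ)) := by
    intro h
    have h1 : (p : ℤ) ∣ (Fintype.card F : ℤ) := by exact_mod_cast hpq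
    have h2 : (p : ℤ) ∣ (Fintype.card F : ℤ) ^ 2 - 2 * (Fintype.card F : ℤ) := by
      have : (Fintype.card F : ℤ) ^ 2 - 2 * (Fintype.card F : ℤ) =
          (Fintype.card F : ℤ) * ((Fintype.card F : ℤ) - 2) := by ring
      rw [this]
      exact Dvd.dvd.mul_right h1 _
    have h3 := dvd_sub h2 h
    have h4 : (Fintype.card F : ℤ) ^ 2 - 2 * (Fintype.card F : ℤ) -
        ((Fintype.card F : ℤ) ^ 2 - 1 - 2 * (Fintype.card F : ℤ)) = 1 := by ring
    rw [h4] at h3
    have h5 : (p : ℤ) = 1 := by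
      have := Int.eq_one_of_dvd_one (by positivity) h3
      exact this
    have : p = 1 := by exact_mod_cast h5
    exact hpp.one_lt.ne' this
  have hcoeff2_ring : Cfsg.MemLocalRing M (Cfsg.blockCoeff A2 1) := by
    have hDne : ((2 * (Fintype.card F ^ 2 - 1) : ℕ) : ℂ) ≠ 0 := by
      have : 2 * (Fintype.card F ^ 2 - 1) ≠ 0 := fun h0 => hD (h0 ▸ dvd_zero p)
      exact_mod_cast this
    have : Cfsg.blockCoeff A2 1 =
        (((Fintype.card F : ℤ) ^ 2 - 1 - 2 * (Fintype.card F : ℤ) : ℤ) : ℂ) *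
          ((2 * (Fintype.card F ^ 2 - 1) : ℕ) : ℂ)⁻¹ := by
      rw [← hcoeff2']
      field_simp
    rw [this]
    exact Cfsg.Agent.Lib.Helper16.memLocalRing_mul
      (Cfsg.Agent.Lib.Helper16.memLocalRing_intCast hMtop _)
      (Cfsg.Agent.Lib.Helper16.memLocalRing_inv_natCast hM hD)
  have hcoeff2_not : ¬ Cfsg.MemLocalIdeal M (Cfsg.blockCoeff A2 1) := by
    intro h
    have h2 := Cfsg.Agent.Lib.Helper16.memLocalIdeal_mul_left
      (Cfsg.Agent.Lib.Helper16.memLocalRing_natCast hMtop (2 * (Fintype.card F ^ 2 - 1))) h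
    rw [hcoeff2', Cfsg.Agent.Lib.Helper16.memLocalIdeal_intCast_iff hM] at h2
    exact hnum h2
  -- an odd character exists
  have hex3 : ∃ χ, χ ∈ A3 := by
    by_contra hne
    push Not at hne
    have : Finset.univ.filter (fun χ => χ ∈ A3) = ∅ := by
      apply Finset.filter_eq_empty_iff.mpr
      intro χ _
      exact hne χ
    rw [this, Finset.sum_empty] at hsum3
    have : (Nat.card (Matrix.SpecialLinearGroup (Fin 2) F) : ℂ) = 0 := by
      linear_combination -2 * hsum3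
    exact hGne this
  obtain ⟨χ3, hχ3⟩ := hex3
  -- part 1
  have part1 : ∀ B : Set (Cfsg.IrrCharacter (Matrix.SpecialLinearGroup (Fin 2) F)),
      Cfsg.IsPBlock M B ↔ (B = A1 ∨ B = A2 ∨ B = A3) := by
    intro B
    constructor
    · rintro ⟨χ, rfl⟩
      by_cases hχ : (χ : Matrix.SpecialLinearGroup (Fin 2) F → ℂ) 1 = (Fintype.card F : ℂ)
      · exact Or.inl (hB1 χ hχ)
      · rcases hsgn χ with h | h
        · exact Or.inr (Or.inl (hB2 χ ((hmem2 χ).mpr ⟨h, hχ⟩)))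
        · exact Or.inr (Or.inr (hB3 χ ((hmem3 χ).mpr h)))
    · rintro (rfl | rfl | rfl)
      · exact ⟨St, (hB1 St hSt).symm⟩
      · exact ⟨triv, (hB2 triv htriv2).symm⟩
      · exact ⟨χ3, (hB3 χ3 hχ3).symm⟩
  -- distinctness
  have hSt1 : St ∈ A1 := hSt
  have h12 : A1 ≠ A2 := by
    intro h
    rw [h] at hSt1
    exact ((hmem2 St).mp hSt1).2 hSt
  have h13 : A1 ≠ A3 := by
    intro h
    rw [h] at hSt1
    have := (hmem3 St).mp hSt1
    rw [hStsgn St hSt] at this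
    exact hone_ne this
  have h23 : A2 ≠ A3 := by
    intro h
    have h2 := htriv2
    rw [h] at h2
    have := (hmem3 triv).mp h2
    rw [((hmem2 triv).mp htriv2).1] at this
    exact hone_ne this
  -- the Sylow part
  have hsyl : ∀ P : Sylow p (Matrix.SpecialLinearGroup (Fin 2) F),
      ∃ P' : Sylow p (Subgroup.centralizer ({1} : Set (Matrix.SpecialLinearGroup (Fin 2) F))),
        (P : Subgroup (Matrix.SpecialLinearGroup (Fin 2) F)) =
          (P' : Subgroup (Subgroup.centralizer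
            ({1} : Set (Matrix.SpecialLinearGroup (Fin 2) F)))).map
            (Subgroup.centralizer ({1} : Set (Matrix.SpecialLinearGroup (Fin 2) F))).subtype := by
    intro P
    have hle : (P : Subgroup (Matrix.SpecialLinearGroup (Fin 2) F)) ≤
        Subgroup.centralizer ({1} : Set (Matrix.SpecialLinearGroup (Fin 2) F)) := by
      rw [Cfsg.Agent.Lib.Helper39.centralizer_eq_top_of_mem_center 1 (Subgroup.one_mem _)]
      exact le_top
    refine ⟨P.subtype hle, ?_⟩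
    rw [Sylow.coe_subtype, Subgroup.map_subgroupOf_eq_of_le hle]
  have hcc : ∀ χ : Cfsg.IrrCharacter (Matrix.SpecialLinearGroup (Fin 2) F),
      ¬ Cfsg.MemLocalIdeal M (Cfsg.centralChar (χ : Matrix.SpecialLinearGroup (Fin 2) F → ℂ) 1) := by
    intro χ
    rw [Cfsg.Agent.Lib.Helper39.centralChar_of_mem_center _ _ (Subgroup.one_mem _),
      div_self (hdeg0 χ)]
    exact Cfsg.Agent.Lib.Helper16.one_not_memLocalIdeal
  refine ⟨part1, ?_, ?_⟩
  · change Nat.card ↥{B : Set (Cfsg.IrrCharacter (Matrix.SpecialLinearGroup (Fin 2) F)) |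
      Cfsg.IsPBlock M B} = 3
    rw [Nat.card_coe_set_eq, Set.ncard_eq_three]
    refine ⟨A1, A2, A3, h12, h13, h23, ?_⟩
    ext B
    rw [Set.mem_ofPred_eq, part1 B]
    simp
  · intro P
    obtain ⟨P', hP'⟩ := hsyl P
    refine ⟨⟨1, ⟨hcoeff2_ring, hcoeff2_not, fun χ _ => hcc χ⟩, P', hP'⟩,
      ⟨1, ⟨?_, ?_, fun χ _ => hcc χ⟩, P', hP'⟩⟩
    · rw [hcoeff3]; exact hhalf_ring
    · rw [hcoeff3]; exact hhalf_not

end Cfsg.Agent.S2439
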