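import Cfsg.Statements.S4538
import Cfsg.Agent.S0908
import Cfsg.Agent.S0955
import Cfsg.Agent.S0956
import Cfsg.Agent.S0914
import Cfsg.Agent.Lib.Helper16.BrauerHom
import Cfsg.Agent.Lib.Helper16.BlockBasic
import Cfsg.Agent.Lib.Helper79.Integrality
import Cfsg.Agent.Lib.Helper5.GLUSL
import Cfsg.Agent.Lib.Helper5.GLUPSL
import Cfsg.Agent.Lib.Helper5.GLUStDeg
import Cfsg.Agent.Lib.Helper45.PSLAut.Unitri
import Cfsg.Agent.Lib.Helper51.SLDZM5
import Cfsg.Agent.Lib.Helper50.SLDZRad

set_option autoImplicit false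
open Cfsg

namespace Cfsg.Agent.S4538

open Cfsg.Agent.Lib.Helper82.SLDZ

section aux

variable {F : Type*} [Field F] [Fintype F] (n : ℕ) (p : ℕ) [hp : Fact p.Prime] [CharP F p]

/-- the `p`-part of the order of `SL_n(q)` is `q^(n(n-1)/2)` -/
theorem pow_factorization_card_SL :
    p ^ (Nat.card (Matrix.SpecialLinearGroup (Fin n) F)).factorization p =
      ∏ j : Fin n, Fintype.card F ^ (j : ℕ) := by
  classical
  obtain ⟨f, -, hF⟩ := FiniteField.card F p
  have hf : 1 ≤ (f : ℕ) := f.2
  have hM := Cfsg.Agent.Lib.Helper5.GLU.prod_pow_eq (F := F) (n := n) p f hF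
  have h1 : Nat.card (Cfsg.Agent.Lib.Helper45.PSLAut.UU n F) *
      (Cfsg.Agent.Lib.Helper45.PSLAut.UU n F).index =
      Nat.card (Matrix.SpecialLinearGroup (Fin n) F) := Subgroup.card_mul_index _
  rw [Cfsg.Agent.Lib.Helper45.PSLAut.card_UU, hM] at h1
  have h2 := Cfsg.Agent.Lib.Helper45.PSLAut.not_dvd_index_UU (F := F) (n := n) hF hf
  have hidx : (Cfsg.Agent.Lib.Helper45.PSLAut.UU n F).index ≠ 0 := by
    intro h0
    rw [h0, mul_zero] at h1
    exact (Nat.card_pos (α := Matrix.SpecialLinearGroup (Fin n) F)).ne' h1.symm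
  rw [hM, ← h1, Nat.factorization_mul (pow_ne_zero _ hp.out.ne_zero) hidx,
    Nat.Prime.factorization_pow hp.out, Finsupp.add_apply, Finsupp.single_eq_same,
    Nat.factorization_eq_zero_of_not_dvd h2, add_zero]

/-- every block has defect zero or full defect -/
theorem defect_zero_or_full (M : Ideal Cfsg.AlgInt) (hM : Cfsg.IsPModular p M)
    (B : Set (Cfsg.IrrCharacter (Matrix.SpecialLinearGroup (Fin n) F))) (hB : Cfsg.IsPBlock M B) :
    Cfsg.blockDefect p B = 0 ∨ Cfsg.blockDefect p B =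
      (Nat.card (Matrix.SpecialLinearGroup (Fin n) F)).factorization p := by
  classical
  have : Fintype (Matrix.SpecialLinearGroup (Fin n) F) := Fintype.ofFinite _
  have := Cfsg.Agent.Lib.Helper16.isPModular_isPrime hM
  obtain ⟨D, hD⟩ := Cfsg.Agent.Lib.Helper16.exists_isDefectGroup (M := M) p hB
  have hcard := Cfsg.Agent.S0908.result p M hM B hB D hD
  have hrad := Cfsg.Agent.S0955.result p M hM B hB D hD
  have hDp : IsPGroup p D := IsPGroup.of_card hcard
  obtain ⟨P, hDP⟩ := hDp.exists_le_sylow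
  obtain ⟨x, hx, ⟨S', hS'⟩, -⟩ := Cfsg.Agent.S0956.result p M hM B hB D hD P hDP
  by_cases hD1 : D = ⊥
  · left
    rw [hD1, Subgroup.card_bot] at hcard
    by_contra h0
    have : 1 < p ^ Cfsg.blockDefect p B := Nat.one_lt_pow h0 hp.out.one_lt
    omega
  · right
    have hxQ : ∀ g ∈ D, g * x = x * g := by
      intro g hg
      rw [← hS'] at hg
      obtain ⟨c, -, rfl⟩ := hg
      have := c.2
      rw [Subgroup.mem_centralizer_iff] at this
      exact (this x (Set.mem_singleton x)).symm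
    have hxc := Cfsg.Agent.Lib.Helper50.SLDZ.mem_center_of_centralizes_radical p D hDp hD1 hrad x hx hxQ
    have htop : Subgroup.centralizer ({x} : Set (Matrix.SpecialLinearGroup (Fin n) F)) = ⊤ := by
      rw [eq_top_iff]
      intro g _
      rw [Subgroup.mem_centralizer_iff]
      intro y hy
      rw [Set.mem_singleton_iff] at hy
      subst hy
      rw [Subgroup.mem_center_iff] at hxc
      exact (hxc g).symm
    have h1 : Nat.card D = Nat.card (S' : Subgroup (Subgroup.centralizer
        ({x} : Set (Matrix.SpecialLinearGroup (Fin n) F)))) := by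
      rw [← hS']
      exact Subgroup.card_map_of_injective (Subgroup.subtype_injective _)
    have h2 := S'.card_eq_multiplicity
    have h3 : Nat.card (Subgroup.centralizer ({x} : Set (Matrix.SpecialLinearGroup (Fin n) F))) =
        Nat.card (Matrix.SpecialLinearGroup (Fin n) F) := by
      rw [htop]
      exact Subgroup.card_top
    rw [h3] at h2
    rw [h1, h2] at hcard
    exact (Nat.pow_right_injective hp.out.two_le hcard).symm

/-- the Steinberg character of `SL_n(q)` as an irreducible character -/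
noncomputable def stIrr (hn : 0 < n) : Cfsg.IrrCharacter (Matrix.SpecialLinearGroup (Fin n) F) :=
  ⟨stSL n F, Cfsg.Agent.Lib.Helper5.GLU.isIrrCharacter_unipotent_SL hn (fun _ => 1)
    (fun _ _ _ => le_rfl) (by simp)⟩

theorem charDegree_stIrr (hn : 0 < n) :
    Cfsg.charDegree ((stIrr (F := F) n hn : Cfsg.IrrCharacter _) :
      Matrix.SpecialLinearGroup (Fin n) F → ℂ) = ∏ j : Fin n, Fintype.card F ^ (j : ℕ) := by
  have h1 := Cfsg.Agent.Lib.Helper79.irr_apply_one_eq_charDegree (stIrr (F := F) n hn)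
  have h2 : ((stIrr (F := F) n hn : Cfsg.IrrCharacter _) :
      Matrix.SpecialLinearGroup (Fin n) F → ℂ) 1 =
      ((∏ j : Fin n, Fintype.card F ^ (j : ℕ) : ℕ) : ℂ) := by
    show stSL n F 1 = _
    unfold stSL
    rw [Function.comp_apply, map_one]
    exact Cfsg.Agent.Lib.Helper5.GLU.steinberg_degree (F := F) n
  rw [h2] at h1
  exact_mod_cast h1.symm

/-- the block of the Steinberg character has defect zero -/
theorem blockDefect_blockOf_stIrr (hn : 0 < n) (M : Ideal Cfsg.AlgInt)
    (hM : Cfsg.IsPModular p M) :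
    Cfsg.blockDefect p (Cfsg.blockOf M ((stIrr (F := F) n hn : Cfsg.IrrCharacter _) :
      Matrix.SpecialLinearGroup (Fin n) F → ℂ)) = 0 := by
  classical
  have hpow := pow_factorization_card_SL (F := F) n p
  have hdeg := charDegree_stIrr (F := F) n hn
  have hnd : ¬ p ∣ Nat.card (Matrix.SpecialLinearGroup (Fin n) F) /
      Cfsg.charDegree ((stIrr (F := F) n hn : Cfsg.IrrCharacter _) :
        Matrix.SpecialLinearGroup (Fin n) F → ℂ) := by
    rw [hdeg, ← hpow]
    exact Nat.not_dvd_ordCompl hp.out Nat.card_pos.ne'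
  have hsing := (Cfsg.Agent.S0914.result p M hM (stIrr (F := F) n hn)).mp hnd
  rw [hsing]
  unfold Cfsg.blockDefect
  rw [Set.image_singleton, csInf_singleton, hdeg, ← hpow, Nat.Prime.factorization_pow hp.out,
    Finsupp.single_eq_same, Nat.sub_self]

/-- a block of defect zero is the block of the Steinberg character -/
theorem eq_blockOf_stIrr_of_defect_zero (hn : 0 < n) (M : Ideal Cfsg.AlgInt)
    (hM : Cfsg.IsPModular p M)
    (B : Set (Cfsg.IrrCharacter (Matrix.SpecialLinearGroup (Fin n) F))) (hB : Cfsg.IsPBlock M B)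
    (h0 : Cfsg.blockDefect p B = 0) :
    B = Cfsg.blockOf M ((stIrr (F := F) n hn : Cfsg.IrrCharacter _) :
      Matrix.SpecialLinearGroup (Fin n) F → ℂ) := by
  classical
  have : Fintype (Matrix.SpecialLinearGroup (Fin n) F) := Fintype.ofFinite _
  have hMp := Cfsg.Agent.Lib.Helper16.isPModular_isPrime hM
  obtain ⟨χ₀, rfl⟩ := hB
  have hmem : χ₀ ∈ Cfsg.blockOf M (χ₀ : Matrix.SpecialLinearGroup (Fin n) F → ℂ) :=
    Cfsg.Agent.Lib.Helper16.self_mem_blockOf hMp.ne_top χ₀
  have hpow := pow_factorization_card_SL (F := F) n p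
  unfold Cfsg.blockDefect at h0
  rw [Nat.sub_eq_zero_iff_le] at h0
  have hle : sInf ((fun χ : Cfsg.IrrCharacter (Matrix.SpecialLinearGroup (Fin n) F) =>
      (Cfsg.charDegree (χ : Matrix.SpecialLinearGroup (Fin n) F → ℂ)).factorization p) ''
      Cfsg.blockOf M (χ₀ : Matrix.SpecialLinearGroup (Fin n) F → ℂ)) ≤
      (Cfsg.charDegree (χ₀ : Matrix.SpecialLinearGroup (Fin n) F → ℂ)).factorization p :=
    Nat.sInf_le (Set.mem_image_of_mem _ hmem)
  have hpos := Cfsg.Agent.Lib.Helper80.charDegree_pos_of_isIrr χ₀.2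
  have hdvd : p ^ (Nat.card (Matrix.SpecialLinearGroup (Fin n) F)).factorization p ∣
      Cfsg.charDegree (χ₀ : Matrix.SpecialLinearGroup (Fin n) F → ℂ) :=
    (hp.out.pow_dvd_iff_le_factorization hpos.ne').mpr (h0.trans hle)
  rw [hpow] at hdvd
  have : Fintype (GL (Fin n) F) := Fintype.ofFinite _
  have heq := Cfsg.Agent.Lib.Helper51.SLDZ.eq_stSL_of_defect_zero p hn (χ₀ : Matrix.SpecialLinearGroup (Fin n) F → ℂ) χ₀.2
    ⟨_, Cfsg.Agent.Lib.Helper79.irr_apply_one_eq_charDegree χ₀, hdvd⟩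
  have : χ₀ = stIrr (F := F) n hn := Subtype.ext heq
  rw [this]

end aux

/-- Let F be a finite field of characteristic p and n ≥ 2. Relative to a maximal ideal M of the algebraic integers containing p, the group SL(n, F) has exactly one p-block of defect zero, and every other p-block has full defect (its defect equals the exponent of p in the order of the group, so its defect groups are Sylow p-subgroups). -/
theorem result {F : Type*} [Field F] [Fintype F] (n : ℕ) (hn : 2 ≤ n) (p : ℕ) [Fact p.Prime] [CharP F p] (M : Ideal Cfsg.AlgInt) (hM : Cfsg.IsPModular p M) : Nat.card {B : Set (Cfsg.IrrCharacter (Matrix.SpecialLinearGroup (Fin n) F)) // Cfsg.IsPBlock M B ∧ Cfsg.blockDefect p B = 0} = 1 ∧ ∀ B : Set (Cfsg.IrrCharacter (Matrix.SpecialLinearGroup (Fin n) F)), Cfsg.IsPBlock M B → Cfsg.blockDefect p B = 0 ∨ Cfsg.blockDefect p B = (Nat.card (Matrix.SpecialLinearGroup (Fin n) F)).factorization p := by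
  have hn0 : 0 < n := by omega
  refine ⟨?_, fun B hB => defect_zero_or_full n p M hM B hB⟩
  rw [Nat.card_eq_one_iff_unique]
  refine ⟨⟨?_⟩, ⟨⟨_, ⟨stIrr (F := F) n hn0, rfl⟩, blockDefect_blockOf_stIrr n p hn0 M hM⟩⟩⟩
  rintro ⟨B, hB, h0⟩ ⟨B', hB', h0'⟩
  apply Subtype.ext
  show B = B'
  rw [eq_blockOf_stIrr_of_defect_zero n p hn0 M hM B hB h0,
    eq_blockOf_stIrr_of_defect_zero n p hn0 M hM B' hB' h0']

end Cfsg.Agent.S4538
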