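import Cfsg.Statements.S2450
import Mathlib
import Cfsg.Agent.Lib.Helper41.SL2Basic
import Cfsg.Agent.Lib.Helper41.SL2Conj

set_option autoImplicit false
open Cfsg

namespace Cfsg.Agent.S2450

open Cfsg.Agent.Lib.Helper41

/-- in a finite field, there is an element avoiding a small finset -/
theorem exists_notMem {F : Type*} [Fintype F] (T : Finset F) (h : T.card < Fintype.card F) :
    ∃ u, u ∉ T := by
  by_contra hne
  push Not at hne
  have : T = Finset.univ := Finset.eq_univ_iff_forall.mpr hne
  rw [this, Finset.card_univ] at h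
  exact lt_irrefl _ h

/-- the key polynomial fact: for `α ≠ 0` there is `u` with `φ u := β u - α u²` avoiding `0` and `-2γ` -/
theorem exists_good {F : Type*} [Field F] [Fintype F] [DecidableEq F] (h4 : 4 ≤ Fintype.card F)
    (α β γ : F) (hα : α ≠ 0) :
    ∃ u : F, (γ + u * β - u ^ 2 * α ≠ γ) ∧ (γ + u * β - u ^ 2 * α ≠ -γ) := by
  by_cases h2 : (2 : F) = 0
  · -- characteristic 2
    have hneg : -γ = γ := by
      have : γ + γ = 0 := by rw [← two_mul, h2, zero_mul]
      exact neg_eq_of_add_eq_zero_left this
    obtain ⟨u, hu⟩ := exists_notMem ({0, β / α} : Finset F) (by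
      have := Finset.card_le_two (a := (0 : F)) (b := β / α)
      omega)
    simp only [Finset.mem_insert, Finset.mem_singleton, not_or] at hu
    have key : γ + u * β - u ^ 2 * α ≠ γ := by
      intro h
      have h' : u * (β - u * α) = 0 := by linear_combination h
      rcases mul_eq_zero.mp h' with h'' | h''
      · exact hu.1 h''
      · apply hu.2
        field_simp
        linear_combination -h''
    exact ⟨u, key, by rw [hneg]; exact key⟩
  · -- odd characteristic: card F ≥ 5
    have h5 : 5 ≤ Fintype.card F := by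
      by_contra hlt
      have h4' : Fintype.card F = 4 := by omega
      have := Nat.cast_card_eq_zero F
      rw [h4'] at this
      apply h2
      have h22 : (2 : F) * 2 = 0 := by
        have : ((4 : ℕ) : F) = 2 * 2 := by norm_num
        rw [← this]; assumption
      rcases mul_eq_zero.mp h22 with h | h <;> exact h
    by_cases hr : ∃ r : F, γ + r * β - r ^ 2 * α = -γ
    · obtain ⟨r, hr⟩ := hr
      obtain ⟨u, hu⟩ := exists_notMem ({0, β / α, r, β / α - r} : Finset F) (by
        have := Finset.card_le_four (a := (0 : F)) (b := β / α) (c := r) (d := β / α - r)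
        omega)
      simp only [Finset.mem_insert, Finset.mem_singleton, not_or] at hu
      refine ⟨u, ?_, ?_⟩
      · intro h
        have h' : u * (β - u * α) = 0 := by linear_combination h
        rcases mul_eq_zero.mp h' with h'' | h''
        · exact hu.1 h''
        · apply hu.2.1
          field_simp
          linear_combination -h''
      · intro h
        have h' : (u - r) * (β - (u + r) * α) = 0 := by linear_combination h - hr
        rcases mul_eq_zero.mp h' with h'' | h''
        · exact hu.2.2.1 (sub_eq_zero.mp h'')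
        · apply hu.2.2.2
          field_simp
          linear_combination -h''
    · push Not at hr
      obtain ⟨u, hu⟩ := exists_notMem ({0, β / α} : Finset F) (by
        have := Finset.card_le_two (a := (0 : F)) (b := β / α)
        omega)
      simp only [Finset.mem_insert, Finset.mem_singleton, not_or] at hu
      refine ⟨u, ?_, hr u⟩
      intro h
      have h' : u * (β - u * α) = 0 := by linear_combination h
      rcases mul_eq_zero.mp h' with h'' | h''
      · exact hu.1 h''
      · apply hu.2
        field_simp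
        linear_combination -h''

/-- The Arad–Herzog conjecture for PSL(2,q): let F be a finite field with q ≥ 4 elements. For any two non-identity elements a, b of PSL(2,F), the set of products of a conjugate of a with a conjugate of b is not a single conjugacy class. -/
theorem result {F : Type*} [Field F] [Fintype F] (h4 : 4 ≤ Fintype.card F)
    (a b : Matrix.ProjectiveSpecialLinearGroup (Fin 2) F) (ha : a ≠ 1) (hb : b ≠ 1) (c : Matrix.ProjectiveSpecialLinearGroup (Fin 2) F) :
    {g : Matrix.ProjectiveSpecialLinearGroup (Fin 2) F | ∃ u v : Matrix.ProjectiveSpecialLinearGroup (Fin 2) F, g = (u * a * u⁻¹) * (v * b * v⁻¹)} ≠ {g | IsConj c g} := by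
  classical
  intro hset
  obtain ⟨X, rfl⟩ := QuotientGroup.mk_surjective a
  obtain ⟨Y, rfl⟩ := QuotientGroup.mk_surjective b
  have hX : X ∉ Subgroup.center (Matrix.SpecialLinearGroup (Fin 2) F) := by
    intro h; exact ha ((QuotientGroup.eq_one_iff X).mpr h)
  have hY : Y ∉ Subgroup.center (Matrix.SpecialLinearGroup (Fin 2) F) := by
    intro h; exact hb ((QuotientGroup.eq_one_iff Y).mpr h)
  obtain ⟨W₁, hW₁⟩ := exists_conj_apply_one_zero_ne_zero X hX
  obtain ⟨W₂, hW₂⟩ := exists_conj_apply_one_zero_ne_zero Y hY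
  set X' := W₁ * X * W₁⁻¹ with hX'
  set Y' := W₂ * Y * W₂⁻¹ with hY'
  obtain ⟨u, hu1, hu2⟩ := exists_good h4
    ((X' : Matrix (Fin 2) (Fin 2) F) 1 0 * (Y' : Matrix (Fin 2) (Fin 2) F) 1 0)
    ((X' : Matrix (Fin 2) (Fin 2) F) 1 0 *
          ((Y' : Matrix (Fin 2) (Fin 2) F) 0 0 - (Y' : Matrix (Fin 2) (Fin 2) F) 1 1)
        - (Y' : Matrix (Fin 2) (Fin 2) F) 1 0 *
          ((X' : Matrix (Fin 2) (Fin 2) F) 0 0 - (X' : Matrix (Fin 2) (Fin 2) F) 1 1))
    (tr2 (X' * Y')) (mul_ne_zero hW₁ hW₂)
  rw [← tr2_conj_upperU_mul X' Y' u] at hu1 hu2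
  -- the two products
  have hp1 : (QuotientGroup.mk (X' * Y') : Matrix.ProjectiveSpecialLinearGroup (Fin 2) F) ∈
      {g : Matrix.ProjectiveSpecialLinearGroup (Fin 2) F | ∃ u v : Matrix.ProjectiveSpecialLinearGroup (Fin 2) F, g = (u * QuotientGroup.mk X * u⁻¹) * (v * QuotientGroup.mk Y * v⁻¹)} := by
    refine ⟨QuotientGroup.mk W₁, QuotientGroup.mk W₂, ?_⟩
    simp only [hX', hY', QuotientGroup.mk_mul, QuotientGroup.mk_inv]
  have hp2 : (QuotientGroup.mk (upperU u * X' * (upperU u)⁻¹ * Y') : Matrix.ProjectiveSpecialLinearGroup (Fin 2) F) ∈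
      {g : Matrix.ProjectiveSpecialLinearGroup (Fin 2) F | ∃ u v : Matrix.ProjectiveSpecialLinearGroup (Fin 2) F, g = (u * QuotientGroup.mk X * u⁻¹) * (v * QuotientGroup.mk Y * v⁻¹)} := by
    refine ⟨QuotientGroup.mk (upperU u * W₁), QuotientGroup.mk W₂, ?_⟩
    simp only [hX', hY', QuotientGroup.mk_mul, QuotientGroup.mk_inv, mul_inv_rev, mul_assoc]
  rw [hset] at hp1 hp2
  have hconj : IsConj (QuotientGroup.mk (X' * Y') : Matrix.ProjectiveSpecialLinearGroup (Fin 2) F)
      (QuotientGroup.mk (upperU u * X' * (upperU u)⁻¹ * Y')) := hp1.symm.trans hp2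
  rcases isConj_mk_tr2 _ _ hconj with h | h
  · exact hu1 h
  · exact hu2 h

end Cfsg.Agent.S2450
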