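import Cfsg.Statements.S2455
import Mathlib
import Cfsg.Agent.Lib.Helper41.SL2Basic
import Cfsg.Agent.Lib.Helper41.SL2Conj
import Cfsg.Agent.Lib.Helper41.SL2Trace
import Cfsg.Agent.Lib.Helper41.SL2Factor

set_option autoImplicit false
open Cfsg

namespace Cfsg.Agent.S2455

open Cfsg.Agent.Lib.Helper41 Polynomial

/-- a point on the conic, odd characteristic -/
theorem exists_conic_point {F : Type*} [Field F] [Fintype F] (h2 : (2 : F) ≠ 0)
    (hodd : Fintype.card F % 2 = 1) (s t : F) (ht0 : t ≠ 0) :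
    ∃ ε a B : F, (ε = 1 ∨ ε = -1) ∧ a ^ 2 + B ^ 2 - s * a * B - t * a + ε * t * B + 1 = 0 := by
  have h4 : (4 : F) ≠ 0 := by
    have : (4 : F) = 2 * 2 := by norm_num
    rw [this]; exact mul_ne_zero h2 h2
  have h8 : (8 : F) ≠ 0 := by
    have : (8 : F) = 2 * 4 := by norm_num
    rw [this]; exact mul_ne_zero h2 h4
  by_cases hs : s ^ 2 = 4
  · have hs' : s = 2 ∨ s = -2 := by
      have : (s - 2) * (s + 2) = 0 := by linear_combination hs
      rcases mul_eq_zero.mp this with h | h
      · left; exact sub_eq_zero.mp h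
      · right; exact eq_neg_of_add_eq_zero_left h
    rcases hs' with rfl | rfl
    · refine ⟨-1, (2 * (-(t ^ 2 - 4) / (8 * t)) + t) / 2, -(t ^ 2 - 4) / (8 * t), Or.inr rfl, ?_⟩
      field_simp
      ring
    · refine ⟨1, (-2 * ((t ^ 2 - 4) / (8 * t)) + t) / 2, (t ^ 2 - 4) / (8 * t), Or.inl rfl, ?_⟩
      field_simp
      ring
  · have hf : degree (X ^ 2 : F[X]) = 2 := degree_X_pow 2
    have hg : degree (C (-(s ^ 2 - 4)) * X ^ 2 + C (-(2 * s * t - 4 * t)) * X + C (-(t ^ 2 - 4)) : F[X]) = 2 := by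
      apply degree_quadratic
      exact neg_ne_zero.mpr (sub_ne_zero.mpr hs)
    obtain ⟨w, B, hwB⟩ := FiniteField.exists_root_sum_quadratic hf hg hodd
    simp only [eval_pow, eval_X, eval_add, eval_mul, eval_C] at hwB
    refine ⟨1, (w + s * B + t) / 2, B, Or.inl rfl, ?_⟩
    field_simp
    linear_combination hwB

/-- A strong covering result in the direction of Thompson's conjecture (non-identity elements) for PSL(2,q), q odd: let F be a finite field of odd characteristic p with at least 5 elements and let x ∈ PSL(2,F) have order greater than 2 and not divisible by p (so x is not unipotent). Then every non-identity element of PSL(2,F) is a product of two conjugates of x. -/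
theorem result {F : Type*} [Field F] [Fintype F] (p : ℕ) [Fact p.Prime] [CharP F p] (hp : p ≠ 2) (h5 : 5 ≤ Fintype.card F)
    (x : Matrix.ProjectiveSpecialLinearGroup (Fin 2) F) (hx2 : 2 < orderOf x) (hxp : ¬ p ∣ orderOf x) : ∀ g : Matrix.ProjectiveSpecialLinearGroup (Fin 2) F, g ≠ 1 → ∃ u v : Matrix.ProjectiveSpecialLinearGroup (Fin 2) F, g = (u * x * u⁻¹) * (v * x * v⁻¹) := by
  intro g hg
  have hpp : p.Prime := Fact.out
  obtain ⟨X, rfl⟩ := QuotientGroup.mk_surjective x
  obtain ⟨G, rfl⟩ := QuotientGroup.mk_surjective g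
  have hchar : ringChar F ≠ 2 := by
    rw [ringChar.eq F p]; exact hp
  have h2 : (2 : F) ≠ 0 := Ring.two_ne_zero hchar
  have hodd : Fintype.card F % 2 = 1 := FiniteField.odd_card_of_char_ne_two hchar
  -- the trace is non-zero
  have ht0 : tr2 X ≠ 0 := by
    intro ht
    have hsq : (X : Matrix (Fin 2) (Fin 2) F) * (X : Matrix (Fin 2) (Fin 2) F) = -1 := by
      rw [cayley_hamilton, ht, zero_smul, zero_sub]
    have : (QuotientGroup.mk X : Matrix.ProjectiveSpecialLinearGroup (Fin 2) F) ^ 2 = 1 := by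
      rw [mk_pow_eq_one_iff]; right; rw [pow_two, hsq]
    have := Nat.le_of_dvd (by norm_num) (orderOf_dvd_of_pow_eq_one this)
    omega
  -- x is not unipotent
  have hpow_p : ¬ ((QuotientGroup.mk X : Matrix.ProjectiveSpecialLinearGroup (Fin 2) F) ^ p = 1) := by
    intro h
    have hdvd := orderOf_dvd_of_pow_eq_one h
    rcases (Nat.dvd_prime hpp).mp hdvd with h1 | h1
    · omega
    · exact hxp (by rw [h1])
  have ht4 : (tr2 X) ^ 2 ≠ 4 := by
    intro ht
    have ht' : tr2 X = 2 ∨ tr2 X = -2 := by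
      have : (tr2 X - 2) * (tr2 X + 2) = 0 := by linear_combination ht
      rcases mul_eq_zero.mp this with h | h
      · left; exact sub_eq_zero.mp h
      · right; exact eq_neg_of_add_eq_zero_left h
    have hp2 : 2 ≤ p := hpp.two_le
    apply hpow_p
    rw [mk_pow_eq_one_iff]
    rcases ht' with ht' | ht'
    · left
      have hsq : ((X : Matrix (Fin 2) (Fin 2) F) - 1) ^ 2 = 0 := by
        rw [pow_two, sub_mul, mul_sub, mul_one, one_mul, cayley_hamilton, ht', two_smul]
        abel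
      have hpw : ((X : Matrix (Fin 2) (Fin 2) F) - 1) ^ p = 0 := by
        rw [show p = 2 + (p - 2) by omega, pow_add, hsq, zero_mul]
      rw [sub_pow_char_of_commute p (Commute.one_right _), one_pow] at hpw
      exact sub_eq_zero.mp hpw
    · right
      have hsq : ((X : Matrix (Fin 2) (Fin 2) F) + 1) ^ 2 = 0 := by
        rw [pow_two, add_mul, mul_add, mul_one, one_mul, cayley_hamilton, ht', neg_smul, two_smul]
        abel
      have hpw : ((X : Matrix (Fin 2) (Fin 2) F) + 1) ^ p = 0 := by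
        rw [show p = 2 + (p - 2) by omega, pow_add, hsq, zero_mul]
      rw [add_pow_char_of_commute p (Commute.one_right _), one_pow] at hpw
      exact eq_neg_of_add_eq_zero_left hpw
  have hG : G ∉ Subgroup.center (Matrix.SpecialLinearGroup (Fin 2) F) := by
    intro h; exact hg ((QuotientGroup.eq_one_iff G).mpr h)
  obtain ⟨ε, a, B, hε, hconic⟩ := exists_conic_point h2 hodd (tr2 G) (tr2 X) ht0
  obtain ⟨Y₁, Y₂, h1, h2', h3⟩ := exists_factor_of_conic' G hG (tr2 X) ε a B hconic
  have c1 : IsConj X Y₁ := isConj_of_tr2_eq X Y₁ ht4 h1.symm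
  rw [isConj_iff] at c1
  obtain ⟨U, hU⟩ := c1
  rcases hε with rfl | rfl
  · rw [one_mul] at h2'
    have c2 : IsConj X Y₂ := isConj_of_tr2_eq X Y₂ ht4 h2'.symm
    rw [isConj_iff] at c2
    obtain ⟨V, hV⟩ := c2
    refine ⟨QuotientGroup.mk U, QuotientGroup.mk V, ?_⟩
    rw [← h3, ← hU, ← hV]
    simp only [QuotientGroup.mk_mul, QuotientGroup.mk_inv]
  · -- replace `Y₂` by `-Y₂`
    have hdetneg : (-(Y₂ : Matrix (Fin 2) (Fin 2) F)).det = 1 := by
      rw [Matrix.det_neg, Fintype.card_fin, Y₂.det_coe]; norm_num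
    let Y₂' : Matrix.SpecialLinearGroup (Fin 2) F := ⟨-(Y₂ : Matrix (Fin 2) (Fin 2) F), hdetneg⟩
    have hY₂' : (Y₂' : Matrix (Fin 2) (Fin 2) F) = -(Y₂ : Matrix (Fin 2) (Fin 2) F) := rfl
    have htr' : tr2 Y₂' = tr2 X := by
      rw [tr2_eq_neg_of_coe_eq_neg Y₂' Y₂ hY₂', h2']; ring
    have hmk : (QuotientGroup.mk Y₂ : Matrix.ProjectiveSpecialLinearGroup (Fin 2) F) = QuotientGroup.mk Y₂' := by
      rw [mk_eq_mk_iff]; right; rw [hY₂', neg_neg]
    have c2 : IsConj X Y₂' := isConj_of_tr2_eq X Y₂' ht4 htr'.symm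
    rw [isConj_iff] at c2
    obtain ⟨V, hV⟩ := c2
    refine ⟨QuotientGroup.mk U, QuotientGroup.mk V, ?_⟩
    rw [← h3, QuotientGroup.mk_mul, hmk, ← hU, ← hV]
    simp only [QuotientGroup.mk_mul, QuotientGroup.mk_inv]

end Cfsg.Agent.S2455
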