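import Cfsg.Statements.S2456
import Mathlib
import Cfsg.Agent.Lib.Helper41.SL2Basic
import Cfsg.Agent.Lib.Helper41.SL2Conj
import Cfsg.Agent.Lib.Helper41.SL2Trace
import Cfsg.Agent.Lib.Helper41.SL2Nonsplit
import Cfsg.Agent.Lib.Helper41.SL2Factor

set_option autoImplicit false
open Cfsg

namespace Cfsg.Agent.S2456

open Cfsg.Agent.Lib.Helper41

/-- A strong covering result in the direction of Thompson's conjecture (non-identity elements) for PSL(2,q), q even: let F be a finite field of characteristic 2 with q ≥ 4 elements and let x ∈ PSL(2,F) have order greater than 2 and not dividing q + 1. Then every non-identity element of PSL(2,F) is a product of two conjugates of x. -/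
theorem result {F : Type*} [Field F] [Fintype F] [CharP F 2] (h4 : 4 ≤ Fintype.card F)
    (x : Matrix.ProjectiveSpecialLinearGroup (Fin 2) F) (hx2 : 2 < orderOf x) (hxq : ¬ orderOf x ∣ Fintype.card F + 1) : ∀ g : Matrix.ProjectiveSpecialLinearGroup (Fin 2) F, g ≠ 1 → ∃ u v : Matrix.ProjectiveSpecialLinearGroup (Fin 2) F, g = (u * x * u⁻¹) * (v * x * v⁻¹) := by
  intro g hg
  obtain ⟨X, rfl⟩ := QuotientGroup.mk_surjective x
  obtain ⟨G, rfl⟩ := QuotientGroup.mk_surjective g
  have h2 : (2 : F) = 0 := by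
    have := CharP.cast_eq_zero F 2
    exact_mod_cast this
  have h4' : (4 : F) = 0 := by
    have : (4 : F) = 2 * 2 := by norm_num
    rw [this, h2, zero_mul]
  -- the trace is non-zero
  have ht0 : tr2 X ≠ 0 := by
    intro ht
    have hsq : (X : Matrix (Fin 2) (Fin 2) F) * (X : Matrix (Fin 2) (Fin 2) F) = -1 := by
      rw [cayley_hamilton, ht, zero_smul, zero_sub]
    have : (QuotientGroup.mk X : Matrix.ProjectiveSpecialLinearGroup (Fin 2) F) ^ 2 = 1 := by
      rw [mk_pow_eq_one_iff]; right; rw [pow_two, hsq]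
    have := Nat.le_of_dvd (by norm_num) (orderOf_dvd_of_pow_eq_one this)
    omega
  have ht4 : (tr2 X) ^ 2 ≠ 4 := by
    rw [h4']; exact pow_ne_zero 2 ht0
  -- the characteristic polynomial splits
  have hsplit : ∃ r : F, r ^ 2 = -1 + tr2 X * r := by
    by_contra hne
    push Not at hne
    have h1 := pow_card_add_one_eq_one X hne
    have : (QuotientGroup.mk X : Matrix.ProjectiveSpecialLinearGroup (Fin 2) F) ^ (Fintype.card F + 1) = 1 := by
      rw [mk_pow_eq_one_iff]; left; exact h1
    exact hxq (orderOf_dvd_of_pow_eq_one this)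
  obtain ⟨r, hr⟩ := hsplit
  have hG : G ∉ Subgroup.center (Matrix.SpecialLinearGroup (Fin 2) F) := by
    intro h; exact hg ((QuotientGroup.eq_one_iff G).mpr h)
  obtain ⟨Y₁, Y₂, h1, h2', h3⟩ := exists_factor_of_conic' G hG (tr2 X) 1 r 0 (by
    linear_combination hr)
  rw [one_mul] at h2'
  have c1 : IsConj X Y₁ := isConj_of_tr2_eq X Y₁ ht4 h1.symm
  have c2 : IsConj X Y₂ := isConj_of_tr2_eq X Y₂ ht4 h2'.symm
  rw [isConj_iff] at c1 c2
  obtain ⟨U, hU⟩ := c1
  obtain ⟨V, hV⟩ := c2
  refine ⟨QuotientGroup.mk U, QuotientGroup.mk V, ?_⟩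
  rw [← h3, ← hU, ← hV]
  simp only [QuotientGroup.mk_mul, QuotientGroup.mk_inv]

end Cfsg.Agent.S2456
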