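import Cfsg.Statements.S2459
import Cfsg.Agent.Lib.Helper53.ConjProd.PSL

set_option autoImplicit false
open Cfsg

namespace Cfsg.Agent.S2459

/-- A form of Thompson's conjecture for PSL(3,q), q > 2 (covering the non-identity elements), with a semisimple class: for F a finite field of characteristic p with more than 2 elements there is an element x of PSL(3,F) of order prime to p such that every non-identity element of PSL(3,F) is a product of two conjugates of x. -/
theorem result {F : Type*} [Field F] [Fintype F] (p : ℕ) [Fact p.Prime] [CharP F p] (h3 : 3 ≤ Fintype.card F) :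
    ∃ x : Matrix.ProjectiveSpecialLinearGroup (Fin 3) F, ¬ p ∣ orderOf x ∧ ∀ g : Matrix.ProjectiveSpecialLinearGroup (Fin 3) F, g ≠ 1 → ∃ u v : Matrix.ProjectiveSpecialLinearGroup (Fin 3) F, g = (u * x * u⁻¹) * (v * x * v⁻¹) := by
  classical
  have hp : p.Prime := Fact.out
  have hpq : p ∣ Fintype.card F := by
    rw [← CharP.cast_eq_zero_iff F p]
    exact Nat.cast_card_eq_zero F
  by_cases h4 : 4 ≤ Fintype.card F
  · -- generic case: `x = diag(1, a, a⁻¹)` with `a ≠ 0, ±1`
    obtain ⟨a, ha⟩ : ∃ a : F, a ∉ ({0, 1, -1} : Finset F) := by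
      by_contra hcon
      push Not at hcon
      have hsub : (Finset.univ : Finset F) ⊆ {0, 1, -1} := fun a _ => hcon a
      have h1 := Finset.card_le_card hsub
      have h2 : ({0, 1, -1} : Finset F).card ≤ 3 := Finset.card_le_three
      rw [Finset.card_univ] at h1
      omega
    simp only [Finset.mem_insert, Finset.mem_singleton, not_or] at ha
    obtain ⟨ha0, ha1, ha2⟩ := ha
    refine ⟨QuotientGroup.mk (Lib.Helper53.ConjProd.XsSL a ha0), ?_, ?_⟩
    · intro hdvd
      have hpow : (QuotientGroup.mk (Lib.Helper53.ConjProd.XsSL a ha0) :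
          Matrix.ProjectiveSpecialLinearGroup (Fin 3) F) ^ (Fintype.card F - 1) = 1 := by
        rw [← QuotientGroup.mk_pow, Lib.Helper53.ConjProd.XsSL_pow a ha0 _
          (FiniteField.pow_card_sub_one_eq_one a ha0)]
        rfl
      have h1 : p ∣ Fintype.card F - 1 := hdvd.trans (orderOf_dvd_of_pow_eq_one hpow)
      have h2 : p ∣ 1 := by
        have : Fintype.card F - (Fintype.card F - 1) = 1 := by omega
        rw [← this]
        exact Nat.dvd_sub hpq h1
      exact hp.one_lt.ne' (Nat.dvd_one.mp h2)
    · intro g hg
      exact Lib.Helper53.ConjProd.psl_good (Lib.Helper53.ConjProd.XsSL a ha0)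
        (fun d => Lib.Helper53.ConjProd.Xs_comm_Dd a d)
        (fun g hdet hns => Lib.Helper53.ConjProd.split_main a ha0 ha1 ha2 g hdet hns) g hg
  · -- the field with three elements
    have hcard : Fintype.card F = 3 := by omega
    have hp3 : p = 3 := by
      rw [hcard] at hpq
      exact (Nat.prime_dvd_prime_iff_eq hp Nat.prime_three).mp hpq
    subst hp3
    have h3F : (3 : F) = 0 := by
      have := CharP.cast_eq_zero F 3
      exact_mod_cast this
    have h01 : (0 : F) ≠ 1 := zero_ne_one
    have h0m : (0 : F) ≠ -1 := by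
      intro h
      have : (1 : F) = 0 := by linear_combination h
      exact one_ne_zero this
    have h1m : (1 : F) ≠ -1 := by
      intro h
      have : (1 : F) = 0 := by linear_combination h3F - h
      exact one_ne_zero this
    have hK : ∀ x : F, x = 0 ∨ x = 1 ∨ x = -1 := by
      have hc : ({0, 1, -1} : Finset F).card = 3 := by
        rw [Finset.card_insert_of_notMem, Finset.card_insert_of_notMem, Finset.card_singleton]
        · simpa using h1m
        · simp only [Finset.mem_insert, Finset.mem_singleton, not_or]
          exact ⟨h01, h0m⟩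
      have huniv : ({0, 1, -1} : Finset F) = Finset.univ := by
        apply Finset.eq_univ_of_card
        rw [hc, hcard]
      intro x
      have hx : x ∈ ({0, 1, -1} : Finset F) := by rw [huniv]; exact Finset.mem_univ x
      simpa using hx
    refine ⟨QuotientGroup.mk (Lib.Helper53.ConjProd.X3SL), ?_, ?_⟩
    · intro hdvd
      have hpow : (QuotientGroup.mk (Lib.Helper53.ConjProd.X3SL) :
          Matrix.ProjectiveSpecialLinearGroup (Fin 3) F) ^ 4 = 1 := by
        rw [← QuotientGroup.mk_pow, Lib.Helper53.ConjProd.X3SL_pow]
        rfl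
      have h1 : 3 ∣ 4 := hdvd.trans (orderOf_dvd_of_pow_eq_one hpow)
      omega
    · intro g hg
      exact Lib.Helper53.ConjProd.psl_good (Lib.Helper53.ConjProd.X3SL)
        (fun d => Lib.Helper53.ConjProd.X3_comm_Dd d)
        (fun g hdet hns => Lib.Helper53.ConjProd.three_main h3F hK g hdet hns) g hg

end Cfsg.Agent.S2459
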