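import Cfsg.Statements.S2466
import Mathlib

set_option autoImplicit false
open Cfsg

namespace Cfsg.Agent.S2466

theorem prime_dvd_lcm (p : ℕ) (hp : p.Prime) (m : Multiset ℕ) (h : p ∣ m.lcm) : ∃ a ∈ m, p ∣ a := by
  induction m using Multiset.induction with
  | empty =>
    simp only [Multiset.lcm_zero, Nat.dvd_one] at h
    exact absurd h hp.ne_one
  | cons a m ih =>
    rw [Multiset.lcm_cons, lcm_eq_nat_lcm] at h
    have h' : p ∣ a * m.lcm := dvd_trans h (Nat.lcm_dvd_mul a m.lcm)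
    rcases (Nat.Prime.dvd_mul hp).1 h' with h1 | h1
    · exact ⟨a, Multiset.mem_cons_self a m, h1⟩
    · obtain ⟨b, hb, hpb⟩ := ih h1
      exact ⟨b, Multiset.mem_cons_of_mem hb, hpb⟩

theorem aux (r s : ℕ) (hr : r.Prime) (hs : s.Prime) (hrs : r ≠ s) (m : Multiset ℕ)
    (hpos : ∀ a ∈ m, 2 ≤ a) (hl : m.lcm = r * s) : r + s ≤ m.sum := by
  have hr2 := hr.two_le
  have hs2 := hs.two_le
  obtain ⟨a, ha, hra⟩ := prime_dvd_lcm r hr m (hl ▸ Dvd.intro _ rfl)
  obtain ⟨m', rfl⟩ := Multiset.exists_cons_of_mem ha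
  have hapos : 0 < a := by have := hpos a ha; omega
  have hsl : s ∣ (a ::ₘ m').lcm := hl ▸ Dvd.intro_left _ rfl
  rw [Multiset.lcm_cons, lcm_eq_nat_lcm] at hsl
  have h' : s ∣ a * m'.lcm := dvd_trans hsl (Nat.lcm_dvd_mul a m'.lcm)
  rw [Multiset.sum_cons]
  rcases (Nat.Prime.dvd_mul hs).1 h' with h1 | h1
  · have hcop : Nat.Coprime r s := (Nat.coprime_primes hr hs).2 hrs
    have hdvd : r * s ∣ a := hcop.mul_dvd_of_dvd_of_dvd hra h1
    have hle : r * s ≤ a := Nat.le_of_dvd hapos hdvd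
    have : r + s ≤ r * s := by nlinarith
    omega
  · obtain ⟨b, hb, hsb⟩ := prime_dvd_lcm s hs m' h1
    have hbpos : 0 < b := by have := hpos b (Multiset.mem_cons_of_mem hb); omega
    have h1 : r ≤ a := Nat.le_of_dvd hapos hra
    have h2 : s ≤ b := Nat.le_of_dvd hbpos hsb
    have h3 : b ≤ m'.sum := Multiset.le_sum_of_mem hb
    omega

/-- Adjacency of odd primes in the prime graph of the alternating groups: let r ≠ s be odd primes at most n. The alternating group of degree n has an element of order r·s if and only if r + s ≤ n. -/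
theorem result (n r s : ℕ) (hr : r.Prime) (hs : s.Prime) (hr2 : r ≠ 2) (hs2 : s ≠ 2) (hrs : r ≠ s) (hrn : r ≤ n) (hsn : s ≤ n) :
    (r * s ∈ Set.range (orderOf : alternatingGroup (Fin n) → ℕ)) ↔ r + s ≤ n := by
  constructor
  · rintro ⟨⟨σ, hσ⟩, h⟩
    rw [Subgroup.orderOf_mk, ← Equiv.Perm.lcm_cycleType] at h
    have h2 : ∀ a ∈ σ.cycleType, 2 ≤ a := fun a ha => Equiv.Perm.two_le_of_mem_cycleType ha
    have := aux r s hr hs hrs _ h2 h
    have h1 : σ.cycleType.sum ≤ n := by simpa using σ.sum_cycleType_le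
    omega
  · intro h
    obtain ⟨g, hg⟩ := (Equiv.Perm.exists_with_cycleType_iff (Fin n) (m := {r, s})).mpr
      ⟨by simpa using h, by
        intro a ha
        simp only [Multiset.insert_eq_cons, Multiset.mem_cons, Multiset.mem_singleton] at ha
        rcases ha with rfl | rfl
        · exact hr.two_le
        · exact hs.two_le⟩
    have hodd_r : Odd r := hr.odd_of_ne_two hr2
    have hodd_s : Odd s := hs.odd_of_ne_two hs2
    have hsign : Equiv.Perm.sign g = 1 := by
      rw [Equiv.Perm.sign_of_cycleType, hg]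
      apply Even.neg_one_pow
      simp only [Multiset.insert_eq_cons, Multiset.sum_cons, Multiset.sum_singleton,
        Multiset.card_cons, Multiset.card_singleton]
      obtain ⟨k, hk⟩ := hodd_r
      obtain ⟨l, hl⟩ := hodd_s
      exact ⟨k + l + 2, by omega⟩
    refine ⟨⟨g, Equiv.Perm.mem_alternatingGroup.mpr hsign⟩, ?_⟩
    rw [Subgroup.orderOf_mk, ← Equiv.Perm.lcm_cycleType, hg]
    have hcop : Nat.Coprime r s := (Nat.coprime_primes hr hs).2 hrs
    simp only [Multiset.insert_eq_cons, Multiset.lcm_cons, Multiset.lcm_singleton,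
      lcm_eq_nat_lcm, normalize_eq]
    exact hcop.lcm_eq_mul

end Cfsg.Agent.S2466
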