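import Cfsg.Statements.S2467
import Mathlib

set_option autoImplicit false
open Cfsg

namespace Cfsg.Agent.S2467

theorem prime_dvd_lcm (p : ℕ) (hp : p.Prime) (m : Multiset ℕ) (h : p ∣ m.lcm) : ∃ a ∈ m, p ∣ a := by
  induction m using Multiset.induction with
  | empty =>
    simp only [Multiset.lcm_zero, Nat.dvd_one] at h
    exact absurd h hp.ne_one
  | cons a m ih =>
    rw [Multiset.lcm_cons, lcm_eq_nat_lcm] at h
    have h' : p ∣ a * m.lcm := dvd_trans h (Nat.lcm_dvd_mul a m.lcm)
    rcases (Nat.Prime.dvd_mul hp).1 h' with h1 | h1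
    · exact ⟨a, Multiset.mem_cons_self a m, h1⟩
    · obtain ⟨b, hb, hpb⟩ := ih h1
      exact ⟨b, Multiset.mem_cons_of_mem hb, hpb⟩

theorem exists_mem_of_ne_zero (m : Multiset ℕ) (h : m ≠ 0) : ∃ c, c ∈ m :=
  Multiset.card_pos_iff_exists_mem.mp (Multiset.card_pos.mpr h)

theorem aux (r : ℕ) (hr : r.Prime) (hr2 : r ≠ 2) (m : Multiset ℕ)
    (hpos : ∀ a ∈ m, 2 ≤ a) (hl : m.lcm = 2 * r) (hev : (m.sum + m.card) % 2 = 0) :
    r + 4 ≤ m.sum := by
  have hr2' := hr.two_le
  obtain ⟨a, ha, hra⟩ := prime_dvd_lcm r hr m (hl ▸ Dvd.intro_left _ rfl)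
  obtain ⟨m', rfl⟩ := Multiset.exists_cons_of_mem ha
  have hapos : 0 < a := by have := hpos a ha; omega
  have hsl : 2 ∣ (a ::ₘ m').lcm := hl ▸ Dvd.intro _ rfl
  rw [Multiset.lcm_cons, lcm_eq_nat_lcm] at hsl
  have h' : 2 ∣ a * m'.lcm := dvd_trans hsl (Nat.lcm_dvd_mul a m'.lcm)
  rw [Multiset.sum_cons, Multiset.card_cons] at hev
  rw [Multiset.sum_cons]
  by_cases h2a : 2 ∣ a
  · -- a is divisible by 2r
    have hcop : Nat.Coprime 2 r := (Nat.coprime_primes Nat.prime_two hr).2 (Ne.symm hr2)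
    have hdvd : 2 * r ∣ a := hcop.mul_dvd_of_dvd_of_dvd h2a hra
    have hle : 2 * r ≤ a := Nat.le_of_dvd hapos hdvd
    have hm' : m' ≠ 0 := by
      rintro rfl
      simp only [Multiset.sum_zero, Multiset.card_zero] at hev
      omega
    obtain ⟨c, hc⟩ := exists_mem_of_ne_zero m' hm'
    have hc2 : 2 ≤ c := hpos c (Multiset.mem_cons_of_mem hc)
    have h3 : c ≤ m'.sum := Multiset.le_sum_of_mem hc
    omega
  · have h1 : 2 ∣ m'.lcm := by
      rcases (Nat.Prime.dvd_mul Nat.prime_two).1 h' with h1 | h1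
      · exact absurd h1 h2a
      · exact h1
    obtain ⟨b, hb, h2b⟩ := prime_dvd_lcm 2 Nat.prime_two m' h1
    obtain ⟨m'', rfl⟩ := Multiset.exists_cons_of_mem hb
    rw [Multiset.sum_cons, Multiset.card_cons] at hev
    rw [Multiset.sum_cons]
    have hb2 : 2 ≤ b := hpos b (Multiset.mem_cons_of_mem hb)
    have hra' : r ≤ a := Nat.le_of_dvd hapos hra
    have hm'' : m'' ≠ 0 := by
      rintro rfl
      simp only [Multiset.sum_zero, Multiset.card_zero] at hev
      omega
    obtain ⟨c, hc⟩ := exists_mem_of_ne_zero m'' hm''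
    have hc2 : 2 ≤ c := hpos c (Multiset.mem_cons_of_mem (Multiset.mem_cons_of_mem hc))
    have h3 : c ≤ m''.sum := Multiset.le_sum_of_mem hc
    omega

/-- Adjacency of 2 and an odd prime in the prime graph of the alternating groups: let r be an odd prime at most n, with n ≥ 4. The alternating group of degree n has an element of order 2r if and only if r + 4 ≤ n. -/
theorem result (n r : ℕ) (hn : 4 ≤ n) (hr : r.Prime) (hr2 : r ≠ 2) (hrn : r ≤ n) :
    (2 * r ∈ Set.range (orderOf : alternatingGroup (Fin n) → ℕ)) ↔ r + 4 ≤ n := by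
  constructor
  · rintro ⟨⟨σ, hσ⟩, h⟩
    rw [Subgroup.orderOf_mk, ← Equiv.Perm.lcm_cycleType] at h
    have h2 : ∀ a ∈ σ.cycleType, 2 ≤ a := fun a ha => Equiv.Perm.two_le_of_mem_cycleType ha
    have h3 : Even (σ.cycleType.sum + σ.cycleType.card) := by
      have hs := Equiv.Perm.mem_alternatingGroup.mp hσ
      rw [Equiv.Perm.sign_of_cycleType] at hs
      by_contra hne
      rw [Nat.not_even_iff_odd] at hne
      rw [hne.neg_one_pow] at hs
      exact absurd hs (by decide)
    have := aux r hr hr2 _ h2 h (Nat.even_iff.mp h3)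
    have h1 : σ.cycleType.sum ≤ n := by simpa using σ.sum_cycleType_le
    omega
  · intro h
    obtain ⟨g, hg⟩ := (Equiv.Perm.exists_with_cycleType_iff (Fin n) (m := {r, 2, 2})).mpr
      ⟨by simp only [Multiset.insert_eq_cons, Multiset.sum_cons, Multiset.sum_singleton,
            Fintype.card_fin]; omega, by
        intro a ha
        simp only [Multiset.insert_eq_cons, Multiset.mem_cons, Multiset.mem_singleton] at ha
        rcases ha with rfl | rfl | rfl
        · exact hr.two_le
        · exact le_refl 2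
        · exact le_refl 2⟩
    have hodd_r : Odd r := hr.odd_of_ne_two hr2
    have hsign : Equiv.Perm.sign g = 1 := by
      rw [Equiv.Perm.sign_of_cycleType, hg]
      apply Even.neg_one_pow
      simp only [Multiset.insert_eq_cons, Multiset.sum_cons, Multiset.sum_singleton,
        Multiset.card_cons, Multiset.card_singleton]
      obtain ⟨k, hk⟩ := hodd_r
      exact ⟨k + 4, by omega⟩
    refine ⟨⟨g, Equiv.Perm.mem_alternatingGroup.mpr hsign⟩, ?_⟩
    rw [Subgroup.orderOf_mk, ← Equiv.Perm.lcm_cycleType, hg]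
    have hcop : Nat.Coprime r 2 := (Nat.coprime_primes hr Nat.prime_two).2 hr2
    simp only [Multiset.insert_eq_cons, Multiset.lcm_cons, Multiset.lcm_singleton,
      lcm_eq_nat_lcm, normalize_eq, Nat.lcm_self]
    rw [hcop.lcm_eq_mul, mul_comm]

end Cfsg.Agent.S2467
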