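import Cfsg.Statements.S2468
-- import your own Cfsg.Agent.* helpers here
import Mathlib
import Cfsg.Agent.Lib.Helper40.PSLOrders

set_option autoImplicit false
open Cfsg

namespace Cfsg.Agent.S2468

open Cfsg.Agent.Lib.Helper40

/-- Adjacency of two odd primes in the prime graph of PSL(n,q): let F be a finite field of characteristic p with q elements, n ≥ 2 with PSL(n,F) simple, and let r ≠ s be odd primes different from p dividing the order of PSL(n,F). Let k and l be the multiplicative orders of q modulo r and modulo s, and suppose 2 ≤ k ≤ l. Then PSL(n,F) has NO element of order r·s if and only if k + l > n and k does not divide l. -/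
theorem result {F : Type*} [Field F] [Fintype F] (p : ℕ) [Fact p.Prime] [CharP F p] (n : ℕ) (hn : 2 ≤ n) (hsmall : n = 2 → 4 ≤ Fintype.card F)
    (r s : ℕ) (hr : r.Prime) (hs : s.Prime) (hr2 : r ≠ 2) (hs2 : s ≠ 2) (hrp : r ≠ p) (hsp : s ≠ p) (hrs : r ≠ s)
    (hrG : r ∣ Nat.card (Matrix.ProjectiveSpecialLinearGroup (Fin n) F)) (hsG : s ∣ Nat.card (Matrix.ProjectiveSpecialLinearGroup (Fin n) F))
    (k l : ℕ) (hk : k = orderOf ((Fintype.card F : ℕ) : ZMod r)) (hl : l = orderOf ((Fintype.card F : ℕ) : ZMod s))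
    (h2k : 2 ≤ k) (hkl : k ≤ l) :
    (r * s ∉ Set.range (orderOf : Matrix.ProjectiveSpecialLinearGroup (Fin n) F → ℕ)) ↔ (n < k + l ∧ ¬ k ∣ l) := by
  classical
  have : Fact r.Prime := ⟨hr⟩
  have : Fact s.Prime := ⟨hs⟩
  have hpp : p.Prime := Fact.out
  have hq1 : 1 ≤ Fintype.card F := Fintype.card_pos
  have hk1 : orderOf ((Fintype.card F : ℕ) : ZMod r) = k := hk.symm
  have hl1 : orderOf ((Fintype.card F : ℕ) : ZMod s) = l := hl.symm
  have hrq1 : ¬ r ∣ Fintype.card F - 1 := by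
    intro h
    have h1 : r ∣ Fintype.card F ^ 1 - 1 := by rwa [pow_one]
    rw [dvd_pow_sub_one_iff hq1, hk1] at h1
    have := Nat.le_of_dvd one_pos h1
    omega
  have hsq1 : ¬ s ∣ Fintype.card F - 1 := by
    intro h
    have h1 : s ∣ Fintype.card F ^ 1 - 1 := by rwa [pow_one]
    rw [dvd_pow_sub_one_iff hq1, hl1] at h1
    have := Nat.le_of_dvd one_pos h1
    omega
  have hrF : (r : F) ≠ 0 := by
    intro h0
    have h1 := (CharP.cast_eq_zero_iff F p r).mp h0
    exact hrp ((Nat.prime_dvd_prime_iff_eq hpp hr).mp h1).symm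
  have hsF : (s : F) ≠ 0 := by
    intro h0
    have h1 := (CharP.cast_eq_zero_iff F p s).mp h0
    exact hsp ((Nat.prime_dvd_prime_iff_eq hpp hs).mp h1).symm
  have hrk : r ∣ Fintype.card F ^ k - 1 := (dvd_pow_sub_one_iff hq1 k).mpr (hk1 ▸ dvd_rfl)
  have hsl : s ∣ Fintype.card F ^ l - 1 := (dvd_pow_sub_one_iff hq1 l).mpr (hl1 ▸ dvd_rfl)
  have hcoprs : r.Coprime s := (Nat.coprime_primes hr hs).mpr hrs
  have hpq : p ∣ Fintype.card F := by
    have : ((Fintype.card F : ℕ) : F) = 0 := Nat.cast_card_eq_zero F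
    exact (CharP.cast_eq_zero_iff F p _).mp this
  have hsq : ¬ s ∣ Fintype.card F := by
    intro h
    obtain ⟨e, he⟩ := FiniteField.card F p
    rw [he.2] at h
    exact hsp ((Nat.prime_dvd_prime_iff_eq hs hpp).mp (hs.dvd_of_dvd_pow h))
  constructor
  · -- existence of an element of order `r * s`
    intro hno
    by_contra hcon
    apply hno
    have hcase : k + l ≤ n ∨ k ∣ l := by
      by_cases h1 : k + l ≤ n
      · exact Or.inl h1
      · right
        by_contra h2
        exact hcon ⟨by omega, h2⟩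
    have hg : ∃ g : Matrix.GeneralLinearGroup (Fin n) F, orderOf g = r * s := by
      rcases hcase with h | h
      · exact exists_orderOf_GL_mul p n k l (by omega) (by omega) h r s hcoprs hrk hsl
      · obtain ⟨m', rfl⟩ : ∃ m', n = m' + 1 := ⟨n - 1, by omega⟩
        obtain ⟨j, hj1, hjn, hj⟩ := exists_dvd_pow_sub_one_of_dvd_card_PSL m' s hs hsq hsG
        have hlj : l ∣ j := by
          rw [← hl1]
          exact (dvd_pow_sub_one_iff hq1 j).mp hj
        have hln : l ≤ m' + 1 := (Nat.le_of_dvd (by omega) hlj).trans hjn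
        have hrl : r ∣ Fintype.card F ^ l - 1 := (dvd_pow_sub_one_iff hq1 l).mpr (hk1 ▸ h)
        exact exists_orderOf_GL p (m' + 1) l (by omega) hln (r * s)
          (Nat.Coprime.mul_dvd_of_dvd_of_dvd hcoprs hrl hsl)
    obtain ⟨g, hg⟩ := hg
    have hcop : (orderOf g).Coprime (Fintype.card F - 1) := by
      rw [hg]
      exact Nat.Coprime.mul_left ((Nat.Prime.coprime_iff_not_dvd hr).mpr hrq1)
        ((Nat.Prime.coprime_iff_not_dvd hs).mpr hsq1)
    obtain ⟨g', hg'⟩ := exists_SL_of_GL_coprime g hcop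
    refine ⟨QuotientGroup.mk g', ?_⟩
    rw [orderOf_mk_eq_of_coprime g' (hg' ▸ hcop), hg', hg]
  · -- non-existence
    rintro ⟨hnkl, hndvd⟩ ⟨x, hx⟩
    obtain ⟨X, rfl⟩ := QuotientGroup.mk_surjective x
    set MX : Matrix (Fin n) (Fin n) F := (X : Matrix (Fin n) (Fin n) F) with hMX
    have hdetX : MX.det = 1 := X.2
    obtain ⟨c, hc⟩ := (mk_pow_eq_one_iff X (r * s)).mp (by rw [← hx]; exact pow_orderOf_eq_one _)
    have hn0 : 0 < n := by omega
    have : Nonempty (Fin n) := ⟨⟨0, hn0⟩⟩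
    have hc0 : c ≠ 0 := by
      intro h0
      have h1 := congrArg Matrix.det hc
      rw [Matrix.det_pow, hdetX, one_pow, h0, zero_smul, Matrix.det_zero] at h1
      exact one_ne_zero h1
    have hMAns : ∀ c' : F, MX ^ s ≠ c' • 1 := by
      intro c' h
      have h1 := (mk_pow_eq_one_iff X s).mpr ⟨c', h⟩
      have h2 := orderOf_dvd_of_pow_eq_one h1
      rw [hx] at h2
      have h3 := Nat.le_of_dvd hs.pos h2
      have := hr.two_le
      nlinarith [hs.pos]
    have hMBns : ∀ c' : F, MX ^ r ≠ c' • 1 := by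
      intro c' h
      have h1 := (mk_pow_eq_one_iff X r).mpr ⟨c', h⟩
      have h2 := orderOf_dvd_of_pow_eq_one h1
      rw [hx] at h2
      have h3 := Nat.le_of_dvd hr.pos h2
      have := hs.two_le
      nlinarith [hr.pos]
    obtain ⟨α₀, hα₀⟩ := exists_pow_eq_of_not_dvd r hr hrq1 c hc0
    obtain ⟨β₀, hβ₀⟩ := exists_pow_eq_of_not_dvd s hs hsq1 c hc0
    have hα₀0 : α₀ ≠ 0 := by
      intro h0
      rw [h0, zero_pow hr.ne_zero] at hα₀
      exact hc0 hα₀.symm
    have hβ₀0 : β₀ ≠ 0 := by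
      intro h0
      rw [h0, zero_pow hs.ne_zero] at hβ₀
      exact hc0 hβ₀.symm
    set S₁ : Matrix (Fin n) (Fin n) F := α₀⁻¹ • MX ^ s with hS₁
    set S₂ : Matrix (Fin n) (Fin n) F := β₀⁻¹ • MX ^ r with hS₂
    have h₁ : S₁ ^ r = 1 := by
      rw [hS₁, smul_pow, ← pow_mul, mul_comm s r, hc, smul_smul, ← hα₀, inv_pow,
        inv_mul_cancel₀ (pow_ne_zero _ hα₀0), one_smul]
    have h₂ : S₂ ^ s = 1 := by
      rw [hS₂, smul_pow, ← pow_mul, hc, smul_smul, ← hβ₀, inv_pow,
        inv_mul_cancel₀ (pow_ne_zero _ hβ₀0), one_smul]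
    have h₁1 : S₁ ≠ 1 := by
      intro h1
      apply hMAns α₀
      have h2 := congrArg (fun Y => α₀ • Y) h1
      simp only [hS₁, smul_smul, mul_inv_cancel₀ hα₀0, one_smul] at h2
      exact h2
    have h₂1 : S₂ ≠ 1 := by
      intro h1
      apply hMBns β₀
      have h2 := congrArg (fun Y => β₀ • Y) h1
      simp only [hS₂, smul_smul, mul_inv_cancel₀ hβ₀0, one_smul] at h2
      exact h2
    have hcomm : S₁ * S₂ = S₂ * S₁ := by
      rw [hS₁, hS₂, Matrix.smul_mul, Matrix.mul_smul, Matrix.smul_mul, Matrix.mul_smul,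
        ← pow_add, ← pow_add, add_comm, smul_comm]
    have hmod : ∀ (t d : ℕ) [Fact t.Prime], Fintype.card F ^ d ≡ 1 [MOD t] →
        orderOf ((Fintype.card F : ℕ) : ZMod t) ∣ d := by
      intro t d _ h
      exact (dvd_pow_sub_one_iff hq1 d).mp
        ((Nat.modEq_iff_dvd' (Nat.one_le_pow _ _ hq1)).mp h.symm)
    rcases exists_dims_of_commuting_pair_matrix r s hrF hsF S₁ S₂ h₁ h₂ h₁1 h₂1 hcomm with
      ⟨d, hd0, hdn, hdr, hds⟩ | ⟨d₁, d₂, h10, h20, hsum, hd1, hd2⟩
    · have hkd : k ∣ d := hk1 ▸ hmod r d hdr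
      have hld : l ∣ d := hl1 ▸ hmod s d hds
      have hlcm : Nat.lcm k l ∣ d := Nat.lcm_dvd hkd hld
      obtain ⟨t, ht⟩ := Nat.dvd_lcm_right k l
      have ht1 : t ≠ 1 := by
        intro h1
        rw [h1, mul_one] at ht
        exact hndvd (ht ▸ Nat.dvd_lcm_left k l)
      have ht0 : t ≠ 0 := by
        intro h0
        rw [h0, mul_zero] at ht
        exact Nat.lcm_ne_zero (by omega) (by omega) ht
      have h2l : 2 * l ≤ Nat.lcm k l := by
        rw [ht]
        have : 2 ≤ t := by omega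
        nlinarith
      have hle : Nat.lcm k l ≤ d := Nat.le_of_dvd (by omega) hlcm
      omega
    · have hkd : k ∣ d₁ := hk1 ▸ hmod r d₁ hd1
      have hld : l ∣ d₂ := hl1 ▸ hmod s d₂ hd2
      have := Nat.le_of_dvd (by omega) hkd
      have := Nat.le_of_dvd (by omega) hld
      omega

end Cfsg.Agent.S2468
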