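import Cfsg.Statements.S2469
-- import your own Cfsg.Agent.* helpers here
import Mathlib
import Cfsg.Agent.Lib.Helper40.SpNonex
import Cfsg.Agent.Lib.Helper40.SpLift
import Cfsg.Agent.Lib.Helper40.SpExist

set_option autoImplicit false
open Cfsg

namespace Cfsg.Agent.S2469

open Cfsg.Agent.Lib.Helper40

/-- Adjacency of two odd primes in the prime graph of PSp(2n,q): let F be a finite field of characteristic p with q elements, n ≥ 2 with PSp(2n,F) simple, and let r ≠ s be odd primes different from p dividing the order of PSp(2n,F). Let k, l be the multiplicative orders of q modulo r and s, put η(m) = m for odd m and η(m) = m/2 for even m, and suppose η(k) ≤ η(l). Then PSp(2n,F) has NO element of order r·s if and only if η(k) + η(l) > n and l/k is not an odd integer. -/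
theorem result {F : Type*} [Field F] [Fintype F] (p : ℕ) [Fact p.Prime] [CharP F p] (n : ℕ) (hn : 2 ≤ n) (hsmall : n = 2 → 3 ≤ Fintype.card F)
    (r s : ℕ) (hr : r.Prime) (hs : s.Prime) (hr2 : r ≠ 2) (hs2 : s ≠ 2) (hrp : r ≠ p) (hsp : s ≠ p) (hrs : r ≠ s)
    (hrG : r ∣ Nat.card (Cfsg.PSp n F)) (hsG : s ∣ Nat.card (Cfsg.PSp n F))
    (k l ηk ηl : ℕ) (hk : k = orderOf ((Fintype.card F : ℕ) : ZMod r)) (hl : l = orderOf ((Fintype.card F : ℕ) : ZMod s))
    (hηk : (Odd k ∧ ηk = k) ∨ (Even k ∧ 2 * ηk = k)) (hηl : (Odd l ∧ ηl = l) ∨ (Even l ∧ 2 * ηl = l)) (hkl : ηk ≤ ηl) :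
    (r * s ∉ Set.range (orderOf : Cfsg.PSp n F → ℕ)) ↔ (n < ηk + ηl ∧ ¬ ∃ t : ℕ, Odd t ∧ l = k * t) := by
  classical
  have hpp : p.Prime := Fact.out
  have : Fact r.Prime := ⟨hr⟩
  have : Fact s.Prime := ⟨hs⟩
  have hk1 : orderOf ((Fintype.card F : ℕ) : ZMod r) = k := hk.symm
  have hl1 : orderOf ((Fintype.card F : ℕ) : ZMod s) = l := hl.symm
  have hrq : ¬ r ∣ Fintype.card F := by
    intro h
    obtain ⟨e, he⟩ := FiniteField.card F p
    rw [he.2] at h
    exact hrp ((Nat.prime_dvd_prime_iff_eq hr hpp).mp (hr.dvd_of_dvd_pow h))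
  have hsq : ¬ s ∣ Fintype.card F := by
    intro h
    obtain ⟨e, he⟩ := FiniteField.card F p
    rw [he.2] at h
    exact hsp ((Nat.prime_dvd_prime_iff_eq hs hpp).mp (hs.dvd_of_dvd_pow h))
  have hk0 : 1 ≤ k := by
    rw [← hk1]
    exact order_pos hrq
  have hl0 : 1 ≤ l := by
    rw [← hl1]
    exact order_pos hsq
  have hrodd : Odd r := hr.odd_of_ne_two hr2
  have hsodd : Odd s := hs.odd_of_ne_two hs2
  have hcop : r.Coprime s := (Nat.coprime_primes hr hs).mpr hrs
  have hηk1 : 1 ≤ ηk := by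
    rcases hηk with ⟨_, h⟩ | ⟨_, h⟩ <;> omega
  have hηl1 : 1 ≤ ηl := by
    rcases hηl with ⟨_, h⟩ | ⟨_, h⟩ <;> omega
  -- `η(l) ≤ n`
  have hsG' : s ∣ Nat.card (Matrix.symplecticGroup (Fin n) F) := by
    refine hsG.trans ?_
    exact Subgroup.card_quotient_dvd_card _
  have hηln : ηl ≤ n := eta_le_of_dvd_card_Sp s hsq n l ηl hsG' hl1 hηl
  rw [mem_range_orderOf_PSp_iff n (by omega) (r * s)
    (coprime_gcd_two_of_odd _ _ (hrodd.mul hsodd))]
  constructor
  · -- existence of an element of order `r * s`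
    intro hno
    by_contra hcon
    apply hno
    by_cases hsum : ηk + ηl ≤ n
    · have hrC : r ∣ Nat.card (Matrix.symplecticGroup (Fin ηk) F) :=
        prime_dvd_card_Sp r ηk k ηk hk1 hηk hηk1 le_rfl
      obtain ⟨g₁, hg₁⟩ := exists_prime_orderOf_dvd_card' r hrC
      have hsC : s ∣ Nat.card (Matrix.symplecticGroup (Fin (n - ηk)) F) :=
        prime_dvd_card_Sp s (n - ηk) l ηl hl1 hηl hηl1 (by omega)
      obtain ⟨g₂, hg₂⟩ := exists_prime_orderOf_dvd_card' s hsC
      obtain ⟨g, hg⟩ := exists_orderOf_Sp_block (F := F) (show ηk + (n - ηk) = n by omega) g₁ g₂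
        (by rw [hg₁, hg₂]; exact hcop)
      exact ⟨g, by rw [hg, hg₁, hg₂]⟩
    · have hex : ∃ t : ℕ, Odd t ∧ l = k * t := by
        by_contra hne
        exact hcon ⟨by omega, hne⟩
      obtain ⟨t, ht, hlt⟩ := hex
      exact exists_orderOf_Sp_of_odd_quotient p r s hrs k l ηk ηl hk0 hk1 hl1 hηk hηl t ht hlt n
        hηln
  · -- non-existence
    rintro ⟨hlt, hnt⟩ ⟨g, hg⟩
    have hTrs : (g : Matrix (Fin n ⊕ Fin n) (Fin n ⊕ Fin n) F) ^ (r * s) = 1 := by
      have h1 : g ^ (r * s) = 1 := by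
        rw [← hg]
        exact pow_orderOf_eq_one g
      exact congrArg Subtype.val h1
    have hTr : (g : Matrix (Fin n ⊕ Fin n) (Fin n ⊕ Fin n) F) ^ r ≠ 1 := by
      intro h
      have h1 : g ^ r = 1 := Subtype.ext h
      have h2 := orderOf_dvd_of_pow_eq_one h1
      rw [hg] at h2
      have h3 := Nat.le_of_dvd hr.pos h2
      have := hs.two_le
      nlinarith [hr.pos]
    have hTs : (g : Matrix (Fin n ⊕ Fin n) (Fin n ⊕ Fin n) F) ^ s ≠ 1 := by
      intro h
      have h1 : g ^ s = 1 := Subtype.ext h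
      have h2 := orderOf_dvd_of_pow_eq_one h1
      rw [hg] at h2
      have h3 := Nat.le_of_dvd hs.pos h2
      have := hr.two_le
      nlinarith [hs.pos]
    rcases eta_add_le_or_of_order_mul p r s hr hs hr2 hs2 hrp hsp hrs _ g.2 hTrs hTr hTs
      k l ηk ηl hk1 hl1 hηk hηl hkl with h | h
    · omega
    · exact hnt h

end Cfsg.Agent.S2469
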