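import Cfsg.Statements.S2470
-- import your own Cfsg.Agent.* helpers here
import Mathlib
import Cfsg.Agent.Lib.Helper40.PSLCharAdj

set_option autoImplicit false
open Cfsg

namespace Cfsg.Agent.S2470

open Cfsg.Agent.Lib.Helper40 Cfsg.Agent.S2364

/-- Adjacency of an odd prime and the characteristic in the prime graph of PSL(n,q): let F be a finite field of characteristic p with q elements, n ≥ 2 with PSL(n,F) simple, and let r ≠ p be an odd prime dividing the order of PSL(n,F), with k the multiplicative order of q modulo r. Then PSL(n,F) has NO element of order r·p if and only if either k > n − 2, or n = 3, r = 3 and 3 divides q − 1 exactly once. -/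
theorem result {F : Type*} [Field F] [Fintype F] (p : ℕ) [Fact p.Prime] [CharP F p] (n : ℕ) (hn : 2 ≤ n) (hsmall : n = 2 → 4 ≤ Fintype.card F)
    (r : ℕ) (hr : r.Prime) (hr2 : r ≠ 2) (hrp : r ≠ p) (hrG : r ∣ Nat.card (Matrix.ProjectiveSpecialLinearGroup (Fin n) F))
    (k : ℕ) (hk : k = orderOf ((Fintype.card F : ℕ) : ZMod r)) :
    (r * p ∉ Set.range (orderOf : Matrix.ProjectiveSpecialLinearGroup (Fin n) F → ℕ)) ↔
      (n - 2 < k ∨ (n = 3 ∧ r = 3 ∧ 3 ∣ Fintype.card F - 1 ∧ ¬ 9 ∣ Fintype.card F - 1)) := by
  classical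
  have hpp : p.Prime := Fact.out
  have : Fact r.Prime := ⟨hr⟩
  have hq1 : 1 ≤ Fintype.card F := Fintype.card_pos
  have hk1 : orderOf ((Fintype.card F : ℕ) : ZMod r) = k := hk.symm
  have hrF : (r : F) ≠ 0 := by
    intro h0
    have h1 := (CharP.cast_eq_zero_iff F p r).mp h0
    exact hrp ((Nat.prime_dvd_prime_iff_eq hpp hr).mp h1).symm
  have hrq : ¬ r ∣ Fintype.card F := by
    intro h
    obtain ⟨e, he⟩ := FiniteField.card F p
    rw [he.2] at h
    exact hrp ((Nat.prime_dvd_prime_iff_eq hr hpp).mp (hr.dvd_of_dvd_pow h))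
  have hk0 : 1 ≤ k := by
    rw [← hk1]
    exact order_pos hrq
  have hrk : r ∣ Fintype.card F ^ k - 1 := (dvd_pow_sub_one_iff hq1 k).mpr (hk1 ▸ dvd_rfl)
  constructor
  · -- existence of an element of order `r * p`
    intro hno
    by_contra hcon
    push Not at hcon
    obtain ⟨hkn, hexc⟩ := hcon
    apply hno
    have hn3 : 3 ≤ n := by omega
    by_cases hA : 2 ≤ k ∨ 4 ≤ n
    · -- block construction
      have hc2 : 2 ≤ max k 2 := le_max_right _ _
      have hcn : max k 2 + 2 ≤ n := by
        rcases hA with h | h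
        · rw [max_eq_left h]
          omega
        · rcases le_total k 2 with h2 | h2
          · rw [max_eq_right h2]
            omega
          · rw [max_eq_left h2]
            omega
      obtain ⟨c', hc'⟩ : ∃ c', max k 2 = c' + 1 := ⟨max k 2 - 1, by omega⟩
      obtain ⟨d', hd'⟩ : ∃ d', n - max k 2 = d' + 1 := ⟨n - max k 2 - 1, by omega⟩
      have hrC : r ∣ Nat.card (Matrix.SpecialLinearGroup (Fin (c' + 1)) F) := by
        by_cases h2k : 2 ≤ k
        · refine hrk.trans (pow_sub_one_dvd_card_SL c' k h2k ?_)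
          rw [← hc']
          exact le_max_left _ _
        · have hk_eq : k = 1 := by omega
          have h1 : r ∣ Fintype.card F - 1 := by
            rw [hk_eq, pow_one] at hrk
            exact hrk
          exact (h1.trans (Nat.sub_one_dvd_pow_sub_one (Fintype.card F) 2)).trans
            (pow_sub_one_dvd_card_SL c' 2 le_rfl (by omega))
      obtain ⟨C, hC⟩ := exists_prime_orderOf_dvd_card' r hrC
      have hpD : p ∣ Nat.card (Matrix.SpecialLinearGroup (Fin (d' + 1)) F) :=
        char_dvd_card_SL p d' (by omega)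
      obtain ⟨D, hD⟩ := exists_prime_orderOf_dvd_card' p hpD
      have hsum : (c' + 1) + (d' + 1) = n := by omega
      obtain ⟨x, hx⟩ := exists_orderOf_PSL_block p r hr hrp hsum (by omega) C D hC hD
      exact ⟨x, hx⟩
    · -- `k = 1`, `n = 3`
      have hk_eq : k = 1 := by omega
      have hn_eq : n = 3 := by omega
      subst hn_eq
      have hr1 : r ∣ Fintype.card F - 1 := by
        rw [hk_eq, pow_one] at hrk
        exact hrk
      -- an element of given order in `Fˣ`
      have hexists : ∀ m : ℕ, m ∣ Fintype.card F - 1 → ∃ ζ : F, ζ ≠ 0 ∧ orderOf ζ = m := by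
        intro m hm
        obtain ⟨g, hg⟩ := IsCyclic.exists_generator (α := Fˣ)
        have hog : orderOf g = Fintype.card F - 1 := by
          rw [orderOf_eq_card_of_forall_mem_zpowers hg, Nat.card_units,
            Nat.card_eq_fintype_card]
        refine ⟨((g ^ (orderOf g / m) : Fˣ) : F), Units.ne_zero _, ?_⟩
        rw [orderOf_units]
        exact orderOf_pow_orderOf_div (orderOf_pos g).ne' (hog ▸ hm)
      by_cases hr3 : r = 3
      · have h9 : 9 ∣ Fintype.card F - 1 := hexc rfl hr3 (hr3 ▸ hr1)
        obtain ⟨ζ, hζ0, hζ⟩ := hexists 9 h9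
        obtain ⟨x, hx⟩ := exists_orderOf_PSL_three p r hr hrp ζ hζ0 (by
          intro i
          rw [hζ, hr3]
          omega)
        exact ⟨x, hx⟩
      · obtain ⟨ζ, hζ0, hζ⟩ := hexists r hr1
        obtain ⟨x, hx⟩ := exists_orderOf_PSL_three p r hr hrp ζ hζ0 (by
          intro i
          rw [hζ]
          have hcop : r.Coprime 3 := (Nat.coprime_primes hr Nat.prime_three).mpr hr3
          constructor
          · intro h
            exact hcop.dvd_of_dvd_mul_left h
          · intro h
            exact h.mul_left 3)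
        exact ⟨x, hx⟩
  · -- non-existence
    rintro hcases ⟨x, hx⟩
    obtain ⟨MB, N, c, hdet, hB, hc0, hBns, hNp, hN0, hBN⟩ :=
      exists_lift_data p r hr (by omega) x hx
    rcases hcases with hlt | ⟨hn3, hr3, h3, h9⟩
    · have := order_add_two_le p r hrF hn MB N c hB hc0 hBns hNp hN0 hBN
      rw [hk1] at this
      omega
    · subst hn3
      subst hr3
      have hF3 : (3 : F) ≠ 0 := by exact_mod_cast hrF
      exact false_of_three p hF3 h9 MB N c hdet hB hc0 hBns hNp hN0 hBN

end Cfsg.Agent.S2470
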