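import Cfsg.Statements.S2471
import Mathlib
import Cfsg.Agent.Lib.Helper41.SL2Basic
import Cfsg.Agent.Lib.Helper41.SL2Frob

set_option autoImplicit false
open Cfsg

namespace Cfsg.Agent.S2471

open Cfsg.Agent.Lib.Helper41

/-- In PSL(2,q) with q odd, the characteristic p is isolated from 2 in the prime graph: for F a finite field of odd characteristic p with at least 5 elements, PSL(2,F) has no element of order 2p. -/
theorem result {F : Type*} [Field F] [Fintype F] (p : ℕ) [Fact p.Prime] [CharP F p] (hp : p ≠ 2) (h5 : 5 ≤ Fintype.card F) (g : Matrix.ProjectiveSpecialLinearGroup (Fin 2) F) :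
    orderOf g ≠ 2 * p := by
  intro hord
  have hpp : p.Prime := Fact.out
  obtain ⟨A, rfl⟩ := QuotientGroup.mk_surjective g
  have h1 : (QuotientGroup.mk A : Matrix.ProjectiveSpecialLinearGroup (Fin 2) F) ^ (2 * p) = 1 := by
    rw [← hord]; exact pow_orderOf_eq_one _
  rw [mk_pow_eq_one_iff] at h1
  rcases h1 with h1 | h1
  · obtain ⟨c, hc⟩ := pow_p_scalar_of_pow_two_p_eq_one p hp A h1
    have hmem : A ^ p ∈ Subgroup.center (Matrix.SpecialLinearGroup (Fin 2) F) :=
      mem_center_of_scalar (A ^ p) c (by rw [Matrix.SpecialLinearGroup.coe_pow, hc])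
    have h2 : (QuotientGroup.mk A : Matrix.ProjectiveSpecialLinearGroup (Fin 2) F) ^ p = 1 := by
      rw [← QuotientGroup.mk_pow, QuotientGroup.eq_one_iff]; exact hmem
    have h3 := orderOf_dvd_of_pow_eq_one h2
    rw [hord] at h3
    have := Nat.le_of_dvd hpp.pos h3
    have := hpp.two_le
    omega
  · have h2 := sq_eq_neg_one_of_pow_two_p_eq_neg_one p A h1
    have h3 : (QuotientGroup.mk A : Matrix.ProjectiveSpecialLinearGroup (Fin 2) F) ^ 2 = 1 := by
      rw [mk_pow_eq_one_iff]; right; rw [pow_two, h2]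
    have h4 := orderOf_dvd_of_pow_eq_one h3
    rw [hord] at h4
    have := Nat.le_of_dvd (by norm_num) h4
    have := hpp.two_le
    omega

end Cfsg.Agent.S2471
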