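import Cfsg.Statements.S2472
-- import your own Cfsg.Agent.* helpers here
import Mathlib
import Cfsg.Agent.Lib.Helper40.SpNonex
import Cfsg.Agent.Lib.Helper40.SpLift
import Cfsg.Agent.Lib.Helper40.SpExist

set_option autoImplicit false
open Cfsg

namespace Cfsg.Agent.S2472

open Cfsg.Agent.Lib.Helper40

/-- Adjacency of a prime and the characteristic in the prime graph of PSp(2n,q): let F be a finite field of characteristic p with q elements, n ≥ 2 with PSp(2n,F) simple, and let r ≠ p be an odd prime dividing the order of PSp(2n,F), with k the multiplicative order of q modulo r and η(k) = k for odd k, k/2 for even k. Then PSp(2n,F) has NO element of order r·p if and only if η(k) > n − 1. -/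
theorem result {F : Type*} [Field F] [Fintype F] (p : ℕ) [Fact p.Prime] [CharP F p] (n : ℕ) (hn : 2 ≤ n) (hsmall : n = 2 → 3 ≤ Fintype.card F)
    (r : ℕ) (hr : r.Prime) (hr2 : r ≠ 2) (hrp : r ≠ p) (hrG : r ∣ Nat.card (Cfsg.PSp n F))
    (k ηk : ℕ) (hk : k = orderOf ((Fintype.card F : ℕ) : ZMod r)) (hηk : (Odd k ∧ ηk = k) ∨ (Even k ∧ 2 * ηk = k)) :
    (r * p ∉ Set.range (orderOf : Cfsg.PSp n F → ℕ)) ↔ n - 1 < ηk := by
  classical
  have hpp : p.Prime := Fact.out
  have : Fact r.Prime := ⟨hr⟩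
  have hk1 : orderOf ((Fintype.card F : ℕ) : ZMod r) = k := hk.symm
  have hrq : ¬ r ∣ Fintype.card F := by
    intro h
    obtain ⟨e, he⟩ := FiniteField.card F p
    rw [he.2] at h
    exact hrp ((Nat.prime_dvd_prime_iff_eq hr hpp).mp (hr.dvd_of_dvd_pow h))
  have hk0 : 1 ≤ k := by
    rw [← hk1]
    exact order_pos hrq
  have hrodd : Odd r := hr.odd_of_ne_two hr2
  have hcopr : r.Coprime p := (Nat.coprime_primes hr hpp).mpr hrp
  rw [mem_range_orderOf_PSp_iff n (by omega) (r * p) (coprime_gcd_two_of_char p r hrodd)]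
  constructor
  · -- existence of an element of order `r * p`
    intro hno
    by_contra hcon
    push Not at hcon
    apply hno
    have hη1 : 1 ≤ ηk := by
      rcases hηk with ⟨_, h⟩ | ⟨_, h⟩ <;> omega
    have hrC : r ∣ Nat.card (Matrix.symplecticGroup (Fin (n - 1)) F) :=
      prime_dvd_card_Sp r (n - 1) k ηk hk1 hηk hη1 hcon
    obtain ⟨g₁, hg₁⟩ := exists_prime_orderOf_dvd_card' r hrC
    have hpC : p ∣ Nat.card (Matrix.symplecticGroup (Fin 1) F) := char_dvd_card_Sp p 1 le_rfl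
    obtain ⟨g₂, hg₂⟩ := exists_prime_orderOf_dvd_card' p hpC
    obtain ⟨g, hg⟩ := exists_orderOf_Sp_block (F := F) (show (n - 1) + 1 = n by omega) g₁ g₂
      (by rw [hg₁, hg₂]; exact hcopr)
    exact ⟨g, by rw [hg, hg₁, hg₂]⟩
  · -- non-existence
    rintro hlt ⟨g, hg⟩
    have hSr : ((g ^ p : Matrix.symplecticGroup (Fin n) F) :
        Matrix (Fin n ⊕ Fin n) (Fin n ⊕ Fin n) F) ^ r = 1 := by
      have h1 : (g ^ p) ^ r = 1 := by
        rw [← pow_mul, mul_comm, ← hg]
        exact pow_orderOf_eq_one g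
      exact congrArg Subtype.val h1
    have hS1 : ((g ^ p : Matrix.symplecticGroup (Fin n) F) :
        Matrix (Fin n ⊕ Fin n) (Fin n ⊕ Fin n) F) ≠ 1 := by
      intro h
      have h1 : g ^ p = 1 := Subtype.ext h
      have h2 := orderOf_dvd_of_pow_eq_one h1
      rw [hg] at h2
      have h3 := Nat.le_of_dvd hpp.pos h2
      have := hr.two_le
      nlinarith [hpp.pos]
    have hUp : ((g ^ r : Matrix.symplecticGroup (Fin n) F) :
        Matrix (Fin n ⊕ Fin n) (Fin n ⊕ Fin n) F) ^ p = 1 := by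
      have h1 : (g ^ r) ^ p = 1 := by
        rw [← pow_mul, ← hg]
        exact pow_orderOf_eq_one g
      exact congrArg Subtype.val h1
    have hU1 : ((g ^ r : Matrix.symplecticGroup (Fin n) F) :
        Matrix (Fin n ⊕ Fin n) (Fin n ⊕ Fin n) F) ≠ 1 := by
      intro h
      have h1 : g ^ r = 1 := Subtype.ext h
      have h2 := orderOf_dvd_of_pow_eq_one h1
      rw [hg] at h2
      have h3 := Nat.le_of_dvd hr.pos h2
      have := hpp.two_le
      nlinarith [hr.pos]
    have hSU : ((g ^ p : Matrix.symplecticGroup (Fin n) F) :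
        Matrix (Fin n ⊕ Fin n) (Fin n ⊕ Fin n) F) * ((g ^ r : Matrix.symplecticGroup (Fin n) F) :
        Matrix (Fin n ⊕ Fin n) (Fin n ⊕ Fin n) F) = ((g ^ r : Matrix.symplecticGroup (Fin n) F) :
        Matrix (Fin n ⊕ Fin n) (Fin n ⊕ Fin n) F) * ((g ^ p : Matrix.symplecticGroup (Fin n) F) :
        Matrix (Fin n ⊕ Fin n) (Fin n ⊕ Fin n) F) := by
      have h1 : g ^ p * g ^ r = g ^ r * g ^ p := by rw [← pow_add, ← pow_add, add_comm]
      exact congrArg Subtype.val h1
    have := eta_succ_le_of_commuting p r hr hr2 hrp (by omega) _ _ (g ^ p).2 hSr hS1 hUp hU1 hSU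
      k ηk hk1 hηk
    omega

end Cfsg.Agent.S2472
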