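import Cfsg.Statements.S2474
-- import your own Cfsg.Agent.* helpers here
import Mathlib
import Cfsg.Agent.Lib.Helper40.OrthGraphD
import Cfsg.Agent.Lib.Helper40.PSpGraphAB
import Cfsg.Agent.Lib.Helper40.PSpGraphCD

set_option autoImplicit false
open Cfsg

namespace Cfsg.Agent.S2474

/-- For q odd and n ≥ 3 the simple groups PΩ(2n+1,q) and PSp(2n,q) (which have the same order but different sets of element orders) have the same prime graph: for all distinct primes r, s, one of them has an element of order r·s if and only if the other does. -/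
theorem result {F : Type*} [Field F] [Fintype F] (hodd : Odd (Fintype.card F)) (n : ℕ) (hn : 3 ≤ n) (r s : ℕ) (hr : r.Prime) (hs : s.Prime) (hrs : r ≠ s) :
    (r * s ∈ Set.range (orderOf : Cfsg.POmega F (Cfsg.quadFormOdd n F) → ℕ)) ↔ (r * s ∈ Set.range (orderOf : Cfsg.PSp n F → ℕ)) := by
  classical
  obtain ⟨p, hchar⟩ := CharP.exists F
  have hpp : p.Prime := CharP.char_is_prime F p
  have : Fact p.Prime := ⟨hpp⟩
  obtain ⟨a, -, hqa⟩ := FiniteField.card F p
  have hp2 : p ≠ 2 := by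
    rintro rfl
    rw [hqa] at hodd
    have : Even (2 ^ (a : ℕ)) := (Nat.even_pow' a.ne_zero).mpr even_two
    exact (Nat.not_odd_iff_even.mpr this) hodd
  have hn2 : 2 ≤ n := by omega
  have hη : ∀ k : ℕ, ∃ ηk : ℕ, (Odd k ∧ ηk = k) ∨ (Even k ∧ 2 * ηk = k) := by
    intro k
    rcases Nat.even_or_odd k with h | h
    · obtain ⟨j, hj⟩ := h
      exact ⟨j, Or.inr ⟨⟨j, hj⟩, by omega⟩⟩
    · exact ⟨k, Or.inl ⟨h, rfl⟩⟩
  -- the four kinds of pairs
  have hD : (2 * p ∈ Set.range (orderOf : Cfsg.POmega F (Cfsg.quadFormOdd n F) → ℕ)) ↔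
      (2 * p ∈ Set.range (orderOf : Cfsg.PSp n F → ℕ)) :=
    ⟨fun _ => Cfsg.Agent.Lib.Helper40.psp_graph_D p hp2 n hn2,
      fun _ => Cfsg.Agent.Lib.Helper40.omega_graph_D p hp2 n hn2⟩
  have hC : ∀ t : ℕ, t.Prime → t ≠ 2 → t ≠ p →
      ((2 * t ∈ Set.range (orderOf : Cfsg.POmega F (Cfsg.quadFormOdd n F) → ℕ)) ↔
        (2 * t ∈ Set.range (orderOf : Cfsg.PSp n F → ℕ))) := by
    intro t ht ht2 htp
    obtain ⟨ηk, hηk⟩ := hη (orderOf ((Fintype.card F : ℕ) : ZMod t))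
    rw [Cfsg.Agent.Lib.Helper40.omega_graph_C p hp2 n hn2 t ht ht2 htp _ ηk rfl hηk,
      Cfsg.Agent.Lib.Helper40.psp_graph_C p hp2 n hn2 t ht ht2 htp _ ηk rfl hηk]
  have hB : ∀ t : ℕ, t.Prime → t ≠ 2 → t ≠ p →
      ((t * p ∈ Set.range (orderOf : Cfsg.POmega F (Cfsg.quadFormOdd n F) → ℕ)) ↔
        (t * p ∈ Set.range (orderOf : Cfsg.PSp n F → ℕ))) := by
    intro t ht ht2 htp
    obtain ⟨ηk, hηk⟩ := hη (orderOf ((Fintype.card F : ℕ) : ZMod t))
    rw [Cfsg.Agent.Lib.Helper40.omega_graph_B p hp2 n hn2 t ht ht2 htp _ ηk rfl hηk,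
      Cfsg.Agent.Lib.Helper40.psp_graph_B p n hn2 t ht ht2 htp _ ηk rfl hηk]
  have hA : ∀ t u : ℕ, t.Prime → u.Prime → t ≠ 2 → u ≠ 2 → t ≠ p → u ≠ p → t ≠ u →
      ((t * u ∈ Set.range (orderOf : Cfsg.POmega F (Cfsg.quadFormOdd n F) → ℕ)) ↔
        (t * u ∈ Set.range (orderOf : Cfsg.PSp n F → ℕ))) := by
    have hA' : ∀ t u : ℕ, t.Prime → u.Prime → t ≠ 2 → u ≠ 2 → t ≠ p → u ≠ p → t ≠ u →
        ∀ ηk ηl : ℕ,
        ((Odd (orderOf ((Fintype.card F : ℕ) : ZMod t)) ∧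
            ηk = orderOf ((Fintype.card F : ℕ) : ZMod t)) ∨
          (Even (orderOf ((Fintype.card F : ℕ) : ZMod t)) ∧
            2 * ηk = orderOf ((Fintype.card F : ℕ) : ZMod t))) →
        ((Odd (orderOf ((Fintype.card F : ℕ) : ZMod u)) ∧
            ηl = orderOf ((Fintype.card F : ℕ) : ZMod u)) ∨
          (Even (orderOf ((Fintype.card F : ℕ) : ZMod u)) ∧
            2 * ηl = orderOf ((Fintype.card F : ℕ) : ZMod u))) → ηk ≤ ηl →
        ((t * u ∈ Set.range (orderOf : Cfsg.POmega F (Cfsg.quadFormOdd n F) → ℕ)) ↔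
          (t * u ∈ Set.range (orderOf : Cfsg.PSp n F → ℕ))) := by
      intro t u ht hu ht2 hu2 htp hup htu ηk ηl hηk hηl hkl
      rw [Cfsg.Agent.Lib.Helper40.omega_graph_A p hp2 n hn2 t u ht hu ht2 hu2 htp hup htu _ _ ηk ηl
          rfl rfl hηk hηl hkl,
        Cfsg.Agent.Lib.Helper40.psp_graph_A p n hn2 t u ht hu ht2 hu2 htp hup htu _ _ ηk ηl
          rfl rfl hηk hηl hkl]
    intro t u ht hu ht2 hu2 htp hup htu
    obtain ⟨ηk, hηk⟩ := hη (orderOf ((Fintype.card F : ℕ) : ZMod t))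
    obtain ⟨ηl, hηl⟩ := hη (orderOf ((Fintype.card F : ℕ) : ZMod u))
    rcases le_total ηk ηl with hkl | hkl
    · exact hA' t u ht hu ht2 hu2 htp hup htu ηk ηl hηk hηl hkl
    · rw [mul_comm t u]
      exact hA' u t hu ht hu2 ht2 hup htp (Ne.symm htu) ηl ηk hηl hηk hkl
  -- case distinction
  by_cases hr2 : r = 2
  · subst hr2
    by_cases hsp : s = p
    · subst hsp
      exact hD
    · exact hC s hs (Ne.symm hrs) hsp
  · by_cases hs2 : s = 2
    · subst hs2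
      rw [mul_comm r 2]
      by_cases hrp : r = p
      · subst hrp
        exact hD
      · exact hC r hr hr2 hrp
    · by_cases hrp : r = p
      · subst hrp
        rw [mul_comm r s]
        exact hB s hs hs2 (Ne.symm hrs)
      · by_cases hsp : s = p
        · subst hsp
          exact hB r hr hr2 hrp
        · exact hA r s hr hs hr2 hs2 hrp hsp hrs

end Cfsg.Agent.S2474
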