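import Cfsg.Statements.S2475
import Mathlib
import Cfsg.Agent.Lib.Helper41.SL2Basic
import Cfsg.Agent.Lib.Helper41.SL2Conj
import Cfsg.Agent.Lib.Helper41.SL2Trace
import Cfsg.Agent.Lib.Helper41.SL2Nonsplit
import Cfsg.Agent.Lib.Helper41.SL2Order

set_option autoImplicit false
open Cfsg

namespace Cfsg.Agent.S2475

open Cfsg.Agent.Lib.Helper41

variable {F : Type*} [Field F]

/-- odd characteristic: `Y^(2k) = 1` in `SL₂` implies `(mk Y)^k = 1` in `PSL₂` -/
theorem mk_pow_eq_one_of_pow_two_mul (h2 : (2 : F) ≠ 0) (Y : Matrix.SpecialLinearGroup (Fin 2) F)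
    (k : ℕ) (hY : (Y : Matrix (Fin 2) (Fin 2) F) ^ (2 * k) = 1) :
    (QuotientGroup.mk Y : Matrix.ProjectiveSpecialLinearGroup (Fin 2) F) ^ k = 1 := by
  rw [mk_pow_eq_one_iff]
  have h' := eq_one_or_neg_one_of_mul_self h2 (Y ^ k) (by
    rw [Matrix.SpecialLinearGroup.coe_pow, ← pow_two, ← pow_mul, mul_comm, hY])
  rwa [Matrix.SpecialLinearGroup.coe_pow] at h'

/-- conjugate elements of `SL₂` have images of the same order in `PSL₂` -/
theorem orderOf_mk_eq_of_isConj (A B : Matrix.SpecialLinearGroup (Fin 2) F) (h : IsConj A B) :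
    orderOf (QuotientGroup.mk A : Matrix.ProjectiveSpecialLinearGroup (Fin 2) F)
      = orderOf (QuotientGroup.mk B : Matrix.ProjectiveSpecialLinearGroup (Fin 2) F) := by
  rw [isConj_iff] at h
  obtain ⟨W, rfl⟩ := h
  have : (QuotientGroup.mk (W * A * W⁻¹) : Matrix.ProjectiveSpecialLinearGroup (Fin 2) F)
      = MulAut.conj (QuotientGroup.mk W : Matrix.ProjectiveSpecialLinearGroup (Fin 2) F)
          (QuotientGroup.mk A) := by
    simp [MulAut.conj_apply]
  rw [this]
  exact (orderOf_injective (MulAut.conj (QuotientGroup.mk W :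
    Matrix.ProjectiveSpecialLinearGroup (Fin 2) F)).toMonoidHom (MulEquiv.injective _) _).symm

variable [Fintype F]

/-- every element order divides `p`, `(q-1)/d` or `(q+1)/d`, characteristic 2 -/
theorem order_dvd_char_two (h2 : (2 : F) = 0) (G : Matrix.SpecialLinearGroup (Fin 2) F) :
    orderOf (QuotientGroup.mk G : Matrix.ProjectiveSpecialLinearGroup (Fin 2) F) ∣ 2 ∨
    orderOf (QuotientGroup.mk G : Matrix.ProjectiveSpecialLinearGroup (Fin 2) F) ∣ Fintype.card F - 1 ∨
    orderOf (QuotientGroup.mk G : Matrix.ProjectiveSpecialLinearGroup (Fin 2) F) ∣ Fintype.card F + 1 := by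
  classical
  have : CharP F 2 := by
    have hpr := CharP.char_is_prime_or_zero F (ringChar F)
    have h2' : ((2 : ℕ) : F) = 0 := by exact_mod_cast h2
    have hdvd := (CharP.cast_eq_zero_iff F (ringChar F) 2).mp h2'
    rcases hpr with hpr | hpr
    · have := (Nat.prime_dvd_prime_iff_eq hpr Nat.prime_two).mp hdvd
      rw [← this]; infer_instance
    · rw [hpr] at hdvd; simp at hdvd
  have : Fact (Nat.Prime 2) := ⟨Nat.prime_two⟩
  by_cases ht : (tr2 G) ^ 2 = 4
  · left
    apply orderOf_dvd_of_pow_eq_one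
    rw [mk_pow_eq_one_iff]
    exact pow_char_of_tr2_sq_eq_four 2 G ht
  · right
    by_cases hroot : ∃ r : F, r ^ 2 = -1 + tr2 G * r
    · left
      obtain ⟨r, hr⟩ := hroot
      obtain ⟨u, hu⟩ := isConj_diagHom_of_root G ht r hr
      rw [← orderOf_mk_eq_of_isConj _ _ hu, orderOf_mk_char_two h2,
        orderOf_injective diagHom diagHom_injective]
      have := orderOf_dvd_card (x := u)
      rwa [Fintype.card_units] at this
    · right
      push Not at hroot
      apply orderOf_dvd_of_pow_eq_one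
      rw [mk_pow_eq_one_iff]
      left
      exact pow_card_add_one_eq_one G hroot

/-- every element order divides `p`, `(q-1)/2` or `(q+1)/2`, odd characteristic -/
theorem order_dvd_odd (p : ℕ) [Fact p.Prime] [CharP F p] (h2 : (2 : F) ≠ 0)
    (k l : ℕ) (hk : Fintype.card F - 1 = 2 * k) (hl : Fintype.card F + 1 = 2 * l)
    (G : Matrix.SpecialLinearGroup (Fin 2) F) :
    orderOf (QuotientGroup.mk G : Matrix.ProjectiveSpecialLinearGroup (Fin 2) F) ∣ p ∨
    orderOf (QuotientGroup.mk G : Matrix.ProjectiveSpecialLinearGroup (Fin 2) F) ∣ k ∨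
    orderOf (QuotientGroup.mk G : Matrix.ProjectiveSpecialLinearGroup (Fin 2) F) ∣ l := by
  classical
  by_cases ht : (tr2 G) ^ 2 = 4
  · left
    apply orderOf_dvd_of_pow_eq_one
    rw [mk_pow_eq_one_iff]
    exact pow_char_of_tr2_sq_eq_four p G ht
  · right
    by_cases hroot : ∃ r : F, r ^ 2 = -1 + tr2 G * r
    · left
      obtain ⟨r, hr⟩ := hroot
      obtain ⟨u, hu⟩ := isConj_diagHom_of_root G ht r hr
      rw [← orderOf_mk_eq_of_isConj _ _ hu]
      apply orderOf_dvd_of_pow_eq_one
      apply mk_pow_eq_one_of_pow_two_mul h2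
      rw [coe_pow_eq_one_iff, ← map_pow, ← hk, ← Fintype.card_units, pow_card_eq_one, map_one]
    · right
      push Not at hroot
      apply orderOf_dvd_of_pow_eq_one
      apply mk_pow_eq_one_of_pow_two_mul h2
      rw [← hl]
      exact pow_card_add_one_eq_one G hroot

omit [Fintype F] in
/-- an element of order `p` -/
theorem exists_order_p (p : ℕ) [Fact p.Prime] [CharP F p] :
    ∃ g : Matrix.ProjectiveSpecialLinearGroup (Fin 2) F, orderOf g = p := by
  refine ⟨QuotientGroup.mk (upperU 1), ?_⟩
  apply orderOf_eq_prime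
  · rw [mk_pow_eq_one_iff]
    apply pow_char_of_tr2_sq_eq_four p
    simp [tr2, coe_upperU]; norm_num
  · intro h
    rw [mk_eq_one_iff, coe_upperU] at h
    rcases h with h | h
    · have := congrFun (congrFun h 0) 1
      simp at this
    · have := congrFun (congrFun h 0) 1
      simp at this

/-- divisors of the order of an element are orders of elements -/
theorem mem_range_of_dvd {G : Type*} [Group G] [Finite G] (g : G) (m : ℕ) (hm : m ∣ orderOf g) :
    m ∈ Set.range (orderOf : G → ℕ) :=
  ⟨g ^ (orderOf g / m), orderOf_pow_orderOf_div (orderOf_pos g).ne' hm⟩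

/-- The set of element orders of PSL(2,q): let F be a finite field of characteristic p with q ≥ 4 elements and d = gcd(2, q − 1). The orders of elements of PSL(2,F) are exactly the divisors of p, of (q − 1)/d and of (q + 1)/d. -/
theorem result {F : Type*} [Field F] [Fintype F] (p : ℕ) [Fact p.Prime] [CharP F p] (h4 : 4 ≤ Fintype.card F) :
    Set.range (orderOf : Matrix.ProjectiveSpecialLinearGroup (Fin 2) F → ℕ) =
      {m : ℕ | m ∣ p ∨ m ∣ (Fintype.card F - 1) / Nat.gcd 2 (Fintype.card F - 1) ∨ m ∣ (Fintype.card F + 1) / Nat.gcd 2 (Fintype.card F - 1)} := by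
  classical
  have hpp : p.Prime := Fact.out
  -- generators
  obtain ⟨ζ, hζ⟩ := IsCyclic.exists_generator (α := Fˣ)
  have hordζ : orderOf (diagHom ζ) = Fintype.card F - 1 := by
    rw [orderOf_injective diagHom diagHom_injective, orderOf_eq_card_of_forall_mem_zpowers hζ,
      Nat.card_eq_fintype_card, Fintype.card_units]
  obtain ⟨Y, hY⟩ := exists_orderOf_eq_card_add_one (F := F)
  obtain ⟨gp, hgp⟩ := exists_order_p (F := F) p
  by_cases hp2 : p = 2
  · -- characteristic 2
    subst hp2
    have h2 : (2 : F) = 0 := by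
      have := CharP.cast_eq_zero F 2
      exact_mod_cast this
    have hev : Fintype.card F % 2 = 0 := FiniteField.even_card_of_char_two (ringChar.eq F 2)
    have hgcd : Nat.gcd 2 (Fintype.card F - 1) = 1 := by
      have hodd : (Fintype.card F - 1) % 2 = 1 := by omega
      exact (Nat.prime_two.coprime_iff_not_dvd).mpr (by omega)
    rw [hgcd, Nat.div_one, Nat.div_one]
    apply Set.eq_of_subset_of_subset
    · rintro _ ⟨g, rfl⟩
      obtain ⟨G, rfl⟩ := QuotientGroup.mk_surjective g
      exact order_dvd_char_two h2 G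
    · rintro m (hm | hm | hm)
      · exact mem_range_of_dvd gp m (by rw [hgp]; exact hm)
      · exact mem_range_of_dvd (QuotientGroup.mk (diagHom ζ)) m
          (by rw [orderOf_mk_char_two h2, hordζ]; exact hm)
      · exact mem_range_of_dvd (QuotientGroup.mk Y) m
          (by rw [orderOf_mk_char_two h2, hY]; exact hm)
  · -- odd characteristic
    have hchar : ringChar F ≠ 2 := by rw [ringChar.eq F p]; exact hp2
    have h2 : (2 : F) ≠ 0 := Ring.two_ne_zero hchar
    have hodd : Fintype.card F % 2 = 1 := FiniteField.odd_card_of_char_ne_two hchar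
    obtain ⟨k, hk⟩ : ∃ k, Fintype.card F - 1 = 2 * k := ⟨(Fintype.card F - 1) / 2, by omega⟩
    obtain ⟨l, hl⟩ : ∃ l, Fintype.card F + 1 = 2 * l := ⟨(Fintype.card F + 1) / 2, by omega⟩
    have hgcd : Nat.gcd 2 (Fintype.card F - 1) = 2 := by
      rw [hk]; exact Nat.gcd_mul_right_right k 2
    rw [hgcd, hk, hl, Nat.mul_div_cancel_left k (by norm_num), Nat.mul_div_cancel_left l (by norm_num)]
    apply Set.eq_of_subset_of_subset
    · rintro _ ⟨g, rfl⟩
      obtain ⟨G, rfl⟩ := QuotientGroup.mk_surjective g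
      exact order_dvd_odd p h2 k l hk hl G
    · rintro m (hm | hm | hm)
      · exact mem_range_of_dvd gp m (by rw [hgp]; exact hm)
      · exact mem_range_of_dvd (QuotientGroup.mk (diagHom ζ)) m
          (by rw [orderOf_mk_odd h2 _ k (by rw [hordζ, hk])]; exact hm)
      · exact mem_range_of_dvd (QuotientGroup.mk Y) m
          (by rw [orderOf_mk_odd h2 _ l (by rw [hY, hl])]; exact hm)

end Cfsg.Agent.S2475
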