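import Cfsg.Statements.S2477
import Mathlib

set_option autoImplicit false
open Cfsg

namespace Cfsg.Agent.S2477

/-- existence: a multiset with parts ≥ 2, sum ≤ 10 and even `sum + card` is the cycle type of an
even permutation -/
theorem exists_of_cycleType (m : Multiset ℕ) (h1 : m.sum ≤ 10) (h2 : ∀ a ∈ m, 2 ≤ a)
    (h3 : Even (m.sum + m.card)) :
    m.lcm ∈ Set.range (orderOf : alternatingGroup (Fin 10) → ℕ) := by
  obtain ⟨g, hg⟩ := (Equiv.Perm.exists_with_cycleType_iff (Fin 10)).mpr ⟨by simpa using h1, h2⟩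
  have hsign : Equiv.Perm.sign g = 1 := by
    rw [Equiv.Perm.sign_of_cycleType, hg]; exact Even.neg_one_pow h3
  refine ⟨⟨g, Equiv.Perm.mem_alternatingGroup.mpr hsign⟩, ?_⟩
  rw [← hg, Equiv.Perm.lcm_cycleType]
  exact Subgroup.orderOf_mk _ _

theorem exists_of_cycleType' (m : Multiset ℕ) (k : ℕ) (hk : m.lcm = k) (h1 : m.sum ≤ 10)
    (h2 : ∀ a ∈ m, 2 ≤ a) (h3 : Even (m.sum + m.card)) :
    k ∈ Set.range (orderOf : alternatingGroup (Fin 10) → ℕ) :=
  hk ▸ exists_of_cycleType m h1 h2 h3

/-- the list of element orders -/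
def SS : List ℕ := [1, 2, 3, 4, 5, 6, 7, 8, 9, 10, 12, 15, 21]

theorem key1 : ∀ a < 11, (2 ≤ a ∧ a ≤ 10 ∧ (a + 1) % 2 = 0) → a ∈ SS := by
  decide

theorem key2 : ∀ a < 11, ∀ b < 11, (2 ≤ a ∧ 2 ≤ b ∧ a + b ≤ 10 ∧ (a + b + 2) % 2 = 0) →
    Nat.lcm a b ∈ SS := by
  decide

set_option synthInstance.maxSize 2000 in
theorem key3 : ∀ a < 7, ∀ b < 7, ∀ c < 7,
    (2 ≤ a ∧ 2 ≤ b ∧ 2 ≤ c ∧ a + b + c ≤ 10 ∧ (a + b + c + 3) % 2 = 0) →
    Nat.lcm a (Nat.lcm b c) ∈ SS := by
  decide

set_option synthInstance.maxSize 2000 in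
theorem key4 : ∀ a < 5, ∀ b < 5, ∀ c < 5, ∀ d < 5,
    (2 ≤ a ∧ 2 ≤ b ∧ 2 ≤ c ∧ 2 ≤ d ∧ a + b + c + d ≤ 10 ∧ (a + b + c + d + 4) % 2 = 0) →
    Nat.lcm a (Nat.lcm b (Nat.lcm c d)) ∈ SS := by
  decide

theorem key (m : Multiset ℕ) (h1 : m.sum ≤ 10) (h2 : ∀ a ∈ m, 2 ≤ a)
    (h3 : Even (m.sum + m.card)) : m.lcm ∈ SS := by
  have hcard : m.card * 2 ≤ m.sum := by
    have := Multiset.card_nsmul_le_sum (s := m) (a := 2) h2
    simpa using this
  have hc5 : m.card ≤ 5 := by omega
  rw [Nat.even_iff] at h3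
  have hcases : m.card = 0 ∨ m.card = 1 ∨ m.card = 2 ∨ m.card = 3 ∨ m.card = 4 ∨ m.card = 5 := by
    omega
  rcases hcases with h | h | h | h | h | h
  · rw [Multiset.card_eq_zero] at h
    subst h
    simp [SS]
  · rw [Multiset.card_eq_one] at h
    obtain ⟨a, rfl⟩ := h
    simp only [Multiset.sum_singleton, Multiset.card_singleton, Multiset.mem_singleton,
      forall_eq] at h1 h2 h3
    have := key1 a (by omega) ⟨h2, h1, h3⟩
    simpa using this
  · rw [Multiset.card_eq_two] at h
    obtain ⟨a, b, rfl⟩ := h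
    simp only [Multiset.insert_eq_cons, Multiset.sum_cons, Multiset.sum_singleton,
      Multiset.card_cons, Multiset.card_singleton, Multiset.mem_cons, Multiset.mem_singleton,
      forall_eq_or_imp, forall_eq] at h1 h2 h3
    have := key2 a (by omega) b (by omega) ⟨h2.1, h2.2, h1, by omega⟩
    simpa [lcm_eq_nat_lcm] using this
  · rw [Multiset.card_eq_three] at h
    obtain ⟨a, b, c, rfl⟩ := h
    simp only [Multiset.insert_eq_cons, Multiset.sum_cons, Multiset.sum_singleton,
      Multiset.card_cons, Multiset.card_singleton, Multiset.mem_cons, Multiset.mem_singleton,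
      forall_eq_or_imp, forall_eq] at h1 h2 h3
    have := key3 a (by omega) b (by omega) c (by omega) ⟨h2.1, h2.2.1, h2.2.2, by omega, by omega⟩
    simpa [lcm_eq_nat_lcm] using this
  · rw [Multiset.card_eq_four] at h
    obtain ⟨a, b, c, d, rfl⟩ := h
    simp only [Multiset.insert_eq_cons, Multiset.sum_cons, Multiset.sum_singleton,
      Multiset.card_cons, Multiset.card_singleton, Multiset.mem_cons, Multiset.mem_singleton,
      forall_eq_or_imp, forall_eq] at h1 h2 h3
    have := key4 a (by omega) b (by omega) c (by omega) d (by omega)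
      ⟨h2.1, h2.2.1, h2.2.2.1, h2.2.2.2, by omega, by omega⟩
    simpa [lcm_eq_nat_lcm] using this
  · omega

/-- The set of element orders of the alternating group of degree 10 is {1, 2, 3, 4, 5, 6, 7, 8, 9, 10, 12, 15, 21}. -/
theorem result : Set.range (orderOf : alternatingGroup (Fin 10) → ℕ) = {1, 2, 3, 4, 5, 6, 7, 8, 9, 10, 12, 15, 21} := by
  apply Set.eq_of_subset_of_subset
  · rintro _ ⟨⟨σ, hσ⟩, rfl⟩
    rw [Subgroup.orderOf_mk, ← Equiv.Perm.lcm_cycleType]
    have h1 : σ.cycleType.sum ≤ 10 := by simpa using σ.sum_cycleType_le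
    have h2 : ∀ a ∈ σ.cycleType, 2 ≤ a := fun a ha => Equiv.Perm.two_le_of_mem_cycleType ha
    have h3 : Even (σ.cycleType.sum + σ.cycleType.card) := by
      have hs := Equiv.Perm.mem_alternatingGroup.mp hσ
      rw [Equiv.Perm.sign_of_cycleType] at hs
      by_contra hne
      rw [Nat.not_even_iff_odd] at hne
      rw [hne.neg_one_pow] at hs
      exact absurd hs (by decide)
    have := key _ h1 h2 h3
    simpa [SS] using this
  · intro x hx
    simp only [Set.mem_insert_iff, Set.mem_singleton_iff] at hx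
    rcases hx with rfl | rfl | rfl | rfl | rfl | rfl | rfl | rfl | rfl | rfl | rfl | rfl | rfl
    · exact ⟨1, by simp⟩
    · exact exists_of_cycleType' {2, 2} _ (by decide) (by decide) (by decide) (by decide)
    · exact exists_of_cycleType' {3} _ (by decide) (by decide) (by decide) (by decide)
    · exact exists_of_cycleType' {4, 2} _ (by decide) (by decide) (by decide) (by decide)
    · exact exists_of_cycleType' {5} _ (by decide) (by decide) (by decide) (by decide)
    · exact exists_of_cycleType' {3, 2, 2} _ (by decide) (by decide) (by decide) (by decide)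
    · exact exists_of_cycleType' {7} _ (by decide) (by decide) (by decide) (by decide)
    · exact exists_of_cycleType' {8, 2} _ (by decide) (by decide) (by decide) (by decide)
    · exact exists_of_cycleType' {9} _ (by decide) (by decide) (by decide) (by decide)
    · exact exists_of_cycleType' {5, 2, 2} _ (by decide) (by decide) (by decide) (by decide)
    · exact exists_of_cycleType' {4, 3, 2} _ (by decide) (by decide) (by decide) (by decide)
    · exact exists_of_cycleType' {5, 3} _ (by decide) (by decide) (by decide) (by decide)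
    · exact exists_of_cycleType' {7, 3} _ (by decide) (by decide) (by decide) (by decide)

end Cfsg.Agent.S2477
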