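import Cfsg.Statements.S2485
import Mathlib

set_option autoImplicit false
open scoped Pointwise
open Cfsg

namespace Cfsg.Agent.S2485


open Matrix


/-- centralizer of a non-scalar 2×2 matrix -/
theorem comm_span {K : Type*} [Field K] (M B : Matrix (Fin 2) (Fin 2) K)
    (hM : ¬ ∃ c : K, M = c • (1 : Matrix (Fin 2) (Fin 2) K)) (h : B * M = M * B) :
    ∃ a b : K, B = a • (1 : Matrix (Fin 2) (Fin 2) K) + b • M := by
  have e00 := congr_fun (congr_fun h 0) 0
  have e01 := congr_fun (congr_fun h 0) 1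
  have e10 := congr_fun (congr_fun h 1) 0
  have e11 := congr_fun (congr_fun h 1) 1
  simp only [Matrix.mul_apply, Fin.sum_univ_two] at e00 e01 e10 e11
  by_cases h01 : M 0 1 ≠ 0
  · refine ⟨B 0 0 - B 0 1 / M 0 1 * M 0 0, B 0 1 / M 0 1, ?_⟩
    ext i j
    fin_cases i <;> fin_cases j <;>
      simp only [Fin.zero_eta, Fin.isValue, Fin.mk_one, Matrix.add_apply, Matrix.smul_apply,
        Matrix.one_apply_eq, Matrix.one_apply_ne, ne_eq, one_ne_zero, zero_ne_one,
        not_false_eq_true, smul_eq_mul, mul_one, mul_zero, zero_add] <;> field_simp <;>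
      first
        | ring1
        | linear_combination e00
        | linear_combination (-1 : K) * e00
        | linear_combination e01
        | linear_combination (-1 : K) * e01
        | linear_combination (2 : K) * e00
        | linear_combination (-2 : K) * e00
  · push Not at h01
    by_cases h10 : M 1 0 ≠ 0
    · refine ⟨B 0 0 - B 1 0 / M 1 0 * M 0 0, B 1 0 / M 1 0, ?_⟩
      ext i j
      fin_cases i <;> fin_cases j <;>
        simp only [Fin.zero_eta, Fin.isValue, Fin.mk_one, Matrix.add_apply, Matrix.smul_apply,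
          Matrix.one_apply_eq, Matrix.one_apply_ne, ne_eq, one_ne_zero, zero_ne_one,
          not_false_eq_true, smul_eq_mul, mul_one, mul_zero, zero_add] <;> field_simp <;>
        first
          | ring1
          | linear_combination e00
          | linear_combination (-1 : K) * e00
          | linear_combination e10
          | linear_combination (-1 : K) * e10
          | linear_combination (2 : K) * e00
          | linear_combination (-2 : K) * e00
    · push Not at h10
      have hd : M 0 0 ≠ M 1 1 := by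
        intro hd
        apply hM
        refine ⟨M 0 0, ?_⟩
        ext i j
        fin_cases i <;> fin_cases j <;> simp [h01, h10, hd]
      have hd' : M 0 0 - M 1 1 ≠ 0 := sub_ne_zero.mpr hd
      have b01 : B 0 1 = 0 := by
        have : B 0 1 * (M 0 0 - M 1 1) = 0 := by
          rw [h01] at e01; linear_combination (-1 : K) * e01
        rcases mul_eq_zero.mp this with h | h
        · exact h
        · exact absurd h hd'
      have b10 : B 1 0 = 0 := by
        have : B 1 0 * (M 0 0 - M 1 1) = 0 := by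
          rw [h10] at e10; linear_combination e10
        rcases mul_eq_zero.mp this with h | h
        · exact h
        · exact absurd h hd'
      refine ⟨B 0 0 - (B 0 0 - B 1 1) / (M 0 0 - M 1 1) * M 0 0,
        (B 0 0 - B 1 1) / (M 0 0 - M 1 1), ?_⟩
      ext i j
      fin_cases i <;> fin_cases j <;>
        simp only [Fin.zero_eta, Fin.isValue, Fin.mk_one, Matrix.add_apply, Matrix.smul_apply,
          Matrix.one_apply_eq, Matrix.one_apply_ne, ne_eq, one_ne_zero, zero_ne_one,
          not_false_eq_true, smul_eq_mul, mul_one, mul_zero, zero_add, h01, h10, b01, b10]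
      · ring
      · field_simp
        ring



abbrev GG (q : ℕ) := GL (Fin 2) (ZMod q)
abbrev PG (q : ℕ) := GG q ⧸ Subgroup.center (GG q)

variable {q : ℕ}

/-- the projection -/
def pi (q : ℕ) : GG q →* PG q := QuotientGroup.mk' _

theorem pi_surj : Function.Surjective (pi q) := QuotientGroup.mk'_surjective _

theorem pi_eq_one_iff (B : GG q) :
    pi q B = 1 ↔ ∃ c : ZMod q, (B : Matrix (Fin 2) (Fin 2) (ZMod q)) = c • 1 := by
  unfold pi
  rw [QuotientGroup.mk'_apply, QuotientGroup.eq_one_iff,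
    Matrix.GeneralLinearGroup.mem_center_iff_val_mem_range_scalar]
  constructor
  · rintro ⟨c, hc⟩
    refine ⟨c, ?_⟩
    rw [← hc, Matrix.scalar_apply, Matrix.smul_one_eq_diagonal]
  · rintro ⟨c, hc⟩
    refine ⟨c, ?_⟩
    rw [hc, Matrix.scalar_apply, Matrix.smul_one_eq_diagonal]

theorem pi_eq_of_smul (A B : GG q) (c : ZMod q)
    (h : (A : Matrix (Fin 2) (Fin 2) (ZMod q)) = c • (B : Matrix (Fin 2) (Fin 2) (ZMod q))) :
    pi q A = pi q B := by
  have h1 : pi q (A * B⁻¹) = 1 := by
    rw [pi_eq_one_iff]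
    refine ⟨c, ?_⟩
    rw [Matrix.GeneralLinearGroup.coe_mul, h, Matrix.smul_mul]
    congr 1
    rw [← Matrix.GeneralLinearGroup.coe_mul, mul_inv_cancel]
    rfl
  rw [map_mul, map_inv, mul_inv_eq_one] at h1
  exact h1

theorem smul_of_pi_eq (A B : GG q) (h : pi q A = pi q B) :
    ∃ c : ZMod q, (A : Matrix (Fin 2) (Fin 2) (ZMod q))
      = c • (B : Matrix (Fin 2) (Fin 2) (ZMod q)) := by
  have h1 : pi q (A * B⁻¹) = 1 := by
    rw [map_mul, map_inv, mul_inv_eq_one]; exact h
  rw [pi_eq_one_iff] at h1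
  obtain ⟨c, hc⟩ := h1
  refine ⟨c, ?_⟩
  have : (A : Matrix (Fin 2) (Fin 2) (ZMod q)) = ((A * B⁻¹ * B : GG q) : Matrix _ _ _) := by
    rw [inv_mul_cancel_right]
  rw [this, Matrix.GeneralLinearGroup.coe_mul, hc, Matrix.smul_mul, Matrix.one_mul]

theorem pi_neg (A : GG q) : pi q (-A) = pi q A := by
  apply pi_eq_of_smul _ _ (-1)
  rw [Units.val_neg, neg_smul, one_smul]

theorem smul_unit_eq_zero (B : GG q) (a : ZMod q)
    (h : a • (B : Matrix (Fin 2) (Fin 2) (ZMod q)) = 0) : a = 0 := by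
  have h1 : a • ((B : Matrix (Fin 2) (Fin 2) (ZMod q)) * ((B⁻¹ : GG q) : Matrix _ _ _)) = 0 := by
    rw [← Matrix.smul_mul, h, Matrix.zero_mul]
  rw [← Matrix.GeneralLinearGroup.coe_mul, mul_inv_cancel] at h1
  have h2 := congr_fun (congr_fun h1 0) 0
  simpa using h2

theorem sq_scalar_ne_zero [Fact q.Prime] (Z : GG q) (c : ZMod q)
    (hZ : (Z : Matrix (Fin 2) (Fin 2) (ZMod q)) ^ 2 = c • 1) : c ≠ 0 := by
  intro hc
  rw [hc, zero_smul] at hZ
  have h1 : ((Z ^ 2 : GG q) : Matrix (Fin 2) (Fin 2) (ZMod q)) = 0 := by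
    rw [Units.val_pow_eq_pow_val, hZ]
  have h2 := smul_unit_eq_zero (Z ^ 2) 1 (by rw [one_smul, h1])
  exact one_ne_zero h2

theorem comm_or_anti [Fact q.Prime] (B Z : GG q) (c : ZMod q)
    (hZ : (Z : Matrix (Fin 2) (Fin 2) (ZMod q)) ^ 2 = c • 1)
    (h : pi q B * pi q Z = pi q Z * pi q B) :
    B * Z = Z * B ∨ B * Z = -(Z * B) := by
  rw [← map_mul, ← map_mul] at h
  obtain ⟨l, hl⟩ := smul_of_pi_eq _ _ h
  rw [Matrix.GeneralLinearGroup.coe_mul, Matrix.GeneralLinearGroup.coe_mul] at hl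
  set Bm := (B : Matrix (Fin 2) (Fin 2) (ZMod q)) with hBm
  set Zm := (Z : Matrix (Fin 2) (Fin 2) (ZMod q)) with hZm
  have hc := sq_scalar_ne_zero Z c hZ
  have h1 : Bm * Zm ^ 2 = (l * l * c) • Bm := by
    calc Bm * Zm ^ 2 = (Bm * Zm) * Zm := by rw [pow_two, Matrix.mul_assoc]
      _ = (l • (Zm * Bm)) * Zm := by rw [hl]
      _ = l • (Zm * (Bm * Zm)) := by rw [Matrix.smul_mul, Matrix.mul_assoc]
      _ = l • (Zm * (l • (Zm * Bm))) := by rw [hl]
      _ = (l * l) • (Zm ^ 2 * Bm) := by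
          rw [Matrix.mul_smul, smul_smul, pow_two, Matrix.mul_assoc]
      _ = (l * l * c) • Bm := by rw [hZ, Matrix.smul_mul, Matrix.one_mul, smul_smul]
  have h2 : Bm * Zm ^ 2 = c • Bm := by
    rw [hZ, Matrix.mul_smul, Matrix.mul_one]
  have h3 : (c - l * l * c) • Bm = 0 := by
    rw [sub_smul, ← h1, ← h2, sub_self]
  have h4 := smul_unit_eq_zero B _ h3
  have h5 : (1 - l) * (1 + l) = 0 := by
    have : c * ((1 - l) * (1 + l)) = 0 := by linear_combination h4
    rcases mul_eq_zero.mp this with h | h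
    · exact absurd h hc
    · exact h
  rcases mul_eq_zero.mp h5 with h | h
  · left
    have hl1 : l = 1 := by linear_combination (-1 : ZMod q) * h
    apply Units.ext
    rw [Matrix.GeneralLinearGroup.coe_mul, Matrix.GeneralLinearGroup.coe_mul, hl, hl1, one_smul]
  · right
    have hl1 : l = -1 := by linear_combination h
    apply Units.ext
    rw [Units.val_neg, Matrix.GeneralLinearGroup.coe_mul, Matrix.GeneralLinearGroup.coe_mul, hl,
      hl1, neg_smul, one_smul]

theorem pi_comm_of_comm (B Z : GG q) (h : B * Z = Z * B) :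
    pi q B * pi q Z = pi q Z * pi q B := by
  rw [← map_mul, ← map_mul, h]

theorem pi_comm_of_anti (B Z : GG q) (h : B * Z = -(Z * B)) :
    pi q B * pi q Z = pi q Z * pi q B := by
  rw [← map_mul, ← map_mul, h, pi_neg]


/-- Frobenius on `a + b Z`. -/
theorem frob [Fact q.Prime] (Zm : Matrix (Fin 2) (Fin 2) (ZMod q)) (a b : ZMod q) :
    (a • (1 : Matrix (Fin 2) (Fin 2) (ZMod q)) + b • Zm) ^ q = a • 1 + b • Zm ^ q := by
  have hcomm : Commute (a • (1 : Matrix (Fin 2) (Fin 2) (ZMod q))) (b • Zm) := by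
    apply Commute.smul_left
    apply Commute.smul_right
    exact Commute.one_left _
  rw [add_pow_char_of_commute q hcomm, smul_pow, smul_pow, one_pow, ZMod.pow_card,
    ZMod.pow_card]

theorem q_odd_split [Fact q.Prime] (hq2 : q ≠ 2) : q = 2 * (q / 2) + 1 := by
  have := (Fact.out : q.Prime).eq_one_or_self_of_dvd 2
  have h2 : ¬ 2 ∣ q := by
    intro h
    rcases this h with h | h
    · omega
    · exact hq2 h.symm
  omega

/-- `Z^q = -Z` when `Z^2 = c` is a non-square scalar. -/
theorem pow_q_nonsplit [Fact q.Prime] (hq2 : q ≠ 2) (Zm : Matrix (Fin 2) (Fin 2) (ZMod q))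
    (c : ZMod q) (hc : ¬ IsSquare c) (hZ : Zm ^ 2 = c • 1) : Zm ^ q = - Zm := by
  have hc0 : c ≠ 0 := by
    rintro rfl; exact hc ⟨0, by simp⟩
  have h1 : c ^ (q / 2) = -1 := by
    rcases ZMod.pow_div_two_eq_neg_one_or_one q hc0 with h | h
    · exact absurd ((ZMod.euler_criterion q hc0).mpr h) hc
    · exact h
  rw [congrArg (fun n => Zm ^ n) (q_odd_split hq2)]
  rw [pow_succ, pow_mul, hZ, smul_pow, one_pow, h1, Matrix.smul_mul, Matrix.one_mul, neg_smul,
    one_smul]

/-- `Z^q = Z` when `Z^2 = d^2`, `d ≠ 0`. -/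
theorem pow_q_split [Fact q.Prime] (hq2 : q ≠ 2) (Zm : Matrix (Fin 2) (Fin 2) (ZMod q))
    (d : ZMod q) (hd : d ≠ 0) (hZ : Zm ^ 2 = (d * d) • 1) : Zm ^ q = Zm := by
  have h1 : (d * d) ^ (q / 2) = 1 := by
    rw [← pow_two, ← pow_mul]
    have : 2 * (q / 2) = q - 1 := by have := q_odd_split hq2; omega
    rw [this]
    exact ZMod.pow_card_sub_one_eq_one hd
  rw [congrArg (fun n => Zm ^ n) (q_odd_split hq2)]
  rw [pow_succ, pow_mul, hZ, smul_pow, one_pow, h1, one_smul, Matrix.one_mul]


theorem not_scalar_of_nonsquare [Fact q.Prime] (Z : GG q) (c : ZMod q) (hc : ¬ IsSquare c)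
    (hZ : (Z : Matrix (Fin 2) (Fin 2) (ZMod q)) ^ 2 = c • 1) :
    ¬ ∃ d : ZMod q, (Z : Matrix (Fin 2) (Fin 2) (ZMod q)) = d • 1 := by
  rintro ⟨d, hd⟩
  apply hc
  refine ⟨d, ?_⟩
  rw [hd, smul_pow, one_pow] at hZ
  have := congr_fun (congr_fun hZ 0) 0
  simp only [Matrix.smul_apply, Matrix.one_apply_eq, smul_eq_mul, mul_one] at this
  rw [← this, pow_two]

theorem nonsplit_pow [Fact q.Prime] (hq2 : q ≠ 2) (Z B : GG q) (c : ZMod q) (hc : ¬ IsSquare c)
    (hZ : (Z : Matrix (Fin 2) (Fin 2) (ZMod q)) ^ 2 = c • 1)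
    (hB : pi q B * pi q Z = pi q Z * pi q B) :
    (pi q B) ^ (2 * (q + 1)) = 1 := by
  have hns := not_scalar_of_nonsquare Z c hc hZ
  have hcomm2 : (B ^ 2) * Z = Z * (B ^ 2) := by
    rcases comm_or_anti B Z c hZ hB with h | h
    · rw [pow_two, mul_assoc, h, ← mul_assoc, h, mul_assoc]
    · rw [pow_two, mul_assoc, h, mul_neg, ← mul_assoc, h, neg_mul, neg_neg, mul_assoc]
  have hcomm2m : (B ^ 2 : GG q).val * Z.val = Z.val * (B ^ 2 : GG q).val := by
    rw [← Matrix.GeneralLinearGroup.coe_mul, hcomm2, Matrix.GeneralLinearGroup.coe_mul]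
  obtain ⟨a, b, hab⟩ := comm_span Z.val (B ^ 2 : GG q).val hns hcomm2m
  have hpow : ((B ^ 2) ^ (q + 1) : GG q).val = (a * a - b * b * c) • 1 := by
    rw [Units.val_pow_eq_pow_val, hab, pow_succ, frob, pow_q_nonsplit hq2 _ c hc hZ]
    rw [smul_neg, ← sub_eq_add_neg]
    simp only [Matrix.sub_mul, Matrix.mul_add, Matrix.smul_mul, Matrix.mul_smul, Matrix.one_mul,
      Matrix.mul_one]
    rw [← pow_two, hZ]
    module
  rw [pow_mul, ← map_pow, ← map_pow, pi_eq_one_iff]
  exact ⟨_, hpow⟩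


theorem two_ne_zero_zmod [Fact q.Prime] (hq2 : q ≠ 2) : (2 : ZMod q) ≠ 0 := by
  intro h
  have h1 : ((2 : ℕ) : ZMod q) = 0 := by exact_mod_cast h
  rw [ZMod.natCast_eq_zero_iff] at h1
  have := (Nat.prime_dvd_prime_iff_eq (Fact.out : q.Prime) Nat.prime_two).mp h1
  exact hq2 this

theorem split_comm_elem [Fact q.Prime] (hq2 : q ≠ 2) (h4 : ¬ 4 ∣ q - 1) (Z B : GG q) (d : ZMod q)
    (hZ : (Z : Matrix (Fin 2) (Fin 2) (ZMod q)) ^ 2 = (d * d) • 1)
    (hns : ¬ ∃ e : ZMod q, (Z : Matrix (Fin 2) (Fin 2) (ZMod q)) = e • 1)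
    (hBZ : B * Z = Z * B) (j : ℕ) (hj : (pi q B) ^ (2 ^ j) = 1) :
    pi q B = 1 ∨ pi q B = pi q Z := by
  have hd : d ≠ 0 := by
    have := sq_scalar_ne_zero Z (d * d) hZ
    intro h; apply this; rw [h, mul_zero]
  have hm : B.val * Z.val = Z.val * B.val := by
    rw [← Matrix.GeneralLinearGroup.coe_mul, hBZ, Matrix.GeneralLinearGroup.coe_mul]
  obtain ⟨a, b, hab⟩ := comm_span Z.val B.val hns hm
  have hBq : B.val ^ q = B.val := by
    rw [hab, frob, pow_q_split hq2 _ d hd hZ]
  have hq1 : 1 ≤ q := (Fact.out : q.Prime).one_lt.le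
  have hBq' : B ^ (q - 1) = 1 := by
    have : B ^ (q - 1) * B = B := by
      apply Units.ext
      rw [← pow_succ, Nat.sub_add_cancel hq1, Units.val_pow_eq_pow_val, hBq]
    exact mul_eq_right.mp this
  have hg1 : (pi q B) ^ (q - 1) = 1 := by rw [← map_pow, hBq', map_one]
  have hg2 : (pi q B) ^ 2 = 1 := by
    have ho1 : orderOf (pi q B) ∣ q - 1 := orderOf_dvd_of_pow_eq_one hg1
    have ho2 : orderOf (pi q B) ∣ 2 ^ j := orderOf_dvd_of_pow_eq_one hj
    obtain ⟨i, hi, hio⟩ := (Nat.dvd_prime_pow Nat.prime_two).mp ho2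
    have hi1 : i ≤ 1 := by
      by_contra hcon
      push Not at hcon
      apply h4
      have h22 : 2 ^ 2 ∣ 2 ^ i := pow_dvd_pow 2 hcon
      rw [← hio] at h22
      exact dvd_trans h22 ho1
    have : orderOf (pi q B) ∣ 2 := by
      rw [hio]
      calc 2 ^ i ∣ 2 ^ 1 := pow_dvd_pow 2 hi1
        _ = 2 := pow_one 2
    exact orderOf_dvd_iff_pow_eq_one.mp this
  rw [← map_pow, pi_eq_one_iff] at hg2
  obtain ⟨e, he⟩ := hg2
  rw [Units.val_pow_eq_pow_val, hab] at he
  have hexp : (a • (1 : Matrix (Fin 2) (Fin 2) (ZMod q)) + b • Z.val) ^ 2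
      = (a * a + b * b * (d * d)) • (1 : Matrix (Fin 2) (Fin 2) (ZMod q)) + (2 * a * b) • Z.val := by
    rw [pow_two]
    simp only [Matrix.add_mul, Matrix.mul_add, Matrix.smul_mul, Matrix.mul_smul, Matrix.one_mul,
      Matrix.mul_one]
    rw [← pow_two, hZ]
    module
  rw [hexp] at he
  have hab0 : 2 * a * b = 0 := by
    by_contra hne
    apply hns
    refine ⟨(2 * a * b)⁻¹ * (e - (a * a + b * b * (d * d))), ?_⟩
    have h1 : (2 * a * b) • Z.val
        = (e - (a * a + b * b * (d * d))) • (1 : Matrix (Fin 2) (Fin 2) (ZMod q)) := by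
      rw [sub_smul, ← he]
      abel
    rw [← smul_smul, ← h1, smul_smul, inv_mul_cancel₀ hne, one_smul]
  have h2 := two_ne_zero_zmod hq2
  rcases mul_eq_zero.mp hab0 with h | h
  · rcases mul_eq_zero.mp h with h | h
    · exact absurd h h2
    · right
      apply pi_eq_of_smul _ _ b
      rw [hab, h, zero_smul, zero_add]
  · left
    rw [pi_eq_one_iff]
    exact ⟨a, by rw [hab, h, zero_smul, add_zero]⟩

theorem split_card_le [Fact q.Prime] (hq2 : q ≠ 2) (h4 : ¬ 4 ∣ q - 1) (Z : GG q) (d : ZMod q)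
    (hZ : (Z : Matrix (Fin 2) (Fin 2) (ZMod q)) ^ 2 = (d * d) • 1)
    (hns : ¬ ∃ e : ZMod q, (Z : Matrix (Fin 2) (Fin 2) (ZMod q)) = e • 1)
    (P : Subgroup (PG q)) (hP : IsPGroup 2 P)
    (hcomm : ∀ g ∈ P, g * pi q Z = pi q Z * g) :
    Nat.card P ≤ 4 := by
  classical
  have key1 : ∀ g ∈ P, ∀ B : GG q, pi q B = g → B * Z = Z * B → g = 1 ∨ g = pi q Z := by
    intro g hg B hB hBZ
    obtain ⟨j, hj⟩ := hP ⟨g, hg⟩
    have hj' : g ^ (2 ^ j) = 1 := by simpa using congrArg Subtype.val hj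
    rw [← hB] at hj' ⊢
    exact split_comm_elem hq2 h4 Z B d hZ hns hBZ j hj'
  by_cases hex : ∃ h ∈ P, ∃ C : GG q, pi q C = h ∧ C * Z = -(Z * C)
  · obtain ⟨h, hh, C, hC, hCZ⟩ := hex
    have hsub : (P : Set (PG q)) ⊆
        (({1, pi q Z, h, pi q Z * h} : Finset (PG q)) : Set (PG q)) := by
      intro g hg
      obtain ⟨B, hB⟩ := pi_surj g
      have hBcomm : pi q B * pi q Z = pi q Z * pi q B := by rw [hB]; exact hcomm g hg
      rcases comm_or_anti B Z (d * d) hZ hBcomm with hBZ | hBZ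
      · rcases key1 g hg B hB hBZ with h1 | h1 <;> simp [h1]
      · have hZC : Z * C = -(C * Z) := by rw [hCZ, neg_neg]
        have hCinv : C⁻¹ * Z = -(Z * C⁻¹) := by
          have : C⁻¹ * Z * C = -Z := by
            rw [mul_assoc, hZC, mul_neg, inv_mul_cancel_left]
          calc C⁻¹ * Z = C⁻¹ * Z * C * C⁻¹ := by rw [mul_inv_cancel_right]
            _ = -(Z * C⁻¹) := by rw [this, neg_mul]
        have hBC : (B * C⁻¹) * Z = Z * (B * C⁻¹) := by
          rw [mul_assoc, hCinv, mul_neg, ← mul_assoc, ← mul_assoc, hBZ, neg_mul, neg_neg,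
            mul_assoc]
        have hmem : g * h⁻¹ ∈ P := P.mul_mem hg (P.inv_mem hh)
        have := key1 (g * h⁻¹) hmem (B * C⁻¹) (by rw [map_mul, map_inv, hB, hC]) hBC
        rcases this with h1 | h1
        · have : g = h := by rwa [mul_inv_eq_one] at h1
          simp [this]
        · have : g = pi q Z * h := by rwa [mul_inv_eq_iff_eq_mul] at h1
          simp [this]
    calc Nat.card P = (P : Set (PG q)).ncard := rfl
      _ ≤ ((({1, pi q Z, h, pi q Z * h} : Finset (PG q)) : Set (PG q))).ncard :=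
          Set.ncard_le_ncard hsub (Finset.finite_toSet _)
      _ = Finset.card _ := Set.ncard_coe_finset _
      _ ≤ 4 := Finset.card_le_four
  · push Not at hex
    have hsub : (P : Set (PG q)) ⊆
        (({1, pi q Z} : Finset (PG q)) : Set (PG q)) := by
      intro g hg
      obtain ⟨B, hB⟩ := pi_surj g
      have hBcomm : pi q B * pi q Z = pi q Z * pi q B := by rw [hB]; exact hcomm g hg
      rcases comm_or_anti B Z (d * d) hZ hBcomm with hBZ | hBZ
      · rcases key1 g hg B hB hBZ with h1 | h1 <;> simp [h1]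
      · exact absurd hBZ (hex g hg B hB)
    calc Nat.card P = (P : Set (PG q)).ncard := rfl
      _ ≤ ((({1, pi q Z} : Finset (PG q)) : Set (PG q))).ncard :=
          Set.ncard_le_ncard hsub (Finset.finite_toSet _)
      _ = Finset.card _ := Set.ncard_coe_finset _
      _ ≤ 2 := Finset.card_le_two
      _ ≤ 4 := by norm_num

theorem card_center [Fact q.Prime] : Nat.card (Subgroup.center (GG q)) = q - 1 := by
  rw [Matrix.GeneralLinearGroup.center_eq_range_scalar]
  have hinj : Function.Injective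
      (Matrix.GeneralLinearGroup.scalar (Fin 2) : (ZMod q)ˣ →* GG q) := by
    intro u v huv
    have := congrArg (fun A : GG q => (A : Matrix (Fin 2) (Fin 2) (ZMod q)) 0 0) huv
    simp only [Matrix.GeneralLinearGroup.coe_scalar, Matrix.scalar_apply,
      Matrix.diagonal_apply_eq] at this
    exact Units.ext this
  rw [Nat.card_congr (MonoidHom.ofInjective hinj).symm.toEquiv, Nat.card_units, Nat.card_zmod]

theorem card_GG [Fact q.Prime] : Nat.card (GG q) = (q ^ 2 - 1) * (q ^ 2 - q) := by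
  have := Matrix.card_GL_field (𝔽 := ZMod q) 2
  rw [ZMod.card] at this
  rw [this, Fin.prod_univ_two]
  simp

theorem card_PG [Fact q.Prime] : Nat.card (PG q) * (q - 1) = (q ^ 2 - 1) * (q ^ 2 - q) := by
  rw [← card_GG, ← card_center, ← Subgroup.card_eq_card_quotient_mul_card_subgroup]

theorem eight_dvd_card_PG [Fact q.Prime] {k : ℕ} (hk : q + 1 = 2 ^ k) (hq : 7 ≤ q) :
    8 ∣ Nat.card (PG q) := by
  have h1 := card_PG (q := q)
  have hq1 : 0 < q - 1 := by omega
  have h2 : (q ^ 2 - 1) * (q ^ 2 - q) = (q * (q + 1) * (q - 1)) * (q - 1) := by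
    obtain ⟨m, rfl⟩ : ∃ m, q = m + 1 := ⟨q - 1, by omega⟩
    have e1 : (m + 1) ^ 2 - 1 = (m + 2) * m := by
      have : (m + 1) ^ 2 = (m + 2) * m + 1 := by ring
      omega
    have e2 : (m + 1) ^ 2 - (m + 1) = (m + 1) * m := by
      have : (m + 1) ^ 2 = (m + 1) * m + (m + 1) := by ring
      omega
    rw [e1, e2]
    simp only [Nat.add_sub_cancel]
    ring
  rw [h2] at h1
  have h3 : Nat.card (PG q) = q * (q + 1) * (q - 1) := Nat.eq_of_mul_eq_mul_right hq1 h1
  rw [h3, hk]
  have hk3 : 3 ≤ k := by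
    by_contra hcon
    push Not at hcon
    have : 2 ^ k ≤ 2 ^ 2 := Nat.pow_le_pow_right (by norm_num) (by omega)
    omega
  have : (8 : ℕ) ∣ 2 ^ k := by
    calc (8 : ℕ) = 2 ^ 3 := by norm_num
      _ ∣ 2 ^ k := pow_dvd_pow 2 hk3
  exact Dvd.dvd.mul_right (Dvd.dvd.mul_left this q) _

theorem not_four_dvd [Fact q.Prime] {k : ℕ} (hk : q + 1 = 2 ^ k) (hq : 7 ≤ q) :
    ¬ 4 ∣ q - 1 := by
  have hk3 : 2 ≤ k := by
    by_contra hcon
    push Not at hcon
    have : 2 ^ k ≤ 2 ^ 1 := Nat.pow_le_pow_right (by norm_num) (by omega)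
    omega
  obtain ⟨j, rfl⟩ : ∃ j, k = j + 2 := ⟨k - 2, by omega⟩
  rw [pow_add] at hk
  omega



theorem eigen_of_anticomm {K : Type*} [Field K] (S Z : Matrix (Fin 2) (Fin 2) K) (c : K)
    (hZ : Z ^ 2 = c • 1) (hS : S ≠ 0) (hdet : S.det = 0) (hanti : S * Z = -(Z * S)) :
    IsSquare c := by
  obtain ⟨v, hv0, hv⟩ := Matrix.exists_mulVec_eq_zero_iff.mpr hdet
  set w := Z *ᵥ v with hw
  have hSw : S *ᵥ w = 0 := by
    rw [hw, Matrix.mulVec_mulVec, hanti, Matrix.neg_mulVec, ← Matrix.mulVec_mulVec, hv,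
      Matrix.mulVec_zero, neg_zero]
  have hv0' := congr_fun hv 0
  have hv1' := congr_fun hv 1
  have hw0' := congr_fun hSw 0
  have hw1' := congr_fun hSw 1
  simp only [Matrix.mulVec, dotProduct, Fin.sum_univ_two, Pi.zero_apply] at hv0' hv1' hw0' hw1'
  by_cases hD : v 0 * w 1 - v 1 * w 0 = 0
  · obtain ⟨l, hl⟩ : ∃ l : K, w = l • v := by
      by_cases hv00 : v 0 = 0
      · have hv1 : v 1 ≠ 0 := by
          intro h; apply hv0; ext i; fin_cases i <;> simp [hv00, h]
        have hw0 : w 0 = 0 := by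
          rw [hv00] at hD
          have : v 1 * w 0 = 0 := by linear_combination (-1 : K) * hD
          rcases mul_eq_zero.mp this with h | h
          · exact absurd h hv1
          · exact h
        refine ⟨w 1 / v 1, ?_⟩
        ext i; fin_cases i
        · simp [hv00, hw0]
        · simp only [Fin.mk_one, Fin.isValue, Pi.smul_apply, smul_eq_mul]
          field_simp
      · refine ⟨w 0 / v 0, ?_⟩
        ext i; fin_cases i
        · simp only [Fin.zero_eta, Fin.isValue, Pi.smul_apply, smul_eq_mul]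
          field_simp
        · simp only [Fin.mk_one, Fin.isValue, Pi.smul_apply, smul_eq_mul]
          field_simp
          linear_combination hD
    have h1 : Z *ᵥ w = c • v := by
      rw [hw, Matrix.mulVec_mulVec, ← pow_two, hZ, Matrix.smul_mulVec, Matrix.one_mulVec]
    have h2 : Z *ᵥ w = (l * l) • v := by
      rw [hl, Matrix.mulVec_smul, ← hw, hl, smul_smul]
    have h3 : (c - l * l) • v = 0 := by
      rw [sub_smul, ← h1, ← h2, sub_self]
    rcases smul_eq_zero.mp h3 with h | h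
    · exact ⟨l, by linear_combination h⟩
    · exact absurd h hv0
  · exfalso
    apply hS
    have e00 : S 0 0 = 0 := by
      have : S 0 0 * (v 0 * w 1 - v 1 * w 0) = 0 := by
        linear_combination w 1 * hv0' - v 1 * hw0'
      rcases mul_eq_zero.mp this with h | h
      · exact h
      · exact absurd h hD
    have e01 : S 0 1 = 0 := by
      have : S 0 1 * (v 0 * w 1 - v 1 * w 0) = 0 := by
        linear_combination v 0 * hw0' - w 0 * hv0'
      rcases mul_eq_zero.mp this with h | h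
      · exact h
      · exact absurd h hD
    have e10 : S 1 0 = 0 := by
      have : S 1 0 * (v 0 * w 1 - v 1 * w 0) = 0 := by
        linear_combination w 1 * hv1' - v 1 * hw1'
      rcases mul_eq_zero.mp this with h | h
      · exact h
      · exact absurd h hD
    have e11 : S 1 1 = 0 := by
      have : S 1 1 * (v 0 * w 1 - v 1 * w 0) = 0 := by
        linear_combination v 0 * hw1' - w 0 * hv1'
      rcases mul_eq_zero.mp this with h | h
      · exact h
      · exact absurd h hD
    ext i j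
    fin_cases i <;> fin_cases j <;> simp [e00, e01, e10, e11]


theorem main_aux {q k : ℕ} [Fact q.Prime] (hk : q + 1 = 2 ^ k) (hq : 7 ≤ q)
    (H : Sylow 2 (PG q)) (x : PG q) :
    (H : Subgroup (PG q)) ⊓ MulAut.conj x • (H : Subgroup (PG q)) ≠ ⊥ := by
  have hq2 : q ≠ 2 := by omega
  have h4 := not_four_dvd hk hq
  have h8 : 2 ^ 3 ∣ Nat.card H := H.pow_dvd_card_of_pow_dvd_card (eight_dvd_card_PG hk hq)
  have h8' : 8 ≤ Nat.card H := Nat.le_of_dvd Nat.card_pos h8
  have : Nontrivial H := (Finite.one_lt_card_iff_nontrivial).mp (by omega)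
  have hHp : IsPGroup 2 H := H.isPGroup'
  have : Nontrivial (Subgroup.center H) := hHp.center_nontrivial
  have h2c : 2 ∣ Nat.card (Subgroup.center H) := by
    rcases (hHp.to_subgroup (Subgroup.center H)).card_eq_or_dvd with h | h
    · exfalso
      exact (Finite.one_lt_card (α := Subgroup.center H)).ne' h
    · exact h
  obtain ⟨z0, hz0⟩ := exists_prime_orderOf_dvd_card' 2 h2c
  set z : PG q := ((z0 : H) : PG q) with hz
  have hzo : orderOf z = 2 := by
    rw [hz, Subgroup.orderOf_coe, Subgroup.orderOf_coe, hz0]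
  have hz2 : z ^ 2 = 1 := by
    have := pow_orderOf_eq_one z
    rwa [hzo] at this
  have hz1 : z ≠ 1 := by
    intro h; rw [h, orderOf_one] at hzo; omega
  have hzH : z ∈ (H : Subgroup (PG q)) := (z0 : H).2
  have hzcomm : ∀ g ∈ (H : Subgroup (PG q)), g * z = z * g := by
    intro g hg
    have := Subgroup.mem_center_iff.mp z0.2 ⟨g, hg⟩
    exact congrArg Subtype.val this
  obtain ⟨Z, hZ⟩ := pi_surj z
  have hZ2 : pi q (Z ^ 2) = 1 := by rw [map_pow, hZ, hz2]
  obtain ⟨c, hc⟩ := (pi_eq_one_iff _).mp hZ2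
  rw [Units.val_pow_eq_pow_val] at hc
  have hns : ¬ ∃ e : ZMod q, (Z : Matrix (Fin 2) (Fin 2) (ZMod q)) = e • 1 :=
    fun h => hz1 (by rw [← hZ]; exact (pi_eq_one_iff Z).mpr h)
  by_cases hsq : IsSquare c
  · exfalso
    obtain ⟨d, rfl⟩ := hsq
    have := split_card_le hq2 h4 Z d hc hns H hHp (by intro g hg; rw [hZ]; exact hzcomm g hg)
    omega
  · have hcent : ∀ g : PG q, g * z = z * g → g ∈ (H : Subgroup (PG q)) := by
      have hCp : IsPGroup 2 (Subgroup.centralizer {z} : Subgroup (PG q)) := by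
        rintro ⟨g, hg⟩
        refine ⟨k + 1, ?_⟩
        obtain ⟨B, hB⟩ := pi_surj g
        have hgz : g * z = z * g := (Subgroup.mem_centralizer_singleton_iff.mp hg)
        have := nonsplit_pow hq2 Z B c hsq hc (by rw [hB, hZ]; exact hgz)
        apply Subtype.ext
        rw [Subgroup.coe_pow, Subgroup.coe_one]
        have e : 2 ^ (k + 1) = 2 * (q + 1) := by rw [pow_succ, hk]; ring
        rw [e]
        simp only []
        rw [← hB]
        exact this
      have hle : (H : Subgroup (PG q)) ≤ Subgroup.centralizer {z} := by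
        intro g hg
        rw [Subgroup.mem_centralizer_singleton_iff]
        exact (hzcomm g hg)
      have hCH : Subgroup.centralizer {z} = (H : Subgroup (PG q)) := H.is_maximal' hCp hle
      intro g hg
      rw [← hCH]
      exact Subgroup.mem_centralizer_singleton_iff.mpr hg
    obtain ⟨X, hX⟩ := pi_surj x
    set Z' : GG q := X * Z * X⁻¹ with hZ'def
    have hZ' : pi q Z' = x * z * x⁻¹ := by
      rw [hZ'def, map_mul, map_mul, map_inv, hX, hZ]
    have hc' : (Z' : Matrix (Fin 2) (Fin 2) (ZMod q)) ^ 2 = c • 1 := by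
      have h1 : Z' ^ 2 = X * Z ^ 2 * X⁻¹ := by
        rw [hZ'def, pow_two, pow_two]
        simp only [mul_assoc, inv_mul_cancel_left]
      rw [← Units.val_pow_eq_pow_val, h1, Matrix.GeneralLinearGroup.coe_mul,
        Matrix.GeneralLinearGroup.coe_mul, Units.val_pow_eq_pow_val, hc, Matrix.mul_smul,
        Matrix.mul_one, Matrix.smul_mul, ← Matrix.GeneralLinearGroup.coe_mul, mul_inv_cancel]
      rfl
    have hmem' : ∀ s : PG q, s * (x * z * x⁻¹) = (x * z * x⁻¹) * s →
        s ∈ MulAut.conj x • (H : Subgroup (PG q)) := by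
      intro s hs
      rw [Subgroup.mem_pointwise_smul_iff_inv_smul_mem]
      apply hcent
      simp only [MulAut.smul_def, ← map_inv, MulAut.conj_apply, inv_inv]
      calc x⁻¹ * s * x * z = x⁻¹ * (s * (x * z * x⁻¹)) * x := by group
        _ = x⁻¹ * ((x * z * x⁻¹) * s) * x := by rw [hs]
        _ = z * (x⁻¹ * s * x) := by group
    -- it suffices to find `s ≠ 1` commuting with `z` and `z'`
    suffices hs : ∃ s : PG q, s ≠ 1 ∧ s * z = z * s ∧ s * (x * z * x⁻¹) = (x * z * x⁻¹) * s by
      obtain ⟨s, hs1, hsz, hsz'⟩ := hs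
      intro hbot
      have : s ∈ (H : Subgroup (PG q)) ⊓ MulAut.conj x • (H : Subgroup (PG q)) :=
        ⟨hcent s hsz, hmem' s hsz'⟩
      rw [hbot, Subgroup.mem_bot] at this
      exact hs1 this
    set Zm := (Z : Matrix (Fin 2) (Fin 2) (ZMod q)) with hZm
    set Zm' := (Z' : Matrix (Fin 2) (Fin 2) (ZMod q)) with hZm'
    set Sm := Zm * Zm' - Zm' * Zm with hSm
    have hanti : Sm * Zm = -(Zm * Sm) := by
      rw [hSm, Matrix.sub_mul, Matrix.mul_sub]
      have e1 : Zm' * Zm * Zm = c • Zm' := by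
        rw [Matrix.mul_assoc, ← pow_two, hc, Matrix.mul_smul, Matrix.mul_one]
      have e2 : Zm * (Zm * Zm') = c • Zm' := by
        rw [← Matrix.mul_assoc, ← pow_two, hc, Matrix.smul_mul, Matrix.one_mul]
      rw [e1, e2, Matrix.mul_assoc Zm Zm' Zm]
      abel
    have hanti' : Sm * Zm' = -(Zm' * Sm) := by
      rw [hSm, Matrix.sub_mul, Matrix.mul_sub]
      have e1 : Zm * Zm' * Zm' = c • Zm := by
        rw [Matrix.mul_assoc, ← pow_two, hc', Matrix.mul_smul, Matrix.mul_one]
      have e2 : Zm' * (Zm' * Zm) = c • Zm := by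
        rw [← Matrix.mul_assoc, ← pow_two, hc', Matrix.smul_mul, Matrix.one_mul]
      rw [e1, e2, Matrix.mul_assoc Zm' Zm Zm']
      abel
    by_cases hS0 : Sm = 0
    · -- `z'` commutes with `z`
      refine ⟨x * z * x⁻¹, ?_, ?_, rfl⟩
      · intro h
        apply hz1
        have : z = x⁻¹ * (x * z * x⁻¹) * x := by group
        rw [this, h]; group
      · rw [← hZ', ← hZ, ← map_mul, ← map_mul]
        congr 1
        apply Units.ext
        rw [Matrix.GeneralLinearGroup.coe_mul, Matrix.GeneralLinearGroup.coe_mul]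
        have : Zm * Zm' - Zm' * Zm = 0 := hS0
        exact (sub_eq_zero.mp this).symm
    · by_cases hdet : Sm.det = 0
      · exfalso
        exact hsq (eigen_of_anticomm Sm Zm c hc hS0 hdet hanti)
      · set S : GG q := Matrix.GeneralLinearGroup.mkOfDetNeZero Sm hdet with hSdef
        have hSval : (S : Matrix (Fin 2) (Fin 2) (ZMod q)) = Sm := rfl
        refine ⟨pi q S, ?_, ?_, ?_⟩
        · intro h
          obtain ⟨e, he⟩ := (pi_eq_one_iff S).mp h
          rw [hSval] at he
          rw [he, Matrix.smul_mul, Matrix.one_mul, Matrix.mul_smul, Matrix.mul_one] at hanti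
          have h2e : (2 * e) • Zm = 0 := by
            rw [two_mul, add_smul]
            nth_rewrite 1 [hanti]
            rw [neg_add_cancel]
          have h2e' := smul_unit_eq_zero Z _ h2e
          have he0 : e = 0 := by
            rcases mul_eq_zero.mp h2e' with h | h
            · exact absurd h (two_ne_zero_zmod hq2)
            · exact h
          apply hS0
          rw [he, he0, zero_smul]
        · rw [← hZ]
          apply pi_comm_of_anti
          apply Units.ext
          rw [Units.val_neg, Matrix.GeneralLinearGroup.coe_mul, Matrix.GeneralLinearGroup.coe_mul,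
            hSval]
          exact hanti
        · rw [← hZ']
          apply pi_comm_of_anti
          apply Units.ext
          rw [Units.val_neg, Matrix.GeneralLinearGroup.coe_mul, Matrix.GeneralLinearGroup.coe_mul,
            hSval]
          exact hanti'


/-- Let q = 2^k − 1 ≥ 7 be a prime and let G = PGL(2,q), the general linear group of degree 2 over the field with q elements modulo its centre. Then any two Sylow 2-subgroups of G have a non-trivial intersection: for a Sylow 2-subgroup H and every x ∈ G, H ∩ H^x ≠ 1. -/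
theorem result {q k : ℕ} [Fact q.Prime] (hk : q + 1 = 2 ^ k) (hq : 7 ≤ q)
    (H : Sylow 2 (GL (Fin 2) (ZMod q) ⧸ Subgroup.center (GL (Fin 2) (ZMod q))))
    (x : GL (Fin 2) (ZMod q) ⧸ Subgroup.center (GL (Fin 2) (ZMod q))) :
    (H : Subgroup (GL (Fin 2) (ZMod q) ⧸ Subgroup.center (GL (Fin 2) (ZMod q)))) ⊓ MulAut.conj x • (H : Subgroup _) ≠ ⊥ := by
  exact main_aux hk hq H x


end Cfsg.Agent.S2485
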