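import Cfsg.Statements.S2486
import Cfsg.Agent.Lib.Helper65.SylowMeet
import Cfsg.Agent.Lib.Helper65.FlagF2

set_option autoImplicit false
open scoped Pointwise
open Cfsg

namespace Cfsg.Agent.S2486

/-- Let n ≥ 4 and let G be a finite group with a normal subgroup N of index 2 isomorphic to SL(n,2) and with trivial centralizer in G (so G is the extension of the simple group L_n(2) by its inverse-transpose automorphism, its full automorphism group). Then any two Sylow 2-subgroups of G have a non-trivial intersection: for a Sylow 2-subgroup H and every x ∈ G, H ∩ H^x ≠ 1. -/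
theorem result {G : Type*} [Group G] [Finite G] {n : ℕ} (hn : 4 ≤ n) (N : Subgroup G) [N.Normal]
    (e : N ≃* Matrix.SpecialLinearGroup (Fin n) (ZMod 2)) (hidx : N.index = 2)
    (hC : Subgroup.centralizer (N : Set G) = ⊥)
    (H : Sylow 2 G) (x : G) :
    (H : Subgroup G) ⊓ MulAut.conj x • (H : Subgroup G) ≠ ⊥ := by
  classical
  have : Fact (Nat.Prime 2) := ⟨Nat.prime_two⟩
  have hcard : Fintype.card (ZMod 2) = 2 ^ 1 := by
    rw [ZMod.card, pow_one]
  have hUp : IsPGroup 2 (Cfsg.Agent.Lib.Helper45.PSLAut.UU n (ZMod 2)) :=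
    Cfsg.Agent.Lib.Helper45.PSLAut.isPGroup_UU hcard
  -- the copy of `UU` inside `G`
  have hUtp : IsPGroup 2 (((Cfsg.Agent.Lib.Helper45.PSLAut.UU n (ZMod 2)).comap
      e.toMonoidHom).map N.subtype) := by
    apply IsPGroup.map
    exact hUp.comap_of_injective e.toMonoidHom e.injective
  obtain ⟨P0, hP0⟩ := hUtp.exists_le_sylow
  -- membership criterion
  have hmemUt : ∀ (v : Matrix.SpecialLinearGroup (Fin n) (ZMod 2)),
      v ∈ Cfsg.Agent.Lib.Helper45.PSLAut.UU n (ZMod 2) → ((e.symm v : N) : G) ∈ (P0 : Subgroup G) := by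
    intro v hv
    apply hP0
    rw [Subgroup.mem_map]
    refine ⟨e.symm v, ?_, rfl⟩
    rw [Subgroup.mem_comap]
    show e (e.symm v) ∈ _
    rw [MulEquiv.apply_symm_apply]
    exact hv
  have key : ∀ y : G, (P0 : Subgroup G) ⊓ MulAut.conj y • (P0 : Subgroup G) ≠ ⊥ := by
    intro y
    apply Cfsg.Agent.Lib.Helper65.SylowMeet.inf_conj_ne_bot N hidx P0
    intro m hm m' hm' hopp hopp'
    have hOpp : ∀ (k : G) (hk : k ∈ N),
        (∀ u ∈ (P0 : Subgroup G), u ∈ N → k * u * k⁻¹ ∈ (P0 : Subgroup G) → u = 1) →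
        Cfsg.Agent.Lib.Helper65.FlagF2.Opp (e ⟨k, hk⟩) := by
      intro k hk hko v hv hv'
      have h1 := hko ((e.symm v : N) : G) (hmemUt v hv) (e.symm v).2 (by
        have h2 := hmemUt _ hv'
        have h3 : e.symm (e ⟨k, hk⟩ * v * (e ⟨k, hk⟩)⁻¹) = ⟨k, hk⟩ * e.symm v * (⟨k, hk⟩ : N)⁻¹ := by
          rw [map_mul, map_mul, map_inv, MulEquiv.symm_apply_apply]
        rw [h3] at h2
        exact h2)
      have h4 : e.symm v = 1 := Subtype.ext h1
      have h5 : v = e 1 := by rw [← h4, MulEquiv.apply_symm_apply]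
      rw [h5, map_one]
    obtain ⟨a, ha, b, hb, hab⟩ :=
      Cfsg.Agent.Lib.Helper65.FlagF2.opp_double_coset (hOpp m hm hopp) (hOpp m' hm' hopp')
    refine ⟨((e.symm a : N) : G), hmemUt a ha, (e.symm a).2, ((e.symm b : N) : G), hmemUt b hb,
      (e.symm b).2, ?_⟩
    have h6 : (⟨m', hm'⟩ : N) = e.symm a * ⟨m, hm⟩ * e.symm b := by
      apply e.injective
      rw [map_mul, map_mul, MulEquiv.apply_symm_apply, MulEquiv.apply_symm_apply]
      exact hab
    have h7 := congrArg (fun z : N => (z : G)) h6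
    exact h7
  -- general Sylow subgroup
  obtain ⟨g, hg⟩ := MulAction.exists_smul_eq G P0 H
  have hH : (H : Subgroup G) = MulAut.conj g • (P0 : Subgroup G) := by
    rw [← hg, Sylow.coe_subgroup_smul]
  intro hbot
  apply key (g⁻¹ * x * g)
  rw [Subgroup.eq_bot_iff_forall]
  intro y hy
  obtain ⟨hy1, hy2⟩ := Subgroup.mem_inf.mp hy
  rw [Cfsg.Agent.Lib.Helper65.SylowMeet.mem_conj_smul_iff] at hy2
  have hz : g * y * g⁻¹ ∈ (H : Subgroup G) ⊓ MulAut.conj x • (H : Subgroup G) := by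
    refine Subgroup.mem_inf.mpr ⟨?_, ?_⟩
    · rw [hH, Cfsg.Agent.Lib.Helper65.SylowMeet.mem_conj_smul_iff]
      have : g⁻¹ * (g * y * g⁻¹) * g = y := by group
      rw [this]; exact hy1
    · rw [Cfsg.Agent.Lib.Helper65.SylowMeet.mem_conj_smul_iff, hH,
        Cfsg.Agent.Lib.Helper65.SylowMeet.mem_conj_smul_iff]
      have : g⁻¹ * (x⁻¹ * (g * y * g⁻¹) * x) * g = (g⁻¹ * x * g)⁻¹ * y * (g⁻¹ * x * g) := by group
      rw [this]; exact hy2
  rw [hbot, Subgroup.mem_bot] at hz
  have : y = g⁻¹ * (g * y * g⁻¹) * g := by group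
  rw [this, hz]; group

end Cfsg.Agent.S2486
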