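import Cfsg.Statements.S2488
import Mathlib

set_option autoImplicit false
open scoped Pointwise
open Cfsg

namespace Cfsg.Agent.S2488


open Equiv Equiv.Perm


abbrev S6 := Equiv.Perm (Fin 6)

theorem card_ct_22 : (Finset.univ.filter fun g : S6 => g.cycleType = {2, 2}).card = 45 := by
  rw [Equiv.Perm.card_of_cycleType]
  decide

theorem card_ct_3 : (Finset.univ.filter fun g : S6 => g.cycleType = {3}).card = 40 := by
  rw [Equiv.Perm.card_of_cycleType]
  decide

theorem card_ct_33 : (Finset.univ.filter fun g : S6 => g.cycleType = {3, 3}).card = 40 := by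
  rw [Equiv.Perm.card_of_cycleType]
  decide

theorem card_ct_5 : (Finset.univ.filter fun g : S6 => g.cycleType = {5}).card = 144 := by
  rw [Equiv.Perm.card_of_cycleType]
  decide




theorem ct_of_prime_order (σ : S6) (p : ℕ) (hp : p.Prime) (h : orderOf σ = p) :
    ∃ k, 1 ≤ k ∧ k * p ≤ 6 ∧ σ.cycleType = Multiset.replicate k p := by
  obtain ⟨n, hn⟩ := Equiv.Perm.cycleType_prime_order (σ := σ) (by rw [h]; exact hp)
  rw [h] at hn
  refine ⟨n + 1, by omega, ?_, hn⟩
  have := Equiv.Perm.sum_cycleType_le σ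
  rw [hn, Multiset.sum_replicate, Fintype.card_fin, smul_eq_mul] at this
  exact this

theorem ct_order_two (σ : S6) (h : orderOf σ = 2) (hs : Equiv.Perm.sign σ = 1) :
    σ.cycleType = {2, 2} := by
  obtain ⟨k, hk1, hk6, hk⟩ := ct_of_prime_order σ 2 Nat.prime_two h
  have hk3 : k = 1 ∨ k = 2 ∨ k = 3 := by omega
  rw [Equiv.Perm.sign_of_cycleType, hk] at hs
  rcases hk3 with rfl | rfl | rfl
  · exfalso; revert hs; decide
  · rw [hk]; rfl
  · exfalso; revert hs; decide

theorem ct_order_three (σ : S6) (h : orderOf σ = 3) :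
    σ.cycleType = {3} ∨ σ.cycleType = {3, 3} := by
  obtain ⟨k, hk1, hk6, hk⟩ := ct_of_prime_order σ 3 Nat.prime_three h
  have hk3 : k = 1 ∨ k = 2 := by omega
  rcases hk3 with rfl | rfl
  · left; rw [hk]; rfl
  · right; rw [hk]; rfl

theorem ct_order_five (σ : S6) (h : orderOf σ = 5) :
    σ.cycleType = {5} := by
  obtain ⟨k, hk1, hk6, hk⟩ := ct_of_prime_order σ 5 Nat.prime_five h
  have hk3 : k = 1 := by omega
  subst hk3
  rw [hk]; rfl

theorem odd_order (σ : S6) (h : Odd (orderOf σ)) :
    orderOf σ = 1 ∨ orderOf σ = 3 ∨ orderOf σ = 5 := by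
  have hparts : ∀ c ∈ σ.cycleType, c = 3 ∨ c = 5 := by
    intro c hc
    have h2 := Equiv.Perm.two_le_of_mem_cycleType hc
    have hd := Equiv.Perm.dvd_of_mem_cycleType hc
    have hodd : Odd c := Odd.of_dvd_nat h hd
    have hle : c ≤ 6 := by
      have h1 := Multiset.le_sum_of_mem hc
      have h2 := Equiv.Perm.sum_cycleType_le σ
      rw [Fintype.card_fin] at h2
      omega
    rcases hodd with ⟨j, rfl⟩
    omega
  have hsum := Equiv.Perm.sum_cycleType_le σ
  rw [Fintype.card_fin] at hsum
  rw [← Equiv.Perm.lcm_cycleType]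
  by_cases h5 : 5 ∈ σ.cycleType
  · obtain ⟨m', hm'⟩ := Multiset.exists_cons_of_mem h5
    have hm0 : m' = 0 := by
      by_contra hne
      obtain ⟨c, hc⟩ := Multiset.exists_mem_of_ne_zero hne
      have hc' : c ∈ σ.cycleType := by rw [hm']; exact Multiset.mem_cons_of_mem hc
      have h1 := Multiset.le_sum_of_mem hc
      rw [hm', Multiset.sum_cons] at hsum
      rcases hparts c hc' with rfl | rfl <;> omega
    rw [hm', hm0]
    right; right; rfl
  · have hall : ∀ c ∈ σ.cycleType, c = 3 := by
      intro c hc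
      rcases hparts c hc with rfl | rfl
      · rfl
      · exact absurd hc h5
    have hrep := Multiset.eq_replicate_card.mpr hall
    set k := Multiset.card σ.cycleType with hk
    rw [hrep, Multiset.sum_replicate, smul_eq_mul] at hsum
    rw [hrep]
    have hk3 : k = 0 ∨ k = 1 ∨ k = 2 := by omega
    rcases hk3 with h0 | h0 | h0 <;> rw [h0]
    · left; rfl
    · right; left; rfl
    · right; left; rfl

theorem card_centralizer_22 (σ : S6) (h : σ.cycleType = {2, 2}) :
    Nat.card (Subgroup.centralizer {σ}) = 16 := by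
  rw [Equiv.Perm.nat_card_centralizer, h]
  decide

theorem card_centralizer_3 (σ : S6) (h : σ.cycleType = {3}) :
    Nat.card (Subgroup.centralizer {σ}) = 18 := by
  rw [Equiv.Perm.nat_card_centralizer, h]
  decide

theorem card_centralizer_33 (σ : S6) (h : σ.cycleType = {3, 3}) :
    Nat.card (Subgroup.centralizer {σ}) = 18 := by
  rw [Equiv.Perm.nat_card_centralizer, h]
  decide

theorem card_centralizer_5 (σ : S6) (h : σ.cycleType = {5}) :
    Nat.card (Subgroup.centralizer {σ}) = 5 := by
  rw [Equiv.Perm.nat_card_centralizer, h]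
  decide

theorem index_centralizer_le {G : Type*} [Group G] [Finite G] (u : G) (S : Set G)
    (hS : ∀ x : G, x * u * x⁻¹ ∈ S) : (Subgroup.centralizer {u}).index ≤ S.ncard := by
  classical
  rw [Subgroup.index_eq_card]
  show Nat.card (G ⧸ Subgroup.centralizer {u}) ≤ Nat.card S
  have hwd : ∀ a b : G, (QuotientGroup.leftRel (Subgroup.centralizer {u})) a b →
      (⟨a * u * a⁻¹, hS a⟩ : S) = ⟨b * u * b⁻¹, hS b⟩ := by
    intro a b hab
    rw [QuotientGroup.leftRel_apply, Subgroup.mem_centralizer_singleton_iff] at hab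
    apply Subtype.ext
    simp only []
    calc a * u * a⁻¹ = a * (u * (a⁻¹ * b)) * (a⁻¹ * b)⁻¹ * a⁻¹ := by group
      _ = a * ((a⁻¹ * b) * u) * (a⁻¹ * b)⁻¹ * a⁻¹ := by rw [hab]
      _ = b * u * b⁻¹ := by group
  let f : G ⧸ Subgroup.centralizer {u} → S := fun q =>
    Quotient.liftOn' q (fun x => (⟨x * u * x⁻¹, hS x⟩ : S)) hwd
  apply Nat.card_le_card_of_injective f
  intro q1 q2
  induction q1 using QuotientGroup.induction_on with | _ a => ?_
  induction q2 using QuotientGroup.induction_on with | _ b => ?_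
  intro h
  have h' : a * u * a⁻¹ = b * u * b⁻¹ := congrArg Subtype.val h
  apply QuotientGroup.eq.mpr
  rw [Subgroup.mem_centralizer_singleton_iff]
  calc a⁻¹ * b * u = a⁻¹ * (b * u * b⁻¹) * b := by group
    _ = a⁻¹ * (a * u * a⁻¹) * b := by rw [h']
    _ = u * (a⁻¹ * b) := by group


/-! ### counts by order in `S6` -/

theorem count_order_two :
    (Finset.univ.filter fun σ : S6 => orderOf σ = 2 ∧ Equiv.Perm.sign σ = 1).card ≤ 45 := by
  rw [← card_ct_22]
  apply Finset.card_le_card
  intro σ hσ
  simp only [Finset.mem_filter, Finset.mem_univ, true_and] at hσ ⊢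
  exact ct_order_two σ hσ.1 hσ.2

theorem count_order_three :
    (Finset.univ.filter fun σ : S6 => orderOf σ = 3 ∧ Equiv.Perm.sign σ = 1).card ≤ 80 := by
  have h : (Finset.univ.filter fun σ : S6 => orderOf σ = 3 ∧ Equiv.Perm.sign σ = 1) ⊆
      (Finset.univ.filter fun g : S6 => g.cycleType = {3}) ∪
        (Finset.univ.filter fun g : S6 => g.cycleType = {3, 3}) := by
    intro σ hσ
    simp only [Finset.mem_filter, Finset.mem_univ, true_and, Finset.mem_union] at hσ ⊢
    exact ct_order_three σ hσ.1
  calc _ ≤ _ := Finset.card_le_card h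
    _ ≤ _ := Finset.card_union_le _ _
    _ = 80 := by rw [card_ct_3, card_ct_33]

theorem count_order_five :
    (Finset.univ.filter fun σ : S6 => orderOf σ = 5 ∧ Equiv.Perm.sign σ = 1).card ≤ 144 := by
  rw [← card_ct_5]
  apply Finset.card_le_card
  intro σ hσ
  simp only [Finset.mem_filter, Finset.mem_univ, true_and] at hσ ⊢
  exact ct_order_five σ hσ.1

section setting

variable {G : Type*} [Group G] (N : Subgroup G)
  (e : N ≃* alternatingGroup (Fin 6))

/-- the embedding of `N` in `S6` -/
def psi : N →* S6 := (alternatingGroup (Fin 6)).subtype.comp e.toMonoidHom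

theorem psi_inj : Function.Injective (psi N e) := by
  intro a b h
  have : (e a : S6) = e b := h
  exact e.injective (Subtype.ext this)

theorem psi_sign (g : N) : Equiv.Perm.sign (psi N e g) = 1 :=
  Equiv.Perm.mem_alternatingGroup.mp (e g).2

theorem psi_order (g : N) : orderOf (psi N e g) = orderOf (g : G) := by
  rw [orderOf_injective (psi N e) (psi_inj N e) g, Subgroup.orderOf_coe]

include e in
theorem card_N : Nat.card N = 360 := by
  rw [Nat.card_congr e.toEquiv, nat_card_alternatingGroup]
  simp [Nat.factorial]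

include e in
theorem card_G (hidx : N.index = 4) : Nat.card G = 1440 := by
  rw [← N.card_mul_index, card_N N e, hidx]

/-- elements of `N` of order `m`, as a set in `G` -/
def ordSet (m : ℕ) : Set G := {g | g ∈ N ∧ orderOf g = m}

include e in
theorem ordSet_ncard_le [Finite G] (m : ℕ) :
    (ordSet N m).ncard ≤
      (Finset.univ.filter fun σ : S6 => orderOf σ = m ∧ Equiv.Perm.sign σ = 1).card := by
  classical
  rw [← Fintype.card_subtype]
  show Nat.card (ordSet N m) ≤ _
  rw [← Nat.card_eq_fintype_card]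
  let f : ordSet N m → {σ : S6 // orderOf σ = m ∧ Equiv.Perm.sign σ = 1} := fun g =>
    ⟨psi N e ⟨g.1, g.2.1⟩, by rw [psi_order]; exact g.2.2, psi_sign N e _⟩
  apply Nat.card_le_card_of_injective f
  intro a b hab
  have h1 : psi N e ⟨a.1, a.2.1⟩ = psi N e ⟨b.1, b.2.1⟩ :=
    congrArg (fun x : {σ : S6 // orderOf σ = m ∧ Equiv.Perm.sign σ = 1} => (x : S6)) hab
  have h2 := psi_inj N e h1
  exact Subtype.ext (congrArg (fun x : N => (x : G)) h2)

end setting


section setting2

variable {G : Type*} [Group G] [Finite G] (N : Subgroup G) [N.Normal]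
  (e : N ≃* alternatingGroup (Fin 6))

/-- class bound -/
theorem class_bound (u : G) (hu : u ∈ N) :
    Nat.card G ≤ Nat.card (Subgroup.centralizer {u}) * (ordSet N (orderOf u)).ncard := by
  rw [← (Subgroup.centralizer {u}).card_mul_index]
  apply Nat.mul_le_mul_left
  apply index_centralizer_le
  intro x
  refine ⟨?_, ?_⟩
  · exact ‹N.Normal›.conj_mem u hu x
  · have := (MulAut.conj x).orderOf_eq u
    simpa [MulAut.conj_apply] using this

/-- the part of the centralizer inside `N` -/
theorem card_inf_dvd (u : G) (hu : u ∈ N) :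
    Nat.card (Subgroup.centralizer {u} ⊓ N : Subgroup G) ∣
      Nat.card (Subgroup.centralizer {psi N e ⟨u, hu⟩}) := by
  let M : Subgroup G := Subgroup.centralizer {u} ⊓ N
  let f : M →* S6 := (psi N e).comp (Subgroup.inclusion (inf_le_right : M ≤ N))
  have hf : ∀ x : M, f x ∈ Subgroup.centralizer {psi N e ⟨u, hu⟩} := by
    intro x
    rw [Subgroup.mem_centralizer_singleton_iff]
    have hx : (x : G) * u = u * x := Subgroup.mem_centralizer_singleton_iff.mp x.2.1
    show psi N e (Subgroup.inclusion _ x) * psi N e ⟨u, hu⟩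
      = psi N e ⟨u, hu⟩ * psi N e (Subgroup.inclusion _ x)
    rw [← map_mul, ← map_mul]
    congr 1
    apply Subtype.ext
    exact hx
  let f' : M →* Subgroup.centralizer {psi N e ⟨u, hu⟩} := f.codRestrict _ hf
  apply Subgroup.card_dvd_of_injective f'
  intro a b hab
  have h1 : f a = f b :=
    congrArg (fun x : Subgroup.centralizer {psi N e ⟨u, hu⟩} => (x : S6)) hab
  have h2 := psi_inj N e h1
  exact Subgroup.inclusion_injective _ h2

theorem card_centralizer_eq (u : G) :
    Nat.card (Subgroup.centralizer {u}) =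
      Nat.card (Subgroup.centralizer {u} ⊓ N : Subgroup G) *
        N.relIndex (Subgroup.centralizer {u}) := by
  have := Subgroup.relIndex_mul_relIndex (⊥ : Subgroup G) (Subgroup.centralizer {u} ⊓ N)
    (Subgroup.centralizer {u}) bot_le inf_le_left
  rw [Subgroup.relIndex_bot_left, Subgroup.relIndex_bot_left, Subgroup.inf_relIndex_left] at this
  exact this.symm


include e in
theorem card_centralizer_involution (hidx : N.index = 4) (z : G) (hz : z ∈ N)
    (hz2 : orderOf z = 2) : Nat.card (Subgroup.centralizer {z}) = 32 := by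
  have ho : orderOf (psi N e ⟨z, hz⟩) = 2 := by rw [psi_order]; exact hz2
  have hct := ct_order_two _ ho (psi_sign N e _)
  have hs := card_centralizer_22 _ hct
  have h1 := card_inf_dvd N e z hz
  rw [hs] at h1
  have h2 : Nat.card (Subgroup.centralizer {z} ⊓ N : Subgroup G) ∣ 360 := by
    rw [← card_N N e]
    exact Subgroup.card_dvd_of_le inf_le_right
  have h3 : Nat.card (Subgroup.centralizer {z} ⊓ N : Subgroup G) ∣ 8 := by
    have := Nat.dvd_gcd h1 h2
    norm_num at this
    exact this
  have h4 : N.relIndex (Subgroup.centralizer {z}) ∣ 4 := by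
    rw [← hidx]; exact Subgroup.relIndex_dvd_index_of_normal N _
  have h5 : Nat.card (Subgroup.centralizer {z}) ∣ 32 := by
    rw [card_centralizer_eq N z]
    exact mul_dvd_mul h3 h4
  have h6 := class_bound N z hz
  rw [card_G N e hidx, hz2] at h6
  have h7 := (ordSet_ncard_le N e 2).trans count_order_two
  have h8 : 32 ≤ Nat.card (Subgroup.centralizer {z}) := by
    by_contra hlt
    push Not at hlt
    have : Nat.card (Subgroup.centralizer {z}) * (ordSet N 2).ncard ≤ 31 * 45 :=
      Nat.mul_le_mul (by omega) h7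
    omega
  exact le_antisymm (Nat.le_of_dvd (by norm_num) h5) h8

include e in
theorem even_card_centralizer (hidx : N.index = 4) (u : G) (hu : u ∈ N)
    (hm : orderOf u = 3 ∨ orderOf u = 5) : Even (Nat.card (Subgroup.centralizer {u})) := by
  by_contra hodd
  rw [Nat.not_even_iff_odd] at hodd
  have hceq := card_centralizer_eq N u
  rw [hceq] at hodd
  have hoddM := (Nat.odd_mul.mp hodd).1
  have hoddj := (Nat.odd_mul.mp hodd).2
  have h4 : N.relIndex (Subgroup.centralizer {u}) ∣ 4 := by
    rw [← hidx]; exact Subgroup.relIndex_dvd_index_of_normal N _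
  have hj1 : N.relIndex (Subgroup.centralizer {u}) = 1 := by
    have hle : N.relIndex (Subgroup.centralizer {u}) ≤ 4 := Nat.le_of_dvd (by norm_num) h4
    rcases hoddj with ⟨t, ht⟩
    interval_cases hj : N.relIndex (Subgroup.centralizer {u}) <;> first | rfl | omega
  rw [hj1, mul_one] at hceq
  have h1 := card_inf_dvd N e u hu
  have h6 := class_bound N u hu
  rw [card_G N e hidx, hceq] at h6
  rcases hm with hm | hm
  · have ho : orderOf (psi N e ⟨u, hu⟩) = 3 := by rw [psi_order]; exact hm
    have hs : Nat.card (Subgroup.centralizer {psi N e ⟨u, hu⟩}) = 18 := by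
      rcases ct_order_three _ ho with h | h
      · exact card_centralizer_3 _ h
      · exact card_centralizer_33 _ h
    rw [hs] at h1
    have h9 : Nat.card (Subgroup.centralizer {u} ⊓ N : Subgroup G) ∣ 9 := by
      have hcop : Nat.Coprime (Nat.card (Subgroup.centralizer {u} ⊓ N : Subgroup G)) 2 :=
        Nat.Coprime.symm (Nat.coprime_two_left.mpr hoddM)
      have : (18 : ℕ) = 2 * 9 := by norm_num
      rw [this] at h1
      exact hcop.dvd_of_dvd_mul_left h1
    have hle : Nat.card (Subgroup.centralizer {u} ⊓ N : Subgroup G) ≤ 9 :=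
      Nat.le_of_dvd (by norm_num) h9
    rw [hm] at h6
    have h7 := (ordSet_ncard_le N e 3).trans count_order_three
    have : Nat.card (Subgroup.centralizer {u} ⊓ N : Subgroup G) * (ordSet N 3).ncard ≤ 9 * 80 :=
      Nat.mul_le_mul hle h7
    omega
  · have ho : orderOf (psi N e ⟨u, hu⟩) = 5 := by rw [psi_order]; exact hm
    have hs := card_centralizer_5 _ (ct_order_five _ ho)
    rw [hs] at h1
    have hle : Nat.card (Subgroup.centralizer {u} ⊓ N : Subgroup G) ≤ 5 :=
      Nat.le_of_dvd (by norm_num) h1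
    rw [hm] at h6
    have h7 := (ordSet_ncard_le N e 5).trans count_order_five
    have : Nat.card (Subgroup.centralizer {u} ⊓ N : Subgroup G) * (ordSet N 5).ncard ≤ 5 * 144 :=
      Nat.mul_le_mul hle h7
    omega

end setting2



/-- an involution normalizing a subgroup of even order centralizes a non-trivial element of it -/
theorem exists_fixed {G : Type*} [Group G] (C : Subgroup G) [Finite C] (z : G) (hz : z * z = 1)
    (hnorm : ∀ c ∈ C, z * c * z⁻¹ ∈ C) (heven : Even (Nat.card C)) :
    ∃ t ∈ C, t ≠ 1 ∧ z * t * z⁻¹ = t := by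
  classical
  haveI : Fintype C := Fintype.ofFinite C
  have hzinv : z⁻¹ = z := inv_eq_of_mul_eq_one_left hz
  let f : Function.End C := fun c => ⟨z * c * z⁻¹, hnorm c c.2⟩
  have hf2 : f ^ 2 ^ 1 = 1 := by
    rw [pow_one, pow_two]
    funext c
    apply Subtype.ext
    show z * (z * (c : G) * z⁻¹) * z⁻¹ = c
    rw [hzinv]
    calc z * (z * (c : G) * z) * z = (z * z) * c * (z * z) := by group
      _ = c := by rw [hz, one_mul, mul_one]
  haveI : Fact (Nat.Prime 2) := ⟨Nat.prime_two⟩
  have hmod := Equiv.Perm.card_fixedPoints_modEq (p := 2) (n := 1) hf2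
  rw [Nat.card_eq_fintype_card] at heven
  have hfe : Even (Fintype.card (Function.fixedPoints f)) := by
    have h0 : Fintype.card C % 2 = 0 := Nat.even_iff.mp heven
    have h1 : Fintype.card (Function.fixedPoints f) % 2 = 0 := by
      rw [← hmod]; exact h0
    exact Nat.even_iff.mpr h1
  by_contra hne
  push Not at hne
  have hsub : ∀ x : Function.fixedPoints f, x = ⟨1, by
      show f 1 = 1
      apply Subtype.ext
      show z * ((1 : C) : G) * z⁻¹ = ((1 : C) : G)
      simp⟩ := by
    intro x
    apply Subtype.ext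
    apply Subtype.ext
    by_contra hx1
    have hx : f x.1 = x.1 := x.2
    have hx' : z * (x.1 : G) * z⁻¹ = x.1 := congrArg Subtype.val hx
    exact hne x.1.1 x.1.2 hx1 hx'
  have hcard : Fintype.card (Function.fixedPoints f) = 1 :=
    Fintype.card_eq_one_iff.mpr ⟨_, hsub⟩
  rw [hcard] at hfe
  exact absurd hfe (by decide)



theorem conj_smul_centralizer {G : Type*} [Group G] (g z : G) :
    MulAut.conj g • Subgroup.centralizer {z} = Subgroup.centralizer {g * z * g⁻¹} := by
  ext h
  rw [Subgroup.mem_pointwise_smul_iff_inv_smul_mem, Subgroup.mem_centralizer_singleton_iff,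
    Subgroup.mem_centralizer_singleton_iff]
  simp only [MulAut.smul_def, ← map_inv, MulAut.conj_apply, inv_inv]
  constructor
  · intro hh
    calc h * (g * z * g⁻¹) = g * (g⁻¹ * h * g * z) * g⁻¹ := by group
      _ = g * (z * (g⁻¹ * h * g)) * g⁻¹ := by rw [hh]
      _ = g * z * g⁻¹ * h := by group
  · intro hh
    calc g⁻¹ * h * g * z = g⁻¹ * (h * (g * z * g⁻¹)) * g := by group
      _ = g⁻¹ * (g * z * g⁻¹ * h) * g := by rw [hh]
      _ = z * (g⁻¹ * h * g) := by group


section setting3

variable {G : Type*} [Group G] [Finite G] (N : Subgroup G) [N.Normal]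
  (e : N ≃* alternatingGroup (Fin 6))

include e in
theorem sylow_eq_centralizer (hidx : N.index = 4) (H : Sylow 2 G) :
    ∃ z : G, z ∈ N ∧ orderOf z = 2 ∧ (H : Subgroup G) = Subgroup.centralizer {z} := by
  have h2N : 2 ∣ Nat.card N := by rw [card_N N e]; norm_num
  obtain ⟨z0, hz0⟩ := exists_prime_orderOf_dvd_card' 2 h2N
  have hz0' : orderOf (z0 : G) = 2 := by rw [Subgroup.orderOf_coe]; exact hz0
  have hC := card_centralizer_involution N e hidx z0 z0.2 hz0'
  have hCp : IsPGroup 2 (Subgroup.centralizer {(z0 : G)}) :=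
    IsPGroup.of_card (n := 5) (by rw [hC]; norm_num)
  obtain ⟨Q, hQ⟩ := hCp.exists_le_sylow
  have hQcard : Nat.card Q ≤ 32 := by
    obtain ⟨n, hn⟩ := IsPGroup.iff_card.mp Q.isPGroup'
    have hdvd : Nat.card Q ∣ 1440 := by
      rw [← card_G N e hidx]; exact Subgroup.card_subgroup_dvd_card _
    rw [hn] at hdvd ⊢
    by_contra hlt
    push Not at hlt
    have hn6 : 6 ≤ n := by
      by_contra h
      push Not at h
      have : 2 ^ n ≤ 2 ^ 5 := Nat.pow_le_pow_right (by norm_num) (by omega)
      omega
    have : 2 ^ 6 ∣ 1440 := dvd_trans (pow_dvd_pow 2 hn6) hdvd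
    norm_num at this
  have hQeq : Subgroup.centralizer {(z0 : G)} = Q :=
    Subgroup.eq_of_le_of_card_ge hQ (by rw [hC]; exact hQcard)
  obtain ⟨g, hg⟩ := MulAction.exists_smul_eq G Q H
  refine ⟨g * z0 * g⁻¹, ‹N.Normal›.conj_mem _ z0.2 g, ?_, ?_⟩
  · have := (MulAut.conj g).orderOf_eq (z0 : G)
    rw [MulAut.conj_apply] at this
    rw [this, hz0']
  · rw [← hg, Sylow.coe_subgroup_smul, ← hQeq, conj_smul_centralizer]

include e in
theorem main_aux (hidx : N.index = 4) (H : Sylow 2 G) (x : G) :
    (H : Subgroup G) ⊓ MulAut.conj x • (H : Subgroup G) ≠ ⊥ := by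
  obtain ⟨z, hzN, hz2, hH⟩ := sylow_eq_centralizer N e hidx H
  rw [hH, conj_smul_centralizer]
  set z' := x * z * x⁻¹ with hz'
  have hz'N : z' ∈ N := ‹N.Normal›.conj_mem _ hzN x
  have hzz : z * z = 1 := by
    have := pow_orderOf_eq_one z
    rw [hz2, pow_two] at this
    exact this
  have hz1 : z ≠ 1 := by
    intro h; rw [h, orderOf_one] at hz2; omega
  have hz'z' : z' * z' = 1 := by
    rw [hz']
    calc x * z * x⁻¹ * (x * z * x⁻¹) = x * (z * z) * x⁻¹ := by group
      _ = 1 := by rw [hzz]; group
  have hzinv : z⁻¹ = z := inv_eq_of_mul_eq_one_left hzz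
  have hz'inv : z'⁻¹ = z' := inv_eq_of_mul_eq_one_left hz'z'
  -- it suffices to find `t ≠ 1` commuting with both
  suffices hs : ∃ t : G, t ≠ 1 ∧ t * z = z * t ∧ t * z' = z' * t by
    obtain ⟨t, ht1, htz, htz'⟩ := hs
    intro hbot
    have : t ∈ Subgroup.centralizer {z} ⊓ Subgroup.centralizer {z'} :=
      ⟨Subgroup.mem_centralizer_singleton_iff.mpr htz,
        Subgroup.mem_centralizer_singleton_iff.mpr htz'⟩
    rw [hbot, Subgroup.mem_bot] at this
    exact ht1 this
  set u := z * z' with hu
  have huN : u ∈ N := N.mul_mem hzN hz'N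
  have huinv : u⁻¹ = z' * z := by rw [hu, mul_inv_rev, hzinv, hz'inv]
  have hzu : z * u * z⁻¹ = u⁻¹ := by
    rw [huinv, hu, hzinv]
    calc z * (z * z') * z = (z * z) * z' * z := by group
      _ = z' * z := by rw [hzz, one_mul]
  have hz'u : z' * u * z'⁻¹ = u⁻¹ := by
    rw [huinv, hu, hz'inv]
    calc z' * (z * z') * z' = z' * z * (z' * z') := by group
      _ = z' * z := by rw [hz'z', mul_one]
  rcases Nat.even_or_odd (orderOf u) with hev | hodd
  · -- even order: the central involution of the dihedral group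
    obtain ⟨j, hj⟩ := hev
    have hj' : orderOf u = 2 * j := by rw [hj]; ring
    have hpos : 0 < orderOf u := orderOf_pos u
    have hjpos : 0 < j := by omega
    refine ⟨u ^ j, ?_, ?_, ?_⟩
    · exact pow_ne_one_of_lt_orderOf hjpos.ne' (by omega)
    · -- `z u^j z⁻¹ = u^{-j} = u^j`
      have h1 : z * u ^ j * z⁻¹ = (u⁻¹) ^ j := by
        rw [← hzu, conj_pow]
      have h2 : (u⁻¹) ^ j = u ^ j := by
        rw [inv_pow, inv_eq_iff_mul_eq_one, ← pow_add, ← two_mul, ← hj']
        exact pow_orderOf_eq_one u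
      rw [h2] at h1
      calc u ^ j * z = (z * u ^ j * z⁻¹) * z := by rw [h1]
        _ = z * u ^ j := by group
    · have h1 : z' * u ^ j * z'⁻¹ = (u⁻¹) ^ j := by
        rw [← hz'u, conj_pow]
      have h2 : (u⁻¹) ^ j = u ^ j := by
        rw [inv_pow, inv_eq_iff_mul_eq_one, ← pow_add, ← two_mul, ← hj']
        exact pow_orderOf_eq_one u
      rw [h2] at h1
      calc u ^ j * z' = (z' * u ^ j * z'⁻¹) * z' := by rw [h1]
        _ = z' * u ^ j := by group
  · -- odd order
    have ho : Odd (orderOf (psi N e ⟨u, huN⟩)) := by rw [psi_order]; exact hodd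
    have h135 := odd_order _ ho
    rw [psi_order] at h135
    simp only [] at h135
    rcases h135 with h1 | h35
    · -- `u = 1`, so `z' = z`
      have hu1 : u = 1 := orderOf_eq_one_iff.mp h1
      have hzz' : z' = z := by
        have : z' = z⁻¹ * u := by rw [hu]; group
        rw [this, hu1, mul_one, hzinv]
      exact ⟨z, hz1, rfl, by rw [hzz']⟩
    · have heven := even_card_centralizer N e hidx u huN h35
      have hnorm : ∀ c ∈ Subgroup.centralizer {u}, z * c * z⁻¹ ∈ Subgroup.centralizer {u} := by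
        intro c hc
        rw [Subgroup.mem_centralizer_singleton_iff] at hc ⊢
        have hcu' : c * u⁻¹ = u⁻¹ * c := by
          calc c * u⁻¹ = u⁻¹ * (u * c) * u⁻¹ := by group
            _ = u⁻¹ * (c * u) * u⁻¹ := by rw [hc]
            _ = u⁻¹ * c := by group
        have hzu' : z⁻¹ * u * z = u⁻¹ := by
          rw [hzinv]; rw [hzinv] at hzu; exact hzu
        calc z * c * z⁻¹ * u = z * (c * (z⁻¹ * u * z)) * z⁻¹ := by group
          _ = z * (c * u⁻¹) * z⁻¹ := by rw [hzu']
          _ = z * (u⁻¹ * c) * z⁻¹ := by rw [hcu']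
          _ = (z * u * z⁻¹)⁻¹ * (z * c * z⁻¹) := by group
          _ = u * (z * c * z⁻¹) := by rw [hzu, inv_inv]
      obtain ⟨t, htC, ht1, htz⟩ := exists_fixed (Subgroup.centralizer {u}) z hzz hnorm heven
      rw [Subgroup.mem_centralizer_singleton_iff] at htC
      have htz' : t * z = z * t := by
        calc t * z = (z * t * z⁻¹) * z := by rw [htz]
          _ = z * t := by group
      refine ⟨t, ht1, htz', ?_⟩
      have hz'eq : z' = z * u := by
        rw [hu, ← mul_assoc, hzz, one_mul]
      rw [hz'eq, ← mul_assoc, htz', mul_assoc, htC, ← mul_assoc]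

end setting3


/-- Let G be a finite group with a normal subgroup N of index 4 isomorphic to the alternating group of degree 6 and with trivial centralizer in G (so G is the full automorphism group of A₆). Then any two Sylow 2-subgroups of G have a non-trivial intersection: for a Sylow 2-subgroup H and every x ∈ G, H ∩ H^x ≠ 1. -/
theorem result {G : Type*} [Group G] [Finite G] (N : Subgroup G) [N.Normal]
    (e : N ≃* alternatingGroup (Fin 6)) (hidx : N.index = 4)
    (hC : Subgroup.centralizer (N : Set G) = ⊥)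
    (H : Sylow 2 G) (x : G) :
    (H : Subgroup G) ⊓ MulAut.conj x • (H : Subgroup G) ≠ ⊥ := by
  exact main_aux N e hidx H x


end Cfsg.Agent.S2488
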