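import Mathlib
import Cfsg.Statements.S2490
import Cfsg.Agent.Lib.Helper41.PG7CaseII5

set_option autoImplicit false
open Cfsg

namespace Cfsg.Agent.S2490

open Cfsg.Agent.Lib.Helper41

/-- Let G be a finite group of order 7920 = 2⁴·3²·5·11 (the order of the smallest Mathieu group) and suppose its prime graph (vertices the prime divisors of the order, distinct p, q joined when there is an element of order pq) is disconnected: the prime divisors split into two non-empty parts with no element of order pq for p in one part and q in the other. Then G is simple. -/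
theorem result {G : Type*} [Group G] [Finite G] (hord : Nat.card G = 7920)
    (hdisc : (∃ A : Set ℕ, (∃ a ∈ A, a.Prime ∧ a ∣ Nat.card G) ∧ (∃ b ∉ A, b.Prime ∧ b ∣ Nat.card G) ∧
      ∀ a ∈ A, ∀ b ∉ A, a.Prime → b.Prime → a ∣ Nat.card G → b ∣ Nat.card G → ¬ ∃ g : G, orderOf g = a * b)) :
    IsSimpleGroup G := by
  by_cases h112 : Pg7Adj G 11 2
  swap
  · exact pg7_simple_of_not_adj_11_2 hord h112
  obtain ⟨A, ⟨a, haA, hap, had⟩, ⟨b, hbA, hbp, hbd⟩, hAB⟩ := hdisc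
  rw [hord] at had hbd
  have hsep : ∀ p q : ℕ, p.Prime → q.Prime → p ∣ 7920 → q ∣ 7920 → p ∈ A → q ∉ A →
      ¬ Pg7Adj G p q ∧ ¬ Pg7Adj G q p := by
    intro p q hp hq hpd hqd hpA hqA
    have := hAB p hpA q hqA hp hq (by rw [hord]; exact hpd) (by rw [hord]; exact hqd)
    exact ⟨this, fun h => this (pg7Adj_comm.mp h)⟩
  have p2 : Nat.Prime 2 := by norm_num
  have p3 : Nat.Prime 3 := by norm_num
  have p5 : Nat.Prime 5 := by norm_num
  have p11 : Nat.Prime 11 := by norm_num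
  have d2 : 2 ∣ 7920 := by norm_num
  have d3 : 3 ∣ 7920 := by norm_num
  have d5 : 5 ∣ 7920 := by norm_num
  have d11 : 11 ∣ 7920 := by norm_num
  have ha4 := pg7_prime_dvd_7920 hap had
  have hb4 := pg7_prime_dvd_7920 hbp hbd
  by_cases m2 : 2 ∈ A <;> by_cases m11 : 11 ∈ A
  · -- 2, 11 ∈ A
    by_cases m3 : 3 ∈ A <;> by_cases m5 : 5 ∈ A
    · exfalso
      rcases hb4 with rfl | rfl | rfl | rfl <;> contradiction
    · exact pg7_simple_of_5_isolated hord h112 (hsep 2 5 p2 p5 d2 d5 m2 m5).2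
        (hsep 3 5 p3 p5 d3 d5 m3 m5).2 (hsep 11 5 p11 p5 d11 d5 m11 m5).2
    · exact (pg7_caseII3 hord h112 (hsep 2 3 p2 p3 d2 d3 m2 m3).2
        (hsep 11 3 p11 p3 d11 d3 m11 m3).2 (Or.inl (hsep 5 3 p5 p3 d5 d3 m5 m3).2)).elim
    · exact (pg7_caseII3 hord h112 (hsep 2 3 p2 p3 d2 d3 m2 m3).2
        (hsep 11 3 p11 p3 d11 d3 m11 m3).2 (Or.inr ⟨(hsep 2 5 p2 p5 d2 d5 m2 m5).2,
          (hsep 11 5 p11 p5 d11 d5 m11 m5).2⟩)).elim
  · exact absurd h112 (hsep 2 11 p2 p11 d2 d11 m2 m11).2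
  · exact absurd h112 (hsep 11 2 p11 p2 d11 d2 m11 m2).1
  · -- 2, 11 ∉ A
    by_cases m3 : 3 ∈ A <;> by_cases m5 : 5 ∈ A
    · exact (pg7_caseII3 hord h112 (hsep 3 2 p3 p2 d3 d2 m3 m2).1
        (hsep 3 11 p3 p11 d3 d11 m3 m11).1 (Or.inr ⟨(hsep 5 2 p5 p2 d5 d2 m5 m2).1,
          (hsep 5 11 p5 p11 d5 d11 m5 m11).1⟩)).elim
    · exact (pg7_caseII3 hord h112 (hsep 3 2 p3 p2 d3 d2 m3 m2).1
        (hsep 3 11 p3 p11 d3 d11 m3 m11).1 (Or.inl (hsep 3 5 p3 p5 d3 d5 m3 m5).1)).elim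
    · exact pg7_simple_of_5_isolated hord h112 (hsep 5 2 p5 p2 d5 d2 m5 m2).1
        (hsep 5 3 p5 p3 d5 d3 m5 m3).1 (hsep 5 11 p5 p11 d5 d11 m5 m11).1
    · exfalso
      rcases ha4 with rfl | rfl | rfl | rfl <;> contradiction

end Cfsg.Agent.S2490
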