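import Cfsg.Statements.S2495
-- import your own Cfsg.Agent.* helpers here
import Mathlib
import Cfsg.Agent.Lib.Helper40.Singer
import Cfsg.Agent.Lib.Helper40.PSLCharAdj
import Cfsg.Agent.Lib.Helper99.Zsigmondy

set_option autoImplicit false
open Cfsg

namespace Cfsg.Agent.S2495

open Cfsg.Agent.Lib.Helper40 Cfsg.Agent.S2364 Module

/-- arithmetic for the existence direction -/
theorem arith_back (q m i : ℕ) (hq : Odd q) (hq3 : 3 ≤ q) (hm : 1 ≤ m) :
    2 ^ padicValNat 2 (q - 1) * (q ^ m + 1) ∣ i * (q - 1) ↔ q ^ m + 1 ∣ i := by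
  set a := padicValNat 2 (q - 1) with ha
  have hq10 : q - 1 ≠ 0 := by omega
  obtain ⟨u, hu⟩ : 2 ^ a ∣ q - 1 := pow_padicValNat_dvd
  have hu2 : ¬ 2 ∣ u := by
    rintro ⟨w, rfl⟩
    have : 2 ^ (a + 1) ∣ q - 1 := ⟨w, by rw [hu, pow_succ]; ring⟩
    exact pow_succ_padicValNat_not_dvd hq10 this
  have h2a : 0 < 2 ^ a := by positivity
  have hqm : 1 ≤ q ^ m := Nat.one_le_pow _ _ (by omega)
  have hcop : Nat.Coprime (q ^ m + 1) u := by
    have hg1 : Nat.gcd (q ^ m + 1) u ∣ q ^ m - 1 :=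
      dvd_trans (Nat.gcd_dvd_right _ _)
        (dvd_trans ⟨2 ^ a, by rw [hu]; ring⟩ (Nat.sub_one_dvd_pow_sub_one q m))
    have hg2 : Nat.gcd (q ^ m + 1) u ∣ q ^ m + 1 := Nat.gcd_dvd_left _ _
    have hg3 : Nat.gcd (q ^ m + 1) u ∣ 2 := by
      have := Nat.dvd_sub hg2 hg1
      have h2 : q ^ m + 1 - (q ^ m - 1) = 2 := by omega
      rwa [h2] at this
    have hg4 : ¬ 2 ∣ Nat.gcd (q ^ m + 1) u := fun h => hu2 (dvd_trans h (Nat.gcd_dvd_right _ _))
    rcases (Nat.dvd_prime Nat.prime_two).mp hg3 with h | h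
    · exact h
    · rw [h] at hg4
      exact absurd dvd_rfl hg4
  rw [hu]
  have : i * (2 ^ a * u) = 2 ^ a * (i * u) := by ring
  rw [this, Nat.mul_dvd_mul_iff_left h2a]
  constructor
  · intro h
    exact hcop.dvd_of_dvd_mul_right h
  · intro h
    exact dvd_mul_of_dvd_left h u

/-- arithmetic for the converse direction -/
theorem arith_forw (q m o : ℕ) (hq : Odd q) (hq3 : 3 ≤ q) (hm : 1 ≤ m) (ho : 0 < o)
    (h1 : o ∣ (q ^ m + 1) * (q - 1)) (h2 : ¬ o ∣ (q ^ m + 1) / 2 * (q - 1))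
    (h3 : o * (q - 1) ∣ (q ^ m + 1) * (q ^ m - 1)) :
    2 * padicValNat 2 (q - 1) ≤ padicValNat 2 (q ^ m - 1) := by
  have hq10 : q - 1 ≠ 0 := by omega
  have hqm3 : 3 ≤ q ^ m :=
    le_trans (by simpa using Nat.pow_le_pow_left hq3 1) (Nat.pow_le_pow_right (by omega) hm)
  have hqm0 : q ^ m - 1 ≠ 0 := by omega
  have hN0 : q ^ m + 1 ≠ 0 := by omega
  have hNeven : 2 ∣ q ^ m + 1 := by
    have : Odd (q ^ m) := hq.pow
    exact even_iff_two_dvd.mp (this.add_odd odd_one)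
  obtain ⟨N2, hN2⟩ := hNeven
  obtain ⟨s, hs⟩ := h1
  have hs0 : s ≠ 0 := by
    rintro rfl
    rw [mul_zero] at hs
    exact (Nat.mul_ne_zero hN0 hq10) hs
  have hsodd : ¬ 2 ∣ s := by
    rintro ⟨s', rfl⟩
    apply h2
    refine ⟨s', ?_⟩
    rw [hN2, Nat.mul_div_cancel_left _ (by norm_num : 0 < 2)]
    have : 2 * (N2 * (q - 1)) = 2 * (o * s') := by
      rw [← mul_assoc, ← hN2, hs]; ring
    exact Nat.eq_of_mul_eq_mul_left (by norm_num) this
  have hv1 : padicValNat 2 (q ^ m + 1) + padicValNat 2 (q - 1) = padicValNat 2 o := by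
    rw [← padicValNat.mul hN0 hq10, hs, padicValNat.mul ho.ne' hs0,
      padicValNat.eq_zero_of_not_dvd hsodd, add_zero]
  have hv2 : padicValNat 2 (o * (q - 1)) ≤ padicValNat 2 ((q ^ m + 1) * (q ^ m - 1)) := by
    have hne : (q ^ m + 1) * (q ^ m - 1) ≠ 0 := Nat.mul_ne_zero hN0 hqm0
    rw [← padicValNat_dvd_iff_le hne]
    exact dvd_trans pow_padicValNat_dvd h3
  rw [padicValNat.mul ho.ne' hq10, padicValNat.mul hN0 hqm0] at hv2
  omega

/-- the converse direction -/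
theorem forward {F : Type*} [Field F] [Fintype F] (hodd : Odd (Fintype.card F)) (n m : ℕ)
    (hn : n = 2 * m) (hm : 2 ≤ m)
    (X : Matrix.SpecialLinearGroup (Fin n) F)
    (hX : orderOf (QuotientGroup.mk X : Matrix.ProjectiveSpecialLinearGroup (Fin n) F) =
      Fintype.card F ^ m + 1) :
    2 * padicValNat 2 (Fintype.card F - 1) ≤ padicValNat 2 (Fintype.card F ^ m - 1) := by
  classical
  set q := Fintype.card F with hq
  have hq2 : 2 ≤ q := Fintype.one_lt_card
  have hq3 : 3 ≤ q := by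
    rcases hodd with ⟨k, hk⟩
    omega
  have hq1 : 1 ≤ q := by omega
  obtain ⟨N, hN⟩ : ∃ N, N = q ^ m + 1 := ⟨_, rfl⟩
  rw [← hN] at hX
  obtain ⟨g, hg⟩ : ∃ g : Matrix.ProjectiveSpecialLinearGroup (Fin n) F,
    g = QuotientGroup.mk X := ⟨_, rfl⟩
  rw [← hg] at hX
  obtain ⟨o, ho⟩ : ∃ o, o = orderOf X := ⟨_, rfl⟩
  have ho0 : 0 < o := by rw [ho]; exact orderOf_pos X
  -- `N ∣ o`
  have hNo : N ∣ o := by
    rw [← hX]
    apply orderOf_dvd_of_pow_eq_one
    rw [hg, ← QuotientGroup.mk_pow, ho, pow_orderOf_eq_one]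
    rfl
  -- Zsigmondy prime
  obtain ⟨r, hr, hrdvd, hrmin⟩ := Cfsg.Agent.Lib.Helper99.zsigmondy q n (by omega) (by omega)
    (by rintro ⟨h, -⟩; omega) (by rintro ⟨h, -⟩; omega)
  have : Fact r.Prime := ⟨hr⟩
  have hord : orderOf ((q : ℕ) : ZMod r) = n := by
    have h1 : orderOf ((q : ℕ) : ZMod r) ∣ n := (dvd_pow_sub_one_iff hq1 n).mp hrdvd
    have h2 : r ∣ q ^ orderOf ((q : ℕ) : ZMod r) - 1 := (dvd_pow_sub_one_iff hq1 _).mpr dvd_rfl
    have h3 : 0 < orderOf ((q : ℕ) : ZMod r) := Nat.pos_of_dvd_of_pos h1 (by omega)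
    by_contra hne
    have h4 : orderOf ((q : ℕ) : ZMod r) < n :=
      lt_of_le_of_ne (Nat.le_of_dvd (by omega) h1) hne
    exact hrmin _ h3 h4 h2
  have hfac : q ^ n - 1 = N * (q ^ m - 1) := by
    have h1 : 1 ≤ q ^ m := Nat.one_le_pow _ _ hq1
    rw [hn, hN, two_mul, pow_add]
    zify [h1, Nat.one_le_pow _ _ hq1, (Nat.mul_le_mul h1 h1 : 1 * 1 ≤ q ^ m * q ^ m)]
    ring
  have hrN : r ∣ N := by
    rw [hfac] at hrdvd
    rcases (Nat.Prime.dvd_mul hr).mp hrdvd with h | h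
    · exact h
    · exact absurd h (hrmin m (by omega) (by omega))
  have hro : r ∣ o := dvd_trans hrN hNo
  have hrq : ¬ r ∣ q := by
    intro h
    have h1 : r ∣ q ^ n := dvd_pow h (by omega)
    have h2 : 1 ≤ q ^ n := Nat.one_le_pow _ _ hq1
    have h3 : r ∣ q ^ n - (q ^ n - 1) := Nat.dvd_sub h1 hrdvd
    have h4 : q ^ n - (q ^ n - 1) = 1 := by omega
    rw [h4] at h3
    exact hr.one_lt.ne' (Nat.dvd_one.mp h3)
  have hrF : (r : F) ≠ 0 := by
    obtain ⟨p, hp⟩ := CharP.exists F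
    have hpp : p.Prime := CharP.char_is_prime F p
    have : Fact p.Prime := ⟨hpp⟩
    intro h0
    have h1 : p ∣ r := (CharP.cast_eq_zero_iff F p r).mp h0
    have h2 : p = r := (Nat.prime_dvd_prime_iff_eq hpp hr).mp h1
    have h3 : p ∣ q := by
      have : (q : F) = 0 := by rw [hq]; exact Nat.cast_card_eq_zero F
      exact (CharP.cast_eq_zero_iff F p q).mp this
    exact hrq (h2 ▸ h3)
  -- linear maps
  let Xl : Module.End F (Fin n → F) := Matrix.toLin' (X : Matrix (Fin n) (Fin n) F)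
  have hXlpow : ∀ i : ℕ, Xl ^ i = Matrix.toLin' ((X : Matrix (Fin n) (Fin n) F) ^ i) := by
    intro i
    have := map_pow (Matrix.toLinAlgEquiv' (R := F) (n := Fin n)) (X : Matrix (Fin n) (Fin n) F) i
    exact this.symm
  have hXpow1 : ∀ i : ℕ, (X : Matrix (Fin n) (Fin n) F) ^ i = 1 ↔ o ∣ i := by
    intro i
    rw [ho, orderOf_dvd_iff_pow_eq_one]
    constructor
    · intro h
      apply Subtype.ext
      exact h
    · intro h
      have := congrArg (fun Z : Matrix.SpecialLinearGroup (Fin n) F =>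
        (Z : Matrix (Fin n) (Fin n) F)) h
      exact this
  have hXl1 : ∀ i : ℕ, Xl ^ i = 1 ↔ o ∣ i := by
    intro i
    rw [hXlpow, ← hXpow1]
    constructor
    · intro h
      apply (Matrix.toLinAlgEquiv' (R := F) (n := Fin n)).injective
      rw [map_one]
      exact h
    · intro h
      rw [h]
      exact map_one (Matrix.toLinAlgEquiv' (R := F) (n := Fin n))
  let Yl : Module.End F (Fin n → F) := Xl ^ (o / r)
  have hYr : Yl ^ r = 1 := by
    rw [← pow_mul, hXl1, Nat.div_mul_cancel hro]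
  have hY1 : Yl ≠ 1 := by
    intro h
    have h1 : o ∣ o / r := (hXl1 _).mp h
    have h2 : o / r < o := Nat.div_lt_self ho0 hr.one_lt
    have h3 : 0 < o / r := Nat.div_pos (Nat.le_of_dvd ho0 hro) hr.pos
    exact absurd (Nat.le_of_dvd h3 h1) (by omega)
  have hfin : finrank F (Fin n → F) = n := Module.finrank_fin_fun F
  have hirr : ∀ U : Submodule F (Fin n → F), (∀ v ∈ U, Yl v ∈ U) → U = ⊥ ∨ U = ⊤ := by
    intro U hU
    exact irreducible_of_prime_order r hrF (by rw [hfin]; exact hord) Yl hYr hY1 U hU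
  have hcomm : Commute Yl Xl := (Commute.refl Xl).pow_left _
  have : Nontrivial (Fin n → F) := by
    have : Nonempty (Fin n) := ⟨⟨0, by omega⟩⟩
    infer_instance
  have hdetl : LinearMap.det Xl = 1 := by
    rw [LinearMap.det_toLin']
    exact X.2
  -- `o ∣ M`
  have hM := pow_eq_one_of_commute_irreducible_of_det Yl hirr Xl hcomm hdetl
  rw [hXl1, hfin] at hM
  have h3 : o * (q - 1) ∣ N * (q ^ m - 1) := by
    rw [← hfac]
    have hdvd : q - 1 ∣ q ^ n - 1 := Nat.sub_one_dvd_pow_sub_one q n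
    obtain ⟨w, hw⟩ := hM
    rw [← Nat.div_mul_cancel hdvd, hw]
    exact ⟨w, by ring⟩
  -- scalars
  have hscal : ∀ i : ℕ, o ∣ i * (q - 1) → g ^ i = 1 := by
    intro i hi
    have h1 : (Xl ^ i) ^ (q - 1) = 1 := by rw [← pow_mul, hXl1]; exact hi
    obtain ⟨c, hc⟩ := exists_smul_of_commute_irreducible Yl hirr (Xl ^ i)
      (hcomm.pow_right i) h1
    rw [hg, mk_pow_eq_one_iff]
    refine ⟨c, ?_⟩
    apply (Matrix.toLinAlgEquiv' (R := F) (n := Fin n)).injective
    rw [map_smul, map_one]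
    rw [hXlpow] at hc
    exact hc
  have h2 : ¬ o ∣ N / 2 * (q - 1) := by
    intro h
    have h1 := orderOf_dvd_of_pow_eq_one (hscal _ h)
    rw [hX] at h1
    have hN2 : 2 ≤ N := by
      have : 1 ≤ q ^ m := Nat.one_le_pow _ _ hq1
      omega
    have h4 : N / 2 < N := Nat.div_lt_self (by omega) (by norm_num)
    have h5 : 0 < N / 2 := Nat.div_pos hN2 (by norm_num)
    exact absurd (Nat.le_of_dvd h5 h1) (by omega)
  have h1 : o ∣ N * (q - 1) := by
    have hgN : g ^ N = 1 := by rw [← hX]; exact pow_orderOf_eq_one g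
    rw [hg, mk_pow_eq_one_iff] at hgN
    obtain ⟨c, hc⟩ := hgN
    have hc0 : c ≠ 0 := by
      intro h0
      rw [h0, zero_smul] at hc
      have h5 : ((X : Matrix (Fin n) (Fin n) F) ^ N).det = 1 := by
        rw [Matrix.det_pow, X.2, one_pow]
      rw [hc] at h5
      have : Nonempty (Fin n) := ⟨⟨0, by omega⟩⟩
      rw [Matrix.det_zero] at h5
      exact zero_ne_one h5
    rw [← hXpow1, pow_mul, hc, smul_pow, one_pow, FiniteField.pow_card_sub_one_eq_one c hc0,
      one_smul]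
  rw [hN] at h1 h2 h3
  exact arith_forw q m o hodd hq3 (by omega) ho0 h1 h2 h3

/-- the existence direction -/
theorem backward {F : Type*} [Field F] [Fintype F] (hodd : Odd (Fintype.card F)) (n m : ℕ)
    (hn : n = 2 * m) (hm : 2 ≤ m)
    (h : 2 * padicValNat 2 (Fintype.card F - 1) ≤ padicValNat 2 (Fintype.card F ^ m - 1)) :
    ∃ g : Matrix.ProjectiveSpecialLinearGroup (Fin n) F, orderOf g = Fintype.card F ^ m + 1 := by
  classical
  set q := Fintype.card F with hq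
  have hq2 : 2 ≤ q := Fintype.one_lt_card
  have hq3 : 3 ≤ q := by
    rcases hodd with ⟨k, hk⟩
    omega
  have hq1 : 1 ≤ q := by omega
  obtain ⟨p, hp⟩ := CharP.exists F
  have : Fact p.Prime := ⟨CharP.char_is_prime F p⟩
  obtain ⟨t, ht⟩ := two_pow_mul_dvd_of_le q m hq3 (by omega) h
  have hfac : q ^ n - 1 = (q ^ m + 1) * (q ^ m - 1) := by
    have h1 : 1 ≤ q ^ m := Nat.one_le_pow _ _ hq1
    rw [hn, two_mul, pow_add]
    zify [h1, (Nat.mul_le_mul h1 h1 : 1 * 1 ≤ q ^ m * q ^ m)]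
    ring
  have hot : q ^ n - 1 = 2 ^ padicValNat 2 (q - 1) * (q ^ m + 1) * t * (q - 1) := by
    rw [hfac, ht]
    ring
  obtain ⟨X, hX⟩ := exists_SL_singer (F := F) p n (by omega) _ t hot
  refine ⟨QuotientGroup.mk X, ?_⟩
  apply orderOf_eq_of_pow_eq_one_iff_dvd
  intro i
  rw [mk_pow_eq_one_iff, hX i]
  exact arith_back q m i hodd hq3 (by omega)


/-- Let q be an odd prime power, n ≥ 4 even, and L = PSL(n,q). Then L has an element of order q^(n/2) + 1 if and only if the 2-part of n exceeds the 2-part of q − 1. -/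
theorem result {F : Type*} [Field F] [Fintype F] {q : ℕ} (hF : Fintype.card F = q) (hodd : Odd q)
    {n : ℕ} (hn : 4 ≤ n) (heven : Even n) :
    (∃ g : Matrix.ProjectiveSpecialLinearGroup (Fin n) F, orderOf g = q ^ (n / 2) + 1) ↔
      padicValNat 2 (q - 1) < padicValNat 2 n := by
  subst hF
  obtain ⟨m, hm⟩ := heven
  have hn2 : n = 2 * m := by omega
  have hdiv : n / 2 = m := by omega
  rw [hdiv]
  have hq3 : 3 ≤ Fintype.card F := by
    have hq2 : 2 ≤ Fintype.card F := Fintype.one_lt_card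
    rcases hodd with ⟨k, hk⟩
    omega
  have key := two_adic_key (Fintype.card F) m hodd hq3 (by omega)
  rw [← hn2] at key
  constructor
  · rintro ⟨g, hg⟩
    obtain ⟨X, rfl⟩ := QuotientGroup.mk_surjective g
    exact key.mp (forward hodd n m hn2 (by omega) X hg)
  · intro h
    exact backward hodd n m hn2 (by omega) (key.mpr h)

end Cfsg.Agent.S2495
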