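import Cfsg.Statements.S2496
-- import your own Cfsg.Agent.* helpers here
import Mathlib
import Cfsg.Agent.Lib.Helper40.UnitaryTorusC
import Cfsg.Agent.Lib.Helper40.Singer
import Cfsg.Agent.Lib.Helper40.SylowTorus
import Cfsg.Agent.Lib.Helper99.Zsigmondy

set_option autoImplicit false
open Cfsg

namespace Cfsg.Agent.S2496

open Cfsg.Agent.Lib.Helper40 Matrix

/-- general 2-adic consequence -/
theorem arith_forw_gen (N c T o : ℕ) (hN : 2 ∣ N) (hN0 : N ≠ 0) (hc0 : c ≠ 0) (hT0 : T ≠ 0)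
    (ho : 0 < o) (h1 : o ∣ N * c) (h2 : ¬ o ∣ N / 2 * c) (h3 : o * c ∣ T) :
    padicValNat 2 N + 2 * padicValNat 2 c ≤ padicValNat 2 T := by
  obtain ⟨N2, hN2⟩ := hN
  obtain ⟨s, hs⟩ := h1
  have hs0 : s ≠ 0 := by
    rintro rfl
    rw [mul_zero] at hs
    exact (Nat.mul_ne_zero hN0 hc0) hs
  have hsodd : ¬ 2 ∣ s := by
    rintro ⟨s', rfl⟩
    apply h2
    refine ⟨s', ?_⟩
    rw [hN2, Nat.mul_div_cancel_left _ (by norm_num : 0 < 2)]
    have : 2 * (N2 * c) = 2 * (o * s') := by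
      rw [← mul_assoc, ← hN2, hs]; ring
    exact Nat.eq_of_mul_eq_mul_left (by norm_num) this
  have hv1 : padicValNat 2 N + padicValNat 2 c = padicValNat 2 o := by
    rw [← padicValNat.mul hN0 hc0, hs, padicValNat.mul ho.ne' hs0,
      padicValNat.eq_zero_of_not_dvd hsodd, add_zero]
  have hv2 : padicValNat 2 (o * c) ≤ padicValNat 2 T := by
    rw [← padicValNat_dvd_iff_le hT0]
    exact dvd_trans pow_padicValNat_dvd h3
  rw [padicValNat.mul ho.ne' hc0] at hv2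
  omega

theorem succ_dvd_pow_sub_one_of_even (q m : ℕ) (hm : Even m) : q + 1 ∣ q ^ m - 1 := by
  obtain ⟨j, rfl⟩ := hm
  have h1 : q ^ (j + j) = (q ^ 2) ^ j := by rw [← pow_mul, two_mul]
  rw [h1]
  refine dvd_trans ?_ (Nat.sub_one_dvd_pow_sub_one (q ^ 2) j)
  rcases Nat.eq_zero_or_pos q with rfl | hq
  · simp
  · refine ⟨q - 1, ?_⟩
    have : 1 ≤ q ^ 2 := Nat.one_le_pow _ _ hq
    zify [this, hq]
    ring

/-- arithmetic for the existence direction -/
theorem arith_back (q m i : ℕ) (hq : Odd q) (hq3 : 3 ≤ q) (hm : Even m) :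
    2 ^ padicValNat 2 (q + 1) * (q ^ m + 1) ∣ i * (q + 1) ↔ q ^ m + 1 ∣ i := by
  set a := padicValNat 2 (q + 1) with ha
  have hq10 : q + 1 ≠ 0 := by omega
  obtain ⟨u, hu⟩ : 2 ^ a ∣ q + 1 := pow_padicValNat_dvd
  have hu2 : ¬ 2 ∣ u := by
    rintro ⟨w, rfl⟩
    have : 2 ^ (a + 1) ∣ q + 1 := ⟨w, by rw [hu, pow_succ]; ring⟩
    exact pow_succ_padicValNat_not_dvd hq10 this
  have h2a : 0 < 2 ^ a := by positivity
  have hqm : 1 ≤ q ^ m := Nat.one_le_pow _ _ (by omega)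
  have hcop : Nat.Coprime (q ^ m + 1) u := by
    have hg1 : Nat.gcd (q ^ m + 1) u ∣ q ^ m - 1 :=
      dvd_trans (Nat.gcd_dvd_right _ _)
        (dvd_trans ⟨2 ^ a, by rw [hu]; ring⟩ (succ_dvd_pow_sub_one_of_even q m hm))
    have hg2 : Nat.gcd (q ^ m + 1) u ∣ q ^ m + 1 := Nat.gcd_dvd_left _ _
    have hg3 : Nat.gcd (q ^ m + 1) u ∣ 2 := by
      have := Nat.dvd_sub hg2 hg1
      have h2 : q ^ m + 1 - (q ^ m - 1) = 2 := by omega
      rwa [h2] at this
    have hg4 : ¬ 2 ∣ Nat.gcd (q ^ m + 1) u := fun h => hu2 (dvd_trans h (Nat.gcd_dvd_right _ _))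
    rcases (Nat.dvd_prime Nat.prime_two).mp hg3 with h | h
    · exact h
    · rw [h] at hg4
      exact absurd dvd_rfl hg4
  rw [hu]
  have : i * (2 ^ a * u) = 2 ^ a * (i * u) := by ring
  rw [this, Nat.mul_dvd_mul_iff_left h2a]
  constructor
  · intro h
    exact hcop.dvd_of_dvd_mul_right h
  · intro h
    exact dvd_mul_of_dvd_left h u

/-- divisibility from the `2`-adic inequality -/
theorem two_pow_mul_dvd (q m : ℕ) (hq3 : 3 ≤ q) (hm : Even m) (hm1 : 1 ≤ m)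
    (h : 2 * padicValNat 2 (q + 1) ≤ padicValNat 2 (q ^ m - 1)) :
    2 ^ padicValNat 2 (q + 1) * (q + 1) ∣ q ^ m - 1 := by
  set a := padicValNat 2 (q + 1) with ha
  have hq10 : q + 1 ≠ 0 := by omega
  obtain ⟨u, hu⟩ : 2 ^ a ∣ q + 1 := pow_padicValNat_dvd
  have hu2 : ¬ 2 ∣ u := by
    rintro ⟨w, rfl⟩
    have : 2 ^ (a + 1) ∣ q + 1 := ⟨w, by rw [hu, pow_succ]; ring⟩
    exact pow_succ_padicValNat_not_dvd hq10 this
  have hqm0 : q ^ m - 1 ≠ 0 := by
    have : 3 ^ 1 ≤ q ^ m := le_trans (Nat.pow_le_pow_left hq3 1) (Nat.pow_le_pow_right (by omega) hm1)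
    omega
  have h1 : 2 ^ (2 * a) ∣ q ^ m - 1 := (padicValNat_dvd_iff_le hqm0).mpr h
  have h2 : u ∣ q ^ m - 1 := dvd_trans ⟨2 ^ a, by rw [hu]; ring⟩ (succ_dvd_pow_sub_one_of_even q m hm)
  have hcop : Nat.Coprime (2 ^ (2 * a)) u := by
    apply Nat.Coprime.pow_left
    exact (Nat.Prime.coprime_iff_not_dvd Nat.prime_two).mpr hu2
  have h3 := hcop.mul_dvd_of_dvd_of_dvd h1 h2
  have h4 : 2 ^ a * (q + 1) = 2 ^ (2 * a) * u := by
    rw [hu, two_mul, pow_add]; ring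
  rw [h4]
  exact h3

theorem orderOf_neg_of_even {R : Type*} [CommRing R] (x : R) (m : ℕ) (hm : Even m) (hm0 : 0 < m)
    (hord : orderOf x = 2 * m) : orderOf (-x) = 2 * m := by
  have h1 : (-x) ^ (2 * m) = 1 := by
    rw [Even.neg_pow (by simp), ← hord, pow_orderOf_eq_one]
  have h2 : ∀ j : ℕ, (-x) ^ j = 1 → 2 * m ∣ j := by
    intro j hj
    have h3 : x ^ (2 * j) = 1 := by
      rw [pow_mul, ← neg_sq x, ← pow_mul, mul_comm, pow_mul, hj, one_pow]
    have h4 : 2 * m ∣ 2 * j := by rw [← hord]; exact orderOf_dvd_of_pow_eq_one h3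
    have h5 : m ∣ j := Nat.dvd_of_mul_dvd_mul_left (by norm_num) h4
    have h6 : Even j := by
      obtain ⟨w, hw⟩ := h5
      rw [hw]
      exact hm.mul_right w
    rw [Even.neg_pow h6] at hj
    rw [← hord]
    exact orderOf_dvd_of_pow_eq_one hj
  exact Nat.dvd_antisymm (orderOf_dvd_of_pow_eq_one h1) (h2 _ (pow_orderOf_eq_one _))

theorem orderOf_neg_of_odd {R : Type*} [CommRing R] (x : R) (m : ℕ) (hm : Odd m)
    (h11 : (-1 : R) ≠ 1) (hord : orderOf x = m) : orderOf (-x) = 2 * m := by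
  have h1 : (-x) ^ (2 * m) = 1 := by
    rw [Even.neg_pow (by simp), mul_comm, pow_mul, ← hord, pow_orderOf_eq_one, one_pow]
  have h2 : ∀ j : ℕ, (-x) ^ j = 1 → 2 * m ∣ j := by
    intro j hj
    have h3 : x ^ (2 * j) = 1 := by
      rw [pow_mul, ← neg_sq x, ← pow_mul, mul_comm, pow_mul, hj, one_pow]
    have h4 : m ∣ 2 * j := by rw [← hord]; exact orderOf_dvd_of_pow_eq_one h3
    have hcop : Nat.Coprime m 2 := Nat.coprime_two_right.mpr hm
    have h5 : m ∣ j := hcop.dvd_of_dvd_mul_left h4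
    have h7 : x ^ j = 1 := by
      rw [← hord] at h5
      exact orderOf_dvd_iff_pow_eq_one.mp h5
    have h6 : Even j := by
      by_contra hne
      rw [Nat.not_even_iff_odd] at hne
      rw [Odd.neg_pow hne, h7] at hj
      exact h11 hj
    have h8 : 2 ∣ j := even_iff_two_dvd.mp h6
    have := Nat.Coprime.mul_dvd_of_dvd_of_dvd hcop.symm h8 h5
    exact this
  exact Nat.dvd_antisymm (orderOf_dvd_of_pow_eq_one h1) (h2 _ (pow_orderOf_eq_one _))

/-- the converse direction: a `2`-adic inequality from an element of order `N` -/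
theorem forward {F : Type*} [Field F] [Fintype F] (p : ℕ) [Fact p.Prime] [CharP F p] (k : ℕ)
    (hF : Fintype.card F = (p ^ k) ^ 2) (n' : ℕ) (hne : Even (n' + 1))
    (N : ℕ) (hNeven : 2 ∣ N) (hN0 : N ≠ 0) (hq3 : 3 ≤ p ^ k)
    (r : ℕ) (hr : r.Prime) (hrN : r ∣ N) (hrp : r ≠ p)
    (he : orderOf (-((p ^ k : ℕ) : ZMod r)) = n' + 1)
    (X : ↥(Cfsg.SU (n' + 1) F (p ^ k)))
    (hX : orderOf (QuotientGroup.mk X : Cfsg.PSU (n' + 1) F (p ^ k)) = N) :
    padicValNat 2 N + 2 * padicValNat 2 (p ^ k + 1) ≤ padicValNat 2 ((p ^ k) ^ (n' + 1) - 1) := by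
  classical
  have hpp : p.Prime := Fact.out
  have hq1 : 1 ≤ (p ^ k) := by omega
  have hq0 : (p ^ k) ≠ 0 := by omega
  obtain ⟨g, hg⟩ : ∃ g : Cfsg.PSU (n' + 1) F (p ^ k), g = QuotientGroup.mk X := ⟨_, rfl⟩
  rw [← hg] at hX
  have : Finite ↥(Cfsg.SU (n' + 1) F (p ^ k)) := inferInstance
  obtain ⟨o, ho⟩ : ∃ o, o = orderOf X := ⟨_, rfl⟩
  have ho0 : 0 < o := by rw [ho]; exact orderOf_pos X
  set Xm : Matrix (Fin (n' + 1)) (Fin (n' + 1)) F :=
    ((X : Matrix.SpecialLinearGroup (Fin (n' + 1)) F) : Matrix (Fin (n' + 1)) (Fin (n' + 1)) F) with hXm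
  have hcoe : ∀ i : ℕ, (((X ^ i : ↥(Cfsg.SU (n' + 1) F (p ^ k))) : Matrix.SpecialLinearGroup (Fin (n' + 1)) F) :
      Matrix (Fin (n' + 1)) (Fin (n' + 1)) F) = Xm ^ i := by
    intro i
    rw [hXm, Subgroup.coe_pow, Matrix.SpecialLinearGroup.coe_pow]
  have hXpow1 : ∀ i : ℕ, Xm ^ i = 1 ↔ o ∣ i := by
    intro i
    rw [ho, orderOf_dvd_iff_pow_eq_one, ← hcoe]
    constructor
    · intro h
      apply Subtype.ext
      apply Subtype.ext
      exact h
    · intro h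
      rw [h]
      rfl
  have hunit : ∀ i : ℕ, (Xm ^ i)ᵀ * (Xm ^ i).map (· ^ (p ^ k)) = 1 := by
    intro i
    rw [← hcoe]
    exact transpose_mul_map_of_mem_SU (p ^ k) hq0 _ (X ^ i).2
  have hdet : Xm.det = 1 := (X : Matrix.SpecialLinearGroup (Fin (n' + 1)) F).2
  -- `N ∣ o`
  have hNo : N ∣ o := by
    rw [← hX]
    apply orderOf_dvd_of_pow_eq_one
    rw [hg, ← QuotientGroup.mk_pow, ho, pow_orderOf_eq_one]
    rfl
  have hro : r ∣ o := dvd_trans hrN hNo
  -- the element of order `r`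
  set Y : Matrix (Fin (n' + 1)) (Fin (n' + 1)) F := Xm ^ (o / r) with hY
  have hYr : Y ^ r = 1 := by
    rw [hY, ← pow_mul, hXpow1, Nat.div_mul_cancel hro]
  have hY1 : Y ≠ 1 := by
    intro h
    have h1 : o ∣ o / r := (hXpow1 _).mp h
    have h2 : o / r < o := Nat.div_lt_self ho0 hr.one_lt
    have h3 : 0 < o / r := Nat.div_pos (Nat.le_of_dvd ho0 hro) hr.pos
    exact absurd (Nat.le_of_dvd h3 h1) (by omega)
  have hYu : Yᵀ * Y.map (· ^ (p ^ k)) = 1 := hunit _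
  have hYX : ∀ i : ℕ, Y * Xm ^ i = Xm ^ i * Y := by
    intro i
    rw [hY, ← pow_add, ← pow_add, Nat.add_comm (o / r) i]
  have hfacts := fun i : ℕ => unitary_torus_facts p k hF r hr hrp (n := n' + 1) (by omega) hne Y (Xm ^ i)
    hYu hYr hY1 (hunit i) (hYX i) he
  -- `o * ((p ^ k) + 1) ∣ (p ^ k) ^ (n' + 1) - 1`
  have hdvd : (p ^ k) + 1 ∣ (p ^ k) ^ (n' + 1) - 1 := succ_dvd_pow_sub_one_of_even (p ^ k) (n' + 1) hne
  have h3 : o * ((p ^ k) + 1) ∣ (p ^ k) ^ (n' + 1) - 1 := by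
    obtain ⟨M, hM⟩ := hdvd
    have h4 := (hfacts 1).2 (by rw [pow_one]; exact hdet) M hM.symm
    rw [pow_one, hXpow1] at h4
    rw [hM, mul_comm]
    exact Nat.mul_dvd_mul_left _ h4
  -- scalars
  have hscal : ∀ i : ℕ, o ∣ i * ((p ^ k) + 1) → g ^ i = 1 := by
    intro i hi
    have h1 : (Xm ^ i) ^ ((p ^ k) + 1) = 1 := by rw [← pow_mul, hXpow1]; exact hi
    obtain ⟨c, hc⟩ := (hfacts i).1 h1
    rw [hg, mk_pow_eq_one_iff_PSU hF]
    exact ⟨c, hc⟩
  have h2 : ¬ o ∣ N / 2 * ((p ^ k) + 1) := by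
    intro h
    have h1 := orderOf_dvd_of_pow_eq_one (hscal _ h)
    rw [hX] at h1
    have hN2 : 2 ≤ N := Nat.le_of_dvd (Nat.pos_of_ne_zero hN0) hNeven
    have h4 : N / 2 < N := Nat.div_lt_self (by omega) (by norm_num)
    have h5 : 0 < N / 2 := Nat.div_pos hN2 (by norm_num)
    exact absurd (Nat.le_of_dvd h5 h1) (by omega)
  have h1 : o ∣ N * ((p ^ k) + 1) := by
    have hgN : g ^ N = 1 := by rw [← hX]; exact pow_orderOf_eq_one g
    rw [hg, mk_pow_eq_one_iff_PSU hF] at hgN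
    obtain ⟨c, hc⟩ := hgN
    have hu := hunit N
    change (Xm ^ N)ᵀ * (Xm ^ N).map (· ^ (p ^ k)) = 1 at hu
    have hc' : Xm ^ N = c • 1 := hc
    rw [hc'] at hu
    have hcc : c * c ^ (p ^ k) = 1 := by
      have h6 := congrFun (congrFun hu 0) 0
      rw [Matrix.mul_apply, Finset.sum_eq_single (0 : Fin (n' + 1))] at h6
      · simpa using h6
      · intro x _ hx0
        simp [hx0]
      · simp
    rw [← hXpow1, pow_mul, hc', smul_pow, one_pow, pow_succ', hcc, one_smul]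
  have hT0 : (p ^ k) ^ (n' + 1) - 1 ≠ 0 := by
    have : 3 ^ 1 ≤ (p ^ k) ^ (n' + 1) := le_trans (Nat.pow_le_pow_left hq3 1) (Nat.pow_le_pow_right (by omega) (by omega))
    omega
  exact arith_forw_gen N ((p ^ k) + 1) ((p ^ k) ^ (n' + 1) - 1) o hNeven hN0 (by omega) hT0 ho0 h1 h2 h3

/-- the existence direction -/
theorem backward {F : Type*} [Field F] [Fintype F] (p : ℕ) [Fact p.Prime] [CharP F p] (k : ℕ)
    (hF : Fintype.card F = (p ^ k) ^ 2) (hp2 : p ≠ 2) (hq3 : 3 ≤ p ^ k) (n' m : ℕ)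
    (hn : n' + 1 = 2 * m) (hm : 1 ≤ m) (hme : Even m)
    (h : 2 * padicValNat 2 (p ^ k + 1) ≤ padicValNat 2 ((p ^ k) ^ m - 1)) :
    ∃ g : Cfsg.PSU (n' + 1) F (p ^ k), orderOf g = (p ^ k) ^ m + 1 := by
  classical
  have hpp : p.Prime := Fact.out
  have hq1 : 1 ≤ (p ^ k) := by omega
  have hqodd : Odd (p ^ k) := by
    apply Odd.pow
    rcases hpp.eq_two_or_odd' with h | h
    · exact absurd h hp2
    · exact h
  obtain ⟨t, ht⟩ := two_pow_mul_dvd (p ^ k) m hq3 hme hm h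
  have hfac : (p ^ k) ^ (n' + 1) - 1 = ((p ^ k) ^ m + 1) * ((p ^ k) ^ m - 1) := by
    have h1 : 1 ≤ (p ^ k) ^ m := Nat.one_le_pow _ _ hq1
    rw [hn, two_mul, pow_add]
    zify [h1, (Nat.mul_le_mul h1 h1 : 1 * 1 ≤ (p ^ k) ^ m * (p ^ k) ^ m)]
    ring
  have hot : (p ^ k) ^ (n' + 1) - 1 = 2 ^ padicValNat 2 ((p ^ k) + 1) * ((p ^ k) ^ m + 1) * t * ((p ^ k) + 1) := by
    rw [hfac, ht]
    ring
  obtain ⟨X, hX⟩ := exists_SU_torus (F := F) p hp2 k hF (n' + 1) m hn hm _ t hot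
  refine ⟨QuotientGroup.mk X, ?_⟩
  have hiff : ∀ i : ℕ, (QuotientGroup.mk X : Cfsg.PSU (n' + 1) F (p ^ k)) ^ i = 1 ↔ (p ^ k) ^ m + 1 ∣ i := by
    intro i
    rw [mk_pow_eq_one_iff_PSU hF, hX i]
    exact arith_back (p ^ k) m i hqodd hq3 hme
  exact Nat.dvd_antisymm (orderOf_dvd_of_pow_eq_one ((hiff _).mpr dvd_rfl))
    ((hiff _).mp (pow_orderOf_eq_one _))


/-- Let q be an odd prime power, n ≥ 4 even, and U = PSU(n,q) (realised over the field with q² elements). Then U has an element of order q^(n/2) + (−1)^(n/2) — that is, q^(n/2) + 1 when n/2 is even and q^(n/2) − 1 when n/2 is odd — if and only if the 2-part of n exceeds the 2-part of q + 1. -/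
theorem result {F : Type*} [Field F] [Fintype F] {q : ℕ} (hF : Fintype.card F = q ^ 2) (hodd : Odd q)
    {n : ℕ} (hn : 4 ≤ n) (heven : Even n) :
    (∃ g : Cfsg.PSU n F q, orderOf g = if Even (n / 2) then q ^ (n / 2) + 1 else q ^ (n / 2) - 1) ↔
      padicValNat 2 (q + 1) < padicValNat 2 n := by
  classical
  obtain ⟨p, hp⟩ := CharP.exists F
  have hpp : p.Prime := CharP.char_is_prime F p
  have : Fact p.Prime := ⟨hpp⟩
  obtain ⟨k, hk1, hqk⟩ := exists_eq_prime_pow_of_card_eq_sq p q hF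
  subst hqk
  obtain ⟨m, hm⟩ := heven
  have hn2 : n = 2 * m := by omega
  have hdiv : n / 2 = m := by omega
  obtain ⟨n', rfl⟩ : ∃ n', n = n' + 1 := ⟨n - 1, by omega⟩
  rw [hdiv]
  have hp2 : p ≠ 2 := by
    rintro rfl
    have : Even (2 ^ k) := (Nat.even_pow' (by omega)).mpr even_two
    exact (Nat.not_even_iff_odd.mpr hodd) this
  have hq3 : 3 ≤ p ^ k := by
    have h1 : 3 ≤ p := by
      have := hpp.two_le
      omega
    calc 3 ≤ p := h1
      _ = p ^ 1 := (pow_one p).symm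
      _ ≤ p ^ k := Nat.pow_le_pow_right hpp.pos hk1
  have hq1 : 1 ≤ (p ^ k) := by omega
  have hq2 : ¬ 2 ∣ (p ^ k) := fun h => (Nat.not_even_iff_odd.mpr hodd) (even_iff_two_dvd.mpr h)
  have hm2 : 2 ≤ m := by omega
  have hm0 : m ≠ 0 := by omega
  obtain ⟨ha, hb, hab⟩ := padicVal_two_sub_add (p ^ k) hodd hq3
  have h22 : padicValNat 2 2 = 1 := by simp
  have hvn : padicValNat 2 (n' + 1) = 1 + padicValNat 2 m := by
    rw [hn2, padicValNat.mul (by norm_num) hm0, h22]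
  have hne : Even (n' + 1) := ⟨m, hm⟩
  have hvT : padicValNat 2 ((p ^ k) ^ (n' + 1) - 1) + 1 =
      padicValNat 2 ((p ^ k) + 1) + padicValNat 2 ((p ^ k) - 1) + padicValNat 2 (n' + 1) :=
    padicValNat.pow_two_sub_one (by omega) hq2 (by omega) hne
  have hqm1 : 1 ≤ (p ^ k) ^ m := Nat.one_le_pow _ _ hq1
  have hqm3 : 3 ≤ (p ^ k) ^ m := by
    calc 3 ≤ (p ^ k) := hq3
      _ = (p ^ k) ^ 1 := (pow_one (p ^ k)).symm
      _ ≤ (p ^ k) ^ m := Nat.pow_le_pow_right hq1 (by omega)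
  have hfac : (p ^ k) ^ (n' + 1) - 1 = ((p ^ k) ^ m + 1) * ((p ^ k) ^ m - 1) := by
    rw [hn2, two_mul, pow_add]
    zify [hqm1, (Nat.mul_le_mul hqm1 hqm1 : 1 * 1 ≤ (p ^ k) ^ m * (p ^ k) ^ m)]
    ring
  have hqmodd : Odd ((p ^ k) ^ m) := hodd.pow
  by_cases hme : Even m
  · rw [if_pos hme]
    have hc : 1 ≤ padicValNat 2 m := one_le_padicValNat_of_dvd hm0 (even_iff_two_dvd.mp hme)
    have hvm : padicValNat 2 ((p ^ k) ^ m - 1) + 1 =
        padicValNat 2 ((p ^ k) + 1) + padicValNat 2 ((p ^ k) - 1) + padicValNat 2 m :=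
      padicValNat.pow_two_sub_one (by omega) hq2 hm0 hme
    constructor
    · rintro ⟨g, hg⟩
      obtain ⟨X, rfl⟩ := QuotientGroup.mk_surjective g
      -- Zsigmondy prime
      obtain ⟨r, hr, hrdvd, hrmin⟩ := Cfsg.Agent.Lib.Helper99.zsigmondy (p ^ k) (n' + 1) (by omega)
        (by omega) (by rintro ⟨h, -⟩; omega) (by rintro ⟨h, -⟩; omega)
      have : Fact r.Prime := ⟨hr⟩
      have hord : orderOf (((p ^ k) : ℕ) : ZMod r) = 2 * m := by
        rw [← hn2]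
        have h1 : orderOf (((p ^ k) : ℕ) : ZMod r) ∣ n' + 1 := (dvd_pow_sub_one_iff hq1 _).mp hrdvd
        have h2 : r ∣ (p ^ k) ^ orderOf (((p ^ k) : ℕ) : ZMod r) - 1 := (dvd_pow_sub_one_iff hq1 _).mpr dvd_rfl
        have h3 : 0 < orderOf (((p ^ k) : ℕ) : ZMod r) := Nat.pos_of_dvd_of_pos h1 (by omega)
        by_contra hne'
        have h4 : orderOf (((p ^ k) : ℕ) : ZMod r) < n' + 1 :=
          lt_of_le_of_ne (Nat.le_of_dvd (by omega) h1) hne'
        exact hrmin _ h3 h4 h2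
      have he : orderOf (-(((p ^ k) : ℕ) : ZMod r)) = n' + 1 := by
        rw [hn2]
        exact orderOf_neg_of_even _ m hme (by omega) hord
      have hrN : r ∣ (p ^ k) ^ m + 1 := by
        rw [hfac] at hrdvd
        rcases (Nat.Prime.dvd_mul hr).mp hrdvd with h | h
        · exact h
        · exact absurd h (hrmin m (by omega) (by omega))
      have hrp : r ≠ p := by
        intro hrp'
        have h1 : r ∣ (p ^ k) ^ (n' + 1) := by
          rw [hrp']
          exact dvd_pow (dvd_pow_self p (by omega)) (by omega)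
        have h2 : 1 ≤ (p ^ k) ^ (n' + 1) := Nat.one_le_pow _ _ hq1
        have h3 : r ∣ (p ^ k) ^ (n' + 1) - ((p ^ k) ^ (n' + 1) - 1) := Nat.dvd_sub h1 hrdvd
        have h4 : (p ^ k) ^ (n' + 1) - ((p ^ k) ^ (n' + 1) - 1) = 1 := by omega
        rw [h4] at h3
        exact hr.one_lt.ne' (Nat.dvd_one.mp h3)
      have hNeven : 2 ∣ (p ^ k) ^ m + 1 := even_iff_two_dvd.mp (hqmodd.add_odd odd_one)
      have key := forward p k hF n' hne ((p ^ k) ^ m + 1) hNeven (by omega) hq3 r hr hrN hrp he X hg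
      have hvN : 1 ≤ padicValNat 2 ((p ^ k) ^ m + 1) := one_le_padicValNat_of_dvd (by omega) hNeven
      rcases hab with h | h <;> omega
    · intro h
      apply backward p k hF hp2 hq3 n' m hn2 (by omega) hme
      omega
  · rw [if_neg hme]
    have hmo : Odd m := Nat.not_even_iff_odd.mp hme
    have hvm : padicValNat 2 m = 0 :=
      padicValNat.eq_zero_of_not_dvd (fun h => hme (even_iff_two_dvd.mpr h))
    constructor
    · rintro ⟨g, hg⟩
      exfalso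
      obtain ⟨X, rfl⟩ := QuotientGroup.mk_surjective g
      obtain ⟨r, hr, hrdvd, hrmin⟩ := Cfsg.Agent.Lib.Helper99.zsigmondy (p ^ k) m (by omega)
        (by omega) (by rintro ⟨h, -⟩; omega) (by
          rintro ⟨h, -⟩
          rw [h] at hme
          exact hme even_two)
      have : Fact r.Prime := ⟨hr⟩
      have hord : orderOf (((p ^ k) : ℕ) : ZMod r) = m := by
        have h1 : orderOf (((p ^ k) : ℕ) : ZMod r) ∣ m := (dvd_pow_sub_one_iff hq1 _).mp hrdvd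
        have h2 : r ∣ (p ^ k) ^ orderOf (((p ^ k) : ℕ) : ZMod r) - 1 := (dvd_pow_sub_one_iff hq1 _).mpr dvd_rfl
        have h3 : 0 < orderOf (((p ^ k) : ℕ) : ZMod r) := Nat.pos_of_dvd_of_pos h1 (by omega)
        by_contra hne'
        have h4 : orderOf (((p ^ k) : ℕ) : ZMod r) < m :=
          lt_of_le_of_ne (Nat.le_of_dvd (by omega) h1) hne'
        exact hrmin _ h3 h4 h2
      have hr2 : r ≠ 2 := by
        rintro rfl
        apply hrmin 1 (by omega) (by omega)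
        rw [pow_one]
        obtain ⟨j, hj⟩ := hodd
        exact ⟨j, by omega⟩
      have h11 : (-1 : ZMod r) ≠ 1 := by
        have : Fact (2 < r) := ⟨by
          have := hr.two_le
          omega⟩
        exact ZMod.neg_one_ne_one
      have he : orderOf (-(((p ^ k) : ℕ) : ZMod r)) = n' + 1 := by
        rw [hn2]
        exact orderOf_neg_of_odd _ m hmo h11 hord
      have hrp : r ≠ p := by
        intro hrp'
        have h1 : r ∣ (p ^ k) ^ m := by
          rw [hrp']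
          exact dvd_pow (dvd_pow_self p (by omega)) (by omega)
        have h3 : r ∣ (p ^ k) ^ m - ((p ^ k) ^ m - 1) := Nat.dvd_sub h1 hrdvd
        have h4 : (p ^ k) ^ m - ((p ^ k) ^ m - 1) = 1 := by omega
        rw [h4] at h3
        exact hr.one_lt.ne' (Nat.dvd_one.mp h3)
      have hNeven : 2 ∣ (p ^ k) ^ m - 1 := by
        obtain ⟨j, hj⟩ := hqmodd
        exact ⟨j, by omega⟩
      have key := forward p k hF n' hne ((p ^ k) ^ m - 1) hNeven (by omega) hq3 r hr hrdvd hrp he X hg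
      have hvN : padicValNat 2 ((p ^ k) - 1) ≤ padicValNat 2 ((p ^ k) ^ m - 1) := by
        rw [← padicValNat_dvd_iff_le (by omega)]
        exact dvd_trans pow_padicValNat_dvd (Nat.sub_one_dvd_pow_sub_one (p ^ k) m)
      omega
    · intro h
      exfalso
      omega


end Cfsg.Agent.S2496
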