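import Cfsg.Statements.S2503
import Cfsg.Agent.Lib.Helper41.SL2NsTorusCard

set_option autoImplicit false
open Cfsg

namespace Cfsg.Agent.S2503

open Cfsg.Agent.Lib.Helper41

variable {F : Type*} [Field F]

/-- the norm form -/
def Qf (t x y : F) : F := x ^ 2 + t * x * y + y ^ 2

theorem Qf_aniso {t : F} (ht : ∀ r : F, r ^ 2 ≠ -1 + t * r) (x y : F) (h : Qf t x y = 0) :
    x = 0 ∧ y = 0 := by
  by_cases hy : y = 0
  · subst hy
    simp [Qf] at h
    exact ⟨h, rfl⟩
  · exfalso
    apply ht (-x / y)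
    unfold Qf at h
    field_simp
    linear_combination h

/-- torus element with given first column -/
def torusElt (t x y : F) (h : Qf t x y = 1) : Matrix.SpecialLinearGroup (Fin 2) F :=
  ⟨!![x, -y; y, x + t * y], by rw [Matrix.det_fin_two_of]; unfold Qf at h; linear_combination h⟩

theorem torusElt_mem (t x y : F) (h : Qf t x y = 1) : torusElt t x y h ∈ nsTorus t := by
  rw [mem_nsTorus_iff]
  constructor <;> simp [torusElt]

theorem Qf_transform (h2 : (2 : F) = 0) (t : F) (g : Matrix.SpecialLinearGroup (Fin 2) F)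
    (α β x y : F)
    (hα : α * α = Qf t ((g : Matrix (Fin 2) (Fin 2) F) 0 0) ((g : Matrix (Fin 2) (Fin 2) F) 1 0) - 1)
    (hβ : β * β = Qf t ((g : Matrix (Fin 2) (Fin 2) F) 0 1) ((g : Matrix (Fin 2) (Fin 2) F) 1 1) - 1) :
    Qf t ((g : Matrix (Fin 2) (Fin 2) F) 0 0 * x + (g : Matrix (Fin 2) (Fin 2) F) 0 1 * y)
      ((g : Matrix (Fin 2) (Fin 2) F) 1 0 * x + (g : Matrix (Fin 2) (Fin 2) F) 1 1 * y)
      = Qf t x y + (α * x + β * y) ^ 2 := by
  have hdet := sl2_det g
  unfold Qf at *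
  set p := (g : Matrix (Fin 2) (Fin 2) F) 0 0
  set q := (g : Matrix (Fin 2) (Fin 2) F) 0 1
  set r := (g : Matrix (Fin 2) (Fin 2) F) 1 0
  set s := (g : Matrix (Fin 2) (Fin 2) F) 1 1
  linear_combination (x * y * (p * q + r * s + t * q * r - α * β)) * h2 + (t * x * y) * hdet
    - x ^ 2 * hα - y ^ 2 * hβ

theorem Qf_scale (t l x y : F) : Qf t (l * x) (l * y) = (l * l) * Qf t x y := by
  unfold Qf; ring

theorem exists_vec [Fintype F] (hchar : ringChar F = 2) {t : F} (ht : ∀ r : F, r ^ 2 ≠ -1 + t * r)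
    (g : Matrix.SpecialLinearGroup (Fin 2) F) :
    ∃ x y : F, Qf t x y = 1 ∧
      Qf t ((g : Matrix (Fin 2) (Fin 2) F) 0 0 * x + (g : Matrix (Fin 2) (Fin 2) F) 0 1 * y)
        ((g : Matrix (Fin 2) (Fin 2) F) 1 0 * x + (g : Matrix (Fin 2) (Fin 2) F) 1 1 * y) = 1 := by
  have : CharP F 2 := ringChar.of_eq hchar
  have h2 : (2 : F) = 0 := CharTwo.two_eq_zero
  obtain ⟨α, hα⟩ := FiniteField.isSquare_of_char_two hchar
    (Qf t ((g : Matrix (Fin 2) (Fin 2) F) 0 0) ((g : Matrix (Fin 2) (Fin 2) F) 1 0) - 1)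
  obtain ⟨β, hβ⟩ := FiniteField.isSquare_of_char_two hchar
    (Qf t ((g : Matrix (Fin 2) (Fin 2) F) 0 1) ((g : Matrix (Fin 2) (Fin 2) F) 1 1) - 1)
  obtain ⟨x₀, y₀, hne, hlin⟩ : ∃ x₀ y₀ : F, (x₀ ≠ 0 ∨ y₀ ≠ 0) ∧ α * x₀ + β * y₀ = 0 := by
    by_cases h : α = 0 ∧ β = 0
    · exact ⟨1, 0, Or.inl one_ne_zero, by simp [h.1]⟩
    · refine ⟨β, α, ?_, by linear_combination (α * β) * h2⟩
      by_contra hcon
      push Not at hcon
      exact h ⟨hcon.2, hcon.1⟩
  have hN : Qf t x₀ y₀ ≠ 0 := fun h0 => by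
    obtain ⟨hx, hy⟩ := Qf_aniso ht _ _ h0
    rcases hne with h | h <;> contradiction
  obtain ⟨l, hl⟩ := FiniteField.isSquare_of_char_two hchar (Qf t x₀ y₀)⁻¹
  have h1 : Qf t (l * x₀) (l * y₀) = 1 := by
    rw [Qf_scale, ← hl, inv_mul_cancel₀ hN]
  refine ⟨l * x₀, l * y₀, h1, ?_⟩
  rw [Qf_transform h2 t g α β _ _ hα.symm hβ.symm, h1]
  have : α * (l * x₀) + β * (l * y₀) = 0 := by linear_combination l * hlin
  rw [this]
  simp

/-- the `ABA` decomposition in `SL₂` in characteristic two -/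
theorem sl2_ABA [Fintype F] (hchar : ringChar F = 2) {t : F} (ht : ∀ r : F, r ^ 2 ≠ -1 + t * r)
    (g : Matrix.SpecialLinearGroup (Fin 2) F) :
    ∃ a ∈ nsTorus t, ∃ u : F, ∃ c ∈ nsTorus t, g = a * upperU u * c := by
  obtain ⟨x, y, h1, h2⟩ := exists_vec hchar ht g
  set a := torusElt t _ _ h2 with ha
  set c := torusElt t x y h1 with hc
  refine ⟨a, torusElt_mem _ _ _ _, ((a⁻¹ * g * c : Matrix.SpecialLinearGroup (Fin 2) F) :
    Matrix (Fin 2) (Fin 2) F) 0 1, c⁻¹, inv_mem (torusElt_mem _ _ _ _), ?_⟩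
  have key : a⁻¹ * g * c = upperU (((a⁻¹ * g * c : Matrix.SpecialLinearGroup (Fin 2) F) :
    Matrix (Fin 2) (Fin 2) F) 0 1) := by
    have h00 : ((a⁻¹ * g * c : Matrix.SpecialLinearGroup (Fin 2) F) :
        Matrix (Fin 2) (Fin 2) F) 0 0 = 1 := by
      rw [mul_apply_00, mul_apply_00, mul_apply_01, inv_apply_00, inv_apply_01]
      simp only [ha, hc, torusElt]
      unfold Qf at h2
      simp
      linear_combination h2
    have h10 : ((a⁻¹ * g * c : Matrix.SpecialLinearGroup (Fin 2) F) :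
        Matrix (Fin 2) (Fin 2) F) 1 0 = 0 := by
      rw [mul_apply_10, mul_apply_10, mul_apply_11, inv_apply_10, inv_apply_11]
      simp only [ha, hc, torusElt]
      simp
      ring
    have hdet := sl2_det (a⁻¹ * g * c)
    rw [h00, h10, mul_zero, sub_zero, one_mul] at hdet
    apply sl2_ext
    · rw [h00]; simp [coe_upperU]
    · simp [coe_upperU]
    · rw [h10]; simp [coe_upperU]
    · rw [hdet]; simp [coe_upperU]
  rw [← key]
  group

theorem center_eq_bot (h2 : (2 : F) = 0) :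
    Subgroup.center (Matrix.SpecialLinearGroup (Fin 2) F) = ⊥ := by
  rw [eq_bot_iff]
  intro A hA
  rw [mem_center_iff_pm] at hA
  have hneg : (-1 : Matrix (Fin 2) (Fin 2) F) = 1 := by
    have : (-1 : F) = 1 := by linear_combination -h2
    ext i j
    fin_cases i <;> fin_cases j <;> simp [this]
  rw [hneg, or_self] at hA
  rw [Subgroup.mem_bot]
  exact Subtype.ext hA

theorem mk_injective (h2 : (2 : F) = 0) :
    Function.Injective (QuotientGroup.mk' (Subgroup.center (Matrix.SpecialLinearGroup (Fin 2) F))) := by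
  rw [← MonoidHom.ker_eq_bot_iff, QuotientGroup.ker_mk', center_eq_bot h2]

theorem upperU_mul (u v : F) : (upperU u * upperU v : Matrix.SpecialLinearGroup (Fin 2) F) = upperU (u + v) := by
  apply sl2_ext <;> simp [mul_apply_00, mul_apply_01, mul_apply_10, mul_apply_11, coe_upperU, add_comm]

/-- the unipotent hom -/
def upperHom : Multiplicative F →* Matrix.SpecialLinearGroup (Fin 2) F where
  toFun u := upperU (Multiplicative.toAdd u)
  map_one' := by
    apply sl2_ext <;> simp [coe_upperU]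
  map_mul' u v := by
    rw [upperU_mul]; rfl

theorem upperHom_injective : Function.Injective (upperHom (F := F)) := by
  intro u v h
  have := congrArg (fun A : Matrix.SpecialLinearGroup (Fin 2) F => (A : Matrix (Fin 2) (Fin 2) F) 0 1) h
  simpa [upperHom, coe_upperU] using this


/-- Let F be a finite field with q = 2^t ≥ 4 elements and L = PSL(2,F). Then L has a cyclic subgroup A of order q + 1 and an elementary abelian 2-subgroup B of order q such that L = ABA: every element of L is a product a·b·a' with a, a' ∈ A and b ∈ B. -/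
theorem result {F : Type*} [Field F] [Fintype F]
    (h2 : 2 ∣ Fintype.card F) (h4 : 4 ≤ Fintype.card F) :
    ∃ A B : Subgroup (Matrix.ProjectiveSpecialLinearGroup (Fin 2) F),
      IsCyclic A ∧ Nat.card A = Fintype.card F + 1 ∧ IsMulCommutative B ∧ (∀ b ∈ B, b * b = 1) ∧
        Nat.card B = Fintype.card F ∧
        ∀ g : Matrix.ProjectiveSpecialLinearGroup (Fin 2) F, ∃ a ∈ A, ∃ b ∈ B, ∃ c ∈ A, g = a * b * c := by
  have hchar : ringChar F = 2 := FiniteField.even_card_iff_char_two.mpr (Nat.mod_eq_zero_of_dvd h2)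
  have : CharP F 2 := ringChar.of_eq hchar
  have h20 : (2 : F) = 0 := CharTwo.two_eq_zero
  obtain ⟨t, ht⟩ := exists_nonsplit_trace (F := F)
  let π := QuotientGroup.mk' (Subgroup.center (Matrix.SpecialLinearGroup (Fin 2) F))
  have hπ : Function.Injective π := mk_injective h20
  let fA : nsTorus t →* Matrix.ProjectiveSpecialLinearGroup (Fin 2) F := π.comp (nsTorus t).subtype
  let fB : Multiplicative F →* Matrix.ProjectiveSpecialLinearGroup (Fin 2) F := π.comp upperHom
  have hfA : Function.Injective fA := hπ.comp (Subgroup.subtype_injective _)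
  have hfB : Function.Injective fB := hπ.comp upperHom_injective
  refine ⟨fA.range, fB.range, ?_, ?_, ?_, ?_, ?_, ?_⟩
  · have := isCyclic_nsTorus ht
    exact isCyclic_of_surjective (MonoidHom.ofInjective hfA) (MonoidHom.ofInjective hfA).surjective
  · rw [← Nat.card_congr (MonoidHom.ofInjective hfA).toEquiv, card_nsTorus ht]
  · constructor
    constructor
    rintro ⟨_, ⟨u, rfl⟩⟩ ⟨_, ⟨v, rfl⟩⟩
    apply Subtype.ext
    show fB u * fB v = fB v * fB u
    rw [← map_mul, ← map_mul, mul_comm]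
  · rintro _ ⟨u, rfl⟩
    rw [← map_mul]
    have : u * u = 1 := by
      apply Multiplicative.toAdd.injective
      show Multiplicative.toAdd u + Multiplicative.toAdd u = 0
      rw [← two_mul, h20, zero_mul]
    rw [this, map_one]
  · rw [← Nat.card_congr (MonoidHom.ofInjective hfB).toEquiv, Nat.card_eq_fintype_card,
      Fintype.card_multiplicative]
  · intro g
    obtain ⟨g', rfl⟩ := QuotientGroup.mk_surjective g
    obtain ⟨a, ha, u, c, hc, rfl⟩ := sl2_ABA hchar ht g'
    refine ⟨π a, ⟨⟨a, ha⟩, rfl⟩, π (upperU u), ⟨Multiplicative.ofAdd u, rfl⟩, π c, ⟨⟨c, hc⟩, rfl⟩, ?_⟩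
    rfl


end Cfsg.Agent.S2503
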