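import Cfsg.Statements.S2506
import Mathlib
import Cfsg.Agent.S2504

set_option autoImplicit false
open scoped Pointwise
open Cfsg

namespace Cfsg.Agent.S2506


open Equiv
open Cfsg.Agent.S2505 Cfsg.Agent.S2504

/-! ### numerics -/

theorem hh_lt_gg (k : ℕ) (hk : 1 ≤ k) : hh k < gg (k + 2) := by
  induction k using Nat.strong_induction_on with
  | _ k ih =>
    by_cases h7 : 7 ≤ k
    · obtain ⟨m, rfl⟩ : ∃ m, k = m + 7 := ⟨k - 7, by omega⟩
      have e1 : m + 7 = (m + 4) + 3 := by omega
      have e2 : m + 7 + 2 = m + 9 := by omega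
      rw [e2, gg_add_nine, e1, hh_add_three (by omega)]
      have := ih (m + 4) (by omega) (by omega)
      have e3 : m + 4 + 2 = m + 6 := by omega
      rw [e3] at this
      omega
    · have : k ≤ 6 := by omega
      interval_cases k <;> decide

theorem half_mul_hh_lt {m n : ℕ} (hn : 3 ≤ n) (hmn : m ≤ n) (hm : 2 ≤ m) :
    (m / 2) * hh (n - m) < gg n := by
  have h4 : hh (n - 2) < gg (n - 2 + 2) := hh_lt_gg _ (by omega)
  have h5 : n - 2 + 2 = n := by omega
  rw [h5] at h4
  by_cases hm4 : m < 4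
  · have e : m / 2 = 1 := by omega
    rw [e, one_mul]
    exact lt_of_le_of_lt (hh_mono (by omega)) h4
  · have h1 : m / 2 ≤ hh (m / 2) := le_hh _
    have h2 : hh (m / 2) * hh (n - m) ≤ hh (m / 2 + (n - m)) := hh_mul_le _ _
    have h3 : hh (m / 2 + (n - m)) ≤ hh (n - 2) := hh_mono (by omega)
    calc (m / 2) * hh (n - m) ≤ hh (m / 2) * hh (n - m) := Nat.mul_le_mul_right _ h1
      _ ≤ hh (n - 2) := h2.trans h3
      _ < gg n := h4

theorem lt_gg {m : ℕ} (hm : 6 ≤ m) : m < gg m := by
  induction m using Nat.strong_induction_on with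
  | _ m ih =>
    by_cases h9 : 9 ≤ m
    · obtain ⟨k, rfl⟩ : ∃ k, m = k + 9 := ⟨m - 9, by omega⟩
      rw [gg_add_nine]
      have := ih (k + 6) (by omega) (by omega)
      omega
    · have : m ≤ 8 := by omega
      interval_cases m <;> decide

theorem eq_gg_cases {m : ℕ} (h1 : 1 ≤ m) (h : m = gg m) : m = 1 ∨ m = 3 ∨ m = 4 ∨ m = 5 := by
  by_cases h6 : 6 ≤ m
  · have := lt_gg h6; omega
  · have : m ≤ 5 := by omega
    interval_cases m <;> first | omega | (exfalso; revert h; decide)

theorem num_small (m r : ℕ) (hm : m = 1 ∨ m = 4 ∨ m = 5)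
    (hr : r = 0 ∨ r = 1 ∨ r = 2 ∨ r = 4 ∨ r = 5 ∨ r = 8)
    (h : gg m * gg r = gg (m + r)) : m + r < 3 ∨ m + r = 4 ∨ m + r = 5 ∨ m + r = 8 := by
  rcases hm with rfl | rfl | rfl <;> rcases hr with rfl | rfl | rfl | rfl | rfl | rfl <;>
    revert h <;> decide

theorem num_48 (n m : ℕ) (hn : n = 4 ∨ n = 8) (hm : m = 1 ∨ m = 3 ∨ m = 5)
    (h : gg m * gg (n - m) = gg n) : False := by
  rcases hn with rfl | rfl <;> rcases hm with rfl | rfl | rfl <;> revert h <;> decide


/-! ### the equality analysis -/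

section split
variable {X : Type} [Fintype X] [DecidableEq X]

/-- extremal even abelian permutation groups -/
def IsExt (A : Subgroup (Perm X)) : Prop :=
  (∀ a ∈ A, ∀ b ∈ A, a * b = b * a) ∧ (∀ a ∈ A, Perm.sign a = 1) ∧
    Nat.card A = gg (Fintype.card X)

theorem split (A : Subgroup (Perm X)) (hA : IsExt A) (hn : 3 ≤ Fintype.card X)
    (p : X → Prop) [DecidablePred p] (hp : ∀ a ∈ A, ∀ x, p (a x) ↔ p x)
    (hq : ∀ a ∈ A, ∀ x, ¬ p (a x) ↔ ¬ p x)
    (x₀ : X) (hx₀ : p x₀) (htr : ∀ x, p x → ∃ a ∈ A, a x₀ = x) :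
    (∀ a : A, Perm.sign (restr A p hp a) = 1) ∧
    Nat.card (restr A p hp).range = Fintype.card (Subtype p) ∧
    Fintype.card (Subtype p) = gg (Fintype.card (Subtype p)) ∧
    IsExt (restr A (fun x => ¬ p x) hq).range ∧
    gg (Fintype.card (Subtype p)) * gg (Fintype.card X - Fintype.card (Subtype p)) =
      gg (Fintype.card X) ∧
    (∀ u ∈ (restr A p hp).range, ∀ v ∈ (restr A (fun x => ¬ p x) hq).range,
      ∃ a : A, restr A p hp a = u ∧ restr A (fun x => ¬ p x) hq a = v) := by
  obtain ⟨hcomm, hev, hcard⟩ := hA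
  set n := Fintype.card X with hn_def
  have hsign : ∀ a : A, Perm.sign (restr A p hp a) *
      Perm.sign (restr A (fun x => ¬ p x) hq a) = 1 := by
    intro a
    rw [← sign_decomp A p hp hq a]; exact hev a a.2
  have h2 : Nat.card (restr A p hp).range ≤ Fintype.card (Subtype p) := by
    rw [← Nat.card_eq_fintype_card]
    apply card_le_of_comm_trans _ _ ⟨x₀, hx₀⟩
    · rintro ⟨y, hy⟩
      obtain ⟨b, hb, rfl⟩ := htr y hy
      exact ⟨restr A p hp ⟨b, hb⟩, ⟨⟨b, hb⟩, rfl⟩, Subtype.ext rfl⟩
    · rintro _ ⟨a, rfl⟩ _ ⟨b, rfl⟩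
      rw [← map_mul, ← map_mul]
      congr 1
      exact Subtype.ext (hcomm a a.2 b b.2)
  have hpos : 1 ≤ Fintype.card (Subtype p) := Fintype.card_pos_iff.mpr ⟨⟨x₀, hx₀⟩⟩
  have hle : Fintype.card (Subtype p) ≤ n := Fintype.card_subtype_le p
  have hBcomm : ∀ a ∈ (restr A (fun x => ¬ p x) hq).range,
      ∀ b ∈ (restr A (fun x => ¬ p x) hq).range, a * b = b * a := by
    rintro _ ⟨a, rfl⟩ _ ⟨b, rfl⟩
    rw [← map_mul, ← map_mul]
    congr 1
    exact Subtype.ext (hcomm a a.2 b b.2)
  have hcardq : Fintype.card (Subtype (fun x => ¬ p x)) = n - Fintype.card (Subtype p) := by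
    rw [Fintype.card_subtype_compl]
  have hinj : Function.Injective (fun a : A =>
      ((⟨restr A p hp a, a, rfl⟩ : (restr A p hp).range),
        (⟨restr A (fun x => ¬ p x) hq a, a, rfl⟩ :
          (restr A (fun x => ¬ p x) hq).range))) := by
    intro a b hab
    simp only [Prod.mk.injEq] at hab
    have hab1 := congrArg Subtype.val hab.1
    have hab2 := congrArg Subtype.val hab.2
    simp only at hab1 hab2
    apply Subtype.ext
    ext x
    by_cases hx : p x
    · exact congrArg (fun f => ((f ⟨x, hx⟩ : Subtype p) : X)) hab1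
    · exact congrArg (fun f => ((f ⟨x, hx⟩ : Subtype (fun x => ¬ p x)) : X)) hab2
  by_cases hR : ∀ a : A, Perm.sign (restr A p hp a) = 1
  · -- the orbit group is even
    have hm2 : Fintype.card (Subtype p) ≠ 2 := by
      intro h2'
      obtain ⟨⟨y, hy⟩, hy'⟩ :=
        Fintype.exists_ne_of_one_lt_card (by omega) (⟨x₀, hx₀⟩ : Subtype p)
      obtain ⟨b, hb, rfl⟩ := htr y hy
      have hne : restr A p hp ⟨b, hb⟩ ≠ 1 := by
        intro h1
        apply hy'
        have := congrArg (fun f : Perm (Subtype p) => f ⟨x₀, hx₀⟩) h1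
        exact Subtype.ext (congrArg Subtype.val this)
      have := sign_of_card_two h2' _ hne
      rw [hR] at this
      exact absurd this (by decide)
    have h1 : Nat.card A ≤
        Nat.card (restr A p hp).range * Nat.card (restr A (fun x => ¬ p x) hq).range := by
      rw [← Nat.card_prod]
      exact Nat.card_le_card_of_injective _ hinj
    have hev' : ∀ a ∈ (restr A (fun x => ¬ p x) hq).range, Perm.sign a = 1 := by
      rintro _ ⟨a, rfl⟩
      have := hsign a
      rw [hR a, one_mul] at this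
      exact this
    have h3 : Nat.card (restr A (fun x => ¬ p x) hq).range ≤
        gg (n - Fintype.card (Subtype p)) :=
      card_le_gg (n - Fintype.card (Subtype p)) (Subtype (fun x => ¬ p x)) _ hBcomm hev' hcardq
    have h4 : Fintype.card (Subtype p) ≤ gg (Fintype.card (Subtype p)) := le_gg hm2
    have h5 : gg (Fintype.card (Subtype p)) * gg (n - Fintype.card (Subtype p)) ≤ gg n := by
      have := gg_mul_le (Fintype.card (Subtype p)) (n - Fintype.card (Subtype p))
      rwa [Nat.add_sub_cancel' hle] at this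
    have hG : 0 < gg (n - Fintype.card (Subtype p)) := gg_pos _
    have hapos : 0 < Nat.card (restr A p hp).range := Nat.card_pos
    have hcpos : 0 < Nat.card (restr A (fun x => ¬ p x) hq).range := Nat.card_pos
    set a := Nat.card (restr A p hp).range with ha_def
    set c := Nat.card (restr A (fun x => ¬ p x) hq).range with hc_def
    set m := Fintype.card (Subtype p) with hm_def
    set G' := gg (n - m) with hG_def
    rw [hcard] at h1
    -- chain: gg n ≤ a * c ≤ m * G' ≤ gg m * G' ≤ gg n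
    have e1 : a * c ≤ m * G' := Nat.mul_le_mul h2 h3
    have e2 : m * G' ≤ gg m * G' := Nat.mul_le_mul_right _ h4
    have e3 : a * c = m * G' := by omega
    have e4 : m * G' = gg m * G' := by omega
    have e5 : gg m * G' = gg n := by omega
    have ham : a = m := by
      rcases Nat.lt_or_ge a m with h | h
      · exfalso
        have : a * c < m * G' := by
          calc a * c ≤ a * G' := Nat.mul_le_mul_left _ h3
            _ < m * G' := Nat.mul_lt_mul_of_pos_right h hG
        omega
      · omega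
    have hcG : c = G' := by
      rcases Nat.lt_or_ge c G' with h | h
      · exfalso
        have : a * c < m * G' := by
          calc a * c < a * G' := Nat.mul_lt_mul_of_pos_left h hapos
            _ ≤ m * G' := Nat.mul_le_mul_right _ h2
        omega
      · omega
    have hmm : m = gg m := Nat.eq_of_mul_eq_mul_right hG e4
    refine ⟨hR, ham, hmm, ⟨hBcomm, hev', ?_⟩, e5, ?_⟩
    · rw [hcardq]; exact hcG
    · have hbij : Function.Bijective (fun a : A =>
          ((⟨restr A p hp a, a, rfl⟩ : (restr A p hp).range),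
            (⟨restr A (fun x => ¬ p x) hq a, a, rfl⟩ :
              (restr A (fun x => ¬ p x) hq).range))) := by
        apply Function.Injective.bijective_of_nat_card_le hinj
        rw [Nat.card_prod, hcard, ← ha_def, ← hc_def]
        omega
      intro u hu v hv
      obtain ⟨a', ha'⟩ := hbij.2 (⟨u, hu⟩, ⟨v, hv⟩)
      simp only [Prod.mk.injEq] at ha'
      exact ⟨a', congrArg Subtype.val ha'.1, congrArg Subtype.val ha'.2⟩
  · -- the orbit group contains an odd permutation: impossible
    exfalso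
    obtain ⟨a₀, ha₀⟩ := not_forall.mp hR
    have ha₀' : Perm.sign (restr A p hp a₀) = -1 :=
      (Int.units_eq_one_or _).resolve_left ha₀
    have hcardA : Nat.card (restr A (fun x => ¬ p x) hq).ker *
        Nat.card (restr A (fun x => ¬ p x) hq).range = Nat.card A := by
      rw [← Subgroup.index_ker]; exact Subgroup.card_mul_index _
    have h3 : Nat.card (restr A (fun x => ¬ p x) hq).range ≤
        hh (n - Fintype.card (Subtype p)) :=
      card_le_hh _ (Subtype (fun x => ¬ p x)) _ hBcomm hcardq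
    let s : (restr A p hp).range →* ℤˣ := Perm.sign.comp (restr A p hp).range.subtype
    have hs2 : 2 ≤ Nat.card s.range := by
      have : Nontrivial s.range := by
        refine ⟨⟨⟨1, s.range.one_mem⟩, ⟨-1, ⟨⟨restr A p hp a₀, a₀, rfl⟩, ha₀'⟩⟩, ?_⟩⟩
        intro h
        have h' : (1 : ℤˣ) = -1 := congrArg Subtype.val h
        exact absurd h' (by decide)
      exact Finite.one_lt_card_iff_nontrivial.mpr this
    have hsk : Nat.card s.ker * Nat.card s.range = Nat.card (restr A p hp).range := by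
      rw [← Subgroup.index_ker]; exact Subgroup.card_mul_index _
    have hker : Nat.card (restr A (fun x => ¬ p x) hq).ker ≤ Nat.card s.ker := by
      apply Nat.card_le_card_of_injective
        (fun a : (restr A (fun x => ¬ p x) hq).ker =>
          (⟨⟨restr A p hp a.1, a.1, rfl⟩, by
            rw [MonoidHom.mem_ker]
            show Perm.sign (restr A p hp a.1) = 1
            have h1 := hsign a.1
            have h2 : restr A (fun x => ¬ p x) hq a.1 = 1 := a.2
            rw [h2, Perm.sign_one, mul_one] at h1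
            exact h1⟩ : s.ker))
      intro a b hab
      have hab1 : restr A p hp a.1 = restr A p hp b.1 := by
        have := congrArg (fun t : s.ker => ((t : (restr A p hp).range) : Perm (Subtype p))) hab
        exact this
      have ha2 : restr A (fun x => ¬ p x) hq a.1 = 1 := a.2
      have hb2 : restr A (fun x => ¬ p x) hq b.1 = 1 := b.2
      apply Subtype.ext
      apply Subtype.ext
      ext x
      by_cases hx : p x
      · exact congrArg (fun f => ((f ⟨x, hx⟩ : Subtype p) : X)) hab1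
      · have := ha2.trans hb2.symm
        exact congrArg (fun f => ((f ⟨x, hx⟩ : Subtype (fun x => ¬ p x)) : X)) this
    have hkpos : 1 ≤ Nat.card s.ker := Nat.card_pos
    have hm : Nat.card s.ker * 2 ≤ Fintype.card (Subtype p) := by
      calc Nat.card s.ker * 2 ≤ Nat.card s.ker * Nat.card s.range :=
            Nat.mul_le_mul_left _ hs2
        _ = Nat.card (restr A p hp).range := hsk
        _ ≤ Fintype.card (Subtype p) := h2
    have hk2 : Nat.card s.ker ≤ Fintype.card (Subtype p) / 2 := by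
      rw [Nat.le_div_iff_mul_le (by norm_num)]; exact hm
    have hfin : Nat.card A ≤
        (Fintype.card (Subtype p) / 2) * hh (n - Fintype.card (Subtype p)) := by
      calc Nat.card A = Nat.card (restr A (fun x => ¬ p x) hq).ker *
            Nat.card (restr A (fun x => ¬ p x) hq).range := hcardA.symm
        _ ≤ (Fintype.card (Subtype p) / 2) * hh (n - Fintype.card (Subtype p)) :=
            Nat.mul_le_mul (hker.trans hk2) h3
    have hlt := half_mul_hh_lt hn hle (by omega : 2 ≤ Fintype.card (Subtype p))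
    omega

end split


/-! ### orbits -/

/-- orbit predicate -/
def orb {X : Type} (A : Subgroup (Perm X)) (x₀ : X) : X → Prop := fun x => ∃ a ∈ A, a x₀ = x

theorem orb_self {X : Type} (A : Subgroup (Perm X)) (x₀ : X) : orb A x₀ x₀ := ⟨1, A.one_mem, rfl⟩

theorem orb_inv {X : Type} (A : Subgroup (Perm X)) (x₀ : X) :
    ∀ a ∈ A, ∀ x, orb A x₀ (a x) ↔ orb A x₀ x := by
  intro a ha x
  constructor
  · rintro ⟨b, hb, hbx⟩
    exact ⟨a⁻¹ * b, A.mul_mem (A.inv_mem ha) hb, by simp [Perm.mul_apply, hbx]⟩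
  · rintro ⟨b, hb, rfl⟩
    exact ⟨a * b, A.mul_mem ha hb, rfl⟩

theorem orb_inv' {X : Type} (A : Subgroup (Perm X)) (x₀ : X) :
    ∀ a ∈ A, ∀ x, ¬ orb A x₀ (a x) ↔ ¬ orb A x₀ x :=
  fun a ha x => not_congr (orb_inv A x₀ a ha x)

/-- orbits of the group induced on an invariant subset are orbits of the group -/
theorem orb_restr {X : Type} (A : Subgroup (Perm X)) (q : X → Prop)
    (hq : ∀ a ∈ A, ∀ x, q (a x) ↔ q x) (y : Subtype q) :
    Nat.card {z // orb (restr A q hq).range y z} = Nat.card {x // orb A y.1 x} := by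
  refine Nat.card_congr ⟨fun z => ⟨z.1.1, ?_⟩, fun x => ⟨⟨x.1, ?_⟩, ?_⟩, ?_, ?_⟩
  · obtain ⟨_, ⟨a, rfl⟩, hr⟩ := z.2
    exact ⟨a.1, a.2, congrArg Subtype.val hr⟩
  · obtain ⟨a, ha, hax⟩ := x.2
    rw [← hax]; exact (hq a ha y.1).mpr y.2
  · obtain ⟨a, ha, hax⟩ := x.2
    exact ⟨restr A q hq ⟨a, ha⟩, ⟨⟨a, ha⟩, rfl⟩, Subtype.ext hax⟩
  · intro z; rfl
  · intro x; rfl

/-- the target orbit size -/
def mu (n : ℕ) : ℕ := if n = 4 ∨ n = 8 then 4 else 3

theorem orbit_exists : ∀ (n : ℕ) (X : Type) [Fintype X] [DecidableEq X] (A : Subgroup (Perm X)),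
    IsExt A → Fintype.card X = n → 3 ≤ n → n ≠ 5 →
    ∃ x₀ : X, Nat.card {x // orb A x₀ x} = mu n := by
  intro n
  induction n using Nat.strong_induction_on with
  | _ n ih =>
    intro X _ _ A hA hcard h3 h5
    classical
    have hne : Nonempty X := Fintype.card_pos_iff.mp (by omega)
    obtain ⟨x₀⟩ := hne
    obtain ⟨-, -, hmm, hExt, hgg, -⟩ := split A hA (by omega) (orb A x₀) (orb_inv A x₀)
      (orb_inv' A x₀) x₀ (orb_self A x₀) (fun x hx => hx)
    have hpos : 1 ≤ Fintype.card (Subtype (orb A x₀)) :=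
      Fintype.card_pos_iff.mpr ⟨⟨x₀, orb_self A x₀⟩⟩
    have hle : Fintype.card (Subtype (orb A x₀)) ≤ n := by
      rw [← hcard]; exact Fintype.card_subtype_le _
    rw [hcard] at hgg
    set m := Fintype.card (Subtype (orb A x₀)) with hm_def
    by_cases hmu : m = mu n
    · exact ⟨x₀, by rw [Nat.card_eq_fintype_card]; exact hmu⟩
    · have hcases := eq_gg_cases hpos hmm
      have hcardq : Fintype.card (Subtype (fun x => ¬ orb A x₀ x)) = n - m := by
        rw [Fintype.card_subtype_compl, hcard]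
      by_cases h48 : n = 4 ∨ n = 8
      · exfalso
        have hmu4 : mu n = 4 := by simp [mu, h48]
        have hm' : m = 1 ∨ m = 3 ∨ m = 5 := by omega
        exact num_48 n m h48 hm' hgg
      · have hmu3 : mu n = 3 := by simp [mu, h48]
        have hm' : m = 1 ∨ m = 4 ∨ m = 5 := by omega
        by_cases hr : n - m = 0 ∨ n - m = 1 ∨ n - m = 2 ∨ n - m = 4 ∨ n - m = 5 ∨ n - m = 8
        · exfalso
          have hgg' : gg m * gg (n - m) = gg (m + (n - m)) := by
            rw [Nat.add_sub_cancel' hle]; exact hgg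
          have := num_small m (n - m) hm' hr hgg'
          rw [Nat.add_sub_cancel' hle] at this
          omega
        · have hr48 : ¬ (n - m = 4 ∨ n - m = 8) := by omega
          obtain ⟨y, hy⟩ := ih (n - m) (by omega) (Subtype (fun x => ¬ orb A x₀ x)) _ hExt hcardq
            (by omega) (by omega)
          refine ⟨y.1, ?_⟩
          rw [← orb_restr A (fun x => ¬ orb A x₀ x) (orb_inv' A x₀) y, hy]
          simp [mu, hr48, h48]


/-! ### the canonical groups on orbits of size 3 and 4 -/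

theorem card_KK3 : Fintype.card {s : Perm (Fin 3) // Perm.sign s = 1 ∧ s ^ 3 = 1} = 3 := by decide

theorem card_KK4 : Fintype.card {s : Perm (Fin 4) // Perm.sign s = 1 ∧ s ^ 4 = 1} = 4 := by decide

theorem card_KK (O : Type) [Fintype O] [DecidableEq O] (μ : ℕ) (hμ : μ = 3 ∨ μ = 4)
    (hO : Fintype.card O = μ) :
    Nat.card {s : Perm O // Perm.sign s = 1 ∧ s ^ μ = 1} = μ := by
  let e : O ≃ Fin μ := Fintype.equivFinOfCardEq hO
  have E : {s : Perm O // Perm.sign s = 1 ∧ s ^ μ = 1} ≃
      {s : Perm (Fin μ) // Perm.sign s = 1 ∧ s ^ μ = 1} :=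
    Equiv.subtypeEquiv e.permCongr (fun s => by
      rw [Perm.sign_permCongr]
      have : (e.permCongr s) ^ μ = 1 ↔ s ^ μ = 1 := by
        show (e.permCongrHom s) ^ μ = 1 ↔ _
        rw [← map_pow, map_eq_one_iff e.permCongrHom e.permCongrHom.injective]
      rw [this])
  rw [Nat.card_congr E, Nat.card_eq_fintype_card]
  rcases hμ with rfl | rfl
  · exact card_KK3
  · exact card_KK4

theorem mem_of_KK (O : Type) [Fintype O] [DecidableEq O] (μ : ℕ) (hμ : μ = 3 ∨ μ = 4)
    (hO : Fintype.card O = μ) (R : Subgroup (Perm O)) (hRcard : Nat.card R = μ)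
    (hRev : ∀ r ∈ R, Perm.sign r = 1) (s : Perm O) (hs1 : Perm.sign s = 1) (hs2 : s ^ μ = 1) :
    s ∈ R := by
  have hpow : ∀ r : R, (r : Perm O) ^ μ = 1 := by
    intro r
    have := pow_card_eq_one' (G := R) (x := r)
    rw [hRcard] at this
    exact_mod_cast congrArg Subtype.val this
  let φ : R → {s : Perm O // Perm.sign s = 1 ∧ s ^ μ = 1} := fun r => ⟨r.1, hRev r.1 r.2, hpow r⟩
  have hφ : Function.Injective φ := by
    intro a b hab
    exact Subtype.ext (congrArg (fun t => t.1) hab)
  have hbij : Function.Bijective φ := by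
    apply Function.Injective.bijective_of_nat_card_le hφ
    rw [card_KK O μ hμ hO, hRcard]
  obtain ⟨r, hr⟩ := hbij.2 ⟨s, hs1, hs2⟩
  have : (r : Perm O) = s := congrArg (fun t => t.1) hr
  rw [← this]; exact r.2

/-! ### gluing bijections -/

section glue
variable {X Y : Type} (p : X → Prop) [DecidablePred p] (q : Y → Prop) [DecidablePred q]
  (f₁ : Subtype p ≃ Subtype q) (f₂ : {x // ¬ p x} ≃ {y // ¬ q y})

/-- glue two bijections along a partition -/
def glue : X ≃ Y :=
  (Equiv.sumCompl p).symm.trans ((Equiv.sumCongr f₁ f₂).trans (Equiv.sumCompl q))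

theorem glue_pos (x : X) (hx : p x) : glue p q f₁ f₂ x = (f₁ ⟨x, hx⟩).1 := by
  simp [glue, Equiv.sumCompl_symm_apply_of_pos, hx]

theorem glue_neg (x : X) (hx : ¬ p x) : glue p q f₁ f₂ x = (f₂ ⟨x, hx⟩).1 := by
  simp [glue, Equiv.sumCompl_symm_apply_of_neg, hx]

theorem glue_symm_pos (y : Y) (hy : q y) : (glue p q f₁ f₂).symm y = (f₁.symm ⟨y, hy⟩).1 := by
  simp [glue, Equiv.sumCompl_symm_apply_of_pos, hy]

theorem glue_symm_neg (y : Y) (hy : ¬ q y) : (glue p q f₁ f₂).symm y = (f₂.symm ⟨y, hy⟩).1 := by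
  simp [glue, Equiv.sumCompl_symm_apply_of_neg, hy]

end glue


/-! ### conjugacy of extremal groups by a bijection -/

theorem gg_le_two {n : ℕ} (h : n ≤ 2) : gg n = 1 := by interval_cases n <;> rfl

theorem mu_cases (n : ℕ) : mu n = 3 ∨ mu n = 4 := by
  unfold mu; split_ifs <;> simp

theorem sub_mu_ne_five (n : ℕ) : n - mu n ≠ 5 := by
  unfold mu
  split_ifs with h
  · omega
  · omega

theorem conj_exists : ∀ (n : ℕ) (X : Type) [Fintype X] [DecidableEq X] (Y : Type) [Fintype Y]
    [DecidableEq Y] (A : Subgroup (Perm X)) (B : Subgroup (Perm Y)), IsExt A → IsExt B →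
    Fintype.card X = n → Fintype.card Y = n → n ≠ 5 →
    ∃ f : X ≃ Y, ∀ σ ∈ A, f.permCongr σ ∈ B := by
  intro n
  induction n using Nat.strong_induction_on with
  | _ n ih =>
    intro X _ _ Y _ _ A B hA hB hX hY h5
    classical
    by_cases h3 : n < 3
    · have hg : gg n = 1 := gg_le_two (by omega)
      have hA1 : Nat.card A = 1 := by rw [hA.2.2, hX, hg]
      refine ⟨Fintype.equivOfCardEq (hX.trans hY.symm), ?_⟩
      intro σ hσ
      rw [Subgroup.eq_bot_of_card_eq A hA1, Subgroup.mem_bot] at hσ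
      subst hσ
      have : (Fintype.equivOfCardEq (hX.trans hY.symm)).permCongr (1 : Perm X) = 1 := by
        ext y; simp [Equiv.permCongr_apply]
      rw [this]; exact B.one_mem
    · have h3' : 3 ≤ n := by omega
      obtain ⟨x₀, hx₀⟩ := orbit_exists n X A hA hX h3' h5
      obtain ⟨y₀, hy₀⟩ := orbit_exists n Y B hB hY h3' h5
      rw [Nat.card_eq_fintype_card] at hx₀ hy₀
      obtain ⟨hAev, hAc, -, hAExt, -, -⟩ := split A hA (by omega) (orb A x₀) (orb_inv A x₀)
        (orb_inv' A x₀) x₀ (orb_self A x₀) (fun x hx => hx)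
      obtain ⟨hBev, hBc, -, hBExt, -, hBsurj⟩ := split B hB (by omega) (orb B y₀) (orb_inv B y₀)
        (orb_inv' B y₀) y₀ (orb_self B y₀) (fun x hx => hx)
      have hμ := mu_cases n
      have hcX : Fintype.card {x // ¬ orb A x₀ x} = n - mu n := by
        rw [Fintype.card_subtype_compl, hX, hx₀]
      have hcY : Fintype.card {y // ¬ orb B y₀ y} = n - mu n := by
        rw [Fintype.card_subtype_compl, hY, hy₀]
      have hlt : n - mu n < n := by omega
      obtain ⟨f₂, hf₂⟩ := ih (n - mu n) hlt _ _ _ _ hAExt hBExt hcX hcY (sub_mu_ne_five n)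
      let f₁ : Subtype (orb A x₀) ≃ Subtype (orb B y₀) :=
        Fintype.equivOfCardEq (hx₀.trans hy₀.symm)
      refine ⟨glue _ _ f₁ f₂, ?_⟩
      intro σ hσ
      have hσp_pow : (restr A (orb A x₀) (orb_inv A x₀) ⟨σ, hσ⟩) ^ mu n = 1 := by
        have := pow_card_eq_one' (G := (restr A (orb A x₀) (orb_inv A x₀)).range)
          (x := ⟨restr A (orb A x₀) (orb_inv A x₀) ⟨σ, hσ⟩, ⟨σ, hσ⟩, rfl⟩)
        rw [hAc, hx₀] at this
        have h' := congrArg Subtype.val this
        rw [Subgroup.coe_pow, Subgroup.coe_one] at h'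
        exact h'
      have hu : f₁.permCongr (restr A (orb A x₀) (orb_inv A x₀) ⟨σ, hσ⟩) ∈
          (restr B (orb B y₀) (orb_inv B y₀)).range := by
        apply mem_of_KK _ (mu n) hμ hy₀ _ (hBc.trans hy₀)
        · rintro _ ⟨b, rfl⟩; exact hBev b
        · rw [Perm.sign_permCongr]; exact hAev ⟨σ, hσ⟩
        · show (f₁.permCongrHom (restr A (orb A x₀) (orb_inv A x₀) ⟨σ, hσ⟩)) ^ (mu n) = 1
          rw [← map_pow, hσp_pow, map_one]
      have hv : f₂.permCongr (restr A (fun x => ¬ orb A x₀ x) (orb_inv' A x₀) ⟨σ, hσ⟩) ∈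
          (restr B (fun y => ¬ orb B y₀ y) (orb_inv' B y₀)).range :=
        hf₂ _ ⟨⟨σ, hσ⟩, rfl⟩
      obtain ⟨b, hb1, hb2⟩ := hBsurj _ hu _ hv
      have hb : (b : Perm Y) = (glue _ _ f₁ f₂).permCongr σ := by
        ext y
        by_cases hy : orb B y₀ y
        · have h1 : (b : Perm Y) y = ((restr B (orb B y₀) (orb_inv B y₀) b) ⟨y, hy⟩).1 := rfl
          rw [h1, hb1]
          simp only [Equiv.permCongr_apply]
          rw [glue_symm_pos _ _ _ _ y hy]
          have hx' : orb A x₀ (σ (f₁.symm ⟨y, hy⟩).1) :=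
            (orb_inv A x₀ σ hσ _).mpr (f₁.symm ⟨y, hy⟩).2
          rw [glue_pos _ _ _ _ _ hx']
          rfl
        · have h1 : (b : Perm Y) y =
              ((restr B (fun y => ¬ orb B y₀ y) (orb_inv' B y₀) b) ⟨y, hy⟩).1 := rfl
          rw [h1, hb2]
          simp only [Equiv.permCongr_apply]
          rw [glue_symm_neg _ _ _ _ y hy]
          have hx' : ¬ orb A x₀ (σ (f₂.symm ⟨y, hy⟩).1) :=
            (orb_inv' A x₀ σ hσ _).mpr (f₂.symm ⟨y, hy⟩).2
          rw [glue_neg _ _ _ _ _ hx']
          rfl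
      rw [← hb]; exact b.2


/-! ### an odd permutation normalizing an extremal group -/

theorem odd_normalizer (X : Type) [Fintype X] [DecidableEq X] (A : Subgroup (Perm X))
    (hA : IsExt A) (h3 : 3 ≤ Fintype.card X) (h5 : Fintype.card X ≠ 5) :
    ∃ τ : Perm X, Perm.sign τ = -1 ∧ ∀ σ ∈ A, τ * σ * τ⁻¹ ∈ A := by
  classical
  obtain ⟨x₀, hx₀⟩ := orbit_exists _ X A hA rfl h3 h5
  rw [Nat.card_eq_fintype_card] at hx₀
  obtain ⟨hAev, hAc, -, -, -, hAsurj⟩ := split A hA h3 (orb A x₀) (orb_inv A x₀)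
    (orb_inv' A x₀) x₀ (orb_self A x₀) (fun x hx => hx)
  have hμ := mu_cases (Fintype.card X)
  obtain ⟨⟨x₁, hx₁⟩, hne⟩ := Fintype.exists_ne_of_one_lt_card (by rw [hx₀]; omega)
    (⟨x₀, orb_self A x₀⟩ : Subtype (orb A x₀))
  have hne' : x₁ ≠ x₀ := fun h => hne (Subtype.ext h)
  have hτp : ∀ x, orb A x₀ (Equiv.swap x₀ x₁ x) ↔ orb A x₀ x := by
    intro x
    by_cases h0 : x = x₀
    · subst h0
      rw [Equiv.swap_apply_left]
      exact ⟨fun _ => orb_self A x, fun _ => hx₁⟩
    · by_cases h1 : x = x₁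
      · subst h1
        rw [Equiv.swap_apply_right]
        exact ⟨fun _ => hx₁, fun _ => orb_self A x₀⟩
      · rw [Equiv.swap_apply_of_ne_of_ne h0 h1]
  refine ⟨Equiv.swap x₀ x₁, Perm.sign_swap hne'.symm, ?_⟩
  intro σ hσ
  have hσp_pow : (restr A (orb A x₀) (orb_inv A x₀) ⟨σ, hσ⟩) ^ mu (Fintype.card X) = 1 := by
    have := pow_card_eq_one' (G := (restr A (orb A x₀) (orb_inv A x₀)).range)
      (x := ⟨restr A (orb A x₀) (orb_inv A x₀) ⟨σ, hσ⟩, ⟨σ, hσ⟩, rfl⟩)
    rw [hAc, hx₀] at this
    have h' := congrArg Subtype.val this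
    rw [Subgroup.coe_pow, Subgroup.coe_one] at h'
    exact h'
  have hu : (Equiv.swap x₀ x₁).subtypePerm hτp * restr A (orb A x₀) (orb_inv A x₀) ⟨σ, hσ⟩ *
      ((Equiv.swap x₀ x₁).subtypePerm hτp)⁻¹ ∈ (restr A (orb A x₀) (orb_inv A x₀)).range := by
    apply mem_of_KK _ (mu (Fintype.card X)) hμ hx₀ _ (hAc.trans hx₀)
    · rintro _ ⟨b, rfl⟩; exact hAev b
    · rw [Perm.sign_mul, Perm.sign_mul, Perm.sign_inv, hAev ⟨σ, hσ⟩, mul_one, Int.units_mul_self]
    · rw [conj_pow, hσp_pow, mul_one, mul_inv_cancel]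
  have hv : restr A (fun x => ¬ orb A x₀ x) (orb_inv' A x₀) ⟨σ, hσ⟩ ∈
      (restr A (fun x => ¬ orb A x₀ x) (orb_inv' A x₀)).range := ⟨⟨σ, hσ⟩, rfl⟩
  obtain ⟨a, ha1, ha2⟩ := hAsurj _ hu _ hv
  have hfin : (a : Perm X) = Equiv.swap x₀ x₁ * σ * (Equiv.swap x₀ x₁)⁻¹ := by
    ext y
    by_cases hy : orb A x₀ y
    · have h1 : (a : Perm X) y = ((restr A (orb A x₀) (orb_inv A x₀) a) ⟨y, hy⟩).1 := rfl
      rw [h1, ha1]; rfl
    · have h1 : (a : Perm X) y =
          ((restr A (fun x => ¬ orb A x₀ x) (orb_inv' A x₀) a) ⟨y, hy⟩).1 := rfl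
      rw [h1, ha2]
      show σ y = Equiv.swap x₀ x₁ (σ ((Equiv.swap x₀ x₁)⁻¹ y))
      have hy0 : y ≠ x₀ := fun h => hy (h ▸ orb_self A x₀)
      have hy1 : y ≠ x₁ := fun h => hy (h ▸ hx₁)
      have e1 : (Equiv.swap x₀ x₁)⁻¹ y = y := by
        rw [Equiv.swap_inv]; exact Equiv.swap_apply_of_ne_of_ne hy0 hy1
      have hσy : ¬ orb A x₀ (σ y) := (orb_inv' A x₀ σ hσ y).mpr hy
      have e2 : Equiv.swap x₀ x₁ (σ y) = σ y :=
        Equiv.swap_apply_of_ne_of_ne (fun h => hσy (h ▸ orb_self A x₀)) (fun h => hσy (h ▸ hx₁))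
      rw [e1, e2]
  rw [← hfin]; exact a.2

/-! ### existence of subgroups of the extremal order -/

theorem units_eq_one_of_pow_five (u : ℤˣ) (h : u ^ 5 = 1) : u = 1 := by
  rcases Int.units_eq_one_or u with h' | h'
  · exact h'
  · rw [h'] at h; exact absurd h (by decide)

theorem exists_ext (n : ℕ) :
    ∃ A : Subgroup (alternatingGroup (Fin n)), IsMulCommutative A ∧ Nat.card A = gg n := by
  by_cases h2 : n ≤ 2
  · refine ⟨⊥, ?_, ?_⟩
    · exact ⟨⟨fun a b => Subsingleton.elim _ _⟩⟩
    · rw [Subgroup.card_bot, gg_le_two h2]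
  · obtain ⟨k, rfl⟩ | ⟨k, rfl⟩ | ⟨k, rfl⟩ :
        (∃ k, n = 3 * k) ∨ (∃ k, n = 3 * k + 1) ∨ (∃ k, n = 3 * k + 2) := by
      have h := Nat.mod_lt n (by norm_num : 0 < 3)
      have h' := Nat.div_add_mod n 3
      rcases (by omega : n % 3 = 0 ∨ n % 3 = 1 ∨ n % 3 = 2) with h0 | h0 | h0
      · left; exact ⟨n / 3, by omega⟩
      · right; left; exact ⟨n / 3, by omega⟩
      · right; right; exact ⟨n / 3, by omega⟩
    · obtain ⟨A, hA, hc⟩ := exists_alt_three_mul k
      refine ⟨A, hA, ?_⟩
      rw [hc]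
      by_cases hk : 2 ≤ k
      · exact (gg_three_mul k hk).symm
      · have : k = 1 := by omega
        subst this; rfl
    · obtain ⟨A, hA, hc⟩ := exists_alt_three_mul_add_one k (by omega)
      refine ⟨A, hA, ?_⟩
      rw [hc]
      by_cases hk : 2 ≤ k
      · exact (gg_three_mul_add_one k hk).symm
      · have : k = 1 := by omega
        subst this; rfl
    · by_cases hk : 2 ≤ k
      · obtain ⟨A, hA, hc⟩ := exists_alt_three_mul_add_two k hk
        exact ⟨A, hA, by rw [hc]; exact (gg_three_mul_add_two k hk).symm⟩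
      · have hk1 : k = 1 := by omega
        subst hk1
        have hev : ∀ h : Multiplicative (ZMod 5), Perm.sign (reg (Multiplicative (ZMod 5)) h) = 1 := by
          intro h
          apply units_eq_one_of_pow_five
          have h5 : h ^ 5 = 1 := by
            have := pow_card_eq_one' (G := Multiplicative (ZMod 5)) (x := h)
            rwa [card_mz 5] at this
          rw [← map_pow, ← map_pow, h5, map_one, map_one]
        obtain ⟨A, hA, hc⟩ := exists_alt (Multiplicative (ZMod 5)) (Multiplicative (ZMod 5))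
          (reg _) (reg_injective _) hev (3 * 1 + 2) (by
            rw [Fintype.card_multiplicative, ZMod.card])
        exact ⟨A, hA, by rw [hc, card_mz 5]; rfl⟩


/-! ### the theorem -/

theorem card_smul_conj {G : Type*} [Group G] (g : G) (A : Subgroup G) :
    Nat.card (MulAut.conj g • A : Subgroup G) = Nat.card A := by
  rw [Subgroup.pointwise_smul_def]
  exact Subgroup.card_map_of_injective (MulAut.conj g).injective


/-- In the alternating group of any degree, any two abelian subgroups of the largest possible order (among abelian subgroups) are conjugate. -/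
theorem result (n : ℕ)
    (A B : Subgroup (alternatingGroup (Fin n))) (hA : IsMulCommutative A) (hB : IsMulCommutative B)
    (hAmax : ∀ C : Subgroup (alternatingGroup (Fin n)), IsMulCommutative C → Nat.card C ≤ Nat.card A)
    (hBmax : ∀ C : Subgroup (alternatingGroup (Fin n)), IsMulCommutative C → Nat.card C ≤ Nat.card B) :
    ∃ g : alternatingGroup (Fin n), B = MulAut.conj g • A := by
  obtain ⟨C, hC, hCcard⟩ := exists_ext n
  have hAcard : Nat.card A = gg n :=
    le_antisymm (Cfsg.Agent.S2504.upper n A hA) (hCcard ▸ hAmax C hC)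
  have hBcard : Nat.card B = gg n :=
    le_antisymm (Cfsg.Agent.S2504.upper n B hB) (hCcard ▸ hBmax C hC)
  by_cases h5 : n = 5
  · subst h5
    have hp : Fact (Nat.Prime 5) := ⟨by norm_num⟩
    have hG : Nat.card (alternatingGroup (Fin 5)) = 60 := by
      have h4 := two_mul_nat_card_alternatingGroup (α := Fin 5)
      rw [Nat.card_perm, Nat.card_fin] at h4
      have : Nat.factorial 5 = 120 := by decide
      omega
    have hg5 : gg 5 = 5 := rfl
    have key : ∀ D : Subgroup (alternatingGroup (Fin 5)), Nat.card D = 5 →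
        ∃ P : Sylow 5 (alternatingGroup (Fin 5)), (P : Subgroup (alternatingGroup (Fin 5))) = D := by
      intro D hD
      have hDp : IsPGroup 5 D := IsPGroup.of_card (n := 1) (by rw [hD, pow_one])
      obtain ⟨P, hP⟩ := hDp.exists_le_sylow
      refine ⟨P, ?_⟩
      symm
      apply Subgroup.eq_of_le_of_card_ge hP
      obtain ⟨k, hk⟩ := (IsPGroup.iff_card).mp P.isPGroup'
      have hdvd : Nat.card (P : Subgroup (alternatingGroup (Fin 5))) ∣ 60 :=
        hG ▸ Subgroup.card_subgroup_dvd_card _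
      rw [hk] at hdvd ⊢
      rw [hD]
      have hk1 : k ≤ 1 := by
        by_contra hk2
        have : 5 ^ 2 ∣ 5 ^ k := pow_dvd_pow 5 (by omega)
        have := this.trans hdvd
        omega
      interval_cases k <;> omega
    obtain ⟨P, hP⟩ := key A (hAcard.trans hg5)
    obtain ⟨Q, hQ⟩ := key B (hBcard.trans hg5)
    obtain ⟨g, hg⟩ := MulAction.exists_smul_eq (alternatingGroup (Fin 5)) P Q
    refine ⟨g, ?_⟩
    rw [← hQ, ← hP, ← hg, Sylow.smul_def, Sylow.pointwise_smul_def]
  · suffices h : ∃ g : alternatingGroup (Fin n), ∀ a ∈ A, g * a * g⁻¹ ∈ B by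
      obtain ⟨g, hg⟩ := h
      refine ⟨g, ?_⟩
      symm
      apply Subgroup.eq_of_le_of_card_ge
      · intro x hx
        rw [Subgroup.mem_smul_pointwise_iff_exists] at hx
        obtain ⟨a, ha, rfl⟩ := hx
        rw [MulAut.smul_def, MulAut.conj_apply]; exact hg a ha
      · rw [card_smul_conj, hBcard, hAcard]
    by_cases h3 : n < 3
    · refine ⟨1, ?_⟩
      intro a ha
      have hA1 : Nat.card A = 1 := by rw [hAcard, gg_le_two (by omega)]
      rw [Subgroup.eq_bot_of_card_eq A hA1, Subgroup.mem_bot] at ha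
      subst ha
      simp
    · have h3' : 3 ≤ n := by omega
      have hinj : Function.Injective (alternatingGroup (Fin n)).subtype := Subtype.val_injective
      have ext_of : ∀ D : Subgroup (alternatingGroup (Fin n)), IsMulCommutative D →
          Nat.card D = gg n → IsExt (D.map (alternatingGroup (Fin n)).subtype) := by
        intro D hD hDcard
        refine ⟨?_, ?_, ?_⟩
        · rintro _ ⟨a, ha, rfl⟩ _ ⟨b, hb, rfl⟩
          rw [← map_mul, ← map_mul]
          congr 1
          exact comm_of_isMulCommutative D hD a ha b hb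
        · rintro _ ⟨a, _, rfl⟩
          exact Equiv.Perm.mem_alternatingGroup.mp a.2
        · rw [Subgroup.card_map_of_injective hinj, hDcard, Fintype.card_fin]
      have hA' := ext_of A hA hAcard
      have hB' := ext_of B hB hBcard
      obtain ⟨f, hf⟩ := conj_exists n (Fin n) (Fin n) _ _ hA' hB' (Fintype.card_fin n)
        (Fintype.card_fin n) h5
      have hperm : ∀ σ : Perm (Fin n), f.permCongr σ = (f : Perm (Fin n)) * σ * (f : Perm (Fin n))⁻¹ := by
        intro σ; ext x; rfl
      -- conclude from an even conjugating permutation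
      have fin_step : ∀ g : Perm (Fin n), Perm.sign g = 1 →
          (∀ σ ∈ A.map (alternatingGroup (Fin n)).subtype, g * σ * g⁻¹ ∈
            B.map (alternatingGroup (Fin n)).subtype) →
          ∃ g : alternatingGroup (Fin n), ∀ a ∈ A, g * a * g⁻¹ ∈ B := by
        intro g hgs hg
        refine ⟨⟨g, Equiv.Perm.mem_alternatingGroup.mpr hgs⟩, ?_⟩
        intro a ha
        obtain ⟨b, hb, hbe⟩ := hg a.1 ⟨a, ha, rfl⟩
        have : b = ⟨g, Equiv.Perm.mem_alternatingGroup.mpr hgs⟩ * a *
            (⟨g, Equiv.Perm.mem_alternatingGroup.mpr hgs⟩ : alternatingGroup (Fin n))⁻¹ := by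
          apply hinj
          rw [hbe]; rfl
        rw [← this]; exact hb
      rcases Int.units_eq_one_or (Perm.sign (f : Perm (Fin n))) with hs | hs
      · apply fin_step f hs
        intro σ hσ
        rw [← hperm]; exact hf σ hσ
      · obtain ⟨τ, hτs, hτ⟩ := odd_normalizer (Fin n) _ hA' (by rw [Fintype.card_fin]; exact h3')
          (by rw [Fintype.card_fin]; exact h5)
        apply fin_step ((f : Perm (Fin n)) * τ) (by rw [Perm.sign_mul, hs, hτs]; decide)
        intro σ hσ
        have := hf _ (hτ σ hσ)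
        rw [hperm] at this
        have e : (f : Perm (Fin n)) * τ * σ * ((f : Perm (Fin n)) * τ)⁻¹ =
            (f : Perm (Fin n)) * (τ * σ * τ⁻¹) * (f : Perm (Fin n))⁻¹ := by
          group
        rw [e]; exact this


end Cfsg.Agent.S2506
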