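import Cfsg.Statements.S2507
import Cfsg.Agent.Lib.Helper41.SL2NsTorusCard
import Cfsg.Agent.Lib.Helper57.CardSL

set_option autoImplicit false
open Cfsg

namespace Cfsg.Agent.S2507

open Cfsg.Agent.Lib.Helper41

section general
variable {G G' : Type*} [Group G] [Group G']

theorem centralizer_map_equiv (e : G ≃* G') (g : G) :
    Subgroup.centralizer ({e g} : Set G') = (Subgroup.centralizer ({g} : Set G)).map (e : G →* G') := by
  ext x
  rw [Subgroup.mem_map, Subgroup.mem_centralizer_iff]
  constructor
  · intro h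
    refine ⟨e.symm x, ?_, by simp⟩
    rw [Subgroup.mem_centralizer_iff]
    intro y hy
    rw [Set.mem_singleton_iff] at hy
    subst hy
    apply e.injective
    rw [map_mul, map_mul, e.apply_symm_apply]
    exact h _ (Set.mem_singleton _)
  · rintro ⟨y, hy, rfl⟩ z hz
    rw [Set.mem_singleton_iff] at hz
    subst hz
    rw [Subgroup.mem_centralizer_iff] at hy
    have := hy g (Set.mem_singleton _)
    show e g * e y = e y * e g
    rw [← map_mul, ← map_mul, this]

theorem index_centralizer_equiv (e : G ≃* G') (g : G) :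
    (Subgroup.centralizer ({e g} : Set G')).index = (Subgroup.centralizer ({g} : Set G)).index := by
  rw [centralizer_map_equiv, Subgroup.index_map_equiv]

theorem index_centralizer_conj (g h : G) :
    (Subgroup.centralizer ({h * g * h⁻¹} : Set G)).index = (Subgroup.centralizer ({g} : Set G)).index :=
  index_centralizer_equiv (MulAut.conj h) g

theorem index_of_card (H : Subgroup G) (c i : ℕ) (hc : Nat.card H = c) (hpos : 0 < c)
    (hN : c * i = Nat.card G) : H.index = i := by
  have := H.card_mul_index
  rw [hc, ← hN] at this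
  exact Nat.eq_of_mul_eq_mul_left hpos this

end general

variable {F : Type*} [Field F] [Fintype F]

theorem card_SL2 : Nat.card (Matrix.SpecialLinearGroup (Fin 2) F) =
    Fintype.card F * (Fintype.card F ^ 2 - 1) := by
  have h1 := Cfsg.Agent.Lib.Helper57.card_SL_formula (F := F) 2 (by norm_num)
  rw [Fin.prod_univ_two] at h1
  simp only [Fin.val_zero, pow_zero, Fin.val_one, pow_one] at h1
  have hq : 2 ≤ Fintype.card F := Fintype.one_lt_card
  set q := Fintype.card F with hq'
  obtain ⟨r, hr⟩ : ∃ r, q = r + 2 := ⟨q - 2, by omega⟩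
  rw [hr] at h1 ⊢
  have e1 : r + 2 - 1 = r + 1 := by omega
  have e3 : (r + 2) ^ 2 - (r + 2) = (r + 2) * (r + 1) := by
    have : (r + 2) ^ 2 = (r + 2) * (r + 1) + (r + 2) := by ring
    omega
  rw [e1, e3] at h1
  have hpos : 0 < r + 1 := by positivity
  apply Nat.eq_of_mul_eq_mul_left hpos
  rw [h1]
  ring

omit [Fintype F] in
theorem upperU_mul (u v : F) : (upperU u * upperU v : Matrix.SpecialLinearGroup (Fin 2) F) = upperU (u + v) := by
  apply sl2_ext <;> simp [mul_apply_00, mul_apply_01, mul_apply_10, mul_apply_11, coe_upperU, add_comm]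

/-- the unipotent hom -/
def upperHom : Multiplicative F →* Matrix.SpecialLinearGroup (Fin 2) F where
  toFun u := upperU (Multiplicative.toAdd u)
  map_one' := by
    apply sl2_ext <;> simp [coe_upperU]
  map_mul' u v := by
    rw [upperU_mul]; rfl

omit [Fintype F] in
theorem upperHom_injective : Function.Injective (upperHom (F := F)) := by
  intro u v h
  have := congrArg (fun A : Matrix.SpecialLinearGroup (Fin 2) F => (A : Matrix (Fin 2) (Fin 2) F) 0 1) h
  simpa [upperHom, coe_upperU] using this

omit [Fintype F] in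
theorem centralizer_upperU (h2 : (2 : F) = 0) (d : F) (hd : d ≠ 0) :
    Subgroup.centralizer ({upperU d} : Set (Matrix.SpecialLinearGroup (Fin 2) F)) =
      (upperHom (F := F)).range := by
  ext x
  rw [Subgroup.mem_centralizer_iff, MonoidHom.mem_range]
  constructor
  · intro h
    have e := h _ (Set.mem_singleton _)
    have e00 := congrArg (fun A : Matrix.SpecialLinearGroup (Fin 2) F =>
      (A : Matrix (Fin 2) (Fin 2) F) 0 0) e
    have e01 := congrArg (fun A : Matrix.SpecialLinearGroup (Fin 2) F =>
      (A : Matrix (Fin 2) (Fin 2) F) 0 1) e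
    simp only [mul_apply_00, mul_apply_01, coe_upperU] at e00 e01
    simp at e00 e01
    have h10 : (x : Matrix (Fin 2) (Fin 2) F) 1 0 = 0 := by
      rcases e00 with h | h
      · exact absurd h hd
      · exact h
    have h11 : (x : Matrix (Fin 2) (Fin 2) F) 1 1 = (x : Matrix (Fin 2) (Fin 2) F) 0 0 := by
      have : d * ((x : Matrix (Fin 2) (Fin 2) F) 1 1 - (x : Matrix (Fin 2) (Fin 2) F) 0 0) = 0 := by
        linear_combination e01
      rcases mul_eq_zero.mp this with h | h
      · exact absurd h hd
      · exact sub_eq_zero.mp h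
    have hdet := sl2_det x
    rw [h10, h11, mul_zero, sub_zero] at hdet
    have h00 : (x : Matrix (Fin 2) (Fin 2) F) 0 0 = 1 := by
      have : ((x : Matrix (Fin 2) (Fin 2) F) 0 0 - 1) ^ 2 = 0 := by
        linear_combination hdet + (1 - (x : Matrix (Fin 2) (Fin 2) F) 0 0) * h2
      exact sub_eq_zero.mp (pow_eq_zero_iff (two_ne_zero)|>.mp this)
    refine ⟨Multiplicative.ofAdd ((x : Matrix (Fin 2) (Fin 2) F) 0 1), ?_⟩
    apply sl2_ext <;> simp [upperHom, coe_upperU, h00, h10, h11]
  · rintro ⟨u, rfl⟩ y hy
    rw [Set.mem_singleton_iff] at hy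
    subst hy
    show upperU d * upperU (Multiplicative.toAdd u) = upperU (Multiplicative.toAdd u) * upperU d
    rw [upperU_mul, upperU_mul, add_comm]

theorem card_centralizer_upperU (h2 : (2 : F) = 0) (d : F) (hd : d ≠ 0) :
    Nat.card (Subgroup.centralizer ({upperU d} : Set (Matrix.SpecialLinearGroup (Fin 2) F))) =
      Fintype.card F := by
  rw [centralizer_upperU h2 d hd, ← Nat.card_congr (MonoidHom.ofInjective upperHom_injective).toEquiv,
    Nat.card_eq_fintype_card, Fintype.card_multiplicative]

omit [Fintype F] in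
theorem exists_conj_upperU (h2 : (2 : F) = 0) (g : Matrix.SpecialLinearGroup (Fin 2) F)
    (htr : tr2 g = 0) (hg : g ≠ 1) :
    ∃ P : Matrix.SpecialLinearGroup (Fin 2) F, ∃ d : F, d ≠ 0 ∧ g = P * upperU d * P⁻¹ := by
  have hdet := sl2_det g
  unfold tr2 at htr
  by_cases hc : (g : Matrix (Fin 2) (Fin 2) F) 1 0 = 0
  · -- g is upper unitriangular
    rw [hc, mul_zero, sub_zero] at hdet
    have h11 : (g : Matrix (Fin 2) (Fin 2) F) 1 1 = (g : Matrix (Fin 2) (Fin 2) F) 0 0 := by
      linear_combination htr - ((g : Matrix (Fin 2) (Fin 2) F) 0 0) * h2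
    rw [h11] at hdet
    have h00 : (g : Matrix (Fin 2) (Fin 2) F) 0 0 = 1 := by
      have : ((g : Matrix (Fin 2) (Fin 2) F) 0 0 - 1) ^ 2 = 0 := by
        linear_combination hdet + (1 - (g : Matrix (Fin 2) (Fin 2) F) 0 0) * h2
      exact sub_eq_zero.mp (pow_eq_zero_iff (two_ne_zero)|>.mp this)
    have hgu : g = upperU ((g : Matrix (Fin 2) (Fin 2) F) 0 1) := by
      apply sl2_ext <;> simp [coe_upperU, h00, hc, h11]
    refine ⟨1, (g : Matrix (Fin 2) (Fin 2) F) 0 1, ?_, by simpa using hgu⟩
    intro h0
    apply hg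
    rw [hgu, h0]
    apply sl2_ext <;> simp [coe_upperU]
  · set a := (g : Matrix (Fin 2) (Fin 2) F) 0 0 with ha
    set b := (g : Matrix (Fin 2) (Fin 2) F) 0 1 with hb
    set c := (g : Matrix (Fin 2) (Fin 2) F) 1 0 with hc'
    set e := (g : Matrix (Fin 2) (Fin 2) F) 1 1 with he
    have hPdet : (!![(a + 1) / c, 1; 1, 0] : Matrix (Fin 2) (Fin 2) F).det = 1 := by
      rw [Matrix.det_fin_two_of]
      linear_combination (-1 : F) * h2
    obtain ⟨P, hP⟩ : ∃ P : Matrix.SpecialLinearGroup (Fin 2) F,
        (P : Matrix (Fin 2) (Fin 2) F) = !![(a + 1) / c, 1; 1, 0] := ⟨⟨_, hPdet⟩, rfl⟩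
    refine ⟨P, c, hc, ?_⟩
    rw [eq_mul_inv_iff_mul_eq]
    apply sl2_ext
    · rw [mul_apply_00, mul_apply_00]
      simp [coe_upperU, ← ha, ← hb, hP]
      field_simp
      linear_combination (-1 : F) * hdet + a * htr - h2
    · rw [mul_apply_01, mul_apply_01]
      simp [coe_upperU, ← ha, ← hb, hP]
      field_simp
      linear_combination (-1 : F) * h2
    · rw [mul_apply_10, mul_apply_10]
      simp [coe_upperU, ← hc', ← he, hP]
      field_simp
      linear_combination htr
    · rw [mul_apply_11, mul_apply_11]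
      simp [coe_upperU, ← hc', ← he, hP]

theorem card_sq_sub_one (q : ℕ) (hq : 1 ≤ q) : q ^ 2 - 1 = (q + 1) * (q - 1) := by
  obtain ⟨r, rfl⟩ : ∃ r, q = r + 1 := ⟨q - 1, by omega⟩
  have : (r + 1) ^ 2 = (r + 1 + 1) * r + 1 := by ring
  rw [this]
  simp

omit [Fintype F] in
theorem unit_sq_ne_one (h2 : (2 : F) = 0) (u : Fˣ) (hu : u ≠ 1) : (u : F) ^ 2 ≠ 1 := by
  intro h
  apply hu
  apply Units.ext
  have : ((u : F) - 1) ^ 2 = 0 := by linear_combination h + (1 - (u : F)) * h2
  simpa using sub_eq_zero.mp (pow_eq_zero_iff (two_ne_zero)|>.mp this)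

theorem index_diagHom (h2 : (2 : F) = 0) (u : Fˣ) (hu : u ≠ 1) :
    (Subgroup.centralizer ({diagHom u} : Set (Matrix.SpecialLinearGroup (Fin 2) F))).index =
      Fintype.card F * (Fintype.card F + 1) := by
  have hq : 2 ≤ Fintype.card F := Fintype.one_lt_card
  rw [centralizer_eq_diagSub (diagHom u) ⟨by simp [coe_diagHom], by simp [coe_diagHom]⟩
    (by simpa [coe_diagHom] using unit_sq_ne_one h2 u hu)]
  apply index_of_card _ (Fintype.card F - 1) _ card_diagSub (by omega)
  rw [card_SL2, card_sq_sub_one _ (by omega)]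
  ring

theorem index_companion {t : F} (ht : ∀ r : F, r ^ 2 ≠ -1 + t * r) :
    (Subgroup.centralizer ({companion t} : Set (Matrix.SpecialLinearGroup (Fin 2) F))).index =
      Fintype.card F * (Fintype.card F - 1) := by
  have hq : 2 ≤ Fintype.card F := Fintype.one_lt_card
  apply index_of_card _ (Fintype.card F + 1) _ (card_nsTorus ht) (by omega)
  rw [card_SL2, card_sq_sub_one _ (by omega)]
  ring

theorem index_upperU (h2 : (2 : F) = 0) (d : F) (hd : d ≠ 0) :
    (Subgroup.centralizer ({upperU d} : Set (Matrix.SpecialLinearGroup (Fin 2) F))).index =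
      Fintype.card F ^ 2 - 1 := by
  have hq : 2 ≤ Fintype.card F := Fintype.one_lt_card
  apply index_of_card _ (Fintype.card F) _ (card_centralizer_upperU h2 d hd) (by omega)
  rw [card_SL2]

omit [Fintype F] in
theorem index_one :
    (Subgroup.centralizer ({1} : Set (Matrix.SpecialLinearGroup (Fin 2) F))).index = 1 := by
  have : Subgroup.centralizer ({1} : Set (Matrix.SpecialLinearGroup (Fin 2) F)) = ⊤ := by
    rw [eq_top_iff]
    intro x _
    rw [Subgroup.mem_centralizer_iff]
    intro y hy
    rw [Set.mem_singleton_iff] at hy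
    subst hy
    simp
  rw [this, Subgroup.index_top]

theorem index_cases (h2 : (2 : F) = 0) (g : Matrix.SpecialLinearGroup (Fin 2) F) :
    (Subgroup.centralizer ({g} : Set (Matrix.SpecialLinearGroup (Fin 2) F))).index ∈
      ({1, Fintype.card F * (Fintype.card F - 1), Fintype.card F ^ 2 - 1,
        Fintype.card F * (Fintype.card F + 1)} : Set ℕ) := by
  by_cases htr : tr2 g = 0
  · by_cases hg : g = 1
    · subst hg
      left
      exact index_one
    · right; right; left
      obtain ⟨P, d, hd, rfl⟩ := exists_conj_upperU h2 g htr hg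
      rw [index_centralizer_conj, index_upperU h2 d hd]
  · have ht4 : (tr2 g) ^ 2 ≠ 4 := by
      intro h
      apply htr
      have : (tr2 g) ^ 2 = 0 := by rw [h]; linear_combination (2 : F) * h2
      exact pow_eq_zero_iff (two_ne_zero)|>.mp this
    by_cases hr : ∃ r : F, r ^ 2 = -1 + tr2 g * r
    · obtain ⟨r, hr⟩ := hr
      obtain ⟨u, hu⟩ := isConj_diagHom_of_root g ht4 r hr
      rw [isConj_iff] at hu
      obtain ⟨c, hc⟩ := hu
      right; right; right
      rw [Set.mem_singleton_iff, ← hc, index_centralizer_conj]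
      apply index_diagHom h2
      rintro rfl
      apply htr
      rw [← hc, tr2_conj, tr2_diagHom]
      simp
      linear_combination h2
    · push Not at hr
      obtain ⟨P, hP⟩ := exists_conj_companion g ht4
      have : g = P * companion (tr2 g) * P⁻¹ := by rw [← hP]; simp
      right; left
      rw [this, index_centralizer_conj]
      exact index_companion hr

omit [Fintype F] in
theorem mk_bijective (h2 : (2 : F) = 0) :
    Function.Bijective (QuotientGroup.mk' (Subgroup.center (Matrix.SpecialLinearGroup (Fin 2) F))) := by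
  refine ⟨?_, QuotientGroup.mk'_surjective _⟩
  rw [← MonoidHom.ker_eq_bot_iff, QuotientGroup.ker_mk', eq_bot_iff]
  intro A hA
  rw [mem_center_iff_pm] at hA
  have hneg : (-1 : Matrix (Fin 2) (Fin 2) F) = 1 := by
    have : (-1 : F) = 1 := by linear_combination -h2
    ext i j
    fin_cases i <;> fin_cases j <;> simp [this]
  rw [hneg, or_self] at hA
  rw [Subgroup.mem_bot]
  exact Subtype.ext hA


/-- Let F be a finite field with q = 2^f ≥ 4 elements. The conjugacy class sizes of PSL(2,F) are exactly 1, q(q − 1), q² − 1 and q(q + 1). -/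
theorem result {F : Type*} [Field F] [Fintype F]
    (h2 : 2 ∣ Fintype.card F) (h4 : 4 ≤ Fintype.card F) :
    Set.range (fun g : (Matrix.ProjectiveSpecialLinearGroup (Fin 2) F) => (Subgroup.centralizer ({g} : Set (Matrix.ProjectiveSpecialLinearGroup (Fin 2) F))).index) =
      {1, Fintype.card F * (Fintype.card F - 1), Fintype.card F ^ 2 - 1, Fintype.card F * (Fintype.card F + 1)} := by
  have hchar : ringChar F = 2 := FiniteField.even_card_iff_char_two.mpr (Nat.mod_eq_zero_of_dvd h2)
  have : CharP F 2 := ringChar.of_eq hchar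
  have h20 : (2 : F) = 0 := CharTwo.two_eq_zero
  let π : Matrix.SpecialLinearGroup (Fin 2) F ≃* Matrix.ProjectiveSpecialLinearGroup (Fin 2) F :=
    MulEquiv.ofBijective _ (mk_bijective h20)
  ext n
  constructor
  · rintro ⟨x, rfl⟩
    obtain ⟨g, rfl⟩ := π.surjective x
    show (Subgroup.centralizer ({π g} : Set (Matrix.ProjectiveSpecialLinearGroup (Fin 2) F))).index ∈ _
    rw [index_centralizer_equiv]
    exact index_cases h20 g
  · rintro (rfl | rfl | rfl | rfl)
    · refine ⟨π 1, ?_⟩
      show (Subgroup.centralizer ({π 1} : Set (Matrix.ProjectiveSpecialLinearGroup (Fin 2) F))).index = _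
      rw [index_centralizer_equiv, index_one]
    · obtain ⟨t, ht⟩ := exists_nonsplit_trace (F := F)
      refine ⟨π (companion t), ?_⟩
      show (Subgroup.centralizer ({π (companion t)} : Set (Matrix.ProjectiveSpecialLinearGroup (Fin 2) F))).index = _
      rw [index_centralizer_equiv, index_companion ht]
    · refine ⟨π (upperU 1), ?_⟩
      show (Subgroup.centralizer ({π (upperU 1)} : Set (Matrix.ProjectiveSpecialLinearGroup (Fin 2) F))).index = _
      rw [index_centralizer_equiv, index_upperU h20 1 one_ne_zero]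
    · classical
      have hcard : 1 < Fintype.card Fˣ := by
        rw [Fintype.card_units]
        omega
      obtain ⟨u, hu⟩ := Fintype.exists_ne_of_one_lt_card hcard 1
      refine ⟨π (diagHom u), ?_⟩
      show (Subgroup.centralizer ({π (diagHom u)} : Set (Matrix.ProjectiveSpecialLinearGroup (Fin 2) F))).index = _
      rw [index_centralizer_equiv, index_diagHom h20 u hu]


end Cfsg.Agent.S2507
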