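import Cfsg.Statements.S2508
import Cfsg.Agent.Lib.Helper41.SL2NsTorusClass
import Cfsg.Agent.Lib.Helper41.SL2NsTorusMain
import Cfsg.Agent.Lib.Helper57.CardSL

set_option autoImplicit false
open Cfsg

namespace Cfsg.Agent.S2508

open Cfsg.Agent.Lib.Helper41

section general
variable {G G' : Type*} [Group G] [Group G']

theorem centralizer_map_equiv (e : G ≃* G') (g : G) :
    Subgroup.centralizer ({e g} : Set G') = (Subgroup.centralizer ({g} : Set G)).map (e : G →* G') := by
  ext x
  rw [Subgroup.mem_map, Subgroup.mem_centralizer_iff]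
  constructor
  · intro h
    refine ⟨e.symm x, ?_, by simp⟩
    rw [Subgroup.mem_centralizer_iff]
    intro y hy
    rw [Set.mem_singleton_iff] at hy
    subst hy
    apply e.injective
    rw [map_mul, map_mul, e.apply_symm_apply]
    exact h _ (Set.mem_singleton _)
  · rintro ⟨y, hy, rfl⟩ z hz
    rw [Set.mem_singleton_iff] at hz
    subst hz
    rw [Subgroup.mem_centralizer_iff] at hy
    have := hy g (Set.mem_singleton _)
    show e g * e y = e y * e g
    rw [← map_mul, ← map_mul, this]

theorem index_centralizer_equiv (e : G ≃* G') (g : G) :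
    (Subgroup.centralizer ({e g} : Set G')).index = (Subgroup.centralizer ({g} : Set G)).index := by
  rw [centralizer_map_equiv, Subgroup.index_map_equiv]

theorem index_centralizer_conj (g h : G) :
    (Subgroup.centralizer ({h * g * h⁻¹} : Set G)).index = (Subgroup.centralizer ({g} : Set G)).index :=
  index_centralizer_equiv (MulAut.conj h) g

theorem index_of_card (H : Subgroup G) (c i : ℕ) (hc : Nat.card H = c) (hpos : 0 < c)
    (hN : c * i = Nat.card G) : H.index = i := by
  have := H.card_mul_index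
  rw [hc, ← hN] at this
  exact Nat.eq_of_mul_eq_mul_left hpos this

end general

variable {F : Type*} [Field F]

/-- the class-size function on `SL₂` through `PSL₂` -/
noncomputable def idx (g : Matrix.SpecialLinearGroup (Fin 2) F) : ℕ :=
  (Subgroup.centralizer ({(QuotientGroup.mk g : Matrix.ProjectiveSpecialLinearGroup (Fin 2) F)} :
    Set (Matrix.ProjectiveSpecialLinearGroup (Fin 2) F))).index

/-- the preimage in `SL₂` of the centralizer in `PSL₂` -/
def Cpm (g : Matrix.SpecialLinearGroup (Fin 2) F) : Subgroup (Matrix.SpecialLinearGroup (Fin 2) F) :=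
  (Subgroup.centralizer ({(QuotientGroup.mk g : Matrix.ProjectiveSpecialLinearGroup (Fin 2) F)} :
    Set (Matrix.ProjectiveSpecialLinearGroup (Fin 2) F))).comap
    (QuotientGroup.mk' (Subgroup.center (Matrix.SpecialLinearGroup (Fin 2) F)))

theorem index_Cpm (g : Matrix.SpecialLinearGroup (Fin 2) F) : (Cpm g).index = idx g :=
  Subgroup.index_comap_of_surjective _ (QuotientGroup.mk'_surjective _)

theorem mem_Cpm (g h : Matrix.SpecialLinearGroup (Fin 2) F) :
    h ∈ Cpm g ↔ ((g * h : Matrix.SpecialLinearGroup (Fin 2) F) : Matrix (Fin 2) (Fin 2) F) =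
        ((h * g : Matrix.SpecialLinearGroup (Fin 2) F) : Matrix (Fin 2) (Fin 2) F) ∨
      ((g * h : Matrix.SpecialLinearGroup (Fin 2) F) : Matrix (Fin 2) (Fin 2) F) =
        -((h * g : Matrix.SpecialLinearGroup (Fin 2) F) : Matrix (Fin 2) (Fin 2) F) := by
  rw [Cpm, Subgroup.mem_comap, Subgroup.mem_centralizer_iff, ← mk_eq_mk_iff]
  constructor
  · intro H
    exact H _ (Set.mem_singleton _)
  · intro H y hy
    rw [Set.mem_singleton_iff] at hy
    subst hy
    exact H

theorem idx_conj (g P : Matrix.SpecialLinearGroup (Fin 2) F) : idx (P * g * P⁻¹) = idx g := by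
  unfold idx
  have : (QuotientGroup.mk (P * g * P⁻¹) : Matrix.ProjectiveSpecialLinearGroup (Fin 2) F) =
      QuotientGroup.mk P * QuotientGroup.mk g * (QuotientGroup.mk P)⁻¹ := rfl
  rw [this, index_centralizer_conj]

theorem idx_eq_of_coe_eq_neg (g g' : Matrix.SpecialLinearGroup (Fin 2) F)
    (h : (g : Matrix (Fin 2) (Fin 2) F) = -(g' : Matrix (Fin 2) (Fin 2) F)) : idx g = idx g' := by
  unfold idx
  have : (QuotientGroup.mk g : Matrix.ProjectiveSpecialLinearGroup (Fin 2) F) = QuotientGroup.mk g' :=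
    (mk_eq_mk_iff g g').mpr (Or.inr h)
  rw [this]

theorem Cpm_eq_centralizer (h2 : (2 : F) ≠ 0) (g : Matrix.SpecialLinearGroup (Fin 2) F)
    (htr : tr2 g ≠ 0) :
    Cpm g = Subgroup.centralizer ({g} : Set (Matrix.SpecialLinearGroup (Fin 2) F)) := by
  ext h
  rw [mem_Cpm, Subgroup.mem_centralizer_iff]
  constructor
  · rintro (H | H)
    · intro y hy
      rw [Set.mem_singleton_iff] at hy
      subst hy
      exact Subtype.ext H
    · exfalso
      apply htr
      have e : (g : Matrix (Fin 2) (Fin 2) F) =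
          -((h * g * h⁻¹ : Matrix.SpecialLinearGroup (Fin 2) F) : Matrix (Fin 2) (Fin 2) F) := by
        simp only [Matrix.SpecialLinearGroup.coe_mul] at H ⊢
        calc (g : Matrix (Fin 2) (Fin 2) F)
            = (g : Matrix (Fin 2) (Fin 2) F) * (h : Matrix (Fin 2) (Fin 2) F) *
                ((h⁻¹ : Matrix.SpecialLinearGroup (Fin 2) F) : Matrix (Fin 2) (Fin 2) F) := by
              rw [Matrix.mul_assoc, coe_mul_coe_inv, Matrix.mul_one]
          _ = _ := by rw [H, Matrix.neg_mul]
      have e1 := tr2_eq_neg_of_coe_eq_neg _ _ e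
      rw [tr2_conj] at e1
      have : (2 : F) * tr2 g = 0 := by linear_combination e1
      rcases mul_eq_zero.mp this with h' | h'
      · exact absurd h' h2
      · exact h'
  · intro H
    left
    rw [H g (Set.mem_singleton _)]

omit [Field F] in
theorem mat_ext (A B : Matrix (Fin 2) (Fin 2) F) (h00 : A 0 0 = B 0 0) (h01 : A 0 1 = B 0 1)
    (h10 : A 1 0 = B 1 0) (h11 : A 1 1 = B 1 1) : A = B := by
  ext i j
  fin_cases i <;> fin_cases j <;> assumption

theorem Cpm_diag_i (h2 : (2 : F) ≠ 0) (i : Fˣ) (hi : (i : F) ^ 2 = -1) :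
    Cpm (diagHom i) = monoSub F := by
  have hi0 : (i : F) ≠ 0 := i.ne_zero
  have hinv : ((i⁻¹ : Fˣ) : F) = -(i : F) := by
    rw [Units.val_inv_eq_inv_val]
    field_simp
    linear_combination hi
  ext h
  rw [mem_Cpm, mem_monoSub]
  constructor
  · rintro (H | H)
    · left
      have e01 := congrFun (congrFun H 0) 1
      have e10 := congrFun (congrFun H 1) 0
      rw [mul_apply_01, mul_apply_01] at e01
      rw [mul_apply_10, mul_apply_10] at e10
      simp only [coe_diagHom, hinv] at e01 e10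
      simp at e01 e10
      refine ⟨?_, ?_⟩
      · have : (2 * (i : F)) * (h : Matrix (Fin 2) (Fin 2) F) 0 1 = 0 := by linear_combination e01
        rcases mul_eq_zero.mp this with h' | h'
        · exact absurd h' (mul_ne_zero h2 hi0)
        · exact h'
      · have : (2 * (i : F)) * (h : Matrix (Fin 2) (Fin 2) F) 1 0 = 0 := by linear_combination -e10
        rcases mul_eq_zero.mp this with h' | h'
        · exact absurd h' (mul_ne_zero h2 hi0)
        · exact h'
    · right
      have e00 := congrFun (congrFun H 0) 0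
      have e11 := congrFun (congrFun H 1) 1
      rw [Matrix.neg_apply, mul_apply_00, mul_apply_00] at e00
      rw [Matrix.neg_apply, mul_apply_11, mul_apply_11] at e11
      simp only [coe_diagHom, hinv] at e00 e11
      simp at e00 e11
      refine ⟨?_, ?_⟩
      · have : (2 * (i : F)) * (h : Matrix (Fin 2) (Fin 2) F) 0 0 = 0 := by linear_combination e00
        rcases mul_eq_zero.mp this with h' | h'
        · exact absurd h' (mul_ne_zero h2 hi0)
        · exact h'
      · have : (2 * (i : F)) * (h : Matrix (Fin 2) (Fin 2) F) 1 1 = 0 := by linear_combination -e11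
        rcases mul_eq_zero.mp this with h' | h'
        · exact absurd h' (mul_ne_zero h2 hi0)
        · exact h'
  · rintro (⟨h01, h10⟩ | ⟨h00, h11⟩)
    · left
      apply mat_ext
      · rw [mul_apply_00, mul_apply_00]; simp [coe_diagHom, h01, h10, mul_comm]
      · rw [mul_apply_01, mul_apply_01]; simp [coe_diagHom, h01]
      · rw [mul_apply_10, mul_apply_10]; simp [coe_diagHom, h10]
      · rw [mul_apply_11, mul_apply_11]; simp [coe_diagHom, h01, h10, mul_comm]
    · right
      apply mat_ext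
      · rw [Matrix.neg_apply, mul_apply_00, mul_apply_00]; simp [coe_diagHom, h00]
      · rw [Matrix.neg_apply, mul_apply_01, mul_apply_01]; simp [coe_diagHom, h00, h11, hinv, mul_comm]
      · rw [Matrix.neg_apply, mul_apply_10, mul_apply_10]; simp [coe_diagHom, h00, h11, hinv, mul_comm]
      · rw [Matrix.neg_apply, mul_apply_11, mul_apply_11]; simp [coe_diagHom, h11]

theorem coe_companion_zero_inv :
    (((companion (0 : F))⁻¹ : Matrix.SpecialLinearGroup (Fin 2) F) : Matrix (Fin 2) (Fin 2) F) =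
      -((companion (0 : F) : Matrix.SpecialLinearGroup (Fin 2) F) : Matrix (Fin 2) (Fin 2) F) := by
  rw [coe_inv_eq, coe_companion]
  apply mat_ext <;> simp

theorem Cpm_companion_zero (h2 : (2 : F) ≠ 0) :
    Cpm (companion (0 : F)) =
      Subgroup.normalizer (nsTorus (0 : F) : Set (Matrix.SpecialLinearGroup (Fin 2) F)) := by
  have ht : (0 : F) ^ 2 ≠ 4 := by
    intro h
    apply h2
    have : (2 : F) * 2 = 0 := by linear_combination -h
    rcases mul_eq_zero.mp this with h' | h' <;> exact h'
  ext h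
  rw [mem_Cpm, mem_normalizer_nsTorus_iff h2 ht, ← mem_nsTorus_iff, mem_nsTorus_iff_commute,
    isQuadInv_iff]
  constructor
  · rintro (H | H)
    · left
      exact Subtype.ext H
    · right
      apply Subtype.ext
      rw [Matrix.SpecialLinearGroup.coe_mul (companion 0)⁻¹, coe_companion_zero_inv, Matrix.neg_mul,
        ← Matrix.SpecialLinearGroup.coe_mul, H, neg_neg]
  · rintro (H | H)
    · left
      rw [H]
    · right
      rw [H, Matrix.SpecialLinearGroup.coe_mul (companion 0)⁻¹, coe_companion_zero_inv, Matrix.neg_mul,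
        neg_neg, Matrix.SpecialLinearGroup.coe_mul]

/-- a sign -/
def sg (b : Bool) : F := if b then -1 else 1

theorem sg_mul_self (b : Bool) : (sg b : F) * sg b = 1 := by
  cases b <;> simp [sg]

/-- signed unipotent elements -/
def sU (b : Bool) (x : F) : Matrix.SpecialLinearGroup (Fin 2) F :=
  ⟨!![sg b, sg b * x; 0, sg b], by rw [Matrix.det_fin_two_of]; simp [sg_mul_self]⟩

theorem coe_sU (b : Bool) (x : F) : ((sU b x : Matrix.SpecialLinearGroup (Fin 2) F) :
    Matrix (Fin 2) (Fin 2) F) = !![sg b, sg b * x; 0, sg b] := rfl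

theorem mem_centralizer_upperU (d : F) (hd : d ≠ 0) (h : Matrix.SpecialLinearGroup (Fin 2) F) :
    h ∈ Subgroup.centralizer ({upperU d} : Set (Matrix.SpecialLinearGroup (Fin 2) F)) ↔
      (h : Matrix (Fin 2) (Fin 2) F) 1 0 = 0 ∧
        (h : Matrix (Fin 2) (Fin 2) F) 1 1 = (h : Matrix (Fin 2) (Fin 2) F) 0 0 := by
  rw [Subgroup.mem_centralizer_iff]
  constructor
  · intro H
    have e := H _ (Set.mem_singleton _)
    have e00 := congrArg (fun A : Matrix.SpecialLinearGroup (Fin 2) F =>
      (A : Matrix (Fin 2) (Fin 2) F) 0 0) e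
    have e01 := congrArg (fun A : Matrix.SpecialLinearGroup (Fin 2) F =>
      (A : Matrix (Fin 2) (Fin 2) F) 0 1) e
    simp only [mul_apply_00, mul_apply_01, coe_upperU] at e00 e01
    simp at e00 e01
    have h10 : (h : Matrix (Fin 2) (Fin 2) F) 1 0 = 0 := by
      rcases e00 with h' | h'
      · exact absurd h' hd
      · exact h'
    refine ⟨h10, ?_⟩
    have : d * ((h : Matrix (Fin 2) (Fin 2) F) 1 1 - (h : Matrix (Fin 2) (Fin 2) F) 0 0) = 0 := by
      linear_combination e01
    rcases mul_eq_zero.mp this with h' | h'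
    · exact absurd h' hd
    · exact sub_eq_zero.mp h'
  · rintro ⟨h10, h11⟩ y hy
    rw [Set.mem_singleton_iff] at hy
    subst hy
    apply sl2_ext <;>
      simp only [mul_apply_00, mul_apply_01, mul_apply_10, mul_apply_11, coe_upperU, h10, h11] <;>
      simp <;> ring

theorem card_centralizer_upperU [Fintype F] (h2 : (2 : F) ≠ 0) (d : F) (hd : d ≠ 0) :
    Nat.card (Subgroup.centralizer ({upperU d} : Set (Matrix.SpecialLinearGroup (Fin 2) F))) =
      2 * Fintype.card F := by
  have hmem : ∀ p : Bool × F, sU p.1 p.2 ∈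
      Subgroup.centralizer ({upperU d} : Set (Matrix.SpecialLinearGroup (Fin 2) F)) := by
    intro p
    rw [mem_centralizer_upperU d hd]
    simp [coe_sU]
  have hne : (1 : F) ≠ -1 := by
    intro h
    apply h2
    linear_combination h
  have hbij : Function.Bijective (fun p : Bool × F =>
      (⟨sU p.1 p.2, hmem p⟩ : Subgroup.centralizer ({upperU d} : Set (Matrix.SpecialLinearGroup (Fin 2) F)))) := by
    constructor
    · rintro ⟨b, x⟩ ⟨b', x'⟩ hp
      have hp' := congrArg Subtype.val hp
      have e00 := congrArg (fun A : Matrix.SpecialLinearGroup (Fin 2) F =>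
        (A : Matrix (Fin 2) (Fin 2) F) 0 0) hp'
      have e01 := congrArg (fun A : Matrix.SpecialLinearGroup (Fin 2) F =>
        (A : Matrix (Fin 2) (Fin 2) F) 0 1) hp'
      simp [coe_sU] at e00 e01
      have hb : b = b' := by
        cases b <;> cases b' <;> simp [sg] at e00 ⊢
        · exact hne e00
        · exact hne e00.symm
      subst hb
      have hs : (sg b : F) ≠ 0 := by
        intro h0
        have := sg_mul_self (F := F) b
        rw [h0] at this
        simp at this
      rw [mul_left_cancel₀ hs e01]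
    · rintro ⟨h, hh⟩
      rw [mem_centralizer_upperU d hd] at hh
      obtain ⟨h10, h11⟩ := hh
      have hdet := sl2_det h
      rw [h10, h11, mul_zero, sub_zero] at hdet
      have hcases : (h : Matrix (Fin 2) (Fin 2) F) 0 0 = 1 ∨ (h : Matrix (Fin 2) (Fin 2) F) 0 0 = -1 := by
        have : ((h : Matrix (Fin 2) (Fin 2) F) 0 0 - 1) * ((h : Matrix (Fin 2) (Fin 2) F) 0 0 + 1) = 0 := by
          linear_combination hdet
        rcases mul_eq_zero.mp this with h' | h'
        · left; exact sub_eq_zero.mp h'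
        · right; exact eq_neg_of_add_eq_zero_left h'
      rcases hcases with h00 | h00
      · refine ⟨(false, (h : Matrix (Fin 2) (Fin 2) F) 0 1), ?_⟩
        apply Subtype.ext
        apply sl2_ext <;> simp [coe_sU, sg, h00, h10, h11]
      · refine ⟨(true, -(h : Matrix (Fin 2) (Fin 2) F) 0 1), ?_⟩
        apply Subtype.ext
        apply sl2_ext <;> simp [coe_sU, sg, h00, h10, h11]
  rw [← Nat.card_congr (Equiv.ofBijective _ hbij), Nat.card_prod, Nat.card_eq_fintype_card,
    Nat.card_eq_fintype_card, Fintype.card_bool]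

theorem exists_conj_upperU (g : Matrix.SpecialLinearGroup (Fin 2) F)
    (htr : tr2 g = 2) (hg : g ≠ 1) :
    ∃ P : Matrix.SpecialLinearGroup (Fin 2) F, ∃ d : F, d ≠ 0 ∧ g = P * upperU d * P⁻¹ := by
  have hdet := sl2_det g
  unfold tr2 at htr
  by_cases hc : (g : Matrix (Fin 2) (Fin 2) F) 1 0 = 0
  · rw [hc, mul_zero, sub_zero] at hdet
    have h00 : (g : Matrix (Fin 2) (Fin 2) F) 0 0 = 1 := by
      have : ((g : Matrix (Fin 2) (Fin 2) F) 0 0 - 1) ^ 2 = 0 := by
        linear_combination (-1 : F) * hdet + ((g : Matrix (Fin 2) (Fin 2) F) 0 0) * htr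
      exact sub_eq_zero.mp (pow_eq_zero_iff (two_ne_zero)|>.mp this)
    have h11 : (g : Matrix (Fin 2) (Fin 2) F) 1 1 = 1 := by
      rw [h00] at htr
      linear_combination htr
    have hgu : g = upperU ((g : Matrix (Fin 2) (Fin 2) F) 0 1) := by
      apply sl2_ext <;> simp [coe_upperU, h00, hc, h11]
    refine ⟨1, (g : Matrix (Fin 2) (Fin 2) F) 0 1, ?_, by simpa using hgu⟩
    intro h0
    apply hg
    rw [hgu, h0]
    apply sl2_ext <;> simp [coe_upperU]
  · set a := (g : Matrix (Fin 2) (Fin 2) F) 0 0 with ha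
    set b := (g : Matrix (Fin 2) (Fin 2) F) 0 1 with hb
    set c := (g : Matrix (Fin 2) (Fin 2) F) 1 0 with hc'
    set e := (g : Matrix (Fin 2) (Fin 2) F) 1 1 with he
    have hPdet : (!![(1 - a) / c, 1; -1, 0] : Matrix (Fin 2) (Fin 2) F).det = 1 := by
      rw [Matrix.det_fin_two_of]
      ring
    obtain ⟨P, hP⟩ : ∃ P : Matrix.SpecialLinearGroup (Fin 2) F,
        (P : Matrix (Fin 2) (Fin 2) F) = !![(1 - a) / c, 1; -1, 0] := ⟨⟨_, hPdet⟩, rfl⟩
    refine ⟨P, -c, neg_ne_zero.mpr hc, ?_⟩
    rw [eq_mul_inv_iff_mul_eq]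
    apply sl2_ext
    · rw [mul_apply_00, mul_apply_00]
      simp [coe_upperU, ← ha, ← hb, hP]
      field_simp
      linear_combination hdet - a * htr
    · rw [mul_apply_01, mul_apply_01]
      simp [coe_upperU, ← ha, ← hb, hP]
      field_simp
      ring
    · rw [mul_apply_10, mul_apply_10]
      simp [coe_upperU, ← hc', ← he, hP]
      field_simp
      linear_combination (-1 : F) * htr
    · rw [mul_apply_11, mul_apply_11]
      simp [coe_upperU, ← hc', ← he, hP]

section arith

theorem arith2 (q : ℕ) (hodd : ¬ 2 ∣ q) : 2 * q * ((q ^ 2 - 1) / 2) = q * (q ^ 2 - 1) := by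
  obtain ⟨k, rfl⟩ : ∃ k, q = 2 * k + 1 := ⟨q / 2, by omega⟩
  have e : (2 * k + 1) ^ 2 - 1 = 2 * (2 * k * (k + 1)) := by
    have : (2 * k + 1) ^ 2 = 2 * (2 * k * (k + 1)) + 1 := by ring
    rw [this, Nat.add_sub_cancel]
  rw [e, Nat.mul_div_cancel_left _ (by norm_num : 0 < 2)]
  ring

theorem arith3 (q : ℕ) (hq : 1 ≤ q) : (q - 1) * (q * (q + 1)) = q * (q ^ 2 - 1) := by
  obtain ⟨r, rfl⟩ : ∃ r, q = r + 1 := ⟨q - 1, by omega⟩
  have e : (r + 1) ^ 2 - 1 = r * (r + 2) := by
    have : (r + 1) ^ 2 = r * (r + 2) + 1 := by ring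
    rw [this, Nat.add_sub_cancel]
  rw [e, Nat.add_sub_cancel]
  ring

theorem arith4 (q : ℕ) (hq : 1 ≤ q) : (q + 1) * (q * (q - 1)) = q * (q ^ 2 - 1) := by
  obtain ⟨r, rfl⟩ : ∃ r, q = r + 1 := ⟨q - 1, by omega⟩
  have e : (r + 1) ^ 2 - 1 = r * (r + 2) := by
    have : (r + 1) ^ 2 = r * (r + 2) + 1 := by ring
    rw [this, Nat.add_sub_cancel]
  rw [e, Nat.add_sub_cancel]
  ring

theorem arith5 (q : ℕ) (hodd : ¬ 2 ∣ q) : 2 * (q - 1) * (q * (q + 1) / 2) = q * (q ^ 2 - 1) := by
  obtain ⟨k, rfl⟩ : ∃ k, q = 2 * k + 1 := ⟨q / 2, by omega⟩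
  have e : (2 * k + 1) ^ 2 - 1 = 2 * (2 * k * (k + 1)) := by
    have : (2 * k + 1) ^ 2 = 2 * (2 * k * (k + 1)) + 1 := by ring
    rw [this, Nat.add_sub_cancel]
  have e2 : (2 * k + 1) * (2 * k + 1 + 1) = 2 * ((2 * k + 1) * (k + 1)) := by ring
  rw [e, e2, Nat.mul_div_cancel_left _ (by norm_num : 0 < 2), Nat.add_sub_cancel]
  ring

theorem arith6 (q : ℕ) (hodd : ¬ 2 ∣ q) : 2 * (q + 1) * (q * (q - 1) / 2) = q * (q ^ 2 - 1) := by
  obtain ⟨k, rfl⟩ : ∃ k, q = 2 * k + 1 := ⟨q / 2, by omega⟩
  have e : (2 * k + 1) ^ 2 - 1 = 2 * (2 * k * (k + 1)) := by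
    have : (2 * k + 1) ^ 2 = 2 * (2 * k * (k + 1)) + 1 := by ring
    rw [this, Nat.add_sub_cancel]
  have e2 : (2 * k + 1) * (2 * k + 1 - 1) = 2 * ((2 * k + 1) * k) := by
    rw [Nat.add_sub_cancel]; ring
  rw [e, e2, Nat.mul_div_cancel_left _ (by norm_num : 0 < 2)]
  ring

end arith


section final
variable [Fintype F]

theorem card_SL2 : Nat.card (Matrix.SpecialLinearGroup (Fin 2) F) =
    Fintype.card F * (Fintype.card F ^ 2 - 1) := by
  have h1 := Cfsg.Agent.Lib.Helper57.card_SL_formula (F := F) 2 (by norm_num)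
  rw [Fin.prod_univ_two] at h1
  simp only [Fin.val_zero, pow_zero, Fin.val_one, pow_one] at h1
  have hq : 2 ≤ Fintype.card F := Fintype.one_lt_card
  set q := Fintype.card F with hq'
  obtain ⟨r, hr⟩ : ∃ r, q = r + 2 := ⟨q - 2, by omega⟩
  rw [hr] at h1 ⊢
  have e1 : r + 2 - 1 = r + 1 := by omega
  have e3 : (r + 2) ^ 2 - (r + 2) = (r + 2) * (r + 1) := by
    have : (r + 2) ^ 2 = (r + 2) * (r + 1) + (r + 2) := by ring
    omega
  rw [e1, e3] at h1
  have hpos : 0 < r + 1 := by positivity
  apply Nat.eq_of_mul_eq_mul_left hpos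
  rw [h1]
  ring

omit [Fintype F] in
theorem idx_one : idx (1 : Matrix.SpecialLinearGroup (Fin 2) F) = 1 := by
  unfold idx
  have : Subgroup.centralizer ({((1 : Matrix.SpecialLinearGroup (Fin 2) F) :
      Matrix.ProjectiveSpecialLinearGroup (Fin 2) F)} :
      Set (Matrix.ProjectiveSpecialLinearGroup (Fin 2) F)) = ⊤ := by
    rw [eq_top_iff]
    intro x _
    rw [Subgroup.mem_centralizer_iff]
    intro y hy
    rw [Set.mem_singleton_iff] at hy
    subst hy
    show (1 : Matrix.ProjectiveSpecialLinearGroup (Fin 2) F) * x = x * 1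
    simp
  rw [this, Subgroup.index_top]

omit [Fintype F] in
theorem tr2_upperU (d : F) : tr2 (upperU d) = 2 := by
  simp [tr2, coe_upperU]
  norm_num

theorem idx_upperU (h2 : (2 : F) ≠ 0) (hodd : ¬ 2 ∣ Fintype.card F) (d : F) (hd : d ≠ 0) :
    idx (upperU d) = (Fintype.card F ^ 2 - 1) / 2 := by
  rw [← index_Cpm, Cpm_eq_centralizer h2 _ (by rw [tr2_upperU]; exact h2)]
  apply index_of_card _ (2 * Fintype.card F) _ (card_centralizer_upperU h2 d hd)
    (by have := Fintype.card_pos (α := F); omega)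
  rw [card_SL2, arith2 _ hodd]

theorem idx_diagHom (h2 : (2 : F) ≠ 0) (u : Fˣ) (hu : (u : F) ^ 2 ≠ 1)
    (htr : tr2 (diagHom u) ≠ 0) :
    idx (diagHom u) = Fintype.card F * (Fintype.card F + 1) := by
  have hq : 2 ≤ Fintype.card F := Fintype.one_lt_card
  rw [← index_Cpm, Cpm_eq_centralizer h2 _ htr,
    centralizer_eq_diagSub (diagHom u) ⟨by simp [coe_diagHom], by simp [coe_diagHom]⟩
      (by simpa [coe_diagHom] using hu)]
  apply index_of_card _ (Fintype.card F - 1) _ card_diagSub (by omega)
  rw [card_SL2, arith3 _ (by omega)]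

theorem idx_quad (h2 : (2 : F) ≠ 0) {t : F} (ht : ∀ r : F, r ^ 2 ≠ -1 + t * r)
    (g : Matrix.SpecialLinearGroup (Fin 2) F) (hg : IsQuad t g)
    (hc : (g : Matrix (Fin 2) (Fin 2) F) 1 0 ≠ 0) (htr : tr2 g ≠ 0) :
    idx g = Fintype.card F * (Fintype.card F - 1) := by
  have hq : 2 ≤ Fintype.card F := Fintype.one_lt_card
  rw [← index_Cpm, Cpm_eq_centralizer h2 _ htr, centralizer_eq_nsTorus hg hc]
  apply index_of_card _ (Fintype.card F + 1) _ (card_nsTorus ht) (by omega)
  rw [card_SL2, arith4 _ (by omega)]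

theorem idx_diag_i (h2 : (2 : F) ≠ 0) (hodd : ¬ 2 ∣ Fintype.card F) (i : Fˣ)
    (hi : (i : F) ^ 2 = -1) :
    idx (diagHom i) = Fintype.card F * (Fintype.card F + 1) / 2 := by
  have hq : 2 ≤ Fintype.card F := Fintype.one_lt_card
  rw [← index_Cpm, Cpm_diag_i h2 i hi]
  apply index_of_card _ (2 * (Fintype.card F - 1)) _ card_monoSub (by omega)
  rw [card_SL2, arith5 _ hodd]

theorem idx_companion_zero (h2 : (2 : F) ≠ 0) (hodd : ¬ 2 ∣ Fintype.card F)
    (ht : ∀ r : F, r ^ 2 ≠ -1 + 0 * r) :
    idx (companion (0 : F)) = Fintype.card F * (Fintype.card F - 1) / 2 := by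
  rw [← index_Cpm, Cpm_companion_zero h2]
  apply index_of_card _ (2 * (Fintype.card F + 1)) _ (card_normalizer_nsTorus h2 ht) (by omega)
  rw [card_SL2, arith6 _ hodd]

end final

section classify
variable [Fintype F]

omit [Fintype F] in
theorem coe_negOne_mul (g : Matrix.SpecialLinearGroup (Fin 2) F) :
    ((negOne * g : Matrix.SpecialLinearGroup (Fin 2) F) : Matrix (Fin 2) (Fin 2) F) =
      -(g : Matrix (Fin 2) (Fin 2) F) := by
  rw [Matrix.SpecialLinearGroup.coe_mul, coe_negOne, neg_one_mul]

theorem idx_cases (h2 : (2 : F) ≠ 0) (hodd : ¬ 2 ∣ Fintype.card F)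
    (g : Matrix.SpecialLinearGroup (Fin 2) F) :
    idx g = 1 ∨ idx g = (Fintype.card F ^ 2 - 1) / 2 ∨
    idx g = Fintype.card F * (Fintype.card F + 1) ∨
    idx g = Fintype.card F * (Fintype.card F - 1) ∨
    (idx g = Fintype.card F * (Fintype.card F + 1) / 2 ∧ IsSquare (-1 : F)) ∨
    (idx g = Fintype.card F * (Fintype.card F - 1) / 2 ∧ ¬ IsSquare (-1 : F)) := by
  by_cases ht4 : (tr2 g) ^ 2 = 4
  · have key : ∀ g' : Matrix.SpecialLinearGroup (Fin 2) F, tr2 g' = 2 →
        idx g' = 1 ∨ idx g' = (Fintype.card F ^ 2 - 1) / 2 := by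
      intro g' h
      by_cases hg' : g' = 1
      · left; rw [hg', idx_one]
      · right
        obtain ⟨P, d, hd, rfl⟩ := exists_conj_upperU g' h hg'
        rw [idx_conj, idx_upperU h2 hodd d hd]
    have hpm : tr2 g = 2 ∨ tr2 g = -2 := by
      have : (tr2 g - 2) * (tr2 g + 2) = 0 := by linear_combination ht4
      rcases mul_eq_zero.mp this with h | h
      · left; exact sub_eq_zero.mp h
      · right; exact eq_neg_of_add_eq_zero_left h
    rcases hpm with h | h
    · rcases key g h with h' | h'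
      · exact Or.inl h'
      · exact Or.inr (Or.inl h')
    · have e : (g : Matrix (Fin 2) (Fin 2) F) =
          -((negOne * g : Matrix.SpecialLinearGroup (Fin 2) F) : Matrix (Fin 2) (Fin 2) F) := by
        rw [coe_negOne_mul, neg_neg]
      have htr' : tr2 (negOne * g) = 2 := by
        have := tr2_eq_neg_of_coe_eq_neg _ _ (coe_negOne_mul g)
        rw [this, h, neg_neg]
      rw [idx_eq_of_coe_eq_neg g _ e]
      rcases key _ htr' with h' | h'
      · exact Or.inl h'
      · exact Or.inr (Or.inl h')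
  · by_cases hr : ∃ r : F, r ^ 2 = -1 + tr2 g * r
    · obtain ⟨r, hr⟩ := hr
      obtain ⟨u, hu⟩ := isConj_diagHom_of_root g ht4 r hr
      rw [isConj_iff] at hu
      obtain ⟨c, hc⟩ := hu
      have hidx : idx g = idx (diagHom u) := by rw [← hc, idx_conj]
      have htru : tr2 (diagHom u) = tr2 g := by rw [← hc, tr2_conj]
      have hu0 : (u : F) ≠ 0 := u.ne_zero
      have hu1 : (u : F) ^ 2 ≠ 1 := by
        intro h
        apply ht4
        rw [← htru, tr2_diagHom, Units.val_inv_eq_inv_val]
        have : (u : F)⁻¹ = u := by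
          field_simp
          linear_combination -h
        rw [this]
        linear_combination 4 * h
      by_cases htr : tr2 g = 0
      · right; right; right; right; left
        have hsq : (u : F) ^ 2 = -1 := by
          rw [← htru, tr2_diagHom, Units.val_inv_eq_inv_val] at htr
          field_simp at htr
          linear_combination htr
        exact ⟨by rw [hidx, idx_diag_i h2 hodd u hsq], ⟨u, by rw [← hsq, pow_two]⟩⟩
      · right; right; left
        rw [hidx, idx_diagHom h2 u hu1 (by rw [htru]; exact htr)]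
    · push Not at hr
      obtain ⟨P, hP⟩ := exists_conj_companion g ht4
      have hg : g = P * companion (tr2 g) * P⁻¹ := by rw [← hP]; simp
      have hidx : idx g = idx (companion (tr2 g)) := by
        conv_lhs => rw [hg]
        rw [idx_conj]
      by_cases htr : tr2 g = 0
      · right; right; right; right; right
        rw [htr] at hidx hr
        refine ⟨by rw [hidx, idx_companion_zero h2 hodd hr], ?_⟩
        rintro ⟨r, hr'⟩
        apply hr r
        rw [pow_two, ← hr']
        ring
      · right; right; right; left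
        rw [hidx]
        exact idx_quad h2 hr (companion (tr2 g))
          ((mem_nsTorus_iff _ _).mp (companion_mem_nsTorus _))
          (by rw [companion_apply_10]; exact one_ne_zero)
          (by rw [tr2_companion]; exact htr)

theorem exists_idx_split (h2 : (2 : F) ≠ 0) (h7 : 7 ≤ Fintype.card F) :
    ∃ g : Matrix.SpecialLinearGroup (Fin 2) F, idx g = Fintype.card F * (Fintype.card F + 1) := by
  classical
  obtain ⟨u, hu⟩ := IsCyclic.exists_generator (α := Fˣ)
  have hord : orderOf u = Fintype.card F - 1 := by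
    rw [orderOf_eq_card_of_forall_mem_zpowers hu, Nat.card_eq_fintype_card, Fintype.card_units]
  have h4 : u ^ 4 ≠ 1 := by
    intro h
    have := Nat.le_of_dvd (by norm_num) (orderOf_dvd_of_pow_eq_one h)
    omega
  have h4' : (u : F) ^ 4 ≠ 1 := by
    intro h
    apply h4
    apply Units.ext
    rw [Units.val_pow_eq_pow_val, h, Units.val_one]
  have hu0 : (u : F) ≠ 0 := u.ne_zero
  refine ⟨diagHom u, idx_diagHom h2 u ?_ ?_⟩
  · intro h
    apply h4'
    calc (u : F) ^ 4 = ((u : F) ^ 2) ^ 2 := by ring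
      _ = 1 := by rw [h]; ring
  · rw [tr2_diagHom, Units.val_inv_eq_inv_val]
    intro h
    apply h4'
    have hsq : (u : F) ^ 2 = -1 := by
      field_simp at h
      linear_combination h
    calc (u : F) ^ 4 = ((u : F) ^ 2) ^ 2 := by ring
      _ = 1 := by rw [hsq]; ring

theorem exists_idx_nonsplit (h2 : (2 : F) ≠ 0) (h7 : 7 ≤ Fintype.card F) :
    ∃ g : Matrix.SpecialLinearGroup (Fin 2) F, idx g = Fintype.card F * (Fintype.card F - 1) := by
  obtain ⟨t, ht⟩ := exists_nonsplit_trace (F := F)
  obtain ⟨y, hy, hord⟩ := exists_mem_nsTorus_orderOf ht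
  have hq : IsQuad t y := (mem_nsTorus_iff t y).mp hy
  refine ⟨y, idx_quad h2 ht y hq ?_ ?_⟩
  · intro h
    have h1 : (y : Matrix (Fin 2) (Fin 2) F) * (y : Matrix (Fin 2) (Fin 2) F) = 1 := by
      rcases hq.eq_one_or_neg_one h with h1 | h1 <;> rw [h1] <;> simp
    have h2' : y ^ 2 = 1 := by
      apply Subtype.ext
      rw [pow_two, Matrix.SpecialLinearGroup.coe_mul, h1]
      rfl
    have := Nat.le_of_dvd (by norm_num) (orderOf_dvd_of_pow_eq_one h2')
    omega
  · intro h
    have hch := cayley_hamilton y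
    rw [h, zero_smul, zero_sub] at hch
    have h4 : y ^ 4 = 1 := by
      apply Subtype.ext
      have : y ^ 4 = (y * y) * (y * y) := by simp only [pow_succ, pow_zero, one_mul, mul_assoc]
      rw [this, Matrix.SpecialLinearGroup.coe_mul, Matrix.SpecialLinearGroup.coe_mul, hch]
      simp
    have := Nat.le_of_dvd (by norm_num) (orderOf_dvd_of_pow_eq_one h4)
    omega

end classify

theorem range_eq {F : Type*} [Field F] (S : Set ℕ)
    (h1 : ∀ g : Matrix.SpecialLinearGroup (Fin 2) F, idx g ∈ S)
    (h2 : ∀ n ∈ S, ∃ g : Matrix.SpecialLinearGroup (Fin 2) F, idx g = n) :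
    Set.range (fun g : (Matrix.ProjectiveSpecialLinearGroup (Fin 2) F) => (Subgroup.centralizer ({g} : Set (Matrix.ProjectiveSpecialLinearGroup (Fin 2) F))).index) = S := by
  ext n
  constructor
  · rintro ⟨x, rfl⟩
    obtain ⟨g, rfl⟩ := QuotientGroup.mk_surjective x
    exact h1 g
  · intro hn
    obtain ⟨g, hg⟩ := h2 n hn
    exact ⟨QuotientGroup.mk g, hg⟩


/-- Let F be a finite field with q elements, q odd and q ≥ 7. If q ≡ 1 (mod 4) the conjugacy class sizes of PSL(2,F) are exactly 1, (q² − 1)/2, q(q + 1)/2, q(q − 1) and q(q + 1); if q ≡ 3 (mod 4) they are exactly 1, (q² − 1)/2, q(q − 1)/2, q(q + 1) and q(q − 1). -/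
theorem result {F : Type*} [Field F] [Fintype F]
    (hodd : ¬ 2 ∣ Fintype.card F) (h7 : 7 ≤ Fintype.card F) :
    (Fintype.card F % 4 = 1 →
      Set.range (fun g : (Matrix.ProjectiveSpecialLinearGroup (Fin 2) F) => (Subgroup.centralizer ({g} : Set (Matrix.ProjectiveSpecialLinearGroup (Fin 2) F))).index) =
        {1, (Fintype.card F ^ 2 - 1) / 2, Fintype.card F * (Fintype.card F + 1) / 2,
          Fintype.card F * (Fintype.card F - 1), Fintype.card F * (Fintype.card F + 1)}) ∧
    (Fintype.card F % 4 = 3 →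
      Set.range (fun g : (Matrix.ProjectiveSpecialLinearGroup (Fin 2) F) => (Subgroup.centralizer ({g} : Set (Matrix.ProjectiveSpecialLinearGroup (Fin 2) F))).index) =
        {1, (Fintype.card F ^ 2 - 1) / 2, Fintype.card F * (Fintype.card F - 1) / 2,
          Fintype.card F * (Fintype.card F + 1), Fintype.card F * (Fintype.card F - 1)}) := by
  have hchar : ringChar F ≠ 2 := by
    intro h
    have := FiniteField.even_card_iff_char_two.mp h
    omega
  have h2 : (2 : F) ≠ 0 := Ring.two_ne_zero hchar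
  constructor
  · intro hq
    have hsq : IsSquare (-1 : F) := FiniteField.isSquare_neg_one_iff.mpr (by omega)
    apply range_eq
    · intro g
      simp only [Set.mem_insert_iff, Set.mem_singleton_iff]
      rcases idx_cases h2 hodd g with h | h | h | h | ⟨h, _⟩ | ⟨_, h⟩
      · exact Or.inl h
      · exact Or.inr (Or.inl h)
      · exact Or.inr (Or.inr (Or.inr (Or.inr h)))
      · exact Or.inr (Or.inr (Or.inr (Or.inl h)))
      · exact Or.inr (Or.inr (Or.inl h))
      · exact absurd hsq h
    · intro n hn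
      simp only [Set.mem_insert_iff, Set.mem_singleton_iff] at hn
      rcases hn with rfl | rfl | rfl | rfl | rfl
      · exact ⟨1, idx_one⟩
      · exact ⟨upperU 1, idx_upperU h2 hodd 1 one_ne_zero⟩
      · obtain ⟨i, hi⟩ := hsq
        have hi0 : i ≠ 0 := by
          rintro rfl
          simp at hi
        exact ⟨diagHom (Units.mk0 i hi0), idx_diag_i h2 hodd _ (by rw [Units.val_mk0, pow_two, ← hi])⟩
      · exact exists_idx_nonsplit h2 h7
      · exact exists_idx_split h2 h7
  · intro hq
    have hsq : ¬ IsSquare (-1 : F) := fun h => FiniteField.isSquare_neg_one_iff.mp h hq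
    apply range_eq
    · intro g
      simp only [Set.mem_insert_iff, Set.mem_singleton_iff]
      rcases idx_cases h2 hodd g with h | h | h | h | ⟨_, h⟩ | ⟨h, _⟩
      · exact Or.inl h
      · exact Or.inr (Or.inl h)
      · exact Or.inr (Or.inr (Or.inr (Or.inl h)))
      · exact Or.inr (Or.inr (Or.inr (Or.inr h)))
      · exact absurd h hsq
      · exact Or.inr (Or.inr (Or.inl h))
    · intro n hn
      simp only [Set.mem_insert_iff, Set.mem_singleton_iff] at hn
      rcases hn with rfl | rfl | rfl | rfl | rfl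
      · exact ⟨1, idx_one⟩
      · exact ⟨upperU 1, idx_upperU h2 hodd 1 one_ne_zero⟩
      · refine ⟨companion 0, idx_companion_zero h2 hodd ?_⟩
        intro r hr
        apply hsq
        exact ⟨r, by rw [← pow_two, hr]; ring⟩
      · exact exists_idx_split h2 h7
      · exact exists_idx_nonsplit h2 h7


end Cfsg.Agent.S2508
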