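import Cfsg.Statements.S2510
-- import your own Cfsg.Agent.* helpers here
import Mathlib
import Cfsg.Agent.Lib.Helper40.CubeAbsorbGen
import Cfsg.Agent.Lib.Helper40.CubeAbsorbPSL

set_option autoImplicit false
open Cfsg

namespace Cfsg.Agent.S2510

open Cfsg.Agent.Lib.Helper40

/-- Let F be a finite field with q = p^a elements, n ≥ 2 (with q ≥ 4 when n = 2), L = PSL(n, F), and let r be a prime dividing q − 1 and not dividing n. Then for every m the direct product L × L × L × (ℤ/r)^m has the same set of element orders as L × L × L; and if n − 1 ≠ p^j for every j ≥ 0 (so never when n = 2, since 1 = p^0), then already L × L × (ℤ/r)^m has the same set of element orders as L × L. -/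
theorem result {F : Type*} [Field F] [Fintype F] (p a n r m : ℕ) (hp : p.Prime) (ha : 1 ≤ a) (hF : Fintype.card F = p ^ a)
    (hn : 2 ≤ n) (hn2 : n = 2 → 4 ≤ Fintype.card F) (hr : r.Prime) (hrq : r ∣ Fintype.card F - 1) (hrn : ¬ r ∣ n) :
    Set.range (orderOf : Matrix.ProjectiveSpecialLinearGroup (Fin n) F × Matrix.ProjectiveSpecialLinearGroup (Fin n) F × Matrix.ProjectiveSpecialLinearGroup (Fin n) F × Multiplicative (Fin m → ZMod r) → ℕ) =
      Set.range (orderOf : Matrix.ProjectiveSpecialLinearGroup (Fin n) F × Matrix.ProjectiveSpecialLinearGroup (Fin n) F × Matrix.ProjectiveSpecialLinearGroup (Fin n) F → ℕ) ∧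
    ((¬ ∃ j : ℕ, n - 1 = p ^ j) →
      Set.range (orderOf : Matrix.ProjectiveSpecialLinearGroup (Fin n) F × Matrix.ProjectiveSpecialLinearGroup (Fin n) F × Multiplicative (Fin m → ZMod r) → ℕ) =
        Set.range (orderOf : Matrix.ProjectiveSpecialLinearGroup (Fin n) F × Matrix.ProjectiveSpecialLinearGroup (Fin n) F → ℕ)) := by
  classical
  have : Fact p.Prime := ⟨hp⟩
  have : Fact r.Prime := ⟨hr⟩
  have : CharP F p := charP_of_card_eq_prime_pow hF
  have hn1 : 1 ≤ n := by omega
  have hq2 : 2 ≤ Fintype.card F := Fintype.one_lt_card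
  obtain ⟨u, hu⟩ := exists_prime_orderOf_dvd_card (G := Fˣ) r
    (by rw [Fintype.card_units]; exact hrq)
  have hl : orderOf (u : F) = r := by rw [orderOf_units]; exact hu
  obtain ⟨yS, hyS⟩ := exists_psl_singer (F := F) p n hn1
  obtain ⟨yP, hyP⟩ := exists_psl_regUnip (F := F) p n hn1
  obtain ⟨yr, hyr⟩ := exists_psl_order (F := F) n hn r hr hrn (u : F) hl
  obtain ⟨c, hcdef⟩ : ∃ c : ℕ, orderOf yS = c := ⟨_, rfl⟩
  have hc : (Fintype.card F ^ n - 1) / (Fintype.card F - 1) ∣ c * (Fintype.card F - 1) := by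
    rw [← hcdef]
    exact (hyS _).mp (pow_orderOf_eq_one yS)
  have hdvd : Fintype.card F - 1 ∣ Fintype.card F ^ n - 1 := Nat.sub_one_dvd_pow_sub_one _ _
  have hocop : ((Fintype.card F ^ n - 1) / (Fintype.card F - 1)).Coprime p := by
    rw [Nat.coprime_comm, Nat.Prime.coprime_iff_not_dvd hp]
    intro h
    have h1 : p ∣ Fintype.card F ^ n - 1 := by
      rw [← Nat.div_mul_cancel hdvd]
      exact dvd_mul_of_dvd_left h _
    have h2 : p ∣ Fintype.card F ^ n := by
      rw [hF]
      exact dvd_pow (dvd_pow_self p (by omega)) (by omega)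
    have h3 : 1 ≤ Fintype.card F ^ n := Nat.one_le_pow _ _ (by omega)
    have h4 := Nat.dvd_sub h2 h1
    have h5 : Fintype.card F ^ n - (Fintype.card F ^ n - 1) = 1 := by omega
    rw [h5] at h4
    exact hp.one_lt.ne' (Nat.dvd_one.mp h4)
  have hcop : c.Coprime (p ^ Nat.clog p n) := by
    have h1 : yS ^ ((Fintype.card F ^ n - 1) / (Fintype.card F - 1)) = 1 :=
      (hyS _).mpr (dvd_mul_right _ _)
    have h2 : c ∣ (Fintype.card F ^ n - 1) / (Fintype.card F - 1) := by
      rw [← hcdef]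
      exact orderOf_dvd_of_pow_eq_one h1
    exact Nat.Coprime.pow_right _ (Nat.Coprime.coprime_dvd_left h2 hocop)
  have key : ∀ x : Matrix.ProjectiveSpecialLinearGroup (Fin n) F, ¬ r ∣ orderOf x →
      (∃ z : Matrix.ProjectiveSpecialLinearGroup (Fin n) F, Commute x z ∧ orderOf z = r) ∨
        orderOf x ∣ c * p ^ Nat.clog p n :=
    fun x _ => psl_dichotomy p r hr hrn (u : F) hl c hc (Nat.clog p n)
      (Nat.le_pow_clog hp.one_lt n) x
  refine ⟨range_orderOf_prod3 r hr c (p ^ Nat.clog p n) hcop key m yS yP yr hcdef hyP hyr, ?_⟩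
  intro hnp
  obtain ⟨y', hy'r, hy'P⟩ := exists_psl_mixed (F := F) p n hn r hr hrn (u : F) hl
  have hclog : Nat.clog p (n - 1) = Nat.clog p n := by
    apply le_antisymm (Nat.clog_mono_right p (Nat.sub_le n 1))
    apply Nat.clog_le_of_le_pow
    have h1 : n - 1 ≤ p ^ Nat.clog p (n - 1) := Nat.le_pow_clog hp.one_lt _
    have h2 : n - 1 ≠ p ^ Nat.clog p (n - 1) := fun h => hnp ⟨_, h⟩
    omega
  rw [hclog] at hy'P
  exact range_orderOf_prod2 r hr c (p ^ Nat.clog p n) hcop key m yS y' hcdef hy'r hy'P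

end Cfsg.Agent.S2510
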