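import Cfsg.Statements.S2511
-- import your own Cfsg.Agent.* helpers here
import Mathlib
import Cfsg.Agent.Lib.Helper40.CubeAbsorbGen
import Cfsg.Agent.Lib.Helper40.CubeAbsorbPSU

set_option autoImplicit false
open Cfsg

namespace Cfsg.Agent.S2511

open Cfsg.Agent.Lib.Helper40

/-- Let F be a finite field with q² elements, q = p^a, n ≥ 3 with (n, q) ≠ (3, 2), L = PSU(n, q) realised over F, and let r be a prime dividing q + 1 and not dividing n. Then for every m the direct product L × L × L × (ℤ/r)^m has the same set of element orders as L × L × L; and if n − 1 is not a power of p, then already L × L × (ℤ/r)^m has the same set of element orders as L × L. -/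
theorem result {F : Type*} [Field F] [Fintype F] (p a n q r m : ℕ) (hp : p.Prime) (ha : 1 ≤ a) (hq : q = p ^ a) (hF : Fintype.card F = q ^ 2)
    (hn : 3 ≤ n) (hn3 : ¬ (n = 3 ∧ q = 2)) (hr : r.Prime) (hrq : r ∣ q + 1) (hrn : ¬ r ∣ n) :
    Set.range (orderOf : Cfsg.PSU n F q × Cfsg.PSU n F q × Cfsg.PSU n F q × Multiplicative (Fin m → ZMod r) → ℕ) = Set.range (orderOf : Cfsg.PSU n F q × Cfsg.PSU n F q × Cfsg.PSU n F q → ℕ) ∧
    ((¬ ∃ j : ℕ, n - 1 = p ^ j) →
      Set.range (orderOf : Cfsg.PSU n F q × Cfsg.PSU n F q × Multiplicative (Fin m → ZMod r) → ℕ) = Set.range (orderOf : Cfsg.PSU n F q × Cfsg.PSU n F q → ℕ)) := by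
  classical
  subst hq
  have : Fact p.Prime := ⟨hp⟩
  have : Fact r.Prime := ⟨hr⟩
  have hF' : Fintype.card F = p ^ (a * 2) := by rw [hF, pow_mul]
  have : CharP F p := charP_of_card_eq_prime_pow hF'
  obtain ⟨n', rfl⟩ : ∃ n', n = n' + 1 := ⟨n - 1, by omega⟩
  have hq1 : 1 ≤ p ^ a := Nat.one_le_pow _ _ hp.pos
  have hrF : r ∣ Fintype.card F - 1 := by
    have h6 : Fintype.card F - 1 = (p ^ a + 1) * (p ^ a - 1) := by
      rw [hF]
      have : 1 ≤ (p ^ a) ^ 2 := Nat.one_le_pow _ _ hq1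
      zify [this, hq1]
      ring
    rw [h6]
    exact dvd_mul_of_dvd_left hrq _
  obtain ⟨u, hu⟩ := exists_prime_orderOf_dvd_card (G := Fˣ) r
    (by rw [Fintype.card_units]; exact hrF)
  have hl : orderOf (u : F) = r := by rw [orderOf_units]; exact hu
  obtain ⟨N, hN⟩ := exists_singer_order (p ^ a) (n' + 1) hq1
  obtain ⟨yS, hyS⟩ := exists_psu_singer (F := F) p a hF n' N hN
  obtain ⟨yP, hyP⟩ := exists_psu_regUnip (F := F) p a hF n'
  obtain ⟨yr, hyr⟩ := exists_psu_order (F := F) p a hF n' (by omega) r hr hrq (u : F) hl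
  obtain ⟨c, hcdef⟩ : ∃ c : ℕ, orderOf yS = c := ⟨_, rfl⟩
  have hc : N ∣ c * (p ^ a + 1) := by
    rw [← hcdef]
    exact (hyS _).mp (pow_orderOf_eq_one yS)
  have hNcop : N.Coprime p := by
    rw [Nat.coprime_comm, Nat.Prime.coprime_iff_not_dvd hp]
    intro h
    have h1 : (p : ℤ) ∣ (N : ℤ) * (((p ^ a : ℕ) : ℤ) + 1) :=
      dvd_mul_of_dvd_left (Int.natCast_dvd_natCast.mpr h) _
    have h2 : (p : ℤ) ∣ ((p ^ a : ℕ) : ℤ) ^ (n' + 1) := by
      apply dvd_pow _ (by omega)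
      exact Int.natCast_dvd_natCast.mpr (dvd_pow_self p (by omega))
    have h3 : (p : ℤ) ∣ (-1) ^ (n' + 1) := by
      have h4 : (-1 : ℤ) ^ (n' + 1) = ((p ^ a : ℕ) : ℤ) ^ (n' + 1) -
          (N : ℤ) * (((p ^ a : ℕ) : ℤ) + 1) := by rw [hN]; ring
      rw [h4]
      exact dvd_sub h2 h1
    have h5 : (p : ℤ) ∣ 1 := by
      have := dvd_mul_of_dvd_left h3 ((-1 : ℤ) ^ (n' + 1))
      rwa [← mul_pow, neg_one_mul, neg_neg, one_pow] at this
    have h6 : p ∣ 1 := by exact_mod_cast h5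
    exact hp.one_lt.ne' (Nat.dvd_one.mp h6)
  have hcop : c.Coprime (p ^ Nat.clog p (n' + 1)) := by
    have h1 : yS ^ N = 1 := (hyS _).mpr (dvd_mul_right _ _)
    have h2 : c ∣ N := by
      rw [← hcdef]
      exact orderOf_dvd_of_pow_eq_one h1
    exact Nat.Coprime.pow_right _ (Nat.Coprime.coprime_dvd_left h2 hNcop)
  have key : ∀ x : Cfsg.PSU (n' + 1) F (p ^ a), ¬ r ∣ orderOf x →
      (∃ z : Cfsg.PSU (n' + 1) F (p ^ a), Commute x z ∧ orderOf z = r) ∨
        orderOf x ∣ c * p ^ Nat.clog p (n' + 1) :=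
    fun x _ => psu_dichotomy p a hF r hr hrq hrn N c (Nat.clog p (n' + 1)) hN hc
      (Nat.le_pow_clog hp.one_lt (n' + 1)) x
  refine ⟨range_orderOf_prod3 r hr c (p ^ Nat.clog p (n' + 1)) hcop key m yS yP yr hcdef hyP hyr, ?_⟩
  intro hnp
  obtain ⟨y', hy'r, hy'P⟩ := exists_psu_mixed (F := F) p a hF n' (by omega) r hr hrq hrn (u : F) hl
  have hclog : Nat.clog p n' = Nat.clog p (n' + 1) := by
    apply le_antisymm (Nat.clog_mono_right p (Nat.le_succ n'))
    apply Nat.clog_le_of_le_pow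
    have h1 : n' ≤ p ^ Nat.clog p n' := Nat.le_pow_clog hp.one_lt _
    have h2 : n' ≠ p ^ Nat.clog p n' := fun h => hnp ⟨_, by rw [Nat.add_sub_cancel]; exact h⟩
    omega
  rw [hclog] at hy'P
  exact range_orderOf_prod2 r hr c (p ^ Nat.clog p (n' + 1)) hcop key m yS y' hcdef hy'r hy'P

end Cfsg.Agent.S2511
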