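import Cfsg.Statements.S2512
-- import your own Cfsg.Agent.* helpers here
import Mathlib
import Cfsg.Agent.Lib.Helper40.SpCubeD
import Cfsg.Agent.Lib.Helper19.CubeGen

set_option autoImplicit false
open Cfsg

namespace Cfsg.Agent.S2512

open Cfsg.Agent.Lib.Helper40

/-- Let F be a finite field of odd order q = p^a, n ≥ 2 (with q ≥ 3 automatic), and L = PSp(2n, F). Then for every m the direct product L × L × L × (ℤ/2)^m has the same set of element orders as L × L × L; and if 2n − 1 is not a power of p, then already L × L × (ℤ/2)^m has the same set of element orders as L × L. -/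
theorem result {F : Type*} [Field F] [Fintype F] (p a n m : ℕ) (hp : p.Prime) (ha : 1 ≤ a) (hF : Fintype.card F = p ^ a) (hodd : Odd (Fintype.card F))
    (hn : 2 ≤ n) :
    Set.range (orderOf : Cfsg.PSp n F × Cfsg.PSp n F × Cfsg.PSp n F × Multiplicative (Fin m → ZMod 2) → ℕ) = Set.range (orderOf : Cfsg.PSp n F × Cfsg.PSp n F × Cfsg.PSp n F → ℕ) ∧
    ((¬ ∃ j : ℕ, 2 * n - 1 = p ^ j) →
      Set.range (orderOf : Cfsg.PSp n F × Cfsg.PSp n F × Multiplicative (Fin m → ZMod 2) → ℕ) = Set.range (orderOf : Cfsg.PSp n F × Cfsg.PSp n F → ℕ)) := by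
  classical
  have : Fact p.Prime := ⟨hp⟩
  have : CharP F p := charP_of_card_eq_prime_pow hF
  have hp2 : p ≠ 2 := by
    rintro rfl
    rw [hF] at hodd
    exact (Nat.not_even_iff_odd.mpr hodd) (Nat.even_pow.mpr ⟨even_two, by omega⟩)
  have hn1 : 1 ≤ n := by omega
  set q := Fintype.card F with hq
  have hq1 : 1 ≤ q ^ n := Nat.one_le_pow _ _ Fintype.card_pos
  obtain ⟨yA, hyA1, hyA2⟩ := exists_psp_torus (F := F) p hn1 (q ^ n - 1) (Or.inl rfl)
  obtain ⟨yB, hyB1, hyB2⟩ := exists_psp_torus (F := F) p hn1 (q ^ n + 1) (Or.inr rfl)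
  obtain ⟨yP, hyP⟩ := exists_psp_regUnip (F := F) p hp2 hn1
  -- one of the two tori has even order in `PSp`
  have heven : 2 ∣ orderOf yA ∨ 2 ∣ orderOf yB := by
    have hqodd : Odd (q ^ n) := hodd.pow
    obtain ⟨s, hs⟩ := hqodd
    rcases Nat.even_or_odd s with hs2 | hs2
    · left
      obtain ⟨s', hs'⟩ := hs2
      have h4 : 4 ∣ q ^ n - 1 := ⟨s', by omega⟩
      have h5 : 2 * 2 ∣ 2 * orderOf yA := dvd_trans h4 hyA2
      exact (Nat.mul_dvd_mul_iff_left (by norm_num)).mp h5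
    · right
      obtain ⟨s', hs'⟩ := hs2
      have h4 : 4 ∣ q ^ n + 1 := ⟨s' + 1, by omega⟩
      have h5 : 2 * 2 ∣ 2 * orderOf yB := dvd_trans h4 hyB2
      exact (Nat.mul_dvd_mul_iff_left (by norm_num)).mp h5
  have hodd_dvd : ∀ (k N o : ℕ), Odd k → k ∣ N → N ∣ 2 * o → k ∣ o := by
    intro k N o hk h1 h2
    exact (Nat.Coprime.dvd_of_dvd_mul_left (Nat.coprime_two_right.mpr hk)) (dvd_trans h1 h2)
  have key : ∀ x : Cfsg.PSp n F, Odd (orderOf x) → (∃ y : Cfsg.PSp n F, orderOf y = 2 * orderOf x) ∨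
      orderOf x ∣ orderOf yA ∨ orderOf x ∣ orderOf yB ∨ orderOf x ∣ orderOf yP := by
    intro x hx
    rcases psp_key (F := F) p hp2 hn1 x hx with h | h | h | h
    · exact Or.inl h
    · exact Or.inr (Or.inl (hodd_dvd _ _ _ hx h hyA2))
    · exact Or.inr (Or.inr (Or.inl (hodd_dvd _ _ _ hx h hyB2)))
    · exact Or.inr (Or.inr (Or.inr (by rw [hyP]; exact h)))
  refine ⟨range_orderOf_prod3_of_exists 2 Nat.prime_two m
    (Cfsg.Agent.Lib.Helper19.Cube.exists_orderOf_prod3_two yA yB yP heven key), ?_⟩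
  intro hnp
  -- the element `(-1) ⊕ u`
  obtain ⟨y', hy'⟩ := exists_psp_mixed (F := F) p hp2 (d := 1) le_rfl (by omega : 1 < n) 1 odd_one
    (Or.inl (one_dvd _))
  have hclog : Nat.clog p (2 * (n - 1)) = Nat.clog p (2 * n) := by
    apply le_antisymm (Nat.clog_mono_right p (by omega))
    apply Nat.clog_le_of_le_pow
    have h1 : 2 * (n - 1) ≤ p ^ Nat.clog p (2 * (n - 1)) := Nat.le_pow_clog hp.one_lt _
    have h2 : 2 * n - 1 ≠ p ^ Nat.clog p (2 * (n - 1)) := fun h => hnp ⟨_, h⟩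
    have h3 : Odd (p ^ Nat.clog p (2 * (n - 1))) := (hp.odd_of_ne_two hp2).pow
    obtain ⟨s, hs⟩ := h3
    omega
  rw [hclog, one_mul, ← hyP] at hy'
  exact range_orderOf_prod2_of_exists 2 Nat.prime_two m
    (Cfsg.Agent.Lib.Helper19.Cube.exists_orderOf_prod2_two yA yB yP y' heven hy' key)


end Cfsg.Agent.S2512
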