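import Cfsg.Statements.S2513
-- import your own Cfsg.Agent.* helpers here
import Mathlib
import Cfsg.Agent.Lib.Helper40.PSLOrders
import Cfsg.Agent.Lib.Helper40.PrimePowerOrder

set_option autoImplicit false
open Cfsg

namespace Cfsg.Agent.S2513

open Cfsg.Agent.Lib.Helper40 Module

section main
variable {F : Type*} [Field F] [Fintype F]

theorem charP_two (hF : Fintype.card F = 2) : CharP F 2 := by
  obtain ⟨p, hp⟩ := CharP.exists F
  obtain ⟨m, hpp, hm⟩ := FiniteField.card F p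
  have h1 : p ∣ 2 := by
    rw [← hF, hm]
    exact dvd_pow_self p m.ne_zero
  have h2 : p = 2 := (Nat.prime_dvd_prime_iff_eq hpp Nat.prime_two).mp h1
  rw [← h2]
  exact hp

/-- matrix form of Lemma P -/
theorem exists_dvd_of_matrix (hF : Fintype.card F = 2) {n : ℕ} (y : Matrix (Fin n) (Fin n) F) (r k : ℕ)
    (hr : r.Prime) (hr2 : r ≠ 2)
    (hk : 1 ≤ k) (hy : y ^ (r ^ k) = 1) (hz : y ^ (r ^ (k - 1)) ≠ 1) :
    ∃ j, 1 ≤ j ∧ j ≤ n ∧ r ^ k ∣ 2 ^ j - 1 := by
  have := charP_two hF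
  have hrF : (r : F) ≠ 0 := by
    intro h
    rw [CharP.cast_eq_zero_iff F 2 r] at h
    exact hr2 ((Nat.prime_dvd_prime_iff_eq Nat.prime_two hr).mp h).symm
  have key := exists_dvd_pow_sub_one_of_pow_prime_pow (F := F) (U := Fin n → F)
    (Matrix.toLinAlgEquiv' y) r k hr hk (by rw [← map_pow, hy, map_one])
    (fun h => hz (by
      apply (Matrix.toLinAlgEquiv' (R := F) (n := Fin n)).injective
      rw [map_pow, h, map_one])) hrF
  rw [Module.finrank_fin_fun, hF] at key
  exact key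

/-- in `SL_n(2)`, odd prime powers dividing an element order divide some `2 ^ j - 1` -/
theorem exists_dvd_of_SL (hF : Fintype.card F = 2) {n : ℕ} (X : Matrix.SpecialLinearGroup (Fin n) F)
    (r e : ℕ) (hr : r.Prime) (hr2 : r ≠ 2) (he : 1 ≤ e) (hdvd : r ^ e ∣ orderOf X) :
    ∃ j, 1 ≤ j ∧ j ≤ n ∧ r ^ e ∣ 2 ^ j - 1 := by
  have hpos : orderOf X ≠ 0 := (orderOf_pos X).ne'
  set Y := X ^ (orderOf X / r ^ e) with hY
  have hoY : orderOf Y = r ^ e := orderOf_pow_orderOf_div hpos hdvd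
  apply exists_dvd_of_matrix hF (Y : Matrix (Fin n) (Fin n) F) r e hr hr2 he
  · have h1 : Y ^ (r ^ e) = 1 := by rw [← hoY, pow_orderOf_eq_one]
    have h2 := congrArg (fun Z : Matrix.SpecialLinearGroup (Fin n) F => (Z : Matrix (Fin n) (Fin n) F)) h1
    simpa using h2
  · intro h
    have h1 : Y ^ (r ^ (e - 1)) = 1 := by
      apply Subtype.ext
      simpa using h
    have h2 := orderOf_dvd_of_pow_eq_one h1
    rw [hoY] at h2
    have h3 := (Nat.pow_dvd_pow_iff_le_right hr.one_lt).mp h2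
    omega

/-- every divisor of `2 ^ l - 1`, `1 ≤ l ≤ n`, is an element order of `PSL_n(2)` -/
theorem exists_orderOf_PSL (hF : Fintype.card F = 2) (n l : ℕ) (hl1 : 1 ≤ l) (hln : l ≤ n)
    (m : ℕ) (hm : m ∣ 2 ^ l - 1) :
    ∃ x : Matrix.ProjectiveSpecialLinearGroup (Fin n) F, orderOf x = m := by
  have := charP_two hF
  have : Fact (Nat.Prime 2) := ⟨Nat.prime_two⟩
  obtain ⟨g, hg⟩ := exists_orderOf_GL (F := F) 2 n l hl1 hln m (by rw [hF]; exact hm)
  obtain ⟨g', hg'⟩ := exists_SL_of_GL_coprime g (by rw [hF]; exact Nat.coprime_one_right _)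
  refine ⟨QuotientGroup.mk g', ?_⟩
  rw [orderOf_mk_eq_of_coprime g' (by rw [hF]; exact Nat.coprime_one_right _), hg', hg]

/-- lifting to `SL_n(2)` preserves the order -/
theorem exists_lift (hF : Fintype.card F = 2) {n : ℕ}
    (x : Matrix.ProjectiveSpecialLinearGroup (Fin n) F) :
    ∃ X : Matrix.SpecialLinearGroup (Fin n) F, orderOf X = orderOf x := by
  obtain ⟨X, rfl⟩ := QuotientGroup.mk_surjective x
  refine ⟨X, ?_⟩
  rw [orderOf_mk_eq_of_coprime X (by rw [hF]; exact Nat.coprime_one_right _)]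

theorem arith_slot (n j : ℕ) (hj1 : 1 ≤ j) (hjn : j ≤ n) :
    n / 2 + 1 ≤ j * (n / j) ∧ j * (n / j) ≤ n := by
  have h1 : j * (n / j) + n % j = n := Nat.div_add_mod n j
  have h2 : n % j < j := Nat.mod_lt n (by omega)
  have h3 : 1 ≤ n / j := (Nat.one_le_div_iff (by omega)).mpr hjn
  have h4 : j ≤ j * (n / j) := Nat.le_mul_of_pos_right j h3
  constructor
  · omega
  · omega

theorem range_subset_pad {G : Type*} [Group G] (k0 k : ℕ) (hk : k0 ≤ k) :
    Set.range (orderOf : (Fin k0 → G) → ℕ) ⊆ Set.range (orderOf : (Fin k → G) → ℕ) := by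
  rintro _ ⟨g, rfl⟩
  refine ⟨fun i => if h : i.val < k0 then g ⟨i.val, h⟩ else 1, ?_⟩
  apply Nat.dvd_antisymm
  · rw [pi_orderOf_dvd_iff]
    intro i
    by_cases h : i.val < k0
    · rw [dif_pos h]
      exact (pi_orderOf_dvd_iff g _).mp dvd_rfl _
    · rw [dif_neg h, orderOf_one]
      exact one_dvd _
  · rw [pi_orderOf_dvd_iff]
    intro s
    have h1 := (pi_orderOf_dvd_iff (fun i : Fin k => if h : i.val < k0 then g ⟨i.val, h⟩ else 1) _).mp
      dvd_rfl ⟨s.val, lt_of_lt_of_le s.2 hk⟩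
    have h2 : (s.val : ℕ) < k0 := s.2
    simp only [dif_pos h2] at h1
    exact h1

theorem range_subset_compress (hF : Fintype.card F = 2) (n k : ℕ) (hn : 2 ≤ n) (hk : 1 ≤ k) :
    Set.range (orderOf : (Fin k → Matrix.ProjectiveSpecialLinearGroup (Fin n) F) → ℕ) ⊆
      Set.range (orderOf : (Fin ((n + 3) / 2) → Matrix.ProjectiveSpecialLinearGroup (Fin n) F) → ℕ) := by
  rintro _ ⟨f, rfl⟩
  have : Fact (Nat.Prime 2) := ⟨Nat.prime_two⟩
  set M := orderOf f with hM
  have hMpos : 0 < M := orderOf_pos f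
  have hoM : ∀ i, orderOf (f i) ∣ M := (pi_orderOf_dvd_iff f M).mp dvd_rfl
  have : Nonempty (Fin k) := ⟨⟨0, by omega⟩⟩
  obtain ⟨i0, hi0⟩ := Finite.exists_max (fun i => padicValNat 2 (orderOf (f i)))
  have hex : ∀ d : ℕ, ∃ x : Matrix.ProjectiveSpecialLinearGroup (Fin n) F,
      (1 ≤ d → d ≤ n → orderOf x = Nat.gcd M (2 ^ d - 1)) := by
    intro d
    by_cases h : 1 ≤ d ∧ d ≤ n
    · obtain ⟨x, hx⟩ := exists_orderOf_PSL hF n d h.1 h.2 (Nat.gcd M (2 ^ d - 1))
        (Nat.gcd_dvd_right _ _)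
      exact ⟨x, fun _ _ => hx⟩
    · exact ⟨1, fun h1 h2 => absurd ⟨h1, h2⟩ h⟩
  choose el hel using hex
  refine ⟨fun s => if s.val = 0 then f i0 else el (n / 2 + s.val), ?_⟩
  set g : Fin ((n + 3) / 2) → Matrix.ProjectiveSpecialLinearGroup (Fin n) F :=
    fun s => if s.val = 0 then f i0 else el (n / 2 + s.val) with hg
  have hslot : ∀ s : Fin ((n + 3) / 2), s.val ≠ 0 →
      orderOf (g s) = Nat.gcd M (2 ^ (n / 2 + s.val) - 1) := by
    intro s hs
    have h1 : g s = el (n / 2 + s.val) := by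
      rw [hg]
      simp only [if_neg hs]
    rw [h1]
    have h2 := s.2
    apply hel
    · omega
    · omega
  have hslot0 : ∀ s : Fin ((n + 3) / 2), s.val = 0 → g s = f i0 := by
    intro s hs
    rw [hg]
    simp only [if_pos hs]
  apply Nat.dvd_antisymm
  · rw [pi_orderOf_dvd_iff]
    intro s
    by_cases hs : s.val = 0
    · rw [hslot0 s hs]
      exact hoM i0
    · rw [hslot s hs]
      exact Nat.gcd_dvd_left _ _
  · rw [hM, pi_orderOf_dvd_iff]
    intro i
    have hgN : ∀ s, orderOf (g s) ∣ orderOf g := (pi_orderOf_dvd_iff g _).mp dvd_rfl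
    rw [Nat.dvd_iff_prime_pow_dvd_dvd]
    intro r e hr hre
    rcases Nat.eq_zero_or_pos e with he | he
    · rw [he, pow_zero]
      exact one_dvd _
    by_cases hr2 : r = 2
    · subst hr2
      have h0 : (0 : ℕ) < (n + 3) / 2 := by omega
      have h1 := hgN ⟨0, h0⟩
      rw [hslot0 ⟨0, h0⟩ rfl] at h1
      refine dvd_trans ?_ h1
      rw [padicValNat_dvd_iff_le (orderOf_pos (f i0)).ne']
      have h2 := (padicValNat_dvd_iff_le (orderOf_pos (f i)).ne').mp hre
      exact le_trans h2 (hi0 i)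
    · obtain ⟨X, hX⟩ := exists_lift hF (f i)
      rw [← hX] at hre
      obtain ⟨j, hj1, hjn, hj⟩ := exists_dvd_of_SL hF X r e hr hr2 he hre
      obtain ⟨ha, hb⟩ := arith_slot n j hj1 hjn
      have hs : j * (n / j) - n / 2 < (n + 3) / 2 := by omega
      have h1 := hgN ⟨j * (n / j) - n / 2, hs⟩
      rw [hslot ⟨j * (n / j) - n / 2, hs⟩ (by show j * (n / j) - n / 2 ≠ 0; omega)] at h1
      refine dvd_trans ?_ h1
      apply Nat.dvd_gcd
      · rw [hX] at hre
        exact hre.trans (hoM i)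
      · have h2 : n / 2 + (j * (n / j) - n / 2) = j * (n / j) := by omega
        show r ^ e ∣ 2 ^ (n / 2 + (j * (n / j) - n / 2)) - 1
        rw [h2, pow_mul]
        have h3 := Nat.sub_dvd_pow_sub_pow (2 ^ j) 1 (n / j)
        rw [one_pow] at h3
        exact hj.trans h3

end main


/-- Let F be the field with two elements, n ≥ 2, L = PSL(n, F) and k₀ = ⌊(n + 3)/2⌋. Then for every k ≥ k₀ the direct product of k copies of L has the same set of element orders as the direct product of k₀ copies of L. -/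
theorem result {F : Type*} [Field F] [Fintype F] (hF : Fintype.card F = 2) (n k : ℕ) (hn : 2 ≤ n) (hk : (n + 3) / 2 ≤ k) :
    Set.range (orderOf : (Fin k → Matrix.ProjectiveSpecialLinearGroup (Fin n) F) → ℕ) = Set.range (orderOf : (Fin ((n + 3) / 2) → Matrix.ProjectiveSpecialLinearGroup (Fin n) F) → ℕ) := by
  apply Set.Subset.antisymm
  · exact range_subset_compress hF n k hn (by omega)
  · exact range_subset_pad _ _ hk

end Cfsg.Agent.S2513
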