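import Cfsg.Statements.S2514
-- import your own Cfsg.Agent.* helpers here

set_option autoImplicit false
open Cfsg

namespace Cfsg.Agent.S2514

/-- the set of element orders is closed under divisors -/
theorem dvd_closed {X : Type*} [Group X] [Finite X] {n d : ℕ}
    (hn : n ∈ Set.range (orderOf : X → ℕ)) (hd : d ∣ n) : d ∈ Set.range (orderOf : X → ℕ) := by
  obtain ⟨g, rfl⟩ := hn
  obtain ⟨e, he⟩ := hd
  have hpos : 0 < orderOf g := orderOf_pos g
  have he0 : e ≠ 0 := by
    rintro rfl
    rw [mul_zero] at he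
    omega
  refine ⟨g ^ e, ?_⟩
  rw [orderOf_pow_of_dvd he0 ⟨d, by rw [he, mul_comm]⟩, he]
  exact Nat.mul_div_cancel _ (Nat.pos_of_ne_zero he0)

/-- every element order divides a maximal one -/
theorem exists_max {X : Type*} [Group X] [Finite X] {n : ℕ}
    (hn : n ∈ Set.range (orderOf : X → ℕ)) :
    ∃ m, (m ∈ Set.range (orderOf : X → ℕ) ∧ ∀ m' ∈ Set.range (orderOf : X → ℕ), m ∣ m' → m' = m) ∧ n ∣ m := by
  classical
  have hb : ∀ m ∈ Set.range (orderOf : X → ℕ), m ≤ Nat.card X := by
    rintro m ⟨g, rfl⟩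
    exact orderOf_le_card
  set P : ℕ → Prop := fun m => m ∈ Set.range (orderOf : X → ℕ) ∧ n ∣ m with hP
  have hPn : P n := ⟨hn, dvd_rfl⟩
  have hspec : P (Nat.findGreatest P (Nat.card X)) := Nat.findGreatest_spec (hb n hn) hPn
  refine ⟨Nat.findGreatest P (Nat.card X), ⟨hspec.1, ?_⟩, hspec.2⟩
  intro m' hm' hdvd
  have hPm' : P m' := ⟨hm', hspec.2.trans hdvd⟩
  have hle : m' ≤ Nat.findGreatest P (Nat.card X) := Nat.le_findGreatest (hb m' hm') hPm'
  obtain ⟨g, hg⟩ := hm'
  have hpos : 0 < m' := hg ▸ orderOf_pos g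
  exact le_antisymm hle (Nat.le_of_dvd hpos hdvd)

theorem main {G H : Type*} [Group G] [Finite G] [Group H] [Finite H] (k : ℕ)
    (hsub : {n : ℕ | n ∈ Set.range (orderOf : H → ℕ) ∧ ∀ m ∈ Set.range (orderOf : H → ℕ), n ∣ m → m = n} ⊆ {n : ℕ | n ∈ Set.range (orderOf : G → ℕ) ∧ ∀ m ∈ Set.range (orderOf : G → ℕ), n ∣ m → m = n})
    (hfew : ({n : ℕ | n ∈ Set.range (orderOf : G → ℕ) ∧ ∀ m ∈ Set.range (orderOf : G → ℕ), n ∣ m → m = n} \ {n : ℕ | n ∈ Set.range (orderOf : H → ℕ) ∧ ∀ m ∈ Set.range (orderOf : H → ℕ), n ∣ m → m = n}).ncard < k + 1) :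
    Set.range (orderOf : (Fin (k + 1) → G) → ℕ) = Set.range (orderOf : (Fin k → G) × H → ℕ) := by
  classical
  have hHG : Set.range (orderOf : H → ℕ) ⊆ Set.range (orderOf : G → ℕ) := by
    intro n hn
    obtain ⟨m, hm, hnm⟩ := exists_max hn
    exact dvd_closed (hsub hm).1 hnm
  apply Set.eq_of_subset_of_subset
  · rintro _ ⟨f, rfl⟩
    -- choose maximal orders above each coordinate order
    have hch : ∀ i, ∃ m, (m ∈ Set.range (orderOf : G → ℕ) ∧ ∀ m' ∈ Set.range (orderOf : G → ℕ), m ∣ m' → m' = m) ∧ orderOf (f i) ∣ m :=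
      fun i => exists_max ⟨f i, rfl⟩
    choose m hm hfm using hch
    by_cases hcase : ∃ i, m i ∈ {n : ℕ | n ∈ Set.range (orderOf : H → ℕ) ∧ ∀ m ∈ Set.range (orderOf : H → ℕ), n ∣ m → m = n}
    · obtain ⟨i, hi⟩ := hcase
      obtain ⟨h, hh⟩ := dvd_closed hi.1 (hfm i)
      refine ⟨(fun l => f (i.succAbove l), h), ?_⟩
      rw [Prod.orderOf, Pi.orderOf, Pi.orderOf]
      simp only
      apply Nat.dvd_antisymm
      · apply Nat.lcm_dvd
        · apply Finset.lcm_dvd
          intro l _
          exact Finset.dvd_lcm (f := fun i => orderOf (f i)) (Finset.mem_univ (i.succAbove l))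
        · rw [hh]
          exact Finset.dvd_lcm (f := fun i => orderOf (f i)) (Finset.mem_univ i)
      · apply Finset.lcm_dvd
        intro l _
        by_cases hl : l = i
        · subst hl
          rw [← hh]
          exact Nat.dvd_lcm_right _ _
        · obtain ⟨l', rfl⟩ := Fin.exists_succAbove_eq hl
          exact (Finset.dvd_lcm (f := fun l => orderOf (f (i.succAbove l))) (Finset.mem_univ l')).trans
            (Nat.dvd_lcm_left _ _)
    · push Not at hcase
      -- all m i lie in the difference set, so two coincide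
      have hmaps : ∀ i ∈ (Set.univ : Set (Fin (k + 1))), m i ∈ ({n : ℕ | n ∈ Set.range (orderOf : G → ℕ) ∧ ∀ m ∈ Set.range (orderOf : G → ℕ), n ∣ m → m = n} \ {n : ℕ | n ∈ Set.range (orderOf : H → ℕ) ∧ ∀ m ∈ Set.range (orderOf : H → ℕ), n ∣ m → m = n}) :=
        fun i _ => ⟨hm i, hcase i⟩
      have hfin : ({n : ℕ | n ∈ Set.range (orderOf : G → ℕ) ∧ ∀ m ∈ Set.range (orderOf : G → ℕ), n ∣ m → m = n} \ {n : ℕ | n ∈ Set.range (orderOf : H → ℕ) ∧ ∀ m ∈ Set.range (orderOf : H → ℕ), n ∣ m → m = n}).Finite := by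
        apply Set.Finite.subset (Set.finite_range (orderOf : G → ℕ))
        intro n hn
        exact hn.1.1
      have hcard : ({n : ℕ | n ∈ Set.range (orderOf : G → ℕ) ∧ ∀ m ∈ Set.range (orderOf : G → ℕ), n ∣ m → m = n} \ {n : ℕ | n ∈ Set.range (orderOf : H → ℕ) ∧ ∀ m ∈ Set.range (orderOf : H → ℕ), n ∣ m → m = n}).ncard < (Set.univ : Set (Fin (k + 1))).ncard := by
        rw [Set.ncard_univ, Nat.card_eq_fintype_card, Fintype.card_fin]
        exact hfew
      obtain ⟨i, _, j, _, hij, hmij⟩ := Set.exists_ne_map_eq_of_ncard_lt_of_maps_to hcard hmaps hfin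
      have hlcm : Nat.lcm (orderOf (f i)) (orderOf (f j)) ∣ m i :=
        Nat.lcm_dvd (hfm i) (hmij ▸ hfm j)
      obtain ⟨g₁, hg₁⟩ := dvd_closed (hm i).1 hlcm
      obtain ⟨i', hi'⟩ := Fin.exists_succAbove_eq hij
      refine ⟨(fun l => Function.update f i g₁ (j.succAbove l), 1), ?_⟩
      rw [Prod.orderOf, Pi.orderOf, Pi.orderOf]
      simp only [orderOf_one, Nat.lcm_one_right]
      apply Nat.dvd_antisymm
      · apply Finset.lcm_dvd
        intro l _
        by_cases hl : j.succAbove l = i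
        · rw [hl, Function.update_self, hg₁]
          exact Nat.lcm_dvd (Finset.dvd_lcm (f := fun i => orderOf (f i)) (Finset.mem_univ i))
            (Finset.dvd_lcm (f := fun i => orderOf (f i)) (Finset.mem_univ j))
        · rw [Function.update_of_ne hl]
          exact Finset.dvd_lcm (f := fun i => orderOf (f i)) (Finset.mem_univ (j.succAbove l))
      · have hkey : Nat.lcm (orderOf (f i)) (orderOf (f j)) ∣
            Finset.univ.lcm (fun l => orderOf (Function.update f i g₁ (j.succAbove l))) := by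
          have := Finset.dvd_lcm (f := fun l => orderOf (Function.update f i g₁ (j.succAbove l))) (Finset.mem_univ i')
          simp only [hi', Function.update_self, hg₁] at this
          exact this
        apply Finset.lcm_dvd
        intro l _
        by_cases hlj : l = j
        · subst hlj
          exact (Nat.dvd_lcm_right _ _).trans hkey
        · by_cases hli : l = i
          · subst hli
            exact (Nat.dvd_lcm_left _ _).trans hkey
          · obtain ⟨l', rfl⟩ := Fin.exists_succAbove_eq hlj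
            have := Finset.dvd_lcm (f := fun l => orderOf (Function.update f i g₁ (j.succAbove l))) (Finset.mem_univ l')
            simp only [Function.update_of_ne hli] at this
            exact this
  · rintro _ ⟨⟨f, h⟩, rfl⟩
    obtain ⟨g₀, hg₀⟩ := hHG ⟨h, rfl⟩
    refine ⟨Fin.cons g₀ f, ?_⟩
    rw [Prod.orderOf, Pi.orderOf, Pi.orderOf]
    simp only
    apply Nat.dvd_antisymm
    · apply Finset.lcm_dvd
      intro l _
      refine Fin.cases ?_ (fun l' => ?_) l
      · simp only [Fin.cons_zero, hg₀]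
        exact Nat.dvd_lcm_right _ _
      · simp only [Fin.cons_succ]
        exact (Finset.dvd_lcm (f := fun l => orderOf (f l)) (Finset.mem_univ l')).trans (Nat.dvd_lcm_left _ _)
    · apply Nat.lcm_dvd
      · apply Finset.lcm_dvd
        intro l _
        have := Finset.dvd_lcm (f := fun l => orderOf ((Fin.cons g₀ f : Fin (k + 1) → G) l)) (Finset.mem_univ l.succ)
        simpa using this
      · have := Finset.dvd_lcm (f := fun l => orderOf ((Fin.cons g₀ f : Fin (k + 1) → G) l)) (Finset.mem_univ 0)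
        simpa [hg₀] using this

/-- For a finite group X write μ(X) for the set of element orders of X that are maximal under divisibility. Let G and H be finite groups and k ≥ 1 such that μ(H) ⊆ μ(G) and μ(G) has fewer than k elements outside μ(H). Then the direct product of k copies of G has the same set of element orders as the direct product of k − 1 copies of G with H. -/
theorem result {G H : Type*} [Group G] [Finite G] [Group H] [Finite H] (k : ℕ) (hk : 1 ≤ k)
    (hsub : {n : ℕ | n ∈ Set.range (orderOf : H → ℕ) ∧ ∀ m ∈ Set.range (orderOf : H → ℕ), n ∣ m → m = n} ⊆ {n : ℕ | n ∈ Set.range (orderOf : G → ℕ) ∧ ∀ m ∈ Set.range (orderOf : G → ℕ), n ∣ m → m = n})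
    (hfew : ({n : ℕ | n ∈ Set.range (orderOf : G → ℕ) ∧ ∀ m ∈ Set.range (orderOf : G → ℕ), n ∣ m → m = n} \ {n : ℕ | n ∈ Set.range (orderOf : H → ℕ) ∧ ∀ m ∈ Set.range (orderOf : H → ℕ), n ∣ m → m = n}).ncard < k) :
    Set.range (orderOf : (Fin k → G) → ℕ) = Set.range (orderOf : (Fin (k - 1) → G) × H → ℕ) := by
  obtain ⟨k', rfl⟩ : ∃ k', k = k' + 1 := ⟨k - 1, by omega⟩
  exact main k' hsub hfew

end Cfsg.Agent.S2514
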