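import Cfsg.Statements.S2515
import Mathlib
import Cfsg.Agent.Lib.Helper42.PPrimeTorus
import Cfsg.Agent.Lib.Helper41.SL2Nonsplit

set_option autoImplicit false
open Cfsg

namespace Cfsg.Agent.S2515


open Cfsg.Agent.Lib.Helper41 Cfsg.Agent.Lib.Helper42

section Act

variable {F : Type} [Field F] [CharP F 3]

/-- the twisted transpose: entries cubed, transposed -/
noncomputable def twM (A : Matrix.SpecialLinearGroup (Fin 2) F) : Matrix (Fin 2) (Fin 2) F :=
  ((A : Matrix (Fin 2) (Fin 2) F).map (frobenius F 3)).transpose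

theorem twM_mul (A B : Matrix.SpecialLinearGroup (Fin 2) F) : twM (A * B) = twM B * twM A := by
  unfold twM
  rw [Matrix.SpecialLinearGroup.coe_mul, Matrix.map_mul, Matrix.transpose_mul]

theorem twM_one : twM (1 : Matrix.SpecialLinearGroup (Fin 2) F) = 1 := by
  unfold twM
  rw [Matrix.SpecialLinearGroup.coe_one, Matrix.map_one _ (map_zero _) (map_one _),
    Matrix.transpose_one]

theorem twM_apply (A : Matrix.SpecialLinearGroup (Fin 2) F) (i j : Fin 2) :
    twM A i j = (A : Matrix (Fin 2) (Fin 2) F) j i ^ 3 := by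
  simp [twM, frobenius_def]

theorem det_twM (A : Matrix.SpecialLinearGroup (Fin 2) F) : (twM A).det = 1 := by
  unfold twM
  rw [Matrix.det_transpose, ← RingHom.mapMatrix_apply, ← RingHom.map_det, A.det_coe, map_one]

/-- the twisted transpose as an element of `SL₂` -/
noncomputable def tw (A : Matrix.SpecialLinearGroup (Fin 2) F) :
    Matrix.SpecialLinearGroup (Fin 2) F := ⟨twM A, det_twM A⟩

theorem coe_tw (A : Matrix.SpecialLinearGroup (Fin 2) F) :
    ((tw A : Matrix.SpecialLinearGroup (Fin 2) F) : Matrix (Fin 2) (Fin 2) F) = twM A := rfl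

theorem tw_mul (A B : Matrix.SpecialLinearGroup (Fin 2) F) : tw (A * B) = tw B * tw A := by
  apply Subtype.ext
  rw [Matrix.SpecialLinearGroup.coe_mul]
  exact twM_mul A B

theorem tw_one : tw (1 : Matrix.SpecialLinearGroup (Fin 2) F) = 1 := by
  apply Subtype.ext
  exact twM_one

theorem tw_inv (A : Matrix.SpecialLinearGroup (Fin 2) F) : tw A⁻¹ = (tw A)⁻¹ :=
  eq_inv_of_mul_eq_one_left (by rw [← tw_mul, mul_inv_cancel, tw_one])

theorem tr2_tw (A : Matrix.SpecialLinearGroup (Fin 2) F) : tr2 (tw A) = tr2 A ^ 3 := by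
  unfold tr2
  rw [coe_tw, twM_apply, twM_apply, add_pow_char]

/-- the action of `(A, s)` on matrices: `X ↦ s • (A X tw(A))` -/
noncomputable def actFun (g : Matrix.SpecialLinearGroup (Fin 2) F × ℤˣ)
    (X : Matrix (Fin 2) (Fin 2) F) : Matrix (Fin 2) (Fin 2) F :=
  ((g.2 : ℤˣ) : ℤ) • ((g.1 : Matrix (Fin 2) (Fin 2) F) * X * twM g.1)

theorem actFun_mul (g h : Matrix.SpecialLinearGroup (Fin 2) F × ℤˣ)
    (X : Matrix (Fin 2) (Fin 2) F) : actFun (g * h) X = actFun g (actFun h X) := by
  unfold actFun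
  rw [Prod.fst_mul, Prod.snd_mul, twM_mul, Matrix.SpecialLinearGroup.coe_mul, Units.val_mul,
    mul_smul]
  simp only [Matrix.mul_smul, Matrix.smul_mul, mul_assoc]

theorem actFun_one (X : Matrix (Fin 2) (Fin 2) F) :
    actFun (1 : Matrix.SpecialLinearGroup (Fin 2) F × ℤˣ) X = X := by
  unfold actFun
  simp [twM_one]

theorem actFun_add (g : Matrix.SpecialLinearGroup (Fin 2) F × ℤˣ)
    (X Y : Matrix (Fin 2) (Fin 2) F) : actFun g (X + Y) = actFun g X + actFun g Y := by
  unfold actFun
  rw [mul_add, add_mul, smul_add]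

/-- the action as an additive equivalence -/
noncomputable def actEquiv (g : Matrix.SpecialLinearGroup (Fin 2) F × ℤˣ) :
    Matrix (Fin 2) (Fin 2) F ≃+ Matrix (Fin 2) (Fin 2) F where
  toFun := actFun g
  invFun := actFun g⁻¹
  left_inv X := by rw [← actFun_mul, inv_mul_cancel, actFun_one]
  right_inv X := by rw [← actFun_mul, mul_inv_cancel, actFun_one]
  map_add' := actFun_add g

/-- the action homomorphism -/
noncomputable def rho : Matrix.SpecialLinearGroup (Fin 2) F × ℤˣ →*
    MulAut (Multiplicative (Matrix (Fin 2) (Fin 2) F)) where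
  toFun g := AddEquiv.toMultiplicative (actEquiv g)
  map_one' := by
    ext X : 1
    show Multiplicative.ofAdd (actFun 1 (Multiplicative.toAdd X)) = X
    rw [actFun_one]
    rfl
  map_mul' g h := by
    ext X : 1
    show Multiplicative.ofAdd (actFun (g * h) (Multiplicative.toAdd X))
      = Multiplicative.ofAdd (actFun g (actFun h (Multiplicative.toAdd X)))
    rw [actFun_mul]

theorem rho_apply (g : Matrix.SpecialLinearGroup (Fin 2) F × ℤˣ)
    (x : Multiplicative (Matrix (Fin 2) (Fin 2) F)) :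
    rho g x = Multiplicative.ofAdd (actFun g (Multiplicative.toAdd x)) := rfl

end Act

section Semi

variable {W : Type*} [AddCommGroup W] {K : Type*} [Group K]
  (φ : K →* MulAut (Multiplicative W))

/-- additive version of the action -/
def actA (k : K) (X : W) : W := Multiplicative.toAdd (φ k (Multiplicative.ofAdd X))

theorem actA_add (k : K) (X Y : W) : actA φ k (X + Y) = actA φ k X + actA φ k Y := by
  unfold actA
  rw [ofAdd_add, map_mul, toAdd_mul]

theorem actA_zero (k : K) : actA φ k (0 : W) = 0 := by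
  unfold actA
  rw [ofAdd_zero, map_one, toAdd_one]

theorem actA_mul (k k' : K) (X : W) : actA φ (k * k') X = actA φ k (actA φ k' X) := by
  unfold actA
  rw [map_mul]
  rfl

theorem actA_one (X : W) : actA φ 1 X = X := by
  unfold actA
  rw [map_one]
  rfl

theorem actA_sub (k : K) (X Y : W) : actA φ k (X - Y) = actA φ k X - actA φ k Y := by
  have h := actA_add φ k (X - Y) Y
  rw [sub_add_cancel] at h
  rw [h, add_sub_cancel_right]

/-- geometric sum `X + kX + ⋯ + k^(n-1) X` -/
def geom (k : K) (n : ℕ) (X : W) : W := ∑ i ∈ Finset.range n, actA φ (k ^ i) X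

theorem geom_zero (k : K) (X : W) : geom φ k 0 X = 0 := by
  unfold geom
  rw [Finset.sum_range_zero]

theorem geom_succ (k : K) (n : ℕ) (X : W) :
    geom φ k (n + 1) X = geom φ k n X + actA φ (k ^ n) X := by
  unfold geom
  rw [Finset.sum_range_succ]

theorem pow_mk (X : W) (k : K) (n : ℕ) :
    (⟨Multiplicative.ofAdd X, k⟩ : Multiplicative W ⋊[φ] K) ^ n
      = ⟨Multiplicative.ofAdd (geom φ k n X), k ^ n⟩ := by
  induction n with
  | zero =>
    rw [pow_zero, pow_zero, geom_zero]
    rfl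
  | succ n ih =>
    rw [pow_succ, ih]
    apply SemidirectProduct.ext
    · rw [SemidirectProduct.mul_left]
      show Multiplicative.ofAdd (geom φ k n X) * φ (k ^ n) (Multiplicative.ofAdd X)
        = Multiplicative.ofAdd (geom φ k (n + 1) X)
      rw [geom_succ, ofAdd_add]
      rfl
    · rw [SemidirectProduct.mul_right, pow_succ]

theorem geom_telescope (k : K) (n : ℕ) (X : W) :
    actA φ k (geom φ k n X) - geom φ k n X = actA φ (k ^ n) X - X := by
  induction n with
  | zero =>
    rw [geom_zero, actA_zero, pow_zero, actA_one, sub_self, sub_self]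
  | succ n ih =>
    rw [geom_succ, actA_add, ← actA_mul, ← pow_succ']
    have : actA φ k (geom φ k n X) + actA φ (k ^ (n + 1)) X - (geom φ k n X + actA φ (k ^ n) X)
      = (actA φ k (geom φ k n X) - geom φ k n X) + actA φ (k ^ (n + 1)) X - actA φ (k ^ n) X := by
      abel
    rw [this, ih]
    abel

/-- if `k` acts without nonzero fixed points and `k ^ n = 1` then `(X, k) ^ n = 1` -/
theorem pow_eq_one_of_fpf (X : W) (k : K) (n : ℕ) (hfpf : ∀ Y : W, actA φ k Y = Y → Y = 0)
    (hk : k ^ n = 1) : (⟨Multiplicative.ofAdd X, k⟩ : Multiplicative W ⋊[φ] K) ^ n = 1 := by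
  rw [pow_mk, hk]
  have h := geom_telescope φ k n X
  rw [hk, actA_one, sub_self] at h
  have h0 := hfpf _ (sub_eq_zero.mp h)
  rw [h0]
  rfl

/-- if `W` has exponent `3` and `k ^ n = 1` then `(X, k) ^ (3 * n) = 1` -/
theorem pow_three_mul_eq_one (h3 : ∀ Y : W, (3 : ℕ) • Y = 0) (X : W) (k : K) (n : ℕ)
    (hk : k ^ n = 1) : (⟨Multiplicative.ofAdd X, k⟩ : Multiplicative W ⋊[φ] K) ^ (3 * n) = 1 := by
  rw [mul_comm, pow_mul, pow_mk, hk, pow_mk, one_pow]
  have : geom φ (1 : K) 3 (geom φ k n X) = 0 := by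
    unfold geom
    simp only [one_pow, actA_one, Finset.sum_const, Finset.card_range]
    exact h3 _
  rw [this]
  rfl

theorem exists_mk (h : Multiplicative W ⋊[φ] K) :
    ∃ (X : W) (k : K), h = ⟨Multiplicative.ofAdd X, k⟩ :=
  ⟨Multiplicative.toAdd h.left, h.right, rfl⟩

end Semi

section Fixed

variable {F : Type} [Field F] [CharP F 3]

theorem sgn_mul_self (s : ℤˣ) : (((s : ℤ) : F)) * (((s : ℤ) : F)) = 1 := by
  rcases Int.units_eq_one_or s with rfl | rfl <;> simp

theorem actFun_eq (A : Matrix.SpecialLinearGroup (Fin 2) F) (s : ℤˣ)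
    (X : Matrix (Fin 2) (Fin 2) F) :
    actFun (A, s) X = (((s : ℤ) : F)) • ((A : Matrix (Fin 2) (Fin 2) F) * X *
      ((tw A : Matrix.SpecialLinearGroup (Fin 2) F) : Matrix (Fin 2) (Fin 2) F)) := by
  unfold actFun
  rw [coe_tw, Int.cast_smul_eq_zsmul]

/-- a nonzero fixed point forces a relation on the trace -/
theorem trace_of_fixed (A : Matrix.SpecialLinearGroup (Fin 2) F) (s : ℤˣ)
    (X : Matrix (Fin 2) (Fin 2) F) (hX : X ≠ 0) (hfix : actFun (A, s) X = X) :
    tr2 A = (((s : ℤ) : F)) * tr2 A ^ 3 := by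
  rw [actFun_eq] at hfix
  set a : F := ((s : ℤ) : F) with ha
  set B := tw A with hB
  have haa : a * a = 1 := sgn_mul_self s
  -- (1) A X B = a • X
  have h1 : (A : Matrix (Fin 2) (Fin 2) F) * X * (B : Matrix (Fin 2) (Fin 2) F) = a • X := by
    have := congrArg (fun M => a • M) hfix
    simp only [smul_smul, haa, one_smul] at this
    exact this
  -- (2) A X = a • (X B⁻¹)
  have h2 : (A : Matrix (Fin 2) (Fin 2) F) * X
      = a • (X * ((B⁻¹ : Matrix.SpecialLinearGroup (Fin 2) F) : Matrix (Fin 2) (Fin 2) F)) := by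
    have := congrArg (fun M => M *
      ((B⁻¹ : Matrix.SpecialLinearGroup (Fin 2) F) : Matrix (Fin 2) (Fin 2) F)) h1
    simp only [mul_assoc, coe_mul_coe_inv, mul_one, Matrix.smul_mul] at this
    exact this
  -- (3) A⁻¹ X = a • (X B)
  have h3 : ((A⁻¹ : Matrix.SpecialLinearGroup (Fin 2) F) : Matrix (Fin 2) (Fin 2) F) * X
      = a • (X * (B : Matrix (Fin 2) (Fin 2) F)) := by
    have := congrArg (fun M =>
      a • (((A⁻¹ : Matrix.SpecialLinearGroup (Fin 2) F) : Matrix (Fin 2) (Fin 2) F) * M)) h1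
    simp only [← mul_assoc, coe_inv_mul_coe, one_mul, Matrix.mul_smul, smul_smul, haa,
      one_smul] at this
    exact this.symm
  -- (4)
  have h4 : tr2 A • X = (a * tr2 A ^ 3) • X := by
    calc tr2 A • X = (tr2 A • (1 : Matrix (Fin 2) (Fin 2) F)) * X := by
          rw [Matrix.smul_mul, one_mul]
      _ = (A : Matrix (Fin 2) (Fin 2) F) * X
          + ((A⁻¹ : Matrix.SpecialLinearGroup (Fin 2) F) : Matrix (Fin 2) (Fin 2) F) * X := by
          rw [← coe_add_coe_inv, add_mul]
      _ = a • (X * ((B : Matrix (Fin 2) (Fin 2) F)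
          + ((B⁻¹ : Matrix.SpecialLinearGroup (Fin 2) F) : Matrix (Fin 2) (Fin 2) F))) := by
          rw [h2, h3, mul_add, smul_add, add_comm]
      _ = (a * tr2 A ^ 3) • X := by
          rw [coe_add_coe_inv, hB, tr2_tw, Matrix.mul_smul, mul_one, smul_smul]
  have h5 : (tr2 A - a * tr2 A ^ 3) • X = 0 := by
    rw [sub_smul, h4, sub_self]
  rcases smul_eq_zero.mp h5 with h | h
  · exact sub_eq_zero.mp h
  · exact absurd h hX

theorem twM_neg_one : twM (-1 : Matrix.SpecialLinearGroup (Fin 2) F) = -1 := by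
  ext i j
  rw [twM_apply, Matrix.SpecialLinearGroup.coe_neg, Matrix.SpecialLinearGroup.coe_one]
  fin_cases i <;> fin_cases j <;> simp [Odd.neg_pow (by decide : Odd 3)]

theorem coe_eq_neg_one_iff (A : Matrix.SpecialLinearGroup (Fin 2) F) :
    (A : Matrix (Fin 2) (Fin 2) F) = -1 ↔ A = -1 := by
  constructor
  · intro h
    apply Subtype.ext
    rw [h, Matrix.SpecialLinearGroup.coe_neg, Matrix.SpecialLinearGroup.coe_one]
  · intro h
    rw [h, Matrix.SpecialLinearGroup.coe_neg, Matrix.SpecialLinearGroup.coe_one]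

theorem coe_eq_one_iff (A : Matrix.SpecialLinearGroup (Fin 2) F) :
    (A : Matrix (Fin 2) (Fin 2) F) = 1 ↔ A = 1 := by
  constructor
  · intro h
    apply Subtype.ext
    rw [h, Matrix.SpecialLinearGroup.coe_one]
  · intro h
    rw [h, Matrix.SpecialLinearGroup.coe_one]

theorem two_ne_zero_F : (2 : F) ≠ 0 := by
  intro h
  have h' : ((2 : ℕ) : F) = 0 := by exact_mod_cast h
  rw [CharP.cast_eq_zero_iff F 3] at h'
  omega

theorem actFun_neg_one (s : ℤˣ) (X : Matrix (Fin 2) (Fin 2) F) :
    actFun ((-1 : Matrix.SpecialLinearGroup (Fin 2) F), s) X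
      = actFun ((1 : Matrix.SpecialLinearGroup (Fin 2) F), s) X := by
  unfold actFun
  simp [twM_neg_one, twM_one]

/-- the kernel of the action -/
theorem ker_act (A : Matrix.SpecialLinearGroup (Fin 2) F) (s : ℤˣ)
    (h : ∀ X : Matrix (Fin 2) (Fin 2) F, actFun (A, s) X = X) :
    ((A : Matrix (Fin 2) (Fin 2) F) = 1 ∨ (A : Matrix (Fin 2) (Fin 2) F) = -1) ∧ s = 1 := by
  set a : F := ((s : ℤ) : F) with ha
  set B := tw A with hB
  have haa : a * a = 1 := sgn_mul_self s
  have h1 : ∀ X : Matrix (Fin 2) (Fin 2) F,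
      (A : Matrix (Fin 2) (Fin 2) F) * X * (B : Matrix (Fin 2) (Fin 2) F) = a • X := by
    intro X
    have h0 := h X
    rw [actFun_eq, ← ha, ← hB] at h0
    have := congrArg (fun M => a • M) h0
    simp only [smul_smul, haa, one_smul] at this
    exact this
  -- B = a • A⁻¹
  have hBA : (B : Matrix (Fin 2) (Fin 2) F)
      = a • ((A⁻¹ : Matrix.SpecialLinearGroup (Fin 2) F) : Matrix (Fin 2) (Fin 2) F) := by
    have := congrArg (fun M =>
      ((A⁻¹ : Matrix.SpecialLinearGroup (Fin 2) F) : Matrix (Fin 2) (Fin 2) F) * M) (h1 1)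
    simp only [mul_one, ← mul_assoc, coe_inv_mul_coe, one_mul, Matrix.mul_smul] at this
    exact this
  -- A commutes with everything
  have hcomm : ∀ X : Matrix (Fin 2) (Fin 2) F,
      (A : Matrix (Fin 2) (Fin 2) F) * X = X * (A : Matrix (Fin 2) (Fin 2) F) := by
    intro X
    have h2 := h1 X
    rw [hBA, Matrix.mul_smul] at h2
    have h3 : (A : Matrix (Fin 2) (Fin 2) F) * X *
        ((A⁻¹ : Matrix.SpecialLinearGroup (Fin 2) F) : Matrix (Fin 2) (Fin 2) F) = X := by
      have := congrArg (fun M => a • M) h2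
      simp only [smul_smul, haa, one_smul] at this
      exact this
    have := congrArg (fun M => M * (A : Matrix (Fin 2) (Fin 2) F)) h3
    simp only [mul_assoc, coe_inv_mul_coe, mul_one] at this
    exact this
  have hcen : A ∈ Subgroup.center (Matrix.SpecialLinearGroup (Fin 2) F) := by
    rw [Subgroup.mem_center_iff]
    intro g
    apply Subtype.ext
    rw [Matrix.SpecialLinearGroup.coe_mul, Matrix.SpecialLinearGroup.coe_mul]
    exact (hcomm g).symm
  have hpm := (mem_center_iff_pm A).mp hcen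
  refine ⟨hpm, ?_⟩
  -- s = 1
  have hAB : (A : Matrix (Fin 2) (Fin 2) F) * (B : Matrix (Fin 2) (Fin 2) F) = 1 := by
    rcases hpm with h' | h'
    · have : A = 1 := (coe_eq_one_iff A).mp h'
      rw [hB, this, tw_one, Matrix.SpecialLinearGroup.coe_one, mul_one]
    · have : A = -1 := (coe_eq_neg_one_iff A).mp h'
      rw [hB, this, coe_tw, twM_neg_one, Matrix.SpecialLinearGroup.coe_neg,
        Matrix.SpecialLinearGroup.coe_one]
      simp
  have h4 := h1 1
  rw [mul_one, hAB] at h4
  have h5 := congrFun (congrFun h4 0) 0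
  simp only [Matrix.one_apply_eq, Matrix.smul_apply, smul_eq_mul, mul_one] at h5
  rcases Int.units_eq_one_or s with hs | hs
  · exact hs
  · exfalso
    rw [ha, hs] at h5
    simp at h5
    apply two_ne_zero_F (F := F)
    linear_combination h5
  
end Fixed

section Group

variable {F : Type} [Field F] [CharP F 3]

/-- the acting group `± PSL₂(F)`, as a group of automorphisms of `M₂(F)` -/
noncomputable def KK (F : Type) [Field F] [CharP F 3] :
    Subgroup (MulAut (Multiplicative (Matrix (Fin 2) (Fin 2) F))) := (rho (F := F)).range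

/-- the group `H` -/
abbrev HH (F : Type) [Field F] [CharP F 3] :=
  Multiplicative (Matrix (Fin 2) (Fin 2) F) ⋊[(KK F).subtype] (KK F)

/-- elements of `KK` -/
noncomputable def kk (g : Matrix.SpecialLinearGroup (Fin 2) F × ℤˣ) : KK F :=
  ⟨rho g, MonoidHom.mem_range.mpr ⟨g, rfl⟩⟩

theorem kk_pow (g : Matrix.SpecialLinearGroup (Fin 2) F × ℤˣ) (n : ℕ) :
    kk g ^ n = kk (g ^ n) := by
  apply Subtype.ext
  rw [Subgroup.coe_pow]
  show rho g ^ n = rho (g ^ n)
  rw [map_pow]

theorem kk_eq_one_iff (g : Matrix.SpecialLinearGroup (Fin 2) F × ℤˣ) :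
    kk g = 1 ↔ ∀ X : Matrix (Fin 2) (Fin 2) F, actFun g X = X := by
  constructor
  · intro h X
    have h1 : rho g = 1 := congrArg Subtype.val h
    have h2 := congrArg (fun f => f (Multiplicative.ofAdd X)) h1
    simp only [rho_apply, MulAut.one_apply] at h2
    exact h2
  · intro h
    apply Subtype.ext
    show rho g = 1
    ext x : 1
    rw [rho_apply, h]
    rfl

theorem exists_kk (k : KK F) : ∃ g : Matrix.SpecialLinearGroup (Fin 2) F × ℤˣ, k = kk g := by
  obtain ⟨g, hg⟩ := MonoidHom.mem_range.mp k.2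
  exact ⟨g, Subtype.ext hg.symm⟩

theorem actA_kk (g : Matrix.SpecialLinearGroup (Fin 2) F × ℤˣ)
    (Y : Matrix (Fin 2) (Fin 2) F) : actA (KK F).subtype (kk g) Y = actFun g Y := rfl

theorem units_pow_even (s : ℤˣ) (n : ℕ) (hn : Even n) : s ^ n = 1 := by
  obtain ⟨m, rfl⟩ := hn
  rw [← two_mul, pow_mul, Int.units_sq, one_pow]

/-- if `A ^ n = ± 1` and `s ^ n = 1` then `kk (A, s) ^ n = 1` -/
theorem kk_pow_eq_one (A : Matrix.SpecialLinearGroup (Fin 2) F) (s : ℤˣ) (n : ℕ)
    (hA : (A : Matrix (Fin 2) (Fin 2) F) ^ n = 1 ∨ (A : Matrix (Fin 2) (Fin 2) F) ^ n = -1)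
    (hs : s ^ n = 1) : kk (A, s) ^ n = 1 := by
  rw [kk_pow, kk_eq_one_iff, Prod.pow_mk, hs]
  intro X
  rw [← Matrix.SpecialLinearGroup.coe_pow] at hA
  rcases hA with h | h
  · rw [(coe_eq_one_iff _).mp h]
    exact actFun_one X
  · rw [(coe_eq_neg_one_iff _).mp h, actFun_neg_one]
    exact actFun_one X

theorem three_nsmul_eq_zero (Y : Matrix (Fin 2) (Fin 2) F) : (3 : ℕ) • Y = 0 := by
  have h3 : ((3 : ℕ) : F) = 0 := (CharP.cast_eq_zero_iff F 3 3).mpr (dvd_refl 3)
  rw [← Nat.cast_smul_eq_nsmul F, h3, zero_smul]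

theorem four_eq_one : (4 : F) = 1 := by
  have h3 : ((3 : ℕ) : F) = 0 := (CharP.cast_eq_zero_iff F 3 3).mpr (dvd_refl 3)
  push_cast at h3
  linear_combination h3

variable [Fintype F]

/-- every element of `H` has order dividing one of `6, 9, q - 1, (q + 1) / 2` -/
theorem order_dvd (hq8 : Fintype.card F % 8 = 3) (h : HH F) :
    orderOf h ∣ 6 ∨ orderOf h ∣ 9 ∨ orderOf h ∣ Fintype.card F - 1 ∨
      orderOf h ∣ (Fintype.card F + 1) / 2 := by
  obtain ⟨X, k, rfl⟩ := exists_mk (KK F).subtype h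
  obtain ⟨⟨A, s⟩, rfl⟩ := exists_kk k
  have h2 : (2 : F) ≠ 0 := two_ne_zero_F
  have h41 : (4 : F) = 1 := four_eq_one
  have hnsq : ¬ IsSquare (-1 : F) := by
    rw [FiniteField.isSquare_neg_one_iff]
    omega
  have hs2 : s ^ 2 = 1 := Int.units_sq s
  set t := tr2 A with ht
  -- fixed-point-freeness criteria
  have hfpf : t ≠ ((s : ℤ) : F) * t ^ 3 →
      ∀ Y : Matrix (Fin 2) (Fin 2) F, actA (KK F).subtype (kk (A, s)) Y = Y → Y = 0 := by
    intro hne Y hY
    by_contra hY0
    exact hne (trace_of_fixed A s Y hY0 hY)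
  by_cases ht4 : t ^ 2 = 4
  · -- unipotent case
    have hA3 := pow_char_of_tr2_sq_eq_four 3 A ht4
    rcases Int.units_eq_one_or s with rfl | rfl
    · right; left
      apply orderOf_dvd_of_pow_eq_one
      exact pow_three_mul_eq_one (KK F).subtype three_nsmul_eq_zero X _ 3
        (kk_pow_eq_one A 1 3 hA3 (one_pow 3))
    · left
      apply orderOf_dvd_of_pow_eq_one
      apply pow_eq_one_of_fpf (KK F).subtype X _ 6
      · apply hfpf
        intro h'
        have h'' : t = -t := by
          have : t ^ 3 = t := by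
            calc t ^ 3 = t ^ 2 * t := by ring
              _ = t := by rw [ht4, h41, one_mul]
          rw [this] at h'
          simpa using h'
        have ht0 : t = 0 := by
          have : (2 : F) * t = 0 := by linear_combination h''
          rcases mul_eq_zero.mp this with h | h
          · exact absurd h h2
          · exact h
        rw [ht0] at ht4
        rw [h41] at ht4
        simp at ht4
      · apply kk_pow_eq_one A (-1) 6
        · rcases hA3 with h | h
          · left; rw [show 6 = 3 * 2 by norm_num, pow_mul, h, one_pow]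
          · left; rw [show 6 = 3 * 2 by norm_num, pow_mul, h]; simp
        · exact units_pow_even _ 6 (by decide)
  · by_cases ht0 : t = 0
    · -- involution case
      left
      apply orderOf_dvd_of_pow_eq_one
      have hA2 : (A : Matrix (Fin 2) (Fin 2) F) ^ 2 = -1 := by
        rw [pow_two, cayley_hamilton, ← ht, ht0, zero_smul, zero_sub]
      exact pow_three_mul_eq_one (KK F).subtype three_nsmul_eq_zero X _ 2
        (kk_pow_eq_one A s 2 (Or.inr hA2) hs2)
    · -- semisimple case: fixed point free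
      have hfree : ∀ Y : Matrix (Fin 2) (Fin 2) F,
          actA (KK F).subtype (kk (A, s)) Y = Y → Y = 0 := by
        apply hfpf
        intro h'
        rcases Int.units_eq_one_or s with hs | hs
        · rw [hs] at h'
          simp only [Units.val_one, Int.cast_one, one_mul] at h'
          have : t * (t ^ 2 - 1) = 0 := by linear_combination -h'
          rcases mul_eq_zero.mp this with h | h
          · exact ht0 h
          · apply ht4
            rw [h41]
            linear_combination h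
        · rw [hs] at h'
          simp only [Units.val_neg, Units.val_one, Int.cast_neg, Int.cast_one, neg_mul,
            one_mul] at h'
          have : t * (t ^ 2 + 1) = 0 := by linear_combination h'
          rcases mul_eq_zero.mp this with h | h
          · exact ht0 h
          · apply hnsq
            exact ⟨t, by linear_combination -h⟩
      obtain ⟨_, hcard⟩ := centralizer_cyclic_card A ht4
      have hmem : A ∈ Subgroup.centralizer ({A} : Set (Matrix.SpecialLinearGroup (Fin 2) F)) := by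
        rw [Subgroup.mem_centralizer_singleton_iff]
      have hpow : A ^ Nat.card (Subgroup.centralizer
          ({A} : Set (Matrix.SpecialLinearGroup (Fin 2) F))) = 1 := by
        have := pow_card_eq_one' (G := Subgroup.centralizer
          ({A} : Set (Matrix.SpecialLinearGroup (Fin 2) F))) (x := ⟨A, hmem⟩)
        exact congrArg Subtype.val this
      rcases hcard with hc | hc
      · right; right; left
        rw [hc] at hpow
        apply orderOf_dvd_of_pow_eq_one
        apply pow_eq_one_of_fpf (KK F).subtype X _ _ hfree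
        apply kk_pow_eq_one A s
        · left
          rw [← Matrix.SpecialLinearGroup.coe_pow, hpow, Matrix.SpecialLinearGroup.coe_one]
        · exact units_pow_even _ _ (by
            rw [Nat.even_iff]; omega)
      · right; right; right
        rw [hc] at hpow
        apply orderOf_dvd_of_pow_eq_one
        apply pow_eq_one_of_fpf (KK F).subtype X _ _ hfree
        apply kk_pow_eq_one A s
        · have hsq : ((A ^ ((Fintype.card F + 1) / 2) : Matrix.SpecialLinearGroup (Fin 2) F) :
              Matrix (Fin 2) (Fin 2) F) * ((A ^ ((Fintype.card F + 1) / 2) :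
              Matrix.SpecialLinearGroup (Fin 2) F) : Matrix (Fin 2) (Fin 2) F) = 1 := by
            rw [← Matrix.SpecialLinearGroup.coe_mul, ← pow_add,
              show (Fintype.card F + 1) / 2 + (Fintype.card F + 1) / 2 = Fintype.card F + 1 by omega,
              hpow, Matrix.SpecialLinearGroup.coe_one]
          have := eq_one_or_neg_one_of_mul_self h2 _ hsq
          rwa [Matrix.SpecialLinearGroup.coe_pow] at this
        · exact units_pow_even _ _ (by
            rw [Nat.even_iff]; omega)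

end Group

section Elements

variable {F : Type} [Field F] [CharP F 3]

/-- the standard unipotent element -/
def uu : Matrix.SpecialLinearGroup (Fin 2) F := ⟨!![1, 1; 0, 1], by simp [Matrix.det_fin_two]⟩

theorem coe_uu : ((uu : Matrix.SpecialLinearGroup (Fin 2) F) : Matrix (Fin 2) (Fin 2) F)
    = !![1, 1; 0, 1] := rfl

theorem three_eq_zero : (3 : F) = 0 := by
  have h3 : ((3 : ℕ) : F) = 0 := (CharP.cast_eq_zero_iff F 3 3).mpr (dvd_refl 3)
  exact_mod_cast h3

theorem uu_pow_three : (uu : Matrix.SpecialLinearGroup (Fin 2) F) ^ 3 = 1 := by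
  apply Subtype.ext
  rw [Matrix.SpecialLinearGroup.coe_pow, coe_uu, Matrix.SpecialLinearGroup.coe_one]
  have h3 : (3 : F) = 0 := three_eq_zero
  ext i j
  fin_cases i <;> fin_cases j <;>
    simp [pow_succ, Matrix.mul_apply, Fin.sum_univ_two]
  linear_combination h3

theorem uu_ne_one : (uu : Matrix.SpecialLinearGroup (Fin 2) F) ≠ 1 := by
  intro h
  have h1 := congrArg (fun A : Matrix.SpecialLinearGroup (Fin 2) F =>
    (A : Matrix (Fin 2) (Fin 2) F) 0 1) h
  simp [coe_uu] at h1

theorem orderOf_uu : orderOf (uu : Matrix.SpecialLinearGroup (Fin 2) F) = 3 :=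
  orderOf_eq_prime uu_pow_three uu_ne_one

theorem twM_uu : twM (uu : Matrix.SpecialLinearGroup (Fin 2) F) = !![1, 0; 1, 1] := by
  ext i j
  rw [twM_apply, coe_uu]
  fin_cases i <;> fin_cases j <;> simp

/-- the matrix unit `E₂₂` -/
def e22 : Matrix (Fin 2) (Fin 2) F := !![0, 0; 0, 1]

theorem actFun_uu_one (X : Matrix (Fin 2) (Fin 2) F) :
    actFun ((uu : Matrix.SpecialLinearGroup (Fin 2) F), (1 : ℤˣ)) X
      = !![1, 1; 0, 1] * X * !![1, 0; 1, 1] := by
  unfold actFun
  simp only [Units.val_one, one_smul, twM_uu, coe_uu]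

theorem geom_uu_ne_zero :
    geom (KK F).subtype (kk ((uu : Matrix.SpecialLinearGroup (Fin 2) F), (1 : ℤˣ))) 3 e22 ≠ 0 := by
  intro h
  have h3 : (3 : F) = 0 := three_eq_zero
  unfold geom at h
  rw [Finset.sum_range_succ, Finset.sum_range_succ, Finset.sum_range_one, pow_zero, pow_one,
    pow_two, actA_one, actA_mul] at h
  simp only [actA_kk, actFun_uu_one] at h
  have h00 := congrFun (congrFun h 0) 0
  simp [e22, Matrix.mul_apply, Fin.sum_univ_two] at h00
  have : (2 : F) = 0 := by linear_combination h00 - h3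
  exact two_ne_zero_F this

variable [Fintype F]

/-- an element of order `9` -/
theorem exists_order_nine : ∃ h : HH F, orderOf h = 9 := by
  refine ⟨⟨Multiplicative.ofAdd e22, kk (uu, 1)⟩, ?_⟩
  have hk3 : kk ((uu : Matrix.SpecialLinearGroup (Fin 2) F), (1 : ℤˣ)) ^ 3 = 1 := by
    apply kk_pow_eq_one _ _ 3 _ (one_pow 3)
    left
    rw [← Matrix.SpecialLinearGroup.coe_pow, uu_pow_three, Matrix.SpecialLinearGroup.coe_one]
  have h9 := pow_three_mul_eq_one (KK F).subtype three_nsmul_eq_zero e22 _ 3 hk3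
  have h3 : ¬ ((⟨Multiplicative.ofAdd e22, kk (uu, 1)⟩ : HH F) ^ 3 ^ 1 = 1) := by
    rw [pow_one, pow_mk]
    intro h
    have h1 := congrArg SemidirectProduct.left h
    simp only [SemidirectProduct.one_left] at h1
    exact geom_uu_ne_zero (Multiplicative.ofAdd.injective h1)
  exact orderOf_eq_prime_pow h3 h9

theorem orderOf_inr (k : KK F) : orderOf (SemidirectProduct.inr k : HH F) = orderOf k :=
  orderOf_injective SemidirectProduct.inr SemidirectProduct.inr_injective k

/-- from `kk (A, s) ^ n = 1` we get `A ^ (2 n) = 1` and `s ^ n = 1` -/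
theorem of_kk_pow_eq_one (A : Matrix.SpecialLinearGroup (Fin 2) F) (s : ℤˣ) (n : ℕ)
    (h : kk (A, s) ^ n = 1) : A ^ (2 * n) = 1 ∧ s ^ n = 1 := by
  rw [kk_pow, kk_eq_one_iff, Prod.pow_mk] at h
  obtain ⟨h1, h2⟩ := ker_act _ _ h
  refine ⟨?_, h2⟩
  rw [mul_comm, pow_mul]
  apply Subtype.ext
  rw [Matrix.SpecialLinearGroup.coe_pow, Matrix.SpecialLinearGroup.coe_one]
  rcases h1 with h1 | h1
  · rw [h1, one_pow]
  · rw [h1]; simp

theorem even_of_neg_one_pow (n : ℕ) (h : (-1 : ℤˣ) ^ n = 1) : Even n := by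
  by_contra hn
  rw [Nat.not_even_iff_odd] at hn
  rw [Odd.neg_one_pow hn] at h
  exact absurd h (by decide)

/-- an element of order `6` -/
theorem exists_order_six : ∃ h : HH F, orderOf h = 6 := by
  refine ⟨SemidirectProduct.inr (kk (uu, -1)), ?_⟩
  rw [orderOf_inr]
  apply Nat.dvd_antisymm
  · apply orderOf_dvd_of_pow_eq_one
    apply kk_pow_eq_one _ _ 6 _ (units_pow_even _ 6 (by decide))
    left
    rw [← Matrix.SpecialLinearGroup.coe_pow, show 6 = 3 * 2 by norm_num, pow_mul, uu_pow_three,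
      one_pow, Matrix.SpecialLinearGroup.coe_one]
  · obtain ⟨h1, h2⟩ := of_kk_pow_eq_one _ _ _ (pow_orderOf_eq_one (kk ((uu :
      Matrix.SpecialLinearGroup (Fin 2) F), (-1 : ℤˣ))))
    have he := even_of_neg_one_pow _ h2
    have h3 : 3 ∣ 2 * orderOf (kk ((uu : Matrix.SpecialLinearGroup (Fin 2) F), (-1 : ℤˣ))) := by
      rw [← orderOf_uu (F := F)]
      exact orderOf_dvd_of_pow_eq_one h1
    have h3' : 3 ∣ orderOf (kk ((uu : Matrix.SpecialLinearGroup (Fin 2) F), (-1 : ℤˣ))) :=
      (Nat.Coprime.dvd_mul_left (by decide : Nat.Coprime 3 2)).mp h3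
    have h2' : 2 ∣ orderOf (kk ((uu : Matrix.SpecialLinearGroup (Fin 2) F), (-1 : ℤˣ))) :=
      even_iff_two_dvd.mp he
    exact Nat.Coprime.mul_dvd_of_dvd_of_dvd (by decide : Nat.Coprime 2 3) h2' h3'

/-- an element of order `q - 1` -/
theorem exists_order_sub_one (hq8 : Fintype.card F % 8 = 3) :
    ∃ h : HH F, orderOf h = Fintype.card F - 1 := by
  obtain ⟨g₀, hg₀⟩ := IsCyclic.exists_generator (α := Fˣ)
  have hord : orderOf g₀ = Fintype.card F - 1 := by
    rw [orderOf_eq_card_of_forall_mem_zpowers hg₀, Nat.card_units, Nat.card_eq_fintype_card]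
  have hordD : orderOf (diagHom g₀ : Matrix.SpecialLinearGroup (Fin 2) F) = Fintype.card F - 1 := by
    rw [orderOf_injective diagHom diagHom_injective, hord]
  refine ⟨SemidirectProduct.inr (kk (diagHom g₀, -1)), ?_⟩
  rw [orderOf_inr]
  apply Nat.dvd_antisymm
  · apply orderOf_dvd_of_pow_eq_one
    apply kk_pow_eq_one _ _ _ _ (units_pow_even _ _ (by rw [Nat.even_iff]; omega))
    left
    rw [← Matrix.SpecialLinearGroup.coe_pow, ← hordD, pow_orderOf_eq_one,
      Matrix.SpecialLinearGroup.coe_one]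
  · obtain ⟨h1, h2⟩ := of_kk_pow_eq_one _ _ _ (pow_orderOf_eq_one (kk ((diagHom g₀ :
      Matrix.SpecialLinearGroup (Fin 2) F), (-1 : ℤˣ))))
    set o := orderOf (kk ((diagHom g₀ : Matrix.SpecialLinearGroup (Fin 2) F), (-1 : ℤˣ))) with ho
    have he : 2 ∣ o := even_iff_two_dvd.mp (even_of_neg_one_pow _ h2)
    have hd : Fintype.card F - 1 ∣ 2 * o := by
      rw [← hordD]
      exact orderOf_dvd_of_pow_eq_one h1
    obtain ⟨m, hm⟩ : ∃ m, Fintype.card F - 1 = 2 * m := ⟨(Fintype.card F - 1) / 2, by omega⟩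
    have hmodd : Nat.Coprime 2 m := by
      rw [Nat.coprime_two_left]
      rw [Nat.odd_iff]
      omega
    rw [hm] at hd ⊢
    have hm' : m ∣ o := (Nat.mul_dvd_mul_iff_left (by norm_num)).mp hd
    exact Nat.Coprime.mul_dvd_of_dvd_of_dvd hmodd he hm'

/-- an element of order `(q + 1) / 2` -/
theorem exists_order_half (hq8 : Fintype.card F % 8 = 3) :
    ∃ h : HH F, orderOf h = (Fintype.card F + 1) / 2 := by
  obtain ⟨A, hA⟩ := exists_orderOf_eq_card_add_one (F := F)
  have h2 : (2 : F) ≠ 0 := two_ne_zero_F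
  refine ⟨SemidirectProduct.inr (kk (A, 1)), ?_⟩
  rw [orderOf_inr]
  apply Nat.dvd_antisymm
  · apply orderOf_dvd_of_pow_eq_one
    apply kk_pow_eq_one _ _ _ _ (one_pow _)
    have hsq : ((A ^ ((Fintype.card F + 1) / 2) : Matrix.SpecialLinearGroup (Fin 2) F) :
        Matrix (Fin 2) (Fin 2) F) * ((A ^ ((Fintype.card F + 1) / 2) :
        Matrix.SpecialLinearGroup (Fin 2) F) : Matrix (Fin 2) (Fin 2) F) = 1 := by
      rw [← Matrix.SpecialLinearGroup.coe_mul, ← pow_add,
        show (Fintype.card F + 1) / 2 + (Fintype.card F + 1) / 2 = Fintype.card F + 1 by omega,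
        ← hA, pow_orderOf_eq_one, Matrix.SpecialLinearGroup.coe_one]
    have := eq_one_or_neg_one_of_mul_self h2 _ hsq
    rwa [Matrix.SpecialLinearGroup.coe_pow] at this
  · obtain ⟨h1, _⟩ := of_kk_pow_eq_one _ _ _ (pow_orderOf_eq_one (kk (A, (1 : ℤˣ))))
    have hd : Fintype.card F + 1 ∣ 2 * orderOf (kk (A, (1 : ℤˣ))) := by
      rw [← hA]
      exact orderOf_dvd_of_pow_eq_one h1
    have hq : Fintype.card F + 1 = 2 * ((Fintype.card F + 1) / 2) := by omega
    rw [hq] at hd
    exact (Nat.mul_dvd_mul_iff_left (by norm_num)).mp hd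

end Elements

section Final

theorem mu_eq (S T : Set ℕ) (hT : T ⊆ S) (hdiv : ∀ n ∈ S, ∃ t ∈ T, n ∣ t)
    (hanti : ∀ a ∈ T, ∀ b ∈ T, a ∣ b → a = b) :
    {n : ℕ | n ∈ S ∧ ∀ m ∈ S, n ∣ m → m = n} = T := by
  ext n
  constructor
  · rintro ⟨hn, hmax⟩
    obtain ⟨t, ht, hnt⟩ := hdiv n hn
    have := hmax t (hT ht) hnt
    rw [← this]
    exact ht
  · intro hn
    refine ⟨hT hn, ?_⟩
    intro m hm hnm
    obtain ⟨t, ht, hmt⟩ := hdiv m hm
    have h1 : n = t := hanti n hn t ht (dvd_trans hnm hmt)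
    rw [← h1] at hmt
    exact Nat.dvd_antisymm hmt hnm

theorem three_pow_mod_eight (α : ℕ) (hodd : Odd α) : 3 ^ α % 8 = 3 := by
  obtain ⟨k, rfl⟩ := hodd
  rw [pow_succ, pow_mul, Nat.mul_mod, Nat.pow_mod]
  norm_num

theorem tops_anti (q : ℕ) (hq27 : 27 ≤ q) (hq3 : q % 3 = 0) (hq8 : q % 8 = 3) :
    ∀ a ∈ ({6, 9, q - 1, (q + 1) / 2} : Set ℕ), ∀ b ∈ ({6, 9, q - 1, (q + 1) / 2} : Set ℕ),
      a ∣ b → a = b := by
  have key : (q + 1) / 2 ∣ q - 1 → False := by
    intro h
    have h2 : (q + 1) / 2 ∣ 2 * ((q + 1) / 2) := dvd_mul_left _ _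
    have h3 : (q + 1) / 2 ∣ 2 * ((q + 1) / 2) - (q - 1) := Nat.dvd_sub h2 h
    have h4 : 2 * ((q + 1) / 2) - (q - 1) = 2 := by omega
    rw [h4] at h3
    have := Nat.le_of_dvd (by norm_num) h3
    omega
  intro a ha b hb hab
  simp only [Set.mem_insert_iff, Set.mem_singleton_iff] at ha hb
  rcases ha with rfl | rfl | rfl | rfl <;> rcases hb with rfl | rfl | rfl | rfl
  · rfl
  · omega
  · omega
  · omega
  · omega
  · rfl
  · omega
  · omega
  · have := Nat.le_of_dvd (by norm_num) hab; omega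
  · have := Nat.le_of_dvd (by norm_num) hab; omega
  · rfl
  · have := Nat.le_of_dvd (by omega) hab; omega
  · have := Nat.le_of_dvd (by norm_num) hab; omega
  · have := Nat.le_of_dvd (by norm_num) hab; omega
  · exact absurd hab key
  · rfl

variable {F : Type} [Field F] [CharP F 3] [Fintype F]

instance finite_KK : Finite (KK F) :=
  Finite.of_surjective (rho (F := F)).rangeRestrict (rho (F := F)).rangeRestrict_surjective

instance finite_HH : Finite (HH F) :=
  Finite.of_equiv _ (SemidirectProduct.equivProd (φ := (KK F).subtype)).symm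

theorem exists_normal_three :
    ∃ P : Subgroup (HH F), P.Normal ∧ P ≠ ⊥ ∧ IsPGroup 3 ↥P := by
  refine ⟨(SemidirectProduct.inl : Multiplicative (Matrix (Fin 2) (Fin 2) F) →* HH F).range,
    ?_, ?_, ?_⟩
  · rw [SemidirectProduct.range_inl_eq_ker_rightHom]
    exact MonoidHom.normal_ker _
  · intro h
    have hmem : (SemidirectProduct.inl (Multiplicative.ofAdd (e22 : Matrix (Fin 2) (Fin 2) F)) :
        HH F) ∈ (SemidirectProduct.inl :
          Multiplicative (Matrix (Fin 2) (Fin 2) F) →* HH F).range := ⟨_, rfl⟩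
    rw [h, Subgroup.mem_bot] at hmem
    have h1 : Multiplicative.ofAdd (e22 : Matrix (Fin 2) (Fin 2) F) = 1 :=
      SemidirectProduct.inl_injective (by rw [hmem, map_one])
    have h2 : (e22 : Matrix (Fin 2) (Fin 2) F) = 0 := Multiplicative.ofAdd.injective h1
    have h3 := congrFun (congrFun h2 1) 1
    simp [e22] at h3
  · rintro ⟨g, hg⟩
    obtain ⟨w, rfl⟩ := hg
    refine ⟨1, ?_⟩
    apply Subtype.ext
    rw [pow_one, Subgroup.coe_pow, Subgroup.coe_one, ← map_pow]
    have : w ^ 3 = 1 := by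
      show Multiplicative.ofAdd ((3 : ℕ) • Multiplicative.toAdd w) = 1
      rw [three_nsmul_eq_zero]
      rfl
    rw [this, map_one]

theorem main_aux (q : ℕ) (hq : Fintype.card F = q) (hq27 : 27 ≤ q) (hq3 : q % 3 = 0)
    (hq8 : q % 8 = 3) :
    {n : ℕ | n ∈ Set.range (orderOf : HH F → ℕ) ∧
      ∀ m ∈ Set.range (orderOf : HH F → ℕ), n ∣ m → m = n}
      = ({6, 9, q - 1, (q + 1) / 2} : Set ℕ) := by
  subst hq
  apply mu_eq
  · intro n hn
    simp only [Set.mem_insert_iff, Set.mem_singleton_iff] at hn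
    rcases hn with rfl | rfl | rfl | rfl
    · obtain ⟨h, hh⟩ := exists_order_six (F := F)
      exact ⟨h, hh⟩
    · obtain ⟨h, hh⟩ := exists_order_nine (F := F)
      exact ⟨h, hh⟩
    · obtain ⟨h, hh⟩ := exists_order_sub_one (F := F) hq8
      exact ⟨h, hh⟩
    · obtain ⟨h, hh⟩ := exists_order_half (F := F) hq8
      exact ⟨h, hh⟩
  · rintro n ⟨h, rfl⟩
    rcases order_dvd hq8 h with h1 | h1 | h1 | h1
    · exact ⟨6, by simp, h1⟩
    · exact ⟨9, by simp, h1⟩
    · exact ⟨Fintype.card F - 1, by simp, h1⟩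
    · exact ⟨(Fintype.card F + 1) / 2, by simp, h1⟩
  · exact tops_anti _ hq27 hq3 hq8

end Final


/-- Let q = 3^α with α ≥ 3 odd. There is a finite group H having a non-trivial normal 3-subgroup and whose element orders maximal under divisibility are exactly 6, 9, q − 1 and (q + 1)/2. -/
theorem result (α : ℕ) (hα : 3 ≤ α) (hodd : Odd α) :
    ∃ (H : Type) (_ : Group H) (_ : Fintype H), (∃ P : Subgroup H, P.Normal ∧ P ≠ ⊥ ∧ IsPGroup 3 ↥P) ∧
      {n : ℕ | n ∈ Set.range (orderOf : H → ℕ) ∧ ∀ m ∈ Set.range (orderOf : H → ℕ), n ∣ m → m = n} = ({6, 9, 3 ^ α - 1, (3 ^ α + 1) / 2} : Set ℕ) := by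
  have hα0 : α ≠ 0 := by omega
  haveI : Fintype (GaloisField 3 α) := Fintype.ofFinite _
  have hcard : Fintype.card (GaloisField 3 α) = 3 ^ α := by
    rw [← Nat.card_eq_fintype_card, GaloisField.card 3 α hα0]
  have hq27 : 27 ≤ 3 ^ α := by
    calc 27 = 3 ^ 3 := by norm_num
      _ ≤ 3 ^ α := Nat.pow_le_pow_right (by norm_num) hα
  have hq3 : 3 ^ α % 3 = 0 := by
    obtain ⟨k, rfl⟩ : ∃ k, α = k + 1 := ⟨α - 1, by omega⟩
    rw [pow_succ]
    omega
  refine ⟨HH (GaloisField 3 α), inferInstance, Fintype.ofFinite _, exists_normal_three, ?_⟩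
  exact main_aux (3 ^ α) hcard hq27 hq3 (three_pow_mod_eight α hodd)


end Cfsg.Agent.S2515
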