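import Cfsg.Statements.S2516
-- import your own Cfsg.Agent.* helpers here

set_option autoImplicit false
open Cfsg

namespace Cfsg.Agent.S2516


section
variable {F : Type*} [Field F] {V : Type*} [AddCommGroup V] [Module F V] {G : Type*} [Group G]
  (ρ : Representation F G V)

theorem phi_apply (h : G) (v : Multiplicative V) :
    ((MulAutMultiplicative V).symm.toMonoidHom.comp
        ((DistribMulAction.toAddAut ((V →ₗ[F] V)ˣ) V).comp ρ.asGroupHom)) h v
      = Multiplicative.ofAdd (ρ h (Multiplicative.toAdd v)) := rfl

theorem pow_eq (x : Multiplicative V ⋊[(MulAutMultiplicative V).symm.toMonoidHom.comp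
        ((DistribMulAction.toAddAut ((V →ₗ[F] V)ˣ) V).comp ρ.asGroupHom)] G) (n : ℕ) :
    x ^ n = ⟨Multiplicative.ofAdd (∑ i ∈ Finset.range n, ((ρ x.right) ^ i) (Multiplicative.toAdd x.left)),
      x.right ^ n⟩ := by
  induction n with
  | zero =>
    rw [pow_zero, Finset.range_zero, Finset.sum_empty, pow_zero]
    rfl
  | succ n ih =>
    rw [pow_succ, ih]
    refine SemidirectProduct.ext ?_ ?_
    · show Multiplicative.ofAdd _ * ((MulAutMultiplicative V).symm.toMonoidHom.comp
        ((DistribMulAction.toAddAut ((V →ₗ[F] V)ˣ) V).comp ρ.asGroupHom)) (x.right ^ n) x.left = _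
      rw [phi_apply, ← ofAdd_add, Finset.sum_range_succ, map_pow]
    · show x.right ^ n * x.right = x.right ^ (n + 1)
      rw [pow_succ]

end


/-- Let F be a field of characteristic p > 0, V a non-zero finite-dimensional F-vector space, G a finite group and ρ a representation of G on V; form the semidirect product V ⋊ G. For g ∈ G of order k, the coset Vg contains an element of order pk if and only if the minimal polynomial of ρ(g) does not divide 1 + X + ⋯ + X^(k−1). -/
theorem result {F : Type*} [Field F] (p : ℕ) [Fact p.Prime] [CharP F p] {V : Type*} [AddCommGroup V] [Module F V] [FiniteDimensional F V] [Nontrivial V]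
    {G : Type*} [Group G] [Finite G] (ρ : Representation F G V) (g : G) :
    (∃ x : Multiplicative V ⋊[(MulAutMultiplicative V).symm.toMonoidHom.comp
        ((DistribMulAction.toAddAut ((V →ₗ[F] V)ˣ) V).comp ρ.asGroupHom)] G,
        x.right = g ∧ orderOf x = p * orderOf g) ↔
      ¬ (minpoly F (ρ g) ∣ ∑ i ∈ Finset.range (orderOf g), (Polynomial.X : Polynomial F) ^ i) := by
  have hp : p.Prime := Fact.out
  have hk : 0 < orderOf g := orderOf_pos g
  -- order of x in terms of N v
  have key : ∀ x : Multiplicative V ⋊[(MulAutMultiplicative V).symm.toMonoidHom.comp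
        ((DistribMulAction.toAddAut ((V →ₗ[F] V)ˣ) V).comp ρ.asGroupHom)] G, x.right = g →
      (orderOf x = p * orderOf g ↔
        (∑ i ∈ Finset.range (orderOf g), ((ρ g) ^ i) (Multiplicative.toAdd x.left)) ≠ 0) := by
    intro x hx
    have hdvd : orderOf g ∣ orderOf x := by
      have := orderOf_map_dvd (SemidirectProduct.rightHom (N := Multiplicative V) (G := G)
        (φ := (MulAutMultiplicative V).symm.toMonoidHom.comp
        ((DistribMulAction.toAddAut ((V →ₗ[F] V)ˣ) V).comp ρ.asGroupHom))) x
      rwa [SemidirectProduct.rightHom_eq_right, hx] at this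
    have hpow : orderOf (x ^ orderOf g) = orderOf x / orderOf g := by
      rw [orderOf_pow' x hk.ne', Nat.gcd_eq_right hdvd]
    have hxk : x ^ orderOf g = SemidirectProduct.inl (Multiplicative.ofAdd
        (∑ i ∈ Finset.range (orderOf g), ((ρ g) ^ i) (Multiplicative.toAdd x.left))) := by
      rw [pow_eq, hx, pow_orderOf_eq_one]
      rfl
    have hord : orderOf (x ^ orderOf g) = addOrderOf
        (∑ i ∈ Finset.range (orderOf g), ((ρ g) ^ i) (Multiplicative.toAdd x.left)) := by
      rw [hxk, orderOf_injective _ SemidirectProduct.inl_injective, orderOf_ofAdd_eq_addOrderOf]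
    have hmul : orderOf x = orderOf g * orderOf (x ^ orderOf g) := by
      rw [hpow, Nat.mul_div_cancel' hdvd]
    set w := ∑ i ∈ Finset.range (orderOf g), ((ρ g) ^ i) (Multiplicative.toAdd x.left) with hw
    constructor
    · intro h1 h0
      rw [hmul, hord, h0, addOrderOf_zero, mul_one] at h1
      have : p = 1 := by
        have h2 : orderOf g * 1 = orderOf g * p := by rw [mul_one, mul_comm]; exact h1
        exact (Nat.eq_of_mul_eq_mul_left hk h2).symm
      exact hp.one_lt.ne' this
    · intro h0
      have hpw : p • w = 0 := by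
        rw [← Nat.cast_smul_eq_nsmul F, CharP.cast_eq_zero, zero_smul]
      rw [hmul, hord, addOrderOf_eq_prime hpw h0, mul_comm]
  have haeval : Polynomial.aeval (ρ g) (∑ i ∈ Finset.range (orderOf g), (Polynomial.X : Polynomial F) ^ i)
      = ∑ i ∈ Finset.range (orderOf g), (ρ g) ^ i := by
    simp [map_sum]
  rw [minpoly.dvd_iff, haeval]
  constructor
  · rintro ⟨x, hx, hox⟩ hzero
    have := (key x hx).mp hox
    apply this
    rw [← LinearMap.sum_apply, hzero]
    simp
  · intro hne
    obtain ⟨v, hv⟩ : ∃ v, (∑ i ∈ Finset.range (orderOf g), (ρ g) ^ i) v ≠ 0 := by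
      by_contra hcon
      push Not at hcon
      apply hne
      ext v
      simpa using hcon v
    refine ⟨⟨Multiplicative.ofAdd v, g⟩, rfl, ?_⟩
    rw [key _ rfl]
    simpa [LinearMap.sum_apply] using hv


end Cfsg.Agent.S2516
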