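import Cfsg.Statements.S2518
import Cfsg.Agent.S1055
import Cfsg.Agent.S1059
import Cfsg.Agent.Lib.Helper42.G2ThreeMain
import Cfsg.Agent.Lib.Helper42.G2ThreePSL
import Cfsg.Agent.Lib.Helper42.G2ThreeTransport

set_option autoImplicit false
open Cfsg

namespace Cfsg.Agent.S2518

open Cfsg.Lie Cfsg.Agent.Lib.Helper42.G2Three

theorem exists_orderOf_iff {G H : Type*} [Group G] [Group H] (φ : G ≃* H) (n : ℕ) :
    (∃ x : G, orderOf x = n) ↔ ∃ y : H, orderOf y = n :=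
  ⟨fun ⟨x, hx⟩ => ⟨φ x, (MulEquiv.orderOf_eq φ x).trans hx⟩,
    fun ⟨y, hy⟩ => ⟨φ.symm y, (MulEquiv.orderOf_eq φ.symm y).trans hy⟩⟩

/-- the statement for the group over `ZMod 3` -/
theorem aux {E : Type*} [Field E] [Fintype E] (hE : Fintype.card E = 13)
    (hsimple : IsSimpleGroup ↥(chevG2.group (ZMod 3)))
    (hcard3 : Nat.card ↥(chevG2.group (ZMod 3)) = 3 ^ 6 * (3 ^ 2 - 1) * (3 ^ 6 - 1))
    (r s : ℕ) (hr : r.Prime) (hs : s.Prime) (hrs : r ≠ s) :
    (∃ x : ↥(chevG2.group (ZMod 3)), orderOf x = r * s) ↔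
      (∃ y : (Matrix.ProjectiveSpecialLinearGroup (Fin 2) E), orderOf y = r * s) := by
  obtain ⟨y6, hy6⟩ := psl_exists_six hE
  constructor
  · rintro ⟨x, hx⟩
    rcases pair_cases hcard3 hr hs hrs x hx with ⟨rfl, rfl⟩ | ⟨rfl, rfl⟩
    · exact ⟨y6, hy6⟩
    · exact ⟨y6, hy6⟩
  · rintro ⟨y, hy⟩
    rcases psl_pair hE hr hs hrs y hy with ⟨rfl, rfl⟩ | ⟨rfl, rfl⟩
    · exact ⟨g6, orderOf_g6⟩
    · exact ⟨g6, orderOf_g6⟩

/-- Let F₃ be the field with 3 elements and F₁₃ the field with 13 elements. The Chevalley group G₂(F₃) and PSL(2, F₁₃) have the same prime graph: the same prime divisors of their orders, and for distinct primes r, s an element of order rs in one iff in the other. -/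
theorem result {F : Type*} [Field F] [Fintype F] (hF : Fintype.card F = 3) {E : Type*} [Field E] [Fintype E] (hE : Fintype.card E = 13) :
    ((∀ r : ℕ, r.Prime → (r ∣ Nat.card ↥(Cfsg.Lie.chevG2.group F) ↔ r ∣ Nat.card (Matrix.ProjectiveSpecialLinearGroup (Fin 2) E))) ∧
      (∀ r s : ℕ, r.Prime → s.Prime → r ≠ s → ((∃ x : ↥(Cfsg.Lie.chevG2.group F), orderOf x = r * s) ↔ (∃ y : (Matrix.ProjectiveSpecialLinearGroup (Fin 2) E), orderOf y = r * s)))) := by
  classical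
  have e3 : ZMod 3 ≃+* F := ZMod.ringEquivOfPrime F Nat.prime_three hF
  have φ : ↥(chevG2.group (ZMod 3)) ≃* ↥(chevG2.group F) := groupEquiv chevG2 e3
  have hsimple : IsSimpleGroup ↥(chevG2.group (ZMod 3)) :=
    (Cfsg.Agent.S1055.result (F := ZMod 3) ⟨2, by decide, by decide⟩).1
  have hcard3 : Nat.card ↥(chevG2.group (ZMod 3)) = 3 ^ 6 * (3 ^ 2 - 1) * (3 ^ 6 - 1) :=
    Cfsg.Agent.S1059.result (F := ZMod 3) (q := 3) (ZMod.card 3)
  have hcardF : Nat.card ↥(chevG2.group F) = 3 ^ 6 * (3 ^ 2 - 1) * (3 ^ 6 - 1) :=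
    Cfsg.Agent.S1059.result hF
  constructor
  · intro r hr
    rw [hcardF, psl_card hE]
    exact prime_dvd_iff hr
  · intro r s hr hs hrs
    exact (exists_orderOf_iff φ (r * s)).symm.trans (aux hE hsimple hcard3 r s hr hs hrs)

end Cfsg.Agent.S2518
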