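import Cfsg.Statements.S2522
import Cfsg.Agent.Lib.Helper53.RegUnip.Main
import Cfsg.Agent.Lib.Helper53.RegUnip.Transv

set_option autoImplicit false
open Cfsg

namespace Cfsg.Agent.S2522

/-- Let K be a field with at least four elements (finite or infinite), n ≥ 3, and J ∈ GL(n, K) the regular unipotent matrix (ones on the diagonal and the superdiagonal, zeros elsewhere). Then every non-scalar g ∈ GL(n, K) with det g = 1 is a product of two GL(n, K)-conjugates of J. -/
theorem result {K : Type*} [Field K] (hK : 4 ≤ Cardinal.mk K) (n : ℕ) (hn : 3 ≤ n) (J g : GL (Fin n) K)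
    (hJ : ∀ i j : Fin n, (J : Matrix (Fin n) (Fin n) K) i j = if i = j then 1 else if j.val = i.val + 1 then 1 else 0)
    (hg : ¬ ∃ c : K, (g : Matrix (Fin n) (Fin n) K) = c • (1 : Matrix (Fin n) (Fin n) K))
    (hdet : (g : Matrix (Fin n) (Fin n) K).det = 1) :
    ∃ x y : GL (Fin n) K, g = (x * J * x⁻¹) * (y * J * y⁻¹) := by
  classical
  have hpos : 0 < n := by omega
  -- the factorisation into regular unipotent matrices
  obtain ⟨B, C, hBC, hB, hC⟩ : ∃ B C : Matrix (Fin n) (Fin n) K,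
      (g : Matrix (Fin n) (Fin n) K) = B * C ∧ Cfsg.Agent.Lib.Helper53.RegUnip.RegU B ∧
        Cfsg.Agent.Lib.Helper53.RegUnip.RegU C := by
    by_cases hR : Cfsg.Agent.Lib.Helper53.RegUnip.R1 ((g : Matrix (Fin n) (Fin n) K) - 1)
    · refine Cfsg.Agent.Lib.Helper53.RegUnip.transvection_case hn _ hR hdet ?_
      intro h1
      apply hg
      exact ⟨1, by rw [h1, one_smul]⟩
    · have hGP : Cfsg.Agent.Lib.Helper53.RegUnip.GP (g : Matrix (Fin n) (Fin n) K) := ⟨hR, hg⟩
      let v : Fin n → K := Pi.single ⟨0, hpos⟩ 1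
      have hv : v ≠ 0 := by
        intro h
        have := congrFun h ⟨0, hpos⟩
        simp [v] at this
      obtain ⟨B, C, hBC, hB, hC, hY, hX⟩ :=
        Cfsg.Agent.Lib.Helper53.RegUnip.tstar hK n (by omega) _ hdet hGP v v hv hv
      rw [Fintype.card_fin] at hB hC hY hX
      refine ⟨B, C, hBC, ⟨hB, ?_⟩, ⟨hC, ?_⟩⟩
      · intro h0
        apply hY
        rw [h0, Matrix.zero_mulVec]
      · intro h0
        apply hX
        rw [h0, Matrix.vecMul_zero]
  -- `J` is regular unipotent
  have hJm : (J : Matrix (Fin n) (Fin n) K) = 1 + Cfsg.Agent.Lib.Helper43.shiftMat n K := by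
    ext i j
    rw [hJ, Matrix.add_apply, Matrix.one_apply]
    simp only [Cfsg.Agent.Lib.Helper43.shiftMat, Matrix.of_apply]
    by_cases hij : i = j
    · subst hij
      rw [if_pos rfl, if_pos rfl, if_neg (by omega), add_zero]
    · rw [if_neg hij, if_neg hij, zero_add]
  have hJreg : Cfsg.Agent.Lib.Helper43.IsRegUnip (J : Matrix (Fin n) (Fin n) K) := by
    rw [hJm]
    exact Cfsg.Agent.Lib.Helper43.isRegUnip_one_add_shiftMat (by omega)
  obtain ⟨x, hx⟩ := Cfsg.Agent.Lib.Helper43.IsRegUnip.exists_conj (by omega) hJreg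
    (hB.isRegUnip (by omega))
  obtain ⟨y, hy⟩ := Cfsg.Agent.Lib.Helper43.IsRegUnip.exists_conj (by omega) hJreg
    (hC.isRegUnip (by omega))
  refine ⟨x, y, ?_⟩
  apply Units.ext
  have hxB : ((x * J * x⁻¹ : GL (Fin n) K) : Matrix (Fin n) (Fin n) K) = B := by
    rw [Units.val_mul, Units.val_mul, hx, Matrix.mul_assoc, ← Units.val_mul, mul_inv_cancel,
      Units.val_one, Matrix.mul_one]
  have hyC : ((y * J * y⁻¹ : GL (Fin n) K) : Matrix (Fin n) (Fin n) K) = C := by
    rw [Units.val_mul, Units.val_mul, hy, Matrix.mul_assoc, ← Units.val_mul, mul_inv_cancel,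
      Units.val_one, Matrix.mul_one]
  rw [Units.val_mul, hxB, hyC]
  exact hBC

end Cfsg.Agent.S2522
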