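import Cfsg.Statements.S2531
-- import your own Cfsg.Agent.* helpers here

set_option autoImplicit false
open Cfsg

namespace Cfsg.Agent.S2531


open Projectivization

section
variable {F : Type*} [Field F] {k : ℕ}

/-- the point has non-zero first coordinate -/
def Q0 (y : Projectivization F (Fin (k + 3) → F)) : Prop := y.rep 0 ≠ 0

theorem Q0_mk (v : Fin (k + 3) → F) (hv : v ≠ 0) : Q0 (mk F v hv) ↔ v 0 ≠ 0 := by
  obtain ⟨a, ha⟩ := exists_smul_eq_mk_rep F v hv
  unfold Q0
  rw [← ha]
  simp [Units.smul_def]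

theorem i1_ne_0 : (⟨1, by omega⟩ : Fin (k + 3)) ≠ 0 := by
  intro h; have := congrArg Fin.val h; simp at this
theorem i2_ne_0 : (⟨2, by omega⟩ : Fin (k + 3)) ≠ 0 := by
  intro h; have := congrArg Fin.val h; simp at this
theorem i1_ne_i2 : (⟨1, by omega⟩ : Fin (k + 3)) ≠ ⟨2, by omega⟩ := by
  intro h; have := congrArg Fin.val h; simp at this

/-- the basis vector e₀ -/
def e0 : Fin (k + 3) → F := Pi.single 0 1
def e1 : Fin (k + 3) → F := Pi.single ⟨1, by omega⟩ 1
def e2 : Fin (k + 3) → F := Pi.single ⟨2, by omega⟩ 1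

theorem e0_ne : (e0 : Fin (k + 3) → F) ≠ 0 := by
  intro h; have := congrFun h 0; simp [e0] at this

/-- the vectors spanning the line -/
def vec : Option F → (Fin (k + 3) → F)
  | none => e2
  | some t => e1 + t • e2

theorem vec_ne (o : Option F) : (vec o : Fin (k + 3) → F) ≠ 0 := by
  intro h
  cases o with
  | none =>
    have := congrFun h ⟨2, by omega⟩
    simp [vec, e2] at this
  | some t =>
    have := congrFun h ⟨1, by omega⟩
    simp [vec, e1, e2] at this

theorem vec_ne_a (o : Option F) :
    mk F (vec o : Fin (k + 3) → F) (vec_ne o) ≠ mk F e0 e0_ne := by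
  intro h
  rw [mk_eq_mk_iff] at h
  obtain ⟨c, hc⟩ := h
  cases o with
  | none =>
    have := congrFun hc ⟨2, by omega⟩
    simp [vec, e2, e0] at this
  | some t =>
    have := congrFun hc ⟨1, by omega⟩
    simp [vec, e1, e2, e0, i1_ne_i2, i1_ne_0] at this

theorem cons_ne (w : Fin (k + 2) → F) : (Fin.cons 1 w : Fin (k + 3) → F) ≠ 0 := by
  intro h; have := congrFun h 0; simp at this

/-- affine chart -/
def chart (w : Fin (k + 2) → F) : {y : Projectivization F (Fin (k + 3) → F) // Q0 y} :=
  ⟨mk F (Fin.cons 1 w) (cons_ne w), by rw [Q0_mk]; simp⟩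

theorem chart_bijective : Function.Bijective (chart : (Fin (k + 2) → F) → {y : Projectivization F (Fin (k + 3) → F) // Q0 y}) := by
  constructor
  · intro w w' h
    have h1 : mk F (Fin.cons 1 w : Fin (k + 3) → F) (cons_ne w) = mk F (Fin.cons 1 w') (cons_ne w') :=
      congrArg Subtype.val h
    rw [mk_eq_mk_iff] at h1
    obtain ⟨c, hc⟩ := h1
    have h0 := congrFun hc 0
    simp [Units.smul_def] at h0
    have hc1 : c = 1 := h0
    rw [hc1, one_smul] at hc
    exact ((Fin.cons_injective2 hc).2).symm
  · rintro ⟨y, hy⟩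
    induction y using Projectivization.ind with | h v hv =>
    rw [Q0_mk] at hy
    refine ⟨fun i => (v 0)⁻¹ * v i.succ, ?_⟩
    apply Subtype.ext
    show mk F (Fin.cons 1 (fun i => (v 0)⁻¹ * v i.succ) : Fin (k + 3) → F) _ = mk F v hv
    rw [mk_eq_mk_iff]
    refine ⟨Units.mk0 (v 0)⁻¹ (inv_ne_zero hy), ?_⟩
    ext i
    refine Fin.cases ?_ (fun j => ?_) i
    · simp [Units.smul_def, hy]
    · simp [Units.smul_def]

theorem card_Q0 [Finite F] : Nat.card {y : Projectivization F (Fin (k + 3) → F) // Q0 y} = Nat.card F ^ (k + 2) := by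
  rw [← Nat.card_congr (Equiv.ofBijective _ (chart_bijective (F := F) (k := k))), Nat.card_fun]
  simp


def lineVal (σ : F ≃+* F) (A B : F) : Option F → F
  | none => B
  | some t => A + σ t * B

theorem lineVal_none (σ : F ≃+* F) (A B : F) : lineVal σ A B none = B := rfl
theorem lineVal_some (σ : F ≃+* F) (A B : F) (t : F) : lineVal σ A B (some t) = A + σ t * B := rfl

theorem count_line [Fintype F] [DecidableEq F] (σ : F ≃+* F) (A B : F) :
    Fintype.card F ∣ (Finset.univ.filter (fun o : Option F => lineVal σ A B o ≠ 0)).card := by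
  classical
  have hq : 0 < Fintype.card F := Fintype.card_pos
  by_cases hB : B = 0
  · subst hB
    by_cases hA : A = 0
    · subst hA
      have : (Finset.univ.filter (fun o : Option F => lineVal σ 0 0 o ≠ 0)) = ∅ := by
        apply Finset.filter_eq_empty_iff.mpr
        intro o _
        cases o <;> simp [lineVal_none, lineVal_some]
      rw [this]; simp
    · have : (Finset.univ.filter (fun o : Option F => lineVal σ A 0 o ≠ 0)) = Finset.univ.map Function.Embedding.some := by
        ext o
        rw [Finset.mem_filter]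
        cases o <;> simp [lineVal_none, lineVal_some, hA]
      rw [this, Finset.card_map, Finset.card_univ]
  · have : (Finset.univ.filter (fun o : Option F => lineVal σ A B o ≠ 0)) =
        Finset.univ.erase (some (σ.symm (-A / B))) := by
      ext o
      rw [Finset.mem_filter]
      cases o with
      | none => simp [lineVal_none, hB]
      | some t =>
        simp only [Finset.mem_univ, true_and, lineVal_some, Finset.mem_erase, and_true,
          ne_eq, Option.some.injEq]
        rw [not_iff_not]
        constructor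
        · intro h
          have : σ t = -A / B := by
            field_simp
            linear_combination h
          rw [← this]; simp
        · intro h
          rw [h]; simp; field_simp; ring
    rw [this, Finset.card_erase_of_mem (Finset.mem_univ _), Finset.card_univ, Fintype.card_option]
    simp


end


section
variable {F : Type*} [Field F] {k : ℕ} [Fintype (Projectivization F (Fin (k + 3) → F))]
  [DecidableEq (Projectivization F (Fin (k + 3) → F))]
  (S : Set (Equiv.Perm (Projectivization F (Fin (k + 3) → F))))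
  [DecidablePred (· ∈ S)] [DecidablePred (Q0 : Projectivization F (Fin (k + 3) → F) → Prop)]

theorem claim1 (h : ∀ a b c d : Projectivization F (Fin (k + 3) → F), a ≠ b → c ≠ d →
        ∃! s, s ∈ S ∧ s a = c ∧ s b = d) (o : Option F) :
    ((Finset.univ.filter (fun s : Equiv.Perm (Projectivization F (Fin (k + 3) → F)) =>
        s ∈ S ∧ s (mk F e0 e0_ne) = mk F e0 e0_ne)).filter
      (fun s => Q0 (s (mk F (vec o) (vec_ne o))))).card =
    (Finset.univ.filter (fun y : Projectivization F (Fin (k + 3) → F) => Q0 y ∧ y ≠ mk F e0 e0_ne)).card := by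
  have hcpt := vec_ne_a (F := F) (k := k) o
  apply Finset.card_bij (fun s _ => s (mk F (vec o) (vec_ne o)))
  · intro s hs
    rw [Finset.mem_filter, Finset.mem_filter] at hs
    rw [Finset.mem_filter]
    refine ⟨Finset.mem_univ _, hs.2, ?_⟩
    intro hsa
    apply hcpt
    apply s.injective
    rw [hsa, hs.1.2.2]
  · intro s₁ hs₁ s₂ hs₂ h12
    rw [Finset.mem_filter, Finset.mem_filter] at hs₁ hs₂
    have hne : mk F e0 e0_ne ≠ s₁ (mk F (vec o) (vec_ne o)) := by
      intro hsa
      apply hcpt
      apply s₁.injective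
      rw [← hsa, hs₁.1.2.2]
    obtain ⟨s₀, _, huniq⟩ := h _ _ _ _ hcpt.symm hne
    rw [huniq s₁ ⟨hs₁.1.2.1, hs₁.1.2.2, rfl⟩, huniq s₂ ⟨hs₂.1.2.1, hs₂.1.2.2, h12.symm⟩]
  · intro b hb
    rw [Finset.mem_filter] at hb
    obtain ⟨s₀, hs₀, _⟩ := h _ _ _ b hcpt.symm hb.2.2.symm
    refine ⟨s₀, ?_, hs₀.2.2⟩
    rw [Finset.mem_filter, Finset.mem_filter]
    exact ⟨⟨Finset.mem_univ _, hs₀.1, hs₀.2.1⟩, hs₀.2.2 ▸ hb.2.1⟩


theorem claim2 [Fintype F] [DecidableEq F] (s : Equiv.Perm (Projectivization F (Fin (k + 3) → F)))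
    (hs : ∃ (σ : F ≃+* F) (f : (Fin (k + 3) → F) →ₛₗ[(σ : F →+* F)] (Fin (k + 3) → F)) (hf : Function.Injective f),
      ∀ x, s x = Projectivization.map f hf x) :
    Fintype.card F ∣ (Finset.univ.filter (fun o : Option F => Q0 (s (mk F (vec o) (vec_ne o))))).card := by
  obtain ⟨σ, f, hf, hsf⟩ := hs
  have hQ : ∀ o : Option F, Q0 (s (mk F (vec o) (vec_ne o))) ↔ lineVal σ (f e1 0) (f e2 0) o ≠ 0 := by
    intro o
    rw [hsf, Projectivization.map_mk, Q0_mk]
    cases o with
    | none => rfl
    | some t =>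
      rw [lineVal_some]
      show f (e1 + t • e2) 0 ≠ 0 ↔ _
      rw [map_add, map_smulₛₗ]
      simp
  have := count_line σ (f e1 0) (f e2 0)
  convert this using 2
  ext o
  simp only [Finset.mem_filter, Finset.mem_univ, true_and]
  exact hQ o

theorem card_Bf [Fintype F] :
    (Finset.univ.filter (fun y : Projectivization F (Fin (k + 3) → F) => Q0 y ∧ y ≠ mk F e0 e0_ne)).card
      = Fintype.card F ^ (k + 2) - 1 := by
  have h1 : (Finset.univ.filter (fun y : Projectivization F (Fin (k + 3) → F) => Q0 y ∧ y ≠ mk F e0 e0_ne))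
      = (Finset.univ.filter (fun y : Projectivization F (Fin (k + 3) → F) => Q0 y)).erase (mk F e0 e0_ne) := by
    ext y
    simp only [Finset.mem_filter, Finset.mem_univ, true_and, Finset.mem_erase]
    tauto
  have ha0 : Q0 (mk F (e0 : Fin (k + 3) → F) e0_ne) := by
    rw [Q0_mk]
    simp [e0]
  rw [h1, Finset.card_erase_of_mem (by simp [ha0]), ← Fintype.card_subtype,
    ← Nat.card_eq_fintype_card, card_Q0, Nat.card_eq_fintype_card]

end

theorem arith (q k : ℕ) (hq : 2 ≤ q) (h : q ∣ (q + 1) * (q ^ (k + 2) - 1)) : False := by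
  have hcop1 : Nat.Coprime q (q + 1) := by simp
  have hpos : 1 ≤ q ^ (k + 2) := Nat.one_le_pow _ _ (by omega)
  have hcop2 : Nat.Coprime q (q ^ (k + 2) - 1) := by
    have h3 : Nat.Coprime (q ^ (k + 2)) (q ^ (k + 2) - 1) := by
      rw [Nat.coprime_self_sub_right hpos]
      exact Nat.coprime_one_right _
    exact Nat.Coprime.coprime_dvd_left (dvd_pow_self _ (by omega)) h3
  have := Nat.Coprime.eq_one_of_dvd (Nat.Coprime.mul_right hcop1 hcop2) h
  omega

theorem main3 {F : Type*} [Field F] [Finite F]
    (k : ℕ) (S : Set (Equiv.Perm (Projectivization F (Fin (k + 3) → F))))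
    (hS : ∀ s ∈ S, ∃ (σ : F ≃+* F) (f : (Fin (k + 3) → F) →ₛₗ[(σ : F →+* F)] (Fin (k + 3) → F)) (hf : Function.Injective f),
      ∀ x, s x = Projectivization.map f hf x) :
    ¬ (∀ a b c d : Projectivization F (Fin (k + 3) → F), a ≠ b → c ≠ d →
        ∃! s, s ∈ S ∧ s a = c ∧ s b = d) := by
  classical
  intro h
  have : Fintype F := Fintype.ofFinite F
  have : Fintype (Projectivization F (Fin (k + 3) → F)) := Fintype.ofFinite _
  have hdc := Finset.sum_card_bipartiteAbove_eq_sum_card_bipartiteBelow
    (s := Finset.univ.filter (fun s : Equiv.Perm (Projectivization F (Fin (k + 3) → F)) =>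
        s ∈ S ∧ s (mk F e0 e0_ne) = mk F e0 e0_ne))
    (t := (Finset.univ : Finset (Option F)))
    (fun s o => Q0 (s (mk F (vec o) (vec_ne o))))
  have hdvd : Fintype.card F ∣ ∑ s ∈ Finset.univ.filter (fun s : Equiv.Perm (Projectivization F (Fin (k + 3) → F)) =>
        s ∈ S ∧ s (mk F e0 e0_ne) = mk F e0 e0_ne),
      (Finset.univ.filter (fun o : Option F => Q0 (s (mk F (vec o) (vec_ne o))))).card := by
    apply Finset.dvd_sum
    intro s hs
    rw [Finset.mem_filter] at hs
    exact claim2 s (hS s hs.2.1)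
  unfold Finset.bipartiteAbove Finset.bipartiteBelow at hdc
  rw [hdc, Finset.sum_congr rfl (fun o _ => claim1 S h o), Finset.sum_const, Finset.card_univ,
    Fintype.card_option, smul_eq_mul, card_Bf] at hdvd
  exact arith _ k Fintype.one_lt_card hdvd



/-- Let `F` be a finite field and `n ≥ 3`. No set of permutations of the points of the projective space of `Fⁿ`, each induced by an invertible semilinear transformation of `Fⁿ` (so a subset of the full projective semilinear group), is sharply 2-transitive on the points: it is impossible that for all pairs of distinct points `(a, b)` and `(c, d)` exactly one member of the set sends `a` to `c` and `b` to `d`. -/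
theorem result {F : Type*} [Field F] [Finite F]
    (n : ℕ) (hn : 3 ≤ n) (S : Set (Equiv.Perm (Projectivization F (Fin n → F))))
    (hS : ∀ s ∈ S, ∃ (σ : F ≃+* F) (f : (Fin n → F) →ₛₗ[(σ : F →+* F)] (Fin n → F)) (hf : Function.Injective f),
      ∀ x, s x = Projectivization.map f hf x) :
    ¬ (∀ a b c d : Projectivization F (Fin n → F), a ≠ b → c ≠ d →
        ∃! s, s ∈ S ∧ s a = c ∧ s b = d) := by
  obtain ⟨k, rfl⟩ : ∃ k, n = k + 3 := ⟨n - 3, by omega⟩
  exact main3 k S hS


end Cfsg.Agent.S2531
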