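import Cfsg.Statements.S2532
-- import your own Cfsg.Agent.* helpers here

set_option autoImplicit false
open Cfsg

namespace Cfsg.Agent.S2532


open Equiv

theorem exists_points {m : ℕ} (H : Subgroup (Equiv.Perm (Fin m))) (r : ℕ)
    (hm : Nat.card H * (2 ^ Nat.card H * r + 1) ≤ m) :
    ∃ (S : Subgroup H) (x : Fin r → Fin m), (∀ i, MulAction.stabilizer H (x i) = S) ∧
      ∀ i j, ∀ h : H, h • x i = x j → i = j := by
  classical
  have : Fintype (Subgroup H) := Fintype.ofFinite _
  have : Fintype (MulAction.orbitRel.Quotient H (Fin m)) := Fintype.ofFinite _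
  have : Fintype H := Fintype.ofFinite _
  set n := Nat.card H with hn
  have hnpos : 0 < n := Nat.card_pos
  -- card of subgroups ≤ 2^n
  have hsub : Fintype.card (Subgroup H) ≤ 2 ^ n := by
    have h1 : Fintype.card (Subgroup H) ≤ Fintype.card (Set H) :=
      Fintype.card_le_of_injective (fun K : Subgroup H => (K : Set H)) SetLike.coe_injective
    rw [Fintype.card_set] at h1
    rw [hn, Nat.card_eq_fintype_card]
    exact h1
  -- m ≤ n * card Ω
  have hsurj : Function.Surjective (fun p : H × MulAction.orbitRel.Quotient H (Fin m) => p.1 • p.2.out) := by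
    intro y
    have h1 : (Quotient.mk'' y : MulAction.orbitRel.Quotient H (Fin m)).out ∈ MulAction.orbit H y := by
      have := Quotient.mk_out (s := MulAction.orbitRel H (Fin m)) y
      exact this
    obtain ⟨h, hh⟩ := h1
    refine ⟨(h⁻¹, Quotient.mk'' y), ?_⟩
    simp only
    rw [← hh, inv_smul_smul]
  have hcard : m ≤ n * Fintype.card (MulAction.orbitRel.Quotient H (Fin m)) := by
    have := Fintype.card_le_of_surjective _ hsurj
    rw [Fintype.card_fin, Fintype.card_prod, ← Nat.card_eq_fintype_card] at this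
    exact this
  have hΩ : Fintype.card (Subgroup H) * r < Fintype.card (MulAction.orbitRel.Quotient H (Fin m)) := by
    have h1 : n * (2 ^ n * r + 1) ≤ n * Fintype.card (MulAction.orbitRel.Quotient H (Fin m)) := hm.trans hcard
    have h2 : 2 ^ n * r + 1 ≤ Fintype.card (MulAction.orbitRel.Quotient H (Fin m)) :=
      Nat.le_of_mul_le_mul_left h1 hnpos
    calc Fintype.card (Subgroup H) * r ≤ 2 ^ n * r := Nat.mul_le_mul_right r hsub
      _ < _ := h2
  obtain ⟨S, hS⟩ := Fintype.exists_lt_card_fiber_of_mul_lt_card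
    (fun ω : MulAction.orbitRel.Quotient H (Fin m) => MulAction.stabilizer H ω.out) hΩ
  -- embedding of Fin r in the fiber
  have hle : Fintype.card (Fin r) ≤ Fintype.card {ω : MulAction.orbitRel.Quotient H (Fin m) // MulAction.stabilizer H ω.out = S} := by
    rw [Fintype.card_fin, Fintype.card_subtype]
    exact hS.le
  obtain ⟨e⟩ := Function.Embedding.nonempty_of_card_le hle
  refine ⟨S, fun i => (e i).1.out, fun i => (e i).2, ?_⟩
  intro i j h hh
  simp only at hh
  apply e.injective
  apply Subtype.ext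
  have h1 : (Quotient.mk'' ((e i).1.out) : MulAction.orbitRel.Quotient H (Fin m)) = Quotient.mk'' ((e j).1.out) := by
    apply Quotient.sound'
    show (e i).1.out ∈ MulAction.orbit H ((e j).1.out)
    refine ⟨h⁻¹, ?_⟩
    simp only
    rw [← hh, inv_smul_smul]
  rw [Quotient.out_eq', Quotient.out_eq'] at h1
  exact h1


section
variable {m r : ℕ} (H : Subgroup (Equiv.Perm (Fin m))) (S : Subgroup H) (x : Fin r → Fin m)
  (hS : ∀ i, MulAction.stabilizer H (x i) = S)

/-- the map `(hS, i) ↦ h • x i` -/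
def iota (p : (H ⧸ S) × Fin r) : Fin m :=
  Quotient.liftOn' p.1 (fun h => h • x p.2) (by
    intro h₁ h₂ h12
    rw [QuotientGroup.leftRel_apply] at h12
    have h3 : h₁⁻¹ * h₂ ∈ MulAction.stabilizer H (x p.2) := by rw [hS]; exact h12
    rw [MulAction.mem_stabilizer_iff, mul_smul] at h3
    show h₁ • x p.2 = h₂ • x p.2
    exact (inv_smul_eq_iff.mp h3).symm)

theorem iota_mk (h : H) (i : Fin r) : iota H S x hS ((h : H ⧸ S), i) = h • x i := rfl

theorem iota_injective (hx : ∀ i j, ∀ h : H, h • x i = x j → i = j) :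
    Function.Injective (iota H S x hS) := by
  rintro ⟨q₁, i⟩ ⟨q₂, j⟩ h12
  induction q₁ using QuotientGroup.induction_on with | H h₁ =>
  induction q₂ using QuotientGroup.induction_on with | H h₂ =>
  rw [iota_mk, iota_mk] at h12
  have h3 : (h₂⁻¹ * h₁) • x i = x j := by
    rw [mul_smul, h12, inv_smul_smul]
  have hij : i = j := hx i j _ h3
  subst hij
  have h4 : h₂⁻¹ * h₁ ∈ S := by
    rw [← hS i, MulAction.mem_stabilizer_iff]
    exact h3
  have h5 : (h₁ : H ⧸ S) = (h₂ : H ⧸ S) := by
    rw [eq_comm, QuotientGroup.eq]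
    exact h4
  rw [h5]

end

theorem exists_hom {m r : ℕ} (H : Subgroup (Equiv.Perm (Fin m))) (S : Subgroup H) (x : Fin r → Fin m)
    (hS : ∀ i, MulAction.stabilizer H (x i) = S) (hx : ∀ i j, ∀ h : H, h • x i = x j → i = j) :
    ∃ Ψ : Equiv.Perm (Fin r) →* Equiv.Perm (Fin m), Function.Injective Ψ ∧
      (∃ d : ℕ, ∀ σ, Equiv.Perm.sign (Ψ σ) = Equiv.Perm.sign σ ^ d) ∧
      ∀ σ, ∀ h ∈ H, h * Ψ σ = Ψ σ * h := by
  classical
  have : Fintype (H ⧸ S) := Fintype.ofFinite _
  let ι : (H ⧸ S) × Fin r ↪ Fin m := ⟨iota H S x hS, iota_injective H S x hS hx⟩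
  let P : Equiv.Perm (Fin r) →* Equiv.Perm ((H ⧸ S) × Fin r) :=
    { toFun := fun σ => Equiv.prodCongrRight (fun _ => σ)
      map_one' := by ext p <;> simp
      map_mul' := by intro a b; ext p <;> simp }
  have hP : ∀ σ p, P σ p = (p.1, σ p.2) := fun σ p => rfl
  refine ⟨(Equiv.Perm.viaEmbeddingHom ι).comp P, ?_, ⟨Fintype.card (H ⧸ S), ?_⟩, ?_⟩
  · apply (Equiv.Perm.viaEmbeddingHom_injective ι).comp
    intro σ τ hστ
    ext i
    have := congrArg (fun f : Equiv.Perm ((H ⧸ S) × Fin r) => (f (((1 : H) : H ⧸ S), i)).2) hστ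
    simp only [hP] at this
    rw [this]
  · intro σ
    rw [MonoidHom.comp_apply, Equiv.Perm.viaEmbeddingHom_apply]
    unfold Equiv.Perm.viaEmbedding
    rw [Equiv.Perm.sign_extendDomain]
    show Equiv.Perm.sign (Equiv.prodCongrRight (fun _ => σ)) = _
    rw [Equiv.Perm.sign_prodCongrRight]
    simp
  · intro σ h hh
    refine Equiv.ext fun y => ?_
    simp only [Equiv.Perm.coe_mul, Function.comp_apply, MonoidHom.comp_apply,
      Equiv.Perm.viaEmbeddingHom_apply]
    by_cases hy : y ∈ Set.range ι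
    · obtain ⟨⟨q, i⟩, rfl⟩ := hy
      induction q using QuotientGroup.induction_on with | H h₁ =>
      have e1 : h (ι ((h₁ : H ⧸ S), i)) = ι (((⟨h, hh⟩ * h₁ : H) : H ⧸ S), i) := by
        show h (iota H S x hS ((h₁ : H ⧸ S), i)) = iota H S x hS (((⟨h, hh⟩ * h₁ : H) : H ⧸ S), i)
        rw [iota_mk, iota_mk, mul_smul]
        rfl
      rw [Equiv.Perm.viaEmbedding_apply, e1, Equiv.Perm.viaEmbedding_apply, hP, hP]
      show h (iota H S x hS ((h₁ : H ⧸ S), σ i)) = iota H S x hS (((⟨h, hh⟩ * h₁ : H) : H ⧸ S), σ i)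
      rw [iota_mk, iota_mk, mul_smul]
      rfl
    · have hy' : h y ∉ Set.range ι := by
        rintro ⟨⟨q, i⟩, hq⟩
        apply hy
        induction q using QuotientGroup.induction_on with | H h₁ =>
        refine ⟨(((⟨h, hh⟩⁻¹ * h₁ : H) : H ⧸ S), i), ?_⟩
        show iota H S x hS (((⟨h, hh⟩⁻¹ * h₁ : H) : H ⧸ S), i) = y
        have hq' : h₁ • x i = h y := hq
        rw [iota_mk, mul_smul, hq']
        show h⁻¹ (h y) = y
        simp
      rw [Equiv.Perm.viaEmbedding_apply_of_notMem _ _ _ hy,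
        Equiv.Perm.viaEmbedding_apply_of_notMem _ _ _ hy']


/-- There is a function `f` of two natural-number arguments such that, whenever `m ≥ f(n, r)`, every subgroup of order `n` of the alternating group of degree `m` centralizes some subgroup of that alternating group isomorphic to the alternating group of degree `r`. -/
theorem result :
    ∃ f : ℕ → ℕ → ℕ, ∀ (m r : ℕ) (H : Subgroup ↥(alternatingGroup (Fin m))), f (Nat.card H) r ≤ m →
      ∃ K : Subgroup ↥(alternatingGroup (Fin m)), Nonempty (↥K ≃* ↥(alternatingGroup (Fin r))) ∧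
        K ≤ Subgroup.centralizer (H : Set ↥(alternatingGroup (Fin m))) := by
  refine ⟨fun n r => n * (2 ^ n * r + 1), ?_⟩
  intro m r H hm
  set H' : Subgroup (Equiv.Perm (Fin m)) := H.map (alternatingGroup (Fin m)).subtype with hH'
  have hcard : Nat.card H' = Nat.card H :=
    Subgroup.card_map_of_injective (Subgroup.subtype_injective _)
  obtain ⟨S, x, hS, hx⟩ := exists_points H' r (by rw [hcard]; exact hm)
  obtain ⟨Ψ, hinj, ⟨d, hsign⟩, hcomm⟩ := exists_hom H' S x hS hx
  have hmem : ∀ σ : alternatingGroup (Fin r), (Ψ.comp (alternatingGroup (Fin r)).subtype) σ ∈ alternatingGroup (Fin m) := by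
    intro σ
    rw [Equiv.Perm.mem_alternatingGroup, MonoidHom.comp_apply, hsign]
    have := Equiv.Perm.mem_alternatingGroup.mp σ.2
    rw [Subgroup.subtype_apply, this, one_pow]
  let Φ : alternatingGroup (Fin r) →* alternatingGroup (Fin m) :=
    (Ψ.comp (alternatingGroup (Fin r)).subtype).codRestrict (alternatingGroup (Fin m)) hmem
  have hΦinj : Function.Injective Φ := by
    rw [MonoidHom.injective_codRestrict]
    exact hinj.comp (Subgroup.subtype_injective _)
  refine ⟨Φ.range, ⟨(MonoidHom.ofInjective hΦinj).symm⟩, ?_⟩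
  rintro _ ⟨σ, rfl⟩
  rw [Subgroup.mem_centralizer_iff]
  intro h hh
  apply Subtype.ext
  show (h : Equiv.Perm (Fin m)) * Ψ σ = Ψ σ * (h : Equiv.Perm (Fin m))
  apply hcomm
  exact ⟨h, hh, rfl⟩


end Cfsg.Agent.S2532
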