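import Cfsg.Statements.S2533
-- import your own Cfsg.Agent.* helpers here

set_option autoImplicit false
open Cfsg

namespace Cfsg.Agent.S2533


open Matrix



section
variable {K : Type*} [Field K] {n : ℕ}

/-- the matrix `X = [I; 0]` -/
def X : Matrix (Fin (n + 1)) (Fin n) K := Matrix.of fun i j => if i = j.castSucc then 1 else 0
/-- the matrix `Y = [0; I]` -/
def Y : Matrix (Fin (n + 1)) (Fin n) K := Matrix.of fun i j => if i = j.succ then 1 else 0

theorem mul_X (D : Matrix (Fin (n + 1)) (Fin (n + 1)) K) (i : Fin (n + 1)) (j : Fin n) :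
    (D * (X : Matrix (Fin (n + 1)) (Fin n) K)) i j = D i j.castSucc := by
  simp [Matrix.mul_apply, X]

theorem mul_Y (D : Matrix (Fin (n + 1)) (Fin (n + 1)) K) (i : Fin (n + 1)) (j : Fin n) :
    (D * (Y : Matrix (Fin (n + 1)) (Fin n) K)) i j = D i j.succ := by
  simp [Matrix.mul_apply, Y]

theorem X_mul_castSucc (A : Matrix (Fin n) (Fin n) K) (i j : Fin n) :
    ((X : Matrix (Fin (n + 1)) (Fin n) K) * A) i.castSucc j = A i j := by
  simp [Matrix.mul_apply, X, Fin.castSucc_inj]

theorem X_mul_last (A : Matrix (Fin n) (Fin n) K) (j : Fin n) :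
    ((X : Matrix (Fin (n + 1)) (Fin n) K) * A) (Fin.last n) j = 0 := by
  simp only [Matrix.mul_apply, X, Matrix.of_apply]
  apply Finset.sum_eq_zero
  intro l _
  rw [if_neg (Fin.castSucc_lt_last l).ne', zero_mul]

theorem Y_mul_succ (A : Matrix (Fin n) (Fin n) K) (i j : Fin n) :
    ((Y : Matrix (Fin (n + 1)) (Fin n) K) * A) i.succ j = A i j := by
  simp [Matrix.mul_apply, Y, Fin.succ_inj]

theorem Y_mul_zero (A : Matrix (Fin n) (Fin n) K) (j : Fin n) :
    ((Y : Matrix (Fin (n + 1)) (Fin n) K) * A) 0 j = 0 := by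
  simp only [Matrix.mul_apply, Y, Matrix.of_apply]
  apply Finset.sum_eq_zero
  intro l _
  rw [if_neg (Fin.succ_ne_zero l).symm, zero_mul]

end



theorem toeplitz {K : Type*} [Field K] (d : ℕ → ℕ → K) (n : ℕ)
    (F1 : ∀ k l, k < n → l < n → d (k + 1) (l + 1) = d k l)
    (F2 : ∀ l, l < n → d 0 (l + 1) = 0) (F3 : ∀ l, l < n → d n l = 0) :
    ∀ k l, k ≤ n → l ≤ n → d k l = if k = l then d 0 0 else 0 := by
  have S : ∀ j k l, k + j ≤ n → l + j ≤ n → d (k + j) (l + j) = d k l := by
    intro j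
    induction j with
    | zero => intro k l _ _; rfl
    | succ j ih =>
      intro k l hk hl
      rw [← add_assoc, ← add_assoc, F1 _ _ (by omega) (by omega)]
      exact ih k l (by omega) (by omega)
  intro k l hk hl
  rcases lt_trichotomy k l with h | h | h
  · rw [if_neg h.ne]
    have h1 := S k 0 (l - k) (by omega) (by omega)
    rw [zero_add, show l - k + k = l by omega] at h1
    rw [h1, show l - k = (l - k - 1) + 1 by omega]
    exact F2 _ (by omega)
  · subst h
    rw [if_pos rfl]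
    have h1 := S k 0 0 (by omega) (by omega)
    rw [zero_add] at h1
    exact h1
  · rw [if_neg h.ne']
    have h1 := S (n - k) k l (by omega) (by omega)
    rw [show k + (n - k) = n by omega] at h1
    rw [← h1]
    exact F3 _ (by omega)


section
variable {K : Type*} [Field K] {n : ℕ}

theorem commutant (A : Matrix (Fin n) (Fin n) K) (D : Matrix (Fin (n + 1)) (Fin (n + 1)) K)
    (hX : D * X = X * A) (hY : D * Y = Y * A) : ∃ c : K, A = c • 1 ∧ D = c • 1 := by
  have h1a : ∀ i j : Fin n, D i.castSucc j.castSucc = A i j := by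
    intro i j
    exact (mul_X D _ _).symm.trans ((congrFun (congrFun hX i.castSucc) j).trans (X_mul_castSucc A i j))
  have h1b : ∀ j : Fin n, D (Fin.last n) j.castSucc = 0 := by
    intro j
    exact (mul_X D _ _).symm.trans ((congrFun (congrFun hX (Fin.last n)) j).trans (X_mul_last A j))
  have h2a : ∀ i j : Fin n, D i.succ j.succ = A i j := by
    intro i j
    exact (mul_Y D _ _).symm.trans ((congrFun (congrFun hY i.succ) j).trans (Y_mul_succ A i j))
  have h2b : ∀ j : Fin n, D 0 j.succ = 0 := by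
    intro j
    exact (mul_Y D _ _).symm.trans ((congrFun (congrFun hY 0) j).trans (Y_mul_zero A j))
  let d : ℕ → ℕ → K := fun k l => if h : k < n + 1 ∧ l < n + 1 then D ⟨k, h.1⟩ ⟨l, h.2⟩ else 0
  have hd : ∀ i j : Fin (n + 1), d i.val j.val = D i j := by
    intro i j
    simp only [d]
    rw [dif_pos ⟨i.2, j.2⟩]
  have F1 : ∀ k l, k < n → l < n → d (k + 1) (l + 1) = d k l := by
    intro k l hk hl
    have e1 := hd (Fin.succ ⟨k, hk⟩) (Fin.succ ⟨l, hl⟩)
    have e2 := hd (Fin.castSucc ⟨k, hk⟩) (Fin.castSucc ⟨l, hl⟩)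
    simp only [Fin.val_succ, Fin.val_castSucc] at e1 e2
    rw [e1, e2, h2a, h1a]
  have F2 : ∀ l, l < n → d 0 (l + 1) = 0 := by
    intro l hl
    have e1 := hd 0 (Fin.succ ⟨l, hl⟩)
    simp only [Fin.val_succ, Fin.val_zero] at e1
    rw [e1, h2b]
  have F3 : ∀ l, l < n → d n l = 0 := by
    intro l hl
    have e1 := hd (Fin.last n) (Fin.castSucc ⟨l, hl⟩)
    simp only [Fin.val_last, Fin.val_castSucc] at e1
    rw [e1, h1b]
  have T := toeplitz d n F1 F2 F3
  have hD : D = (d 0 0) • (1 : Matrix (Fin (n + 1)) (Fin (n + 1)) K) := by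
    ext i j
    rw [← hd i j, T i.val j.val (by omega) (by omega)]
    simp [Matrix.one_apply, Fin.ext_iff]
  refine ⟨d 0 0, ?_, hD⟩
  ext i j
  rw [← h1a, hD]
  simp [Matrix.one_apply, Fin.ext_iff]

end

section
variable {K : Type*} [Field K] {n : ℕ}

/-- a third matrix -/
def Z : Matrix (Fin (n + 1)) (Fin n) K := Matrix.of fun i j => if i = Fin.last n ∧ j.val = 0 then 1 else 0

/-- the linear family -/
def Mv (v : Fin 3 → K) : Matrix (Fin (n + 1)) (Fin n) K := v 0 • X + v 1 • Y + v 2 • Z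

theorem Mv_add (v w : Fin 3 → K) : (Mv (v + w) : Matrix (Fin (n + 1)) (Fin n) K) = Mv v + Mv w := by
  simp only [Mv, Pi.add_apply, add_smul]
  abel

theorem Mv_neg (v : Fin 3 → K) : (Mv (-v) : Matrix (Fin (n + 1)) (Fin n) K) = -Mv v := by
  simp only [Mv, Pi.neg_apply, neg_smul]
  abel

theorem Mv_zero : (Mv (0 : Fin 3 → K) : Matrix (Fin (n + 1)) (Fin n) K) = 0 := by
  simp [Mv]

/-- unipotent block matrix -/
def Um (v : Fin 3 → K) : Matrix (Fin n ⊕ Fin (n + 1)) (Fin n ⊕ Fin (n + 1)) K :=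
  fromBlocks 1 0 (Mv v) 1

/-- the involution -/
def Tm : Matrix (Fin n ⊕ Fin (n + 1)) (Fin n ⊕ Fin (n + 1)) K :=
  fromBlocks 1 0 0 (-1)

theorem Um_mul (v w : Fin 3 → K) : (Um v * Um w : Matrix (Fin n ⊕ Fin (n + 1)) (Fin n ⊕ Fin (n + 1)) K) = Um (v + w) := by
  simp only [Um, fromBlocks_multiply, Mv_add]
  simp [add_comm]

theorem Um_zero : (Um 0 : Matrix (Fin n ⊕ Fin (n + 1)) (Fin n ⊕ Fin (n + 1)) K) = 1 := by
  simp [Um, Mv_zero]

theorem det_Um (v : Fin 3 → K) : (Um v : Matrix (Fin n ⊕ Fin (n + 1)) (Fin n ⊕ Fin (n + 1)) K).det = 1 := by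
  simp [Um]

theorem det_Tm (hn : Even (n + 1)) : (Tm : Matrix (Fin n ⊕ Fin (n + 1)) (Fin n ⊕ Fin (n + 1)) K).det = 1 := by
  simp [Tm, Matrix.det_neg, hn.neg_one_pow]

theorem Tm_mul_Tm : (Tm * Tm : Matrix (Fin n ⊕ Fin (n + 1)) (Fin n ⊕ Fin (n + 1)) K) = 1 := by
  simp [Tm, fromBlocks_multiply]

theorem Tm_Um_Tm (v : Fin 3 → K) :
    (Tm * Um v * Tm : Matrix (Fin n ⊕ Fin (n + 1)) (Fin n ⊕ Fin (n + 1)) K) = Um (-v) := by
  simp [Tm, Um, fromBlocks_multiply, Mv_neg]

theorem trace_Tm : (Tm : Matrix (Fin n ⊕ Fin (n + 1)) (Fin n ⊕ Fin (n + 1)) K).trace = -1 := by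
  simp [Tm, Matrix.trace, Fintype.sum_sum_type]


theorem scalar_of_commutes (h2 : (2 : K) ≠ 0)
    (g g' : Matrix (Fin n ⊕ Fin (n + 1)) (Fin n ⊕ Fin (n + 1)) K) (hg : g * g' = 1)
    (hT : ∃ r : K, g * Tm = r • (Tm * g)) (hU : ∀ v : Fin 3 → K, ∃ r : K, g * Um v = r • (Um v * g)) :
    ∃ c : K, g = c • 1 := by
  have hg' : g' * g = 1 := mul_eq_one_comm.mp hg
  -- Step 1: the scalar for Tm is 1
  obtain ⟨r, hr⟩ := hT
  have hr1 : r = 1 := by
    have h1 : g * Tm * g' = r • Tm := by
      rw [hr, Matrix.smul_mul, Matrix.mul_assoc, hg, Matrix.mul_one]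
    have h3 : (g * Tm * g').trace = (Tm : Matrix (Fin n ⊕ Fin (n + 1)) (Fin n ⊕ Fin (n + 1)) K).trace := by
      rw [Matrix.trace_mul_cycle, hg', Matrix.one_mul]
    rw [h1, Matrix.trace_smul, trace_Tm] at h3
    have : r * (-1) = -1 := h3
    linear_combination -this
  rw [hr1, one_smul] at hr
  -- Step 2: block form
  obtain ⟨A, B, C, D, rfl⟩ : ∃ A B C D, g = fromBlocks A B C D :=
    ⟨_, _, _, _, (Matrix.fromBlocks_toBlocks g).symm⟩
  have hB : B = 0 := by
    simp only [Tm, fromBlocks_multiply] at hr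
    have := (Matrix.fromBlocks_inj.mp hr).2.1
    simp at this
    have h3 : (2 : K) • B = 0 := by
      rw [two_smul]
      nth_rewrite 1 [← this]
      simp
    rcases smul_eq_zero.mp h3 with h | h
    · exact absurd h h2
    · exact h
  have hC : C = 0 := by
    simp only [Tm, fromBlocks_multiply] at hr
    have := (Matrix.fromBlocks_inj.mp hr).2.2.1
    simp at this
    have h3 : (2 : K) • C = 0 := by
      rw [two_smul]
      nth_rewrite 2 [this]
      simp
    rcases smul_eq_zero.mp h3 with h | h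
    · exact absurd h h2
    · exact h
  subst hB hC
  -- Step 3
  have hne : (fromBlocks A 0 0 D : Matrix (Fin n ⊕ Fin (n + 1)) (Fin n ⊕ Fin (n + 1)) K) ≠ 0 := by
    intro h0
    rw [h0, Matrix.zero_mul] at hg
    have := congrFun (congrFun hg (Sum.inr 0)) (Sum.inr 0)
    simp at this
  have key : ∀ v : Fin 3 → K, D * Mv v = Mv v * A := by
    intro v
    obtain ⟨r, hr⟩ := hU v
    simp only [Um, fromBlocks_multiply, Matrix.fromBlocks_smul] at hr
    have e := Matrix.fromBlocks_inj.mp hr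
    simp at e
    obtain ⟨e1, e2, e3⟩ := e
    by_cases hr1 : r = 1
    · rw [hr1, one_smul] at e2
      exact e2
    · exfalso
      apply hne
      have hA : A = 0 := by
        have : (1 - r) • A = 0 := by rw [sub_smul, one_smul, ← e1, sub_self]
        rcases smul_eq_zero.mp this with h | h
        · exact absurd (sub_eq_zero.mp h).symm hr1
        · exact h
      have hD : D = 0 := by
        have : (1 - r) • D = 0 := by rw [sub_smul, one_smul, ← e3, sub_self]
        rcases smul_eq_zero.mp this with h | h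
        · exact absurd (sub_eq_zero.mp h).symm hr1
        · exact h
      rw [hA, hD]
      simp
  have hX : D * X = X * A := by
    have := key (Pi.single 0 1)
    simpa [Mv] using this
  have hY : D * Y = Y * A := by
    have := key (Pi.single 1 1)
    simpa [Mv] using this
  obtain ⟨c, hA, hD⟩ := commutant A D hX hY
  refine ⟨c, ?_⟩
  rw [hA, hD, ← Matrix.fromBlocks_one, Matrix.fromBlocks_smul]
  simp

end

theorem Mv_injective {K : Type*} [Field K] {m : ℕ} (v : Fin 3 → K)
    (h : (Mv v : Matrix (Fin (m + 2 + 1)) (Fin (m + 2)) K) = 0) : v = 0 := by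
  have h0 := congrFun (congrFun h 0) 0
  have h1 := congrFun (congrFun h (Fin.succ 0)) 0
  have h2 := congrFun (congrFun h (Fin.last (m + 2))) 0
  have e1 : (Fin.last (m + 2) : Fin (m + 2 + 1)) ≠ 0 := by
    intro h; have := congrArg Fin.val h; simp at this
  have e2 : (1 : Fin (m + 2 + 1)) ≠ Fin.last (m + 2) := by
    intro h; have := congrArg Fin.val h; simp at this
  simp [Mv, X, Y, Z, e1.symm] at h0
  simp [Mv, X, Y, Z, e2] at h1
  simp [Mv, X, Y, Z, e1, e2.symm] at h2
  ext i
  fin_cases i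
  · exact h0
  · exact h1
  · exact h2

/-- hom from the group of order two determined by an involution -/
def homOfInvolution {G : Type*} [Group G] (x : G) (hx : x * x = 1) : ℤˣ →* G where
  toFun ε := if ε = 1 then 1 else x
  map_one' := by simp
  map_mul' a b := by
    rcases Int.units_eq_one_or a with ha | ha <;> rcases Int.units_eq_one_or b with hb | hb <;>
      subst ha <;> subst hb <;> simp [hx]

theorem homOfInvolution_one {G : Type*} [Group G] (x : G) (hx : x * x = 1) :
    homOfInvolution x hx 1 = 1 := by simp [homOfInvolution]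

theorem homOfInvolution_neg_one {G : Type*} [Group G] (x : G) (hx : x * x = 1) :
    homOfInvolution x hx (-1) = x := by
  simp [homOfInvolution]

/-- the inversion action of the group of order two on an abelian group -/
def invAct (N : Type*) [CommGroup N] : ℤˣ →* MulAut N :=
  homOfInvolution (MulEquiv.inv N) (by ext; simp)

/-- the abstract group of order `2 p ^ 3` -/
abbrev Hgrp (p : ℕ) : Type := Multiplicative (Fin 3 → ZMod p) ⋊[invAct (Multiplicative (Fin 3 → ZMod p))] ℤˣ

theorem card_Hgrp (p : ℕ) [Fact p.Prime] : Nat.card (Hgrp p) = 2 * p ^ 3 := by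
  rw [SemidirectProduct.card]
  simp [Nat.card_eq_fintype_card, mul_comm]

section
variable {p : ℕ} [Fact p.Prime] {n : ℕ}

/-- unipotent elements of SL -/
def Us (v : Fin 3 → ZMod p) : Matrix.SpecialLinearGroup (Fin n ⊕ Fin (n + 1)) (ZMod p) :=
  ⟨Um v, det_Um v⟩

/-- the involution in SL -/
def Ts (hn : Even (n + 1)) : Matrix.SpecialLinearGroup (Fin n ⊕ Fin (n + 1)) (ZMod p) :=
  ⟨Tm, det_Tm hn⟩

theorem Ts_mul_Ts (hn : Even (n + 1)) : (Ts hn * Ts hn : Matrix.SpecialLinearGroup (Fin n ⊕ Fin (n + 1)) (ZMod p)) = 1 := by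
  apply Subtype.ext
  exact Tm_mul_Tm

theorem Ts_inv (hn : Even (n + 1)) : (Ts hn : Matrix.SpecialLinearGroup (Fin n ⊕ Fin (n + 1)) (ZMod p))⁻¹ = Ts hn :=
  inv_eq_of_mul_eq_one_left (Ts_mul_Ts hn)

/-- the unipotent part as a hom -/
def fnN : Multiplicative (Fin 3 → ZMod p) →* Matrix.SpecialLinearGroup (Fin n ⊕ Fin (n + 1)) (ZMod p) where
  toFun v := Us (Multiplicative.toAdd v)
  map_one' := by
    apply Subtype.ext
    exact Um_zero
  map_mul' v w := by
    apply Subtype.ext
    exact (Um_mul _ _).symm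

/-- the hom from the abstract group to SL -/
def psi (hn : Even (n + 1)) : Hgrp p →* Matrix.SpecialLinearGroup (Fin n ⊕ Fin (n + 1)) (ZMod p) :=
  SemidirectProduct.lift fnN (homOfInvolution (Ts hn) (Ts_mul_Ts hn)) (by
    intro ε
    rcases Int.units_eq_one_or ε with h | h <;> subst h
    · ext v
      simp [invAct, homOfInvolution_one]
    · apply MonoidHom.ext
      intro v
      simp only [invAct, homOfInvolution_neg_one, MonoidHom.comp_apply, MulEquiv.coe_toMonoidHom,
        MulEquiv.inv_apply, MulAut.conj_apply, Ts_inv]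
      apply Subtype.ext
      show Um (Multiplicative.toAdd v⁻¹) = Tm * Um (Multiplicative.toAdd v) * Tm
      rw [Tm_Um_Tm]
      rfl)

theorem psi_inl (hn : Even (n + 1)) (v : Fin 3 → ZMod p) :
    psi (n := n) hn (SemidirectProduct.inl (Multiplicative.ofAdd v)) = Us v := by
  simp only [psi, SemidirectProduct.lift_inl]
  rfl

theorem psi_inr (hn : Even (n + 1)) :
    psi (p := p) (n := n) hn (SemidirectProduct.inr (-1)) = Ts hn := by
  simp [psi, homOfInvolution_neg_one]

end

section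
variable {p : ℕ} [Fact p.Prime] {m : ℕ}

theorem two_ne_zero_zmod (hp : p ≠ 2) : (2 : ZMod p) ≠ 0 := by
  intro h
  have h2 : ((2 : ℕ) : ZMod p) = 0 := by exact_mod_cast h
  rw [ZMod.natCast_eq_zero_iff] at h2
  have := (Nat.prime_dvd_prime_iff_eq (Fact.out : p.Prime) Nat.prime_two).mp h2
  exact hp this

/-- decomposition of elements of the abstract group -/
theorem Hgrp_cases (h : Hgrp p) : (∃ v : Fin 3 → ZMod p, h = SemidirectProduct.inl (Multiplicative.ofAdd v)) ∨
    (∃ v : Fin 3 → ZMod p, h = SemidirectProduct.inl (Multiplicative.ofAdd v) * SemidirectProduct.inr (-1)) := by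
  rcases Int.units_eq_one_or h.right with hr | hr
  · left
    refine ⟨Multiplicative.toAdd h.left, ?_⟩
    ext <;> simp [hr]
  · right
    refine ⟨Multiplicative.toAdd h.left, ?_⟩
    ext <;> simp [hr]

theorem coe_Us_mul_Ts (hn : Even (m + 2 + 1)) (v : Fin 3 → ZMod p) :
    ((Us v * Ts hn : Matrix.SpecialLinearGroup (Fin (m + 2) ⊕ Fin (m + 2 + 1)) (ZMod p)) :
      Matrix (Fin (m + 2) ⊕ Fin (m + 2 + 1)) (Fin (m + 2) ⊕ Fin (m + 2 + 1)) (ZMod p)) =
      fromBlocks 1 0 (Mv v) (-1) := by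
  rw [Matrix.SpecialLinearGroup.coe_mul]
  show Um v * Tm = _
  simp [Um, Tm, fromBlocks_multiply]

theorem ker_psi (hp : p ≠ 2) (hn : Even (m + 2 + 1)) (h : Hgrp p)
    (hh : psi (n := m + 2) hn h ∈ Subgroup.center (Matrix.SpecialLinearGroup (Fin (m + 2) ⊕ Fin (m + 2 + 1)) (ZMod p))) :
    h = 1 := by
  rw [Matrix.SpecialLinearGroup.mem_center_iff] at hh
  obtain ⟨r, _, hr⟩ := hh
  rcases Hgrp_cases h with ⟨v, rfl⟩ | ⟨v, rfl⟩
  · rw [psi_inl] at hr
    have h00 := congrFun (congrFun hr (Sum.inl 0)) (Sum.inl 0)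
    simp [Us, Um] at h00
    have hM : (Mv v : Matrix (Fin (m + 2 + 1)) (Fin (m + 2)) (ZMod p)) = 0 := by
      ext i j
      have := congrFun (congrFun hr (Sum.inr i)) (Sum.inl j)
      simp [Us, Um] at this
      exact this.symm
    rw [Mv_injective v hM]
    simp
  · exfalso
    rw [map_mul, psi_inl, psi_inr, coe_Us_mul_Ts] at hr
    have h00 := congrFun (congrFun hr (Sum.inl 0)) (Sum.inl 0)
    have h11 := congrFun (congrFun hr (Sum.inr 0)) (Sum.inr 0)
    simp at h00 h11
    apply two_ne_zero_zmod hp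
    rw [h00] at h11
    linear_combination h11

theorem centralizer_psi (hp : p ≠ 2) (hn : Even (m + 2 + 1))
    (g : Matrix.SpecialLinearGroup (Fin (m + 2) ⊕ Fin (m + 2 + 1)) (ZMod p))
    (hg : ∀ h : Hgrp p, ∃ z ∈ Subgroup.center (Matrix.SpecialLinearGroup (Fin (m + 2) ⊕ Fin (m + 2 + 1)) (ZMod p)),
      g * psi hn h = z * (psi hn h * g)) :
    g ∈ Subgroup.center (Matrix.SpecialLinearGroup (Fin (m + 2) ⊕ Fin (m + 2 + 1)) (ZMod p)) := by
  have hmat : ∀ h : Hgrp p, ∃ r : ZMod p, g.1 * (psi hn h).1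
      = r • ((psi hn h).1 * g.1) := by
    intro h
    obtain ⟨z, hz, hgz⟩ := hg h
    rw [Matrix.SpecialLinearGroup.mem_center_iff] at hz
    obtain ⟨r, _, hr⟩ := hz
    refine ⟨r, ?_⟩
    have := congrArg Subtype.val hgz
    simp only [Matrix.SpecialLinearGroup.coe_mul] at this
    rw [this, ← hr]
    simp [Matrix.smul_eq_diagonal_mul, Matrix.scalar_apply, Matrix.mul_assoc]
  have hgg : g.1 * (g⁻¹).1 = 1 := by
    rw [← Matrix.SpecialLinearGroup.coe_mul, mul_inv_cancel, Matrix.SpecialLinearGroup.coe_one]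
  obtain ⟨c, hc⟩ := scalar_of_commutes (two_ne_zero_zmod hp) g.1 _ hgg
    (by
      have := hmat (SemidirectProduct.inr (-1))
      rw [psi_inr] at this
      exact this)
    (by
      intro v
      have := hmat (SemidirectProduct.inl (Multiplicative.ofAdd v))
      rw [psi_inl] at this
      exact this)
  rw [Matrix.SpecialLinearGroup.mem_center_iff]
  refine ⟨c, ?_, ?_⟩
  · have hdet := g.2
    rw [hc, Matrix.det_smul, Matrix.det_one, mul_one] at hdet
    exact hdet
  · rw [hc]
    ext i j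
    simp [Matrix.scalar_apply, Matrix.diagonal_apply, Matrix.one_apply]

end




/-- reindexing isomorphism of special linear groups -/
def slReindex {ι κ K : Type*} [Fintype ι] [DecidableEq ι] [Fintype κ] [DecidableEq κ] [CommRing K]
    (e : ι ≃ κ) : Matrix.SpecialLinearGroup ι K ≃* Matrix.SpecialLinearGroup κ K where
  toFun A := ⟨Matrix.reindex e e A.1, by rw [Matrix.det_reindex_self]; exact A.2⟩
  invFun A := ⟨Matrix.reindex e.symm e.symm A.1, by rw [Matrix.det_reindex_self]; exact A.2⟩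
  left_inv A := by
    apply Subtype.ext
    ext i j
    simp
  right_inv A := by
    apply Subtype.ext
    ext i j
    simp
  map_mul' A B := by
    apply Subtype.ext
    show Matrix.reindex e e (A.1 * B.1) = Matrix.reindex e e A.1 * Matrix.reindex e e B.1
    simp only [Matrix.reindex_apply]
    rw [Matrix.submatrix_mul_equiv]

theorem mem_center_mulEquiv {G G' : Type*} [Group G] [Group G'] (f : G ≃* G') (x : G) :
    f x ∈ Subgroup.center G' ↔ x ∈ Subgroup.center G := by
  rw [Subgroup.mem_center_iff, Subgroup.mem_center_iff]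
  constructor
  · intro h g
    apply f.injective
    rw [map_mul, map_mul, h]
  · intro h g'
    obtain ⟨g, rfl⟩ := f.surjective g'
    rw [← map_mul, ← map_mul, h]

theorem final_abstract {H G G' : Type*} [Group H] [Group G] [Group G'] (ψ : H →* G) (f : G ≃* G')
    (hker : ∀ h, ψ h ∈ Subgroup.center G → h = 1)
    (hcent : ∀ g : G, (∀ h : H, ∃ z ∈ Subgroup.center G, g * ψ h = z * (ψ h * g)) →
      g ∈ Subgroup.center G) :
    Function.Injective ((QuotientGroup.mk' (Subgroup.center G')).comp (f.toMonoidHom.comp ψ)) ∧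
    Subgroup.centralizer
      (((QuotientGroup.mk' (Subgroup.center G')).comp (f.toMonoidHom.comp ψ)).range :
        Set (G' ⧸ Subgroup.center G')) = ⊥ := by
  constructor
  · rw [injective_iff_map_eq_one]
    intro h hh
    simp only [MonoidHom.comp_apply, QuotientGroup.mk'_apply, MulEquiv.coe_toMonoidHom,
      QuotientGroup.eq_one_iff] at hh
    rw [mem_center_mulEquiv] at hh
    exact hker h hh
  · rw [eq_bot_iff]
    intro x hx
    obtain ⟨g', rfl⟩ := QuotientGroup.mk_surjective x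
    rw [Subgroup.mem_bot, QuotientGroup.eq_one_iff]
    obtain ⟨g, rfl⟩ := f.surjective g'
    rw [mem_center_mulEquiv]
    apply hcent
    intro h
    rw [Subgroup.mem_centralizer_iff] at hx
    have h1 := hx _ ⟨h, rfl⟩
    simp only [MonoidHom.comp_apply, QuotientGroup.mk'_apply, MulEquiv.coe_toMonoidHom] at h1
    rw [← QuotientGroup.mk_mul, ← QuotientGroup.mk_mul, QuotientGroup.eq] at h1
    rw [← map_mul, ← map_mul, ← map_inv, ← map_mul, mem_center_mulEquiv] at h1
    refine ⟨_, h1, ?_⟩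
    rw [← Subgroup.mem_center_iff.mp h1 (ψ h * g)]
    simp only [mul_inv_cancel_left]



/-- For every odd prime `p` there is a finite group `H` of order `2p³` which, for infinitely many `n`, embeds in the projective special linear group `PSL(n, p)` as a subgroup with trivial centralizer. -/
theorem result
    (p : ℕ) [Fact p.Prime] (hp : p ≠ 2) :
    ∃ (H : Type) (_ : Group H) (_ : Finite H), Nat.card H = 2 * p ^ 3 ∧
      ∀ N : ℕ, ∃ n, N ≤ n ∧ ∃ φ : H →* Matrix.ProjectiveSpecialLinearGroup (Fin n) (ZMod p),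
        Function.Injective φ ∧ Subgroup.centralizer (φ.range : Set (Matrix.ProjectiveSpecialLinearGroup (Fin n) (ZMod p))) = ⊥ := by
  refine ⟨Hgrp p, inferInstance, ?_, card_Hgrp p, ?_⟩
  · apply Nat.finite_of_card_ne_zero
    rw [card_Hgrp]
    exact Nat.mul_ne_zero two_ne_zero (pow_ne_zero 3 (Fact.out : p.Prime).ne_zero)
  intro N
  have hn : Even (2 * N + 1 + 2 + 1) := ⟨N + 2, by ring⟩
  refine ⟨(2 * N + 1 + 2) + (2 * N + 1 + 2 + 1), by omega, ?_⟩
  obtain ⟨h1, h2⟩ := final_abstract (psi (p := p) (n := 2 * N + 1 + 2) hn) (slReindex finSumFinEquiv)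
    (fun h hh => ker_psi hp hn h hh) (fun g hg => centralizer_psi hp hn g hg)
  exact ⟨_, h1, h2⟩


end Cfsg.Agent.S2533
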