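-- Statement S2538: Hall subgroups of the alternating groups are the traces of the Hall subgroups of
-- the symmetric groups.  Proof: Cfsg.Agent.Lib.Helper71.HallAlt.star (induction on the degree).
import Cfsg.Statements.S2538
import Cfsg.Agent.Lib.Helper71.HallAltMain
import Cfsg.Agent.Lib.Helper71.HallAltBridge

set_option autoImplicit false
open Cfsg

namespace Cfsg.Agent.S2538

open Cfsg.Agent.Lib.Helper71.HallAlt Cfsg.Agent.Lib.Helper36.HallAlt

/-- For every `n` and every set of primes `π`, a subgroup of the alternating group of degree `n` is a Hall `π`-subgroup of it if and only if it is the intersection with the alternating group of some Hall `π`-subgroup of the symmetric group of degree `n`. -/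
theorem result (n : ℕ) (π : Set ℕ)
    (M : Subgroup ↥(alternatingGroup (Fin n))) :
    Cfsg.IsPiHall π M ↔ ∃ M₀ : Subgroup (Equiv.Perm (Fin n)), Cfsg.IsPiHall π M₀ ∧ M = M₀.subgroupOf (alternatingGroup (Fin n)) := by
  constructor
  · intro hM
    have hM' := (isPiHall_iff_isPiHallOf_map π (alternatingGroup (Fin n)) M).1 hM
    have hback : (M.map (alternatingGroup (Fin n)).subtype).subgroupOf (alternatingGroup (Fin n)) = M := by
      rw [Subgroup.subgroupOf,
        Subgroup.comap_map_eq_self_of_injective (alternatingGroup (Fin n)).subtype_injective]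
    by_cases h2 : 2 ∈ π
    · rcases Nat.lt_or_ge n 2 with hn | hn
      · -- the symmetric group is trivial
        have hsub : Subsingleton (Equiv.Perm (Fin n)) := by
          have : Subsingleton (Fin n) := by
            rw [← Fintype.card_le_one_iff_subsingleton, Fintype.card_fin]; omega
          infer_instance
        refine ⟨⊤, ⟨?_, ?_⟩, ?_⟩
        · intro p hp hd
          rw [Subgroup.card_top, Nat.card_eq_one_iff_unique.2 ⟨hsub, ⟨1⟩⟩] at hd
          exact absurd (Nat.le_of_dvd one_pos hd) (by have := hp.two_le; omega)
        · intro p hp _ hd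
          rw [Subgroup.index_top] at hd
          exact absurd (Nat.le_of_dvd one_pos hd) (by have := hp.two_le; omega)
        · have : Subsingleton ↥(alternatingGroup (Fin n)) := by
            constructor; intro a b; exact Subtype.ext (Subsingleton.elim _ _)
          ext g
          constructor
          · intro _; rw [Subgroup.mem_subgroupOf]; exact Subgroup.mem_top _
          · intro _
            have : g = 1 := Subsingleton.elim _ _
            rw [this]; exact M.one_mem
      · obtain ⟨K, hMK, hKπ, hKA⟩ :=
          star π h2 n hn (Fin n) (Fintype.card_fin n) _ hM'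
        obtain ⟨hKH, hKinf⟩ := hall_up π _ K hM' hMK hKπ hKA
        refine ⟨K, hKH, ?_⟩
        rw [← Subgroup.inf_subgroupOf_right, hKinf, hback]
    · exact ⟨_, hall_of_two_not_mem π _ hM' h2, hback.symm⟩
  · rintro ⟨M₀, hM₀, rfl⟩
    rw [isPiHall_iff_isPiHallOf_map, Subgroup.subgroupOf_map_subtype]
    exact hall_down π M₀ hM₀

end Cfsg.Agent.S2538
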