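-- Statement S2534: the alternating group `A_n` (`n ≥ 5`) is a `D_π`-group iff at most one prime of `π`
-- divides its order or all primes dividing its order lie in `π`.
-- Proof: (<=) Sylow / trivial; (=>) `D_π` gives a Hall `π`-subgroup `M` into which every `π`-subgroup can be
-- conjugated; `M = M₀ ∩ A_n` with `M₀` Hall in `S_n` (S2538, helper71), the classification of the Hall subgroups
-- of `S_n` (helper71 `main'`, (H8)) leaves three cases, each killed by an explicit `π`-subgroup of `A_n`.
import Cfsg.Statements.S2534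
import Cfsg.Agent.S2538
import Cfsg.Agent.Lib.Helper71.HallSymStruct
import Cfsg.Agent.Lib.Helper49.DPi
import Cfsg.Agent.Lib.Helper49.S2534Prime
import Cfsg.Agent.Lib.Helper49.S2534Small

set_option autoImplicit false
open Cfsg

namespace Cfsg.Agent.S2534

open Equiv Cfsg.Agent.Lib.Helper49.S2534 Cfsg.Agent.Lib.Helper49.DPi Cfsg.Agent.Lib.Helper71.HallSym

/-- the primes dividing `|A_n|` are the primes `≤ n` (`n ≥ 5`) -/
theorem prime_dvd_card_alt_iff {n : ℕ} (hn : 5 ≤ n) {r : ℕ} (hr : r.Prime) :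
    r ∣ Nat.card ↥(alternatingGroup (Fin n)) ↔ r ≤ n := by
  have : Nontrivial (Fin n) := Fin.nontrivial_iff_two_le.2 (by omega)
  have h2 : 2 * Nat.card ↥(alternatingGroup (Fin n)) = n.factorial := by
    rw [Nat.card_eq_fintype_card, two_mul_card_alternatingGroup, Fintype.card_perm, Fintype.card_fin]
  constructor
  · intro h
    have : r ∣ n.factorial := by rw [← h2]; exact Dvd.dvd.mul_left h 2
    exact (Nat.Prime.dvd_factorial hr).1 this
  · intro h
    have hrf : r ∣ n.factorial := (Nat.Prime.dvd_factorial hr).2 h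
    by_cases hr2 : r = 2
    · subst hr2
      have h4 : 4 ∣ n.factorial := Nat.dvd_factorial (by norm_num) (by omega)
      rw [← h2] at h4
      obtain ⟨k, hk⟩ := h4
      exact ⟨k, by omega⟩
    · rw [← h2] at hrf
      rcases (Nat.Prime.dvd_mul hr).1 hrf with h' | h'
      · exact absurd ((Nat.prime_dvd_prime_iff_eq hr Nat.prime_two).1 h') hr2
      · exact h'

/-- For `n ≥ 5` and a set of primes `π`, the alternating group of degree `n` satisfies the full Sylow analogue for `π` (its maximal `π`-subgroups are pairwise conjugate; for a finite group this says Hall `π`-subgroups exist, are all conjugate, and contain every `π`-subgroup up to conjugacy) if and only if either at most one prime of `π` divides its order or every prime dividing its order lies in `π`. -/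
theorem result (n : ℕ) (hn : 5 ≤ n) (π : Set ℕ) :
    Cfsg.IsDPiGroup π ↥(alternatingGroup (Fin n)) ↔
      ((∀ r s : ℕ, r.Prime → s.Prime → r ∈ π → s ∈ π → r ∣ Nat.card ↥(alternatingGroup (Fin n)) → s ∣ Nat.card ↥(alternatingGroup (Fin n)) → r = s) ∨
        ∀ r : ℕ, r.Prime → r ∣ Nat.card ↥(alternatingGroup (Fin n)) → r ∈ π) := by
  constructor
  · intro hD
    obtain ⟨M, hMhall, hMconj⟩ := exists_hall_of_isDPiGroup π hD
    obtain ⟨M₀, hM₀, rfl⟩ := (Cfsg.Agent.S2538.result n π M).1 hMhall
    -- every `π`-subgroup of `A_n` is conjugate into `M₀`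
    have hconj : ∀ K : Subgroup ↥(alternatingGroup (Fin n)), IsPiSubgroup π K →
        ∃ g : Perm (Fin n), ∀ k ∈ K, ∃ m ∈ M₀, (k : Perm (Fin n)) = g * m * g⁻¹ := by
      intro K hK
      obtain ⟨g, hg⟩ := hMconj K hK
      refine ⟨(g : Perm (Fin n)), fun k hk => ?_⟩
      obtain ⟨m, hm, hmk⟩ := Subgroup.mem_map.1 (hg hk)
      refine ⟨(m : Perm (Fin n)), Subgroup.mem_subgroupOf.1 hm, ?_⟩
      rw [← hmk]
      simp [MulAut.conj_apply]
    rcases main' π n (Fin n) (Fintype.card_fin n) M₀ hM₀ with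
      h1 | h2 | ⟨h3, y, hy⟩ | ⟨h7, h23, t, htc, ht⟩ | ⟨h8, h23, -⟩
    · left
      intro r s hr hs hrπ hsπ hrd hsd
      exact h1 r s hr hs hrπ hsπ ((prime_dvd_card_alt_iff hn hr).1 hrd)
        ((prime_dvd_card_alt_iff hn hs).1 hsd)
    · right
      intro r hr hrd
      exact h2 r hr ((prime_dvd_card_alt_iff hn hr).1 hrd)
    · -- `n` prime
      exfalso
      have hK := Kp_isPiSubgroup n hn π h3
      obtain ⟨g, hg⟩ := hconj (Kp n hn) hK
      obtain ⟨k, hk, hkz⟩ := Kp_no_fixed n hn (g y)
      obtain ⟨m, hm, hkm⟩ := hg k hk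
      apply hkz
      rw [hkm]
      simp [Perm.mul_apply, hy m hm]
    · -- `n = 7`
      exfalso
      subst h7
      have h2π : 2 ∈ π := (h23 2 Nat.prime_two (by norm_num)).2 (Or.inl rfl)
      have h3π : 3 ∈ π := (h23 3 Nat.prime_three (by norm_num)).2 (Or.inr rfl)
      have hK := isPiSubgroup_subgroupOf_of_pow_six K7 K7_pow_six π h2π h3π
      obtain ⟨g, hg⟩ := hconj _ hK
      have key : ∀ σ : Perm (Fin 7), σ ∈ K7 → Perm.sign σ = 1 →
          ∀ x ∈ t.map g.toEmbedding, σ x ∈ t.map g.toEmbedding := by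
        intro σ hσ hs x hx
        obtain ⟨m, hm, hσm⟩ := hg ⟨σ, Perm.mem_alternatingGroup.2 hs⟩ (Subgroup.mem_subgroupOf.2 hσ)
        obtain ⟨x0, hx0, rfl⟩ := Finset.mem_map.1 hx
        have hσ' : σ = g * m * g⁻¹ := hσm
        rw [hσ']
        simp only [Equiv.toEmbedding_apply, Perm.mul_apply, Perm.coe_inv, Equiv.symm_apply_apply]
        exact Finset.mem_map.2 ⟨m x0, ht m hm x0 hx0, rfl⟩
      exact no_invariant_three (t.map g.toEmbedding) (by rw [Finset.card_map, htc])
        ⟨key a7 a7_mem sign_a7, key b7 b7_mem sign_b7⟩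
    · -- `n = 8`
      exfalso
      subst h8
      have h2π : 2 ∈ π := (h23 2 Nat.prime_two (by norm_num)).2 (Or.inl rfl)
      have h3π : 3 ∈ π := (h23 3 Nat.prime_three (by norm_num)).2 (Or.inr rfl)
      obtain ⟨B, hBc, hB⟩ := hall_eight_partition π M₀ (Fintype.card_fin 8) hM₀ h23
      have hK := isPiSubgroup_subgroupOf_of_pow_six K8 K8_pow_six π h2π h3π
      obtain ⟨g, hg⟩ := hconj _ hK
      have key : ∀ σ : Perm (Fin 8), σ ∈ K8 → Perm.sign σ = 1 →
          (∀ x ∈ B.map g.toEmbedding, σ x ∈ B.map g.toEmbedding) ∨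
            (∀ x ∈ B.map g.toEmbedding, σ x ∉ B.map g.toEmbedding) := by
        intro σ hσ hs
        obtain ⟨m, hm, hσm⟩ := hg ⟨σ, Perm.mem_alternatingGroup.2 hs⟩ (Subgroup.mem_subgroupOf.2 hσ)
        have hσ' : σ = g * m * g⁻¹ := hσm
        rcases hB m hm with hBm | hBm
        · left
          intro x hx
          obtain ⟨x0, hx0, rfl⟩ := Finset.mem_map.1 hx
          rw [hσ']
          simp only [Equiv.toEmbedding_apply, Perm.mul_apply, Perm.coe_inv, Equiv.symm_apply_apply]
          refine Finset.mem_map.2 ⟨m x0, ?_, rfl⟩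
          rw [← hBm]
          exact Finset.mem_map.2 ⟨x0, hx0, rfl⟩
        · right
          intro x hx
          obtain ⟨x0, hx0, rfl⟩ := Finset.mem_map.1 hx
          rw [hσ']
          simp only [Equiv.toEmbedding_apply, Perm.mul_apply, Perm.coe_inv, Equiv.symm_apply_apply]
          intro hmem
          obtain ⟨z, hz, hgz⟩ := Finset.mem_map.1 hmem
          have hzm : z = m x0 := g.injective hgz
          have h1 : m x0 ∈ B.map m.toEmbedding := Finset.mem_map.2 ⟨x0, hx0, rfl⟩
          rw [hBm, Finset.mem_compl] at h1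
          exact h1 (hzm ▸ hz)
      exact no_invariant_partition (B.map g.toEmbedding) (by rw [Finset.card_map, hBc])
        ⟨key a8 a8_mem sign_a8, key b8 b8_mem sign_b8, key c8 c8_mem sign_c8⟩
  · rintro (h1 | h2)
    · exact isDPiGroup_of_le_one_prime π h1
    · exact isDPiGroup_of_all_primes π h2

end Cfsg.Agent.S2534
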