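-- Statement S2535: existence and conjugacy of Hall subgroups in symmetric and alternating groups.
-- Proof: the classification of Hall subgroups of S_n (Lib/Helper71/HallSym*) and S2538.
import Cfsg.Statements.S2535
import Cfsg.Agent.S2538
import Cfsg.Agent.Lib.Helper71.HallSymConj

set_option autoImplicit false
open Cfsg

namespace Cfsg.Agent.S2535

open Cfsg.Agent.Lib.Helper71.HallSym Cfsg.Agent.Lib.Helper49.HallAlt
open Cfsg.Agent.Lib.Helper92.HallSym

/-- conjugation by an element of a subgroup commutes with `subgroupOf` -/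
theorem subgroupOf_map_conj {G : Type*} [Group G] (A H : Subgroup G) (g : G) (hg : g ∈ A) :
    (H.map (MulAut.conj g).toMonoidHom).subgroupOf A =
      (H.subgroupOf A).map (MulAut.conj (⟨g, hg⟩ : A)).toMonoidHom := by
  ext a
  simp only [Subgroup.mem_subgroupOf, Subgroup.mem_map, MulEquiv.coe_toMonoidHom,
    MulAut.conj_apply]
  constructor
  · rintro ⟨m, hm, hma⟩
    have hmA : m ∈ A := by
      have : m = g⁻¹ * (a : G) * g := by rw [← hma]; group
      rw [this]
      exact A.mul_mem (A.mul_mem (A.inv_mem hg) a.2) hg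
    refine ⟨⟨m, hmA⟩, hm, ?_⟩
    apply Subtype.ext
    simp only [Subgroup.coe_mul, Subgroup.coe_inv]
    exact hma
  · rintro ⟨b, hb, hba⟩
    refine ⟨(b : G), hb, ?_⟩
    rw [← hba]
    simp

/-- conjugating a subgroup by one of its elements does not change it -/
theorem map_conj_of_mem {G : Type*} [Group G] (H : Subgroup G) (k : G) (hk : k ∈ H) :
    H.map (MulAut.conj k).toMonoidHom = H := by
  ext a
  simp only [Subgroup.mem_map, MulEquiv.coe_toMonoidHom, MulAut.conj_apply]
  constructor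
  · rintro ⟨m, hm, rfl⟩
    exact H.mul_mem (H.mul_mem hk hm) (H.inv_mem hk)
  · intro ha
    exact ⟨k⁻¹ * a * k, H.mul_mem (H.mul_mem (H.inv_mem hk) ha) hk, by group⟩

/-- Hall subgroups of an alternating group are conjugate. -/
theorem conj_alt (n : ℕ) (π : Set ℕ) (M M' : Subgroup ↥(alternatingGroup (Fin n)))
    (hM : IsPiHall π M) (hM' : IsPiHall π M') :
    ∃ g : ↥(alternatingGroup (Fin n)), M' = M.map (MulAut.conj g).toMonoidHom := by
  by_cases hA1 : A1 π n
  · apply conj_of_le_one_prime π M M' hM hM'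
    intro r s hr hs hrπ hsπ hrd hsd
    have hdvd : Nat.card ↥(alternatingGroup (Fin n)) ∣ n.factorial := by
      have := Subgroup.card_subgroup_dvd_card (alternatingGroup (Fin n))
      rwa [Nat.card_perm, Nat.card_eq_fintype_card (α := Fin n), Fintype.card_fin] at this
    exact hA1 r s hr hs hrπ hsπ ((Nat.Prime.dvd_factorial hr).1 (hrd.trans hdvd))
      ((Nat.Prime.dvd_factorial hs).1 (hsd.trans hdvd))
  · obtain ⟨M₀, hM₀, hMeq⟩ := (Cfsg.Agent.S2538.result n π M).1 hM
    obtain ⟨M₀', hM₀', hM'eq⟩ := (Cfsg.Agent.S2538.result n π M').1 hM'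
    obtain ⟨g, hg⟩ := conj_sym π M₀ M₀' hM₀ hM₀'
    -- two distinct primes of `π` up to `n`
    have hA1' := hA1
    unfold A1 at hA1'
    push Not at hA1'
    obtain ⟨r, s, hr, hs, hrπ, hsπ, hrn, hsn, hne⟩ := hA1'
    have hn3 : 3 ≤ n := by
      have := hr.two_le; have := hs.two_le; omega
    have h2π : 2 ∈ π := by
      rcases main' π n (Fin n) (Fintype.card_fin n) M₀ hM₀ with
        h1 | h2 | ⟨h3, -⟩ | ⟨-, h23, -⟩ | ⟨-, h23, -⟩
      · exact absurd h1 hA1
      · exact h2 2 Nat.prime_two (by omega)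
      · exact (h3.2 2 Nat.prime_two (by omega)).2 (by omega)
      · exact (h23 2 Nat.prime_two (by norm_num)).2 (Or.inl rfl)
      · exact (h23 2 Nat.prime_two (by norm_num)).2 (Or.inl rfl)
    obtain ⟨k, hkM, hkc, hks⟩ :=
      exists_cycle_mem π M₀ hM₀ 2 Nat.prime_two h2π (by rw [Fintype.card_fin]; omega)
    have hksign : Equiv.Perm.sign k = -1 :=
      (Equiv.Perm.card_support_eq_two.1 hks).sign_eq
    -- an even conjugating element
    obtain ⟨g', hg'A, hg'⟩ : ∃ g' : Equiv.Perm (Fin n), g' ∈ alternatingGroup (Fin n) ∧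
        M₀' = M₀.map (MulAut.conj g').toMonoidHom := by
      by_cases hgA : g ∈ alternatingGroup (Fin n)
      · exact ⟨g, hgA, hg⟩
      · refine ⟨g * k, ?_, ?_⟩
        · rw [Equiv.Perm.mem_alternatingGroup] at hgA ⊢
          rw [Equiv.Perm.sign_mul, hksign]
          rcases Int.units_eq_one_or (Equiv.Perm.sign g) with h | h
          · exact absurd h hgA
          · rw [h]; decide
        · rw [hg]
          conv_lhs => rw [← map_conj_of_mem M₀ k hkM]
          rw [Subgroup.map_map]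
          congr 1
    refine ⟨⟨g', hg'A⟩, ?_⟩
    rw [hM'eq, hMeq, hg', subgroupOf_map_conj _ _ g' hg'A]

/-- For every `n` and every set of primes `π`, the following are equivalent for the symmetric group `S` of degree `n` and its alternating subgroup `A`: `S` has a Hall `π`-subgroup; `S` has a Hall `π`-subgroup and all of them are conjugate; `A` has a Hall `π`-subgroup; `A` has a Hall `π`-subgroup and all of them are conjugate. -/
theorem result (n : ℕ) (π : Set ℕ) :
    (Cfsg.IsEPiGroup π (Equiv.Perm (Fin n)) ↔ Cfsg.IsCPiGroup π (Equiv.Perm (Fin n))) ∧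
    (Cfsg.IsEPiGroup π (Equiv.Perm (Fin n)) ↔ Cfsg.IsEPiGroup π ↥(alternatingGroup (Fin n))) ∧
    (Cfsg.IsEPiGroup π ↥(alternatingGroup (Fin n)) ↔ Cfsg.IsCPiGroup π ↥(alternatingGroup (Fin n))) := by
  refine ⟨⟨fun hE => ⟨hE, fun H K hH hK => conj_sym π H K hH hK⟩, fun h => h.1⟩, ⟨?_, ?_⟩,
    ⟨fun hE => ⟨hE, fun M M' hM hM' => conj_alt n π M M' hM hM'⟩, fun h => h.1⟩⟩
  · rintro ⟨H, hH⟩
    exact ⟨H.subgroupOf (alternatingGroup (Fin n)),
      (Cfsg.Agent.S2538.result n π _).2 ⟨H, hH, rfl⟩⟩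
  · rintro ⟨M, hM⟩
    obtain ⟨M₀, hM₀, -⟩ := (Cfsg.Agent.S2538.result n π M).1 hM
    exact ⟨M₀, hM₀⟩

end Cfsg.Agent.S2535
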