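-- Statement S2536 (Thompson: Hall subgroups of the symmetric groups, nonstandard cases).
-- Proof: induction on the degree (Cfsg.Agent.Lib.Helper71.HallSym.main) + explicit Hall subgroups.
import Cfsg.Statements.S2536
import Cfsg.Agent.Lib.Helper71.HallSymMain
import Cfsg.Agent.Lib.Helper1.HallSymEx

set_option autoImplicit false
open Cfsg

namespace Cfsg.Agent.S2536

/-- Let `π` be a set of primes and `n` a natural number such that at least two primes of `π` divide `n!` but not every prime dividing `n!` lies in `π`. Then the symmetric group of degree `n` has a Hall `π`-subgroup if and only if either `n` is prime and the primes of `π` dividing `n!` are exactly the primes smaller than `n` (a point stabilizer is then such a subgroup), or `n ∈ {7, 8}` and the primes of `π` dividing `n!` are exactly 2 and 3. -/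
theorem result (n : ℕ) (π : Set ℕ)
    (h2 : ∃ r s : ℕ, r.Prime ∧ s.Prime ∧ r ≠ s ∧ r ∈ π ∧ s ∈ π ∧ r ≤ n ∧ s ≤ n)
    (hns : ∃ r : ℕ, r.Prime ∧ r ≤ n ∧ r ∉ π) :
    Cfsg.IsEPiGroup π (Equiv.Perm (Fin n)) ↔
      ((n.Prime ∧ ∀ r : ℕ, r.Prime → r ≤ n → (r ∈ π ↔ r < n)) ∨
       ((n = 7 ∨ n = 8) ∧ ∀ r : ℕ, r.Prime → r ≤ n → (r ∈ π ↔ (r = 2 ∨ r = 3)))) := by
  constructor
  · rintro ⟨H, hH⟩
    rcases Cfsg.Agent.Lib.Helper71.HallSym.main π n (Fin n) (Fintype.card_fin n) H hH with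
      h1 | h2' | ⟨h3, -⟩ | ⟨h7, h23⟩ | ⟨h8, h23, -⟩
    · exfalso
      obtain ⟨r, s, hr, hs, hne, hrπ, hsπ, hrn, hsn⟩ := h2
      exact hne (h1 r s hr hs hrπ hsπ hrn hsn)
    · exfalso
      obtain ⟨r, hr, hrn, hrπ⟩ := hns
      exact hrπ (h2' r hr hrn)
    · exact Or.inl h3
    · subst h7
      exact Or.inr ⟨Or.inl rfl, h23⟩
    · subst h8
      exact Or.inr ⟨Or.inr rfl, h23⟩
  · rintro (⟨hp, hπ⟩ | ⟨h78, hπ⟩)
    · exact Cfsg.Agent.Lib.Helper1.HallSym.exists_hall_prime n hp π hπ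
    · rcases h78 with rfl | rfl
      · exact Cfsg.Agent.Lib.Helper1.HallSym.exists_hall_seven π hπ
      · exact Cfsg.Agent.Lib.Helper1.HallSym.exists_hall_eight π hπ

end Cfsg.Agent.S2536
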