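import Cfsg.Statements.S2537
import Mathlib
import Cfsg.Agent.Lib.Helper42.PPrimeMain
import Cfsg.Agent.Lib.Helper41.SL2TorusCount
import Cfsg.Agent.Lib.Helper41.SL2NsTorusClass
import Cfsg.Agent.Lib.Helper41.SL2Nonsplit
import Cfsg.Agent.S0802
import Cfsg.Agent.S0803

set_option autoImplicit false
open Cfsg

namespace Cfsg.Agent.S2537


open Cfsg.Agent.Lib.Helper41 Cfsg.Agent.Lib.Helper11 Cfsg.Agent.Lib.Helper5 Cfsg.Agent.Lib.Helper42

section Arith

theorem fact_two_three (j a b : ℕ) (hj0 : j ≠ 0) (hj2 : ¬ 2 ∣ j) (hj3 : ¬ 3 ∣ j) :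
    (2 ^ a * 3 ^ b * j).factorization 2 = a ∧ (2 ^ a * 3 ^ b * j).factorization 3 = b := by
  have h2 : (2 ^ a : ℕ) ≠ 0 := by positivity
  have h3 : (3 ^ b : ℕ) ≠ 0 := by positivity
  have h23 : (2 ^ a * 3 ^ b : ℕ) ≠ 0 := mul_ne_zero h2 h3
  rw [Nat.factorization_mul h23 hj0, Nat.factorization_mul h2 h3]
  simp only [Finsupp.coe_add, Pi.add_apply, Nat.factorization_pow, Finsupp.coe_smul, Pi.smul_apply,
    smul_eq_mul]
  rw [Nat.prime_two.factorization_self, Nat.prime_three.factorization_self,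
    Nat.factorization_eq_zero_of_not_dvd hj2, Nat.factorization_eq_zero_of_not_dvd hj3,
    Nat.factorization_eq_zero_of_not_dvd (show ¬ 2 ∣ 3 by norm_num),
    Nat.factorization_eq_zero_of_not_dvd (show ¬ 3 ∣ 2 by norm_num)]
  simp

/-- the `{2,3}`-part decomposition of a positive number -/
theorem exists_part (x : ℕ) (hx : x ≠ 0) :
    ∃ r : ℕ, x = 2 ^ x.factorization 2 * 3 ^ x.factorization 3 * r ∧ ¬ 2 ∣ r ∧ ¬ 3 ∣ r ∧ r ≠ 0 := by
  have h2 : 2 ^ x.factorization 2 ∣ x := Nat.ordProj_dvd x 2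
  have h3 : 3 ^ x.factorization 3 ∣ x := Nat.ordProj_dvd x 3
  have hcop : Nat.Coprime (2 ^ x.factorization 2) (3 ^ x.factorization 3) :=
    Nat.Coprime.pow _ _ (by norm_num)
  obtain ⟨r, hr⟩ := hcop.mul_dvd_of_dvd_of_dvd h2 h3
  have hr0 : r ≠ 0 := by
    rintro rfl
    rw [mul_zero] at hr
    exact hx hr
  refine ⟨r, hr, ?_, ?_, hr0⟩
  · intro hd
    have := Nat.pow_succ_factorization_not_dvd hx Nat.prime_two
    apply this
    obtain ⟨s, rfl⟩ := hd
    rw [pow_succ]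
    exact ⟨3 ^ x.factorization 3 * s, by (conv_lhs => rw [hr]); ring⟩
  · intro hd
    have := Nat.pow_succ_factorization_not_dvd hx Nat.prime_three
    apply this
    obtain ⟨s, rfl⟩ := hd
    rw [pow_succ]
    exact ⟨2 ^ x.factorization 2 * s, by (conv_lhs => rw [hr]); ring⟩

theorem prime_dvd_two_three {a b r : ℕ} (hr : r.Prime) (h : r ∣ 2 ^ a * 3 ^ b) : r = 2 ∨ r = 3 := by
  rcases (Nat.Prime.dvd_mul hr).mp h with h | h
  · left
    exact (Nat.prime_dvd_prime_iff_eq hr Nat.prime_two).mp (hr.dvd_of_dvd_pow h)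
  · right
    exact (Nat.prime_dvd_prime_iff_eq hr Nat.prime_three).mp (hr.dvd_of_dvd_pow h)

theorem pow_eq_24 {a b : ℕ} (h : 2 ^ a * 3 ^ b = 24) : a = 3 ∧ b = 1 := by
  have ha : a ≤ 3 := by
    by_contra hh
    have h1 : 2 ^ 4 ∣ 2 ^ a := Nat.pow_dvd_pow 2 (by omega)
    have h2 : 2 ^ 4 ∣ 24 := by rw [← h]; exact Dvd.dvd.mul_right h1 _
    norm_num at h2
  have hb : b ≤ 1 := by
    by_contra hh
    have h1 : 3 ^ 2 ∣ 3 ^ b := Nat.pow_dvd_pow 3 (by omega)
    have h2 : 3 ^ 2 ∣ 24 := by rw [← h]; exact Dvd.dvd.mul_left h1 _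
    norm_num at h2
  interval_cases a <;> interval_cases b <;> simp_all

theorem pow_eq_48 {a b : ℕ} (h : 2 ^ a * 3 ^ b = 48) : a = 4 ∧ b = 1 := by
  have ha : a ≤ 4 := by
    by_contra hh
    have h1 : 2 ^ 5 ∣ 2 ^ a := Nat.pow_dvd_pow 2 (by omega)
    have h2 : 2 ^ 5 ∣ 48 := by rw [← h]; exact Dvd.dvd.mul_right h1 _
    norm_num at h2
  have hb : b ≤ 1 := by
    by_contra hh
    have h1 : 3 ^ 2 ∣ 3 ^ b := Nat.pow_dvd_pow 3 (by omega)
    have h2 : 3 ^ 2 ∣ 48 := by rw [← h]; exact Dvd.dvd.mul_left h1 _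
    norm_num at h2
  interval_cases a <;> interval_cases b <;> simp_all

end Arith

/-- Schur–Zassenhaus in an extension of a cyclic group: a subgroup of order `2n` -/
theorem exists_subgroup_card_of_cyclic_normal {S : Type*} [Group S] [Finite S] (T N : Subgroup S)
    [hT : IsCyclic T] (hTN : T ≤ N) (hnorm : ∀ x ∈ N, ∀ t ∈ T, x * t * x⁻¹ ∈ T)
    (a n r : ℕ) (hTa : Nat.card T = a) (hNa : Nat.card N = 2 * a) (ha : a = n * r)
    (hcop : Nat.Coprime r (2 * n)) :
    ∃ K : Subgroup S, K ≤ N ∧ Nat.card K = 2 * n := by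
  obtain ⟨g, hg⟩ := IsCyclic.exists_generator (α := T)
  have hog : orderOf g = a := by rw [orderOf_eq_card_of_forall_mem_zpowers hg, hTa]
  have hog' : orderOf (g : S) = a := by rw [Subgroup.orderOf_coe, hog]
  have hapos : 0 < a := by rw [← hTa]; exact Nat.card_pos
  have hnpos : 0 < n := by
    rcases Nat.eq_zero_or_pos n with h | h
    · rw [h, zero_mul] at ha; omega
    · exact h
  have hrpos : 0 < r := by
    rcases Nat.eq_zero_or_pos r with h | h
    · rw [h, mul_zero] at ha; omega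
    · exact h
  set M : Subgroup S := Subgroup.zpowers ((g : S) ^ n) with hM
  have hMcard : Nat.card M = r := by
    rw [hM, Nat.card_zpowers, orderOf_pow, hog', ha, Nat.gcd_eq_right (Dvd.intro _ rfl)]
    exact Nat.mul_div_cancel_left r hnpos
  have hMT : M ≤ T := by
    rw [hM, Subgroup.zpowers_le]
    exact T.pow_mem g.2 n
  have hMN : M ≤ N := hMT.trans hTN
  have hnormal : (M.subgroupOf N).Normal := by
    constructor
    intro m hm x
    rw [Subgroup.mem_subgroupOf] at hm ⊢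
    obtain ⟨i, hi⟩ := Subgroup.mem_zpowers_iff.mp hm
    have hx := hnorm x.1 x.2 g.1 g.2
    obtain ⟨j, hj⟩ := Subgroup.mem_zpowers_iff.mp (hg ⟨_, hx⟩)
    have hj' : (g : S) ^ j = (x : S) * (g : S) * (x : S)⁻¹ := by
      have := congrArg Subtype.val hj
      simpa using this
    have e : ((x * m * x⁻¹ : N) : S) = (((g : S) ^ n) ^ j) ^ i := by
      show (x : S) * (m : S) * (x : S)⁻¹ = _
      have e1 : (x : S) * (m : S) * (x : S)⁻¹ = (((x : S) * (g : S) * (x : S)⁻¹) ^ n) ^ i := by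
        rw [← hi, conj_pow, conj_zpow]
      have e2 : (((g : S) ^ j) ^ n) = (((g : S) ^ n) ^ j) := by
        rw [← zpow_natCast, ← zpow_natCast, ← zpow_mul, ← zpow_mul, mul_comm]
      rw [e1, ← hj', e2]
    rw [e]
    exact Subgroup.zpow_mem _ (Subgroup.zpow_mem _ (Subgroup.mem_zpowers _) j) i
  have hM'card : Nat.card (M.subgroupOf N) = r := by
    rw [Nat.card_congr (Subgroup.subgroupOfEquivOfLe hMN).toEquiv, hMcard]
  have hM'idx : (M.subgroupOf N).index = 2 * n := by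
    have h1 := Subgroup.card_mul_index (M.subgroupOf N)
    rw [hM'card, hNa, ha] at h1
    have : r * (M.subgroupOf N).index = r * (2 * n) := by rw [h1]; ring
    exact Nat.eq_of_mul_eq_mul_left hrpos this
  obtain ⟨K', hK'⟩ := Subgroup.exists_right_complement'_of_coprime (N := M.subgroupOf N)
    (by rw [hM'card, hM'idx]; exact hcop)
  have hK'card : Nat.card K' = 2 * n := by
    have h1 := hK'.card_mul_card
    rw [hM'card, hNa, ha] at h1
    have : r * Nat.card K' = r * (2 * n) := by rw [h1]; ring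
    exact Nat.eq_of_mul_eq_mul_left hrpos this
  refine ⟨K'.map N.subtype, Subgroup.map_subtype_le _, ?_⟩
  rw [Subgroup.card_map_of_injective N.subtype_injective, hK'card]

section PSL

variable {F : Type*} [Field F]

local notation "SL2" => Matrix.SpecialLinearGroup (Fin 2) F
local notation "PSL2" => Matrix.ProjectiveSpecialLinearGroup (Fin 2) F

theorem card_map_prj_mul [Fintype F] (K : Subgroup (Matrix.SpecialLinearGroup (Fin 2) F))
    (hle : Subgroup.center SL2 ≤ K) :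
    Nat.card (K.map prj) * Nat.card (Subgroup.center SL2) = Nat.card K := by
  have h1 := Subgroup.index_ker ((prj (F := F)).domRestrict K)
  have h2 := Subgroup.index_mul_card ((prj (F := F)).domRestrict K).ker
  rw [h1, MonoidHom.domRestrict_range, MonoidHom.ker_domRestrict, QuotientGroup.ker_mk',
    Nat.card_congr (Subgroup.subgroupOfEquivOfLe hle).toEquiv] at h2
  exact h2

theorem center_le_of_even [Fintype F] (h2 : (2 : F) ≠ 0)
    (K : Subgroup (Matrix.SpecialLinearGroup (Fin 2) F)) (hK : 2 ∣ Nat.card K) :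
    Subgroup.center SL2 ≤ K := by
  have : Fact (Nat.Prime 2) := ⟨Nat.prime_two⟩
  obtain ⟨x, hx⟩ := exists_prime_orderOf_dvd_card' (G := K) 2 hK
  have hx2 : x ^ 2 = 1 := by
    have := pow_orderOf_eq_one x
    rwa [hx] at this
  have hx1 : x ≠ 1 := by
    intro h
    rw [h, orderOf_one] at hx
    omega
  have hx2' : ((x : SL2) : Matrix (Fin 2) (Fin 2) F) * ((x : SL2) : Matrix (Fin 2) (Fin 2) F) = 1 := by
    have := congrArg (fun y : K => ((y : SL2) : Matrix (Fin 2) (Fin 2) F)) hx2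
    simpa [pow_two] using this
  have hneg : ((x : SL2) : Matrix (Fin 2) (Fin 2) F) = -1 := by
    rcases eq_one_or_neg_one_of_mul_self h2 (x : SL2) hx2' with h | h
    · exfalso
      apply hx1
      apply Subtype.ext
      apply Subtype.ext
      rw [h]; rfl
    · exact h
  intro z hz
  rcases (mem_center_iff_pm z).mp hz with h | h
  · have : z = 1 := Subtype.ext (by rw [h]; rfl)
    rw [this]; exact K.one_mem
  · have : z = (x : SL2) := Subtype.ext (by rw [h, hneg])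
    rw [this]; exact x.2

/-- a subgroup of `PSL₂(F)` of order `n` from a torus normalizer -/
theorem exists_subgroup_psl [Fintype F] (h2 : (2 : F) ≠ 0)
    (T N : Subgroup (Matrix.SpecialLinearGroup (Fin 2) F))
    [hT : IsCyclic T] (hTN : T ≤ N) (hnorm : ∀ x ∈ N, ∀ t ∈ T, x * t * x⁻¹ ∈ T)
    (a n r : ℕ) (hTa : Nat.card T = a) (hNa : Nat.card N = 2 * a) (ha : a = n * r)
    (hcop : Nat.Coprime r (2 * n)) :
    ∃ H : Subgroup (Matrix.ProjectiveSpecialLinearGroup (Fin 2) F), Nat.card H = n := by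
  obtain ⟨K, -, hK⟩ := exists_subgroup_card_of_cyclic_normal T N hTN hnorm a n r hTa hNa ha hcop
  have hle := center_le_of_even h2 K (by rw [hK]; exact Dvd.intro _ rfl)
  have h1 := card_map_prj_mul K hle
  rw [card_center_SL2_of_two_ne_zero h2, hK] at h1
  exact ⟨K.map prj, by omega⟩

theorem exists_subgroup_split [Fintype F] (h2 : (2 : F) ≠ 0) (n r : ℕ)
    (ha : Fintype.card F - 1 = n * r) (hcop : Nat.Coprime r (2 * n)) :
    ∃ H : Subgroup (Matrix.ProjectiveSpecialLinearGroup (Fin 2) F), Nat.card H = n := by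
  have : IsCyclic (diagSub F) := isCyclic_diagSub
  refine exists_subgroup_psl h2 (diagSub F) (monoSub F) diagSub_le_monoSub ?_ _ n r card_diagSub
    card_monoSub ha hcop
  intro x hx t ht
  rcases hx with hx | hx
  · exact (hx.mul ht).mul hx.inv
  · rw [hx.conj_diag ht]
    exact (diagSub F).inv_mem ht

theorem exists_subgroup_nonsplit [Fintype F] (h2 : (2 : F) ≠ 0) (n r : ℕ)
    (ha : Fintype.card F + 1 = n * r) (hcop : Nat.Coprime r (2 * n)) :
    ∃ H : Subgroup (Matrix.ProjectiveSpecialLinearGroup (Fin 2) F), Nat.card H = n := by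
  obtain ⟨t, ht⟩ := exists_nonsplit_trace (F := F)
  have : IsCyclic (nsTorus t) := isCyclic_nsTorus ht
  refine exists_subgroup_psl h2 (nsTorus t)
    (Subgroup.normalizer (nsTorus t : Set (Matrix.SpecialLinearGroup (Fin 2) F)))
    Subgroup.le_normalizer ?_ _ n r (card_nsTorus ht) (card_normalizer_nsTorus h2 ht) ha hcop
  intro x hx u hu
  exact (Subgroup.mem_normalizer_iff.mp hx u).mp hu

end PSL

section Core

theorem mod_aux1 (m : ℕ) (h1 : ¬ 3 ∣ m) (h2 : ¬ 3 ∣ m + 1) : 3 ∣ m + 2 := by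
  rw [Nat.dvd_iff_mod_eq_zero] at *
  omega

theorem mod_aux2 (m : ℕ) (h : 2 ∣ m) (h4 : ¬ 4 ∣ m) : (m + 1) % 4 = 3 := by
  rw [Nat.dvd_iff_mod_eq_zero] at *
  omega

theorem mod_aux3 (m : ℕ) (h1 : ¬ 3 ∣ m + 2) (h2 : ¬ 3 ∣ m + 1) : 3 ∣ m := by
  rw [Nat.dvd_iff_mod_eq_zero] at *
  omega

theorem mod_aux4 (m : ℕ) (h : 2 ∣ m) (h4 : ¬ 4 ∣ m + 2) : (m + 1) % 4 = 1 := by
  rw [Nat.dvd_iff_mod_eq_zero] at *
  omega

theorem cyc_false (m h i : ℕ) (hm2 : 2 ∣ m) (hi2 : ¬ 2 ∣ i) (hm0 : m ≠ 0)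
    (heq : 2 * (h * i) = (m + 1) * (m * (m + 2))) (hdvd : h ∣ (m + 2) / 2 ∨ h ∣ m / 2) : False := by
  obtain ⟨m', rfl⟩ := hm2
  have e1 : (2 * m' + 2) / 2 = m' + 1 := by omega
  have e2 : 2 * m' / 2 = m' := by omega
  rw [e1, e2] at hdvd
  have hpos : 0 < h := by
    rcases Nat.eq_zero_or_pos h with h0 | h0
    · rw [h0, zero_mul, mul_zero] at heq
      rcases hdvd with hd | hd
      · rw [h0] at hd; have := zero_dvd_iff.mp hd; omega
      · rw [h0] at hd
        have := zero_dvd_iff.mp hd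
        omega
    · exact h0
  apply hi2
  rcases hdvd with ⟨c, hc⟩ | ⟨c, hc⟩
  · have h1 : 2 * m' + 2 = 2 * (h * c) := by rw [← hc]; ring
    rw [h1] at heq
    have h2 : h * i = h * ((2 * m' + 1) * (2 * m') * c) :=
      Nat.eq_of_mul_eq_mul_left two_pos (by rw [heq]; ring)
    have h3 := Nat.eq_of_mul_eq_mul_left hpos h2
    rw [h3]
    exact ⟨(2 * m' + 1) * m' * c, by ring⟩
  · have h1 : 2 * m' = 2 * (h * c) := by rw [← hc]
    have heq' : 2 * (h * i) = (2 * m' + 1) * (2 * (h * c) * (2 * m' + 2)) := by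
      rw [heq]; rw [hc]
    have h2 : h * i = h * ((2 * m' + 1) * c * (2 * m' + 2)) :=
      Nat.eq_of_mul_eq_mul_left two_pos (by rw [heq']; ring)
    have h3 := Nat.eq_of_mul_eq_mul_left hpos h2
    rw [h3]
    exact ⟨(2 * m' + 1) * c * (m' + 1), by ring⟩

theorem dih_core (m h i k : ℕ) (hm2 : 2 ∣ m) (hq3 : ¬ 3 ∣ m + 1) (hi2 : ¬ 2 ∣ i) (hi3 : ¬ 3 ∣ i)
    (heq : 2 * (h * i) = (m + 1) * (m * (m + 2))) (hh : h = 2 * k) (hm0 : m ≠ 0)
    (hk : k ∣ (m + 2) / 2 ∨ k ∣ m / 2) :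
    (3 ∣ m ∧ (m + 1) % 4 = 1) ∨ (3 ∣ m + 2 ∧ (m + 1) % 4 = 3) := by
  obtain ⟨m', hm'⟩ := hm2
  have e1 : (m + 2) / 2 = m' + 1 := by omega
  have e2 : m / 2 = m' := by omega
  rw [e1, e2] at hk
  have hpos : 0 < h := by
    rcases Nat.eq_zero_or_pos h with h0 | h0
    · rw [h0, zero_mul, mul_zero] at heq
      have : 0 < (m + 1) * (m * (m + 2)) := by positivity
      omega
    · exact h0
  rcases hk with ⟨c, hc⟩ | ⟨c, hc⟩
  · right
    have h1 : m + 2 = h * c := by rw [hh, mul_assoc, ← hc]; omega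
    have h2 : h * (2 * i) = h * ((m + 1) * m * c) := by
      calc h * (2 * i) = 2 * (h * i) := by ring
        _ = (m + 1) * (m * (m + 2)) := heq
        _ = (m + 1) * (m * (h * c)) := by rw [h1]
        _ = h * ((m + 1) * m * c) := by ring
    have h3 : 2 * i = (m + 1) * m * c := Nat.eq_of_mul_eq_mul_left hpos h2
    have h4 : ¬ 4 ∣ m := by
      rintro ⟨m'', rfl⟩
      apply hi2
      exact ⟨(4 * m'' + 1) * m'' * c, by
        have : 2 * i = 2 * (2 * ((4 * m'' + 1) * m'' * c)) := by rw [h3]; ring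
        omega⟩
    have h5 : ¬ 3 ∣ m := by
      rintro ⟨m'', rfl⟩
      apply hi3
      have : 3 ∣ 2 * i := ⟨(3 * m'' + 1) * m'' * c, by rw [h3]; ring⟩
      exact (Nat.Coprime.dvd_of_dvd_mul_left (by norm_num) this)
    exact ⟨mod_aux1 m h5 hq3, mod_aux2 m ⟨m', hm'⟩ h4⟩
  · left
    have h1 : m = h * c := by rw [hh, mul_assoc, ← hc]; omega
    have h2 : h * (2 * i) = h * ((m + 1) * c * (m + 2)) := by
      calc h * (2 * i) = 2 * (h * i) := by ring
        _ = (m + 1) * (m * (m + 2)) := heq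
        _ = (m + 1) * ((h * c) * (m + 2)) := by rw [← h1]
        _ = h * ((m + 1) * c * (m + 2)) := by ring
    have h3 : 2 * i = (m + 1) * c * (m + 2) := Nat.eq_of_mul_eq_mul_left hpos h2
    have h4 : ¬ 4 ∣ m + 2 := by
      rintro ⟨m'', hm''⟩
      apply hi2
      exact ⟨(m + 1) * c * m'', by
        have : 2 * i = 2 * (2 * ((m + 1) * c * m'')) := by rw [h3, hm'']; ring
        omega⟩
    have h5 : ¬ 3 ∣ m + 2 := by
      rintro ⟨m'', hm''⟩
      apply hi3
      have : 3 ∣ 2 * i := ⟨(m + 1) * c * m'', by rw [h3, hm'']; ring⟩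
      exact (Nat.Coprime.dvd_of_dvd_mul_left (by norm_num) this)
    exact ⟨mod_aux3 m h5 hq3, mod_aux4 m ⟨m', hm'⟩ h4⟩

theorem part_core (m i a b : ℕ) (heq : 2 ^ a * 3 ^ b * i = (m + 1) * (m * (m + 2)))
    (hq2 : ¬ 2 ∣ m + 1) (hq3 : ¬ 3 ∣ m + 1) (hi2 : ¬ 2 ∣ i) (hi3 : ¬ 3 ∣ i) (hm : m ≠ 0) :
    (m * (m + 2)).factorization 2 = a ∧ (m * (m + 2)).factorization 3 = b := by
  have hc2 : Nat.Coprime (m + 1) 2 :=
    ((Nat.Prime.coprime_iff_not_dvd Nat.prime_two).mpr hq2).symm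
  have hc3 : Nat.Coprime (m + 1) 3 :=
    ((Nat.Prime.coprime_iff_not_dvd Nat.prime_three).mpr hq3).symm
  have hcop : Nat.Coprime (m + 1) (2 ^ a * 3 ^ b) :=
    Nat.Coprime.mul_right (Nat.Coprime.pow_right a hc2) (Nat.Coprime.pow_right b hc3)
  have hdvd : m + 1 ∣ i := hcop.dvd_of_dvd_mul_left ⟨m * (m + 2), heq⟩
  obtain ⟨j, rfl⟩ := hdvd
  have h1 : 2 ^ a * 3 ^ b * j = m * (m + 2) := by
    have : (m + 1) * (2 ^ a * 3 ^ b * j) = (m + 1) * (m * (m + 2)) := by rw [← heq]; ring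
    exact Nat.eq_of_mul_eq_mul_left (by omega) this
  have hj2 : ¬ 2 ∣ j := fun hd => hi2 (Dvd.dvd.mul_left hd _)
  have hj3 : ¬ 3 ∣ j := fun hd => hi3 (Dvd.dvd.mul_left hd _)
  have hj0 : j ≠ 0 := by
    rintro rfl
    rw [mul_zero] at h1
    have : 0 < m * (m + 2) := by positivity
    omega
  rw [← h1]
  exact fact_two_three j a b hj0 hj2 hj3

end Core

section Main

theorem hall_of_card (m c idx a b : ℕ) (heq : 2 * (c * idx) = (m + 1) * (m * (m + 2)))
    (hc : 2 * c = 2 ^ a * 3 ^ b) (h2 : ¬ 2 ^ (a + 1) ∣ m * (m + 2))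
    (h3 : ¬ 3 ^ (b + 1) ∣ m * (m + 2)) (hq2 : ¬ 2 ∣ m + 1) (hq3 : ¬ 3 ∣ m + 1) :
    ¬ 2 ∣ idx ∧ ¬ 3 ∣ idx := by
  have hc2 : Nat.Coprime (2 ^ (a + 1)) (m + 1) :=
    Nat.Coprime.pow_left _ ((Nat.Prime.coprime_iff_not_dvd Nat.prime_two).mpr hq2)
  have hc3 : Nat.Coprime (3 ^ (b + 1)) (m + 1) :=
    Nat.Coprime.pow_left _ ((Nat.Prime.coprime_iff_not_dvd Nat.prime_three).mpr hq3)
  have heq' : 2 ^ a * 3 ^ b * idx = (m + 1) * (m * (m + 2)) := by
    rw [← hc, ← heq]; ring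
  constructor
  · rintro ⟨t, rfl⟩
    apply h2
    apply hc2.dvd_of_dvd_mul_left
    exact ⟨3 ^ b * t, by rw [← heq', pow_succ]; ring⟩
  · rintro ⟨t, rfl⟩
    apply h3
    apply hc3.dvd_of_dvd_mul_left
    exact ⟨2 ^ a * t, by rw [← heq', pow_succ]; ring⟩

theorem card_alt_four : Nat.card (alternatingGroup (Fin 4)) = 12 := by
  rw [nat_card_alternatingGroup, Nat.card_eq_fintype_card, Fintype.card_fin]; rfl

theorem card_alt_five : Nat.card (alternatingGroup (Fin 5)) = 60 := by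
  rw [nat_card_alternatingGroup, Nat.card_eq_fintype_card, Fintype.card_fin]; rfl

theorem card_perm_four : Nat.card (Equiv.Perm (Fin 4)) = 24 := by
  rw [Nat.card_eq_fintype_card, Fintype.card_perm, Fintype.card_fin]; rfl

theorem mem_two_three {s : ℕ} : s ∈ ({2, 3} : Set ℕ) ↔ s = 2 ∨ s = 3 := by
  simp

variable {F : Type*} [Field F] [Fintype F]

theorem forward {p : ℕ} [Fact p.Prime] [CharP F p] (hp : 5 ≤ p) (m : ℕ)
    (hq : Fintype.card F = m + 1) (hm0 : m ≠ 0) (hm2 : 2 ∣ m) (hq3 : ¬ 3 ∣ m + 1)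
    (hq2 : ¬ 2 ∣ m + 1)
    (hG : 2 * Nat.card (Matrix.ProjectiveSpecialLinearGroup (Fin 2) F) = (m + 1) * (m * (m + 2)))
    (H : Subgroup (Matrix.ProjectiveSpecialLinearGroup (Fin 2) F))
    (hH : Cfsg.IsPiHall ({2, 3} : Set ℕ) H) :
    (3 ∣ m ∧ (m + 1) % 4 = 1) ∨ (3 ∣ m + 2 ∧ (m + 1) % 4 = 3) ∨
      2 ^ (m * (m + 2)).factorization 2 * 3 ^ (m * (m + 2)).factorization 3 = 24 ∨
      2 ^ (m * (m + 2)).factorization 2 * 3 ^ (m * (m + 2)).factorization 3 = 48 := by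
  have hpp : p.Prime := Fact.out
  obtain ⟨hH1, hH2⟩ := hH
  have hi2 : ¬ 2 ∣ H.index := hH2 2 Nat.prime_two (mem_two_three.mpr (Or.inl rfl))
  have hi3 : ¬ 3 ∣ H.index := hH2 3 Nat.prime_three (mem_two_three.mpr (Or.inr rfl))
  have heq : 2 * (Nat.card H * H.index) = (m + 1) * (m * (m + 2)) := by
    rw [Subgroup.card_mul_index, hG]
  have hpH : ¬ p ∣ Nat.card H := by
    intro hd
    rcases mem_two_three.mp (hH1 p hpp hd) with h | h <;> omega
  have hD := pprime_dickson p hpH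
  have hgcd : Nat.gcd 2 (m + 1 - 1) = 2 := by
    rw [Nat.add_sub_cancel]; exact Nat.gcd_eq_left hm2
  rw [hq, hgcd, Nat.add_sub_cancel] at hD
  rcases hD with ⟨k, hk, hcase⟩ | hA4 | hS4 | hA5
  · rcases hcase with ⟨-, hck⟩ | ⟨⟨e⟩⟩
    · exfalso
      exact cyc_false m (Nat.card H) H.index hm2 hi2 hm0 heq (by rw [hck]; exact hk)
    · have hc : Nat.card H = 2 * k := by rw [Nat.card_congr e.toEquiv, DihedralGroup.nat_card]
      rcases dih_core m _ _ k hm2 hq3 hi2 hi3 heq hc hm0 hk with h | h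
      · exact Or.inl h
      · exact Or.inr (Or.inl h)
  · obtain ⟨e⟩ := hA4
    have hc : Nat.card H = 12 := by rw [Nat.card_congr e.toEquiv, card_alt_four]
    rw [hc] at heq
    obtain ⟨h1, h2⟩ := part_core m H.index 3 1 (by rw [← heq]; ring) hq2 hq3 hi2 hi3 hm0
    right; right; left
    rw [h1, h2]; norm_num
  · obtain ⟨e⟩ := hS4
    have hc : Nat.card H = 24 := by rw [Nat.card_congr e.toEquiv, card_perm_four]
    rw [hc] at heq
    obtain ⟨h1, h2⟩ := part_core m H.index 4 1 (by rw [← heq]; ring) hq2 hq3 hi2 hi3 hm0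
    right; right; right
    rw [h1, h2]; norm_num
  · exfalso
    obtain ⟨e⟩ := hA5
    have hc : Nat.card H = 60 := by rw [Nat.card_congr e.toEquiv, card_alt_five]
    have h5 := hH1 5 Nat.prime_five (by rw [hc]; norm_num)
    rcases mem_two_three.mp h5 with h | h <;> omega

end Main

section Backward

variable {F : Type*} [Field F] [Fintype F]

theorem coprime_aux (r a b : ℕ) (hr2 : ¬ 2 ∣ r) (hr3 : ¬ 3 ∣ r) :
    Nat.Coprime r (2 * (2 ^ a * 3 ^ b)) := by
  have hc2 : Nat.Coprime r 2 := ((Nat.Prime.coprime_iff_not_dvd Nat.prime_two).mpr hr2).symm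
  have hc3 : Nat.Coprime r 3 := ((Nat.Prime.coprime_iff_not_dvd Nat.prime_three).mpr hr3).symm
  exact Nat.Coprime.mul_right hc2
    (Nat.Coprime.mul_right (Nat.Coprime.pow_right a hc2) (Nat.Coprime.pow_right b hc3))

theorem not_four_dvd_aux (x y z : ℕ) (hx : x % 2 = 1) (hy : y % 2 = 1) (hz : z % 4 = 2) :
    ¬ 4 ∣ x * y * z := by
  intro h
  have h1 : (x * y * z) % 4 = 0 := Nat.mod_eq_zero_of_dvd h
  rw [Nat.mul_mod, Nat.mul_mod x y, hz] at h1
  have hx4 : x % 4 = 1 ∨ x % 4 = 3 := by omega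
  have hy4 : y % 4 = 1 ∨ y % 4 = 3 := by omega
  rcases hx4 with hx4 | hx4 <;> rcases hy4 with hy4 | hy4 <;> rw [hx4, hy4] at h1 <;>
    norm_num at h1

theorem not_three_dvd_aux (x y z : ℕ) (hx : ¬ 3 ∣ x) (hy : ¬ 3 ∣ y) (hz : ¬ 3 ∣ z) :
    ¬ 3 ∣ x * y * z := by
  intro h
  rcases (Nat.Prime.dvd_mul Nat.prime_three).mp h with h | h
  · rcases (Nat.Prime.dvd_mul Nat.prime_three).mp h with h | h
    · exact hx h
    · exact hy h
  · exact hz h

/-- Hall property from the order and the index equation -/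
theorem hall_of_index (n idx : ℕ) (a b : ℕ) (hn : n = 2 ^ a * 3 ^ b) (w : ℕ)
    (hidx : 2 * idx = w) (h4 : ¬ 4 ∣ w) (h3 : ¬ 3 ∣ w) :
    (∀ s : ℕ, s.Prime → s ∣ n → s ∈ ({2, 3} : Set ℕ)) ∧
      ∀ s : ℕ, s.Prime → s ∈ ({2, 3} : Set ℕ) → ¬ s ∣ idx := by
  constructor
  · intro s hs hd
    rw [hn] at hd
    exact mem_two_three.mpr (prime_dvd_two_three hs hd)
  · intro s _ hmem hd
    rcases mem_two_three.mp hmem with rfl | rfl
    · apply h4
      obtain ⟨t, rfl⟩ := hd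
      exact ⟨t, by rw [← hidx]; ring⟩
    · apply h3
      obtain ⟨t, rfl⟩ := hd
      exact ⟨2 * t, by rw [← hidx]; ring⟩

theorem backward_split (h2F : (2 : F) ≠ 0) (m : ℕ) (hq : Fintype.card F = m + 1) (hm0 : m ≠ 0)
    (hq3 : ¬ 3 ∣ m + 1) (hq2 : ¬ 2 ∣ m + 1)
    (hG : 2 * Nat.card (Matrix.ProjectiveSpecialLinearGroup (Fin 2) F) = (m + 1) * (m * (m + 2)))
    (h3 : 3 ∣ m) (h4 : (m + 1) % 4 = 1) :
    ∃ H : Subgroup (Matrix.ProjectiveSpecialLinearGroup (Fin 2) F),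
      Cfsg.IsPiHall ({2, 3} : Set ℕ) H := by
  obtain ⟨r, hr, hr2, hr3, hr0⟩ := exists_part m hm0
  obtain ⟨H, hH⟩ := exists_subgroup_split h2F (2 ^ m.factorization 2 * 3 ^ m.factorization 3) r
    (by rw [hq, Nat.add_sub_cancel]; exact hr) (coprime_aux r _ _ hr2 hr3)
  refine ⟨H, ?_⟩
  have heq : 2 * (Nat.card H * H.index) = (m + 1) * (m * (m + 2)) := by
    rw [Subgroup.card_mul_index, hG]
  rw [hH] at heq
  have hnpos : 0 < 2 ^ m.factorization 2 * 3 ^ m.factorization 3 := by positivity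
  have hidx : 2 * H.index = (m + 1) * r * (m + 2) := by
    have : (2 ^ m.factorization 2 * 3 ^ m.factorization 3) * (2 * H.index)
        = (2 ^ m.factorization 2 * 3 ^ m.factorization 3) * ((m + 1) * r * (m + 2)) := by
      calc (2 ^ m.factorization 2 * 3 ^ m.factorization 3) * (2 * H.index)
          = 2 * ((2 ^ m.factorization 2 * 3 ^ m.factorization 3) * H.index) := by ring
        _ = (m + 1) * (m * (m + 2)) := heq
        _ = (m + 1) * ((2 ^ m.factorization 2 * 3 ^ m.factorization 3 * r) * (m + 2)) := by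
            rw [← hr]
        _ = _ := by ring
    exact Nat.eq_of_mul_eq_mul_left hnpos this
  have := hall_of_index (Nat.card H) H.index _ _ hH _ hidx
    (not_four_dvd_aux _ _ _ (by omega) (by omega) (by omega))
    (not_three_dvd_aux _ _ _ hq3 hr3 (by omega))
  exact this

theorem backward_nonsplit (h2F : (2 : F) ≠ 0) (m : ℕ) (hq : Fintype.card F = m + 1)
    (hq3 : ¬ 3 ∣ m + 1) (hq2 : ¬ 2 ∣ m + 1)
    (hG : 2 * Nat.card (Matrix.ProjectiveSpecialLinearGroup (Fin 2) F) = (m + 1) * (m * (m + 2)))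
    (h3 : 3 ∣ m + 2) (h4 : (m + 1) % 4 = 3) :
    ∃ H : Subgroup (Matrix.ProjectiveSpecialLinearGroup (Fin 2) F),
      Cfsg.IsPiHall ({2, 3} : Set ℕ) H := by
  obtain ⟨r, hr, hr2, hr3, hr0⟩ := exists_part (m + 2) (by omega)
  obtain ⟨H, hH⟩ := exists_subgroup_nonsplit h2F
    (2 ^ (m + 2).factorization 2 * 3 ^ (m + 2).factorization 3) r
    (by rw [hq]; exact hr) (coprime_aux r _ _ hr2 hr3)
  refine ⟨H, ?_⟩
  have heq : 2 * (Nat.card H * H.index) = (m + 1) * (m * (m + 2)) := by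
    rw [Subgroup.card_mul_index, hG]
  rw [hH] at heq
  have hnpos : 0 < 2 ^ (m + 2).factorization 2 * 3 ^ (m + 2).factorization 3 := by positivity
  have hidx : 2 * H.index = (m + 1) * r * m := by
    have : (2 ^ (m + 2).factorization 2 * 3 ^ (m + 2).factorization 3) * (2 * H.index)
        = (2 ^ (m + 2).factorization 2 * 3 ^ (m + 2).factorization 3) * ((m + 1) * r * m) := by
      calc (2 ^ (m + 2).factorization 2 * 3 ^ (m + 2).factorization 3) * (2 * H.index)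
          = 2 * ((2 ^ (m + 2).factorization 2 * 3 ^ (m + 2).factorization 3) * H.index) := by ring
        _ = (m + 1) * (m * (m + 2)) := heq
        _ = (m + 1) * (m * (2 ^ (m + 2).factorization 2 * 3 ^ (m + 2).factorization 3 * r)) := by
            rw [← hr]
        _ = _ := by ring
    exact Nat.eq_of_mul_eq_mul_left hnpos this
  have := hall_of_index (Nat.card H) H.index _ _ hH _ hidx
    (not_four_dvd_aux _ _ _ (by omega) (by omega) (by omega))
    (not_three_dvd_aux _ _ _ hq3 hr3 (by omega))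
  exact this

end Backward

section Final

variable {F : Type*} [Field F] [Fintype F]

omit [Fintype F] in
theorem hall_of_equiv (m c a b : ℕ)
    (hG : 2 * Nat.card (Matrix.ProjectiveSpecialLinearGroup (Fin 2) F) = (m + 1) * (m * (m + 2)))
    (H : Subgroup (Matrix.ProjectiveSpecialLinearGroup (Fin 2) F)) (hc : Nat.card H = c)
    (hc' : 2 * c = 2 ^ a * 3 ^ b) (hm0 : m ≠ 0)
    (ha : (m * (m + 2)).factorization 2 = a) (hb : (m * (m + 2)).factorization 3 = b)
    (hq2 : ¬ 2 ∣ m + 1) (hq3 : ¬ 3 ∣ m + 1) : Cfsg.IsPiHall ({2, 3} : Set ℕ) H := by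
  have hQ0 : m * (m + 2) ≠ 0 := by positivity
  have h2 : ¬ 2 ^ (a + 1) ∣ m * (m + 2) := by
    rw [← ha]; exact Nat.pow_succ_factorization_not_dvd hQ0 Nat.prime_two
  have h3 : ¬ 3 ^ (b + 1) ∣ m * (m + 2) := by
    rw [← hb]; exact Nat.pow_succ_factorization_not_dvd hQ0 Nat.prime_three
  have heq : 2 * (c * H.index) = (m + 1) * (m * (m + 2)) := by
    rw [← hc, Subgroup.card_mul_index, hG]
  obtain ⟨hi2, hi3⟩ := hall_of_card m c H.index a b heq hc' h2 h3 hq2 hq3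
  constructor
  · intro s hs hd
    rw [hc] at hd
    have hd2 : s ∣ 2 ^ a * 3 ^ b := by rw [← hc']; exact Dvd.dvd.mul_left hd 2
    exact mem_two_three.mpr (prime_dvd_two_three hs hd2)
  · intro s _ hmem
    rcases mem_two_three.mp hmem with rfl | rfl
    · exact hi2
    · exact hi3

end Final


/-- Let `F` be a finite field with `q` elements of characteristic `p ≥ 5`, and `ε = 1` if `q ≡ 1 (mod 4)`, `ε = -1` otherwise. Then `PSL(2, F)` has a Hall `{2, 3}`-subgroup if and only if `3` divides `q − ε`, or the `{2,3}`-part of `q² − 1` is 24, or the `{2,3}`-part of `q² − 1` is 48 (the `{2,3}`-part of `m` being the largest divisor of `m` with no prime factor other than 2 and 3). -/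
theorem result {F : Type*} [Field F] [Fintype F] {p : ℕ} [Fact p.Prime] [CharP F p]
    (hp : 5 ≤ p) (q : ℕ) (hq : Fintype.card F = q) :
    (∃ H : Subgroup (Matrix.ProjectiveSpecialLinearGroup (Fin 2) F), Cfsg.IsPiHall ({2, 3} : Set ℕ) H) ↔
      (3 ∣ q - 1 ∧ q % 4 = 1) ∨ (3 ∣ q + 1 ∧ q % 4 = 3) ∨
        2 ^ (q ^ 2 - 1).factorization 2 * 3 ^ (q ^ 2 - 1).factorization 3 = 24 ∨
        2 ^ (q ^ 2 - 1).factorization 2 * 3 ^ (q ^ 2 - 1).factorization 3 = 48 := by
  classical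
  have hpp : p.Prime := Fact.out
  obtain ⟨n, -, hn⟩ := FiniteField.card F p
  have hqpn : q = p ^ (n : ℕ) := by rw [← hq, hn]
  have hq2 : ¬ 2 ∣ q := by
    rw [hqpn]
    intro h
    have := (Nat.prime_dvd_prime_iff_eq Nat.prime_two hpp).mp (Nat.prime_two.dvd_of_dvd_pow h)
    omega
  have hq3 : ¬ 3 ∣ q := by
    rw [hqpn]
    intro h
    have := (Nat.prime_dvd_prime_iff_eq Nat.prime_three hpp).mp (Nat.prime_three.dvd_of_dvd_pow h)
    omega
  have h2F : (2 : F) ≠ 0 := by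
    intro h
    have h2' : ((2 : ℕ) : F) = 0 := by exact_mod_cast h
    have h3 := (CharP.cast_eq_zero_iff F p 2).mp h2'
    have := Nat.le_of_dvd (by norm_num) h3
    omega
  have hq1 : 2 ≤ q := by rw [← hq]; exact Fintype.one_lt_card
  obtain ⟨m, rfl⟩ : ∃ m, q = m + 1 := ⟨q - 1, by omega⟩
  have hm0 : m ≠ 0 := by omega
  have hm2 : 2 ∣ m := by
    rw [Nat.dvd_iff_mod_eq_zero] at *
    omega
  have hQ : (m + 1) ^ 2 - 1 = m * (m + 2) := by
    have : (m + 1) ^ 2 = m * (m + 2) + 1 := by ring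
    rw [this, Nat.add_sub_cancel]
  have hG : 2 * Nat.card (Matrix.ProjectiveSpecialLinearGroup (Fin 2) F)
      = (m + 1) * (m * (m + 2)) := by
    have := card_PSL2_mul (F := F)
    rw [card_center_SL2_of_two_ne_zero h2F, hq, hQ] at this
    rw [← this]; ring
  rw [hQ, Nat.add_sub_cancel]
  constructor
  · rintro ⟨H, hH⟩
    exact forward hp m hq hm0 hm2 hq3 hq2 hG H hH
  · rintro (⟨h3, h4⟩ | ⟨h3, h4⟩ | h24 | h48)
    · exact backward_split h2F m hq hm0 hq3 hq2 hG h3 h4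
    · exact backward_nonsplit h2F m hq hq3 hq2 hG h3 h4
    · obtain ⟨ha, hb⟩ := pow_eq_24 h24
      obtain ⟨H, ⟨e⟩⟩ := (Cfsg.Agent.S0802.result p (n : ℕ) hn).mpr (by
        rintro ⟨rfl, -⟩
        omega)
      have hc : Nat.card H = 12 := by rw [Nat.card_congr e.toEquiv, card_alt_four]
      exact ⟨H, hall_of_equiv m 12 3 1 hG H hc (by norm_num) hm0 ha hb hq2 hq3⟩
    · obtain ⟨ha, hb⟩ := pow_eq_48 h48
      have h16 : 16 ∣ m * (m + 2) := by
        have := Nat.ordProj_dvd (m * (m + 2)) 2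
        rw [ha] at this
        exact this
      obtain ⟨H, ⟨e⟩⟩ := (Cfsg.Agent.S0803.result hq).mpr (by
        have : (m + 1) ^ 2 = m * (m + 2) + 1 := by ring
        rw [this]
        omega)
      have hc : Nat.card H = 24 := by rw [Nat.card_congr e.toEquiv, card_perm_four]
      exact ⟨H, hall_of_equiv m 24 4 1 hG H hc (by norm_num) hm0 ha hb hq2 hq3⟩


end Cfsg.Agent.S2537
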