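import Cfsg.Statements.S2541
-- import your own Cfsg.Agent.* helpers here

set_option autoImplicit false
open Cfsg

namespace Cfsg.Agent.S2541


/-- no element of order 8 in S_6 -/
theorem no_order8 (σ : Equiv.Perm (Fin 6)) : orderOf σ ≠ 8 := by
  intro h
  have h4 : orderOf σ ∣ 4 := by
    rw [← Equiv.Perm.lcm_cycleType]
    apply Multiset.lcm_dvd.mpr
    intro n hn
    have h1 : n ∣ 8 := h ▸ Equiv.Perm.dvd_of_mem_cycleType hn
    have h2 : n ≤ 6 := by
      have := Equiv.Perm.le_card_support_of_mem_cycleType hn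
      have h3 : σ.support.card ≤ Fintype.card (Fin 6) := Finset.card_le_univ _
      simp at h3
      omega
    interval_cases n <;> omega
  rw [h] at h4
  omega

/-- diagonal embedding u ↦ diag(u,1) -/
noncomputable def D (F : Type*) [Field F] : Fˣ →* GL (Fin 2) F :=
  (Units.map (Matrix.diagonalRingHom (Fin 2) F).toMonoidHom).comp
    ((MulEquiv.piUnits (M := fun _ : Fin 2 => F)).symm.toMonoidHom.comp
      (MonoidHom.mulSingle (fun _ : Fin 2 => Fˣ) 0))

theorem D_apply00 {F : Type*} [Field F] (u : Fˣ) : ((D F u : GL (Fin 2) F) : Matrix (Fin 2) (Fin 2) F) 0 0 = u := by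
  change Matrix.diagonal _ 0 0 = _
  rw [Matrix.diagonal_apply_eq]
  simp [MulEquiv.piUnits]

theorem D_apply11 {F : Type*} [Field F] (u : Fˣ) : ((D F u : GL (Fin 2) F) : Matrix (Fin 2) (Fin 2) F) 1 1 = 1 := by
  change Matrix.diagonal _ 1 1 = _
  rw [Matrix.diagonal_apply_eq]
  simp [MulEquiv.piUnits]

theorem inj {F : Type*} [Field F] :
    Function.Injective ((Matrix.ProjGenLinGroup.mk (n := Fin 2) (R := F)).comp (D F)) := by
  rw [injective_iff_map_eq_one]
  intro u hu
  simp only [MonoidHom.comp_apply, Matrix.ProjGenLinGroup.mk_eq_one,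
    Matrix.GeneralLinearGroup.center_eq_range_scalar, MonoidHom.mem_range] at hu
  obtain ⟨c, hc⟩ := hu
  have h0 := congrArg (fun M : GL (Fin 2) F => (M : Matrix (Fin 2) (Fin 2) F) 0 0) hc
  have h1 := congrArg (fun M : GL (Fin 2) F => (M : Matrix (Fin 2) (Fin 2) F) 1 1) hc
  simp only [D_apply00, D_apply11] at h0 h1
  simp at h0 h1
  ext
  rw [← h0, h1]

theorem exists_order8 {F : Type*} [Field F] [Fintype F] (hF : Fintype.card F = 9) :
    ∃ g : Matrix.ProjGenLinGroup (Fin 2) F, orderOf g = 8 := by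
  classical
  obtain ⟨ζ, hζ⟩ := IsCyclic.exists_generator (α := Fˣ)
  have h8 : orderOf ζ = 8 := by
    rw [orderOf_eq_card_of_forall_mem_zpowers hζ, Nat.card_eq_fintype_card, Fintype.card_units, hF]
  refine ⟨(Matrix.ProjGenLinGroup.mk (n := Fin 2) (R := F)).comp (D F) ζ, ?_⟩
  rw [orderOf_injective _ inj, h8]


/-- Let F be a field with 9 elements. The symmetric group S_6 is not isomorphic to PGL_2(F) (although both have index-2 subgroups isomorphic to A_6). -/
theorem result {F : Type*} [Field F] [Fintype F] (hF : Fintype.card F = 9) : ¬ Nonempty (Equiv.Perm (Fin 6) ≃* Matrix.ProjGenLinGroup (Fin 2) F) := by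
  rintro ⟨e⟩
  obtain ⟨g, hg⟩ := exists_order8 hF
  apply no_order8 (e.symm g)
  rw [MulEquiv.orderOf_eq, hg]


end Cfsg.Agent.S2541
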