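import Cfsg.Statements.S2542
import Mathlib
import Cfsg.Agent.Lib.Helper5.SLGen
import Cfsg.Agent.Lib.Helper5.PSL2Small
import Cfsg.Agent.Lib.Helper17.SimpleIndex

set_option autoImplicit false
open Cfsg

namespace Cfsg.Agent.S2542



open Matrix

/-- quadratic residues mod 11 -/
def isSq (z : ZMod 11) : Bool := z = 1 || z = 3 || z = 4 || z = 5 || z = 9

/-- the colour of the edge `{x, y}` of the complete graph on the projective line over `𝔽₁₁` -/
def col : Option (ZMod 11) → Option (ZMod 11) → ZMod 11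
  | some x, none => x
  | none, some y => y
  | none, none => 0
  | some x, some y => if isSq (y - x) then 2 * x - y else 2 * y - x

/-- Möbius transformation with explicit coefficients, inverse computed as 9-th power -/
def mobM (a b c d : ZMod 11) : Option (ZMod 11) → Option (ZMod 11)
  | none => if c = 0 then none else some (a * c ^ 9)
  | some x => if c * x + d = 0 then none else some ((a * x + b) * (c * x + d) ^ 9)

def cactM (a b c d : ZMod 11) (k : ZMod 11) : ZMod 11 :=
  col (mobM a b c d (some k)) (mobM a b c d none)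

def InvM (a b c d : ZMod 11) : Prop :=
  ∀ x y : Option (ZMod 11), x ≠ y →
    col (mobM a b c d x) (mobM a b c d y) = cactM a b c d (col x y)

instance decInvM (a b c d : ZMod 11) : Decidable (InvM a b c d) := by unfold InvM; infer_instance

set_option maxRecDepth 100000 in
theorem invM_upper : ∀ t : ZMod 11, InvM 1 t 0 1 := by decide

set_option maxRecDepth 100000 in
theorem invM_lower : ∀ t : ZMod 11, InvM 1 0 t 1 := by decide

instance fact11 : Fact (Nat.Prime 11) := ⟨by norm_num⟩

theorem inv_eq_pow9 (x : ZMod 11) : x⁻¹ = x ^ 9 := by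
  by_cases hx : x = 0
  · subst hx; simp
  · have h := ZMod.pow_card_sub_one_eq_one hx
    symm
    apply eq_inv_of_mul_eq_one_left
    rw [← pow_succ]
    exact h

abbrev SL11 := Matrix.SpecialLinearGroup (Fin 2) (ZMod 11)

/-- the action of `SL₂(𝔽₁₁)` on the projective line -/
noncomputable def mobS (g : SL11) (x : OnePoint (ZMod 11)) : OnePoint (ZMod 11) :=
  (Matrix.SpecialLinearGroup.toGL g) • x

theorem mobS_one (x : OnePoint (ZMod 11)) : mobS 1 x = x := by
  unfold mobS; rw [map_one, one_smul]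

theorem mobS_mul (g h : SL11) (x : OnePoint (ZMod 11)) : mobS (g * h) x = mobS g (mobS h x) := by
  unfold mobS; rw [map_mul, mul_smul]

theorem mobS_injective (g : SL11) : Function.Injective (mobS g) := by
  intro x y h
  have := congrArg (mobS g⁻¹) h
  rwa [← mobS_mul, ← mobS_mul, inv_mul_cancel, mobS_one, mobS_one] at this

theorem mobS_eq_mobM (g : SL11) (x : OnePoint (ZMod 11)) :
    mobS g x = mobM (g.1 0 0) (g.1 0 1) (g.1 1 0) (g.1 1 1) x := by
  unfold mobS
  induction x using OnePoint.rec with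
  | infty =>
    rw [OnePoint.smul_infty_eq_ite]
    show _ = mobM _ _ _ _ none
    simp only [mobM, Matrix.SpecialLinearGroup.coe_GL_coe_matrix, div_eq_mul_inv, inv_eq_pow9]
    rfl
  | coe k =>
    rw [OnePoint.smul_some_eq_ite]
    show _ = mobM _ _ _ _ (some k)
    simp only [mobM, Matrix.SpecialLinearGroup.coe_GL_coe_matrix, div_eq_mul_inv, inv_eq_pow9]
    rfl
/-- invariance of the colouring under `g` -/
def Inv (g : SL11) : Prop := ∀ x y : OnePoint (ZMod 11), x ≠ y →
  col (mobS g x) (mobS g y) = col (mobS g (OnePoint.some (col x y))) (mobS g OnePoint.infty)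

theorem inv_of_invM (g : SL11) (h : InvM (g.1 0 0) (g.1 0 1) (g.1 1 0) (g.1 1 1)) : Inv g := by
  intro x y hxy
  rw [mobS_eq_mobM, mobS_eq_mobM, mobS_eq_mobM, mobS_eq_mobM]
  exact h x y hxy

theorem inv_one : Inv 1 := by
  intro x y _
  rw [mobS_one, mobS_one, mobS_one, mobS_one]
  rfl

theorem inv_transvection (i j : Fin 2) (hij : i ≠ j) (c : ZMod 11) :
    Inv (Matrix.SpecialLinearGroup.transvection hij c) := by
  apply inv_of_invM
  fin_cases i <;> fin_cases j
  · exact absurd rfl hij
  · have := invM_upper c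
    simpa [Matrix.SpecialLinearGroup.transvection_coe, Matrix.single] using this
  · have := invM_lower c
    simpa [Matrix.SpecialLinearGroup.transvection_coe, Matrix.single] using this
  · exact absurd rfl hij

theorem inv_mul (g h : SL11) (hg : Inv g) (hh : Inv h) : Inv (g * h) := by
  intro x y hxy
  have hne : (OnePoint.some (col x y) : OnePoint (ZMod 11)) ≠ OnePoint.infty :=
    OnePoint.coe_ne_infty _
  rw [mobS_mul, mobS_mul, mobS_mul, mobS_mul,
    hg _ _ ((mobS_injective h).ne hxy), hh x y hxy, hg _ _ ((mobS_injective h).ne hne)]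

theorem inv_all (g : SL11) : Inv g :=
  Cfsg.Agent.Lib.Helper5.transvection_induction Inv inv_one inv_transvection inv_mul g

/-- the action of `SL₂(𝔽₁₁)` on the eleven colours -/
noncomputable def cact (g : SL11) (k : ZMod 11) : ZMod 11 :=
  col (mobS g (OnePoint.some k)) (mobS g OnePoint.infty)

theorem cact_one (k : ZMod 11) : cact 1 k = k := by
  unfold cact; rw [mobS_one, mobS_one]; rfl

theorem cact_mul (g h : SL11) (k : ZMod 11) : cact (g * h) k = cact g (cact h k) := by
  unfold cact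
  have hne : (OnePoint.some k : OnePoint (ZMod 11)) ≠ OnePoint.infty := OnePoint.coe_ne_infty _
  rw [mobS_mul, mobS_mul, inv_all g _ _ ((mobS_injective h).ne hne)]

theorem cact_eq_cactM (g : SL11) (k : ZMod 11) :
    cact g k = cactM (g.1 0 0) (g.1 0 1) (g.1 1 0) (g.1 1 1) k := by
  unfold cact cactM
  rw [mobS_eq_mobM, mobS_eq_mobM]
  rfl

/-- the action on colours as a homomorphism -/
noncomputable def colHom : SL11 →* Equiv.Perm (ZMod 11) where
  toFun g := ⟨cact g, cact g⁻¹,
    fun k => by rw [← cact_mul, inv_mul_cancel, cact_one],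
    fun k => by rw [← cact_mul, mul_inv_cancel, cact_one]⟩
  map_one' := by ext k; exact cact_one k
  map_mul' g h := by ext k; exact cact_mul g h k

theorem colHom_apply (g : SL11) (k : ZMod 11) : colHom g k = cact g k := rfl

theorem colHom_scalar (g : SL11) (r : ZMod 11) (hr : Matrix.scalar (Fin 2) r = g.1) :
    colHom g = 1 := by
  have hr0 : r ≠ 0 := by
    rintro rfl
    have h := g.2
    rw [← hr] at h
    simp [Matrix.det_fin_two] at h
  have h10 : r ^ 10 = 1 := ZMod.pow_card_sub_one_eq_one hr0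
  ext k
  rw [colHom_apply, cact_eq_cactM, ← hr]
  simp only [Matrix.scalar_apply, Matrix.diagonal_apply_eq, Matrix.diagonal_apply_ne, ne_eq,
    zero_ne_one, one_ne_zero, not_false_eq_true, Fin.isValue]
  simp only [cactM, mobM, zero_mul, zero_add, hr0, if_false, if_true, add_zero]
  show r * k * r ^ 9 = _
  rw [Equiv.Perm.one_apply]
  calc r * k * r ^ 9 = k * r ^ 10 := by ring
    _ = k := by rw [h10, mul_one]



def p1 (k : ZMod 11) : Fin 5 := ![0, 0, 0, 1, 2, 1, 0, 1, 3, 0, 2] k
def p2 (k : ZMod 11) : Fin 5 := ![0, 3, 4, 4, 4, 3, 1, 2, 4, 2, 3] k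
def enc (i j : Fin 5) : ZMod 11 :=
  !![0, 6, 9, 1, 2; 6, 0, 7, 5, 3; 9, 7, 0, 10, 4; 1, 5, 10, 0, 8; 2, 3, 4, 8, 0] i j

def rhoFun (f : Fin 5 → Fin 5) (k : ZMod 11) : ZMod 11 := enc (f (p1 k)) (f (p2 k))

theorem enc_p (k : ZMod 11) : enc (p1 k) (p2 k) = k := by revert k; decide
theorem p_enc : ∀ i j : Fin 5, i ≠ j →
    (p1 (enc i j) = i ∧ p2 (enc i j) = j) ∨ (p1 (enc i j) = j ∧ p2 (enc i j) = i) := by decide
theorem enc_comm : ∀ i j : Fin 5, enc i j = enc j i := by decide
theorem enc_self : ∀ i : Fin 5, enc i i = 0 := by decide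
theorem p_eq : ∀ k : ZMod 11, p1 k = p2 k → k = 0 := by decide

theorem rhoFun_id (k : ZMod 11) : rhoFun id k = k := enc_p k

theorem p1_zero : p1 0 = 0 := by decide
theorem p2_zero : p2 0 = 0 := by decide

theorem rhoFun_zero (f : Fin 5 → Fin 5) : rhoFun f 0 = 0 := by
  unfold rhoFun
  rw [p1_zero, p2_zero]
  exact enc_self _

theorem rhoFun_comp (f g : Fin 5 → Fin 5) (hg : Function.Injective g) (k : ZMod 11) :
    rhoFun f (rhoFun g k) = rhoFun (f ∘ g) k := by
  by_cases h : g (p1 k) = g (p2 k)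
  · have hk : k = 0 := p_eq k (hg h)
    subst hk
    rw [rhoFun_zero, rhoFun_zero, rhoFun_zero]
  · show enc (f (p1 (enc (g (p1 k)) (g (p2 k))))) (f (p2 (enc (g (p1 k)) (g (p2 k))))) =
      enc (f (g (p1 k))) (f (g (p2 k)))
    rcases p_enc _ _ h with ⟨h1, h2⟩ | ⟨h1, h2⟩
    · rw [h1, h2]
    · rw [h1, h2, enc_comm]

/-- the action of `S₅` on the eleven colours (`0` and the ten 2-subsets) -/
def rho : Equiv.Perm (Fin 5) →* Equiv.Perm (ZMod 11) where
  toFun σ := ⟨rhoFun σ, rhoFun σ.symm,
    fun k => by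
      rw [rhoFun_comp _ _ σ.injective]
      have : (⇑σ.symm ∘ ⇑σ) = id := by ext x; simp
      rw [this, rhoFun_id],
    fun k => by
      rw [rhoFun_comp _ _ σ.symm.injective]
      have : (⇑σ ∘ ⇑σ.symm) = id := by ext x; simp
      rw [this, rhoFun_id]⟩
  map_one' := by
    ext k
    show rhoFun id k = k
    exact rhoFun_id k
  map_mul' σ τ := by
    ext k
    show rhoFun (⇑σ ∘ ⇑τ) k = rhoFun σ (rhoFun τ k)
    exact (rhoFun_comp σ τ τ.injective k).symm

theorem rho_apply (σ : Equiv.Perm (Fin 5)) (k : ZMod 11) : rho σ k = rhoFun σ k := rfl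

theorem rho_zero (σ : Equiv.Perm (Fin 5)) : rho σ 0 = 0 := rhoFun_zero _

/-- the 3-cycle `(0 1 2)` -/
def s3 : Equiv.Perm (Fin 5) := Equiv.swap 0 1 * Equiv.swap 1 2
/-- the 5-cycle `(0 1 2 3 4)` -/
def s5 : Equiv.Perm (Fin 5) := finRotate 5

theorem rho_s5 : ∀ k : ZMod 11, rhoFun s5 k = 3 * k := by decide

theorem s3_mem : s3 ∈ alternatingGroup (Fin 5) := by
  rw [Equiv.Perm.mem_alternatingGroup]; decide
theorem s5_mem : s5 ∈ alternatingGroup (Fin 5) := by
  rw [Equiv.Perm.mem_alternatingGroup]; decide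

def a3 : alternatingGroup (Fin 5) := ⟨s3, s3_mem⟩
def a5 : alternatingGroup (Fin 5) := ⟨s5, s5_mem⟩

theorem orderOf_a3 : orderOf a3 = 3 := by
  haveI : Fact (Nat.Prime 3) := ⟨by norm_num⟩
  apply orderOf_eq_prime
  · apply Subtype.ext; show s3 ^ 3 = 1; decide
  · intro h
    have := congrArg Subtype.val h
    revert this
    show s3 ≠ 1
    decide

theorem orderOf_a5 : orderOf a5 = 5 := by
  haveI : Fact (Nat.Prime 5) := ⟨by norm_num⟩
  apply orderOf_eq_prime
  · apply Subtype.ext; show s5 ^ 5 = 1; decide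
  · intro h
    have := congrArg Subtype.val h
    revert this
    show s5 ≠ 1
    decide

theorem not_comm_A5 : ¬ IsMulCommutative (alternatingGroup (Fin 5)) := by
  intro h
  have h1 : a3 * a5 = a5 * a3 := h.is_comm.comm a3 a5
  have h2 := congrArg Subtype.val h1
  revert h2
  show s3 * s5 ≠ s5 * s3
  decide
theorem card_A5 : Nat.card (alternatingGroup (Fin 5)) = 60 := by
  have h := two_mul_card_alternatingGroup (α := Fin 5)
  rw [Fintype.card_perm, Fintype.card_fin] at h
  rw [Nat.card_eq_fintype_card]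
  have : (5 : ℕ).factorial = 120 := by decide
  omega

theorem rho_s3_ne : rho s3 ≠ 1 := by
  intro h
  have h1 : rho s3 6 = 6 := by rw [h]; rfl
  rw [rho_apply] at h1
  revert h1
  decide

section abstract

variable {G : Type*} [Group G] [Finite G]

/-- restriction of `rho` to `A₅` -/
def rhoA : alternatingGroup (Fin 5) →* Equiv.Perm (ZMod 11) :=
  rho.comp (alternatingGroup (Fin 5)).subtype

theorem rhoA_injective : Function.Injective rhoA := by
  rw [← MonoidHom.ker_eq_bot_iff]
  rcases (MonoidHom.normal_ker rhoA).eq_bot_or_eq_top with h | h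
  · exact h
  · exfalso
    have : a3 ∈ rhoA.ker := by rw [h]; trivial
    rw [MonoidHom.mem_ker] at this
    exact rho_s3_ne this

theorem top_of_a3_a5 (T : Subgroup (alternatingGroup (Fin 5))) (h3 : a3 ∈ T) (h5 : a5 ∈ T) :
    T = ⊤ := by
  by_contra hne
  have hdvd := Cfsg.Agent.Lib.Helper17.two_mul_card_dvd_factorial_index_of_simple
    not_comm_A5 T hne
  rw [card_A5] at hdvd
  have hmul := Subgroup.card_mul_index T
  rw [card_A5] at hmul
  have d3 : 3 ∣ Nat.card T := by
    have := orderOf_dvd_natCard (⟨a3, h3⟩ : T)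
    rwa [Subgroup.orderOf_mk, orderOf_a3] at this
  have d5 : 5 ∣ Nat.card T := by
    have := orderOf_dvd_natCard (⟨a5, h5⟩ : T)
    rwa [Subgroup.orderOf_mk, orderOf_a5] at this
  have d15 : 15 ∣ Nat.card T :=
    Nat.Coprime.mul_dvd_of_dvd_of_dvd (by norm_num : Nat.Coprime 3 5) d3 d5
  have hpos : 0 < Nat.card T := Nat.card_pos
  have hge : 15 ≤ Nat.card T := Nat.le_of_dvd hpos d15
  have hidx : T.index ≤ 4 := by
    by_contra hlt
    push Not at hlt
    have : 15 * 5 ≤ Nat.card T * T.index := Nat.mul_le_mul hge hlt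
    omega
  have hfac : (T.index).factorial ≤ 24 := by
    have := Nat.factorial_le hidx
    simpa [Nat.factorial] using this
  have hfpos : 0 < (T.index).factorial := Nat.factorial_pos _
  have := Nat.le_of_dvd hfpos hdvd
  omega

theorem abstract_main (hG : Nat.card G = 660) (Φ : G →* Equiv.Perm (ZMod 11))
    (gs g3 g5 : G)
    (hs : ∀ k, Φ gs k = k + 1)
    (h3 : Φ g3 = rho s3)
    (h5 : Φ g5 = rho s5) :
    ∃ H : Subgroup G, H.index = 11 ∧ Nonempty (H ≃* alternatingGroup (Fin 5)) ∧
      MulAction.IsMultiplyPretransitive G (G ⧸ H) 2 := by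
  letI : MulAction G (ZMod 11) := MulAction.compHom (ZMod 11) Φ
  have smul_def' : ∀ (g : G) (k : ZMod 11), g • k = Φ g k := fun _ _ => rfl
  -- translations
  have hpow : ∀ (n : ℕ) (k : ZMod 11), Φ (gs ^ n) k = k + n := by
    intro n
    induction n with
    | zero => intro k; simp
    | succ n ih =>
      intro k
      rw [pow_succ, map_mul, Equiv.Perm.mul_apply, hs, ih]
      push_cast; ring
  have htr : ∀ a : ZMod 11, ∃ t : G, ∀ k, Φ t k = k + a := by
    intro a
    refine ⟨gs ^ a.val, fun k => ?_⟩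
    rw [hpow, ZMod.natCast_zmod_val]
  haveI : MulAction.IsPretransitive G (ZMod 11) := by
    constructor
    intro x y
    obtain ⟨t, ht⟩ := htr (y - x)
    exact ⟨t, by rw [smul_def', ht]; ring⟩
  refine ⟨MulAction.stabilizer G (0 : ZMod 11), ?_, ?_, ?_⟩
  · rw [MulAction.index_stabilizer_of_transitive, Nat.card_zmod]
  · -- the stabilizer is `A₅`
    have hidx : (MulAction.stabilizer G (0 : ZMod 11)).index = 11 := by
      rw [MulAction.index_stabilizer_of_transitive, Nat.card_zmod]
    have hcardH : Nat.card (MulAction.stabilizer G (0 : ZMod 11)) = 60 := by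
      have := Subgroup.card_mul_index (MulAction.stabilizer G (0 : ZMod 11))
      rw [hidx, hG] at this
      omega
    let ΦH : (MulAction.stabilizer G (0 : ZMod 11)) →* Equiv.Perm (ZMod 11) :=
      Φ.comp (MulAction.stabilizer G (0 : ZMod 11)).subtype
    have hg3 : g3 ∈ MulAction.stabilizer G (0 : ZMod 11) := by
      rw [MulAction.mem_stabilizer_iff, smul_def', h3, rho_zero]
    have hg5 : g5 ∈ MulAction.stabilizer G (0 : ZMod 11) := by
      rw [MulAction.mem_stabilizer_iff, smul_def', h5, rho_zero]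
    have hT : Subgroup.comap rhoA ΦH.range = ⊤ := by
      apply top_of_a3_a5
      · rw [Subgroup.mem_comap]
        exact ⟨⟨g3, hg3⟩, h3⟩
      · rw [Subgroup.mem_comap]
        exact ⟨⟨g5, hg5⟩, h5⟩
    have hle : rhoA.range ≤ ΦH.range := by
      rintro _ ⟨a, rfl⟩
      have : a ∈ Subgroup.comap rhoA ΦH.range := by rw [hT]; trivial
      exact this
    have hcardR : Nat.card rhoA.range = 60 := by
      have h1 : Nat.card rhoA.range = Nat.card (alternatingGroup (Fin 5)) :=
        Nat.card_range_of_injective rhoA_injective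
      rw [h1, card_A5]
    have hdvd : Nat.card ΦH.range ∣ 60 := hcardH ▸ Subgroup.card_range_dvd ΦH
    have hle2 : Nat.card ΦH.range ≤ 60 := Nat.le_of_dvd (by norm_num) hdvd
    have heq : rhoA.range = ΦH.range :=
      Subgroup.eq_of_le_of_card_ge hle (by rw [hcardR]; exact hle2)
    have hcardΦ : Nat.card ΦH.range = 60 := by rw [← heq, hcardR]
    have hinj : Function.Injective ΦH := by
      have hbij : Function.Bijective ΦH.rangeRestrict := by
        rw [Nat.bijective_iff_surjective_and_card]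
        exact ⟨ΦH.rangeRestrict_surjective, by rw [hcardH, hcardΦ]⟩
      intro x y hxy
      apply hbij.1
      exact Subtype.ext hxy
    exact ⟨(MonoidHom.ofInjective hinj).trans ((MulEquiv.subgroupCongr heq.symm).trans
      (MonoidHom.ofInjective rhoA_injective).symm)⟩
  · -- 2-transitivity
    have h5pow : ∀ (n : ℕ) (k : ZMod 11), Φ (g5 ^ n) k = 3 ^ n * k := by
      intro n
      induction n with
      | zero => intro k; simp
      | succ n ih =>
        intro k
        rw [pow_succ, map_mul, Equiv.Perm.mul_apply, h5, rho_apply, rho_s5, ih]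
        ring
    have hfix : ∀ k : ZMod 11, k ≠ 0 → ∃ h : G, Φ h 0 = 0 ∧ Φ h 9 = k := by
      have key : ∀ k : ZMod 11, k ≠ 0 →
          ∃ n : Fin 5, k = 3 ^ (n : ℕ) * 9 ∨ k = 3 ^ (n : ℕ) * 6 := by decide
      intro k hk
      obtain ⟨n, hn | hn⟩ := key k hk
      · refine ⟨g5 ^ (n : ℕ), ?_, ?_⟩
        · rw [h5pow]; ring
        · rw [h5pow, hn]
      · refine ⟨g5 ^ (n : ℕ) * g3, ?_, ?_⟩
        · rw [map_mul, Equiv.Perm.mul_apply, h3, rho_zero, h5pow]; ring
        · rw [map_mul, Equiv.Perm.mul_apply, h3, rho_apply,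
            (by decide : rhoFun s3 9 = 6), h5pow, hn]
    have two : ∀ {a b c d : ZMod 11}, a ≠ b → c ≠ d → ∃ g : G, g • a = c ∧ g • b = d := by
      intro a b c d hab hcd
      obtain ⟨ta, hta⟩ := htr a
      obtain ⟨tc, htc⟩ := htr c
      obtain ⟨hk, hk0, hk9⟩ := hfix (b - a) (sub_ne_zero.mpr hab.symm)
      obtain ⟨hl, hl0, hl9⟩ := hfix (d - c) (sub_ne_zero.mpr hcd.symm)
      have e1 : Φ ta⁻¹ a = 0 := by rw [map_inv, Equiv.Perm.inv_eq_iff_eq, hta, zero_add]
      have e2 : Φ ta⁻¹ b = b - a := by rw [map_inv, Equiv.Perm.inv_eq_iff_eq, hta]; ring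
      have e3 : Φ hk⁻¹ 0 = 0 := by rw [map_inv, Equiv.Perm.inv_eq_iff_eq, hk0]
      have e4 : Φ hk⁻¹ (b - a) = 9 := by rw [map_inv, Equiv.Perm.inv_eq_iff_eq, hk9]
      refine ⟨tc * hl * hk⁻¹ * ta⁻¹, ?_, ?_⟩
      · simp only [smul_def', map_mul, Equiv.Perm.mul_apply]
        rw [e1, e3, hl0, htc, zero_add]
      · simp only [smul_def', map_mul, Equiv.Perm.mul_apply]
        rw [e2, e4, hl9, htc]; ring
    rw [MulAction.is_two_pretransitive_iff]
    intro A B C D hAB hCD
    have hinj := MulAction.injective_ofQuotientStabilizer G (0 : ZMod 11)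
    obtain ⟨g, hg1, hg2⟩ := two (hinj.ne hAB) (hinj.ne hCD)
    refine ⟨g, hinj ?_, hinj ?_⟩
    · rw [MulAction.ofQuotientStabilizer_smul]; exact hg1
    · rw [MulAction.ofQuotientStabilizer_smul]; exact hg2

end abstract



def mS : SL11 := ⟨!![1, 1; 0, 1], by decide⟩
def m3 : SL11 := ⟨!![4, 9; 1, 8], by decide⟩
def m5 : SL11 := ⟨!![5, 0; 0, 9], by decide⟩

theorem cactM_S : ∀ k : ZMod 11, cactM 1 1 0 1 k = k + 1 := by decide
theorem cactM_3 : ∀ k : ZMod 11, cactM 4 9 1 8 k = rhoFun s3 k := by decide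
theorem cactM_5 : ∀ k : ZMod 11, cactM 5 0 0 9 k = rhoFun s5 k := by decide

theorem colHom_mS (k : ZMod 11) : colHom mS k = k + 1 := by
  rw [colHom_apply, cact_eq_cactM]
  exact cactM_S k

theorem colHom_m3 : colHom m3 = rho s3 := by
  ext k
  rw [colHom_apply, cact_eq_cactM, rho_apply]
  exact cactM_3 k

theorem colHom_m5 : colHom m5 = rho s5 := by
  ext k
  rw [colHom_apply, cact_eq_cactM, rho_apply]
  exact cactM_5 k


/-- Let F be a field with 11 elements. PSL_2(F) has a subgroup H of index 11 isomorphic to the alternating group A_5, and the action of PSL_2(F) on the cosets of H is 2-transitive (of degree 11). -/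
theorem result {F : Type*} [Field F] [Fintype F] (hF : Fintype.card F = 11) : ∃ H : Subgroup (Matrix.ProjectiveSpecialLinearGroup (Fin 2) F), H.index = 11 ∧ Nonempty (H ≃* alternatingGroup (Fin 5)) ∧ MulAction.IsMultiplyPretransitive (Matrix.ProjectiveSpecialLinearGroup (Fin 2) F) ((Matrix.ProjectiveSpecialLinearGroup (Fin 2) F) ⧸ H) 2 := by
  classical
  let e : F ≃+* ZMod 11 := (ZMod.ringEquivOfPrime F (by norm_num) hF).symm
  let ψ : Matrix.SpecialLinearGroup (Fin 2) F →* SL11 :=
    Matrix.SpecialLinearGroup.map e.toRingHom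
  let Φ0 : Matrix.SpecialLinearGroup (Fin 2) F →* Equiv.Perm (ZMod 11) := colHom.comp ψ
  have hker : Subgroup.center (Matrix.SpecialLinearGroup (Fin 2) F) ≤ Φ0.ker := by
    intro A hA
    obtain ⟨r, _, hr⟩ := Matrix.SpecialLinearGroup.mem_center_iff.mp hA
    rw [MonoidHom.mem_ker]
    apply colHom_scalar (ψ A) (e r)
    show _ = (A.1).map e
    rw [← hr]
    ext i j
    fin_cases i <;> fin_cases j <;> simp [Matrix.scalar_apply]
  let Φ : Matrix.ProjectiveSpecialLinearGroup (Fin 2) F →* Equiv.Perm (ZMod 11) :=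
    QuotientGroup.lift _ Φ0 hker
  have hsurj : ∀ m : SL11, ∃ g : Matrix.ProjectiveSpecialLinearGroup (Fin 2) F,
      Φ g = colHom m := by
    intro m
    refine ⟨QuotientGroup.mk (Matrix.SpecialLinearGroup.map e.symm.toRingHom m), ?_⟩
    show colHom (ψ (Matrix.SpecialLinearGroup.map e.symm.toRingHom m)) = colHom m
    congr 1
    ext i j
    simp [ψ]
  obtain ⟨gs, hgs⟩ := hsurj mS
  obtain ⟨g3, hg3⟩ := hsurj m3
  obtain ⟨g5, hg5⟩ := hsurj m5
  have h2 : (2 : F) ≠ 0 := by
    intro h
    have := congrArg e h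
    rw [map_ofNat, map_zero] at this
    revert this
    decide
  have hcard : Nat.card (Matrix.ProjectiveSpecialLinearGroup (Fin 2) F) = 660 := by
    have h1 := Cfsg.Agent.Lib.Helper5.card_PSL2_mul (F := F)
    rw [Cfsg.Agent.Lib.Helper5.card_center_SL2_of_two_ne_zero h2, hF] at h1
    omega
  exact abstract_main hcard Φ gs g3 g5 (fun k => by rw [hgs]; exact colHom_mS k)
    (hg3.trans colHom_m3) (hg5.trans colHom_m5)


end Cfsg.Agent.S2542
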