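import Cfsg.Statements.S2543
import Mathlib
import Cfsg.Agent.S2542
import Cfsg.Agent.Lib.Helper41.SL2Basic
import Cfsg.Agent.Lib.Helper41.SL2Conj
import Cfsg.Agent.Lib.Helper57.PSLMap

set_option autoImplicit false
open scoped Pointwise
open Cfsg

namespace Cfsg.Agent.S2543



open Cfsg.Agent.S2542
open scoped Pointwise

section abstract22

variable {G : Type*} [Group G]

/-- stabilizer of a colour under a permutation representation -/
def stab (Ψ : G →* Equiv.Perm (ZMod 11)) (c : ZMod 11) : Subgroup G :=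
  (MulAction.stabilizer (Equiv.Perm (ZMod 11)) c).comap Ψ

theorem mem_stab (Ψ : G →* Equiv.Perm (ZMod 11)) (c : ZMod 11) (g : G) :
    g ∈ stab Ψ c ↔ Ψ g c = c := Iff.rfl

theorem conj_stab (Ψ : G →* Equiv.Perm (ZMod 11)) (c : ZMod 11) (g : G) :
    MulAut.conj g • stab Ψ c = stab Ψ (Ψ g c) := by
  ext x
  rw [Subgroup.mem_pointwise_smul_iff_inv_smul_mem, mem_stab, mem_stab]
  simp only [MulAut.smul_def, MulAut.conj_inv_apply, map_mul, map_inv, Equiv.Perm.mul_apply]
  rw [Equiv.Perm.inv_eq_iff_eq]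

theorem top_of_orders (T : Subgroup (alternatingGroup (Fin 5))) (a b : alternatingGroup (Fin 5))
    (ha : a ∈ T) (hb : b ∈ T) (oa : orderOf a = 3) (ob : orderOf b = 5) :
    T = ⊤ := by
  by_contra hne
  have hdvd := Cfsg.Agent.Lib.Helper17.two_mul_card_dvd_factorial_index_of_simple
    not_comm_A5 T hne
  rw [card_A5] at hdvd
  have hmul := Subgroup.card_mul_index T
  rw [card_A5] at hmul
  have d3 : 3 ∣ Nat.card T := by
    have := orderOf_dvd_natCard (⟨a, ha⟩ : T)
    rwa [Subgroup.orderOf_mk, oa] at this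
  have d5 : 5 ∣ Nat.card T := by
    have := orderOf_dvd_natCard (⟨b, hb⟩ : T)
    rwa [Subgroup.orderOf_mk, ob] at this
  have d15 : 15 ∣ Nat.card T :=
    Nat.Coprime.mul_dvd_of_dvd_of_dvd (by norm_num : Nat.Coprime 3 5) d3 d5
  have hpos : 0 < Nat.card T := Nat.card_pos
  have hge : 15 ≤ Nat.card T := Nat.le_of_dvd hpos d15
  have hidx : T.index ≤ 4 := by
    by_contra hlt
    push Not at hlt
    have : 15 * 5 ≤ Nat.card T * T.index := Nat.mul_le_mul hge hlt
    omega
  have hfac : (T.index).factorial ≤ 24 := by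
    have := Nat.factorial_le hidx
    simpa [Nat.factorial] using this
  have hfpos : 0 < (T.index).factorial := Nat.factorial_pos _
  have := Nat.le_of_dvd hfpos hdvd
  omega

variable [Finite G]

/-- facts about a single permutation representation on 11 points with the three elements -/
theorem hom_facts (hG : Nat.card G = 660) (Φ : G →* Equiv.Perm (ZMod 11))
    (gs g3 g5 : G)
    (hs : ∀ k, Φ gs k = k + 1)
    (h3 : Φ g3 = rho s3)
    (h5 : Φ g5 = rho s5) :
    (∀ a b : ZMod 11, ∃ g : G, Φ g a = b) ∧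
    (∀ {a b c d : ZMod 11}, a ≠ b → c ≠ d → ∃ g : G, Φ g a = c ∧ Φ g b = d) ∧
    (∀ c : ZMod 11, Nat.card (stab Φ c) = 60) ∧
    (∀ c : ZMod 11, Nonempty (stab Φ c ≃* alternatingGroup (Fin 5))) := by
  letI : MulAction G (ZMod 11) := MulAction.compHom (ZMod 11) Φ
  have smul_def' : ∀ (g : G) (k : ZMod 11), g • k = Φ g k := fun _ _ => rfl
  have stab_eq : ∀ c : ZMod 11, stab Φ c = MulAction.stabilizer G c := by
    intro c; ext g; exact Iff.rfl
  -- translations
  have hpow : ∀ (n : ℕ) (k : ZMod 11), Φ (gs ^ n) k = k + n := by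
    intro n
    induction n with
    | zero => intro k; simp
    | succ n ih =>
      intro k
      rw [pow_succ, map_mul, Equiv.Perm.mul_apply, hs, ih]
      push_cast; ring
  have htr : ∀ a : ZMod 11, ∃ t : G, ∀ k, Φ t k = k + a := by
    intro a
    refine ⟨gs ^ a.val, fun k => ?_⟩
    rw [hpow, ZMod.natCast_zmod_val]
  have htrans : ∀ a b : ZMod 11, ∃ g : G, Φ g a = b := by
    intro x y
    obtain ⟨t, ht⟩ := htr (y - x)
    exact ⟨t, by rw [ht]; ring⟩
  haveI : MulAction.IsPretransitive G (ZMod 11) := by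
    constructor
    intro x y
    obtain ⟨t, ht⟩ := htrans x y
    exact ⟨t, ht⟩
  have hcard : ∀ c : ZMod 11, Nat.card (stab Φ c) = 60 := by
    intro c
    have hidx : (MulAction.stabilizer G c).index = 11 := by
      rw [MulAction.index_stabilizer_of_transitive, Nat.card_zmod]
    have := Subgroup.card_mul_index (MulAction.stabilizer G c)
    rw [hidx, hG] at this
    rw [stab_eq]
    omega
  have hiso0 : Nonempty (stab Φ 0 ≃* alternatingGroup (Fin 5)) := by
    have hcardH : Nat.card (stab Φ 0) = 60 := hcard 0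
    let ΦH : (stab Φ 0) →* Equiv.Perm (ZMod 11) := Φ.comp (stab Φ 0).subtype
    have hg3 : g3 ∈ stab Φ 0 := by rw [mem_stab, h3, rho_zero]
    have hg5 : g5 ∈ stab Φ 0 := by rw [mem_stab, h5, rho_zero]
    have hT : Subgroup.comap rhoA ΦH.range = ⊤ := by
      apply top_of_a3_a5
      · rw [Subgroup.mem_comap]
        exact ⟨⟨g3, hg3⟩, h3⟩
      · rw [Subgroup.mem_comap]
        exact ⟨⟨g5, hg5⟩, h5⟩
    have hle : rhoA.range ≤ ΦH.range := by
      rintro _ ⟨a, rfl⟩
      have : a ∈ Subgroup.comap rhoA ΦH.range := by rw [hT]; trivial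
      exact this
    have hcardR : Nat.card rhoA.range = 60 := by
      have h1 : Nat.card rhoA.range = Nat.card (alternatingGroup (Fin 5)) :=
        Nat.card_range_of_injective rhoA_injective
      rw [h1, card_A5]
    have hdvd : Nat.card ΦH.range ∣ 60 := hcardH ▸ Subgroup.card_range_dvd ΦH
    have hle2 : Nat.card ΦH.range ≤ 60 := Nat.le_of_dvd (by norm_num) hdvd
    have heq : rhoA.range = ΦH.range :=
      Subgroup.eq_of_le_of_card_ge hle (by rw [hcardR]; exact hle2)
    have hcardΦ : Nat.card ΦH.range = 60 := by rw [← heq, hcardR]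
    have hinj : Function.Injective ΦH := by
      have hbij : Function.Bijective ΦH.rangeRestrict := by
        rw [Nat.bijective_iff_surjective_and_card]
        exact ⟨ΦH.rangeRestrict_surjective, by rw [hcardH, hcardΦ]⟩
      intro x y hxy
      apply hbij.1
      exact Subtype.ext hxy
    exact ⟨(MonoidHom.ofInjective hinj).trans ((MulEquiv.subgroupCongr heq.symm).trans
      (MonoidHom.ofInjective rhoA_injective).symm)⟩
  refine ⟨htrans, ?_, hcard, ?_⟩
  · -- 2-transitivity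
    have h5pow : ∀ (n : ℕ) (k : ZMod 11), Φ (g5 ^ n) k = 3 ^ n * k := by
      intro n
      induction n with
      | zero => intro k; simp
      | succ n ih =>
        intro k
        rw [pow_succ, map_mul, Equiv.Perm.mul_apply, h5, rho_apply, rho_s5, ih]
        ring
    have hfix : ∀ k : ZMod 11, k ≠ 0 → ∃ h : G, Φ h 0 = 0 ∧ Φ h 9 = k := by
      have key : ∀ k : ZMod 11, k ≠ 0 →
          ∃ n : Fin 5, k = 3 ^ (n : ℕ) * 9 ∨ k = 3 ^ (n : ℕ) * 6 := by decide
      intro k hk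
      obtain ⟨n, hn | hn⟩ := key k hk
      · refine ⟨g5 ^ (n : ℕ), ?_, ?_⟩
        · rw [h5pow]; ring
        · rw [h5pow, hn]
      · refine ⟨g5 ^ (n : ℕ) * g3, ?_, ?_⟩
        · rw [map_mul, Equiv.Perm.mul_apply, h3, rho_zero, h5pow]; ring
        · rw [map_mul, Equiv.Perm.mul_apply, h3, rho_apply,
            (by decide : rhoFun s3 9 = 6), h5pow, hn]
    intro a b c d hab hcd
    obtain ⟨ta, hta⟩ := htr a
    obtain ⟨tc, htc⟩ := htr c
    obtain ⟨hk, hk0, hk9⟩ := hfix (b - a) (sub_ne_zero.mpr hab.symm)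
    obtain ⟨hl, hl0, hl9⟩ := hfix (d - c) (sub_ne_zero.mpr hcd.symm)
    have e1 : Φ ta⁻¹ a = 0 := by rw [map_inv, Equiv.Perm.inv_eq_iff_eq, hta, zero_add]
    have e2 : Φ ta⁻¹ b = b - a := by rw [map_inv, Equiv.Perm.inv_eq_iff_eq, hta]; ring
    have e3 : Φ hk⁻¹ 0 = 0 := by rw [map_inv, Equiv.Perm.inv_eq_iff_eq, hk0]
    have e4 : Φ hk⁻¹ (b - a) = 9 := by rw [map_inv, Equiv.Perm.inv_eq_iff_eq, hk9]
    refine ⟨tc * hl * hk⁻¹ * ta⁻¹, ?_, ?_⟩
    · simp only [map_mul, Equiv.Perm.mul_apply]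
      rw [e1, e3, hl0, htc, zero_add]
    · simp only [map_mul, Equiv.Perm.mul_apply]
      rw [e2, e4, hl9, htc]; ring
  · -- all stabilizers are `A₅`
    intro c
    obtain ⟨t, ht⟩ := htrans 0 c
    obtain ⟨f⟩ := hiso0
    have h1 : MulAut.conj t • stab Φ 0 = stab Φ c := by rw [conj_stab, ht]
    exact ⟨(MulEquiv.subgroupCongr h1.symm).trans
      ((Subgroup.equivSMul (MulAut.conj t) (stab Φ 0)).symm.trans f)⟩

end abstract22
/-- an involution of `A₅` whose product with `a3` has order 5 -/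
def sx : Equiv.Perm (Fin 5) := Equiv.swap 0 3 * Equiv.swap 1 4

theorem sx_mem : sx ∈ alternatingGroup (Fin 5) := by
  rw [Equiv.Perm.mem_alternatingGroup]; decide

def ax : alternatingGroup (Fin 5) := ⟨sx, sx_mem⟩

theorem ax_sq : ax ^ 2 = 1 := by
  apply Subtype.ext; show sx ^ 2 = 1; decide

theorem ax_ne : ax ≠ 1 := by
  intro h
  have := congrArg Subtype.val h
  revert this
  show sx ≠ 1
  decide

theorem a3_cube : a3 ^ 3 = 1 := by
  rw [← orderOf_a3]; exact pow_orderOf_eq_one a3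

theorem a3_ne : a3 ≠ 1 := by
  intro h
  have := orderOf_a3
  rw [h, orderOf_one] at this
  omega

theorem orderOf_ax_a3 : orderOf (ax * a3) = 5 := by
  have : Fact (Nat.Prime 5) := ⟨by norm_num⟩
  apply orderOf_eq_prime
  · apply Subtype.ext; show (sx * s3) ^ 5 = 1; decide
  · intro h
    have := congrArg Subtype.val h
    revert this
    show sx * s3 ≠ 1
    decide

section abstract22'

variable {G : Type*} [Group G] [Finite G]

theorem abstract22 (hG : Nat.card G = 660) (Φ : Bool → (G →* Equiv.Perm (ZMod 11)))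
    (hel : ∀ i, ∃ gs g3 g5 : G, (∀ k, Φ i gs k = k + 1) ∧ Φ i g3 = rho s3 ∧ Φ i g5 = rho s5)
    (hF2 : ∀ u v : G, u ^ 2 = 1 → u ≠ 1 → v ^ 3 = 1 → v ≠ 1 → (u * v) ^ 5 = 1 → u * v ≠ 1 →
      ∃ i c, Φ i u c = c ∧ Φ i v c = c)
    (hF3 : ∀ c c' : ZMod 11, ∃ g : G, Φ true g c = c ∧ Φ false g c' ≠ c') :
    Nat.card {H : Subgroup G // Nonempty (H ≃* alternatingGroup (Fin 5))} = 22 ∧
    ∃ H K : Subgroup G, Nonempty (H ≃* alternatingGroup (Fin 5)) ∧
      Nonempty (K ≃* alternatingGroup (Fin 5)) ∧ (∀ g : G, MulAut.conj g • H ≠ K) ∧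
      ∀ L : Subgroup G, Nonempty (L ≃* alternatingGroup (Fin 5)) →
        ∃ g : G, MulAut.conj g • L = H ∨ MulAut.conj g • L = K := by
  have facts : ∀ i, (∀ a b : ZMod 11, ∃ g : G, Φ i g a = b) ∧
      (∀ {a b c d : ZMod 11}, a ≠ b → c ≠ d → ∃ g : G, Φ i g a = c ∧ Φ i g b = d) ∧
      (∀ c : ZMod 11, Nat.card (stab (Φ i) c) = 60) ∧
      (∀ c : ZMod 11, Nonempty (stab (Φ i) c ≃* alternatingGroup (Fin 5))) := by
    intro i
    obtain ⟨gs, g3, g5, hs, h3, h5⟩ := hel i
    exact hom_facts hG (Φ i) gs g3 g5 hs h3 h5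
  -- every `A₅` is a colour stabilizer
  have key1 : ∀ L : Subgroup G, Nonempty (L ≃* alternatingGroup (Fin 5)) →
      ∃ i c, L = stab (Φ i) c := by
    rintro L ⟨f⟩
    let j : alternatingGroup (Fin 5) →* G := L.subtype.comp f.symm.toMonoidHom
    have hj : Function.Injective j :=
      (Subgroup.subtype_injective L).comp f.symm.injective
    have hjL : ∀ a, j a ∈ L := fun a => (f.symm a).2
    have hsurj : ∀ x ∈ L, ∃ a, j a = x := by
      intro x hx
      refine ⟨f ⟨x, hx⟩, ?_⟩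
      show ((f.symm (f ⟨x, hx⟩) : L) : G) = x
      rw [f.symm_apply_apply]
    have hu2 : (j ax) ^ 2 = 1 := by rw [← map_pow, ax_sq, map_one]
    have hu1 : j ax ≠ 1 := fun h => ax_ne (hj (h.trans (map_one j).symm))
    have hv3 : (j a3) ^ 3 = 1 := by rw [← map_pow, a3_cube, map_one]
    have hv1 : j a3 ≠ 1 := fun h => a3_ne (hj (h.trans (map_one j).symm))
    have huv5 : (j ax * j a3) ^ 5 = 1 := by
      have h5 := pow_orderOf_eq_one (ax * a3)
      rw [orderOf_ax_a3] at h5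
      rw [← map_mul, ← map_pow, h5, map_one]
    have huv1 : j ax * j a3 ≠ 1 := by
      intro h
      rw [← map_mul] at h
      have h1 : ax * a3 = 1 := hj (h.trans (map_one j).symm)
      have := orderOf_ax_a3
      rw [h1, orderOf_one] at this
      omega
    obtain ⟨i, c, hu, hv⟩ := hF2 (j ax) (j a3) hu2 hu1 hv3 hv1 huv5 huv1
    refine ⟨i, c, ?_⟩
    have hT : Subgroup.comap j (stab (Φ i) c) = ⊤ := by
      apply top_of_orders _ a3 (ax * a3) _ _ orderOf_a3 orderOf_ax_a3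
      · exact hv
      · rw [Subgroup.mem_comap, map_mul]
        exact Subgroup.mul_mem _ hu hv
    have hle : L ≤ stab (Φ i) c := by
      intro x hx
      obtain ⟨a, rfl⟩ := hsurj x hx
      have : a ∈ Subgroup.comap j (stab (Φ i) c) := by rw [hT]; trivial
      exact this
    have hcL : Nat.card L = 60 := by rw [Nat.card_congr f.toEquiv, card_A5]
    exact Subgroup.eq_of_le_of_card_ge hle (by rw [hcL, (facts i).2.2.1 c])
  -- the 22 stabilizers are pairwise distinct
  have inj_same : ∀ i (c c' : ZMod 11), stab (Φ i) c = stab (Φ i) c' → c = c' := by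
    intro i c c' h
    by_contra hne
    have key : ∀ c c' : ZMod 11, ∃ d : ZMod 11, d ≠ c ∧ d ≠ c' := by decide
    obtain ⟨d, hd1, hd2⟩ := key c c'
    obtain ⟨g, hg1, hg2⟩ := (facts i).2.1 hne (Ne.symm hd1)
    have hmem : g ∈ stab (Φ i) c := hg1
    rw [h] at hmem
    have : Φ i g c' = c' := hmem
    rw [hg2] at this
    exact hd2 this
  have inj_diff : ∀ (c c' : ZMod 11), stab (Φ true) c ≠ stab (Φ false) c' := by
    intro c c' h
    obtain ⟨g, hg1, hg2⟩ := hF3 c c'
    have hmem : g ∈ stab (Φ true) c := hg1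
    rw [h] at hmem
    exact hg2 hmem
  constructor
  · -- counting
    let S : Bool × ZMod 11 → {H : Subgroup G // Nonempty (H ≃* alternatingGroup (Fin 5))} :=
      fun p => ⟨stab (Φ p.1) p.2, (facts p.1).2.2.2 p.2⟩
    have hS : Function.Bijective S := by
      constructor
      · rintro ⟨i, c⟩ ⟨i', c'⟩ h
        have h' : stab (Φ i) c = stab (Φ i') c' := congrArg Subtype.val h
        cases i <;> cases i'
        · rw [inj_same false c c' h']
        · exact absurd h'.symm (inj_diff c' c)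
        · exact absurd h' (inj_diff c c')
        · rw [inj_same true c c' h']
      · rintro ⟨L, hL⟩
        obtain ⟨i, c, hic⟩ := key1 L hL
        exact ⟨(i, c), Subtype.ext hic.symm⟩
    rw [← Nat.card_congr (Equiv.ofBijective S hS), Nat.card_prod, Nat.card_zmod]
    simp
  · refine ⟨stab (Φ true) 0, stab (Φ false) 0, (facts true).2.2.2 0, (facts false).2.2.2 0, ?_, ?_⟩
    · intro g
      rw [conj_stab]
      exact inj_diff _ _
    · intro L hL
      obtain ⟨i, c, rfl⟩ := key1 L hL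
      obtain ⟨g, hg⟩ := (facts i).1 c 0
      refine ⟨g, ?_⟩
      rw [conj_stab, hg]
      cases i
      · right; rfl
      · left; rfl

end abstract22'



open Cfsg.Agent.Lib.Helper41

abbrev G0 := Matrix.ProjectiveSpecialLinearGroup (Fin 2) (ZMod 11)

/-- the outer automorphism of `SL₂(𝔽₁₁)`: conjugation by `diag(-1, 1)` -/
def thetaHom : SL11 →* SL11 where
  toFun M := ⟨!![M.1 0 0, -M.1 0 1; -M.1 1 0, M.1 1 1], by
    have := M.2
    rw [Matrix.det_fin_two] at this ⊢
    simp only [Matrix.of_apply, Matrix.cons_val', Matrix.cons_val_zero, Matrix.cons_val_one,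
      Matrix.cons_val_fin_one]
    linear_combination this⟩
  map_one' := by
    ext i j; fin_cases i <;> fin_cases j <;> simp
  map_mul' A B := by
    apply Subtype.ext
    show !![(A * B).1 0 0, -(A * B).1 0 1; -(A * B).1 1 0, (A * B).1 1 1] =
      !![A.1 0 0, -A.1 0 1; -A.1 1 0, A.1 1 1] * !![B.1 0 0, -B.1 0 1; -B.1 1 0, B.1 1 1]
    rw [Matrix.SpecialLinearGroup.coe_mul]
    ext i j
    fin_cases i <;> fin_cases j <;>
      simp [Matrix.mul_apply, Fin.sum_univ_two] <;> ring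

theorem thetaHom_coe (M : SL11) :
    (thetaHom M).1 = !![M.1 0 0, -M.1 0 1; -M.1 1 0, M.1 1 1] := rfl

theorem thetaHom_thetaHom (M : SL11) : thetaHom (thetaHom M) = M := by
  ext i j
  fin_cases i <;> fin_cases j <;> simp [thetaHom_coe]

/-- the two actions on 11 colours -/
noncomputable def colHomB : Bool → (SL11 →* Equiv.Perm (ZMod 11))
  | true => colHom
  | false => colHom.comp thetaHom

def cactMB (i : Bool) (a b c d k : ZMod 11) : ZMod 11 :=
  match i with
  | true => cactM a b c d k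
  | false => cactM a (-b) (-c) d k

theorem colHomB_apply (i : Bool) (g : SL11) (k : ZMod 11) :
    colHomB i g k = cactMB i (g.1 0 0) (g.1 0 1) (g.1 1 0) (g.1 1 1) k := by
  cases i
  · show colHom (thetaHom g) k = _
    rw [colHom_apply, cact_eq_cactM, thetaHom_coe]
    rfl
  · show colHom g k = _
    rw [colHom_apply, cact_eq_cactM]
    rfl

theorem center_le_ker (i : Bool) :
    Subgroup.center SL11 ≤ (colHomB i).ker := by
  intro A hA
  obtain ⟨r, _, hr⟩ := Matrix.SpecialLinearGroup.mem_center_iff.mp hA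
  rw [MonoidHom.mem_ker]
  cases i
  · show colHom (thetaHom A) = 1
    apply colHom_scalar _ r
    rw [thetaHom_coe, ← hr]
    ext i j
    fin_cases i <;> fin_cases j <;> simp [Matrix.scalar_apply]
  · exact colHom_scalar A r hr

/-- the two actions of `PSL₂(𝔽₁₁)` on 11 colours -/
noncomputable def pslHomB (i : Bool) : G0 →* Equiv.Perm (ZMod 11) :=
  QuotientGroup.lift _ (colHomB i) (center_le_ker i)

theorem pslHomB_mk (i : Bool) (g : SL11) :
    pslHomB i (QuotientGroup.mk g) = colHomB i g := rfl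

theorem hel0 : ∀ i, ∃ gs g3 g5 : G0, (∀ k, pslHomB i gs k = k + 1) ∧ pslHomB i g3 = rho s3 ∧
    pslHomB i g5 = rho s5 := by
  intro i
  cases i
  · refine ⟨QuotientGroup.mk (thetaHom mS), QuotientGroup.mk (thetaHom m3),
      QuotientGroup.mk (thetaHom m5), ?_, ?_, ?_⟩
    · intro k
      rw [pslHomB_mk]
      show colHom (thetaHom (thetaHom mS)) k = _
      rw [thetaHom_thetaHom]; exact colHom_mS k
    · rw [pslHomB_mk]
      show colHom (thetaHom (thetaHom m3)) = _
      rw [thetaHom_thetaHom]; exact colHom_m3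
    · rw [pslHomB_mk]
      show colHom (thetaHom (thetaHom m5)) = _
      rw [thetaHom_thetaHom]; exact colHom_m5
  · exact ⟨QuotientGroup.mk mS, QuotientGroup.mk m3, QuotientGroup.mk m5,
      fun k => colHom_mS k, colHom_m3, colHom_m5⟩
/-! ### distinctness of the two families -/

def Tm (c : ZMod 11) : SL11 := ⟨!![1, c; 0, 1], by simp [Matrix.det_fin_two]⟩

theorem cactM_T : ∀ c k : ZMod 11, cactM 1 c 0 1 k = k + c := by decide
theorem cactM_T' : ∀ c k : ZMod 11, cactM 1 (-c) (-0) 1 k = k - c := by decide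
theorem cactMB_m5 : ∀ k : ZMod 11, cactMB false 5 0 0 9 k = 3 * k := by decide
theorem cactMB_m3 : cactMB false 4 9 1 8 0 ≠ 0 := by decide
theorem three_mul_ne : ∀ k : ZMod 11, k ≠ 0 → 3 * k ≠ k := by decide

theorem colHomB_T_true (c k : ZMod 11) : colHomB true (Tm c) k = k + c := by
  rw [colHomB_apply]; exact cactM_T c k

theorem colHomB_T_false (c k : ZMod 11) : colHomB false (Tm c) k = k - c := by
  rw [colHomB_apply]; exact cactM_T' c k

theorem colHomB_m5_false (k : ZMod 11) : colHomB false m5 k = 3 * k := by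
  rw [colHomB_apply]; exact cactMB_m5 k

theorem colHomB_m3_false : colHomB false m3 0 ≠ 0 := by
  rw [colHomB_apply]; exact cactMB_m3

theorem hF3_0 : ∀ c c' : ZMod 11, ∃ g : G0, pslHomB true g c = c ∧ pslHomB false g c' ≠ c' := by
  intro c c'
  have aux : ∀ h : SL11, colHomB true h 0 = 0 → colHomB false h (c' + c) ≠ c' + c →
      ∃ g : G0, pslHomB true g c = c ∧ pslHomB false g c' ≠ c' := by
    intro h h0 hne
    refine ⟨QuotientGroup.mk (Tm c * h * (Tm c)⁻¹), ?_, ?_⟩
    · rw [pslHomB_mk, map_mul, map_mul, map_inv, Equiv.Perm.mul_apply, Equiv.Perm.mul_apply]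
      have e1 : (colHomB true (Tm c))⁻¹ c = 0 := by
        rw [Equiv.Perm.inv_eq_iff_eq, colHomB_T_true, zero_add]
      rw [e1, h0, colHomB_T_true, zero_add]
    · rw [pslHomB_mk, map_mul, map_mul, map_inv, Equiv.Perm.mul_apply, Equiv.Perm.mul_apply]
      have e1 : (colHomB false (Tm c))⁻¹ c' = c' + c := by
        rw [Equiv.Perm.inv_eq_iff_eq, colHomB_T_false]; ring
      rw [e1, colHomB_T_false]
      intro hcon
      apply hne
      linear_combination hcon
  by_cases hz : c' + c = 0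
  · apply aux m3
    · show colHom m3 0 = 0
      rw [colHom_m3, rho_zero]
    · rw [hz]; exact colHomB_m3_false
  · apply aux m5
    · show colHom m5 0 = 0
      rw [colHom_m5, rho_zero]
    · rw [colHomB_m5_false]; exact three_mul_ne _ hz
/-! ### traces of elements of small order -/

theorem pow_two_eq (A : SL11) : A.1 ^ 2 = tr2 A • A.1 - 1 := by
  rw [pow_two]; exact cayley_hamilton A

theorem pow_three_eq (A : SL11) :
    A.1 ^ 3 = (tr2 A ^ 2 - 1) • A.1 - tr2 A • (1 : Matrix (Fin 2) (Fin 2) (ZMod 11)) := by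
  have h2 := pow_two_eq A
  rw [pow_succ, h2, sub_mul, smul_mul_assoc, one_mul, ← pow_two, h2]
  module

theorem pow_five_eq (A : SL11) :
    A.1 ^ 5 = (tr2 A ^ 4 - 3 * tr2 A ^ 2 + 1) • A.1 -
      (tr2 A ^ 3 - 2 * tr2 A) • (1 : Matrix (Fin 2) (Fin 2) (ZMod 11)) := by
  have h2 := pow_two_eq A
  have h3 := pow_three_eq A
  rw [show (5 : ℕ) = 3 + 2 from rfl, pow_add, h3, h2]
  simp only [sub_mul, mul_sub, smul_mul_assoc, mul_smul_comm, one_mul, mul_one, ← pow_two, h2]
  module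

theorem mk_eq_one_of_smul (A : SL11) (α γ : ZMod 11) (hα : α ≠ 0)
    (h : α • A.1 = γ • (1 : Matrix (Fin 2) (Fin 2) (ZMod 11))) :
    (QuotientGroup.mk A : G0) = 1 := by
  have hA : A.1 = (α⁻¹ * γ) • (1 : Matrix (Fin 2) (Fin 2) (ZMod 11)) := by
    rw [mul_smul, ← h, smul_smul, inv_mul_cancel₀ hα, one_smul]
  rw [QuotientGroup.eq_one_iff, Matrix.SpecialLinearGroup.mem_center_iff]
  refine ⟨α⁻¹ * γ, ?_, ?_⟩
  · have hd := A.2
    rw [hA, Matrix.det_smul, Matrix.det_one, mul_one] at hd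
    simpa using hd
  · rw [hA]
    ext i j
    simp [Matrix.scalar_apply, Matrix.one_apply, Matrix.diagonal_apply]

theorem tr_of_order_two (A : SL11) (h2 : (QuotientGroup.mk A : G0) ^ 2 = 1)
    (h1 : (QuotientGroup.mk A : G0) ≠ 1) : tr2 A = 0 := by
  by_contra ht
  rw [mk_pow_eq_one_iff, pow_two_eq] at h2
  rcases h2 with h | h
  · exact h1 (mk_eq_one_of_smul A (tr2 A) 2 ht (by
      have : tr2 A • A.1 = (1 : Matrix (Fin 2) (Fin 2) (ZMod 11)) + 1 := by
        exact sub_eq_iff_eq_add.mp h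
      rw [this]; module))
  · exact h1 (mk_eq_one_of_smul A (tr2 A) 0 ht (by
      have : tr2 A • A.1 = (-1 : Matrix (Fin 2) (Fin 2) (ZMod 11)) + 1 := by
        exact sub_eq_iff_eq_add.mp h
      rw [this]; module))

theorem tr_of_order_three (A : SL11) (h3 : (QuotientGroup.mk A : G0) ^ 3 = 1)
    (h1 : (QuotientGroup.mk A : G0) ≠ 1) : tr2 A * tr2 A = 1 := by
  by_contra ht
  have hα : tr2 A ^ 2 - 1 ≠ 0 := by
    intro h0
    apply ht
    linear_combination h0
  rw [mk_pow_eq_one_iff, pow_three_eq] at h3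
  rcases h3 with h | h
  · exact h1 (mk_eq_one_of_smul A _ (1 + tr2 A) hα (by
      have : (tr2 A ^ 2 - 1) • A.1 = (1 : Matrix (Fin 2) (Fin 2) (ZMod 11)) +
          tr2 A • (1 : Matrix (Fin 2) (Fin 2) (ZMod 11)) := by
        exact sub_eq_iff_eq_add.mp h
      rw [this]; module))
  · exact h1 (mk_eq_one_of_smul A _ (-1 + tr2 A) hα (by
      have : (tr2 A ^ 2 - 1) • A.1 = (-1 : Matrix (Fin 2) (Fin 2) (ZMod 11)) +
          tr2 A • (1 : Matrix (Fin 2) (Fin 2) (ZMod 11)) := by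
        exact sub_eq_iff_eq_add.mp h
      rw [this]; module))

theorem tr_of_order_five (A : SL11) (h5 : (QuotientGroup.mk A : G0) ^ 5 = 1)
    (h1 : (QuotientGroup.mk A : G0) ≠ 1) : tr2 A ^ 4 - 3 * tr2 A ^ 2 + 1 = 0 := by
  by_contra hα
  rw [mk_pow_eq_one_iff, pow_five_eq] at h5
  rcases h5 with h | h
  · exact h1 (mk_eq_one_of_smul A _ (1 + (tr2 A ^ 3 - 2 * tr2 A)) hα (by
      have : (tr2 A ^ 4 - 3 * tr2 A ^ 2 + 1) • A.1 = (1 : Matrix (Fin 2) (Fin 2) (ZMod 11)) +
          (tr2 A ^ 3 - 2 * tr2 A) • (1 : Matrix (Fin 2) (Fin 2) (ZMod 11)) := by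
        exact sub_eq_iff_eq_add.mp h
      rw [this]; module))
  · exact h1 (mk_eq_one_of_smul A _ (-1 + (tr2 A ^ 3 - 2 * tr2 A)) hα (by
      have : (tr2 A ^ 4 - 3 * tr2 A ^ 2 + 1) • A.1 = (-1 : Matrix (Fin 2) (Fin 2) (ZMod 11)) +
          (tr2 A ^ 3 - 2 * tr2 A) • (1 : Matrix (Fin 2) (Fin 2) (ZMod 11)) := by
        exact sub_eq_iff_eq_add.mp h
      rw [this]; module))
/-! ### conjugating an involution to the standard one -/

def W0 : SL11 := ⟨!![0, -1; 1, 0], by simp [Matrix.det_fin_two]⟩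

theorem quad_rep : ∀ a b c : ZMod 11, -a * a - b * c = 1 →
    ∃ v₁ v₂ : ZMod 11, c * v₁ * v₁ - 2 * a * v₁ * v₂ - b * v₂ * v₂ = 1 := by decide

theorem conj_to_W0 (U : SL11) (ht : tr2 U = 0) : ∃ P : SL11, U = P * W0 * P⁻¹ := by
  have hdet := sl2_det U
  have hd : U.1 1 1 = -U.1 0 0 := by
    unfold tr2 at ht
    linear_combination ht
  obtain ⟨v₁, v₂, hv⟩ := quad_rep (U.1 0 0) (U.1 0 1) (U.1 1 0) (by
    rw [hd] at hdet; linear_combination hdet)
  let P : SL11 := ⟨!![v₁, U.1 0 0 * v₁ + U.1 0 1 * v₂; v₂, U.1 1 0 * v₁ - U.1 0 0 * v₂], by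
    rw [Matrix.det_fin_two]
    simp only [Matrix.of_apply, Matrix.cons_val', Matrix.cons_val_zero, Matrix.cons_val_one,
      Matrix.cons_val_fin_one]
    linear_combination hv⟩
  refine ⟨P, ?_⟩
  rw [eq_mul_inv_iff_mul_eq]
  apply Subtype.ext
  rw [Matrix.SpecialLinearGroup.coe_mul, Matrix.SpecialLinearGroup.coe_mul]
  have hU : U.1 = !![U.1 0 0, U.1 0 1; U.1 1 0, U.1 1 1] := Matrix.eta_fin_two U.1
  have hsq : U.1 0 0 * U.1 0 0 + U.1 0 1 * U.1 1 0 = -1 := by
    rw [hd] at hdet; linear_combination -hdet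
  show U.1 * !![v₁, U.1 0 0 * v₁ + U.1 0 1 * v₂; v₂, U.1 1 0 * v₁ - U.1 0 0 * v₂] =
    !![v₁, U.1 0 0 * v₁ + U.1 0 1 * v₂; v₂, U.1 1 0 * v₁ - U.1 0 0 * v₂] * !![0, -1; 1, 0]
  ext i j
  fin_cases i <;> fin_cases j
  · simp [Matrix.mul_apply, Fin.sum_univ_two]
  · simp [Matrix.mul_apply, Fin.sum_univ_two]
    linear_combination v₁ * hsq
  · simp [Matrix.mul_apply, Fin.sum_univ_two]
    rw [hd]; ring
  · simp [Matrix.mul_apply, Fin.sum_univ_two]
    rw [hd]; linear_combination v₂ * hsq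

theorem pairs_fix : ∀ t : ZMod 11, t * t = 1 → ∀ a b c : ZMod 11, a * (t - a) - b * c = 1 →
    (b - c) ^ 4 - 3 * (b - c) ^ 2 + 1 = 0 →
    ∃ (i : Bool) (k : ZMod 11), cactMB i 0 (-1) 1 0 k = k ∧ cactMB i a b c (t - a) k = k := by
  decide
theorem tr2_W0_mul (X : SL11) : tr2 (W0 * X) = X.1 0 1 - X.1 1 0 := by
  unfold tr2
  rw [Matrix.SpecialLinearGroup.coe_mul]
  show ((!![0, -1; 1, 0] : Matrix (Fin 2) (Fin 2) (ZMod 11)) * X.1) 0 0 +
    ((!![0, -1; 1, 0] : Matrix (Fin 2) (Fin 2) (ZMod 11)) * X.1) 1 1 = _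
  simp [Matrix.mul_apply, Fin.sum_univ_two]
  ring

theorem hF2_0 : ∀ u v : G0, u ^ 2 = 1 → u ≠ 1 → v ^ 3 = 1 → v ≠ 1 → (u * v) ^ 5 = 1 →
    u * v ≠ 1 → ∃ i c, pslHomB i u c = c ∧ pslHomB i v c = c := by
  intro u v hu2 hu1 hv3 hv1 huv5 huv1
  obtain ⟨U, rfl⟩ := QuotientGroup.mk_surjective u
  obtain ⟨V, rfl⟩ := QuotientGroup.mk_surjective v
  have htU : tr2 U = 0 := tr_of_order_two U hu2 hu1
  have htV : tr2 V * tr2 V = 1 := tr_of_order_three V hv3 hv1
  have htUV : tr2 (U * V) ^ 4 - 3 * tr2 (U * V) ^ 2 + 1 = 0 :=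
    tr_of_order_five (U * V) huv5 huv1
  obtain ⟨P, hP⟩ := conj_to_W0 U htU
  -- the conjugate of `V`
  set V' : SL11 := P⁻¹ * V * P with hV'
  have hV : V = P * V' * P⁻¹ := by rw [hV']; group
  have htV' : tr2 V' = tr2 V := by
    have := tr2_conj P⁻¹ V
    rwa [inv_inv] at this
  have hUV : U * V = P * (W0 * V') * P⁻¹ := by rw [hP, hV]; group
  have htWV : tr2 (W0 * V') = tr2 (U * V) := by
    rw [hUV]; exact (tr2_conj P (W0 * V')).symm
  have hd' : V'.1 1 1 = tr2 V - V'.1 0 0 := by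
    rw [← htV']; unfold tr2; ring
  have hdet' := sl2_det V'
  rw [hd'] at hdet'
  have htr' : (V'.1 0 1 - V'.1 1 0) ^ 4 - 3 * (V'.1 0 1 - V'.1 1 0) ^ 2 + 1 = 0 := by
    rw [← tr2_W0_mul, htWV]; exact htUV
  obtain ⟨i, k, hk1, hk2⟩ := pairs_fix (tr2 V) htV (V'.1 0 0) (V'.1 0 1) (V'.1 1 0) hdet' htr'
  have hW : colHomB i W0 k = k := by
    rw [colHomB_apply]
    exact hk1
  have hVk : colHomB i V' k = k := by
    rw [colHomB_apply, hd']
    exact hk2
  have hs : (colHomB i P)⁻¹ (colHomB i P k) = k := by rw [Equiv.Perm.inv_eq_iff_eq]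
  refine ⟨i, colHomB i P k, ?_, ?_⟩
  · rw [pslHomB_mk, hP, map_mul, map_mul, map_inv, Equiv.Perm.mul_apply, Equiv.Perm.mul_apply,
      hs, hW]
  · rw [pslHomB_mk, hV, map_mul, map_mul, map_inv, Equiv.Perm.mul_apply, Equiv.Perm.mul_apply,
      hs, hVk]



/-- Let F be a field with 11 elements. PSL_2(F) has exactly 22 subgroups isomorphic to the alternating group A_5, and they form two conjugacy classes: there are two such subgroups that are not conjugate, and every such subgroup is conjugate to one of these two. -/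
theorem result {F : Type*} [Field F] [Fintype F] (hF : Fintype.card F = 11) : Nat.card {H : Subgroup (Matrix.ProjectiveSpecialLinearGroup (Fin 2) F) // Nonempty (H ≃* alternatingGroup (Fin 5))} = 22 ∧ ∃ H K : Subgroup (Matrix.ProjectiveSpecialLinearGroup (Fin 2) F), Nonempty (H ≃* alternatingGroup (Fin 5)) ∧ Nonempty (K ≃* alternatingGroup (Fin 5)) ∧ (∀ g : Matrix.ProjectiveSpecialLinearGroup (Fin 2) F, MulAut.conj g • H ≠ K) ∧ ∀ L : Subgroup (Matrix.ProjectiveSpecialLinearGroup (Fin 2) F), Nonempty (L ≃* alternatingGroup (Fin 5)) → ∃ g : Matrix.ProjectiveSpecialLinearGroup (Fin 2) F, MulAut.conj g • L = H ∨ MulAut.conj g • L = K := by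
  classical
  let e : F ≃+* ZMod 11 := (ZMod.ringEquivOfPrime F (by norm_num) hF).symm
  let ψ : Matrix.ProjectiveSpecialLinearGroup (Fin 2) F ≃* G0 :=
    Cfsg.Agent.Lib.Helper57.pslMapEquiv e
  have h2 : (2 : F) ≠ 0 := by
    intro h
    have := congrArg e h
    rw [map_ofNat, map_zero] at this
    revert this
    decide
  have hcard : Nat.card (Matrix.ProjectiveSpecialLinearGroup (Fin 2) F) = 660 := by
    have h1 := Cfsg.Agent.Lib.Helper5.card_PSL2_mul (F := F)
    rw [Cfsg.Agent.Lib.Helper5.card_center_SL2_of_two_ne_zero h2, hF] at h1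
    omega
  apply abstract22 hcard (fun i => (pslHomB i).comp ψ.toMonoidHom)
  · intro i
    obtain ⟨gs, g3, g5, h1, h2, h3⟩ := hel0 i
    refine ⟨ψ.symm gs, ψ.symm g3, ψ.symm g5, ?_, ?_, ?_⟩
    · intro k
      show pslHomB i (ψ (ψ.symm gs)) k = _
      rw [ψ.apply_symm_apply]; exact h1 k
    · show pslHomB i (ψ (ψ.symm g3)) = _
      rw [ψ.apply_symm_apply]; exact h2
    · show pslHomB i (ψ (ψ.symm g5)) = _
      rw [ψ.apply_symm_apply]; exact h3
  · intro u v hu2 hu1 hv3 hv1 huv5 huv1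
    exact hF2_0 (ψ u) (ψ v) (by rw [← map_pow, hu2, map_one])
      ((MulEquiv.map_ne_one_iff ψ).mpr hu1) (by rw [← map_pow, hv3, map_one])
      ((MulEquiv.map_ne_one_iff ψ).mpr hv1) (by rw [← map_mul, ← map_pow, huv5, map_one])
      (by rw [← map_mul]; exact (MulEquiv.map_ne_one_iff ψ).mpr huv1)
  · intro c c'
    obtain ⟨g, hg1, hg2⟩ := hF3_0 c c'
    refine ⟨ψ.symm g, ?_, ?_⟩
    · show pslHomB true (ψ (ψ.symm g)) c = c
      rw [ψ.apply_symm_apply]; exact hg1
    · show pslHomB false (ψ (ψ.symm g)) c' ≠ c'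
      rw [ψ.apply_symm_apply]; exact hg2


end Cfsg.Agent.S2543
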