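import Cfsg.Statements.S2544
import Mathlib
-- import your own Cfsg.Agent.* helpers here
import Cfsg.Agent.Lib.Helper5.GLUPSL

set_option autoImplicit false
open Cfsg

namespace Cfsg.Agent.S2544


/-- Let F be a finite field of characteristic p and consider the projective special linear group PSL_n(F) with n ≥ 2. This group has an irreducible complex character χ whose degree equals the order of a Sylow p-subgroup (namely q^(n(n−1)/2) when #F = q) and whose restriction to any Sylow p-subgroup P is the regular character of P: χ vanishes on the non-identity elements of P. (This is the Steinberg character.) -/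
theorem result {F : Type*} [Field F] [Fintype F] (p : ℕ) [Fact p.Prime] [CharP F p] (n : ℕ) (hn : 2 ≤ n) : ∃ χ : Matrix.ProjectiveSpecialLinearGroup (Fin n) F → ℂ, Cfsg.IsIrrCharacter (Matrix.ProjectiveSpecialLinearGroup (Fin n) F) χ ∧ ∀ P : Sylow p (Matrix.ProjectiveSpecialLinearGroup (Fin n) F), χ 1 = Nat.card P ∧ ∀ x : Matrix.ProjectiveSpecialLinearGroup (Fin n) F, x ∈ P → x ≠ 1 → χ x = 0 := by
  classical
  have hn0 : 0 < n := by omega
  obtain ⟨χ, hirr, hχ⟩ := Cfsg.Agent.Lib.Helper5.GLU.exists_unipotent_PSL (F := F) hn0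
    (fun _ => 1) (fun _ _ _ => le_rfl) (by simp)
  refine ⟨χ, hirr, fun P => ⟨?_, ?_⟩⟩
  · have h1 : χ 1 = χ (QuotientGroup.mk (1 : Matrix.SpecialLinearGroup (Fin n) F)) := rfl
    rw [h1, hχ, map_one, Cfsg.Agent.Lib.Helper5.GLU.steinberg_degree,
      Cfsg.Agent.Lib.Helper5.GLU.card_sylow_PSL p hn0 P]
  · intro x hx hx1
    obtain ⟨s, rfl⟩ := QuotientGroup.mk_surjective x
    rw [hχ]
    apply Cfsg.Agent.Lib.Helper5.GLU.steinberg_vanish p
    rw [orderOf_injective (Matrix.SpecialLinearGroup.toGL :
      Matrix.SpecialLinearGroup (Fin n) F →* GL (Fin n) F) Matrix.SpecialLinearGroup.toGL_injective]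
    have h1 : orderOf (QuotientGroup.mk' (Subgroup.center (Matrix.SpecialLinearGroup (Fin n) F)) s) ∣
        orderOf s := orderOf_map_dvd _ s
    refine Dvd.dvd.trans ?_ h1
    obtain ⟨k, hk⟩ := P.isPGroup' ⟨_, hx⟩
    have hk' : (QuotientGroup.mk' (Subgroup.center (Matrix.SpecialLinearGroup (Fin n) F)) s) ^ p ^ k = 1 := by
      have := congrArg Subtype.val hk
      simpa using this
    have h2 := orderOf_dvd_of_pow_eq_one hk'
    obtain ⟨j, hj, hj'⟩ := (Nat.dvd_prime_pow (Fact.out : p.Prime)).mp h2
    rcases Nat.eq_zero_or_pos j with h0 | hpos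
    · exfalso
      rw [h0, pow_zero, orderOf_eq_one_iff] at hj'
      exact hx1 hj'
    · rw [hj']
      exact dvd_pow_self p (by omega)

end Cfsg.Agent.S2544
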