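import Cfsg.Statements.S2550
import Cfsg.Agent.Lib.Helper57.SpecPSL33

set_option autoImplicit false
open Cfsg

namespace Cfsg.Agent.S2550

open Cfsg.Agent.Lib.Helper57 Matrix

/-! ### Orders -/

lemma card_PSL42 {F : Type*} [Field F] [Fintype F] (hF : Fintype.card F = 2) :
    Nat.card (Matrix.ProjectiveSpecialLinearGroup (Fin 4) F) = 20160 := by
  have h := card_PSL_formula (F := F) 4 (by norm_num)
  rw [hF, Fin.prod_univ_four] at h
  norm_num at h
  omega

lemma card_PSL34 {K : Type*} [Field K] [Fintype K] (hK : Fintype.card K = 4) :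
    Nat.card (Matrix.ProjectiveSpecialLinearGroup (Fin 3) K) = 20160 := by
  have h := card_PSL_formula (F := K) 3 (by norm_num)
  rw [hK, Fin.prod_univ_three] at h
  norm_num at h
  omega

/-! ### An element of order 15 in `PSL₄(2)` -/

/-- The companion matrix of `x⁴ + x + 1`. -/
def m15 : SpecialLinearGroup (Fin 4) (ZMod 2) :=
  ⟨!![0, 0, 0, 1; 1, 0, 0, 1; 0, 1, 0, 0; 0, 0, 1, 0], by decide⟩

lemma orderOf_m15 : orderOf m15 = 15 := by
  apply orderOf_eq_of_pow_and_pow_div_prime (by norm_num)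
  · decide
  · intro q hq hd
    have h35 : q = 3 ∨ q = 5 := by
      have h : q ∣ 3 * 5 := hd
      rcases (Nat.Prime.dvd_mul hq).1 h with h | h
      · left; exact (Nat.prime_dvd_prime_iff_eq hq Nat.prime_three).1 h
      · right; exact (Nat.prime_dvd_prime_iff_eq hq Nat.prime_five).1 h
    rcases h35 with rfl | rfl
    · decide
    · decide

lemma exists_orderOf_15 {F : Type*} [Field F] [Fintype F] (hF : Fintype.card F = 2) :
    ∃ y : Matrix.ProjectiveSpecialLinearGroup (Fin 4) F, orderOf y = 15 := by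
  classical
  have hc : Subgroup.center (SpecialLinearGroup (Fin 4) F) = ⊥ := by
    rw [← Subgroup.card_eq_one, card_center_SL 4 (by norm_num), hF]
    norm_num
  have : Fact (Nat.Prime 2) := ⟨Nat.prime_two⟩
  let e := (pslEquivSL hc).trans (slMapEquiv (ZMod.ringEquivOfPrime F Nat.prime_two hF).symm)
  exact ⟨e.symm m15, by rw [e.symm.orderOf_eq, orderOf_m15]⟩

/-! ### Element orders in `PSL₃(4)` -/

lemma chIter_map' {R S : Type*} [CommRing R] [CommRing S] (f : R →+* S) (t s : R) (k : ℕ) :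
    chIter (f t) (f s) k = (f (chIter t s k).1, f (chIter t s k).2.1, f (chIter t s k).2.2) := by
  induction k with
  | zero => simp [chIter]
  | succ k ih => simp [chIter, chStep, ih]

instance fact_irred : Fact (∀ r : ZMod 2, r ^ 2 ≠ (1 : ZMod 2) + 1 * r) := ⟨by decide⟩

/-- The field with four elements. -/
abbrev K4 : Type := QuadraticAlgebra (ZMod 2) 1 1

instance finite_K4 : Finite K4 :=
  Finite.of_equiv _ (QuadraticAlgebra.equivProd (1 : ZMod 2) (1 : ZMod 2)).symm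

noncomputable instance fintype_K4 : Fintype K4 := Fintype.ofFinite _

lemma card_K4 : Fintype.card K4 = 4 := by
  rw [Fintype.card_congr (QuadraticAlgebra.equivProd (1 : ZMod 2) (1 : ZMod 2))]
  simp

/-- `x ^ k` is a scalar modulo `x³ - t x² + s x - 1`. -/
def IsScalarAt {R : Type*} [CommRing R] (t s : R) (k : ℕ) : Prop :=
  (chIter t s k).1 = 0 ∧ (chIter t s k).2.1 = 0

instance decIsScalarAt {R : Type*} [CommRing R] [DecidableEq R] (t s : R) (k : ℕ) :
    Decidable (IsScalarAt t s k) :=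
  inferInstanceAs (Decidable (_ ∧ _))

lemma scalar_K4 : ∀ a b c d : ZMod 2,
    IsScalarAt (⟨a, b⟩ : K4) (⟨c, d⟩ : K4) 3 ∨ IsScalarAt (⟨a, b⟩ : K4) (⟨c, d⟩ : K4) 4 ∨
    IsScalarAt (⟨a, b⟩ : K4) (⟨c, d⟩ : K4) 5 ∨ IsScalarAt (⟨a, b⟩ : K4) (⟨c, d⟩ : K4) 7 := by
  decide +kernel

lemma scalar_card_four {K : Type*} [Field K] [Fintype K] (hK : Fintype.card K = 4) (t s : K) :
    IsScalarAt t s 3 ∨ IsScalarAt t s 4 ∨ IsScalarAt t s 5 ∨ IsScalarAt t s 7 := by
  have e : K ≃+* K4 := FiniteField.ringEquivOfCardEq (hK.trans card_K4.symm)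
  have key : ∀ k, IsScalarAt (e t) (e s) k → IsScalarAt t s k := by
    intro k hk
    have h1 := chIter_map' (e : K →+* K4) t s k
    simp only [RingEquiv.coe_toRingHom] at h1
    unfold IsScalarAt at hk ⊢
    rw [h1] at hk
    simpa using hk
  have h2 := scalar_K4 (e t).re (e t).im (e s).re (e s).im
  rcases h2 with h | h | h | h
  · exact Or.inl (key _ h)
  · exact Or.inr (Or.inl (key _ h))
  · exact Or.inr (Or.inr (Or.inl (key _ h)))
  · exact Or.inr (Or.inr (Or.inr (key _ h)))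

lemma pow_eq_one_of_isScalarAt {K : Type*} [Field K] (M : SpecialLinearGroup (Fin 3) K) (k : ℕ)
    (h : IsScalarAt ((M : Matrix (Fin 3) (Fin 3) K) 0 0 + (M : Matrix (Fin 3) (Fin 3) K) 1 1 +
        (M : Matrix (Fin 3) (Fin 3) K) 2 2)
      ((M : Matrix (Fin 3) (Fin 3) K) 0 0 * (M : Matrix (Fin 3) (Fin 3) K) 1 1 -
        (M : Matrix (Fin 3) (Fin 3) K) 0 1 * (M : Matrix (Fin 3) (Fin 3) K) 1 0 +
        ((M : Matrix (Fin 3) (Fin 3) K) 0 0 * (M : Matrix (Fin 3) (Fin 3) K) 2 2 -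
          (M : Matrix (Fin 3) (Fin 3) K) 0 2 * (M : Matrix (Fin 3) (Fin 3) K) 2 0) +
        ((M : Matrix (Fin 3) (Fin 3) K) 1 1 * (M : Matrix (Fin 3) (Fin 3) K) 2 2 -
          (M : Matrix (Fin 3) (Fin 3) K) 1 2 * (M : Matrix (Fin 3) (Fin 3) K) 2 1)) k) :
    (QuotientGroup.mk M : Matrix.ProjectiveSpecialLinearGroup (Fin 3) K) ^ k = 1 := by
  obtain ⟨ha, hb⟩ := h
  have h2 := pow_eq_chIter (M : Matrix (Fin 3) (Fin 3) K) M.2 k
  rw [ha, hb, zero_smul, zero_smul, zero_add, zero_add] at h2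
  rw [← QuotientGroup.mk_pow, QuotientGroup.eq_one_iff, Matrix.SpecialLinearGroup.mem_center_iff]
  set c := (chIter ((M : Matrix (Fin 3) (Fin 3) K) 0 0 + (M : Matrix (Fin 3) (Fin 3) K) 1 1 +
        (M : Matrix (Fin 3) (Fin 3) K) 2 2)
      ((M : Matrix (Fin 3) (Fin 3) K) 0 0 * (M : Matrix (Fin 3) (Fin 3) K) 1 1 -
        (M : Matrix (Fin 3) (Fin 3) K) 0 1 * (M : Matrix (Fin 3) (Fin 3) K) 1 0 +
        ((M : Matrix (Fin 3) (Fin 3) K) 0 0 * (M : Matrix (Fin 3) (Fin 3) K) 2 2 -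
          (M : Matrix (Fin 3) (Fin 3) K) 0 2 * (M : Matrix (Fin 3) (Fin 3) K) 2 0) +
        ((M : Matrix (Fin 3) (Fin 3) K) 1 1 * (M : Matrix (Fin 3) (Fin 3) K) 2 2 -
          (M : Matrix (Fin 3) (Fin 3) K) 1 2 * (M : Matrix (Fin 3) (Fin 3) K) 2 1)) k).2.2 with hc
  have h3 : ((M ^ k : SpecialLinearGroup (Fin 3) K) : Matrix (Fin 3) (Fin 3) K) =
      c • (1 : Matrix (Fin 3) (Fin 3) K) := by
    rw [Matrix.SpecialLinearGroup.coe_pow]
    exact h2
  refine ⟨c, ?_, ?_⟩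
  · have hdet : ((M ^ k : SpecialLinearGroup (Fin 3) K) : Matrix (Fin 3) (Fin 3) K).det = 1 :=
      (M ^ k).2
    rw [h3, Matrix.det_smul, Matrix.det_one, mul_one] at hdet
    simpa using hdet
  · rw [h3]
    ext i j
    simp [Matrix.scalar_apply, Matrix.smul_apply, Matrix.one_apply, Matrix.diagonal_apply]

lemma pow_cases_PSL34 {K : Type*} [Field K] [Fintype K] (hK : Fintype.card K = 4)
    (x : Matrix.ProjectiveSpecialLinearGroup (Fin 3) K) :
    x ^ 3 = 1 ∨ x ^ 4 = 1 ∨ x ^ 5 = 1 ∨ x ^ 7 = 1 := by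
  obtain ⟨M, rfl⟩ := QuotientGroup.mk_surjective x
  rcases scalar_card_four hK _ _ with h | h | h | h
  · exact Or.inl (pow_eq_one_of_isScalarAt M 3 h)
  · exact Or.inr (Or.inl (pow_eq_one_of_isScalarAt M 4 h))
  · exact Or.inr (Or.inr (Or.inl (pow_eq_one_of_isScalarAt M 5 h)))
  · exact Or.inr (Or.inr (Or.inr (pow_eq_one_of_isScalarAt M 7 h)))

/-- Let F be a field with 2 elements and K a field with 4 elements. PSL_4(F) and PSL_3(K) have the same order (20160) but are not isomorphic. -/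
theorem result {F K : Type*} [Field F] [Fintype F] [Field K] [Fintype K] (hF : Fintype.card F = 2) (hK : Fintype.card K = 4) : Nat.card (Matrix.ProjectiveSpecialLinearGroup (Fin 4) F) = Nat.card (Matrix.ProjectiveSpecialLinearGroup (Fin 3) K) ∧ ¬ Nonempty (Matrix.ProjectiveSpecialLinearGroup (Fin 4) F ≃* Matrix.ProjectiveSpecialLinearGroup (Fin 3) K) := by
  refine ⟨by rw [card_PSL42 hF, card_PSL34 hK], ?_⟩
  rintro ⟨φ⟩
  obtain ⟨y, hy⟩ := exists_orderOf_15 hF
  have hx : orderOf (φ y) = 15 := by rw [φ.orderOf_eq, hy]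
  rcases pow_cases_PSL34 hK (φ y) with h | h | h | h
  · have := orderOf_dvd_of_pow_eq_one h
    rw [hx] at this
    omega
  · have := orderOf_dvd_of_pow_eq_one h
    rw [hx] at this
    omega
  · have := orderOf_dvd_of_pow_eq_one h
    rw [hx] at this
    omega
  · have := orderOf_dvd_of_pow_eq_one h
    rw [hx] at this
    omega

end Cfsg.Agent.S2550
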