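import Cfsg.Statements.S2551
import Cfsg.Agent.Lib.Helper92.A7Trans
import Cfsg.Agent.Lib.Helper92.A7Embed

set_option autoImplicit false
open Cfsg

namespace Cfsg.Agent.S2551

open Cfsg.Agent.Lib.Helper92

/-- The permutation of the vectors induced by an invertible matrix. -/
def rho (F : Type*) [Field F] : Matrix.GeneralLinearGroup (Fin 4) F →* Equiv.Perm (Fin 4 → F) where
  toFun g :=
    { toFun := fun v => (g : Matrix (Fin 4) (Fin 4) F).mulVec v
      invFun := fun v => ((g⁻¹ : Matrix.GeneralLinearGroup (Fin 4) F) : Matrix (Fin 4) (Fin 4) F).mulVec v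
      left_inv := by
        intro v
        show ((g⁻¹ : Matrix.GeneralLinearGroup (Fin 4) F) : Matrix (Fin 4) (Fin 4) F).mulVec
          ((g : Matrix (Fin 4) (Fin 4) F).mulVec v) = v
        rw [Matrix.mulVec_mulVec, ← Units.val_mul, inv_mul_cancel, Units.val_one, Matrix.one_mulVec]
      right_inv := by
        intro v
        show (g : Matrix (Fin 4) (Fin 4) F).mulVec
          (((g⁻¹ : Matrix.GeneralLinearGroup (Fin 4) F) : Matrix (Fin 4) (Fin 4) F).mulVec v) = v
        rw [Matrix.mulVec_mulVec, ← Units.val_mul, mul_inv_cancel, Units.val_one, Matrix.one_mulVec] }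
  map_one' := by
    apply Equiv.ext
    intro v
    show ((1 : Matrix.GeneralLinearGroup (Fin 4) F) : Matrix (Fin 4) (Fin 4) F).mulVec v = v
    rw [Units.val_one, Matrix.one_mulVec]
  map_mul' g h := by
    apply Equiv.ext
    intro v
    show ((g * h : Matrix.GeneralLinearGroup (Fin 4) F) : Matrix (Fin 4) (Fin 4) F).mulVec v =
      (g : Matrix (Fin 4) (Fin 4) F).mulVec ((h : Matrix (Fin 4) (Fin 4) F).mulVec v)
    rw [Matrix.mulVec_mulVec, Units.val_mul]

theorem rho_apply {F : Type*} [Field F] (g : Matrix.GeneralLinearGroup (Fin 4) F) (v : Fin 4 → F) :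
    rho F g v = (g : Matrix (Fin 4) (Fin 4) F).mulVec v := rfl

theorem rho_injective {F : Type*} [Field F] : Function.Injective (rho F) := by
  intro g h hgh
  apply Units.ext
  apply Matrix.mulVec_injective
  funext v
  have := congrArg (fun p : Equiv.Perm (Fin 4 → F) => p v) hgh
  exact this

/-- Let F be the field with 2 elements. GL_4(F) (≅ A_8) has a subgroup isomorphic to the alternating group A_7, and every such subgroup acts 2-transitively on the 15 non-zero vectors of F⁴: any ordered pair of distinct non-zero vectors is carried to any other by some element of the subgroup. -/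
theorem result {F : Type*} [Field F] [Fintype F] (hF : Fintype.card F = 2) : (∃ H : Subgroup (Matrix.GeneralLinearGroup (Fin 4) F), Nonempty (H ≃* alternatingGroup (Fin 7))) ∧ ∀ H : Subgroup (Matrix.GeneralLinearGroup (Fin 4) F), Nonempty (H ≃* alternatingGroup (Fin 7)) → ∀ v w v' w' : Fin 4 → F, v ≠ 0 → w ≠ 0 → v ≠ w → v' ≠ 0 → w' ≠ 0 → v' ≠ w' → ∃ g ∈ H, (g : Matrix (Fin 4) (Fin 4) F).mulVec v = v' ∧ (g : Matrix (Fin 4) (Fin 4) F).mulVec w = w' := by
  classical
  constructor
  · obtain ⟨φ, hφ⟩ := A7Embed.exists_embedding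
    let e : ZMod 2 ≃+* F := ZMod.ringEquivOfPrime F Nat.prime_two hF
    let ψ : Matrix.GeneralLinearGroup (Fin 4) (ZMod 2) →* Matrix.GeneralLinearGroup (Fin 4) F :=
      Matrix.GeneralLinearGroup.map e.toRingHom
    have hψ : Function.Injective ψ := by
      intro a b hab
      apply Units.ext
      ext i j
      have h1 : (ψ a : Matrix (Fin 4) (Fin 4) F) i j = (ψ b : Matrix (Fin 4) (Fin 4) F) i j := by
        rw [hab]
      rw [Matrix.GeneralLinearGroup.map_apply, Matrix.GeneralLinearGroup.map_apply] at h1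
      exact e.injective h1
    have hinj : Function.Injective (ψ.comp φ) := hψ.comp hφ
    exact ⟨(ψ.comp φ).range, ⟨(MonoidHom.ofInjective hinj).symm⟩⟩
  · rintro H ⟨e⟩ v w v' w' hv hw hvw hv' hw' hvw'
    have hV : Fintype.card (Fin 4 → F) = 16 := by
      rw [Fintype.card_fun, hF, Fintype.card_fin]
      norm_num
    have hH : Nat.card H = 2520 := by
      rw [Nat.card_congr e.toEquiv, nat_card_alternatingGroup, Nat.card_eq_fintype_card,
        Fintype.card_fin]
      decide
    have hJ : Nat.card (H.map (rho F)) = 2520 := by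
      rw [← hH]
      exact (Nat.card_congr (H.equivMapOfInjective (rho F) rho_injective).toEquiv).symm
    have hadd : ∀ j ∈ H.map (rho F), A7Trans.IsAdd j := by
      rintro j ⟨g, -, rfl⟩ x y
      rw [rho_apply, rho_apply, rho_apply, Matrix.mulVec_add]
    obtain ⟨j, ⟨g, hg, rfl⟩, h1, h2⟩ :=
      A7Trans.two_transitive hV (H.map (rho F)) hadd hJ v w v' w' hv hw hvw hv' hw' hvw'
    exact ⟨g, hg, h1, h2⟩

end Cfsg.Agent.S2551
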