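import Cfsg.Statements.S2552
-- import your own Cfsg.Agent.* helpers here

set_option autoImplicit false
open Cfsg

namespace Cfsg.Agent.S2552

theorem exists_equiv_map {F V : Type*} [Field F] [AddCommGroup V] [Module F V] [FiniteDimensional F V]
    (U₁ U₂ : Submodule F V) (h : Module.finrank F U₁ = Module.finrank F U₂) :
    ∃ e : V ≃ₗ[F] V, U₁.map (e : V →ₗ[F] V) = U₂ := by
  obtain ⟨C₁, hC₁⟩ := Submodule.exists_isCompl U₁
  obtain ⟨C₂, hC₂⟩ := Submodule.exists_isCompl U₂
  have hC : Module.finrank F C₁ = Module.finrank F C₂ := by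
    have h1 := Submodule.finrank_add_eq_of_isCompl hC₁
    have h2 := Submodule.finrank_add_eq_of_isCompl hC₂
    omega
  let φ : U₁ ≃ₗ[F] U₂ := LinearEquiv.ofFinrankEq _ _ h
  let ψ : C₁ ≃ₗ[F] C₂ := LinearEquiv.ofFinrankEq _ _ hC
  let e : V ≃ₗ[F] V := (Submodule.prodEquivOfIsCompl U₁ C₁ hC₁).symm ≪≫ₗ (φ.prodCongr ψ) ≪≫ₗ
    (Submodule.prodEquivOfIsCompl U₂ C₂ hC₂)
  refine ⟨e, ?_⟩
  apply Submodule.eq_of_le_of_finrank_eq
  · rintro _ ⟨u, hu, rfl⟩
    have h1 : (Submodule.prodEquivOfIsCompl U₁ C₁ hC₁).symm u = ((⟨u, hu⟩ : U₁), 0) :=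
      Submodule.prodEquivOfIsCompl_symm_apply_left U₁ C₁ hC₁ ⟨u, hu⟩
    have h2 : e u = (φ ⟨u, hu⟩ : V) := by
      simp only [e, LinearEquiv.trans_apply, h1, LinearEquiv.prodCongr_apply, map_zero,
        Submodule.coe_prodEquivOfIsCompl', ZeroMemClass.coe_zero, add_zero]
    show e u ∈ U₂
    rw [h2]
    exact (φ ⟨u, hu⟩).2
  · rw [LinearEquiv.finrank_map_eq, h]

theorem dilation_det {F : Type*} [Field F] {n : ℕ} (v φ : Fin n → F) (c : F) :
    (1 + c • Matrix.vecMulVec v φ).det = 1 + c * (φ ⬝ᵥ v) := by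
  have h : c • Matrix.vecMulVec v φ = Matrix.replicateCol Unit (c • v) * Matrix.replicateRow Unit φ := by
    rw [← Matrix.vecMulVec_eq, Matrix.smul_vecMulVec]
  rw [h, Matrix.det_one_add_replicateCol_mul_replicateRow, dotProduct_smul, smul_eq_mul]

/-- Let F be a finite field and n ≥ 1. For every k, the special linear group SL_n(F) acts transitively on the set of k-dimensional subspaces of F^n: any two subspaces of the same dimension are carried onto each other by some matrix of determinant 1. -/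
theorem result {F : Type*} [Field F] [Fintype F] (n : ℕ) (hn : 1 ≤ n) (U₁ U₂ : Submodule F (Fin n → F)) (h : Module.finrank F U₁ = Module.finrank F U₂) : ∃ g : Matrix.SpecialLinearGroup (Fin n) F, U₁.map ((Matrix.SpecialLinearGroup.toLin' g : (Fin n → F) ≃ₗ[F] (Fin n → F)) : (Fin n → F) →ₗ[F] (Fin n → F)) = U₂ := by
  classical
  by_cases hU : U₁ = ⊥
  · -- both are trivial
    refine ⟨1, ?_⟩
    have h2 : U₂ = ⊥ := by
      rw [hU, finrank_bot] at h
      exact Submodule.finrank_eq_zero.mp h.symm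
    rw [hU, h2, Submodule.map_bot]
  · obtain ⟨v, hvU, hv0⟩ := (Submodule.ne_bot_iff U₁).mp hU
    obtain ⟨e, he⟩ := exists_equiv_map U₁ U₂ h
    set E : Matrix (Fin n) (Fin n) F := LinearMap.toMatrix' (e : (Fin n → F) →ₗ[F] (Fin n → F)) with hE
    have hδ : E.det ≠ 0 := by
      rw [hE, LinearMap.det_toMatrix']
      exact (LinearEquiv.isUnit_det' e).ne_zero
    -- a functional with φ v = 1
    obtain ⟨j, hj⟩ : ∃ j, v j ≠ 0 := by
      by_contra hcon
      push Not at hcon
      exact hv0 (funext hcon)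
    set φ : Fin n → F := Pi.single j (v j)⁻¹ with hφ
    have hφv : φ ⬝ᵥ v = 1 := by
      rw [hφ, single_dotProduct, inv_mul_cancel₀ hj]
    set S : Matrix (Fin n) (Fin n) F := 1 + (E.det⁻¹ - 1) • Matrix.vecMulVec v φ with hS
    have hSdet : S.det = E.det⁻¹ := by
      rw [hS, dilation_det, hφv]; ring
    have hdet : (E * S).det = 1 := by
      rw [Matrix.det_mul, hSdet, mul_inv_cancel₀ hδ]
    refine ⟨⟨E * S, hdet⟩, ?_⟩
    have hcoe : ((Matrix.SpecialLinearGroup.toLin' (⟨E * S, hdet⟩ : Matrix.SpecialLinearGroup (Fin n) F) :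
        (Fin n → F) ≃ₗ[F] (Fin n → F)) : (Fin n → F) →ₗ[F] (Fin n → F)) = Matrix.toLin' (E * S) :=
      Matrix.SpecialLinearGroup.toLin'_to_linearMap _
    rw [hcoe]
    rw [Matrix.toLin'_mul, Submodule.map_comp, hE, Matrix.toLin'_toMatrix']
    have hSU : Submodule.map (Matrix.toLin' S) U₁ = U₁ := by
      apply Submodule.eq_of_le_of_finrank_eq
      · rintro _ ⟨u, hu, rfl⟩
        rw [Matrix.toLin'_apply, hS, Matrix.add_mulVec, Matrix.one_mulVec, Matrix.smul_mulVec,
          Matrix.vecMulVec_mulVec, op_smul_eq_smul]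
        exact U₁.add_mem hu (U₁.smul_mem _ (U₁.smul_mem _ hvU))
      · have hinj : Function.Injective (Matrix.toLin' S) := by
          have hSne : S.det ≠ 0 := by rw [hSdet]; exact inv_ne_zero hδ
          intro a b hab
          rw [Matrix.toLin'_apply, Matrix.toLin'_apply] at hab
          exact Matrix.mulVec_injective_of_det_ne_zero hSne hab
        exact (LinearEquiv.finrank_eq (Submodule.equivMapOfInjective _ hinj U₁)).symm
    rw [hSU, he]

end Cfsg.Agent.S2552
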