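-- Statement S3103: X 2-constrained, O(X)=1, O_2(X) of sectional 2-rank <= 4  ==>  X/O_2(X) embeds in A_8.
-- Proof: X/O_2(X) acts faithfully on the Frattini quotient of O_2(X) (order <= 16), and
-- Aut of an elementary abelian group of order dividing 16 embeds in GL_4(2) = SL_4(2) = PSL_4(2) = A_8 (S0256).
import Mathlib
import Cfsg.Agent.S0256
import Cfsg.Agent.S5185
import Cfsg.Statements.S3103
import Cfsg.Agent.Lib.Helper53.FrattiniAut
import Cfsg.Agent.Lib.Helper54.PCores
import Cfsg.Agent.Lib.Helper97.PStable2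

set_option autoImplicit false
open Cfsg Matrix

namespace Cfsg.Agent.S3103

/-- a `ZMod p`-module of order `p ^ n` is `(ℤ/p)ⁿ` -/
theorem nonempty_addEquiv_pi_of_module {V : Type*} [AddCommGroup V] {p : ℕ} [hp : Fact p.Prime]
    [Module (ZMod p) V] [Finite V] {n : ℕ} (hcard : Nat.card V = p ^ n) :
    Nonempty (V ≃+ (Fin n → ZMod p)) := by
  have hfr : Module.finrank (ZMod p) V = n := by
    have h1 : Nat.card V = Nat.card (ZMod p) ^ Module.finrank (ZMod p) V :=
      Module.natCard_eq_pow_finrank (K := ZMod p) (V := V)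
    rw [hcard, Nat.card_zmod] at h1
    exact (Nat.pow_right_injective hp.out.two_le h1).symm
  let b := Module.finBasisOfFinrankEq (ZMod p) V hfr
  exact ⟨b.equivFun.toAddEquiv⟩

/-- An elementary abelian group of order `p ^ n` is isomorphic to `(ℤ/p)ⁿ`. -/
theorem nonempty_mulEquiv_pi_of_elementary {H : Type*} [Group H] [Finite H] {p : ℕ}
    [hp : Fact p.Prime] (hcomm : ∀ a b : H, a * b = b * a) (hexp : ∀ h : H, h ^ p = 1) {n : ℕ}
    (hcard : Nat.card H = p ^ n) : Nonempty (H ≃* Multiplicative (Fin n → ZMod p)) := by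
  let iC : CommGroup H := { (inferInstance : Group H) with mul_comm := hcomm }
  let iA : AddCommGroup (Additive H) := @Additive.addCommGroup H iC
  let iM : Module (ZMod p) (Additive H) := @AddCommGroup.zmodModule p (Additive H) iA (fun x => by
    show Additive.ofMul (x.toMul ^ p) = 0
    rw [hexp]; rfl)
  have iF : Finite (Additive H) := inferInstanceAs (Finite H)
  obtain ⟨e⟩ := @nonempty_addEquiv_pi_of_module (Additive H) iA p hp iM iF n hcard
  exact ⟨AddEquiv.toMultiplicativeRight e⟩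

/-- `Aut((ℤ/2)⁴) ≅ GL₄(𝔽_2)` -/
noncomputable def mulAutEquivGL4 :
    MulAut (Multiplicative (Fin 4 → ZMod 2)) ≃* GL (Fin 4) (ZMod 2) :=
  ((Cfsg.Agent.S5185.mulAutEquivLin 2 (Fin 4 → ZMod 2)).trans
    (LinearMap.GeneralLinearGroup.generalLinearEquiv (ZMod 2) (Fin 4 → ZMod 2)).symm).trans
      Matrix.GeneralLinearGroup.toLin.symm

lemma units_zmod_two (u : (ZMod 2)ˣ) : u = 1 := by
  revert u; decide

/-- `GL₄(𝔽_2) → SL₄(𝔽_2)` -/
noncomputable def glToSl : GL (Fin 4) (ZMod 2) →* SpecialLinearGroup (Fin 4) (ZMod 2) where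
  toFun g := ⟨(g : Matrix (Fin 4) (Fin 4) (ZMod 2)), by
    have h := units_zmod_two (Matrix.GeneralLinearGroup.det g)
    have h2 := congrArg Units.val h
    simpa using h2⟩
  map_one' := by ext; simp
  map_mul' a b := by
    apply Subtype.ext
    rfl

lemma glToSl_injective : Function.Injective glToSl := by
  intro a b h
  apply Units.ext
  have := congrArg Subtype.val h
  exact this

/-- `GL₄(𝔽_2) ↪ A₈` -/
theorem exists_gl4_to_alt8 :
    ∃ f : GL (Fin 4) (ZMod 2) →* ↥(alternatingGroup (Fin 8)), Function.Injective f := by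
  obtain ⟨φ⟩ := Cfsg.Agent.S0256.psl_ZMod2
  let π : SpecialLinearGroup (Fin 4) (ZMod 2) →* ProjectiveSpecialLinearGroup (Fin 4) (ZMod 2) :=
    QuotientGroup.mk' _
  have hπ : Function.Injective π := by
    rw [← MonoidHom.ker_eq_bot_iff, QuotientGroup.ker_mk']
    exact Cfsg.Agent.S0256.center_G
  exact ⟨φ.toMonoidHom.comp (π.comp glToSl), φ.injective.comp (hπ.comp glToSl_injective)⟩


/-- `Aut V → Aut (V × C)` -/
def autProd (V C : Type*) [Group V] [Group C] : MulAut V →* MulAut (V × C) where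
  toFun α := MulEquiv.prodCongr α (MulEquiv.refl C)
  map_one' := by ext x <;> rfl
  map_mul' α β := by ext x <;> rfl

lemma autProd_injective (V C : Type*) [Group V] [Group C] : Function.Injective (autProd V C) := by
  intro α β h
  ext v
  have := congrArg (fun γ : MulAut (V × C) => (γ (v, 1)).1) h
  exact this

theorem exists_aut_to_aut16 {V : Type*} [Group V] [Finite V] (hcomm : ∀ a b : V, a * b = b * a)
    (hexp : ∀ v : V, v ^ 2 = 1) (hcard : Nat.card V ≤ 16) :
    ∃ f : MulAut V →* MulAut (Multiplicative (Fin 4 → ZMod 2)), Function.Injective f := by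
  have : Fact (Nat.Prime 2) := ⟨Nat.prime_two⟩
  have hV2 : IsPGroup 2 V := fun v => ⟨1, by rw [pow_one]; exact hexp v⟩
  obtain ⟨n, hn⟩ := (IsPGroup.iff_card).mp hV2
  have hn4 : n ≤ 4 := by
    by_contra h
    push Not at h
    have : 2 ^ 5 ≤ 2 ^ n := Nat.pow_le_pow_right (by norm_num) h
    omega
  let C := Multiplicative (Fin (4 - n) → ZMod 2)
  have hCexp : ∀ c : C, c ^ 2 = 1 := by
    intro c
    show Multiplicative.ofAdd ((2 : ℕ) • c.toAdd) = 1
    have h0 : (2 : ℕ) • c.toAdd = 0 := by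
      ext i
      simp only [Pi.smul_apply, Pi.zero_apply, nsmul_eq_mul]
      have h2 : ((2 : ℕ) : ZMod 2) = 0 := ZMod.natCast_self 2
      rw [h2, zero_mul]
    rw [h0]; rfl
  have hW : Nat.card (V × C) = 2 ^ 4 := by
    rw [Nat.card_prod, hn]
    have : Nat.card C = 2 ^ (4 - n) := by
      show Nat.card (Multiplicative (Fin (4 - n) → ZMod 2)) = _
      rw [Nat.card_eq_fintype_card]
      simp [Fintype.card_pi]
    rw [this, ← pow_add]
    congr 1
    omega
  have hWcomm : ∀ a b : V × C, a * b = b * a := by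
    rintro ⟨a1, a2⟩ ⟨b1, b2⟩
    exact Prod.ext (hcomm a1 b1) (mul_comm a2 b2)
  have hWexp : ∀ w : V × C, w ^ 2 = 1 := by
    rintro ⟨a1, a2⟩
    exact Prod.ext (hexp a1) (hCexp a2)
  obtain ⟨e⟩ := nonempty_mulEquiv_pi_of_elementary hWcomm hWexp hW
  exact ⟨(MulAut.congr e).toMonoidHom.comp (autProd V C),
    (MulAut.congr e).injective.comp (autProd_injective V C)⟩

/-- The automorphism group of an elementary abelian `2`-group of order at most `16` embeds in `A₈`. -/
theorem exists_aut_to_alt8 {V : Type*} [Group V] [Finite V] (hcomm : ∀ a b : V, a * b = b * a)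
    (hexp : ∀ v : V, v ^ 2 = 1) (hcard : Nat.card V ≤ 16) :
    ∃ f : MulAut V →* ↥(alternatingGroup (Fin 8)), Function.Injective f := by
  obtain ⟨f1, hf1⟩ := exists_aut_to_aut16 hcomm hexp hcard
  obtain ⟨f2, hf2⟩ := exists_gl4_to_alt8
  exact ⟨f2.comp (mulAutEquivGL4.toMonoidHom.comp f1),
    hf2.comp (mulAutEquivGL4.injective.comp hf1)⟩


/-- the action of automorphisms on the quotient by a characteristic subgroup -/
noncomputable def autQuot {Q : Type*} [Group Q] (N : Subgroup Q) [N.Normal]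
    (hN : N.Characteristic) : MulAut Q →* MulAut (Q ⧸ N) where
  toFun α := QuotientGroup.congr N N α (Subgroup.characteristic_iff_map_eq.mp hN α)
  map_one' := by
    ext x
    induction x using QuotientGroup.induction_on
    rfl
  map_mul' α β := by
    ext x
    induction x using QuotientGroup.induction_on
    rfl

lemma autQuot_apply {Q : Type*} [Group Q] (N : Subgroup Q) [N.Normal]
    (hN : N.Characteristic) (α : MulAut Q) (q : Q) :
    autQuot N hN α (q : Q ⧸ N) = ((α q : Q) : Q ⧸ N) := rfl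

/-- Let X be a finite 2-constrained group with no nontrivial normal subgroup of odd order such that O₂(X) has sectional 2-rank at most 4. Then X/O₂(X) is isomorphic to a subgroup of the alternating group of degree 8. -/
theorem result {X : Type*} [Group X] [Finite X] (hc : Cfsg.IsPConstrained 2 X) (hO : Cfsg.oddCore X = ⊥)
    (h4 : Cfsg.SectionalPRankLE 2 4 ↥(Cfsg.pCore 2 X)) :
    ∃ f : X ⧸ Cfsg.pCore 2 X →* ↥(alternatingGroup (Fin 8)), Function.Injective f := by
  classical
  have hp2 : Fact (Nat.Prime 2) := ⟨Nat.prime_two⟩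
  have hQ2 : IsPGroup 2 ↥(Cfsg.pCore 2 X) := Cfsg.Agent.Lib.Helper76.pCore_isPGroup 2
  have hCQ : Subgroup.centralizer ((Cfsg.pCore 2 X : Subgroup X) : Set X) ≤ Cfsg.pCore 2 X :=
    (Cfsg.Agent.Lib.Helper54.isPConstrained_iff_of_pPrimeCore_eq_bot 2 hO).mp hc
  -- the Frattini quotient
  have hVcomm : ∀ a b : ↥(Cfsg.pCore 2 X) ⧸ frattini ↥(Cfsg.pCore 2 X), a * b = b * a := by
    intro a b
    induction a using QuotientGroup.induction_on with
    | H a =>
    induction b using QuotientGroup.induction_on with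
    | H b =>
    rw [← QuotientGroup.mk_mul, ← QuotientGroup.mk_mul, QuotientGroup.eq]
    have h := Cfsg.Agent.Lib.Helper97.commutatorElement_mem_frattini hQ2 b⁻¹ a⁻¹
    rw [commutatorElement_def] at h
    simpa [mul_assoc] using h
  have hVexp : ∀ v : ↥(Cfsg.pCore 2 X) ⧸ frattini ↥(Cfsg.pCore 2 X), v ^ 2 = 1 := by
    intro v
    induction v using QuotientGroup.induction_on with
    | H q =>
    rw [← QuotientGroup.mk_pow, QuotientGroup.eq_one_iff]
    exact Cfsg.Agent.Lib.Helper97.pow_prime_mem_frattini hQ2 q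
  have hVcard : Nat.card (↥(Cfsg.pCore 2 X) ⧸ frattini ↥(Cfsg.pCore 2 X)) ≤ 16 := by
    let H : Subgroup ↥(Cfsg.pCore 2 X) := ⊤
    let N : Subgroup ↥H := (frattini ↥(Cfsg.pCore 2 X)).subgroupOf H
    have hNn : N.Normal := inferInstance
    have hNmap : N.map (Subgroup.topEquiv : ↥H ≃* ↥(Cfsg.pCore 2 X)).toMonoidHom =
        frattini ↥(Cfsg.pCore 2 X) := by
      ext q
      constructor
      · rintro ⟨y, hy, rfl⟩
        exact hy
      · intro hq
        exact ⟨⟨q, Subgroup.mem_top q⟩, hq, rfl⟩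
    let e : ↥H ⧸ N ≃* ↥(Cfsg.pCore 2 X) ⧸ frattini ↥(Cfsg.pCore 2 X) :=
      QuotientGroup.congr N (frattini ↥(Cfsg.pCore 2 X)) Subgroup.topEquiv hNmap
    have hcomm' : ∀ a b : ↥H ⧸ N, a * b = b * a := by
      intro a b
      apply e.injective
      rw [map_mul, map_mul]
      exact hVcomm _ _
    have hexp' : ∀ a : ↥H ⧸ N, a ^ 2 = 1 := by
      intro a
      apply e.injective
      rw [map_pow, map_one]
      exact hVexp _
    have h := h4 H N ⊤ ⟨⟨fun a b => Subtype.ext (hcomm' a.1 b.1)⟩⟩ (fun a _ => hexp' a)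
    rw [Subgroup.card_top, Nat.card_congr e.toEquiv] at h
    exact h
  obtain ⟨f0, hf0⟩ := exists_aut_to_alt8 hVcomm hVexp hVcard
  -- the action on the Frattini quotient
  let ρ : X →* MulAut (↥(Cfsg.pCore 2 X) ⧸ frattini ↥(Cfsg.pCore 2 X)) :=
    (autQuot (frattini ↥(Cfsg.pCore 2 X)) frattini_characteristic).comp
      (MulAut.conjNormal (H := Cfsg.pCore 2 X))
  have hρ : ∀ (x : X) (q : ↥(Cfsg.pCore 2 X)),
      ρ x (q : ↥(Cfsg.pCore 2 X) ⧸ frattini ↥(Cfsg.pCore 2 X)) =
        ((MulAut.conjNormal x q : ↥(Cfsg.pCore 2 X)) :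
          ↥(Cfsg.pCore 2 X) ⧸ frattini ↥(Cfsg.pCore 2 X)) := fun x q => rfl
  have hker1 : Cfsg.pCore 2 X ≤ ρ.ker := by
    intro x hx
    rw [MonoidHom.mem_ker]
    ext v
    induction v using QuotientGroup.induction_on with
    | H q =>
    rw [hρ]
    have h1 : (MulAut.conjNormal x q : ↥(Cfsg.pCore 2 X)) = ⟨x, hx⟩ * q * ⟨x, hx⟩⁻¹ := by
      apply Subtype.ext
      simp [MulAut.conjNormal_apply]
    rw [h1, QuotientGroup.mk_mul, QuotientGroup.mk_mul, hVcomm (QuotientGroup.mk _) (QuotientGroup.mk q),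
      QuotientGroup.mk_inv, mul_inv_cancel_right]
    rfl
  have hker2 : ρ.ker ≤ Cfsg.pCore 2 X := by
    have hK2 : IsPGroup 2 ↥ρ.ker := by
      rw [IsPGroup.iff_card]
      refine ⟨_, Nat.eq_prime_pow_of_unique_prime_dvd Nat.card_pos.ne' ?_⟩
      intro r hr hrd
      by_contra hne
      have : Fact r.Prime := ⟨hr⟩
      obtain ⟨z, hz⟩ := exists_prime_orderOf_dvd_card' r hrd
      have hα1 : (MulAut.conjNormal (z : X) : MulAut ↥(Cfsg.pCore 2 X)) ^ r = 1 := by
        rw [← map_pow, ← Subgroup.coe_pow, ← hz, pow_orderOf_eq_one, Subgroup.coe_one, map_one]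
      have hα2 : ∀ q : ↥(Cfsg.pCore 2 X),
          q⁻¹ * MulAut.conjNormal (z : X) q ∈ frattini ↥(Cfsg.pCore 2 X) := by
        intro q
        have h1 : ρ (z : X) (q : ↥(Cfsg.pCore 2 X) ⧸ frattini ↥(Cfsg.pCore 2 X)) =
            (q : ↥(Cfsg.pCore 2 X) ⧸ frattini ↥(Cfsg.pCore 2 X)) := by
          rw [MonoidHom.mem_ker.mp z.2]; rfl
        rw [hρ] at h1
        exact QuotientGroup.eq.mp h1.symm
      have hα := Cfsg.Agent.Lib.Helper53.aut_eq_one_of_trivial_mod_frattini hQ2 _ r hne hα1 hα2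
      have hzC : (z : X) ∈ Subgroup.centralizer ((Cfsg.pCore 2 X : Subgroup X) : Set X) := by
        rw [Subgroup.mem_centralizer_iff]
        intro q hq
        have h2 := congrArg (fun β : MulAut ↥(Cfsg.pCore 2 X) => ((β ⟨q, hq⟩ : ↥(Cfsg.pCore 2 X)) : X)) hα
        simp only [MulAut.conjNormal_apply, MulAut.one_apply] at h2
        exact (mul_inv_eq_iff_eq_mul.mp h2).symm
      have hzQ := hCQ hzC
      obtain ⟨k, hk⟩ := hQ2 ⟨(z : X), hzQ⟩
      have h3 : orderOf (z : X) ∣ 2 ^ k := by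
        apply orderOf_dvd_of_pow_eq_one
        have := congrArg Subtype.val hk
        simpa using this
      rw [Subgroup.orderOf_coe, hz] at h3
      exact hne ((Nat.prime_dvd_prime_iff_eq hr Nat.prime_two).mp (hr.dvd_of_dvd_pow h3))
    exact le_sSup ⟨inferInstance, hK2⟩
  refine ⟨f0.comp (QuotientGroup.lift (Cfsg.pCore 2 X) ρ hker1), hf0.comp ?_⟩
  rw [injective_iff_map_eq_one]
  intro y hy
  induction y using QuotientGroup.induction_on with
  | H x =>
  rw [QuotientGroup.lift_mk] at hy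
  rw [QuotientGroup.eq_one_iff]
  exact hker2 (MonoidHom.mem_ker.mpr hy)

end Cfsg.Agent.S3103
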