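import Cfsg.Statements.S2553
import Cfsg.Agent.Lib.Helper92.SmallDegMain
import Cfsg.Agent.Lib.Helper92.Lin1344
import Cfsg.Agent.S3103

set_option autoImplicit false
open Cfsg

namespace Cfsg.Agent.S2553

/-- Let H be a nontrivial subgroup of GL(4,2) (a group isomorphic to the alternating group of degree 8) whose largest normal 2-subgroup and largest normal subgroup of odd order are both trivial. Then H is isomorphic to an alternating group of degree n for some 5 ≤ n ≤ 8, to the symmetric group of degree 5 or 6, or to GL(3,2). -/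
theorem result (H : Subgroup (GL (Fin 4) (ZMod 2))) (hH : H ≠ ⊥) (hO : Cfsg.pPrimeCore 2 ↥H = ⊥) (hO2 : Cfsg.pCore 2 ↥H = ⊥) :
    (∃ n : ℕ, 5 ≤ n ∧ n ≤ 8 ∧ Nonempty (↥H ≃* alternatingGroup (Fin n))) ∨
    Nonempty (↥H ≃* Equiv.Perm (Fin 5)) ∨ Nonempty (↥H ≃* Equiv.Perm (Fin 6)) ∨ Nonempty (↥H ≃* GL (Fin 3) (ZMod 2)) := by
  classical
  have hR : Cfsg.Agent.Lib.Helper92.RedG.Red ↥H := ⟨hO2, hO⟩
  obtain ⟨f, hf⟩ := Cfsg.Agent.S3103.exists_gl4_to_alt8
  let ψ : GL (Fin 4) (ZMod 2) →* Equiv.Perm (Fin 8) := (alternatingGroup (Fin 8)).subtype.comp f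
  have hψ : Function.Injective ψ := (alternatingGroup (Fin 8)).subtype_injective.comp hf
  let e : ↥H ≃* ↥(H.map ψ) := H.equivMapOfInjective ψ hψ
  have hKA : H.map ψ ≤ alternatingGroup (Fin 8) := by
    rintro _ ⟨g, -, rfl⟩
    exact (f g).2
  have hRK : Cfsg.Agent.Lib.Helper92.RedG.Red ↥(H.map ψ) := hR.of_mulEquiv e
  have hnt : Nontrivial ↥H := (Subgroup.nontrivial_iff_ne_bot H).mpr hH
  have hKnt : Nontrivial ↥(H.map ψ) := e.symm.toEquiv.nontrivial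
  rcases Cfsg.Agent.Lib.Helper92.SmallDeg.main_perm (H.map ψ) hKA hRK hKnt with
    ⟨n, h5, h8, ⟨e2⟩⟩ | ⟨⟨e2⟩⟩ | ⟨⟨e2⟩⟩ | ⟨⟨e2⟩⟩ | h1344
  · left
    exact ⟨n, h5, h8, ⟨e.trans e2⟩⟩
  · right; left
    exact ⟨e.trans e2⟩
  · right; right; left
    exact ⟨e.trans e2⟩
  · right; right; right
    exact ⟨e.trans e2⟩
  · exfalso
    exact Cfsg.Agent.Lib.Helper92.Lin1344.not_red_of_card_1344 H
      (by rw [Nat.card_congr e.toEquiv, h1344]) hR

end Cfsg.Agent.S2553
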