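import Cfsg.Statements.S2561
import Cfsg.Agent.Lib.Helper43.QuadF2Types

set_option autoImplicit false
open Cfsg

namespace Cfsg.Agent.S2561

open Cfsg.Agent.Lib.Helper43

theorem card_polarizing (m : ℕ) :
    Nat.card {q : (Fin m ⊕ Fin m → ZMod 2) → ZMod 2 //
      ∀ u v, q (u + v) = q u + q v + polarPlus m u v} = 2 ^ (2 * m) := by
  rw [← Nat.card_congr (plusShiftEquiv m), Nat.card_eq_fintype_card, card_space]

theorem type_dichotomy (k : ℕ) (q : (Fin (k + 1) ⊕ Fin (k + 1) → ZMod 2) → ZMod 2)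
    (hq : ∀ u v, q (u + v) = q u + q v + polarPlus (k + 1) u v) :
    (∃ g : (Fin (k + 1) ⊕ Fin (k + 1) → ZMod 2) ≃ₗ[ZMod 2] (Fin (k + 1) ⊕ Fin (k + 1) → ZMod 2),
      ∀ v, q v = Cfsg.quadFormPlus (k + 1) (ZMod 2) (g v)) ∨
    (∃ g : (Fin (k + 1) ⊕ Fin (k + 1) → ZMod 2) ≃ₗ[ZMod 2] ((Fin k ⊕ Fin k) ⊕ Fin 2 → ZMod 2),
      ∀ v, q v = Cfsg.quadFormMinus k (ZMod 2) 1 1 (g v)) := by
  obtain ⟨w, rfl⟩ := exists_plusShift_eq (k + 1) q hq
  rcases zmod2_eq_zero_or_one (Cfsg.quadFormPlus (k + 1) (ZMod 2) w) with h | h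
  · exact Or.inl (plusShift_plus_type (k + 1) w h)
  · exact Or.inr (plusShift_minus_type k w h)

theorem card_plus_type (m : ℕ) (hm : 1 ≤ m) :
    Nat.card {q : (Fin m ⊕ Fin m → ZMod 2) → ZMod 2 //
      (∀ u v, q (u + v) = q u + q v + polarPlus m u v) ∧
      ∃ g : (Fin m ⊕ Fin m → ZMod 2) ≃ₗ[ZMod 2] (Fin m ⊕ Fin m → ZMod 2),
        ∀ v, q v = Cfsg.quadFormPlus m (ZMod 2) (g v)} = 2 ^ (2 * m - 1) + 2 ^ (m - 1) := by
  classical
  rw [← zeroCount_quadFormPlus m hm]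
  have hbij : Function.Bijective
      (fun w : {w : Fin m ⊕ Fin m → ZMod 2 // Cfsg.quadFormPlus m (ZMod 2) w = 0} =>
        (⟨plusShift m w.1, plusShift_polar m w.1, plusShift_plus_type m w.1 w.2⟩ :
          {q : (Fin m ⊕ Fin m → ZMod 2) → ZMod 2 //
            (∀ u v, q (u + v) = q u + q v + polarPlus m u v) ∧
            ∃ g : (Fin m ⊕ Fin m → ZMod 2) ≃ₗ[ZMod 2] (Fin m ⊕ Fin m → ZMod 2),
              ∀ v, q v = Cfsg.quadFormPlus m (ZMod 2) (g v)})) := by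
    constructor
    · intro w w' h
      apply Subtype.ext
      exact plusShift_injective m (congrArg Subtype.val h)
    · rintro ⟨q, hq, hg⟩
      obtain ⟨w, rfl⟩ := exists_plusShift_eq m q hq
      have hw : Cfsg.quadFormPlus m (ZMod 2) w = 0 := by
        by_contra hne
        have h1 := (zmod2_eq_zero_or_one _).resolve_left hne
        exact plusShift_not_plus_type m w h1 hg
      exact ⟨⟨w, hw⟩, rfl⟩
  rw [← Nat.card_eq_of_bijective _ hbij, Nat.card_eq_fintype_card, Fintype.card_subtype]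
  rfl

theorem card_minus_type (k : ℕ) :
    Nat.card {q : (Fin (k + 1) ⊕ Fin (k + 1) → ZMod 2) → ZMod 2 //
      (∀ u v, q (u + v) = q u + q v + polarPlus (k + 1) u v) ∧
      ∃ g : (Fin (k + 1) ⊕ Fin (k + 1) → ZMod 2) ≃ₗ[ZMod 2] ((Fin k ⊕ Fin k) ⊕ Fin 2 → ZMod 2),
        ∀ v, q v = Cfsg.quadFormMinus k (ZMod 2) 1 1 (g v)}
      = 2 ^ (2 * (k + 1) - 1) - 2 ^ k := by
  classical
  have hbij : Function.Bijective
      (fun w : {w : Fin (k + 1) ⊕ Fin (k + 1) → ZMod 2 //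
          ¬ Cfsg.quadFormPlus (k + 1) (ZMod 2) w = 0} =>
        (⟨plusShift (k + 1) w.1, plusShift_polar (k + 1) w.1,
          plusShift_minus_type k w.1 ((zmod2_eq_zero_or_one _).resolve_left w.2)⟩ :
          {q : (Fin (k + 1) ⊕ Fin (k + 1) → ZMod 2) → ZMod 2 //
            (∀ u v, q (u + v) = q u + q v + polarPlus (k + 1) u v) ∧
            ∃ g : (Fin (k + 1) ⊕ Fin (k + 1) → ZMod 2) ≃ₗ[ZMod 2]
                ((Fin k ⊕ Fin k) ⊕ Fin 2 → ZMod 2),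
              ∀ v, q v = Cfsg.quadFormMinus k (ZMod 2) 1 1 (g v)})) := by
    constructor
    · intro w w' h
      apply Subtype.ext
      exact plusShift_injective (k + 1) (congrArg Subtype.val h)
    · rintro ⟨q, hq, hg⟩
      obtain ⟨w, rfl⟩ := exists_plusShift_eq (k + 1) q hq
      have hw : ¬ Cfsg.quadFormPlus (k + 1) (ZMod 2) w = 0 := by
        intro h0
        exact plusShift_not_minus_type k w h0 hg
      exact ⟨⟨w, hw⟩, rfl⟩
  rw [← Nat.card_eq_of_bijective _ hbij, Nat.card_eq_fintype_card, Fintype.card_subtype_compl,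
    Fintype.card_subtype, card_space]
  have h1 := zeroCount_quadFormPlus (k + 1) (by omega)
  unfold zeroCount at h1
  rw [h1]
  have e1 : 2 * (k + 1) - 1 = 2 * k + 1 := by omega
  have e2 : k + 1 - 1 = k := by omega
  have e3 : 2 ^ (2 * (k + 1)) = 2 * 2 ^ (2 * k + 1) := by
    rw [show 2 * (k + 1) = (2 * k + 1) + 1 by ring, pow_succ]; ring
  rw [e1, e2, e3]
  omega

/-- Fix the non-singular alternating form on the 2m-dimensional space over the field of two elements obtained by polarizing the plus-type form Σ xᵢyᵢ (m ≥ 1). The functions q on the space with q(u + v) = q(u) + q(v) + f(u, v) (the quadratic forms polarizing to f) number 2^(2m); each is equivalent under an invertible linear map either to the plus-type form or to the minus-type form Σ xᵢyᵢ + (z₁² + z₁z₂ + z₂²); and those of plus type number 2^(2m−1) + 2^(m−1), those of minus type 2^(2m−1) − 2^(m−1). -/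
theorem result (m : ℕ) (hm : 1 ≤ m) :
    Nat.card {q : (Fin m ⊕ Fin m → ZMod 2) → ZMod 2 // (∀ u v : (Fin m ⊕ Fin m → ZMod 2), q (u + v) = q u + q v + (Cfsg.quadFormPlus m (ZMod 2) (u + v) - Cfsg.quadFormPlus m (ZMod 2) u - Cfsg.quadFormPlus m (ZMod 2) v))} = 2 ^ (2 * m) ∧
    (∀ q : (Fin m ⊕ Fin m → ZMod 2) → ZMod 2, (∀ u v : (Fin m ⊕ Fin m → ZMod 2), q (u + v) = q u + q v + (Cfsg.quadFormPlus m (ZMod 2) (u + v) - Cfsg.quadFormPlus m (ZMod 2) u - Cfsg.quadFormPlus m (ZMod 2) v)) →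
      (∃ g : (Fin m ⊕ Fin m → ZMod 2) ≃ₗ[ZMod 2] (Fin m ⊕ Fin m → ZMod 2), ∀ v, q v = Cfsg.quadFormPlus m (ZMod 2) (g v)) ∨
      (∃ g : (Fin m ⊕ Fin m → ZMod 2) ≃ₗ[ZMod 2] ((Fin (m - 1) ⊕ Fin (m - 1)) ⊕ Fin 2 → ZMod 2), ∀ v, q v = Cfsg.quadFormMinus (m - 1) (ZMod 2) 1 1 (g v))) ∧
    Nat.card {q : (Fin m ⊕ Fin m → ZMod 2) → ZMod 2 // (∀ u v : (Fin m ⊕ Fin m → ZMod 2), q (u + v) = q u + q v + (Cfsg.quadFormPlus m (ZMod 2) (u + v) - Cfsg.quadFormPlus m (ZMod 2) u - Cfsg.quadFormPlus m (ZMod 2) v)) ∧ ∃ g : (Fin m ⊕ Fin m → ZMod 2) ≃ₗ[ZMod 2] (Fin m ⊕ Fin m → ZMod 2), ∀ v, q v = Cfsg.quadFormPlus m (ZMod 2) (g v)} = 2 ^ (2 * m - 1) + 2 ^ (m - 1) ∧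
    Nat.card {q : (Fin m ⊕ Fin m → ZMod 2) → ZMod 2 // (∀ u v : (Fin m ⊕ Fin m → ZMod 2), q (u + v) = q u + q v + (Cfsg.quadFormPlus m (ZMod 2) (u + v) - Cfsg.quadFormPlus m (ZMod 2) u - Cfsg.quadFormPlus m (ZMod 2) v)) ∧ ∃ g : (Fin m ⊕ Fin m → ZMod 2) ≃ₗ[ZMod 2] ((Fin (m - 1) ⊕ Fin (m - 1)) ⊕ Fin 2 → ZMod 2), ∀ v, q v = Cfsg.quadFormMinus (m - 1) (ZMod 2) 1 1 (g v)} = 2 ^ (2 * m - 1) - 2 ^ (m - 1) := by
  obtain ⟨k, rfl⟩ : ∃ k, m = k + 1 := ⟨m - 1, by omega⟩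
  exact ⟨card_polarizing (k + 1), fun q hq => type_dichotomy k q hq, card_plus_type (k + 1) hm,
    card_minus_type k⟩

end Cfsg.Agent.S2561
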