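import Cfsg.Statements.S2562
import Cfsg.Agent.Lib.Helper43.QuadF2Types

set_option autoImplicit false
open Cfsg

namespace Cfsg.Agent.S2562

open Cfsg.Agent.Lib.Helper43

/-- the embedding of the `x`-coordinates in the plus-type space -/
def iotaPlus (m : ℕ) : (Fin m → ZMod 2) →ₗ[ZMod 2] (Fin m ⊕ Fin m → ZMod 2) where
  toFun x := Sum.elim x 0
  map_add' x y := by
    funext j; rcases j with i | i <;> simp
  map_smul' c x := by
    funext j; rcases j with i | i <;> simp

theorem iotaPlus_injective (m : ℕ) : Function.Injective (iotaPlus m) := by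
  intro x y h
  funext i
  have := congrFun h (Sum.inl i)
  simpa [iotaPlus] using this

/-- the embedding of the `x`-coordinates in the minus-type space -/
def iotaMinus (k : ℕ) : (Fin k → ZMod 2) →ₗ[ZMod 2] ((Fin k ⊕ Fin k) ⊕ Fin 2 → ZMod 2) where
  toFun x := Sum.elim (Sum.elim x 0) 0
  map_add' x y := by
    funext j; rcases j with (i | i) | i <;> simp
  map_smul' c x := by
    funext j; rcases j with (i | i) | i <;> simp

theorem iotaMinus_injective (k : ℕ) : Function.Injective (iotaMinus k) := by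
  intro x y h
  funext i
  have := congrFun h (Sum.inl (Sum.inl i))
  simpa [iotaMinus] using this

/-- Witt indices over the field of two elements, m ≥ 1: for the plus-type form Σ xᵢyᵢ in dimension 2m some m-dimensional subspace is totally singular and no totally singular subspace has larger dimension; for the minus-type form Σ xᵢyᵢ + (z₁² + z₁z₂ + z₂²) in dimension 2m the maximal dimension of a totally singular subspace is m − 1. -/
theorem result (m : ℕ) (hm : 1 ≤ m) :
    (∃ U : Submodule (ZMod 2) (Fin m ⊕ Fin m → ZMod 2), (∀ u ∈ U, Cfsg.quadFormPlus m (ZMod 2) u = 0) ∧ Module.finrank (ZMod 2) ↥U = m) ∧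
    (∀ U : Submodule (ZMod 2) (Fin m ⊕ Fin m → ZMod 2), (∀ u ∈ U, Cfsg.quadFormPlus m (ZMod 2) u = 0) → Module.finrank (ZMod 2) ↥U ≤ m) ∧
    (∃ U : Submodule (ZMod 2) ((Fin (m - 1) ⊕ Fin (m - 1)) ⊕ Fin 2 → ZMod 2), (∀ u ∈ U, Cfsg.quadFormMinus (m - 1) (ZMod 2) 1 1 u = 0) ∧ Module.finrank (ZMod 2) ↥U = m - 1) ∧
    (∀ U : Submodule (ZMod 2) ((Fin (m - 1) ⊕ Fin (m - 1)) ⊕ Fin 2 → ZMod 2), (∀ u ∈ U, Cfsg.quadFormMinus (m - 1) (ZMod 2) 1 1 u = 0) → Module.finrank (ZMod 2) ↥U ≤ m - 1) := by
  refine ⟨?_, ?_, ?_, ?_⟩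
  · refine ⟨LinearMap.range (iotaPlus m), ?_, ?_⟩
    · rintro _ ⟨x, rfl⟩
      unfold Cfsg.quadFormPlus
      simp [iotaPlus]
    · rw [LinearMap.finrank_range_of_inj (iotaPlus_injective m), Module.finrank_fin_fun]
  · exact fun U hU => finrank_le_of_totally_singular_plus m U hU
  · refine ⟨LinearMap.range (iotaMinus (m - 1)), ?_, ?_⟩
    · rintro _ ⟨x, rfl⟩
      unfold Cfsg.quadFormMinus
      simp [iotaMinus]
    · rw [LinearMap.finrank_range_of_inj (iotaMinus_injective (m - 1)), Module.finrank_fin_fun]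
  · exact fun U hU => finrank_le_of_totally_singular_minus (m - 1) U hU

end Cfsg.Agent.S2562
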