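import Cfsg.Statements.S2564
import Cfsg.Agent.Lib.Helper43.QuadF2Plus

set_option autoImplicit false
open Cfsg

namespace Cfsg.Agent.S2564

/-- On the 2m-dimensional space over the field of two elements (m ≥ 1) let f be the alternating form obtained by polarizing the plus-type form Σ xᵢyᵢ, and let q be any quadratic form polarizing to f. For a vector w, the function q + f(·, w) again polarizes to f, and it is equivalent to q under an invertible linear map (that is, has the same type) if and only if q(w) = 0. -/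
theorem result (m : ℕ) (hm : 1 ≤ m) (q : (Fin m ⊕ Fin m → ZMod 2) → ZMod 2) (hq : (∀ u v : (Fin m ⊕ Fin m → ZMod 2), q (u + v) = q u + q v + (Cfsg.quadFormPlus m (ZMod 2) (u + v) - Cfsg.quadFormPlus m (ZMod 2) u - Cfsg.quadFormPlus m (ZMod 2) v))) (w : (Fin m ⊕ Fin m → ZMod 2)) :
    (∀ u v : (Fin m ⊕ Fin m → ZMod 2), (q (u + v) + (Cfsg.quadFormPlus m (ZMod 2) (u + v + w) - Cfsg.quadFormPlus m (ZMod 2) (u + v) - Cfsg.quadFormPlus m (ZMod 2) w)) =
        (q u + (Cfsg.quadFormPlus m (ZMod 2) (u + w) - Cfsg.quadFormPlus m (ZMod 2) u - Cfsg.quadFormPlus m (ZMod 2) w)) + (q v + (Cfsg.quadFormPlus m (ZMod 2) (v + w) - Cfsg.quadFormPlus m (ZMod 2) v - Cfsg.quadFormPlus m (ZMod 2) w)) +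
        (Cfsg.quadFormPlus m (ZMod 2) (u + v) - Cfsg.quadFormPlus m (ZMod 2) u - Cfsg.quadFormPlus m (ZMod 2) v)) ∧
    ((∃ g : (Fin m ⊕ Fin m → ZMod 2) ≃ₗ[ZMod 2] (Fin m ⊕ Fin m → ZMod 2), ∀ v, q v + (Cfsg.quadFormPlus m (ZMod 2) (v + w) - Cfsg.quadFormPlus m (ZMod 2) v - Cfsg.quadFormPlus m (ZMod 2) w) = q (g v)) ↔ q w = 0) := by
  classical
  have hq' : ∀ u v, q (u + v) = q u + q v + Cfsg.Agent.Lib.Helper43.polarPlus m u v := hq
  have hf := Cfsg.Agent.Lib.Helper43.polarPlus_add_left m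
  have hnd := Cfsg.Agent.Lib.Helper43.polarPlus_nondeg m
  constructor
  · intro u v
    show q (u + v) + Cfsg.Agent.Lib.Helper43.polarPlus m (u + v) w
      = (q u + Cfsg.Agent.Lib.Helper43.polarPlus m u w) + (q v + Cfsg.Agent.Lib.Helper43.polarPlus m v w)
        + Cfsg.Agent.Lib.Helper43.polarPlus m u v
    rw [hq', hf]; ring
  · show (∃ g : (Fin m ⊕ Fin m → ZMod 2) ≃ₗ[ZMod 2] (Fin m ⊕ Fin m → ZMod 2),
      ∀ v, q v + Cfsg.Agent.Lib.Helper43.polarPlus m v w = q (g v)) ↔ q w = 0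
    constructor
    · rintro ⟨g, hg⟩
      by_contra hw
      have hw1 : q w = 1 := (Cfsg.Agent.Lib.Helper43.zmod2_eq_zero_or_one (q w)).resolve_left hw
      have h1 := Cfsg.Agent.Lib.Helper43.zeroCount_translate
        (Cfsg.Agent.Lib.Helper43.polarPlus m) q hq' w hw1
      have h2 : Cfsg.Agent.Lib.Helper43.zeroCount
          (fun v => q v + Cfsg.Agent.Lib.Helper43.polarPlus m v w)
          = Cfsg.Agent.Lib.Helper43.zeroCount q := by
        have : (fun v => q v + Cfsg.Agent.Lib.Helper43.polarPlus m v w) = fun v => q (g.toEquiv v) := by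
          funext v; exact hg v
        rw [this]
        exact Cfsg.Agent.Lib.Helper43.zeroCount_comp_equiv q g.toEquiv
      have h3 := Cfsg.Agent.Lib.Helper43.two_mul_zeroCount_ne
        (Cfsg.Agent.Lib.Helper43.polarPlus m) q hq' hf hnd
      have h4 := Cfsg.Agent.Lib.Helper43.zeroCount_le q
      omega
    · intro hw
      exact Cfsg.Agent.Lib.Helper43.exists_transvection (Cfsg.Agent.Lib.Helper43.polarPlus m) q hq' hf w
        (Cfsg.Agent.Lib.Helper43.polarPlus_self m w) hw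

end Cfsg.Agent.S2564
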