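-- Statement S2566 (row 2566).
import Cfsg.Statements.S2566

set_option autoImplicit false
open Cfsg

namespace Cfsg.Agent.S2566


abbrev I4 := Fin 2 ⊕ Fin 2
abbrev V4 := I4 → ZMod 2
abbrev M4 := Matrix I4 I4 (ZMod 2)

def idx : I4 → ℕ
  | .inl i => i.val
  | .inr i => 2 + i.val

def matOf (c : ℕ) : M4 := Matrix.of fun i j => if c.testBit (4 * idx i + idx j) then 1 else 0

def vec (n : Fin 16) : V4 := fun i => if n.val.testBit (idx i) then 1 else 0

/-- explicit quadratic form -/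
def q (v : V4) : ZMod 2 := v (.inl 0) * v (.inr 0) + v (.inl 1) * v (.inr 1)

theorem q_eq (v : V4) : quadFormPlus 2 (ZMod 2) v = q v := by
  simp [quadFormPlus, q, Fin.sum_univ_two]

set_option maxRecDepth 100000 in
def codes : Fin 72 → ℕ := ![4680, 4713, 5064, 5113, 6210, 6339, 6498, 6643, 8580, 8598, 9156, 9206, 9345, 9411, 9873, 9971, 12684, 12703, 12876, 12911, 15426, 15489, 16226, 16273, 16920, 16956, 18072, 18172, 18450, 18582, 19506, 19702, 25113, 25151, 25737, 25807, 26898, 27012, 28466, 28612, 33060, 33084, 33825, 33897, 35172, 35324, 35889, 36089, 37158, 37183, 38433, 38472, 38982, 39119, 40753, 40904, 49944, 49956, 50211, 50287, 51219, 51359, 53092, 53144, 62233, 62246, 63011, 63052, 63763, 63884, 64582, 64649]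

set_option maxRecDepth 100000 in
def invIdx : Fin 72 → Fin 72 := ![0, 51, 2, 55, 24, 26, 56, 63, 8, 37, 16, 69, 12, 34, 21, 71, 10, 39, 18, 67, 32, 14, 64, 23, 4, 52, 5, 53, 28, 29, 60, 61, 20, 70, 13, 35, 36, 9, 68, 17, 40, 44, 42, 43, 41, 45, 46, 47, 57, 62, 50, 1, 25, 27, 54, 3, 6, 48, 58, 59, 30, 31, 49, 7, 22, 65, 66, 19, 38, 11, 33, 15]

def colsMat (c : I4 → V4) : M4 := Matrix.of fun i j => c j i

def cols4 (a b c d : V4) : I4 → V4
  | .inl 0 => a
  | .inl 1 => b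
  | .inr 0 => c
  | .inr 1 => d

def L3 (n0 n1 n2 : Fin 16) : Prop :=
    ∀ n3 : Fin 16, q (vec n3) = 0 → q (vec n0 + vec n3) = 0 → q (vec n1 + vec n3) = 1 →
      q (vec n2 + vec n3) = 0 →
      ∃ k : Fin 72, colsMat (cols4 (vec n0) (vec n1) (vec n2) (vec n3)) = matOf (codes k)

instance (n0 n1 n2 : Fin 16) : Decidable (L3 n0 n1 n2) := by unfold L3; infer_instance

def L2 (n0 n1 : Fin 16) : Prop :=
    ∀ n2 : Fin 16, q (vec n2) = 0 → q (vec n0 + vec n2) = 1 → q (vec n1 + vec n2) = 0 → L3 n0 n1 n2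

instance (n0 n1 : Fin 16) : Decidable (L2 n0 n1) := by unfold L2; infer_instance

def L1 (n0 : Fin 16) : Prop :=
    ∀ n1 : Fin 16, q (vec n1) = 0 → q (vec n0 + vec n1) = 0 → L2 n0 n1

instance (n0 : Fin 16) : Decidable (L1 n0) := by unfold L1; infer_instance

set_option maxRecDepth 100000 in
theorem key : ∀ n0 : Fin 16, q (vec n0) = 0 → L1 n0 := by
  decide +kernel

set_option maxRecDepth 100000 in
theorem vec_surj : ∀ v : V4, ∃ n : Fin 16, vec n = v := by
  decide +kernel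

set_option maxRecDepth 100000 in
theorem isom_codes : ∀ k : Fin 72, ∀ n : Fin 16, q (Matrix.mulVec (matOf (codes k)) (vec n)) = q (vec n) := by
  decide +kernel

set_option maxRecDepth 100000 in
theorem inv_codes : ∀ k : Fin 72, matOf (codes k) * matOf (codes (invIdx k)) = 1 := by
  decide +kernel

set_option maxRecDepth 100000 in
theorem inv_codes' : ∀ k : Fin 72, matOf (codes (invIdx k)) * matOf (codes k) = 1 := by
  decide +kernel

set_option maxRecDepth 100000 in
theorem codes_inj : ∀ k l : Fin 72, matOf (codes k) = matOf (codes l) → k = l := by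
  decide +kernel

abbrev G72 := ↥(Cfsg.isometryGroup (ZMod 2) (Cfsg.quadFormPlus 2 (ZMod 2)))

theorem mem_iso_iff (g : Matrix.GeneralLinearGroup I4 (ZMod 2)) :
    g ∈ Cfsg.isometryGroup (ZMod 2) (Cfsg.quadFormPlus 2 (ZMod 2)) ↔
      ∀ u : V4, q (Matrix.mulVec (g : M4) u) = q u := by
  unfold Cfsg.isometryGroup Cfsg.preserving
  simp only [Subgroup.mem_mk, Submonoid.mem_mk, Subsemigroup.mem_mk, Set.mem_ofPred_eq, q_eq,
    Units.coeHom_apply]
  constructor
  · intro h u; exact h u 0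
  · intro h u _; exact h u

def toGL (k : Fin 72) : Matrix.GeneralLinearGroup I4 (ZMod 2) :=
  ⟨matOf (codes k), matOf (codes (invIdx k)), inv_codes k, inv_codes' k⟩

theorem toGL_mem (k : Fin 72) :
    toGL k ∈ Cfsg.isometryGroup (ZMod 2) (Cfsg.quadFormPlus 2 (ZMod 2)) := by
  rw [mem_iso_iff]
  intro u
  obtain ⟨n, rfl⟩ := vec_surj u
  exact isom_codes k n

def toG (k : Fin 72) : G72 := ⟨toGL k, toGL_mem k⟩

theorem toG_val (k : Fin 72) : ((toG k : G72) : Matrix.GeneralLinearGroup I4 (ZMod 2)).val = matOf (codes k) := rfl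

theorem toG_inj : Function.Injective toG := by
  intro k l h
  apply codes_inj
  have := congrArg (fun x : G72 => (x : Matrix.GeneralLinearGroup I4 (ZMod 2)).val) h
  simpa [toG_val] using this

theorem single_add (M : M4) (i j : I4) :
    Matrix.mulVec M (Pi.single i 1) + Matrix.mulVec M (Pi.single j 1) = Matrix.mulVec M (Pi.single i 1 + Pi.single j 1) := by
  rw [Matrix.mulVec_add]

theorem toG_surj : Function.Surjective toG := by
  intro g
  have hg := (mem_iso_iff g.1).1 g.2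
  set M : M4 := (g.1 : M4) with hM
  obtain ⟨n0, h0⟩ := vec_surj (Matrix.mulVec M (Pi.single (.inl 0) 1))
  obtain ⟨n1, h1⟩ := vec_surj (Matrix.mulVec M (Pi.single (.inl 1) 1))
  obtain ⟨n2, h2⟩ := vec_surj (Matrix.mulVec M (Pi.single (.inr 0) 1))
  obtain ⟨n3, h3⟩ := vec_surj (Matrix.mulVec M (Pi.single (.inr 1) 1))
  have e0 : q (vec n0) = 0 := by rw [h0, hg]; decide
  have e1 : q (vec n1) = 0 := by rw [h1, hg]; decide
  have e2 : q (vec n2) = 0 := by rw [h2, hg]; decide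
  have e3 : q (vec n3) = 0 := by rw [h3, hg]; decide
  have e01 : q (vec n0 + vec n1) = 0 := by rw [h0, h1, single_add, hg]; decide
  have e02 : q (vec n0 + vec n2) = 1 := by rw [h0, h2, single_add, hg]; decide
  have e12 : q (vec n1 + vec n2) = 0 := by rw [h1, h2, single_add, hg]; decide
  have e03 : q (vec n0 + vec n3) = 0 := by rw [h0, h3, single_add, hg]; decide
  have e13 : q (vec n1 + vec n3) = 1 := by rw [h1, h3, single_add, hg]; decide
  have e23 : q (vec n2 + vec n3) = 0 := by rw [h2, h3, single_add, hg]; decide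
  obtain ⟨k, hk⟩ := key n0 e0 n1 e1 e01 n2 e2 e02 e12 n3 e3 e03 e13 e23
  refine ⟨k, ?_⟩
  apply Subtype.ext
  apply Units.ext
  show matOf (codes k) = M
  rw [← hk, h0, h1, h2, h3]
  ext i j
  rcases j with j | j <;> fin_cases j <;> simp [colsMat, cols4]

theorem card_G72 : Nat.card G72 = 72 := by
  rw [← Nat.card_congr (Equiv.ofBijective toG ⟨toG_inj, toG_surj⟩)]
  simp

def tblA : Fin 3 → Fin 3 → Fin 72 := ![![0, 42, 43], ![0, 0, 51], ![1, 50, 0]]

def idxA (σ : Equiv.Perm (Fin 3)) : Fin 72 := tblA (σ 0) (σ 1)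

def mA (σ : Equiv.Perm (Fin 3)) : M4 := matOf (codes (idxA σ))

def mT : M4 := matOf (codes 12)

set_option maxRecDepth 100000 in
theorem mA_mul : ∀ σ τ : Equiv.Perm (Fin 3), mA (σ * τ) = mA σ * mA τ := by
  decide +kernel

set_option maxRecDepth 100000 in
theorem mA_inj : ∀ σ : Equiv.Perm (Fin 3), mA σ = 1 → σ = 1 := by
  decide +kernel

set_option maxRecDepth 100000 in
theorem mA_comm : ∀ σ τ : Equiv.Perm (Fin 3), mA σ * (mT * mA τ * mT) = (mT * mA τ * mT) * mA σ := by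
  decide +kernel

set_option maxRecDepth 100000 in
theorem mA_disj : ∀ σ τ : Equiv.Perm (Fin 3), mA σ = mT * mA τ * mT → σ = 1 := by
  decide +kernel

set_option maxRecDepth 100000 in
theorem mT_sq : mT * mT = 1 := by
  decide +kernel

theorem G72_ext {x y : G72} (h : (x.1 : M4) = (y.1 : M4)) : x = y :=
  Subtype.ext (Units.ext h)

def fA : Equiv.Perm (Fin 3) →* G72 :=
  MonoidHom.mk' (fun σ => toG (idxA σ)) (by
    intro σ τ
    apply G72_ext
    exact mA_mul σ τ)

theorem fA_val (σ : Equiv.Perm (Fin 3)) : ((fA σ).1 : M4) = mA σ := rfl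

def gT : G72 := toG 12

theorem gT_val : (gT.1 : M4) = mT := rfl

theorem gT_inv : gT⁻¹ = gT := by
  apply inv_eq_of_mul_eq_one_left
  apply G72_ext
  exact mT_sq

def fB : Equiv.Perm (Fin 3) →* G72 := (MulAut.conj gT).toMonoidHom.comp fA

theorem fB_apply (τ : Equiv.Perm (Fin 3)) : fB τ = gT * fA τ * gT := by
  show gT * fA τ * gT⁻¹ = _
  rw [gT_inv]

theorem fB_val (τ : Equiv.Perm (Fin 3)) : ((fB τ).1 : M4) = mT * mA τ * mT := by
  rw [fB_apply]; rfl

theorem fA_inj : Function.Injective fA := by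
  rw [injective_iff_map_eq_one]
  intro σ h
  apply mA_inj
  rw [← fA_val, h]; rfl

theorem fB_inj : Function.Injective fB := by
  intro σ τ h
  apply fA_inj
  exact (MulAut.conj gT).injective h

theorem fAB_comm (σ τ : Equiv.Perm (Fin 3)) : Commute (fA σ) (fB τ) := by
  apply G72_ext
  show (fA σ).1.val * (fB τ).1.val = (fB τ).1.val * (fA σ).1.val
  rw [fB_val, fA_val]
  exact mA_comm σ τ

theorem fAB_disj : Disjoint fA.range fB.range := by
  rw [Subgroup.disjoint_def]
  rintro x ⟨σ, rfl⟩ ⟨τ, h⟩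
  have : σ = 1 := by
    apply mA_disj σ τ
    rw [← fA_val, ← fB_val, h]
  rw [this, map_one]

theorem card_sup : Nat.card ↥(fA.range ⊔ fB.range) = 36 := by
  have hinj : Function.Injective (MonoidHom.noncommCoprod fA fB fAB_comm) :=
    (MonoidHom.noncommCoprod_injective fA fB fAB_comm).2 ⟨fA_inj, fB_inj, fAB_disj⟩
  rw [← MonoidHom.noncommCoprod_range fA fB fAB_comm]
  rw [← Nat.card_congr (MonoidHom.ofInjective hinj).toEquiv]
  rw [Nat.card_prod, Nat.card_perm]
  simp [Nat.factorial]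

theorem result :
    Nat.card ↥(Cfsg.isometryGroup (ZMod 2) (Cfsg.quadFormPlus 2 (ZMod 2))) = 72 ∧
    ∃ (A B : Subgroup ↥(Cfsg.isometryGroup (ZMod 2) (Cfsg.quadFormPlus 2 (ZMod 2)))),
      Nonempty (↥A ≃* Equiv.Perm (Fin 3)) ∧ Nonempty (↥B ≃* Equiv.Perm (Fin 3)) ∧ A ⊓ B = ⊥ ∧ (∀ a ∈ A, ∀ b ∈ B, a * b = b * a) ∧
      (A ⊔ B).index = 2 ∧ ∃ g : ↥(Cfsg.isometryGroup (ZMod 2) (Cfsg.quadFormPlus 2 (ZMod 2))), A.map (MulAut.conj g).toMonoidHom = B := by
  refine ⟨card_G72, fA.range, fB.range, ⟨(MonoidHom.ofInjective fA_inj).symm⟩,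
    ⟨(MonoidHom.ofInjective fB_inj).symm⟩, ?_, ?_, ?_, gT, ?_⟩
  · exact disjoint_iff.1 fAB_disj
  · rintro a ⟨σ, rfl⟩ b ⟨τ, rfl⟩
    exact fAB_comm σ τ
  · have h := Subgroup.card_mul_index (fA.range ⊔ fB.range)
    rw [card_sup, card_G72] at h
    omega
  · rw [MonoidHom.map_range]
    rfl

end Cfsg.Agent.S2566
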