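import Cfsg.Statements.S2567
-- import your own Cfsg.Agent.* helpers here

set_option autoImplicit false
open Cfsg

namespace Cfsg.Agent.S2567

theorem unique_lift_aux {G : Type*} [Group G] (N r : ℕ) (hr : r.Prime) (hcop : r.Coprime N)
    (hZ : ∀ z ∈ Subgroup.center G, z ^ N = 1) (x : G ⧸ Subgroup.center G) (hx : orderOf x = r) :
    ∃! g : G, (QuotientGroup.mk g : G ⧸ Subgroup.center G) = x ∧ orderOf g = r := by
  obtain ⟨g0, rfl⟩ := QuotientGroup.mk_surjective x
  have hr1 : r ≠ 1 := hr.ne_one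
  -- g0 ^ r is central
  have hz0 : g0 ^ r ∈ Subgroup.center G := by
    rw [← QuotientGroup.eq_one_iff, QuotientGroup.mk_pow, ← hx]
    exact pow_orderOf_eq_one _
  -- uniqueness helper: a central element killed by r and N is trivial
  have htriv : ∀ z ∈ Subgroup.center G, z ^ r = 1 → z = 1 := by
    intro z hz hzr
    have h1 : orderOf z ∣ r := orderOf_dvd_of_pow_eq_one hzr
    have h2 : orderOf z ∣ N := orderOf_dvd_of_pow_eq_one (hZ z hz)
    have h3 : orderOf z ∣ Nat.gcd r N := Nat.dvd_gcd h1 h2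
    rw [hcop] at h3
    exact orderOf_eq_one_iff.mp (Nat.dvd_one.mp h3)
  -- Bezout
  have hbez : (r : ℤ) * Nat.gcdA r N + (N : ℤ) * Nat.gcdB r N = 1 := by
    have := Nat.gcd_eq_gcd_ab r N
    rw [hcop] at this
    simpa using this.symm
  set a : ℤ := Nat.gcdA r N with ha
  set b : ℤ := Nat.gcdB r N with hb
  set z0 : G := g0 ^ r with hz0def
  have hz0N : z0 ^ (N : ℤ) = 1 := by
    rw [zpow_natCast]; exact hZ z0 hz0
  set z : G := z0 ^ (-a) with hzdef
  have hzc : z ∈ Subgroup.center G := Subgroup.zpow_mem _ hz0 _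
  have hzr : z ^ r = z0⁻¹ := by
    rw [hzdef, ← zpow_natCast, ← zpow_mul]
    have : (-a) * (r : ℤ) = (N : ℤ) * b + (-1) := by linarith
    rw [this, zpow_add, zpow_mul, hz0N, one_zpow, one_mul, zpow_neg_one]
  have hcomm : Commute g0 z := ((Subgroup.mem_center_iff.mp hzc) g0)
  have hgr : (g0 * z) ^ r = 1 := by
    rw [hcomm.mul_pow, hzr]
    exact mul_inv_cancel _
  have hmk : (QuotientGroup.mk (g0 * z) : G ⧸ Subgroup.center G) = QuotientGroup.mk g0 := by
    rw [QuotientGroup.mk_mul, (QuotientGroup.eq_one_iff z).mpr hzc, mul_one]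
  refine ⟨g0 * z, ⟨hmk, ?_⟩, ?_⟩
  · have hdvd : orderOf (g0 * z) ∣ r := orderOf_dvd_of_pow_eq_one hgr
    rcases (Nat.dvd_prime hr).mp hdvd with h | h
    · exfalso
      have h1 : g0 * z = 1 := orderOf_eq_one_iff.mp h
      have : (QuotientGroup.mk g0 : G ⧸ Subgroup.center G) = 1 := by
        rw [← hmk, h1]; rfl
      rw [this, orderOf_one] at hx
      exact hr1 hx.symm
    · exact h
  · rintro g' ⟨hg'mk, hg'r⟩
    have hw : (g0 * z)⁻¹ * g' ∈ Subgroup.center G := by
      rw [← QuotientGroup.eq_one_iff, QuotientGroup.mk_mul, QuotientGroup.mk_inv, hmk, hg'mk]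
      exact inv_mul_cancel _
    set w := (g0 * z)⁻¹ * g' with hwdef
    have hg' : g' = (g0 * z) * w := by rw [hwdef]; group
    have hcomm' : Commute (g0 * z) w := ((Subgroup.mem_center_iff.mp hw) (g0 * z))
    have hwr : w ^ r = 1 := by
      have h1 : g' ^ r = 1 := by rw [← hg'r]; exact pow_orderOf_eq_one _
      rw [hg', hcomm'.mul_pow, hgr, one_mul] at h1
      exact h1
    rw [hg', htriv w hw hwr, mul_one]

/-- Lifting elements of prime order from PGL to GL: let F be a finite field with q elements, r a prime not dividing q − 1, and x an element of order r in GL_n(F) modulo its centre (the scalar matrices). Then x has exactly one preimage in GL_n(F) of order r. -/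
theorem result {F : Type*} [Field F] [Fintype F] {q n r : ℕ} (hF : Fintype.card F = q) (hr : r.Prime) (hdiv : ¬ r ∣ q - 1) (x : GL (Fin n) F ⧸ Subgroup.center (GL (Fin n) F)) (hx : orderOf x = r) : ∃! g : GL (Fin n) F, (QuotientGroup.mk g : GL (Fin n) F ⧸ Subgroup.center (GL (Fin n) F)) = x ∧ orderOf g = r := by
  classical
  have hq1 : 1 < q := by rw [← hF]; exact Fintype.one_lt_card
  have hcop : r.Coprime (q - 1) := (Nat.Prime.coprime_iff_not_dvd hr).mpr hdiv
  apply unique_lift_aux (q - 1) r hr hcop _ x hx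
  intro z hz
  rw [Matrix.GeneralLinearGroup.center_eq_range_scalar] at hz
  obtain ⟨a, rfl⟩ := hz
  rw [← map_pow]
  have : a ^ (q - 1) = 1 := by
    rw [← hF, ← Fintype.card_units]
    exact pow_card_eq_one
  rw [this, map_one]

end Cfsg.Agent.S2567
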