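import Cfsg.Statements.S2568
import Cfsg.Agent.Lib.Helper40.SemisimpleKill
import Cfsg.Agent.Lib.Helper40.CycloFactors

set_option autoImplicit false
open Cfsg

namespace Cfsg.Agent.S2568

open Polynomial Cfsg.Agent.Lib.Helper40

section
variable {F : Type*} [Field F] [Fintype F] {n : ℕ}

/-- For `g` with `g ^ r = 1`, `r` invertible in `F`: `g` is semisimple and every monic irreducible
factor of its characteristic polynomial divides `X ^ r - 1`. -/
theorem factors_of_pow_eq_one (g : GL (Fin n) F) (r : ℕ) (hrF : (r : F) ≠ 0) (hg : g ^ r = 1) :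
    Module.End.IsSemisimple (Matrix.toLin' (g : Matrix (Fin n) (Fin n) F)) ∧
      ∀ m : F[X], m.Monic → Irreducible m → m ∣ (g : Matrix (Fin n) (Fin n) F).charpoly →
        m ∣ X ^ r - 1 := by
  have hgr : (g : Matrix (Fin n) (Fin n) F) ^ r = 1 := by
    have h2 := congrArg (fun y : GL (Fin n) F => (y : Matrix (Fin n) (Fin n) F)) hg
    simp only [Units.val_pow_eq_pow_val, Units.val_one] at h2
    exact h2
  have hss := isSemisimple_toLin'_of_pow_eq_one (g : Matrix (Fin n) (Fin n) F) r hrF hgr
  refine ⟨hss, ?_⟩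
  intro m hm hirr hdvd
  by_contra hnd
  set φ := Matrix.toLin' (g : Matrix (Fin n) (Fin n) F) with hφ
  have hφr : aeval φ (X ^ r - 1 : F[X]) = 0 := by
    have h1 : φ ^ r = 1 := by
      have : φ = Matrix.toLinAlgEquiv' (g : Matrix (Fin n) (Fin n) F) := rfl
      rw [this, ← map_pow, hgr, map_one]
    simp [h1]
  obtain ⟨v, hv, hmv⟩ := exists_ne_zero_aeval_eq_zero_of_dvd_charpoly _ φ rfl hss m hm hirr
    (by rw [hφ, Matrix.charpoly_toLin']; exact hdvd)
  have hcop : IsCoprime m (X ^ r - 1 : F[X]) := (Irreducible.coprime_iff_not_dvd hirr).mpr hnd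
  obtain ⟨a, b, hab⟩ := hcop
  apply hv
  have h2 : aeval φ (a * m + b * (X ^ r - 1)) v = v := by rw [hab]; simp
  rw [map_add, map_mul, map_mul, hφr, mul_zero, add_zero, Module.End.mul_apply, hmv, map_zero] at h2
  exact h2.symm

end

/-- Number of conjugacy classes of elements of a given prime order r, coprime to the characteristic, in GL_n(q): if i is the multiplicative order of q modulo r and t = (r − 1)/i, the classes correspond to the non-zero t-tuples of natural numbers (a_1, …, a_t) with i(a_1 + ⋯ + a_t) ≤ n (a_j is the multiplicity of the j-th Frobenius orbit of nontrivial r-th roots of unity among the eigenvalues), so there are exactly C(⌊n/i⌋ + t, t) − 1 of them. -/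
theorem result {F : Type*} [Field F] [Fintype F] {p q : ℕ} [Fact p.Prime] [CharP F p] (hF : Fintype.card F = q) (n r i t : ℕ) (hr : r.Prime) (hrp : r ≠ p) (hi : i = orderOf (q : ZMod r)) (ht : t * i = r - 1) : Nat.card {C : ConjClasses (GL (Fin n) F) // ∃ g : GL (Fin n) F, ConjClasses.mk g = C ∧ orderOf g = r} = Nat.choose (n / i + t) t - 1 := by
  classical
  have hrfact : Fact r.Prime := ⟨hr⟩
  obtain ⟨hS, hScard, hlS, hipos, hrF, hdvd⟩ := cycloFactors_spec (F := F) hF r i t hr hrp hi ht
  set S : Finset F[X] := cycloFactors r with hSdef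
  -- the polynomial side
  have hpoly := card_monic_factors_in S (X - 1 : F[X]) i n hipos hS
    ⟨monic_X_sub_C 1, irreducible_X_sub_C 1, natDegree_X_sub_C 1⟩ hlS
  rw [hScard] at hpoly
  -- classes of elements with `g ^ r = 1`
  have hcharP : ∀ g : GL (Fin n) F, g ^ r = 1 →
      (g : Matrix (Fin n) (Fin n) F).charpoly.Monic ∧
        (g : Matrix (Fin n) (Fin n) F).charpoly.natDegree = n ∧
        ∀ m : F[X], m.Monic → Irreducible m → m ∣ (g : Matrix (Fin n) (Fin n) F).charpoly →
          m = X - 1 ∨ m ∈ S := by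
    intro g hg
    refine ⟨Matrix.charpoly_monic _, by rw [Matrix.charpoly_natDegree_eq_dim, Fintype.card_fin], ?_⟩
    intro m hm hirr hd
    exact (hdvd m hm hirr).mp ((factors_of_pow_eq_one g r hrF hg).2 m hm hirr hd)
  let Φ : {C : ConjClasses (GL (Fin n) F) // ∃ g : GL (Fin n) F, ConjClasses.mk g = C ∧ g ^ r = 1} →
      {f : F[X] // f.Monic ∧ f.natDegree = n ∧
        ∀ m : F[X], m.Monic → Irreducible m → m ∣ f → m = X - 1 ∨ m ∈ S} :=
    fun C => ⟨((Classical.choose C.2 : GL (Fin n) F) : Matrix (Fin n) (Fin n) F).charpoly,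
      hcharP _ (Classical.choose_spec C.2).2⟩
  have hconj_char : ∀ g g' : GL (Fin n) F, IsConj g g' →
      (g : Matrix (Fin n) (Fin n) F).charpoly = (g' : Matrix (Fin n) (Fin n) F).charpoly := by
    intro g g' h
    rw [isConj_iff] at h
    obtain ⟨c, rfl⟩ := h
    rw [Units.val_mul, Units.val_mul, Matrix.coe_units_inv]
    exact (Matrix.charpoly_units_conj c (g : Matrix (Fin n) (Fin n) F)).symm
  have hΦ : Function.Bijective Φ := by
    constructor
    · intro C₁ C₂ h
      obtain ⟨h1, h1'⟩ := Classical.choose_spec C₁.2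
      obtain ⟨h2, h2'⟩ := Classical.choose_spec C₂.2
      set g₁ := Classical.choose C₁.2 with hg₁
      set g₂ := Classical.choose C₂.2 with hg₂
      have hchar : (g₁ : Matrix (Fin n) (Fin n) F).charpoly =
          (g₂ : Matrix (Fin n) (Fin n) F).charpoly := congrArg Subtype.val h
      obtain ⟨P, hP⟩ := exists_gl_conj_of_charpoly_eq _ _ (factors_of_pow_eq_one g₁ r hrF h1').1
        (factors_of_pow_eq_one g₂ r hrF h2').1 hchar
      have hconj : IsConj g₁ g₂ := by
        rw [isConj_iff]
        refine ⟨P, ?_⟩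
        rw [mul_inv_eq_iff_eq_mul]
        apply Units.ext
        exact hP
      apply Subtype.ext
      rw [← h1, ← h2]
      exact ConjClasses.mk_eq_mk_iff_isConj.mpr hconj
    · intro f
      obtain ⟨A, hA, hAf, hkill⟩ := exists_matrix_semisimple_charpoly_kill n f.1 f.2.1 f.2.2.1
      have hAr : A ^ r = 1 := by
        have h1 := hkill (X ^ r - 1) (fun m hm hirr hd =>
          (hdvd m hm hirr).mpr (f.2.2.2 m hm hirr hd))
        simp only [map_sub, map_pow, aeval_X, map_one] at h1
        exact sub_eq_zero.mp h1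
      have hr0 : r ≠ 0 := hr.ne_zero
      obtain ⟨r', rfl⟩ : ∃ r', r = r' + 1 := ⟨r - 1, by omega⟩
      let g : GL (Fin n) F := ⟨A, A ^ r', by rw [← pow_succ', hAr], by rw [← pow_succ, hAr]⟩
      have hg : g ^ (r' + 1) = 1 := by
        apply Units.ext
        rw [Units.val_pow_eq_pow_val, Units.val_one]
        exact hAr
      refine ⟨⟨ConjClasses.mk g, g, rfl, hg⟩, ?_⟩
      apply Subtype.ext
      show ((Classical.choose _ : GL (Fin n) F) : Matrix (Fin n) (Fin n) F).charpoly = f.1
      have hc : ∃ g' : GL (Fin n) F, ConjClasses.mk g' = ConjClasses.mk g ∧ g' ^ (r' + 1) = 1 :=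
        ⟨g, rfl, hg⟩
      have h1 := (Classical.choose_spec hc).1
      have h2 : IsConj (Classical.choose hc) g := ConjClasses.mk_eq_mk_iff_isConj.mp h1
      rw [hconj_char _ _ h2]
      exact hAf
  have hcard : Nat.card {C : ConjClasses (GL (Fin n) F) //
      ∃ g : GL (Fin n) F, ConjClasses.mk g = C ∧ g ^ r = 1} = Nat.choose (n / i + t) t := by
    rw [Nat.card_congr (Equiv.ofBijective Φ hΦ), hpoly]
  -- remove the identity class
  rw [← hcard]
  have hone : ∃ g : GL (Fin n) F, ConjClasses.mk g = ConjClasses.mk (1 : GL (Fin n) F) ∧ g ^ r = 1 :=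
    ⟨1, rfl, one_pow r⟩
  have e : {C : ConjClasses (GL (Fin n) F) // ∃ g : GL (Fin n) F, ConjClasses.mk g = C ∧ orderOf g = r} ≃
      {C : {C : ConjClasses (GL (Fin n) F) // ∃ g : GL (Fin n) F, ConjClasses.mk g = C ∧ g ^ r = 1} //
        C ≠ ⟨ConjClasses.mk 1, hone⟩} :=
    { toFun := fun C => ⟨⟨C.1, by
          obtain ⟨g, hg, hgo⟩ := C.2
          exact ⟨g, hg, hgo ▸ pow_orderOf_eq_one g⟩⟩, by
        obtain ⟨g, hg, hgo⟩ := C.2
        intro hcon
        have h1 : C.1 = ConjClasses.mk 1 := congrArg Subtype.val hcon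
        rw [← hg, ConjClasses.mk_eq_mk_iff_isConj, isConj_one_left] at h1
        rw [h1, orderOf_one] at hgo
        exact hr.one_lt.ne hgo⟩
      invFun := fun C => ⟨C.1.1, by
        obtain ⟨g, hg, hgr⟩ := C.1.2
        refine ⟨g, hg, ?_⟩
        have hg1 : g ≠ 1 := by
          intro h1
          apply C.2
          apply Subtype.ext
          show C.1.1 = ConjClasses.mk 1
          rw [← hg, h1]
        exact orderOf_eq_prime hgr hg1⟩
      left_inv := fun _ => rfl
      right_inv := fun _ => rfl }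
  rw [Nat.card_congr e]
  have : Fintype {C : ConjClasses (GL (Fin n) F) // ∃ g : GL (Fin n) F, ConjClasses.mk g = C ∧ g ^ r = 1} :=
    Fintype.ofFinite _
  rw [Nat.card_eq_fintype_card, Nat.card_eq_fintype_card, Fintype.card_subtype_compl,
    Fintype.card_subtype_eq]

end Cfsg.Agent.S2568
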