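import Cfsg.Statements.S2570
import Mathlib
import Cfsg.Agent.Lib.Helper40.NilpotentJordan

set_option autoImplicit false
open Cfsg

namespace Cfsg.Agent.S2570

open Cfsg.Agent.Lib.Helper40

theorem sum_min_le (μ : Multiset ℕ) (j : ℕ) : (μ.map (fun a => min j a)).sum ≤ μ.sum := by
  induction μ using Multiset.induction_on with
  | empty => simp
  | cons a μ ih =>
    rw [Multiset.map_cons, Multiset.sum_cons, Multiset.sum_cons]
    have : min j a ≤ a := min_le_right _ _
    omega

theorem sum_min_eq_sum_iff (μ : Multiset ℕ) (j : ℕ) :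
    (μ.map (fun a => min j a)).sum = μ.sum ↔ ∀ a ∈ μ, a ≤ j := by
  induction μ using Multiset.induction_on with
  | empty => simp
  | cons a μ ih =>
    rw [Multiset.map_cons, Multiset.sum_cons, Multiset.sum_cons]
    have h1 : min j a ≤ a := min_le_right _ _
    have h2 := sum_min_le μ j
    constructor
    · intro h
      have h3 : (μ.map (fun a => min j a)).sum = μ.sum := by omega
      have h4 : min j a = a := by omega
      intro b hb
      rcases Multiset.mem_cons.mp hb with rfl | hb
      · omega
      · exact ih.mp h3 b hb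
    · intro h
      have h3 := ih.mpr (fun b hb => h b (Multiset.mem_cons_of_mem hb))
      have h4 := h a (Multiset.mem_cons_self a μ)
      rw [h3, min_eq_right h4]

theorem pow_eq_zero_iff_kd {n : ℕ} {F : Type*} [Field F] (A : Matrix (Fin n) (Fin n) F) (j : ℕ) :
    A ^ j = 0 ↔ kd (Matrix.toLin' A) j = n := by
  have h := kd_eq_finrank_iff (Matrix.toLin' A) j
  rw [Module.finrank_fin_fun] at h
  rw [h, ← Matrix.toLin'_pow]
  constructor
  · intro h0; rw [h0, map_zero]
  · intro h0
    exact (Matrix.toLin' (R := F)).injective (by rw [h0, map_zero])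

theorem pow_p_eq_one_iff {F : Type*} [Field F] (p : ℕ) [Fact p.Prime] [CharP F p] {n : ℕ}
    (g : GL (Fin n) F) : g ^ p = 1 ↔ (g.val - 1) ^ p = 0 := by
  rcases Nat.eq_zero_or_pos n with rfl | hn
  · exact ⟨fun _ => Subsingleton.elim _ _, fun _ => Subsingleton.elim _ _⟩
  · have : Nonempty (Fin n) := ⟨⟨0, hn⟩⟩
    have hcomm : Commute g.val 1 := Commute.one_right _
    have h1 := sub_pow_char_pow_of_commute p 1 hcomm
    rw [pow_one, one_pow] at h1
    rw [h1, sub_eq_zero, ← Units.val_pow_eq_pow_val]
    constructor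
    · intro h; rw [h, Units.val_one]
    · intro h; exact Units.ext h

/-- Number of conjugacy classes of elements of order p in GL_n over a finite field of characteristic p: they correspond to the Jordan types, that is, to the partitions of n with all parts at most p other than the partition into ones, so there are (number of partitions of n with parts ≤ p) − 1 of them. -/
theorem result {F : Type*} [Field F] [Fintype F] {p : ℕ} [Fact p.Prime] [CharP F p] (n : ℕ) : Nat.card {C : ConjClasses (GL (Fin n) F) // ∃ g : GL (Fin n) F, ConjClasses.mk g = C ∧ orderOf g = p} = (Finset.univ.filter (fun μ : Nat.Partition n => ∀ a ∈ μ.parts, a ≤ p)).card - 1 := by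
  classical
  -- the relevant partitions
  let T := {ν : Nat.Partition n // (∀ a ∈ ν.parts, a ≤ p) ∧ ¬ (∀ a ∈ ν.parts, a ≤ 1)}
  have hA : ∀ ν : Nat.Partition n, ∃ A : Matrix (Fin n) (Fin n) F, IsNilpotent A ∧
      ∀ j, kd (Matrix.toLin' A) j = (ν.parts.map (fun a => min j a)).sum :=
    fun ν => exists_matrix_of_type ν.parts ν.parts_sum
  choose A hAnil hAkd using hA
  let g : Nat.Partition n → GL (Fin n) F := fun ν => (hAnil ν).isUnit_add_one.unit
  have hgval : ∀ ν, (g ν).val - 1 = A ν := by
    intro ν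
    show (hAnil ν).isUnit_add_one.unit.val - 1 = A ν
    rw [IsUnit.unit_spec, add_sub_cancel_right]
  have hzero : ∀ (ν : Nat.Partition n) (j : ℕ), A ν ^ j = 0 ↔ ∀ a ∈ ν.parts, a ≤ j := by
    intro ν j
    rw [pow_eq_zero_iff_kd, hAkd ν j, ← sum_min_eq_sum_iff, ν.parts_sum]
  have hord : ∀ x : GL (Fin n) F, orderOf x = p ↔ (x.val - 1) ^ p = 0 ∧ (x.val - 1) ^ 1 ≠ 0 := by
    intro x
    rw [orderOf_eq_prime_iff, pow_p_eq_one_iff p x, pow_one]
    constructor
    · rintro ⟨h1, h2⟩
      refine ⟨h1, fun h3 => h2 (Units.ext ?_)⟩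
      rw [Units.val_one]
      exact sub_eq_zero.mp h3
    · rintro ⟨h1, h2⟩
      refine ⟨h1, fun h3 => h2 ?_⟩
      rw [h3, Units.val_one, sub_self]
  have hgord : ∀ ν : T, orderOf (g ν.1) = p := by
    intro ν
    rw [hord, hgval, hzero, Ne, hzero]
    exact ν.2
  have hconj : ∀ (x y c : GL (Fin n) F), c * x * c⁻¹ = y →
      c.val * (x.val - 1) = (y.val - 1) * c.val := by
    intro x y c h
    have h1 : c * x = y * c := by rw [← h]; group
    have h2 : c.val * x.val = y.val * c.val := by
      rw [← Units.val_mul, ← Units.val_mul, h1]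
    rw [mul_sub, sub_mul, h2, mul_one, one_mul]
  have hcard : Nat.card {C : ConjClasses (GL (Fin n) F) //
      ∃ g : GL (Fin n) F, ConjClasses.mk g = C ∧ orderOf g = p} = Nat.card T := by
    symm
    refine Nat.card_eq_of_bijective (fun ν => ⟨ConjClasses.mk (g ν.1), g ν.1, rfl, hgord ν⟩)
      ⟨?_, ?_⟩
    · intro ν ν' h
      have h1 : ConjClasses.mk (g ν.1) = ConjClasses.mk (g ν'.1) := congrArg Subtype.val h
      rw [ConjClasses.mk_eq_mk_iff_isConj, isConj_iff] at h1
      obtain ⟨c, hc⟩ := h1
      have h2 := hconj _ _ c hc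
      rw [hgval, hgval] at h2
      have h3 := kd_eq_of_gl_conj (A ν.1) (A ν'.1) c h2
      apply Subtype.ext
      apply Nat.Partition.ext
      apply type_unique _ _ (fun a ha => ν.1.parts_pos ha) (fun a ha => ν'.1.parts_pos ha)
      intro j
      rw [← hAkd ν.1 j, ← hAkd ν'.1 j, h3]
    · rintro ⟨C, x, rfl, hx⟩
      have hx' := (hord x).mp hx
      have hxn : IsNilpotent (x.val - 1) := ⟨p, hx'.1⟩
      obtain ⟨μ, hμpos, hμsum, hμkd⟩ := exists_type_matrix (x.val - 1) hxn
      let ν : Nat.Partition n := ⟨μ, fun {a} ha => hμpos a ha, hμsum⟩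
      have hν : (∀ a ∈ ν.parts, a ≤ p) ∧ ¬ (∀ a ∈ ν.parts, a ≤ 1) := by
        constructor
        · rw [← sum_min_eq_sum_iff, ← hμkd p, hμsum, ← pow_eq_zero_iff_kd]
          exact hx'.1
        · rw [← sum_min_eq_sum_iff, ← hμkd 1, hμsum, ← pow_eq_zero_iff_kd]
          exact hx'.2
      obtain ⟨P, hP⟩ := exists_gl_conj_of_kd_eq (A ν) (x.val - 1) (hAnil ν) hxn
        (fun j => by rw [hAkd ν j, hμkd j])
      refine ⟨⟨ν, hν⟩, Subtype.ext ?_⟩
      show ConjClasses.mk (g ν) = ConjClasses.mk x
      rw [ConjClasses.mk_eq_mk_iff_isConj, isConj_iff]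
      refine ⟨P, ?_⟩
      rw [← hgval ν] at hP
      have h1 : P.val * (g ν).val = x.val * P.val := by
        rw [mul_sub, sub_mul, mul_one, one_mul] at hP
        exact sub_left_injective hP
      have h2 : P * g ν = x * P := Units.ext h1
      rw [h2]; group
  rw [hcard, Nat.card_eq_fintype_card, Fintype.card_subtype]
  -- count: remove the partition into ones
  have hp1 : 1 ≤ p := (Fact.out : p.Prime).one_lt.le
  have hsplit := Finset.card_filter_add_card_filter_not
    (s := Finset.univ.filter (fun μ : Nat.Partition n => ∀ a ∈ μ.parts, a ≤ p))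
    (fun μ : Nat.Partition n => ∀ a ∈ μ.parts, a ≤ 1)
  rw [Finset.filter_filter, Finset.filter_filter] at hsplit
  have hone : (Finset.univ.filter (fun μ : Nat.Partition n =>
      (∀ a ∈ μ.parts, a ≤ p) ∧ ∀ a ∈ μ.parts, a ≤ 1)).card = 1 := by
    rw [Finset.card_eq_one]
    refine ⟨⟨Multiset.replicate n 1, fun {a} ha => by
      rw [Multiset.eq_of_mem_replicate ha]; exact Nat.one_pos, by simp⟩, ?_⟩
    ext μ
    simp only [Finset.mem_filter, Finset.mem_univ, true_and, Finset.mem_singleton]
    constructor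
    · rintro ⟨_, h1⟩
      apply Nat.Partition.ext
      show μ.parts = Multiset.replicate n 1
      have h2 : ∀ b ∈ μ.parts, b = 1 := fun b hb => by
        have := h1 b hb
        have := μ.parts_pos hb
        omega
      have h3 : μ.parts = Multiset.replicate (Multiset.card μ.parts) 1 :=
        Multiset.eq_replicate.mpr ⟨rfl, h2⟩
      have h4 := μ.parts_sum
      rw [h3, Multiset.sum_replicate, smul_eq_mul, mul_one] at h4
      rw [h3, h4]
    · rintro rfl
      constructor
      · intro a ha
        rw [Multiset.eq_of_mem_replicate ha]; exact hp1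
      · intro a ha
        rw [Multiset.eq_of_mem_replicate ha]
  omega

end Cfsg.Agent.S2570
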