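import Cfsg.Statements.S2571
import Cfsg.Agent.Lib.Helper43.RegularNilpotent3

set_option autoImplicit false
open Cfsg

namespace Cfsg.Agent.S2571

open Cfsg.Agent.Lib.Helper43 Polynomial

/-- The centraliser in `GL_n` of `u = 1 + A`, `A` regular nilpotent, is in bijection with the vectors
outside `ker A^(n-1)`. -/
theorem card_centralizer_eq {F : Type*} [Field F] {n : ℕ} (hn : 1 ≤ n) (u : GL (Fin n) F)
    (hnil : ((u : Matrix (Fin n) (Fin n) F) - 1) ^ n = 0)
    (hreg : ((u : Matrix (Fin n) (Fin n) F) - 1).rank = n - 1) :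
    Nat.card ↥(Subgroup.centralizer ({u} : Set (GL (Fin n) F))) =
      Nat.card {w : Fin n → F // (((u : Matrix (Fin n) (Fin n) F) - 1) ^ (n - 1)).mulVec w ≠ 0} := by
  classical
  set U : Matrix (Fin n) (Fin n) F := (u : Matrix (Fin n) (Fin n) F) with hU
  set A : Matrix (Fin n) (Fin n) F := U - 1 with hA
  let T := Matrix.toLinAlgEquiv' (R := F) (n := Fin n)
  have hTapply : ∀ (M : Matrix (Fin n) (Fin n) F) (v : Fin n → F), T M v = M.mulVec v :=
    fun M v => Matrix.toLinAlgEquiv'_apply M v
  set N : Module.End F (Fin n → F) := T A with hN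
  have hfin : Module.finrank F (Fin n → F) = n := Module.finrank_fin_fun F
  have h1 : Module.finrank F (LinearMap.ker N) ≤ 1 :=
    finrank_ker_mulVecLin_le_one' A (by rw [Fintype.card_fin]; exact hreg)
  have hnil' : N ^ Module.finrank F (Fin n → F) = 0 := by
    rw [hfin, hN, ← map_pow, hnil, map_zero]
  obtain ⟨v0, hv0⟩ := exists_cyclic N h1 hnil' (by rw [hfin]; exact hn)
  have hNpow : ∀ w, (N ^ (Module.finrank F (Fin n → F) - 1)) w = (A ^ (n - 1)).mulVec w := by
    intro w
    rw [hfin, hN, ← map_pow, hTapply]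
  -- matrices commuting with U commute with A
  have hcommA : ∀ G : Matrix (Fin n) (Fin n) F, U * G = G * U → Commute (T G) N := by
    intro G hG
    have : Commute G A := by
      show G * A = A * G
      rw [hA, mul_sub, sub_mul, mul_one, one_mul, hG]
    exact this.map T
  -- the bijection
  let Φ : ↥(Subgroup.centralizer ({u} : Set (GL (Fin n) F))) →
      {w : Fin n → F // (A ^ (n - 1)).mulVec w ≠ 0} := fun g =>
    ⟨((g.1 : GL (Fin n) F) : Matrix (Fin n) (Fin n) F).mulVec v0, by
      have hg : u * g.1 = g.1 * u := Subgroup.mem_centralizer_iff.mp g.2 u rfl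
      have hG : U * ((g.1 : GL (Fin n) F) : Matrix (Fin n) (Fin n) F)
          = ((g.1 : GL (Fin n) F) : Matrix (Fin n) (Fin n) F) * U := congrArg Units.val hg
      have hinj : Function.Injective (T ((g.1 : GL (Fin n) F) : Matrix (Fin n) (Fin n) F)) := by
        intro a b hab
        rw [hTapply, hTapply] at hab
        exact Matrix.mulVec_injective_of_isUnit (Units.isUnit g.1) hab
      have := (injective_iff_of_commute N h1 hnil' v0 hv0 _ (hcommA _ hG)).mp hinj
      rw [hNpow, hTapply] at this
      exact this⟩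
  apply Nat.card_eq_of_bijective Φ
  constructor
  · -- injective
    intro g g' hgg'
    have hvec : ((g.1 : GL (Fin n) F) : Matrix (Fin n) (Fin n) F).mulVec v0
        = ((g'.1 : GL (Fin n) F) : Matrix (Fin n) (Fin n) F).mulVec v0 := congrArg Subtype.val hgg'
    have hg : u * g.1 = g.1 * u := Subgroup.mem_centralizer_iff.mp g.2 u rfl
    have hg' : u * g'.1 = g'.1 * u := Subgroup.mem_centralizer_iff.mp g'.2 u rfl
    have hG : U * ((g.1 : GL (Fin n) F) : Matrix (Fin n) (Fin n) F)
        = ((g.1 : GL (Fin n) F) : Matrix (Fin n) (Fin n) F) * U := congrArg Units.val hg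
    have hG' : U * ((g'.1 : GL (Fin n) F) : Matrix (Fin n) (Fin n) F)
        = ((g'.1 : GL (Fin n) F) : Matrix (Fin n) (Fin n) F) * U := congrArg Units.val hg'
    have hzero : T ((g.1 : GL (Fin n) F) : Matrix (Fin n) (Fin n) F)
        - T ((g'.1 : GL (Fin n) F) : Matrix (Fin n) (Fin n) F) = 0 := by
      apply eq_zero_of_commute_of_apply_eq_zero N h1 hnil' v0 hv0
      · exact (hcommA _ hG).sub_left (hcommA _ hG')
      · rw [LinearMap.sub_apply, hTapply, hTapply, hvec, sub_self]
    have hGG' : ((g.1 : GL (Fin n) F) : Matrix (Fin n) (Fin n) F)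
        = ((g'.1 : GL (Fin n) F) : Matrix (Fin n) (Fin n) F) := T.injective (sub_eq_zero.mp hzero)
    exact Subtype.ext (Units.ext hGG')
  · -- surjective
    rintro ⟨w, hw⟩
    obtain ⟨p, hp⟩ := exists_aeval_apply_eq N h1 hnil' v0 hv0 w
    set G : Matrix (Fin n) (Fin n) F := aeval A p with hG
    have hTG : T G = aeval N p := by
      rw [hG, hN]
      exact (aeval_algHom_apply T A p).symm
    have hGA : Commute G A := by
      have h1 : Commute (X : F[X]) p := Commute.all _ _
      have h2 := h1.map (aeval A)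
      rw [aeval_X] at h2
      exact h2.symm
    have hGU : U * G = G * U := by
      have hUA : U = A + 1 := by rw [hA]; abel
      rw [hUA, add_mul, mul_add, one_mul, mul_one, hGA.eq]
    have hinj : Function.Injective (T G) := by
      rw [injective_iff_of_commute N h1 hnil' v0 hv0 _ (hGA.map T), hNpow, hTG, hp]
      exact hw
    have hunit : IsUnit G := by
      rw [← Matrix.mulVec_injective_iff_isUnit]
      intro a b hab
      rw [← hTapply, ← hTapply] at hab
      exact hinj hab
    obtain ⟨g, hg⟩ := hunit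
    have hmem : g ∈ Subgroup.centralizer ({u} : Set (GL (Fin n) F)) := by
      rw [Subgroup.mem_centralizer_iff]
      rintro h rfl
      apply Units.ext
      show U * (g : Matrix (Fin n) (Fin n) F) = (g : Matrix (Fin n) (Fin n) F) * U
      rw [hg]; exact hGU
    refine ⟨⟨g, hmem⟩, ?_⟩
    apply Subtype.ext
    show ((g : GL (Fin n) F) : Matrix (Fin n) (Fin n) F).mulVec v0 = w
    rw [hg, ← hTapply, hTG, hp]

/-- Centraliser of a regular unipotent element in GL_n(q): if u is an invertible n × n matrix over the field with q elements, n ≥ 1, with (u − 1)^n = 0 and rank(u − 1) = n − 1 (a single unipotent Jordan block), then its centraliser in GL_n(q) has order (q − 1) q^(n−1). -/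
theorem result {F : Type*} [Field F] [Fintype F] {q n : ℕ} (hF : Fintype.card F = q) (hn : 1 ≤ n) (u : GL (Fin n) F) (hnil : ((u : Matrix (Fin n) (Fin n) F) - 1) ^ n = 0) (hreg : ((u : Matrix (Fin n) (Fin n) F) - 1).rank = n - 1) : Nat.card ↥(Subgroup.centralizer ({u} : Set (GL (Fin n) F))) = (q - 1) * q ^ (n - 1) := by
  classical
  rw [card_centralizer_eq hn u hnil hreg]
  set A : Matrix (Fin n) (Fin n) F := (u : Matrix (Fin n) (Fin n) F) - 1 with hA
  set S : Submodule F (Fin n → F) := LinearMap.ker (Matrix.mulVecLin (A ^ (n - 1))) with hS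
  have hSdim : Module.finrank F S = n - 1 := matrix_finrank_ker_pow_eq A hnil hreg (n - 1) (Nat.sub_le _ _)
  have hScard : Nat.card S = q ^ (n - 1) := by
    rw [Module.natCard_eq_pow_finrank (K := F), hSdim, Nat.card_eq_fintype_card, hF]
  have hVcard : Nat.card (Fin n → F) = q ^ n := by
    rw [Module.natCard_eq_pow_finrank (K := F), Module.finrank_fin_fun, Nat.card_eq_fintype_card, hF]
  have hcompl : Nat.card {w : Fin n → F // (A ^ (n - 1)).mulVec w ≠ 0}
      = Nat.card (Fin n → F) - Nat.card S := by
    have h1 : Nat.card {w : Fin n → F // (A ^ (n - 1)).mulVec w ≠ 0}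
        = Nat.card {w : Fin n → F // ¬ (w ∈ S)} := by
      apply Nat.card_congr
      apply Equiv.subtypeEquivRight
      intro w
      rw [hS, LinearMap.mem_ker, Matrix.mulVecLin_apply]
    rw [h1, Nat.card_eq_fintype_card, Nat.card_eq_fintype_card, Nat.card_eq_fintype_card]
    exact Fintype.card_subtype_compl (fun w => w ∈ S)
  rw [hcompl, hScard, hVcard]
  obtain ⟨k, hk⟩ : ∃ k, n = k + 1 := ⟨n - 1, by omega⟩
  have hk1 : n - 1 = k := by omega
  rw [hk1, hk, pow_succ, Nat.sub_mul, one_mul, mul_comm]

end Cfsg.Agent.S2571
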