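import Cfsg.Statements.S2572
import Cfsg.Agent.Lib.Helper43.TransvectionCentralizer

set_option autoImplicit false
open Cfsg

namespace Cfsg.Agent.S2572

/-- Centraliser of a transvection in GL_n(q), n ≥ 2: if t − 1 has rank one and square zero, the centraliser of t in GL_n(q) has order q^(2n−3) (q − 1) |GL_(n−2)(q)| (a group of order q^(2n−3) extended by GL_1(q) × GL_(n−2)(q)). -/
theorem result {F : Type*} [Field F] [Fintype F] {q n : ℕ} (hF : Fintype.card F = q) (hn : 2 ≤ n) (t : GL (Fin n) F) (ht : Cfsg.IsTransvection (t : Matrix (Fin n) (Fin n) F)) : Nat.card ↥(Subgroup.centralizer ({t} : Set (GL (Fin n) F))) = q ^ (2 * n - 3) * (q - 1) * ∏ i : Fin (n - 2), (q ^ (n - 2) - q ^ (i : ℕ)) := by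
  classical
  subst hF
  obtain ⟨v, f, hv, hf, hfv, hN⟩ := Cfsg.Agent.Lib.Helper43.exists_vecMulVec_of_rankOne
    ((t : Matrix (Fin n) (Fin n) F) - 1) ht.1 ht.2
  have ht' : (t : Matrix (Fin n) (Fin n) F) = 1 + Matrix.vecMulVec v f := by
    rw [← hN]; abel
  have hp : (⟨v, f⟩ : Cfsg.Agent.Lib.Helper43.VecPair n F) ∈
      Cfsg.Agent.Lib.Helper43.pairSet n F := ⟨hv, hf, hfv⟩
  rw [Cfsg.Agent.Lib.Helper43.card_centralizer_eq_mul t hp ht']
  have h1 := Cfsg.Agent.Lib.Helper43.card_stabilizer_mul hp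
  rw [Matrix.card_GL_field] at h1
  obtain ⟨m, rfl⟩ : ∃ m, n = m + 2 := ⟨n - 2, by omega⟩
  set q := Fintype.card F with hq
  have hq2 : 2 ≤ q := Fintype.one_lt_card
  set S := Nat.card ↥(MulAction.stabilizer (GL (Fin (m + 2)) F)
    (⟨v, f⟩ : Cfsg.Agent.Lib.Helper43.VecPair (m + 2) F)) with hS
  have hprod : ∏ i : Fin (m + 2), (q ^ (m + 2) - q ^ (i : ℕ)) =
      ((q ^ (m + 2) - 1) * (q ^ (m + 1) - 1)) *
        (q ^ (2 * m + 1) * ∏ i : Fin m, (q ^ m - q ^ (i : ℕ))) := by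
    rw [Fin.prod_univ_succ, Fin.prod_univ_succ]
    have h2 : ∀ i : Fin m, q ^ (m + 2) - q ^ ((i.succ.succ : Fin (m + 2)) : ℕ) =
        q ^ 2 * (q ^ m - q ^ (i : ℕ)) := by
      intro i
      rw [Nat.mul_sub, ← pow_add, ← pow_add]
      simp only [Fin.val_succ]
      congr 1
      · rw [add_comm]
      · rw [add_comm 2, add_assoc]
    simp_rw [h2]
    rw [Finset.prod_mul_distrib, Finset.prod_const, Finset.card_univ, Fintype.card_fin]
    have h3 : q ^ (m + 2) - q ^ (((0 : Fin (m + 1)).succ : Fin (m + 2)) : ℕ) =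
        q * (q ^ (m + 1) - 1) := by
      rw [Nat.mul_sub, mul_one, ← pow_succ']
      simp
    rw [h3]
    simp only [Fin.val_zero, pow_zero]
    rw [← pow_mul, pow_succ (q) (2 * m)]
    ring
  have hA : 0 < (q ^ (m + 2) - 1) * (q ^ (m + 1) - 1) := by
    have h4 : 2 ≤ q ^ (m + 2) := by
      calc 2 ≤ q := hq2
        _ = q ^ 1 := (pow_one q).symm
        _ ≤ q ^ (m + 2) := Nat.pow_le_pow_right (by omega) (by omega)
    have h5 : 2 ≤ q ^ (m + 1) := by
      calc 2 ≤ q := hq2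
        _ = q ^ 1 := (pow_one q).symm
        _ ≤ q ^ (m + 1) := Nat.pow_le_pow_right (by omega) (by omega)
    exact Nat.mul_pos (by omega) (by omega)
  have hmsimp : m + 2 - 1 = m + 1 := by omega
  rw [hmsimp, hprod, mul_comm] at h1
  have hSeq : S = q ^ (2 * m + 1) * ∏ i : Fin m, (q ^ m - q ^ (i : ℕ)) :=
    Nat.eq_of_mul_eq_mul_left hA h1
  rw [hSeq]
  have h6 : 2 * (m + 2) - 3 = 2 * m + 1 := by omega
  rw [h6]
  change _ = q ^ (2 * m + 1) * (q - 1) * ∏ i : Fin m, (q ^ m - q ^ (i : ℕ))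
  ring

end Cfsg.Agent.S2572
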