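import Cfsg.Statements.S2574
import Cfsg.Agent.Lib.Helper43.RegularNilpotent2

set_option autoImplicit false
open Cfsg

namespace Cfsg.Agent.S2574

open Cfsg.Agent.Lib.Helper43

/-- a symplectic matrix preserves the symplectic form -/
theorem sympForm_mulVec {F : Type*} [Field F] {m : ℕ}
    (U : Matrix (Fin m ⊕ Fin m) (Fin m ⊕ Fin m) F) (hU : U ∈ Matrix.symplecticGroup (Fin m) F)
    (a b : Fin m ⊕ Fin m → F) :
    Cfsg.sympForm m F (U.mulVec a) (U.mulVec b) = Cfsg.sympForm m F a b := by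
  unfold Cfsg.sympForm
  have h := SymplecticGroup.mem_iff'.mp hU
  rw [Matrix.mulVec_mulVec, Matrix.dotProduct_mulVec, Matrix.vecMul_mulVec, ← Matrix.dotProduct_mulVec,
    ← Matrix.mul_assoc, h]

theorem sympForm_sub_left {F : Type*} [Field F] {m : ℕ} (a a' b : Fin m ⊕ Fin m → F) :
    Cfsg.sympForm m F (a - a') b = Cfsg.sympForm m F a b - Cfsg.sympForm m F a' b := by
  unfold Cfsg.sympForm
  rw [sub_dotProduct]

theorem sympForm_sub_right {F : Type*} [Field F] {m : ℕ} (a b b' : Fin m ⊕ Fin m → F) :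
    Cfsg.sympForm m F a (b - b') = Cfsg.sympForm m F a b - Cfsg.sympForm m F a b' := by
  unfold Cfsg.sympForm
  rw [Matrix.mulVec_sub, dotProduct_sub]

theorem sympForm_zero_right {F : Type*} [Field F] {m : ℕ} (a : Fin m ⊕ Fin m → F) :
    Cfsg.sympForm m F a 0 = 0 := by
  unfold Cfsg.sympForm
  rw [Matrix.mulVec_zero, dotProduct_zero]

/-- `f(N a, b) = - f(u a, N b)` for `N = u - 1`, `u` symplectic -/
theorem sympForm_N {F : Type*} [Field F] {m : ℕ}
    (U : Matrix (Fin m ⊕ Fin m) (Fin m ⊕ Fin m) F) (hU : U ∈ Matrix.symplecticGroup (Fin m) F)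
    (a b : Fin m ⊕ Fin m → F) :
    Cfsg.sympForm m F ((U - 1).mulVec a) b = - Cfsg.sympForm m F (U.mulVec a) ((U - 1).mulVec b) := by
  rw [Matrix.sub_mulVec, Matrix.sub_mulVec, Matrix.one_mulVec, Matrix.one_mulVec,
    sympForm_sub_left, sympForm_sub_right, sympForm_mulVec U hU]
  ring

theorem sympForm_N_pow {F : Type*} [Field F] {m : ℕ}
    (U : Matrix (Fin m ⊕ Fin m) (Fin m ⊕ Fin m) F) (hU : U ∈ Matrix.symplecticGroup (Fin m) F)
    (k : ℕ) (a b : Fin m ⊕ Fin m → F) :
    Cfsg.sympForm m F (((U - 1) ^ k).mulVec a) b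
      = (-1) ^ k * Cfsg.sympForm m F ((U ^ k).mulVec a) (((U - 1) ^ k).mulVec b) := by
  induction k generalizing a b with
  | zero => simp
  | succ k ih =>
    have hcomm : Commute (U - 1) U := (Commute.refl U).sub_left (Commute.one_left U)
    have hcomm' : Commute ((U - 1) ^ k) U := hcomm.pow_left k
    have e1 : ((U - 1) ^ (k + 1)).mulVec a = (U - 1).mulVec (((U - 1) ^ k).mulVec a) := by
      rw [Matrix.mulVec_mulVec, ← pow_succ']
    have e2 : U.mulVec (((U - 1) ^ k).mulVec a) = ((U - 1) ^ k).mulVec (U.mulVec a) := by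
      rw [Matrix.mulVec_mulVec, Matrix.mulVec_mulVec, hcomm'.eq]
    have e3 : (U ^ k).mulVec (U.mulVec a) = (U ^ (k + 1)).mulVec a := by
      rw [Matrix.mulVec_mulVec, ← pow_succ]
    have e4 : ((U - 1) ^ k).mulVec ((U - 1).mulVec b) = ((U - 1) ^ (k + 1)).mulVec b := by
      rw [Matrix.mulVec_mulVec, ← pow_succ]
    rw [e1, sympForm_N U hU, e2, ih, e3, e4, pow_succ]
    ring

/-- A regular unipotent element of the symplectic group has totally isotropic small invariant subspaces: over a finite field, if u ∈ Sp_2m(F) satisfies (u − 1)^(2m) = 0 and rank(u − 1) = 2m − 1, and W is a u-invariant subspace with 2 dim W ≤ 2m, then the alternating form vanishes identically on W. -/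
theorem result {F : Type*} [Field F] [Finite F] {m : ℕ} (u : Matrix.symplecticGroup (Fin m) F) (hnil : ((u : Matrix (Fin m ⊕ Fin m) (Fin m ⊕ Fin m) F) - 1) ^ (2 * m) = 0) (hreg : ((u : Matrix (Fin m ⊕ Fin m) (Fin m ⊕ Fin m) F) - 1).rank = 2 * m - 1) (W : Submodule F (Fin m ⊕ Fin m → F)) (hW : ∀ v ∈ W, (u : Matrix (Fin m ⊕ Fin m) (Fin m ⊕ Fin m) F).mulVec v ∈ W) (hdim : 2 * Module.finrank F W ≤ 2 * m) : ∀ v ∈ W, ∀ w ∈ W, Cfsg.sympForm m F v w = 0 := by
  classical
  set U : Matrix (Fin m ⊕ Fin m) (Fin m ⊕ Fin m) F := (u : Matrix (Fin m ⊕ Fin m) (Fin m ⊕ Fin m) F) with hUdef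
  have hU : U ∈ Matrix.symplecticGroup (Fin m) F := u.2
  set A : Matrix (Fin m ⊕ Fin m) (Fin m ⊕ Fin m) F := U - 1 with hA
  set N : Module.End F (Fin m ⊕ Fin m → F) := Matrix.mulVecLin A with hN
  have hcard : Fintype.card (Fin m ⊕ Fin m) = 2 * m := by simp; ring
  have hfin : Module.finrank F (Fin m ⊕ Fin m → F) = 2 * m := by
    rw [Module.finrank_fintype_fun_eq_card, hcard]
  have h1 : Module.finrank F (LinearMap.ker N) ≤ 1 :=
    finrank_ker_mulVecLin_le_one' A (by rw [hcard]; exact hreg)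
  have hnil' : N ^ Module.finrank F (Fin m ⊕ Fin m → F) = 0 :=
    mulVecLin_pow_finrank_eq_zero A (by rw [hcard]; exact hnil)
  have hWN : ∀ v ∈ W, N v ∈ W := by
    intro v hv
    show A.mulVec v ∈ W
    rw [hA, Matrix.sub_mulVec, Matrix.one_mulVec]
    exact W.sub_mem (hW v hv) hv
  set d := Module.finrank F W with hd
  have hWker : W = LinearMap.ker (N ^ d) := invariant_eq_ker_pow N h1 hnil' W hWN
  have hdle : d ≤ Module.finrank F (Fin m ⊕ Fin m → F) := by rw [hfin]; omega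
  have hker_range := ker_pow_eq_range_pow N h1 hnil' d hdle
  rw [hfin] at hker_range
  intro v hv w hw
  rw [hWker, hker_range] at hv
  obtain ⟨x, rfl⟩ := hv
  rw [hWker, LinearMap.mem_ker] at hw
  -- N^(2m-d) w = 0
  have hw' : (N ^ (2 * m - d)) w = 0 := by
    have : 2 * m - d = (2 * m - d - d) + d := by omega
    rw [this, pow_add, Module.End.mul_apply, hw, map_zero]
  rw [hN, ← mulVecLin_pow'] at hw' ⊢
  rw [Matrix.mulVecLin_apply] at hw' ⊢
  rw [sympForm_N_pow U hU, hw', sympForm_zero_right, mul_zero]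

end Cfsg.Agent.S2574
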