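import Cfsg.Statements.S2575
-- import your own Cfsg.Agent.* helpers here

set_option autoImplicit false
open Cfsg

namespace Cfsg.Agent.S2575

theorem det_formula {F : Type*} [Field F] (n i : ℕ) (hi : i ≤ n) (c : F) :
    (c • Matrix.diagonal (fun j : Fin n => if (j : ℕ) < i then (-1 : F) else 1)).det
      = c ^ n * (-1) ^ i := by
  rw [Matrix.det_smul, Matrix.det_diagonal, Fintype.card_fin]
  congr 1
  rw [Fin.prod_univ_eq_prod_range (fun j => if j < i then (-1 : F) else 1) n,
    ← Finset.prod_range_mul_prod_Ico _ hi]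
  have h1 : ∏ k ∈ Finset.range i, (if k < i then (-1 : F) else 1) = (-1) ^ i := by
    rw [Finset.prod_congr rfl (g := fun _ => (-1 : F))]
    · rw [Finset.prod_const, Finset.card_range]
    · intro k hk
      rw [if_pos (Finset.mem_range.mp hk)]
  have h2 : ∏ k ∈ Finset.Ico i n, (if k < i then (-1 : F) else 1) = 1 := by
    apply Finset.prod_eq_one
    intro k hk
    rw [if_neg (not_lt.mpr (Finset.mem_Ico.mp hk).1)]
  rw [h1, h2, mul_one]

theorem neg_one_ne_one {F : Type*} [Field F] [Fintype F] (hq : Odd (Fintype.card F)) :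
    (-1 : F) ≠ 1 := by
  apply Ring.neg_one_ne_one_of_char_ne_two
  intro h
  have := FiniteField.even_card_iff_char_two.mp h
  rcases hq with ⟨k, hk⟩
  omega

theorem exists_pow_two_pow_eq_neg_one {F : Type*} [Field F] [Fintype F]
    (hq : Odd (Fintype.card F)) :
    ∀ a : ℕ, 2 ^ (a + 1) ∣ Fintype.card F - 1 → ∃ x : F, x ^ (2 ^ a) = -1 := by
  intro a
  induction a with
  | zero => intro _; exact ⟨-1, by simp⟩
  | succ a ih =>
    intro hdvd
    have hdvd' : 2 ^ (a + 1) ∣ Fintype.card F - 1 :=
      Dvd.dvd.trans (pow_dvd_pow 2 (Nat.le_succ _)) hdvd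
    obtain ⟨x, hx⟩ := ih hdvd'
    have hx0 : x ≠ 0 := by
      rintro rfl
      rw [zero_pow (by positivity)] at hx
      exact (neg_ne_zero.mpr one_ne_zero) hx.symm
    have hchar : ringChar F ≠ 2 := by
      intro h
      have := FiniteField.even_card_iff_char_two.mp h
      rcases hq with ⟨k, hk⟩
      omega
    obtain ⟨s, hs⟩ := hdvd
    have hhalf : Fintype.card F / 2 = 2 ^ (a + 1) * s := by
      rcases hq with ⟨k, hk⟩
      have h1 : Fintype.card F - 1 = 2 * k := by omega
      have h2 : 2 * k = 2 * (2 ^ (a + 1) * s) := by rw [← h1, hs]; ring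
      have h3 : k = 2 ^ (a + 1) * s := by omega
      omega
    have hsq : IsSquare x := by
      rw [FiniteField.isSquare_iff hchar hx0, hhalf, pow_mul, pow_succ, pow_mul, hx]
      simp
    obtain ⟨y, hy⟩ := hsq
    refine ⟨y, ?_⟩
    rw [pow_succ, mul_comm, pow_mul, pow_two, ← hy, hx]

/-- Which diagonal involutions of PGL_n(q) lie in PSL_n(q), q odd: for the diagonal matrix t with i entries −1 and n − i entries 1, some non-zero scalar multiple of t has determinant one if and only if i is even or the 2-part of q − 1 exceeds the 2-part of n (that is, −1 is an n-th power in the field exactly in the latter case). -/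
theorem result {F : Type*} [Field F] [Fintype F] {q : ℕ} (hF : Fintype.card F = q) (hq : Odd q) {n : ℕ} (hn : 1 ≤ n) (i : ℕ) (hi : i ≤ n) : (∃ c : F, c ≠ 0 ∧ (c • Matrix.diagonal (fun j : Fin n => if (j : ℕ) < i then (-1 : F) else 1)).det = 1) ↔ (Even i ∨ padicValNat 2 n < padicValNat 2 (q - 1)) := by
  classical
  subst hF
  have hne : (-1 : F) ≠ 1 := neg_one_ne_one hq
  have hq1 : Fintype.card F - 1 ≠ 0 := by
    have : 1 < Fintype.card F := Fintype.one_lt_card
    omega
  have hn0 : n ≠ 0 := by omega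
  have : Fact (Nat.Prime 2) := ⟨Nat.prime_two⟩
  constructor
  · rintro ⟨c, hc0, hc⟩
    rw [det_formula n i hi c] at hc
    by_contra hcon
    push Not at hcon
    obtain ⟨hodd, hle⟩ := hcon
    have hodd' : Odd i := Nat.not_even_iff_odd.mp hodd
    rw [hodd'.neg_one_pow] at hc
    have hcn : c ^ n = -1 := by
      have : c ^ n = -(c ^ n * -1) := by ring
      rw [this, hc]
    set b := padicValNat 2 (Fintype.card F - 1) with hb
    obtain ⟨t, ht⟩ : 2 ^ b ∣ Fintype.card F - 1 := pow_padicValNat_dvd
    have htodd : Odd t := by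
      rw [← Nat.not_even_iff_odd]
      rintro ⟨u, hu⟩
      have : 2 ^ (b + 1) ∣ Fintype.card F - 1 := ⟨u, by rw [ht, hu]; ring⟩
      have := (padicValNat_dvd_iff_le hq1).mp this
      omega
    obtain ⟨n1, hn1⟩ : 2 ^ b ∣ n := (padicValNat_dvd_iff_le hn0).mpr hle
    have h1 : (c ^ n) ^ t = 1 := by
      rw [← pow_mul, hn1]
      have : 2 ^ b * n1 * t = (Fintype.card F - 1) * n1 := by rw [ht]; ring
      rw [this, pow_mul, FiniteField.pow_card_sub_one_eq_one c hc0, one_pow]
    rw [hcn, htodd.neg_one_pow] at h1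
    exact hne h1
  · intro h
    by_cases hev : Even i
    · refine ⟨1, one_ne_zero, ?_⟩
      rw [det_formula n i hi 1, hev.neg_one_pow, one_pow, one_mul]
    · have hlt : padicValNat 2 n < padicValNat 2 (Fintype.card F - 1) := h.resolve_left hev
      have hodd' : Odd i := Nat.not_even_iff_odd.mp hev
      set a := padicValNat 2 n with ha
      have hdvd : 2 ^ (a + 1) ∣ Fintype.card F - 1 := (padicValNat_dvd_iff_le hq1).mpr hlt
      obtain ⟨x, hx⟩ := exists_pow_two_pow_eq_neg_one hq a hdvd
      obtain ⟨n1, hn1⟩ : 2 ^ a ∣ n := pow_padicValNat_dvd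
      have hn1odd : Odd n1 := by
        rw [← Nat.not_even_iff_odd]
        rintro ⟨u, hu⟩
        have : 2 ^ (a + 1) ∣ n := ⟨u, by rw [hn1, hu]; ring⟩
        have := (padicValNat_dvd_iff_le hn0).mp this
        omega
      have hx0 : x ≠ 0 := by
        rintro rfl
        rw [zero_pow (by positivity)] at hx
        exact (neg_ne_zero.mpr one_ne_zero) hx.symm
      refine ⟨x, hx0, ?_⟩
      rw [det_formula n i hi x, hodd'.neg_one_pow]
      have : x ^ n = -1 := by
        rw [hn1, pow_mul, hx, hn1odd.neg_one_pow]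
      rw [this]; ring

end Cfsg.Agent.S2575
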