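import Cfsg.Statements.S2576
-- import your own Cfsg.Agent.* helpers here

set_option autoImplicit false
open Cfsg

namespace Cfsg.Agent.S2576

theorem det_formula {F : Type*} [Field F] (m : ℕ) (μ c : F) :
    (c • Matrix.blockDiagonal (fun _ : Fin m => !![(0 : F), 1; μ, 0])).det
      = c ^ (2 * m) * (-μ) ^ m := by
  rw [Matrix.det_smul, Matrix.det_blockDiagonal]
  simp [Matrix.det_fin_two_of]

theorem neg_one_ne_one {F : Type*} [Field F] [Fintype F] (hq : Odd (Fintype.card F)) :
    (-1 : F) ≠ 1 := by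
  apply Ring.neg_one_ne_one_of_char_ne_two
  intro h
  have := FiniteField.even_card_iff_char_two.mp h
  rcases hq with ⟨k, hk⟩
  omega

/-- Which involutions of PGL_2m(q) coming from a scalar of the quadratic extension field lie in PSL_2m(q), q odd: let μ generate the Sylow 2-subgroup of the multiplicative group of the field with q elements (μ has order the 2-part of q − 1) and let t be the block-diagonal matrix with m diagonal blocks [[0, 1], [μ, 0]] (so t² is the scalar μ and t is an involution modulo scalars). Then some non-zero scalar multiple of t has determinant one if and only if q ≡ 3 (mod 4) or the 2-part of q − 1 is less than the 2-part of 2m. -/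
theorem result {F : Type*} [Field F] [Fintype F] {q : ℕ} (hF : Fintype.card F = q) (hq : Odd q) {m : ℕ} (hm : 1 ≤ m) (μ : F) (hμ : orderOf μ = 2 ^ padicValNat 2 (q - 1)) : (∃ c : F, c ≠ 0 ∧ (c • Matrix.blockDiagonal (fun _ : Fin m => !![(0 : F), 1; μ, 0])).det = 1) ↔ (q % 4 = 3 ∨ padicValNat 2 (q - 1) < padicValNat 2 (2 * m)) := by
  classical
  subst hF
  have hne : (-1 : F) ≠ 1 := neg_one_ne_one hq
  have hcard : 1 < Fintype.card F := Fintype.one_lt_card
  have hq1 : Fintype.card F - 1 ≠ 0 := by omega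
  have hm0 : m ≠ 0 := by omega
  have h2m0 : 2 * m ≠ 0 := by omega
  have : Fact (Nat.Prime 2) := ⟨Nat.prime_two⟩
  set b := padicValNat 2 (Fintype.card F - 1) with hb
  -- b ≥ 1
  have hb1 : 1 ≤ b := by
    have : 2 ^ 1 ∣ Fintype.card F - 1 := by
      rcases hq with ⟨k, hk⟩
      exact ⟨k, by omega⟩
    exact (padicValNat_dvd_iff_le hq1).mp this
  -- μ ^ (2^(b-1)) = -1
  have hμpow : μ ^ (2 ^ b) = 1 := by rw [← hμ]; exact pow_orderOf_eq_one μ
  have hμhalf : μ ^ (2 ^ (b - 1)) = -1 := by
    have hsq : μ ^ (2 ^ (b - 1)) * μ ^ (2 ^ (b - 1)) = 1 := by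
      rw [← pow_add, ← two_mul, ← pow_succ']
      have : b - 1 + 1 = b := by omega
      rw [this, hμpow]
    rcases mul_self_eq_one_iff.mp hsq with h | h
    · exfalso
      have hdvd : orderOf μ ∣ 2 ^ (b - 1) := orderOf_dvd_of_pow_eq_one h
      rw [hμ] at hdvd
      have := Nat.le_of_dvd (by positivity) hdvd
      have h2 : 2 ^ (b - 1) < 2 ^ b := Nat.pow_lt_pow_right (by norm_num) (by omega)
      omega
    · exact h
  constructor
  · rintro ⟨c, hc0, hc⟩
    rw [det_formula m μ c] at hc
    by_contra hcon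
    push Not at hcon
    obtain ⟨hq4, hle⟩ := hcon
    -- q % 4 = 1, hence b ≥ 2
    have hb2 : 2 ≤ b := by
      have : 2 ^ 2 ∣ Fintype.card F - 1 := by
        rcases hq with ⟨k, hk⟩
        refine ⟨k / 2, ?_⟩
        omega
      exact (padicValNat_dvd_iff_le hq1).mp this
    have hνhalf : (-μ) ^ (2 ^ (b - 1)) = -1 := by
      rw [neg_pow, hμhalf]
      have : Even (2 ^ (b - 1)) := by
        refine ⟨2 ^ (b - 2), ?_⟩
        rw [← two_mul, ← pow_succ']
        congr 1; omega
      rw [this.neg_one_pow, one_mul]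
    have hval : padicValNat 2 (2 * m) = 1 + padicValNat 2 m := by
      rw [padicValNat.mul (by norm_num) hm0]
      simp
    set a := padicValNat 2 m with ha
    obtain ⟨m1, hm1⟩ : 2 ^ a ∣ m := pow_padicValNat_dvd
    have hm1odd : Odd m1 := by
      rw [← Nat.not_even_iff_odd]
      rintro ⟨u, hu⟩
      have : 2 ^ (a + 1) ∣ m := ⟨u, by rw [hm1, hu]; ring⟩
      have := (padicValNat_dvd_iff_le hm0).mp this
      omega
    obtain ⟨t, ht⟩ : 2 ^ b ∣ Fintype.card F - 1 := pow_padicValNat_dvd
    have htodd : Odd t := by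
      rw [← Nat.not_even_iff_odd]
      rintro ⟨u, hu⟩
      have : 2 ^ (b + 1) ∣ Fintype.card F - 1 := ⟨u, by rw [ht, hu]; ring⟩
      have := (padicValNat_dvd_iff_le hq1).mp this
      omega
    have hab : a + 1 ≤ b := by omega
    set e := t * 2 ^ (b - a - 1) with he
    have h1 : (c ^ (2 * m)) ^ e = 1 := by
      rw [← pow_mul]
      have : 2 * m * e = (Fintype.card F - 1) * m1 := by
        rw [ht, he, hm1]
        have h2 : 2 ^ b = 2 * 2 ^ a * 2 ^ (b - a - 1) := by
          rw [← pow_succ', ← pow_add]; congr 1; omega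
        rw [h2]; ring
      rw [this, pow_mul, FiniteField.pow_card_sub_one_eq_one c hc0, one_pow]
    have h2 : ((-μ) ^ m) ^ e = -1 := by
      rw [← pow_mul]
      have : m * e = 2 ^ (b - 1) * (m1 * t) := by
        rw [he, hm1]
        have h2 : 2 ^ (b - 1) = 2 ^ a * 2 ^ (b - a - 1) := by
          rw [← pow_add]; congr 1; omega
        rw [h2]; ring
      rw [this, pow_mul, hνhalf, (hm1odd.mul htodd).neg_one_pow]
    have h3 : (c ^ (2 * m) * (-μ) ^ m) ^ e = 1 := by rw [hc, one_pow]
    rw [mul_pow, h1, h2, one_mul] at h3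
    exact hne h3
  · intro h
    refine ⟨1, one_ne_zero, ?_⟩
    rw [det_formula m μ 1, one_pow, one_mul]
    rcases h with h | h
    · -- b = 1, μ = -1
      have hb1' : b = 1 := by
        by_contra hne1
        have hb2 : 2 ≤ b := by omega
        have : 2 ^ 2 ∣ Fintype.card F - 1 :=
          Dvd.dvd.trans (pow_dvd_pow 2 hb2) pow_padicValNat_dvd
        omega
      rw [hb1'] at hμhalf
      simp only [Nat.sub_self, pow_zero, pow_one] at hμhalf
      rw [hμhalf, neg_neg, one_pow]
    · have hval : padicValNat 2 (2 * m) = 1 + padicValNat 2 m := by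
        rw [padicValNat.mul (by norm_num) hm0]
        simp
      have hle : b ≤ padicValNat 2 m := by omega
      obtain ⟨m1, hm1⟩ : 2 ^ b ∣ m := (padicValNat_dvd_iff_le hm0).mpr hle
      have hνpow : (-μ) ^ (2 ^ b) = 1 := by
        rw [neg_pow, hμpow, mul_one]
        have : Even (2 ^ b) := by
          refine ⟨2 ^ (b - 1), ?_⟩
          rw [← two_mul, ← pow_succ']
          congr 1; omega
        exact this.neg_one_pow
      rw [hm1, pow_mul, hνpow, one_pow]

end Cfsg.Agent.S2576
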