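import Cfsg.Statements.S2578
import Cfsg.Agent.Lib.Helper43.RegularUnipotentMatrix

set_option autoImplicit false
open Cfsg

namespace Cfsg.Agent.S2578

open Matrix Cfsg.Agent.Lib.Helper43 in
/-- a surjection from a group whose fibres are the left cosets of `H` -/
theorem natCard_eq_index_of_surjective {A B : Type*} [Group A] (H : Subgroup A) (Ψ : A → B)
    (hsurj : Function.Surjective Ψ) (hker : ∀ a a', Ψ a = Ψ a' ↔ a⁻¹ * a' ∈ H) :
    Nat.card B = H.index := by
  let f : A ⧸ H → B := Quotient.lift Ψ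
    (fun a a' h => (hker a a').mpr (QuotientGroup.leftRel_apply.mp h))
  have hf : Function.Bijective f := by
    constructor
    · intro x y
      induction x using Quotient.inductionOn with | _ a => ?_
      induction y using Quotient.inductionOn with | _ a' => ?_
      intro h
      exact Quotient.sound (QuotientGroup.leftRel_apply.mpr ((hker a a').mp h))
    · intro b
      obtain ⟨a, ha⟩ := hsurj b
      exact ⟨Quotient.mk _ a, ha⟩
  rw [Subgroup.index, Nat.card_congr (Equiv.ofBijective f hf)]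

section

open Matrix Cfsg.Agent.Lib.Helper43

variable {F : Type*} [Field F] {n : ℕ}

/-- determinant-one elements of `GL_n` as elements of `SL_n` -/
def ofGL (s : GL (Fin n) F) (hs : Matrix.GeneralLinearGroup.det s = 1) :
    Matrix.SpecialLinearGroup (Fin n) F :=
  ⟨(s : Matrix (Fin n) (Fin n) F), by
    have := congrArg Units.val hs
    simpa using this⟩

theorem toGL_ofGL (s : GL (Fin n) F) (hs : Matrix.GeneralLinearGroup.det s = 1) :
    Matrix.SpecialLinearGroup.toGL (ofGL s hs) = s := Units.ext rfl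

theorem isConj_iff_GL (u u' : Matrix.SpecialLinearGroup (Fin n) F) :
    IsConj u u' ↔ ∃ s : GL (Fin n) F, Matrix.GeneralLinearGroup.det s = 1 ∧
      s * Matrix.SpecialLinearGroup.toGL u * s⁻¹ = Matrix.SpecialLinearGroup.toGL u' := by
  rw [isConj_iff]
  constructor
  · rintro ⟨c, hc⟩
    refine ⟨Matrix.SpecialLinearGroup.toGL c, Matrix.SpecialLinearGroup.coeToGL_det c, ?_⟩
    rw [← hc, map_mul, map_mul, map_inv]
  · rintro ⟨s, hs, h⟩
    refine ⟨ofGL s hs, ?_⟩
    apply Matrix.SpecialLinearGroup.toGL_injective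
    rw [map_mul, map_mul, map_inv, toGL_ofGL, h]

/-- the conjugate of an element of `SL_n` by an element of `GL_n` -/
def conjSL (g : GL (Fin n) F) (u : Matrix.SpecialLinearGroup (Fin n) F) :
    Matrix.SpecialLinearGroup (Fin n) F :=
  ofGL (g * Matrix.SpecialLinearGroup.toGL u * g⁻¹) (by
    rw [map_mul, map_mul, Matrix.SpecialLinearGroup.coeToGL_det, mul_one, map_inv,
      mul_inv_cancel])

theorem toGL_conjSL (g : GL (Fin n) F) (u : Matrix.SpecialLinearGroup (Fin n) F) :
    Matrix.SpecialLinearGroup.toGL (conjSL g u) = g * Matrix.SpecialLinearGroup.toGL u * g⁻¹ :=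
  toGL_ofGL _ _

theorem isRegUnip_conjSL (g : GL (Fin n) F) (u : Matrix.SpecialLinearGroup (Fin n) F)
    (hu : IsRegUnip (u : Matrix (Fin n) (Fin n) F)) :
    IsRegUnip ((conjSL g u : Matrix.SpecialLinearGroup (Fin n) F) : Matrix (Fin n) (Fin n) F) := by
  apply hu.conj g
  have h1 : g * Matrix.SpecialLinearGroup.toGL u =
      Matrix.SpecialLinearGroup.toGL (conjSL g u) * g := by
    rw [toGL_conjSL]; group
  exact congrArg Units.val h1

/-- the key criterion -/
theorem isConj_conjSL_iff (hn : 1 ≤ n) (u0 : Matrix.SpecialLinearGroup (Fin n) F)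
    (hu0 : IsRegUnip (u0 : Matrix (Fin n) (Fin n) F)) (g g' : GL (Fin n) F) :
    IsConj (conjSL g u0) (conjSL g' u0) ↔
      (Matrix.GeneralLinearGroup.det g)⁻¹ * Matrix.GeneralLinearGroup.det g' ∈
        (powMonoidHom n : Fˣ →* Fˣ).range := by
  rw [isConj_iff_GL, toGL_conjSL, toGL_conjSL]
  set U : GL (Fin n) F := Matrix.SpecialLinearGroup.toGL u0 with hU
  constructor
  · rintro ⟨s, hs, h⟩
    set z : GL (Fin n) F := g'⁻¹ * s * g with hz
    have hzU : z * U = U * z := by
      calc z * U = (g'⁻¹ * (s * (g * U * g⁻¹) * s⁻¹) * g') * z := by rw [hz]; group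
        _ = U * z := by rw [h]; group
    obtain ⟨a, ha⟩ := hu0.exists_det_eq_pow hn (z : Matrix (Fin n) (Fin n) F)
      (congrArg Units.val hzU)
    have ha0 : a ≠ 0 := by
      intro h0
      rw [h0, zero_pow (by omega)] at ha
      exact Matrix.GeneralLinearGroup.det_ne_zero z ha
    have hdz : Matrix.GeneralLinearGroup.det z = (Units.mk0 a ha0) ^ n := by
      apply Units.ext
      rw [Units.val_pow_eq_pow_val]
      exact ha
    have hdz' : Matrix.GeneralLinearGroup.det z =
        (Matrix.GeneralLinearGroup.det g')⁻¹ * Matrix.GeneralLinearGroup.det g := by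
      rw [hz, map_mul, map_mul, map_inv, hs, mul_one]
    refine ⟨(Units.mk0 a ha0)⁻¹, ?_⟩
    rw [powMonoidHom_apply, inv_pow, ← hdz, hdz', _root_.mul_inv_rev, inv_inv]
  · rintro ⟨a, ha⟩
    rw [powMonoidHom_apply] at ha
    refine ⟨g' * Matrix.GeneralLinearGroup.scalar (Fin n) a⁻¹ * g⁻¹, ?_, ?_⟩
    · rw [map_mul, map_mul, Matrix.GeneralLinearGroup.det_scalar, map_inv, Fintype.card_fin,
        inv_pow, ha, _root_.mul_inv_rev, inv_inv]
      group
    · have hsc : Matrix.GeneralLinearGroup.scalar (Fin n) a⁻¹ * U =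
          U * Matrix.GeneralLinearGroup.scalar (Fin n) a⁻¹ :=
        Matrix.GeneralLinearGroup.scalar_commute _ _
      calc g' * Matrix.GeneralLinearGroup.scalar (Fin n) a⁻¹ * g⁻¹ * (g * U * g⁻¹) *
            (g' * Matrix.GeneralLinearGroup.scalar (Fin n) a⁻¹ * g⁻¹)⁻¹
          = g' * (Matrix.GeneralLinearGroup.scalar (Fin n) a⁻¹ * U) *
            (Matrix.GeneralLinearGroup.scalar (Fin n) a⁻¹)⁻¹ * g'⁻¹ := by group
        _ = g' * U * g'⁻¹ := by rw [hsc]; group

end

/-- Regular unipotent classes of SL_n(q): for n ≥ 2 over the field with q elements, the matrices u of determinant one with (u − 1)^n = 0 and rank(u − 1) = n − 1 form a single GL_n(q)-class which splits into exactly gcd(n, q − 1) conjugacy classes of SL_n(q). -/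
theorem result {F : Type*} [Field F] [Fintype F] {q : ℕ} (hF : Fintype.card F = q) {n : ℕ} (hn : 2 ≤ n) : Nat.card {C : ConjClasses (Matrix.SpecialLinearGroup (Fin n) F) // ∃ u : Matrix.SpecialLinearGroup (Fin n) F, ConjClasses.mk u = C ∧ ((u : Matrix (Fin n) (Fin n) F) - 1) ^ n = 0 ∧ ((u : Matrix (Fin n) (Fin n) F) - 1).rank = n - 1} = Nat.gcd n (q - 1) := by
  classical
  subst hF
  have hn1 : 1 ≤ n := by omega
  have : Nonempty (Fin n) := ⟨⟨0, by omega⟩⟩
  -- the base point
  let u0 : Matrix.SpecialLinearGroup (Fin n) F :=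
    ⟨1 + Cfsg.Agent.Lib.Helper43.shiftMat n F, Cfsg.Agent.Lib.Helper43.det_one_add_shiftMat⟩
  have hu0 : Cfsg.Agent.Lib.Helper43.IsRegUnip (u0 : Matrix (Fin n) (Fin n) F) :=
    Cfsg.Agent.Lib.Helper43.isRegUnip_one_add_shiftMat hn1
  -- representatives with prescribed determinant
  choose gd hgd using (Matrix.GeneralLinearGroup.det_surjective (n := Fin n) (R := F))
  let Ψ : Fˣ → {C : ConjClasses (Matrix.SpecialLinearGroup (Fin n) F) //
      ∃ u : Matrix.SpecialLinearGroup (Fin n) F, ConjClasses.mk u = C ∧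
        ((u : Matrix (Fin n) (Fin n) F) - 1) ^ n = 0 ∧
        ((u : Matrix (Fin n) (Fin n) F) - 1).rank = n - 1} := fun d =>
    ⟨ConjClasses.mk (conjSL (gd d) u0), conjSL (gd d) u0, rfl,
      (isRegUnip_conjSL (gd d) u0 hu0).1, (isRegUnip_conjSL (gd d) u0 hu0).2⟩
  have hsurj : Function.Surjective Ψ := by
    rintro ⟨C, u, rfl, hu1, hu2⟩
    have hu : Cfsg.Agent.Lib.Helper43.IsRegUnip (u : Matrix (Fin n) (Fin n) F) := ⟨hu1, hu2⟩
    obtain ⟨P, hP⟩ := hu0.exists_conj hn1 hu
    have hP' : P * Matrix.SpecialLinearGroup.toGL u0 = Matrix.SpecialLinearGroup.toGL u * P :=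
      Units.ext hP
    refine ⟨Matrix.GeneralLinearGroup.det P, ?_⟩
    apply Subtype.ext
    show ConjClasses.mk (conjSL (gd (Matrix.GeneralLinearGroup.det P)) u0) = ConjClasses.mk u
    rw [ConjClasses.mk_eq_mk_iff_isConj, isConj_iff_GL, toGL_conjSL]
    refine ⟨P * (gd (Matrix.GeneralLinearGroup.det P))⁻¹, ?_, ?_⟩
    · rw [map_mul, map_inv, hgd, mul_inv_cancel]
    · calc P * (gd (Matrix.GeneralLinearGroup.det P))⁻¹ *
            (gd (Matrix.GeneralLinearGroup.det P) * Matrix.SpecialLinearGroup.toGL u0 *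
              (gd (Matrix.GeneralLinearGroup.det P))⁻¹) *
            (P * (gd (Matrix.GeneralLinearGroup.det P))⁻¹)⁻¹
          = (P * Matrix.SpecialLinearGroup.toGL u0) * P⁻¹ := by group
        _ = Matrix.SpecialLinearGroup.toGL u := by rw [hP']; group
  have hker : ∀ d d' : Fˣ, Ψ d = Ψ d' ↔ d⁻¹ * d' ∈ (powMonoidHom n : Fˣ →* Fˣ).range := by
    intro d d'
    rw [Subtype.ext_iff]
    show ConjClasses.mk (conjSL (gd d) u0) = ConjClasses.mk (conjSL (gd d') u0) ↔ _
    rw [ConjClasses.mk_eq_mk_iff_isConj, isConj_conjSL_iff hn1 u0 hu0, hgd, hgd]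
  rw [natCard_eq_index_of_surjective _ Ψ hsurj hker, IsCyclic.index_powMonoidHom_range,
    Nat.card_units, Nat.card_eq_fintype_card, Nat.gcd_comm]

end Cfsg.Agent.S2578
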