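import Cfsg.Statements.S2579
import Cfsg.Agent.Lib.Helper43.TransvectionConj

set_option autoImplicit false
open Cfsg

namespace Cfsg.Agent.S2579

/-- In SL_n(F) with n ≥ 3, over a finite field F, any two transvections (matrices t with t − 1 of rank one and square zero) are conjugate by an element of SL_n(F). -/
theorem result {F : Type*} [Field F] [Finite F] {n : ℕ} (hn : 3 ≤ n) (s t : Matrix.SpecialLinearGroup (Fin n) F) (hs : Cfsg.IsTransvection (s : Matrix (Fin n) (Fin n) F)) (ht : Cfsg.IsTransvection (t : Matrix (Fin n) (Fin n) F)) : IsConj s t := by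
  classical
  set S : Matrix (Fin n) (Fin n) F := (s : Matrix (Fin n) (Fin n) F) with hS
  set T : Matrix (Fin n) (Fin n) F := (t : Matrix (Fin n) (Fin n) F) with hT
  let L := Matrix.toLinAlgEquiv' (R := F) (n := Fin n)
  have hfin : Module.finrank F (Fin n → F) = n := Module.finrank_fin_fun F
  obtain ⟨P, hPdet, hP⟩ := Cfsg.Agent.Lib.Helper43.rankOne_conj_det_one (L (S - 1)) (L (T - 1))
    hs.1 (by rw [← map_mul, hs.2, map_zero]) ht.1 (by rw [← map_mul, ht.2, map_zero])
    (by rw [hfin]; exact hn)
  set M : Matrix (Fin n) (Fin n) F := L.symm P with hM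
  have hLM : L M = P := L.apply_symm_apply P
  have hMdet : M.det = 1 := by
    have : LinearMap.det (L M) = M.det := by
      show LinearMap.det (Matrix.toLin' M) = M.det
      rw [LinearMap.det_toLin']
    rw [← this, hLM, hPdet]
  have hcomm : M * (S - 1) = (T - 1) * M := by
    apply L.injective
    rw [map_mul, map_mul, hLM, hP]
  have hcomm' : M * S = T * M := by
    rw [mul_sub, sub_mul, mul_one, one_mul] at hcomm
    exact sub_left_injective hcomm
  rw [isConj_iff]
  let c : Matrix.SpecialLinearGroup (Fin n) F := ⟨M, hMdet⟩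
  have hc : c * s = t * c := by
    apply Subtype.ext
    exact hcomm'
  exact ⟨c, mul_inv_eq_iff_eq_mul.mpr hc⟩

end Cfsg.Agent.S2579
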