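import Cfsg.Statements.S2582
import Cfsg.Agent.Lib.Helper43.SympJordan
import Cfsg.Agent.Lib.Helper43.JordanTypeForm
import Cfsg.Agent.Lib.Helper43.JordanAltRank

set_option autoImplicit false
open Cfsg

namespace Cfsg.Agent.S2582

open Cfsg.Agent.Lib.Helper43 in
/-- Which unipotent Jordan types occur in the finite symplectic group: over a finite field, a unipotent matrix with Jordan block sizes d_1, …, d_t (sum 2m, all at least 1) is similar to an element of Sp_2m(F) if and only if every odd block size occurs an even number of times. -/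
theorem result {F : Type*} [Field F] [Fintype F] {m t : ℕ} (d : Fin t → ℕ) (hd : ∀ k, 1 ≤ d k) (hsum : ∑ k, d k = 2 * m) : (∃ e : ((k : Fin t) × Fin (d k)) ≃ (Fin m ⊕ Fin m), ∃ A : Matrix.symplecticGroup (Fin m) F, IsConj (Matrix.reindex e e (Cfsg.jordanTypeMatrix d F)) (A : Matrix (Fin m ⊕ Fin m) (Fin m ⊕ Fin m) F)) ↔ ∀ j : ℕ, Odd j → Even (Finset.univ.filter (fun k : Fin t => d k = j)).card := by
  classical
  constructor
  · rintro ⟨e, A, hconj⟩ j hj
    refine even_card_of_isConj_alt d e (Matrix.J (Fin m) F) (A : Matrix (Fin m ⊕ Fin m) (Fin m ⊕ Fin m) F)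
      (Matrix.isUnit_det_J (Fin m) F) ?_ ?_ hconj j hj
    · intro x
      exact Cfsg.Agent.Lib.Helper5.sympForm_self x
    · exact (SymplecticGroup.mem_iff').mp A.2
  · intro h
    obtain ⟨Ω, hΩ⟩ := exists_formInv_jordanType (F := F) d hd (-1) (by norm_num) True
      (fun n => Odd n)
      (fun n hn hpos => exists_formInv_jordanBlock_even n (Nat.not_odd_iff_even.mp hn) hpos) h
    have hcard : Fintype.card ((k : Fin t) × Fin (d k)) = 2 * m := by
      rw [Fintype.card_sigma, ← hsum]
      simp only [Fintype.card_fin]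
    exact exists_isConj_symplectic hcard Ω _ hΩ

end Cfsg.Agent.S2582
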