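import Cfsg.Statements.S2583
import Cfsg.Agent.Lib.Helper43.JordanBlockSym
import Cfsg.Agent.Lib.Helper43.JordanSymRank
import Cfsg.Agent.Lib.Helper43.JordanTypeForm
import Cfsg.Agent.Lib.Helper13.Orth

set_option autoImplicit false
open Cfsg

namespace Cfsg.Agent.S2583

open Cfsg.Agent.Lib.Helper43 Matrix in
/-- Which unipotent Jordan types occur in a finite orthogonal group in odd characteristic: over a finite field of odd order, a unipotent matrix with Jordan block sizes d_1, …, d_t (sum n, all at least 1) is similar to an isometry of some quadratic form on F^n with non-degenerate polar form if and only if every even block size occurs an even number of times. -/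
theorem result {F : Type*} [Field F] [Fintype F] (h2 : (2 : F) ≠ 0) {n t : ℕ} (d : Fin t → ℕ) (hd : ∀ k, 1 ≤ d k) (hsum : ∑ k, d k = n) : (∃ Q : QuadraticForm F (Fin n → F), (QuadraticMap.polarBilin Q).Nondegenerate ∧ ∃ e : ((k : Fin t) × Fin (d k)) ≃ Fin n, ∃ A : ↥(Cfsg.isometryGroup F ⇑Q), IsConj (Matrix.reindex e e (Cfsg.jordanTypeMatrix d F)) ((A : Matrix.GeneralLinearGroup (Fin n) F) : Matrix (Fin n) (Fin n) F)) ↔ ∀ j : ℕ, Even j → 0 < j → Even (Finset.univ.filter (fun k : Fin t => d k = j)).card := by
  classical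
  constructor
  · rintro ⟨Q, hQ, e, A, hconj⟩ j hj hj0
    set Ω : Matrix (Fin n) (Fin n) F :=
      LinearMap.BilinForm.toMatrix' (QuadraticMap.polarBilin Q) with hΩ
    have hΩapp : ∀ x y : Fin n → F, x ⬝ᵥ Ω *ᵥ y = QuadraticMap.polar Q x y := by
      intro x y
      rw [← Matrix.toBilin'_apply', hΩ, Matrix.toBilin'_toMatrix']
      rfl
    have hA := (Cfsg.Agent.Lib.Helper13.mem_isometryGroup_iff (⇑Q) A.1).mp A.2
    refine even_card_of_isConj_symm h2 d e Ω
      ((A : Matrix.GeneralLinearGroup (Fin n) F) : Matrix (Fin n) (Fin n) F)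
      ?_ ?_ ?_ hconj j hj hj0
    · rw [isUnit_iff_ne_zero, ← Matrix.nondegenerate_iff_det_ne_zero, hΩ,
        LinearMap.BilinForm.nondegenerate_toMatrix'_iff]
      exact hQ
    · ext i j
      rw [Matrix.transpose_apply]
      have h1 : ∀ a b : Fin n, Ω a b = QuadraticMap.polar Q (Pi.single a 1) (Pi.single b 1) := by
        intro a b
        rw [← hΩapp, Matrix.mulVec_single_one, dotProduct_comm, dotProduct_single_one]
        rfl
      rw [h1, h1, QuadraticMap.polar_comm]
    · ext i j
      rw [transpose_mul_mul_apply]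
      have h1 : ∀ k : Fin n, (fun l => ((A : Matrix.GeneralLinearGroup (Fin n) F) :
          Matrix (Fin n) (Fin n) F) l k) =
          ((A : Matrix.GeneralLinearGroup (Fin n) F) :
          Matrix (Fin n) (Fin n) F) *ᵥ Pi.single k 1 := by
        intro k
        rw [Matrix.mulVec_single_one]
        rfl
      rw [h1, h1, hΩapp, Cfsg.Agent.Lib.Helper13.polar_mulVec_of_isometry Q _ hA, ← hΩapp,
        Matrix.mulVec_single_one, dotProduct_comm, dotProduct_single_one]
      rfl
  · intro h
    obtain ⟨Ω, hΩ⟩ := exists_formInv_jordanType (F := F) d hd 1 (by ring) False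
      (fun n => Even n)
      (fun n hn _ => exists_formInv_jordanBlock_odd h2 n (Nat.not_even_iff_odd.mp hn))
      (by
        intro j hj
        rcases Nat.eq_zero_or_pos j with h0 | h0
        · have : (Finset.univ.filter (fun k : Fin t => d k = j)) = ∅ := by
            apply Finset.filter_eq_empty_iff.mpr
            intro k _ hk
            have := hd k
            omega
          rw [this, Finset.card_empty]
          exact Even.zero
        · exact h j hj h0)
    have hcard : Fintype.card ((k : Fin t) × Fin (d k)) = Fintype.card (Fin n) := by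
      rw [Fintype.card_sigma, Fintype.card_fin, ← hsum]
      simp only [Fintype.card_fin]
    let e : ((k : Fin t) × Fin (d k)) ≃ Fin n := Fintype.equivOfCardEq hcard
    have h3 := hΩ.submatrix e.symm
    set Ω₂ := Ω.submatrix e.symm e.symm with hΩ₂
    set T₂ := (Cfsg.jordanTypeMatrix d F).submatrix e.symm e.symm with hT₂
    obtain ⟨Ω', hΩ'⟩ := h3.inv
    have hdetΩ : Ω₂.det ≠ 0 := by
      have := congrArg Matrix.det hΩ'
      rw [Matrix.det_mul, Matrix.det_one] at this
      exact left_ne_zero_of_mul_eq_one this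
    have hdetT : T₂.det ≠ 0 := by
      have h4 := congrArg Matrix.det h3.pres
      rw [Matrix.det_mul, Matrix.det_mul, Matrix.det_transpose] at h4
      intro hz
      rw [hz, zero_mul, zero_mul] at h4
      exact hdetΩ h4.symm
    have hsymm : Ω₂ᵀ = Ω₂ := by rw [h3.symm, one_smul]
    let β : LinearMap.BilinForm F (Fin n → F) := Matrix.toBilin' Ω₂
    have hβ : ∀ x y, β x y = x ⬝ᵥ Ω₂ *ᵥ y := fun x y => Matrix.toBilin'_apply' Ω₂ x y
    let Q : QuadraticForm F (Fin n → F) := LinearMap.BilinMap.toQuadraticMap β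
    have hQapp : ∀ x, Q x = x ⬝ᵥ Ω₂ *ᵥ x := fun x => by
      rw [LinearMap.BilinMap.toQuadraticMap_apply, hβ]
    have hpolar : ∀ x y, QuadraticMap.polar Q x y = x ⬝ᵥ ((2 : F) • Ω₂) *ᵥ y := by
      intro x y
      rw [LinearMap.BilinMap.polar_toQuadraticMap, hβ, hβ, Matrix.smul_mulVec, dotProduct_smul,
        smul_eq_mul, two_mul]
      congr 1
      conv_lhs => rw [← hsymm]
      rw [Matrix.mulVec_transpose, dotProduct_comm y, ← Matrix.dotProduct_mulVec]
    refine ⟨Q, ?_, e, ⟨Matrix.GeneralLinearGroup.mkOfDetNeZero T₂ hdetT, ?_⟩, ?_⟩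
    · have h4 : QuadraticMap.polarBilin Q = Matrix.toBilin' ((2 : F) • Ω₂) := by
        apply LinearMap.ext
        intro x
        apply LinearMap.ext
        intro y
        rw [Matrix.toBilin'_apply', ← hpolar]
        rfl
      rw [h4]
      apply LinearMap.BilinForm.nondegenerate_toBilin'_iff_det_ne_zero.mpr
      rw [Matrix.det_smul]
      exact mul_ne_zero (pow_ne_zero _ h2) hdetΩ
    · rw [Cfsg.Agent.Lib.Helper13.mem_isometryGroup_iff]
      intro u
      show Q (T₂ *ᵥ u) = Q u
      rw [hQapp, hQapp, Matrix.mulVec_mulVec, ← Matrix.vecMul_transpose, ← Matrix.dotProduct_mulVec,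
        Matrix.mulVec_mulVec, ← mul_assoc, h3.pres]
    · exact IsConj.refl _

end Cfsg.Agent.S2583
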