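import Cfsg.Statements.S2584
import Cfsg.Agent.Lib.Helper43.DyeLemma
import Cfsg.Agent.Lib.Helper43.JordanTypeForm
import Cfsg.Agent.Lib.Helper43.JordanAltRank
import Cfsg.Agent.Lib.Helper13.Orth

set_option autoImplicit false
open Cfsg

namespace Cfsg.Agent.S2584

open Cfsg.Agent.Lib.Helper43 Matrix in
/-- Which unipotent Jordan types occur in a finite orthogonal group in characteristic two: over a finite field of characteristic 2 and in even dimension 2m, a unipotent matrix with Jordan block sizes d_1, …, d_t (sum 2m, all at least 1) is similar to an isometry of some quadratic form on F^(2m) with non-degenerate polar form if and only if every odd block size occurs an even number of times (the same condition as for the symplectic group, which contains these orthogonal groups). -/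
theorem result {F : Type*} [Field F] [Fintype F] [CharP F 2] {m t : ℕ} (d : Fin t → ℕ) (hd : ∀ k, 1 ≤ d k) (hsum : ∑ k, d k = 2 * m) : (∃ Q : QuadraticForm F (Fin (2 * m) → F), (QuadraticMap.polarBilin Q).Nondegenerate ∧ ∃ e : ((k : Fin t) × Fin (d k)) ≃ Fin (2 * m), ∃ A : ↥(Cfsg.isometryGroup F ⇑Q), IsConj (Matrix.reindex e e (Cfsg.jordanTypeMatrix d F)) ((A : Matrix.GeneralLinearGroup (Fin (2 * m)) F) : Matrix (Fin (2 * m)) (Fin (2 * m)) F)) ↔ ∀ j : ℕ, Odd j → Even (Finset.univ.filter (fun k : Fin t => d k = j)).card := by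
  classical
  constructor
  · rintro ⟨Q, hQ, e, A, hconj⟩ j hj
    set Ω : Matrix (Fin (2 * m)) (Fin (2 * m)) F :=
      LinearMap.BilinForm.toMatrix' (QuadraticMap.polarBilin Q) with hΩ
    have hΩapp : ∀ x y : Fin (2 * m) → F, x ⬝ᵥ Ω *ᵥ y = QuadraticMap.polar Q x y := by
      intro x y
      rw [← Matrix.toBilin'_apply', hΩ, Matrix.toBilin'_toMatrix']
      rfl
    have hA := (Cfsg.Agent.Lib.Helper13.mem_isometryGroup_iff (⇑Q) A.1).mp A.2
    refine even_card_of_isConj_alt d e Ω
      ((A : Matrix.GeneralLinearGroup (Fin (2 * m)) F) : Matrix (Fin (2 * m)) (Fin (2 * m)) F)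
      ?_ ?_ ?_ hconj j hj
    · rw [isUnit_iff_ne_zero, ← Matrix.nondegenerate_iff_det_ne_zero, hΩ,
        LinearMap.BilinForm.nondegenerate_toMatrix'_iff]
      exact hQ
    · intro x
      have hxx : x + x = 0 := by
        funext i
        exact CharTwo.add_self_eq_zero (x i)
      rw [hΩapp, QuadraticMap.polar, hxx, QuadraticMap.map_zero, zero_sub,
        neg_sub_left, CharTwo.add_self_eq_zero, neg_zero]
    · ext i j
      rw [transpose_mul_mul_apply]
      have h1 : ∀ k : Fin (2 * m), (fun l => ((A : Matrix.GeneralLinearGroup (Fin (2 * m)) F) :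
          Matrix (Fin (2 * m)) (Fin (2 * m)) F) l k) =
          ((A : Matrix.GeneralLinearGroup (Fin (2 * m)) F) :
          Matrix (Fin (2 * m)) (Fin (2 * m)) F) *ᵥ Pi.single k 1 := by
        intro k
        rw [Matrix.mulVec_single_one]
        rfl
      rw [h1, h1, hΩapp, Cfsg.Agent.Lib.Helper13.polar_mulVec_of_isometry Q _ hA, ← hΩapp,
        Matrix.mulVec_single_one, dotProduct_comm, dotProduct_single_one]
      rfl
  · intro h
    obtain ⟨Ω, hΩ⟩ := exists_formInv_jordanType (F := F) d hd (-1) (by norm_num) True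
      (fun n => Odd n)
      (fun n hn hpos => exists_formInv_jordanBlock_even n (Nat.not_odd_iff_even.mp hn) hpos) h
    have hcard : Fintype.card ((k : Fin t) × Fin (d k)) = Fintype.card (Fin (2 * m)) := by
      rw [Fintype.card_sigma, Fintype.card_fin, ← hsum]
      simp only [Fintype.card_fin]
    let e : ((k : Fin t) × Fin (d k)) ≃ Fin (2 * m) := Fintype.equivOfCardEq hcard
    have h2 := hΩ.submatrix e.symm
    set Ω₂ := Ω.submatrix e.symm e.symm with hΩ₂
    set T₂ := (Cfsg.jordanTypeMatrix d F).submatrix e.symm e.symm with hT₂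
    obtain ⟨Q, hQpolar, hQT⟩ := exists_quadraticForm_of_formInv Ω₂ T₂ h2
    obtain ⟨Ω', hΩ'⟩ := h2.inv
    have hdetΩ : Ω₂.det ≠ 0 := by
      have := congrArg Matrix.det hΩ'
      rw [Matrix.det_mul, Matrix.det_one] at this
      exact left_ne_zero_of_mul_eq_one this
    have hdetT : T₂.det ≠ 0 := by
      have h3 := congrArg Matrix.det h2.pres
      rw [Matrix.det_mul, Matrix.det_mul, Matrix.det_transpose] at h3
      intro hz
      rw [hz, zero_mul, zero_mul] at h3
      exact hdetΩ h3.symm
    refine ⟨Q, ?_, e, ⟨Matrix.GeneralLinearGroup.mkOfDetNeZero T₂ hdetT, ?_⟩, ?_⟩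
    · have h4 : QuadraticMap.polarBilin Q = Matrix.toBilin' Ω₂ := by
        apply LinearMap.ext
        intro x
        apply LinearMap.ext
        intro y
        rw [Matrix.toBilin'_apply', ← hQpolar]
        rfl
      rw [h4]
      exact LinearMap.BilinForm.nondegenerate_toBilin'_iff_det_ne_zero.mpr hdetΩ
    · rw [Cfsg.Agent.Lib.Helper13.mem_isometryGroup_iff]
      intro u
      exact hQT u
    · exact IsConj.refl _

end Cfsg.Agent.S2584
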