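import Cfsg.Statements.S2585
-- import your own Cfsg.Agent.* helpers here

set_option autoImplicit false
open Cfsg

namespace Cfsg.Agent.S2585

/-- In characteristic two over a finite field, a linear map preserving the (non-degenerate) polar form
of a quadratic form `Q0` preserves some quadratic form with the same polar form. -/
theorem exists_invariant_form {F V : Type*} [Field F] [Finite F] [CharP F 2] [AddCommGroup V]
    [Module F V] [FiniteDimensional F V]
    (Q0 : QuadraticForm F V) (hB : (QuadraticMap.polarBilin Q0).Nondegenerate)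
    (g : V →ₗ[F] V)
    (hg : ∀ u v, QuadraticMap.polar (⇑Q0) (g u) (g v) = QuadraticMap.polar (⇑Q0) u v) :
    ∃ Q : QuadraticForm F V, (∀ u v, QuadraticMap.polar (⇑Q) u v = QuadraticMap.polar (⇑Q0) u v) ∧
      ∀ v, Q (g v) = Q v := by
  classical
  have : Fact (Nat.Prime 2) := ⟨Nat.prime_two⟩
  set B : LinearMap.BilinForm F V := QuadraticMap.polarBilin Q0 with hBdef
  have hBapp : ∀ u v, B u v = QuadraticMap.polar (⇑Q0) u v :=
    fun u v => QuadraticMap.polarBilin_apply_apply Q0 u v
  have hsymm : ∀ u v, B u v = B v u := fun u v => by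
    rw [hBapp, hBapp, QuadraticMap.polar_comm]
  have hQadd : ∀ u v, Q0 (u + v) = Q0 u + Q0 v + B u v := by
    intro u v; rw [hBapp]; unfold QuadraticMap.polar; ring
  have hgB : ∀ u v, B (g u) (g v) = B u v := by
    intro u v; rw [hBapp, hBapp, hg]
  have htwo : ∀ x : F, x + x = 0 := CharTwo.add_self_eq_zero
  have hsub : ∀ x y : F, x - y = x + y := fun x y => by rw [CharTwo.sub_eq_add]
  -- g is bijective
  have hginj : Function.Injective g := by
    rw [← LinearMap.ker_eq_bot, LinearMap.ker_eq_bot']
    intro v hv
    apply hB.1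
    intro u
    rw [← hgB, hv, map_zero, LinearMap.zero_apply]
  have hgsurj : Function.Surjective g := LinearMap.injective_iff_surjective.mp hginj
  -- the defect
  set D : V → F := fun v => Q0 (g v) + Q0 v with hD
  have hDadd : ∀ u v, D (u + v) = D u + D v := by
    intro u v
    simp only [hD, map_add, hQadd, hgB]
    linear_combination (htwo (B u v))
  have hDsmul : ∀ (c : F) v, D (c • v) = c ^ 2 * D v := by
    intro c v
    simp only [hD, map_smul, QuadraticMap.map_smul, smul_eq_mul]
    ring
  set s : F ≃+* F := (frobeniusEquiv F 2).symm with hs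
  have hs2 : ∀ x : F, s x * s x = x := by
    intro x
    have := frobeniusEquiv_symm_pow_p F 2 x
    rw [pow_two] at this
    exact this
  have hs2' : ∀ x : F, s (x ^ 2) = x := fun x => frobeniusEquiv_symm_pow F 2 x
  let lam : V →ₗ[F] F :=
    { toFun := fun v => s (D v)
      map_add' := by intro u v; rw [hDadd, map_add]
      map_smul' := by
        intro c v
        rw [hDsmul, map_mul, hs2', RingHom.id_apply, smul_eq_mul] }
  have hlam : ∀ v, lam v * lam v = D v := fun v => hs2 (D v)
  set a : V := (B.toDual hB).symm lam with ha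
  have haB : ∀ v, B a v = lam v := fun v => LinearMap.BilinForm.apply_toDual_symm_apply lam v
  -- g a lies in the range of g - 1
  have hrange : g a ∈ LinearMap.range (g - 1) := by
    by_contra hnot
    obtain ⟨φ, hφne, hφker⟩ := Submodule.exists_le_ker_of_notMem hnot
    set y : V := (B.toDual hB).symm φ with hy
    have hyB : ∀ v, B y v = φ v := fun v => LinearMap.BilinForm.apply_toDual_symm_apply φ v
    have h1 : ∀ x, B y (g x) = B y x := by
      intro x
      have : φ ((g - 1) x) = 0 := hφker ⟨x, rfl⟩
      rw [LinearMap.sub_apply, Module.End.one_apply, map_sub, ← hyB, ← hyB, sub_eq_zero] at this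
      exact this
    have hgy : g y = y := by
      have : g y - y = 0 := by
        apply hB.1
        intro z
        obtain ⟨x, rfl⟩ := hgsurj z
        rw [map_sub, LinearMap.sub_apply, hgB, h1, sub_self]
      exact sub_eq_zero.mp this
    apply hφne
    rw [← hyB, ← hgy, hgB, hsymm, haB]
    have h2 : lam y * lam y = 0 := by
      rw [hlam]
      simp only [hD, hgy]
      exact htwo _
    exact mul_self_eq_zero.mp h2
  obtain ⟨w, hw⟩ := hrange
  have hw' : g w = g a + w := by
    rw [LinearMap.sub_apply, Module.End.one_apply] at hw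
    rw [← hw]; abel
  -- the form
  set φ : V →ₗ[F] F := B w with hφ
  refine ⟨Q0 + QuadraticMap.linMulLin φ φ, ?_, ?_⟩
  · intro u v
    have : (⇑(Q0 + QuadraticMap.linMulLin φ φ) : V → F) = ⇑Q0 + ⇑(QuadraticMap.linMulLin φ φ) := rfl
    rw [this, QuadraticMap.polar_add]
    have h0 : QuadraticMap.polar (⇑(QuadraticMap.linMulLin φ φ)) u v = 0 := by
      unfold QuadraticMap.polar
      simp only [QuadraticMap.linMulLin_apply, map_add]
      linear_combination (φ u * φ v) * (htwo 1)
    rw [h0, add_zero]
  · intro v
    simp only [add_apply, QuadraticMap.linMulLin_apply]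
    have h1 : φ (g v) = φ v + lam v := by
      have h2 : w = g w + g a := by
        rw [hw', add_comm (g a) w, add_assoc]
        have : g a + g a = 0 := by rw [← two_smul F, CharTwo.two_eq_zero, zero_smul]
        rw [this, add_zero]
      have h3 : B w (g v) = B (g w) (g v) + B (g a) (g v) := by
        conv_lhs => rw [h2]
        rw [map_add, LinearMap.add_apply]
      rw [hφ, h3, hgB, hgB, haB]
    rw [h1]
    have h4 : (φ v + lam v) * (φ v + lam v) = φ v * φ v + lam v * lam v + (φ v * lam v + φ v * lam v) := by ring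
    rw [h4, htwo, add_zero, hlam]
    simp only [hD]
    linear_combination (htwo (Q0 (g v)))

/-- Over a finite field of characteristic two every element of the symplectic group is orthogonal for a suitable quadratic form: for each A in Sp_2m(F) there is a quadratic form Q on F^(2m) whose polar form is the alternating form defining Sp_2m(F) (so Q is non-degenerate) and which A preserves. Equivalently, for m ≥ 1, Sp_2m(F) is the union of the conjugates of its two orthogonal subgroups O⁺_2m(F) and O⁻_2m(F). -/
theorem result {F : Type*} [Field F] [Fintype F] [CharP F 2] {m : ℕ} (A : Matrix.symplecticGroup (Fin m) F) : ∃ Q : QuadraticForm F (Fin m ⊕ Fin m → F), (∀ u v : Fin m ⊕ Fin m → F, QuadraticMap.polar ⇑Q u v = Cfsg.sympForm m F u v) ∧ ∀ v : Fin m ⊕ Fin m → F, Q ((A : Matrix (Fin m ⊕ Fin m) (Fin m ⊕ Fin m) F).mulVec v) = Q v := by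
  classical
  set U : Matrix (Fin m ⊕ Fin m) (Fin m ⊕ Fin m) F := (A : Matrix (Fin m ⊕ Fin m) (Fin m ⊕ Fin m) F) with hU
  have hUmem : U ∈ Matrix.symplecticGroup (Fin m) F := A.2
  -- the basic quadratic form Σ x_i y_i
  set M0 : Matrix (Fin m ⊕ Fin m) (Fin m ⊕ Fin m) F := Matrix.fromBlocks 0 1 0 0 with hM0
  set B0 : LinearMap.BilinForm F (Fin m ⊕ Fin m → F) := Matrix.toBilin' M0 with hB0
  set Q0 : QuadraticForm F (Fin m ⊕ Fin m → F) := LinearMap.BilinMap.toQuadraticMap B0 with hQ0
  have hJ : M0 + M0.transpose = Matrix.J (Fin m) F := by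
    rw [hM0, Matrix.fromBlocks_transpose, Matrix.fromBlocks_add, Matrix.J]
    simp only [Matrix.transpose_zero, Matrix.transpose_one, add_zero, zero_add]
    congr 1
    ext i j
    rw [Matrix.neg_apply, CharTwo.neg_eq]
  have hpolar : ∀ u v : Fin m ⊕ Fin m → F,
      QuadraticMap.polar (⇑Q0) u v = Cfsg.sympForm m F u v := by
    intro u v
    rw [hQ0, LinearMap.BilinMap.polar_toQuadraticMap, hB0, Matrix.toBilin'_apply', Matrix.toBilin'_apply']
    unfold Cfsg.sympForm
    rw [← hJ, Matrix.add_mulVec, dotProduct_add]
    congr 1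
    rw [Matrix.dotProduct_mulVec, ← Matrix.mulVec_transpose, dotProduct_comm]
  have hJnd : (Matrix.J (Fin m) F).Nondegenerate :=
    Matrix.nondegenerate_of_det_ne_zero (Matrix.isUnit_det_J (Fin m) F).ne_zero
  have hB : (QuadraticMap.polarBilin Q0).Nondegenerate := by
    constructor
    · intro x hx
      apply hJnd.eq_zero_of_ortho
      intro y
      have := hx y
      rw [QuadraticMap.polarBilin_apply_apply, hpolar] at this
      exact this
    · intro y hy
      apply hJnd.eq_zero_of_ortho'
      intro x
      have := hy x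
      rw [QuadraticMap.polarBilin_apply_apply, hpolar] at this
      exact this
  -- the symplectic matrix preserves the form
  have hpres : ∀ u v : Fin m ⊕ Fin m → F,
      QuadraticMap.polar (⇑Q0) (Matrix.mulVecLin U u) (Matrix.mulVecLin U v)
        = QuadraticMap.polar (⇑Q0) u v := by
    intro u v
    rw [hpolar, hpolar, Matrix.mulVecLin_apply, Matrix.mulVecLin_apply]
    unfold Cfsg.sympForm
    have h := SymplecticGroup.mem_iff'.mp hUmem
    rw [Matrix.mulVec_mulVec, Matrix.dotProduct_mulVec, Matrix.vecMul_mulVec,
      ← Matrix.dotProduct_mulVec, ← Matrix.mul_assoc, h]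
  obtain ⟨Q, hQpolar, hQinv⟩ := exists_invariant_form Q0 hB (Matrix.mulVecLin U) hpres
  refine ⟨Q, fun u v => by rw [hQpolar, hpolar], fun v => ?_⟩
  have := hQinv v
  rw [Matrix.mulVecLin_apply] at this
  exact this

end Cfsg.Agent.S2585
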