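import Cfsg.Statements.S2588
import Cfsg.Agent.Lib.Helper37.GUSimilar
-- import your own Cfsg.Agent.* helpers here

set_option autoImplicit false
open Cfsg

namespace Cfsg.Agent.S2588

open Matrix Cfsg.Agent.Lib.Helper5 Cfsg.Agent.Lib.Helper37.GUConj
  Cfsg.Agent.Lib.Helper37.GUSimilar in
/-- An invertible matrix A over the field with q² elements is conjugate in GL_n(q²) to an element of the general unitary group GU_n(q) (isometries of the Hermitian form Σ u_i v_i^q) if and only if A is similar to the inverse transpose of its entrywise q-th power (A ~ A^(−qT), the image of A under the map sending a matrix to the inverse transpose of its entrywise q-th power — inverse transpose composed with the field automorphism — whose fixed points form GU_n(q)). -/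
theorem result {K : Type*} [Field K] [Fintype K] {q n : ℕ} (hK : Fintype.card K = q ^ 2) (A : GL (Fin n) K) : (∃ B : ↥(Cfsg.GU n K q), IsConj A (B : GL (Fin n) K)) ↔ IsConj (A : Matrix (Fin n) (Fin n) K) (((A : Matrix (Fin n) (Fin n) K).map (fun x : K => x ^ q)).transpose)⁻¹ := by
  have hst : ((A : Matrix (Fin n) (Fin n) K).map (fun x : K => x ^ q)).transpose
      = st hK (A : Matrix (Fin n) (Fin n) K) := rfl
  rw [hst]
  have hAdet : IsUnit (A : Matrix (Fin n) (Fin n) K).det :=
    (Matrix.isUnit_iff_isUnit_det _).1 A.isUnit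
  have hsAdet : IsUnit (st hK (A : Matrix (Fin n) (Fin n) K)).det := by
    rw [st_det]; exact hAdet.map _
  have hs1 : st hK (A : Matrix (Fin n) (Fin n) K) * (st hK (A : Matrix (Fin n) (Fin n) K))⁻¹ = 1 :=
    mul_nonsing_inv _ hsAdet
  have hs2 : (st hK (A : Matrix (Fin n) (Fin n) K))⁻¹ * st hK (A : Matrix (Fin n) (Fin n) K) = 1 :=
    nonsing_inv_mul _ hsAdet
  constructor
  · rintro ⟨B, hB⟩
    obtain ⟨g, hg⟩ := isConj_iff.1 hB
    have hconj : (g : Matrix (Fin n) (Fin n) K) * (A : Matrix (Fin n) (Fin n) K)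
        = B.1.1 * (g : Matrix (Fin n) (Fin n) K) := by
      have h1 : g * A = (B : GL (Fin n) K) * g := by
        rw [← hg]; group
      have := congrArg (fun x : GL (Fin n) K => (x : Matrix (Fin n) (Fin n) K)) h1
      simpa using this
    have hBu : IsUnitaryMat q B.1.1 := (isUnitaryMat_iff_preserves hK _).2 (GU_preserves B)
    rw [isUnitaryMat_iff_st hK] at hBu
    have hgdet : IsUnit (g : Matrix (Fin n) (Fin n) K).det :=
      (Matrix.isUnit_iff_isUnit_det _).1 g.isUnit
    obtain ⟨G, hG⟩ : ∃ G : Matrix (Fin n) (Fin n) K, G = g := ⟨_, rfl⟩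
    obtain ⟨Am, hAm⟩ : ∃ Am : Matrix (Fin n) (Fin n) K, Am = A := ⟨_, rfl⟩
    rw [← hG] at hconj hgdet
    rw [← hAm] at hconj hs1 hs2 ⊢
    have hinv : st hK Am * (st hK G * G) * Am = st hK G * G := by
      calc st hK Am * (st hK G * G) * Am = st hK (G * Am) * (G * Am) := by
            rw [st_mul]; simp only [Matrix.mul_assoc]
        _ = st hK (B.1.1 * G) * (B.1.1 * G) := by rw [hconj]
        _ = st hK G * (st hK B.1.1 * B.1.1) * G := by rw [st_mul]; simp only [Matrix.mul_assoc]
        _ = st hK G * G := by rw [hBu, Matrix.mul_one]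
    have hHdet : IsUnit (st hK G * G).det := by
      rw [det_mul, st_det]
      exact (hgdet.map _).mul hgdet
    have hHunit : IsUnit (st hK G * G) := (Matrix.isUnit_iff_isUnit_det _).2 hHdet
    refine ⟨hHunit.unit, ?_⟩
    change (st hK G * G) * Am = (st hK Am)⁻¹ * (st hK G * G)
    calc (st hK G * G) * Am = ((st hK Am)⁻¹ * st hK Am) * ((st hK G * G) * Am) := by
          rw [hs2, Matrix.one_mul]
      _ = (st hK Am)⁻¹ * (st hK Am * (st hK G * G) * Am) := by simp only [Matrix.mul_assoc]
      _ = (st hK Am)⁻¹ * (st hK G * G) := by rw [hinv]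
  · rintro ⟨c, hc⟩
    have hc' : (c : Matrix (Fin n) (Fin n) K) * (A : Matrix (Fin n) (Fin n) K)
        = (st hK (A : Matrix (Fin n) (Fin n) K))⁻¹ * (c : Matrix (Fin n) (Fin n) K) := hc
    have hcdet : IsUnit (c : Matrix (Fin n) (Fin n) K).det :=
      (Matrix.isUnit_iff_isUnit_det _).1 c.isUnit
    have hinv : st hK (A : Matrix (Fin n) (Fin n) K) * (c : Matrix (Fin n) (Fin n) K)
        * (A : Matrix (Fin n) (Fin n) K) = (c : Matrix (Fin n) (Fin n) K) := by
      rw [Matrix.mul_assoc, hc', ← Matrix.mul_assoc, hs1, Matrix.one_mul]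
    obtain ⟨C, Bm, hCdet, hBm, hCB⟩ := exists_unitary_similar hK _ _ hcdet hinv
    refine ⟨GUofPreserves hK Bm ((isUnitaryMat_iff_preserves hK Bm).1 hBm), ?_⟩
    rw [isConj_iff]
    refine ⟨((Matrix.isUnit_iff_isUnit_det _).2 hCdet).unit, ?_⟩
    rw [mul_inv_eq_iff_eq_mul]
    apply Units.ext
    change C * (A : Matrix (Fin n) (Fin n) K) = (GUofPreserves hK Bm _ : GL (Fin n) K).1 * C
    rw [GUofPreserves_coe]
    exact hCB

end Cfsg.Agent.S2588
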