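import Cfsg.Statements.S2590
import Mathlib
import Cfsg.Agent.Lib.Helper37.OrthConj

set_option autoImplicit false
open Cfsg

namespace Cfsg.Agent.S2590

open Matrix Cfsg.Agent.Lib.Helper37.OrthConj

/-- Two semisimple elements of odd order of a finite orthogonal group (isometry group of a quadratic form on F^n with non-degenerate polar form, F finite of characteristic p; the elements have odd order prime to p) are conjugate in the orthogonal group if and only if they are conjugate in GL_n(F). -/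
theorem result {F : Type*} [Field F] [Fintype F] {p : ℕ} [Fact p.Prime] [CharP F p] {n : ℕ} (Q : QuadraticForm F (Fin n → F)) (hQ : (QuadraticMap.polarBilin Q).Nondegenerate) (A B : ↥(Cfsg.isometryGroup F ⇑Q)) (hodd : Odd (orderOf A)) (hA : (orderOf A).Coprime p) : IsConj A B ↔ IsConj ((A : Matrix.GeneralLinearGroup (Fin n) F) : Matrix (Fin n) (Fin n) F) ((B : Matrix.GeneralLinearGroup (Fin n) F) : Matrix (Fin n) (Fin n) F) := by
  classical
  have hp : p.Prime := Fact.out
  constructor
  · intro h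
    have h1 := (Subgroup.subtype (Cfsg.isometryGroup F ⇑Q)).map_isConj h
    exact (Units.coeHom (Matrix (Fin n) (Fin n) F)).map_isConj h1
  · intro h
    obtain ⟨P, hP⟩ := h
    have hPA : (P : Matrix (Fin n) (Fin n) F) * A.1.1 = B.1.1 * P := hP
    have hPi1 : (P : Matrix (Fin n) (Fin n) F) * (P⁻¹ : (Matrix (Fin n) (Fin n) F)ˣ).val = 1 := by
      rw [← Units.val_mul, mul_inv_cancel, Units.val_one]
    have hPi2 : (P⁻¹ : (Matrix (Fin n) (Fin n) F)ˣ).val * (P : Matrix (Fin n) (Fin n) F) = 1 := by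
      rw [← Units.val_mul, inv_mul_cancel, Units.val_one]
    let π : (Fin n → F) ≃ₗ[F] (Fin n → F) :=
      LinearEquiv.ofLinearMap (Matrix.toLin' P.val) (Matrix.toLin' (P⁻¹ : (Matrix (Fin n) (Fin n) F)ˣ).val)
        (by rw [← Matrix.toLin'_mul, hPi1, Matrix.toLin'_one])
        (by rw [← Matrix.toLin'_mul, hPi2, Matrix.toLin'_one])
    have hπapp : ∀ x, π x = P.val *ᵥ x := fun x => Matrix.toLin'_apply _ x
    have hAQ : ∀ x, Q (A.1.1 *ᵥ x) = Q x := fun x => A.2 x x
    have hBQ : ∀ x, Q (B.1.1 *ᵥ x) = Q x := fun x => B.2 x x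
    set k := orderOf A with hk
    have hApow : A.1.1 ^ k = 1 := by
      have h1 : A ^ k = 1 := pow_orderOf_eq_one A
      have h2 := congrArg (fun y : ↥(Cfsg.isometryGroup F ⇑Q) => (y.1 : Matrix (Fin n) (Fin n) F)) h1
      simpa using h2
    have hkF : (k : F) ≠ 0 := by
      rw [Ne, CharP.cast_eq_zero_iff F p]
      intro hd
      have := Nat.dvd_gcd hd (dvd_refl p)
      rw [hA] at this
      exact hp.one_lt.ne' (Nat.dvd_one.1 this)
    obtain ⟨g, hgQ, hga⟩ := exists_isometry_conj Q hQ (Matrix.toLin' A.1.1) (Matrix.toLin' B.1.1)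
      (fun x => by rw [Matrix.toLin'_apply]; exact hAQ x)
      (fun x => by rw [Matrix.toLin'_apply]; exact hBQ x) π
      (fun x => by
        rw [hπapp, hπapp, Matrix.toLin'_apply, Matrix.toLin'_apply, Matrix.mulVec_mulVec,
          Matrix.mulVec_mulVec, hPA])
      k hodd hkF
      (fun x => by rw [← Matrix.toLin'_pow, hApow, Matrix.toLin'_one, LinearMap.id_apply])
    have hG1 : LinearMap.toMatrix' (g : (Fin n → F) →ₗ[F] (Fin n → F)) *
        LinearMap.toMatrix' (g.symm : (Fin n → F) →ₗ[F] (Fin n → F)) = 1 := by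
      rw [← LinearMap.toMatrix'_comp]
      simp
    have hG2 : LinearMap.toMatrix' (g.symm : (Fin n → F) →ₗ[F] (Fin n → F)) *
        LinearMap.toMatrix' (g : (Fin n → F) →ₗ[F] (Fin n → F)) = 1 := by
      rw [← LinearMap.toMatrix'_comp]
      simp
    let G : Matrix.GeneralLinearGroup (Fin n) F :=
      ⟨LinearMap.toMatrix' (g : (Fin n → F) →ₗ[F] (Fin n → F)),
        LinearMap.toMatrix' (g.symm : (Fin n → F) →ₗ[F] (Fin n → F)), hG1, hG2⟩
    have hGapp : ∀ x, G.1 *ᵥ x = g x := by
      intro x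
      show LinearMap.toMatrix' (g : (Fin n → F) →ₗ[F] (Fin n → F)) *ᵥ x = g x
      rw [LinearMap.toMatrix'_mulVec]
      rfl
    have hGmem : G ∈ Cfsg.isometryGroup F ⇑Q := by
      intro u v
      show Q (G.1 *ᵥ u) = Q u
      rw [hGapp, hgQ]
    rw [isConj_iff]
    refine ⟨⟨G, hGmem⟩, ?_⟩
    rw [mul_inv_eq_iff_eq_mul]
    apply Subtype.ext
    apply Units.ext
    show G.1 * A.1.1 = B.1.1 * G.1
    apply Matrix.toLin'.injective
    apply LinearMap.ext
    intro x
    rw [Matrix.toLin'_apply, Matrix.toLin'_apply, ← Matrix.mulVec_mulVec, ← Matrix.mulVec_mulVec,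
      hGapp, hGapp]
    have := hga x
    rwa [Matrix.toLin'_apply, Matrix.toLin'_apply] at this

end Cfsg.Agent.S2590
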