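import Cfsg.Statements.S2591
import Cfsg.Agent.Lib.Helper43.SympRegUnipMatrix

set_option autoImplicit false
open Cfsg

namespace Cfsg.Agent.S2591

open Cfsg.Agent.Lib.Helper43 in
/-- Over a finite field of odd order and for m ≥ 1, the regular unipotent elements of Sp_2m(F) (u − 1 nilpotent of rank 2m − 1, a single Jordan block) form exactly two conjugacy classes of Sp_2m(F) (one class under the similarity group, which splits in two). -/
theorem result {F : Type*} [Field F] [Fintype F] {q : ℕ} (hF : Fintype.card F = q) (hq : Odd q) {m : ℕ} (hm : 1 ≤ m) : Nat.card {C : ConjClasses ↥(Matrix.symplecticGroup (Fin m) F) // ∃ u : Matrix.symplecticGroup (Fin m) F, ConjClasses.mk u = C ∧ ((u : Matrix (Fin m ⊕ Fin m) (Fin m ⊕ Fin m) F) - 1) ^ (2 * m) = 0 ∧ ((u : Matrix (Fin m ⊕ Fin m) (Fin m ⊕ Fin m) F) - 1).rank = 2 * m - 1} = 2 := by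
  classical
  subst hF
  -- characteristic is odd
  have hchar : ringChar F ≠ 2 := by
    intro hchar
    have heven : Even (Fintype.card F) := by
      obtain ⟨k, hk⟩ := FiniteField.card F (ringChar F)
      rw [hk.2, hchar]
      exact (Nat.even_pow.mpr ⟨even_two, k.ne_zero⟩)
    exact (Nat.not_even_iff_odd.mpr hq) heven
  have h2 : (2 : F) ≠ 0 := by
    intro h0
    apply hchar
    have hdvd : ringChar F ∣ 2 := (ringChar.spec F 2).mp (by exact_mod_cast h0)
    rcases (Nat.dvd_prime Nat.prime_two).mp hdvd with h | h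
    · exact absurd h (CharP.ringChar_ne_one)
    · exact h
  obtain ⟨ε, hε⟩ := FiniteField.exists_nonsquare hchar
  have hε0 : ε ≠ 0 := by
    rintro rfl
    exact hε ⟨0, by simp⟩
  let ι := Fin m ⊕ Fin m
  let L := Matrix.toLinAlgEquiv' (R := F) (n := ι)
  have hLapply : ∀ (A : Matrix ι ι F) (x : ι → F), L A x = A.mulVec x :=
    fun A x => Matrix.toLinAlgEquiv'_apply A x
  have hcard : Fintype.card ι = 2 * m := by
    simp only [ι, Fintype.card_sum, Fintype.card_fin]; ring
  have hfin : Module.finrank F (ι → F) = 2 * m := by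
    rw [Module.finrank_fintype_fun_eq_card, hcard]
  have hpos : 1 ≤ Module.finrank F (ι → F) := by rw [hfin]; omega
  -- the bilinear form
  let B : (ι → F) →ₗ[F] (ι → F) →ₗ[F] F :=
    LinearMap.mk₂ F (Cfsg.Agent.Lib.Helper5.sympForm (Fin m) F)
      (fun a b c => Cfsg.Agent.Lib.Helper5.sympForm_add_left a b c)
      (fun c a b => by
        rw [Cfsg.Agent.Lib.Helper5.sympForm_smul_left, smul_eq_mul])
      (fun a b c => Cfsg.Agent.Lib.Helper5.sympForm_add_right a b c)
      (fun c a b => by
        rw [Cfsg.Agent.Lib.Helper5.sympForm_smul_right, smul_eq_mul])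
  have hB : ∀ x y, B x y = Cfsg.Agent.Lib.Helper5.sympForm (Fin m) F x y := fun x y => rfl
  have halt : ∀ x, B x x = 0 := fun x => Cfsg.Agent.Lib.Helper5.sympForm_self x
  have hnd : ∀ z, (∀ x, B x z = 0) → z = 0 := by
    intro z hz
    by_contra hz0
    obtain ⟨w, hw⟩ := Cfsg.Agent.Lib.Helper5.exists_sympForm_ne_zero hz0
    apply hw
    have := hz w
    rw [hB, Cfsg.Agent.Lib.Helper5.sympForm_swap (R := F) z w] at this
    exact neg_eq_zero.mp this
  -- membership in Sp in terms of `B`
  have hSp : ∀ A : Matrix ι ι F, A ∈ Matrix.symplecticGroup (Fin m) F ↔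
      ∀ x y, B (L A x) (L A y) = B x y := by
    intro A
    rw [Cfsg.Agent.Lib.Helper5.mem_symplecticGroup_iff_form]
    rfl
  -- the predicate
  let P : Matrix.symplecticGroup (Fin m) F → Prop := fun u =>
    ((u : Matrix ι ι F) - 1) ^ (2 * m) = 0 ∧ ((u : Matrix ι ι F) - 1).rank = 2 * m - 1
  -- regular unipotent elements give `RegUnipIso`
  have hreg_of : ∀ u : Matrix.symplecticGroup (Fin m) F, P u →
      RegUnipIso B (L (u : Matrix ι ι F))
        (L ((u⁻¹ : Matrix.symplecticGroup (Fin m) F) : Matrix ι ι F)) := by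
    rintro u ⟨hnil, hreg⟩
    have hU1 : L (u : Matrix ι ι F) - 1 = L ((u : Matrix ι ι F) - 1) := by rw [map_sub, map_one]
    refine ⟨?_, ?_, (hSp _).mp u.2, ?_, ?_⟩
    · rw [← map_mul, ← Submonoid.coe_mul, mul_inv_cancel, Submonoid.coe_one, map_one]
    · rw [← map_mul, ← Submonoid.coe_mul, inv_mul_cancel, Submonoid.coe_one, map_one]
    · rw [hU1]
      exact finrank_ker_mulVecLin_le_one' _ (by rw [hcard]; exact hreg)
    · rw [hU1, hfin, ← map_pow, hnil, map_zero]
  -- conversely
  have hof_reg : ∀ U Ui : Module.End F (ι → F), RegUnipIso B U Ui →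
      ∃ u : Matrix.symplecticGroup (Fin m) F, L (u : Matrix ι ι F) = U ∧ P u := by
    intro U Ui h
    have hmem : L.symm U ∈ Matrix.symplecticGroup (Fin m) F := by
      rw [hSp, L.apply_symm_apply]
      exact h.iso
    refine ⟨⟨L.symm U, hmem⟩, L.apply_symm_apply U, ?_, ?_⟩
    · show (L.symm U - 1) ^ (2 * m) = 0
      apply L.injective
      rw [map_pow, map_sub, map_one, L.apply_symm_apply, map_zero, ← hfin]
      exact h.nil
    · show (L.symm U - 1).rank = 2 * m - 1
      have h3 : L (L.symm U - 1) = U - 1 := by rw [map_sub, map_one, L.apply_symm_apply]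
      have h4 := finrank_ker_pow_eq (U - 1) h.ker_le h.nil 1 hpos
      rw [pow_one] at h4
      have h5 := LinearMap.finrank_range_add_finrank_ker (U - 1)
      rw [h4, hfin] at h5
      have h6 : (L.symm U - 1).rank = Module.finrank F (LinearMap.range (U - 1)) := by
        rw [Matrix.rank, ← h3]
        rfl
      rw [h6]
      omega
  -- a regular unipotent element
  obtain ⟨U₁, Ui₁, h₁⟩ := exists_regUnipIso_of_skew h2 B (L (spNilMat hm F))
    (by
      intro x y
      rw [hB, hB, hLapply, hLapply]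
      exact spNilMat_sympForm_skew hm x y)
    (spNilMat_ker hm) (by rw [hfin, ← map_pow, spNilMat_pow, map_zero])
  -- the similitude of multiplier `ε`
  set c : Module.End F (ι → F) := L (spScaleMat m ε) with hc
  set ci : Module.End F (ι → F) := L (spScaleMat m ε⁻¹) with hci
  have hcci : c * ci = 1 := by
    rw [hc, hci, ← map_mul, spScaleMat_mul, mul_inv_cancel₀ hε0, spScaleMat_one, map_one]
  have hcic : ci * c = 1 := by
    rw [hc, hci, ← map_mul, spScaleMat_mul, inv_mul_cancel₀ hε0, spScaleMat_one, map_one]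
  have hcB : ∀ x y, B (c x) (c y) = ε * B x y := by
    intro x y
    rw [hB, hB, hc, hLapply, hLapply]
    exact spScaleMat_sympForm ε x y
  have hciB : ∀ x y, B (ci x) (ci y) = ε⁻¹ * B x y := by
    intro x y
    rw [hB, hB, hci, hLapply, hLapply]
    exact spScaleMat_sympForm ε⁻¹ x y
  have h₂ : RegUnipIso B (c * U₁ * ci) (c * Ui₁ * ci) := h₁.conj c ci hcci hcic ε hcB
  obtain ⟨u₁, hu₁, hPu₁⟩ := hof_reg _ _ h₁
  obtain ⟨u₂, hu₂, hPu₂⟩ := hof_reg _ _ h₂
  -- conjugacy from an intertwining isometry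
  have hconj : ∀ (u' u : Matrix.symplecticGroup (Fin m) F) (g' : Module.End F (ι → F)),
      (∀ x y, B (g' x) (g' y) = B x y) → g' * L (u' : Matrix ι ι F) = L (u : Matrix ι ι F) * g' →
      ConjClasses.mk u = ConjClasses.mk u' := by
    intro u' u g' hg'B hg'
    have hmem : L.symm g' ∈ Matrix.symplecticGroup (Fin m) F := by
      rw [hSp, L.apply_symm_apply]
      exact hg'B
    rw [ConjClasses.mk_eq_mk_iff_isConj]
    apply IsConj.symm
    rw [isConj_iff]
    refine ⟨⟨L.symm g', hmem⟩, ?_⟩
    rw [mul_inv_eq_iff_eq_mul]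
    apply Subtype.ext
    show L.symm g' * (u' : Matrix ι ι F) = (u : Matrix ι ι F) * L.symm g'
    apply L.injective
    rw [map_mul, map_mul, L.apply_symm_apply]
    exact hg'
  have hclaim1 : ∀ u, P u →
      ConjClasses.mk u = ConjClasses.mk u₁ ∨ ConjClasses.mk u = ConjClasses.mk u₂ := by
    intro u hu
    obtain ⟨g, lam, hlam, hgB, hgU⟩ :=
      exists_similitude_conj h2 B halt hnd hpos h₁ (hreg_of u hu) ε hε
    rcases hlam with rfl | rfl
    · left
      apply hconj u₁ u g
      · intro x y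
        rw [hgB, one_mul]
      · rw [hu₁]
        exact hgU
    · right
      apply hconj u₂ u (g * ci)
      · intro x y
        rw [Module.End.mul_apply, Module.End.mul_apply, hgB, hciB, ← mul_assoc,
          mul_inv_cancel₀ hε0, one_mul]
      · rw [hu₂]
        calc g * ci * (c * U₁ * ci) = g * ((ci * c) * U₁) * ci := by simp only [mul_assoc]
          _ = L (u : Matrix ι ι F) * (g * ci) := by
            rw [hcic, one_mul, hgU, mul_assoc]
  have hclaim2 : ConjClasses.mk u₁ ≠ ConjClasses.mk u₂ := by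
    intro heq
    rw [ConjClasses.mk_eq_mk_iff_isConj, isConj_iff] at heq
    obtain ⟨G, hG⟩ := heq
    rw [mul_inv_eq_iff_eq_mul] at hG
    have hG' : L (G : Matrix ι ι F) * U₁ = c * U₁ * ci * L (G : Matrix ι ι F) := by
      rw [← hu₂, ← hu₁, ← map_mul, ← map_mul, ← Submonoid.coe_mul, ← Submonoid.coe_mul, hG]
    have hcomm : Commute (ci * L (G : Matrix ι ι F)) U₁ := by
      show ci * L (G : Matrix ι ι F) * U₁ = U₁ * (ci * L (G : Matrix ι ι F))
      calc ci * L (G : Matrix ι ι F) * U₁ = ci * (L (G : Matrix ι ι F) * U₁) := by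
            rw [mul_assoc]
        _ = (ci * c) * U₁ * ci * L (G : Matrix ι ι F) := by
            rw [hG']
            simp only [mul_assoc]
        _ = U₁ * (ci * L (G : Matrix ι ι F)) := by
            rw [hcic, one_mul, mul_assoc]
    have hsq : IsSquare ε⁻¹ := by
      apply h₁.isSquare_of_commute_similitude h2 hnd hpos _ hcomm ε⁻¹
      intro x y
      rw [Module.End.mul_apply, Module.End.mul_apply, hciB, (hSp _).mp G.2]
    exact hε (isSquare_inv.mp hsq)
  have hset : {C : ConjClasses ↥(Matrix.symplecticGroup (Fin m) F) |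
      ∃ u : Matrix.symplecticGroup (Fin m) F, ConjClasses.mk u = C ∧ P u} =
      {ConjClasses.mk u₁, ConjClasses.mk u₂} := by
    ext C
    constructor
    · rintro ⟨u, rfl, hu⟩
      rcases hclaim1 u hu with h | h
      · left; exact h
      · right; exact h
    · rintro (rfl | rfl)
      · exact ⟨u₁, rfl, hPu₁⟩
      · exact ⟨u₂, rfl, hPu₂⟩
  have hfinal := Set.ncard_pair hclaim2
  rw [← hset, ← Nat.card_coe_set_eq] at hfinal
  exact hfinal

end Cfsg.Agent.S2591
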