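import Cfsg.Statements.S2592
import Cfsg.Agent.Lib.Helper43.SkewCentralizer
import Cfsg.Agent.Lib.Helper5.Symplectic

set_option autoImplicit false
open Cfsg

namespace Cfsg.Agent.S2592

/-- Over a finite field with q elements, q odd, the centraliser in Sp_2m(F) (m ≥ 1) of a regular unipotent element (u − 1 nilpotent of rank 2m − 1) has order 2 q^m. -/
theorem result {F : Type*} [Field F] [Fintype F] {q : ℕ} (hF : Fintype.card F = q) (hq : Odd q) {m : ℕ} (hm : 1 ≤ m) (u : Matrix.symplecticGroup (Fin m) F) (hnil : ((u : Matrix (Fin m ⊕ Fin m) (Fin m ⊕ Fin m) F) - 1) ^ (2 * m) = 0) (hreg : ((u : Matrix (Fin m ⊕ Fin m) (Fin m ⊕ Fin m) F) - 1).rank = 2 * m - 1) : Nat.card ↥(Subgroup.centralizer ({u} : Set ↥(Matrix.symplecticGroup (Fin m) F))) = 2 * q ^ m := by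
  classical
  subst hF
  -- characteristic is odd
  have h2 : (2 : F) ≠ 0 := by
    intro h0
    have hchar : ringChar F = 2 := by
      have hdvd : ringChar F ∣ 2 := (ringChar.spec F 2).mp (by exact_mod_cast h0)
      rcases (Nat.dvd_prime Nat.prime_two).mp hdvd with h | h
      · exact absurd h (CharP.ringChar_ne_one)
      · exact h
    have heven : Even (Fintype.card F) := by
      obtain ⟨k, hk⟩ := FiniteField.card F (ringChar F)
      rw [hk.2, hchar]
      exact (Nat.even_pow.mpr ⟨even_two, k.ne_zero⟩)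
    exact (Nat.not_even_iff_odd.mpr hq) heven
  let ι := Fin m ⊕ Fin m
  let L := Matrix.toLinAlgEquiv' (R := F) (n := ι)
  have hLapply : ∀ (A : Matrix ι ι F) (x : ι → F), L A x = A.mulVec x :=
    fun A x => Matrix.toLinAlgEquiv'_apply A x
  have hcard : Fintype.card ι = 2 * m := by
    simp only [ι, Fintype.card_sum, Fintype.card_fin]; ring
  have hfin : Module.finrank F (ι → F) = 2 * m := by
    rw [Module.finrank_fintype_fun_eq_card, hcard]
  -- the bilinear form
  let B : (ι → F) →ₗ[F] (ι → F) →ₗ[F] F :=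
    LinearMap.mk₂ F (Cfsg.Agent.Lib.Helper5.sympForm (Fin m) F)
      (fun a b c => Cfsg.Agent.Lib.Helper5.sympForm_add_left a b c)
      (fun c a b => by
        rw [Cfsg.Agent.Lib.Helper5.sympForm_smul_left, smul_eq_mul])
      (fun a b c => Cfsg.Agent.Lib.Helper5.sympForm_add_right a b c)
      (fun c a b => by
        rw [Cfsg.Agent.Lib.Helper5.sympForm_smul_right, smul_eq_mul])
  have hB : ∀ x y, B x y = Cfsg.Agent.Lib.Helper5.sympForm (Fin m) F x y := fun x y => rfl
  have hnd : ∀ z, (∀ x, B x z = 0) → z = 0 := by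
    intro z hz
    by_contra hz0
    obtain ⟨w, hw⟩ := Cfsg.Agent.Lib.Helper5.exists_sympForm_ne_zero hz0
    apply hw
    have := hz w
    rw [hB, Cfsg.Agent.Lib.Helper5.sympForm_swap (R := F) z w] at this
    exact neg_eq_zero.mp this
  -- membership in Sp in terms of `B`
  have hSp : ∀ A : Matrix ι ι F, A ∈ Matrix.symplecticGroup (Fin m) F ↔
      ∀ x y, B (L A x) (L A y) = B x y := by
    intro A
    rw [Cfsg.Agent.Lib.Helper5.mem_symplecticGroup_iff_form]
    rfl
  set U : Module.End F (ι → F) := L (u : Matrix ι ι F) with hU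
  set Ui : Module.End F (ι → F) := L ((u⁻¹ : Matrix.symplecticGroup (Fin m) F) : Matrix ι ι F)
    with hUi
  have hUUi : U * Ui = 1 := by
    rw [hU, hUi, ← map_mul, ← Submonoid.coe_mul, mul_inv_cancel, Submonoid.coe_one, map_one]
  have hUiU : Ui * U = 1 := by
    rw [hU, hUi, ← map_mul, ← Submonoid.coe_mul, inv_mul_cancel, Submonoid.coe_one, map_one]
  have hUiso : ∀ x y, B (U x) (U y) = B x y := (hSp _).mp u.2
  have hU1 : U - 1 = L ((u : Matrix ι ι F) - 1) := by rw [map_sub, map_one]
  have h1 : Module.finrank F (LinearMap.ker (U - 1)) ≤ 1 := by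
    rw [hU1]
    exact Cfsg.Agent.Lib.Helper43.finrank_ker_mulVecLin_le_one' _ (by rw [hcard]; exact hreg)
  have hnil' : (U - 1) ^ Module.finrank F (ι → F) = 0 := by
    rw [hU1, hfin, ← map_pow, hnil, map_zero]
  have hpos : 1 ≤ Module.finrank F (ι → F) := by rw [hfin]; omega
  have hcount := Cfsg.Agent.Lib.Helper43.card_isometry_centralizer_unipotent h2 B hnd U Ui hUUi hUiU
    hUiso h1 hnil' hpos
  rw [hfin, Nat.mul_div_cancel_left m (by norm_num : 0 < 2)] at hcount
  rw [← hcount]
  apply Nat.card_congr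
  refine
    { toFun := fun x => ⟨L (x.1 : Matrix ι ι F), ?_, (hSp _).mp x.1.2⟩
      invFun := fun g => ⟨⟨L.symm g.1, (hSp _).mpr (by rw [L.apply_symm_apply]; exact g.2.2)⟩, ?_⟩
      left_inv := fun x => by
        apply Subtype.ext
        apply Subtype.ext
        exact L.symm_apply_apply _
      right_inv := fun g => by
        apply Subtype.ext
        exact L.apply_symm_apply _ }
  · have hx := Subgroup.mem_centralizer_singleton_iff.mp x.2
    have hx' : (x.1 : Matrix ι ι F) * (u : Matrix ι ι F) = (u : Matrix ι ι F) * (x.1 : Matrix ι ι F) := by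
      have := congrArg Subtype.val hx
      simpa using this
    show L (x.1 : Matrix ι ι F) * U = U * L (x.1 : Matrix ι ι F)
    rw [hU, ← map_mul, ← map_mul, hx']
  · rw [Subgroup.mem_centralizer_singleton_iff]
    apply Subtype.ext
    show L.symm g.1 * (u : Matrix ι ι F) = (u : Matrix ι ι F) * L.symm g.1
    apply L.injective
    rw [map_mul, map_mul, L.apply_symm_apply]
    exact g.2.1.eq

end Cfsg.Agent.S2592
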