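import Cfsg.Statements.S2596
import Cfsg.Agent.S2595
import Cfsg.Agent.S2170
import Cfsg.Agent.Lib.Helper43.BlockRank
import Cfsg.Agent.Lib.Helper43.SingularCount
import Cfsg.Agent.Lib.Helper94.MaxSingular

set_option autoImplicit false
open Cfsg

namespace Cfsg.Agent.S2596

open Matrix Cfsg.Agent.Lib.Helper43 Cfsg.Agent.S2593 Cfsg.Agent.S2595 Cfsg.Agent.S2168
  Cfsg.Agent.S2170

section

variable {F : Type*} [Field F] {k : ℕ}

/-- Block diagonal matrix on `(Fin k ⊕ Fin k) ⊕ Fin 2`. -/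
def bmat (M : Matrix (Fin k ⊕ Fin k) (Fin k ⊕ Fin k) F) (R : Matrix (Fin 2) (Fin 2) F) :
    Matrix ((Fin k ⊕ Fin k) ⊕ Fin 2) ((Fin k ⊕ Fin k) ⊕ Fin 2) F :=
  fromBlocks M 0 0 R

theorem bmat_mul (M M' : Matrix (Fin k ⊕ Fin k) (Fin k ⊕ Fin k) F) (R R' : Matrix (Fin 2) (Fin 2) F) :
    bmat M R * bmat M' R' = bmat (M * M') (R * R') := by
  unfold bmat
  rw [fromBlocks_multiply]
  simp

theorem bmat_one : bmat (1 : Matrix (Fin k ⊕ Fin k) (Fin k ⊕ Fin k) F) 1 = 1 := by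
  unfold bmat
  exact fromBlocks_one

theorem bmat_sub_one (M : Matrix (Fin k ⊕ Fin k) (Fin k ⊕ Fin k) F) (R : Matrix (Fin 2) (Fin 2) F) :
    bmat M R - 1 = bmat (M - 1) (R - 1) := by
  unfold bmat
  rw [← fromBlocks_one, sub_eq_add_neg, fromBlocks_neg, fromBlocks_add]
  simp [sub_eq_add_neg]

theorem bmat_mulVec (M : Matrix (Fin k ⊕ Fin k) (Fin k ⊕ Fin k) F) (R : Matrix (Fin 2) (Fin 2) F)
    (v : (Fin k ⊕ Fin k) ⊕ Fin 2 → F) :
    bmat M R *ᵥ v = Sum.elim (M *ᵥ (v ∘ Sum.inl)) (R *ᵥ (v ∘ Sum.inr)) := by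
  have hv : v = Sum.elim (v ∘ Sum.inl) (v ∘ Sum.inr) := by
    ext i; cases i <;> rfl
  unfold bmat
  conv_lhs => rw [hv]
  rw [fromBlocks_mulVec]
  simp

theorem rank_bmat (M : Matrix (Fin k ⊕ Fin k) (Fin k ⊕ Fin k) F) (R : Matrix (Fin 2) (Fin 2) F) :
    (bmat M R).rank = M.rank + R.rank := rank_fromBlocks_diag M R

/-- The binary form. -/
def bin (a b : F) (z : Fin 2 → F) : F := z 0 ^ 2 + a * z 0 * z 1 + b * z 1 ^ 2

theorem quadFormMinus_eq (a b : F) (v : (Fin k ⊕ Fin k) ⊕ Fin 2 → F) :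
    Cfsg.quadFormMinus k F a b v = Cfsg.quadFormPlus k F (v ∘ Sum.inl) + bin a b (v ∘ Sum.inr) := rfl

theorem minusB_eq (a b : F) (u w : (Fin k ⊕ Fin k) ⊕ Fin 2 → F) :
    minusB k F a b u w = plusB k F (u ∘ Sum.inl) (w ∘ Sum.inl) +
      (2 * u (Sum.inr 0) * w (Sum.inr 0) +
        a * (u (Sum.inr 0) * w (Sum.inr 1) + u (Sum.inr 1) * w (Sum.inr 0)) +
        2 * b * u (Sum.inr 1) * w (Sum.inr 1)) := rfl

/-- The reflection matrix on the anisotropic plane. -/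
def rmat (a : F) : Matrix (Fin 2) (Fin 2) F := !![1, a; 0, 1]

theorem rmat_sq [CharP F 2] (a : F) : rmat a * rmat a = 1 := by
  unfold rmat
  ext i j
  fin_cases i <;> fin_cases j <;> simp [Matrix.mul_apply, Fin.sum_univ_two, CharTwo.add_self_eq_zero]

theorem rmat_sub_one (a : F) : rmat a - 1 = !![0, a; 0, 0] := by
  unfold rmat
  ext i j
  fin_cases i <;> fin_cases j <;> simp

theorem rank_rmat_sub_one (a : F) (ha : a ≠ 0) : (rmat a - 1).rank = 1 := by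
  rw [rmat_sub_one]
  apply le_antisymm
  · have h : (!![0, a; 0, 0] : Matrix (Fin 2) (Fin 2) F) * !![0, a; 0, 0] = 0 := by
      ext i j
      fin_cases i <;> fin_cases j <;> simp [Matrix.mul_apply, Fin.sum_univ_two]
    have h2 := rank_add_rank_le_card_of_mul_eq_zero h
    simp only [Fintype.card_fin] at h2
    omega
  · by_contra hcon
    have h0 : (!![0, a; 0, 0] : Matrix (Fin 2) (Fin 2) F).rank = 0 := by omega
    have := matrix_eq_zero_of_rank_eq_zero _ h0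
    have h1 := congrFun (congrFun this 0) 1
    simp at h1
    exact ha h1

theorem rmat_mulVec (a : F) (z : Fin 2 → F) : rmat a *ᵥ z = ![z 0 + a * z 1, z 1] := by
  unfold rmat
  ext i
  fin_cases i <;> simp [Matrix.mulVec, dotProduct, Fin.sum_univ_two]

theorem bin_rmat [CharP F 2] (a b : F) (z : Fin 2 → F) : bin a b (rmat a *ᵥ z) = bin a b z := by
  rw [rmat_mulVec]
  unfold bin
  simp only [Matrix.cons_val_zero, Matrix.cons_val_one]
  have h : a * z 0 * z 1 + a * z 0 * z 1 = 0 := CharTwo.add_self_eq_zero _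
  have h' : a ^ 2 * z 1 ^ 2 + a ^ 2 * z 1 ^ 2 = 0 := CharTwo.add_self_eq_zero _
  linear_combination h + h'

/-- A matrix of order dividing two as an element of `GL`. -/
def glOfSq' (A : Matrix ((Fin k ⊕ Fin k) ⊕ Fin 2) ((Fin k ⊕ Fin k) ⊕ Fin 2) F) (h : A * A = 1) :
    GL ((Fin k ⊕ Fin k) ⊕ Fin 2) F :=
  ⟨A, A, h, h⟩

theorem exists_nonalt [CharP F 2] (a b : F) (ha : a ≠ 0) (j : ℕ) (hj : j ≤ k) :
    ∃ g : ↥(Cfsg.isometryGroup F (⇑(minusQF k F a b))), orderOf g = 2 ∧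
      (((g : GL ((Fin k ⊕ Fin k) ⊕ Fin 2) F) :
        Matrix ((Fin k ⊕ Fin k) ⊕ Fin 2) ((Fin k ⊕ Fin k) ⊕ Fin 2) F) - 1).rank = j + 1 ∧
      ¬ OrthTypeA (minusQF k F a b) ((g : GL ((Fin k ⊕ Fin k) ⊕ Fin 2) F) :
        Matrix ((Fin k ⊕ Fin k) ⊕ Fin 2) ((Fin k ⊕ Fin k) ⊕ Fin 2) F) := by
  have hsq : bmat (wmat j : Matrix (Fin k ⊕ Fin k) (Fin k ⊕ Fin k) F) (rmat a) *
      bmat (wmat j) (rmat a) = 1 := by
    rw [bmat_mul, wmat_sq, rmat_sq, bmat_one]
  have hmem : glOfSq' _ hsq ∈ Cfsg.isometryGroup F (⇑(minusQF k F a b)) := by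
    intro u v
    show Cfsg.quadFormMinus k F a b (bmat (wmat j) (rmat a) *ᵥ u) = Cfsg.quadFormMinus k F a b u
    rw [quadFormMinus_eq, quadFormMinus_eq, bmat_mulVec]
    simp only [Sum.elim_comp_inl, Sum.elim_comp_inr]
    rw [quadFormPlus_wmat, bin_rmat]
  have hrank : (bmat (wmat j : Matrix (Fin k ⊕ Fin k) (Fin k ⊕ Fin k) F) (rmat a) - 1).rank = j + 1 := by
    rw [bmat_sub_one, rank_bmat, wmat_sub_one, rank_dmat j hj, rank_rmat_sub_one a ha]
  refine ⟨⟨_, hmem⟩, ?_, hrank, ?_⟩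
  · apply orth_orderOf_eq_two
    · exact hsq
    · show 1 ≤ (bmat (wmat j : Matrix (Fin k ⊕ Fin k) (Fin k ⊕ Fin k) F) (rmat a) - 1).rank
      rw [hrank]; omega
  · intro hA
    have h : QuadraticMap.polar (⇑(minusQF k F a b)) (Pi.single (Sum.inr 1) 1)
        ((bmat (wmat j : Matrix (Fin k ⊕ Fin k) (Fin k ⊕ Fin k) F) (rmat a) - 1) *ᵥ
          (Pi.single (Sum.inr 1) 1)) = 0 :=
      hA (Pi.single (Sum.inr 1) 1)
    rw [minusQF_polar, bmat_sub_one, bmat_mulVec, minusB_eq] at h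
    have hx : ((Pi.single (Sum.inr 1) 1 : (Fin k ⊕ Fin k) ⊕ Fin 2 → F) ∘ Sum.inl) = 0 := by
      ext i
      simp
    simp only [Sum.elim_comp_inl, hx, map_zero, LinearMap.zero_apply, zero_add, Sum.elim_inr] at h
    rw [rmat_sub_one] at h
    simp [Matrix.mulVec, dotProduct, Fin.sum_univ_two] at h
    exact ha h

theorem exists_alt [CharP F 2] (a b : F) (s : ℕ) (hs1 : 1 ≤ s) (hs : s ≤ k) (he : Even s) :
    ∃ g : ↥(Cfsg.isometryGroup F (⇑(minusQF k F a b))), orderOf g = 2 ∧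
      (((g : GL ((Fin k ⊕ Fin k) ⊕ Fin 2) F) :
        Matrix ((Fin k ⊕ Fin k) ⊕ Fin 2) ((Fin k ⊕ Fin k) ⊕ Fin 2) F) - 1).rank = s ∧
      OrthTypeA (minusQF k F a b) ((g : GL ((Fin k ⊕ Fin k) ⊕ Fin 2) F) :
        Matrix ((Fin k ⊕ Fin k) ⊕ Fin 2) ((Fin k ⊕ Fin k) ⊕ Fin 2) F) := by
  have halt : ∀ y : Fin k → F, y ⬝ᵥ ((amat s : Matrix (Fin k) (Fin k) F) *ᵥ y) = 0 :=
    dotProduct_mulVec_self_eq_zero _ (amat_transpose s hs he) (amat_diag s hs he)
  have hsq : bmat (tmat (amat s : Matrix (Fin k) (Fin k) F)) (1 : Matrix (Fin 2) (Fin 2) F) *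
      bmat (tmat (amat s)) 1 = 1 := by
    rw [bmat_mul, tmat_sq, one_mul, bmat_one]
  have hmem : glOfSq' _ hsq ∈ Cfsg.isometryGroup F (⇑(minusQF k F a b)) := by
    intro u v
    show Cfsg.quadFormMinus k F a b (bmat (tmat (amat s)) 1 *ᵥ u) = Cfsg.quadFormMinus k F a b u
    rw [quadFormMinus_eq, quadFormMinus_eq, bmat_mulVec]
    simp only [Sum.elim_comp_inl, Sum.elim_comp_inr]
    rw [quadFormPlus_tmat, halt, add_zero, one_mulVec]
  have hrank : (bmat (tmat (amat s : Matrix (Fin k) (Fin k) F)) (1 : Matrix (Fin 2) (Fin 2) F) - 1).rank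
      = s := by
    rw [bmat_sub_one, rank_bmat, tmat_rank, rank_amat s hs, sub_self, rank_zero, add_zero]
  refine ⟨⟨_, hmem⟩, ?_, hrank, ?_⟩
  · apply orth_orderOf_eq_two
    · exact hsq
    · show 1 ≤ (bmat (tmat (amat s : Matrix (Fin k) (Fin k) F)) (1 : Matrix (Fin 2) (Fin 2) F) - 1).rank
      rw [hrank]; exact hs1
  · intro v
    show QuadraticMap.polar (⇑(minusQF k F a b)) v
      ((bmat (tmat (amat s : Matrix (Fin k) (Fin k) F)) (1 : Matrix (Fin 2) (Fin 2) F) - 1) *ᵥ v) = 0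
    rw [minusQF_polar, bmat_sub_one, bmat_mulVec, minusB_eq, tmat_sub_one, sub_self]
    simp only [Sum.elim_comp_inl, Sum.elim_inr, zero_mulVec, Pi.zero_apply, mul_zero, add_zero]
    rw [plusB_umat, halt]

theorem card_zeros_minus [Fintype F] (a b : F)
    (hab : ∀ z₁ z₂ : F, z₁ ^ 2 + a * z₁ * z₂ + b * z₂ ^ 2 = 0 → z₁ = 0 ∧ z₂ = 0) :
    Nat.card {v : (Fin k ⊕ Fin k) ⊕ Fin 2 → F // Cfsg.quadFormMinus k F a b v = 0} =
      Fintype.card F ^ k +
        (Fintype.card F ^ k - 1) * (Fintype.card F ^ (k - 1) * Fintype.card F ^ 2) := by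
  have h := Cfsg.Agent.Lib.Helper5.card_hyperbolic_add (F := F) k (bin a b)
  let e : {v : (Fin k ⊕ Fin k) ⊕ Fin 2 → F // Cfsg.quadFormMinus k F a b v = 0} ≃
      {p : (Fin k → F) × (Fin k → F) × (Fin 2 → F) // p.1 ⬝ᵥ p.2.1 + bin a b p.2.2 = 0} :=
    { toFun := fun v => ⟨(fun i => v.1 (Sum.inl (Sum.inl i)), fun i => v.1 (Sum.inl (Sum.inr i)),
        fun j => v.1 (Sum.inr j)), v.2⟩
      invFun := fun p => ⟨Sum.elim (Sum.elim p.1.1 p.1.2.1) p.1.2.2, p.2⟩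
      left_inv := fun v => by
        apply Subtype.ext
        funext i
        rcases i with (i | i) | i <;> rfl
      right_inv := fun p => rfl }
  rw [Nat.card_congr e, h]
  have h1 : Nat.card {w : Fin 2 → F // bin a b w = 0} = 1 := by
    rw [Nat.card_eq_one_iff_unique]
    refine ⟨⟨?_⟩, ⟨⟨0, by simp [bin]⟩⟩⟩
    intro x y
    have hz : ∀ w : {w : Fin 2 → F // bin a b w = 0}, w.1 = 0 := by
      intro w
      have := hab (w.1 0) (w.1 1) w.2
      funext i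
      fin_cases i
      · exact this.1
      · exact this.2
    apply Subtype.ext
    rw [hz x, hz y]
  have h2 : Nat.card (Fin 2 → F) = Fintype.card F ^ 2 := by
    rw [Nat.card_eq_fintype_card, Fintype.card_fun, Fintype.card_fin]
  rw [h1, h2, mul_one]

theorem typeA_rank_le [Fintype F] [CharP F 2] (a b : F) (ha : a ≠ 0)
    (hab : ∀ z₁ z₂ : F, z₁ ^ 2 + a * z₁ * z₂ + b * z₂ ^ 2 = 0 → z₁ = 0 ∧ z₂ = 0)
    (g : ↥(Cfsg.isometryGroup F (⇑(minusQF k F a b)))) (hg : orderOf g = 2)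
    (hA : OrthTypeA (minusQF k F a b) ((g : GL ((Fin k ⊕ Fin k) ⊕ Fin 2) F) :
        Matrix ((Fin k ⊕ Fin k) ⊕ Fin 2) ((Fin k ⊕ Fin k) ⊕ Fin 2) F)) :
    (((g : GL ((Fin k ⊕ Fin k) ⊕ Fin 2) F) :
        Matrix ((Fin k ⊕ Fin k) ⊕ Fin 2) ((Fin k ⊕ Fin k) ⊕ Fin 2) F) - 1).rank ≤ k := by
  classical
  by_contra hcon
  have hQ : (QuadraticMap.polarBilin (minusQF k F a b)).Nondegenerate := minusQF_nondeg k F a b ha
  have hr2 := orth_rank_le _ g hg
  simp only [Fintype.card_sum, Fintype.card_fin] at hr2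
  set A : Matrix ((Fin k ⊕ Fin k) ⊕ Fin 2) ((Fin k ⊕ Fin k) ⊕ Fin 2) F :=
    ((g : GL ((Fin k ⊕ Fin k) ⊕ Fin 2) F) :
        Matrix ((Fin k ⊕ Fin k) ⊕ Fin 2) ((Fin k ⊕ Fin k) ⊕ Fin 2) F) with hAdef
  have hrk : (A - 1).rank = k + 1 := by omega
  have hev := orth_even_rank_of_typeA (minusQF k F a b) hQ A hA
  rw [hrk] at hev
  have hk1 : 1 ≤ k := by
    rcases Nat.eq_zero_or_pos k with h0 | h0
    · rw [h0] at hev
      exact absurd hev (by decide)
    · exact h0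
  set U : Submodule F ((Fin k ⊕ Fin k) ⊕ Fin 2 → F) := LinearMap.range (A - 1).mulVecLin with hUdef
  have hUrank : Module.finrank F U = k + 1 := hrk
  have hU : ∀ u ∈ U, (minusQF k F a b) u = 0 := by
    rintro u ⟨v, rfl⟩
    have h1 : (minusQF k F a b) (A *ᵥ v) = (minusQF k F a b) v := orth_apply (⇑(minusQF k F a b)) g v
    have h2 : A *ᵥ v = v + (A - 1) *ᵥ v := by
      rw [sub_mulVec, one_mulVec, add_sub_cancel]
    rw [h2, QuadraticMap.map_add (minusQF k F a b) v ((A - 1) *ᵥ v), hA v, add_zero] at h1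
    rw [mulVecLin_apply]
    exact left_eq_add.mp h1.symm
  have hdim : 2 * Module.finrank F U = Module.finrank F ((Fin k ⊕ Fin k) ⊕ Fin 2 → F) := by
    rw [hUrank, Module.finrank_fintype_fun_eq_card]
    simp only [Fintype.card_sum, Fintype.card_fin]
    omega
  have horth := Cfsg.Agent.Lib.Helper94.orthogonal_eq_self (minusQF k F a b) hQ U hU hdim
  have hperp : ∀ v, (∀ u ∈ U, QuadraticMap.polar (⇑(minusQF k F a b)) v u = 0) → v ∈ U := by
    intro v hv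
    rw [← horth, LinearMap.BilinForm.mem_orthogonal_iff]
    intro n hn
    show QuadraticMap.polar (⇑(minusQF k F a b)) n v = 0
    rw [QuadraticMap.polar_comm]
    exact hv n hn
  have hcount := card_zeros_of_self_orthogonal_singular (minusQF k F a b) U hU hperp
  have hcU : Nat.card U = Fintype.card F ^ (k + 1) := by
    rw [Module.natCard_eq_pow_finrank (K := F) (V := U), hUrank, Nat.card_eq_fintype_card]
  have hcV : Nat.card ((Fin k ⊕ Fin k) ⊕ Fin 2 → F) = Fintype.card F ^ (2 * k + 2) := by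
    rw [Nat.card_eq_fintype_card, Fintype.card_fun]
    simp only [Fintype.card_sum, Fintype.card_fin]
    congr 1
    omega
  have hZ : Nat.card {v : (Fin k ⊕ Fin k) ⊕ Fin 2 → F // (minusQF k F a b) v = 0} =
      Fintype.card F ^ k +
        (Fintype.card F ^ k - 1) * (Fintype.card F ^ (k - 1) * Fintype.card F ^ 2) :=
    card_zeros_minus a b hab
  rw [hcU, hcV, hZ] at hcount
  set q := Fintype.card F with hq
  have hq2 : 2 ≤ q := Fintype.one_lt_card
  obtain ⟨B, hB⟩ : ∃ B, q ^ k = B + 1 := ⟨q ^ k - 1, by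
    have : 0 < q ^ k := pow_pos (by omega) k
    omega⟩
  have e1 : q ^ (k + 1) = (B + 1) * q := by rw [pow_succ, hB]
  have e2 : q ^ (2 * k + 2) = (B + 1) * (B + 1) * q * q := by
    rw [show 2 * k + 2 = k + k + 1 + 1 by ring, pow_succ, pow_succ, pow_add, hB]
  have e3 : q ^ (k - 1) * q ^ 2 = (B + 1) * q := by
    rw [← pow_add, show k - 1 + 2 = k + 1 by omega, e1]
  rw [e1, e2, e3, hB, Nat.add_sub_cancel] at hcount
  have hfin : (B + 1) * (B + 1) * q * q = (B + 1) * (B + 1) * q * q * q := by nlinarith [hcount]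
  have hpos : 0 < (B + 1) * (B + 1) * q * q := by positivity
  have : q = 1 := by
    have h := Nat.eq_of_mul_eq_mul_left hpos (by rw [mul_one]; exact hfin :
      (B + 1) * (B + 1) * q * q * 1 = (B + 1) * (B + 1) * q * q * q)
    exact h.symm
  omega

end

/-- Number of conjugacy classes of involutions in the full orthogonal group O⁻_2m(F) of an elliptic quadratic form (Σ_(i<m−1) x_i y_i plus an anisotropic binary form) over a finite field of characteristic two (m ≥ 1): one class for each odd s ≤ m, two for each even s with 2 ≤ s < m and one for s = m when m is even, where s = rank(t − 1); in all m + ⌊(m − 1)/2⌋. -/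
theorem result {F : Type*} [Field F] [Fintype F] [CharP F 2] {m : ℕ} (hm : 1 ≤ m) (a b : F) (hab : ∀ z₁ z₂ : F, z₁ ^ 2 + a * z₁ * z₂ + b * z₂ ^ 2 = 0 → z₁ = 0 ∧ z₂ = 0) : Nat.card {C : ConjClasses ↥(Cfsg.isometryGroup F (Cfsg.quadFormMinus (m - 1) F a b)) // ∃ g : ↥(Cfsg.isometryGroup F (Cfsg.quadFormMinus (m - 1) F a b)), ConjClasses.mk g = C ∧ orderOf g = 2} = m + (m - 1) / 2 := by
  classical
  have ha : a ≠ 0 := by
    intro h0
    obtain ⟨r, hr⟩ := FiniteField.isSquare_of_char_two (ringChar.eq F 2) b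
    have h := hab r 1
    rw [h0, hr] at h
    have h1 : r ^ 2 + 0 * r * 1 + r * r * 1 ^ 2 = 0 := by
      have : r ^ 2 + 0 * r * 1 + r * r * 1 ^ 2 = r * r + r * r := by ring
      rw [this]
      exact CharTwo.add_self_eq_zero _
    exact one_ne_zero (h h1).2
  have hA : ∀ j : Fin m, ∃ g : ↥(Cfsg.isometryGroup F (⇑(minusQF (m - 1) F a b))), orderOf g = 2 ∧
      (((g : GL ((Fin (m - 1) ⊕ Fin (m - 1)) ⊕ Fin 2) F) :
        Matrix ((Fin (m - 1) ⊕ Fin (m - 1)) ⊕ Fin 2) ((Fin (m - 1) ⊕ Fin (m - 1)) ⊕ Fin 2) F) - 1).rank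
          = j.val + 1 ∧
      ¬ OrthTypeA (minusQF (m - 1) F a b) ((g : GL ((Fin (m - 1) ⊕ Fin (m - 1)) ⊕ Fin 2) F) :
        Matrix ((Fin (m - 1) ⊕ Fin (m - 1)) ⊕ Fin 2) ((Fin (m - 1) ⊕ Fin (m - 1)) ⊕ Fin 2) F) :=
    fun j => exists_nonalt a b ha j.val (by have := j.2; omega)
  have hB : ∀ j : Fin ((m - 1) / 2), ∃ g : ↥(Cfsg.isometryGroup F (⇑(minusQF (m - 1) F a b))),
      orderOf g = 2 ∧
      (((g : GL ((Fin (m - 1) ⊕ Fin (m - 1)) ⊕ Fin 2) F) :
        Matrix ((Fin (m - 1) ⊕ Fin (m - 1)) ⊕ Fin 2) ((Fin (m - 1) ⊕ Fin (m - 1)) ⊕ Fin 2) F) - 1).rank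
          = 2 * (j.val + 1) ∧
      OrthTypeA (minusQF (m - 1) F a b) ((g : GL ((Fin (m - 1) ⊕ Fin (m - 1)) ⊕ Fin 2) F) :
        Matrix ((Fin (m - 1) ⊕ Fin (m - 1)) ⊕ Fin 2) ((Fin (m - 1) ⊕ Fin (m - 1)) ⊕ Fin 2) F) :=
    fun j => exists_alt a b (2 * (j.val + 1)) (by omega) (by have := j.2; omega) ⟨j.val + 1, by ring⟩
  choose repA hA1 hA2 hA3 using hA
  choose repB hB1 hB2 hB3 using hB
  let rep : Fin m ⊕ Fin ((m - 1) / 2) → ↥(Cfsg.isometryGroup F (⇑(minusQF (m - 1) F a b))) :=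
    Sum.elim repA repB
  have hrep : ∀ x, orderOf (rep x) = 2 := by
    intro x
    cases x with
    | inl j => exact hA1 j
    | inr j => exact hB1 j
  have hcount := card_orth_involution_classes (minusQF (m - 1) F a b)
    (minusQF_nondeg (m - 1) F a b ha) rep hrep ?_ ?_
  · rw [Nat.card_sum, Nat.card_fin, Nat.card_fin] at hcount
    exact hcount
  · intro x y hr ht
    cases x with
    | inl j =>
      cases y with
      | inl j' =>
        have : j.val + 1 = j'.val + 1 := by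
          rw [← hA2 j, ← hA2 j']; exact hr
        congr 1
        ext
        omega
      | inr j' =>
        exact absurd (ht.mpr (hB3 j')) (hA3 j)
    | inr j =>
      cases y with
      | inl j' =>
        exact absurd (ht.mp (hB3 j)) (hA3 j')
      | inr j' =>
        have : 2 * (j.val + 1) = 2 * (j'.val + 1) := by
          rw [← hB2 j, ← hB2 j']; exact hr
        congr 1
        ext
        omega
  · intro g hg
    have hr1 := orth_rank_pos _ g hg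
    have hr2 := orth_rank_le _ g hg
    simp only [Fintype.card_sum, Fintype.card_fin] at hr2
    by_cases hT : OrthTypeA (minusQF (m - 1) F a b) ((g : GL ((Fin (m - 1) ⊕ Fin (m - 1)) ⊕ Fin 2) F) :
        Matrix ((Fin (m - 1) ⊕ Fin (m - 1)) ⊕ Fin 2) ((Fin (m - 1) ⊕ Fin (m - 1)) ⊕ Fin 2) F)
    · have hev := orth_even_rank_of_typeA (minusQF (m - 1) F a b)
        (minusQF_nondeg (m - 1) F a b ha) _ hT
      have hle := typeA_rank_le a b ha hab g hg hT
      obtain ⟨r, hr⟩ := hev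
      have hk : r - 1 < (m - 1) / 2 := by omega
      refine ⟨Sum.inr ⟨r - 1, hk⟩, ?_, ?_⟩
      · show (((repB ⟨r - 1, hk⟩ : GL ((Fin (m - 1) ⊕ Fin (m - 1)) ⊕ Fin 2) F) :
          Matrix ((Fin (m - 1) ⊕ Fin (m - 1)) ⊕ Fin 2) ((Fin (m - 1) ⊕ Fin (m - 1)) ⊕ Fin 2) F) - 1).rank = _
        rw [hB2]
        show 2 * (r - 1 + 1) = _
        omega
      · exact ⟨fun _ => hT, fun _ => hB3 _⟩
    · have hk : (((g : GL ((Fin (m - 1) ⊕ Fin (m - 1)) ⊕ Fin 2) F) :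
          Matrix ((Fin (m - 1) ⊕ Fin (m - 1)) ⊕ Fin 2) ((Fin (m - 1) ⊕ Fin (m - 1)) ⊕ Fin 2) F) - 1).rank - 1
            < m := by
        omega
      refine ⟨Sum.inl ⟨_, hk⟩, ?_, ?_⟩
      · show (((repA ⟨_, hk⟩ : GL ((Fin (m - 1) ⊕ Fin (m - 1)) ⊕ Fin 2) F) :
          Matrix ((Fin (m - 1) ⊕ Fin (m - 1)) ⊕ Fin 2) ((Fin (m - 1) ⊕ Fin (m - 1)) ⊕ Fin 2) F) - 1).rank = _
        rw [hA2]
        show _ - 1 + 1 = _
        omega
      · exact ⟨fun h => absurd h (hA3 _), fun h => absurd h hT⟩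

end Cfsg.Agent.S2596
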