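import Cfsg.Statements.S2598
import Cfsg.Agent.S2596
import Cfsg.Agent.S2173
import Cfsg.Agent.S0824
import Cfsg.Agent.Lib.Helper43.OmegaInvolClasses

set_option autoImplicit false
open Cfsg

namespace Cfsg.Agent.S2598

open Matrix Module Cfsg.Agent.Lib.Helper43 Cfsg.Agent.Lib.Helper36 Cfsg.Agent.Lib.Helper13
  Cfsg.Agent.S2170

section

variable {F : Type*} [Field F] [Fintype F] [CharP F 2]

theorem a_ne_zero (a b : F)
    (hab : ∀ z₁ z₂ : F, z₁ ^ 2 + a * z₁ * z₂ + b * z₂ ^ 2 = 0 → z₁ = 0 ∧ z₂ = 0) : a ≠ 0 := by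
  intro h0
  obtain ⟨r, hr⟩ := FiniteField.isSquare_of_char_two (ringChar.eq F 2) b
  have h := hab r 1
  rw [h0, hr] at h
  have h1 : r ^ 2 + 0 * r * 1 + r * r * 1 ^ 2 = 0 := by
    have : r ^ 2 + 0 * r * 1 + r * r * 1 ^ 2 = r * r + r * r := by ring
    rw [this]
    exact CharTwo.add_self_eq_zero _
  exact one_ne_zero (h h1).2

/-- The generic case: the dimension is not four or the field has more than two elements. -/
theorem caseA {m : ℕ} (hm : 1 ≤ m) (a b : F)
    (hab : ∀ z₁ z₂ : F, z₁ ^ 2 + a * z₁ * z₂ + b * z₂ ^ 2 = 0 → z₁ = 0 ∧ z₂ = 0)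
    (hF : (∀ a b : F, ∃ x : F, x ≠ a ∧ x ≠ b) ∨
      Fintype.card ((Fin (m - 1) ⊕ Fin (m - 1)) ⊕ Fin 2) ≠ 4) :
    Nat.card {C : ConjClasses ↥(Cfsg.Omega F (⇑(minusQF (m - 1) F a b))) //
      ∃ g : ↥(Cfsg.Omega F (⇑(minusQF (m - 1) F a b))), ConjClasses.mk g = C ∧ orderOf g = 2} =
      m / 2 + (m - 1) / 2 := by
  classical
  have ha : a ≠ 0 := a_ne_zero a b hab
  have hnd := minusQF_nondeg (m - 1) F a b ha
  have hA : ∀ j : Fin (m / 2), ∃ g : ↥(Cfsg.isometryGroup F (⇑(minusQF (m - 1) F a b))), orderOf g = 2 ∧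
      (((g : GL ((Fin (m - 1) ⊕ Fin (m - 1)) ⊕ Fin 2) F) :
        Matrix ((Fin (m - 1) ⊕ Fin (m - 1)) ⊕ Fin 2) ((Fin (m - 1) ⊕ Fin (m - 1)) ⊕ Fin 2) F) - 1).rank
          = 2 * j.val + 1 + 1 ∧
      ¬ OrthTypeA (minusQF (m - 1) F a b) ((g : GL ((Fin (m - 1) ⊕ Fin (m - 1)) ⊕ Fin 2) F) :
        Matrix ((Fin (m - 1) ⊕ Fin (m - 1)) ⊕ Fin 2) ((Fin (m - 1) ⊕ Fin (m - 1)) ⊕ Fin 2) F) :=
    fun j => Cfsg.Agent.S2596.exists_nonalt a b ha (2 * j.val + 1) (by have := j.2; omega)
  have hB : ∀ j : Fin ((m - 1) / 2), ∃ g : ↥(Cfsg.isometryGroup F (⇑(minusQF (m - 1) F a b))),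
      orderOf g = 2 ∧
      (((g : GL ((Fin (m - 1) ⊕ Fin (m - 1)) ⊕ Fin 2) F) :
        Matrix ((Fin (m - 1) ⊕ Fin (m - 1)) ⊕ Fin 2) ((Fin (m - 1) ⊕ Fin (m - 1)) ⊕ Fin 2) F) - 1).rank
          = 2 * (j.val + 1) ∧
      OrthTypeA (minusQF (m - 1) F a b) ((g : GL ((Fin (m - 1) ⊕ Fin (m - 1)) ⊕ Fin 2) F) :
        Matrix ((Fin (m - 1) ⊕ Fin (m - 1)) ⊕ Fin 2) ((Fin (m - 1) ⊕ Fin (m - 1)) ⊕ Fin 2) F) :=
    fun j => Cfsg.Agent.S2596.exists_alt a b (2 * (j.val + 1)) (by omega) (by have := j.2; omega)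
      ⟨j.val + 1, by ring⟩
  choose repA hA1 hA2 hA3 using hA
  choose repB hB1 hB2 hB3 using hB
  let rep : Fin (m / 2) ⊕ Fin ((m - 1) / 2) → ↥(Cfsg.isometryGroup F (⇑(minusQF (m - 1) F a b))) :=
    Sum.elim repA repB
  have hrep : ∀ x, orderOf (rep x) = 2 := by
    intro x
    cases x with
    | inl j => exact hA1 j
    | inr j => exact hB1 j
  have hcardeq : Fintype.card ((Fin (m - 1) ⊕ Fin (m - 1)) ⊕ Fin 2) = 2 * m := by
    rw [Fintype.card_sum, Fintype.card_sum, Fintype.card_fin, Fintype.card_fin]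
    omega
  have hcount := card_omega_involution_classes_of_no_split (minusQF (m - 1) F a b) hnd hF rep hrep
    ?_ ?_ ?_ ?_
  · rw [Nat.card_sum, Nat.card_fin, Nat.card_fin] at hcount
    exact hcount
  · intro x
    cases x with
    | inl j =>
      show Even (((repA j : GL ((Fin (m - 1) ⊕ Fin (m - 1)) ⊕ Fin 2) F) :
        Matrix ((Fin (m - 1) ⊕ Fin (m - 1)) ⊕ Fin 2) ((Fin (m - 1) ⊕ Fin (m - 1)) ⊕ Fin 2) F) - 1).rank
      rw [hA2]
      exact ⟨j.val + 1, by ring⟩
    | inr j =>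
      show Even (((repB j : GL ((Fin (m - 1) ⊕ Fin (m - 1)) ⊕ Fin 2) F) :
        Matrix ((Fin (m - 1) ⊕ Fin (m - 1)) ⊕ Fin 2) ((Fin (m - 1) ⊕ Fin (m - 1)) ⊕ Fin 2) F) - 1).rank
      rw [hB2]
      exact ⟨j.val + 1, by ring⟩
  · intro x y hr ht
    cases x with
    | inl j =>
      cases y with
      | inl j' =>
        have : 2 * j.val + 1 + 1 = 2 * j'.val + 1 + 1 := by
          rw [← hA2 j, ← hA2 j']; exact hr
        congr 1
        ext
        omega
      | inr j' =>
        exact absurd (ht.mpr (hB3 j')) (hA3 j)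
    | inr j =>
      cases y with
      | inl j' =>
        exact absurd (ht.mp (hB3 j)) (hA3 j')
      | inr j' =>
        have : 2 * (j.val + 1) = 2 * (j'.val + 1) := by
          rw [← hB2 j, ← hB2 j']; exact hr
        congr 1
        ext
        omega
  · intro g hg hge
    have hr1 := orth_rank_pos _ g hg
    have hr2 := orth_rank_le _ g hg
    rw [hcardeq] at hr2
    obtain ⟨r, hr⟩ := hge
    by_cases hT : OrthTypeA (minusQF (m - 1) F a b) ((g : GL ((Fin (m - 1) ⊕ Fin (m - 1)) ⊕ Fin 2) F) :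
        Matrix ((Fin (m - 1) ⊕ Fin (m - 1)) ⊕ Fin 2) ((Fin (m - 1) ⊕ Fin (m - 1)) ⊕ Fin 2) F)
    · have hle := Cfsg.Agent.S2596.typeA_rank_le a b ha hab g hg hT
      have hk : r - 1 < (m - 1) / 2 := by omega
      refine ⟨Sum.inr ⟨r - 1, hk⟩, ?_, ?_⟩
      · show (((repB ⟨r - 1, hk⟩ : GL ((Fin (m - 1) ⊕ Fin (m - 1)) ⊕ Fin 2) F) :
          Matrix ((Fin (m - 1) ⊕ Fin (m - 1)) ⊕ Fin 2) ((Fin (m - 1) ⊕ Fin (m - 1)) ⊕ Fin 2) F) - 1).rank = _
        rw [hB2]
        show 2 * (r - 1 + 1) = _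
        omega
      · exact ⟨fun _ => hT, fun _ => hB3 _⟩
    · have hk : r - 1 < m / 2 := by omega
      refine ⟨Sum.inl ⟨r - 1, hk⟩, ?_, ?_⟩
      · show (((repA ⟨r - 1, hk⟩ : GL ((Fin (m - 1) ⊕ Fin (m - 1)) ⊕ Fin 2) F) :
          Matrix ((Fin (m - 1) ⊕ Fin (m - 1)) ⊕ Fin 2) ((Fin (m - 1) ⊕ Fin (m - 1)) ⊕ Fin 2) F) - 1).rank = _
        rw [hA2]
        show 2 * (r - 1) + 1 + 1 = _
        omega
      · exact ⟨fun h => absurd h (hA3 _), fun h => absurd h hT⟩
  · intro g hg _ hts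
    have htt : g * g = 1 := by
      have := pow_orderOf_eq_one g
      rwa [hg, pow_two] at this
    have hfix := card_le_two_mul_fixSp (Cfsg.quadFormMinus (m - 1) F a b) g htt
    rw [hcardeq] at hfix
    have h1 := finrank_le_of_maximal_ts (minusQF (m - 1) F a b) hnd (Cfsg.Agent.S2173.stdE (m - 1) F)
      (Cfsg.Agent.S2173.stdE_ts (m - 1) F a b) (Cfsg.Agent.S2173.stdE_max (m - 1) F a b hab) _ hts
    have h2 := Cfsg.Agent.S2173.finrank_stdE_le (m - 1) F
    omega

end

section Transfer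

/-- The number of classes of involutions is invariant under group isomorphism. -/
theorem card_involution_classes_congr {G H : Type*} [Group G] [Group H] (e : G ≃* H) :
    Nat.card {C : ConjClasses G // ∃ g : G, ConjClasses.mk g = C ∧ orderOf g = 2} =
      Nat.card {C : ConjClasses H // ∃ g : H, ConjClasses.mk g = C ∧ orderOf g = 2} := by
  apply Nat.card_congr
  refine
    { toFun := fun C => ⟨ConjClasses.map e.toMonoidHom C.1, ?_⟩
      invFun := fun C => ⟨ConjClasses.map e.symm.toMonoidHom C.1, ?_⟩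
      left_inv := ?_
      right_inv := ?_ }
  · obtain ⟨g, hg, hg2⟩ := C.2
    refine ⟨e g, ?_, ?_⟩
    · rw [← hg]; rfl
    · rw [← hg2]; exact MulEquiv.orderOf_eq e g
  · obtain ⟨g, hg, hg2⟩ := C.2
    refine ⟨e.symm g, ?_, ?_⟩
    · rw [← hg]; rfl
    · rw [← hg2]; exact MulEquiv.orderOf_eq e.symm g
  · rintro ⟨C, g, rfl, hg⟩
    apply Subtype.ext
    show ConjClasses.map e.symm.toMonoidHom (ConjClasses.map e.toMonoidHom (ConjClasses.mk g)) =
      ConjClasses.mk g
    show ConjClasses.mk (e.symm (e g)) = ConjClasses.mk g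
    rw [MulEquiv.symm_apply_apply]
  · rintro ⟨C, g, rfl, hg⟩
    apply Subtype.ext
    show ConjClasses.mk (e (e.symm g)) = ConjClasses.mk g
    rw [MulEquiv.apply_symm_apply]

/-- The number of classes of involutions of the commutator subgroup is invariant under group
isomorphism. -/
theorem card_commutator_involution_classes_congr {G H : Type*} [Group G] [Group H] (e : G ≃* H) :
    Nat.card {C : ConjClasses ↥(commutator G) //
      ∃ g : ↥(commutator G), ConjClasses.mk g = C ∧ orderOf g = 2} =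
    Nat.card {C : ConjClasses ↥(commutator H) //
      ∃ g : ↥(commutator H), ConjClasses.mk g = C ∧ orderOf g = 2} :=
  card_involution_classes_congr
    (subgroupEquivOfIff e (commutator G) (commutator H) (mem_commutator_iff_equiv e))

open Equiv Equiv.Perm in
theorem g0_mem : swap (0 : Fin 5) 4 * swap 1 3 ∈ alternatingGroup (Fin 5) := by
  rw [mem_alternatingGroup, Perm.sign_mul, sign_swap (by decide), sign_swap (by decide)]
  rfl

open Equiv Equiv.Perm in
/-- All involutions of `A₅` are conjugate in `A₅`. -/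
theorem isConj_A5 (g : ↥(alternatingGroup (Fin 5))) (hg : orderOf g = 2) :
    IsConj (⟨swap 0 4 * swap 1 3, g0_mem⟩ : ↥(alternatingGroup (Fin 5))) g := by
  have hg' : orderOf (g : Perm (Fin 5)) = 2 := by rw [Subgroup.orderOf_coe]; exact hg
  have h1 : (g : Perm (Fin 5)) ≠ 1 := by
    intro h
    rw [h, orderOf_one] at hg'
    omega
  have h2 : ∀ n, n ∈ cycleType (g : Perm (Fin 5)) → n = 2 := by
    intro n hn
    have hd : n ∣ 2 := by rw [← hg']; exact dvd_of_mem_cycleType hn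
    have h2 : 2 ≤ n := two_le_of_mem_cycleType hn
    exact le_antisymm (Nat.le_of_dvd (by norm_num) hd) h2
  have hc := alternatingGroup.isConj_swap_mul_swap_of_cycleType_two g.2 h1 h2
  obtain ⟨c, hc⟩ := isConj_iff.mp hc
  rw [isConj_iff]
  by_cases hs : sign c = 1
  · refine ⟨⟨c, mem_alternatingGroup.mpr hs⟩, ?_⟩
    apply Subtype.ext
    exact hc
  · have hs' : sign c = -1 := (Int.units_eq_one_or (sign c)).resolve_left hs
    refine ⟨⟨c * swap 0 4, ?_⟩, ?_⟩
    · rw [mem_alternatingGroup, Perm.sign_mul, hs', sign_swap (by decide)]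
      rfl
    · apply Subtype.ext
      show c * swap 0 4 * (swap 0 4 * swap 1 3) * (c * swap 0 4)⁻¹ = (g : Perm (Fin 5))
      rw [← hc]
      have hcomm : swap (0 : Fin 5) 4 * (swap 0 4 * swap 1 3) * (swap 0 4)⁻¹ = swap 0 4 * swap 1 3 := by
        decide
      calc c * swap 0 4 * (swap 0 4 * swap 1 3) * (c * swap 0 4)⁻¹
          = c * (swap (0 : Fin 5) 4 * (swap 0 4 * swap 1 3) * (swap 0 4)⁻¹) * c⁻¹ := by group
        _ = c * (swap 0 4 * swap 1 3) * c⁻¹ := by rw [hcomm]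

open Equiv Equiv.Perm in
theorem card_A5_involution_classes (K : Subgroup (Perm (Fin 5))) (hK : K = alternatingGroup (Fin 5)) :
    Nat.card {C : ConjClasses ↥K // ∃ g : ↥K, ConjClasses.mk g = C ∧ orderOf g = 2} = 1 := by
  subst hK
  rw [Nat.card_eq_one_iff_unique]
  constructor
  · constructor
    rintro ⟨C1, g1, rfl, h1⟩ ⟨C2, g2, rfl, h2⟩
    apply Subtype.ext
    show ConjClasses.mk g1 = ConjClasses.mk g2
    rw [ConjClasses.mk_eq_mk_iff_isConj]
    exact (isConj_A5 g1 h1).symm.trans (isConj_A5 g2 h2)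
  · refine ⟨⟨ConjClasses.mk ⟨swap 0 4 * swap 1 3, g0_mem⟩, ⟨swap 0 4 * swap 1 3, g0_mem⟩, rfl, ?_⟩⟩
    have : Fact (Nat.Prime 2) := ⟨Nat.prime_two⟩
    apply orderOf_eq_prime
    · apply Subtype.ext
      decide
    · intro h
      have := congrArg Subtype.val h
      revert this
      decide

end Transfer

section

variable {F : Type*} [Field F] [Fintype F] [CharP F 2]

/-- The exceptional case `O⁻₄(2) ≅ S₅`. -/
theorem caseB (hF2 : Fintype.card F = 2) (a b : F)
    (hab : ∀ z₁ z₂ : F, z₁ ^ 2 + a * z₁ * z₂ + b * z₂ ^ 2 = 0 → z₁ = 0 ∧ z₂ = 0) :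
    Nat.card {C : ConjClasses ↥(Cfsg.Omega F (Cfsg.quadFormMinus 1 F a b)) //
      ∃ g : ↥(Cfsg.Omega F (Cfsg.quadFormMinus 1 F a b)), ConjClasses.mk g = C ∧ orderOf g = 2} = 1 := by
  classical
  have h01 : ∀ x : F, x = 0 ∨ x = 1 := by
    intro x
    by_contra hcon
    push Not at hcon
    have h3 : ({0, 1, x} : Finset F).card ≤ Fintype.card F := Finset.card_le_univ _
    rw [Finset.card_insert_of_notMem, Finset.card_insert_of_notMem, Finset.card_singleton, hF2] at h3
    · omega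
    · rw [Finset.mem_singleton]
      exact fun h => hcon.2 h.symm
    · rw [Finset.mem_insert, Finset.mem_singleton]
      rintro (h | h)
      · exact zero_ne_one h
      · exact hcon.1 h.symm
  have ha1 : a = 1 := (h01 a).resolve_left (a_ne_zero a b hab)
  have hb1 : b = 1 := by
    rcases h01 b with h | h
    · exfalso
      have := hab 0 1
      rw [h] at this
      simp at this
    · exact h
  subst ha1 hb1
  obtain ⟨e⟩ := Cfsg.Agent.S0824.result hF2
  show Nat.card {C : ConjClasses ↥(commutator ↥(Cfsg.isometryGroup F (Cfsg.quadFormMinus 1 F 1 1))) //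
      ∃ g : ↥(commutator ↥(Cfsg.isometryGroup F (Cfsg.quadFormMinus 1 F 1 1))),
        ConjClasses.mk g = C ∧ orderOf g = 2} = 1
  rw [card_commutator_involution_classes_congr e]
  exact card_A5_involution_classes _ (alternatingGroup.commutator_perm_eq (by simp))

end

/-- Number of conjugacy classes of involutions in Ω⁻_2m(F) (the commutator subgroup of the orthogonal group of an elliptic quadratic form, Σ_(i<m−1) x_i y_i plus an anisotropic binary form) over a finite field F of characteristic two, m ≥ 1: the involutions of Ω are those with s = rank(t − 1) even, one O-class for each even s with 2 ≤ s ≤ m on which v ↦ f(v, tv) is not identically zero and one for each even s with 2 ≤ s < m on which it is zero (f the polar form; in characteristic 2, f(v, tv) = Q(v + tv)), none of which splits in Ω; in all ⌊m/2⌋ + ⌊(m − 1)/2⌋. -/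
theorem result {F : Type*} [Field F] [Fintype F] [CharP F 2] {m : ℕ} (hm : 1 ≤ m) (a b : F) (hab : ∀ z₁ z₂ : F, z₁ ^ 2 + a * z₁ * z₂ + b * z₂ ^ 2 = 0 → z₁ = 0 ∧ z₂ = 0) : Nat.card {C : ConjClasses ↥(Cfsg.Omega F (Cfsg.quadFormMinus (m - 1) F a b)) // ∃ g : ↥(Cfsg.Omega F (Cfsg.quadFormMinus (m - 1) F a b)), ConjClasses.mk g = C ∧ orderOf g = 2} = m / 2 + (m - 1) / 2 := by
  classical
  by_cases hex : Fintype.card F = 2 ∧ m = 2
  · obtain ⟨hF2, rfl⟩ := hex
    exact caseB hF2 a b hab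
  · apply caseA hm a b hab
    by_cases hF2 : Fintype.card F = 2
    · right
      rw [Fintype.card_sum, Fintype.card_sum, Fintype.card_fin, Fintype.card_fin]
      have : m ≠ 2 := fun h => hex ⟨hF2, h⟩
      omega
    · left
      intro x y
      have h3 : 2 < Fintype.card F := by
        have : 1 < Fintype.card F := Fintype.one_lt_card
        omega
      have hlt : ({x, y} : Finset F).card < (Finset.univ : Finset F).card := by
        rw [Finset.card_univ]
        exact lt_of_le_of_lt Finset.card_le_two h3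
      obtain ⟨z, _, hz⟩ := Finset.exists_mem_notMem_of_card_lt_card hlt
      rw [Finset.mem_insert, Finset.mem_singleton] at hz
      push Not at hz
      exact ⟨z, hz.1, hz.2⟩

end Cfsg.Agent.S2598
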