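import Cfsg.Statements.S2599
-- import your own Cfsg.Agent.* helpers here

set_option autoImplicit false
open Cfsg

namespace Cfsg.Agent.S2599

/-- An irreducible invariant subspace of a semisimple isometry is non-degenerate or totally singular: let Q be a quadratic form on F^n (F finite of characteristic p) with non-degenerate polar form f, x an isometry of Q of order prime to p, and U a non-zero x-invariant subspace containing no x-invariant subspace other than 0 and U. Then U meets its f-orthogonal trivially, or Q vanishes on U, or p = 2, U is a line spanned by a non-singular vector and x fixes U pointwise. -/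
theorem result {F : Type*} [Field F] [Fintype F] {p : ℕ} [Fact p.Prime] [CharP F p] {n : ℕ} (Q : QuadraticForm F (Fin n → F)) (hQ : (QuadraticMap.polarBilin Q).Nondegenerate) (x : ↥(Cfsg.isometryGroup F ⇑Q)) (hx : (orderOf x).Coprime p) (U : Submodule F (Fin n → F)) (hU0 : U ≠ ⊥) (hUx : ∀ u ∈ U, ((x : Matrix.GeneralLinearGroup (Fin n) F) : Matrix (Fin n) (Fin n) F).mulVec u ∈ U) (hirr : ∀ W : Submodule F (Fin n → F), W ≤ U → (∀ w ∈ W, ((x : Matrix.GeneralLinearGroup (Fin n) F) : Matrix (Fin n) (Fin n) F).mulVec w ∈ W) → W = ⊥ ∨ W = U) : U ⊓ LinearMap.BilinForm.orthogonal (QuadraticMap.polarBilin Q) U = ⊥ ∨ (∀ u ∈ U, Q u = 0) ∨ (p = 2 ∧ Module.finrank F U = 1 ∧ (∃ u ∈ U, Q u ≠ 0) ∧ ∀ u ∈ U, ((x : Matrix.GeneralLinearGroup (Fin n) F) : Matrix (Fin n) (Fin n) F).mulVec u = u) := by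
  classical
  set M : Matrix (Fin n) (Fin n) F := ((x : Matrix.GeneralLinearGroup (Fin n) F) : Matrix (Fin n) (Fin n) F) with hM
  -- x preserves Q
  have hiso : ∀ u, Q (M.mulVec u) = Q u := fun u => x.2 u u
  -- x preserves the polar form
  have hpol : ∀ u v, QuadraticMap.polar (⇑Q) (M.mulVec u) (M.mulVec v) = QuadraticMap.polar (⇑Q) u v := by
    intro u v
    unfold QuadraticMap.polar
    rw [← Matrix.mulVec_add, hiso, hiso, hiso]
  -- M is injective on vectors
  have hMinj : Function.Injective (M.mulVec) := by
    have hdet : IsUnit M.det := by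
      have := Matrix.GeneralLinearGroup.det_ne_zero (x : Matrix.GeneralLinearGroup (Fin n) F)
      exact (isUnit_iff_ne_zero.mpr this)
    exact Matrix.mulVec_injective_of_isUnit ((Matrix.isUnit_iff_isUnit_det M).mpr hdet)
  -- the restriction of M to U is surjective
  have hsurj : ∀ u ∈ U, ∃ u' ∈ U, M.mulVec u' = u := by
    let f : U →ₗ[F] U := (Matrix.mulVecLin M).restrict (p := U) (q := U) (fun u hu => hUx u hu)
    have hfinj : Function.Injective f := by
      intro a b hab
      apply Subtype.ext
      apply hMinj
      have := congrArg Subtype.val hab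
      exact this
    have hfsurj : Function.Surjective f := LinearMap.injective_iff_surjective.mp hfinj
    intro u hu
    obtain ⟨u', hu'⟩ := hfsurj ⟨u, hu⟩
    refine ⟨u'.1, u'.2, ?_⟩
    have := congrArg Subtype.val hu'
    exact this
  -- the radical of U
  set B := QuadraticMap.polarBilin Q with hB
  have hWinv : ∀ w ∈ U ⊓ LinearMap.BilinForm.orthogonal B U, M.mulVec w ∈ U ⊓ LinearMap.BilinForm.orthogonal B U := by
    intro w hw
    refine ⟨hUx w hw.1, ?_⟩
    show M.mulVec w ∈ LinearMap.BilinForm.orthogonal B U
    rw [LinearMap.BilinForm.mem_orthogonal_iff]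
    intro u hu
    obtain ⟨u', hu'U, rfl⟩ := hsurj u hu
    have h1 := (LinearMap.BilinForm.mem_orthogonal_iff.mp hw.2) u' hu'U
    rw [hB, QuadraticMap.polarBilin_apply_apply] at h1 ⊢
    rw [hpol]; exact h1
  rcases hirr _ inf_le_left hWinv with h | h
  · exact Or.inl h
  · right
    -- U is totally isotropic
    have hiso' : ∀ u ∈ U, ∀ v ∈ U, QuadraticMap.polar (⇑Q) u v = 0 := by
      intro u hu v hv
      have hv' : v ∈ U ⊓ LinearMap.BilinForm.orthogonal B U := by rw [h]; exact hv
      have := (LinearMap.BilinForm.mem_orthogonal_iff.mp hv'.2) u hu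
      rwa [hB, QuadraticMap.polarBilin_apply_apply] at this
    have hadd : ∀ u ∈ U, ∀ v ∈ U, Q (u + v) = Q u + Q v := by
      intro u hu v hv
      have := hiso' u hu v hv
      unfold QuadraticMap.polar at this
      linear_combination this
    by_cases hp : p = 2
    · subst hp
      -- the singular vectors of U form an invariant subspace
      let W : Submodule F (Fin n → F) :=
        { carrier := {u | u ∈ U ∧ Q u = 0}
          add_mem' := by
            rintro a b ⟨ha, ha0⟩ ⟨hb, hb0⟩
            exact ⟨U.add_mem ha hb, by rw [hadd a ha b hb, ha0, hb0, add_zero]⟩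
          zero_mem' := ⟨U.zero_mem, by simp⟩
          smul_mem' := by
            rintro c a ⟨ha, ha0⟩
            exact ⟨U.smul_mem c ha, by rw [QuadraticMap.map_smul, ha0, smul_zero]⟩ }
      have hWU : W ≤ U := fun u hu => hu.1
      have hWinv' : ∀ w ∈ W, M.mulVec w ∈ W := fun w hw => ⟨hUx w hw.1, by rw [hiso]; exact hw.2⟩
      rcases hirr W hWU hWinv' with hW | hW
      · right
        -- a nonzero vector of U
        obtain ⟨u0, hu0U, hu0⟩ := (Submodule.ne_bot_iff U).mp hU0
        have hQu0 : Q u0 ≠ 0 := by
          intro h0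
          have : u0 ∈ W := ⟨hu0U, h0⟩
          rw [hW] at this
          exact hu0 ((Submodule.mem_bot F).mp this)
        have hchar : ringChar F = 2 := ringChar.eq F 2
        have hspan : ∀ v ∈ U, ∃ c : F, c • u0 = v := by
          intro v hv
          obtain ⟨c, hc⟩ := FiniteField.isSquare_of_char_two hchar (Q v / Q u0)
          refine ⟨c, ?_⟩
          have hmem : v + c • u0 ∈ W := by
            refine ⟨U.add_mem hv (U.smul_mem c hu0U), ?_⟩
            rw [hadd v hv _ (U.smul_mem c hu0U), QuadraticMap.map_smul, ← hc, smul_eq_mul,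
              div_mul_cancel₀ _ hQu0]
            exact CharTwo.add_self_eq_zero _
          rw [hW, Submodule.mem_bot] at hmem
          have : v = - (c • u0) := eq_neg_of_add_eq_zero_left hmem
          rw [this, ← neg_smul, CharTwo.neg_eq]
        refine ⟨rfl, ?_, ⟨u0, hu0U, hQu0⟩, ?_⟩
        · rw [finrank_eq_one_iff']
          refine ⟨⟨u0, hu0U⟩, ?_, ?_⟩
          · intro h0; exact hu0 (congrArg Subtype.val h0)
          · intro w
            obtain ⟨c, hc⟩ := hspan w.1 w.2
            exact ⟨c, Subtype.ext hc⟩
        · -- x fixes U pointwise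
          obtain ⟨l, hl⟩ := hspan _ (hUx u0 hu0U)
          have hl2 : l * l = 1 := by
            have h1 := hiso u0
            rw [← hl, QuadraticMap.map_smul, smul_eq_mul] at h1
            exact mul_right_cancel₀ hQu0 (by rw [h1, one_mul])
          have hl1 : l = 1 := by
            have : (l + 1) * (l + 1) = 0 := by
              have h2 : (l + 1) * (l + 1) = l * l + (l + l) + 1 := by ring
              rw [h2, hl2, CharTwo.add_self_eq_zero, add_zero, CharTwo.add_self_eq_zero]
            have h3 : l + 1 = 0 := mul_self_eq_zero.mp this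
            have h4 : l = -1 := eq_neg_of_add_eq_zero_left h3
            rw [h4, CharTwo.neg_eq]
          intro u hu
          obtain ⟨c, rfl⟩ := hspan u hu
          rw [Matrix.mulVec_smul, ← hl, hl1, one_smul]
      · left
        intro u hu
        have : u ∈ W := by rw [hW]; exact hu
        exact this.2
    · left
      intro u hu
      have h2 : (2 : F) ≠ 0 := by
        intro h2
        have : (p : ℕ) ∣ 2 := (CharP.cast_eq_zero_iff F p 2).mp (by exact_mod_cast h2)
        have hp2 : p = 2 := (Nat.prime_dvd_prime_iff_eq (Fact.out) Nat.prime_two).mp this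
        exact hp hp2
      have h1 := hiso' u hu u hu
      rw [QuadraticMap.polar_self, two_smul] at h1
      have : (2 : F) * Q u = 0 := by rw [two_mul]; exact h1
      exact (mul_eq_zero.mp this).resolve_left h2

end Cfsg.Agent.S2599
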