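import Cfsg.Statements.S2607
import Cfsg.Agent.Lib.Helper36.Tri.AutCard8
import Cfsg.Agent.Lib.Helper36.Tri.OutFacts
import Cfsg.Agent.Lib.Helper36.Tri.FieldPartG
import Cfsg.Agent.Lib.Helper36.Tri.OutPlusTwo
-- import your own Cfsg.Agent.* helpers here

set_option autoImplicit false
open Cfsg

namespace Cfsg.Agent.S2607

open Cfsg.Agent.Lib.Helper36 Cfsg.Agent.Lib.Helper44 Cfsg.Agent.Lib.Helper36.AutO
  Cfsg.Agent.Lib.Helper36.Tri in
/-- the case `m = 4` -/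
theorem out_plus8_two {F : Type*} [Field F] [Fintype F] {f : ℕ} (hf : 1 ≤ f)
    (hF : Fintype.card F = 2 ^ f) :
    Nonempty (Cfsg.Out (Cfsg.POmega F (Cfsg.quadFormPlus 4 F)) ≃*
      Equiv.Perm (Fin 3) × Multiplicative (ZMod f)) := by
  classical
  have : Fact (Nat.Prime 2) := ⟨Nat.prime_two⟩
  have hchar : CharP F 2 := charP_of_card_pow hf hF
  have h20 : (2 : F) = 0 := CharTwo.two_eq_zero
  have hcard : Fintype.card (Fin 4 ⊕ Fin 4) = 8 := by
    rw [Fintype.card_sum, Fintype.card_fin]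
  have h7 : 7 ≤ Fintype.card (Fin 4 ⊕ Fin 4) := by rw [hcard]; norm_num
  have hQ : (QuadraticMap.polarBilin (QO F)).Nondegenerate := QO_nondeg
  change Nonempty (Cfsg.Out (Cfsg.POmega F (⇑(QO F))) ≃* _)
  have hσ : ∀ σ : F ≃+* F, Cfsg.IsSemisimilarityPair (⇑(QO F)) (1 : GL (Fin 4 ⊕ Fin 4) F) σ :=
    fun σ => hypQF_pair_one 4 σ
  have hfinA : Finite (MulAut (Cfsg.POmega F (⇑(QO F)))) :=
    Finite.of_injective (fun e : MulAut (Cfsg.POmega F (⇑(QO F))) =>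
      (e : Cfsg.POmega F (⇑(QO F)) → Cfsg.POmega F (⇑(QO F)))) DFunLike.coe_injective
  obtain ⟨τ, hτ, hcube⟩ := exists_tau (MO F)
  have hτmem : τ ∉ Cfsg.gammaPOmega F (⇑(QO F)) := tau_not_mem τ hτ
  have hτ3 : τ * τ * τ = 1 := by
    apply MulEquiv.ext
    intro y
    exact hcube y
  obtain ⟨γ, hγmem, hγτ⟩ := exists_gamma_mat (F := F)
  have hN : Cfsg.Inn (Cfsg.POmega F (⇑(QO F))) ≤ Cfsg.gammaPOmega F (⇑(QO F)) :=
    le_trans (le_trans (Inn_le_psoAut (⇑(QO F))) (psoAut_le_pgoAut (⇑(QO F))))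
      (pgoAut_le_gamma (QO F))
  have hker := ker_fieldPartG (QO F) hQ h7
  have hNk : (Cfsg.Inn (Cfsg.POmega F (⇑(QO F)))).subgroupOf (Cfsg.gammaPOmega F (⇑(QO F))) ≤
      (fieldPartG (QO F) hQ h7).ker := by
    rw [hker]
    intro x hx
    rw [Subgroup.mem_subgroupOf] at hx ⊢
    exact (le_trans (Inn_le_psoAut (⇑(QO F))) (psoAut_le_pgoAut (⇑(QO F)))) hx
  have hrel : ((Cfsg.Inn (Cfsg.POmega F (⇑(QO F)))).subgroupOf
      (Cfsg.gammaPOmega F (⇑(QO F)))).relIndex (fieldPartG (QO F) hQ h7).ker = 2 := by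
    rw [hker]
    have h1 := relIndex_Inn_pgoAut_two (QO F) hQ h7 h20
    rw [← h1]
    exact Subgroup.relIndex_subgroupOf (pgoAut_le_gamma (QO F))
  obtain ⟨e⟩ := out_equiv_S3_prod (Cfsg.Inn (Cfsg.POmega F (⇑(QO F))))
    (Cfsg.gammaPOmega F (⇑(QO F))) (index_gamma_eq_three (F := F)) hN
    (fieldPartG (QO F) hQ h7) (fieldSectionG (QO F) hσ)
    (fieldPartG_fieldSectionG (QO F) hQ h7 hσ) hNk hrel τ hτ3 hτmem
    ⟨γ, pgoAut_le_gamma (QO F) hγmem⟩
    (by rw [hker, Subgroup.mem_subgroupOf]; exact hγmem) (hγτ τ hτ)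
    (fun σ => frob_comm_tau σ τ hτ)
  obtain ⟨e₁⟩ := ringAut_equiv_zmod (F := F) hf hF
  exact ⟨e.trans ((MulEquiv.refl _).prodCongr e₁)⟩

/-- Outer automorphism group of PΩ⁺_2m(q), q = 2^f: for m ≥ 5 it is the direct product of a group of order 2 (graph automorphism, an orthogonal transvection) and a cyclic group of order f (field automorphisms); for m = 4 triality enlarges it to S_3 × C_f. -/
theorem result {F : Type*} [Field F] [Fintype F] {f m : ℕ} (hf : 1 ≤ f) (hF : Fintype.card F = 2 ^ f) (hm : 4 ≤ m) : if m = 4 then Nonempty (Cfsg.Out (Cfsg.POmega F (Cfsg.quadFormPlus m F)) ≃* Equiv.Perm (Fin 3) × Multiplicative (ZMod f)) else Nonempty (Cfsg.Out (Cfsg.POmega F (Cfsg.quadFormPlus m F)) ≃* Multiplicative (ZMod 2 × ZMod f)) := by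
  by_cases h4 : m = 4
  · subst h4
    rw [if_pos rfl]
    exact out_plus8_two hf hF
  · rw [if_neg h4]
    exact Cfsg.Agent.Lib.Helper36.Tri.out_plus_two_ge5 hf hF (by omega)

end Cfsg.Agent.S2607
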