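import Cfsg.Statements.S2610
import Cfsg.Agent.Lib.Helper44.SpinorCrit
-- import your own Cfsg.Agent.* helpers here

set_option autoImplicit false
open Cfsg

namespace Cfsg.Agent.S2610

open Module Cfsg.Agent.Lib.Helper44

/-- Gram determinants in two bases differ by a nonzero square. -/
theorem gram_change' {F V ι κ : Type*} [Field F] [AddCommGroup V] [Module F V]
    [Fintype ι] [DecidableEq ι] [Fintype κ] [DecidableEq κ]
    (B : LinearMap.BilinForm F V) (b : Basis ι F V) (c : Basis κ F V) :
    ∃ s : F, s ≠ 0 ∧ (LinearMap.BilinForm.toMatrix c B).det = s * s * (LinearMap.BilinForm.toMatrix b B).det := by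
  let e : κ ≃ ι := c.indexEquiv b
  let c' : Basis ι F V := c.reindex e
  have h1 : LinearMap.BilinForm.toMatrix c B = (LinearMap.BilinForm.toMatrix c' B).submatrix e e := by
    ext i j
    simp [LinearMap.BilinForm.toMatrix_apply, c']
  have h2 := LinearMap.BilinForm.toMatrix_mul_basis_toMatrix (b := b) c' B
  refine ⟨(b.toMatrix c').det, ?_, ?_⟩
  · have : IsUnit (b.toMatrix c').det := by
      rw [← Matrix.isUnit_iff_isUnit_det]
      have := Module.Basis.invertibleToMatrix b c'
      exact isUnit_of_invertible _
    exact this.ne_zero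
  · rw [h1, Matrix.det_submatrix_equiv_self, ← h2, Matrix.det_mul, Matrix.det_mul, Matrix.det_transpose]
    ring

section wss
variable {F : Type*} [Field F] {κ : Type} [Fintype κ] [DecidableEq κ] (w : κ → Fˣ)

theorem wss_single (i : κ) :
    QuadraticMap.weightedSumSquares F w (Pi.single i (1 : F)) = (w i : F) := by
  rw [QuadraticMap.weightedSumSquares_apply]
  rw [Finset.sum_eq_single i]
  · simp [Units.smul_def]
  · intro j _ hj
    simp [hj]
  · intro h; exact absurd (Finset.mem_univ i) h

theorem wss_polar_single (i : κ) (x : κ → F) :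
    QuadraticMap.polar (⇑(QuadraticMap.weightedSumSquares F w)) (Pi.single i (1 : F)) x =
      2 * (w i : F) * x i := by
  unfold QuadraticMap.polar
  rw [wss_single, QuadraticMap.weightedSumSquares_apply, QuadraticMap.weightedSumSquares_apply,
    sub_right_comm, ← Finset.sum_sub_distrib]
  have h1 : ∀ j : κ, w j • (((Pi.single i (1 : F) : κ → F) + x) j *
      ((Pi.single i (1 : F) : κ → F) + x) j) -
      w j • (x j * x j) = if j = i then (w i : F) + 2 * (w i : F) * x i else 0 := by
    intro j
    by_cases hj : j = i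
    · subst hj
      simp [Units.smul_def]
      ring
    · simp [hj]
  rw [Finset.sum_congr rfl (fun j _ => h1 j), Finset.sum_ite_eq']
  simp

theorem prod_refl_single_mulVec (l : List κ) (hl : l.Nodup) (x : κ → F) :
    ((((l.map (fun i => reflElt (QuadraticMap.weightedSumSquares F w) (Pi.single i (1 : F)))).prod :
      ↥(Cfsg.isometryGroup F (⇑(QuadraticMap.weightedSumSquares F w)))) : GL κ F) :
        Matrix κ κ F).mulVec x = fun k => if k ∈ l then - x k else x k := by
  induction l generalizing x with
  | nil => simp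
  | cons i l ih =>
    have hi : i ∉ l := (List.nodup_cons.1 hl).1
    rw [List.map_cons, List.prod_cons, Subgroup.coe_mul, Units.val_mul, ← Matrix.mulVec_mulVec,
      ih (List.nodup_cons.1 hl).2]
    have hne : QuadraticMap.weightedSumSquares F w (Pi.single i (1 : F)) ≠ 0 := by
      rw [wss_single]; exact Units.ne_zero _
    set y : κ → F := fun k => if k ∈ l then - x k else x k with hy
    have hyi : y i = x i := by rw [hy]; simp [hi]
    rw [reflElt_mulVec _ _ hne, wss_single, wss_polar_single, hyi]
    have hw : (w i : F) ≠ 0 := Units.ne_zero _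
    ext k
    by_cases hk : k = i
    · subst hk
      simp only [Pi.sub_apply, Pi.smul_apply, Pi.single_eq_same, smul_eq_mul, hyi,
        List.mem_cons, true_or, if_true]
      field_simp
      ring
    · have e1 : (Pi.single i (1 : F) : κ → F) k = 0 := by simp [hk]
      simp only [Pi.sub_apply, Pi.smul_apply, e1, smul_eq_mul, mul_zero, sub_zero, List.mem_cons,
        hk, false_or]
      rfl

end wss

theorem main {F : Type*} [Field F] [Fintype F] (h2 : (2 : F) ≠ 0) {n : ℕ} (hn : 2 ≤ n) (he : Even n)
    (Q : QuadraticForm F (Fin n → F)) (hQ : (QuadraticMap.polarBilin Q).Nondegenerate) :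
    (∃ g : ↥(Cfsg.isometryGroup F ⇑Q), g ∈ Cfsg.Omega F ⇑Q ∧
      ((g : GL (Fin n) F) : Matrix (Fin n) (Fin n) F) = -1) ↔
      IsSquare (Matrix.of (fun i j : Fin n =>
        QuadraticMap.polar ⇑Q (Pi.single i 1) (Pi.single j 1))).det := by
  classical
  let _ : Invertible (2 : F) := invertibleOfNonzero h2
  have hsep : (QuadraticMap.associated (R := F) Q).SeparatingLeft := by
    intro x hx
    apply hQ.1 x
    intro y
    have h3 := hx y
    rw [← QuadraticMap.two_nsmul_associated (S := F) Q]
    show (2 • (QuadraticMap.associatedHom F Q)) x y = 0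
    rw [LinearMap.smul_apply, LinearMap.smul_apply]
    have h4 : (QuadraticMap.associatedHom F Q) x y = 0 := h3
    rw [h4, smul_zero]
  obtain ⟨w, ⟨T⟩⟩ := QuadraticForm.equivalent_weightedSumSquares_units_of_nondegenerate' Q hsep
  have hcardκ : Fintype.card (Fin (Module.finrank F (Fin n → F))) = n := by
    rw [Fintype.card_fin, Module.finrank_fintype_fun_eq_card, Fintype.card_fin]
  have hT : ∀ v, (QuadraticMap.weightedSumSquares F w) (T.toLinearEquiv v) = Q v := T.map_app
  have hQs : ∀ p : Fin (Module.finrank F (Fin n → F)) → F,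
      Q (T.toLinearEquiv.symm p) = (QuadraticMap.weightedSumSquares F w) p := by
    intro p
    rw [← hT, LinearEquiv.apply_symm_apply]
  set l : List (Fin (Module.finrank F (Fin n → F))) := (Finset.univ : Finset _).toList with hldef
  have hl : l.Nodup := Finset.nodup_toList _
  have hlmem : ∀ k, k ∈ l := fun k => Finset.mem_toList.2 (Finset.mem_univ k)
  have hllen : l.length = n := by
    rw [hldef, Finset.length_toList, Finset.card_univ, hcardκ]
  set vs : List (Fin n → F) := l.map (fun i => T.toLinearEquiv.symm (Pi.single i 1)) with hvsdef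
  have hvs : ∀ v ∈ vs, Q v ≠ 0 := by
    intro v hv
    obtain ⟨i, -, rfl⟩ := List.mem_map.1 hv
    rw [hQs, wss_single]
    exact Units.ne_zero _
  have hcrit := reflElt_list_prod_mem_Omega_iff Q h2 (by rw [Fintype.card_fin]; exact hn) hQ vs hvs
  have hg₀ : ((((vs.map (reflElt Q)).prod : ↥(Cfsg.isometryGroup F ⇑Q)) : GL (Fin n) F) :
      Matrix (Fin n) (Fin n) F) = -1 := by
    apply matrix_ext_mulVec
    intro x
    have e1 : conjIso T.toLinearEquiv (⇑Q) (⇑(QuadraticMap.weightedSumSquares F w)) hT
        (vs.map (reflElt Q)).prod =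
        (l.map (fun i => reflElt (QuadraticMap.weightedSumSquares F w) (Pi.single i (1 : F)))).prod := by
      rw [map_list_prod, hvsdef, List.map_map, List.map_map]
      congr 1
      apply List.map_congr_left
      intro i _
      show conjIso T.toLinearEquiv (⇑Q) (⇑(QuadraticMap.weightedSumSquares F w)) hT
        (reflElt Q (T.toLinearEquiv.symm (Pi.single i (1 : F)))) = _
      rw [conjIso_reflElt T.toLinearEquiv Q (QuadraticMap.weightedSumSquares F w) hT,
        LinearEquiv.apply_symm_apply]
    have e2 := conjIso_mulVec T.toLinearEquiv (⇑Q) (⇑(QuadraticMap.weightedSumSquares F w)) hT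
      (vs.map (reflElt Q)).prod x
    rw [e1, prod_refl_single_mulVec w l hl] at e2
    have e3 : T.toLinearEquiv (((((vs.map (reflElt Q)).prod : ↥(Cfsg.isometryGroup F ⇑Q)) :
        GL (Fin n) F) : Matrix (Fin n) (Fin n) F).mulVec x) = T.toLinearEquiv (-x) := by
      rw [← e2, map_neg]
      ext k
      simp [hlmem k]
    rw [T.toLinearEquiv.injective e3, Matrix.neg_mulVec, Matrix.one_mulVec]
  have hprod : (vs.map (fun v => Q v)).prod = ∏ i, (w i : F) := by
    rw [hvsdef, List.map_map]
    have : ((fun v => Q v) ∘ fun i => T.toLinearEquiv.symm (Pi.single i (1 : F))) =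
        fun i => (w i : F) := by
      funext i
      simp only [Function.comp_apply]
      rw [hQs, wss_single]
    rw [this, hldef, Finset.prod_map_toList]
  have hlen : vs.length = n := by rw [hvsdef, List.length_map, hllen]
  rw [hlen, hprod] at hcrit
  -- Gram determinants
  have hgram : IsSquare (Matrix.of (fun i j : Fin n =>
      QuadraticMap.polar ⇑Q (Pi.single i 1) (Pi.single j 1))).det ↔ IsSquare (∏ i, (w i : F)) := by
    have hb : LinearMap.BilinForm.toMatrix (Pi.basisFun F (Fin n)) (QuadraticMap.polarBilin Q) =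
        Matrix.of (fun i j : Fin n =>
          QuadraticMap.polar ⇑Q (Pi.single i 1) (Pi.single j 1)) := by
      ext i j
      rw [LinearMap.BilinForm.toMatrix_apply, Pi.basisFun_apply, Pi.basisFun_apply]
      rfl
    have hpol : ∀ p q : Fin (Module.finrank F (Fin n → F)) → F,
        QuadraticMap.polar ⇑Q (T.toLinearEquiv.symm p) (T.toLinearEquiv.symm q) =
          QuadraticMap.polar (⇑(QuadraticMap.weightedSumSquares F w)) p q := by
      intro p q
      unfold QuadraticMap.polar
      rw [← map_add, hQs, hQs, hQs]
    have hc : LinearMap.BilinForm.toMatrix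
        ((Pi.basisFun F (Fin (Module.finrank F (Fin n → F)))).map T.toLinearEquiv.symm)
        (QuadraticMap.polarBilin Q) = Matrix.diagonal (fun i => 2 * (w i : F)) := by
      ext i j
      rw [LinearMap.BilinForm.toMatrix_apply, Module.Basis.map_apply, Module.Basis.map_apply,
        Pi.basisFun_apply, Pi.basisFun_apply]
      show QuadraticMap.polar ⇑Q (T.toLinearEquiv.symm (Pi.single i 1))
        (T.toLinearEquiv.symm (Pi.single j 1)) = _
      rw [hpol, wss_polar_single, Matrix.diagonal_apply]
      by_cases hij : i = j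
      · subst hij; simp
      · simp [hij]
    obtain ⟨s, hs0, hs⟩ := gram_change' (QuadraticMap.polarBilin Q) (Pi.basisFun F (Fin n))
      ((Pi.basisFun F (Fin (Module.finrank F (Fin n → F)))).map T.toLinearEquiv.symm)
    rw [hb, hc, Matrix.det_diagonal, Finset.prod_mul_distrib, Finset.prod_const, Finset.card_univ,
      hcardκ] at hs
    obtain ⟨m, hm⟩ := he
    have h2m : (2 : F) ^ m ≠ 0 := pow_ne_zero _ h2
    have h2n : (2 : F) ^ n = 2 ^ m * 2 ^ m := by rw [hm, pow_add]
    rw [h2n] at hs
    constructor
    · rintro ⟨r, hr⟩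
      refine ⟨s * r / 2 ^ m, ?_⟩
      rw [hr] at hs
      field_simp
      linear_combination hs
    · rintro ⟨r, hr⟩
      refine ⟨2 ^ m * r / s, ?_⟩
      rw [hr] at hs
      field_simp
      linear_combination -hs
  rw [hgram]
  constructor
  · rintro ⟨g, hgmem, hgmat⟩
    have : g = (vs.map (reflElt Q)).prod := by
      apply Subtype.ext
      apply Units.ext
      rw [hgmat, hg₀]
    rw [this] at hgmem
    exact (hcrit.1 hgmem).2
  · intro hsq
    exact ⟨(vs.map (reflElt Q)).prod, hcrit.2 ⟨he, hsq⟩, hg₀⟩


/-- For a quadratic form Q on F^n with non-degenerate polar form, F finite of odd order and n ≥ 2 even, the isometry −1 lies in Ω (the commutator subgroup of the orthogonal group) if and only if the discriminant of Q (the determinant of the Gram matrix of its polar form) is a square. -/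
theorem result {F : Type*} [Field F] [Fintype F] (h2 : (2 : F) ≠ 0) {n : ℕ} (hn : 2 ≤ n) (he : Even n) (Q : QuadraticForm F (Fin n → F)) (hQ : (QuadraticMap.polarBilin Q).Nondegenerate) : (∃ g : ↥(Cfsg.isometryGroup F ⇑Q), g ∈ Cfsg.Omega F ⇑Q ∧ ((g : Matrix.GeneralLinearGroup (Fin n) F) : Matrix (Fin n) (Fin n) F) = -1) ↔ IsSquare (Matrix.of (fun i j : Fin n => QuadraticMap.polar ⇑Q (Pi.single i 1) (Pi.single j 1))).det := by
  exact main h2 hn he Q hQ

end Cfsg.Agent.S2610
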