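import Cfsg.Statements.S2612
import Cfsg.Agent.Lib.Helper94.MaxSingularPlus
import Cfsg.Agent.S0786

set_option autoImplicit false
open Cfsg

namespace Cfsg.Agent.S2612

open scoped commutatorElement

open Cfsg.Agent.Lib.Helper94 in
/-- composition with an involution of the index set, as a linear automorphism -/
noncomputable def permLin {ι : Type} (F : Type*) [Field F] (π : ι → ι) (hπ : Function.Involutive π) :
    (ι → F) ≃ₗ[F] (ι → F) :=
  LinearEquiv.funCongrLeft F F (hπ.toPerm π)

theorem permLin_apply {ι : Type} (F : Type*) [Field F] (π : ι → ι) (hπ : Function.Involutive π)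
    (v : ι → F) (k : ι) : permLin F π hπ v k = v (π k) := rfl

theorem permLin_mul_self {ι : Type} (F : Type*) [Field F] (π : ι → ι) (hπ : Function.Involutive π) :
    permLin F π hπ * permLin F π hπ = 1 := by
  apply LinearEquiv.ext
  intro v
  funext k
  show permLin F π hπ (permLin F π hπ v) k = v k
  rw [permLin_apply, permLin_apply, hπ k]

theorem permLin_inv {ι : Type} (F : Type*) [Field F] (π : ι → ι) (hπ : Function.Involutive π) :
    (permLin F π hπ)⁻¹ = permLin F π hπ :=
  inv_eq_of_mul_eq_one_right (permLin_mul_self F π hπ)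

/-- the shift by `j` on `Fin (j + j)` -/
def shiftFin (j : ℕ) (i : Fin (j + j)) : Fin (j + j) :=
  if h : (i : ℕ) < j then ⟨(i : ℕ) + j, by omega⟩ else ⟨(i : ℕ) - j, by omega⟩

theorem shiftFin_val_of_lt (j : ℕ) (i : Fin (j + j)) (h : (i : ℕ) < j) :
    ((shiftFin j i : Fin (j + j)) : ℕ) = (i : ℕ) + j := by
  unfold shiftFin
  rw [dif_pos h]

theorem shiftFin_val_of_not_lt (j : ℕ) (i : Fin (j + j)) (h : ¬ (i : ℕ) < j) :
    ((shiftFin j i : Fin (j + j)) : ℕ) = (i : ℕ) - j := by
  unfold shiftFin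
  rw [dif_neg h]

theorem shiftFin_involutive (j : ℕ) : Function.Involutive (shiftFin j) := by
  intro i
  apply Fin.ext
  by_cases h : (i : ℕ) < j
  · have h1 := shiftFin_val_of_lt j i h
    have h2 : ¬ ((shiftFin j i : Fin (j + j)) : ℕ) < j := by omega
    rw [shiftFin_val_of_not_lt j _ h2, h1]
    omega
  · have h1 := shiftFin_val_of_not_lt j i h
    have hi := i.2
    have h2 : ((shiftFin j i : Fin (j + j)) : ℕ) < j := by omega
    rw [shiftFin_val_of_lt j _ h2, h1]
    omega

/-- the index map of the block shift -/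
def alphaMap (j : ℕ) : Fin (j + j) ⊕ Fin (j + j) → Fin (j + j) ⊕ Fin (j + j) :=
  Sum.map (shiftFin j) (shiftFin j)

theorem alphaMap_involutive (j : ℕ) : Function.Involutive (alphaMap j) := by
  intro k
  rcases k with i | i
  · show Sum.inl (shiftFin j (shiftFin j i)) = Sum.inl i
    rw [shiftFin_involutive j i]
  · show Sum.inr (shiftFin j (shiftFin j i)) = Sum.inr i
    rw [shiftFin_involutive j i]

/-- the index map of the partial swap on the first half -/
def betaMap (j : ℕ) : Fin (j + j) ⊕ Fin (j + j) → Fin (j + j) ⊕ Fin (j + j)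
  | Sum.inl i => if (i : ℕ) < j then Sum.inr i else Sum.inl i
  | Sum.inr i => if (i : ℕ) < j then Sum.inl i else Sum.inr i

theorem betaMap_involutive (j : ℕ) : Function.Involutive (betaMap j) := by
  intro k
  rcases k with i | i
  · by_cases h : (i : ℕ) < j
    · simp [betaMap, h]
    · simp [betaMap, h]
  · by_cases h : (i : ℕ) < j
    · simp [betaMap, h]
    · simp [betaMap, h]

/-- the key identity of index maps: `β ∘ α ∘ β ∘ α` is the full swap -/
theorem beta_alpha_beta_alpha (j : ℕ) (k : Fin (j + j) ⊕ Fin (j + j)) :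
    betaMap j (alphaMap j (betaMap j (alphaMap j k))) = Sum.swap k := by
  rcases k with i | i
  · by_cases h : (i : ℕ) < j
    · have h1 := shiftFin_val_of_lt j i h
      have h2 : ¬ ((shiftFin j i : Fin (j + j)) : ℕ) < j := by omega
      simp [betaMap, alphaMap, h, h2, shiftFin_involutive j i]
    · have h1 := shiftFin_val_of_not_lt j i h
      have hi := i.2
      have h2 : ((shiftFin j i : Fin (j + j)) : ℕ) < j := by omega
      simp [betaMap, alphaMap, h, h2, shiftFin_involutive j i]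
  · by_cases h : (i : ℕ) < j
    · have h1 := shiftFin_val_of_lt j i h
      have h2 : ¬ ((shiftFin j i : Fin (j + j)) : ℕ) < j := by omega
      simp [betaMap, alphaMap, h, h2, shiftFin_involutive j i]
    · have h1 := shiftFin_val_of_not_lt j i h
      have hi := i.2
      have h2 : ((shiftFin j i : Fin (j + j)) : ℕ) < j := by omega
      simp [betaMap, alphaMap, h, h2, shiftFin_involutive j i]

theorem quadFormPlus_alpha {F : Type*} [Field F] (j : ℕ) (v : Fin (j + j) ⊕ Fin (j + j) → F) :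
    Cfsg.quadFormPlus (j + j) F (fun k => v (alphaMap j k)) = Cfsg.quadFormPlus (j + j) F v := by
  unfold Cfsg.quadFormPlus
  exact Equiv.sum_comp ((shiftFin_involutive j).toPerm (shiftFin j))
    (fun i => v (Sum.inl i) * v (Sum.inr i))

theorem quadFormPlus_beta {F : Type*} [Field F] (j : ℕ) (v : Fin (j + j) ⊕ Fin (j + j) → F) :
    Cfsg.quadFormPlus (j + j) F (fun k => v (betaMap j k)) = Cfsg.quadFormPlus (j + j) F v := by
  unfold Cfsg.quadFormPlus
  apply Finset.sum_congr rfl
  intro i _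
  by_cases h : (i : ℕ) < j
  · simp [betaMap, h, mul_comm]
  · simp [betaMap, h]

/-- existence of a swapping element of `Ω` in dimension `2(j + j)` -/
theorem exists_swap {F : Type*} [Field F] (j : ℕ) :
    ∃ g : ↥(Cfsg.isometryGroup F (Cfsg.quadFormPlus (j + j) F)),
      g ∈ Cfsg.Omega F (Cfsg.quadFormPlus (j + j) F) ∧
      ∀ v : Fin (j + j) ⊕ Fin (j + j) → F,
        ((g : Matrix.GeneralLinearGroup (Fin (j + j) ⊕ Fin (j + j)) F) :
          Matrix (Fin (j + j) ⊕ Fin (j + j)) (Fin (j + j) ⊕ Fin (j + j)) F).mulVec v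
          = fun k => v (Sum.swap k) := by
  classical
  set a := permLin F (alphaMap j) (alphaMap_involutive j) with ha
  set b := permLin F (betaMap j) (betaMap_involutive j) with hb
  have haOG : a ∈ Cfsg.Agent.Lib.Helper94.OG (Cfsg.quadFormPlus (j + j) F) := by
    intro v
    exact quadFormPlus_alpha j v
  have hbOG : b ∈ Cfsg.Agent.Lib.Helper94.OG (Cfsg.quadFormPlus (j + j) F) := by
    intro v
    exact quadFormPlus_beta j v
  have hmemI : ∀ e ∈ Cfsg.Agent.Lib.Helper94.OG (Cfsg.quadFormPlus (j + j) F),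
      (Cfsg.Agent.Lib.Helper94.glEquiv (Fin (j + j) ⊕ Fin (j + j)) F).symm e
        ∈ Cfsg.isometryGroup F (Cfsg.quadFormPlus (j + j) F) := by
    intro e he
    rw [← Cfsg.Agent.Lib.Helper94.map_isometryGroup, Subgroup.mem_map_equiv] at he
    exact he
  set a' : ↥(Cfsg.isometryGroup F (Cfsg.quadFormPlus (j + j) F)) := ⟨_, hmemI a haOG⟩ with ha'
  set b' : ↥(Cfsg.isometryGroup F (Cfsg.quadFormPlus (j + j) F)) := ⟨_, hmemI b hbOG⟩ with hb'
  refine ⟨⁅a', b'⁆, ?_, ?_⟩
  · show ⁅a', b'⁆ ∈ commutator ↥(Cfsg.isometryGroup F (Cfsg.quadFormPlus (j + j) F))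
    rw [commutator_eq_closure]
    exact Subgroup.subset_closure ⟨a', b', rfl⟩
  · intro v
    have h1 : ((⁅a', b'⁆ : ↥(Cfsg.isometryGroup F (Cfsg.quadFormPlus (j + j) F))) :
        Matrix.GeneralLinearGroup (Fin (j + j) ⊕ Fin (j + j)) F)
        = (Cfsg.Agent.Lib.Helper94.glEquiv (Fin (j + j) ⊕ Fin (j + j)) F).symm ⁅a, b⁆ := by
      rw [map_commutatorElement]
      rfl
    rw [h1, Cfsg.Agent.Lib.Helper94.glEquiv_symm_mulVec, commutatorElement_def, ha, hb, permLin_inv,
      permLin_inv]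
    funext k
    show permLin F (alphaMap j) (alphaMap_involutive j) (permLin F (betaMap j) (betaMap_involutive j)
      (permLin F (alphaMap j) (alphaMap_involutive j) (permLin F (betaMap j) (betaMap_involutive j) v))) k
      = v (Sum.swap k)
    rw [permLin_apply, permLin_apply, permLin_apply, permLin_apply, beta_alpha_beta_alpha]

/-- For the hyperbolic quadratic form Σ x_i y_i on F^(2m) (F finite, m ≥ 1, excluding m = 2 over the field of two elements), Ω⁺_2m(F) (the commutator subgroup of the orthogonal group) contains an element interchanging the two complementary maximal totally singular subspaces {y = 0} and {x = 0} if and only if m is even (dimension divisible by 4). -/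
theorem result {F : Type*} [Field F] [Fintype F] {m : ℕ} (hm : 1 ≤ m) (h : Fintype.card F ≠ 2 ∨ m ≠ 2) : (∃ g : ↥(Cfsg.isometryGroup F (Cfsg.quadFormPlus m F)), g ∈ Cfsg.Omega F (Cfsg.quadFormPlus m F) ∧ (∀ v : Fin m ⊕ Fin m → F, (∀ i, v (Sum.inr i) = 0) → ∀ i, (((g : Matrix.GeneralLinearGroup (Fin m ⊕ Fin m) F) : Matrix (Fin m ⊕ Fin m) (Fin m ⊕ Fin m) F).mulVec v) (Sum.inl i) = 0) ∧ (∀ v : Fin m ⊕ Fin m → F, (∀ i, v (Sum.inl i) = 0) → ∀ i, (((g : Matrix.GeneralLinearGroup (Fin m ⊕ Fin m) F) : Matrix (Fin m ⊕ Fin m) (Fin m ⊕ Fin m) F).mulVec v) (Sum.inr i) = 0)) ↔ Even m := by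
  classical
  have hF : (∀ a b : F, ∃ x : F, x ≠ a ∧ x ≠ b) ∨ Module.finrank F (Fin m ⊕ Fin m → F) ≠ 4 := by
    rcases h with h | h
    · left; exact Cfsg.Agent.S0786.exists_ne_ne h
    · right
      rw [Cfsg.Agent.Lib.Helper94.finrank_plusSpace]
      omega
  constructor
  · rintro ⟨g, hgΩ, hg1, -⟩
    have hpar := Cfsg.Agent.Lib.Helper94.par_glEquiv_eq m F g
    have h0 : Cfsg.Agent.Lib.Helper13.par (Cfsg.Agent.Lib.Helper94.glEquiv (Fin m ⊕ Fin m) F
        (g : Matrix.GeneralLinearGroup (Fin m ⊕ Fin m) F)) = 0 :=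
      Cfsg.Agent.Lib.Helper94.par_eq_zero_of_mem_commutator (Cfsg.Agent.Lib.Helper94.plusQF m F)
        (Cfsg.Agent.Lib.Helper94.plusQF_nondeg m F) hF _
        ((Cfsg.Agent.Lib.Helper94.mem_Omega_iff _ g).1 hgΩ)
    have hbot : (Cfsg.Agent.Lib.Helper94.U0 m F ⊓ (Cfsg.Agent.Lib.Helper94.U0 m F).map (Matrix.mulVecLin
        ((g : Matrix.GeneralLinearGroup (Fin m ⊕ Fin m) F) : Matrix (Fin m ⊕ Fin m) (Fin m ⊕ Fin m) F)) :
          Submodule F (Fin m ⊕ Fin m → F)) = ⊥ := by
      rw [eq_bot_iff]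
      rintro x ⟨hx0, u, hu, rfl⟩
      rw [SetLike.mem_coe, Cfsg.Agent.Lib.Helper94.mem_U0] at hu
      rw [SetLike.mem_coe, Cfsg.Agent.Lib.Helper94.mem_U0] at hx0
      rw [Submodule.mem_bot]
      funext k
      rcases k with i | i
      · exact hg1 u hu i
      · exact hx0 i
    rw [hbot, finrank_bot, Nat.sub_zero] at hpar
    rw [hpar, ZMod.natCast_eq_zero_iff_even] at h0
    exact h0
  · rintro ⟨j, rfl⟩
    obtain ⟨g, hgΩ, hgv⟩ := exists_swap (F := F) j
    refine ⟨g, hgΩ, ?_, ?_⟩
    · intro v hv i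
      rw [hgv]
      exact hv i
    · intro v hv i
      rw [hgv]
      exact hv i


end Cfsg.Agent.S2612
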