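import Cfsg.Statements.S2614
import Cfsg.Agent.Lib.Helper44.HypFrame
-- import your own Cfsg.Agent.* helpers here

set_option autoImplicit false
open Cfsg

namespace Cfsg.Agent.S2614

/-- For the form x_0² + Σ x_j y_j on F^(2m+1), F finite with q elements, q odd, and 1 ≤ i ≤ m: the involution of determinant one negating the first i hyperbolic pairs (and fixing x_0 and the other pairs) lies in Ω_(2m+1)(q) (commutator subgroup of the orthogonal group) if and only if q^i ≡ 1 (mod 4); its (−1)-eigenspace is a hyperbolic 2i-space. -/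
theorem result {F : Type*} [Field F] [Fintype F] {q : ℕ} (hF : Fintype.card F = q) (hq : Odd q) {m : ℕ} (i : ℕ) (hi : 1 ≤ i) (him : i ≤ m) : (∃ g : ↥(Cfsg.isometryGroup F (Cfsg.quadFormOdd m F)), g ∈ Cfsg.Omega F (Cfsg.quadFormOdd m F) ∧ ((g : Matrix.GeneralLinearGroup (Unit ⊕ (Fin m ⊕ Fin m)) F) : Matrix (Unit ⊕ (Fin m ⊕ Fin m)) (Unit ⊕ (Fin m ⊕ Fin m)) F) = Matrix.diagonal (fun k : Unit ⊕ (Fin m ⊕ Fin m) => if (Sum.elim (fun _ : Unit => i) (Sum.elim (fun j : Fin m => (j : ℕ)) (fun j : Fin m => (j : ℕ))) k) < i then (-1 : F) else 1)) ↔ q ^ i % 4 = 1 := by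
  classical
  subst hF
  let fr : Cfsg.Agent.Lib.Helper44.HypFrame (Cfsg.quadFormOdd m F) m :=
    { e := fun j => Sum.inr (Sum.inl j)
      f := fun j => Sum.inr (Sum.inr j)
      he := fun _ _ h => Sum.inl_injective (Sum.inr_injective h)
      hf := fun _ _ h => Sum.inr_injective (Sum.inr_injective h)
      hef := fun _ _ h => Sum.inl_ne_inr (Sum.inr_injective h)
      R := fun v => v (Sum.inl ()) ^ 2
      hQ := fun v => by simp [Cfsg.quadFormOdd, add_comm]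
      hR1 := fun v v' h => by
        have : v (Sum.inl ()) = v' (Sum.inl ()) := h _ (fun j => Sum.inl_ne_inr) (fun j => Sum.inl_ne_inr)
        simp only [this]
      hR2 := fun v => by simp
      hR3 := by simp }
  apply fr.main hq i him
  intro k
  unfold Cfsg.Agent.Lib.Helper44.HypFrame.tFun
  rcases k with u | j₀ | j₀
  · have h1 : ¬ ∃ j : Fin m, (j : ℕ) < i ∧ ((Sum.inl u : Unit ⊕ (Fin m ⊕ Fin m)) = fr.e j ∨ (Sum.inl u : Unit ⊕ (Fin m ⊕ Fin m)) = fr.f j) := by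
      rintro ⟨j, hj, hjk | hjk⟩
      · exact Sum.inl_ne_inr hjk
      · exact Sum.inl_ne_inr hjk
    rw [if_neg h1]
    simp
  · by_cases h : (j₀ : ℕ) < i
    · have h1 : ∃ j : Fin m, (j : ℕ) < i ∧ ((Sum.inr (Sum.inl j₀) : Unit ⊕ (Fin m ⊕ Fin m)) = fr.e j ∨ (Sum.inr (Sum.inl j₀) : Unit ⊕ (Fin m ⊕ Fin m)) = fr.f j) :=
        ⟨j₀, h, Or.inl rfl⟩
      rw [if_pos h1]
      simp [h]
    · have h1 : ¬ ∃ j : Fin m, (j : ℕ) < i ∧ ((Sum.inr (Sum.inl j₀) : Unit ⊕ (Fin m ⊕ Fin m)) = fr.e j ∨ (Sum.inr (Sum.inl j₀) : Unit ⊕ (Fin m ⊕ Fin m)) = fr.f j) := by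
        rintro ⟨j, hj, hjk | hjk⟩
        · have : j₀ = j := Sum.inl_injective (Sum.inr_injective hjk)
          subst this
          exact h hj
        · exact Sum.inl_ne_inr (Sum.inr_injective hjk)
      rw [if_neg h1]
      simp [h]
  · by_cases h : (j₀ : ℕ) < i
    · have h1 : ∃ j : Fin m, (j : ℕ) < i ∧ ((Sum.inr (Sum.inr j₀) : Unit ⊕ (Fin m ⊕ Fin m)) = fr.e j ∨ (Sum.inr (Sum.inr j₀) : Unit ⊕ (Fin m ⊕ Fin m)) = fr.f j) :=
        ⟨j₀, h, Or.inr rfl⟩
      rw [if_pos h1]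
      simp [h]
    · have h1 : ¬ ∃ j : Fin m, (j : ℕ) < i ∧ ((Sum.inr (Sum.inr j₀) : Unit ⊕ (Fin m ⊕ Fin m)) = fr.e j ∨ (Sum.inr (Sum.inr j₀) : Unit ⊕ (Fin m ⊕ Fin m)) = fr.f j) := by
        rintro ⟨j, hj, hjk | hjk⟩
        · exact Sum.inr_ne_inl (Sum.inr_injective hjk)
        · have : j₀ = j := Sum.inr_injective (Sum.inr_injective hjk)
          subst this
          exact h hj
      rw [if_neg h1]
      simp [h]

end Cfsg.Agent.S2614
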