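import Cfsg.Statements.S2615
import Cfsg.Agent.Lib.Helper44.HypFrame
-- import your own Cfsg.Agent.* helpers here

set_option autoImplicit false
open Cfsg

namespace Cfsg.Agent.S2615

/-- For an elliptic form Σ_(j<m−1) x_j y_j + (z₁² + a z₁z₂ + b z₂²) (anisotropic binary part) on F^(2m), F finite with q elements, q odd, and 1 ≤ i ≤ m − 1: the involution negating the first i hyperbolic pairs and fixing the rest lies in Ω⁻_2m(q) (commutator subgroup of the orthogonal group) if and only if q^i ≡ 1 (mod 4). -/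
theorem result {F : Type*} [Field F] [Fintype F] {q : ℕ} (hF : Fintype.card F = q) (hq : Odd q) {m : ℕ} (a b : F) (hab : ∀ z₁ z₂ : F, z₁ ^ 2 + a * z₁ * z₂ + b * z₂ ^ 2 = 0 → z₁ = 0 ∧ z₂ = 0) (i : ℕ) (hi : 1 ≤ i) (him : i + 1 ≤ m) : (∃ g : ↥(Cfsg.isometryGroup F (Cfsg.quadFormMinus (m - 1) F a b)), g ∈ Cfsg.Omega F (Cfsg.quadFormMinus (m - 1) F a b) ∧ ((g : Matrix.GeneralLinearGroup ((Fin (m - 1) ⊕ Fin (m - 1)) ⊕ Fin 2) F) : Matrix ((Fin (m - 1) ⊕ Fin (m - 1)) ⊕ Fin 2) ((Fin (m - 1) ⊕ Fin (m - 1)) ⊕ Fin 2) F) = Matrix.diagonal (fun k : (Fin (m - 1) ⊕ Fin (m - 1)) ⊕ Fin 2 => if (Sum.elim (Sum.elim (fun j : Fin (m - 1) => (j : ℕ)) (fun j : Fin (m - 1) => (j : ℕ))) (fun _ : Fin 2 => i) k) < i then (-1 : F) else 1)) ↔ q ^ i % 4 = 1 := by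
  classical
  subst hF
  let fr : Cfsg.Agent.Lib.Helper44.HypFrame (Cfsg.quadFormMinus (m - 1) F a b) (m - 1) :=
    { e := fun j => Sum.inl (Sum.inl j)
      f := fun j => Sum.inl (Sum.inr j)
      he := fun _ _ h => Sum.inl_injective (Sum.inl_injective h)
      hf := fun _ _ h => Sum.inr_injective (Sum.inl_injective h)
      hef := fun _ _ h => Sum.inl_ne_inr (Sum.inl_injective h)
      R := fun v => v (Sum.inr 0) ^ 2 + a * v (Sum.inr 0) * v (Sum.inr 1) + b * v (Sum.inr 1) ^ 2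
      hQ := fun v => by simp [Cfsg.quadFormMinus]
      hR1 := fun v v' h => by
        have h0 : v (Sum.inr 0) = v' (Sum.inr 0) := h _ (fun j => Sum.inr_ne_inl) (fun j => Sum.inr_ne_inl)
        have h1 : v (Sum.inr 1) = v' (Sum.inr 1) := h _ (fun j => Sum.inr_ne_inl) (fun j => Sum.inr_ne_inl)
        simp only [h0, h1]
      hR2 := fun v => by simp
      hR3 := by simp }
  apply fr.main hq i (by omega)
  intro k
  unfold Cfsg.Agent.Lib.Helper44.HypFrame.tFun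
  rcases k with (j₀ | j₀) | u
  · by_cases h : (j₀ : ℕ) < i
    · have h1 : ∃ j : Fin (m - 1), (j : ℕ) < i ∧ ((Sum.inl (Sum.inl j₀) : (Fin (m - 1) ⊕ Fin (m - 1)) ⊕ Fin 2) = fr.e j ∨ (Sum.inl (Sum.inl j₀) : (Fin (m - 1) ⊕ Fin (m - 1)) ⊕ Fin 2) = fr.f j) :=
        ⟨j₀, h, Or.inl rfl⟩
      rw [if_pos h1]
      simp [h]
    · have h1 : ¬ ∃ j : Fin (m - 1), (j : ℕ) < i ∧ ((Sum.inl (Sum.inl j₀) : (Fin (m - 1) ⊕ Fin (m - 1)) ⊕ Fin 2) = fr.e j ∨ (Sum.inl (Sum.inl j₀) : (Fin (m - 1) ⊕ Fin (m - 1)) ⊕ Fin 2) = fr.f j) := by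
        rintro ⟨j, hj, hjk | hjk⟩
        · have : j₀ = j := Sum.inl_injective (Sum.inl_injective hjk)
          subst this
          exact h hj
        · exact Sum.inl_ne_inr (Sum.inl_injective hjk)
      rw [if_neg h1]
      simp [h]
  · by_cases h : (j₀ : ℕ) < i
    · have h1 : ∃ j : Fin (m - 1), (j : ℕ) < i ∧ ((Sum.inl (Sum.inr j₀) : (Fin (m - 1) ⊕ Fin (m - 1)) ⊕ Fin 2) = fr.e j ∨ (Sum.inl (Sum.inr j₀) : (Fin (m - 1) ⊕ Fin (m - 1)) ⊕ Fin 2) = fr.f j) :=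
        ⟨j₀, h, Or.inr rfl⟩
      rw [if_pos h1]
      simp [h]
    · have h1 : ¬ ∃ j : Fin (m - 1), (j : ℕ) < i ∧ ((Sum.inl (Sum.inr j₀) : (Fin (m - 1) ⊕ Fin (m - 1)) ⊕ Fin 2) = fr.e j ∨ (Sum.inl (Sum.inr j₀) : (Fin (m - 1) ⊕ Fin (m - 1)) ⊕ Fin 2) = fr.f j) := by
        rintro ⟨j, hj, hjk | hjk⟩
        · exact Sum.inr_ne_inl (Sum.inl_injective hjk)
        · have : j₀ = j := Sum.inr_injective (Sum.inl_injective hjk)
          subst this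
          exact h hj
      rw [if_neg h1]
      simp [h]
  · have h1 : ¬ ∃ j : Fin (m - 1), (j : ℕ) < i ∧ ((Sum.inr u : (Fin (m - 1) ⊕ Fin (m - 1)) ⊕ Fin 2) = fr.e j ∨ (Sum.inr u : (Fin (m - 1) ⊕ Fin (m - 1)) ⊕ Fin 2) = fr.f j) := by
      rintro ⟨j, hj, hjk | hjk⟩
      · exact Sum.inr_ne_inl hjk
      · exact Sum.inr_ne_inl hjk
    rw [if_neg h1]
    simp

end Cfsg.Agent.S2615
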