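import Cfsg.Statements.S2621
-- import your own Cfsg.Agent.* helpers here

set_option autoImplicit false
open Cfsg

namespace Cfsg.Agent.S2621

theorem gram_det {F : Type*} [Field F] {n ι : Type*} [Fintype n] [DecidableEq n] [Fintype ι] [DecidableEq ι]
    (G₀ : Matrix n n F) (f : (n → F) → (n → F) → F) (hf : ∀ x y, f x y = x ⬝ᵥ (G₀.mulVec y))
    (b : Module.Basis ι F (n → F)) :
    ∃ d : F, d ≠ 0 ∧ (Matrix.of fun i j : ι => f (b i) (b j)).det = d * d * G₀.det := by
  classical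
  let e : ι ≃ n := b.indexEquiv (Pi.basisFun F n)
  let P : Matrix n n F := Matrix.of fun i k => b (e.symm i) k
  have hP : IsUnit P := by
    rw [← Matrix.linearIndependent_rows_iff_isUnit]
    have : P.row = b ∘ e.symm := by
      ext i k; rfl
    rw [this]
    exact b.linearIndependent.comp _ e.symm.injective
  have hdet : P.det ≠ 0 := by
    have := (Matrix.isUnit_iff_isUnit_det P).1 hP
    exact this.ne_zero
  refine ⟨P.det, hdet, ?_⟩
  have h1 : (Matrix.of fun i j : ι => f (b i) (b j)) = (P * G₀ * P.transpose).submatrix e e := by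
    ext i j
    simp only [Matrix.of_apply, Matrix.submatrix_apply, hf]
    rw [Matrix.mul_apply]
    simp only [Matrix.mul_apply, Matrix.transpose_apply, dotProduct, Matrix.mulVec, P, Matrix.of_apply,
      Equiv.symm_apply_apply]
    simp_rw [Finset.mul_sum, Finset.sum_mul]
    rw [Finset.sum_comm]
    apply Finset.sum_congr rfl
    intro k _
    apply Finset.sum_congr rfl
    intro l _
    ring
  rw [h1, Matrix.det_submatrix_equiv_self, Matrix.det_mul, Matrix.det_mul, Matrix.det_transpose]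
  ring

theorem det_swap {F : Type*} [Field F] (m : ℕ) :
    (Matrix.fromBlocks (0 : Matrix (Fin m) (Fin m) F) (1 : Matrix (Fin m) (Fin m) F) (1 : Matrix (Fin m) (Fin m) F) (0 : Matrix (Fin m) (Fin m) F)).det = (-1) ^ m := by
  have h1 : Matrix.fromBlocks (0 : Matrix (Fin m) (Fin m) F) (1 : Matrix (Fin m) (Fin m) F) (1 : Matrix (Fin m) (Fin m) F) (0 : Matrix (Fin m) (Fin m) F) * Matrix.fromBlocks (1 : Matrix (Fin m) (Fin m) F) (0 : Matrix (Fin m) (Fin m) F) (1 : Matrix (Fin m) (Fin m) F) (1 : Matrix (Fin m) (Fin m) F)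
      = Matrix.fromBlocks (1 : Matrix (Fin m) (Fin m) F) (1 : Matrix (Fin m) (Fin m) F) (1 : Matrix (Fin m) (Fin m) F) (0 : Matrix (Fin m) (Fin m) F) := by
    simp [Matrix.fromBlocks_multiply]
  have h2 := congrArg Matrix.det h1
  rw [Matrix.det_mul, Matrix.det_fromBlocks_one₁₁, Matrix.det_fromBlocks_one₁₁] at h2
  simp only [mul_zero, sub_zero, Matrix.det_one, mul_one, zero_sub] at h2
  rw [h2, Matrix.det_neg, Matrix.det_one, Fintype.card_fin, mul_one]

theorem isSquare_neg_one_pow {F : Type*} [Field F] [Fintype F] {q : ℕ} (hF : Fintype.card F = q) (hq : Odd q)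
    (m : ℕ) : IsSquare ((-1 : F) ^ m) ↔ Even (m * (q - 1) / 2) := by
  obtain ⟨t, rfl⟩ := hq
  have h1 : m * (2 * t + 1 - 1) / 2 = m * t := by
    rw [Nat.add_sub_cancel, ← mul_assoc, mul_comm m 2, mul_assoc, Nat.mul_div_cancel_left _ (by norm_num)]
  rw [h1, Nat.even_mul]
  have h2 : IsSquare (-1 : F) ↔ Even t := by
    rw [FiniteField.isSquare_neg_one_iff, hF]
    constructor
    · intro h
      rcases Nat.even_or_odd t with ht | ht
      · exact ht
      · exfalso; apply h; obtain ⟨s, rfl⟩ := ht; omega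
    · intro ⟨s, hs⟩; omega
  rcases Nat.even_or_odd m with hm | hm
  · simp only [hm, true_or, iff_true]
    rw [hm.neg_one_pow]; exact ⟨1, by simp⟩
  · rw [hm.neg_one_pow, h2]
    constructor
    · intro h; exact Or.inr h
    · rintro (h | h)
      · exact absurd h (Nat.not_even_iff_odd.2 hm)
      · exact h

theorem isSquare_sq_mul {F : Type*} [Field F] {d x : F} (hd : d ≠ 0) : IsSquare (d * d * x) ↔ IsSquare x := by
  constructor
  · rintro ⟨r, hr⟩
    refine ⟨r / d, ?_⟩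
    rw [div_mul_div_comm, ← hr, mul_comm, mul_div_assoc, div_self (mul_ne_zero hd hd), mul_one]
  · rintro ⟨r, rfl⟩
    exact ⟨d * r, by ring⟩


theorem polar_minus_eq {F : Type*} [Field F] (k : ℕ) (a c : F) (x y : (Fin k ⊕ Fin k) ⊕ Fin 2 → F) :
    QuadraticMap.polar (Cfsg.quadFormMinus k F a c) x y =
      x ⬝ᵥ ((Matrix.fromBlocks (Matrix.fromBlocks (0 : Matrix (Fin k) (Fin k) F) (1 : Matrix (Fin k) (Fin k) F) (1 : Matrix (Fin k) (Fin k) F) (0 : Matrix (Fin k) (Fin k) F)) (0 : Matrix (Fin k ⊕ Fin k) (Fin 2) F) (0 : Matrix (Fin 2) (Fin k ⊕ Fin k) F) (!![2, a; a, 2 * c] : Matrix (Fin 2) (Fin 2) F)).mulVec y) := by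
  simp only [QuadraticMap.polar, Cfsg.quadFormMinus, dotProduct, Matrix.mulVec, Fintype.sum_sum_type,
    Matrix.fromBlocks_apply₁₁, Matrix.fromBlocks_apply₁₂, Matrix.fromBlocks_apply₂₁, Matrix.fromBlocks_apply₂₂,
    Matrix.zero_apply, zero_mul, Finset.sum_const_zero, zero_add, add_zero, Matrix.one_apply, Pi.add_apply,
    ite_mul, one_mul, Finset.sum_ite_eq, Finset.mem_univ, if_true, Fin.sum_univ_two, Matrix.of_apply,
    Matrix.cons_val', Matrix.cons_val_zero, Matrix.cons_val_one, Matrix.cons_val_fin_one]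
  have : ∀ (f g h : Fin k → F), (∑ i, f i + (x (Sum.inr 0) + y (Sum.inr 0)) ^ 2 + a * (x (Sum.inr 0) + y (Sum.inr 0)) * (x (Sum.inr 1) + y (Sum.inr 1)) + c * (x (Sum.inr 1) + y (Sum.inr 1)) ^ 2) = (∑ i, f i + ((x (Sum.inr 0) + y (Sum.inr 0)) ^ 2 + a * (x (Sum.inr 0) + y (Sum.inr 0)) * (x (Sum.inr 1) + y (Sum.inr 1)) + c * (x (Sum.inr 1) + y (Sum.inr 1)) ^ 2)) := by
    intros; ring
  have e1 : (∑ i : Fin k, (x (Sum.inl (Sum.inl i)) + y (Sum.inl (Sum.inl i))) * (x (Sum.inl (Sum.inr i)) + y (Sum.inl (Sum.inr i))))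
      = ∑ i : Fin k, x (Sum.inl (Sum.inl i)) * x (Sum.inl (Sum.inr i)) + ∑ i : Fin k, y (Sum.inl (Sum.inl i)) * y (Sum.inl (Sum.inr i))
        + (∑ i : Fin k, x (Sum.inl (Sum.inl i)) * y (Sum.inl (Sum.inr i)) + ∑ i : Fin k, x (Sum.inl (Sum.inr i)) * y (Sum.inl (Sum.inl i))) := by
    rw [← Finset.sum_add_distrib, ← Finset.sum_add_distrib, ← Finset.sum_add_distrib]
    apply Finset.sum_congr rfl
    intro i _
    ring
  rw [e1]
  ring

theorem not_isSquare_disc {F : Type*} [Field F] (h2 : (2 : F) ≠ 0) (a c : F)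
    (hac : ∀ z₁ z₂ : F, z₁ ^ 2 + a * z₁ * z₂ + c * z₂ ^ 2 = 0 → z₁ = 0 ∧ z₂ = 0) :
    ¬ IsSquare (a ^ 2 - 4 * c) := by
  rintro ⟨s, hs⟩
  have := hac (s - a) 2 (by linear_combination -hs)
  exact h2 this.2

theorem isSquare_mul_nonsquare {F : Type*} [Field F] [Fintype F] {x D : F} (hx : x ≠ 0)
    (hD : ¬ IsSquare D) : IsSquare (x * D) ↔ ¬ IsSquare x := by
  classical
  have hD0 : D ≠ 0 := by
    rintro rfl; exact hD ⟨0, by simp⟩
  rw [← quadraticChar_one_iff_isSquare (mul_ne_zero hx hD0), ← quadraticChar_neg_one_iff_not_isSquare, map_mul,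
    quadraticChar_neg_one_iff_not_isSquare.2 hD]
  constructor
  · intro h; linarith
  · intro h; rw [h]; norm_num



/-- Discriminant of an elliptic quadratic form Σ_(i<m−1) x_i y_i + z₁² + a z₁z₂ + c z₂² (binary part anisotropic) in dimension 2m over a field with q elements, q odd, m ≥ 1: the determinant of the Gram matrix of its polar form in any basis is a square if and only if m(q − 1)/2 is odd (equivalently q^m ≡ 3 (mod 4)). -/
theorem result {F : Type*} [Field F] [Fintype F] {q : ℕ} (hF : Fintype.card F = q) (hq : Odd q) {m : ℕ} (hm : 1 ≤ m) (a c : F) (hac : ∀ z₁ z₂ : F, z₁ ^ 2 + a * z₁ * z₂ + c * z₂ ^ 2 = 0 → z₁ = 0 ∧ z₂ = 0) {ι : Type*} [Fintype ι] [DecidableEq ι] (b : Module.Basis ι F ((Fin (m - 1) ⊕ Fin (m - 1)) ⊕ Fin 2 → F)) : IsSquare (Matrix.of (fun i j : ι => QuadraticMap.polar (Cfsg.quadFormMinus (m - 1) F a c) (b i) (b j))).det ↔ ¬ Even (m * (q - 1) / 2) := by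
  obtain ⟨d, hd, hdet⟩ := gram_det _
    (QuadraticMap.polar (Cfsg.quadFormMinus (m - 1) F a c)) (polar_minus_eq (m - 1) a c) b
  have hchar : ringChar F ≠ 2 := by
    intro h
    rw [FiniteField.even_card_iff_char_two, hF] at h
    exact (Nat.not_even_iff_odd.2 hq) (Nat.even_iff.2 h)
  have h2 : (2 : F) ≠ 0 := Ring.two_ne_zero hchar
  rw [hdet, isSquare_sq_mul hd, Matrix.det_fromBlocks_zero₂₁, det_swap, Matrix.det_fin_two_of]
  have e : (-1 : F) ^ (m - 1) * (2 * (2 * c) - a * a) = (-1) ^ m * (a ^ 2 - 4 * c) := by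
    obtain ⟨k, rfl⟩ : ∃ k, m = k + 1 := ⟨m - 1, by omega⟩
    simp only [Nat.add_sub_cancel, pow_succ]; ring
  rw [e, isSquare_mul_nonsquare (pow_ne_zero _ (by norm_num)) (not_isSquare_disc h2 a c hac),
    isSquare_neg_one_pow hF hq]

end Cfsg.Agent.S2621
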