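import Cfsg.Statements.S2626
-- import your own Cfsg.Agent.* helpers here

set_option autoImplicit false
open Cfsg

namespace Cfsg.Agent.S2626

open Matrix in
/-- Block diagonal embedding `GL_k × GL_l → GL_{k+l}`. -/
def blockDiagGL {F : Type*} [Field F] (k l : ℕ) :
    GL (Fin k) F × GL (Fin l) F →* GL (Fin k ⊕ Fin l) F where
  toFun p := ⟨Matrix.fromBlocks (p.1 : Matrix (Fin k) (Fin k) F) 0 0 (p.2 : Matrix (Fin l) (Fin l) F),
    Matrix.fromBlocks ((p.1⁻¹ : GL (Fin k) F) : Matrix (Fin k) (Fin k) F) 0 0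
      ((p.2⁻¹ : GL (Fin l) F) : Matrix (Fin l) (Fin l) F),
    by simp [Matrix.fromBlocks_multiply, Matrix.fromBlocks_one],
    by simp [Matrix.fromBlocks_multiply, Matrix.fromBlocks_one]⟩
  map_one' := by
    apply Units.ext
    simp [Matrix.fromBlocks_one]
  map_mul' x y := by
    apply Units.ext
    simp [Matrix.fromBlocks_multiply]

theorem blockDiagGL_coe {F : Type*} [Field F] (k l : ℕ) (p : GL (Fin k) F × GL (Fin l) F) :
    ((blockDiagGL k l p : GL (Fin k ⊕ Fin l) F) : Matrix (Fin k ⊕ Fin l) (Fin k ⊕ Fin l) F) =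
      Matrix.fromBlocks (p.1 : Matrix (Fin k) (Fin k) F) 0 0 (p.2 : Matrix (Fin l) (Fin l) F) := rfl

theorem mem_isometryGroup_iff {ι : Type} [Fintype ι] [DecidableEq ι] {F : Type*} [Field F]
    (Q : (ι → F) → F) (g : GL ι F) :
    g ∈ Cfsg.isometryGroup F Q ↔ ∀ u : ι → F, Q ((g : Matrix ι ι F).mulVec u) = Q u := by
  constructor
  · intro h u; exact h u u
  · intro h u _; exact h u

theorem blockDiag_mem {F : Type*} [Field F] {k l : ℕ} (Q₁ : (Fin k → F) → F) (Q₂ : (Fin l → F) → F)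
    (p : GL (Fin k) F × GL (Fin l) F) (h1 : p.1 ∈ Cfsg.isometryGroup F Q₁)
    (h2 : p.2 ∈ Cfsg.isometryGroup F Q₂) :
    blockDiagGL k l p ∈ Cfsg.isometryGroup F
      (fun v : Fin k ⊕ Fin l → F => Q₁ (v ∘ Sum.inl) + Q₂ (v ∘ Sum.inr)) := by
  rw [mem_isometryGroup_iff] at h1 h2 ⊢
  intro u
  rw [blockDiagGL_coe, Matrix.fromBlocks_mulVec]
  simp only [Matrix.zero_mulVec, add_zero, zero_add]
  have e1 : (Sum.elim ((p.1 : Matrix (Fin k) (Fin k) F).mulVec (u ∘ Sum.inl))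
      ((p.2 : Matrix (Fin l) (Fin l) F).mulVec (u ∘ Sum.inr))) ∘ Sum.inl =
      (p.1 : Matrix (Fin k) (Fin k) F).mulVec (u ∘ Sum.inl) := by
    ext i; simp
  have e2 : (Sum.elim ((p.1 : Matrix (Fin k) (Fin k) F).mulVec (u ∘ Sum.inl))
      ((p.2 : Matrix (Fin l) (Fin l) F).mulVec (u ∘ Sum.inr))) ∘ Sum.inr =
      (p.2 : Matrix (Fin l) (Fin l) F).mulVec (u ∘ Sum.inr) := by
    ext i; simp
  rw [e1, e2, h1, h2]

/-- Block diagonal hom on isometry groups. -/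
def blockDiagIso {F : Type*} [Field F] {k l : ℕ} (Q₁ : (Fin k → F) → F) (Q₂ : (Fin l → F) → F) :
    (Cfsg.isometryGroup F Q₁) × (Cfsg.isometryGroup F Q₂) →*
      Cfsg.isometryGroup F (fun v : Fin k ⊕ Fin l → F => Q₁ (v ∘ Sum.inl) + Q₂ (v ∘ Sum.inr)) where
  toFun p := ⟨blockDiagGL k l (p.1.1, p.2.1), blockDiag_mem Q₁ Q₂ (p.1.1, p.2.1) p.1.2 p.2.2⟩
  map_one' := by
    apply Subtype.ext
    exact (blockDiagGL k l).map_one
  map_mul' x y := by
    apply Subtype.ext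
    exact (blockDiagGL k l).map_mul (x.1.1, x.2.1) (y.1.1, y.2.1)

theorem map_mem_commutator {G H : Type*} [Group G] [Group H] (f : G →* H) {x : G}
    (hx : x ∈ commutator G) : f x ∈ commutator H := by
  have h1 : f x ∈ (commutator G).map f := Subgroup.mem_map_of_mem f hx
  rw [commutator_def, Subgroup.map_commutator] at h1
  exact Subgroup.commutator_mono le_top le_top h1


/-- Ω of an orthogonal direct sum contains the product of the Ω's: for quadratic forms Q₁ on F^k and Q₂ on F^l with non-degenerate polar forms (F finite) and Q = Q₁ ⊕ Q₂ on F^(k+l), if g₁ lies in Ω(Q₁) and g₂ in Ω(Q₂) (commutator subgroups of the orthogonal groups) then the block-diagonal isometry diag(g₁, g₂) lies in Ω(Q). -/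
theorem result {F : Type*} [Field F] [Fintype F] {k l : ℕ} (Q₁ : QuadraticForm F (Fin k → F)) (Q₂ : QuadraticForm F (Fin l → F)) (h₁ : (QuadraticMap.polarBilin Q₁).Nondegenerate) (h₂ : (QuadraticMap.polarBilin Q₂).Nondegenerate) (g₁ : ↥(Cfsg.isometryGroup F ⇑Q₁)) (g₂ : ↥(Cfsg.isometryGroup F ⇑Q₂)) (hg₁ : g₁ ∈ Cfsg.Omega F ⇑Q₁) (hg₂ : g₂ ∈ Cfsg.Omega F ⇑Q₂) : ∃ g : ↥(Cfsg.isometryGroup F (fun v : Fin k ⊕ Fin l → F => Q₁ (v ∘ Sum.inl) + Q₂ (v ∘ Sum.inr))), g ∈ Cfsg.Omega F (fun v : Fin k ⊕ Fin l → F => Q₁ (v ∘ Sum.inl) + Q₂ (v ∘ Sum.inr)) ∧ ((g : Matrix.GeneralLinearGroup (Fin k ⊕ Fin l) F) : Matrix (Fin k ⊕ Fin l) (Fin k ⊕ Fin l) F) = Matrix.fromBlocks ((g₁ : Matrix.GeneralLinearGroup (Fin k) F) : Matrix (Fin k) (Fin k) F) 0 0 ((g₂ : Matrix.GeneralLinearGroup (Fin l) F) : Matrix (Fin l) (Fin l) F) := by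
  let φ := blockDiagIso (F := F) (⇑Q₁) (⇑Q₂)
  refine ⟨φ (g₁, 1) * φ (1, g₂), ?_, ?_⟩
  · apply Subgroup.mul_mem
    · exact map_mem_commutator (φ.comp (MonoidHom.inl _ _)) hg₁
    · exact map_mem_commutator (φ.comp (MonoidHom.inr _ _)) hg₂
  · rw [← map_mul]
    simp only [Prod.mk_mul_mk, mul_one, one_mul]
    rfl

end Cfsg.Agent.S2626
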