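import Cfsg.Statements.S2627
import Cfsg.Agent.Lib.Helper36.OrthSumMatrix

set_option autoImplicit false
open Cfsg

namespace Cfsg.Agent.S2627

theorem exists_ne_ne {F : Type*} [Field F] [Fintype F] (h : Fintype.card F ≠ 2) (a b : F) :
    ∃ x : F, x ≠ a ∧ x ≠ b := by
  classical
  by_contra hcon
  push Not at hcon
  have h1 : (Finset.univ : Finset F) ⊆ {a, b} := by
    intro x _
    by_cases hx : x = a
    · simp [hx]
    · simp [hcon x hx]
  have h2 := Finset.card_le_card h1
  have h3 : ({a, b} : Finset F).card ≤ 2 := Finset.card_le_two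
  have h4 : 1 < Fintype.card F := Fintype.one_lt_card
  rw [Finset.card_univ] at h2
  omega

/-- For an orthogonal direct sum Q = Q₁ ⊕ Q₂ of quadratic forms with non-degenerate polar forms over a finite field, an isometry g₁ of Q₁ extended by the identity on the second summand lies in Ω(Q) (the commutator subgroup of the orthogonal group of Q) if and only if g₁ lies in Ω(Q₁). (Excluded: the field of two elements when the first summand or the whole space has dimension 4, where the commutator subgroup of O⁺₄(2) is smaller than the group usually called Ω.) -/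
theorem result {F : Type*} [Field F] [Fintype F] {k l : ℕ} (h : Fintype.card F ≠ 2 ∨ (k ≠ 4 ∧ k + l ≠ 4)) (Q₁ : QuadraticForm F (Fin k → F)) (Q₂ : QuadraticForm F (Fin l → F)) (h₁ : (QuadraticMap.polarBilin Q₁).Nondegenerate) (h₂ : (QuadraticMap.polarBilin Q₂).Nondegenerate) (g₁ : ↥(Cfsg.isometryGroup F ⇑Q₁)) : (∃ g : ↥(Cfsg.isometryGroup F (fun v : Fin k ⊕ Fin l → F => Q₁ (v ∘ Sum.inl) + Q₂ (v ∘ Sum.inr))), g ∈ Cfsg.Omega F (fun v : Fin k ⊕ Fin l → F => Q₁ (v ∘ Sum.inl) + Q₂ (v ∘ Sum.inr)) ∧ ((g : Matrix.GeneralLinearGroup (Fin k ⊕ Fin l) F) : Matrix (Fin k ⊕ Fin l) (Fin k ⊕ Fin l) F) = Matrix.fromBlocks ((g₁ : Matrix.GeneralLinearGroup (Fin k) F) : Matrix (Fin k) (Fin k) F) 0 0 1) ↔ g₁ ∈ Cfsg.Omega F ⇑Q₁ := by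
  have hF₁ : (∀ a b : F, ∃ x : F, x ≠ a ∧ x ≠ b) ∨ Fintype.card (Fin k) ≠ 4 := by
    rcases h with h | h
    · left; exact exists_ne_ne h
    · right; rw [Fintype.card_fin]; exact h.1
  have hF : (∀ a b : F, ∃ x : F, x ≠ a ∧ x ≠ b) ∨
      Fintype.card (Fin k) + Fintype.card (Fin l) ≠ 4 := by
    rcases h with h | h
    · left; exact exists_ne_ne h
    · right; rw [Fintype.card_fin, Fintype.card_fin]; exact h.2
  exact Cfsg.Agent.Lib.Helper36.diag_one_mem_Omega_iff Q₁ Q₂ h₁ h₂ hF₁ hF g₁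

end Cfsg.Agent.S2627
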