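import Cfsg.Statements.S2628
import Cfsg.Agent.Lib.Helper36.OrthSumMatrix

set_option autoImplicit false
open Cfsg

namespace Cfsg.Agent.S2628

theorem exists_ne_ne {F : Type*} [Field F] [Fintype F] (h : Fintype.card F ≠ 2) (a b : F) :
    ∃ x : F, x ≠ a ∧ x ≠ b := by
  classical
  by_contra hcon
  push Not at hcon
  have h1 : (Finset.univ : Finset F) ⊆ {a, b} := by
    intro x _
    by_cases hx : x = a
    · simp [hx]
    · simp [hcon x hx]
  have h2 := Finset.card_le_card h1
  have h3 : ({a, b} : Finset F).card ≤ 2 := Finset.card_le_two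
  have h4 : 1 < Fintype.card F := Fintype.one_lt_card
  rw [Finset.card_univ] at h2
  omega

/-- For the orthogonal direct sum Q ⊕ Q of two copies of a quadratic form Q with non-degenerate polar form on F^k (F finite), every isometry g of Q acting diagonally, diag(g, g), lies in Ω(Q ⊕ Q), the commutator subgroup of the orthogonal group of Q ⊕ Q. (Excluded: k = 2 over the field of two elements, where Q ⊕ Q is the hyperbolic 4-space whose orthogonal group's commutator subgroup is smaller than the group usually called Ω.) -/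
theorem result {F : Type*} [Field F] [Fintype F] {k : ℕ} (h : Fintype.card F ≠ 2 ∨ k ≠ 2) (Q : QuadraticForm F (Fin k → F)) (hQ : (QuadraticMap.polarBilin Q).Nondegenerate) (g : ↥(Cfsg.isometryGroup F ⇑Q)) : ∃ x : ↥(Cfsg.isometryGroup F (fun v : Fin k ⊕ Fin k → F => Q (v ∘ Sum.inl) + Q (v ∘ Sum.inr))), x ∈ Cfsg.Omega F (fun v : Fin k ⊕ Fin k → F => Q (v ∘ Sum.inl) + Q (v ∘ Sum.inr)) ∧ ((x : Matrix.GeneralLinearGroup (Fin k ⊕ Fin k) F) : Matrix (Fin k ⊕ Fin k) (Fin k ⊕ Fin k) F) = Matrix.fromBlocks ((g : Matrix.GeneralLinearGroup (Fin k) F) : Matrix (Fin k) (Fin k) F) 0 0 ((g : Matrix.GeneralLinearGroup (Fin k) F) : Matrix (Fin k) (Fin k) F) := by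
  have hF : (∀ a b : F, ∃ x : F, x ≠ a ∧ x ≠ b) ∨
      Fintype.card (Fin k) + Fintype.card (Fin k) ≠ 4 := by
    rcases h with h | h
    · left; exact exists_ne_ne h
    · right; rw [Fintype.card_fin]; omega
  exact Cfsg.Agent.Lib.Helper36.diag_self_mem_Omega Q hQ hF g

end Cfsg.Agent.S2628
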