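import Cfsg.Statements.S2629
import Cfsg.Agent.Lib.Helper94.MaxSingularPlus
import Cfsg.Agent.Lib.Helper94.MaxSingularDet
import Cfsg.Agent.S0786

set_option autoImplicit false
open Cfsg

namespace Cfsg.Agent.S2629

/-- For the hyperbolic form Σ x_i y_i on F^(2m) over a finite field of odd order (m ≥ 1), an isometry g preserves the class of the maximal totally singular subspace U₀ = {y = 0} (that is, m − dim(U₀ ∩ gU₀) is even) if and only if det g = 1: the stabiliser of each of the two classes of maximal totally singular subspaces is SO. -/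
theorem result {F : Type*} [Field F] [Fintype F] (h2 : (2 : F) ≠ 0) {m : ℕ} (hm : 1 ≤ m) (g : ↥(Cfsg.isometryGroup F (Cfsg.quadFormPlus m F))) : Even (m - Module.finrank F ↥(LinearMap.ker (LinearMap.funLeft F F (Sum.inr : Fin m → Fin m ⊕ Fin m)) ⊓ (LinearMap.ker (LinearMap.funLeft F F (Sum.inr : Fin m → Fin m ⊕ Fin m))).map (Matrix.mulVecLin ((g : Matrix.GeneralLinearGroup (Fin m ⊕ Fin m) F) : Matrix (Fin m ⊕ Fin m) (Fin m ⊕ Fin m) F)))) ↔ ((g : Matrix.GeneralLinearGroup (Fin m ⊕ Fin m) F) : Matrix (Fin m ⊕ Fin m) (Fin m ⊕ Fin m) F).det = 1 := by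
  classical
  have hcard : Fintype.card F ≠ 2 := by
    intro hc
    apply h2
    have := Nat.cast_card_eq_zero F
    rw [hc] at this
    exact_mod_cast this
  have hF : (∀ a b : F, ∃ x : F, x ≠ a ∧ x ≠ b) ∨ Module.finrank F (Fin m ⊕ Fin m → F) ≠ 4 :=
    Or.inl (Cfsg.Agent.S0786.exists_ne_ne hcard)
  have hpar := Cfsg.Agent.Lib.Helper94.par_glEquiv_eq m F g
  have hU : LinearMap.ker (LinearMap.funLeft F F (Sum.inr : Fin m → Fin m ⊕ Fin m))
      = Cfsg.Agent.Lib.Helper94.U0 m F := rfl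
  have hmem : Cfsg.Agent.Lib.Helper94.glEquiv (Fin m ⊕ Fin m) F
      (g : Matrix.GeneralLinearGroup (Fin m ⊕ Fin m) F)
      ∈ Cfsg.Agent.Lib.Helper13.isoGroup (Cfsg.Agent.Lib.Helper94.plusQF m F) := by
    rw [← Cfsg.Agent.Lib.Helper94.OG_eq_isoGroup]
    exact Cfsg.Agent.Lib.Helper94.glEquiv_mem_OG _ g
  rw [hU, ← ZMod.natCast_eq_zero_iff_even, ← hpar,
    Cfsg.Agent.Lib.Helper94.par_eq_zero_iff_det (Cfsg.Agent.Lib.Helper94.plusQF m F)
      (Cfsg.Agent.Lib.Helper94.plusQF_nondeg m F) hF h2 _ hmem,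
    Cfsg.Agent.Lib.Helper94.glEquiv_coe, ← Matrix.toLin'_apply', LinearMap.det_toLin']


end Cfsg.Agent.S2629
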