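import Cfsg.Statements.S2630
import Cfsg.Agent.Lib.Helper94.MaxSingularPlus
import Cfsg.Agent.S0786

set_option autoImplicit false
open Cfsg

namespace Cfsg.Agent.S2630

/-- For the hyperbolic form Σ x_i y_i on F^(2m) over a finite field of characteristic two (m ≥ 1, excluding m = 2 over the field of two elements), an isometry g preserves the class of the maximal totally singular subspace U₀ = {y = 0} (m − dim(U₀ ∩ gU₀) even) if and only if g lies in Ω (the commutator subgroup of the orthogonal group): the stabiliser of each class is Ω. -/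
theorem result {F : Type*} [Field F] [Fintype F] [CharP F 2] {m : ℕ} (hm : 1 ≤ m) (h : Fintype.card F ≠ 2 ∨ m ≠ 2) (g : ↥(Cfsg.isometryGroup F (Cfsg.quadFormPlus m F))) : Even (m - Module.finrank F ↥(LinearMap.ker (LinearMap.funLeft F F (Sum.inr : Fin m → Fin m ⊕ Fin m)) ⊓ (LinearMap.ker (LinearMap.funLeft F F (Sum.inr : Fin m → Fin m ⊕ Fin m))).map (Matrix.mulVecLin ((g : Matrix.GeneralLinearGroup (Fin m ⊕ Fin m) F) : Matrix (Fin m ⊕ Fin m) (Fin m ⊕ Fin m) F)))) ↔ g ∈ Cfsg.Omega F (Cfsg.quadFormPlus m F) := by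
  classical
  have hF : (∀ a b : F, ∃ x : F, x ≠ a ∧ x ≠ b) ∨ Module.finrank F (Fin m ⊕ Fin m → F) ≠ 4 := by
    rcases h with h | h
    · left; exact Cfsg.Agent.S0786.exists_ne_ne h
    · right
      rw [Cfsg.Agent.Lib.Helper94.finrank_plusSpace]
      omega
  have hsq : ∀ a : F, IsSquare a := FiniteField.isSquare_of_char_two (ringChar.eq F 2)
  have hpar := Cfsg.Agent.Lib.Helper94.par_glEquiv_eq m F g
  have hU : LinearMap.ker (LinearMap.funLeft F F (Sum.inr : Fin m → Fin m ⊕ Fin m))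
      = Cfsg.Agent.Lib.Helper94.U0 m F := rfl
  rw [hU, ← ZMod.natCast_eq_zero_iff_even, ← hpar, Cfsg.Agent.Lib.Helper94.mem_Omega_iff]
  constructor
  · intro h0
    exact Cfsg.Agent.Lib.Helper94.mem_commutator_of_par_eq_zero (Cfsg.Agent.Lib.Helper94.plusQF m F)
      (Cfsg.Agent.Lib.Helper94.plusQF_nondeg m F) hF hsq _
      (Cfsg.Agent.Lib.Helper94.glEquiv_mem_OG _ g) h0
  · intro hmem
    exact Cfsg.Agent.Lib.Helper94.par_eq_zero_of_mem_commutator (Cfsg.Agent.Lib.Helper94.plusQF m F)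
      (Cfsg.Agent.Lib.Helper94.plusQF_nondeg m F) hF _ hmem


end Cfsg.Agent.S2630
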