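import Cfsg.Statements.S2631
import Cfsg.Agent.Lib.Helper94.MaxSingular2
import Cfsg.Agent.Lib.Helper94.MaxSingularPlus

set_option autoImplicit false
open Cfsg

namespace Cfsg.Agent.S2631

/-- For the hyperbolic form Σ x_i y_i on F^(2m) over a finite field (m ≥ 1, excluding m = 2 over the field of two elements), Ω (the commutator subgroup of the orthogonal group) acts transitively on each of the two classes of maximal totally singular subspaces: if U and W are m-dimensional totally singular subspaces with m − dim(U ∩ W) even, some element of Ω carries U to W. -/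
theorem result {F : Type*} [Field F] [Fintype F] {m : ℕ} (hm : 1 ≤ m) (h : Fintype.card F ≠ 2 ∨ m ≠ 2) (U W : Submodule F (Fin m ⊕ Fin m → F)) (hU : Module.finrank F U = m) (hW : Module.finrank F W = m) (hU0 : ∀ u ∈ U, Cfsg.quadFormPlus m F u = 0) (hW0 : ∀ w ∈ W, Cfsg.quadFormPlus m F w = 0) (he : Even (m - Module.finrank F ↥(U ⊓ W))) : ∃ g : ↥(Cfsg.isometryGroup F (Cfsg.quadFormPlus m F)), g ∈ Cfsg.Omega F (Cfsg.quadFormPlus m F) ∧ U.map (Matrix.mulVecLin ((g : Matrix.GeneralLinearGroup (Fin m ⊕ Fin m) F) : Matrix (Fin m ⊕ Fin m) (Fin m ⊕ Fin m) F)) = W := by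
  classical
  have hfV := Cfsg.Agent.Lib.Helper94.finrank_plusSpace m F
  have hle : Module.finrank F (W ⊓ U : Submodule F (Fin m ⊕ Fin m → F)) ≤ m :=
    le_trans (Submodule.finrank_mono inf_le_left) (le_of_eq hW)
  obtain ⟨j, hj⟩ := he
  obtain ⟨x, hx, hmap⟩ := Cfsg.Agent.Lib.Helper94.exists_mem_commutator_map_eq
    (Cfsg.Agent.Lib.Helper94.plusQF m F) (Cfsg.Agent.Lib.Helper94.plusQF_nondeg m F) W hW0
    (by rw [hW, hfV]) j U hU0 (by rw [hU, hW])
    (by rw [hW, inf_comm]; omega)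
  rw [← Cfsg.Agent.Lib.Helper94.OG_eq_isoGroup] at hx
  have hxO : x ∈ Cfsg.Agent.Lib.Helper94.OG (Cfsg.quadFormPlus m F) :=
    Cfsg.Agent.Lib.Helper94.QuadData.commutator_le_OG hx
  have hmemI : (Cfsg.Agent.Lib.Helper94.glEquiv (Fin m ⊕ Fin m) F).symm x
      ∈ Cfsg.isometryGroup F (Cfsg.quadFormPlus m F) := by
    rw [← Cfsg.Agent.Lib.Helper94.map_isometryGroup, Subgroup.mem_map_equiv] at hxO
    exact hxO
  refine ⟨⟨_, hmemI⟩, ?_, ?_⟩
  · rw [Cfsg.Agent.Lib.Helper94.mem_Omega_iff]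
    show Cfsg.Agent.Lib.Helper94.glEquiv (Fin m ⊕ Fin m) F
      ((Cfsg.Agent.Lib.Helper94.glEquiv (Fin m ⊕ Fin m) F).symm x) ∈ _
    rw [MulEquiv.apply_symm_apply]
    exact hx
  · show U.map (Matrix.mulVecLin (((Cfsg.Agent.Lib.Helper94.glEquiv (Fin m ⊕ Fin m) F).symm x :
      Matrix.GeneralLinearGroup (Fin m ⊕ Fin m) F) : Matrix (Fin m ⊕ Fin m) (Fin m ⊕ Fin m) F)) = W
    rw [← Cfsg.Agent.Lib.Helper94.glEquiv_coe, MulEquiv.apply_symm_apply]
    exact hmap


end Cfsg.Agent.S2631
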