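import Cfsg.Statements.S2636
-- import your own Cfsg.Agent.* helpers here

set_option autoImplicit false
open Cfsg

namespace Cfsg.Agent.S2636

section
open Module Matrix
set_option linter.unusedVariables false

section
variable {F : Type*} [Field F] (σ : F ≃+* F)

/-- the fixed field of `σ` -/
abbrev fixF : Subfield F := FixedPoints.subfield (Subgroup.zpowers σ) F

theorem mem_fixed_iff (x : F) : x ∈ fixF σ ↔ σ x = x := by
  constructor
  · intro h
    exact h ⟨σ, Subgroup.mem_zpowers σ⟩
  · intro h τ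
    obtain ⟨τ, hτ⟩ := τ
    obtain ⟨k, rfl⟩ := Subgroup.mem_zpowers_iff.1 hτ
    show (σ ^ k) x = x
    have h1 : ∀ m : ℕ, (σ ^ m) x = x := by
      intro m
      induction m with
      | zero => simp
      | succ m ih => rw [pow_succ, RingAut.mul_apply, h, ih]
    have h2 : ∀ m : ℕ, (σ ^ m)⁻¹ x = x := by
      intro m
      have := h1 m
      conv_lhs => rw [← this]
      rw [← RingAut.mul_apply, inv_mul_cancel]; rfl
    rcases Int.eq_nat_or_neg k with ⟨m, rfl | rfl⟩
    · rw [zpow_natCast]; exact h1 m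
    · rw [_root_.zpow_neg, zpow_natCast]; exact h2 m


variable (n : ℕ)

/-- `(d, h) ↦ d • h` from `Fˣ × GL_n(F₀)` to `GL_n(F)` -/
noncomputable def piHom : Fˣ × GL (Fin n) (fixF σ) →* GL (Fin n) F :=
  MonoidHom.noncommCoprod (GeneralLinearGroup.scalar (Fin n))
    (GeneralLinearGroup.map (fixF σ).subtype)
    (fun d h => GeneralLinearGroup.scalar_commute d _)

theorem piHom_val (d : Fˣ) (h : GL (Fin n) (fixF σ)) :
    ((piHom σ n (d, h) : GL (Fin n) F) : Matrix (Fin n) (Fin n) F) =
      (d : F) • (h : Matrix (Fin n) (Fin n) (fixF σ)).map (fixF σ).subtype := by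
  have h1 : piHom σ n (d, h) =
      GeneralLinearGroup.scalar (Fin n) d * GeneralLinearGroup.map (fixF σ).subtype h := rfl
  rw [h1, Units.val_mul, GeneralLinearGroup.coe_scalar]
  ext i j
  rw [Matrix.scalar_apply, Matrix.diagonal_mul, Matrix.smul_apply, Matrix.map_apply, smul_eq_mul]
  rfl

theorem mem_range_piHom_iff (hn : 1 ≤ n) (g : GL (Fin n) F) :
    g ∈ (piHom σ n).range ↔
      ∃ c : F, c ≠ 0 ∧ (g : Matrix (Fin n) (Fin n) F).map σ = c • (g : Matrix (Fin n) (Fin n) F) := by
  constructor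
  · rintro ⟨⟨d, h⟩, rfl⟩
    refine ⟨σ d / d, div_ne_zero (by simp) (by simp), ?_⟩
    rw [piHom_val]
    ext i j
    have hfix : σ ((h : Matrix (Fin n) (Fin n) (fixF σ)) i j : F) = ((h : Matrix (Fin n) (Fin n) (fixF σ)) i j : F) :=
      (mem_fixed_iff σ _).1 (SetLike.coe_mem _)
    simp only [Matrix.map_apply, Matrix.smul_apply, smul_eq_mul, map_mul, Subfield.coe_subtype, hfix]
    field_simp
  · rintro ⟨c, hc, hg⟩
    have : Nonempty (Fin n) := ⟨⟨0, hn⟩⟩
    obtain ⟨i₀, j₀, he⟩ : ∃ i j, (g : Matrix (Fin n) (Fin n) F) i j ≠ 0 := by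
      by_contra hcon
      push Not at hcon
      have h0 : (g : Matrix (Fin n) (Fin n) F) = 0 := by ext i j; exact hcon i j
      have h1 : (g : Matrix (Fin n) (Fin n) F) * ((g⁻¹ : GL (Fin n) F) : Matrix (Fin n) (Fin n) F) = 1 := by
        rw [← Units.val_mul, mul_inv_cancel]; rfl
      rw [h0, zero_mul] at h1
      exact zero_ne_one h1
    set e := (g : Matrix (Fin n) (Fin n) F) i₀ j₀ with he_def
    have hσe : σ e = c * e := by
      have := congrFun (congrFun hg i₀) j₀
      simpa using this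
    have hentry : ∀ i j, σ (e⁻¹ * (g : Matrix (Fin n) (Fin n) F) i j) = e⁻¹ * (g : Matrix (Fin n) (Fin n) F) i j := by
      intro i j
      have h1 : σ ((g : Matrix (Fin n) (Fin n) F) i j) = c * (g : Matrix (Fin n) (Fin n) F) i j := by
        have := congrFun (congrFun hg i) j
        simpa using this
      rw [map_mul, map_inv₀, hσe, h1]
      field_simp
    let M₀ : Matrix (Fin n) (Fin n) (fixF σ) := fun i j =>
      ⟨e⁻¹ * (g : Matrix (Fin n) (Fin n) F) i j, (mem_fixed_iff σ _).2 (hentry i j)⟩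
    have hM₀ : M₀.map (fixF σ).subtype = e⁻¹ • (g : Matrix (Fin n) (Fin n) F) := by
      ext i j
      rfl
    have hdet : M₀.det ≠ 0 := by
      intro h0
      have h1 : (M₀.map (fixF σ).subtype).det = 0 := by
        have := RingHom.map_det (fixF σ).subtype M₀
        rw [RingHom.mapMatrix_apply] at this
        rw [← this, h0, map_zero]
      rw [hM₀, Matrix.det_smul] at h1
      have h2 : (g : Matrix (Fin n) (Fin n) F).det ≠ 0 := (Matrix.isUnits_det_units g).ne_zero
      rcases mul_eq_zero.1 h1 with h3 | h3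
      · exact inv_ne_zero he (pow_eq_zero_iff (Fintype.card_ne_zero) |>.1 h3)
      · exact h2 h3
    refine ⟨(Units.mk0 e he, GeneralLinearGroup.mkOfDetNeZero M₀ hdet), ?_⟩
    apply Units.ext
    rw [piHom_val]
    show e • M₀.map (fixF σ).subtype = _
    rw [hM₀, smul_smul, mul_inv_cancel₀ he, one_smul]

/-- the kernel of `piHom`, parametrised by `F₀ˣ` -/
noncomputable def rhoHom : (fixF σ)ˣ →* Fˣ × GL (Fin n) (fixF σ) :=
  MonoidHom.prod (Units.map ((fixF σ).subtype : (fixF σ) →* F))⁻¹ (GeneralLinearGroup.scalar (Fin n))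

theorem rhoHom_injective : Function.Injective (rhoHom σ n) := by
  intro e e' h
  have h1 : (Units.map ((fixF σ).subtype : (fixF σ) →* F) e)⁻¹ =
      (Units.map ((fixF σ).subtype : (fixF σ) →* F) e')⁻¹ := congrArg Prod.fst h
  have h2 := inv_injective h1
  exact Units.map_injective (f := ((fixF σ).subtype : (fixF σ) →* F)) Subtype.val_injective h2

theorem map_subtype_injective :
    Function.Injective (GeneralLinearGroup.map (n := Fin n) (fixF σ).subtype) := by
  intro g h hgh
  apply Units.ext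
  ext i j
  have := congrArg (fun x : GL (Fin n) F => x i j) hgh
  simp only [GeneralLinearGroup.map_apply] at this
  exact this

theorem range_rhoHom (hn : 1 ≤ n) : (rhoHom σ n).range = (piHom σ n).ker := by
  ext ⟨d, h⟩
  rw [MonoidHom.mem_ker]
  constructor
  · rintro ⟨e, he⟩
    rw [← he]
    show GeneralLinearGroup.scalar (Fin n) (Units.map ((fixF σ).subtype : (fixF σ) →* F) e)⁻¹ *
      GeneralLinearGroup.map (fixF σ).subtype (GeneralLinearGroup.scalar (Fin n) e) = 1
    rw [GeneralLinearGroup.map_scalar, ← map_mul]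
    simp
  · intro hker
    have hker' : GeneralLinearGroup.scalar (Fin n) d * GeneralLinearGroup.map (fixF σ).subtype h = 1 := hker
    have h1 : GeneralLinearGroup.map (fixF σ).subtype h = GeneralLinearGroup.scalar (Fin n) d⁻¹ := by
      rw [map_inv]
      exact eq_inv_of_mul_eq_one_right hker'
    let i₀ : Fin n := ⟨0, hn⟩
    have h2 : (((h : Matrix (Fin n) (Fin n) (fixF σ)) i₀ i₀ : fixF σ) : F) = ((d⁻¹ : Fˣ) : F) := by
      have := congrArg (fun x : GL (Fin n) F => x i₀ i₀) h1
      simp only [GeneralLinearGroup.map_apply] at this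
      refine this.trans ?_
      rw [GeneralLinearGroup.coe_scalar, Matrix.scalar_apply, Matrix.diagonal_apply_eq]
    have h3 : (h : Matrix (Fin n) (Fin n) (fixF σ)) i₀ i₀ ≠ 0 := by
      intro h0
      rw [h0] at h2
      exact (Units.ne_zero (d⁻¹)) h2.symm
    have h4 : Units.map ((fixF σ).subtype : (fixF σ) →* F) (Units.mk0 _ h3) = d⁻¹ := by
      apply Units.ext
      exact h2
    refine ⟨Units.mk0 _ h3, ?_⟩
    show ((Units.map ((fixF σ).subtype : (fixF σ) →* F) (Units.mk0 _ h3))⁻¹,
      GeneralLinearGroup.scalar (Fin n) (Units.mk0 _ h3)) = (d, h)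
    rw [h4, inv_inv]
    congr 1
    apply map_subtype_injective σ n
    rw [GeneralLinearGroup.map_scalar, h1]
    congr 1

theorem card_ker_piHom (hn : 1 ≤ n) : Nat.card (piHom σ n).ker = Nat.card (fixF σ)ˣ := by
  rw [← range_rhoHom σ n hn]
  exact Nat.card_congr (MonoidHom.ofInjective (rhoHom_injective σ n)).toEquiv.symm

theorem card_fixed {F : Type*} [Field F] [Fintype F] (σ : F ≃+* F) (q₀ r : ℕ) (hr : r.Prime)
    (hF : Fintype.card F = q₀ ^ r) (hσ : orderOf σ = r) :
    Nat.card (fixF σ) = q₀ := by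
  classical
  have : Finite (F ≃+* F) := Finite.of_injective (fun e : F ≃+* F => (e : F → F)) DFunLike.coe_injective
  have : Fintype (Subgroup.zpowers σ) := Fintype.ofFinite _
  have h1 : finrank (fixF σ) F = Fintype.card (Subgroup.zpowers σ) :=
    FixedPoints.finrank_eq_card _ F
  have h2 : Fintype.card (Subgroup.zpowers σ) = r := by
    rw [Fintype.card_eq_nat_card, Nat.card_zpowers, hσ]
  have h3 := Module.natCard_eq_pow_finrank (K := fixF σ) (V := F)
  rw [h1, h2, Nat.card_eq_fintype_card, hF] at h3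
  exact (Nat.pow_left_injective hr.ne_zero h3).symm

theorem main_count {F : Type*} [Field F] [Fintype F] {q₀ r n : ℕ} (hr : r.Prime) (hn : 1 ≤ n) (hF : Fintype.card F = q₀ ^ r) (σ : F ≃+* F) (hσ : orderOf σ = r) : Nat.card {g : GL (Fin n) F // ∃ c : F, c ≠ 0 ∧ (g : Matrix (Fin n) (Fin n) F).map σ = c • (g : Matrix (Fin n) (Fin n) F)} = (q₀ ^ r - 1) / (q₀ - 1) * ∏ i : Fin n, (q₀ ^ n - q₀ ^ (i : ℕ)) := by
  classical
  have hS : Nat.card {g : GL (Fin n) F // ∃ c : F, c ≠ 0 ∧
      (g : Matrix (Fin n) (Fin n) F).map σ = c • (g : Matrix (Fin n) (Fin n) F)} =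
      Nat.card (piHom σ n).range :=
    Nat.card_congr (Equiv.subtypeEquivRight (fun g => (mem_range_piHom_iff σ n hn g).symm))
  rw [hS]
  have h1 : Nat.card (piHom σ n).range * Nat.card (piHom σ n).ker =
      Nat.card (Fˣ × GL (Fin n) (fixF σ)) := by
    rw [← Subgroup.index_ker, mul_comm, Subgroup.card_mul_index]
  have : Fintype (fixF σ) := Fintype.ofFinite _
  have hq₀ : Fintype.card (fixF σ) = q₀ := by
    rw [Fintype.card_eq_nat_card]; exact card_fixed σ q₀ r hr hF hσ
  have hA : Nat.card Fˣ = q₀ ^ r - 1 := by rw [Nat.card_units, Nat.card_eq_fintype_card, hF]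
  have hB : Nat.card (fixF σ)ˣ = q₀ - 1 := by rw [Nat.card_units, card_fixed σ q₀ r hr hF hσ]
  have hC : Nat.card (GL (Fin n) (fixF σ)) = ∏ i : Fin n, (q₀ ^ n - q₀ ^ (i : ℕ)) := by
    rw [Matrix.card_GL_field, hq₀]
  rw [card_ker_piHom σ n hn, Nat.card_prod, hA, hB, hC] at h1
  have hq₀2 : 2 ≤ q₀ := by
    rw [← hq₀]; exact Fintype.one_lt_card
  have hdvd : q₀ - 1 ∣ q₀ ^ r - 1 := Nat.sub_one_dvd_pow_sub_one q₀ r
  obtain ⟨t, ht⟩ := hdvd
  rw [ht, Nat.mul_div_cancel_left _ (by omega)]
  rw [ht] at h1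
  have h3 : 0 < q₀ - 1 := by omega
  apply Nat.eq_of_mul_eq_mul_right h3
  rw [h1]
  ring

end

end


/-- Centraliser of a field automorphism in PGL_n: let F be the field with q = q₀^r elements, σ a field automorphism of F of prime order r (so its fixed field has q₀ elements) and n ≥ 1. The invertible matrices g whose entrywise image under σ is a scalar multiple of g — those whose coset modulo scalars is fixed by σ — number (q − 1)/(q₀ − 1) · |GL_n(q₀)|; equivalently the centraliser in PGL_n(q) of the induced automorphism has the order of PGL_n(q₀). -/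
theorem result {F : Type*} [Field F] [Fintype F] {q₀ r n : ℕ} (hr : r.Prime) (hn : 1 ≤ n) (hF : Fintype.card F = q₀ ^ r) (σ : F ≃+* F) (hσ : orderOf σ = r) : Nat.card {g : GL (Fin n) F // ∃ c : F, c ≠ 0 ∧ (g : Matrix (Fin n) (Fin n) F).map σ = c • (g : Matrix (Fin n) (Fin n) F)} = (q₀ ^ r - 1) / (q₀ - 1) * ∏ i : Fin n, (q₀ ^ n - q₀ ^ (i : ℕ)) := by
  exact main_count hr hn hF σ hσ

end Cfsg.Agent.S2636
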