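import Cfsg.Statements.S2638

set_option autoImplicit false
open Cfsg

namespace Cfsg.Agent.S2638

open Polynomial

section part2
variable {F : Type*} [Field F]

/-- the algebra map `F[X]/(minpoly A) → M_n(F)` -/
noncomputable def phi {n : ℕ} (A : Matrix (Fin n) (Fin n) F) :
    AdjoinRoot (minpoly F A) →ₐ[F] Matrix (Fin n) (Fin n) F :=
  Ideal.Quotient.liftₐ (Ideal.span {minpoly F A}) (aeval A) (by
    intro a ha
    obtain ⟨b, rfl⟩ := Ideal.mem_span_singleton.1 ha
    rw [map_mul, minpoly.aeval, zero_mul])

theorem phi_mk {n : ℕ} (A : Matrix (Fin n) (Fin n) F) (p : F[X]) :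
    phi A (AdjoinRoot.mk (minpoly F A) p) = aeval A p := rfl

/-- If the minimal polynomial of `A` is irreducible of degree `n`, then every matrix commuting
with `A` is in the image of `AdjoinRoot (minpoly F A)`. -/
theorem commutant_le_range {n : ℕ} (hn : 1 ≤ n) (A : Matrix (Fin n) (Fin n) F)
    [hirr : Fact (Irreducible (minpoly F A))] (hdeg : (minpoly F A).natDegree = n)
    (c : Matrix (Fin n) (Fin n) F) (hc : Commute c A) :
    ∃ g : AdjoinRoot (minpoly F A), phi A g = c := by
  classical
  have hm0 : minpoly F A ≠ 0 := hirr.out.ne_zero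
  -- every φ g commutes with c
  have hcomm : ∀ g, Commute c (phi A g) := by
    intro g
    induction g using AdjoinRoot.induction_on with
    | ih p =>
      rw [phi_mk]
      induction p using Polynomial.induction_on' with
      | add p q hp hq => rw [map_add]; exact hp.add_right hq
      | monomial k a =>
        rw [aeval_monomial]
        exact (Algebra.commute_algebraMap_right a c).mul_right (hc.pow_right k)
  -- a nonzero vector
  let v : Fin n → F := fun _ => 1
  have hv : v ≠ 0 := by
    intro h
    have := congrFun h ⟨0, hn⟩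
    simp [v] at this
  -- evaluation map
  let ev : AdjoinRoot (minpoly F A) →ₗ[F] (Fin n → F) :=
    { toFun := fun g => (phi A g).mulVec v
      map_add' := fun a b => by simp [Matrix.add_mulVec]
      map_smul' := fun a b => by simp [Matrix.smul_mulVec] }
  have hev : ∀ g, ev g = (phi A g).mulVec v := fun _ => rfl
  have hev_inj : Function.Injective ev := by
    rw [← LinearMap.ker_eq_bot, LinearMap.ker_eq_bot']
    intro g hg
    by_contra hg0
    apply hv
    have h1 : (phi A g⁻¹ * phi A g).mulVec v = v := by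
      rw [← map_mul, inv_mul_cancel₀ hg0, map_one, Matrix.one_mulVec]
    rw [← h1, ← Matrix.mulVec_mulVec, ← hev g, hg, Matrix.mulVec_zero]
  have hfin : Module.finrank F (AdjoinRoot (minpoly F A)) = Module.finrank F (Fin n → F) := by
    rw [(AdjoinRoot.powerBasis hm0).finrank, AdjoinRoot.powerBasis_dim, hdeg]
    simp
  have : FiniteDimensional F (AdjoinRoot (minpoly F A)) := (AdjoinRoot.powerBasis hm0).finite
  have hev_surj : Function.Surjective ev :=
    (LinearMap.injective_iff_surjective_of_finrank_eq_finrank hfin).1 hev_inj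
  obtain ⟨g, hg⟩ := hev_surj (c.mulVec v)
  refine ⟨g, ?_⟩
  -- φ g and c agree on all vectors
  apply Matrix.toLin'.injective
  apply LinearMap.ext
  intro w
  obtain ⟨h, rfl⟩ := hev_surj w
  simp only [Matrix.toLin'_apply]
  rw [hev h, Matrix.mulVec_mulVec, Matrix.mulVec_mulVec, ← map_mul, mul_comm, map_mul,
    ← Matrix.mulVec_mulVec, (hcomm h).eq, ← Matrix.mulVec_mulVec, ← hev g, hg]


end part2

section part1
variable {F : Type*} [Field F] [Fintype F]

/-- the minimal polynomial of a matrix of prime order r (≠ char) with ord_r(q) = n is irreducible of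
degree n. -/
theorem minpoly_irreducible {p q : ℕ} [Fact p.Prime] [CharP F p] (hF : Fintype.card F = q)
    {n r : ℕ} (hr : r.Prime) (hrp : r ≠ p) (hi : orderOf (q : ZMod r) = n)
    (A : Matrix (Fin n) (Fin n) F) (hA : A ^ r = 1) (hA1 : A ≠ 1) :
    Irreducible (minpoly F A) ∧ (minpoly F A).natDegree = n := by
  classical
  obtain ⟨f, hf⟩ : ∃ f : ℕ, Fintype.card F = p ^ f := by
    obtain ⟨⟨f, _⟩, hf⟩ := FiniteField.card F p
    exact ⟨f, hf.2⟩
  have hpr : p.Coprime r := (Nat.coprime_primes (Fact.out : p.Prime) hr).2 (Ne.symm hrp)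
  have hrF : (r : F) ≠ 0 := by
    intro h
    have := (CharP.cast_eq_zero_iff F p r).1 h
    exact hrp ((Nat.prime_dvd_prime_iff_eq (Fact.out : p.Prime) hr).1 this).symm
  set m := minpoly F A with hm
  have hint : IsIntegral F A := Matrix.isIntegral A
  have hm0 : m ≠ 0 := minpoly.ne_zero hint
  have hmdvd : m ∣ X ^ r - 1 := by
    apply minpoly.dvd
    simp [hA]
  have hfac : (X ^ r - 1 : F[X]) = (X - 1) * cyclotomic r F := by
    rw [← prod_cyclotomic_eq_X_pow_sub_one hr.pos, Nat.Prime.divisors hr,
      Finset.prod_pair hr.one_lt.ne, cyclotomic_one]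
  have hdeg_le : m.natDegree ≤ n := by
    have h1 : m ∣ A.charpoly := Matrix.minpoly_dvd_charpoly A
    have h2 := natDegree_le_of_dvd h1 (Matrix.charpoly_monic A).ne_zero
    simpa [Matrix.charpoly_natDegree_eq_dim] using h2
  -- m and cyclotomic r are not coprime
  have hncop : ¬ IsCoprime m (cyclotomic r F) := by
    intro hc
    have h1 : m ∣ X - 1 := by
      rw [hfac] at hmdvd
      exact hc.dvd_of_dvd_mul_right hmdvd
    obtain ⟨c, hc'⟩ := h1
    have h2 : aeval A (X - 1 : F[X]) = 0 := by
      rw [hc', map_mul, minpoly.aeval, zero_mul]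
    apply hA1
    simpa [sub_eq_zero] using h2
  have hgcd : ¬ IsUnit (EuclideanDomain.gcd m (cyclotomic r F)) := by
    rwa [EuclideanDomain.gcd_isUnit_iff]
  have hgcd0 : EuclideanDomain.gcd m (cyclotomic r F) ≠ 0 := by
    intro h
    rw [EuclideanDomain.gcd_eq_zero_iff] at h
    exact hm0 h.1
  obtain ⟨P, hPirr, hPdvd⟩ := WfDvdMonoid.exists_irreducible_factor hgcd hgcd0
  have hPm : P ∣ m := hPdvd.trans (EuclideanDomain.gcd_dvd_left _ _)
  have hPc : P ∣ cyclotomic r F := hPdvd.trans (EuclideanDomain.gcd_dvd_right _ _)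
  have hPdeg : P.natDegree = n := by
    rw [natDegree_of_dvd_cyclotomic_of_irreducible hf hpr hPc hPirr, ← hi, ← orderOf_units]
    congr 1
    rw [ZMod.coe_unitOfCoprime, ← hF, hf]
  have hassoc : Associated P m := by
    apply associated_of_dvd_of_natDegree_le hPm hm0
    rw [hPdeg]; exact hdeg_le
  refine ⟨hassoc.irreducible hPirr, ?_⟩
  have := natDegree_le_of_dvd hPm hm0
  omega


end part1

/-- If an element x of GL_n(q), n ≥ 1, has prime order r and the multiplicative order of q modulo r is n (r is a primitive prime divisor of q^n − 1, so x acts irreducibly), then the centraliser of x in GL_n(q) is cyclic of order q^n − 1 (the multiplicative group of the field with q^n elements, a Singer cycle). -/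
theorem result {F : Type*} [Field F] [Fintype F] {p q : ℕ} [Fact p.Prime] [CharP F p] (hF : Fintype.card F = q) {n r : ℕ} (hn : 1 ≤ n) (hr : r.Prime) (hrp : r ≠ p) (hi : orderOf (q : ZMod r) = n) (x : GL (Fin n) F) (hx : orderOf x = r) : IsCyclic ↥(Subgroup.centralizer ({x} : Set (GL (Fin n) F))) ∧ Nat.card ↥(Subgroup.centralizer ({x} : Set (GL (Fin n) F))) = q ^ n - 1 := by
  classical
  haveI : Nonempty (Fin n) := ⟨⟨0, hn⟩⟩
  set A : Matrix (Fin n) (Fin n) F := (x : Matrix (Fin n) (Fin n) F) with hAdef
  have hA : A ^ r = 1 := by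
    have h1 := pow_orderOf_eq_one x
    rw [hx] at h1
    have h2 := congrArg Units.val h1
    simpa using h2
  have hA1 : A ≠ 1 := by
    intro h
    have h1 : x = 1 := Units.ext h
    rw [h1, orderOf_one] at hx
    exact hr.one_lt.ne hx
  obtain ⟨hirr, hdeg⟩ := minpoly_irreducible hF hr hrp hi A hA hA1
  haveI : Fact (Irreducible (minpoly F A)) := ⟨hirr⟩
  have hm0 : minpoly F A ≠ 0 := hirr.ne_zero
  haveI : FiniteDimensional F (AdjoinRoot (minpoly F A)) := (AdjoinRoot.powerBasis hm0).finite
  haveI : Finite (AdjoinRoot (minpoly F A)) := Module.finite_of_finite F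
  have hphi_inj : Function.Injective (phi A) := (phi A).toRingHom.injective
  have hphi_root : phi A (AdjoinRoot.root (minpoly F A)) = A := by
    have : AdjoinRoot.root (minpoly F A) = AdjoinRoot.mk (minpoly F A) X := rfl
    rw [this, phi_mk, aeval_X]
  let ψ : (AdjoinRoot (minpoly F A))ˣ →* GL (Fin n) F := Units.map (phi A : _ →* _)
  have hψ_val : ∀ g, ((ψ g : GL (Fin n) F) : Matrix (Fin n) (Fin n) F) = phi A g := fun _ => rfl
  have hmem : ∀ g, ψ g ∈ Subgroup.centralizer ({x} : Set (GL (Fin n) F)) := by
    intro g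
    rw [Subgroup.mem_centralizer_iff]
    intro h hh
    rw [Set.mem_singleton_iff] at hh
    subst hh
    apply Units.ext
    rw [Units.val_mul, Units.val_mul, hψ_val]
    show A * phi A g = phi A g * A
    calc A * phi A g = phi A (AdjoinRoot.root (minpoly F A)) * phi A g := by rw [hphi_root]
      _ = phi A (AdjoinRoot.root (minpoly F A) * g) := (map_mul _ _ _).symm
      _ = phi A (g * AdjoinRoot.root (minpoly F A)) := by rw [mul_comm]
      _ = phi A g * phi A (AdjoinRoot.root (minpoly F A)) := map_mul _ _ _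
      _ = phi A g * A := by rw [hphi_root]
  let ψ' : (AdjoinRoot (minpoly F A))ˣ →* Subgroup.centralizer ({x} : Set (GL (Fin n) F)) :=
    ψ.codRestrict _ hmem
  have hψ'_inj : Function.Injective ψ' := by
    intro g h hgh
    have h1 : ψ g = ψ h := congrArg Subtype.val hgh
    have h2 : phi A g = phi A h := by rw [← hψ_val, ← hψ_val, h1]
    exact Units.ext (hphi_inj h2)
  have hψ'_surj : Function.Surjective ψ' := by
    rintro ⟨u, hu⟩
    rw [Subgroup.mem_centralizer_iff] at hu
    have hux := hu x (Set.mem_singleton x)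
    have hcomm : Commute (u : Matrix (Fin n) (Fin n) F) A := by
      have := congrArg Units.val hux
      simp only [Units.val_mul] at this
      exact this.symm
    obtain ⟨g, hg⟩ := commutant_le_range hn A hdeg _ hcomm
    have hg0 : g ≠ 0 := by
      rintro rfl
      rw [map_zero] at hg
      exact Units.ne_zero u hg.symm
    refine ⟨Units.mk0 g hg0, ?_⟩
    apply Subtype.ext
    apply Units.ext
    show phi A g = u
    exact hg
  let e : (AdjoinRoot (minpoly F A))ˣ ≃* Subgroup.centralizer ({x} : Set (GL (Fin n) F)) :=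
    MulEquiv.ofBijective ψ' ⟨hψ'_inj, hψ'_surj⟩
  refine ⟨isCyclic_of_surjective e e.surjective, ?_⟩
  rw [← Nat.card_congr e.toEquiv, Nat.card_units, Module.natCard_eq_pow_finrank (K := F),
    (AdjoinRoot.powerBasis hm0).finrank, AdjoinRoot.powerBasis_dim, hdeg, Nat.card_eq_fintype_card,
    hF]

end Cfsg.Agent.S2638
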