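import Cfsg.Statements.S2639
import Cfsg.Agent.Lib.Helper45.FiniteFieldEmbed
-- import your own Cfsg.Agent.* helpers here

set_option autoImplicit false
open Cfsg

namespace Cfsg.Agent.S2639

open Module

set_option linter.unusedSectionVars false


section
variable {K F : Type*} [Field K] [Fintype K] [Field F] [Fintype F] [Algebra F K]

/-- In a quadratic extension `K/F` of finite fields, with `σ x = x ^ #F`: a good basis `1, ω`. -/
theorem exists_good_basis (h2 : finrank F K = 2) :
    ∃ (b : Basis (Fin 2) F K) (s n : F), b 0 = 1 ∧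
      (b 1) ^ Fintype.card F = algebraMap F K s - b 1 ∧
      b 1 * (b 1) ^ Fintype.card F = algebraMap F K n := by
  classical
  have : FiniteDimensional F K := Module.finite_of_finrank_pos (by omega)
  set σ := FiniteField.frobeniusAlgHom F K with hσ
  have hσapp : ∀ x, σ x = x ^ Fintype.card F := fun x => rfl
  have hord : orderOf σ = 2 := by rw [FiniteField.orderOf_frobeniusAlgHom, h2]
  have hσ1 : σ ≠ 1 := by
    intro h
    rw [h, orderOf_one] at hord
    omega
  have hσ2 : ∀ x, σ (σ x) = x := by
    intro x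
    have : σ ^ 2 = 1 := by rw [← hord]; exact pow_orderOf_eq_one σ
    have h3 := congrArg (fun f : K →ₐ[F] K => f x) this
    simpa [pow_two] using h3
  obtain ⟨ω, hω⟩ : ∃ ω, σ ω ≠ ω := by
    by_contra hcon
    push Not at hcon
    apply hσ1
    ext x
    exact hcon x
  have hli : LinearIndependent F ![(1 : K), ω] := by
    rw [LinearIndependent.pair_iff]
    intro a c hac
    have hc : c = 0 := by
      by_contra hc
      apply hω
      have : ω = algebraMap F K (-(c⁻¹ * a)) := by
        have h1 : c • ω = -(a • (1 : K)) := by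
          rw [eq_neg_iff_add_eq_zero, add_comm]; exact hac
        calc ω = c⁻¹ • (c • ω) := by rw [smul_smul, inv_mul_cancel₀ hc, one_smul]
          _ = algebraMap F K (-(c⁻¹ * a)) := by
            rw [h1, Algebra.algebraMap_eq_smul_one, smul_neg, smul_smul, neg_smul]
      rw [this, AlgHom.commutes]
    subst hc
    simp only [zero_smul, add_zero] at hac
    have : a = 0 := by
      have := smul_eq_zero.1 hac
      rcases this with h | h
      · exact h
      · exact absurd h one_ne_zero
    exact ⟨this, rfl⟩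
  let b : Basis (Fin 2) F K := basisOfLinearIndependentOfCardEqFinrank' _ hli (by simp [h2])
  have hb0 : b 0 = 1 := by simp [b]
  have hb1 : b 1 = ω := by simp [b]
  -- fixed elements are in F
  have hfix : ∀ x : K, σ x = x → ∃ a : F, x = algebraMap F K a := by
    intro x hx
    obtain ⟨a0, a1, hx'⟩ : ∃ a0 a1 : F, a0 • (1 : K) + a1 • ω = x := by
      have hx' := b.sum_repr x
      rw [Fin.sum_univ_two, hb0, hb1] at hx'
      exact ⟨_, _, hx'⟩
    subst hx'
    have h1 : σ (a0 • (1 : K) + a1 • ω) = a0 • (1 : K) + a1 • σ ω := by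
      simp [map_add, map_smul]
    have h3 : a1 • (σ ω - ω) = 0 := by
      rw [h1] at hx
      rw [smul_sub]
      linear_combination (exp := 1) hx
    have h4 : a1 = 0 := by
      rcases smul_eq_zero.1 h3 with h | h
      · exact h
      · exact absurd (sub_eq_zero.1 h) hω
    refine ⟨a0, ?_⟩
    rw [h4, zero_smul, add_zero, Algebra.algebraMap_eq_smul_one]
  obtain ⟨s, hs⟩ := hfix (ω + σ ω) (by rw [map_add, hσ2, add_comm])
  obtain ⟨n, hn⟩ := hfix (ω * σ ω) (by rw [map_mul, hσ2, mul_comm])
  refine ⟨b, s, n, hb0, ?_, ?_⟩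
  · rw [hb1, ← hσapp, ← hs]; ring
  · rw [hb1, ← hσapp, hn]

end

section
variable {K F : Type*} [Field K] [Fintype K] [Field F] [Fintype F] [Algebra F K]

/-- coordinates of `K^m` over `F` with respect to a basis `b` of `K/F` -/
noncomputable def coords (b : Basis (Fin 2) F K) (m : ℕ) :
    (Fin m → K) ≃ₗ[F] (Fin m ⊕ Fin m → F) where
  toFun v := Sum.elim (fun i => b.repr (v i) 0) (fun i => b.repr (v i) 1)
  invFun w := fun i => w (Sum.inl i) • b 0 + w (Sum.inr i) • b 1
  map_add' u v := by
    ext j; rcases j with j | j <;> simp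
  map_smul' c v := by
    ext j; rcases j with j | j <;> simp
  left_inv v := by
    ext i
    have := b.sum_repr (v i)
    rw [Fin.sum_univ_two] at this
    simpa using this
  right_inv w := by
    ext j; rcases j with j | j <;> simp

theorem coords_inl (b : Basis (Fin 2) F K) (m : ℕ) (v : Fin m → K) (i : Fin m) :
    coords b m v (Sum.inl i) = b.repr (v i) 0 := rfl

theorem coords_inr (b : Basis (Fin 2) F K) (m : ℕ) (v : Fin m → K) (i : Fin m) :
    coords b m v (Sum.inr i) = b.repr (v i) 1 := rfl

/-- the `F`-matrix of a `K`-matrix acting on `K^m`, in the coordinates `coords b m` -/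
noncomputable def repMat (b : Basis (Fin 2) F K) (m : ℕ) (A : Matrix (Fin m) (Fin m) K) :
    Matrix (Fin m ⊕ Fin m) (Fin m ⊕ Fin m) F :=
  LinearMap.toMatrix' ((coords b m).conj ((Matrix.mulVecLin A).restrictScalars F))

theorem repMat_mulVec (b : Basis (Fin 2) F K) (m : ℕ) (A : Matrix (Fin m) (Fin m) K) (v : Fin m → K) :
    (repMat b m A).mulVec (coords b m v) = coords b m (A.mulVec v) := by
  rw [repMat, LinearMap.toMatrix'_mulVec, LinearEquiv.conj_apply]
  simp

theorem repMat_one (b : Basis (Fin 2) F K) (m : ℕ) : repMat b m (1 : Matrix (Fin m) (Fin m) K) = 1 := by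
  rw [repMat, Matrix.mulVecLin_one]
  have : (LinearMap.id : (Fin m → K) →ₗ[K] (Fin m → K)).restrictScalars F = LinearMap.id := rfl
  rw [this, LinearEquiv.conj_id, LinearMap.toMatrix'_id]

theorem repMat_mul (b : Basis (Fin 2) F K) (m : ℕ) (A B : Matrix (Fin m) (Fin m) K) :
    repMat b m (A * B) = repMat b m A * repMat b m B := by
  rw [repMat, repMat, repMat, ← LinearMap.toMatrix'_comp, ← LinearEquiv.conj_comp, Matrix.mulVecLin_mul]
  rfl

theorem repMat_injective (b : Basis (Fin 2) F K) (m : ℕ) : Function.Injective (repMat b m) := by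
  intro A B h
  have h1 : ∀ v, A.mulVec v = B.mulVec v := by
    intro v
    apply (coords b m).injective
    rw [← repMat_mulVec, ← repMat_mulVec, h]
  ext i j
  have := congrFun (h1 (Pi.single j 1)) i
  simpa using this

end

section
variable {K F : Type*} [Field K] [Fintype K] [Field F] [Fintype F] [Algebra F K]

theorem repr_mul_pow (b : Basis (Fin 2) F K) (s n : F) (h0 : b 0 = 1)
    (h1 : (b 1) ^ Fintype.card F = algebraMap F K s - b 1)
    (h2 : b 1 * (b 1) ^ Fintype.card F = algebraMap F K n) (x y : K) :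
    b.repr (x * y ^ Fintype.card F) 1 = b.repr x 1 * b.repr y 0 - b.repr x 0 * b.repr y 1 := by
  have hx := b.sum_repr x
  have hy := b.sum_repr y
  rw [Fin.sum_univ_two, h0] at hx hy
  set x0 := b.repr x 0
  set x1 := b.repr x 1
  set y0 := b.repr y 0
  set y1 := b.repr y 1
  set ω := b 1 with hω
  have hsq : ω * ω = algebraMap F K s * ω - algebraMap F K n := by
    rw [← h2, h1]; ring
  have hσapp : ∀ z : K, FiniteField.frobeniusAlgHom F K z = z ^ Fintype.card F := fun z => rfl
  have hyq : y ^ Fintype.card F = (y0 + y1 * s) • (1 : K) + (- y1) • ω := by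
    rw [← hσapp]
    conv_lhs => rw [← hy]
    rw [map_add, map_smul, map_smul, map_one, hσapp ω, h1]
    simp only [Algebra.smul_def, map_add, map_mul, map_neg]
    ring
  have key : x * y ^ Fintype.card F =
      (x0 * (y0 + y1 * s) + x1 * y1 * n) • (1 : K) + (x1 * y0 - x0 * y1) • ω := by
    rw [hyq]
    conv_lhs => rw [← hx]
    simp only [Algebra.smul_def, map_add, map_mul, map_neg, map_sub]
    linear_combination (- algebraMap F K x1 * algebraMap F K y1) * hsq
  rw [key, map_add, map_smul, map_smul, ← h0, hω]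
  simp

theorem repr_hermForm (b : Basis (Fin 2) F K) (s n : F) (h0 : b 0 = 1)
    (h1 : (b 1) ^ Fintype.card F = algebraMap F K s - b 1)
    (h2 : b 1 * (b 1) ^ Fintype.card F = algebraMap F K n) (m : ℕ) (u v : Fin m → K) :
    b.repr (Cfsg.hermForm m K (Fintype.card F) u v) 1 =
      coords b m u ⬝ᵥ ((Matrix.J (Fin m) F).mulVec (coords b m v)) := by
  unfold Cfsg.hermForm
  rw [map_sum, Finsupp.coe_finsetSum, Finset.sum_apply]
  simp only [repr_mul_pow b s n h0 h1 h2]
  rw [dotProduct, Fintype.sum_sum_type]
  simp only [Matrix.J, Matrix.mulVec, dotProduct, Fintype.sum_sum_type, Matrix.fromBlocks_apply₁₁,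
    Matrix.fromBlocks_apply₁₂, Matrix.fromBlocks_apply₂₁, Matrix.fromBlocks_apply₂₂, coords_inl, coords_inr]
  simp [Matrix.one_apply, Finset.sum_ite_eq]
  ring


theorem repMat_symplectic (b : Basis (Fin 2) F K) (s n : F) (h0 : b 0 = 1)
    (h1 : (b 1) ^ Fintype.card F = algebraMap F K s - b 1)
    (h2 : b 1 * (b 1) ^ Fintype.card F = algebraMap F K n) (m : ℕ)
    (A : Matrix (Fin m) (Fin m) K)
    (hA : ∀ u v, Cfsg.hermForm m K (Fintype.card F) (A.mulVec u) (A.mulVec v) =
      Cfsg.hermForm m K (Fintype.card F) u v) :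
    repMat b m A ∈ Matrix.symplecticGroup (Fin m) F := by
  rw [SymplecticGroup.mem_iff']
  set M := repMat b m A
  have key : ∀ x y : Fin m ⊕ Fin m → F,
      (M.mulVec x) ⬝ᵥ ((Matrix.J (Fin m) F).mulVec (M.mulVec y)) =
        x ⬝ᵥ ((Matrix.J (Fin m) F).mulVec y) := by
    intro x y
    obtain ⟨u, rfl⟩ := (coords b m).surjective x
    obtain ⟨v, rfl⟩ := (coords b m).surjective y
    rw [repMat_mulVec, repMat_mulVec, ← repr_hermForm b s n h0 h1 h2, ← repr_hermForm b s n h0 h1 h2, hA]
  ext i j
  have := key (Pi.single i 1) (Pi.single j 1)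
  rw [Matrix.mulVec_mulVec, Matrix.dotProduct_mulVec, Matrix.vecMul_mulVec] at this
  rw [Matrix.mul_assoc]
  simpa using this


end


/-- The unitary group embeds in the symplectic group of twice the dimension over the subfield: for a field K with q² elements and a field F with q elements (isomorphic to the subfield of K of order q), there is an injective homomorphism GU_m(q) → Sp_2m(F). -/
theorem result {K F : Type*} [Field K] [Fintype K] [Field F] [Fintype F] {q : ℕ} (hK : Fintype.card K = q ^ 2) (hF : Fintype.card F = q) (m : ℕ) : ∃ φ : ↥(Cfsg.GU m K q) →* ↥(Matrix.symplecticGroup (Fin m) F), Function.Injective φ := by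
  classical
  obtain ⟨alg, h2⟩ := Cfsg.Agent.Lib.Helper45.exists_algebra_finrank_two hK hF
  obtain ⟨b, s, n, h0, h1, h2'⟩ := exists_good_basis h2
  subst hF
  refine ⟨{ toFun := fun g => ⟨repMat b m ((g : Matrix.GeneralLinearGroup (Fin m) K) : Matrix _ _ K),
              repMat_symplectic b s n h0 h1 h2' m _ (fun u v => g.2 u v)⟩,
            map_one' := ?_, map_mul' := ?_ }, ?_⟩
  · apply Subtype.ext
    show repMat b m _ = 1
    simp [repMat_one]
  · intro g h
    apply Subtype.ext
    show repMat b m _ = repMat b m _ * repMat b m _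
    rw [← repMat_mul]
    simp
  · intro g h hgh
    have h3 : repMat b m ((g : Matrix.GeneralLinearGroup (Fin m) K) : Matrix _ _ K) =
        repMat b m ((h : Matrix.GeneralLinearGroup (Fin m) K) : Matrix _ _ K) :=
      congrArg Subtype.val hgh
    exact Subtype.ext (Units.ext (repMat_injective b m h3))

end Cfsg.Agent.S2639
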