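import Cfsg.Statements.S2642
import Cfsg.Agent.Lib.Helper37.GUUnipotent
-- import your own Cfsg.Agent.* helpers here

set_option autoImplicit false
open Cfsg

namespace Cfsg.Agent.S2642

open Cfsg.Agent.Lib.Helper40

theorem sum_min_le' (μ : Multiset ℕ) (j : ℕ) : (μ.map (fun a => min j a)).sum ≤ μ.sum := by
  induction μ using Multiset.induction_on with
  | empty => simp
  | cons a μ ih =>
    rw [Multiset.map_cons, Multiset.sum_cons, Multiset.sum_cons]
    have : min j a ≤ a := min_le_right _ _
    omega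

theorem sum_min_eq_sum_iff' (μ : Multiset ℕ) (j : ℕ) :
    (μ.map (fun a => min j a)).sum = μ.sum ↔ ∀ a ∈ μ, a ≤ j := by
  induction μ using Multiset.induction_on with
  | empty => simp
  | cons a μ ih =>
    rw [Multiset.map_cons, Multiset.sum_cons, Multiset.sum_cons]
    have h1 : min j a ≤ a := min_le_right _ _
    have h2 := sum_min_le' μ j
    constructor
    · intro h
      have h3 : (μ.map (fun a => min j a)).sum = μ.sum := by omega
      have h4 : min j a = a := by omega
      intro b hb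
      rcases Multiset.mem_cons.mp hb with rfl | hb
      · omega
      · exact ih.mp h3 b hb
    · intro h
      have h3 := ih.mpr (fun b hb => h b (Multiset.mem_cons_of_mem hb))
      have h4 := h a (Multiset.mem_cons_self a μ)
      rw [h3, min_eq_right h4]

theorem pow_eq_zero_iff_kd' {n : ℕ} {F : Type*} [Field F] (A : Matrix (Fin n) (Fin n) F) (j : ℕ) :
    A ^ j = 0 ↔ kd (Matrix.toLin' A) j = n := by
  have h := kd_eq_finrank_iff (Matrix.toLin' A) j
  rw [Module.finrank_fin_fun] at h
  rw [h, ← Matrix.toLin'_pow]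
  constructor
  · intro h0; rw [h0, map_zero]
  · intro h0
    exact (Matrix.toLin' (R := F)).injective (by rw [h0, map_zero])

theorem pow_p_eq_one_iff' {F : Type*} [Field F] (p : ℕ) [Fact p.Prime] [CharP F p] {n : ℕ}
    (g : GL (Fin n) F) : g ^ p = 1 ↔ (g.val - 1) ^ p = 0 := by
  rcases Nat.eq_zero_or_pos n with rfl | hn
  · exact ⟨fun _ => Subsingleton.elim _ _, fun _ => Subsingleton.elim _ _⟩
  · have : Nonempty (Fin n) := ⟨⟨0, hn⟩⟩
    have hcomm : Commute g.val 1 := Commute.one_right _
    have h1 := sub_pow_char_pow_of_commute p 1 hcomm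
    rw [pow_one, one_pow] at h1
    rw [h1, sub_eq_zero, ← Units.val_pow_eq_pow_val]
    constructor
    · intro h; rw [h, Units.val_one]
    · intro h; exact Units.ext h

open Matrix Cfsg.Agent.Lib.Helper5 Cfsg.Agent.Lib.Helper37.GUConj
  Cfsg.Agent.Lib.Helper37.GUSimilar Cfsg.Agent.Lib.Helper37.GUUnipotent in
/-- Number of conjugacy classes of elements of order p in the general unitary group GU_n(q), q a power of p: every unipotent Jordan type occurs and the classes correspond to the partitions of n with all parts at most p other than the all-ones partition, exactly as in GL_n; so there are (number of partitions of n with parts ≤ p) − 1 classes. -/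
theorem result {K : Type*} [Field K] [Fintype K] {p q n : ℕ} [Fact p.Prime] [CharP K p] (hK : Fintype.card K = q ^ 2) : Nat.card {C : ConjClasses ↥(Cfsg.GU n K q) // ∃ g : ↥(Cfsg.GU n K q), ConjClasses.mk g = C ∧ orderOf g = p} = (Finset.univ.filter (fun μ : Nat.Partition n => ∀ a ∈ μ.parts, a ≤ p)).card - 1 := by
  classical
  -- the relevant partitions
  let T := {ν : Nat.Partition n // (∀ a ∈ ν.parts, a ≤ p) ∧ ¬ (∀ a ∈ ν.parts, a ≤ 1)}
  have hA : ∀ ν : Nat.Partition n, ∃ B : Matrix (Fin n) (Fin n) K, IsUnitaryMat q B ∧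
      IsNilpotent (B - 1) ∧
      ∀ j, kd (Matrix.toLin' (B - 1)) j = (ν.parts.map (fun a => min j a)).sum := by
    intro ν
    obtain ⟨A, hAnil, hAkd⟩ := exists_matrix_of_type (F := K) ν.parts ν.parts_sum
    obtain ⟨B, hB1, hB2, hB3⟩ := exists_unitary_of_nilpotent hK A hAnil
    exact ⟨B, hB1, hB2, fun j => by rw [hB3 j, hAkd j]⟩
  choose B hBu hBnil hBkd using hA
  let g : Nat.Partition n → ↥(Cfsg.GU n K q) := fun ν =>
    GUofPreserves hK (B ν) ((isUnitaryMat_iff_preserves hK (B ν)).1 (hBu ν))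
  have hgval : ∀ ν, ((g ν : GL (Fin n) K)).val - 1 = B ν - 1 := by
    intro ν
    rw [GUofPreserves_coe]
  have hzero : ∀ (ν : Nat.Partition n) (j : ℕ), (B ν - 1) ^ j = 0 ↔ ∀ a ∈ ν.parts, a ≤ j := by
    intro ν j
    rw [pow_eq_zero_iff_kd', hBkd ν j, ← sum_min_eq_sum_iff', ν.parts_sum]
  have hord : ∀ x : GL (Fin n) K, orderOf x = p ↔ (x.val - 1) ^ p = 0 ∧ (x.val - 1) ^ 1 ≠ 0 := by
    intro x
    rw [orderOf_eq_prime_iff, pow_p_eq_one_iff' p x, pow_one]
    constructor
    · rintro ⟨h1, h2⟩
      refine ⟨h1, fun h3 => h2 (Units.ext ?_)⟩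
      rw [Units.val_one]
      exact sub_eq_zero.mp h3
    · rintro ⟨h1, h2⟩
      refine ⟨h1, fun h3 => h2 ?_⟩
      rw [h3, Units.val_one, sub_self]
  have hordU : ∀ x : ↥(Cfsg.GU n K q), orderOf x = p ↔
      ((x : GL (Fin n) K).val - 1) ^ p = 0 ∧ ((x : GL (Fin n) K).val - 1) ^ 1 ≠ 0 := by
    intro x
    rw [← hord, Subgroup.orderOf_coe]
  have hgord : ∀ ν : T, orderOf (g ν.1) = p := by
    intro ν
    rw [hordU, hgval, hzero, Ne, hzero]
    exact ν.2
  have hconj : ∀ (x y c : GL (Fin n) K), c * x * c⁻¹ = y →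
      c.val * (x.val - 1) = (y.val - 1) * c.val := by
    intro x y c h
    have h1 : c * x = y * c := by rw [← h]; group
    have h2 : c.val * x.val = y.val * c.val := by
      rw [← Units.val_mul, ← Units.val_mul, h1]
    rw [mul_sub, sub_mul, h2, mul_one, one_mul]
  have hcard : Nat.card {C : ConjClasses ↥(Cfsg.GU n K q) //
      ∃ g : ↥(Cfsg.GU n K q), ConjClasses.mk g = C ∧ orderOf g = p} = Nat.card T := by
    symm
    refine Nat.card_eq_of_bijective (fun ν => ⟨ConjClasses.mk (g ν.1), g ν.1, rfl, hgord ν⟩)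
      ⟨?_, ?_⟩
    · intro ν ν' h
      have h1 : ConjClasses.mk (g ν.1) = ConjClasses.mk (g ν'.1) := congrArg Subtype.val h
      rw [ConjClasses.mk_eq_mk_iff_isConj, isConj_iff] at h1
      obtain ⟨c, hc⟩ := h1
      have hc' : (c : GL (Fin n) K) * (g ν.1 : GL (Fin n) K) * (c : GL (Fin n) K)⁻¹ =
          (g ν'.1 : GL (Fin n) K) := by
        rw [← hc]; rfl
      have h2 := hconj _ _ _ hc'
      rw [hgval, hgval] at h2
      have h3 := kd_eq_of_gl_conj (B ν.1 - 1) (B ν'.1 - 1) c h2
      apply Subtype.ext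
      apply Nat.Partition.ext
      apply type_unique _ _ (fun a ha => ν.1.parts_pos ha) (fun a ha => ν'.1.parts_pos ha)
      intro j
      rw [← hBkd ν.1 j, ← hBkd ν'.1 j, h3]
    · rintro ⟨C, x, rfl, hx⟩
      have hx' := (hordU x).mp hx
      have hxn : IsNilpotent ((x : GL (Fin n) K).val - 1) := ⟨p, hx'.1⟩
      obtain ⟨μ, hμpos, hμsum, hμkd⟩ := exists_type_matrix ((x : GL (Fin n) K).val - 1) hxn
      let ν : Nat.Partition n := ⟨μ, fun {a} ha => hμpos a ha, hμsum⟩
      have hν : (∀ a ∈ ν.parts, a ≤ p) ∧ ¬ (∀ a ∈ ν.parts, a ≤ 1) := by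
        constructor
        · rw [← sum_min_eq_sum_iff', ← hμkd p, hμsum, ← pow_eq_zero_iff_kd']
          exact hx'.1
        · rw [← sum_min_eq_sum_iff', ← hμkd 1, hμsum, ← pow_eq_zero_iff_kd']
          exact hx'.2
      obtain ⟨P, hP⟩ := exists_gl_conj_of_kd_eq (B ν - 1) ((x : GL (Fin n) K).val - 1) (hBnil ν)
        hxn (fun j => by rw [hBkd ν j, hμkd j])
      refine ⟨⟨ν, hν⟩, Subtype.ext ?_⟩
      show ConjClasses.mk (g ν) = ConjClasses.mk x
      rw [ConjClasses.mk_eq_mk_iff_isConj]
      apply isConj_GU_of_isConj_GL hK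
      rw [isConj_iff]
      refine ⟨P, ?_⟩
      rw [← hgval ν] at hP
      have h1 : P.val * (g ν : GL (Fin n) K).val = (x : GL (Fin n) K).val * P.val := by
        rw [mul_sub, sub_mul, mul_one, one_mul] at hP
        exact sub_left_injective hP
      have h2 : P * (g ν : GL (Fin n) K) = (x : GL (Fin n) K) * P := Units.ext h1
      rw [h2]; group
  rw [hcard, Nat.card_eq_fintype_card, Fintype.card_subtype]
  -- count: remove the partition into ones
  have hp1 : 1 ≤ p := (Fact.out : p.Prime).one_lt.le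
  have hsplit := Finset.card_filter_add_card_filter_not
    (s := Finset.univ.filter (fun μ : Nat.Partition n => ∀ a ∈ μ.parts, a ≤ p))
    (fun μ : Nat.Partition n => ∀ a ∈ μ.parts, a ≤ 1)
  rw [Finset.filter_filter, Finset.filter_filter] at hsplit
  have hone : (Finset.univ.filter (fun μ : Nat.Partition n =>
      (∀ a ∈ μ.parts, a ≤ p) ∧ ∀ a ∈ μ.parts, a ≤ 1)).card = 1 := by
    rw [Finset.card_eq_one]
    refine ⟨⟨Multiset.replicate n 1, fun {a} ha => by
      rw [Multiset.eq_of_mem_replicate ha]; exact Nat.one_pos, by simp⟩, ?_⟩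
    ext μ
    simp only [Finset.mem_filter, Finset.mem_univ, true_and, Finset.mem_singleton]
    constructor
    · rintro ⟨_, h1⟩
      apply Nat.Partition.ext
      show μ.parts = Multiset.replicate n 1
      have h2 : ∀ b ∈ μ.parts, b = 1 := fun b hb => by
        have := h1 b hb
        have := μ.parts_pos hb
        omega
      have h3 : μ.parts = Multiset.replicate (Multiset.card μ.parts) 1 :=
        Multiset.eq_replicate.mpr ⟨rfl, h2⟩
      have h4 := μ.parts_sum
      rw [h3, Multiset.sum_replicate, smul_eq_mul, mul_one] at h4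
      rw [h3, h4]
    · rintro rfl
      constructor
      · intro a ha
        rw [Multiset.eq_of_mem_replicate ha]; exact hp1
      · intro a ha
        rw [Multiset.eq_of_mem_replicate ha]
  omega

end Cfsg.Agent.S2642
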