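import Cfsg.Statements.S2643
import Cfsg.Agent.Lib.Helper37.SURegUnip
import Cfsg.Agent.Lib.Helper5.UnitarySU
-- import your own Cfsg.Agent.* helpers here

set_option autoImplicit false
open Cfsg

namespace Cfsg.Agent.S2643

/-- a surjection from a group whose fibres are the left cosets of `H` -/
theorem natCard_eq_index_of_surj {A B : Type*} [Group A] (H : Subgroup A) (Ψ : A → B)
    (hsurj : Function.Surjective Ψ) (hker : ∀ a a', Ψ a = Ψ a' ↔ a⁻¹ * a' ∈ H) :
    Nat.card B = H.index := by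
  let f : A ⧸ H → B := Quotient.lift Ψ
    (fun a a' h => (hker a a').mpr (QuotientGroup.leftRel_apply.mp h))
  have hf : Function.Bijective f := by
    constructor
    · intro x y
      induction x using Quotient.inductionOn with | _ a => ?_
      induction y using Quotient.inductionOn with | _ a' => ?_
      intro h
      exact Quotient.sound (QuotientGroup.leftRel_apply.mpr ((hker a a').mp h))
    · intro b
      obtain ⟨a, ha⟩ := hsurj b
      exact ⟨Quotient.mk _ a, ha⟩
  rw [Subgroup.index, Nat.card_congr (Equiv.ofBijective f hf)]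

section

open Matrix Cfsg.Agent.Lib.Helper5 Cfsg.Agent.Lib.Helper37.GUConj
  Cfsg.Agent.Lib.Helper37.GUSimilar Cfsg.Agent.Lib.Helper37.SURegUnip Cfsg.Agent.Lib.Helper43

variable {K : Type*} [Field K] [Fintype K] {q n : ℕ}

/-- the matrix of an element of `SU` -/
def mat (u : ↥(Cfsg.SU n K q)) : Matrix (Fin n) (Fin n) K := u.1.1

omit [Fintype K] in
theorem mat_mul (u v : ↥(Cfsg.SU n K q)) : mat (u * v) = mat u * mat v := rfl

omit [Fintype K] in
theorem mat_det (u : ↥(Cfsg.SU n K q)) : (mat u).det = 1 := u.1.2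

theorem mat_unitary (hK : Fintype.card K = q ^ 2) (u : ↥(Cfsg.SU n K q)) :
    st hK (mat u) * mat u = 1 := by
  rw [← isUnitaryMat_iff_st hK, isUnitaryMat_iff_preserves hK]
  exact u.2

/-- an element of `SU` from a unitary matrix of determinant one -/
def mkSU (hK : Fintype.card K = q ^ 2) (M : Matrix (Fin n) (Fin n) K) (hM : st hK M * M = 1)
    (hdet : M.det = 1) : ↥(Cfsg.SU n K q) :=
  ⟨⟨M, hdet⟩, (isUnitaryMat_iff_preserves hK M).1 ((isUnitaryMat_iff_st hK M).2 hM)⟩

theorem mat_mkSU (hK : Fintype.card K = q ^ 2) (M : Matrix (Fin n) (Fin n) K)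
    (hM : st hK M * M = 1) (hdet : M.det = 1) : mat (mkSU hK M hM hdet) = M := rfl

omit [Fintype K] in
theorem mat_injective : Function.Injective (mat : ↥(Cfsg.SU n K q) → Matrix (Fin n) (Fin n) K) := by
  intro u v h
  apply Subtype.ext
  apply Subtype.ext
  exact h

theorem isConj_iff_mat (hK : Fintype.card K = q ^ 2) (u u' : ↥(Cfsg.SU n K q)) :
    IsConj u u' ↔ ∃ s : Matrix (Fin n) (Fin n) K, st hK s * s = 1 ∧ s.det = 1 ∧
      s * mat u = mat u' * s := by
  rw [isConj_iff]
  constructor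
  · rintro ⟨c, hc⟩
    refine ⟨mat c, mat_unitary hK c, mat_det c, ?_⟩
    rw [← mat_mul, ← mat_mul, ← hc]
    congr 1
    group
  · rintro ⟨s, hs1, hs2, hs3⟩
    refine ⟨mkSU hK s hs1 hs2, ?_⟩
    rw [mul_inv_eq_iff_eq_mul]
    apply mat_injective
    rw [mat_mul, mat_mul, mat_mkSU]
    exact hs3

end

open Matrix Cfsg.Agent.Lib.Helper5 Cfsg.Agent.Lib.Helper37.GUConj
  Cfsg.Agent.Lib.Helper37.GUSimilar Cfsg.Agent.Lib.Helper37.SURegUnip Cfsg.Agent.Lib.Helper43 in
/-- Regular unipotent classes of SU_n(q), n ≥ 2: the elements u of the special unitary group (isometries of Σ u_i v_i^q of determinant one over the field with q² elements) with (u − 1)^n = 0 and rank(u − 1) = n − 1 form exactly gcd(n, q + 1) conjugacy classes of SU_n(q). -/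
theorem result {K : Type*} [Field K] [Fintype K] {q n : ℕ} (hK : Fintype.card K = q ^ 2) (hn : 2 ≤ n) : Nat.card {C : ConjClasses ↥(Cfsg.SU n K q) // ∃ u : ↥(Cfsg.SU n K q), ConjClasses.mk u = C ∧ (((u : GL (Fin n) K) : Matrix (Fin n) (Fin n) K) - 1) ^ n = 0 ∧ (((u : GL (Fin n) K) : Matrix (Fin n) (Fin n) K) - 1).rank = n - 1} = Nat.gcd n (q + 1) := by
  classical
  have hn1 : 1 ≤ n := by omega
  obtain ⟨U0, hU0u, hU0reg, hU0det⟩ := exists_unitary_regUnip (n := n) hK hn1
  -- unitary matrices with prescribed determinant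
  have hgd : ∀ d : ↥(powMonoidHom (q + 1) : Kˣ →* Kˣ).ker,
      ∃ g : Matrix (Fin n) (Fin n) K, st hK g * g = 1 ∧ g.det = ((d : Kˣ) : K) := by
    intro d
    have hd : (d : Kˣ) ∈ (detGU n K q).range := by rw [range_detGU hK hn1]; exact d.2
    obtain ⟨g, hg⟩ := hd
    refine ⟨g.1.1, ?_, ?_⟩
    · rw [← isUnitaryMat_iff_st hK, isUnitaryMat_iff_preserves hK]
      exact GU_preserves g
    · rw [← detGU_val, hg]
  choose gd hgd1 hgd2 using hgd
  let Ψ : ↥(powMonoidHom (q + 1) : Kˣ →* Kˣ).ker → {C : ConjClasses ↥(Cfsg.SU n K q) //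
      ∃ u : ↥(Cfsg.SU n K q), ConjClasses.mk u = C ∧
        (((u : GL (Fin n) K) : Matrix (Fin n) (Fin n) K) - 1) ^ n = 0 ∧
        (((u : GL (Fin n) K) : Matrix (Fin n) (Fin n) K) - 1).rank = n - 1} := fun d =>
    ⟨ConjClasses.mk (mkSU hK (gd d * U0 * st hK (gd d))
        (conj_props hK hU0u hU0reg hU0det (hgd1 d)).1
        (conj_props hK hU0u hU0reg hU0det (hgd1 d)).2.2),
      mkSU hK (gd d * U0 * st hK (gd d))
        (conj_props hK hU0u hU0reg hU0det (hgd1 d)).1
        (conj_props hK hU0u hU0reg hU0det (hgd1 d)).2.2, rfl,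
      (conj_props hK hU0u hU0reg hU0det (hgd1 d)).2.1.1,
      (conj_props hK hU0u hU0reg hU0det (hgd1 d)).2.1.2⟩
  have hsurj : Function.Surjective Ψ := by
    rintro ⟨C, u, rfl, hu1, hu2⟩
    have hu : IsRegUnip (mat u) := ⟨hu1, hu2⟩
    obtain ⟨P, hP⟩ := hU0reg.exists_conj hn1 hu
    have hPdet : IsUnit (P : Matrix (Fin n) (Fin n) K).det :=
      (Matrix.isUnit_iff_isUnit_det _).1 P.isUnit
    obtain ⟨w, hw1, hw2⟩ := exists_unitary_conj hK U0 (mat u) P
      ((isUnitaryMat_iff_st hK _).2 hU0u) ((isUnitaryMat_iff_st hK _).2 (mat_unitary hK u))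
      hPdet hP
    rw [isUnitaryMat_iff_st hK] at hw1
    have hww : w * st hK w = 1 := mul_eq_one_comm.1 hw1
    -- the determinant of `w` as an element of the norm-one group
    have hwdet := det_mul_sig_det hK hw1
    have hwdet0 : w.det ≠ 0 := by
      intro h0
      rw [h0, zero_mul] at hwdet
      exact zero_ne_one hwdet
    let d : ↥(powMonoidHom (q + 1) : Kˣ →* Kˣ).ker := ⟨Units.mk0 w.det hwdet0, by
      rw [MonoidHom.mem_ker, powMonoidHom_apply]
      apply Units.ext
      rw [Units.val_pow_eq_pow_val, Units.val_mk0, Units.val_one, pow_succ']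
      exact hwdet⟩
    refine ⟨d, ?_⟩
    apply Subtype.ext
    change ConjClasses.mk (mkSU hK (gd d * U0 * st hK (gd d)) _ _) = ConjClasses.mk u
    rw [ConjClasses.mk_eq_mk_iff_isConj, isConj_iff_mat hK, mat_mkSU]
    have hu_eq : mat u = w * U0 * st hK w := by
      rw [hw2, Matrix.mul_assoc, hww, Matrix.mul_one]
    rw [hu_eq]
    rw [conj_iff hK hn1 hU0u hU0reg (gd d) w (hgd1 d) hw1]
    refine ⟨1, by rw [map_one, mul_one], ?_⟩
    rw [hgd2 d, one_pow, one_mul]
    rfl
  have hker : ∀ d d' : ↥(powMonoidHom (q + 1) : Kˣ →* Kˣ).ker, Ψ d = Ψ d' ↔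
      d⁻¹ * d' ∈ (powMonoidHom n :
        ↥(powMonoidHom (q + 1) : Kˣ →* Kˣ).ker →* ↥(powMonoidHom (q + 1) : Kˣ →* Kˣ).ker).range := by
    intro d d'
    rw [Subtype.ext_iff]
    change ConjClasses.mk (mkSU hK (gd d * U0 * st hK (gd d)) _ _) =
      ConjClasses.mk (mkSU hK (gd d' * U0 * st hK (gd d')) _ _) ↔ _
    rw [ConjClasses.mk_eq_mk_iff_isConj, isConj_iff_mat hK, mat_mkSU, mat_mkSU,
      conj_iff hK hn1 hU0u hU0reg (gd d) (gd d') (hgd1 d) (hgd1 d'), hgd2, hgd2]
    constructor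
    · rintro ⟨a, ha1, ha2⟩
      have ha0 : a ≠ 0 := by
        intro h0
        rw [h0, zero_mul] at ha1
        exact zero_ne_one ha1
      let A : ↥(powMonoidHom (q + 1) : Kˣ →* Kˣ).ker := ⟨Units.mk0 a ha0, by
        rw [MonoidHom.mem_ker, powMonoidHom_apply]
        apply Units.ext
        rw [Units.val_pow_eq_pow_val, Units.val_mk0, Units.val_one, pow_succ']
        exact ha1⟩
      refine ⟨A⁻¹, ?_⟩
      have hD : d = A ^ n * d' := by
        apply Subtype.ext
        apply Units.ext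
        change ((d : Kˣ) : K) = ((A : Kˣ) : K) ^ n * ((d' : Kˣ) : K)
        rw [ha2]
        rfl
      rw [powMonoidHom_apply, hD, inv_pow, mul_inv, inv_mul_cancel_right]
    · rintro ⟨A, hA⟩
      rw [powMonoidHom_apply] at hA
      have hD : d = (A⁻¹) ^ n * d' := by
        rw [inv_pow, hA, mul_inv, inv_inv, inv_mul_cancel_right]
      refine ⟨(((A⁻¹ : ↥(powMonoidHom (q + 1) : Kˣ →* Kˣ).ker) : Kˣ) : K), ?_, ?_⟩
      · have h1 := (A⁻¹).2
        rw [MonoidHom.mem_ker, powMonoidHom_apply] at h1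
        have h2 := congrArg Units.val h1
        rw [Units.val_pow_eq_pow_val, Units.val_one, pow_succ'] at h2
        exact h2
      · conv_lhs => rw [hD]
        rfl
  rw [natCard_eq_index_of_surj _ Ψ hsurj hker, IsCyclic.index_powMonoidHom_range,
    card_ker_pow_q_add_one hK, Nat.gcd_comm]

end Cfsg.Agent.S2643
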