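import Cfsg.Statements.S5339
-- import your own Cfsg.Agent.* helpers here

set_option autoImplicit false
open Cfsg

namespace Cfsg.Agent.S5339

open Cfsg.FusionSystem in
/-- If `E` over `S` is invariant in `F` and `Aut_F(S)` is inner then `E` has the same maps as `F`. -/
theorem hom_eq_of_invariant_of_inner {Ω : Type*} [Group Ω] {S : Subgroup Ω}
    (F : Cfsg.FusionSystem S) (htop : F.autGroup S = Cfsg.Inn ↥S)
    (E : Cfsg.FusionSystem S) (hE : E.IsInvariantIn F) (P : Subgroup Ω) : E.Hom P = F.Hom P := by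
  obtain ⟨hsub, _, _, hfrat⟩ := hE
  apply Set.Subset.antisymm (hsub P)
  intro φ hφ
  have hPS : P ≤ S := (F.le_of_mem hφ).1
  obtain ⟨α, hα, φ₀, hφ₀, hαφ⟩ := hfrat P hPS φ hφ
  rw [htop] at hα
  obtain ⟨g, rfl⟩ := hα
  have hφ₀S : ∀ x : P, φ₀ x ∈ S := (E.le_of_mem hφ₀).2
  have hconj : Cfsg.conjHom S (g : Ω) ∈ E.Hom S := E.conj_mem le_rfl g.2
  have hcomp := E.comp_mem hφ₀ hconj hφ₀S
  have : φ = (Cfsg.conjHom S (g : Ω)).comp (φ₀.codRestrict S hφ₀S) := by
    ext x
    rw [hαφ x (hφ₀S x)]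
    simp [Cfsg.conjHom]
  rw [this]
  exact hcomp


/-- Let F be a saturated fusion system over a nontrivial finite p-group S such that Aut_F(S) consists of inner automorphisms only and S has no strongly closed subgroup other than 1 and S. Then F is simple. -/
theorem result {Ω : Type*} [Group Ω] {S : Subgroup Ω} [Finite S] (p : ℕ) [Fact p.Prime] (hS : IsPGroup p S) (F : Cfsg.FusionSystem S) (hF : F.IsSaturated p) (hS1 : S ≠ ⊥) (htop : F.autGroup S = Cfsg.Inn ↥S) (hsc : ∀ T : Subgroup Ω, F.StronglyClosed T → T = ⊥ ∨ T = S) : F.IsSimple p := by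
  refine ⟨hF, hS1, ?_⟩
  intro T E hE
  have hinv : E.IsInvariantIn F := hE.1.2.2
  rcases hsc T hinv.2.1 with h | h
  · left; exact h
  · right
    refine ⟨h, ?_⟩
    subst h
    exact hom_eq_of_invariant_of_inner F htop E hinv

end Cfsg.Agent.S5339
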