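import Cfsg.Statements.S2647
import Cfsg.Agent.Lib.Helper44.O7.NormS0
import Cfsg.Agent.Lib.Helper44.O7.SCS0
import Cfsg.Agent.Lib.Helper44.O7.Iso
import Cfsg.Agent.Lib.Helper44.O7.Transport
import Cfsg.Agent.S5339
import Cfsg.Agent.S5076
import Cfsg.Agent.Lib.Helper98.FusionSelfNorm
-- import your own Cfsg.Agent.* helpers here

set_option autoImplicit false
open Cfsg

namespace Cfsg.Agent.S2647

open Cfsg.Agent.Lib.Helper44 Cfsg.Agent.Lib.Helper44.O7

theorem two_ne_zero_of_odd_card' {F : Type*} [Field F] [Fintype F] (hodd : Odd (Fintype.card F)) :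
    (2 : F) ≠ 0 := by
  apply Ring.two_ne_zero
  intro h
  have := FiniteField.even_card_iff_char_two.1 h
  rw [Nat.odd_iff] at hodd
  omega

section glue
variable {F : Type*} [Field F]

theorem hp_S0H (c : F) :
    ∀ s ∈ (S0 c).subgroupOf (OmG c), ∃ k : ℕ, s ^ 2 ^ k = 1 := by
  intro s hs
  refine ⟨3, ?_⟩
  apply Subtype.ext
  rw [Subgroup.mem_subgroupOf] at hs
  have := pow_eight_of_mem_S0 c s.1 hs
  simpa using this

theorem hN_S0H [Fintype F] (h2 : (2 : F) ≠ 0) (hns : ¬ IsSquare (2 : F)) (c : F) (hc : c ≠ 0) :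
    ∀ g : ↥(OmG c), (∀ x, x ∈ (S0 c).subgroupOf (OmG c) ↔ g * x * g⁻¹ ∈ (S0 c).subgroupOf (OmG c)) →
      g ∈ (S0 c).subgroupOf (OmG c) := by
  intro g hg
  rw [Subgroup.mem_subgroupOf]
  apply mem_S0_of_normalizes h2 hns c hc g.1 g.2
  intro x
  have hle := S0_le_OmG h2 hns c hc
  constructor
  · intro hx
    have := (hg ⟨x, hle hx⟩).1 (by rw [Subgroup.mem_subgroupOf]; exact hx)
    rw [Subgroup.mem_subgroupOf] at this
    simpa using this
  · intro hx
    have hxΩ : x ∈ OmG c := by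
      have h1 := hle hx
      have h3 : x = (g.1)⁻¹ * (g.1 * x * (g.1)⁻¹) * g.1 := by group
      rw [h3]
      exact (OmG c).mul_mem ((OmG c).mul_mem ((OmG c).inv_mem g.2) h1) g.2
    have := (hg ⟨x, hxΩ⟩).2 (by rw [Subgroup.mem_subgroupOf]; simpa using hx)
    rw [Subgroup.mem_subgroupOf] at this
    exact this

theorem hSC_S0H [Fintype F] (h2 : (2 : F) ≠ 0) (hns : ¬ IsSquare (2 : F)) (c : F) (hc : c ≠ 0) :
    ∀ T : Subgroup ↥(OmG c), T ≤ (S0 c).subgroupOf (OmG c) →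
      (∀ x ∈ T, ∀ g : ↥(OmG c), g * x * g⁻¹ ∈ (S0 c).subgroupOf (OmG c) → g * x * g⁻¹ ∈ T) →
      T = ⊥ ∨ T = (S0 c).subgroupOf (OmG c) := by
  intro T hT hsc
  have hinj : Function.Injective (OmG c).subtype := Subtype.coe_injective
  have key := strongly_closed_S0 h2 hns c hc (T.map (OmG c).subtype)
    (by
      rintro _ ⟨x, hx, rfl⟩
      have := hT hx
      rwa [Subgroup.mem_subgroupOf] at this)
    (by
      rintro _ ⟨x, hx, rfl⟩ g hg hmem
      have := hsc x hx ⟨g, hg⟩ (by rw [Subgroup.mem_subgroupOf]; simpa using hmem)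
      exact ⟨_, this, by simp⟩)
  rcases key with h | h
  · left
    rw [← Subgroup.map_eq_bot_iff_of_injective T hinj]
    exact h
  · right
    rw [← Subgroup.comap_map_eq_self_of_injective hinj T, h]
    rfl

theorem exists_invol_S0H [Fintype F] (h2 : (2 : F) ≠ 0) (hns : ¬ IsSquare (2 : F)) (c : F) (hc : c ≠ 0) :
    ∃ x : ↥(OmG c), x ≠ 1 ∧ x ^ 2 = 1 := by
  have hmem : mon c d01 1 ∈ OmG c :=
    S0_le_OmG h2 hns c hc ⟨d01, d01_mem, 1, d8.one_mem, rfl⟩
  refine ⟨⟨mon c d01 1, hmem⟩, ?_, ?_⟩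
  · intro h
    have h1 : mon c d01 1 = mon c 1 1 := by
      rw [mon_one]
      exact congrArg Subtype.val h
    have h3 := (mon_injective h2 c h1).1
    have h4 := congrFun h3 0
    revert h4
    decide
  · apply Subtype.ext
    show mon c d01 1 ^ 2 = 1
    rw [pow_two, mon_mul, ← mon_one c]
    congr 1
    funext k
    simp only [inv_one, Equiv.Perm.one_apply, Pi.one_apply]
    exact units_int_mul_self _

end glue


/-- Let q be an odd prime power with q ≡ ±3 (mod 8), F a field with q elements and S a Sylow 2-subgroup of the commutator subgroup Ω₇(q) of the orthogonal group of the form x₀² + x₁y₁ + x₂y₂ + x₃y₃ over F. Then every automorphism of S induced by N(S) is inner, S has no strongly closed subgroup other than 1 and S with respect to this group, and the 2-fusion system of Ω₇(q) on S is simple. -/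
theorem result {F : Type*} [Field F] [Fintype F] [DecidableEq F] (q : ℕ) (hF : Fintype.card F = q) (hq : q % 8 = 3 ∨ q % 8 = 5) (S : Sylow 2 ↥(Cfsg.Omega F (Cfsg.quadFormOdd 3 F))) : (Cfsg.groupFusionSystem (S : Subgroup ↥(Cfsg.Omega F (Cfsg.quadFormOdd 3 F)))).autGroup (S : Subgroup ↥(Cfsg.Omega F (Cfsg.quadFormOdd 3 F))) = Cfsg.Inn ↥(S : Subgroup ↥(Cfsg.Omega F (Cfsg.quadFormOdd 3 F))) ∧ (∀ T : Subgroup ↥(Cfsg.Omega F (Cfsg.quadFormOdd 3 F)), (Cfsg.groupFusionSystem (S : Subgroup ↥(Cfsg.Omega F (Cfsg.quadFormOdd 3 F)))).StronglyClosed T → T = ⊥ ∨ T = (S : Subgroup ↥(Cfsg.Omega F (Cfsg.quadFormOdd 3 F)))) ∧ (Cfsg.groupFusionSystem (S : Subgroup ↥(Cfsg.Omega F (Cfsg.quadFormOdd 3 F)))).IsSimple 2 := by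
  classical
  have hoddq : Odd (Fintype.card F) := by
    rw [hF, Nat.odd_iff]
    omega
  have h2 : (2 : F) ≠ 0 := two_ne_zero_of_odd_card' hoddq
  have hns : ¬ IsSquare (2 : F) := by
    rw [FiniteField.isSquare_two_iff, hF]
    omega
  obtain ⟨c, hc, ⟨e⟩⟩ := Cfsg.Agent.Lib.Helper44.O7.exists_omegaIso (F := F) h2
  haveI : Finite ↥(Cfsg.Omega F (Cfsg.quadFormOdd 3 F)) := inferInstance
  obtain ⟨hNS, hSCS⟩ := Cfsg.Agent.Lib.Helper44.O7.sylow_transport e
    ((Cfsg.Agent.Lib.Helper44.O7.S0 c).subgroupOf (Cfsg.Agent.Lib.Helper44.O7.OmG c))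
    (hp_S0H c) (hN_S0H h2 hns c hc) (hSC_S0H h2 hns c hc) S
  have htop : (Cfsg.groupFusionSystem (S : Subgroup ↥(Cfsg.Omega F (Cfsg.quadFormOdd 3 F)))).autGroup
      (S : Subgroup ↥(Cfsg.Omega F (Cfsg.quadFormOdd 3 F))) =
      Cfsg.Inn ↥(S : Subgroup ↥(Cfsg.Omega F (Cfsg.quadFormOdd 3 F))) := by
    rw [Cfsg.Agent.Lib.Helper98.FusionSelfNorm.autGroup_groupFusionSystem_self,
      Cfsg.Agent.Lib.Helper98.FusionSelfNorm.autInducedBy_top_eq_of_selfNormalizing hNS,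
      Cfsg.Agent.Lib.Helper98.FusionSelfNorm.autInducedBy_self_eq_Inn]
  have hS1 : (S : Subgroup ↥(Cfsg.Omega F (Cfsg.quadFormOdd 3 F))) ≠ ⊥ := by
    apply Sylow.ne_bot_of_dvd_card
    obtain ⟨x, hx1, hx2⟩ := exists_invol_S0H h2 hns c hc
    have h3 : (e.symm x) ^ 2 = 1 := by rw [← map_pow, hx2, map_one]
    have h4 : e.symm x ≠ 1 := by
      intro h
      apply hx1
      have := congrArg e h
      rwa [MulEquiv.apply_symm_apply, map_one] at this
    have h5 : orderOf (e.symm x) = 2 := orderOf_eq_prime h3 h4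
    rw [← h5]
    exact orderOf_dvd_natCard _
  refine ⟨htop, hSCS, ?_⟩
  haveI : Fact (Nat.Prime 2) := ⟨Nat.prime_two⟩
  exact Cfsg.Agent.S5339.result 2 S.isPGroup' _ (Cfsg.Agent.S5076.result 2 S) hS1 htop hSCS

end Cfsg.Agent.S2647
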