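import Cfsg.Statements.S2665
-- import your own Cfsg.Agent.* helpers here

set_option autoImplicit false
open scoped MatrixGroups
open Cfsg

namespace Cfsg.Agent.S2665

section Helpers
open Polynomial

section
variable {K : Type*} [Field K] [IsAlgClosed K] (p : ℕ) [Fact p.Prime] [CharP K p] (f : ℕ)

/-- the semilinear map `v ↦ g (σ v)` -/
noncomputable def frobMap {ι : Type*} [Fintype ι] (g : Matrix ι ι K) :
    (ι → K) →ₛₗ[iterateFrobenius K p f] (ι → K) where
  toFun v := g.mulVec (fun i => iterateFrobenius K p f (v i))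
  map_add' v w := by
    rw [← Matrix.mulVec_add]
    congr 1
    ext i
    simp
  map_smul' a v := by
    rw [← Matrix.mulVec_smul]
    congr 1
    ext i
    simp

theorem frobMap_apply {ι : Type*} [Fintype ι] (g : Matrix ι ι K) (v : ι → K) :
    frobMap p f g v = g.mulVec (fun i => iterateFrobenius K p f (v i)) := rfl

theorem frobMap_injective {ι : Type*} [Fintype ι] [DecidableEq ι] (g : Matrix ι ι K) (hg : IsUnit g.det) :
    Function.Injective (frobMap p f g) := by
  rw [injective_iff_map_eq_zero]
  intro v hv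
  rw [frobMap_apply] at hv
  have h1 := Matrix.eq_zero_of_mulVec_eq_zero hg.ne_zero hv
  ext i
  have := congrFun h1 i
  simp only [iterateFrobenius_def, Pi.zero_apply] at this
  exact (pow_eq_zero_iff (pow_ne_zero f (Fact.out : p.Prime).ne_zero)).1 this

theorem exists_fixed_vector (hf : 1 ≤ f) {ι : Type*} [Fintype ι] [DecidableEq ι] [Nonempty ι]
    (g : Matrix ι ι K) (hg : IsUnit g.det) : ∃ v : ι → K, v ≠ 0 ∧ frobMap p f g v = v := by
  classical
  set φ := frobMap p f g with hφ
  have hinj := frobMap_injective p f g hg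
  set q := p ^ f with hq
  have hq2 : 2 ≤ q := by
    have h1 : p ^ 1 ≤ p ^ f := Nat.pow_le_pow_right (Fact.out : p.Prime).pos hf
    have := (Fact.out : p.Prime).two_le
    simp at h1; omega
  have hσ : ∀ a : K, iterateFrobenius K p f a = a ^ q := fun a => by simp [iterateFrobenius_def, hq]
  -- a nonzero vector
  obtain ⟨i₀⟩ := ‹Nonempty ι›
  let w : ι → K := Pi.single i₀ 1
  have hw : w ≠ 0 := by
    intro h
    have := congrFun h i₀
    simp [w] at this
  let u : ℕ → (ι → K) := fun k => φ^[k] w
  have hu_succ : ∀ k, φ (u k) = u (k + 1) := by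
    intro k
    simp only [u, Function.iterate_succ_apply']
  have hu_ne : ∀ k, u k ≠ 0 := by
    intro k
    induction k with
    | zero => exact hw
    | succ k ih =>
      rw [← hu_succ]
      intro h
      exact ih (hinj (by rw [h, map_zero]))
  -- find m with u m in the span of the previous ones, which are independent
  have hex : ∃ m, LinearIndependent K (fun i : Fin m => u i) ∧
      u m ∈ Submodule.span K (Set.range (fun i : Fin m => u i)) := by
    by_contra hcon
    push Not at hcon
    have hall : ∀ m, LinearIndependent K (fun i : Fin m => u i) := by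
      intro m
      induction m with
      | zero => exact linearIndependent_empty_type
      | succ m ih =>
        have h1 := hcon m ih
        have h2 : (fun i : Fin (m + 1) => u i) = Fin.snoc (fun i : Fin m => u i) (u m) := by
          ext i j
          refine Fin.lastCases ?_ (fun i => ?_) i
          · simp
          · simp
        rw [h2, linearIndependent_finSnoc]
        exact ⟨ih, h1⟩
    have := (hall (Fintype.card ι + 1)).fintype_card_le_finrank
    simp at this
  obtain ⟨m, hli, hmem⟩ := hex
  obtain ⟨m', rfl⟩ : ∃ m', m = m' + 1 := by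
    rcases m with _ | m'
    · exfalso
      simp at hmem
      exact hu_ne 0 hmem
    · exact ⟨m', rfl⟩
  obtain ⟨a₀, ha₀⟩ := (Submodule.mem_span_range_iff_exists_fun K).1 hmem
  let a : ℕ → K := fun k => if h : k < m' + 1 then a₀ ⟨k, h⟩ else 0
  have ha : u (m' + 1) = ∑ k ∈ Finset.range (m' + 1), a k • u k := by
    rw [← ha₀, ← Fin.sum_univ_eq_sum_range (fun k => a k • u k)]
    apply Finset.sum_congr rfl
    intro i _
    have : a i = a₀ i := by
      simp only [a]; rw [dif_pos i.2]
    rw [this]
  -- the polynomials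
  let S : ℕ → K[X] := fun i => Nat.rec (C (a 0)) (fun i Si => X ^ (q * q - q) * Si ^ q + C (a (i + 1))) i
  have hS0 : S 0 = C (a 0) := rfl
  have hSs : ∀ i, S (i + 1) = X ^ (q * q - q) * (S i) ^ q + C (a (i + 1)) := fun i => rfl
  have hqq : 0 < q * q - q := by
    have : q * 2 ≤ q * q := Nat.mul_le_mul_left q hq2
    omega
  have hSz : ∀ i, S i = 0 → ∀ j ≤ i, a j = 0 := by
    intro i
    induction i with
    | zero =>
      intro h j hj
      rw [hS0] at h
      have : j = 0 := by omega
      subst this
      simpa using h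
    | succ i ih =>
      intro h j hj
      rw [hSs] at h
      have h1 : a (i + 1) = 0 := by
        have := congrArg (Polynomial.eval 0) h
        simp [hqq.ne'] at this
        exact this
      rw [h1] at h
      simp only [map_zero, add_zero, mul_eq_zero, pow_eq_zero_iff hqq.ne', X_ne_zero, false_or] at h
      have h2 : S i = 0 := pow_eq_zero_iff (by omega) |>.1 h
      rcases Nat.lt_or_ge j (i + 1) with hlt | hge
      · exact ih h2 j (by omega)
      · have : j = i + 1 := by omega
        rw [this]; exact h1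
  have hSne : S m' ≠ 0 := by
    intro h
    have hz := hSz m' h
    apply hu_ne (m' + 1)
    rw [ha]
    apply Finset.sum_eq_zero
    intro k hk
    rw [hz k (by have := Finset.mem_range.1 hk; omega), zero_smul]
  -- the root
  let T : K[X] := X ^ (q - 1) * S m' - 1
  have hTdeg : T.degree ≠ 0 := by
    have h1 : (X ^ (q - 1) * S m').natDegree = q - 1 + (S m').natDegree := by
      rw [natDegree_mul (pow_ne_zero _ X_ne_zero) hSne, natDegree_X_pow]
    have h2 : T.natDegree = q - 1 + (S m').natDegree := by
      simp only [T]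
      rw [natDegree_sub_eq_left_of_natDegree_lt, h1]
      rw [h1]; simp; omega
    intro h
    have : T.natDegree = 0 := natDegree_eq_zero_iff_degree_le_zero.2 (le_of_eq h)
    omega
  obtain ⟨t, ht⟩ := IsAlgClosed.exists_root T hTdeg
  have ht' : t ^ (q - 1) * (S m').eval t = 1 := by
    have : T.eval t = 0 := ht
    simp only [T, eval_sub, eval_mul, eval_pow, eval_X, eval_one] at this
    exact sub_eq_zero.1 this
  have ht0 : t ≠ 0 := by
    rintro rfl
    rw [zero_pow (by omega), zero_mul] at ht'
    exact zero_ne_one ht'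
  -- the coefficients
  let c : ℕ → K := fun i => t ^ q * (S i).eval t
  have hc0 : c 0 = a 0 * t ^ q := by
    simp [c, hS0, mul_comm]
  have hcs : ∀ i, c (i + 1) = (c i) ^ q + a (i + 1) * t ^ q := by
    intro i
    simp only [c, hSs, eval_add, eval_mul, eval_pow, eval_X, eval_C]
    have : t ^ q * t ^ (q * q - q) = (t ^ q) ^ q := by
      rw [← pow_add, ← pow_mul]
      congr 1
      have : q ≤ q * q := Nat.le_mul_self q
      omega
    rw [mul_pow, ← this]; ring
  have hcm : c m' = t := by
    simp only [c]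
    have : t ^ q = t * t ^ (q - 1) := by
      rw [← pow_succ']; congr 1; omega
    rw [this, mul_assoc, ht', mul_one]
  refine ⟨∑ k ∈ Finset.range (m' + 1), c k • u k, ?_, ?_⟩
  · intro h
    rw [← Fin.sum_univ_eq_sum_range (fun k => c k • u k)] at h
    have := Fintype.linearIndependent_iff.1 hli (fun i => c i) h (Fin.last m')
    simp only [Fin.val_last] at this
    rw [hcm] at this
    exact ht0 this
  · rw [map_sum]
    simp only [map_smulₛₗ, hσ, hu_succ]
    rw [Finset.sum_range_succ, hcm, ha, Finset.sum_range_succ' (fun k => c k • u k), hc0]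
    simp only [hcs]
    rw [Finset.smul_sum, Finset.sum_range_succ' (fun k => t ^ q • a k • u k)]
    simp only [add_smul, Finset.sum_add_distrib, smul_smul]
    rw [add_assoc]
    congr 1
    simp only [mul_comm]

end

section
variable {K : Type*} [Field K] [IsAlgClosed K] (p : ℕ) [Fact p.Prime] [CharP K p] (f : ℕ)

/-- an invertible matrix with prescribed `i₀`-th column -/
theorem exists_matrix_col {ι : Type*} [Fintype ι] [DecidableEq ι] (v : ι → K) (hv : v ≠ 0) (i₀ : ι) :
    ∃ y : Matrix ι ι K, IsUnit y.det ∧ y.mulVec (Pi.single i₀ 1) = v := by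
  have h0 : (Pi.single i₀ 1 : ι → K) ≠ 0 := by
    intro h
    have := congrFun h i₀
    simp at this
  let e : (Submodule.span K {(Pi.single i₀ 1 : ι → K)}) ≃ₗ[K] (Submodule.span K {v}) :=
    (LinearEquiv.toSpanNonzeroSingleton K _ _ h0).symm ≪≫ₗ LinearEquiv.toSpanNonzeroSingleton K _ v hv
  obtain ⟨G, hG⟩ := Submodule.exists_linearEquiv_restrict_eq e
  refine ⟨LinearMap.toMatrix' (G : (ι → K) →ₗ[K] (ι → K)), ?_, ?_⟩
  · rw [LinearMap.det_toMatrix']
    exact LinearEquiv.isUnit_det' G
  · rw [LinearMap.toMatrix'_mulVec]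
    have := hG ⟨Pi.single i₀ 1, Submodule.mem_span_singleton_self _⟩
    simp only [LinearEquiv.coe_coe] at this ⊢
    rw [← this]
    simp only [e, LinearEquiv.trans_apply]
    have h1 : (LinearEquiv.toSpanNonzeroSingleton K (ι → K) (Pi.single i₀ 1) h0).symm
        ⟨Pi.single i₀ 1, Submodule.mem_span_singleton_self _⟩ = 1 := by
      rw [LinearEquiv.symm_apply_eq]
      simp [LinearEquiv.toSpanNonzeroSingleton_one]
    rw [h1]
    simp [LinearEquiv.toSpanNonzeroSingleton_one]

/-- Artin–Schreier: `c - c^q = d` is solvable -/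
theorem exists_artin_schreier (hf : 1 ≤ f) (d : K) : ∃ c : K, iterateFrobenius K p f c + d = c := by
  set q := p ^ f with hq
  have hq2 : 2 ≤ q := by
    have h1 : p ^ 1 ≤ p ^ f := Nat.pow_le_pow_right (Fact.out : p.Prime).pos hf
    have := (Fact.out : p.Prime).two_le
    simp at h1; omega
  let T : K[X] := X ^ q - X + C d
  have hT : T.degree ≠ 0 := by
    have h1 : T.natDegree = q := by
      simp only [T]
      rw [natDegree_add_C, natDegree_sub_eq_left_of_natDegree_lt] <;> simp <;> omega
    intro h
    have : T.natDegree = 0 := natDegree_eq_zero_iff_degree_le_zero.2 (le_of_eq h)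
    omega
  obtain ⟨c, hc⟩ := IsAlgClosed.exists_root T hT
  refine ⟨c, ?_⟩
  have : T.eval c = 0 := hc
  simp only [T, eval_add, eval_sub, eval_pow, eval_X, eval_C] at this
  rw [iterateFrobenius_def]
  linear_combination this

/-- The matrix form of Lang's theorem, as a predicate on index types. -/
def LangMat (ι : Type*) [Fintype ι] [DecidableEq ι] : Prop :=
  ∀ g : Matrix ι ι K, IsUnit g.det → ∃ x : Matrix ι ι K, IsUnit x.det ∧
    g * x.map (iterateFrobenius K p f) = x

theorem langMat_step (hf : 1 ≤ f) (n : ℕ) (ih : LangMat (K := K) p f (Fin n)) :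
    LangMat (K := K) p f (Fin 1 ⊕ Fin n) := by
  intro g hg
  set σ := iterateFrobenius K p f with hσ
  obtain ⟨v, hv0, hv⟩ := exists_fixed_vector p f hf g hg
  rw [frobMap_apply] at hv
  obtain ⟨y, hy, hyv⟩ := exists_matrix_col v hv0 (Sum.inl 0)
  set e₀ : Fin 1 ⊕ Fin n → K := Pi.single (Sum.inl 0) 1 with he₀
  have hyinv : y⁻¹ * y = 1 := Matrix.nonsing_inv_mul _ hy
  have hyinv' : y * y⁻¹ = 1 := Matrix.mul_nonsing_inv _ hy
  set g' := y⁻¹ * g * y.map σ with hg'
  have hymap : (y.map σ).mulVec e₀ = fun i => σ (v i) := by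
    have h1 : e₀ = fun i => σ (e₀ i) := by
      ext i
      by_cases h : i = Sum.inl 0
      · subst h; simp [he₀]
      · simp [he₀, h]
    rw [h1]
    have := RingHom.map_mulVec σ y e₀
    rw [hyv] at this
    ext i
    exact (this i).symm
  have hg'e : g'.mulVec e₀ = e₀ := by
    rw [hg', ← Matrix.mulVec_mulVec, ← Matrix.mulVec_mulVec, hymap, hv, ← hyv, Matrix.mulVec_mulVec, hyinv,
      Matrix.one_mulVec]
  have hcol : ∀ i, g' i (Sum.inl 0) = e₀ i := by
    intro i
    have := congrFun hg'e i
    simpa [Matrix.mulVec, dotProduct, he₀, Pi.single_apply] using this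
  have h11 : g'.toBlocks₁₁ = 1 := by
    ext i j
    have hi : i = 0 := Subsingleton.elim i 0
    have hj : j = 0 := Subsingleton.elim j 0
    subst hi hj
    simp [Matrix.toBlocks₁₁, hcol, he₀]
  have h21 : g'.toBlocks₂₁ = 0 := by
    ext i j
    have hj : j = 0 := Subsingleton.elim j 0
    subst hj
    simp [Matrix.toBlocks₂₁, hcol, he₀]
  have hblocks : g' = Matrix.fromBlocks 1 g'.toBlocks₁₂ 0 g'.toBlocks₂₂ := by
    conv_lhs => rw [← Matrix.fromBlocks_toBlocks g', h11, h21]
  have hg'det : IsUnit g'.det := by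
    rw [hg', Matrix.det_mul, Matrix.det_mul]
    refine IsUnit.mul (IsUnit.mul ?_ hg) ?_
    · rw [Matrix.det_nonsing_inv]; exact hy.ringInverse
    · have : (y.map σ).det = σ y.det := (RingHom.map_det σ y).symm
      rw [this]; exact hy.map σ
  have hhdet : IsUnit g'.toBlocks₂₂.det := by
    rw [hblocks, Matrix.det_fromBlocks_zero₂₁, Matrix.det_one, one_mul] at hg'det
    exact hg'det
  obtain ⟨z, hz, hzeq⟩ := ih g'.toBlocks₂₂ hhdet
  -- Artin–Schreier for the off-diagonal block
  have hc : ∃ c : Matrix (Fin 1) (Fin n) K, c.map σ + g'.toBlocks₁₂ * z.map σ = c := by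
    choose c hc using fun j : Fin n => exists_artin_schreier (K := K) p f hf ((g'.toBlocks₁₂ * z.map σ) 0 j)
    refine ⟨Matrix.of fun _ j => c j, ?_⟩
    ext i j
    have hi : i = 0 := Subsingleton.elim i 0
    subst hi
    simpa using hc j
  obtain ⟨c, hc⟩ := hc
  refine ⟨y * Matrix.fromBlocks (1 : Matrix (Fin 1) (Fin 1) K) c 0 z, ?_, ?_⟩
  · rw [Matrix.det_mul, Matrix.det_fromBlocks_zero₂₁, Matrix.det_one, one_mul]
    exact hy.mul hz
  · have hXmap : (y * Matrix.fromBlocks (1 : Matrix (Fin 1) (Fin 1) K) c 0 z).map σ =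
        y.map σ * Matrix.fromBlocks (1 : Matrix (Fin 1) (Fin 1) K) (c.map σ) 0 (z.map σ) := by
      rw [Matrix.map_mul, Matrix.fromBlocks_map]
      congr 2
      · ext i j; simp [Matrix.one_apply]
      · ext i j; simp
    have hgy : g * y.map σ = y * g' := by
      rw [hg', ← Matrix.mul_assoc, ← Matrix.mul_assoc, hyinv', Matrix.one_mul]
    rw [hXmap, ← Matrix.mul_assoc, hgy, Matrix.mul_assoc]
    congr 1
    rw [hblocks, Matrix.fromBlocks_multiply]
    simp only [Matrix.one_mul, Matrix.mul_zero, add_zero, Matrix.zero_mul, zero_add, Matrix.mul_one]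
    rw [hc]
    congr 1

theorem langMat_equiv {ι κ : Type*} [Fintype ι] [DecidableEq ι] [Fintype κ] [DecidableEq κ]
    (e : ι ≃ κ) (h : LangMat (K := K) p f κ) : LangMat (K := K) p f ι := by
  intro g hg
  obtain ⟨x, hx, hxeq⟩ := h (g.submatrix e.symm e.symm) (by rwa [Matrix.det_submatrix_equiv_self])
  refine ⟨x.submatrix e e, by rwa [Matrix.det_submatrix_equiv_self], ?_⟩
  have : g = (g.submatrix e.symm e.symm).submatrix e e := by
    ext i j; simp
  rw [this, ← Matrix.submatrix_map, Matrix.submatrix_mul_equiv, hxeq]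

theorem langMat_fin (hf : 1 ≤ f) (n : ℕ) : LangMat (K := K) p f (Fin n) := by
  induction n with
  | zero =>
    intro g _
    refine ⟨1, by simp, ?_⟩
    ext i; exact i.elim0
  | succ n ih =>
    have e : Fin (n + 1) ≃ Fin 1 ⊕ Fin n :=
      (finCongr (Nat.add_comm n 1)).trans finSumFinEquiv.symm
    exact langMat_equiv p f e (langMat_step p f hf n ih)

end

end Helpers


/-- The Lang–Steinberg Theorem for the general linear group. Let `K` be an algebraically closed field of prime characteristic `p`, let `q = p^f` with `f ≥ 1`, and let `σ` be the endomorphism of GL_n(K) raising every matrix entry to the `q`-th power. Then every element `g` of GL_n(K) can be written `g = x · σ(x)⁻¹` for some `x` in GL_n(K): the map `x ↦ x σ(x)⁻¹` is surjective. -/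
theorem result {K : Type*} [Field K] [IsAlgClosed K] (p : ℕ) [Fact p.Prime] [CharP K p]
    (f : ℕ) (hf : 1 ≤ f) (n : ℕ) (g : GL (Fin n) K) :
    ∃ x : GL (Fin n) K, g = x * (Matrix.GeneralLinearGroup.map (iterateFrobenius K p f) x)⁻¹ := by
  obtain ⟨x, hx, hxeq⟩ := langMat_fin p f hf n (g : Matrix (Fin n) (Fin n) K)
    ((Matrix.isUnit_iff_isUnit_det _).1 g.isUnit)
  let x' : GL (Fin n) K := Matrix.GeneralLinearGroup.mk'' x hx
  refine ⟨x', ?_⟩
  rw [eq_mul_inv_iff_mul_eq]
  apply Units.ext
  simp only [Units.val_mul, Matrix.GeneralLinearGroup.map_apply]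
  exact hxeq

end Cfsg.Agent.S2665
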