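import Cfsg.Statements.S2666
-- import your own Cfsg.Agent.* helpers here

set_option autoImplicit false
open Cfsg

namespace Cfsg.Agent.S2666

theorem prod_range_eq {X : Type*} [Group X] (σ : MulAut X) (a : X) (d : ℕ) :
    ((List.range d).map (fun i => (σ ^ i) (a * (σ a)⁻¹))).prod = a * ((σ ^ d) a)⁻¹ := by
  induction d with
  | zero => simp
  | succ n ih =>
    rw [List.range_succ, List.map_append, List.prod_append, ih]
    simp only [List.map_cons, List.map_nil, List.prod_cons, List.prod_nil, mul_one, map_mul, map_inv]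
    have : (σ ^ n) (σ a) = (σ ^ (n + 1)) a := by
      rw [pow_succ, MulAut.mul_apply]
    rw [this]; group

theorem mem_eqLocus_iff {X : Type*} [Group X] (τ : MulAut X) (y : X) :
    y ∈ (MulEquiv.toMonoidHom τ).eqLocus (MonoidHom.id X) ↔ τ y = y := by
  simp [MonoidHom.eqLocus]

theorem fixed_x {X : Type*} [Group X] (σ τ : MulAut X) (hc : Commute σ τ) (a : X)
    (hg : τ (a * (σ a)⁻¹) = a * (σ a)⁻¹) : σ ((τ a)⁻¹ * a) = (τ a)⁻¹ * a := by
  have h1 : σ (τ a) = τ (σ a) := by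
    have := congrArg (fun f : MulAut X => f a) hc.eq
    simpa [MulAut.mul_apply] using this
  simp only [map_mul, map_inv] at hg ⊢
  rw [h1]
  have h2 : (τ (σ a))⁻¹ = (τ a)⁻¹ * a * (σ a)⁻¹ := by
    calc (τ (σ a))⁻¹ = (τ a)⁻¹ * (τ a * (τ (σ a))⁻¹) := by group
      _ = (τ a)⁻¹ * (a * (σ a)⁻¹) := by rw [hg]
      _ = (τ a)⁻¹ * a * (σ a)⁻¹ := by group
  rw [h2]; group

theorem pow_fixed {X : Type*} [Group X] (σ : MulAut X) (y : X) (h : σ y = y) (n : ℕ) :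
    (σ ^ n) y = y := by
  induction n with
  | zero => simp
  | succ n ih => rw [pow_succ, MulAut.mul_apply, h, ih]

theorem pow_descent {X : Type*} [Group X] (τ : MulAut X) (a : X)
    (hx : τ ((τ a)⁻¹ * a) = (τ a)⁻¹ * a) (d : ℕ) :
    ((τ ^ d) a)⁻¹ * a = ((τ a)⁻¹ * a) ^ d := by
  induction d with
  | zero => simp
  | succ n ih =>
    have h1 : (τ ^ (n + 1)) a = τ ((τ ^ n) a) := by
      rw [pow_succ', MulAut.mul_apply]
    rw [h1, pow_succ, ← ih]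
    have h2 : τ (((τ ^ n) a)⁻¹ * a) = ((τ ^ n) a)⁻¹ * a := by
      rw [ih]; rw [map_pow, hx]
    calc (τ ((τ ^ n) a))⁻¹ * a = τ (((τ ^ n) a)⁻¹ * a) * ((τ a)⁻¹ * a) := by
          simp only [map_mul, map_inv]; group
      _ = ((τ ^ n) a)⁻¹ * a * ((τ a)⁻¹ * a) := by rw [h2]


/-- Shintani descent, in an abstract form. Let `σ` be an automorphism of a group `X` such that the maps `a ↦ a·σ(a)⁻¹` and `a ↦ a·σᵉ(a)⁻¹` are surjective on `X` (the Lang–Steinberg property, which holds when `X` is a connected algebraic group and `σ` a Steinberg endomorphism), where `e ≥ 1`. Write `G` for the subgroup of fixed points of `σᵉ` and `H` for the subgroup of fixed points of `σ`. The `G`-conjugacy classes in the coset `G σ` of the semidirect product of `G` by `σ` correspond to the orbits of `G` on itself under twisted conjugation `g ↦ k g σ(k)⁻¹`, and the `e`-th power of `g σ` has `G`-part the norm `g σ(g)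 ⋯ σ^(e-1)(g)`. For `g` in `G` and any `a` with `g = a σ(a)⁻¹`, put `x = σᵉ(a)⁻¹ a`. Then: (1) `x` lies in `H`, and `a⁻¹ · (g σ(g) ⋯ σ^(e-1)(g)) · a = x`; (2) for `g, g'` in `G` with such elements `a, b` and `x, x'`, the elements `g, g'` are twisted-conjugate under `G` if and only if `x, x'` are conjugate in `H`; (3) every element of `H` arises as such an `x`. So `g ↦ x` induces a well-defined bijection from the twisted `G`-classes of `G` onto the conjugacy classes of `H` (the Shintani map). -/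
theorem result {X : Type*} [Group X] (σ : MulAut X) (e : ℕ) (he : 1 ≤ e)
    (hL : ∀ g : X, ∃ a : X, g = a * (σ a)⁻¹) (hLe : ∀ g : X, ∃ a : X, g = a * ((σ ^ e) a)⁻¹) :
    (∀ g ∈ (MulEquiv.toMonoidHom (σ ^ e)).eqLocus (MonoidHom.id X), ∀ a : X, g = a * (σ a)⁻¹ →
        ((σ ^ e) a)⁻¹ * a ∈ (MulEquiv.toMonoidHom σ).eqLocus (MonoidHom.id X) ∧
          a⁻¹ * ((List.range e).map (fun i => (σ ^ i) g)).prod * a = ((σ ^ e) a)⁻¹ * a) ∧
    (∀ g ∈ (MulEquiv.toMonoidHom (σ ^ e)).eqLocus (MonoidHom.id X), ∀ g' ∈ (MulEquiv.toMonoidHom (σ ^ e)).eqLocus (MonoidHom.id X), ∀ a b : X,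
        g = a * (σ a)⁻¹ → g' = b * (σ b)⁻¹ →
          ((∃ k ∈ (MulEquiv.toMonoidHom (σ ^ e)).eqLocus (MonoidHom.id X), g' = k * g * (σ k)⁻¹) ↔
            (∃ h ∈ (MulEquiv.toMonoidHom σ).eqLocus (MonoidHom.id X), ((σ ^ e) b)⁻¹ * b = h * (((σ ^ e) a)⁻¹ * a) * h⁻¹))) ∧
    (∀ x ∈ (MulEquiv.toMonoidHom σ).eqLocus (MonoidHom.id X), ∃ g ∈ (MulEquiv.toMonoidHom (σ ^ e)).eqLocus (MonoidHom.id X), ∃ a : X,
        g = a * (σ a)⁻¹ ∧ ((σ ^ e) a)⁻¹ * a = x) := by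
  have hc : Commute σ (σ ^ e) := (Commute.refl σ).pow_right e
  refine ⟨?_, ?_, ?_⟩
  · intro g hg a ha
    have hgτ : (σ ^ e) g = g := (mem_eqLocus_iff _ _).1 hg
    subst ha
    refine ⟨(mem_eqLocus_iff _ _).2 (fixed_x σ (σ ^ e) hc a hgτ), ?_⟩
    rw [prod_range_eq σ a e]; group
  · intro g hg g' hg' a b ha hb
    have hgτ : (σ ^ e) g = g := (mem_eqLocus_iff _ _).1 hg
    have hgτ' : (σ ^ e) g' = g' := (mem_eqLocus_iff _ _).1 hg'
    subst ha hb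
    have hx : σ (((σ ^ e) a)⁻¹ * a) = ((σ ^ e) a)⁻¹ * a := fixed_x σ (σ ^ e) hc a hgτ
    have hx' : σ (((σ ^ e) b)⁻¹ * b) = ((σ ^ e) b)⁻¹ * b := fixed_x σ (σ ^ e) hc b hgτ'
    constructor
    · rintro ⟨k, hk, hkg⟩
      have hkτ : (σ ^ e) k = k := (mem_eqLocus_iff _ _).1 hk
      -- h' = a⁻¹ k⁻¹ b is σ-fixed
      have hh : σ (a⁻¹ * k⁻¹ * b) = a⁻¹ * k⁻¹ * b := by
        simp only [map_mul, map_inv]
        have h1 : (σ b)⁻¹ = b⁻¹ * (k * (a * (σ a)⁻¹) * (σ k)⁻¹) := by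
          rw [← hkg]; group
        calc (σ a)⁻¹ * (σ k)⁻¹ * σ b = ((σ b)⁻¹ * σ k * σ a)⁻¹ := by group
          _ = (b⁻¹ * (k * (a * (σ a)⁻¹) * (σ k)⁻¹) * σ k * σ a)⁻¹ := by rw [h1]
          _ = a⁻¹ * k⁻¹ * b := by group
      refine ⟨(a⁻¹ * k⁻¹ * b)⁻¹, ?_, ?_⟩
      · rw [mem_eqLocus_iff, map_inv, hh]
      · have hτh : (σ ^ e) (a⁻¹ * k⁻¹ * b) = a⁻¹ * k⁻¹ * b := pow_fixed σ _ hh e
        simp only [map_mul, map_inv, hkτ] at hτh
        have h2 : ((σ ^ e) b)⁻¹ = (a⁻¹ * k⁻¹ * b)⁻¹ * ((σ ^ e) a)⁻¹ * k⁻¹ := by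
          calc ((σ ^ e) b)⁻¹ = (((σ ^ e) a)⁻¹ * k⁻¹ * (σ ^ e) b)⁻¹ * ((σ ^ e) a)⁻¹ * k⁻¹ := by group
            _ = (a⁻¹ * k⁻¹ * b)⁻¹ * ((σ ^ e) a)⁻¹ * k⁻¹ := by rw [hτh]
        rw [h2]; group
    · rintro ⟨h, hh, hxx⟩
      have hhσ : σ h = h := (mem_eqLocus_iff _ _).1 hh
      have hhτ : (σ ^ e) h = h := pow_fixed σ _ hhσ e
      refine ⟨b * h * a⁻¹, ?_, ?_⟩
      · rw [mem_eqLocus_iff]
        simp only [map_mul, map_inv, hhτ]
        have h3 : (σ ^ e) b = b * (h * (((σ ^ e) a)⁻¹ * a) * h⁻¹)⁻¹ := by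
          rw [← hxx]; group
        rw [h3]; group
      · simp only [map_mul, map_inv, hhσ]; group
  · intro x hx
    have hxσ : σ x = x := (mem_eqLocus_iff _ _).1 hx
    obtain ⟨c, hc'⟩ := hLe x⁻¹
    have hτa : (σ ^ e) c⁻¹ = c⁻¹ * x⁻¹ := by
      rw [hc', map_inv]; group
    generalize c⁻¹ = a at hτa
    refine ⟨a * (σ a)⁻¹, ?_, a, rfl, ?_⟩
    · rw [mem_eqLocus_iff]
      have h1 : σ ((σ ^ e) a) = (σ ^ e) (σ a) := by
        have := congrArg (fun f : MulAut X => f a) hc.eq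
        simpa [MulAut.mul_apply] using this
      have h2 : (σ ^ e) (σ a) = σ a * x⁻¹ := by
        rw [← h1, hτa, map_mul, map_inv σ x, hxσ]
      rw [map_mul, map_inv (σ ^ e), h2, hτa]; group
    · rw [hτa]; group

end Cfsg.Agent.S2666
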