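import Cfsg.Statements.S2668
-- import your own Cfsg.Agent.* helpers here

set_option autoImplicit false
open Cfsg

namespace Cfsg.Agent.S2668

theorem prod_range_eq {X : Type*} [Group X] (σ : MulAut X) (a : X) (d : ℕ) :
    ((List.range d).map (fun i => (σ ^ i) (a * (σ a)⁻¹))).prod = a * ((σ ^ d) a)⁻¹ := by
  induction d with
  | zero => simp
  | succ n ih =>
    rw [List.range_succ, List.map_append, List.prod_append, ih]
    simp only [List.map_cons, List.map_nil, List.prod_cons, List.prod_nil, mul_one, map_mul, map_inv]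
    have : (σ ^ n) (σ a) = (σ ^ (n + 1)) a := by
      rw [pow_succ, MulAut.mul_apply]
    rw [this]; group

theorem mem_eqLocus_iff {X : Type*} [Group X] (τ : MulAut X) (y : X) :
    y ∈ (MulEquiv.toMonoidHom τ).eqLocus (MonoidHom.id X) ↔ τ y = y := by
  simp [MonoidHom.eqLocus]

theorem fixed_x {X : Type*} [Group X] (σ τ : MulAut X) (hc : Commute σ τ) (a : X)
    (hg : τ (a * (σ a)⁻¹) = a * (σ a)⁻¹) : σ ((τ a)⁻¹ * a) = (τ a)⁻¹ * a := by
  have h1 : σ (τ a) = τ (σ a) := by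
    have := congrArg (fun f : MulAut X => f a) hc.eq
    simpa [MulAut.mul_apply] using this
  simp only [map_mul, map_inv] at hg ⊢
  rw [h1]
  have h2 : (τ (σ a))⁻¹ = (τ a)⁻¹ * a * (σ a)⁻¹ := by
    calc (τ (σ a))⁻¹ = (τ a)⁻¹ * (τ a * (τ (σ a))⁻¹) := by group
      _ = (τ a)⁻¹ * (a * (σ a)⁻¹) := by rw [hg]
      _ = (τ a)⁻¹ * a * (σ a)⁻¹ := by group
  rw [h2]; group

theorem pow_fixed {X : Type*} [Group X] (σ : MulAut X) (y : X) (h : σ y = y) (n : ℕ) :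
    (σ ^ n) y = y := by
  induction n with
  | zero => simp
  | succ n ih => rw [pow_succ, MulAut.mul_apply, h, ih]

theorem pow_descent {X : Type*} [Group X] (τ : MulAut X) (a : X)
    (hx : τ ((τ a)⁻¹ * a) = (τ a)⁻¹ * a) (d : ℕ) :
    ((τ ^ d) a)⁻¹ * a = ((τ a)⁻¹ * a) ^ d := by
  induction d with
  | zero => simp
  | succ n ih =>
    have h1 : (τ ^ (n + 1)) a = τ ((τ ^ n) a) := by
      rw [pow_succ', MulAut.mul_apply]
    rw [h1, pow_succ, ← ih]
    have h2 : τ (((τ ^ n) a)⁻¹ * a) = ((τ ^ n) a)⁻¹ * a := by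
      rw [ih]; rw [map_pow, hx]
    calc (τ ((τ ^ n) a))⁻¹ * a = τ (((τ ^ n) a)⁻¹ * a) * ((τ a)⁻¹ * a) := by
          simp only [map_mul, map_inv]; group
      _ = ((τ ^ n) a)⁻¹ * a * ((τ a)⁻¹ * a) := by rw [h2]


/-- Shintani descent and powers (abstract form). Let `σ` be an automorphism of a group `X`, `e ≥ 1` and `d ≥ 1`, let `g` be fixed by `σᵉ` and let `a` satisfy `g = a σ(a)⁻¹`, so that the Shintani map of `(X, σ, e)` sends the class of `g σ` to the class of `x = σᵉ(a)⁻¹ a`. Put `h = g σ(g) ⋯ σ^(d-1)(g)`, the part in `X` of the `d`-th power `(g σ)^d = h σ^d`. Then `h = a σ^d(a)⁻¹` (so `a` also serves for `h` with respect to `σ^d`), `h` is fixed by `(σ^d)ᵉ`, and `(σ^d)ᵉ(a)⁻¹ a = x^d`: the Shintani map of `(X, σ^d, e)` sends the class of `(g σ)^d` to the class of `x^d`. (When `d` divides `e`, the Shintani map of `(X, σ^d, e/d)` sends it to the class of `x` itself, since `(σ^d)^(e/d) = σᵉ`.) -/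
theorem result {X : Type*} [Group X] (σ : MulAut X) (e d : ℕ) (he : 1 ≤ e) (hd : 1 ≤ d)
    (g : X) (hg : g ∈ (MulEquiv.toMonoidHom (σ ^ e)).eqLocus (MonoidHom.id X)) (a : X) (ha : g = a * (σ a)⁻¹) :
    ((List.range d).map (fun i => (σ ^ i) g)).prod = a * ((σ ^ d) a)⁻¹ ∧
      ((List.range d).map (fun i => (σ ^ i) g)).prod ∈ (MulEquiv.toMonoidHom ((σ ^ d) ^ e)).eqLocus (MonoidHom.id X) ∧
      (((σ ^ d) ^ e) a)⁻¹ * a = (((σ ^ e) a)⁻¹ * a) ^ d := by
  have hgτ : (σ ^ e) g = g := (mem_eqLocus_iff _ _).1 hg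
  have hc : Commute σ (σ ^ e) := (Commute.refl σ).pow_right e
  subst ha
  have hx : σ (((σ ^ e) a)⁻¹ * a) = ((σ ^ e) a)⁻¹ * a := fixed_x σ (σ ^ e) hc a hgτ
  have hxτ : (σ ^ e) (((σ ^ e) a)⁻¹ * a) = ((σ ^ e) a)⁻¹ * a := pow_fixed σ _ hx e
  refine ⟨prod_range_eq σ a d, ?_, ?_⟩
  · apply Subgroup.list_prod_mem
    intro y hy
    rw [List.mem_map] at hy
    obtain ⟨i, _, rfl⟩ := hy
    rw [mem_eqLocus_iff]
    have h1 : ((σ ^ d) ^ e) ((σ ^ i) (a * (σ a)⁻¹)) = (σ ^ i) (((σ ^ e) ^ d) (a * (σ a)⁻¹)) := by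
      rw [← MulAut.mul_apply, ← MulAut.mul_apply, ← pow_mul, ← pow_mul, ← pow_add, ← pow_add]
      congr 2; ring
    rw [h1, pow_fixed (σ ^ e) _ hgτ d]
  · have h1 : (σ ^ d) ^ e = (σ ^ e) ^ d := by
      rw [← pow_mul, ← pow_mul, mul_comm]
    rw [h1]
    exact pow_descent (σ ^ e) a hxτ d

end Cfsg.Agent.S2668
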