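import Cfsg.Statements.S2669
-- import your own Cfsg.Agent.* helpers here

set_option autoImplicit false
open Cfsg

namespace Cfsg.Agent.S2669

section DoubleCount

variable {X : Type*} [Group X]

/-- The set of pairs `(k, h)` with `k⁻¹ a h ∈ Y` fibres over the `k` admitting a solution,
each fibre being a torsor under `Y ⊓ H`. -/
noncomputable def pairsEquivLeft (G H Y : Subgroup X) (a : X) :
    {p : G × H // (p.1 : X)⁻¹ * a * (p.2 : X) ∈ Y} ≃
      {k : G // ∃ h : H, (k : X)⁻¹ * a * (h : X) ∈ Y} × ↥(Y ⊓ H) where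
  toFun p :=
    (⟨p.1.1, ⟨p.1.2, p.2⟩⟩,
      ⟨((Classical.choose (⟨p.1.2, p.2⟩ : ∃ h : H, (p.1.1 : X)⁻¹ * a * (h : X) ∈ Y) : H) : X)⁻¹ *
          (p.1.2 : X), by
        have hs := Classical.choose_spec (⟨p.1.2, p.2⟩ : ∃ h : H, (p.1.1 : X)⁻¹ * a * (h : X) ∈ Y)
        refine ⟨?_, H.mul_mem (H.inv_mem (Subtype.property _)) p.1.2.2⟩
        have := Y.mul_mem (Y.inv_mem hs) p.2
        simpa [mul_assoc] using this⟩)
  invFun q :=
    ⟨(q.1.1, (Classical.choose q.1.2) * ⟨(q.2 : X), q.2.2.2⟩), by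
      have hs := Classical.choose_spec q.1.2
      have := Y.mul_mem hs q.2.2.1
      simpa [mul_assoc] using this⟩
  left_inv p := by
    apply Subtype.ext
    apply Prod.ext
    · rfl
    · apply Subtype.ext
      simp
  right_inv q := by
    apply Prod.ext
    · rfl
    · apply Subtype.ext
      simp

/-- The symmetric statement: fibres over `h` are torsors under `Y ⊓ G`. -/
noncomputable def pairsEquivRight (G H Y : Subgroup X) (a : X) :
    {p : G × H // (p.1 : X)⁻¹ * a * (p.2 : X) ∈ Y} ≃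
      {h : H // ∃ k : G, (k : X)⁻¹ * a * (h : X) ∈ Y} × ↥(Y ⊓ G) where
  toFun p :=
    (⟨p.1.2, ⟨p.1.1, p.2⟩⟩,
      ⟨((Classical.choose (⟨p.1.1, p.2⟩ : ∃ k : G, (k : X)⁻¹ * a * (p.1.2 : X) ∈ Y) : G) : X)⁻¹ *
          (p.1.1 : X), by
        have hs := Classical.choose_spec (⟨p.1.1, p.2⟩ : ∃ k : G, (k : X)⁻¹ * a * (p.1.2 : X) ∈ Y)
        refine ⟨?_, G.mul_mem (G.inv_mem (Subtype.property _)) p.1.1.2⟩
        have := Y.mul_mem hs (Y.inv_mem p.2)
        simpa [mul_assoc] using this⟩)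
  invFun q :=
    ⟨((Classical.choose q.1.2) * ⟨(q.2 : X), q.2.2.2⟩, q.1.1), by
      have hs := Classical.choose_spec q.1.2
      have := Y.mul_mem (Y.inv_mem q.2.2.1) hs
      simpa [mul_assoc] using this⟩
  left_inv p := by
    apply Subtype.ext
    apply Prod.ext
    · apply Subtype.ext
      simp
    · rfl
  right_inv q := by
    apply Prod.ext
    · rfl
    · apply Subtype.ext
      simp

theorem double_count (G H Y : Subgroup X) (a : X) :
    Nat.card {k : G // ∃ h : H, (k : X)⁻¹ * a * (h : X) ∈ Y} * Nat.card ↥(Y ⊓ H) =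
      Nat.card {h : H // ∃ k : G, (k : X)⁻¹ * a * (h : X) ∈ Y} * Nat.card ↥(Y ⊓ G) := by
  rw [← Nat.card_prod, ← Nat.card_prod, ← Nat.card_congr (pairsEquivLeft G H Y a),
    ← Nat.card_congr (pairsEquivRight G H Y a)]

end DoubleCount

/-- Shintani descent preserves numbers of fixed points on coset spaces (abstract form). Let `σ` be an automorphism of a group `X` and `e ≥ 1`; write `G` for the fixed points of `σᵉ` and `H` for the fixed points of `σ`, and assume `G` is finite. Let `Y` be a `σ`-stable subgroup of `X` on which the maps `a ↦ a σ(a)⁻¹` and `a ↦ a σᵉ(a)⁻¹` are surjective (as for a closed connected `σ`-stable subgroup of an algebraic group). Let `g ∈ G`, let `a ∈ X` satisfy `g = a σ(a)⁻¹` and put `x = σᵉ(a)⁻¹ a` (the Shintani image, an element of `H`). The element `g σ` of the semidirect product acts on the cosets of `Y ∩ G` in `G` by `k (Y ∩ G) ↦ g σ(k) (Y ∩ G)`, fixing that coset exactly when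 `k⁻¹ g σ(k) ∈ Y`; and `x` fixes the coset `h (Y ∩ H)` of `H` exactly when `h⁻¹ x h ∈ Y`. Then the two numbers of fixed cosets agree; in cross-multiplied form, `#{k ∈ G : k⁻¹ g σ(k) ∈ Y} · |Y ∩ H| = #{h ∈ H : h⁻¹ x h ∈ Y} · |Y ∩ G|`. -/
theorem result {X : Type*} [Group X] (σ : MulAut X) (e : ℕ) (he : 1 ≤ e)
    [Finite ↥((MulEquiv.toMonoidHom (σ ^ e)).eqLocus (MonoidHom.id X))]
    (Y : Subgroup X) (hY : ∀ y : X, y ∈ Y ↔ σ y ∈ Y)
    (hYL : ∀ y ∈ Y, ∃ a ∈ Y, y = a * (σ a)⁻¹) (hYLe : ∀ y ∈ Y, ∃ a ∈ Y, y = a * ((σ ^ e) a)⁻¹)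
    (g : X) (hg : g ∈ (MulEquiv.toMonoidHom (σ ^ e)).eqLocus (MonoidHom.id X)) (a : X) (ha : g = a * (σ a)⁻¹) :
    Nat.card {k : ↥((MulEquiv.toMonoidHom (σ ^ e)).eqLocus (MonoidHom.id X)) // (k : X)⁻¹ * g * σ k ∈ Y} *
        Nat.card ↥(Y ⊓ (MulEquiv.toMonoidHom σ).eqLocus (MonoidHom.id X)) =
      Nat.card {h : ↥((MulEquiv.toMonoidHom σ).eqLocus (MonoidHom.id X)) // (h : X)⁻¹ * (((σ ^ e) a)⁻¹ * a) * h ∈ Y} *
        Nat.card ↥(Y ⊓ (MulEquiv.toMonoidHom (σ ^ e)).eqLocus (MonoidHom.id X)) := by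
  -- `Y` is stable under every power of `σ`.
  have hYpow : ∀ n : ℕ, ∀ y : X, y ∈ Y ↔ (σ ^ n) y ∈ Y := by
    intro n
    induction n with
    | zero => intro y; simp
    | succ n ih =>
      intro y
      rw [pow_succ', MulAut.mul_apply, ← hY]
      exact ih y
  have hYe := hYpow e
  -- membership in the fixed point subgroups
  have memG : ∀ z : X, z ∈ (MulEquiv.toMonoidHom (σ ^ e)).eqLocus (MonoidHom.id X) ↔ (σ ^ e) z = z := by
    intro z; rfl
  have memH : ∀ z : X, z ∈ (MulEquiv.toMonoidHom σ).eqLocus (MonoidHom.id X) ↔ σ z = z := by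
    intro z; rfl
  -- characterisation (1'): for `k ∈ G`
  have key1 : ∀ k : ↥((MulEquiv.toMonoidHom (σ ^ e)).eqLocus (MonoidHom.id X)),
      ((k : X)⁻¹ * g * σ k ∈ Y) ↔
        ∃ h : ↥((MulEquiv.toMonoidHom σ).eqLocus (MonoidHom.id X)), (k : X)⁻¹ * a * (h : X) ∈ Y := by
    intro k
    constructor
    · intro hk
      obtain ⟨y, hyY, hy⟩ := hYL _ hk
      -- b = k⁻¹ a ; b σ(b)⁻¹ = y σ(y)⁻¹ ; h = b⁻¹ y
      have hb : ((k : X)⁻¹ * a) * (σ ((k : X)⁻¹ * a))⁻¹ = y * (σ y)⁻¹ := by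
        rw [← hy, ha]
        simp [mul_assoc]
      have hfix : σ (((k : X)⁻¹ * a)⁻¹ * y) = ((k : X)⁻¹ * a)⁻¹ * y := by
        have h1 : (σ ((k : X)⁻¹ * a))⁻¹ * σ y = ((k : X)⁻¹ * a)⁻¹ * y := by
          have h2 : (σ ((k : X)⁻¹ * a))⁻¹ = ((k : X)⁻¹ * a)⁻¹ * (y * (σ y)⁻¹) := by
            rw [← hb]; group
          rw [h2]; group
        rw [map_mul, map_inv]
        exact h1
      refine ⟨⟨((k : X)⁻¹ * a)⁻¹ * y, (memH _).2 hfix⟩, ?_⟩
      have : (k : X)⁻¹ * a * (((k : X)⁻¹ * a)⁻¹ * y) = y := by group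
      show (k : X)⁻¹ * a * (((k : X)⁻¹ * a)⁻¹ * y) ∈ Y
      rw [this]; exact hyY
    · rintro ⟨h, hh⟩
      have hhfix : σ (h : X) = h := (memH _).1 h.2
      have h1 : σ ((k : X)⁻¹ * a * (h : X)) ∈ Y := (hY _).1 hh
      have h2 := Y.mul_mem hh (Y.inv_mem h1)
      have h3 : (k : X)⁻¹ * a * (h : X) * (σ ((k : X)⁻¹ * a * (h : X)))⁻¹ = (k : X)⁻¹ * g * σ k := by
        rw [ha]
        simp only [map_mul, map_inv, hhfix]
        group
      rwa [h3] at h2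
  -- characterisation (2'): for `h ∈ H`
  have key2 : ∀ h : ↥((MulEquiv.toMonoidHom σ).eqLocus (MonoidHom.id X)),
      ((h : X)⁻¹ * (((σ ^ e) a)⁻¹ * a) * h ∈ Y) ↔
        ∃ k : ↥((MulEquiv.toMonoidHom (σ ^ e)).eqLocus (MonoidHom.id X)), (k : X)⁻¹ * a * (h : X) ∈ Y := by
    intro h
    have hhfix : σ (h : X) = h := (memH _).1 h.2
    have hhfixe : (σ ^ e) (h : X) = h := by
      have : ∀ n : ℕ, (σ ^ n) (h : X) = h := by
        intro n
        induction n with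
        | zero => simp
        | succ n ih => rw [pow_succ, MulAut.mul_apply, hhfix, ih]
      exact this e
    constructor
    · intro hk
      -- c = a h ; w = c⁻¹ σ^e(c) ∈ Y
      have hw : (a * (h : X))⁻¹ * (σ ^ e) (a * (h : X)) ∈ Y := by
        have := Y.inv_mem hk
        have h2 : ((h : X)⁻¹ * (((σ ^ e) a)⁻¹ * a) * h)⁻¹ = (a * (h : X))⁻¹ * (σ ^ e) (a * (h : X)) := by
          rw [map_mul, hhfixe]; group
        rwa [h2] at this
      obtain ⟨a', ha'Y, ha'⟩ := hYLe _ hw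
      -- y' = a'⁻¹ ; k = c y'⁻¹ = c a'
      have hkfix : (σ ^ e) (a * (h : X) * a') = a * (h : X) * a' := by
        have h1 : (σ ^ e) (a * (h : X)) = (a * (h : X)) * (a' * ((σ ^ e) a')⁻¹) := by
          rw [← ha']; group
        rw [map_mul (σ ^ e) (a * (h : X)) a', h1]; group
      refine ⟨⟨a * (h : X) * a', (memG _).2 hkfix⟩, ?_⟩
      have : (a * (h : X) * a')⁻¹ * a * (h : X) = a'⁻¹ := by group
      show (a * (h : X) * a')⁻¹ * a * (h : X) ∈ Y
      rw [this]; exact Y.inv_mem ha'Y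
    · rintro ⟨k, hk⟩
      have hkfix : (σ ^ e) (k : X) = k := (memG _).1 k.2
      have h1 : (σ ^ e) ((k : X)⁻¹ * a * (h : X)) ∈ Y := (hYe _).1 hk
      have h2 := Y.mul_mem (Y.inv_mem h1) hk
      have h3 : ((σ ^ e) ((k : X)⁻¹ * a * (h : X)))⁻¹ * ((k : X)⁻¹ * a * (h : X)) =
          (h : X)⁻¹ * (((σ ^ e) a)⁻¹ * a) * h := by
        simp only [map_mul, map_inv, hkfix, hhfixe]
        group
      rwa [h3] at h2
  have e1 : {k : ↥((MulEquiv.toMonoidHom (σ ^ e)).eqLocus (MonoidHom.id X)) // (k : X)⁻¹ * g * σ k ∈ Y} ≃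
      {k : ↥((MulEquiv.toMonoidHom (σ ^ e)).eqLocus (MonoidHom.id X)) //
        ∃ h : ↥((MulEquiv.toMonoidHom σ).eqLocus (MonoidHom.id X)), (k : X)⁻¹ * a * (h : X) ∈ Y} :=
    Equiv.subtypeEquivRight key1
  have e2 : {h : ↥((MulEquiv.toMonoidHom σ).eqLocus (MonoidHom.id X)) // (h : X)⁻¹ * (((σ ^ e) a)⁻¹ * a) * h ∈ Y} ≃
      {h : ↥((MulEquiv.toMonoidHom σ).eqLocus (MonoidHom.id X)) //
        ∃ k : ↥((MulEquiv.toMonoidHom (σ ^ e)).eqLocus (MonoidHom.id X)), (k : X)⁻¹ * a * (h : X) ∈ Y} :=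
    Equiv.subtypeEquivRight key2
  rw [Nat.card_congr e1, Nat.card_congr e2]
  exact double_count _ _ Y a

end Cfsg.Agent.S2669
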