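import Cfsg.Statements.S2671
import Cfsg.Agent.Lib.Helper37.GUSimilar
import Cfsg.Agent.Lib.Helper37.CycloDual
import Cfsg.Agent.Lib.Helper37.InvCount
import Cfsg.Agent.Lib.Helper40.SemisimpleKill
import Cfsg.Agent.Lib.Helper40.CycloFactors
-- import your own Cfsg.Agent.* helpers here

set_option autoImplicit false
open Cfsg

namespace Cfsg.Agent.S2671

open Polynomial Cfsg.Agent.Lib.Helper40

section
variable {F : Type*} [Field F] [Fintype F] {n : ℕ}

/-- For `g` with `g ^ r = 1`, `r` invertible in `F`: `g` is semisimple and every monic irreducible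
factor of its characteristic polynomial divides `X ^ r - 1`. -/
theorem factors_of_pow_eq_one' (g : Matrix (Fin n) (Fin n) F) (r : ℕ) (hrF : (r : F) ≠ 0)
    (hgr : g ^ r = 1) :
    Module.End.IsSemisimple (Matrix.toLin' g) ∧
      ∀ m : F[X], m.Monic → Irreducible m → m ∣ g.charpoly → m ∣ X ^ r - 1 := by
  have hss := isSemisimple_toLin'_of_pow_eq_one g r hrF hgr
  refine ⟨hss, ?_⟩
  intro m hm hirr hdvd
  by_contra hnd
  set φ := Matrix.toLin' g with hφ
  have hφr : aeval φ (X ^ r - 1 : F[X]) = 0 := by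
    have h1 : φ ^ r = 1 := by
      have : φ = Matrix.toLinAlgEquiv' g := rfl
      rw [this, ← map_pow, hgr, map_one]
    simp [h1]
  obtain ⟨v, hv, hmv⟩ := exists_ne_zero_aeval_eq_zero_of_dvd_charpoly _ φ rfl hss m hm hirr
    (by rw [hφ, Matrix.charpoly_toLin']; exact hdvd)
  have hcop : IsCoprime m (X ^ r - 1 : F[X]) := (Irreducible.coprime_iff_not_dvd hirr).mpr hnd
  obtain ⟨a, b, hab⟩ := hcop
  apply hv
  have h2 : aeval φ (a * m + b * (X ^ r - 1)) v = v := by rw [hab]; simp
  rw [map_add, map_mul, map_mul, hφr, mul_zero, add_zero, Module.End.mul_apply, hmv, map_zero] at h2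
  exact h2.symm

end

open Matrix Cfsg.Agent.Lib.Helper5 Cfsg.Agent.Lib.Helper37.GUConj
  Cfsg.Agent.Lib.Helper37.GUSimilar Cfsg.Agent.Lib.Helper37.CycloDual
  Cfsg.Agent.Lib.Helper37.InvCount Cfsg.Agent.Lib.Helper37.DualPoly in
/-- Number of conjugacy classes of elements of odd prime order r in the general unitary group GU_n(q), for r not dividing q(q + 1): let i be the multiplicative order of q modulo r, b = i if i is odd and b = i/2 if i is even, and s = (r − 1)/b. If i ≢ 2 (mod 4) the eigenvalue orbits pair off into dual pairs of totally isotropic blocks and there are C(⌊n/(2b)⌋ + s/2, s/2) − 1 classes; if i ≡ 2 (mod 4) each orbit gives a non-degenerate block of dimension i/2 and there are C(⌊2n/i⌋ + s, s) − 1 classes. -/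
theorem result {K : Type*} [Field K] [Fintype K] {p q n r i b s : ℕ} [Fact p.Prime] [CharP K p] (hK : Fintype.card K = q ^ 2) (hr : r.Prime) (hr2 : r ≠ 2) (hrp : r ≠ p) (hi : i = orderOf (q : ZMod r)) (hi2 : i ≠ 2) (hb : b = if Odd i then i else i / 2) (hs : s * b = r - 1) : Nat.card {C : ConjClasses ↥(Cfsg.GU n K q) // ∃ g : ↥(Cfsg.GU n K q), ConjClasses.mk g = C ∧ orderOf g = r} = if i % 4 = 2 then Nat.choose (2 * n / i + s) s - 1 else Nat.choose (n / (2 * b) + s / 2) (s / 2) - 1 := by
  classical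
  have hrfact : Fact r.Prime := ⟨hr⟩
  -- `q` is a unit modulo `r`
  have hq0 : (q : ZMod r) ≠ 0 := by
    obtain ⟨p', k, hp', hchar', hqk⟩ := exists_prime_pow_eq hK
    have hpp : p' = p := CharP.eq K hchar' ‹CharP K p›
    subst hpp
    intro h0
    rw [ZMod.natCast_eq_zero_iff, hqk] at h0
    have := (Nat.prime_dvd_prime_iff_eq hr hp').1 (hr.dvd_of_dvd_pow h0)
    exact hrp this
  have hipos : 0 < i := by
    rw [hi]
    apply orderOf_pos_iff.2
    exact isOfFinOrder_iff_pow_eq_one.2 ⟨r - 1, by have := hr.two_le; omega,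
      ZMod.pow_card_sub_one_eq_one hq0⟩
  -- `b` is the order of `q²`
  have hb' : b = orderOf (((q ^ 2 : ℕ) : ℕ) : ZMod r) := by
    rw [Nat.cast_pow, orderOf_pow' _ two_ne_zero, ← hi, hb]
    split_ifs with hodd
    · have : Nat.gcd i 2 = 1 := Nat.coprime_two_right.2 hodd
      rw [this, Nat.div_one]
    · rw [Nat.not_odd_iff_even] at hodd
      have : Nat.gcd i 2 = 2 := Nat.gcd_eq_right hodd.two_dvd
      rw [this]
  obtain ⟨hS, hScard, hlS, hbpos, hrF, hdvd⟩ := cycloFactors_spec (F := K) hK r b s hr hrp hb' hs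
  set S : Finset K[X] := cycloFactors r with hSdef
  have hl : (X - 1 : K[X]).Monic ∧ Irreducible (X - 1 : K[X]) ∧ (X - 1 : K[X]).natDegree = 1 :=
    ⟨monic_X_sub_C 1, irreducible_X_sub_C 1, natDegree_X_sub_C 1⟩
  -- facts about members of `S`
  have hSdvd : ∀ m ∈ S, m ∣ X ^ r - 1 := fun m hm =>
    (hdvd m (hS m hm).1 (hS m hm).2.1).2 (Or.inr hm)
  have hSne : ∀ m ∈ S, m ≠ X - 1 := fun m hm h => hlS (h ▸ hm)
  have hS0 : ∀ m ∈ S, m.coeff 0 ≠ 0 := by
    intro m hm h0
    have h1 : (X : K[X]) ∣ X ^ r - 1 := (X_dvd_iff.2 h0).trans (hSdvd m hm)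
    rw [X_dvd_iff, coeff_sub, coeff_X_pow, coeff_one_zero, if_neg hr.ne_zero.symm, zero_sub] at h1
    exact one_ne_zero (neg_eq_zero.1 h1)
  have hDS : ∀ m ∈ S, udual hK m ∈ S := by
    intro m hm
    have h1 : udual hK m ∣ X ^ r - 1 := by
      have := udual_dvd hK (hSdvd m hm)
      rwa [udual_X_pow_sub_one hK hr.pos] at this
    rcases (hdvd _ (udual_monic hK (hS0 m hm))
      (udual_irreducible hK (hS m hm).1 (hS m hm).2.1 (hS0 m hm))).1 h1 with h2 | h2
    · exfalso
      apply hSne m hm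
      rw [← udual_udual hK (hS m hm).1 (hS0 m hm), h2, udual_X_sub_one]
    · exact h2
  have hfixiff : ∀ m ∈ S, udual hK m = m ↔ i % 4 = 2 := by
    intro m hm
    rw [udual_eq_self_iff hK hr (hS m hm).1 (hS m hm).2.1 (hSdvd m hm) (hSne m hm)
      ((hS m hm).2.2.trans hb'), exists_neg_eq_sq_pow_iff hr hr2 hq0, ← hi]
  have hDD : ∀ m ∈ S, udual hK (udual hK m) = m := fun m hm =>
    udual_udual hK (hS m hm).1 (hS0 m hm)
  have hudual1 : udual hK (1 : K[X]) = 1 := by
    unfold udual rdual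
    rw [Polynomial.map_one, coeff_one_zero, inv_one, C_1, one_mul, ← C_1, reverse_C]
  -- the polynomial side
  have hpoly : Nat.card {f : {f : K[X] // f.Monic ∧ f.natDegree = n ∧
      ∀ m : K[X], m.Monic → Irreducible m → m ∣ f → m = X - 1 ∨ m ∈ S} // udual hK f.1 = f.1} =
      if i % 4 = 2 then (n / b + s).choose s else (n / (2 * b) + s / 2).choose (s / 2) := by
    rw [Nat.card_congr (selfdualEquiv (udual hK) hudual1 (udual_mul hK) S (X - 1) b n hS hl hlS
      (udual_X_sub_one hK) hDS)]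
    split_ifs with h4
    · have hall : ∀ M : Multiset K[X], (∀ m ∈ M, m ∈ S) → M.map (udual hK) = M := by
        intro M hM
        conv_rhs => rw [← Multiset.map_id M]
        apply Multiset.map_congr rfl
        intro m hm
        exact (hfixiff m (hM m hm)).2 h4
      have e : {M : Multiset K[X] // (∀ m ∈ M, m ∈ S) ∧ b * Multiset.card M ≤ n ∧
          M.map (udual hK) = M} ≃
          {M : Multiset K[X] // (∀ m ∈ M, m ∈ S) ∧ b * Multiset.card M ≤ n} :=
        Equiv.subtypeEquivRight (fun M => ⟨fun h => ⟨h.1, h.2.1⟩, fun h => ⟨h.1, h.2, hall M h.1⟩⟩)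
      rw [Nat.card_congr e, card_multisets_in S b n hbpos, hScard]
    · have hfix : ∀ m ∈ S, udual hK m ≠ m := fun m hm h => h4 ((hfixiff m hm).1 h)
      rw [card_invariant_multisets S (udual hK) hDS hDD hfix b n hbpos, hScard]
  -- matrices of elements of `GU`
  have hunit : ∀ g : ↥(Cfsg.GU n K q), st hK g.1.1 * g.1.1 = 1 := by
    intro g
    rw [← isUnitaryMat_iff_st hK, isUnitaryMat_iff_preserves hK]
    exact GU_preserves g
  have hpowmat : ∀ g : ↥(Cfsg.GU n K q), g ^ r = 1 → g.1.1 ^ r = 1 := by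
    intro g hg
    have h2 := congrArg (fun y : ↥(Cfsg.GU n K q) => (y.1 : Matrix (Fin n) (Fin n) K)) hg
    simpa using h2
  have hcharP : ∀ g : ↥(Cfsg.GU n K q), g ^ r = 1 →
      (g.1.1.charpoly.Monic ∧ g.1.1.charpoly.natDegree = n ∧
        ∀ m : K[X], m.Monic → Irreducible m → m ∣ g.1.1.charpoly → m = X - 1 ∨ m ∈ S) ∧
      udual hK g.1.1.charpoly = g.1.1.charpoly := by
    intro g hg
    refine ⟨⟨Matrix.charpoly_monic _, by rw [Matrix.charpoly_natDegree_eq_dim, Fintype.card_fin],
      ?_⟩, ?_⟩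
    · intro m hm hirr hd
      exact (hdvd m hm hirr).mp ((factors_of_pow_eq_one' g.1.1 r hrF (hpowmat g hg)).2 m hm hirr hd)
    · have hdet : IsUnit g.1.1.det := (Matrix.isUnit_iff_isUnit_det _).1 g.1.isUnit
      rw [← charpoly_st_inv hK g.1.1 hdet, Matrix.inv_eq_right_inv (hunit g)]
  let Φ : {C : ConjClasses ↥(Cfsg.GU n K q) // ∃ g : ↥(Cfsg.GU n K q), ConjClasses.mk g = C ∧
        g ^ r = 1} →
      {f : {f : K[X] // f.Monic ∧ f.natDegree = n ∧
        ∀ m : K[X], m.Monic → Irreducible m → m ∣ f → m = X - 1 ∨ m ∈ S} // udual hK f.1 = f.1} :=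
    fun C => ⟨⟨(Classical.choose C.2).1.1.charpoly,
      (hcharP _ (Classical.choose_spec C.2).2).1⟩, (hcharP _ (Classical.choose_spec C.2).2).2⟩
  have hconj_char : ∀ g g' : ↥(Cfsg.GU n K q), IsConj g g' →
      g.1.1.charpoly = g'.1.1.charpoly := by
    intro g g' h
    rw [isConj_iff] at h
    obtain ⟨c, rfl⟩ := h
    have : (c * g * c⁻¹).1.1 = c.1.1 * g.1.1 * (c.1.1)⁻¹ := by
      show (c.1 * g.1 * (c.1)⁻¹).1 = _
      rw [Units.val_mul, Units.val_mul, Matrix.coe_units_inv]
    rw [this]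
    exact (Matrix.charpoly_units_conj c.1 g.1.1).symm
  have hΦ : Function.Bijective Φ := by
    constructor
    · intro C₁ C₂ h
      obtain ⟨h1, h1'⟩ := Classical.choose_spec C₁.2
      obtain ⟨h2, h2'⟩ := Classical.choose_spec C₂.2
      set g₁ := Classical.choose C₁.2 with hg₁
      set g₂ := Classical.choose C₂.2 with hg₂
      have hchar : g₁.1.1.charpoly = g₂.1.1.charpoly :=
        congrArg (fun f => f.1.1) h
      obtain ⟨P, hP⟩ := exists_gl_conj_of_charpoly_eq _ _
        (factors_of_pow_eq_one' g₁.1.1 r hrF (hpowmat g₁ h1')).1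
        (factors_of_pow_eq_one' g₂.1.1 r hrF (hpowmat g₂ h2')).1 hchar
      have hconjGL : IsConj (g₁ : GL (Fin n) K) (g₂ : GL (Fin n) K) := by
        rw [isConj_iff]
        refine ⟨P, ?_⟩
        rw [mul_inv_eq_iff_eq_mul]
        apply Units.ext
        exact hP
      have hconj : IsConj g₁ g₂ := isConj_GU_of_isConj_GL hK g₁ g₂ hconjGL
      apply Subtype.ext
      rw [← h1, ← h2]
      exact ConjClasses.mk_eq_mk_iff_isConj.mpr hconj
    · intro f
      obtain ⟨A, hA, hAf, hkill⟩ := exists_matrix_semisimple_charpoly_kill n f.1.1 f.1.2.1 f.1.2.2.1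
      have hAr : A ^ r = 1 := by
        have h1 := hkill (X ^ r - 1) (fun m hm hirr hd =>
          (hdvd m hm hirr).mpr (f.1.2.2.2 m hm hirr hd))
        simp only [map_sub, map_pow, aeval_X, map_one] at h1
        exact sub_eq_zero.mp h1
      obtain ⟨r', hr'⟩ : ∃ r', r = r' + 1 := ⟨r - 1, by have := hr.pos; omega⟩
      have hAdet : IsUnit A.det := by
        have h1 : A * A ^ r' = 1 := by rw [← pow_succ', ← hr', hAr]
        have h2 := congrArg Matrix.det h1
        rw [Matrix.det_mul, Matrix.det_one] at h2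
        exact IsUnit.of_mul_eq_one _ h2
      -- `A` is similar to its inverse conjugate transpose
      set A' := (st hK A)⁻¹ with hA'
      have hsAdet : IsUnit (st hK A).det := by rw [st_det]; exact hAdet.map _
      have hA'r : A' ^ r = 1 := by
        rw [hA', Matrix.inv_pow', ← st_pow, hAr, st_one, inv_one]
      have hA'char : A'.charpoly = A.charpoly := by
        rw [hA', charpoly_st_inv hK A hAdet, hAf]
        exact f.2
      obtain ⟨P, hP⟩ := exists_gl_conj_of_charpoly_eq A A' hA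
        (factors_of_pow_eq_one' A' r hrF hA'r).1 hA'char.symm
      have hPdet : IsUnit (P : Matrix (Fin n) (Fin n) K).det :=
        (Matrix.isUnit_iff_isUnit_det _).1 P.isUnit
      have hinv : st hK A * (P : Matrix (Fin n) (Fin n) K) * A =
          (P : Matrix (Fin n) (Fin n) K) := by
        rw [Matrix.mul_assoc, hP, hA', ← Matrix.mul_assoc, Matrix.mul_nonsing_inv _ hsAdet,
          Matrix.one_mul]
      obtain ⟨C, B, hCdet, hB, hCB⟩ := exists_unitary_similar hK A _ hPdet hinv
      have hCi : C * C⁻¹ = 1 := Matrix.mul_nonsing_inv C hCdet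
      have hBeq : B = C * A * C⁻¹ := by
        rw [hCB, Matrix.mul_assoc, hCi, Matrix.mul_one]
      let g : ↥(Cfsg.GU n K q) := GUofPreserves hK B ((isUnitaryMat_iff_preserves hK B).1 hB)
      have hgmat : g.1.1 = B := GUofPreserves_coe hK B _
      have hBr : B ^ r = 1 := by
        have hCu : IsUnit C := (Matrix.isUnit_iff_isUnit_det _).2 hCdet
        obtain ⟨Cu, hCu'⟩ := hCu
        rw [hBeq, ← hCu', ← Matrix.coe_units_inv, Units.conj_pow, hAr, Matrix.mul_one,
          Units.mul_inv]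
      have hg : g ^ r = 1 := by
        apply Subtype.ext
        apply Units.ext
        show (g.1 ^ r).1 = 1
        rw [Units.val_pow_eq_pow_val, hgmat, hBr]
      have hBchar : B.charpoly = f.1.1 := by
        have hCu : IsUnit C := (Matrix.isUnit_iff_isUnit_det _).2 hCdet
        obtain ⟨Cu, hCu'⟩ := hCu
        rw [hBeq, ← hCu', Matrix.charpoly_units_conj, hAf]
      refine ⟨⟨ConjClasses.mk g, g, rfl, hg⟩, ?_⟩
      apply Subtype.ext
      apply Subtype.ext
      have hc : ∃ g' : ↥(Cfsg.GU n K q), ConjClasses.mk g' = ConjClasses.mk g ∧ g' ^ r = 1 :=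
        ⟨g, rfl, hg⟩
      show (Classical.choose hc).1.1.charpoly = f.1.1
      have h1 := (Classical.choose_spec hc).1
      have h2 : IsConj (Classical.choose hc) g := ConjClasses.mk_eq_mk_iff_isConj.mp h1
      rw [hconj_char _ _ h2, hgmat]
      exact hBchar
  have hcard : Nat.card {C : ConjClasses ↥(Cfsg.GU n K q) //
      ∃ g : ↥(Cfsg.GU n K q), ConjClasses.mk g = C ∧ g ^ r = 1} =
      if i % 4 = 2 then (n / b + s).choose s else (n / (2 * b) + s / 2).choose (s / 2) := by
    rw [Nat.card_congr (Equiv.ofBijective Φ hΦ), hpoly]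
  -- remove the identity class
  have hfinal : Nat.card {C : ConjClasses ↥(Cfsg.GU n K q) //
      ∃ g : ↥(Cfsg.GU n K q), ConjClasses.mk g = C ∧ orderOf g = r} =
      Nat.card {C : ConjClasses ↥(Cfsg.GU n K q) //
      ∃ g : ↥(Cfsg.GU n K q), ConjClasses.mk g = C ∧ g ^ r = 1} - 1 := by
    have hone : ∃ g : ↥(Cfsg.GU n K q), ConjClasses.mk g =
        ConjClasses.mk (1 : ↥(Cfsg.GU n K q)) ∧ g ^ r = 1 := ⟨1, rfl, one_pow r⟩
    have e : {C : ConjClasses ↥(Cfsg.GU n K q) //
        ∃ g : ↥(Cfsg.GU n K q), ConjClasses.mk g = C ∧ orderOf g = r} ≃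
        {C : {C : ConjClasses ↥(Cfsg.GU n K q) //
          ∃ g : ↥(Cfsg.GU n K q), ConjClasses.mk g = C ∧ g ^ r = 1} //
          C ≠ ⟨ConjClasses.mk 1, hone⟩} :=
      { toFun := fun C => ⟨⟨C.1, by
            obtain ⟨g, hg, hgo⟩ := C.2
            exact ⟨g, hg, hgo ▸ pow_orderOf_eq_one g⟩⟩, by
          obtain ⟨g, hg, hgo⟩ := C.2
          intro hcon
          have h1 : C.1 = ConjClasses.mk 1 := congrArg Subtype.val hcon
          rw [← hg, ConjClasses.mk_eq_mk_iff_isConj, isConj_one_left] at h1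
          rw [h1, orderOf_one] at hgo
          exact hr.one_lt.ne hgo⟩
        invFun := fun C => ⟨C.1.1, by
          obtain ⟨g, hg, hgr⟩ := C.1.2
          refine ⟨g, hg, ?_⟩
          have hg1 : g ≠ 1 := by
            intro h1
            apply C.2
            apply Subtype.ext
            show C.1.1 = ConjClasses.mk 1
            rw [← hg, h1]
          exact orderOf_eq_prime hgr hg1⟩
        left_inv := fun _ => rfl
        right_inv := fun _ => rfl }
    rw [Nat.card_congr e]
    have : Fintype {C : ConjClasses ↥(Cfsg.GU n K q) //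
        ∃ g : ↥(Cfsg.GU n K q), ConjClasses.mk g = C ∧ g ^ r = 1} := Fintype.ofFinite _
    rw [Nat.card_eq_fintype_card, Nat.card_eq_fintype_card, Fintype.card_subtype_compl,
      Fintype.card_subtype_eq]
  rw [hfinal, hcard]
  split_ifs with h4
  · -- `i = 2 b`
    have hib : i = 2 * b := by
      have hnodd : ¬ Odd i := by
        rw [Nat.not_odd_iff_even]
        exact Nat.even_iff.2 (by omega)
      rw [if_neg hnodd] at hb
      omega
    rw [hib, Nat.mul_div_mul_left _ _ (by norm_num : 0 < 2)]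
  · rfl

end Cfsg.Agent.S2671
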