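import Cfsg.Statements.S2672
import Mathlib
import Cfsg.Agent.S2670
import Cfsg.Agent.Lib.Helper37.PGUConj

set_option autoImplicit false
open Cfsg

namespace Cfsg.Agent.S2672

open Polynomial Cfsg.Agent.Lib.Helper40 Cfsg.Agent.S2670 Cfsg.Agent.Lib.Helper5
  Cfsg.Agent.Lib.Helper37.GUConj Cfsg.Agent.Lib.Helper37.GUSimilar
  Cfsg.Agent.Lib.Helper37.CycloDual Cfsg.Agent.Lib.Helper37.PGUConj

/-- Number of conjugacy classes of elements of odd prime order r in PGU_n(q) = GU_n(q)/scalars (n ≥ 3) when r divides q + 1: as in the linear case with q − 1 replaced by q + 1, the classes correspond to the rotation orbits on r-tuples of eigenvalue multiplicities summing to n with every entry < n, plus r − 1 further classes when r divides n; in all (C(n+r−1, r−1) − r − [r ∣ n])/r + r·[r ∣ n]. -/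
theorem result {K : Type*} [Field K] [Fintype K] {q n r : ℕ} (hK : Fintype.card K = q ^ 2) (hn : 3 ≤ n) (hr : r.Prime) (hr2 : r ≠ 2) (hrq : r ∣ q + 1) : Nat.card {C : ConjClasses (↥(Cfsg.GU n K q) ⧸ Subgroup.center ↥(Cfsg.GU n K q)) // ∃ g : ↥(Cfsg.GU n K q) ⧸ Subgroup.center ↥(Cfsg.GU n K q), ConjClasses.mk g = C ∧ orderOf g = r} = (Nat.choose (n + r - 1) (r - 1) - r - (if r ∣ n then 1 else 0)) / r + r * (if r ∣ n then 1 else 0) := by
  classical
  have hn0 : 0 < n := by omega
  have : NeZero r := ⟨hr.ne_zero⟩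
  have : Fact r.Prime := ⟨hr⟩
  have hr2' : 2 ≤ r := hr.two_le
  have hq2 : 2 ≤ q := Cfsg.Agent.Lib.Helper5.two_le_of_card_eq_sq hK
  have hrq' : r ∣ Fintype.card K - 1 := by
    rw [hK, ← q_add_one_mul_q_sub_one hK]
    exact Dvd.dvd.mul_right hrq _
  have hrF : (r : K) ≠ 0 := natCast_ne_zero_of_dvd r hr hrq'
  obtain ⟨ζ, hζ⟩ := exists_primitiveRoot_of_dvd (F := K) r hr hrq'
  have hζ1 : ζ ^ r = 1 := hζ.pow_eq_one
  have hz := zf_injective r ζ hζ
  -- the roots of unity have norm one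
  have hzn : ∀ j : ZMod r, zf r ζ j * sig hK (zf r ζ j) = 1 := by
    intro j
    rw [norm_one_iff_pow]
    obtain ⟨m, hm⟩ := hrq
    rw [hm, pow_mul, zf_pow r ζ hζ1, one_pow]
  obtain ⟨lam, hlam0, hlam1, hlam2, hlam3⟩ := exists_unitary_power_class_reps hK hr hr2 hrq
  have hD : ∀ a : Adat n r, ∃ D : ↥(Cfsg.GU n K q),
      Module.End.IsSemisimple (Matrix.toLin' D.1.1) ∧
      D.1.1.charpoly = PF (zf r ζ) a.f ∧ D.1.1 ^ r = (1 : K) • 1 := by
    intro a
    obtain ⟨A, hss, hchar, hpow⟩ := exists_split_rep r ζ hζ1 a.f a.sum_eq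
    obtain ⟨g, h1, h2, h3⟩ := exists_unitary_rep hK r hrF A.val 1 one_ne_zero hpow hss (by
      rw [hchar]; exact udual_PF hK _ hzn _)
    exact ⟨g, h1, h2.trans hchar, h3⟩
  choose D hDss hDchar hDpow using hD
  have hB : ∀ i : Fin (r - 1), r ∣ n → ∃ B : ↥(Cfsg.GU n K q),
      Module.End.IsSemisimple (Matrix.toLin' B.1.1) ∧
      B.1.1.charpoly = (X ^ r - C (lam i)) ^ (n / r) ∧ B.1.1 ^ r = lam i • 1 := by
    intro i hdvd
    obtain ⟨A, hss, hchar, hpow⟩ := exists_nonsplit_rep r hr (lam i) (hlam1 i) hdvd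
    obtain ⟨g, h1, h2, h3⟩ := exists_unitary_rep hK r hrF A.val (lam i)
      (norm_one_ne_zero hK (hlam0 i)) hpow hss (by
        rw [hchar, udual_pow, udual_X_pow_sub_C hK hr.pos (hlam0 i)])
    exact ⟨g, h1, h2.trans hchar, h3⟩
  choose! B hBss hBchar hBpow using hB
  have key := Cfsg.Agent.S2577.card_classes_of_reps
    (fun g : ↥(Cfsg.GU n K q) ⧸ Subgroup.center ↥(Cfsg.GU n K q) => orderOf g = r)
    (I := MulAction.orbitRel.Quotient (Multiplicative (ZMod r)) (Adat n r) ⊕
      {i : Fin (r - 1) // r ∣ n})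
    (Sum.elim (fun ω => (QuotientGroup.mk (D ω.out) :
      ↥(Cfsg.GU n K q) ⧸ Subgroup.center ↥(Cfsg.GU n K q))) (fun i => QuotientGroup.mk (B i.1)))
    ?_ ?_ ?_
  · rw [key, Fintype.card_sum]
    have h1 := card_orbits n r hn0
    rw [card_Adat, card_Tfin n r hn0] at h1
    have h2 : Fintype.card {i : Fin (r - 1) // r ∣ n} = if r ∣ n then r - 1 else 0 := by
      split_ifs with h
      · rw [Fintype.card_subtype, Finset.filter_true_of_mem (fun _ _ => h), Finset.card_univ,
          Fintype.card_fin]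
      · rw [Fintype.card_eq_zero_iff]
        exact ⟨fun x => h x.2⟩
    rw [h2]
    generalize Fintype.card (MulAction.orbitRel.Quotient (Multiplicative (ZMod r)) (Adat n r)) = M
      at h1 ⊢
    generalize (n + r - 1).choose (r - 1) = C at h1 ⊢
    split_ifs at h1 ⊢ with hdvd
    · rw [mul_one] at h1
      have hM : 1 ≤ M := by
        rcases Nat.eq_zero_or_pos M with h | h
        · rw [h, mul_zero] at h1
          omega
        · exact h
      have h3 : C - r - 1 = r * (M - 1) := by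
        rw [Nat.mul_sub, mul_one]
        omega
      rw [h3, Nat.mul_div_cancel_left _ hr.pos]
      omega
    · rw [mul_zero, add_zero] at h1
      rw [Nat.sub_zero, mul_zero, add_zero, add_zero, ← h1, Nat.mul_div_cancel_left _ hr.pos]
  · -- the representatives have order `r`
    rintro (ω | i)
    · simp only [Sum.elim_inl]
      rw [orderOf_mk_eq_prime_iff_GU hK hn0 r hr]
      exact ⟨⟨1, hDpow _⟩, not_scalar_of_charpoly_PF r ζ hζ hn0 _ ω.out (hDchar _)⟩
    · simp only [Sum.elim_inr]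
      rw [orderOf_mk_eq_prime_iff_GU hK hn0 r hr]
      refine ⟨⟨lam i.1, hBpow i.1 i.2⟩, ?_⟩
      rintro ⟨c, hc⟩
      have h3 := hBpow i.1 i.2
      rw [hc, _root_.smul_pow, one_pow] at h3
      have h4 := congrFun (congrFun h3 ⟨0, hn0⟩) ⟨0, hn0⟩
      exact hlam1 i.1 c (by simpa using h4)
  · -- the representatives are pairwise non-conjugate
    rintro (ω | i) (ω' | i') hconj
    · simp only [Sum.elim_inl] at hconj
      obtain ⟨P, c, hrel⟩ := exists_of_isConj_mk_GU hK hn0 _ _ hconj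
      have hc := scalar_pow_rel hn0 r _ _ P c 1 1 (hDpow _) (hDpow _) hrel
      have hc1 : c ^ r = 1 := by rw [hc]; ring
      obtain ⟨k, hk⟩ := exists_zf_eq r ζ hζ c hc1
      have h3 : (c • (D ω.out).1.1).charpoly = (D ω'.out).1.1.charpoly :=
        Cfsg.Agent.S2577.charpoly_eq_of_conj _ _ P (by rw [Matrix.mul_smul]; exact hrel.symm)
      rw [← hk, charpoly_scale r ζ hζ1 _ ω.out (hDchar _) k, hDchar] at h3
      have h4 := PF_injective _ hz _ _ h3
      congr 1
      rw [← Quotient.out_eq ω, ← Quotient.out_eq ω']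
      symm
      apply Quotient.sound
      change ω'.out ∈ MulAction.orbit (Multiplicative (ZMod r)) ω.out
      rw [MulAction.mem_orbit_iff]
      exact ⟨Multiplicative.ofAdd k, Adat.ext h4⟩
    · exfalso
      simp only [Sum.elim_inl, Sum.elim_inr] at hconj
      obtain ⟨P, c, hrel⟩ := exists_of_isConj_mk_GU hK hn0 _ _ hconj
      have hc := scalar_pow_rel hn0 r _ _ P c 1 (lam i'.1) (hDpow _) (hBpow i'.1 i'.2) hrel
      exact hlam1 i'.1 c (by rw [hc]; ring)
    · exfalso
      simp only [Sum.elim_inl, Sum.elim_inr] at hconj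
      obtain ⟨P, c, hrel⟩ := exists_of_isConj_mk_GU hK hn0 _ _ hconj
      have hc := scalar_pow_rel hn0 r _ _ P c (lam i.1) 1 (hBpow i.1 i.2) (hDpow _) hrel
      have hc0 : c ≠ 0 := by
        rintro rfl
        rw [zero_pow hr.ne_zero, zero_mul] at hc
        exact one_ne_zero hc
      apply hlam1 i.1 c⁻¹
      rw [inv_pow]
      field_simp
      rw [hc]
    · simp only [Sum.elim_inr] at hconj
      obtain ⟨P, c, hrel⟩ := exists_of_isConj_mk_GU hK hn0 _ _ hconj
      have hc := scalar_pow_rel hn0 r _ _ P c (lam i.1) (lam i'.1) (hBpow i.1 i.2)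
        (hBpow i'.1 i'.2) hrel
      congr 1
      exact Subtype.ext (hlam2 i'.1 i.1 c hc).symm
  · -- every element of order `r` is conjugate to a representative
    intro x hx
    obtain ⟨g, rfl⟩ := QuotientGroup.mk_surjective x
    change orderOf _ = r at hx
    rw [orderOf_mk_eq_prime_iff_GU hK hn0 r hr] at hx
    obtain ⟨⟨l, hl⟩, hns⟩ := hx
    -- `l` has norm one
    have hln : l * sig hK l = 1 := by
      apply norm_one_of_smul_unitary hK hn0 l
      rw [← hl, ← GU_pow_val]
      exact GU_unitary hK (g ^ r)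
    have hl0 : l ≠ 0 := norm_one_ne_zero hK hln
    by_cases hpw : ∃ s : K, s ^ r = l
    · obtain ⟨s, rfl⟩ := hpw
      have hsn : s * sig hK s = 1 := norm_one_of_pow_norm_one hK hr hr2 hrq s hln
      have hs : s ≠ 0 := norm_one_ne_zero hK hsn
      have hA : (s⁻¹ • g.1.1) ^ r = (1 : K) • 1 := by
        rw [_root_.smul_pow, hl, smul_smul, inv_pow, inv_mul_cancel₀ (pow_ne_zero _ hs)]
      have hns' : ¬ ∃ c : K, s⁻¹ • g.1.1 = c • 1 := by
        rintro ⟨c, hc⟩
        apply hns
        refine ⟨s * c, ?_⟩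
        rw [mul_smul, ← hc, smul_smul, mul_inv_cancel₀ hs, one_smul]
      obtain ⟨a, hss, hchar⟩ := split_normal_form r hrF ζ hζ _ hA hns'
      obtain ⟨k, hk⟩ : ∃ k : Multiplicative (ZMod r),
          k • a = (Quotient.mk (MulAction.orbitRel (Multiplicative (ZMod r)) (Adat n r)) a).out := by
        have h3 := Quotient.mk_out (s := MulAction.orbitRel (Multiplicative (ZMod r)) (Adat n r)) a
        change _ ∈ MulAction.orbit (Multiplicative (ZMod r)) a at h3
        rwa [MulAction.mem_orbit_iff] at h3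
      have hch : ((zf r ζ (Multiplicative.toAdd k)) • (s⁻¹ • g.1.1)).charpoly =
          (D (Quotient.mk (MulAction.orbitRel (Multiplicative (ZMod r)) (Adat n r)) a).out).1.1.charpoly := by
        rw [charpoly_scale r ζ hζ1 _ a hchar, hDchar, ← hk]
        rfl
      have hss' : Module.End.IsSemisimple
          (Matrix.toLin' ((zf r ζ (Multiplicative.toAdd k)) • (s⁻¹ • g.1.1))) :=
        semisimple_of_pow r hrF _ 1 one_ne_zero (by
          rw [_root_.smul_pow, hA, zf_pow r ζ hζ1, one_smul])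
      obtain ⟨P, hP⟩ := exists_gl_conj_of_charpoly_eq _ _ hss' (hDss _) hch
      refine ⟨Sum.inl (Quotient.mk (MulAction.orbitRel (Multiplicative (ZMod r)) (Adat n r)) a), ?_⟩
      simp only [Sum.elim_inl]
      exact (isConj_mk_of_GU hK hn0 g (D _) P (zf r ζ (Multiplicative.toAdd k) * s⁻¹)
        (mul_norm_one hK (hzn _) (inv_norm_one hK hsn)) (by
        rw [← hP, Matrix.mul_smul, Matrix.mul_smul, smul_smul])).symm
    · push Not at hpw
      obtain ⟨i, c, hcn, hc⟩ := hlam3 l hln hpw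
      have hc0 : c ≠ 0 := norm_one_ne_zero hK hcn
      have hA : (c⁻¹ • g.1.1) ^ r = lam i • 1 := by
        rw [_root_.smul_pow, hl, smul_smul, hc, inv_pow, ← mul_assoc,
          inv_mul_cancel₀ (pow_ne_zero _ hc0), one_mul]
      obtain ⟨hdvd, hss, hchar⟩ := nonsplit_normal_form r hr hrF (lam i) (hlam1 i) _ hA
      obtain ⟨P, hP⟩ := exists_gl_conj_of_charpoly_eq (c⁻¹ • g.1.1) (B i).1.1 hss (hBss i hdvd)
        (by rw [hchar, hBchar i hdvd])
      refine ⟨Sum.inr ⟨i, hdvd⟩, ?_⟩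
      simp only [Sum.elim_inr]
      exact (isConj_mk_of_GU hK hn0 g (B i) P c⁻¹ (inv_norm_one hK hcn)
        (by rw [← hP, Matrix.mul_smul])).symm

end Cfsg.Agent.S2672
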