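import Cfsg.Statements.S2674
import Mathlib
import Cfsg.Agent.Lib.Helper37.OrthEvenMain
import Cfsg.Agent.Lib.Helper37.OrthEvenArith
import Cfsg.Agent.Lib.Helper37.InvCount2
import Cfsg.Agent.Lib.Helper37.SpCount
import Cfsg.Agent.Lib.Helper40.CycloFactors
import Cfsg.Agent.Lib.Helper40.PolyFactorCount

set_option autoImplicit false
open Cfsg

namespace Cfsg.Agent.S2674

open Matrix Polynomial Cfsg.Agent.Lib.Helper40 Cfsg.Agent.Lib.Helper37.DualPoly
  Cfsg.Agent.Lib.Helper37.InvCount Cfsg.Agent.Lib.Helper37.SpCount Cfsg.Agent.Lib.Helper37.OrthOdd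
  Cfsg.Agent.Lib.Helper37.OrthEven

/-- Number of conjugacy classes of elements of odd prime order r ≠ p in the orthogonal group O⁺_2m(q) of Σ x_j y_j (m ≥ 1): with i the multiplicative order of q mod r and t = (r − 1)/i — if i is odd, C(⌊m/i⌋ + t/2, t/2) − 1; if i is even, C(⌊2m/i⌋ + t, t) − 1 minus, when i divides 2m with odd quotient, the C(2m/i + t − 1, t − 1) tuples using the whole space (an odd number of elliptic i-blocks fills an elliptic, not a hyperbolic, space). -/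
theorem result {F : Type*} [Field F] [Fintype F] {p q : ℕ} [Fact p.Prime] [CharP F p] (hF : Fintype.card F = q) (m r i t : ℕ) (hm : 1 ≤ m) (hr : r.Prime) (hr2 : r ≠ 2) (hrp : r ≠ p) (hi : i = orderOf (q : ZMod r)) (ht : t * i = r - 1) : Nat.card {C : ConjClasses ↥(Cfsg.isometryGroup F (Cfsg.quadFormPlus m F)) // ∃ g : ↥(Cfsg.isometryGroup F (Cfsg.quadFormPlus m F)), ConjClasses.mk g = C ∧ orderOf g = r} = if Odd i then Nat.choose (m / i + t / 2) (t / 2) - 1 else Nat.choose (2 * m / i + t) t - 1 - (if i ∣ 2 * m ∧ Odd (2 * m / i) then Nat.choose (2 * m / i + t - 1) (t - 1) else 0) := by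
  classical
  have hrfact : Fact r.Prime := ⟨hr⟩
  have hp : p.Prime := Fact.out
  -- `q` is a unit modulo `r`
  have hq0 : (q : ZMod r) ≠ 0 := by
    obtain ⟨k, hk⟩ := FiniteField.card F p
    intro h0
    rw [ZMod.natCast_eq_zero_iff, ← hF, hk.2] at h0
    have := (Nat.prime_dvd_prime_iff_eq hr hp).1 (hr.dvd_of_dvd_pow h0)
    exact hrp this
  have hx : IsUnit ((Fintype.card F : ℕ) : ZMod r) := by
    rw [hF]
    exact isUnit_iff_ne_zero.2 hq0
  obtain ⟨hS, hScard, hlS, hipos, hrF, hdvd⟩ := cycloFactors_spec (F := F) hF r i t hr hrp hi ht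
  set S : Finset F[X] := cycloFactors r with hSdef
  have htpos : 0 < t := by
    rcases Nat.eq_zero_or_pos t with h | h
    · rw [h, zero_mul] at ht
      have := hr.two_le
      omega
    · exact h
  have hl : (X - 1 : F[X]).Monic ∧ Irreducible (X - 1 : F[X]) ∧ (X - 1 : F[X]).natDegree = 1 :=
    ⟨monic_X_sub_C 1, irreducible_X_sub_C 1, natDegree_X_sub_C 1⟩
  have hSdvd : ∀ m ∈ S, m ∣ X ^ r - 1 := fun m hm =>
    (hdvd m (hS m hm).1 (hS m hm).2.1).2 (Or.inr hm)
  have hSne : ∀ m ∈ S, m ≠ X - 1 := fun m hm h => hlS (h ▸ hm)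
  have hS0 : ∀ m ∈ S, m.coeff 0 ≠ 0 := by
    intro m hm h0
    have h1 : (X : F[X]) ∣ X ^ r - 1 := (X_dvd_iff.2 h0).trans (hSdvd m hm)
    rw [X_dvd_iff, coeff_sub, coeff_X_pow, coeff_one_zero, if_neg hr.ne_zero.symm, zero_sub] at h1
    exact one_ne_zero (neg_eq_zero.1 h1)
  have hDS : ∀ m ∈ S, rdual m ∈ S := by
    intro m hm
    have h1 : rdual m ∣ X ^ r - 1 := by
      have := rdual_dvd (hSdvd m hm)
      rwa [rdual_X_pow_sub_one hr.pos] at this
    rcases (hdvd _ (rdual_monic (hS0 m hm))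
      (rdual_irreducible (hS m hm).1 (hS m hm).2.1 (hS0 m hm))).1 h1 with h2 | h2
    · exfalso
      apply hSne m hm
      rw [← rdual_rdual (hS m hm).1 (hS0 m hm), h2, rdual_X_sub_one]
    · exact h2
  have hfixiff : ∀ m ∈ S, rdual m = m ↔ Even i := by
    intro m hm
    have hdeg : m.natDegree = orderOf ((Fintype.card F : ℕ) : ZMod r) := by
      rw [hF, ← hi]; exact (hS m hm).2.2
    rw [rdual_eq_self_iff hr (hS m hm).1 (hS m hm).2.1 (hSdvd m hm) (hSne m hm) hdeg, hF,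
      exists_neg_one_eq_pow_iff hr hr2 _ hq0, ← hi]
  have hDD : ∀ m ∈ S, rdual (rdual m) = m := fun m hm =>
    rdual_rdual (hS m hm).1 (hS0 m hm)
  have hrd1 : rdual (1 : F[X]) = 1 := by
    unfold rdual
    rw [coeff_one_zero, inv_one, C_1, one_mul, ← C_1, reverse_C]
  -- the arithmetic condition
  have hcond : ((Fintype.card F : ℕ) : ZMod r) ^ m = 1 ↔ i ∣ m := by
    rw [hF, hi, orderOf_dvd_iff_pow_eq_one]
  -- the polynomial side
  have hpoly : Nat.card {f : {f : {f : F[X] // f.Monic ∧ f.natDegree = 2 * m ∧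
      ∀ l : F[X], l.Monic → Irreducible l → l ∣ f → l = X - 1 ∨ l ∈ S} // rdual f.1 = f.1} //
        (X - 1 : F[X]) ∣ f.1.1 ∨ ((Fintype.card F : ℕ) : ZMod r) ^ m = 1} =
      if Odd i then (m / i + t / 2).choose (t / 2)
      else (2 * m / i + t).choose t -
        (if i ∣ 2 * m ∧ Odd (2 * m / i) then (2 * m / i + t - 1).choose (t - 1) else 0) := by
    rw [card_selfdual_allowed rdual hrd1 rdual_mul S (X - 1) i (2 * m) hS hl hlS
      rdual_X_sub_one hDS (by omega) (((Fintype.card F : ℕ) : ZMod r) ^ m = 1),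
      ← arith_plus m i t hm hipos htpos (((Fintype.card F : ℕ) : ZMod r) ^ m = 1) hcond]
    obtain ⟨n', hn'⟩ : ∃ n' : ℕ, n' = if ((Fintype.card F : ℕ) : ZMod r) ^ m = 1 then 2 * m
        else 2 * m - 1 := ⟨_, rfl⟩
    rw [← hn']
    by_cases h4 : Odd i
    · rw [if_pos h4]
      have hfix : ∀ l ∈ S, rdual l ≠ l := fun l hl' h =>
        (Nat.not_even_iff_odd.2 h4) ((hfixiff l hl').1 h)
      rw [card_invariant_multisets S rdual hDS hDD hfix i n' hipos, hScard]
    · rw [if_neg h4]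
      rw [Nat.not_odd_iff_even] at h4
      have hall : ∀ M : Multiset F[X], (∀ l ∈ M, l ∈ S) → M.map rdual = M := by
        intro M hM
        conv_rhs => rw [← Multiset.map_id M]
        apply Multiset.map_congr rfl
        intro l hl'
        exact (hfixiff l (hM l hl')).2 h4
      have e : {M : Multiset F[X] // (∀ l ∈ M, l ∈ S) ∧ i * Multiset.card M ≤ n' ∧
          M.map rdual = M} ≃
          {M : Multiset F[X] // (∀ l ∈ M, l ∈ S) ∧ i * Multiset.card M ≤ n'} :=
        Equiv.subtypeEquivRight (fun M => ⟨fun h => ⟨h.1, h.2.1⟩, fun h => ⟨h.1, h.2, hall M h.1⟩⟩)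
      rw [Nat.card_congr e, card_multisets_in S i n' hipos, hScard]
  -- matrices of elements of the orthogonal group
  have hpowmat : ∀ g : ↥(Cfsg.isometryGroup F (Cfsg.quadFormPlus m F)), g ^ r = 1 →
      (g.1.1 : Matrix (Fin m ⊕ Fin m) (Fin m ⊕ Fin m) F) ^ r = 1 := by
    intro g hg
    have h2 := congrArg (fun y : ↥(Cfsg.isometryGroup F (Cfsg.quadFormPlus m F)) => (y.1.1 : Matrix (Fin m ⊕ Fin m) (Fin m ⊕ Fin m) F)) hg
    simpa using h2
  have hQnd := plusQ_nondeg m F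
  have hisom : ∀ g : ↥(Cfsg.isometryGroup F (Cfsg.quadFormPlus m F)), ∀ u, Cfsg.quadFormPlus m F ((g.1.1 : Matrix (Fin m ⊕ Fin m) (Fin m ⊕ Fin m) F) *ᵥ u) = Cfsg.quadFormPlus m F u := by
    intro g u
    exact g.2 u u
  have hcharP : ∀ g : ↥(Cfsg.isometryGroup F (Cfsg.quadFormPlus m F)), g ^ r = 1 →
      ((g.1.1 : Matrix (Fin m ⊕ Fin m) (Fin m ⊕ Fin m) F).charpoly.Monic ∧
        (g.1.1 : Matrix (Fin m ⊕ Fin m) (Fin m ⊕ Fin m) F).charpoly.natDegree = 2 * m ∧
        ∀ l : F[X], l.Monic → Irreducible l → l ∣ (g.1.1 : Matrix (Fin m ⊕ Fin m) (Fin m ⊕ Fin m) F).charpoly →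
          l = X - 1 ∨ l ∈ S) ∧
      rdual (g.1.1 : Matrix (Fin m ⊕ Fin m) (Fin m ⊕ Fin m) F).charpoly = (g.1.1 : Matrix (Fin m ⊕ Fin m) (Fin m ⊕ Fin m) F).charpoly := by
    intro g hg
    refine ⟨⟨Matrix.charpoly_monic _, by
      rw [Matrix.charpoly_natDegree_eq_dim, Fintype.card_sum, Fintype.card_fin]; ring, ?_⟩, ?_⟩
    · intro l hl' hirr hd
      exact (hdvd l hl' hirr).mp ((factors_of_pow_eq_one _ r hrF (hpowmat g hg)).2 l hl' hirr hd)
    · exact rdual_charpoly_of_isometry (plusQ m F) hQnd _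
        ((Matrix.isUnit_iff_isUnit_det _).1 g.1.isUnit) (fun u => by
          rw [plusQ_coe]; exact hisom g u)
  have hallowed : ∀ g : ↥(Cfsg.isometryGroup F (Cfsg.quadFormPlus m F)), g ^ r = 1 →
      ((X - 1 : F[X]) ∣ (g.1.1 : Matrix (Fin m ⊕ Fin m) (Fin m ⊕ Fin m) F).charpoly ∨
        ((Fintype.card F : ℕ) : ZMod r) ^ m = 1) := by
    intro g hg
    by_cases hd : (X - 1 : F[X]) ∣ (g.1.1 : Matrix (Fin m ⊕ Fin m) (Fin m ⊕ Fin m) F).charpoly
    · exact Or.inl hd
    · right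
      exact pow_eq_one_of_isometry_plus m r hx _ (hisom g) (hpowmat g hg)
        (no_fixed_of_not_dvd _ hd)
  let Φ : {C : ConjClasses ↥(Cfsg.isometryGroup F (Cfsg.quadFormPlus m F)) //
        ∃ g : ↥(Cfsg.isometryGroup F (Cfsg.quadFormPlus m F)), ConjClasses.mk g = C ∧ g ^ r = 1} →
      {f : {f : {f : F[X] // f.Monic ∧ f.natDegree = 2 * m ∧
        ∀ l : F[X], l.Monic → Irreducible l → l ∣ f → l = X - 1 ∨ l ∈ S} // rdual f.1 = f.1} //
        (X - 1 : F[X]) ∣ f.1.1 ∨ ((Fintype.card F : ℕ) : ZMod r) ^ m = 1} :=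
    fun C => ⟨⟨⟨(Classical.choose C.2).1.1.charpoly,
      (hcharP _ (Classical.choose_spec C.2).2).1⟩, (hcharP _ (Classical.choose_spec C.2).2).2⟩,
      hallowed _ (Classical.choose_spec C.2).2⟩
  have hconj_char : ∀ g g' : ↥(Cfsg.isometryGroup F (Cfsg.quadFormPlus m F)), IsConj g g' →
      (g.1.1 : Matrix (Fin m ⊕ Fin m) (Fin m ⊕ Fin m) F).charpoly = (g'.1.1 : Matrix (Fin m ⊕ Fin m) (Fin m ⊕ Fin m) F).charpoly := by
    intro g g' h
    have h1 : IsConj g.1 g'.1 :=
      (Subgroup.subtype (Cfsg.isometryGroup F (Cfsg.quadFormPlus m F))).map_isConj h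
    obtain ⟨c, hc⟩ := isConj_iff.1 h1
    have h2 : (g'.1.1 : Matrix (Fin m ⊕ Fin m) (Fin m ⊕ Fin m) F) = c.val * g.1.1 * c⁻¹.val := by
      have := congrArg Units.val hc
      simpa using this.symm
    rw [h2, Matrix.coe_units_inv, Matrix.charpoly_units_conj]
  have hΦ : Function.Bijective Φ := by
    constructor
    · intro C₁ C₂ h
      obtain ⟨h1, h1'⟩ := Classical.choose_spec C₁.2
      obtain ⟨h2', h2''⟩ := Classical.choose_spec C₂.2
      set g₁ := Classical.choose C₁.2 with hg₁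
      set g₂ := Classical.choose C₂.2 with hg₂
      have hchar : (g₁.1.1 : Matrix (Fin m ⊕ Fin m) (Fin m ⊕ Fin m) F).charpoly = (g₂.1.1 : Matrix (Fin m ⊕ Fin m) (Fin m ⊕ Fin m) F).charpoly :=
        congrArg (fun f => f.1.1.1) h
      obtain ⟨P, hP⟩ := exists_gl_conj_of_charpoly_eq _ _
        (factors_of_pow_eq_one _ r hrF (hpowmat g₁ h1')).1
        (factors_of_pow_eq_one _ r hrF (hpowmat g₂ h2'')).1 hchar
      have hconj : IsConj g₁ g₂ :=
        isConj_of_GL' (Cfsg.quadFormPlus m F) (plusQ m F) (plusQ_coe m F) hQnd g₁ g₂ P hP r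
          (hr.eq_two_or_odd'.resolve_left hr2) hrF (hpowmat g₁ h1')
      apply Subtype.ext
      rw [← h1, ← h2']
      exact ConjClasses.mk_eq_mk_iff_isConj.mpr hconj
    · intro f
      obtain ⟨g, hg, hgr, hgchar⟩ := exists_isometry_plus m r hr hr2 hrF hx f.1.1.1 f.1.1.2.1
        f.1.1.2.2.1 (fun l hl' hirr hd => (hdvd l hl' hirr).mpr (f.1.1.2.2.2 l hl' hirr hd))
        f.1.2 f.2
      let gs : ↥(Cfsg.isometryGroup F (Cfsg.quadFormPlus m F)) := ⟨g, hg⟩
      have hgs : gs ^ r = 1 := by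
        apply Subtype.ext
        rw [SubgroupClass.coe_pow]
        exact hgr
      refine ⟨⟨ConjClasses.mk gs, gs, rfl, hgs⟩, ?_⟩
      apply Subtype.ext
      apply Subtype.ext
      apply Subtype.ext
      have hc : ∃ g' : ↥(Cfsg.isometryGroup F (Cfsg.quadFormPlus m F)),
          ConjClasses.mk g' = ConjClasses.mk gs ∧ g' ^ r = 1 := ⟨gs, rfl, hgs⟩
      show (Classical.choose hc).1.1.charpoly = f.1.1.1
      have h1 := (Classical.choose_spec hc).1
      have h2 : IsConj (Classical.choose hc) gs := ConjClasses.mk_eq_mk_iff_isConj.mp h1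
      rw [hconj_char _ _ h2]
      exact hgchar
  have hcard : Nat.card {C : ConjClasses ↥(Cfsg.isometryGroup F (Cfsg.quadFormPlus m F)) //
      ∃ g : ↥(Cfsg.isometryGroup F (Cfsg.quadFormPlus m F)), ConjClasses.mk g = C ∧ g ^ r = 1} =
      if Odd i then (m / i + t / 2).choose (t / 2)
      else (2 * m / i + t).choose t -
        (if i ∣ 2 * m ∧ Odd (2 * m / i) then (2 * m / i + t - 1).choose (t - 1) else 0) := by
    rw [Nat.card_congr (Equiv.ofBijective Φ hΦ), hpoly]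
  -- remove the identity class
  have hfinal : Nat.card {C : ConjClasses ↥(Cfsg.isometryGroup F (Cfsg.quadFormPlus m F)) //
      ∃ g : ↥(Cfsg.isometryGroup F (Cfsg.quadFormPlus m F)), ConjClasses.mk g = C ∧ orderOf g = r} =
      Nat.card {C : ConjClasses ↥(Cfsg.isometryGroup F (Cfsg.quadFormPlus m F)) //
      ∃ g : ↥(Cfsg.isometryGroup F (Cfsg.quadFormPlus m F)), ConjClasses.mk g = C ∧ g ^ r = 1} - 1 := by
    have hone : ∃ g : ↥(Cfsg.isometryGroup F (Cfsg.quadFormPlus m F)), ConjClasses.mk g =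
        ConjClasses.mk (1 : ↥(Cfsg.isometryGroup F (Cfsg.quadFormPlus m F))) ∧ g ^ r = 1 := ⟨1, rfl, one_pow r⟩
    have e : {C : ConjClasses ↥(Cfsg.isometryGroup F (Cfsg.quadFormPlus m F)) //
        ∃ g : ↥(Cfsg.isometryGroup F (Cfsg.quadFormPlus m F)), ConjClasses.mk g = C ∧ orderOf g = r} ≃
        {C : {C : ConjClasses ↥(Cfsg.isometryGroup F (Cfsg.quadFormPlus m F)) //
          ∃ g : ↥(Cfsg.isometryGroup F (Cfsg.quadFormPlus m F)), ConjClasses.mk g = C ∧ g ^ r = 1} //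
          C ≠ ⟨ConjClasses.mk 1, hone⟩} :=
      { toFun := fun C => ⟨⟨C.1, by
            obtain ⟨g, hg, hgo⟩ := C.2
            exact ⟨g, hg, hgo ▸ pow_orderOf_eq_one g⟩⟩, by
          obtain ⟨g, hg, hgo⟩ := C.2
          intro hcon
          have h1 : C.1 = ConjClasses.mk 1 := congrArg Subtype.val hcon
          rw [← hg, ConjClasses.mk_eq_mk_iff_isConj, isConj_one_left] at h1
          rw [h1, orderOf_one] at hgo
          exact hr.one_lt.ne hgo⟩
        invFun := fun C => ⟨C.1.1, by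
          obtain ⟨g, hg, hgr⟩ := C.1.2
          refine ⟨g, hg, ?_⟩
          have hg1 : g ≠ 1 := by
            intro h1
            apply C.2
            apply Subtype.ext
            show C.1.1 = ConjClasses.mk 1
            rw [← hg, h1]
          exact orderOf_eq_prime hgr hg1⟩
        left_inv := fun _ => rfl
        right_inv := fun _ => rfl }
    rw [Nat.card_congr e]
    have : Fintype {C : ConjClasses ↥(Cfsg.isometryGroup F (Cfsg.quadFormPlus m F)) //
        ∃ g : ↥(Cfsg.isometryGroup F (Cfsg.quadFormPlus m F)), ConjClasses.mk g = C ∧ g ^ r = 1} :=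
      Fintype.ofFinite _
    rw [Nat.card_eq_fintype_card, Nat.card_eq_fintype_card, Fintype.card_subtype_compl,
      Fintype.card_subtype_eq]
  rw [hfinal, hcard]
  split_ifs
  · rfl
  · exact Nat.sub_right_comm _ _ _
  · rw [Nat.sub_zero, Nat.sub_zero]

end Cfsg.Agent.S2674
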