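import Cfsg.Statements.S2678
import Cfsg.Agent.Lib.Helper45.FiniteFieldEmbed
-- import your own Cfsg.Agent.* helpers here

set_option autoImplicit false
open Cfsg

namespace Cfsg.Agent.S2678

open Matrix Kronecker

section Piece1

variable {F K : Type*} [Field F] [Field K] [Algebra F K]
variable {κ : Type*} [Fintype κ] [DecidableEq κ] (b : Module.Basis κ F K)

theorem traceMatrix_mul_leftMulMatrix_apply (k : K) (u v : κ) :
    (Algebra.traceMatrix F b * Algebra.leftMulMatrix b k) u v = Algebra.trace F K (b u * k * b v) := by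
  rw [Matrix.mul_apply]
  simp only [Algebra.traceMatrix_apply, Algebra.traceForm_apply, Algebra.leftMulMatrix_eq_repr_mul]
  have h : ∀ w : κ, Algebra.trace F K (b u * b w) * b.repr (k * b v) w =
      Algebra.trace F K (b u * (b.repr (k * b v) w • b w)) := by
    intro w
    rw [mul_smul_comm, map_smul, smul_eq_mul, mul_comm]
  simp_rw [h]
  rw [← map_sum, ← Finset.mul_sum, b.sum_repr, mul_assoc]

omit [Fintype κ] [DecidableEq κ] in
theorem traceMatrix_transpose : (Algebra.traceMatrix F b)ᵀ = Algebra.traceMatrix F b := by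
  ext u v
  simp [Algebra.traceMatrix_apply, Algebra.traceForm_apply, mul_comm]

theorem leftMulMatrix_transpose_mul_traceMatrix (k : K) :
    (Algebra.leftMulMatrix b k)ᵀ * Algebra.traceMatrix F b =
      Algebra.traceMatrix F b * Algebra.leftMulMatrix b k := by
  have h : (Algebra.traceMatrix F b * Algebra.leftMulMatrix b k)ᵀ =
      Algebra.traceMatrix F b * Algebra.leftMulMatrix b k := by
    ext u v
    rw [Matrix.transpose_apply, traceMatrix_mul_leftMulMatrix_apply, traceMatrix_mul_leftMulMatrix_apply]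
    congr 1
    ring
  rw [Matrix.transpose_mul, traceMatrix_transpose] at h
  exact h

end Piece1

section Piece2

variable {F K : Type*} [Field F] [Field K] [Algebra F K]
variable {κ : Type*} [Fintype κ] [DecidableEq κ] (b : Module.Basis κ F K)
variable (N : Type*) [Fintype N] [DecidableEq N]

/-- Replace every entry of a matrix over `K` by its regular representation over `F`. -/
noncomputable def blockRep : Matrix N N K →+* Matrix (N × κ) (N × κ) F :=
  (Matrix.compRingEquiv N κ F).toRingHom.comp (Algebra.leftMulMatrix b).toRingHom.mapMatrix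

variable {N}

theorem blockRep_apply (A : Matrix N N K) (x y : N × κ) :
    blockRep b N A x y = Algebra.leftMulMatrix b (A x.1 y.1) x.2 y.2 := rfl

theorem blockRep_injective : Function.Injective (blockRep b N) := by
  intro A B h
  ext i j
  apply Algebra.leftMulMatrix_injective b
  ext u v
  have := congrFun (congrFun h (i, u)) (j, v)
  simpa [blockRep_apply] using this

theorem blockRep_map_algebraMap (A : Matrix N N F) :
    blockRep b N (A.map (algebraMap F K)) = A ⊗ₖ (1 : Matrix κ κ F) := by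
  ext x y
  rw [blockRep_apply, Matrix.map_apply, AlgHom.commutes, Matrix.kroneckerMap_apply,
    Matrix.algebraMap_matrix_apply, Matrix.one_apply]
  simp

theorem blockRep_transpose_mul (A : Matrix N N K) :
    (blockRep b N A)ᵀ * ((1 : Matrix N N F) ⊗ₖ Algebra.traceMatrix F b) =
      ((1 : Matrix N N F) ⊗ₖ Algebra.traceMatrix F b) * blockRep b N Aᵀ := by
  ext ⟨i, u⟩ ⟨j, v⟩
  have h := congrFun (congrFun (leftMulMatrix_transpose_mul_traceMatrix b (A j i)) u) v
  rw [Matrix.mul_apply, Matrix.mul_apply] at h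
  rw [Matrix.mul_apply, Matrix.mul_apply, Fintype.sum_prod_type, Fintype.sum_prod_type]
  simp only [Matrix.transpose_apply, blockRep_apply, Matrix.kroneckerMap_apply, Matrix.one_apply,
    ite_mul, one_mul, zero_mul, mul_ite, mul_zero] at h ⊢
  rw [Finset.sum_comm, Finset.sum_comm (f := fun x y => if i = x then _ else _)]
  simp only [Finset.sum_ite_eq, Finset.sum_ite_eq', Finset.mem_univ, if_true]
  exact h

end Piece2

section Piece3

variable {F : Type*} [Field F]
variable {κ : Type*} [Fintype κ] [DecidableEq κ]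
variable {l : Type*} [Fintype l] [DecidableEq l]

theorem conj_preserves {n R : Type*} [Fintype n] [DecidableEq n] [CommRing R]
    (M B B' D D' : Matrix n n R) (hD : D' * D = 1)
    (hM : M * B * Mᵀ = B) (hB : D * B * Dᵀ = B') :
    (D * M * D') * B' * (D * M * D')ᵀ = B' := by
  have h1 : Dᵀ * D'ᵀ = 1 := by rw [← transpose_mul, hD, transpose_one]
  calc D * M * D' * B' * (D * M * D')ᵀ
      = D * M * (D' * D) * B * (Dᵀ * D'ᵀ) * Mᵀ * Dᵀ := by
        rw [← hB]; simp only [transpose_mul, Matrix.mul_assoc]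
    _ = D * (M * B * Mᵀ) * Dᵀ := by
        rw [hD, h1]; simp only [Matrix.mul_one, Matrix.mul_assoc]
    _ = B' := by rw [hM, hB]

/-- The twisting matrix `diag(1, 1 ⊗ S)`. -/
def twist (l : Type*) [Fintype l] [DecidableEq l] (S : Matrix κ κ F) :
    Matrix ((l ⊕ l) × κ) ((l ⊕ l) × κ) F :=
  (fromBlocks 1 0 0 0 : Matrix (l ⊕ l) (l ⊕ l) F) ⊗ₖ (1 : Matrix κ κ F) +
    (fromBlocks 0 0 0 1 : Matrix (l ⊕ l) (l ⊕ l) F) ⊗ₖ S

theorem twist_mul_twist (S S' : Matrix κ κ F) (h : S * S' = 1) :
    twist l S * twist l S' = 1 := by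
  unfold twist
  simp only [Matrix.add_mul, Matrix.mul_add, ← Matrix.mul_kronecker_mul, fromBlocks_multiply, h]
  simp only [Matrix.mul_zero, Matrix.zero_mul, Matrix.mul_one, add_zero, zero_add,
    fromBlocks_zero, Matrix.zero_kronecker]
  rw [← Matrix.add_kronecker, fromBlocks_add]
  simp only [add_zero, zero_add, fromBlocks_one, Matrix.one_kronecker_one]

omit [Fintype κ] in
theorem twist_transpose (S : Matrix κ κ F) (hS : Sᵀ = S) : (twist l S)ᵀ = twist l S := by
  unfold twist
  rw [transpose_add, ← kroneckerMap_transpose, ← kroneckerMap_transpose]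
  simp [fromBlocks_transpose, hS]

theorem twist_form (S S' : Matrix κ κ F) (h : S * S' = 1) (h' : S' * S = 1) (hS : Sᵀ = S) :
    twist l S * (J l F ⊗ₖ S') * (twist l S)ᵀ = J l F ⊗ₖ (1 : Matrix κ κ F) := by
  rw [twist_transpose S hS]
  unfold twist
  simp only [Matrix.add_mul, Matrix.mul_add, ← Matrix.mul_kronecker_mul, fromBlocks_multiply, h, h', J]
  simp only [Matrix.mul_zero, Matrix.zero_mul, Matrix.mul_one, Matrix.one_mul, add_zero, zero_add,
    fromBlocks_zero, Matrix.zero_kronecker, Matrix.mul_neg, Matrix.neg_mul, neg_zero]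
  rw [h', ← Matrix.add_kronecker, fromBlocks_add]
  simp only [add_zero, zero_add]

end Piece3

section Piece4

variable {F : Type*} [Field F]
variable {κ : Type*} [Fintype κ] [DecidableEq κ]
variable {l : Type*} [Fintype l] [DecidableEq l]

omit [Fintype κ] [Fintype l] in
theorem J_kronecker_one_submatrix :
    (J l F ⊗ₖ (1 : Matrix κ κ F)).submatrix (Equiv.sumProdDistrib l l κ).symm
      (Equiv.sumProdDistrib l l κ).symm = J (l × κ) F := by
  ext x y
  rcases x with ⟨i, u⟩ | ⟨i, u⟩ <;> rcases y with ⟨j, v⟩ | ⟨j, v⟩ <;>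
    simp [J, Matrix.one_apply, Matrix.kroneckerMap_apply, Prod.ext_iff, ite_and] <;>
    split_ifs <;> simp

omit [Fintype l] in
theorem J_submatrix_equiv {l' : Type*} [DecidableEq l'] (R : Type*) [CommRing R] (e : l ≃ l') :
    (J l R).submatrix (e.sumCongr e).symm (e.sumCongr e).symm = J l' R := by
  ext x y
  rcases x with i | i <;> rcases y with j | j <;>
    simp [J, Matrix.one_apply, e.symm.injective.eq_iff]

/-- Reindexing the symplectic group along an equivalence of index types. -/
def symplecticReindex {l' : Type*} [Fintype l'] [DecidableEq l'] (R : Type*) [CommRing R] (e : l ≃ l') :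
    symplecticGroup l R →* symplecticGroup l' R where
  toFun A := ⟨(A : Matrix (l ⊕ l) (l ⊕ l) R).submatrix (e.sumCongr e).symm (e.sumCongr e).symm, by
    rw [SymplecticGroup.mem_iff, ← J_submatrix_equiv R e, Matrix.transpose_submatrix,
      Matrix.submatrix_mul_equiv, Matrix.submatrix_mul_equiv, SymplecticGroup.mem_iff.1 A.2]⟩
  map_one' := by
    apply Subtype.ext
    simp
  map_mul' A B := by
    apply Subtype.ext
    simp

theorem symplecticReindex_injective {l' : Type*} [Fintype l'] [DecidableEq l'] (R : Type*) [CommRing R]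
    (e : l ≃ l') : Function.Injective (symplecticReindex (l := l) R e) := by
  intro A B h
  apply Subtype.ext
  have h1 := congrArg Subtype.val h
  simp only [symplecticReindex, MonoidHom.coe_mk, OneHom.coe_mk] at h1
  ext i j
  have := congrFun (congrFun h1 ((e.sumCongr e) i)) ((e.sumCongr e) j)
  simpa using this

end Piece4

section Assemble

variable {F K : Type*} [Field F] [Field K] [Algebra F K]
variable {κ : Type*} [Fintype κ] [DecidableEq κ] (b : Module.Basis κ F K)
variable (l : Type*) [Fintype l] [DecidableEq l]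

/-- The block regular representation of a symplectic matrix over `K` preserves `J ⊗ S⁻¹`. -/
theorem blockRep_preserves (S' : Matrix κ κ F)
    (hSS' : Algebra.traceMatrix F b * S' = 1) (hS'S : S' * Algebra.traceMatrix F b = 1)
    (A : Matrix (l ⊕ l) (l ⊕ l) K) (hA : A ∈ symplecticGroup l K) :
    blockRep b (l ⊕ l) A * (J l F ⊗ₖ S') * (blockRep b (l ⊕ l) A)ᵀ = J l F ⊗ₖ S' := by
  have hA' : A * J l K * Aᵀ = J l K := SymplecticGroup.mem_iff.1 hA
  have hJ : blockRep b (l ⊕ l) (J l K) = J l F ⊗ₖ (1 : Matrix κ κ F) := by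
    rw [← blockRep_map_algebraMap b (J l F), Matrix.map_J]
  have h1 : blockRep b (l ⊕ l) A * (J l F ⊗ₖ (1 : Matrix κ κ F)) * blockRep b (l ⊕ l) Aᵀ =
      J l F ⊗ₖ (1 : Matrix κ κ F) := by
    rw [← hJ, ← map_mul, ← map_mul, hA']
  have hTT' : ((1 : Matrix (l ⊕ l) (l ⊕ l) F) ⊗ₖ Algebra.traceMatrix F b) *
      ((1 : Matrix (l ⊕ l) (l ⊕ l) F) ⊗ₖ S') = 1 := by
    rw [← Matrix.mul_kronecker_mul, hSS', Matrix.one_mul, Matrix.one_kronecker_one]
  have hT'T : ((1 : Matrix (l ⊕ l) (l ⊕ l) F) ⊗ₖ S') *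
      ((1 : Matrix (l ⊕ l) (l ⊕ l) F) ⊗ₖ Algebra.traceMatrix F b) = 1 := by
    rw [← Matrix.mul_kronecker_mul, hS'S, Matrix.one_mul, Matrix.one_kronecker_one]
  have h2 : blockRep b (l ⊕ l) Aᵀ =
      ((1 : Matrix (l ⊕ l) (l ⊕ l) F) ⊗ₖ S') * (blockRep b (l ⊕ l) A)ᵀ *
        ((1 : Matrix (l ⊕ l) (l ⊕ l) F) ⊗ₖ Algebra.traceMatrix F b) := by
    rw [Matrix.mul_assoc, blockRep_transpose_mul, ← Matrix.mul_assoc, hT'T, Matrix.one_mul]
  have hJS : (J l F ⊗ₖ (1 : Matrix κ κ F)) * ((1 : Matrix (l ⊕ l) (l ⊕ l) F) ⊗ₖ S') =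
      J l F ⊗ₖ S' := by
    rw [← Matrix.mul_kronecker_mul, Matrix.mul_one, Matrix.one_mul]
  rw [h2] at h1
  calc blockRep b (l ⊕ l) A * (J l F ⊗ₖ S') * (blockRep b (l ⊕ l) A)ᵀ
      = (blockRep b (l ⊕ l) A * (J l F ⊗ₖ (1 : Matrix κ κ F)) *
          (((1 : Matrix (l ⊕ l) (l ⊕ l) F) ⊗ₖ S') * (blockRep b (l ⊕ l) A)ᵀ *
            ((1 : Matrix (l ⊕ l) (l ⊕ l) F) ⊗ₖ Algebra.traceMatrix F b))) *
          ((1 : Matrix (l ⊕ l) (l ⊕ l) F) ⊗ₖ S') := by
        rw [← hJS]
        simp only [Matrix.mul_assoc]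
        rw [hTT', Matrix.mul_one]
    _ = J l F ⊗ₖ S' := by rw [h1, hJS]

/-- For a finite extension `K / F` with invertible trace matrix (i.e. separable), `Sp(l, K)` embeds
in `Sp(l × κ, F)` where `κ` indexes an `F`-basis of `K`. -/
theorem exists_symplectic_embedding_of_basis (hdet : IsUnit (Algebra.traceMatrix F b).det) :
    ∃ φ : symplecticGroup l K →* symplecticGroup (l × κ) F, Function.Injective φ := by
  set S := Algebra.traceMatrix F b with hSdef
  have hSS' : S * S⁻¹ = 1 := Matrix.mul_nonsing_inv _ hdet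
  have hS'S : S⁻¹ * S = 1 := Matrix.nonsing_inv_mul _ hdet
  have hSt : Sᵀ = S := traceMatrix_transpose b
  have hDD' : twist l S * twist l S⁻¹ = 1 := twist_mul_twist S S⁻¹ hSS'
  have hD'D : twist l S⁻¹ * twist l S = 1 := twist_mul_twist S⁻¹ S hS'S
  have hmem : ∀ A : symplecticGroup l K,
      (twist l S * blockRep b (l ⊕ l) (A : Matrix (l ⊕ l) (l ⊕ l) K) * twist l S⁻¹).submatrix
        (Equiv.sumProdDistrib l l κ).symm (Equiv.sumProdDistrib l l κ).symm ∈
        symplecticGroup (l × κ) F := by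
    intro A
    rw [SymplecticGroup.mem_iff, ← J_kronecker_one_submatrix, Matrix.transpose_submatrix,
      Matrix.submatrix_mul_equiv, Matrix.submatrix_mul_equiv,
      conj_preserves _ (J l F ⊗ₖ S⁻¹) (J l F ⊗ₖ (1 : Matrix κ κ F)) (twist l S) (twist l S⁻¹) hD'D
        (blockRep_preserves b l S⁻¹ hSS' hS'S A A.2) (twist_form S S⁻¹ hSS' hS'S hSt)]
  refine ⟨{ toFun := fun A => ⟨_, hmem A⟩, map_one' := ?_, map_mul' := ?_ }, ?_⟩
  · apply Subtype.ext
    simp only [Submonoid.coe_one, map_one, Matrix.mul_one, hDD', Matrix.submatrix_one_equiv]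
  · intro A B
    apply Subtype.ext
    simp only [Submonoid.coe_mul, map_mul]
    rw [Matrix.submatrix_mul_equiv]
    congr 1
    calc twist l S * (blockRep b (l ⊕ l) A.1 * blockRep b (l ⊕ l) B.1) * twist l S⁻¹
        = twist l S * blockRep b (l ⊕ l) A.1 * 1 * blockRep b (l ⊕ l) B.1 * twist l S⁻¹ := by
          simp only [Matrix.mul_one, Matrix.mul_assoc]
      _ = _ := by rw [← hD'D]; simp only [Matrix.mul_assoc]
  · intro A B h
    apply Subtype.ext
    have h1 := congrArg Subtype.val h
    simp only [MonoidHom.coe_mk, OneHom.coe_mk] at h1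
    have h2 : twist l S * blockRep b (l ⊕ l) A.1 * twist l S⁻¹ =
        twist l S * blockRep b (l ⊕ l) B.1 * twist l S⁻¹ := by
      ext x y
      have := congrFun (congrFun h1 ((Equiv.sumProdDistrib l l κ) x)) ((Equiv.sumProdDistrib l l κ) y)
      simpa using this
    apply blockRep_injective b
    calc blockRep b (l ⊕ l) A.1
        = twist l S⁻¹ * (twist l S * blockRep b (l ⊕ l) A.1 * twist l S⁻¹) * twist l S := by
          simp only [Matrix.mul_assoc]
          rw [hD'D, Matrix.mul_one, ← Matrix.mul_assoc, hD'D, Matrix.one_mul]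
      _ = twist l S⁻¹ * (twist l S * blockRep b (l ⊕ l) B.1 * twist l S⁻¹) * twist l S := by rw [h2]
      _ = blockRep b (l ⊕ l) B.1 := by
          simp only [Matrix.mul_assoc]
          rw [hD'D, Matrix.mul_one, ← Matrix.mul_assoc, hD'D, Matrix.one_mul]

end Assemble

/-- Field-extension embedding of symplectic groups: for a field K with q² elements and a field F with q elements there is an injective homomorphism Sp_2a(K) → Sp_4a(F). -/
theorem result {K F : Type*} [Field K] [Fintype K] [Field F] [Fintype F] {q : ℕ} (hK : Fintype.card K = q ^ 2) (hF : Fintype.card F = q) (a : ℕ) : ∃ φ : ↥(Matrix.symplecticGroup (Fin a) K) →* ↥(Matrix.symplecticGroup (Fin (2 * a)) F), Function.Injective φ := by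
  obtain ⟨alg, hrank⟩ := Cfsg.Agent.Lib.Helper45.exists_algebra_finrank_two hK hF
  have hfin : Module.Finite F K := Module.Finite.of_finite
  let b : Module.Basis (Fin 2) F K := Module.finBasisOfFinrankEq F K hrank
  have hdet : IsUnit (Algebra.traceMatrix F b).det := by
    rw [isUnit_iff_ne_zero, Algebra.traceMatrix_of_basis]
    exact det_traceForm_ne_zero b
  obtain ⟨φ, hφ⟩ := exists_symplectic_embedding_of_basis b (Fin a) hdet
  let e : Fin a × Fin 2 ≃ Fin (2 * a) := finProdFinEquiv.trans (finCongr (Nat.mul_comm a 2))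
  exact ⟨(symplecticReindex F e).comp φ, (symplecticReindex_injective F e).comp hφ⟩

end Cfsg.Agent.S2678
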