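import Cfsg.Statements.S2679
import Cfsg.Agent.Lib.Helper45.FiniteFieldEmbed
-- import your own Cfsg.Agent.* helpers here

set_option autoImplicit false
open Cfsg

namespace Cfsg.Agent.S2679


open Matrix Polynomial


theorem mem_isometryGroup_iff {ι : Type} [Fintype ι] [DecidableEq ι] {F : Type*} [Field F]
    (Q : (ι → F) → F) (g : GL ι F) :
    g ∈ isometryGroup F Q ↔ ∀ u : ι → F, Q ((g : Matrix ι ι F) *ᵥ u) = Q u := by
  constructor
  · intro h u
    exact h u u
  · intro h u v
    exact h u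

section BaseChange

variable {F K : Type*} [Field F] [Field K] [Algebra F K]

theorem sum_polar {n : ℕ} (p q p' q' : Fin n → K) (s t : K) :
    ∑ j, (p j * s + q j * t) * (p' j * s + q' j * t) =
      (∑ j, p j * p' j) * s ^ 2 +
        ((∑ j, (p j + q j) * (p' j + q' j)) - (∑ j, p j * p' j) - (∑ j, q j * q' j)) * (s * t) +
        (∑ j, q j * q' j) * t ^ 2 := by
  simp only [Finset.sum_mul, ← Finset.sum_sub_distrib, ← Finset.sum_add_distrib]
  apply Finset.sum_congr rfl
  intros
  ring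

/-- polarization identity for `quadFormMinus` after extension of scalars -/
theorem quadFormMinus_polar (n : ℕ) (a c : F) (u v : (Fin n ⊕ Fin n) ⊕ Fin 2 → F) (s t : K) :
    quadFormMinus n K (algebraMap F K a) (algebraMap F K c)
        (fun x => algebraMap F K (u x) * s + algebraMap F K (v x) * t) =
      algebraMap F K (quadFormMinus n F a c u) * s ^ 2 +
        algebraMap F K (quadFormMinus n F a c (u + v) - quadFormMinus n F a c u -
          quadFormMinus n F a c v) * (s * t) +
        algebraMap F K (quadFormMinus n F a c v) * t ^ 2 := by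
  simp only [quadFormMinus, map_add, map_sub, map_mul, map_pow, map_sum, Pi.add_apply]
  rw [sum_polar]
  ring

theorem map_mulVec_combo {ι : Type} [Fintype ι] (g : Matrix ι ι F) (u v : ι → F) (s t : K) :
    (g.map (algebraMap F K)) *ᵥ (fun x => algebraMap F K (u x) * s + algebraMap F K (v x) * t) =
      fun x => algebraMap F K ((g *ᵥ u) x) * s + algebraMap F K ((g *ᵥ v) x) * t := by
  ext x
  simp only [Matrix.mulVec, dotProduct, Matrix.map_apply, map_sum, map_mul, Finset.sum_mul,
    ← Finset.sum_add_distrib]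
  apply Finset.sum_congr rfl
  intros
  ring

theorem baseChange_mem (n : ℕ) (a c : F) (b : Module.Basis (Fin 2) F K)
    (g : GL ((Fin n ⊕ Fin n) ⊕ Fin 2) F) (hg : g ∈ isometryGroup F (quadFormMinus n F a c)) :
    Matrix.GeneralLinearGroup.map (algebraMap F K) g ∈
      isometryGroup K (quadFormMinus n K (algebraMap F K a) (algebraMap F K c)) := by
  rw [mem_isometryGroup_iff] at hg ⊢
  intro w
  set u₀ : (Fin n ⊕ Fin n) ⊕ Fin 2 → F := fun x => b.repr (w x) 0 with hu₀
  set u₁ : (Fin n ⊕ Fin n) ⊕ Fin 2 → F := fun x => b.repr (w x) 1 with hu₁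
  have hw : w = fun x => algebraMap F K (u₀ x) * b 0 + algebraMap F K (u₁ x) * b 1 := by
    ext x
    have := b.sum_repr (w x)
    rw [Fin.sum_univ_two, Algebra.smul_def, Algebra.smul_def] at this
    exact this.symm
  have hgmap : ((Matrix.GeneralLinearGroup.map (algebraMap F K) g :
      GL ((Fin n ⊕ Fin n) ⊕ Fin 2) K) : Matrix ((Fin n ⊕ Fin n) ⊕ Fin 2) ((Fin n ⊕ Fin n) ⊕ Fin 2) K) =
      (g : Matrix ((Fin n ⊕ Fin n) ⊕ Fin 2) ((Fin n ⊕ Fin n) ⊕ Fin 2) F).map (algebraMap F K) := by
    ext x y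
    simp
  rw [hgmap, hw, map_mulVec_combo, quadFormMinus_polar, quadFormMinus_polar]
  rw [← Matrix.mulVec_add, hg, hg, hg]

end BaseChange


section Transport

variable {ι₁ ι₂ : Type} [Fintype ι₁] [DecidableEq ι₁] [Fintype ι₂] [DecidableEq ι₂]
variable {K : Type*} [Field K]

/-- conjugation by a rectangular invertible matrix, as a monoid hom on square matrices -/
def conjHom (T : Matrix ι₂ ι₁ K) (T' : Matrix ι₁ ι₂ K) (h1 : T * T' = 1) (h2 : T' * T = 1) :
    Matrix ι₁ ι₁ K →* Matrix ι₂ ι₂ K where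
  toFun M := T * M * T'
  map_one' := by rw [Matrix.mul_one, h1]
  map_mul' M N := by
    calc T * (M * N) * T' = T * M * (1 : Matrix ι₁ ι₁ K) * N * T' := by
          simp only [Matrix.mul_one, Matrix.mul_assoc]
      _ = T * M * T' * (T * N * T') := by rw [← h2]; simp only [Matrix.mul_assoc]

theorem conjHom_injective (T : Matrix ι₂ ι₁ K) (T' : Matrix ι₁ ι₂ K) (h1 : T * T' = 1)
    (h2 : T' * T = 1) : Function.Injective (conjHom T T' h1 h2) := by
  intro M N h
  have h' : T * M * T' = T * N * T' := h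
  calc M = T' * (T * M * T') * T := by
        simp only [Matrix.mul_assoc]; rw [h2, Matrix.mul_one, ← Matrix.mul_assoc, h2, Matrix.one_mul]
    _ = T' * (T * N * T') * T := by rw [h']
    _ = N := by
        simp only [Matrix.mul_assoc]; rw [h2, Matrix.mul_one, ← Matrix.mul_assoc, h2, Matrix.one_mul]

theorem transport (Q₁ : (ι₁ → K) → K) (Q₂ : (ι₂ → K) → K) (T : Matrix ι₂ ι₁ K) (T' : Matrix ι₁ ι₂ K)
    (h1 : T * T' = 1) (h2 : T' * T = 1) (hQ : ∀ w, Q₂ (T *ᵥ w) = Q₁ w) :
    ∃ φ : isometryGroup K Q₁ →* isometryGroup K Q₂, Function.Injective φ := by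
  have hmem : ∀ g : isometryGroup K Q₁,
      (Units.map (conjHom T T' h1 h2)).comp (isometryGroup K Q₁).subtype g ∈ isometryGroup K Q₂ := by
    intro g
    rw [mem_isometryGroup_iff]
    intro u
    have hg := (mem_isometryGroup_iff Q₁ g.1).1 g.2
    have hu : u = T *ᵥ (T' *ᵥ u) := by rw [Matrix.mulVec_mulVec, h1, Matrix.one_mulVec]
    have : ((Units.map (conjHom T T' h1 h2)).comp (isometryGroup K Q₁).subtype g : GL ι₂ K).1 =
        T * (g.1 : Matrix ι₁ ι₁ K) * T' := rfl
    show Q₂ (((Units.map (conjHom T T' h1 h2)).comp (isometryGroup K Q₁).subtype g : GL ι₂ K).1 *ᵥ u) = Q₂ u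
    rw [this]
    conv_rhs => rw [hu, hQ]
    rw [← Matrix.mulVec_mulVec, ← Matrix.mulVec_mulVec, hQ, hg]
  refine ⟨MonoidHom.codRestrict _ _ hmem, ?_⟩
  intro g₁ g₂ h
  have h' := congrArg Subtype.val h
  simp only [MonoidHom.codRestrict_apply, MonoidHom.comp_apply, Subgroup.subtype_apply] at h'
  have h'' := congrArg Units.val h'
  simp only [Units.coe_map] at h''
  exact Subtype.ext (Units.ext (conjHom_injective T T' h1 h2 h''))

end Transport


section StepD

variable {K : Type*} [Field K]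

/-- the split form `Σ x_j y_j + z₁ z₂` on the index type of `quadFormMinus` -/
def quadFormSplit (n : ℕ) (K : Type*) [Field K] (v : (Fin n ⊕ Fin n) ⊕ Fin 2 → K) : K :=
  (∑ i : Fin n, v (.inl (.inl i)) * v (.inl (.inr i))) + v (.inr 0) * v (.inr 1)

/-- the matrix `diag(1, [[1, -α], [1, -β]])` -/
def diagMat (n : ℕ) (α β : K) :
    Matrix ((Fin n ⊕ Fin n) ⊕ Fin 2) ((Fin n ⊕ Fin n) ⊕ Fin 2) K :=
  fromBlocks 1 0 0 !![1, -α; 1, -β]

theorem diagMat_mulVec_inl (n : ℕ) (α β : K) (w : (Fin n ⊕ Fin n) ⊕ Fin 2 → K) (x : Fin n ⊕ Fin n) :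
    (diagMat n α β *ᵥ w) (.inl x) = w (.inl x) := by
  simp [diagMat, Matrix.fromBlocks_mulVec]

theorem diagMat_mulVec_inr0 (n : ℕ) (α β : K) (w : (Fin n ⊕ Fin n) ⊕ Fin 2 → K) :
    (diagMat n α β *ᵥ w) (.inr 0) = w (.inr 0) - α * w (.inr 1) := by
  simp [diagMat, Matrix.mulVec, dotProduct, Fin.sum_univ_two]
  ring

theorem diagMat_mulVec_inr1 (n : ℕ) (α β : K) (w : (Fin n ⊕ Fin n) ⊕ Fin 2 → K) :
    (diagMat n α β *ᵥ w) (.inr 1) = w (.inr 0) - β * w (.inr 1) := by
  simp [diagMat, Matrix.mulVec, dotProduct, Fin.sum_univ_two]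
  ring

theorem quadFormSplit_diagMat (n : ℕ) (α β a c : K) (h1 : α + β = -a) (h2 : α * β = c)
    (w : (Fin n ⊕ Fin n) ⊕ Fin 2 → K) :
    quadFormSplit n K (diagMat n α β *ᵥ w) = quadFormMinus n K a c w := by
  simp only [quadFormSplit, quadFormMinus, diagMat_mulVec_inl, diagMat_mulVec_inr0,
    diagMat_mulVec_inr1]
  have ha : a = -(α + β) := by rw [h1, neg_neg]
  rw [ha, ← h2]
  ring

theorem exists_diagMat_inv (n : ℕ) (α β : K) (h : α ≠ β) :
    ∃ D' : Matrix ((Fin n ⊕ Fin n) ⊕ Fin 2) ((Fin n ⊕ Fin n) ⊕ Fin 2) K,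
      diagMat n α β * D' = 1 ∧ D' * diagMat n α β = 1 := by
  have hdet : IsUnit (!![1, -α; 1, -β] : Matrix (Fin 2) (Fin 2) K).det := by
    rw [Matrix.det_fin_two_of, isUnit_iff_ne_zero]
    intro h0
    apply h
    have : α - β = 0 := by linear_combination h0
    exact sub_eq_zero.mp this
  refine ⟨fromBlocks 1 0 0 (!![1, -α; 1, -β] : Matrix (Fin 2) (Fin 2) K)⁻¹, ?_, ?_⟩
  · rw [diagMat, fromBlocks_multiply]
    simp [Matrix.mul_nonsing_inv _ hdet, fromBlocks_one]
  · rw [diagMat, fromBlocks_multiply]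
    simp [Matrix.nonsing_inv_mul _ hdet, fromBlocks_one]

end StepD

section StepE

variable {K : Type*} [Field K]

/-- the reindexing `(Fin n ⊕ Fin n) ⊕ Fin 2 ≃ Fin (n+1) ⊕ Fin (n+1)` -/
def reidx (n : ℕ) : (Fin n ⊕ Fin n) ⊕ Fin 2 ≃ Fin (n + 1) ⊕ Fin (n + 1) where
  toFun := Sum.elim (Sum.elim (fun j => .inl j.castSucc) (fun j => .inr j.castSucc))
    (fun k => if k = 0 then .inl (Fin.last n) else .inr (Fin.last n))
  invFun := Sum.elim (Fin.lastCases (.inr 0) (fun j => .inl (.inl j)))
    (Fin.lastCases (.inr 1) (fun j => .inl (.inr j)))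
  left_inv := by
    rintro ((j | j) | k)
    · simp
    · simp
    · fin_cases k <;> simp
  right_inv := by
    rintro (j | j)
    · induction j using Fin.lastCases <;> simp
    · induction j using Fin.lastCases <;> simp

theorem quadFormPlus_reidx (n : ℕ) (w : (Fin n ⊕ Fin n) ⊕ Fin 2 → K) :
    quadFormPlus (n + 1) K (w ∘ (reidx n).symm) = quadFormSplit n K w := by
  simp only [quadFormPlus, quadFormSplit, Function.comp_apply, Fin.sum_univ_castSucc]
  simp [reidx]

end StepE


section Roots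

variable {F K : Type*} [Field F] [Fintype F] [Field K] [Fintype K] [Algebra F K]

theorem disc_ne_zero (a c : F)
    (hac : ∀ z₁ z₂ : F, z₁ ^ 2 + a * z₁ * z₂ + c * z₂ ^ 2 = 0 → z₁ = 0 ∧ z₂ = 0) :
    a ^ 2 - 4 * c ≠ 0 := by
  intro h
  by_cases h2 : (2 : F) = 0
  · -- characteristic two
    have h4 : (4 : F) = 0 := by
      have : (4 : F) = 2 * 2 := by norm_num
      rw [this, h2, mul_zero]
    have ha : a = 0 := by
      rw [h4, zero_mul, sub_zero] at h
      exact pow_eq_zero_iff (two_ne_zero) |>.mp h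
    have hchar : ringChar F = 2 := by
      have : CharP F 2 := by
        apply CharTwo.of_one_ne_zero_of_two_eq_zero one_ne_zero
        exact_mod_cast h2
      exact ringChar.eq F 2
    obtain ⟨β, hβ⟩ := FiniteField.isSquare_of_char_two hchar c
    have := hac β 1 (by
      rw [ha, hβ]
      have : β ^ 2 + 0 * β * 1 + β * β * 1 ^ 2 = 2 * (β * β) := by ring
      rw [this, h2, zero_mul])
    exact one_ne_zero this.2
  · have := hac (-a / 2) 1 (by
      field_simp
      linear_combination (-1 : F) * h)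
    exact one_ne_zero this.2

theorem exists_roots (hrank : Module.finrank F K = 2) (a c : F)
    (hac : ∀ z₁ z₂ : F, z₁ ^ 2 + a * z₁ * z₂ + c * z₂ ^ 2 = 0 → z₁ = 0 ∧ z₂ = 0) :
    ∃ α β : K, α + β = -(algebraMap F K a) ∧ α * β = algebraMap F K c ∧ α ≠ β := by
  set f : F[X] := X ^ 2 + C a * X + C c with hf
  have hdeg : f.natDegree = 2 := by
    rw [hf]; compute_degree!
  have hmonic : f.Monic := by
    rw [hf]; monicity!
  have hirr : Irreducible f := by
    apply irreducible_of_degree_le_three_of_not_isRoot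
    · rw [hdeg]; decide
    · intro z hz
      have : z ^ 2 + a * z * 1 + c * 1 ^ 2 = 0 := by
        have := hz
        simp only [hf, IsRoot.def, eval_add, eval_pow, eval_X, eval_mul, eval_C] at this
        linear_combination this
      exact one_ne_zero (hac z 1 this).2
  have : Fact (Irreducible f) := ⟨hirr⟩
  have hfin : Module.finrank F (AdjoinRoot f) = 2 := by
    rw [(AdjoinRoot.powerBasis hirr.ne_zero).finrank, AdjoinRoot.powerBasis_dim, hdeg]
  obtain ⟨ψ⟩ := FiniteField.nonempty_algHom_of_finrank_dvd (F := F) (K := AdjoinRoot f) (L := K)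
    (by rw [hfin, hrank])
  set α : K := ψ (AdjoinRoot.root f) with hα
  have hroot : α ^ 2 + algebraMap F K a * α + algebraMap F K c = 0 := by
    have h1 : aeval (AdjoinRoot.root f) f = 0 := AdjoinRoot.aeval_eq f ▸ AdjoinRoot.mk_self
    have h2 : aeval α f = 0 := by
      rw [hα, aeval_algHom_apply, h1, map_zero]
    simpa [hf, aeval_def] using h2
  refine ⟨α, -(algebraMap F K a) - α, by ring, by linear_combination (-1 : K) * hroot, ?_⟩
  intro heq
  have hdisc := disc_ne_zero a c hac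
  apply hdisc
  have h2α : 2 * α = -(algebraMap F K a) := by linear_combination heq
  apply (algebraMap F K).injective
  rw [map_zero, map_sub, map_pow, map_mul]
  have h4 : algebraMap F K 4 = 4 := map_ofNat _ 4
  rw [h4]
  linear_combination (2 * α + algebraMap F K a) * h2α - 4 * hroot

end Roots


section Assemble

variable {F K : Type*} [Field F] [Fintype F] [Field K] [Fintype K] [Algebra F K]

theorem embed_general (hrank : Module.finrank F K = 2) (n : ℕ) (a c : F)
    (hac : ∀ z₁ z₂ : F, z₁ ^ 2 + a * z₁ * z₂ + c * z₂ ^ 2 = 0 → z₁ = 0 ∧ z₂ = 0) :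
    ∃ φ : ↥(isometryGroup F (quadFormMinus n F a c)) →* ↥(isometryGroup K (quadFormPlus (n + 1) K)),
      Function.Injective φ := by
  have hfin : Module.Finite F K := Module.Finite.of_finite
  let b : Module.Basis (Fin 2) F K := Module.finBasisOfFinrankEq F K hrank
  -- step 0: base change
  have hmem0 : ∀ g : isometryGroup F (quadFormMinus n F a c),
      (Matrix.GeneralLinearGroup.map (algebraMap F K)).comp
        (isometryGroup F (quadFormMinus n F a c)).subtype g ∈
        isometryGroup K (quadFormMinus n K (algebraMap F K a) (algebraMap F K c)) :=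
    fun g => baseChange_mem n a c b g.1 g.2
  let φ₀ : ↥(isometryGroup F (quadFormMinus n F a c)) →*
      ↥(isometryGroup K (quadFormMinus n K (algebraMap F K a) (algebraMap F K c))) :=
    MonoidHom.codRestrict _ _ hmem0
  have hφ₀ : Function.Injective φ₀ := by
    intro g₁ g₂ h
    have h' := congrArg Subtype.val h
    simp only [φ₀, MonoidHom.codRestrict_apply, MonoidHom.comp_apply, Subgroup.subtype_apply] at h'
    apply Subtype.ext
    apply Units.ext
    ext x y
    have h'' := congrArg (fun M : GL ((Fin n ⊕ Fin n) ⊕ Fin 2) K => M x y) h'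
    simp only [Matrix.GeneralLinearGroup.map_apply] at h''
    exact (algebraMap F K).injective h''
  -- step 1: diagonalise the binary part
  obtain ⟨α, β, h1, h2, hne⟩ := exists_roots hrank a c hac
  obtain ⟨D', hD1, hD2⟩ := exists_diagMat_inv n α β hne
  obtain ⟨φ₁, hφ₁⟩ := transport (quadFormMinus n K (algebraMap F K a) (algebraMap F K c))
    (quadFormSplit n K) (diagMat n α β) D' hD1 hD2
    (quadFormSplit_diagMat n α β _ _ h1 h2)
  -- step 2: reindex
  obtain ⟨φ₂, hφ₂⟩ := transport (quadFormSplit n K) (quadFormPlus (n + 1) K)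
    ((1 : Matrix (Fin (n + 1) ⊕ Fin (n + 1)) (Fin (n + 1) ⊕ Fin (n + 1)) K).submatrix id (reidx n))
    ((1 : Matrix (Fin (n + 1) ⊕ Fin (n + 1)) (Fin (n + 1) ⊕ Fin (n + 1)) K).submatrix (reidx n) id)
    (by
      rw [Matrix.submatrix_mul_equiv, Matrix.one_mul]
      exact Matrix.submatrix_one_equiv (Equiv.refl _))
    (by
      have := Matrix.submatrix_mul_equiv
        (1 : Matrix (Fin (n + 1) ⊕ Fin (n + 1)) (Fin (n + 1) ⊕ Fin (n + 1)) K)
        (1 : Matrix (Fin (n + 1) ⊕ Fin (n + 1)) (Fin (n + 1) ⊕ Fin (n + 1)) K)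
        (reidx n) (Equiv.refl _) (reidx n)
      rw [Matrix.one_mul, Matrix.submatrix_one_equiv] at this
      exact this)
    (by
      intro w
      have : ((1 : Matrix (Fin (n + 1) ⊕ Fin (n + 1)) (Fin (n + 1) ⊕ Fin (n + 1)) K).submatrix id
          (reidx n)) *ᵥ w = w ∘ (reidx n).symm := by
        have := Matrix.submatrix_mulVec_equiv
          (1 : Matrix (Fin (n + 1) ⊕ Fin (n + 1)) (Fin (n + 1) ⊕ Fin (n + 1)) K) w id (reidx n)
        rw [this, Matrix.one_mulVec]
        rfl
      rw [this, quadFormPlus_reidx])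
  exact ⟨φ₂.comp (φ₁.comp φ₀), hφ₂.comp (hφ₁.comp hφ₀)⟩

end Assemble

/-- An elliptic orthogonal group embeds in the hyperbolic orthogonal group of the same dimension over the quadratic extension: for a field F with q elements and a field K with q² elements there is an injective homomorphism from O⁻_2m(F) (isometries of Σ_(j<m−1) x_j y_j + z₁² + a z₁z₂ + c z₂², binary part anisotropic) to O⁺_2m(K) (isometries of Σ_(j<m) x_j y_j over K). -/
theorem result {F K : Type*} [Field F] [Fintype F] [Field K] [Fintype K] {q : ℕ} (hF : Fintype.card F = q) (hK : Fintype.card K = q ^ 2) {m : ℕ} (hm : 1 ≤ m) (a c : F) (hac : ∀ z₁ z₂ : F, z₁ ^ 2 + a * z₁ * z₂ + c * z₂ ^ 2 = 0 → z₁ = 0 ∧ z₂ = 0) : ∃ φ : ↥(Cfsg.isometryGroup F (Cfsg.quadFormMinus (m - 1) F a c)) →* ↥(Cfsg.isometryGroup K (Cfsg.quadFormPlus m K)), Function.Injective φ := by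
  obtain ⟨alg, hrank⟩ := Cfsg.Agent.Lib.Helper45.exists_algebra_finrank_two hK hF
  obtain ⟨n, rfl⟩ : ∃ n, m = n + 1 := ⟨m - 1, by omega⟩
  exact embed_general hrank n a c hac

end Cfsg.Agent.S2679
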