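import Cfsg.Statements.S2680
import Mathlib
import Cfsg.Agent.Lib.Helper45.SpInv.Arith

-- import your own Cfsg.Agent.* helpers here

set_option autoImplicit false
open Cfsg

namespace Cfsg.Agent.S2680


open Cfsg.Agent.Lib.Helper45.SpInv Matrix

/-- Centraliser order of an involution t of Sp_2m(q), q even, with s = rank(t − 1) odd (type b_s): |C(t)| = q^(2ms − (3s² − s)/2) · |Sp_(s−1)(q)| · |Sp_(2m−2s)(q)|, where |Sp_2k(q)| = q^(k²) Π_(i=1)^k (q^(2i) − 1). -/
theorem result {F : Type*} [Field F] [Fintype F] [CharP F 2] {q : ℕ} (hF : Fintype.card F = q) {m s : ℕ} (t : Matrix.symplecticGroup (Fin m) F) (ht : t ^ 2 = 1) (hs : ((t : Matrix (Fin m ⊕ Fin m) (Fin m ⊕ Fin m) F) - 1).rank = s) (hodd : Odd s) : Nat.card ↥(Subgroup.centralizer ({t} : Set ↥(Matrix.symplecticGroup (Fin m) F))) = q ^ (2 * m * s - (3 * s ^ 2 - s) / 2) * ((q : ℕ) ^ (((s - 1) / 2) ^ 2) * ∏ i : Fin ((s - 1) / 2), (q ^ (2 * ((i : ℕ) + 1)) - 1)) * ((q : ℕ) ^ ((m - s)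 ^ 2) * ∏ i : Fin (m - s), (q ^ (2 * ((i : ℕ) + 1)) - 1)) := by

  classical
  subst hF
  obtain ⟨k, rfl⟩ := hodd
  have hcard : Fintype.card (Unit ⊕ (Fin k ⊕ Fin k)) = 2 * k + 1 := by simp; omega
  have hrank : (t.1 - 1).rank = Fintype.card (Unit ⊕ (Fin k ⊕ Fin k)) := by rw [hcard]; exact hs
  have htype : (∀ v : Fin m ⊕ Fin m → F, Cfsg.sympForm m F v (t.1 *ᵥ v) = 0) ↔
      ∀ i, formB k F i i = 0 := by
    constructor
    · intro h
      exfalso
      have h1 := Cfsg.Agent.S2167.even_part t.1 h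
      rw [hs] at h1
      rw [Nat.even_iff] at h1
      omega
    · intro h
      exfalso
      have h1 := h (Sum.inl ())
      rw [formB_diag] at h1
      exact one_ne_zero h1
  have key := card_centralizer_invol t ht (formB k F) (formB k F)
    formB_transpose formB_mul_self hrank htype
  have hsm : 2 * k + 1 ≤ m := by rw [← hs]; exact rank_sub_one_le t ht
  rw [key, card_isomB, Cfsg.Agent.S0245.result rfl k, hcard]
  obtain ⟨l, rfl⟩ : ∃ l, m = (2 * k + 1) + l := ⟨m - (2 * k + 1), by omega⟩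
  have hk2 : (2 * k + 1 - 1) / 2 = k := by omega
  rw [hk2, Nat.add_sub_cancel_left, prod_fin_eq, prod_fin_eq, exp_identity]
  ring

end Cfsg.Agent.S2680
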