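import Cfsg.Statements.S2681
import Mathlib
import Cfsg.Agent.Lib.Helper45.SpInv.Arith

-- import your own Cfsg.Agent.* helpers here

set_option autoImplicit false
open Cfsg

namespace Cfsg.Agent.S2681


open Cfsg.Agent.Lib.Helper45.SpInv Matrix

/-- Centraliser order of an involution t of Sp_2m(q), q even, with s = rank(t − 1) even and f(v, tv) = 0 for every v, f the symplectic form (type a_s): |C(t)| = q^(2ms − (3s² − s)/2) · |Sp_s(q)| · |Sp_(2m−2s)(q)|. -/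
theorem result {F : Type*} [Field F] [Fintype F] [CharP F 2] {q : ℕ} (hF : Fintype.card F = q) {m s : ℕ} (t : Matrix.symplecticGroup (Fin m) F) (ht : t ^ 2 = 1) (ht1 : t ≠ 1) (hs : ((t : Matrix (Fin m ⊕ Fin m) (Fin m ⊕ Fin m) F) - 1).rank = s) (heven : Even s) (halt : ∀ v : Fin m ⊕ Fin m → F, Cfsg.sympForm m F v ((t : Matrix (Fin m ⊕ Fin m) (Fin m ⊕ Fin m) F).mulVec v) = 0) : Nat.card ↥(Subgroup.centralizer ({t} : Set ↥(Matrix.symplecticGroup (Fin m) F))) = q ^ (2 * m * s - (3 * s ^ 2 - s) / 2) * ((q : ℕ) ^ ((s / 2) ^ 2) * ∏ i : Fin (s / 2), (q ^ (2 * ((i : ℕ) + 1)) - 1)) * ((q : ℕ) ^ ((m - s) ^ 2) * ∏ i : Fin (m - s), (q ^ (2 * ((i : ℕ) + 1)) - 1)) := by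

  classical
  subst hF
  obtain ⟨k, rfl⟩ := heven
  have hcard : Fintype.card (Fin k ⊕ Fin k) = k + k := by simp
  have hrank : (t.1 - 1).rank = Fintype.card (Fin k ⊕ Fin k) := by rw [hcard]; exact hs
  have htype : (∀ v : Fin m ⊕ Fin m → F, Cfsg.sympForm m F v (t.1 *ᵥ v) = 0) ↔
      ∀ i, Matrix.J (Fin k) F i i = 0 := ⟨fun _ => J_diag, fun _ => halt⟩
  have key := card_centralizer_invol t ht (Matrix.J (Fin k) F) (Matrix.J (Fin k) F)
    J_transpose' J_mul_J hrank htype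
  have hsm : k + k ≤ m := by rw [← hs]; exact rank_sub_one_le t ht
  rw [key, card_isomA, Cfsg.Agent.S0245.result rfl k, hcard]
  obtain ⟨l, rfl⟩ : ∃ l, m = (k + k) + l := ⟨m - (k + k), by omega⟩
  have hk2 : (k + k) / 2 = k := by omega
  rw [hk2, Nat.add_sub_cancel_left, prod_fin_eq, prod_fin_eq, exp_identity]
  ring

end Cfsg.Agent.S2681
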