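import Cfsg.Statements.S2682
import Mathlib
import Cfsg.Agent.Lib.Helper45.SpInv.Arith

-- import your own Cfsg.Agent.* helpers here

set_option autoImplicit false
open Cfsg

namespace Cfsg.Agent.S2682


open Cfsg.Agent.Lib.Helper45.SpInv Matrix

/-- Centraliser order of an involution t of Sp_2m(q), q even, with s = rank(t − 1) even and f(v, tv) ≠ 0 for some v, f the symplectic form (type c_s): |C(t)| = q^(2ms − (3s² − 3s)/2 − 1) · |Sp_(s−2)(q)| · |Sp_(2m−2s)(q)|. -/
theorem result {F : Type*} [Field F] [Fintype F] [CharP F 2] {q : ℕ} (hF : Fintype.card F = q) {m s : ℕ} (t : Matrix.symplecticGroup (Fin m) F) (ht : t ^ 2 = 1) (hs : ((t : Matrix (Fin m ⊕ Fin m) (Fin m ⊕ Fin m) F) - 1).rank = s) (heven : Even s) (hna : ∃ v : Fin m ⊕ Fin m → F, Cfsg.sympForm m F v ((t : Matrix (Fin m ⊕ Fin m) (Fin m ⊕ Fin m) F).mulVec v) ≠ 0) : Nat.card ↥(Subgroup.centralizer ({t} : Set ↥(Matrix.symplecticGroup (Fin m) F))) = q ^ (2 * m * s - (3 * s ^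 2 - 3 * s) / 2 - 1) * ((q : ℕ) ^ (((s - 2) / 2) ^ 2) * ∏ i : Fin ((s - 2) / 2), (q ^ (2 * ((i : ℕ) + 1)) - 1)) * ((q : ℕ) ^ ((m - s) ^ 2) * ∏ i : Fin (m - s), (q ^ (2 * ((i : ℕ) + 1)) - 1)) := by

  classical
  subst hF
  obtain ⟨k, rfl⟩ := heven
  have hk1 : 1 ≤ k := by
    by_contra hk0
    have hk : k = 0 := by omega
    subst hk
    obtain ⟨v, hv⟩ := hna
    apply hv
    have h0 : ((t : Matrix (Fin m ⊕ Fin m) (Fin m ⊕ Fin m) F) - 1).rank = 0 := hs
    have h1 : (t : Matrix (Fin m ⊕ Fin m) (Fin m ⊕ Fin m) F) - 1 = 0 := by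
      unfold Matrix.rank at h0
      rw [Submodule.finrank_eq_zero, LinearMap.range_eq_bot] at h0
      rw [← Matrix.toLin'_apply', LinearEquiv.map_eq_zero_iff] at h0
      exact h0
    rw [sub_eq_zero.mp h1, Matrix.one_mulVec]
    exact Cfsg.Agent.Lib.Helper13.sympForm_self v
  let c : Fin k ⊕ Fin k := Sum.inl ⟨0, hk1⟩
  have hcard : Fintype.card (Fin k ⊕ Fin k) = k + k := by simp
  have hrank : (t.1 - 1).rank = Fintype.card (Fin k ⊕ Fin k) := by rw [hcard]; exact hs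
  have htype : (∀ v : Fin m ⊕ Fin m → F, Cfsg.sympForm m F v (t.1 *ᵥ v) = 0) ↔
      ∀ i, formC k F c i i = 0 := by
    constructor
    · intro h
      exfalso
      obtain ⟨v, hv⟩ := hna
      exact hv (h v)
    · intro h
      exfalso
      have h1 := h c
      rw [formC_diag] at h1
      exact one_ne_zero h1
  have key := card_centralizer_invol t ht (formC k F c) _
    (formC_transpose c) (formC_mul_inv c) hrank htype
  have hsm : k + k ≤ m := by rw [← hs]; exact rank_sub_one_le t ht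
  rw [key, card_isomC hk1 c, hcard]
  obtain ⟨l, rfl⟩ : ∃ l, m = (k + k) + l := ⟨m - (k + k), by omega⟩
  have hk2 : (k + k - 2) / 2 = k - 1 := by omega
  have hk3 : 1 * (1 + 1) / 2 + 2 * 1 * (k - 1) = (k + k) - 1 := by omega
  rw [hk2, hk3, Nat.add_sub_cancel_left, prod_fin_eq, prod_fin_eq,
    ← exp_identity_c (k + k) l (by omega)]
  ring

end Cfsg.Agent.S2682
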