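import Cfsg.Statements.S2686
import Cfsg.Agent.Lib.Helper44.LBOrthInst
import Cfsg.Agent.Lib.Helper44.LBSympInst
import Cfsg.Agent.Lib.Helper44.LBNoNormal
import Cfsg.Agent.Lib.Helper43.PSLGFLB3
import Cfsg.Agent.Lib.Helper43.PSLSmall
import Cfsg.Agent.Lib.Helper36.LocalBalance.PSLMain
import Cfsg.Agent.Lib.Helper45.PSLField.Coset
-- import your own Cfsg.Agent.* helpers here

set_option autoImplicit false
open Cfsg

namespace Cfsg.Agent.S2686

open Cfsg.Agent.Lib.Helper43 Cfsg.Agent.Lib.Helper44.GraphInv Cfsg.Agent.Lib.Helper44.LB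
  Cfsg.Agent.Lib.Helper36 Cfsg.Agent.Lib.Helper36.LocalBalance Cfsg.Agent.Lib.Helper45.PSLField

variable {n : ℕ} {F : Type*} [Field F]

theorem isFieldAutPSL_iff'
    (φ : MulAut (Matrix.ProjectiveSpecialLinearGroup (Fin n) F)) :
    Cfsg.IsFieldAutPSL φ ↔ ∃ σ : RingAut F, φ = pslField σ := by
  constructor
  · rintro ⟨σ, hσ⟩
    exact ⟨σ, (isStdFieldAutPSL_iff σ φ).mp hσ⟩
  · rintro ⟨σ, rfl⟩
    exact ⟨σ, (isStdFieldAutPSL_iff σ _).mpr rfl⟩

/-- the shape `γ * φ` with `γ` inner-diagonal and `φ` a field automorphism -/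
theorem fieldshape_iff (β : MulAut (Matrix.ProjectiveSpecialLinearGroup (Fin n) F)) :
    (∃ γ φ : MulAut (Matrix.ProjectiveSpecialLinearGroup (Fin n) F),
      Cfsg.IsInnerDiagonalAutPSL γ ∧ Cfsg.IsFieldAutPSL φ ∧ β = φ.trans γ) ↔
    ∃ (g : GL (Fin n) F) (σ : RingAut F), β = pslDiag g * pslField σ := by
  constructor
  · rintro ⟨γ, φ, hγ, hφ, rfl⟩
    obtain ⟨g, rfl⟩ := (isInnerDiagonalAutPSL_iff γ).mp hγ
    obtain ⟨σ, rfl⟩ := (isFieldAutPSL_iff' φ).mp hφ
    exact ⟨g, σ, rfl⟩
  · rintro ⟨g, σ, rfl⟩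
    exact ⟨pslDiag g, pslField σ, (isInnerDiagonalAutPSL_iff _).mpr ⟨g, rfl⟩,
      (isFieldAutPSL_iff' _).mpr ⟨σ, rfl⟩, rfl⟩

/-- the main argument, modulo three inputs -/
theorem main_of
    (F : Type*) [Field F] [Fintype F] (r : ℕ) [Fact r.Prime] [CharP F r] (n : ℕ) (hn : 2 ≤ n)
    (hK : IsSimpleGroup (Matrix.ProjectiveSpecialLinearGroup (Fin n) F))
    (𝒢 : Subgroup (MulAut (Matrix.ProjectiveSpecialLinearGroup (Fin n) F)))
    (hinn : ∀ k : Matrix.ProjectiveSpecialLinearGroup (Fin n) F, MulAut.conj k ∈ 𝒢)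
    (p : ℕ) [Fact p.Prime] (hpr : p ≠ r)
    (β : MulAut (Matrix.ProjectiveSpecialLinearGroup (Fin n) F)) (hβ : β ∈ 𝒢)
    (hord : orderOf β = p) (hnot : ¬ Cfsg.IsInnerDiagonalAutPSL β)
    (Ha : n = 2 → ∃ w : GL (Fin n) F,
      (pslInvT : MulAut (Matrix.ProjectiveSpecialLinearGroup (Fin n) F)) = pslDiag w)
    (Hb : n = 2 → 4 ≤ Fintype.card F)
    (HL : 3 ≤ n → (2 : F) ≠ 0 → ∀ (Q : QuadraticForm F (Fin n → F))
      (hQ : (QuadraticMap.polarBilin Q).Nondegenerate),
      ∀ M : Subgroup (↥(OmegaGL ⇑Q) ⧸ Subgroup.center ↥(OmegaGL ⇑Q)), M.Normal →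
        (Nat.card ↥M).Coprime 2 → M = ⊥) :
    Cfsg.pPrimeCore p ↥(𝒢 ⊓ Subgroup.centralizer {β}) ≠ ⊥ ↔
      ((∃ γ φ : MulAut (Matrix.ProjectiveSpecialLinearGroup (Fin n) F),
        Cfsg.IsInnerDiagonalAutPSL γ ∧ Cfsg.IsFieldAutPSL φ ∧ β = φ.trans γ) ∧
        Nat.Coprime p (Nat.card ↥(MonoidHom.eqLocus β.toMonoidHom
          (MonoidHom.id (Matrix.ProjectiveSpecialLinearGroup (Fin n) F))))) := by
  classical
  have hp : p.Prime := Fact.out
  have hr : r.Prime := Fact.out
  obtain ⟨f, hrp, hF⟩ := FiniteField.card F r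
  have hf : 1 ≤ (f : ℕ) := f.pos
  have hstd : AllStdAut n F := allStdAut_finite hF hf hn Hb
  have hinn' : Cfsg.Inn (Matrix.ProjectiveSpecialLinearGroup (Fin n) F) ≤ 𝒢 := by
    rintro _ ⟨k, rfl⟩
    exact hinn k
  have hInn_ne : Cfsg.Inn (Matrix.ProjectiveSpecialLinearGroup (Fin n) F) ≠ ⊥ := by
    intro h0
    apply EPSL_ne_bot (n := n) (F := F) hn (RingHom.id F)
    rw [eq_bot_iff, ← h0]
    exact EPSL_le_Inn (RingHom.id F)
  have hZ : Subgroup.center (Matrix.ProjectiveSpecialLinearGroup (Fin n) F) = ⊥ :=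
    center_eq_bot_of_inn_ne_bot hInn_ne
  rw [fieldshape_iff]
  -- the field case
  have field_case : ∀ (g : GL (Fin n) F) (σ : RingAut F), β = pslDiag g * pslField σ →
      (Cfsg.pPrimeCore p ↥(𝒢 ⊓ Subgroup.centralizer {β}) ≠ ⊥ ↔
      ((∃ (g : GL (Fin n) F) (σ : RingAut F), β = pslDiag g * pslField σ) ∧
        Nat.Coprime p (Nat.card ↥(MonoidHom.eqLocus β.toMonoidHom
          (MonoidHom.id (Matrix.ProjectiveSpecialLinearGroup (Fin n) F)))))) := by
    intro g σ hgσ
    have hσ : σ ≠ 1 := by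
      rintro rfl
      apply hnot
      rw [isInnerDiagonalAutPSL_iff]
      exact ⟨g, by rw [hgσ, map_one, mul_one]⟩
    have hord' : orderOf ((pslDiag g : MulAut (Matrix.ProjectiveSpecialLinearGroup (Fin n) F)) *
        pslField σ) = p := by rw [← hgσ]; exact hord
    have h1 := psl_field_main hn hK hstd hpr 𝒢 hinn g σ hσ hord'
    rw [← hgσ] at h1
    rw [h1]
    constructor
    · intro h
      exact ⟨⟨g, σ, hgσ⟩, h⟩
    · intro h
      exact h.2
  obtain ⟨⟨σ, ε⟩, g, hgβ⟩ := hstd β
  simp only at hgβ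
  by_cases hn3 : 3 ≤ n
  · rcases zmod2_mul_cases ε with rfl | rfl
    · exact field_case g σ (by rw [hgβ, map_one, mul_one])
    · -- graph part non-trivial
      have hstdβ : stdPart hn3 hstd β = (σ, Multiplicative.ofAdd (1 : ZMod 2)) :=
        stdPart_eq hn3 hstd ⟨g, hgβ⟩
      have hβp : β ^ p = 1 := by rw [← hord]; exact pow_orderOf_eq_one β
      have hp2 : p = 2 := by
        have h1 : (stdPart hn3 hstd β) ^ p = 1 := by rw [← map_pow, hβp, map_one]
        rw [hstdβ] at h1
        have h2 := congrArg Prod.snd h1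
        rw [Prod.pow_snd, Prod.snd_one] at h2
        have h3 : (p : ZMod 2) = 0 := by
          have h4 := congrArg Multiplicative.toAdd h2
          rw [toAdd_pow, toAdd_ofAdd, toAdd_one, nsmul_eq_mul, mul_one] at h4
          exact h4
        have h5 : 2 ∣ p := (ZMod.natCast_eq_zero_iff p 2).mp h3
        exact ((Nat.prime_dvd_prime_iff_eq Nat.prime_two hp).mp h5).symm
      subst hp2
      have h2F : (2 : F) ≠ 0 := by
        intro h0
        have h1 : ((2 : ℕ) : F) = 0 := by exact_mod_cast h0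
        have h3 : r ∣ 2 := (CharP.cast_eq_zero_iff F r 2).mp h1
        exact hpr ((Nat.prime_dvd_prime_iff_eq hr Nat.prime_two).mp h3).symm
      have hxx : β ^ 2 = 1 := hβp
      -- the right-hand side is false
      have hR : ¬ ∃ (g : GL (Fin n) F) (σ : RingAut F), β = pslDiag g * pslField σ := by
        rintro ⟨g', σ', hg'⟩
        have h1 : IsStdAut β (σ', (1 : Multiplicative (ZMod 2))) :=
          ⟨g', by rw [hg', map_one, mul_one]⟩
        have h3 := IsStdAut.unique hn3 h1 (⟨g, hgβ⟩ : IsStdAut β (σ, Multiplicative.ofAdd (1 : ZMod 2)))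
        have h4 := congrArg Prod.snd h3
        simp only at h4
        have h5 := congrArg Multiplicative.toAdd h4
        rw [toAdd_one, toAdd_ofAdd] at h5
        exact zero_ne_one h5
      -- the left-hand side is false
      have hL : Cfsg.pPrimeCore 2 ↥(𝒢 ⊓ Subgroup.centralizer {β}) = ⊥ := by
        by_cases hσ : σ = 1
        · subst hσ
          have hβgr : β = gr g := by
            rw [hgβ, map_one, mul_one, pslGraph_one_add]
            rfl
          have hn2 : 2 ≤ n := hn
          have hsq : gr g * gr g = 1 := by rw [← hβgr, ← pow_two, hxx]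
          rcases transpose_eq_of_gr_mul_self hn2 g hsq with hs | ha
          · -- orthogonal type
            have hgi : ((g⁻¹ : GL (Fin n) F) : Matrix (Fin n) (Fin n) F).transpose =
                ((g⁻¹ : GL (Fin n) F) : Matrix (Fin n) (Fin n) F) := by
              have h3 : (glInvT g)⁻¹ = g := Units.ext (by rw [glInvT_inv_coe, hs])
              have h1 : glInvT g = g⁻¹ := inv_eq_iff_eq_inv.mp h3
              rw [← glInvT_coe, h1]
            have hQ := symQ_nondeg h2F g⁻¹ hgi
            have hgg := glGram_symQ h2F g⁻¹ hgi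
            have h5 := lb_orth hn3 h2F hstd hZ _ hQ (HL hn3 h2F _ hQ) 𝒢 hinn'
            rw [hgg, inv_inv, ← hβgr] at h5
            exact h5
          · -- symplectic type
            have hev : Even n := by
              by_contra hodd
              exact not_alt_of_odd (Nat.not_even_iff_odd.mp hodd) h2F g ha
            obtain ⟨m, hm⟩ := hev
            have hnm : n = 2 * m := by omega
            have e : Fin m ⊕ Fin m ≃ Fin n := finSumFinEquiv.trans (finCongr (by omega))
            obtain ⟨h, -, hh⟩ := isConjUnder_altGL hn2 hnm h2F e g ha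
            by_contra hne
            have h1 := (core_conj_iff 𝒢 β h 2).mp hne
            rw [hβgr, ← hh] at h1
            exact h1 (lb_symp hn3 (by omega) h2F hstd hZ e _ (inn_le_map_conj 𝒢 h hinn'))
        · exact psl_graphfield_main hn3 h2F hstd hK β hxx σ hσ ⟨g, hgβ⟩ 𝒢 hinn
      constructor
      · intro h
        exact absurd hL h
      · intro h
        exact absurd h.1 hR
  · -- n = 2
    have hn2 : n = 2 := by omega
    obtain ⟨w, hw⟩ := Ha hn2
    rcases zmod2_mul_cases ε with rfl | rfl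
    · exact field_case g σ (by rw [hgβ, map_one, mul_one])
    · refine field_case (g * Matrix.GeneralLinearGroup.map (σ : F →+* F) w) σ ?_
      rw [hgβ, pslGraph_one_add, hw, map_mul, mul_assoc, mul_assoc, pslField_mul_pslDiag]


/-- A criterion for the failure of local balance in almost simple groups with linear socle. Let F be a finite field of characteristic r and K = PSL_n(F) (n ≥ 2) simple. Let A be a group of automorphisms of K containing all inner automorphisms (an almost simple group with socle K), and β ∈ A an automorphism of prime order p ≠ r that is not inner-diagonal (not induced by conjugation by an invertible matrix). Then the largest normal subgroup of C_A(β) of order prime to p is nontrivial if and only if β is the composite of an inner-diagonal automorphism with the automorphism induced by a field automorphism applied entrywise (β is of field type) and p does not divide the number of fixed points of β on K. -/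
theorem result
    (F : Type*) [Field F] [Fintype F] (r : ℕ) [Fact r.Prime] [CharP F r] (n : ℕ) (hn : 2 ≤ n)
    (hK : IsSimpleGroup (Matrix.ProjectiveSpecialLinearGroup (Fin n) F))
    (𝒢 : Subgroup (MulAut (Matrix.ProjectiveSpecialLinearGroup (Fin n) F))) (hinn : ∀ k : Matrix.ProjectiveSpecialLinearGroup (Fin n) F, MulAut.conj k ∈ 𝒢)
    (p : ℕ) [Fact p.Prime] (hpr : p ≠ r) (β : MulAut (Matrix.ProjectiveSpecialLinearGroup (Fin n) F)) (hβ : β ∈ 𝒢) (hord : orderOf β = p)
    (hnot : ¬ Cfsg.IsInnerDiagonalAutPSL β) :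
    Cfsg.pPrimeCore p ↥(𝒢 ⊓ Subgroup.centralizer {β}) ≠ ⊥ ↔
      ((∃ γ φ : MulAut (Matrix.ProjectiveSpecialLinearGroup (Fin n) F), Cfsg.IsInnerDiagonalAutPSL γ ∧ Cfsg.IsFieldAutPSL φ ∧ β = φ.trans γ) ∧
        Nat.Coprime p (Nat.card ↥(MonoidHom.eqLocus β.toMonoidHom (MonoidHom.id (Matrix.ProjectiveSpecialLinearGroup (Fin n) F))))) := by
  classical
  refine main_of F r n hn hK 𝒢 hinn p hpr β hβ hord hnot ?_ ?_ ?_
  · intro h2
    subst h2
    exact Cfsg.Agent.Lib.Helper43.pslInvT_eq_pslDiag_two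
  · intro h2
    subst h2
    exact Cfsg.Agent.Lib.Helper43.four_le_card_of_simple_psl2 hK
  · intro hn3 h2F Q hQ
    exact Cfsg.Agent.Lib.Helper44.LB.noNormal_OmegaGL h2F hn3 Q hQ

end Cfsg.Agent.S2686
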