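import Cfsg.Statements.S2697
import Cfsg.Agent.Lib.Helper45.PSLField.GraphField

-- import your own Cfsg.Agent.* helpers here

set_option autoImplicit false
open Cfsg

namespace Cfsg.Agent.S2697


open Cfsg.Agent.Lib.Helper45.PSLField Cfsg.Agent.Lib.Helper43 Matrix

theorem conj_pow_eq_one {X : Type*} [Group X] (α a b : X) {r : ℕ} (h : (a * b) ^ r = 1) :
    (α * a * α⁻¹ * (α * b * α⁻¹)) ^ r = 1 := by
  have h1 : α * a * α⁻¹ * (α * b * α⁻¹) = MulAut.conj α (a * b) := by
    rw [MulAut.conj_apply]; group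
  rw [h1, ← map_pow, h, map_one]

theorem orderOf_conj_eq {X : Type*} [Group X] (α a : X) : orderOf (α * a * α⁻¹) = orderOf a := by
  rw [← MulAut.conj_apply]
  exact MulEquiv.orderOf_eq (MulAut.conj α) a

/-- Let T = PSL_n(F) be simple over a finite field (n ≥ 2; |F| ≥ 4 when n = 2) and let x be a field automorphism or a graph-field automorphism of T of prime order r. Then an element y of the coset Inndiag(T)·x (that is, y = δ x with δ in the inner-diagonal group, the image of PGL_n(F)) has order r if and only if y is conjugate to x by an element of Inndiag(T). -/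
theorem result {F : Type*} [Field F] [Fintype F] {p f : ℕ} [Fact p.Prime] (hF : Fintype.card F = p ^ f) (hf : 1 ≤ f) {n : ℕ} (hn : 2 ≤ n) (hs : n = 2 → 4 ≤ Fintype.card F) (x δ : MulAut (Matrix.ProjectiveSpecialLinearGroup (Fin n) F)) (hx : Cfsg.IsFieldAutClassPSL x ∨ Cfsg.IsGraphFieldAutClassPSL x) {r : ℕ} (hr : r.Prime) (hxr : orderOf x = r) (hδ : δ ∈ Cfsg.inndiagPSL n F) :
    orderOf (δ * x) = r ↔ Cfsg.IsConjUnder (Cfsg.inndiagPSL n F) x (δ * x) := by

  have hstd : AllStdAut n F := allStdAut_finite hF hf hn hs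
  obtain ⟨d, rfl⟩ := (mem_inndiagPSL_iff δ).mp hδ
  constructor
  · intro hord
    have hpow0 : (pslDiag d * x) ^ r = 1 := by rw [← hord]; exact pow_orderOf_eq_one _
    rcases hx with ⟨α, σ, hσ, hα⟩ | ⟨hn3, α, φ, γ, σ, hσ, hφ, hγ, hα⟩
    · rw [isStdFieldAutPSL_iff] at hα
      obtain ⟨d', hd'⟩ := conj_pslDiag hstd α d
      apply isConjUnder_of_conj hstd α
      have hσr : orderOf (σ : RingAut F) = r := by
        rw [← orderOf_pslField hn, ← hα, orderOf_conj_eq, hxr]
      have hpow : ((pslDiag d' : MulAut (Matrix.ProjectiveSpecialLinearGroup (Fin n) F)) *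
          pslField σ) ^ r = 1 := by
        rw [← hd', ← hα]
        exact conj_pow_eq_one α _ _ hpow0
      obtain ⟨B, hB⟩ := field_coset_conj hn σ hr.pos hσr d' hpow
      rw [hα, hd']
      exact ⟨pslDiag B, (mem_inndiagPSL_iff _).mpr ⟨B, rfl⟩, hB⟩
    · rw [isStdFieldAutPSL_iff] at hφ
      rw [isInverseTransposeAutPSL_iff] at hγ
      have hα' : α * x * α⁻¹ = gfAut σ := by rw [hα, hφ, hγ]; rfl
      obtain ⟨d', hd'⟩ := conj_pslDiag hstd α d
      apply isConjUnder_of_conj hstd α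
      have hord2 : orderOf (gfAut σ : MulAut (Matrix.ProjectiveSpecialLinearGroup (Fin n) F)) = r := by
        rw [← hα', orderOf_conj_eq, hxr]
      obtain ⟨hr2, hσ2⟩ := gfAut_prime_order hn3 σ hr hord2
      have hσ1 : (σ : RingAut F) ≠ 1 := hσ
      have hpow : ((pslDiag d' : MulAut (Matrix.ProjectiveSpecialLinearGroup (Fin n) F)) *
          gfAut σ) ^ 2 = 1 := by
        rw [← hd', ← hα', ← hr2]
        exact conj_pow_eq_one α _ _ hpow0
      obtain ⟨B, hB⟩ := gf_coset_conj hn σ hσ1 hσ2 d' hpow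
      rw [hα', hd']
      exact ⟨pslDiag B, (mem_inndiagPSL_iff _).mpr ⟨B, rfl⟩, hB⟩
  · rintro ⟨h, -, hh⟩
    rw [hh, orderOf_conj_eq, hxr]

end Cfsg.Agent.S2697
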