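import Cfsg.Statements.S2698
import Cfsg.Agent.Lib.Helper45.PSLField.Split

-- import your own Cfsg.Agent.* helpers here

set_option autoImplicit false
open Cfsg

namespace Cfsg.Agent.S2698


open Cfsg.Agent.Lib.Helper45.PSLField Cfsg.Agent.Lib.Helper43 Matrix

theorem orderOf_conj_eq {X : Type*} [Group X] (α a : X) : orderOf (α * a * α⁻¹) = orderOf a := by
  rw [← MulAut.conj_apply]
  exact MulEquiv.orderOf_eq (MulAut.conj α) a

theorem card_range_unitsMap {F F₀ : Type*} [Field F] [Field F₀] (j : F₀ →+* F) :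
    Nat.card (Units.map (j : F₀ →* F)).range = Nat.card F₀ - 1 := by
  have hinj : Function.Injective (Units.map (j : F₀ →* F)) := by
    intro a b hab
    apply Units.ext
    apply j.injective
    exact congrArg Units.val hab
  rw [← Nat.card_units]
  exact Nat.card_congr (MonoidHom.ofInjective hinj).symm.toEquiv

/-- Let T = PSL_n(F) be simple over the field F with p^f elements (n ≥ 2; p^f ≥ 4 when n = 2), G = Inndiag(T) the image of PGL_n(F) in Aut(T), and x a field automorphism of T of prime order r. Then r divides f; the centralizer C_G(x) is isomorphic to PGL_n(F₀) for the subfield size |F₀| = p^(f/r); and the G-class of x is the union of exactly gcd(n, (p^f − 1)/(p^(f/r) − 1)) classes under conjugation by T (the inner automorphism group). -/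
theorem result {F : Type*} [Field F] [Fintype F] {p f : ℕ} [Fact p.Prime] (hF : Fintype.card F = p ^ f) (hf : 1 ≤ f) {n : ℕ} (hn : 2 ≤ n) (hs : n = 2 → 4 ≤ Fintype.card F) (x : MulAut (Matrix.ProjectiveSpecialLinearGroup (Fin n) F)) (hx : Cfsg.IsFieldAutClassPSL x) {r : ℕ} (hr : r.Prime) (hxr : orderOf x = r) (F₀ : Type*) [Field F₀] [Fintype F₀] (hF₀ : Fintype.card F₀ = p ^ (f / r)) :
    r ∣ f ∧ Nonempty (↥(Cfsg.inndiagPSL n F ⊓ Subgroup.centralizer {x}) ≃* Matrix.ProjGenLinGroup (Fin n) F₀) ∧ Cfsg.splitClassCount (Cfsg.inndiagPSL n F) (Cfsg.Inn (Matrix.ProjectiveSpecialLinearGroup (Fin n) F)) x = Nat.gcd n ((p ^ f - 1) / (p ^ (f / r) - 1)) := by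

  have hstd : AllStdAut n F := allStdAut_finite hF hf hn hs
  obtain ⟨α, σ, hσ1, hα⟩ := hx
  rw [isStdFieldAutPSL_iff] at hα
  have hσr : orderOf (σ : RingAut F) = r := by
    rw [← orderOf_pslField hn, ← hα, orderOf_conj_eq, hxr]
  obtain ⟨hrf, -⟩ := card_fixF hF σ hr.pos hσr
  obtain ⟨j, hj⟩ := exists_embedding_fixF hF σ hr.pos hσr F₀ hF₀
  refine ⟨hrf, ?_, ?_⟩
  · obtain ⟨e1⟩ := nonempty_centralizer_conj_equiv hstd α x
    rw [hα] at e1
    obtain ⟨e2⟩ := nonempty_centralizer_equiv hn σ hr.pos hσr j hj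
    exact ⟨e1.trans e2⟩
  · have hH : ∀ h, h ∈ Cfsg.inndiagPSL n F ↔ α * h * α⁻¹ ∈ Cfsg.inndiagPSL n F := by
      intro h
      constructor
      · exact conj_mem_inndiag hstd α
      · intro hh
        have := conj_mem_inndiag hstd α⁻¹ hh
        have h2 : α⁻¹ * (α * h * α⁻¹) * α⁻¹⁻¹ = h := by group
        rwa [h2] at this
    have hK : ∀ k, k ∈ Cfsg.Inn (Matrix.ProjectiveSpecialLinearGroup (Fin n) F) ↔
        α * k * α⁻¹ ∈ Cfsg.Inn (Matrix.ProjectiveSpecialLinearGroup (Fin n) F) := by
      have hnorm : (Cfsg.Inn (Matrix.ProjectiveSpecialLinearGroup (Fin n) F)).Normal :=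
        Cfsg.innNormal _
      intro k
      constructor
      · intro hk
        exact hnorm.conj_mem k hk α
      · intro hk
        have := hnorm.conj_mem _ hk α⁻¹
        have h2 : α⁻¹ * (α * k * α⁻¹) * α⁻¹⁻¹ = k := by group
        rwa [h2] at this
    rw [splitClassCount_conj _ _ α x hH hK, hα, splitClassCount_pslField hn σ hr.pos hσr j hj,
      index_sup_range_pow, card_range_unitsMap, Nat.card_units, Nat.card_eq_fintype_card,
      Nat.card_eq_fintype_card, hF, hF₀]

end Cfsg.Agent.S2698
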