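import Cfsg.Statements.S2699
import Cfsg.Agent.Lib.Helper44.GraphInv6
-- import your own Cfsg.Agent.* helpers here

set_option autoImplicit false
open Cfsg

namespace Cfsg.Agent.S2699

/-- Let T = PSL_n(F) over the field with p^f elements with n ≥ 3 odd, n = 2m + 1, and G = Inndiag(T) the image of PGL_n(F). Every involutory graph automorphism γ of T (an inner-diagonal automorphism followed by inverse-transpose, of order 2) has centralizer C_G(γ) isomorphic to the projective conformal orthogonal group of the form x₀² + Σ xᵢ yᵢ in dimension n (for q even this group is isomorphic to Sp_{n−1}(q)), and any two involutory graph automorphisms are G-conjugate. -/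
theorem result {F : Type*} [Field F] [Fintype F] {p f : ℕ} [Fact p.Prime] (hF : Fintype.card F = p ^ f) (hf : 1 ≤ f) {n : ℕ} (hn : 3 ≤ n) {m : ℕ} (hnm : n = 2 * m + 1) (γ γ' : MulAut (Matrix.ProjectiveSpecialLinearGroup (Fin n) F)) (hγ : Cfsg.IsGraphAutClassPSL γ) (hγ2 : orderOf γ = 2) (hγ' : Cfsg.IsGraphAutClassPSL γ') (hγ'2 : orderOf γ' = 2) :
    Nonempty (↥(Cfsg.inndiagPSL n F ⊓ Subgroup.centralizer {γ}) ≃* Cfsg.PGO F (Cfsg.quadFormOdd m F)) ∧ Cfsg.IsConjUnder (Cfsg.inndiagPSL n F) γ γ' := by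
  classical
  have hn2 : 2 ≤ n := by omega
  have hodd : Odd n := ⟨m, hnm⟩
  have hchar : CharP F p := Cfsg.Agent.Lib.Helper43.charP_of_card' hf hF
  obtain ⟨_, g, rfl⟩ := Cfsg.Agent.Lib.Helper44.GraphInv.exists_gr_of_graph γ hγ
  obtain ⟨_, g', rfl⟩ := Cfsg.Agent.Lib.Helper44.GraphInv.exists_gr_of_graph γ' hγ'
  have hsq : Cfsg.Agent.Lib.Helper44.GraphInv.gr g * Cfsg.Agent.Lib.Helper44.GraphInv.gr g = 1 := by
    rw [← pow_two, ← hγ2]
    exact pow_orderOf_eq_one _
  have hsq' : Cfsg.Agent.Lib.Helper44.GraphInv.gr g' * Cfsg.Agent.Lib.Helper44.GraphInv.gr g' = 1 := by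
    rw [← pow_two, ← hγ'2]
    exact pow_orderOf_eq_one _
  have hT := Cfsg.Agent.Lib.Helper44.GraphInv.transpose_eq_of_gr_mul_self hn2 g hsq
  have hT' := Cfsg.Agent.Lib.Helper44.GraphInv.transpose_eq_of_gr_mul_self hn2 g' hsq'
  -- it suffices to find a representative conjugate to every involutory graph automorphism
  suffices hmain : ∃ γ₀ : MulAut (Matrix.ProjectiveSpecialLinearGroup (Fin n) F),
      Nonempty (↥(Cfsg.inndiagPSL n F ⊓ Subgroup.centralizer {γ₀}) ≃*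
        Cfsg.PGO F (Cfsg.quadFormOdd m F)) ∧
      Cfsg.IsConjUnder (Cfsg.inndiagPSL n F) γ₀ (Cfsg.Agent.Lib.Helper44.GraphInv.gr g) ∧
      Cfsg.IsConjUnder (Cfsg.inndiagPSL n F) γ₀ (Cfsg.Agent.Lib.Helper44.GraphInv.gr g') by
    obtain ⟨γ₀, ⟨e₀⟩, hc, hc'⟩ := hmain
    refine ⟨?_, Cfsg.Agent.Lib.Helper43.isConjUnder_trans
      (Cfsg.Agent.Lib.Helper43.isConjUnder_symm hc) hc'⟩
    obtain ⟨a, ha, hx⟩ := hc
    exact ⟨(Cfsg.Agent.Lib.Helper43.centralizerInfEquivOfConj a ha hx).symm.trans e₀⟩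
  by_cases h2 : (2 : F) = 0
  · -- characteristic two
    have : CharP F 2 := by
      have h3 : ((2 : ℕ) : F) = 0 := by exact_mod_cast h2
      have h4 : p ∣ 2 := (CharP.cast_eq_zero_iff F p 2).mp h3
      have h5 : p = 2 := (Nat.prime_dvd_prime_iff_eq Fact.out Nat.prime_two).mp h4
      rw [← h5]
      exact hchar
    have hneg : ∀ M : Matrix (Fin n) (Fin n) F, -M = M := by
      intro M
      ext i j
      rw [Matrix.neg_apply]
      exact CharTwo.neg_eq _
    have hs : (g : Matrix (Fin n) (Fin n) F).transpose = (g : Matrix (Fin n) (Fin n) F) := by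
      rcases hT with h | h
      · exact h
      · rw [h, hneg]
    have hs' : (g' : Matrix (Fin n) (Fin n) F).transpose = (g' : Matrix (Fin n) (Fin n) F) := by
      rcases hT' with h | h
      · exact h
      · rw [h, hneg]
    refine ⟨Cfsg.Agent.Lib.Helper44.GraphInv.gr 1, ?_,
      Cfsg.Agent.Lib.Helper43.isConjUnder_symm
        (Cfsg.Agent.Lib.Helper44.GraphInv.isConjUnder_one_of_char_two hn2 hodd g hs),
      Cfsg.Agent.Lib.Helper43.isConjUnder_symm
        (Cfsg.Agent.Lib.Helper44.GraphInv.isConjUnder_one_of_char_two hn2 hodd g' hs')⟩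
    obtain ⟨e₁⟩ := Cfsg.Agent.Lib.Helper44.GraphInv.centralizer_gr_equiv hn2 (1 : GL (Fin n) F)
    rw [Units.val_one] at e₁
    obtain ⟨e₂⟩ := Cfsg.Agent.Lib.Helper44.GraphInv.projQuot_dot_equiv (F := F) hnm
    exact ⟨e₁.trans e₂⟩
  · -- odd characteristic
    have hs : (g : Matrix (Fin n) (Fin n) F).transpose = (g : Matrix (Fin n) (Fin n) F) := by
      rcases hT with h | h
      · exact h
      · exact (Cfsg.Agent.Lib.Helper44.GraphInv.not_alt_of_odd hodd h2 g h).elim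
    have hs' : (g' : Matrix (Fin n) (Fin n) F).transpose = (g' : Matrix (Fin n) (Fin n) F) := by
      rcases hT' with h | h
      · exact h
      · exact (Cfsg.Agent.Lib.Helper44.GraphInv.not_alt_of_odd hodd h2 g' h).elim
    have e : Unit ⊕ (Fin m ⊕ Fin m) ≃ Fin n :=
      Fintype.equivFinOfCardEq (by
        simp only [Fintype.card_sum, Fintype.card_fin, Fintype.card_unit]
        omega)
    set Q₀ : QuadraticForm F (Fin n → F) :=
      Cfsg.Agent.Lib.Helper44.GraphInv.reQ e (Cfsg.Agent.Lib.Helper44.oddQF m F) with hQ₀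
    have h₀ : (QuadraticMap.polarBilin Q₀).Nondegenerate :=
      Cfsg.Agent.Lib.Helper44.GraphInv.reQ_nondeg e _ (Cfsg.Agent.Lib.Helper44.oddQF_nondeg (m := m) (F := F) h2)
    refine ⟨Cfsg.Agent.Lib.Helper44.GraphInv.gr (Cfsg.Agent.Lib.Helper44.GraphInv.glGram Q₀ h₀), ?_,
      Cfsg.Agent.Lib.Helper44.GraphInv.isConjUnder_glGram_of_odd hn2 hodd h2 Q₀ h₀ g hs,
      Cfsg.Agent.Lib.Helper44.GraphInv.isConjUnder_glGram_of_odd hn2 hodd h2 Q₀ h₀ g' hs'⟩
    obtain ⟨e₁⟩ := Cfsg.Agent.Lib.Helper44.GraphInv.centralizer_glGram_equiv hn2 h2 Q₀ h₀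
    obtain ⟨e₂⟩ := Cfsg.Agent.Lib.Helper44.GraphInv.pgo_reQ_equiv e
      (Cfsg.Agent.Lib.Helper44.oddQF m F)
    rw [Cfsg.Agent.Lib.Helper44.oddQF_coe] at e₂
    exact ⟨e₁.trans e₂⟩

end Cfsg.Agent.S2699
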