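import Cfsg.Statements.S2700
import Cfsg.Agent.Lib.Helper44.GraphInv3
-- import your own Cfsg.Agent.* helpers here

set_option autoImplicit false
open Cfsg

namespace Cfsg.Agent.S2700

open Cfsg.Agent.Lib.Helper43 Cfsg.Agent.Lib.Helper44 Cfsg.Agent.Lib.Helper44.GraphInv in
/-- the minus form `Σ xᵢyᵢ + z₁² + z₁z₂ + ζ z₂²` is nondegenerate in odd characteristic -/
theorem minus_nondeg {F : Type*} [Field F] (h2 : (2 : F) ≠ 0) (k : ℕ) (ζ : F)
    (hζ : ∀ t : F, t ^ 2 + t + ζ ≠ 0) :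
    (QuadraticMap.polarBilin (minusQF k F 1 ζ)).Nondegenerate := by
  rw [nondeg_iff_gramStd_det_ne_zero, gramStd_minusQF_det]
  have h1 := (nondeg_iff_gramStd_det_ne_zero (hypQF k F)).mp hypQF_nondeg
  apply mul_ne_zero h1
  intro h3
  apply hζ (-(2⁻¹ : F))
  have h4 : (2 : F) * 2⁻¹ = 1 := mul_inv_cancel₀ h2
  have h5 : (4 : F) * ζ = 1 := by linear_combination h3
  have h6 : ζ = 2⁻¹ * 2⁻¹ := by
    have : (4 : F) * (2⁻¹ * 2⁻¹) = 1 := by linear_combination (2 * 2⁻¹ + 1) * h4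
    have h4ne : (4 : F) ≠ 0 := by
      have : (4 : F) = 2 * 2 := by norm_num
      rw [this]
      exact mul_ne_zero h2 h2
    exact mul_left_cancel₀ h4ne (h5.trans this.symm)
  rw [h6]
  linear_combination (2⁻¹ : F) * h4


/-- Let T = PSL_n(F) over a finite field of odd order with n = 2m ≥ 4 even, and G = Inndiag(T) the image of PGL_n(F). The involutory graph automorphisms of T fall into exactly three G-classes, with representatives γ₁, γ₂, γ₃ whose centralizers in G are isomorphic respectively to the projective conformal symplectic group PGSp_n(F), the projective conformal orthogonal group of the plus-type form Σ xᵢ yᵢ, and that of a minus-type form Σ xᵢ yᵢ + z₁² + a z₁ z₂ + b z₂² (anisotropic binary part) in dimension n. -/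
theorem result {F : Type*} [Field F] [Fintype F] (hodd : Odd (Fintype.card F)) {n m : ℕ} (hm : 2 ≤ m) (hnm : n = 2 * m) :
    ∃ (γ₁ γ₂ γ₃ : MulAut (Matrix.ProjectiveSpecialLinearGroup (Fin n) F)) (a b : F), (∀ z₁ z₂ : F, z₁ ^ 2 + a * z₁ * z₂ + b * z₂ ^ 2 = 0 → z₁ = 0 ∧ z₂ = 0) ∧ Cfsg.IsGraphAutClassPSL γ₁ ∧ orderOf γ₁ = 2 ∧ Cfsg.IsGraphAutClassPSL γ₂ ∧ orderOf γ₂ = 2 ∧ Cfsg.IsGraphAutClassPSL γ₃ ∧ orderOf γ₃ = 2 ∧ ¬ Cfsg.IsConjUnder (Cfsg.inndiagPSL n F) γ₁ γ₂ ∧ ¬ Cfsg.IsConjUnder (Cfsg.inndiagPSL n F) γ₁ γ₃ ∧ ¬ Cfsg.IsConjUnder (Cfsg.inndiagPSL n F) γ₂ γ₃ ∧ (∀ γ : MulAut (Matrix.ProjectiveSpecialLinearGroup (Fin n) F), Cfsg.IsGraphAutClassPSL γ → orderOf γ = 2 → Cfsg.IsConjUnder (Cfsg.inndiagPSL n F) γ₁ γ ∨ Cfsg.IsConjUnder (Cfsg.inndiagPSL n F) γ₂ γ ∨ Cfsg.IsConjUnder (Cfsg.inndiagPSL n F) γ₃ γ) ∧ Nonempty (↥(Cfsg.inndiagPSL n F ⊓ Subgroup.centralizer {γ₁}) ≃* Cfsg.PGSp m F)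 ∧ Nonempty (↥(Cfsg.inndiagPSL n F ⊓ Subgroup.centralizer {γ₂}) ≃* Cfsg.PGO F (Cfsg.quadFormPlus m F)) ∧ Nonempty (↥(Cfsg.inndiagPSL n F ⊓ Subgroup.centralizer {γ₃}) ≃* Cfsg.PGO F (Cfsg.quadFormMinus (m - 1) F a b)) := by
  classical
  have h2 : (2 : F) ≠ 0 := Cfsg.Agent.Lib.Helper43.two_ne_zero_of_card_odd (Nat.odd_iff.mp hodd)
  have hn2 : 2 ≤ n := by omega
  have hn3 : 3 ≤ n := by omega
  have he : Even n := ⟨m, by omega⟩
  obtain ⟨ζ, hζ⟩ := Cfsg.Agent.Lib.Helper44.GraphInv.exists_no_root (F := F)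
  have e : Fin m ⊕ Fin m ≃ Fin n := finSumFinEquiv.trans (finCongr (by omega))
  have e' : (Fin (m - 1) ⊕ Fin (m - 1)) ⊕ Fin 2 ≃ Fin n :=
    (Equiv.sumCongr finSumFinEquiv (Equiv.refl _)).trans
      (finSumFinEquiv.trans (finCongr (by omega)))
  set Qp : QuadraticForm F (Fin n → F) :=
    Cfsg.Agent.Lib.Helper44.GraphInv.reQ e (Cfsg.Agent.Lib.Helper44.hypQF m F) with hQp
  set Qm : QuadraticForm F (Fin n → F) :=
    Cfsg.Agent.Lib.Helper44.GraphInv.reQ e' (Cfsg.Agent.Lib.Helper44.minusQF (m - 1) F 1 ζ) with hQm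
  have hp : (QuadraticMap.polarBilin Qp).Nondegenerate :=
    Cfsg.Agent.Lib.Helper44.GraphInv.reQ_nondeg e _ Cfsg.Agent.Lib.Helper44.hypQF_nondeg
  have hmn : (QuadraticMap.polarBilin Qm).Nondegenerate :=
    Cfsg.Agent.Lib.Helper44.GraphInv.reQ_nondeg e' _ (minus_nondeg h2 (m - 1) ζ hζ)
  have hns : ¬ IsSquare ((Cfsg.Agent.Lib.Helper44.gramStd ⇑Qp).det *
      (Cfsg.Agent.Lib.Helper44.gramStd ⇑Qm).det) := by
    intro hs
    obtain ⟨L, hL⟩ := (Cfsg.Agent.S2623.result h2 Qp Qm hp hmn).mpr hs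
    refine Cfsg.Agent.S2617.result (by omega : 1 ≤ m) ζ hζ
      ((LinearEquiv.funCongrLeft F F e).symm.trans
        (L.trans (LinearEquiv.funCongrLeft F F e'))) ?_
    intro v
    have h1 := hL ((LinearEquiv.funCongrLeft F F e).symm v)
    rw [hQp, hQm, Cfsg.Agent.Lib.Helper44.GraphInv.reQ_apply,
      Cfsg.Agent.Lib.Helper44.GraphInv.reQ_apply] at h1
    have h3 : ((LinearEquiv.funCongrLeft F F e).symm v) ∘ e = v :=
      (LinearEquiv.funCongrLeft F F e).apply_symm_apply v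
    rw [h3, Cfsg.Agent.Lib.Helper44.minusQF_coe, Cfsg.Agent.Lib.Helper44.hypQF_apply] at h1
    exact h1
  have hJt := Cfsg.Agent.Lib.Helper44.GraphInv.altGL_transpose (F := F) e
  have hPt : ((Cfsg.Agent.Lib.Helper44.GraphInv.glGram Qp hp : GL (Fin n) F) :
      Matrix (Fin n) (Fin n) F).transpose =
      (Cfsg.Agent.Lib.Helper44.GraphInv.glGram Qp hp : GL (Fin n) F) :=
    Cfsg.Agent.Lib.Helper44.GraphInv.gramStd_transpose Qp
  have hMt : ((Cfsg.Agent.Lib.Helper44.GraphInv.glGram Qm hmn : GL (Fin n) F) :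
      Matrix (Fin n) (Fin n) F).transpose =
      (Cfsg.Agent.Lib.Helper44.GraphInv.glGram Qm hmn : GL (Fin n) F) :=
    Cfsg.Agent.Lib.Helper44.GraphInv.gramStd_transpose Qm
  refine ⟨Cfsg.Agent.Lib.Helper44.GraphInv.gr (Cfsg.Agent.Lib.Helper44.GraphInv.altGL e),
    Cfsg.Agent.Lib.Helper44.GraphInv.gr (Cfsg.Agent.Lib.Helper44.GraphInv.glGram Qp hp),
    Cfsg.Agent.Lib.Helper44.GraphInv.gr (Cfsg.Agent.Lib.Helper44.GraphInv.glGram Qm hmn),
    1, ζ, ?_, ?_, ?_, ?_, ?_, ?_, ?_, ?_, ?_, ?_, ?_, ?_, ?_, ?_⟩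
  · intro z₁ z₂ hz
    by_cases hz2 : z₂ = 0
    · subst hz2
      refine ⟨?_, rfl⟩
      have : z₁ ^ 2 = 0 := by linear_combination hz
      exact pow_eq_zero_iff (two_ne_zero) |>.mp this
    · exfalso
      apply hζ (z₁ / z₂)
      field_simp
      linear_combination hz
  · exact Cfsg.Agent.Lib.Helper44.GraphInv.isGraph_gr hn3 _
  · exact Cfsg.Agent.Lib.Helper44.GraphInv.orderOf_gr_eq_two hn3 _
      (Cfsg.Agent.Lib.Helper44.GraphInv.gr_mul_self_eq_one_of_alt hn2 _ hJt)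
  · exact Cfsg.Agent.Lib.Helper44.GraphInv.isGraph_gr hn3 _
  · exact Cfsg.Agent.Lib.Helper44.GraphInv.orderOf_gr_eq_two hn3 _
      (Cfsg.Agent.Lib.Helper44.GraphInv.gr_mul_self_eq_one_of_symm hn2 _ hPt)
  · exact Cfsg.Agent.Lib.Helper44.GraphInv.isGraph_gr hn3 _
  · exact Cfsg.Agent.Lib.Helper44.GraphInv.orderOf_gr_eq_two hn3 _
      (Cfsg.Agent.Lib.Helper44.GraphInv.gr_mul_self_eq_one_of_symm hn2 _ hMt)
  · exact Cfsg.Agent.Lib.Helper44.GraphInv.not_isConjUnder_alt_symm hn2 h2 _ _ hJt hPt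
  · exact Cfsg.Agent.Lib.Helper44.GraphInv.not_isConjUnder_alt_symm hn2 h2 _ _ hJt hMt
  · exact Cfsg.Agent.Lib.Helper44.GraphInv.not_isConjUnder_of_disc hn2 he _ _ hns
  · intro γ hγ hγ2
    obtain ⟨_, g, rfl⟩ := Cfsg.Agent.Lib.Helper44.GraphInv.exists_gr_of_graph γ hγ
    have hsq : Cfsg.Agent.Lib.Helper44.GraphInv.gr g * Cfsg.Agent.Lib.Helper44.GraphInv.gr g = 1 := by
      rw [← pow_two, ← hγ2]
      exact pow_orderOf_eq_one _
    rcases Cfsg.Agent.Lib.Helper44.GraphInv.transpose_eq_of_gr_mul_self hn2 g hsq with hs | ha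
    · right
      have hQ := Cfsg.Agent.Lib.Helper44.GraphInv.symQ_nondeg h2 g hs
      have hgg := Cfsg.Agent.Lib.Helper44.GraphInv.glGram_symQ h2 g hs
      rcases Cfsg.Agent.Lib.Helper44.GraphInv.two_classes h2 Qp Qm _ hp hmn hQ hns with
        ⟨L, hL⟩ | ⟨L, hL⟩
      · left
        have := Cfsg.Agent.Lib.Helper44.GraphInv.isConjUnder_glGram_of_isometry hn2 _ Qp hQ hp L hL
        rw [hgg] at this
        exact this
      · right
        have := Cfsg.Agent.Lib.Helper44.GraphInv.isConjUnder_glGram_of_isometry hn2 _ Qm hQ hmn L hL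
        rw [hgg] at this
        exact this
    · left
      exact Cfsg.Agent.Lib.Helper43.isConjUnder_symm
        (Cfsg.Agent.Lib.Helper44.GraphInv.isConjUnder_altGL hn2 hnm h2 e g ha)
  · exact Cfsg.Agent.Lib.Helper44.GraphInv.centralizer_altGL_equiv hn2 e
  · obtain ⟨e₁⟩ := Cfsg.Agent.Lib.Helper44.GraphInv.centralizer_glGram_equiv hn2 h2 Qp hp
    obtain ⟨e₂⟩ := Cfsg.Agent.Lib.Helper44.GraphInv.pgo_reQ_equiv e (Cfsg.Agent.Lib.Helper44.hypQF m F)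
    exact ⟨e₁.trans e₂⟩
  · obtain ⟨e₁⟩ := Cfsg.Agent.Lib.Helper44.GraphInv.centralizer_glGram_equiv hn2 h2 Qm hmn
    obtain ⟨e₂⟩ := Cfsg.Agent.Lib.Helper44.GraphInv.pgo_reQ_equiv e'
      (Cfsg.Agent.Lib.Helper44.minusQF (m - 1) F 1 ζ)
    rw [Cfsg.Agent.Lib.Helper44.minusQF_coe] at e₂
    exact ⟨e₁.trans e₂⟩

end Cfsg.Agent.S2700
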