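import Cfsg.Statements.S2701
import Mathlib
import Cfsg.Agent.Lib.Helper45.PSLGraph.CharTwo
import Cfsg.Agent.Lib.Helper45.SpInv.Transv

-- import your own Cfsg.Agent.* helpers here

set_option autoImplicit false
open Cfsg

namespace Cfsg.Agent.S2701


open Cfsg.Agent.Lib.Helper45.PSLGraph Cfsg.Agent.Lib.Helper45.SpInv Matrix

/-- Let T = PSL_n(F) over a finite field of characteristic 2 with n = 2m ≥ 4 even, and G = Inndiag(T) the image of PGL_n(F). The involutory graph automorphisms of T fall into exactly two G-classes, with representatives γ₁ and γ₃ whose centralizers in G are isomorphic respectively to the symplectic group Sp_n(F) and to the centralizer in Sp_n(F) of a symplectic transvection. -/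
theorem result {F : Type*} [Field F] [Fintype F] [CharP F 2] {n m : ℕ} (hm : 2 ≤ m) (hnm : n = 2 * m) :
    ∃ (γ₁ γ₃ : MulAut (Matrix.ProjectiveSpecialLinearGroup (Fin n) F)) (t : ↥(Matrix.symplecticGroup (Fin m) F)), Cfsg.IsTransvection (t : Matrix (Fin m ⊕ Fin m) (Fin m ⊕ Fin m) F) ∧ Cfsg.IsGraphAutClassPSL γ₁ ∧ orderOf γ₁ = 2 ∧ Cfsg.IsGraphAutClassPSL γ₃ ∧ orderOf γ₃ = 2 ∧ ¬ Cfsg.IsConjUnder (Cfsg.inndiagPSL n F) γ₁ γ₃ ∧ (∀ γ : MulAut (Matrix.ProjectiveSpecialLinearGroup (Fin n) F), Cfsg.IsGraphAutClassPSL γ → orderOf γ = 2 → Cfsg.IsConjUnder (Cfsg.inndiagPSL n F) γ₁ γ ∨ Cfsg.IsConjUnder (Cfsg.inndiagPSL n F) γ₃ γ) ∧ Nonempty (↥(Cfsg.inndiagPSL n F ⊓ Subgroup.centralizer {γ₁}) ≃* ↥(Matrix.symplecticGroup (Fin m) F)) ∧ Nonempty (↥(Cfsg.inndiagPSL n F ⊓ Subgroup.centralizer {γ₃}) ≃* ↥(Subgroup.centralizer ({t} : Set ↥(Matrix.symplecticGroup (Fin m) F)))) := by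

  classical
  subst hnm
  have hn : 3 ≤ 2 * m := by omega
  let e : Fin m ⊕ Fin m ≃ Fin (2 * m) := finSumFinEquiv.trans (finCongr (two_mul m).symm)
  let i0 : Fin m := ⟨0, by omega⟩
  let c₀ : Fin m ⊕ Fin m := Sum.inl i0
  refine ⟨gaut (gOf e (Matrix.J (Fin m) F) (Matrix.J (Fin m) F) J_mul_J J_mul_J),
    gaut (gOf e (formC m F c₀) _ (formC_mul_inv c₀) (mul_eq_one_comm.mp (formC_mul_inv c₀))),
    tvStd i0, isTransvection_tvStd i0, ?_, ?_, ?_, ?_, not_conj_J_formC e hn c₀,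
    conj_J_or_formC e hn c₀, ?_, ?_⟩
  · exact (isGraphAutClassPSL_iff _).mpr ⟨hn, _, rfl⟩
  · apply orderOf_gaut_of_symm hn
    rw [gOf_coe, ← up_transpose, J_transpose']
  · exact (isGraphAutClassPSL_iff _).mpr ⟨hn, _, rfl⟩
  · apply orderOf_gaut_of_symm hn
    rw [gOf_coe, ← up_transpose, formC_transpose]
  · obtain ⟨φ⟩ := nonempty_centralizer_equiv e hn (Matrix.J (Fin m) F) (Matrix.J (Fin m) F)
      J_mul_J J_mul_J ⊤ (fun A => by
        rw [← SymplecticGroup.mem_iff]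
        exact ⟨fun h => ⟨h, Subgroup.mem_top _⟩, fun ⟨h, _⟩ => h⟩)
    exact ⟨φ.trans Subgroup.topEquiv⟩
  · exact nonempty_centralizer_equiv e hn (formC m F c₀) _ (formC_mul_inv c₀)
      (mul_eq_one_comm.mp (formC_mul_inv c₀)) (Subgroup.centralizer {tvStd i0}) (fun A => by
        rw [isomC_iff]
        constructor
        · rintro ⟨h1, h2⟩
          exact ⟨h1, (mem_centralizer_tvStd_iff i0 ⟨A, h1⟩).mpr h2⟩
        · rintro ⟨h1, h2⟩
          exact ⟨h1, (mem_centralizer_tvStd_iff i0 ⟨A, h1⟩).mp h2⟩)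

end Cfsg.Agent.S2701
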