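import Cfsg.Statements.S2702
import Cfsg.Agent.Lib.Helper44.GraphInv10
-- import your own Cfsg.Agent.* helpers here

set_option autoImplicit false
open Cfsg

namespace Cfsg.Agent.S2702

/-- Let T = PSL_n(F) over the field with q = p^f elements, n ≥ 3, G = Inndiag(T) the image of PGL_n(F), and γ an involutory graph automorphism of T. The G-class of γ is the union of exactly c T-classes, where: if n is even and q is odd, c = gcd(n/2, q − 1) when C_G(γ) is isomorphic to the projective conformal symplectic group PGSp_n(F) (symplectic type) and c = gcd(n, q − 1)/2 otherwise; and c = gcd(n, q − 1) when n is odd or q is even. -/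
theorem result {F : Type*} [Field F] [Fintype F] {p f : ℕ} [Fact p.Prime] (hF : Fintype.card F = p ^ f) (hf : 1 ≤ f) {n : ℕ} (hn : 3 ≤ n) (γ : MulAut (Matrix.ProjectiveSpecialLinearGroup (Fin n) F)) (hγ : Cfsg.IsGraphAutClassPSL γ) (hγ2 : orderOf γ = 2) :
    ((Even n ∧ Odd p ∧ Nonempty (↥(Cfsg.inndiagPSL n F ⊓ Subgroup.centralizer {γ}) ≃* Cfsg.PGSp (n / 2) F)) → Cfsg.splitClassCount (Cfsg.inndiagPSL n F) (Cfsg.Inn (Matrix.ProjectiveSpecialLinearGroup (Fin n) F)) γ = Nat.gcd (n / 2) (p ^ f - 1)) ∧ ((Even n ∧ Odd p ∧ ¬ Nonempty (↥(Cfsg.inndiagPSL n F ⊓ Subgroup.centralizer {γ}) ≃* Cfsg.PGSp (n / 2) F)) → Cfsg.splitClassCount (Cfsg.inndiagPSL n F) (Cfsg.Inn (Matrix.ProjectiveSpecialLinearGroup (Fin n) F)) γ = Nat.gcd n (p ^ f - 1) / 2) ∧ (¬ (Even n ∧ Odd p) → Cfsg.splitClassCount (Cfsg.inndiagPSL n F) (Cfsg.Inn (Matrix.ProjectiveSpecialLinearGroup (Fin n) F)) γ = Nat.gcd n (p ^ f - 1)) := by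
  classical
  have hn2 : 2 ≤ n := by omega
  have hn1 : 1 ≤ n := by omega
  have hchar : CharP F p := Cfsg.Agent.Lib.Helper43.charP_of_card' hf hF
  obtain ⟨_, g, rfl⟩ := Cfsg.Agent.Lib.Helper44.GraphInv.exists_gr_of_graph γ hγ
  have hsq : Cfsg.Agent.Lib.Helper44.GraphInv.gr g * Cfsg.Agent.Lib.Helper44.GraphInv.gr g = 1 := by
    rw [← pow_two, ← hγ2]
    exact pow_orderOf_eq_one _
  have hT := Cfsg.Agent.Lib.Helper44.GraphInv.transpose_eq_of_gr_mul_self hn2 g hsq
  rw [← hF]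
  -- odd `p` means `2 ≠ 0`
  have h2_of_odd : Odd p → (2 : F) ≠ 0 := by
    intro hp h2
    have h3 : ((2 : ℕ) : F) = 0 := by exact_mod_cast h2
    have h4 : p ∣ 2 := (CharP.cast_eq_zero_iff F p 2).mp h3
    have h5 : p = 2 := (Nat.prime_dvd_prime_iff_eq Fact.out Nat.prime_two).mp h4
    rw [h5] at hp
    exact absurd hp (by decide)
  -- the count when all determinants of similitudes are `n`-th powers
  have hcount : (∀ d ∈ Cfsg.Agent.Lib.Helper44.GraphInv.detCent
        (Cfsg.Agent.Lib.Helper44.GraphInv.gr g), ∃ s : Fˣ, d = s ^ n) →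
      Cfsg.splitClassCount (Cfsg.inndiagPSL n F)
        (Cfsg.Inn (Matrix.ProjectiveSpecialLinearGroup (Fin n) F))
        (Cfsg.Agent.Lib.Helper44.GraphInv.gr g) = Nat.gcd n (Fintype.card F - 1) := by
    intro h
    rw [Cfsg.Agent.Lib.Helper44.GraphInv.splitClassCount_eq_index hn1,
      Cfsg.Agent.Lib.Helper44.GraphInv.detCent_gr_eq_range g h,
      Cfsg.Agent.Lib.Helper44.GraphInv.index_range_pow]
  refine ⟨?_, ?_, ?_⟩
  · rintro ⟨he, hp, ⟨eC⟩⟩
    have h2 := h2_of_odd hp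
    obtain ⟨m, hm⟩ := he
    have hnm : n = 2 * m := by omega
    have hm2 : n / 2 = m := by omega
    rw [hm2] at eC ⊢
    rcases hT with hs | ha
    · exact absurd ⟨eC⟩ (Cfsg.Agent.Lib.Helper44.GraphInv.not_centralizer_equiv_PGSp_of_symm h2
        (by omega) hnm g hs)
    · have e : Fin m ⊕ Fin m ≃ Fin n := finSumFinEquiv.trans (finCongr (by omega))
      rw [Cfsg.Agent.Lib.Helper43.splitClassCount_congr
        (Cfsg.Agent.Lib.Helper44.GraphInv.isConjUnder_altGL hn2 hnm h2 e g ha),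
        Cfsg.Agent.Lib.Helper44.GraphInv.splitClassCount_eq_index hn1,
        Cfsg.Agent.Lib.Helper44.GraphInv.detCent_altGL hn2 e,
        Cfsg.Agent.Lib.Helper44.GraphInv.index_range_pow]
  · rintro ⟨he, hp, hne⟩
    have h2 := h2_of_odd hp
    rcases hT with hs | ha
    · rw [Cfsg.Agent.Lib.Helper44.GraphInv.splitClassCount_eq_index hn1,
        Cfsg.Agent.Lib.Helper44.GraphInv.detCent_gr_eq_comap hn2 h2 he g hs,
        Cfsg.Agent.Lib.Helper44.GraphInv.index_comap_sq h2 he]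
    · exfalso
      apply hne
      obtain ⟨m, hm⟩ := he
      have hnm : n = 2 * m := by omega
      have hm2 : n / 2 = m := by omega
      rw [hm2]
      have e : Fin m ⊕ Fin m ≃ Fin n := finSumFinEquiv.trans (finCongr (by omega))
      obtain ⟨a, ha', hx⟩ := Cfsg.Agent.Lib.Helper44.GraphInv.isConjUnder_altGL hn2 hnm h2 e g ha
      obtain ⟨e₁⟩ := Cfsg.Agent.Lib.Helper44.GraphInv.centralizer_altGL_equiv (F := F) hn2 e
      exact ⟨(Cfsg.Agent.Lib.Helper43.centralizerInfEquivOfConj a ha' hx).trans e₁⟩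
  · intro hne
    apply hcount
    by_cases hodd : Odd n
    · exact Cfsg.Agent.Lib.Helper44.GraphInv.detCent_gr_le_of_odd hn2 hodd g
    · have he : Even n := Nat.not_odd_iff_even.mp hodd
      have hp : ¬ Odd p := fun hp => hne ⟨he, hp⟩
      have hp2 : p = 2 := by
        rcases (Fact.out : p.Prime).eq_two_or_odd' with h | h
        · exact h
        · exact absurd h hp
      have : CharP F 2 := by
        rw [← hp2]
        exact hchar
      exact Cfsg.Agent.Lib.Helper44.GraphInv.detCent_gr_le_of_char_two hn2 g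

end Cfsg.Agent.S2702
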