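import Cfsg.Statements.S2706
import Mathlib
import Cfsg.Agent.Lib.Helper45.PSUGraph.Desc
import Cfsg.Agent.Lib.Helper45.PSUGraph.Forms

-- import your own Cfsg.Agent.* helpers here

set_option autoImplicit false
open Cfsg

namespace Cfsg.Agent.S2706


open Cfsg.Agent.Lib.Helper45.PSUGraph Cfsg.Agent.Lib.Helper43 Cfsg.Agent.Lib.Helper44.GraphInv Matrix

/-- Let T = PSU_n(q) be simple with n = 2m + 1 ≥ 3 odd, realised over the field F with q² elements, and G = Inndiag(T) the image of PGU_n(q). Every involutory graph automorphism γ of T (an inner-diagonal automorphism times a standard field automorphism of even order, of order 2) has centralizer C_G(γ) isomorphic to the projective conformal orthogonal group of the form x₀² + Σ xᵢ yᵢ in dimension n over a field F₀ with q elements, and any two involutory graph automorphisms of T are G-conjugate. -/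
theorem result {F : Type*} [Field F] [Fintype F] {p f q : ℕ} [Fact p.Prime] (hq : q = p ^ f) (hf : 1 ≤ f) (hF : Fintype.card F = q ^ 2) {n : ℕ} (hn : 3 ≤ n) (hs : ¬ (n = 3 ∧ q = 2)) {m : ℕ} (hnm : n = 2 * m + 1) (F₀ : Type*) [Field F₀] [Fintype F₀] (hF₀ : Fintype.card F₀ = q) (γ γ' : MulAut (Cfsg.PSU n F q)) (hγ : Cfsg.IsGraphAutClassPSU γ) (hγ2 : orderOf γ = 2) (hγ' : Cfsg.IsGraphAutClassPSU γ') (hγ'2 : orderOf γ' = 2) :
    Nonempty (↥(Cfsg.inndiagPSU n F q ⊓ Subgroup.centralizer {γ}) ≃* Cfsg.PGO F₀ (Cfsg.quadFormOdd m F₀)) ∧ Cfsg.IsConjUnder (Cfsg.inndiagPSU n F q) γ γ' := by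

  classical
  obtain ⟨j, hj⟩ := exists_embedding_qfixed (F₀ := F₀) hF hF₀
  have hodd : Odd n := ⟨m, hnm⟩
  obtain ⟨-, g, rfl⟩ := exists_xg_of_graph_invol hF γ hγ hγ2
  obtain ⟨-, g', rfl⟩ := exists_xg_of_graph_invol hF γ' hγ' hγ'2
  -- every involutory `xg g` has symmetric `g`
  have key : ∀ g : ↥(Cfsg.GU n F q), orderOf (xg hF g) = 2 →
      ((g : GL (Fin n) F) : Matrix (Fin n) (Fin n) F)ᵀ =
        ((g : GL (Fin n) F) : Matrix (Fin n) (Fin n) F) := by
    intro g h
    rcases transpose_eq_of_orderOf_xg hF hn g h with h1 | h1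
    · exact h1
    · by_cases h2 : (2 : F) = 0
      · have : CharP F 2 := CharTwo.of_one_ne_zero_of_two_eq_zero one_ne_zero h2
        rw [h1]
        ext i k
        rw [Matrix.neg_apply]
        exact CharTwo.neg_eq _
      · exact (not_alt_of_odd hodd h2 (g : GL (Fin n) F) h1).elim
  obtain ⟨D, hD1, hD2, hD3, hD4⟩ := exists_desc_symm hF (by omega) j hj g (key g hγ2)
  obtain ⟨E, hE1, hE2, hE3, hE4⟩ := exists_desc_symm hF (by omega) j hj g' (key g' hγ'2)
  obtain ⟨P, c, hc, hP⟩ := exists_sim_of_odd hodd D.M₀ E.M₀ hD3 hE3 hD4 hE4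
  refine ⟨?_, isConjUnder_of_sim hn hj D E (by rw [hD2, hE2]) P c hc hP⟩
  obtain ⟨e₁⟩ := nonempty_centralizer_equiv_sim hn hj D
  obtain ⟨e₂⟩ := projQuot_sim_odd_equiv hnm D.M₀ hD3 hD4
  exact ⟨e₁.trans e₂⟩

end Cfsg.Agent.S2706
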