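import Cfsg.Statements.S2707
import Mathlib
import Cfsg.Agent.Lib.Helper45.PSUGraph.Reps
import Cfsg.Agent.Lib.Helper45.PSUGraph.Skew
import Cfsg.Agent.Lib.Helper43.SplitClass
import Cfsg.Agent.S2700

-- import your own Cfsg.Agent.* helpers here

set_option autoImplicit false
open Cfsg

namespace Cfsg.Agent.S2707


open Cfsg.Agent.Lib.Helper45.PSUGraph Cfsg.Agent.Lib.Helper43 Cfsg.Agent.Lib.Helper44 Cfsg.Agent.Lib.Helper44.GraphInv Matrix

/-- an antisymmetric and a symmetric unitary matrix give non-conjugate automorphisms -/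
theorem not_isConjUnder_skew_symm {F : Type*} [Field F] [Fintype F] {q n : ℕ}
    (hF : Fintype.card F = q ^ 2) (hn : 3 ≤ n) (h2 : (2 : F) ≠ 0) (g g' : ↥(Cfsg.GU n F q))
    (hg : ((g : GL (Fin n) F) : Matrix (Fin n) (Fin n) F)ᵀ =
      -((g : GL (Fin n) F) : Matrix (Fin n) (Fin n) F))
    (hg' : ((g' : GL (Fin n) F) : Matrix (Fin n) (Fin n) F)ᵀ =
      ((g' : GL (Fin n) F) : Matrix (Fin n) (Fin n) F)) :
    ¬ Cfsg.IsConjUnder (Cfsg.inndiagPSU n F q) (xg hF g) (xg hF g') := by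
  rw [isConjUnder_xg_iff hF hn]
  rintro ⟨h, c, hc⟩
  have h1 := congrArg Matrix.transpose hc
  rw [Matrix.transpose_smul, Matrix.transpose_mul, Matrix.transpose_mul,
    Matrix.transpose_transpose, hg, hg', Matrix.neg_mul, Matrix.mul_neg, ← Matrix.mul_assoc,
    smul_neg, ← hc] at h1
  have h3 : (2 : F) • ((g' : GL (Fin n) F) : Matrix (Fin n) (Fin n) F) = 0 := by
    rw [two_smul]
    nth_rewrite 1 [h1]
    exact neg_add_cancel _
  rcases smul_eq_zero.mp h3 with h4 | h4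
  · exact h2 h4
  · exact gu_coe_ne_zero (by omega) _ h4

/-- symmetric unitary matrices with descended forms of different discriminant give non-conjugate
automorphisms (even dimension) -/
theorem not_isConjUnder_of_disc_psu {F : Type*} [Field F] [Fintype F] {q n m : ℕ}
    {F₀ : Type*} [Field F₀] (hF : Fintype.card F = q ^ 2) (hn : 3 ≤ n) (hnm : n = 2 * m)
    (j : F₀ →+* F) (hj : ∀ a : F, a ^ q = a ↔ ∃ b, j b = a) (g g' : ↥(Cfsg.GU n F q))
    (D : Desc hF j g) (E : Desc hF j g') (hθ : D.θ = E.θ) (hDd : D.M₀.det ≠ 0)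
    (hns : ¬ IsSquare (D.M₀.det * E.M₀.det)) :
    ¬ Cfsg.IsConjUnder (Cfsg.inndiagPSU n F q) (xg hF g) (xg hF g') := by
  subst hnm
  rw [isConjUnder_xg_iff hF hn]
  rintro ⟨h, c, hc⟩
  obtain ⟨P₀, b, c₀, hb0, hc₀0, -, hP⟩ := sim_of_conj (by omega) hj D E hθ h c hc
  apply hns
  have h1 := congrArg Matrix.det hP
  rw [Matrix.det_mul, Matrix.det_mul, Matrix.det_transpose, Matrix.det_smul,
    Fintype.card_fin] at h1
  have hP0 : P₀.det ≠ 0 := by
    intro h0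
    rw [h0, zero_mul, zero_mul] at h1
    exact mul_ne_zero (pow_ne_zero _ hc₀0) hDd h1.symm
  refine ⟨c₀ ^ m * D.M₀.det / P₀.det, ?_⟩
  have : c₀ ^ (2 * m) = c₀ ^ m * c₀ ^ m := by rw [two_mul, pow_add]
  rw [this] at h1
  rw [div_mul_div_comm, eq_div_iff (mul_ne_zero hP0 hP0)]
  linear_combination D.M₀.det * h1

/-- Let T = PSU_n(q) with n = 2m ≥ 4 even and q odd, realised over the field F with q² elements, and G = Inndiag(T) the image of PGU_n(q). The involutory graph automorphisms of T fall into exactly three G-classes, with representatives whose centralizers in G are isomorphic respectively to the projective conformal symplectic group PGSp_n(F₀), the projective conformal orthogonal group of the plus-type form Σ xᵢ yᵢ, and that of a minus-type form Σ xᵢ yᵢ + z₁² + a z₁ z₂ + b z₂² (anisotropic binary part) in dimension n, all over a field F₀ with q elements. -/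
theorem result {F : Type*} [Field F] [Fintype F] {q : ℕ} (hodd : Odd q) (hF : Fintype.card F = q ^ 2) {n m : ℕ} (hm : 2 ≤ m) (hnm : n = 2 * m) (F₀ : Type*) [Field F₀] [Fintype F₀] (hF₀ : Fintype.card F₀ = q) :
    ∃ (γ₁ γ₂ γ₃ : MulAut (Cfsg.PSU n F q)) (a b : F₀), (∀ z₁ z₂ : F₀, z₁ ^ 2 + a * z₁ * z₂ + b * z₂ ^ 2 = 0 → z₁ = 0 ∧ z₂ = 0) ∧ Cfsg.IsGraphAutClassPSU γ₁ ∧ orderOf γ₁ = 2 ∧ Cfsg.IsGraphAutClassPSU γ₂ ∧ orderOf γ₂ = 2 ∧ Cfsg.IsGraphAutClassPSU γ₃ ∧ orderOf γ₃ = 2 ∧ ¬ Cfsg.IsConjUnder (Cfsg.inndiagPSU n F q) γ₁ γ₂ ∧ ¬ Cfsg.IsConjUnder (Cfsg.inndiagPSU n F q) γ₁ γ₃ ∧ ¬ Cfsg.IsConjUnder (Cfsg.inndiagPSU n F q) γ₂ γ₃ ∧ (∀ γ : MulAut (Cfsg.PSU n F q), Cfsg.IsGraphAutClassPSU γ → orderOf γ = 2 → Cfsg.IsConjUnder (Cfsg.inndiagPSU n F q) γ₁ γ ∨ Cfsg.IsConjUnder (Cfsg.inndiagPSU n F q) γ₂ γ ∨ Cfsg.IsConjUnder (Cfsg.inndiagPSU n F q) γ₃ γ) ∧ Nonempty (↥(Cfsg.inndiagPSU n F q ⊓ Subgroup.centralizer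 {γ₁}) ≃* Cfsg.PGSp m F₀) ∧ Nonempty (↥(Cfsg.inndiagPSU n F q ⊓ Subgroup.centralizer {γ₂}) ≃* Cfsg.PGO F₀ (Cfsg.quadFormPlus m F₀)) ∧ Nonempty (↥(Cfsg.inndiagPSU n F q ⊓ Subgroup.centralizer {γ₃}) ≃* Cfsg.PGO F₀ (Cfsg.quadFormMinus (m - 1) F₀ a b)) := by

  classical
  have hn3 : 3 ≤ n := by omega
  have hn1 : 1 ≤ n := by omega
  have hn2 : 2 ≤ n := by omega
  obtain ⟨j, hj⟩ := exists_embedding_qfixed (F₀ := F₀) hF hF₀
  have hjq : ∀ a : F₀, j a ^ q = j a := fun a => (hj (j a)).mpr ⟨a, rfl⟩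
  have hodd₀ : Fintype.card F₀ % 2 = 1 := by rw [hF₀]; exact Nat.odd_iff.mp hodd
  have h2 : (2 : F₀) ≠ 0 := two_ne_zero_of_odd_card hodd₀
  have h2F : (2 : F) ≠ 0 := by
    intro h
    apply h2
    apply j.injective
    rw [map_ofNat, map_zero, h]
  obtain ⟨ζ, hζ⟩ := exists_no_root (F := F₀)
  have e : Fin m ⊕ Fin m ≃ Fin n := finSumFinEquiv.trans (finCongr (by omega))
  have e' : (Fin (m - 1) ⊕ Fin (m - 1)) ⊕ Fin 2 ≃ Fin n :=
    (Equiv.sumCongr finSumFinEquiv (Equiv.refl _)).trans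
      (finSumFinEquiv.trans (finCongr (by omega)))
  set Qp : QuadraticForm F₀ (Fin n → F₀) := reQ e (hypQF m F₀) with hQp
  set Qm : QuadraticForm F₀ (Fin n → F₀) := reQ e' (minusQF (m - 1) F₀ 1 ζ) with hQm
  have hp : (QuadraticMap.polarBilin Qp).Nondegenerate := reQ_nondeg e _ hypQF_nondeg
  have hmn : (QuadraticMap.polarBilin Qm).Nondegenerate :=
    reQ_nondeg e' _ (Cfsg.Agent.S2700.minus_nondeg h2 (m - 1) ζ hζ)
  have hns : ¬ IsSquare ((gramStd ⇑Qp).det * (gramStd ⇑Qm).det) := by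
    intro hs
    obtain ⟨L, hL⟩ := (Cfsg.Agent.S2623.result h2 Qp Qm hp hmn).mpr hs
    refine Cfsg.Agent.S2617.result (by omega : 1 ≤ m) ζ hζ
      ((LinearEquiv.funCongrLeft F₀ F₀ e).symm.trans
        (L.trans (LinearEquiv.funCongrLeft F₀ F₀ e'))) ?_
    intro v
    have h1 := hL ((LinearEquiv.funCongrLeft F₀ F₀ e).symm v)
    rw [hQp, hQm, reQ_apply, reQ_apply] at h1
    have h3 : ((LinearEquiv.funCongrLeft F₀ F₀ e).symm v) ∘ e = v :=
      (LinearEquiv.funCongrLeft F₀ F₀ e).apply_symm_apply v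
    rw [h3, minusQF_coe, hypQF_apply] at h1
    exact h1
  have hdp := (nondeg_iff_gramStd_det_ne_zero Qp).mp hp
  have hdm := (nondeg_iff_gramStd_det_ne_zero Qm).mp hmn
  obtain ⟨lam₀, θ₀, hlam₀, hθ₀0, hθ₀⟩ := exists_lam_theta hF hodd
  -- the symmetric representatives
  obtain ⟨gP, DP, hgPT, hDP1, hDP2, hDP3⟩ := exists_gu_desc_eq hF hn1 j hj h2 (gramStd ⇑Qp)
    (gramStd_transpose Qp) hdp
  obtain ⟨gM, DM, hgMT, hDM1, hDM2, hDM3⟩ := exists_gu_desc_eq hF hn1 j hj h2 (gramStd ⇑Qm)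
    (gramStd_transpose Qm) hdm
  -- the antisymmetric representative
  set A : Matrix (Fin n) (Fin n) F₀ := ((altGL e : GL (Fin n) F₀) : Matrix (Fin n) (Fin n) F₀)
    with hA
  have hAT : Aᵀ = -A := altGL_transpose e
  have hAA : A * A = -1 := by
    rw [hA, altGL_coe, Matrix.submatrix_mul_equiv, Matrix.J_squared]
    ext i k
    simp [Matrix.one_apply]
  have hJ' : mstar (qAut hF) (A.map j) * A.map j = 1 := by
    rw [mstar_map_fixed hF j hjq, ← Matrix.map_mul, hAT, Matrix.neg_mul, hAA, neg_neg]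
    exact Matrix.map_one _ (map_zero _) (map_one _)
  set g₁ : ↥(Cfsg.GU n F q) := guMk hF (A.map j) hJ' with hg₁
  have hg₁T : ((g₁ : GL (Fin n) F) : Matrix (Fin n) (Fin n) F)ᵀ =
      -((g₁ : GL (Fin n) F) : Matrix (Fin n) (Fin n) F) := by
    rw [hg₁, guMk_coe, ← Matrix.transpose_map, hAT]
    ext i k
    simp
  obtain ⟨D₁, hD₁1, hD₁2, hD₁3, hD₁4⟩ := exists_desc_skew hF hn1 j hj g₁ hg₁T lam₀ θ₀ hlam₀
    hθ₀0 hθ₀
  have hord_symm : ∀ g : ↥(Cfsg.GU n F q),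
      ((g : GL (Fin n) F) : Matrix (Fin n) (Fin n) F)ᵀ =
        ((g : GL (Fin n) F) : Matrix (Fin n) (Fin n) F) → orderOf (xg hF g) = 2 := by
    intro g hg
    exact (orderOf_xg_eq_two_iff hF hn3 g).mpr ⟨1, by rw [one_smul, hg]⟩
  have hord_skew : ∀ g : ↥(Cfsg.GU n F q),
      ((g : GL (Fin n) F) : Matrix (Fin n) (Fin n) F)ᵀ =
        -((g : GL (Fin n) F) : Matrix (Fin n) (Fin n) F) → orderOf (xg hF g) = 2 := by
    intro g hg
    exact (orderOf_xg_eq_two_iff hF hn3 g).mpr ⟨-1, by rw [hg, neg_one_smul, neg_neg]⟩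
  have hbfp : bf (gramStd ⇑Qp) = QuadraticMap.polar ⇑Qp := by
    funext u v
    rw [bf_gramStd]
  have hbfm : bf (gramStd ⇑Qm) = QuadraticMap.polar ⇑Qm := by
    funext u v
    rw [bf_gramStd]
  refine ⟨xg hF g₁, xg hF gP, xg hF gM, 1, ζ, ?_, isGraphAutClassPSU_xg hF hn3 _,
    hord_skew _ hg₁T, isGraphAutClassPSU_xg hF hn3 _, hord_symm _ hgPT,
    isGraphAutClassPSU_xg hF hn3 _, hord_symm _ hgMT,
    not_isConjUnder_skew_symm hF hn3 h2F _ _ hg₁T hgPT,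
    not_isConjUnder_skew_symm hF hn3 h2F _ _ hg₁T hgMT, ?_, ?_, ?_, ?_, ?_⟩
  · intro z₁ z₂ hz
    by_cases hz2 : z₂ = 0
    · subst hz2
      refine ⟨?_, rfl⟩
      have : z₁ ^ 2 = 0 := by linear_combination hz
      exact pow_eq_zero_iff (two_ne_zero) |>.mp this
    · exfalso
      apply hζ (z₁ / z₂)
      field_simp
      linear_combination hz
  · apply not_isConjUnder_of_disc_psu hF hn3 hnm j hj gP gM DP DM (by rw [hDP2, hDM2])
    · rw [hDP3]; exact hdp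
    · rw [hDP3, hDM3]; exact hns
  · intro γ hγ hγ2
    obtain ⟨-, g, rfl⟩ := exists_xg_of_graph_invol hF γ hγ hγ2
    rcases transpose_eq_of_orderOf_xg hF hn3 g hγ2 with hs | ha
    · right
      obtain ⟨D, hD1, hD2, hD3, hD4⟩ := exists_desc_symm hF hn1 j hj g hs
      set gD : GL (Fin n) F₀ := Matrix.GeneralLinearGroup.mkOfDetNeZero D.M₀ hD4
      have hQ : (QuadraticMap.polarBilin (symQ D.M₀)).Nondegenerate := symQ_nondeg h2 gD hD3
      have key : ∀ (Q : QuadraticForm F₀ (Fin n → F₀)) (L : (Fin n → F₀) ≃ₗ[F₀] (Fin n → F₀)),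
          (∀ v, Q (L v) = symQ D.M₀ v) →
          ((glOfEquiv L : GL (Fin n) F₀) : Matrix (Fin n) (Fin n) F₀)ᵀ * gramStd ⇑Q *
            ((glOfEquiv L : GL (Fin n) F₀) : Matrix (Fin n) (Fin n) F₀) = (1 : F₀) • D.M₀ := by
        intro Q L hL
        apply congr_of_map
        intro u v
        have h3 := Cfsg.Agent.S2623.polar_isometry (symQ D.M₀) Q
          (L : (Fin n → F₀) →ₗ[F₀] (Fin n → F₀)) hL u v
        rw [polar_symQ h2 _ hD3] at h3
        rw [one_mul, ← h3, bf_gramStd]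
        rfl
      rcases two_classes h2 Qp Qm _ hp hmn hQ hns with ⟨L, hL⟩ | ⟨L, hL⟩
      · left
        apply Cfsg.Agent.Lib.Helper43.isConjUnder_symm
        apply isConjUnder_of_sim hn3 hj D DP (by rw [hD2, hDP2]) _ 1 one_ne_zero
        rw [hDP3]
        exact key Qp L hL
      · right
        apply Cfsg.Agent.Lib.Helper43.isConjUnder_symm
        apply isConjUnder_of_sim hn3 hj D DM (by rw [hD2, hDM2]) _ 1 one_ne_zero
        rw [hDM3]
        exact key Qm L hL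
    · left
      obtain ⟨D, hD1, hD2, hD3, hD4⟩ := exists_desc_skew hF hn1 j hj g ha lam₀ θ₀ hlam₀ hθ₀0 hθ₀
      obtain ⟨P, hP⟩ := exists_congr_skew hnm h2 D.M₀ D₁.M₀ hD3 hD₁3 hD4 hD₁4
      apply Cfsg.Agent.Lib.Helper43.isConjUnder_symm
      apply isConjUnder_of_sim hn3 hj D D₁ (by rw [hD2, hD₁2]) P 1 one_ne_zero
      rw [one_smul, hP]
  · obtain ⟨e₁⟩ := nonempty_centralizer_equiv_sim hn3 hj D₁
    obtain ⟨e₂⟩ := projQuot_sim_skew_equiv hnm h2 D₁.M₀ hD₁3 hD₁4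
    exact ⟨e₁.trans e₂⟩
  · obtain ⟨e₁⟩ := nonempty_centralizer_equiv_sim hn3 hj DP
    rw [hDP3, hbfp, sim_polar_eq_quadSim h2] at e₁
    obtain ⟨e₂⟩ := pgo_reQ_equiv e (hypQF m F₀)
    exact ⟨e₁.trans e₂⟩
  · obtain ⟨e₁⟩ := nonempty_centralizer_equiv_sim hn3 hj DM
    rw [hDM3, hbfm, sim_polar_eq_quadSim h2] at e₁
    obtain ⟨e₂⟩ := pgo_reQ_equiv e' (minusQF (m - 1) F₀ 1 ζ)
    rw [minusQF_coe] at e₂
    exact ⟨e₁.trans e₂⟩

end Cfsg.Agent.S2707
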