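import Cfsg.Statements.S2708
import Mathlib
import Cfsg.Agent.Lib.Helper45.PSUGraph.Cent
import Cfsg.Agent.Lib.Helper45.SpInv.Transv

-- import your own Cfsg.Agent.* helpers here

set_option autoImplicit false
open Cfsg

namespace Cfsg.Agent.S2708


open Cfsg.Agent.Lib.Helper45.PSUGraph Cfsg.Agent.Lib.Helper45.PSLGraph Cfsg.Agent.Lib.Helper45.SpInv Cfsg.Agent.Lib.Helper43 Matrix

/-- Let T = PSU_n(q) with n = 2m ≥ 4 even and q even, realised over the field F (of characteristic 2) with q² elements, and G = Inndiag(T) the image of PGU_n(q). The involutory graph automorphisms of T fall into exactly two G-classes, with representatives whose centralizers in G are isomorphic respectively to the symplectic group Sp_n(F₀) and to the centralizer in Sp_n(F₀) of a symplectic transvection, F₀ a field with q elements. -/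
theorem result {F : Type*} [Field F] [Fintype F] [CharP F 2] {q : ℕ} (hF : Fintype.card F = q ^ 2) {n m : ℕ} (hm : 2 ≤ m) (hnm : n = 2 * m) (F₀ : Type*) [Field F₀] [Fintype F₀] (hF₀ : Fintype.card F₀ = q) :
    ∃ (γ₁ γ₃ : MulAut (Cfsg.PSU n F q)) (t : ↥(Matrix.symplecticGroup (Fin m) F₀)), Cfsg.IsTransvection (t : Matrix (Fin m ⊕ Fin m) (Fin m ⊕ Fin m) F₀) ∧ Cfsg.IsGraphAutClassPSU γ₁ ∧ orderOf γ₁ = 2 ∧ Cfsg.IsGraphAutClassPSU γ₃ ∧ orderOf γ₃ = 2 ∧ ¬ Cfsg.IsConjUnder (Cfsg.inndiagPSU n F q) γ₁ γ₃ ∧ (∀ γ : MulAut (Cfsg.PSU n F q), Cfsg.IsGraphAutClassPSU γ → orderOf γ = 2 → Cfsg.IsConjUnder (Cfsg.inndiagPSU n F q) γ₁ γ ∨ Cfsg.IsConjUnder (Cfsg.inndiagPSU n F q) γ₃ γ) ∧ Nonempty (↥(Cfsg.inndiagPSU n F q ⊓ Subgroup.centralizer {γ₁}) ≃* ↥(Matrix.symplecticGroup (Fin m) F₀)) ∧ Nonempty (↥(Cfsg.inndiagPSU n F q ⊓ Subgroup.centralizer {γ₃}) ≃* ↥(Subgroup.centralizer ({t} : Set ↥(Matrix.symplecticGroup (Fin m) F₀)))) := by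

  classical
  subst hnm
  have hn : 3 ≤ 2 * m := by omega
  obtain ⟨j, hj⟩ := exists_embedding_qfixed (F₀ := F₀) hF hF₀
  have hchar : CharP F₀ 2 := charP_two_of_embedding j
  let e : Fin m ⊕ Fin m ≃ Fin (2 * m) := finSumFinEquiv.trans (finCongr (two_mul m).symm)
  let i0 : Fin m := ⟨0, by omega⟩
  let c₀ : Fin m ⊕ Fin m := Sum.inl i0
  -- the alternating representative
  have hJfix : (lift e j (Matrix.J (Fin m) F₀)).map (qAut hF) = lift e j (Matrix.J (Fin m) F₀) :=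
    map_map_fixed hF j hj _
  have hJT : (lift e j (Matrix.J (Fin m) F₀))ᵀ = lift e j (Matrix.J (Fin m) F₀) := by
    rw [← lift_transpose, J_transpose']
  have hJ : mstar (qAut hF) (lift e j (Matrix.J (Fin m) F₀)) * lift e j (Matrix.J (Fin m) F₀) = 1 := by
    unfold mstar
    rw [hJfix, hJT, ← lift_mul, J_mul_J, lift_one]
  set g₁ : ↥(Cfsg.GU (2 * m) F q) := guMk hF (lift e j (Matrix.J (Fin m) F₀)) hJ with hg₁def
  have hg₁coe : ((g₁ : GL (Fin (2 * m)) F) : Matrix (Fin (2 * m)) (Fin (2 * m)) F) =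
      lift e j (Matrix.J (Fin m) F₀) := rfl
  have hg₁T : ((g₁ : GL (Fin (2 * m)) F) : Matrix (Fin (2 * m)) (Fin (2 * m)) F)ᵀ =
      ((g₁ : GL (Fin (2 * m)) F) : Matrix (Fin (2 * m)) (Fin (2 * m)) F) := by rw [hg₁coe, hJT]
  have hg₁d : ∀ i, ((g₁ : GL (Fin (2 * m)) F) : Matrix (Fin (2 * m)) (Fin (2 * m)) F) i i = 0 := by
    intro i
    rw [hg₁coe, lift_apply, J_diag, map_zero]
  -- the identity representative
  have h1coe : (((1 : ↥(Cfsg.GU (2 * m) F q)) : GL (Fin (2 * m)) F) :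
      Matrix (Fin (2 * m)) (Fin (2 * m)) F) = 1 := rfl
  have h1T : (((1 : ↥(Cfsg.GU (2 * m) F q)) : GL (Fin (2 * m)) F) :
      Matrix (Fin (2 * m)) (Fin (2 * m)) F)ᵀ = (((1 : ↥(Cfsg.GU (2 * m) F q)) : GL (Fin (2 * m)) F) :
      Matrix (Fin (2 * m)) (Fin (2 * m)) F) := by rw [h1coe, Matrix.transpose_one]
  have h1d : ¬ ∀ i, (((1 : ↥(Cfsg.GU (2 * m) F q)) : GL (Fin (2 * m)) F) :
      Matrix (Fin (2 * m)) (Fin (2 * m)) F) i i = 0 := by
    intro h
    have := h ⟨0, by omega⟩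
    rw [h1coe, Matrix.one_apply_eq] at this
    exact one_ne_zero this
  refine ⟨xg hF g₁, xg hF 1, tvStd i0, isTransvection_tvStd i0,
    isGraphAutClassPSU_xg hF hn _, orderOf_xg_of_symm hF hn _ hg₁T,
    isGraphAutClassPSU_xg hF hn _, orderOf_xg_of_symm hF hn _ h1T, ?_, ?_, ?_, ?_⟩
  · apply not_isConjUnder_of_type hF hn g₁ 1 hg₁T hg₁d
    by_contra hh
    push Not at hh
    exact h1d hh
  · intro γ hγ hγ2
    obtain ⟨-, g, rfl⟩ := exists_xg_of_graph_invol hF γ hγ hγ2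
    have hsym := symm_of_orderOf_xg hF hn g hγ2
    by_cases hd : ∀ i, ((g : GL (Fin (2 * m)) F) : Matrix (Fin (2 * m)) (Fin (2 * m)) F) i i = 0
    · left
      exact isConjUnder_of_same_type hF hn j hj g₁ g hg₁T hsym (iff_of_true hg₁d hd)
    · right
      exact isConjUnder_of_same_type hF hn j hj 1 g h1T hsym (iff_of_false h1d hd)
  · -- centraliser of γ₁
    obtain ⟨B, B', hBB', hgB, hGeq⟩ := exists_std_form hF j hj g₁ hg₁T
      (up e (Matrix.J (Fin m) F₀)) (up e (Matrix.J (Fin m) F₀))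
      (by rw [← up_transpose, J_transpose']) (by rw [← up_mul, J_mul_J, up_one])
      (iff_of_true hg₁d (fun i => J_diag _))
    obtain ⟨φ⟩ := nonempty_centralizer_equiv e hF hn j hj g₁ hg₁T (Matrix.J (Fin m) F₀) B B' hBB'
      hgB hGeq ⊤ (fun A => by
        rw [← SymplecticGroup.mem_iff]
        exact ⟨fun h => ⟨h, Subgroup.mem_top _⟩, fun ⟨h, _⟩ => h⟩)
    exact ⟨φ.trans Subgroup.topEquiv⟩
  · -- centraliser of γ₃
    obtain ⟨B, B', hBB', hgB, hGeq⟩ := exists_std_form hF j hj 1 h1T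
      (up e (formC m F₀ c₀)) (up e _)
      (by rw [← up_transpose, formC_transpose]) (by rw [← up_mul, formC_mul_inv c₀, up_one])
      (iff_of_false h1d (fun h => by
        have := h (e c₀)
        unfold up at this
        rw [Matrix.submatrix_apply, Equiv.symm_apply_apply, formC_diag] at this
        exact one_ne_zero this))
    exact nonempty_centralizer_equiv e hF hn j hj 1 h1T (formC m F₀ c₀) B B' hBB'
      hgB hGeq (Subgroup.centralizer {tvStd i0}) (fun A => by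
        rw [isomC_iff]
        constructor
        · rintro ⟨h1, h2⟩
          exact ⟨h1, (mem_centralizer_tvStd_iff i0 ⟨A, h1⟩).mpr h2⟩
        · rintro ⟨h1, h2⟩
          exact ⟨h1, (mem_centralizer_tvStd_iff i0 ⟨A, h1⟩).mp h2⟩)

end Cfsg.Agent.S2708
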