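import Cfsg.Statements.S2709
import Mathlib
import Cfsg.Agent.Lib.Helper45.PSUGraph.SplitIndex
import Cfsg.Agent.Lib.Helper45.PSUGraph.Reps
import Cfsg.Agent.Lib.Helper45.PSUGraph.CharTwo
import Cfsg.Agent.Lib.Helper43.SplitClass

-- import your own Cfsg.Agent.* helpers here

set_option autoImplicit false
open Cfsg

namespace Cfsg.Agent.S2709


open Cfsg.Agent.Lib.Helper45.PSUGraph Cfsg.Agent.Lib.Helper43 Cfsg.Agent.Lib.Helper44 Cfsg.Agent.Lib.Helper44.GraphInv Cfsg.Agent.Lib.Helper13 Matrix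

/-- antisymmetric type: the determinant group and the centraliser -/
theorem skew_case {F : Type*} [Field F] [Fintype F] {q n m : ℕ} {F₀ : Type*} [Field F₀]
    [Fintype F₀] (hF : Fintype.card F = q ^ 2) (hn : 3 ≤ n) (hnm : n = 2 * m) (hodd : Odd q)
    (j : F₀ →+* F) (hj : ∀ a : F, a ^ q = a ↔ ∃ b, j b = a) (h2 : (2 : F₀) ≠ 0)
    (g : ↥(Cfsg.GU n F q))
    (hg : ((g : GL (Fin n) F) : Matrix (Fin n) (Fin n) F)ᵀ =
      -((g : GL (Fin n) F) : Matrix (Fin n) (Fin n) F)) :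
    detCentU hF (xg hF g) = (powMonoidHom m : ↥(U1 F q) →* ↥(U1 F q)).range ∧
      Nonempty (↥(Cfsg.inndiagPSU n F q ⊓ Subgroup.centralizer {xg hF g}) ≃* Cfsg.PGSp m F₀) := by
  classical
  have hjq : ∀ a : F₀, j a ^ q = j a := fun a => (hj (j a)).mpr ⟨a, rfl⟩
  obtain ⟨lam₀, θ₀, hlam₀, hθ₀0, hθ₀⟩ := exists_lam_theta hF hodd
  obtain ⟨D, hD1, hD2, hD3, hD4⟩ := exists_desc_skew hF (by omega) j hj g hg lam₀ θ₀ hlam₀
    hθ₀0 hθ₀
  constructor
  · have e : Fin m ⊕ Fin m ≃ Fin n := finSumFinEquiv.trans (finCongr (by omega))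
    have hAd : ((altGL e : GL (Fin n) F₀) : Matrix (Fin n) (Fin n) F₀).det ≠ 0 :=
      ((Matrix.isUnit_iff_isUnit_det _).mp (altGL e : GL (Fin n) F₀).isUnit).ne_zero
    obtain ⟨P, hP⟩ := exists_congr_skew hnm h2
      ((altGL e : GL (Fin n) F₀) : Matrix (Fin n) (Fin n) F₀) D.M₀ (altGL_transpose e) hD3 hAd hD4
    have hPd : P.det ≠ 0 := det_ne_zero_of_congr _ D.M₀ P 1 one_ne_zero hAd
      (by rw [one_smul, hP])
    have hPP' : P * P⁻¹ = 1 := Matrix.mul_nonsing_inv _ (Ne.isUnit hPd)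
    exact detCentU_skew hn hnm hj e (D.conj hjq P P⁻¹ hPP') (by rw [Desc.conj_M₀, hP])
  · obtain ⟨e₁⟩ := nonempty_centralizer_equiv_sim hn hj D
    obtain ⟨e₂⟩ := projQuot_sim_skew_equiv hnm h2 D.M₀ hD3 hD4
    exact ⟨e₁.trans e₂⟩

/-- symmetric type, even dimension, odd `q` -/
theorem symm_case {F : Type*} [Field F] [Fintype F] {q n m : ℕ} {F₀ : Type*} [Field F₀]
    [Fintype F₀] (hF : Fintype.card F = q ^ 2) (hn : 3 ≤ n) (hnm : n = 2 * m)
    (j : F₀ →+* F) (hj : ∀ a : F, a ^ q = a ↔ ∃ b, j b = a) (h2 : (2 : F₀) ≠ 0)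
    (g : ↥(Cfsg.GU n F q))
    (hg : ((g : GL (Fin n) F) : Matrix (Fin n) (Fin n) F)ᵀ =
      ((g : GL (Fin n) F) : Matrix (Fin n) (Fin n) F)) :
    detCentU hF (xg hF g) = (powMonoidHom n : ↥(U1 F q) →* ↥(U1 F q)).range.comap
      (powMonoidHom 2 : ↥(U1 F q) →* ↥(U1 F q)) ∧
      ¬ Nonempty (↥(Cfsg.inndiagPSU n F q ⊓ Subgroup.centralizer {xg hF g}) ≃*
        Cfsg.PGSp m F₀) := by
  classical
  obtain ⟨D, hD1, hD2, hD3, hD4⟩ := exists_desc_symm hF (by omega) j hj g hg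
  constructor
  · exact detCentU_symm hn ⟨m, by omega⟩ hj h2 D hD3 hD4
  · rintro ⟨eC⟩
    set gD : GL (Fin n) F₀ := Matrix.GeneralLinearGroup.mkOfDetNeZero D.M₀ hD4 with hgD
    have hgDc : (gD : Matrix (Fin n) (Fin n) F₀) = D.M₀ := rfl
    obtain ⟨e₁⟩ := nonempty_centralizer_equiv_sim hn hj D
    obtain ⟨e₂⟩ := centralizer_gr_equiv (by omega : 2 ≤ n) gD
    rw [hgDc] at e₂
    exact not_centralizer_equiv_PGSp_of_symm h2 (by omega) hnm gD (by rw [hgDc, hD3])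
      ⟨e₂.trans (e₁.symm.trans eC)⟩

/-- Let T = PSU_n(q) be simple (n ≥ 3, (n,q) ≠ (3,2), q = p^f), realised over the field F with q² elements, G = Inndiag(T) the image of PGU_n(q), and γ an involutory graph automorphism of T. The G-class of γ is the union of exactly c T-classes, where: if n is even and q is odd, c = gcd(n/2, q + 1) when C_G(γ) is isomorphic to PGSp_n(F₀) for a field F₀ with q elements (symplectic type) and c = gcd(n, q + 1)/2 otherwise; and c = gcd(n, q + 1) when n is odd or q is even. -/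
theorem result {F : Type*} [Field F] [Fintype F] {p f q : ℕ} [Fact p.Prime] (hq : q = p ^ f) (hf : 1 ≤ f) (hF : Fintype.card F = q ^ 2) {n : ℕ} (hn : 3 ≤ n) (hs : ¬ (n = 3 ∧ q = 2)) (F₀ : Type*) [Field F₀] [Fintype F₀] (hF₀ : Fintype.card F₀ = q) (γ : MulAut (Cfsg.PSU n F q)) (hγ : Cfsg.IsGraphAutClassPSU γ) (hγ2 : orderOf γ = 2) :
    ((Even n ∧ Odd q ∧ Nonempty (↥(Cfsg.inndiagPSU n F q ⊓ Subgroup.centralizer {γ}) ≃* Cfsg.PGSp (n / 2) F₀)) → Cfsg.splitClassCount (Cfsg.inndiagPSU n F q) (Cfsg.Inn (Cfsg.PSU n F q)) γ = Nat.gcd (n / 2) (q + 1)) ∧ ((Even n ∧ Odd q ∧ ¬ Nonempty (↥(Cfsg.inndiagPSU n F q ⊓ Subgroup.centralizer {γ}) ≃* Cfsg.PGSp (n / 2) F₀)) → Cfsg.splitClassCount (Cfsg.inndiagPSU n F q) (Cfsg.Inn (Cfsg.PSU n F q)) γ = Nat.gcd n (q + 1) / 2) ∧ (¬ (Even n ∧ Odd q) → Cfsg.splitClassCount (Cfsg.inndiagPSU n F q) (Cfsg.Inn (Cfsg.PSU n F q)) γ = Nat.gcd n (q + 1)) := by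

  classical
  have hn1 : 1 ≤ n := by omega
  obtain ⟨j, hj⟩ := exists_embedding_qfixed (F₀ := F₀) hF hF₀
  have hjq : ∀ a : F₀, j a ^ q = j a := fun a => (hj (j a)).mpr ⟨a, rfl⟩
  obtain ⟨-, g, rfl⟩ := exists_xg_of_graph_invol hF γ hγ hγ2
  rw [splitClassCount_eq_index_psu hF hn]
  have h2of : Odd q → (2 : F₀) ≠ 0 := by
    intro hodd
    have hodd₀ : Fintype.card F₀ % 2 = 1 := by rw [hF₀]; exact Nat.odd_iff.mp hodd
    exact two_ne_zero_of_odd_card hodd₀
  refine ⟨?_, ?_, ?_⟩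
  · rintro ⟨he, hodd, hC⟩
    have hnm : n = 2 * (n / 2) := by
      obtain ⟨t, ht⟩ := he
      omega
    rcases transpose_eq_of_orderOf_xg hF hn g hγ2 with hs | ha
    · exact absurd hC (symm_case hF hn hnm j hj (h2of hodd) g hs).2
    · rw [(skew_case hF hn hnm hodd j hj (h2of hodd) g ha).1, index_range_pow_U1 hF]
  · rintro ⟨he, hodd, hC⟩
    have hnm : n = 2 * (n / 2) := by
      obtain ⟨t, ht⟩ := he
      omega
    rcases transpose_eq_of_orderOf_xg hF hn g hγ2 with hs | ha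
    · rw [(symm_case hF hn hnm j hj (h2of hodd) g hs).1, index_comap_sq_U1 hF hodd he]
    · exact absurd (skew_case hF hn hnm hodd j hj (h2of hodd) g ha).2 hC
  · intro hneg
    by_cases hq2 : Even q
    · -- characteristic two
      have hp2 : p = 2 := by
        rw [hq] at hq2
        have hpe : Even p := (Nat.even_pow.mp hq2).1
        exact ((Nat.Prime.even_iff Fact.out).mp hpe)
      have hF' : Fintype.card F = p ^ (2 * f) := by rw [hF, hq, ← pow_mul, mul_comm]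
      have hcp : CharP F p := charP_of_card' (by omega) hF'
      subst hp2
      have hc0 : CharP F₀ 2 := charP_two_of_embedding j
      have hs := symm_of_orderOf_xg hF hn g hγ2
      obtain ⟨D, hD1, hD2, hD3, hD4⟩ := exists_desc_symm hF hn1 j hj g hs
      rw [detCentU_eq_range_of_root hn hj D
        (fun P₀ c₀ hc₀ hP => root_of_char_two D.M₀ hD4 P₀ c₀ hc₀ hP), index_range_pow_U1 hF]
    · have hodd : Odd q := Nat.not_even_iff_odd.mp hq2
      have hno : Odd n := by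
        rw [← Nat.not_even_iff_odd]
        intro he
        exact hneg ⟨he, hodd⟩
      have h2 := h2of hodd
      have h2F : (2 : F) ≠ 0 := by
        intro h
        apply h2
        apply j.injective
        rw [map_ofNat, map_zero, h]
      rcases transpose_eq_of_orderOf_xg hF hn g hγ2 with hs | ha
      · obtain ⟨D, hD1, hD2, hD3, hD4⟩ := exists_desc_symm hF hn1 j hj g hs
        rw [detCentU_eq_range_of_root hn hj D
          (fun P₀ c₀ hc₀ hP => root_of_odd hno D.M₀ hD4 P₀ c₀ hc₀ hP), index_range_pow_U1 hF]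
      · exact (not_alt_of_odd hno h2F (g : GL (Fin n) F) ha).elim

end Cfsg.Agent.S2709
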