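import Cfsg.Statements.S2733
import Cfsg.Agent.Lib.Helper37.LBM.GraphMain
import Cfsg.Agent.Lib.Helper13.MinusLB6

set_option autoImplicit false
open Cfsg

namespace Cfsg.Agent.S2733

open Matrix Cfsg.Agent.Lib.Helper36 Cfsg.Agent.Lib.Helper36.AutO Cfsg.Agent.Lib.Helper13
  Cfsg.Agent.Lib.Helper37.LBM

/-- A criterion for the failure of local balance in almost simple groups whose socle is a minus-type orthogonal group PΩ⁻_{2m+2}(F) (m ≥ 3; the form Σ xᵢ yᵢ + z₁² + a z₁ z₂ + b z₂² with anisotropic binary part). Let F be a finite field of characteristic r and K the (simple) group in question; let A be a group of automorphisms of K containing all inner automorphisms, and x ∈ A an automorphism of prime order p ≠ r that is not inner-diagonal (not induced by a class-preserving similarity, classes read over a quadratic extension). Then the largest normal subgroup of C_A(x) of order prime to p is nontrivial if and only if x is a field automorphism of K (conjugate under Aut(K) to a non-identity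 standard field automorphism) and p does not divide the number of fixed points of x on K. -/
theorem result {F : Type*} [Field F] [Fintype F] {r : ℕ} [Fact r.Prime] [CharP F r] {m : ℕ} (hm : 3 ≤ m) (a b : F) (hab : (∀ z₁ z₂ : F, z₁ ^ 2 + a * z₁ * z₂ + b * z₂ ^ 2 = 0 → z₁ = 0 ∧ z₂ = 0)) (hK : IsSimpleGroup (Cfsg.POmega F (Cfsg.quadFormMinus m F a b))) (A : Subgroup (MulAut (Cfsg.POmega F (Cfsg.quadFormMinus m F a b)))) (hinn : ∀ k : Cfsg.POmega F (Cfsg.quadFormMinus m F a b), MulAut.conj k ∈ A) {p : ℕ} [Fact p.Prime] (hpr : p ≠ r) (x : MulAut (Cfsg.POmega F (Cfsg.quadFormMinus m F a b))) (hxA : x ∈ A) (hord : orderOf x = p) (hnot : ¬ Cfsg.IsInnerDiagonalAutPOmegaMinus m a b x) :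
    Cfsg.pPrimeCore p ↥(A ⊓ Subgroup.centralizer {x}) ≠ ⊥ ↔ (Cfsg.IsFieldAutClassPOmegaMinus m x ∧ Nat.Coprime p (Nat.card ↥(MonoidHom.eqLocus x.toMonoidHom (MonoidHom.id (Cfsg.POmega F (Cfsg.quadFormMinus m F a b)))))) := by
  classical
  have hpp : p.Prime := Fact.out
  have htop := Cfsg.Agent.S2696.result hm a b hab
  have h7 : 7 ≤ Fintype.card ((Fin m ⊕ Fin m) ⊕ Fin 2) := by
    rw [card_minus_index]; omega
  obtain ⟨g, σ, hp, hi⟩ := (mem_gammaPOmega_iff (Cfsg.quadFormMinus m F a b) x).mp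
    (by rw [htop]; exact Subgroup.mem_top x)
  by_cases hσ : σ = RingEquiv.refl F
  · subst hσ
    have hmem : g ∈ Cfsg.Geo.quadSimilarityGroup (Cfsg.quadFormMinus m F a b) := by
      obtain ⟨c, hc⟩ := hp
      exact ⟨c, fun v => hc v⟩
    have hx : x = simAut (Cfsg.quadFormMinus m F a b) ⟨g, hmem⟩ :=
      (isInduced_iff (Cfsg.quadFormMinus m F a b) ⟨g, hmem⟩ x).mp hi
    have hnp : ¬ Cfsg.PreservesSingularClassesMinus m a b
        (g : Matrix ((Fin m ⊕ Fin m) ⊕ Fin 2) ((Fin m ⊕ Fin m) ⊕ Fin 2) F) :=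
      fun h => hnot ⟨g, hmem, h, hi⟩
    have hxp : x ^ p = 1 := by rw [← hord]; exact pow_orderOf_eq_one x
    have hp2 : p = 2 := order_two_of_not_preserves hm a b hab ⟨g, hmem⟩ hnp hpp
      (by rw [← hx]; exact hxp)
    subst hp2
    have h2 : (2 : F) ≠ 0 := by
      intro h0
      apply hpr
      have h1 : ((2 : ℕ) : F) = 0 := by exact_mod_cast h0
      have h3 := (CharP.cast_eq_zero_iff F r 2).mp h1
      exact ((Nat.prime_dvd_prime_iff_eq Fact.out Nat.prime_two).mp h3).symm
    have hinn' : Cfsg.Inn (Cfsg.POmega F (Cfsg.quadFormMinus m F a b)) ≤ A := by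
      rintro _ ⟨k, rfl⟩
      exact hinn k
    have hcore : Cfsg.pPrimeCore 2 ↥(A ⊓ Subgroup.centralizer {x}) = ⊥ := by
      rw [hx]
      exact minus_graph_main hm a b hab h2 ⟨g, hmem⟩ (by rw [← hx]; exact hxp) hnp A hinn'
    have hnf : ¬ Cfsg.IsFieldAutClassPOmegaMinus m x := by
      intro hf
      obtain ⟨g', σ', hσ', hp', hi'⟩ := exists_pair_of_fieldAutClass hm a b hab x hf
      apply hσ'
      have hp₁' := isSemisimilarityPair_inv (Cfsg.quadFormMinus m F a b) g (RingEquiv.refl F) hp
      have hi₁' := isInduced_inv (Cfsg.quadFormMinus m F a b) g (RingEquiv.refl F) x hi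
      have hpm := isSemisimilarityPair_mul (Cfsg.quadFormMinus m F a b) g' _ σ' _ hp' hp₁'
      have him := isInduced_mul (Cfsg.quadFormMinus m F a b) g' _ σ' _ x x⁻¹ hp₁' hi' hi₁'
      rw [mul_inv_cancel] at him
      obtain ⟨h1, -⟩ := pair_faithful (minusQ m F a b) (minusQ_nondeg_of_aniso m a b hab) h7 _ _
        hpm him
      apply RingEquiv.ext
      intro z
      have := congrArg (fun e : F ≃+* F => e z) h1
      exact this
    constructor
    · intro h
      exact absurd hcore h
    · rintro ⟨hf, -⟩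
      exact absurd hf hnf
  · obtain ⟨hcl, hiff⟩ := minus_field_pair_main hm a b hab A hinn x hord g σ hσ hp hi
    exact ⟨fun h => ⟨hcl, hiff.mp h⟩, fun h => hiff.mpr h.2⟩

end Cfsg.Agent.S2733
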