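import Cfsg.Statements.S2734
-- import your own Cfsg.Agent.* helpers here
import Cfsg.Agent.Lib.Helper69.GraphFinal

set_option autoImplicit false
open Cfsg

namespace Cfsg.Agent.S2734

open Cfsg.Lie Cfsg.Agent.Lib.Helper18 Cfsg.Agent.Lib.Helper17 Cfsg.Agent.Lib.Helper69.GraphInst
  Cfsg.Agent.Lib.Helper69.GraphIso Cfsg.Agent.Lib.Helper69.GraphFinal

/-- The symmetries of the diagram of type D4. -/
def symsD4 : List (List ℕ) :=
  [[0, 1, 2, 3], [2, 1, 0, 3], [3, 1, 2, 0], [0, 1, 3, 2], [2, 1, 3, 0], [3, 1, 0, 2]]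

theorem bondsOK_D4 : bondsOK chevD4 (btOf chevD4) = true := by decide +kernel

theorem symsOK_D4 : symsOK (btOf chevD4) chevD4.rank symsD4 = true := by decide +kernel

theorem noLongOK_D4 : noLongOK chevD4 = true := by decide +kernel

theorem simpleOK_D4 : simpleOK chevD4 graphData_D4_2130 [2, 1, 3, 0] = true := by decide +kernel

/-- In the Chevalley group of type D₄ over a finite field F (the matrix group generated by the root elements), a graph automorphism attached to a symmetry π of the Dynkin diagram (sending each fundamental root element x_p(t) to x_{π(p)}(t) and each x_{−p}(t) to x_{−π(p)}(t)) that has order 3 — a standard triality graph automorphism, π being a 3-cycle of the three outer nodes — has fixed-point subgroup isomorphic to the Chevalley group of type G₂ over F. -/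
theorem result {F : Type*} [Field F] [Fintype F] (τ : MulAut ↥(Cfsg.Lie.chevD4.group F)) (hτ : Cfsg.Lie.chevD4.IsGraphAut τ) (hτ3 : orderOf τ = 3) :
    Nonempty (↥(MonoidHom.eqLocus τ.toMonoidHom (MonoidHom.id ↥(Cfsg.Lie.chevD4.group F))) ≃* ↥(Cfsg.Lie.chevG2.group F)) := by
  obtain ⟨π, hπ, hτ'⟩ := hτ
  have hprop : GraphProp τ π := graphProp_of_isGraphAut noLongOK_D4 τ π hτ'
  obtain ⟨l, hl, hπl⟩ := perm_mem_syms chevD4 (btOf chevD4) symsD4 bondsOK_D4 symsOK_D4 π hπ
  simp only [symsD4, List.mem_cons, List.not_mem_nil, or_false] at hl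
  -- the conclusion, given that `τ` or its inverse is the triality automorphism
  have final : ∀ σ : ↥(chevD4.group F) ≃* ↥(chevD4.group F),
      (∀ x, σ x = graphAut hD4 chevData_D4 graphData_D4_2130 gok_D4 x) → (∀ x, τ x = x ↔ σ x = x) →
      Nonempty (↥(MonoidHom.eqLocus τ.toMonoidHom (MonoidHom.id ↥(chevD4.group F))) ≃* ↥(chevG2.group F)) := by
    intro σ hσ hiff
    obtain ⟨e⟩ := tw_iso_D4 (K := F)
    obtain ⟨e'⟩ := nonempty_equiv_of_carrier (chevD4.group F)
      (MonoidHom.eqLocus τ.toMonoidHom (MonoidHom.id ↥(chevD4.group F)))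
      (Gtw hD4 chevData_D4 twCfg_D4 (RingEquiv.refl F))
      (fun x => by
        show τ x = x ↔ _
        rw [hiff, hσ]
        exact fixed_iff_D4 x)
      (Gtw_le_group hD4 chevData_D4 twCfg_D4 (RingEquiv.refl F))
    exact ⟨e'.trans e⟩
  -- an involutory permutation is impossible
  have invol : (∀ i, π (π i) = i) → False := by
    intro h2
    have hsq : ∀ x, τ (τ x) = x :=
      (hprop.trans τ τ π π hprop).eq_self hD4 chevData_D4 (τ.trans τ) (π ∘ π) h2
    have h3 : τ ^ 2 = 1 := by
      ext x : 1
      rw [pow_two]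
      exact hsq x
    have h4 := orderOf_dvd_of_pow_eq_one h3
    rw [hτ3] at h4
    omega
  have key : ∀ i : Fin chevD4.rank, (π (π i)).val = l.getD (l.getD i.val 0) 0 := by
    intro i
    rw [hπl, hπl]
  have invol' : (∀ i < 4, l.getD (l.getD i 0) 0 = i) → False := by
    intro h
    apply invol
    intro i
    apply Fin.ext
    rw [key]
    exact h i.val i.2
  rcases hl with rfl | rfl | rfl | rfl | rfl | rfl
  · exact (invol' (by decide)).elim
  · exact (invol' (by decide)).elim
  · exact (invol' (by decide)).elim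
  · exact (invol' (by decide)).elim
  · -- `τ` is the triality automorphism
    exact final τ (hprop.eq_graphAut hD4 chevData_D4 graphData_D4_2130 gok_D4 _ simpleOK_D4 τ π hπl)
      (fun x => Iff.rfl)
  · -- `τ⁻¹` is the triality automorphism
    have hsymm : ∀ i : Fin chevD4.rank, (π.symm i).val = [2, 1, 3, 0].getD i.val 0 := by
      intro i
      have hlt : [2, 1, 3, 0].getD i.val 0 < chevD4.rank := by
        obtain ⟨i, hi⟩ := i
        have hi' : i < 4 := hi
        show [2, 1, 3, 0].getD i 0 < chevD4.rank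
        interval_cases i <;> decide
      have : π.symm i = ⟨[2, 1, 3, 0].getD i.val 0, hlt⟩ := by
        rw [Equiv.symm_apply_eq]
        apply Fin.ext
        rw [hπl]
        obtain ⟨i, hi⟩ := i
        have hi' : i < 4 := hi
        interval_cases i <;> rfl
      rw [this]
    exact final τ.symm
      ((hprop.symm hD4 τ π).eq_graphAut hD4 chevData_D4 graphData_D4_2130 gok_D4 _ simpleOK_D4 τ.symm π.symm hsymm)
      (fun x => by rw [MulEquiv.symm_apply_eq]; exact eq_comm)

end Cfsg.Agent.S2734
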