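import Cfsg.Statements.S2738
-- import your own Cfsg.Agent.* helpers here

set_option autoImplicit false
open Cfsg

namespace Cfsg.Agent.S2738

open Matrix

section

variable {F : Type*} [Field F] [Fintype F]

theorem two_eq_zero (hF : Fintype.card F = 4) : (2 : F) = 0 := by
  have h4 : ((Fintype.card F : ℕ) : F) = 0 := FiniteField.cast_card_eq_zero F
  rw [hF] at h4
  have : (2 : F) * 2 = 0 := by
    have h : ((4 : ℕ) : F) = 2 * 2 := by norm_num
    rw [← h]; exact h4
  rcases mul_self_eq_zero.mp this with h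
  exact h

theorem card_units (hF : Fintype.card F = 4) : Nat.card Fˣ = 3 := by
  rw [Nat.card_units, Nat.card_eq_fintype_card, hF]

theorem units_pow_three (hF : Fintype.card F = 4) (u : Fˣ) : u ^ 3 = 1 := by
  rw [← card_units hF]
  exact pow_card_eq_one'

theorem exists_omega (hF : Fintype.card F = 4) :
    ∃ w : F, w ≠ 1 ∧ w ^ 3 = 1 ∧ w ^ 2 + w + 1 = 0 := by
  have h1 : 1 < Nat.card Fˣ := by rw [card_units hF]; norm_num
  have hnt : Nontrivial Fˣ := by
    by_contra hcon
    rw [not_nontrivial_iff_subsingleton] at hcon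
    have := Nat.card_of_subsingleton (1 : Fˣ)
    omega
  obtain ⟨u, hu⟩ := exists_ne (1 : Fˣ)
  have hu3 : (u : F) ^ 3 = 1 := by
    have := units_pow_three hF u
    have := congrArg Units.val this
    simpa using this
  have hne : (u : F) ≠ 1 := by
    intro h
    apply hu
    exact Units.ext h
  refine ⟨u, hne, hu3, ?_⟩
  have hfac : ((u : F) - 1) * ((u : F) ^ 2 + u + 1) = 0 := by
    have : ((u : F) - 1) * ((u : F) ^ 2 + u + 1) = (u : F) ^ 3 - 1 := by ring
    rw [this, hu3, sub_self]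
  rcases mul_eq_zero.mp hfac with h | h
  · exact absurd (sub_eq_zero.mp h) hne
  · exact h

theorem card_center (hF : Fintype.card F = 4) :
    Nat.card ↥(Subgroup.center (Matrix.SpecialLinearGroup (Fin 3) F)) = 3 := by
  have e := Matrix.SpecialLinearGroup.center_equiv_rootsOfUnity' (R := F) (0 : Fin 3)
  rw [Nat.card_congr e.toEquiv]
  have htop : rootsOfUnity (Fintype.card (Fin 3)) F = ⊤ := by
    rw [eq_top_iff]
    intro u _
    rw [mem_rootsOfUnity]
    simpa using units_pow_three hF u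
  rw [htop]
  rw [Nat.card_congr (Subgroup.topEquiv (G := Fˣ)).toEquiv, card_units hF]

/-- involutions -/
def A1 (w : F) : Matrix (Fin 3) (Fin 3) F := !![0, w, 0; w ^ 2, 0, 0; 0, 0, 1]
def A2 : Matrix (Fin 3) (Fin 3) F := !![0, 1, 0; 1, 0, 0; 0, 0, 1]
def A3 (w : F) : Matrix (Fin 3) (Fin 3) F := !![1, 0, 0; 0, 0, w ^ 2; 0, w, 0]
def A4 : Matrix (Fin 3) (Fin 3) F := !![1, 0, 0; 0, 0, 1; 0, 1, 0]

omit [Fintype F] in
theorem neg_one_eq_one (h2 : (2 : F) = 0) : (-1 : F) = 1 := by
  have : (1 : F) + 1 = 0 := by rw [one_add_one_eq_two]; exact h2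
  exact neg_eq_of_add_eq_zero_left this

omit [Fintype F] in
theorem det_A1 (h2 : (2 : F) = 0) {w : F} (hw : w ^ 3 = 1) : (A1 w).det = 1 := by
  rw [A1, Matrix.det_fin_three]
  simp
  have : w * w ^ 2 = w ^ 3 := by ring
  rw [this, hw]
  exact neg_one_eq_one h2

omit [Fintype F] in
theorem det_A2 (h2 : (2 : F) = 0) : (A2 : Matrix (Fin 3) (Fin 3) F).det = 1 := by
  rw [A2, Matrix.det_fin_three]
  simp
  exact neg_one_eq_one h2

omit [Fintype F] in
theorem det_A3 (h2 : (2 : F) = 0) {w : F} (hw : w ^ 3 = 1) : (A3 w).det = 1 := by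
  rw [A3, Matrix.det_fin_three]
  simp
  have : w ^ 2 * w = w ^ 3 := by ring
  rw [this, hw]
  exact neg_one_eq_one h2

omit [Fintype F] in
theorem det_A4 (h2 : (2 : F) = 0) : (A4 : Matrix (Fin 3) (Fin 3) F).det = 1 := by
  rw [A4, Matrix.det_fin_three]
  simp
  exact neg_one_eq_one h2

omit [Fintype F] in
theorem A1_sq {w : F} (hw : w ^ 3 = 1) : A1 w * A1 w = 1 := by
  have h1 : w * w ^ 2 = 1 := by rw [← hw]; ring
  have h2 : w ^ 2 * w = 1 := by rw [← hw]; ring
  ext i j
  fin_cases i <;> fin_cases j <;> simp [A1, Matrix.mul_apply, Fin.sum_univ_three, h1, h2]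

omit [Fintype F] in
theorem A2_sq : (A2 : Matrix (Fin 3) (Fin 3) F) * A2 = 1 := by
  ext i j
  fin_cases i <;> fin_cases j <;> simp [A2, Matrix.mul_apply, Fin.sum_univ_three]

omit [Fintype F] in
theorem A3_sq {w : F} (hw : w ^ 3 = 1) : A3 w * A3 w = 1 := by
  have h1 : w * w ^ 2 = 1 := by rw [← hw]; ring
  have h2 : w ^ 2 * w = 1 := by rw [← hw]; ring
  ext i j
  fin_cases i <;> fin_cases j <;> simp [A3, Matrix.mul_apply, Fin.sum_univ_three, h1, h2]

omit [Fintype F] in
theorem A4_sq : (A4 : Matrix (Fin 3) (Fin 3) F) * A4 = 1 := by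
  ext i j
  fin_cases i <;> fin_cases j <;> simp [A4, Matrix.mul_apply, Fin.sum_univ_three]

omit [Fintype F] in
theorem prod_eq {w : F} (hw : w ^ 3 = 1) :
    A1 w * A2 * (A3 w * A4) = Matrix.scalar (Fin 3) w := by
  have h1 : w ^ 2 * w ^ 2 = w := by
    have : w ^ 2 * w ^ 2 = w ^ 3 * w := by ring
    rw [this, hw, one_mul]
  ext i j
  fin_cases i <;> fin_cases j <;>
    simp [A1, A2, A3, A4, Matrix.mul_apply, Fin.sum_univ_three, h1, Matrix.scalar_apply]

end

/-- In a group with a complement `K` to a subgroup `Z` of the centre, of order 3, every involution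
lies in `K`. -/
theorem mem_of_sq_eq_one {G : Type*} [Group G] (Z K : Subgroup G) (hZ : Z ≤ Subgroup.center G)
    (hZ3 : Nat.card Z = 3) (hc : Subgroup.IsComplement' Z K) {g : G} (hg : g * g = 1) : g ∈ K := by
  obtain ⟨⟨⟨z, hz⟩, ⟨k, hk⟩⟩, hzk⟩ := hc.2 g
  simp only at hzk
  have hzc : ∀ x : G, x * z = z * x := fun x => (Subgroup.mem_center_iff.mp (hZ hz)) x
  have h1 : (z * z) * (k * k) = 1 := by
    calc (z * z) * (k * k) = z * (z * k) * k := by group
      _ = z * (k * z) * k := by rw [hzc k]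
      _ = (z * k) * (z * k) := by group
      _ = 1 := by rw [hzk, hg]
  have hinj := hc.1
  have h2 : ((⟨z * z, Z.mul_mem hz hz⟩ : Z), (⟨k * k, K.mul_mem hk hk⟩ : K)) = ((1 : Z), (1 : K)) := by
    apply hinj
    simp only [Subgroup.coe_one, mul_one]
    exact h1
  have hz2 : z * z = 1 := by
    have := congrArg (fun x => (x.1 : G)) h2
    simpa using this
  have hz3 : z ^ 3 = 1 := by
    have : (⟨z, hz⟩ : Z) ^ Nat.card Z = 1 := pow_card_eq_one'
    rw [hZ3] at this
    have := congrArg Subtype.val this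
    simpa using this
  have hz1 : z = 1 := by
    have : z ^ 3 = z * z * z := by rw [pow_three, mul_assoc]
    rw [this, hz2, one_mul] at hz3
    exact hz3
  rw [hz1, one_mul] at hzk
  rw [← hzk]
  exact hk

/-- The special linear group SL(3, 4) has centre of order 3 and does not split over it: no subgroup is a complement to the centre (so SL(3, 4) is a non-split central extension of PSL(3, 4) by a group of order 3). -/
theorem result (F : Type*) [Field F] [Fintype F] (hF : Fintype.card F = 4) : Nat.card ↥(Subgroup.center (Matrix.SpecialLinearGroup (Fin 3) F)) = 3 ∧ ¬ ∃ K : Subgroup (Matrix.SpecialLinearGroup (Fin 3) F), Subgroup.IsComplement' (Subgroup.center (Matrix.SpecialLinearGroup (Fin 3) F)) K := by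
  refine ⟨card_center hF, ?_⟩
  rintro ⟨K, hK⟩
  have h2 := two_eq_zero hF
  obtain ⟨w, hw1, hw3, _⟩ := exists_omega hF
  let B1 : Matrix.SpecialLinearGroup (Fin 3) F := ⟨A1 w, det_A1 h2 hw3⟩
  let B2 : Matrix.SpecialLinearGroup (Fin 3) F := ⟨A2, det_A2 h2⟩
  let B3 : Matrix.SpecialLinearGroup (Fin 3) F := ⟨A3 w, det_A3 h2 hw3⟩
  let B4 : Matrix.SpecialLinearGroup (Fin 3) F := ⟨A4, det_A4 h2⟩
  have hB1 : B1 * B1 = 1 := Subtype.ext (A1_sq hw3)
  have hB2 : B2 * B2 = 1 := Subtype.ext A2_sq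
  have hB3 : B3 * B3 = 1 := Subtype.ext (A3_sq hw3)
  have hB4 : B4 * B4 = 1 := Subtype.ext A4_sq
  have hmem := fun g hg => mem_of_sq_eq_one (Subgroup.center (Matrix.SpecialLinearGroup (Fin 3) F)) K
    le_rfl (card_center hF) hK (g := g) hg
  set C := B1 * B2 * (B3 * B4) with hC
  have hCK : C ∈ K :=
    K.mul_mem (K.mul_mem (hmem _ hB1) (hmem _ hB2)) (K.mul_mem (hmem _ hB3) (hmem _ hB4))
  have hCval : (C : Matrix (Fin 3) (Fin 3) F) = Matrix.scalar (Fin 3) w := prod_eq hw3
  have hCZ : C ∈ Subgroup.center (Matrix.SpecialLinearGroup (Fin 3) F) := by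
    rw [Matrix.SpecialLinearGroup.mem_center_iff]
    exact ⟨w, by simpa using hw3, hCval.symm⟩
  have hC1 : C = 1 := by
    have hdis := hK.disjoint
    have := hdis.le_bot ⟨hCZ, hCK⟩
    simpa using this
  have : (C : Matrix (Fin 3) (Fin 3) F) 0 0 = 1 := by rw [hC1]; simp
  rw [hCval] at this
  simp at this
  exact hw1 this

end Cfsg.Agent.S2738
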