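import Cfsg.Statements.S2739
import Cfsg.Agent.Lib.Helper46.Mat3

set_option autoImplicit false
open scoped Pointwise
open Cfsg

namespace Cfsg.Agent.S2739

/-- In the projective special linear group PSL(3, 4) all subgroups of order 3 are conjugate. -/
theorem result (F : Type*) [Field F] [Fintype F] (hF : Fintype.card F = 4) (X Y : Subgroup (Matrix.ProjectiveSpecialLinearGroup (Fin 3) F)) (hX : Nat.card ↥X = 3) (hY : Nat.card ↥Y = 3) : ∃ g : Matrix.ProjectiveSpecialLinearGroup (Fin 3) F, MulAut.conj g • X = Y := by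
  classical
  -- field facts
  have hcube : ∀ a : F, a ≠ 0 → a ^ 3 = 1 := by
    intro a ha
    have h := FiniteField.pow_card_sub_one_eq_one a ha
    rwa [hF] at h
  obtain ⟨ω, hω0, hω1⟩ : ∃ ω : F, ω ≠ 0 ∧ ω ≠ 1 := by
    by_contra h
    push Not at h
    have hsub : (Finset.univ : Finset F) ⊆ {0, 1} := by
      intro a _
      by_cases ha : a = 0
      · simp [ha]
      · simp [h a ha]
    have h1 := Finset.card_le_card hsub
    rw [Finset.card_univ, hF] at h1
    have h2 : ({0, 1} : Finset F).card ≤ 2 := Finset.card_le_two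
    omega
  have hω3 := hcube ω hω0
  have hω21 : ω ^ 2 ≠ 1 := by
    intro h
    apply hω1
    calc ω = ω ^ 2 * ω := by rw [h, one_mul]
      _ = ω ^ 3 := by ring
      _ = 1 := hω3
  have hω2ω : ω ^ 2 ≠ ω := by
    intro h
    have h1 : ω * (ω - 1) = 0 := by linear_combination h
    rcases mul_eq_zero.mp h1 with h2 | h2
    · exact hω0 h2
    · exact hω1 (sub_eq_zero.mp h2)
  let l : Fin 3 → F := ![1, ω, ω ^ 2]
  have hl : ∀ i, l i ^ 3 = 1 := by
    intro i
    fin_cases i
    · simp [l]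
    · simpa [l] using hω3
    · show (ω ^ 2) ^ 3 = 1
      rw [← pow_mul, mul_comm, pow_mul, hω3, one_pow]
  have h01 : l 0 ≠ l 1 := fun h => hω1 h.symm
  have h02 : l 0 ≠ l 2 := fun h => hω21 h.symm
  have h12 : l 1 ≠ l 2 := fun h => hω2ω h.symm
  have hinj : Function.Injective l := by
    intro i j hij
    fin_cases i <;> fin_cases j <;>
      first
      | rfl
      | exact absurd hij h01
      | exact absurd hij.symm h01
      | exact absurd hij h02
      | exact absurd hij.symm h02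
      | exact absurd hij h12
      | exact absurd hij.symm h12
  have hDdet : Matrix.det (Matrix.diagonal l) = 1 := by
    rw [Matrix.det_diagonal, Fin.prod_univ_three]
    show 1 * ω * ω ^ 2 = 1
    calc 1 * ω * ω ^ 2 = ω ^ 3 := by ring
      _ = 1 := hω3
  let D : Matrix.SpecialLinearGroup (Fin 3) F := ⟨Matrix.diagonal l, hDdet⟩
  have key : ∀ X : Subgroup (Matrix.ProjectiveSpecialLinearGroup (Fin 3) F), Nat.card ↥X = 3 →
      ∃ g : Matrix.ProjectiveSpecialLinearGroup (Fin 3) F,
        MulAut.conj g • X = Subgroup.zpowers (QuotientGroup.mk D) := by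
    intro X hX
    have hfin : Finite X := Nat.finite_of_card_ne_zero (by omega)
    have hnt : Nontrivial X := Finite.one_lt_card_iff_nontrivial.mp (by omega)
    obtain ⟨⟨xb, hxbX⟩, hxb1⟩ : ∃ x : X, x ≠ 1 := exists_ne 1
    have hxb1' : xb ≠ 1 := fun h => hxb1 (Subtype.ext h)
    have hord : orderOf xb = 3 := by
      have h1 : orderOf (⟨xb, hxbX⟩ : X) ∣ Nat.card X := orderOf_dvd_natCard _
      rw [hX, ← Subgroup.orderOf_coe] at h1
      rcases (Nat.dvd_prime (by norm_num : Nat.Prime 3)).mp h1 with h2 | h2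
      · exact absurd (orderOf_eq_one_iff.mp h2) hxb1'
      · exact h2
    have hXz : Subgroup.zpowers xb = X := by
      apply Subgroup.eq_of_le_of_card_ge (Subgroup.zpowers_le.mpr hxbX)
      rw [Nat.card_zpowers, hX, hord]
    have hxb3 : xb ^ 3 = 1 := by
      have h1 := pow_orderOf_eq_one xb
      rwa [hord] at h1
    obtain ⟨x, rfl⟩ := QuotientGroup.mk_surjective xb
    have hx3c : x ^ 3 ∈ Subgroup.center (Matrix.SpecialLinearGroup (Fin 3) F) := by
      rw [← QuotientGroup.eq_one_iff]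
      exact hxb3
    have hxc : x ∉ Subgroup.center (Matrix.SpecialLinearGroup (Fin 3) F) := by
      intro h
      exact hxb1' ((QuotientGroup.eq_one_iff x).mpr h)
    obtain ⟨μ, -, hμ⟩ := Matrix.SpecialLinearGroup.mem_center_iff.mp hx3c
    have hx3 : (x : Matrix (Fin 3) (Fin 3) F) * x * x = μ • (1 : Matrix (Fin 3) (Fin 3) F) := by
      have h1 : ((x ^ 3 : Matrix.SpecialLinearGroup (Fin 3) F) : Matrix (Fin 3) (Fin 3) F)
          = (x : Matrix (Fin 3) (Fin 3) F) * x * x := by
        rw [pow_succ, pow_two]; rfl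
      rw [← h1, ← hμ, Matrix.scalar_apply, ← Matrix.smul_one_eq_diagonal]
    have hns : ∀ a : F, (x : Matrix (Fin 3) (Fin 3) F) ≠ a • (1 : Matrix (Fin 3) (Fin 3) F) := by
      intro a ha
      apply hxc
      rw [Matrix.SpecialLinearGroup.mem_center_iff]
      refine ⟨a, ?_, ?_⟩
      · have h1 := x.2
        rw [ha, Matrix.det_smul, Matrix.det_one, mul_one] at h1
        exact h1
      · rw [ha, Matrix.scalar_apply, ← Matrix.smul_one_eq_diagonal]
    obtain ⟨htr, hc2, -⟩ := Cfsg.Agent.Lib.Helper46.tr_c2_of_cube hcube x.2 hx3 hns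
    obtain ⟨g, hgdet, hg⟩ := Cfsg.Agent.Lib.Helper46.exists_diag_conj htr hc2 x.2 l hl hinj
    let G : Matrix.SpecialLinearGroup (Fin 3) F := ⟨g, hgdet⟩
    have hG : x * G = G * D := Subtype.ext hg
    have hGD : G⁻¹ * x * G⁻¹⁻¹ = D := by
      rw [inv_inv, mul_assoc, hG, ← mul_assoc, inv_mul_cancel, one_mul]
    refine ⟨QuotientGroup.mk G⁻¹, ?_⟩
    rw [← hXz]
    show Subgroup.map (MulAut.conj (QuotientGroup.mk G⁻¹ :
      Matrix.ProjectiveSpecialLinearGroup (Fin 3) F)).toMonoidHom (Subgroup.zpowers _) = _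
    rw [MonoidHom.map_zpowers]
    congr 1
    show (QuotientGroup.mk G⁻¹ : Matrix.ProjectiveSpecialLinearGroup (Fin 3) F) * QuotientGroup.mk x
      * (QuotientGroup.mk G⁻¹)⁻¹ = QuotientGroup.mk D
    rw [← hGD]
    rfl
  obtain ⟨g, hg⟩ := key X hX
  obtain ⟨h, hh⟩ := key Y hY
  refine ⟨h⁻¹ * g, ?_⟩
  rw [map_mul, mul_smul, hg, ← hh, ← mul_smul, ← map_mul, inv_mul_cancel, map_one, one_smul]

end Cfsg.Agent.S2739
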