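import Mathlib
import Cfsg.Statements.S2758
import Cfsg.Agent.Lib.Helper88.Involves

set_option autoImplicit false
open Cfsg

namespace Cfsg.Agent.S2758

open Cfsg.Agent.Lib.Helper88

section elem
variable {G : Type*} [Group G]

/-- if `x` inverts `y` then it inverts every power of `y` -/
theorem conj_zpow_of_inverts (x y : G) (h : x * y * x⁻¹ = y⁻¹) (k : ℤ) :
    x * y ^ k * x⁻¹ = (y ^ k)⁻¹ := by
  have h2 := map_zpow (MulAut.conj x) y k
  simp only [MulAut.conj_apply] at h2
  rw [h2, h, inv_zpow]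

theorem inverts_inv (x y : G) (h : x * y * x⁻¹ = y⁻¹) : x⁻¹ * y * x⁻¹⁻¹ = y⁻¹ := by
  rw [inv_inv]
  have h' : x * y⁻¹ * x⁻¹ = y := by
    have := congrArg (fun z => z⁻¹) h
    simpa [mul_assoc] using this
  calc x⁻¹ * y * x = x⁻¹ * (x * y⁻¹ * x⁻¹) * x := by rw [h']
    _ = y⁻¹ := by group

/-- (III) ⇒ (II) -/
theorem two_of_three {p : ℕ} [Fact p.Prime] (hp : p ≠ 2)
    (h : ∃ x y : G, (∃ k : ℕ, orderOf x = 2 ^ k) ∧ (∃ k : ℕ, orderOf y = p ^ k) ∧ y ≠ 1 ∧
      x * y * x⁻¹ = y⁻¹) :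
    ∃ (x : G) (P : Subgroup G), (∃ k : ℕ, orderOf x = 2 ^ k) ∧ IsPGroup p ↥P ∧
      x ∈ Subgroup.normalizer (P : Set G) ∧ x ∉ Subgroup.centralizer (P : Set G) := by
  obtain ⟨x, y, hx, ⟨k, hk⟩, hy1, hxy⟩ := h
  refine ⟨x, Subgroup.zpowers y, hx, ?_, ?_, ?_⟩
  · apply IsPGroup.of_card (n := k)
    rw [Nat.card_zpowers, hk]
  · rw [Subgroup.mem_normalizer_iff]
    intro g
    constructor
    · rintro ⟨j, rfl⟩
      rw [conj_zpow_of_inverts x y hxy]
      exact Subgroup.inv_mem _ ⟨j, rfl⟩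
    · intro hg
      obtain ⟨j, hj⟩ := Subgroup.mem_zpowers_iff.mp hg
      have h1 := conj_zpow_of_inverts x⁻¹ y (inverts_inv x y hxy) j
      rw [hj] at h1
      have h2 : x⁻¹ * (x * g * x⁻¹) * x⁻¹⁻¹ = g := by group
      rw [h2] at h1
      rw [h1]
      exact Subgroup.inv_mem _ ⟨j, hj⟩
  · intro hc
    rw [Subgroup.mem_centralizer_iff] at hc
    have h1 := hc y (Subgroup.mem_zpowers y)
    have h2 : y = y⁻¹ := by
      rw [← hxy, ← h1]; group
    have h3 : y ^ 2 = 1 := by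
      rw [pow_two]
      nth_rewrite 1 [h2]
      exact inv_mul_cancel y
    have h4 : orderOf y ∣ 2 := orderOf_dvd_of_pow_eq_one h3
    rw [hk] at h4
    have hpp : p.Prime := Fact.out
    rcases Nat.eq_zero_or_pos k with hk0 | hk0
    · rw [hk0, pow_zero, orderOf_eq_one_iff] at hk
      exact hy1 hk
    · have : p ∣ 2 := dvd_trans (dvd_pow_self p (by omega)) h4
      exact hp ((Nat.prime_dvd_prime_iff_eq hpp Nat.prime_two).mp this)

/-- (II) ⇒ (III) -/
theorem three_of_two {p : ℕ} [Fact p.Prime]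
    (h : ∃ (x : G) (P : Subgroup G), (∃ k : ℕ, orderOf x = 2 ^ k) ∧ IsPGroup p ↥P ∧
      x ∈ Subgroup.normalizer (P : Set G) ∧ x ∉ Subgroup.centralizer (P : Set G)) :
    ∃ x y : G, (∃ k : ℕ, orderOf x = 2 ^ k) ∧ (∃ k : ℕ, orderOf y = p ^ k) ∧ y ≠ 1 ∧
      x * y * x⁻¹ = y⁻¹ := by
  obtain ⟨x, P, ⟨k, hk⟩, hP, hxN, hxC⟩ := h
  -- minimal j with x^(2^j) centralizing P
  have hex : ∃ j : ℕ, x ^ (2 ^ j) ∈ Subgroup.centralizer (P : Set G) :=
    ⟨k, by rw [← hk, pow_orderOf_eq_one]; exact Subgroup.one_mem _⟩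
  classical
  set j := Nat.find hex with hj
  have hjmem : x ^ (2 ^ j) ∈ Subgroup.centralizer (P : Set G) := Nat.find_spec hex
  have hj0 : j ≠ 0 := by
    intro h0
    rw [h0, pow_zero, pow_one] at hjmem
    exact hxC hjmem
  obtain ⟨i, hi⟩ : ∃ i, j = i + 1 := ⟨j - 1, by omega⟩
  have hnot : x ^ (2 ^ i) ∉ Subgroup.centralizer (P : Set G) :=
    Nat.find_min hex (by omega)
  set x' := x ^ (2 ^ i) with hx'
  have hx'2 : x' * x' ∈ Subgroup.centralizer (P : Set G) := by
    have : x' * x' = x ^ (2 ^ j) := by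
      rw [hx', ← pow_add, hi, pow_succ]; ring_nf
    rw [this]; exact hjmem
  have hx'N : x' ∈ Subgroup.normalizer (P : Set G) := Subgroup.pow_mem _ hxN _
  have hx'o : ∃ k' : ℕ, orderOf x' = 2 ^ k' := by
    have : orderOf x' ∣ 2 ^ k := by
      rw [← hk]; exact orderOf_pow_dvd _
    exact ⟨_, ((Nat.dvd_prime_pow Nat.prime_two).mp this).choose_spec.2⟩
  -- pick g in P not commuting with x'
  have : ∃ g ∈ P, g * x' ≠ x' * g := by
    by_contra hall
    push Not at hall
    exact hnot (Subgroup.mem_centralizer_iff.mpr hall)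
  obtain ⟨g, hgP, hgx⟩ := this
  set g' := x' * g * x'⁻¹ with hg'
  have hg'P : g' ∈ P := (Subgroup.mem_normalizer_iff.mp hx'N g).mp hgP
  have hyP : g⁻¹ * g' ∈ P := P.mul_mem (P.inv_mem hgP) hg'P
  refine ⟨x', g⁻¹ * g', hx'o, ?_, ?_, ?_⟩
  · obtain ⟨m, hm⟩ := (IsPGroup.iff_orderOf.mp hP) ⟨g⁻¹ * g', hyP⟩
    refine ⟨m, ?_⟩
    rw [← hm, Subgroup.orderOf_mk]
  · intro h1
    apply hgx
    have : g' = g := by
      have := congrArg (fun z => g * z) h1
      simpa using this
    rw [hg'] at this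
    calc g * x' = (x' * g * x'⁻¹) * x' := by rw [this]
      _ = x' * g := by group
  · have hcomm := Subgroup.mem_centralizer_iff.mp hx'2 g hgP
    -- x' g' x'⁻¹ = x'² g x'⁻² = g
    have h1 : x' * g' * x'⁻¹ = g := by
      rw [hg']
      calc x' * (x' * g * x'⁻¹) * x'⁻¹ = (x' * x' * g) * x'⁻¹ * x'⁻¹ := by group
        _ = (g * (x' * x')) * x'⁻¹ * x'⁻¹ := by rw [hcomm]
        _ = g := by group
    calc x' * (g⁻¹ * g') * x'⁻¹ = (x' * g * x'⁻¹)⁻¹ * (x' * g' * x'⁻¹) := by group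
      _ = g'⁻¹ * g := by rw [h1]
      _ = (g⁻¹ * g')⁻¹ := by group

end elem

section dih

/-- the rotation subgroup of a dihedral group -/
def rotSub (n : ℕ) : Subgroup (DihedralGroup n) where
  carrier := {a | ∃ i, a = DihedralGroup.r i}
  mul_mem' := by
    rintro _ _ ⟨i, rfl⟩ ⟨j, rfl⟩
    exact ⟨i + j, DihedralGroup.r_mul_r i j⟩
  one_mem' := ⟨0, DihedralGroup.one_def⟩
  inv_mem' := by
    rintro _ ⟨i, rfl⟩
    exact ⟨-i, DihedralGroup.inv_r i⟩

theorem mem_rotSub {n : ℕ} (a : DihedralGroup n) : a ∈ rotSub n ↔ ∃ i, a = DihedralGroup.r i :=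
  Iff.rfl

instance rotSub_normal (n : ℕ) : (rotSub n).Normal := by
  constructor
  rintro _ ⟨i, rfl⟩ g
  rcases g with j | j
  · refine ⟨i, ?_⟩
    rw [DihedralGroup.r_mul_r, DihedralGroup.inv_r, DihedralGroup.r_mul_r]
    congr 1
    abel
  · refine ⟨-i, ?_⟩
    rw [DihedralGroup.sr_mul_r, DihedralGroup.inv_sr, DihedralGroup.sr_mul_sr]
    congr 1
    abel

theorem not_mem_rotSub_sr {n : ℕ} (j : ZMod n) : DihedralGroup.sr j ∉ rotSub n := by
  rintro ⟨i, hi⟩
  cases hi

theorem sr_pow_odd {n : ℕ} (j : ZMod n) (b : ℕ) (hb : Odd b) :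
    (DihedralGroup.sr j) ^ b = DihedralGroup.sr j := by
  obtain ⟨c, rfl⟩ := hb
  rw [pow_succ, pow_mul, pow_two, DihedralGroup.sr_mul_self, one_pow, one_mul]

end dih

/-- (I) ⇒ (II), for a group mapping onto the dihedral group -/
theorem two_of_surj {H : Type*} [Group H] [Finite H] {p : ℕ} [Fact p.Prime] (hp : p ≠ 2)
    (f : H →* DihedralGroup p) (hf : Function.Surjective f) :
    ∃ (x : H) (P : Subgroup H), (∃ k : ℕ, orderOf x = 2 ^ k) ∧ IsPGroup p ↥P ∧
      x ∈ Subgroup.normalizer (P : Set H) ∧ x ∉ Subgroup.centralizer (P : Set H) := by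
  have hpp : p.Prime := Fact.out
  set N : Subgroup H := (rotSub p).comap f with hN
  have hNn : N.Normal := Subgroup.Normal.comap inferInstance f
  -- a p-element of N mapping to a nontrivial rotation
  obtain ⟨g₁, hg₁⟩ := hf (DihedralGroup.r 1)
  have ho : orderOf g₁ ≠ 0 := (orderOf_pos g₁).ne'
  obtain ⟨a, b, hb, hab⟩ := Nat.exists_eq_pow_mul_and_not_dvd ho p hpp.ne_one
  set g₂ := g₁ ^ b with hg₂
  have hfg₂ : f g₂ = DihedralGroup.r (b : ZMod p) := by
    rw [hg₂, map_pow, hg₁, DihedralGroup.r_one_pow]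
  have hb0 : (b : ZMod p) ≠ 0 := by
    rw [Ne, ZMod.natCast_eq_zero_iff]
    exact hb
  have hg₂N : g₂ ∈ N := by
    rw [hN, Subgroup.mem_comap, hfg₂]
    exact ⟨_, rfl⟩
  have hg₂pow : g₂ ^ (p ^ a) = 1 := by
    rw [hg₂, ← pow_mul, mul_comm, ← hab, pow_orderOf_eq_one]
  have hZ : IsPGroup p (Subgroup.zpowers (⟨g₂, hg₂N⟩ : N)) := by
    have hdvd : orderOf (⟨g₂, hg₂N⟩ : N) ∣ p ^ a := by
      apply orderOf_dvd_of_pow_eq_one
      apply Subtype.ext
      simpa using hg₂pow
    obtain ⟨m, -, hm⟩ := (Nat.dvd_prime_pow hpp).mp hdvd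
    apply IsPGroup.of_card (n := m)
    rw [Nat.card_zpowers, hm]
  obtain ⟨P₀, hP₀⟩ := hZ.exists_le_sylow
  have hg₂P : g₂ ∈ (P₀ : Subgroup N).map N.subtype :=
    ⟨⟨g₂, hg₂N⟩, hP₀ (Subgroup.mem_zpowers _), rfl⟩
  -- Frattini
  have hfr := Sylow.normalizer_sup_eq_top P₀
  obtain ⟨h₀, hh₀⟩ := hf (DihedralGroup.sr 0)
  have hmem : h₀ ∈ Subgroup.normalizer (((P₀ : Subgroup N).map N.subtype : Subgroup H) : Set H) ⊔ N := by
    rw [hfr]; trivial
  rw [Subgroup.mem_sup_of_normal_right] at hmem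
  obtain ⟨n, hn, m, hm, hnm⟩ := hmem
  have hfn : ∃ j, f n = DihedralGroup.sr j := by
    rcases hfn' : f n with i | j
    · exfalso
      obtain ⟨i', hi'⟩ := hm
      have : f h₀ = DihedralGroup.r (i + i') := by
        rw [← hnm, map_mul, hfn', hi', DihedralGroup.r_mul_r]
      rw [hh₀] at this
      cases this
    · exact ⟨j, rfl⟩
  obtain ⟨j, hj⟩ := hfn
  -- the 2-part of n
  have hon : orderOf n ≠ 0 := (orderOf_pos n).ne'
  obtain ⟨a', b', hb', hab'⟩ := Nat.exists_eq_two_pow_mul_odd hon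
  set x := n ^ b' with hx
  have hfx : f x = DihedralGroup.sr j := by
    rw [hx, map_pow, hj, sr_pow_odd j b' hb']
  have hxo : ∃ k : ℕ, orderOf x = 2 ^ k := by
    have hdvd : orderOf x ∣ 2 ^ a' := by
      apply orderOf_dvd_of_pow_eq_one
      rw [hx, ← pow_mul, mul_comm, ← hab', pow_orderOf_eq_one]
    obtain ⟨m, -, hm⟩ := (Nat.dvd_prime_pow Nat.prime_two).mp hdvd
    exact ⟨m, hm⟩
  refine ⟨x, (P₀ : Subgroup N).map N.subtype, hxo, P₀.isPGroup'.map _, Subgroup.pow_mem _ hn _, ?_⟩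
  intro hc
  have h1 := Subgroup.mem_centralizer_iff.mp hc g₂ hg₂P
  have h2 := congrArg f h1
  rw [map_mul, map_mul, hfx, hfg₂, DihedralGroup.r_mul_sr, DihedralGroup.sr_mul_r] at h2
  have h3 : j - (b : ZMod p) = j + (b : ZMod p) := by
    injection h2
  have h4 : (2 : ZMod p) * (b : ZMod p) = 0 := by
    linear_combination (-1 : ZMod p) * h3
  have h5 : (2 : ZMod p) ≠ 0 := by
    have : ((2 : ℕ) : ZMod p) ≠ 0 := by
      rw [Ne, ZMod.natCast_eq_zero_iff]
      intro hdvd
      exact hp ((Nat.prime_dvd_prime_iff_eq hpp Nat.prime_two).mp hdvd)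
    simpa using this
  rcases mul_eq_zero.mp h4 with h | h
  · exact h5 h
  · exact hb0 h

section Dih
variable {G : Type*} [Group G]

/-- powers of `ρ` indexed by `ZMod n`, where `ρ ^ n = 1` (construction due to helper61, S3684) -/
noncomputable def zpw (ρ : G) (n : ℕ) (h : ρ ^ n = 1) : ZMod n →+ Additive G :=
  ZMod.lift n ⟨zmultiplesHom (Additive G) (Additive.ofMul ρ), by
    simp only [zmultiplesHom_apply]
    rw [natCast_zsmul, ← ofMul_pow, h, ofMul_one]⟩

theorem zpw_one (ρ : G) (n : ℕ) (h : ρ ^ n = 1) : (zpw ρ n h 1).toMul = ρ := by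
  have : (1 : ZMod n) = ((1 : ℤ) : ZMod n) := by simp
  rw [zpw, this, ZMod.lift_coe]
  simp

theorem zpw_mem (ρ : G) (n : ℕ) (h : ρ ^ n = 1) (i : ZMod n) :
    (zpw ρ n h i).toMul ∈ Subgroup.zpowers ρ := by
  have : i = ((ZMod.cast i : ℤ) : ZMod n) := (ZMod.intCast_zmod_cast i).symm
  rw [zpw, this, ZMod.lift_coe]
  simp only [zmultiplesHom_apply]
  rw [← ofMul_zpow, toMul_ofMul]
  exact Subgroup.zpow_mem_zpowers ρ _

theorem zpw_injective (ρ : G) (n : ℕ) (h : ρ ^ n = 1) (ho : orderOf ρ = n) :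
    Function.Injective (zpw ρ n h) := by
  unfold zpw
  rw [ZMod.lift_injective]
  intro m hm
  simp only [zmultiplesHom_apply] at hm
  rw [← ofMul_zpow] at hm
  have h1 : ρ ^ m = 1 := by
    have := congrArg Additive.toMul hm
    simpa using this
  rw [ZMod.intCast_zmod_eq_zero_iff_dvd, ← ho]
  exact orderOf_dvd_iff_zpow_eq_one.mpr h1

/-- The homomorphism from the dihedral group determined by two involutions
(construction due to helper61, S3684). -/
noncomputable def dihedralHom (s t : G) (hs : s * s = 1) (ht : t * t = 1) (n : ℕ)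
    (hn : (s * t) ^ n = 1) : DihedralGroup n →* G :=
  MonoidHom.mk' (fun x => match x with
    | DihedralGroup.r i => (zpw (s * t) n hn i).toMul
    | DihedralGroup.sr i => s * (zpw (s * t) n hn i).toMul) (by
    -- conjugation by s inverts zpowers (s * t)
    have hsinv : s⁻¹ = s := inv_eq_of_mul_eq_one_left hs
    have htinv : t⁻¹ = t := inv_eq_of_mul_eq_one_left ht
    have hconj : ∀ c ∈ Subgroup.zpowers (s * t), s * c * s = c⁻¹ := by
      intro c hc
      obtain ⟨k, rfl⟩ := hc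
      have h1 : s * (s * t) * s⁻¹ = (s * t)⁻¹ := by
        rw [mul_inv_rev, hsinv, htinv, ← mul_assoc, hs, one_mul]
      have h2 := map_zpow (MulAut.conj s) (s * t) k
      simp only [MulAut.conj_apply] at h2
      rw [h1, hsinv] at h2
      rw [h2, inv_zpow]
    intro x y
    rcases x with i | i <;> rcases y with j | j
    · show (zpw (s * t) n hn (i + j)).toMul = _
      rw [map_add, toMul_add]
    · show s * (zpw (s * t) n hn (j - i)).toMul = (zpw (s * t) n hn i).toMul * (s * (zpw (s * t) n hn j).toMul)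
      have h3 := hconj _ (zpw_mem (s * t) n hn i)
      rw [sub_eq_neg_add, map_add, map_neg, toMul_add, toMul_neg, ← h3]
      simp only [mul_assoc]
      rw [← mul_assoc s s, hs, one_mul]
    · show s * (zpw (s * t) n hn (i + j)).toMul = s * (zpw (s * t) n hn i).toMul * (zpw (s * t) n hn j).toMul
      rw [map_add, toMul_add, mul_assoc]
    · show (zpw (s * t) n hn (j - i)).toMul = s * (zpw (s * t) n hn i).toMul * (s * (zpw (s * t) n hn j).toMul)
      have h3 := hconj _ (zpw_mem (s * t) n hn i)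
      rw [sub_eq_neg_add, map_add, map_neg, toMul_add, toMul_neg, ← h3]
      simp only [mul_assoc])

theorem dihedralHom_r (s t : G) (hs : s * s = 1) (ht : t * t = 1) (n : ℕ)
    (hn : (s * t) ^ n = 1) (i : ZMod n) :
    dihedralHom s t hs ht n hn (DihedralGroup.r i) = (zpw (s * t) n hn i).toMul := rfl

theorem dihedralHom_sr (s t : G) (hs : s * s = 1) (ht : t * t = 1) (n : ℕ)
    (hn : (s * t) ^ n = 1) (i : ZMod n) :
    dihedralHom s t hs ht n hn (DihedralGroup.sr i) = s * (zpw (s * t) n hn i).toMul := rfl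

/-- If `s` is an involution inverting the element `u` of odd prime order `p`,
then `⟨s, u⟩` is dihedral of order `2p`: the hom from `D_p` is injective. -/
theorem dihedralHom_injective {p : ℕ} [Fact p.Prime] (hp : p ≠ 2) (s u : G) (hs : s * s = 1)
    (ht : (s * u) * (s * u) = 1) (hn : (s * (s * u)) ^ p = 1) (hu : orderOf u = p) :
    Function.Injective (dihedralHom s (s * u) hs ht p hn) := by
  have hpp : p.Prime := Fact.out
  have hsu : s * (s * u) = u := by rw [← mul_assoc, hs, one_mul]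
  have hsinv : s⁻¹ = s := inv_eq_of_mul_eq_one_left hs
  rw [injective_iff_map_eq_one]
  intro a ha
  rcases a with i | i
  · rw [dihedralHom_r] at ha
    have h0 : zpw (s * (s * u)) p hn i = 0 := by
      have := congrArg Additive.ofMul ha
      simpa using this
    have hinj := zpw_injective (s * (s * u)) p hn (by rw [hsu]; exact hu)
    have : i = 0 := hinj (by rw [h0, map_zero])
    rw [this]; rfl
  · exfalso
    rw [dihedralHom_sr] at ha
    have hc : (zpw (s * (s * u)) p hn i).toMul ∈ Subgroup.zpowers u := by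
      have := zpw_mem (s * (s * u)) p hn i
      rwa [show Subgroup.zpowers (s * (s * u)) = Subgroup.zpowers u from by rw [hsu]] at this
    set c := (zpw (s * (s * u)) p hn i).toMul with hcdef
    have hsc : s = c⁻¹ := eq_inv_of_mul_eq_one_left ha
    have hsz : s ∈ Subgroup.zpowers u := by rw [hsc]; exact Subgroup.inv_mem _ hc
    -- s commutes with u
    obtain ⟨k, hk⟩ := Subgroup.mem_zpowers_iff.mp hsz
    have hcomm : s * u = u * s := by
      rw [← hk, ← zpow_add_one, ← zpow_one_add, add_comm]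
    -- but s u s = u⁻¹
    have h1 : u * u = 1 := by
      have h2 : s * u * (s * u) = u * u := by
        calc s * u * (s * u) = s * (u * s) * u := by group
          _ = s * (s * u) * u := by rw [hcomm]
          _ = (s * s) * u * u := by group
          _ = u * u := by rw [hs, one_mul]
      rw [← h2]; exact ht
    have h3 : orderOf u ∣ 2 := orderOf_dvd_of_pow_eq_one (by rw [pow_two]; exact h1)
    rw [hu] at h3
    exact hp ((Nat.prime_dvd_prime_iff_eq hpp Nat.prime_two).mp h3)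

end Dih

/-- (III) ⇒ (I) -/
theorem one_of_three {G : Type*} [Group G] [Finite G] {p : ℕ} [Fact p.Prime] (hp : p ≠ 2)
    (h : ∃ x y : G, (∃ k : ℕ, orderOf x = 2 ^ k) ∧ (∃ k : ℕ, orderOf y = p ^ k) ∧ y ≠ 1 ∧
      x * y * x⁻¹ = y⁻¹) : Cfsg.Involves (DihedralGroup p) G := by
  have hpp : p.Prime := Fact.out
  obtain ⟨x, y, ⟨k, hk⟩, ⟨m, hm⟩, hy1, hxy⟩ := h
  -- an element of order p inverted by x
  have hm0 : m ≠ 0 := by
    intro h0
    rw [h0, pow_zero, orderOf_eq_one_iff] at hm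
    exact hy1 hm
  have hpdvd : p ∣ orderOf y := by rw [hm]; exact dvd_pow_self p hm0
  set y₀ := y ^ (orderOf y / p) with hy₀
  have hy₀o : orderOf y₀ = p := orderOf_pow_orderOf_div (orderOf_pos y).ne' hpdvd
  have hxy₀ : x * y₀ * x⁻¹ = y₀⁻¹ := by
    have := conj_zpow_of_inverts x y hxy ((orderOf y / p : ℕ) : ℤ)
    rwa [zpow_natCast] at this
  have hy₀p : y₀ ^ p = 1 := by rw [← hy₀o]; exact pow_orderOf_eq_one y₀
  -- the subgroups
  set K : Subgroup G := Subgroup.closure {x, y₀} with hK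
  set R : Subgroup G := Subgroup.zpowers (x ^ 2) with hR
  have hxK : x ∈ K := Subgroup.subset_closure (by simp)
  have hyK : y₀ ∈ K := Subgroup.subset_closure (by simp)
  have hcommy : y₀ * x ^ 2 = x ^ 2 * y₀ := by
    have h1 : x * y₀ = y₀⁻¹ * x := by
      calc x * y₀ = (x * y₀ * x⁻¹) * x := by group
        _ = y₀⁻¹ * x := by rw [hxy₀]
    have h2 : x * y₀⁻¹ = y₀ * x := by
      have : x * y₀⁻¹ * x⁻¹ = y₀ := by
        have := congrArg (fun z => z⁻¹) hxy₀
        simpa [mul_assoc] using this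
      calc x * y₀⁻¹ = (x * y₀⁻¹ * x⁻¹) * x := by group
        _ = y₀ * x := by rw [this]
    calc y₀ * x ^ 2 = (y₀ * x) * x := by rw [pow_two, mul_assoc]
      _ = x * y₀⁻¹ * x := by rw [h2]
      _ = x * (y₀⁻¹ * x) := by rw [mul_assoc]
      _ = x * (x * y₀) := by rw [h1]
      _ = x ^ 2 * y₀ := by rw [pow_two, mul_assoc]
  have hKc : ∀ g ∈ K, ∀ r ∈ R, g * r = r * g := by
    intro g hg r hr
    have hKle : K ≤ Subgroup.centralizer ((R : Subgroup G) : Set G) := by
      rw [hK, Subgroup.closure_le]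
      intro z hz
      have hz2 : z * x ^ 2 = x ^ 2 * z := by
        rcases hz with rfl | rfl
        · rw [pow_two]; group
        · exact hcommy
      rw [SetLike.mem_coe, Subgroup.mem_centralizer_iff]
      intro r hr
      obtain ⟨j, rfl⟩ := Subgroup.mem_zpowers_iff.mp hr
      exact ((Commute.zpow_right (show Commute z (x ^ 2) from hz2) j).eq).symm
    exact ((Subgroup.mem_centralizer_iff.mp (hKle hg)) r hr).symm
  have hnorm : (R.subgroupOf K).Normal := by
    constructor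
    intro n hn g
    rw [Subgroup.mem_subgroupOf] at hn ⊢
    have : ((g * n * g⁻¹ : K) : G) = (n : G) := by
      push_cast
      rw [hKc g g.2 n hn]; group
    rw [this]; exact hn
  -- generators of the quotient
  set s : K ⧸ R.subgroupOf K := QuotientGroup.mk ⟨x, hxK⟩ with hs
  set u : K ⧸ R.subgroupOf K := QuotientGroup.mk ⟨y₀, hyK⟩ with hu
  have hss : s * s = 1 := by
    rw [hs, ← QuotientGroup.mk_mul, QuotientGroup.eq_one_iff, Subgroup.mem_subgroupOf]
    push_cast
    rw [← pow_two]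
    exact Subgroup.mem_zpowers _
  have hsus : s * u * s⁻¹ = u⁻¹ := by
    rw [hs, hu, ← QuotientGroup.mk_inv, ← QuotientGroup.mk_mul, ← QuotientGroup.mk_mul,
      ← QuotientGroup.mk_inv]
    congr 1
    exact Subtype.ext hxy₀
  have hsinv : s⁻¹ = s := inv_eq_of_mul_eq_one_left hss
  have hup : u ^ p = 1 := by
    rw [hu, ← QuotientGroup.mk_pow]
    have : (⟨y₀, hyK⟩ : K) ^ p = 1 := Subtype.ext (by push_cast; exact hy₀p)
    rw [this]; rfl
  have hu1 : u ≠ 1 := by
    intro h1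
    rw [hu, QuotientGroup.eq_one_iff, Subgroup.mem_subgroupOf] at h1
    have h2 : y₀ ∈ R := h1
    have h3 : orderOf y₀ ∣ Nat.card R := Subgroup.orderOf_dvd_natCard R h2
    rw [hR, Nat.card_zpowers, hy₀o] at h3
    have h4 : p ∣ 2 ^ k := by
      rw [← hk]
      exact dvd_trans h3 (orderOf_pow_dvd 2)
    have h5 : p ∣ 2 := hpp.dvd_of_dvd_pow h4
    exact hp ((Nat.prime_dvd_prime_iff_eq hpp Nat.prime_two).mp h5)
  have huo : orderOf u = p := orderOf_eq_prime hup hu1
  have htt : (s * u) * (s * u) = 1 := by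
    calc (s * u) * (s * u) = (s * u * s⁻¹) * u := by rw [hsinv]; group
      _ = 1 := by rw [hsus]; group
  have hsu : s * (s * u) = u := by rw [← mul_assoc, hss, one_mul]
  have hnp : (s * (s * u)) ^ p = 1 := by rw [hsu]; exact hup
  set f := dihedralHom s (s * u) hss htt p hnp with hf
  have hinj : Function.Injective f := dihedralHom_injective hp s u hss htt hnp huo
  have hfs : f (DihedralGroup.sr 0) = s := by
    rw [hf, dihedralHom_sr, map_zero, toMul_zero, mul_one]
  have hfu : f (DihedralGroup.r 1) = u := by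
    rw [hf, dihedralHom_r, zpw_one, hsu]
  have hsurj : Function.Surjective f := by
    intro q
    obtain ⟨⟨g, hg⟩, rfl⟩ := QuotientGroup.mk_surjective q
    have key : ∀ (g : G) (hg : g ∈ K), (QuotientGroup.mk (⟨g, hg⟩ : K) : K ⧸ R.subgroupOf K) ∈ f.range := by
      intro g hg
      induction hg using Subgroup.closure_induction with
      | mem z hz =>
        rcases hz with rfl | rfl
        · exact ⟨_, hfs⟩
        · exact ⟨_, hfu⟩
      | one => exact Subgroup.one_mem _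
      | mul a b ha hb iha ihb => exact Subgroup.mul_mem _ iha ihb
      | inv a ha iha => exact Subgroup.inv_mem _ iha
    exact key g hg
  exact ⟨K, R, hnorm, ⟨(MulEquiv.ofBijective f ⟨hinj, hsurj⟩).symm⟩⟩

/-- For an odd prime p and a finite group G the following are equivalent: the dihedral group of order 2p is involved in G; some element of 2-power order normalizes but does not centralize some p-subgroup of G; some element of 2-power order inverts some nonidentity element of p-power order. -/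
theorem result {G : Type*} [Group G] [Finite G] {p : ℕ} [Fact p.Prime] (hp : p ≠ 2) : (Cfsg.Involves (DihedralGroup p) G ↔ ∃ (x : G) (P : Subgroup G), (∃ k : ℕ, orderOf x = 2 ^ k) ∧ IsPGroup p ↥P ∧ x ∈ Subgroup.normalizer (P : Set G) ∧ x ∉ Subgroup.centralizer (P : Set G)) ∧ (Cfsg.Involves (DihedralGroup p) G ↔ ∃ x y : G, (∃ k : ℕ, orderOf x = 2 ^ k) ∧ (∃ k : ℕ, orderOf y = p ^ k) ∧ y ≠ 1 ∧ x * y * x⁻¹ = y⁻¹) := by
  have h13 : Cfsg.Involves (DihedralGroup p) G → ∃ x y : G, (∃ k : ℕ, orderOf x = 2 ^ k) ∧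
      (∃ k : ℕ, orderOf y = p ^ k) ∧ y ≠ 1 ∧ x * y * x⁻¹ = y⁻¹ := by
    intro h
    rw [involves_iff_exists_surj] at h
    obtain ⟨K, f, hf⟩ := h
    obtain ⟨x, y, ⟨k, hk⟩, ⟨m, hm⟩, hy1, hxy⟩ := three_of_two (two_of_surj hp f hf)
    refine ⟨(x : G), (y : G), ⟨k, ?_⟩, ⟨m, ?_⟩, ?_, ?_⟩
    · rw [Subgroup.orderOf_coe, hk]
    · rw [Subgroup.orderOf_coe, hm]
    · intro h1
      exact hy1 (Subtype.ext h1)
    · have := congrArg (fun z : K => (z : G)) hxy
      simpa using this
  refine ⟨⟨fun h => two_of_three hp (h13 h), fun h => one_of_three hp (three_of_two h)⟩,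
    ⟨h13, one_of_three hp⟩⟩

end Cfsg.Agent.S2758
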