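import Cfsg.Statements.S2760
import Cfsg.Agent.Lib.Helper49.CharP2
import Cfsg.Agent.Lib.Helper46.Amalgam

set_option autoImplicit false
open Cfsg

namespace Cfsg.Agent.S2760

open Cfsg.Agent.Lib.Helper49

/-- Characteristic `p` passes to normal subgroups. -/
theorem charp_of_normal {G : Type*} [Group G] [Finite G] {p : ℕ} [Fact p.Prime]
    (hchar : Subgroup.centralizer (Cfsg.pCore p G : Set G) ≤ Cfsg.pCore p G)
    (H : Subgroup G) (hH : H.Normal) :
    Subgroup.centralizer (Cfsg.pCore p ↥H : Set ↥H) ≤ Cfsg.pCore p ↥H := by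
  apply charP_subgroup_of_forall
  intro x hxH hxC hcop
  apply eq_one_of_coprime_of_commute_comm hchar hcop
  intro r hr
  have hz1 : x * r * x⁻¹ * r⁻¹ ∈ H := by
    have : x * r * x⁻¹ * r⁻¹ = x * (r * x⁻¹ * r⁻¹) := by group
    rw [this]
    exact H.mul_mem hxH (hH.conj_mem _ (H.inv_mem hxH) r)
  have hz2 : x * r * x⁻¹ * r⁻¹ ∈ pCore p G :=
    (pCore p G).mul_mem ((pCore_normal p G).conj_mem r hr x) ((pCore p G).inv_mem hr)
  have hz : x * r * x⁻¹ * r⁻¹ ∈ pCoreIn p H := pCore_inf_le_pCoreIn H ⟨hz2, hz1⟩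
  exact ((Subgroup.mem_centralizer_iff.mp hxC) _ hz).symm

theorem isPGroup_eq_one_of_coprime {G : Type*} [Group G] {p : ℕ} [Fact p.Prime] {x : G}
    (hk : ∃ k : ℕ, x ^ (p ^ k) = 1) (hcop : (orderOf x).Coprime p) : x = 1 := by
  obtain ⟨k, hk⟩ := hk
  have hd : orderOf x ∣ p ^ k := orderOf_dvd_of_pow_eq_one hk
  have hcop' : (orderOf x).Coprime (p ^ k) := Nat.Coprime.pow_right k hcop
  have : orderOf x = 1 := Nat.eq_one_of_dvd_coprimes hcop' dvd_rfl hd
  exact orderOf_eq_one_iff.mp this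

/-- Characteristic `p` passes to `H` when `O^p(H)` is normal in `G`. -/
theorem charp_of_residual_normal {G : Type*} [Group G] [Finite G] {p : ℕ} [Fact p.Prime]
    (hchar : Subgroup.centralizer (Cfsg.pCore p G : Set G) ≤ Cfsg.pCore p G)
    (H : Subgroup G) (hK : ((Cfsg.pResidual p ↥H).map H.subtype).Normal) :
    Subgroup.centralizer (Cfsg.pCore p ↥H : Set ↥H) ≤ Cfsg.pCore p ↥H := by
  set K := (Cfsg.pResidual p ↥H).map H.subtype with hKdef
  have hKH : K ≤ H := Subgroup.map_subtype_le _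
  have hKchar := charp_of_normal hchar K hK
  apply charP_subgroup_of_forall
  intro x hxH hxC hcop
  -- x lies in K
  have hxK : x ∈ K := by
    refine ⟨⟨x, hxH⟩, ?_, rfl⟩
    apply Subgroup.subset_closure
    show Nat.Coprime (orderOf (⟨x, hxH⟩ : H)) p
    rw [← Subgroup.orderOf_coe]
    exact hcop
  -- O_p(K) ≤ O_p(H)
  have hle : pCoreIn p K ≤ pCoreIn p H := by
    apply le_pCoreIn_of_normalized ((pCoreIn_le p K).trans hKH)
    · apply Cfsg.Agent.Lib.Helper46.le_normalizer_of_map_conj_le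
      intro h hh
      have h1 : K.map (MulAut.conj h).toMonoidHom = K := by
        ext y
        simp only [Subgroup.mem_map, MulEquiv.coe_toMonoidHom, MulAut.conj_apply]
        constructor
        · rintro ⟨z, hz, rfl⟩
          exact hK.conj_mem z hz h
        · intro hy
          refine ⟨h⁻¹ * y * h, ?_, by group⟩
          have := hK.conj_mem y hy h⁻¹
          simpa using this
      have h2 := Cfsg.Agent.Lib.Helper46.pCoreOf_map (p := p) K (MulAut.conj h)
      rw [h1] at h2
      exact h2.symm.le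
    · exact Cfsg.Agent.Lib.Helper46.pCoreOf_isPGroup K
  have hxCK : (⟨x, hxK⟩ : K) ∈ Subgroup.centralizer (pCore p K : Set K) := by
    rw [mem_centralizer_pCore_iff]
    exact Subgroup.centralizer_le hle hxC
  have hxQ : (⟨x, hxK⟩ : K) ∈ pCore p K := hKchar hxCK
  have hxp : ∃ k : ℕ, x ^ (p ^ k) = 1 := by
    obtain ⟨k, hk⟩ := pow_eq_one_of_mem_pCore hxQ
    exact ⟨k, by simpa using congrArg Subtype.val hk⟩
  exact isPGroup_eq_one_of_coprime hxp hcop

/-- Let G be a finite group with C_G(O₂(G)) ≤ O₂(G) and H a subgroup of G such that H is normal in G, or the subgroup O²(H) generated by the elements of H of odd order is normal in G. Then C_H(O₂(H)) ≤ O₂(H). -/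
theorem result {G : Type*} [Group G] [Finite G] (hchar : Subgroup.centralizer (Cfsg.pCore 2 G : Set G) ≤ Cfsg.pCore 2 G) (H : Subgroup G) (hH : H.Normal ∨ ((Cfsg.pResidual 2 ↥H).map H.subtype).Normal) : Subgroup.centralizer (Cfsg.pCore 2 ↥H : Set ↥H) ≤ Cfsg.pCore 2 ↥H := by
  have : Fact (Nat.Prime 2) := ⟨Nat.prime_two⟩
  rcases hH with hH | hH
  · exact charp_of_normal hchar H hH
  · exact charp_of_residual_normal hchar H hH

end Cfsg.Agent.S2760
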