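import Cfsg.Statements.S2761
import Cfsg.Agent.Lib.Helper46.Qd

set_option autoImplicit false
open Cfsg

namespace Cfsg.Agent.S2761

/-- the four points of the affine plane over `ZMod 2`, as vectors `(a, b, 1)` -/
def pt (k : Fin 4) : Fin 3 → ZMod 2 := ![(k.val % 2 : ℕ), (k.val / 2 : ℕ), 1]

/-- matrix of the affine map determined by a permutation -/
def gM (σ : Equiv.Perm (Fin 4)) : Matrix (Fin 3) (Fin 3) (ZMod 2) :=
  Matrix.of fun i j => match j with
    | 0 => pt (σ 1) i - pt (σ 0) i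
    | 1 => pt (σ 2) i - pt (σ 0) i
    | 2 => pt (σ 0) i

set_option maxRecDepth 100000 in
theorem gM_det : ∀ σ : Equiv.Perm (Fin 4), (gM σ).det = 1 := by
  decide

set_option maxRecDepth 100000 in
theorem gM_mul : ∀ σ τ : Equiv.Perm (Fin 4), gM (σ * τ) = gM σ * gM τ := by
  decide

set_option maxRecDepth 100000 in
theorem gM_one : gM 1 = 1 := by
  decide

set_option maxRecDepth 100000 in
theorem gM_inj : ∀ σ : Equiv.Perm (Fin 4), gM σ = 1 → σ = 1 := by
  decide

set_option maxRecDepth 100000 in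
theorem gM_lastrow : ∀ σ : Equiv.Perm (Fin 4), gM σ 2 0 = 0 ∧ gM σ 2 1 = 0 ∧ gM σ 2 2 = 1 := by
  decide

set_option maxRecDepth 100000 in
theorem gM_surj : ∀ a b c d t₀ t₁ : ZMod 2, a * d - b * c = 1 →
    ∃ σ : Equiv.Perm (Fin 4), gM σ = !![a, b, t₀; c, d, t₁; 0, 0, 1] := by
  decide

/-- the homomorphism `S₄ → SL₃(2)` -/
def gHom : Equiv.Perm (Fin 4) →* Matrix.SpecialLinearGroup (Fin 3) (ZMod 2) where
  toFun σ := ⟨gM σ, gM_det σ⟩
  map_one' := Subtype.ext gM_one
  map_mul' σ τ := Subtype.ext (gM_mul σ τ)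

theorem gHom_mem (σ : Equiv.Perm (Fin 4)) : gHom σ ∈ Cfsg.qd 2 := by
  rw [Cfsg.Agent.Lib.Helper46.mem_qd]
  exact gM_lastrow σ

theorem gHom_injective : Function.Injective gHom := by
  rw [injective_iff_map_eq_one]
  intro σ hσ
  apply gM_inj
  have := congrArg Subtype.val hσ
  exact this

theorem gHom_surj (M : Matrix.SpecialLinearGroup (Fin 3) (ZMod 2)) (hM : M ∈ Cfsg.qd 2) :
    ∃ σ, gHom σ = M := by
  rw [Cfsg.Agent.Lib.Helper46.mem_qd] at hM
  obtain ⟨h0, h1, h2⟩ := hM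
  have hM' : (M : Matrix (Fin 3) (Fin 3) (ZMod 2)) =
      !![M.1 0 0, M.1 0 1, M.1 0 2; M.1 1 0, M.1 1 1, M.1 1 2; 0, 0, 1] := by
    ext i j
    fin_cases i <;> fin_cases j <;> simp [h0, h1, h2]
  have hdet : M.1 0 0 * M.1 1 1 - M.1 0 1 * M.1 1 0 = 1 := by
    have := M.2
    rw [Matrix.det_fin_three, h0, h1, h2] at this
    linear_combination this
  obtain ⟨σ, hσ⟩ := gM_surj _ _ _ _ (M.1 0 2) (M.1 1 2) hdet
  refine ⟨σ, Subtype.ext ?_⟩
  show gM σ = M.1
  rw [hσ, ← hM']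

/-- The group Qd(2), the natural semidirect product of an elementary abelian group of order 4 by SL₂(2) (realised as the affine subgroup of SL₃(2)), is isomorphic to the symmetric group of degree 4. -/
theorem result : Nonempty (↥(Cfsg.qd 2) ≃* Equiv.Perm (Fin 4)) := by
  have hbij : Function.Bijective (gHom.codRestrict (Cfsg.qd 2) gHom_mem) := by
    constructor
    · intro σ τ h
      apply gHom_injective
      exact congrArg Subtype.val h
    · rintro ⟨M, hM⟩
      obtain ⟨σ, hσ⟩ := gHom_surj M hM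
      exact ⟨σ, Subtype.ext hσ⟩
  exact ⟨(MulEquiv.ofBijective _ hbij).symm⟩

end Cfsg.Agent.S2761
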