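import Cfsg.Statements.S2763
import Cfsg.Agent.S3074
import Cfsg.Agent.Lib.Helper37.QdNotPLoc
import Mathlib
-- import your own Cfsg.Agent.* helpers here

set_option autoImplicit false
open Cfsg

namespace Cfsg.Agent.S2763

open Cfsg.Agent.S3074 Cfsg.Agent.Lib.Helper37
open scoped Pointwise

/-! ### General transport lemmas -/

/-- `N(H)` normalizes the image in `G` of every characteristic subgroup of `H`. -/
theorem normalizer_le_of_char {G : Type*} [Group G] (H : Subgroup G) (C : Subgroup ↥H)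
    (hC : C.Characteristic) :
    Subgroup.normalizer (H : Set G) ≤ Subgroup.normalizer ((C.map H.subtype : Subgroup G) : Set G) := by
  rw [Subgroup.le_normalizer_iff]
  rintro k hk x ⟨c, hc, rfl⟩
  have hφ := (Subgroup.characteristic_iff_map_eq.mp hC) (H.normalizerMonoidHom ⟨k, hk⟩)
  have hmem : (H.normalizerMonoidHom ⟨k, hk⟩) c ∈ C := by
    rw [← hφ]
    exact Subgroup.mem_map_of_mem _ hc
  refine ⟨(H.normalizerMonoidHom ⟨k, hk⟩) c, hmem, ?_⟩
  simp [Subgroup.normalizerMonoidHom_apply_apply_coe]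

/-- Transport of the statement along an automorphism of the ambient group. -/
theorem transport {G : Type*} [Group G] (S₀ S : Subgroup G) (c : G ≃* G)
    (hS : S = S₀.map c.toMonoidHom)
    (h₀ : ∀ T₀ : Subgroup ↥S₀, T₀ ≠ ⊥ → T₀.Characteristic →
      Subgroup.normalizer ((T₀.map S₀.subtype : Subgroup G) : Set G) = Subgroup.normalizer (S₀ : Set G))
    (h₁ : Subgroup.normalizer (S₀ : Set G) ≠ ⊤)
    (T : Subgroup ↥S) (hT : T ≠ ⊥) (hTc : T.Characteristic) :
    Subgroup.normalizer ((T.map S.subtype : Subgroup G) : Set G) = Subgroup.normalizer (S : Set G) ∧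
      Subgroup.normalizer (S : Set G) ≠ ⊤ := by
  subst hS
  have hinj : Function.Injective c.toMonoidHom := c.injective
  let e : ↥S₀ ≃* ↥(S₀.map c.toMonoidHom) := S₀.equivMapOfInjective c.toMonoidHom hinj
  have he : ∀ x : ↥S₀, ((e x : ↥(S₀.map c.toMonoidHom)) : G) = c (x : G) := fun x =>
    Subgroup.coe_equivMapOfInjective_apply S₀ c.toMonoidHom hinj x
  have hmemT₀ : ∀ x : ↥S₀, x ∈ T.comap e.toMonoidHom ↔ e x ∈ T := fun x => Iff.rfl
  have hT₀ne : T.comap e.toMonoidHom ≠ ⊥ := by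
    intro hbot
    apply hT
    rw [eq_bot_iff]
    intro x hx
    have hx' : e.symm x ∈ T.comap e.toMonoidHom := by
      rw [hmemT₀, MulEquiv.apply_symm_apply]
      exact hx
    rw [hbot, Subgroup.mem_bot] at hx'
    rw [Subgroup.mem_bot]
    have := congr_arg e hx'
    rwa [MulEquiv.apply_symm_apply, map_one] at this
  have hT₀c : (T.comap e.toMonoidHom).Characteristic := by
    rw [Subgroup.characteristic_iff_comap_le]
    intro ψ x hx
    have hx1 : e (ψ x) ∈ T := hx
    rw [hmemT₀]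
    have hfix := (Subgroup.characteristic_iff_comap_eq.mp hTc) (e.symm.trans (ψ.trans e))
    have : e x ∈ T.comap (e.symm.trans (ψ.trans e)).toMonoidHom := by
      show (e.symm.trans (ψ.trans e)) (e x) ∈ T
      rw [MulEquiv.trans_apply, MulEquiv.symm_apply_apply, MulEquiv.trans_apply]
      exact hx1
    rw [hfix] at this
    exact this
  have hmap : (T.map (S₀.map c.toMonoidHom).subtype : Subgroup G) =
      ((T.comap e.toMonoidHom).map S₀.subtype).map c.toMonoidHom := by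
    ext y
    constructor
    · rintro ⟨x, hx, rfl⟩
      refine ⟨(e.symm x : G), ⟨e.symm x, ?_, rfl⟩, ?_⟩
      · show e.symm x ∈ T.comap e.toMonoidHom
        rw [hmemT₀, MulEquiv.apply_symm_apply]
        exact hx
      · have := he (e.symm x)
        rw [MulEquiv.apply_symm_apply] at this
        exact this.symm
    · rintro ⟨_, ⟨x₀, hx₀, rfl⟩, rfl⟩
      exact ⟨e x₀, hx₀, he x₀⟩
  have hN : Subgroup.normalizer ((S₀.map c.toMonoidHom : Subgroup G) : Set G) =
      (Subgroup.normalizer (S₀ : Set G)).map c.toMonoidHom :=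
    (Subgroup.map_equiv_normalizer_eq S₀ c).symm
  refine ⟨?_, ?_⟩
  · rw [hmap, ← Subgroup.map_equiv_normalizer_eq, h₀ _ hT₀ne hT₀c, hN]
  · rw [hN]
    intro htop
    apply h₁
    apply Subgroup.map_injective hinj
    rw [htop, ← MonoidHom.range_eq_map]
    exact (MonoidHom.range_eq_top.mpr c.surjective).symm

/-! ### The Heisenberg subgroup of `Qd(p)` -/

section concrete

variable {p : ℕ} [hp : Fact p.Prime]

/-- Heisenberg elements of `Qd(p)`. -/
def hq (a b c : ZMod p) : ↥(Cfsg.qd p) := ⟨hs a b c, hs_mem a b c⟩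

theorem hq_mem_U (a b c : ZMod p) : hq a b c ∈ U p := ⟨a, b, c, rfl⟩

theorem mem_U_iff (g : ↥(Cfsg.qd p)) : g ∈ U p ↔ ∃ a b c : ZMod p, g = hq a b c := by
  constructor
  · rintro ⟨a, b, c, h⟩
    exact ⟨a, b, c, Subtype.ext h⟩
  · rintro ⟨a, b, c, rfl⟩
    exact hq_mem_U a b c

theorem hq_mul (a b c a' b' c' : ZMod p) :
    hq a b c * hq a' b' c' = hq (a + a') (b + b') (c + c' + a * b') :=
  Subtype.ext (hs_mul a b c a' b' c')

theorem hq_inj {a b c a' b' c' : ZMod p} (h : hq a b c = hq a' b' c') : a = a' ∧ b = b' ∧ c = c' :=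
  hs_inj (congr_arg Subtype.val h)

theorem hq_zero : hq (0 : ZMod p) 0 0 = 1 := Subtype.ext hs_one

theorem qdMat_hq (a b c : ZMod p) : qdMat (hq a b c) = !![1, a, c; 0, 1, b; 0, 0, 1] := rfl

theorem qdMat_det (g : ↥(Cfsg.qd p)) : (qdMat g).det = 1 := g.1.2

/-- Key computation: the `(1,1)` and `(1,2)` entries of `g * hq a b c = hq a' b' c' * g`. -/
theorem entries_of_conj (g : ↥(Cfsg.qd p)) (a b c a' b' c' : ZMod p)
    (h : g * hq a b c * g⁻¹ = hq a' b' c') :
    qdMat g 1 0 * a = 0 ∧ qdMat g 1 0 * c + qdMat g 1 1 * b = b' := by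
  have h' : g * hq a b c = hq a' b' c' * g := by
    rw [← h]; group
  have hm := congr_arg qdMat h'
  rw [qdMat_mul, qdMat_mul, qdMat_hq, qdMat_hq] at hm
  obtain ⟨h20, h21, h22⟩ := qd_last_row g
  have e11 := congr_fun (congr_fun hm 1) 1
  have e12 := congr_fun (congr_fun hm 1) 2
  simp [Matrix.mul_apply, Fin.sum_univ_three, h21, h22] at e11 e12
  refine ⟨?_, ?_⟩
  · exact mul_eq_zero.mpr e11
  · linear_combination e12

/-- Elements with vanishing `(1,0)` entry conjugate Heisenberg elements to Heisenberg elements. -/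
theorem conj_hq_of_entry_zero (g : ↥(Cfsg.qd p)) (h10 : qdMat g 1 0 = 0) (a b c : ZMod p) :
    ∃ a' b' c' : ZMod p, g * hq a b c * g⁻¹ = hq a' b' c' := by
  obtain ⟨h20, h21, h22⟩ := qd_last_row g
  have hdet : qdMat g 0 0 * qdMat g 1 1 = 1 := by
    have := qdMat_det g
    rw [Matrix.det_fin_three, h10, h20, h21, h22] at this
    linear_combination this
  refine ⟨qdMat g 0 0 * qdMat g 0 0 * a, qdMat g 1 1 * b,
    qdMat g 0 0 * c + qdMat g 0 1 * b - qdMat g 0 0 * qdMat g 0 0 * a * qdMat g 1 2, ?_⟩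
  suffices h' : g * hq a b c = hq (qdMat g 0 0 * qdMat g 0 0 * a) (qdMat g 1 1 * b)
      (qdMat g 0 0 * c + qdMat g 0 1 * b - qdMat g 0 0 * qdMat g 0 0 * a * qdMat g 1 2) * g by
    rw [h']; group
  apply qdMat_injective
  rw [qdMat_mul, qdMat_mul, qdMat_hq, qdMat_hq]
  ext i j
  fin_cases i <;> fin_cases j <;>
    simp [Matrix.mul_apply, Fin.sum_univ_three, h10, h20, h21, h22]
  all_goals first | ring1 | linear_combination (-(qdMat g 0 0 * a)) * hdet

theorem entry_inv_zero (g : ↥(Cfsg.qd p)) (h10 : qdMat g 1 0 = 0) : qdMat g⁻¹ 1 0 = 0 := by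
  obtain ⟨h20, h21, h22⟩ := qd_last_row g
  have hdet : qdMat g 0 0 * qdMat g 1 1 = 1 := by
    have := qdMat_det g
    rw [Matrix.det_fin_three, h10, h20, h21, h22] at this
    linear_combination this
  have hm : qdMat g⁻¹ * qdMat g = 1 := by
    rw [← qdMat_mul, inv_mul_cancel, qdMat_one]
  have e := congr_fun (congr_fun hm 1) 0
  simp [Matrix.mul_apply, Fin.sum_univ_three, h10, h20] at e
  rcases e with e | e
  · exact e
  · rw [e, zero_mul] at hdet
    exact absurd hdet zero_ne_one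

theorem mem_normalizer_U_iff (g : ↥(Cfsg.qd p)) :
    g ∈ Subgroup.normalizer ((U p : Subgroup ↥(Cfsg.qd p)) : Set ↥(Cfsg.qd p)) ↔ qdMat g 1 0 = 0 := by
  constructor
  · intro hg
    have h1 := (Subgroup.mem_normalizer_iff.mp hg (hq 1 0 0)).mp (hq_mem_U 1 0 0)
    obtain ⟨a', b', c', h⟩ := (mem_U_iff _).mp h1
    have := (entries_of_conj g 1 0 0 a' b' c' h).1
    rwa [mul_one] at this
  · intro h10
    rw [Subgroup.mem_normalizer_iff]
    intro x
    constructor
    · intro hx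
      obtain ⟨a, b, c, rfl⟩ := (mem_U_iff x).mp hx
      obtain ⟨a', b', c', h⟩ := conj_hq_of_entry_zero g h10 a b c
      rw [h]; exact hq_mem_U _ _ _
    · intro hx
      obtain ⟨a, b, c, h⟩ := (mem_U_iff _).mp hx
      obtain ⟨a', b', c', h'⟩ := conj_hq_of_entry_zero g⁻¹ (entry_inv_zero g h10) a b c
      have : x = g⁻¹ * hq a b c * g⁻¹⁻¹ := by
        rw [← h]; group
      rw [this, h']; exact hq_mem_U _ _ _

theorem normalizer_U_ne_top :
    Subgroup.normalizer ((U p : Subgroup ↥(Cfsg.qd p)) : Set ↥(Cfsg.qd p)) ≠ ⊤ := by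
  intro htop
  have hmem : qdB p ∈ Subgroup.normalizer ((U p : Subgroup ↥(Cfsg.qd p)) : Set ↥(Cfsg.qd p)) := by
    rw [htop]; exact Subgroup.mem_top _
  rw [mem_normalizer_U_iff, qdMat_qdB] at hmem
  have hnt : Nontrivial (ZMod p) := ZMod.nontrivial_iff.mpr hp.out.one_lt.ne'
  simp at hmem

/-- Coordinates on `U p`. -/
def cA (u : ↥(U p)) : ZMod p := qdMat (u : ↥(Cfsg.qd p)) 0 1
def cB (u : ↥(U p)) : ZMod p := qdMat (u : ↥(Cfsg.qd p)) 1 2
def cC (u : ↥(U p)) : ZMod p := qdMat (u : ↥(Cfsg.qd p)) 0 2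

theorem coe_eq_hq (u : ↥(U p)) : (u : ↥(Cfsg.qd p)) = hq (cA u) (cB u) (cC u) := by
  obtain ⟨a, b, c, h⟩ := (mem_U_iff _).mp u.2
  have hA : cA u = a := by unfold cA; rw [h, qdMat_hq]; simp
  have hB : cB u = b := by unfold cB; rw [h, qdMat_hq]; simp
  have hC : cC u = c := by unfold cC; rw [h, qdMat_hq]; simp
  rw [hA, hB, hC, h]

theorem coords_of_eq (u : ↥(U p)) (a b c : ZMod p) (h : (u : ↥(Cfsg.qd p)) = hq a b c) :
    cA u = a ∧ cB u = b ∧ cC u = c := by
  have := coe_eq_hq u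
  rw [h] at this
  obtain ⟨h1, h2, h3⟩ := hq_inj this
  exact ⟨h1.symm, h2.symm, h3.symm⟩

theorem coords_mul (u v : ↥(U p)) :
    cA (u * v) = cA u + cA v ∧ cB (u * v) = cB u + cB v ∧
      cC (u * v) = cC u + cC v + cA u * cB v := by
  apply coords_of_eq
  rw [Subgroup.coe_mul, coe_eq_hq u, coe_eq_hq v, hq_mul]

/-- The flip map on `U p`. -/
def flipFun (u : ↥(U p)) : ↥(U p) := ⟨hq (cB u) (cA u) (cA u * cB u - cC u), hq_mem_U _ _ _⟩

theorem coords_flip (u : ↥(U p)) :
    cA (flipFun u) = cB u ∧ cB (flipFun u) = cA u ∧ cC (flipFun u) = cA u * cB u - cC u :=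
  coords_of_eq _ _ _ _ rfl

theorem ext_coords {u v : ↥(U p)} (hA : cA u = cA v) (hB : cB u = cB v) (hC : cC u = cC v) : u = v := by
  apply Subtype.ext
  rw [coe_eq_hq u, coe_eq_hq v, hA, hB, hC]

theorem flip_flip (u : ↥(U p)) : flipFun (flipFun u) = u := by
  obtain ⟨h1, h2, h3⟩ := coords_flip u
  obtain ⟨k1, k2, k3⟩ := coords_flip (flipFun u)
  apply ext_coords
  · rw [k1, h2]
  · rw [k2, h1]
  · rw [k3, h1, h2, h3]; ring

theorem flip_mul (u v : ↥(U p)) : flipFun (u * v) = flipFun u * flipFun v := by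
  obtain ⟨h1, h2, h3⟩ := coords_flip (u * v)
  obtain ⟨m1, m2, m3⟩ := coords_mul u v
  obtain ⟨n1, n2, n3⟩ := coords_mul (flipFun u) (flipFun v)
  obtain ⟨u1, u2, u3⟩ := coords_flip u
  obtain ⟨v1, v2, v3⟩ := coords_flip v
  apply ext_coords
  · rw [h1, n1, m2, u1, v1]
  · rw [h2, n2, m1, u2, v2]
  · rw [h3, n3, m1, m2, m3, u1, u3, v2, v3]; ring

/-- The flip automorphism of `U p`. -/
def flip : ↥(U p) ≃* ↥(U p) where
  toFun := flipFun
  invFun := flipFun
  left_inv := flip_flip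
  right_inv := flip_flip
  map_mul' := flip_mul

theorem flip_apply (u : ↥(U p)) : flip u = flipFun u := rfl

/-- Core statement for the Heisenberg subgroup. -/
theorem core (T₀ : Subgroup ↥(U p)) (hT : T₀ ≠ ⊥) (hTc : T₀.Characteristic) :
    Subgroup.normalizer ((T₀.map (U p).subtype : Subgroup ↥(Cfsg.qd p)) : Set ↥(Cfsg.qd p)) =
      Subgroup.normalizer ((U p : Subgroup ↥(Cfsg.qd p)) : Set ↥(Cfsg.qd p)) := by
  apply le_antisymm _ (normalizer_le_of_char (U p) T₀ hTc)
  intro g hg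
  rw [mem_normalizer_U_iff]
  have hconj : ∀ t : ↥(U p), t ∈ T₀ → ∃ t' : ↥(U p), t' ∈ T₀ ∧
      g * (t : ↥(Cfsg.qd p)) * g⁻¹ = (t' : ↥(Cfsg.qd p)) := by
    intro t ht
    have h1 : (t : ↥(Cfsg.qd p)) ∈ T₀.map (U p).subtype := ⟨t, ht, rfl⟩
    obtain ⟨t', ht', h⟩ := (Subgroup.mem_normalizer_iff.mp hg _).mp h1
    exact ⟨t', ht', h.symm⟩
  by_cases hA : ∃ t ∈ T₀, cA t ≠ 0
  · obtain ⟨t, ht, hta⟩ := hA
    obtain ⟨t', ht', h⟩ := hconj t ht
    rw [coe_eq_hq t, coe_eq_hq t'] at h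
    have := (entries_of_conj g _ _ _ _ _ _ h).1
    rcases mul_eq_zero.mp this with h0 | h0
    · exact h0
    · exact absurd h0 hta
  · push Not at hA
    have hB : ∀ t ∈ T₀, cB t = 0 := by
      intro t ht
      have hfl : flip t ∈ T₀ := by
        have := Subgroup.characteristic_iff_comap_eq.mp hTc flip
        rw [← this] at ht
        exact ht
      have := hA _ hfl
      rw [flip_apply, (coords_flip t).1] at this
      exact this
    obtain ⟨t, ht, ht1⟩ : ∃ t ∈ T₀, t ≠ 1 := by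
      by_contra hcon
      push Not at hcon
      apply hT
      rw [eq_bot_iff]
      intro x hx
      rw [Subgroup.mem_bot]
      exact hcon x hx
    have hc : cC t ≠ 0 := by
      intro hc
      apply ht1
      apply Subtype.ext
      rw [coe_eq_hq t, hA t ht, hB t ht, hc, hq_zero]
      rfl
    obtain ⟨t', ht', h⟩ := hconj t ht
    rw [coe_eq_hq t, coe_eq_hq t', hA t ht, hB t ht, hB t' ht'] at h
    have := (entries_of_conj g _ _ _ _ _ _ h).2
    rw [mul_zero, add_zero] at this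
    rcases mul_eq_zero.mp this with h0 | h0
    · exact h0
    · exact absurd h0 hc

end concrete

/-- In the group Qd(p) (p prime; the natural semidirect product of an elementary abelian group of order p² by SL₂(p)), the normalizer of every nontrivial characteristic subgroup of a Sylow p-subgroup S equals the normalizer of S, which is a proper subgroup; in particular no such characteristic subgroup is normal. -/
theorem result {p : ℕ} [Fact p.Prime] (S : Sylow p ↥(Cfsg.qd p)) (T : Subgroup ↥(S : Subgroup ↥(Cfsg.qd p))) (hT : T ≠ ⊥) (hTc : T.Characteristic) : Subgroup.normalizer ((T.map (S : Subgroup ↥(Cfsg.qd p)).subtype : Subgroup ↥(Cfsg.qd p)) : Set ↥(Cfsg.qd p)) = Subgroup.normalizer ((S : Subgroup ↥(Cfsg.qd p)) : Set ↥(Cfsg.qd p)) ∧ Subgroup.normalizer ((S : Subgroup ↥(Cfsg.qd p)) : Set ↥(Cfsg.qd p)) ≠ ⊤ := by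
  have hfin : Finite ↥(Cfsg.qd p) := finite_qd
  obtain ⟨Q, hUQ⟩ := (isPGroup_U (p := p)).exists_le_sylow
  have hQU : U p = (Q : Subgroup ↥(Cfsg.qd p)) :=
    Subgroup.eq_of_le_of_card_ge hUQ (by rw [card_sylow, card_U])
  obtain ⟨g, hg⟩ := MulAction.exists_smul_eq ↥(Cfsg.qd p) Q S
  have hS : (S : Subgroup ↥(Cfsg.qd p)) = (U p).map (MulAut.conj g).toMonoidHom := by
    have h1 : ((g • Q : Sylow p ↥(Cfsg.qd p)) : Subgroup ↥(Cfsg.qd p)) =
        MulAut.conj g • (Q : Subgroup ↥(Cfsg.qd p)) := by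
      rw [Sylow.smul_def, Sylow.pointwise_smul_def]
    rw [← hg, h1, hQU]
    rfl
  exact transport (U p) (S : Subgroup ↥(Cfsg.qd p)) (MulAut.conj g) hS core normalizer_U_ne_top T hT hTc

end Cfsg.Agent.S2763
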