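import Cfsg.Statements.S2779
import Cfsg.Agent.Lib.Helper46.SL2Nat

set_option autoImplicit false
open Cfsg

namespace Cfsg.Agent.S2779

open Cfsg.Agent.Lib.Helper46

section aux

variable {G : Type*} [Group G] {F : Type*} [Field F] {V L : Subgroup G} (D : NatCoords F V L)

/-- commuting with a unipotent element, in coordinates -/
theorem commute_uMat_iff {t v : G} (ht : t ∈ L) (hv : v ∈ V) (a : F) (ha : D.ρ ⟨t, ht⟩ = uMat a) :
    t * v = v * t ↔ a * D.c ⟨v, hv⟩ 1 = 0 := by
  rw [D.commute_iff ht hv, ha, uMat_mulVec]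
  constructor
  · intro h
    have := congrFun h 0
    simpa using this
  · intro h
    ext i
    fin_cases i
    · simp [h]
    · simp

/-- the commutator with a unipotent element, in coordinates -/
theorem c_comm_uMat {t v : G} (ht : t ∈ L) (hv : v ∈ V) (a : F) (ha : D.ρ ⟨t, ht⟩ = uMat a) :
    D.c ⟨v * t * v⁻¹ * t⁻¹, D.comm_mem ht hv⟩ = ![-(a * D.c ⟨v, hv⟩ 1), 0] := by
  rw [D.c_comm ht hv, ha, uMat_mulVec]
  ext i
  fin_cases i
  · simp
  · simp

theorem comm_mem_lineSub {t v : G} (ht : t ∈ L) (hv : v ∈ V) (a : F) (ha : D.ρ ⟨t, ht⟩ = uMat a) :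
    v * t * v⁻¹ * t⁻¹ ∈ D.lineSub := by
  refine ⟨D.comm_mem ht hv, ?_⟩
  rw [c_comm_uMat D ht hv a ha]
  rfl

/-- an element of the line is determined by its first coordinate -/
theorem eq_of_mem_lineSub {z w : G} (hz : z ∈ D.lineSub) (hw : w ∈ V)
    (h : D.c ⟨w, hw⟩ = ![D.c ⟨z, D.lineSub_le hz⟩ 0, 0]) : z = w := by
  obtain ⟨hzV, hz1⟩ := hz
  have : D.c ⟨z, hzV⟩ = D.c ⟨w, hw⟩ := by
    rw [h]
    ext i
    fin_cases i
    · rfl
    · exact hz1
  exact congrArg Subtype.val (D.c_injective this)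

end aux

/-- Let L act on the elementary abelian p-group V (inside a finite group, by conjugation, faithfully) as SL₂(F) on its natural module, F a field with p^n elements, and let S be a Sylow p-subgroup of L. Then [V, S, S] = 1; |V| = p^(2n) and |C_V(S)| = p^n; and for every nonidentity s ∈ S and every v ∈ V outside C_V(S): C_V(s) = C_V(S) = [V, S] = [V, s] = the subgroup generated by the commutators [v, t], t ∈ S. -/
theorem result {G : Type*} [Group G] [Finite G] {p : ℕ} [Fact p.Prime] {F : Type*} [Field F] [Fintype F] (n : ℕ) (hF : Fintype.card F = p ^ n) (V L : Subgroup G) (hnat : Cfsg.IsNaturalSL2Module F V L) (hf : L ⊓ Subgroup.centralizer (V : Set G) = ⊥) (S : Sylow p ↥L) (T : Subgroup G) (hT : T = ((S : Subgroup ↥L).map L.subtype)) : ⁅⁅V, T⁆, T⁆ = ⊥ ∧ Nat.card V = p ^ (2 * n) ∧ Nat.card ↥(V ⊓ Subgroup.centralizer ((T : Subgroup G) : Set G)) = p ^ n ∧ ∀ s ∈ T, s ≠ 1 → (V ⊓ Subgroup.centralizer ({s} : Set G)) = (V ⊓ Subgroup.centralizer ((T : Subgroup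 G) : Set G)) ∧ ⁅V, T⁆ = (V ⊓ Subgroup.centralizer ((T : Subgroup G) : Set G)) ∧ ⁅V, Subgroup.zpowers s⁆ = (V ⊓ Subgroup.centralizer ((T : Subgroup G) : Set G)) ∧ ∀ v ∈ V, v ∉ Subgroup.centralizer (T : Set G) → Subgroup.closure {x : G | ∃ t ∈ T, x = v * t * v⁻¹ * t⁻¹} = (V ⊓ Subgroup.centralizer ((T : Subgroup G) : Set G)) := by
  have hchar : CharP F p := charP_of_card_eq_prime_pow hF
  obtain ⟨D, hS⟩ := exists_natCoords V L hnat hf S
  -- membership in T
  have hT_iff : ∀ t : G, t ∈ T ↔ ∃ ht : t ∈ L, ∃ a : F, D.ρ ⟨t, ht⟩ = uMat a := by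
    intro t
    rw [hT]
    constructor
    · rintro ⟨l, hl, rfl⟩
      exact ⟨l.2, (hS l).mp hl⟩
    · rintro ⟨ht, a, ha⟩
      exact ⟨⟨t, ht⟩, (hS _).mpr ⟨a, ha⟩, rfl⟩
  have hT_ex : ∀ a : F, ∃ t : G, t ∈ T ∧ ∃ ht : t ∈ L, D.ρ ⟨t, ht⟩ = uMat a := by
    intro a
    obtain ⟨l, hl⟩ := D.bij.2 (uMat a)
    exact ⟨l, (hT_iff _).mpr ⟨l.2, a, hl⟩, l.2, hl⟩
  have hV_ex : ∀ x : Fin 2 → F, ∃ v : G, ∃ hv : v ∈ V, D.c ⟨v, hv⟩ = x := by
    intro x
    obtain ⟨v, hv⟩ := D.c_surjective x
    exact ⟨v, v.2, hv⟩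
  -- the centralizer of T in V is the line
  have hZ : V ⊓ Subgroup.centralizer ((T : Subgroup G) : Set G) = D.lineSub := by
    ext v
    rw [Subgroup.mem_inf, Subgroup.mem_centralizer_iff, NatCoords.mem_lineSub]
    constructor
    · rintro ⟨hv, hc⟩
      refine ⟨hv, ?_⟩
      obtain ⟨t, htT, ht, ha⟩ := hT_ex 1
      have := (commute_uMat_iff D ht hv 1 ha).mp (hc t htT)
      simpa using this
    · rintro ⟨hv, h0⟩
      refine ⟨hv, fun t htT => ?_⟩
      obtain ⟨ht, a, ha⟩ := (hT_iff t).mp htT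
      rw [commute_uMat_iff D ht hv a ha, h0, mul_zero]
  rw [hZ]
  have hcomm_le : ⁅V, T⁆ ≤ D.lineSub := by
    rw [Subgroup.commutator_le]
    intro v hv t htT
    obtain ⟨ht, a, ha⟩ := (hT_iff t).mp htT
    rw [commutatorElement_def]
    exact comm_mem_lineSub D ht hv a ha
  have hline_le : D.lineSub ≤ Subgroup.centralizer ((T : Subgroup G) : Set G) := by
    rw [← hZ]
    exact inf_le_right
  refine ⟨?_, ?_, ?_, ?_⟩
  · rw [Subgroup.commutator_eq_bot_iff_le_centralizer]
    exact hcomm_le.trans hline_le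
  · have h1 : Nat.card V = Nat.card (Fin 2 → F) :=
      Nat.card_congr (Additive.ofMul.trans D.ψ.toEquiv)
    rw [h1, Nat.card_fun, Nat.card_eq_fintype_card, Nat.card_eq_fintype_card, Fintype.card_fin, hF,
      ← pow_mul, mul_comm]
  · have hbij : Function.Bijective (fun z : D.lineSub => D.c ⟨z, D.lineSub_le z.2⟩ 0) := by
      constructor
      · intro z w h
        apply Subtype.ext
        apply eq_of_mem_lineSub D z.2 (D.lineSub_le w.2)
        simp only at h
        rw [h]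
        ext i
        fin_cases i
        · rfl
        · exact w.2.2
      · intro x
        obtain ⟨v, hv, hvx⟩ := hV_ex ![x, 0]
        refine ⟨⟨v, hv, ?_⟩, ?_⟩
        · rw [hvx]; rfl
        · simp only
          rw [hvx]; rfl
    rw [Nat.card_congr (Equiv.ofBijective _ hbij), Nat.card_eq_fintype_card, hF]
  · intro s hsT hs1
    obtain ⟨hsL, a, ha⟩ := (hT_iff s).mp hsT
    have ha0 : a ≠ 0 := by
      intro h0
      rw [h0, uMat_zero] at ha
      have : (⟨s, hsL⟩ : L) = 1 := D.bij.1 (by rw [ha, map_one])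
      exact hs1 (congrArg Subtype.val this)
    refine ⟨?_, ?_, ?_, ?_⟩
    · ext v
      rw [Subgroup.mem_inf, Subgroup.mem_centralizer_iff, NatCoords.mem_lineSub]
      constructor
      · rintro ⟨hv, hc⟩
        refine ⟨hv, ?_⟩
        have := (commute_uMat_iff D hsL hv a ha).mp (hc s rfl)
        exact (mul_eq_zero.mp this).resolve_left ha0
      · rintro ⟨hv, h0⟩
        refine ⟨hv, fun t ht => ?_⟩
        rw [Set.mem_singleton_iff] at ht
        subst ht
        rw [commute_uMat_iff D hsL hv a ha, h0, mul_zero]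
    · apply le_antisymm hcomm_le
      intro z hz
      obtain ⟨v, hv, hvx⟩ := hV_ex ![0, 1]
      obtain ⟨t, htT, ht, hta⟩ := hT_ex (-(D.c ⟨z, D.lineSub_le hz⟩ 0))
      have : z = v * t * v⁻¹ * t⁻¹ := by
        apply eq_of_mem_lineSub D hz (D.comm_mem ht hv)
        rw [c_comm_uMat D ht hv _ hta, hvx]
        simp
      rw [this, ← commutatorElement_def]
      exact Subgroup.commutator_mem_commutator hv htT
    · apply le_antisymm
      · refine le_trans (Subgroup.commutator_mono le_rfl ?_) hcomm_le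
        rw [Subgroup.zpowers_le]
        exact hsT
      · intro z hz
        obtain ⟨v, hv, hvx⟩ := hV_ex ![0, -(D.c ⟨z, D.lineSub_le hz⟩ 0) / a]
        have : z = v * s * v⁻¹ * s⁻¹ := by
          apply eq_of_mem_lineSub D hz (D.comm_mem hsL hv)
          rw [c_comm_uMat D hsL hv _ ha, hvx]
          simp only [Matrix.cons_val_one, Matrix.cons_val_zero]
          congr 1
          field_simp
        rw [this, ← commutatorElement_def]
        exact Subgroup.commutator_mem_commutator hv (Subgroup.mem_zpowers s)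
    · intro v hv hvC
      have hy0 : D.c ⟨v, hv⟩ 1 ≠ 0 := by
        intro h0
        exact hvC (hline_le ⟨hv, h0⟩)
      apply le_antisymm
      · rw [Subgroup.closure_le]
        rintro x ⟨t, htT, rfl⟩
        obtain ⟨ht, b, hb⟩ := (hT_iff t).mp htT
        exact comm_mem_lineSub D ht hv b hb
      · intro z hz
        obtain ⟨t, htT, ht, hta⟩ := hT_ex (-(D.c ⟨z, D.lineSub_le hz⟩ 0) / (D.c ⟨v, hv⟩ 1))
        have : z = v * t * v⁻¹ * t⁻¹ := by
          apply eq_of_mem_lineSub D hz (D.comm_mem ht hv)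
          rw [c_comm_uMat D ht hv _ hta]
          congr 1
          field_simp
        apply Subgroup.subset_closure
        exact ⟨t, htT, this⟩

end Cfsg.Agent.S2779
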