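import Cfsg.Statements.S2780
import Cfsg.Agent.Lib.Helper46.SL2Nat2

set_option autoImplicit false
open Cfsg

namespace Cfsg.Agent.S2780

open Cfsg.Agent.Lib.Helper46

section aux

variable {G : Type*} [Group G]

theorem mem_centralizer_map_conj (H : Subgroup G) (g v : G) :
    v ∈ Subgroup.centralizer ((H.map (MulAut.conj g).toMonoidHom : Subgroup G) : Set G) ↔
      g⁻¹ * v * g⁻¹⁻¹ ∈ Subgroup.centralizer (H : Set G) := by
  rw [Subgroup.mem_centralizer_iff, Subgroup.mem_centralizer_iff]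
  constructor
  · intro h t ht
    have h1 := h (g * t * g⁻¹) ⟨t, ht, rfl⟩
    calc t * (g⁻¹ * v * g⁻¹⁻¹) = g⁻¹ * ((g * t * g⁻¹) * v) * g := by group
      _ = g⁻¹ * (v * (g * t * g⁻¹)) * g := by rw [h1]
      _ = g⁻¹ * v * g⁻¹⁻¹ * t := by group
  · rintro h y ⟨t, ht, rfl⟩
    have h1 := h t ht
    show g * t * g⁻¹ * v = v * (g * t * g⁻¹)
    calc g * t * g⁻¹ * v = g * (t * (g⁻¹ * v * g⁻¹⁻¹)) * g⁻¹ := by group
      _ = g * ((g⁻¹ * v * g⁻¹⁻¹) * t) * g⁻¹ := by rw [h1]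
      _ = v * (g * t * g⁻¹) := by group

variable {F : Type*} [Field F] {V L : Subgroup G} (D : NatCoords F V L)

theorem c_conj_dMat {d u : G} (hd : d ∈ L) (hu : u ∈ V) (a : F) (ha : a ≠ 0)
    (hρ : D.ρ ⟨d, hd⟩ = dMat a ha) :
    D.c ⟨d * u * d⁻¹, D.conj_mem hd hu⟩ = ![a * D.c ⟨u, hu⟩ 0, a⁻¹ * D.c ⟨u, hu⟩ 1] := by
  rw [D.c_conj hd hu, hρ, dMat_mulVec]

end aux

/-- Let L act on the elementary abelian p-group V (inside a finite group, faithfully) as SL₂(F) on its natural module, F a field with p^n elements, S a Sylow p-subgroup of L. Then: for every g ∈ L not normalizing S, V is the internal direct product of C_V(S) and C_V(gSg⁻¹); every nonidentity element of L of order prime to p acts on V without nonidentity fixed points; and C_V(S) and V/C_V(S) are irreducible for N_L(S): the only N_L(S)-invariant subgroups of C_V(S) are 1 and C_V(S), and the only N_L(S)-invariant subgroups between C_V(S) and V are those two. -/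
theorem result {G : Type*} [Group G] [Finite G] {p : ℕ} [Fact p.Prime] {F : Type*} [Field F] [Fintype F] (n : ℕ) (hF : Fintype.card F = p ^ n) (V L : Subgroup G) (hnat : Cfsg.IsNaturalSL2Module F V L) (hf : L ⊓ Subgroup.centralizer (V : Set G) = ⊥) (S : Sylow p ↥L) (T : Subgroup G) (hT : T = ((S : Subgroup ↥L).map L.subtype)) : (∀ g ∈ L, g ∉ Subgroup.normalizer (T : Set G) → Cfsg.IsInternalDirectProduct (V ⊓ Subgroup.centralizer ((T : Subgroup G) : Set G)) (V ⊓ Subgroup.centralizer ((T.map (MulAut.conj g).toMonoidHom : Subgroup G) : Set G)) V) ∧ (∀ x ∈ L, x ≠ 1 → (orderOf x).Coprime p → (V ⊓ Subgroup.centralizer ({x} : Set G)) = ⊥) ∧ (∀ U : Subgroup G, U ≤ (V ⊓ Subgroup.centralizer ((T : Subgroup G) : Set G)) → L ⊓ Subgroup.normalizer (T : Set G) ≤ Subgroup.normalizer (U : Set G) → U = ⊥ ∨ U = (V ⊓ Subgroup.centralizer ((T : Subgroup G) : Set G))) ∧ (∀ U : Subgroup G, (V ⊓ Subgroup.centralizer ((T : Subgroup G) : Set G)) ≤ U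 → U ≤ V → L ⊓ Subgroup.normalizer (T : Set G) ≤ Subgroup.normalizer (U : Set G) → U = (V ⊓ Subgroup.centralizer ((T : Subgroup G) : Set G)) ∨ U = V) := by
  have hchar : CharP F p := charP_of_card_eq_prime_pow hF
  obtain ⟨D, hS⟩ := exists_natCoords V L hnat hf S
  -- membership in T
  have hT_iff : ∀ t : G, t ∈ T ↔ ∃ ht : t ∈ L, D.ρ ⟨t, ht⟩ ∈ upperU F := by
    intro t
    rw [hT]
    constructor
    · rintro ⟨l, hl, rfl⟩
      exact ⟨l.2, (hS l).mp hl⟩
    · rintro ⟨ht, ha⟩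
      exact ⟨⟨t, ht⟩, (hS _).mpr ha, rfl⟩
  have hTL : T ≤ L := fun t ht => ((hT_iff t).mp ht).1
  -- the centralizer of T in V is the line
  have hZ : V ⊓ Subgroup.centralizer ((T : Subgroup G) : Set G) = D.lineSub := by
    ext v
    rw [Subgroup.mem_inf, Subgroup.mem_centralizer_iff, NatCoords.mem_lineSub]
    constructor
    · rintro ⟨hv, hc⟩
      refine ⟨hv, ?_⟩
      obtain ⟨t, ht, ha⟩ := D.exists_ρ_eq (uMat 1)
      have htT : t ∈ T := (hT_iff t).mpr ⟨ht, by rw [ha]; exact uMat_mem 1⟩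
      have h1 := (D.commute_iff ht hv).mp (hc t htT)
      rw [ha, uMat_mulVec] at h1
      have := congrFun h1 0
      simpa using this
    · rintro ⟨hv, h0⟩
      refine ⟨hv, fun t htT => ?_⟩
      obtain ⟨ht, a, ha⟩ := (hT_iff t).mp htT
      rw [D.commute_iff ht hv, ha, uMat_mulVec, h0]
      ext i
      fin_cases i
      · simp
      · simp [h0]
  -- upper triangular elements normalize T
  have hN : ∀ g : G, ∀ hg : g ∈ L,
      ((D.ρ ⟨g, hg⟩ : Matrix.SpecialLinearGroup (Fin 2) F) : Matrix (Fin 2) (Fin 2) F) 1 0 = 0 →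
      g ∈ Subgroup.normalizer (T : Set G) := by
    intro g hg h10
    rw [Subgroup.mem_normalizer_iff]
    intro h
    have key : ∀ hh : h ∈ L, D.ρ ⟨g * h * g⁻¹, L.mul_mem (L.mul_mem hg hh) (L.inv_mem hg)⟩ =
        D.ρ ⟨g, hg⟩ * D.ρ ⟨h, hh⟩ * (D.ρ ⟨g, hg⟩)⁻¹ := by
      intro hh
      have : (⟨g * h * g⁻¹, L.mul_mem (L.mul_mem hg hh) (L.inv_mem hg)⟩ : L) =
          ⟨g, hg⟩ * ⟨h, hh⟩ * (⟨g, hg⟩ : L)⁻¹ := rfl
      rw [this, map_mul, map_mul, map_inv]
    constructor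
    · intro hT'
      obtain ⟨hh, hU⟩ := (hT_iff h).mp hT'
      refine (hT_iff _).mpr ⟨L.mul_mem (L.mul_mem hg hh) (L.inv_mem hg), ?_⟩
      rw [key hh, upperU_conj_iff _ h10]
      exact hU
    · intro hT'
      obtain ⟨hh', hU⟩ := (hT_iff _).mp hT'
      have hh : h ∈ L := by
        have : h = g⁻¹ * (g * h * g⁻¹) * g := by group
        rw [this]
        exact L.mul_mem (L.mul_mem (L.inv_mem hg) hh') hg
      refine (hT_iff _).mpr ⟨hh, ?_⟩
      rw [key hh, upperU_conj_iff _ h10] at hU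
      exact hU
  -- torus elements
  have htorus : ∀ (a : F) (ha : a ≠ 0), ∃ d : G, ∃ hd : d ∈ L, D.ρ ⟨d, hd⟩ = dMat a ha ∧
      d ∈ L ⊓ Subgroup.normalizer (T : Set G) := by
    intro a ha
    obtain ⟨d, hd, hρ⟩ := D.exists_ρ_eq (dMat a ha)
    refine ⟨d, hd, hρ, hd, hN d hd ?_⟩
    rw [hρ]
    exact dMat_apply_one_zero a ha
  rw [hZ]
  refine ⟨?_, ?_, ?_, ?_⟩
  · -- (1)
    intro g hg hgN
    set M := D.ρ ⟨g, hg⟩ with hM
    have hγ : (M : Matrix (Fin 2) (Fin 2) F) 1 0 ≠ 0 := fun h => hgN (hN g hg h)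
    -- description of the second factor
    have hS₂ : ∀ v : G, v ∈ V ⊓ Subgroup.centralizer
        ((T.map (MulAut.conj g).toMonoidHom : Subgroup G) : Set G) ↔
        ∃ hv : v ∈ V, -(M : Matrix (Fin 2) (Fin 2) F) 1 0 * D.c ⟨v, hv⟩ 0 +
          (M : Matrix (Fin 2) (Fin 2) F) 0 0 * D.c ⟨v, hv⟩ 1 = 0 := by
      intro v
      rw [Subgroup.mem_inf, mem_centralizer_map_conj]
      have hcoord : ∀ hv : v ∈ V, D.c ⟨g⁻¹ * v * g⁻¹⁻¹, D.conj_mem (L.inv_mem hg) hv⟩ 1 =
          -(M : Matrix (Fin 2) (Fin 2) F) 1 0 * D.c ⟨v, hv⟩ 0 +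
          (M : Matrix (Fin 2) (Fin 2) F) 0 0 * D.c ⟨v, hv⟩ 1 := by
        intro hv
        rw [D.c_conj (L.inv_mem hg) hv, D.ρ_inv' hg, ← hM, sl2_inv_coe]
        simp [Matrix.mulVec, dotProduct, Fin.sum_univ_two]
      constructor
      · rintro ⟨hv, hc⟩
        refine ⟨hv, ?_⟩
        have hmem : g⁻¹ * v * g⁻¹⁻¹ ∈ D.lineSub := by
          rw [← hZ]
          exact ⟨D.conj_mem (L.inv_mem hg) hv, hc⟩
        obtain ⟨hv', h0⟩ := hmem
        rw [← hcoord hv]
        exact h0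
      · rintro ⟨hv, h0⟩
        refine ⟨hv, ?_⟩
        have hmem : g⁻¹ * v * g⁻¹⁻¹ ∈ D.lineSub :=
          ⟨D.conj_mem (L.inv_mem hg) hv, by rw [hcoord hv]; exact h0⟩
        rw [← hZ] at hmem
        exact hmem.2
    refine ⟨D.lineSub_le, inf_le_left, ?_, ?_, ?_⟩
    · intro a ha b hb
      exact D.comm (D.lineSub_le ha) hb.1
    · rw [eq_bot_iff]
      intro v hv
      obtain ⟨⟨hvV, h1⟩, hv2⟩ := hv
      obtain ⟨hvV', h2⟩ := (hS₂ v).mp hv2
      rw [h1, mul_zero, add_zero] at h2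
      have h0 : D.c ⟨v, hvV⟩ 0 = 0 := by
        rcases mul_eq_zero.mp h2 with h | h
        · exact absurd (neg_eq_zero.mp h) hγ
        · exact h
      have : D.c ⟨v, hvV⟩ = 0 := by
        ext i
        fin_cases i
        · exact h0
        · exact h1
      have := (D.c_eq_zero_iff _).mp this
      rw [Subgroup.mem_bot]
      exact congrArg Subtype.val this
    · apply le_antisymm (sup_le D.lineSub_le inf_le_left)
      intro v hv
      set x := D.c ⟨v, hv⟩ with hx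
      set α := (M : Matrix (Fin 2) (Fin 2) F) 0 0 with hα
      set γ := (M : Matrix (Fin 2) (Fin 2) F) 1 0 with hγdef
      obtain ⟨v₂, hv₂, hc₂⟩ := D.exists_c_eq ![α * x 1 / γ, x 1]
      obtain ⟨v₁, hv₁, hc₁⟩ := D.exists_c_eq ![x 0 - α * x 1 / γ, 0]
      have hvv : v = v₁ * v₂ := by
        apply D.eq_of_c_eq hv (V.mul_mem hv₁ hv₂)
        rw [D.c_mul' hv₁ hv₂, hc₁, hc₂, ← hx]
        ext i
        fin_cases i
        · simp
        · simp
      rw [hvv]
      apply Subgroup.mul_mem_sup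
      · exact ⟨hv₁, by rw [hc₁]; rfl⟩
      · rw [hS₂]
        refine ⟨hv₂, ?_⟩
        rw [hc₂]
        simp only [Matrix.cons_val_zero, Matrix.cons_val_one]
        field_simp
        ring
  · -- (2)
    intro x hxL hx1 hcop
    rw [eq_bot_iff]
    intro v hv
    obtain ⟨hvV, hvC⟩ := hv
    rw [Subgroup.mem_bot]
    by_contra hv1
    have hcv : D.c ⟨v, hvV⟩ ≠ 0 := by
      intro h0
      exact hv1 (congrArg Subtype.val ((D.c_eq_zero_iff _).mp h0))
    have hcomm : x * v = v * x := (Subgroup.mem_centralizer_iff.mp hvC) x rfl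
    have hfix := (D.commute_iff hxL hvV).mp hcomm
    have hpow : (D.ρ ⟨x, hxL⟩) ^ p = 1 := pow_char_eq_one_of_fix _ _ hcv hfix
    rw [← map_pow] at hpow
    have h1 : (⟨x, hxL⟩ : L) ^ p = 1 := D.bij.1 (by rw [hpow, map_one])
    have h2 : x ^ p = 1 := by
      have := congrArg Subtype.val h1
      simpa using this
    have h3 : orderOf x ∣ p := orderOf_dvd_of_pow_eq_one h2
    have h4 : orderOf x = 1 := hcop.eq_one_of_dvd h3
    exact hx1 (orderOf_eq_one_iff.mp h4)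
  · -- (3)
    intro U hU hUN
    by_cases hbot : U = ⊥
    · exact Or.inl hbot
    right
    obtain ⟨⟨u, huU⟩, hu1⟩ := (Subgroup.ne_bot_iff_exists_ne_one.mp hbot)
    have hu1' : u ≠ 1 := fun h => hu1 (Subtype.ext h)
    obtain ⟨huV, hu0⟩ := hU huU
    have hx0 : D.c ⟨u, huV⟩ 0 ≠ 0 := by
      intro h0
      apply hu1'
      have : D.c ⟨u, huV⟩ = 0 := by
        ext i
        fin_cases i
        · exact h0
        · exact hu0
      exact congrArg Subtype.val ((D.c_eq_zero_iff _).mp this)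
    apply le_antisymm hU
    intro z hz
    obtain ⟨hzV, hz0⟩ := hz
    by_cases hy : D.c ⟨z, hzV⟩ 0 = 0
    · have : D.c ⟨z, hzV⟩ = 0 := by
        ext i
        fin_cases i
        · exact hy
        · exact hz0
      have hz1 : z = 1 := congrArg Subtype.val ((D.c_eq_zero_iff _).mp this)
      rw [hz1]
      exact U.one_mem
    · have ha : D.c ⟨z, hzV⟩ 0 / D.c ⟨u, huV⟩ 0 ≠ 0 := div_ne_zero hy hx0
      obtain ⟨d, hd, hρ, hdN⟩ := htorus _ ha
      have hmem : d * u * d⁻¹ ∈ U := (Subgroup.mem_normalizer_iff.mp (hUN hdN) u).mp huU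
      have : z = d * u * d⁻¹ := by
        apply D.eq_of_c_eq hzV (D.conj_mem hd huV)
        rw [c_conj_dMat D hd huV _ ha hρ, hu0, mul_zero]
        ext i
        fin_cases i
        · simp only [Fin.zero_eta, Fin.isValue, Matrix.cons_val_zero]
          field_simp
        · exact hz0
      rw [this]
      exact hmem
  · -- (4)
    intro U hZU hUV hUN
    by_cases hle : U ≤ D.lineSub
    · exact Or.inl (le_antisymm hle hZU)
    right
    obtain ⟨u, huU, huZ⟩ := SetLike.not_le_iff_exists.mp hle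
    have huV : u ∈ V := hUV huU
    have hx1 : D.c ⟨u, huV⟩ 1 ≠ 0 := fun h => huZ ⟨huV, h⟩
    apply le_antisymm hUV
    intro v hv
    by_cases hy : D.c ⟨v, hv⟩ 1 = 0
    · exact hZU ⟨hv, hy⟩
    · have ha : D.c ⟨u, huV⟩ 1 / D.c ⟨v, hv⟩ 1 ≠ 0 := div_ne_zero hx1 hy
      obtain ⟨d, hd, hρ, hdN⟩ := htorus _ ha
      have hmem : d * u * d⁻¹ ∈ U := (Subgroup.mem_normalizer_iff.mp (hUN hdN) u).mp huU
      obtain ⟨z, hzV, hcz⟩ := D.exists_c_eq
        ![D.c ⟨v, hv⟩ 0 - D.c ⟨u, huV⟩ 1 / D.c ⟨v, hv⟩ 1 * D.c ⟨u, huV⟩ 0, 0]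
      have hzU : z ∈ U := hZU ⟨hzV, by rw [hcz]; rfl⟩
      have : v = d * u * d⁻¹ * z := by
        apply D.eq_of_c_eq hv (V.mul_mem (D.conj_mem hd huV) hzV)
        rw [D.c_mul' (D.conj_mem hd huV) hzV, c_conj_dMat D hd huV _ ha hρ, hcz]
        ext i
        fin_cases i
        · simp
        · simp only [Fin.mk_one, Fin.isValue, Pi.add_apply, Matrix.cons_val_one,
            Matrix.cons_val_zero, add_zero]
          field_simp
      rw [this]
      exact U.mul_mem hmem hzU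

end Cfsg.Agent.S2780
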