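import Cfsg.Statements.S2781
import Cfsg.Agent.Lib.Helper47.Basic
import Cfsg.Agent.Lib.Helper46.Amalgam2

set_option autoImplicit false
open Cfsg

namespace Cfsg.Agent.S2781

open Cfsg.Agent.Lib.Helper46
open scoped commutatorElement

section trace

variable {G : Type*} [Group G] [Finite G] {p : ℕ} [Fact p.Prime]

/-- conjugation by an element of the normalizer, as a map `V → V` -/
def cj (V : Subgroup G) (r : G) (hr : r ∈ Subgroup.normalizer (V : Set G)) (v : V) : V :=
  ⟨r * v * r⁻¹, (Subgroup.mem_normalizer_iff.mp hr v).mp v.2⟩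

/-- The trace argument: `C_V(T) ≤ [V, R] C_V(R)` when `|R : T|` is prime to `p`. -/
theorem trace_arg (V R : Subgroup G) (hVc : IsMulCommutative V) (hVp : ∀ a ∈ V, a ^ p = 1)
    (hRV : R ≤ Subgroup.normalizer (V : Set G)) (S : Sylow p ↥R) (v : G) (hvV : v ∈ V)
    (hvT : ∀ s : ↥R, s ∈ (S : Subgroup ↥R) → (s : G) * v = v * (s : G)) :
    v ∈ ⁅V, R⁆ ⊔ (V ⊓ Subgroup.centralizer ((R : Subgroup G) : Set G)) := by
  classical
  let _ : CommGroup ↥V := { (inferInstance : Group ↥V) with mul_comm := fun a b => mul_comm' a b }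
  set W := ⁅V, R⁆ ⊔ (V ⊓ Subgroup.centralizer ((R : Subgroup G) : Set G)) with hW
  -- the function on R
  let f : ↥R → ↥V := fun r => cj V (r : G) (hRV r.2) ⟨v, hvV⟩
  have hf : ∀ r : ↥R, ((f r : ↥V) : G) = (r : G) * v * (r : G)⁻¹ := fun r => rfl
  have hfs : ∀ (r s : ↥R), s ∈ (S : Subgroup ↥R) → f (r * s) = f r := by
    intro r s hs
    apply Subtype.ext
    rw [hf, hf]
    have := hvT s hs
    simp only [Subgroup.coe_mul, mul_inv_rev]
    calc (r : G) * (s : G) * v * ((s : G)⁻¹ * (r : G)⁻¹)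
        = (r : G) * ((s : G) * v) * (s : G)⁻¹ * (r : G)⁻¹ := by group
      _ = (r : G) * (v * (s : G)) * (s : G)⁻¹ * (r : G)⁻¹ := by rw [this]
      _ = (r : G) * v * (r : G)⁻¹ := by group
  -- lift to the quotient
  let F : (↥R ⧸ (S : Subgroup ↥R)) → ↥V := fun q => Quotient.liftOn' q f (by
    intro a b hab
    rw [QuotientGroup.leftRel_apply] at hab
    have := hfs a (a⁻¹ * b) hab
    rw [mul_inv_cancel_left] at this
    exact this.symm)
  have hF : ∀ r : ↥R, F (QuotientGroup.mk r) = f r := fun r => rfl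
  have := Fintype.ofFinite (↥R ⧸ (S : Subgroup ↥R))
  set τ : ↥V := ∏ q : ↥R ⧸ (S : Subgroup ↥R), F q with hτ
  set m := Fintype.card (↥R ⧸ (S : Subgroup ↥R)) with hm
  -- τ is centralized by R
  have hτR : (τ : G) ∈ Subgroup.centralizer ((R : Subgroup G) : Set G) := by
    rw [Subgroup.mem_centralizer_iff]
    intro g hg
    -- conjugation by g as a hom on V
    let c : ↥V →* ↥V :=
      { toFun := cj V g (hRV hg)
        map_one' := by apply Subtype.ext; simp [cj]
        map_mul' := by intro a b; apply Subtype.ext; simp [cj] }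
    have h1 : c τ = τ := by
      rw [hτ, map_prod]
      apply Fintype.prod_equiv (MulAction.toPerm (⟨g, hg⟩ : ↥R))
      intro q
      induction q using QuotientGroup.induction_on with
      | H r =>
        rw [MulAction.toPerm_apply, MulAction.Quotient.smul_mk, hF, hF]
        apply Subtype.ext
        show g * ((f r : ↥V) : G) * g⁻¹ = ((f ((⟨g, hg⟩ : ↥R) • r) : ↥V) : G)
        rw [hf, hf]
        simp only [smul_eq_mul, Subgroup.coe_mul, mul_inv_rev]
        group
    have h2 := congrArg Subtype.val h1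
    have h3 : g * (τ : G) * g⁻¹ = (τ : G) := h2
    calc g * (τ : G) = g * (τ : G) * g⁻¹ * g := by group
      _ = (τ : G) * g := by rw [h3]
  -- τ * v⁻ᵐ ∈ [V, R]
  have hcomm : ((τ * (⟨v, hvV⟩ : ↥V)⁻¹ ^ m : ↥V) : G) ∈ ⁅V, R⁆ := by
    have h1 : τ * (⟨v, hvV⟩ : ↥V)⁻¹ ^ m = ∏ q : ↥R ⧸ (S : Subgroup ↥R), (F q * (⟨v, hvV⟩ : ↥V)⁻¹) := by
      rw [Finset.prod_mul_distrib, Finset.prod_const, Finset.card_univ]
    rw [h1]
    have h2 : (∏ q : ↥R ⧸ (S : Subgroup ↥R), (F q * (⟨v, hvV⟩ : ↥V)⁻¹)) ∈ (⁅V, R⁆).subgroupOf V := by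
      apply Subgroup.prod_mem
      intro q _
      induction q using QuotientGroup.induction_on with
      | H r =>
        rw [hF, Subgroup.mem_subgroupOf]
        show ((f r : ↥V) : G) * v⁻¹ ∈ ⁅V, R⁆
        rw [hf, Subgroup.commutator_comm]
        have : (r : G) * v * (r : G)⁻¹ * v⁻¹ = ⁅(r : G), v⁆ := rfl
        rw [this]
        exact Subgroup.commutator_mem_commutator r.2 hvV
    exact h2
  -- so v ^ m ∈ W
  have hvm : v ^ m ∈ W := by
    have h1 : ((τ * (⟨v, hvV⟩ : ↥V)⁻¹ ^ m : ↥V) : G) ∈ W := (le_sup_left : ⁅V, R⁆ ≤ W) hcomm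
    have h2 : (τ : G) ∈ W := (le_sup_right : _ ≤ W) ⟨τ.2, hτR⟩
    have h3 : v ^ m = ((τ * (⟨v, hvV⟩ : ↥V)⁻¹ ^ m : ↥V) : G)⁻¹ * (τ : G) := by
      simp only [Subgroup.coe_mul, Subgroup.coe_pow, Subgroup.coe_inv, mul_inv_rev, inv_pow, inv_inv]
      group
    rw [h3]
    exact W.mul_mem (W.inv_mem h1) h2
  -- m is coprime to p
  have hmp : Nat.Coprime m p := by
    have h1 : ¬ p ∣ (S : Subgroup ↥R).index := S.not_dvd_index
    have h2 : m = (S : Subgroup ↥R).index := by
      rw [hm, ← Nat.card_eq_fintype_card]; rfl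
    rw [h2]
    exact (Nat.Coprime.symm ((Nat.Prime.coprime_iff_not_dvd (Fact.out : p.Prime)).mpr h1))
  -- conclude
  have hvp : v ^ p = 1 := hVp v hvV
  have hb := Int.gcd_eq_gcd_ab (m : ℤ) (p : ℤ)
  have hg1 : Int.gcd (m : ℤ) (p : ℤ) = 1 := by
    rw [Int.gcd_natCast_natCast]; exact hmp
  rw [hg1] at hb
  have hv : v = (v ^ m) ^ (Int.gcdA (m : ℤ) (p : ℤ)) := by
    have h1 : v ^ ((m : ℤ) * Int.gcdA (m : ℤ) (p : ℤ) + (p : ℤ) * Int.gcdB (m : ℤ) (p : ℤ)) = v := by
      rw [← hb]; simp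
    rw [zpow_add, zpow_mul, zpow_mul, zpow_natCast, zpow_natCast, hvp, one_zpow, mul_one] at h1
    exact h1.symm
  rw [hv]
  exact W.zpow_mem hvm _

end trace

/-- conjugation-invariance of the target subgroup -/
theorem map_conj_W_le {G : Type*} [Group G] (V R : Subgroup G) (h : G)
    (hV : V.map (MulAut.conj h).toMonoidHom = V) (hR : R.map (MulAut.conj h).toMonoidHom = R) :
    (⁅V, R⁆ ⊔ (V ⊓ Subgroup.centralizer ((R : Subgroup G) : Set G))).map (MulAut.conj h).toMonoidHom ≤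
      ⁅V, R⁆ ⊔ (V ⊓ Subgroup.centralizer ((R : Subgroup G) : Set G)) := by
  rw [Subgroup.map_sup]
  apply sup_le_sup
  · rw [Subgroup.map_commutator, hV, hR]
  · refine (Subgroup.map_inf_le _ _ _).trans ?_
    rw [hV]
    apply inf_le_inf le_rfl
    have := centralizer_map_le R (MulAut.conj h)
    rw [hR] at this
    exact this

theorem map_conj_eq_of_mem_normalizer {G : Type*} [Group G] {N : Subgroup G} {g : G}
    (hg : g ∈ Subgroup.normalizer (N : Set G)) : N.map (MulAut.conj g).toMonoidHom = N := by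
  apply le_antisymm
  · rintro _ ⟨n, hn, rfl⟩
    exact (Subgroup.mem_normalizer_iff.mp hg n).mp hn
  · intro n hn
    refine ⟨g⁻¹ * n * g, (Subgroup.mem_normalizer_iff''.mp hg n).mp hn, ?_⟩
    simp [mul_assoc]

/-- Let H act faithfully by conjugation on the elementary abelian p-subgroup V of a finite group, let O^p(H) be the subgroup of H generated by its elements of order prime to p, and T a Sylow p-subgroup of O^p(H). If V is generated by the H-conjugates of C_V(T) (V is the smallest H-invariant subgroup containing C_V(T)), then V = [V, O^p(H)]·C_V(O^p(H)). -/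
theorem result {G : Type*} [Group G] [Finite G] {p : ℕ} [Fact p.Prime] (V H : Subgroup G) (hV : Cfsg.IsElementaryAbelian p V) (hHV : H ≤ Subgroup.normalizer (V : Set G)) (hf : H ⊓ Subgroup.centralizer (V : Set G) = ⊥) (R : Subgroup G) (hR : R = (Cfsg.pResidual p ↥H).map H.subtype) (S : Sylow p ↥R) (T : Subgroup G) (hT : T = ((S : Subgroup ↥R).map R.subtype)) (hgen : ∀ W : Subgroup G, H ≤ Subgroup.normalizer (W : Set G) → (V ⊓ Subgroup.centralizer ((T : Subgroup G) : Set G)) ≤ W → V ≤ W) : ⁅V, R⁆ ⊔ (V ⊓ Subgroup.centralizer ((R : Subgroup G) : Set G)) = V := by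
  have _ := hf
  have hRH : R ≤ H := by rw [hR]; exact Subgroup.map_subtype_le _
  have hRV : R ≤ Subgroup.normalizer (V : Set G) := hRH.trans hHV
  apply le_antisymm
  · apply sup_le
    · rw [Subgroup.commutator_le]
      intro v hv r hr
      have h1 : r * v⁻¹ * r⁻¹ ∈ V := (Subgroup.mem_normalizer_iff.mp (hRV hr) v⁻¹).mp (V.inv_mem hv)
      have : ⁅v, r⁆ = v * (r * v⁻¹ * r⁻¹) := by rw [commutatorElement_def]; group
      rw [this]
      exact V.mul_mem hv h1
    · exact inf_le_left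
  · apply hgen
    · -- H normalizes W
      apply le_normalizer_of_map_conj_le
      intro h hh
      apply map_conj_W_le
      · exact map_conj_eq_of_mem_normalizer (hHV hh)
      · -- R is normal in H
        have hn : (Cfsg.pResidual p ↥H).Normal := Cfsg.Agent.Lib.Helper47.pResidual_normal p ↥H
        rw [hR]
        apply le_antisymm
        · rintro _ ⟨_, ⟨x, hx, rfl⟩, rfl⟩
          exact ⟨⟨h, hh⟩ * x * ⟨h, hh⟩⁻¹, hn.conj_mem x hx ⟨h, hh⟩, by simp⟩
        · rintro _ ⟨x, hx, rfl⟩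
          refine ⟨_, ⟨⟨h, hh⟩⁻¹ * x * ⟨h, hh⟩, ?_, rfl⟩, ?_⟩
          · have := hn.conj_mem x hx ⟨h, hh⟩⁻¹
            simpa using this
          · simp [mul_assoc]
    · rintro v ⟨hvV, hvT⟩
      apply trace_arg V R hV.1 hV.2 hRV S v hvV
      intro s hs
      have hsT : (s : G) ∈ T := by rw [hT]; exact ⟨s, hs, rfl⟩
      exact (Subgroup.mem_centralizer_iff.mp hvT (s : G) hsT)

end Cfsg.Agent.S2781
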