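import Cfsg.Statements.S2787
import Cfsg.Agent.Lib.Helper85.NoQuadPSL
import Cfsg.Agent.Lib.Helper20.ReeSyl2Final
import Cfsg.Agent.S1152
import Cfsg.Agent.S1073
import Cfsg.Agent.Lib.Helper81.PslBraid
import Cfsg.Agent.Lib.Helper89.NoQuadAbSyl2

set_option autoImplicit false
open Cfsg

namespace Cfsg.Agent.S2787

open scoped commutatorElement

/-- a finite field of cardinality `p ^ n` has characteristic `p`. -/
theorem charP_of_card {F : Type*} [Field F] [Fintype F] {p n : ℕ} [hp : Fact p.Prime]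
    (hcard : Fintype.card F = p ^ n) : CharP F p := by
  obtain ⟨q, hq⟩ := CharP.exists F
  haveI := hq
  have hqp : q.Prime := CharP.char_is_prime F q
  obtain ⟨k, hk⟩ := FiniteField.card F q
  have h1 : q ∣ p ^ n := by
    rw [← hcard, hk.2]
    exact dvd_pow_self q (PNat.ne_zero k)
  have h2 : q = p := (Nat.prime_dvd_prime_iff_eq hqp hp.out).1 (hqp.dvd_of_dvd_pow h1)
  rw [← h2]
  exact hq

/-- Let p be a prime and let H act by conjugation on the elementary abelian p-subgroup V of a finite group, irreducibly (no H-invariant subgroups of V other than 1 and V) and nontrivially, and suppose H/C_H(V) is isomorphic to PSL₂(F) for a field F with p^n elements, p^n odd, or p = 3 and H/C_H(V) is isomorphic to a Ree group ²G₂(3^(2m+1)), m ≥ 1. Then no subgroup A of H acting nontrivially on V acts quadratically: [V, A, A] = 1 forces [V, A] = 1. -/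
theorem result {G : Type*} [Group G] [Finite G] {p : ℕ} [Fact p.Prime] (V H : Subgroup G) (hV : Cfsg.IsElementaryAbelian p V) (hHV : H ≤ Subgroup.normalizer (V : Set G)) (hirr : ∀ U : Subgroup G, U ≤ V → H ≤ Subgroup.normalizer (U : Set G) → U = ⊥ ∨ U = V) (hnt : ¬ H ≤ Subgroup.centralizer (V : Set G)) [hn : ((Subgroup.centralizer (V : Set G)).subgroupOf H).Normal] (hq : (∃ (F : Type) (_ : Field F) (_ : Fintype F) (n : ℕ), Fintype.card F = p ^ n ∧ Odd (Fintype.card F) ∧ Nonempty (↥H ⧸ (Subgroup.centralizer (V : Set G)).subgroupOf H ≃* Matrix.ProjectiveSpecialLinearGroup (Fin 2) F)) ∨ (p = 3 ∧ Cfsg.Lie.IsoRee (↥H ⧸ (Subgroup.centralizer (V : Set G)).subgroupOf H))) (A : Subgroup G) (hA : A ≤ H) (hquad : ⁅⁅V, A⁆, A⁆ = ⊥) : ⁅V, A⁆ = ⊥ := by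
  rcases hq with ⟨F, _, _, n, hcard, hodd, ⟨φ⟩⟩ | ⟨hp3, K, _, _, m, hm, hK, ⟨e⟩⟩
  · -- `PSL₂(F)`
    have hp2 : p ≠ 2 := by
      rintro rfl
      rw [hcard] at hodd
      rcases Nat.eq_zero_or_pos n with hn0 | hn0
      · subst hn0
        have : 1 < Fintype.card F := Fintype.one_lt_card
        rw [hcard, pow_zero] at this
        exact lt_irrefl _ this
      · exact (Nat.not_even_iff_odd.2 hodd) ((Nat.even_pow.2 ⟨even_two, hn0.ne'⟩))
    haveI : CharP F p := charP_of_card hcard
    refine Cfsg.Agent.Lib.Helper85.NoQuadPSL.no_quad_of_partner hp2 V H hV hHV ?_ A hA hquad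
    intro x hx1 hxp
    have h1 : φ x ≠ 1 := by
      intro h
      apply hx1
      rw [← map_one φ] at h
      exact φ.injective h
    have h2 : φ x ^ p = 1 := by rw [← map_pow, hxp, map_one]
    obtain ⟨y, hbr, hsq, hyx⟩ := Cfsg.Agent.Lib.Helper81.PslBraid.exists_braid_partner hp2 (φ x) h1 h2
    refine ⟨φ.symm y, ?_, ?_, ?_⟩
    · apply φ.injective
      simp only [map_mul, MulEquiv.apply_symm_apply]
      exact hbr
    · apply φ.injective
      simp only [map_mul, MulEquiv.apply_symm_apply, map_one]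
      exact hsq
    · intro h
      apply hyx
      rw [← h, MulEquiv.apply_symm_apply]
  · -- Ree groups
    subst hp3
    haveI : CharP K 3 := charP_of_card hK
    obtain ⟨a, haH, ha1, ha2⟩ := Cfsg.Agent.Lib.Helper20.ReeSyl2.exists_involution (K := K) m
    have h1152 := Cfsg.Agent.S1152.result hK a haH ha1 ha2
    have h1073 := Cfsg.Agent.S1073.result hm hK
    exact Cfsg.Agent.Lib.Helper89.NoQuad.no_quad_of_abelian_sylow_two (by norm_num) V H hV hHV
      _ e h1073.1 h1073.2 (fun S x hx => (h1152.2 S).2 x hx) A hA hquad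

end Cfsg.Agent.S2787
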