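import Cfsg.Statements.S2788
import Cfsg.Agent.Lib.Helper19.TorusS2788
import Cfsg.Agent.Lib.Helper19.SpreadS2788

set_option autoImplicit false
open Cfsg
open scoped commutatorElement

namespace Cfsg.Agent.S2788

/-- Let H act faithfully by conjugation on the elementary abelian p-subgroup V of a finite group with H ≅ SL₂(F), F a field with p^n elements, S a Sylow p-subgroup of H, and A ≤ S a subgroup of order at least 3 acting quadratically on V ([V, A, A] = 1). Then |V/C_V(a)| ≥ p^n for every nonidentity a ∈ A. -/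
theorem result {G : Type*} [Group G] [Finite G] {p : ℕ} [Fact p.Prime] (V H : Subgroup G) (hV : Cfsg.IsElementaryAbelian p V) (hHV : H ≤ Subgroup.normalizer (V : Set G)) (hf : H ⊓ Subgroup.centralizer (V : Set G) = ⊥) {F : Type*} [Field F] [Fintype F] (n : ℕ) (hF : Fintype.card F = p ^ n) (hiso : Nonempty (↥H ≃* Matrix.SpecialLinearGroup (Fin 2) F)) (S : Sylow p ↥H) (T : Subgroup G) (hT : T = ((S : Subgroup ↥H).map H.subtype)) (A : Subgroup G) (hA : A ≤ T) (hA3 : 3 ≤ Nat.card A) (hquad : ⁅⁅V, A⁆, A⁆ = ⊥) : ∀ a ∈ A, a ≠ 1 → p ^ n ≤ ((V ⊓ Subgroup.centralizer ({a} : Set G))).relIndex V := by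
  intro a haA ha1
  obtain ⟨e⟩ := hiso
  have haT : a ∈ T := hA haA
  rw [hT] at haT
  obtain ⟨s, hsS, hsa⟩ := haT
  obtain ⟨k, hk⟩ := (IsPGroup.iff_orderOf.mp S.isPGroup') ⟨s, hsS⟩
  have hsk' : s ^ (p ^ k) = 1 := by
    have h1 : (⟨s, hsS⟩ : ↥(S : Subgroup ↥H)) ^ (p ^ k) = 1 := by
      rw [← hk]; exact pow_orderOf_eq_one _
    have := congrArg Subtype.val h1
    simpa using this
  have hak : a ^ (p ^ k) = 1 := by
    rw [← hsa, ← map_pow, hsk', map_one]
  have haH : a ∈ H := by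
    rw [← hsa]; exact s.2
  by_cases hp : p = 2
  · subst hp
    have : CharP F 2 := charP_of_card_eq_prime_pow hF
    have h2 : (e s) ^ 2 = 1 := by
      apply Cfsg.Agent.Lib.Helper19.TorusTwo.sq_eq_one_of_two_pow (e s) k
      rw [← map_pow, hsk', map_one]
    have hs2 : s ^ 2 = 1 := by
      apply e.injective
      rw [map_pow, h2, map_one]
    have ha2 : a ^ 2 = 1 := by
      rw [← hsa, ← map_pow, hs2, map_one]
    exact Cfsg.Agent.Lib.Helper19.TorusTwo.bound_even V H hV hHV hf n hF e a haH ha1 ha2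
  · have hcommV : ∀ x ∈ V, ∀ y ∈ V, x * y = y * x := by
      intro x hx y hy
      have := hV.1.is_comm.comm ⟨x, hx⟩ ⟨y, hy⟩
      exact congrArg Subtype.val this
    have hq : ∀ v ∈ V, Commute a (a * v * a⁻¹ * v⁻¹) := by
      intro v hv
      have h1 : ⁅v⁻¹, a⁆ ∈ ⁅V, A⁆ := Subgroup.commutator_mem_commutator (V.inv_mem hv) haA
      have h2 : ⁅⁅v⁻¹, a⁆, a⁆ ∈ ⁅⁅V, A⁆, A⁆ := Subgroup.commutator_mem_commutator h1 haA
      rw [hquad, Subgroup.mem_bot, commutatorElement_eq_one_iff_commute] at h2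
      have hav : a * v * a⁻¹ ∈ V := (Subgroup.mem_normalizer_iff.mp (hHV haH) v).mp hv
      have h3 : a * v * a⁻¹ * v⁻¹ = ⁅v⁻¹, a⁆ := by
        rw [commutatorElement_def, hcommV _ hav _ (V.inv_mem hv)]
        group
      rw [h3]
      exact h2.symm
    exact Cfsg.Agent.Lib.Helper19.Spread.bound_odd hp V H hV hHV hf n hF e a haH ha1 k hak hq

end Cfsg.Agent.S2788
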