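import Cfsg.Statements.S2791
import Cfsg.Agent.S1854
import Cfsg.Agent.Lib.Helper24.NilAction
import Cfsg.Agent.Lib.Helper47.Coprime
-- import your own Cfsg.Agent.* helpers here

set_option autoImplicit false
open Cfsg

namespace Cfsg.Agent.S2791

open Cfsg.Agent.Lib.Helper33
open scoped commutatorElement Pointwise

variable {G : Type*} [Group G]

/-- one-sided criterion for `N ≤ N_G(K)` -/
theorem le_normalizer_of_conj_mem (N K : Subgroup G)
    (h : ∀ n ∈ N, ∀ k ∈ K, n * k * n⁻¹ ∈ K) : N ≤ Subgroup.normalizer (K : Set G) := by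
  intro n hn
  rw [Subgroup.mem_normalizer_iff]
  intro k
  refine ⟨h n hn k, fun hk => ?_⟩
  have := h n⁻¹ (N.inv_mem hn) _ hk
  have e : n⁻¹ * (n * k * n⁻¹) * n⁻¹⁻¹ = k := by group
  rwa [e] at this

/-- in a finite group, `g K g⁻¹ ⊆ K` implies `g ∈ N_G(K)` -/
theorem mem_normalizer_of_conj_mem [Finite G] (K : Subgroup G) (g : G)
    (h : ∀ k ∈ K, g * k * g⁻¹ ∈ K) : g ∈ Subgroup.normalizer (K : Set G) := by
  rw [Subgroup.mem_normalizer_iff]
  intro k
  refine ⟨h k, fun hk => ?_⟩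
  let f : K → K := fun x => ⟨g * x * g⁻¹, h x x.2⟩
  have hinj : Function.Injective f := by
    intro x y hxy
    have := congrArg Subtype.val hxy
    simp only [f] at this
    apply Subtype.ext
    exact mul_left_cancel (mul_right_cancel this)
  have hsurj : Function.Surjective f := Finite.injective_iff_surjective.mp hinj
  obtain ⟨x, hx⟩ := hsurj ⟨g * k * g⁻¹, hk⟩
  have := congrArg Subtype.val hx
  simp only [f] at this
  have : (x : G) = k := mul_left_cancel (mul_right_cancel this)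
  rw [← this]; exact x.2

/-- The stabilizer of the chain `U ≥ Q₀ ≥ 1` inside `N_G(U)`. -/
def chainStab (U Q₀ : Subgroup G) : Subgroup G where
  carrier := {k | k ∈ Subgroup.normalizer (U : Set G) ∧ (∀ r ∈ U, k * r * k⁻¹ * r⁻¹ ∈ Q₀) ∧
    ∀ q ∈ Q₀, k * q = q * k}
  one_mem' := ⟨one_mem _, fun r _ => by simp, fun q _ => by simp⟩
  mul_mem' := by
    rintro k l ⟨hk1, hk2, hk3⟩ ⟨hl1, hl2, hl3⟩
    refine ⟨mul_mem hk1 hl1, fun r hr => ?_, fun q hq => ?_⟩
    · have h1 := hl2 r hr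
      have h2 := hk2 r hr
      have h3 := hk3 _ h1
      have e : k * l * r * (k * l)⁻¹ * r⁻¹ =
          (k * (l * r * l⁻¹ * r⁻¹) * k⁻¹) * (k * r * k⁻¹ * r⁻¹) := by group
      rw [e, h3, mul_inv_cancel_right]
      exact mul_mem h1 h2
    · rw [mul_assoc, hl3 q hq, ← mul_assoc, hk3 q hq, mul_assoc]
  inv_mem' := by
    rintro k ⟨hk1, hk2, hk3⟩
    have hk3' : ∀ q ∈ Q₀, k⁻¹ * q = q * k⁻¹ := by
      intro q hq
      have := hk3 q hq
      calc k⁻¹ * q = k⁻¹ * (q * k) * k⁻¹ := by group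
        _ = k⁻¹ * (k * q) * k⁻¹ := by rw [this]
        _ = q * k⁻¹ := by group
    refine ⟨inv_mem hk1, fun r hr => ?_, hk3'⟩
    have h2 := hk2 r hr
    have h3 := hk3' _ (inv_mem h2)
    have e : k⁻¹ * r * k⁻¹⁻¹ * r⁻¹ = k⁻¹ * (k * r * k⁻¹ * r⁻¹)⁻¹ * k := by group
    rw [e, h3, inv_mul_cancel_right]
    exact inv_mem h2

theorem mem_chainStab {U Q₀ : Subgroup G} {k : G} : k ∈ chainStab U Q₀ ↔
    k ∈ Subgroup.normalizer (U : Set G) ∧ (∀ r ∈ U, k * r * k⁻¹ * r⁻¹ ∈ Q₀) ∧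
      ∀ q ∈ Q₀, k * q = q * k := Iff.rfl

theorem chainStab_le (U Q₀ : Subgroup G) : chainStab U Q₀ ≤ Subgroup.normalizer (U : Set G) :=
  fun _ hk => hk.1

theorem le_normalizer_chainStab (U Q₀ : Subgroup G)
    (hQ : ∀ n ∈ Subgroup.normalizer (U : Set G), ∀ q ∈ Q₀, n * q * n⁻¹ ∈ Q₀) :
    Subgroup.normalizer (U : Set G) ≤ Subgroup.normalizer ((chainStab U Q₀ : Subgroup G) : Set G) := by
  apply le_normalizer_of_conj_mem
  rintro n hn k ⟨hk1, hk2, hk3⟩
  have hn' : n⁻¹ ∈ Subgroup.normalizer (U : Set G) := inv_mem hn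
  refine ⟨mul_mem (mul_mem hn hk1) hn', fun r hr => ?_, fun q hq => ?_⟩
  · have hr' : n⁻¹ * r * n ∈ U := by
      have := (Subgroup.mem_normalizer_iff.mp hn' r).mp hr
      simpa using this
    have h1 := hQ n hn _ (hk2 _ hr')
    have e : n * k * n⁻¹ * r * (n * k * n⁻¹)⁻¹ * r⁻¹ =
        n * (k * (n⁻¹ * r * n) * k⁻¹ * (n⁻¹ * r * n)⁻¹) * n⁻¹ := by group
    rw [e]; exact h1
  · have hq' : n⁻¹ * q * n ∈ Q₀ := by
      have := hQ n⁻¹ hn' q hq
      simpa using this
    have h1 := hk3 _ hq'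
    calc n * k * n⁻¹ * q = n * (k * (n⁻¹ * q * n)) * n⁻¹ := by group
      _ = n * ((n⁻¹ * q * n) * k) * n⁻¹ := by rw [h1]
      _ = q * (n * k * n⁻¹) := by group

/-- `p'`-elements of the chain stabilizer centralize `U` (when `Q₀` is a `p`-group) -/
theorem chainStab_coprime_centralizes {p : ℕ} [Fact p.Prime] {U Q₀ : Subgroup G}
    (hQ₀ : IsPGroup p Q₀) {k : G} (hk : k ∈ chainStab U Q₀) (hcop : (orderOf k).Coprime p) :
    k ∈ Subgroup.centralizer (U : Set G) := by
  obtain ⟨_, hk2, hk3⟩ := hk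
  rw [Subgroup.mem_centralizer_iff]
  intro u hu
  have h1 : ⁅u, k⁆ ∈ Q₀ := by
    have := inv_mem (hk2 u hu)
    have e : (k * u * k⁻¹ * u⁻¹)⁻¹ = ⁅u, k⁆ := by rw [commutatorElement_def]; group
    rwa [e] at this
  have h2 : Commute ⁅u, k⁆ k := (hk3 _ h1).symm
  exact Cfsg.Agent.Lib.Helper47.commute_of_coprime_of_commutator_commute hQ₀ k hcop u h1 h2

/-- every element of the chain stabilizer has a `p`-power power centralizing `U` -/
theorem chainStab_pow_mem_centralizer [Finite G] {p : ℕ} [Fact p.Prime] {U Q₀ : Subgroup G}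
    (hQ₀ : IsPGroup p Q₀) {s : G} (hs : s ∈ chainStab U Q₀) :
    ∃ k : ℕ, s ^ p ^ k ∈ Subgroup.centralizer (U : Set G) := by
  have hp : p.Prime := Fact.out
  have hpos : 0 < orderOf s := orderOf_pos s
  obtain ⟨k, m, hm, hkm⟩ := Nat.exists_eq_pow_mul_and_not_dvd hpos.ne' p hp.ne_one
  refine ⟨k, chainStab_coprime_centralizes hQ₀ (pow_mem hs _) ?_⟩
  have h1 : orderOf (s ^ p ^ k) = m := by
    rw [orderOf_pow' s (pow_ne_zero k hp.ne_zero), hkm]
    rw [Nat.gcd_eq_right (Dvd.intro _ rfl)]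
    exact Nat.mul_div_cancel_left m (pow_pos hp.pos k)
  rw [h1]
  exact (Nat.Coprime.symm ((Nat.Prime.coprime_iff_not_dvd hp).mpr hm))

/-- a subgroup `K` all of whose elements have a `p`-power power in the subgroup `C ≤ K`
normalized by `K` is the product of `C` and any Sylow `p`-subgroup `Y` -/
theorem le_sup_of_pow_mem [Finite G] {p : ℕ} [Fact p.Prime] {K C Y : Subgroup G} (hCK : C ≤ K)
    (hKC : K ≤ Subgroup.normalizer (C : Set G)) (hY : SylIn p Y K)
    (hpow : ∀ s ∈ K, ∃ k : ℕ, s ^ p ^ k ∈ C) : K ≤ C ⊔ Y := by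
  have hp : p.Prime := Fact.out
  have hn : (C.subgroupOf K).Normal := by
    have := Subgroup.normal_subgroupOf_iff_le_normalizer hCK
    exact this.mpr hKC
  have hq : IsPGroup p (↥K ⧸ C.subgroupOf K) := by
    intro x
    obtain ⟨s, rfl⟩ := QuotientGroup.mk_surjective x
    obtain ⟨k, hk⟩ := hpow s s.2
    refine ⟨k, ?_⟩
    rw [← QuotientGroup.mk_pow, QuotientGroup.eq_one_iff, Subgroup.mem_subgroupOf]
    simpa using hk
  obtain ⟨k, hk⟩ := hq.exists_card_eq
  have hCidx : C.relIndex K = p ^ k := by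
    show (C.subgroupOf K).index = p ^ k
    rw [Subgroup.index_eq_card, hk]
  have h1 : (C ⊔ Y).relIndex K ∣ Y.relIndex K := Subgroup.relIndex_dvd_of_le_left K le_sup_right
  have h2 : (C ⊔ Y).relIndex K ∣ p ^ k := hCidx ▸ Subgroup.relIndex_dvd_of_le_left K le_sup_left
  have hcop : Nat.Coprime (p ^ k) (Y.relIndex K) :=
    Nat.Coprime.pow_left k ((Nat.Prime.coprime_iff_not_dvd hp).mpr hY.not_dvd)
  exact Subgroup.relIndex_eq_one.mp (Nat.eq_one_of_dvd_coprimes hcop h2 h1)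

section main

variable [Finite G] {p : ℕ} [Fact p.Prime]

/-- the property propagated by Alperin induction -/
def Phi (A : Subgroup G) (Q : Subgroup G) (g : G) : Prop :=
  ∃ n ∈ Subgroup.normalizer (A : Set G), ∀ a ∈ Q, g * a * g⁻¹ = n * a * n⁻¹

/-- a normal subgroup `A` of the `p`-group `S` not contained in `U ≤ S` contains an element
outside `U` normalizing `U` -/
theorem exists_mem_normalizer_not_mem (S : Sylow p G) (A U : Subgroup G)
    (hAS : A ≤ (S : Subgroup G)) (hUS : U ≤ (S : Subgroup G))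
    (hSA : (S : Subgroup G) ≤ Subgroup.normalizer (A : Set G)) (hAU : ¬ A ≤ U) :
    ∃ a ∈ A, a ∉ U ∧ a ∈ Subgroup.normalizer (U : Set G) := by
  have hnil : Group.IsNilpotent (S : Subgroup G) := S.isPGroup'.isNilpotent
  have h1 : (U.subgroupOf (S : Subgroup G)) ≤
      Subgroup.normalizer ((A.subgroupOf (S : Subgroup G) : Subgroup (S : Subgroup G)) :
        Set (S : Subgroup G)) := by
    intro u _
    rw [Subgroup.mem_normalizer_iff]
    intro x
    rw [Subgroup.mem_subgroupOf, Subgroup.mem_subgroupOf]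
    have := Subgroup.mem_normalizer_iff.mp (hSA u.2) (x : G)
    simpa using this
  have h2 : ¬ A.subgroupOf (S : Subgroup G) ≤ U.subgroupOf (S : Subgroup G) := by
    intro hle
    apply hAU
    intro a ha
    have : (⟨a, hAS ha⟩ : (S : Subgroup G)) ∈ U.subgroupOf (S : Subgroup G) :=
      hle (Subgroup.mem_subgroupOf.mpr ha)
    exact Subgroup.mem_subgroupOf.mp this
  obtain ⟨y, hyA, hyU, hcomm⟩ := Cfsg.Agent.Lib.Helper24.exists_mem_not_mem_comm_mem
    (U.subgroupOf (S : Subgroup G)) (U.subgroupOf (S : Subgroup G))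
    (A.subgroupOf (S : Subgroup G)) h1 h2
  refine ⟨(y : G), Subgroup.mem_subgroupOf.mp hyA, fun h => hyU (Subgroup.mem_subgroupOf.mpr h), ?_⟩
  apply mem_normalizer_of_conj_mem
  intro u hu
  have h3 := hcomm ⟨u, hUS hu⟩ (Subgroup.mem_subgroupOf.mpr hu)
  rw [Subgroup.mem_subgroupOf] at h3
  have h4 : ((⁅y, ⟨u, hUS hu⟩⁆ : (S : Subgroup G)) : G) = (y : G) * u * (y : G)⁻¹ * u⁻¹ := by
    rw [commutatorElement_def]; simp
  rw [h4] at h3
  have := mul_mem h3 hu
  simpa using this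

theorem main (S : Sylow p G) (A : Subgroup G) (hA : IsMulCommutative ↥A)
    (hsc : Cfsg.IsStronglyClosed A (S : Subgroup G)) :
    ∀ Q : Subgroup G, Q ≤ (S : Subgroup G) → ∀ g, cj g Q ≤ (S : Subgroup G) → Phi A Q g := by
  obtain ⟨hAS, hcl⟩ := hsc
  -- `g A g⁻¹ ≤ S` implies `g ∈ N_G(A)`
  have hnorm : ∀ g : G, (∀ a ∈ A, g * a * g⁻¹ ∈ (S : Subgroup G)) →
      g ∈ Subgroup.normalizer (A : Set G) := by
    intro g hg
    apply mem_normalizer_of_conj_mem
    intro a ha
    exact hcl a ha g (hg a ha)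
  have hSA : (S : Subgroup G) ≤ Subgroup.normalizer (A : Set G) := by
    intro s hs
    apply hnorm
    intro a ha
    exact mul_mem (mul_mem hs (hAS ha)) (inv_mem hs)
  apply alperin_induction S (Phi A) Set.univ
  · intro Q hQ
    obtain ⟨g, hg, hfn⟩ := exists_fullyNormalized_cj S hQ
    exact ⟨cj g Q, trivial, ⟨g, rfl⟩, hg, hfn⟩
  · -- comp
    rintro Q g h - - - ⟨n1, hn1, h1⟩ ⟨n2, hn2, h2⟩
    refine ⟨n2 * n1, mul_mem hn2 hn1, fun a ha => ?_⟩
    have h3 := h2 (g * a * g⁻¹) (conj_mem_cj ha)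
    calc h * g * a * (h * g)⁻¹ = h * (g * a * g⁻¹) * h⁻¹ := by group
      _ = n2 * (g * a * g⁻¹) * n2⁻¹ := h3
      _ = n2 * (n1 * a * n1⁻¹) * n2⁻¹ := by rw [h1 a ha]
      _ = n2 * n1 * a * (n2 * n1)⁻¹ := by group
  · -- res
    rintro Q Q' g hle - - ⟨n, hn, h1⟩
    exact ⟨n, hn, fun a ha => h1 a (hle ha)⟩
  · -- inv
    rintro Q g - - ⟨n, hn, h1⟩
    refine ⟨n⁻¹, inv_mem hn, fun b hb => ?_⟩
    have hb' := mem_cj.mp hb
    have h2 := h1 _ hb'
    have e : g * (g⁻¹ * b * g) * g⁻¹ = b := by group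
    rw [e] at h2
    calc g⁻¹ * b * g⁻¹⁻¹ = g⁻¹ * b * g := by group
      _ = n⁻¹ * (n * (g⁻¹ * b * g) * n⁻¹) * n := by group
      _ = n⁻¹ * b * n⁻¹⁻¹ := by rw [← h2]; group
  · -- loc
    intro U _ hUS hfn IH g hg
    by_cases hAU : A ≤ U
    · refine ⟨g, ?_, fun a _ => rfl⟩
      apply hnorm
      intro a ha
      exact hUS ((Subgroup.mem_normalizer_iff.mp hg a).mp (hAU ha))
    · set N : Subgroup G := Subgroup.normalizer (U : Set G) with hN
      set Q₀ : Subgroup G := A ⊓ U with hQ₀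
      have hQ₀p : IsPGroup p Q₀ := S.isPGroup'.to_le (inf_le_left.trans hAS)
      have hQ₀inv : ∀ n ∈ N, ∀ q ∈ Q₀, n * q * n⁻¹ ∈ Q₀ := by
        intro n hn q hq
        have hqU : n * q * n⁻¹ ∈ U := (Subgroup.mem_normalizer_iff.mp hn q).mp hq.2
        exact ⟨hcl q hq.1 n (hUS hqU), hqU⟩
      set St : Subgroup G := chainStab U Q₀ with hSt
      have hStN : St ≤ N := chainStab_le U Q₀
      have hNSt : N ≤ Subgroup.normalizer (St : Set G) := le_normalizer_chainStab U Q₀ hQ₀inv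
      have hT : SylIn p ((S : Subgroup G) ⊓ N) N := hfn.sylIn
      obtain ⟨m, hm, hmg⟩ := Cfsg.Agent.S1854.frattini_step hT hStN hNSt g hg
      set Y : Subgroup G := (S : Subgroup G) ⊓ N ⊓ St with hY
      have hYsyl : SylIn p Y St := Cfsg.Agent.S1854.sylIn_inf_of_normal hT hStN hNSt
      have hYS : Y ≤ (S : Subgroup G) := inf_le_left.trans inf_le_left
      -- `A ∩ N ≤ Y`
      have hA1 : ∀ a ∈ A, a ∈ N → a ∈ Y := by
        intro a ha haN
        refine Subgroup.mem_inf.mpr ⟨Subgroup.mem_inf.mpr ⟨hAS ha, haN⟩,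
          mem_chainStab.mpr ⟨haN, fun r hr => ?_, fun q hq => ?_⟩⟩
        · have h1 : a * r * a⁻¹ ∈ U := (Subgroup.mem_normalizer_iff.mp haN r).mp hr
          have h2 : r * a⁻¹ * r⁻¹ ∈ A :=
            hcl a⁻¹ (inv_mem ha) r (mul_mem (mul_mem (hUS hr) (hAS (inv_mem ha))) (inv_mem (hUS hr)))
          refine Subgroup.mem_inf.mpr ⟨?_, mul_mem h1 (inv_mem hr)⟩
          have e : a * r * a⁻¹ * r⁻¹ = a * (r * a⁻¹ * r⁻¹) := by group
          rw [e]; exact mul_mem ha h2
        · have hq1 : q ∈ A := (Subgroup.mem_inf.mp hq).1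
          have := hA.is_comm.comm (⟨a, ha⟩ : A) ⟨q, hq1⟩
          simpa using congrArg Subtype.val this
      -- decomposition of `m`
      set C' : Subgroup G := Subgroup.centralizer (U : Set G) ⊓ St with hC'
      have hC'St : C' ≤ St := inf_le_right
      have hStC' : St ≤ Subgroup.normalizer (C' : Set G) := by
        apply le_normalizer_of_conj_mem
        intro s hs c hc
        have hc1 : c ∈ Subgroup.centralizer (U : Set G) := (Subgroup.mem_inf.mp hc).1
        have hc2 : c ∈ St := (Subgroup.mem_inf.mp hc).2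
        refine Subgroup.mem_inf.mpr ⟨?_, mul_mem (mul_mem hs hc2) (inv_mem hs)⟩
        have hsN : s ∈ N := hStN hs
        rw [Subgroup.mem_centralizer_iff]
        intro u hu
        have hu' : s⁻¹ * u * s ∈ U := by
          have := (Subgroup.mem_normalizer_iff.mp (inv_mem hsN) u).mp hu
          simpa using this
        have h1 := Subgroup.mem_centralizer_iff.mp hc1 _ hu'
        calc u * (s * c * s⁻¹) = s * ((s⁻¹ * u * s) * c) * s⁻¹ := by group
          _ = s * (c * (s⁻¹ * u * s)) * s⁻¹ := by rw [h1]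
          _ = s * c * s⁻¹ * u := by group
      have hdecomp : St ≤ C' ⊔ Y := by
        apply le_sup_of_pow_mem hC'St hStC' hYsyl
        intro s hs
        obtain ⟨k, hk⟩ := chainStab_pow_mem_centralizer hQ₀p hs
        exact ⟨k, hk, pow_mem hs _⟩
      have hmCY : m ∈ (C' ⊔ Y : Subgroup G) := hdecomp hm
      have hYC' : Y ≤ Subgroup.normalizer (C' : Set G) := (inf_le_right : Y ≤ St).trans hStC'
      rw [← SetLike.mem_coe, Subgroup.coe_mul_of_right_le_normalizer_left C' Y hYC'] at hmCY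
      obtain ⟨c, hc, y, hy, hcy⟩ := hmCY
      -- the bigger subgroup `V`
      obtain ⟨a, haA, haU, haN⟩ := exists_mem_normalizer_not_mem S A U hAS hUS hSA hAU
      have haY : a ∈ Y := hA1 a haA haN
      set V : Subgroup G := U ⊔ Y with hV
      have hVS : V ≤ (S : Subgroup G) := sup_le hUS hYS
      have hUV : U < V := by
        refine lt_of_le_of_ne le_sup_left (fun h => haU ?_)
        rw [h]; exact (le_sup_right : Y ≤ V) haY
      have hmgN : m * g ∈ N := mul_mem (hStN hm) hg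
      have hhV : m * g ∈ Subgroup.normalizer (V : Set G) :=
        Subgroup.normalizer_inf_normalizer_le_normalizer_sup _ _ ⟨hmgN, hmg⟩
      have hVh : cj (m * g) V = V := mem_normalizer_iff_cj_eq.mp hhV
      obtain ⟨n, hn, hnV⟩ := IH V hVS (card_lt_card_of_lt hUV) (m * g) (by rw [hVh]; exact hVS)
      refine ⟨y⁻¹ * n, mul_mem (inv_mem (hSA (hYS hy))) hn, fun u hu => ?_⟩
      have hu1 : (m * g) * u * (m * g)⁻¹ ∈ U := (Subgroup.mem_normalizer_iff.mp hmgN u).mp hu
      have hcU := Subgroup.mem_centralizer_iff.mp (inv_mem hc.1) _ hu1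
      have h5 := hnV u ((le_sup_left : U ≤ V) hu)
      have hcy' : m = c * y := hcy.symm
      calc g * u * g⁻¹ = m⁻¹ * ((m * g) * u * (m * g)⁻¹) * m := by group
        _ = y⁻¹ * (c⁻¹ * ((m * g) * u * (m * g)⁻¹)) * c * y := by rw [hcy']; group
        _ = y⁻¹ * (((m * g) * u * (m * g)⁻¹) * c⁻¹) * c * y := by rw [hcU]
        _ = y⁻¹ * ((m * g) * u * (m * g)⁻¹) * y := by group
        _ = y⁻¹ * (n * u * n⁻¹) * y := by rw [h5]
        _ = y⁻¹ * n * u * (y⁻¹ * n)⁻¹ := by group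

end main

/-- Let S be a Sylow p-subgroup of the finite group G and A an abelian subgroup of S that is strongly closed in S with respect to G. Then A controls strong fusion in G: for some Sylow p-subgroup T containing A, whenever a subset of T is conjugated into T by an element of G, the same elementwise conjugation is induced by an element of N_G(A). -/
theorem result {G : Type*} [Group G] [Finite G] {p : ℕ} [Fact p.Prime] (S : Sylow p G) (A : Subgroup G) (hA : IsMulCommutative ↥A) (hsc : Cfsg.IsStronglyClosed A (S : Subgroup G)) : Cfsg.ControlsStrongFusion p A := by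
  refine ⟨S, hsc.1, fun X hX => ⟨hX, fun g hg => ?_⟩⟩
  have hQ : Subgroup.closure X ≤ (S : Subgroup G) := (Subgroup.closure_le _).mpr hX
  have hQg : cj g (Subgroup.closure X) ≤ (S : Subgroup G) := by
    rw [cj_closure, Subgroup.closure_le]
    exact hg
  obtain ⟨n, hn, h⟩ := main S A hA hsc (Subgroup.closure X) hQ g hQg
  exact ⟨n, hn, fun a ha => h a (Subgroup.subset_closure ha)⟩

end Cfsg.Agent.S2791
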