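import Cfsg.Statements.S2794
import Cfsg.Agent.S0274
import Cfsg.Agent.Lib.Helper10.StrongDicksonProof
import Cfsg.Agent.Lib.Helper10.ZJFunctor
import Cfsg.Agent.Lib.Helper10.QdZJ

set_option autoImplicit false
open Cfsg

namespace Cfsg.Agent.S2794

/-- For an odd prime p and a finite group G, the group Qd(p) is not involved in G if and only if in every section K/R of G, for every Sylow p-subgroup S* of K/R, the centre of J(S*) (J generated by the abelian subgroups of largest order) controls strong fusion in K/R. -/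
theorem result {G : Type*} [Group G] [Finite G] {p : ℕ} [Fact p.Prime] (hp : p ≠ 2) : ¬ Cfsg.Involves ↥(Cfsg.qd p) G ↔ ∀ (K R : Subgroup G) [hR : (R.subgroupOf K).Normal], ∀ T : Sylow p (K ⧸ R.subgroupOf K), Cfsg.ControlsStrongFusion p (Cfsg.centerThompsonAOf (T : Subgroup (K ⧸ R.subgroupOf K))) := by
  have hSD : Cfsg.Agent.Lib.Helper10.StrongDickson p :=
    Cfsg.Agent.Lib.Helper10.strongDickson_of_weak p hp
      (fun F _ _ _ H hH => Cfsg.Agent.S0274.result p hp H hH)
  constructor
  · intro hfree K R hR T
    apply Cfsg.Agent.Lib.Helper10.controlsStrongFusion_zj_of_qdfree hp hSD _ T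
    intro hinv
    apply hfree
    exact Cfsg.Agent.Lib.Helper88.Involves.of_subgroup K
      (Cfsg.Agent.Lib.Helper10.involves_of_quotient' (R.subgroupOf K) hinv)
  · rintro hall ⟨K, R, hN, ⟨e⟩⟩
    exact Cfsg.Agent.Lib.Helper10.not_forall_controls_zj_of_equiv e (hall K R)

end Cfsg.Agent.S2794
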