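import Cfsg.Statements.S2801
-- import your own Cfsg.Agent.* helpers here
import Cfsg.Agent.Lib.Helper47.PReduced

set_option autoImplicit false
open Cfsg

namespace Cfsg.Agent.S2801

open Cfsg.Agent.Lib.Helper47

/-- Let L be a finite group and p a prime with C_L(O_p(L)) ≤ O_p(L). Then L has a unique largest p-reduced normal subgroup: some normal elementary abelian p-subgroup Y with O_p(L/C_L(Y)) = 1 contains every other such subgroup. -/
theorem result {L : Type*} [Group L] [Finite L] {p : ℕ} [Fact p.Prime] (hchar : Subgroup.centralizer (Cfsg.pCore p L : Set L) ≤ Cfsg.pCore p L) : ∃ Y : Subgroup L, (Cfsg.IsPReducedNormal p Y ∧ ∀ V : Subgroup L, Cfsg.IsPReducedNormal p V → V ≤ Y) := by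
  exact ⟨Cfsg.largestPReduced p L, isPReducedNormal_largestPReduced p L, fun V hV => le_largestPReduced hV⟩

end Cfsg.Agent.S2801
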