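import Cfsg.Statements.S2802
-- import your own Cfsg.Agent.* helpers here
import Cfsg.Agent.Lib.Helper47.PReduced2

set_option autoImplicit false
open Cfsg

namespace Cfsg.Agent.S2802

open Cfsg.Agent.Lib.Helper47

/-- Let L be a finite group and p a prime with C_L(O_p(L)) ≤ O_p(L), T a Sylow p-subgroup of L and R a subgroup with T ≤ R. If X is a p-reduced normal subgroup of R (normal in R, elementary abelian, O_p(R/C_R(X)) = 1), then the normal closure of X in L is a p-reduced normal subgroup of L. -/
theorem result {L : Type*} [Group L] [Finite L] {p : ℕ} [Fact p.Prime] (hchar : Subgroup.centralizer (Cfsg.pCore p L : Set L) ≤ Cfsg.pCore p L) (T : Sylow p L) (R : Subgroup L) (hTR : (T : Subgroup L) ≤ R) (X : Subgroup ↥R) (hX : Cfsg.IsPReducedNormal p X) : Cfsg.IsPReducedNormal p (Subgroup.normalClosure ((X.map R.subtype : Subgroup L) : Set L)) := by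
  obtain ⟨hXn, hXel, hXred⟩ := (isPReducedNormal_iff p X).mp hX
  -- O_p(L) ≤ T ≤ R
  have hOT : Cfsg.pCore p L ≤ (T : Subgroup L) := pCore_le_sylow T
  have hOR : Cfsg.pCore p L ≤ R := hOT.trans hTR
  -- O_p(L) centralizes X'
  have hOcX : Cfsg.pCore p L ≤ Subgroup.centralizer ((X.map R.subtype : Subgroup L) : Set L) := by
    have h1 : (Cfsg.pCore p L).subgroupOf R ≤ Cfsg.pCore p ↥R :=
      le_pCore inferInstance (pCore_isPGroup p L).comap_subtype
    have h2 := h1.trans (pCore_le_centralizer_of_pRed hXred)
    intro x hx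
    have := h2 (show (⟨x, hOR hx⟩ : ↥R) ∈ (Cfsg.pCore p L).subgroupOf R by
      rw [Subgroup.mem_subgroupOf]; exact hx)
    rw [mem_centralizer_subtype_iff] at this
    exact this
  -- X' ≤ Ω₁Z(O_p(L))
  have hX'E : X.map R.subtype ≤
      Cfsg.omegaOne p (Cfsg.pCore p L ⊓ Subgroup.centralizer (Cfsg.pCore p L : Set L)) := by
    rintro _ ⟨x, hx, rfl⟩
    rw [mem_omegaOne_iff_of_comm (isMulCommutative_inf_centralizer _)]
    have hxc : (R.subtype x) ∈ Subgroup.centralizer (Cfsg.pCore p L : Set L) := by
      have := (Subgroup.le_centralizer_iff.mp hOcX) (Subgroup.mem_map_of_mem R.subtype hx)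
      exact this
    refine ⟨⟨hchar hxc, hxc⟩, ?_⟩
    have := hXel.2 x hx
    have h3 := congrArg Subtype.val this
    simpa using h3
  have hEn := omegaOne_center_pCore_normal p L
  have hVE : Subgroup.normalClosure ((X.map R.subtype : Subgroup L) : Set L) ≤
      Cfsg.omegaOne p (Cfsg.pCore p L ⊓ Subgroup.centralizer (Cfsg.pCore p L : Set L)) :=
    Subgroup.normalClosure_le_normal hX'E
  rw [isPReducedNormal_iff]
  refine ⟨Subgroup.normalClosure_normal, ?_, ?_⟩
  · exact IsElementaryAbelian.mono (isElementaryAbelian_omegaOne_center p _) hVE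
  · intro D hD hDp
    have hCn : (Subgroup.centralizer
        ((Subgroup.normalClosure ((X.map R.subtype : Subgroup L) : Set L) : Subgroup L) : Set L)).Normal :=
      Subgroup.normal_centralizer
    have hsplit := le_inf_sup_inf_sylow hDp T
    have hCX : Subgroup.centralizer
        ((Subgroup.normalClosure ((X.map R.subtype : Subgroup L) : Set L) : Subgroup L) : Set L) ≤
        Subgroup.centralizer ((X.map R.subtype : Subgroup L) : Set L) :=
      Subgroup.centralizer_le Subgroup.le_normalClosure
    -- D ∩ R centralizes X'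
    have hDR : D ⊓ R ≤ Subgroup.centralizer ((X.map R.subtype : Subgroup L) : Set L) := by
      have hDRn : (D.subgroupOf R).Normal := inferInstance
      have h1 : D.subgroupOf R ≤ Subgroup.centralizer (X : Set ↥R) := by
        apply hXred _ hDRn
        intro d hd
        rw [Subgroup.mem_subgroupOf] at hd
        obtain ⟨k, hk⟩ := hDp (d : L) hd
        refine ⟨k, ?_⟩
        rw [mem_centralizer_subtype_iff]
        have := hCX hk
        simpa using this
      rintro d ⟨hdD, hdR⟩
      have := h1 (show (⟨d, hdR⟩ : ↥R) ∈ D.subgroupOf R by rw [Subgroup.mem_subgroupOf]; exact hdD)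
      rw [mem_centralizer_subtype_iff] at this
      exact this
    have hDX : D ≤ Subgroup.centralizer ((X.map R.subtype : Subgroup L) : Set L) := by
      refine hsplit.trans (sup_le (inf_le_right.trans hCX) ?_)
      exact (inf_le_inf_left D hTR).trans hDR
    exact le_centralizer_normalClosure hDX

end Cfsg.Agent.S2802
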