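import Cfsg.Statements.S2820
-- import your own Cfsg.Agent.* helpers here
import Cfsg.Agent.Lib.Helper47.Subnormal

set_option autoImplicit false
open Cfsg

namespace Cfsg.Agent.S2820

open Cfsg.Agent.Lib.Helper47
open scoped commutatorElement

/-- Let A and B be subnormal subgroups of the finite group H with A a p-group and B = O^p(B) (B generated by its elements of order prime to p). Then A normalizes B and B = O^p(AB), the subgroup of ⟨A, B⟩ generated by its elements of order prime to p. -/
theorem result {H : Type*} [Group H] [Finite H] {p : ℕ} [Fact p.Prime] (A B : Subgroup H) (hA : A.IsSubnormal) (hB : B.IsSubnormal) (hAp : IsPGroup p ↥A) (hBres : (Cfsg.pResidual p ↥B).map B.subtype = B) : A ≤ Subgroup.normalizer (B : Set H) ∧ (Cfsg.pResidual p ↥(A ⊔ B)).map (A ⊔ B).subtype = B := by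
  have hAP : A ≤ Cfsg.pCore p H := le_pCore_of_isSubnormal_of_isPGroup hA hAp
  have hPp : IsPGroup p ↥(Cfsg.pCore p H) := pCore_isPGroup p H
  have hBop : opOf p B = B := hBres
  -- C = B P
  have hBC : B ≤ B ⊔ Cfsg.pCore p H := le_sup_left
  have hPC : Cfsg.pCore p H ≤ B ⊔ Cfsg.pCore p H := le_sup_right
  have hB' : (B.subgroupOf (B ⊔ Cfsg.pCore p H)).IsSubnormal := hB.subgroupOf
  have hP'n : ((Cfsg.pCore p H).subgroupOf (B ⊔ Cfsg.pCore p H)).Normal := inferInstance
  have hP'p : IsPGroup p ↥((Cfsg.pCore p H).subgroupOf (B ⊔ Cfsg.pCore p H)) := hPp.comap_subtype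
  have hsup : B.subgroupOf (B ⊔ Cfsg.pCore p H) ⊔ (Cfsg.pCore p H).subgroupOf (B ⊔ Cfsg.pCore p H) = ⊤ := by
    rw [← Subgroup.subgroupOf_sup hBC hPC, Subgroup.subgroupOf_self]
  have key := mem_of_coprime_of_isSubnormal_of_sup_eq_top hP'p hB' hsup
  have hCB : opOf p (B ⊔ Cfsg.pCore p H) ≤ B := by
    rw [opOf_le_iff]
    intro x hx hco
    have := key ⟨x, hx⟩ (by rwa [← Subgroup.orderOf_coe])
    simpa [Subgroup.mem_subgroupOf] using this
  have hCeq : opOf p (B ⊔ Cfsg.pCore p H) = B :=
    le_antisymm hCB (by conv_lhs => rw [← hBop]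
                        exact opOf_mono p hBC)
  constructor
  · have h1 : B ⊔ Cfsg.pCore p H ≤ Subgroup.normalizer ((opOf p (B ⊔ Cfsg.pCore p H) : Subgroup H) : Set H) :=
      Subgroup.le_normalizer.trans (normalizer_le_normalizer_opOf p _)
    rw [hCeq] at h1
    exact (hAP.trans hPC).trans h1
  · show opOf p (A ⊔ B) = B
    apply le_antisymm
    · have : A ⊔ B ≤ B ⊔ Cfsg.pCore p H := sup_le (hAP.trans hPC) hBC
      exact (opOf_mono p this).trans hCB
    · conv_lhs => rw [← hBop]
      exact opOf_mono p le_sup_right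

end Cfsg.Agent.S2820
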