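import Cfsg.Statements.S2804
-- import your own Cfsg.Agent.* helpers here
import Cfsg.Agent.Lib.Helper47.PReducedAmb
import Cfsg.Agent.Lib.Helper47.Coprime
import Cfsg.Agent.S2820

set_option autoImplicit false
open Cfsg

namespace Cfsg.Agent.S2804

open Cfsg.Agent.Lib.Helper47
open scoped commutatorElement

variable {L : Type*} [Group L]

/-- `O^p(O^p(K)) = O^p(K)`. -/
theorem opOf_opOf (p : ℕ) (K : Subgroup L) : opOf p (opOf p K) = opOf p K := by
  apply le_antisymm (opOf_le p _)
  conv_lhs => rw [opOf_eq_closure]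
  rw [Subgroup.closure_le]
  rintro x ⟨hxK, hx⟩
  have hxR : x ∈ opOf p K := by
    rw [opOf_eq_closure]; exact Subgroup.subset_closure ⟨hxK, hx⟩
  rw [opOf_eq_closure p (opOf p K)]
  exact Subgroup.subset_closure ⟨hxR, hx⟩

/-- `O^p(K)` is subnormal when `K` is. -/
theorem opOf_isSubnormal (p : ℕ) {K : Subgroup L} (hK : K.IsSubnormal) :
    (opOf p K).IsSubnormal :=
  Subgroup.IsSubnormal.step _ K (opOf_le p K) hK
    (Subgroup.normal_subgroupOf_of_le_normalizer
      (Subgroup.le_normalizer.trans (normalizer_le_normalizer_opOf p K)))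

/-- Some `p`-power power of an element of a finite group is a `p'`-element. -/
theorem exists_pow_coprime [Finite L] (p : ℕ) [hp : Fact p.Prime] (d : L) :
    ∃ k : ℕ, Nat.Coprime (orderOf (d ^ p ^ k)) p := by
  have hpos : 0 < orderOf d := orderOf_pos d
  obtain ⟨k, m, hm, hkm⟩ := Nat.exists_eq_pow_mul_and_not_dvd hpos.ne' p hp.out.ne_one
  refine ⟨k, ?_⟩
  have hpk : p ^ k ≠ 0 := pow_ne_zero _ hp.out.ne_zero
  rw [orderOf_pow' d hpk, hkm, Nat.gcd_mul_right_left, Nat.mul_div_cancel_left _ (Nat.pos_of_ne_zero hpk)]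
  exact (Nat.Coprime.symm ((Nat.Prime.coprime_iff_not_dvd hp.out).mpr hm))

/-- Let L be a finite group and p a prime with C_L(O_p(L)) ≤ O_p(L), V a p-reduced normal subgroup of L and K a subnormal subgroup of L. Then [V, O^p(K)] is contained in K and is a p-reduced normal subgroup of K, where O^p(K) is the subgroup of K generated by its elements of order prime to p. -/
theorem result {L : Type*} [Group L] [Finite L] {p : ℕ} [Fact p.Prime] (hchar : Subgroup.centralizer (Cfsg.pCore p L : Set L) ≤ Cfsg.pCore p L) (V : Subgroup L) (hV : Cfsg.IsPReducedNormal p V) (K : Subgroup L) (hK : K.IsSubnormal) : ⁅V, (Cfsg.pResidual p ↥K).map K.subtype⁆ ≤ K ∧ Cfsg.IsPReducedNormal p ((⁅V, (Cfsg.pResidual p ↥K).map K.subtype⁆).subgroupOf K) := by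
  show ⁅V, opOf p K⁆ ≤ K ∧ Cfsg.IsPReducedNormal p ((⁅V, opOf p K⁆).subgroupOf K)
  obtain ⟨hVn, hVel, hCn, hO⟩ := hV
  set R := opOf p K with hR
  have hRK : R ≤ K := opOf_le p K
  have hVp : IsPGroup p ↥V := IsElementaryAbelian.isPGroup hVel
  have hVR : V ≤ Subgroup.normalizer (R : Set L) :=
    (Cfsg.Agent.S2820.result V R hVn.isSubnormal (opOf_isSubnormal p hK) hVp (opOf_opOf p K)).1
  have hWR : ⁅V, R⁆ ≤ R := Subgroup.le_normalizer_iff_commutator_le_right.mp hVR
  have hWK : ⁅V, R⁆ ≤ K := hWR.trans hRK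
  have hWV : ⁅V, R⁆ ≤ V := Subgroup.commutator_le_left _ _
  have hWel : Cfsg.IsElementaryAbelian p ⁅V, R⁆ := IsElementaryAbelian.mono hVel hWV
  have hWp : IsPGroup p ↥⁅V, R⁆ := IsElementaryAbelian.isPGroup hWel
  have hKV : K ≤ Subgroup.normalizer (V : Set L) := by
    rw [Subgroup.normalizer_eq_top]; exact le_top
  have hKR : K ≤ Subgroup.normalizer (R : Set L) :=
    Subgroup.le_normalizer.trans (normalizer_le_normalizer_opOf p K)
  have hKW : K ≤ Subgroup.normalizer ((⁅V, R⁆ : Subgroup L) : Set L) :=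
    (le_inf hKV hKR).trans (normalizer_inf_normalizer_le_normalizer_commutator V R)
  refine ⟨hWK, isPReducedNormal_subgroupOf_of_ambient hWK hKW hWel ?_⟩
  intro D hDK hKD hDp
  -- p'-elements of D centralize V
  have ha : ∀ y ∈ D, Nat.Coprime (orderOf y) p → y ∈ Subgroup.centralizer (V : Set L) := by
    intro y hy hco
    have hyW : y ∈ Subgroup.centralizer ((⁅V, R⁆ : Subgroup L) : Set L) := by
      obtain ⟨k, hk⟩ := hDp y hy
      obtain ⟨m, hm⟩ := exists_pow_eq_self_of_coprime (Nat.Coprime.pow_right k hco).symm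
      rw [← hm]
      exact Subgroup.pow_mem _ hk m
    have hyR : y ∈ R := by
      rw [hR, opOf_eq_closure]; exact Subgroup.subset_closure ⟨hDK hy, hco⟩
    rw [Subgroup.mem_centralizer_iff]
    intro v hv
    have hc : ⁅v, y⁆ ∈ ⁅V, R⁆ := Subgroup.commutator_mem_commutator hv hyR
    have hcomm : Commute ⁅v, y⁆ y := (Subgroup.mem_centralizer_iff.mp hyW) _ hc
    exact (commute_of_coprime_of_commutator_commute hWp y hco v hc hcomm).eq
  -- D ≤ C(V)
  have hDsub : D.IsSubnormal :=
    Subgroup.IsSubnormal.step D K hDK hK (Subgroup.normal_subgroupOf_of_le_normalizer hKD)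
  have hDbar : (D.map (QuotientGroup.mk' (Subgroup.centralizer (V : Set L)))).IsSubnormal :=
    hDsub.map (QuotientGroup.mk'_surjective _)
  have hDbarp : IsPGroup p ↥(D.map (QuotientGroup.mk' (Subgroup.centralizer (V : Set L)))) := by
    rintro ⟨_, d, hd, rfl⟩
    obtain ⟨k, hk⟩ := exists_pow_coprime p d
    refine ⟨k, ?_⟩
    apply Subtype.ext
    have h1 := ha _ (Subgroup.pow_mem _ hd (p ^ k)) hk
    simp only [Subgroup.coe_pow, Subgroup.coe_one, ← map_pow]
    exact (QuotientGroup.eq_one_iff _).mpr h1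
  have hle := le_pCore_of_isSubnormal_of_isPGroup hDbar hDbarp
  rw [hO] at hle
  have hDV : D ≤ Subgroup.centralizer (V : Set L) := by
    intro d hd
    have := hle (Subgroup.mem_map_of_mem _ hd)
    rw [Subgroup.mem_bot] at this
    exact (QuotientGroup.eq_one_iff _).mp this
  exact hDV.trans (Subgroup.centralizer_le hWV)

end Cfsg.Agent.S2804
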