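import Cfsg.Statements.S2805
-- import your own Cfsg.Agent.* helpers here
import Cfsg.Agent.Lib.Helper47.SylowCenter
import Cfsg.Agent.Lib.Helper47.Trace
import Cfsg.Agent.Lib.Helper47.RelTrace
import Cfsg.Agent.Lib.Helper31.SubnormalChar
import Cfsg.Agent.Lib.Helper49.SubnormalSylow
import Cfsg.Agent.S2826

set_option autoImplicit false
open Cfsg

namespace Cfsg.Agent.S2805

open Cfsg.Agent.Lib.Helper47
open scoped commutatorElement IsMulCommutative

variable {X : Type*} [Group X]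

/-- Abbreviation: `Ω₁(Z(K))` inside the ambient group. -/
abbrev oz (p : ℕ) (K : Subgroup X) : Subgroup X :=
  Cfsg.omegaOne p (K ⊓ Subgroup.centralizer (K : Set X))

/-- `Ω₁Z(P) ≤ Ω₁Z(O_p(X))` in a group of characteristic `p`. -/
theorem oz_sylow_le [Finite X] {p : ℕ} [Fact p.Prime]
    (hX : Subgroup.centralizer (Cfsg.pCore p X : Set X) ≤ Cfsg.pCore p X) (P : Sylow p X) :
    oz p (P : Subgroup X) ≤ oz p (Cfsg.pCore p X) := by
  intro z hz
  rw [mem_omegaOne_center_iff] at hz ⊢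
  obtain ⟨_, hzC, hzp⟩ := hz
  have hzc : z ∈ Subgroup.centralizer (Cfsg.pCore p X : Set X) :=
    Subgroup.centralizer_le (show (Cfsg.pCore p X : Set X) ⊆ (P : Subgroup X) from pCore_le_sylow P) hzC
  exact ⟨hX hzc, hzc, hzp⟩

/-- Normal case, first inclusion. -/
theorem normal_case_ge [Finite X] {p : ℕ} [Fact p.Prime]
    (hX : Subgroup.centralizer (Cfsg.pCore p X : Set X) ≤ Cfsg.pCore p X) (P : Sylow p X)
    (L : Subgroup X) [hLn : L.Normal] :
    L ⊓ Subgroup.centralizer ((oz p ((P : Subgroup X) ⊓ L) : Subgroup X) : Set X) ≤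
      L ⊓ Subgroup.centralizer ((oz p (P : Subgroup X) : Subgroup X) : Set X) := by
  intro x hx
  obtain ⟨hxL, hxC⟩ := Subgroup.mem_inf.mp hx
  refine Subgroup.mem_inf.mpr ⟨hxL, ?_⟩
  rw [Subgroup.mem_centralizer_iff]
  intro z hz
  set V := oz p (Cfsg.pCore p X) with hV
  have hVn : V.Normal := omegaOne_center_pCore_normal p X
  have hVel : Cfsg.IsElementaryAbelian p V := isElementaryAbelian_omegaOne_center p _
  have hzV : z ∈ V := oz_sylow_le hX P hz
  have hz' := mem_omegaOne_center_iff.mp hz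
  obtain ⟨Q, hQ⟩ := exists_sylow_eq_subgroupOf_of_normal P L
  have hidx : ¬ p ∣ (((P : Subgroup X) ⊓ L).subgroupOf L).index := by
    have := Q.not_dvd_index
    rwa [hQ, ← Subgroup.inf_subgroupOf_right] at this
  have hLV : L ≤ Subgroup.normalizer (V : Set X) := by
    rw [Subgroup.normalizer_eq_top]; exact le_top
  have hzS : ∀ t ∈ (P : Subgroup X) ⊓ L, t * z * t⁻¹ = z := by
    intro t ht
    have := (Subgroup.mem_centralizer_iff.mp hz'.2.1) t (Subgroup.mem_inf.mp ht).1
    rw [this, mul_inv_cancel_right]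
  obtain ⟨c, hcV, hcp, hcL, w, hw, rfl⟩ := trace_decomp hLV hVel.1 hidx hzV hz'.2.2 hzS
  have hwL : w ∈ L := Subgroup.commutator_le_right V L hw
  have hwV : w ∈ V := Subgroup.commutator_le_left V L hw
  have hVP : V ≤ (P : Subgroup X) := fun v hv => pCore_le_sylow P (mem_omegaOne_center_iff.mp hv).1
  -- `w ∈ Ω₁Z(P ∩ L)`
  have hcx : ∀ l ∈ L, l * c = c * l := by
    intro l hl
    have := hcL l hl
    calc l * c = (l * c * l⁻¹) * l := by group
      _ = c * l := by rw [this]
  have hwZ : w ∈ oz p ((P : Subgroup X) ⊓ L) := by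
    rw [mem_omegaOne_center_iff]
    refine ⟨Subgroup.mem_inf.mpr ⟨hVP hwV, hwL⟩, ?_, hVel.2 w hwV⟩
    rw [Subgroup.mem_centralizer_iff]
    intro s hs
    have hs' := Subgroup.mem_inf.mp hs
    have h1 : s * (c * w) = (c * w) * s := (Subgroup.mem_centralizer_iff.mp hz'.2.1) s hs'.1
    have h2 : s * c = c * s := hcx s hs'.2
    have h3 : c * (s * w) = c * (w * s) := by
      rw [← mul_assoc, ← h2, mul_assoc, h1, mul_assoc]
    exact mul_left_cancel h3
  have h1 : w * x = x * w := (Subgroup.mem_centralizer_iff.mp hxC) w hwZ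
  have h2 : x * c = c * x := hcx x hxL
  rw [mul_assoc, h1, ← mul_assoc, ← h2, mul_assoc]

/-- `Ω₁Z(O_p(L))` is normal for normal `L`. -/
theorem oz_pCoreOf_normal (p : ℕ) (L : Subgroup X) [hLn : L.Normal] :
    (oz p (Cfsg.pCoreOf p L)).Normal := by
  constructor
  intro y hy g
  have h1 := conj_mem_omegaOne_center g hy
  have hg : g ∈ Subgroup.normalizer ((Cfsg.pCoreOf p L : Subgroup X) : Set X) := by
    apply normalizer_le_normalizer_pCoreOf p L
    rw [Subgroup.normalizer_eq_top]; trivial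
  rwa [map_conj_eq_of_mem_normalizer hg] at h1

/-- Normal case, second inclusion. -/
theorem normal_case_le [Finite X] {p : ℕ} [Fact p.Prime]
    (hL : Subgroup.centralizer (Cfsg.pCore p ↥(⊤ : Subgroup X) : Set ↥(⊤ : Subgroup X)) ≤
      Cfsg.pCore p ↥(⊤ : Subgroup X)) (P : Sylow p X)
    (L : Subgroup X) [hLn : L.Normal] :
    L ⊓ Subgroup.centralizer ((oz p (P : Subgroup X) : Subgroup X) : Set X) ≤
      L ⊓ Subgroup.centralizer ((oz p ((P : Subgroup X) ⊓ L) : Subgroup X) : Set X) := by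
  intro x hx
  obtain ⟨hxL, hxC⟩ := Subgroup.mem_inf.mp hx
  refine Subgroup.mem_inf.mpr ⟨hxL, ?_⟩
  obtain ⟨Q, hQ⟩ := exists_sylow_eq_subgroupOf_of_normal P L
  have hQmap : (Q : Subgroup ↥L).map L.subtype = (P : Subgroup X) ⊓ L := by
    rw [hQ, Subgroup.subgroupOf_map_subtype]
  have hLchar : Subgroup.centralizer (Cfsg.pCore p ↥L : Set ↥L) ≤ Cfsg.pCore p ↥L :=
    Cfsg.Agent.Lib.Helper31.charP_of_normal_of_charP (C := L) (N := ⊤) le_top
      (by rw [Subgroup.normalizer_eq_top]) hL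
  set Y := oz p (Cfsg.pCoreOf p L) with hY
  have hYn : Y.Normal := oz_pCoreOf_normal p L
  have hYel : Cfsg.IsElementaryAbelian p Y := isElementaryAbelian_omegaOne_center p _
  have hZSY : oz p ((P : Subgroup X) ⊓ L) ≤ Y := by
    have := omegaOne_center_sylow_le_of_charP hLchar Q
    rwa [hQmap] at this
  have hYP : Y ≤ (P : Subgroup X) := by
    intro y hy
    have h1 : y ∈ Cfsg.pCoreOf p L := (mem_omegaOne_center_iff.mp hy).1
    exact pCore_le_sylow P (pCoreOf_le_pCore_of_isSubnormal p hLn.isSubnormal h1)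
  set D := L ⊓ Subgroup.centralizer ((oz p (P : Subgroup X) : Subgroup X) : Set X) with hD
  -- the action
  have hcomm : IsMulCommutative ↥Y := hYel.1
  let _ : MulDistribMulAction X ↥Y := MulDistribMulAction.compHom ↥Y (MulAut.conjNormal (H := Y))
  have hsmul : ∀ (g : X) (a : ↥Y), ((g • a : ↥Y) : X) = g * (a : X) * g⁻¹ := fun _ _ => rfl
  have hA : ∀ a : ↥Y, a ^ p = 1 := by
    intro a
    apply Subtype.ext
    simpa using hYel.2 a a.2
  -- `P` normalizes `D`
  have hPD : (P : Subgroup X) ≤ Subgroup.normalizer (D : Set X) := by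
    intro t ht
    rw [Subgroup.mem_normalizer_iff]
    intro d
    rw [hD, Subgroup.mem_inf, Subgroup.mem_inf]
    have h1 : d ∈ L ↔ t * d * t⁻¹ ∈ L := by
      constructor
      · intro h; exact hLn.conj_mem d h t
      · intro h
        have := hLn.conj_mem _ h t⁻¹
        simpa [mul_assoc] using this
    have h2 : ∀ d : X, d ∈ Subgroup.centralizer ((oz p (P : Subgroup X) : Subgroup X) : Set X) →
        ∀ t ∈ (P : Subgroup X), t * d * t⁻¹ ∈
          Subgroup.centralizer ((oz p (P : Subgroup X) : Subgroup X) : Set X) := by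
      intro d hd t ht
      have htc : t ∈ Subgroup.centralizer ((oz p (P : Subgroup X) : Subgroup X) : Set X) := by
        rw [Subgroup.mem_centralizer_iff]
        intro z hz
        exact ((Subgroup.mem_centralizer_iff.mp (mem_omegaOne_center_iff.mp hz).2.1) t ht).symm
      exact Subgroup.mul_mem _ (Subgroup.mul_mem _ htc hd) (Subgroup.inv_mem _ htc)
    rw [h1]
    constructor
    · rintro ⟨ha, hb⟩; exact ⟨ha, h2 d hb t ht⟩
    · rintro ⟨ha, hb⟩
      refine ⟨ha, ?_⟩
      have := h2 _ hb t⁻¹ (Subgroup.inv_mem _ ht)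
      simpa [mul_assoc] using this
  -- `P ∩ D = P ∩ L`
  have hPDeq : (P : Subgroup X) ⊓ D = (P : Subgroup X) ⊓ L := by
    apply le_antisymm
    · exact inf_le_inf_left _ inf_le_left
    · intro s hs
      have hs' := Subgroup.mem_inf.mp hs
      refine Subgroup.mem_inf.mpr ⟨hs'.1, Subgroup.mem_inf.mpr ⟨hs'.2, ?_⟩⟩
      rw [Subgroup.mem_centralizer_iff]
      intro z hz
      exact ((Subgroup.mem_centralizer_iff.mp (mem_omegaOne_center_iff.mp hz).2.1) s hs'.1).symm
  have hidx : ¬ p ∣ (((P : Subgroup X) ⊓ D).subgroupOf D).index := by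
    rw [hPDeq]
    have h1 := Q.not_dvd_index
    rw [hQ, ← Subgroup.inf_subgroupOf_right] at h1
    intro h2
    apply h1
    have hSD : (P : Subgroup X) ⊓ L ≤ D := by rw [← hPDeq]; exact inf_le_right
    have h3 := Subgroup.relIndex_mul_relIndex ((P : Subgroup X) ⊓ L) D L hSD inf_le_left
    exact Dvd.dvd.trans h2 (Dvd.intro _ h3)
  -- fixed points of `P` are fixed by `D`
  have hfix : ∀ a : ↥Y, (∀ t ∈ (P : Subgroup X), t • a = a) → ∀ d ∈ D, d • a = a := by
    intro a ha d hd
    have haZ : (a : X) ∈ oz p (P : Subgroup X) := by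
      rw [mem_omegaOne_center_iff]
      refine ⟨hYP a.2, ?_, hYel.2 a a.2⟩
      rw [Subgroup.mem_centralizer_iff]
      intro t ht
      have := congrArg Subtype.val (ha t ht)
      rw [hsmul] at this
      calc t * (a : X) = (t * (a : X) * t⁻¹) * t := by group
        _ = (a : X) * t := by rw [this]
    have hdc := (Subgroup.mem_inf.mp hd).2
    have := (Subgroup.mem_centralizer_iff.mp hdc) _ haZ
    apply Subtype.ext
    rw [hsmul, ← this, mul_inv_cancel_right]
  have key := fixed_of_inf_fixed hA D (P : Subgroup X) hPD P.2 hidx hfix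
  rw [Subgroup.mem_centralizer_iff]
  intro u hu
  have huY : u ∈ Y := hZSY hu
  have hu' := mem_omegaOne_center_iff.mp hu
  have hufix : ∀ s ∈ (P : Subgroup X) ⊓ D, s • (⟨u, huY⟩ : ↥Y) = ⟨u, huY⟩ := by
    intro s hs
    rw [hPDeq] at hs
    apply Subtype.ext
    rw [hsmul]
    have := (Subgroup.mem_centralizer_iff.mp hu'.2.1) s hs
    show s * u * s⁻¹ = u
    rw [this, mul_inv_cancel_right]
  have := congrArg Subtype.val (key ⟨u, huY⟩ hufix x hx)
  rw [hsmul] at this
  have h2 : x * u * x⁻¹ = u := this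
  calc u * x = (x * u * x⁻¹) * x := by rw [h2]
    _ = x * u := by group

/-- Normal case (intrinsic form). -/
theorem normal_case [Finite X] {p : ℕ} [Fact p.Prime]
    (hX : Subgroup.centralizer (Cfsg.pCore p X : Set X) ≤ Cfsg.pCore p X) (P : Sylow p X)
    (L : Subgroup X) [hLn : L.Normal] :
    L ⊓ Subgroup.centralizer ((oz p (P : Subgroup X) : Subgroup X) : Set X) =
      L ⊓ Subgroup.centralizer ((oz p ((P : Subgroup X) ⊓ L) : Subgroup X) : Set X) :=
  le_antisymm (normal_case_le (Cfsg.Agent.S2826.charP_top hX) P L) (normal_case_ge hX P L)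

/-- Transfer of `Ω₁Z` between a subgroup `K` (as a group) and the ambient group. -/
theorem oz_subgroupOf_map (p : ℕ) {K Q : Subgroup X} (hQK : Q ≤ K) :
    (oz p (Q.subgroupOf K)).map K.subtype = oz p Q := by
  have hmap : (Q.subgroupOf K).map K.subtype = Q := by
    rw [Subgroup.subgroupOf_map_subtype, inf_of_le_left hQK]
  ext y
  constructor
  · rintro ⟨y', hy', rfl⟩
    rw [SetLike.mem_coe, mem_omegaOne_center_iff] at hy'
    rw [mem_omegaOne_center_iff]
    obtain ⟨h1, h2, h3⟩ := hy'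
    rw [mem_centralizer_subtype_iff, hmap] at h2
    refine ⟨Subgroup.mem_subgroupOf.mp h1, h2, ?_⟩
    have := congrArg Subtype.val h3
    simpa using this
  · intro hy
    rw [mem_omegaOne_center_iff] at hy
    obtain ⟨h1, h2, h3⟩ := hy
    refine ⟨⟨y, hQK h1⟩, ?_, rfl⟩
    rw [SetLike.mem_coe, mem_omegaOne_center_iff]
    refine ⟨Subgroup.mem_subgroupOf.mpr h1, ?_, ?_⟩
    · rw [mem_centralizer_subtype_iff, hmap]; exact h2
    · apply Subtype.ext; simpa using h3

/-- Normal case, ambient form: `K` of characteristic `p`, `T ∩ K` Sylow in `K`, `L ⊴ K`. -/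
theorem normal_case_ambient [Finite X] {p : ℕ} [Fact p.Prime] (T K L : Subgroup X)
    (hK : Subgroup.centralizer (Cfsg.pCore p ↥K : Set ↥K) ≤ Cfsg.pCore p ↥K)
    (hT : ∃ P : Sylow p ↥K, (P : Subgroup ↥K) = T.subgroupOf K)
    (hLK : L ≤ K) (hN : (L.subgroupOf K).Normal) :
    L ⊓ Subgroup.centralizer ((oz p (T ⊓ K) : Subgroup X) : Set X) =
      L ⊓ Subgroup.centralizer ((oz p (T ⊓ L) : Subgroup X) : Set X) := by
  obtain ⟨P, hP⟩ := hT
  have key := normal_case hK P (L.subgroupOf K)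
  have e1 : (P : Subgroup ↥K) = (T ⊓ K).subgroupOf K := by
    rw [hP, Subgroup.inf_subgroupOf_right]
  have e2 : (P : Subgroup ↥K) ⊓ L.subgroupOf K = (T ⊓ L).subgroupOf K := by
    rw [hP]
    ext y
    simp [Subgroup.mem_subgroupOf]
  rw [e2, e1] at key
  have hTL : T ⊓ L ≤ K := inf_le_right.trans hLK
  ext x
  rw [Subgroup.mem_inf, Subgroup.mem_inf]
  constructor
  · rintro ⟨hxL, hxC⟩
    refine ⟨hxL, ?_⟩
    have h1 : (⟨x, hLK hxL⟩ : ↥K) ∈ L.subgroupOf K ⊓
        Subgroup.centralizer ((oz p ((T ⊓ K).subgroupOf K) : Subgroup ↥K) : Set ↥K) := by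
      refine Subgroup.mem_inf.mpr ⟨Subgroup.mem_subgroupOf.mpr hxL, ?_⟩
      rw [mem_centralizer_subtype_iff, oz_subgroupOf_map p inf_le_right]
      exact hxC
    rw [key] at h1
    have h2 := (Subgroup.mem_inf.mp h1).2
    rw [mem_centralizer_subtype_iff, oz_subgroupOf_map p hTL] at h2
    exact h2
  · rintro ⟨hxL, hxC⟩
    refine ⟨hxL, ?_⟩
    have h1 : (⟨x, hLK hxL⟩ : ↥K) ∈ L.subgroupOf K ⊓
        Subgroup.centralizer ((oz p ((T ⊓ L).subgroupOf K) : Subgroup ↥K) : Set ↥K) := by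
      refine Subgroup.mem_inf.mpr ⟨Subgroup.mem_subgroupOf.mpr hxL, ?_⟩
      rw [mem_centralizer_subtype_iff, oz_subgroupOf_map p hTL]
      exact hxC
    rw [← key] at h1
    have h2 := (Subgroup.mem_inf.mp h1).2
    rw [mem_centralizer_subtype_iff, oz_subgroupOf_map p inf_le_right] at h2
    exact h2

/-- Kieler's Lemma: let H be a finite group of characteristic p (C_H(O_p(H)) ≤ O_p(H)), T a Sylow p-subgroup of H and L a subnormal subgroup of H. Then C_L(Ω₁(Z(T))) = C_L(Ω₁(Z(T ∩ L))), Ω₁(Z(·)) denoting the elements of order dividing p in the centre. -/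
theorem result {H : Type*} [Group H] [Finite H] {p : ℕ} [Fact p.Prime] (hH : Subgroup.centralizer (Cfsg.pCore p H : Set H) ≤ Cfsg.pCore p H) (T : Sylow p H) (L : Subgroup H) (hL : L.IsSubnormal) : L ⊓ Subgroup.centralizer ((Cfsg.omegaOne p ((T : Subgroup H) ⊓ Subgroup.centralizer ((T : Subgroup H) : Set H))) : Set H) = L ⊓ Subgroup.centralizer ((Cfsg.omegaOne p (((T : Subgroup H) ⊓ L) ⊓ Subgroup.centralizer ((((T : Subgroup H) ⊓ L) : Subgroup H) : Set H))) : Set H) := by
  show L ⊓ Subgroup.centralizer ((oz p (T : Subgroup H) : Subgroup H) : Set H) =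
    L ⊓ Subgroup.centralizer ((oz p ((T : Subgroup H) ⊓ L) : Subgroup H) : Set H)
  induction hL with
  | top => rw [inf_top_eq]
  | step L K hLK hK hN ih =>
    have hKchar : Subgroup.centralizer (Cfsg.pCore p ↥K : Set ↥K) ≤ Cfsg.pCore p ↥K :=
      Cfsg.Agent.Lib.Helper31.charP_of_isSubnormal (H := ⊤) (K := K) le_top
        (Cfsg.Agent.S2826.charP_top hH) hK.subgroupOf
    have hTK := Cfsg.Agent.Lib.Helper49.exists_sylow_eq_subgroupOf_of_isSubnormal T hK
    have h1 := normal_case_ambient (T : Subgroup H) K L hKchar hTK hLK hN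
    rw [← h1]
    calc L ⊓ Subgroup.centralizer ((oz p (T : Subgroup H) : Subgroup H) : Set H)
        = L ⊓ (K ⊓ Subgroup.centralizer ((oz p (T : Subgroup H) : Subgroup H) : Set H)) := by
          rw [← inf_assoc, inf_of_le_left hLK]
      _ = L ⊓ (K ⊓ Subgroup.centralizer ((oz p ((T : Subgroup H) ⊓ K) : Subgroup H) : Set H)) := by
          rw [ih]
      _ = L ⊓ Subgroup.centralizer ((oz p ((T : Subgroup H) ⊓ K) : Subgroup H) : Set H) := by
          rw [← inf_assoc, inf_of_le_left hLK]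

end Cfsg.Agent.S2805
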