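import Cfsg.Statements.S2809
-- import your own Cfsg.Agent.* helpers here
import Cfsg.Agent.Lib.Helper47.Coprime

set_option autoImplicit false
open Cfsg

namespace Cfsg.Agent.S2809

open Cfsg.Agent.Lib.Helper47
open scoped commutatorElement

theorem iterCommutator_le {H : Type*} [Group H] (R L : Subgroup H)
    (hL : L ≤ Subgroup.normalizer (R : Set H)) (n : ℕ) : Cfsg.iterCommutator R L n ≤ R := by
  induction n with
  | zero => exact le_rfl
  | succ n ih =>
    show ⁅Cfsg.iterCommutator R L n, L⁆ ≤ R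
    rw [Subgroup.commutator_le]
    intro a ha b hb
    have haR := ih ha
    have hb' := hL hb
    have h1 : b * a⁻¹ * b⁻¹ ∈ R := (Subgroup.mem_normalizer_iff.mp hb' a⁻¹).mp (R.inv_mem haR)
    have : ⁅a, b⁆ = a * (b * a⁻¹ * b⁻¹) := by simp [commutatorElement_def, mul_assoc]
    rw [this]
    exact R.mul_mem haR h1

theorem centralizes_iter {H : Type*} [Group H] {p : ℕ} [Fact p.Prime] (R : Subgroup H)
    (hR : IsPGroup p ↥R) (L : Subgroup H) (hL : L ≤ Subgroup.normalizer (R : Set H))
    (x : H) (hxL : x ∈ L) (hx : Nat.Coprime (orderOf x) p) (n : ℕ)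
    (hn : Cfsg.iterCommutator R L n = ⊥) :
    ∀ i : ℕ, i ≤ n → ∀ a ∈ Cfsg.iterCommutator R L (n - i), Commute a x := by
  intro i
  induction i with
  | zero =>
    intro _ a ha
    rw [Nat.sub_zero, hn, Subgroup.mem_bot] at ha
    rw [ha]; exact Commute.one_left x
  | succ i ih =>
    intro hi a ha
    have hstep : n - i = (n - (i + 1)) + 1 := by omega
    have hc : ⁅a, x⁆ ∈ Cfsg.iterCommutator R L (n - i) := by
      rw [hstep]
      show ⁅a, x⁆ ∈ ⁅Cfsg.iterCommutator R L (n - (i + 1)), L⁆
      exact Subgroup.commutator_mem_commutator ha hxL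
    have hcR : ⁅a, x⁆ ∈ R := iterCommutator_le R L hL _ hc
    exact commute_of_coprime_of_commutator_commute hR x hx a hcR (ih (by omega) _ hc)

/-- Let H be a finite group, p a prime, R a p-subgroup of H with C_H(R) ≤ R, and L a subgroup of N_H(R) acting nilpotently on R (some iterated commutator [R, L, …, L] is trivial). Then L is a p-group. -/
theorem result {H : Type*} [Group H] [Finite H] {p : ℕ} [Fact p.Prime] (R : Subgroup H) (hR : IsPGroup p ↥R) (hC : Subgroup.centralizer (R : Set H) ≤ R) (L : Subgroup H) (hL : L ≤ Subgroup.normalizer (R : Set H)) (hnil : ∃ n : ℕ, Cfsg.iterCommutator R L n = ⊥) : IsPGroup p ↥L := by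
  obtain ⟨n, hn⟩ := hnil
  apply isPGroup_subgroup_of_forall_coprime_eq_one
  intro x hxL hx
  have hcent : x ∈ Subgroup.centralizer (R : Set H) := by
    rw [Subgroup.mem_centralizer_iff]
    intro a ha
    have := centralizes_iter R hR L hL x hxL hx n hn n le_rfl a (by simpa [Cfsg.iterCommutator] using ha)
    exact this.eq
  have hxR : x ∈ R := hC hcent
  obtain ⟨k, hk⟩ := hR ⟨x, hxR⟩
  have hk' : x ^ p ^ k = 1 := by simpa using congrArg Subtype.val hk
  have h1 : orderOf x ∣ p ^ k := orderOf_dvd_of_pow_eq_one hk'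
  have h2 : Nat.Coprime (orderOf x) (p ^ k) := Nat.Coprime.pow_right k hx
  have h3 : orderOf x = 1 := Nat.eq_one_of_dvd_coprimes h2 dvd_rfl h1
  exact orderOf_eq_one_iff.mp h3

end Cfsg.Agent.S2809
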