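import Cfsg.Statements.S2810
-- import your own Cfsg.Agent.* helpers here
import Cfsg.Agent.Lib.Helper47.Coprime

set_option autoImplicit false
open Cfsg

namespace Cfsg.Agent.S2810

open Cfsg.Agent.Lib.Helper47
open scoped commutatorElement

/-- The subgroup of elements `g` with `⁅a, g⁆ ∈ B` for all `a ∈ A` (for `B` normal). -/
def stab {H : Type*} [Group H] (A B : Subgroup H) (hB : B.Normal) : Subgroup H where
  carrier := {g | ∀ a ∈ A, ⁅a, g⁆ ∈ B}
  one_mem' := by
    intro a _
    simp
  mul_mem' := by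
    intro g h hg hh a ha
    have : ⁅a, g * h⁆ = ⁅a, g⁆ * (g * ⁅a, h⁆ * g⁻¹) := by
      simp [commutatorElement_def, mul_assoc]
    rw [this]
    exact B.mul_mem (hg a ha) (hB.conj_mem _ (hh a ha) g)
  inv_mem' := by
    intro g hg a ha
    have : ⁅a, g⁻¹⁆ = g⁻¹ * (⁅a, g⁆)⁻¹ * g := by
      simp [commutatorElement_def, mul_assoc]
    rw [this]
    have := hB.conj_mem _ (B.inv_mem (hg a ha)) g⁻¹
    simpa using this

theorem stab_normal {H : Type*} [Group H] (A B : Subgroup H) (hA : A.Normal) (hB : B.Normal) :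
    (stab A B hB).Normal := by
  constructor
  intro n hn g a ha
  -- ⁅a, g n g⁻¹⁆ = g ⁅g⁻¹ a g, n⁆ g⁻¹
  have h1 : ⁅a, g * n * g⁻¹⁆ = g * ⁅g⁻¹ * a * g, n⁆ * g⁻¹ := by
    simp [commutatorElement_def, mul_assoc]
  rw [h1]
  apply hB.conj_mem
  apply hn
  have := hA.conj_mem a ha g⁻¹
  simpa using this

/-- Let H be a finite group of characteristic p and L a subgroup of H centralizing every factor of some H-invariant chain 1 = A₀ ≤ A₁ ≤ … ≤ Aₙ = O_p(H) of normal subgroups (that is, [A_{i+1}, L] ≤ Aᵢ for each i). Then L ≤ O_p(H). -/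
theorem result {H : Type*} [Group H] [Finite H] {p : ℕ} [Fact p.Prime] (hchar : Subgroup.centralizer (Cfsg.pCore p H : Set H) ≤ Cfsg.pCore p H) (L : Subgroup H) (n : ℕ) (A : Fin (n + 1) → Subgroup H) (h0 : A 0 = ⊥) (hn : A (Fin.last n) = Cfsg.pCore p H) (hmono : Monotone A) (hnorm : ∀ i, (A i).Normal) (hcent : ∀ i : Fin n, ⁅A i.succ, L⁆ ≤ A i.castSucc) : L ≤ Cfsg.pCore p H := by
  classical
  -- the stability group of the chain
  set C : Subgroup H := ⨅ i : Fin n, stab (A i.succ) (A i.castSucc) (hnorm _) with hCdef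
  have hCn : C.Normal := by
    rw [hCdef]
    exact Subgroup.normal_iInf_normal (fun i => stab_normal _ _ (hnorm _) (hnorm _))
  have hLC : L ≤ C := by
    rw [hCdef]
    refine le_iInf (fun i => ?_)
    intro g hg a ha
    exact hcent i (Subgroup.commutator_mem_commutator ha hg)
  have hApc : ∀ i, A i ≤ Cfsg.pCore p H := by
    intro i
    rw [← hn]
    exact hmono (Fin.le_last i)
  have hpc : IsPGroup p ↥(Cfsg.pCore p H) := pCore_isPGroup p H
  have hCp : IsPGroup p ↥C := by
    apply isPGroup_subgroup_of_forall_coprime_eq_one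
    intro x hxC hx
    -- x centralizes every A i
    have hall : ∀ i : Fin (n + 1), ∀ a ∈ A i, Commute a x := by
      intro i
      induction i using Fin.induction with
      | zero =>
        intro a ha
        rw [h0, Subgroup.mem_bot] at ha
        rw [ha]; exact Commute.one_left x
      | succ i ih =>
        intro a ha
        have hxi : x ∈ stab (A i.succ) (A i.castSucc) (hnorm _) := by
          have := hxC
          rw [hCdef, Subgroup.mem_iInf] at this
          exact this i
        have hc : ⁅a, x⁆ ∈ A i.castSucc := hxi a ha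
        exact commute_of_coprime_of_commutator_commute hpc x hx a (hApc _ hc) (ih _ hc)
    have hcent' : x ∈ Subgroup.centralizer (Cfsg.pCore p H : Set H) := by
      rw [Subgroup.mem_centralizer_iff]
      intro a ha
      have ha' : a ∈ A (Fin.last n) := by rw [hn]; exact ha
      exact (hall _ a ha').eq
    have hxR : x ∈ Cfsg.pCore p H := hchar hcent'
    obtain ⟨k, hk⟩ := hpc ⟨x, hxR⟩
    have hk' : x ^ p ^ k = 1 := by simpa using congrArg Subtype.val hk
    have h1 : orderOf x ∣ p ^ k := orderOf_dvd_of_pow_eq_one hk'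
    have h2 : Nat.Coprime (orderOf x) (p ^ k) := Nat.Coprime.pow_right k hx
    have h3 : orderOf x = 1 := Nat.eq_one_of_dvd_coprimes h2 dvd_rfl h1
    exact orderOf_eq_one_iff.mp h3
  exact hLC.trans (le_pCore hCn hCp)

end Cfsg.Agent.S2810
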