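import Cfsg.Statements.S4217
-- import your own Cfsg.Agent.* helpers here
import Cfsg.Agent.S0051
import Mathlib

set_option autoImplicit false
open Cfsg

namespace Cfsg.Agent.S4217

section
variable {G : Type*} [Group G] [Finite G]

/-- For a normal subgroup `N` and any subgroup `K`: `|N : N ∩ K| = |KN : K|`. -/
theorem relIndex_eq_relIndex_sup (N K : Subgroup G) [N.Normal] :
    K.relIndex N = K.relIndex (K ⊔ N) := by
  have a : Nat.card K * K.relIndex (K ⊔ N) = Nat.card (K ⊔ N : Subgroup G) := by
    have := Subgroup.relIndex_mul_relIndex (⊥ : Subgroup G) K (K ⊔ N) bot_le le_sup_left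
    simpa [Subgroup.relIndex_bot_left] using this
  have b : Nat.card N * N.relIndex (K ⊔ N) = Nat.card (K ⊔ N : Subgroup G) := by
    have := Subgroup.relIndex_mul_relIndex (⊥ : Subgroup G) N (K ⊔ N) bot_le le_sup_right
    simpa [Subgroup.relIndex_bot_left] using this
  have b' : N.relIndex (K ⊔ N) = N.relIndex K := Subgroup.relIndex_sup_right K N
  have c : Nat.card (N ⊓ K : Subgroup G) * N.relIndex K = Nat.card K := by
    have := Subgroup.relIndex_mul_relIndex (⊥ : Subgroup G) (N ⊓ K) K bot_le inf_le_right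
    simpa [Subgroup.relIndex_bot_left, Subgroup.inf_relIndex_right] using this
  have d : Nat.card (N ⊓ K : Subgroup G) * K.relIndex N = Nat.card N := by
    have := Subgroup.relIndex_mul_relIndex (⊥ : Subgroup G) (N ⊓ K) N bot_le inf_le_left
    simpa [Subgroup.relIndex_bot_left, Subgroup.inf_relIndex_left] using this
  have hc : 0 < Nat.card (N ⊓ K : Subgroup G) := Nat.card_pos
  have hy : 0 < N.relIndex K := by
    rcases Nat.eq_zero_or_pos (N.relIndex K) with h | h
    · rw [h, mul_zero] at c
      exact absurd c.symm (Nat.card_pos).ne'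
    · exact h
  rw [b'] at b
  have e : Nat.card (N ⊓ K : Subgroup G) * N.relIndex K * K.relIndex (K ⊔ N)
      = Nat.card (N ⊓ K : Subgroup G) * K.relIndex N * N.relIndex K := by
    rw [c, d, a, b]
  have e' : (Nat.card (N ⊓ K : Subgroup G) * N.relIndex K) * K.relIndex (K ⊔ N)
      = (Nat.card (N ⊓ K : Subgroup G) * N.relIndex K) * K.relIndex N := by
    rw [e]; ring
  exact (Nat.eq_of_mul_eq_mul_left (Nat.mul_pos hc hy) e').symm

/-- the `q'`-part of an abelian normal subgroup -/
def primePart (A : Subgroup G) [A.Normal] (hA : IsMulCommutative A) (m : ℕ) : Subgroup G where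
  carrier := {a | a ∈ A ∧ a ^ m = 1}
  one_mem' := ⟨A.one_mem, one_pow m⟩
  mul_mem' := by
    rintro a b ⟨ha, ha1⟩ ⟨hb, hb1⟩
    refine ⟨A.mul_mem ha hb, ?_⟩
    have hcomm : Commute a b := by
      have := hA.is_comm.comm (⟨a, ha⟩ : A) ⟨b, hb⟩
      exact congrArg Subtype.val this
    rw [hcomm.mul_pow, ha1, hb1, one_mul]
  inv_mem' := by
    rintro a ⟨ha, ha1⟩
    exact ⟨A.inv_mem ha, by rw [inv_pow, ha1, inv_one]⟩

omit [Finite G] in
theorem mem_primePart (A : Subgroup G) [A.Normal] (hA : IsMulCommutative A) (m : ℕ) (a : G) :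
    a ∈ primePart A hA m ↔ a ∈ A ∧ a ^ m = 1 := Iff.rfl

instance primePart_normal (A : Subgroup G) [hAn : A.Normal] (hA : IsMulCommutative A) (m : ℕ) :
    (primePart A hA m).Normal := by
  constructor
  rintro a ⟨ha, ha1⟩ g
  refine ⟨hAn.conj_mem a ha g, ?_⟩
  rw [conj_pow, ha1, mul_one, mul_inv_cancel]

omit [Finite G] in
theorem primePart_le (A : Subgroup G) [A.Normal] (hA : IsMulCommutative A) (m : ℕ) :
    primePart A hA m ≤ A := fun _ h => h.1

/-- Key lemma: passing to the quotient by `B` and applying Gaschütz (S0051). -/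
theorem exists_partial_complement (A : Subgroup G) [A.Normal] (hA : IsMulCommutative A)
    (B : Subgroup G) [B.Normal] (hBA : B ≤ A) (q v : ℕ) (hq : q.Prime)
    (hpow : ∀ a ∈ A, a ^ q ^ v ∈ B)
    (U K : Subgroup G) (hqU : ¬ q ∣ U.index) (hKA : K ⊓ A = ⊥)
    (hKU : K ⊔ A = U) :
    ∃ K₁ : Subgroup G, K₁ ⊓ A = B ∧ K₁ ⊔ A = ⊤ := by
  have : Fact q.Prime := ⟨hq⟩
  set π := QuotientGroup.mk' B with hπ
  have hπs : Function.Surjective π := QuotientGroup.mk'_surjective B
  have hker : π.ker = B := QuotientGroup.ker_mk' B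
  have hAU : A ≤ U := by rw [← hKU]; exact le_sup_right
  have hKleU : K ≤ U := by rw [← hKU]; exact le_sup_left
  set Abar := A.map π with hAbar
  have hAbarN : Abar.Normal := Subgroup.Normal.map inferInstance π hπs
  have hAbarC : IsMulCommutative Abar := by
    rw [isMulCommutative_iff]
    rintro ⟨x, a, ha, rfl⟩ ⟨y, b, hb, rfl⟩
    apply Subtype.ext
    show π a * π b = π b * π a
    have := hA.is_comm.comm (⟨a, ha⟩ : A) ⟨b, hb⟩
    have h' : a * b = b * a := congrArg Subtype.val this
    rw [← map_mul, ← map_mul, h']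
  -- `Abar` is a `q`-group
  have hAbarP : IsPGroup q Abar := by
    rintro ⟨x, a, ha, rfl⟩
    refine ⟨v, ?_⟩
    apply Subtype.ext
    show (π a) ^ q ^ v = 1
    rw [← map_pow, hπ, QuotientGroup.mk'_apply, QuotientGroup.eq_one_iff]
    exact hpow a ha
  obtain ⟨k, hk⟩ := IsPGroup.iff_card.mp hAbarP
  have hUidx : (U.map π).index = U.index :=
    Subgroup.index_map_eq U hπs (by rw [hker]; exact hBA.trans hAU)
  have hcop : (Nat.card Abar).Coprime (U.map π).index := by
    rw [hk, hUidx]
    exact Nat.Coprime.pow_left k ((Nat.Prime.coprime_iff_not_dvd hq).mpr hqU)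
  have hKbarA : K.map π ⊓ Abar = ⊥ := by
    rw [eq_bot_iff]
    rintro x ⟨⟨k', hk', rfl⟩, ⟨a, ha, hka⟩⟩
    rw [Subgroup.mem_bot]
    have h1 : k'⁻¹ * a ∈ B := by
      rw [← hker, MonoidHom.mem_ker, map_mul, map_inv, hka, inv_mul_cancel]
    have h2 : k' ∈ A := by
      have : k' = a * (k'⁻¹ * a)⁻¹ := by group
      rw [this]
      exact A.mul_mem ha (A.inv_mem (hBA h1))
    have h3 : k' ∈ K ⊓ A := ⟨hk', h2⟩
    rw [hKA, Subgroup.mem_bot] at h3
    rw [h3, map_one]
  have hsup : Abar ⊔ K.map π = U.map π := by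
    rw [hAbar, ← Subgroup.map_sup, sup_comm, hKU]
  obtain ⟨H, hH⟩ := Cfsg.Agent.S0051.result Abar (U.map π) (Subgroup.map_mono hAU) hcop
    (K.map π) (Subgroup.map_mono hKleU) hKbarA hsup
  refine ⟨H.comap π, ?_, ?_⟩
  · apply le_antisymm
    · rintro x ⟨hx1, hx2⟩
      have h1 : π x ∈ Abar ⊓ H := ⟨⟨x, hx2, rfl⟩, hx1⟩
      rw [hH.disjoint.eq_bot, Subgroup.mem_bot] at h1
      rw [← hker]
      exact h1
    · intro x hx
      refine ⟨?_, hBA hx⟩
      show π x ∈ H
      have : π x = 1 := by rw [← MonoidHom.mem_ker, hker]; exact hx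
      rw [this]; exact H.one_mem
  · have hle : π.ker ≤ H.comap π ⊔ A := by
      rw [hker]; exact hBA.trans le_sup_right
    rw [← Subgroup.comap_map_eq_self hle, Subgroup.map_sup,
      Subgroup.map_comap_eq_self_of_surjective hπs, sup_comm, hH.sup_eq_top, Subgroup.comap_top]

end

/-- Let `A` be an abelian normal subgroup of the finite group `G`. Then `A` has a complement in `G` if and only if, for every prime `p` dividing the index of `A`, there are a Sylow `p`-subgroup `S` of `G/A` and a subgroup `K` of `G` with `K ∩ A = 1` and `KA` equal to the preimage of `S` (that is, `A` has a complement in the preimage of a Sylow `p`-subgroup of `G/A`). -/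
theorem result {G : Type*} [Group G] [Finite G] (A : Subgroup G) [A.Normal] (hA : IsMulCommutative A) : (∃ K : Subgroup G, K.IsComplement' A) ↔ ∀ p : ℕ, p.Prime → p ∣ A.index → ∃ (S : Sylow p (G ⧸ A)) (K : Subgroup G), K ⊓ A = ⊥ ∧ K ⊔ A = (S : Subgroup (G ⧸ A)).comap (QuotientGroup.mk' A) := by
  constructor
  · rintro ⟨K₀, hK₀⟩ p hp _
    have : Fact p.Prime := ⟨hp⟩
    obtain ⟨P₀⟩ : Nonempty (Sylow p K₀) := inferInstance
    set Q : Subgroup G := (P₀ : Subgroup K₀).map K₀.subtype with hQ
    have hQK : Q ≤ K₀ := by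
      rintro _ ⟨y, _, rfl⟩
      exact y.2
    have hdisj : K₀ ⊓ A = ⊥ := hK₀.disjoint.eq_bot
    have hQA : Q ⊓ A = ⊥ := by
      rw [eq_bot_iff, ← hdisj]
      exact inf_le_inf_right A hQK
    have hcardQ : Nat.card Q = p ^ (Nat.card K₀).factorization p := by
      rw [hQ, Subgroup.card_map_of_injective (Subgroup.subtype_injective _)]
      exact P₀.card_eq_multiplicity
    have hcardK : Nat.card K₀ = Nat.card (G ⧸ A) := by
      have h1 := hK₀.card_mul_card
      have h2 := A.card_mul_index
      have h3 : Nat.card K₀ * Nat.card A = A.index * Nat.card A := by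
        rw [h1, ← h2, mul_comm]
      exact Nat.eq_of_mul_eq_mul_right Nat.card_pos h3
    have hcardQbar : Nat.card (Q.map (QuotientGroup.mk' A)) =
        p ^ (Nat.card (G ⧸ A)).factorization p := by
      rw [← hcardK, ← hcardQ, ← Subgroup.relIndex_ker, QuotientGroup.ker_mk',
        ← Subgroup.inf_relIndex_right, inf_comm, hQA, Subgroup.relIndex_bot_left]
    refine ⟨Sylow.ofCard (Q.map (QuotientGroup.mk' A)) hcardQbar, Q, hQA, ?_⟩
    rw [Sylow.coe_ofCard, Subgroup.comap_map_eq, QuotientGroup.ker_mk']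
  · intro h
    classical
    -- for each prime q, a partial complement
    have hcardA : Nat.card A ≠ 0 := Nat.card_pos.ne'
    have step : ∀ q : ℕ, q.Prime → ∃ K₁ : Subgroup G,
        K₁ ⊓ A = primePart A hA (ordCompl[q] (Nat.card A)) ∧ K₁ ⊔ A = ⊤ := by
      intro q hq
      have : Fact q.Prime := ⟨hq⟩
      have hpow : ∀ a ∈ A, a ^ q ^ (Nat.card A).factorization q ∈
          primePart A hA (ordCompl[q] (Nat.card A)) := by
        intro a ha
        refine ⟨A.pow_mem ha _, ?_⟩
        rw [← pow_mul, Nat.ordProj_mul_ordCompl_eq_self]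
        have := pow_card_eq_one' (G := A) (x := ⟨a, ha⟩)
        exact congrArg Subtype.val this
      by_cases hqi : q ∣ A.index
      · obtain ⟨S, K, hKA, hKU⟩ := h q hq hqi
        apply exists_partial_complement A hA _ (primePart_le A hA _) q _ hq hpow
          ((S : Subgroup (G ⧸ A)).comap (QuotientGroup.mk' A)) K ?_ hKA hKU
        rw [Subgroup.index_comap_of_surjective _ (QuotientGroup.mk'_surjective A)]
        exact S.not_dvd_index
      · apply exists_partial_complement A hA _ (primePart_le A hA _) q _ hq hpow A ⊥ hqi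
          (by simp) (by simp)
    choose! Kq hKq using step
    set ι := {q // q ∈ (Nat.card A).primeFactors} with hι
    set K : Subgroup G := ⨅ q : ι, Kq q.1 with hK
    have hprime : ∀ q : ι, q.1.Prime := fun q => Nat.prime_of_mem_primeFactors q.2
    -- K ⊓ A = ⊥
    have hKA : K ⊓ A = ⊥ := by
      rw [eq_bot_iff]
      rintro x ⟨hxK, hxA⟩
      rw [Subgroup.mem_bot]
      by_contra hx1
      have hord : orderOf x ≠ 1 := by rwa [Ne, orderOf_eq_one_iff]
      obtain ⟨l, hl, hlx⟩ := Nat.exists_prime_and_dvd hord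
      have hxcard : orderOf x ∣ Nat.card A := by
        have := orderOf_dvd_natCard (⟨x, hxA⟩ : A)
        rwa [Subgroup.orderOf_mk] at this
      have hlmem : l ∈ (Nat.card A).primeFactors :=
        Nat.mem_primeFactors.mpr ⟨hl, hlx.trans hxcard, hcardA⟩
      have hxl : x ∈ Kq l ⊓ A := by
        refine ⟨?_, hxA⟩
        have := (Subgroup.mem_iInf.mp hxK) ⟨l, hlmem⟩
        exact this
      rw [(hKq l hl).1, mem_primePart] at hxl
      have hdvd : orderOf x ∣ ordCompl[l] (Nat.card A) := orderOf_dvd_of_pow_eq_one hxl.2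
      exact Nat.not_dvd_ordCompl hl hcardA (hlx.trans hdvd)
    -- index bound
    have hidx : ∀ q : ι, (Kq q.1).index ∣ Nat.card A ∧ ∃ k : ℕ, (Kq q.1).index = q.1 ^ k := by
      intro q
      have hq := hprime q
      have h1 : (Kq q.1).index = (Kq q.1).relIndex A := by
        rw [relIndex_eq_relIndex_sup A (Kq q.1), (hKq q.1 hq).2, Subgroup.relIndex_top_right]
      have h2 : (Kq q.1).relIndex A =
          (primePart A hA (ordCompl[q.1] (Nat.card A))).relIndex A := by
        rw [← Subgroup.inf_relIndex_right (Kq q.1) A, (hKq q.1 hq).1]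
      refine ⟨by rw [h1]; exact Subgroup.relIndex_dvd_card _ _, ?_⟩
      rw [h1, h2]
      -- the quotient A / B is a q-group
      set B := primePart A hA (ordCompl[q.1] (Nat.card A)) with hB
      have hP : IsPGroup q.1 (A ⧸ B.subgroupOf A) := by
        intro x
        induction x using QuotientGroup.induction_on with
        | H a =>
          refine ⟨(Nat.card A).factorization q.1, ?_⟩
          rw [← QuotientGroup.mk_pow, QuotientGroup.eq_one_iff, Subgroup.mem_subgroupOf]
          refine ⟨A.pow_mem a.2 _, ?_⟩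
          simp only [Subgroup.coe_pow]
          rw [← pow_mul, Nat.ordProj_mul_ordCompl_eq_self]
          have := pow_card_eq_one' (G := A) (x := a)
          exact congrArg Subtype.val this
      have : Fact q.1.Prime := ⟨hq⟩
      obtain ⟨k, hk⟩ := IsPGroup.iff_card.mp hP
      exact ⟨k, hk⟩
    have hKidx : K.index ≤ Nat.card A := by
      have h1 : K.index ≤ ∏ q : ι, (Kq q.1).index := Subgroup.index_iInf_le _
      have h2 : (∏ q : ι, (Kq q.1).index) ∣ Nat.card A := by
        apply Finset.prod_dvd_of_isRelPrime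
        · intro q _ q' _ hne
          obtain ⟨k, hk⟩ := (hidx q).2
          obtain ⟨k', hk'⟩ := (hidx q').2
          show IsRelPrime (Kq q.1).index (Kq q'.1).index
          rw [← Nat.coprime_iff_isRelPrime, hk, hk']
          apply Nat.Coprime.pow
          rw [Nat.coprime_primes (hprime q) (hprime q')]
          intro heq
          exact hne (Subtype.ext heq)
        · intro q _
          exact (hidx q).1
      exact h1.trans (Nat.le_of_dvd Nat.card_pos h2)
    refine ⟨K, ?_⟩
    apply Subgroup.isComplement'_of_card_mul_and_disjoint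
    · apply le_antisymm
      · have hinj := Subgroup.mul_injective_of_disjoint (disjoint_iff.mpr hKA)
        have := Nat.card_le_card_of_injective _ hinj
        rwa [Nat.card_prod] at this
      · rw [← K.card_mul_index]
        exact Nat.mul_le_mul_left _ hKidx
    · exact disjoint_iff.mpr hKA

end Cfsg.Agent.S4217
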