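import Cfsg.Statements.S2813
-- import your own Cfsg.Agent.* helpers here
import Cfsg.Agent.Lib.Helper47.Comm

set_option autoImplicit false
open Cfsg

namespace Cfsg.Agent.S2813

open Cfsg.Agent.Lib.Helper47
open scoped commutatorElement

/-- Let K be a subgroup of the finite group H with O_p(K) = 1 and Y a p-subgroup of N_H(K) with [K, Y, Y] = 1. Then [K, Y] = 1. -/
theorem result {H : Type*} [Group H] [Finite H] {p : ℕ} [Fact p.Prime] (K : Subgroup H) (hO : Cfsg.pCore p ↥K = ⊥) (Y : Subgroup H) (hY : IsPGroup p ↥Y) (hYK : Y ≤ Subgroup.normalizer (K : Set H)) (hq : ⁅⁅K, Y⁆, Y⁆ = ⊥) : ⁅K, Y⁆ = ⊥ := by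
  -- N = [K, Y]
  have hNK : ⁅K, Y⁆ ≤ K := Subgroup.le_normalizer_iff_commutator_le_left.mp hYK
  have hKN : K ≤ Subgroup.normalizer ((⁅K, Y⁆ : Subgroup H) : Set H) :=
    Subgroup.normalizer_commutator_ge_left K Y
  have hNY : ⁅K, Y⁆ ≤ Subgroup.centralizer (Y : Set H) :=
    Subgroup.commutator_eq_bot_iff_le_centralizer.mp hq
  -- Y centralizes N
  have hYC : Y ≤ Subgroup.centralizer ((⁅K, Y⁆ : Subgroup H) : Set H) := by
    rwa [Subgroup.le_centralizer_iff]
  -- N is abelian: N ≤ C(N)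
  have hNab : ⁅K, Y⁆ ≤ Subgroup.centralizer ((⁅K, Y⁆ : Subgroup H) : Set H) := by
    rw [Subgroup.commutator_le]
    intro k hk y hy
    have h1 : k * y * k⁻¹ ∈ Subgroup.centralizer ((⁅K, Y⁆ : Subgroup H) : Set H) := by
      rw [Subgroup.mem_centralizer_iff]
      intro n hn
      have hy' := hYC hy
      rw [Subgroup.mem_centralizer_iff] at hy'
      have hkn : k⁻¹ * n * k ∈ ⁅K, Y⁆ := by
        have := (Subgroup.mem_normalizer_iff.mp (hKN (K.inv_mem hk)) n).mp hn
        simpa using this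
      have := hy' _ hkn
      -- (k⁻¹ n k) y = y (k⁻¹ n k)
      calc n * (k * y * k⁻¹) = k * ((k⁻¹ * n * k) * y) * k⁻¹ := by group
        _ = k * (y * (k⁻¹ * n * k)) * k⁻¹ := by rw [this]
        _ = k * y * k⁻¹ * n := by group
    have h2 : y⁻¹ ∈ Subgroup.centralizer ((⁅K, Y⁆ : Subgroup H) : Set H) :=
      Subgroup.inv_mem _ (hYC hy)
    have : ⁅k, y⁆ = (k * y * k⁻¹) * y⁻¹ := by simp [commutatorElement_def]
    rw [this]
    exact Subgroup.mul_mem _ h1 h2
  -- N is a p-group
  have hNp : IsPGroup p ↥(⁅K, Y⁆ : Subgroup H) := by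
    rw [Subgroup.commutator_def]
    apply isPGroup_closure_of_commute
    · rintro c ⟨k, hk, y, hy, rfl⟩
      have hcy : Commute ⁅k, y⁆ y := by
        have := hNY (Subgroup.commutator_mem_commutator hk hy)
        rw [Subgroup.mem_centralizer_iff] at this
        exact (this y hy).symm
      have h1 := commutator_pow_orderOf_eq_one k y hcy
      obtain ⟨j, hj⟩ := hY ⟨y, hy⟩
      have hj' : y ^ p ^ j = 1 := by simpa using congrArg Subtype.val hj
      have hdvd : orderOf y ∣ p ^ j := orderOf_dvd_of_pow_eq_one hj'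
      refine ⟨j, ?_⟩
      obtain ⟨m, hm⟩ := hdvd
      rw [hm, pow_mul, h1, one_pow]
    · rw [← Subgroup.commutator_def]
      intro x hx y hy
      have := hNab hx
      rw [Subgroup.mem_centralizer_iff] at this
      exact (this y hy).symm
  exact eq_bot_of_pCore_eq_bot hNK hKN hNp hO

end Cfsg.Agent.S2813
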