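import Cfsg.Statements.S2814
-- import your own Cfsg.Agent.* helpers here
import Cfsg.Agent.Lib.Helper47.Basic
import Cfsg.Agent.Lib.Helper47.Quot
import Cfsg.Agent.Lib.Helper47.Subnormal

set_option autoImplicit false
open Cfsg

namespace Cfsg.Agent.S2814

open Cfsg.Agent.Lib.Helper47
open scoped commutatorElement

variable {H : Type*} [Group H]

/-- Every subgroup of a finite nilpotent group is subnormal. -/
theorem isSubnormal_of_nilpotent {N : Type*} [Group N] [Finite N] [Group.IsNilpotent N]
    (K : Subgroup N) : K.IsSubnormal := by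
  induction' hn : K.index using Nat.strong_induction_on with n ih generalizing K
  by_cases hK : K = ⊤
  · subst hK; exact Subgroup.IsSubnormal.top
  · have hlt : K < Subgroup.normalizer (K : Set N) :=
      Group.normalizerCondition_of_isNilpotent K (lt_top_iff_ne_top.mpr hK)
    have hidx : (Subgroup.normalizer (K : Set N)).index < n := by
      rw [← hn]; exact Subgroup.index_strictAnti hlt
    have hsn : (Subgroup.normalizer (K : Set N)).IsSubnormal := ih _ hidx _ rfl
    exact Subgroup.IsSubnormal.step K _ hlt.le hsn Subgroup.normal_in_normalizer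

/-- In a finite group an intersection of subnormal subgroups is subnormal. -/
theorem isSubnormal_sInf [Finite H] (S : Set (Subgroup H)) (hS : ∀ K ∈ S, K.IsSubnormal) :
    (sInf S).IsSubnormal := by
  have hfin : S.Finite := Set.toFinite S
  have h1 : sInf S = hfin.toFinset.inf id := by
    rw [Finset.inf_id_eq_sInf, Set.Finite.coe_toFinset]
  rw [h1]
  apply Finset.inf_induction
  · exact Subgroup.IsSubnormal.top
  · intro a ha b hb; exact ha.inf hb
  · intro K hK
    exact hS K ((Set.Finite.mem_toFinset hfin).mp hK)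

/-- The subnormal closure is subnormal, contains `A`, and is the least such. -/
theorem subnormalClosure_spec [Finite H] (A : Subgroup H) :
    (Cfsg.subnormalClosure A).IsSubnormal ∧ A ≤ Cfsg.subnormalClosure A ∧
      ∀ K' : Subgroup H, A ≤ K' → K'.IsSubnormal → Cfsg.subnormalClosure A ≤ K' :=
  ⟨isSubnormal_sInf _ (fun _ h => h.2), le_sInf (fun _ h => h.1), fun _ h1 h2 => sInf_le ⟨h1, h2⟩⟩

/-- Let A be a subgroup of the finite group H and K the subnormal closure of A (intersection of the subnormal subgroups containing A). Then K is the normal closure of A inside K and N_H(A) ≤ N_H(K); K = A·O^p(K), O^p(K) being generated by the elements of K of order prime to p; and if A is a p-group, O^p(K) = [O^p(K), A]. -/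
theorem result {H : Type*} [Group H] [Finite H] {p : ℕ} [Fact p.Prime] (A : Subgroup H) (K : Subgroup H) (hK : K = Cfsg.subnormalClosure A) : (Subgroup.normalClosure ((A.subgroupOf K : Subgroup ↥K) : Set ↥K)).map K.subtype = K ∧ Subgroup.normalizer (A : Set H) ≤ Subgroup.normalizer (K : Set H) ∧ A ⊔ (Cfsg.pResidual p ↥K).map K.subtype = K ∧ (IsPGroup p ↥A → ⁅(Cfsg.pResidual p ↥K).map K.subtype, A⁆ = (Cfsg.pResidual p ↥K).map K.subtype) := by
  obtain ⟨hKsn, hAK, hmin⟩ := subnormalClosure_spec A
  rw [← hK] at hKsn hAK hmin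
  show _ ∧ _ ∧ A ⊔ opOf p K = K ∧ (IsPGroup p ↥A → ⁅opOf p K, A⁆ = opOf p K)
  set R := opOf p K with hR
  have hRK : R ≤ K := opOf_le p K
  have hKR : K ≤ Subgroup.normalizer (R : Set H) :=
    Subgroup.le_normalizer.trans (normalizer_le_normalizer_opOf p K)
  -- Part 3 first
  have h3 : A ⊔ R = K := by
    apply le_antisymm (sup_le hAK hRK)
    have hRn : (Cfsg.pResidual p ↥K).Normal := pResidual_normal p ↥K
    have hQp : IsPGroup p (↥K ⧸ Cfsg.pResidual p ↥K) :=
      isPGroup_quotient_pResidual p ↥K _ le_rfl
    have : Group.IsNilpotent (↥K ⧸ Cfsg.pResidual p ↥K) := hQp.isNilpotent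
    have h1 : ((A.subgroupOf K).map (QuotientGroup.mk' (Cfsg.pResidual p ↥K))).IsSubnormal :=
      isSubnormal_of_nilpotent _
    have h2 := h1.comap (QuotientGroup.mk' (Cfsg.pResidual p ↥K))
    rw [Subgroup.comap_map_eq, QuotientGroup.ker_mk'] at h2
    have h4 := h2.trans' hKsn
    rw [Subgroup.map_sup, Subgroup.subgroupOf_map_subtype, inf_of_le_left hAK] at h4
    exact hmin _ le_sup_left h4
  refine ⟨?_, ?_, h3, ?_⟩
  · -- Part 1
    apply le_antisymm (by rintro _ ⟨n, _, rfl⟩; exact n.2)
    apply hmin
    · intro a ha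
      exact ⟨⟨a, hAK ha⟩, Subgroup.subset_normalClosure (Subgroup.mem_subgroupOf.mpr ha), rfl⟩
    · exact (Subgroup.normalClosure_normal.isSubnormal).trans' hKsn
  · -- Part 2
    intro g hg
    rw [Subgroup.mem_normalizer_iff_map_conj_eq] at hg ⊢
    have h1 : (K.map (MulAut.conj g).toMonoidHom).IsSubnormal :=
      hKsn.map (MulAut.conj g).surjective
    have h2 : A ≤ K.map (MulAut.conj g).toMonoidHom := by
      conv_lhs => rw [← hg]
      exact Subgroup.map_mono hAK
    have h4 := hmin _ h2 h1
    have hcard : Nat.card ↥(K.map (MulAut.conj g).toMonoidHom) = Nat.card ↥K :=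
      Subgroup.card_map_of_injective (MulAut.conj g).injective
    exact (Subgroup.eq_of_le_of_card_ge h4 hcard.le).symm
  · -- Part 4
    intro hAp
    have hAR : A ≤ Subgroup.normalizer (R : Set H) := hAK.trans hKR
    have hWR : ⁅R, A⁆ ≤ R := Subgroup.le_normalizer_iff_commutator_le_left.mp hAR
    apply le_antisymm hWR
    set W := ⁅R, A⁆ with hW
    have hRW : R ≤ Subgroup.normalizer (W : Set H) := Subgroup.normalizer_commutator_ge_left R A
    have hAW : A ≤ Subgroup.normalizer (W : Set H) := Subgroup.normalizer_commutator_ge_right R A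
    have hKW : K ≤ Subgroup.normalizer (W : Set H) := by
      rw [← h3]; exact sup_le hAW hRW
    have hWK : W ≤ K := hWR.trans hRK
    -- M = A ⊔ W is normal in K
    have hKM : K ≤ Subgroup.normalizer ((A ⊔ W : Subgroup H) : Set H) := by
      rw [← h3]
      apply sup_le
      · exact (le_sup_left : A ≤ A ⊔ W).trans Subgroup.le_normalizer
      · intro r hr
        rw [Subgroup.mem_normalizer_iff_map_conj_eq, Subgroup.map_sup,
          Subgroup.mem_normalizer_iff_map_conj_eq.mp (hRW hr)]
        apply le_antisymm
        · apply sup_le _ le_sup_right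
          rintro _ ⟨a, ha, rfl⟩
          have h5 : (MulAut.conj r).toMonoidHom a = ⁅r, a⁆ * a := by
            simp [commutatorElement_def]
          show (MulAut.conj r).toMonoidHom a ∈ A ⊔ W
          rw [h5]
          exact Subgroup.mul_mem _ (Subgroup.mem_sup_right (Subgroup.commutator_mem_commutator hr ha))
            (Subgroup.mem_sup_left ha)
        · apply sup_le _ le_sup_right
          intro a ha
          -- a = r (r⁻¹ a r) r⁻¹, and r⁻¹ a r = [r⁻¹, a] a
          have h5 : a = (⁅r, a⁆)⁻¹ * (MulAut.conj r).toMonoidHom a := by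
            simp [commutatorElement_def, mul_assoc]
          rw [h5]
          exact Subgroup.mul_mem _
            (Subgroup.mem_sup_right (Subgroup.inv_mem _ (Subgroup.commutator_mem_commutator hr ha)))
            (Subgroup.mem_sup_left (Subgroup.mem_map_of_mem _ ha))
    have hMsn : (A ⊔ W).IsSubnormal :=
      Subgroup.IsSubnormal.step _ K (sup_le hAK hWK) hKsn
        (Subgroup.normal_subgroupOf_of_le_normalizer hKM)
    have hKM' : K ≤ A ⊔ W := hmin _ le_sup_left hMsn
    -- K / W is a p-group
    have hWn : (W.subgroupOf K).Normal := Subgroup.normal_subgroupOf_of_le_normalizer hKW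
    have hsup : W.subgroupOf K ⊔ A.subgroupOf K = ⊤ := by
      rw [← Subgroup.subgroupOf_sup hWK hAK, sup_comm, le_antisymm (sup_le hAK hWK) hKM',
        Subgroup.subgroupOf_self]
    have hQ : IsPGroup p (↥K ⧸ W.subgroupOf K) :=
      isPGroup_quotient_of_sup_eq_top hAp.comap_subtype hsup
    have h6 : Cfsg.pResidual p ↥K ≤ W.subgroupOf K := pResidual_le_of_isPGroup_quotient hQ
    have h7 := Subgroup.map_mono (f := K.subtype) h6
    rw [Subgroup.subgroupOf_map_subtype, inf_of_le_left hWK] at h7
    exact h7

end Cfsg.Agent.S2814
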