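import Cfsg.Statements.S2815
-- import your own Cfsg.Agent.* helpers here
import Cfsg.Agent.Lib.Helper22.FStar
import Cfsg.Agent.Lib.Helper47.Basic
import Cfsg.Agent.Lib.Helper47.Subnormal

set_option autoImplicit false
open Cfsg

namespace Cfsg.Agent.S2815

open Cfsg.Agent.Lib.Helper47 Cfsg.Agent.Lib.Helper22
open scoped commutatorElement

variable {H : Type*} [Group H]

/-- A perfect subgroup lies in `O^p(H)`. -/
theorem perfect_le_pResidual [Finite H] {p : ℕ} [Fact p.Prime] {J : Subgroup H}
    (hJ : ⁅J, J⁆ = J) : J ≤ Cfsg.pResidual p H := by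
  have hn : (Cfsg.pResidual p H).Normal := pResidual_normal p H
  have hQ : IsPGroup p (H ⧸ Cfsg.pResidual p H) := isPGroup_quotient_pResidual p H _ le_rfl
  set f := QuotientGroup.mk' (Cfsg.pResidual p H) with hf
  have hperf : Group.IsPerfect ↥(J.map f) := by
    rw [Subgroup.isPerfect_iff, ← Subgroup.map_commutator, hJ]
  have hnil : Group.IsNilpotent (H ⧸ Cfsg.pResidual p H) := hQ.isNilpotent
  have hsol0 : Group.IsSolvable (H ⧸ Cfsg.pResidual p H) := inferInstance
  have hsol : Group.IsSolvable ↥(J.map f) := inferInstance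
  have hbot : J.map f = ⊥ := by
    by_contra hne
    have hnt : Nontrivial ↥(J.map f) := (Subgroup.nontrivial_iff_ne_bot _).mpr hne
    exact Group.IsPerfect.not_isSolvable ↥(J.map f) hsol
  have := (Subgroup.map_eq_bot_iff (f := f) J).mp hbot
  rwa [hf, QuotientGroup.ker_mk'] at this

/-- If `O_p(H) = 1`, an abelian normal subgroup has order prime to `p`. -/
theorem card_coprime_of_normal_comm [Finite H] {p : ℕ} [hp : Fact p.Prime]
    (hO : Cfsg.pCore p H = ⊥) (Z : Subgroup H) [hZn : Z.Normal] (hZc : IsMulCommutative ↥Z) :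
    (Nat.card ↥Z).Coprime p := by
  rw [Nat.coprime_comm, Nat.Prime.coprime_iff_not_dvd hp.out]
  intro hdvd
  obtain ⟨P⟩ : Nonempty (Sylow p ↥Z) := inferInstance
  have hPn : (P : Subgroup ↥Z).Normal := by
    constructor
    intro x hx g
    have : g * x * g⁻¹ = x := by
      have := hZc.is_comm.comm g x
      rw [this, mul_inv_cancel_right]
    rwa [this]
  have hPc : (P : Subgroup ↥Z).Characteristic := P.characteristic_of_normal hPn
  have hnorm : ((P : Subgroup ↥Z).map Z.subtype).Normal := by
    have h1 := normalizer_le_normalizer_map_subtype_of_characteristic Z (P : Subgroup ↥Z)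
    rw [Subgroup.normalizer_eq_top, top_le_iff] at h1
    exact Subgroup.normalizer_eq_top_iff.mp h1
  have hle : (P : Subgroup ↥Z).map Z.subtype ≤ Cfsg.pCore p H := le_pCore hnorm (P.2.map _)
  rw [hO, le_bot_iff, Subgroup.map_eq_bot_iff_of_injective _ Z.subtype_injective] at hle
  exact P.ne_bot_of_dvd_card hdvd hle

/-- Let H be a finite group and p a prime dividing its order with O_p(H) = 1, and suppose K = O^p(H) (generated by the elements of order prime to p) is quasisimple. Then K = F*(H); for every nontrivial p-subgroup Y of H, K = [K, Y] and K lies in the subgroup generated by the K-conjugates of Y; every normal subgroup of H not containing K has order prime to p; and H is p-irreducible. -/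
theorem result {H : Type*} [Group H] [Finite H] {p : ℕ} [Fact p.Prime] (hp : p ∣ Nat.card H) (hO : Cfsg.pCore p H = ⊥) (hq : Cfsg.IsQuasisimple ↥(Cfsg.pResidual p H)) : Cfsg.pResidual p H = Cfsg.generalizedFittingSubgroup H ∧ (∀ Y : Subgroup H, IsPGroup p ↥Y → Y ≠ ⊥ → ⁅Cfsg.pResidual p H, Y⁆ = Cfsg.pResidual p H ∧ Cfsg.pResidual p H ≤ ⨆ k : ↥(Cfsg.pResidual p H), Y.map (MulAut.conj (k : H)).toMonoidHom) ∧ (∀ C : Subgroup H, C.Normal → ¬ Cfsg.pResidual p H ≤ C → (Nat.card ↥C).Coprime p) ∧ Cfsg.IsPIrreducible p H := by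
  set K := Cfsg.pResidual p H with hK
  have hKn : K.Normal := pResidual_normal p H
  have hKcomp : Cfsg.IsComponent K := ⟨hKn.isSubnormal, hq⟩
  have hKperf : ⁅K, K⁆ = K := component_commutator_self hKcomp
  -- (a)
  have hFK : Cfsg.fittingSubgroup H ≤ K := by
    rw [Cfsg.Agent.Lib.Helper1.fittingSubgroup_eq_iSup_pCore]
    apply iSup_le
    intro q
    have hqp : Fact (q : ℕ).Prime := ⟨q.2⟩
    by_cases hqp' : (q : ℕ) = p
    · rw [hqp', hO]; exact bot_le
    · intro x hx
      have hpg : IsPGroup (q : ℕ) ↥(Cfsg.pCore (q : ℕ) H) := pCore_isPGroup (q : ℕ) H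
      obtain ⟨k, hk⟩ := hpg ⟨x, hx⟩
      have hk' : x ^ (q : ℕ) ^ k = 1 := by simpa using congrArg Subtype.val hk
      apply Subgroup.subset_closure
      show Nat.Coprime (orderOf x) p
      have h1 : orderOf x ∣ (q : ℕ) ^ k := orderOf_dvd_of_pow_eq_one hk'
      have h2 : Nat.Coprime ((q : ℕ) ^ k) p :=
        Nat.Coprime.pow_left k ((Nat.coprime_primes q.2 (Fact.out : p.Prime)).mpr hqp')
      exact Nat.Coprime.coprime_dvd_left h1 h2
  have hLK : Cfsg.layer H ≤ K := by
    apply sSup_le
    intro J hJ
    exact perfect_le_pResidual (component_commutator_self hJ)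
  have ha : K = Cfsg.generalizedFittingSubgroup H :=
    le_antisymm ((component_le_layer hKcomp).trans layer_le_generalizedFittingSubgroup)
      (sup_le hLK hFK)
  have hCK : Subgroup.centralizer (K : Set H) ≤ K := by
    have := centralizer_generalizedFittingSubgroup_le (G := H)
    rwa [← ha] at this
  -- the centre of `K` has order prime to `p`
  have hZn : (K ⊓ Subgroup.centralizer (K : Set H)).Normal := inferInstance
  have hZc : IsMulCommutative ↥(K ⊓ Subgroup.centralizer (K : Set H)) := by
    constructor; constructor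
    rintro ⟨a, ha⟩ ⟨b, hb⟩
    apply Subtype.ext
    exact ((Subgroup.mem_centralizer_iff.mp (Subgroup.mem_inf.mp hb).2) a (Subgroup.mem_inf.mp ha).1)
  have hZcop := card_coprime_of_normal_comm hO _ hZc
  -- dichotomy for normal subgroups of `K` normalized by `K`
  have hdich : ∀ N : Subgroup H, N ≤ K → K ≤ Subgroup.normalizer (N : Set H) →
      N ≤ Subgroup.centralizer (K : Set H) ∨ N = K := by
    intro N hNK hKN
    have hn : (N.subgroupOf K).Normal := Subgroup.normal_subgroupOf_of_le_normalizer hKN
    rcases quasisimple_normal_le_center_or_eq_top hq (N.subgroupOf K) with h | h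
    · left
      intro x hx
      rw [Subgroup.mem_centralizer_iff]
      intro k hk
      have h1 := h (show (⟨x, hNK hx⟩ : ↥K) ∈ N.subgroupOf K from Subgroup.mem_subgroupOf.mpr hx)
      have h2 := Subgroup.mem_center_iff.mp h1 ⟨k, hk⟩
      exact congrArg Subtype.val h2
    · right
      apply le_antisymm hNK
      intro k hk
      have : (⟨k, hk⟩ : ↥K) ∈ N.subgroupOf K := by rw [h]; trivial
      exact Subgroup.mem_subgroupOf.mp this
  -- if `[N, K]` is central in `K` then `N` centralizes `K`
  have hthree : ∀ N : Subgroup H, ⁅N, K⁆ ≤ Subgroup.centralizer (K : Set H) → ⁅K, N⁆ = ⊥ := by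
    intro N hN
    have h1 : ⁅⁅N, K⁆, K⁆ = ⊥ := by
      rw [Subgroup.commutator_eq_bot_iff_le_centralizer]; exact hN
    have h2 : ⁅⁅K, N⁆, K⁆ = ⊥ := by rw [Subgroup.commutator_comm K N]; exact h1
    have h3 := Subgroup.commutator_commutator_eq_bot_of_rotate h2 h1
    rwa [hKperf] at h3
  refine ⟨ha, ?_, ?_, ?_⟩
  · -- (b)
    intro Y hY hY1
    have hWK : ⁅K, Y⁆ ≤ K := Subgroup.commutator_le_left K Y
    have hKW : K ≤ Subgroup.normalizer ((⁅K, Y⁆ : Subgroup H) : Set H) :=
      Subgroup.normalizer_commutator_ge_left K Y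
    have hW : ⁅K, Y⁆ = K := by
      rcases hdich _ hWK hKW with h | h
      · exfalso
        have h1 : ⁅K, Y⁆ = ⊥ := by
          apply hthree
          rw [Subgroup.commutator_comm]; exact h
        -- `Y` centralizes `K`, so `Y ≤ Z(K)`, a `p'`-group
        have hYC : Y ≤ Subgroup.centralizer (K : Set H) := by
          rw [← Subgroup.commutator_eq_bot_iff_le_centralizer, Subgroup.commutator_comm]; exact h1
        have hYZ : Y ≤ K ⊓ Subgroup.centralizer (K : Set H) := le_inf (hYC.trans hCK) hYC
        apply hY1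
        rw [eq_bot_iff]
        intro y hy
        obtain ⟨k, hk⟩ := hY ⟨y, hy⟩
        have hk' : y ^ p ^ k = 1 := by simpa using congrArg Subtype.val hk
        have h2 : orderOf y ∣ p ^ k := orderOf_dvd_of_pow_eq_one hk'
        have h3 : orderOf y ∣ Nat.card ↥(K ⊓ Subgroup.centralizer (K : Set H)) := by
          have := orderOf_dvd_natCard (⟨y, hYZ hy⟩ : ↥(K ⊓ Subgroup.centralizer (K : Set H)))
          rwa [Subgroup.orderOf_mk] at this
        have h4 : orderOf y = 1 :=
          Nat.eq_one_of_dvd_coprimes (Nat.Coprime.pow_right k hZcop) h3 h2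
        rw [Subgroup.mem_bot]
        exact orderOf_eq_one_iff.mp h4
      · exact h
    refine ⟨hW, ?_⟩
    conv_lhs => rw [← hW]
    rw [Subgroup.commutator_le]
    intro k hk y hy
    have h1 : ⁅k, y⁆ = (k * y * k⁻¹) * y⁻¹ := by simp [commutatorElement_def]
    rw [h1]
    apply Subgroup.mul_mem
    · exact Subgroup.mem_iSup_of_mem ⟨k, hk⟩ ⟨y, hy, by simp⟩
    · exact Subgroup.mem_iSup_of_mem ⟨1, K.one_mem⟩ ⟨y⁻¹, Y.inv_mem hy, by simp⟩
  · -- (c)
    intro C hCn hKC
    have h1 : C ⊓ K ≤ Subgroup.centralizer (K : Set H) := by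
      have hn : (C ⊓ K).Normal := inferInstance
      rcases hdich (C ⊓ K) inf_le_right (by rw [Subgroup.normalizer_eq_top]; exact le_top) with h | h
      · exact h
      · exact absurd (by rw [← h]; exact inf_le_left) hKC
    have h2 : ⁅C, K⁆ ≤ C ⊓ K :=
      le_inf (Subgroup.commutator_le_left C K) (Subgroup.commutator_le_right C K)
    have h3 : ⁅K, C⁆ = ⊥ := hthree C (h2.trans h1)
    have hCc : C ≤ Subgroup.centralizer (K : Set H) := by
      rw [← Subgroup.commutator_eq_bot_iff_le_centralizer, Subgroup.commutator_comm]; exact h3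
    have hCZ : C ≤ K ⊓ Subgroup.centralizer (K : Set H) := le_inf (hCc.trans hCK) hCc
    exact Nat.Coprime.coprime_dvd_left (Subgroup.card_dvd_of_le hCZ) hZcop
  · -- (d)
    have hc : ∀ C : Subgroup H, C.Normal → ¬ K ≤ C → (Nat.card ↥C).Coprime p := by
      intro C hCn hKC
      have h1 : C ⊓ K ≤ Subgroup.centralizer (K : Set H) := by
        have hn : (C ⊓ K).Normal := inferInstance
        rcases hdich (C ⊓ K) inf_le_right (by rw [Subgroup.normalizer_eq_top]; exact le_top) with h | h
        · exact h
        · exact absurd (by rw [← h]; exact inf_le_left) hKC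
      have h2 : ⁅C, K⁆ ≤ C ⊓ K :=
        le_inf (Subgroup.commutator_le_left C K) (Subgroup.commutator_le_right C K)
      have h3 : ⁅K, C⁆ = ⊥ := hthree C (h2.trans h1)
      have hCc : C ≤ Subgroup.centralizer (K : Set H) := by
        rw [← Subgroup.commutator_eq_bot_iff_le_centralizer, Subgroup.commutator_comm]; exact h3
      have hCZ : C ≤ K ⊓ Subgroup.centralizer (K : Set H) := le_inf (hCc.trans hCK) hCc
      exact Nat.Coprime.coprime_dvd_left (Subgroup.card_dvd_of_le hCZ) hZcop
    constructor
    · intro hcl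
      obtain ⟨T⟩ : Nonempty (Sylow p H) := inferInstance
      have hTn := hcl T
      have hle : (T : Subgroup H) ≤ Cfsg.pCore p H := le_pCore hTn T.2
      rw [hO, le_bot_iff] at hle
      exact T.ne_bot_of_dvd_card hp hle
    · intro N hNn hNcl
      by_contra hKN
      have hcop := hc N hNn hKN
      apply hNcl
      intro P
      have : (P : Subgroup ↥N) = ⊥ := by
        by_contra hne
        have h1 : p ∣ Nat.card ↥(P : Subgroup ↥N) := by
          rcases P.2.card_eq_or_dvd with h | h
          · exact absurd (Subgroup.card_eq_one.mp h) hne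
          · exact h
        have h2 : p ∣ Nat.card ↥N := h1.trans (Subgroup.card_subgroup_dvd_card _)
        exact (Nat.Prime.coprime_iff_not_dvd (Fact.out : p.Prime)).mp hcop.symm h2
      rw [this]
      infer_instance

end Cfsg.Agent.S2815
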