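import Cfsg.Statements.S2816
import Cfsg.Agent.Lib.Helper21.FStarSplit

set_option autoImplicit false
open Cfsg

namespace Cfsg.Agent.S2816

/-- Let H be a finite group and p a prime with O_p(H) = 1, and Y a p-subgroup of H. Then for every subnormal subgroup K of H containing Y, [F*(H), Y] = [F*(K), Y] = [F*(K), Y, Y]; and if Y₀ ≤ Y with [F*(H), Y, Y₀] = 1 then Y₀ = 1 (in particular [F*(H), Y] = 1 forces Y = 1). -/
theorem result {H : Type*} [Group H] [Finite H] {p : ℕ} [Fact p.Prime] (hO : Cfsg.pCore p H = ⊥) (Y : Subgroup H) (hY : IsPGroup p ↥Y) : (∀ K : Subgroup H, K.IsSubnormal → Y ≤ K → ⁅Cfsg.generalizedFittingSubgroup H, Y⁆ = ⁅(Cfsg.generalizedFittingSubgroup ↥K).map K.subtype, Y⁆ ∧ ⁅(Cfsg.generalizedFittingSubgroup ↥K).map K.subtype, Y⁆ = ⁅⁅(Cfsg.generalizedFittingSubgroup ↥K).map K.subtype, Y⁆, Y⁆) ∧ (∀ Y₀ : Subgroup H, Y₀ ≤ Y → ⁅⁅Cfsg.generalizedFittingSubgroup H, Y⁆, Y₀⁆ = ⊥ → Y₀ = ⊥) := by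
  have hn := Cfsg.Agent.Lib.Helper29.generalizedFittingSubgroup_normal H
  have hsplit : ∀ Q : Subgroup H, IsPGroup p ↥Q →
      ⁅⁅Cfsg.generalizedFittingSubgroup H, Q⁆, Q⁆ = ⁅Cfsg.generalizedFittingSubgroup H, Q⁆ := by
    intro Q hQ
    refine (Cfsg.Agent.Lib.Helper21.fstar_split_of_isSubnormal hO hn.isSubnormal le_rfl hQ ?_).2
    rw [Subgroup.normalizer_eq_top]
    exact le_top
  constructor
  · intro K hK hYK
    have hX₂sn := Cfsg.Agent.Lib.Helper21.gfs_map_subtype_isSubnormal hK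
    have hX₂le := Cfsg.Agent.Lib.Helper21.gfs_map_subtype_le_of_isSubnormal hK
    have hc := Cfsg.Agent.Lib.Helper29.generalizedFittingSubgroup_characteristic ↥K
    have hYX₂ : Y ≤ Subgroup.normalizer
        (((Cfsg.generalizedFittingSubgroup ↥K).map K.subtype : Subgroup H) : Set H) :=
      (hYK.trans Subgroup.le_normalizer).trans
        (Cfsg.Agent.Lib.Helper21.normalizer_le_normalizer_map_of_characteristic _)
    have hB := (Cfsg.Agent.Lib.Helper21.fstar_split_of_isSubnormal hO hX₂sn hX₂le hY hYX₂).2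
    refine ⟨?_, hB.symm⟩
    apply le_antisymm
    · have hA := hsplit Y hY
      have hWK : ⁅Cfsg.generalizedFittingSubgroup H, Y⁆ ≤ K :=
        Cfsg.Agent.Lib.Helper21.le_of_commutator_eq_of_isSubnormal hK hYK hA
      have hWF : ⁅Cfsg.generalizedFittingSubgroup H, Y⁆ ≤ Cfsg.generalizedFittingSubgroup H :=
        Subgroup.commutator_le_left _ _
      have hWX₂ := (le_inf hWK hWF).trans (Cfsg.Agent.Lib.Helper21.inf_gfs_le_gfs_map_subtype hK)
      calc ⁅Cfsg.generalizedFittingSubgroup H, Y⁆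
          = ⁅⁅Cfsg.generalizedFittingSubgroup H, Y⁆, Y⁆ := hA.symm
        _ ≤ _ := Subgroup.commutator_mono hWX₂ le_rfl
    · exact Subgroup.commutator_mono hX₂le le_rfl
  · intro Y₀ hY₀ h
    have hY₀p : IsPGroup p ↥Y₀ := hY.to_le hY₀
    have h1 := hsplit Y₀ hY₀p
    have h2 : ⁅⁅Cfsg.generalizedFittingSubgroup H, Y₀⁆, Y₀⁆ = ⊥ := by
      rw [eq_bot_iff, ← h]
      exact Subgroup.commutator_mono (Subgroup.commutator_mono le_rfl hY₀) le_rfl
    rw [h2] at h1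
    exact Cfsg.Agent.Lib.Helper21.eq_bot_of_isPGroup_of_commutator_gfs_eq_bot hO hY₀p h1.symm

end Cfsg.Agent.S2816
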