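import Cfsg.Statements.S2817
import Cfsg.Agent.Lib.Helper21.FStarSplit2

set_option autoImplicit false
open Cfsg

namespace Cfsg.Agent.S2817

/-- Let H be a finite group and p a prime with O_p(H) = 1, Q a p-subgroup of H, L = [F*(H), Q], and F the largest normal subgroup of F*(H) centralized by Q (a normal subgroup of F*(H) centralized by Q and containing every such). Then F = C_{F*(H)}(LQ); L = [L, Q]; L ∩ F ≤ Φ(L); every p-subgroup B of N_H(Q) with [L, B] ≤ F satisfies [L, B] = 1; and C_H(FL) has order prime to p. -/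
theorem result {H : Type*} [Group H] [Finite H] {p : ℕ} [Fact p.Prime] (hO : Cfsg.pCore p H = ⊥) (Q : Subgroup H) (hQ : IsPGroup p ↥Q) (L : Subgroup H) (hL : L = ⁅Cfsg.generalizedFittingSubgroup H, Q⁆) (F : Subgroup H) (hF : F ≤ Cfsg.generalizedFittingSubgroup H ∧ Cfsg.generalizedFittingSubgroup H ≤ Subgroup.normalizer (F : Set H) ∧ Q ≤ Subgroup.centralizer (F : Set H) ∧ ∀ N : Subgroup H, N ≤ Cfsg.generalizedFittingSubgroup H → Cfsg.generalizedFittingSubgroup H ≤ Subgroup.normalizer (N : Set H) → Q ≤ Subgroup.centralizer (N : Set H) → N ≤ F) : F = Cfsg.generalizedFittingSubgroup H ⊓ Subgroup.centralizer ((L ⊔ Q : Subgroup H) : Set H) ∧ ⁅L, Q⁆ = L ∧ L ⊓ F ≤ (frattini ↥L).map L.subtype ∧ (∀ B : Subgroup H, IsPGroup p ↥B → B ≤ Subgroup.normalizer (Q : Set H) → ⁅L, B⁆ ≤ F → ⁅L, B⁆ = ⊥) ∧ (Nat.card ↥(Subgroup.centralizer ((F ⊔ L : Subgroup H) : Set H))).Coprime p := by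
  set X : Subgroup H := Cfsg.generalizedFittingSubgroup H with hX
  obtain ⟨hFX, hXF, hQF, hFmax⟩ := hF
  have hXn : X.Normal := Cfsg.Agent.Lib.Helper29.generalizedFittingSubgroup_normal H
  have hXsn : X.IsSubnormal := hXn.isSubnormal
  have hnormX : ∀ S : Subgroup H, S ≤ Subgroup.normalizer (X : Set H) := by
    intro S
    rw [Subgroup.normalizer_eq_top]
    exact le_top
  have hsplitX := Cfsg.Agent.Lib.Helper21.fstar_split_of_isSubnormal hO hXsn le_rfl hQ (hnormX Q)
  have hsplit1 : L ⊔ (X ⊓ Subgroup.centralizer (Q : Set H)) = X := by rw [hL]; exact hsplitX.1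
  have hLQ : ⁅L, Q⁆ = L := by rw [hL]; exact hsplitX.2
  have hLX : L ≤ X := by rw [hL]; exact Subgroup.commutator_le_left _ _
  have hXL : X ≤ Subgroup.normalizer (L : Set H) := by
    rw [hL]; exact Subgroup.normalizer_commutator_ge_left X Q
  have hQL : Q ≤ Subgroup.normalizer (L : Set H) := by
    rw [hL]; exact Subgroup.normalizer_commutator_ge_right X Q
  have hLsn : L.IsSubnormal :=
    Subgroup.IsSubnormal.step L X hLX hXsn ((Subgroup.normal_subgroupOf_iff_le_normalizer hLX).mpr hXL)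
  -- (a)
  have hFQ0 : ⁅F, Q⁆ = ⊥ := Cfsg.Agent.Lib.Helper21.commutator_eq_bot_iff_le_centralizer'.mpr hQF
  have hLF0 : ⁅L, F⁆ = ⊥ := by
    have h1 : ⁅⁅X, F⁆, Q⁆ = ⊥ := by
      rw [eq_bot_iff, ← hFQ0]
      exact Subgroup.commutator_mono (Subgroup.le_normalizer_iff_commutator_le_right.mp hXF) le_rfl
    have h2 : ⁅⁅F, Q⁆, X⁆ = ⊥ := by rw [hFQ0, Subgroup.commutator_bot_left]
    have h3 : ⁅⁅Q, X⁆, F⁆ = ⊥ := Subgroup.commutator_commutator_eq_bot_of_rotate h1 h2
    rw [hL, Subgroup.commutator_comm X Q]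
    exact h3
  have hFcL : F ≤ Subgroup.centralizer (L : Set H) :=
    Cfsg.Agent.Lib.Helper21.commutator_eq_bot_iff_le_centralizer'.mp hLF0
  have hFcLQ : F ≤ Subgroup.centralizer ((L ⊔ Q : Subgroup H) : Set H) := by
    rw [Subgroup.le_centralizer_iff]
    exact sup_le (Subgroup.le_centralizer_iff.mp hFcL) hQF
  have hXLQ : X ≤ Subgroup.normalizer ((L ⊔ Q : Subgroup H) : Set H) := by
    calc X = L ⊔ (X ⊓ Subgroup.centralizer (Q : Set H)) := hsplit1.symm
      _ ≤ _ := sup_le (le_sup_left.trans Subgroup.le_normalizer)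
        ((le_inf (inf_le_left.trans hXL)
          (inf_le_right.trans (Subgroup.centralizer_le_normalizer _))).trans
          (Subgroup.normalizer_inf_normalizer_le_normalizer_sup L Q))
  have ha : F = X ⊓ Subgroup.centralizer ((L ⊔ Q : Subgroup H) : Set H) := by
    apply le_antisymm (le_inf hFX hFcLQ)
    apply hFmax _ inf_le_left
    · exact (le_inf (hnormX X) (hXLQ.trans
        (Cfsg.Agent.Lib.Helper21.normalizer_le_normalizer_centralizer _))).trans
        (Cfsg.Agent.Lib.Helper21.inf_normalizer_le_normalizer_inf _ _)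
    · rw [Subgroup.le_centralizer_iff]
      exact inf_le_right.trans (Subgroup.centralizer_le (by exact_mod_cast (le_sup_right : Q ≤ L ⊔ Q)))
  -- (c), first step: `L ⊓ F ≤ [L, L]`
  have hFLtop := Cfsg.Agent.Lib.Helper22.fittingSubgroup_sup_layer_eq_top_of_isSubnormal_of_le hLsn hLX
  have hOL := Cfsg.Agent.Lib.Helper21.pCore_eq_bot_of_isSubnormal p hO hLsn
  have hAcomm : L ⊓ F ≤ ⁅L, L⁆ := by
    intro a ha'
    obtain ⟨haL, haF⟩ := Subgroup.mem_inf.mp ha'
    refine Cfsg.Agent.Lib.Helper21.mem_commutator_of_central_of_mem_commutator_sup hQ hQL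
      (Cfsg.Agent.Lib.Helper21.coprime_card_fittingSubgroup_of_pCore_eq_bot hOL)
      (Cfsg.Agent.Lib.Helper21.abelianization_of_pow_card_fittingSubgroup hFLtop) haL
      (hFcLQ haF) ?_
    have : ⁅L, Q⁆ ≤ ⁅L ⊔ Q, L ⊔ Q⁆ := Subgroup.commutator_mono le_sup_left le_sup_right
    apply this
    rw [hLQ]
    exact haL
  refine ⟨ha, hLQ, ?_, ?_, ?_⟩
  · -- (c)
    intro a ha'
    obtain ⟨haL, haF⟩ := Subgroup.mem_inf.mp ha'
    refine ⟨⟨a, haL⟩, ?_, rfl⟩
    apply Cfsg.Agent.Lib.Helper21.center_inf_commutator_le_frattini ↥L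
    refine Subgroup.mem_inf.mpr ⟨?_, ?_⟩
    · rw [Subgroup.mem_center_iff]
      intro g
      apply Subtype.ext
      exact Subgroup.mem_centralizer_iff.mp (hFcL haF) g g.2
    · have h1 : a ∈ (_root_.commutator ↥L).map L.subtype := by
        rw [Subgroup.map_subtype_commutator]; exact hAcomm ha'
      obtain ⟨b, hb, hba⟩ := h1
      have : b = ⟨a, haL⟩ := Subtype.ext hba
      exact this ▸ hb
  · -- (d)
    intro B hB hBQ hLB
    have hBL : B ≤ Subgroup.normalizer (L : Set H) := by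
      rw [hL]
      exact (le_inf (hnormX B) hBQ).trans
        (Cfsg.Agent.Lib.Helper48.normalizer_inf_le_normalizer_commutator X Q)
    have h1 : ⁅L, B⁆ ≤ L := Subgroup.le_normalizer_iff_commutator_le_left.mp hBL
    have h2 : ⁅L, B⁆ ≤ ⁅L, L⁆ := (le_inf h1 hLB).trans hAcomm
    have h3 : ⁅⁅L, B⁆, L⁆ = ⊥ :=
      Subgroup.commutator_eq_bot_iff_le_centralizer.mpr (hLB.trans hFcL)
    have h4 : ⁅⁅B, L⁆, L⁆ = ⊥ := by rw [Subgroup.commutator_comm B L]; exact h3
    have h5 : ⁅⁅L, L⁆, B⁆ = ⊥ := Subgroup.commutator_commutator_eq_bot_of_rotate h3 h4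
    have h6 : ⁅⁅L, B⁆, B⁆ = ⊥ := by
      rw [eq_bot_iff, ← h5]
      exact Subgroup.commutator_mono h2 le_rfl
    have h7 := (Cfsg.Agent.Lib.Helper21.fstar_split_of_isSubnormal hO hLsn hLX hB hBL).2
    rw [← h7, h6]
  · -- (e)
    set D : Subgroup H := Subgroup.centralizer ((F ⊔ L : Subgroup H) : Set H) with hD
    have key : ∀ B : Subgroup H, B ≤ D → IsPGroup p ↥B → B = ⊥ := by
      intro B hBD hB
      have hXFL : X ≤ Subgroup.normalizer ((F ⊔ L : Subgroup H) : Set H) :=
        (le_inf hXF hXL).trans (Subgroup.normalizer_inf_normalizer_le_normalizer_sup F L)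
      have hXD : X ≤ Subgroup.normalizer (D : Set H) :=
        hXFL.trans (Cfsg.Agent.Lib.Helper21.normalizer_le_normalizer_centralizer _)
      have hC1 : ⁅X, B⁆ ≤ X ⊓ D := by
        apply le_inf (Subgroup.commutator_le_left _ _)
        exact (Subgroup.commutator_mono le_rfl hBD).trans
          (Subgroup.le_normalizer_iff_commutator_le_right.mp hXD)
      have hXC : X ≤ Subgroup.normalizer ((X ⊓ D : Subgroup H) : Set H) :=
        (le_inf (hnormX X) hXD).trans (Cfsg.Agent.Lib.Helper21.inf_normalizer_le_normalizer_inf _ _)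
      have hCsn : (X ⊓ D).IsSubnormal :=
        Subgroup.IsSubnormal.step (X ⊓ D) X inf_le_left hXsn
          ((Subgroup.normal_subgroupOf_iff_le_normalizer inf_le_left).mpr hXC)
      have hQFL : Q ≤ Subgroup.normalizer ((F ⊔ L : Subgroup H) : Set H) :=
        (le_inf (hQF.trans (Subgroup.centralizer_le_normalizer _)) hQL).trans
          (Subgroup.normalizer_inf_normalizer_le_normalizer_sup F L)
      have hQC : Q ≤ Subgroup.normalizer ((X ⊓ D : Subgroup H) : Set H) :=
        (le_inf (hnormX Q) (hQFL.trans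
          (Cfsg.Agent.Lib.Helper21.normalizer_le_normalizer_centralizer _))).trans
          (Cfsg.Agent.Lib.Helper21.inf_normalizer_le_normalizer_inf _ _)
      have hsplitC := (Cfsg.Agent.Lib.Helper21.fstar_split_of_isSubnormal hO hCsn inf_le_left hQ hQC).1
      have hC2 : X ⊓ D ≤ F ⊔ L := by
        rw [← hsplitC]
        apply sup_le
        · refine le_trans ?_ le_sup_right
          rw [hL]
          exact Subgroup.commutator_mono inf_le_left le_rfl
        · refine le_trans ?_ le_sup_left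
          rw [ha]
          refine le_inf (inf_le_left.trans inf_le_left) ?_
          rw [Subgroup.le_centralizer_iff]
          apply sup_le
          · rw [Subgroup.le_centralizer_iff]
            exact (inf_le_left.trans inf_le_right).trans
              (Subgroup.centralizer_le (by exact_mod_cast (le_sup_right : L ≤ F ⊔ L)))
          · rw [Subgroup.le_centralizer_iff]
            exact inf_le_right
      have hBC : ⁅X ⊓ D, B⁆ = ⊥ := by
        rw [Cfsg.Agent.Lib.Helper21.commutator_eq_bot_iff_le_centralizer']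
        exact hBD.trans (Subgroup.centralizer_le (by exact_mod_cast hC2))
      have h6 : ⁅⁅X, B⁆, B⁆ = ⊥ := by
        rw [eq_bot_iff, ← hBC]
        exact Subgroup.commutator_mono hC1 le_rfl
      have h7 := (Cfsg.Agent.Lib.Helper21.fstar_split_of_isSubnormal hO hXsn le_rfl hB (hnormX B)).2
      rw [h6] at h7
      exact Cfsg.Agent.Lib.Helper21.eq_bot_of_isPGroup_of_commutator_gfs_eq_bot hO hB h7.symm
    rw [Nat.coprime_comm, Nat.Prime.coprime_iff_not_dvd (Fact.out : p.Prime)]
    intro hdvd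
    obtain ⟨x, hx⟩ := exists_prime_orderOf_dvd_card' p hdvd
    have hBD : Subgroup.zpowers (x : H) ≤ D := Subgroup.zpowers_le.mpr x.2
    have hBp : IsPGroup p ↥(Subgroup.zpowers (x : H)) := by
      apply IsPGroup.of_card (n := 1)
      rw [Nat.card_zpowers, pow_one, Subgroup.orderOf_coe, hx]
    have h1 := key _ hBD hBp
    rw [Subgroup.zpowers_eq_bot] at h1
    have h2 : x = 1 := Subtype.ext h1
    rw [h2, orderOf_one] at hx
    exact (Fact.out : p.Prime).one_lt.ne hx

end Cfsg.Agent.S2817
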