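import Cfsg.Statements.S2818
import Mathlib
import Cfsg.Agent.S2849
import Cfsg.Agent.Lib.Helper96.ElemAb
-- import your own Cfsg.Agent.* helpers here

set_option autoImplicit false
open Cfsg
open scoped commutatorElement

namespace Cfsg.Agent.S2818

section Aux

variable {G : Type*} [Group G]

/-- `Ω₁(Z(P))` is elementary abelian -/
theorem omegaOneCenter_isElementaryAbelian (p : ℕ) (P : Subgroup G) :
    Cfsg.IsElementaryAbelian p (Cfsg.omegaOne p (P ⊓ Subgroup.centralizer (P : Set G))) := by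
  unfold Cfsg.omegaOne
  apply Cfsg.Agent.S2849.isElementaryAbelian_closure
  · rintro x ⟨hx, _⟩ y ⟨hy, _⟩
    exact (Subgroup.mem_centralizer_iff.mp hy.2 x hx.1)
  · rintro x ⟨_, hx⟩
    exact hx

theorem omegaOneCenter_le (p : ℕ) (P : Subgroup G) :
    Cfsg.omegaOne p (P ⊓ Subgroup.centralizer (P : Set G)) ≤
      P ⊓ Subgroup.centralizer (P : Set G) := by
  unfold Cfsg.omegaOne
  rw [Subgroup.closure_le]
  rintro x ⟨hx, _⟩
  exact hx

end Aux

/-- Let P be a finite p-subgroup of a group G and H a subgroup of N_G(P) with [P, H] ≤ Ω₁(Z(P)) (the elements of order dividing p in the centre of P). Then H centralizes the Frattini subgroup of P. -/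
theorem result {G : Type*} [Group G] [Finite G] {p : ℕ} [Fact p.Prime] (P : Subgroup G) (hP : IsPGroup p ↥P) (H : Subgroup G) (hH : H ≤ Subgroup.normalizer (P : Set G)) (h : ⁅P, H⁆ ≤ Cfsg.omegaOne p (P ⊓ Subgroup.centralizer (P : Set G))) : ⁅(frattini ↥P).map P.subtype, H⁆ = ⊥ := by
  set W : Subgroup G := Cfsg.omegaOne p (P ⊓ Subgroup.centralizer (P : Set G)) with hW
  have hWea : Cfsg.IsElementaryAbelian p W := omegaOneCenter_isElementaryAbelian p P
  have hWZ : W ≤ P ⊓ Subgroup.centralizer (P : Set G) := omegaOneCenter_le p P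
  rw [eq_bot_iff, Subgroup.commutator_le]
  rintro _ ⟨x, hx, rfl⟩ k hk
  rw [Subgroup.mem_bot]
  have hmem : ∀ y : ↥P, ⁅(y : G), k⁆ ∈ W := fun y =>
    h (Subgroup.commutator_mem_commutator y.2 hk)
  -- the homomorphism `y ↦ [y, k]`
  let φ : ↥P →* G := MonoidHom.mk' (fun y => ⁅(y : G), k⁆) (by
    intro a b
    have hb := hWZ (hmem b)
    have ha := hWZ (hmem a)
    have h1 : (a : G) * ⁅(b : G), k⁆ = ⁅(b : G), k⁆ * a :=
      (Subgroup.mem_centralizer_iff.mp hb.2 a a.2)
    have h2 : ⁅(a : G), k⁆ * ⁅(b : G), k⁆ = ⁅(b : G), k⁆ * ⁅(a : G), k⁆ :=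
      (Subgroup.mem_centralizer_iff.mp hb.2 _ ha.1)
    have h3 : ⁅((a * b : ↥P) : G), k⁆ = (a : G) * ⁅(b : G), k⁆ * (a : G)⁻¹ * ⁅(a : G), k⁆ := by
      simp only [commutatorElement_def, Subgroup.coe_mul]; group
    rw [h3, h1, mul_inv_cancel_right, h2])
  have hφ : ∀ y : ↥P, φ y = ⁅(y : G), k⁆ := fun y => rfl
  have hrange : φ.range ≤ W := by
    rintro _ ⟨y, rfl⟩
    exact hmem y
  have hfr : frattini ↥φ.range = ⊥ := by
    apply Cfsg.Agent.Lib.Helper96.frattini_eq_bot_of_elemAb p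
    · intro a b
      have := hWea.1.is_comm.comm ⟨(a : G), hrange a.2⟩ ⟨(b : G), hrange b.2⟩
      apply Subtype.ext
      have h5 := congrArg Subtype.val this
      simpa using h5
    · intro a
      apply Subtype.ext
      have := hWea.2 (a : G) (hrange a.2)
      simpa using this
  have h1 := frattini_le_comap_frattini_of_surjective φ.rangeRestrict_surjective hx
  rw [hfr, Subgroup.mem_comap, Subgroup.mem_bot] at h1
  have h2 := congrArg Subtype.val h1
  simpa [hφ] using h2

end Cfsg.Agent.S2818
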