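import Cfsg.Statements.S2819
-- import your own Cfsg.Agent.* helpers here
import Cfsg.Agent.Lib.Helper96.ElemAb
import Cfsg.Agent.Lib.Helper47.Coprime
import Cfsg.Agent.Lib.Helper47.Subnormal

set_option autoImplicit false
open Cfsg

namespace Cfsg.Agent.S2819

open Cfsg.Agent.Lib.Helper47
open scoped commutatorElement

variable {G : Type*} [Group G]

/-- If `g` normalizes `P` and all `[x, g]` (`x ∈ P`) have order dividing `p`, then
`[u, g] ∈ P'` for all `u ∈ Φ(P)`. -/
theorem commutator_mem_of_mem_frattini {p : ℕ} [Fact p.Prime] (P : Subgroup G) {g : G}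
    (hg : g ∈ Subgroup.normalizer (P : Set G)) (hexp : ∀ x ∈ P, ⁅x, g⁆ ^ p = 1)
    {u : G} (hu : u ∈ (frattini ↥P).map P.subtype) : ⁅u, g⁆ ∈ ⁅P, P⁆ := by
  obtain ⟨u', hu', rfl⟩ := hu
  have hmem : ∀ x : ↥P, g * (x : G) * g⁻¹ ∈ P := fun x =>
    (Subgroup.mem_normalizer_iff.mp hg x).mp x.2
  let c : ↥P →* ↥P := MonoidHom.mk' (fun x => ⟨g * (x : G) * g⁻¹, hmem x⟩) (by
    intro a b
    apply Subtype.ext
    simp only [Subgroup.coe_mul]
    group)
  let π : ↥P →* Abelianization ↥P := Abelianization.of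
  let ψ : ↥P →* Abelianization ↥P := π / (π.comp c)
  have hψ : ∀ x : ↥P, ψ x = π (x * (c x)⁻¹) := by
    intro x
    show π x / π (c x) = π (x * (c x)⁻¹)
    rw [map_mul, map_inv, div_eq_mul_inv]
  have hcoe : ∀ x : ↥P, ((x * (c x)⁻¹ : ↥P) : G) = ⁅(x : G), g⁆ := by
    intro x
    show (x : G) * (g * (x : G) * g⁻¹)⁻¹ = ⁅(x : G), g⁆
    simp [commutatorElement_def, mul_assoc]
  have hfr : frattini ↥ψ.range = ⊥ := by
    apply Cfsg.Agent.Lib.Helper96.frattini_eq_bot_of_elemAb p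
    · intro a b
      exact mul_comm a b
    · rintro ⟨_, x, rfl⟩
      apply Subtype.ext
      show (ψ x) ^ p = 1
      rw [hψ, ← map_pow]
      have : (x * (c x)⁻¹) ^ p = 1 := by
        apply Subtype.ext
        rw [Subgroup.coe_pow, hcoe]
        exact hexp x x.2
      rw [this, map_one]
  have h1 := frattini_le_comap_frattini_of_surjective ψ.rangeRestrict_surjective hu'
  rw [hfr, Subgroup.mem_comap, Subgroup.mem_bot] at h1
  have h2 : ψ u' = 1 := congrArg Subtype.val h1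
  rw [hψ] at h2
  have h3 : u' * (c u')⁻¹ ∈ (Abelianization.of (G := ↥P)).ker := h2
  rw [Abelianization.ker_of] at h3
  have h4 : ((u' * (c u')⁻¹ : ↥P) : G) ∈ (commutator ↥P).map P.subtype :=
    Subgroup.mem_map_of_mem _ h3
  rw [Subgroup.map_subtype_commutator, hcoe] at h4
  exact h4

/-- Let P be a finite p-subgroup of a group G, H a subgroup of N_G(P), and Y a subgroup of H centralizing the derived subgroup P' such that [P, Y] is elementary abelian. Then O^p(⟨Y^H⟩), the subgroup of the normal closure of Y in H generated by its elements of order prime to p, centralizes the Frattini subgroup of P. -/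
theorem result {G : Type*} [Group G] [Finite G] {p : ℕ} [Fact p.Prime] (P : Subgroup G) (hP : IsPGroup p ↥P) (H : Subgroup G) (hH : H ≤ Subgroup.normalizer (P : Set G)) (Y : Subgroup G) (hYH : Y ≤ H) (hYc : Y ≤ Subgroup.centralizer ((⁅P, P⁆ : Subgroup G) : Set G)) (hel : Cfsg.IsElementaryAbelian p ⁅P, Y⁆) (NY : Subgroup G) (hNY : NY = (Subgroup.normalClosure ((Y.subgroupOf H : Subgroup ↥H) : Set ↥H)).map H.subtype) : (Cfsg.pResidual p ↥NY).map NY.subtype ≤ Subgroup.centralizer (((frattini ↥P).map P.subtype : Subgroup G) : Set G) := by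
  show opOf p NY ≤ _
  set Φ := (frattini ↥P).map P.subtype with hΦ
  have hΦP : Φ ≤ P := by rintro _ ⟨x, _, rfl⟩; exact x.2
  -- `N(P)` normalizes `P'`
  have hNP' : Subgroup.normalizer (P : Set G) ≤ Subgroup.normalizer ((⁅P, P⁆ : Subgroup G) : Set G) := by
    intro g hg
    rw [Subgroup.mem_normalizer_iff_map_conj_eq] at hg ⊢
    rw [Subgroup.map_commutator, hg]
  -- the stabilizer subgroup
  let St : Subgroup G :=
    { carrier := {g | g ∈ Subgroup.normalizer (P : Set G) ∧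
        g ∈ Subgroup.centralizer ((⁅P, P⁆ : Subgroup G) : Set G) ∧ ∀ u ∈ Φ, ⁅u, g⁆ ∈ ⁅P, P⁆}
      one_mem' := ⟨Subgroup.one_mem _, Subgroup.one_mem _, fun u _ => by
        rw [commutatorElement_one_right]; exact Subgroup.one_mem _⟩
      mul_mem' := by
        rintro a b ⟨ha1, ha2, ha3⟩ ⟨hb1, hb2, hb3⟩
        refine ⟨Subgroup.mul_mem _ ha1 hb1, Subgroup.mul_mem _ ha2 hb2, fun u hu => ?_⟩
        have h1 : ⁅u, a * b⁆ = ⁅u, a⁆ * (a * ⁅u, b⁆ * a⁻¹) := by
          simp [commutatorElement_def, mul_assoc]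
        rw [h1]
        exact Subgroup.mul_mem _ (ha3 u hu)
          ((Subgroup.mem_normalizer_iff.mp (hNP' ha1) _).mp (hb3 u hu))
      inv_mem' := by
        rintro a ⟨ha1, ha2, ha3⟩
        refine ⟨Subgroup.inv_mem _ ha1, Subgroup.inv_mem _ ha2, fun u hu => ?_⟩
        have h1 : ⁅u, a⁻¹⁆ = a⁻¹ * (⁅u, a⁆)⁻¹ * a⁻¹⁻¹ := by
          simp [commutatorElement_def, mul_assoc]
        rw [h1]
        exact (Subgroup.mem_normalizer_iff.mp (hNP' (Subgroup.inv_mem _ ha1)) _).mp
          (Subgroup.inv_mem _ (ha3 u hu)) }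
  have hStmem : ∀ g : G, g ∈ St ↔ g ∈ Subgroup.normalizer (P : Set G) ∧
      g ∈ Subgroup.centralizer ((⁅P, P⁆ : Subgroup G) : Set G) ∧ ∀ u ∈ Φ, ⁅u, g⁆ ∈ ⁅P, P⁆ :=
    fun g => Iff.rfl
  -- conjugates of elements of `Y` lie in `St`
  have hconj : ∀ h ∈ H, ∀ y ∈ Y, h * y * h⁻¹ ∈ St := by
    intro h hh y hy
    have hhN := hH hh
    have hyN := hH (hYH hy)
    have hgN : h * y * h⁻¹ ∈ Subgroup.normalizer (P : Set G) :=
      Subgroup.mul_mem _ (Subgroup.mul_mem _ hhN hyN) (Subgroup.inv_mem _ hhN)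
    rw [hStmem]
    refine ⟨hgN, ?_, ?_⟩
    · rw [Subgroup.mem_centralizer_iff]
      intro c hc
      have hc' : h⁻¹ * c * h ∈ ⁅P, P⁆ := by
        have := (Subgroup.mem_normalizer_iff.mp (hNP' (Subgroup.inv_mem _ hhN)) c).mp hc
        simpa using this
      have h1 := (Subgroup.mem_centralizer_iff.mp (hYc hy)) _ hc'
      calc c * (h * y * h⁻¹) = h * ((h⁻¹ * c * h) * y) * h⁻¹ := by group
        _ = h * (y * (h⁻¹ * c * h)) * h⁻¹ := by rw [h1]
        _ = h * y * h⁻¹ * c := by group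
    · intro u hu
      apply commutator_mem_of_mem_frattini (p := p) P hgN _ hu
      intro x hx
      have hx' : h⁻¹ * x * h ∈ P := by
        have := (Subgroup.mem_normalizer_iff.mp (Subgroup.inv_mem _ hhN) x).mp hx
        simpa using this
      have h1 : ⁅x, h * y * h⁻¹⁆ = h * ⁅h⁻¹ * x * h, y⁆ * h⁻¹ := by
        simp [commutatorElement_def, mul_assoc]
      rw [h1, conj_pow, hel.2 _ (Subgroup.commutator_mem_commutator hx' hy)]
      simp
  -- `NY ≤ St`
  have hNYSt : NY ≤ St := by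
    rw [hNY, Subgroup.map_le_iff_le_comap, Subgroup.normalClosure, Subgroup.closure_le]
    intro x hx
    rw [Group.mem_conjugatesOfSet_iff] at hx
    obtain ⟨a, ha, hax⟩ := hx
    rw [isConj_iff] at hax
    obtain ⟨c, rfl⟩ := hax
    show ((c * a * c⁻¹ : ↥H) : G) ∈ St
    have := hconj (c : G) c.2 (a : G) (Subgroup.mem_subgroupOf.mp ha)
    simpa using this
  have hP'p : IsPGroup p ↥(⁅P, P⁆ : Subgroup G) := hP.to_le (Subgroup.commutator_le_self P)
  rw [opOf_le_iff]
  intro z hz hco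
  have hzSt := (hStmem z).mp (hNYSt hz)
  rw [Subgroup.mem_centralizer_iff]
  intro u hu
  have hc : ⁅u, z⁆ ∈ ⁅P, P⁆ := hzSt.2.2 u hu
  have hcomm : Commute ⁅u, z⁆ z := (Subgroup.mem_centralizer_iff.mp hzSt.2.1) _ hc
  exact (commute_of_coprime_of_commutator_commute hP'p z hco u hc hcomm).eq

end Cfsg.Agent.S2819
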