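import Cfsg.Statements.S2822
-- import your own Cfsg.Agent.* helpers here
import Cfsg.Agent.Lib.Helper47.PReduced4

set_option autoImplicit false
open Cfsg

namespace Cfsg.Agent.S2822

open Cfsg.Agent.Lib.Helper47

/-- Let H be a finite group, p a prime, T a Sylow p-subgroup, and L, M subgroups of characteristic p containing T, with largest p-reduced normal subgroups Y_L, Y_M. If L·C_H(Y_M) = M·C_H(Y_M), then Y_M ≤ Y_L. -/
theorem result {H : Type*} [Group H] [Finite H] {p : ℕ} [Fact p.Prime] (T : Sylow p H) (L M : Subgroup H) (hTL : (T : Subgroup H) ≤ L) (hTM : (T : Subgroup H) ≤ M) (hL : Subgroup.centralizer (Cfsg.pCore p ↥L : Set ↥L) ≤ Cfsg.pCore p ↥L) (hM : Subgroup.centralizer (Cfsg.pCore p ↥M : Set ↥M) ≤ Cfsg.pCore p ↥M) : L ⊔ Subgroup.centralizer (((Cfsg.largestPReducedOf p M) : Subgroup H) : Set H) = M ⊔ Subgroup.centralizer (((Cfsg.largestPReducedOf p M) : Subgroup H) : Set H) → (Cfsg.largestPReducedOf p M) ≤ (Cfsg.largestPReducedOf p L) := by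
  intro hfac
  set YM := Cfsg.largestPReducedOf p M with hYM
  have hMN : M ≤ Subgroup.normalizer (YM : Set H) := le_normalizer_largestPReducedOf p M
  have hCN : Subgroup.centralizer (YM : Set H) ≤ Subgroup.normalizer (YM : Set H) :=
    Subgroup.centralizer_le_normalizer _
  have hNC : Subgroup.normalizer (YM : Set H) ≤
      Subgroup.normalizer ((Subgroup.centralizer (YM : Set H) : Subgroup H) : Set H) :=
    normalizer_le_normalizer_centralizer _
  have hLN : L ≤ Subgroup.normalizer (YM : Set H) := by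
    have : L ≤ M ⊔ Subgroup.centralizer (YM : Set H) := by rw [← hfac]; exact le_sup_left
    exact this.trans (sup_le hMN hCN)
  have hYL : YM ≤ L :=
    ((largestPReducedOf_le_pCoreOf p M).trans (pCoreOf_le_sylow_of_le T hTM)).trans hTL
  apply le_largestPReducedOf hYL hLN (isElementaryAbelian_largestPReducedOf p M)
  intro D hDL hLD hDp
  have hDC : D ≤ Subgroup.normalizer ((Subgroup.centralizer (YM : Set H) : Subgroup H) : Set H) :=
    hDL.trans (hLN.trans hNC)
  -- D' = (D ⊔ C) ⊓ M
  have hDCn : M ≤ Subgroup.normalizer ((D ⊔ Subgroup.centralizer (YM : Set H) : Subgroup H) : Set H) := by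
    have h1 : L ⊔ Subgroup.centralizer (YM : Set H) ≤
        Subgroup.normalizer ((D ⊔ Subgroup.centralizer (YM : Set H) : Subgroup H) : Set H) := by
      apply sup_le
      · refine le_trans ?_ (Subgroup.normalizer_inf_normalizer_le_normalizer_sup _ _)
        exact le_inf hLD (hLN.trans hNC)
      · exact le_sup_right.trans Subgroup.le_normalizer
    rw [hfac] at h1
    exact le_sup_left.trans h1
  have hD'M : (D ⊔ Subgroup.centralizer (YM : Set H)) ⊓ M ≤ M := inf_le_right
  have hMD' : M ≤ Subgroup.normalizer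
      ((((D ⊔ Subgroup.centralizer (YM : Set H)) ⊓ M : Subgroup H)) : Set H) := by
    refine le_trans ?_ Subgroup.inf_normalizer_le_normalizer_inf
    exact le_inf hDCn Subgroup.le_normalizer
  have hD'C : (D ⊔ Subgroup.centralizer (YM : Set H)) ⊓ M ≤ Subgroup.centralizer (YM : Set H) := by
    apply pRed_largestPReducedOf p M hD'M hMD'
    intro d hd
    exact exists_pow_mem_of_mem_sup' hDC hDp hd.1
  intro d hd
  have hdMC : d ∈ ((M ⊔ Subgroup.centralizer (YM : Set H) : Subgroup H) : Set H) := by
    have : d ∈ L ⊔ Subgroup.centralizer (YM : Set H) := Subgroup.mem_sup_left (hDL hd)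
    rw [hfac] at this
    exact this
  rw [Subgroup.coe_mul_of_left_le_normalizer_right M _ (hMN.trans hNC)] at hdMC
  obtain ⟨m, hm, c, hc, hmc⟩ := hdMC
  have hm' : m ∈ (D ⊔ Subgroup.centralizer (YM : Set H)) ⊓ M := by
    refine ⟨?_, hm⟩
    have : m = d * c⁻¹ := by rw [← hmc]; group
    rw [this]
    exact Subgroup.mul_mem_sup hd (Subgroup.inv_mem _ hc)
  have : d = m * c := hmc.symm
  rw [this]
  exact Subgroup.mul_mem _ (hD'C hm') hc

end Cfsg.Agent.S2822
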