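import Cfsg.Statements.S2825
-- import your own Cfsg.Agent.* helpers here
import Cfsg.Agent.Lib.Helper47.PRedIn2
import Cfsg.Agent.Lib.Helper47.Coprime
import Cfsg.Agent.Lib.Helper47.PClosed

set_option autoImplicit false
open Cfsg

namespace Cfsg.Agent.S2825

open Cfsg.Agent.Lib.Helper47
open scoped commutatorElement

variable {G : Type*} [Group G]

/-- A `p'`-element `y ∈ L` centralizing `V ∩ L` centralizes `V`, for `V` normalized by `y` and
normalizing `L`. -/
theorem coprime_centralizes {p : ℕ} [Fact p.Prime] {L V : Subgroup G}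
    (hVp : IsPGroup p ↥V) (hVL : V ≤ Subgroup.normalizer (L : Set G)) {y : G} (hyL : y ∈ L)
    (hyV : y ∈ Subgroup.normalizer (V : Set G)) (hco : Nat.Coprime (orderOf y) p)
    (hy : y ∈ Subgroup.centralizer ((V ⊓ L : Subgroup G) : Set G)) :
    y ∈ Subgroup.centralizer (V : Set G) := by
  rw [Subgroup.mem_centralizer_iff]
  intro v hv
  have h1 : ⁅v, y⁆ ∈ V := by
    have : ⁅v, y⁆ = v * (y * v⁻¹ * y⁻¹) := by simp [commutatorElement_def, mul_assoc]
    rw [this]
    exact V.mul_mem hv ((Subgroup.mem_normalizer_iff.mp hyV _).mp (V.inv_mem hv))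
  have h2 : ⁅v, y⁆ ∈ L := by
    have : ⁅v, y⁆ = (v * y * v⁻¹) * y⁻¹ := by simp [commutatorElement_def, mul_assoc]
    rw [this]
    exact L.mul_mem ((Subgroup.mem_normalizer_iff.mp (hVL hv) _).mp hyL) (L.inv_mem hyL)
  have hcomm : Commute ⁅v, y⁆ y := (Subgroup.mem_centralizer_iff.mp hy) _ ⟨h1, h2⟩
  exact (commute_of_coprime_of_commutator_commute hVp y hco v h1 hcomm).eq

/-- `L ⊴ K`, `V` `p`-reduced for `K`, `D ⊴ L` whose `p'`-elements centralize `V`: then `D ≤ C(V)`. -/
theorem le_centralizer_of_normal_normal [Finite G] {p : ℕ} [Fact p.Prime] {K L V D : Subgroup G}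
    (hV : PRedIn p K V) (hLK : L ≤ K) (hKL : K ≤ Subgroup.normalizer (L : Set G))
    (hDL : D ≤ L) (hLD : L ≤ Subgroup.normalizer (D : Set G))
    (hD : ∀ y ∈ D, Nat.Coprime (orderOf y) p → y ∈ Subgroup.centralizer (V : Set G)) :
    D ≤ Subgroup.centralizer (V : Set G) := by
  have hLV : L ≤ Subgroup.normalizer (V : Set G) := hLK.trans hV.norm
  have h1 : D ≤ maxPActing p L V := le_maxPActing hDL hLD (pActs_of_coprime hD)
  refine h1.trans ?_
  apply hV.red
  · exact (maxPActing_le p L V).trans hLK
  · exact (le_inf hKL hV.norm).trans (normalizer_inf_le_normalizer_maxPActing p L V)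
  · exact pActs_maxPActing hLV

/-- N1: `V ∩ L` is `p`-reduced for `L ⊴ K` if `V` is `p`-reduced for `K`. -/
theorem pRedIn_inf [Finite G] {p : ℕ} [Fact p.Prime] {K L V : Subgroup G}
    (hV : PRedIn p K V) (hLK : L ≤ K) (hKL : K ≤ Subgroup.normalizer (L : Set G)) :
    PRedIn p L (V ⊓ L) := by
  have hLV : L ≤ Subgroup.normalizer (V : Set G) := hLK.trans hV.norm
  have hLVL : L ≤ Subgroup.normalizer ((V ⊓ L : Subgroup G) : Set G) :=
    (le_inf hLV Subgroup.le_normalizer).trans Subgroup.inf_normalizer_le_normalizer_inf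
  refine ⟨inf_le_right, hLVL, IsElementaryAbelian.mono hV.el inf_le_left, ?_⟩
  intro D hDL hLD hDp
  refine (le_centralizer_of_normal_normal hV hLK hKL hDL hLD ?_).trans
    (Subgroup.centralizer_le inf_le_left)
  intro y hyD hco
  exact coprime_centralizes (IsElementaryAbelian.isPGroup hV.el) (hV.le.trans hKL) (hDL hyD)
    (hLV (hDL hyD)) hco (hDp.mem_centralizer_of_coprime hyD hco)

/-- N2: `C_L(V ∩ L) ≤ C(V)`. -/
theorem inf_centralizer_inf_le [Finite G] {p : ℕ} [Fact p.Prime] {K L V : Subgroup G}
    (hV : PRedIn p K V) (hLK : L ≤ K) (hKL : K ≤ Subgroup.normalizer (L : Set G)) :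
    L ⊓ Subgroup.centralizer ((V ⊓ L : Subgroup G) : Set G) ≤ Subgroup.centralizer (V : Set G) := by
  have hLV : L ≤ Subgroup.normalizer (V : Set G) := hLK.trans hV.norm
  have hLVL : L ≤ Subgroup.normalizer ((V ⊓ L : Subgroup G) : Set G) :=
    (le_inf hLV Subgroup.le_normalizer).trans Subgroup.inf_normalizer_le_normalizer_inf
  apply le_centralizer_of_normal_normal hV hLK hKL inf_le_left
  · exact (le_inf Subgroup.le_normalizer (hLVL.trans (normalizer_le_normalizer_centralizer _))).trans
      Subgroup.inf_normalizer_le_normalizer_inf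
  · rintro y ⟨hyL, hyC⟩ hco
    exact coprime_centralizes (IsElementaryAbelian.isPGroup hV.el) (hV.le.trans hKL) hyL
      (hLV hyL) hco hyC

/-- N3: `C_L(Y_K) ≤ C(Y_L)` for `L ⊴ K`. -/
theorem inf_centralizer_largestPReducedOf_le [Finite G] {p : ℕ} [Fact p.Prime] {K L : Subgroup G}
    (hLK : L ≤ K) (hKL : K ≤ Subgroup.normalizer (L : Set G)) :
    L ⊓ Subgroup.centralizer ((largestPReducedOf p K : Subgroup G) : Set G) ≤
      Subgroup.centralizer ((largestPReducedOf p L : Subgroup G) : Set G) := by
  set YK := largestPReducedOf p K with hYK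
  set YL := largestPReducedOf p L with hYL
  have hYKr : PRedIn p K YK := pRedIn_largestPReducedOf p K
  have hYLr : PRedIn p L YL := pRedIn_largestPReducedOf p L
  set D := L ⊓ Subgroup.centralizer (YK : Set G) with hD
  have hKD : K ≤ Subgroup.normalizer (D : Set G) :=
    (le_inf hKL (hYKr.norm.trans (normalizer_le_normalizer_centralizer _))).trans
      Subgroup.inf_normalizer_le_normalizer_inf
  set R := opOf p D with hR
  have hRD : R ≤ D := opOf_le p D
  have hRL : R ≤ L := hRD.trans inf_le_left
  have hRK : R ≤ K := hRL.trans hLK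
  have hKR : K ≤ Subgroup.normalizer (R : Set G) := hKD.trans (normalizer_le_normalizer_opOf p D)
  have hRgen : R ≤ Subgroup.closure {x : G | x ∈ R ∧ Nat.Coprime (orderOf x) p} := by
    conv_lhs => rw [hR, opOf_eq_closure]
    apply Subgroup.closure_mono
    rintro x ⟨hxD, hco⟩
    refine ⟨?_, hco⟩
    rw [hR, opOf_eq_closure]
    exact Subgroup.subset_closure ⟨hxD, hco⟩
  have hY : ∀ W : Subgroup G, PRedIn p K W → R ≤ Subgroup.centralizer (W : Set G) := by
    intro W hW
    exact (hRD.trans inf_le_right).trans (Subgroup.centralizer_le hW.le_largestPReducedOf)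
  have hKYL : K ≤ Subgroup.normalizer (YL : Set G) :=
    hKL.trans (normalizer_le_normalizer_largestPReducedOf p L)
  set V := ⁅YL, R⁆ with hV
  have hVR : V ≤ R :=
    Subgroup.le_normalizer_iff_commutator_le_right.mp ((hYLr.le.trans hLK).trans hKR)
  have hVYL : V ≤ YL := Subgroup.le_normalizer_iff_commutator_le_left.mp (hRK.trans hKYL)
  have hKV : K ≤ Subgroup.normalizer (V : Set G) :=
    (le_inf hKYL hKR).trans (normalizer_inf_normalizer_le_normalizer_commutator YL R)
  have hVel : IsElementaryAbelian p V := IsElementaryAbelian.mono hYLr.el hVYL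
  have hVp : IsPGroup p ↥V := IsElementaryAbelian.isPGroup hVel
  -- a `p'`-element of `R` centralizing `V` centralizes `Y_L`
  have hstep : ∀ y ∈ R, Nat.Coprime (orderOf y) p → y ∈ Subgroup.centralizer (V : Set G) →
      y ∈ Subgroup.centralizer (YL : Set G) := by
    intro y hyR hco hyV
    rw [Subgroup.mem_centralizer_iff]
    intro w hw
    have hc : ⁅w, y⁆ ∈ V := Subgroup.commutator_mem_commutator hw hyR
    have hcomm : Commute ⁅w, y⁆ y := (Subgroup.mem_centralizer_iff.mp hyV) _ hc
    exact (commute_of_coprime_of_commutator_commute hVp y hco w hc hcomm).eq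
  have hPR : ∀ N : Subgroup G, N ≤ R → R ≤ Subgroup.normalizer (N : Set G) → PActs p N V →
      N ≤ Subgroup.centralizer (V : Set G) := by
    intro N hNR hRN hNact
    have hRYL : R ≤ Subgroup.normalizer (YL : Set G) := hRK.trans hKYL
    have h1 : PActs p N YL := by
      apply pActs_of_coprime
      intro y hyN hco
      exact hstep y (hNR hyN) hco (hNact.mem_centralizer_of_coprime hyN hco)
    have h2 : N ≤ maxPActing p R YL := le_maxPActing hNR hRN h1
    have h3 : maxPActing p R YL ≤ Subgroup.centralizer (YL : Set G) := by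
      apply hYLr.red
      · exact (maxPActing_le p R YL).trans hRL
      · exact (le_inf (hLK.trans hKR) hYLr.norm).trans
          (normalizer_inf_le_normalizer_maxPActing p R YL)
      · exact pActs_maxPActing hRYL
    exact (h2.trans h3).trans (Subgroup.centralizer_le hVYL)
  have hRV : R ≤ Subgroup.centralizer (V : Set G) :=
    centralizes_of_forall_pRedIn hRK hKR hRgen hY (Nat.card V) V rfl (hVR.trans hRK) hKV hVel hPR
  -- conclude
  apply hYLr.red D inf_le_left (hLK.trans hKD)
  apply pActs_of_coprime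
  intro y hyD hco
  have hyR : y ∈ R := by
    rw [hR, opOf_eq_closure]
    exact Subgroup.subset_closure ⟨hyD, hco⟩
  exact hstep y hyR hco (hRV hyR)

/-- The three inductive properties. -/
structure Props (p : ℕ) (L : Subgroup G) : Prop where
  a : PRedIn p L (largestPReduced p G ⊓ L)
  b : L ⊓ Subgroup.centralizer ((largestPReduced p G ⊓ L : Subgroup G) : Set G) ≤
    Subgroup.centralizer (largestPReduced p G : Set G)
  c : L ⊓ Subgroup.centralizer (largestPReduced p G : Set G) ≤
    Subgroup.centralizer ((largestPReducedOf p L : Subgroup G) : Set G)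

theorem props_of_isSubnormal [Finite G] {p : ℕ} [Fact p.Prime] {L : Subgroup G}
    (hL : L.IsSubnormal) : Props p L := by
  induction hL with
  | top =>
    refine ⟨?_, ?_, ?_⟩
    · rw [inf_top_eq]
      exact pRedIn_top_iff.mpr (isPReducedNormal_largestPReduced p G)
    · rw [inf_top_eq]; exact inf_le_right
    · rw [largestPReducedOf_top]; exact inf_le_right
  | step L K hle hK hn ih =>
    have hKL : K ≤ Subgroup.normalizer (L : Set G) :=
      (Subgroup.normal_subgroupOf_iff_le_normalizer hle).mp hn
    have hinf : largestPReduced p G ⊓ K ⊓ L = largestPReduced p G ⊓ L := by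
      rw [inf_assoc, inf_eq_right.mpr hle]
    refine ⟨?_, ?_, ?_⟩
    · have := pRedIn_inf ih.a hle hKL
      rwa [hinf] at this
    · have h1 := inf_centralizer_inf_le ih.a hle hKL
      rw [hinf] at h1
      exact (le_inf (inf_le_left.trans hle) h1).trans ih.b
    · have h1 : L ⊓ Subgroup.centralizer (largestPReduced p G : Set G) ≤
          L ⊓ Subgroup.centralizer ((largestPReducedOf p K : Subgroup G) : Set G) :=
        le_inf inf_le_left ((inf_le_inf_right _ hle).trans ih.c)
      exact h1.trans (inf_centralizer_largestPReducedOf_le hle hKL)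

/-- Let L be a subnormal subgroup of the finite group H, p a prime, Y_H and Y_L the largest p-reduced normal subgroups. Then Y_H ∩ L = Y_H ∩ Y_L and this subgroup is a p-reduced normal subgroup of L; C_L(Y_L) = C_L(Y_H) = C_L(Y_H ∩ L); and if O^p(H) ≤ L, then [Y_L, L] = 1 if and only if [Y_H, H] = 1. -/
theorem result {H : Type*} [Group H] [Finite H] {p : ℕ} [Fact p.Prime] (L : Subgroup H) (hL : L.IsSubnormal) : Cfsg.largestPReduced p H ⊓ L = Cfsg.largestPReduced p H ⊓ (Cfsg.largestPReducedOf p L) ∧ Cfsg.IsPReducedNormal p ((Cfsg.largestPReduced p H ⊓ L).subgroupOf L) ∧ L ⊓ Subgroup.centralizer ((Cfsg.largestPReducedOf p L : Subgroup H) : Set H) = L ⊓ Subgroup.centralizer (Cfsg.largestPReduced p H : Set H) ∧ L ⊓ Subgroup.centralizer (Cfsg.largestPReduced p H : Set H) = L ⊓ Subgroup.centralizer ((Cfsg.largestPReduced p H ⊓ L : Subgroup H) : Set H) ∧ (Cfsg.pResidual p H ≤ L → (⁅(Cfsg.largestPReducedOf p L), L⁆ = ⊥ ↔ ⁅Cfsg.largestPReduced p H, (⊤ : Subgroup H)⁆ = ⊥)) := by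
  have hP := props_of_isSubnormal (p := p) hL
  have hle : Cfsg.largestPReduced p H ⊓ L ≤ Cfsg.largestPReducedOf p L := hP.a.le_largestPReducedOf
  have h4 : L ⊓ Subgroup.centralizer (Cfsg.largestPReduced p H : Set H) = L ⊓ Subgroup.centralizer ((Cfsg.largestPReduced p H ⊓ L : Subgroup H) : Set H) :=
    le_antisymm (inf_le_inf_left _ (Subgroup.centralizer_le inf_le_left)) (le_inf inf_le_left hP.b)
  have h3 : L ⊓ Subgroup.centralizer ((Cfsg.largestPReducedOf p L : Subgroup H) : Set H) = L ⊓ Subgroup.centralizer (Cfsg.largestPReduced p H : Set H) := by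
    apply le_antisymm
    · rw [h4]
      exact inf_le_inf_left _ (Subgroup.centralizer_le hle)
    · exact le_inf inf_le_left hP.c
  refine ⟨?_, hP.a.isPReducedNormal, h3, h4, ?_⟩
  · apply le_antisymm
    · exact le_inf inf_le_left hle
    · exact inf_le_inf_left _ (largestPReducedOf_le p L)
  · intro hres
    constructor
    · intro h
      have h1 : L ≤ Subgroup.centralizer ((Cfsg.largestPReducedOf p L : Subgroup H) : Set H) :=
        Subgroup.le_centralizer_iff.mp (Subgroup.commutator_eq_bot_iff_le_centralizer.mp h)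
      have h2 : L ≤ Subgroup.centralizer (Cfsg.largestPReduced p H : Set H) := by
        have : L ≤ L ⊓ Subgroup.centralizer ((Cfsg.largestPReducedOf p L : Subgroup H) : Set H) :=
          le_inf le_rfl h1
        rw [h3] at this
        exact this.trans inf_le_right
      have hred := (pRedIn_top_iff.mpr (isPReducedNormal_largestPReduced p H)).red ⊤ le_rfl
        (by rw [Subgroup.normalizer_eq_top_iff.mpr inferInstance])
        (by
          apply pActs_of_coprime
          intro y _ hco
          exact h2 (hres (mem_pResidual_of_coprime hco)))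
      rw [Subgroup.commutator_eq_bot_iff_le_centralizer]
      exact Subgroup.le_centralizer_iff.mp hred
    · intro h
      have h1 : (⊤ : Subgroup H) ≤ Subgroup.centralizer (Cfsg.largestPReduced p H : Set H) :=
        Subgroup.le_centralizer_iff.mp (Subgroup.commutator_eq_bot_iff_le_centralizer.mp h)
      have h2 : L ≤ Subgroup.centralizer ((Cfsg.largestPReducedOf p L : Subgroup H) : Set H) :=
        (le_inf le_rfl (le_top.trans h1)).trans hP.c
      rw [Subgroup.commutator_eq_bot_iff_le_centralizer]
      exact Subgroup.le_centralizer_iff.mp h2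

end Cfsg.Agent.S2825
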