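import Cfsg.Statements.S2827
-- import your own Cfsg.Agent.* helpers here
import Cfsg.Agent.Lib.Helper47.PClosed

set_option autoImplicit false
open Cfsg

namespace Cfsg.Agent.S2827

open Cfsg.Agent.Lib.Helper47
open scoped commutatorElement

/-- Let H be a finite p-irreducible group (not p-closed, and O^p(H) lies in every normal subgroup that is not p-closed) and T a Sylow p-subgroup. Then H is generated by the conjugates of T and H = H'·T; O^p(H) ≤ H'; and for every normal subgroup Y of T not contained in O_p(H), O^p(H) = [O^p(H), Y] and O^p(H) is contained in the normal closure of Y in H. -/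
theorem result {H : Type*} [Group H] [Finite H] {p : ℕ} [Fact p.Prime] (hH : Cfsg.IsPIrreducible p H) (T : Sylow p H) : Subgroup.normalClosure ((T : Subgroup H) : Set H) = ⊤ ∧ commutator H ⊔ (T : Subgroup H) = ⊤ ∧ Cfsg.pResidual p H ≤ commutator H ∧ ∀ Y : Subgroup H, Y ≤ (T : Subgroup H) → (T : Subgroup H) ≤ Subgroup.normalizer (Y : Set H) → ¬ Y ≤ Cfsg.pCore p H → ⁅Cfsg.pResidual p H, Y⁆ = Cfsg.pResidual p H ∧ Cfsg.pResidual p H ≤ Subgroup.normalClosure (Y : Set H) := by
  have hRn : (Cfsg.pResidual p H).Normal := pResidual_normal p H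
  have hRT : Cfsg.pResidual p H ⊔ (T : Subgroup H) = ⊤ := pResidual_sup_sylow T
  -- a normal subgroup containing T contains O^p(H), hence is everything
  have key : ∀ N : Subgroup H, N.Normal → (T : Subgroup H) ≤ N → N = ⊤ := by
    intro N hN hTN
    have hnc : ¬ Cfsg.IsPClosed p ↥N := fun hc =>
      hH.1 (isPClosed_of_sylow_le_normal_isPClosed N hc T hTN)
    have hRN : Cfsg.pResidual p H ≤ N := hH.2 N hN hnc
    rw [eq_top_iff, ← hRT]
    exact sup_le hRN hTN
  have h1 : Subgroup.normalClosure ((T : Subgroup H) : Set H) = ⊤ :=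
    key _ Subgroup.normalClosure_normal Subgroup.le_normalClosure
  have hcn : (commutator H ⊔ (T : Subgroup H)).Normal := by
    apply Subgroup.Normal.of_commutator_le
    exact le_sup_left
  have h2 : commutator H ⊔ (T : Subgroup H) = ⊤ := key _ hcn le_sup_right
  have h3 : Cfsg.pResidual p H ≤ commutator H :=
    pResidual_le_of_sup_eq_top T.isPGroup' h2
  refine ⟨h1, h2, h3, ?_⟩
  intro Y hYT hTY hYO
  have hYp : IsPGroup p ↥Y := T.isPGroup'.to_le hYT
  have hDR : ⁅Cfsg.pResidual p H, Y⁆ ≤ Cfsg.pResidual p H := Subgroup.commutator_le_left _ _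
  have hDn : (⁅Cfsg.pResidual p H, Y⁆ : Subgroup H).Normal := by
    rw [← Subgroup.normalizer_eq_top_iff, eq_top_iff, ← hRT]
    apply sup_le
    · exact Subgroup.normalizer_commutator_ge_left _ _
    · refine le_trans ?_ (normalizer_inf_normalizer_le_normalizer_commutator _ _)
      exact le_inf Subgroup.le_normalizer_of_normal hTY
  have hN : Subgroup.normalClosure (Y : Set H) ≤ ⁅Cfsg.pResidual p H, Y⁆ ⊔ Y := by
    rw [Subgroup.normalClosure, Subgroup.closure_le]
    intro a ha
    rw [Group.mem_conjugatesOfSet_iff] at ha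
    obtain ⟨y, hy, hconj⟩ := ha
    rw [isConj_iff] at hconj
    obtain ⟨h, rfl⟩ := hconj
    have hh : h ∈ Cfsg.pResidual p H ⊔ (T : Subgroup H) := by rw [hRT]; trivial
    rw [Subgroup.mem_sup_of_normal_left] at hh
    obtain ⟨r, hr, t, ht, rfl⟩ := hh
    have hy' : t * y * t⁻¹ ∈ Y := (Subgroup.mem_normalizer_iff.mp (hTY ht) y).mp hy
    have : r * t * y * (r * t)⁻¹ = ⁅r, t * y * t⁻¹⁆ * (t * y * t⁻¹) := by
      simp [commutatorElement_def, mul_assoc]
    rw [this]
    exact Subgroup.mul_mem_sup (Subgroup.commutator_mem_commutator hr hy') hy'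
  have hNnc : ¬ Cfsg.IsPClosed p ↥(Subgroup.normalClosure (Y : Set H)) := fun hc =>
    hYO (le_pCore_of_le_normal_isPClosed _ hc Subgroup.le_normalClosure hYp)
  have hRN : Cfsg.pResidual p H ≤ Subgroup.normalClosure (Y : Set H) :=
    hH.2 _ Subgroup.normalClosure_normal hNnc
  refine ⟨le_antisymm hDR ?_, hRN⟩
  have : ∀ g : H, Nat.Coprime (orderOf g) p → g ∈ ⁅Cfsg.pResidual p H, Y⁆ := by
    intro g hg
    have hgDY : g ∈ ⁅Cfsg.pResidual p H, Y⁆ ⊔ Y := hN (hRN (mem_pResidual_of_coprime hg))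
    exact mem_of_coprime_of_mem_sup hYp hgDY hg
  conv_lhs => unfold Cfsg.pResidual
  rw [Subgroup.closure_le]
  exact fun g hg => this g hg

end Cfsg.Agent.S2827
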