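import Cfsg.Statements.S2828
import Mathlib
import Cfsg.Agent.Lib.Helper47.PClosed
-- import your own Cfsg.Agent.* helpers here

set_option autoImplicit false
open Cfsg
open scoped commutatorElement

namespace Cfsg.Agent.S2828

section Aux

open Cfsg.Agent.Lib.Helper47

variable {A B : Type*} [Group A] [Group B]

/-- (G1) images of `p`-closed groups are `p`-closed -/
theorem isPClosed_of_surjective {p : ℕ} [Fact p.Prime] [Finite A] (f : A →* B)
    (hf : Function.Surjective f) (h : Cfsg.IsPClosed p A) : Cfsg.IsPClosed p B := by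
  intro P
  obtain ⟨Q, rfl⟩ := Sylow.mapSurjective_surjective hf p P
  rw [Sylow.coe_mapSurjective]
  exact (h Q).map f hf

/-- (G2) extensions of `p`-closed groups by `p`-groups are `p`-closed -/
theorem isPClosed_of_surjective_of_ker {p : ℕ} [Fact p.Prime] [Finite A] (f : A →* B)
    (hf : Function.Surjective f) (hk : IsPGroup p f.ker) (h : Cfsg.IsPClosed p B) :
    Cfsg.IsPClosed p A := by
  intro P
  have h1 : ((P : Subgroup A).map f).Normal := by
    have := h (P.mapSurjective hf)
    rwa [Sylow.coe_mapSurjective] at this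
  have h2 : f.ker ≤ P := hk.le_sylow_of_normal P
  have h3 : ((P : Subgroup A).map f).comap f = P := by
    rw [Subgroup.comap_map_eq, sup_eq_left.mpr h2]
  rw [← h3]
  exact h1.comap f

theorem map_pResidual {p : ℕ} [Fact p.Prime] [Finite A] (f : A →* B)
    (hf : Function.Surjective f) : (Cfsg.pResidual p A).map f = Cfsg.pResidual p B := by
  have : Finite B := Finite.of_surjective f hf
  apply le_antisymm
  · unfold Cfsg.pResidual
    rw [MonoidHom.map_closure, Subgroup.closure_le]
    rintro _ ⟨g, hg, rfl⟩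
    apply Subgroup.subset_closure
    exact Nat.Coprime.coprime_dvd_left (orderOf_map_dvd f g) hg
  · have hn : ((Cfsg.pResidual p A).map f).Normal := (pResidual_normal p A).map f hf
    apply pResidual_le_of_isPGroup_quotient
    intro x
    obtain ⟨y, rfl⟩ := QuotientGroup.mk_surjective x
    obtain ⟨g, rfl⟩ := hf y
    have := pResidual_normal p A
    obtain ⟨k, hk⟩ := (isPGroup_quotient_pResidual p A (Cfsg.pResidual p A) le_rfl) (g : A ⧸ Cfsg.pResidual p A)
    refine ⟨k, ?_⟩
    rw [← QuotientGroup.mk_pow, QuotientGroup.eq_one_iff, ← map_pow]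
    apply Subgroup.mem_map_of_mem
    rw [← QuotientGroup.mk_pow, QuotientGroup.eq_one_iff] at hk
    exact hk

theorem map_pCore_le {p : ℕ} (f : A →* B) (hf : Function.Surjective f) :
    (Cfsg.pCore p A).map f ≤ Cfsg.pCore p B := by
  apply le_pCore
  · exact (Subgroup.sSup_normal _ (fun _ h => h.1) : (Cfsg.pCore p A).Normal).map f hf
  · exact (pCore_isPGroup p A).map f

theorem comap_pCore_le {p : ℕ} (f : A →* B) (hk : IsPGroup p f.ker) :
    (Cfsg.pCore p B).comap f ≤ Cfsg.pCore p A := by
  apply le_pCore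
  · exact (Subgroup.sSup_normal _ (fun _ h => h.1) : (Cfsg.pCore p B).Normal).comap f
  · exact (pCore_isPGroup p B).comap_of_ker_isPGroup f hk

end Aux

/-- Let H be a finite group, p a prime and D a normal p-subgroup of H. Then H is p-irreducible if and only if H/D is p-irreducible, and H is strongly p-irreducible if and only if H/D is strongly p-irreducible. -/
theorem result {H : Type*} [Group H] [Finite H] {p : ℕ} [Fact p.Prime] (D : Subgroup H) [D.Normal] (hD : IsPGroup p ↥D) : (Cfsg.IsPIrreducible p H ↔ Cfsg.IsPIrreducible p (H ⧸ D)) ∧ (Cfsg.IsStronglyPIrreducible p H ↔ Cfsg.IsStronglyPIrreducible p (H ⧸ D)) := by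
  set π := QuotientGroup.mk' D with hπdef
  have hπ : Function.Surjective π := QuotientGroup.mk'_surjective D
  have hker : π.ker = D := QuotientGroup.ker_mk' D
  have hkp : IsPGroup p π.ker := by rw [hker]; exact hD
  have hcl : Cfsg.IsPClosed p H ↔ Cfsg.IsPClosed p (H ⧸ D) :=
    ⟨isPClosed_of_surjective π hπ, isPClosed_of_surjective_of_ker π hπ hkp⟩
  have hres : (Cfsg.pResidual p H).map π = Cfsg.pResidual p (H ⧸ D) := map_pResidual π hπ
  have key1 : ∀ N : Subgroup H, N.Normal → Cfsg.pResidual p (H ⧸ D) ≤ N.map π →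
      Cfsg.pResidual p H ≤ N := by
    intro N hN h
    rw [← hres, Subgroup.map_le_map_iff, hker] at h
    have h' : Subgroup.closure {g : H | Nat.Coprime (orderOf g) p} ≤ N := by
      rw [Subgroup.closure_le]
      intro x hx
      exact Cfsg.Agent.Lib.Helper47.mem_of_coprime_of_mem_sup hD
        (h (Subgroup.subset_closure hx)) hx
    exact h'
  have key2 : ∀ N' : Subgroup (H ⧸ D), Cfsg.pResidual p H ≤ N'.comap π →
      Cfsg.pResidual p (H ⧸ D) ≤ N' := by
    intro N' h
    rw [← hres]
    exact Subgroup.map_le_iff_le_comap.mpr h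
  have hkerN : ∀ N : Subgroup H, IsPGroup p (π.subgroupMap N).ker := by
    intro N
    rintro ⟨x, hx⟩
    have hxD : (x : H) ∈ D := by
      rw [MonoidHom.mem_ker] at hx
      have h1 := congrArg Subtype.val hx
      have h2 : π (x : H) = 1 := by simpa using h1
      exact (QuotientGroup.eq_one_iff (x : H)).mp h2
    obtain ⟨k, hk⟩ := hD ⟨(x : H), hxD⟩
    refine ⟨k, ?_⟩
    apply Subtype.ext
    apply Subtype.ext
    have := congrArg Subtype.val hk
    simpa using this
  refine ⟨⟨?_, ?_⟩, ⟨?_, ?_⟩⟩
  · rintro ⟨h1, h2⟩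
    refine ⟨fun h => h1 (hcl.mpr h), fun N' hN' hncl => ?_⟩
    apply key2
    apply h2 (N'.comap π) (hN'.comap π)
    intro hc
    apply hncl
    exact isPClosed_of_surjective (π.subgroupComap N')
      (π.subgroupComap_surjective_of_surjective N' hπ) hc
  · rintro ⟨h1, h2⟩
    refine ⟨fun h => h1 (hcl.mp h), fun N hN hncl => ?_⟩
    apply key1 N hN
    apply h2 (N.map π) (hN.map π hπ)
    intro hc
    apply hncl
    exact isPClosed_of_surjective_of_ker (π.subgroupMap N) (π.subgroupMap_surjective N)
      (hkerN N) hc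
  · rintro ⟨h1, h2⟩
    refine ⟨fun h => h1 (hcl.mpr h), fun N' hN' hcomm => ?_⟩
    apply key2
    apply h2 (N'.comap π) (hN'.comap π)
    intro hc
    apply hcomm
    have h3 := Subgroup.map_mono (f := π) hc
    rw [Subgroup.map_commutator, Subgroup.map_comap_eq_self_of_surjective hπ,
      Subgroup.map_top_of_surjective π hπ] at h3
    exact h3.trans (map_pCore_le π hπ)
  · rintro ⟨h1, h2⟩
    refine ⟨fun h => h1 (hcl.mp h), fun N hN hcomm => ?_⟩
    apply key1 N hN
    apply h2 (N.map π) (hN.map π hπ)
    intro hc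
    apply hcomm
    have h3 : (⁅N, (⊤ : Subgroup H)⁆).map π ≤ Cfsg.pCore p (H ⧸ D) := by
      rw [Subgroup.map_commutator, Subgroup.map_top_of_surjective π hπ]
      exact hc
    exact (Subgroup.map_le_iff_le_comap.mp h3).trans (comap_pCore_le π hkp)

end Cfsg.Agent.S2828
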