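import Cfsg.Statements.S2829
-- import your own Cfsg.Agent.* helpers here
import Cfsg.Agent.Lib.Helper47.Basic

set_option autoImplicit false
open Cfsg

namespace Cfsg.Agent.S2829

open Cfsg.Agent.Lib.Helper47
open scoped commutatorElement

/-- If `[N, H] ≤ O_p(H)` for a normal subgroup `N`, then `N` is `p`-closed. -/
theorem isPClosed_of_commutator_le_pCore {H : Type*} [Group H] {p : ℕ} [Fact p.Prime]
    (N : Subgroup H) (hN : N.Normal) (h : ⁅N, (⊤ : Subgroup H)⁆ ≤ Cfsg.pCore p H) :
    Cfsg.IsPClosed p ↥N := by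
  intro P
  -- K = O_p(H) ∩ N as a subgroup of N is a normal p-subgroup, so lies in P
  have hKn : ((Cfsg.pCore p H).subgroupOf N).Normal := inferInstance
  have hKp : IsPGroup p ↥((Cfsg.pCore p H).subgroupOf N) := by
    have := pCore_isPGroup p H
    exact this.comap_subtype
  have hKP : (Cfsg.pCore p H).subgroupOf N ≤ (P : Subgroup ↥N) := hKp.le_sylow_of_normal P
  constructor
  intro n hn g
  have hcomm : (g * n * g⁻¹ * n⁻¹ : ↥N) ∈ (Cfsg.pCore p H).subgroupOf N := by
    rw [Subgroup.mem_subgroupOf]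
    apply h
    have h2 : ((g * n * g⁻¹ * n⁻¹ : ↥N) : H) = ⁅(g:H), (n:H)⁆ := by
      simp [commutatorElement_def]
    rw [h2]
    exact Subgroup.commutator_mem_commutator g.2 (Subgroup.mem_top _)
  have := Subgroup.mul_mem _ (hKP hcomm) hn
  simpa using this

/-- Every strongly p-irreducible finite group is p-irreducible. -/
theorem result {H : Type*} [Group H] [Finite H] {p : ℕ} [Fact p.Prime] (hH : Cfsg.IsStronglyPIrreducible p H) : Cfsg.IsPIrreducible p H := by
  refine ⟨hH.1, fun N hN hNc => hH.2 N hN fun hle => hNc ?_⟩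
  exact isPClosed_of_commutator_le_pCore N hN hle

end Cfsg.Agent.S2829
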