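import Cfsg.Statements.S2831
-- import your own Cfsg.Agent.* helpers here
import Cfsg.Agent.Lib.Helper47.SylowLemmas

set_option autoImplicit false
open Cfsg

namespace Cfsg.Agent.S2831

open Cfsg.Agent.Lib.Helper47
open scoped commutatorElement

/-- Let H be a finite group with Sylow p-subgroup T such that H is T-minimal (H is generated by the conjugates of T and T lies in exactly one maximal subgroup of H). Then H is p-irreducible: H is not p-closed and O^p(H) lies in every normal subgroup of H that is not p-closed. -/
theorem result {H : Type*} [Group H] [Finite H] {p : ℕ} [Fact p.Prime] (T : Sylow p H) (hmin : Cfsg.IsMinimalOver (T : Subgroup H)) : Cfsg.IsPIrreducible p H := by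
  obtain ⟨hnc, M, ⟨hMco, hTM⟩, hMuniq⟩ := hmin
  constructor
  · intro hcl
    have hTn : (T : Subgroup H).Normal := hcl T
    have hT : (T : Subgroup H) = ⊤ := by
      rw [← hnc]; exact (Subgroup.normalClosure_eq_self _).symm
    exact hMco.1 (top_le_iff.mp (hT ▸ hTM))
  · intro N hN hNc
    have := hN
    by_cases hNT : N ⊔ (T : Subgroup H) = ⊤
    · exact pResidual_le_of_sup_eq_top T.isPGroup' hNT
    · exfalso
      obtain ⟨M', hM', hle⟩ := (eq_top_or_exists_le_coatom (N ⊔ (T : Subgroup H))).resolve_left hNT
      have hM'M : M' = M := hMuniq M' ⟨hM', le_sup_right.trans hle⟩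
      subst hM'M
      obtain ⟨P, hP⟩ := exists_sylow_eq_subgroupOf_of_normal T N
      have hfr := Sylow.normalizer_sup_eq_top P
      have hPmap : (P : Subgroup ↥N).map N.subtype = (T : Subgroup H) ⊓ N := by
        rw [hP, Subgroup.subgroupOf_map_subtype]
      rw [hPmap] at hfr
      have hTnorm : (T : Subgroup H) ≤ Subgroup.normalizer (((T : Subgroup H) ⊓ N : Subgroup H) : Set H) := by
        intro t ht
        rw [Subgroup.mem_normalizer_iff]
        intro x
        constructor
        · rintro ⟨hxT, hxN⟩
          exact ⟨(T : Subgroup H).mul_mem ((T : Subgroup H).mul_mem ht hxT) ((T : Subgroup H).inv_mem ht),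
            hN.conj_mem x hxN t⟩
        · rintro ⟨hxT, hxN⟩
          constructor
          · show x ∈ (T : Subgroup H)
            have := (T : Subgroup H).mul_mem ((T : Subgroup H).mul_mem ((T : Subgroup H).inv_mem ht) hxT) ht
            simpa [mul_assoc] using this
          · show x ∈ N
            have := hN.conj_mem _ hxN t⁻¹
            simpa [mul_assoc] using this
      by_cases hnorm : Subgroup.normalizer (((T : Subgroup H) ⊓ N : Subgroup H) : Set H) = ⊤
      · -- T ⊓ N is normal in H, so P is normal in N
        apply hNc
        apply isPClosed_of_normal_sylow P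
        rw [hP]
        have : ((T : Subgroup H) ⊓ N).Normal := Subgroup.normalizer_eq_top_iff.mp hnorm
        have h2 : (T : Subgroup H).subgroupOf N = ((T : Subgroup H) ⊓ N).subgroupOf N := by
          rw [Subgroup.inf_subgroupOf_right]
        rw [h2]
        infer_instance
      · obtain ⟨M'', hM'', hle''⟩ := (eq_top_or_exists_le_coatom _).resolve_left hnorm
        have hM''M : M'' = M' := hMuniq M'' ⟨hM'', hTnorm.trans hle''⟩
        subst hM''M
        have : (⊤ : Subgroup H) ≤ M'' := by
          rw [← hfr]
          exact sup_le hle'' (le_sup_left.trans hle)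
        exact hM''.1 (top_le_iff.mp this)

end Cfsg.Agent.S2831
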