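import Cfsg.Statements.S2832
-- import your own Cfsg.Agent.* helpers here
import Cfsg.Agent.Lib.Helper47.Quot

set_option autoImplicit false
open Cfsg

namespace Cfsg.Agent.S2832

open Cfsg.Agent.Lib.Helper47
open scoped commutatorElement

/-- Let H be a finite group with Sylow p-subgroup T such that H is T-minimal (generated by the conjugates of T, with T in exactly one maximal subgroup), and let N be a normal subgroup of H. Then either H/N is a p-group or H/N is minimal over the image of T in the same sense. -/
theorem result {H : Type*} [Group H] [Finite H] {p : ℕ} [Fact p.Prime] (T : Sylow p H) (hmin : Cfsg.IsMinimalOver (T : Subgroup H)) (N : Subgroup H) [N.Normal] : IsPGroup p (H ⧸ N) ∨ Cfsg.IsMinimalOver ((T : Subgroup H).map (QuotientGroup.mk' N)) := by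
  obtain ⟨hnc, M, ⟨hMco, hTM⟩, hMuniq⟩ := hmin
  by_cases hNT : N ⊔ (T : Subgroup H) = ⊤
  · left
    exact isPGroup_quotient_of_sup_eq_top T.isPGroup' hNT
  · right
    obtain ⟨M', hM', hle⟩ := (eq_top_or_exists_le_coatom (N ⊔ (T : Subgroup H))).resolve_left hNT
    have hM'M : M' = M := hMuniq M' ⟨hM', le_sup_right.trans hle⟩
    subst hM'M
    have hNM : N ≤ M' := le_sup_left.trans hle
    refine ⟨?_, M'.map (QuotientGroup.mk' N), ⟨isCoatom_map_mk' N hM' hNM, Subgroup.map_mono hTM⟩, ?_⟩
    · have := Subgroup.map_normalClosure ((T : Subgroup H) : Set H) (QuotientGroup.mk' N)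
        (QuotientGroup.mk'_surjective N)
      rw [hnc, map_mk'_top] at this
      rw [Subgroup.coe_map]
      exact this.symm
    · rintro X ⟨hX, hTX⟩
      have h1 : IsCoatom (X.comap (QuotientGroup.mk' N)) := isCoatom_comap_mk' N hX
      have h2 : (T : Subgroup H) ≤ X.comap (QuotientGroup.mk' N) :=
        (Subgroup.le_comap_map _ _).trans (Subgroup.comap_mono hTX)
      have h3 := hMuniq _ ⟨h1, h2⟩
      rw [← map_comap_mk' N X, h3]

end Cfsg.Agent.S2832
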