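import Cfsg.Statements.S2837
-- import your own Cfsg.Agent.* helpers here
import Cfsg.Agent.S2835
import Cfsg.Agent.S2833
import Cfsg.Agent.Lib.Helper47.Basic
import Cfsg.Agent.Lib.Helper47.Commutator
import Cfsg.Agent.Lib.Helper47.Large
import Cfsg.Agent.Lib.Helper96.ElemAb

set_option autoImplicit false
open Cfsg

namespace Cfsg.Agent.S2837

open Cfsg.Agent.Lib.Helper47
open scoped commutatorElement Pointwise

variable {G : Type*} [Group G]

/-- In a finite nilpotent group the commutator subgroup lies in the Frattini subgroup. -/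
theorem commutator_le_frattini_of_nilp {N : Type*} [Group N] [Finite N]
    [hN : Group.IsNilpotent N] : commutator N ≤ frattini N := by
  unfold frattini Order.radical
  refine le_iInf₂ ?_
  intro M hM
  have hnc := Group.normalizerCondition_of_isNilpotent (G := N)
  have hMn : M.Normal := by
    rw [← Subgroup.normalizer_eq_top_iff]
    exact hM.2 _ (hnc M (lt_top_iff_ne_top.mpr hM.1))
  rw [← Subgroup.Normal.quotient_commutative_iff_commutator_le]
  have hnt : Nontrivial (N ⧸ M) := by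
    rw [← not_subsingleton_iff_nontrivial]
    intro hss
    exact hM.1 (QuotientGroup.subgroup_eq_top_of_subsingleton M hss)
  have hcne : Subgroup.center (N ⧸ M) ≠ ⊥ := Group.IsNilpotent.center_ne_bot (N ⧸ M)
  have hle : M ≤ (Subgroup.center (N ⧸ M)).comap (QuotientGroup.mk' M) := by
    intro m hm
    rw [Subgroup.mem_comap, QuotientGroup.mk'_apply, (QuotientGroup.eq_one_iff m).mpr hm]
    exact Subgroup.one_mem _
  have hne : M ≠ (Subgroup.center (N ⧸ M)).comap (QuotientGroup.mk' M) := by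
    intro heq
    apply hcne
    rw [eq_bot_iff]
    intro z hz
    obtain ⟨g, rfl⟩ := QuotientGroup.mk'_surjective M z
    have h1 : g ∈ (Subgroup.center (N ⧸ M)).comap (QuotientGroup.mk' M) := hz
    rw [← heq] at h1
    rw [Subgroup.mem_bot]
    exact (QuotientGroup.eq_one_iff g).mpr h1
  have htop := hM.2 _ (lt_of_le_of_ne hle hne)
  refine ⟨⟨fun a b => ?_⟩⟩
  obtain ⟨a', rfl⟩ := QuotientGroup.mk'_surjective M a
  have ha : a' ∈ (Subgroup.center (N ⧸ M)).comap (QuotientGroup.mk' M) := by rw [htop]; trivial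
  exact ((Subgroup.mem_center_iff.mp ha) b).symm

/-- `[Q ∩ Y₁, Q ∩ Y₂] ≤ Q ∩ Y₁ ∩ Y₂` if `Q` normalizes both `Y₁` and `Y₂`. -/
theorem commutator_inf_le (Q Y₁ Y₂ : Subgroup G)
    (h1 : Q ≤ Subgroup.normalizer (Y₁ : Set G)) (h2 : Q ≤ Subgroup.normalizer (Y₂ : Set G)) :
    ⁅Q ⊓ Y₁, Q ⊓ Y₂⁆ ≤ Q ⊓ (Y₁ ⊓ Y₂) := by
  rw [Subgroup.commutator_le]
  rintro z ⟨hzQ, hzY⟩ w ⟨hwQ, hwY⟩
  refine ⟨?_, ?_, ?_⟩
  · exact Q.mul_mem (Q.mul_mem (Q.mul_mem hzQ hwQ) (Q.inv_mem hzQ)) (Q.inv_mem hwQ)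
  · have : ⁅z, w⁆ = z * (w * z⁻¹ * w⁻¹) := by simp [commutatorElement_def, mul_assoc]
    rw [this]
    exact Y₁.mul_mem hzY (conj_mem_of_le_normalizer h1 hwQ (Y₁.inv_mem hzY))
  · exact Y₂.mul_mem (conj_mem_of_le_normalizer h2 hzQ hwY) (Y₂.inv_mem hwY)

/-- An abelian `Y₁` normalized by the normal subgroup `Q` normalizes `(Q ∩ Y₁) ⊔ (Q ∩ Y₂)`. -/
theorem le_normalizer_sup_inf (Q Y₁ Y₂ : Subgroup G) [hQ : Q.Normal]
    (hab : ∀ a ∈ Y₁, ∀ b ∈ Y₁, a * b = b * a)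
    (h1 : Q ≤ Subgroup.normalizer (Y₁ : Set G)) :
    Y₁ ≤ Subgroup.normalizer (((Q ⊓ Y₁) ⊔ (Q ⊓ Y₂) : Subgroup G) : Set G) := by
  rw [Subgroup.sup_eq_closure, Subgroup.le_normalizer_closure_iff]
  rintro y hy x (⟨hxQ, hxY⟩ | ⟨hxQ, hxY⟩)
  · have : y * x * y⁻¹ = x := by rw [hab y hy x hxY]; group
    rw [this]
    exact Subgroup.subset_closure (Or.inl ⟨hxQ, hxY⟩)
  · have : y * x * y⁻¹ = (y * (x * y⁻¹ * x⁻¹)) * x := by group
    rw [this]
    apply Subgroup.mul_mem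
    · apply Subgroup.subset_closure
      left
      refine ⟨?_, ?_⟩
      · have : y * (x * y⁻¹ * x⁻¹) = (y * x * y⁻¹) * x⁻¹ := by group
        rw [this]
        exact Q.mul_mem (hQ.conj_mem x hxQ y) (Q.inv_mem hxQ)
      · exact Y₁.mul_mem hy (conj_mem_of_le_normalizer h1 hxQ (Y₁.inv_mem hy))
    · exact Subgroup.subset_closure (Or.inr ⟨hxQ, hxY⟩)

/-- A group of exponent `p` (in the weak sense `a ^ p = 1`) is a `p`-group. -/
theorem isPGroup_of_exp {p : ℕ} {Y : Subgroup G} (h : ∀ a ∈ Y, a ^ p = 1) : IsPGroup p ↥Y := by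
  intro y
  refine ⟨1, ?_⟩
  apply Subtype.ext
  simpa using h y y.2

/-- `Φ(A) = A'` for a finite `p`-group `A` generated mod `A'` by elements of order dividing `p`. -/
theorem frattini_eq_commutator [Finite G] {p : ℕ} [Fact p.Prime] (A : Subgroup G)
    (hAp : IsPGroup p ↥A) (hexp : ∀ a ∈ A, a ^ p ∈ ⁅A, A⁆) :
    (frattini ↥A).map A.subtype = ⁅A, A⁆ := by
  rw [← Subgroup.map_subtype_commutator]
  congr 1
  apply le_antisymm
  · have hsurj : Function.Surjective (QuotientGroup.mk' (commutator ↥A)) :=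
      QuotientGroup.mk'_surjective _
    have h1 := frattini_le_comap_frattini_of_surjective hsurj
    have h2 : frattini (↥A ⧸ commutator ↥A) = ⊥ := by
      apply Cfsg.Agent.Lib.Helper96.frattini_eq_bot_of_elemAb p
      · intro a b
        obtain ⟨a, rfl⟩ := hsurj a
        obtain ⟨b, rfl⟩ := hsurj b
        rw [← map_mul, ← map_mul, QuotientGroup.mk'_apply, QuotientGroup.mk'_apply,
          QuotientGroup.eq]
        have h3 : (a * b)⁻¹ * (b * a) = ⁅b⁻¹, a⁻¹⁆ := by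
          simp [commutatorElement_def, mul_assoc]
        rw [h3]
        exact Subgroup.commutator_mem_commutator (Subgroup.mem_top _) (Subgroup.mem_top _)
      · intro x
        obtain ⟨a, rfl⟩ := hsurj x
        rw [← map_pow, QuotientGroup.mk'_apply, QuotientGroup.eq_one_iff]
        have h4 := hexp (a : G) a.2
        rw [← Subgroup.map_subtype_commutator] at h4
        obtain ⟨c, hc, hca⟩ := h4
        have : c = a ^ p := by
          apply Subtype.ext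
          rw [Subgroup.coe_pow]
          exact hca
        rw [← this]
        exact hc
    rw [h2] at h1
    have h5 : (⊥ : Subgroup (↥A ⧸ commutator ↥A)).comap (QuotientGroup.mk' (commutator ↥A)) =
        commutator ↥A := by
      exact QuotientGroup.ker_mk' (commutator ↥A)
    rw [h5] at h1
    exact h1
  · have : Group.IsNilpotent ↥A := hAp.isNilpotent
    exact commutator_le_frattini_of_nilp

theorem structure_lemma [Finite G] {p : ℕ} [Fact p.Prime] (Q Y Yg A : Subgroup G) [hQ : Q.Normal]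
    (hQp : IsPGroup p ↥Q)
    (habY : ∀ a ∈ Y, ∀ b ∈ Y, a * b = b * a) (habYg : ∀ a ∈ Yg, ∀ b ∈ Yg, a * b = b * a)
    (hexY : ∀ a ∈ Y, a ^ p = 1) (hexYg : ∀ a ∈ Yg, a ^ p = 1)
    (hQY : Q ≤ Subgroup.normalizer (Y : Set G)) (hQYg : Q ≤ Subgroup.normalizer (Yg : Set G))
    (htop : Y ⊔ Yg = ⊤) (hint : Y ⊓ Yg = Y ⊓ Subgroup.center G)
    (hcen : Yg ⊓ Subgroup.center G ≤ Y)
    (hA : A = Subgroup.normalClosure ((Q ⊓ Y : Subgroup G) : Set G))
    (hZgA : Q ⊓ Yg ≤ A) (hYZQ : Y ⊓ Subgroup.center G ≤ Q) :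
    (frattini ↥A).map A.subtype = ⁅A, A⁆ ∧ ⁅A, A⁆ = ⁅A ⊓ Y, A⁆ ∧
      ⁅A ⊓ Y, A⁆ = ⁅A ⊓ Y, A ⊓ Yg⁆ ∧ ⁅A ⊓ Y, A⁆ ≤ Y ⊓ Subgroup.center G ∧
      (A ⊓ Y) ⊓ (A ⊓ Yg) = Y ⊓ Subgroup.center G ∧
      A ⊓ Subgroup.center G = Y ⊓ Subgroup.center G := by
  have hAn : A.Normal := by rw [hA]; exact Subgroup.normalClosure_normal
  have hZ₁A : Q ⊓ Y ≤ A := by rw [hA]; exact Subgroup.subset_normalClosure
  have hAQ : A ≤ Q := by rw [hA]; exact Subgroup.normalClosure_le_normal inf_le_left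
  have hAY : A ⊓ Y = Q ⊓ Y := le_antisymm (inf_le_inf_right _ hAQ) (le_inf hZ₁A inf_le_right)
  have hAYg : A ⊓ Yg = Q ⊓ Yg := le_antisymm (inf_le_inf_right _ hAQ) (le_inf hZgA inf_le_right)
  have hB : A = (Q ⊓ Y) ⊔ (Q ⊓ Yg) := by
    apply le_antisymm
    · have hBn : ((Q ⊓ Y) ⊔ (Q ⊓ Yg)).Normal := by
        rw [← Subgroup.normalizer_eq_top_iff, eq_top_iff, ← htop]
        apply sup_le
        · exact le_normalizer_sup_inf Q Y Yg habY hQY
        · have := le_normalizer_sup_inf Q Yg Y habYg hQYg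
          rwa [sup_comm] at this
      rw [hA]; exact Subgroup.normalClosure_le_normal (SetLike.coe_subset_coe.mpr le_sup_left)
    · exact sup_le hZ₁A hZgA
  have hC : ⁅Q ⊓ Y, Q ⊓ Yg⁆ ≤ Q ⊓ (Y ⊓ Yg) := commutator_inf_le Q Y Yg hQY hQYg
  have hC1 : ⁅Q ⊓ Y, Q ⊓ Yg⁆ ≤ Q ⊓ Y := hC.trans (le_inf inf_le_left (inf_le_right.trans inf_le_left))
  have hC2 : ⁅Q ⊓ Y, Q ⊓ Yg⁆ ≤ Q ⊓ Yg := hC.trans (le_inf inf_le_left (inf_le_right.trans inf_le_right))
  have hCcen : ⁅Q ⊓ Y, Q ⊓ Yg⁆ ≤ Y ⊓ Subgroup.center G := hC.trans (inf_le_right.trans hint.le)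
  have hZ₁ab : ⁅Q ⊓ Y, Q ⊓ Y⁆ = ⊥ := by
    rw [Subgroup.commutator_eq_bot_iff_le_centralizer]
    intro a ha
    rw [Subgroup.mem_centralizer_iff]
    intro b hb
    exact habY b hb.2 a ha.2
  have hZ₂ab : ⁅Q ⊓ Yg, Q ⊓ Yg⁆ = ⊥ := by
    rw [Subgroup.commutator_eq_bot_iff_le_centralizer]
    intro a ha
    rw [Subgroup.mem_centralizer_iff]
    intro b hb
    exact habYg b hb.2 a ha.2
  have h1 : ⁅Q ⊓ Y, A⁆ ≤ ⁅Q ⊓ Y, Q ⊓ Yg⁆ := by
    have := Cfsg.Agent.S2833.commutator_sup_le (Q ⊓ Y) (Q ⊓ Y) (Q ⊓ Yg) Subgroup.le_normalizer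
      (Subgroup.le_normalizer_iff_commutator_le_left.mpr hC1)
    rw [hZ₁ab, bot_sup_eq, ← hB] at this
    exact this
  have h2 : ⁅Q ⊓ Yg, A⁆ ≤ ⁅Q ⊓ Y, Q ⊓ Yg⁆ := by
    have hC2' : ⁅Q ⊓ Yg, Q ⊓ Y⁆ ≤ Q ⊓ Yg := by rw [Subgroup.commutator_comm]; exact hC2
    have := Cfsg.Agent.S2833.commutator_sup_le (Q ⊓ Yg) (Q ⊓ Y) (Q ⊓ Yg)
      (Subgroup.le_normalizer_iff_commutator_le_left.mpr hC2') Subgroup.le_normalizer
    rw [hZ₂ab, sup_bot_eq, ← hB, Subgroup.commutator_comm (Q ⊓ Yg) (Q ⊓ Y)] at this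
    exact this
  have hAN : ∀ X : Subgroup G, X ≤ Subgroup.normalizer (A : Set G) := by
    intro X
    rw [Subgroup.normalizer_eq_top_iff.mpr hAn]
    exact le_top
  have h3 : ⁅A, A⁆ ≤ ⁅Q ⊓ Y, Q ⊓ Yg⁆ := by
    have := Cfsg.Agent.S2833.commutator_sup_le A (Q ⊓ Y) (Q ⊓ Yg) (hAN _) (hAN _)
    rw [← hB, Subgroup.commutator_comm A (Q ⊓ Y), Subgroup.commutator_comm A (Q ⊓ Yg)] at this
    exact this.trans (sup_le h1 h2)
  have h4 : ⁅Q ⊓ Y, Q ⊓ Yg⁆ ≤ ⁅Q ⊓ Y, A⁆ := Subgroup.commutator_mono le_rfl hZgA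
  have h5 : ⁅Q ⊓ Y, A⁆ ≤ ⁅A, A⁆ := Subgroup.commutator_mono hZ₁A le_rfl
  have hexp : ∀ a ∈ A, a ^ p ∈ ⁅A, A⁆ := by
    have := hAn
    have hKn : (⁅A, A⁆).Normal := Subgroup.commutator_normal A A
    intro a ha
    have key : ∀ x ∈ Subgroup.closure (((Q ⊓ Y : Subgroup G) : Set G) ∪ ((Q ⊓ Yg : Subgroup G) : Set G)),
        x ∈ A ∧ (QuotientGroup.mk' ⁅A, A⁆ x) ^ p = 1 := by
      intro x hx
      induction hx using Subgroup.closure_induction with
      | mem x hx =>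
        rcases hx with hx | hx
        · refine ⟨hZ₁A hx, ?_⟩
          rw [← map_pow, hexY x hx.2, map_one]
        · refine ⟨hZgA hx, ?_⟩
          rw [← map_pow, hexYg x hx.2, map_one]
      | one => exact ⟨A.one_mem, by simp⟩
      | mul x y _ _ ihx ihy =>
        refine ⟨A.mul_mem ihx.1 ihy.1, ?_⟩
        rw [map_mul]
        have hcomm : Commute (QuotientGroup.mk' ⁅A, A⁆ x) (QuotientGroup.mk' ⁅A, A⁆ y) := by
          show _ * _ = _ * _
          rw [← map_mul, ← map_mul, QuotientGroup.mk'_apply, QuotientGroup.mk'_apply,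
            QuotientGroup.eq]
          have h3 : (x * y)⁻¹ * (y * x) = ⁅y⁻¹, x⁻¹⁆ := by
            simp [commutatorElement_def, mul_assoc]
          rw [h3]
          exact Subgroup.commutator_mem_commutator (A.inv_mem ihy.1) (A.inv_mem ihx.1)
        rw [hcomm.mul_pow, ihx.2, ihy.2, one_mul]
      | inv x _ ihx =>
        refine ⟨A.inv_mem ihx.1, ?_⟩
        rw [map_inv, inv_pow, ihx.2, inv_one]
    have := (key a (by rw [← Subgroup.sup_eq_closure, ← hB]; exact ha)).2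
    rw [← map_pow, QuotientGroup.mk'_apply, QuotientGroup.eq_one_iff] at this
    exact this
  refine ⟨frattini_eq_commutator A (hQp.to_le hAQ) hexp, ?_, ?_, ?_, ?_, ?_⟩
  · rw [hAY]; exact le_antisymm (h3.trans h4) h5
  · rw [hAY, hAYg]; exact le_antisymm h1 h4
  · rw [hAY]; exact h1.trans hCcen
  · rw [hAY, hAYg]
    apply le_antisymm
    · intro x hx
      rw [← hint]
      exact ⟨hx.1.2, hx.2.2⟩
    · intro x hx
      have hxQ := hYZQ hx
      have hx' : x ∈ Y ⊓ Yg := by rw [hint]; exact hx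
      exact ⟨⟨hxQ, hx'.1⟩, ⟨hxQ, hx'.2⟩⟩
  · apply le_antisymm
    · intro a ha
      refine ⟨?_, ha.2⟩
      have haA := ha.1
      have hacen := Subgroup.mem_center_iff.mp ha.2
      rw [hB] at haA
      have hnorm : (Q ⊓ Y) ≤ Subgroup.normalizer ((Q ⊓ Yg : Subgroup G) : Set G) := by
        apply Subgroup.le_normalizer_iff_commutator_le_left.mpr
        rw [Subgroup.commutator_comm]; exact hC2
      have hmem : a ∈ ((((Q ⊓ Y) ⊔ (Q ⊓ Yg) : Subgroup G)) : Set G) := haA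
      rw [Subgroup.coe_mul_of_left_le_normalizer_right _ _ hnorm] at hmem
      obtain ⟨z, hz, w, hw, rfl⟩ := Set.mem_mul.mp hmem
      have hz' : z ∈ Q ⊓ Y := hz
      have hw' : w ∈ Q ⊓ Yg := hw
      -- `w` is central
      have hwcen : w ∈ Subgroup.center G := by
        have hle : Y ⊔ Yg ≤ Subgroup.centralizer {w} := by
          apply sup_le
          · intro y hy
            rw [Subgroup.mem_centralizer_iff]
            intro h hh
            rw [Set.mem_singleton_iff] at hh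
            subst hh
            -- `w * y = y * w`
            have e1 : h = z⁻¹ * (z * h) := by group
            have e2 : (z * h) * y = y * (z * h) := (hacen y).symm
            have e3 : z⁻¹ * y = y * z⁻¹ := habY _ (Y.inv_mem hz'.2) _ hy
            calc h * y = z⁻¹ * ((z * h) * y) := by group
              _ = z⁻¹ * (y * (z * h)) := by rw [e2]
              _ = (z⁻¹ * y) * (z * h) := by group
              _ = (y * z⁻¹) * (z * h) := by rw [e3]
              _ = y * h := by group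
          · intro y hy
            rw [Subgroup.mem_centralizer_iff]
            intro h hh
            rw [Set.mem_singleton_iff] at hh
            subst hh
            exact habYg _ hw'.2 _ hy
        rw [htop] at hle
        rw [Subgroup.mem_center_iff]
        intro g
        have := Subgroup.mem_centralizer_iff.mp (hle (Subgroup.mem_top g)) w rfl
        exact this.symm
      have hwY : w ∈ Y := hcen ⟨hw'.2, hwcen⟩
      exact Y.mul_mem hz'.2 hwY
    · intro x hx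
      exact ⟨hZ₁A ⟨hYZQ hx, hx.1⟩, hx.2⟩

/-- Let L be a finite group of characteristic p, L₀ a maximal subgroup, Y an elementary abelian p-subgroup of L₀ with L Y-minimal and O_p(L) ≤ N_L(Y). Put A = the normal closure of O_p(L) ∩ Y in L. Then for every g ∈ L outside L₀: Φ(A) = A' = [A ∩ Y, A] = [A ∩ Y, A ∩ gYg⁻¹] ≤ C_Y(L), and Y ∩ gYg⁻¹ = (A ∩ Y) ∩ (A ∩ gYg⁻¹) = C_Y(L) = C_A(L). -/
theorem result {L : Type*} [Group L] [Finite L] {p : ℕ} [Fact p.Prime] (hchar : Subgroup.centralizer (Cfsg.pCore p L : Set L) ≤ Cfsg.pCore p L) (L₀ : Subgroup L) (hL₀ : IsCoatom L₀) (Y : Subgroup L) (hYL₀ : Y ≤ L₀) (hYel : Cfsg.IsElementaryAbelian p Y) (hmin : Cfsg.IsMinimalOver Y) (hOY : Cfsg.pCore p L ≤ Subgroup.normalizer (Y : Set L)) (A : Subgroup L) (hA : A = Subgroup.normalClosure (((Cfsg.pCore p L ⊓ Y : Subgroup L)) : Set L)) (g : L) (hg : g ∉ L₀) : (frattini ↥A).map A.subtype = ⁅A, A⁆ ∧ ⁅A, A⁆ = ⁅A ⊓ Y, A⁆ ∧ ⁅A ⊓ Y, A⁆ = ⁅A ⊓ Y,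 A ⊓ Y.map (MulAut.conj g).toMonoidHom⁆ ∧ ⁅A ⊓ Y, A⁆ ≤ Y ⊓ Subgroup.center L ∧ Y ⊓ Y.map (MulAut.conj g).toMonoidHom = Y ⊓ Subgroup.center L ∧ (A ⊓ Y) ⊓ (A ⊓ Y.map (MulAut.conj g).toMonoidHom) = Y ⊓ Subgroup.center L ∧ A ⊓ Subgroup.center L = Y ⊓ Subgroup.center L := by
  have habY : ∀ a ∈ Y, ∀ b ∈ Y, a * b = b * a := by
    intro a ha b hb
    have := hYel.1.is_comm.comm (⟨a, ha⟩ : ↥Y) ⟨b, hb⟩
    exact congrArg Subtype.val this
  have hexY : ∀ a ∈ Y, a ^ p = 1 := hYel.2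
  have hYp : IsPGroup p ↥Y := isPGroup_of_exp hexY
  -- a Sylow subgroup of `L₀` containing `Y`
  obtain ⟨T, hT⟩ := (hYp.comap_subtype (K := L₀)).exists_le_sylow
  have hYT : Y ≤ (T : Subgroup ↥L₀).map L₀.subtype := by
    intro y hy
    exact ⟨⟨y, hYL₀ hy⟩, hT (by simpa [Subgroup.mem_subgroupOf] using hy), rfl⟩
  obtain ⟨-, -, -, -, h5, h6⟩ := Cfsg.Agent.S2835.result L₀ hL₀ T Y hYT hmin
  have htop := h5 g hg
  have hint := h6 hYel.1 g hg
  set Yg := Y.map (MulAut.conj g).toMonoidHom with hYg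
  have habYg : ∀ a ∈ Yg, ∀ b ∈ Yg, a * b = b * a := by
    rintro _ ⟨a, ha, rfl⟩ _ ⟨b, hb, rfl⟩
    rw [← map_mul, ← map_mul, habY a ha b hb]
  have hexYg : ∀ a ∈ Yg, a ^ p = 1 := by
    rintro _ ⟨a, ha, rfl⟩
    rw [← map_pow, hexY a ha, map_one]
  have hQYg : Cfsg.pCore p L ≤ Subgroup.normalizer (Yg : Set L) := by
    rw [hYg, normalizer_map_conj]
    intro q hq
    rw [mem_map_conj_iff]
    apply hOY
    have hn : (Cfsg.pCore p L).Normal := inferInstance
    have := hn.conj_mem q hq g⁻¹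
    simpa using this
  have hcen : Yg ⊓ Subgroup.center L ≤ Y := by
    rintro x ⟨⟨y, hy, hyx⟩, hxc⟩
    have h1 : x = g * y * g⁻¹ := by rw [← hyx]; simp
    have h2 : g * y = y * g := by
      have := (Subgroup.mem_center_iff.mp hxc) g
      rw [h1] at this
      have e : g * (g * y * g⁻¹) = g * y * g⁻¹ * g := this
      have : g * (g * y * g⁻¹) * g = g * y * g⁻¹ * g * g := by rw [e]
      have e2 : g * (g * y) = g * (y * g) := by
        calc g * (g * y) = g * (g * y * g⁻¹) * g := by group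
          _ = g * y * g⁻¹ * g * g := this
          _ = g * (y * g) := by group
      exact mul_left_cancel e2
    have h3 : x = y := by rw [h1, h2]; group
    rw [h3]; exact hy
  have hZgA : Cfsg.pCore p L ⊓ Yg ≤ A := by
    rintro x ⟨hxQ, ⟨y, hy, hyx⟩⟩
    have hn : (Cfsg.pCore p L).Normal := inferInstance
    have h1 : x = g * y * g⁻¹ := by rw [← hyx]; simp
    have hyQ : y ∈ Cfsg.pCore p L := by
      have := hn.conj_mem x hxQ g⁻¹
      rw [h1] at this
      simpa [mul_assoc] using this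
    have hyA : y ∈ A := by
      rw [hA]
      exact Subgroup.subset_normalClosure ⟨hyQ, hy⟩
    have hAn : A.Normal := by rw [hA]; exact Subgroup.normalClosure_normal
    rw [h1]
    exact hAn.conj_mem y hyA g
  have hYZQ : Y ⊓ Subgroup.center L ≤ Cfsg.pCore p L := by
    apply le_pCore
    · constructor
      intro n hn x
      have := (Subgroup.mem_center_iff.mp hn.2) x
      have e : x * n * x⁻¹ = n := by rw [this]; group
      rw [e]; exact hn
    · exact hYp.to_le inf_le_left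
  obtain ⟨r1, r2, r3, r4, r5, r6⟩ := structure_lemma (Cfsg.pCore p L) Y Yg A (pCore_isPGroup p L)
    habY habYg hexY hexYg hOY hQYg htop hint hcen hA hZgA hYZQ
  exact ⟨r1, r2, r3, r4, hint, r5, r6⟩

end Cfsg.Agent.S2837
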