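import Cfsg.Statements.S2839
import Mathlib
import Cfsg.Agent.S2840
import Cfsg.Agent.Lib.Helper34.PResidual
import Cfsg.Agent.Lib.Helper47.SylowLemmas
-- import your own Cfsg.Agent.* helpers here

set_option autoImplicit false
open Cfsg

namespace Cfsg.Agent.S2839

section Aux

open Cfsg.Agent.Lib.Helper85 Cfsg.Agent.Lib.Helper20 Cfsg.Agent.S2840

variable {G : Type*} [Group G]

theorem isWeaklyClosedSubgroup_of_wc {p : ℕ} [Fact p.Prime] {Q : Subgroup G} (hW : WC p Q)
    (hQp : IsPGroup p Q) : Cfsg.IsWeaklyClosedSubgroup p Q := by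
  obtain ⟨T, hQT⟩ := hQp.exists_le_sylow
  exact ⟨T, hQT, fun g hg => hW T T.2 hQT g hg⟩

/-- Sylow conjugation inside a subgroup `X` containing a Sylow subgroup of `G` -/
theorem exists_mem_conj_le_sylow [Finite G] {p : ℕ} [Fact p.Prime] (T : Sylow p G)
    {X : Subgroup G} (hTX : (T : Subgroup G) ≤ X) {R : Subgroup G} (hR : IsPGroup p R)
    (hRX : R ≤ X) : ∃ x ∈ X, R.map (MulAut.conj x).toMonoidHom ≤ T := by
  have hR' : IsPGroup p (R.subgroupOf X) := hR.comap_subtype
  obtain ⟨x, hx⟩ := exists_conj_le_sylow (T.subtype hTX) hR'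
  rw [Cfsg.Agent.S2848.subgroupOf_map_conj, Sylow.coe_subtype] at hx
  refine ⟨x, x.2, ?_⟩
  intro y hy
  have hyX : y ∈ X := by
    obtain ⟨z, hz, rfl⟩ := hy
    exact X.mul_mem (X.mul_mem x.2 (hRX hz)) (X.inv_mem x.2)
  have := hx (show (⟨y, hyX⟩ : ↥X) ∈ (R.map (MulAut.conj (x : G)).toMonoidHom).subgroupOf X from by
    rw [Subgroup.mem_subgroupOf]; exact hy)
  rw [Subgroup.mem_subgroupOf] at this
  exact this

theorem map_map_conj {G' : Type*} [Group G'] (f : G →* G') (A : Subgroup G) (g : G) :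
    (A.map f).map (MulAut.conj (f g)).toMonoidHom = (A.map (MulAut.conj g).toMonoidHom).map f := by
  rw [Subgroup.map_map, Subgroup.map_map]
  congr 1
  ext x
  simp

end Aux

open Cfsg.Agent.S2840 in
/-- Let Q be a nontrivial p-subgroup of the finite group H that is a weakly closed subgroup, K a subgroup containing Q and N a normal subgroup of H. Then Q is a weakly closed subgroup of K; every H-conjugate of Q contained in K is a K-conjugate of Q; N_K(Q) contains a Sylow p-subgroup of K; N = N_N(Q)·O^p(N); and QN/N is a weakly closed subgroup of H/N. -/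
theorem result {H : Type*} [Group H] [Finite H] {p : ℕ} [Fact p.Prime] (Q : Subgroup H) (hQp : IsPGroup p ↥Q) (hQ1 : Q ≠ ⊥) (hwc : Cfsg.IsWeaklyClosedSubgroup p Q) (K : Subgroup H) (hQK : Q ≤ K) (N' : Subgroup H) [N'.Normal] : Cfsg.IsWeaklyClosedSubgroup p (Q.subgroupOf K) ∧ (∀ g : H, ((Q : Subgroup H).map (MulAut.conj (g : H)).toMonoidHom) ≤ K → ∃ k ∈ K, ((Q : Subgroup H).map (MulAut.conj (g : H)).toMonoidHom) = ((Q : Subgroup H).map (MulAut.conj (k : H)).toMonoidHom)) ∧ Cfsg.IsParabolic p ((Subgroup.normalizer ((Q : Subgroup H) : Set H)).subgroupOf K) ∧ (N' ⊓ Subgroup.normalizer ((Q : Subgroup H) : Set H)) ⊔ (Cfsg.pResidual p ↥N').map N'.subtype = N' ∧ Cfsg.IsWeaklyClosedSubgroup p (Q.map (QuotientGroup.mk' N')) := by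
  have hW : WC p Q := wc_of_weaklyClosed hwc
  have hWK : WC p (Q.subgroupOf K) := wc_subgroupOf hW hQK
  have hQ'p : IsPGroup p (Q.subgroupOf K) := hQp.comap_subtype
  refine ⟨isWeaklyClosedSubgroup_of_wc hWK hQ'p, ?_, ?_, ?_, ?_⟩
  · intro g hg
    exact exists_conj_eq hW hQp hQK hg
  · obtain ⟨T, hT⟩ := hQ'p.exists_le_sylow
    refine ⟨T, ?_⟩
    rw [Subgroup.subgroupOf_normalizer_eq hQK]
    intro x hx
    rw [← Cfsg.Agent.Lib.Helper20.map_conj_eq_iff_mem_normalizer]
    apply hWK T T.2 hT x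
    calc (Q.subgroupOf K).map (MulAut.conj x).toMonoidHom
        ≤ (T : Subgroup ↥K).map (MulAut.conj x).toMonoidHom := Subgroup.map_mono hT
      _ = T := Cfsg.Agent.Lib.Helper20.map_conj_eq_of_mem hx
  · obtain ⟨T, hQT, hT⟩ := hwc
    have hTN : (T : Subgroup H) ≤ Subgroup.normalizer (Q : Set H) := by
      intro t ht
      rw [← Cfsg.Agent.Lib.Helper20.map_conj_eq_iff_mem_normalizer]
      apply hT t
      calc Q.map (MulAut.conj t).toMonoidHom
          ≤ (T : Subgroup H).map (MulAut.conj t).toMonoidHom := Subgroup.map_mono hQT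
        _ = T := Cfsg.Agent.Lib.Helper20.map_conj_eq_of_mem ht
    obtain ⟨P, hP⟩ := Cfsg.Agent.Lib.Helper47.exists_sylow_eq_subgroupOf_of_normal T N'
    have h1 := Cfsg.Agent.Lib.Helper34.pResidual_sup_eq_top p (P : Subgroup ↥N') P.not_dvd_index
    have h2 := congrArg (Subgroup.map N'.subtype) h1
    rw [Subgroup.map_sup, ← MonoidHom.range_eq_map, Subgroup.range_subtype] at h2
    apply le_antisymm
    · exact sup_le inf_le_left (Subgroup.map_subtype_le _)
    · have h3 : (P : Subgroup ↥N').map N'.subtype ≤ N' ⊓ Subgroup.normalizer (Q : Set H) := by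
        rw [hP]
        rintro _ ⟨y, hy, rfl⟩
        have hy' : (y : H) ∈ (T : Subgroup H) := Subgroup.mem_subgroupOf.mp hy
        exact ⟨y.2, hTN hy'⟩
      exact h2.symm.le.trans (sup_le le_sup_right (h3.trans le_sup_left))
  · obtain ⟨T, hQT, hT⟩ := hwc
    have hπ : Function.Surjective (QuotientGroup.mk' N') := QuotientGroup.mk'_surjective N'
    refine ⟨T.mapSurjective hπ, ?_, ?_⟩
    · rw [Sylow.coe_mapSurjective]
      exact Subgroup.map_mono hQT
    · intro g' hg'
      obtain ⟨g, rfl⟩ := hπ g'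
      rw [Sylow.coe_mapSurjective, map_map_conj, Subgroup.map_le_map_iff, QuotientGroup.ker_mk'] at hg'
      rw [map_map_conj]
      obtain ⟨x, hx, hxT⟩ := exists_mem_conj_le_sylow T le_sup_left
        (Cfsg.Agent.Lib.Helper20.isPGroup_map_conj hQp g) hg'
      obtain ⟨t, ht, n, hn, rfl⟩ := Subgroup.mem_sup_of_normal_right.mp hx
      rw [Cfsg.Agent.Lib.Helper85.map_conj_map_conj] at hxT
      have h1 : Q.map (MulAut.conj (n * g)).toMonoidHom ≤ T := by
        have h2 := Cfsg.Agent.Lib.Helper85.map_conj_mono hxT t⁻¹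
        rw [Cfsg.Agent.Lib.Helper85.map_conj_map_conj,
          Cfsg.Agent.Lib.Helper20.map_conj_eq_of_mem ((T : Subgroup H).inv_mem ht)] at h2
        have h3 : t⁻¹ * (t * n * g) = n * g := by group
        rwa [h3] at h2
      have h4 := hT (n * g) h1
      have h5 : (Q.map (MulAut.conj (n * g)).toMonoidHom).map (QuotientGroup.mk' N') =
          (Q.map (MulAut.conj g).toMonoidHom).map (QuotientGroup.mk' N') := by
        rw [← Cfsg.Agent.Lib.Helper85.map_conj_map_conj, ← map_map_conj]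
        have h6 : (QuotientGroup.mk' N') n = 1 := by
          rw [← MonoidHom.mem_ker, QuotientGroup.ker_mk']; exact hn
        rw [h6, Cfsg.Agent.Lib.Helper20.map_conj_one]
      rw [← h5, h4]

end Cfsg.Agent.S2839
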