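import Cfsg.Statements.S2841
-- import your own Cfsg.Agent.* helpers here
import Cfsg.Agent.Lib.Helper47.WeaklyClosed
import Cfsg.Agent.Lib.Helper47.PClosed

set_option autoImplicit false
open Cfsg

namespace Cfsg.Agent.S2841

open Cfsg.Agent.Lib.Helper47
open scoped commutatorElement Pointwise

variable {H : Type*} [Group H]

/-- For `n ∈ N'` (normal), `Q^n = Q^c` for some `c ∈ [N', Q]`, when `Q` is weakly closed. -/
theorem exists_commutator_conj [Finite H] {p : ℕ} [Fact p.Prime] {Q : Subgroup H} (T : Sylow p H)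
    (hwc : Cfsg.IsWeaklyClosed Q (T : Subgroup H)) (N' : Subgroup H) [N'.Normal] {n : H}
    (hn : n ∈ N') :
    ∃ c ∈ ⁅N', Q⁆, Q.map (MulAut.conj n).toMonoidHom = Q.map (MulAut.conj c).toMonoidHom := by
  have hQW : Q ≤ Subgroup.normalizer ((⁅N', Q⁆ : Subgroup H) : Set H) :=
    Subgroup.normalizer_commutator_ge_right N' Q
  have hQX : Q ≤ ⁅N', Q⁆ ⊔ Q := le_sup_right
  have hg : Q.map (MulAut.conj n).toMonoidHom ≤ ⁅N', Q⁆ ⊔ Q := by
    rintro _ ⟨q, hq, rfl⟩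
    have h1 : (MulAut.conj n).toMonoidHom q = ⁅n, q⁆ * q := by simp [commutatorElement_def]
    rw [h1]
    exact Subgroup.mul_mem _ (Subgroup.mem_sup_left (Subgroup.commutator_mem_commutator hn hq))
      (Subgroup.mem_sup_right hq)
  obtain ⟨x, hx, hxeq⟩ := exists_conj_eq_of_isWeaklyClosed T hwc hQX hg
  have hx' : x ∈ ((⁅N', Q⁆ ⊔ Q : Subgroup H) : Set H) := hx
  rw [Subgroup.coe_mul_of_right_le_normalizer_left _ _ hQW] at hx'
  obtain ⟨c, hc, q, hq, rfl⟩ := hx'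
  refine ⟨c, hc, ?_⟩
  rw [hxeq, ← map_conj_map_conj]
  congr 1
  exact map_conj_eq_of_mem_normalizer (Subgroup.le_normalizer hq)

/-- Let Q be a nontrivial p-subgroup of the finite group H that is a weakly closed subgroup and N a normal subgroup of H. Then N = N_N(Q)·[N, Q] and [N, Q] = (Q ∩ [N, Q])·[N, Q, Q]. -/
theorem result {H : Type*} [Group H] [Finite H] {p : ℕ} [Fact p.Prime] (Q : Subgroup H) (hQp : IsPGroup p ↥Q) (hQ1 : Q ≠ ⊥) (hwc : Cfsg.IsWeaklyClosedSubgroup p Q) (N' : Subgroup H) [N'.Normal] : (∀ n : H, n ∈ N' → ∃ a ∈ N' ⊓ Subgroup.normalizer ((Q : Subgroup H) : Set H), ∃ b ∈ ⁅N', Q⁆, n = a * b) ∧ (∀ c : H, c ∈ ⁅N', Q⁆ → ∃ a ∈ Q ⊓ ⁅N', Q⁆, ∃ b ∈ ⁅⁅N', Q⁆, Q⁆, c = a * b) := by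
  obtain ⟨T, hT⟩ := hwc
  have hN₁N : ⁅N', Q⁆ ≤ N' := Subgroup.commutator_le_left N' Q
  constructor
  · intro n hn
    obtain ⟨c, hc, hceq⟩ := exists_commutator_conj T hT N' (N'.inv_mem hn)
    -- `c⁻¹ n⁻¹ ∈ N(Q)`
    have h1 : c⁻¹ * n⁻¹ ∈ Subgroup.normalizer ((Q : Subgroup H) : Set H) := by
      rw [Subgroup.mem_normalizer_iff_map_conj_eq]
      show Q.map (MulAut.conj (c⁻¹ * n⁻¹)).toMonoidHom = Q
      rw [← map_conj_map_conj, hceq, map_conj_map_conj, inv_mul_cancel, map_conj_one]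
    refine ⟨(c⁻¹ * n⁻¹)⁻¹, Subgroup.mem_inf.mpr ⟨?_, Subgroup.inv_mem _ h1⟩, c⁻¹,
      Subgroup.inv_mem _ hc, by group⟩
    exact N'.inv_mem (N'.mul_mem (N'.inv_mem (hN₁N hc)) (N'.inv_mem hn))
  · -- `[N', Q] ≤ Q ⊔ [[N', Q], Q]`
    set N₁ := ⁅N', Q⁆ with hN₁
    set N₂ := ⁅N₁, Q⁆ with hN₂
    have hQN₂ : Q ≤ Subgroup.normalizer ((N₂ : Subgroup H) : Set H) :=
      Subgroup.normalizer_commutator_ge_right N₁ Q
    have hle : N₁ ≤ Q ⊔ N₂ := by
      rw [hN₁, Subgroup.commutator_le]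
      intro n hn q hq
      obtain ⟨c, hc, hceq⟩ := exists_commutator_conj T hT N' hn
      have h1 : n * q * n⁻¹ ∈ Q.map (MulAut.conj c).toMonoidHom := by
        rw [← hceq]; exact conj_mem_map_conj hq
      obtain ⟨q', hq', hq'eq⟩ := h1
      have h2 : n * q * n⁻¹ = ⁅c, q'⁆ * q' := by
        rw [← hq'eq]; simp [commutatorElement_def]
      have h3 : ⁅n, q⁆ = (n * q * n⁻¹) * q⁻¹ := by simp [commutatorElement_def]
      rw [h3, h2]
      refine Subgroup.mul_mem _ (Subgroup.mul_mem _ (Subgroup.mem_sup_right ?_)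
        (Subgroup.mem_sup_left hq')) (Subgroup.mem_sup_left (Q.inv_mem hq))
      exact Subgroup.commutator_mem_commutator hc hq'
    intro c hc
    have hc' : c ∈ ((Q ⊔ N₂ : Subgroup H) : Set H) := hle hc
    rw [Subgroup.coe_mul_of_left_le_normalizer_right _ _ hQN₂] at hc'
    obtain ⟨a, ha, b, hb, rfl⟩ := hc'
    have hN₂N₁ : N₂ ≤ N₁ := by
      rw [hN₂]
      exact Subgroup.le_normalizer_iff_commutator_le_left.mp
        (Subgroup.normalizer_commutator_ge_right N' Q)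
    refine ⟨a, Subgroup.mem_inf.mpr ⟨ha, ?_⟩, b, hb, rfl⟩
    have : a = (a * b) * b⁻¹ := by group
    rw [this]
    exact Subgroup.mul_mem _ hc (Subgroup.inv_mem _ (hN₂N₁ hb))

end Cfsg.Agent.S2841
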