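import Cfsg.Statements.S2843
-- import your own Cfsg.Agent.* helpers here
import Cfsg.Agent.Lib.Helper47.Large
import Cfsg.Agent.Lib.Helper47.Subnormal

set_option autoImplicit false
open Cfsg

namespace Cfsg.Agent.S2843

open Cfsg.Agent.Lib.Helper47
open scoped commutatorElement Pointwise

/-- Let Q be a nontrivial large p-subgroup of the finite group H, Q ≤ L ≤ H, and Y a nontrivial p-subgroup of H normalized by L. Let L° be the weak closure of Q in L (generated by the conjugates of Q inside L). Then L° equals the weak closure of Q in L·C_H(Y), and [L°, C_H(Y)] ≤ O_p(L°); in particular C_H(Y) normalizes L°. -/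
theorem result {H : Type*} [Group H] [Finite H] {p : ℕ} [Fact p.Prime] (Q : Subgroup H) (hQp : IsPGroup p ↥Q) (hQ1 : Q ≠ ⊥) (hL : Cfsg.IsLarge Q) (L : Subgroup H) (hQL : Q ≤ L) (Y : Subgroup H) (hYp : IsPGroup p ↥Y) (hY1 : Y ≠ ⊥) (hLY : L ≤ Subgroup.normalizer ((Y : Subgroup H) : Set H)) : Cfsg.weakClosure Q L = Cfsg.weakClosure Q (L ⊔ Subgroup.centralizer ((Y : Subgroup H) : Set H)) ∧ ⁅Cfsg.weakClosure Q L, Subgroup.centralizer ((Y : Subgroup H) : Set H)⁆ ≤ (Cfsg.pCoreOf p (Cfsg.weakClosure Q L)) ∧ Subgroup.centralizer ((Y : Subgroup H) : Set H) ≤ Subgroup.normalizer (((Cfsg.weakClosure Q L) : Subgroup H) : Set H) := by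
  set C := Subgroup.centralizer ((Y : Subgroup H) : Set H) with hC
  -- `C` normalizes every conjugate of `Q` inside `L`
  have hA : ∀ g : H, Q.map (MulAut.conj g).toMonoidHom ≤ L →
      C ≤ Subgroup.normalizer ((Q.map (MulAut.conj g).toMonoidHom : Subgroup H) : Set H) := by
    intro g hg
    exact centralizer_le_normalizer_of_isLarge (isLarge_map_conj hL g) (hQp.map _) hYp hY1
      (hg.trans hLY)
  have hCQ : C ≤ Subgroup.normalizer (Q : Set H) := by
    have := hA 1 (by rw [map_conj_one]; exact hQL)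
    rwa [map_conj_one] at this
  have hLC : L ≤ Subgroup.normalizer (C : Set H) :=
    hLY.trans (normalizer_le_normalizer_centralizer Y)
  set L₀ := Cfsg.weakClosure Q L with hL₀
  have hL₀L : L₀ ≤ L := by
    rw [hL₀]
    unfold Cfsg.weakClosure
    exact iSup_le (fun g => g.2)
  have hterm : ∀ g : H, Q.map (MulAut.conj g).toMonoidHom ≤ L →
      Q.map (MulAut.conj g).toMonoidHom ≤ L₀ := by
    intro g hg
    rw [hL₀]
    unfold Cfsg.weakClosure
    exact le_iSup_of_le ⟨g, hg⟩ le_rfl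
  -- (3)
  have h3 : C ≤ Subgroup.normalizer ((L₀ : Subgroup H) : Set H) := by
    intro c hc
    rw [Subgroup.mem_normalizer_iff_map_conj_eq]
    show L₀.map (MulAut.conj c).toMonoidHom = L₀
    rw [hL₀]
    unfold Cfsg.weakClosure
    rw [Subgroup.map_iSup]
    congr 1
    funext g
    exact map_conj_eq_of_mem_normalizer (hA g.1 g.2 hc)
  refine ⟨?_, ?_, h3⟩
  · -- (1)
    apply le_antisymm
    · unfold Cfsg.weakClosure
      apply iSup_le
      intro g
      exact le_iSup_of_le ⟨g.1, g.2.trans le_sup_left⟩ le_rfl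
    · unfold Cfsg.weakClosure
      apply iSup_le
      rintro ⟨g, hg⟩
      obtain ⟨S, hS⟩ := hQp.exists_le_sylow
      have hwc := isWeaklyClosed_of_isLarge hL hQ1 S hS
      obtain ⟨x, hx, hxeq⟩ := exists_conj_eq_of_isWeaklyClosed S hwc (hQL.trans le_sup_left) hg
      have hx' : x ∈ ((L ⊔ C : Subgroup H) : Set H) := hx
      rw [Subgroup.coe_mul_of_left_le_normalizer_right _ _ hLC] at hx'
      obtain ⟨l, hl, c, hc, rfl⟩ := hx'
      have h1 : Q.map (MulAut.conj (l * c)).toMonoidHom = Q.map (MulAut.conj l).toMonoidHom := by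
        rw [← map_conj_map_conj, map_conj_eq_of_mem_normalizer (hCQ hc)]
      have h2 : Q.map (MulAut.conj l).toMonoidHom ≤ L := by
        rintro _ ⟨q, hq, rfl⟩
        exact L.mul_mem (L.mul_mem hl (hQL hq)) (L.inv_mem hl)
      show Q.map (MulAut.conj g).toMonoidHom ≤ _
      rw [hxeq, h1]
      exact le_iSup_of_le ⟨l, h2⟩ le_rfl
  · -- (2)
    set O := Cfsg.pCoreOf p L₀ with hO
    have hL₀O : L₀ ≤ Subgroup.normalizer (O : Set H) :=
      Subgroup.le_normalizer.trans (normalizer_le_normalizer_pCoreOf p L₀)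
    -- `C₀ = L₀ ∩ C` is normalized by `L₀`
    have hL₀C₀ : L₀ ≤ Subgroup.normalizer ((L₀ ⊓ C : Subgroup H) : Set H) := by
      intro x hx
      rw [Subgroup.mem_normalizer_iff]
      intro u
      have h1 := Subgroup.mem_normalizer_iff.mp (Subgroup.le_normalizer hx : x ∈ Subgroup.normalizer (L₀ : Set H)) u
      have h2 := Subgroup.mem_normalizer_iff.mp (hLC (hL₀L hx)) u
      rw [Subgroup.mem_inf, Subgroup.mem_inf, h1, h2]
    have hOC₀ : Cfsg.pCoreOf p (L₀ ⊓ C) ≤ O := by
      apply le_pCoreOf ((pCoreOf_le p _).trans inf_le_left)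
        (hL₀C₀.trans (normalizer_le_normalizer_pCoreOf p _)) (pCoreOf_isPGroup p _)
    -- each `[Q^g, C] ≤ O`
    have hcomm : ∀ g : H, Q.map (MulAut.conj g).toMonoidHom ≤ L →
        ⁅Q.map (MulAut.conj g).toMonoidHom, C⁆ ≤ O := by
      intro g hg
      have h1 : ⁅Q.map (MulAut.conj g).toMonoidHom, C⁆ ≤ Q.map (MulAut.conj g).toMonoidHom :=
        Subgroup.le_normalizer_iff_commutator_le_left.mp (hA g hg)
      have h2 : ⁅Q.map (MulAut.conj g).toMonoidHom, C⁆ ≤ C :=
        Subgroup.le_normalizer_iff_commutator_le_right.mp (hg.trans hLC)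
      have h4 : ⁅Q.map (MulAut.conj g).toMonoidHom, C⁆ ≤ L₀ ⊓ C := le_inf (h1.trans (hterm g hg)) h2
      have h5 : L₀ ⊓ C ≤ Subgroup.normalizer
          ((⁅Q.map (MulAut.conj g).toMonoidHom, C⁆ : Subgroup H) : Set H) :=
        inf_le_right.trans (Subgroup.normalizer_commutator_ge_right _ C)
      exact (le_pCoreOf h4 h5 ((hQp.map _).to_le h1)).trans hOC₀
    -- stabilizer subgroup
    let St : Subgroup H :=
      { carrier := {x | x ∈ Subgroup.normalizer (O : Set H) ∧ ∀ c ∈ C, ⁅x, c⁆ ∈ O}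
        one_mem' := ⟨Subgroup.one_mem _, fun c _ => by
          rw [commutatorElement_one_left]; exact Subgroup.one_mem _⟩
        mul_mem' := by
          rintro a b ⟨ha1, ha2⟩ ⟨hb1, hb2⟩
          refine ⟨Subgroup.mul_mem _ ha1 hb1, fun c hc => ?_⟩
          have h1 : ⁅a * b, c⁆ = a * ⁅b, c⁆ * a⁻¹ * ⁅a, c⁆ := by
            simp [commutatorElement_def, mul_assoc]
          rw [h1]
          exact Subgroup.mul_mem _ ((Subgroup.mem_normalizer_iff.mp ha1 _).mp (hb2 c hc)) (ha2 c hc)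
        inv_mem' := by
          rintro a ⟨ha1, ha2⟩
          refine ⟨Subgroup.inv_mem _ ha1, fun c hc => ?_⟩
          have h1 : ⁅a⁻¹, c⁆ = a⁻¹ * (⁅a, c⁆)⁻¹ * a⁻¹⁻¹ := by
            simp [commutatorElement_def, mul_assoc]
          rw [h1]
          exact (Subgroup.mem_normalizer_iff.mp (Subgroup.inv_mem _ ha1) _).mp
            (Subgroup.inv_mem _ (ha2 c hc)) }
    have hSt : L₀ ≤ St := by
      conv_lhs => rw [hL₀]
      unfold Cfsg.weakClosure
      apply iSup_le
      rintro ⟨g, hg⟩ x hx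
      exact ⟨hL₀O (hterm g hg hx), fun c hc => hcomm g hg (Subgroup.commutator_mem_commutator hx hc)⟩
    rw [Subgroup.commutator_le]
    intro x hx c hc
    exact (hSt hx).2 c hc

end Cfsg.Agent.S2843
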