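import Cfsg.Statements.S2846
-- import your own Cfsg.Agent.* helpers here
import Cfsg.Agent.Lib.Helper47.BasicProperty2
import Cfsg.Agent.S2845
import Cfsg.Agent.S2843
import Cfsg.Agent.S2842

set_option autoImplicit false
open Cfsg

namespace Cfsg.Agent.S2846

open Cfsg.Agent.Lib.Helper47

theorem weakClosure_mono {H : Type*} [Group H] (Q : Subgroup H) {A B : Subgroup H} (h : A ≤ B) :
    Cfsg.weakClosure Q A ≤ Cfsg.weakClosure Q B := by
  unfold Cfsg.weakClosure
  apply iSup_le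
  rintro ⟨g, hg⟩
  exact le_iSup (fun g : {g : H // Q.map (MulAut.conj g).toMonoidHom ≤ B} =>
    Q.map (MulAut.conj (g : H)).toMonoidHom) ⟨g, hg.trans h⟩

/-- If `Q` is a weakly closed `p`-subgroup normal in `X`, the weak closure of `Q` in `X` is `Q`. -/
theorem weakClosure_eq_of_le_normalizer {H : Type*} [Group H] [Finite H] {p : ℕ} [Fact p.Prime]
    {Q : Subgroup H} (hQp : IsPGroup p ↥Q) (hwc : Cfsg.IsWeaklyClosedSubgroup p Q) {X : Subgroup H}
    (hX : X ≤ Subgroup.normalizer ((Q : Subgroup H) : Set H)) : Cfsg.weakClosure Q X ≤ Q := by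
  unfold Cfsg.weakClosure
  apply iSup_le
  rintro ⟨g, hg⟩
  have hn : Q.map (MulAut.conj g).toMonoidHom ≤ Subgroup.normalizer ((Q : Subgroup H) : Set H) :=
    hg.trans hX
  have hpg : IsPGroup p ↥(Q.map (MulAut.conj g).toMonoidHom ⊔ Q : Subgroup H) :=
    IsPGroup.to_sup_of_normal_right' (hQp.map _) hQp hn
  have := Cfsg.Agent.S2842.conj_eq_of_weaklyClosed_of_le_pgroup hwc hpg le_sup_right
    (d := g) le_sup_left
  exact le_of_eq this

/-- If the weak closure of `Q` in `X ≥ Q` is `Q`, then `Q` is normal in `X`. -/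
theorem le_normalizer_of_weakClosure_le {H : Type*} [Group H] [Finite H] {Q X : Subgroup H}
    (hQX : Q ≤ X) (h : Cfsg.weakClosure Q X ≤ Q) :
    X ≤ Subgroup.normalizer ((Q : Subgroup H) : Set H) := by
  apply le_normalizer_of_forall_map_conj_le
  intro x hx
  refine le_trans ?_ h
  unfold Cfsg.weakClosure
  have hle : Q.map (MulAut.conj x).toMonoidHom ≤ X := by
    rintro _ ⟨q, hq, rfl⟩
    exact X.mul_mem (X.mul_mem hx (hQX hq)) (X.inv_mem hx)
  exact le_iSup (fun g : {g : H // Q.map (MulAut.conj g).toMonoidHom ≤ X} =>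
    Q.map (MulAut.conj (g : H)).toMonoidHom) ⟨x, hle⟩

/-- Let Q be a nontrivial large p-subgroup of the finite group H, S a Sylow p-subgroup containing Q, and L a subgroup containing S with O_p(L) ≠ 1 and C_H(O_p(L)) ≤ O_p(L). Then there are a subgroup M containing S having the basic property (M ∈ 𝔐_H, writing Y_X for the largest p-reduced normal subgroup of X and 𝓛_H for the set of subgroups X with O_p(X) ≠ 1 and C_H(O_p(X)) ≤ O_p(X): M ∈ 𝓛_H, M·C_H(Y_M) is the only maximal member of 𝓛_H containing M and its largest p-reduced normal subgroup is again Y_M, C_M(Y_M) is p-closed, and the image of C_M(Y_M) in M/O_p(M) lies in the Frattini subgroup of M/O_p(M)) and a subgroup L* with S ≤ L* ≤ M, O_p(L*) ≠ 1, C_H(O_p(L*)) ≤ O_p(L*), such that L·C_H(Y_L) = L*·C_H(Y_L), the weak closures of Q in L and in L* agree and lie in that of M, and Y_L = Y_{L*} ≤ Y_M. If moreover Q is not normal in L, then Q is normal in neither L* nor M. -/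
theorem result {H : Type*} [Group H] [Finite H] {p : ℕ} [Fact p.Prime] (Q : Subgroup H) (hQp : IsPGroup p ↥Q) (hQ1 : Q ≠ ⊥) (hLg : Cfsg.IsLarge Q) (S : Sylow p H) (hQS : Q ≤ (S : Subgroup H)) (L : Subgroup H) (hSL : (S : Subgroup H) ≤ L) (hL : L ∈ Cfsg.charPSubgroups p H) : ∃ M Ls : Subgroup H, (S : Subgroup H) ≤ M ∧ Cfsg.IsInFrakM p M ∧ (S : Subgroup H) ≤ Ls ∧ Ls ≤ M ∧ Ls ∈ Cfsg.charPSubgroups p H ∧ L ⊔ Subgroup.centralizer (((Cfsg.largestPReducedOf p L) : Subgroup H) : Set H) = Ls ⊔ Subgroup.centralizer (((Cfsg.largestPReducedOf p L) : Subgroup H) : Set H) ∧ Cfsg.weakClosure Q L = Cfsg.weakClosure Q Ls ∧ Cfsg.weakClosure Q Ls ≤ Cfsg.weakClosure Q M ∧ (Cfsg.largestPReducedOf p L) = (Cfsg.largestPReducedOf p Ls) ∧ (Cfsg.largestPReducedOf p Ls) ≤ (Cfsg.largestPReducedOf p M) ∧ (¬ L ≤ Subgroup.normalizer ((Q : Subgroup H) : Set H) → ¬ Ls ≤ Subgroup.normalizer ((Q : Subgroup H) : Set H) ∧ ¬ M ≤ Subgroup.normalizer ((Q : Subgroup H) :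 Set H)) := by
  classical
  obtain ⟨_, _, hpar⟩ := Cfsg.Agent.S2845.result Q hQp hQ1 hLg
  obtain ⟨M, Ls, hSM, hfrak, hSLs, hLsM, hLs𝓛, hY1, hY2, hfac⟩ := exists_frakM hpar S L hSL hL
  have hQL : Q ≤ L := hQS.trans hSL
  have hQLs : Q ≤ Ls := hQS.trans hSLs
  have hS1 : (S : Subgroup H) ≠ ⊥ := sylow_ne_bot_of_mem_charPSubgroups S hSL hL
  have hLc := charP_of_mem_charPSubgroups hL
  set YL := Cfsg.largestPReducedOf p L with hYL
  have hYL1 : YL ≠ ⊥ := largestPReducedOf_ne_bot S hSL hLc hS1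
  have hYLp : IsPGroup p ↥YL :=
    IsElementaryAbelian.isPGroup (isElementaryAbelian_largestPReducedOf p L)
  have hLN : L ≤ Subgroup.normalizer ((YL : Subgroup H) : Set H) :=
    le_normalizer_largestPReducedOf p L
  have hLsN : Ls ≤ Subgroup.normalizer ((YL : Subgroup H) : Set H) := by
    rw [hY1]
    exact le_normalizer_largestPReducedOf p Ls
  have hw1 := (Cfsg.Agent.S2843.result Q hQp hQ1 hLg L hQL YL hYLp hYL1 hLN).1
  have hw2 := (Cfsg.Agent.S2843.result Q hQp hQ1 hLg Ls hQLs YL hYLp hYL1 hLsN).1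
  have hweq : Cfsg.weakClosure Q L = Cfsg.weakClosure Q Ls := by
    rw [hw1, hw2, hfac]
  have hwc : Cfsg.IsWeaklyClosedSubgroup p Q := ⟨S, isWeaklyClosed_of_isLarge hLg hQ1 S hQS⟩
  refine ⟨M, Ls, hSM, hfrak, hSLs, hLsM, hLs𝓛, hfac, hweq, weakClosure_mono Q hLsM, hY1, ?_, ?_⟩
  · rw [← hY1]
    exact hY2
  · intro hLnQ
    have h1 : ¬ Ls ≤ Subgroup.normalizer ((Q : Subgroup H) : Set H) := by
      intro hLsQ
      apply hLnQ
      apply le_normalizer_of_weakClosure_le hQL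
      rw [hweq]
      exact weakClosure_eq_of_le_normalizer hQp hwc hLsQ
    exact ⟨h1, fun hMQ => h1 (hLsM.trans hMQ)⟩

end Cfsg.Agent.S2846
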