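import Cfsg.Statements.S2850
-- import your own Cfsg.Agent.* helpers here
import Mathlib
import Cfsg.Agent.Lib.Helper47.Asym
import Cfsg.Agent.S2845

set_option autoImplicit false
open Cfsg

namespace Cfsg.Agent.S2850

open Cfsg.Agent.Lib.Helper47

/-- Standing hypotheses: G a finite group, S a Sylow p-subgroup, Q a nontrivial large p-subgroup of G contained in S (C_G(Q) ≤ Q and N_G(U) ≤ N_G(Q) for all nontrivial U ≤ C_G(Q)), and M a subgroup containing S with the basic property (M ∈ 𝔐_G(S)); Y_M denotes the largest p-reduced normal subgroup of M and M† = M·C_G(Y_M). Suppose Y_M is asymmetric in G. Then N_G(L) ≤ N_G(O_p(M)) ≤ M† for every p-subgroup L containing O_p(M); O_p(M) is a weakly closed subgroup of G; for every subgroup L containing O_p(M), L ∩ M† contains a Sylow p-subgroup of L; and two elements of Y_M conjugate in G are conjugate in M. -/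
theorem result {G : Type*} [Group G] [Finite G] {p : ℕ} [Fact p.Prime] (S : Sylow p G) (Q : Subgroup G) (hQp : IsPGroup p ↥Q) (hQ1 : Q ≠ ⊥) (hQS : Q ≤ (S : Subgroup G)) (hQ : Cfsg.IsLarge Q) (M : Subgroup G) (hSM : (S : Subgroup G) ≤ M) (hM : Cfsg.IsInFrakM p M) (hasym : ¬ Cfsg.IsSymmetricIn (Cfsg.largestPReducedOf p M)) : (∀ L : Subgroup G, IsPGroup p ↥L → (Cfsg.pCoreOf p M) ≤ L → Subgroup.normalizer ((L : Subgroup G) : Set G) ≤ Subgroup.normalizer (((Cfsg.pCoreOf p M) : Subgroup G) : Set G) ∧ Subgroup.normalizer (((Cfsg.pCoreOf p M) : Subgroup G) : Set G) ≤ (M ⊔ Subgroup.centralizer (((Cfsg.largestPReducedOf p M) : Subgroup G) : Set G))) ∧ Cfsg.IsWeaklyClosedSubgroup p (Cfsg.pCoreOf p M) ∧ (∀ L : Subgroup G, (Cfsg.pCoreOf p M) ≤ L → Cfsg.IsParabolic p ((L ⊓ (M ⊔ Subgroup.centralizer (((Cfsg.largestPReducedOf p M) : Subgroup G) : Set G))).subgroupOf L)) ∧ (∀ x ∈ (Cfsg.largestPReducedOf p M), ∀ g : G, g * x * g⁻¹ ∈ (Cfsg.largestPReducedOf p M) → ∃ m ∈ M, m *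 x * m⁻¹ = g * x * g⁻¹) := by
  classical
  obtain ⟨hM1, hM2, hM3, _, hcl, _⟩ := hM
  set Y : Subgroup G := Cfsg.largestPReducedOf p M with hY
  set D : Subgroup G := Subgroup.centralizer (Y : Set G) with hD
  set P : Subgroup G := Cfsg.pCoreOf p M with hP
  have hS1 : (S : Subgroup G) ≠ ⊥ := fun h => hQ1 (le_bot_iff.mp (h ▸ hQS))
  have hMY : M ≤ Subgroup.normalizer (Y : Set G) := le_normalizer_largestPReducedOf p M
  have hMD : M ≤ Subgroup.normalizer (D : Set G) :=
    hMY.trans (normalizer_le_normalizer_centralizer Y)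
  have hMP : M ≤ Subgroup.normalizer (P : Set G) :=
    Subgroup.le_normalizer.trans (normalizer_le_normalizer_pCoreOf p M)
  -- `S ∩ C_G(Y) ≤ O_p(M)`
  have hSD : (S : Subgroup G) ⊓ D ≤ P := by
    set E : Subgroup G := M ⊓ D with hE
    have hSDE : (S : Subgroup G) ⊓ D ≤ E := inf_le_inf_right D hSM
    have hSDp : IsPGroup p ↥((S : Subgroup G) ⊓ D : Subgroup G) := S.isPGroup'.to_le inf_le_left
    have hp' : IsPGroup p ↥(((S : Subgroup G) ⊓ D).subgroupOf E) := hSDp.comap_subtype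
    obtain ⟨T, hT⟩ := hp'.exists_le_sylow
    have hTn : (T : Subgroup ↥E).Normal := hcl T
    have hTcore : (T : Subgroup ↥E) ≤ Cfsg.pCore p ↥E :=
      le_sSup (show (T : Subgroup ↥E) ∈ {N : Subgroup ↥E | N.Normal ∧ IsPGroup p ↥N} from
        ⟨hTn, T.isPGroup'⟩)
    have h1 : (S : Subgroup G) ⊓ D ≤ Cfsg.pCoreOf p E := by
      intro x hx
      exact ⟨⟨x, hSDE hx⟩, hTcore (hT (by rw [Subgroup.mem_subgroupOf]; exact hx)), rfl⟩
    have hME : M ≤ Subgroup.normalizer (E : Set G) := by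
      intro m hm
      rw [Subgroup.mem_normalizer_iff_map_conj_eq]
      show E.map (MulAut.conj m).toMonoidHom = E
      rw [hE, Subgroup.map_inf _ _ _ (MulAut.conj m).injective,
        map_conj_eq_of_mem_normalizer (Subgroup.le_normalizer hm),
        map_conj_eq_of_mem_normalizer (hMD hm)]
    have h2 : Cfsg.pCoreOf p E ≤ P :=
      le_pCoreOf ((pCoreOf_le p E).trans inf_le_left)
        (hME.trans (normalizer_le_normalizer_pCoreOf p E)) (pCoreOf_isPGroup p E)
    exact h1.trans h2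
  have hA : AsymData p S M Y P :=
    { hG := (Cfsg.Agent.S2845.result Q hQp hQ1 hQ).2.2
      hSM := hSM
      hPS := pCoreOf_le_sylow_of_le S hSM
      hYP := largestPReducedOf_le_pCoreOf p M
      hY1 := largestPReducedOf_ne_bot S hSM (charP_of_mem_charPSubgroups hM1) hS1
      hMY := hMY
      hMP := hMP
      hSD := hSD
      hPD := pCoreOf_le_centralizer_largestPReducedOf p M
      hmax := by
        intro K hK hMK
        obtain ⟨X, hX, hKX⟩ := exists_le_mem_maxCharPSubgroups hK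
        have := hM3 X hX (hMK.trans hKX)
        rw [this] at hKX
        exact hKX
      hdag := hM2.1
      hasym := hasym }
  exact ⟨fun L hLp hPL => ⟨hA.normalizer_le hLp hPL, hA.normalizer_P_le⟩, ⟨S, hA.isWeaklyClosed⟩,
    fun L hPL => hA.isParabolic hPL, fun x hx g hgx => hA.fusion hx hgx⟩

end Cfsg.Agent.S2850
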