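import Cfsg.Statements.S2851
-- import your own Cfsg.Agent.* helpers here
import Mathlib
import Cfsg.Agent.Lib.Helper47.AsymFStar

set_option autoImplicit false
open Cfsg

namespace Cfsg.Agent.S2851

open Cfsg.Agent.Lib.Helper47

/-- Standing hypotheses: G a finite group, S a Sylow p-subgroup, Q a nontrivial large p-subgroup of G contained in S, M a subgroup containing S with the basic property (M ∈ 𝔐_G(S)); Y_M the largest p-reduced normal subgroup of M and M† = M·C_G(Y_M). Let F be the preimage in M† of the generalized Fitting subgroup of M†/C_{M†}(Y_M). If Y_M is asymmetric in G and H is a subgroup of characteristic p containing F, then Y_M ≤ Y_H. -/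
theorem result {G : Type*} [Group G] [Finite G] {p : ℕ} [Fact p.Prime] (S : Sylow p G) (Q : Subgroup G) (hQp : IsPGroup p ↥Q) (hQ1 : Q ≠ ⊥) (hQS : Q ≤ (S : Subgroup G)) (hQ : Cfsg.IsLarge Q) (M : Subgroup G) (hSM : (S : Subgroup G) ≤ M) (hM : Cfsg.IsInFrakM p M) (hasym : ¬ Cfsg.IsSymmetricIn (Cfsg.largestPReducedOf p M)) [hn : ((Subgroup.centralizer (((Cfsg.largestPReducedOf p M) : Subgroup G) : Set G)).subgroupOf (M ⊔ Subgroup.centralizer (((Cfsg.largestPReducedOf p M) : Subgroup G) : Set G))).Normal] (F : Subgroup G) (hF : F = ((Cfsg.generalizedFittingSubgroup (↥(M ⊔ Subgroup.centralizer (((Cfsg.largestPReducedOf p M) : Subgroup G) : Set G)) ⧸ (Subgroup.centralizer (((Cfsg.largestPReducedOf p M) : Subgroup G) : Set G)).subgroupOf (M ⊔ Subgroup.centralizer (((Cfsg.largestPReducedOf p M) : Subgroup G) : Set G)))).comap (QuotientGroup.mk' ((Subgroup.centralizer (((Cfsg.largestPReducedOf p M) : Subgroup G) : Set G)).subgroupOf (M ⊔ Subgroup.centralizer (((Cfsg.largestPReducedOf p M)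 : Subgroup G) : Set G))))).map ((M ⊔ Subgroup.centralizer (((Cfsg.largestPReducedOf p M) : Subgroup G) : Set G))).subtype) (H : Subgroup G) (hFH : F ≤ H) (hH : Subgroup.centralizer (Cfsg.pCore p ↥H : Set ↥H) ≤ Cfsg.pCore p ↥H) : (Cfsg.largestPReducedOf p M) ≤ Cfsg.largestPReducedOf p H := by
  classical
  have hA := asymData_of_isInFrakM S Q hQp hQ1 hQS hQ M hSM hM hasym
  obtain ⟨hM1, hM2, hM3, hM4, hcl, _⟩ := hM
  set Y : Subgroup G := Cfsg.largestPReducedOf p M with hY
  set D : Subgroup G := Subgroup.centralizer (Y : Set G) with hD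
  set Md : Subgroup G := M ⊔ D with hMd
  set P : Subgroup G := Cfsg.pCoreOf p M with hP
  -- `O_p(M†/D) = 1`
  have hYred : PRedIn p Md Y := by
    have := pRedIn_largestPReducedOf p Md
    rw [← hM4] at this
    exact this
  have hO : Cfsg.pCore p (↥Md ⧸ D.subgroupOf Md) = ⊥ := pCore_quotient_eq_bot_of_pRedIn rfl hYred
  have hDMd : D ≤ Md := le_sup_right
  have hDF : D ≤ F := by
    rw [hF]
    intro x hx
    refine ⟨⟨x, hDMd hx⟩, ?_, rfl⟩
    rw [SetLike.mem_coe, Subgroup.mem_comap]
    have h1 : (QuotientGroup.mk' (D.subgroupOf Md)) ⟨x, hDMd hx⟩ = 1 :=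
      (QuotientGroup.eq_one_iff _).mpr (by rw [Subgroup.mem_subgroupOf]; exact hx)
    rw [h1]
    exact one_mem _
  have hPH : P ≤ H := hA.hPD.trans (hDF.trans hFH)
  have hYH : Y ≤ H := hA.hYP.trans hPH
  set U : Subgroup G := Cfsg.pCoreOf p H with hU
  have hHU : H ≤ Subgroup.normalizer (U : Set G) :=
    Subgroup.le_normalizer.trans (normalizer_le_normalizer_pCoreOf p H)
  have hUMd : U ≤ Md := (hA.pCoreOf_le_normalizer hPH).trans hA.normalizer_P_le
  have hUD : U ≤ D := by
    have h1 : U ⊓ Md ≤ D := by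
      apply inf_le_of_gfs_quotient hO hF (hFH.trans hHU)
      intro w hw
      obtain ⟨k, hk⟩ := (pCoreOf_isPGroup p H) ⟨w, hw.1⟩
      refine ⟨k, ?_⟩
      have h2 : w ^ p ^ k = 1 := by simpa using congrArg Subtype.val hk
      rw [h2]
      exact one_mem _
    exact (le_inf le_rfl hUMd).trans h1
  have hYU : Y ≤ U :=
    (le_inf hYH (Subgroup.le_centralizer_iff.mp hUD)).trans (inf_centralizer_pCoreOf_le hH)
  -- the normal closure `V` of `Y` in `H`
  set V : Subgroup G := ⨆ h : H, Y.map (MulAut.conj (h : G)).toMonoidHom with hV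
  have hYV : Y ≤ V := by
    have := le_iSup (fun h : H => Y.map (MulAut.conj (h : G)).toMonoidHom) 1
    simpa only [OneMemClass.coe_one, map_conj_one] using this
  have hconjU : ∀ h ∈ H, Y.map (MulAut.conj h).toMonoidHom ≤ U := fun h hh =>
    map_conj_le_of_mem_normalizer (hHU hh) hYU
  have hconjC : ∀ h ∈ H, U ≤ Subgroup.centralizer
      ((Y.map (MulAut.conj h).toMonoidHom : Subgroup G) : Set G) := by
    intro h hh
    rw [centralizer_map_conj]
    calc U = U.map (MulAut.conj h).toMonoidHom := (map_conj_eq_of_mem_normalizer (hHU hh)).symm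
      _ ≤ D.map (MulAut.conj h).toMonoidHom := Subgroup.map_mono hUD
  have hVU : V ≤ U := iSup_le (fun h => hconjU h h.2)
  have hVH : V ≤ H := hVU.trans (pCoreOf_le p H)
  have hHV : H ≤ Subgroup.normalizer (V : Set G) := by
    apply le_normalizer_of_forall_map_conj_le
    intro k hk
    rw [hV, Subgroup.map_iSup]
    apply iSup_le
    intro w
    rw [map_conj_map_conj]
    exact le_iSup (fun w : H => Y.map (MulAut.conj (w : G)).toMonoidHom) ⟨k * w, H.mul_mem hk w.2⟩
  have hYel : Cfsg.IsElementaryAbelian p Y := isElementaryAbelian_largestPReducedOf p M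
  have hVΩ : V ≤ Cfsg.omegaOne p (U ⊓ Subgroup.centralizer (U : Set G)) := by
    apply iSup_le
    rintro h _ ⟨y, hy, rfl⟩
    rw [mem_omegaOne_iff_of_comm (isMulCommutative_inf_centralizer _)]
    have hyU : (MulAut.conj (h : G)).toMonoidHom y ∈ U := hconjU h h.2 ⟨y, hy, rfl⟩
    refine ⟨⟨hyU, ?_⟩, ?_⟩
    · exact (Subgroup.le_centralizer_iff.mp (hconjC h h.2)) ⟨y, hy, rfl⟩
    · rw [← map_pow, hYel.2 y hy, map_one]
  have hVel : Cfsg.IsElementaryAbelian p V :=
    IsElementaryAbelian.mono (isElementaryAbelian_omegaOne_center p U) hVΩ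
  -- `V` is `p`-reduced
  have hred : ∀ N : Subgroup G, N ≤ H → H ≤ Subgroup.normalizer (N : Set G) →
      (∀ d ∈ N, ∃ k : ℕ, d ^ p ^ k ∈ Subgroup.centralizer (V : Set G)) →
        N ≤ Subgroup.centralizer (V : Set G) := by
    intro N hNH hHN hact
    have hCVD : Subgroup.centralizer (V : Set G) ≤ D := Subgroup.centralizer_le hYV
    have hNMd : N ⊓ Md ≤ D := by
      apply inf_le_of_gfs_quotient hO hF (hFH.trans hHN)
      intro w hw
      obtain ⟨k, hk⟩ := hact w hw.1
      exact ⟨k, hCVD hk⟩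
    -- a Sylow `p`-subgroup of `H` containing `P`
    have hp' : IsPGroup p ↥(P.subgroupOf H) := hA.isPGroup_P.comap_subtype
    obtain ⟨T, hT⟩ := hp'.exists_le_sylow
    have hTp : IsPGroup p ↥((T : Subgroup ↥H).map H.subtype) := T.isPGroup'.map _
    have hPT : P ≤ (T : Subgroup ↥H).map H.subtype := by
      intro x hx
      exact ⟨⟨x, hPH hx⟩, hT (by rw [Subgroup.mem_subgroupOf]; exact hx), rfl⟩
    have hTMd : (T : Subgroup ↥H).map H.subtype ≤ Md := (hA.stepB hTp hPT).trans hA.normalizer_P_le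
    have hND : N ≤ D := by
      apply le_of_coprime_mem_of_sylow_inf_le hNH hHN T
      · intro y hy hco
        apply hCVD
        exact PActs.mem_centralizer_of_coprime hact hy hco
      · intro x hx
        exact hNMd ⟨hx.2, hTMd hx.1⟩
    rw [Subgroup.le_centralizer_iff]
    apply iSup_le
    intro h
    rw [← Subgroup.le_centralizer_iff, centralizer_map_conj]
    calc N = N.map (MulAut.conj (h : G)).toMonoidHom :=
          (map_conj_eq_of_mem_normalizer (hHN h.2)).symm
      _ ≤ D.map (MulAut.conj (h : G)).toMonoidHom := Subgroup.map_mono hND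
  exact hYV.trans (le_largestPReducedOf hVH hHV hVel hred)

end Cfsg.Agent.S2851
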