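import Cfsg.Statements.S2852
-- import your own Cfsg.Agent.* helpers here
import Mathlib
import Cfsg.Agent.Lib.Helper47.AsymInst

set_option autoImplicit false
open Cfsg

namespace Cfsg.Agent.S2852

open Cfsg.Agent.Lib.Helper47

/-- Standing hypotheses: G a finite group, S a Sylow p-subgroup, Q a nontrivial large p-subgroup of G contained in S, M a subgroup containing S with the basic property (M ∈ 𝔐_G(S)); Y_M the largest p-reduced normal subgroup of M. If Y_M is char-p-tall and asymmetric in G, then some subgroup H of G lies in ℌ_G(O_p(M)): H has characteristic p, O_p(M) ≤ H, Y_M ≰ O_p(H), and Y_M ≤ O_p(P) for every proper subgroup P of H containing O_p(M). -/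
theorem result {G : Type*} [Group G] [Finite G] {p : ℕ} [Fact p.Prime] (S : Sylow p G) (Q : Subgroup G) (hQp : IsPGroup p ↥Q) (hQ1 : Q ≠ ⊥) (hQS : Q ≤ (S : Subgroup G)) (hQ : Cfsg.IsLarge Q) (M : Subgroup G) (hSM : (S : Subgroup G) ≤ M) (hM : Cfsg.IsInFrakM p M) (htall : Cfsg.IsCharPTall p (Cfsg.largestPReducedOf p M)) (hasym : ¬ Cfsg.IsSymmetricIn (Cfsg.largestPReducedOf p M)) : ∃ H : Subgroup G, Cfsg.IsInFrakH p M H := by
  classical
  have hA := asymData_of_isInFrakM S Q hQp hQ1 hQS hQ M hSM hM hasym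
  have hCP : Subgroup.centralizer ((Cfsg.pCoreOf p M : Subgroup G) : Set G) ≤ Cfsg.pCoreOf p M :=
    hM.1.2
  set Y : Subgroup G := Cfsg.largestPReducedOf p M with hY
  set D : Subgroup G := Subgroup.centralizer (Y : Set G) with hD
  set P : Subgroup G := Cfsg.pCoreOf p M with hP
  obtain ⟨T, L, hTL, hLc, hYL⟩ := htall
  have hPD : P ≤ D := hA.hPD
  -- move `L` so that it contains `P`
  have hp' : IsPGroup p ↥(P.subgroupOf D) := hA.isPGroup_P.comap_subtype
  obtain ⟨T', hT'⟩ := hp'.exists_le_sylow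
  obtain ⟨d, hd⟩ := MulAction.exists_smul_eq ↥D T T'
  have hPT : P ≤ ((T : Subgroup ↥D).map D.subtype).map (MulAut.conj (d : G)).toMonoidHom := by
    intro x hx
    have hxD : x ∈ D := hPD hx
    have h1 : (⟨x, hxD⟩ : ↥D) ∈ (T' : Subgroup ↥D) :=
      hT' (by rw [Subgroup.mem_subgroupOf]; exact hx)
    rw [← hd, sylow_smul_eq_map_conj] at h1
    obtain ⟨t, ht, htx⟩ := h1
    refine ⟨(t : G), ⟨t, ht, rfl⟩, ?_⟩
    have := congrArg Subtype.val htx
    simpa using this
  set L' : Subgroup G := L.map (MulAut.conj (d : G)).toMonoidHom with hL'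
  have hPL' : P ≤ L' := hPT.trans (Subgroup.map_mono hTL)
  have hcore : Cfsg.pCoreOf p L' = (Cfsg.pCoreOf p L).map (MulAut.conj (d : G)).toMonoidHom :=
    Cfsg.Agent.Lib.Helper46.pCoreOf_map (p := p) L (MulAut.conj (d : G))
  have hL'c : L' ⊓ Subgroup.centralizer ((Cfsg.pCoreOf p L' : Subgroup G) : Set G) ≤
      Cfsg.pCoreOf p L' := by
    rw [hcore, centralizer_map_conj, hL', ← Subgroup.map_inf _ _ _ (MulAut.conj (d : G)).injective]
    exact Subgroup.map_mono (inf_centralizer_pCoreOf_le hLc)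
  have hYL' : ¬ Y ≤ Cfsg.pCoreOf p L' := by
    intro hle
    apply hYL
    rw [hcore] at hle
    have h1 := map_conj_inv_le_of_le_map_conj hle
    have h2 : Y.map (MulAut.conj (d : G)⁻¹).toMonoidHom = Y :=
      map_conj_eq_of_mem_normalizer
        (Subgroup.centralizer_le_normalizer _ (D.inv_mem d.2))
    rw [h2] at h1
    exact h1
  -- minimal choice
  let 𝒳 : Set (Subgroup G) := {H | P ≤ H ∧
    H ⊓ Subgroup.centralizer ((Cfsg.pCoreOf p H : Subgroup G) : Set G) ≤ Cfsg.pCoreOf p H ∧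
    ¬ Y ≤ Cfsg.pCoreOf p H}
  obtain ⟨H, hH𝒳, hHmin⟩ := Set.exists_min_image 𝒳 (fun H => Nat.card H) (Set.toFinite _)
    ⟨L', hPL', hL'c, hYL'⟩
  obtain ⟨hPH, hHc, hYH⟩ := hH𝒳
  refine ⟨H, charP_subtype_of_ambient hHc, hPH, hYH, ?_⟩
  intro X hPX hXH
  by_contra hYX
  have hXc := hA.charP_of_le hCP hHc hPX hXH.le
  have h1 : Nat.card H ≤ Nat.card X := hHmin X ⟨hPX, hXc, hYX⟩
  exact hXH.ne (Subgroup.eq_of_le_of_card_ge hXH.le h1)

end Cfsg.Agent.S2852
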