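import Cfsg.Statements.S2854
import Cfsg.Agent.Lib.Helper48.FrakHAsym
import Cfsg.Agent.Lib.Helper48.FrakH2

set_option autoImplicit false
open Cfsg

namespace Cfsg.Agent.S2854

open Cfsg.Agent.Lib.Helper47 Cfsg.Agent.Lib.Helper48

/-- Standing hypotheses: G a finite group, S a Sylow p-subgroup, Q a nontrivial large p-subgroup of G contained in S, M a subgroup containing S with the basic property (M ∈ 𝔐_G(S)); Y_M the largest p-reduced normal subgroup of M and M† = M·C_G(Y_M). Suppose Y_M is asymmetric in G, H ∈ ℌ_G(O_p(M)), and H ≤ N_G(gQg⁻¹) for some g ∈ G. Then gQg⁻¹ ≤ O_p(H·gQg⁻¹) ≤ N_G(O_p(M)) ≤ N_G(Y_M) = M†; H is normal in H·gQg⁻¹ with O^p(H) = O^p(H·gQg⁻¹); and H·gQg⁻¹ is p-irreducible. -/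
theorem result {G : Type*} [Group G] [Finite G] {p : ℕ} [Fact p.Prime] (S : Sylow p G) (Q : Subgroup G) (hQp : IsPGroup p ↥Q) (hQ1 : Q ≠ ⊥) (hQS : Q ≤ (S : Subgroup G)) (hQ : Cfsg.IsLarge Q) (M : Subgroup G) (hSM : (S : Subgroup G) ≤ M) (hM : Cfsg.IsInFrakM p M) (hasym : ¬ Cfsg.IsSymmetricIn (Cfsg.largestPReducedOf p M)) (H : Subgroup G) (hH : Cfsg.IsInFrakH p M H) (g : G) (hHQ : H ≤ Subgroup.normalizer ((((Q : Subgroup G).map (MulAut.conj (g : G)).toMonoidHom) : Subgroup G) : Set G)) : ((Q : Subgroup G).map (MulAut.conj (g : G)).toMonoidHom) ≤ Cfsg.pCoreOf p (H ⊔ ((Q : Subgroup G).map (MulAut.conj (g : G)).toMonoidHom)) ∧ Cfsg.pCoreOf p (H ⊔ ((Q : Subgroup G).map (MulAut.conj (g : G)).toMonoidHom)) ≤ Subgroup.normalizer (((Cfsg.pCoreOf p M) : Subgroup G) : Set G) ∧ Subgroup.normalizer (((Cfsg.pCoreOf p M) : Subgroup G) : Set G) ≤ Subgroup.normalizer (((Cfsg.largestPReducedOf p M) : Subgroup G) : Set G) ∧ Subgroup.normalizer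 (((Cfsg.largestPReducedOf p M) : Subgroup G) : Set G) = (M ⊔ Subgroup.centralizer (((Cfsg.largestPReducedOf p M) : Subgroup G) : Set G)) ∧ (H.subgroupOf (H ⊔ ((Q : Subgroup G).map (MulAut.conj (g : G)).toMonoidHom))).Normal ∧ (Cfsg.pResidual p ↥H).map H.subtype = (Cfsg.pResidual p ↥(H ⊔ ((Q : Subgroup G).map (MulAut.conj (g : G)).toMonoidHom))).map (H ⊔ ((Q : Subgroup G).map (MulAut.conj (g : G)).toMonoidHom)).subtype ∧ Cfsg.IsPIrreducible p ↥(H ⊔ ((Q : Subgroup G).map (MulAut.conj (g : G)).toMonoidHom)) := by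
  have hA := asymData_of_isInFrakM S Q hQp hQ1 hQS hQ M hSM hM hasym
  obtain ⟨_, hBH, hY, hmin⟩ := hH
  have hF : FrakHHyp p H (Cfsg.pCoreOf p M) (Cfsg.largestPReducedOf p M) := ⟨hBH, hY, hmin⟩
  have hD := hData_of_asym hA hF
  have hQgp : IsPGroup p ↥((Q : Subgroup G).map (MulAut.conj (g : G)).toMonoidHom) := hQp.map _
  -- Q^g ≤ O_p(H Q^g)
  have h1 : (Q : Subgroup G).map (MulAut.conj (g : G)).toMonoidHom ≤
      Cfsg.pCoreOf p (H ⊔ (Q : Subgroup G).map (MulAut.conj (g : G)).toMonoidHom) :=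
    le_pCoreOf le_sup_right (sup_le hHQ Subgroup.le_normalizer) hQgp
  have h2 := hA.pCoreOf_le_normalizer
    (H := H ⊔ (Q : Subgroup G).map (MulAut.conj (g : G)).toMonoidHom) (hBH.trans le_sup_left)
  have h3 : Subgroup.normalizer ((Cfsg.pCoreOf p M : Subgroup G) : Set G) ≤
      Subgroup.normalizer ((Cfsg.largestPReducedOf p M : Subgroup G) : Set G) :=
    hA.normalizer_P_le.trans hA.dagger_le_normalizer
  have hXB := h1.trans h2
  have hXH := hD.le_normalizer_of_normalizes hXB hHQ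
  refine ⟨h1, h2, h3, ?_, ?_, ?_, ?_⟩
  · apply le_antisymm _ hA.dagger_le_normalizer
    apply hA.hmax _ _ hA.hMY
    apply hA.mem_charP (hA.hSM.trans hA.hMY)
    intro h0
    apply hA.hY1
    have := le_pCoreOf (p := p) (Subgroup.le_normalizer (H := Cfsg.largestPReducedOf p M)) le_rfl
      (hA.isPGroup_P.to_le hA.hYP)
    rw [h0] at this
    exact le_bot_iff.mp this
  · exact Subgroup.normal_subgroupOf_of_le_normalizer (sup_le Subgroup.le_normalizer hXH)
  · exact (opRes_sup_eq hQgp hXH).symm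
  · exact (hD.sup_right hQgp hHQ hXB (hXB.trans h3)).isPIrreducible

end Cfsg.Agent.S2854
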