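import Cfsg.Statements.S2859
import Cfsg.Agent.Lib.Helper47.Subnormal
import Cfsg.Agent.Lib.Helper33.KInfFiltration
-- import your own Cfsg.Agent.* helpers here

set_option autoImplicit false
open Cfsg

namespace Cfsg.Agent.S2859

open Cfsg.Agent.Lib.Helper33 Cfsg.Agent.Lib.Helper47
open scoped commutatorElement

section Gen

variable {G : Type*} [Group G]

/-- a subgroup `A` with `cj x M ≤ M` for all `x ∈ A` normalizes `M` -/
theorem le_normalizer_of_cj_le {A M : Subgroup G} (h : ∀ x ∈ A, cj x M ≤ M) :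
    A ≤ Subgroup.normalizer (M : Set G) := by
  intro x hx
  rw [mem_normalizer_iff_cj_eq]
  apply le_antisymm (h x hx)
  have := h x⁻¹ (A.inv_mem hx)
  rw [cj_le_iff, inv_inv] at this
  exact this

/-- `[A, B]` is always normalized by `A`. -/
theorem le_normalizer_commutator_self_left (A B : Subgroup G) :
    A ≤ Subgroup.normalizer ((⁅A, B⁆ : Subgroup G) : Set G) := by
  apply le_normalizer_of_cj_le
  intro a ha
  rw [cj_def, Subgroup.map_le_iff_le_comap, Subgroup.commutator_le]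
  intro x hx y hy
  rw [Subgroup.mem_comap]
  show a * ⁅x, y⁆ * a⁻¹ ∈ ⁅A, B⁆
  have : a * ⁅x, y⁆ * a⁻¹ = ⁅a * x, y⁆ * ⁅a, y⁆⁻¹ := by
    simp only [commutatorElement_def]; group
  rw [this]
  exact mul_mem (Subgroup.commutator_mem_commutator (mul_mem ha hx) hy)
    (inv_mem (Subgroup.commutator_mem_commutator ha hy))

/-- a `p'`-element of `N R`, with `R` a `p`-group normalizing `N`, lies in `N`. -/
theorem mem_of_coprime_of_mem_sup' {p : ℕ} [Fact p.Prime] {N R : Subgroup G} (hR : IsPGroup p ↥R)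
    (hRN : R ≤ Subgroup.normalizer (N : Set G)) {x : G} (hx : x ∈ N ⊔ R)
    (hco : Nat.Coprime (orderOf x) p) : x ∈ N := by
  set W := Subgroup.normalizer (N : Set G) with hW
  have hNW : N ≤ W := Subgroup.le_normalizer
  have hxW : x ∈ W := (sup_le hNW hRN) hx
  have hn : (N.subgroupOf W).Normal := Subgroup.normal_in_normalizer
  have h1 : (⟨x, hxW⟩ : ↥W) ∈ N.subgroupOf W ⊔ R.subgroupOf W := by
    rw [← Subgroup.subgroupOf_sup hNW hRN, Subgroup.mem_subgroupOf]; exact hx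
  have h2 := mem_of_coprime_of_mem_sup (p := p) (D := N.subgroupOf W) (Y := R.subgroupOf W)
    (hR.comap_subtype) h1 (by rw [Subgroup.orderOf_mk]; exact hco)
  exact Subgroup.mem_subgroupOf.mp h2

end Gen


section WC

set_option linter.unusedSectionVars false

variable {G : Type*} [Group G] [Finite G] {p : ℕ} [Fact p.Prime] {Q : Subgroup G}

/-- a weakly closed subgroup is the only conjugate of itself in any `p`-subgroup containing it -/
theorem wc_pgroup (hwc : IsWeaklyClosedSubgroup p Q)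
    {R : Subgroup G} (hR : IsPGroup p ↥R) (hQR : Q ≤ R) {g : G} (hg : cj g Q ≤ R) : cj g Q = Q := by
  obtain ⟨T, hQT, hT⟩ := hwc
  obtain ⟨T', hRT'⟩ := hR.exists_le_sylow
  obtain ⟨x, hx⟩ := MulAction.exists_smul_eq G T T'
  have hT' : (T' : Subgroup G) = cj x (T : Subgroup G) := by
    rw [← hx, Sylow.coe_subgroup_smul]; rfl
  have h1 : cj x⁻¹ Q ≤ (T : Subgroup G) := by
    rw [cj_le_iff, inv_inv, ← hT']; exact hQR.trans hRT'
  have h2 : cj (x⁻¹ * g) Q ≤ (T : Subgroup G) := by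
    rw [cj_mul, cj_le_iff, inv_inv, ← hT']; exact hg.trans hRT'
  have h3 : cj x⁻¹ Q = Q := hT x⁻¹ h1
  have h4 : cj (x⁻¹ * g) Q = Q := hT (x⁻¹ * g) h2
  rw [cj_mul] at h4
  apply cj_injective x⁻¹
  rw [h4, h3]

/-- conjugates of a weakly closed subgroup inside `L ≥ Q` are `L`-conjugate -/
theorem wc_conj (hQp : IsPGroup p ↥Q) (hwc : IsWeaklyClosedSubgroup p Q) {L : Subgroup G}
    (hQL : Q ≤ L) {g : G} (hg : cj g Q ≤ L) : ∃ l ∈ L, cj g Q = cj l Q := by
  obtain ⟨S, hS⟩ := (hQp.comap_subtype (K := L)).exists_le_sylow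
  have hgp : IsPGroup p ↥((cj g Q).subgroupOf L) := (isPGroup_cj hQp).comap_subtype
  obtain ⟨S', hS'⟩ := hgp.exists_le_sylow
  obtain ⟨l, hl⟩ := MulAction.exists_smul_eq ↥L S' S
  set R := (S : Subgroup ↥L).map L.subtype with hRdef
  have hRp : IsPGroup p ↥R := S.isPGroup'.map _
  have hQR : Q ≤ R := by
    intro q hq
    exact ⟨⟨q, hQL hq⟩, hS (Subgroup.mem_subgroupOf.mpr hq), rfl⟩
  have hgR : cj ((l : G) * g) Q ≤ R := by
    rw [cj_mul]
    intro y hy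
    rw [mem_cj] at hy
    have hy2 : (l : G)⁻¹ * y * l ∈ L := hg hy
    have hyL : y ∈ L := by
      have : y = (l : G) * ((l : G)⁻¹ * y * l) * (l : G)⁻¹ := by group
      rw [this]
      exact L.mul_mem (L.mul_mem l.2 hy2) (L.inv_mem l.2)
    refine ⟨⟨y, hyL⟩, ?_, rfl⟩
    have h5 : (l⁻¹ * ⟨y, hyL⟩ * l : ↥L) ∈ (S' : Subgroup ↥L) := by
      apply hS'
      rw [Subgroup.mem_subgroupOf]
      simpa using hy
    have h6 : (⟨y, hyL⟩ : ↥L) ∈ ((l • S' : Sylow p ↥L) : Subgroup ↥L) := by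
      rw [Sylow.coe_subgroup_smul]
      refine ⟨l⁻¹ * ⟨y, hyL⟩ * l, h5, ?_⟩
      simp [MulAut.conj_apply, mul_assoc]
    rw [hl] at h6
    exact h6
  have h7 := wc_pgroup hwc hRp hQR hgR
  rw [cj_mul] at h7
  refine ⟨(l : G)⁻¹, L.inv_mem l.2, ?_⟩
  calc cj g Q = cj (l : G)⁻¹ (cj (l : G) (cj g Q)) := (cj_inv_cj _ _).symm
    _ = cj (l : G)⁻¹ Q := by rw [h7]

theorem cj_le_weakClosure {B : Subgroup G} {g : G} (hg : cj g Q ≤ B) :
    cj g Q ≤ weakClosure Q B := by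
  unfold weakClosure
  exact le_iSup (fun g : {g : G // Q.map (MulAut.conj g).toMonoidHom ≤ B} =>
    Q.map (MulAut.conj (g : G)).toMonoidHom) ⟨g, hg⟩

theorem le_weakClosure {B : Subgroup G} (hQB : Q ≤ B) : Q ≤ weakClosure Q B := by
  have := cj_le_weakClosure (Q := Q) (B := B) (g := 1) (by rw [cj_one]; exact hQB)
  rwa [cj_one] at this

theorem weakClosure_le (B : Subgroup G) : weakClosure Q B ≤ B := iSup_le (fun g => g.2)

theorem le_normalizer_weakClosure (B : Subgroup G) :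
    B ≤ Subgroup.normalizer ((weakClosure Q B : Subgroup G) : Set G) := by
  apply le_normalizer_of_cj_le
  intro x hx
  unfold weakClosure
  rw [cj_def, Subgroup.map_iSup]
  apply iSup_le
  rintro ⟨g, hg⟩
  have h1 : cj (x * g) Q ≤ B := by rw [cj_mul]; exact cj_le_of_mem hg hx
  have h2 := cj_le_weakClosure h1
  rw [cj_mul] at h2
  exact h2

theorem weakClosure_le_of_normalized (hQp : IsPGroup p ↥Q) (hwc : IsWeaklyClosedSubgroup p Q)
    {B : Subgroup G} (hQB : Q ≤ B) {M : Subgroup G} (hQM : Q ≤ M)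
    (hM : weakClosure Q B ≤ Subgroup.normalizer (M : Set G)) : weakClosure Q B ≤ M := by
  apply iSup_le
  rintro ⟨g, hg⟩
  obtain ⟨l, hl, hgl⟩ := wc_conj hQp hwc (le_weakClosure hQB) (cj_le_weakClosure hg)
  show cj g Q ≤ M
  rw [hgl]
  calc cj l Q ≤ cj l M := cj_mono hQM
    _ = M := cj_eq_self_of_mem_normalizer (hM hl)


/-- `L = O^p(L) Q` for the weak closure `L` of `Q` in `B`. -/
theorem weakClosure_eq_opOf_sup (hQp : IsPGroup p ↥Q) (hwc : IsWeaklyClosedSubgroup p Q)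
    {B : Subgroup G} (hQB : Q ≤ B) :
    weakClosure Q B = opOf p (weakClosure Q B) ⊔ Q := by
  set L := weakClosure Q B with hL
  have hQL : Q ≤ L := le_weakClosure hQB
  apply le_antisymm _ (sup_le (opOf_le p L) hQL)
  have hKn : (pResidual p ↥L).Normal := pResidual_normal p ↥L
  have hPg : IsPGroup p (↥L ⧸ pResidual p ↥L) := isPGroup_quotient_pResidual p ↥L _ le_rfl
  set π := QuotientGroup.mk' (pResidual p ↥L) with hπ
  have hπs : Function.Surjective π := QuotientGroup.mk'_surjective _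
  set Q' := Q.subgroupOf L with hQ'
  have hnc : Subgroup.normalClosure ((Q' : Subgroup ↥L) : Set ↥L) = ⊤ := by
    rw [eq_top_iff]
    have h1 : L ≤ (Subgroup.normalClosure ((Q' : Subgroup ↥L) : Set ↥L)).map L.subtype := by
      apply weakClosure_le_of_normalized hQp hwc hQB
      · intro q hq
        exact ⟨⟨q, hQL hq⟩,
          Subgroup.subset_normalClosure (Subgroup.mem_subgroupOf.mpr hq), rfl⟩
      · apply le_normalizer_of_cj_le
        rintro x hx y hy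
        rw [mem_cj] at hy
        obtain ⟨z, hz, hzy⟩ := hy
        refine ⟨⟨x, hx⟩ * z * ⟨x, hx⟩⁻¹, Subgroup.normalClosure_normal.conj_mem _ hz _, ?_⟩
        have : (L.subtype z : G) = x⁻¹ * y * x := hzy
        simp only [map_mul, map_inv, Subgroup.subtype_apply] at this ⊢
        rw [this]; group
    intro z _
    obtain ⟨w, hw, hwz⟩ := h1 z.2
    have : w = z := Subtype.ext hwz
    rwa [← this]
  have hQbar : Q'.map π = ⊤ := by
    by_contra hne
    obtain ⟨M, hM, hQM⟩ := (eq_top_or_exists_le_coatom (Q'.map π)).resolve_left hne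
    have hnil : Group.IsNilpotent (↥L ⧸ pResidual p ↥L) := hPg.isNilpotent
    have hMn : M.Normal := Subgroup.NormalizerCondition.normal_of_coatom M Group.normalizerCondition_of_isNilpotent hM
    have h1 : Subgroup.normalClosure ((Q'.map π : Subgroup _) : Set _) ≤ M :=
      Subgroup.normalClosure_le_normal hQM
    have h2 : (Subgroup.normalClosure ((Q' : Subgroup ↥L) : Set ↥L)).map π =
        Subgroup.normalClosure ((Q'.map π : Subgroup _) : Set _) := by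
      rw [Subgroup.map_normalClosure _ _ hπs]; rfl
    rw [hnc, Subgroup.map_top_of_surjective _ hπs] at h2
    exact hM.1 (top_le_iff.mp (h2.le.trans h1))
  have h3 : Q' ⊔ pResidual p ↥L = ⊤ := by
    have := Subgroup.comap_map_eq π Q'
    rw [hQbar, Subgroup.comap_top, QuotientGroup.ker_mk'] at this
    exact this.symm
  intro x hx
  have h4 : (⟨x, hx⟩ : ↥L) ∈ Q' ⊔ pResidual p ↥L := h3 ▸ Subgroup.mem_top _
  have h5 : x ∈ (Q' ⊔ pResidual p ↥L).map L.subtype := ⟨⟨x, hx⟩, h4, rfl⟩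
  rw [Subgroup.map_sup, Subgroup.map_subgroupOf_eq_of_le hQL, sup_comm] at h5
  exact h5

/-- `[O^p(L), Q] = O^p(L)` for the weak closure `L` of `Q` in `B`. -/
theorem commutator_opOf_eq (hQp : IsPGroup p ↥Q) (hwc : IsWeaklyClosedSubgroup p Q)
    {B : Subgroup G} (hQB : Q ≤ B) :
    ⁅opOf p (weakClosure Q B), Q⁆ = opOf p (weakClosure Q B) := by
  have hLeq := weakClosure_eq_opOf_sup hQp hwc hQB
  set L := weakClosure Q B with hL
  set K := opOf p L with hK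
  have hQL : Q ≤ L := le_weakClosure hQB
  have hLK : L ≤ Subgroup.normalizer (K : Set G) :=
    (Subgroup.le_normalizer).trans (normalizer_le_normalizer_opOf p L)
  have hQK : Q ≤ Subgroup.normalizer (K : Set G) := hQL.trans hLK
  have hNK : ⁅K, Q⁆ ≤ K := Subgroup.le_normalizer_iff_commutator_le_left.mp hQK
  apply le_antisymm hNK
  set N := ⁅K, Q⁆ with hN
  have hQN : Q ≤ Subgroup.normalizer (N : Set G) := le_normalizer_commutator_right hQK
  have hKN : K ≤ Subgroup.normalizer (N : Set G) := le_normalizer_commutator_self_left K Q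
  have hM : L ≤ Subgroup.normalizer ((N ⊔ Q : Subgroup G) : Set G) := by
    rw [hLeq]
    apply sup_le
    · apply le_normalizer_of_cj_le
      intro k hk
      rw [cj_sup, cj_eq_self_of_mem_normalizer (hKN hk)]
      apply sup_le le_sup_left
      intro y hy
      rw [mem_cj] at hy
      have : y = ⁅k, k⁻¹ * y * k⁆ * (k⁻¹ * y * k) := by
        simp only [commutatorElement_def]; group
      rw [this]
      exact Subgroup.mul_mem _
        (Subgroup.mem_sup_left (Subgroup.commutator_mem_commutator hk hy))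
        (Subgroup.mem_sup_right hy)
    · exact le_normalizer_sup hQN Subgroup.le_normalizer
  have hLM : L ≤ N ⊔ Q := weakClosure_le_of_normalized hQp hwc hQB le_sup_right hM
  rw [opOf_le_iff]
  intro x hx hco
  exact mem_of_coprime_of_mem_sup' hQp hQN (hLM hx) hco


/-- `D ⊴ Hc` normalizing `Q` is central in `Hc` modulo `O_p(D)`. -/
theorem commutator_D_le (hQp : IsPGroup p ↥Q) (hwc : IsWeaklyClosedSubgroup p Q)
    {Hc : Subgroup G} (hHc : Hc = weakClosure Q ⊤) {D : Subgroup G}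
    (hDn : Hc ≤ Subgroup.normalizer (D : Set G)) (hDQ : D ≤ Subgroup.normalizer (Q : Set G)) :
    ⁅D, Hc⁆ ≤ pCoreOf p D := by
  set R := pCoreOf p D with hR
  have hRn : Hc ≤ Subgroup.normalizer (R : Set G) :=
    hDn.trans (normalizer_le_normalizer_pCoreOf p D)
  have hQHc : Q ≤ Hc := hHc ▸ le_weakClosure le_top
  -- the "centralizer of D modulo R"
  let C : Subgroup G :=
    { carrier := {x | x ∈ Subgroup.normalizer (R : Set G) ∧ ∀ d ∈ D, ⁅d, x⁆ ∈ R}
      one_mem' := ⟨one_mem _, fun d _ => by simp⟩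
      mul_mem' := by
        rintro x y ⟨hx, hx'⟩ ⟨hy, hy'⟩
        refine ⟨mul_mem hx hy, fun d hd => ?_⟩
        have : ⁅d, x * y⁆ = ⁅d, x⁆ * (x * ⁅d, y⁆ * x⁻¹) := by
          simp only [commutatorElement_def]; group
        rw [this]
        exact mul_mem (hx' d hd) ((Subgroup.mem_normalizer_iff.mp hx _).mp (hy' d hd))
      inv_mem' := by
        rintro x ⟨hx, hx'⟩
        refine ⟨inv_mem hx, fun d hd => ?_⟩
        have : ⁅d, x⁻¹⁆ = x⁻¹ * ⁅d, x⁆⁻¹ * x⁻¹⁻¹ := by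
          simp only [commutatorElement_def]; group
        rw [this]
        exact (Subgroup.mem_normalizer_iff.mp (inv_mem hx) _).mp (inv_mem (hx' d hd)) }
  have hC : Hc ≤ C := by
    rw [hHc]
    apply iSup_le
    rintro ⟨g, hg⟩
    have hgHc : cj g Q ≤ Hc := by rw [hHc]; exact cj_le_weakClosure hg
    obtain ⟨h, hh, hgh⟩ := wc_conj hQp hwc hQHc hgHc
    show cj g Q ≤ C
    rw [hgh]
    have hXHc : cj h Q ≤ Hc := cj_le_of_mem hQHc hh
    have hDX : D ≤ Subgroup.normalizer ((cj h Q : Subgroup G) : Set G) := by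
      rw [← cj_normalizer, ← cj_eq_self_of_mem_normalizer (hDn hh)]
      exact cj_mono hDQ
    have hXD : cj h Q ⊓ D ≤ R := by
      apply le_pCoreOf inf_le_right
      · apply le_normalizer_of_cj_le
        intro d hd
        rw [cj_inf, cj_eq_self_of_mem_normalizer (hDX hd), cj_eq_self_of_mem hd]
      · exact (isPGroup_cj hQp).to_le inf_le_left
    intro x hx
    refine ⟨hRn (hXHc hx), fun d hd => hXD (Subgroup.mem_inf.mpr ⟨?_, ?_⟩)⟩
    · have h1 : d * x * d⁻¹ ∈ cj h Q := (Subgroup.mem_normalizer_iff.mp (hDX hd) x).mp hx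
      have : ⁅d, x⁆ = (d * x * d⁻¹) * x⁻¹ := by simp only [commutatorElement_def]
      rw [this]
      exact mul_mem h1 (inv_mem hx)
    · have h1 : x * d⁻¹ * x⁻¹ ∈ D :=
        (Subgroup.mem_normalizer_iff.mp (hDn (hXHc hx)) d⁻¹).mp (inv_mem hd)
      have : ⁅d, x⁆ = d * (x * d⁻¹ * x⁻¹) := by simp only [commutatorElement_def]; group
      rw [this]
      exact mul_mem hd h1
  rw [Subgroup.commutator_le]
  intro d hd x hx
  exact (hC hx).2 d hd


/-- one half of the statement (symmetric in `H₁`, `H₂`) -/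
theorem half (hQp : IsPGroup p ↥Q) (hwc : IsWeaklyClosedSubgroup p Q)
    {Hc : Subgroup G} (hHc : Hc = weakClosure Q ⊤) {H₁ H₂ : Subgroup G}
    (hn₁ : H₁ ≤ Hc ∧ Hc ≤ Subgroup.normalizer ((H₁ : Subgroup G) : Set G))
    (hn₂ : H₂ ≤ Hc ∧ Hc ≤ Subgroup.normalizer ((H₂ : Subgroup G) : Set G))
    (hprod : H₁ ⊔ H₂ = Hc)
    (hcomm : ⁅H₁, H₂⁆ ≤ Subgroup.normalizer ((Q : Subgroup G) : Set G)) :
    ⁅opOf p (weakClosure Q (H₁ ⊔ Q)), Q⁆ = opOf p (weakClosure Q (H₁ ⊔ Q)) ∧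
    ⁅opOf p (weakClosure Q (H₁ ⊔ Q)), H₁⁆ = opOf p (weakClosure Q (H₁ ⊔ Q)) ∧
    opOf p (weakClosure Q (H₁ ⊔ Q)) ≤ ⁅H₁, H₁⁆ ∧
    Hc ≤ Subgroup.normalizer ((opOf p (weakClosure Q (H₁ ⊔ Q)) : Subgroup G) : Set G) ∧
    opOf p (weakClosure Q (H₁ ⊔ Q)) ≤ H₁ ∧
    weakClosure Q (H₁ ⊔ Q) = opOf p (weakClosure Q (H₁ ⊔ Q)) ⊔ Q ∧
    ⁅⁅H₁, H₁⁆, H₂⁆ ≤ pCoreOf p ⁅H₁, H₂⁆ := by
  have hQB : Q ≤ H₁ ⊔ Q := le_sup_right
  have hLeq := weakClosure_eq_opOf_sup hQp hwc hQB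
  have hKQ := commutator_opOf_eq hQp hwc hQB
  set L₁ := weakClosure Q (H₁ ⊔ Q) with hL₁
  set K₁ := opOf p L₁ with hK₁
  set D := ⁅H₁, H₂⁆ with hD
  set R := pCoreOf p D with hR
  have hQHc : Q ≤ Hc := hHc ▸ le_weakClosure le_top
  have hL₁B : L₁ ≤ H₁ ⊔ Q := weakClosure_le _
  have hBHc : H₁ ⊔ Q ≤ Hc := sup_le hn₁.1 hQHc
  have hQL : Q ≤ L₁ := le_weakClosure hQB
  have hBL : H₁ ⊔ Q ≤ Subgroup.normalizer (L₁ : Set G) := le_normalizer_weakClosure _
  have hBK : H₁ ⊔ Q ≤ Subgroup.normalizer (K₁ : Set G) :=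
    hBL.trans (normalizer_le_normalizer_opOf p L₁)
  have hQH₁ : Q ≤ Subgroup.normalizer (H₁ : Set G) := hQHc.trans hn₁.2
  have hK₁H₁ : K₁ ≤ H₁ := by
    rw [opOf_le_iff]
    intro x hx hco
    exact mem_of_coprime_of_mem_sup' hQp hQH₁ (hL₁B hx) hco
  have hD₁ : D ≤ H₁ := Subgroup.le_normalizer_iff_commutator_le_left.mp (hn₂.1.trans hn₁.2)
  have hD₂ : D ≤ H₂ := by
    rw [hD, Subgroup.commutator_comm]
    exact Subgroup.le_normalizer_iff_commutator_le_left.mp (hn₁.1.trans hn₂.2)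
  have hDHc : D ≤ Hc := hD₁.trans hn₁.1
  have hDn : Hc ≤ Subgroup.normalizer (D : Set G) := by
    apply le_normalizer_of_cj_le
    intro x hx
    rw [hD, cj_commutator, cj_eq_self_of_mem_normalizer (hn₁.2 hx),
      cj_eq_self_of_mem_normalizer (hn₂.2 hx)]
  have hDR : ⁅D, Hc⁆ ≤ R := commutator_D_le hQp hwc hHc hDn hcomm
  have hRn : Hc ≤ Subgroup.normalizer (R : Set G) :=
    hDn.trans (normalizer_le_normalizer_pCoreOf p D)
  have hRD : R ≤ D := pCoreOf_le p D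
  have hRp : IsPGroup p ↥R := pCoreOf_isPGroup p D
  have hTSL : ⁅⁅H₁, H₁⁆, H₂⁆ ≤ R := by
    have ha : ⁅⁅H₁, H₂⁆, H₁⁆ ≤ R := (Subgroup.commutator_mono le_rfl hn₁.1).trans hDR
    have hb : ⁅⁅H₂, H₁⁆, H₁⁆ ≤ R := by rw [Subgroup.commutator_comm H₂ H₁]; exact ha
    exact three_subgroups_mod (N := R) (H₁ := H₁) (H₂ := H₁) (H₃ := H₂)
      (hn₁.1.trans hRn) (hn₁.1.trans hRn) (hn₂.1.trans hRn) ha hb
  -- N = [K₁, H₁]
  have hH₁K : H₁ ≤ Subgroup.normalizer (K₁ : Set G) := le_sup_left.trans hBK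
  have hQK : Q ≤ Subgroup.normalizer (K₁ : Set G) := le_sup_right.trans hBK
  set N := ⁅K₁, H₁⁆ with hN
  have hNK : N ≤ K₁ := Subgroup.le_normalizer_iff_commutator_le_left.mp hH₁K
  have hH₁N : H₁ ≤ Subgroup.normalizer (N : Set G) := le_normalizer_commutator_right hH₁K
  have hQN : Q ≤ Subgroup.normalizer (N : Set G) := by
    apply le_normalizer_of_cj_le
    intro q hq
    rw [hN, cj_commutator, cj_eq_self_of_mem_normalizer (hQK hq),
      cj_eq_self_of_mem_normalizer (hQH₁ hq)]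
  -- Step A: [K₁, Q] ≤ N D
  have hA : ⁅K₁, Q⁆ ≤ N ⊔ D := by
    rw [Subgroup.commutator_le]
    intro k hk q hq
    have hqHc : q ∈ H₁ ⊔ H₂ := hprod ▸ hQHc hq
    have hmul : q ∈ ((H₁ ⊔ H₂ : Subgroup G) : Set G) := hqHc
    rw [Subgroup.coe_mul_of_right_le_normalizer_left H₁ H₂ (hn₂.1.trans hn₁.2)] at hmul
    obtain ⟨a, ha, b, hb, rfl⟩ := hmul
    have : ⁅k, a * b⁆ = ⁅k, a⁆ * (a * ⁅k, b⁆ * a⁻¹) := by
      simp only [commutatorElement_def]; group
    rw [this]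
    refine mul_mem (Subgroup.mem_sup_left (Subgroup.commutator_mem_commutator hk ha))
      (Subgroup.mem_sup_right ?_)
    have h1 : ⁅k, b⁆ ∈ D := Subgroup.commutator_mem_commutator (hK₁H₁ hk) hb
    exact (Subgroup.mem_normalizer_iff.mp (hDn (hn₁.1 ha)) _).mp h1
  have hB : K₁ ≤ N ⊔ D := by rw [← hKQ]; exact hA
  -- Step C: [K₁, Q] ≤ N R
  have hDN : D ≤ Subgroup.normalizer (N : Set G) := hD₁.trans hH₁N
  have hC : ⁅K₁, Q⁆ ≤ N ⊔ R := by
    rw [Subgroup.commutator_le]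
    intro k hk q hq
    have hmul : k ∈ ((N ⊔ D : Subgroup G) : Set G) := hB hk
    rw [Subgroup.coe_mul_of_right_le_normalizer_left N D hDN] at hmul
    obtain ⟨n, hn, d, hd, rfl⟩ := hmul
    have : ⁅n * d, q⁆ = (n * ⁅d, q⁆ * n⁻¹) * ⁅n, q⁆ := by
      simp only [commutatorElement_def]; group
    rw [this]
    refine mul_mem (Subgroup.mem_sup_right ?_) (Subgroup.mem_sup_left ?_)
    · have h1 : ⁅d, q⁆ ∈ R := hDR (Subgroup.commutator_mem_commutator hd (hQHc hq))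
      have hnHc : n ∈ Hc := hn₁.1 (hK₁H₁ (hNK hn))
      exact (Subgroup.mem_normalizer_iff.mp (hRn hnHc) _).mp h1
    · have h1 : q * n⁻¹ * q⁻¹ ∈ N :=
        (Subgroup.mem_normalizer_iff.mp (hQN hq) _).mp (inv_mem hn)
      have : ⁅n, q⁆ = n * (q * n⁻¹ * q⁻¹) := by simp only [commutatorElement_def]; group
      rw [this]
      exact mul_mem hn h1
  have hDd : K₁ ≤ N ⊔ R := by rw [← hKQ]; exact hC
  have hRN : R ≤ Subgroup.normalizer (N : Set G) := hRD.trans hDN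
  have hE : K₁ ≤ N := by
    rw [hK₁, opOf_le_iff]
    intro x hx hco
    have hxK : x ∈ K₁ := (opOf_le_iff p L₁ K₁).mp le_rfl x hx hco
    exact mem_of_coprime_of_mem_sup' hRp hRN (hDd hxK) hco
  have hKH : ⁅K₁, H₁⁆ = K₁ := le_antisymm hNK hE
  have hKH' : K₁ ≤ ⁅H₁, H₁⁆ := by
    calc K₁ = ⁅K₁, H₁⁆ := hKH.symm
      _ ≤ ⁅H₁, H₁⁆ := Subgroup.commutator_mono hK₁H₁ le_rfl
  have hRK : R ≤ Subgroup.normalizer (K₁ : Set G) := (hRD.trans hD₁).trans hH₁K
  have hHcK : Hc ≤ Subgroup.normalizer (K₁ : Set G) := by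
    rw [← hprod]
    apply sup_le hH₁K
    apply le_normalizer_of_cj_le
    intro b hb
    have hgoal : cj b (Subgroup.closure {x : G | x ∈ L₁ ∧ Nat.Coprime (orderOf x) p}) ≤ K₁ := by
      rw [cj_closure, Subgroup.closure_le]
      rintro _ ⟨x, ⟨hxL, hco⟩, rfl⟩
      have hxK : x ∈ K₁ := (opOf_le_iff p L₁ K₁).mp le_rfl x hxL hco
      have h1 : ⁅b, x⁆ ∈ R := by
        apply hTSL
        rw [Subgroup.commutator_comm]
        exact Subgroup.commutator_mem_commutator hb (hKH' hxK)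
      have h2 : b * x * b⁻¹ = ⁅b, x⁆ * x := by simp only [commutatorElement_def]; group
      have h3 : b * x * b⁻¹ ∈ K₁ ⊔ R := by
        rw [h2]; exact mul_mem (Subgroup.mem_sup_right h1) (Subgroup.mem_sup_left hxK)
      have h4 : orderOf (b * x * b⁻¹) = orderOf x := by
        have : b * x * b⁻¹ = MulAut.conj b x := by simp
        rw [this, MulEquiv.orderOf_eq]
      show b * x * b⁻¹ ∈ K₁
      exact mem_of_coprime_of_mem_sup' hRp hRK h3 (by rw [h4]; exact hco)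
    rwa [← opOf_eq_closure] at hgoal
  exact ⟨hKQ, hKH, hKH', hHcK, hK₁H₁, hLeq, hTSL⟩

end WC

/-- Let Q be a nontrivial p-subgroup of the finite group H that is a weakly closed subgroup, H° the weak closure of Q in H (generated by the conjugates of Q) and H_∘ = O^p(H°). Suppose H₁, H₂ are normal subgroups of H° with H° = H₁H₂ and [H₁, H₂] ≤ N_H(Q), and put Kᵢ = O^p of the weak closure of Q in HᵢQ. Then for i = 1, 2: Kᵢ = [Kᵢ, Q] = [Kᵢ, Hᵢ] ≤ Hᵢ′ and Kᵢ is normal in H°; H_∘ = K₁K₂; and [K₁, K₂] ≤ O_p(H°). -/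
theorem result {G : Type*} [Group G] [Finite G] {p : ℕ} [Fact p.Prime] (Q : Subgroup G) (hQp : IsPGroup p ↥Q) (hQ1 : Q ≠ ⊥) (hwc : Cfsg.IsWeaklyClosedSubgroup p Q) (Hc : Subgroup G) (hHc : Hc = Cfsg.weakClosure Q ⊤) (H₁ H₂ : Subgroup G) (hn₁ : H₁ ≤ Hc ∧ Hc ≤ Subgroup.normalizer ((H₁ : Subgroup G) : Set G)) (hn₂ : H₂ ≤ Hc ∧ Hc ≤ Subgroup.normalizer ((H₂ : Subgroup G) : Set G)) (hprod : H₁ ⊔ H₂ = Hc) (hcomm : ⁅H₁, H₂⁆ ≤ Subgroup.normalizer ((Q : Subgroup G) : Set G)) (K₁ K₂ : Subgroup G) (hK₁ : K₁ = ((Cfsg.pResidual p ↥(Cfsg.weakClosure Q (H₁ ⊔ Q))).map ((Cfsg.weakClosure Q (H₁ ⊔ Q))).subtype)) (hK₂ : K₂ = ((Cfsg.pResidual p ↥(Cfsg.weakClosure Q (H₂ ⊔ Q))).map ((Cfsg.weakClosure Q (H₂ ⊔ Q))).subtype)) : (⁅K₁, Q⁆ = K₁ ∧ ⁅K₁, H₁⁆ = K₁ ∧ K₁ ≤ ⁅H₁, H₁⁆ ∧ Hc ≤ Subgroup.normalizer ((K₁ : Subgroup G) : Set G)) ∧ (⁅K₂, Q⁆ = K₂ ∧ ⁅K₂, H₂⁆ = K₂ ∧ K₂ ≤ ⁅H₂, H₂⁆ ∧ Hc ≤ Subgroup.normalizer ((K₂ : Subgroup G) : Set G)) ∧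 K₁ ⊔ K₂ = ((Cfsg.pResidual p ↥Hc).map (Hc).subtype) ∧ ⁅K₁, K₂⁆ ≤ (Cfsg.pCoreOf p Hc) := by
  have hQHc : Q ≤ Hc := hHc ▸ le_weakClosure le_top
  have hprod' : H₂ ⊔ H₁ = Hc := by rw [sup_comm]; exact hprod
  have hcomm' : ⁅H₂, H₁⁆ ≤ Subgroup.normalizer ((Q : Subgroup G) : Set G) := by
    rw [Subgroup.commutator_comm]; exact hcomm
  obtain ⟨a1, a2, a3, a4, a5, a6, a7⟩ := half hQp hwc hHc hn₁ hn₂ hprod hcomm
  obtain ⟨b1, b2, b3, b4, b5, b6, _⟩ := half hQp hwc hHc hn₂ hn₁ hprod' hcomm'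
  have e1 : K₁ = opOf p (weakClosure Q (H₁ ⊔ Q)) := hK₁
  have e2 : K₂ = opOf p (weakClosure Q (H₂ ⊔ Q)) := hK₂
  rw [← e1] at a1 a2 a3 a4 a5 a6
  rw [← e2] at b1 b2 b3 b4 b5 b6
  refine ⟨⟨a1, a2, a3, a4⟩, ⟨b1, b2, b3, b4⟩, ?_, ?_⟩
  · show K₁ ⊔ K₂ = opOf p Hc
    apply le_antisymm
    · apply sup_le
      · rw [e1]; exact opOf_mono p ((weakClosure_le _).trans (sup_le hn₁.1 hQHc))
      · rw [e2]; exact opOf_mono p ((weakClosure_le _).trans (sup_le hn₂.1 hQHc))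
    · have hM : Hc ≤ Subgroup.normalizer ((K₁ ⊔ K₂ : Subgroup G) : Set G) :=
        le_normalizer_sup a4 b4
      have hMQ : Hc ≤ Subgroup.normalizer ((K₁ ⊔ K₂ ⊔ Q : Subgroup G) : Set G) := by
        rw [← hprod]
        apply sup_le
        · apply le_normalizer_of_cj_le
          intro a ha
          rw [cj_sup, cj_eq_self_of_mem_normalizer (hM (hn₁.1 ha))]
          apply sup_le le_sup_left
          have h1 : cj a Q ≤ H₁ ⊔ Q :=
            cj_le_of_mem le_sup_right (Subgroup.mem_sup_left ha)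
          have h2 : cj a Q ≤ weakClosure Q (H₁ ⊔ Q) := cj_le_weakClosure h1
          rw [a6] at h2
          exact h2.trans (sup_le_sup_right le_sup_left Q)
        · apply le_normalizer_of_cj_le
          intro b hb
          rw [cj_sup, cj_eq_self_of_mem_normalizer (hM (hn₂.1 hb))]
          apply sup_le le_sup_left
          have h1 : cj b Q ≤ H₂ ⊔ Q :=
            cj_le_of_mem le_sup_right (Subgroup.mem_sup_left hb)
          have h2 : cj b Q ≤ weakClosure Q (H₂ ⊔ Q) := cj_le_weakClosure h1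
          rw [b6] at h2
          exact h2.trans (sup_le_sup_right le_sup_right Q)
      have hHcM : Hc ≤ K₁ ⊔ K₂ ⊔ Q := by
        have h1 : weakClosure Q ⊤ ≤ Subgroup.normalizer ((K₁ ⊔ K₂ ⊔ Q : Subgroup G) : Set G) :=
          hHc ▸ hMQ
        have h2 := weakClosure_le_of_normalized hQp hwc le_top le_sup_right h1
        rw [hHc]; exact h2
      rw [opOf_le_iff]
      intro x hx hco
      exact mem_of_coprime_of_mem_sup' hQp (hQHc.trans hM) (hHcM hx) hco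
  · have hD₁ : ⁅H₁, H₂⁆ ≤ H₁ :=
      Subgroup.le_normalizer_iff_commutator_le_left.mp (hn₂.1.trans hn₁.2)
    have hDn : Hc ≤ Subgroup.normalizer ((⁅H₁, H₂⁆ : Subgroup G) : Set G) := by
      apply le_normalizer_of_cj_le
      intro x hx
      rw [cj_commutator, cj_eq_self_of_mem_normalizer (hn₁.2 hx),
        cj_eq_self_of_mem_normalizer (hn₂.2 hx)]
    calc ⁅K₁, K₂⁆ ≤ ⁅⁅H₁, H₁⁆, H₂⁆ := Subgroup.commutator_mono a3 b5
      _ ≤ pCoreOf p ⁅H₁, H₂⁆ := a7
      _ ≤ pCoreOf p Hc := le_pCoreOf (((pCoreOf_le p _).trans hD₁).trans hn₁.1)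
          (hDn.trans (normalizer_le_normalizer_pCoreOf p _)) (pCoreOf_isPGroup p _)

end Cfsg.Agent.S2859
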