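import Cfsg.Statements.S2855
import Cfsg.Agent.Lib.Helper47.Subnormal
import Cfsg.Agent.Lib.Helper33.KInfFiltration
import Cfsg.Agent.S2859
-- import your own Cfsg.Agent.* helpers here

set_option autoImplicit false
open Cfsg

namespace Cfsg.Agent.S2855

open Cfsg.Agent.Lib.Helper33 Cfsg.Agent.Lib.Helper47
open Cfsg.Agent.S2859 (le_normalizer_of_cj_le le_normalizer_commutator_self_left mem_of_coprime_of_mem_sup')
open scoped commutatorElement

section Gen

variable {G : Type*} [Group G]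

/-- Dedekind law, the normal subgroup on the right of the join. -/
theorem dedekind_right {A P C : Subgroup G} [P.Normal] (hAC : A ≤ C) :
    (A ⊔ P) ⊓ C = A ⊔ (P ⊓ C) := by
  apply le_antisymm
  · intro x hx
    obtain ⟨hx1, hxC⟩ := Subgroup.mem_inf.mp hx
    obtain ⟨a, ha, u, hu, rfl⟩ := Subgroup.mem_sup_of_normal_right.mp hx1
    have huC : u ∈ C := by
      have : u = a⁻¹ * (a * u) := by group
      rw [this]
      exact C.mul_mem (C.inv_mem (hAC ha)) hxC
    exact Subgroup.mul_mem_sup ha (Subgroup.mem_inf.mpr ⟨hu, huC⟩)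
  · exact sup_le (le_inf le_sup_left hAC) (inf_le_inf_right C le_sup_right)

/-- Dedekind law, the normal subgroup inside the third subgroup. -/
theorem dedekind_left {E P X : Subgroup G} [P.Normal] (hPX : P ≤ X) :
    (E ⊔ P) ⊓ X = (E ⊓ X) ⊔ P := by
  apply le_antisymm
  · intro x hx
    obtain ⟨hx1, hxX⟩ := Subgroup.mem_inf.mp hx
    obtain ⟨e, he, u, hu, rfl⟩ := Subgroup.mem_sup_of_normal_right.mp hx1
    have heX : e ∈ X := by
      have : e = (e * u) * u⁻¹ := by group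
      rw [this]
      exact X.mul_mem hxX (X.inv_mem (hPX hu))
    exact Subgroup.mul_mem_sup (Subgroup.mem_inf.mpr ⟨he, heX⟩) hu
  · exact sup_le (inf_le_inf_right X le_sup_left) (le_inf le_sup_right hPX)

theorem relIndex_sup_of_le {T E P : Subgroup G} [P.Normal] (hPT : P ≤ T) :
    T.relIndex (E ⊔ P) = T.relIndex E := by
  have h1 : (T.map (QuotientGroup.mk' P)).comap (QuotientGroup.mk' P) = T := comap_map_mk' P hPT
  have h2 : ∀ X : Subgroup G, T.relIndex X = (T.map (QuotientGroup.mk' P)).relIndex (X.map (QuotientGroup.mk' P)) := by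
    intro X
    conv_lhs => rw [← h1]
    rw [Subgroup.relIndex_comap]
  rw [h2 (E ⊔ P), h2 E, Subgroup.map_sup, map_mk'_self, sup_bot_eq]

theorem le_normalizer_inf {A B C : Subgroup G} (h1 : A ≤ Subgroup.normalizer (B : Set G))
    (h2 : A ≤ Subgroup.normalizer (C : Set G)) : A ≤ Subgroup.normalizer ((B ⊓ C : Subgroup G) : Set G) := by
  intro a ha
  rw [mem_normalizer_iff_cj_eq, cj_inf, cj_eq_self_of_mem_normalizer (h1 ha),
    cj_eq_self_of_mem_normalizer (h2 ha)]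

theorem normal_of_cj_le {N : Subgroup G} (h : ∀ g : G, cj g N ≤ N) : N.Normal := by
  constructor
  intro n hn g
  exact h g (conj_mem_cj hn)

theorem cj_eq_of_normal {N : Subgroup G} [hN : N.Normal] (g : G) : cj g N = N :=
  cj_eq_self_of_mem_normalizer (by rw [Subgroup.normalizer_eq_top]; trivial)

/-- the centralizer of `B` modulo `W`, inside the normalizer of `W` -/
def cmod (W B : Subgroup G) : Subgroup G where
  carrier := {x | x ∈ Subgroup.normalizer (W : Set G) ∧ ∀ y ∈ B, ⁅x, y⁆ ∈ W}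
  one_mem' := ⟨one_mem _, fun y _ => by simp [commutatorElement_def]⟩
  mul_mem' := by
    rintro a b ⟨ha, ha'⟩ ⟨hb, hb'⟩
    refine ⟨mul_mem ha hb, fun y hy => ?_⟩
    have h1 : ⁅a * b, y⁆ = a * ⁅b, y⁆ * a⁻¹ * ⁅a, y⁆ := by
      simp only [commutatorElement_def]; group
    rw [h1]
    exact W.mul_mem ((Subgroup.mem_normalizer_iff.mp ha _).mp (hb' y hy)) (ha' y hy)
  inv_mem' := by
    rintro a ⟨ha, ha'⟩
    refine ⟨inv_mem ha, fun y hy => ?_⟩
    have h1 : ⁅a⁻¹, y⁆ = a⁻¹ * (⁅a, y⁆)⁻¹ * a⁻¹⁻¹ := by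
      simp only [commutatorElement_def]; group
    rw [h1]
    exact (Subgroup.mem_normalizer_iff.mp (inv_mem ha) _).mp (W.inv_mem (ha' y hy))

theorem le_cmod {W A B : Subgroup G} (hA : A ≤ Subgroup.normalizer (W : Set G)) (h : ⁅A, B⁆ ≤ W) :
    A ≤ cmod W B := fun _ hx => ⟨hA hx, fun _ hy => h (Subgroup.commutator_mem_commutator hx hy)⟩

theorem commutator_cmod_le (W B : Subgroup G) : ⁅cmod W B, B⁆ ≤ W := by
  rw [Subgroup.commutator_le]
  intro x hx y hy
  exact hx.2 y hy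

/-- commutators with a join: it suffices to bound the commutators with the members -/
theorem commutator_sSup_le {W B : Subgroup G} {𝒜 : Set (Subgroup G)}
    (h : ∀ A ∈ 𝒜, A ≤ Subgroup.normalizer (W : Set G) ∧ ⁅A, B⁆ ≤ W) : ⁅sSup 𝒜, B⁆ ≤ W :=
  (Subgroup.commutator_mono (sSup_le fun A hA => le_cmod (h A hA).1 (h A hA).2) le_rfl).trans
    (commutator_cmod_le W B)

theorem commutator_sup_le {W A₁ A₂ B : Subgroup G} (h1 : A₁ ≤ Subgroup.normalizer (W : Set G))
    (h2 : A₂ ≤ Subgroup.normalizer (W : Set G)) (h3 : ⁅A₁, B⁆ ≤ W) (h4 : ⁅A₂, B⁆ ≤ W) :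
    ⁅A₁ ⊔ A₂, B⁆ ≤ W :=
  (Subgroup.commutator_mono (sup_le (le_cmod h1 h3) (le_cmod h2 h4)) le_rfl).trans
    (commutator_cmod_le W B)

theorem commutator_sup_sup_le_normal {P A B : Subgroup G} [hP : P.Normal] (h : ⁅A, B⁆ ≤ P) :
    ⁅A ⊔ P, B ⊔ P⁆ ≤ P := by
  have hn : ∀ X : Subgroup G, X ≤ Subgroup.normalizer (P : Set G) := fun X => by
    rw [Subgroup.normalizer_eq_top]; exact le_top
  have h1 : ⁅A ⊔ P, B⁆ ≤ P :=
    commutator_sup_le (hn _) (hn _) h (Subgroup.commutator_le_left P B)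
  rw [Subgroup.commutator_comm]
  apply commutator_sup_le (hn _) (hn _)
  · rw [Subgroup.commutator_comm]; exact h1
  · exact Subgroup.commutator_le_left P _

end Gen

section Syl

variable {G : Type*} [Group G] [Finite G] {p : ℕ} [Fact p.Prime]

/-- index coprimality passes to normal subgroups of overgroups -/
theorem not_dvd_relIndex_of_normal {T A B : Subgroup G} (hT : IsPGroup p ↥T) (hBA : B ≤ A)
    (hn : A ≤ Subgroup.normalizer (B : Set G)) (h : ¬ p ∣ T.relIndex A) : ¬ p ∣ T.relIndex B := by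
  have hT' : IsPGroup p ↥(T.subgroupOf A) := hT.comap_subtype
  have hBn : (B.subgroupOf A).Normal := Subgroup.normal_subgroupOf_of_le_normalizer hn
  have h' : ¬ p ∣ (T.subgroupOf A).index := h
  obtain ⟨Q, hQ⟩ := exists_sylow_eq_subgroupOf_of_normal (hT'.toSylow h') (B.subgroupOf A)
  have h1 := Q.not_dvd_index
  rw [hQ, IsPGroup.toSylow_coe] at h1
  have h2 : ((T.subgroupOf A).subgroupOf (B.subgroupOf A)).index = T.relIndex B :=
    Subgroup.relIndex_subgroupOf hBA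
  rwa [h2] at h1

theorem not_dvd_relIndex_of_normal_top (T : Sylow p G) {B : Subgroup G} [hB : B.Normal] :
    ¬ p ∣ (T : Subgroup G).relIndex B := by
  apply not_dvd_relIndex_of_normal T.2 (le_top : B ≤ ⊤)
  · rw [Subgroup.normalizer_eq_top]
  · rw [Subgroup.relIndex_top_right]; exact T.not_dvd_index

theorem opOf_sup_eq {S A : Subgroup G} (hS : IsPGroup p ↥S) (hSA : S ≤ A)
    (h : ¬ p ∣ S.relIndex A) : opOf p A ⊔ S = A := by
  have hS' : IsPGroup p ↥(S.subgroupOf A) := hS.comap_subtype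
  have h' : ¬ p ∣ (S.subgroupOf A).index := h
  have h1 := pResidual_sup_sylow (hS'.toSylow h')
  rw [IsPGroup.toSylow_coe] at h1
  have h2 := congrArg (Subgroup.map A.subtype) h1
  rw [Subgroup.map_sup, Subgroup.subgroupOf_map_subtype, inf_of_le_left hSA,
    ← MonoidHom.range_eq_map, Subgroup.range_subtype] at h2
  exact h2

omit [Finite G] [Fact p.Prime] in
theorem cj_opOf (g : G) (A : Subgroup G) : cj g (opOf p A) = opOf p (cj g A) := by
  rw [opOf_eq_closure, opOf_eq_closure, cj_closure]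
  congr 1
  ext x
  constructor
  · rintro ⟨a, ⟨haA, hco⟩, rfl⟩
    refine ⟨conj_mem_cj haA, ?_⟩
    have : orderOf (g * a * g⁻¹) = orderOf a := by
      have := orderOf_injective (MulAut.conj g).toMonoidHom (MulAut.conj g).injective a
      simpa using this
    rw [this]; exact hco
  · rintro ⟨hxA, hco⟩
    refine ⟨g⁻¹ * x * g, ⟨mem_cj.mp hxA, ?_⟩, by group⟩
    have : orderOf (g⁻¹ * x * g) = orderOf x := by
      have := orderOf_injective (MulAut.conj g⁻¹).toMonoidHom (MulAut.conj g⁻¹).injective x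
      simpa using this
    rw [this]; exact hco

theorem isPClosed_of_le_normalizer {S A : Subgroup G} (hS : IsPGroup p ↥S)
    (h : ¬ p ∣ S.relIndex A) (hn : A ≤ Subgroup.normalizer (S : Set G)) : IsPClosed p ↥A := by
  have hS' : IsPGroup p ↥(S.subgroupOf A) := hS.comap_subtype
  have h' : ¬ p ∣ (S.subgroupOf A).index := h
  apply isPClosed_of_normal_sylow (hS'.toSylow h')
  rw [IsPGroup.toSylow_coe]
  exact Subgroup.normal_subgroupOf_of_le_normalizer hn

omit [Finite G] in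
theorem isSubnormal_of_chain {A B C : Subgroup G} (hAB : A ≤ B)
    (hBA : B ≤ Subgroup.normalizer (A : Set G)) (hBC : B ≤ C)
    (hCB : C ≤ Subgroup.normalizer (B : Set G)) (hC : C.Normal) : A.IsSubnormal :=
  Subgroup.IsSubnormal.step A B hAB
    (Subgroup.IsSubnormal.step B C hBC hC.isSubnormal
      (Subgroup.normal_subgroupOf_of_le_normalizer hCB))
    (Subgroup.normal_subgroupOf_of_le_normalizer hBA)

omit [Finite G] in
theorem isSubnormal_of_chain2 {A B : Subgroup G} (hAB : A ≤ B)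
    (hBA : B ≤ Subgroup.normalizer (A : Set G)) (hB : B.Normal) : A.IsSubnormal :=
  Subgroup.IsSubnormal.step A B hAB hB.isSubnormal
    (Subgroup.normal_subgroupOf_of_le_normalizer hBA)

end Syl

section Main

variable {H : Type*} [Group H] [Finite H] {p : ℕ} [Fact p.Prime]

theorem pCore_normal (p : ℕ) (H : Type*) [Group H] : (pCore p H).Normal :=
  haveI := pCore_characteristic p H
  Subgroup.normal_of_characteristic _

attribute [local instance] pCore_normal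

/-- the standing hypotheses -/
structure Ctx (p : ℕ) (𝒦 : Set (Subgroup H)) : Prop where
  hne : 𝒦.Nonempty
  hinv : ∀ h : H, ∀ E ∈ 𝒦, cj h E ∈ 𝒦
  htr : ∀ E ∈ 𝒦, ∀ K ∈ 𝒦, ∃ h : H, K = cj h E
  hres : pResidual p H ≤ sSup 𝒦
  hnorm : ∀ E ∈ 𝒦, sSup 𝒦 ⊔ pCore p H ≤
    Subgroup.normalizer ((E ⊔ pCore p H : Subgroup H) : Set H)

variable {𝒦 : Set (Subgroup H)}

omit [Finite H] [Fact p.Prime] in
theorem Ctx.sSup_normal (C : Ctx p 𝒦) : (sSup 𝒦).Normal := by
  apply normal_of_cj_le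
  intro g
  rw [cj_def, Subgroup.map_le_iff_le_comap]
  apply sSup_le
  intro E hE
  rw [← Subgroup.map_le_iff_le_comap]
  exact le_sSup (C.hinv g E hE)

omit [Finite H] [Fact p.Prime] in
theorem Ctx.Rh_normal (C : Ctx p 𝒦) : (sSup 𝒦 ⊔ pCore p H).Normal :=
  haveI := C.sSup_normal
  inferInstance

omit [Finite H] [Fact p.Prime] in
theorem cj_hat (h : H) (E : Subgroup H) :
    cj h (E ⊔ pCore p H) = cj h E ⊔ pCore p H := by
  rw [cj_sup, cj_eq_of_normal (N := pCore p H)]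

omit [Finite H] [Fact p.Prime] in
theorem Ctx.cj_hat_of_mem (C : Ctx p 𝒦) {E : Subgroup H} (hE : E ∈ 𝒦) {r : H}
    (hr : r ∈ sSup 𝒦 ⊔ pCore p H) : cj r (E ⊔ pCore p H) = E ⊔ pCore p H :=
  cj_eq_self_of_mem_normalizer (C.hnorm E hE hr)

omit [Finite H] [Fact p.Prime] in
theorem hat_le_Rh {E : Subgroup H} (hE : E ∈ 𝒦) :
    E ⊔ pCore p H ≤ sSup 𝒦 ⊔ pCore p H := sup_le_sup_right (le_sSup hE) _

theorem Ctx.top_eq (C : Ctx p 𝒦) (T : Sylow p H) :
    (sSup 𝒦 ⊔ pCore p H) ⊔ (T : Subgroup H) = ⊤ := by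
  rw [eq_top_iff, ← pResidual_sup_sylow T]
  exact sup_le_sup_right (C.hres.trans le_sup_left) _

theorem Ctx.exists_mul (C : Ctx p 𝒦) (T : Sylow p H) (h : H) :
    ∃ r ∈ sSup 𝒦 ⊔ pCore p H, ∃ t ∈ (T : Subgroup H), h = r * t := by
  have := C.Rh_normal
  have h1 : h ∈ (sSup 𝒦 ⊔ pCore p H) ⊔ (T : Subgroup H) := by rw [C.top_eq T]; trivial
  obtain ⟨r, hr, t, ht, rfl⟩ := Subgroup.mem_sup_of_normal_left.mp h1
  exact ⟨r, hr, t, ht, rfl⟩

theorem Ctx.exists_T_conj (C : Ctx p 𝒦) (T : Sylow p H) {E K : Subgroup H} (hE : E ∈ 𝒦)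
    (hK : K ∈ 𝒦) : ∃ t ∈ (T : Subgroup H), cj t E ∈ 𝒦 ∧ K ⊔ pCore p H = cj t (E ⊔ pCore p H) := by
  obtain ⟨h, rfl⟩ := C.htr E hE K hK
  obtain ⟨r, hr, t, ht, rfl⟩ := C.exists_mul T h
  refine ⟨t, ht, C.hinv t E hE, ?_⟩
  rw [cj_mul, ← cj_hat, C.cj_hat_of_mem (C.hinv t E hE) hr, cj_hat]

omit [Finite H] [Fact p.Prime] in
theorem T_inf_hat (T : Sylow p H) (E : Subgroup H) :
    (T : Subgroup H) ⊓ (E ⊔ pCore p H) = ((T : Subgroup H) ⊓ E) ⊔ pCore p H := by
  rw [inf_comm, dedekind_left (pCore_le_sylow T), inf_comm]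

theorem Ctx.not_dvd_Rh (C : Ctx p 𝒦) (T : Sylow p H) :
    ¬ p ∣ (T : Subgroup H).relIndex (sSup 𝒦 ⊔ pCore p H) :=
  haveI := C.Rh_normal
  not_dvd_relIndex_of_normal_top T

theorem Ctx.not_dvd_hat (C : Ctx p 𝒦) (T : Sylow p H) {E : Subgroup H} (hE : E ∈ 𝒦) :
    ¬ p ∣ (T : Subgroup H).relIndex (E ⊔ pCore p H) :=
  not_dvd_relIndex_of_normal T.2 (hat_le_Rh hE) (C.hnorm E hE) (C.not_dvd_Rh T)

theorem Ctx.not_dvd_mem (C : Ctx p 𝒦) (T : Sylow p H) {E : Subgroup H} (hE : E ∈ 𝒦) :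
    ¬ p ∣ (T : Subgroup H).relIndex E := by
  rw [← relIndex_sup_of_le (P := pCore p H) (pCore_le_sylow T)]
  exact C.not_dvd_hat T hE

/-! ### Part 1: `p`-minimality -/

/-- `M` is the largest proper subgroup of `A` containing `S` -/
def IsUM (S M A : Subgroup H) : Prop :=
  S ≤ M ∧ M < A ∧ ∀ X : Subgroup H, S ≤ X → X < A → X ≤ M

omit [Finite H] in
theorem IsUM.unique {S M M' A : Subgroup H} (h : IsUM S M A) (h' : IsUM S M' A) : M = M' :=
  le_antisymm (h'.2.2 M h.1 h.2.1) (h.2.2 M' h'.1 h'.2.1)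

omit [Finite H] in
theorem IsUM.conj {S M A : Subgroup H} (g : H) (h : IsUM S M A) :
    IsUM (cj g S) (cj g M) (cj g A) := by
  refine ⟨cj_mono h.1, ?_, ?_⟩
  · rw [lt_iff_le_and_ne]
    exact ⟨cj_mono h.2.1.le, fun e => h.2.1.ne (cj_injective g e)⟩
  · intro X hSX hXA
    have h1 : S ≤ cj g⁻¹ X := cj_le_iff.mp hSX
    have h2 : cj g⁻¹ X < A := by
      rw [lt_iff_le_and_ne]
      refine ⟨?_, ?_⟩
      · have := cj_mono (g := g⁻¹) hXA.le
        rwa [cj_inv_cj] at this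
      · intro e
        apply hXA.ne
        rw [← e, cj_cj_inv]
    have h3 := cj_le_iff.mp (h.2.2 _ h1 h2)
    rwa [inv_inv] at h3

theorem exists_isUM_of_isMinimalOver {E : Subgroup H} {Y : Subgroup ↥E} (hY : IsMinimalOver Y) :
    ∃ M : Subgroup H, IsUM (Y.map E.subtype) M E := by
  obtain ⟨M₀, ⟨hM₀, hYM₀⟩, huniq⟩ := hY.2
  refine ⟨M₀.map E.subtype, Subgroup.map_mono hYM₀, ?_, ?_⟩
  · rw [lt_iff_le_and_ne]
    refine ⟨Subgroup.map_subtype_le _, fun e => hM₀.1 ?_⟩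
    rw [eq_top_iff]
    intro x _
    have hx : (x : H) ∈ M₀.map E.subtype := by rw [e]; exact x.2
    obtain ⟨y, hy, hyx⟩ := hx
    have : y = x := Subtype.ext hyx
    rwa [← this]
  · intro X hYX hXE
    have hX' : X.subgroupOf E ≠ ⊤ := by
      intro e
      rw [Subgroup.subgroupOf_eq_top] at e
      exact (not_le_of_gt hXE) e
    obtain ⟨M', hM', hXM'⟩ := (eq_top_or_exists_le_coatom (X.subgroupOf E)).resolve_left hX'
    have hYM' : Y ≤ M' := by
      refine le_trans ?_ hXM'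
      rw [Subgroup.map_le_iff_le_comap] at hYX
      exact hYX
    have := huniq M' ⟨hM', hYM'⟩
    subst this
    calc X = (X.subgroupOf E).map E.subtype := (Subgroup.map_subgroupOf_eq_of_le hXE.le).symm
      _ ≤ _ := Subgroup.map_mono hXM'

omit [Finite H] in
theorem IsUM.hat {T E M P : Subgroup H} [P.Normal] (hPT : P ≤ T) (h : IsUM (T ⊓ E) M E) :
    IsUM (T ⊓ (E ⊔ P)) (M ⊔ P) (E ⊔ P) := by
  have hTE : T ⊓ (E ⊔ P) = (T ⊓ E) ⊔ P := by rw [inf_comm, dedekind_left hPT, inf_comm]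
  refine ⟨?_, ?_, ?_⟩
  · rw [hTE]; exact sup_le_sup_right h.1 P
  · rw [lt_iff_le_and_ne]
    refine ⟨sup_le_sup_right h.2.1.le P, fun e => h.2.1.ne ?_⟩
    apply le_antisymm h.2.1.le
    have h1 : (M ⊔ P) ⊓ E = M ⊔ (P ⊓ E) := dedekind_right h.2.1.le
    have h2 : E ≤ (M ⊔ P) ⊓ E := le_inf (e ▸ le_sup_left) le_rfl
    rw [h1] at h2
    exact h2.trans (sup_le le_rfl ((inf_le_inf_right E hPT).trans h.1))
  · intro X hSX hXA
    have hPX : P ≤ X := (le_inf hPT le_sup_right).trans hSX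
    have h1 : X = (E ⊓ X) ⊔ P := by
      rw [← dedekind_left hPX]; exact (inf_of_le_right hXA.le).symm
    have h2 : T ⊓ E ≤ E ⊓ X := le_inf inf_le_right ((inf_le_inf_left T le_sup_left).trans hSX)
    have h3 : E ⊓ X < E := by
      rw [lt_iff_le_and_ne]
      refine ⟨inf_le_left, fun e => hXA.ne ?_⟩
      exact le_antisymm hXA.le (sup_le (inf_eq_left.mp e) hPX)
    rw [h1]
    exact sup_le_sup_right (h.2.2 _ h2 h3) P

theorem part1 (C : Ctx p 𝒦)
    (hmin : ∀ E ∈ 𝒦, ∀ T : Sylow p ↥E, IsMinimalOver (T : Subgroup ↥E))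
    (T : Sylow p H) : IsMinimalOver (T : Subgroup H) := by
  -- Sylow subgroups of the members
  have hsyl : ∀ E ∈ 𝒦, IsMinimalOver ((T : Subgroup H).subgroupOf E) := by
    intro E hE
    have hTE : IsPGroup p ↥((T : Subgroup H).subgroupOf E) := T.2.comap_subtype
    have hidx : ¬ p ∣ ((T : Subgroup H).subgroupOf E).index := C.not_dvd_mem T hE
    have := hmin E hE (hTE.toSylow hidx)
    rwa [IsPGroup.toSylow_coe] at this
  have hPT : pCore p H ≤ (T : Subgroup H) := pCore_le_sylow T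
  -- normal closure
  have hNC : Subgroup.normalClosure ((T : Subgroup H) : Set H) = ⊤ := by
    have hTN : (T : Subgroup H) ≤ Subgroup.normalClosure ((T : Subgroup H) : Set H) :=
      Subgroup.le_normalClosure
    have hE : ∀ E ∈ 𝒦, E ≤ Subgroup.normalClosure ((T : Subgroup H) : Set H) := by
      intro E hE
      have h1 := (hsyl E hE).1
      have h2 : Subgroup.normalClosure ((((T : Subgroup H).subgroupOf E : Subgroup ↥E)) : Set ↥E) ≤
          (Subgroup.normalClosure ((T : Subgroup H) : Set H)).subgroupOf E :=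
        Subgroup.normalClosure_le_normal (fun x hx => hTN hx)
      rw [h1, top_le_iff, Subgroup.subgroupOf_eq_top] at h2
      exact h2
    rw [eq_top_iff, ← C.top_eq T]
    exact sup_le (sup_le (sSup_le hE) (hPT.trans hTN)) hTN
  refine ⟨hNC, ?_⟩
  -- the family of hats
  let KH : Set (Subgroup H) := {F | ∃ E ∈ 𝒦, F = E ⊔ pCore p H}
  have hKHinv : ∀ h : H, ∀ F ∈ KH, cj h F ∈ KH := by
    rintro h F ⟨E, hE, rfl⟩
    exact ⟨cj h E, C.hinv h E hE, cj_hat h E⟩
  have hKHR : ∀ F ∈ KH, ∀ r ∈ sSup 𝒦 ⊔ pCore p H, cj r F = F := by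
    rintro F ⟨E, hE, rfl⟩ r hr
    exact C.cj_hat_of_mem hE hr
  have hKHtr : ∀ F ∈ KH, ∀ F' ∈ KH, ∃ t ∈ (T : Subgroup H), F' = cj t F := by
    rintro F ⟨E, hE, rfl⟩ F' ⟨K, hK, rfl⟩
    obtain ⟨t, ht, -, h⟩ := C.exists_T_conj T hE hK
    exact ⟨t, ht, h⟩
  have hKHum : ∀ F ∈ KH, ∃ M, IsUM ((T : Subgroup H) ⊓ F) M F := by
    rintro F ⟨E, hE, rfl⟩
    obtain ⟨M, hM⟩ := exists_isUM_of_isMinimalOver (hsyl E hE)
    rw [Subgroup.subgroupOf_map_subtype] at hM
    exact ⟨M ⊔ pCore p H, hM.hat hPT⟩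
  have hKHtop : ∀ X : Subgroup H, (T : Subgroup H) ≤ X → ∀ F ∈ KH, F ≤ X → X = ⊤ := by
    intro X hTX F hF hFX
    have h1 : ∀ F' ∈ KH, F' ≤ X := by
      intro F' hF'
      obtain ⟨t, ht, rfl⟩ := hKHtr F hF F' hF'
      exact cj_le_of_mem hFX (hTX ht)
    rw [eq_top_iff, ← C.top_eq T]
    exact sup_le (sup_le (sSup_le fun E hE => le_sup_left.trans (h1 _ ⟨E, hE, rfl⟩))
      (hPT.trans hTX)) hTX
  have hKHnc : ∀ F ∈ KH, ∀ M, IsUM ((T : Subgroup H) ⊓ F) M F →
      ¬ F ≤ Subgroup.normalizer (M : Set H) := by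
    rintro F ⟨E, hE, rfl⟩ M hM hn
    have h1 := (hsyl E hE).1
    have hEn : E ≤ Subgroup.normalizer (M : Set H) := le_sup_left.trans hn
    have hMn : (M.subgroupOf E).Normal := Subgroup.normal_subgroupOf_of_le_normalizer hEn
    have h2 : Subgroup.normalClosure ((((T : Subgroup H).subgroupOf E : Subgroup ↥E)) : Set ↥E) ≤
        M.subgroupOf E :=
      Subgroup.normalClosure_le_normal (fun x hx =>
        hM.1 (Subgroup.mem_inf.mpr ⟨hx, (le_sup_left : E ≤ E ⊔ pCore p H) x.2⟩))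
    rw [h1, top_le_iff, Subgroup.subgroupOf_eq_top] at h2
    have hPM : pCore p H ≤ M := (le_inf hPT le_sup_right).trans hM.1
    exact (not_le_of_gt hM.2.1) (sup_le h2 hPM)
  -- the subgroup M*
  let Ms : Subgroup H :=
    { carrier := {h | ∀ F ∈ KH, ∀ M, IsUM ((T : Subgroup H) ⊓ F) M F →
        IsUM ((T : Subgroup H) ⊓ cj h F) (cj h M) (cj h F)}
      one_mem' := by
        intro F _ M hM
        rw [cj_one, cj_one]; exact hM
      mul_mem' := by
        intro a b ha hb F hF M hM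
        have h1 := hb F hF M hM
        have h2 := ha (cj b F) (hKHinv b F hF) (cj b M) h1
        rw [cj_mul, cj_mul]; exact h2
      inv_mem' := by
        intro a ha F hF M hM
        obtain ⟨M', hM'⟩ := hKHum (cj a⁻¹ F) (hKHinv a⁻¹ F hF)
        have h1 := ha _ (hKHinv a⁻¹ F hF) M' hM'
        rw [cj_cj_inv] at h1
        have h2 : cj a M' = M := h1.unique hM
        have h3 : M' = cj a⁻¹ M := by rw [← h2, cj_inv_cj]
        rw [← h3]; exact hM' }
  have hMs : ∀ h : H, h ∈ Ms ↔ ∀ F ∈ KH, ∀ M, IsUM ((T : Subgroup H) ⊓ F) M F →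
        IsUM ((T : Subgroup H) ⊓ cj h F) (cj h M) (cj h F) := fun h => Iff.rfl
  have hTMs : (T : Subgroup H) ≤ Ms := by
    intro t ht
    rw [hMs]
    intro F _ M hM
    have := hM.conj t
    rwa [cj_inf, cj_eq_self_of_mem ht] at this
  have hXR : ∀ X : Subgroup H, (T : Subgroup H) ≤ X → X ≠ ⊤ → X ⊓ (sSup 𝒦 ⊔ pCore p H) ≤ Ms := by
    intro X hTX hX y hy
    obtain ⟨hyX, hyR⟩ := Subgroup.mem_inf.mp hy
    rw [hMs]
    intro F hF M hM
    have hyF : cj y F = F := hKHR F hF y hyR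
    have h1 := hM.conj y
    rw [hyF] at h1 ⊢
    have hXF : X ⊓ F < F := by
      rw [lt_iff_le_and_ne]
      refine ⟨inf_le_right, fun e => hX (hKHtop X hTX F hF (inf_eq_right.mp e))⟩
    have h2 : (T : Subgroup H) ⊓ F ≤ X ⊓ F := inf_le_inf_right F hTX
    have h3 : cj y ((T : Subgroup H) ⊓ F) ≤ X ⊓ F := by
      refine le_inf (cj_le_of_mem (inf_le_left.trans hTX) hyX) ?_
      have := cj_mono (g := y) (inf_le_right : (T : Subgroup H) ⊓ F ≤ F)
      rwa [hyF] at this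
    have h4 : X ⊓ F ≤ M := hM.2.2 _ h2 hXF
    have h5 : X ⊓ F ≤ cj y M := h1.2.2 _ h3 hXF
    have h6 : M ≤ cj y M := h1.2.2 M (h3.trans h4) hM.2.1
    have h7 : cj y M ≤ M := hM.2.2 (cj y M) (h2.trans h5) h1.2.1
    have h8 : cj y M = M := le_antisymm h7 h6
    rw [h8]; exact hM
  have hXMs : ∀ X : Subgroup H, (T : Subgroup H) ≤ X → X ≠ ⊤ → X ≤ Ms := by
    intro X hTX hX x hx
    obtain ⟨r, hr, t, ht, rfl⟩ := C.exists_mul T x
    have hrX : r ∈ X := by
      have : r = (r * t) * t⁻¹ := by group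
      rw [this]
      exact X.mul_mem hx (X.inv_mem (hTX ht))
    exact Ms.mul_mem (hXR X hTX hX (Subgroup.mem_inf.mpr ⟨hrX, hr⟩)) (hTMs ht)
  have hMsne : Ms ≠ ⊤ := by
    intro e
    obtain ⟨E₀, hE₀⟩ := C.hne
    have hF₀ : E₀ ⊔ pCore p H ∈ KH := ⟨E₀, hE₀, rfl⟩
    obtain ⟨M₀, hM₀⟩ := hKHum _ hF₀
    apply hKHnc _ hF₀ M₀ hM₀
    apply le_normalizer_of_cj_le
    intro x hx
    have hxMs : x ∈ Ms := by rw [e]; trivial
    have h1 := (hMs x).mp hxMs _ hF₀ M₀ hM₀
    rw [cj_eq_self_of_mem hx] at h1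
    exact (h1.unique hM₀).le
  -- existence and uniqueness of the coatom
  have hTne : (T : Subgroup H) ≠ ⊤ := by
    intro e
    obtain ⟨E₀, hE₀⟩ := C.hne
    obtain ⟨M, ⟨hM, hTM⟩, -⟩ := (hsyl E₀ hE₀).2
    apply hM.1
    rw [eq_top_iff]
    refine le_trans ?_ hTM
    intro x _
    rw [Subgroup.mem_subgroupOf, e]
    trivial
  have hcoatom : ∀ M : Subgroup H, IsCoatom M → (T : Subgroup H) ≤ M → M = Ms := by
    intro M hM hTM
    have h1 : M ≤ Ms := hXMs M hTM hM.1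
    by_contra hne
    exact hMsne (hM.2 Ms (lt_of_le_of_ne h1 hne))
  obtain ⟨M₁, hM₁, hTM₁⟩ := (eq_top_or_exists_le_coatom (T : Subgroup H)).resolve_left hTne
  refine ⟨M₁, ⟨hM₁, hTM₁⟩, ?_⟩
  rintro M' ⟨hM', hTM'⟩
  rw [hcoatom M' hM' hTM', hcoatom M₁ hM₁ hTM₁]

/-! ### Part 2: `p`-irreducibility -/

omit [Finite H] [Fact p.Prime] in
theorem commutator_self_le (A : Subgroup H) : ⁅A, A⁆ ≤ A := by
  rw [Subgroup.commutator_le]
  intro x hx y hy
  rw [commutatorElement_def]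
  exact A.mul_mem (A.mul_mem (A.mul_mem hx hy) (A.inv_mem hx)) (A.inv_mem hy)

omit [Finite H] [Fact p.Prime] in
theorem Ctx.pCoreOf_mem_le (C : Ctx p 𝒦) {E : Subgroup H} (hE : E ∈ 𝒦) :
    pCoreOf p E ≤ pCore p H := by
  set Q := pCoreOf p E ⊔ pCore p H with hQ
  have hQp : IsPGroup p ↥Q :=
    (pCoreOf_isPGroup p E).to_sup_of_normal_right (pCore_isPGroup p H)
  have hQle : Q ≤ E ⊔ pCore p H := sup_le_sup_right (pCoreOf_le p E) _
  have hEn : E ≤ Subgroup.normalizer (Q : Set H) :=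
    le_normalizer_sup (Subgroup.le_normalizer.trans (normalizer_le_normalizer_pCoreOf p E))
      (by rw [Subgroup.normalizer_eq_top]; exact le_top)
  have hPn : pCore p H ≤ Subgroup.normalizer (Q : Set H) :=
    le_sup_right.trans Subgroup.le_normalizer
  have hsub : Q.IsSubnormal :=
    isSubnormal_of_chain hQle (sup_le hEn hPn) (hat_le_Rh hE) (C.hnorm E hE) C.Rh_normal
  exact le_sup_left.trans (le_pCore_of_isSubnormal_of_isPGroup hsub hQp)

theorem Ctx.hat_eq (C : Ctx p 𝒦) (T : Sylow p H) {E : Subgroup H} (hE : E ∈ 𝒦) :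
    opOf p (E ⊔ pCore p H) ⊔ ((T : Subgroup H) ⊓ (E ⊔ pCore p H)) = E ⊔ pCore p H :=
  opOf_sup_eq (T.2.to_le inf_le_left) inf_le_right
    (by rw [Subgroup.inf_relIndex_right]; exact C.not_dvd_hat T hE)

theorem Ctx.mem_eq (C : Ctx p 𝒦) (T : Sylow p H) {E : Subgroup H} (hE : E ∈ 𝒦) :
    opOf p E ⊔ ((T : Subgroup H) ⊓ E) = E :=
  opOf_sup_eq (T.2.to_le inf_le_left) inf_le_right
    (by rw [Subgroup.inf_relIndex_right]; exact C.not_dvd_mem T hE)

theorem Ctx.not_le_normalizer (C : Ctx p 𝒦) (T : Sylow p H) {E : Subgroup H} (hE : E ∈ 𝒦)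
    (hsi : IsStronglyPIrreducible p ↥E) :
    ¬ E ⊔ pCore p H ≤
      Subgroup.normalizer (((T : Subgroup H) ⊓ (E ⊔ pCore p H) : Subgroup H) : Set H) := by
  intro hn
  apply hsi.1
  apply isPClosed_of_le_normalizer (S := (T : Subgroup H) ⊓ E) (T.2.to_le inf_le_left)
  · rw [Subgroup.inf_relIndex_right]; exact C.not_dvd_mem T hE
  · have : (T : Subgroup H) ⊓ E = ((T : Subgroup H) ⊓ (E ⊔ pCore p H)) ⊓ E := by
      rw [inf_assoc, inf_of_le_right (le_sup_left : E ≤ E ⊔ pCore p H)]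
    rw [this]
    exact le_normalizer_inf (le_sup_left.trans hn) Subgroup.le_normalizer

/-- `E·O_p(H)` is strongly `p`-irreducible modulo `O_p(H)` -/
theorem Ctx.opOf_hat_le (C : Ctx p 𝒦) (T : Sylow p H) {E : Subgroup H} (hE : E ∈ 𝒦)
    (hsi : IsStronglyPIrreducible p ↥E) {N : Subgroup H} (hNle : N ≤ E ⊔ pCore p H)
    (hNn : E ⊔ pCore p H ≤ Subgroup.normalizer (N : Set H))
    (hN : ¬ ⁅N, E ⊔ pCore p H⁆ ≤ pCore p H) : opOf p (E ⊔ pCore p H) ≤ N := by
  have hPtop : ∀ X : Subgroup H, X ≤ Subgroup.normalizer ((pCore p H : Subgroup H) : Set H) :=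
    fun X => by rw [Subgroup.normalizer_eq_top]; exact le_top
  have hNP : N ⊔ pCore p H = ((N ⊔ pCore p H) ⊓ E) ⊔ pCore p H := by
    have := dedekind_left (E := E) (P := pCore p H) (X := N ⊔ pCore p H) le_sup_right
    rw [inf_of_le_right (sup_le hNle le_sup_right)] at this
    rw [inf_comm]; exact this
  have hEn1 : E ≤ Subgroup.normalizer ((((N ⊔ pCore p H) ⊓ E : Subgroup H)) : Set H) :=
    le_normalizer_inf (le_normalizer_sup (le_sup_left.trans hNn) (hPtop E)) Subgroup.le_normalizer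
  have hnorm1 : (((N ⊔ pCore p H) ⊓ E).subgroupOf E).Normal :=
    Subgroup.normal_subgroupOf_of_le_normalizer hEn1
  have hcomm : ¬ ⁅((N ⊔ pCore p H) ⊓ E).subgroupOf E, (⊤ : Subgroup ↥E)⁆ ≤ pCore p ↥E := by
    intro hc
    apply hN
    have h1 : ⁅(N ⊔ pCore p H) ⊓ E, E⁆ ≤ pCore p H := by
      have h2 := Subgroup.map_mono (f := E.subtype) hc
      rw [Subgroup.map_commutator, Subgroup.subgroupOf_map_subtype, inf_of_le_left inf_le_right,
        ← MonoidHom.range_eq_map, Subgroup.range_subtype] at h2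
      exact h2.trans (C.pCoreOf_mem_le hE)
    calc ⁅N, E ⊔ pCore p H⁆ ≤ ⁅N ⊔ pCore p H, E ⊔ pCore p H⁆ :=
          Subgroup.commutator_mono le_sup_left le_rfl
      _ = ⁅((N ⊔ pCore p H) ⊓ E) ⊔ pCore p H, E ⊔ pCore p H⁆ := by rw [← hNP]
      _ ≤ pCore p H := commutator_sup_sup_le_normal h1
  have h3 : pResidual p ↥E ≤ ((N ⊔ pCore p H) ⊓ E).subgroupOf E := hsi.2 _ hnorm1 hcomm
  have h4 : opOf p E ≤ N ⊔ pCore p H := by
    have := Subgroup.map_mono (f := E.subtype) h3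
    rw [Subgroup.subgroupOf_map_subtype] at this
    exact this.trans (inf_le_left.trans inf_le_left)
  have hPS : pCore p H ≤ (T : Subgroup H) ⊓ (E ⊔ pCore p H) :=
    le_inf (pCore_le_sylow T) le_sup_right
  have h5 : E ⊔ pCore p H ≤ N ⊔ ((T : Subgroup H) ⊓ (E ⊔ pCore p H)) := by
    have h6 : E ≤ N ⊔ ((T : Subgroup H) ⊓ (E ⊔ pCore p H)) := by
      conv_lhs => rw [← C.mem_eq T hE]
      exact sup_le (h4.trans (sup_le_sup_left hPS N))
        ((inf_le_inf_left _ le_sup_left).trans le_sup_right)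
    exact sup_le h6 (hPS.trans le_sup_right)
  rw [opOf_le_iff]
  intro x hx hco
  exact mem_of_coprime_of_mem_sup' (T.2.to_le inf_le_left) (inf_le_right.trans hNn) (h5 hx) hco

theorem Ctx.opOf_hat_le_commutator (C : Ctx p 𝒦) (T : Sylow p H) {E : Subgroup H} (hE : E ∈ 𝒦)
    (hsi : IsStronglyPIrreducible p ↥E) :
    opOf p (E ⊔ pCore p H) ≤ ⁅E ⊔ pCore p H, E ⊔ pCore p H⁆ := by
  have hSp : IsPGroup p ↥((T : Subgroup H) ⊓ (E ⊔ pCore p H)) := T.2.to_le inf_le_left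
  have hNle : ⁅E ⊔ pCore p H, E ⊔ pCore p H⁆ ⊔ ((T : Subgroup H) ⊓ (E ⊔ pCore p H)) ≤
      E ⊔ pCore p H := sup_le (commutator_self_le _) inf_le_right
  have hNn : E ⊔ pCore p H ≤ Subgroup.normalizer
      ((⁅E ⊔ pCore p H, E ⊔ pCore p H⁆ ⊔ ((T : Subgroup H) ⊓ (E ⊔ pCore p H)) : Subgroup H) : Set H) := by
    rw [Subgroup.le_normalizer_iff_commutator_le_left]
    exact (Subgroup.commutator_mono hNle le_rfl).trans le_sup_left
  have hcomm : ¬ ⁅⁅E ⊔ pCore p H, E ⊔ pCore p H⁆ ⊔ ((T : Subgroup H) ⊓ (E ⊔ pCore p H)),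
      E ⊔ pCore p H⁆ ≤ pCore p H := by
    intro hc
    apply C.not_le_normalizer T hE hsi
    rw [Subgroup.le_normalizer_iff_commutator_le_left]
    exact (Subgroup.commutator_mono le_sup_right le_rfl).trans
      (hc.trans (le_inf (pCore_le_sylow T) le_sup_right))
  have h1 := C.opOf_hat_le T hE hsi hNle hNn hcomm
  rw [opOf_le_iff]
  intro x hx hco
  have hx1 : x ∈ opOf p (E ⊔ pCore p H) := by
    rw [opOf_eq_closure]; exact Subgroup.subset_closure ⟨hx, hco⟩
  exact mem_of_coprime_of_mem_sup' hSp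
    (inf_le_right.trans (le_normalizer_commutator_self_left _ _)) (h1 hx1) hco

omit [Finite H] [Fact p.Prime] in
theorem opOf_le_opOf_of_le {A B : Subgroup H} (h : opOf p A ≤ B) : opOf p A ≤ opOf p B := by
  rw [opOf_le_iff]
  intro x hx hco
  have hx1 : x ∈ opOf p A := by
    rw [opOf_eq_closure]; exact Subgroup.subset_closure ⟨hx, hco⟩
  rw [opOf_eq_closure]
  exact Subgroup.subset_closure ⟨h hx1, hco⟩

/-- the pair claim -/
theorem Ctx.pair (C : Ctx p 𝒦) (T : Sylow p H) (hsi : ∀ E ∈ 𝒦, IsStronglyPIrreducible p ↥E)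
    {E K : Subgroup H} (hE : E ∈ 𝒦) (hK : K ∈ 𝒦) :
    opOf p (E ⊔ pCore p H) = opOf p (K ⊔ pCore p H) ∨
      ⁅E ⊔ pCore p H, K ⊔ pCore p H⁆ ≤ pCore p H := by
  have hPT : pCore p H ≤ (T : Subgroup H) := pCore_le_sylow T
  have hnP : ∀ X : Subgroup H, X ≤ Subgroup.normalizer ((pCore p H : Subgroup H) : Set H) :=
    fun X => by rw [Subgroup.normalizer_eq_top]; exact le_top
  have hcard : Nat.card (opOf p (E ⊔ pCore p H)) = Nat.card (opOf p (K ⊔ pCore p H)) := by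
    obtain ⟨t, -, -, h⟩ := C.exists_T_conj T hE hK
    rw [h, ← cj_opOf, card_cj]
  have hAP : pCore p H ≤ E ⊔ pCore p H := le_sup_right
  have hBP : pCore p H ≤ K ⊔ pCore p H := le_sup_right
  generalize hA : E ⊔ pCore p H = A at *
  generalize hB : K ⊔ pCore p H = B at *
  have hAR : A ≤ sSup 𝒦 ⊔ pCore p H := hA ▸ hat_le_Rh hE
  have hBR : B ≤ sSup 𝒦 ⊔ pCore p H := hB ▸ hat_le_Rh hK
  have hRA : sSup 𝒦 ⊔ pCore p H ≤ Subgroup.normalizer (A : Set H) := hA ▸ C.hnorm E hE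
  have hRB : sSup 𝒦 ⊔ pCore p H ≤ Subgroup.normalizer (B : Set H) := hB ▸ C.hnorm K hK
  have hAB : A ≤ Subgroup.normalizer (B : Set H) := hAR.trans hRB
  have hBA : B ≤ Subgroup.normalizer (A : Set H) := hBR.trans hRA
  have hAN : A ≤ Subgroup.normalizer ((A ⊓ B : Subgroup H) : Set H) :=
    le_normalizer_inf Subgroup.le_normalizer hAB
  have hBN : B ≤ Subgroup.normalizer ((A ⊓ B : Subgroup H) : Set H) :=
    le_normalizer_inf hBA Subgroup.le_normalizer
  have hOA : ∀ N : Subgroup H, N ≤ A → A ≤ Subgroup.normalizer (N : Set H) →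
      ¬ ⁅N, A⁆ ≤ pCore p H → opOf p A ≤ N := by
    intro N h1 h2 h3
    subst hA
    exact C.opOf_hat_le T hE (hsi E hE) h1 h2 h3
  have hOB : ∀ N : Subgroup H, N ≤ B → B ≤ Subgroup.normalizer (N : Set H) →
      ¬ ⁅N, B⁆ ≤ pCore p H → opOf p B ≤ N := by
    intro N h1 h2 h3
    subst hB
    exact C.opOf_hat_le T hK (hsi K hK) h1 h2 h3
  have hOAc : opOf p A ≤ ⁅A, A⁆ := by
    subst hA; exact C.opOf_hat_le_commutator T hE (hsi E hE)
  have hOBc : opOf p B ≤ ⁅B, B⁆ := by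
    subst hB; exact C.opOf_hat_le_commutator T hK (hsi K hK)
  have hAeq : opOf p A ⊔ ((T : Subgroup H) ⊓ A) = A := by
    subst hA; exact C.hat_eq T hE
  have hBeq : opOf p B ⊔ ((T : Subgroup H) ⊓ B) = B := by
    subst hB; exact C.hat_eq T hK
  by_cases h1 : ⁅A ⊓ B, A⁆ ≤ pCore p H
  swap
  · left
    have h2 : opOf p A ≤ opOf p B :=
      opOf_le_opOf_of_le ((hOA _ inf_le_left hAN h1).trans inf_le_right)
    exact Subgroup.eq_of_le_of_card_ge h2 hcard.symm.le
  by_cases h2 : ⁅A ⊓ B, B⁆ ≤ pCore p H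
  swap
  · left
    have h3 : opOf p B ≤ opOf p A :=
      opOf_le_opOf_of_le ((hOB _ inf_le_right hBN h2).trans inf_le_left)
    exact (Subgroup.eq_of_le_of_card_ge h3 hcard.le).symm
  right
  have hcAB : ⁅A, B⁆ ≤ A ⊓ B :=
    le_inf (Subgroup.le_normalizer_iff_commutator_le_left.mp hBA)
      (Subgroup.le_normalizer_iff_commutator_le_right.mp hAB)
  have hcBA : ⁅B, A⁆ ≤ A ⊓ B := by rw [Subgroup.commutator_comm]; exact hcAB
  have t1 : ⁅⁅A, A⁆, B⁆ ≤ pCore p H :=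
    three_subgroups_mod (hnP A) (hnP A) (hnP B)
      ((Subgroup.commutator_mono hcAB le_rfl).trans h1)
      ((Subgroup.commutator_mono hcBA le_rfl).trans h1)
  have t2 : ⁅⁅B, B⁆, A⁆ ≤ pCore p H :=
    three_subgroups_mod (hnP B) (hnP B) (hnP A)
      ((Subgroup.commutator_mono hcBA le_rfl).trans h2)
      ((Subgroup.commutator_mono hcAB le_rfl).trans h2)
  have hOAB : ⁅opOf p A, B⁆ ≤ pCore p H := (Subgroup.commutator_mono hOAc le_rfl).trans t1
  have hOBA : ⁅opOf p B, A⁆ ≤ pCore p H := (Subgroup.commutator_mono hOBc le_rfl).trans t2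
  have hPW : pCore p H ≤ (T : Subgroup H) ⊓ (A ⊓ B) := le_inf hPT (le_inf hAP hBP)
  have hAW : A ≤ Subgroup.normalizer ((((T : Subgroup H) ⊓ (A ⊓ B) : Subgroup H)) : Set H) := by
    rw [Subgroup.le_normalizer_iff_commutator_le_left]
    exact (Subgroup.commutator_mono inf_le_right le_rfl).trans (h1.trans hPW)
  have hBW : B ≤ Subgroup.normalizer ((((T : Subgroup H) ⊓ (A ⊓ B) : Subgroup H)) : Set H) := by
    rw [Subgroup.le_normalizer_iff_commutator_le_left]
    exact (Subgroup.commutator_mono inf_le_right le_rfl).trans (h2.trans hPW)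
  have hSS : ⁅(T : Subgroup H) ⊓ B, (T : Subgroup H) ⊓ A⁆ ≤ (T : Subgroup H) ⊓ (A ⊓ B) :=
    le_inf ((Subgroup.commutator_mono inf_le_left inf_le_left).trans (commutator_self_le _))
      ((Subgroup.commutator_mono inf_le_right inf_le_right).trans hcBA)
  have s1 : ⁅B, (T : Subgroup H) ⊓ A⁆ ≤ (T : Subgroup H) ⊓ (A ⊓ B) := by
    conv_lhs => rw [← hBeq]
    exact commutator_sup_le ((opOf_le p B).trans hBW) (inf_le_right.trans hBW)
      ((Subgroup.commutator_mono le_rfl inf_le_right).trans (hOBA.trans hPW)) hSS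
  have s2 : ⁅A, B⁆ ≤ (T : Subgroup H) ⊓ (A ⊓ B) := by
    conv_lhs => rw [← hAeq]
    refine commutator_sup_le ((opOf_le p A).trans hAW) (inf_le_right.trans hAW)
      (hOAB.trans hPW) ?_
    rw [Subgroup.commutator_comm]; exact s1
  have hp : IsPGroup p ↥⁅A, B⁆ := T.2.to_le (s2.trans inf_le_left)
  have hsub : (⁅A, B⁆ : Subgroup H).IsSubnormal :=
    isSubnormal_of_chain2 ((hcAB.trans inf_le_left).trans hAR)
      ((le_inf hRA hRB).trans (normalizer_inf_normalizer_le_normalizer_commutator A B))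
      C.Rh_normal
  exact le_pCore_of_isSubnormal_of_isPGroup hsub hp

theorem part2 (C : Ctx p 𝒦) (hsi : ∀ E ∈ 𝒦, IsStronglyPIrreducible p ↥E) :
    IsPIrreducible p H ∧ ∀ E ∈ 𝒦, ∀ K ∈ 𝒦,
      opOf p (E ⊔ pCore p H) = opOf p (K ⊔ pCore p H) ∨ ⁅E, K⁆ ≤ pCore p H := by
  obtain ⟨T⟩ : Nonempty (Sylow p H) := inferInstance
  have hPT : pCore p H ≤ (T : Subgroup H) := pCore_le_sylow T
  have hnP : ∀ X : Subgroup H, X ≤ Subgroup.normalizer ((pCore p H : Subgroup H) : Set H) :=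
    fun X => by rw [Subgroup.normalizer_eq_top]; exact le_top
  have hRn : (sSup 𝒦 ⊔ pCore p H).Normal := C.Rh_normal
  refine ⟨⟨?_, ?_⟩, ?_⟩
  · -- `H` is not `p`-closed
    intro hc
    obtain ⟨E₀, hE₀⟩ := C.hne
    have hTn : (T : Subgroup H).Normal := hc T
    apply C.not_le_normalizer T hE₀ (hsi E₀ hE₀)
    exact le_normalizer_inf (by rw [Subgroup.normalizer_eq_top]; exact le_top)
      Subgroup.le_normalizer
  · -- normal subgroups that are not `p`-closed
    intro N hNn hNc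
    have hnN : ∀ X : Subgroup H, X ≤ Subgroup.normalizer ((N : Subgroup H) : Set H) :=
      fun X => by rw [Subgroup.normalizer_eq_top]; exact le_top
    by_contra hcon
    apply hNc
    by_cases hall : ∀ E ∈ 𝒦, opOf p (E ⊔ pCore p H) ≤ N
    · exfalso
      apply hcon
      apply pResidual_le_of_sup_eq_top T.2
      rw [eq_top_iff, ← C.top_eq T]
      refine sup_le (sup_le (sSup_le fun E hE =>
        (le_sup_left : E ≤ E ⊔ pCore p H).trans ?_) (hPT.trans le_sup_right)) le_sup_right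
      rw [← C.hat_eq T hE]
      exact sup_le ((hall E hE).trans le_sup_left) (inf_le_left.trans le_sup_right)
    push Not at hall
    obtain ⟨E₀, hE₀, hE₀not⟩ := hall
    have hnone : ∀ E ∈ 𝒦, ¬ opOf p (E ⊔ pCore p H) ≤ N := by
      intro E hE hle
      obtain ⟨t, -, -, h⟩ := C.exists_T_conj T hE hE₀
      apply hE₀not
      rw [h, ← cj_opOf, cj_le_iff, cj_eq_of_normal]
      exact hle
    -- Step 1
    have h1 : ∀ E ∈ 𝒦, ⁅N ⊓ (E ⊔ pCore p H), E ⊔ pCore p H⁆ ≤ pCore p H := by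
      intro E hE
      by_contra hc
      exact hnone E hE ((C.opOf_hat_le T hE (hsi E hE) inf_le_right
        (le_normalizer_inf (hnN _) Subgroup.le_normalizer) hc).trans inf_le_left)
    -- Steps 2, 3
    have hN₁n : (N ⊓ (sSup 𝒦 ⊔ pCore p H)).Normal := inferInstance
    have h2 : ∀ E ∈ 𝒦, ⁅N ⊓ (sSup 𝒦 ⊔ pCore p H), E ⊔ pCore p H⁆ ≤ N ⊓ (E ⊔ pCore p H) := by
      intro E hE
      exact le_inf ((Subgroup.commutator_mono inf_le_left le_rfl).trans
        (Subgroup.commutator_le_left N _))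
        ((Subgroup.commutator_mono inf_le_right le_rfl).trans
          (Subgroup.le_normalizer_iff_commutator_le_right.mp (C.hnorm E hE)))
    have h3 : ∀ E ∈ 𝒦, ⁅opOf p (E ⊔ pCore p H), N ⊓ (sSup 𝒦 ⊔ pCore p H)⁆ ≤ pCore p H := by
      intro E hE
      have t1 : ⁅⁅E ⊔ pCore p H, E ⊔ pCore p H⁆, N ⊓ (sSup 𝒦 ⊔ pCore p H)⁆ ≤ pCore p H := by
        apply three_subgroups_mod (hnP _) (hnP _) (hnP _)
        · rw [Subgroup.commutator_comm (E ⊔ pCore p H)]
          exact (Subgroup.commutator_mono (h2 E hE) le_rfl).trans (h1 E hE)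
        · exact (Subgroup.commutator_mono (h2 E hE) le_rfl).trans (h1 E hE)
      exact (Subgroup.commutator_mono (C.opOf_hat_le_commutator T hE (hsi E hE)) le_rfl).trans t1
    -- Step 4: the subgroup `D`
    set 𝒟 : Set (Subgroup H) := {A | ∃ E ∈ 𝒦, A = opOf p (E ⊔ pCore p H)} ∪ {pCore p H} with h𝒟
    have hOD : ∀ E ∈ 𝒦, opOf p (E ⊔ pCore p H) ≤ sSup 𝒟 :=
      fun E hE => le_sSup (Or.inl ⟨E, hE, rfl⟩)
    have hPD : pCore p H ≤ sSup 𝒟 := le_sSup (Or.inr rfl)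
    have hDn : (sSup 𝒟).Normal := by
      apply normal_of_cj_le
      intro g
      rw [cj_def, Subgroup.map_le_iff_le_comap]
      apply sSup_le
      intro A hA
      rw [← Subgroup.map_le_iff_le_comap]
      rcases hA with ⟨E, hE, rfl⟩ | rfl
      · have : cj g (opOf p (E ⊔ pCore p H)) = opOf p (cj g E ⊔ pCore p H) := by
          rw [cj_opOf, cj_hat]
        show cj g (opOf p (E ⊔ pCore p H)) ≤ sSup 𝒟
        rw [this]
        exact hOD _ (C.hinv g E hE)
      · show cj g (pCore p H) ≤ sSup 𝒟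
        rw [cj_eq_of_normal]; exact hPD
    have hnD : ∀ X : Subgroup H, X ≤ Subgroup.normalizer ((sSup 𝒟 : Subgroup H) : Set H) :=
      fun X => by rw [Subgroup.normalizer_eq_top]; exact le_top
    have hRD : sSup 𝒦 ⊔ pCore p H ≤ sSup 𝒟 ⊔ ((T : Subgroup H) ⊓ (sSup 𝒦 ⊔ pCore p H)) := by
      refine sup_le (sSup_le fun E hE => (le_sup_left : E ≤ E ⊔ pCore p H).trans ?_)
        (hPD.trans le_sup_left)
      rw [← C.hat_eq T hE]
      exact sup_le ((hOD E hE).trans le_sup_left)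
        ((inf_le_inf_left _ (hat_le_Rh hE)).trans le_sup_right)
    have hcoH : ∀ x : H, Nat.Coprime (orderOf x) p → x ∈ sSup 𝒟 := by
      intro x hco
      have hxR : x ∈ sSup 𝒦 ⊔ pCore p H :=
        (C.hres.trans le_sup_left) (mem_pResidual_of_coprime hco)
      exact mem_of_coprime_of_mem_sup' (T.2.to_le inf_le_left) (hnD _) (hRD hxR) hco
    -- Step 5
    have h5 : ⁅sSup 𝒟, N ⊓ (sSup 𝒦 ⊔ pCore p H)⁆ ≤ pCore p H := by
      apply commutator_sSup_le
      intro A hA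
      refine ⟨hnP A, ?_⟩
      rcases hA with ⟨E, hE, rfl⟩ | rfl
      · exact h3 E hE
      · exact Subgroup.commutator_le_left _ _
    -- Step 6
    have h6 : (T : Subgroup H) ⊓ (N ⊓ (sSup 𝒦 ⊔ pCore p H)) ≤ pCore p H := by
      have hidx : ¬ p ∣ (T : Subgroup H).relIndex (N ⊓ (sSup 𝒦 ⊔ pCore p H)) :=
        not_dvd_relIndex_of_normal_top T
      have hSp : IsPGroup p ↥((T : Subgroup H) ⊓ (N ⊓ (sSup 𝒦 ⊔ pCore p H))) :=
        T.2.to_le inf_le_left
      have heq : opOf p (N ⊓ (sSup 𝒦 ⊔ pCore p H)) ⊔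
          ((T : Subgroup H) ⊓ (N ⊓ (sSup 𝒦 ⊔ pCore p H))) = N ⊓ (sSup 𝒦 ⊔ pCore p H) :=
        opOf_sup_eq hSp inf_le_right (by rw [Subgroup.inf_relIndex_right]; exact hidx)
      have hOD₁ : opOf p (N ⊓ (sSup 𝒦 ⊔ pCore p H)) ≤ sSup 𝒟 := by
        rw [opOf_le_iff]; intro x _ hco; exact hcoH x hco
      have hcomm : ⁅opOf p (N ⊓ (sSup 𝒦 ⊔ pCore p H)),
          (T : Subgroup H) ⊓ (N ⊓ (sSup 𝒦 ⊔ pCore p H))⁆ ≤
          (T : Subgroup H) ⊓ (N ⊓ (sSup 𝒦 ⊔ pCore p H)) :=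
        le_inf ((Subgroup.commutator_mono hOD₁ inf_le_right).trans (h5.trans hPT))
          ((Subgroup.commutator_mono (opOf_le p _) inf_le_right).trans (commutator_self_le _))
      have hn₁ : N ⊓ (sSup 𝒦 ⊔ pCore p H) ≤ Subgroup.normalizer
          ((((T : Subgroup H) ⊓ (N ⊓ (sSup 𝒦 ⊔ pCore p H)) : Subgroup H)) : Set H) := by
        conv_lhs => rw [← heq]
        exact sup_le (Subgroup.le_normalizer_iff_commutator_le_right.mpr hcomm)
          Subgroup.le_normalizer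
      exact le_pCore_of_isSubnormal_of_isPGroup (isSubnormal_of_chain2 inf_le_right hn₁ hN₁n) hSp
    -- Step 7
    have h7 : ∀ E ∈ 𝒦, (T : Subgroup H) ⊓ N ≤
        Subgroup.normalizer ((E ⊔ pCore p H : Subgroup H) : Set H) := by
      intro E hE
      have hPS : pCore p H ≤ (T : Subgroup H) ⊓ (E ⊔ pCore p H) := le_inf hPT le_sup_right
      have hnS : (T : Subgroup H) ⊓ N ≤ Subgroup.normalizer
          ((((T : Subgroup H) ⊓ (E ⊔ pCore p H) : Subgroup H)) : Set H) := by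
        rw [Subgroup.le_normalizer_iff_commutator_le_right]
        refine le_trans (le_trans ?_ h6) hPS
        refine le_inf ((Subgroup.commutator_mono inf_le_left inf_le_left).trans
          (commutator_self_le _)) (le_inf ?_ ?_)
        · exact (Subgroup.commutator_mono inf_le_right le_rfl).trans
            (Subgroup.commutator_le_left N _)
        · exact (Subgroup.commutator_mono le_rfl (inf_le_right.trans (hat_le_Rh hE))).trans
            (Subgroup.commutator_le_right _ _)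
      apply le_normalizer_of_cj_le
      intro s hs
      have hK : cj s E ∈ 𝒦 := C.hinv s E hE
      have hsT : cj s (T : Subgroup H) = (T : Subgroup H) :=
        cj_eq_self_of_mem (Subgroup.mem_inf.mp hs).1
      have hTK : (T : Subgroup H) ⊓ (cj s E ⊔ pCore p H) = (T : Subgroup H) ⊓ (E ⊔ pCore p H) := by
        rw [← cj_hat, ← hsT, ← cj_inf, hsT, cj_eq_self_of_mem_normalizer (hnS hs)]
      rw [cj_hat]
      rcases C.pair T hsi hE hK with h | h
      · rw [← C.hat_eq T hK, hTK, ← h, C.hat_eq T hE]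
      · exfalso
        apply C.not_le_normalizer T hE (hsi E hE)
        rw [Subgroup.le_normalizer_iff_commutator_le_left]
        refine le_trans ?_ (h.trans hPS)
        rw [Subgroup.commutator_comm]
        refine Subgroup.commutator_mono le_rfl ?_
        rw [← hTK]; exact inf_le_right
    -- Step 8
    have h8 : ⁅sSup 𝒟, (T : Subgroup H) ⊓ N⁆ ≤ pCore p H := by
      apply commutator_sSup_le
      intro A hA
      refine ⟨hnP A, ?_⟩
      rcases hA with ⟨E, hE, rfl⟩ | rfl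
      · have h9 : ⁅(T : Subgroup H) ⊓ N, E ⊔ pCore p H⁆ ≤ N ⊓ (E ⊔ pCore p H) :=
          le_inf ((Subgroup.commutator_mono inf_le_right le_rfl).trans
            (Subgroup.commutator_le_left N _))
            (Subgroup.le_normalizer_iff_commutator_le_right.mp (h7 E hE))
        have t1 : ⁅⁅E ⊔ pCore p H, E ⊔ pCore p H⁆, (T : Subgroup H) ⊓ N⁆ ≤ pCore p H := by
          apply three_subgroups_mod (hnP _) (hnP _) (hnP _)
          · rw [Subgroup.commutator_comm (E ⊔ pCore p H)]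
            exact (Subgroup.commutator_mono h9 le_rfl).trans (h1 E hE)
          · exact (Subgroup.commutator_mono h9 le_rfl).trans (h1 E hE)
        exact (Subgroup.commutator_mono (C.opOf_hat_le_commutator T hE (hsi E hE)) le_rfl).trans t1
      · exact Subgroup.commutator_le_left _ _
    -- Step 9
    have hidxN : ¬ p ∣ (T : Subgroup H).relIndex N := not_dvd_relIndex_of_normal_top T
    have hSp : IsPGroup p ↥((T : Subgroup H) ⊓ N) := T.2.to_le inf_le_left
    have heq : opOf p N ⊔ ((T : Subgroup H) ⊓ N) = N :=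
      opOf_sup_eq hSp inf_le_right (by rw [Subgroup.inf_relIndex_right]; exact hidxN)
    have hOND : opOf p N ≤ sSup 𝒟 := by
      rw [opOf_le_iff]; intro x _ hco; exact hcoH x hco
    have hcomm : ⁅opOf p N, (T : Subgroup H) ⊓ N⁆ ≤ (T : Subgroup H) ⊓ N :=
      le_inf ((Subgroup.commutator_mono hOND le_rfl).trans (h8.trans hPT))
        ((Subgroup.commutator_mono (opOf_le p _) inf_le_right).trans (commutator_self_le _))
    have hnN' : N ≤ Subgroup.normalizer ((((T : Subgroup H) ⊓ N : Subgroup H)) : Set H) := by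
      conv_lhs => rw [← heq]
      exact sup_le (Subgroup.le_normalizer_iff_commutator_le_right.mpr hcomm)
        Subgroup.le_normalizer
    exact isPClosed_of_le_normalizer hSp (by rw [Subgroup.inf_relIndex_right]; exact hidxN) hnN'
  · intro E hE K hK
    rcases C.pair T hsi hE hK with h | h
    · exact Or.inl h
    · exact Or.inr ((Subgroup.commutator_mono le_sup_left le_sup_left).trans h)

end Main

/-- Let H be a finite group, p a prime, and 𝒦 a nonempty set of subgroups of H permuted transitively by conjugation, with R the subgroup generated by the members of 𝒦. Suppose O^p(H) ≤ R, each E ∈ 𝒦 has E·O_p(H) normal in R·O_p(H), and each E ∈ 𝒦 is p-minimal (generated by the conjugates of a Sylow p-subgroup T_E of E, with T_E in exactly one maximal subgroup of E). Then H is p-minimal in the same sense. If instead each E ∈ 𝒦 is strongly p-irreducible, then H is p-irreducible and, for E, K ∈ 𝒦, either O^p(E·O_p(H)) = O^p(K·O_p(H))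 or [E, K] ≤ O_p(H). -/
theorem result {H : Type*} [Group H] [Finite H] {p : ℕ} [Fact p.Prime] (𝒦 : Set (Subgroup H)) (hne : 𝒦.Nonempty) (hinv : ∀ h : H, ∀ E ∈ 𝒦, E.map (MulAut.conj h).toMonoidHom ∈ 𝒦) (htr : ∀ E ∈ 𝒦, ∀ K ∈ 𝒦, ∃ h : H, K = E.map (MulAut.conj h).toMonoidHom) (hres : Cfsg.pResidual p H ≤ sSup 𝒦) (hnorm : ∀ E ∈ 𝒦, sSup 𝒦 ⊔ Cfsg.pCore p H ≤ Subgroup.normalizer ((E ⊔ Cfsg.pCore p H : Subgroup H) : Set H)) : ((∀ E ∈ 𝒦, ∀ T : Sylow p ↥E, Cfsg.IsMinimalOver (T : Subgroup ↥E)) → ∀ T : Sylow p H, Cfsg.IsMinimalOver (T : Subgroup H)) ∧ ((∀ E ∈ 𝒦, Cfsg.IsStronglyPIrreducible p ↥E) → Cfsg.IsPIrreducible p H ∧ ∀ E ∈ 𝒦, ∀ K ∈ 𝒦, (Cfsg.pResidual p ↥(E ⊔ Cfsg.pCore p H)).map (E ⊔ Cfsg.pCore p H).subtype = (Cfsg.pResidual p ↥(K ⊔ Cfsg.pCore p H)).map (K ⊔ Cfsg.pCore p H).subtype ∨ ⁅E, K⁆ ≤ Cfsg.pCore p H) := by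
  have C : Ctx p 𝒦 := ⟨hne, hinv, htr, hres, hnorm⟩
  exact ⟨fun hmin T => part1 C hmin T, fun hsi => part2 C hsi⟩

end Cfsg.Agent.S2855
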