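import Cfsg.Statements.S2857
import Cfsg.Agent.Lib.Helper48.AmalgamV

set_option autoImplicit false
open Cfsg

namespace Cfsg.Agent.S2857

open Cfsg.Agent.Lib.Helper46 Cfsg.Agent.Lib.Helper48

/-- Let (M₁, M₂) be an amalgam pair in X satisfying the rank-two standing hypothesis (characteristic p, the normalizers in M₁ and in M₂ of a Sylow p-subgroup of M₁ ∩ M₂ equal and contained in M₁ ∩ M₂, and strongly p-embedded residues), λ a vertex of the coset graph, L_λ the subgroup of its stabilizer generated by the p-elements, Q_λ = O_p of the stabilizer, O^p(L_λ) the subgroup of L_λ generated by its elements of order prime to p, and V_λ^{(k)} the subgroup generated by the Z_μ over the vertices μ at distance at most k from λ (Z_μ being generated by the Ω₁(Z(S)), S a Sylow p-subgroup of the stabilizer of μ). If n ≥ 2 and V_λ^{(n)} ≤ Q_λ, then O^p(L_λ) does not centralize V_λ^{(n)}/V_λ^{(n-2)}, that is, [V_λ^{(n)}, O^p(L_λ)] is not contained in V_λ^{(n-2)}. -/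
theorem result {X : Type*} [Group X] {p : ℕ} [Fact p.Prime] (M₁ M₂ : Subgroup X) (h : Cfsg.IsSpeAmalgamPair p M₁ M₂) (lam : Cfsg.CosetVertex M₁ M₂) (n : ℕ) (hn : 2 ≤ n) (hVQ : Cfsg.vertexVIter p M₁ M₂ n lam ≤ Cfsg.vertexQ p lam) : ¬ ⁅Cfsg.vertexVIter p M₁ M₂ n lam, ((Cfsg.pResidual p ↥(Cfsg.pElementClosure p (MulAction.stabilizer X lam))).map (Cfsg.pElementClosure p (MulAction.stabilizer X lam)).subtype)⁆ ≤ Cfsg.vertexVIter p M₁ M₂ (n - 2) lam := by
  intro hcon
  obtain ⟨μ, hadj⟩ := cg_exists_adj lam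
  obtain ⟨S⟩ := (inferInstance : Nonempty (Sylow p ↥(Cfsg.edgeStabilizer lam μ)))
  have hT : IsSylIn p ((S : Subgroup ↥(Cfsg.edgeStabilizer lam μ)).map (Cfsg.edgeStabilizer lam μ).subtype)
      (Cfsg.edgeStabilizer lam μ) := ⟨S, rfl⟩
  have hconn := cg_connected_of_charp h.1
  have hd1 : (Cfsg.cosetGraph M₁ M₂).dist lam μ = 1 := SimpleGraph.dist_eq_one_iff_adj.mpr hadj
  refine vIter_key h lam μ hadj _ hT n (by omega) hVQ (hcon.trans (le_trans ?_ le_sup_left))
  rw [vIter_le_iff]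
  intro ν hν
  apply vertexZ_le_vIter
  have h1 := hconn.dist_triangle (u := μ) (v := lam) (w := ν)
  have h2 : (Cfsg.cosetGraph M₁ M₂).dist μ lam = 1 := by rw [SimpleGraph.dist_comm]; exact hd1
  omega

end Cfsg.Agent.S2857
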