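import Cfsg.Statements.S2860
import Cfsg.Agent.Lib.Helper47.LargeQS
import Cfsg.Agent.Lib.Helper47.Large
import Cfsg.Agent.Lib.Helper47.BasicProperty
import Cfsg.Agent.Lib.Helper97.Cores

set_option autoImplicit false
open Cfsg

namespace Cfsg.Agent.S2860

open Cfsg.Agent.Lib.Helper47

section Aux

variable {G : Type*} [Group G]

/-- `O^p` commutes with restriction to an overgroup. -/
theorem opOf_subgroupOf (p : ℕ) {B E : Subgroup G} (hBE : B ≤ E) :
    (opOf p B).subgroupOf E = opOf p (B.subgroupOf E) := by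
  apply Subgroup.map_injective E.subtype_injective
  rw [Subgroup.subgroupOf_map_subtype, inf_of_le_left ((opOf_le p B).trans hBE),
    opOf_eq_closure p (B.subgroupOf E), MonoidHom.map_closure, opOf_eq_closure]
  congr 1
  ext g
  constructor
  · rintro ⟨hgB, hco⟩
    refine ⟨⟨g, hBE hgB⟩, ⟨Subgroup.mem_subgroupOf.mpr hgB, ?_⟩, rfl⟩
    have := Subgroup.orderOf_coe (⟨g, hBE hgB⟩ : ↥E)
    simp only at this
    rwa [← this]
  · rintro ⟨x, ⟨hxB, hco⟩, rfl⟩
    refine ⟨Subgroup.mem_subgroupOf.mp hxB, ?_⟩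
    change Nat.Coprime (orderOf (x : G)) p
    rwa [Subgroup.orderOf_coe]

theorem weakClosure_le (Q E : Subgroup G) : weakClosure Q E ≤ E :=
  iSup_le fun g => g.2

theorem map_conj_le_weakClosure (Q E : Subgroup G) {g : G}
    (hg : Q.map (MulAut.conj g).toMonoidHom ≤ E) :
    Q.map (MulAut.conj g).toMonoidHom ≤ weakClosure Q E :=
  le_iSup (fun g : {g : G // Q.map (MulAut.conj g).toMonoidHom ≤ E} =>
    Q.map (MulAut.conj (g : G)).toMonoidHom) ⟨g, hg⟩

theorem le_normalizer_weakClosure (Q E : Subgroup G) :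
    E ≤ Subgroup.normalizer ((weakClosure Q E : Subgroup G) : Set G) := by
  apply le_normalizer_of_forall_map_conj_le
  intro e he
  unfold weakClosure
  rw [Subgroup.map_iSup]
  apply iSup_le
  intro g
  rw [map_conj_map_conj]
  have h1 : Q.map (MulAut.conj (e * (g : G))).toMonoidHom ≤ E := by
    rw [← map_conj_map_conj]
    rintro x ⟨y, hy, rfl⟩
    have hyE : y ∈ E := g.2 hy
    change e * y * e⁻¹ ∈ E
    exact E.mul_mem (E.mul_mem he hyE) (E.inv_mem he)
  exact le_iSup (fun g : {g : G // Q.map (MulAut.conj g).toMonoidHom ≤ E} =>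
    Q.map (MulAut.conj (g : G)).toMonoidHom) ⟨e * (g : G), h1⟩

/-- Transport of a quasisimple quotient from `A.subgroupOf E` to `A`. -/
theorem isQuasisimple_transport {A E C : Subgroup G} (hAE : A ≤ E)
    [hn1 : ((C.subgroupOf E).subgroupOf (A.subgroupOf E)).Normal] [hn2 : (C.subgroupOf A).Normal]
    (h : IsQuasisimple (↥(A.subgroupOf E) ⧸ (C.subgroupOf E).subgroupOf (A.subgroupOf E))) :
    IsQuasisimple (↥A ⧸ C.subgroupOf A) := by
  have he : ((C.subgroupOf E).subgroupOf (A.subgroupOf E)).map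
      (Subgroup.subgroupOfEquivOfLe hAE : ↥(A.subgroupOf E) →* ↥A) = C.subgroupOf A := by
    ext a
    constructor
    · rintro ⟨y, hy, rfl⟩
      rw [Subgroup.mem_subgroupOf]
      exact hy
    · intro ha
      refine ⟨(Subgroup.subgroupOfEquivOfLe hAE).symm a, ?_, by simp⟩
      rw [SetLike.mem_coe, Subgroup.mem_subgroupOf, Subgroup.mem_subgroupOf]
      exact ha
  exact Cfsg.Agent.Lib.Helper29.isQuasisimple_of_mulEquiv
    (QuotientGroup.congr _ _ (Subgroup.subgroupOfEquivOfLe hAE) he) h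

theorem isQuasisimple_transport_pCore (p : ℕ) {A E : Subgroup G} (hAE : A ≤ E)
    (h : IsQuasisimple (↥(A.subgroupOf E) ⧸ pCore p ↥(A.subgroupOf E))) :
    IsQuasisimple (↥A ⧸ pCore p ↥A) := by
  have he : (pCore p ↥(A.subgroupOf E)).map
      (Subgroup.subgroupOfEquivOfLe hAE : ↥(A.subgroupOf E) →* ↥A) = pCore p ↥A :=
    Cfsg.Agent.Lib.Helper97.pCore_map_equiv (Subgroup.subgroupOfEquivOfLe hAE) p
  exact Cfsg.Agent.Lib.Helper29.isQuasisimple_of_mulEquiv
    (QuotientGroup.congr _ _ (Subgroup.subgroupOfEquivOfLe hAE) he) h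

end Aux

/-- Let Q be a nontrivial large p-subgroup of the finite group H, U a nontrivial elementary abelian p-subgroup of H, and Q ≤ E ≤ N_H(U) with Q not normal in E. Suppose O_p(E/C_E(U)) = 1 and O^p(E)·C_E(U)/C_E(U) is quasisimple. Let E° be the weak closure of Q in E (generated by the conjugates of Q inside E) and E_∘ = O^p(E°). Then O^p(E)·C_E(U) = E_∘·C_E(U); E_∘ is perfect and equals O^p(E_∘); E_∘/C_{E_∘}(U) and E_∘/O_p(E_∘) are quasisimple; and E_∘ = [E_∘, Y] for every p-subgroup Y of E not centralizing U. -/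
theorem result {G : Type*} [Group G] [Finite G] {p : ℕ} [Fact p.Prime] (Q : Subgroup G) (hQp : IsPGroup p ↥Q) (hQ1 : Q ≠ ⊥) (hQ : Cfsg.IsLarge Q) (U : Subgroup G) (hU : Cfsg.IsElementaryAbelian p U) (hU1 : U ≠ ⊥) (E : Subgroup G) (hQE : Q ≤ E) (hEU : E ≤ Subgroup.normalizer ((U : Subgroup G) : Set G)) (hQn : ¬ E ≤ Subgroup.normalizer ((Q : Subgroup G) : Set G)) [hn : ((Subgroup.centralizer ((U : Subgroup G) : Set G)).subgroupOf E).Normal] (hred : Cfsg.pCore p (↥E ⧸ (Subgroup.centralizer ((U : Subgroup G) : Set G)).subgroupOf E) = ⊥) (hqs : Cfsg.IsQuasisimple ↥(((Cfsg.pResidual p ↥E) ⊔ (Subgroup.centralizer ((U : Subgroup G) : Set G)).subgroupOf E).map (QuotientGroup.mk' ((Subgroup.centralizer ((U : Subgroup G) : Set G)).subgroupOf E)))) (Er : Subgroup G) (hEr : Er = ((Cfsg.pResidual p ↥(Cfsg.weakClosure Q E)).map ((Cfsg.weakClosure Q E)).subtype)) [hn2 : ((Subgroup.centralizer ((U : Subgroup G) : Set G)).subgroupOf Er).Normal] : ((Cfsg.pResidual p ↥E).map (E).subtype) ⊔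 (E ⊓ Subgroup.centralizer ((U : Subgroup G) : Set G)) = Er ⊔ (E ⊓ Subgroup.centralizer ((U : Subgroup G) : Set G)) ∧ ⁅Er, Er⁆ = Er ∧ ((Cfsg.pResidual p ↥Er).map (Er).subtype) = Er ∧ Cfsg.IsQuasisimple (↥Er ⧸ (Subgroup.centralizer ((U : Subgroup G) : Set G)).subgroupOf Er) ∧ Cfsg.IsQuasisimple (↥Er ⧸ Cfsg.pCore p ↥Er) ∧ ∀ Y : Subgroup G, Y ≤ E → IsPGroup p ↥Y → ¬ Y ≤ Subgroup.centralizer ((U : Subgroup G) : Set G) → ⁅Er, Y⁆ = Er := by
  subst hEr
  set C := Subgroup.centralizer ((U : Subgroup G) : Set G) with hC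
  set wc := Cfsg.weakClosure Q E with hwc
  have hwcE : wc ≤ E := weakClosure_le Q E
  have hQwc : Q ≤ wc := by
    have h1 : Q.map (MulAut.conj (1 : G)).toMonoidHom ≤ E := by rw [map_conj_one]; exact hQE
    have := map_conj_le_weakClosure Q E h1
    rwa [map_conj_one] at this
  have hErE : opOf p wc ≤ E := (opOf_le p wc).trans hwcE
  -- `Q` does not centralize `U`
  have hQC : ¬ Q ≤ C := by
    intro hQC
    apply hQn
    have hUQ : U ≤ Subgroup.centralizer (Q : Set G) := Subgroup.le_centralizer_iff.mp hQC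
    exact hEU.trans (hQ.2 U hUQ hU1)
  -- `C_G(U)` normalizes every conjugate of `Q` inside `E`
  have hB : ∀ g : G, Q.map (MulAut.conj g).toMonoidHom ≤ E →
      C ≤ Subgroup.normalizer ((Q.map (MulAut.conj g).toMonoidHom : Subgroup G) : Set G) := by
    intro g hg
    exact centralizer_le_normalizer_of_isLarge (isLarge_map_conj hQ g) (hQp.map _) (IsElementaryAbelian.isPGroup hU) hU1
      (hg.trans hEU)
  have hdata : LQSData p (C.subgroupOf E) (wc.subgroupOf E) (Q.subgroupOf E)
      ((opOf p wc).subgroupOf E) :=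
    { hred := hred
      hqs := hqs
      hWn := (Subgroup.normal_subgroupOf_iff_le_normalizer hwcE).mpr (le_normalizer_weakClosure Q E)
      hgen := by
        intro D hD w hw
        have key : wc ≤ D.map E.subtype := by
          apply iSup_le
          intro g
          have hA := hD ((Q.map (MulAut.conj (g : G)).toMonoidHom).subgroupOf E)
            (Subgroup.subgroupOf_mono E (map_conj_le_weakClosure Q E g.2))
            ((hQp.map _).comap_subtype)
            (by
              rw [← Subgroup.subgroupOf_normalizer_eq g.2]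
              exact Subgroup.subgroupOf_mono E (hB g g.2))
          intro x hx
          exact ⟨⟨x, g.2 hx⟩, hA (Subgroup.mem_subgroupOf.mpr hx), rfl⟩
        obtain ⟨d, hd, hdw⟩ := key (Subgroup.mem_subgroupOf.mp hw)
        have hdw' : d = w := Subtype.ext hdw
        exact hdw' ▸ hd
      hQW := Subgroup.subgroupOf_mono E hQwc
      hQp := hQp.comap_subtype
      hQN := fun h => hQC (fun q hq => h (show (⟨q, hQE hq⟩ : ↥E) ∈ Q.subgroupOf E from hq))
      hY := opOf_subgroupOf p hwcE }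
  have hmapY : ((opOf p wc).subgroupOf E).map E.subtype = opOf p wc := by
    rw [Subgroup.subgroupOf_map_subtype, inf_of_le_left hErE]
  refine ⟨?_, ?_, ?_, ?_, ?_, ?_⟩
  · have h1 := congrArg (Subgroup.map E.subtype) hdata.sup_eq
    rw [Subgroup.map_sup, Subgroup.map_sup, hmapY, Subgroup.subgroupOf_map_subtype, inf_comm] at h1
    exact h1
  · have h1 := congrArg (Subgroup.map E.subtype) hdata.perfect
    rw [Subgroup.map_commutator, hmapY] at h1
    exact h1
  · exact opOf_opOf p wc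
  · exact isQuasisimple_transport (hn2 := hn2) hErE hdata.isQuasisimple_quotient_inf
  · exact isQuasisimple_transport_pCore p hErE hdata.isQuasisimple_quotient_pCore
  · intro T hTE hTp hTC
    have h1 := congrArg (Subgroup.map E.subtype)
      (hdata.commutator_eq (T.subgroupOf E) hTp.comap_subtype
        (fun h => hTC (fun t ht => h (show (⟨t, hTE ht⟩ : ↥E) ∈ T.subgroupOf E from ht))))
    rw [Subgroup.map_commutator, hmapY, Subgroup.subgroupOf_map_subtype, inf_of_le_left hTE] at h1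
    exact h1

end Cfsg.Agent.S2860
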