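import Cfsg.Statements.S2861
import Cfsg.Agent.Lib.Helper48.FrakL
import Cfsg.Agent.Lib.Helper48.FrakLSz
import Cfsg.Agent.Lib.Helper47.PReducedAmb

set_option autoImplicit false
open Cfsg

namespace Cfsg.Agent.S2861

open Cfsg.Agent.Lib.Helper48 Cfsg.Agent.Lib.Helper47

/-- Standing hypotheses: G a finite group, S a Sylow p-subgroup, Q a nontrivial large p-subgroup of G contained in S, M a subgroup containing S with the basic property (M ∈ 𝔐_G(S)); Y_M the largest p-reduced normal subgroup of M and M† = M·C_G(Y_M). Let L ∈ 𝔏_G(Y_M) (L ∈ 𝔏_G(Y_M): Y_M ≤ L; O_p(L) is the normal closure in L of Y_M ∩ O_p(L) and normalizes Y_M; L is Y_M-minimal of characteristic p with N_L(Y_M) its unique maximal subgroup over Y_M; and L/O_p(L) ≅ SL₂(q) with q = |Y_M : Y_M ∩ O_p(L)|, or p = 2 and L/O_p(L) is a Suzuki group Sz(q) or dihedral of order 2r, r an odd prime) and A = O_p(L). Then Y_M·A/A is the unique nontrivial elementary abelian normal p-subgroup of N_L(Y_M)/A.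 -/
theorem result {G : Type*} [Group G] [Finite G] {p : ℕ} [Fact p.Prime] (S : Sylow p G) (Q : Subgroup G) (hQp : IsPGroup p ↥Q) (hQ1 : Q ≠ ⊥) (hQS : Q ≤ (S : Subgroup G)) (hQ : Cfsg.IsLarge Q) (M : Subgroup G) (hSM : (S : Subgroup G) ≤ M) (hM : Cfsg.IsInFrakM p M) (L : Subgroup G) (hL : Cfsg.IsInFrakL p M L) (NL : Subgroup G) (hNL : NL = L ⊓ Subgroup.normalizer (((Cfsg.largestPReducedOf p M) : Subgroup G) : Set G)) [hn : (((Cfsg.pCoreOf p L)).subgroupOf NL).Normal] : let Ybar : Subgroup (↥NL ⧸ ((Cfsg.pCoreOf p L)).subgroupOf NL) := (((Cfsg.largestPReducedOf p M)).subgroupOf NL).map (QuotientGroup.mk' (((Cfsg.pCoreOf p L)).subgroupOf NL)); Ybar ≠ ⊥ ∧ Ybar.Normal ∧ Cfsg.IsElementaryAbelian p Ybar ∧ ∀ (V : Subgroup (↥NL ⧸ ((Cfsg.pCoreOf p L)).subgroupOf NL)), V.Normal → Cfsg.IsElementaryAbelian p V → V ≠ ⊥ → V = Ybar := by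
  classical
  intro Ybar
  obtain ⟨hYL, -, hAN, ⟨hncl, -⟩, -, ⟨hNlt, hmax⟩, hcases⟩ := hL
  have hAL : Cfsg.pCoreOf p L ≤ L := Cfsg.Agent.Lib.Helper47.pCoreOf_le p L
  have hNLL : NL ≤ L := hNL ▸ inf_le_left
  have hNLN : NL ≤ Subgroup.normalizer ((Cfsg.largestPReducedOf p M : Subgroup G) : Set G) :=
    hNL ▸ inf_le_right
  have hANL : Cfsg.pCoreOf p L ≤ NL := by rw [hNL]; exact le_inf hAL hAN
  have hYNL : Cfsg.largestPReducedOf p M ≤ NL := by
    rw [hNL]; exact le_inf hYL Subgroup.le_normalizer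
  have hYea : IsElementaryAbelian p (Cfsg.largestPReducedOf p M) :=
    isElementaryAbelian_largestPReducedOf p M
  let Φ : ↥L →* ↥L ⧸ Cfsg.pCore p ↥L := QuotientGroup.mk' (Cfsg.pCore p ↥L)
  have hΦsurj : Function.Surjective Φ := QuotientGroup.mk'_surjective _
  have hΦker : Φ.ker = Cfsg.pCore p ↥L := QuotientGroup.ker_mk' _
  have hcore : ∀ l : ↥L, l ∈ Cfsg.pCore p ↥L ↔ (l : G) ∈ Cfsg.pCoreOf p L := by
    intro l
    constructor
    · intro hl
      exact ⟨l, hl, rfl⟩
    · rintro ⟨l', hl', hll'⟩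
      have : l' = l := Subtype.ext hll'
      rw [← this]; exact hl'
  let φ : ↥NL →* ↥L ⧸ Cfsg.pCore p ↥L := Φ.comp (Subgroup.inclusion hNLL)
  have hker : φ.ker = (Cfsg.pCoreOf p L).subgroupOf NL := by
    ext x
    rw [MonoidHom.mem_ker, Subgroup.mem_subgroupOf]
    show Φ (Subgroup.inclusion hNLL x) = 1 ↔ _
    rw [← MonoidHom.mem_ker, hΦker, hcore]
    rfl
  have hYn : ((Cfsg.largestPReducedOf p M).subgroupOf NL).Normal :=
    Subgroup.normal_subgroupOf_of_le_normalizer hNLN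
  have hYφ : ((Cfsg.largestPReducedOf p M).subgroupOf NL).map φ =
      ((Cfsg.largestPReducedOf p M).subgroupOf L).map Φ := by
    ext x
    constructor
    · rintro ⟨⟨n, hn⟩, hy, rfl⟩
      exact ⟨⟨n, hNLL hn⟩, hy, rfl⟩
    · rintro ⟨⟨l, hl⟩, hy, rfl⟩
      have hy' : l ∈ Cfsg.largestPReducedOf p M := hy
      exact ⟨⟨l, hYNL hy'⟩, hy, rfl⟩
  have hRφ : φ.range = (NL.subgroupOf L).map Φ := by
    ext x
    constructor
    · rintro ⟨⟨n, hn⟩, rfl⟩
      exact ⟨⟨n, hNLL hn⟩, hn, rfl⟩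
    · rintro ⟨⟨l, hl⟩, hn, rfl⟩
      have hn' : l ∈ NL := hn
      exact ⟨⟨l, hn'⟩, rfl⟩
  -- the abstract data
  have hLQ : LQuot p (((Cfsg.largestPReducedOf p M).subgroupOf NL).map φ) φ.range := by
    refine ⟨Subgroup.map_le_range _ _, ?_, ?_, ?_, ?_, isElementaryAbelian_map _
      (isElementaryAbelian_subgroupOf hYea)⟩
    · -- proper
      intro htop
      apply hNlt.ne
      apply le_antisymm inf_le_left
      intro l hl
      rw [← hNL]
      have : Φ ⟨l, hl⟩ ∈ φ.range := by rw [htop]; trivial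
      obtain ⟨n, hn⟩ := this
      have h1 : (Subgroup.inclusion hNLL n)⁻¹ * ⟨l, hl⟩ ∈ Cfsg.pCore p ↥L := by
        rw [← hΦker, MonoidHom.mem_ker, map_mul, map_inv]
        have : Φ (Subgroup.inclusion hNLL n) = Φ ⟨l, hl⟩ := hn
        rw [this]; group
      rw [hcore] at h1
      have h2 : ((n : G))⁻¹ * l ∈ NL := hANL h1
      have : l = (n : G) * ((n : G)⁻¹ * l) := by group
      rw [this]
      exact NL.mul_mem n.2 h2
    · -- normalizes
      have := Subgroup.le_normalizer_map (H := (Cfsg.largestPReducedOf p M).subgroupOf NL) φ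
      rw [Subgroup.normalizer_eq_top_iff.mpr hYn, ← MonoidHom.range_eq_map] at this
      exact this
    · -- maximality
      intro X hYX hXtop
      have hX1 : Cfsg.largestPReducedOf p M ≤ (X.comap Φ).map L.subtype := by
        intro y hy
        refine ⟨⟨y, hYL hy⟩, ?_, rfl⟩
        apply hYX
        rw [hYφ]
        exact ⟨⟨y, hYL hy⟩, hy, rfl⟩
      have hX2 : (X.comap Φ).map L.subtype < L := by
        refine lt_of_le_of_ne (Subgroup.map_subtype_le _) ?_
        intro h0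
        apply hXtop
        rw [eq_top_iff]
        intro x _
        obtain ⟨l, rfl⟩ := hΦsurj x
        have : (l : G) ∈ (X.comap Φ).map L.subtype := by rw [h0]; exact l.2
        obtain ⟨l', hl', hll'⟩ := this
        have : l' = l := Subtype.ext hll'
        rw [← this]; exact hl'
      have hX3 := hmax _ hX1 hX2
      rw [← hNL] at hX3
      intro x hx
      obtain ⟨l, rfl⟩ := hΦsurj x
      rw [hRφ]
      refine ⟨l, ?_, rfl⟩
      rw [SetLike.mem_coe, Subgroup.mem_subgroupOf]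
      apply hX3
      exact ⟨l, hx, rfl⟩
    · -- normal closure
      have := Subgroup.map_normalClosure
        (((Cfsg.largestPReducedOf p M).subgroupOf L : Subgroup ↥L) : Set ↥L) Φ hΦsurj
      rw [hncl] at this
      rw [hYφ, Subgroup.coe_map, ← this, ← MonoidHom.range_eq_map]
      exact MonoidHom.range_eq_top.mpr hΦsurj
  -- the order of the image of `Y`
  have hcardY : Nat.card (((Cfsg.largestPReducedOf p M).subgroupOf NL).map φ) =
      (Cfsg.largestPReducedOf p M ⊓ Cfsg.pCoreOf p L).relIndex (Cfsg.largestPReducedOf p M) := by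
    rw [hYφ, ← Subgroup.relIndex_ker, hΦker, Subgroup.inf_relIndex_left,
      ← Subgroup.relIndex_subgroupOf hYL]
    congr 1
    ext l
    rw [hcore, Subgroup.mem_subgroupOf]
  have hfinK : Finite (↥L ⧸ Cfsg.pCore p ↥L) := inferInstance
  have hconcl : LConcl p (((Cfsg.largestPReducedOf p M).subgroupOf NL).map φ) φ.range := by
    rcases hcases with ⟨F, _, _, hcard, ⟨e⟩⟩ | ⟨hp2, F, _, _, m, hF, hcard, ⟨e⟩⟩ | ⟨hp2, r, hr, hr2, ⟨e⟩⟩
    · exact concl_SL2 p e hLQ (by rw [hcardY, hcard])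
    · subst hp2
      by_cases hm : m = 0
      · apply hLQ.concl_of_card_two
        rw [hcardY, ← hcard, hF, hm]
        norm_num
      · exact concl_Sz (Nat.one_le_iff_ne_zero.mpr hm) hF e hLQ (by rw [hcardY, hcard])
    · subst hp2
      apply hLQ.concl_of_card_two
      exact card_eq_two_of_dihedral hr hr2 e (IsElementaryAbelian.isPGroup hLQ.ea) hLQ.ne_bot
  exact quot_transfer ((Cfsg.pCoreOf p L).subgroupOf NL) φ hker
    ((Cfsg.largestPReducedOf p M).subgroupOf NL) p (isElementaryAbelian_subgroupOf hYea)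
    hLQ.ne_bot hconcl

end Cfsg.Agent.S2861
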