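import Cfsg.Statements.S2864
import Cfsg.Agent.S2845
import Cfsg.Agent.S2848
import Cfsg.Agent.S0029
import Cfsg.Agent.S0012
import Cfsg.Agent.Lib.Helper48.NilpotentGen
import Cfsg.Agent.Lib.Helper48.Coprime

set_option autoImplicit false
open Cfsg

namespace Cfsg.Agent.S2864

open Cfsg.Agent.Lib.Helper47 Cfsg.Agent.Lib.Helper48
open scoped commutatorElement

section Aux

variable {G : Type*} [Group G]

/-- `N_G(I) ≤ M†` for a nontrivial normal `p`-subgroup `I` of `M ∈ 𝔐_G(S)`. -/
theorem normalizer_le_dagger [Finite G] {p : ℕ} [Fact p.Prime] (S : Sylow p G) (Q : Subgroup G)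
    (hQp : IsPGroup p ↥Q) (hQS : Q ≤ (S : Subgroup G)) (hQ : Cfsg.IsLarge Q) (M : Subgroup G)
    (hSM : (S : Subgroup G) ≤ M) (hM : Cfsg.IsInFrakM p M) (I : Subgroup G) (hI1 : I ≠ ⊥)
    (hIp : IsPGroup p ↥I) (hIM : M ≤ Subgroup.normalizer ((I : Subgroup G) : Set G)) :
    Subgroup.normalizer ((I : Subgroup G) : Set G) ≤
      M ⊔ Subgroup.centralizer ((Cfsg.largestPReducedOf p M : Subgroup G) : Set G) := by
  classical
  set N := Subgroup.normalizer ((I : Subgroup G) : Set G) with hN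
  have hQN : Q ≤ N := hQS.trans (hSM.trans hIM)
  have hIO : I ≤ pCoreOf p N := le_pCoreOf Subgroup.le_normalizer le_rfl hIp
  have hP1 : pCoreOf p N ≠ ⊥ := fun h => hI1 (le_bot_iff.1 (h ▸ hIO))
  have hcent : Subgroup.centralizer ((pCoreOf p N : Subgroup G) : Set G) ≤ pCoreOf p N := by
    intro x hx
    have hxI : x ∈ Subgroup.centralizer (I : Set G) := Subgroup.centralizer_le hIO hx
    have hxN : x ∈ N := Subgroup.centralizer_le_normalizer _ hxI
    exact Cfsg.Agent.S2845.centralizer_inf_le_pCoreOf hQp hQ hQN hP1 ⟨hx, hxN⟩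
  have hNchar : N ∈ charPSubgroups p G := ⟨fun h0 => hP1 (by unfold pCoreOf; rw [h0, Subgroup.map_bot]), hcent⟩
  obtain ⟨X, hX, hXmax⟩ := Set.exists_max_image {X : Subgroup G | X ∈ charPSubgroups p G ∧ N ≤ X}
    (fun X => Nat.card X) (Set.toFinite _) ⟨N, hNchar, le_rfl⟩
  have hXm : X ∈ maxCharPSubgroups p G := by
    refine ⟨hX.1, fun L hL hXL => ?_⟩
    have h1 := hXmax L ⟨hL, hX.2.trans hXL⟩
    exact (Subgroup.eq_of_le_of_card_ge hXL h1).symm
  have := hM.2.2.1 X hXm (hIM.trans hX.2)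
  rw [← this]
  exact hX.2

theorem le_normalizer_of_map_conj_le {K V : Subgroup G}
    (h : ∀ k ∈ K, V.map (MulAut.conj k).toMonoidHom ≤ V) :
    K ≤ Subgroup.normalizer (V : Set G) := by
  intro k hk
  rw [Subgroup.mem_normalizer_iff]
  intro x
  constructor
  · intro hx; exact h k hk ⟨x, hx, rfl⟩
  · intro hx
    have := h k⁻¹ (K.inv_mem hk) ⟨_, hx, rfl⟩
    simpa [MulAut.conj_apply, mul_assoc] using this

/-- commutators of the `L`-closure of `Y` with an `L`-invariant subgroup `X` lie in an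
`L`-invariant subgroup `E` as soon as those of the generators do -/
theorem closure_commutator_mem {L X E : Subgroup G} {k : Set G}
    (hkL : k ⊆ L)
    (hLE : L ≤ Subgroup.normalizer (E : Set G))
    (h : ∀ u ∈ k, ∀ x ∈ X, ⁅u, x⁆ ∈ E) :
    ∀ u ∈ Subgroup.closure k, ∀ x ∈ X, ⁅u, x⁆ ∈ E := by
  have hcl : Subgroup.closure k ≤ L := (Subgroup.closure_le L).2 hkL
  intro u hu
  induction hu using Subgroup.closure_induction with
  | mem u hu => exact h u hu
  | one => intro x _; simp
  | mul a b ha hb iha ihb =>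
    intro x hx
    rw [commutatorElement_mul_left_eq_conj_mul]
    exact E.mul_mem ((Subgroup.mem_normalizer_iff.1 (hLE (hcl ha)) _).1 (ihb x hx)) (iha x hx)
  | inv a ha iha =>
    intro x hx
    rw [commutatorElement_inv_left]
    have h1 : ⁅x, a⁆ ∈ E := by
      rw [← commutatorElement_inv]; exact E.inv_mem (iha x hx)
    have := (Subgroup.mem_normalizer_iff.1 (hLE (L.inv_mem (hcl ha))) _).1 h1
    simpa using this


end Aux

/-- Standing hypotheses: G a finite group, S a Sylow p-subgroup, Q a nontrivial large p-subgroup of G contained in S, M a subgroup containing S with the basic property (M ∈ 𝔐_G(S)); Y_M the largest p-reduced normal subgroup of M and M† = M·C_G(Y_M). Let I be a nontrivial normal p-subgroup of M and Y ≤ O_p(M†); let L be a subgroup of G containing Y and A a normal p-subgroup of L with I ≤ A ≤ M. If [Y, A] ≤ [I, A], then Y ≤ O_p(L). -/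
theorem result {G : Type*} [Group G] [Finite G] {p : ℕ} [Fact p.Prime] (S : Sylow p G) (Q : Subgroup G) (hQp : IsPGroup p ↥Q) (hQ1 : Q ≠ ⊥) (hQS : Q ≤ (S : Subgroup G)) (hQ : Cfsg.IsLarge Q) (M : Subgroup G) (hSM : (S : Subgroup G) ≤ M) (hM : Cfsg.IsInFrakM p M) (I : Subgroup G) (hI1 : I ≠ ⊥) (hIp : IsPGroup p ↥I) (hIM : I ≤ M ∧ M ≤ Subgroup.normalizer ((I : Subgroup G) : Set G)) (Y : Subgroup G) (hY : Y ≤ (Cfsg.pCoreOf p (M ⊔ Subgroup.centralizer (((Cfsg.largestPReducedOf p M) : Subgroup G) : Set G)))) (L : Subgroup G) (hYL : Y ≤ L) (A : Subgroup G) (hAp : IsPGroup p ↥A) (hAL : A ≤ L ∧ L ≤ Subgroup.normalizer ((A : Subgroup G) : Set G)) (hIA : I ≤ A) (hAM : A ≤ M) (hc : ⁅Y, A⁆ ≤ ⁅I, A⁆) : Y ≤ (Cfsg.pCoreOf p L) := by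
  classical
  set Md : Subgroup G := M ⊔ Subgroup.centralizer (((Cfsg.largestPReducedOf p M) : Subgroup G) : Set G)
    with hMd
  set O : Subgroup G := Cfsg.pCoreOf p Md with hO
  have hOp : IsPGroup p ↥O := pCoreOf_isPGroup p Md
  have hMdO : Md ≤ Subgroup.normalizer (O : Set G) :=
    Subgroup.le_normalizer.trans (normalizer_le_normalizer_pCoreOf p Md)
  have hNI := normalizer_le_dagger S Q hQp hQS hQ M hSM hM I hI1 hIp hIM.2
  -- the centralizer `C = C_L(A)`
  set C : Subgroup G := L ⊓ Subgroup.centralizer (A : Set G) with hC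
  have hLC : L ≤ Subgroup.normalizer (C : Set G) := by
    refine le_trans ?_ Subgroup.inf_normalizer_le_normalizer_inf
    exact le_inf Subgroup.le_normalizer
      (hAL.2.trans (Cfsg.Agent.S2848.normalizer_le_normalizer_centralizer A))
  have hCMd : C ≤ Md := by
    refine le_trans ?_ hNI
    exact inf_le_right.trans ((Subgroup.centralizer_le hIA).trans
      (Subgroup.centralizer_le_normalizer _))
  set D : Subgroup G := Cfsg.pCoreOf p C with hD
  have hDp : IsPGroup p ↥D := pCoreOf_isPGroup p C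
  have hDC : D ≤ C := pCoreOf_le p C
  have hLD : L ≤ Subgroup.normalizer (D : Set G) :=
    hLC.trans (normalizer_le_normalizer_pCoreOf p C)
  have hOC : O ⊓ C ≤ D := by
    apply le_pCoreOf inf_le_right _ (hOp.to_le inf_le_left)
    refine le_trans ?_ Subgroup.inf_normalizer_le_normalizer_inf
    exact le_inf (hCMd.trans hMdO) Subgroup.le_normalizer
  -- `[A, A]` is normalized by `L`
  have hLA' : L ≤ Subgroup.normalizer ((⁅A, A⁆ : Subgroup G) : Set G) :=
    (le_inf hAL.2 hAL.2).trans (normalizer_inf_le_normalizer_commutator A A)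
  -- the generating set
  set k : Set G := {g | ∃ l ∈ L, ∃ y ∈ Y, g = l * y * l⁻¹} ∪ (D : Set G) with hk
  set K : Subgroup G := Subgroup.closure k with hK
  have hkL : k ⊆ L := by
    rintro g (⟨l, hl, y, hy, rfl⟩ | hg)
    · exact L.mul_mem (L.mul_mem hl (hYL hy)) (L.inv_mem hl)
    · exact (Subgroup.mem_inf.1 (hDC hg)).1
  have hKL : K ≤ L := (Subgroup.closure_le L).2 hkL
  have hYK : Y ≤ K := by
    intro y hy
    apply Subgroup.subset_closure
    left
    exact ⟨1, L.one_mem, y, hy, by simp⟩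
  -- generators are `p`-elements
  have hkp : ∀ u ∈ k, ∃ j : ℕ, u ^ p ^ j = 1 := by
    rintro g (⟨l, _, y, hy, rfl⟩ | hg)
    · obtain ⟨j, hj⟩ := hOp ⟨y, hY hy⟩
      refine ⟨j, ?_⟩
      have := congrArg Subtype.val hj
      simp only [Subgroup.coe_pow, Subgroup.coe_one] at this
      rw [conj_pow, this]; simp
    · obtain ⟨j, hj⟩ := hDp ⟨g, hg⟩
      refine ⟨j, ?_⟩
      have := congrArg Subtype.val hj
      simpa using this
  -- `L` normalizes `K`
  have hLK : L ≤ Subgroup.normalizer (K : Set G) := by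
    apply le_normalizer_of_map_conj_le
    intro l hl
    rw [hK, MonoidHom.map_closure, Subgroup.closure_le]
    rintro _ ⟨g, (⟨l', hl', y, hy, rfl⟩ | hg), rfl⟩
    · apply Subgroup.subset_closure
      left
      exact ⟨l * l', L.mul_mem hl hl', y, hy, by simp [MulAut.conj_apply]; group⟩
    · apply Subgroup.subset_closure
      right
      exact (Subgroup.mem_normalizer_iff.1 (hLD hl) g).1 hg
  -- `[K, C] ≤ D`
  have hKC : ∀ u ∈ K, ∀ c ∈ C, ⁅u, c⁆ ∈ D := by
    apply closure_commutator_mem hkL hLD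
    rintro g (⟨l, hl, y, hy, rfl⟩ | hg) c hc
    · -- `⁅l y l⁻¹, c⁆ = l ⁅y, l⁻¹ c l⁆ l⁻¹`
      have hc' : l⁻¹ * c * l ∈ C := by
        have := (Subgroup.mem_normalizer_iff.1 (hLC (L.inv_mem hl)) c).1 hc
        simpa using this
      have h1 : ⁅y, l⁻¹ * c * l⁆ ∈ O ⊓ C := by
        constructor
        · have hyO : y ∈ O := hY hy
          have h2 : (l⁻¹ * c * l) * y⁻¹ * (l⁻¹ * c * l)⁻¹ ∈ O :=
            (Subgroup.mem_normalizer_iff.1 (hMdO (hCMd hc')) _).1 (O.inv_mem hyO)
          have h3 : ⁅y, l⁻¹ * c * l⁆ = y * ((l⁻¹ * c * l) * y⁻¹ * (l⁻¹ * c * l)⁻¹) := by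
            rw [commutatorElement_def]; group
          rw [h3]; exact O.mul_mem hyO h2
        · have h2 : y * (l⁻¹ * c * l) * y⁻¹ ∈ C :=
            (Subgroup.mem_normalizer_iff.1 (hLC (hYL hy)) _).1 hc'
          rw [commutatorElement_def]
          exact C.mul_mem h2 (C.inv_mem hc')
      have h4 : ⁅l * y * l⁻¹, c⁆ = l * ⁅y, l⁻¹ * c * l⁆ * l⁻¹ := by
        rw [conjugate_commutatorElement]
        congr 1
        group
      rw [h4]
      exact (Subgroup.mem_normalizer_iff.1 (hLD hl) _).1 (hOC h1)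
    · have h2 : c * g⁻¹ * c⁻¹ ∈ D :=
        (Subgroup.mem_normalizer_iff.1
          ((Subgroup.le_normalizer.trans (normalizer_le_normalizer_pCoreOf p C)) hc) _).1
          (D.inv_mem hg)
      have h3 : ⁅g, c⁆ = g * (c * g⁻¹ * c⁻¹) := by
        rw [commutatorElement_def]; group
      rw [h3]; exact D.mul_mem hg h2
  -- `[K, A] ≤ [A, A]`
  have hKA : ∀ u ∈ K, ∀ a ∈ A, ⁅u, a⁆ ∈ ⁅A, A⁆ := by
    apply closure_commutator_mem hkL hLA'
    rintro g (⟨l, hl, y, hy, rfl⟩ | hg) a ha
    · have ha' : l⁻¹ * a * l ∈ A := by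
        have := (Subgroup.mem_normalizer_iff.1 (hAL.2 (L.inv_mem hl)) a).1 ha
        simpa using this
      have h1 : ⁅y, l⁻¹ * a * l⁆ ∈ ⁅A, A⁆ :=
        (Subgroup.commutator_mono hIA le_rfl) (hc (Subgroup.commutator_mem_commutator hy ha'))
      have h4 : ⁅l * y * l⁻¹, a⁆ = l * ⁅y, l⁻¹ * a * l⁆ * l⁻¹ := by
        rw [conjugate_commutatorElement]
        congr 1
        group
      rw [h4]
      exact (Subgroup.mem_normalizer_iff.1 (hLA' hl) _).1 h1
    · have hgC : g ∈ Subgroup.centralizer (A : Set G) := (Subgroup.mem_inf.1 (hDC hg)).2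
      have : ⁅g, a⁆ = 1 := by
        rw [commutatorElement_eq_one_iff_mul_comm]
        exact ((Subgroup.mem_centralizer_iff.1 hgC) a ha).symm
      rw [this]; exact Subgroup.one_mem _
  -- `p'`-elements of `K` centralize `A`
  have hKp' : ∀ x ∈ K, (orderOf x).Coprime p → x ∈ C := by
    intro x hx hxp
    refine ⟨hKL hx, ?_⟩
    have hzK : Subgroup.zpowers x ≤ K := by
      rw [Subgroup.zpowers_le]; exact hx
    apply Cfsg.Agent.S0029.result (Subgroup.zpowers x) A
    · exact hzK.trans (hKL.trans hAL.2)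
    · rw [Nat.card_zpowers]
      obtain ⟨n, hn⟩ := IsPGroup.iff_card.1 (hAp.to_subgroup (frattini ↥A))
      rw [hn]
      exact Nat.Coprime.pow_right n hxp
    · intro a' ha' b hb
      have h1 : ⁅a', b⁆ ∈ ⁅A, A⁆ := hKA a' (hzK ha') b hb
      rw [← Subgroup.map_subtype_commutator] at h1
      have h2 := Subgroup.map_mono (f := A.subtype) (Cfsg.Agent.S0012.result p hAp).1 h1
      rw [commutatorElement_def] at h2
      exact h2
    · exact Subgroup.mem_zpowers x
  -- `K` is a `p`-group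
  have hKp : IsPGroup p ↥K := by
    have hn : (D.subgroupOf K).Normal :=
      Subgroup.normal_subgroupOf_of_le_normalizer (hKL.trans hLD)
    apply isPGroup_of_central_mod (D.subgroupOf K) (C.subgroupOf K)
    · intro x hx
      rw [Subgroup.mem_subgroupOf] at hx ⊢
      exact hDC hx
    · exact hDp.comap_subtype
    · intro g z hz
      rw [Subgroup.mem_subgroupOf] at hz ⊢
      have := hKC g g.2 z hz
      simpa [commutatorElement_def] using this
    · intro x hx
      rw [Subgroup.mem_subgroupOf]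
      apply hKp' x x.2
      rwa [Subgroup.orderOf_coe]
    · exact Subgroup.closure_closure_coe_preimage
    · intro u hu
      obtain ⟨j, hj⟩ := hkp (u : G) hu
      exact ⟨j, Subtype.ext (by simpa using hj)⟩
  exact hYK.trans (le_pCoreOf hKL hLK hKp)


end Cfsg.Agent.S2864
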