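import Cfsg.Statements.S2872
import Cfsg.Agent.Lib.Helper48.Transfer
import Cfsg.Agent.Lib.Helper1.PGroupMax

set_option autoImplicit false
open Cfsg

namespace Cfsg.Agent.S2872

open Cfsg.Agent.Lib.Helper48

/-- A normal subgroup of index `2` contains `O²(G)`. -/
theorem pResidual_two_le_of_index_two {G : Type*} [Group G] [Finite G] {M : Subgroup G}
    (hMn : M.Normal) (hM2 : M.index = 2) : pResidual 2 G ≤ M := by
  unfold pResidual
  rw [Subgroup.closure_le]
  intro g hg
  have hg : Nat.Coprime (orderOf g) 2 := hg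
  have hcard : Nat.card (G ⧸ M) = 2 := by rw [← Subgroup.index_eq_card, hM2]
  have h1 : (QuotientGroup.mk g : G ⧸ M) ^ 2 = 1 := by
    rw [← hcard]
    exact pow_card_eq_one'
  have h2 : (QuotientGroup.mk g : G ⧸ M) ^ (orderOf g) = 1 := by
    rw [← QuotientGroup.mk_pow, pow_orderOf_eq_one]
    rfl
  have h3 : orderOf (QuotientGroup.mk g : G ⧸ M) ∣ Nat.gcd (orderOf g) 2 :=
    Nat.dvd_gcd (orderOf_dvd_of_pow_eq_one h2) (orderOf_dvd_of_pow_eq_one h1)
  rw [Nat.Coprime] at hg
  rw [hg, Nat.dvd_one, orderOf_eq_one_iff] at h3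
  exact (QuotientGroup.eq_one_iff g).mp h3

/-- Let S be a Sylow 2-subgroup of the finite group G. Then G has a proper normal subgroup of 2-power index (O²(G) ≠ G), or Ω₁(Z(S)) is contained in the Frattini subgroup of S, or N_G(S) acts nontrivially on Ω₁(Z(S)) by conjugation. -/
theorem result {G : Type*} [Group G] [Finite G] (S : Sylow 2 G) : Cfsg.pResidual 2 G ≠ ⊤ ∨ Cfsg.omegaOne 2 ((S : Subgroup G) ⊓ Subgroup.centralizer ((S : Subgroup G) : Set G)) ≤ (frattini ↥(S : Subgroup G)).map (S : Subgroup G).subtype ∨ ∃ g ∈ Subgroup.normalizer ((S : Subgroup G) : Set G), ∃ z ∈ Cfsg.omegaOne 2 ((S : Subgroup G) ⊓ Subgroup.centralizer ((S : Subgroup G) : Set G)), g * z * g⁻¹ ≠ z := by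
  have : Fact (Nat.Prime 2) := ⟨Nat.prime_two⟩
  by_cases hle : Cfsg.omegaOne 2 ((S : Subgroup G) ⊓ Subgroup.centralizer ((S : Subgroup G) : Set G)) ≤
      (frattini ↥(S : Subgroup G)).map (S : Subgroup G).subtype
  · exact Or.inr (Or.inl hle)
  -- a generator outside the Frattini subgroup
  have hex : ∃ u : G, (u ∈ (S : Subgroup G) ⊓ Subgroup.centralizer ((S : Subgroup G) : Set G) ∧
      u ^ 2 = 1) ∧ u ∉ (frattini ↥(S : Subgroup G)).map (S : Subgroup G).subtype := by
    by_contra hcon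
    push Not at hcon
    apply hle
    unfold omegaOne
    rw [Subgroup.closure_le]
    intro u hu
    exact hcon u hu
  obtain ⟨u, ⟨huZ, hu2⟩, huF⟩ := hex
  have huS : u ∈ (S : Subgroup G) := huZ.1
  have huc : ∀ t ∈ (S : Subgroup G), t * u = u * t := by
    intro t ht
    exact (Subgroup.mem_centralizer_iff.mp huZ.2 t ht)
  have hu1 : u ≠ 1 := by
    rintro rfl
    exact huF (Subgroup.one_mem _)
  have huo : orderOf u = 2 := orderOf_eq_prime hu2 hu1
  -- a maximal subgroup of `S` missing `u`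
  have hexM : ∃ M : Subgroup ↥(S : Subgroup G), IsCoatom M ∧ (⟨u, huS⟩ : (S : Subgroup G)) ∉ M := by
    by_contra hcon
    push Not at hcon
    apply huF
    refine ⟨⟨u, huS⟩, ?_, rfl⟩
    show (⟨u, huS⟩ : (S : Subgroup G)) ∈ frattini ↥(S : Subgroup G)
    unfold frattini Order.radical
    rw [Subgroup.mem_iInf]
    intro M
    rw [Subgroup.mem_iInf]
    intro hM
    exact hcon M hM
  obtain ⟨M, hM, huM⟩ := hexM
  have hMidx : M.index = 2 := Cfsg.Agent.Lib.Helper1.coatom_index_of_isPGroup S.isPGroup' hM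
  set Q : Subgroup G := M.map (S : Subgroup G).subtype with hQ
  have hQS : Q ≤ (S : Subgroup G) := Subgroup.map_subtype_le M
  have hQsub : Q.subgroupOf (S : Subgroup G) = M :=
    Subgroup.comap_map_eq_self_of_injective (Subgroup.subtype_injective _) M
  have hrel : Q.relIndex (S : Subgroup G) = 2 := by
    show (Q.subgroupOf (S : Subgroup G)).index = 2
    rw [hQsub, hMidx]
  have huQ : u ∉ Q := by
    rintro ⟨y, hy, hyu⟩
    apply huM
    have : y = ⟨u, huS⟩ := Subtype.ext hyu
    rwa [← this]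
  rcases thompson_transfer_central S Q hQS hrel u huo huc with ⟨N, hNn, hN2, -⟩ | ⟨h, hh, hhu⟩
  · left
    intro htop
    have h1 := pResidual_two_le_of_index_two hNn hN2
    rw [htop, top_le_iff] at h1
    rw [h1, Subgroup.index_top] at hN2
    exact absurd hN2 (by norm_num)
  · right; right
    refine ⟨h, hh, u, Subgroup.subset_closure ⟨huZ, hu2⟩, ?_⟩
    intro heq
    rw [heq] at hhu
    exact huQ hhu

end Cfsg.Agent.S2872
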