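import Cfsg.Statements.S2873
import Mathlib.Tactic
import Mathlib.Algebra.Field.ZMod
import Cfsg.Agent.Lib.Helper49.CharP

set_option autoImplicit false
open Cfsg

namespace Cfsg.Agent.S2873

set_option linter.unusedSectionVars false


open DihedralGroup

theorem two_ne_zero_zmod {r : ℕ} [Fact r.Prime] (hr : r ≠ 2) : (2 : ZMod r) ≠ 0 := by
  intro h
  have h2 : ((2 : ℕ) : ZMod r) = 0 := by exact_mod_cast h
  rw [ZMod.natCast_eq_zero_iff] at h2
  have := (Nat.prime_dvd_prime_iff_eq (Fact.out : r.Prime) Nat.prime_two).mp h2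
  exact hr this

theorem dih_invol {r : ℕ} [Fact r.Prime] (hr : r ≠ 2) (u : DihedralGroup r) (hu : u * u = 1)
    (hu1 : u ≠ 1) : ∃ i, u = sr i := by
  cases u with
  | r i =>
    exfalso; apply hu1
    rw [r_mul_r, one_def, DihedralGroup.r.injEq] at hu
    have h2 : (2 : ZMod r) * i = 0 := by rw [two_mul]; exact hu
    rcases mul_eq_zero.mp h2 with h | h
    · exact absurd h (two_ne_zero_zmod hr)
    · rw [h, r_zero]
  | sr i => exact ⟨i, rfl⟩

theorem dih_pow_r {r : ℕ} [Fact r.Prime] (hr : r ≠ 2) (v : DihedralGroup r) (hv : v ^ r = 1) :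
    ∃ j, v = DihedralGroup.r j := by
  cases v with
  | r j => exact ⟨j, rfl⟩
  | sr j =>
    exfalso
    obtain ⟨k, hk⟩ := (Fact.out : r.Prime).odd_of_ne_two hr
    have h1 : (sr j : DihedralGroup r) ^ 2 = 1 := by
      rw [pow_two, sr_mul_sr, sub_self, r_zero]
    have h3 : (sr j : DihedralGroup r) ^ (2 * k + 1) = 1 := by rw [← hk]; exact hv
    rw [pow_succ, pow_mul, h1, one_pow, one_mul] at h3
    rw [one_def] at h3
    cases h3

theorem dih_inv {r : ℕ} [Fact r.Prime] (hr : r ≠ 2) (u v : DihedralGroup r) (hu : u * u = 1)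
    (hu1 : u ≠ 1) (hv : v ^ r = 1) : u * v * u⁻¹ = v⁻¹ := by
  obtain ⟨i, rfl⟩ := dih_invol hr u hu hu1
  obtain ⟨j, rfl⟩ := dih_pow_r hr v hv
  simp

theorem dih_conj {r : ℕ} [Fact r.Prime] (hr : r ≠ 2) (u u' : DihedralGroup r) (hu : u * u = 1)
    (hu1 : u ≠ 1) (hu' : u' * u' = 1) (hu1' : u' ≠ 1) : ∃ w, w * u * w⁻¹ = u' := by
  obtain ⟨i, rfl⟩ := dih_invol hr u hu hu1
  obtain ⟨j, rfl⟩ := dih_invol hr u' hu' hu1'
  refine ⟨DihedralGroup.r ((i - j) * 2⁻¹), ?_⟩
  rw [inv_r, r_mul_sr, sr_mul_r, sr.injEq]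
  have h2 := two_ne_zero_zmod hr
  field_simp
  ring


structure Setup {G : Type*} [Group G] {r : ℕ} [Fact r.Prime] (Q : Subgroup G) (R : Sylow r G)
    (π : G →* DihedralGroup r) : Prop where
  hr : r ≠ 2
  nQ : Q.Normal
  pQ : IsPGroup 2 Q
  surj : Function.Surjective π
  ker : ∀ g, π g = 1 ↔ g ∈ Q
  hC : Q ⊓ Subgroup.centralizer ((R : Subgroup G) : Set G) = ⊥

variable {G : Type*} [Group G] [Finite G] {r : ℕ} [Fact r.Prime] {Q : Subgroup G} {R : Sylow r G}
  {π : G →* DihedralGroup r}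

theorem Setup.ker_eq (h : Setup Q R π) : π.ker = Q := by
  ext g
  rw [MonoidHom.mem_ker, h.ker]

theorem Setup.card_G (h : Setup Q R π) : Nat.card G = 2 * r * Nat.card Q := by
  have h1 : π.ker.index = Nat.card (DihedralGroup r) := by
    rw [Subgroup.index_ker, MonoidHom.range_eq_top.mpr h.surj, Subgroup.card_top]
  rw [h.ker_eq, DihedralGroup.nat_card] at h1
  rw [← h1, Subgroup.index_mul_card]

theorem Setup.r_not_dvd_two_pow (h : Setup Q R π) (m : ℕ) : ¬ r ∣ 2 ^ m := by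
  intro hd
  have := (Fact.out : r.Prime).dvd_of_dvd_pow hd
  exact h.hr ((Nat.prime_dvd_prime_iff_eq (Fact.out : r.Prime) Nat.prime_two).mp this)

theorem Setup.card_R (h : Setup Q R π) : Nat.card R = r := by
  have hrp : r.Prime := Fact.out
  obtain ⟨m, hm⟩ := IsPGroup.iff_card.mp h.pQ
  have hG := h.card_G
  rw [hm] at hG
  rw [Sylow.card_eq_multiplicity, hG]
  have h2 : (2 * r * 2 ^ m).factorization r = 1 := by
    rw [Nat.factorization_mul (by have := hrp.pos; omega) (by positivity),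
      Nat.factorization_mul (by norm_num) hrp.ne_zero]
    simp only [Finsupp.coe_add, Pi.add_apply, hrp.factorization_self]
    have e1 : (2 : ℕ).factorization r = 0 :=
      Nat.factorization_eq_zero_of_not_dvd (fun hd => h.r_not_dvd_two_pow 1 (by simpa using hd))
    have e2 : (2 ^ m : ℕ).factorization r = 0 :=
      Nat.factorization_eq_zero_of_not_dvd (h.r_not_dvd_two_pow m)
    rw [e1, e2]
  rw [h2, pow_one]

theorem Setup.pow_r_eq_one (h : Setup Q R π) {x : G} (hx : x ∈ R) : x ^ r = 1 := by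
  have := pow_card_eq_one' (G := R) (x := ⟨x, hx⟩)
  rw [h.card_R] at this
  simpa using congrArg Subtype.val this

theorem Setup.disj (h : Setup Q R π) {g : G} (hQ : g ∈ Q) (hR : g ∈ R) : g = 1 := by
  have hrp : Fact (Nat.Prime 2) := ⟨Nat.prime_two⟩
  have hd := IsPGroup.disjoint_of_ne 2 r (Ne.symm h.hr) Q (R : Subgroup G) h.pQ R.2
  exact Subgroup.disjoint_def.mp hd hQ hR

theorem Setup.norm_disj (h : Setup Q R π) {g : G}
    (hN : g ∈ Subgroup.normalizer ((R : Subgroup G) : Set G)) (hQ : g ∈ Q) : g = 1 := by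
  have hn := h.nQ
  have hmem : g ∈ Q ⊓ Subgroup.centralizer ((R : Subgroup G) : Set G) := by
    refine Subgroup.mem_inf.mpr ⟨hQ, ?_⟩
    rw [Subgroup.mem_centralizer_iff]
    intro y hy
    have hy' : y ∈ (R : Subgroup G) := hy
    have h1 : g * y * g⁻¹ ∈ (R : Subgroup G) := (Subgroup.mem_normalizer_iff.mp hN y).mp hy'
    have h2 : (g * y * g⁻¹) * y⁻¹ ∈ (R : Subgroup G) := mul_mem h1 (inv_mem hy')
    have h3 : (g * y * g⁻¹) * y⁻¹ ∈ Q := by
      have : y * g⁻¹ * y⁻¹ ∈ Q := hn.conj_mem _ (inv_mem hQ) y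
      have h4 := mul_mem hQ this
      have e : g * (y * g⁻¹ * y⁻¹) = (g * y * g⁻¹) * y⁻¹ := by group
      rwa [e] at h4
    have h5 := h.disj h3 h2
    have : g * y = y * g := by
      have e : g * y = ((g * y * g⁻¹) * y⁻¹) * (y * g) := by group
      rw [e, h5, one_mul]
    exact this.symm
  rw [h.hC] at hmem
  exact Subgroup.mem_bot.mp hmem


theorem Setup.frattini (h : Setup Q R π) (g : G) :
    ∃ q ∈ Q, ∃ n ∈ Subgroup.normalizer ((R : Subgroup G) : Set G), g = q * n := by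
  have hn := h.nQ
  set M : Subgroup G := Q ⊔ (R : Subgroup G) with hM
  have hQM : Q ≤ M := le_sup_left
  have hRM : (R : Subgroup G) ≤ M := le_sup_right
  -- index of M is 2
  have h1 : Q.relIndex M = r := by
    rw [hM, Subgroup.relIndex_sup_left, ← Subgroup.inf_relIndex_right]
    have : Q ⊓ (R : Subgroup G) = ⊥ := by
      rw [eq_bot_iff]
      intro g hg
      exact Subgroup.mem_bot.mpr (h.disj hg.1 hg.2)
    rw [this, Subgroup.relIndex_bot_left]
    exact h.card_R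
  have h2 : Q.index = 2 * r := by
    have h1 : π.ker.index = Nat.card (DihedralGroup r) := by
      rw [Subgroup.index_ker, MonoidHom.range_eq_top.mpr h.surj, Subgroup.card_top]
    rwa [h.ker_eq, DihedralGroup.nat_card] at h1
  have h3 : M.index = 2 := by
    have := Subgroup.relIndex_mul_index hQM
    rw [h1, h2] at this
    have hrp : 0 < r := (Fact.out : r.Prime).pos
    nlinarith
  have hMn : M.Normal := Subgroup.normal_of_index_eq_two h3
  have h4 := Sylow.normalizer_sup_eq_top' R hRM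
  have h5 : Subgroup.normalizer ((R : Subgroup G) : Set G) ⊔ Q = ⊤ := by
    rw [eq_top_iff, ← h4]
    refine sup_le le_sup_left ?_
    rw [hM]
    exact sup_le le_sup_right (le_trans Subgroup.le_normalizer le_sup_left)
  have h6 : g ∈ ((Subgroup.normalizer ((R : Subgroup G) : Set G) ⊔ Q : Subgroup G) : Set G) := by
    rw [h5]; exact Subgroup.mem_top g
  rw [sup_comm, Subgroup.normal_mul] at h6
  obtain ⟨q, hq, n, hn', rfl⟩ := Set.mem_mul.mp h6
  exact ⟨q, hq, n, hn', rfl⟩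

theorem Setup.inj_on_N (h : Setup Q R π) {n n' : G}
    (hn : n ∈ Subgroup.normalizer ((R : Subgroup G) : Set G))
    (hn' : n' ∈ Subgroup.normalizer ((R : Subgroup G) : Set G)) (he : π n = π n') : n = n' := by
  have h1 : n⁻¹ * n' ∈ Q := by
    rw [← h.ker, map_mul, map_inv, he, inv_mul_cancel]
  have h2 := h.norm_disj (mul_mem (inv_mem hn) hn') h1
  exact inv_mul_eq_one.mp h2

theorem Setup.surj_on_N (h : Setup Q R π) (d : DihedralGroup r) :
    ∃ n ∈ Subgroup.normalizer ((R : Subgroup G) : Set G), π n = d := by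
  obtain ⟨g, rfl⟩ := h.surj d
  obtain ⟨q, hq, n, hn, rfl⟩ := h.frattini g
  refine ⟨n, hn, ?_⟩
  rw [map_mul, (h.ker q).mpr hq, one_mul]

theorem Setup.iso (h : Setup Q R π) :
    Nonempty (↥(Subgroup.normalizer ((R : Subgroup G) : Set G)) ≃* DihedralGroup r) := by
  refine ⟨MulEquiv.ofBijective (π.comp (Subgroup.normalizer ((R : Subgroup G) : Set G)).subtype)
    ⟨?_, ?_⟩⟩
  · intro a b hab
    exact Subtype.ext (h.inj_on_N a.2 b.2 hab)
  · intro d
    obtain ⟨n, hn, hd⟩ := h.surj_on_N d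
    exact ⟨⟨n, hn⟩, hd⟩


theorem invol_facts {g : G} (hg : orderOf g = 2) : g * g = 1 ∧ g ≠ 1 ∧ g⁻¹ = g := by
  have h1 : g * g = 1 := by
    have := pow_orderOf_eq_one g
    rwa [hg, pow_two] at this
  refine ⟨h1, ?_, ?_⟩
  · intro h
    rw [h, orderOf_one] at hg
    omega
  · exact inv_eq_of_mul_eq_one_right h1

theorem Setup.pi_invol (h : Setup Q R π) {b : G} (hb : b * b = 1) (hbQ : b ∉ Q) :
    π b * π b = 1 ∧ π b ≠ 1 := by
  refine ⟨by rw [← map_mul, hb, map_one], ?_⟩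
  intro h1
  exact hbQ ((h.ker b).mp h1)

theorem Setup.pi_inverts (h : Setup Q R π) {b x : G} (hb : b * b = 1) (hbQ : b ∉ Q)
    (hx : x ∈ R) : π b * π x * (π b)⁻¹ = (π x)⁻¹ := by
  obtain ⟨h1, h2⟩ := h.pi_invol hb hbQ
  refine dih_inv h.hr _ _ h1 h2 ?_
  rw [← map_pow, h.pow_r_eq_one hx, map_one]

theorem Setup.not_mem_Q_of_invol (h : Setup Q R π) {n : G}
    (hn : n ∈ Subgroup.normalizer ((R : Subgroup G) : Set G)) (hn1 : n ≠ 1) : n ∉ Q :=
  fun hq => hn1 (h.norm_disj hn hq)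

theorem Setup.inverts (h : Setup Q R π) {n x : G}
    (hn : n ∈ Subgroup.normalizer ((R : Subgroup G) : Set G)) (hnn : n * n = 1) (hn1 : n ≠ 1)
    (hx : x ∈ R) : n * x * n⁻¹ = x⁻¹ := by
  have hx' : x ∈ (R : Subgroup G) := hx
  have h1 : n * x * n⁻¹ ∈ (R : Subgroup G) := (Subgroup.mem_normalizer_iff.mp hn x).mp hx'
  have hRN : (R : Subgroup G) ≤ Subgroup.normalizer ((R : Subgroup G) : Set G) :=
    Subgroup.le_normalizer
  apply h.inj_on_N (hRN h1) (hRN (inv_mem hx'))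
  rw [map_mul, map_mul, map_inv, map_inv]
  exact h.pi_inverts hnn (h.not_mem_Q_of_invol hn hn1) hx

theorem mem_normalizer_zpowers {s z : G} (h : s * z * s⁻¹ = z⁻¹) :
    s ∈ Subgroup.normalizer ((Subgroup.zpowers z : Subgroup G) : Set G) := by
  have h' : s⁻¹ * z * s = z⁻¹ := by
    have : z = s⁻¹ * z⁻¹ * s := by rw [← h]; group
    calc s⁻¹ * z * s = (s⁻¹ * z⁻¹ * s)⁻¹ := by group
      _ = z⁻¹ := by rw [← this]
  rw [Subgroup.mem_normalizer_iff]
  intro y
  constructor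
  · rintro ⟨k, rfl⟩
    rw [← conj_zpow, h]
    exact Subgroup.zpow_mem (Subgroup.zpowers z) (inv_mem (Subgroup.mem_zpowers z)) k
  · rintro ⟨k, hk⟩
    have hk' : z ^ k = s * y * s⁻¹ := hk
    have : y = (s⁻¹ * z * s) ^ k := by
      have e : s⁻¹ * z * s = s⁻¹ * z * s⁻¹⁻¹ := by rw [inv_inv]
      rw [e, conj_zpow, hk']; group
    rw [this, h']
    exact Subgroup.zpow_mem (Subgroup.zpowers z) (inv_mem (Subgroup.mem_zpowers z)) k


theorem Setup.key (h : Setup Q R π) {s t x' : G} (hs : s * s = 1) (ht : t * t = 1)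
    (hx' : x' ∈ R) (hx1 : x' ≠ 1) (hπ : π (s * t) = π x') :
    ∃ q ∈ Q, q⁻¹ * s * q ∈ Subgroup.normalizer ((R : Subgroup G) : Set G) ∧
      q⁻¹ * t * q ∈ Subgroup.normalizer ((R : Subgroup G) : Set G) := by
  obtain ⟨m, hm⟩ := IsPGroup.iff_card.mp h.pQ
  set c := Nat.card Q with hc
  set y := s * t with hy
  set z := y ^ c with hz
  have hyr : y ^ r ∈ Q := by
    rw [← h.ker, map_pow, hπ, ← map_pow, h.pow_r_eq_one hx', map_one]
  have hzr : z ^ r = 1 := by
    have h1 : (⟨y ^ r, hyr⟩ : Q) ^ c = 1 := pow_card_eq_one'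
    have h2 : (y ^ r) ^ c = 1 := by
      have := congrArg Subtype.val h1
      simpa only [Subgroup.coe_pow, OneMemClass.coe_one] using this
    rw [hz, ← pow_mul, mul_comm, pow_mul]
    exact h2
  have hz1 : z ≠ 1 := by
    intro hz'
    have h1 : x' ^ c ∈ Q := by
      rw [← h.ker, map_pow, ← hπ, ← map_pow]
      show π z = 1
      rw [hz', map_one]
    have h2 : x' ^ c = 1 := h.disj h1 (pow_mem hx' c)
    have hord : orderOf x' = r := orderOf_eq_prime (h.pow_r_eq_one hx') hx1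
    have h3 : r ∣ c := hord ▸ orderOf_dvd_of_pow_eq_one h2
    rw [hm] at h3
    exact h.r_not_dvd_two_pow m h3
  have hord : orderOf z = r := orderOf_eq_prime hzr hz1
  have hZc : Nat.card (Subgroup.zpowers z) = r := by rw [Nat.card_zpowers, hord]
  have hZp : IsPGroup r (Subgroup.zpowers z) := IsPGroup.of_card (n := 1) (by rw [hZc, pow_one])
  obtain ⟨P', hP'⟩ := hZp.exists_le_sylow
  obtain ⟨g, hg⟩ := MulAction.exists_smul_eq G R P'
  have hcard : Nat.card P' = r := by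
    rw [Sylow.card_eq_multiplicity, ← Sylow.card_eq_multiplicity R, h.card_R]
  have hZP : Subgroup.zpowers z = (P' : Subgroup G) :=
    Subgroup.eq_of_le_of_card_ge hP' (by rw [hcard, hZc])
  have hsi : s⁻¹ = s := inv_eq_of_mul_eq_one_right hs
  have hti : t⁻¹ = t := inv_eq_of_mul_eq_one_right ht
  have hyi : y⁻¹ = t * s := by rw [hy, mul_inv_rev, hsi, hti]
  have hsy : s * y * s⁻¹ = y⁻¹ := by
    rw [hyi, hy, hsi, ← mul_assoc, hs, one_mul]
  have hty : t * y * t⁻¹ = y⁻¹ := by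
    rw [hyi, hy, hti, mul_assoc, mul_assoc, ht, mul_one]
  have hnorm : ∀ u : G, u * y * u⁻¹ = y⁻¹ →
      g⁻¹ * u * g ∈ Subgroup.normalizer ((R : Subgroup G) : Set G) := by
    intro u hu
    have huz : u * z * u⁻¹ = z⁻¹ := by rw [hz, ← conj_pow, hu, inv_pow]
    have h1 : u ∈ Subgroup.normalizer ((P' : Subgroup G) : Set G) := by
      rw [← hZP]; exact mem_normalizer_zpowers huz
    have h2 : u • P' = P' := Sylow.smul_eq_iff_mem_normalizer.mpr h1
    have h3 : (g⁻¹ * u * g) • R = R := by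
      rw [mul_smul, mul_smul, hg, h2, ← hg, inv_smul_smul]
    exact Sylow.smul_eq_iff_mem_normalizer.mp h3
  have hsN := hnorm s hsy
  have htN := hnorm t hty
  obtain ⟨q, hq, n, hn, hgq⟩ := h.frattini g
  refine ⟨q, hq, ?_, ?_⟩
  · have e : q⁻¹ * s * q = n * (g⁻¹ * s * g) * n⁻¹ := by rw [hgq]; group
    rw [e]; exact mul_mem (mul_mem hn hsN) (inv_mem hn)
  · have e : q⁻¹ * t * q = n * (g⁻¹ * t * g) * n⁻¹ := by rw [hgq]; group
    rw [e]; exact mul_mem (mul_mem hn htN) (inv_mem hn)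

theorem Setup.conj_fix (h : Setup Q R π) {n q : G}
    (hn : n ∈ Subgroup.normalizer ((R : Subgroup G) : Set G)) (hq : q ∈ Q)
    (hqn : q⁻¹ * n * q ∈ Subgroup.normalizer ((R : Subgroup G) : Set G)) : q⁻¹ * n * q = n := by
  have hnQ := h.nQ
  have h1 : (q⁻¹ * n * q) * n⁻¹ ∈ Q := by
    have : n * q * n⁻¹ ∈ Q := hnQ.conj_mem _ hq n
    have h2 := mul_mem (inv_mem hq) this
    have e : q⁻¹ * (n * q * n⁻¹) = (q⁻¹ * n * q) * n⁻¹ := by group
    rwa [e] at h2
  have h2 := h.norm_disj (mul_mem hqn (inv_mem hn)) h1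
  exact mul_inv_eq_one.mp h2


theorem Setup.exists_gen (h : Setup Q R π) :
    ∃ x ∈ (R : Subgroup G), x ≠ 1 ∧ orderOf x = r ∧ x * x ≠ 1 ∧
      Subgroup.zpowers x = (R : Subgroup G) := by
  have hrp : r.Prime := Fact.out
  have hne : (R : Subgroup G) ≠ ⊥ := by
    intro hbot
    have := h.card_R
    rw [show Nat.card R = Nat.card (R : Subgroup G) from rfl, hbot, Subgroup.card_bot] at this
    exact hrp.one_lt.ne this
  obtain ⟨x, hx1⟩ := (Subgroup.ne_bot_iff_exists_ne_one.mp hne)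
  have hxR : (x : G) ∈ (R : Subgroup G) := x.2
  have hx1' : (x : G) ≠ 1 := fun h1 => hx1 (Subtype.ext h1)
  have hord : orderOf (x : G) = r := orderOf_eq_prime (h.pow_r_eq_one hxR) hx1'
  refine ⟨x, hxR, hx1', hord, ?_, ?_⟩
  · intro hxx
    have : orderOf (x : G) ∣ 2 := orderOf_dvd_of_pow_eq_one (by rw [pow_two]; exact hxx)
    rw [hord] at this
    exact h.r_not_dvd_two_pow 1 (by simpa using this)
  · refine Subgroup.eq_of_le_of_card_ge ((Subgroup.zpowers_le).mpr hxR) ?_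
    rw [Nat.card_zpowers, hord]
    exact h.card_R.le

theorem Setup.claim2 (h : Setup Q R π) {a : G}
    (haN : a ∈ Subgroup.normalizer ((R : Subgroup G) : Set G)) (ha : orderOf a = 2) {b : G}
    (hb : orderOf b = 2) (hbQ : b ∉ Q) : ∃ g : G, g * a * g⁻¹ = b := by
  obtain ⟨haa, ha1, hai⟩ := invol_facts ha
  obtain ⟨hbb, hb1, hbi⟩ := invol_facts hb
  obtain ⟨x, hx, hx1, hord, hxx, -⟩ := h.exists_gen
  have htt : (x⁻¹ * b * x) * (x⁻¹ * b * x) = 1 := by
    have e : (x⁻¹ * b * x) * (x⁻¹ * b * x) = x⁻¹ * (b * b) * x := by group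
    rw [e, hbb]; group
  have hπ : π (b * (x⁻¹ * b * x)) = π (x * x) := by
    have hinv := h.pi_inverts hbb hbQ (inv_mem hx)
    have hbi' : (π b)⁻¹ = π b := by rw [← map_inv, hbi]
    rw [hbi', map_inv, inv_inv] at hinv
    have e : b * (x⁻¹ * b * x) = (b * x⁻¹ * b) * x := by group
    rw [e, map_mul, map_mul (x := x), map_mul, map_mul, map_inv, hinv]
  obtain ⟨q, hq, hsN, -⟩ := h.key hbb htt (mul_mem hx hx) hxx hπ
  have hnn : (q⁻¹ * b * q) * (q⁻¹ * b * q) = 1 := by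
    have e : (q⁻¹ * b * q) * (q⁻¹ * b * q) = q⁻¹ * (b * b) * q := by group
    rw [e, hbb]; group
  have hn1 : q⁻¹ * b * q ≠ 1 := by
    intro h1
    apply hb1
    have e : b = q * (q⁻¹ * b * q) * q⁻¹ := by group
    rw [e, h1]; group
  obtain ⟨hpa1, hpa2⟩ := h.pi_invol haa (h.not_mem_Q_of_invol haN ha1)
  obtain ⟨hpn1, hpn2⟩ := h.pi_invol hnn (h.not_mem_Q_of_invol hsN hn1)
  obtain ⟨w', hw'⟩ := dih_conj h.hr (π a) (π (q⁻¹ * b * q)) hpa1 hpa2 hpn1 hpn2
  obtain ⟨w, hwN, rfl⟩ := h.surj_on_N w'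
  have hwa : w * a * w⁻¹ = q⁻¹ * b * q :=
    h.inj_on_N (mul_mem (mul_mem hwN haN) (inv_mem hwN)) hsN
      (by rw [map_mul, map_mul, map_inv]; exact hw')
  refine ⟨q * w, ?_⟩
  have e : q * w * a * (q * w)⁻¹ = q * (w * a * w⁻¹) * q⁻¹ := by group
  rw [e, hwa]; group


theorem card_eq_mul_of_factor (Q A B : Subgroup G) (hA : A ≤ Q) (hB : B ≤ Q)
    (hdisj : ∀ u, u ∈ A → u ∈ B → u = 1)
    (hfac : ∀ q ∈ Q, ∃ u ∈ A, ∃ v ∈ B, q = u * v) :
    Nat.card Q = Nat.card A * Nat.card B := by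
  let f : A × B → Q := fun p => ⟨(p.1 : G) * (p.2 : G), mul_mem (hA p.1.2) (hB p.2.2)⟩
  have hinj : Function.Injective f := by
    rintro ⟨u, v⟩ ⟨u', v'⟩ huv
    have h1 : (u : G) * (v : G) = (u' : G) * (v' : G) := congrArg Subtype.val huv
    have h2 : (u' : G)⁻¹ * (u : G) = (v' : G) * (v : G)⁻¹ := by
      have e : (u' : G)⁻¹ * (u : G) = (u' : G)⁻¹ * ((u : G) * (v : G)) * (v : G)⁻¹ := by group
      rw [e, h1]; group
    have h3 : (u' : G)⁻¹ * (u : G) = 1 :=
      hdisj _ (mul_mem (inv_mem u'.2) u.2) (h2 ▸ mul_mem v'.2 (inv_mem v.2))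
    have h4 : (u : G) = (u' : G) := (inv_mul_eq_one.mp h3).symm
    have h5 : (v : G) = (v' : G) := by
      rw [h4] at h1
      exact mul_left_cancel h1
    exact Prod.ext (Subtype.ext h4) (Subtype.ext h5)
  have hsurj : Function.Surjective f := by
    rintro ⟨q, hq⟩
    obtain ⟨u, hu, v, hv, rfl⟩ := hfac q hq
    exact ⟨(⟨u, hu⟩, ⟨v, hv⟩), rfl⟩
  rw [← Nat.card_prod]
  exact (Nat.card_congr (Equiv.ofBijective f ⟨hinj, hsurj⟩)).symm

theorem card_centralizer_conj (Q : Subgroup G) [Q.Normal] {a a' w : G} (hw : w * a * w⁻¹ = a') :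
    Nat.card ↥(Q ⊓ Subgroup.centralizer ({a'} : Set G)) =
      Nat.card ↥(Q ⊓ Subgroup.centralizer ({a} : Set G)) := by
  have hn : Q.Normal := inferInstance
  have hw' : w⁻¹ * a' * w = a := by rw [← hw]; group
  have key : ∀ (c c' v u : G), v * c * v⁻¹ = c' → u ∈ Q ⊓ Subgroup.centralizer ({c} : Set G) →
      v * u * v⁻¹ ∈ Q ⊓ Subgroup.centralizer ({c'} : Set G) := by
    intro c c' v u hv hu
    refine Subgroup.mem_inf.mpr ⟨hn.conj_mem _ (Subgroup.mem_inf.mp hu).1 v, ?_⟩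
    have h1 : u * c = c * u := Subgroup.mem_centralizer_singleton_iff.mp (Subgroup.mem_inf.mp hu).2
    rw [Subgroup.mem_centralizer_singleton_iff, ← hv]
    have e1 : v * u * v⁻¹ * (v * c * v⁻¹) = v * (u * c) * v⁻¹ := by group
    have e2 : v * c * v⁻¹ * (v * u * v⁻¹) = v * (c * u) * v⁻¹ := by group
    rw [e1, e2, h1]
  refine Nat.card_congr ⟨fun u => ⟨w⁻¹ * u * w, ?_⟩, fun u => ⟨w * u * w⁻¹, key a a' w u hw u.2⟩,
    ?_, ?_⟩
  · have := key a' a w⁻¹ u (by rw [inv_inv]; exact hw') u.2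
    rwa [inv_inv] at this
  · intro u; apply Subtype.ext; show w * (w⁻¹ * (u : G) * w) * w⁻¹ = u; group
  · intro u; apply Subtype.ext; show w⁻¹ * (w * (u : G) * w⁻¹) * w = u; group

theorem Setup.claim3 (h : Setup Q R π) {a : G}
    (haN : a ∈ Subgroup.normalizer ((R : Subgroup G) : Set G)) (ha : orderOf a = 2) :
    Nat.card ↥(Q ⊓ Subgroup.centralizer ({a} : Set G)) ^ 2 = Nat.card Q := by
  have hnQ := h.nQ
  obtain ⟨haa, ha1, hai⟩ := invol_facts ha
  obtain ⟨x, hx, hx1, hord, hxx, hZR⟩ := h.exists_gen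
  have hRN : (R : Subgroup G) ≤ Subgroup.normalizer ((R : Subgroup G) : Set G) :=
    Subgroup.le_normalizer
  have hinv : a * x * a = x⁻¹ := by
    have := h.inverts haN haa ha1 hx
    rwa [hai] at this
  have ha'N : a * x ∈ Subgroup.normalizer ((R : Subgroup G) : Set G) := mul_mem haN (hRN hx)
  have ha'a' : (a * x) * (a * x) = 1 := by
    have e : (a * x) * (a * x) = (a * x * a) * x := by group
    rw [e, hinv]; group
  have ha'1 : a * x ≠ 1 := by
    intro h1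
    have h2 : a = x⁻¹ := eq_inv_of_mul_eq_one_left h1
    have haR : a ∈ (R : Subgroup G) := h2 ▸ inv_mem hx
    have hd := orderOf_dvd_of_pow_eq_one (h.pow_r_eq_one haR)
    rw [ha] at hd
    exact h.hr ((Nat.prime_dvd_prime_iff_eq Nat.prime_two (Fact.out : r.Prime)).mp hd).symm
  have ha'Q : a * x ∉ Q := h.not_mem_Q_of_invol ha'N ha'1
  have hord' : orderOf (a * x) = 2 := orderOf_eq_prime (by rw [pow_two]; exact ha'a') ha'1
  -- disjointness
  have hAB : ∀ u, u ∈ Q ⊓ Subgroup.centralizer ({a} : Set G) →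
      u ∈ Q ⊓ Subgroup.centralizer ({a * x} : Set G) → u = 1 := by
    intro u hA hB
    have h1 : u * a = a * u := Subgroup.mem_centralizer_singleton_iff.mp (Subgroup.mem_inf.mp hA).2
    have h2 : u * (a * x) = (a * x) * u :=
      Subgroup.mem_centralizer_singleton_iff.mp (Subgroup.mem_inf.mp hB).2
    have h3 : Commute u x := by
      have e : a * (u * x) = a * (x * u) := by
        rw [← mul_assoc, ← h1, mul_assoc, h2, mul_assoc]
      exact mul_left_cancel e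
    have hmem : u ∈ Q ⊓ Subgroup.centralizer ((R : Subgroup G) : Set G) := by
      refine Subgroup.mem_inf.mpr ⟨(Subgroup.mem_inf.mp hA).1, ?_⟩
      rw [Subgroup.mem_centralizer_iff]
      intro y hy
      have hy' : y ∈ Subgroup.zpowers x := by rw [hZR]; exact hy
      obtain ⟨k, rfl⟩ := hy'
      exact ((h3.zpow_right k).eq).symm
    rw [h.hC] at hmem
    exact Subgroup.mem_bot.mp hmem
  -- factorization
  have hfac : ∀ q₀ ∈ Q, ∃ u ∈ Q ⊓ Subgroup.centralizer ({a} : Set G),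
      ∃ v ∈ Q ⊓ Subgroup.centralizer ({a * x} : Set G), q₀ = u * v := by
    intro q₀ hq₀
    have htt : (q₀ * (a * x) * q₀⁻¹) * (q₀ * (a * x) * q₀⁻¹) = 1 := by
      have e : (q₀ * (a * x) * q₀⁻¹) * (q₀ * (a * x) * q₀⁻¹) =
          q₀ * ((a * x) * (a * x)) * q₀⁻¹ := by group
      rw [e, ha'a']; group
    have hπ : π (a * (q₀ * (a * x) * q₀⁻¹)) = π x := by
      rw [map_mul, map_mul, map_mul, map_inv, (h.ker q₀).mpr hq₀, one_mul, inv_one, mul_one,
        ← map_mul, ← mul_assoc, haa, one_mul]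
    obtain ⟨q, hq, h1, h2⟩ := h.key haa htt hx hx1 hπ
    have e1 : q⁻¹ * a * q = a := h.conj_fix haN hq h1
    have hq₁ : q₀⁻¹ * q ∈ Q := mul_mem (inv_mem hq₀) hq
    have e2' : (q₀⁻¹ * q)⁻¹ * (a * x) * (q₀⁻¹ * q) = q⁻¹ * (q₀ * (a * x) * q₀⁻¹) * q := by group
    have e2 : (q₀⁻¹ * q)⁻¹ * (a * x) * (q₀⁻¹ * q) = a * x :=
      h.conj_fix ha'N hq₁ (e2' ▸ h2)
    refine ⟨q, Subgroup.mem_inf.mpr ⟨hq, ?_⟩, (q₀⁻¹ * q)⁻¹,
      Subgroup.mem_inf.mpr ⟨inv_mem hq₁, ?_⟩, by group⟩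
    · rw [Subgroup.mem_centralizer_singleton_iff]
      have e : q * a = q * (q⁻¹ * a * q) := by rw [e1]
      rw [e]; group
    · rw [Subgroup.mem_centralizer_singleton_iff]
      have e : (q₀⁻¹ * q)⁻¹ * (a * x) =
          ((q₀⁻¹ * q)⁻¹ * (a * x) * (q₀⁻¹ * q)) * (q₀⁻¹ * q)⁻¹ := by group
      rw [e, e2]
  obtain ⟨w, hw⟩ := h.claim2 haN ha hord' ha'Q
  have hcard := card_centralizer_conj Q hw
  have hmul := card_eq_mul_of_factor Q _ _ inf_le_left inf_le_left hAB hfac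
  rw [hmul, hcard, pow_two]



/-- Let G be a finite group and r an odd prime such that G ⧸ O₂(G) is dihedral of order 2r, and let R be a Sylow r-subgroup of G with C_{O₂(G)}(R) = 1. Then N_G(R) is dihedral of order 2r; for any involution a of N_G(R), every involution of G outside O₂(G) is conjugate to a; and |C_{O₂(G)}(a)|² = |O₂(G)|. -/
theorem result {G : Type*} [Group G] [Finite G] {r : ℕ} [Fact r.Prime] (hr : r ≠ 2) [hN : (Cfsg.pCore 2 G).Normal] (hquot : Nonempty (G ⧸ Cfsg.pCore 2 G ≃* DihedralGroup r)) (R : Sylow r G) (hC : Cfsg.pCore 2 G ⊓ Subgroup.centralizer ((R : Subgroup G) : Set G) = ⊥) : Nonempty (↥(Subgroup.normalizer ((R : Subgroup G) : Set G)) ≃* DihedralGroup r) ∧ ∀ a : G, a ∈ Subgroup.normalizer ((R : Subgroup G) : Set G) → orderOf a = 2 → (∀ b : G, orderOf b = 2 → b ∉ Cfsg.pCore 2 G → ∃ g : G, g * a * g⁻¹ = b) ∧ Nat.card ↥(Cfsg.pCore 2 G ⊓ Subgroup.centralizer ({a} : Set G)) ^ 2 = Nat.card ↥(Cfsg.pCore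 2 G) := by
  obtain ⟨φ⟩ := hquot
  have h2 : Fact (Nat.Prime 2) := ⟨Nat.prime_two⟩
  have hS : Setup (Cfsg.pCore 2 G) R (φ.toMonoidHom.comp (QuotientGroup.mk' (Cfsg.pCore 2 G))) :=
    { hr := hr
      nQ := hN
      pQ := Cfsg.Agent.Lib.Helper49.isPGroup_pCore 2 G
      surj := φ.surjective.comp (QuotientGroup.mk'_surjective _)
      ker := fun g => by
        show φ (QuotientGroup.mk' (Cfsg.pCore 2 G) g) = 1 ↔ g ∈ Cfsg.pCore 2 G
        rw [MulEquiv.map_eq_one_iff]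
        exact QuotientGroup.eq_one_iff g
      hC := hC }
  exact ⟨hS.iso, fun a haN ha => ⟨fun b hb hbQ => hS.claim2 haN ha hb hbQ, hS.claim3 haN ha⟩⟩

end Cfsg.Agent.S2873
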