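import Cfsg.Statements.S2874
-- import your own Cfsg.Agent.* helpers here
import Cfsg.Agent.Lib.Helper48.ZTwoPow
import Cfsg.Agent.Lib.Helper48.FourGroup

set_option autoImplicit false
open Cfsg

namespace Cfsg.Agent.S2874

open Cfsg.Agent.Lib.Helper48 Cfsg.Agent.Lib.Helper48.ZTwoPow Matrix Equiv

/-! ### The alternating group of degree four -/

def a1 : alternatingGroup (Fin 4) :=
  ⟨swap 0 1 * swap 2 3, Equiv.Perm.mem_alternatingGroup.mpr (by decide)⟩
def gam : alternatingGroup (Fin 4) :=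
  ⟨swap 1 2 * swap 2 3, Equiv.Perm.mem_alternatingGroup.mpr (by decide)⟩

set_option maxRecDepth 100000 in
theorem a4_facts :
    a1 ≠ 1 ∧ a1 * a1 = 1 ∧ gam * gam * gam = 1 ∧ gam ≠ 1 ∧
    a1 * (gam * a1 * gam⁻¹) = (gam * a1 * gam⁻¹) * a1 ∧
    gam * (gam * a1 * gam⁻¹) * gam⁻¹ = a1 * (gam * a1 * gam⁻¹) ∧
    ∀ x : alternatingGroup (Fin 4),
      ∃ v ∈ [1, a1, gam * a1 * gam⁻¹, a1 * (gam * a1 * gam⁻¹)], ∃ i ∈ [0, 1, 2], x = v * gam ^ i := by
  decide

/-- The data of a subgroup isomorphic to `A₄`. -/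
structure A4Data {G : Type*} [Group G] (H : Subgroup G) (t c : G) : Prop where
  t_mem : t ∈ H
  c_mem : c ∈ H
  t_ne : t ≠ 1
  t_sq : t * t = 1
  c_cube : c * c * c = 1
  c_ne : c ≠ 1
  comm : t * (c * t * c⁻¹) = (c * t * c⁻¹) * t
  conj : c * (c * t * c⁻¹) * c⁻¹ = t * (c * t * c⁻¹)
  gen : ∀ x ∈ H, ∃ v ∈ fourSub t (c * t * c⁻¹), ∃ z ∈ Subgroup.zpowers c, x = v * z

theorem exists_a4Data {G : Type*} [Group G] (H : Subgroup G)
    (h : Nonempty (↥H ≃* ↥(alternatingGroup (Fin 4)))) : ∃ t c : G, A4Data H t c := by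
  obtain ⟨e⟩ := h
  obtain ⟨f1, f2, f3, f4, f5, f6, f7⟩ := a4_facts
  have key : ∀ x y : alternatingGroup (Fin 4), ((e.symm (x * y) : H) : G) = (e.symm x : G) * (e.symm y : G) := by
    intro x y; rw [map_mul]; rfl
  have keyinv : ∀ x : alternatingGroup (Fin 4), ((e.symm x⁻¹ : H) : G) = ((e.symm x : H) : G)⁻¹ := by
    intro x; rw [map_inv]; rfl
  have keyone : ((e.symm 1 : H) : G) = 1 := by rw [map_one]; rfl
  have inj : ∀ x y : alternatingGroup (Fin 4), ((e.symm x : H) : G) = (e.symm y : G) → x = y := by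
    intro x y hxy
    exact e.symm.injective (Subtype.ext hxy)
  refine ⟨(e.symm a1 : H), (e.symm gam : H), ?_⟩
  have hconj : ((e.symm gam : H) : G) * (e.symm a1 : H) * ((e.symm gam : H) : G)⁻¹ =
      ((e.symm (gam * a1 * gam⁻¹) : H) : G) := by
    rw [key, key, keyinv]
  constructor
  · exact (e.symm a1).2
  · exact (e.symm gam).2
  · intro h1
    exact f1 (inj _ _ (h1.trans keyone.symm))
  · rw [← key, f2, keyone]
  · rw [← key, ← key, f3, keyone]
  · intro h1
    exact f4 (inj _ _ (h1.trans keyone.symm))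
  · rw [hconj, ← key, ← key, f5]
  · rw [hconj, ← keyinv, ← key, ← key, ← key, f6]
  · intro x hx
    obtain ⟨v, hv, i, -, hxi⟩ := f7 (e ⟨x, hx⟩)
    have hx' : x = ((e.symm (v * gam ^ i) : H) : G) := by
      rw [← hxi]; simp
    refine ⟨(e.symm v : H), ?_, ((e.symm gam : H) : G) ^ i, ?_, ?_⟩
    · rw [hconj]
      simp only [List.mem_cons, List.mem_nil_iff, or_false] at hv
      rcases hv with rfl | rfl | rfl | rfl
      · rw [keyone]; exact one_mem _
      · exact left_mem_fourSub _ _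
      · exact right_mem_fourSub _ _
      · rw [key a1 (gam * a1 * gam⁻¹)]
        apply Subgroup.mul_mem
        · exact left_mem_fourSub _ _
        · exact right_mem_fourSub _ _
    · exact Subgroup.pow_mem _ (Subgroup.mem_zpowers _) i
    · rw [hx', key, map_pow]; rfl


/-! ### `GL₂(ℤ/2^(m+1))` and its last congruence kernel -/

section GLsec

variable (m : ℕ)

local notation "R" => ZMod (2 ^ (m + 1))
local notation "R'" => ZMod (2 ^ m)
local notation "GG" => GL (Fin 2) (ZMod (2 ^ (m + 1)))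

/-- Cayley–Hamilton for `2 × 2` matrices. -/
theorem cayley_two {A : Type*} [CommRing A] (T : Matrix (Fin 2) (Fin 2) A) :
    T * T = T.trace • T - T.det • (1 : Matrix (Fin 2) (Fin 2) A) := by
  ext i j
  fin_cases i <;> fin_cases j <;>
    simp [Matrix.mul_apply, Fin.sum_univ_two, Matrix.det_fin_two, Matrix.trace_fin_two] <;> ring

/-- An involution of determinant one in `GL₂(ℤ/2^(m+1))` is scalar modulo `2^m`. -/
theorem map_red_eq_smul_one (T : Matrix (Fin 2) (Fin 2) R) (hT : T * T = 1) (hdet : T.det = 1) :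
    ∃ l : R', T.map (red m) = l • (1 : Matrix (Fin 2) (Fin 2) R') := by
  have hch := cayley_two T
  rw [hT, hdet, one_smul] at hch
  -- `τ • T = 2 • 1`
  have h2 : T.trace • T = (2 : R) • (1 : Matrix (Fin 2) (Fin 2) R) := by
    rw [two_smul]
    rw [eq_sub_iff_add_eq] at hch
    exact hch.symm
  have hA : (T.map (red m)) * (T.map (red m)) = 1 := by
    have := congrArg (fun M : Matrix (Fin 2) (Fin 2) R => M.map (red m)) hT
    simp only [Matrix.map_mul] at this
    rw [this]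
    ext i j
    simp [Matrix.one_apply]
  rcases isUnit_or_even m T.trace with hu | ⟨s, hs⟩
  · exfalso
    have hd := congrArg Matrix.det h2
    rw [Matrix.det_smul, Matrix.det_smul, hdet, Matrix.det_one, Fintype.card_fin] at hd
    have h4 : IsUnit ((2 : R) ^ 2) := by
      have : (2 : R) ^ 2 = T.trace ^ 2 := by rw [mul_one, mul_one] at hd; exact hd.symm
      rw [this]; exact hu.pow 2
    exact not_isUnit_two m (isUnit_pow_iff (by norm_num) |>.mp h4)
  · refine ⟨red m s, ?_⟩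
    have hent : ∀ i j, red m s * red m (T i j) = (1 : Matrix (Fin 2) (Fin 2) R') i j := by
      intro i j
      have h3 := congrFun (congrFun h2 i) j
      simp only [Matrix.smul_apply, smul_eq_mul] at h3
      rw [hs] at h3
      have h4 : (2 : R) * (s * T i j - (1 : Matrix (Fin 2) (Fin 2) R) i j) = 0 := by
        linear_combination h3
      have h5 := red_eq_zero_of_two_mul m _ h4
      rw [map_sub, map_mul, sub_eq_zero] at h5
      rw [h5]
      simp [Matrix.one_apply]
    have hlA : red m s • T.map (red m) = 1 := by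
      ext i j
      simp only [Matrix.smul_apply, Matrix.map_apply, smul_eq_mul]
      exact hent i j
    calc T.map (red m) = (1 : Matrix (Fin 2) (Fin 2) R') * T.map (red m) := (one_mul _).symm
      _ = (red m s • T.map (red m)) * T.map (red m) := by rw [hlA]
      _ = red m s • (T.map (red m) * T.map (red m)) := by rw [Matrix.smul_mul]
      _ = red m s • 1 := by rw [hA]


/-- reduction `GL₂(ℤ/2^(m+1)) → GL₂(ℤ/2^m)` -/
noncomputable def redGL : GG →* GL (Fin 2) R' := Matrix.GeneralLinearGroup.map (red m)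

/-- the last congruence kernel -/
noncomputable def Kp : Subgroup GG := (redGL m).ker

instance : (Kp m).Normal := by unfold Kp; infer_instance

theorem redGL_val (x : GG) : ((redGL m x : GL (Fin 2) R') : Matrix (Fin 2) (Fin 2) R') =
    (x : Matrix (Fin 2) (Fin 2) R).map (red m) := rfl

theorem mem_Kp_iff (x : GG) :
    x ∈ Kp m ↔ (x : Matrix (Fin 2) (Fin 2) R).map (red m) = 1 := by
  unfold Kp
  rw [MonoidHom.mem_ker, Units.ext_iff, redGL_val]
  rfl

theorem mem_Kp_of_data (t c : GG) (ht : t * t = 1)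
    (hconj : c * (c * t * c⁻¹) * c⁻¹ = t * (c * t * c⁻¹)) :
    t ∈ Kp m ∧ c * t * c⁻¹ ∈ Kp m := by
  set d : GG →* (ZMod (2 ^ (m + 1)))ˣ := Matrix.GeneralLinearGroup.det with hd
  have hd2 : ∀ x y : GG, d (x * y * x⁻¹) = d y := by
    intro x y
    rw [map_mul, map_mul, map_inv, mul_inv_cancel_comm]
  have hd3 : d t = 1 := by
    have h1 := congrArg d hconj
    rw [hd2, hd2, map_mul, hd2] at h1
    have : d t * d t = d t := h1.symm
    exact mul_eq_left.mp this |> fun h => h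
  have hdet : (t : Matrix (Fin 2) (Fin 2) R).det = 1 := by
    have := congrArg Units.val hd3
    simpa [hd] using this
  have hTT : (t : Matrix (Fin 2) (Fin 2) R) * (t : Matrix (Fin 2) (Fin 2) R) = 1 := by
    have := congrArg Units.val ht
    simpa using this
  obtain ⟨l, hl⟩ := map_red_eq_smul_one m (t : Matrix (Fin 2) (Fin 2) R) hTT hdet
  have hcen : ∀ y : GL (Fin 2) R', y * redGL m t = redGL m t * y := by
    intro y
    apply Units.ext
    rw [Units.val_mul, Units.val_mul, redGL_val, hl]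
    simp
  have hr2 : ∀ x : GG, redGL m (x * t * x⁻¹) = redGL m t := by
    intro x
    rw [map_mul, map_mul, map_inv, hcen, mul_inv_cancel_right]
  have h1 := congrArg (redGL m) hconj
  rw [map_mul _ t, hr2 c, map_mul, map_mul, map_inv, hr2 c, hcen, mul_inv_cancel_right] at h1
  have h2 : redGL m t = 1 := by
    have : redGL m t * redGL m t = redGL m t := h1.symm
    exact mul_eq_left.mp this
  constructor
  · exact h2
  · show redGL m (c * t * c⁻¹) = 1
    rw [hr2, h2]

theorem red_one_apply (i j : Fin 2) :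
    red m ((1 : Matrix (Fin 2) (Fin 2) R) i j) = (1 : Matrix (Fin 2) (Fin 2) R') i j := by
  simp [Matrix.one_apply]

/-- Elements of the last congruence kernel are `1 + 2^m Y`. -/
theorem exists_eq_of_mem_Kp {x : GG} (hx : x ∈ Kp m) :
    ∃ Y : Matrix (Fin 2) (Fin 2) R, (x : Matrix (Fin 2) (Fin 2) R) = 1 + (2 ^ m : R) • Y := by
  rw [mem_Kp_iff] at hx
  have h1 : ∀ i j, ∃ z : R, (x : Matrix (Fin 2) (Fin 2) R) i j - (1 : Matrix (Fin 2) (Fin 2) R) i j = 2 ^ m * z := by
    intro i j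
    apply exists_mul_of_red_eq_zero
    rw [map_sub, red_one_apply, sub_eq_zero]
    have := congrFun (congrFun hx i) j
    simpa using this
  choose Y hY using h1
  refine ⟨Matrix.of Y, ?_⟩
  ext i j
  simp only [Matrix.add_apply, Matrix.smul_apply, Matrix.of_apply, smul_eq_mul]
  rw [← hY]; ring

theorem entry_eq_or_of_mem_Kp {x : GG} (hx : x ∈ Kp m) (i j : Fin 2) :
    (x : Matrix (Fin 2) (Fin 2) R) i j = (1 : Matrix (Fin 2) (Fin 2) R) i j ∨
    (x : Matrix (Fin 2) (Fin 2) R) i j = (1 : Matrix (Fin 2) (Fin 2) R) i j + 2 ^ m := by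
  rw [mem_Kp_iff] at hx
  have h0 : red m ((x : Matrix (Fin 2) (Fin 2) R) i j - (1 : Matrix (Fin 2) (Fin 2) R) i j) = 0 := by
    rw [map_sub, red_one_apply, sub_eq_zero]
    have := congrFun (congrFun hx i) j
    simpa using this
  rcases eq_of_red_eq_zero m _ h0 with h | h
  · left; exact sub_eq_zero.mp h
  · right; rw [← h]; ring

theorem Kp_comm (hm : 1 ≤ m) {x y : GG} (hx : x ∈ Kp m) (hy : y ∈ Kp m) : x * y = y * x := by
  obtain ⟨X, hX⟩ := exists_eq_of_mem_Kp m hx
  obtain ⟨Y, hY⟩ := exists_eq_of_mem_Kp m hy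
  apply Units.ext
  rw [Units.val_mul, Units.val_mul, hX, hY]
  simp only [Matrix.add_mul, Matrix.mul_add, one_mul, mul_one, Matrix.smul_mul, Matrix.mul_smul,
    smul_add, smul_smul, two_pow_mul_two_pow m hm, zero_smul]
  abel

theorem card_Kp_le : Nat.card (Kp m) ≤ 16 := by
  classical
  let f : Kp m → (Fin 2 → Fin 2 → Bool) := fun x i j =>
    decide (((x : GG) : Matrix (Fin 2) (Fin 2) R) i j = (1 : Matrix (Fin 2) (Fin 2) R) i j)
  have hf : Function.Injective f := by
    intro x y hxy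
    apply Subtype.ext
    apply Units.ext
    ext i j
    have h1 := congrFun (congrFun hxy i) j
    simp only [f, decide_eq_decide] at h1
    rcases entry_eq_or_of_mem_Kp m x.2 i j with hx | hx <;>
      rcases entry_eq_or_of_mem_Kp m y.2 i j with hy | hy
    · rw [hx, hy]
    · exact hx.trans (h1.mp hx).symm
    · exact (h1.mpr hy).trans hy.symm
    · rw [hx, hy]
  have := Nat.card_le_card_of_injective f hf
  simpa using this

/-- the element `1 + 2^m Y` -/
noncomputable def eY (hm : 1 ≤ m) (Y : Matrix (Fin 2) (Fin 2) R) : GG :=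
  have h : (1 + (2 ^ m : R) • Y) * (1 + (2 ^ m : R) • Y) = 1 := by
    simp only [Matrix.add_mul, Matrix.mul_add, one_mul, mul_one, Matrix.smul_mul, Matrix.mul_smul,
      smul_add, smul_smul, two_pow_mul_two_pow m hm, zero_smul, add_zero]
    rw [add_assoc, ← add_smul, ← two_mul, two_mul_two_pow, zero_smul, add_zero]
  ⟨1 + (2 ^ m : R) • Y, 1 + (2 ^ m : R) • Y, h, h⟩

theorem eY_val (hm : 1 ≤ m) (Y : Matrix (Fin 2) (Fin 2) R) :
    ((eY m hm Y : GG) : Matrix (Fin 2) (Fin 2) R) = 1 + (2 ^ m : R) • Y := rfl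

theorem eY_mul_self (hm : 1 ≤ m) (Y : Matrix (Fin 2) (Fin 2) R) : eY m hm Y * eY m hm Y = 1 := by
  apply Units.ext
  exact (eY m hm Y).val_inv

theorem eY_mem_Kp (hm : 1 ≤ m) (Y : Matrix (Fin 2) (Fin 2) R) : eY m hm Y ∈ Kp m := by
  rw [mem_Kp_iff, eY_val]
  ext i j
  simp only [Matrix.map_apply, Matrix.add_apply, Matrix.smul_apply, smul_eq_mul, map_add, map_mul,
    map_pow]
  rw [red_one_apply]
  have : red m (2 ^ m) = 0 := red_two_pow m
  rw [map_pow] at this
  rw [this, zero_mul, add_zero]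

theorem eY_comm (hm : 1 ≤ m) (Y : Matrix (Fin 2) (Fin 2) R) (c : GG)
    (h : (c : Matrix (Fin 2) (Fin 2) R) * Y = Y * (c : Matrix (Fin 2) (Fin 2) R)) :
    c * eY m hm Y = eY m hm Y * c := by
  apply Units.ext
  rw [Units.val_mul, Units.val_mul, eY_val]
  simp only [Matrix.add_mul, Matrix.mul_add, one_mul, mul_one, Matrix.smul_mul, Matrix.mul_smul, h]

theorem eY_eq_iff (hm : 1 ≤ m) (Y Y' : Matrix (Fin 2) (Fin 2) R) :
    eY m hm Y = eY m hm Y' ↔ (2 ^ m : R) • Y = (2 ^ m : R) • Y' := by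
  rw [Units.ext_iff, eY_val, eY_val, add_right_inj]

theorem eY_zero (hm : 1 ≤ m) : eY m hm 0 = 1 := by
  apply Units.ext
  rw [eY_val]; simp

/-! #### the kernel of reduction modulo `2` is a `2`-group -/

/-- reduction mod 2 -/
noncomputable def red2 : R →+* ZMod 2 :=
  ZMod.castHom (dvd_pow_self 2 (Nat.succ_ne_zero m)) (ZMod 2)

theorem even_of_red2_eq_zero (y : R) (h : red2 m y = 0) : ∃ z : R, y = 2 * z := by
  obtain ⟨n, rfl⟩ := exists_nat m y
  unfold red2 at h
  rw [map_natCast, ZMod.natCast_eq_zero_iff] at h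
  obtain ⟨q, rfl⟩ := h
  exact ⟨q, by push_cast; ring⟩

theorem red2_two : red2 m 2 = 0 := by
  have : red2 m ((2 : ℕ) : R) = 0 := by
    unfold red2
    rw [map_natCast]; exact ZMod.natCast_self 2
  simpa using this

noncomputable def redGL2 : GG →* GL (Fin 2) (ZMod 2) := Matrix.GeneralLinearGroup.map (red2 m)

theorem mem_ker2_iff (x : GG) :
    x ∈ (redGL2 m).ker ↔ (x : Matrix (Fin 2) (Fin 2) R).map (red2 m) = 1 := by
  rw [MonoidHom.mem_ker, Units.ext_iff]
  rfl

theorem mem_ker2_of_eq {x : GG} {Z : Matrix (Fin 2) (Fin 2) R}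
    (h : (x : Matrix (Fin 2) (Fin 2) R) = 1 + (2 : R) • Z) : x ∈ (redGL2 m).ker := by
  rw [mem_ker2_iff, h]
  ext i j
  simp only [Matrix.map_apply, Matrix.add_apply, Matrix.smul_apply, smul_eq_mul, map_add, map_mul,
    red2_two, zero_mul, add_zero]
  simp [Matrix.one_apply]

theorem sq_one_add_smul {A : Type*} [CommRing A] (a : A) (Z : Matrix (Fin 2) (Fin 2) A) :
    (1 + a • Z) * (1 + a • Z) = 1 + (2 * a) • Z + (a * a) • (Z * Z) := by
  simp only [Matrix.add_mul, Matrix.mul_add, one_mul, mul_one, Matrix.smul_mul, Matrix.mul_smul,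
    smul_add, smul_smul, two_mul, add_smul]
  abel

theorem pow_two_pow_eq (X Z : Matrix (Fin 2) (Fin 2) R) (h : X = 1 + (2 : R) • Z) (j : ℕ) :
    ∃ Zj : Matrix (Fin 2) (Fin 2) R, X ^ (2 ^ j) = 1 + (2 ^ (j + 1) : R) • Zj := by
  induction j with
  | zero => exact ⟨Z, by simpa using h⟩
  | succ j ih =>
    obtain ⟨Zj, hj⟩ := ih
    refine ⟨Zj + (2 ^ j : R) • (Zj * Zj), ?_⟩
    rw [pow_succ 2 j, pow_mul, hj, sq, sq_one_add_smul, smul_add, smul_smul, add_assoc]
    congr 2
    · ring_nf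
    · ring_nf

theorem two_pow_succ_eq_zero : (2 : R) ^ (m + 1) = 0 := by
  have h : ((2 ^ (m + 1) : ℕ) : R) = 0 := ZMod.natCast_self _
  push_cast at h
  exact h

theorem pow_eq_one_of_mem_ker2 {x : GG} (hx : x ∈ (redGL2 m).ker) : x ^ (2 ^ m) = 1 := by
  rw [mem_ker2_iff] at hx
  have h1 : ∀ i j, ∃ z : R, (x : Matrix (Fin 2) (Fin 2) R) i j - (1 : Matrix (Fin 2) (Fin 2) R) i j = 2 * z := by
    intro i j
    apply even_of_red2_eq_zero
    rw [map_sub, sub_eq_zero]
    have := congrFun (congrFun hx i) j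
    simp only [Matrix.map_apply] at this
    rw [this]
    simp [Matrix.one_apply]
  choose Z hZ using h1
  have hX : (x : Matrix (Fin 2) (Fin 2) R) = 1 + (2 : R) • Matrix.of Z := by
    ext i j
    simp only [Matrix.add_apply, Matrix.smul_apply, Matrix.of_apply, smul_eq_mul]
    rw [← hZ]; ring
  obtain ⟨Zm, hZm⟩ := pow_two_pow_eq m _ _ hX m
  apply Units.ext
  rw [Units.val_pow_eq_pow_val, hZm, two_pow_succ_eq_zero, zero_smul, add_zero]
  rfl

theorem isPGroup_ker2 : IsPGroup 2 (redGL2 m).ker := by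
  intro x
  refine ⟨m, ?_⟩
  apply Subtype.ext
  have := pow_eq_one_of_mem_ker2 m x.2
  simpa using this

theorem card_GL2_F2 : Nat.card (GL (Fin 2) (ZMod 2)) = 6 := by
  rw [Matrix.card_GL_field]
  simp [Fin.prod_univ_two, ZMod.card]

instance : Finite GG := by
  have : NeZero (2 ^ (m + 1)) := ⟨by positivity⟩
  infer_instance

theorem not_nine_dvd_card : ¬ 9 ∣ Nat.card GG := by
  intro h9
  have h1 := Subgroup.card_mul_index (redGL2 m).ker
  obtain ⟨a, ha⟩ := (isPGroup_ker2 m).exists_card_eq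
  have h2 : (redGL2 m).ker.index ∣ 6 := by
    rw [Subgroup.index_ker, ← card_GL2_F2]
    exact Subgroup.card_subgroup_dvd_card _
  rw [← h1, ha] at h9
  have hc : Nat.Coprime 9 (2 ^ a) := by
    apply Nat.Coprime.pow_right
    norm_num
  have h3 : 9 ∣ (redGL2 m).ker.index := hc.dvd_of_dvd_mul_left h9
  have h4 : 9 ∣ 6 := h3.trans h2
  omega

/-- Subgroups of order 3 are conjugate. -/
theorem exists_conj_of_card_three (Z₁ Z₂ : Subgroup GG) (h₁ : Nat.card Z₁ = 3) (h₂ : Nat.card Z₂ = 3) :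
    ∃ g : GG, Z₂ = Z₁.map (MulAut.conj g).toMonoidHom := by
  have : Fact (Nat.Prime 3) := ⟨by norm_num⟩
  have hidx : ∀ Z : Subgroup GG, Nat.card Z = 3 → ¬ 3 ∣ Z.index := by
    intro Z hZ h3
    apply not_nine_dvd_card m
    rw [← Subgroup.card_mul_index Z, hZ]
    exact Nat.mul_dvd_mul_left 3 h3
  have hp : ∀ Z : Subgroup GG, Nat.card Z = 3 → IsPGroup 3 Z := fun Z hZ =>
    IsPGroup.of_card (n := 1) (by rw [hZ]; norm_num)
  set P₁ : Sylow 3 GG := (hp Z₁ h₁).toSylow (hidx Z₁ h₁) with hP₁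
  set P₂ : Sylow 3 GG := (hp Z₂ h₂).toSylow (hidx Z₂ h₂) with hP₂
  obtain ⟨g, hg⟩ := MulAction.exists_smul_eq GG P₁ P₂
  refine ⟨g, ?_⟩
  have h3 := congrArg (fun P : Sylow 3 GG => (P : Subgroup GG)) hg
  simp only [Sylow.coe_subgroup_smul] at h3
  have h4 : (P₁ : Subgroup GG) = Z₁ := rfl
  have h5 : (P₂ : Subgroup GG) = Z₂ := rfl
  rw [h4, h5] at h3
  rw [← h3]
  rfl

/-! #### the main structural statement -/

open scoped commutatorElement in
theorem key (hm : 1 ≤ m) (H : Subgroup GG) (t c : GG) (hd : A4Data H t c) :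
    H = ⁅Kp m, Subgroup.zpowers c⁆ ⊔ Subgroup.zpowers c ∧ Nat.card (Subgroup.zpowers c) = 3 := by
  have htK := (mem_Kp_of_data m t c hd.t_sq hd.conj).1
  have ht₂K' := (mem_Kp_of_data m t c hd.t_sq hd.conj).2
  have hconj' := hd.conj
  have hcomm' := hd.comm
  have hgen' := hd.gen
  obtain ⟨t₂, ht₂⟩ : ∃ t₂ : GG, t₂ = c * t * c⁻¹ := ⟨_, rfl⟩
  rw [← ht₂] at ht₂K' hconj' hcomm' hgen'
  have ht₂K : t₂ ∈ Kp m := ht₂K'
  have ht₂sq : t₂ * t₂ = 1 := by
    have : t₂ * t₂ = c * (t * t) * c⁻¹ := by rw [ht₂]; group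
    rw [this, hd.t_sq]; group
  have ht₂ne : t₂ ≠ 1 := by
    intro h
    apply hd.t_ne
    have : t = c⁻¹ * t₂ * c := by rw [ht₂]; group
    rw [this, h]; group
  have hconj : c * t₂ * c⁻¹ = t * t₂ := hconj'
  have hcomm : t * t₂ = t₂ * t := hcomm'
  have hne : t ≠ t₂ := by
    intro h
    apply ht₂ne
    have h1 : c * t₂ * c⁻¹ = 1 := by rw [hconj, ← h, hd.t_sq]
    have : t₂ = c⁻¹ * (c * t₂ * c⁻¹) * c := by group
    rw [this, h1]; group
  have hconj3 : c * (t * t₂) * c⁻¹ = t := by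
    calc c * (t * t₂) * c⁻¹ = (c * t * c⁻¹) * (c * t₂ * c⁻¹) := by group
      _ = t₂ * (t * t₂) := by rw [hconj, ← ht₂]
      _ = t₂ * (t₂ * t) := by rw [hcomm]
      _ = (t₂ * t₂) * t := by rw [mul_assoc]
      _ = t := by rw [ht₂sq, one_mul]
  have hoc : orderOf c = 3 := by
    have : Fact (Nat.Prime 3) := ⟨by norm_num⟩
    apply orderOf_eq_prime _ hd.c_ne
    rw [pow_three']; exact hd.c_cube
  have hZcard : Nat.card (Subgroup.zpowers c) = 3 := by rw [Nat.card_zpowers, hoc]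
  set V := fourSub t t₂ with hV
  have hmemV : ∀ {x : GG}, x ∈ V ↔ x = 1 ∨ x = t ∨ x = t₂ ∨ x = t * t₂ :=
    mem_fourSub hd.t_sq ht₂sq hcomm
  have hVcard : Nat.card V = 4 := card_fourSub hd.t_sq ht₂sq hcomm hd.t_ne ht₂ne hne
  have hVK : V ≤ Kp m := by
    intro x hx
    rcases hmemV.mp hx with rfl | rfl | rfl | rfl
    · exact one_mem _
    · exact htK
    · exact ht₂K
    · exact mul_mem htK ht₂K
  -- `c` normalizes `V`
  have hcV : ∀ x ∈ V, c * x * c⁻¹ ∈ V := by
    intro x hx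
    rcases hmemV.mp hx with rfl | rfl | rfl | rfl
    · rw [mul_one, mul_inv_cancel]; exact one_mem _
    · exact hmemV.mpr (Or.inr (Or.inr (Or.inl ht₂.symm)))
    · rw [hconj]; exact hmemV.mpr (Or.inr (Or.inr (Or.inr rfl)))
    · rw [hconj3]; exact hmemV.mpr (Or.inr (Or.inl rfl))
  have hcN : c ∈ Subgroup.normalizer (V : Set GG) := by
    rw [Subgroup.mem_normalizer_iff]
    intro x
    refine ⟨hcV x, fun hx => ?_⟩
    have h1 := hcV _ (hcV _ hx)
    have h2 : c * (c * (c * x * c⁻¹) * c⁻¹) * c⁻¹ = (c * c * c) * x * (c * c * c)⁻¹ := by group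
    rw [h2, hd.c_cube] at h1
    simpa using h1
  have hZN : Subgroup.zpowers c ≤ Subgroup.normalizer (V : Set GG) := by
    rw [Subgroup.zpowers_le]; exact hcN
  -- the elements `s`, `u`
  set C : Matrix (Fin 2) (Fin 2) R := (c : Matrix (Fin 2) (Fin 2) R) with hC
  set s := eY m hm 1 with hs
  set u := eY m hm C with hu
  have hsK : s ∈ Kp m := eY_mem_Kp m hm 1
  have huK : u ∈ Kp m := eY_mem_Kp m hm C
  have hsc : c * s = s * c := eY_comm m hm 1 c (by rw [mul_one, one_mul])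
  have huc : c * u = u * c := eY_comm m hm C c rfl
  have hs1 : s ≠ 1 := by
    rw [← eY_zero m hm, hs, Ne, eY_eq_iff, smul_zero]
    intro h
    have := congrFun (congrFun h 0) 0
    simp at this
    exact two_pow_ne_zero m (by simpa using this)
  have hCC : C * ((c⁻¹ : GG) : Matrix (Fin 2) (Fin 2) R) = 1 := by
    exact c.mul_inv
  have hu1 : u ≠ 1 := by
    rw [← eY_zero m hm, hu, Ne, eY_eq_iff, smul_zero]
    intro h
    have h1 : (2 ^ m : R) • (C * ((c⁻¹ : GG) : Matrix (Fin 2) (Fin 2) R)) = 0 := by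
      rw [← Matrix.smul_mul, h, zero_mul]
    rw [hCC] at h1
    have := congrFun (congrFun h1 0) 0
    simp at this
    exact two_pow_ne_zero m (by simpa using this)
  have hsu : s ≠ u := by
    rw [hs, hu, Ne, eY_eq_iff]
    intro h
    have h1 : ∀ i j, ∃ z : R, C i j - (1 : Matrix (Fin 2) (Fin 2) R) i j = 2 * z := by
      intro i j
      apply even_of_two_pow_mul
      have := congrFun (congrFun h i) j
      simp only [Matrix.smul_apply, smul_eq_mul] at this
      rw [mul_sub, this, sub_self]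
    choose Z hZ using h1
    have hX : (c : Matrix (Fin 2) (Fin 2) R) = 1 + (2 : R) • Matrix.of Z := by
      ext i j
      simp only [Matrix.add_apply, Matrix.smul_apply, Matrix.of_apply, smul_eq_mul]
      rw [← hZ]; ring
    have h2 := pow_eq_one_of_mem_ker2 m (mem_ker2_of_eq m hX)
    have h3 : c ^ 3 = 1 := by rw [pow_three']; exact hd.c_cube
    have hcop : Nat.Coprime 3 (2 ^ m) := by
      apply Nat.Coprime.pow_right; norm_num
    exact hd.c_ne ((pow_eq_one_iff_of_coprime hcop).mp ⟨h3, h2⟩)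
  have hsus : s * u = u * s := Kp_comm m hm hsK huK
  set D := fourSub s u with hD
  have hmemD : ∀ {x : GG}, x ∈ D ↔ x = 1 ∨ x = s ∨ x = u ∨ x = s * u :=
    mem_fourSub (eY_mul_self m hm 1) (eY_mul_self m hm C) hsus
  have hDcard : Nat.card D = 4 :=
    card_fourSub (eY_mul_self m hm 1) (eY_mul_self m hm C) hsus hs1 hu1 hsu
  have hDK : D ≤ Kp m := by
    intro x hx
    rcases hmemD.mp hx with rfl | rfl | rfl | rfl
    · exact one_mem _
    · exact hsK
    · exact huK
    · exact mul_mem hsK huK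
  have hDc : ∀ x ∈ D, c * x = x * c := by
    intro x hx
    rcases hmemD.mp hx with rfl | rfl | rfl | rfl
    · rw [mul_one, one_mul]
    · exact hsc
    · exact huc
    · rw [← mul_assoc, hsc, mul_assoc, huc, mul_assoc]
  have hDV : D ⊓ V = ⊥ := by
    rw [eq_bot_iff]
    rintro x ⟨hxD, hxV⟩
    have hxc : c * x * c⁻¹ = x := by rw [hDc x hxD, mul_inv_cancel_right]
    rcases hmemV.mp hxV with rfl | rfl | rfl | rfl
    · exact Subgroup.mem_bot.mpr rfl
    · exact absurd (hxc.symm.trans ht₂.symm) hne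
    · exfalso
      rw [hconj] at hxc
      exact hd.t_ne (mul_eq_right.mp hxc)
    · exfalso
      rw [hconj3] at hxc
      exact ht₂ne (mul_eq_left.mp hxc.symm)
  have hKcomm : ∀ a ∈ D, ∀ b ∈ V, a * b = b * a := fun a ha b hb =>
    Kp_comm m hm (hDK ha) (hVK hb)
  have hDN : D ≤ Subgroup.normalizer (V : Set GG) := by
    intro a ha
    apply Subgroup.centralizer_le_normalizer
    rw [Subgroup.mem_centralizer_iff]
    intro b hb
    exact (hKcomm a ha b hb).symm
  have hKeq : D ⊔ V = Kp m := by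
    apply Subgroup.eq_of_le_of_card_ge (sup_le hDK hVK)
    rw [card_sup_of_le_normalizer_of_disjoint D V hDN hDV, hDcard, hVcard]
    exact card_Kp_le m
  -- the commutator
  have hcomV : ⁅Kp m, Subgroup.zpowers c⁆ = V := by
    apply le_antisymm
    · rw [Subgroup.commutator_le]
      intro x hx z hz
      rw [← hKeq] at hx
      obtain ⟨a, ha, v, hv, rfl⟩ := exists_mul_of_mem_sup_of_forall_commute D V hKcomm hx
      have haz : a * z = z * a := by
        obtain ⟨k, rfl⟩ := Subgroup.mem_zpowers_iff.mp hz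
        exact ((show Commute a c from (hDc a ha).symm).zpow_right k).eq
      rw [hKcomm a ha v hv, commutatorElement_mul_left_of_commute haz, commutatorElement_def]
      have h1 : z * v⁻¹ * z⁻¹ ∈ V :=
        (Subgroup.mem_normalizer_iff.mp (hZN hz) v⁻¹).mp (inv_mem hv)
      have h2 : v * z * v⁻¹ * z⁻¹ = v * (z * v⁻¹ * z⁻¹) := by group
      rw [h2]
      exact mul_mem hv h1
    · have hcz : c ∈ Subgroup.zpowers c := Subgroup.mem_zpowers c
      have h1 : t ∈ ⁅Kp m, Subgroup.zpowers c⁆ := by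
        rw [Subgroup.commutator_comm]
        have : t = ⁅c, t₂⁆ := by
          rw [commutatorElement_def, hconj, mul_assoc, ← inv_eq_of_mul_eq_one_right ht₂sq,
            mul_inv_cancel, mul_one]
        rw [this]
        exact Subgroup.commutator_mem_commutator hcz ht₂K
      have h2 : t₂ ∈ ⁅Kp m, Subgroup.zpowers c⁆ := by
        have h3 : ⁅c, t⁆ ∈ ⁅Kp m, Subgroup.zpowers c⁆ := by
          rw [Subgroup.commutator_comm]
          exact Subgroup.commutator_mem_commutator hcz htK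
        have : t₂ = ⁅c, t⁆ * t := by
          rw [commutatorElement_def, inv_mul_cancel_right, ht₂]
        rw [this]
        exact mul_mem h3 h1
      rw [hV]
      unfold fourSub
      exact sup_le ((Subgroup.zpowers_le).mpr h1) ((Subgroup.zpowers_le).mpr h2)
  refine ⟨?_, hZcard⟩
  rw [hcomV]
  apply le_antisymm
  · intro x hx
    obtain ⟨v, hv, z, hz, rfl⟩ := hgen' x hx
    exact mul_mem (Subgroup.mem_sup_left hv) (Subgroup.mem_sup_right hz)
  · apply sup_le
    · intro x hx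
      rcases hmemV.mp hx with rfl | rfl | rfl | rfl
      · exact one_mem _
      · exact hd.t_mem
      · rw [ht₂]; exact mul_mem (mul_mem hd.c_mem hd.t_mem) (inv_mem hd.c_mem)
      · rw [ht₂]
        exact mul_mem hd.t_mem (mul_mem (mul_mem hd.c_mem hd.t_mem) (inv_mem hd.c_mem))
    · rw [Subgroup.zpowers_le]; exact hd.c_mem

end GLsec

/-- For k ≥ 2, any two subgroups of GL₂(ℤ/2ᵏℤ) (the automorphism group of the homocyclic group ℤ/2ᵏ × ℤ/2ᵏ) that are isomorphic to the alternating group of degree 4 are conjugate. -/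
theorem result (k : ℕ) (hk : 2 ≤ k) (H₁ H₂ : Subgroup (GL (Fin 2) (ZMod (2 ^ k)))) (h₁ : Nonempty (↥H₁ ≃* ↥(alternatingGroup (Fin 4)))) (h₂ : Nonempty (↥H₂ ≃* ↥(alternatingGroup (Fin 4)))) : ∃ g : GL (Fin 2) (ZMod (2 ^ k)), H₂ = H₁.map (MulAut.conj g).toMonoidHom := by
  obtain ⟨m, rfl⟩ : ∃ m, k = m + 1 := ⟨k - 1, by omega⟩
  have hm : 1 ≤ m := by omega
  obtain ⟨t₁, c₁, hd₁⟩ := exists_a4Data H₁ h₁
  obtain ⟨t₂, c₂, hd₂⟩ := exists_a4Data H₂ h₂
  obtain ⟨e₁, hc₁⟩ := key m hm H₁ t₁ c₁ hd₁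
  obtain ⟨e₂, hc₂⟩ := key m hm H₂ t₂ c₂ hd₂
  obtain ⟨g, hg⟩ := exists_conj_of_card_three m _ _ hc₁ hc₂
  refine ⟨g, ?_⟩
  have hK : (Kp m).map (MulAut.conj g).toMonoidHom = Kp m := Subgroup.Normal.conj_smul_eq_self g (Kp m)
  rw [e₂, e₁, Subgroup.map_sup, Subgroup.map_commutator, hK, ← hg]

end Cfsg.Agent.S2874
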