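import Cfsg.Statements.S2879
import Cfsg.Agent.S1236
import Cfsg.Agent.Lib.Helper53.SL23Recog
import Cfsg.Agent.Lib.Helper53.QuatAut
import Cfsg.Agent.Lib.Helper55.Cores
-- import your own Cfsg.Agent.* helpers here

set_option autoImplicit false
open Cfsg

namespace Cfsg.Agent.S2879

/-- The abstract configuration: a 2-group `T` with a cyclic subgroup `C = ⟨c⟩` of index two whose
outside elements centralize only `Ω₁(C)`, a central involution `z ∈ C` of `G`, and the
self-centralizing normal 2-subgroup `Q = O₂(G) ≤ T`. -/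
structure Setup {G : Type*} [Group G] (T Q : Subgroup G) (c z : G) : Prop where
  cT : c ∈ T
  idx : ∀ y₁ ∈ T, ∀ y₂ ∈ T, (y₁ * y₂ ∈ Subgroup.zpowers c ↔
    (y₁ ∈ Subgroup.zpowers c ↔ y₂ ∈ Subgroup.zpowers c))
  cyc : ∀ y ∈ T, y ∉ Subgroup.zpowers c → ∀ x ∈ Subgroup.zpowers c, y * x = x * y → x ^ 2 = 1
  zC : z ∈ Subgroup.zpowers c
  z1 : z ≠ 1
  z2 : z ^ 2 = 1
  zc : ∀ g : G, g * z = z * g
  Qn : Q.Normal
  Q2 : IsPGroup 2 ↥Q
  QT : Q ≤ T
  CQ : Subgroup.centralizer (Q : Set G) ≤ Q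
  Qmax : ∀ K : Subgroup G, K.Normal → IsPGroup 2 ↥K → K ≤ Q

section

variable {G : Type*} [Group G] {T Q : Subgroup G} {c z : G}

theorem comm_of_mem_zpowers {c x₁ x₂ : G} (h₁ : x₁ ∈ Subgroup.zpowers c)
    (h₂ : x₂ ∈ Subgroup.zpowers c) : x₁ * x₂ = x₂ * x₁ := by
  obtain ⟨i, rfl⟩ := Subgroup.mem_zpowers_iff.mp h₁
  obtain ⟨j, rfl⟩ := Subgroup.mem_zpowers_iff.mp h₂
  rw [← zpow_add, ← zpow_add, add_comm]

/-- `z` is the only involution of `C`. -/
theorem Setup.inv2 [Finite G] (S : Setup T Q c z) {x : G} (hx : x ∈ Subgroup.zpowers c) (h2 : x ^ 2 = 1) :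
    x = 1 ∨ x = z :=
  Cfsg.Agent.S1236.sq_eq_one_cases c z x S.zC hx S.z2 h2 S.z1

theorem Setup.out_sq [Finite G] (S : Setup T Q c z) {y : G} (hy : y ∈ T) (hyC : y ∉ Subgroup.zpowers c) :
    y * y = 1 ∨ y * y = z := by
  have h1 : y * y ∈ Subgroup.zpowers c := (S.idx y hy y hy).mpr Iff.rfl
  have h2 : (y * y) ^ 2 = 1 := S.cyc y hy hyC (y * y) h1 (by group)
  exact S.inv2 h1 h2

theorem Setup.out_pow_four [Finite G] (S : Setup T Q c z) {y : G} (hy : y ∈ T)
    (hyC : y ∉ Subgroup.zpowers c) : y ^ 4 = 1 := by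
  have h : y ^ 4 = (y * y) ^ 2 := by
    rw [← pow_two, ← pow_mul]
  rw [h]
  rcases S.out_sq hy hyC with h1 | h1
  · rw [h1, one_pow]
  · rw [h1, S.z2]

theorem Setup.odd_mem_Q (S : Setup T Q c z) {g : G} (hodd : (orderOf g).Coprime 2) (hg : g ∈ Q) :
    g = 1 := by
  obtain ⟨k, hk⟩ := S.Q2 ⟨g, hg⟩
  have h1 : g ^ 2 ^ k = 1 := by
    have := congrArg Subtype.val hk
    simpa using this
  have h2 : orderOf g ∣ 2 ^ k := orderOf_dvd_of_pow_eq_one h1
  have h3 : orderOf g = 1 := Nat.Coprime.eq_one_of_dvd (Nat.Coprime.pow_right k hodd) h2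
  exact orderOf_eq_one_iff.mp h3

/-- An element of odd order stabilizing the chain `1 ≤ D ≤ Q` centralizes `Q`. -/
theorem Setup.chain (S : Setup T Q c z) {g : G} (hodd : (orderOf g).Coprime 2) (D : Subgroup G)
    (hDQ : D ≤ Q) (hD : ∀ d ∈ D, g * d * g⁻¹ = d) (hQ : ∀ q ∈ Q, g * q * g⁻¹ * q⁻¹ ∈ D) :
    ∀ q ∈ Q, g * q * g⁻¹ = q := by
  intro q hq
  set d := g * q * g⁻¹ * q⁻¹ with hd
  have hdD : d ∈ D := hQ q hq
  have hgq : g * q * g⁻¹ = d * q := by rw [hd]; group
  have hpow : ∀ k : ℕ, g ^ k * q * (g ^ k)⁻¹ = d ^ k * q := by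
    intro k
    induction k with
    | zero => simp
    | succ k ih =>
      have e1 : g ^ (k + 1) * q * (g ^ (k + 1))⁻¹ = g * (g ^ k * q * (g ^ k)⁻¹) * g⁻¹ := by
        rw [pow_succ']; group
      rw [e1, ih]
      have e2 : g * (d ^ k * q) * g⁻¹ = (g * d * g⁻¹) ^ k * (g * q * g⁻¹) := by
        rw [conj_pow]; group
      rw [e2, hD d hdD, hgq, pow_succ]
      group
  have h1 := hpow (orderOf g)
  rw [pow_orderOf_eq_one] at h1
  have h2 : d ^ orderOf g = 1 := by
    have : q = d ^ orderOf g * q := by simpa using h1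
    have h3 : d ^ orderOf g * q = 1 * q := by rw [one_mul]; exact this.symm
    exact mul_right_cancel h3
  have hd1 : d = 1 := by
    obtain ⟨k, hk⟩ := S.Q2 ⟨d, hDQ hdD⟩
    have h4 : d ^ 2 ^ k = 1 := by
      have := congrArg Subtype.val hk
      simpa using this
    have h5 : orderOf d ∣ orderOf g := orderOf_dvd_of_pow_eq_one h2
    have h6 : orderOf d ∣ 2 ^ k := orderOf_dvd_of_pow_eq_one h4
    have h7 : orderOf d = 1 :=
      Nat.Coprime.eq_one_of_dvd ((Nat.Coprime.pow_right k hodd).coprime_dvd_left h5) h6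
    exact orderOf_eq_one_iff.mp h7
  rw [hgq, hd1, one_mul]

theorem Setup.cent (S : Setup T Q c z) {g : G} (hodd : (orderOf g).Coprime 2)
    (h : ∀ q ∈ Q, g * q * g⁻¹ = q) : g = 1 := by
  apply S.odd_mem_Q hodd
  apply S.CQ
  rw [Subgroup.mem_centralizer_iff]
  intro q hq
  have := h q hq
  calc q * g = (g * q * g⁻¹) * g := by rw [this]
    _ = g * q := by group

/-- A nontrivial element of odd order does not centralize `Q ∩ C`. -/
theorem Setup.L1 (S : Setup T Q c z) {g : G} (hodd : (orderOf g).Coprime 2) (hg1 : g ≠ 1) :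
    ¬ ∀ d ∈ Q ⊓ Subgroup.zpowers c, g * d * g⁻¹ = d := by
  intro hD
  apply hg1
  apply S.cent hodd
  apply S.chain hodd (Q ⊓ Subgroup.zpowers c) inf_le_left hD
  intro q hq
  have hQn := S.Qn
  have hgq : g * q * g⁻¹ ∈ Q := hQn.conj_mem q hq g
  by_cases hqC : q ∈ Subgroup.zpowers c
  · rw [hD q ⟨hq, hqC⟩, mul_inv_cancel]
    exact Subgroup.one_mem _
  · have hgqC : g * q * g⁻¹ ∉ Subgroup.zpowers c := by
      intro h
      have h1 := hD _ ⟨hgq, h⟩
      have h2 : g * q * g⁻¹ = q := by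
        have : g⁻¹ * (g * (g * q * g⁻¹) * g⁻¹) * g = g⁻¹ * (g * q * g⁻¹) * g := by rw [h1]
        have e1 : g⁻¹ * (g * (g * q * g⁻¹) * g⁻¹) * g = g * q * g⁻¹ := by group
        have e2 : g⁻¹ * (g * q * g⁻¹) * g = q := by group
        rw [e1, e2] at this
        exact this
      rw [h2] at h
      exact hqC h
    refine ⟨Q.mul_mem hgq (Q.inv_mem hq), ?_⟩
    show g * q * g⁻¹ * q⁻¹ ∈ Subgroup.zpowers c
    rw [S.idx _ (S.QT hgq) _ (S.QT (Q.inv_mem hq))]
    constructor
    · intro h; exact absurd h hgqC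
    · intro h; exact absurd ((Subgroup.inv_mem_iff _).mp h) hqC

/-- An element of odd order normalizing the cyclic group generated by an element of `Q`
centralizes it. -/
theorem Setup.L2 [Finite G] (S : Setup T Q c z) {g x : G} (hodd : (orderOf g).Coprime 2) (hx : x ∈ Q)
    (h : g * x * g⁻¹ ∈ Subgroup.zpowers x) : g * x * g⁻¹ = x := by
  classical
  set H : Subgroup G := Subgroup.zpowers x with hH
  have hHQ : H ≤ Q := by
    rw [hH, Subgroup.zpowers_le]; exact hx
  have hH2 : IsPGroup 2 ↥H := S.Q2.to_le hHQ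
  have hmap : H.map (MulAut.conj g).toMonoidHom ≤ H := by
    rintro _ ⟨y, hy, rfl⟩
    obtain ⟨k, rfl⟩ := Subgroup.mem_zpowers_iff.mp hy
    show g * x ^ k * g⁻¹ ∈ H
    have : g * x ^ k * g⁻¹ = (g * x * g⁻¹) ^ k := by rw [conj_zpow]
    rw [this]
    exact H.zpow_mem h k
  have hcard : Nat.card ↥(H.map (MulAut.conj g).toMonoidHom) = Nat.card ↥H :=
    Subgroup.card_map_of_injective (MulAut.conj g).injective
  have hmapeq : H.map (MulAut.conj g).toMonoidHom = H :=
    Subgroup.eq_of_le_of_card_ge hmap hcard.ge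
  have hgN : g ∈ Subgroup.normalizer (H : Set G) :=
    Subgroup.mem_normalizer_iff_map_conj_eq.mpr hmapeq
  set β : MulAut ↥H := H.normalizerMonoidHom ⟨g, hgN⟩ with hβ
  have hβodd : (orderOf β).Coprime 2 := by
    have h1 : orderOf β ∣ orderOf (⟨g, hgN⟩ : ↥(Subgroup.normalizer (H : Set G))) :=
      orderOf_map_dvd _ _
    have h2 : orderOf (⟨g, hgN⟩ : ↥(Subgroup.normalizer (H : Set G))) = orderOf g := by
      rw [← Subgroup.orderOf_coe]
    rw [h2] at h1
    exact Nat.Coprime.coprime_dvd_left h1 hodd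
  have hβ1 : β = 1 := Cfsg.Agent.Lib.Helper53.aut_eq_one_of_cyclic hH2 β hβodd
  have h3 : β ⟨x, Subgroup.mem_zpowers x⟩ = ⟨x, Subgroup.mem_zpowers x⟩ := by
    rw [hβ1]; rfl
  have h4 := congrArg Subtype.val h3
  exact h4

/-- Conjugation by `g` fixes all powers of an element it fixes. -/
theorem conj_zpow_fixed {g x : G} (h : g * x * g⁻¹ = x) (k : ℤ) : g * x ^ k * g⁻¹ = x ^ k := by
  rw [← conj_zpow, h]

/-- `Q ∩ C` has exponent dividing four. -/
theorem Setup.S1 [Finite G] (S : Setup T Q c z) {w : G} (hodd : (orderOf w).Coprime 2)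
    (hw1 : w ≠ 1) : ∀ q ∈ Q, q ∈ Subgroup.zpowers c → q ^ 4 = 1 := by
  classical
  by_contra hcon
  push Not at hcon
  obtain ⟨d, hdQ, hdC, hd4⟩ := hcon
  set D : Subgroup G := Q ⊓ Subgroup.zpowers c with hD
  have hDC : D ≤ Subgroup.zpowers c := inf_le_right
  have : IsCyclic ↥D := Subgroup.isCyclic_of_le hDC
  obtain ⟨d₀, hd₀⟩ := IsCyclic.exists_generator (α := ↥D)
  have hgen : ∀ y ∈ D, y ∈ Subgroup.zpowers (d₀ : G) := by
    intro y hy
    obtain ⟨k, hk⟩ := Subgroup.mem_zpowers_iff.mp (hd₀ ⟨y, hy⟩)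
    refine Subgroup.mem_zpowers_iff.mpr ⟨k, ?_⟩
    have := congrArg Subtype.val hk
    simpa using this
  have hd₀4 : (d₀ : G) ^ 4 ≠ 1 := by
    intro h
    obtain ⟨k, hk⟩ := Subgroup.mem_zpowers_iff.mp (hgen d ⟨hdQ, hdC⟩)
    apply hd4
    rw [← hk, ← zpow_natCast, ← zpow_mul, mul_comm, zpow_mul, zpow_natCast, h, one_zpow]
  have hd₀Q : (d₀ : G) ∈ Q := d₀.2.1
  have hwd : w * (d₀ : G) * w⁻¹ ∈ Q := S.Qn.conj_mem _ hd₀Q w
  have hwdC : w * (d₀ : G) * w⁻¹ ∈ Subgroup.zpowers c := by
    by_contra h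
    have h4 := S.out_pow_four (S.QT hwd) h
    rw [conj_pow] at h4
    apply hd₀4
    have : (d₀ : G) ^ 4 = w⁻¹ * (w * (d₀ : G) ^ 4 * w⁻¹) * w := by group
    rw [this, h4]; group
  have hfix : w * (d₀ : G) * w⁻¹ = d₀ := S.L2 hodd hd₀Q (hgen _ ⟨hwd, hwdC⟩)
  apply S.L1 hodd hw1
  intro y hy
  obtain ⟨k, rfl⟩ := Subgroup.mem_zpowers_iff.mp (hgen y hy)
  exact conj_zpow_fixed hfix k

/-- Elements of `Q ∩ C` outside `⟨z⟩` square to `z`. -/
theorem Setup.sq_eq_z [Finite G] (S : Setup T Q c z) {w : G} (hodd : (orderOf w).Coprime 2)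
    (hw1 : w ≠ 1) {q : G} (hq : q ∈ Q) (hqC : q ∈ Subgroup.zpowers c) (hq1 : q ≠ 1) (hqz : q ≠ z) :
    q * q = z := by
  have h4 := S.S1 hodd hw1 q hq hqC
  have h1 : (q * q) ^ 2 = 1 := by
    rw [← pow_two, ← pow_mul]; exact h4
  rcases S.inv2 (Subgroup.mul_mem _ hqC hqC) h1 with h | h
  · exfalso
    have : q ^ 2 = 1 := by rw [pow_two]; exact h
    rcases S.inv2 hqC this with h' | h'
    · exact hq1 h'
    · exact hqz h'
  · exact h

/-- There is an element of `Q ∩ C` outside `⟨z⟩`. -/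
theorem Setup.exists_u [Finite G] (S : Setup T Q c z) {w : G} (hodd : (orderOf w).Coprime 2)
    (hw1 : w ≠ 1) : ∃ u ∈ Q, u ∈ Subgroup.zpowers c ∧ u ≠ 1 ∧ u ≠ z := by
  by_contra hcon
  push Not at hcon
  apply S.L1 hodd hw1
  intro d hd
  by_cases hd1 : d = 1
  · rw [hd1]; group
  · have := hcon d hd.1 hd.2 hd1
    rw [this]
    calc w * z * w⁻¹ = z * w * w⁻¹ := by rw [S.zc w]
      _ = z := by group

/-- `Q ∩ C = {1, z, u, uz}`. -/
theorem Setup.mem_D [Finite G] (S : Setup T Q c z) {w : G} (hodd : (orderOf w).Coprime 2)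
    (hw1 : w ≠ 1) {u : G} (hu : u ∈ Q) (huC : u ∈ Subgroup.zpowers c) (hu1 : u ≠ 1) (huz : u ≠ z)
    {q : G} (hq : q ∈ Q) (hqC : q ∈ Subgroup.zpowers c) :
    q = 1 ∨ q = z ∨ q = u ∨ q = u * z := by
  by_cases hq1 : q = 1
  · exact Or.inl hq1
  by_cases hqz : q = z
  · exact Or.inr (Or.inl hqz)
  right; right
  have h1 := S.sq_eq_z hodd hw1 hq hqC hq1 hqz
  have h2 := S.sq_eq_z hodd hw1 hu huC hu1 huz
  have hcomm : q * u⁻¹ = u⁻¹ * q :=
    comm_of_mem_zpowers hqC (Subgroup.inv_mem _ huC)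
  have h3 : (q * u⁻¹) ^ 2 = 1 := by
    have hz2 : z * z = 1 := by rw [← pow_two]; exact S.z2
    calc (q * u⁻¹) ^ 2 = (q * u⁻¹) * (u⁻¹ * q) := by rw [pow_two, ← hcomm]
      _ = q * (u * u)⁻¹ * q := by group
      _ = q * z⁻¹ * q := by rw [h2]
      _ = z⁻¹ * (q * q) := by
          have := S.zc q
          have h5 : q * z⁻¹ = z⁻¹ * q := by
            calc q * z⁻¹ = z⁻¹ * (z * q) * z⁻¹ := by group
              _ = z⁻¹ * (q * z) * z⁻¹ := by rw [this]
              _ = z⁻¹ * q := by group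
          rw [h5]; group
      _ = z⁻¹ * z := by rw [h1]
      _ = 1 := by group
  rcases S.inv2 (Subgroup.mul_mem _ hqC (Subgroup.inv_mem _ huC)) h3 with h | h
  · left
    calc q = (q * u⁻¹) * u := by group
      _ = u := by rw [h, one_mul]
  · right
    calc q = (q * u⁻¹) * u := by group
      _ = z * u := by rw [h]
      _ = u * z := (S.zc u).symm

/-- A nontrivial element of odd order moves `u` out of `C`. -/
theorem Setup.S3 [Finite G] (S : Setup T Q c z) {g : G} (hodd : (orderOf g).Coprime 2)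
    (hg1 : g ≠ 1) {u : G} (hu : u ∈ Q) (huC : u ∈ Subgroup.zpowers c) (hu1 : u ≠ 1) (huz : u ≠ z) :
    g * u * g⁻¹ ∉ Subgroup.zpowers c := by
  intro hC
  have hguQ : g * u * g⁻¹ ∈ Q := S.Qn.conj_mem u hu g
  have hzfix : g * z * g⁻¹ = z := by
    calc g * z * g⁻¹ = z * g * g⁻¹ := by rw [S.zc g]
      _ = z := by group
  have huu := S.sq_eq_z hodd hg1 hu huC hu1 huz
  have hfix : g * u * g⁻¹ = u := by
    apply S.L2 hodd hu
    rcases S.mem_D hodd hg1 hu huC hu1 huz hguQ hC with h | h | h | h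
    · exfalso; apply hu1
      calc u = g⁻¹ * (g * u * g⁻¹) * g := by group
        _ = 1 := by rw [h]; group
    · exfalso; apply huz
      calc u = g⁻¹ * (g * u * g⁻¹) * g := by group
        _ = g⁻¹ * (g * z * g⁻¹) * g := by rw [h, hzfix]
        _ = z := by group
    · rw [h]; exact Subgroup.mem_zpowers u
    · rw [h, ← huu]
      exact Subgroup.mul_mem _ (Subgroup.mem_zpowers u)
        (Subgroup.mul_mem _ (Subgroup.mem_zpowers u) (Subgroup.mem_zpowers u))
  apply S.L1 hodd hg1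
  intro d hd
  rcases S.mem_D hodd hg1 hu huC hu1 huz hd.1 hd.2 with h | h | h | h
  · rw [h]; group
  · rw [h]; exact hzfix
  · rw [h]; exact hfix
  · rw [h]
    calc g * (u * z) * g⁻¹ = (g * u * g⁻¹) * (g * z * g⁻¹) := by group
      _ = u * z := by rw [hfix, hzfix]

theorem pow_conj_fixed {g x : G} (h : g * x * g⁻¹ = x) (k : ℕ) : g ^ k * x * (g ^ k)⁻¹ = x := by
  induction k with
  | zero => simp
  | succ k ih =>
    calc g ^ (k + 1) * x * (g ^ (k + 1))⁻¹ = g * (g ^ k * x * (g ^ k)⁻¹) * g⁻¹ := by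
          rw [pow_succ']; group
      _ = x := by rw [ih, h]

/-- An element of odd order is a power of its square. -/
theorem exists_pow_sq_eq {w : G} (hodd : (orderOf w).Coprime 2) : ∃ k : ℕ, (w ^ 2) ^ k = w := by
  have hodd' : Odd (orderOf w) := by
    rw [Nat.odd_iff]
    rcases Nat.mod_two_eq_zero_or_one (orderOf w) with h | h
    · exfalso
      have h2 : 2 ∣ orderOf w := Nat.dvd_of_mod_eq_zero h
      have := Nat.Coprime.eq_one_of_dvd hodd.symm h2
      omega
    · exact h
  obtain ⟨m, hm⟩ := hodd'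
  refine ⟨m + 1, ?_⟩
  rw [← pow_mul]
  have : 2 * (m + 1) = orderOf w + 1 := by omega
  rw [this, pow_succ, pow_orderOf_eq_one, one_mul]

theorem odd_sq {w : G} (hodd : (orderOf w).Coprime 2) : (orderOf (w ^ 2)).Coprime 2 :=
  Nat.Coprime.coprime_dvd_left (orderOf_pow_dvd 2) hodd

theorem Setup.C_le_T (S : Setup T Q c z) : Subgroup.zpowers c ≤ T := by
  rw [Subgroup.zpowers_le]; exact S.cT

/-- `C` is normal in `T`. -/
theorem Setup.conj_mem_C (S : Setup T Q c z) {y x : G} (hy : y ∈ T)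
    (hx : x ∈ Subgroup.zpowers c) : y * x * y⁻¹ ∈ Subgroup.zpowers c := by
  by_cases hyC : y ∈ Subgroup.zpowers c
  · exact Subgroup.mul_mem _ (Subgroup.mul_mem _ hyC hx) (Subgroup.inv_mem _ hyC)
  · have hxT : x ∈ T := S.C_le_T hx
    have h1 : y * x ∉ Subgroup.zpowers c := by
      rw [S.idx y hy x hxT]
      intro h; exact hyC (h.mpr hx)
    have h2 : y⁻¹ ∉ Subgroup.zpowers c := fun h => hyC ((Subgroup.inv_mem_iff _).mp h)
    rw [S.idx _ (T.mul_mem hy hxT) _ (T.inv_mem hy)]
    constructor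
    · intro h; exact absurd h h1
    · intro h; exact absurd h h2

/-- Facts about `v = w u w⁻¹`. -/
theorem Setup.v_facts [Finite G] (S : Setup T Q c z) {w : G} (hodd : (orderOf w).Coprime 2)
    (hw1 : w ≠ 1) {u : G} (hu : u ∈ Q) (huC : u ∈ Subgroup.zpowers c) (hu1 : u ≠ 1) (huz : u ≠ z) :
    w * u * w⁻¹ ∈ Q ∧ w * u * w⁻¹ ∉ Subgroup.zpowers c ∧
      (w * u * w⁻¹) * (w * u * w⁻¹) = z ∧ u * u = z ∧
      (w * u * w⁻¹) * u * (w * u * w⁻¹)⁻¹ = u⁻¹ := by
  set v := w * u * w⁻¹ with hv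
  have hvQ : v ∈ Q := S.Qn.conj_mem u hu w
  have hvC : v ∉ Subgroup.zpowers c := S.S3 hodd hw1 hu huC hu1 huz
  have huu := S.sq_eq_z hodd hw1 hu huC hu1 huz
  have hzfix : w * z * w⁻¹ = z := by
    calc w * z * w⁻¹ = z * w * w⁻¹ := by rw [S.zc w]
      _ = z := by group
  have hvv : v * v = z := by
    calc v * v = w * (u * u) * w⁻¹ := by rw [hv]; group
      _ = z := by rw [huu, hzfix]
  refine ⟨hvQ, hvC, hvv, huu, ?_⟩
  have hvT : v ∈ T := S.QT hvQ
  have hvuC : v * u * v⁻¹ ∈ Subgroup.zpowers c := S.conj_mem_C hvT huC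
  have hc'C : u * (v * u * v⁻¹) ∈ Subgroup.zpowers c := Subgroup.mul_mem _ huC hvuC
  have hcomm : u * (v * u * v⁻¹) = (v * u * v⁻¹) * u := comm_of_mem_zpowers huC hvuC
  have hzu : z * u = u * z := S.zc u |>.symm ▸ rfl
  have hv2 : v * (u * (v * u * v⁻¹)) = (u * (v * u * v⁻¹)) * v := by
    have e1 : v * (u * (v * u * v⁻¹)) * v⁻¹ = (v * u * v⁻¹) * ((v * v) * u * (v * v)⁻¹) := by
      group
    have e2 : (v * v) * u * (v * v)⁻¹ = u := by
      rw [hvv]
      calc z * u * z⁻¹ = u * z * z⁻¹ := by rw [← S.zc u]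
        _ = u := by group
    rw [e2, ← hcomm] at e1
    calc v * (u * (v * u * v⁻¹)) = (v * (u * (v * u * v⁻¹)) * v⁻¹) * v := by group
      _ = (u * (v * u * v⁻¹)) * v := by rw [e1]
  have hsq := S.cyc v hvT hvC _ hc'C hv2
  rcases S.inv2 hc'C hsq with h | h
  · -- v u v⁻¹ = u⁻¹
    calc v * u * v⁻¹ = u⁻¹ * (u * (v * u * v⁻¹)) := by group
      _ = u⁻¹ := by rw [h, mul_one]
  · -- v u v⁻¹ = u⁻¹ z = u, impossible
    exfalso
    have h1 : v * u * v⁻¹ = u := by
      calc v * u * v⁻¹ = u⁻¹ * (u * (v * u * v⁻¹)) := by group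
        _ = u⁻¹ * (u * u) := by rw [h, huu]
        _ = u := by group
    have h2 : v * u = u * v := by
      calc v * u = (v * u * v⁻¹) * v := by group
        _ = u * v := by rw [h1]
    have h3 := S.cyc v hvT hvC u huC h2
    rw [pow_two, huu] at h3
    exact S.z1 h3

/-- `Q` consists of the eight elements `z^i u^j v^k`. -/
theorem Setup.mem_Q_cases [Finite G] (S : Setup T Q c z) {w : G} (hodd : (orderOf w).Coprime 2)
    (hw1 : w ≠ 1) {u : G} (hu : u ∈ Q) (huC : u ∈ Subgroup.zpowers c) (hu1 : u ≠ 1) (huz : u ≠ z)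
    {v : G} (hvQ : v ∈ Q) (hvC : v ∉ Subgroup.zpowers c) {q : G} (hq : q ∈ Q) :
    (q = 1 ∨ q = z) ∨ (q = u ∨ q = u * z) ∨ (q = v ∨ q = v * z) ∨ (q = u * v ∨ q = u * v * z) := by
  by_cases hqC : q ∈ Subgroup.zpowers c
  · rcases S.mem_D hodd hw1 hu huC hu1 huz hq hqC with h | h | h | h
    · exact Or.inl (Or.inl h)
    · exact Or.inl (Or.inr h)
    · exact Or.inr (Or.inl (Or.inl h))
    · exact Or.inr (Or.inl (Or.inr h))
  · have h1 : q * v⁻¹ ∈ Subgroup.zpowers c := by
      rw [S.idx _ (S.QT hq) _ (S.QT (Q.inv_mem hvQ))]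
      constructor
      · intro h; exact absurd h hqC
      · intro h; exact absurd ((Subgroup.inv_mem_iff _).mp h) hvC
    have h2 : q * v⁻¹ ∈ Q := Q.mul_mem hq (Q.inv_mem hvQ)
    have hq' : q = (q * v⁻¹) * v := by group
    rcases S.mem_D hodd hw1 hu huC hu1 huz h2 h1 with h | h | h | h
    · right; right; left; left
      rw [hq', h, one_mul]
    · right; right; left; right
      rw [hq', h]; exact S.zc v |>.symm
    · right; right; right; left
      rw [hq', h]
    · right; right; right; right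
      rw [hq', h]
      calc u * z * v = u * (z * v) := by group
        _ = u * (v * z) := by rw [← S.zc v]
        _ = u * v * z := by group

end

section Quot

variable {G : Type*} [Group G] {T Q : Subgroup G} {c z : G}

theorem mem_zpowers_z (hz2 : z ^ 2 = 1) {x : G} : x ∈ Subgroup.zpowers z ↔ x = 1 ∨ x = z := by
  constructor
  · intro h
    obtain ⟨k, rfl⟩ := Subgroup.mem_zpowers_iff.mp h
    rcases Int.emod_two_eq_zero_or_one k with hk | hk
    · left
      have : k = 2 * (k / 2) := by omega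
      rw [this, zpow_mul]
      have : z ^ (2 : ℤ) = 1 := by
        have := hz2
        rw [← zpow_natCast] at this
        exact_mod_cast this
      rw [this, one_zpow]
    · right
      have : k = 2 * (k / 2) + 1 := by omega
      rw [this, zpow_add, zpow_mul]
      have : z ^ (2 : ℤ) = 1 := by
        have := hz2
        rw [← zpow_natCast] at this
        exact_mod_cast this
      rw [this, one_zpow, one_mul, zpow_one]
  · rintro (rfl | rfl)
    · exact Subgroup.one_mem _
    · exact Subgroup.mem_zpowers _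

theorem conj_z (S : Setup T Q c z) (g : G) : g * z * g⁻¹ = z := by
  calc g * z * g⁻¹ = z * g * g⁻¹ := by rw [S.zc g]
    _ = z := by group

theorem Setup.Zn (S : Setup T Q c z) : (Subgroup.zpowers z).Normal := by
  constructor
  intro n hn g
  rcases (mem_zpowers_z S.z2).mp hn with rfl | rfl
  · simp
  · rw [conj_z S g]; exact Subgroup.mem_zpowers _

theorem Setup.Z2 (S : Setup T Q c z) : IsPGroup 2 ↥(Subgroup.zpowers z) := by
  intro x
  refine ⟨1, ?_⟩
  apply Subtype.ext
  rcases (mem_zpowers_z S.z2).mp x.2 with h | h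
  · simp [h]
  · simp [h, S.z2]

theorem Setup.Z_le_Q (S : Setup T Q c z) : Subgroup.zpowers z ≤ Q :=
  S.Qmax _ S.Zn S.Z2

theorem Setup.mk_eq_iff (S : Setup T Q c z) [(Subgroup.zpowers z).Normal] {x y : G} :
    QuotientGroup.mk' (Subgroup.zpowers z) x = QuotientGroup.mk' (Subgroup.zpowers z) y ↔
      y = x ∨ y = x * z := by
  rw [QuotientGroup.mk'_apply, QuotientGroup.mk'_apply, QuotientGroup.eq, mem_zpowers_z S.z2]
  constructor
  · rintro (h | h)
    · left
      calc y = x * (x⁻¹ * y) := by group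
        _ = x := by rw [h, mul_one]
    · right
      calc y = x * (x⁻¹ * y) := by group
        _ = x * z := by rw [h]
  · rintro (h | h)
    · left; rw [h]; group
    · right; rw [h]; group

theorem Setup.mk_eq_one_iff (S : Setup T Q c z) [(Subgroup.zpowers z).Normal] {x : G} :
    QuotientGroup.mk' (Subgroup.zpowers z) x = 1 ↔ x = 1 ∨ x = z := by
  rw [QuotientGroup.mk'_apply, QuotientGroup.eq_one_iff, mem_zpowers_z S.z2]

end Quot

section Core

variable {G : Type*} [Group G] {T Q : Subgroup G} {c z : G}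

theorem orderOf_conj_coprime {g : G} (w : G) (hodd : (orderOf g).Coprime 2) :
    (orderOf (w⁻¹ * g * w)).Coprime 2 := by
  have h : orderOf (MulAut.conj w⁻¹ g) = orderOf g :=
    orderOf_injective (MulAut.conj w⁻¹).toMonoidHom (MulAut.conj w⁻¹).injective g
  rw [MulAut.conj_apply, inv_inv] at h
  rw [h]; exact hodd

theorem conj_ne_one {g : G} (w : G) (hg1 : g ≠ 1) : w⁻¹ * g * w ≠ 1 := by
  intro h
  apply hg1
  calc g = w * (w⁻¹ * g * w) * w⁻¹ := by group
    _ = 1 := by rw [h]; group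

set_option maxHeartbeats 1600000 in
theorem Setup.core [Finite G] (S : Setup T Q c z) {w : G} (hodd : (orderOf w).Coprime 2)
    (hw1 : w ≠ 1) {u : G} (hu : u ∈ Q) (huC : u ∈ Subgroup.zpowers c) (hu1 : u ≠ 1) (huz : u ≠ z)
    (hx3 : w * (w * u * w⁻¹) * w⁻¹ = u * (w * u * w⁻¹)) :
    ∃ U : Subgroup G, U.Normal ∧
      Nonempty (↥U ≃* Matrix.SpecialLinearGroup (Fin 2) (ZMod 3)) := by
  classical
  have hZn := S.Zn
  obtain ⟨hvQ, hvC, hvv, huu, hvu⟩ := S.v_facts hodd hw1 hu huC hu1 huz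
  set v := w * u * w⁻¹ with hv
  set π : G →* G ⧸ Subgroup.zpowers z := QuotientGroup.mk' (Subgroup.zpowers z) with hπ
  have hπz : π z = 1 := S.mk_eq_one_iff.mpr (Or.inr rfl)
  -- relations in the quotient
  have hUU : π u * π u = 1 := by rw [← map_mul, huu, hπz]
  have hVV : π v * π v = 1 := by rw [← map_mul, hvv, hπz]
  have hUinv : (π u)⁻¹ = π u := inv_eq_of_mul_eq_one_right hUU
  have hVinv : (π v)⁻¹ = π v := inv_eq_of_mul_eq_one_right hVV
  have hcommUV : π u * π v = π v * π u := by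
    have h1 : π v * π u * (π v)⁻¹ = (π u)⁻¹ := by
      rw [← map_inv, ← map_mul, ← map_mul, ← map_inv, hvu]
    rw [hUinv] at h1
    calc π u * π v = (π v * π u * (π v)⁻¹) * π v := by rw [h1]
      _ = π v * π u := by group
  have hW1 : π w * π u * (π w)⁻¹ = π v := by
    rw [hv, map_mul, map_mul, map_inv]
  have hW2 : π w * π v * (π w)⁻¹ = π u * π v := by
    rw [← map_inv, ← map_mul, ← map_mul, hx3, map_mul]
  have hW3 : π w * (π u * π v) * (π w)⁻¹ = π u := by
    calc π w * (π u * π v) * (π w)⁻¹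
        = (π w * π u * (π w)⁻¹) * (π w * π v * (π w)⁻¹) := by group
      _ = π v * (π u * π v) := by rw [hW1, hW2]
      _ = π u * (π v * π v) := by rw [← mul_assoc, ← hcommUV, mul_assoc]
      _ = π u := by rw [hVV, mul_one]
  -- distinctness
  have hzC : z ∈ Subgroup.zpowers c := S.zC
  have hU1 : π u ≠ 1 := by
    intro h
    rcases S.mk_eq_one_iff.mp h with h | h
    · exact hu1 h
    · exact huz h
  have hV1 : π v ≠ 1 := by
    intro h
    rcases S.mk_eq_one_iff.mp h with h | h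
    · apply hvC; rw [h]; exact Subgroup.one_mem _
    · apply hvC; rw [h]; exact hzC
  have hUVne : π u ≠ π v := by
    intro h
    rcases S.mk_eq_iff.mp h with h | h
    · apply hvC; rw [h]; exact huC
    · apply hvC; rw [h]; exact Subgroup.mul_mem _ huC hzC
  -- the image of `Q`
  have hQim : ∀ q ∈ Q, π q = 1 ∨ π q = π u ∨ π q = π v ∨ π q = π u * π v := by
    intro q hq
    rcases S.mem_Q_cases hodd hw1 hu huC hu1 huz hvQ hvC hq with
      (h | h) | (h | h) | (h | h) | (h | h)
    · left; rw [h, map_one]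
    · left; rw [h, hπz]
    · right; left; rw [h]
    · right; left; rw [h, map_mul, hπz, mul_one]
    · right; right; left; rw [h]
    · right; right; left; rw [h, map_mul, hπz, mul_one]
    · right; right; right; rw [h, map_mul]
    · right; right; right; rw [h, map_mul, map_mul, hπz, mul_one]
  -- the kernel `K` of the action on `Q/Z`
  have hQmapn : (Q.map π).Normal :=
    S.Qn.map π (QuotientGroup.mk'_surjective (Subgroup.zpowers z))
  set K : Subgroup G :=
    (Subgroup.centralizer ((Q.map π : Subgroup (G ⧸ Subgroup.zpowers z)) :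
      Set (G ⧸ Subgroup.zpowers z))).comap π with hK
  have hKn : K.Normal := Subgroup.Normal.comap inferInstance π
  have hKmem : ∀ g : G, π g * π u = π u * π g → π g * π v = π v * π g → g ∈ K := by
    intro g h1 h2
    rw [hK, Subgroup.mem_comap, Subgroup.mem_centralizer_iff]
    rintro _ ⟨q, hq, rfl⟩
    rcases hQim q hq with h | h | h | h
    · rw [h]; simp
    · rw [h]; exact h1.symm
    · rw [h]; exact h2.symm
    · rw [h]
      calc π u * π v * π g = π u * (π v * π g) := by group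
        _ = π u * (π g * π v) := by rw [h2]
        _ = (π u * π g) * π v := by group
        _ = (π g * π u) * π v := by rw [h1]
        _ = π g * (π u * π v) := by group
  have hKcomm : ∀ g ∈ K, ∀ q ∈ Q, π q * π g = π g * π q := by
    intro g hg q hq
    rw [hK, Subgroup.mem_comap, Subgroup.mem_centralizer_iff] at hg
    exact hg (π q) ⟨q, hq, rfl⟩
  have hKodd : ∀ g ∈ K, (orderOf g).Coprime 2 → g = 1 := by
    intro g hg hgodd
    apply S.cent hgodd
    apply S.chain hgodd (Subgroup.zpowers z) S.Z_le_Q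
    · intro d hd
      rcases (mem_zpowers_z S.z2).mp hd with rfl | rfl
      · group
      · exact conj_z S g
    · intro q hq
      have h1 := hKcomm g hg q hq
      have h2 : π (g * q * g⁻¹ * q⁻¹) = 1 := by
        rw [map_mul, map_mul, map_mul, map_inv, map_inv, ← h1]
        group
      rw [hπ, QuotientGroup.mk'_apply, QuotientGroup.eq_one_iff] at h2
      exact h2
  have hK2 : IsPGroup 2 ↥K := by
    rintro ⟨g, hg⟩
    obtain ⟨k, m, hm, hn⟩ := Nat.exists_eq_two_pow_mul_odd (orderOf_pos g).ne'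
    refine ⟨k, ?_⟩
    apply Subtype.ext
    have h1 : g ^ 2 ^ k = 1 := by
      apply hKodd _ (K.pow_mem hg _)
      have h2 : orderOf (g ^ 2 ^ k) ∣ m := by
        apply orderOf_dvd_of_pow_eq_one
        rw [← pow_mul, ← hn, pow_orderOf_eq_one]
      exact Nat.Coprime.coprime_dvd_left h2 (Nat.coprime_two_right.mpr hm)
    simpa using h1
  have hKQ : K ≤ Q := S.Qmax K hKn hK2
  -- fixed-point-freeness of odd elements on `Q/Z`
  have hP1u : ∀ g : G, (orderOf g).Coprime 2 → g ≠ 1 → π g * π u * (π g)⁻¹ ≠ π u := by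
    intro g hgodd hg1 h
    rw [← map_inv, ← map_mul, ← map_mul] at h
    apply S.S3 hgodd hg1 hu huC hu1 huz
    rcases S.mk_eq_iff.mp h.symm with h | h
    · rw [h]; exact huC
    · rw [h]; exact Subgroup.mul_mem _ huC hzC
  have hstep : ∀ X : G ⧸ Subgroup.zpowers z,
      (∀ g : G, (orderOf g).Coprime 2 → g ≠ 1 → π g * X * (π g)⁻¹ ≠ X) →
      ∀ g : G, (orderOf g).Coprime 2 → g ≠ 1 →
        π g * (π w * X * (π w)⁻¹) * (π g)⁻¹ ≠ π w * X * (π w)⁻¹ := by
    intro X hX g hgodd hg1 h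
    apply hX (w⁻¹ * g * w) (orderOf_conj_coprime w hgodd) (conj_ne_one w hg1)
    rw [map_mul, map_mul, map_inv]
    calc (π w)⁻¹ * π g * π w * X * ((π w)⁻¹ * π g * π w)⁻¹
        = (π w)⁻¹ * (π g * (π w * X * (π w)⁻¹) * (π g)⁻¹) * π w := by group
      _ = (π w)⁻¹ * (π w * X * (π w)⁻¹) * π w := by rw [h]
      _ = X := by group
  have hP1v : ∀ g : G, (orderOf g).Coprime 2 → g ≠ 1 → π g * π v * (π g)⁻¹ ≠ π v := by
    have := hstep (π u) hP1u
    rwa [hW1] at this
  have hP1uv : ∀ g : G, (orderOf g).Coprime 2 → g ≠ 1 →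
      π g * (π u * π v) * (π g)⁻¹ ≠ π u * π v := by
    have := hstep (π v) hP1v
    rwa [hW2] at this
  -- the subgroup `U`
  set U : Subgroup G := Subgroup.closure {u, v, w} with hU
  have huU : u ∈ U := Subgroup.subset_closure (by simp)
  have hvU : v ∈ U := Subgroup.subset_closure (by simp)
  have hwU : w ∈ U := Subgroup.subset_closure (by simp)
  have hzU : z ∈ U := by rw [← huu]; exact U.mul_mem huU huU
  have hQU : Q ≤ U := by
    intro q hq
    rcases S.mem_Q_cases hodd hw1 hu huC hu1 huz hvQ hvC hq with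
      (h | h) | (h | h) | (h | h) | (h | h) <;> rw [h]
    · exact U.one_mem
    · exact hzU
    · exact huU
    · exact U.mul_mem huU hzU
    · exact hvU
    · exact U.mul_mem hvU hzU
    · exact U.mul_mem huU hvU
    · exact U.mul_mem (U.mul_mem huU hvU) hzU
  -- every nontrivial element of odd order lies in `U`
  have hcrux : ∀ g : G, (orderOf g).Coprime 2 → g ≠ 1 → g ∈ U := by
    intro g hgodd hg1
    have hguQ : g * u * g⁻¹ ∈ Q := S.Qn.conj_mem u hu g
    have hX := hQim _ hguQ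
    rw [map_mul, map_mul, map_inv] at hX
    rcases hX with hX | hX | hX | hX
    · exfalso
      apply hU1
      calc π u = (π g)⁻¹ * (π g * π u * (π g)⁻¹) * π g := by group
        _ = 1 := by rw [hX]; group
    · exact absurd hX (hP1u g hgodd hg1)
    · -- `g` acts like `w` on `π u`
      set h := w⁻¹ * g with hh
      have hhu : π h * π u * (π h)⁻¹ = π u := by
        rw [hh, map_mul, map_inv]
        calc (π w)⁻¹ * π g * π u * ((π w)⁻¹ * π g)⁻¹
            = (π w)⁻¹ * (π g * π u * (π g)⁻¹) * π w := by group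
          _ = (π w)⁻¹ * (π w * π u * (π w)⁻¹) * π w := by rw [hX, hW1]
          _ = π u := by group
      have hhvQ : h * v * h⁻¹ ∈ Q := S.Qn.conj_mem v hvQ h
      have hY := hQim _ hhvQ
      rw [map_mul, map_mul, map_inv] at hY
      rcases hY with hY | hY | hY | hY
      · exfalso
        apply hV1
        calc π v = (π h)⁻¹ * (π h * π v * (π h)⁻¹) * π h := by group
          _ = 1 := by rw [hY]; group
      · exfalso
        apply hUVne
        calc π u = (π h)⁻¹ * (π h * π u * (π h)⁻¹) * π h := by group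
          _ = (π h)⁻¹ * (π h * π v * (π h)⁻¹) * π h := by rw [hhu, hY]
          _ = π v := by group
      · have hhK : h ∈ K := by
          apply hKmem
          · calc π h * π u = (π h * π u * (π h)⁻¹) * π h := by group
              _ = π u * π h := by rw [hhu]
          · calc π h * π v = (π h * π v * (π h)⁻¹) * π h := by group
              _ = π v * π h := by rw [hY]
        have : g = w * h := by rw [hh]; group
        rw [this]
        exact U.mul_mem hwU (hQU (hKQ hhK))
      · exfalso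
        apply hP1uv g hgodd hg1
        have hgh : π g = π w * π h := by rw [hh, map_mul, map_inv]; group
        have e1 : π g * π v * (π g)⁻¹ = π u := by
          calc π g * π v * (π g)⁻¹ = π w * (π h * π v * (π h)⁻¹) * (π w)⁻¹ := by
                rw [hgh]; group
            _ = π u := by rw [hY, hW3]
        calc π g * (π u * π v) * (π g)⁻¹
            = (π g * π u * (π g)⁻¹) * (π g * π v * (π g)⁻¹) := by group
          _ = π v * π u := by rw [hX, e1]
          _ = π u * π v := hcommUV.symm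
    · -- `g` acts like `w⁻¹` on `π u`
      set h := w * g with hh
      have hhu : π h * π u * (π h)⁻¹ = π u := by
        rw [hh, map_mul]
        calc π w * π g * π u * (π w * π g)⁻¹
            = π w * (π g * π u * (π g)⁻¹) * (π w)⁻¹ := by group
          _ = π u := by rw [hX, hW3]
      have hhvQ : h * v * h⁻¹ ∈ Q := S.Qn.conj_mem v hvQ h
      have hY := hQim _ hhvQ
      rw [map_mul, map_mul, map_inv] at hY
      rcases hY with hY | hY | hY | hY
      · exfalso
        apply hV1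
        calc π v = (π h)⁻¹ * (π h * π v * (π h)⁻¹) * π h := by group
          _ = 1 := by rw [hY]; group
      · exfalso
        apply hUVne
        calc π u = (π h)⁻¹ * (π h * π u * (π h)⁻¹) * π h := by group
          _ = (π h)⁻¹ * (π h * π v * (π h)⁻¹) * π h := by rw [hhu, hY]
          _ = π v := by group
      · have hhK : h ∈ K := by
          apply hKmem
          · calc π h * π u = (π h * π u * (π h)⁻¹) * π h := by group
              _ = π u * π h := by rw [hhu]
          · calc π h * π v = (π h * π v * (π h)⁻¹) * π h := by group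
              _ = π v * π h := by rw [hY]
        have : g = w⁻¹ * h := by rw [hh]; group
        rw [this]
        exact U.mul_mem (U.inv_mem hwU) (hQU (hKQ hhK))
      · exfalso
        apply hP1v g hgodd hg1
        have hgh : π g = (π w)⁻¹ * π h := by rw [hh, map_mul]; group
        calc π g * π v * (π g)⁻¹ = (π w)⁻¹ * (π h * π v * (π h)⁻¹) * π w := by
              rw [hgh]; group
          _ = (π w)⁻¹ * (π w * π v * (π w)⁻¹) * π w := by rw [hY, hW2]
          _ = π v := by group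
  -- normality of `U`
  have hUn : U.Normal := by
    constructor
    intro n hn g
    induction hn using Subgroup.closure_induction with
    | mem x hx =>
      simp only [Set.mem_insert_iff, Set.mem_singleton_iff] at hx
      rcases hx with rfl | rfl | rfl
      · exact hQU (S.Qn.conj_mem _ hu g)
      · exact hQU (S.Qn.conj_mem _ hvQ g)
      · have h1 := orderOf_conj_coprime g⁻¹ hodd
        have h2 := conj_ne_one g⁻¹ hw1
        rw [inv_inv] at h1 h2
        exact hcrux _ h1 h2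
    | one => simp
    | mul x y _ _ hx hy =>
      have : g * (x * y) * g⁻¹ = (g * x * g⁻¹) * (g * y * g⁻¹) := by group
      rw [this]; exact U.mul_mem hx hy
    | inv x _ hx =>
      have : g * x⁻¹ * g⁻¹ = (g * x * g⁻¹)⁻¹ := by group
      rw [this]; exact U.inv_mem hx
  -- `w ^ 3 = 1`
  have hp3 : π w ^ 3 = π w * (π w * π w) := by
    rw [pow_succ', pow_two]
  have hw3 : w ^ 3 = 1 := by
    apply hKodd
    · apply hKmem
      · have e : π (w ^ 3) * π u * (π (w ^ 3))⁻¹ = π u := by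
          rw [map_pow, hp3]
          calc π w * (π w * π w) * π u * (π w * (π w * π w))⁻¹
              = π w * (π w * (π w * π u * (π w)⁻¹) * (π w)⁻¹) * (π w)⁻¹ := by group
            _ = π u := by rw [hW1, hW2, hW3]
        calc π (w ^ 3) * π u = (π (w ^ 3) * π u * (π (w ^ 3))⁻¹) * π (w ^ 3) := by group
          _ = π u * π (w ^ 3) := by rw [e]
      · have e : π (w ^ 3) * π v * (π (w ^ 3))⁻¹ = π v := by
          rw [map_pow, hp3]
          calc π w * (π w * π w) * π v * (π w * (π w * π w))⁻¹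
              = π w * (π w * (π w * π v * (π w)⁻¹) * (π w)⁻¹) * (π w)⁻¹ := by group
            _ = π v := by rw [hW2, hW3, hW1]
        calc π (w ^ 3) * π v = (π (w ^ 3) * π v * (π (w ^ 3))⁻¹) * π (w ^ 3) := by group
          _ = π v * π (w ^ 3) := by rw [e]
    · exact Nat.Coprime.coprime_dvd_left (orderOf_pow_dvd 3) hodd
  refine ⟨U, hUn, ?_⟩
  -- recognition
  have hu4 : u ^ (2 * 2) = 1 := by
    have : u ^ (2 * 2) = (u * u) ^ 2 := by
      rw [pow_mul, pow_two u]
    rw [this, huu, S.z2]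
  have huu2 : u ^ 2 = z := by rw [pow_two, huu]
  apply Cfsg.Agent.Lib.Helper53.nonempty_mulEquiv_SL23 (u := (⟨u, huU⟩ : ↥U))
    (v := (⟨v, hvU⟩ : ↥U)) (t := (⟨w, hwU⟩ : ↥U))
  · apply Subtype.ext; simpa using hu4
  · apply Subtype.ext
    show v * v = u ^ 2
    rw [hvv, huu2]
  · apply Subtype.ext
    show v * u * v⁻¹ = u⁻¹
    exact hvu
  · apply Subtype.ext; simpa using hw3
  · apply Subtype.ext
    show w * u * w⁻¹ = v
    rfl
  · apply Subtype.ext
    show w * v * w⁻¹ = u * v
    exact hx3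
  · intro h
    have := congrArg Subtype.val h
    simp only [Subgroup.coe_pow, Subgroup.coe_one] at this
    rw [huu2] at this
    exact S.z1 this
  · intro h
    exact hw1 (congrArg Subtype.val h)
  · have h1 := Subgroup.closure_closure_coe_preimage (k := ({u, v, w} : Set G))
    have h2 : ((↑) : ↥(Subgroup.closure ({u, v, w} : Set G)) → G) ⁻¹' ({u, v, w} : Set G) =
        ({⟨u, huU⟩, ⟨v, hvU⟩, ⟨w, hwU⟩} : Set ↥U) := by
      ext x
      simp only [Set.mem_preimage, Set.mem_insert_iff, Set.mem_singleton_iff]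
      constructor
      · rintro (h | h | h)
        · left; exact Subtype.ext h
        · right; left; exact Subtype.ext h
        · right; right; exact Subtype.ext h
      · rintro (h | h | h)
        · left; rw [h]
        · right; left; rw [h]
        · right; right; rw [h]
    rw [h2] at h1
    exact h1

end Core

section Main

variable {G : Type*} [Group G] [Finite G] {T Q : Subgroup G} {c z : G}

/-- The third conjugate `w v w⁻¹` is `u v` up to `z`. -/
theorem Setup.x3_cases (S : Setup T Q c z) {w : G} (hodd : (orderOf w).Coprime 2)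
    (hw1 : w ≠ 1) {u : G} (hu : u ∈ Q) (huC : u ∈ Subgroup.zpowers c) (hu1 : u ≠ 1) (huz : u ≠ z) :
    w * (w * u * w⁻¹) * w⁻¹ = u * (w * u * w⁻¹) ∨
      w * (w * u * w⁻¹) * w⁻¹ = u * (w * u * w⁻¹) * z := by
  obtain ⟨hvQ, hvC, hvv, huu, hvu⟩ := S.v_facts hodd hw1 hu huC hu1 huz
  set v := w * u * w⁻¹ with hv
  have hx3Q : w * v * w⁻¹ ∈ Q := S.Qn.conj_mem v hvQ w
  have hback : ∀ y : G, w * v * w⁻¹ = y → v = w⁻¹ * y * w := by
    intro y hy
    rw [← hy]; group
  have hzC : z ∈ Subgroup.zpowers c := S.zC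
  -- if `w` fixes `u` we get a contradiction
  have hnofix : w * u * w⁻¹ ≠ u := by
    intro h
    apply hvC
    rw [hv, h]; exact huC
  rcases S.mem_Q_cases hodd hw1 hu huC hu1 huz hvQ hvC hx3Q with
    (h | h) | (h | h) | (h | h) | (h | h)
  · exfalso
    apply hvC
    rw [hback _ h]
    have : w⁻¹ * 1 * w = 1 := by group
    rw [this]; exact Subgroup.one_mem _
  · exfalso
    apply hvC
    rw [hback _ h]
    have : w⁻¹ * z * w = z := by
      have := conj_z S w⁻¹
      rwa [inv_inv] at this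
    rw [this]; exact hzC
  · exfalso
    have h2 : w ^ 2 * u * (w ^ 2)⁻¹ = w * v * w⁻¹ := by rw [hv, pow_two]; group
    have h3 : w ^ 2 * u * (w ^ 2)⁻¹ = u := by
      apply S.L2 (odd_sq hodd) hu
      rw [h2, h]; exact Subgroup.mem_zpowers u
    obtain ⟨k, hk⟩ := exists_pow_sq_eq hodd
    have h4 := pow_conj_fixed h3 k
    rw [hk] at h4
    exact hnofix h4
  · exfalso
    have h2 : w ^ 2 * u * (w ^ 2)⁻¹ = w * v * w⁻¹ := by rw [hv, pow_two]; group
    have h3 : w ^ 2 * u * (w ^ 2)⁻¹ = u := by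
      apply S.L2 (odd_sq hodd) hu
      rw [h2, h, ← huu]
      exact Subgroup.mul_mem _ (Subgroup.mem_zpowers u)
        (Subgroup.mul_mem _ (Subgroup.mem_zpowers u) (Subgroup.mem_zpowers u))
    obtain ⟨k, hk⟩ := exists_pow_sq_eq hodd
    have h4 := pow_conj_fixed h3 k
    rw [hk] at h4
    exact hnofix h4
  · exfalso
    have h3 : w * v * w⁻¹ = v := by
      apply S.L2 hodd hvQ
      rw [h]; exact Subgroup.mem_zpowers v
    apply hnofix
    have : w * u * w⁻¹ = w⁻¹ * (w * v * w⁻¹) * w := by rw [hv]; group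
    rw [this, h3, hv]; group
  · exfalso
    have h3 : w * v * w⁻¹ = v := by
      apply S.L2 hodd hvQ
      rw [h, ← hvv]
      exact Subgroup.mul_mem _ (Subgroup.mem_zpowers v)
        (Subgroup.mul_mem _ (Subgroup.mem_zpowers v) (Subgroup.mem_zpowers v))
    apply hnofix
    have : w * u * w⁻¹ = w⁻¹ * (w * v * w⁻¹) * w := by rw [hv]; group
    rw [this, h3, hv]; group
  · exact Or.inl h
  · exact Or.inr h

theorem Setup.main (S : Setup T Q c z) {w : G} (hodd : (orderOf w).Coprime 2) (hw1 : w ≠ 1) :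
    ∃ U : Subgroup G, U.Normal ∧
      Nonempty (↥U ≃* Matrix.SpecialLinearGroup (Fin 2) (ZMod 3)) := by
  obtain ⟨u, hu, huC, hu1, huz⟩ := S.exists_u hodd hw1
  rcases S.x3_cases hodd hw1 hu huC hu1 huz with hx3 | hx3
  · exact S.core hodd hw1 hu huC hu1 huz hx3
  · obtain ⟨hvQ, hvC, hvv, huu, hvu⟩ := S.v_facts hodd hw1 hu huC hu1 huz
    have hz2 : z * z = 1 := by rw [← pow_two]; exact S.z2
    have hzinv : z⁻¹ = z := inv_eq_of_mul_eq_one_right hz2
    apply S.core hodd hw1 (Q.inv_mem hu) (Subgroup.inv_mem _ huC)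
    · intro h; exact hu1 (inv_eq_one.mp h)
    · intro h
      apply huz
      rw [← inv_inv u, h, hzinv]
    · set v := w * u * w⁻¹ with hv
      have e1 : w * u⁻¹ * w⁻¹ = v⁻¹ := by rw [hv]; group
      rw [e1]
      have e2 : w * v⁻¹ * w⁻¹ = (w * v * w⁻¹)⁻¹ := by group
      rw [e2, hx3]
      -- (u v z)⁻¹ = u⁻¹ v⁻¹
      have hvu' : v * u = u⁻¹ * v := by
        calc v * u = (v * u * v⁻¹) * v := by group
          _ = u⁻¹ * v := by rw [hvu]
      have huinv : u⁻¹ = u * z := by
        have : u * (u * z) = 1 := by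
          calc u * (u * z) = (u * u) * z := by group
            _ = 1 := by rw [huu, hz2]
        exact inv_eq_of_mul_eq_one_right this
      have e3 : u * v * z = v * u := by
        rw [hvu', huinv]
        calc u * v * z = u * (v * z) := by group
          _ = u * (z * v) := by rw [S.zc v]
          _ = u * z * v := by group
      rw [e3]; group

end Main

theorem mem_zpowers_coe {G : Type*} [Group G] {T : Subgroup G} (x₀ y : ↥T) :
    y ∈ Subgroup.zpowers x₀ ↔ (y : G) ∈ Subgroup.zpowers (x₀ : G) := by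
  rw [Subgroup.mem_zpowers_iff, Subgroup.mem_zpowers_iff]
  constructor
  · rintro ⟨k, hk⟩
    exact ⟨k, by rw [← hk]; simp⟩
  · rintro ⟨k, hk⟩
    refine ⟨k, Subtype.ext ?_⟩
    rw [← hk]; simp

/-- Let G be a finite solvable group with O(G) = 1 whose Sylow 2-subgroup T is dihedral of order at least 8 or semidihedral, with G ≠ T and Z(T) normal in G. Then G has a normal subgroup isomorphic to SL₂(3). -/
theorem result {G : Type*} [Group G] [Finite G] (hsol : IsSolvable G) (hO : Cfsg.oddCore G = ⊥) (T : Sylow 2 G) (hT : (∃ n : ℕ, 4 ≤ n ∧ Nonempty (↥(T : Subgroup G) ≃* DihedralGroup n)) ∨ Cfsg.IsQuasiDihedral ↥(T : Subgroup G)) (hne : (T : Subgroup G) ≠ ⊤) (hZ : ((T : Subgroup G) ⊓ Subgroup.centralizer ((T : Subgroup G) : Set G)).Normal) : ∃ U : Subgroup G, U.Normal ∧ Nonempty (↥U ≃* Matrix.SpecialLinearGroup (Fin 2) (ZMod 3)) := by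
  classical
  have : Fact (Nat.Prime 2) := ⟨Nat.prime_two⟩
  -- the cyclic subgroup of index two
  have hcyc : Cfsg.Agent.S1236.HasCyc ↥(T : Subgroup G) := by
    rcases hT with ⟨n, hn, ⟨e⟩⟩ | hqd
    · exact Cfsg.Agent.S1236.hasCyc_of_dihedral n (by omega) e
    · exact Cfsg.Agent.S1236.hasCyc_of_qd hqd
  have hcard8 : 8 ≤ Nat.card ↥(T : Subgroup G) := by
    rcases hT with ⟨n, hn, ⟨e⟩⟩ | ⟨n, hn, hc, _⟩
    · rw [Nat.card_congr e.toEquiv, DihedralGroup.nat_card]; omega
    · rw [hc]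
      calc 8 = 2 ^ 3 := by norm_num
        _ ≤ 2 ^ (n + 1) := Nat.pow_le_pow_right (by norm_num) (by omega)
  obtain ⟨x₀, hidx, hcent⟩ := hcyc
  -- elements of `T` outside `C` exist
  have hexout : ∃ y₁ : ↥(T : Subgroup G), y₁ ∉ Subgroup.zpowers x₀ := by
    by_contra h
    push Not at h
    have : Subgroup.zpowers x₀ = ⊤ := by
      rw [Subgroup.eq_top_iff']; exact h
    rw [this, Subgroup.index_top] at hidx
    omega
  obtain ⟨y₁, hy₁⟩ := hexout
  -- central elements of `T` lie in `C` and square to one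
  have hcenC : ∀ t : ↥(T : Subgroup G), t ∈ Subgroup.center ↥(T : Subgroup G) →
      t ∈ Subgroup.zpowers x₀ ∧ t ^ 2 = 1 := by
    intro t ht
    have htc : ∀ y : ↥(T : Subgroup G), y * t = t * y := fun y =>
      (Subgroup.mem_center_iff.mp ht y)
    have h1 : t ∈ Subgroup.zpowers x₀ := by
      by_contra h
      have h2 := hcent t h x₀ (Subgroup.mem_zpowers x₀) (htc x₀).symm
      have h3 : orderOf x₀ ≤ 2 := orderOf_le_of_pow_eq_one (by norm_num) h2
      have h4 := Subgroup.card_mul_index (Subgroup.zpowers x₀)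
      rw [hidx, Nat.card_zpowers] at h4
      omega
    exact ⟨h1, hcent y₁ hy₁ t h1 (htc y₁)⟩
  have hT2 : IsPGroup 2 ↥(T : Subgroup G) := T.isPGroup'
  have hTnt : Nontrivial ↥(T : Subgroup G) := by
    rw [← Finite.one_lt_card_iff_nontrivial]; omega
  have hcnt : Nontrivial ↥(Subgroup.center ↥(T : Subgroup G)) := hT2.center_nontrivial
  obtain ⟨⟨t₀, ht₀c⟩, ht₀ne⟩ := exists_ne (1 : ↥(Subgroup.center ↥(T : Subgroup G)))
  have ht₀1 : t₀ ≠ 1 := fun h => ht₀ne (Subtype.ext h)
  obtain ⟨ht₀C, ht₀sq⟩ := hcenC t₀ ht₀c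
  set Q : Subgroup G := Cfsg.pCore 2 G with hQ
  have hO' : Cfsg.pPrimeCore 2 G = ⊥ := hO
  have hsol' : Group.IsSolvable G := hsol
  have hS : Setup (T : Subgroup G) Q (x₀ : G) (t₀ : G) := by
    refine
      { cT := x₀.2
        idx := ?_
        cyc := ?_
        zC := (mem_zpowers_coe x₀ t₀).mp ht₀C
        z1 := fun h => ht₀1 (Subtype.ext h)
        z2 := by
          have := congrArg Subtype.val ht₀sq
          simpa using this
        zc := ?_
        Qn := Cfsg.Agent.Lib.Helper55.pCore_normal' 2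
        Q2 := Cfsg.Agent.Lib.Helper55.isPGroup_pCore 2
        QT := Cfsg.Agent.Lib.Helper55.pCore_le_sylow T
        CQ := Cfsg.Agent.Lib.Helper55.centralizer_pCore_le 2 hO'
        Qmax := fun K hKn hK2 => Cfsg.Agent.Lib.Helper55.le_pCore hKn hK2 }
    · intro a ha b hb
      have := Subgroup.mul_mem_iff_of_index_two hidx (a := (⟨a, ha⟩ : ↥(T : Subgroup G)))
        (b := ⟨b, hb⟩)
      rw [mem_zpowers_coe, mem_zpowers_coe, mem_zpowers_coe] at this
      exact this
    · intro y hy hyC x hx hyx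
      obtain ⟨k, hk⟩ := Subgroup.mem_zpowers_iff.mp hx
      have hxT : x ∈ (T : Subgroup G) := by
        rw [← hk]; exact Subgroup.zpow_mem _ x₀.2 k
      have h1 := hcent ⟨y, hy⟩ (fun h => hyC ((mem_zpowers_coe x₀ ⟨y, hy⟩).mp h)) ⟨x, hxT⟩
        ((mem_zpowers_coe x₀ ⟨x, hxT⟩).mpr hx) (Subtype.ext hyx)
      have := congrArg Subtype.val h1
      simpa using this
    · intro g
      -- `g t₀ g⁻¹` is again a nontrivial central element of `T`
      have hmem : (t₀ : G) ∈ (T : Subgroup G) ⊓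
          Subgroup.centralizer ((T : Subgroup G) : Set G) := by
        refine ⟨t₀.2, ?_⟩
        show (t₀ : G) ∈ Subgroup.centralizer ((T : Subgroup G) : Set G)
        rw [Subgroup.mem_centralizer_iff]
        intro y hy
        have := Subgroup.mem_center_iff.mp ht₀c ⟨y, hy⟩
        exact congrArg Subtype.val this
      have hconj := hZ.conj_mem _ hmem g
      obtain ⟨h1T, h1c⟩ := hconj
      have h1cen : (⟨g * t₀ * g⁻¹, h1T⟩ : ↥(T : Subgroup G)) ∈
          Subgroup.center ↥(T : Subgroup G) := by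
        rw [Subgroup.mem_center_iff]
        intro y
        apply Subtype.ext
        exact Subgroup.mem_centralizer_iff.mp h1c y y.2
      obtain ⟨h2C, h2sq⟩ := hcenC _ h1cen
      have h3 := Cfsg.Agent.S1236.sq_eq_one_cases x₀ t₀ _ ht₀C h2C ht₀sq h2sq ht₀1
      rcases h3 with h3 | h3
      · exfalso
        have h4 : g * (t₀ : G) * g⁻¹ = 1 := congrArg Subtype.val h3
        apply ht₀1
        apply Subtype.ext
        calc (t₀ : G) = g⁻¹ * (g * (t₀ : G) * g⁻¹) * g := by group
          _ = 1 := by rw [h4]; group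
      · have h4 : g * (t₀ : G) * g⁻¹ = t₀ := congrArg Subtype.val h3
        calc g * (t₀ : G) = (g * (t₀ : G) * g⁻¹) * g := by group
          _ = (t₀ : G) * g := by rw [h4]
  -- an element of odd prime order
  have hexw : ∃ w : G, (orderOf w).Coprime 2 ∧ w ≠ 1 := by
    by_contra hcon
    push Not at hcon
    apply hne
    have hG2 : IsPGroup 2 G := by
      have hall : ∀ {d : ℕ}, d.Prime → d ∣ Nat.card G → d = 2 := by
        intro d hd hdvd
        by_contra hd2
        have : Fact d.Prime := ⟨hd⟩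
        obtain ⟨w, hw⟩ := exists_prime_orderOf_dvd_card' d hdvd
        have h1 : (orderOf w).Coprime 2 := by
          rw [hw]; exact (Nat.coprime_primes hd Nat.prime_two).mpr hd2
        have h2 := hcon w h1
        rw [h2, orderOf_one] at hw
        exact hd.one_lt.ne hw
      have := Nat.eq_prime_pow_of_unique_prime_dvd (Nat.card_pos (α := G)).ne' hall
      exact IsPGroup.of_card this
    have htop : IsPGroup 2 ↥(⊤ : Subgroup G) := hG2.to_subgroup ⊤
    exact (T.is_maximal' htop le_top).symm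
  obtain ⟨w, hwodd, hw1⟩ := hexw
  exact hS.main hwodd hw1

end Cfsg.Agent.S2879
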