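import Cfsg.Statements.S2880
import Cfsg.Agent.Lib.Helper48.Extraspecial
import Cfsg.Agent.Lib.Helper1.PGroupMax

set_option autoImplicit false
open Cfsg

namespace Cfsg.Agent.S2880

open Cfsg.Agent.Lib.Helper48

/-- `p`-th powers lie in the Frattini subgroup of a finite `p`-group. -/
theorem pow_mem_frattini {G : Type*} [Group G] [Finite G] {p : ℕ} [Fact p.Prime]
    (hG : IsPGroup p G) (x : G) : x ^ p ∈ frattini G := by
  unfold frattini Order.radical
  rw [Subgroup.mem_iInf]
  intro M
  rw [Subgroup.mem_iInf]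
  intro hM
  have hM : IsCoatom M := hM
  have hn : M.Normal := Cfsg.Agent.Lib.Helper1.coatom_normal_of_isPGroup hG hM
  have hi : M.index = p := Cfsg.Agent.Lib.Helper1.coatom_index_of_isPGroup hG hM
  have hcard : Nat.card (G ⧸ M) = p := by rw [← hi]; rfl
  rw [← QuotientGroup.eq_one_iff]
  have h := pow_card_eq_one' (G := G ⧸ M) (x := (x : G ⧸ M))
  rw [hcard] at h
  simpa using h

/-- In an extraspecial `2`-group of order `2^(2m+1)`, an elementary abelian subgroup of order
`2^(m+1)` is self-centralizing. -/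
theorem centralizer_eq_self {E : Type*} [Group E] [Finite E] (m : ℕ)
    (hc : commutator E = Subgroup.center E) (hZ2 : Nat.card (Subgroup.center E) = 2)
    (hcard : Nat.card E = 2 ^ (2 * m + 1)) (A : Subgroup E) (hA : IsMulCommutative A)
    (hAcard : Nat.card A = 2 ^ (m + 1)) : Subgroup.centralizer (A : Set E) = A := by
  have hAC : A ≤ Subgroup.centralizer (A : Set E) :=
    Subgroup.le_centralizer_iff_isMulCommutative.mpr hA
  symm
  apply Subgroup.eq_of_le_of_card_ge hAC
  have h1 := card_centralizer_mul_card hc hZ2 A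
  have h2 : Nat.card (A ⊓ Subgroup.center E : Subgroup E) ≤ 2 := by
    rw [← hZ2]
    exact Subgroup.card_le_of_le inf_le_right
  rw [hAcard, hcard] at h1
  rw [hAcard]
  have h3 : Nat.card (Subgroup.centralizer (A : Set E)) * 2 ^ (m + 1) ≤ 2 ^ (2 * m + 1) * 2 := by
    rw [h1]
    exact Nat.mul_le_mul_left _ h2
  have h4 : 2 ^ (2 * m + 1) * 2 = 2 ^ (m + 1) * 2 ^ (m + 1) := by ring
  rw [h4] at h3
  exact Nat.le_of_mul_le_mul_right h3 (by positivity)

/-- Let E be an extraspecial 2-group of order 2^(2m+1) of plus type, that is, containing an elementary abelian subgroup of order 2^(m+1) (equivalently, a central product of m dihedral groups of order 8). Then E has exactly 2^(2m) − 2^m elements of order 4. -/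
theorem result {E : Type*} [Group E] [Finite E] (m : ℕ) (hm : 1 ≤ m) (hE : Cfsg.IsExtraspecial 2 E) (hcard : Nat.card E = 2 ^ (2 * m + 1)) (hplus : ∃ A : Subgroup E, Cfsg.IsElementaryAbelian 2 A ∧ Nat.card A = 2 ^ (m + 1)) : Nat.card {x : E // orderOf x = 4} = 2 ^ (2 * m) - 2 ^ m := by
  classical
  have : Fact (Nat.Prime 2) := ⟨Nat.prime_two⟩
  obtain ⟨⟨hEp, hfr, hc⟩, hZ2⟩ := hE
  obtain ⟨A, ⟨hAcomm, hAexp⟩, hAcard⟩ := hplus
  have : Fintype E := Fintype.ofFinite E
  have : Fintype A := Fintype.ofFinite A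
  have hCA : Subgroup.centralizer (A : Set E) = A :=
    centralizer_eq_self m hc hZ2 hcard A hAcomm hAcard
  -- squares are central
  have hsq : ∀ x : E, x ^ 2 ∈ Subgroup.center E := by
    intro x
    rw [← hfr]
    exact pow_mem_frattini hEp x
  let sqZ : E → Subgroup.center E := fun x => ⟨x ^ 2, hsq x⟩
  -- the key identity
  have hkey : ∀ (x : E) (a : A), sqZ (x * (a : E)) = sqZ x * commHomC hc x⁻¹ (a : E) := by
    intro x a
    apply Subtype.ext
    show (x * (a : E)) ^ 2 = x ^ 2 * (x⁻¹ * (a : E) * x⁻¹⁻¹ * (a : E)⁻¹)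
    have ha : (a : E) ^ 2 = 1 := hAexp a a.2
    have hainv : (a : E)⁻¹ = (a : E) := by
      apply inv_eq_of_mul_eq_one_left
      rw [← sq]; exact ha
    rw [hainv, sq, sq]
    group
  -- the sign sum
  set S : ℤ := ∑ x : E, eps (sqZ x) with hS
  have h1 : (Fintype.card A : ℤ) * S = ∑ a : A, ∑ x : E, eps (sqZ (x * (a : E))) := by
    rw [hS, Finset.mul_sum]
    have : ∀ a : A, ∑ x : E, eps (sqZ (x * (a : E))) = ∑ x : E, eps (sqZ x) := by
      intro a
      exact Fintype.sum_equiv (Equiv.mulRight (a : E)) _ _ (fun x => rfl)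
    rw [Finset.sum_congr rfl (fun a _ => this a), Finset.sum_const, Finset.card_univ,
      nsmul_eq_mul, Finset.mul_sum]
  have h2 : ∑ a : A, ∑ x : E, eps (sqZ (x * (a : E))) =
      ∑ x : E, ∑ a : A, eps (sqZ (x * (a : E))) := Finset.sum_comm
  have h3 : ∀ x : E, ∑ a : A, eps (sqZ (x * (a : E))) =
      if x ∈ A then (Fintype.card A : ℤ) else 0 := by
    intro x
    have e : ∀ a : A, eps (sqZ (x * (a : E))) = eps (sqZ x) * eps (commHomC hc x⁻¹ (a : E)) := by
      intro a
      rw [hkey, eps_mul hZ2]
    rw [Finset.sum_congr rfl (fun a _ => e a), ← Finset.mul_sum]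
    by_cases hx : x ∈ A
    · rw [if_pos hx]
      have hx' : x⁻¹ ∈ Subgroup.centralizer (A : Set E) := by
        rw [hCA]; exact A.inv_mem hx
      rw [sum_eps_commHomC_of_mem hc A hx']
      have : sqZ x = 1 := by
        apply Subtype.ext
        exact hAexp x hx
      rw [this, eps_one, one_mul]
    · rw [if_neg hx]
      have hx' : x⁻¹ ∉ Subgroup.centralizer (A : Set E) := by
        rw [hCA]
        intro h
        apply hx
        have := A.inv_mem h
        rwa [inv_inv] at this
      rw [sum_eps_commHomC_of_not_mem hc hZ2 A hx', mul_zero]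
  have h4 : (Fintype.card A : ℤ) * S = (Fintype.card A : ℤ) * (Fintype.card A : ℤ) := by
    rw [h1, h2, Finset.sum_congr rfl (fun x _ => h3 x), Finset.sum_ite, Finset.sum_const_zero,
      add_zero, Finset.sum_const, nsmul_eq_mul]
    congr 1
    have : (Finset.univ.filter (fun x : E => x ∈ A)).card = Fintype.card A := by
      rw [← Fintype.card_subtype]
    rw [this]
  have hApos : (Fintype.card A : ℤ) ≠ 0 := by
    have : 0 < Fintype.card A := Fintype.card_pos
    omega
  have hSval : S = (Fintype.card A : ℤ) := mul_left_cancel₀ hApos h4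
  -- elements of order four
  have hfour : ∀ x : E, orderOf x = 4 ↔ sqZ x ≠ 1 := by
    intro x
    have hx4 : x ^ 2 ^ (1 + 1) = 1 := by
      have := center_mul_self hZ2 (sqZ x)
      have h := congrArg Subtype.val this
      have e : x ^ 2 ^ (1 + 1) = x ^ 2 * x ^ 2 := by
        rw [← pow_add]
        norm_num
      rw [e]
      exact h
    constructor
    · intro ho hs
      have h : x ^ 2 = 1 := congrArg Subtype.val hs
      have := orderOf_dvd_of_pow_eq_one h
      rw [ho] at this
      omega
    · intro hs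
      have hne : ¬ x ^ 2 ^ 1 = 1 := by
        intro h
        apply hs
        apply Subtype.ext
        show x ^ 2 = 1
        rwa [pow_one] at h
      have := orderOf_eq_prime_pow hne hx4
      rw [this]
      norm_num
  have hN1 : Nat.card {x : E // orderOf x = 4} =
      (Finset.univ.filter (fun x : E => sqZ x ≠ 1)).card := by
    rw [Nat.card_eq_fintype_card, Fintype.card_subtype]
    congr 1
    ext x
    simp only [Finset.mem_filter, Finset.mem_univ, true_and]
    exact hfour x
  set N1 := (Finset.univ.filter (fun x : E => sqZ x ≠ 1)).card with hN1def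
  set N0 := (Finset.univ.filter (fun x : E => sqZ x = 1)).card with hN0def
  have hsum : N0 + N1 = Fintype.card E := by
    rw [hN0def, hN1def]
    have := Finset.card_filter_add_card_filter_not (s := (Finset.univ : Finset E))
      (fun x : E => sqZ x = 1)
    simpa using this
  have hSdiff : S = (N0 : ℤ) - (N1 : ℤ) := by
    rw [hS]
    have e : ∀ x : E, eps (sqZ x) = if sqZ x = 1 then (1 : ℤ) else -1 := by
      intro x
      by_cases h : sqZ x = 1
      · rw [if_pos h, h, eps_one]
      · rw [if_neg h, eps_of_ne h]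
    rw [Finset.sum_congr rfl (fun x _ => e x), Finset.sum_ite, Finset.sum_const, Finset.sum_const]
    simp only [nsmul_eq_mul, mul_one, mul_neg]
    rw [hN0def, hN1def]
    ring
  have hEc : Fintype.card E = 2 ^ (2 * m + 1) := by rw [← hcard, Nat.card_eq_fintype_card]
  have hAc : Fintype.card A = 2 ^ (m + 1) := by rw [← hAcard, Nat.card_eq_fintype_card]
  rw [hN1]
  rw [hSval, hAc] at hSdiff
  rw [hEc] at hsum
  have e1 : (2 : ℕ) ^ (2 * m + 1) = 2 * 2 ^ (2 * m) := by ring
  have e2 : (2 : ℕ) ^ (m + 1) = 2 * 2 ^ m := by ring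
  rw [e1] at hsum
  rw [e2] at hSdiff
  generalize (2 : ℕ) ^ (2 * m) = b at *
  generalize (2 : ℕ) ^ m = a at *
  push_cast at hSdiff
  omega

end Cfsg.Agent.S2880
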