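import Cfsg.Statements.S2881
import Cfsg.Agent.S2880

set_option autoImplicit false
open Cfsg

namespace Cfsg.Agent.S2881

theorem two_ne_zero_zmod_five : (2 : ZMod 5) ≠ 0 := by decide

theorem four_dvd_of_pow_two_eq_one (m : ℕ) (h : (2 : ZMod 5) ^ m = 1) : 4 ∣ m := by
  have h4 : (2 : ZMod 5) ^ 4 = 1 := by decide
  have hm : m = 4 * (m / 4) + m % 4 := (Nat.div_add_mod m 4).symm
  rw [hm, pow_add, pow_mul, h4, one_pow, one_mul] at h
  have hlt : m % 4 < 4 := Nat.mod_lt _ (by norm_num)
  have : m % 4 = 0 := by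
    interval_cases (m % 4)
    · rfl
    · exact absurd h (by decide)
    · exact absurd h (by decide)
    · exact absurd h (by decide)
  exact Nat.dvd_of_mod_eq_zero this

/-- Let E be an extraspecial 2-group of order 2^(2m+1) of plus type (containing an elementary abelian subgroup of order 2^(m+1)), and let ω be an automorphism of E of order 5 whose fixed points are exactly the centre of E. Then m is divisible by 4. -/
theorem result {E : Type*} [Group E] [Finite E] (m : ℕ) (hm : 1 ≤ m) (hE : Cfsg.IsExtraspecial 2 E) (hcard : Nat.card E = 2 ^ (2 * m + 1)) (hplus : ∃ A : Subgroup E, Cfsg.IsElementaryAbelian 2 A ∧ Nat.card A = 2 ^ (m + 1)) (ω : E ≃* E) (hω : orderOf ω = 5) (hfix : ∀ x : E, ω x = x ↔ x ∈ Subgroup.center E) : 4 ∣ m := by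
  classical
  have : Fact (Nat.Prime 5) := ⟨by norm_num⟩
  have hcount := Cfsg.Agent.S2880.result m hm hE hcard hplus
  have hZ2 : Nat.card (Subgroup.center E) = 2 := hE.2
  have : Fintype E := Fintype.ofFinite E
  -- the permutation induced on the elements of order four
  let σ : Equiv.Perm {x : E // orderOf x = 4} :=
    ω.toEquiv.subtypeEquiv (fun x => by
      show orderOf x = 4 ↔ orderOf (ω x) = 4
      rw [MulEquiv.orderOf_eq])
  have hσpow : ∀ (k : ℕ) (x : {x : E // orderOf x = 4}), ((σ ^ k) x : E) = (ω ^ k) (x : E) := by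
    intro k
    induction k with
    | zero => intro x; simp
    | succ n ih =>
      intro x
      rw [pow_succ', Equiv.Perm.mul_apply, pow_succ', MulAut.mul_apply, ← ih]
      rfl
  have hσ5 : σ ^ 5 ^ 1 = 1 := by
    ext x
    rw [pow_one, hσpow, ← hω, pow_orderOf_eq_one]
    rfl
  have hsupp : σ.supportᶜ = ∅ := by
    ext x
    simp only [Finset.mem_compl, Equiv.Perm.mem_support, not_not, Finset.notMem_empty, iff_false]
    intro hx
    have h1 : ω (x : E) = (x : E) := congrArg Subtype.val hx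
    have h2 : (x : E) ∈ Subgroup.center E := (hfix _).mp h1
    have h3 : orderOf (⟨(x : E), h2⟩ : Subgroup.center E) ∣ 2 := by
      rw [← hZ2]
      have : Finite (Subgroup.center E) := inferInstance
      exact orderOf_dvd_natCard _
    rw [Subgroup.orderOf_mk, x.2] at h3
    omega
  have hmod := Equiv.Perm.card_compl_support_modEq (p := 5) (n := 1) hσ5
  rw [hsupp, Finset.card_empty] at hmod
  have hdvd : 5 ∣ Fintype.card {x : E // orderOf x = 4} :=
    (Nat.modEq_zero_iff_dvd.mp hmod.symm)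
  rw [← Nat.card_eq_fintype_card, hcount] at hdvd
  -- arithmetic modulo 5
  have hle : 2 ^ m ≤ 2 ^ (2 * m) := Nat.pow_le_pow_right (by norm_num) (by omega)
  have h0 : ((2 ^ (2 * m) - 2 ^ m : ℕ) : ZMod 5) = 0 := (ZMod.natCast_eq_zero_iff _ 5).mpr hdvd
  rw [Nat.cast_sub hle, sub_eq_zero] at h0
  push_cast at h0
  have h20 : (2 : ZMod 5) ≠ 0 := two_ne_zero_zmod_five
  have h2ne : (2 : ZMod 5) ^ m ≠ 0 := pow_ne_zero _ h20
  have h1 : (2 : ZMod 5) ^ m = 1 := by
    have e : (2 : ZMod 5) ^ (2 * m) = (2 : ZMod 5) ^ m * (2 : ZMod 5) ^ m := by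
      rw [← pow_add]; congr 1; ring
    rw [e] at h0
    have : (2 : ZMod 5) ^ m * (2 : ZMod 5) ^ m = (2 : ZMod 5) ^ m * 1 := by rw [h0, mul_one]
    exact mul_left_cancel₀ h2ne this
  exact four_dvd_of_pow_two_eq_one m h1

end Cfsg.Agent.S2881
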