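import Cfsg.Statements.S2896
import Cfsg.Agent.Lib.Helper31.CharPLocals
import Cfsg.Agent.Lib.Helper48.SPE

set_option autoImplicit false
open Cfsg

namespace Cfsg.Agent.S2896

open Cfsg.Agent.Lib.Helper31 Cfsg.Agent.Lib.Helper48

section aux

variable {G : Type*} [Group G]

theorem centralizer_singleton_eq_zpowers (z : G) :
    Subgroup.centralizer ({z} : Set G) = Subgroup.centralizer (Subgroup.zpowers z : Set G) := by
  rw [Subgroup.zpowers_eq_closure, Subgroup.centralizer_closure]

/-- Core of (i): if `z` lies in the `p`-subgroup `X` and `C_G(z)` has characteristic `p`, so has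
`N_G(X)`. -/
theorem charP_normalizer_of_mem {p : ℕ} [Fact p.Prime] [Finite G] {X : Subgroup G}
    (hX : IsPGroup p X) {z : G} (hz : z ∈ X)
    (h : CharP p (Subgroup.centralizer ({z} : Set G))) :
    CharP p (Subgroup.normalizer (X : Set G)) := by
  rw [centralizer_singleton_eq_zpowers] at h
  have hle : Subgroup.zpowers z ≤ X := Subgroup.zpowers_le.mpr hz
  have hzp : IsPGroup p (Subgroup.zpowers z) := hX.to_le hle
  have h1 := charP_normalizer_of_charP_centralizer hzp h
  exact charP_normalizer_of_le_of_charP hX hle h1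

/-- Characteristic `p` is invariant under isomorphism. -/
theorem charP_of_equiv {p : ℕ} {H H' : Type*} [Group H] [Group H'] (e : H ≃* H')
    (h : Subgroup.centralizer (pCore p H : Set H) ≤ pCore p H) :
    Subgroup.centralizer (pCore p H' : Set H') ≤ pCore p H' := by
  have hmap : ∀ {K K' : Type _} [Group K] [Group K'] (f : K ≃* K'),
      (pCore p K).map f.toMonoidHom ≤ pCore p K' := by
    intro K K' _ _ f
    rw [Subgroup.map_le_iff_le_comap]
    apply sSup_le
    rintro N ⟨hN, hNp⟩
    rw [← Subgroup.map_le_iff_le_comap]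
    apply le_sSup
    exact ⟨hN.map f.toMonoidHom f.surjective, hNp.map f.toMonoidHom⟩
  intro x' hx'
  have hx : e.symm x' ∈ Subgroup.centralizer (pCore p H : Set H) := by
    rw [Subgroup.mem_centralizer_iff] at hx' ⊢
    intro y hy
    have hy' : e y ∈ pCore p H' := hmap e ⟨y, hy, rfl⟩
    have := hx' _ hy'
    apply e.injective
    simpa using this
  have := hmap e ⟨_, h hx, rfl⟩
  simpa using this

theorem map_conj_centralizer_singleton (g z : G) :
    (Subgroup.centralizer ({z} : Set G)).map (MulAut.conj g).toMonoidHom =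
      Subgroup.centralizer ({g * z * g⁻¹} : Set G) := by
  ext x
  constructor
  · rintro ⟨y, hy, rfl⟩
    have hy : y ∈ Subgroup.centralizer ({z} : Set G) := hy
    rw [Subgroup.mem_centralizer_singleton_iff] at hy ⊢
    simp only [MulEquiv.coe_toMonoidHom, MulAut.conj_apply]
    calc g * y * g⁻¹ * (g * z * g⁻¹) = g * (y * z) * g⁻¹ := by group
      _ = g * (z * y) * g⁻¹ := by rw [hy]
      _ = g * z * g⁻¹ * (g * y * g⁻¹) := by group
  · intro hx
    rw [Subgroup.mem_centralizer_singleton_iff] at hx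
    refine ⟨g⁻¹ * x * g, ?_, ?_⟩
    · show g⁻¹ * x * g ∈ Subgroup.centralizer ({z} : Set G)
      rw [Subgroup.mem_centralizer_singleton_iff]
      calc g⁻¹ * x * g * z = g⁻¹ * (x * (g * z * g⁻¹)) * g := by group
        _ = g⁻¹ * ((g * z * g⁻¹) * x) * g := by rw [hx]
        _ = z * (g⁻¹ * x * g) := by group
    · simp only [MulEquiv.coe_toMonoidHom, MulAut.conj_apply]
      group

/-- `C_G(z)` of characteristic `p` implies the same for `C_G(g z g⁻¹)`. -/
theorem charP_centralizer_conj {p : ℕ} (g z : G)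
    (h : CharP p (Subgroup.centralizer ({z} : Set G))) :
    CharP p (Subgroup.centralizer ({g * z * g⁻¹} : Set G)) := by
  rw [← map_conj_centralizer_singleton]
  exact charP_of_equiv ((MulAut.conj g).subgroupMap (Subgroup.centralizer ({z} : Set G))) h

/-- A nontrivial subgroup `R` of a `p`-group `T` normalized by `T` contains an element of order `p`
central in `T`. -/
theorem exists_central_of_normal {p : ℕ} [Fact p.Prime] [Finite G] {R T : Subgroup G}
    (hT : IsPGroup p T) (hRT : R ≤ T) (hTR : T ≤ Subgroup.normalizer (R : Set G)) (hR : R ≠ ⊥) :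
    ∃ z ∈ R, orderOf z = p ∧ ∀ t ∈ T, t * z = z * t := by
  -- `T` acts on `R` by conjugation; count fixed points
  let N : Subgroup T := R.subgroupOf T
  have hNn : N.Normal := by
    constructor
    intro n hn t
    rw [Subgroup.mem_subgroupOf] at hn ⊢
    have := (Subgroup.mem_normalizer_iff.mp (hTR t.2) (n : G)).mp hn
    simpa using this
  have hfix := (hT.of_equiv ConjAct.toConjAct).exists_fixed_point_of_prime_dvd_card_of_fixed_point N
  have hNbot : N ≠ ⊥ := by
    intro h
    apply hR
    rw [Subgroup.subgroupOf_eq_bot] at h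
    rw [eq_bot_iff]
    have := h.le_bot
    rwa [inf_eq_left.mpr hRT] at this
  have hNp : IsPGroup p N := hT.to_subgroup N
  have hnt : Nontrivial N := (Subgroup.nontrivial_iff_ne_bot N).mpr hNbot
  have dvd : p ∣ Nat.card N := by
    obtain ⟨n, hn0, hn⟩ := hNp.nontrivial_iff_card.mp hnt
    exact hn.symm ▸ dvd_pow_self _ (ne_of_gt hn0)
  have h1 : (1 : N) ∈ MulAction.fixedPoints (ConjAct T) N := by
    intro g
    exact smul_one g
  obtain ⟨b, hb, hb1⟩ := hfix dvd h1
  -- the central part of `R`
  let Z : Subgroup G := R ⊓ Subgroup.centralizer (T : Set G)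
  have hbZ : ((b : T) : G) ∈ Z := by
    refine ⟨Subgroup.mem_subgroupOf.mp b.2, ?_⟩
    show ((b : T) : G) ∈ Subgroup.centralizer (T : Set G)
    rw [Subgroup.mem_centralizer_iff]
    intro t ht
    have := hb (ConjAct.toConjAct (⟨t, ht⟩ : T))
    have h2 : (⟨t, ht⟩ : T) * (b : T) * (⟨t, ht⟩ : T)⁻¹ = b := congrArg Subtype.val this
    have h3 : t * ((b : T) : G) * t⁻¹ = ((b : T) : G) := congrArg Subtype.val h2
    calc t * ((b : T) : G) = (t * ((b : T) : G) * t⁻¹) * t := by group
      _ = ((b : T) : G) * t := by rw [h3]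
  have hZ1 : Z ≠ ⊥ := by
    intro h
    rw [h, Subgroup.mem_bot] at hbZ
    apply hb1
    apply Subtype.ext
    apply Subtype.ext
    simpa using hbZ.symm
  have hZp : IsPGroup p Z := hT.to_le (inf_le_left.trans hRT)
  obtain ⟨z, hzZ, hzo⟩ := exists_orderOf_eq_of_ne_bot hZp hZ1
  refine ⟨z, hzZ.1, hzo, ?_⟩
  intro t ht
  exact (Subgroup.mem_centralizer_iff.mp hzZ.2 t ht)

theorem omegaOne_le {p : ℕ} (H : Subgroup G) : omegaOne p H ≤ H := by
  unfold omegaOne
  rw [Subgroup.closure_le]
  intro x hx
  exact hx.1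

theorem mem_omegaOne_of_mem {p : ℕ} {H : Subgroup G} {x : G} (hx : x ∈ H) (hxp : x ^ p = 1) :
    x ∈ omegaOne p H :=
  Subgroup.subset_closure ⟨hx, hxp⟩

end aux

/-- Let p be a prime dividing the order of the finite group G, S a Sylow p-subgroup of G and X a subgroup of S. (i) If some nontrivial element z of the centre of X has F*(C_G(z)) = O_p(C_G(z)), then F*(N_G(X)) = O_p(N_G(X)). (ii) G has parabolic characteristic p if and only if F*(C_G(z)) = O_p(C_G(z)) for every nontrivial z ∈ Ω₁(Z(S)). (iii) If F*(C_G(z)) = O_p(C_G(z)) for every element z of S of order p, then G has local characteristic p. -/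
theorem result {G : Type*} [Group G] [Finite G] {p : ℕ} [Fact p.Prime] (hdiv : p ∣ Nat.card G) (S : Sylow p G) (X : Subgroup G) (hX : X ≤ (S : Subgroup G)) : (∀ z : G, z ≠ 1 → z ∈ X → (∀ x ∈ X, x * z = z * x) → Cfsg.generalizedFittingSubgroup ↥(Subgroup.centralizer ({z} : Set G)) = Cfsg.pCore p ↥(Subgroup.centralizer ({z} : Set G)) → Cfsg.generalizedFittingSubgroup ↥(Subgroup.normalizer (X : Set G)) = Cfsg.pCore p ↥(Subgroup.normalizer (X : Set G))) ∧ (Cfsg.IsOfParabolicCharacteristic p G ↔ ∀ z : G, z ≠ 1 → z ∈ Cfsg.omegaOne p ((S : Subgroup G) ⊓ Subgroup.centralizer ((S : Subgroup G) : Set G)) → Cfsg.generalizedFittingSubgroup ↥(Subgroup.centralizer ({z} : Set G)) = Cfsg.pCore p ↥(Subgroup.centralizer ({z} : Set G))) ∧ ((∀ z : G, z ∈ (S : Subgroup G) → orderOf z = p → Cfsg.generalizedFittingSubgroup ↥(Subgroup.centralizer ({z} : Set G)) = Cfsg.pCore p ↥(Subgroup.centralizer ({z} : Set G))) → Cfsg.IsOfLocalCharacteristic p G) := by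
  refine ⟨?_, ?_, ?_⟩
  · intro z _ hzX _ h
    have hXp : IsPGroup p X := S.isPGroup'.to_le hX
    exact charP_iff_generalizedFittingSubgroup_eq.mp
      (charP_normalizer_of_mem hXp hzX (charP_iff_generalizedFittingSubgroup_eq.mpr h))
  · constructor
    · intro hpar z hz1 hz
      have hzZ : z ∈ (S : Subgroup G) ⊓ Subgroup.centralizer ((S : Subgroup G) : Set G) :=
        omegaOne_le _ hz
      have hRp : IsPGroup p (Subgroup.zpowers z) :=
        S.isPGroup'.to_le (Subgroup.zpowers_le.mpr hzZ.1)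
      have hR1 : Subgroup.zpowers z ≠ ⊥ := by
        intro h
        exact hz1 (Subgroup.zpowers_eq_bot.mp h)
      have hpara : IsParabolic p (Subgroup.normalizer ((Subgroup.zpowers z : Subgroup G) : Set G)) := by
        refine ⟨S, ?_⟩
        refine le_trans ?_ (Subgroup.centralizer_le_normalizer _)
        rw [← centralizer_singleton_eq_zpowers]
        intro s hs
        rw [Subgroup.mem_centralizer_singleton_iff]
        exact (Subgroup.mem_centralizer_iff.mp hzZ.2 s hs)
      have h1 : CharP p (Subgroup.normalizer ((Subgroup.zpowers z : Subgroup G) : Set G)) :=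
        hpar _ hRp hR1 hpara
      have h2 := charP_centralizer_of_charP_normalizer h1
      rw [← centralizer_singleton_eq_zpowers] at h2
      exact charP_iff_generalizedFittingSubgroup_eq.mp h2
    · intro h R hRp hR1 ⟨T, hT⟩
      show CharP p (Subgroup.normalizer (R : Set G))
      -- `R ≤ T`
      have hRT : R ≤ (T : Subgroup G) := by
        have h1 : IsPGroup p (R ⊔ (T : Subgroup G) : Subgroup G) :=
          hRp.to_sup_of_normal_left' T.isPGroup' hT
        have h2 := T.is_maximal' h1 le_sup_right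
        rw [← h2]
        exact le_sup_left
      obtain ⟨z₀, hz₀R, hz₀o, hz₀c⟩ := exists_central_of_normal T.isPGroup' hRT hT hR1
      -- conjugate `T` to `S`
      obtain ⟨g, -, hg⟩ := exists_conj_le_sylow ⊤ S le_top (T : Subgroup G) le_top T.isPGroup'
      have hgeq : (T : Subgroup G).map (MulAut.conj g).toMonoidHom = (S : Subgroup G) := by
        apply Subgroup.eq_of_le_of_card_ge hg
        rw [card_map_conj, S.card_eq_multiplicity, T.card_eq_multiplicity]
      have hzS : g * z₀ * g⁻¹ ∈ (S : Subgroup G) := hg ⟨z₀, hRT hz₀R, rfl⟩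
      have hzc : g * z₀ * g⁻¹ ∈ Subgroup.centralizer ((S : Subgroup G) : Set G) := by
        rw [Subgroup.mem_centralizer_iff]
        intro s hs
        rw [← hgeq] at hs
        obtain ⟨t, ht, rfl⟩ := hs
        simp only [MulEquiv.coe_toMonoidHom, MulAut.conj_apply]
        have := hz₀c t ht
        calc g * t * g⁻¹ * (g * z₀ * g⁻¹) = g * (t * z₀) * g⁻¹ := by group
          _ = g * (z₀ * t) * g⁻¹ := by rw [this]
          _ = g * z₀ * g⁻¹ * (g * t * g⁻¹) := by group
      have hzp : (g * z₀ * g⁻¹) ^ p = 1 := by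
        rw [conj_pow, ← hz₀o, pow_orderOf_eq_one]
        group
      have hz1 : g * z₀ * g⁻¹ ≠ 1 := by
        intro h1
        have : z₀ = 1 := by
          calc z₀ = g⁻¹ * (g * z₀ * g⁻¹) * g := by group
            _ = 1 := by rw [h1]; group
        exact ne_one_of_orderOf_eq_prime hz₀o this
      have h3 := h _ hz1 (mem_omegaOne_of_mem ⟨hzS, hzc⟩ hzp)
      have h4 := charP_centralizer_conj g⁻¹ _ (charP_iff_generalizedFittingSubgroup_eq.mpr h3)
      have e : g⁻¹ * (g * z₀ * g⁻¹) * g⁻¹⁻¹ = z₀ := by group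
      rw [e] at h4
      exact charP_normalizer_of_mem hRp hz₀R h4
  · intro h
    refine ⟨hdiv, ?_⟩
    intro T hTp hT1
    show CharP p (Subgroup.normalizer (T : Set G))
    obtain ⟨z₀, hz₀T, hz₀o⟩ := exists_orderOf_eq_of_ne_bot hTp hT1
    obtain ⟨g, -, hg⟩ := exists_conj_le_sylow ⊤ S le_top T le_top hTp
    have hzS : g * z₀ * g⁻¹ ∈ (S : Subgroup G) := hg ⟨z₀, hz₀T, rfl⟩
    have hzo : orderOf (g * z₀ * g⁻¹) = p := by
      rw [← hz₀o]
      exact (orderOf_injective (MulAut.conj g).toMonoidHom (MulAut.conj g).injective z₀)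
    have h3 := h _ hzS hzo
    have h4 := charP_centralizer_conj g⁻¹ _ (charP_iff_generalizedFittingSubgroup_eq.mpr h3)
    have e : g⁻¹ * (g * z₀ * g⁻¹) * g⁻¹⁻¹ = z₀ := by group
    rw [e] at h4
    exact charP_normalizer_of_mem hTp hz₀T h4

end Cfsg.Agent.S2896
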