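import Cfsg.Statements.S2897
import Cfsg.Agent.S2896

set_option autoImplicit false
open Cfsg

namespace Cfsg.Agent.S2897

open Cfsg.Agent.Lib.Helper31 Cfsg.Agent.Lib.Helper48

section aux

variable {G : Type*} [Group G]

open scoped Pointwise in
/-- For `N ⊴ G` and a Sylow `p`-subgroup `R` of `G`, `R ∩ N` is a Sylow `p`-subgroup of `N`. -/
theorem exists_sylow_subgroupOf_normal [Finite G] {r : ℕ} [Fact r.Prime] (N : Subgroup G) [N.Normal]
    (R : Sylow r G) : ∃ Q : Sylow r N, (Q : Subgroup N) = (R : Subgroup G).subgroupOf N := by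
  obtain ⟨Q₀⟩ : Nonempty (Sylow r N) := inferInstance
  obtain ⟨R', hR'⟩ := Q₀.exists_comap_subtype_eq
  obtain ⟨g, hg⟩ := MulAction.exists_smul_eq G R' R
  refine ⟨(MulAut.conjNormal g : MulAut N) • Q₀, ?_⟩
  ext x
  rw [Sylow.pointwise_smul_def, Subgroup.mem_pointwise_smul_iff_inv_smul_mem,
    Subgroup.mem_subgroupOf, ← hg, ← hR']
  rw [Subgroup.mem_comap, Sylow.smul_def, Sylow.pointwise_smul_def,
    Subgroup.mem_pointwise_smul_iff_inv_smul_mem]
  simp [MulAut.conjNormal_apply, ← map_inv]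

end aux

/-- Let p be a prime dividing the order of the finite group G, suppose G has parabolic characteristic p, let S be a Sylow p-subgroup of G and G₁ a normal subgroup of G. If Ω₁(Z(S ∩ G₁)) is nontrivial and contained in Ω₁(Z(S)), then G₁ has parabolic characteristic p. -/
theorem result {G : Type*} [Group G] [Finite G] {p : ℕ} [Fact p.Prime] (hdiv : p ∣ Nat.card G) (hG : Cfsg.IsOfParabolicCharacteristic p G) (S : Sylow p G) (G₁ : Subgroup G) [G₁.Normal] (hne : Cfsg.omegaOne p (((S : Subgroup G) ⊓ G₁) ⊓ Subgroup.centralizer (((S : Subgroup G) ⊓ G₁ : Subgroup G) : Set G)) ≠ ⊥) (hle : Cfsg.omegaOne p (((S : Subgroup G) ⊓ G₁) ⊓ Subgroup.centralizer (((S : Subgroup G) ⊓ G₁ : Subgroup G) : Set G)) ≤ Cfsg.omegaOne p ((S : Subgroup G) ⊓ Subgroup.centralizer ((S : Subgroup G) : Set G))) : Cfsg.IsOfParabolicCharacteristic p ↥G₁ := by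
  obtain ⟨Q, hQ⟩ := exists_sylow_subgroupOf_normal G₁ S
  -- `p` divides `|G₁|`
  have hSG1 : (S : Subgroup G) ⊓ G₁ ≠ ⊥ := by
    intro h
    apply hne
    rw [eq_bot_iff]
    refine (Cfsg.Agent.S2896.omegaOne_le _).trans ?_
    rw [h]
    exact inf_le_left
  have hdiv' : p ∣ Nat.card ↥G₁ := by
    obtain ⟨x, hx, hxo⟩ := exists_orderOf_eq_of_ne_bot (S.isPGroup'.to_le inf_le_left) hSG1
    have hx2 : x ∈ G₁ := hx.2
    have h1 : orderOf (⟨x, hx2⟩ : G₁) = orderOf x := (Subgroup.orderOf_coe (⟨x, hx2⟩ : G₁)).symm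
    have h2 := orderOf_dvd_natCard (⟨x, hx2⟩ : G₁)
    rwa [h1, hxo] at h2
  refine (Cfsg.Agent.S2896.result hdiv' Q ⊥ bot_le).2.1.mpr ?_
  intro z' hz'1 hz'
  -- transfer to `G`
  have hmap : (omegaOne p ((Q : Subgroup G₁) ⊓ Subgroup.centralizer ((Q : Subgroup G₁) : Set G₁))).map
      G₁.subtype ≤ omegaOne p (((S : Subgroup G) ⊓ G₁) ⊓
        Subgroup.centralizer (((S : Subgroup G) ⊓ G₁ : Subgroup G) : Set G)) := by
    unfold omegaOne
    rw [Subgroup.map_le_iff_le_comap, Subgroup.closure_le]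
    rintro x ⟨hx, hxp⟩
    apply Subgroup.subset_closure
    have hxQ : x ∈ (Q : Subgroup G₁) := hx.1
    have hxc : x ∈ Subgroup.centralizer ((Q : Subgroup G₁) : Set G₁) := hx.2
    rw [hQ, Subgroup.mem_subgroupOf] at hxQ
    refine ⟨⟨⟨hxQ, x.2⟩, ?_⟩, ?_⟩
    · show (x : G) ∈ Subgroup.centralizer (((S : Subgroup G) ⊓ G₁ : Subgroup G) : Set G)
      rw [Subgroup.mem_centralizer_iff]
      intro s hs
      have hsQ : (⟨s, hs.2⟩ : G₁) ∈ (Q : Subgroup G₁) := by
        rw [hQ, Subgroup.mem_subgroupOf]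
        exact hs.1
      have := Subgroup.mem_centralizer_iff.mp hxc _ hsQ
      exact congrArg Subtype.val this
    · show ((x : G₁) : G) ^ p = 1
      have := congrArg Subtype.val hxp
      simpa using this
  have hz : (z' : G) ∈ omegaOne p ((S : Subgroup G) ⊓ Subgroup.centralizer ((S : Subgroup G) : Set G)) :=
    hle (hmap ⟨z', hz', rfl⟩)
  have hz1 : (z' : G) ≠ 1 := by
    intro h
    apply hz'1
    exact Subtype.ext h
  have h1 := (Cfsg.Agent.S2896.result hdiv S ⊥ bot_le).2.1.mp hG (z' : G) hz1 hz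
  have h2 : CharP p (Subgroup.centralizer ({(z' : G)} : Set G)) :=
    charP_iff_generalizedFittingSubgroup_eq.mpr h1
  -- the normal subgroup `C_G(z) ∩ G₁`
  have h3 : CharP p (Subgroup.centralizer ({(z' : G)} : Set G) ⊓ G₁) := by
    apply charP_of_normal_of_charP inf_le_left _ h2
    intro c hc
    rw [Subgroup.mem_normalizer_iff]
    intro x
    have hn : G₁.Normal := inferInstance
    constructor
    · rintro ⟨hx1, hx2⟩
      exact ⟨Subgroup.mul_mem _ (Subgroup.mul_mem _ hc hx1) (Subgroup.inv_mem _ hc),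
        hn.conj_mem x hx2 c⟩
    · rintro ⟨hx1, hx2⟩
      refine ⟨?_, ?_⟩
      · have := Subgroup.mul_mem _ (Subgroup.mul_mem _ (Subgroup.inv_mem _ hc) hx1) hc
        have e : c⁻¹ * (c * x * c⁻¹) * c = x := by group
        rwa [e] at this
      · have := hn.conj_mem _ hx2 c⁻¹
        have e : c⁻¹ * (c * x * c⁻¹) * c⁻¹⁻¹ = x := by group
        rwa [e] at this
  have hmapC : (Subgroup.centralizer ({z'} : Set G₁)).map G₁.subtype =
      Subgroup.centralizer ({(z' : G)} : Set G) ⊓ G₁ := by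
    ext x
    constructor
    · rintro ⟨y, hy, rfl⟩
      have hy : y ∈ Subgroup.centralizer ({z'} : Set G₁) := hy
      rw [Subgroup.mem_centralizer_singleton_iff] at hy
      refine ⟨?_, y.2⟩
      show (y : G) ∈ Subgroup.centralizer ({(z' : G)} : Set G)
      rw [Subgroup.mem_centralizer_singleton_iff]
      exact congrArg Subtype.val hy
    · rintro ⟨hx1, hx2⟩
      have hx1 : x ∈ Subgroup.centralizer ({(z' : G)} : Set G) := hx1
      rw [Subgroup.mem_centralizer_singleton_iff] at hx1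
      refine ⟨⟨x, hx2⟩, ?_, rfl⟩
      show (⟨x, hx2⟩ : G₁) ∈ Subgroup.centralizer ({z'} : Set G₁)
      rw [Subgroup.mem_centralizer_singleton_iff]
      exact Subtype.ext hx1
  rw [← hmapC] at h3
  have e := Subgroup.equivMapOfInjective (Subgroup.centralizer ({z'} : Set G₁)) G₁.subtype
    G₁.subtype_injective
  exact generalizedFittingSubgroup_eq_pCore_iff.mpr (Cfsg.Agent.S2896.charP_of_equiv e.symm h3)

end Cfsg.Agent.S2897
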