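import Cfsg.Statements.S2898
import Cfsg.Agent.Lib.Helper31.CharPLocals
import Cfsg.Agent.Lib.Helper48.SPE
import Cfsg.Agent.Lib.Helper97.Cores

set_option autoImplicit false
open Cfsg

namespace Cfsg.Agent.S2898

open Cfsg.Agent.Lib.Helper31 Cfsg.Agent.Lib.Helper48 Cfsg.Agent.Lib.Helper49

section aux

variable {G : Type*} [Group G]

/-- A subgroup of order prime to `p` normalized by a group `L` of characteristic `p` and contained
in it is trivial. -/
theorem eq_bot_of_charP_of_coprime {p : ℕ} [Fact p.Prime] [Finite G] {L W : Subgroup G}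
    (hL : CharP p L) (hWL : W ≤ L) (hLW : L ≤ Subgroup.normalizer (W : Set G))
    (hW : (Nat.card W).Coprime p) : W = ⊥ := by
  rw [eq_bot_iff]
  intro w hw
  rw [Subgroup.mem_bot]
  have hwo : (orderOf w).Coprime p := by
    have h1 : orderOf (⟨w, hw⟩ : W) = orderOf w := (Subgroup.orderOf_coe (⟨w, hw⟩ : W)).symm
    have h2 := orderOf_dvd_natCard (⟨w, hw⟩ : W)
    rw [h1] at h2
    exact Nat.Coprime.coprime_dvd_left h2 hW
  apply charP_iff_forall.mp hL w (hWL hw) _ hwo
  rw [Subgroup.mem_centralizer_iff]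
  intro r hr
  have hrL : r ∈ L := pCoreIn_le p L hr
  -- the commutator `w r w⁻¹ r⁻¹` lies in `W ∩ O_p(L) = 1`
  have h1 : w * r * w⁻¹ * r⁻¹ ∈ W := by
    have : r * w⁻¹ * r⁻¹ ∈ W :=
      (Subgroup.mem_normalizer_iff.mp (hLW hrL) _).mp (W.inv_mem hw)
    have e : w * r * w⁻¹ * r⁻¹ = w * (r * w⁻¹ * r⁻¹) := by group
    rw [e]
    exact W.mul_mem hw this
  have h2 : w * r * w⁻¹ * r⁻¹ ∈ pCoreIn p L := by
    have hn := le_normalizer_pCoreIn p L (hWL hw)
    exact (pCoreIn p L).mul_mem ((Subgroup.mem_normalizer_iff.mp hn r).mp hr)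
      ((pCoreIn p L).inv_mem hr)
  have hdisj : W ⊓ pCoreIn p L = ⊥ := by
    have hcop : (Nat.card W).Coprime (Nat.card (pCoreIn p L)) := by
      obtain ⟨n, hn⟩ := (isPGroup_pCoreIn p L).exists_card_eq
      rw [hn]
      exact Nat.Coprime.pow_right n hW
    exact (Subgroup.disjoint_of_coprime_natCard hcop).eq_bot
  have h3 : w * r * w⁻¹ * r⁻¹ ∈ W ⊓ pCoreIn p L := ⟨h1, h2⟩
  rw [hdisj, Subgroup.mem_bot] at h3
  calc r * w = (w * r * w⁻¹ * r⁻¹)⁻¹ * (w * r) := by group
    _ = w * r := by rw [h3]; group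

/-- An involution `z` normalizing a finite subgroup `W` with `C_W(z) = 1` inverts `W`. -/
theorem inverts_of_fixedPointFree [Finite G] {W : Subgroup G} {z : G} (hz2 : z * z = 1)
    (hzW : ∀ w ∈ W, z * w * z⁻¹ ∈ W) (hfix : ∀ w ∈ W, w * z = z * w → w = 1) :
    ∀ u ∈ W, z * u * z⁻¹ = u⁻¹ := by
  have hzinv : z⁻¹ = z := inv_eq_of_mul_eq_one_left hz2
  let f : W → W := fun w => ⟨(w : G)⁻¹ * (z * (w : G) * z⁻¹), W.mul_mem (W.inv_mem w.2) (hzW _ w.2)⟩
  have hinj : Function.Injective f := by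
    intro v w hvw
    have h1 : (v : G)⁻¹ * (z * (v : G) * z⁻¹) = (w : G)⁻¹ * (z * (w : G) * z⁻¹) :=
      congrArg Subtype.val hvw
    have h2 : ((w : G) * (v : G)⁻¹) * z = z * ((w : G) * (v : G)⁻¹) := by
      calc ((w : G) * (v : G)⁻¹) * z = (w : G) * ((v : G)⁻¹ * (z * (v : G) * z⁻¹)) * z * (v : G)⁻¹ := by
            group
        _ = (w : G) * ((w : G)⁻¹ * (z * (w : G) * z⁻¹)) * z * (v : G)⁻¹ := by rw [h1]
        _ = z * ((w : G) * (v : G)⁻¹) := by group
    have h3 := hfix _ (W.mul_mem w.2 (W.inv_mem v.2)) h2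
    apply Subtype.ext
    have : (w : G) = (v : G) := by
      calc (w : G) = ((w : G) * (v : G)⁻¹) * (v : G) := by group
        _ = (v : G) := by rw [h3, one_mul]
    exact this.symm
  have hsurj : Function.Surjective f := Finite.surjective_of_injective hinj
  intro u hu
  obtain ⟨w, hw⟩ := hsurj ⟨u, hu⟩
  have hu' : u = (w : G)⁻¹ * (z * (w : G) * z⁻¹) := (congrArg Subtype.val hw).symm
  rw [hu', hzinv]
  have e1 : z * ((w : G)⁻¹ * (z * (w : G) * z)) * z = z * (w : G)⁻¹ * z * (w : G) * (z * z) := by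
    group
  have e2 : ((w : G)⁻¹ * (z * (w : G) * z))⁻¹ = z⁻¹ * (w : G)⁻¹ * z⁻¹ * (w : G) := by group
  rw [e1, e2, hz2, hzinv, mul_one]

end aux

/-- Let G be a finite group of even order with parabolic characteristic 2. If the centre of G ⧸ O(G) is trivial, then O(G) = 1. -/
theorem result {G : Type*} [Group G] [Finite G] (h2 : 2 ∣ Nat.card G) (hG : Cfsg.IsOfParabolicCharacteristic 2 G) [hN : (Cfsg.oddCore G).Normal] (hZ : Subgroup.center (G ⧸ Cfsg.oddCore G) = ⊥) : Cfsg.oddCore G = ⊥ := by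
  have : Fact (Nat.Prime 2) := ⟨Nat.prime_two⟩
  set W : Subgroup G := oddCore G with hWdef
  have hWodd : Odd (Nat.card W) := Cfsg.Agent.Lib.Helper97.odd_card_oddCore
  have hWcop : (Nat.card W).Coprime 2 := hWodd.coprime_two_right
  have hWnorm : Subgroup.normalizer (W : Set G) = ⊤ := Subgroup.normalizer_eq_top_iff.mpr hN
  obtain ⟨S⟩ : Nonempty (Sylow 2 G) := inferInstance
  set C : Subgroup G := Subgroup.centralizer (W : Set G) with hCdef
  have hCn : C.Normal := Subgroup.normal_centralizer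
  by_cases hT : (S : Subgroup G) ⊓ C = ⊥
  · -- `C_G(W)` has odd order, hence lies in `W`
    exfalso
    have hCodd : Odd (Nat.card C) := by
      rw [← Nat.not_even_iff_odd]
      intro hev
      obtain ⟨x, hxC, hxo⟩ := exists_orderOf_eq_of_dvd_card (p := 2) hev.two_dvd
      obtain ⟨g, -, hg⟩ := exists_conj_le_sylow ⊤ S le_top (Subgroup.zpowers x) le_top
        (isPGroup_zpowers_of_orderOf hxo)
      have h1 : g * x * g⁻¹ ∈ (S : Subgroup G) := hg ⟨x, Subgroup.mem_zpowers x, rfl⟩
      have h2' : g * x * g⁻¹ ∈ C := hCn.conj_mem x hxC g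
      have h3 : g * x * g⁻¹ ∈ (S : Subgroup G) ⊓ C := ⟨h1, h2'⟩
      rw [hT, Subgroup.mem_bot] at h3
      have : x = 1 := by
        calc x = g⁻¹ * (g * x * g⁻¹) * g := by group
          _ = 1 := by rw [h3]; group
      exact ne_one_of_orderOf_eq_prime hxo this
    have hCW : C ≤ W := Cfsg.Agent.Lib.Helper97.le_oddCore_of_normal_of_odd hCn hCodd
    -- a central involution of `S`
    obtain ⟨z, hzS, hzo, hzc⟩ := exists_central_orderOf_eq S.isPGroup' (S.ne_bot_of_dvd_card h2)
    have hz2 : z * z = 1 := by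
      have := pow_orderOf_eq_one z
      rwa [hzo, pow_two] at this
    have hzinv : z⁻¹ = z := inv_eq_of_mul_eq_one_left hz2
    have hz1 : z ≠ 1 := ne_one_of_orderOf_eq_prime hzo
    -- `N_G(⟨z⟩)` is a parabolic `2`-local, hence has characteristic `2`
    have hRp : IsPGroup 2 (Subgroup.zpowers z) := isPGroup_zpowers_of_orderOf hzo
    have hR1 : Subgroup.zpowers z ≠ ⊥ := fun h => hz1 (Subgroup.zpowers_eq_bot.mp h)
    have hSle : (S : Subgroup G) ≤ Subgroup.centralizer ((Subgroup.zpowers z : Subgroup G) : Set G) := by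
      rw [Subgroup.zpowers_eq_closure, Subgroup.centralizer_closure]
      intro s hs
      rw [Subgroup.mem_centralizer_singleton_iff]
      exact hzc s hs
    have hpara : IsParabolic 2 (Subgroup.normalizer ((Subgroup.zpowers z : Subgroup G) : Set G)) :=
      ⟨S, hSle.trans (Subgroup.centralizer_le_normalizer _)⟩
    have hchar : CharP 2 (Subgroup.normalizer ((Subgroup.zpowers z : Subgroup G) : Set G)) :=
      hG _ hRp hR1 hpara
    -- `C_W(z) = 1`
    have hD : W ⊓ Subgroup.centralizer ((Subgroup.zpowers z : Subgroup G) : Set G) = ⊥ := by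
      apply eq_bot_of_charP_of_coprime hchar
        (inf_le_right.trans (Subgroup.centralizer_le_normalizer _))
      · intro n hn
        apply mem_normalizer_inf
        · rw [hWnorm]; exact Subgroup.mem_top n
        · exact normalizer_le_normalizer_centralizer _ hn
      · exact Nat.Coprime.coprime_dvd_left (Subgroup.card_dvd_of_le inf_le_left) hWcop
    have hfix : ∀ w ∈ W, w * z = z * w → w = 1 := by
      intro w hw hwz
      have : w ∈ W ⊓ Subgroup.centralizer ((Subgroup.zpowers z : Subgroup G) : Set G) := by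
        refine ⟨hw, ?_⟩
        show w ∈ Subgroup.centralizer ((Subgroup.zpowers z : Subgroup G) : Set G)
        rw [Subgroup.zpowers_eq_closure, Subgroup.centralizer_closure,
          Subgroup.mem_centralizer_singleton_iff]
        exact hwz
      rwa [hD, Subgroup.mem_bot] at this
    have hinv : ∀ u ∈ W, z * u * z⁻¹ = u⁻¹ :=
      inverts_of_fixedPointFree hz2 (fun w hw => hN.conj_mem w hw z) hfix
    -- commutators `[z, g]` centralize `W`
    have hcomm : ∀ g : G, z * g * z⁻¹ * g⁻¹ ∈ W := by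
      intro g
      apply hCW
      show z * g * z⁻¹ * g⁻¹ ∈ Subgroup.centralizer (W : Set G)
      rw [Subgroup.mem_centralizer_iff]
      intro w hw
      -- conjugation by `g z⁻¹ g⁻¹` inverts `w`, then conjugation by `z` inverts again
      have h1 : g⁻¹ * w * g ∈ W := by
        have := hN.conj_mem w hw g⁻¹
        simpa using this
      have h3 := hinv _ h1
      have h4 : (g * z⁻¹ * g⁻¹) * w * (g * z⁻¹ * g⁻¹)⁻¹ = w⁻¹ := by
        rw [hzinv]
        have hz' := h3
        rw [hzinv] at hz'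
        calc (g * z * g⁻¹) * w * (g * z * g⁻¹)⁻¹ = g * (z * (g⁻¹ * w * g) * z⁻¹) * g⁻¹ := by group
          _ = g * (z * (g⁻¹ * w * g) * z) * g⁻¹ := by rw [hzinv]
          _ = g * (g⁻¹ * w * g)⁻¹ * g⁻¹ := by rw [hz']
          _ = w⁻¹ := by group
      have h5 := hinv _ (W.inv_mem hw)
      rw [inv_inv] at h5
      have h6 : (z * g * z⁻¹ * g⁻¹) * w * (z * g * z⁻¹ * g⁻¹)⁻¹ = w := by
        calc (z * g * z⁻¹ * g⁻¹) * w * (z * g * z⁻¹ * g⁻¹)⁻¹
            = z * ((g * z⁻¹ * g⁻¹) * w * (g * z⁻¹ * g⁻¹)⁻¹) * z⁻¹ := by group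
          _ = z * w⁻¹ * z⁻¹ := by rw [h4]
          _ = w := h5
      calc w * (z * g * z⁻¹ * g⁻¹)
          = ((z * g * z⁻¹ * g⁻¹) * w * (z * g * z⁻¹ * g⁻¹)⁻¹)⁻¹⁻¹ * (z * g * z⁻¹ * g⁻¹) := by
            rw [h6, inv_inv]
        _ = (z * g * z⁻¹ * g⁻¹) * w := by group
    -- so `z W` is central in `G / W`
    have hcen : (QuotientGroup.mk z : G ⧸ oddCore G) ∈ Subgroup.center (G ⧸ oddCore G) := by
      rw [Subgroup.mem_center_iff]
      intro q
      induction q using QuotientGroup.induction_on with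
      | H g =>
        rw [← QuotientGroup.mk_mul, ← QuotientGroup.mk_mul, QuotientGroup.eq]
        have := hcomm g⁻¹
        rw [hzinv, inv_inv] at this
        have e : (g * z)⁻¹ * (z * g) = z * g⁻¹ * z * g := by
          rw [mul_inv_rev, hzinv]
          group
        rw [e]
        exact this
    rw [hZ, Subgroup.mem_bot, QuotientGroup.eq_one_iff] at hcen
    -- `z ∈ W` has odd order
    have h1 : orderOf (⟨z, hcen⟩ : W) = orderOf z := (Subgroup.orderOf_coe (⟨z, hcen⟩ : W)).symm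
    have h3 := orderOf_dvd_natCard (⟨z, hcen⟩ : W)
    rw [h1, hzo] at h3
    exact (Nat.not_even_iff_odd.mpr hWodd) (even_iff_two_dvd.mpr h3)
  · -- `T = S ∩ C_G(W) ≠ 1`: `N_G(T)` is a parabolic `2`-local containing `W`
    set T : Subgroup G := (S : Subgroup G) ⊓ C with hTdef
    have hTp : IsPGroup 2 T := S.isPGroup'.to_le inf_le_left
    have hST : (S : Subgroup G) ≤ Subgroup.normalizer (T : Set G) := by
      intro s hs
      apply mem_normalizer_inf (Subgroup.le_normalizer hs)
      rw [Subgroup.normalizer_eq_top_iff.mpr hCn]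
      exact Subgroup.mem_top s
    have hchar : CharP 2 (Subgroup.normalizer (T : Set G)) := hG T hTp hT ⟨S, hST⟩
    have hWT : W ≤ Subgroup.normalizer (T : Set G) := by
      refine le_trans ?_ (Subgroup.centralizer_le_normalizer _)
      rw [Subgroup.le_centralizer_iff]
      exact inf_le_right
    apply eq_bot_of_charP_of_coprime hchar hWT _ hWcop
    rw [hWnorm]
    exact le_top

end Cfsg.Agent.S2898
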