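import Cfsg.Statements.S3802
-- import your own Cfsg.Agent.* helpers here

set_option autoImplicit false
open Cfsg

namespace Cfsg.Agent.S3802

universe u

/-- minimal normal subgroup -/
def IsMinNormal {G : Type*} [Group G] (L : Subgroup G) : Prop :=
  L.Normal ∧ L ≠ ⊥ ∧ ∀ K : Subgroup G, K.Normal → K ≤ L → K = ⊥ ∨ K = L

theorem exists_minNormal_le {G : Type*} [Group G] [Finite G] (A : Subgroup G) (hA : A.Normal)
    (hA1 : A ≠ ⊥) : ∃ L : Subgroup G, L ≤ A ∧ IsMinNormal L := by
  have hwf : WellFounded ((· < ·) : Subgroup G → Subgroup G → Prop) := wellFounded_lt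
  let S : Set (Subgroup G) := {K | K.Normal ∧ K ≠ ⊥ ∧ K ≤ A}
  have hne : S.Nonempty := ⟨A, hA, hA1, le_rfl⟩
  obtain ⟨L, hL, hmin⟩ := hwf.has_min S hne
  refine ⟨L, hL.2.2, hL.1, hL.2.1, fun K hK hKL => ?_⟩
  by_cases hK1 : K = ⊥
  · left; exact hK1
  · right
    have hKS : K ∈ S := ⟨hK, hK1, hKL.trans hL.2.2⟩
    have hnlt := hmin K hKS
    exact (eq_or_lt_of_le hKL).resolve_right hnlt

theorem IsMinNormal.map_equiv {H H' : Type*} [Group H] [Group H'] (e : H ≃* H')
    {L : Subgroup H} (hL : IsMinNormal L) : IsMinNormal (L.map e.toMonoidHom) := by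
  obtain ⟨hn, h1, hmin⟩ := hL
  refine ⟨hn.map _ e.surjective, ?_, ?_⟩
  · intro h
    apply h1
    exact (Subgroup.map_eq_bot_iff_of_injective _ e.injective).1 h
  · intro K hK hKL
    have hK' : (K.comap e.toMonoidHom).Normal := hK.comap _
    have hle : K.comap e.toMonoidHom ≤ L := by
      intro x hx
      obtain ⟨y, hy, hyx⟩ := hKL hx
      have : y = x := e.injective hyx
      exact this ▸ hy
    have hsurj : Function.Surjective e.toMonoidHom := e.surjective
    rcases hmin _ hK' hle with h | h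
    · left
      rw [← Subgroup.map_comap_eq_self_of_surjective hsurj K, h, Subgroup.map_bot]
    · right
      rw [← Subgroup.map_comap_eq_self_of_surjective hsurj K, h]

/-- Wielandt: a minimal normal subgroup normalizes every subnormal subgroup. -/
theorem wielandt_aux : ∀ (n : ℕ) (G : Type u) [Group G] [Finite G], Nat.card G = n →
    ∀ (N L : Subgroup G), N.IsSubnormal → IsMinNormal L →
      L ≤ Subgroup.normalizer (N : Set G) := by
  intro n
  induction n using Nat.strong_induction_on with
  | _ n ih =>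
  intro G _ _ hcard N L hN hL
  rcases hN.lt_normal with rfl | ⟨H, hHn, hNH, hHlt⟩
  · intro l _
    apply Subgroup.mem_normalizer_fintype
    intro x _
    trivial
  obtain ⟨hLn, hL1, hLmin⟩ := hL
  by_cases hLH : L ⊓ H = ⊥
  · -- `L` centralizes `H`
    intro l hl
    apply Subgroup.mem_normalizer_fintype
    intro x hx
    have hxH : x ∈ H := hNH hx
    have h1 : l * x * l⁻¹ * x⁻¹ ∈ L := by
      have h0 : x * l⁻¹ * x⁻¹ ∈ L := hLn.conj_mem _ (L.inv_mem hl) x
      have e : l * x * l⁻¹ * x⁻¹ = l * (x * l⁻¹ * x⁻¹) := by group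
      rw [e]; exact L.mul_mem hl h0
    have h2 : l * x * l⁻¹ * x⁻¹ ∈ H := H.mul_mem (hHn.conj_mem _ hxH l) (H.inv_mem hxH)
    have h3 : l * x * l⁻¹ * x⁻¹ = 1 := by
      have h0 : l * x * l⁻¹ * x⁻¹ ∈ L ⊓ H := ⟨h1, h2⟩
      rwa [hLH, Subgroup.mem_bot] at h0
    have h4 : l * x * l⁻¹ = x := by
      calc l * x * l⁻¹ = (l * x * l⁻¹ * x⁻¹) * x := by group
        _ = x := by rw [h3, one_mul]
    rw [h4]; exact hx
  · -- `L ≤ H`
    have hLleH : L ≤ H := by
      have hn : (L ⊓ H).Normal := Subgroup.normal_inf_normal L H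
      rcases hLmin (L ⊓ H) hn inf_le_left with h | h
      · exact absurd h hLH
      · exact h ▸ inf_le_right
    have hcardH : Nat.card H < n := by
      rw [← hcard]
      by_contra hge
      push Not at hge
      exact hHlt.ne (Subgroup.eq_top_of_le_card H hge)
    have hL'n : (L.subgroupOf H).Normal := hLn.subgroupOf H
    have hL'1 : L.subgroupOf H ≠ ⊥ := by
      intro h
      rw [Subgroup.subgroupOf_eq_bot, disjoint_iff, inf_eq_left.2 hLleH] at h
      exact hL1 h
    obtain ⟨L₁, hL₁le, hL₁⟩ := exists_minNormal_le (L.subgroupOf H) hL'n hL'1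
    have key : ∀ g : G,
        (L₁.map (MulAut.conjNormal g : MulAut H).toMonoidHom).map H.subtype ≤
          Subgroup.normalizer (N : Set G) := by
      intro g
      have hmin := hL₁.map_equiv (MulAut.conjNormal g : MulAut H)
      have hsub := ih (Nat.card H) hcardH H rfl (N.subgroupOf H) _ hN.subgroupOf hmin
      rintro y ⟨y', hy', rfl⟩
      have hy'' := hsub hy'
      apply Subgroup.mem_normalizer_fintype
      intro x hx
      have hx' : (⟨x, hNH hx⟩ : H) ∈ N.subgroupOf H := hx
      have h5 := (Subgroup.mem_normalizer_iff.1 hy'' ⟨x, hNH hx⟩).1 hx'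
      exact h5
    let s : Set G := ((L₁.map H.subtype : Subgroup G) : Set G)
    have hs_le : Subgroup.normalClosure s ≤ L := Subgroup.normalClosure_le_normal (by
      rintro y ⟨y', hy', rfl⟩
      exact hL₁le hy')
    have hs_ne : Subgroup.normalClosure s ≠ ⊥ := by
      intro h
      have h6 : L₁.map H.subtype ≤ ⊥ := h ▸ Subgroup.le_normalClosure
      apply hL₁.2.1
      rw [le_bot_iff] at h6
      exact (Subgroup.map_eq_bot_iff_of_injective _ H.subtype_injective).1 h6
    have hs_eq : Subgroup.normalClosure s = L :=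
      (hLmin _ inferInstance hs_le).resolve_left hs_ne
    rw [← hs_eq]
    apply (Subgroup.closure_le _).2
    intro y hy
    rw [Group.mem_conjugatesOfSet_iff] at hy
    obtain ⟨a, ha, hconj⟩ := hy
    obtain ⟨g, rfl⟩ := isConj_iff.1 hconj
    obtain ⟨a', ha', rfl⟩ := ha
    apply key g
    exact ⟨MulAut.conjNormal g a', ⟨a', ha', rfl⟩, by simp⟩

theorem main_aux : ∀ (n : ℕ) (G : Type u) [Group G] [Finite G], Nat.card G = n →
    ∀ (M N : Subgroup G), IsCoatom M → N.IsSubnormal → N ≤ M →
      N ≤ Subgroup.normalCore M := by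
  intro n
  induction n using Nat.strong_induction_on with
  | _ n ih =>
  intro G _ _ hcard M N hM hN hNM
  have htop : (⊤ : Subgroup G) ≠ ⊥ := by
    intro h
    apply hM.1
    rw [h]
    exact le_bot_iff.1 (h ▸ le_top)
  obtain ⟨L, _, hL⟩ := exists_minNormal_le (⊤ : Subgroup G) inferInstance htop
  obtain ⟨hLn, hL1, hLmin⟩ := hL
  by_cases hLM : L ≤ M
  · have hcardQ : Nat.card (G ⧸ L) < n := by
      rw [← hcard, Subgroup.card_eq_card_quotient_mul_card_subgroup L]
      have h1 : 1 < Nat.card L := (Subgroup.one_lt_card_iff_ne_bot L).2 hL1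
      have hpos : 0 < Nat.card (G ⧸ L) := Nat.card_pos
      nlinarith
    have hsurj := QuotientGroup.mk'_surjective L
    have hMbar : IsCoatom (M.map (QuotientGroup.mk' L)) := by
      constructor
      · intro h
        have h0 := congrArg (Subgroup.comap (QuotientGroup.mk' L)) h
        rw [Subgroup.comap_map_eq, QuotientGroup.ker_mk', sup_eq_left.2 hLM,
          Subgroup.comap_top] at h0
        exact hM.1 h0
      · intro K hK
        have h1 : M ≤ K.comap (QuotientGroup.mk' L) := by
          rw [← Subgroup.map_le_iff_le_comap]; exact hK.le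
        have h2 : M ≠ K.comap (QuotientGroup.mk' L) := by
          intro h
          apply hK.ne
          rw [h, Subgroup.map_comap_eq_self_of_surjective hsurj]
        have h3 := hM.2 _ (lt_of_le_of_ne h1 h2)
        rw [← Subgroup.map_comap_eq_self_of_surjective hsurj K, h3,
          Subgroup.map_top_of_surjective _ hsurj]
    have hNbar := hN.map hsurj
    have hle := ih _ hcardQ (G ⧸ L) rfl _ _ hMbar hNbar (Subgroup.map_mono hNM)
    intro x hx g
    have h1 : (QuotientGroup.mk' L) x ∈ (M.map (QuotientGroup.mk' L)).normalCore :=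
      hle (Subgroup.mem_map_of_mem _ hx)
    have h2 := h1 ((QuotientGroup.mk' L) g)
    rw [← map_mul, ← map_inv, ← map_mul] at h2
    have h3 : g * x * g⁻¹ ∈ (M.map (QuotientGroup.mk' L)).comap (QuotientGroup.mk' L) := h2
    rw [Subgroup.comap_map_eq, QuotientGroup.ker_mk', sup_eq_left.2 hLM] at h3
    exact h3
  · have hML : M ⊔ L = ⊤ :=
      hM.2 _ (lt_of_le_of_ne le_sup_left (fun h => hLM (h ▸ le_sup_right)))
    have hLN := wielandt_aux _ G rfl N L hN ⟨hLn, hL1, hLmin⟩
    intro x hx g
    have hg : g ∈ M ⊔ L := hML ▸ Subgroup.mem_top g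
    rw [Subgroup.mem_sup_of_normal_right] at hg
    obtain ⟨m, hm, l, hl, rfl⟩ := hg
    have h1 : l * x * l⁻¹ ∈ N := (Subgroup.mem_normalizer_iff.1 (hLN hl) x).1 hx
    have e : m * l * x * (m * l)⁻¹ = m * (l * x * l⁻¹) * m⁻¹ := by group
    rw [e]
    exact M.mul_mem (M.mul_mem hm (hNM h1)) (M.inv_mem hm)


/-- Let G be a finite group, M a maximal subgroup of G and N a subnormal subgroup of G contained in M. Then N is contained in every conjugate of M, that is, N lies in the core of M in G. -/
theorem result {G : Type*} [Group G] [Finite G] (M N : Subgroup G) (hM : IsCoatom M) (hN : N.IsSubnormal) (hNM : N ≤ M) :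
    N ≤ Subgroup.normalCore M := by
  exact main_aux _ G rfl M N hM hN hNM

end Cfsg.Agent.S3802
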