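import Cfsg.Statements.S2905
import Cfsg.Agent.S3802
import Cfsg.Agent.Lib.Helper34.PResidual
import Cfsg.Agent.Lib.Helper64.MinNormal
import Cfsg.Agent.Lib.Helper72.SylowCount
import Cfsg.Agent.Lib.Helper47.SylowLemmas
import Cfsg.Agent.Lib.Helper49.CharP2
import Cfsg.Agent.Lib.Helper49.SylowMembers

set_option autoImplicit false
open Cfsg

namespace Cfsg.Agent.S2905

open Cfsg.Agent.Lib.Helper33 Cfsg.Agent.Lib.Helper49

section
variable {P : Type*} [Group P] [Finite P] {p : ℕ} [Fact p.Prime]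

/-- In a `p`-minimal group, a proper subgroup containing the Sylow subgroup `S` lies in `M`. -/
theorem le_of_sylow_le (hP : Cfsg.IsPMinimal p P) (S : Sylow p P) (M : Subgroup P) (hM : IsCoatom M)
    (hSM : (S : Subgroup P) ≤ M) {H : Subgroup P} (hSH : (S : Subgroup P) ≤ H) (hH : H ≠ ⊤) : H ≤ M := by
  obtain ⟨-, M', -, huniq⟩ := hP S
  rcases eq_top_or_exists_le_coatom H with h | ⟨M'', hM'', hHM''⟩
  · exact absurd h hH
  · have e1 := huniq M'' ⟨hM'', hSH.trans hHM''⟩
    have e2 := huniq M ⟨hM, hSM⟩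
    rw [e2, ← e1]; exact hHM''

/-- A normal subgroup inside `M` meets `S` inside `O_p(P)` (Frattini argument). -/
theorem inf_sylow_le_pCore_of_normal (hP : Cfsg.IsPMinimal p P) (S : Sylow p P) (M : Subgroup P)
    (hM : IsCoatom M) (hSM : (S : Subgroup P) ≤ M) (N : Subgroup P) [hN : N.Normal] (hNM : N ≤ M) :
    N ⊓ (S : Subgroup P) ≤ Cfsg.pCore p P := by
  obtain ⟨Q, hQ⟩ := Cfsg.Agent.Lib.Helper47.exists_sylow_eq_subgroupOf_of_normal S N
  have hfr := Sylow.normalizer_sup_eq_top Q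
  have hmap : (Q : Subgroup N).map N.subtype = N ⊓ (S : Subgroup P) := by
    rw [hQ, Subgroup.subgroupOf_map_subtype, inf_comm]
  rw [hmap] at hfr
  have hSle : (S : Subgroup P) ≤ Subgroup.normalizer ((N ⊓ (S : Subgroup P) : Subgroup P) : Set P) := by
    intro s hs
    apply mem_normalizer_inf
    · rw [Subgroup.normalizer_eq_top_iff.mpr hN]; trivial
    · exact Subgroup.le_normalizer hs
  have htop : Subgroup.normalizer ((N ⊓ (S : Subgroup P) : Subgroup P) : Set P) = ⊤ := by
    by_contra hne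
    have h1 := le_of_sylow_le hP S M hM hSM hSle hne
    apply hM.1
    rw [eq_top_iff, ← hfr]
    exact sup_le h1 hNM
  have hnorm : (N ⊓ (S : Subgroup P)).Normal := Subgroup.normalizer_eq_top_iff.mp htop
  exact le_pCore_of_normal_of_isPGroup hnorm (S.isPGroup'.to_le inf_le_right)

/-- A normal subgroup either contains `O^p(P)` or lies in the core of `M`. -/
theorem pResidual_le_or_le_core (hP : Cfsg.IsPMinimal p P) (S : Sylow p P) (M : Subgroup P)
    (hM : IsCoatom M) (hSM : (S : Subgroup P) ≤ M) (N : Subgroup P) (hN : N.Normal) :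
    Cfsg.pResidual p P ≤ N ∨ N ≤ M.normalCore := by
  by_cases h : N ⊔ (S : Subgroup P) = ⊤
  · left
    exact Cfsg.Agent.Lib.Helper47.pResidual_le_of_sup_eq_top S.isPGroup' h
  · right
    have h1 := le_of_sylow_le hP S M hM hSM (le_sup_right : (S : Subgroup P) ≤ N ⊔ (S : Subgroup P)) h
    exact (Subgroup.normal_le_normalCore).mpr (le_sup_left.trans h1)

theorem pResidual_not_le (S : Sylow p P) (M : Subgroup P)
    (hM : IsCoatom M) (hSM : (S : Subgroup P) ≤ M) : ¬ Cfsg.pResidual p P ≤ M := by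
  intro h
  apply hM.1
  rw [eq_top_iff, ← Cfsg.Agent.Lib.Helper34.pResidual_sup_eq_top p (S : Subgroup P) S.not_dvd_index]
  exact sup_le h hSM

open scoped Pointwise in
/-- For a prime `t ≠ p` and a normal subgroup `Q` of `P` that is a Sylow `p`-subgroup of `O^p(P)`:
some Sylow `t`-subgroup `T` has `Q ⊔ T` normalized by `S`. -/
theorem exists_sylow_sup_normalized (S : Sylow p P) (Q : Subgroup P) [hQn : Q.Normal]
    (hQidx : ¬ p ∣ Q.relIndex (Cfsg.pResidual p P)) {t : ℕ} [ht : Fact t.Prime] (htp : t ≠ p) :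
    ∃ T : Sylow t P,
      (S : Subgroup P) ≤ Subgroup.normalizer ((Q ⊔ (T : Subgroup P) : Subgroup P) : Set P) := by
  have hp : p.Prime := Fact.out
  have hRn : (Cfsg.pResidual p P).Normal := Cfsg.Agent.Lib.Helper34.pResidual_normal p P
  obtain ⟨T₀⟩ : Nonempty (Sylow t P) := inferInstance
  have hT₀R : (T₀ : Subgroup P) ≤ Cfsg.pResidual p P := by
    intro x hx
    apply Subgroup.subset_closure
    obtain ⟨k, hk⟩ := (IsPGroup.iff_orderOf.mp T₀.isPGroup') ⟨x, hx⟩
    rw [Subgroup.orderOf_mk] at hk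
    show (orderOf x).Coprime p
    rw [hk]
    exact Nat.Coprime.pow_left k ((Nat.coprime_primes ht.out hp).mpr htp)
  have hfr := Sylow.normalizer_sup_eq_top' T₀ hT₀R
  set L : Subgroup P := Q ⊔ Subgroup.normalizer ((T₀ : Subgroup P) : Set P) with hL
  have hLR : L ⊔ Cfsg.pResidual p P = ⊤ := by
    rw [eq_top_iff, ← hfr]
    exact sup_le (le_sup_right.trans le_sup_left) le_sup_right
  have hidx : L.index = L.relIndex (Cfsg.pResidual p P) := by
    have := Cfsg.Agent.Lib.Helper72.relIndex_sup_of_normal_right L (Cfsg.pResidual p P)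
    rw [hLR, Subgroup.relIndex_top_right] at this
    exact this
  have hdvd : L.relIndex (Cfsg.pResidual p P) ∣ Q.relIndex (Cfsg.pResidual p P) :=
    Subgroup.relIndex_dvd_of_le_left _ le_sup_left
  have hnd : ¬ p ∣ L.index := fun h => hQidx ((hidx ▸ h).trans hdvd)
  obtain ⟨g, hg⟩ := Cfsg.Agent.Lib.Helper64.exists_conj_le_of_not_dvd_index S L hnd
  refine ⟨g • T₀, ?_⟩
  have hQtop : Subgroup.normalizer (Q : Set P) = ⊤ := Subgroup.normalizer_eq_top_iff.mpr hQn
  have hcjQ : ∀ n : P, cj n Q = Q := fun n =>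
    cj_eq_self_of_mem_normalizer (by rw [hQtop]; trivial)
  have hgL : MulAut.conj g • L = Q ⊔ Subgroup.normalizer (((g • T₀ : Sylow t P) : Subgroup P) : Set P) := by
    rw [coe_smul_sylow, ← cj_normalizer, ← hcjQ g, ← cj_sup]
    rfl
  rw [hgL] at hg
  refine hg.trans (sup_le (le_sup_left.trans Subgroup.le_normalizer) ?_)
  intro n hn
  rw [mem_normalizer_iff_cj_eq, cj_sup, hcjQ n, cj_eq_self_of_mem_normalizer hn]

theorem card_sup_dvd (S X : Subgroup P) (h : S ≤ Subgroup.normalizer (X : Set P)) :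
    Nat.card (S ⊔ X : Subgroup P) ∣ Nat.card S * Nat.card X := by
  have h1 := Cfsg.Agent.Lib.Helper72.relIndex_sup_of_le_normalizer S X h
  have h2 := Subgroup.relIndex_mul_relIndex ⊥ S (S ⊔ X) bot_le le_sup_left
  rw [Subgroup.relIndex_bot_left, Subgroup.relIndex_bot_left, h1] at h2
  rw [← h2]
  apply Nat.mul_dvd_mul_left
  exact Subgroup.index_dvd_card _

theorem two_primes (hP : Cfsg.IsPMinimal p P) (S : Sylow p P) (M : Subgroup P) (hM : IsCoatom M)
    (hSM : (S : Subgroup P) ≤ M)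
    (hcl : ∀ T : Sylow p ↥(Cfsg.pResidual p P), (T : Subgroup ↥(Cfsg.pResidual p P)).Normal) :
    (Nat.card P).primeFactors.card ≤ 2 := by
  by_contra hcon
  push Not at hcon
  have hp : p.Prime := Fact.out
  have hRn : (Cfsg.pResidual p P).Normal := Cfsg.Agent.Lib.Helper34.pResidual_normal p P
  obtain ⟨Q₀⟩ : Nonempty (Sylow p ↥(Cfsg.pResidual p P)) := inferInstance
  have hQ₀n := hcl Q₀
  have hchar : (Q₀ : Subgroup ↥(Cfsg.pResidual p P)).Characteristic :=
    Sylow.characteristic_of_normal Q₀ hQ₀n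
  set Q : Subgroup P := (Q₀ : Subgroup ↥(Cfsg.pResidual p P)).map (Cfsg.pResidual p P).subtype with hQ
  have hQn : Q.Normal := ConjAct.normal_of_characteristic_of_normal
  have hQidx : ¬ p ∣ Q.relIndex (Cfsg.pResidual p P) := by
    have h1 : Q.subgroupOf (Cfsg.pResidual p P) = Q₀ :=
      Subgroup.comap_map_eq_self_of_injective (Subgroup.subtype_injective _) _
    unfold Subgroup.relIndex
    rw [h1]
    exact Q₀.not_dvd_index
  have hQp : IsPGroup p Q := Q₀.isPGroup'.map _
  have hQS : Q ≤ (S : Subgroup P) := (le_pCore_of_normal_of_isPGroup hQn hQp).trans (pCore_le_sylow S)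
  have key : ∀ t : ℕ, t.Prime → t ≠ p → ∀ T₁ : Sylow t P, ¬ t ∣ M.index := by
    intro t ht htp T₁
    have : Fact t.Prime := ⟨ht⟩
    obtain ⟨T, hT⟩ := exists_sylow_sup_normalized S Q hQidx htp
    have hex : ∃ t' : ℕ, t'.Prime ∧ t' ≠ p ∧ t' ≠ t ∧ t' ∣ Nat.card P := by
      have h1 := Finset.pred_card_le_card_erase (s := (Nat.card P).primeFactors) (a := p)
      have h2 := Finset.pred_card_le_card_erase (s := (Nat.card P).primeFactors.erase p) (a := t)
      have h3 : 0 < (((Nat.card P).primeFactors.erase p).erase t).card := by omega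
      obtain ⟨t', ht'⟩ := Finset.card_pos.mp h3
      rw [Finset.mem_erase, Finset.mem_erase, Nat.mem_primeFactors] at ht'
      exact ⟨t', ht'.2.2.1, ht'.2.1, ht'.1, ht'.2.2.2.1⟩
    obtain ⟨t', ht', ht'p, ht't, ht'dvd⟩ := hex
    have hHne : (S : Subgroup P) ⊔ (Q ⊔ (T : Subgroup P)) ≠ ⊤ := by
      intro h
      have hc1 := card_sup_dvd (S : Subgroup P) (Q ⊔ (T : Subgroup P)) hT
      have hc2 : Nat.card (Q ⊔ (T : Subgroup P) : Subgroup P) ∣ Nat.card Q * Nat.card (T : Subgroup P) :=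
        Dvd.intro _ (Cfsg.Agent.Lib.Helper64.card_sup_mul_card_inf Q (T : Subgroup P))
      rw [h, Subgroup.card_top] at hc1
      obtain ⟨a, ha⟩ := IsPGroup.iff_card.mp S.isPGroup'
      obtain ⟨b, hb⟩ := IsPGroup.iff_card.mp hQp
      obtain ⟨c, hc⟩ := IsPGroup.iff_card.mp T.isPGroup'
      have h4 : t' ∣ Nat.card (S : Subgroup P) * (Nat.card Q * Nat.card (T : Subgroup P)) :=
        (ht'dvd.trans hc1).trans (Nat.mul_dvd_mul_left _ hc2)
      rw [ha, hb, hc] at h4
      rcases (Nat.Prime.dvd_mul ht').mp h4 with h5 | h5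
      · exact ht'p ((Nat.prime_dvd_prime_iff_eq ht' hp).mp (ht'.dvd_of_dvd_pow h5))
      · rcases (Nat.Prime.dvd_mul ht').mp h5 with h6 | h6
        · exact ht'p ((Nat.prime_dvd_prime_iff_eq ht' hp).mp (ht'.dvd_of_dvd_pow h6))
        · exact ht't ((Nat.prime_dvd_prime_iff_eq ht' ht).mp (ht'.dvd_of_dvd_pow h6))
    have hle := le_of_sylow_le hP S M hM hSM le_sup_left hHne
    have hTM : (T : Subgroup P) ≤ M := (le_sup_right.trans le_sup_right).trans hle
    intro hd
    exact T.not_dvd_index (hd.trans (Subgroup.index_dvd_of_le hTM))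
  apply hM.1
  rw [← Subgroup.index_eq_one]
  by_contra hne
  obtain ⟨r, hr, hrd⟩ := Nat.exists_prime_and_dvd hne
  by_cases hrp : r = p
  · subst hrp
    exact S.not_dvd_index (hrd.trans (Subgroup.index_dvd_of_le hSM))
  · have : Fact r.Prime := ⟨hr⟩
    obtain ⟨T₁⟩ : Nonempty (Sylow r P) := inferInstance
    exact key r hr hrp T₁ hrd

theorem key_result (hP : Cfsg.IsPMinimal p P) (S : Sylow p P) (M : Subgroup P) (hM : IsCoatom M)
    (hSM : (S : Subgroup P) ≤ M) [hF : M.normalCore.Normal] :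
    (∀ N : Subgroup P, N.IsSubnormal → N ≤ M → N ⊓ (S : Subgroup P) ≤ Cfsg.pCore p P) ∧
    ((∀ T : Sylow p ↥(Cfsg.pResidual p P), (T : Subgroup ↥(Cfsg.pResidual p P)).Normal) →
      (Nat.card P).primeFactors.card ≤ 2) ∧
    (∀ N : Subgroup P, N.Normal → Cfsg.pResidual p P ≤ N ∨ N ≤ M.normalCore) ∧
    (∀ N : Subgroup P, N.Normal → M.normalCore ≤ N → N ≤ Cfsg.pResidual p P ⊔ M.normalCore →
      N = M.normalCore ∨ N = Cfsg.pResidual p P ⊔ M.normalCore) ∧
    M.normalCore < Cfsg.pResidual p P ⊔ M.normalCore := by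
  refine ⟨?_, two_primes hP S M hM hSM, pResidual_le_or_le_core hP S M hM hSM, ?_, ?_⟩
  · intro N hN hNM
    have h1 : N ≤ M.normalCore := Cfsg.Agent.S3802.result M N hM hN hNM
    have h2 := inf_sylow_le_pCore_of_normal hP S M hM hSM M.normalCore (Subgroup.normalCore_le M)
    exact (inf_le_inf_right _ h1).trans h2
  · intro N hN hFN hNle
    rcases pResidual_le_or_le_core hP S M hM hSM N hN with h | h
    · right; exact le_antisymm hNle (sup_le h hFN)
    · left; exact le_antisymm h hFN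
  · refine lt_of_le_of_ne le_sup_right ?_
    intro heq
    apply pResidual_not_le S M hM hSM
    have : Cfsg.pResidual p P ≤ M.normalCore := by rw [heq]; exact le_sup_left
    exact this.trans (Subgroup.normalCore_le M)
end

/-- Let P be a finite p-minimal group (a Sylow p-subgroup S is not normal and lies in a unique maximal subgroup M of P) and let F be the normal core of M. Then: every subnormal subgroup N of P contained in M satisfies N ∩ S ≤ O_p(P); if O^p(P) has a normal Sylow p-subgroup then the order of P has at most two prime divisors; every normal subgroup N of P either contains O^p(P) or is contained in F; and O^p(P)F ⧸ F is a minimal normal subgroup of P ⧸ F. -/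
theorem result {P : Type*} [Group P] [Finite P] {p : ℕ} [Fact p.Prime] (hP : Cfsg.IsPMinimal p P) (S : Sylow p P) (M : Subgroup P) (hM : IsCoatom M) (hSM : (S : Subgroup P) ≤ M) [hF : M.normalCore.Normal] : (∀ N : Subgroup P, N.IsSubnormal → N ≤ M → N ⊓ (S : Subgroup P) ≤ Cfsg.pCore p P) ∧ ((∀ T : Sylow p ↥(Cfsg.pResidual p P), (T : Subgroup ↥(Cfsg.pResidual p P)).Normal) → (Nat.card P).primeFactors.card ≤ 2) ∧ (∀ N : Subgroup P, N.Normal → Cfsg.pResidual p P ≤ N ∨ N ≤ M.normalCore) ∧ (∀ N : Subgroup P, N.Normal → M.normalCore ≤ N → N ≤ Cfsg.pResidual p P ⊔ M.normalCore → N = M.normalCore ∨ N = Cfsg.pResidual p P ⊔ M.normalCore) ∧ M.normalCore < Cfsg.pResidual p P ⊔ M.normalCore := by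
  exact key_result hP S M hM hSM

end Cfsg.Agent.S2905
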