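import Cfsg.Statements.S2906
-- import your own Cfsg.Agent.* helpers here
import Cfsg.Agent.S2905
import Cfsg.Agent.Lib.Helper48.PMinimal
import Cfsg.Agent.Lib.Helper22.Layer
import Cfsg.Agent.Lib.Helper22.PPrimeCore
import Cfsg.Agent.Lib.Helper49.SubnormalSylow
import Cfsg.Agent.Lib.Helper47.Subnormal
import Cfsg.Agent.Lib.Helper72.SylowCount

set_option autoImplicit false
open Cfsg

namespace Cfsg.Agent.S2906

open Cfsg.Agent.Lib.Helper48 Cfsg.Agent.Lib.Helper22
open scoped Pointwise

section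
variable {P : Type*} [Group P] [Finite P] {p : ℕ} [Fact p.Prime]

/-- In a `p`-minimal group, a normal `p'`-subgroup inside the maximal subgroup `M ≥ S` is nilpotent. -/
theorem isNilpotent_of_normal_le_of_coprime (hP : Cfsg.IsPMinimal p P) (S : Sylow p P)
    (M : Subgroup P) (hM : IsCoatom M) (hSM : (S : Subgroup P) ≤ M) (N : Subgroup P) [hNn : N.Normal]
    (hNM : N ≤ M) (hN : ¬ p ∣ Nat.card N) : Group.IsNilpotent N := by
  have tf := (Group.isNilpotent_of_finite_tfae (G := N)).out 0 3
  rw [tf]; clear tf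
  intro q hq Q
  have hSN : (S : Subgroup P) ≤ Subgroup.normalizer (N : Set P) := by
    rw [Subgroup.normalizer_eq_top_iff.mpr hNn]; exact le_top
  obtain ⟨R, hRN, hRq, hRcard, hSR⟩ := exists_invariant_sylow (S : Subgroup P) N S.isPGroup' hSN hN q
  have hcard' : Nat.card (R.subgroupOf N) = q ^ (Nat.card N).factorization q := by
    rw [← hRcard]
    exact Nat.card_congr (Subgroup.subgroupOfEquivOfLe hRN).toEquiv
  set R' : Sylow q N := Sylow.ofCard (R.subgroupOf N) hcard' with hR'
  have hfr := Sylow.normalizer_sup_eq_top R'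
  have hmap : (R' : Subgroup N).map N.subtype = R := by
    show (R.subgroupOf N).map N.subtype = R
    exact Subgroup.map_subgroupOf_eq_of_le hRN
  rw [hmap] at hfr
  have htop : Subgroup.normalizer (R : Set P) = ⊤ := by
    by_contra hne
    have h1 := Cfsg.Agent.S2905.le_of_sylow_le hP S M hM hSM hSR hne
    apply hM.1
    rw [eq_top_iff, ← hfr]
    exact sup_le h1 hNM
  have hRn : R.Normal := Subgroup.normalizer_eq_top_iff.mp htop
  have hR'n : (R' : Subgroup N).Normal := by
    show (R.subgroupOf N).Normal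
    infer_instance
  obtain ⟨g, hg⟩ := MulAction.exists_smul_eq N R' Q
  have : g • R' = R' := Sylow.smul_eq_of_normal
  rw [this] at hg
  rw [← hg]
  exact hR'n

/-- In a `p`-minimal group with `O_p(P) = 1`, a normal subgroup inside `M` is nilpotent. -/
theorem isNilpotent_of_normal_le (hP : Cfsg.IsPMinimal p P) (hOp : Cfsg.pCore p P = ⊥) (S : Sylow p P)
    (M : Subgroup P) (hM : IsCoatom M) (hSM : (S : Subgroup P) ≤ M) (N : Subgroup P) [hNn : N.Normal]
    (hNM : N ≤ M) : Group.IsNilpotent N := by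
  apply isNilpotent_of_normal_le_of_coprime hP S M hM hSM N hNM
  have h1 := Cfsg.Agent.S2905.inf_sylow_le_pCore_of_normal hP S M hM hSM N hNM
  rw [hOp, le_bot_iff] at h1
  obtain ⟨Q, hQ⟩ := Cfsg.Agent.Lib.Helper47.exists_sylow_eq_subgroupOf_of_normal S N
  have hbot : (S : Subgroup P).subgroupOf N = ⊥ := by
    rw [Subgroup.subgroupOf_eq_bot, disjoint_iff, inf_comm]
    exact h1
  intro hdvd
  exact Q.ne_bot_of_dvd_card hdvd (hQ.trans hbot)


/-- A perfect subgroup lies in `O^p(P)`. -/
theorem perfect_le_pResidual_aux {J : Subgroup P} (hJ : ⁅J, J⁆ = J) : J ≤ Cfsg.pResidual p P := by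
  have hn : (Cfsg.pResidual p P).Normal := Cfsg.Agent.Lib.Helper47.pResidual_normal p P
  have hQ : IsPGroup p (P ⧸ Cfsg.pResidual p P) :=
    Cfsg.Agent.Lib.Helper47.isPGroup_quotient_pResidual p P _ le_rfl
  set f := QuotientGroup.mk' (Cfsg.pResidual p P) with hf
  have hperf : Group.IsPerfect ↥(J.map f) := by
    rw [Subgroup.isPerfect_iff, ← Subgroup.map_commutator, hJ]
  have hnil : Group.IsNilpotent (P ⧸ Cfsg.pResidual p P) := hQ.isNilpotent
  have hsol0 : Group.IsSolvable (P ⧸ Cfsg.pResidual p P) := inferInstance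
  have hsol : Group.IsSolvable ↥(J.map f) := inferInstance
  have hbot : J.map f = ⊥ := by
    by_contra hne
    have hnt : Nontrivial ↥(J.map f) := (Subgroup.nontrivial_iff_ne_bot _).mpr hne
    exact Group.IsPerfect.not_isSolvable ↥(J.map f) hsol
  have := (Subgroup.map_eq_bot_iff (f := f) J).mp hbot
  rwa [hf, QuotientGroup.ker_mk'] at this

theorem layer_le_pResidual : Cfsg.layer P ≤ Cfsg.pResidual p P :=
  sSup_le fun _ hK' => perfect_le_pResidual_aux (component_commutator_self hK')

theorem fitting_le_pResidual (hOp : Cfsg.pCore p P = ⊥) :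
    Cfsg.fittingSubgroup P ≤ Cfsg.pResidual p P := by
  rw [Cfsg.Agent.Lib.Helper1.fittingSubgroup_eq_iSup_pCore]
  refine iSup_le fun q => ?_
  by_cases hq : (q : ℕ) = p
  · rw [hq, hOp]; exact bot_le
  · intro x hx
    have : Fact (q : ℕ).Prime := ⟨q.2⟩
    apply Cfsg.Agent.Lib.Helper47.mem_pResidual_of_coprime
    have hqg := Cfsg.Agent.Lib.Helper47.pCore_isPGroup (q : ℕ) P
    obtain ⟨k, hk⟩ := (IsPGroup.iff_orderOf.mp hqg) ⟨x, hx⟩
    rw [Subgroup.orderOf_mk] at hk
    rw [hk]
    exact Nat.Coprime.pow_left k ((Nat.coprime_primes q.2 Fact.out).mpr hq)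

/-- A subgroup containing a component is not nilpotent. -/
theorem not_isNilpotent_of_component_le {K N : Subgroup P} (hK : Cfsg.IsComponent K) (hKN : K ≤ N) :
    ¬ Group.IsNilpotent N := by
  intro hnil
  have h1 : Group.IsNilpotent K := isNilpotent_of_le hKN hnil
  have h2 : Group.IsSolvable K := inferInstance
  exact component_not_isSolvable hK h2

open Cfsg.Agent.Lib.Helper33 in
theorem cj_iSup {ι : Sort*} (g : P) (f : ι → Subgroup P) : cj g (⨆ i, f i) = ⨆ i, cj g (f i) :=
  Subgroup.map_iSup _ _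

open Cfsg.Agent.Lib.Helper33 in
/-- A subgroup `S` normalizes the join of the `S`-conjugates of `A`. -/
theorem le_normalizer_iSup_cj (S A : Subgroup P) :
    S ≤ Subgroup.normalizer ((⨆ s : ↥S, cj (s : P) A : Subgroup P) : Set P) := by
  intro g hg
  rw [mem_normalizer_iff_cj_eq, cj_iSup]
  apply le_antisymm
  · refine iSup_le fun s => ?_
    rw [← cj_mul]
    exact le_iSup (fun s : ↥S => cj (s : P) A) (⟨g, hg⟩ * s)
  · refine iSup_le fun s => ?_
    have h1 : cj (s : P) A = cj g (cj (g⁻¹ * (s : P)) A) := by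
      rw [← cj_mul, mul_inv_cancel_left]
    rw [h1]
    exact le_iSup (fun s : ↥S => cj g (cj (s : P) A))
      ⟨g⁻¹ * (s : P), S.mul_mem (inv_mem hg) s.2⟩

open Cfsg.Agent.Lib.Helper33 in
theorem le_iSup_cj (S A : Subgroup P) : A ≤ ⨆ s : ↥S, cj (s : P) A := by
  have := le_iSup (fun s : ↥S => cj (s : P) A) 1
  simpa [cj_one] using this

open Cfsg.Agent.Lib.Helper33 in
/-- the join of the `S`-conjugates of `K` -/
theorem parts123 (hP : Cfsg.IsPMinimal p P) (hOp : Cfsg.pCore p P = ⊥) (S : Sylow p P)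
    (K : Subgroup P) (hK : Cfsg.IsComponent K) :
    Cfsg.pResidual p P = Cfsg.generalizedFittingSubgroup P ∧
      Cfsg.generalizedFittingSubgroup P = Cfsg.layer P ∧
      Cfsg.layer P = ⨆ s : ↥(S : Subgroup P), cj (s : P) K := by
  obtain ⟨-, M, ⟨hMco, hSM⟩, -⟩ := hP S
  set L : Subgroup P := ⨆ s : ↥(S : Subgroup P), cj (s : P) K with hL
  have hLE : L ≤ Cfsg.layer P := iSup_le fun s => component_le_layer (component_conj hK s)
  have hEn : (Cfsg.layer P).Normal := Cfsg.Agent.Lib.Helper29.layer_normal P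
  have hKL : K ≤ L := le_iSup_cj (S : Subgroup P) K
  have hE_not_le : ¬ Cfsg.layer P ≤ M := fun h =>
    not_isNilpotent_of_component_le hK (hKL.trans hLE)
      (isNilpotent_of_normal_le hP hOp S M hMco hSM (Cfsg.layer P) h)
  have hRE : Cfsg.pResidual p P ≤ Cfsg.layer P :=
    (Cfsg.Agent.S2905.pResidual_le_or_le_core hP S M hMco hSM (Cfsg.layer P) hEn).resolve_right
      (fun h => hE_not_le (h.trans (Subgroup.normalCore_le M)))
  have hEeq : Cfsg.pResidual p P = Cfsg.layer P := le_antisymm hRE layer_le_pResidual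
  have hES : Cfsg.layer P ⊔ (S : Subgroup P) = ⊤ := by
    rw [← hEeq]
    exact Cfsg.Agent.Lib.Helper34.pResidual_sup_eq_top p (S : Subgroup P) S.not_dvd_index
  have hLn : L.Normal := by
    rw [← Subgroup.normalizer_eq_top_iff, eq_top_iff, ← hES]
    apply sup_le
    · intro g hg
      rw [mem_normalizer_iff_cj_eq, hL, cj_iSup]
      congr 1
      funext s
      exact cj_eq_self_of_mem_normalizer
        (layer_le_normalizer_component (component_conj hK (s : P)) hg)
    · exact le_normalizer_iSup_cj (S : Subgroup P) K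
  have hL_not_le : ¬ L ≤ M := fun h =>
    not_isNilpotent_of_component_le hK hKL (isNilpotent_of_normal_le hP hOp S M hMco hSM L h)
  have hRL : Cfsg.pResidual p P ≤ L :=
    (Cfsg.Agent.S2905.pResidual_le_or_le_core hP S M hMco hSM L hLn).resolve_right
      (fun h => hL_not_le (h.trans (Subgroup.normalCore_le M)))
  refine ⟨?_, ?_, ?_⟩
  · apply le_antisymm
    · exact hRE.trans le_sup_left
    · exact sup_le layer_le_pResidual (fitting_le_pResidual hOp)
  · apply le_antisymm
    · rw [← hEeq]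
      exact sup_le layer_le_pResidual (fitting_le_pResidual hOp)
    · exact le_sup_left
  · exact le_antisymm (hEeq ▸ hRL) hLE


theorem layer_not_le_coatom (hP : Cfsg.IsPMinimal p P) (hOp : Cfsg.pCore p P = ⊥) (S : Sylow p P)
    (M : Subgroup P) (hM : IsCoatom M) (hSM : (S : Subgroup P) ≤ M)
    (K : Subgroup P) (hK : Cfsg.IsComponent K) : ¬ Cfsg.layer P ≤ M := by
  intro h
  have hEn : (Cfsg.layer P).Normal := Cfsg.Agent.Lib.Helper29.layer_normal P
  exact not_isNilpotent_of_component_le hK (component_le_layer hK)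
    (isNilpotent_of_normal_le hP hOp S M hM hSM (Cfsg.layer P) h)

open Cfsg.Agent.Lib.Helper33 in
/-- A component of a `p`-minimal group with `O_p = 1` has order divisible by `p`. -/
theorem p_dvd_card_component (hP : Cfsg.IsPMinimal p P) (hOp : Cfsg.pCore p P = ⊥) (S : Sylow p P)
    (K : Subgroup P) (hK : Cfsg.IsComponent K) : p ∣ Nat.card K := by
  by_contra hnd
  obtain ⟨hSnn, M, ⟨hMco, hSM⟩, -⟩ := hP S
  have hp : p.Prime := Fact.out
  have hc : (Nat.card K).Coprime p := ((Nat.Prime.coprime_iff_not_dvd hp).mpr hnd).symm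
  have hKO : K ≤ Cfsg.pPrimeCore p P := le_pPrimeCore_of_isSubnormal_of_coprime p hK.1 hc
  have hOn : (Cfsg.pPrimeCore p P).Normal := Cfsg.Agent.Lib.Helper1.pPrimeCore_normal p
  obtain ⟨h1, h2, h3⟩ := parts123 hP hOp S K hK
  have hEO : Cfsg.layer P ≤ Cfsg.pPrimeCore p P := by
    rw [h3]
    refine iSup_le fun s => ?_
    have h4 : cj (s : P) (Cfsg.pPrimeCore p P) = Cfsg.pPrimeCore p P :=
      cj_eq_self_of_mem_normalizer (by rw [Subgroup.normalizer_eq_top_iff.mpr hOn]; trivial)
    rw [← h4]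
    exact cj_mono hKO
  have hEc : (Nat.card (Cfsg.layer P)).Coprime p :=
    Nat.Coprime.coprime_dvd_left (Subgroup.card_dvd_of_le hEO) (pPrimeCore_card_coprime p)
  have hRc : (Nat.card (Cfsg.pResidual p P)).Coprime p := by rw [h1, h2]; exact hEc
  have hcl : ∀ T : Sylow p ↥(Cfsg.pResidual p P), (T : Subgroup ↥(Cfsg.pResidual p P)).Normal := by
    intro T
    have hT : (T : Subgroup ↥(Cfsg.pResidual p P)) = ⊥ := by
      rcases T.isPGroup'.card_eq_or_dvd with h | h
      · exact Subgroup.eq_bot_of_card_eq _ h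
      · exfalso
        have h5 : p ∣ Nat.card (Cfsg.pResidual p P) := h.trans (Subgroup.card_subgroup_dvd_card _)
        exact hp.one_lt.ne' (Nat.eq_one_of_dvd_coprimes hRc.symm (dvd_refl p) h5)
    rw [hT]; infer_instance
  have h2p := Cfsg.Agent.S2905.two_primes hP S M hMco hSM hcl
  -- `p` divides `|P|`
  have hpP : p ∣ Nat.card P := by
    by_contra hndP
    apply hSnn
    have : (S : Subgroup P) = ⊥ := by
      by_contra hne
      have h6 : Nat.card (S : Subgroup P) ≠ 1 := fun h => hne (Subgroup.eq_bot_of_card_eq _ h)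
      rcases S.isPGroup'.card_eq_or_dvd with h | h
      · exact h6 h
      · exact hndP (h.trans (Subgroup.card_subgroup_dvd_card _))
    rw [this]; infer_instance
  -- a prime `r` dividing `|E|`
  have hEne : Nat.card (Cfsg.layer P) ≠ 1 := by
    intro h
    have h7 : Cfsg.layer P = ⊥ := Subgroup.eq_bot_of_card_eq _ h
    exact component_ne_bot hK (le_bot_iff.mp (h7 ▸ component_le_layer hK))
  obtain ⟨r, hr, hrE⟩ := Nat.exists_prime_and_dvd hEne
  have hrp : r ≠ p := by
    rintro rfl
    exact hp.one_lt.ne' (Nat.eq_one_of_dvd_coprimes hEc.symm (dvd_refl _) hrE)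
  have hrP : r ∣ Nat.card P := hrE.trans (Subgroup.card_subgroup_dvd_card _)
  have hPne : Nat.card P ≠ 0 := Nat.card_pos.ne'
  have hsub : ({p, r} : Finset ℕ) ⊆ (Nat.card P).primeFactors := by
    intro x hx
    rw [Finset.mem_insert, Finset.mem_singleton] at hx
    rcases hx with rfl | rfl
    · exact Nat.mem_primeFactors.mpr ⟨hp, hpP, hPne⟩
    · exact Nat.mem_primeFactors.mpr ⟨hr, hrP, hPne⟩
  have hcard2 : ({p, r} : Finset ℕ).card = 2 := Finset.card_pair (Ne.symm hrp)
  have heq : ({p, r} : Finset ℕ) = (Nat.card P).primeFactors :=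
    Finset.eq_of_subset_of_card_le hsub (by rw [hcard2]; exact h2p)
  have hpow : Nat.card (Cfsg.layer P) = r ^ (Nat.card (Cfsg.layer P)).primeFactorsList.length := by
    apply Nat.eq_prime_pow_of_unique_prime_dvd Nat.card_pos.ne'
    intro d hd hdE
    have hdP : d ∈ (Nat.card P).primeFactors :=
      Nat.mem_primeFactors.mpr ⟨hd, hdE.trans (Subgroup.card_subgroup_dvd_card _), hPne⟩
    rw [← heq, Finset.mem_insert, Finset.mem_singleton] at hdP
    rcases hdP with rfl | rfl
    · exact absurd (Nat.eq_one_of_dvd_coprimes hEc.symm (dvd_refl _) hdE) hp.one_lt.ne'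
    · rfl
  have : Fact r.Prime := ⟨hr⟩
  have hrg : IsPGroup r (Cfsg.layer P) := IsPGroup.of_card hpow
  exact not_isNilpotent_of_component_le hK (component_le_layer hK) hrg.isNilpotent


open Cfsg.Agent.Lib.Helper33 in
theorem part4 (hP : Cfsg.IsPMinimal p P) (hOp : Cfsg.pCore p P = ⊥) (S : Sylow p P)
    (K : Subgroup P) (hK : Cfsg.IsComponent K) :
    Cfsg.IsPMinimal p ↥(K ⊔ ((S : Subgroup P) ⊓ Subgroup.normalizer (K : Set P))) := by
  obtain ⟨-, M, ⟨hMco, hSM⟩, -⟩ := hP S
  obtain ⟨h1, h2, h3⟩ := parts123 hP hOp S K hK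
  have hRE : Cfsg.pResidual p P = Cfsg.layer P := h1.trans h2
  set S₀ : Subgroup P := (S : Subgroup P) ⊓ Subgroup.normalizer (K : Set P) with hS₀
  have hS₀N : S₀ ≤ Subgroup.normalizer (K : Set P) := inf_le_right
  have hS₀S : S₀ ≤ (S : Subgroup P) := inf_le_left
  have hS₀M : S₀ ≤ M := hS₀S.trans hSM
  have hKM : ¬ K ≤ M := by
    intro h
    apply layer_not_le_coatom hP hOp S M hMco hSM K hK
    rw [h3]
    exact iSup_le fun s => cj_le_of_mem h (hSM s.2)
  obtain ⟨Q, hQ⟩ := Cfsg.Agent.Lib.Helper49.exists_sylow_eq_subgroupOf_of_isSubnormal S hK.1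
  have hinf : S₀ ⊓ K = (S : Subgroup P) ⊓ K := by
    rw [hS₀, inf_assoc, inf_eq_right.mpr (Subgroup.le_normalizer : K ≤ Subgroup.normalizer (K : Set P))]
  have hrel : S₀.relIndex K = (S : Subgroup P).relIndex K := by
    rw [← Subgroup.inf_relIndex_right, hinf, Subgroup.inf_relIndex_right]
  have hidxK : ¬ p ∣ (S : Subgroup P).relIndex K := by
    have := Q.not_dvd_index
    rw [hQ] at this
    exact this
  have hKperf : ⁅K, K⁆ = K := component_commutator_self hK
  apply isPMinimal_subgroup (K ⊔ S₀) S₀ M le_sup_right (S.isPGroup'.to_le hS₀S)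
  · -- `S₀` is a Sylow subgroup of `K S₀`
    rw [sup_comm, Cfsg.Agent.Lib.Helper72.relIndex_sup_of_le_normalizer S₀ K hS₀N, hrel]
    exact hidxK
  · -- `S₀` is not normal in `K S₀`
    intro hn
    have hKn : K ≤ Subgroup.normalizer (S₀ : Set P) := le_sup_left.trans hn
    have hKn' : K ≤ Subgroup.normalizer ((K ⊓ (S : Subgroup P) : Subgroup P) : Set P) := by
      intro k hk
      have e : K ⊓ (S : Subgroup P) = K ⊓ S₀ := by rw [inf_comm, ← hinf, inf_comm]
      rw [e]
      exact Cfsg.Agent.Lib.Helper49.mem_normalizer_inf (Subgroup.le_normalizer hk) (hKn hk)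
    have hnorm : ((K ⊓ (S : Subgroup P)).subgroupOf K).Normal :=
      (Subgroup.normal_subgroupOf_iff_le_normalizer inf_le_left).mpr hKn'
    have hsub : (K ⊓ (S : Subgroup P)).IsSubnormal :=
      Subgroup.IsSubnormal.trans inf_le_left hnorm.isSubnormal hK.1
    have hle : K ⊓ (S : Subgroup P) ≤ Cfsg.pCore p P :=
      Cfsg.Agent.Lib.Helper47.le_pCore_of_isSubnormal_of_isPGroup hsub (S.isPGroup'.to_le inf_le_right)
    rw [hOp, le_bot_iff] at hle
    have hbot : (S : Subgroup P).subgroupOf K = ⊥ := by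
      rw [Subgroup.subgroupOf_eq_bot, disjoint_iff, inf_comm]
      exact hle
    exact Q.ne_bot_of_dvd_card (p_dvd_card_component hP hOp S K hK) (hQ.trans hbot)
  · -- `K S₀` is not inside `M`
    exact fun h => hKM (le_sup_left.trans h)
  · exact hS₀M
  · -- every proper subgroup of `K S₀` containing `S₀` lies in `M`
    intro X hS₀X hXle hXne
    set A : Subgroup P := X ⊓ K with hA
    have hXA : X ≤ A ⊔ S₀ := by
      intro x hx
      have hx' : x ∈ S₀ ⊔ K := by rw [sup_comm]; exact hXle hx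
      obtain ⟨s, hs, k, hk, rfl⟩ := exists_mul_of_mem_sup_of_le_normalizer' hS₀N hx'
      have hkX : k ∈ X := by
        have := X.mul_mem (X.inv_mem (hS₀X hs)) hx
        simpa using this
      exact (A ⊔ S₀).mul_mem (Subgroup.mem_sup_right hs) (Subgroup.mem_sup_left ⟨hkX, hk⟩)
    suffices hAM : A ≤ M from hXA.trans (sup_le hAM hS₀M)
    set B : Subgroup P := ⨆ s : ↥(S : Subgroup P), cj (s : P) A with hB
    have hAB : A ≤ B := le_iSup_cj (S : Subgroup P) A
    have hSB : (S : Subgroup P) ≤ Subgroup.normalizer (B : Set P) :=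
      le_normalizer_iSup_cj (S : Subgroup P) A
    by_cases htop : B ⊔ (S : Subgroup P) = ⊤
    · exfalso
      have hBn : B.Normal := by
        rw [← Subgroup.normalizer_eq_top_iff, eq_top_iff, ← htop]
        exact sup_le Subgroup.le_normalizer hSB
      have hRB : Cfsg.pResidual p P ≤ B :=
        Cfsg.Agent.Lib.Helper47.pResidual_le_of_sup_eq_top S.isPGroup' htop
      have hKB : K ≤ B := (component_le_layer hK).trans (hRE ▸ hRB)
      have hBle : B ≤ A ⊔ Subgroup.centralizer (K : Set P) := by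
        refine iSup_le fun s => ?_
        by_cases hsN : (s : P) ∈ Subgroup.normalizer (K : Set P)
        · have hsX : (s : P) ∈ X := hS₀X ⟨s.2, hsN⟩
          have : cj (s : P) A = A := by
            rw [hA, cj_inf, cj_eq_self_of_mem hsX, cj_eq_self_of_mem_normalizer hsN]
          rw [this]
          exact le_sup_left
        · have hne : cj (s : P) K ≠ K := fun h => hsN (mem_normalizer_iff_cj_eq.mpr h)
          have hcomm := component_commutator_eq_bot_of_ne (component_conj hK (s : P)) hK hne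
          have hcen : cj (s : P) K ≤ Subgroup.centralizer (K : Set P) :=
            Subgroup.commutator_eq_bot_iff_le_centralizer.mp hcomm
          exact ((cj_mono inf_le_right).trans hcen).trans le_sup_right
      have hKA : K ≤ A := by
        have := commutator_le_of_le_sup_centralizer (inf_le_right : A ≤ K) (hKB.trans hBle)
        rwa [hKperf] at this
      apply hXne
      exact le_antisymm hXle (sup_le (hKA.trans inf_le_left) hS₀X)
    · have := Cfsg.Agent.S2905.le_of_sylow_le hP S M hMco hSM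
        (le_sup_right : (S : Subgroup P) ≤ B ⊔ (S : Subgroup P)) htop
      exact hAB.trans (le_sup_left.trans this)

end

/-- Let P be a finite p-minimal group with O_p(P) = 1, S a Sylow p-subgroup of P and K a component of P. Then O^p(P) = F*(P) = E(P) is generated by the S-conjugates of K, and the subgroup K·N_S(K) is again p-minimal. -/
theorem result {P : Type*} [Group P] [Finite P] {p : ℕ} [Fact p.Prime] (hP : Cfsg.IsPMinimal p P) (hOp : Cfsg.pCore p P = ⊥) (S : Sylow p P) (K : Subgroup P) (hK : Cfsg.IsComponent K) : Cfsg.pResidual p P = Cfsg.generalizedFittingSubgroup P ∧ Cfsg.generalizedFittingSubgroup P = Cfsg.layer P ∧ Cfsg.layer P = ⨆ s : ↥(S : Subgroup P), K.map (MulAut.conj (s : P)).toMonoidHom ∧ Cfsg.IsPMinimal p ↥(K ⊔ ((S : Subgroup P) ⊓ Subgroup.normalizer (K : Set P))) := by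
  obtain ⟨h1, h2, h3⟩ := parts123 hP hOp S K hK
  exact ⟨h1, h2, h3, part4 hP hOp S K hK⟩

end Cfsg.Agent.S2906
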