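import Cfsg.Statements.S2907
-- import your own Cfsg.Agent.* helpers here

set_option autoImplicit false
open Cfsg

namespace Cfsg.Agent.S2907

open scoped commutatorElement

/-- The commutator map `y ↦ [x, y]` into the centre, when `X' ≤ Z(X)`. -/
noncomputable def commHom {X : Type*} [Group X] (hc : commutator X = Subgroup.center X) (x : X) :
    X →* Subgroup.center X where
  toFun y := ⟨x * y * x⁻¹ * y⁻¹, by
    rw [← hc, commutator_def, ← commutatorElement_def]
    exact Subgroup.commutator_mem_commutator (Subgroup.mem_top x) (Subgroup.mem_top y)⟩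
  map_one' := by
    apply Subtype.ext
    simp
  map_mul' := by
    intro y₁ y₂
    apply Subtype.ext
    have hc2 : x * y₂ * x⁻¹ * y₂⁻¹ ∈ Subgroup.center X := by
      rw [← hc, commutator_def, ← commutatorElement_def]
      exact Subgroup.commutator_mem_commutator (Subgroup.mem_top x) (Subgroup.mem_top y₂)
    have h := Subgroup.mem_center_iff.mp hc2 y₁⁻¹
    show x * (y₁ * y₂) * x⁻¹ * (y₁ * y₂)⁻¹ = (x * y₁ * x⁻¹ * y₁⁻¹) * (x * y₂ * x⁻¹ * y₂⁻¹)
    calc x * (y₁ * y₂) * x⁻¹ * (y₁ * y₂)⁻¹
        = x * y₁ * x⁻¹ * ((x * y₂ * x⁻¹ * y₂⁻¹) * y₁⁻¹) := by group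
      _ = x * y₁ * x⁻¹ * (y₁⁻¹ * (x * y₂ * x⁻¹ * y₂⁻¹)) := by rw [h]
      _ = (x * y₁ * x⁻¹ * y₁⁻¹) * (x * y₂ * x⁻¹ * y₂⁻¹) := by group

theorem commHom_apply {X : Type*} [Group X] (hc : commutator X = Subgroup.center X) (x y : X) :
    ((commHom hc x y : Subgroup.center X) : X) = x * y * x⁻¹ * y⁻¹ := rfl

/-- Let X be a finite semi-extraspecial p-group and x an element of X outside the centre. Then the index of C_X(x) in X equals the order of Z(X), and the commutators [x, y], y ∈ X, form exactly the centre Z(X). -/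
theorem result {X : Type*} [Group X] [Finite X] {p : ℕ} [Fact p.Prime] (hX : Cfsg.IsSemiExtraspecial p X) (x : X) (hx : x ∉ Subgroup.center X) : (Subgroup.centralizer ({x} : Set X)).index = Nat.card ↥(Subgroup.center X) ∧ {z : X | ∃ y : X, z = x * y * x⁻¹ * y⁻¹} = (Subgroup.center X : Set X) := by
  obtain ⟨⟨hXp, hfr, hc⟩, hquot⟩ := hX
  set φ := commHom hc x with hφ
  -- kernel
  have hker : φ.ker = Subgroup.centralizer ({x} : Set X) := by
    ext y
    rw [MonoidHom.mem_ker, Subgroup.mem_centralizer_singleton_iff]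
    constructor
    · intro h
      have h1 : x * y * x⁻¹ * y⁻¹ = 1 := by
        have := congrArg Subtype.val h
        simpa [hφ, commHom_apply] using this
      calc y * x = (x * y * x⁻¹ * y⁻¹)⁻¹ * (x * y) := by group
        _ = x * y := by rw [h1]; group
    · intro h
      apply Subtype.ext
      show x * y * x⁻¹ * y⁻¹ = 1
      calc x * y * x⁻¹ * y⁻¹ = (x * y) * (y * x)⁻¹ := by group
        _ = 1 := by rw [h]; group
  -- range is everything
  have hrange : φ.range = ⊤ := by
    by_contra hne
    obtain ⟨M, hM, hle⟩ := (eq_top_or_exists_le_coatom φ.range).resolve_left hne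
    set Y : Subgroup X := M.map (Subgroup.center X).subtype with hY
    have hYle : Y ≤ Subgroup.center X := Subgroup.map_subtype_le M
    have hYsub : Y.subgroupOf (Subgroup.center X) = M :=
      Subgroup.comap_map_eq_self_of_injective (Subgroup.subtype_injective _) M
    obtain ⟨hYn, ⟨_, _, hc'⟩, _⟩ := hquot Y hYle (by rw [hYsub]; exact hM)
    -- commutators with `x` lie in `Y`
    have hxy : ∀ y : X, x * y * x⁻¹ * y⁻¹ ∈ Y := by
      intro y
      exact ⟨φ y, hle ⟨y, rfl⟩, rfl⟩
    have hcen : (QuotientGroup.mk x : X ⧸ Y) ∈ Subgroup.center (X ⧸ Y) := by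
      rw [Subgroup.mem_center_iff]
      intro q
      induction q using QuotientGroup.induction_on with
      | H y =>
        have h1 : (QuotientGroup.mk (x * y * x⁻¹ * y⁻¹) : X ⧸ Y) = 1 :=
          (QuotientGroup.eq_one_iff _).mpr (hxy y)
        have h2 : (QuotientGroup.mk x : X ⧸ Y) * QuotientGroup.mk y * (QuotientGroup.mk x)⁻¹ *
            (QuotientGroup.mk y)⁻¹ = 1 := by
          rw [← h1]
          simp
        calc (QuotientGroup.mk y : X ⧸ Y) * QuotientGroup.mk x
            = ((QuotientGroup.mk x : X ⧸ Y) * QuotientGroup.mk y * (QuotientGroup.mk x)⁻¹ *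
              (QuotientGroup.mk y)⁻¹)⁻¹ * (QuotientGroup.mk x * QuotientGroup.mk y) := by group
          _ = QuotientGroup.mk x * QuotientGroup.mk y := by rw [h2]; group
    have hmap : commutator (X ⧸ Y) = (commutator X).map (QuotientGroup.mk' Y) := by
      rw [commutator_def, commutator_def, Subgroup.map_commutator,
        Subgroup.map_top_of_surjective _ (QuotientGroup.mk'_surjective Y)]
    rw [← hc', hmap, hc] at hcen
    obtain ⟨z, hz, hzx⟩ := hcen
    have h3 : z⁻¹ * x ∈ Y := by
      rw [← QuotientGroup.eq]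
      exact hzx
    apply hx
    have : x = z * (z⁻¹ * x) := by group
    rw [this]
    exact Subgroup.mul_mem _ hz (hYle h3)
  constructor
  · rw [← hker, Subgroup.index_ker, hrange, Subgroup.card_top]
  · ext z
    constructor
    · rintro ⟨y, rfl⟩
      exact (φ y).2
    · intro hz
      have : (⟨z, hz⟩ : Subgroup.center X) ∈ φ.range := by rw [hrange]; exact Subgroup.mem_top _
      obtain ⟨y, hy⟩ := this
      exact ⟨y, (congrArg Subtype.val hy).symm⟩

end Cfsg.Agent.S2907
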