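import Cfsg.Statements.S2908
import Cfsg.Agent.Lib.Helper48.Coprime

set_option autoImplicit false
open Cfsg

namespace Cfsg.Agent.S2908

open Cfsg.Agent.Lib.Helper48
open scoped commutatorElement

/-- The case where `B = Q` is a `q`-group, `q ≠ p`. -/
theorem qgroup_case {G : Type*} [Group G] [Finite G] {p q : ℕ} [Fact p.Prime] [Fact q.Prime]
    (hqp : q ≠ p) (P A Q : Subgroup G) (hP : IsPGroup p ↥P) (hA : IsPGroup p ↥A)
    (hQ : IsPGroup q ↥Q) (hnA : A ≤ Subgroup.normalizer (P : Set G))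
    (hnQ : Q ≤ Subgroup.normalizer (P : Set G)) (hAQ : ⁅A, Q⁆ = ⊥) (hcomm : ⁅P, Q⁆ ≤ ⁅P, A⁆) :
    ⁅P, Q⁆ = ⊥ := by
  have hPq : ¬ q ∣ Nat.card P := by
    obtain ⟨n, hn⟩ := IsPGroup.exists_card_eq hP
    rw [hn]
    intro h
    exact hqp ((Nat.prime_dvd_prime_iff_eq Fact.out Fact.out).mp
      ((Fact.out : q.Prime).dvd_of_dvd_pow h))
  have hAQ' : A ≤ Subgroup.centralizer (Q : Set G) :=
    Subgroup.commutator_eq_bot_iff_le_centralizer.mp hAQ
  have hQA' : Q ≤ Subgroup.centralizer (A : Set G) := Subgroup.le_centralizer_iff.mp hAQ'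
  set W : Subgroup G := ⁅P, Q⁆ with hW
  set L : Subgroup G := P ⊔ A with hL
  have hLp : IsPGroup p L := hP.to_sup_of_normal_left' hA hnA
  have hLnil : Group.IsNilpotent L := hLp.isNilpotent
  have hWP : W ≤ P := commutator_le_of_le_normalizer hnQ
  have hWL : W ≤ L := hWP.trans le_sup_left
  have hPW : P ≤ Subgroup.normalizer (W : Set G) := Subgroup.normalizer_commutator_ge_left P Q
  have hQW : Q ≤ Subgroup.normalizer (W : Set G) := Subgroup.normalizer_commutator_ge_right P Q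
  have hAW : A ≤ Subgroup.normalizer (W : Set G) := by
    intro a ha
    exact normalizer_inf_le_normalizer_commutator P Q
      ⟨hnA ha, centralizer_le_normalizer' Q (hAQ' ha)⟩
  have hLW : L ≤ Subgroup.normalizer (W : Set G) := sup_le hPW hAW
  set N : Subgroup G := ⁅W, L⁆ with hN
  have hNW : N ≤ W := commutator_le_of_le_normalizer hLW
  have hLN : L ≤ Subgroup.normalizer (N : Set G) := Subgroup.normalizer_commutator_ge_right W L
  have hQL : Q ≤ Subgroup.normalizer (L : Set G) := by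
    intro b hb
    exact normalizer_inf_le_normalizer_sup P A
      ⟨hnQ hb, centralizer_le_normalizer' A (hQA' hb)⟩
  have hQN : Q ≤ Subgroup.normalizer (N : Set G) := by
    intro b hb
    exact normalizer_inf_le_normalizer_commutator W L ⟨hQW hb, hQL hb⟩
  -- key: every commutator [x, a] lies in the set of y ∈ L with [y, Q] ⊆ N
  have hM : ∀ y ∈ ⁅P, A⁆, ∀ b ∈ Q, ⁅y, b⁆ ∈ N := by
    intro y hy
    have hmul : ∀ x ∈ L, ∀ z : G, (∀ b ∈ Q, ⁅x, b⁆ ∈ N) → (∀ b ∈ Q, ⁅z, b⁆ ∈ N) →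
        ∀ b ∈ Q, ⁅x * z, b⁆ ∈ N := by
      intro x hx z h1 h2 b hb
      rw [commutatorElement_mul_left_eq_conj_mul]
      exact N.mul_mem ((Subgroup.mem_normalizer_iff.mp (hLN hx) _).mp (h2 b hb)) (h1 b hb)
    have hinv : ∀ x ∈ L, (∀ b ∈ Q, ⁅x, b⁆ ∈ N) → ∀ b ∈ Q, ⁅x⁻¹, b⁆ ∈ N := by
      intro x hx h1 b hb
      rw [commutatorElement_inv_left, ← commutatorElement_inv]
      have h2 : x⁻¹ ∈ Subgroup.normalizer (N : Set G) := Subgroup.inv_mem _ (hLN hx)
      have := (Subgroup.mem_normalizer_iff.mp h2 _).mp (N.inv_mem (h1 b hb))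
      simpa using this
    have hPAL : ⁅P, A⁆ ≤ L := Subgroup.commutator_le_sup P A
    -- induction over the closure
    have : ∀ y ∈ ⁅P, A⁆, y ∈ L ∧ ∀ b ∈ Q, ⁅y, b⁆ ∈ N := by
      intro y hy
      rw [Subgroup.commutator_def] at hy
      induction hy using Subgroup.closure_induction with
      | mem y hy =>
        obtain ⟨x, hx, a, ha, rfl⟩ := hy
        refine ⟨hPAL (Subgroup.commutator_mem_commutator hx ha), ?_⟩
        obtain ⟨c, hc, w, hw, rfl⟩ := exists_centralizer_mul_commutator hQ hPq hnQ hx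
        rw [commutatorElement_mul_left_eq_conj_mul]
        have hcL : c ∈ L := le_sup_left (a := P) hc.1
        have haL : a ∈ L := le_sup_right (a := P) ha
        have h1 : ∀ b ∈ Q, ⁅c * ⁅w, a⁆ * c⁻¹, b⁆ ∈ N := by
          intro b hb
          have h2 : c * ⁅w, a⁆ * c⁻¹ ∈ N :=
            (Subgroup.mem_normalizer_iff.mp (hLN hcL) _).mp
              (Subgroup.commutator_mem_commutator hw haL)
          have : ⁅c * ⁅w, a⁆ * c⁻¹, b⁆ = (c * ⁅w, a⁆ * c⁻¹) * (b * (c * ⁅w, a⁆ * c⁻¹)⁻¹ * b⁻¹) := by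
            simp [commutatorElement_def, mul_assoc]
          rw [this]
          exact N.mul_mem h2 ((Subgroup.mem_normalizer_iff.mp (hQN hb) _).mp (N.inv_mem h2))
        have h3 : ∀ b ∈ Q, ⁅⁅c, a⁆, b⁆ ∈ N := by
          intro b hb
          have hca : ⁅c, a⁆ ∈ Subgroup.centralizer (Q : Set G) := by
            have haQ : a ∈ Subgroup.centralizer (Q : Set G) := hAQ' ha
            have : ⁅c, a⁆ = c * a * c⁻¹ * a⁻¹ := rfl
            rw [this]
            exact Subgroup.mul_mem _ (Subgroup.mul_mem _ (Subgroup.mul_mem _ hc.2 haQ)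
              (Subgroup.inv_mem _ hc.2)) (Subgroup.inv_mem _ haQ)
          have : ⁅⁅c, a⁆, b⁆ = 1 := by
            rw [commutatorElement_eq_one_iff_mul_comm]
            rw [Subgroup.mem_centralizer_iff] at hca
            exact (hca b hb).symm
          rw [this]; exact N.one_mem
        have hcwL : c * ⁅w, a⁆ * c⁻¹ ∈ L := by
          have hwL : w ∈ L := hWL hw
          exact L.mul_mem (L.mul_mem hcL (by
            have : ⁅w, a⁆ = w * a * w⁻¹ * a⁻¹ := rfl
            rw [this]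
            exact L.mul_mem (L.mul_mem (L.mul_mem hwL haL) (L.inv_mem hwL)) (L.inv_mem haL)))
            (L.inv_mem hcL)
        exact hmul _ hcwL _ h1 h3
      | one => exact ⟨L.one_mem, fun b _ => by simp⟩
      | mul x z _ _ hx hz => exact ⟨L.mul_mem hx.1 hz.1, hmul x hx.1 z hx.2 hz.2⟩
      | inv x _ hx => exact ⟨L.inv_mem hx.1, hinv x hx.1 hx.2⟩
    exact (this y hy).2
  have h1 : ⁅W, Q⁆ ≤ N := by
    rw [Subgroup.commutator_le]
    intro w hw b hb
    exact hM w (hcomm hw) b hb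
  have h2 : ⁅W, Q⁆ = W := commutator_commutator_eq hQ hPq hnQ
  have h3 : N = W := le_antisymm hNW (h2 ▸ h1)
  exact eq_bot_of_commutator_eq_of_isNilpotent hLnil hWL h3

/-- Let P be a p-subgroup of a finite group, normalized by a p-subgroup A and by a subgroup B of order prime to p that commutes elementwise with A. If [P, B] ≤ [P, A], then B centralizes P. -/
theorem result {G : Type*} [Group G] [Finite G] {p : ℕ} [Fact p.Prime] (P A B : Subgroup G) (hP : IsPGroup p ↥P) (hA : IsPGroup p ↥A) (hB : ¬ p ∣ Nat.card ↥B) (hnA : A ≤ Subgroup.normalizer (P : Set G)) (hnB : B ≤ Subgroup.normalizer (P : Set G)) (hAB : ⁅A, B⁆ = ⊥) (hcomm : ⁅P, B⁆ ≤ ⁅P, A⁆) : ⁅P, B⁆ = ⊥ := by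
  rw [Subgroup.commutator_comm, Subgroup.commutator_eq_bot_iff_le_centralizer]
  apply le_of_forall_pSubgroup_le
  intro q _ Q hQB hQ
  by_cases hqp : q = p
  · subst hqp
    have : Q = ⊥ := by
      by_contra hne
      obtain ⟨x, hxQ, hx⟩ := exists_orderOf_eq_of_ne_bot hQ hne
      apply hB
      have : orderOf (⟨x, hQB hxQ⟩ : B) = q := by rw [← hx, ← Subgroup.orderOf_coe]
      rw [← this]
      exact orderOf_dvd_natCard _
    rw [this]; exact bot_le
  · have h1 : ⁅P, Q⁆ = ⊥ := qgroup_case hqp P A Q hP hA hQ hnA (hQB.trans hnB)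
      (le_bot_iff.mp (hAB ▸ Subgroup.commutator_mono le_rfl hQB))
      ((Subgroup.commutator_mono le_rfl hQB).trans hcomm)
    rw [Subgroup.commutator_comm, Subgroup.commutator_eq_bot_iff_le_centralizer] at h1
    exact h1

end Cfsg.Agent.S2908
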