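import Cfsg.Statements.S2909
import Cfsg.Agent.Lib.Helper48.Generation
import Cfsg.Agent.S0028
import Cfsg.Agent.S2908

set_option autoImplicit false
open Cfsg

namespace Cfsg.Agent.S2909

open Cfsg.Agent.Lib.Helper48
open scoped commutatorElement

variable {G : Type*} [Group G]

/-- An element commuting with `u` normalizes the centralizer of `u`. -/
theorem mem_normalizer_centralizer_singleton {u v : G} (h : v * u = u * v) :
    v ∈ Subgroup.normalizer ((Subgroup.centralizer ({u} : Set G) : Subgroup G) : Set G) := by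
  apply Subgroup.le_normalizer
  rw [Subgroup.mem_centralizer_singleton_iff]
  exact h

theorem centralizer_zpowers_eq (u : G) :
    Subgroup.centralizer ((Subgroup.zpowers u : Subgroup G) : Set G) =
      Subgroup.centralizer ({u} : Set G) := by
  rw [Subgroup.zpowers_eq_closure, Subgroup.centralizer_closure]

/-- The subgroup of elements of `G` whose commutators with all elements of `U` lie in the
normal subgroup `D`. -/
def commInto (U D : Subgroup G) [hD : D.Normal] : Subgroup G where
  carrier := {g | ∀ v ∈ U, ⁅g, v⁆ ∈ D}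
  one_mem' := by
    intro v _
    simp
  mul_mem' := by
    intro g₁ g₂ h₁ h₂ v hv
    rw [commutatorElement_mul_left_eq_conj_mul]
    exact D.mul_mem (hD.conj_mem _ (h₂ v hv) g₁) (h₁ v hv)
  inv_mem' := by
    intro g h v hv
    rw [commutatorElement_inv_left, ← commutatorElement_inv]
    have := hD.conj_mem _ (D.inv_mem (h v hv)) g⁻¹
    simpa using this

/-- Let p be a prime, E a normal p-subgroup of the finite group G, and U a non-cyclic elementary abelian p-subgroup of G such that either C_E(U) = C_E(u) for every nontrivial u ∈ U, or [E, U] = [E, ⟨u⟩] for every nontrivial u ∈ U. If R is a subgroup of order prime to p normalized by U, then [R, U] centralizes E. -/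
theorem result {G : Type*} [Group G] [Finite G] {p : ℕ} [Fact p.Prime] (E : Subgroup G) [E.Normal] (hE : IsPGroup p ↥E) (U : Subgroup G) (hU : Cfsg.IsElementaryAbelian p U) (hnc : ¬ IsCyclic ↥U) (hcond : (∀ u ∈ U, u ≠ 1 → E ⊓ Subgroup.centralizer (U : Set G) = E ⊓ Subgroup.centralizer ({u} : Set G)) ∨ (∀ u ∈ U, u ≠ 1 → ⁅E, U⁆ = ⁅E, Subgroup.zpowers u⁆)) (R : Subgroup G) (hR : ¬ p ∣ Nat.card ↥R) (hRU : U ≤ Subgroup.normalizer (R : Set G)) : ⁅R, U⁆ ≤ Subgroup.centralizer (E : Set G) := by
  obtain ⟨hUc, hUe⟩ := hU
  have hUcomm : ∀ x ∈ U, ∀ y ∈ U, x * y = y * x := by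
    intro x hx y hy
    have := hUc.is_comm.comm (⟨x, hx⟩ : U) ⟨y, hy⟩
    exact congrArg Subtype.val this
  have hUp : IsPGroup p U := by
    intro g
    refine ⟨1, ?_⟩
    rw [pow_one]
    exact Subtype.ext (by simpa using hUe g g.2)
  have hUcard : p ^ 2 ≤ Nat.card U := by
    obtain ⟨n, hn⟩ := IsPGroup.exists_card_eq hUp
    rcases n with _ | _ | n
    · exfalso; apply hnc
      rw [pow_zero] at hn
      have : Subsingleton U := (Nat.card_eq_one_iff_unique.mp hn).1
      exact isCyclic_of_subsingleton
    · exfalso; apply hnc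
      rw [zero_add, pow_one] at hn
      exact isCyclic_of_prime_card hn
    · rw [hn]
      exact Nat.pow_le_pow_right (Fact.out : p.Prime).pos (by omega)
  have hDn : (Subgroup.centralizer (E : Set G)).Normal := inferInstance
  set Y : Subgroup G := commInto U (Subgroup.centralizer (E : Set G)) with hY
  suffices h : R ≤ Y by
    rw [Subgroup.commutator_le]
    intro r hr v hv
    exact h hr v hv
  apply elemAb_generation U hUcomm hUe hUcard R Y hR hRU
  intro u hu hu1
  have hup : u ^ p = 1 := hUe u hu
  set Ru : Subgroup G := R ⊓ Subgroup.centralizer ({u} : Set G) with hRu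
  -- U normalizes R_u
  have hURu : U ≤ Subgroup.normalizer (Ru : Set G) := by
    intro v hv
    exact Subgroup.inf_normalizer_le_normalizer_inf
      ⟨hRU hv, mem_normalizer_centralizer_singleton (hUcomm v hv u hu)⟩
  set Du : Subgroup G := ⁅Ru, U⁆ with hDu
  have hDuRu : Du ≤ Ru := commutator_le_of_le_normalizer hURu
  have hDucard : ¬ p ∣ Nat.card Du :=
    fun h => hR (h.trans (Subgroup.card_dvd_of_le (hDuRu.trans inf_le_left)))
  have hDuu : Du ≤ Subgroup.centralizer ({u} : Set G) := hDuRu.trans inf_le_right
  have hEn : ∀ H : Subgroup G, H ≤ Subgroup.normalizer (E : Set G) := by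
    intro H
    rw [Subgroup.normalizer_eq_top_iff.mpr inferInstance]
    exact le_top
  -- it suffices to show that D_u centralizes E
  suffices hmain : Du ≤ Subgroup.centralizer (E : Set G) by
    intro r hr v hv
    exact hmain (Subgroup.commutator_mem_commutator hr hv)
  rcases hcond with hc1 | hc2
  · -- Case 1: Thompson's A × B lemma
    have hC := hc1 u hu hu1
    apply Cfsg.Agent.S0028.result p (Subgroup.zpowers u) Du E (isPGroup_zpowers_of_pow_eq_one hup)
      ?_ hE ?_ (hEn _) (hEn _) ?_
    · rw [Nat.coprime_comm, Nat.Prime.coprime_iff_not_dvd Fact.out]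
      exact hDucard
    · rw [Subgroup.zpowers_le, Subgroup.mem_centralizer_iff]
      intro d hd
      have := hDuu hd
      rw [Subgroup.mem_centralizer_singleton_iff] at this
      exact this
    · rw [centralizer_zpowers_eq, ← hC]
      -- D_u centralizes C = C_E(U)
      set C : Subgroup G := E ⊓ Subgroup.centralizer (U : Set G) with hCdef
      have h1 : ⁅⁅U, C⁆, Ru⁆ = ⊥ := by
        have : ⁅U, C⁆ = ⊥ := by
          rw [Subgroup.commutator_comm, Subgroup.commutator_eq_bot_iff_le_centralizer]
          exact inf_le_right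
        rw [this, Subgroup.commutator_bot_left]
      have hRuC : Ru ≤ Subgroup.normalizer (C : Set G) := by
        intro r hr
        rw [hC]
        exact Subgroup.inf_normalizer_le_normalizer_inf
          ⟨hEn Ru hr, Subgroup.le_normalizer hr.2⟩
      have h2 : ⁅⁅C, Ru⁆, U⁆ = ⊥ := by
        have h3 : ⁅C, Ru⁆ ≤ C := commutator_le_of_le_normalizer hRuC
        have h4 : ⁅C, U⁆ = ⊥ := by
          rw [Subgroup.commutator_eq_bot_iff_le_centralizer]
          exact inf_le_right
        exact le_bot_iff.mp (h4 ▸ Subgroup.commutator_mono h3 le_rfl)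
      have h5 := Subgroup.commutator_commutator_eq_bot_of_rotate h1 h2
      rw [Subgroup.commutator_eq_bot_iff_le_centralizer] at h5
      exact Subgroup.le_centralizer_iff.mp h5
  · -- Case 2: the dual statement S2908
    have hW := hc2 u hu hu1
    set W : Subgroup G := ⁅E, U⁆ with hWdef
    have hWE : W ≤ E := commutator_le_of_le_normalizer (hEn U)
    -- N = N_G(W), M = kernel of the action on E / W
    have hUW : U ≤ Subgroup.normalizer (W : Set G) := Subgroup.normalizer_commutator_ge_right E U
    have hRuW : Ru ≤ Subgroup.normalizer (W : Set G) := by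
      intro r hr
      rw [hW]
      apply normalizer_inf_le_normalizer_commutator E (Subgroup.zpowers u)
      refine ⟨hEn Ru hr, ?_⟩
      apply centralizer_le_normalizer'
      rw [centralizer_zpowers_eq]
      exact hr.2
    -- every element of D_u acts trivially on E / W
    have hkey : ∀ d ∈ Du, d ∈ Subgroup.normalizer (W : Set G) ∧ ∀ e ∈ E, ⁅e, d⁆ ∈ W := by
      intro d hd
      rw [hDu, Subgroup.commutator_def] at hd
      induction hd using Subgroup.closure_induction with
      | mem d hd =>
        obtain ⟨r, hr, v, hv, rfl⟩ := hd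
        have hrN := hRuW hr
        have hvN := hUW hv
        refine ⟨?_, ?_⟩
        · have : ⁅r, v⁆ = r * v * r⁻¹ * v⁻¹ := rfl
          rw [this]
          exact Subgroup.mul_mem _ (Subgroup.mul_mem _ (Subgroup.mul_mem _ hrN hvN)
            (Subgroup.inv_mem _ hrN)) (Subgroup.inv_mem _ hvN)
        · intro e he
          -- ⁅e, r v r⁻¹ v⁻¹⁆
          have hv1 : ∀ e' ∈ E, ⁅e', v⁆ ∈ W := fun e' he' =>
            Subgroup.commutator_mem_commutator he' hv
          have hv2 : ∀ e' ∈ E, ⁅e', v⁻¹⁆ ∈ W := fun e' he' =>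
            Subgroup.commutator_mem_commutator he' (U.inv_mem hv)
          have hconj : ∀ e' ∈ E, ⁅e', r * v * r⁻¹⁆ ∈ W := by
            intro e' he'
            have h1 : ⁅e', r * v * r⁻¹⁆ = r * ⁅r⁻¹ * e' * r, v⁆ * r⁻¹ := by
              simp [commutatorElement_def, mul_assoc]
            rw [h1]
            have h2 : r⁻¹ * e' * r ∈ E := by
              have := (inferInstance : E.Normal).conj_mem e' he' r⁻¹
              simpa using this
            exact (Subgroup.mem_normalizer_iff.mp hrN _).mp (hv1 _ h2)
          have h3 : ⁅e, r * v * r⁻¹ * v⁻¹⁆ =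
              ⁅e, r * v * r⁻¹⁆ * (r * v * r⁻¹) * ⁅e, v⁻¹⁆ * (r * v * r⁻¹)⁻¹ :=
            commutatorElement_mul_right_eq_mul_conj e (r * v * r⁻¹) v⁻¹
          have : ⁅r, v⁆ = r * v * r⁻¹ * v⁻¹ := rfl
          rw [this, h3]
          have hrvN : r * v * r⁻¹ ∈ Subgroup.normalizer (W : Set G) :=
            Subgroup.mul_mem _ (Subgroup.mul_mem _ hrN hvN) (Subgroup.inv_mem _ hrN)
          have h4 := (Subgroup.mem_normalizer_iff.mp hrvN _).mp (hv2 e he)
          have h5 := W.mul_mem (hconj e he) h4
          simpa [mul_assoc] using h5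
      | one => exact ⟨Subgroup.one_mem _, fun e _ => by simp⟩
      | mul x y _ _ hx hy =>
        refine ⟨Subgroup.mul_mem _ hx.1 hy.1, fun e he => ?_⟩
        rw [commutatorElement_mul_right_eq_mul_conj]
        have h4 := (Subgroup.mem_normalizer_iff.mp hx.1 _).mp (hy.2 e he)
        have h5 := W.mul_mem (hx.2 e he) h4
        simpa [mul_assoc] using h5
      | inv x _ hx =>
        refine ⟨Subgroup.inv_mem _ hx.1, fun e he => ?_⟩
        rw [commutatorElement_inv_right, ← commutatorElement_inv]
        have h4 := (Subgroup.mem_normalizer_iff.mp (Subgroup.inv_mem _ hx.1) _).mp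
          (W.inv_mem (hx.2 e he))
        simpa using h4
    have hcomm : ⁅E, Du⁆ ≤ ⁅E, Subgroup.zpowers u⁆ := by
      rw [← hW, Subgroup.commutator_le]
      intro e he d hd
      exact (hkey d hd).2 e he
    have hAB : ⁅Subgroup.zpowers u, Du⁆ = ⊥ := by
      rw [Subgroup.commutator_comm, Subgroup.commutator_eq_bot_iff_le_centralizer,
        centralizer_zpowers_eq]
      exact hDuu
    have h6 := Cfsg.Agent.S2908.result E (Subgroup.zpowers u) Du hE
      (isPGroup_zpowers_of_pow_eq_one hup) hDucard (hEn _) (hEn _) hAB hcomm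
    rw [Subgroup.commutator_comm, Subgroup.commutator_eq_bot_iff_le_centralizer] at h6
    exact h6

end Cfsg.Agent.S2909
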