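import Cfsg.Statements.S2910
import Cfsg.Agent.Lib.Helper71.FrobeniusPCompl
import Cfsg.Agent.Lib.Helper24.Omega

set_option autoImplicit false
open Cfsg

namespace Cfsg.Agent.S2910

/-- Let p be an odd prime dividing the order of the finite group G and P a Sylow p-subgroup of G. If Ω₁(P) (generated by the elements of order dividing p) is contained in the centre of G, then G has a normal p-complement. In particular, if G is quasisimple then Ω₁(P) is not central in G. -/
theorem result {G : Type*} [Group G] [Finite G] {p : ℕ} [Fact p.Prime] (hp : p ≠ 2) (hdiv : p ∣ Nat.card G) (P : Sylow p G) (hZ : Cfsg.omegaOne p (P : Subgroup G) ≤ Subgroup.center G) : Cfsg.HasNormalPComplement p G ∧ ¬ Cfsg.IsQuasisimple G := by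
  have hP : ∀ H : Subgroup G, H ≤ (P : Subgroup G) → ∀ g ∈ Subgroup.normalizer (H : Set G),
      Nat.Coprime (orderOf g) p → g ∈ Subgroup.centralizer (H : Set G) := by
    intro H hHP g hg hcop
    have hHp : IsPGroup p H := P.isPGroup'.to_le hHP
    have hfix : ∀ x ∈ H, x ^ p = 1 → g * x = x * g := by
      intro x hx hxp
      have hxΩ : x ∈ omegaOne p (P : Subgroup G) := Subgroup.subset_closure ⟨hHP hx, hxp⟩
      exact Subgroup.mem_center_iff.mp (hZ hxΩ) g
    have h := Cfsg.Agent.Lib.Helper24.centralizes_of_centralizes_omega p hp g hcop H hHp hg hfix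
    rw [Subgroup.mem_centralizer_iff]
    intro x hx
    exact (h x hx).symm
  have hcompl : HasNormalPComplement p G :=
    Cfsg.Agent.Lib.Helper71.hasNormalPComplement_of_forall_coprime_centralize p
      (fun H hH g hg hcop => Cfsg.Agent.Lib.Helper71.coprime_centralize_of_sylow P hP H hH g hg hcop)
  refine ⟨hcompl, ?_⟩
  rintro ⟨hperf, -⟩
  obtain ⟨P', N, hN, hc⟩ := hcompl
  -- `G / N` is a nontrivial `p`-group, but perfect
  have hidx : N.index = Nat.card (P' : Subgroup G) := by
    have := hc.symm.index_eq_card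
    exact this
  have hcardQ : Nat.card (G ⧸ N) = Nat.card (P' : Subgroup G) := by
    rw [← Subgroup.index_eq_card, hidx]
  have hQp : IsPGroup p (G ⧸ N) := by
    obtain ⟨n, hn⟩ := P'.isPGroup'.exists_card_eq
    exact IsPGroup.of_card (n := n) (by rw [hcardQ, hn])
  have hnil : Group.IsNilpotent (G ⧸ N) := hQp.isNilpotent
  have hnt : Nontrivial (G ⧸ N) := by
    rw [← Finite.one_lt_card_iff_nontrivial, hcardQ]
    have h1 : (P' : Subgroup G) ≠ ⊥ := P'.ne_bot_of_dvd_card hdiv
    have h2 : Nat.card (P' : Subgroup G) ≠ 1 := fun h => h1 (Subgroup.card_eq_one.mp h)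
    have h3 : 0 < Nat.card (P' : Subgroup G) := Nat.card_pos
    omega
  have hperfQ : Group.IsPerfect (G ⧸ N) := inferInstance
  exact Group.IsPerfect.not_isNilpotent (G ⧸ N) hnil

end Cfsg.Agent.S2910
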