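import Cfsg.Statements.S2911
import Cfsg.Agent.Lib.Helper48.Transfer

set_option autoImplicit false
open Cfsg

namespace Cfsg.Agent.S2911

open Cfsg.Agent.Lib.Helper48

theorem dihedral_center (d : DihedralGroup 4) (hc : ∀ x : DihedralGroup 4, x * d = d * x)
    (hd : d ≠ 1) : d = DihedralGroup.r 1 * DihedralGroup.r 1 := by
  revert d
  decide

theorem zmod_two_sq (a : Multiplicative (ZMod 2)) : a * a = 1 := by
  revert a
  decide

theorem ofAdd_one_ne : (Multiplicative.ofAdd (1 : ZMod 2)) ≠ 1 := by
  decide

/-- A finite group whose Sylow 2-subgroups are isomorphic to the direct product of a group of order 2 and a dihedral group of order 8 has a subgroup of index two. -/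
theorem result {G : Type*} [Group G] [Finite G] (S : Sylow 2 G) (hS : Nonempty (↥(S : Subgroup G) ≃* Multiplicative (ZMod 2) × DihedralGroup 4)) : ∃ H : Subgroup G, H.index = 2 := by
  obtain ⟨e⟩ := hS
  -- the projection to the first factor
  let π : ↥(S : Subgroup G) →* Multiplicative (ZMod 2) :=
    (MonoidHom.fst _ _).comp e.toMonoidHom
  have hπ : ∀ s, π s = (e s).1 := fun s => rfl
  set K : Subgroup ↥(S : Subgroup G) := π.ker with hK
  have hKidx : K.index = 2 := by
    rw [hK, Subgroup.index_ker]
    have hsurj : Function.Surjective π := by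
      intro a
      refine ⟨e.symm (a, 1), ?_⟩
      rw [hπ, MulEquiv.apply_symm_apply]
    rw [MonoidHom.range_eq_top.mpr hsurj, Subgroup.card_top]
    rw [Nat.card_eq_fintype_card]
    rfl
  set Q : Subgroup G := K.map (S : Subgroup G).subtype with hQ
  have hQS : Q ≤ (S : Subgroup G) := Subgroup.map_subtype_le K
  have hQsub : Q.subgroupOf (S : Subgroup G) = K :=
    Subgroup.comap_map_eq_self_of_injective (Subgroup.subtype_injective _) K
  have hrel : Q.relIndex (S : Subgroup G) = 2 := by
    show (Q.subgroupOf (S : Subgroup G)).index = 2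
    rw [hQsub, hKidx]
  -- the central involution `u = (a, 1)`
  set u' : ↥(S : Subgroup G) := e.symm (Multiplicative.ofAdd (1 : ZMod 2), 1) with hu'
  have heu' : e u' = (Multiplicative.ofAdd (1 : ZMod 2), 1) := by
    rw [hu', MulEquiv.apply_symm_apply]
  have hu'1 : u' ≠ 1 := by
    intro h
    have := congrArg (fun s => (e s).1) h
    simp only [heu', map_one, Prod.fst_one] at this
    exact ofAdd_one_ne this
  have hu'2 : u' * u' = 1 := by
    apply e.injective
    rw [map_mul, heu', map_one e]
    apply Prod.ext
    · show Multiplicative.ofAdd (1 : ZMod 2) * Multiplicative.ofAdd (1 : ZMod 2) = 1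
      exact zmod_two_sq _
    · show (1 : DihedralGroup 4) * 1 = 1
      exact one_mul 1
  have hu'c : ∀ t' : ↥(S : Subgroup G), t' * u' = u' * t' := by
    intro t'
    apply e.injective
    rw [map_mul, map_mul, heu']
    apply Prod.ext
    · simp only [Prod.fst_mul]
      exact mul_comm _ _
    · simp
  set u : G := (u' : G) with hu
  have hu1 : u ≠ 1 := by
    intro h
    apply hu'1
    exact Subtype.ext h
  have huu : u ^ 2 = 1 := by
    have := congrArg Subtype.val hu'2
    rw [sq]
    simpa using this
  have huo : orderOf u = 2 := orderOf_eq_prime huu hu1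
  have huc : ∀ t ∈ (S : Subgroup G), t * u = u * t := by
    intro t ht
    have := congrArg Subtype.val (hu'c ⟨t, ht⟩)
    simpa using this
  rcases thompson_transfer_central S Q hQS hrel u huo huc with ⟨M, -, hM2, -⟩ | ⟨h, hh, hhu⟩
  · exact ⟨M, hM2⟩
  · exfalso
    obtain ⟨k, hkK, hkv⟩ := hhu
    have hkv : (k : G) = h * u * h⁻¹ := hkv
    have hk1 : (e k).1 = 1 := by
      rw [← hπ]
      exact hkK
    -- `k` is central in `S`
    have hkc : ∀ t' : ↥(S : Subgroup G), t' * k = k * t' := by
      intro t'
      apply Subtype.ext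
      show (t' : G) * (k : G) = (k : G) * (t' : G)
      rw [hkv]
      have h1 : h⁻¹ * (t' : G) * h ∈ (S : Subgroup G) := by
        rw [Subgroup.mem_normalizer_iff] at hh
        apply (hh _).mpr
        have e1 : h * (h⁻¹ * (t' : G) * h) * h⁻¹ = (t' : G) := by group
        rw [e1]
        exact t'.2
      have h2 := huc _ h1
      calc (t' : G) * (h * u * h⁻¹) = h * ((h⁻¹ * (t' : G) * h) * u) * h⁻¹ := by group
        _ = h * (u * (h⁻¹ * (t' : G) * h)) * h⁻¹ := by rw [h2]
        _ = h * u * h⁻¹ * (t' : G) := by group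
    have hdc : ∀ x : DihedralGroup 4, x * (e k).2 = (e k).2 * x := by
      intro x
      have := congrArg (fun s => (e s).2) (hkc (e.symm (1, x)))
      simpa using this
    have hd1 : (e k).2 ≠ 1 := by
      intro hd
      have hek : e k = 1 := Prod.ext hk1 hd
      have hk : k = 1 := by
        apply e.injective
        rw [hek, map_one]
      have hkG : (k : G) = 1 := by rw [hk]; rfl
      rw [hkv] at hkG
      apply hu1
      calc u = h⁻¹ * (h * u * h⁻¹) * h := by group
        _ = 1 := by rw [hkG]; group
    have hd := dihedral_center _ hdc hd1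
    -- `k` is a square in `S`
    set w' : ↥(S : Subgroup G) := e.symm (1, DihedralGroup.r 1) with hw'
    have hkw : k = w' * w' := by
      apply e.injective
      rw [map_mul, hw', MulEquiv.apply_symm_apply]
      apply Prod.ext
      · rw [hk1]
        show (1 : Multiplicative (ZMod 2)) = 1 * 1
        exact (one_mul 1).symm
      · rw [hd]
        rfl
    -- hence so is `u`
    have hy : h⁻¹ * (w' : G) * h ∈ (S : Subgroup G) := by
      rw [Subgroup.mem_normalizer_iff] at hh
      apply (hh _).mpr
      have e1 : h * (h⁻¹ * (w' : G) * h) * h⁻¹ = (w' : G) := by group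
      rw [e1]
      exact w'.2
    have huy : u' = (⟨h⁻¹ * (w' : G) * h, hy⟩ : (S : Subgroup G)) * ⟨h⁻¹ * (w' : G) * h, hy⟩ := by
      apply Subtype.ext
      show u = (h⁻¹ * (w' : G) * h) * (h⁻¹ * (w' : G) * h)
      have hkG : (k : G) = (w' : G) * (w' : G) := by rw [hkw]; rfl
      calc u = h⁻¹ * (h * u * h⁻¹) * h := by group
        _ = h⁻¹ * ((w' : G) * (w' : G)) * h := by rw [← hkv, hkG]
        _ = (h⁻¹ * (w' : G) * h) * (h⁻¹ * (w' : G) * h) := by group
    have := congrArg (fun s => (e s).1) huy
    simp only [heu', map_mul, Prod.fst_mul] at this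
    rw [zmod_two_sq] at this
    exact ofAdd_one_ne this

end Cfsg.Agent.S2911
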