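import Cfsg.Statements.S2912
import Cfsg.Agent.Lib.Helper2.ExtraspecialModule
-- import your own Cfsg.Agent.* helpers here

set_option autoImplicit false
open Cfsg

namespace Cfsg.Agent.S2912

open Cfsg.Agent.Lib.Helper2.CentralSplit Cfsg.Agent.Lib.Helper2.ExtraspecialModule

theorem cclass_of_extraspecial {p : ℕ} {E : Type*} [Group E] (h : Cfsg.IsExtraspecial p E) :
    CClass p E where
  cardZ := h.2
  comm := fun a b => by
    rw [← h.1.2.2, commutator_def]
    exact Subgroup.commutator_mem_commutator (Subgroup.mem_top a) (Subgroup.mem_top b)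

/-- Conjugation action of a subgroup `E` on a subgroup `A` which it normalizes. -/
def conjAut {G : Type*} [Group G] (E A : Subgroup G)
    (hnorm : E ≤ Subgroup.normalizer (A : Set G)) : ↥E →* MulAut ↥A where
  toFun g :=
    { toFun := fun a => ⟨(g : G) * a * (g : G)⁻¹,
        ((Subgroup.mem_normalizer_iff.mp (hnorm g.2)) a).mp a.2⟩
      invFun := fun a => ⟨(g : G)⁻¹ * a * (g : G)⁻¹⁻¹,
        ((Subgroup.mem_normalizer_iff.mp (inv_mem (hnorm g.2))) a).mp a.2⟩
      left_inv := fun a => Subtype.ext (by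
        show (g : G)⁻¹ * ((g : G) * a * (g : G)⁻¹) * (g : G)⁻¹⁻¹ = a
        group)
      right_inv := fun a => Subtype.ext (by
        show (g : G) * ((g : G)⁻¹ * a * (g : G)⁻¹⁻¹) * (g : G)⁻¹ = a
        group)
      map_mul' := fun a b => Subtype.ext (by
        show (g : G) * ((a : G) * (b : G)) * (g : G)⁻¹ =
          ((g : G) * a * (g : G)⁻¹) * ((g : G) * b * (g : G)⁻¹)
        group) }
  map_one' := by
    ext a
    show ((1 : E) : G) * a * ((1 : E) : G)⁻¹ = a
    simp
  map_mul' := fun g h => by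
    ext a
    show ((g * h : E) : G) * a * ((g * h : E) : G)⁻¹ =
      (g : G) * ((h : G) * a * (h : G)⁻¹) * (g : G)⁻¹
    rw [Subgroup.coe_mul]
    group

theorem conjAut_apply_coe {G : Type*} [Group G] (E A : Subgroup G)
    (hnorm : E ≤ Subgroup.normalizer (A : Set G)) (g : E) (a : A) :
    ((conjAut E A hnorm g a : A) : G) = (g : G) * a * (g : G)⁻¹ := rfl

/-- Let p and r be distinct primes, let E be an extraspecial subgroup of order p^(2w+1) of a finite group, and let A be an elementary abelian r-subgroup normalized by E on which E acts faithfully (C_E(A) = 1). If n ≥ 1 is least with p dividing rⁿ − 1 (the smallest dimension of a faithful representation of a group of order p over the field with r elements), then the order of A is at least r^(n·p^w). -/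
theorem result {G : Type*} [Group G] [Finite G] {p r : ℕ} [Fact p.Prime] [hr : Fact r.Prime] (hpr : p ≠ r) (E A : Subgroup G) (w : ℕ) (hE : Cfsg.IsExtraspecial p ↥E) (hEcard : Nat.card ↥E = p ^ (2 * w + 1)) (hA : Cfsg.IsElementaryAbelian r A) (hnorm : E ≤ Subgroup.normalizer (A : Set G)) (hfaith : E ⊓ Subgroup.centralizer (A : Set G) = ⊥) (n : ℕ) (hn : 1 ≤ n) (hdiv : p ∣ r ^ n - 1) (hmin : ∀ k : ℕ, 1 ≤ k → p ∣ r ^ k - 1 → n ≤ k) : r ^ (n * p ^ w) ≤ Nat.card ↥A := by
  have hp : p.Prime := Fact.out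
  have hΓ : CClass p ↥E := cclass_of_extraspecial hE
  let _ : CommGroup ↥A :=
    { (inferInstance : Group ↥A) with mul_comm := fun a b => hA.1.is_comm.comm a b }
  -- a nontrivial central element
  have h1 : 1 < Nat.card (Subgroup.center ↥E) := by rw [hΓ.cardZ]; exact hp.one_lt
  have : Nontrivial (Subgroup.center ↥E) := Finite.one_lt_card_iff_nontrivial.mp h1
  obtain ⟨z, hz⟩ := exists_ne (1 : Subgroup.center ↥E)
  have hz1 : (z : ↥E) ≠ 1 := fun h => hz (Subtype.ext h)
  refine card_ge_mul hpr n hmin w hΓ hEcard (conjAut E A hnorm)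
    (fun a => Subtype.ext (hA.2 a a.2)) (z : ↥E) z.2 hz1 ?_
  by_contra hcon
  push Not at hcon
  apply hz1
  have hmem : ((z : ↥E) : G) ∈ E ⊓ Subgroup.centralizer (A : Set G) := by
    refine Subgroup.mem_inf.mpr ⟨(z : ↥E).2, ?_⟩
    rw [Subgroup.mem_centralizer_iff]
    intro a ha
    have h2 := congrArg (fun t : ↥A => (t : G)) (hcon ⟨a, ha⟩)
    simp only [conjAut_apply_coe] at h2
    -- h2 : z * a * z⁻¹ = a
    rw [mul_inv_eq_iff_eq_mul] at h2
    exact h2.symm
  rw [hfaith, Subgroup.mem_bot] at hmem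
  exact Subtype.ext hmem

end Cfsg.Agent.S2912
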