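import Cfsg.Statements.S2922
import Cfsg.Agent.Lib.Helper49.FStarCharP

set_option autoImplicit false
open Cfsg

namespace Cfsg.Agent.S2922

open Cfsg.Agent.Lib.Helper49

/-- General step: if `M` has characteristic `p`, `N` is a subgroup such that `C_N(O_p(N)) ≤ M` and
`M ≤ N`-part normalizes it, then `N` has characteristic `p`. -/
theorem charPIn_of_centralizer_le {X : Type*} [Group X] [Finite X] {p : ℕ} [Fact p.Prime]
    {M N : Subgroup X} (hM : CharPIn p M) (hMN : M ≤ N)
    (hDM : N ⊓ Subgroup.centralizer ((pCoreIn p N : Subgroup X) : Set X) ≤ M) : CharPIn p N := by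
  apply CharPIn.of_centralizer
  apply hM.of_normal hDM
  intro m hm
  exact mem_normalizer_inf (Subgroup.le_normalizer (hMN hm))
    (normalizer_le_normalizer_centralizer _ (le_normalizer_pCoreIn p N (hMN hm)))


/-- Let p be a prime, X a finite group, B a p-subgroup of X and C a normal subgroup of B. If N_X(C) has characteristic p (its generalized Fitting subgroup is O_p(N_X(C))), then N_X(B) and C_X(B) have characteristic p. -/
theorem result {X : Type*} [Group X] [Finite X] {p : ℕ} [Fact p.Prime] (B C : Subgroup X) (hB : IsPGroup p ↥B) (hCB : C ≤ B) (hCn : (C.subgroupOf B).Normal) (hC : Cfsg.generalizedFittingSubgroup ↥(Subgroup.normalizer (C : Set X)) = Cfsg.pCore p ↥(Subgroup.normalizer (C : Set X))) : Cfsg.generalizedFittingSubgroup ↥(Subgroup.normalizer (B : Set X)) = Cfsg.pCore p ↥(Subgroup.normalizer (B : Set X)) ∧ Cfsg.generalizedFittingSubgroup ↥(Subgroup.centralizer (B : Set X)) = Cfsg.pCore p ↥(Subgroup.centralizer (B : Set X)) := by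
  set H := Subgroup.normalizer (C : Set X) with hHdef
  have hH : CharPIn p H := (charPIn_iff H).mpr (generalizedFittingSubgroup_eq_pCore_iff.mp hC)
  have hBH : B ≤ H := (Subgroup.normal_subgroupOf_iff_le_normalizer hCB).mp hCn
  have hM : CharPIn p (H ⊓ Subgroup.normalizer (B : Set X)) := hH.normalizer_inf hBH hB
  have hCC : Subgroup.centralizer (B : Set X) ≤ H :=
    (Subgroup.centralizer_le hCB).trans (Subgroup.centralizer_le_normalizer _)
  constructor
  · -- N = N_X(B)
    have hBO : B ≤ pCoreIn p (Subgroup.normalizer (B : Set X)) :=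
      le_pCoreIn_of_normalized Subgroup.le_normalizer le_rfl hB
    have hN : CharPIn p (Subgroup.normalizer (B : Set X)) := by
      apply charPIn_of_centralizer_le hM inf_le_right
      apply le_inf _ inf_le_left
      exact inf_le_right.trans ((Subgroup.centralizer_le hBO).trans hCC)
    exact generalizedFittingSubgroup_eq_pCore_iff.mpr ((charPIn_iff _).mp hN)
  · -- N' = C_X(B)
    have hM' : CharPIn p (H ⊓ Subgroup.centralizer (B : Set X)) := by
      apply hM.of_normal (inf_le_inf_left _ (Subgroup.centralizer_le_normalizer _))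
      intro m hm
      exact mem_normalizer_inf (Subgroup.le_normalizer hm.1)
        (normalizer_le_normalizer_centralizer B hm.2)
    have hN' : CharPIn p (Subgroup.centralizer (B : Set X)) := by
      apply charPIn_of_centralizer_le hM' inf_le_right
      exact le_inf (inf_le_left.trans hCC) inf_le_left
    exact generalizedFittingSubgroup_eq_pCore_iff.mpr ((charPIn_iff _).mp hN')

end Cfsg.Agent.S2922
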