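import Cfsg.Statements.S2959
import Cfsg.Agent.Lib.Helper49.CharP

set_option autoImplicit false
open Cfsg

namespace Cfsg.Agent.S2959

open Cfsg.Agent.Lib.Helper49

/-- Let G be a finite group with C_G(O_p(G)) ≤ O_p(G) and L a subgroup of G normalized by O_p(G). Then C_L(O_p(L)) ≤ O_p(L). -/
theorem result {G : Type*} [Group G] [Finite G] {p : ℕ} [Fact p.Prime] (hG : Subgroup.centralizer (Cfsg.pCore p G : Set G) ≤ Cfsg.pCore p G) (L : Subgroup G) (hL : Cfsg.pCore p G ≤ Subgroup.normalizer (L : Set G)) : Subgroup.centralizer (Cfsg.pCore p ↥L : Set ↥L) ≤ Cfsg.pCore p ↥L := by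
  apply centralizer_pCore_le_of_forall_coprime_eq_one
  intro x hx hcop
  have hx1 : (x : G) = 1 := by
    apply eq_one_of_coprime_of_commute_comm hG (by rwa [Subgroup.orderOf_coe])
    intro r hr
    have hrn := hL hr
    have hzL : (x : G) * r * (x : G)⁻¹ * r⁻¹ ∈ L := by
      have h1 : r * (x : G)⁻¹ * r⁻¹ ∈ L :=
        (Subgroup.mem_normalizer_iff.mp hrn _).mp (L.inv_mem x.2)
      have h2 : (x : G) * r * (x : G)⁻¹ * r⁻¹ = (x : G) * (r * (x : G)⁻¹ * r⁻¹) := by group
      rw [h2]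
      exact L.mul_mem x.2 h1
    have hzR : (x : G) * r * (x : G)⁻¹ * r⁻¹ ∈ pCore p G :=
      (pCore p G).mul_mem ((pCore_normal p G).conj_mem r hr x) ((pCore p G).inv_mem hr)
    have hzP := mem_pCore_subgroup_of_mem_pCore L hzL hzR
    have hc := (Subgroup.mem_centralizer_iff.mp hx) _ hzP
    have hc' := congrArg Subtype.val hc
    simp only [Subgroup.coe_mul] at hc'
    exact hc'.symm
  exact Subtype.ext hx1

end Cfsg.Agent.S2959
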