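import Cfsg.Statements.S2923
import Cfsg.Agent.Lib.Helper49.CharP
import Cfsg.Agent.S2959

set_option autoImplicit false
open Cfsg

namespace Cfsg.Agent.S2923

theorem pCore_map_le {p : ℕ} {H H' : Type*} [Group H] [Group H'] (e : H ≃* H') :
    (pCore p H).map e.toMonoidHom ≤ pCore p H' := by
  rw [Subgroup.map_le_iff_le_comap]
  apply sSup_le
  rintro N ⟨hN, hNp⟩
  rw [← Subgroup.map_le_iff_le_comap]
  apply le_sSup
  exact ⟨hN.map e.toMonoidHom e.surjective, hNp.map e.toMonoidHom⟩

theorem charP_of_mulEquiv {p : ℕ} {H H' : Type*} [Group H] [Group H'] (e : H ≃* H')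
    (h : Subgroup.centralizer (pCore p H : Set H) ≤ pCore p H) :
    Subgroup.centralizer (pCore p H' : Set H') ≤ pCore p H' := by
  intro x' hx'
  have hx : e.symm x' ∈ Subgroup.centralizer (pCore p H : Set H) := by
    rw [Subgroup.mem_centralizer_iff] at hx' ⊢
    intro y hy
    have hy' : e y ∈ pCore p H' := pCore_map_le e ⟨y, hy, rfl⟩
    have := hx' _ hy'
    apply e.injective
    simpa using this
  have := pCore_map_le e ⟨_, h hx, rfl⟩
  simpa using this


/-- Let p be a prime and X a finite group of characteristic p, that is C_X(O_p(X)) ≤ O_p(X). Then every subnormal subgroup of X has characteristic p. -/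
theorem result {X : Type*} [Group X] [Finite X] {p : ℕ} [Fact p.Prime] (hX : Subgroup.centralizer (Cfsg.pCore p X : Set X) ≤ Cfsg.pCore p X) (Y : Subgroup X) (hY : Y.IsSubnormal) : Subgroup.centralizer (Cfsg.pCore p ↥Y : Set ↥Y) ≤ Cfsg.pCore p ↥Y := by
  induction hY with
  | top =>
    exact charP_of_mulEquiv (Subgroup.topEquiv (G := X)).symm hX
  | step H K h_le hSubn hN ih =>
    have h1 := Cfsg.Agent.S2959.result (G := K) (p := p) ih (H.subgroupOf K) (by
      rw [Subgroup.normalizer_eq_top_iff.mpr hN]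
      exact le_top)
    exact charP_of_mulEquiv (Subgroup.subgroupOfEquivOfLe h_le) h1

end Cfsg.Agent.S2923
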