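import Cfsg.Statements.S2925
import Mathlib
import Cfsg.Agent.Lib.Helper21.Components
import Cfsg.Agent.Lib.Helper49.SubnormalSylow

set_option autoImplicit false
open Cfsg

namespace Cfsg.Agent.S2925

open Cfsg.Agent.Lib.Helper49 Cfsg.Agent.Lib.Helper21

/-- pure group computation: if `c_t = t⁻¹ (y t y⁻¹)` and `c_s` commute, and `s,t` commute with
`y s y⁻¹, y t y⁻¹`, then `w = s t s⁻¹ t⁻¹` is fixed by conjugation with `y`. -/
theorem comm_fixed {X : Type*} [Group X] {s t y : X}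
    (hY : (t⁻¹ * (y * t * y⁻¹)) * (s⁻¹ * (y * s * y⁻¹)) = (s⁻¹ * (y * s * y⁻¹)) * (t⁻¹ * (y * t * y⁻¹)))
    (h1 : (y * t * y⁻¹) * s⁻¹ = s⁻¹ * (y * t * y⁻¹))
    (h2 : (y * s * y⁻¹) * t⁻¹ = t⁻¹ * (y * s * y⁻¹)) :
    y * (s * t * s⁻¹ * t⁻¹) * y⁻¹ = t * s * t⁻¹ * s⁻¹ := by
  -- from hY: t⁻¹ s⁻¹ t' s' = s⁻¹ t⁻¹ s' t'
  have e1 : t⁻¹ * s⁻¹ * ((y * t * y⁻¹) * (y * s * y⁻¹)) = s⁻¹ * t⁻¹ * ((y * s * y⁻¹) * (y * t * y⁻¹)) := by
    calc t⁻¹ * s⁻¹ * ((y * t * y⁻¹) * (y * s * y⁻¹))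
        = t⁻¹ * (s⁻¹ * (y * t * y⁻¹)) * (y * s * y⁻¹) := by group
      _ = t⁻¹ * ((y * t * y⁻¹) * s⁻¹) * (y * s * y⁻¹) := by rw [h1]
      _ = (t⁻¹ * (y * t * y⁻¹)) * (s⁻¹ * (y * s * y⁻¹)) := by group
      _ = (s⁻¹ * (y * s * y⁻¹)) * (t⁻¹ * (y * t * y⁻¹)) := hY
      _ = s⁻¹ * ((y * s * y⁻¹) * t⁻¹) * (y * t * y⁻¹) := by group
      _ = s⁻¹ * (t⁻¹ * (y * s * y⁻¹)) * (y * t * y⁻¹) := by rw [h2]
      _ = s⁻¹ * t⁻¹ * ((y * s * y⁻¹) * (y * t * y⁻¹)) := by group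
  have e2 : (y * t * y⁻¹) * (y * s * y⁻¹) = y * (t * s) * y⁻¹ := by group
  have e3 : (y * s * y⁻¹) * (y * t * y⁻¹) = y * (s * t) * y⁻¹ := by group
  rw [e2, e3] at e1
  -- (ts)⁻¹ y (ts) y⁻¹ = (st)⁻¹ y (st) y⁻¹
  calc y * (s * t * s⁻¹ * t⁻¹) * y⁻¹
      = (y * (s * t) * y⁻¹) * (y * (t * s) * y⁻¹)⁻¹ := by group
    _ = (t * s) * (s⁻¹ * t⁻¹ * (y * (s * t) * y⁻¹)) * (y * (t * s) * y⁻¹)⁻¹ := by group
    _ = (t * s) * (t⁻¹ * s⁻¹ * (y * (t * s) * y⁻¹)) * (y * (t * s) * y⁻¹)⁻¹ := by rw [e1]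
    _ = t * s * t⁻¹ * s⁻¹ := by group


/-- Let K be a component of the finite group X and T a Sylow 2-subgroup of X. If some abelian normal subgroup Y of T does not normalize K, then K ⧸ Z(K) has abelian Sylow 2-subgroups. -/
theorem result {X : Type*} [Group X] [Finite X] (K : Subgroup X) (hK : Cfsg.IsComponent K) (T : Sylow 2 X) (Y : Subgroup X) (hYT : Y ≤ (T : Subgroup X)) (hYn : (Y.subgroupOf (T : Subgroup X)).Normal) (hYab : IsMulCommutative ↥Y) (hnot : ¬ Y ≤ Subgroup.normalizer (K : Set X)) (P : Sylow 2 (↥K ⧸ Subgroup.center ↥K)) : IsMulCommutative ↥(P : Subgroup (↥K ⧸ Subgroup.center ↥K)) := by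
  classical
  -- pick y ∈ Y not normalizing K
  obtain ⟨y, hyY, hyN⟩ : ∃ y ∈ Y, y ∉ Subgroup.normalizer (K : Set X) := by
    by_contra hcon
    push Not at hcon
    exact hnot hcon
  have hK' : Cfsg.IsComponent (K.map (MulAut.conj y).toMonoidHom) := isComponent_map_conj hK y
  have hne : K ≠ K.map (MulAut.conj y).toMonoidHom := by
    intro h
    apply hyN
    rw [Subgroup.mem_normalizer_iff_map_conj_eq]
    exact h.symm
  have hcomm := component_commutator_eq_bot_of_ne hK hK' hne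
  rw [Subgroup.commutator_eq_bot_iff_le_centralizer] at hcomm
  -- elements of K commute with elements of yKy⁻¹
  have hc : ∀ a ∈ K, ∀ b ∈ K, (y * b * y⁻¹) * a = a * (y * b * y⁻¹) := by
    intro a ha b hb
    have hb' : y * b * y⁻¹ ∈ K.map (MulAut.conj y).toMonoidHom := ⟨b, hb, rfl⟩
    exact (Subgroup.mem_centralizer_iff.mp (hcomm ha)) _ hb'
  -- commutators of elements of T ∩ K are central in K
  have hcent : ∀ s ∈ (T : Subgroup X), s ∈ K → ∀ t ∈ (T : Subgroup X), t ∈ K →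
      ∀ k ∈ K, (s * t * s⁻¹ * t⁻¹) * k = k * (s * t * s⁻¹ * t⁻¹) := by
    intro s hsT hsK t htT htK k hk
    have hYn := hYn
    have hct : ∀ u ∈ (T : Subgroup X), u⁻¹ * (y * u * y⁻¹) ∈ Y := by
      intro u hu
      have h1 : (⟨u⁻¹, Subgroup.inv_mem _ hu⟩ : (T : Subgroup X)) * ⟨y, hYT hyY⟩ * (⟨u⁻¹, Subgroup.inv_mem _ hu⟩ : (T : Subgroup X))⁻¹
          ∈ Y.subgroupOf (T : Subgroup X) :=
        hYn.conj_mem _ (Subgroup.mem_subgroupOf.mpr hyY) _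
      rw [Subgroup.mem_subgroupOf] at h1
      simp only [Subgroup.coe_mul, Subgroup.coe_inv, inv_inv] at h1
      have h2 : u⁻¹ * (y * u * y⁻¹) = (u⁻¹ * y * u) * y⁻¹ := by group
      rw [h2]
      exact Y.mul_mem h1 (Y.inv_mem hyY)
    have hYc : (t⁻¹ * (y * t * y⁻¹)) * (s⁻¹ * (y * s * y⁻¹)) = (s⁻¹ * (y * s * y⁻¹)) * (t⁻¹ * (y * t * y⁻¹)) := by
      have := hYab.is_comm.comm ⟨_, hct t htT⟩ ⟨_, hct s hsT⟩
      exact congrArg Subtype.val this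
    have hfix := comm_fixed (s := t) (t := s) hYc.symm (hc t⁻¹ (K.inv_mem htK) s hsK)
      (hc s⁻¹ (K.inv_mem hsK) t htK)
    have hwK : t * s * t⁻¹ * s⁻¹ ∈ K := K.mul_mem (K.mul_mem (K.mul_mem htK hsK) (K.inv_mem htK)) (K.inv_mem hsK)
    have := hc k hk _ hwK
    rw [hfix] at this
    exact this
  -- a Sylow 2-subgroup of K equal to T ∩ K
  obtain ⟨PK, hPK⟩ := exists_sylow_eq_subgroupOf_of_isSubnormal T hK.1
  have hsurj : Function.Surjective (QuotientGroup.mk' (Subgroup.center ↥K)) :=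
    QuotientGroup.mk'_surjective _
  set Q := PK.mapSurjective hsurj with hQ
  have hQcomm : ∀ a ∈ (Q : Subgroup (↥K ⧸ Subgroup.center ↥K)), ∀ b ∈ (Q : Subgroup (↥K ⧸ Subgroup.center ↥K)),
      a * b = b * a := by
    intro a ha b hb
    rw [hQ, Sylow.coe_mapSurjective] at ha hb
    obtain ⟨s, hs, rfl⟩ := ha
    obtain ⟨t, ht, rfl⟩ := hb
    rw [SetLike.mem_coe, hPK, Subgroup.mem_subgroupOf] at hs ht
    have hz : s * t * s⁻¹ * t⁻¹ ∈ Subgroup.center ↥K := by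
      rw [Subgroup.mem_center_iff]
      intro k
      apply Subtype.ext
      have := hcent s hs s.2 t ht t.2 k k.2
      simpa using this.symm
    have h1 : (QuotientGroup.mk' (Subgroup.center ↥K)) (s * t * s⁻¹ * t⁻¹) = 1 := by
      rw [QuotientGroup.mk'_apply, QuotientGroup.eq_one_iff]
      exact hz
    rw [map_mul, map_mul, map_mul, map_inv, map_inv] at h1
    calc (QuotientGroup.mk' (Subgroup.center ↥K)) s * (QuotientGroup.mk' (Subgroup.center ↥K)) t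
        = ((QuotientGroup.mk' (Subgroup.center ↥K)) s * (QuotientGroup.mk' (Subgroup.center ↥K)) t
            * ((QuotientGroup.mk' (Subgroup.center ↥K)) s)⁻¹ * ((QuotientGroup.mk' (Subgroup.center ↥K)) t)⁻¹)
            * ((QuotientGroup.mk' (Subgroup.center ↥K)) t * (QuotientGroup.mk' (Subgroup.center ↥K)) s) := by group
      _ = (QuotientGroup.mk' (Subgroup.center ↥K)) t * (QuotientGroup.mk' (Subgroup.center ↥K)) s := by
          rw [h1, one_mul]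
  -- transfer to P
  have e : ↥(P : Subgroup (↥K ⧸ Subgroup.center ↥K)) ≃* ↥(Q : Subgroup (↥K ⧸ Subgroup.center ↥K)) :=
    Sylow.equiv P Q
  refine ⟨⟨fun a b => ?_⟩⟩
  apply e.injective
  rw [map_mul, map_mul]
  apply Subtype.ext
  exact hQcomm _ (e a).2 _ (e b).2

end Cfsg.Agent.S2925
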