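import Cfsg.Statements.S2929
-- import your own Cfsg.Agent.* helpers here
import Mathlib
import Cfsg.Agent.Lib.Helper22.FStar
import Cfsg.Agent.Lib.Helper48.AltOvergroup
import Cfsg.Agent.Lib.Helper48.SylowThreeCover

set_option autoImplicit false
open Cfsg

namespace Cfsg.Agent.S2929

open Cfsg.Agent.Lib.Helper48

/-- Let n ≥ 5 and let H be a subgroup of the symmetric group of degree n whose generalized Fitting subgroup F*(H) is quasisimple. If H contains a Sylow 3-subgroup of the symmetric group, then F*(H) is isomorphic to an alternating group of degree m for some m ∈ {n − 2, n − 1, n}. -/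
theorem result (n : ℕ) (hn : 5 ≤ n) (H : Subgroup (Equiv.Perm (Fin n))) (hF : Cfsg.IsQuasisimple ↥(Cfsg.generalizedFittingSubgroup ↥H)) (hS : ∃ P : Sylow 3 (Equiv.Perm (Fin n)), (P : Subgroup (Equiv.Perm (Fin n))) ≤ H) : ∃ m : ℕ, (m = n - 2 ∨ m = n - 1 ∨ m = n) ∧ Nonempty (↥(Cfsg.generalizedFittingSubgroup ↥H) ≃* ↥(alternatingGroup (Fin m))) := by
  classical
  obtain ⟨P, hPH⟩ := hS
  set E₀ : Subgroup ↥H := Cfsg.generalizedFittingSubgroup ↥H with hE₀
  set E : Subgroup (Equiv.Perm (Fin n)) := E₀.map H.subtype with hE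
  have hE₀n : E₀.Normal := Cfsg.Agent.Lib.Helper29.generalizedFittingSubgroup_normal ↥H
  have hEH : E ≤ H := Subgroup.map_subtype_le E₀
  have hHE : H ≤ Subgroup.normalizer (E : Set (Equiv.Perm (Fin n))) := by
    apply le_normalizer_of_conj_mem
    rintro g hg _ ⟨e, he, rfl⟩
    refine ⟨⟨g, hg⟩ * e * ⟨g, hg⟩⁻¹, hE₀n.conj_mem e he ⟨g, hg⟩, ?_⟩
    simp
  have hB : ∀ g ∈ H, (∀ e ∈ E, g * e = e * g) → g ∈ E := by
    intro g hg hc
    have h1 : (⟨g, hg⟩ : ↥H) ∈ Subgroup.centralizer (E₀ : Set ↥H) := by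
      rw [Subgroup.mem_centralizer_iff]
      intro e he
      apply Subtype.ext
      exact (hc e.1 ⟨e, he, rfl⟩).symm
    have h2 := Cfsg.Agent.Lib.Helper22.centralizer_generalizedFittingSubgroup_le h1
    exact ⟨⟨g, hg⟩, h2, rfl⟩
  have hqs : Cfsg.IsQuasisimple ↥E :=
    Cfsg.Agent.Lib.Helper29.isQuasisimple_of_mulEquiv
      (Subgroup.equivMapOfInjective E₀ H.subtype H.subtype_injective) hF
  obtain ⟨U, hUcard, hU⟩ := exists_cover_of_sylow_three n P
  have hU' : ∀ y ∈ U, ∃ c ∈ H, c.IsThreeCycle ∧ y ∈ c.support := by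
    intro y hy
    obtain ⟨c, hcP, hc⟩ := hU y hy
    exact ⟨c, hPH hcP, hc⟩
  obtain ⟨Δ, hEΔ, hΔ⟩ := exists_altOn_eq H E hEH hHE hB hqs U hU'
    (by rw [Fintype.card_fin]; exact hUcard)
  rw [Fintype.card_fin] at hΔ
  have hΔn : Δ.card ≤ n := by
    have := Finset.card_le_univ Δ
    rwa [Fintype.card_fin] at this
  refine ⟨Δ.card, by omega, ?_⟩
  have e1 : ↥E₀ ≃* ↥E := Subgroup.equivMapOfInjective E₀ H.subtype H.subtype_injective
  have e2 : ↥E ≃* ↥(altOn Δ) := MulEquiv.subgroupCongr hEΔ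
  have e3 : ↥(altOn Δ) ≃* ↥(alternatingGroup {y // y ∈ Δ}) := (altOn_equiv Δ).symm
  have e4 : ↥(alternatingGroup {y // y ∈ Δ}) ≃* ↥(alternatingGroup (Fin Δ.card)) :=
    Equiv.altCongrHom (Fintype.equivFinOfCardEq (Fintype.card_coe Δ))
  exact ⟨((e1.trans e2).trans e3).trans e4⟩

end Cfsg.Agent.S2929
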