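import Cfsg.Statements.S2931
import Cfsg.Agent.S0288
import Cfsg.Agent.S0246
import Cfsg.Agent.Lib.Helper5.SymplecticOrder
import Cfsg.Agent.Lib.Helper7.S2931A
import Cfsg.Agent.Lib.Helper7.S2931B

set_option autoImplicit false
open Cfsg

namespace Cfsg.Agent.S2931

/-- The Sylow 2-subgroups of the alternating group of degree 8 and of PSp₄(3) are isomorphic, and so are the Sylow 2-subgroups of the symmetric group of degree 8 and of the full isometry group of a non-degenerate quadratic form of minus type in dimension 6 over the field with 2 elements. -/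
theorem result (F : Type) [Field F] [Fintype F] (hF : Fintype.card F = 3) (K : Type) [Field K] [Fintype K] (hK : Fintype.card K = 2) (a b : K) (hab : ∀ z₁ z₂ : K, z₁ ^ 2 + a * z₁ * z₂ + b * z₂ ^ 2 = 0 → z₁ = 0 ∧ z₂ = 0) (P : Sylow 2 ↥(alternatingGroup (Fin 8))) (Q : Sylow 2 (Cfsg.PSp 2 F)) (P' : Sylow 2 (Equiv.Perm (Fin 8))) (Q' : Sylow 2 ↥(Cfsg.isometryGroup K (Cfsg.quadFormMinus 2 K a b))) : Nonempty (↥(P : Subgroup ↥(alternatingGroup (Fin 8))) ≃* ↥(Q : Subgroup (Cfsg.PSp 2 F))) ∧ Nonempty (↥(P' : Subgroup (Equiv.Perm (Fin 8))) ≃* ↥(Q' : Subgroup ↥(Cfsg.isometryGroup K (Cfsg.quadFormMinus 2 K a b)))) := by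
  classical
  constructor
  · -- PSp₄(3) against A₈
    let φ : ZMod 3 →+* F := (ZMod.ringEquivOfPrime F Nat.prime_three hF).toRingHom
    have hSp : Nat.card (Matrix.symplecticGroup (Fin 2) F) = 51840 := by
      rw [Cfsg.Agent.Lib.Helper5.card_symplecticGroup, hF]
      simp [Finset.prod_range_succ]
    have hZ : Nat.card (Subgroup.center (Matrix.symplecticGroup (Fin 2) F)) = 2 := by
      exact (Cfsg.Agent.S0246.result hF 2 (by norm_num)).trans (by norm_num)
    have hP : Nat.card (Cfsg.PSp 2 F) = 25920 := by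
      have h := Subgroup.card_eq_card_quotient_mul_card_subgroup
        (Subgroup.center (Matrix.symplecticGroup (Fin 2) F))
      rw [hSp, hZ] at h
      have h' : Nat.card (Cfsg.PSp 2 F) * 2 = 51840 := h.symm
      omega
    exact Cfsg.Agent.Lib.Helper7.S2931A.sylow_equiv φ (by rw [hP]; norm_num) Q P
  · -- GO₆⁻(2) against S₈
    let e : ZMod 2 ≃+* K := ZMod.ringEquivOfPrime K Nat.prime_two hK
    have h01 : ∀ x : K, x = 0 ∨ x = 1 := by
      intro x
      have hx : ∀ y : ZMod 2, y = 0 ∨ y = 1 := by decide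
      rcases hx (e.symm x) with h | h
      · left
        have := congrArg e h
        simpa using this
      · right
        have := congrArg e h
        simpa using this
    have h2 : (2 : K) = 0 := by
      rcases h01 2 with h | h
      · exact h
      · exfalso
        have h1 : (1 : K) = 0 := by linear_combination h
        exact one_ne_zero h1
    have hb : b = 1 := by
      rcases h01 b with h | h
      · exfalso
        have := hab 0 1 (by rw [h]; ring)
        exact one_ne_zero this.2
      · exact h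
    have ha : a = 1 := by
      rcases h01 a with h | h
      · exfalso
        have := hab 1 1 (by rw [h, hb]; linear_combination h2)
        exact one_ne_zero this.2
      · exact h
    subst ha hb
    have hQ : ∀ u : Cfsg.Agent.Lib.Helper7.S2931B.I6 → ZMod 2,
        Cfsg.quadFormMinus 2 K 1 1 (fun j => e (u j)) =
          e (Cfsg.Agent.Lib.Helper7.S2931B.QB u) := by
      intro u
      unfold Cfsg.Agent.Lib.Helper7.S2931B.QB Cfsg.quadFormMinus
      simp only [map_add, map_sum, map_mul, map_pow, map_one]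
    let τ := Cfsg.Agent.Lib.Helper7.IsoTransfer.isoTransfer e
      Cfsg.Agent.Lib.Helper7.S2931B.QB (Cfsg.quadFormMinus 2 K 1 1) hQ
    have hcard : Nat.card (Cfsg.isometryGroup K (Cfsg.quadFormMinus 2 K 1 1)) = 51840 := by
      have h := Cfsg.Agent.S0288.result hK 3 (by norm_num) (1 : K) 1 hab
      have h' : Nat.card (Cfsg.isometryGroup K (Cfsg.quadFormMinus 2 K 1 1)) =
          2 * 2 ^ (3 * (3 - 1)) * (2 ^ 3 + 1) * ∏ i ∈ Finset.range (3 - 1), (2 ^ (2 * (i + 1)) - 1) := h
      rw [h']
      simp [Finset.prod_range_succ]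
    exact Cfsg.Agent.Lib.Helper7.S2931B.sylow_equiv τ.toMonoidHom τ.injective
      (by rw [hcard]; norm_num) Q' P'

end Cfsg.Agent.S2931
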