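import Cfsg.Statements.S2933
import Cfsg.Agent.Lib.Helper98.TwoRhoT16
import Cfsg.Agent.Lib.Helper98.Fpf64Main
import Cfsg.Agent.Lib.Helper98.ConjAut

set_option autoImplicit false
set_option linter.unusedSimpArgs false
set_option linter.style.haveILetI false
open Cfsg

namespace Cfsg.Agent.S2933

open Subgroup
open Cfsg.Agent.Lib.Helper98
open Cfsg.Agent.Lib.Helper98.ConjAut
open Cfsg.Agent.Lib.Helper98.TwoAux

/-- Let T be a 2-subgroup of a finite group G, V ≤ Z(T) a four-group, and t, ρ ∈ N_G(V) ∩ N_G(T) elements of order 2 and 3 with t commuting with ρ and with V. If [V, ρ] = V and C_T(t) = V, then T is elementary abelian of order 16, or homocyclic of rank 2 (ℤ/2ⁿ × ℤ/2ⁿ for some n ≥ 1), or isomorphic to a Sylow 2-subgroup of PSL₃(4) or of PSU₃(4). -/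
theorem result {G : Type*} [Group G] [Finite G] (T V : Subgroup G) (hT : IsPGroup 2 ↥T) (hVT : V ≤ T ⊓ Subgroup.centralizer (T : Set G)) (hV : Nat.card ↥V = 4 ∧ ∀ v ∈ V, v ^ 2 = 1) (t ρ : G) (ht : orderOf t = 2) (hρ : orderOf ρ = 3) (htn : t ∈ Subgroup.normalizer (V : Set G) ⊓ Subgroup.normalizer (T : Set G)) (hρn : ρ ∈ Subgroup.normalizer (V : Set G) ⊓ Subgroup.normalizer (T : Set G)) (htρ : t * ρ = ρ * t) (htV : t ∈ Subgroup.centralizer (V : Set G)) (hVρ : ⁅V, Subgroup.zpowers ρ⁆ = V) (hCt : T ⊓ Subgroup.centralizer ({t} : Set G) = V) : (Nat.card ↥T = 16 ∧ ∀ x ∈ T, x ^ 2 = 1) ∨ (∃ n : ℕ, 1 ≤ n ∧ Nonempty (↥T ≃* Multiplicative (ZMod (2 ^ n)) × Multiplicative (ZMod (2 ^ n)))) ∨ (∃ (F : Type) (_ : Field F) (_ : Fintype F), Fintype.card F = 4 ∧ ∀ P : Sylow 2 (Matrix.ProjectiveSpecialLinearGroup (Fin 3) F), Nonempty (↥T ≃* ↥(P : Subgroup (Matrix.ProjectiveSpecialLinearGroup (Fin 3) F)))) ∨ (∃ (F : Type) (_ : Field F) (_ : Fintype F), Fintype.card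 F = 16 ∧ ∀ P : Sylow 2 (Cfsg.PSU 3 F 4), Nonempty (↥T ≃* ↥(P : Subgroup (Cfsg.PSU 3 F 4)))) := by
  have hVleT : V ≤ T := fun v hv => (hVT hv).1
  have ht2 : t ^ 2 = 1 := by rw [← ht]; exact pow_orderOf_eq_one t
  have hρ3 : ρ ^ 3 = 1 := by rw [← hρ]; exact pow_orderOf_eq_one ρ
  -- the automorphisms
  set ρ' : MulAut ↥T := conjAut T ρ hρn.2 with hρ'
  set t' : MulAut ↥T := conjAut T t htn.2 with ht'
  have h3 : ρ' ^ 3 = 1 := conjAut_pow_eq_one T ρ hρn.2 3 hρ3
  have ht'2 : t' ^ 2 = 1 := conjAut_pow_eq_one T t htn.2 2 ht2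
  have ht'inv : ∀ y, t' (t' y) = y := by
    intro y
    have := congrArg (fun f => f y) ht'2
    simpa [pow_two, MulAut.mul_apply] using this
  have hcomm : ∀ y, t' (ρ' y) = ρ' (t' y) := fun y => conjAut_comm T t ρ htn.2 hρn.2 htρ y
  -- fixed points of `t'`
  have hfixmem : ∀ y : ↥T, t' y = y → (y : G) ∈ V := by
    intro y hy
    rw [ht', conjAut_fixed_iff] at hy
    rw [← hCt]
    refine ⟨y.2, ?_⟩
    change (y : G) ∈ centralizer ({t} : Set G)
    rw [mem_centralizer_iff]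
    intro g hg
    rw [Set.mem_singleton_iff] at hg
    rw [hg]
    exact hy
  have hfix : Nat.card (fixedSub t') ≤ 4 := by
    rw [← hV.1]
    let f : fixedSub t' → V := fun y => ⟨((y : ↥T) : G), hfixmem y.1 y.2⟩
    apply Nat.card_le_card_of_injective f
    intro a b hab
    apply Subtype.ext
    apply Subtype.ext
    have := congrArg Subtype.val hab
    exact this
  -- `ρ` has no fixed points on `V`
  have hVfp : ∀ v ∈ V, ρ * v = v * ρ → v = 1 := by
    intro v hv hvρ
    by_contra hv1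
    haveI : Fact (Nat.Prime 3) := ⟨by norm_num⟩
    set ρV : MulAut ↥V := conjAut V ρ hρn.1 with hρV
    have hρV3 : ρV ^ 3 = 1 := conjAut_pow_eq_one V ρ hρn.1 3 hρ3
    have hmod := card_inf_fixedSub_modEq 3 ρV hρV3 ⊤ (fun _ _ => mem_top _)
    rw [top_inf_eq, Subgroup.card_top, hV.1] at hmod
    have hdvd : Nat.card (fixedSub ρV) ∣ 4 := by
      rw [← hV.1]
      exact Subgroup.card_subgroup_dvd_card _
    have hle : Nat.card (fixedSub ρV) ≤ 4 := Nat.le_of_dvd (by norm_num) hdvd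
    have hne1 : Nat.card (fixedSub ρV) ≠ 1 := by
      intro h1
      have hbot : fixedSub ρV = ⊥ := Subgroup.card_eq_one.mp h1
      have hmem : (⟨v, hv⟩ : ↥V) ∈ fixedSub ρV := by
        rw [mem_fixedSub, hρV, conjAut_fixed_iff]
        exact hvρ
      rw [hbot, mem_bot] at hmem
      exact hv1 (congrArg Subtype.val hmem)
    have h4 : Nat.card (fixedSub ρV) = 4 := by
      unfold Nat.ModEq at hmod
      interval_cases (Nat.card (fixedSub ρV)) <;> simp_all
    have htop : fixedSub ρV = ⊤ := by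
      rw [← Subgroup.card_eq_iff_eq_top, h4, hV.1]
    have hcent : ∀ w ∈ V, ρ * w = w * ρ := by
      intro w hw
      have hmem : (⟨w, hw⟩ : ↥V) ∈ fixedSub ρV := by rw [htop]; trivial
      rw [mem_fixedSub, hρV, conjAut_fixed_iff] at hmem
      exact hmem
    have hbot : ⁅V, Subgroup.zpowers ρ⁆ = ⊥ := by
      rw [eq_bot_iff, Subgroup.commutator_le]
      intro w hw z hz
      rw [mem_bot, commutatorElement_eq_one_iff_mul_comm]
      obtain ⟨n, rfl⟩ := Subgroup.mem_zpowers_iff.mp hz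
      have hc : Commute w ρ := (hcent w hw).symm
      exact (hc.zpow_right n)
    rw [hVρ] at hbot
    rw [hbot, Subgroup.card_bot] at hV
    omega
  -- `ρ'` is fixed-point-free
  have hfp : ∀ y : ↥T, ρ' y = y → y = 1 := by
    by_contra hcon
    push Not at hcon
    obtain ⟨y, hy, hy1⟩ := hcon
    have hDne : fixedSub ρ' ≠ ⊥ := by
      intro hbot
      have : y ∈ fixedSub ρ' := hy
      rw [hbot, mem_bot] at this
      exact hy1 this
    have hDinv : ∀ k ∈ fixedSub ρ', t' k ∈ fixedSub ρ' := by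
      intro k hk
      rw [mem_fixedSub] at hk ⊢
      rw [← hcomm, hk]
    obtain ⟨k, hkD, hk1, hkt⟩ := exists_fixed_ne_one t' ht'2 (fixedSub ρ') hDinv
      (hT.to_subgroup _) hDne
    have hkV : (k : G) ∈ V := hfixmem k hkt
    rw [mem_fixedSub, hρ', conjAut_fixed_iff] at hkD
    have := hVfp _ hkV hkD
    apply hk1
    apply Subtype.ext
    exact this
  rcases TwoRhoT.main hT ρ' t' h3 hfp ht'inv hcomm hfix with h | h | h | h
  · exfalso
    have := Subgroup.card_le_of_le hVleT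
    rw [hV.1, h] at this
    omega
  · left
    refine ⟨h.1, ?_⟩
    intro x hx
    have := h.2 ⟨x, hx⟩
    exact congrArg Subtype.val this
  · right; left
    exact h
  · right; right
    exact Fpf64.classification h.1 h.2 ρ' h3 hfp

end Cfsg.Agent.S2933
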