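import Cfsg.Statements.S2939
import Cfsg.Agent.Lib.Helper49.FusionChain

set_option autoImplicit false
open Cfsg

namespace Cfsg.Agent.S2939

open Cfsg.Agent.Lib.Helper33 Cfsg.Agent.Lib.Helper49

section
variable {G : Type*} [Group G] [Finite G] {p : ℕ} [Fact p.Prime]

theorem mem_conjRight {g x : G} {A : Set G} : x ∈ Cfsg.conjRight g A ↔ g * x * g⁻¹ ∈ A := by
  unfold Cfsg.conjRight
  constructor
  · rintro ⟨a, ha, rfl⟩
    simpa [mul_assoc] using ha
  · intro h
    exact ⟨g * x * g⁻¹, h, by group⟩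

/-- From a chain of Sylow subgroups to a factorisation. -/
theorem rfus_of_schain {𝓕 : Set (Subgroup G)} (h𝓕 : Cfsg.IsNormalSet 𝓕) {D : Subgroup G} {A : Set G}
    (hAD : A ⊆ (D : Set G)) {S U : Sylow p G} (h : SChain p 𝓕 D S U) :
    ∃ u : G, cj u⁻¹ (U : Subgroup G) = (S : Subgroup G) ∧ RFus p 𝓕 (S : Subgroup G) A u := by
  induction h with
  | refl => exact ⟨1, by simp [cj_one], RFus.nil⟩
  | @tail T U X x _ hT hU hx hconj hD ih =>
    obtain ⟨u, hu, hr⟩ := ih
    rw [subgroupConjRight_eq_cj] at hconj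
    have hY : cj u⁻¹ X ∈ Cfsg.sylowMembers p 𝓕 (S : Subgroup G) := by
      have := cj_mem_sylowMembers h𝓕 u⁻¹ hT
      rwa [hu] at this
    have hy : u⁻¹ * x * u ∈ cj u⁻¹ X := by
      have := conj_mem_cj (g := u⁻¹) hx
      rwa [inv_inv] at this
    have hux : u * (u⁻¹ * x * u) = x * u := by group
    have hS : cj (x * u)⁻¹ (U : Subgroup G) = (S : Subgroup G) := by
      rw [mul_inv_rev, cj_mul, hconj, hu]
    refine ⟨x * u, hS, ?_⟩
    rw [← hux]
    refine RFus.snoc (cj u⁻¹ X) (u⁻¹ * x * u) hr hY hy ?_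
    rw [hux]
    intro z hz
    rw [mem_conjRight] at hz
    have hzD := hD (hAD hz)
    refine ⟨?_, ?_⟩
    · show z ∈ (S : Subgroup G)
      rw [← hS, mem_cj, inv_inv]
      exact hzD.1
    · show z ∈ cj u⁻¹ X
      rw [mem_cj, inv_inv]
      have h1 : x⁻¹ * (x * u * z * (x * u)⁻¹) * x ∈ X := X.mul_mem (X.mul_mem (X.inv_mem hx) hzD.2) hx
      have h2 : x⁻¹ * (x * u * z * (x * u)⁻¹) * x = u * z * u⁻¹ := by group
      rwa [h2] at h1

/-- From a factorisation to a chain of Sylow subgroups. -/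
theorem schain_of_rfus {𝓕 : Set (Subgroup G)} (h𝓕 : Cfsg.IsNormalSet 𝓕) {D' : Subgroup G} {A : Set G}
    (hDA : (D' : Set G) ⊆ A) (S : Sylow p G) {u : G} (h : RFus p 𝓕 (S : Subgroup G) A u) :
    SChain p 𝓕 D' S (u • S) := by
  induction h with
  | nil => rw [one_smul]; exact SChain.refl S
  | @snoc u Y y _ hY hy hA ih =>
    have hcjY : cj (u * y) Y = cj u Y := by rw [cj_mul, cj_eq_self_of_mem hy]
    refine SChain.tail (cj u Y) (u * y * u⁻¹) ih ?_ ?_ (conj_mem_cj hy) ?_ ?_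
    · rw [coe_smul_sylow]; exact cj_mem_sylowMembers h𝓕 u hY
    · rw [coe_smul_sylow, ← hcjY]; exact cj_mem_sylowMembers h𝓕 (u * y) hY
    · rw [subgroupConjRight_eq_cj, coe_smul_sylow, coe_smul_sylow, ← cj_mul]
      congr 1
      group
    · intro d hd
      have hdA : d ∈ A := hDA hd
      have h1 : (u * y)⁻¹ * d * (u * y) ∈ Cfsg.conjRight (u * y) A := ⟨d, hdA, rfl⟩
      have h2 := hA h1
      refine ⟨?_, ?_⟩
      · show d ∈ ((u * y) • S : Sylow p G).toSubgroup
        have : d ∈ cj (u * y) (S : Subgroup G) := by rw [mem_cj]; exact h2.1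
        rwa [← coe_smul_sylow] at this
      · show d ∈ cj u Y
        rw [← hcjY, mem_cj]; exact h2.2

theorem key (𝓕 : Set (Subgroup G)) (h𝓕 : Cfsg.IsNormalSet 𝓕) :
    Cfsg.ControlsSylowIntersections p 𝓕 ↔ Cfsg.FamilyStronglyControlsFusion p 𝓕 := by
  rw [controlsSylowIntersections_iff, familyStronglyControlsFusion_iff]
  constructor
  · intro h S A g hA hne hAg
    have hAT : A ⊆ ((g • S : Sylow p G) : Subgroup G) := by
      intro a ha
      rw [coe_smul_sylow]
      show a ∈ cj g (S : Subgroup G)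
      rw [mem_cj]
      exact hAg ⟨a, ha, rfl⟩
    by_cases hST : S = g • S
    · refine ⟨1, g, ?_, by simp, RFus.nil⟩
      rw [mem_normalizer_iff_cj_eq, ← coe_smul_sylow, ← hST]
    · have hint : (S : Subgroup G) ⊓ ((g • S : Sylow p G) : Subgroup G) ≠ ⊥ := by
        obtain ⟨a, haA, ha1⟩ := hne
        intro h0
        have : a ∈ (S : Subgroup G) ⊓ ((g • S : Sylow p G) : Subgroup G) := ⟨hA haA, hAT haA⟩
        rw [h0, Subgroup.mem_bot] at this
        exact ha1 this
      have hch := h S (g • S) hST hint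
      have hAD : A ⊆ (((S : Subgroup G) ⊓ ((g • S : Sylow p G) : Subgroup G) : Subgroup G) : Set G) :=
        fun a ha => ⟨hA ha, hAT ha⟩
      obtain ⟨u, hu, hr⟩ := rfus_of_schain h𝓕 hAD hch
      refine ⟨u, u⁻¹ * g, ?_, by group, hr⟩
      rw [mem_normalizer_iff_cj_eq, cj_mul, ← coe_smul_sylow, hu]
  · intro h S T hne hint
    obtain ⟨g, hg⟩ := exists_cj_eq_sylow T S
    -- `S = cj g T`
    set D : Subgroup G := (S : Subgroup G) ⊓ (T : Subgroup G) with hD
    have hA : ((cj g⁻¹ D : Subgroup G) : Set G) ⊆ (T : Set G) := by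
      intro a ha
      have h1 : a ∈ cj g⁻¹ (S : Subgroup G) := cj_mono (inf_le_left) ha
      rw [hg, cj_inv_cj] at h1
      exact h1
    have hne1 : ∃ a ∈ ((cj g⁻¹ D : Subgroup G) : Set G), a ≠ 1 := by
      have : cj g⁻¹ D ≠ ⊥ := fun h0 => hint (cj_eq_bot_iff.mp h0)
      obtain ⟨a, ha⟩ := (Subgroup.ne_bot_iff_exists_ne_one.mp this)
      exact ⟨a.1, a.2, fun h1 => ha (Subtype.ext h1)⟩
    have hAg : Cfsg.conjRight g⁻¹ ((cj g⁻¹ D : Subgroup G) : Set G) ⊆ (T : Set G) := by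
      intro z hz
      rw [mem_conjRight] at hz
      have h1 : g⁻¹ * z * g⁻¹⁻¹ ∈ cj g⁻¹ D := hz
      rw [conj_mem_cj_iff] at h1
      exact h1.2
    obtain ⟨u, y₀, hy₀, hgu, hr⟩ := h T _ g⁻¹ hA hne1 hAg
    have hch := (schain_of_rfus h𝓕 (D' := cj g⁻¹ D) (le_refl _) T hr).conj h𝓕 g
    rw [cj_cj_inv] at hch
    have e1 : g • T = S := by
      apply Sylow.ext
      rw [coe_smul_sylow, hg]
    have e2 : g • u • T = T := by
      apply Sylow.ext
      rw [coe_smul_sylow, coe_smul_sylow, ← cj_mul]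
      have hu : u = g⁻¹ * y₀⁻¹ := by rw [hgu]; group
      rw [hu]
      have : g * (g⁻¹ * y₀⁻¹) = y₀⁻¹ := by group
      rw [this]
      exact cj_eq_self_of_mem_normalizer (inv_mem hy₀)
    rw [e1, e2] at hch
    exact hch
end

/-- Let p be a prime dividing the order of the finite group G and 𝓕 a family of subgroups of G closed under conjugation, with conjugates taken as X^g = g⁻¹Xg. Then 𝓕 controls Sylow p-intersections in G (any two distinct Sylow p-subgroups S and T with S ∩ T ≠ 1 are joined by a chain S = S₀, S₁, …, Sₙ = T of Sylow p-subgroups where, for each i, some member Xᵢ of 𝓕 meets both S_{i-1} and Sᵢ in Sylow p-subgroups of Xᵢ, satisfies S ∩ T ≤ Sᵢ ∩ Xᵢ, and contains an element xᵢ with Sᵢ^{xᵢ} = S_{i-1}) if and only if 𝓕 strongly controls p-fusion in G (whenever A is a subset of a Sylow p-subgroup S, A contains an element other than 1, and A^g ⊆ S, the element g factorises as g = y₁⋯yₙy with y ∈ N_G(S) and each yᵢ in a member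 Yᵢ of 𝓕 that meets S in a Sylow p-subgroup of Yᵢ, with A^{y₁⋯yᵢ} ⊆ S ∩ Yᵢ for each i). -/
theorem result {G : Type*} [Group G] [Finite G] {p : ℕ} [Fact p.Prime] (hdiv : p ∣ Nat.card G) (𝓕 : Set (Subgroup G)) (h𝓕 : Cfsg.IsNormalSet 𝓕) : Cfsg.ControlsSylowIntersections p 𝓕 ↔ Cfsg.FamilyStronglyControlsFusion p 𝓕 := by
  exact key 𝓕 h𝓕

end Cfsg.Agent.S2939
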