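import Cfsg.Statements.S2940
import Mathlib.GroupTheory.Sylow

set_option autoImplicit false
open Cfsg

namespace Cfsg.Agent.S2940

theorem mem_smul_sylow_iff' {G : Type*} [Group G] {p : ℕ} (S : Sylow p G) (a x : G) :
    x ∈ ((a • S : Sylow p G) : Subgroup G) ↔ a⁻¹ * x * a ∈ (S : Subgroup G) := by
  rw [Sylow.coe_subgroup_smul, Subgroup.mem_pointwise_smul_iff_inv_smul_mem]
  simp [MulAut.smul_def]


/-- Let S be a Sylow p-subgroup of the finite group G and G₁, G₂ subgroups containing S with G = G₁G₂. Then for every g ∈ G there is a Sylow p-subgroup U of G with S ∩ S^g ≤ U ≤ G₁ ∩ G₂^g (conjugates taken as X^g = g⁻¹Xg). -/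
theorem result {G : Type*} [Group G] [Finite G] {p : ℕ} [Fact p.Prime] (S : Sylow p G) (G₁ G₂ : Subgroup G) (h1 : (S : Subgroup G) ≤ G₁) (h2 : (S : Subgroup G) ≤ G₂) (hfact : ∀ g : G, ∃ g₁ ∈ G₁, ∃ g₂ ∈ G₂, g = g₁ * g₂) (g : G) : ∃ U : Sylow p G, (S : Subgroup G) ⊓ Cfsg.subgroupConjRight g (S : Subgroup G) ≤ (U : Subgroup G) ∧ (U : Subgroup G) ≤ G₁ ⊓ Cfsg.subgroupConjRight g G₂ := by
  obtain ⟨a, ha, b, hb, hab⟩ := hfact g⁻¹
  set M : Subgroup G := G₁ ⊓ Cfsg.subgroupConjRight g G₂ with hM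
  -- the Sylow subgroup a • S lies in M
  have hP₀M : ((a • S : Sylow p G) : Subgroup G) ≤ M := by
    intro x hx
    rw [mem_smul_sylow_iff'] at hx
    refine ⟨?_, ?_⟩
    · have : x = a * (a⁻¹ * x * a) * a⁻¹ := by group
      rw [this]
      exact G₁.mul_mem (G₁.mul_mem ha (h1 hx)) (G₁.inv_mem ha)
    · show x ∈ G₂.map (MulAut.conj g⁻¹).toMonoidHom
      refine ⟨b⁻¹ * (a⁻¹ * x * a) * b, G₂.mul_mem (G₂.mul_mem (G₂.inv_mem hb) (h2 hx)) hb, ?_⟩
      simp only [MulEquiv.toMonoidHom_eq_coe, MonoidHom.coe_coe, MulAut.conj_apply, hab]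
      group
  -- D = S ∩ S^g lies in M
  have hDM : (S : Subgroup G) ⊓ Cfsg.subgroupConjRight g (S : Subgroup G) ≤ M := by
    apply le_inf
    · exact inf_le_left.trans h1
    · exact inf_le_right.trans (Subgroup.map_mono h2)
  have hDp : IsPGroup p ((S : Subgroup G) ⊓ Cfsg.subgroupConjRight g (S : Subgroup G) : Subgroup G) :=
    S.2.to_le inf_le_left
  have hDp' : IsPGroup p
      (((S : Subgroup G) ⊓ Cfsg.subgroupConjRight g (S : Subgroup G) : Subgroup G).subgroupOf M) :=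
    hDp.comap_subtype
  obtain ⟨Q, hQ⟩ := hDp'.exists_le_sylow
  obtain ⟨m, hm⟩ := MulAction.exists_smul_eq M ((a • S : Sylow p G).subtype hP₀M) Q
  rw [Sylow.smul_subtype] at hm
  refine ⟨m • (a • S), ?_, Sylow.smul_le hP₀M m⟩
  intro x hx
  have hxM : x ∈ M := hDM hx
  have h3 : (⟨x, hxM⟩ : M) ∈ (Q : Subgroup M) := hQ (Subgroup.mem_subgroupOf.mpr hx)
  rw [← hm, Sylow.coe_subtype, Subgroup.mem_subgroupOf] at h3
  exact h3

end Cfsg.Agent.S2940
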