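import Cfsg.Statements.S2947
import Cfsg.Agent.Lib.Helper33.SylIn
import Cfsg.Agent.Lib.Helper34.SylowConj
import Cfsg.Agent.Lib.Helper49.CharP

set_option autoImplicit false
open Cfsg

namespace Cfsg.Agent.S2947

open Cfsg.Agent.Lib.Helper33 in
/-- A `p`-subgroup meeting `M` nontrivially lies in `M`, if `M` contains the normalizers of its nontrivial
`p`-subgroups. -/
theorem le_of_inf_ne_bot {G : Type*} [Group G] [Finite G] {p : ℕ} [Fact p.Prime] {M P : Subgroup G}
    (hA : ∀ Q : Subgroup G, IsPGroup p Q → Q ≠ ⊥ → Q ≤ M → Subgroup.normalizer (Q : Set G) ≤ M)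
    (hP : IsPGroup p P) (hPM : P ⊓ M ≠ ⊥) : P ≤ M := by
  by_contra hcon
  have hlt : P ⊓ M < P := lt_of_le_of_ne inf_le_left (fun h => hcon (h ▸ inf_le_right))
  have h1 := Cfsg.Agent.Lib.Helper34.lt_inf_normalizer_of_lt hP hlt
  have h2 : Subgroup.normalizer ((P ⊓ M : Subgroup G) : Set G) ≤ M :=
    hA _ (hP.to_le inf_le_left) hPM inf_le_right
  exact absurd (le_inf inf_le_left (inf_le_right.trans h2)) (not_le_of_gt h1)

open Cfsg.Agent.Lib.Helper33 in
/-- If `Q` is a Sylow `p`-subgroup of `M₁ ⊓ M₂` and `N_G(Q) ≤ M₂`, then `Q` is a Sylow `p`-subgroup of `M₁`. -/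
theorem sylIn_of_sylIn_inf {G : Type*} [Group G] [Finite G] {p : ℕ} [Fact p.Prime] {M₁ M₂ Q : Subgroup G}
    (hQ : SylIn p Q (M₁ ⊓ M₂)) (hN : Subgroup.normalizer (Q : Set G) ≤ M₂) : SylIn p Q M₁ := by
  have hQM : Q ≤ M₁ := hQ.le.trans inf_le_left
  obtain ⟨R₁, hR₁⟩ := (hQ.isPGroup.comap_subtype (K := M₁)).exists_le_sylow
  have hR : SylIn p ((R₁ : Subgroup M₁).map M₁.subtype) M₁ := sylIn_of_sylow R₁
  set R : Subgroup G := (R₁ : Subgroup M₁).map M₁.subtype with hRdef
  have hQR : Q ≤ R := by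
    intro x hx
    exact ⟨⟨x, hQM hx⟩, hR₁ (show (⟨x, hQM hx⟩ : M₁) ∈ Q.subgroupOf M₁ from hx), rfl⟩
  by_cases hEq : Q = R
  · rw [hEq]; exact hR
  · exfalso
    have hlt : Q < R := lt_of_le_of_ne hQR hEq
    have h1 := Cfsg.Agent.Lib.Helper34.lt_inf_normalizer_of_lt hR.isPGroup hlt
    have h2 : R ⊓ Subgroup.normalizer (Q : Set G) ≤ M₁ ⊓ M₂ :=
      le_inf (inf_le_left.trans hR.le) (inf_le_right.trans hN)
    have h3 := hQ.eq_of_le h2 (hR.isPGroup.to_le inf_le_left) h1.le
    exact h1.ne h3.symm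

open Cfsg.Agent.Lib.Helper33 in
theorem key {G : Type*} [Group G] [Finite G] (hO : Cfsg.pCore 2 G = ⊥) (M : Subgroup G) (hM : Cfsg.IsTwoLocal M) :
    Cfsg.IsStronglyEmbedded M ↔ Cfsg.straddlingTwoSubgroups M = ∅ := by
  have : Fact (Nat.Prime 2) := ⟨Nat.prime_two⟩
  have two_dvd : ∀ P : Subgroup G, IsPGroup 2 P → P ≠ ⊥ → 2 ∣ Nat.card P := by
    intro P hP hne
    rcases hP.card_eq_or_dvd with h | h
    · exact absurd (Subgroup.card_eq_one.mp h) hne
    · exact h
  constructor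
  · rintro ⟨-, -, hse⟩
    have hA : ∀ Q : Subgroup G, IsPGroup 2 Q → Q ≠ ⊥ → Q ≤ M → Subgroup.normalizer (Q : Set G) ≤ M := by
      intro Q hQ hne hQM g hg
      by_contra hgM
      have hodd := hse g hgM
      have hle : Q ≤ M ⊓ M.map (MulAut.conj g).toMonoidHom := by
        refine le_inf hQM ?_
        have : cj g Q = Q := cj_eq_self_of_mem_normalizer hg
        rw [← this]
        exact cj_mono hQM
      have h2 : 2 ∣ Nat.card ↥(M ⊓ M.map (MulAut.conj g).toMonoidHom) :=
        (two_dvd Q hQ hne).trans (Subgroup.card_dvd_of_le hle)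
      exact (Nat.not_even_iff_odd.mpr hodd) (even_iff_two_dvd.mpr h2)
    rw [Set.eq_empty_iff_forall_notMem]
    rintro T ⟨hT2, hTne, hTM, L, ⟨U, hU2, hUne, rfl⟩, hTL, hLM⟩
    apply hLM
    have hP : IsPGroup 2 ↥(T ⊔ U) := IsPGroup.to_sup_of_normal_right' hT2 hU2 hTL
    have hPM : (T ⊔ U) ⊓ M ≠ ⊥ := by
      intro h
      apply hTne
      rw [eq_bot_iff, ← h]
      exact le_inf le_sup_left hTM
    have h1 : T ⊔ U ≤ M := le_of_inf_ne_bot hA hP hPM
    exact hA U hU2 hUne (le_sup_right.trans h1)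
  · intro hemp
    have hA : ∀ Q : Subgroup G, IsPGroup 2 Q → Q ≠ ⊥ → Q ≤ M → Subgroup.normalizer (Q : Set G) ≤ M := by
      intro Q hQ hne hQM
      by_contra hcon
      have : Q ∈ Cfsg.straddlingTwoSubgroups M :=
        ⟨hQ, hne, hQM, _, ⟨Q, hQ, hne, rfl⟩, Subgroup.le_normalizer, hcon⟩
      rw [hemp] at this
      exact this
    obtain ⟨T₀, hT2, hTne, hMT⟩ := hM
    have hT₀M : T₀ ≤ M := hMT ▸ Subgroup.le_normalizer
    refine ⟨?_, ?_, ?_⟩
    · intro htop
      apply hTne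
      have hn : T₀.Normal := by
        rw [← Subgroup.normalizer_eq_top_iff, ← hMT, htop]
      have := Cfsg.Agent.Lib.Helper49.le_pCore_of_normal_of_isPGroup hn hT2
      rw [hO] at this
      exact (eq_bot_iff).mpr this
    · exact even_iff_two_dvd.mpr ((two_dvd T₀ hT2 hTne).trans (Subgroup.card_dvd_of_le hT₀M))
    · intro g hgM
      by_contra hnodd
      have h2 : 2 ∣ Nat.card ↥(M ⊓ cj g M) :=
        even_iff_two_dvd.mp (Nat.not_odd_iff_even.mp hnodd)
      obtain ⟨R⟩ : Nonempty (Sylow 2 ↥(M ⊓ cj g M)) := inferInstance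
      have hQ : SylIn 2 ((R : Subgroup ↥(M ⊓ cj g M)).map (M ⊓ cj g M).subtype) (M ⊓ cj g M) := sylIn_of_sylow R
      set Q : Subgroup G := (R : Subgroup ↥(M ⊓ cj g M)).map (M ⊓ cj g M).subtype with hQdef
      have hQne : Q ≠ ⊥ := by
        intro h
        apply R.ne_bot_of_dvd_card h2
        rw [hQdef] at h
        exact (Subgroup.map_eq_bot_iff_of_injective _ (Subgroup.subtype_injective _)).mp h
      have hNM : Subgroup.normalizer (Q : Set G) ≤ M := hA Q hQ.isPGroup hQne (hQ.le.trans inf_le_left)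
      have hNM' : Subgroup.normalizer (Q : Set G) ≤ cj g M := by
        have h1 : cj g⁻¹ Q ≤ M := by
          rw [cj_le_iff, inv_inv]; exact hQ.le.trans inf_le_right
        have h3 := hA (cj g⁻¹ Q) (isPGroup_cj hQ.isPGroup) (fun h => hQne (cj_eq_bot_iff.mp h)) h1
        rw [← cj_normalizer, cj_le_iff, inv_inv] at h3
        exact h3
      have hS1 : SylIn 2 Q M := sylIn_of_sylIn_inf hQ hNM'
      have hS2 : SylIn 2 Q (cj g M) := sylIn_of_sylIn_inf (by rw [inf_comm]; exact hQ) hNM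
      have hS3 : SylIn 2 (cj g⁻¹ Q) M := by
        have := hS2.cj g⁻¹
        rwa [cj_inv_cj] at this
      obtain ⟨m, hmM, hm⟩ := hS1.exists_cj_eq hS3
      rw [← cj_mul] at hm
      have h4 : m * g⁻¹ ∈ M := hNM (mem_normalizer_iff_cj_eq.mpr hm)
      apply hgM
      have h5 : g⁻¹ ∈ M := by
        have := M.mul_mem (M.inv_mem hmM) h4
        simpa using this
      simpa using M.inv_mem h5

/-- Let G be a finite group of characteristic 2 type in which every 2-local subgroup is solvable and the centralizer of Ω₁(Z(S)) lies in N_G(S) for every Sylow 2-subgroup S; suppose O₂(G) = 1, fix a Sylow 2-subgroup S and a 2-local subgroup M containing N_G(J(S)) (J the Thompson subgroup generated by the elementary abelian 2-subgroups of largest order). Then M is strongly embedded in G (a proper subgroup of even order whose intersection with each conjugate by an element outside M has odd order) if and only if no nontrivial 2-subgroup of M lies in a 2-local subgroup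 of G not contained in M. -/
theorem result {G : Type*} [Group G] [Finite G] (hL : Cfsg.IsCharacteristicTwoType G) (hN : ∀ N : Subgroup G, Cfsg.IsTwoLocal N → Group.IsSolvable ↥N)
    (hZ : ∀ S : Sylow 2 G, Subgroup.centralizer (Cfsg.omegaCenterOf (S : Subgroup G) : Set G) ≤ Subgroup.normalizer ((S : Subgroup G) : Set G)) (hO : Cfsg.pCore 2 G = ⊥) (S : Sylow 2 G) (M : Subgroup G) (hM : Cfsg.IsTwoLocal M)
    (hMJ : Subgroup.normalizer (Cfsg.thompsonSubgroupOf 2 (S : Subgroup G) : Set G) ≤ M) :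
    Cfsg.IsStronglyEmbedded M ↔ Cfsg.straddlingTwoSubgroups M = ∅ := by
  exact key hO M hM

end Cfsg.Agent.S2947
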