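import Cfsg.Statements.S2955
import Cfsg.Agent.Lib.Helper49.SylowMembers

set_option autoImplicit false
open Cfsg

namespace Cfsg.Agent.S2955

open Cfsg.Agent.Lib.Helper33 Cfsg.Agent.Lib.Helper49 in
theorem key {G : Type*} [Group G] [Finite G] (p : ℕ) [Fact p.Prime]
    (𝓕 : Set (Subgroup G)) (h𝓕 : Cfsg.IsNormalSet 𝓕) (hc : Cfsg.ControlsSylowIntersections p 𝓕)
    (hconn : Cfsg.IsSylowChainConnected p G) (S : Sylow p G) :
    (⨆ X ∈ Cfsg.sylowMembers p 𝓕 (S : Subgroup G), X) ⊔ Subgroup.normalizer ((S : Subgroup G) : Set G) = ⊤ := by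
  set H : Subgroup G :=
    (⨆ X ∈ Cfsg.sylowMembers p 𝓕 (S : Subgroup G), X) ⊔ Subgroup.normalizer ((S : Subgroup G) : Set G) with hH
  have hXH : ∀ X ∈ Cfsg.sylowMembers p 𝓕 (S : Subgroup G), X ≤ H := by
    intro X hX
    exact (le_iSup₂ (f := fun (X : Subgroup G) (_ : X ∈ Cfsg.sylowMembers p 𝓕 (S : Subgroup G)) => X) X hX).trans
      le_sup_left
  have hNH : Subgroup.normalizer ((S : Subgroup G) : Set G) ≤ H := le_sup_right
  -- members of `𝓕(T)` for `T = cj h S`, `h ∈ H`, lie in `H`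
  have hmem : ∀ (T : Sylow p G) (h : G), h ∈ H → (T : Subgroup G) = cj h (S : Subgroup G) →
      ∀ X ∈ Cfsg.sylowMembers p 𝓕 (T : Subgroup G), X ≤ H := by
    intro T h hh hT X hX
    rw [hT] at hX
    have h1 : cj h⁻¹ X ∈ Cfsg.sylowMembers p 𝓕 (S : Subgroup G) := by
      have := cj_mem_sylowMembers h𝓕 h⁻¹ hX
      rwa [cj_inv_cj] at this
    have h2 : cj h⁻¹ X ≤ H := hXH _ h1
    rw [cj_le_iff, inv_inv, cj_eq_self_of_mem hh] at h2
    exact h2
  -- one adjacency step
  have hstep : ∀ T T' : Sylow p G, T ≠ T' → (T : Subgroup G) ⊓ (T' : Subgroup G) ≠ ⊥ →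
      (∃ h ∈ H, (T : Subgroup G) = cj h (S : Subgroup G)) →
      ∃ h ∈ H, (T' : Subgroup G) = cj h (S : Subgroup G) := by
    intro T T' hne hint hT
    obtain ⟨n, c, X, x, h0, hlast, hch⟩ := hc T T' hne hint
    have hall : ∀ k (hk : k < n + 1), ∃ h ∈ H, ((c ⟨k, hk⟩ : Sylow p G) : Subgroup G) = cj h (S : Subgroup G) := by
      intro k
      induction k with
      | zero =>
        intro hk
        have : (⟨0, hk⟩ : Fin (n + 1)) = 0 := rfl
        rw [this, h0]
        exact hT
      | succ k ih =>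
        intro hk
        have hk' : k < n := by omega
        obtain ⟨h, hh, hhc⟩ := ih (by omega)
        obtain ⟨hX1, -, hxX, hconj, -⟩ := hch ⟨k, hk'⟩
        have e1 : (Fin.castSucc (⟨k, hk'⟩ : Fin n)) = ⟨k, by omega⟩ := rfl
        have e2 : (Fin.succ (⟨k, hk'⟩ : Fin n)) = ⟨k + 1, hk⟩ := rfl
        rw [e1] at hX1 hconj
        rw [e2] at hconj
        have hxH : x ⟨k, hk'⟩ ∈ H := hmem _ h hh hhc _ hX1 hxX
        refine ⟨x ⟨k, hk'⟩ * h, H.mul_mem hxH hh, ?_⟩
        rw [cj_mul, ← hhc, ← hconj, subgroupConjRight_eq_cj, cj_cj_inv]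
    obtain ⟨h, hh, hhc⟩ := hall n (by omega)
    have e3 : (⟨n, by omega⟩ : Fin (n + 1)) = Fin.last n := rfl
    rw [e3, hlast] at hhc
    exact ⟨h, hh, hhc⟩
  -- every Sylow subgroup is an `H`-conjugate of `S`
  have hgood : ∀ T : Sylow p G, ∃ h ∈ H, (T : Subgroup G) = cj h (S : Subgroup G) := by
    intro T
    obtain ⟨n, c, h0, hlast, -, hadj⟩ := hconn S T
    have hall : ∀ k (hk : k < n + 1), ∃ h ∈ H, ((c ⟨k, hk⟩ : Sylow p G) : Subgroup G) = cj h (S : Subgroup G) := by
      intro k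
      induction k with
      | zero =>
        intro hk
        have : (⟨0, hk⟩ : Fin (n + 1)) = 0 := rfl
        rw [this, h0]
        exact ⟨1, H.one_mem, (cj_one _).symm⟩
      | succ k ih =>
        intro hk
        have hk' : k < n := by omega
        obtain ⟨hne, hint⟩ := hadj ⟨k, hk'⟩
        exact hstep _ _ hne hint (ih (by omega))
    obtain ⟨h, hh, hhc⟩ := hall n (by omega)
    have e3 : (⟨n, by omega⟩ : Fin (n + 1)) = Fin.last n := rfl
    rw [e3, hlast] at hhc
    exact ⟨h, hh, hhc⟩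
  rw [eq_top_iff]
  intro g _
  obtain ⟨h, hh, hhc⟩ := hgood (g • S)
  rw [coe_smul_sylow] at hhc
  have h1 : cj (h⁻¹ * g) (S : Subgroup G) = (S : Subgroup G) := by
    rw [cj_mul, hhc, cj_inv_cj]
  have h2 : h⁻¹ * g ∈ H := hNH (mem_normalizer_iff_cj_eq.mpr h1)
  have := H.mul_mem hh h2
  simpa using this

/-- Let p be a prime dividing the order of the finite group G and 𝓕 a conjugation-closed family of subgroups that controls Sylow p-intersections in G. Suppose the Sylow p-subgroups of G are chain-connected: any two of them are joined by a chain of Sylow p-subgroups, consecutive ones distinct with nontrivial intersection, all containing the intersection of the two ends (equivalently, the graph on the Sylow p-subgroups whose edges are the distinct pairs meeting nontrivially is connected). Then for every Sylow p-subgroup S, G is generated by N_G(S) together with the members of 𝓕 that meet S in a Sylow p-subgroup of themselves. -/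
theorem result {G : Type*} [Group G] [Finite G] (p : ℕ) [Fact p.Prime] (hdiv : p ∣ Nat.card G)
    (𝓕 : Set (Subgroup G)) (h𝓕 : Cfsg.IsNormalSet 𝓕) (hc : Cfsg.ControlsSylowIntersections p 𝓕)
    (hconn : Cfsg.IsSylowChainConnected p G) (S : Sylow p G) :
    (⨆ X ∈ Cfsg.sylowMembers p 𝓕 (S : Subgroup G), X) ⊔ Subgroup.normalizer ((S : Subgroup G) : Set G) = ⊤ := by
  exact key p 𝓕 h𝓕 hc hconn S

end Cfsg.Agent.S2955
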