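import Cfsg.Statements.S2956
import Cfsg.Agent.Lib.Helper49.FunctorRegular
import Cfsg.Agent.Lib.Helper49.SylInExtras

set_option autoImplicit false
open Cfsg

namespace Cfsg.Agent.S2956

open Cfsg.Agent.Lib.Helper33 Cfsg.Agent.Lib.Helper49

section
variable {G : Type*} [Group G] [Finite G] {p : ℕ} [Fact p.Prime]

/-- One link through the normalizer of a member of `f P`, `P` a Sylow subgroup of `G`. -/
theorem step_normalizer {f : Subgroup G → Set (Subgroup G)} {𝓔 : Set (Subgroup G)}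
    (h𝓕 : ∀ (P : Sylow p G) (F : Subgroup G), F ∈ f (P : Subgroup G) → Subgroup.normalizer (F : Set G) ∈ 𝓔)
    (D : Subgroup G) (S T U P : Sylow p G) (F : Subgroup G) (hF : F ∈ f (P : Subgroup G))
    (hT : (T : Subgroup G) ≤ Subgroup.normalizer (F : Set G))
    (hU : (U : Subgroup G) ≤ Subgroup.normalizer (F : Set G))
    (x : G) (hx : x ∈ Subgroup.normalizer (F : Set G)) (hconj : cj x⁻¹ (U : Subgroup G) = (T : Subgroup G))
    (hD : D ≤ (U : Subgroup G)) (h : SChain p 𝓔 D S T) : SChain p 𝓔 D S U := by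
  refine SChain.tail (Subgroup.normalizer (F : Set G)) x h ?_ ?_ hx hconj (le_inf hD (hD.trans hU))
  · rw [mem_sylowMembers_iff]
    refine ⟨h𝓕 P F hF, ?_⟩
    rw [inf_eq_left.mpr hT]
    exact sylIn_of_sylow_le T hT
  · rw [mem_sylowMembers_iff]
    refine ⟨h𝓕 P F hF, ?_⟩
    rw [inf_eq_left.mpr hU]
    exact sylIn_of_sylow_le U hU

/-- One link through a member `M` of the family. -/
theorem step_member {𝓔 : Set (Subgroup G)} (D : Subgroup G) (S T U : Sylow p G) (M : Subgroup G)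
    (hM : M ∈ 𝓔) (hT : SylIn p ((T : Subgroup G) ⊓ M) M) (hU : SylIn p ((U : Subgroup G) ⊓ M) M)
    (x : G) (hx : x ∈ M) (hconj : cj x⁻¹ (U : Subgroup G) = (T : Subgroup G))
    (hD : D ≤ (U : Subgroup G) ⊓ M) (h : SChain p 𝓔 D S T) : SChain p 𝓔 D S U :=
  SChain.tail M x h (mem_sylowMembers_iff.mpr ⟨hM, hT⟩) (mem_sylowMembers_iff.mpr ⟨hM, hU⟩) hx hconj hD

/-- The key step: moving a Sylow subgroup `R'` of `G` containing the Sylow subgroup `B` of `M` by an
element `x` of `N_G(F)`, `F ∈ f P₀`, `B ≤ N_G(F)`. -/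
theorem key_step {f : Subgroup G → Set (Subgroup G)} (hf : Cfsg.IsNormalizerFunctor p f)
    (hf1 : ∀ P : Subgroup G, IsPGroup p ↥P → P ≠ ⊥ → ∀ F ∈ f P, F ≠ ⊥)
    {𝓔 : Set (Subgroup G)}
    (h𝓕 : ∀ (P : Sylow p G) (F : Subgroup G), F ∈ f (P : Subgroup G) → Subgroup.normalizer (F : Set G) ∈ 𝓔)
    (D : Subgroup G)
    (HP : ∀ D' : Subgroup G, IsPGroup p D' → Nat.card D < Nat.card D' →
      ∀ S T : Sylow p G, D' ≤ (S : Subgroup G) → D' ≤ (T : Subgroup G) → SChain p 𝓔 D' S T)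
    (M B P₀ F : Subgroup G) (x : G) (hB : SylIn p B M) (hP₀ : SylIn p P₀ M) (hF : F ∈ f P₀)
    (hBF : B ≤ Subgroup.normalizer (F : Set G)) (hx : x ∈ Subgroup.normalizer (F : Set G))
    (hcard : Nat.card D < Nat.card B) (hDB : D ≤ B) (hDC : D ≤ cj x B)
    (HQ : ∀ (M' : Subgroup G) (S' T' : Sylow p G), Cfsg.IsMaximalPLocal p M' →
      SylIn p ((S' : Subgroup G) ⊓ M') M' → SylIn p ((T' : Subgroup G) ⊓ M') M' →
      D ≤ (S' : Subgroup G) ⊓ M' → D ≤ (T' : Subgroup G) ⊓ M' →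
      Nat.card B < Nat.card ((S' : Subgroup G) ⊓ M' : Subgroup G) → SChain p 𝓔 D S' T')
    (R' : Sylow p G) (hBR : B ≤ (R' : Subgroup G)) : SChain p 𝓔 D R' (x • R') := by
  -- `F ∈ f B`
  have hPN : P₀ ≤ Subgroup.normalizer (F : Set G) :=
    Subgroup.le_normalizer.trans ((hf P₀ hP₀.isPGroup).1 F hF).2
  have hP₀' : SylIn p P₀ (M ⊓ Subgroup.normalizer (F : Set G)) :=
    SylIn.of_le_of_le hP₀ (le_inf hP₀.le hPN) inf_le_left
  have hB' : SylIn p B (M ⊓ Subgroup.normalizer (F : Set G)) :=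
    SylIn.of_le_of_le hB (le_inf hB.le hBF) inf_le_left
  obtain ⟨y, hy, hyP⟩ := hB'.exists_cj_eq hP₀'
  have hFB : F ∈ f B := by
    have := IsNormalizerFunctor_cj_mem hf hP₀.isPGroup hF y
    rwa [hyP, cj_eq_self_of_mem_normalizer hy.2] at this
  have hBne : B ≠ ⊥ := ne_bot_of_one_lt_card (lt_of_le_of_lt (one_le_card D) hcard)
  have hFne : F ≠ ⊥ := hf1 B hB.isPGroup hBne F hFB
  have hFleB : F ≤ B := ((hf B hB.isPGroup).1 F hFB).1
  have hNBF : Subgroup.normalizer (B : Set G) ≤ Subgroup.normalizer (F : Set G) :=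
    ((hf B hB.isPGroup).1 F hFB).2
  have hFp : IsPGroup p F := hB.isPGroup.to_le hFleB
  have hxR : ((x • R' : Sylow p G) : Subgroup G) = cj x (R' : Subgroup G) := coe_smul_sylow x R'
  by_cases hBeq : B = (R' : Subgroup G)
  · -- `B` is a Sylow subgroup of `G`
    rw [hBeq] at hFB hBF hDC
    refine step_normalizer h𝓕 D R' R' (x • R') R' F hFB hBF ?_ x hx ?_ ?_ (SChain.refl R')
    · rw [hxR]
      have := cj_mono (g := x) hBF
      rwa [cj_normalizer, cj_eq_self_of_mem_normalizer hx] at this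
    · rw [hxR, cj_inv_cj]
    · rw [hxR]; exact hDC
  · have hlt : B < (R' : Subgroup G) := lt_of_le_of_ne hBR hBeq
    have hNB := Cfsg.Agent.Lib.Helper34.lt_inf_normalizer_of_lt R'.isPGroup' hlt
    set NB : Subgroup G := (R' : Subgroup G) ⊓ Subgroup.normalizer (B : Set G) with hNBdef
    have hNBp : IsPGroup p NB := R'.isPGroup'.to_le inf_le_left
    have hKloc : Cfsg.IsPLocal p (Subgroup.normalizer (F : Set G)) := ⟨F, hFp, hFne, rfl⟩
    obtain ⟨M', hM', hKM'⟩ := exists_isMaximalPLocal_ge hKloc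
    have hNBM' : NB ≤ M' := (inf_le_right.trans hNBF).trans hKM'
    obtain ⟨Q', hQ', hNBQ'⟩ := exists_sylIn_ge hNBp hNBM'
    obtain ⟨R'', hR''⟩ := hQ'.isPGroup.exists_le_sylow
    have hinf : (R'' : Subgroup G) ⊓ M' = Q' := SylIn.inf_eq hQ' R''.isPGroup' hR''
    have hcNB : Nat.card B < Nat.card NB := card_lt_card_of_lt hNB
    have hcQ' : Nat.card NB ≤ Nat.card Q' := Subgroup.card_le_of_le hNBQ'
    have hxM' : x ∈ M' := hKM' hx
    have hxR'' : ((x • R'' : Sylow p G) : Subgroup G) = cj x (R'' : Subgroup G) := coe_smul_sylow x R''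
    -- first link
    have c1 : SChain p 𝓔 D R' R'' :=
      (HP NB hNBp (hcard.trans hcNB) R' R'' inf_le_left (hNBQ'.trans hR'')).mono (hDB.trans hNB.le)
    -- second link
    have c2 : SChain p 𝓔 D R'' (x • R'') := by
      refine HQ M' R'' (x • R'') hM' (hinf ▸ hQ') ?_ ?_ ?_ ?_
      · rw [hxR'', cj_inf_of_mem hxM', hinf]
        exact SylIn.cj_of_mem hQ' hxM'
      · rw [hinf]; exact (hDB.trans hNB.le).trans hNBQ'
      · rw [hxR'', cj_inf_of_mem hxM', hinf]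
        exact hDC.trans (cj_mono (hNB.le.trans hNBQ'))
      · rw [hinf]; exact lt_of_lt_of_le hcNB hcQ'
    -- third link
    have c3 : SChain p 𝓔 D (x • R'') (x • R') := by
      have hc : Nat.card D < Nat.card (cj x NB) := by
        rw [card_cj]; exact hcard.trans hcNB
      refine (HP (cj x NB) (isPGroup_cj hNBp) hc (x • R'') (x • R') ?_ ?_).mono
        (hDC.trans (cj_mono hNB.le))
      · rw [hxR'']; exact cj_mono (hNBQ'.trans hR'')
      · rw [hxR]; exact cj_mono inf_le_left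
    exact (c1.trans c2).trans c3

/-- Lifting a chain of Sylow subgroups of `M` to a chain of Sylow subgroups of `G`. -/
theorem lift_fchain {f : Subgroup G → Set (Subgroup G)} (hf : Cfsg.IsNormalizerFunctor p f)
    (hf1 : ∀ P : Subgroup G, IsPGroup p ↥P → P ≠ ⊥ → ∀ F ∈ f P, F ≠ ⊥)
    {𝓔 : Set (Subgroup G)}
    (h𝓕 : ∀ (P : Sylow p G) (F : Subgroup G), F ∈ f (P : Subgroup G) → Subgroup.normalizer (F : Set G) ∈ 𝓔)
    (D : Subgroup G)
    (HP : ∀ D' : Subgroup G, IsPGroup p D' → Nat.card D < Nat.card D' →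
      ∀ S T : Sylow p G, D' ≤ (S : Subgroup G) → D' ≤ (T : Subgroup G) → SChain p 𝓔 D' S T)
    (M A : Subgroup G) (hA : SylIn p A M) (hDA : D ≤ A) (hcard : Nat.card D < Nat.card A)
    (HQ : ∀ (M' : Subgroup G) (S' T' : Sylow p G), Cfsg.IsMaximalPLocal p M' →
      SylIn p ((S' : Subgroup G) ⊓ M') M' → SylIn p ((T' : Subgroup G) ⊓ M') M' →
      D ≤ (S' : Subgroup G) ⊓ M' → D ≤ (T' : Subgroup G) ⊓ M' →
      Nat.card A < Nat.card ((S' : Subgroup G) ⊓ M' : Subgroup G) → SChain p 𝓔 D S' T')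
    {C : Subgroup G} (h : FChain p f M D A C) :
    D ≤ C ∧ SylIn p C M ∧
      ∀ S₁ R : Sylow p G, A ≤ (S₁ : Subgroup G) → C ≤ (R : Subgroup G) → SChain p 𝓔 D S₁ R := by
  induction h with
  | refl =>
    refine ⟨hDA, hA, fun S₁ R hS₁ hR => ?_⟩
    exact (HP A hA.isPGroup hcard S₁ R hS₁ hR).mono hDA
  | @tail B C P₀ F x _ hP₀ hF hBF hCF hxM hxF hconj hDC ih =>
    obtain ⟨hDB, hB, ihc⟩ := ih
    have hCB : C = cj x B := by rw [← hconj, cj_cj_inv]
    have hC : SylIn p C M := by rw [hCB]; exact SylIn.cj_of_mem hB hxM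
    refine ⟨hDC, hC, fun S₁ R hS₁ hR => ?_⟩
    have hR' : B ≤ ((x⁻¹ • R : Sylow p G) : Subgroup G) := by
      rw [coe_smul_sylow, ← hconj]; exact cj_mono hR
    have c1 := ihc S₁ (x⁻¹ • R) hS₁ hR'
    have hcAB : Nat.card A = Nat.card B := SylIn.card_eq hA hB
    have c2 : SChain p 𝓔 D (x⁻¹ • R) (x • x⁻¹ • R) := by
      refine key_step hf hf1 h𝓕 D HP M B P₀ F x hB hP₀ hF hBF hxF (hcAB ▸ hcard) hDB (hCB ▸ hDC) ?_
        (x⁻¹ • R) hR'
      intro M' S' T' hM' hS' hT' hDS' hDT' hc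
      exact HQ M' S' T' hM' hS' hT' hDS' hDT' (hcAB ▸ hc)
    rw [smul_inv_smul] at c2
    exact c1.trans c2

/-- The inner induction: Sylow subgroups of `G` meeting a maximal `p`-local `M` in Sylow subgroups of `M`
that contain `D` properly. -/
theorem inner {f : Subgroup G → Set (Subgroup G)} (hf : Cfsg.IsNormalizerFunctor p f)
    (hf1 : ∀ P : Subgroup G, IsPGroup p ↥P → P ≠ ⊥ → ∀ F ∈ f P, F ≠ ⊥)
    {𝓔 : Set (Subgroup G)}
    (h𝓕 : ∀ (P : Sylow p G) (F : Subgroup G), F ∈ f (P : Subgroup G) → Subgroup.normalizer (F : Set G) ∈ 𝓔)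
    (h𝓕' : ∀ M : Subgroup G, Cfsg.IsMaximalPLocal p M → ¬ Cfsg.IsFunctorRegular p f M → M ∈ 𝓔)
    (D : Subgroup G) (hDne : D ≠ ⊥)
    (HP : ∀ D' : Subgroup G, IsPGroup p D' → Nat.card D < Nat.card D' →
      ∀ S T : Sylow p G, D' ≤ (S : Subgroup G) → D' ≤ (T : Subgroup G) → SChain p 𝓔 D' S T) :
    ∀ (j : ℕ) (M : Subgroup G) (S₁ T₁ : Sylow p G), Cfsg.IsMaximalPLocal p M →
      SylIn p ((S₁ : Subgroup G) ⊓ M) M → SylIn p ((T₁ : Subgroup G) ⊓ M) M →
      D ≤ (S₁ : Subgroup G) ⊓ M → D ≤ (T₁ : Subgroup G) ⊓ M →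
      Nat.card D < Nat.card ((S₁ : Subgroup G) ⊓ M : Subgroup G) →
      Nat.card G - Nat.card ((S₁ : Subgroup G) ⊓ M : Subgroup G) = j → SChain p 𝓔 D S₁ T₁ := by
  intro j
  induction j using Nat.strong_induction_on with
  | _ j IH =>
    intro M S₁ T₁ hM hQS hQT hDS hDT hcard hj
    have HQ : ∀ (M' : Subgroup G) (S' T' : Sylow p G), Cfsg.IsMaximalPLocal p M' →
        SylIn p ((S' : Subgroup G) ⊓ M') M' → SylIn p ((T' : Subgroup G) ⊓ M') M' →
        D ≤ (S' : Subgroup G) ⊓ M' → D ≤ (T' : Subgroup G) ⊓ M' →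
        Nat.card ((S₁ : Subgroup G) ⊓ M : Subgroup G) < Nat.card ((S' : Subgroup G) ⊓ M' : Subgroup G) →
        SChain p 𝓔 D S' T' := by
      intro M' S' T' hM' hS' hT' hDS' hDT' hc
      have hle : Nat.card ((S' : Subgroup G) ⊓ M' : Subgroup G) ≤ Nat.card G :=
        Subgroup.card_le_card_group _
      refine IH (Nat.card G - Nat.card ((S' : Subgroup G) ⊓ M' : Subgroup G)) (by omega) M' S' T' hM' hS' hT'
        hDS' hDT' (hcard.trans hc) rfl
    by_cases hreg : Cfsg.IsFunctorRegular p f M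
    · by_cases heq : (S₁ : Subgroup G) ⊓ M = (T₁ : Subgroup G) ⊓ M
      · exact (HP _ hQS.isPGroup hcard S₁ T₁ inf_le_left (heq ▸ inf_le_left)).mono hDS
      · rw [isFunctorRegular_iff hf] at hreg
        have hint : ((S₁ : Subgroup G) ⊓ M) ⊓ ((T₁ : Subgroup G) ⊓ M) ≠ ⊥ := by
          intro h0
          apply hDne
          rw [eq_bot_iff, ← h0]
          exact le_inf hDS hDT
        have fc := (hreg _ _ hQS hQT heq hint).mono (le_inf hDS hDT)
        exact (lift_fchain hf hf1 h𝓕 D HP M _ hQS hDS hcard HQ fc).2.2 S₁ T₁ inf_le_left inf_le_left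
    · have hMmem := h𝓕' M hM hreg
      obtain ⟨x, hxM, hx⟩ := hQS.exists_cj_eq hQT
      have hxT : ((x • T₁ : Sylow p G) : Subgroup G) = cj x (T₁ : Subgroup G) := coe_smul_sylow x T₁
      have hle : (S₁ : Subgroup G) ⊓ M ≤ ((x • T₁ : Sylow p G) : Subgroup G) := by
        rw [hxT, ← hx]; exact cj_mono inf_le_left
      have c1 : SChain p 𝓔 D S₁ (x • T₁) :=
        (HP _ hQS.isPGroup hcard S₁ (x • T₁) inf_le_left hle).mono hDS
      refine step_member D S₁ (x • T₁) T₁ M hMmem ?_ hQT x⁻¹ (M.inv_mem hxM) ?_ hDT c1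
      · rw [hxT, cj_inf_of_mem hxM, hx]; exact hQS
      · rw [inv_inv, hxT]

/-- The outer induction. -/
theorem outer {f : Subgroup G → Set (Subgroup G)} (hf : Cfsg.IsNormalizerFunctor p f)
    (hf1 : ∀ P : Subgroup G, IsPGroup p ↥P → P ≠ ⊥ → ∀ F ∈ f P, F ≠ ⊥)
    {𝓔 : Set (Subgroup G)}
    (h𝓕 : ∀ (P : Sylow p G) (F : Subgroup G), F ∈ f (P : Subgroup G) → Subgroup.normalizer (F : Set G) ∈ 𝓔)
    (h𝓕' : ∀ M : Subgroup G, Cfsg.IsMaximalPLocal p M → ¬ Cfsg.IsFunctorRegular p f M → M ∈ 𝓔) :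
    ∀ (k : ℕ) (D : Subgroup G), IsPGroup p D → D ≠ ⊥ → Nat.card G - Nat.card D = k →
      ∀ S T : Sylow p G, D ≤ (S : Subgroup G) → D ≤ (T : Subgroup G) → SChain p 𝓔 D S T := by
  intro k
  induction k using Nat.strong_induction_on with
  | _ k IH =>
    intro D hDp hDne hk S T hDS hDT
    have HP : ∀ D' : Subgroup G, IsPGroup p D' → Nat.card D < Nat.card D' →
        ∀ S T : Sylow p G, D' ≤ (S : Subgroup G) → D' ≤ (T : Subgroup G) → SChain p 𝓔 D' S T := by
      intro D' hD'p hc S' T' hS' hT'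
      have hle : Nat.card D' ≤ Nat.card G := Subgroup.card_le_card_group _
      have hD'ne : D' ≠ ⊥ := ne_bot_of_one_lt_card (lt_of_le_of_lt (one_le_card D) hc)
      exact IH (Nat.card G - Nat.card D') (by omega) D' hD'p hD'ne rfl S' T' hS' hT'
    by_cases hDeqS : D = (S : Subgroup G)
    · have : S = T := sylow_eq_of_le (hDeqS ▸ hDT)
      rw [this]; exact SChain.refl T
    by_cases hDeqT : D = (T : Subgroup G)
    · have : T = S := sylow_eq_of_le (hDeqT ▸ hDS)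
      rw [this]; exact SChain.refl S
    have hltS : D < (S : Subgroup G) := lt_of_le_of_ne hDS hDeqS
    have hltT : D < (T : Subgroup G) := lt_of_le_of_ne hDT hDeqT
    have hNS := Cfsg.Agent.Lib.Helper34.lt_inf_normalizer_of_lt S.isPGroup' hltS
    have hNT := Cfsg.Agent.Lib.Helper34.lt_inf_normalizer_of_lt T.isPGroup' hltT
    have hloc : Cfsg.IsPLocal p (Subgroup.normalizer (D : Set G)) := ⟨D, hDp, hDne, rfl⟩
    obtain ⟨M, hM, hNM⟩ := exists_isMaximalPLocal_ge hloc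
    have hNSp : IsPGroup p ((S : Subgroup G) ⊓ Subgroup.normalizer (D : Set G) : Subgroup G) :=
      S.isPGroup'.to_le inf_le_left
    have hNTp : IsPGroup p ((T : Subgroup G) ⊓ Subgroup.normalizer (D : Set G) : Subgroup G) :=
      T.isPGroup'.to_le inf_le_left
    obtain ⟨QS, hQS, hNSQ⟩ := exists_sylIn_ge hNSp (inf_le_right.trans hNM)
    obtain ⟨QT, hQT, hNTQ⟩ := exists_sylIn_ge hNTp (inf_le_right.trans hNM)
    obtain ⟨S₁, hS₁⟩ := hQS.isPGroup.exists_le_sylow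
    obtain ⟨T₁, hT₁⟩ := hQT.isPGroup.exists_le_sylow
    have hinfS : (S₁ : Subgroup G) ⊓ M = QS := SylIn.inf_eq hQS S₁.isPGroup' hS₁
    have hinfT : (T₁ : Subgroup G) ⊓ M = QT := SylIn.inf_eq hQT T₁.isPGroup' hT₁
    have hcS : Nat.card D < Nat.card ((S : Subgroup G) ⊓ Subgroup.normalizer (D : Set G) : Subgroup G) :=
      card_lt_card_of_lt hNS
    have hcT : Nat.card D < Nat.card ((T : Subgroup G) ⊓ Subgroup.normalizer (D : Set G) : Subgroup G) :=
      card_lt_card_of_lt hNT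
    have c1 : SChain p 𝓔 D S S₁ :=
      (HP _ hNSp hcS S S₁ inf_le_left (hNSQ.trans hS₁)).mono hNS.le
    have c3 : SChain p 𝓔 D T₁ T :=
      (HP _ hNTp hcT T₁ T (hNTQ.trans hT₁) inf_le_left).mono hNT.le
    have c2 : SChain p 𝓔 D S₁ T₁ := by
      refine inner hf hf1 h𝓕 h𝓕' D hDne HP _ M S₁ T₁ hM (hinfS ▸ hQS) (hinfT ▸ hQT) ?_ ?_ ?_ rfl
      · rw [hinfS]; exact hNS.le.trans hNSQ
      · rw [hinfT]; exact hNT.le.trans hNTQ
      · rw [hinfS]; exact lt_of_lt_of_le hcS (Subgroup.card_le_of_le hNSQ)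
    exact (c1.trans c2).trans c3

theorem key {f : Subgroup G → Set (Subgroup G)} (hf : Cfsg.IsNormalizerFunctor p f)
    (hf1 : ∀ P : Subgroup G, IsPGroup p ↥P → P ≠ ⊥ → ∀ F ∈ f P, F ≠ ⊥) :
    Cfsg.ControlsSylowIntersections p (Cfsg.functorFamily p f ⊤ ∪
      {M | Cfsg.IsMaximalPLocal p M ∧ ¬ Cfsg.IsFunctorRegular p f M}) := by
  rw [controlsSylowIntersections_iff]
  intro S T _ hint
  have h𝓕 : ∀ (P : Sylow p G) (F : Subgroup G), F ∈ f (P : Subgroup G) →
      Subgroup.normalizer (F : Set G) ∈ (Cfsg.functorFamily p f ⊤ ∪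
        {M | Cfsg.IsMaximalPLocal p M ∧ ¬ Cfsg.IsFunctorRegular p f M}) := by
    intro P F hF
    left
    refine ⟨(sylIn_top P).toSylow, F, ?_, ?_⟩
    · rw [map_subtype_toSylow]; exact hF
    · rw [top_inf_eq]
  have h𝓕' : ∀ M : Subgroup G, Cfsg.IsMaximalPLocal p M → ¬ Cfsg.IsFunctorRegular p f M →
      M ∈ (Cfsg.functorFamily p f ⊤ ∪
        {M | Cfsg.IsMaximalPLocal p M ∧ ¬ Cfsg.IsFunctorRegular p f M}) :=
    fun M hM hreg => Or.inr ⟨hM, hreg⟩
  exact outer hf hf1 h𝓕 h𝓕' _ _ (S.isPGroup'.to_le inf_le_left) hint rfl S T inf_le_left inf_le_right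
end

/-- Let p be a prime dividing the order of the finite group G, and f an assignment to every p-subgroup P of a set f(P) of subgroups of P, each normalized by N_G(P), compatible with conjugation, such that for P ≠ 1 the members of f(P) are nontrivial. Let 𝓕 be the family of the normalizers N_G(F) of the members F of f(S) over the Sylow p-subgroups S of G, and 𝓕' the family of the maximal p-local subgroups M of G that are singular for f (the corresponding family of normalizers inside M does not control Sylow p-intersections in M). Then 𝓕 ∪ 𝓕' controls Sylow p-intersections in G. -/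
theorem result {G : Type*} [Group G] [Finite G] (p : ℕ) [Fact p.Prime] (hdiv : p ∣ Nat.card G)
    (f : Subgroup G → Set (Subgroup G)) (hf : Cfsg.IsNormalizerFunctor p f)
    (hf1 : ∀ P : Subgroup G, IsPGroup p ↥P → P ≠ ⊥ → ∀ F ∈ f P, F ≠ ⊥)
    (𝓕 𝓕' : Set (Subgroup G)) (h𝓕 : 𝓕 = Cfsg.functorFamily p f ⊤)
    (h𝓕' : 𝓕' = {M | Cfsg.IsMaximalPLocal p M ∧ ¬ Cfsg.IsFunctorRegular p f M}) :
    Cfsg.ControlsSylowIntersections p (𝓕 ∪ 𝓕') := by
  subst h𝓕 h𝓕'
  exact key hf hf1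

end Cfsg.Agent.S2956
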