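import Cfsg.Statements.S2957
import Cfsg.Agent.Lib.Helper49.FunctorRegular

set_option autoImplicit false
open Cfsg

namespace Cfsg.Agent.S2957

open Cfsg.Agent.Lib.Helper33 Cfsg.Agent.Lib.Helper49 in
theorem key {G : Type*} [Group G] [Finite G] (p : ℕ) [Fact p.Prime]
    (f : Subgroup G → Set (Subgroup G)) (hf : Cfsg.IsNormalizerFunctor p f) (S : Sylow p G)
    (G₁ G₂ : Subgroup G) (h₁ : (S : Subgroup G) ≤ G₁) (h₂ : (S : Subgroup G) ≤ G₂)
    (hprod : ∀ g : G, ∃ g₁ ∈ G₁, ∃ g₂ ∈ G₂, g = g₁ * g₂)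
    (hr₁ : Cfsg.IsFunctorRegular p f G₁) (hr₂ : Cfsg.IsFunctorRegular p f G₂) :
    Cfsg.IsFunctorRegular p f ⊤ := by
  rw [isFunctorRegular_iff hf] at hr₁ hr₂ ⊢
  have hS₁ : SylIn p (S : Subgroup G) G₁ := sylIn_of_sylow_le S h₁
  have hS₂ : SylIn p (S : Subgroup G) G₂ := sylIn_of_sylow_le S h₂
  have hST : SylIn p (S : Subgroup G) ⊤ := sylIn_top S
  have hup : ∀ (Gi : Subgroup G), SylIn p (S : Subgroup G) Gi → ∀ P, SylIn p P Gi → SylIn p P ⊤ := by
    intro Gi hSi P hP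
    obtain ⟨h, -, hc⟩ := hSi.exists_cj_eq hP
    have hPe : P = cj h⁻¹ (S : Subgroup G) := by rw [← hc, cj_inv_cj]
    rw [hPe]
    have := hST.cj h⁻¹
    rwa [cj_top] at this
  have main : ∀ u ∈ G₁, ∀ v ∈ G₂, cj u (S : Subgroup G) ≠ cj v (S : Subgroup G) →
      cj u (S : Subgroup G) ⊓ cj v (S : Subgroup G) ≠ ⊥ →
      FChain p f ⊤ (cj u (S : Subgroup G) ⊓ cj v (S : Subgroup G)) (cj u (S : Subgroup G))
        (cj v (S : Subgroup G)) := by
    intro u hu v hv hne hint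
    have hA₁ : SylIn p (cj u (S : Subgroup G)) G₁ := by
      have := hS₁.cj u; rwa [cj_eq_self_of_mem hu] at this
    have hB₂ : SylIn p (cj v (S : Subgroup G)) G₂ := by
      have := hS₂.cj v; rwa [cj_eq_self_of_mem hv] at this
    have hDle : cj u (S : Subgroup G) ⊓ cj v (S : Subgroup G) ≤ G₁ ⊓ G₂ :=
      le_inf (inf_le_left.trans hA₁.le) (inf_le_right.trans hB₂.le)
    have hS12 : SylIn p (S : Subgroup G) (G₁ ⊓ G₂) := sylIn_of_sylow_le S (le_inf h₁ h₂)
    obtain ⟨c, hc, hcD⟩ := hS12.exists_cj_le hDle (hA₁.isPGroup.to_le inf_le_left)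
    have hA' : SylIn p (cj c (cj u (S : Subgroup G))) G₁ := by
      have := hA₁.cj c; rwa [cj_eq_self_of_mem hc.1] at this
    have hB' : SylIn p (cj c (cj v (S : Subgroup G))) G₂ := by
      have := hB₂.cj c; rwa [cj_eq_self_of_mem hc.2] at this
    have hD' : cj c (cj u (S : Subgroup G) ⊓ cj v (S : Subgroup G)) =
        cj c (cj u (S : Subgroup G)) ⊓ cj c (cj v (S : Subgroup G)) := cj_inf c _ _
    have hD'ne : cj c (cj u (S : Subgroup G) ⊓ cj v (S : Subgroup G)) ≠ ⊥ :=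
      fun h => hint (cj_eq_bot_iff.mp h)
    have hDA : cj c (cj u (S : Subgroup G) ⊓ cj v (S : Subgroup G)) ≤ cj c (cj u (S : Subgroup G)) :=
      hD' ▸ inf_le_left
    have hDB : cj c (cj u (S : Subgroup G) ⊓ cj v (S : Subgroup G)) ≤ cj c (cj v (S : Subgroup G)) :=
      hD' ▸ inf_le_right
    have c1 : FChain p f ⊤ (cj c (cj u (S : Subgroup G) ⊓ cj v (S : Subgroup G)))
        (cj c (cj u (S : Subgroup G))) (S : Subgroup G) := by
      by_cases he : cj c (cj u (S : Subgroup G)) = (S : Subgroup G)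
      · rw [he]; exact FChain.refl _
      · have hint1 : cj c (cj u (S : Subgroup G)) ⊓ (S : Subgroup G) ≠ ⊥ := by
          intro h0; apply hD'ne; rw [eq_bot_iff, ← h0]; exact le_inf hDA hcD
        have := hr₁ _ _ hA' hS₁ he hint1
        exact (this.mono_subgroup le_top (hup G₁ hS₁)).mono (le_inf hDA hcD)
    have c2 : FChain p f ⊤ (cj c (cj u (S : Subgroup G) ⊓ cj v (S : Subgroup G)))
        (S : Subgroup G) (cj c (cj v (S : Subgroup G))) := by
      by_cases he : (S : Subgroup G) = cj c (cj v (S : Subgroup G))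
      · rw [← he]; exact FChain.refl _
      · have hint1 : (S : Subgroup G) ⊓ cj c (cj v (S : Subgroup G)) ≠ ⊥ := by
          intro h0; apply hD'ne; rw [eq_bot_iff, ← h0]; exact le_inf hcD hDB
        have := hr₂ _ _ hS₂ hB' he hint1
        exact (this.mono_subgroup le_top (hup G₂ hS₂)).mono (le_inf hcD hDB)
    have c4 := (c1.trans c2).conj hf c⁻¹
    rwa [cj_top, cj_inv_cj, cj_inv_cj, cj_inv_cj] at c4
  intro A B hA hB hne hint
  obtain ⟨a, -, hAa⟩ := hA.exists_cj_eq hST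
  obtain ⟨b, -, hBb⟩ := hB.exists_cj_eq hST
  obtain ⟨g₁, hg₁, g₂, hg₂, hg⟩ := hprod (a⁻¹ * b)
  have eA : A = cj (a * g₁) (cj g₁⁻¹ (S : Subgroup G)) := by
    rw [← hAa, ← cj_mul]; congr 1; group
  have eB : B = cj (a * g₁) (cj g₂ (S : Subgroup G)) := by
    rw [← hBb, ← cj_mul]; congr 1
    have : b = a * (a⁻¹ * b) := by group
    rw [this, hg]; group
  have hne' : cj g₁⁻¹ (S : Subgroup G) ≠ cj g₂ (S : Subgroup G) := fun h => hne (by rw [eA, eB, h])
  have hint' : cj g₁⁻¹ (S : Subgroup G) ⊓ cj g₂ (S : Subgroup G) ≠ ⊥ := by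
    intro h0; apply hint; rw [eA, eB, ← cj_inf, h0, cj_bot]
  have := (main g₁⁻¹ (G₁.inv_mem hg₁) g₂ hg₂ hne' hint').conj hf (a * g₁)
  rwa [cj_top, cj_inf, ← eA, ← eB] at this

/-- Let p be a prime dividing the order of the finite group G, f an equivariant assignment of a set of subgroups f(P) of P to every p-subgroup P, each normalized by N_G(P), and S a Sylow p-subgroup. If G = G₁G₂ for subgroups G₁, G₂ both containing S and both regular for f (in each Gᵢ, the family of normalizers in Gᵢ of the members of f(P), P a Sylow p-subgroup of Gᵢ, controls Sylow p-intersections), then G itself is regular for f. -/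
theorem result {G : Type*} [Group G] [Finite G] (p : ℕ) [Fact p.Prime] (hdiv : p ∣ Nat.card G)
    (f : Subgroup G → Set (Subgroup G)) (hf : Cfsg.IsNormalizerFunctor p f) (S : Sylow p G)
    (G₁ G₂ : Subgroup G) (h₁ : (S : Subgroup G) ≤ G₁) (h₂ : (S : Subgroup G) ≤ G₂)
    (hprod : ∀ g : G, ∃ g₁ ∈ G₁, ∃ g₂ ∈ G₂, g = g₁ * g₂)
    (hr₁ : Cfsg.IsFunctorRegular p f G₁) (hr₂ : Cfsg.IsFunctorRegular p f G₂) :
    Cfsg.IsFunctorRegular p f ⊤ := by
  exact key p f hf S G₁ G₂ h₁ h₂ hprod hr₁ hr₂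

end Cfsg.Agent.S2957
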