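import Cfsg.Statements.S2958
-- import your own Cfsg.Agent.* helpers here

set_option autoImplicit false
open Cfsg

namespace Cfsg.Agent.S2958

theorem conj_map_map {G : Type*} [Group G] (X : Subgroup G) (a h : G) :
    (X.map (MulAut.conj h).toMonoidHom).map (MulAut.conj a).toMonoidHom
      = X.map (MulAut.conj (a * h)).toMonoidHom := by
  rw [Subgroup.map_map]
  congr 1
  ext x
  simp [MulAut.conj_apply, mul_assoc]

/-- Let X, A, B be subgroups of a group G such that G is generated by the conjugates of X and every conjugate of X is contained in A or in B. Then A = G or B = G. -/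
theorem result {G : Type*} [Group G] (X A B : Subgroup G) (hgen : (⨆ g : G, X.map (MulAut.conj g).toMonoidHom) = ⊤) (hcover : ∀ g : G, X.map (MulAut.conj g).toMonoidHom ≤ A ∨ X.map (MulAut.conj g).toMonoidHom ≤ B) : A = ⊤ ∨ B = ⊤ := by
  by_cases hA : A = ⊤
  · exact Or.inl hA
  right
  -- some conjugate is not inside A
  have hex : ∃ g₀ : G, ¬ X.map (MulAut.conj g₀).toMonoidHom ≤ A := by
    by_contra hcon
    push Not at hcon
    apply hA
    rw [eq_top_iff, ← hgen]
    exact iSup_le hcon
  obtain ⟨g₀, hg₀⟩ := hex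
  set M : Subgroup G := ⨆ h : {h : G // ¬ X.map (MulAut.conj h).toMonoidHom ≤ A},
    X.map (MulAut.conj (h : G)).toMonoidHom with hM
  have hMB : M ≤ B := by
    apply iSup_le
    rintro ⟨h, hh⟩
    rcases hcover h with h1 | h1
    · exact absurd h1 hh
    · exact h1
  -- elements of A map M into M under conjugation
  have hAM : ∀ a ∈ A, M.map (MulAut.conj a).toMonoidHom ≤ M := by
    intro a ha
    rw [hM, Subgroup.map_iSup]
    apply iSup_le
    rintro ⟨h, hh⟩
    rw [conj_map_map]
    have : ¬ X.map (MulAut.conj (a * h)).toMonoidHom ≤ A := by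
      intro hle
      apply hh
      intro y hy
      have hy' : a * y * a⁻¹ ∈ X.map (MulAut.conj (a * h)).toMonoidHom := by
        rw [← conj_map_map]
        exact ⟨y, hy, by simp [MulAut.conj_apply]⟩
      have := hle hy'
      have h2 : y = a⁻¹ * (a * y * a⁻¹) * a := by group
      rw [h2]
      exact A.mul_mem (A.mul_mem (A.inv_mem ha) this) ha
    exact le_iSup (fun h : {h : G // ¬ X.map (MulAut.conj h).toMonoidHom ≤ A} =>
      X.map (MulAut.conj (h : G)).toMonoidHom) ⟨a * h, this⟩
  have hAN : A ≤ Subgroup.normalizer (M : Set G) := by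
    intro a ha
    rw [Subgroup.mem_normalizer_iff]
    intro y
    constructor
    · intro hy
      exact hAM a ha ⟨y, hy, by simp [MulAut.conj_apply]⟩
    · intro hy
      have := hAM a⁻¹ (A.inv_mem ha) ⟨a * y * a⁻¹, hy, rfl⟩
      simpa [MulAut.conj_apply, mul_assoc] using this
  have hnorm : Subgroup.normalizer (M : Set G) = ⊤ := by
    rw [eq_top_iff, ← hgen]
    apply iSup_le
    intro g
    by_cases hg : X.map (MulAut.conj g).toMonoidHom ≤ A
    · exact hg.trans hAN
    · exact (le_iSup (fun h : {h : G // ¬ X.map (MulAut.conj h).toMonoidHom ≤ A} =>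
        X.map (MulAut.conj (h : G)).toMonoidHom) ⟨g, hg⟩).trans Subgroup.le_normalizer
  have hMn : M.Normal := Subgroup.normalizer_eq_top_iff.mp hnorm
  have hMtop : M = ⊤ := by
    rw [eq_top_iff, ← hgen]
    apply iSup_le
    intro g
    have h0 : X.map (MulAut.conj g₀).toMonoidHom ≤ M :=
      le_iSup (fun h : {h : G // ¬ X.map (MulAut.conj h).toMonoidHom ≤ A} =>
        X.map (MulAut.conj (h : G)).toMonoidHom) ⟨g₀, hg₀⟩
    have h1 : g = (g * g₀⁻¹) * g₀ := by group
    rw [h1, ← conj_map_map]
    rintro _ ⟨y, hy, rfl⟩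
    exact hMn.conj_mem y (h0 hy) (g * g₀⁻¹)
  rw [eq_top_iff, ← hMtop]
  exact hMB

end Cfsg.Agent.S2958
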