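import Cfsg.Statements.S2962
import Cfsg.Agent.S0205
import Cfsg.Agent.S0215
import Cfsg.Agent.Lib.Helper96.NQOddB
-- CONDITIONAL FILE (helper96): builds as soon as Cfsg/Agent/S0205.lean (Odd Order Theorem) exists.
-- The odd-order half is unconditional (Lib/Helper96/NQOddA.lean, NQOddB.lean + Z* = S0215).

set_option autoImplicit false
open Cfsg

namespace Cfsg.Agent.S2962

/-- Let G be a finite group with G = QN, where N is a normal subgroup of G and Q is a non-abelian 2-subgroup with Q ∩ N = 1. Suppose that some nontrivial element t of Z(Q) ∩ [Q, Q] satisfies C_N(Q) = C_N(t). Then [N, Q] is solvable of odd order. -/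
theorem result {G : Type*} [Group G] [Finite G] (N Q : Subgroup G) [N.Normal] (hG : Q ⊔ N = ⊤) (hQ : IsPGroup 2 ↥Q) (hQna : ¬ IsMulCommutative ↥Q) (hdisj : Q ⊓ N = ⊥) (t : G) (ht1 : t ≠ 1) (htZ : t ∈ Q ⊓ Subgroup.centralizer (Q : Set G)) (htQ : t ∈ ⁅Q, Q⁆) (hC : N ⊓ Subgroup.centralizer (Q : Set G) = N ⊓ Subgroup.centralizer ({t} : Set G)) : Group.IsSolvable ↥⁅N, Q⁆ ∧ Odd (Nat.card ↥⁅N, Q⁆) := by
  have hyp : Cfsg.Agent.Lib.Helper96.NQOdd.Hyp N Q t := by
    refine ⟨inferInstance, hG, hQ, hdisj, (Subgroup.mem_inf.mp htZ).1, ?_, htQ, ?_⟩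
    · intro q hq
      exact (Subgroup.mem_centralizer_iff.mp (Subgroup.mem_inf.mp htZ).2) q hq
    · intro n hn htn q hq
      have h1 : n ∈ N ⊓ Subgroup.centralizer ({t} : Set G) := by
        refine Subgroup.mem_inf.mpr ⟨hn, ?_⟩
        rw [Subgroup.mem_centralizer_iff]
        intro y hy
        rw [Set.mem_singleton_iff] at hy
        rw [hy]; exact htn
      rw [← hC] at h1
      exact (Subgroup.mem_centralizer_iff.mp (Subgroup.mem_inf.mp h1).2) q hq
  have hodd : Odd (Nat.card ↥⁅N, Q⁆) :=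
    Cfsg.Agent.Lib.Helper96.NQOdd.odd_commutator
      (fun H _ _ P u hu huP hiso => Cfsg.Agent.S0215.result P u hu huP hiso) _ G rfl N Q t hyp
  exact ⟨Cfsg.Agent.S0205.result hodd, hodd⟩

end Cfsg.Agent.S2962
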