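import Cfsg.Statements.S2963
import Mathlib.GroupTheory.Perm.MaximalSubgroups

set_option autoImplicit false
open Cfsg

namespace Cfsg.Agent.S2963

open scoped Pointwise in
theorem key (n : ℕ) (hn : Odd n) (h : Cfsg.IsPMinimal 2 (Equiv.Perm (Fin n))) : ∃ m : ℕ, n = 2 ^ m + 1 := by
  classical
  have : Fact (Nat.Prime 2) := ⟨Nat.prime_two⟩
  obtain ⟨S⟩ : Nonempty (Sylow 2 (Equiv.Perm (Fin n))) := inferInstance
  obtain ⟨hnn, M, ⟨hMco, hSM⟩, hMuniq⟩ := h S
  set P : Subgroup (Equiv.Perm (Fin n)) := S.toSubgroup with hP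
  have hPp : IsPGroup 2 P := S.isPGroup'
  have hcard : Nat.card (Fin n) = n := by simp
  have hodd : ¬ 2 ∣ n := fun h2 => (Nat.not_even_iff_odd.mpr hn) (even_iff_two_dvd.mpr h2)
  obtain ⟨x, hx⟩ := hPp.nonempty_fixed_point_of_prime_not_dvd_card (Fin n) (by rw [hcard]; exact hodd)
  have hx' : ∀ g ∈ P, g x = x := fun g hg => hx ⟨g, hg⟩
  by_cases hn1 : n = 1
  · exfalso
    subst hn1
    apply hnn
    refine ⟨fun a ha g => ?_⟩
    rw [Subsingleton.elim (g * a * g⁻¹) a]
    exact ha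
  have hn3 : 1 < Fintype.card (Fin n) := by
    rw [Fintype.card_fin]
    rcases hn with ⟨k, rfl⟩
    omega
  obtain ⟨y, hy⟩ := Fintype.exists_ne_of_one_lt_card hn3 x
  set O : Set (Fin n) := MulAction.orbit P y with hO
  have hyO : y ∈ O := MulAction.mem_orbit_self y
  have hxO : x ∉ O := by
    rintro ⟨g, hg⟩
    apply hy
    have h1 : (g : Equiv.Perm (Fin n)) y = x := hg
    have h2 : (g : Equiv.Perm (Fin n)) x = x := hx' g g.2
    exact (g : Equiv.Perm (Fin n)).injective (h1.trans h2.symm)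
  have hPx : P ≤ MulAction.stabilizer (Equiv.Perm (Fin n)) ({x} : Set (Fin n)) := by
    intro g hg
    rw [MulAction.mem_stabilizer_iff, Set.smul_set_singleton]
    congr 1
    exact hx' g hg
  have hPO : P ≤ MulAction.stabilizer (Equiv.Perm (Fin n)) O := by
    intro g hg
    rw [MulAction.mem_stabilizer_iff]
    exact MulAction.smul_orbit (⟨g, hg⟩ : P) y
  have hne2 : ∀ s : Set (Fin n), Nat.card (Fin n) ≠ 2 * s.ncard := by
    intro s hs
    rw [hcard] at hs
    exact hodd ⟨_, hs⟩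
  have hcox : IsCoatom (MulAction.stabilizer (Equiv.Perm (Fin n)) ({x} : Set (Fin n))) :=
    Equiv.Perm.isCoatom_stabilizer (Set.singleton_nonempty x) ⟨y, by simpa using hy⟩ (hne2 _)
  have hcoO : IsCoatom (MulAction.stabilizer (Equiv.Perm (Fin n)) O) :=
    Equiv.Perm.isCoatom_stabilizer ⟨y, hyO⟩ ⟨x, hxO⟩ (hne2 _)
  by_cases hOx : O = ({x} : Set (Fin n))ᶜ
  · obtain ⟨k, hk⟩ := hPp.card_orbit (α := Fin n) y
    refine ⟨k, ?_⟩
    have h1 : Nat.card (MulAction.orbit P y) = O.ncard := by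
      rw [hO]; rfl
    rw [h1, hOx, Set.ncard_compl, Set.ncard_singleton, hcard] at hk
    omega
  · exfalso
    have hsub : O ⊆ ({x} : Set (Fin n))ᶜ := by
      intro a ha hax
      rw [Set.mem_singleton_iff] at hax
      exact hxO (hax ▸ ha)
    obtain ⟨z, hz, hzO⟩ : ∃ z, z ∈ ({x} : Set (Fin n))ᶜ ∧ z ∉ O := by
      by_contra hcon
      push Not at hcon
      exact hOx (Set.Subset.antisymm hsub hcon)
    have hzx : z ≠ x := by simpa using hz
    have e1 := hMuniq _ ⟨hcox, hPx⟩
    have e2 := hMuniq _ ⟨hcoO, hPO⟩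
    have hsw : Equiv.swap x z ∈ MulAction.stabilizer (Equiv.Perm (Fin n)) O := by
      rw [← stabilizer_compl]
      exact Equiv.Perm.swap_mem_stabilizer hxO hzO
    rw [e2, ← e1, MulAction.mem_stabilizer_iff, Set.smul_set_singleton] at hsw
    have : Equiv.swap x z • x = x := by simpa using hsw
    rw [Equiv.Perm.smul_def, Equiv.swap_apply_left] at this
    exact hzx this

/-- Let n be odd. If the symmetric group of degree n is a minimal parabolic group for the prime 2, that is, a Sylow 2-subgroup is not normal and lies in exactly one maximal subgroup, then n = 2^m + 1 for some natural number m. -/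
theorem result (n : ℕ) (hn : Odd n) (h : Cfsg.IsPMinimal 2 (Equiv.Perm (Fin n))) : ∃ m : ℕ, n = 2 ^ m + 1 := by
  exact key n hn h

end Cfsg.Agent.S2963
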