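import Cfsg.Statements.S2968
import Cfsg.Agent.Lib.Helper49.Isolated

set_option autoImplicit false
open Cfsg

namespace Cfsg.Agent.S2968

open Cfsg.Agent.Lib.Helper49


/-- Let G be a finite group, p a prime, P a Sylow p-subgroup of G and x ∈ P an element of p-power order which is isolated in G (the only conjugate of x commuting with x is x itself). Then x lies in the centre of P, and the subgroup generated by x is both strongly closed and weakly closed in P with respect to G. -/
theorem result {G : Type*} [Group G] [Finite G] {p : ℕ} [Fact p.Prime] (P : Sylow p G) (x : G) (hxP : x ∈ (P : Subgroup G)) (hx : ∃ k : ℕ, orderOf x = p ^ k) (hiso : Cfsg.IsIsolated x) : x ∈ (P : Subgroup G) ⊓ Subgroup.centralizer ((P : Subgroup G) : Set G) ∧ Cfsg.IsStronglyClosed (Subgroup.zpowers x) (P : Subgroup G) ∧ Cfsg.IsWeaklyClosed (Subgroup.zpowers x) (P : Subgroup G) := by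
  have hcen : ∀ y ∈ (P : Subgroup G), Commute x y :=
    isIsolated_commute_of_mem_pGroup hiso P.2 hxP
  have hzP : Subgroup.zpowers x ≤ (P : Subgroup G) := by
    rw [Subgroup.zpowers_le]; exact hxP
  refine ⟨⟨hxP, ?_⟩, ⟨hzP, ?_⟩, ⟨hzP, ?_⟩⟩
  · show x ∈ Subgroup.centralizer ((P : Subgroup G) : Set G)
    rw [Subgroup.mem_centralizer_iff]
    intro h hh
    exact (hcen h hh).eq.symm
  · intro y hy g hg
    obtain ⟨k, rfl⟩ := Subgroup.mem_zpowers_iff.mp hy
    have hcu : Commute x (g * x ^ k * g⁻¹) := hcen _ hg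
    -- H = C_G(u)
    have hxH : x ∈ Subgroup.centralizer ({g * x ^ k * g⁻¹} : Set G) := by
      rw [Subgroup.mem_centralizer_singleton_iff]
      exact hcu.eq
    have hgH : g * x * g⁻¹ ∈ Subgroup.centralizer ({g * x ^ k * g⁻¹} : Set G) := by
      rw [Subgroup.mem_centralizer_singleton_iff, ← conj_zpow]
      exact ((Commute.refl (g * x * g⁻¹)).zpow_right k).eq
    obtain ⟨h, hh, heq⟩ := isIsolated_exists_conj_mem hiso hx hxH hgH
    rw [Subgroup.mem_centralizer_singleton_iff] at hh
    have hu : g * x ^ k * g⁻¹ = h * x ^ k * h⁻¹ := by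
      rw [← conj_zpow, ← conj_zpow, heq]
    have hfin : g * x ^ k * g⁻¹ = x ^ k := by
      have h1 : h * (g * x ^ k * g⁻¹) * h⁻¹ = g * x ^ k * g⁻¹ := by
        rw [hh]; group
      calc g * x ^ k * g⁻¹ = h⁻¹ * (h * (g * x ^ k * g⁻¹) * h⁻¹) * h := by group
        _ = h⁻¹ * (g * x ^ k * g⁻¹) * h := by rw [h1]
        _ = h⁻¹ * (h * x ^ k * h⁻¹) * h := by rw [hu]
        _ = x ^ k := by group
    rw [hfin]
    exact Subgroup.zpow_mem_zpowers x k
  · intro g hg
    have hmap : (Subgroup.zpowers x).map (MulAut.conj g).toMonoidHom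
        = Subgroup.zpowers (g * x * g⁻¹) := by
      rw [MonoidHom.map_zpowers]
      rfl
    rw [hmap] at hg ⊢
    have hgx : g * x * g⁻¹ ∈ (P : Subgroup G) := hg (Subgroup.mem_zpowers _)
    rw [hiso g (hcen _ hgx)]

end Cfsg.Agent.S2968
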