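import Cfsg.Statements.S2970
import Mathlib.GroupTheory.Transfer
import Mathlib.NumberTheory.Basic
import Mathlib.Data.Nat.Prime.Int
import Cfsg.Agent.Lib.Helper49.Isolated

set_option autoImplicit false
open Cfsg

namespace Cfsg.Agent.S2970

open Cfsg.Agent.Lib.Helper49

variable {G : Type*} [Group G]

theorem conj_pow_gen {u n : G} {a : ℤ} (hn : n * u * n⁻¹ = u ^ a) (m : ℕ) :
    n ^ m * u * (n ^ m)⁻¹ = u ^ (a ^ m) := by
  induction m with
  | zero => simp
  | succ m ih =>
    have h1 : n ^ (m + 1) * u * (n ^ (m + 1))⁻¹ = n * (n ^ m * u * (n ^ m)⁻¹) * n⁻¹ := by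
      rw [pow_succ']; group
    rw [h1, ih, ← conj_zpow, hn, ← zpow_mul, pow_succ, mul_comm]

theorem commute_gen_of_fix {u x n : G} {p k : ℕ} [hp : Fact p.Prime]
    (hu : orderOf u = p ^ k) (a j : ℤ) (hn : n * u * n⁻¹ = u ^ a) (hx : x = u ^ j) (hx1 : x ≠ 1)
    (hfix : n * x * n⁻¹ = x) : Commute (n ^ (p ^ (k - 1))) u := by
  have hk : 1 ≤ k := by
    by_contra hk
    have hk0 : k = 0 := by omega
    rw [hk0, pow_zero, orderOf_eq_one_iff] at hu
    apply hx1
    rw [hx, hu, one_zpow]
  have h1 : u ^ (a * j - j) = 1 := by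
    have : u ^ (a * j) = u ^ j := by
      rw [zpow_mul, ← hn, conj_zpow, ← hx, hfix]
    rw [zpow_sub, this, mul_inv_cancel]
  have hd1 : ((p : ℤ) ^ k) ∣ (a - 1) * j := by
    have := orderOf_dvd_iff_zpow_eq_one.mpr h1
    rw [hu] at this
    have e : (a - 1) * j = a * j - j := by ring
    rw [e]
    exact_mod_cast this
  have hd2 : ¬ ((p : ℤ) ^ k) ∣ j := by
    intro hd
    apply hx1
    rw [hx]
    apply orderOf_dvd_iff_zpow_eq_one.mp
    rw [hu]
    exact_mod_cast hd
  have hpint : Prime (p : ℤ) := Nat.prime_iff_prime_int.mp hp.out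
  have hd3 : (p : ℤ) ∣ a - 1 := by
    by_contra hnd
    exact hd2 (hpint.pow_dvd_of_dvd_mul_left k hnd hd1)
  have hd4 : ((p : ℤ) ^ k) ∣ a ^ (p ^ (k - 1)) - 1 := by
    have := dvd_sub_pow_of_dvd_sub (R := ℤ) (p := p) (a := a) (b := 1) hd3 (k - 1)
    rw [one_pow, Nat.sub_add_cancel hk] at this
    exact this
  have h2 : u ^ (a ^ (p ^ (k - 1))) = u := by
    have h3 : u ^ (a ^ (p ^ (k - 1)) - 1) = 1 := by
      apply orderOf_dvd_iff_zpow_eq_one.mp
      rw [hu]
      exact_mod_cast hd4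
    rw [zpow_sub, zpow_one, mul_inv_eq_one] at h3
    exact h3
  have h4 := conj_pow_gen hn (p ^ (k - 1))
  rw [h2] at h4
  show n ^ (p ^ (k - 1)) * u = u * n ^ (p ^ (k - 1))
  calc n ^ (p ^ (k - 1)) * u = (n ^ (p ^ (k - 1)) * u * (n ^ (p ^ (k - 1)))⁻¹) * n ^ (p ^ (k - 1)) := by
        group
    _ = u * n ^ (p ^ (k - 1)) := by rw [h4]

theorem mem_of_pow_mem_of_coprime {Z : Subgroup G} {n : G} {a b : ℕ} (hab : Nat.Coprime a b)
    (ha : n ^ a ∈ Z) (hb : n ^ b ∈ Z) : n ∈ Z := by
  have h1 : (1 : ℤ) = a * Nat.gcdA a b + b * Nat.gcdB a b := by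
    have := Nat.gcd_eq_gcd_ab a b
    rw [hab] at this
    exact_mod_cast this
  have h2 : n = (n ^ a) ^ (Nat.gcdA a b) * (n ^ b) ^ (Nat.gcdB a b) := by
    rw [← zpow_natCast, ← zpow_natCast, ← zpow_mul, ← zpow_mul, ← zpow_add, ← h1, zpow_one]
  rw [h2]
  exact Z.mul_mem (Z.zpow_mem ha _) (Z.zpow_mem hb _)

open Subgroup in
theorem normalizer_le_centralizer_of_isolated_aux {p : ℕ} [hp : Fact p.Prime] [Finite G] (P : Sylow p G)
    (hcyc : IsCyclic P) {x : G} (hxP : x ∈ (P : Subgroup G)) (hx1 : x ≠ 1)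
    (hfixall : ∀ n ∈ normalizer ((P : Subgroup G) : Set G), n * x * n⁻¹ = x) :
    normalizer ((P : Subgroup G) : Set G) ≤ centralizer ((P : Subgroup G) : Set G) := by
  obtain ⟨u', hu'⟩ := hcyc.exists_generator
  obtain ⟨k, hk⟩ := P.2.exists_card_eq
  have hord : orderOf (u' : G) = p ^ k := by
    rw [← hk, ← orderOf_eq_card_of_forall_mem_zpowers hu', Subgroup.orderOf_coe]
  obtain ⟨j, hj⟩ := Subgroup.mem_zpowers_iff.mp (hu' ⟨x, hxP⟩)
  have hxj : x = (u' : G) ^ j := by
    have := congrArg Subtype.val hj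
    simpa using this.symm
  have hcomm : IsMulCommutative (P : Subgroup G) := by
    have : IsCyclic (P : Subgroup G) := hcyc
    infer_instance
  intro n hn
  have h1 : n * (u' : G) * n⁻¹ ∈ (P : Subgroup G) := (mem_normalizer_iff.mp hn _).mp u'.2
  obtain ⟨a, ha⟩ := Subgroup.mem_zpowers_iff.mp (hu' ⟨_, h1⟩)
  have hna : n * (u' : G) * n⁻¹ = (u' : G) ^ a := by
    have := congrArg Subtype.val ha
    simpa using this.symm
  have hfix := hfixall n hn
  have hc1 : Commute (n ^ (p ^ (k - 1))) (u' : G) := commute_gen_of_fix hord a j hna hxj hx1 hfix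
  set e := (centralizer ((P : Subgroup G) : Set G)).relIndex (normalizer ((P : Subgroup G) : Set G)) with he
  have hc2 : n ^ e ∈ centralizer ((P : Subgroup G) : Set G) := by
    have := Subgroup.pow_index_mem
      ((centralizer ((P : Subgroup G) : Set G)).subgroupOf (normalizer ((P : Subgroup G) : Set G))) ⟨n, hn⟩
    rw [Subgroup.mem_subgroupOf] at this
    simpa [he, Subgroup.relIndex] using this
  have hcop : Nat.Coprime (p ^ (k - 1)) e := by
    apply Nat.Coprime.pow_left
    have hd1 : e ∣ (P : Subgroup G).relIndex (normalizer ((P : Subgroup G) : Set G)) :=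
      relIndex_dvd_of_le_left _ (Subgroup.le_centralizer (P : Subgroup G))
    have hd2 : (P : Subgroup G).relIndex (normalizer ((P : Subgroup G) : Set G)) ∣ (P : Subgroup G).index :=
      relIndex_dvd_index_of_le le_normalizer
    apply Nat.Coprime.coprime_dvd_right (hd1.trans hd2)
    rw [Nat.Prime.coprime_iff_not_dvd hp.out]
    exact P.not_dvd_index
  have hZ1 : n ^ (p ^ (k - 1)) ∈ centralizer ({(u' : G)} : Set G) := by
    rw [mem_centralizer_singleton_iff]
    exact hc1.eq
  have hZ2 : n ^ e ∈ centralizer ({(u' : G)} : Set G) := by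
    rw [mem_centralizer_singleton_iff]
    exact ((mem_centralizer_iff.mp hc2) _ u'.2).symm
  have hZ := mem_of_pow_mem_of_coprime hcop hZ1 hZ2
  rw [mem_centralizer_singleton_iff] at hZ
  rw [mem_centralizer_iff]
  intro y hy
  obtain ⟨i, hi⟩ := Subgroup.mem_zpowers_iff.mp (hu' ⟨y, hy⟩)
  have hyi : y = (u' : G) ^ i := by
    have := congrArg Subtype.val hi
    simpa using this.symm
  rw [hyi]
  have : Commute n (u' : G) := hZ
  exact (this.zpow_right i).eq.symm


/-- Let G be a finite group, p a prime and x ∈ G an element of p-power order which is isolated in G. Then the image of x in any quotient G ⧸ N is isolated in G ⧸ N; and if x ≠ 1 and the Sylow p-subgroups of G are cyclic, then G has a normal p-complement. -/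
theorem result {G : Type*} [Group G] [Finite G] {p : ℕ} [Fact p.Prime] (x : G) (hx : ∃ k : ℕ, orderOf x = p ^ k) (hiso : Cfsg.IsIsolated x) : (∀ (N : Subgroup G) [N.Normal], Cfsg.IsIsolated (QuotientGroup.mk x : G ⧸ N)) ∧ (x ≠ 1 → (∀ P : Sylow p G, IsCyclic ↥(P : Subgroup G)) → Cfsg.HasNormalPComplement p G) := by
  constructor
  · intro N _
    intro gbar hc
    obtain ⟨g, rfl⟩ := QuotientGroup.mk_surjective gbar
    -- K = preimage of the centralizer of the image of x
    set K : Subgroup G := (Subgroup.centralizer ({(QuotientGroup.mk x : G ⧸ N)} : Set (G ⧸ N))).comap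
      (QuotientGroup.mk' N) with hK
    have hxK : x ∈ K := by
      rw [hK, Subgroup.mem_comap, Subgroup.mem_centralizer_singleton_iff]
      rfl
    have hgK : g * x * g⁻¹ ∈ K := by
      rw [hK, Subgroup.mem_comap, Subgroup.mem_centralizer_singleton_iff]
      simp only [QuotientGroup.mk'_apply, QuotientGroup.mk_mul, QuotientGroup.mk_inv]
      exact hc.eq.symm
    obtain ⟨h, hh, heq⟩ := isIsolated_exists_conj_mem hiso hx hxK hgK
    rw [hK, Subgroup.mem_comap, Subgroup.mem_centralizer_singleton_iff] at hh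
    simp only [QuotientGroup.mk'_apply] at hh
    have h1 : (QuotientGroup.mk g : G ⧸ N) * QuotientGroup.mk x * (QuotientGroup.mk g)⁻¹
        = QuotientGroup.mk (g * x * g⁻¹) := by simp
    rw [h1, heq]
    simp only [QuotientGroup.mk_mul, QuotientGroup.mk_inv]
    rw [hh, mul_inv_cancel_right]
  · intro hx1 hcyc
    obtain ⟨k, hk⟩ := hx
    have hpx : IsPGroup p (Subgroup.zpowers x) := by
      apply IsPGroup.of_card (n := k)
      rw [Nat.card_zpowers, hk]
    obtain ⟨P, hP⟩ := hpx.exists_le_sylow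
    have hxP : x ∈ (P : Subgroup G) := hP (Subgroup.mem_zpowers x)
    have hfixall : ∀ n ∈ Subgroup.normalizer ((P : Subgroup G) : Set G), n * x * n⁻¹ = x := by
      intro n hn
      have h1 : n * x * n⁻¹ ∈ (P : Subgroup G) := (Subgroup.mem_normalizer_iff.mp hn x).mp hxP
      exact hiso n (isIsolated_commute_of_mem_pGroup hiso P.2 hxP _ h1)
    have hNC := normalizer_le_centralizer_of_isolated_aux P (hcyc P) hxP hx1 hfixall
    exact ⟨P, (MonoidHom.transferSylow P hNC).ker, inferInstance,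
      MonoidHom.ker_transferSylow_isComplement' P hNC⟩

end Cfsg.Agent.S2970
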