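import Cfsg.Statements.S2971
import Mathlib
import Cfsg.Agent.Lib.Helper49.RankOneCyclic
import Cfsg.Agent.S2970

set_option autoImplicit false
open Cfsg

namespace Cfsg.Agent.S2971

open Cfsg.Agent.Lib.Helper49


/-- Let G be a finite group and p an odd prime such that G has p-rank at most 1 (no elementary abelian subgroup of order p²). If x ∈ G is an isolated element of order p, then x is central modulo the largest normal subgroup of G of order prime to p. -/
theorem result {G : Type*} [Group G] [Finite G] {p : ℕ} [Fact p.Prime] (hp : p ≠ 2) (hrk : Cfsg.PRankLE p 1 G) (x : G) (hx : orderOf x = p) (hiso : Cfsg.IsIsolated x) : Cfsg.InZStar p x := by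
  have hcyc : ∀ P : Sylow p G, IsCyclic ↥(P : Subgroup G) := fun P =>
    isCyclic_of_pRankLE_one hp P.2 (pRankLE_one_subgroup hrk (P : Subgroup G))
  have hx1 : x ≠ 1 := by
    intro h
    rw [h, orderOf_one] at hx
    exact (Fact.out : p.Prime).ne_one hx.symm
  have hx' : ∃ k : ℕ, orderOf x = p ^ k := ⟨1, by rw [hx, pow_one]⟩
  obtain ⟨P, N, hNn, hNP⟩ := (Cfsg.Agent.S2970.result x hx' hiso).2 hx1 hcyc
  -- N ≤ O_{p'}(G)
  have hNcop : (Nat.card N).Coprime p := by
    rw [← hNP.index_eq_card, Nat.coprime_comm, Nat.Prime.coprime_iff_not_dvd Fact.out]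
    exact P.not_dvd_index
  have hNle : N ≤ Cfsg.pPrimeCore p G := le_sSup ⟨hNn, hNcop⟩
  -- the quotient G ⧸ N is the image of P, hence commutative
  have hcomm : IsMulCommutative (P : Subgroup G) := by
    have : IsCyclic (P : Subgroup G) := hcyc P
    infer_instance
  have himg : ∀ q : G ⧸ N, q ∈ (P : Subgroup G).map (QuotientGroup.mk' N) := by
    intro q
    have h1 : (N ⊔ (P : Subgroup G)).map (QuotientGroup.mk' N) = ⊤ := by
      rw [hNP.sup_eq_top]
      exact Subgroup.map_top_of_surjective _ (QuotientGroup.mk'_surjective N)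
    rw [Subgroup.map_sup, QuotientGroup.map_mk'_self, bot_sup_eq] at h1
    rw [h1]; trivial
  intro g
  apply hNle
  rw [← QuotientGroup.eq_one_iff]
  simp only [QuotientGroup.mk_mul, QuotientGroup.mk_inv]
  obtain ⟨u, hu, hug⟩ := himg (QuotientGroup.mk g)
  obtain ⟨v, hv, hvx⟩ := himg (QuotientGroup.mk x)
  have huv : u * v = v * u := by
    have := hcomm.is_comm.comm ⟨u, hu⟩ ⟨v, hv⟩
    exact congrArg Subtype.val this
  rw [← hug, ← hvx, ← map_mul, huv, map_mul, mul_inv_cancel_right, mul_inv_cancel]

end Cfsg.Agent.S2971
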