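import Cfsg.Statements.S2972
import Cfsg.Agent.Lib.Helper50.Isolated
import Cfsg.Agent.Lib.Helper76.PCore
import Mathlib.GroupTheory.SpecificGroups.Cyclic

set_option autoImplicit false
open Cfsg

namespace Cfsg.Agent.S2972

open Cfsg.Agent.Lib.Helper50

section main

variable {G : Type*} [Group G] [Finite G] {p : ℕ} [Fact p.Prime] (x : G) (hx : orderOf x = p)
  (hiso : Cfsg.IsIsolated x) (hnz : ¬ Cfsg.InZStar p x)
  (hmin : ∀ (H : Subgroup G) (hxH : x ∈ H), H ≠ ⊤ → Cfsg.InZStar p (⟨x, hxH⟩ : ↥H))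
  (hquot : ∀ (N : Subgroup G) [N.Normal], N ≠ ⊥ → Cfsg.InZStar p (QuotientGroup.mk x : G ⧸ N))

include hnz in
/-- `x` is not central. -/
theorem not_central : ¬ ∀ g : G, g * x * g⁻¹ = x := by
  intro h
  apply hnz
  intro g
  rw [h g, mul_inv_cancel]
  exact Subgroup.one_mem _

include hnz hquot in
/-- Step 0: `O_{p'}(G) = 1`. -/
theorem core_eq_bot : pPrimeCore p G = ⊥ := by
  by_contra hne
  apply hnz
  have hn : (pPrimeCore p G).Normal := Cfsg.Agent.Lib.Helper55.pPrimeCore_normal' p
  have h1 := hquot (pPrimeCore p G) hne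
  intro g
  have h2 := h1 (QuotientGroup.mk g)
  rw [Cfsg.Agent.Lib.Helper55.pPrimeCore_quotient_pPrimeCore p, Subgroup.mem_bot] at h2
  have h3 : ((g * x * g⁻¹ * x⁻¹ : G) : G ⧸ pPrimeCore p G) = 1 := by
    rw [← h2]; simp
  exact (QuotientGroup.eq_one_iff _).mp h3

include hnz hquot in
theorem core_trivial (N : Subgroup G) (hN : N.Normal) (hc : (Nat.card N).Coprime p) : N = ⊥ := by
  have := Cfsg.Agent.Lib.Helper55.le_pPrimeCore hN hc
  rwa [core_eq_bot x hnz hquot, le_bot_iff] at this

include hnz hmin hquot in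
/-- Step 2a: a normal subgroup `N` with `N⟨x⟩ ≠ G` is centralized by `x`. -/
theorem commute_of_sup_ne_top (N : Subgroup G) [hN : N.Normal] (hne : N ⊔ Subgroup.zpowers x ≠ ⊤)
    (n : G) (hn : n ∈ N) : n * x * n⁻¹ = x := by
  set H := N ⊔ Subgroup.zpowers x with hH
  have hxH : x ∈ H := (le_sup_right : Subgroup.zpowers x ≤ H) (Subgroup.mem_zpowers x)
  have hNH : N ≤ H := le_sup_left
  have h1 := hmin H hxH hne
  have hPn : (pPrimeCore p ↥H).Normal := Cfsg.Agent.Lib.Helper55.pPrimeCore_normal' p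
  have hN'n : (N.subgroupOf H).Normal := inferInstance
  set D' : Subgroup ↥H := pPrimeCore p ↥H ⊓ N.subgroupOf H with hD'
  have hD'n : D'.Normal := inferInstance
  set D : Subgroup G := D'.map H.subtype with hD
  have hDN : D ≤ N := by
    rintro _ ⟨d, hd, rfl⟩
    exact Subgroup.mem_subgroupOf.mp hd.2
  have hnorm : N ≤ Subgroup.normalizer (D : Set G) := by
    intro m hm
    rw [Subgroup.mem_normalizer_iff]
    intro d
    constructor
    · rintro ⟨d', hd', rfl⟩
      exact ⟨⟨m, hNH hm⟩ * d' * ⟨m, hNH hm⟩⁻¹, hD'n.conj_mem d' hd' _, by simp⟩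
    · rintro ⟨d', hd', hdd⟩
      refine ⟨⟨m, hNH hm⟩⁻¹ * d' * ⟨m, hNH hm⟩, ?_, ?_⟩
      · have := hD'n.conj_mem d' hd' ⟨m, hNH hm⟩⁻¹
        simpa using this
      · simp only [Subgroup.subtype_apply] at hdd
        simp only [Subgroup.subtype_apply, Subgroup.coe_mul, Subgroup.coe_inv, hdd]
        group
  have hDc : (Nat.card D).Coprime p := by
    rw [hD, Subgroup.card_map_of_injective H.subtype_injective]
    have h2 : Nat.card D' ∣ Nat.card (pPrimeCore p ↥H) := Subgroup.card_dvd_of_le inf_le_left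
    exact Nat.Coprime.coprime_dvd_left h2 (Cfsg.Agent.Lib.Helper55.card_pPrimeCore_coprime p)
  have hDbot : D = ⊥ :=
    eq_bot_of_le_normal_of_coprime (core_eq_bot x hnz hquot) N D hDN hnorm hDc
  have h3 : n * x * n⁻¹ * x⁻¹ ∈ D := by
    have h4 : (⟨n, hNH hn⟩ * ⟨x, hxH⟩ * ⟨n, hNH hn⟩⁻¹ * ⟨x, hxH⟩⁻¹ : ↥H) ∈ N.subgroupOf H := by
      rw [Subgroup.mem_subgroupOf]
      simp only [Subgroup.coe_mul, Subgroup.coe_inv]
      have : x * n⁻¹ * x⁻¹ ∈ N := hN.conj_mem _ (N.inv_mem hn) x
      have := N.mul_mem hn this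
      simpa [mul_assoc] using this
    exact ⟨⟨n, hNH hn⟩ * ⟨x, hxH⟩ * ⟨n, hNH hn⟩⁻¹ * ⟨x, hxH⟩⁻¹,
      Subgroup.mem_inf.mpr ⟨h1 ⟨n, hNH hn⟩, h4⟩, by simp⟩
  rw [hDbot, Subgroup.mem_bot] at h3
  calc n * x * n⁻¹ = (n * x * n⁻¹ * x⁻¹) * x := by group
    _ = x := by rw [h3, one_mul]

include hiso hnz hmin hquot in
/-- Step 2: `G` is the normal closure of `x`. -/
theorem normalClosure_eq_top : Subgroup.normalClosure ({x} : Set G) = ⊤ := by
  by_contra hne
  apply not_central x hnz
  intro g
  set L := Subgroup.normalClosure ({x} : Set G) with hL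
  have hxL : x ∈ L := Subgroup.subset_normalClosure (Set.mem_singleton x)
  have hsup : L ⊔ Subgroup.zpowers x = L := sup_eq_left.mpr ((Subgroup.zpowers_le).mpr hxL)
  have hgL : g * x * g⁻¹ ∈ L := (inferInstance : L.Normal).conj_mem x hxL g
  have h1 := commute_of_sup_ne_top x hnz hmin hquot L (by rw [hsup]; exact hne) _ hgL
  apply hiso g
  show x * _ = _ * x
  calc x * (g * x * g⁻¹) = ((g * x * g⁻¹) * x * (g * x * g⁻¹)⁻¹) * (g * x * g⁻¹) := by rw [h1]
    _ = g * x * g⁻¹ * x := by group

include hiso hnz hmin hquot in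
/-- Step 2b: a normal subgroup `N` with `N⟨x⟩ ≠ G` is central. -/
theorem le_center_of_sup_ne_top (N : Subgroup G) [hN : N.Normal]
    (hne : N ⊔ Subgroup.zpowers x ≠ ⊤) : N ≤ Subgroup.center G := by
  have h1 : ({x} : Set G) ⊆ Subgroup.centralizer (N : Set G) := by
    intro y hy
    rw [Set.mem_singleton_iff] at hy
    subst hy
    rw [SetLike.mem_coe, Subgroup.mem_centralizer_iff]
    intro n hn
    have := commute_of_sup_ne_top y hnz hmin hquot N hne n hn
    calc n * y = (n * y * n⁻¹) * n := by group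
      _ = y * n := by rw [this]
  have h2 : Subgroup.normalClosure ({x} : Set G) ≤ Subgroup.centralizer (N : Set G) :=
    Subgroup.normalClosure_le_normal h1
  rw [normalClosure_eq_top x hiso hnz hmin hquot, top_le_iff,
    Subgroup.centralizer_eq_top_iff_subset] at h2
  exact h2

include hx hiso hnz hquot in
/-- Step 3: the centre is trivial. -/
theorem center_eq_bot : Subgroup.center G = ⊥ := by
  by_contra hne
  have hcore := core_trivial x hnz hquot
  have hdvd : p ∣ Nat.card (Subgroup.center G) := by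
    by_contra hnd
    exact hne (hcore _ inferInstance ((Nat.Prime.coprime_iff_not_dvd Fact.out).mpr hnd).symm)
  obtain ⟨z, hz⟩ := exists_prime_orderOf_dvd_card' p hdvd
  set N := Subgroup.zpowers (z : G) with hN
  have hzc : ∀ g : G, g * (z : G) = (z : G) * g := fun g => Subgroup.mem_center_iff.mp z.2 g
  have hNc : N ≤ Subgroup.center G := (Subgroup.zpowers_le).mpr z.2
  have hNn : N.Normal := by
    constructor
    intro n hn g
    have := Subgroup.mem_center_iff.mp (hNc hn) g
    have h2 : g * n * g⁻¹ = n := by rw [this]; group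
    rw [h2]; exact hn
  have hzo : orderOf (z : G) = p := by rw [Subgroup.orderOf_coe]; exact hz
  have hNcard : Nat.card N = p := by rw [hN, Nat.card_zpowers, hzo]
  have hNp : IsPGroup p N := IsPGroup.of_card (n := 1) (by rw [hNcard, pow_one])
  have hNne : N ≠ ⊥ := by
    intro h
    rw [h, Subgroup.card_bot] at hNcard
    exact (Fact.out : p.Prime).one_lt.ne hNcard
  have h1 := hquot N hNne
  set π := QuotientGroup.mk' N with hπ
  set A := (pPrimeCore p (G ⧸ N)).comap π with hA
  have hAn : A.Normal := (Cfsg.Agent.Lib.Helper55.pPrimeCore_normal' p).comap π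
  have hker : π.ker = N := QuotientGroup.ker_mk' N
  have hNA : N ≤ A := by
    rw [← hker]; exact Subgroup.ker_le_comap π _
  have hsurj : Function.Surjective π := QuotientGroup.mk'_surjective N
  have hidx : (N.relIndex A).Coprime p := by
    have h4 : pPrimeCore p (G ⧸ N) = A.map π := by
      rw [hA, Subgroup.map_comap_eq_self_of_surjective hsurj]
    have h5 : N.relIndex A = (⊥ : Subgroup (G ⧸ N)).relIndex (pPrimeCore p (G ⧸ N)) := by
      rw [h4, ← Subgroup.map_bot π, Subgroup.relIndex_map_map, hker, bot_sup_eq,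
        sup_eq_left.mpr hNA]
    rw [h5, Subgroup.relIndex_bot_left]
    exact Cfsg.Agent.Lib.Helper55.card_pPrimeCore_coprime p
  have hcomm : ∀ b ∈ N, ∀ a ∈ A, a * b = b * a := by
    intro b hb a _
    exact Subgroup.mem_center_iff.mp (hNc hb) a
  have hAN : A ≤ N :=
    Cfsg.Agent.Lib.Helper76.le_of_central_coprime_relIndex p hcore A N hAn hNA hNn hNp hcomm hidx
  apply not_central x hnz
  intro g
  have h2 : g * x * g⁻¹ * x⁻¹ ∈ A := by
    rw [hA, Subgroup.mem_comap]
    have := h1 (π g)
    rw [map_mul, map_mul, map_mul, map_inv, map_inv]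
    exact this
  have h3 : g * x * g⁻¹ * x⁻¹ ∈ Subgroup.center G := hNc (hAN h2)
  apply hiso g
  show x * _ = _ * x
  have h4 := Subgroup.mem_center_iff.mp h3 x
  calc x * (g * x * g⁻¹) = x * (g * x * g⁻¹ * x⁻¹) * x := by group
    _ = (g * x * g⁻¹ * x⁻¹) * x * x := by rw [h4]
    _ = g * x * g⁻¹ * x := by group

include hx hiso hnz hmin hquot in
/-- Step 4: a nontrivial normal subgroup `N` has `N⟨x⟩ = G`. -/
theorem sup_eq_top_of_ne_bot (N : Subgroup G) [hN : N.Normal] (hne : N ≠ ⊥) :
    N ⊔ Subgroup.zpowers x = ⊤ := by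
  by_contra h
  have := le_center_of_sup_ne_top x hiso hnz hmin hquot N h
  rw [center_eq_bot x hx hiso hnz hquot, le_bot_iff] at this
  exact hne this

open scoped commutatorElement in
include hx hiso hnz hmin hquot in
/-- Step 4': the derived subgroup lies in every nontrivial normal subgroup. -/
theorem commutator_le_of_ne_bot (N : Subgroup G) [hN : N.Normal] (hne : N ≠ ⊥) :
    commutator G ≤ N := by
  have htop := sup_eq_top_of_ne_bot x hx hiso hnz hmin hquot N hne
  have key : ∀ g : G, ∃ k : ℤ, (g : G ⧸ N) = (x : G ⧸ N) ^ k := by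
    intro g
    have hg : g ∈ N ⊔ Subgroup.zpowers x := htop ▸ Subgroup.mem_top g
    obtain ⟨y, hy, z, hz, rfl⟩ := Subgroup.mem_sup_of_normal_left.mp hg
    obtain ⟨k, rfl⟩ := Subgroup.mem_zpowers_iff.mp hz
    refine ⟨k, ?_⟩
    rw [QuotientGroup.mk_mul, (QuotientGroup.eq_one_iff y).mpr hy, one_mul, QuotientGroup.mk_zpow]
  rw [commutator_def, Subgroup.commutator_le]
  intro g₁ _ g₂ _
  obtain ⟨k₁, hk₁⟩ := key g₁
  obtain ⟨k₂, hk₂⟩ := key g₂
  rw [← QuotientGroup.eq_one_iff]
  have : ((⁅g₁, g₂⁆ : G) : G ⧸ N) = ⁅(g₁ : G ⧸ N), (g₂ : G ⧸ N)⁆ := by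
    simp [commutatorElement_def]
  rw [this, commutatorElement_eq_one_iff_commute, hk₁, hk₂]
  exact Commute.zpow_zpow_self _ _ _

open scoped commutatorElement in
include hnz in
/-- Step 5: the derived subgroup is nontrivial. -/
theorem commutator_ne_bot : commutator G ≠ ⊥ := by
  intro h
  apply not_central x hnz
  intro g
  have h1 : ⁅g, x⁆ ∈ commutator G := by
    rw [commutator_def]
    exact Subgroup.commutator_mem_commutator (Subgroup.mem_top g) (Subgroup.mem_top x)
  rw [h, Subgroup.mem_bot, commutatorElement_def] at h1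
  calc g * x * g⁻¹ = (g * x * g⁻¹ * x⁻¹) * x := by group
    _ = x := by rw [h1, one_mul]

include hx hiso hnz hmin hquot in
theorem commutator_sup_eq_top : commutator G ⊔ Subgroup.zpowers x = ⊤ :=
  sup_eq_top_of_ne_bot x hx hiso hnz hmin hquot (commutator G) (commutator_ne_bot x hnz)

include hx hiso hnz hmin hquot in
/-- Step 6a: a nontrivial subgroup `S` of `D = G'` normalized by `D` contains a nontrivial element
centralized by a `D`-conjugate of `x`. -/
theorem exists_commute (S : Subgroup G) (hSD : S ≤ commutator G)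
    (hDS : commutator G ≤ Subgroup.normalizer (S : Set G)) (hS : S ≠ ⊥) :
    ∃ a ∈ S, a ≠ 1 ∧ ∃ d ∈ commutator G, Commute (d * x * d⁻¹) a := by
  have hcore := core_eq_bot x hnz hquot
  have hdvd : p ∣ Nat.card S := by
    by_contra hnd
    exact hS (eq_bot_of_le_normal_of_coprime hcore (commutator G) S hSD hDS
      ((Nat.Prime.coprime_iff_not_dvd Fact.out).mpr hnd).symm)
  obtain ⟨a', ha'⟩ := exists_prime_orderOf_dvd_card' p hdvd
  have hao : orderOf (a' : G) = p := by rw [Subgroup.orderOf_coe]; exact ha'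
  have hane : (a' : G) ≠ 1 := by
    intro h
    rw [h, orderOf_one] at hao
    exact (Fact.out : p.Prime).one_lt.ne hao
  have hxp : IsPGroup p (Subgroup.zpowers x) :=
    IsPGroup.of_card (n := 1) (by rw [Nat.card_zpowers, hx, pow_one])
  have hap : IsPGroup p (Subgroup.zpowers (a' : G)) :=
    IsPGroup.of_card (n := 1) (by rw [Nat.card_zpowers, hao, pow_one])
  obtain ⟨g, hg⟩ := exists_conj_commute_of_isIsolated x hiso hxp _ hap
  have hcomm := hg (a' : G) (Subgroup.mem_zpowers _)
  have hgtop : g ∈ commutator G ⊔ Subgroup.zpowers x :=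
    commutator_sup_eq_top x hx hiso hnz hmin hquot ▸ Subgroup.mem_top g
  obtain ⟨d, hd, z, hz, rfl⟩ := Subgroup.mem_sup_of_normal_left.mp hgtop
  obtain ⟨k, rfl⟩ := Subgroup.mem_zpowers_iff.mp hz
  refine ⟨a', a'.2, hane, d, hd, ?_⟩
  have : d * x ^ k * x * (d * x ^ k)⁻¹ = d * x * d⁻¹ := by
    have h1 : x ^ k * x * (x ^ k)⁻¹ = x := by
      rw [← zpow_add_one, ← zpow_neg, ← zpow_add]
      simp
    calc d * x ^ k * x * (d * x ^ k)⁻¹ = d * (x ^ k * x * (x ^ k)⁻¹) * d⁻¹ := by group
      _ = d * x * d⁻¹ := by rw [h1]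
  rwa [this] at hcomm

/-- the conjugate `x S x⁻¹` -/
abbrev conjBy (S : Subgroup G) : Subgroup G := S.map (MulAut.conj x).toMonoidHom

include hx hiso hnz hmin hquot in
/-- Step 6b: a minimal nontrivial subgroup of `D` normalized by `D` is `D`. -/
theorem eq_commutator_of_minimal (S : Subgroup G)
    (hmin' : Minimal (fun S : Subgroup G => S ≤ commutator G ∧
      commutator G ≤ Subgroup.normalizer (S : Set G) ∧ S ≠ ⊥) S) : S = commutator G := by
  obtain ⟨⟨hSD, hDS, hS⟩, hle⟩ := hmin'
  obtain ⟨a, haS, hane, d, hd, hcomm⟩ := exists_commute x hx hiso hnz hmin hquot S hSD hDS hS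
  have hDn : (commutator G).Normal := inferInstance
  set T := conjBy x S with hT
  have hmemT : ∀ t, t ∈ T ↔ x⁻¹ * t * x ∈ S := by
    intro t
    constructor
    · rintro ⟨s, hs, rfl⟩
      simpa [mul_assoc] using hs
    · intro h
      exact ⟨x⁻¹ * t * x, h, by simp [mul_assoc]⟩
  have hTD : T ≤ commutator G := by
    rintro _ ⟨s, hs, rfl⟩
    exact hDn.conj_mem s (hSD hs) x
  have hDT : commutator G ≤ Subgroup.normalizer (T : Set G) := by
    intro e he
    have he' : x⁻¹ * e * x ∈ commutator G := by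
      have := hDn.conj_mem e he x⁻¹
      simpa using this
    have hn := Subgroup.mem_normalizer_iff.mp (hDS he')
    rw [Subgroup.mem_normalizer_iff]
    intro t
    rw [hmemT, hmemT, hn (x⁻¹ * t * x)]
    have : x⁻¹ * e * x * (x⁻¹ * t * x) * (x⁻¹ * e * x)⁻¹ = x⁻¹ * (e * t * e⁻¹) * x := by group
    rw [this]
  have haT : a ∈ T := by
    -- `a = y a y⁻¹` with `y = d x d⁻¹`
    have h1 : a = d * (x * (d⁻¹ * a * d) * x⁻¹) * d⁻¹ := by
      have h2 : d * (x * (d⁻¹ * a * d) * x⁻¹) * d⁻¹ = (d * x * d⁻¹) * a * (d * x * d⁻¹)⁻¹ := by group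
      rw [h2, hcomm.eq]; group
    have h3 : d⁻¹ * a * d ∈ S := by
      have := (Subgroup.mem_normalizer_iff.mp (hDS (Subgroup.inv_mem _ hd)) a).mp haS
      simpa using this
    have h4 : x * (d⁻¹ * a * d) * x⁻¹ ∈ T := ⟨_, h3, rfl⟩
    have h5 := (Subgroup.mem_normalizer_iff.mp (hDT hd) _).mp h4
    rw [← h1] at h5
    exact h5
  have hST : S ≤ S ⊓ T := by
    apply hle
    refine ⟨inf_le_left.trans hSD, ?_, ?_⟩
    · intro e he
      rw [Subgroup.mem_normalizer_iff]
      intro t
      rw [Subgroup.mem_inf, Subgroup.mem_inf,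
        Subgroup.mem_normalizer_iff.mp (hDS he) t, Subgroup.mem_normalizer_iff.mp (hDT he) t]
    · intro h
      have : a ∈ S ⊓ T := ⟨haS, haT⟩
      rw [h, Subgroup.mem_bot] at this
      exact hane this
    · exact inf_le_left
  have hST' : S ≤ T := hST.trans inf_le_right
  have hcard : Nat.card T = Nat.card S :=
    Subgroup.card_map_of_injective (MulAut.conj x).injective
  have hTS : S = T := Subgroup.eq_of_le_of_card_ge hST' hcard.le
  have hxN : x ∈ Subgroup.normalizer (S : Set G) := by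
    rw [Subgroup.mem_normalizer_iff_map_conj_eq]
    exact hTS.symm
  have hSn : S.Normal := by
    rw [← Subgroup.normalizer_eq_top_iff, eq_top_iff,
      ← commutator_sup_eq_top x hx hiso hnz hmin hquot]
    exact sup_le hDS ((Subgroup.zpowers_le).mpr hxN)
  exact le_antisymm hSD (commutator_le_of_ne_bot x hx hiso hnz hmin hquot S hS)

include hx hiso hnz hmin hquot in
/-- Step 6c. -/
theorem eq_commutator_of_ne_bot (S : Subgroup G) (hSD : S ≤ commutator G)
    (hDS : commutator G ≤ Subgroup.normalizer (S : Set G)) (hS : S ≠ ⊥) : S = commutator G := by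
  obtain ⟨S₀, hS₀, hmin'⟩ := Finite.exists_le_minimal
    (p := fun S : Subgroup G => S ≤ commutator G ∧
      commutator G ≤ Subgroup.normalizer (S : Set G) ∧ S ≠ ⊥) ⟨hSD, hDS, hS⟩
  have := eq_commutator_of_minimal x hx hiso hnz hmin hquot S₀ hmin'
  exact le_antisymm hSD (this ▸ hS₀)

include hx hiso hnz hmin hquot in
/-- Step 6: `G'` is simple. -/
theorem isSimpleGroup_commutator : IsSimpleGroup ↥(commutator G) := by
  have hnt : Nontrivial ↥(commutator G) :=
    (Subgroup.nontrivial_iff_ne_bot _).mpr (commutator_ne_bot x hnz)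
  refine ⟨fun S' hS' => ?_⟩
  by_cases hb : S' = ⊥
  · exact Or.inl hb
  right
  have hSD : S'.map (commutator G).subtype ≤ commutator G := Subgroup.map_subtype_le S'
  have hDS : commutator G ≤ Subgroup.normalizer (S'.map (commutator G).subtype : Set G) := by
    intro e he
    rw [Subgroup.mem_normalizer_iff]
    intro t
    constructor
    · rintro ⟨t', ht', rfl⟩
      exact ⟨⟨e, he⟩ * t' * ⟨e, he⟩⁻¹, hS'.conj_mem t' ht' _, by simp⟩
    · rintro ⟨t', ht', htt⟩
      refine ⟨⟨e, he⟩⁻¹ * t' * ⟨e, he⟩, ?_, ?_⟩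
      · have := hS'.conj_mem t' ht' ⟨e, he⟩⁻¹
        simpa using this
      · simp only [Subgroup.subtype_apply] at htt
        simp only [Subgroup.subtype_apply, Subgroup.coe_mul, Subgroup.coe_inv, htt]
        group
  have hSne : S'.map (commutator G).subtype ≠ ⊥ := by
    intro h
    apply hb
    rwa [Subgroup.map_eq_bot_iff_of_injective _ (commutator G).subtype_injective] at h
  have hSeq := eq_commutator_of_ne_bot x hx hiso hnz hmin hquot _ hSD hDS hSne
  rw [eq_top_iff]
  intro t _
  have : (t : G) ∈ S'.map (commutator G).subtype := by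
    rw [hSeq]; exact t.2
  obtain ⟨t', ht', htt⟩ := this
  have : t' = t := Subtype.ext htt
  exact this ▸ ht'

include hx hiso hnz hmin hquot in
/-- Step 7: `G'` is not abelian. -/
theorem not_comm_commutator : ¬ IsMulCommutative ↥(commutator G) := by
  intro hc
  set D := commutator G with hD
  have hDc : ∀ a ∈ D, ∀ b ∈ D, a * b = b * a := by
    intro a ha b hb
    have := hc.is_comm.comm (⟨a, ha⟩ : ↥D) ⟨b, hb⟩
    exact congrArg Subtype.val this
  have hDn : D.Normal := inferInstance
  obtain ⟨a, haD, hane, d, hd, hcomm⟩ := exists_commute x hx hiso hnz hmin hquot D le_rfl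
    Subgroup.le_normalizer (commutator_ne_bot x hnz)
  -- `a` commutes with `x`
  have hax : x * a = a * x := by
    have h1 : d⁻¹ * a * d = a := by
      rw [mul_assoc, hDc a haD d hd, ← mul_assoc, inv_mul_cancel, one_mul]
    have h2 := hcomm.eq
    have h3 : x * (d⁻¹ * a * d) = (d⁻¹ * a * d) * x := by
      calc x * (d⁻¹ * a * d) = d⁻¹ * ((d * x * d⁻¹) * a) * d := by group
        _ = d⁻¹ * (a * (d * x * d⁻¹)) * d := by rw [h2]
        _ = (d⁻¹ * a * d) * x := by group
    rwa [h1] at h3
  set C := D ⊓ Subgroup.centralizer ({x} : Set G) with hC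
  have hmemC : ∀ c, c ∈ C ↔ c ∈ D ∧ x * c = c * x := by
    intro c
    rw [hC, Subgroup.mem_inf, Subgroup.mem_centralizer_iff]
    constructor
    · rintro ⟨h1, h2⟩
      exact ⟨h1, h2 x rfl⟩
    · rintro ⟨h1, h2⟩
      refine ⟨h1, fun y hy => ?_⟩
      rw [Set.mem_singleton_iff] at hy
      rw [hy]; exact h2
  have haC : a ∈ C := (hmemC a).mpr ⟨haD, hax⟩
  have hCne : C ≠ ⊥ := by
    intro h
    rw [h, Subgroup.mem_bot] at haC
    exact hane haC
  have hCn : C.Normal := by
    rw [← Subgroup.normalizer_eq_top_iff, eq_top_iff,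
      ← commutator_sup_eq_top x hx hiso hnz hmin hquot]
    refine sup_le ?_ ((Subgroup.zpowers_le).mpr ?_)
    · intro e he
      rw [Subgroup.mem_normalizer_iff]
      intro c
      have : ∀ c ∈ D, e * c * e⁻¹ = c := by
        intro c hc'
        rw [hDc e he c hc', mul_assoc, mul_inv_cancel, mul_one]
      constructor
      · intro hcC
        rw [this c ((hmemC c).mp hcC).1]; exact hcC
      · intro hcC
        have hcD : c ∈ D := by
          have := hDn.conj_mem _ ((hmemC _).mp hcC).1 e⁻¹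
          simpa [mul_assoc] using this
        rw [this c hcD] at hcC; exact hcC
    · rw [Subgroup.mem_normalizer_iff]
      intro c
      have : ∀ c ∈ C, x * c * x⁻¹ = c := by
        intro c hc'
        rw [((hmemC c).mp hc').2, mul_assoc, mul_inv_cancel, mul_one]
      constructor
      · intro hcC
        rw [this c hcC]; exact hcC
      · intro hcC
        have h1 : x * c * x⁻¹ ∈ D ∧ x * (x * c * x⁻¹) = (x * c * x⁻¹) * x := (hmemC _).mp hcC
        have h2 : c = x⁻¹ * (x * c * x⁻¹) * x := by group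
        rw [hmemC]
        refine ⟨?_, ?_⟩
        · have := hDn.conj_mem _ h1.1 x⁻¹
          rw [h2]; simpa using this
        · have h3 := h1.2
          calc x * c = x⁻¹ * (x * (x * c * x⁻¹)) * x := by group
            _ = x⁻¹ * ((x * c * x⁻¹) * x) * x := by rw [h3]
            _ = c * x := by group
  have hDC : D ≤ C := commutator_le_of_ne_bot x hx hiso hnz hmin hquot C hCne
  apply not_central x hnz
  have htop : (⊤ : Subgroup G) ≤ Subgroup.centralizer ({x} : Set G) := by
    rw [← commutator_sup_eq_top x hx hiso hnz hmin hquot]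
    refine sup_le (hDC.trans inf_le_right) ((Subgroup.zpowers_le).mpr ?_)
    rw [Subgroup.mem_centralizer_iff]
    intro y hy
    rw [Set.mem_singleton_iff] at hy
    rw [hy]
  intro g
  have := Subgroup.mem_centralizer_iff.mp (htop (Subgroup.mem_top g)) x rfl
  calc g * x * g⁻¹ = (x * g) * g⁻¹ := by rw [this]
    _ = x := by group

end main

/-- Let G be a finite group, p a prime and x ∈ G an isolated element of order p (the only conjugate of x commuting with x is x) which is not central modulo the largest normal subgroup of order prime to p, while x is central modulo the largest normal subgroup of order prime to p in every proper subgroup containing x, and the image of x is so in every quotient of G by a nontrivial normal subgroup (a minimal counterexample to the Z*_p statement). Then the derived subgroup G' is a non-abelian simple group and G = G'⟨x⟩. -/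
theorem result {G : Type*} [Group G] [Finite G] {p : ℕ} [Fact p.Prime] (x : G) (hx : orderOf x = p) (hiso : Cfsg.IsIsolated x) (hnz : ¬ Cfsg.InZStar p x) (hmin : ∀ (H : Subgroup G) (hxH : x ∈ H), H ≠ ⊤ → Cfsg.InZStar p (⟨x, hxH⟩ : ↥H)) (hquot : ∀ (N : Subgroup G) [N.Normal], N ≠ ⊥ → Cfsg.InZStar p (QuotientGroup.mk x : G ⧸ N)) : IsSimpleGroup ↥(commutator G) ∧ ¬ IsMulCommutative ↥(commutator G) ∧ commutator G ⊔ Subgroup.zpowers x = ⊤ := by
  exact ⟨isSimpleGroup_commutator x hx hiso hnz hmin hquot, not_comm_commutator x hx hiso hnz hmin hquot,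
    commutator_sup_eq_top x hx hiso hnz hmin hquot⟩

end Cfsg.Agent.S2972
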