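import Cfsg.Statements.S2975
import Cfsg.Agent.S2972
import Cfsg.Agent.Lib.Helper50.Isolated
import Cfsg.Agent.Lib.Helper48.Generation
import Cfsg.Agent.Lib.Helper32.SubnormalCore
import Cfsg.Agent.Lib.Helper34.SylowConj

set_option autoImplicit false
open Cfsg

namespace Cfsg.Agent.S2975

open Cfsg.Agent.Lib.Helper50

theorem mem_conj_iff' {G : Type*} [Group G] (K : Subgroup G) (g x : G) :
    x ∈ K.map (MulAut.conj g).toMonoidHom ↔ g⁻¹ * x * g ∈ K := by
  constructor
  · rintro ⟨y, hy, rfl⟩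
    simpa [mul_assoc] using hy
  · intro h
    exact ⟨g⁻¹ * x * g, h, by simp [mul_assoc]⟩

theorem mem_normalizer_of_conj_le' {G : Type*} [Group G] [Finite G] (K : Subgroup G) (g : G)
    (h : K.map (MulAut.conj g).toMonoidHom ≤ K) : g ∈ Subgroup.normalizer (K : Set G) := by
  rw [Subgroup.mem_normalizer_iff_map_conj_eq]
  exact Subgroup.eq_of_le_of_card_ge h
    (Subgroup.card_map_of_injective (MulAut.conj g).injective).ge

theorem isPGroup_zpowers_of_orderOf {G : Type*} [Group G] {p : ℕ} [Fact p.Prime] (x : G)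
    (hx : orderOf x = p) : IsPGroup p (Subgroup.zpowers x) :=
  IsPGroup.of_card (n := 1) (by rw [Nat.card_zpowers, hx, pow_one])

/-- Part 2: the centralizer of an isolated `p`-element is transitive on the invariant Sylow
`q`-subgroups. -/
theorem exists_centralizer_conj_sylow {G : Type*} [Group G] [Finite G] {p : ℕ} [Fact p.Prime]
    (x : G) (hx : orderOf x = p) (hiso : Cfsg.IsIsolated x) (q : ℕ) [Fact q.Prime]
    (S₁ S₂ : Sylow q G) (h₁ : x ∈ Subgroup.normalizer ((S₁ : Subgroup G) : Set G))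
    (h₂ : x ∈ Subgroup.normalizer ((S₂ : Subgroup G) : Set G)) :
    ∃ c ∈ Subgroup.centralizer ({x} : Set G),
      (S₁ : Subgroup G).map (MulAut.conj c).toMonoidHom = (S₂ : Subgroup G) := by
  obtain ⟨g, hg⟩ := MulAction.exists_smul_eq G S₁ S₂
  have hmem : ∀ a : G, a ∈ (S₂ : Subgroup G) ↔ g⁻¹ * a * g ∈ (S₁ : Subgroup G) := by
    intro a
    rw [← hg, Sylow.smul_def, Sylow.pointwise_smul_def, Subgroup.mem_pointwise_smul_iff_inv_smul_mem]
    simp [MulAut.smul_def, mul_assoc]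
  set N := Subgroup.normalizer ((S₁ : Subgroup G) : Set G) with hN
  have hyN : g⁻¹ * x * g ∈ N := by
    rw [hN, Subgroup.mem_normalizer_iff]
    intro s
    have e1 : s ∈ (S₁ : Subgroup G) ↔ g * s * g⁻¹ ∈ (S₂ : Subgroup G) := by
      rw [hmem]
      have : g⁻¹ * (g * s * g⁻¹) * g = s := by group
      rw [this]
    have e2 := Subgroup.mem_normalizer_iff.mp h₂ (g * s * g⁻¹)
    rw [e1, e2, hmem]
    have : g⁻¹ * (x * (g * s * g⁻¹) * x⁻¹) * g = g⁻¹ * x * g * s * (g⁻¹ * x * g)⁻¹ := by group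
    rw [this]
  have hxo : orderOf (⟨x, h₁⟩ : ↥N) = p := by rw [Subgroup.orderOf_mk]; exact hx
  have hyo : orderOf (⟨g⁻¹ * x * g, hyN⟩ : ↥N) = p := by
    rw [Subgroup.orderOf_mk]
    have := orderOf_injective (MulAut.conj g⁻¹).toMonoidHom (MulAut.conj g⁻¹).injective x
    simpa using this.trans hx
  obtain ⟨n, hn⟩ := exists_conj_commute_of_isIsolated (⟨x, h₁⟩ : ↥N)
    (isIsolated_subtype x hiso N h₁) (isPGroup_zpowers_of_orderOf _ hxo)
    (Subgroup.zpowers (⟨g⁻¹ * x * g, hyN⟩ : ↥N)) (isPGroup_zpowers_of_orderOf _ hyo)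
  have hc := hn _ (Subgroup.mem_zpowers _)
  have hc' : (n : G) * x * (n : G)⁻¹ * (g⁻¹ * x * g) = g⁻¹ * x * g * ((n : G) * x * (n : G)⁻¹) := by
    have := congrArg Subtype.val hc.eq
    simpa using this
  -- `h = n⁻¹ g⁻¹` centralizes `x`
  have hcomm : Commute x (((n : G)⁻¹ * g⁻¹) * x * ((n : G)⁻¹ * g⁻¹)⁻¹) := by
    show x * _ = _ * x
    calc x * (((n : G)⁻¹ * g⁻¹) * x * ((n : G)⁻¹ * g⁻¹)⁻¹)
        = (n : G)⁻¹ * ((n : G) * x * (n : G)⁻¹ * (g⁻¹ * x * g)) * (n : G) := by group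
      _ = (n : G)⁻¹ * (g⁻¹ * x * g * ((n : G) * x * (n : G)⁻¹)) * (n : G) := by rw [hc']
      _ = _ := by group
  have hfix := hiso _ hcomm
  refine ⟨g * (n : G), ?_, ?_⟩
  · rw [Subgroup.mem_centralizer_iff]
    intro y hy
    rw [Set.mem_singleton_iff] at hy
    rw [hy]
    calc x * (g * (n : G)) = (g * (n : G)) * (((n : G)⁻¹ * g⁻¹) * x * ((n : G)⁻¹ * g⁻¹)⁻¹) := by group
      _ = g * (n : G) * x := by rw [hfix]
  · ext a
    rw [mem_conj_iff', hmem]
    have hnN := Subgroup.mem_normalizer_iff.mp n.2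
    rw [hnN ((g * (n : G))⁻¹ * a * (g * (n : G)))]
    have : (n : G) * ((g * (n : G))⁻¹ * a * (g * (n : G))) * (n : G)⁻¹ = g⁻¹ * a * g := by group
    rw [this]

section main

variable {G : Type*} [Group G] [Finite G] {p : ℕ} [Fact p.Prime] (x : G) (hx : orderOf x = p)
  (hiso : Cfsg.IsIsolated x) (hnz : ¬ Cfsg.InZStar p x)
  (hmin : ∀ (H : Subgroup G) (hxH : x ∈ H), H ≠ ⊤ → Cfsg.InZStar p (⟨x, hxH⟩ : ↥H))
  (hquot : ∀ (N : Subgroup G) [N.Normal], N ≠ ⊥ → Cfsg.InZStar p (QuotientGroup.mk x : G ⧸ N))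

include hx in
/-- Part 1, case `q = p`. -/
theorem part_one_eq (Q : Subgroup G) (hQ : IsPGroup p ↥Q)
    (hxQ : x ∈ Subgroup.normalizer (Q : Set G))
    (hmax : ∀ R : Subgroup G, IsPGroup p ↥R → x ∈ Subgroup.normalizer (R : Set G) → Q ≤ R → R = Q) :
    ∃ S : Sylow p G, (S : Subgroup G) = Q := by
  have h1 : IsPGroup p ↥(Q ⊔ Subgroup.zpowers x) :=
    hQ.to_sup_of_normal_left' (isPGroup_zpowers_of_orderOf x hx) ((Subgroup.zpowers_le).mpr hxQ)
  obtain ⟨P, hP⟩ := h1.exists_le_sylow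
  have hxP : x ∈ (P : Subgroup G) := hP ((le_sup_right : Subgroup.zpowers x ≤ _) (Subgroup.mem_zpowers x))
  exact ⟨P, hmax P P.isPGroup' (Subgroup.le_normalizer hxP) (le_sup_left.trans hP)⟩

include hx hnz hmin hquot in
/-- Part 1, case `q ≠ p`. -/
theorem part_one_ne (q : ℕ) [Fact q.Prime] (hqp : q ≠ p) (Q : Subgroup G) (hQ : IsPGroup q ↥Q)
    (hxQ : x ∈ Subgroup.normalizer (Q : Set G))
    (hmax : ∀ R : Subgroup G, IsPGroup q ↥R → x ∈ Subgroup.normalizer (R : Set G) → Q ≤ R → R = Q)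
    (hQne : Q ≠ ⊥) : ∃ S : Sylow q G, (S : Subgroup G) = Q := by
  have hpq : Nat.Coprime q p := (Nat.coprime_primes Fact.out Fact.out).mpr hqp
  obtain ⟨S, hQS⟩ := hQ.exists_le_sylow
  refine ⟨S, ?_⟩
  by_contra hne
  have hlt : Q < (S : Subgroup G) := lt_of_le_of_ne hQS (Ne.symm hne)
  set N := Subgroup.normalizer (Q : Set G) with hN
  set T := (S : Subgroup G) ⊓ N with hT
  have hQT : Q < T := Cfsg.Agent.Lib.Helper34.lt_inf_normalizer_of_lt S.isPGroup' hlt
  have hTN : T ≤ N := inf_le_right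
  have hTq : IsPGroup q ↥T := S.isPGroup'.to_le inf_le_left
  -- `N ≠ ⊤`
  have hNtop : N ≠ ⊤ := by
    intro h
    have hQn : Q.Normal := Subgroup.normalizer_eq_top_iff.mp h
    obtain ⟨k, hk⟩ := IsPGroup.iff_card.mp hQ
    exact hQne (Cfsg.Agent.S2972.core_trivial x hnz hquot Q hQn
      (by rw [hk]; exact Nat.Coprime.pow_left k hpq))
  have hZ := hmin N hxQ hNtop
  set M := pPrimeCore p ↥N with hM
  have hMn : M.Normal := Cfsg.Agent.Lib.Helper55.pPrimeCore_normal' p
  set M' := M.map N.subtype with hM'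
  have hM'N : M' ≤ N := Subgroup.map_subtype_le M
  have hM'card : (Nat.card M').Coprime p := by
    rw [hM', Subgroup.card_map_of_injective N.subtype_injective]
    exact Cfsg.Agent.Lib.Helper55.card_pPrimeCore_coprime p
  have hNM' : N ≤ Subgroup.normalizer (M' : Set G) := by
    rw [Subgroup.le_normalizer_iff]
    rintro n hn _ ⟨m, hm, rfl⟩
    exact ⟨⟨n, hn⟩ * m * ⟨n, hn⟩⁻¹, hMn.conj_mem m hm _, by simp⟩
  set X := M' ⊔ T with hX
  have hXN : X ≤ N := sup_le hM'N hTN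
  have hXcard : (Nat.card X).Coprime p := by
    have h1 := Cfsg.Agent.Lib.Helper32.card_sup_dvd_mul_of_le_normalizer M' T (hTN.trans hNM')
    obtain ⟨k, hk⟩ := IsPGroup.iff_card.mp hTq
    refine Nat.Coprime.coprime_dvd_left h1 (Nat.Coprime.mul_left hM'card ?_)
    rw [hk]; exact Nat.Coprime.pow_left k hpq
  -- `x` normalizes `X`
  have hxX : x ∈ Subgroup.normalizer (X : Set G) := by
    apply mem_normalizer_of_conj_le'
    rw [hX, Subgroup.map_sup]
    refine sup_le ?_ ?_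
    · have := Subgroup.mem_normalizer_iff_map_conj_eq.mp (hNM' hxQ)
      exact (le_of_eq this).trans le_sup_left
    · rintro _ ⟨t, ht, rfl⟩
      have h1 := hZ ⟨t, hTN ht⟩
      have h2 : t * x * t⁻¹ * x⁻¹ ∈ M' := ⟨_, h1, by simp⟩
      have h3 : x * t * x⁻¹ * t⁻¹ ∈ M' := by
        have := M'.inv_mem h2
        have e : (t * x * t⁻¹ * x⁻¹)⁻¹ = x * t * x⁻¹ * t⁻¹ := by group
        rwa [e] at this
      have e : (MulAut.conj x).toMonoidHom t = (x * t * x⁻¹ * t⁻¹) * t := by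
        simp [MulAut.conj_apply]
      rw [e]
      exact Subgroup.mul_mem _ ((le_sup_left : M' ≤ _) h3) ((le_sup_right : T ≤ _) ht)
  have hE : IsPGroup p ↥(Subgroup.zpowers x) := isPGroup_zpowers_of_orderOf x hx
  have hEX : Subgroup.zpowers x ≤ Subgroup.normalizer (X : Set G) := (Subgroup.zpowers_le).mpr hxX
  have hXp : ¬ p ∣ Nat.card X := by
    intro h
    have := Nat.Coprime.eq_one_of_dvd hXcard.symm h
    exact (Fact.out : p.Prime).one_lt.ne' this
  obtain ⟨R, hRX, hRq, hRcard, hER⟩ :=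
    Cfsg.Agent.Lib.Helper48.exists_invariant_sylow (Subgroup.zpowers x) X hE hEX hXp q
  have hxR : x ∈ Subgroup.normalizer (R : Set G) := hER (Subgroup.mem_zpowers x)
  -- every `q`-subgroup of `X` has order at most `|R|`
  have hXpos : Nat.card X ≠ 0 := Nat.card_pos.ne'
  have hqsub : ∀ Y : Subgroup G, Y ≤ X → IsPGroup q ↥Y → Nat.card Y ∣ Nat.card R := by
    intro Y hYX hYq
    obtain ⟨k, hk⟩ := IsPGroup.iff_card.mp hYq
    have h1 : q ^ k ∣ Nat.card X := hk ▸ Subgroup.card_dvd_of_le hYX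
    rw [hk, hRcard]
    exact pow_dvd_pow q ((Nat.Prime.pow_dvd_iff_le_factorization Fact.out hXpos).mp h1)
  -- `Q ≤ R`
  have hQR : Q ≤ R := by
    have h1 : IsPGroup q ↥(Q ⊔ R) := hQ.to_sup_of_normal_left' hRq (hRX.trans hXN)
    have h2 : Q ⊔ R ≤ X := sup_le (hQT.le.trans le_sup_right) hRX
    have h3 := Nat.le_of_dvd Nat.card_pos (hqsub _ h2 h1)
    have h4 : R = Q ⊔ R := Subgroup.eq_of_le_of_card_ge le_sup_right h3
    rw [h4]; exact le_sup_left
  have hRQ : R = Q := hmax R hRq hxR hQR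
  have h5 := Nat.le_of_dvd Nat.card_pos (hqsub T le_sup_right hTq)
  rw [hRQ] at h5
  exact absurd (Cfsg.Agent.Lib.Helper34.card_lt_card_of_lt hQT) (not_lt_of_ge h5)

end main

/-- Let G be a finite group, p a prime and x ∈ G an isolated element of order p (the only conjugate of x commuting with x is x) which is not central modulo the largest normal subgroup of order prime to p, while x is central modulo the largest normal subgroup of order prime to p in every proper subgroup containing x, and the image of x is so in every quotient of G by a nontrivial normal subgroup (a minimal counterexample to the Z*_p statement). Then for every prime q, every q-subgroup of G that is normalized by x and maximal among the q-subgroups normalized by x is either trivial or a Sylow q-subgroup of G; and C_G(x) permutes the x-invariant Sylow q-subgroups of G transitively by conjugation. -/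
theorem result {G : Type*} [Group G] [Finite G] {p : ℕ} [Fact p.Prime] (x : G) (hx : orderOf x = p) (hiso : Cfsg.IsIsolated x) (hnz : ¬ Cfsg.InZStar p x) (hmin : ∀ (H : Subgroup G) (hxH : x ∈ H), H ≠ ⊤ → Cfsg.InZStar p (⟨x, hxH⟩ : ↥H)) (hquot : ∀ (N : Subgroup G) [N.Normal], N ≠ ⊥ → Cfsg.InZStar p (QuotientGroup.mk x : G ⧸ N)) (q : ℕ) [Fact q.Prime] : (∀ Q : Subgroup G, IsPGroup q ↥Q → x ∈ Subgroup.normalizer (Q : Set G) → (∀ R : Subgroup G, IsPGroup q ↥R → x ∈ Subgroup.normalizer (R : Set G) → Q ≤ R → R = Q) → Q = ⊥ ∨ ∃ S : Sylow q G, (S : Subgroup G) = Q) ∧ (∀ S₁ S₂ : Sylow q G, x ∈ Subgroup.normalizer ((S₁ : Subgroup G) : Set G) → x ∈ Subgroup.normalizer ((S₂ : Subgroup G) : Set G) → ∃ c ∈ Subgroup.centralizer ({x} : Set G), (S₁ : Subgroup G).map (MulAut.conj c).toMonoidHom = (S₂ : Subgroup G)) := by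
  refine ⟨?_, fun S₁ S₂ h₁ h₂ => exists_centralizer_conj_sylow x hx hiso q S₁ S₂ h₁ h₂⟩
  intro Q hQ hxQ hmax
  by_cases hqp : q = p
  · subst hqp
    exact Or.inr (part_one_eq x hx Q hQ hxQ hmax)
  · by_cases hQne : Q = ⊥
    · exact Or.inl hQne
    · exact Or.inr (part_one_ne x hx hnz hmin hquot q hqp Q hQ hxQ hmax hQne)

end Cfsg.Agent.S2975
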