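import Cfsg.Statements.S2998

set_option autoImplicit false
open Cfsg

namespace Cfsg.Agent.S2998

/-- an element conjugating a finite subgroup into itself normalizes it -/
theorem mem_normalizer_of_conj_le {G : Type*} [Group G] [Finite G] (R : Subgroup G) (g : G)
    (h : ∀ r ∈ R, g * r * g⁻¹ ∈ R) : g ∈ Subgroup.normalizer (R : Set G) := by
  rw [Subgroup.mem_normalizer_iff_map_conj_eq]
  have hle : R.map (MulAut.conj g).toMonoidHom ≤ R := by
    rintro _ ⟨r, hr, rfl⟩
    exact h r hr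
  have hcard : Nat.card (R.map (MulAut.conj g).toMonoidHom) = Nat.card R := by
    exact Subgroup.card_map_of_injective (MulAut.conj g).injective
  exact Subgroup.eq_of_le_of_card_ge hle hcard.ge

theorem part1 {G : Type*} [Group G] [Finite G] {p : ℕ} [Fact p.Prime] (P : Sylow p G) (x : G)
    (hlc : ∀ R : Subgroup G, R ≤ (P : Subgroup G) → R ≠ ⊥ →
      Subgroup.normalizer (R : Set G) ≤ Subgroup.centralizer ({x} : Set G)) :
    (P : Subgroup G) ≤ Subgroup.centralizer ({x} : Set G) := by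
  by_cases hP : (P : Subgroup G) = ⊥
  · rw [hP]; exact bot_le
  · exact le_trans Subgroup.le_normalizer (hlc _ le_rfl hP)

theorem part2 {G : Type*} [Group G] [Finite G] {p : ℕ} [Fact p.Prime] (P : Sylow p G) (x : G)
    (hxP : x ∈ (P : Subgroup G))
    (hlc : ∀ R : Subgroup G, R ≤ (P : Subgroup G) → R ≠ ⊥ →
      Subgroup.normalizer (R : Set G) ≤ Subgroup.centralizer ({x} : Set G)) :
    ∀ g : G, g * x * g⁻¹ ∈ (P : Subgroup G) → g * x * g⁻¹ = x := by
  intro g hy
  have h1 := part1 P x hlc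
  by_cases hx1 : x = 1
  · subst hx1; simp
  have hPne : (P : Subgroup G) ≠ ⊥ := by
    intro h
    rw [h, Subgroup.mem_bot] at hxP
    exact hx1 hxP
  set y := g * x * g⁻¹ with hydef
  have hy1 : y ≠ 1 := by
    intro h
    apply hx1
    have : x = g⁻¹ * y * g := by rw [hydef]; group
    rw [this, h]; group
  have hzy : Subgroup.zpowers y ≤ (P : Subgroup G) := by
    rw [Subgroup.zpowers_le]; exact hy
  have hzy1 : Subgroup.zpowers y ≠ ⊥ := by
    rw [Ne, Subgroup.zpowers_eq_bot]; exact hy1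
  have hcy : Subgroup.centralizer ({y} : Set G) ≤ Subgroup.centralizer ({x} : Set G) := by
    refine le_trans ?_ (hlc _ hzy hzy1)
    intro c hc
    rw [Subgroup.mem_centralizer_iff] at hc
    have hcy : y * c = c * y := hc y (Set.mem_singleton y)
    apply mem_normalizer_of_conj_le
    intro r hr
    rw [Subgroup.mem_zpowers_iff] at hr ⊢
    obtain ⟨k, rfl⟩ := hr
    refine ⟨k, ?_⟩
    have : Commute c (y ^ k) := (Commute.zpow_right hcy.symm k)
    rw [this.eq]; group
  have h2 : ((g • P : Sylow p G) : Subgroup G) ≤ Subgroup.centralizer ({x} : Set G) := by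
    intro z hz
    apply hcy
    rw [Sylow.coe_subgroup_smul, Subgroup.mem_pointwise_smul_iff_inv_smul_mem] at hz
    rw [MulAut.smul_def, MulAut.conj_inv_apply] at hz
    have hu := h1 hz
    rw [Subgroup.mem_centralizer_iff] at hu ⊢
    intro w hw
    rw [Set.mem_singleton_iff] at hw
    subst hw
    have := hu x (Set.mem_singleton x)
    rw [hydef]
    calc g * x * g⁻¹ * z = g * (x * (g⁻¹ * z * g)) * g⁻¹ := by group
      _ = g * ((g⁻¹ * z * g) * x) * g⁻¹ := by rw [this]
      _ = z * (g * x * g⁻¹) := by group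
  obtain ⟨h, hh⟩ := MulAction.exists_smul_eq (Subgroup.centralizer ({x} : Set G))
    ((g • P).subtype h2) (P.subtype h1)
  simp_rw [Sylow.smul_subtype, Subgroup.smul_def, smul_smul] at hh
  have hn : (h : G) * g ∈ Subgroup.normalizer ((P : Subgroup G) : Set G) :=
    Sylow.smul_eq_iff_mem_normalizer.mp (Sylow.subtype_injective hh)
  have hc : (h : G) * g ∈ Subgroup.centralizer ({x} : Set G) := hlc _ le_rfl hPne hn
  have hg : g ∈ Subgroup.centralizer ({x} : Set G) := by
    have := Subgroup.mul_mem _ (Subgroup.inv_mem _ h.2) hc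
    simpa using this
  rw [Subgroup.mem_centralizer_iff] at hg
  have := hg x (Set.mem_singleton x)
  rw [hydef, ← this]; group

theorem exists_conj_le {G : Type*} [Group G] [Finite G] {p : ℕ} [Fact p.Prime] (P : Sylow p G)
    (H : Subgroup G) (hPH : (P : Subgroup G) ≤ H) (Q : Subgroup G) (hQ : IsPGroup p Q) (hQH : Q ≤ H) :
    ∃ m ∈ H, ∀ q ∈ Q, m⁻¹ * q * m ∈ (P : Subgroup G) := by
  obtain ⟨S, hS⟩ := (hQ.comap_subtype (K := H)).exists_le_sylow
  obtain ⟨m, hm⟩ := MulAction.exists_smul_eq H (P.subtype hPH) S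
  refine ⟨m, m.2, fun q hq => ?_⟩
  have hqS : (⟨q, hQH hq⟩ : H) ∈ S := hS (by simpa [Subgroup.mem_subgroupOf] using hq)
  rw [← hm, Sylow.smul_subtype] at hqS
  have h2 : q ∈ ((m • P : Sylow p G) : Subgroup G) := by
    have h3 : (⟨q, hQH hq⟩ : H) ∈ ((m • P : Sylow p G) : Subgroup G).subgroupOf H := hqS
    rwa [Subgroup.mem_subgroupOf] at h3
  rw [Subgroup.smul_def, Sylow.coe_subgroup_smul, Subgroup.mem_pointwise_smul_iff_inv_smul_mem,
    MulAut.smul_def, MulAut.conj_inv_apply] at h2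
  exact h2

theorem part3 {G : Type*} [Group G] [Finite G] {p : ℕ} [Fact p.Prime] (P : Sylow p G) (x : G)
    (hlc : ∀ R : Subgroup G, R ≤ (P : Subgroup G) → R ≠ ⊥ →
      Subgroup.normalizer (R : Set G) ≤ Subgroup.centralizer ({x} : Set G))
    (N : Subgroup G) [N.Normal] (R : Subgroup (G ⧸ N))
    (hR : R ≤ (P : Subgroup G).map (QuotientGroup.mk' N)) (hR1 : R ≠ ⊥) :
    Subgroup.normalizer (R : Set (G ⧸ N)) ≤
      Subgroup.centralizer ({(QuotientGroup.mk x : G ⧸ N)} : Set (G ⧸ N)) := by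
  intro gbar hg
  obtain ⟨g, rfl⟩ := QuotientGroup.mk_surjective gbar
  set L := R.comap (QuotientGroup.mk' N) with hL
  set R₁ := L ⊓ (P : Subgroup G) with hR₁
  have hNL : N ≤ L := by
    intro n hn
    rw [hL, Subgroup.mem_comap, QuotientGroup.mk'_apply, (QuotientGroup.eq_one_iff n).mpr hn]
    exact R.one_mem
  have hb : ∀ l ∈ L, ∃ n ∈ N, ∃ u ∈ R₁, l = n * u := by
    intro l hl
    have hl' : (QuotientGroup.mk' N) l ∈ R := hl
    obtain ⟨u, hu, hul⟩ := hR hl'
    have huL : u ∈ L := by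
      rw [hL, Subgroup.mem_comap, hul]; exact hl'
    refine ⟨l * u⁻¹, ?_, u, ⟨huL, hu⟩, by group⟩
    rw [← QuotientGroup.eq_one_iff, QuotientGroup.mk_mul, QuotientGroup.mk_inv]
    rw [QuotientGroup.mk'_apply, QuotientGroup.mk'_apply] at hul
    rw [hul]; group
  have hR₁ne : R₁ ≠ ⊥ := by
    intro h
    apply hR1
    rw [eq_bot_iff]
    intro r hr
    obtain ⟨u, hu, hur⟩ := hR hr
    have huL : u ∈ L := by
      rw [hL, Subgroup.mem_comap, hur]; exact hr
    have : u ∈ R₁ := ⟨huL, hu⟩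
    rw [h, Subgroup.mem_bot] at this
    rw [← hur, this, map_one]; exact Subgroup.mem_bot.mpr rfl
  have hgL : g ∈ Subgroup.normalizer (L : Set G) :=
    Subgroup.le_normalizer_comap (QuotientGroup.mk' N) (by simpa using hg)
  have hLH : L ≤ N ⊔ (P : Subgroup G) := by
    intro l hl
    obtain ⟨n, hn, u, hu, rfl⟩ := hb l hl
    exact Subgroup.mul_mem _ (Subgroup.mem_sup_left hn) (Subgroup.mem_sup_right hu.2)
  have hQL : R₁.map (MulAut.conj g).toMonoidHom ≤ L := by
    rintro _ ⟨r, hr, rfl⟩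
    exact ((Subgroup.mem_normalizer_iff.mp hgL) r).mp hr.1
  have hQp : IsPGroup p (R₁.map (MulAut.conj g).toMonoidHom) :=
    (P.2.to_le inf_le_right).map _
  obtain ⟨m, hm, hmq⟩ := exists_conj_le P (N ⊔ (P : Subgroup G)) le_sup_right _ hQp (hQL.trans hLH)
  rw [Subgroup.mem_sup_of_normal_left] at hm
  obtain ⟨n, hn, u, hu, rfl⟩ := hm
  have hnorm : n⁻¹ * g ∈ Subgroup.normalizer (R₁ : Set G) := by
    apply mem_normalizer_of_conj_le
    intro r hr
    have hq : g * r * g⁻¹ ∈ R₁.map (MulAut.conj g).toMonoidHom := ⟨r, hr, rfl⟩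
    have h1 := hmq _ hq
    have h2 : n⁻¹ * (g * r * g⁻¹) * n ∈ (P : Subgroup G) := by
      have := Subgroup.mul_mem _ (Subgroup.mul_mem _ hu h1) (Subgroup.inv_mem _ hu)
      convert this using 1; group
    have h3 : n⁻¹ * (g * r * g⁻¹) * n ∈ L :=
      Subgroup.mul_mem _ (Subgroup.mul_mem _ (Subgroup.inv_mem _ (hNL hn)) (hQL hq)) (hNL hn)
    have : n⁻¹ * g * r * (n⁻¹ * g)⁻¹ = n⁻¹ * (g * r * g⁻¹) * n := by group
    rw [this]
    exact ⟨h3, h2⟩
  have hcent := hlc R₁ inf_le_right hR₁ne hnorm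
  rw [Subgroup.mem_centralizer_iff] at hcent ⊢
  intro w hw
  rw [Set.mem_singleton_iff] at hw
  subst hw
  have hc := hcent x (Set.mem_singleton x)
  have hmk : (QuotientGroup.mk g : G ⧸ N) = QuotientGroup.mk (n⁻¹ * g) := by
    rw [QuotientGroup.mk_mul, QuotientGroup.mk_inv, (QuotientGroup.eq_one_iff n).mpr hn]; simp
  rw [hmk, ← QuotientGroup.mk_mul, ← QuotientGroup.mk_mul, hc]

/-- Let G be a finite group, p a prime, P a Sylow p-subgroup of G and x ∈ P an element such that N_G(R) ≤ C_G(x) for every nontrivial subgroup R of P. Then P ≤ C_G(x); every G-conjugate of x lying in P equals x (so g ∈ C_G(x) whenever g x g⁻¹ ∈ P); and for every normal subgroup N of G, the image of x in G ⧸ N has the same property with respect to the image of P: the normalizer of every nontrivial subgroup of the image of P centralizes the image of x. -/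
theorem result {G : Type*} [Group G] [Finite G] {p : ℕ} [Fact p.Prime] (P : Sylow p G) (x : G) (hxP : x ∈ (P : Subgroup G)) (hlc : ∀ R : Subgroup G, R ≤ (P : Subgroup G) → R ≠ ⊥ → Subgroup.normalizer (R : Set G) ≤ Subgroup.centralizer ({x} : Set G)) : (P : Subgroup G) ≤ Subgroup.centralizer ({x} : Set G) ∧ (∀ g : G, g * x * g⁻¹ ∈ (P : Subgroup G) → g * x * g⁻¹ = x) ∧ ∀ (N : Subgroup G) [N.Normal], ∀ R : Subgroup (G ⧸ N), R ≤ (P : Subgroup G).map (QuotientGroup.mk' N) → R ≠ ⊥ → Subgroup.normalizer (R : Set (G ⧸ N)) ≤ Subgroup.centralizer ({(QuotientGroup.mk x : G ⧸ N)} : Set (G ⧸ N)) := by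
  refine ⟨part1 P x hlc, part2 P x hxP hlc, ?_⟩
  intro N _ R hR hR1
  exact part3 P x hlc N R hR hR1

end Cfsg.Agent.S2998
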