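import Cfsg.Statements.S3003
import Cfsg.Agent.Lib.Helper50.ChermakDelgado
import Cfsg.Agent.Lib.Helper48.Generation

set_option autoImplicit false
open Cfsg

namespace Cfsg.Agent.S3003

open Cfsg.Agent.Lib.Helper50

section main

variable {G : Type*} [Group G] [Finite G] {p : ℕ} [Fact p.Prime] (Q : Subgroup G)
  (hQp : IsPGroup p ↥Q) (hlarge : Cfsg.IsLarge Q) (G₁ : Subgroup G) (hQG : Q ≤ G₁) (R : Subgroup G)
  (hR : (Nat.card ↥R).Coprime p) (hGR : G₁ ≤ Subgroup.normalizer (R : Set G))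

include hQp hR in
theorem inf_eq_bot : Q ⊓ R = ⊥ := by
  rw [eq_bot_iff]
  intro r hr
  rw [Subgroup.mem_bot]
  obtain ⟨k, hk⟩ := hQp ⟨r, hr.1⟩
  have h1 : r ^ p ^ k = 1 := by
    have := congrArg Subtype.val hk
    simpa using this
  have h2 : orderOf r ∣ Nat.card R := by
    have := orderOf_dvd_natCard (⟨r, hr.2⟩ : R)
    rwa [Subgroup.orderOf_mk] at this
  have h3 : orderOf r ∣ p ^ k := orderOf_dvd_of_pow_eq_one h1
  have h4 : (Nat.card R).Coprime (p ^ k) := Nat.Coprime.pow_right k hR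
  have h5 : orderOf r ∣ Nat.gcd (Nat.card R) (p ^ k) := Nat.dvd_gcd h2 h3
  rw [h4.gcd_eq_one, Nat.dvd_one] at h5
  exact orderOf_eq_one_iff.mp h5

include hQp hlarge hQG hR hGR in
/-- a nontrivial element of `Z(Q)` has no fixed points on `R` -/
theorem centralizer_eq_bot_of_mem_center (z : G) (hzQ : z ∈ Q ⊓ Subgroup.centralizer (Q : Set G))
    (hz1 : z ≠ 1) : R ⊓ Subgroup.centralizer ({z} : Set G) = ⊥ := by
  rw [eq_bot_iff]
  intro r hr
  have hrR : r ∈ R := hr.1
  have hrz : z * r = r * z := Subgroup.mem_centralizer_iff.mp hr.2 z rfl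
  have hZle : Subgroup.zpowers z ≤ Subgroup.centralizer (Q : Set G) :=
    (Subgroup.zpowers_le).mpr hzQ.2
  have hZne : Subgroup.zpowers z ≠ ⊥ := by
    intro h
    apply hz1
    have : z ∈ Subgroup.zpowers z := Subgroup.mem_zpowers z
    rwa [h, Subgroup.mem_bot] at this
  have hrN : r ∈ Subgroup.normalizer ((Subgroup.zpowers z : Subgroup G) : Set G) := by
    rw [Subgroup.mem_normalizer_iff]
    intro y
    have hconj : ∀ w ∈ Subgroup.zpowers z, r * w * r⁻¹ = w := by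
      intro w hw
      obtain ⟨k, rfl⟩ := Subgroup.mem_zpowers_iff.mp hw
      have hc : Commute r z := hrz.symm
      have := (hc.zpow_right k).eq
      rw [this, mul_assoc, mul_inv_cancel, mul_one]
    constructor
    · intro hy
      rw [hconj y hy]; exact hy
    · intro hy
      have := hconj _ hy
      have h2 : y = r⁻¹ * (r * y * r⁻¹) * r := by group
      have h3 : r⁻¹ * (r * y * r⁻¹) * r = r * y * r⁻¹ := by
        conv_lhs => rw [← this]
        group
      rw [h2, h3]; exact hy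
  have hrNQ : r ∈ Subgroup.normalizer (Q : Set G) := hlarge.2 _ hZle hZne hrN
  -- `r` centralizes `Q`
  have hrC : r ∈ Subgroup.centralizer (Q : Set G) := by
    rw [Subgroup.mem_centralizer_iff]
    intro q hq
    have h1 : r * q * r⁻¹ * q⁻¹ ∈ Q :=
      Q.mul_mem ((Subgroup.mem_normalizer_iff.mp hrNQ q).mp hq) (Q.inv_mem hq)
    have h2 : r * q * r⁻¹ * q⁻¹ ∈ R := by
      have hqN : q ∈ Subgroup.normalizer (R : Set G) := hGR (hQG hq)
      have := (Subgroup.mem_normalizer_iff.mp hqN r⁻¹).mp (R.inv_mem hrR)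
      have := R.mul_mem hrR this
      simpa [mul_assoc] using this
    have h3 : r * q * r⁻¹ * q⁻¹ ∈ Q ⊓ R := ⟨h1, h2⟩
    rw [inf_eq_bot Q hQp R hR, Subgroup.mem_bot] at h3
    calc q * r = (r * q * r⁻¹ * q⁻¹)⁻¹ * (r * q) := by group
      _ = r * q := by rw [h3, inv_one, one_mul]
  have : r ∈ Q ⊓ R := ⟨hlarge.1 hrC, hrR⟩
  rwa [inf_eq_bot Q hQp R hR] at this

include hQp hlarge hQG hR hGR in
/-- Part 1. -/
theorem part_one (U : Subgroup G)
    (h : ∃ x ∈ U, x ≠ 1 ∧ ∃ g ∈ G₁, g * x * g⁻¹ ∈ Q ⊓ Subgroup.centralizer (Q : Set G)) :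
    R ⊓ Subgroup.centralizer (U : Set G) = ⊥ := by
  obtain ⟨x, hxU, hx1, g, hg, hz⟩ := h
  have hz1 : g * x * g⁻¹ ≠ 1 := by
    intro h1
    apply hx1
    calc x = g⁻¹ * (g * x * g⁻¹) * g := by group
      _ = 1 := by rw [h1]; group
  have hbot := centralizer_eq_bot_of_mem_center Q hQp hlarge G₁ hQG R hR hGR _ hz hz1
  rw [eq_bot_iff]
  intro r hr
  have hrx : x * r = r * x := Subgroup.mem_centralizer_iff.mp hr.2 x hxU
  have hgN := hGR hg
  have h1 : g * r * g⁻¹ ∈ R := (Subgroup.mem_normalizer_iff.mp hgN r).mp hr.1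
  have h2 : g * r * g⁻¹ ∈ Subgroup.centralizer ({g * x * g⁻¹} : Set G) := by
    rw [Subgroup.mem_centralizer_iff]
    intro y hy
    rw [Set.mem_singleton_iff] at hy
    rw [hy]
    calc g * x * g⁻¹ * (g * r * g⁻¹) = g * (x * r) * g⁻¹ := by group
      _ = g * (r * x) * g⁻¹ := by rw [hrx]
      _ = g * r * g⁻¹ * (g * x * g⁻¹) := by group
  have h3 : g * r * g⁻¹ ∈ R ⊓ Subgroup.centralizer ({g * x * g⁻¹} : Set G) := ⟨h1, h2⟩
  rw [hbot, Subgroup.mem_bot] at h3
  rw [Subgroup.mem_bot]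
  calc r = g⁻¹ * (g * r * g⁻¹) * g := by group
    _ = 1 := by rw [h3]; group

/-- a non-maximal proper subgroup `B` of `U` can be enlarged by one element staying proper -/
theorem exists_not_mem_sup_ne (U B : Subgroup G) (hBU : B ≤ U) (hne : B ≠ U)
    (hnc : ¬ IsCoatom (B.subgroupOf U)) : ∃ a ∈ U, a ∉ B ∧ B ⊔ Subgroup.zpowers a ≠ U := by
  by_contra hcon
  push Not at hcon
  apply hnc
  constructor
  · intro h
    exact hne (le_antisymm hBU (Subgroup.subgroupOf_eq_top.mp h))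
  · intro C hC
    obtain ⟨c, hcC, hcB⟩ := SetLike.exists_of_lt hC
    have hcB' : (c : G) ∉ B := fun h => hcB (Subgroup.mem_subgroupOf.mpr h)
    have h1 := hcon c c.2 hcB'
    rw [eq_top_iff]
    intro u _
    have hu : (u : G) ∈ B ⊔ Subgroup.zpowers (c : G) := by rw [h1]; exact u.2
    have h2 : B ⊔ Subgroup.zpowers (c : G) ≤ C.map U.subtype := by
      refine sup_le ?_ ((Subgroup.zpowers_le).mpr ⟨c, hcC, rfl⟩)
      intro b hb
      exact ⟨⟨b, hBU hb⟩, hC.le (Subgroup.mem_subgroupOf.mpr hb), rfl⟩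
    obtain ⟨u', hu', huu⟩ := h2 hu
    have : u' = u := Subtype.ext huu
    exact this ▸ hu'

include hQp hlarge hQG hR hGR in
/-- Part 2. -/
theorem part_two (U : Subgroup G) (hUG : U ≤ G₁) (hUe : Cfsg.IsElementaryAbelian p U)
    (hcard : p ^ 2 ≤ Nat.card ↥U)
    (hhyp : ∀ U₀ : Subgroup G, U₀ ≤ U → IsCoatom (U₀.subgroupOf U) →
      ∃ x ∈ U₀, x ≠ 1 ∧ ∃ g ∈ G₁, g * x * g⁻¹ ∈ Q ⊓ Subgroup.centralizer (Q : Set G)) :
    R = ⊥ := by
  by_contra hRne
  have hcomm : ∀ a ∈ U, ∀ b ∈ U, a * b = b * a := by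
    intro a ha b hb
    have := hUe.1.is_comm.comm (⟨a, ha⟩ : ↥U) ⟨b, hb⟩
    exact congrArg Subtype.val this
  have hexp := hUe.2
  have hp1 : 1 < p := (Fact.out : p.Prime).one_lt
  -- hyperplanes have no fixed points
  have hhyper : ∀ U₀ : Subgroup G, U₀ ≤ U → IsCoatom (U₀.subgroupOf U) →
      R ⊓ Subgroup.centralizer (U₀ : Set G) = ⊥ := fun U₀ h1 h2 =>
    part_one Q hQp hlarge G₁ hQG R hR hGR U₀ (hhyp U₀ h1 h2)
  -- a maximal subgroup of `U` with fixed points
  obtain ⟨B, -, ⟨hBU, hBne⟩, hBmax⟩ := Finite.exists_le_maximal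
    (p := fun B : Subgroup G => B ≤ U ∧ R ⊓ Subgroup.centralizer (B : Set G) ≠ ⊥)
    (a := ⊥) ⟨bot_le, by
      rw [Subgroup.coe_bot, Subgroup.centralizer_eq_top_iff_subset.mpr (by simp), inf_top_eq]
      exact hRne⟩
  have hBmax' : ∀ B' : Subgroup G, B' ≤ U → B < B' → R ⊓ Subgroup.centralizer (B' : Set G) = ⊥ := by
    intro B' h1 h2
    by_contra h3
    exact absurd (hBmax ⟨h1, h3⟩ h2.le) (not_le_of_gt h2)
  -- `B ≠ U`
  have hUnt : U ≠ ⊥ := by
    rw [← Subgroup.one_lt_card_iff_ne_bot]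
    calc 1 < p ^ 2 := Nat.one_lt_pow (by norm_num) hp1
      _ ≤ Nat.card U := hcard
  have hBU' : B ≠ U := by
    intro h
    have hUnt' : Nontrivial ↥U := (Subgroup.nontrivial_iff_ne_bot U).mpr hUnt
    rcases eq_top_or_exists_le_coatom (⊥ : Subgroup ↥U) with h1 | ⟨U₀', hU₀', -⟩
    · exact absurd h1 bot_ne_top
    · have h2 : (U₀'.map U.subtype).subgroupOf U = U₀' := by
        ext u
        rw [Subgroup.mem_subgroupOf]
        constructor
        · rintro ⟨u', hu', huu⟩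
          have : u' = u := Subtype.ext huu
          exact this ▸ hu'
        · intro hu
          exact ⟨u, hu, rfl⟩
      have h3 := hhyper (U₀'.map U.subtype) (Subgroup.map_subtype_le U₀') (h2.symm ▸ hU₀')
      apply hBne
      rw [eq_bot_iff, ← h3, h]
      exact inf_le_inf_left R (Subgroup.centralizer_le
        (SetLike.coe_subset_coe.mpr (Subgroup.map_subtype_le U₀')))
  have hBnc : ¬ IsCoatom (B.subgroupOf U) := fun h => hBne (hhyper B hBU h)
  obtain ⟨a, haU, haB, hBa⟩ := exists_not_mem_sup_ne U B hBU hBU' hBnc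
  have hBaU : B ⊔ Subgroup.zpowers a ≤ U := sup_le hBU ((Subgroup.zpowers_le).mpr haU)
  obtain ⟨b, hbU, hbBa⟩ : ∃ b ∈ U, b ∉ B ⊔ Subgroup.zpowers a := by
    by_contra hcon
    push Not at hcon
    exact hBa (le_antisymm hBaU hcon)
  set K := R ⊓ Subgroup.centralizer (B : Set G) with hK
  -- `U` normalizes `K`
  have hUK : ∀ u ∈ U, u ∈ Subgroup.normalizer (K : Set G) := by
    intro u hu
    have huR := hGR (hUG hu)
    have hconjC : ∀ y, y ∈ Subgroup.centralizer (B : Set G) →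
        ∀ v ∈ U, v * y * v⁻¹ ∈ Subgroup.centralizer (B : Set G) := by
      intro y hy v hv
      rw [Subgroup.mem_centralizer_iff] at hy ⊢
      intro c hc
      have h1 := hy c hc
      have h2 := hcomm v hv c (hBU hc)
      have h3 : v⁻¹ * c = c * v⁻¹ := by
        calc v⁻¹ * c = v⁻¹ * (c * v) * v⁻¹ := by group
          _ = v⁻¹ * (v * c) * v⁻¹ := by rw [h2]
          _ = c * v⁻¹ := by group
      calc c * (v * y * v⁻¹) = (c * v) * y * v⁻¹ := by group
        _ = (v * c) * y * v⁻¹ := by rw [h2]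
        _ = v * (c * y) * v⁻¹ := by group
        _ = v * (y * c) * v⁻¹ := by rw [h1]
        _ = v * y * (c * v⁻¹) := by group
        _ = v * y * (v⁻¹ * c) := by rw [h3]
        _ = v * y * v⁻¹ * c := by group
    rw [Subgroup.mem_normalizer_iff]
    intro y
    constructor
    · rintro ⟨h1, h2⟩
      exact ⟨(Subgroup.mem_normalizer_iff.mp huR y).mp h1, hconjC y h2 u hu⟩
    · rintro ⟨h1, h2⟩
      refine ⟨(Subgroup.mem_normalizer_iff.mp huR y).mpr h1, ?_⟩
      have := hconjC _ h2 u⁻¹ (U.inv_mem hu)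
      simpa [mul_assoc] using this
  have hKcard : ¬ p ∣ Nat.card K := by
    intro h
    have h1 : p ∣ Nat.card R := h.trans (Subgroup.card_dvd_of_le inf_le_left)
    have := Nat.Coprime.eq_one_of_dvd hR.symm h1
    omega
  have hKsing : ∀ c ∈ U, c ∉ B → K ⊓ Subgroup.centralizer ({c} : Set G) ≤ ⊥ := by
    intro c hcU hcB
    have h1 : B < B ⊔ Subgroup.zpowers c := by
      refine lt_of_le_of_ne le_sup_left (fun h => hcB ?_)
      rw [h]
      exact (le_sup_right : Subgroup.zpowers c ≤ _) (Subgroup.mem_zpowers c)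
    have h2 := hBmax' _ (sup_le hBU ((Subgroup.zpowers_le).mpr hcU)) h1
    rw [← h2, centralizer_sup, hK, inf_assoc]
    refine inf_le_inf_left R (inf_le_inf_left _ ?_)
    rw [Subgroup.zpowers_eq_closure, Subgroup.centralizer_closure]
  have hKle : K ≤ ⊥ := by
    apply Cfsg.Agent.Lib.Helper48.coprime_generation (hexp a haU) (hexp b hbU) (hcomm a haU b hbU) K ⊥
      hKcard (hUK a haU) (hUK b hbU) (hKsing a haU haB)
    intro i
    apply hKsing _ (U.mul_mem (U.pow_mem haU i) hbU)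
    intro h
    apply hbBa
    have : b = (a ^ i)⁻¹ * (a ^ i * b) := by group
    rw [this]
    exact Subgroup.mul_mem _ (Subgroup.inv_mem _ ((le_sup_right : Subgroup.zpowers a ≤ _)
      (Subgroup.pow_mem _ (Subgroup.mem_zpowers a) i))) ((le_sup_left : B ≤ _) h)
  exact hBne (le_bot_iff.mp hKle)

end main

/-- Let G be a finite group, p a prime and Q a large p-subgroup of G: C_G(Q) ≤ Q and N_G(U) ≤ N_G(Q) for every nontrivial subgroup U of C_G(Q). Let Q ≤ G₁ ≤ G, let R be a subgroup of order prime to p normalized by G₁, and let U ≤ G₁ be a p-subgroup. If U contains a nontrivial element which is G₁-conjugate to an element of Z(Q), then C_R(U) = 1. In particular, if U is elementary abelian of order at least p² and every maximal subgroup of U contains a nontrivial element G₁-conjugate into Z(Q), then R = 1. -/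
theorem result {G : Type*} [Group G] [Finite G] {p : ℕ} [Fact p.Prime] (Q : Subgroup G) (hQp : IsPGroup p ↥Q) (hlarge : Cfsg.IsLarge Q) (G₁ : Subgroup G) (hQG : Q ≤ G₁) (R : Subgroup G) (hR : (Nat.card ↥R).Coprime p) (hGR : G₁ ≤ Subgroup.normalizer (R : Set G)) (U : Subgroup G) (hUG : U ≤ G₁) (hUp : IsPGroup p ↥U) : ((∃ x ∈ U, x ≠ 1 ∧ ∃ g ∈ G₁, g * x * g⁻¹ ∈ Q ⊓ Subgroup.centralizer (Q : Set G)) → R ⊓ Subgroup.centralizer (U : Set G) = ⊥) ∧ (Cfsg.IsElementaryAbelian p U → p ^ 2 ≤ Nat.card ↥U → (∀ U₀ : Subgroup G, U₀ ≤ U → IsCoatom (U₀.subgroupOf U) → ∃ x ∈ U₀, x ≠ 1 ∧ ∃ g ∈ G₁, g * x * g⁻¹ ∈ Q ⊓ Subgroup.centralizer (Q : Set G)) → R = ⊥) := by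
  exact ⟨part_one Q hQp hlarge G₁ hQG R hR hGR U,
    part_two Q hQp hlarge G₁ hQG R hR hGR U hUG⟩

end Cfsg.Agent.S3003
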