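import Cfsg.Statements.S3008
import Cfsg.Agent.Lib.Helper50.MinimalCLNormal

set_option autoImplicit false
open Cfsg

namespace Cfsg.Agent.S3008

/-- Let P be a finite p-group, with J(P) generated by its abelian subgroups of largest order and J̃(P) = C_P(Z(J(P))); call R ≤ P centrally large if |R|·|Z(R)| is as large as possible, and let P_MCL be generated by the minimal centrally large subgroups. Then: for every centrally large Q, Q·J(P) ⊇ J̃(P); some minimal centrally large subgroup of P is normalized by both J(P) and P_MCL; if P = J(P) and d(P)² = |P|·|Z(P)|, where d(P) is the largest order of an abelian subgroup, then every minimal centrally large subgroup of P is abelian; and if every minimal centrally large subgroup is abelian then J̃(P) = J(P). -/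
theorem result {p : ℕ} [Fact p.Prime] (P : Type*) [Group P] [Finite P] (hP : IsPGroup p P) : (∀ Q : Subgroup P, Cfsg.IsCentrallyLarge Q → Subgroup.centralizer ((Cfsg.thompsonSubgroupA P ⊓ Subgroup.centralizer (Cfsg.thompsonSubgroupA P : Set P) : Subgroup P) : Set P) ≤ Q ⊔ Cfsg.thompsonSubgroupA P) ∧ (∃ Q : Subgroup P, Cfsg.IsMinimalCentrallyLarge Q ∧ Cfsg.thompsonSubgroupA P ≤ Subgroup.normalizer (Q : Set P) ∧ Cfsg.minimalCentrallyLargeJoin P ≤ Subgroup.normalizer (Q : Set P)) ∧ (Cfsg.thompsonSubgroupA P = ⊤ → (∀ A ∈ Cfsg.maxAbelianSubgroups P, Nat.card ↥A ^ 2 = Nat.card P * Nat.card ↥(Subgroup.center P)) → ∀ Q : Subgroup P, Cfsg.IsMinimalCentrallyLarge Q → IsMulCommutative ↥Q) ∧ ((∀ Q : Subgroup P, Cfsg.IsMinimalCentrallyLarge Q → IsMulCommutative ↥Q) → Subgroup.centralizer ((Cfsg.thompsonSubgroupA P ⊓ Subgroup.centralizer (Cfsg.thompsonSubgroupA P : Set P) : Subgroup P) : Set P) = Cfsg.thompsonSubgroupA P) := by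
  classical
  -- Part 1
  have part1 : ∀ Q : Subgroup P, Cfsg.IsCentrallyLarge Q →
      Subgroup.centralizer ((Cfsg.thompsonSubgroupA P ⊓
        Subgroup.centralizer (Cfsg.thompsonSubgroupA P : Set P) : Subgroup P) : Set P) ≤
        Q ⊔ Cfsg.thompsonSubgroupA P := by
    intro Q hQ
    apply Cfsg.Agent.Lib.Helper50.centralizer_center_thompsonA_le _ _ le_sup_right
    obtain ⟨A₀, hA₀⟩ := Cfsg.Agent.Lib.Helper50.exists_mem_maxAbelianSubgroups P
    have hne : ((fun A => Q ⊔ A) '' Cfsg.maxAbelianSubgroups P).Nonempty := ⟨_, A₀, hA₀, rfl⟩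
    have hsub : (fun A => Q ⊔ A) '' Cfsg.maxAbelianSubgroups P ⊆
        {R : Subgroup P | Cfsg.IsCentrallyLarge R} := by
      rintro _ ⟨A, hA, rfl⟩
      exact (Cfsg.Agent.Lib.Helper50.cl_maxAbelian_core Q A hQ hA).2.1
    have hmem := Cfsg.Agent.Lib.Helper50.supClosed_isCentrallyLarge.sSup_mem_of_nonempty
      (Set.toFinite _) hne hsub
    have heq : sSup ((fun A => Q ⊔ A) '' Cfsg.maxAbelianSubgroups P) =
        Q ⊔ Cfsg.thompsonSubgroupA P := by
      apply le_antisymm
      · apply sSup_le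
        rintro _ ⟨A, hA, rfl⟩
        exact sup_le_sup_left (le_sSup hA) Q
      · apply sup_le
        · exact le_sup_left.trans (le_sSup (show Q ⊔ A₀ ∈ _ from ⟨A₀, hA₀, rfl⟩))
        · apply sSup_le
          intro A hA
          exact le_sup_right.trans (le_sSup (show Q ⊔ A ∈ _ from ⟨A, hA, rfl⟩))
    rw [heq] at hmem
    exact hmem
  refine ⟨part1, ?_, ?_, ?_⟩
  · -- Part 2
    have hnil : Group.IsNilpotent P := hP.isNilpotent
    exact Cfsg.Agent.Lib.Helper50.exists_minimalCL_normalized P (Group.IsNilpotent.nilpotent P)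
  · -- Part 3
    intro hJ hcard Q hQ
    have hCLtop : Cfsg.IsCentrallyLarge (⊤ : Subgroup P) := by
      have h1 := Cfsg.Agent.Lib.Helper50.thompsonSubgroupA_le_centrallyLargeJoin P
      rw [hJ] at h1
      have h2 := Cfsg.Agent.Lib.Helper50.isCentrallyLarge_centrallyLargeJoin P
      rwa [top_le_iff.mp h1] at h2
    have hf : Nat.card P * Nat.card ↥(Subgroup.center P) = Cfsg.maxCentralProduct P := by
      have h := (Cfsg.Agent.Lib.Helper50.isCentrallyLarge_iff (⊤ : Subgroup P)).mp hCLtop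
      unfold Cfsg.Agent.Lib.Helper50.clMeasure at h
      rw [Subgroup.card_top, Subgroup.coe_top, Subgroup.centralizer_univ, top_inf_eq] at h
      exact h
    obtain ⟨A, hA⟩ := Cfsg.Agent.Lib.Helper50.exists_mem_maxAbelianSubgroups P
    have hACL : Cfsg.IsCentrallyLarge A := by
      rw [Cfsg.Agent.Lib.Helper50.isCentrallyLarge_iff,
        Cfsg.Agent.Lib.Helper50.clMeasure_of_abelian A hA.1, ← hf, ← hcard A hA, sq]
    obtain ⟨R, hRA, hR⟩ := Cfsg.Agent.Lib.Helper50.exists_isMinimalCentrallyLarge_le A hACL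
    have hRab : IsMulCommutative ↥R := Cfsg.Agent.Lib.Helper50.isMulCommutative_of_le hA.1 hRA
    exact ((Cfsg.Agent.Lib.Helper50.minimalCL_iff_maxAbelian_of_abelian R hR hRab Q).mp hQ).1
  · -- Part 4
    intro hall
    obtain ⟨Q, hQ⟩ := Cfsg.Agent.Lib.Helper50.exists_isMinimalCentrallyLarge P
    have hQab := hall Q hQ
    have hQA : Q ∈ Cfsg.maxAbelianSubgroups P :=
      (Cfsg.Agent.Lib.Helper50.minimalCL_iff_maxAbelian_of_abelian Q hQ hQab Q).mp hQ
    have hQJ : Q ≤ Cfsg.thompsonSubgroupA P := le_sSup hQA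
    apply le_antisymm
    · have := part1 Q hQ.1
      rwa [sup_eq_right.mpr hQJ] at this
    · rw [Subgroup.le_centralizer_iff]
      exact inf_le_right

end Cfsg.Agent.S3008
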