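import Cfsg.Statements.S3009
import Cfsg.Agent.Lib.Helper19.NatSL2Main
import Cfsg.Agent.Lib.Helper5.SL2Sylow

set_option autoImplicit false
open Cfsg

namespace Cfsg.Agent.S3009

open Matrix Matrix.SpecialLinearGroup
open scoped MatrixGroups Pointwise IsMulCommutative commutatorElement
open Cfsg.Agent.Lib.Helper19.NatSL2

/-- conjugation action of a normalizing subgroup -/
def conjAut {X : Type*} [Group X] (G V : Subgroup X)
    (hGV : G ≤ Subgroup.normalizer (V : Set X)) : ↥G →* MulAut ↥V where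
  toFun g :=
    { toFun := fun v => ⟨(g : X) * v * (g : X)⁻¹, (Subgroup.mem_normalizer_iff.1 (hGV g.2) v).1 v.2⟩
      invFun := fun v => ⟨(g : X)⁻¹ * v * (g : X), by
        have := (Subgroup.mem_normalizer_iff.1 (hGV (inv_mem g.2)) v).1 v.2
        simpa using this⟩
      left_inv := fun v => by ext; simp [mul_assoc]
      right_inv := fun v => by ext; simp [mul_assoc]
      map_mul' := fun v w => by ext; simp [mul_assoc] }
  map_one' := by ext v; simp
  map_mul' := fun g h => by ext v; simp [mul_assoc]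

@[simp] theorem conjAut_apply {X : Type*} [Group X] (G V : Subgroup X)
    (hGV : G ≤ Subgroup.normalizer (V : Set X)) (g : G) (v : V) :
    ((conjAut G V hGV g v : V) : X) = (g : X) * v * (g : X)⁻¹ := rfl

/-- an element of `unipSL F` is some `uu t`. -/
theorem mem_unipSL_iff {F : Type*} [Field F] (x : SL(2, F)) :
    x ∈ Cfsg.Agent.Lib.Helper5.unipSL F ↔ ∃ t : F, x = uu t := by
  constructor
  · intro h
    obtain ⟨h1, h2, h3⟩ := Cfsg.Agent.Lib.Helper5.mem_unipSL.mp h
    refine ⟨x.1 0 1, ?_⟩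
    apply Cfsg.Agent.Lib.Helper5.sl2_ext
    · rw [h1]; rfl
    · rfl
    · rw [h2]; rfl
    · rw [h3]; rfl
  · rintro ⟨t, rfl⟩
    rw [Cfsg.Agent.Lib.Helper5.mem_unipSL]
    refine ⟨rfl, rfl, rfl⟩

/-- Let p be a prime and let G and V be subgroups of a finite group with V elementary abelian and normalized by G, and G isomorphic to SL₂(F) for a finite field F with pⁿ elements. Suppose G acts irreducibly and nontrivially on V by conjugation (no G-invariant subgroups of V other than 1 and V, and [V, G] ≠ 1), and let S be a Sylow p-subgroup of G and V₀ = C_V(S). If [V, S, S] = 1 or |V| ≤ |V₀|², then G acts on V as SL₂(F) on its natural two-dimensional module; in particular |V| = |F|². -/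
theorem result {X : Type*} [Group X] [Finite X] {p : ℕ} [Fact p.Prime] (G V : Subgroup X) (hV : Cfsg.IsElementaryAbelian p V) (hGV : G ≤ Subgroup.normalizer (V : Set X)) (F : Type) [Field F] [Fintype F] (n : ℕ) (hF : Fintype.card F = p ^ n) (hG : Nonempty (↥G ≃* Matrix.SpecialLinearGroup (Fin 2) F)) (hirr : ∀ U : Subgroup X, U ≤ V → G ≤ Subgroup.normalizer (U : Set X) → U = ⊥ ∨ U = V) (hnt : ⁅V, G⁆ ≠ ⊥) (S : Sylow p ↥G) (hyp : ⁅⁅V, (S : Subgroup ↥G).map G.subtype⁆, (S : Subgroup ↥G).map G.subtype⁆ = ⊥ ∨ Nat.card ↥V ≤ Nat.card ↥(V ⊓ Subgroup.centralizer (((S : Subgroup ↥G).map G.subtype : Subgroup X) : Set X)) ^ 2) : Cfsg.ActsAsSL2OnSection F ⊤ G V ⊥ := by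
  classical
  obtain ⟨e⟩ := hG
  have : CharP F p := charP_of_card_eq_prime_pow hF
  have : IsMulCommutative V := hV.1
  -- the image of `S` is a Sylow subgroup of `SL₂(F)`
  let P : Sylow p SL(2, F) := S.comapOfInjective e.symm.toMonoidHom e.symm.injective (by
    intro x _
    exact ⟨e x, by simp⟩)
  have hPmem : ∀ x : SL(2, F), x ∈ P ↔ e.symm x ∈ S := fun x => Iff.rfl
  obtain ⟨g₀, hg₀⟩ := Cfsg.Agent.Lib.Helper5.exists_smul_unipSLSylow_eq p P
  -- adjusted isomorphism
  let e' : ↥G ≃* SL(2, F) := e.trans (MulAut.conj g₀⁻¹)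
  have he' : ∀ s : G, s ∈ S ↔ ∃ t : F, e' s = uu t := by
    intro s
    rw [← mem_unipSL_iff]
    have h1 : s ∈ S ↔ e s ∈ P := by rw [hPmem]; simp
    rw [h1, ← hg₀]
    change e s ∈ MulAut.conj g₀ • Cfsg.Agent.Lib.Helper5.unipSL F ↔ _
    rw [Subgroup.mem_pointwise_smul_iff_inv_smul_mem]
    have h2 : (MulAut.conj g₀)⁻¹ • e s = e' s := by
      simp [e', MulAut.smul_def]
    rw [h2]
  have he'symm : ∀ t : F, e'.symm (uu t) ∈ S := by
    intro t
    rw [he']
    exact ⟨t, by simp⟩
  -- the action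
  let φ : SL(2, F) →* MulAut ↥V := (conjAut G V hGV).comp e'.symm.toMonoidHom
  have hφ : ∀ (g : SL(2, F)) (v : V), ((φ g v : V) : X) = (e'.symm g : X) * v * (e'.symm g : X)⁻¹ :=
    fun g v => rfl
  have hφ' : ∀ (g : G) (v : V), ((φ (e' g) v : V) : X) = (g : X) * v * (g : X)⁻¹ := by
    intro g v
    rw [hφ, MulEquiv.symm_apply_apply]
  let S' : Subgroup X := (S : Subgroup ↥G).map G.subtype
  have hS'mem : ∀ x : X, x ∈ S' ↔ ∃ t : F, x = ((e'.symm (uu t) : G) : X) := by
    intro x
    constructor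
    · rintro ⟨s, hs, rfl⟩
      obtain ⟨t, ht⟩ := (he' s).mp hs
      exact ⟨t, by rw [← ht, MulEquiv.symm_apply_apply]; rfl⟩
    · rintro ⟨t, rfl⟩
      exact ⟨_, he'symm t, rfl⟩
  -- fixU in concrete terms
  have hfixU : ∀ v : V, v ∈ fixU φ ↔ (v : X) ∈ Subgroup.centralizer (S' : Set X) := by
    intro v
    rw [mem_fixU, Subgroup.mem_centralizer_iff]
    constructor
    · intro h x hx
      obtain ⟨t, rfl⟩ := (hS'mem x).mp hx
      have := congrArg Subtype.val (h t)
      rw [hφ] at this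
      calc ((e'.symm (uu t) : G) : X) * v
          = ((e'.symm (uu t) : G) : X) * v * ((e'.symm (uu t) : G) : X)⁻¹
              * ((e'.symm (uu t) : G) : X) := by group
        _ = v * ((e'.symm (uu t) : G) : X) := by rw [this]
    · intro h t
      apply Subtype.ext
      rw [hφ]
      have := h _ ((hS'mem _).mpr ⟨t, rfl⟩)
      rw [this]
      simp
  -- `V` is a `p`-group
  have hM : IsPGroup p ↥V := by
    intro v
    refine ⟨1, ?_⟩
    rw [pow_one]
    apply Subtype.ext
    simpa using hV.2 v v.2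
  -- irreducibility
  have hirr' : ∀ N : Subgroup ↥V, (∀ (g : SL(2, F)), ∀ m ∈ N, φ g m ∈ N) → N = ⊥ ∨ N = ⊤ := by
    intro N hN
    have hle : N.map V.subtype ≤ V := by
      rintro _ ⟨v, -, rfl⟩; exact v.2
    have hnorm : G ≤ Subgroup.normalizer ((N.map V.subtype : Subgroup X) : Set X) := by
      intro g hg
      rw [Subgroup.mem_normalizer_iff]
      intro h
      constructor
      · rintro ⟨v, hv, rfl⟩
        refine ⟨φ (e' ⟨g, hg⟩) v, hN _ v hv, ?_⟩
        exact hφ' ⟨g, hg⟩ v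
      · rintro ⟨v, hv, hveq⟩
        refine ⟨φ (e' ⟨g, hg⟩⁻¹) v, hN _ v hv, ?_⟩
        change ((φ (e' ⟨g, hg⟩⁻¹) v : V) : X) = h
        rw [hφ']
        change g⁻¹ * (v : X) * g⁻¹⁻¹ = h
        change (v : X) = g * h * g⁻¹ at hveq
        rw [hveq]; group
    rcases hirr _ hle hnorm with h | h
    · left
      rw [eq_bot_iff]
      intro v hv
      have : (v : X) ∈ N.map V.subtype := ⟨v, hv, rfl⟩
      rw [h, Subgroup.mem_bot] at this
      exact Subgroup.mem_bot.mpr (Subtype.ext this)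
    · right
      rw [eq_top_iff]
      intro v _
      have : (v : X) ∈ N.map V.subtype := by rw [h]; exact v.2
      obtain ⟨w, hw, hwv⟩ := this
      have : w = v := Subtype.ext hwv
      rwa [← this]
  -- nontriviality
  have hnt' : ∃ (g : SL(2, F)) (m : V), φ g m ≠ m := by
    by_contra hcon
    push Not at hcon
    apply hnt
    rw [Subgroup.commutator_eq_bot_iff_le_centralizer]
    intro v hv
    rw [Subgroup.mem_centralizer_iff]
    intro g hg
    have := congrArg Subtype.val (hcon (e' ⟨g, hg⟩) ⟨v, hv⟩)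
    rw [hφ'] at this
    change g * v * g⁻¹ = v at this
    calc g * v = g * v * g⁻¹ * g := by group
      _ = v * g := by rw [this]
  -- the hypothesis
  have hyp' : (∀ (m : V) (s : F), φ (uu s) m / m ∈ fixU φ) ∨
      Nat.card ↥V ≤ Nat.card (fixU φ) ^ 2 := by
    rcases hyp with h | h
    · left
      intro m s
      rw [hfixU, Subgroup.mem_centralizer_iff]
      intro y hy
      set x : X := ((e'.symm (uu s) : G) : X) with hx
      have hxS : x ∈ S' := (hS'mem x).mpr ⟨s, rfl⟩
      have h1 : ((φ (uu s) m / m : V) : X) = ⁅x, (m : X)⁆ := by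
        rw [Subgroup.coe_div, hφ, commutatorElement_def, div_eq_mul_inv]
      rw [h1]
      have h2 : ⁅x, (m : X)⁆ ∈ ⁅V, S'⁆ := by
        rw [Subgroup.commutator_comm]
        exact Subgroup.commutator_mem_commutator hxS m.2
      have h3 : ⁅⁅x, (m : X)⁆, y⁆ ∈ ⁅⁅V, S'⁆, S'⁆ := Subgroup.commutator_mem_commutator h2 hy
      rw [h, Subgroup.mem_bot, commutatorElement_eq_one_iff_mul_comm] at h3
      exact h3.symm
    · right
      have hmap : (fixU φ).map V.subtype = V ⊓ Subgroup.centralizer (S' : Set X) := by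
        ext x
        constructor
        · rintro ⟨v, hv, rfl⟩
          exact ⟨v.2, (hfixU v).mp hv⟩
        · rintro ⟨hxV, hxC⟩
          exact ⟨⟨x, hxV⟩, (hfixU _).mpr hxC, rfl⟩
      have hcard : Nat.card (fixU φ) = Nat.card ↥(V ⊓ Subgroup.centralizer (S' : Set X)) := by
        rw [← hmap, Subgroup.card_map_of_injective V.subtype_injective]
      rw [hcard]
      exact h
  obtain ⟨Ψ, hΨ⟩ := natural_of_irreducible φ p hM hirr' hnt' hyp'
  refine ⟨hGV, bot_le, e'.toMonoidHom, Ψ.symm.toMonoidHom, ?_, ?_, ?_, ?_⟩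
  · exact MonoidHom.range_eq_top.mpr e'.surjective
  · exact Ψ.symm.surjective
  · intro u
    rw [Subgroup.mem_bot]
    change Ψ.symm u = 1 ↔ _
    rw [map_eq_one_iff _ Ψ.symm.injective]
    exact ⟨fun h => by rw [h]; rfl, fun h => Subtype.ext h⟩
  · intro g u
    refine ⟨φ (e' g) u, hφ' g u, ?_⟩
    change Multiplicative.toAdd (Ψ.symm (φ (e' g) u)) =
      ((e' g : SL(2, F)) : Matrix (Fin 2) (Fin 2) F).mulVec (Multiplicative.toAdd (Ψ.symm u))
    have h1 := hΨ (e' g) (Ψ.symm u)
    rw [MulEquiv.apply_symm_apply] at h1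
    rw [← h1, MulEquiv.symm_apply_apply, toAdd_ofAdd]

end Cfsg.Agent.S3009
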