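import Cfsg.Statements.S3011
import Cfsg.Agent.S0199

set_option autoImplicit false
open Cfsg

namespace Cfsg.Agent.S3011

section basics

variable {G : Type*} [Group G]

theorem eq_one_of_mul_self {h : G} (hodd : Odd (orderOf h)) (h2 : h * h = 1) : h = 1 := by
  have h1 : orderOf h ∣ 2 := orderOf_dvd_of_pow_eq_one (by rw [pow_two]; exact h2)
  have h3 : orderOf h = 1 ∨ orderOf h = 2 := (Nat.dvd_prime Nat.prime_two).mp h1
  rcases h3 with h3 | h3
  · exact orderOf_eq_one_iff.mp h3
  · rw [h3] at hodd; exact absurd hodd (by decide)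

theorem eq_one_of_comm_of_inv {w h : G} (hodd : Odd (orderOf h)) (hc : w * h = h * w)
    (hi : w * h * w⁻¹ = h⁻¹) : h = 1 := by
  apply eq_one_of_mul_self hodd
  have : h⁻¹ = h := by rw [← hi, hc, mul_assoc, mul_inv_cancel, mul_one]
  calc h * h = h * h⁻¹ := by rw [this]
    _ = 1 := mul_inv_cancel h

/-- an element of odd order has a square root among its powers -/
theorem exists_pow_mul_self {x : G} (hx : Odd (orderOf x)) : ∃ n : ℕ, x ^ n * x ^ n = x := by
  obtain ⟨r, hr⟩ := hx
  refine ⟨r + 1, ?_⟩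
  rw [← pow_add]
  have : r + 1 + (r + 1) = orderOf x + 1 := by omega
  rw [this, pow_succ, pow_orderOf_eq_one, one_mul]

theorem eq_one_of_odd_inverts {x y : G} (hx : Odd (orderOf x)) (hy : Odd (orderOf y))
    (h : x * y * x⁻¹ = y⁻¹) : y = 1 := by
  have h2 : Commute (x * x) y := by
    show x * x * y = y * (x * x)
    have e1 : x * y = y⁻¹ * x := by rw [← h]; group
    have e2 : x * y⁻¹ = y * x := by
      have h' : x * y⁻¹ * x⁻¹ = y := by
        have := congrArg (fun t => t⁻¹) h
        simp only [mul_inv_rev, inv_inv] at this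
        rw [← mul_assoc] at this
        exact this
      calc x * y⁻¹ = (x * y⁻¹ * x⁻¹) * x := by group
        _ = y * x := by rw [h']
    calc x * x * y = x * (x * y) := by group
      _ = x * (y⁻¹ * x) := by rw [e1]
      _ = (x * y⁻¹) * x := by group
      _ = (y * x) * x := by rw [e2]
      _ = y * (x * x) := by group
  obtain ⟨n, hn⟩ := exists_pow_mul_self hx
  have h3 : Commute x y := by
    have : x = (x * x) ^ n := by
      rw [(Commute.refl x).mul_pow, hn]
    rw [this]
    exact h2.pow_left n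
  exact eq_one_of_comm_of_inv hy h3.eq h

theorem odd_orderOf_mul {x y : G} (hx : Odd (orderOf x)) (hy : Odd (orderOf y)) (hc : Commute x y) :
    Odd (orderOf (x * y)) := by
  have h1 := hc.orderOf_mul_dvd_lcm
  have h2 : Nat.lcm (orderOf x) (orderOf y) ∣ orderOf x * orderOf y := Nat.lcm_dvd_mul _ _
  exact Odd.of_dvd_nat (Nat.odd_mul.mpr ⟨hx, hy⟩) (h1.trans h2)

theorem orderOf_conj' (k y : G) : orderOf (k⁻¹ * y * k) = orderOf y := by
  have := orderOf_injective (MulAut.conj k⁻¹).toMonoidHom (MulAut.conj k⁻¹).injective y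
  simpa using this

theorem inv_pow_of_inv {a x : G} (h : a * x * a⁻¹ = x⁻¹) (n : ℕ) :
    a * x ^ n * a⁻¹ = (x ^ n)⁻¹ := by
  rw [← conj_pow, h, inv_pow]

theorem comm_pow_of_comm {b x : G} (h : b * x = x * b) (n : ℕ) : b * x ^ n = x ^ n * b := by
  have hc : Commute b x := h
  exact (hc.pow_right n).eq

end basics

section key

variable {G : Type*} [Group G]

/-- Key lemma: two odd-order elements inverted by elements of a four-group Sidki pair are
centralized by the same involution of `V`. -/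
theorem key (V : Subgroup G) (hS : Cfsg.IsSidkiPair V) (b c : G) (hb : b ∈ V) (hc : c ∈ V)
    (hb2 : b * b = 1) (hc2 : c * c = 1) (hbc : b * c = c * b)
    (hVmem : ∀ w ∈ V, w = 1 ∨ w = b ∨ w = c ∨ w = b * c) (x y : G) (hx : Odd (orderOf x))
    (hy : Odd (orderOf y)) (hx1 : x ≠ 1) (hy1 : y ≠ 1) (hbx : b * x = x * b) (hcy : c * y = y * c)
    (hcx : c * x * c⁻¹ = x⁻¹) (hby : b * y * b⁻¹ = y⁻¹) : False := by
  have hbinv : b⁻¹ = b := inv_eq_of_mul_eq_one_right hb2
  have hcinv : c⁻¹ = c := inv_eq_of_mul_eq_one_right hc2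
  have habinv : (b * c)⁻¹ = b * c := by rw [mul_inv_rev, hbinv, hcinv, hbc]
  -- `a = b c` inverts `x` and `y`
  have hax : (b * c) * x * (b * c)⁻¹ = x⁻¹ := by
    have e : b * x⁻¹ = x⁻¹ * b := by
      have hc' : Commute b x := hbx
      exact hc'.inv_right.eq
    calc (b * c) * x * (b * c)⁻¹ = b * (c * x * c⁻¹) * b⁻¹ := by group
      _ = b * x⁻¹ * b⁻¹ := by rw [hcx]
      _ = x⁻¹ * b * b⁻¹ := by rw [e]
      _ = x⁻¹ := by group
  have hay : (b * c) * y * (b * c)⁻¹ = y⁻¹ := by
    have e : c * y⁻¹ = y⁻¹ * c := by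
      have hc' : Commute c y := hcy
      exact hc'.inv_right.eq
    calc (b * c) * y * (b * c)⁻¹ = (c * b) * y * (c * b)⁻¹ := by rw [hbc]
      _ = c * (b * y * b⁻¹) * c⁻¹ := by group
      _ = c * y⁻¹ * c⁻¹ := by rw [hby]
      _ = y⁻¹ * c * c⁻¹ := by rw [e]
      _ = y⁻¹ := by group
  obtain ⟨n, hn⟩ := exists_pow_mul_self hx
  set k := x ^ n with hk
  have hbk : b * k = k * b := comm_pow_of_comm hbx n
  have hck : c * k * c⁻¹ = k⁻¹ := inv_pow_of_inv hcx n
  have hak : (b * c) * k * (b * c)⁻¹ = k⁻¹ := inv_pow_of_inv hax n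
  -- conjugates: `k c k⁻¹ = x c`, `k a k⁻¹ = x a`
  have hkc : k * c * k⁻¹ = x * c := by
    have : c * k⁻¹ * c⁻¹ = k := by
      have := congrArg (fun t => t⁻¹) hck
      simp only [mul_inv_rev, inv_inv] at this
      rw [← mul_assoc] at this
      exact this
    calc k * c * k⁻¹ = k * (c * k⁻¹ * c⁻¹) * c := by group
      _ = k * k * c := by rw [this]
      _ = x * c := by rw [hn]
  have hka : k * (b * c) * k⁻¹ = x * (b * c) := by
    have : (b * c) * k⁻¹ * (b * c)⁻¹ = k := by
      have := congrArg (fun t => t⁻¹) hak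
      simp only [mul_inv_rev, inv_inv] at this
      rw [← mul_assoc] at this
      simpa [mul_inv_rev] using this
    calc k * (b * c) * k⁻¹ = k * ((b * c) * k⁻¹ * (b * c)⁻¹) * (b * c) := by group
      _ = k * k * (b * c) := by rw [this]
      _ = x * (b * c) := by rw [hn]
  set h := k⁻¹ * y * k with hh
  have hhodd : Odd (orderOf h) := by rw [hh, orderOf_conj']; exact hy
  have hbh : b * h * b⁻¹ = h⁻¹ := by
    have hbk' : b * k⁻¹ = k⁻¹ * b := by
      have hc' : Commute b k := hbk
      exact hc'.inv_right.eq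
    calc b * h * b⁻¹ = (b * k⁻¹) * y * k * b⁻¹ := by rw [hh]; group
      _ = k⁻¹ * b * y * k * b⁻¹ := by rw [hbk']
      _ = k⁻¹ * (b * y * b⁻¹) * (b * k) * b⁻¹ := by group
      _ = k⁻¹ * y⁻¹ * (k * b) * b⁻¹ := by rw [hby, hbk]
      _ = h⁻¹ := by rw [hh]; group
  have hh1 : h ≠ 1 := by
    intro e
    apply hy1
    calc y = k * h * k⁻¹ := by rw [hh]; group
      _ = 1 := by rw [e]; group
  -- `w` commutes with `h` iff `k w k⁻¹` commutes with `y`
  have htrans : ∀ w : G, w * h = h * w → (k * w * k⁻¹) * y = y * (k * w * k⁻¹) := by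
    intro w hw
    calc (k * w * k⁻¹) * y = k * (w * h) * k⁻¹ := by rw [hh]; group
      _ = k * (h * w) * k⁻¹ := by rw [hw]
      _ = y * (k * w * k⁻¹) := by rw [hh]; group
  obtain ⟨w, hwV, hw1, hwh⟩ := hS h b hb hhodd hbh
  have hxy : Commute x y := by
    rcases hVmem w hwV with hw | hw | hw | hw
    · exact absurd hw hw1
    · rw [hw] at hwh
      exact absurd (eq_one_of_comm_of_inv hhodd hwh hbh) hh1
    · -- `x c` centralizes `y`
      rw [hw] at hwh
      have h1 := htrans _ hwh
      rw [hkc] at h1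
      show x * y = y * x
      have hcy' : y * c = c * y := hcy.symm
      calc x * y = x * (c * y) * c⁻¹ := by rw [hcy]; group
        _ = (x * c * y) * c⁻¹ := by group
        _ = (y * (x * c)) * c⁻¹ := by rw [h1]
        _ = y * x := by group
    · -- `x a` centralizes `y`: then `x` inverts `y`
      exfalso
      rw [hw] at hwh
      have h1 := htrans _ hwh
      rw [hka] at h1
      apply hy1
      apply eq_one_of_odd_inverts hx hy
      have e : (b * c) * y = y⁻¹ * (b * c) := by rw [← hay]; group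
      have e2 : x * y⁻¹ * (b * c) = y * x * (b * c) := by
        calc x * y⁻¹ * (b * c) = x * (y⁻¹ * (b * c)) := by group
          _ = x * ((b * c) * y) := by rw [e]
          _ = x * (b * c) * y := by group
          _ = y * (x * (b * c)) := h1
          _ = y * x * (b * c) := by group
      have e3 : x * y⁻¹ = y * x := mul_right_cancel e2
      calc x * y * x⁻¹ = (x * y⁻¹ * x⁻¹)⁻¹ := by group
        _ = (y * x * x⁻¹)⁻¹ := by rw [e3]
        _ = y⁻¹ := by group
  -- now `z = x y` is inverted by `a`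
  set z := x * y with hz
  have hzodd : Odd (orderOf z) := odd_orderOf_mul hx hy hxy
  have haz : (b * c) * z * (b * c)⁻¹ = z⁻¹ := by
    calc (b * c) * z * (b * c)⁻¹ = ((b * c) * x * (b * c)⁻¹) * ((b * c) * y * (b * c)⁻¹) := by
          rw [hz]; group
      _ = x⁻¹ * y⁻¹ := by rw [hax, hay]
      _ = (y * x)⁻¹ := by group
      _ = z⁻¹ := by rw [hz, hxy.eq]
  have hbz : b * z * b⁻¹ = x * y⁻¹ := by
    calc b * z * b⁻¹ = (b * x) * b⁻¹ * (b * y * b⁻¹) := by rw [hz]; group
      _ = (x * b) * b⁻¹ * y⁻¹ := by rw [hbx, hby]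
      _ = x * y⁻¹ := by group
  have hcz : c * z * c⁻¹ = x⁻¹ * y := by
    calc c * z * c⁻¹ = (c * x * c⁻¹) * ((c * y) * c⁻¹) := by rw [hz]; group
      _ = x⁻¹ * ((y * c) * c⁻¹) := by rw [hcx, hcy]
      _ = x⁻¹ * y := by group
  by_cases hz1 : z = 1
  · -- `y = x⁻¹` is centralized and inverted by `b`
    apply hy1
    have hyx : y = x⁻¹ := by
      have : x * y = 1 := hz1
      exact eq_inv_of_mul_eq_one_right this
    have hby' : b * y = y * b := by
      rw [hyx]
      have hc' : Commute b x := hbx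
      exact hc'.inv_right.eq
    exact eq_one_of_comm_of_inv hy hby' hby
  · obtain ⟨w', hw'V, hw'1, hw'z⟩ := hS z (b * c) (V.mul_mem hb hc) hzodd haz
    rcases hVmem w' hw'V with hw' | hw' | hw' | hw'
    · exact hw'1 hw'
    · -- `b` centralizes `z`
      rw [hw'] at hw'z
      apply hy1
      apply eq_one_of_mul_self hy
      have h1 : b * z * b⁻¹ = z := by rw [hw'z]; group
      rw [hbz, hz] at h1
      have h2 : y⁻¹ = y := mul_left_cancel h1
      calc y * y = y * y⁻¹ := by rw [h2]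
        _ = 1 := mul_inv_cancel y
    · -- `c` centralizes `z`
      rw [hw'] at hw'z
      apply hx1
      apply eq_one_of_mul_self hx
      have h1 : c * z * c⁻¹ = z := by rw [hw'z]; group
      rw [hcz, hz] at h1
      have h2 : x⁻¹ = x := mul_right_cancel h1
      calc x * x = x * x⁻¹ := by rw [h2]
        _ = 1 := mul_inv_cancel x
    · rw [hw'] at hw'z
      exact hz1 (eq_one_of_comm_of_inv hzodd hw'z haz)

end key

section assembly

variable {G : Type*} [Group G]

/-- a subgroup of order at most 4 containing distinct nontrivial `b`, `c` with `b² = 1` is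
`{1, b, c, bc}` -/
theorem mem_four [Finite G] (V : Subgroup G) (h4 : Nat.card V ≤ 4) (b c : G) (hb : b ∈ V) (hc : c ∈ V)
    (hb1 : b ≠ 1) (hc1 : c ≠ 1) (hbc : b ≠ c) (hb2 : b * b = 1) (w : G) (hw : w ∈ V) :
    w = 1 ∨ w = b ∨ w = c ∨ w = b * c := by
  classical
  by_contra hcon
  push Not at hcon
  obtain ⟨hw1, hwb, hwc, hwbc⟩ := hcon
  have hbc1 : b * c ≠ 1 := by
    intro h
    apply hbc
    have : c = b⁻¹ := eq_inv_of_mul_eq_one_right h
    rw [this]
    exact (inv_eq_of_mul_eq_one_right hb2).symm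
  have hbcb : b * c ≠ b := by
    intro h
    exact hc1 (mul_left_cancel (h.trans (mul_one b).symm))
  have hbcc : b * c ≠ c := by
    intro h
    exact hb1 (mul_right_cancel (h.trans (one_mul c).symm))
  set s : Finset G := {w, 1, b, c, b * c} with hs
  have hcard : s.card = 5 := by
    rw [hs]
    rw [Finset.card_insert_of_notMem, Finset.card_insert_of_notMem, Finset.card_insert_of_notMem,
      Finset.card_insert_of_notMem, Finset.card_singleton]
    · simpa using hbcc.symm
    · simp only [Finset.mem_insert, Finset.mem_singleton, not_or]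
      exact ⟨hbc, hbcb.symm⟩
    · simp only [Finset.mem_insert, Finset.mem_singleton, not_or]
      exact ⟨hb1.symm, hc1.symm, hbc1.symm⟩
    · simp only [Finset.mem_insert, Finset.mem_singleton, not_or]
      exact ⟨hw1, hwb, hwc, hwbc⟩
  have hsub : (s : Set G) ⊆ (V : Set G) := by
    intro t ht
    rw [hs] at ht
    simp only [Finset.coe_insert, Finset.coe_singleton, Set.mem_insert_iff,
      Set.mem_singleton_iff] at ht
    rcases ht with rfl | rfl | rfl | rfl | rfl
    · exact hw
    · exact V.one_mem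
    · exact hb
    · exact hc
    · exact V.mul_mem hb hc
  have hfin : (V : Set G).Finite := Set.toFinite _
  have h5 := Set.ncard_le_ncard hsub hfin
  rw [Set.ncard_coe_finset, hcard, ← Nat.card_coe_set_eq] at h5
  have : Nat.card ((V : Set G)) = Nat.card V := rfl
  omega

/-- An involution inverting no nontrivial element of odd order lies in `O₂(G)` (Baer–Suzuki). -/
theorem mem_pCore_of_no_inverted [Finite G] (w : G) (hw2 : w * w = 1)
    (hno : ∀ x : G, Odd (orderOf x) → w * x * w⁻¹ = x⁻¹ → x = 1) : w ∈ Cfsg.pCore 2 G := by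
  have : Fact (Nat.Prime 2) := ⟨Nat.prime_two⟩
  have hwinv : w⁻¹ = w := inv_eq_of_mul_eq_one_right hw2
  have hzp : ∀ u : G, ∀ k : ℕ, u ^ 2 ^ k = 1 → IsPGroup 2 (Subgroup.zpowers u) := by
    intro u k hu
    rintro ⟨g, hg⟩
    obtain ⟨n, rfl⟩ := Subgroup.mem_zpowers_iff.mp hg
    refine ⟨k, ?_⟩
    apply Subtype.ext
    simp only [SubmonoidClass.mk_pow, Subgroup.coe_one]
    rw [← zpow_natCast, ← zpow_mul, mul_comm, zpow_mul, zpow_natCast, hu, one_zpow]
  have hX : IsPGroup 2 (Subgroup.zpowers w) := hzp w 1 (by rw [pow_one, pow_two]; exact hw2)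
  have hBS : ∀ g : G, IsPGroup 2 ↥(Subgroup.zpowers w ⊔
      (Subgroup.zpowers w).map (MulAut.conj g).toMonoidHom) := by
    intro g
    set t := g * w * g⁻¹ with ht
    have ht2 : t * t = 1 := by
      calc t * t = g * (w * w) * g⁻¹ := by rw [ht]; group
        _ = 1 := by rw [hw2]; group
    have htinv : t⁻¹ = t := inv_eq_of_mul_eq_one_right ht2
    set u := w * t with hu
    have hwu : w * u * w⁻¹ = u⁻¹ := by
      rw [hu, mul_inv_rev, htinv, hwinv]
      calc w * (w * t) * w = (w * w) * t * w := by group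
        _ = t * w := by rw [hw2, one_mul]
    obtain ⟨k, m, hm, hord⟩ := Nat.exists_eq_two_pow_mul_odd (orderOf_pos u).ne'
    have hord2 : orderOf (u ^ 2 ^ k) = m := by
      rw [orderOf_pow_of_dvd (by positivity) (hord ▸ Dvd.intro _ rfl), hord,
        Nat.mul_div_cancel_left _ (by positivity)]
    have hu1 : u ^ 2 ^ k = 1 := hno _ (hord2 ▸ hm) (inv_pow_of_inv hwu _)
    have hU : IsPGroup 2 (Subgroup.zpowers u) := hzp u k hu1
    have hnorm : Subgroup.zpowers w ≤ Subgroup.normalizer ((Subgroup.zpowers u : Subgroup G) : Set G) := by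
      rw [Subgroup.zpowers_le]
      apply Subgroup.mem_normalizer_iff_map_conj_eq.mpr
      rw [MonoidHom.map_zpowers]
      have : (MulAut.conj w).toMonoidHom u = u⁻¹ := by
        simp only [MulEquiv.coe_toMonoidHom, MulAut.conj_apply]; exact hwu
      show Subgroup.zpowers ((MulAut.conj w).toMonoidHom u) = Subgroup.zpowers u
      rw [this, Subgroup.zpowers_inv]
    have hsup : IsPGroup 2 ↥(Subgroup.zpowers u ⊔ Subgroup.zpowers w) :=
      hU.to_sup_of_normal_left' hX hnorm
    refine hsup.to_le (sup_le le_sup_right ?_)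
    rw [MonoidHom.map_zpowers, Subgroup.zpowers_le]
    have : (MulAut.conj g).toMonoidHom w = w⁻¹ * u := by
      simp only [MulEquiv.coe_toMonoidHom, MulAut.conj_apply]
      rw [hu, ← ht]; group
    show (MulAut.conj g).toMonoidHom w ∈ _
    rw [this]
    exact Subgroup.mul_mem _ (Subgroup.inv_mem _ ((le_sup_right : Subgroup.zpowers w ≤ _)
      (Subgroup.mem_zpowers w))) ((le_sup_left : Subgroup.zpowers u ≤ _) (Subgroup.mem_zpowers u))
  obtain ⟨N, hNn, hNp, hXN⟩ := Cfsg.Agent.S0199.result (Subgroup.zpowers w) hX hBS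
  have hNle : N ≤ Cfsg.pCore 2 G := le_sSup ⟨hNn, hNp⟩
  exact hNle (hXN (Subgroup.mem_zpowers w))

end assembly

/-- Let G be a finite group and V a nontrivial elementary abelian 2-subgroup of G of order at most 4 such that, whenever an element of V inverts an element h of G of odd order, some nontrivial element of V commutes with h. Then V meets O₂(G) nontrivially. (The case of order at most 4 has a short argument from the Baer–Suzuki theorem.) -/
theorem result {G : Type*} [Group G] [Finite G] (V : Subgroup G) (hV : Cfsg.IsElementaryAbelian 2 V) (hV1 : V ≠ ⊥) (hS : Cfsg.IsSidkiPair V) (h4 : Nat.card V ≤ 4) : V ⊓ Cfsg.pCore 2 G ≠ ⊥ := by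
  by_contra hbot
  have hsq : ∀ v ∈ V, v * v = 1 := fun v hv => by rw [← pow_two]; exact hV.2 v hv
  have hcomm : ∀ a ∈ V, ∀ b ∈ V, a * b = b * a := by
    intro a ha b hb
    have := hV.1.is_comm.comm (⟨a, ha⟩ : ↥V) ⟨b, hb⟩
    exact congrArg Subtype.val this
  -- every involution of `V` inverts a nontrivial element of odd order
  have hex : ∀ v ∈ V, v ≠ 1 → ∃ x : G, Odd (orderOf x) ∧ v * x * v⁻¹ = x⁻¹ ∧ x ≠ 1 := by
    intro v hv hv1
    by_contra hcon
    push Not at hcon
    have h1 : v ∈ Cfsg.pCore 2 G := mem_pCore_of_no_inverted v (hsq v hv) hcon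
    have h2 : v ∈ V ⊓ Cfsg.pCore 2 G := ⟨hv, h1⟩
    rw [hbot, Subgroup.mem_bot] at h2
    exact hv1 h2
  obtain ⟨v₁, hv₁1⟩ := (Subgroup.ne_bot_iff_exists_ne_one).mp hV1
  have hv₁1' : (v₁ : G) ≠ 1 := fun h => hv₁1 (Subtype.ext h)
  obtain ⟨x, hxodd, hv₁x, hx1⟩ := hex v₁ v₁.2 hv₁1'
  obtain ⟨b, hbV, hb1, hbx⟩ := hS x v₁ v₁.2 hxodd hv₁x
  have hbv₁ : b ≠ v₁ := by
    intro h
    rw [h] at hbx
    exact hx1 (eq_one_of_comm_of_inv hxodd hbx hv₁x)
  obtain ⟨y, hyodd, hby, hy1⟩ := hex b hbV hb1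
  obtain ⟨c, hcV, hc1, hcy⟩ := hS y b hbV hyodd hby
  have hcb : b ≠ c := by
    intro h
    rw [← h] at hcy
    exact hy1 (eq_one_of_comm_of_inv hyodd hcy hby)
  have hVmem := mem_four V h4 b c hbV hcV hb1 hc1 hcb (hsq b hbV)
  -- `c` inverts `x`
  have hbinv : b⁻¹ = b := inv_eq_of_mul_eq_one_right (hsq b hbV)
  have hcx : c * x * c⁻¹ = x⁻¹ := by
    rcases hVmem v₁ v₁.2 with h | h | h | h
    · exact absurd h hv₁1'
    · exact absurd h.symm hbv₁
    · rw [← h]; exact hv₁x
    · -- `v₁ = b c`, so `c = b v₁`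
      have hc' : c = b * v₁ := by
        rw [h, ← mul_assoc, hsq b hbV, one_mul]
      have hbx' : b * x⁻¹ = x⁻¹ * b := by
        have hc'' : Commute b x := hbx
        exact hc''.inv_right.eq
      calc c * x * c⁻¹ = b * ((v₁ : G) * x * (v₁ : G)⁻¹) * b⁻¹ := by rw [hc']; group
        _ = b * x⁻¹ * b⁻¹ := by rw [hv₁x]
        _ = x⁻¹ * b * b⁻¹ := by rw [hbx']
        _ = x⁻¹ := by group
  exact key V hS b c hbV hcV (hsq b hbV) (hsq c hcV) (hcomm b hbV c hcV) hVmem x y hxodd hyodd
    hx1 hy1 hbx hcy hcx hby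

end Cfsg.Agent.S3011
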