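import Cfsg.Statements.S3012
-- import your own Cfsg.Agent.* helpers here

set_option autoImplicit false
open Cfsg

namespace Cfsg.Agent.S3012

/-- Let G be a finite group, V a nontrivial elementary abelian 2-subgroup of G satisfying the Sidki pair condition (every odd-order element inverted by an element of V commutes with a nontrivial element of V), and K a normal subgroup of G with V ∩ K = 1. Then the image of V in G/K satisfies the Sidki pair condition in G/K. -/
theorem result {G : Type*} [Group G] [Finite G] (V K : Subgroup G) [K.Normal] (hV : Cfsg.IsElementaryAbelian 2 V) (hV1 : V ≠ ⊥) (hS : Cfsg.IsSidkiPair V) (hVK : V ⊓ K = ⊥) : Cfsg.IsSidkiPair (V.map (QuotientGroup.mk' K)) := by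
  intro hbar vbar hvbar hodd hinv
  obtain ⟨v, hv, rfl⟩ := hvbar
  obtain ⟨h₀, rfl⟩ := QuotientGroup.mk_surjective hbar
  have hv2 : v ^ 2 = 1 := hV.2 v hv
  have hvinv : v⁻¹ = v := by
    rw [inv_eq_iff_mul_eq_one, ← pow_two, hv2]
  -- the commutator h₁ = [v, h₀] is inverted by v
  set h₁ := v * h₀ * v⁻¹ * h₀⁻¹ with hh₁
  have hinv1 : v * h₁ * v⁻¹ = h₁⁻¹ := by
    rw [hh₁, hvinv]
    have : v * v = 1 := by rw [← pow_two, hv2]
    calc v * (v * h₀ * v * h₀⁻¹) * v = (v * v) * h₀ * v * h₀⁻¹ * v := by group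
      _ = h₀ * v * h₀⁻¹ * v := by rw [this, one_mul]
      _ = (v * h₀ * v * h₀⁻¹)⁻¹ := by
        rw [mul_inv_rev, mul_inv_rev, mul_inv_rev, inv_inv, hvinv]; group
  obtain ⟨a, m, hm, hord⟩ := Nat.exists_eq_two_pow_mul_odd (orderOf_pos h₁).ne'
  set h₂ := h₁ ^ (2 ^ a) with hh₂
  have hord2 : orderOf h₂ = m := by
    rw [hh₂, orderOf_pow_of_dvd (by positivity) (hord ▸ Dvd.intro _ rfl), hord,
      Nat.mul_div_cancel_left _ (by positivity)]
  have hinv2 : v * h₂ * v⁻¹ = h₂⁻¹ := by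
    rw [hh₂, ← conj_pow, hinv1, inv_pow]
  obtain ⟨w, hw, hw1, hwc⟩ := hS h₂ v hv (hord2 ▸ hm) hinv2
  refine ⟨QuotientGroup.mk' K w, ⟨w, hw, rfl⟩, ?_, ?_⟩
  · intro h1
    apply hw1
    have hwK : w ∈ K := by
      rwa [QuotientGroup.mk'_apply, QuotientGroup.eq_one_iff] at h1
    have : w ∈ V ⊓ K := ⟨hw, hwK⟩
    rwa [hVK, Subgroup.mem_bot] at this
  · -- image of h₁ is hbar⁻²
    have himg1 : (QuotientGroup.mk' K) h₁ = ((QuotientGroup.mk' K) h₀ ^ 2)⁻¹ := by
      rw [hh₁, map_mul, map_mul, map_mul, map_inv, map_inv]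
      simp only [QuotientGroup.mk'_apply] at hinv ⊢
      rw [hinv, pow_two, mul_inv_rev]
    have himg2 : (QuotientGroup.mk' K) h₂ = ((QuotientGroup.mk' K) h₀ ^ (2 ^ (a + 1)))⁻¹ := by
      rw [hh₂, map_pow, himg1, inv_pow, ← pow_mul, pow_succ']
    have hcomm2 : Commute ((QuotientGroup.mk' K) w) ((QuotientGroup.mk' K) h₂) := by
      show _ * _ = _ * _
      rw [← map_mul, ← map_mul, hwc]
    have hcomm3 : Commute ((QuotientGroup.mk' K) w) ((QuotientGroup.mk' K) h₀ ^ (2 ^ (a + 1))) := by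
      have := hcomm2.inv_right
      rwa [himg2, inv_inv] at this
    have hcop : Nat.Coprime (2 ^ (a + 1)) (orderOf ((QuotientGroup.mk' K) h₀)) := by
      apply Nat.Coprime.pow_left
      rw [Nat.coprime_two_left]
      simpa using hodd
    obtain ⟨j, hj⟩ := exists_pow_eq_self_of_coprime hcop
    have := hcomm3.pow_right j
    rw [hj] at this
    exact this.eq

end Cfsg.Agent.S3012
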