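import Cfsg.Statements.S3013
-- import your own Cfsg.Agent.* helpers here

set_option autoImplicit false
open Cfsg

namespace Cfsg.Agent.S3013

/-- Let G be a finite group and V a nontrivial elementary abelian 2-subgroup of G satisfying the Sidki pair condition. Let v ∈ V and let x be an element of odd order inverted by v, and put C = C_G(v) ∩ C_G(x), the centralizer of the dihedral subgroup generated by v and x. Then C ∩ V is nontrivial and satisfies the Sidki pair condition inside C: every odd-order element of C inverted by an element of C ∩ V commutes with a nontrivial element of C ∩ V. -/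
theorem result {G : Type*} [Group G] [Finite G] (V : Subgroup G) (hV : Cfsg.IsElementaryAbelian 2 V) (hV1 : V ≠ ⊥) (hS : Cfsg.IsSidkiPair V) (v x : G) (hv : v ∈ V) (hx : Odd (orderOf x)) (hinv : v * x * v⁻¹ = x⁻¹) (C : Subgroup G) (hC : C = Subgroup.centralizer ({v} : Set G) ⊓ Subgroup.centralizer ({x} : Set G)) : C ⊓ V ≠ ⊥ ∧ Cfsg.IsSidkiPair ((C ⊓ V).subgroupOf C) := by
  have hVcomm : ∀ a ∈ V, ∀ b ∈ V, a * b = b * a := by
    intro a ha b hb
    have := hV.1
    exact setLike_mul_comm ha hb
  have hmemC : ∀ g : G, g ∈ C ↔ v * g = g * v ∧ x * g = g * x := by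
    intro g
    rw [hC, Subgroup.mem_inf, Subgroup.mem_centralizer_iff, Subgroup.mem_centralizer_iff]
    simp only [Set.mem_singleton_iff, forall_eq]
  constructor
  · obtain ⟨w, hw, hw1, hwc⟩ := hS x v hv hx hinv
    intro hbot
    apply hw1
    have : w ∈ C ⊓ V := ⟨(hmemC w).mpr ⟨hVcomm v hv w hw, hwc.symm⟩, hw⟩
    rwa [hbot, Subgroup.mem_bot] at this
  · intro h u hu hodd hinvh
    rw [Subgroup.mem_subgroupOf] at hu
    obtain ⟨_, huV⟩ := hu
    obtain ⟨huv, hux⟩ := (hmemC u).mp u.2
    obtain ⟨hhv, hhx⟩ := (hmemC h).mp h.2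
    have hinvh' : (u : G) * (h : G) * (u : G)⁻¹ = (h : G)⁻¹ := by
      have := congrArg (Subgroup.subtype C) hinvh
      simpa using this
    have hoddh : Odd (orderOf (h : G)) := by
      rwa [Subgroup.orderOf_coe]
    -- a = x * h
    have hcomm : Commute x (h : G) := hhx
    have hodda : Odd (orderOf (x * (h : G))) := by
      have hdvd := hcomm.orderOf_mul_dvd_lcm
      have hl : Odd (Nat.lcm (orderOf x) (orderOf (h : G))) :=
        Odd.of_dvd_nat (hx.mul hoddh) (Nat.lcm_dvd_mul _ _)
      exact Odd.of_dvd_nat hl hdvd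
    have hvh : v * (h : G) * v⁻¹ = (h : G) := by
      rw [hhv]; group
    have hux' : (u : G) * x * (u : G)⁻¹ = x := by
      rw [← hux]; group
    have hinva : ((u : G) * v) * (x * (h : G)) * ((u : G) * v)⁻¹ = (x * (h : G))⁻¹ := by
      calc ((u : G) * v) * (x * (h : G)) * ((u : G) * v)⁻¹
          = (u : G) * ((v * x * v⁻¹) * (v * (h : G) * v⁻¹)) * (u : G)⁻¹ := by group
        _ = (u : G) * (x⁻¹ * (h : G)) * (u : G)⁻¹ := by rw [hinv, hvh]
        _ = ((u : G) * x * (u : G)⁻¹)⁻¹ * ((u : G) * (h : G) * (u : G)⁻¹) := by group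
        _ = x⁻¹ * (h : G)⁻¹ := by rw [hux', hinvh']
        _ = (x * (h : G))⁻¹ := by rw [mul_inv_rev, hcomm.inv_inv.eq]
    obtain ⟨w, hw, hw1, hwc⟩ := hS (x * (h : G)) ((u : G) * v) (V.mul_mem huV hv) hodda hinva
    have hwv : w * v = v * w := hVcomm w hw v hv
    -- w commutes with v (x h) v⁻¹ = x⁻¹ h
    have hwc2 : Commute w (x⁻¹ * (h : G)) := by
      have h1 : v * (x * (h : G)) * v⁻¹ = x⁻¹ * (h : G) := by
        calc v * (x * (h : G)) * v⁻¹ = (v * x * v⁻¹) * (v * (h : G) * v⁻¹) := by group
          _ = x⁻¹ * (h : G) := by rw [hinv, hvh]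
      have hc1 : Commute w (x * (h : G)) := hwc
      have hcv : Commute w v := hwv
      rw [← h1]
      exact (hcv.mul_right hc1).mul_right hcv.inv_right
    have hwh2 : Commute w ((h : G) ^ 2) := by
      have h2 : (x * (h : G)) * (x⁻¹ * (h : G)) = (h : G) ^ 2 := by
        rw [pow_two, hcomm.eq]; group
      rw [← h2]
      exact (show Commute w (x * (h : G)) from hwc).mul_right hwc2
    have hwh : Commute w (h : G) := by
      have hcop : Nat.Coprime 2 (orderOf (h : G)) := by
        rw [Nat.coprime_two_left]; exact hoddh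
      obtain ⟨j, hj⟩ := exists_pow_eq_self_of_coprime hcop
      have := hwh2.pow_right j
      rwa [hj] at this
    have hwx : Commute w x := by
      have : x = (x * (h : G)) * (h : G)⁻¹ := by group
      rw [this]
      exact (show Commute w (x * (h : G)) from hwc).mul_right hwh.inv_right
    have hwC : w ∈ C := (hmemC w).mpr ⟨hwv.symm, hwx.eq.symm⟩
    refine ⟨⟨w, hwC⟩, ?_, ?_, ?_⟩
    · rw [Subgroup.mem_subgroupOf]; exact ⟨hwC, hw⟩
    · intro h1
      apply hw1
      have := congrArg (Subgroup.subtype C) h1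
      simpa using this
    · apply Subtype.ext
      simpa using hwh.eq

end Cfsg.Agent.S3013
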