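import Cfsg.Statements.S3014
import Mathlib.GroupTheory.Transfer
import Mathlib.GroupTheory.SpecificGroups.Cyclic
-- import your own Cfsg.Agent.* helpers here

set_option autoImplicit false
open Cfsg

namespace Cfsg.Agent.S3014

open MulAction Subgroup in
/-- transfer restricted to `M` is `ϕ`, if `M ∩ M^x` lies in `ker ϕ` for all `x ∉ M`. -/
theorem transfer_eq_of_frobenius_like {G : Type*} [Group G] [Finite G] (M : Subgroup G)
    {A : Type*} [CommGroup A] (ϕ : M →* A)
    (hI : ∀ x : G, x ∉ M → ∀ y : M, x * (y : G) * x⁻¹ ∈ M → ϕ y = 1) (m : M) :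
    MonoidHom.transfer ϕ (m : G) = ϕ m := by
  classical
  have : Fintype (Quotient (orbitRel (zpowers (m : G)) (G ⧸ M))) := Fintype.ofFinite _
  rw [MonoidHom.transfer_eq_prod_quotient_orbitRel_zpowers_quot]
  set c₀ : G ⧸ M := ((1 : G) : G ⧸ M) with hc₀
  set q₀ : Quotient (orbitRel (zpowers (m : G)) (G ⧸ M)) := Quotient.mk'' c₀ with hq₀
  have hfixm : (m : G) • c₀ = c₀ := by
    show (((m : G) * 1 : G) : G ⧸ M) = ((1 : G) : G ⧸ M)
    rw [QuotientGroup.eq]
    simp
  have hfix : ∀ z : zpowers (m : G), z • c₀ = c₀ := by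
    rintro ⟨z, hz⟩
    obtain ⟨k, rfl⟩ := Subgroup.mem_zpowers_iff.mp hz
    show (((m : G) ^ k * 1 : G) : G ⧸ M) = ((1 : G) : G ⧸ M)
    rw [QuotientGroup.eq]
    simpa using M.zpow_mem m.2 k
  -- the representative of the orbit of `c₀` is `c₀`
  have hout₀ : q₀.out = c₀ := by
    have h1 : Quotient.mk'' q₀.out = q₀ := Quotient.out_eq' q₀
    rw [hq₀, Quotient.eq''] at h1
    obtain ⟨z, hz⟩ := h1
    rw [← hz]; exact hfix z
  have hmem_iff : ∀ q : Quotient (orbitRel (zpowers (m : G)) (G ⧸ M)), q.out.out ∈ M → q = q₀ := by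
    intro q hq
    have h1 : q.out = c₀ := by
      rw [← QuotientGroup.out_eq' q.out, hc₀, QuotientGroup.eq]
      simpa using M.inv_mem hq
    rw [← Quotient.out_eq' q, h1]
  rw [Fintype.prod_eq_single q₀]
  · -- the factor at `q₀`
    have hx : q₀.out.out ∈ M := by
      have : ((q₀.out.out : G) : G ⧸ M) = ((1 : G) : G ⧸ M) := by
        rw [QuotientGroup.out_eq', hout₀]
      rw [QuotientGroup.eq] at this
      simpa using M.inv_mem this
    have hper : Function.minimalPeriod ((m : G) • ·) q₀.out = 1 := by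
      rw [Function.minimalPeriod_eq_one_iff_isFixedPt, hout₀]
      exact hfixm
    have : (⟨q₀.out.out⁻¹ * (m : G) ^ Function.minimalPeriod ((m : G) • ·) q₀.out * q₀.out.out,
        QuotientGroup.out_conj_pow_minimalPeriod_mem M (m : G) q₀.out⟩ : M) =
        (⟨q₀.out.out, hx⟩ : M)⁻¹ * m * ⟨q₀.out.out, hx⟩ := by
      apply Subtype.ext
      simp [hper]
    rw [this, map_mul, map_mul, map_inv, mul_comm, mul_inv_cancel_left]
  · intro q hq
    have hx : q.out.out ∉ M := fun h => hq (hmem_iff q h)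
    apply hI q.out.out hx
    simp only
    have : q.out.out * (q.out.out⁻¹ * (m : G) ^ Function.minimalPeriod ((m : G) • ·) q.out * q.out.out) *
        q.out.out⁻¹ = (m : G) ^ Function.minimalPeriod ((m : G) • ·) q.out := by group
    rw [this]
    exact M.pow_mem m.2 _

variable {G : Type*} [Group G]

theorem mem_conj_iff (K : Subgroup G) (g x : G) :
    x ∈ K.map (MulAut.conj g).toMonoidHom ↔ g⁻¹ * x * g ∈ K := by
  constructor
  · rintro ⟨y, hy, rfl⟩
    simpa [mul_assoc] using hy
  · intro h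
    exact ⟨g⁻¹ * x * g, h, by simp [mul_assoc]⟩

theorem conj_mem_conj (K : Subgroup G) (g x : G) (hx : x ∈ K) :
    g * x * g⁻¹ ∈ K.map (MulAut.conj g).toMonoidHom := ⟨x, hx, rfl⟩

theorem card_conj [Finite G] (K : Subgroup G) (g : G) :
    Nat.card (K.map (MulAut.conj g).toMonoidHom) = Nat.card K :=
  Subgroup.card_map_of_injective (MulAut.conj g).injective

theorem conj_eq_of_le [Finite G] (K : Subgroup G) (g : G)
    (h : K.map (MulAut.conj g).toMonoidHom ≤ K) : K.map (MulAut.conj g).toMonoidHom = K :=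
  Subgroup.eq_of_le_of_card_ge h (card_conj K g).ge

theorem mem_normalizer_of_conj_le [Finite G] (K : Subgroup G) (g : G)
    (h : K.map (MulAut.conj g).toMonoidHom ≤ K) : g ∈ Subgroup.normalizer (K : Set G) := by
  rw [Subgroup.mem_normalizer_iff_map_conj_eq]
  exact conj_eq_of_le K g h

/-- coatom of `M` spelled out -/
theorem eq_or_eq_of_coatom (H M : Subgroup G) (hHM : H ≤ M) (hmaxH : IsCoatom (H.subgroupOf M))
    (K : Subgroup G) (hHK : H ≤ K) (hKM : K ≤ M) : K = H ∨ K = M := by
  have h1 : H.subgroupOf M ≤ K.subgroupOf M := by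
    intro x hx
    rw [Subgroup.mem_subgroupOf] at hx ⊢
    exact hHK hx
  rcases hmaxH.le_iff.mp h1 with h | h
  · right
    exact le_antisymm hKM (Subgroup.subgroupOf_eq_top.mp h)
  · left
    have := congrArg (Subgroup.map M.subtype) h
    rwa [Subgroup.map_subgroupOf_eq_of_le hKM, Subgroup.map_subgroupOf_eq_of_le hHM] at this

section main

variable [Finite G] (H M : Subgroup G) (hHM : H ≤ M)
  (hcl : ∀ g : G, (H ⊔ H.map (MulAut.conj g).toMonoidHom) ⊓ M = H)
  (hmaxH : IsCoatom (H.subgroupOf M)) (hmaxM : IsCoatom M)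

include hHM hcl in
/-- Step 1: a conjugate of `H` inside `M` is `H`. -/
theorem conj_eq_of_conj_le (g : G) (h : H.map (MulAut.conj g).toMonoidHom ≤ M) :
    H.map (MulAut.conj g).toMonoidHom = H := by
  apply conj_eq_of_le
  have h1 : H ⊔ H.map (MulAut.conj g).toMonoidHom ≤ M := sup_le hHM h
  have h2 := hcl g
  rw [inf_eq_left.mpr h1] at h2
  exact le_sup_right.trans h2.le

include hHM hcl in
theorem le_normalizer : M ≤ Subgroup.normalizer (H : Set G) := by
  intro m hm
  rw [Subgroup.mem_normalizer_iff_map_conj_eq]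
  apply conj_eq_of_conj_le H M hHM hcl
  rintro _ ⟨h, hh, rfl⟩
  exact M.mul_mem (M.mul_mem hm (hHM hh)) (M.inv_mem hm)

include hHM hcl in
theorem conj_inf_le (g : G) : H.map (MulAut.conj g).toMonoidHom ⊓ M ≤ H := by
  have h2 := hcl g
  conv_rhs => rw [← h2]
  exact inf_le_inf_right _ le_sup_right

include hHM hcl hmaxH hmaxM in
/-- Case II: some `g ∉ M` has `M ∩ M^g ≰ H`; then `H ⊔ H^g` is normal. -/
theorem case_two (hNH : Subgroup.normalizer (H : Set G) = M) (g : G) (hg : g ∉ M)
    (hX : ¬ M ⊓ M.map (MulAut.conj g).toMonoidHom ≤ H) :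
    Subgroup.normalClosure (H : Set G) ⊓ M ≤ H := by
  set Hg := H.map (MulAut.conj g).toMonoidHom with hHg
  set Mg := M.map (MulAut.conj g).toMonoidHom with hMg
  set X := M ⊓ Mg with hXdef
  set J := H ⊔ Hg with hJ
  have hJM : J ⊓ M = H := hcl g
  have hHgMg : Hg ≤ Mg := Subgroup.map_mono hHM
  -- `X` normalizes `H`
  have hXH : X ≤ Subgroup.normalizer (H : Set G) := inf_le_left.trans (le_normalizer H M hHM hcl)
  -- `X` normalizes `Hg`
  have hXHg : X ≤ Subgroup.normalizer (Hg : Set G) := by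
    intro x hx
    have hx2 : g⁻¹ * x * g ∈ M := (mem_conj_iff M g x).mp hx.2
    have hx3 := le_normalizer H M hHM hcl hx2
    apply mem_normalizer_of_conj_le
    rintro _ ⟨_, ⟨h, hh, rfl⟩, rfl⟩
    have := (Subgroup.mem_normalizer_iff.mp hx3 h).mp hh
    refine ⟨_, this, ?_⟩
    simp only [MulEquiv.coe_toMonoidHom, MulAut.conj_apply]
    group
  -- `X` normalizes `J`
  have hXJ : X ≤ Subgroup.normalizer (J : Set G) := by
    intro x hx
    rw [Subgroup.mem_normalizer_iff_map_conj_eq, hJ, Subgroup.map_sup]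
    have h1 := Subgroup.mem_normalizer_iff_map_conj_eq.mp (hXH hx)
    have h2 := Subgroup.mem_normalizer_iff_map_conj_eq.mp (hXHg hx)
    rw [h1, h2]
  -- `H ⊔ X = M`
  have hHX : H ⊔ X = M := by
    rcases eq_or_eq_of_coatom H M hHM hmaxH (H ⊔ X) le_sup_left (sup_le hHM inf_le_left) with h | h
    · exact absurd (le_sup_right.trans h.le) hX
    · exact h
  -- `Mg ≠ M`, in fact `Mg ≰ M`
  have hMgM : ¬ Mg ≤ M := by
    intro h
    have h1 : Hg = H := conj_eq_of_conj_le H M hHM hcl g (hHgMg.trans h)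
    have h2 : g ∈ Subgroup.normalizer (H : Set G) := by
      rw [Subgroup.mem_normalizer_iff_map_conj_eq]; exact h1
    rw [hNH] at h2
    exact hg h2
  -- `Hg ⊔ X = Mg`
  have hHgX : Hg ⊔ X = Mg := by
    -- pull back along conjugation by `g`
    have hXHg' : ¬ X ≤ Hg := by
      intro h
      apply hX
      intro x hx
      have : x ∈ Hg ⊓ M := ⟨h hx, hx.1⟩
      exact conj_inf_le H M hHM hcl g this
    -- the subgroup `K = (Hg ⊔ X)^{g⁻¹}` lies between `H` and `M`
    set K := (Hg ⊔ X).map (MulAut.conj g⁻¹).toMonoidHom with hK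
    have hback : ∀ L : Subgroup G, (L.map (MulAut.conj g).toMonoidHom).map (MulAut.conj g⁻¹).toMonoidHom = L := by
      intro L
      rw [Subgroup.map_map]
      have : (MulAut.conj g⁻¹).toMonoidHom.comp (MulAut.conj g).toMonoidHom = MonoidHom.id G := by
        ext y; simp [mul_assoc]
      rw [this, Subgroup.map_id]
    have hforth : ∀ L : Subgroup G, (L.map (MulAut.conj g⁻¹).toMonoidHom).map (MulAut.conj g).toMonoidHom = L := by
      intro L
      rw [Subgroup.map_map]
      have : (MulAut.conj g).toMonoidHom.comp (MulAut.conj g⁻¹).toMonoidHom = MonoidHom.id G := by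
        ext y; simp [mul_assoc]
      rw [this, Subgroup.map_id]
    have hHK : H ≤ K := by
      rw [hK, ← hback H]
      exact Subgroup.map_mono le_sup_left
    have hKM : K ≤ M := by
      rw [hK, ← hback M]
      exact Subgroup.map_mono (sup_le hHgMg inf_le_right)
    rcases eq_or_eq_of_coatom H M hHM hmaxH K hHK hKM with h | h
    · exfalso
      apply hXHg'
      have : Hg ⊔ X = Hg := by
        rw [← hforth (Hg ⊔ X), ← hK, h]
      exact le_sup_right.trans this.le
    · rw [← hforth (Hg ⊔ X), ← hK, h]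
  -- `J ⊔ X = ⊤`
  have hJX : J ⊔ X = ⊤ := by
    have h1 : M ≤ J ⊔ X := by
      rw [← hHX]; exact sup_le_sup_right le_sup_left X
    have h2 : Mg ≤ J ⊔ X := by
      rw [← hHgX]; exact sup_le_sup_right le_sup_right X
    by_contra hne
    have h3 : J ⊔ X = M := by
      rcases hmaxM.le_iff.mp h1 with h | h
      · exact absurd h hne
      · exact h
    exact hMgM (h3 ▸ h2)
  have hJn : J.Normal := by
    rw [← Subgroup.normalizer_eq_top_iff, eq_top_iff, ← hJX]
    exact sup_le Subgroup.le_normalizer hXJ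
  have hNJ : Subgroup.normalClosure (H : Set G) ≤ J :=
    Subgroup.normalClosure_le_normal (SetLike.coe_subset_coe.mpr le_sup_left)
  calc Subgroup.normalClosure (H : Set G) ⊓ M ≤ J ⊓ M := inf_le_inf_right _ hNJ
    _ = H := hJM

include hHM hcl hmaxH in
/-- Case I: `M ∩ M^g ≤ H` for all `g ∉ M`; transfer. -/
theorem case_one (hI : ∀ g : G, g ∉ M → M ⊓ M.map (MulAut.conj g).toMonoidHom ≤ H) :
    Subgroup.normalClosure (H : Set G) ⊓ M ≤ H := by
  have hn : (H.subgroupOf M).Normal :=
    (Subgroup.normal_subgroupOf_iff_le_normalizer hHM).mpr (le_normalizer H M hHM hcl)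
  -- the quotient `M / H` is cyclic, hence commutative
  have hcyc : IsCyclic (M ⧸ H.subgroupOf M) := by
    by_cases htriv : ∀ x : M ⧸ H.subgroupOf M, x = 1
    · refine ⟨⟨1, fun x => ?_⟩⟩
      rw [htriv x]
      exact (Subgroup.zpowers (1 : M ⧸ H.subgroupOf M)).one_mem
    · push Not at htriv
      obtain ⟨x, hx⟩ := htriv
      refine ⟨⟨x, fun y => ?_⟩⟩
      have h1 : H.subgroupOf M ≤ (Subgroup.zpowers x).comap (QuotientGroup.mk' (H.subgroupOf M)) := by
        intro h hh
        rw [Subgroup.mem_comap, QuotientGroup.mk'_apply, (QuotientGroup.eq_one_iff h).mpr hh]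
        exact Subgroup.one_mem _
      rcases hmaxH.le_iff.mp h1 with h | h
      · have : (QuotientGroup.mk' (H.subgroupOf M)) y.out ∈ Subgroup.zpowers x := by
          rw [← Subgroup.mem_comap, h]; exact Subgroup.mem_top _
        rw [QuotientGroup.mk'_apply, QuotientGroup.out_eq'] at this
        exact this
      · exfalso
        apply hx
        obtain ⟨x', rfl⟩ := QuotientGroup.mk_surjective x
        have : x' ∈ (Subgroup.zpowers (x' : M ⧸ H.subgroupOf M)).comap (QuotientGroup.mk' (H.subgroupOf M)) := by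
          rw [Subgroup.mem_comap]; exact Subgroup.mem_zpowers _
        rw [h] at this
        exact (QuotientGroup.eq_one_iff x').mpr this
  letI : CommGroup (M ⧸ H.subgroupOf M) := IsCyclic.commGroup
  set ϕ : M →* M ⧸ H.subgroupOf M := QuotientGroup.mk' (H.subgroupOf M) with hϕ
  have hker : ∀ y : M, ϕ y = 1 ↔ (y : G) ∈ H := by
    intro y
    rw [hϕ, QuotientGroup.mk'_apply, QuotientGroup.eq_one_iff, Subgroup.mem_subgroupOf]
  have hI' : ∀ x : G, x ∉ M → ∀ y : M, x * (y : G) * x⁻¹ ∈ M → ϕ y = 1 := by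
    intro x hx y hy
    rw [hker]
    have hx' : x⁻¹ ∉ M := fun h => hx (by simpa using M.inv_mem h)
    apply hI x⁻¹ hx'
    exact Subgroup.mem_inf.mpr ⟨y.2, (mem_conj_iff M x⁻¹ y).mpr (by simpa using hy)⟩
  have htr := transfer_eq_of_frobenius_like M ϕ hI'
  set V := MonoidHom.transfer ϕ with hV
  have hHker : (H : Set G) ⊆ V.ker := by
    intro h hh
    rw [SetLike.mem_coe, MonoidHom.mem_ker]
    have := htr ⟨h, hHM hh⟩
    rw [this, hker]
    exact hh
  have hNker : Subgroup.normalClosure (H : Set G) ≤ V.ker := Subgroup.normalClosure_le_normal hHker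
  rintro x ⟨hxN, hxM⟩
  have h1 : V x = 1 := MonoidHom.mem_ker.mp (hNker hxN)
  have h2 := htr ⟨x, hxM⟩
  rw [show ((⟨x, hxM⟩ : M) : G) = x from rfl, h1] at h2
  exact (hker ⟨x, hxM⟩).mp h2.symm

end main

/-- Let G be a finite group and H ≤ M ≤ G subgroups such that for every g ∈ G the subgroup generated by H and g H g⁻¹ meets M exactly in H. If H is a maximal subgroup of M and M is a maximal subgroup of G, then the normal closure of H in G meets M exactly in H. -/
theorem result {G : Type*} [Group G] [Finite G] (H M : Subgroup G) (hHM : H ≤ M) (hcl : ∀ g : G, (H ⊔ H.map (MulAut.conj g).toMonoidHom) ⊓ M = H) (hmaxH : IsCoatom (H.subgroupOf M)) (hmaxM : IsCoatom M) : Subgroup.normalClosure (H : Set G) ⊓ M = H := by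
  apply le_antisymm _ (le_inf Subgroup.le_normalClosure hHM)
  by_cases hHn : H.Normal
  · rw [Subgroup.normalClosure_eq_self]
    exact inf_le_left
  have hNH : Subgroup.normalizer (H : Set G) = M := by
    rcases hmaxM.le_iff.mp (le_normalizer H M hHM hcl) with h | h
    · exact absurd (Subgroup.normalizer_eq_top_iff.mp h) hHn
    · exact h
  by_cases hII : ∃ g : G, g ∉ M ∧ ¬ M ⊓ M.map (MulAut.conj g).toMonoidHom ≤ H
  · obtain ⟨g, hg, hX⟩ := hII
    exact case_two H M hHM hcl hmaxH hmaxM hNH g hg hX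
  · push Not at hII
    exact case_one H M hHM hcl hmaxH hII

end Cfsg.Agent.S3014
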