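import Cfsg.Statements.S3015
import Cfsg.Agent.S3014
import Cfsg.Agent.Lib.Helper34.SylowConj

set_option autoImplicit false
open Cfsg

namespace Cfsg.Agent.S3015

open Cfsg.Agent.S3014

section main

variable {G : Type*} [Group G] [Finite G]

theorem conj_back (g : G) (L : Subgroup G) :
    (L.map (MulAut.conj g).toMonoidHom).map (MulAut.conj g⁻¹).toMonoidHom = L := by
  rw [Subgroup.map_map]
  have : (MulAut.conj g⁻¹).toMonoidHom.comp (MulAut.conj g).toMonoidHom = MonoidHom.id G := by
    ext y; simp [mul_assoc]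
  rw [this, Subgroup.map_id]

theorem conj_forth (g : G) (L : Subgroup G) :
    (L.map (MulAut.conj g⁻¹).toMonoidHom).map (MulAut.conj g).toMonoidHom = L := by
  have := conj_back g⁻¹ L
  rwa [inv_inv] at this

/-- prime index implies maximal -/
theorem isCoatom_of_relIndex_prime (H M : Subgroup G) (hidx : (H.relIndex M).Prime) :
    IsCoatom (H.subgroupOf M) := by
  have hidx' : (H.subgroupOf M).index.Prime := hidx
  constructor
  · intro h
    rw [← Subgroup.index_eq_one] at h
    rw [h] at hidx'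
    exact Nat.not_prime_one hidx'
  · intro K hK
    have h1 := Subgroup.relIndex_mul_index hK.le
    have h2 : K.index ∣ (H.subgroupOf M).index := Dvd.intro_left _ h1
    rcases (Nat.dvd_prime hidx').mp h2 with h3 | h3
    · exact Subgroup.index_eq_one.mp h3
    · exfalso
      rw [h3] at h1
      have h4 : (H.subgroupOf M).relIndex K = 1 := by
        have hpos : 0 < (H.subgroupOf M).index := hidx'.pos
        nth_rewrite 2 [← one_mul (H.subgroupOf M).index] at h1
        exact Nat.eq_of_mul_eq_mul_right hpos h1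
      exact absurd (Subgroup.relIndex_eq_one.mp h4) (not_le_of_gt hK)

variable [IsSimpleGroup G] (hG : ¬ IsMulCommutative G) (M H : Subgroup G) (hmaxM : IsCoatom M)
  (hHM : H ≤ M) (hHn : (H.subgroupOf M).Normal) (hidx : (H.relIndex M).Prime)

include hmaxM hHM hidx in
theorem M_ne_bot : M ≠ ⊥ := by
  intro h
  have hH : H = ⊥ := le_bot_iff.mp (h ▸ hHM)
  rw [h, hH] at hidx
  simp at hidx
  exact Nat.not_prime_one hidx

include hmaxM hHM hidx in
/-- `M` is self-normalizing. -/
theorem mem_of_conj_eq (g : G) (hg : M.map (MulAut.conj g).toMonoidHom ≤ M) : g ∈ M := by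
  have h1 : g ∈ Subgroup.normalizer (M : Set G) := mem_normalizer_of_conj_le M g hg
  rcases hmaxM.le_iff.mp (Subgroup.le_normalizer : M ≤ Subgroup.normalizer (M : Set G)) with h | h
  · exfalso
    have hn : M.Normal := Subgroup.normalizer_eq_top_iff.mp h
    rcases IsSimpleGroup.eq_bot_or_eq_top_of_normal M hn with h2 | h2
    · exact M_ne_bot M H hmaxM hHM hidx h2
    · exact hmaxM.1 h2
  · rw [h] at h1; exact h1

include hG hmaxM hHM hHn hidx in
/-- Case A: transfer. -/
theorem case_A (hA : ∀ g : G, g ∉ M → M ⊓ M.map (MulAut.conj g).toMonoidHom ≤ H) : False := by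
  have : Fact (H.relIndex M).Prime := ⟨hidx⟩
  have hcard : Nat.card (↥M ⧸ H.subgroupOf M) = H.relIndex M := (Subgroup.index_eq_card _).symm
  have hcyc : IsCyclic (↥M ⧸ H.subgroupOf M) := isCyclic_of_prime_card hcard
  let _ : CommGroup (↥M ⧸ H.subgroupOf M) := IsCyclic.commGroup
  set ϕ : M →* M ⧸ H.subgroupOf M := QuotientGroup.mk' (H.subgroupOf M) with hϕ
  have hker : ∀ y : M, ϕ y = 1 ↔ (y : G) ∈ H := by
    intro y
    rw [hϕ, QuotientGroup.mk'_apply, QuotientGroup.eq_one_iff, Subgroup.mem_subgroupOf]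
  have hI' : ∀ x : G, x ∉ M → ∀ y : M, x * (y : G) * x⁻¹ ∈ M → ϕ y = 1 := by
    intro x hx y hy
    rw [hker]
    have hx' : x⁻¹ ∉ M := fun h => hx (by simpa using M.inv_mem h)
    apply hA x⁻¹ hx'
    exact Subgroup.mem_inf.mpr ⟨y.2, (mem_conj_iff M x⁻¹ y).mpr (by simpa using hy)⟩
  have htr := transfer_eq_of_frobenius_like M ϕ hI'
  set V := MonoidHom.transfer ϕ with hV
  rcases IsSimpleGroup.eq_bot_or_eq_top_of_normal V.ker inferInstance with h | h
  · -- injective into a commutative group
    apply hG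
    refine ⟨⟨fun a b => ?_⟩⟩
    have h1 : V (a * b) = V (b * a) := by rw [map_mul, map_mul, mul_comm]
    exact (MonoidHom.ker_eq_bot_iff V).mp h h1
  · -- trivial: then `M ≤ H`
    have hMH : M ≤ H := by
      intro m hm
      have h1 : V m = 1 := MonoidHom.mem_ker.mp (h ▸ Subgroup.mem_top m)
      have h2 := htr ⟨m, hm⟩
      rw [show ((⟨m, hm⟩ : M) : G) = m from rfl, h1] at h2
      exact (hker ⟨m, hm⟩).mp h2.symm
    have : H.relIndex M = 1 := Subgroup.relIndex_eq_one.mpr hMH
    rw [this] at hidx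
    exact Nat.not_prime_one hidx

include hmaxM hHM hHn hidx in
/-- Case B1. -/
theorem case_B1 (g : G) (hX : ¬ M ⊓ M.map (MulAut.conj g).toMonoidHom ≤ H)
    (hKM : ¬ H.map (MulAut.conj g).toMonoidHom ≤ M) :
    H ⊔ H.map (MulAut.conj g).toMonoidHom = ⊤ := by
  have hcoH := isCoatom_of_relIndex_prime H M hidx
  have hMN : M ≤ Subgroup.normalizer (H : Set G) :=
    (Subgroup.normal_subgroupOf_iff_le_normalizer hHM).mp hHn
  set Hg := H.map (MulAut.conj g).toMonoidHom with hHg
  set Mg := M.map (MulAut.conj g).toMonoidHom with hMg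
  set X := M ⊓ Mg with hXdef
  set J := H ⊔ Hg with hJ
  have hXH : X ≤ Subgroup.normalizer (H : Set G) := inf_le_left.trans hMN
  have hXHg : X ≤ Subgroup.normalizer (Hg : Set G) := by
    intro x hx
    have hx2 : g⁻¹ * x * g ∈ M := (mem_conj_iff M g x).mp hx.2
    have hx3 := hMN hx2
    apply mem_normalizer_of_conj_le
    rintro _ ⟨_, ⟨h, hh, rfl⟩, rfl⟩
    have := (Subgroup.mem_normalizer_iff.mp hx3 h).mp hh
    refine ⟨_, this, ?_⟩
    simp only [MulEquiv.coe_toMonoidHom, MulAut.conj_apply]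
    group
  have hXJ : X ≤ Subgroup.normalizer (J : Set G) := by
    intro x hx
    rw [Subgroup.mem_normalizer_iff_map_conj_eq, hJ, Subgroup.map_sup]
    have h1 := Subgroup.mem_normalizer_iff_map_conj_eq.mp (hXH hx)
    have h2 := Subgroup.mem_normalizer_iff_map_conj_eq.mp (hXHg hx)
    rw [h1, h2]
  have hHX : H ⊔ X = M := by
    rcases eq_or_eq_of_coatom H M hHM hcoH (H ⊔ X) le_sup_left (sup_le hHM inf_le_left) with h | h
    · exact absurd (le_sup_right.trans h.le) hX
    · exact h
  have hJX : J ⊔ X = ⊤ := by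
    have h1 : M ≤ J ⊔ X := by
      rw [← hHX]; exact sup_le_sup_right le_sup_left X
    rcases hmaxM.le_iff.mp h1 with h | h
    · exact h
    · exfalso
      apply hKM
      rw [← h]
      exact le_sup_right.trans le_sup_left
  have hJn : J.Normal := by
    rw [← Subgroup.normalizer_eq_top_iff, eq_top_iff, ← hJX]
    exact sup_le Subgroup.le_normalizer hXJ
  rcases IsSimpleGroup.eq_bot_or_eq_top_of_normal J hJn with h | h
  · exfalso
    apply hKM
    have : Hg ≤ J := le_sup_right
    rw [h] at this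
    exact this.trans bot_le
  · exact h

include hmaxM hHM hHn hidx in
/-- Case B2 is impossible. -/
theorem case_B2 (g : G) (hg : g ∉ M) (hX : ¬ M ⊓ M.map (MulAut.conj g).toMonoidHom ≤ H)
    (hKM : H.map (MulAut.conj g).toMonoidHom ≤ M) : False := by
  have hpF : Fact (H.relIndex M).Prime := ⟨hidx⟩
  set p := H.relIndex M with hp
  have hcoH := isCoatom_of_relIndex_prime H M hidx
  have hMN : M ≤ Subgroup.normalizer (H : Set G) :=
    (Subgroup.normal_subgroupOf_iff_le_normalizer hHM).mp hHn
  set K := H.map (MulAut.conj g).toMonoidHom with hK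
  set Mg := M.map (MulAut.conj g).toMonoidHom with hMg
  set X := M ⊓ Mg with hXdef
  have hKMg : K ≤ Mg := Subgroup.map_mono hHM
  have hMgM : ¬ Mg ≤ M := fun h => hg (mem_of_conj_eq M H hmaxM hHM hidx g h)
  -- `X = K`
  have hXK : X = K := by
    set Y := X.map (MulAut.conj g⁻¹).toMonoidHom with hY
    have hHY : H ≤ Y := by
      rw [hY, ← conj_back g H]
      exact Subgroup.map_mono (le_inf hKM hKMg)
    have hYM : Y ≤ M := by
      rw [hY, ← conj_back g M]
      exact Subgroup.map_mono inf_le_right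
    rcases eq_or_eq_of_coatom H M hHM hcoH Y hHY hYM with h | h
    · rw [← conj_forth g X, ← hY, h]
    · exfalso
      apply hMgM
      have : X = Mg := by rw [← conj_forth g X, ← hY, h]
      rw [← this]; exact inf_le_left
  have hKH : ¬ K ≤ H := fun h => hX (hXK ▸ h)
  have hKbot : K ≠ ⊥ := fun h => hKH (h ▸ bot_le)
  -- `N(H) = M`, `N(K) = Mg`
  have hNH : Subgroup.normalizer (H : Set G) = M := by
    rcases hmaxM.le_iff.mp hMN with h | h
    · exfalso
      have hn : H.Normal := Subgroup.normalizer_eq_top_iff.mp h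
      rcases IsSimpleGroup.eq_bot_or_eq_top_of_normal H hn with h2 | h2
      · apply hKbot
        rw [hK, h2, Subgroup.map_bot]
      · exact hmaxM.1 (top_le_iff.mp (h2 ▸ hHM))
    · exact h
  have hNK : Subgroup.normalizer (K : Set G) = Mg := by
    rw [hK, ← Subgroup.map_equiv_normalizer_eq H (MulAut.conj g), hNH]
  -- the subgroup generated by the `p'`-elements of `M`
  set SL : Set G := {y | y ∈ M ∧ (orderOf y).Coprime p} with hSL
  set L := Subgroup.closure SL with hL
  have hSLH : ∀ y ∈ SL, y ∈ H := by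
    rintro y ⟨hyM, hyc⟩
    have hcard : Nat.card (↥M ⧸ H.subgroupOf M) = p := (Subgroup.index_eq_card _).symm
    set y' : M := ⟨y, hyM⟩ with hy'
    have h1 : orderOf (QuotientGroup.mk' (H.subgroupOf M) y') ∣ orderOf y' :=
      orderOf_map_dvd _ y'
    have h2 : orderOf (QuotientGroup.mk' (H.subgroupOf M) y') ∣ p := by
      rw [← hcard]; exact orderOf_dvd_natCard _
    have h3 : orderOf y' = orderOf y := Subgroup.orderOf_mk y hyM
    rw [h3] at h1
    have h4 : orderOf (QuotientGroup.mk' (H.subgroupOf M) y') = 1 :=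
      Nat.eq_one_of_dvd_coprimes hyc h1 h2
    rw [orderOf_eq_one_iff, QuotientGroup.mk'_apply, QuotientGroup.eq_one_iff,
      Subgroup.mem_subgroupOf] at h4
    exact h4
  have hLH : L ≤ H := (Subgroup.closure_le _).mpr hSLH
  have hconjL : ∀ t : G, (∀ y ∈ SL, t * y * t⁻¹ ∈ M) →
      t ∈ Subgroup.normalizer (L : Set G) := by
    intro t ht
    apply mem_normalizer_of_conj_le
    rw [hL, MonoidHom.map_closure]
    apply Subgroup.closure_mono
    rintro _ ⟨y, hy, rfl⟩
    refine ⟨ht y hy, ?_⟩
    have : orderOf ((MulAut.conj t).toMonoidHom y) = orderOf y :=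
      orderOf_injective _ (MulAut.conj t).injective y
    rw [this]; exact hy.2
  have hML : M ≤ Subgroup.normalizer (L : Set G) := by
    intro m hm
    apply hconjL
    intro y hy
    exact M.mul_mem (M.mul_mem hm hy.1) (M.inv_mem hm)
  have hgL : g ∈ Subgroup.normalizer (L : Set G) := by
    apply hconjL
    intro y hy
    exact hKM ⟨y, hSLH y hy, rfl⟩
  have hLn : L.Normal := by
    rw [← Subgroup.normalizer_eq_top_iff]
    rcases hmaxM.le_iff.mp hML with h | h
    · exact h
    · exact absurd (h ▸ hgL) hg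
  have hLbot : L = ⊥ := by
    rcases IsSimpleGroup.eq_bot_or_eq_top_of_normal L hLn with h | h
    · exact h
    · exact absurd (top_le_iff.mp (h ▸ hLH.trans hHM)) hmaxM.1
  -- `M` is a `p`-group
  have hMp : IsPGroup p ↥M := by
    rintro ⟨m, hm⟩
    obtain ⟨e, n', hn', hord⟩ := Nat.exists_eq_pow_mul_and_not_dvd (orderOf_pos m).ne' p
      hidx.ne_one
    refine ⟨e, ?_⟩
    apply Subtype.ext
    simp only [SubmonoidClass.mk_pow, Subgroup.coe_one]
    have h1 : orderOf (m ^ p ^ e) = n' := by
      rw [orderOf_pow_of_dvd (pow_ne_zero e hidx.ne_zero) (hord ▸ Dvd.intro _ rfl), hord,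
        Nat.mul_div_cancel_left _ (pow_pos hidx.pos e)]
    have h2 : m ^ p ^ e ∈ SL :=
      ⟨M.pow_mem hm _, by rw [h1]; exact ((Nat.Prime.coprime_iff_not_dvd hidx).mpr hn').symm⟩
    have h3 : m ^ p ^ e ∈ L := Subgroup.subset_closure h2
    rwa [hLbot, Subgroup.mem_bot] at h3
  -- normalizers grow in `M`
  have hKltM : K < M := by
    refine lt_of_le_of_ne hKM (fun h => hMgM ?_)
    have h1 : M ≤ Mg := h ▸ hKMg
    have h2 : M = Mg := Subgroup.eq_of_le_of_card_ge h1 (card_conj M g).le
    exact h2 ▸ le_rfl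
  have := Cfsg.Agent.Lib.Helper34.lt_inf_normalizer_of_lt hMp hKltM
  rw [hNK, ← hXdef, hXK] at this
  exact lt_irrefl _ this

end main

/-- Let G be a finite non-abelian simple group, M a maximal subgroup of G and H a normal subgroup of M of prime index in M. Then G is generated by H together with one of its conjugates. -/
theorem result {G : Type*} [Group G] [Finite G] [IsSimpleGroup G] (hG : ¬ IsMulCommutative G) (M H : Subgroup G) (hmaxM : IsCoatom M) (hHM : H ≤ M) (hHn : (H.subgroupOf M).Normal) (hidx : (H.relIndex M).Prime) : ∃ g : G, H ⊔ H.map (MulAut.conj g).toMonoidHom = ⊤ := by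
  by_cases hB : ∃ g : G, g ∉ M ∧ ¬ M ⊓ M.map (MulAut.conj g).toMonoidHom ≤ H
  · obtain ⟨g, hg, hX⟩ := hB
    by_cases hKM : H.map (MulAut.conj g).toMonoidHom ≤ M
    · exact absurd (case_B2 M H hmaxM hHM hHn hidx g hg hX hKM) id
    · exact ⟨g, case_B1 M H hmaxM hHM hHn hidx g hX hKM⟩
  · push Not at hB
    exact absurd (case_A hG M H hmaxM hHM hHn hidx hB) id

end Cfsg.Agent.S3015
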