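import Cfsg.Statements.S3020
import Mathlib.GroupTheory.Nilpotent
import Mathlib.GroupTheory.Transfer
-- import your own Cfsg.Agent.* helpers here

set_option autoImplicit false
open Cfsg

namespace Cfsg.Agent.S3020

/-- In a finite `p`-group `T`, a subgroup `H` with `N_T(H) = H` is all of `T`. -/
theorem eq_of_inf_normalizer_le {G : Type*} [Group G] [Finite G] {p : ℕ} [Fact p.Prime]
    (T H : Subgroup G) (hT : IsPGroup p T) (hHT : H ≤ T)
    (hself : T ⊓ Subgroup.normalizer (H : Set G) ≤ H) : H = T := by
  by_contra hne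
  have hlt : H.subgroupOf T < ⊤ := by
    rw [lt_top_iff_ne_top, Ne, Subgroup.subgroupOf_eq_top]
    intro hTH
    exact hne (le_antisymm hHT hTH)
  have : Group.IsNilpotent T := hT.isNilpotent
  have hnc : NormalizerCondition T := Group.normalizerCondition_of_isNilpotent
  have hlt2 := hnc _ hlt
  rw [← Subgroup.subgroupOf_normalizer_eq hHT] at hlt2
  obtain ⟨t, ht, htn⟩ := SetLike.exists_of_lt hlt2
  rw [Subgroup.mem_subgroupOf] at ht htn
  exact htn (hself ⟨t.2, ht⟩)

/-- Burnside: a self-normalizing abelian `p`-subgroup `H'` of a finite group `T` has a normal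
complement, which is `O_{p'}(T)`. -/
theorem burnside_core {T : Type*} [Group T] [Finite T] {p : ℕ} [Fact p.Prime] (H' : Subgroup T)
    (hp : IsPGroup p H') (hab : ∀ a ∈ H', ∀ b ∈ H', a * b = b * a)
    (hself : Subgroup.normalizer (H' : Set T) = H') :
    H' ⊔ Cfsg.pPrimeCore p T = ⊤ ∧ H' ⊓ Cfsg.pPrimeCore p T = ⊥ := by
  obtain ⟨P, hP⟩ := hp.exists_le_sylow
  have hPH : (P : Subgroup T) = H' := by
    symm
    apply eq_of_inf_normalizer_le (P : Subgroup T) H' P.2 hP
    rw [hself]; exact inf_le_right
  have hNC : Subgroup.normalizer ((P : Subgroup T) : Set T) ≤ Subgroup.centralizer ((P : Subgroup T) : Set T) := by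
    rw [hPH, hself]
    intro a ha
    rw [Subgroup.mem_centralizer_iff]
    intro b hb
    exact hab b hb a ha
  have hcompl := MonoidHom.ker_transferSylow_isComplement' P hNC
  have hnd := MonoidHom.not_dvd_card_ker_transferSylow P hNC
  set K := (MonoidHom.transferSylow P hNC).ker with hK
  have hKO : Cfsg.pPrimeCore p T = K := by
    apply le_antisymm
    · apply sSup_le
      rintro N ⟨-, hNcop⟩
      intro n hn
      rw [hK, MonoidHom.mem_ker]
      have h1 : orderOf (MonoidHom.transferSylow P hNC n) ∣ Nat.card N := by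
        refine dvd_trans (orderOf_map_dvd _ n) ?_
        have : orderOf (⟨n, hn⟩ : N) = orderOf n := Subgroup.orderOf_mk n hn
        rw [← this]
        exact orderOf_dvd_natCard _
      obtain ⟨k, hk⟩ := (IsPGroup.iff_orderOf.mp P.2) (MonoidHom.transferSylow P hNC n)
      rw [hk] at h1
      have h2 : (p ^ k).Coprime p := Nat.Coprime.coprime_dvd_left h1 hNcop
      rcases Nat.eq_zero_or_pos k with h0 | h0
      · rw [h0, pow_zero, orderOf_eq_one_iff] at hk; exact hk
      · exfalso
        have : p ∣ Nat.gcd (p ^ k) p := Nat.dvd_gcd (dvd_pow_self p h0.ne') dvd_rfl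
        rw [h2] at this
        exact (Fact.out : p.Prime).one_lt.ne' (Nat.dvd_one.mp this)
    · apply le_sSup
      refine ⟨inferInstance, ?_⟩
      exact (Nat.Coprime.symm ((Nat.Prime.coprime_iff_not_dvd Fact.out).mpr hnd))
  rw [hKO, ← hPH]
  constructor
  · rw [sup_comm]; exact hcompl.sup_eq_top
  · rw [inf_comm]; exact hcompl.disjoint.eq_bot

/-- Let G be a finite group, p a prime and H an abelian p-subgroup of G that is extremely closed (for every g, the subgroup generated by H and g H g⁻¹ meets N_G(H) exactly in H). Then for every g ∈ G, the subgroup T generated by H and g H g⁻¹ is the product of H with O_{p'}(T), and H meets O_{p'}(T) trivially; that is, O_{p'}(T) is a normal p-complement of H in T. -/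
theorem result {G : Type*} [Group G] [Finite G] {p : ℕ} [Fact p.Prime] (H : Subgroup G) (hHp : IsPGroup p H) (hHab : IsMulCommutative H) (hcl : Cfsg.IsExtremelyClosed H) (g : G) (T : Subgroup G) (hT : T = H ⊔ H.map (MulAut.conj g).toMonoidHom) : H ⊔ (Cfsg.pPrimeCore p ↥T).map T.subtype = T ∧ H ⊓ (Cfsg.pPrimeCore p ↥T).map T.subtype = ⊥ := by
  have hHT : H ≤ T := hT ▸ le_sup_left
  have hself : T ⊓ Subgroup.normalizer (H : Set G) = H := hT ▸ hcl g
  have hp' : IsPGroup p (H.subgroupOf T) := hHp.comap_subtype
  have hab' : ∀ a ∈ H.subgroupOf T, ∀ b ∈ H.subgroupOf T, a * b = b * a := by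
    intro a ha b hb
    rw [Subgroup.mem_subgroupOf] at ha hb
    apply Subtype.ext
    exact setLike_mul_comm ha hb
  have hself' : Subgroup.normalizer ((H.subgroupOf T : Subgroup T) : Set T) = H.subgroupOf T := by
    rw [← Subgroup.subgroupOf_normalizer_eq hHT]
    conv_rhs => rw [← hself]
    rw [Subgroup.inf_subgroupOf_left]
  obtain ⟨h1, h2⟩ := burnside_core (H.subgroupOf T) hp' hab' hself'
  have hmapH : (H.subgroupOf T).map T.subtype = H := by
    rw [Subgroup.subgroupOf_map_subtype, inf_eq_left.mpr hHT]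
  constructor
  · have := congrArg (Subgroup.map T.subtype) h1
    rwa [Subgroup.map_sup, hmapH, ← MonoidHom.range_eq_map, Subgroup.range_subtype] at this
  · have := congrArg (Subgroup.map T.subtype) h2
    rwa [Subgroup.map_inf _ _ _ (Subgroup.subtype_injective T), hmapH, Subgroup.map_bot] at this

end Cfsg.Agent.S3020
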