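import Cfsg.Statements.S3021
import Mathlib.GroupTheory.Nilpotent
-- import your own Cfsg.Agent.* helpers here

set_option autoImplicit false
open Cfsg

namespace Cfsg.Agent.S3021

/-- In a finite `p`-group `T`, a subgroup `H` with `N_T(H) = H` is all of `T`. -/
theorem eq_of_inf_normalizer_le {G : Type*} [Group G] [Finite G] {p : ℕ} [Fact p.Prime]
    (T H : Subgroup G) (hT : IsPGroup p T) (hHT : H ≤ T)
    (hself : T ⊓ Subgroup.normalizer (H : Set G) ≤ H) : H = T := by
  by_contra hne
  have hlt : H.subgroupOf T < ⊤ := by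
    rw [lt_top_iff_ne_top, Ne, Subgroup.subgroupOf_eq_top]
    intro hTH
    exact hne (le_antisymm hHT hTH)
  have : Group.IsNilpotent T := hT.isNilpotent
  have hnc : NormalizerCondition T := Group.normalizerCondition_of_isNilpotent
  have hlt2 := hnc _ hlt
  rw [← Subgroup.subgroupOf_normalizer_eq hHT] at hlt2
  obtain ⟨t, ht, htn⟩ := SetLike.exists_of_lt hlt2
  rw [Subgroup.mem_subgroupOf] at ht htn
  exact htn (hself ⟨t.2, ht⟩)

theorem mem_normalizer_of_conj_le {G : Type*} [Group G] [Finite G] (R : Subgroup G) (g : G)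
    (h : R.map (MulAut.conj g).toMonoidHom ≤ R) : g ∈ Subgroup.normalizer (R : Set G) := by
  rw [Subgroup.mem_normalizer_iff_map_conj_eq]
  have hcard : Nat.card (R.map (MulAut.conj g).toMonoidHom) = Nat.card R :=
    Subgroup.card_map_of_injective (MulAut.conj g).injective
  exact Subgroup.eq_of_le_of_card_ge h hcard.ge

theorem partA {G : Type*} [Group G] [Finite G] {p : ℕ} [Fact p.Prime] (H : Subgroup G)
    (hcl : Cfsg.IsExtremelyClosed H) (Q : Subgroup G) (hQ : IsPGroup p Q) (hHQ : H ≤ Q) :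
    Subgroup.normalizer (Q : Set G) ≤ Subgroup.normalizer (H : Set G) := by
  intro g hg
  have hHg : H.map (MulAut.conj g).toMonoidHom ≤ Q := by
    rintro _ ⟨h, hh, rfl⟩
    exact ((Subgroup.mem_normalizer_iff.mp hg) h).mp (hHQ hh)
  have hTQ : H ⊔ H.map (MulAut.conj g).toMonoidHom ≤ Q := sup_le hHQ hHg
  have hT : IsPGroup p (H ⊔ H.map (MulAut.conj g).toMonoidHom : Subgroup G) := hQ.to_le hTQ
  have heq := eq_of_inf_normalizer_le _ H hT le_sup_left (hcl g).le
  apply mem_normalizer_of_conj_le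
  calc H.map (MulAut.conj g).toMonoidHom ≤ H ⊔ H.map (MulAut.conj g).toMonoidHom := le_sup_right
    _ = H := heq.symm

/-- Let G be a finite group, p a prime and H a p-subgroup of G that is extremely closed (for every g, the subgroup generated by H and g H g⁻¹ meets N_G(H) exactly in H). Then every p-subgroup Q of G containing H has N_G(Q) ≤ N_G(H); in particular every Sylow p-subgroup P of G containing H normalizes H, and H is strongly closed in P with respect to G. -/
theorem result {G : Type*} [Group G] [Finite G] {p : ℕ} [Fact p.Prime] (H : Subgroup G) (hHp : IsPGroup p H) (hcl : Cfsg.IsExtremelyClosed H) : (∀ Q : Subgroup G, IsPGroup p Q → H ≤ Q → Subgroup.normalizer (Q : Set G) ≤ Subgroup.normalizer (H : Set G)) ∧ ∀ P : Sylow p G, H ≤ (P : Subgroup G) → (P : Subgroup G) ≤ Subgroup.normalizer (H : Set G) ∧ Cfsg.IsStronglyClosed H (P : Subgroup G) := by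
  refine ⟨fun Q hQ hHQ => partA H hcl Q hQ hHQ, ?_⟩
  intro P hHP
  have hPN : (P : Subgroup G) ≤ Subgroup.normalizer (H : Set G) :=
    le_trans Subgroup.le_normalizer (partA H hcl P P.2 hHP)
  refine ⟨hPN, hHP, ?_⟩
  intro x hx g hy
  have h1 : g * x * g⁻¹ ∈ H ⊔ H.map (MulAut.conj g).toMonoidHom :=
    Subgroup.mem_sup_right ⟨x, hx, rfl⟩
  have h2 : g * x * g⁻¹ ∈ (H ⊔ H.map (MulAut.conj g).toMonoidHom) ⊓ Subgroup.normalizer (H : Set G) :=
    ⟨h1, hPN hy⟩
  rwa [hcl g] at h2

end Cfsg.Agent.S3021
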