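import Cfsg.Statements.S3023
import Cfsg.Agent.Lib.Helper50.ParabolicChar
import Cfsg.Agent.Lib.Helper49.SubnormalSylow
import Cfsg.Agent.Lib.Helper34.SylowConj
import Cfsg.Agent.Lib.Helper97.Cores

set_option autoImplicit false
open Cfsg

namespace Cfsg.Agent.S3023


open Cfsg.Agent.Lib.Helper50 Cfsg.Agent.Lib.Helper31 Cfsg.Agent.Lib.Helper49

/-- `O_p` of a subgroup of a subgroup, viewed in the big group. -/
theorem pCoreIn_map_subtype {G : Type*} [Group G] (p : ℕ) (H : Subgroup G) (N : Subgroup ↥H) :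
    pCoreIn p (N.map H.subtype) = (pCoreIn p N).map H.subtype := by
  let e : ↥N ≃* ↥(N.map H.subtype) := N.equivMapOfInjective H.subtype (Subgroup.subtype_injective H)
  unfold pCoreIn
  rw [← Cfsg.Agent.Lib.Helper97.pCore_map_equiv e p, Subgroup.map_map, Subgroup.map_map]
  congr 1

/-- normalizer of the image under `H.subtype`. -/
theorem map_subtype_normalizer {G : Type*} [Group G] (H : Subgroup G) (R : Subgroup ↥H) :
    (Subgroup.normalizer (R : Set ↥H)).map H.subtype =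
      Subgroup.normalizer ((R.map H.subtype : Subgroup G) : Set G) ⊓ H := by
  apply le_antisymm
  · exact le_inf (Subgroup.le_normalizer_map _) (Subgroup.map_subtype_le _)
  · intro x hx
    obtain ⟨hxn, hxH⟩ := Subgroup.mem_inf.mp hx
    refine ⟨⟨x, hxH⟩, ?_, rfl⟩
    rw [Subgroup.mem_normalizer_iff] at hxn
    show (⟨x, hxH⟩ : H) ∈ Subgroup.normalizer (R : Set ↥H)
    rw [Subgroup.mem_normalizer_iff]
    intro h
    have h1 := hxn (h : G)
    have e1 : ((h : G) ∈ R.map H.subtype) ↔ h ∈ R :=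
      Subgroup.mem_map_iff_mem (Subgroup.subtype_injective H) (x := h)
    have e2 : (x * (h : G) * x⁻¹ ∈ R.map H.subtype) ↔ (⟨x, hxH⟩ : H) * h * (⟨x, hxH⟩ : H)⁻¹ ∈ R :=
      Subgroup.mem_map_iff_mem (Subgroup.subtype_injective H) (x := (⟨x, hxH⟩ : H) * h * (⟨x, hxH⟩ : H)⁻¹)
    rw [← e1, ← e2]
    exact h1

/-- Let p be a prime, G a finite group of parabolic characteristic p (every p-local subgroup containing a Sylow p-subgroup of G has characteristic p), S a Sylow p-subgroup of G and G₁ a subnormal subgroup of G. If the centre of S ∩ G₁ is nontrivial and contained in the centre of S, then G₁ has parabolic characteristic p. -/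
theorem result {G : Type*} [Group G] [Finite G] {p : ℕ} [Fact p.Prime] (hG : Cfsg.IsOfParabolicCharacteristic p G) (S : Sylow p G) (G₁ : Subgroup G) (hsn : G₁.IsSubnormal) (hne : ((S : Subgroup G) ⊓ G₁) ⊓ Subgroup.centralizer (((S : Subgroup G) ⊓ G₁ : Subgroup G) : Set G) ≠ ⊥) (hle : ((S : Subgroup G) ⊓ G₁) ⊓ Subgroup.centralizer (((S : Subgroup G) ⊓ G₁ : Subgroup G) : Set G) ≤ (S : Subgroup G) ⊓ Subgroup.centralizer ((S : Subgroup G) : Set G)) : Cfsg.IsOfParabolicCharacteristic p ↥G₁ := by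
  intro R' hR'p hR'ne hpar
  obtain ⟨T, hT⟩ := hpar
  -- reformulate the goal
  show CharP p (Subgroup.normalizer (R' : Set ↥G₁))
  set N₁ := Subgroup.normalizer (R' : Set ↥G₁) with hN₁
  -- the Sylow subgroup `S ⊓ G₁` and the conjugating element
  obtain ⟨P₁, hP₁⟩ := exists_sylow_eq_subgroupOf_of_isSubnormal S hsn
  obtain ⟨y, hy⟩ := MulAction.exists_smul_eq ↥G₁ P₁ T
  have hTmem : ∀ t : ↥G₁, t ∈ (T : Subgroup ↥G₁) ↔ (y : G)⁻¹ * t * y ∈ (S : Subgroup G) := by
    intro t
    rw [← hy, Cfsg.Agent.Lib.Helper34.mem_sylow_smul_iff, hP₁, Subgroup.mem_subgroupOf]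
    simp
  set T' := (T : Subgroup ↥G₁).map G₁.subtype with hT'
  set R := R'.map G₁.subtype with hR
  have hT'G : T' ≤ G₁ := Subgroup.map_subtype_le _
  have hT'mem : ∀ t : G, t ∈ T' ↔ t ∈ G₁ ∧ (y : G)⁻¹ * t * y ∈ (S : Subgroup G) := by
    intro t
    constructor
    · rintro ⟨t', ht', rfl⟩
      exact ⟨t'.2, (hTmem t').mp ht'⟩
    · rintro ⟨h1, h2⟩
      exact ⟨⟨t, h1⟩, (hTmem ⟨t, h1⟩).mpr h2, rfl⟩
  have hmain : CharP p (Subgroup.normalizer (R : Set G) ⊓ G₁) := by
    apply charP_normalizer_inf_of_parabolic (fun R hRp hRne hT => hG R hRp hRne hT)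
      ((y : G) • S) G₁ hsn T' hT'G (T.2.map _)
    · -- maximality
      intro P hPp hTP hPG
      apply le_antisymm _ hTP
      have h1 : IsPGroup p (P.subgroupOf G₁) := hPp.comap_subtype
      have h2 : (T : Subgroup ↥G₁) ≤ P.subgroupOf G₁ := by
        intro t ht
        rw [Subgroup.mem_subgroupOf]
        exact hTP ⟨t, ht, rfl⟩
      have h3 := T.is_maximal' h1 h2
      intro x hx
      have : (⟨x, hPG hx⟩ : G₁) ∈ P.subgroupOf G₁ := Subgroup.mem_subgroupOf.mpr hx
      rw [h3] at this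
      exact ⟨_, this, rfl⟩
    · -- the centre condition
      intro z hz hzc s hs
      rw [Cfsg.Agent.Lib.Helper34.mem_sylow_smul_iff] at hs
      obtain ⟨hzG, hzS⟩ := (hT'mem z).mp hz
      set z₀ := (y : G)⁻¹ * z * y with hz₀
      have hz₀G : z₀ ∈ G₁ := G₁.mul_mem (G₁.mul_mem (G₁.inv_mem y.2) hzG) y.2
      have hz₀Z : z₀ ∈ ((S : Subgroup G) ⊓ G₁) ⊓
          Subgroup.centralizer (((S : Subgroup G) ⊓ G₁ : Subgroup G) : Set G) := by
        rw [Subgroup.mem_inf, Subgroup.mem_inf]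
        refine ⟨⟨hzS, hz₀G⟩, ?_⟩
        rw [Subgroup.mem_centralizer_iff]
        intro s₀ hs₀
        obtain ⟨hs₀S, hs₀G⟩ := Subgroup.mem_inf.mp hs₀
        have h1 : (y : G) * s₀ * (y : G)⁻¹ ∈ T' := by
          rw [hT'mem]
          refine ⟨G₁.mul_mem (G₁.mul_mem y.2 hs₀G) (G₁.inv_mem y.2), ?_⟩
          have : (y : G)⁻¹ * ((y : G) * s₀ * (y : G)⁻¹) * y = s₀ := by group
          rw [this]; exact hs₀S
        have h2 := hzc _ h1
        calc s₀ * z₀ = (y : G)⁻¹ * ((y : G) * s₀ * (y : G)⁻¹ * z) * y := by rw [hz₀]; group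
          _ = (y : G)⁻¹ * (z * ((y : G) * s₀ * (y : G)⁻¹)) * y := by rw [h2]
          _ = z₀ * s₀ := by rw [hz₀]; group
      have hz₀c := (Subgroup.mem_centralizer_iff.mp (hle hz₀Z).2) _ hs
      calc s * z = (y : G) * ((y : G)⁻¹ * s * y * z₀) * (y : G)⁻¹ := by rw [hz₀]; group
        _ = (y : G) * (z₀ * ((y : G)⁻¹ * s * y)) * (y : G)⁻¹ := by rw [hz₀c]
        _ = z * s := by rw [hz₀]; group
    · exact Subgroup.map_subtype_le _
    · exact hR'p.map _
    · intro h
      apply hR'ne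
      rw [hR, Subgroup.map_eq_bot_iff, Subgroup.ker_subtype] at h
      exact le_bot_iff.mp h
    · exact (Subgroup.map_mono hT).trans (Subgroup.le_normalizer_map _)
  rw [← map_subtype_normalizer] at hmain
  -- transfer back
  rw [charP_iff_forall]
  intro x hxN hxc hcop
  have h1 : (x : G) ∈ N₁.map G₁.subtype := ⟨x, hxN, rfl⟩
  have h2 : (x : G) ∈ Subgroup.centralizer ((pCoreIn p (N₁.map G₁.subtype) : Subgroup G) : Set G) := by
    rw [pCoreIn_map_subtype, Subgroup.mem_centralizer_iff]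
    rintro _ ⟨q, hq, rfl⟩
    have := (Subgroup.mem_centralizer_iff.mp hxc) q hq
    exact congrArg Subtype.val this
  have h3 : (orderOf (x : G)).Coprime p := by rwa [Subgroup.orderOf_coe]
  have := (charP_iff_forall.mp hmain) (x : G) h1 h2 h3
  exact Subtype.ext this

end Cfsg.Agent.S3023
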