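import Cfsg.Statements.S3025
import Cfsg.Agent.S0016
import Cfsg.Agent.Lib.Helper55.Cores2
import Mathlib.GroupTheory.SpecificGroups.Cyclic
import Mathlib.RingTheory.IntegralDomain

set_option autoImplicit false
open Cfsg

namespace Cfsg.Agent.S3025

section main

variable {F : Type*} [Group F] [Finite F] (H : Subgroup F) (hH : H ≠ ⊥)
  (hmin : ∀ R : Subgroup F, R ≠ ⊥ → H ≤ Subgroup.normalizer (R : Set F) → H ≤ R)

/-- the unique minimal normal subgroup -/
def minNormal (F : Type*) [Group F] : Subgroup F := sInf {M : Subgroup F | M.Normal ∧ M ≠ ⊥}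

theorem minNormal_normal : (minNormal F).Normal := by
  constructor
  intro n hn g
  rw [minNormal, Subgroup.mem_sInf] at hn ⊢
  intro M hM
  exact hM.1.conj_mem n (hn M hM) g

theorem minNormal_le (M : Subgroup F) (hM : M.Normal) (hM1 : M ≠ ⊥) : minNormal F ≤ M :=
  sInf_le ⟨hM, hM1⟩

include hmin in
theorem le_minNormal : H ≤ minNormal F := by
  apply le_sInf
  rintro M ⟨hMn, hM1⟩
  apply hmin M hM1
  rw [Subgroup.normalizer_eq_top_iff.mpr hMn]
  exact le_top

include hH hmin in
theorem minNormal_ne_bot : minNormal F ≠ ⊥ := by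
  intro h
  have := le_minNormal H hmin
  rw [h, le_bot_iff] at this
  exact hH this

theorem mem_conj_iff'' (K : Subgroup F) (g x : F) :
    x ∈ K.map (MulAut.conj g).toMonoidHom ↔ g⁻¹ * x * g ∈ K := by
  constructor
  · rintro ⟨y, hy, rfl⟩
    simpa [mul_assoc] using hy
  · intro h
    exact ⟨g⁻¹ * x * g, h, by simp [mul_assoc]⟩

include hH hmin in
/-- a minimal nontrivial subgroup of `N` normalized by `N` is `N` -/
theorem eq_minNormal_of_minimal (T : Subgroup F)
    (hT : Minimal (fun T : Subgroup F => T ≤ minNormal F ∧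
      minNormal F ≤ Subgroup.normalizer (T : Set F) ∧ T ≠ ⊥) T) : T = minNormal F := by
  obtain ⟨⟨hTN, hNT, hT1⟩, hle⟩ := hT
  have hNn : (minNormal F).Normal := minNormal_normal
  have hHN := le_minNormal H hmin
  have hconj : ∀ f : F, T ≤ T.map (MulAut.conj f).toMonoidHom := by
    intro f
    set T' := T.map (MulAut.conj f).toMonoidHom with hT'
    have hT'N : T' ≤ minNormal F := by
      rintro _ ⟨t, ht, rfl⟩
      exact hNn.conj_mem t (hTN ht) f
    have hNT' : minNormal F ≤ Subgroup.normalizer (T' : Set F) := by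
      intro e he
      have he' : f⁻¹ * e * f ∈ minNormal F := by
        have := hNn.conj_mem e he f⁻¹
        simpa using this
      have hn := Subgroup.mem_normalizer_iff.mp (hNT he')
      rw [Subgroup.mem_normalizer_iff]
      intro t
      rw [hT', mem_conj_iff'', mem_conj_iff'', hn (f⁻¹ * t * f)]
      have : f⁻¹ * e * f * (f⁻¹ * t * f) * (f⁻¹ * e * f)⁻¹ = f⁻¹ * (e * t * e⁻¹) * f := by group
      rw [this]
    have hHT : H ≤ T := hmin T hT1 (hHN.trans hNT)
    have hHT' : H ≤ T' := by
      apply hmin T'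
      · intro h
        apply hT1
        rw [hT'] at h
        exact (Subgroup.map_eq_bot_iff_of_injective _ (MulAut.conj f).injective).mp h
      · exact hHN.trans hNT'
    have h1 : T ≤ T ⊓ T' := by
      apply hle
      refine ⟨inf_le_left.trans hTN, ?_, ?_⟩
      · intro e he
        rw [Subgroup.mem_normalizer_iff]
        intro t
        rw [Subgroup.mem_inf, Subgroup.mem_inf,
          Subgroup.mem_normalizer_iff.mp (hNT he) t, Subgroup.mem_normalizer_iff.mp (hNT' he) t]
      · intro h
        have : H ≤ T ⊓ T' := le_inf hHT hHT'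
        rw [h, le_bot_iff] at this
        exact hH this
      · exact inf_le_left
    exact h1.trans inf_le_right
  have hTn : T.Normal := by
    constructor
    intro t ht f
    have := hconj f⁻¹ ht
    rw [mem_conj_iff''] at this
    simpa using this
  exact le_antisymm hTN (minNormal_le T hTn hT1)

include hH hmin in
theorem isSimpleGroup_minNormal : IsSimpleGroup ↥(minNormal F) := by
  have hnt : Nontrivial ↥(minNormal F) :=
    (Subgroup.nontrivial_iff_ne_bot _).mpr (minNormal_ne_bot H hH hmin)
  refine ⟨fun S' hS' => ?_⟩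
  by_cases hb : S' = ⊥
  · exact Or.inl hb
  right
  have hSD : S'.map (minNormal F).subtype ≤ minNormal F := Subgroup.map_subtype_le S'
  have hDS : minNormal F ≤ Subgroup.normalizer (S'.map (minNormal F).subtype : Set F) := by
    intro e he
    rw [Subgroup.mem_normalizer_iff]
    intro t
    constructor
    · rintro ⟨t', ht', rfl⟩
      exact ⟨⟨e, he⟩ * t' * ⟨e, he⟩⁻¹, hS'.conj_mem t' ht' _, by simp⟩
    · rintro ⟨t', ht', htt⟩
      refine ⟨⟨e, he⟩⁻¹ * t' * ⟨e, he⟩, ?_, ?_⟩
      · have := hS'.conj_mem t' ht' ⟨e, he⟩⁻¹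
        simpa using this
      · simp only [Subgroup.subtype_apply] at htt
        simp only [Subgroup.subtype_apply, Subgroup.coe_mul, Subgroup.coe_inv, htt]
        group
  have hSne : S'.map (minNormal F).subtype ≠ ⊥ := by
    intro h
    apply hb
    rwa [Subgroup.map_eq_bot_iff_of_injective _ (minNormal F).subtype_injective] at h
  obtain ⟨T₀, hT₀le, hT₀⟩ := Finite.exists_le_minimal
    (p := fun T : Subgroup F => T ≤ minNormal F ∧
      minNormal F ≤ Subgroup.normalizer (T : Set F) ∧ T ≠ ⊥) ⟨hSD, hDS, hSne⟩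
  have hT₀N := eq_minNormal_of_minimal H hH hmin T₀ hT₀
  have hSeq : S'.map (minNormal F).subtype = minNormal F :=
    le_antisymm hSD (hT₀N ▸ hT₀le)
  rw [eq_top_iff]
  intro t _
  have : (t : F) ∈ S'.map (minNormal F).subtype := by
    rw [hSeq]; exact t.2
  obtain ⟨t', ht', htt⟩ := this
  have : t' = t := Subtype.ext htt
  exact this ▸ ht'

end main

section abelian

variable {F : Type*} [Group F] [Finite F]

/-- structure of `F` over a normal subgroup `N` of prime order: `F / C_F(N)` is cyclic of order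
dividing `p - 1` -/
theorem quotient_centralizer_of_prime (N : Subgroup F) [hNn : N.Normal] (hp : (Nat.card N).Prime) :
    (∃ g : F, Subgroup.centralizer (N : Set F) ⊔ Subgroup.zpowers g = ⊤) ∧
      (Subgroup.centralizer (N : Set F)).index ∣ Nat.card N - 1 := by
  have hpF : Fact (Nat.card N).Prime := ⟨hp⟩
  have hcycN : IsCyclic ↥N := isCyclic_of_prime_card rfl
  set φ : F →* MulAut ↥N := MulAut.conjNormal with hφ
  have hker : φ.ker = Subgroup.centralizer (N : Set F) :=
    Cfsg.Agent.Lib.Helper55.ker_conjNormal' N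
  have hcycA : IsCyclic (MulAut ↥N) :=
    (MulEquiv.isCyclic (IsCyclic.mulAutMulEquiv ↥N)).mpr inferInstance
  have hcycR : IsCyclic ↥φ.range := Subgroup.isCyclic _
  constructor
  · obtain ⟨⟨_, g, rfl⟩, hgen⟩ := hcycR.exists_generator
    refine ⟨g, ?_⟩
    rw [eq_top_iff]
    intro f _
    have h1 := hgen ⟨φ f, f, rfl⟩
    obtain ⟨k, hk⟩ := Subgroup.mem_zpowers_iff.mp h1
    have hk' : φ g ^ k = φ f := by
      have := congrArg Subtype.val hk
      simpa using this
    have h2 : f * (g ^ k)⁻¹ ∈ φ.ker := by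
      rw [MonoidHom.mem_ker, map_mul, map_inv, map_zpow, hk', mul_inv_cancel]
    rw [hker] at h2
    have h3 : f = (f * (g ^ k)⁻¹) * g ^ k := by group
    rw [h3]
    exact Subgroup.mul_mem _ ((le_sup_left : Subgroup.centralizer (N : Set F) ≤ _) h2)
      ((le_sup_right : Subgroup.zpowers g ≤ _) (Subgroup.zpow_mem _ (Subgroup.mem_zpowers g) k))
  · rw [← hker, Subgroup.index_ker]
    have h1 : Nat.card ↥φ.range ∣ Nat.card (MulAut ↥N) := Subgroup.card_subgroup_dvd_card _
    rw [IsCyclic.card_mulAut, Nat.totient_prime hp] at h1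
    exact h1

end abelian

/-- Let F be a finite group and H a nontrivial subgroup of F that is contained in every nontrivial subgroup of F which H normalizes. Then F has a nontrivial normal subgroup N contained in every nontrivial normal subgroup of F (a unique minimal normal subgroup), N is simple, and one of the following holds: C_F(N) = 1; or H = N has prime order p, C_F(N) is cyclic of order a power of p, and F/C_F(N) is cyclic of order dividing p − 1; or H = N has order 2, N is central in F, and F is a generalized quaternion group. -/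
theorem result {F : Type*} [Group F] [Finite F] (H : Subgroup F) (hH : H ≠ ⊥)
    (hmin : ∀ R : Subgroup F, R ≠ ⊥ → H ≤ Subgroup.normalizer (R : Set F) → H ≤ R) :
    ∃ N : Subgroup F, N.Normal ∧ N ≠ ⊥ ∧ (∀ M : Subgroup F, M.Normal → M ≠ ⊥ → N ≤ M) ∧ IsSimpleGroup ↥N ∧
      (Subgroup.centralizer (N : Set F) = ⊥ ∨
       (H = N ∧ (Nat.card N).Prime ∧ IsCyclic ↥(Subgroup.centralizer (N : Set F)) ∧
          (∃ k : ℕ, 1 ≤ k ∧ Nat.card ↥(Subgroup.centralizer (N : Set F)) = Nat.card N ^ k) ∧
          (∃ g : F, Subgroup.centralizer (N : Set F) ⊔ Subgroup.zpowers g = ⊤) ∧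
          (Subgroup.centralizer (N : Set F)).index ∣ Nat.card N - 1) ∨
       (H = N ∧ Nat.card N = 2 ∧ Subgroup.centralizer (N : Set F) = ⊤ ∧
          ∃ k : ℕ, 1 ≤ k ∧ Nonempty (F ≃* QuaternionGroup (2 ^ k)))) := by
  classical
  set N := minNormal F with hN
  have hNn : N.Normal := minNormal_normal
  have hN1 : N ≠ ⊥ := minNormal_ne_bot H hH hmin
  have hHN : H ≤ N := le_minNormal H hmin
  have hsimple : IsSimpleGroup ↥N := isSimpleGroup_minNormal H hH hmin
  refine ⟨N, hNn, hN1, fun M hM hM1 => minNormal_le M hM hM1, hsimple, ?_⟩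
  by_cases hC : Subgroup.centralizer (N : Set F) = ⊥
  · exact Or.inl hC
  right
  set C := Subgroup.centralizer (N : Set F) with hCdef
  have hCn : C.Normal := Subgroup.normal_centralizer
  have hNC : N ≤ C := minNormal_le C hCn hC
  -- `N` is abelian, hence of prime order
  have hNcomm : ∀ a b : ↥N, a * b = b * a := by
    intro a b
    apply Subtype.ext
    have := Subgroup.mem_centralizer_iff.mp (hNC b.2) a a.2
    simpa using this
  let _ : CommGroup ↥N := { (inferInstance : Group ↥N) with mul_comm := hNcomm }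
  have hp : (Nat.card N).Prime := IsSimpleGroup.prime_card
  have hpF : Fact (Nat.card N).Prime := ⟨hp⟩
  set p := Nat.card N with hpdef
  -- `H = N`
  have hHeq : H = N := by
    apply Subgroup.eq_of_le_of_card_ge hHN
    have h1 : Nat.card H ∣ p := Subgroup.card_dvd_of_le hHN
    rcases (Nat.dvd_prime hp).mp h1 with h2 | h2
    · exact absurd (Subgroup.card_eq_one.mp h2) hH
    · exact h2.ge
  -- every nontrivial subgroup of `C` contains `N`
  have hsub : ∀ R : Subgroup F, R ≤ C → R ≠ ⊥ → N ≤ R := by
    intro R hRC hR1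
    rw [← hHeq]
    apply hmin R hR1
    rw [hHeq]
    intro n hn
    rw [Subgroup.mem_normalizer_iff]
    intro r
    have hcomm : ∀ r' ∈ R, n * r' * n⁻¹ = r' := by
      intro r' hr'
      have := Subgroup.mem_centralizer_iff.mp (hRC hr') n hn
      rw [this]; group
    constructor
    · intro hr
      rw [hcomm r hr]; exact hr
    · intro hr
      have h1 := hcomm _ hr
      have h2 : r = n⁻¹ * (n * r * n⁻¹) * n := by group
      have h3 : n⁻¹ * (n * r * n⁻¹) * n = n * r * n⁻¹ := by
        conv_lhs => rw [← h1]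
        group
      rw [h2, h3]; exact hr
  -- `C` is a `p`-group
  have hCcard : ∃ k : ℕ, 1 ≤ k ∧ Nat.card C = p ^ k := by
    have hne : Nat.card C ≠ 0 := Nat.card_pos.ne'
    have huniq : ∀ {d : ℕ}, d.Prime → d ∣ Nat.card C → d = p := by
      intro d hd hdvd
      have : Fact d.Prime := ⟨hd⟩
      obtain ⟨c, hc⟩ := exists_prime_orderOf_dvd_card' d hdvd
      have hc1 : Subgroup.zpowers (c : F) ≠ ⊥ := by
        intro h
        have h1 : (c : F) = 1 := by
          have : (c : F) ∈ Subgroup.zpowers (c : F) := Subgroup.mem_zpowers _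
          rwa [h, Subgroup.mem_bot] at this
        have h2 : orderOf (c : F) = d := by rw [Subgroup.orderOf_coe]; exact hc
        rw [h1, orderOf_one] at h2
        exact hd.one_lt.ne h2
      have h3 := hsub (Subgroup.zpowers (c : F)) ((Subgroup.zpowers_le).mpr c.2) hc1
      have h4 : p ∣ Nat.card (Subgroup.zpowers (c : F)) := Subgroup.card_dvd_of_le h3
      rw [Nat.card_zpowers, Subgroup.orderOf_coe, hc] at h4
      exact ((Nat.prime_dvd_prime_iff_eq hp hd).mp h4).symm
    have h1 := Nat.eq_prime_pow_of_unique_prime_dvd hne huniq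
    refine ⟨_, ?_, h1⟩
    by_contra hk
    have hk0 : (Nat.card C).primeFactorsList.length = 0 := by omega
    rw [hk0, pow_zero] at h1
    exact hC (Subgroup.card_eq_one.mp h1)
  obtain ⟨k, hk1, hCk⟩ := hCcard
  have hCp : IsPGroup p ↥C := IsPGroup.of_card hCk
  have huniqC : ∀ H' K' : Subgroup ↥C, Nat.card H' = p → Nat.card K' = p → H' = K' := by
    have key : ∀ H' : Subgroup ↥C, Nat.card H' = p → H' = N.subgroupOf C := by
      intro H' hH'
      symm
      apply Subgroup.eq_of_le_of_card_ge
      · have h1 : H'.map C.subtype ≠ ⊥ := by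
          intro h
          rw [Subgroup.map_eq_bot_iff_of_injective _ C.subtype_injective] at h
          rw [h, Subgroup.card_bot] at hH'
          exact hp.one_lt.ne hH'
        have h2 := hsub (H'.map C.subtype) (Subgroup.map_subtype_le H') h1
        intro x hx
        obtain ⟨x', hx', hxx⟩ := h2 (Subgroup.mem_subgroupOf.mp hx)
        have : x' = x := Subtype.ext hxx
        exact this ▸ hx'
      · rw [hH']
        exact (Nat.card_congr (Subgroup.subgroupOfEquivOfLe hNC).toEquiv).ge
    intro H' K' hH' hK'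
    rw [key H' hH', key K' hK']
  have hquot := quotient_centralizer_of_prime N hp
  have hcase_b : IsCyclic ↥C → (H = N ∧ (Nat.card N).Prime ∧ IsCyclic ↥(Subgroup.centralizer (N : Set F)) ∧
          (∃ k : ℕ, 1 ≤ k ∧ Nat.card ↥(Subgroup.centralizer (N : Set F)) = Nat.card N ^ k) ∧
          (∃ g : F, Subgroup.centralizer (N : Set F) ⊔ Subgroup.zpowers g = ⊤) ∧
          (Subgroup.centralizer (N : Set F)).index ∣ Nat.card N - 1) := fun hcyc =>
    ⟨hHeq, hp, hcyc, ⟨k, hk1, hCk⟩, hquot.1, hquot.2⟩
  rcases Cfsg.Agent.S0016.result p hCp huniqC with hcyc | ⟨hp2, n, ⟨e⟩⟩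
  · exact Or.inl (hcase_b hcyc)
  · rcases Nat.eq_zero_or_pos n with hn | hn
    · left
      apply hcase_b
      rw [hn, pow_zero] at e
      exact (MulEquiv.isCyclic e).mpr QuaternionGroup.quaternionGroup_one_isCyclic
    · right
      have hidx : C.index = 1 := by
        have := hquot.2
        rw [← hCdef, ← hpdef, hp2] at this
        exact Nat.dvd_one.mp this
      have hCtop : C = ⊤ := Subgroup.index_eq_one.mp hidx
      refine ⟨hHeq, hp2, hCtop, n, hn, ⟨?_⟩⟩
      exact (Subgroup.topEquiv.symm.trans (MulEquiv.subgroupCongr hCtop.symm)).trans e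

end Cfsg.Agent.S3025
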