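import Cfsg.Statements.S3027
import Mathlib.Order.SupClosed
import Mathlib.GroupTheory.QuotientGroup.Basic
import Mathlib.GroupTheory.Index
-- import your own Cfsg.Agent.* helpers here

set_option autoImplicit false
open Cfsg

namespace Cfsg.Agent.S3027

universe u

variable {G : Type u} [Group G]

/-- the normal supplements of `D` -/
def normalSupps (D : Subgroup G) : Set (Subgroup G) := {N | N.Normal ∧ N ⊔ D = ⊤}

/-- the intersection of all normal supplements of `D` -/
def minSupp (D : Subgroup G) : Subgroup G := sInf (normalSupps D)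

theorem sup_eq_top_iff_map (D : Subgroup G) [D.Normal] (H : Subgroup G) :
    H ⊔ D = ⊤ ↔ H.map (QuotientGroup.mk' D) = ⊤ := by
  constructor
  · intro h
    have := congrArg (Subgroup.map (QuotientGroup.mk' D)) h
    rw [Subgroup.map_sup, Subgroup.map_top_of_surjective _ (QuotientGroup.mk'_surjective D)] at this
    have hD : D.map (QuotientGroup.mk' D) = ⊥ := by
      rw [eq_bot_iff]
      rintro _ ⟨d, hd, rfl⟩
      exact Subgroup.mem_bot.mpr ((QuotientGroup.eq_one_iff d).mpr hd)
    rwa [hD, sup_bot_eq] at this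
  · intro h
    have := congrArg (Subgroup.comap (QuotientGroup.mk' D)) h
    rwa [Subgroup.comap_map_eq, QuotientGroup.ker_mk', Subgroup.comap_top] at this

theorem commutator_supp (D : Subgroup G) [D.Normal]
    (hperf : ⁅(⊤ : Subgroup G), (⊤ : Subgroup G)⁆ ⊔ D = ⊤) (H₁ H₂ : Subgroup G)
    (h₁ : H₁ ⊔ D = ⊤) (h₂ : H₂ ⊔ D = ⊤) : ⁅H₁, H₂⁆ ⊔ D = ⊤ := by
  rw [sup_eq_top_iff_map] at hperf h₁ h₂ ⊢
  rw [Subgroup.map_commutator] at hperf ⊢
  rw [h₁, h₂]
  rwa [Subgroup.map_top_of_surjective _ (QuotientGroup.mk'_surjective D)] at hperf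

theorem inf_mem_normalSupps (D : Subgroup G) [D.Normal]
    (hperf : ⁅(⊤ : Subgroup G), (⊤ : Subgroup G)⁆ ⊔ D = ⊤) (N₁ N₂ : Subgroup G)
    (h₁ : N₁ ∈ normalSupps D) (h₂ : N₂ ∈ normalSupps D) : N₁ ⊓ N₂ ∈ normalSupps D := by
  obtain ⟨hn₁, hs₁⟩ := h₁
  obtain ⟨hn₂, hs₂⟩ := h₂
  refine ⟨inferInstance, ?_⟩
  rw [eq_top_iff, ← commutator_supp D hperf N₁ N₂ hs₁ hs₂]
  exact sup_le_sup_right (Subgroup.commutator_le_inf N₁ N₂) D

theorem minSupp_mem [Finite G] (D : Subgroup G) [D.Normal]
    (hperf : ⁅(⊤ : Subgroup G), (⊤ : Subgroup G)⁆ ⊔ D = ⊤) : minSupp D ∈ normalSupps D := by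
  have hcl : InfClosed (normalSupps D) := fun a ha b hb => inf_mem_normalSupps D hperf a b ha hb
  have hne : (normalSupps D).Nonempty := ⟨⊤, inferInstance, top_sup_eq D⟩
  exact hcl.sInf_mem_of_nonempty (Set.toFinite _) hne (fun _ h => h)

theorem minSupp_le (D : Subgroup G) (N : Subgroup G) (hN : N ∈ normalSupps D) : minSupp D ≤ N :=
  sInf_le hN

/-- Dedekind-type descent of a supplement to a subgroup `K` containing it. -/
theorem subgroupOf_sup_eq_top (D K H : Subgroup G) [D.Normal] (hHK : H ≤ K) (h : H ⊔ D = ⊤) :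
    H.subgroupOf K ⊔ D.subgroupOf K = ⊤ := by
  rw [eq_top_iff]
  intro k _
  have hk : (k : G) ∈ H ⊔ D := by rw [h]; exact Subgroup.mem_top _
  rw [Subgroup.mem_sup_of_normal_right] at hk
  obtain ⟨y, hy, z, hz, hyz⟩ := hk
  have hzK : z ∈ K := by
    have : z = y⁻¹ * k := by rw [← hyz]; group
    rw [this]
    exact K.mul_mem (K.inv_mem (hHK hy)) k.2
  have : k = (⟨y, hHK hy⟩ : K) * ⟨z, hzK⟩ := Subtype.ext hyz.symm
  rw [this]
  exact Subgroup.mul_mem_sup (Subgroup.mem_subgroupOf.mpr hy) (Subgroup.mem_subgroupOf.mpr hz)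

theorem main : ∀ (n : ℕ) (G : Type u) [Group G] [Finite G], Nat.card G = n →
    ∀ (D : Subgroup G) [D.Normal], ⁅(⊤ : Subgroup G), (⊤ : Subgroup G)⁆ ⊔ D = ⊤ →
    ∀ B' : Subgroup G, B'.IsSubnormal → B' ⊔ D = ⊤ → minSupp D ≤ B' := by
  intro n
  induction n using Nat.strong_induction_on with
  | _ n ih =>
    intro G _ _ hcard D _ hperf B' hsn hB'
    rcases hsn.lt_normal with rfl | ⟨K, hKn, hB'K, hKlt⟩
    · exact le_top
    have hKD : K ⊔ D = ⊤ := by
      rw [eq_top_iff, ← hB']; exact sup_le_sup_right hB'K D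
    have hcardK : Nat.card K < n := by
      rw [← hcard]
      have hne : K ≠ ⊤ := hKlt.ne
      have := Subgroup.card_mul_index K
      have h1 : 1 < K.index := Subgroup.one_lt_index_of_ne_top hne
      have hpos : 0 < Nat.card K := Nat.card_pos
      nlinarith
    -- perfectness in `K`
    have hperfK : ⁅(⊤ : Subgroup K), (⊤ : Subgroup K)⁆ ⊔ D.subgroupOf K = ⊤ := by
      have h1 := commutator_supp D hperf K K hKD hKD
      have h2 : ⁅K, K⁆ ≤ K := Subgroup.commutator_le_left K K
      have h3 := subgroupOf_sup_eq_top D K ⁅K, K⁆ h2 h1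
      have h4 : (⁅K, K⁆ : Subgroup G).subgroupOf K = ⁅(⊤ : Subgroup K), (⊤ : Subgroup K)⁆ := by
        apply Subgroup.map_injective K.subtype_injective
        rw [Subgroup.map_commutator, Subgroup.subgroupOf_map_subtype, inf_eq_left.mpr h2,
          ← MonoidHom.range_eq_map, Subgroup.range_subtype]
      rwa [h4] at h3
    have hB'1 := subgroupOf_sup_eq_top D K B' hB'K hB'
    have hIH := ih (Nat.card K) hcardK K rfl (D.subgroupOf K) hperfK (B'.subgroupOf K)
      hsn.subgroupOf hB'1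
    have hmem := minSupp_mem (D.subgroupOf K) hperfK
    set B₁ := minSupp (D.subgroupOf K) with hB₁
    obtain ⟨hB₁n, hB₁s⟩ := hmem
    -- `B₁↑ ≤ B'`
    have hle : B₁.map K.subtype ≤ B' := by
      rw [Subgroup.map_le_iff_le_comap]; exact hIH
    refine le_trans (minSupp_le D _ ⟨?_, ?_⟩) hle
    · -- normality of `B₁↑` in `G`
      rw [Subgroup.normal_iff_map_conj_eq]
      intro g
      have hconjK : ∀ x ∈ K, g * x * g⁻¹ ∈ K := fun x hx => hKn.conj_mem x hx g
      have hconjK' : ∀ x ∈ K, g⁻¹ * x * g ∈ K := fun x hx => by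
        have := hKn.conj_mem x hx g⁻¹
        simpa using this
      have hNgK : (B₁.map K.subtype).map (MulAut.conj g).toMonoidHom ≤ K := by
        rintro _ ⟨_, ⟨b, _, rfl⟩, rfl⟩
        exact hconjK _ b.2
      have hmemNg : ((B₁.map K.subtype).map (MulAut.conj g).toMonoidHom).subgroupOf K ∈
          normalSupps (D.subgroupOf K) := by
        refine ⟨⟨?_⟩, ?_⟩
        · intro x hx k
          rw [Subgroup.mem_subgroupOf] at hx ⊢
          obtain ⟨_, ⟨b, hb, rfl⟩, hbx⟩ := hx
          have hk' : g⁻¹ * (k : G) * g ∈ K := hconjK' _ k.2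
          have hb' := hB₁n.conj_mem b hb ⟨g⁻¹ * (k : G) * g, hk'⟩
          refine ⟨_, ⟨_, hb', rfl⟩, ?_⟩
          simp only [Subgroup.coe_mul, Subgroup.coe_inv, MulEquiv.coe_toMonoidHom,
            MulAut.conj_apply, Subgroup.subtype_apply] at hbx ⊢
          rw [← hbx]; group
        · rw [eq_top_iff]
          intro k _
          have hk' : g⁻¹ * (k : G) * g ∈ K := hconjK' _ k.2
          have : (⟨g⁻¹ * (k : G) * g, hk'⟩ : K) ∈ B₁ ⊔ D.subgroupOf K := by
            rw [hB₁s]; exact Subgroup.mem_top _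
          rw [Subgroup.mem_sup_of_normal_right] at this
          obtain ⟨y, hy, z, hz, hyz⟩ := this
          have hyz' : (y : G) * (z : G) = g⁻¹ * (k : G) * g := congrArg Subtype.val hyz
          have hk : k = (⟨g * (y : G) * g⁻¹, hconjK _ y.2⟩ : K) * ⟨g * (z : G) * g⁻¹, hconjK _ z.2⟩ := by
            apply Subtype.ext
            simp only [Subgroup.coe_mul]
            calc (k : G) = g * (g⁻¹ * (k : G) * g) * g⁻¹ := by group
              _ = g * ((y : G) * (z : G)) * g⁻¹ := by rw [hyz']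
              _ = g * (y : G) * g⁻¹ * (g * (z : G) * g⁻¹) := by group
          rw [hk]
          apply Subgroup.mul_mem_sup
          · rw [Subgroup.mem_subgroupOf]
            exact ⟨_, ⟨y, hy, rfl⟩, rfl⟩
          · rw [Subgroup.mem_subgroupOf] at hz ⊢
            exact (inferInstance : D.Normal).conj_mem _ hz g
      have h1 := minSupp_le (D.subgroupOf K) _ hmemNg
      have h2 : B₁.map K.subtype ≤ (B₁.map K.subtype).map (MulAut.conj g).toMonoidHom := by
        rw [Subgroup.map_le_iff_le_comap]; exact h1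
      have hcard2 : Nat.card ((B₁.map K.subtype).map (MulAut.conj g).toMonoidHom) =
          Nat.card (B₁.map K.subtype) := Subgroup.card_map_of_injective (MulAut.conj g).injective
      exact (Subgroup.eq_of_le_of_card_ge h2 hcard2.le).symm
    · -- `B₁↑` supplements `D`
      have h1 := congrArg (Subgroup.map K.subtype) hB₁s
      rw [Subgroup.map_sup, Subgroup.subgroupOf_map_subtype, ← MonoidHom.range_eq_map,
        Subgroup.range_subtype] at h1
      rw [eq_top_iff, ← hKD]
      apply sup_le _ le_sup_right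
      calc K = Subgroup.map K.subtype B₁ ⊔ D ⊓ K := h1.symm
        _ ≤ Subgroup.map K.subtype B₁ ⊔ D := sup_le_sup_left inf_le_left _

/-- Let G be a finite group and D a normal subgroup of G such that G/D is perfect (that is, G = G′D). Then among the subnormal subgroups B of G with BD = G there is a least one, and it is normal in G. -/
theorem result {G : Type*} [Group G] [Finite G] (D : Subgroup G) [D.Normal] (hperf : ⁅(⊤ : Subgroup G), (⊤ : Subgroup G)⁆ ⊔ D = ⊤) :
    ∃ B : Subgroup G, B.Normal ∧ B ⊔ D = ⊤ ∧ ∀ B' : Subgroup G, B'.IsSubnormal → B' ⊔ D = ⊤ → B ≤ B' := by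
  obtain ⟨hn, hs⟩ := minSupp_mem D hperf
  exact ⟨minSupp D, hn, hs, fun B' hsn hB' => main _ G rfl D hperf B' hsn hB'⟩

end Cfsg.Agent.S3027
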