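import Cfsg.Statements.S3035
import Cfsg.Agent.Lib.Helper4.D8Main
import Cfsg.Agent.Lib.Helper4.D8Simple
import Cfsg.Agent.Lib.Helper4.D8Fusion
import Cfsg.Agent.Lib.Helper4.D8Index2
import Cfsg.Agent.Lib.Helper4.D8S4
import Cfsg.Agent.Lib.Helper4.D8S5
import Cfsg.Agent.Lib.Helper53.PSL32Multiplier
import Cfsg.Agent.S0848
import Cfsg.Agent.S0495
import Cfsg.Agent.S0497

set_option autoImplicit false
open Cfsg

namespace Cfsg.Agent.S3035

open Cfsg.Agent.Lib.Helper4.D8

/-- `PSL₂(7) ≅ SL₃(2)`. -/
theorem psl27_equiv_sl32 :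
    Nonempty (Matrix.ProjectiveSpecialLinearGroup (Fin 2) (ZMod 7) ≃*
      Matrix.SpecialLinearGroup (Fin 3) (ZMod 2)) := by
  obtain ⟨φ, ⟨hsurj, hcen, -⟩, hcard⟩ := Cfsg.Agent.Lib.Helper53.SL32.exists_stem_SL27
  haveI : Finite (Matrix.SpecialLinearGroup (Fin 2) (ZMod 7)) :=
    Nat.finite_of_card_ne_zero (by rw [Cfsg.Agent.Lib.Helper53.SL32.card_SL27]; norm_num)
  have heq : φ.ker = Subgroup.center (Matrix.SpecialLinearGroup (Fin 2) (ZMod 7)) := by
    apply Subgroup.eq_of_le_of_card_ge hcen
    rw [hcard, Cfsg.Agent.Lib.Helper53.SL32.card_center_SL27]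
  exact ⟨(QuotientGroup.quotientMulEquivOfEq heq.symm).trans
    (QuotientGroup.quotientKerEquivOfSurjective φ hsurj)⟩

/-- the non-isolated case, after possibly swapping `b` and `b a`. -/
theorem main_of_isConj {G : Type*} [Group G] [Finite G] {t a b : G} (H : Hyp t a b)
    (hconj : IsConj t b) :
    Nonempty (G ≃* Equiv.Perm (Fin 4)) ∨ Nonempty (G ≃* Equiv.Perm (Fin 5)) ∨
      Nonempty (G ≃* Matrix.SpecialLinearGroup (Fin 3) (ZMod 2)) ∨
      Nonempty (G ≃* ↥(alternatingGroup (Fin 6))) := by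
  classical
  by_cases hno : ∀ M : Subgroup G, M.index ≠ 2
  · have hperf := H.perfect hno
    have hsimple : IsSimpleGroup G := H.isSimpleGroup hno
    have : Fintype G := Fintype.ofFinite G
    rcases main H hperf with h | h
    · right; right; left
      haveI : Fact (Nat.Prime 7) := ⟨by norm_num⟩
      obtain ⟨e1⟩ := Cfsg.Agent.S0495.result h (ZMod.card 7)
      obtain ⟨e2⟩ := psl27_equiv_sl32
      exact ⟨e1.trans e2⟩
    · right; right; right
      exact Cfsg.Agent.S0497.result h
  · push_neg at hno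
    obtain ⟨M, hM⟩ := hno
    rcases H.card_of_index_two hconj hM with h | h
    · left
      exact H.equiv_perm_four hconj hM h
    · right; left
      exact H.equiv_perm_five hconj hM h

/-- Let G be a finite group with an involution z whose centralizer is dihedral of order 8. Then G = C_G(z) O(G) with O(G) the largest normal subgroup of odd order, or G is isomorphic to the symmetric group of degree 4, the symmetric group of degree 5, the group SL₃(2), or the alternating group of degree 6. -/
theorem result {G : Type*} [Group G] [Finite G] (z : G) (hz : orderOf z = 2)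
    (hC : Nonempty (↥(Subgroup.centralizer ({z} : Set G)) ≃* DihedralGroup 4)) :
    Subgroup.centralizer ({z} : Set G) ⊔ Cfsg.oddCore G = ⊤ ∨ Nonempty (G ≃* Equiv.Perm (Fin 4)) ∨ Nonempty (G ≃* Equiv.Perm (Fin 5)) ∨
      Nonempty (G ≃* Matrix.SpecialLinearGroup (Fin 3) (ZMod 2)) ∨ Nonempty (G ≃* ↥(alternatingGroup (Fin 6))) := by
  obtain ⟨e⟩ := hC
  have H := Cfsg.Agent.S0848.hyp_of_equiv z hz e
  by_cases hiso : ∀ g : G, g * z * g⁻¹ ∈ Subgroup.centralizer ({z} : Set G) → g * z * g⁻¹ = z
  · left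
    exact H.sup_oddCore_of_isolated hiso
  · right
    push_neg at hiso
    obtain ⟨g, hg, hne⟩ := hiso
    rcases H.isConj_of_not_isolated hg hne with h | h
    · exact main_of_isConj H h
    · exact main_of_isConj H.swap h

end Cfsg.Agent.S3035
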