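import Cfsg.Statements.S3036
import Mathlib
-- import your own Cfsg.Agent.* helpers here

set_option autoImplicit false
open Cfsg

namespace Cfsg.Agent.S3036

open Subgroup

/-- `|X| = |Y : X ⊓ Y|⁻¹...`: the relative index times the intersection. -/
theorem relIndex_mul_card_inf {G : Type*} [Group G] (X Y : Subgroup G) :
    Y.relIndex X * Nat.card ↥(X ⊓ Y) = Nat.card X := by
  have := relIndex_mul_relIndex (⊥ : Subgroup G) (X ⊓ Y) X bot_le inf_le_left
  rw [relIndex_bot_left, relIndex_bot_left] at this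
  rw [inf_comm] at this
  rw [inf_relIndex_right, mul_comm] at this
  rw [inf_comm]
  exact this

theorem relIndex_mul_card_of_le {G : Type*} [Group G] (Y Z : Subgroup G) (hY : Y ≤ Z) :
    Y.relIndex Z * Nat.card Y = Nat.card Z := by
  have := relIndex_mul_relIndex (⊥ : Subgroup G) Y Z bot_le hY
  rw [relIndex_bot_left, relIndex_bot_left, mul_comm] at this
  exact this

/-- Product inequality. -/
theorem card_mul_le {G : Type*} [Group G] [Finite G] (X Y Z : Subgroup G)
    (hX : X ≤ Z) (hY : Y ≤ Z) :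
    Nat.card X * Nat.card Y ≤ Nat.card ↥(X ⊓ Y) * Nat.card Z := by
  have h1 : Y.relIndex X ≤ Y.relIndex Z :=
    relIndex_le_of_le_right hX index_ne_zero_of_finite
  have h2 := relIndex_mul_card_inf X Y
  have h3 := relIndex_mul_card_of_le Y Z hY
  calc Nat.card X * Nat.card Y = Y.relIndex X * Nat.card ↥(X ⊓ Y) * Nat.card Y := by rw [h2]
    _ ≤ Y.relIndex Z * Nat.card ↥(X ⊓ Y) * Nat.card Y := by gcongr
    _ = Nat.card ↥(X ⊓ Y) * (Y.relIndex Z * Nat.card Y) := by ring
    _ = Nat.card ↥(X ⊓ Y) * Nat.card Z := by rw [h3]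

/-- Equality in the product inequality forces `Z = X * Y` as sets. -/
theorem exists_mul_of_card_eq {G : Type*} [Group G] [Finite G] (X Y Z : Subgroup G)
    (hX : X ≤ Z) (hY : Y ≤ Z)
    (h : Nat.card X * Nat.card Y = Nat.card ↥(X ⊓ Y) * Nat.card Z) :
    ∀ z ∈ Z, ∃ x ∈ X, ∃ y ∈ Y, z = x * y := by
  have h2 := relIndex_mul_card_inf X Y
  have h3 := relIndex_mul_card_of_le Y Z hY
  have hpos1 : 0 < Nat.card ↥(X ⊓ Y) := Nat.card_pos
  have hpos2 : 0 < Nat.card Y := Nat.card_pos
  have heq : Y.relIndex Z = Y.relIndex X := by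
    have : Y.relIndex Z * (Nat.card ↥(X ⊓ Y) * Nat.card Y) =
        Y.relIndex X * (Nat.card ↥(X ⊓ Y) * Nat.card Y) := by
      calc Y.relIndex Z * (Nat.card ↥(X ⊓ Y) * Nat.card Y)
          = Nat.card ↥(X ⊓ Y) * (Y.relIndex Z * Nat.card Y) := by ring
        _ = Nat.card ↥(X ⊓ Y) * Nat.card Z := by rw [h3]
        _ = Nat.card X * Nat.card Y := h.symm
        _ = Y.relIndex X * Nat.card ↥(X ⊓ Y) * Nat.card Y := by rw [h2]
        _ = Y.relIndex X * (Nat.card ↥(X ⊓ Y) * Nat.card Y) := by ring
    exact Nat.eq_of_mul_eq_mul_right (Nat.mul_pos hpos1 hpos2) this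
  have hbij : Function.Bijective (Subgroup.quotientSubgroupOfEmbeddingOfLE Y hX) := by
    apply Function.Injective.bijective_of_nat_card_le
    · exact (Subgroup.quotientSubgroupOfEmbeddingOfLE Y hX).injective
    · change Y.relIndex Z ≤ Y.relIndex X
      exact heq.le
  intro z hz
  obtain ⟨q, hq⟩ := hbij.2 (QuotientGroup.mk (⟨z, hz⟩ : Z))
  induction q using QuotientGroup.induction_on with
  | H x =>
    rw [Subgroup.quotientSubgroupOfEmbeddingOfLE_apply_mk, QuotientGroup.eq] at hq
    refine ⟨x.1, x.2, (x.1)⁻¹ * z, ?_, by group⟩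
    have := mem_subgroupOf.mp hq
    simpa using this

/-- The Chermak–Delgado measure. -/
noncomputable def cdm {G : Type*} [Group G] (H : Subgroup G) : ℕ :=
  Nat.card H * Nat.card ↥(centralizer (H : Set G))

theorem centralizer_sup_ge {G : Type*} [Group G] (H K : Subgroup G) :
    centralizer (H : Set G) ⊓ centralizer (K : Set G) ≤ centralizer ((H ⊔ K : Subgroup G) : Set G) := by
  rw [sup_eq_closure, centralizer_closure]
  intro x hx
  rw [mem_centralizer_iff]
  rintro h (hh | hh)
  · exact mem_centralizer_iff.mp hx.1 h hh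
  · exact mem_centralizer_iff.mp hx.2 h hh

/-- The Chermak–Delgado inequality, in detailed form. -/
theorem cd_ineq {G : Type*} [Group G] [Finite G] (H K : Subgroup G) :
    Nat.card H * Nat.card K ≤ Nat.card ↥(H ⊓ K) * Nat.card ↥(H ⊔ K) ∧
    Nat.card ↥(centralizer (H : Set G)) * Nat.card ↥(centralizer (K : Set G)) ≤
      Nat.card ↥(centralizer ((H ⊔ K : Subgroup G) : Set G)) *
        Nat.card ↥(centralizer ((H ⊓ K : Subgroup G) : Set G)) := by
  constructor
  · exact card_mul_le H K (H ⊔ K) le_sup_left le_sup_right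
  · have h1 := card_mul_le (centralizer (H : Set G)) (centralizer (K : Set G))
      (centralizer ((H ⊓ K : Subgroup G) : Set G))
      (centralizer_le (by exact_mod_cast (inf_le_left : H ⊓ K ≤ H)))
      (centralizer_le (by exact_mod_cast (inf_le_right : H ⊓ K ≤ K)))
    have h2 : Nat.card ↥(centralizer (H : Set G) ⊓ centralizer (K : Set G)) ≤
        Nat.card ↥(centralizer ((H ⊔ K : Subgroup G) : Set G)) :=
      Nat.card_mono (Set.toFinite _) (centralizer_sup_ge H K)
    calc _ ≤ _ := h1
      _ ≤ _ := by gcongr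

/-- Conjugation does not decrease the measure. -/
theorem cdm_conj_ge {G : Type*} [Group G] [Finite G] (H : Subgroup G) (g : G) :
    cdm H ≤ cdm (H.map (MulAut.conj g).toMonoidHom) := by
  unfold cdm
  have h1 : Nat.card ↥(H.map (MulAut.conj g).toMonoidHom) = Nat.card H :=
    Nat.card_congr (H.equivMapOfInjective _ (MulAut.conj g).injective).symm.toEquiv
  have h2 : Nat.card ↥(centralizer (H : Set G)) ≤
      Nat.card ↥(centralizer ((H.map (MulAut.conj g).toMonoidHom : Subgroup G) : Set G)) := by
    have h3 : Nat.card ↥((centralizer (H : Set G)).map (MulAut.conj g).toMonoidHom) =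
        Nat.card ↥(centralizer (H : Set G)) :=
      Nat.card_congr ((centralizer (H : Set G)).equivMapOfInjective _
        (MulAut.conj g).injective).symm.toEquiv
    rw [← h3]
    apply Nat.card_mono (Set.toFinite _)
    have := map_centralizer_le_centralizer_image (H : Set G) (MulAut.conj g).toMonoidHom
    rw [coe_map]
    exact this
  rw [h1]
  gcongr

/-- Let G be a finite non-abelian simple group and A a proper nontrivial subgroup of G. Then |G| > |A| · |C_G(A)|. In particular |G| > |A|² for every nontrivial abelian subgroup A of G. -/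
theorem result {G : Type*} [Group G] [Finite G] [IsSimpleGroup G] (hG : ¬ IsMulCommutative G) (A : Subgroup G) (hA1 : A ≠ ⊥) (hA2 : A ≠ ⊤) : Nat.card A * Nat.card ↥(Subgroup.centralizer (A : Set G)) < Nat.card G := by
  by_contra hcon
  rw [not_lt] at hcon
  -- the centre is trivial
  have hcenter : center G = ⊥ := by
    rcases (inferInstance : (center G).Normal).eq_bot_or_eq_top with h | h
    · exact h
    · exfalso
      apply hG
      refine ⟨⟨fun a b => ?_⟩⟩
      have : b ∈ center G := by rw [h]; trivial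
      exact (mem_center_iff.mp this a)
  have hmtop : cdm (⊤ : Subgroup G) = Nat.card G := by
    unfold cdm
    rw [coe_top, centralizer_univ, hcenter, card_top, card_bot, mul_one]
  have hmbot : cdm (⊥ : Subgroup G) = Nat.card G := by
    unfold cdm
    have : centralizer ((⊥ : Subgroup G) : Set G) = ⊤ := by
      rw [centralizer_eq_top_iff_subset]
      intro x hx
      rw [SetLike.mem_coe, mem_bot] at hx
      rw [hx]
      exact (center G).one_mem
    rw [this, card_top, card_bot, one_mul]
  -- a subgroup of maximal measure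
  obtain ⟨H₀, hH₀⟩ := Finite.exists_max (fun H : Subgroup G => cdm H)
  -- the set of proper nontrivial subgroups of maximal measure is nonempty
  have hne : ∃ H : Subgroup G, H ≠ ⊥ ∧ H ≠ ⊤ ∧ cdm H = cdm H₀ := by
    by_cases hlt : Nat.card G < cdm H₀
    · refine ⟨H₀, ?_, ?_, rfl⟩
      · intro h; rw [h, hmbot] at hlt; exact lt_irrefl _ hlt
      · intro h; rw [h, hmtop] at hlt; exact lt_irrefl _ hlt
    · rw [not_lt] at hlt
      refine ⟨A, hA1, hA2, le_antisymm (hH₀ A) (hlt.trans hcon)⟩
  -- choose one of maximal order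
  let 𝒮 := {H : Subgroup G // H ≠ ⊥ ∧ H ≠ ⊤ ∧ cdm H = cdm H₀}
  have : Nonempty 𝒮 := by
    obtain ⟨H, hH⟩ := hne
    exact ⟨⟨H, hH⟩⟩
  obtain ⟨⟨H, hHb, hHt, hHm⟩, hHmax⟩ := Finite.exists_max (fun H : 𝒮 => Nat.card (H.1))
  have hMpos : 0 < cdm H₀ := by
    have := hH₀ ⊥
    rw [hmbot] at this
    exact lt_of_lt_of_le Nat.card_pos this
  -- H is normal
  have hnormal : H.Normal := by
    constructor
    intro h hh g
    set K := H.map (MulAut.conj g).toMonoidHom with hK
    have hKm : cdm K = cdm H₀ := le_antisymm (hH₀ K) (hHm ▸ cdm_conj_ge H g)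
    have hhK : g * h * g⁻¹ ∈ K := ⟨h, hh, rfl⟩
    obtain ⟨hc1, hc2⟩ := cd_ineq H K
    have hsup := hH₀ (H ⊔ K)
    have hinf := hH₀ (H ⊓ K)
    have hprod : cdm H * cdm K ≤ cdm (H ⊔ K) * cdm (H ⊓ K) := by
      unfold cdm
      calc Nat.card H * Nat.card ↥(centralizer (H : Set G)) *
            (Nat.card K * Nat.card ↥(centralizer (K : Set G)))
          = (Nat.card H * Nat.card K) *
            (Nat.card ↥(centralizer (H : Set G)) * Nat.card ↥(centralizer (K : Set G))) := by ring
        _ ≤ (Nat.card ↥(H ⊓ K) * Nat.card ↥(H ⊔ K)) *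
            (Nat.card ↥(centralizer ((H ⊔ K : Subgroup G) : Set G)) *
              Nat.card ↥(centralizer ((H ⊓ K : Subgroup G) : Set G))) := by gcongr
        _ = _ := by ring
    rw [hHm, hKm] at hprod
    -- both factors equal the maximum
    have hsupeq : cdm (H ⊔ K) = cdm H₀ := by
      by_contra hne'
      have hlt : cdm (H ⊔ K) < cdm H₀ := lt_of_le_of_ne hsup hne'
      have : cdm (H ⊔ K) * cdm (H ⊓ K) < cdm H₀ * cdm H₀ :=
        Nat.mul_lt_mul_of_lt_of_le hlt hinf hMpos
      exact absurd hprod (not_le.mpr this)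
    have hinfeq : cdm (H ⊓ K) = cdm H₀ := by
      by_contra hne'
      have hlt : cdm (H ⊓ K) < cdm H₀ := lt_of_le_of_ne hinf hne'
      have : cdm (H ⊔ K) * cdm (H ⊓ K) < cdm H₀ * cdm H₀ :=
        Nat.mul_lt_mul_of_le_of_lt hsup hlt hMpos
      exact absurd hprod (not_le.mpr this)
    -- equality in the first inequality
    have hcardeq : Nat.card H * Nat.card K = Nat.card ↥(H ⊓ K) * Nat.card ↥(H ⊔ K) := by
      by_contra hne'
      have hlt : Nat.card H * Nat.card K < Nat.card ↥(H ⊓ K) * Nat.card ↥(H ⊔ K) :=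
        lt_of_le_of_ne hc1 hne'
      have hpos : 0 < Nat.card ↥(centralizer (H : Set G)) * Nat.card ↥(centralizer (K : Set G)) :=
        Nat.mul_pos Nat.card_pos Nat.card_pos
      have : cdm H * cdm K < cdm (H ⊔ K) * cdm (H ⊓ K) := by
        unfold cdm
        calc Nat.card H * Nat.card ↥(centralizer (H : Set G)) *
              (Nat.card K * Nat.card ↥(centralizer (K : Set G)))
            = (Nat.card H * Nat.card K) *
              (Nat.card ↥(centralizer (H : Set G)) * Nat.card ↥(centralizer (K : Set G))) := by ring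
          _ < (Nat.card ↥(H ⊓ K) * Nat.card ↥(H ⊔ K)) *
              (Nat.card ↥(centralizer (H : Set G)) * Nat.card ↥(centralizer (K : Set G))) :=
              Nat.mul_lt_mul_of_lt_of_le hlt le_rfl hpos
          _ ≤ (Nat.card ↥(H ⊓ K) * Nat.card ↥(H ⊔ K)) *
              (Nat.card ↥(centralizer ((H ⊔ K : Subgroup G) : Set G)) *
                Nat.card ↥(centralizer ((H ⊓ K : Subgroup G) : Set G))) := by gcongr
          _ = _ := by ring
      rw [hHm, hKm, hsupeq, hinfeq] at this
      exact lt_irrefl _ this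
    have hsupne : H ⊔ K ≠ ⊥ := by
      intro h0
      apply hHb
      rw [eq_bot_iff, ← h0]
      exact le_sup_left
    by_cases hsuptop : H ⊔ K = ⊤
    · -- then G = K * H, which forces g ∈ H
      have hcardeq' : Nat.card K * Nat.card H = Nat.card ↥(K ⊓ H) * Nat.card ↥(⊤ : Subgroup G) := by
        rw [mul_comm, hcardeq, hsuptop, inf_comm]
      obtain ⟨x, hx, y, hy, hxy⟩ := exists_mul_of_card_eq K H ⊤ le_top le_top hcardeq' g (mem_top g)
      obtain ⟨h', hh', rfl⟩ := hx
      have hxy' : g = g * h' * g⁻¹ * y := by simpa using hxy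
      have h3 : g * (h' * g⁻¹ * y) = g * 1 := by
        rw [mul_one, ← mul_assoc, ← mul_assoc]; exact hxy'.symm
      have h4 : h' * g⁻¹ * y = 1 := mul_left_cancel h3
      have hg : g = y * h' := by
        calc g = y * (h' * g⁻¹ * y)⁻¹ * h' := by group
          _ = y * h' := by rw [h4, inv_one, mul_one]
      have hgH : g ∈ H := hg ▸ H.mul_mem hy hh'
      exact H.mul_mem (H.mul_mem hgH hh) (H.inv_mem hgH)
    · have hle := hHmax ⟨H ⊔ K, hsupne, hsuptop, hsupeq⟩
      have heq : H = H ⊔ K := eq_of_le_of_card_ge le_sup_left hle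
      have hKH : K ≤ H := by
        rw [heq]; exact le_sup_right
      exact hKH hhK
  rcases hnormal.eq_bot_or_eq_top with h | h
  · exact hHb h
  · exact hHt h

end Cfsg.Agent.S3036
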