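import Cfsg.Statements.S3037
import Cfsg.Agent.S3036
-- import your own Cfsg.Agent.* helpers here

set_option autoImplicit false
open Cfsg

namespace Cfsg.Agent.S3037

open Subgroup

variable {X : Type*} [Group X]

/-- The measure `|B|^α · |C_V(B)|`. -/
noncomputable def f (V : Subgroup X) (α : ℝ) (B : Subgroup X) : ℝ :=
  (Nat.card B : ℝ) ^ α * (Nat.card ↥(V ⊓ centralizer (B : Set X)) : ℝ)

theorem f_bot (V : Subgroup X) (α : ℝ) : f V α ⊥ = (Nat.card V : ℝ) := by
  unfold f
  have : centralizer ((⊥ : Subgroup X) : Set X) = ⊤ := by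
    rw [centralizer_eq_top_iff_subset]
    intro x hx
    rw [SetLike.mem_coe, mem_bot] at hx
    rw [hx]
    exact (center X).one_mem
  rw [this, inf_top_eq, card_bot]
  simp

theorem f_pos [Finite X] (V : Subgroup X) (α : ℝ) (B : Subgroup X) : 0 < f V α B := by
  unfold f
  have h1 : (0 : ℝ) < (Nat.card B : ℝ) := by exact_mod_cast Nat.card_pos
  have h2 : (0 : ℝ) < (Nat.card ↥(V ⊓ centralizer (B : Set X)) : ℝ) := by exact_mod_cast Nat.card_pos
  exact mul_pos (Real.rpow_pos_of_pos h1 α) h2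

/-- Conjugating by an element normalizing `V` does not decrease the measure. -/
theorem f_conj_ge [Finite X] (V : Subgroup X) (α : ℝ) (hα : 0 < α) (B : Subgroup X) (g : X)
    (hg : g ∈ normalizer (V : Set X)) :
    f V α B ≤ f V α (B.map (MulAut.conj g).toMonoidHom) := by
  unfold f
  have h1 : Nat.card ↥(B.map (MulAut.conj g).toMonoidHom) = Nat.card B :=
    Nat.card_congr (B.equivMapOfInjective _ (MulAut.conj g).injective).symm.toEquiv
  have h2 : Nat.card ↥(V ⊓ centralizer (B : Set X)) ≤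
      Nat.card ↥(V ⊓ centralizer ((B.map (MulAut.conj g).toMonoidHom : Subgroup X) : Set X)) := by
    have h3 : Nat.card ↥((V ⊓ centralizer (B : Set X)).map (MulAut.conj g).toMonoidHom) =
        Nat.card ↥(V ⊓ centralizer (B : Set X)) :=
      Nat.card_congr ((V ⊓ centralizer (B : Set X)).equivMapOfInjective _
        (MulAut.conj g).injective).symm.toEquiv
    rw [← h3]
    apply Nat.card_mono (Set.toFinite _)
    rintro _ ⟨x, ⟨hxV, hxC⟩, rfl⟩
    refine ⟨?_, ?_⟩
    · change (MulAut.conj g).toMonoidHom x ∈ V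
      simp only [MulEquiv.coe_toMonoidHom, MulAut.conj_apply]
      exact (mem_normalizer_iff.mp hg x).mp hxV
    · change _ ∈ centralizer _
      rw [mem_centralizer_iff]
      rintro _ ⟨b, hb, rfl⟩
      have hxC' : x ∈ centralizer (B : Set X) := hxC
      have := mem_centralizer_iff.mp hxC' b hb
      simp only [MulEquiv.coe_toMonoidHom, MulAut.conj_apply]
      calc g * b * g⁻¹ * (g * x * g⁻¹) = g * (b * x) * g⁻¹ := by group
        _ = g * (x * b) * g⁻¹ := by rw [this]
        _ = g * x * g⁻¹ * (g * b * g⁻¹) := by group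
  rw [h1]
  have h4 : (Nat.card ↥(V ⊓ centralizer (B : Set X)) : ℝ) ≤
      (Nat.card ↥(V ⊓ centralizer ((B.map (MulAut.conj g).toMonoidHom : Subgroup X) : Set X)) : ℝ) := by
    exact_mod_cast h2
  have h5 : (0 : ℝ) ≤ (Nat.card B : ℝ) ^ α := Real.rpow_nonneg (Nat.cast_nonneg _) α
  exact mul_le_mul_of_nonneg_left h4 h5

/-- The real-arithmetic core of the inductive step. -/
theorem arith (α : ℝ) (hα : 0 < α) (v h a b h' w w' ca cb : ℝ)
    (hh : 0 < h) (ha : 0 < a) (hb : 0 < b) (hh' : 0 < h') (hw : 0 < w) (hw' : 0 < w')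
    (hca : 0 < ca) (hcb : 0 < cb) (hv : 0 < v)
    (h1 : v ≤ h ^ α * w) (h2 : h * a ≤ b * h') (h3 : w * ca ≤ w' * cb)
    (h4 : b ^ α * cb ≤ a ^ α * ca) : v ≤ h' ^ α * w' := by
  have e1 : (h * a) ^ α ≤ (b * h') ^ α := Real.rpow_le_rpow (by positivity) h2 hα.le
  rw [Real.mul_rpow hh.le ha.le, Real.mul_rpow hb.le hh'.le] at e1
  have hbα : 0 < b ^ α := Real.rpow_pos_of_pos hb α
  have haα : 0 < a ^ α := Real.rpow_pos_of_pos ha α
  have hhα : 0 < h ^ α := Real.rpow_pos_of_pos hh α
  have hh'α : 0 < h' ^ α := Real.rpow_pos_of_pos hh' α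
  have e2 : v * (b ^ α * cb) ≤ (h ^ α * w) * (a ^ α * ca) :=
    mul_le_mul h1 h4 (by positivity) (by positivity)
  have e3 : (h ^ α * w) * (a ^ α * ca) = (h ^ α * a ^ α) * (w * ca) := by ring
  have e4 : (h ^ α * a ^ α) * (w * ca) ≤ (b ^ α * h' ^ α) * (w' * cb) :=
    mul_le_mul e1 h3 (by positivity) (by positivity)
  have e5 : v * (b ^ α * cb) ≤ (h' ^ α * w') * (b ^ α * cb) := by
    calc v * (b ^ α * cb) ≤ (h ^ α * a ^ α) * (w * ca) := by rw [← e3]; exact e2
      _ ≤ (b ^ α * h' ^ α) * (w' * cb) := e4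
      _ = (h' ^ α * w') * (b ^ α * cb) := by ring
  exact le_of_mul_le_mul_right e5 (by positivity)

/-- Let V and G be subgroups of a finite group with V an elementary abelian p-group (p prime) on which G acts faithfully and irreducibly by conjugation: G normalizes V, G ∩ C(V) = 1, and the only subgroups of V normalized by G are 1 and V. If for some nontrivial subgroup A of G and some real α > 0 one has |V| ≤ |A|^α · |C_V(A)|, then |V| ≤ |G|^α. -/
theorem result {X : Type*} [Group X] [Finite X] {p : ℕ} [Fact p.Prime] (V G : Subgroup X) (hV : Cfsg.IsElementaryAbelian p V)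
    (hGV : G ≤ Subgroup.normalizer (V : Set X)) (hfaith : G ⊓ Subgroup.centralizer (V : Set X) = ⊥)
    (hirr : ∀ W : Subgroup X, W ≤ V → G ≤ Subgroup.normalizer (W : Set X) → W = ⊥ ∨ W = V)
    (A : Subgroup X) (hA : A ≤ G) (hA1 : A ≠ ⊥) (α : ℝ) (hα : 0 < α)
    (hbig : (Nat.card V : ℝ) ≤ (Nat.card A : ℝ) ^ α * (Nat.card ↥(V ⊓ Subgroup.centralizer (A : Set X)) : ℝ)) :
    (Nat.card V : ℝ) ≤ (Nat.card G : ℝ) ^ α := by
  classical
  -- a maximizer of the measure among nontrivial subgroups of `G`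
  have hne : Nonempty {B : Subgroup X // B ≤ G ∧ B ≠ ⊥} := ⟨⟨A, hA, hA1⟩⟩
  obtain ⟨⟨A₀, hA₀G, hA₀1⟩, hmax⟩ :=
    Finite.exists_max (fun B : {B : Subgroup X // B ≤ G ∧ B ≠ ⊥} => f V α B.1)
  have hVM : (Nat.card V : ℝ) ≤ f V α A₀ := hbig.trans (hmax ⟨A, hA, hA1⟩)
  have hall : ∀ B : Subgroup X, B ≤ G → f V α B ≤ f V α A₀ := by
    intro B hB
    by_cases hB1 : B = ⊥
    · rw [hB1, f_bot]; exact hVM
    · exact hmax ⟨B, hB, hB1⟩
  -- the family of maximizers is closed under conjugation by `G`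
  have hconj : ∀ B : Subgroup X, B ≤ G → B ≠ ⊥ → f V α B = f V α A₀ → ∀ g ∈ G,
      (B.map (MulAut.conj g).toMonoidHom ≤ G ∧ B.map (MulAut.conj g).toMonoidHom ≠ ⊥ ∧
        f V α (B.map (MulAut.conj g).toMonoidHom) = f V α A₀) := by
    intro B hB hB1 hBM g hg
    have h1 : B.map (MulAut.conj g).toMonoidHom ≤ G := by
      rintro _ ⟨b, hb, rfl⟩
      simp only [MulEquiv.coe_toMonoidHom, MulAut.conj_apply]
      exact G.mul_mem (G.mul_mem hg (hB hb)) (G.inv_mem hg)
    refine ⟨h1, ?_, ?_⟩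
    · intro h
      apply hB1
      exact (map_eq_bot_iff_of_injective B (MulAut.conj g).injective).mp h
    · apply le_antisymm (hall _ h1)
      rw [← hBM]
      exact f_conj_ge V α hα B g (hGV hg)
  -- some maximizer does not centralize a given nontrivial subgroup of `V`
  have hex : ∀ W : Subgroup X, W ≤ V → W ≠ ⊥ → ∃ A' : Subgroup X, A' ≤ G ∧ A' ≠ ⊥ ∧
      f V α A' = f V α A₀ ∧ ¬ W ≤ centralizer (A' : Set X) := by
    intro W hWV hW1
    by_contra hno
    have hno' : ∀ A' : Subgroup X, A' ≤ G → A' ≠ ⊥ → f V α A' = f V α A₀ →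
        W ≤ centralizer (A' : Set X) := by
      intro A' h1 h2 h3
      by_contra h4
      exact hno ⟨A', h1, h2, h3, h4⟩
    let W₀ : Subgroup X := V ⊓ ⨅ (A' : {A' : Subgroup X // A' ≤ G ∧ A' ≠ ⊥ ∧ f V α A' = f V α A₀}),
      centralizer ((A'.1 : Subgroup X) : Set X)
    have hWW₀ : W ≤ W₀ := le_inf hWV (le_iInf fun A' => hno' A'.1 A'.2.1 A'.2.2.1 A'.2.2.2)
    have hkey : ∀ g ∈ G, ∀ x ∈ W₀, g * x * g⁻¹ ∈ W₀ := by
      intro g hg x hx
      obtain ⟨hxV, hxC⟩ := mem_inf.mp hx
      refine mem_inf.mpr ⟨(mem_normalizer_iff.mp (hGV hg) x).mp hxV, ?_⟩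
      rw [mem_iInf] at hxC ⊢
      rintro ⟨A', hA'G, hA'1, hA'M⟩
      obtain ⟨k1, k2, k3⟩ := hconj A' hA'G hA'1 hA'M g⁻¹ (G.inv_mem hg)
      have h5 := hxC ⟨_, k1, k2, k3⟩
      rw [mem_centralizer_iff] at h5 ⊢
      intro a ha
      have h6 := h5 ((MulAut.conj g⁻¹).toMonoidHom a) ⟨a, ha, rfl⟩
      simp only [MulEquiv.coe_toMonoidHom, MulAut.conj_apply, inv_inv] at h6
      calc a * (g * x * g⁻¹) = g * (g⁻¹ * a * g * x) * g⁻¹ := by group
        _ = g * (x * (g⁻¹ * a * g)) * g⁻¹ := by rw [h6]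
        _ = g * x * g⁻¹ * a := by group
    have hnorm : G ≤ normalizer (W₀ : Set X) := by
      intro g hg
      rw [mem_normalizer_iff]
      intro x
      constructor
      · exact hkey g hg x
      · intro hx
        have := hkey g⁻¹ (G.inv_mem hg) _ hx
        have e : g⁻¹ * (g * x * g⁻¹) * g⁻¹⁻¹ = x := by group
        rw [e] at this
        exact this
    rcases hirr W₀ inf_le_left hnorm with h | h
    · apply hW1
      rw [eq_bot_iff, ← h]
      exact hWW₀
    · apply hA₀1
      rw [eq_bot_iff, ← hfaith]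
      intro a ha
      refine mem_inf.mpr ⟨hA₀G ha, ?_⟩
      rw [mem_centralizer_iff]
      intro v hv
      have hv' : v ∈ W₀ := by rw [h]; exact hv
      have hv'' := (mem_inf.mp hv').2
      rw [mem_iInf] at hv''
      have := hv'' ⟨A₀, hA₀G, hA₀1, rfl⟩
      rw [mem_centralizer_iff] at this
      exact (this a ha).symm
  -- the main induction on the order of the fixed points
  have main : ∀ n : ℕ, ∀ H : Subgroup X, H ≤ G → Nat.card ↥(V ⊓ centralizer (H : Set X)) = n →
      (Nat.card V : ℝ) ≤ f V α H → (Nat.card V : ℝ) ≤ (Nat.card G : ℝ) ^ α := by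
    intro n
    induction n using Nat.strong_induction_on with
    | _ n ih =>
      intro H hHG hcard hf
      by_cases hW : V ⊓ centralizer (H : Set X) = ⊥
      · have h1 : Nat.card ↥(V ⊓ centralizer (H : Set X)) = 1 := by rw [hW]; exact card_bot
        unfold f at hf
        rw [h1, Nat.cast_one, mul_one] at hf
        refine hf.trans (Real.rpow_le_rpow (Nat.cast_nonneg _) ?_ hα.le)
        exact_mod_cast card_le_of_le hHG
      · obtain ⟨A', hA'G, hA'1, hA'M, hA'W⟩ := hex _ inf_le_left hW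
        have hH'G : H ⊔ A' ≤ G := sup_le hHG hA'G
        have hcle : centralizer ((H ⊔ A' : Subgroup X) : Set X) ≤ centralizer (H : Set X) :=
          centralizer_le (by exact_mod_cast (le_sup_left : H ≤ H ⊔ A'))
        have hcle' : centralizer ((H ⊔ A' : Subgroup X) : Set X) ≤ centralizer (A' : Set X) :=
          centralizer_le (by exact_mod_cast (le_sup_right : A' ≤ H ⊔ A'))
        have hlt : Nat.card ↥(V ⊓ centralizer ((H ⊔ A' : Subgroup X) : Set X)) < n := by
          rw [← hcard]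
          by_contra hge
          rw [not_lt] at hge
          have hle : V ⊓ centralizer ((H ⊔ A' : Subgroup X) : Set X) ≤ V ⊓ centralizer (H : Set X) :=
            inf_le_inf_left V hcle
          have heq := eq_of_le_of_card_ge hle hge
          apply hA'W
          rw [← heq]
          exact inf_le_right.trans hcle'
        apply ih _ hlt (H ⊔ A') hH'G rfl
        -- the arithmetic
        have c1 := S3036.card_mul_le H A' (H ⊔ A') le_sup_left le_sup_right
        have c2 := S3036.card_mul_le (V ⊓ centralizer (H : Set X)) (V ⊓ centralizer (A' : Set X))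
          (V ⊓ centralizer ((H ⊓ A' : Subgroup X) : Set X))
          (inf_le_inf_left V (centralizer_le (by exact_mod_cast (inf_le_left : H ⊓ A' ≤ H))))
          (inf_le_inf_left V (centralizer_le (by exact_mod_cast (inf_le_right : H ⊓ A' ≤ A'))))
        have c3 : Nat.card ↥((V ⊓ centralizer (H : Set X)) ⊓ (V ⊓ centralizer (A' : Set X))) ≤
            Nat.card ↥(V ⊓ centralizer ((H ⊔ A' : Subgroup X) : Set X)) := by
          apply Nat.card_mono (Set.toFinite _)
          intro x hx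
          exact ⟨hx.1.1, S3036.centralizer_sup_ge H A' ⟨hx.1.2, hx.2.2⟩⟩
        have c4 := hall (H ⊓ A') (inf_le_left.trans hHG)
        rw [← hA'M] at c4
        unfold f at hf c4 ⊢
        have pos : ∀ K : Subgroup X, (0 : ℝ) < (Nat.card K : ℝ) := fun K => by
          exact_mod_cast Nat.card_pos
        refine arith α hα _ (Nat.card H) (Nat.card A') (Nat.card ↥(H ⊓ A')) _
          (Nat.card ↥(V ⊓ centralizer (H : Set X))) _
          (Nat.card ↥(V ⊓ centralizer (A' : Set X)))
          (Nat.card ↥(V ⊓ centralizer ((H ⊓ A' : Subgroup X) : Set X)))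
          (pos _) (pos _) (pos _) (pos _) (pos _) (pos _) (pos _) (pos _) (pos _) hf ?_ ?_ c4
        · exact_mod_cast c1
        · have : Nat.card ↥(V ⊓ centralizer (H : Set X)) * Nat.card ↥(V ⊓ centralizer (A' : Set X)) ≤
              Nat.card ↥(V ⊓ centralizer ((H ⊔ A' : Subgroup X) : Set X)) *
                Nat.card ↥(V ⊓ centralizer ((H ⊓ A' : Subgroup X) : Set X)) :=
            c2.trans (Nat.mul_le_mul_right _ c3)
          exact_mod_cast this
  exact main _ ⊥ bot_le rfl (by rw [f_bot])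

end Cfsg.Agent.S3037
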