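import Cfsg.Statements.S3043
import Cfsg.Prelude.Def_LieExceptional
import Cfsg.Agent.Lib.Helper90.TIInvDefs
import Cfsg.Agent.Lib.Helper20.TIInvB1a
import Cfsg.Agent.Lib.Helper20.TIInvB2a
import Cfsg.Agent.Lib.Helper20.TIInvB2c
import Cfsg.Agent.Lib.Helper25.TIInvF1
import Cfsg.Agent.Lib.Helper25.TIInvF12
import Cfsg.Agent.Lib.Helper25.TIInvF2
import Cfsg.Agent.Lib.Helper25.TIInvF4
import Cfsg.Agent.Lib.Helper36.TIInv.ModA
import Cfsg.Agent.Lib.Helper36.TIInv.ModA6Final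
import Cfsg.Agent.Lib.Helper36.TIInv.ModF
import Cfsg.Agent.Lib.Helper42.TIInvB1c
import Cfsg.Agent.Lib.Helper42.TIInvF11
import Cfsg.Agent.Lib.Helper45.TIInvF10
import Cfsg.Agent.Lib.Helper45.TIInvF7
import Cfsg.Agent.Lib.Helper45.TIInvF8
import Cfsg.Agent.Lib.Helper45.TIInvF9
import Cfsg.Agent.Lib.Helper59.TIInvA6pgl
import Cfsg.Agent.Lib.Helper60.TIInvA2
import Cfsg.Agent.Lib.Helper60.TIInvA5a
import Cfsg.Agent.Lib.Helper60.TIInvAct
import Cfsg.Agent.Lib.Helper60.TIInvF6a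
import Cfsg.Agent.Lib.Helper75.TIInvCyc
import Cfsg.Agent.Lib.Helper75.TIInvDihedral
import Cfsg.Agent.Lib.Helper75.TIInvSL2Cyc
import Cfsg.Agent.Lib.Helper90.TIInvA5b
import Cfsg.Agent.Lib.Helper90.TIInvB0
import Cfsg.Agent.Lib.Helper90.TIInvB1b
import Cfsg.Agent.Lib.Helper90.TIInvB2b
import Cfsg.Agent.Lib.Helper90.TIInvSmall

set_option autoImplicit false
open Cfsg

namespace Cfsg.Agent.S3043

open Cfsg.Agent.Lib.Helper90.TIInv



theorem main {G : Type*} [Group G] [Finite G] (M : Subgroup G) (hM1 : M ≠ ⊥)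
    (hTI : ∀ g : G, M ⊓ M.map (MulAut.conj g).toMonoidHom ≠ ⊥ → M.map (MulAut.conj g).toMonoidHom = M)
    (z : G) (hz : orderOf z = 2) (hzN : z ∈ Subgroup.normalizer (M : Set G))
    (hfac : M ⊔ (Subgroup.normalizer (M : Set G) ⊓ Subgroup.centralizer ({z} : Set G)) = Subgroup.normalizer (M : Set G))
    (hodd : ∀ x ∈ M, x ≠ 1 → Odd (Nat.card ↥(Subgroup.centralizer ({x} : Set G)))) :
    M.Normal ∨ Nat.card {g : G // orderOf g = 2} ≤ M.index ∨ Alt3 G M ∨ Alt4 G M ∨ Alt5 G M := by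
  by_cases hn : M.Normal
  · exact Or.inl hn
  by_cases hc : Nat.card {g : G // orderOf g = 2} ≤ M.index
  · exact Or.inr (Or.inl hc)
  right; right
  have H : Hyp M z := ⟨hM1, hTI, hz, hzN, hfac, hodd, hn, not_le.mp hc⟩
  have b := Cfsg.Agent.Lib.Helper25.TIInv.basic H
  have i := Cfsg.Agent.Lib.Helper25.TIInv.invN H b
  have u := Cfsg.Agent.Lib.Helper90.TIInvSmall.uniq H
  obtain ⟨f, hlt⟩ := Cfsg.Agent.Lib.Helper25.TIInv.full H b i u
  have ic := Cfsg.Agent.Lib.Helper25.TIInv.invCount H b i u f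
  have c := Cfsg.Agent.Lib.Helper90.TIInvSmall.cover f
  have s := Cfsg.Agent.Lib.Helper90.TIInvSmall.semi f (Cfsg.Agent.Lib.Helper60.TIInv.semi_inv H b i c)
  obtain ⟨d, dc, hcm⟩ := Cfsg.Agent.Lib.Helper45.TIInv.dInv H b f c s
  have t := Cfsg.Agent.Lib.Helper45.TIInv.twoPt H b i f d dc
  have cz := Cfsg.Agent.Lib.Helper45.TIInv.czFacts H b i f c d t
  have ie := Cfsg.Agent.Lib.Helper42.TIInvF11.indexEq H b i s t
  rcases Cfsg.Agent.Lib.Helper45.TIInv.caseAB H b i cz with hA | ⟨e, hB⟩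
  · -- Case A
    left
    have hidx := Cfsg.Agent.Lib.Helper90.TIInvSmall.caseA_index b ie hA
    have r := Cfsg.Agent.Lib.Helper36.TIInv.reg s hidx
    have hf := Cfsg.Agent.Lib.Helper36.TIInv.faithful H b i s d f cz
    have ht := Cfsg.Agent.Lib.Helper60.TIInv.twoTrans H r
    have fr := Cfsg.Agent.Lib.Helper60.TIInv.frob H b i s cz r
    have ep := Cfsg.Agent.Lib.Helper36.TIInv.eps H b fr hA ie ic
    have ea := Cfsg.Agent.Lib.Helper36.TIInv.elemAb H b fr ep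
    rcases ep with hm | hm
    · exact Cfsg.Agent.Lib.Helper36.TIInv.alt3_pgl H b i s cz r fr hcm hf ht hidx hm ea
    · exact Cfsg.Agent.Lib.Helper90.TIInvA5b.alt3_psl H b cz (Cfsg.Agent.Lib.Helper60.TIInv.zassenhaus H b i s cz r fr hf ht hidx hA hm) hidx hm ea
  · -- Case B
    right
    rcases Cfsg.Agent.Lib.Helper90.TIInvB0.caseB_arith H b ie ic hB with hm | hm
    · right
      have hG := Cfsg.Agent.Lib.Helper90.TIInvSmall.caseB_card b ie hB hm
      obtain ⟨Q, hQn, hQ2, hQy⟩ := Cfsg.Agent.Lib.Helper90.TIInvB2b.caseB_Q (z := z)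
        (fun y hy hyz g => Cfsg.Agent.Lib.Helper20.TIInvB2a.caseB_pair H b i hG hm y hy hyz g)
      obtain ⟨hQc, hQN, hQN', hQe, hQa⟩ := Cfsg.Agent.Lib.Helper20.TIInvB2c.caseB_Qfacts H b i ie ic hB hm Q hQn hQ2 hQy
      have hQ1 : Q ≠ ⊥ := by
        intro h0
        rw [h0, Subgroup.card_bot] at hQc
        have : 1 < 2 ^ (2 * e) := Nat.one_lt_two_pow (by have := hB.1; omega)
        omega
      have hd := Cfsg.Agent.Lib.Helper75.TIInv.caseB_dihedral H b hB hm Q hQn hQ1 hQe hQa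
      exact ⟨e, Q, by have := hB.1; omega, hQn, ⟨hQa, hQe⟩, hQc, hQN, hQN', hd⟩
    · left
      obtain ⟨hconj, hG⟩ := Cfsg.Agent.Lib.Helper20.TIInvB1a.caseB_allConj H b ie ic hB hm
      obtain ⟨F, iF, iFt, hch, ⟨e'⟩⟩ := Cfsg.Agent.Lib.Helper90.TIInvB1b.caseB_sl2 H b hB hconj
      obtain ⟨hF, hpsl⟩ := Cfsg.Agent.Lib.Helper42.TIInvB1c.sl2_to_psl2 e' hG
      have hcyc := Cfsg.Agent.Lib.Helper75.TIInv.cyclic_of_sl2 e' M b.comm b.oddM
      exact ⟨F, iF, iFt, e + 1, by have := hB.1; omega, hF, hcyc, hm, hpsl⟩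


/-- Let M be a nontrivial subgroup of a finite group G meeting each of its other conjugates trivially, with N_G(M) = M · C_{N_G(M)}(z) for some involution z ∈ N_G(M), and with C_G(x) of odd order for every nontrivial x ∈ M. Then one of the following holds: M is normal in G; the number of involutions of G is at most |G : M|; G is isomorphic to PGL₂(F) or to PSL₂(F) for a finite field F with |F| = |M|, M is an elementary abelian p-group for the characteristic p of F, and |F| ≡ 1 (mod 4) in the PSL₂ case; G is isomorphic to PSL₂(F) with |F| = 2^e, e > 1, and M is cyclic of order 2^e + 1; or for some d ≥ 1, G has an elementary abelian normal subgroup of order 2^{2d} complemented by N_G(M), and N_G(M) is dihedral of order 2(2^d + 1). -/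
theorem result {G : Type*} [Group G] [Finite G] (M : Subgroup G) (hM1 : M ≠ ⊥)
    (hTI : ∀ g : G, M ⊓ M.map (MulAut.conj g).toMonoidHom ≠ ⊥ → M.map (MulAut.conj g).toMonoidHom = M)
    (z : G) (hz : orderOf z = 2) (hzN : z ∈ Subgroup.normalizer (M : Set G))
    (hfac : M ⊔ (Subgroup.normalizer (M : Set G) ⊓ Subgroup.centralizer ({z} : Set G)) = Subgroup.normalizer (M : Set G))
    (hodd : ∀ x ∈ M, x ≠ 1 → Odd (Nat.card ↥(Subgroup.centralizer ({x} : Set G)))) :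
    M.Normal ∨
    Nat.card {g : G // orderOf g = 2} ≤ M.index ∨
    (∃ (F : Type) (_ : Field F) (_ : Fintype F) (p : ℕ) (_ : Fact p.Prime) (_ : CharP F p), Fintype.card F = Nat.card M ∧ Cfsg.IsElementaryAbelian p M ∧
        (Nonempty (G ≃* (GL (Fin 2) F ⧸ Subgroup.center (GL (Fin 2) F))) ∨
         (Fintype.card F % 4 = 1 ∧ Nonempty (G ≃* Matrix.ProjectiveSpecialLinearGroup (Fin 2) F)))) ∨
    (∃ (F : Type) (_ : Field F) (_ : Fintype F) (e : ℕ), 1 < e ∧ Fintype.card F = 2 ^ e ∧ IsCyclic ↥M ∧ Nat.card M = 2 ^ e + 1 ∧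
        Nonempty (G ≃* Matrix.ProjectiveSpecialLinearGroup (Fin 2) F)) ∨
    (∃ (d : ℕ) (E : Subgroup G), 1 ≤ d ∧ E.Normal ∧ Cfsg.IsElementaryAbelian 2 E ∧ Nat.card E = 2 ^ (2 * d) ∧
        E ⊓ Subgroup.normalizer (M : Set G) = ⊥ ∧ E ⊔ Subgroup.normalizer (M : Set G) = ⊤ ∧
        Nonempty (↥(Subgroup.normalizer (M : Set G)) ≃* DihedralGroup (2 ^ d + 1))) :=
  main M hM1 hTI z hz hzN hfac hodd

end Cfsg.Agent.S3043
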