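import Mathlib
import Cfsg.Statements.S3048
import Cfsg.Agent.S3011
import Cfsg.Agent.S3012
import Cfsg.Agent.S0551
import Cfsg.Agent.Lib.Helper97.Cores
import Cfsg.Agent.Lib.Helper21.GenFitting

set_option autoImplicit false
universe u
open Cfsg

namespace Cfsg.Agent.S3048

open Cfsg.Agent.Lib.Helper97
open scoped Pointwise

/-! ### Basics -/

section basics

variable {G : Type u} [Group G]

/-- the minimality hypothesis on the order of the group -/
def MinG (G : Type u) [Group G] : Prop :=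
  ∀ (H : Type u) [Group H] [Finite H] (W : Subgroup H), Nat.card H < Nat.card G →
    Cfsg.IsElementaryAbelian 2 W → W ≠ ⊥ → Cfsg.IsSidkiPair W → W ⊓ Cfsg.pCore 2 H ≠ ⊥

theorem ea_comm {W : Subgroup G} (hW : IsElementaryAbelian 2 W) {a b : G} (ha : a ∈ W)
    (hb : b ∈ W) : a * b = b * a := by
  have := hW.1.is_comm.comm ⟨a, ha⟩ ⟨b, hb⟩
  exact congrArg Subtype.val this

theorem ea_sq {W : Subgroup G} (hW : IsElementaryAbelian 2 W) {a : G} (ha : a ∈ W) :
    a * a = 1 := by
  have := hW.2 a ha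
  rwa [pow_two] at this

theorem ea_inv {W : Subgroup G} (hW : IsElementaryAbelian 2 W) {a : G} (ha : a ∈ W) :
    a⁻¹ = a := inv_eq_of_mul_eq_one_right (ea_sq hW ha)

theorem ea_of_le {W W' : Subgroup G} (hW : IsElementaryAbelian 2 W) (h : W' ≤ W) :
    IsElementaryAbelian 2 W' := by
  refine ⟨⟨⟨fun a b => ?_⟩⟩, fun a ha => hW.2 a (h ha)⟩
  apply Subtype.ext
  exact ea_comm hW (h a.2) (h b.2)

theorem le_normalizer_of_conj_mem (W D : Subgroup G)
    (h : ∀ w ∈ W, ∀ d ∈ D, w * d * w⁻¹ ∈ D) : W ≤ Subgroup.normalizer (D : Set G) := by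
  intro w hw
  rw [Subgroup.mem_normalizer_iff]
  intro d
  constructor
  · intro hd
    exact h w hw d hd
  · intro hd
    have := h w⁻¹ (W.inv_mem hw) _ hd
    have e : w⁻¹ * (w * d * w⁻¹) * w⁻¹⁻¹ = d := by group
    rwa [e] at this

theorem conj_mem_of_le_normalizer {W D : Subgroup G} (h : W ≤ Subgroup.normalizer (D : Set G))
    {w d : G} (hw : w ∈ W) (hd : d ∈ D) : w * d * w⁻¹ ∈ D :=
  (Subgroup.mem_normalizer_iff.mp (h hw) d).mp hd

/-- A 2-subgroup in which every element has odd order is trivial. -/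
theorem eq_bot_of_two_odd {D : Subgroup G} (hD : IsPGroup 2 D)
    (hodd : ∀ d ∈ D, Odd (orderOf d)) : D = ⊥ := by
  rw [eq_bot_iff]
  intro d hd
  rw [Subgroup.mem_bot]
  obtain ⟨k, hk⟩ := hD ⟨d, hd⟩
  have hk' : d ^ 2 ^ k = 1 := by
    have := congrArg Subtype.val hk
    simpa using this
  have h1 : orderOf d ∣ 2 ^ k := orderOf_dvd_of_pow_eq_one hk'
  have h2 := hodd d hd
  have h3 : Nat.Coprime (orderOf d) (2 ^ k) := by
    apply Nat.Coprime.pow_right
    exact Nat.Coprime.symm (Nat.coprime_two_left.mpr h2)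
  have h4 : orderOf d = 1 := Nat.Coprime.eq_one_of_dvd h3 h1
  exact orderOf_eq_one_iff.mp h4

end basics

/-! ### Applying minimality to subgroups and quotients -/

section apply

variable {G : Type u} [Group G]

theorem card_lt_of_ne_top [Finite G] {K : Subgroup G} (hK : K ≠ ⊤) : Nat.card K < Nat.card G :=
  lt_of_le_of_ne (Subgroup.card_le_card_group K) (fun h => hK (Subgroup.eq_top_of_card_eq K h))

/-- minimality applied to a proper subgroup `K` and `W ≤ K` -/
theorem sub_apply [Finite G] (hmin : MinG G) (K W : Subgroup G) (hK : K ≠ ⊤) (hWK : W ≤ K)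
    (hW : IsElementaryAbelian 2 W) (hW1 : W ≠ ⊥)
    (hSW : ∀ h v : G, v ∈ W → h ∈ K → Odd (orderOf h) → v * h * v⁻¹ = h⁻¹ →
      ∃ w ∈ W, w ≠ 1 ∧ w * h = h * w) :
    ∃ w ∈ W, w ≠ 1 ∧ ∃ hw : w ∈ K, (⟨w, hw⟩ : K) ∈ pCore 2 K := by
  have h1 : IsElementaryAbelian 2 (W.subgroupOf K) := by
    refine ⟨⟨⟨fun a b => ?_⟩⟩, fun a ha => ?_⟩
    · apply Subtype.ext
      apply Subtype.ext
      exact ea_comm hW a.2 b.2
    · apply Subtype.ext
      have := hW.2 (a : G) ha
      simpa using this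
  have h2 : W.subgroupOf K ≠ ⊥ := by
    intro h
    rw [Subgroup.subgroupOf_eq_bot] at h
    apply hW1
    rw [eq_bot_iff]
    intro w hw
    exact (Subgroup.disjoint_def.mp h) hw (hWK hw)
  have h3 : IsSidkiPair (W.subgroupOf K) := by
    intro h v hv hodd hinv
    have hinv' : (v : G) * (h : G) * (v : G)⁻¹ = (h : G)⁻¹ := by
      have := congrArg Subtype.val hinv
      simpa using this
    have hodd' : Odd (orderOf (h : G)) := by
      rwa [Subgroup.orderOf_coe]
    obtain ⟨w, hw, hw1, hwc⟩ := hSW h v hv h.2 hodd' hinv'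
    refine ⟨⟨w, hWK hw⟩, hw, ?_, ?_⟩
    · intro h'
      apply hw1
      exact congrArg Subtype.val h'
    · apply Subtype.ext
      exact hwc
  have h4 := hmin K (W.subgroupOf K) (card_lt_of_ne_top hK) h1 h2 h3
  obtain ⟨y, hy1⟩ := (Subgroup.ne_bot_iff_exists_ne_one).mp h4
  have hy := y.2
  rw [Subgroup.mem_inf] at hy
  refine ⟨((y : K) : G), hy.1, ?_, (y : K).2, hy.2⟩
  intro h
  apply hy1
  apply Subtype.ext
  apply Subtype.ext
  exact h

/-- the image of the 2-core of `K` in `G` -/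
def coreIm (K : Subgroup G) : Subgroup G := (pCore 2 K).map K.subtype

theorem mem_coreIm {K : Subgroup G} {w : G} (hw : w ∈ K) (h : (⟨w, hw⟩ : K) ∈ pCore 2 K) :
    w ∈ coreIm K := ⟨⟨w, hw⟩, h, rfl⟩

theorem coreIm_le (K : Subgroup G) : coreIm K ≤ K := Subgroup.map_subtype_le _

theorem coreIm_isPGroup (K : Subgroup G) : IsPGroup 2 (coreIm K) :=
  (isPGroup_pCore 2 K).map K.subtype

theorem coreIm_conj {K : Subgroup G} {k r : G} (hk : k ∈ K) (hr : r ∈ coreIm K) :
    k * r * k⁻¹ ∈ coreIm K := by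
  obtain ⟨y, hy, rfl⟩ := hr
  have hn : (pCore 2 K).Normal := inferInstance
  have := hn.conj_mem y hy ⟨k, hk⟩
  exact ⟨_, this, rfl⟩

/-- If `N ⊴ K` has no nontrivial 2-subgroup normalized by `N`, the 2-core of `K` meets `N`
trivially. -/
theorem coreIm_inf_eq_bot (K N : Subgroup G) (hNK : N ≤ K)
    (hN2 : ∀ D : Subgroup G, D ≤ N → IsPGroup 2 D → N ≤ Subgroup.normalizer (D : Set G) → D = ⊥) :
    coreIm K ⊓ N = ⊥ := by
  apply hN2 _ inf_le_right ((coreIm_isPGroup K).to_le inf_le_left)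
  apply le_normalizer_of_conj_mem
  intro n hn d hd
  rw [Subgroup.mem_inf] at hd ⊢
  exact ⟨coreIm_conj (hNK hn) hd.1, N.mul_mem (N.mul_mem hn hd.2) (N.inv_mem hn)⟩

theorem centralizes_of_mem_coreIm (K N : Subgroup G) (hNK : N ≤ K)
    (hNn : K ≤ Subgroup.normalizer (N : Set G))
    (hN2 : ∀ D : Subgroup G, D ≤ N → IsPGroup 2 D → N ≤ Subgroup.normalizer (D : Set G) → D = ⊥)
    {w : G} (hw : w ∈ coreIm K) : ∀ n ∈ N, w * n = n * w := by
  intro n hn
  have hbot := coreIm_inf_eq_bot K N hNK hN2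
  have hc : w * n * w⁻¹ * n⁻¹ ∈ coreIm K ⊓ N := by
    rw [Subgroup.mem_inf]
    constructor
    · have h1 : n * w⁻¹ * n⁻¹ ∈ coreIm K :=
        coreIm_conj (hNK hn) ((coreIm K).inv_mem hw)
      have := (coreIm K).mul_mem hw h1
      have e : w * (n * w⁻¹ * n⁻¹) = w * n * w⁻¹ * n⁻¹ := by group
      rwa [e] at this
    · have h1 : w * n * w⁻¹ ∈ N := conj_mem_of_le_normalizer hNn (coreIm_le K hw) hn
      exact N.mul_mem h1 (N.inv_mem hn)
  rw [hbot, Subgroup.mem_bot] at hc
  have : w * n = (w * n * w⁻¹ * n⁻¹) * (n * w) := by group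
  rw [this, hc, one_mul]

/-- normal subgroups of a group with trivial 2-core have no nontrivial normal 2-subgroups -/
theorem no2_of_normal (hO : pCore 2 G = ⊥) (N : Subgroup G) [N.Normal] :
    ∀ D : Subgroup G, D ≤ N → IsPGroup 2 D → N ≤ Subgroup.normalizer (D : Set G) → D = ⊥ := by
  intro D hDN hD hn
  have h1 : (D.subgroupOf N).Normal := (Subgroup.normal_subgroupOf_iff_le_normalizer hDN).mpr hn
  have h2 : IsPGroup 2 (D.subgroupOf N) := hD.comap_subtype
  have h3 : D.subgroupOf N ≤ pCore 2 N := le_pCore_of_normal h1 h2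
  have h4 := map_pCore_le_of_normal 2 N
  rw [hO, le_bot_iff] at h4
  have h5 : pCore 2 N = ⊥ :=
    (Subgroup.map_eq_bot_iff_of_injective _ (Subgroup.subtype_injective _)).mp h4
  rw [h5, le_bot_iff, Subgroup.subgroupOf_eq_bot] at h3
  rw [eq_bot_iff]
  intro d hd
  exact (Subgroup.disjoint_def.mp h3) hd (hDN hd)

theorem coreIm_eq_bot_of_normal (hO : pCore 2 G = ⊥) (N : Subgroup G) [N.Normal] :
    coreIm N = ⊥ := by
  have h4 := map_pCore_le_of_normal 2 N
  rw [hO, le_bot_iff] at h4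
  exact h4

/-- minimality applied to a quotient `G ⧸ M` with `V ⊓ M = ⊥` -/
theorem quot_apply [Finite G] (hmin : MinG G) (V M : Subgroup G) [M.Normal] (hM : M ≠ ⊥)
    (hV : IsElementaryAbelian 2 V) (hV1 : V ≠ ⊥) (hS : IsSidkiPair V) (hVM : V ⊓ M = ⊥) :
    ∃ v ∈ V, v ≠ 1 ∧ (QuotientGroup.mk' M v) ∈ pCore 2 (G ⧸ M) := by
  have hcard : Nat.card (G ⧸ M) < Nat.card G := by
    have h1 := Subgroup.card_eq_card_quotient_mul_card_subgroup M
    have h2 : 1 < Nat.card M := (Subgroup.one_lt_card_iff_ne_bot M).mpr hM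
    have h3 : 0 < Nat.card (G ⧸ M) := Nat.card_pos
    rw [h1]
    nlinarith
  have hW : IsElementaryAbelian 2 (V.map (QuotientGroup.mk' M)) := by
    refine ⟨⟨⟨fun a b => ?_⟩⟩, fun a ha => ?_⟩
    · apply Subtype.ext
      obtain ⟨x, hx, hxa⟩ := a.2
      obtain ⟨y, hy, hyb⟩ := b.2
      show (a : G ⧸ M) * (b : G ⧸ M) = (b : G ⧸ M) * (a : G ⧸ M)
      rw [← hxa, ← hyb, ← map_mul, ← map_mul, ea_comm hV hx hy]
    · obtain ⟨x, hx, rfl⟩ := ha
      rw [← map_pow, hV.2 x hx, map_one]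
  have hW1 : V.map (QuotientGroup.mk' M) ≠ ⊥ := by
    intro h
    apply hV1
    rw [eq_bot_iff]
    intro v hv
    have h1 : QuotientGroup.mk' M v ∈ V.map (QuotientGroup.mk' M) := ⟨v, hv, rfl⟩
    rw [h, Subgroup.mem_bot] at h1
    have h2 : v ∈ M := by
      rw [← QuotientGroup.ker_mk' M]
      exact h1
    have : v ∈ V ⊓ M := ⟨hv, h2⟩
    rwa [hVM] at this
  have hSW := Cfsg.Agent.S3012.result V M hV hV1 hS hVM
  have h4 := hmin (G ⧸ M) (V.map (QuotientGroup.mk' M)) hcard hW hW1 hSW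
  obtain ⟨x, hx1⟩ := (Subgroup.ne_bot_iff_exists_ne_one).mp h4
  have hx := x.2
  rw [Subgroup.mem_inf] at hx
  obtain ⟨v, hv, hvx⟩ := hx.1
  refine ⟨v, hv, ?_, ?_⟩
  · intro h
    apply hx1
    apply Subtype.ext
    rw [← hvx, h, map_one]
    rfl
  · rw [hvx]
    exact hx.2

/-- an involution whose image lies in the 2-core of a quotient `G ⧸ M`, inverting no nontrivial
odd-order element of `M`, lies in the 2-core of `G`. -/
theorem mem_pCore_of_quot [Finite G] (M : Subgroup G) [M.Normal] (v : G) (hv2 : v * v = 1)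
    (hvM : (QuotientGroup.mk' M v) ∈ pCore 2 (G ⧸ M))
    (hno : ∀ x ∈ M, Odd (orderOf x) → v * x * v⁻¹ = x⁻¹ → x = 1) : v ∈ pCore 2 G := by
  apply Cfsg.Agent.S3011.mem_pCore_of_no_inverted v hv2
  intro x hx hinv
  apply hno x _ hx hinv
  -- the image of `x⁻¹ * x⁻¹` lies in the 2-core
  set π := QuotientGroup.mk' M with hπ
  have hn : (pCore 2 (G ⧸ M)).Normal := inferInstance
  have h1 : π (x⁻¹ * x⁻¹) ∈ pCore 2 (G ⧸ M) := by
    have e : x⁻¹ * x⁻¹ = v * (x * v⁻¹ * x⁻¹) := by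
      calc x⁻¹ * x⁻¹ = (v * x * v⁻¹) * x⁻¹ := by rw [hinv]
        _ = v * (x * v⁻¹ * x⁻¹) := by group
    rw [e, map_mul, map_mul, map_mul, map_inv, map_inv]
    apply Subgroup.mul_mem _ hvM
    exact hn.conj_mem _ (Subgroup.inv_mem _ hvM) _
  -- it has odd order and 2-power order
  have h2 : Odd (orderOf (π (x⁻¹ * x⁻¹))) := by
    have hd : orderOf (π (x⁻¹ * x⁻¹)) ∣ orderOf (x⁻¹ * x⁻¹) := orderOf_map_dvd _ _
    have hd2 : orderOf (x⁻¹ * x⁻¹) ∣ orderOf x := by
      have : x⁻¹ * x⁻¹ = x ^ (-2 : ℤ) := by group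
      rw [this]
      exact orderOf_dvd_of_pow_eq_one (by
        rw [← zpow_natCast, ← zpow_mul, mul_comm, zpow_mul, zpow_natCast, pow_orderOf_eq_one,
          one_zpow])
    exact Odd.of_dvd_nat hx (hd.trans hd2)
  have h3 : π (x⁻¹ * x⁻¹) = 1 := by
    have hD : IsPGroup 2 (pCore 2 (G ⧸ M)) := isPGroup_pCore 2 _
    obtain ⟨k, hk⟩ := hD ⟨_, h1⟩
    have hk' : (π (x⁻¹ * x⁻¹)) ^ 2 ^ k = 1 := by
      have := congrArg Subtype.val hk
      simpa using this
    have hd1 : orderOf (π (x⁻¹ * x⁻¹)) ∣ 2 ^ k := orderOf_dvd_of_pow_eq_one hk'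
    have hc : Nat.Coprime (orderOf (π (x⁻¹ * x⁻¹))) (2 ^ k) := by
      apply Nat.Coprime.pow_right
      exact Nat.Coprime.symm (Nat.coprime_two_left.mpr h2)
    exact orderOf_eq_one_iff.mp (Nat.Coprime.eq_one_of_dvd hc hd1)
  -- so the image of `x` is trivial
  have h4 : π x = 1 := by
    have hox : Odd (orderOf (π x)) := Odd.of_dvd_nat hx (orderOf_map_dvd _ _)
    apply Cfsg.Agent.S3011.eq_one_of_mul_self hox
    have : π (x⁻¹ * x⁻¹) = (π x * π x)⁻¹ := by
      rw [map_mul, map_inv, mul_inv_rev]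
    rw [this, inv_eq_one] at h3
    exact h3
  rw [← QuotientGroup.ker_mk' M]
  exact h4

end apply

/-! ### Step (A): the 2-core is trivial -/

section stepA

variable {G : Type u} [Group G] [Finite G]

theorem pCore_two_eq_bot (hmin : MinG G) (V : Subgroup G) (hV : IsElementaryAbelian 2 V)
    (hV1 : V ≠ ⊥) (hS : IsSidkiPair V) (hVO : V ⊓ pCore 2 G = ⊥) : pCore 2 G = ⊥ := by
  by_contra hne
  have : Fact (Nat.Prime 2) := ⟨Nat.prime_two⟩
  obtain ⟨v, hv, hv1, hvq⟩ := quot_apply hmin V (pCore 2 G) hne hV hV1 hS hVO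
  rw [pCore_quotient_pCore 2, Subgroup.mem_bot] at hvq
  have h2 : v ∈ pCore 2 G := by
    rw [← QuotientGroup.ker_mk' (pCore 2 G)]
    exact hvq
  have : v ∈ V ⊓ pCore 2 G := ⟨hv, h2⟩
  rw [hVO, Subgroup.mem_bot] at this
  exact hv1 this

end stepA

/-! ### Step (C): no abelian minimal normal subgroup -/

section stepC

variable {G : Type u} [Group G] [Finite G]

theorem odd_of_abelian_normal (hO : pCore 2 G = ⊥) (A : Subgroup G) [hAn : A.Normal]
    (hAc : ∀ a ∈ A, ∀ b ∈ A, a * b = b * a) : ∀ a ∈ A, Odd (orderOf a) := by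
  let Om : Subgroup G :=
    { carrier := {a | a ∈ A ∧ a * a = 1}
      mul_mem' := by
        rintro a b ⟨ha, ha2⟩ ⟨hb, hb2⟩
        refine ⟨A.mul_mem ha hb, ?_⟩
        calc a * b * (a * b) = a * (b * a) * b := by group
          _ = a * (a * b) * b := by rw [hAc b hb a ha]
          _ = (a * a) * (b * b) := by group
          _ = 1 := by rw [ha2, hb2, one_mul]
      one_mem' := ⟨A.one_mem, one_mul 1⟩
      inv_mem' := by
        rintro a ⟨ha, ha2⟩
        refine ⟨A.inv_mem ha, ?_⟩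
        rw [← mul_inv_rev, ha2, inv_one] }
  have hOmn : Om.Normal := by
    refine ⟨fun n hn g => ⟨hAn.conj_mem n hn.1 g, ?_⟩⟩
    calc g * n * g⁻¹ * (g * n * g⁻¹) = g * (n * n) * g⁻¹ := by group
      _ = 1 := by rw [hn.2]; group
  have hOm2 : IsPGroup 2 Om := by
    intro x
    refine ⟨1, ?_⟩
    apply Subtype.ext
    have := x.2.2
    simpa [pow_two] using this
  have hOmb : Om = ⊥ := by
    have := le_pCore_of_normal hOmn hOm2
    rwa [hO, le_bot_iff] at this
  intro a ha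
  by_contra hnodd
  rw [Nat.not_odd_iff_even] at hnodd
  obtain ⟨k, hk⟩ := hnodd
  have hpos : 0 < orderOf a := orderOf_pos a
  have hk0 : k ≠ 0 := by omega
  have hklt : k < orderOf a := by omega
  have hb : a ^ k ∈ Om := by
    refine ⟨A.pow_mem ha k, ?_⟩
    rw [← pow_add, ← hk, pow_orderOf_eq_one]
  rw [hOmb, Subgroup.mem_bot] at hb
  exact pow_ne_one_of_lt_orderOf hk0 hklt hb

omit [Finite G] in
theorem inv_comm_elt {v a : G} (hv2 : v * v = 1) :
    v * (a * (v * a⁻¹ * v⁻¹)) * v⁻¹ = (a * (v * a⁻¹ * v⁻¹))⁻¹ := by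
  have hvi : v⁻¹ = v := inv_eq_of_mul_eq_one_right hv2
  calc v * (a * (v * a⁻¹ * v⁻¹)) * v⁻¹ = v * a * v * a⁻¹ * (v⁻¹ * v⁻¹) := by group
    _ = v * a * v * a⁻¹ := by rw [hvi, hv2, mul_one]
    _ = v * a * v⁻¹ * a⁻¹ := by rw [hvi]
    _ = (a * (v * a⁻¹ * v⁻¹))⁻¹ := by group

theorem no_abelian_minimal_normal (hmin : MinG G) (V : Subgroup G)
    (hV : IsElementaryAbelian 2 V) (hV1 : V ≠ ⊥) (hS : IsSidkiPair V) (hO : pCore 2 G = ⊥)
    (A : Subgroup G) [hAn : A.Normal] (hA1 : A ≠ ⊥) (hAc : ∀ a ∈ A, ∀ b ∈ A, a * b = b * a)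
    (hAmin : ∀ K : Subgroup G, K.Normal → K ≤ A → K = ⊥ ∨ K = A) : False := by
  have hodd := odd_of_abelian_normal hO A hAc
  set C := Subgroup.centralizer (A : Set G) with hC
  have hCn : C.Normal := Subgroup.normal_centralizer
  have hmemC : ∀ {g : G}, g ∈ C ↔ ∀ a ∈ A, a * g = g * a := fun {g} => Subgroup.mem_centralizer_iff
  have hAC : A ≤ C := fun a ha => hmemC.mpr (fun b hb => hAc b hb a ha)
  have hA2 : ∀ D : Subgroup G, D ≤ A → IsPGroup 2 D → A ≤ Subgroup.normalizer (D : Set G) →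
      D = ⊥ := fun D hDA hD _ => eq_bot_of_two_odd hD (fun d hd => hodd d (hDA hd))
  have hnormA : ∀ K : Subgroup G, K ≤ Subgroup.normalizer (A : Set G) := fun K => by
    rw [Subgroup.normalizer_eq_top_iff.mpr hAn]; exact le_top
  -- (C1)
  have hCV : C ⊔ V = ⊤ := by
    by_contra hne
    obtain ⟨w, hw, hw1, hwK, hwc⟩ := sub_apply hmin (C ⊔ V) V hne le_sup_right hV hV1
      (fun h v hv _ ho hi => hS h v hv ho hi)
    have hwR := mem_coreIm hwK hwc
    have hcent := centralizes_of_mem_coreIm (C ⊔ V) A (hAC.trans le_sup_left) (hnormA _) hA2 hwR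
    have hwC : w ∈ C := hmemC.mpr (fun a ha => (hcent a ha).symm)
    have hbot := coreIm_inf_eq_bot (C ⊔ V) C le_sup_left (no2_of_normal hO C)
    have : w ∈ coreIm (C ⊔ V) ⊓ C := ⟨hwR, hwC⟩
    rw [hbot, Subgroup.mem_bot] at this
    exact hw1 this
  -- (C2)
  have hpm : ∀ v ∈ V, (∀ a ∈ A, v * a * v⁻¹ = a) ∨ (∀ a ∈ A, v * a * v⁻¹ = a⁻¹) := by
    intro v hv
    have hv2 := ea_sq hV hv
    let Am : Subgroup G :=
      { carrier := {a | a ∈ A ∧ v * a * v⁻¹ = a⁻¹}
        mul_mem' := by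
          rintro a b ⟨ha, ha2⟩ ⟨hb, hb2⟩
          refine ⟨A.mul_mem ha hb, ?_⟩
          calc v * (a * b) * v⁻¹ = (v * a * v⁻¹) * (v * b * v⁻¹) := by group
            _ = a⁻¹ * b⁻¹ := by rw [ha2, hb2]
            _ = b⁻¹ * a⁻¹ := hAc _ (A.inv_mem ha) _ (A.inv_mem hb)
            _ = (a * b)⁻¹ := by rw [mul_inv_rev]
        one_mem' := ⟨A.one_mem, by group⟩
        inv_mem' := by
          rintro a ⟨ha, ha2⟩
          refine ⟨A.inv_mem ha, ?_⟩
          calc v * a⁻¹ * v⁻¹ = (v * a * v⁻¹)⁻¹ := by group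
            _ = a⁻¹⁻¹ := by rw [ha2] }
    have hAmn : Am.Normal := by
      have h1 : C ≤ Subgroup.normalizer (Am : Set G) := le_normalizer_of_conj_mem C Am
        (fun c hc d hd => by
          have h := hmemC.mp hc d hd.1
          have : c * d * c⁻¹ = d := by rw [← h]; group
          rw [this]; exact hd)
      have h2 : V ≤ Subgroup.normalizer (Am : Set G) := le_normalizer_of_conj_mem V Am
        (fun w hw d hd => by
          refine ⟨hAn.conj_mem d hd.1 w, ?_⟩
          have hvw : v * w = w * v := ea_comm hV hv hw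
          have hvw' : v * w⁻¹ = w⁻¹ * v := by rw [ea_inv hV hw]; exact hvw
          calc v * (w * d * w⁻¹) * v⁻¹ = (v * w) * d * (v * w⁻¹⁻¹)⁻¹ := by group
            _ = (w * v) * d * (w⁻¹⁻¹ * v)⁻¹ := by
                rw [hvw]
                have : v * w⁻¹⁻¹ = w⁻¹⁻¹ * v := by rw [inv_inv]; exact hvw
                rw [this]
            _ = w * (v * d * v⁻¹) * w⁻¹ := by group
            _ = w * d⁻¹ * w⁻¹ := by rw [hd.2]
            _ = (w * d * w⁻¹)⁻¹ := by group)
      have h3 : (⊤ : Subgroup G) ≤ Subgroup.normalizer (Am : Set G) := by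
        rw [← hCV]; exact sup_le h1 h2
      exact Subgroup.normalizer_eq_top_iff.mp (top_le_iff.mp h3)
    rcases hAmin Am hAmn (fun a ha => ha.1) with h | h
    · left
      intro a ha
      have hc : a * (v * a⁻¹ * v⁻¹) ∈ Am :=
        ⟨A.mul_mem ha (hAn.conj_mem _ (A.inv_mem ha) v), inv_comm_elt hv2⟩
      rw [h, Subgroup.mem_bot] at hc
      have := eq_inv_of_mul_eq_one_left hc
      calc v * a * v⁻¹ = (v * a⁻¹ * v⁻¹)⁻¹ := by group
        _ = a := this.symm
    · right
      intro a ha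
      have : a ∈ Am := h ▸ ha
      exact this.2
  by_cases hall : ∀ v ∈ V, ∀ a ∈ A, v * a * v⁻¹ = a
  · -- central case
    have hVC : V ≤ C := fun v hv => hmemC.mpr (fun a ha => by
      have := hall v hv a ha
      calc a * v = (v * a * v⁻¹) * v := by rw [this]
        _ = v * a := by group)
    have hVA : V ⊓ A = ⊥ := by
      rw [eq_bot_iff]
      intro x hx
      rw [Subgroup.mem_bot]
      exact Cfsg.Agent.S3011.eq_one_of_mul_self (hodd x hx.2) (ea_sq hV hx.1)
    obtain ⟨v, hv, hv1, hvq⟩ := quot_apply hmin V A hA1 hV hV1 hS hVA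
    have hvp : v ∈ pCore 2 G := mem_pCore_of_quot A v (ea_sq hV hv) hvq
      (fun x hx hox hinv => by
        have h := hall v hv x hx
        apply Cfsg.Agent.S3011.eq_one_of_comm_of_inv hox ?_ hinv
        calc v * x = (v * x * v⁻¹) * v := by group
          _ = x * v := by rw [h])
    rw [hO, Subgroup.mem_bot] at hvp
    exact hv1 hvp
  · push Not at hall
    obtain ⟨v₀, hv₀, a₀, ha₀, hne⟩ := hall
    have hinv₀ : ∀ a ∈ A, v₀ * a * v₀⁻¹ = a⁻¹ :=
      (hpm v₀ hv₀).resolve_left (fun h => hne (h a₀ ha₀))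
    have ha₀1 : a₀ ≠ 1 := by
      rintro rfl
      apply hne
      group
    -- dichotomy
    have hdich : ∀ w ∈ V, w ∈ C ∨ ∀ a ∈ A, w * a * w⁻¹ = a⁻¹ := by
      intro w hw
      rcases hpm w hw with h | h
      · left
        exact hmemC.mpr (fun a ha => by
          have := h a ha
          calc a * w = (w * a * w⁻¹) * w := by rw [this]
            _ = w * a := by group)
      · right; exact h
    have hcentC : ∀ {c : G}, c ∈ C → ∀ a ∈ A, c * a * c⁻¹ = a := fun {c} hc a ha => by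
      have := hmemC.mp hc a ha
      rw [← this]; group
    set B := V ⊓ C with hB
    have hB1 : B ≠ ⊥ := by
      intro hBb
      obtain ⟨w, hw, hw1, hwc⟩ := hS a₀ v₀ hv₀ (hodd a₀ ha₀) (hinv₀ a₀ ha₀)
      rcases hdich w hw with h | h
      · have : w ∈ B := ⟨hw, h⟩
        rw [hBb, Subgroup.mem_bot] at this
        exact hw1 this
      · exact ha₀1 (Cfsg.Agent.S3011.eq_one_of_comm_of_inv (hodd a₀ ha₀) hwc (h a₀ ha₀))
    have hCtop : C ≠ ⊤ := by
      intro h
      apply hne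
      have : v₀ ∈ C := h ▸ Subgroup.mem_top _
      exact hcentC this a₀ ha₀
    have hSB : ∀ x u : G, u ∈ B → x ∈ C → Odd (orderOf x) → u * x * u⁻¹ = x⁻¹ →
        ∃ w ∈ B, w ≠ 1 ∧ w * x = x * w := by
      intro x u hu hxC hox hux
      by_cases hx1 : x = 1
      · obtain ⟨y, hy1⟩ := (Subgroup.ne_bot_iff_exists_ne_one).mp hB1
        refine ⟨y, y.2, fun h => hy1 (Subtype.ext h), ?_⟩
        rw [hx1, mul_one, one_mul]
      obtain ⟨w₁, hw₁, hw₁1, hw₁c⟩ := hS x u hu.1 hox hux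
      rcases hdich w₁ hw₁ with h | hw₁i
      · exact ⟨w₁, ⟨hw₁, h⟩, hw₁1, hw₁c⟩
      -- `w₁` inverts `A` and centralizes `x`
      have hxh : a₀ * x = x * a₀ := hmemC.mp hxC a₀ ha₀
      have hth : (w₁ * u) * a₀ * (w₁ * u)⁻¹ = a₀⁻¹ := by
        calc (w₁ * u) * a₀ * (w₁ * u)⁻¹ = w₁ * (u * a₀ * u⁻¹) * w₁⁻¹ := by group
          _ = w₁ * a₀ * w₁⁻¹ := by rw [hcentC hu.2 a₀ ha₀]
          _ = a₀⁻¹ := hw₁i a₀ ha₀
      have hw₁x : w₁ * x * w₁⁻¹ = x := by rw [hw₁c]; group
      have htx : (w₁ * u) * x * (w₁ * u)⁻¹ = x⁻¹ := by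
        calc (w₁ * u) * x * (w₁ * u)⁻¹ = w₁ * (u * x * u⁻¹) * w₁⁻¹ := by group
          _ = w₁ * x⁻¹ * w₁⁻¹ := by rw [hux]
          _ = (w₁ * x * w₁⁻¹)⁻¹ := by group
          _ = x⁻¹ := by rw [hw₁x]
      have hthx : (w₁ * u) * (a₀ * x) * (w₁ * u)⁻¹ = (a₀ * x)⁻¹ := by
        calc (w₁ * u) * (a₀ * x) * (w₁ * u)⁻¹
            = ((w₁ * u) * a₀ * (w₁ * u)⁻¹) * ((w₁ * u) * x * (w₁ * u)⁻¹) := by group
          _ = a₀⁻¹ * x⁻¹ := by rw [hth, htx]
          _ = (x * a₀)⁻¹ := by rw [mul_inv_rev]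
          _ = (a₀ * x)⁻¹ := by rw [hxh]
      have hoddhx : Odd (orderOf (a₀ * x)) :=
        Cfsg.Agent.S3011.odd_orderOf_mul (hodd a₀ ha₀) hox hxh
      obtain ⟨w, hw, hw1, hwc⟩ := hS (a₀ * x) (w₁ * u) (V.mul_mem hw₁ hu.1) hoddhx hthx
      rcases hdich w hw with hwC | hwi
      · refine ⟨w, ⟨hw, hwC⟩, hw1, ?_⟩
        have hwa : a₀ * w = w * a₀ := hmemC.mp hwC a₀ ha₀
        have : a₀ * (w * x) = a₀ * (x * w) := by
          calc a₀ * (w * x) = (a₀ * w) * x := by group
            _ = (w * a₀) * x := by rw [hwa]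
            _ = w * (a₀ * x) := by group
            _ = (a₀ * x) * w := hwc
            _ = a₀ * (x * w) := by group
        exact mul_left_cancel this
      · exfalso
        have hwh := hwi a₀ ha₀
        have hwx : w * x * w⁻¹ = a₀ * (a₀ * x) := by
          have e1 : w * (a₀ * x) * w⁻¹ = a₀ * x := by rw [hwc]; group
          have e2 : w * (a₀ * x) * w⁻¹ = (w * a₀ * w⁻¹) * (w * x * w⁻¹) := by group
          rw [e2, hwh] at e1
          calc w * x * w⁻¹ = a₀ * (a₀⁻¹ * (w * x * w⁻¹)) := by group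
            _ = a₀ * (a₀ * x) := by rw [e1]
        have hbx : (w * w₁) * x * (w * w₁)⁻¹ = a₀ * (a₀ * x) := by
          calc (w * w₁) * x * (w * w₁)⁻¹ = w * (w₁ * x * w₁⁻¹) * w⁻¹ := by group
            _ = w * x * w⁻¹ := by rw [hw₁x]
            _ = a₀ * (a₀ * x) := hwx
        have hbh : (w * w₁) * a₀ * (w * w₁)⁻¹ = a₀ := by
          calc (w * w₁) * a₀ * (w * w₁)⁻¹ = w * (w₁ * a₀ * w₁⁻¹) * w⁻¹ := by group
            _ = w * a₀⁻¹ * w⁻¹ := by rw [hw₁i a₀ ha₀]
            _ = (w * a₀ * w⁻¹)⁻¹ := by group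
            _ = a₀ := by rw [hwh, inv_inv]
        have hbb : (w * w₁) * (w * w₁) = 1 := ea_sq hV (V.mul_mem hw hw₁)
        have hfin : x = a₀ * (a₀ * (a₀ * (a₀ * x))) := by
          calc x = ((w * w₁) * (w * w₁)) * x * ((w * w₁) * (w * w₁))⁻¹ := by
                rw [hbb]; group
            _ = (w * w₁) * ((w * w₁) * x * (w * w₁)⁻¹) * (w * w₁)⁻¹ := by group
            _ = (w * w₁) * (a₀ * (a₀ * x)) * (w * w₁)⁻¹ := by rw [hbx]
            _ = ((w * w₁) * a₀ * (w * w₁)⁻¹) * (((w * w₁) * a₀ * (w * w₁)⁻¹) *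
                  ((w * w₁) * x * (w * w₁)⁻¹)) := by group
            _ = a₀ * (a₀ * (a₀ * (a₀ * x))) := by rw [hbh, hbx]
        have h4 : a₀ ^ 4 = 1 := by
          have e : a₀ ^ 4 * x = a₀ * (a₀ * (a₀ * (a₀ * x))) := by
            rw [pow_succ, pow_succ, pow_succ, pow_one]
            simp only [mul_assoc]
          have : a₀ ^ 4 * x = x := e.trans hfin.symm
          exact mul_right_cancel (this.trans (one_mul x).symm)
        have hd : orderOf a₀ ∣ 4 := orderOf_dvd_of_pow_eq_one h4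
        have hc : Nat.Coprime (orderOf a₀) 4 := by
          have : (4 : ℕ) = 2 ^ 2 := rfl
          rw [this]
          apply Nat.Coprime.pow_right
          exact Nat.Coprime.symm (Nat.coprime_two_left.mpr (hodd a₀ ha₀))
        exact ha₀1 (orderOf_eq_one_iff.mp (Nat.Coprime.eq_one_of_dvd hc hd))
    obtain ⟨w, hw, hw1, hwC, hwc⟩ := sub_apply hmin C B hCtop inf_le_right
      (ea_of_le hV inf_le_left) hB1 (fun h v hv hh ho hi => hSB h v hv hh ho hi)
    have := mem_coreIm hwC hwc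
    rw [coreIm_eq_bot_of_normal hO C, Subgroup.mem_bot] at this
    exact hw1 this

end stepC

/-! ### Step (K): every nontrivial normal subgroup `N` has `N V = G` and `C_G(N) = 1` -/

section stepK

variable {G : Type u} [Group G] [Finite G]

/-- an odd-order element of `N ⊔ W`, `N` normal, `W` of exponent 2, lies in `N` -/
theorem mem_of_odd_of_sup (N W : Subgroup G) [N.Normal] (hW : ∀ w ∈ W, w * w = 1) {h : G}
    (hh : h ∈ N ⊔ W) (ho : Odd (orderOf h)) : h ∈ N := by
  have hmem : h ∈ (N : Set G) * (W : Set G) := by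
    rw [← Subgroup.normal_mul]; exact hh
  obtain ⟨n, hn, w, hw, rfl⟩ := Set.mem_mul.mp hmem
  have h1 : QuotientGroup.mk' N (n * w) = QuotientGroup.mk' N w := by
    rw [map_mul]
    have : QuotientGroup.mk' N n = 1 := (QuotientGroup.eq_one_iff n).mpr hn
    rw [this, one_mul]
  have h2 : QuotientGroup.mk' N (n * w) * QuotientGroup.mk' N (n * w) = 1 := by
    rw [h1, ← map_mul, hW w hw, map_one]
  have h3 : Odd (orderOf (QuotientGroup.mk' N (n * w))) :=
    Odd.of_dvd_nat ho (orderOf_map_dvd _ _)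
  have h4 := Cfsg.Agent.S3011.eq_one_of_mul_self h3 h2
  exact (QuotientGroup.eq_one_iff _).mp h4

theorem key (hmin : MinG G) (V : Subgroup G) (hV : IsElementaryAbelian 2 V) (hV1 : V ≠ ⊥)
    (hS : IsSidkiPair V) (hO : pCore 2 G = ⊥)
    (hnoab : ∀ A : Subgroup G, A.Normal → (∀ a ∈ A, ∀ b ∈ A, a * b = b * a) → A = ⊥)
    (N : Subgroup G) [hNn : N.Normal] (hN1 : N ≠ ⊥) :
    N ⊔ V = ⊤ ∧ Subgroup.centralizer (N : Set G) = ⊥ := by
  set C := Subgroup.centralizer (N : Set G) with hC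
  have hCn : C.Normal := Subgroup.normal_centralizer
  have hmemC : ∀ {g : G}, g ∈ C ↔ ∀ n ∈ N, n * g = g * n := fun {g} => Subgroup.mem_centralizer_iff
  have hNC : N ⊓ C = ⊥ := by
    apply hnoab _ inferInstance
    intro a ha b hb
    exact hmemC.mp hb.2 a ha.1
  have hsplit : ∀ {h h' x x' : G}, h ∈ N → h' ∈ N → x ∈ C → x' ∈ C → h' * x' = h * x →
      h' = h ∧ x' = x := by
    intro h h' x x' hh hh' hx hx' e
    have hd : h⁻¹ * h' = x * x'⁻¹ := by
      calc h⁻¹ * h' = h⁻¹ * (h' * x') * x'⁻¹ := by group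
        _ = h⁻¹ * (h * x) * x'⁻¹ := by rw [e]
        _ = x * x'⁻¹ := by group
    have hmem : h⁻¹ * h' ∈ N ⊓ C :=
      ⟨N.mul_mem (N.inv_mem hh) hh', hd ▸ C.mul_mem hx (C.inv_mem hx')⟩
    rw [hNC, Subgroup.mem_bot] at hmem
    have e1 : h' = h := by
      calc h' = h * (h⁻¹ * h') := by group
        _ = h := by rw [hmem, mul_one]
    refine ⟨e1, ?_⟩
    rw [e1] at e
    exact mul_left_cancel e
  have hnormN : ∀ K : Subgroup G, K ≤ Subgroup.normalizer (N : Set G) := fun K => by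
    rw [Subgroup.normalizer_eq_top_iff.mpr hNn]; exact le_top
  have hsup : N ⊔ V = ⊤ := by
    by_contra hne
    set B := V ⊓ C with hB
    have hB1 : B ≠ ⊥ := by
      obtain ⟨w, hw, hw1, hwK, hwc⟩ := sub_apply hmin (N ⊔ V) V hne le_sup_right hV hV1
        (fun h v hv _ ho hi => hS h v hv ho hi)
      have hwR := mem_coreIm hwK hwc
      have hcent := centralizes_of_mem_coreIm (N ⊔ V) N le_sup_left (hnormN _)
        (no2_of_normal hO N) hwR
      intro hb
      have : w ∈ B := ⟨hw, hmemC.mpr (fun n hn => (hcent n hn).symm)⟩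
      rw [hb, Subgroup.mem_bot] at this
      exact hw1 this
    have hCtop : C ≠ ⊤ := by
      intro h
      apply hN1
      rw [eq_bot_iff, ← hNC]
      intro n hn
      exact ⟨hn, h ▸ Subgroup.mem_top n⟩
    have hSB : ∀ x u : G, u ∈ B → x ∈ C → Odd (orderOf x) → u * x * u⁻¹ = x⁻¹ →
        ∃ w ∈ B, w ≠ 1 ∧ w * x = x * w := by
      intro x u hu hxC hox hux
      by_cases hx1 : x = 1
      · obtain ⟨y, hy1⟩ := (Subgroup.ne_bot_iff_exists_ne_one).mp hB1
        refine ⟨y, y.2, fun h => hy1 (Subtype.ext h), ?_⟩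
        rw [hx1, mul_one, one_mul]
      set Vx := V ⊓ Subgroup.centralizer ({x} : Set G) with hVx
      have hmemVx : ∀ {g : G}, g ∈ Vx ↔ g ∈ V ∧ g * x = x * g := by
        intro g
        rw [hVx, Subgroup.mem_inf, Subgroup.mem_centralizer_iff]
        constructor
        · rintro ⟨h1, h2⟩
          exact ⟨h1, (h2 x rfl).symm⟩
        · rintro ⟨h1, h2⟩
          refine ⟨h1, fun y hy => ?_⟩
          rw [Set.mem_singleton_iff] at hy
          rw [hy]; exact h2.symm
      have hVx1 : Vx ≠ ⊥ := by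
        obtain ⟨w₁, hw₁, hw₁1, hw₁c⟩ := hS x u hu.1 hox hux
        intro hb
        have : w₁ ∈ Vx := hmemVx.mpr ⟨hw₁, hw₁c⟩
        rw [hb, Subgroup.mem_bot] at this
        exact hw₁1 this
      set K := N ⊔ Vx with hK
      have hKtop : K ≠ ⊤ := by
        intro h
        apply hx1
        have hle : K ≤ Subgroup.centralizer ({x} : Set G) := by
          apply sup_le
          · intro n hn
            rw [Subgroup.mem_centralizer_iff]
            intro y hy
            rw [Set.mem_singleton_iff] at hy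
            rw [hy]
            exact (hmemC.mp hxC n hn).symm
          · exact inf_le_right
        have hu' : u ∈ Subgroup.centralizer ({x} : Set G) := hle (h ▸ Subgroup.mem_top u)
        have hux' : u * x = x * u := (Subgroup.mem_centralizer_iff.mp hu' x rfl).symm
        exact Cfsg.Agent.S3011.eq_one_of_comm_of_inv hox hux' hux
      by_cases hSK : ∀ h v : G, v ∈ Vx → h ∈ K → Odd (orderOf h) → v * h * v⁻¹ = h⁻¹ →
          ∃ w ∈ Vx, w ≠ 1 ∧ w * h = h * w
      · obtain ⟨w, hw, hw1, hwK, hwc⟩ := sub_apply hmin K Vx hKtop le_sup_right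
          (ea_of_le hV inf_le_left) hVx1 hSK
        have hwR := mem_coreIm hwK hwc
        have hcent := centralizes_of_mem_coreIm K N le_sup_left (hnormN _)
          (no2_of_normal hO N) hwR
        have hw' := hmemVx.mp hw
        exact ⟨w, ⟨hw'.1, hmemC.mpr (fun n hn => (hcent n hn).symm)⟩, hw1, hw'.2⟩
      · exfalso
        push Not at hSK
        obtain ⟨h, a, ha, hhK, hoh, hah, hbad⟩ := hSK
        have hhN : h ∈ N :=
          mem_of_odd_of_sup N Vx (fun w hw => ea_sq hV (hmemVx.mp hw).1) hhK hoh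
        have ha' := hmemVx.mp ha
        have hcu : u * h * u⁻¹ = h := by
          have := hmemC.mp hu.2 h hhN
          rw [← this]; group
        have hth : (a * u) * h * (a * u)⁻¹ = h⁻¹ := by
          calc (a * u) * h * (a * u)⁻¹ = a * (u * h * u⁻¹) * a⁻¹ := by group
            _ = a * h * a⁻¹ := by rw [hcu]
            _ = h⁻¹ := hah
        have hax : a * x * a⁻¹ = x := by rw [ha'.2]; group
        have htx : (a * u) * x * (a * u)⁻¹ = x⁻¹ := by
          calc (a * u) * x * (a * u)⁻¹ = a * (u * x * u⁻¹) * a⁻¹ := by group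
            _ = a * x⁻¹ * a⁻¹ := by rw [hux]
            _ = (a * x * a⁻¹)⁻¹ := by group
            _ = x⁻¹ := by rw [hax]
        have hxh : h * x = x * h := hmemC.mp hxC h hhN
        have hthx : (a * u) * (h * x) * (a * u)⁻¹ = (h * x)⁻¹ := by
          calc (a * u) * (h * x) * (a * u)⁻¹
              = ((a * u) * h * (a * u)⁻¹) * ((a * u) * x * (a * u)⁻¹) := by group
            _ = h⁻¹ * x⁻¹ := by rw [hth, htx]
            _ = (x * h)⁻¹ := by rw [mul_inv_rev]
            _ = (h * x)⁻¹ := by rw [hxh]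
        have hoddhx : Odd (orderOf (h * x)) := Cfsg.Agent.S3011.odd_orderOf_mul hoh hox hxh
        obtain ⟨w, hw, hw1, hwc⟩ := hS (h * x) (a * u) (V.mul_mem ha'.1 hu.1) hoddhx hthx
        have e : (w * h * w⁻¹) * (w * x * w⁻¹) = h * x := by
          calc (w * h * w⁻¹) * (w * x * w⁻¹) = w * (h * x) * w⁻¹ := by group
            _ = h * x := by rw [hwc]; group
        obtain ⟨e1, e2⟩ := hsplit hhN (hNn.conj_mem h hhN w) hxC (hCn.conj_mem x hxC w) e
        have hwx : w * x = x * w := by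
          calc w * x = (w * x * w⁻¹) * w := by group
            _ = x * w := by rw [e2]
        have hwh : w * h = h * w := by
          calc w * h = (w * h * w⁻¹) * w := by group
            _ = h * w := by rw [e1]
        exact hbad w (hmemVx.mpr ⟨hw, hwx⟩) hw1 hwh
    obtain ⟨w, hw, hw1, hwC, hwc⟩ := sub_apply hmin C B hCtop inf_le_right
      (ea_of_le hV inf_le_left) hB1 (fun h v hv hh ho hi => hSB h v hv hh ho hi)
    have := mem_coreIm hwC hwc
    rw [coreIm_eq_bot_of_normal hO C, Subgroup.mem_bot] at this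
    exact hw1 this
  refine ⟨hsup, ?_⟩
  have hC2 : IsPGroup 2 C := by
    intro c
    refine ⟨1, ?_⟩
    apply Subtype.ext
    have hc : (c : G) ∈ (N : Set G) * (V : Set G) := by
      rw [← Subgroup.normal_mul, hsup]; exact Subgroup.mem_top _
    obtain ⟨n, hn, v, hv, hnv⟩ := Set.mem_mul.mp hc
    have hcc : (c : G) * c ∈ N ⊓ C := by
      refine ⟨?_, C.mul_mem c.2 c.2⟩
      rw [← hnv]
      have : n * v * (n * v) = n * (v * n * v⁻¹) * (v * v) := by group
      rw [this, ea_sq hV hv, mul_one]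
      exact N.mul_mem hn (hNn.conj_mem n hn v)
    rw [hNC, Subgroup.mem_bot] at hcc
    simpa [pow_two] using hcc
  have := le_pCore_of_normal hCn hC2
  rwa [hO, le_bot_iff] at this

end stepK

/-! ### Step (E): components -/

section stepE

variable {G : Type u} [Group G] [Finite G]

open Cfsg.Agent.Lib.Helper21

/-- the conjugate `g K g⁻¹` -/
def conjS (K : Subgroup G) (g : G) : Subgroup G := K.map (MulAut.conj g).toMonoidHom

omit [Finite G] in
theorem mem_conjS {K : Subgroup G} {g x : G} : x ∈ conjS K g ↔ g⁻¹ * x * g ∈ K := by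
  unfold conjS
  rw [Subgroup.mem_map]
  constructor
  · rintro ⟨k, hk, rfl⟩
    have : g⁻¹ * ((MulAut.conj g).toMonoidHom k) * g = k := by
      simp only [MulEquiv.coe_toMonoidHom, MulAut.conj_apply]
      group
    rw [this]; exact hk
  · intro h
    refine ⟨g⁻¹ * x * g, h, ?_⟩
    simp only [MulEquiv.coe_toMonoidHom, MulAut.conj_apply]
    group

omit [Finite G] in
theorem conj_mem_conjS {K : Subgroup G} {g k : G} (hk : k ∈ K) : g * k * g⁻¹ ∈ conjS K g := by
  rw [mem_conjS]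
  have : g⁻¹ * (g * k * g⁻¹) * g = k := by group
  rw [this]; exact hk

omit [Finite G] in
theorem conjS_eq_iff {K : Subgroup G} {g : G} :
    conjS K g = K ↔ g ∈ Subgroup.normalizer (K : Set G) := by
  constructor
  · intro h
    rw [Subgroup.mem_normalizer_iff]
    intro k
    constructor
    · intro hk
      exact h ▸ conj_mem_conjS hk
    · intro hk
      have h1 : g * k * g⁻¹ ∈ conjS K g := h.symm ▸ hk
      have := mem_conjS.mp h1
      have e : g⁻¹ * (g * k * g⁻¹) * g = k := by group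
      rwa [e] at this
  · intro h
    ext x
    rw [mem_conjS]
    have hi : g⁻¹ ∈ Subgroup.normalizer (K : Set G) := Subgroup.inv_mem _ h
    constructor
    · intro hx
      have := (Subgroup.mem_normalizer_iff.mp h _).mp hx
      have e : g * (g⁻¹ * x * g) * g⁻¹ = x := by group
      rwa [e] at this
    · intro hx
      have := (Subgroup.mem_normalizer_iff.mp hi _).mp hx
      rwa [inv_inv] at this

omit [Finite G] in
theorem conjS_conjS (K : Subgroup G) (a b : G) : conjS (conjS K a) b = conjS K (b * a) := by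
  ext x
  rw [mem_conjS, mem_conjS, mem_conjS]
  have e : a⁻¹ * (b⁻¹ * x * b) * a = (b * a)⁻¹ * x * (b * a) := by group
  rw [e]

omit [Finite G] in
theorem conjS_one (K : Subgroup G) : conjS K 1 = K := by
  ext x
  rw [mem_conjS]
  simp

theorem comp_center_eq_bot (hF : fittingSubgroup G = ⊥) {K : Subgroup G}
    (hK : IsComponent K) : Subgroup.center K = ⊥ := by
  have hsn : ((Subgroup.center K).map K.subtype).IsSubnormal :=
    Subgroup.IsSubnormal.trans' (Subgroup.Normal.isSubnormal inferInstance) hK.1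
  have hnil : Group.IsNilpotent ((Subgroup.center K).map K.subtype) := by
    have e := (Subgroup.center K).equivMapOfInjective K.subtype K.subtype_injective
    have : Group.IsNilpotent (Subgroup.center K) := by
      letI : CommGroup (Subgroup.center K) :=
        { (inferInstance : Group (Subgroup.center K)) with
          mul_comm := fun a b => by
            apply Subtype.ext
            have := Subgroup.mem_center_iff.mp a.2 (b : K)
            exact this.symm }
      exact CommGroup.isNilpotent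
    exact Group.nilpotent_of_mulEquiv e
  have hle := subnormal_nilpotent_le_fitting hsn hnil
  rw [hF, le_bot_iff] at hle
  exact (Subgroup.map_eq_bot_iff_of_injective _ (Subgroup.subtype_injective _)).mp hle

omit [Finite G] in
theorem comp_isSimpleGroup {K : Subgroup G} (hK : IsComponent K)
    (hZ : Subgroup.center K = ⊥) : IsSimpleGroup K := by
  have hnt : Nontrivial K := qs_nontrivial hK.2
  refine { exists_pair_ne := hnt.exists_pair_ne, eq_bot_or_eq_top_of_normal := ?_ }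
  intro N hN
  rcases qs_normal_eq_top_or_le_center hK.2 N with h | h
  · right; exact h
  · left
    rw [hZ, le_bot_iff] at h
    exact h

theorem comp_comm {L₁ L₂ : Subgroup G} (h₁ : IsComponent L₁) (h₂ : IsComponent L₂)
    (hne : L₁ ≠ L₂) {a b : G} (ha : a ∈ L₁) (hb : b ∈ L₂) : a * b = b * a := by
  have h := component_commutator_eq_bot_of_ne h₁ h₂ hne
  rw [Subgroup.commutator_eq_bot_iff_le_centralizer] at h
  have := Subgroup.mem_centralizer_iff.mp (h ha) b hb
  exact this.symm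

theorem comp_inf_eq_one {K L : Subgroup G} (hK : IsComponent K) (hL : IsComponent L)
    (hne : K ≠ L) (hKZ : Subgroup.center K = ⊥) {x : G} (hxK : x ∈ K) (hxL : x ∈ L) :
    x = 1 := by
  have h1 : (⟨x, hxK⟩ : K) ∈ Subgroup.center K := by
    rw [Subgroup.mem_center_iff]
    intro g
    apply Subtype.ext
    exact comp_comm hK hL hne g.2 hxL
  rw [hKZ, Subgroup.mem_bot] at h1
  exact congrArg Subtype.val h1

/-- an element of `K` commuting with all of `K` is trivial -/
theorem eq_one_of_central {K : Subgroup G} (hKZ : Subgroup.center K = ⊥) {x : G} (hxK : x ∈ K)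
    (hc : ∀ k ∈ K, k * x = x * k) : x = 1 := by
  have h1 : (⟨x, hxK⟩ : K) ∈ Subgroup.center K := by
    rw [Subgroup.mem_center_iff]
    intro g
    apply Subtype.ext
    exact hc g g.2
  rw [hKZ, Subgroup.mem_bot] at h1
  exact congrArg Subtype.val h1

theorem not_isPGroup_two {K : Subgroup G} (hKs : IsSimpleGroup K)
    (hKZ : Subgroup.center K = ⊥) : ¬ IsPGroup 2 K := by
  intro hK2
  have : Fact (Nat.Prime 2) := ⟨Nat.prime_two⟩
  have : Nontrivial K := hKs.toNontrivial
  have hnt := hK2.center_nontrivial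
  rw [hKZ] at hnt
  exact not_nontrivial _ hnt

theorem simple_no2 {K : Subgroup G} (hKs : IsSimpleGroup K) (hKZ : Subgroup.center K = ⊥) :
    ∀ D : Subgroup G, D ≤ K → IsPGroup 2 D → K ≤ Subgroup.normalizer (D : Set G) → D = ⊥ := by
  intro D hDK hD hn
  have h1 : (D.subgroupOf K).Normal := (Subgroup.normal_subgroupOf_iff_le_normalizer hDK).mpr hn
  rcases h1.eq_bot_or_eq_top with h | h
  · rw [Subgroup.subgroupOf_eq_bot] at h
    rw [eq_bot_iff]
    intro d hd
    exact (Subgroup.disjoint_def.mp h) hd (hDK hd)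
  · exfalso
    have hKD : K ≤ D := Subgroup.subgroupOf_eq_top.mp h
    exact not_isPGroup_two hKs hKZ (hD.to_le hKD)

theorem exists_odd_elt {K : Subgroup G} (hKs : IsSimpleGroup K)
    (hKZ : Subgroup.center K = ⊥) : ∃ h ∈ K, h ≠ 1 ∧ Odd (orderOf h) := by
  by_contra hcon
  push Not at hcon
  apply not_isPGroup_two hKs hKZ
  intro k
  have hn : orderOf (k : G) ≠ 0 := (orderOf_pos (k : G)).ne'
  obtain ⟨a, m, hm, hnm⟩ := Nat.exists_eq_two_pow_mul_odd hn
  refine ⟨a, ?_⟩
  apply Subtype.ext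
  have hy : ((k : G) ^ 2 ^ a) ^ m = 1 := by
    rw [← pow_mul, ← hnm, pow_orderOf_eq_one]
  have hyo : Odd (orderOf ((k : G) ^ 2 ^ a)) := Odd.of_dvd_nat hm (orderOf_dvd_of_pow_eq_one hy)
  have hyK : (k : G) ^ 2 ^ a ∈ K := K.pow_mem k.2 _
  by_contra hne
  apply hcon _ hyK _ hyo
  intro h
  apply hne
  simpa using h

/-- generalization of `mem_of_odd_of_sup` to `W ≤ N_G(N)` -/
theorem mem_of_odd_of_sup' (N W : Subgroup G) (hWN : W ≤ Subgroup.normalizer (N : Set G))
    (hW : ∀ w ∈ W, w * w = 1) {h : G} (hh : h ∈ N ⊔ W) (ho : Odd (orderOf h)) : h ∈ N := by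
  set M := Subgroup.normalizer (N : Set G) with hM
  have hNM : N ≤ M := Subgroup.le_normalizer
  have hhM : h ∈ M := (sup_le hNM hWN) hh
  have h1 : (⟨h, hhM⟩ : M) ∈ N.subgroupOf M ⊔ W.subgroupOf M := by
    rw [← Subgroup.subgroupOf_sup hNM hWN]
    exact hh
  have h2 : (⟨h, hhM⟩ : M) ∈ N.subgroupOf M := by
    apply mem_of_odd_of_sup (N.subgroupOf M) (W.subgroupOf M) _ h1
    · rw [← Subgroup.orderOf_coe]; exact ho
    · intro w hw
      apply Subtype.ext
      exact hW w hw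
  exact h2

/-- `V` normalizes every component -/
theorem comp_le_normalizer (hmin : MinG G) (V : Subgroup G) (hV : IsElementaryAbelian 2 V)
    (hS : IsSidkiPair V)
    (hkey : ∀ N : Subgroup G, N.Normal → N ≠ ⊥ →
      N ⊔ V = ⊤ ∧ Subgroup.centralizer (N : Set G) = ⊥)
    (hEV : layer G ⊔ V = ⊤) {K : Subgroup G} (hK : IsComponent K)
    (hKZ : Subgroup.center K = ⊥) (hKs : IsSimpleGroup K) :
    V ≤ Subgroup.normalizer (K : Set G) := by
  intro v hv
  by_contra hvn
  have hEn : (layer G).Normal := Cfsg.Agent.Lib.Helper29.layer_normal G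
  have hcomp : ∀ g : G, IsComponent (conjS K g) := fun g => isComponent_map_conj hK g
  have hne : K ≠ conjS K v := fun h => hvn (conjS_eq_iff.mp h.symm)
  obtain ⟨h, hhK, hh1, hho⟩ := exists_odd_elt hKs hKZ
  have hv2 := ea_sq hV hv
  have hvhv : v * h * v⁻¹ ∈ conjS K v := conj_mem_conjS hhK
  have hcomm : h⁻¹ * (v * h * v⁻¹) = (v * h * v⁻¹) * h⁻¹ :=
    comp_comm hK (hcomp v) hne (K.inv_mem hhK) hvhv
  have hinv : v * (h⁻¹ * (v * h * v⁻¹)) * v⁻¹ = (h⁻¹ * (v * h * v⁻¹))⁻¹ := by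
    calc v * (h⁻¹ * (v * h * v⁻¹)) * v⁻¹
        = (v * h * v⁻¹)⁻¹ * ((v * v) * h * (v * v)⁻¹) := by group
      _ = (v * h * v⁻¹)⁻¹ * h := by rw [hv2]; group
      _ = (h⁻¹ * (v * h * v⁻¹))⁻¹ := by group
  have hodd' : Odd (orderOf (h⁻¹ * (v * h * v⁻¹))) := by
    apply Cfsg.Agent.S3011.odd_orderOf_mul _ _ hcomm
    · rw [orderOf_inv]; exact hho
    · have : orderOf (v * h * v⁻¹) = orderOf h := by
        have := (MulAut.conj v).orderOf_eq h
        rwa [MulAut.conj_apply] at this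
      rw [this]; exact hho
  obtain ⟨w, hw, hw1, hwc⟩ := hS _ v hv hodd' hinv
  have hvw : v * w = w * v := ea_comm hV hv hw
  have hp : w * h⁻¹ * w⁻¹ ∈ conjS K w := conj_mem_conjS (K.inv_mem hhK)
  have hq : w * (v * h * v⁻¹) * w⁻¹ ∈ conjS K (w * v) := by
    have := conj_mem_conjS (g := w * v) hhK
    have e : w * v * h * (w * v)⁻¹ = w * (v * h * v⁻¹) * w⁻¹ := by group
    rwa [e] at this
  have hpq : (w * h⁻¹ * w⁻¹) * (w * (v * h * v⁻¹) * w⁻¹) = h⁻¹ * (v * h * v⁻¹) := by
    calc (w * h⁻¹ * w⁻¹) * (w * (v * h * v⁻¹) * w⁻¹)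
        = w * (h⁻¹ * (v * h * v⁻¹)) * w⁻¹ := by group
      _ = h⁻¹ * (v * h * v⁻¹) := by rw [hwc]; group
  -- some nontrivial element of `V` normalizes `K`
  have hu : ∃ u ∈ V, u ≠ 1 ∧ u ∈ Subgroup.normalizer (K : Set G) := by
    by_cases c1 : conjS K w = K
    · exact ⟨w, hw, hw1, conjS_eq_iff.mp c1⟩
    by_cases c2 : conjS K w = conjS K v
    · have c3 : conjS K (w * v) = K := by
        rw [← hvw, ← conjS_conjS, c2, conjS_conjS, hv2, conjS_one]
      refine ⟨w * v, V.mul_mem hw hv, ?_, conjS_eq_iff.mp c3⟩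
      intro hwv
      -- `p ∈ K^v`, `q ∈ K`
      have hp' : w * h⁻¹ * w⁻¹ ∈ conjS K v := c2 ▸ hp
      have hq' : w * (v * h * v⁻¹) * w⁻¹ ∈ K := c3 ▸ hq
      have hcpq : (w * (v * h * v⁻¹) * w⁻¹) * (w * h⁻¹ * w⁻¹)
          = (w * h⁻¹ * w⁻¹) * (w * (v * h * v⁻¹) * w⁻¹) := comp_comm hK (hcomp v) hne hq' hp'
      -- `h * q = (v h v⁻¹) * p⁻¹ ∈ K ∩ K^v`
      have hmem1 : h * (w * (v * h * v⁻¹) * w⁻¹) ∈ K := K.mul_mem hhK hq'
      have hmem2 : h * (w * (v * h * v⁻¹) * w⁻¹) ∈ conjS K v := by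
        have e : h * (w * (v * h * v⁻¹) * w⁻¹) = (v * h * v⁻¹) * (w * h⁻¹ * w⁻¹)⁻¹ := by
          have e1 : (w * (v * h * v⁻¹) * w⁻¹) * (w * h⁻¹ * w⁻¹) = h⁻¹ * (v * h * v⁻¹) := by
            rw [hcpq, hpq]
          calc h * (w * (v * h * v⁻¹) * w⁻¹)
              = h * ((w * (v * h * v⁻¹) * w⁻¹) * (w * h⁻¹ * w⁻¹)) * (w * h⁻¹ * w⁻¹)⁻¹ := by group
            _ = h * (h⁻¹ * (v * h * v⁻¹)) * (w * h⁻¹ * w⁻¹)⁻¹ := by rw [e1]
            _ = (v * h * v⁻¹) * (w * h⁻¹ * w⁻¹)⁻¹ := by group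
        rw [e]
        exact (conjS K v).mul_mem hvhv ((conjS K v).inv_mem hp')
      have hone := comp_inf_eq_one hK (hcomp v) hne hKZ hmem1 hmem2
      -- with `w * v = 1`: `w (v h v⁻¹) w⁻¹ = h`
      have e2 : w * (v * h * v⁻¹) * w⁻¹ = h := by
        calc w * (v * h * v⁻¹) * w⁻¹ = (w * v) * h * (w * v)⁻¹ := by group
          _ = h := by rw [hwv]; group
      rw [e2] at hone
      exact hh1 (Cfsg.Agent.S3011.eq_one_of_mul_self hho hone)
    · exfalso
      have c3 : conjS K (w * v) ≠ K := by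
        intro h3
        apply c2
        have e : w = v * (w * v) := by
          rw [← hvw, ← mul_assoc, hv2, one_mul]
        calc conjS K w = conjS K (v * (w * v)) := by rw [← e]
          _ = conjS (conjS K (w * v)) v := (conjS_conjS _ _ _).symm
          _ = conjS K v := by rw [h3]
      -- `h⁻¹ = p * q * (v h v⁻¹)⁻¹` commutes with all of `K`
      apply hh1
      have hcen : ∀ k ∈ K, k * h⁻¹ = h⁻¹ * k := by
        intro k hk
        have e : h⁻¹ = (w * h⁻¹ * w⁻¹) * (w * (v * h * v⁻¹) * w⁻¹) * (v * h * v⁻¹)⁻¹ := by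
          rw [hpq]; group
        have k1 : k * (w * h⁻¹ * w⁻¹) = (w * h⁻¹ * w⁻¹) * k :=
          comp_comm hK (hcomp w) (fun h' => c1 h'.symm) hk hp
        have k2 : k * (w * (v * h * v⁻¹) * w⁻¹) = (w * (v * h * v⁻¹) * w⁻¹) * k :=
          comp_comm hK (hcomp (w * v)) (fun h' => c3 h'.symm) hk hq
        have k3 : k * (v * h * v⁻¹)⁻¹ = (v * h * v⁻¹)⁻¹ * k :=
          comp_comm hK (hcomp v) hne hk ((conjS K v).inv_mem hvhv)
        rw [e]
        calc k * ((w * h⁻¹ * w⁻¹) * (w * (v * h * v⁻¹) * w⁻¹) * (v * h * v⁻¹)⁻¹)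
            = (k * (w * h⁻¹ * w⁻¹)) * (w * (v * h * v⁻¹) * w⁻¹) * (v * h * v⁻¹)⁻¹ := by group
          _ = (w * h⁻¹ * w⁻¹) * (k * (w * (v * h * v⁻¹) * w⁻¹)) * (v * h * v⁻¹)⁻¹ := by
              rw [k1]; group
          _ = (w * h⁻¹ * w⁻¹) * (w * (v * h * v⁻¹) * w⁻¹) * (k * (v * h * v⁻¹)⁻¹) := by
              rw [k2]; group
          _ = (w * h⁻¹ * w⁻¹) * (w * (v * h * v⁻¹) * w⁻¹) * (v * h * v⁻¹)⁻¹ * k := by
              rw [k3]; group
      have := eq_one_of_central hKZ (K.inv_mem hhK) hcen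
      exact inv_eq_one.mp this
  -- the pair `(K V_K, V_K)`
  set VK := V ⊓ Subgroup.normalizer (K : Set G) with hVK
  have hVK1 : VK ≠ ⊥ := by
    obtain ⟨u, hu, hu1, hun⟩ := hu
    intro hb
    have : u ∈ VK := ⟨hu, hun⟩
    rw [hb, Subgroup.mem_bot] at this
    exact hu1 this
  set H₀ := K ⊔ VK with hH₀
  have hH₀n : H₀ ≤ Subgroup.normalizer (K : Set G) := sup_le Subgroup.le_normalizer inf_le_right
  have hH₀top : H₀ ≠ ⊤ := by
    intro h
    apply hvn
    exact hH₀n (h ▸ Subgroup.mem_top v)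
  have hSK : ∀ x u : G, u ∈ VK → x ∈ H₀ → Odd (orderOf x) → u * x * u⁻¹ = x⁻¹ →
      ∃ w ∈ VK, w ≠ 1 ∧ w * x = x * w := by
    intro x u hu hx hox hux
    have hxK : x ∈ K := mem_of_odd_of_sup' K VK inf_le_right
      (fun w hw => ea_sq hV hw.1) hx hox
    by_cases hx1 : x = 1
    · obtain ⟨y, hy1⟩ := (Subgroup.ne_bot_iff_exists_ne_one).mp hVK1
      refine ⟨y, y.2, fun h => hy1 (Subtype.ext h), ?_⟩
      rw [hx1, mul_one, one_mul]
    obtain ⟨w', hw', hw'1, hw'c⟩ := hS x u hu.1 hox hux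
    refine ⟨w', ⟨hw', ?_⟩, hw'1, hw'c⟩
    by_contra hn
    apply hx1
    have hne' : K ≠ conjS K w' := fun h => hn (conjS_eq_iff.mp h.symm)
    have hxw : x ∈ conjS K w' := by
      have := conj_mem_conjS (g := w') hxK
      have e : w' * x * w'⁻¹ = x := by rw [hw'c]; group
      rwa [e] at this
    exact comp_inf_eq_one hK (hcomp w') hne' hKZ hxK hxw
  obtain ⟨w₀, hw₀, hw₀1, hw₀H, hw₀c⟩ := sub_apply hmin H₀ VK hH₀top le_sup_right
    (ea_of_le hV inf_le_left) hVK1 (fun h v hv hh ho hi => hSK h v hv hh ho hi)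
  have hw₀R := mem_coreIm hw₀H hw₀c
  have hcent := centralizes_of_mem_coreIm H₀ K le_sup_left hH₀n (simple_no2 hKs hKZ) hw₀R
  -- `w₀` centralizes the normal closure of `K`
  have hM1 : Subgroup.normalClosure (K : Set G) ≠ ⊥ := by
    intro hb
    have : h ∈ Subgroup.normalClosure (K : Set G) := Subgroup.le_normalClosure hhK
    rw [hb, Subgroup.mem_bot] at this
    exact hh1 this
  have hMc := (hkey (Subgroup.normalClosure (K : Set G)) inferInstance hM1).2
  have hle : Subgroup.normalClosure (K : Set G) ≤ Subgroup.centralizer ({w₀} : Set G) := by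
    unfold Subgroup.normalClosure
    rw [Subgroup.closure_le]
    intro x hx
    rw [Group.mem_conjugatesOfSet_iff] at hx
    obtain ⟨k, hk, hkx⟩ := hx
    rw [isConj_iff] at hkx
    obtain ⟨g, rfl⟩ := hkx
    -- `g = e * v'`
    have hg : g ∈ ((layer G : Subgroup G) : Set G) * (V : Set G) := by
      rw [← Subgroup.normal_mul, hEV]; exact Subgroup.mem_top _
    obtain ⟨e, he, v', hv', rfl⟩ := Set.mem_mul.mp hg
    have hmem : e * v' * k * (e * v')⁻¹ ∈ conjS K v' := by
      have h1 : v' * k * v'⁻¹ ∈ conjS K v' := conj_mem_conjS hk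
      have h2 := conj_mem_of_le_normalizer (layer_le_normalizer_component (hcomp v')) he h1
      have e' : e * v' * k * (e * v')⁻¹ = e * (v' * k * v'⁻¹) * e⁻¹ := by group
      rw [e']; exact h2
    rw [mem_conjS] at hmem
    set k' := v'⁻¹ * (e * v' * k * (e * v')⁻¹) * v' with hk'
    have hk'c := hcent k' hmem
    have hv'w : v' * w₀ = w₀ * v' := ea_comm hV hv' hw₀.1
    have hv'w' : v'⁻¹ * w₀ = w₀ * v'⁻¹ := by
      rw [ea_inv hV hv']; exact hv'w
    have ex : e * v' * k * (e * v')⁻¹ = v' * k' * v'⁻¹ := by rw [hk']; group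
    show e * v' * k * (e * v')⁻¹ ∈ Subgroup.centralizer ({w₀} : Set G)
    rw [Subgroup.mem_centralizer_iff]
    intro y hy
    rw [Set.mem_singleton_iff] at hy
    rw [hy, ex]
    calc w₀ * (v' * k' * v'⁻¹) = (w₀ * v') * k' * v'⁻¹ := by group
      _ = (v' * w₀) * k' * v'⁻¹ := by rw [hv'w]
      _ = v' * (w₀ * k') * v'⁻¹ := by group
      _ = v' * (k' * w₀) * v'⁻¹ := by rw [hk'c]
      _ = v' * k' * (w₀ * v'⁻¹) := by group
      _ = v' * k' * (v'⁻¹ * w₀) := by rw [hv'w']
      _ = v' * k' * v'⁻¹ * w₀ := by group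
  have hw₀M : w₀ ∈ Subgroup.centralizer ((Subgroup.normalClosure (K : Set G) : Subgroup G) : Set G) := by
    rw [Subgroup.mem_centralizer_iff]
    intro m hm
    have := Subgroup.mem_centralizer_iff.mp (hle hm) w₀ rfl
    exact this.symm
  rw [hMc, Subgroup.mem_bot] at hw₀M
  exact hw₀1 hw₀M

end stepE

open Cfsg.Agent.Lib.Helper21 in
/-- Minimal counterexample reduction for the Sidki pair problem. Let G be a finite group and V a nontrivial elementary abelian 2-subgroup satisfying the Sidki pair condition with V ∩ O₂(G) = 1. Suppose that for every finite group H of smaller order, every nontrivial elementary abelian 2-subgroup W of H satisfying the Sidki pair condition meets O₂(H) nontrivially, and that the same holds in G for every such subgroup W of order smaller than that of V. Then the generalized Fitting subgroup F*(G) is a non-abelian simple group and G = V F*(G). -/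
theorem result {G : Type u} [Group G] [Finite G] (V : Subgroup G) (hV : Cfsg.IsElementaryAbelian 2 V) (hV1 : V ≠ ⊥) (hS : Cfsg.IsSidkiPair V) (hVO : V ⊓ Cfsg.pCore 2 G = ⊥) (hminG : ∀ (H : Type u) [Group H] [Finite H] (W : Subgroup H), Nat.card H < Nat.card G → Cfsg.IsElementaryAbelian 2 W → W ≠ ⊥ → Cfsg.IsSidkiPair W → W ⊓ Cfsg.pCore 2 H ≠ ⊥) (hminV : ∀ W : Subgroup G, Nat.card W < Nat.card V → Cfsg.IsElementaryAbelian 2 W → W ≠ ⊥ → Cfsg.IsSidkiPair W → W ⊓ Cfsg.pCore 2 G ≠ ⊥) : IsSimpleGroup ↥(Cfsg.generalizedFittingSubgroup G) ∧ ¬ IsMulCommutative ↥(Cfsg.generalizedFittingSubgroup G) ∧ V ⊔ Cfsg.generalizedFittingSubgroup G = ⊤ := by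
  have hmin : MinG G := hminG
  have hO := pCore_two_eq_bot hmin V hV hV1 hS hVO
  -- no nontrivial abelian normal subgroups
  have hnoab : ∀ A : Subgroup G, A.Normal → (∀ a ∈ A, ∀ b ∈ A, a * b = b * a) → A = ⊥ := by
    intro A hAn hAc
    by_contra hA1
    obtain ⟨M, hMn, hM1, hMA, hMmin⟩ := Cfsg.Agent.S0551.exists_minimal_normal A hA1
    exact no_abelian_minimal_normal hmin V hV hV1 hS hO M hM1
      (fun a ha b hb => hAc a (hMA ha) b (hMA hb)) hMmin
  have hkey : ∀ N : Subgroup G, N.Normal → N ≠ ⊥ →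
      N ⊔ V = ⊤ ∧ Subgroup.centralizer (N : Set G) = ⊥ := fun N hNn hN1 =>
    key hmin V hV hV1 hS hO hnoab N hN1
  -- the Fitting subgroup is trivial
  have hF : fittingSubgroup G = ⊥ := by
    by_contra hF1
    have hFn : (fittingSubgroup G).Normal := Cfsg.Agent.Lib.Helper29.fittingSubgroup_normal G
    have hFnil : Group.IsNilpotent (fittingSubgroup G) :=
      Cfsg.Agent.Lib.Helper71.fittingSubgroup_isNilpotent
    have hnt : Nontrivial (fittingSubgroup G) := (Subgroup.nontrivial_iff_ne_bot _).mpr hF1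
    have hZ := Group.IsNilpotent.center_ne_bot (G := fittingSubgroup G)
    have hZn : ((Subgroup.center (fittingSubgroup G)).map (fittingSubgroup G).subtype).Normal :=
      inferInstance
    have hZb := hnoab _ hZn (by
      rintro a ⟨a', ha', rfl⟩ b ⟨b', hb', rfl⟩
      have := Subgroup.mem_center_iff.mp ha' b'
      have h2 := congrArg Subtype.val this
      simpa using h2.symm)
    apply hZ
    exact (Subgroup.map_eq_bot_iff_of_injective _ (Subgroup.subtype_injective _)).mp hZb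
  have hFE : generalizedFittingSubgroup G = layer G := by
    unfold generalizedFittingSubgroup
    rw [hF, sup_bot_eq]
  have hEn : (layer G).Normal := Cfsg.Agent.Lib.Helper29.layer_normal G
  have hE1 : layer G ≠ ⊥ := by
    intro hE
    have hcen := centralizer_generalizedFittingSubgroup_le (G := G)
    rw [hFE, hE] at hcen
    apply hV1
    rw [eq_bot_iff]
    intro v _
    apply hcen
    rw [Subgroup.mem_centralizer_iff]
    intro y hy
    rw [Subgroup.coe_bot, Set.mem_singleton_iff] at hy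
    rw [hy, mul_one, one_mul]
  obtain ⟨hEV, -⟩ := hkey (layer G) hEn hE1
  -- a component
  obtain ⟨K, hK⟩ : ∃ K : Subgroup G, IsComponent K := by
    by_contra hcon
    push Not at hcon
    apply hE1
    rw [eq_bot_iff]
    apply sSup_le
    intro K hK
    exact absurd hK (hcon K)
  have hKZ := comp_center_eq_bot hF hK
  have hKs := comp_isSimpleGroup hK hKZ
  have hKna : ¬ IsMulCommutative K := qs_not_isMulCommutative hK.2
  -- `K` is normal
  have hVn := comp_le_normalizer hmin V hV hS hkey hEV hK hKZ hKs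
  have hKn : K.Normal := by
    apply Subgroup.normalizer_eq_top_iff.mp
    rw [eq_top_iff, ← hEV]
    exact sup_le (layer_le_normalizer_component hK) hVn
  have hK1 : K ≠ ⊥ := by
    intro h
    have := hKs.toNontrivial
    rw [h] at this
    exact not_nontrivial _ this
  obtain ⟨hKV, hKC⟩ := hkey K hKn hK1
  -- the layer is `K`
  have hlayer : layer G = K := by
    apply le_antisymm
    · apply sSup_le
      intro L hL
      rcases component_le_or_commutator_eq_bot_of_normal hL hKn with h | h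
      · exact h
      · exfalso
        rw [Subgroup.commutator_eq_bot_iff_le_centralizer, hKC, le_bot_iff] at h
        have := qs_nontrivial hL.2
        rw [h] at this
        exact not_nontrivial _ this
    · exact component_le_layer hK
  rw [hFE, hlayer]
  refine ⟨hKs, hKna, ?_⟩
  rw [sup_comm]
  exact hKV

end Cfsg.Agent.S3048
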