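import Mathlib
import Cfsg.Statements.S3053
import Cfsg.Agent.S0012
import Cfsg.Agent.S2848
import Cfsg.Agent.Lib.Helper24.PGroupBasic
import Cfsg.Agent.Lib.Helper33.SylIn
import Cfsg.Agent.Lib.Helper85.FusionGroupSat

set_option autoImplicit false
set_option linter.unusedSectionVars false
open Cfsg

namespace Cfsg.Agent.S3053

section typelevel

variable {Q : Type*} [Group Q] [Finite Q] {p : ℕ} [hpf : Fact p.Prime]

theorem comm_mem_center (hE : IsExtraspecial p Q) (x w : Q) :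
    x * w * x⁻¹ * w⁻¹ ∈ Subgroup.center Q := by
  rw [← hE.1.2.2, commutator_def]
  exact Subgroup.commutator_mem_commutator (Subgroup.mem_top x) (Subgroup.mem_top w)

theorem center_pow (hE : IsExtraspecial p Q) {c : Q} (hc : c ∈ Subgroup.center Q) : c ^ p = 1 := by
  have h : (⟨c, hc⟩ : Subgroup.center Q) ^ Nat.card (Subgroup.center Q) = 1 := pow_card_eq_one'
  rw [hE.2] at h
  have := congrArg Subtype.val h
  simpa using this

theorem pow_mem_center (hE : IsExtraspecial p Q) (x : Q) : x ^ p ∈ Subgroup.center Q := by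
  rw [← hE.1.2.1]
  exact (Cfsg.Agent.S0012.result p hE.1.1).2 x

theorem pow_hom (hp : p ≠ 2) (hE : IsExtraspecial p Q) (x w : Q) :
    (x * w) ^ p = x ^ p * w ^ p := by
  set c := w * x * w⁻¹ * x⁻¹ with hc
  have hcz : c ∈ Subgroup.center Q := comm_mem_center hE w x
  have h1 : w * x = c * x * w := by rw [hc]; group
  have hcx : Commute c x := (Subgroup.mem_center_iff.mp hcz x).symm
  have hcw : Commute c w := (Subgroup.mem_center_iff.mp hcz w).symm
  rw [Cfsg.Agent.Lib.Helper24.mul_pow_of_central_comm x w c h1 hcx hcw p]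
  have hpp := hpf.out
  have h2 : p ∣ p.choose 2 := by
    apply hpp.dvd_choose_self (by norm_num)
    have := hpp.two_le
    omega
  obtain ⟨k, hk⟩ := h2
  rw [hk, pow_mul, center_pow hE hcz, one_pow, mul_one]

/-- The `p`-power map as a homomorphism. -/
noncomputable def powHom (hp : p ≠ 2) (hE : IsExtraspecial p Q) : Q →* Q where
  toFun x := x ^ p
  map_one' := one_pow p
  map_mul' := pow_hom hp hE

theorem exists_pow_ne_one (hexp : Monoid.exponent Q = p ^ 2) : ∃ a : Q, a ^ p ≠ 1 := by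
  by_contra h
  push Not at h
  have h1 : Monoid.exponent Q ∣ p := Monoid.exponent_dvd_of_forall_pow_eq_one h
  rw [hexp] at h1
  have hpp := hpf.out
  have : p ^ 2 ≤ p := Nat.le_of_dvd hpp.pos h1
  have h2 := hpp.two_le
  nlinarith


theorem mem_ker_powHom (hp : p ≠ 2) (hE : IsExtraspecial p Q) (x : Q) :
    x ∈ (powHom hp hE).ker ↔ x ^ p = 1 := by
  rw [MonoidHom.mem_ker]; rfl

theorem card_ker (hp : p ≠ 2) (hE : IsExtraspecial p Q) (hcard : Nat.card Q = p ^ 3)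
    (hexp : Monoid.exponent Q = p ^ 2) : Nat.card (powHom hp hE).ker = p ^ 2 := by
  have hpp := hpf.out
  set φ := powHom hp hE with hφ
  have h1 : Nat.card φ.ker * Nat.card φ.range = p ^ 3 := by
    rw [← hcard, ← Subgroup.index_ker, Subgroup.card_mul_index]
  have hle : φ.range ≤ Subgroup.center Q := by
    rintro _ ⟨x, rfl⟩
    exact pow_mem_center hE x
  have hdvd : Nat.card φ.range ∣ p := by
    rw [← hE.2]; exact Subgroup.card_dvd_of_le hle
  have hne : Nat.card φ.range ≠ 1 := by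
    intro h
    rw [Subgroup.card_eq_one] at h
    obtain ⟨a, ha⟩ := exists_pow_ne_one (p := p) hexp
    have : φ a ∈ φ.range := ⟨a, rfl⟩
    rw [h, Subgroup.mem_bot] at this
    exact ha this
  have hr : Nat.card φ.range = p := by
    rcases (Nat.dvd_prime hpp).mp hdvd with h | h
    · exact absurd h hne
    · exact h
  rw [hr] at h1
  have : Nat.card φ.ker * p = p ^ 2 * p := by rw [h1]; ring
  exact Nat.eq_of_mul_eq_mul_right hpp.pos this

/-- Elements of order dividing `p` commute. -/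
theorem comm_of_pow (hp : p ≠ 2) (hE : IsExtraspecial p Q) (hcard : Nat.card Q = p ^ 3)
    (hexp : Monoid.exponent Q = p ^ 2) {x y : Q} (hx : x ^ p = 1) (hy : y ^ p = 1) :
    x * y = y * x := by
  have hc := card_ker hp hE hcard hexp
  have hcomm : IsMulCommutative (powHom hp hE).ker := IsPGroup.isMulCommutative_of_card_eq_prime_sq hc
  have := hcomm.is_comm.comm
    (⟨x, (mem_ker_powHom hp hE x).mpr hx⟩ : (powHom hp hE).ker) ⟨y, (mem_ker_powHom hp hE y).mpr hy⟩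
  have := congrArg Subtype.val this
  simpa using this

/-- The centralizer of a noncentral element of order `p` consists of elements of order dividing `p`. -/
theorem pow_eq_one_of_comm (hp : p ≠ 2) (hE : IsExtraspecial p Q) (hcard : Nat.card Q = p ^ 3)
    (hexp : Monoid.exponent Q = p ^ 2) {x y : Q} (hy : y ^ p = 1)
    (hyc : y ∉ Subgroup.center Q) (hxy : x * y = y * x) : x ^ p = 1 := by
  have hpp := hpf.out
  by_contra hx
  set K := (powHom hp hE).ker with hK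
  have hxK : x ∉ K := fun h => hx ((mem_ker_powHom hp hE x).mp h)
  set A := K ⊔ Subgroup.zpowers x with hA
  have hlt : K < A := by
    refine lt_of_le_of_ne le_sup_left ?_
    intro h
    apply hxK
    rw [h]
    exact Subgroup.mem_sup_right (Subgroup.mem_zpowers x)
  have h1 : Nat.card K < Nat.card A := Cfsg.Agent.Lib.Helper33.card_lt_card_of_lt hlt
  have h2 : Nat.card K ∣ Nat.card A := Subgroup.card_dvd_of_le le_sup_left
  have h3 : Nat.card A ∣ p ^ 3 := by rw [← hcard]; exact Subgroup.card_subgroup_dvd_card A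
  rw [card_ker hp hE hcard hexp] at h1 h2
  obtain ⟨j, hj3, hj⟩ := (Nat.dvd_prime_pow hpp).mp h3
  have hj2 : 2 < j := by
    rw [hj] at h1
    exact (Nat.pow_lt_pow_iff_right hpp.one_lt).mp h1
  have hj' : j = 3 := by omega
  have hAtop : A = ⊤ := by
    rw [← Subgroup.card_eq_iff_eq_top, hj, hj', hcard]
  have hAle : A ≤ Subgroup.centralizer {y} := by
    rw [hA]
    apply sup_le
    · intro k hk
      rw [Subgroup.mem_centralizer_singleton_iff]
      exact (comm_of_pow hp hE hcard hexp ((mem_ker_powHom hp hE k).mp hk) hy).symm ▸ rfl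
    · rw [Subgroup.zpowers_le]
      rw [Subgroup.mem_centralizer_singleton_iff]
      exact hxy.symm ▸ rfl
  apply hyc
  rw [Subgroup.mem_center_iff]
  intro g
  have hg : g ∈ Subgroup.centralizer {y} := hAle (hAtop ▸ Subgroup.mem_top g)
  rw [Subgroup.mem_centralizer_singleton_iff] at hg
  exact hg.symm ▸ rfl

/-- Any nontrivial central element generates the centre. -/
theorem exists_pow_eq (hE : IsExtraspecial p Q) {ζ z : Q} (hζ : ζ ∈ Subgroup.center Q)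
    (hζ1 : ζ ≠ 1) (hz : z ∈ Subgroup.center Q) : ∃ k : ℕ, z = ζ ^ k := by
  have h1 : Subgroup.zpowers (⟨ζ, hζ⟩ : Subgroup.center Q) = ⊤ :=
    zpowers_eq_top_of_prime_card hE.2 (fun h => hζ1 (by simpa using congrArg Subtype.val h))
  have h2 : (⟨z, hz⟩ : Subgroup.center Q) ∈ Subgroup.zpowers (⟨ζ, hζ⟩ : Subgroup.center Q) := by
    rw [h1]; exact Subgroup.mem_top _
  rw [← mem_powers_iff_mem_zpowers] at h2
  obtain ⟨k, hk⟩ := h2
  refine ⟨k, ?_⟩
  have := congrArg Subtype.val hk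
  simpa using this.symm

end typelevel


section general

variable {G : Type*} [Group G]

theorem conj_pow_of_central {a y ζ : G} (h : a * y * a⁻¹ = ζ * y) (hζa : Commute ζ a)
    (k : ℕ) : a ^ k * y * (a ^ k)⁻¹ = ζ ^ k * y := by
  induction k with
  | zero => simp
  | succ k ih =>
    have h1 : a ^ (k + 1) * y * (a ^ (k + 1))⁻¹ = a * (a ^ k * y * (a ^ k)⁻¹) * a⁻¹ := by
      rw [pow_succ']; group
    rw [h1, ih]
    have h2 : a * (ζ ^ k * y) * a⁻¹ = (a * ζ ^ k * a⁻¹) * (a * y * a⁻¹) := by group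
    have h3 : a * ζ ^ k * a⁻¹ = ζ ^ k := by
      have := (hζa.pow_left k).eq
      rw [← this]; group
    rw [h2, h3, h, ← mul_assoc, ← pow_succ]

theorem eq_one_of_sq_of_pow {p : ℕ} (hpp : p.Prime) (hp : p ≠ 2) {ζ : G} (h2 : ζ ^ 2 = 1)
    (hp1 : ζ ^ p = 1) : ζ = 1 := by
  have h1 : orderOf ζ ∣ 2 := orderOf_dvd_of_pow_eq_one h2
  have h3 : orderOf ζ ∣ p := orderOf_dvd_of_pow_eq_one hp1
  have hcop : Nat.Coprime 2 p := by
    rw [Nat.coprime_primes Nat.prime_two hpp]; exact fun h => hp h.symm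
  have : orderOf ζ ∣ 1 := by
    have := Nat.dvd_gcd h1 h3
    rwa [hcop.gcd_eq_one] at this
  exact orderOf_eq_one_iff.mp (Nat.dvd_one.mp this)

end general

section main

variable {G : Type*} [Group G] [Finite G] {p : ℕ} [hpf : Fact p.Prime]

/-- The centre of `P` as a subgroup of `G`. -/
abbrev ZZ (P : Sylow p G) : Subgroup G := (Subgroup.center ↥P).map (P : Subgroup G).subtype

theorem mem_ZZ_iff (P : Sylow p G) {z : G} :
    z ∈ ZZ P ↔ ∃ hz : z ∈ (P : Subgroup G), (⟨z, hz⟩ : (P : Subgroup G)) ∈ Subgroup.center ↥P := by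
  constructor
  · rintro ⟨⟨x, hx⟩, hxc, rfl⟩
    exact ⟨hx, hxc⟩
  · rintro ⟨hz, hc⟩
    exact ⟨⟨z, hz⟩, hc, rfl⟩

theorem ZZ_le (P : Sylow p G) : ZZ P ≤ (P : Subgroup G) := Subgroup.map_subtype_le _

variable (P : Sylow p G) (hp : p ≠ 2) (hE : Cfsg.IsExtraspecial p ↥P)
  (hcard : Nat.card P = p ^ 3) (hexp : Monoid.exponent ↥P = p ^ 2)

include hE in
theorem G2 {z x : G} (hz : z ∈ ZZ P) (hx : x ∈ (P : Subgroup G)) : x * z = z * x := by
  obtain ⟨hzP, hc⟩ := (mem_ZZ_iff P).mp hz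
  have := Subgroup.mem_center_iff.mp hc ⟨x, hx⟩
  have := congrArg Subtype.val this
  simpa using this

include hE in
theorem G3 {x w : G} (hx : x ∈ (P : Subgroup G)) (hw : w ∈ (P : Subgroup G)) :
    x * w * x⁻¹ * w⁻¹ ∈ ZZ P := by
  rw [mem_ZZ_iff]
  refine ⟨(P : Subgroup G).mul_mem ((P : Subgroup G).mul_mem ((P : Subgroup G).mul_mem hx hw)
    ((P : Subgroup G).inv_mem hx)) ((P : Subgroup G).inv_mem hw), ?_⟩
  exact comm_mem_center hE ⟨x, hx⟩ ⟨w, hw⟩

include hE in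
theorem G4 {x : G} (hx : x ∈ (P : Subgroup G)) : x ^ p ∈ ZZ P := by
  rw [mem_ZZ_iff]
  exact ⟨(P : Subgroup G).pow_mem hx p, pow_mem_center hE ⟨x, hx⟩⟩

include hE hp in
theorem G5 {x w : G} (hx : x ∈ (P : Subgroup G)) (hw : w ∈ (P : Subgroup G)) :
    (x * w) ^ p = x ^ p * w ^ p := by
  have := pow_hom hp hE (⟨x, hx⟩ : (P : Subgroup G)) ⟨w, hw⟩
  have := congrArg Subtype.val this
  simpa using this

include hexp in
theorem G6 : ∃ a ∈ (P : Subgroup G), a ^ p ≠ 1 := by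
  obtain ⟨a, ha⟩ := exists_pow_ne_one (p := p) hexp
  refine ⟨a, a.2, ?_⟩
  intro h
  apply ha
  apply Subtype.ext
  simpa using h

include hE hp hcard hexp in
theorem G7 {x y : G} (hx : x ∈ (P : Subgroup G)) (hy : y ∈ (P : Subgroup G))
    (hxp : x ^ p = 1) (hyp : y ^ p = 1) : x * y = y * x := by
  have h1 : (⟨x, hx⟩ : (P : Subgroup G)) ^ p = 1 := by apply Subtype.ext; simpa using hxp
  have h2 : (⟨y, hy⟩ : (P : Subgroup G)) ^ p = 1 := by apply Subtype.ext; simpa using hyp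
  have := comm_of_pow hp hE hcard hexp h1 h2
  have := congrArg Subtype.val this
  simpa using this

include hE hp hcard hexp in
theorem G8 {x y : G} (hx : x ∈ (P : Subgroup G)) (hy : y ∈ (P : Subgroup G))
    (hyp : y ^ p = 1) (hyZ : y ∉ ZZ P) (hxy : x * y = y * x) : x ^ p = 1 := by
  have h2 : (⟨y, hy⟩ : (P : Subgroup G)) ^ p = 1 := by apply Subtype.ext; simpa using hyp
  have h3 : (⟨y, hy⟩ : (P : Subgroup G)) ∉ Subgroup.center ↥P := fun h =>
    hyZ ((mem_ZZ_iff P).mpr ⟨hy, h⟩)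
  have h4 : (⟨x, hx⟩ : (P : Subgroup G)) * ⟨y, hy⟩ = ⟨y, hy⟩ * ⟨x, hx⟩ := by
    apply Subtype.ext; simpa using hxy
  have := pow_eq_one_of_comm hp hE hcard hexp h2 h3 h4
  have := congrArg Subtype.val this
  simpa using this

include hE in
theorem G9 {ζ z : G} (hζ : ζ ∈ ZZ P) (hζ1 : ζ ≠ 1) (hz : z ∈ ZZ P) : ∃ k : ℕ, z = ζ ^ k := by
  obtain ⟨hζP, hζc⟩ := (mem_ZZ_iff P).mp hζ
  obtain ⟨hzP, hzc⟩ := (mem_ZZ_iff P).mp hz
  obtain ⟨k, hk⟩ := exists_pow_eq hE hζc (fun h => hζ1 (by simpa using congrArg Subtype.val h)) hzc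
  refine ⟨k, ?_⟩
  have := congrArg Subtype.val hk
  simpa using this

include hE in
theorem G10 {z : G} (hz : z ∈ ZZ P) : z ^ p = 1 := by
  obtain ⟨hzP, hzc⟩ := (mem_ZZ_iff P).mp hz
  have := center_pow hE hzc
  have := congrArg Subtype.val this
  simpa using this


/-- `Ω₁(P)` as a subgroup of `G`. -/
noncomputable def EE : Subgroup G := ((powHom hp hE).ker).map (P : Subgroup G).subtype

theorem mem_EE_iff {x : G} : x ∈ EE P hp hE ↔ x ∈ (P : Subgroup G) ∧ x ^ p = 1 := by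
  unfold EE
  constructor
  · rintro ⟨⟨x, hx⟩, hk, rfl⟩
    refine ⟨hx, ?_⟩
    have := (mem_ker_powHom hp hE _).mp hk
    have := congrArg Subtype.val this
    simpa using this
  · rintro ⟨hx, hxp⟩
    refine ⟨⟨x, hx⟩, ?_, rfl⟩
    apply (mem_ker_powHom hp hE _).mpr
    apply Subtype.ext
    simpa using hxp

open Cfsg.Agent.Lib.Helper33 in
include hcard hexp in
theorem stepC {z y g : G} (hz : z ∈ ZZ P) (hy : y ∈ (P : Subgroup G)) (hyp : y ^ p = 1)
    (hgy : g * z * g⁻¹ = y) :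
    ∃ g1 : G, g1 * z * g1⁻¹ = y ∧ EE P hp hE ≤ cj g1 (P : Subgroup G) := by
  set K := Subgroup.centralizer ({y} : Set G) with hK
  have hEK : EE P hp hE ≤ K := by
    intro x hx
    obtain ⟨hxP, hxp⟩ := (mem_EE_iff P hp hE).mp hx
    rw [hK, Subgroup.mem_centralizer_singleton_iff]
    exact G7 P hp hE hcard hexp hxP hy hxp hyp
  have hEp : IsPGroup p (EE P hp hE) :=
    P.isPGroup'.to_le (fun x hx => ((mem_EE_iff P hp hE).mp hx).1)
  have hPK : cj g (P : Subgroup G) ≤ K := by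
    intro x hx
    rw [mem_cj] at hx
    rw [hK, Subgroup.mem_centralizer_singleton_iff, ← hgy]
    have := G2 P hE hz hx
    calc x * (g * z * g⁻¹) = g * ((g⁻¹ * x * g) * z) * g⁻¹ := by group
      _ = g * (z * (g⁻¹ * x * g)) * g⁻¹ := by rw [this]
      _ = g * z * g⁻¹ * x := by group
  have hSyl : SylIn p (cj g (P : Subgroup G)) K := by
    refine ⟨hPK, isPGroup_cj P.isPGroup', ?_⟩
    have h0 := (sylIn_top P).cj g
    rw [cj_top] at h0
    intro hdvd
    apply h0.not_dvd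
    rw [Subgroup.relIndex_top_right]
    exact dvd_trans hdvd (Subgroup.relIndex_dvd_index_of_le hPK)
  obtain ⟨c, hcK, hle⟩ := hSyl.exists_cj_le hEK hEp
  refine ⟨c⁻¹ * g, ?_, ?_⟩
  · rw [hK, Subgroup.mem_centralizer_singleton_iff] at hcK
    calc c⁻¹ * g * z * (c⁻¹ * g)⁻¹ = c⁻¹ * (g * z * g⁻¹) * c := by group
      _ = c⁻¹ * y * c := by rw [hgy]
      _ = c⁻¹ * (c * y) := by rw [mul_assoc, ← hcK]
      _ = y := by group
  · rw [cj_mul]
    exact cj_le_iff.mp hle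

open Cfsg.Agent.Lib.Helper33 in
theorem stepD {g1 : G} (hle : EE P hp hE ≤ cj g1 (P : Subgroup G)) :
    cj g1⁻¹ (EE P hp hE) = EE P hp hE := by
  have h1 : cj g1⁻¹ (EE P hp hE) ≤ EE P hp hE := by
    intro x hx
    rw [mem_cj, inv_inv] at hx
    have h2 := hle hx
    rw [mem_cj] at h2
    have h3 : g1⁻¹ * (g1 * x * g1⁻¹) * g1 = x := by group
    rw [h3] at h2
    rw [mem_EE_iff]
    refine ⟨h2, ?_⟩
    have h4 := ((mem_EE_iff P hp hE).mp hx).2
    have h5 : (g1 * x * g1⁻¹) ^ p = g1 * x ^ p * g1⁻¹ := conj_pow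
    rw [h5] at h4
    have : x ^ p = g1⁻¹ * (g1 * x ^ p * g1⁻¹) * g1 := by group
    rw [this, h4]; group
  exact Subgroup.eq_of_le_of_card_ge h1 (by rw [card_cj])


open Cfsg.Agent.Lib.Helper33 in
include hcard hexp in
theorem exists_inverting {z y g1 : G} (hz : z ∈ ZZ P) (hz1 : z ≠ 1) (hy : y ∈ (P : Subgroup G))
    (hyp : y ^ p = 1) (hyZ : y ∉ ZZ P) (hgy : g1 * z * g1⁻¹ = y)
    (hcjE : cj g1⁻¹ (EE P hp hE) = EE P hp hE) :
    ∃ t : G, t * z * t⁻¹ = z⁻¹ ∧ t * y * t⁻¹ = y⁻¹ := by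
  have hzP : z ∈ (P : Subgroup G) := ZZ_le P hz
  have hzp : z ^ p = 1 := G10 P hE hz
  have hzE : z ∈ EE P hp hE := (mem_EE_iff P hp hE).mpr ⟨hzP, hzp⟩
  set z' := g1⁻¹ * z * g1 with hz'
  have hzz' : g1 * z' * g1⁻¹ = z := by rw [hz']; group
  have hz'E : z' ∈ EE P hp hE := by
    rw [← hcjE, mem_cj, inv_inv, hzz']; exact hzE
  obtain ⟨hz'P, hz'p⟩ := (mem_EE_iff P hp hE).mp hz'E
  have hz'1 : z' ≠ 1 := by
    intro h
    apply hz1
    rw [← hzz', h]; group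
  have hz'Z : z' ∉ ZZ P := by
    intro h
    obtain ⟨k, hk⟩ := G9 P hE h hz'1 hz
    apply hyZ
    have : y = z ^ k := by
      rw [← hgy]
      conv_lhs => rw [hk]
      rw [← hzz', conj_pow]
    rw [this]
    exact (ZZ P).pow_mem hz k
  obtain ⟨a, haP, hap⟩ := G6 P hexp
  -- ζ
  set ζ := a * y * a⁻¹ * y⁻¹ with hζ
  have hζZ : ζ ∈ ZZ P := G3 P hE haP hy
  have hζ1 : ζ ≠ 1 := by
    intro h
    apply hap
    apply G8 P hp hE hcard hexp haP hy hyp hyZ
    have : a * y = (a * y * a⁻¹ * y⁻¹) * (y * a) := by group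
    rw [this, ← hζ, h, one_mul]
  set ξ' := a * z' * a⁻¹ * z'⁻¹ with hξ'
  have hξ'Z : ξ' ∈ ZZ P := G3 P hE haP hz'P
  have hξ'1 : ξ' ≠ 1 := by
    intro h
    apply hap
    apply G8 P hp hE hcard hexp haP hz'P hz'p hz'Z
    have : a * z' = (a * z' * a⁻¹ * z'⁻¹) * (z' * a) := by group
    rw [this, ← hξ', h, one_mul]
  obtain ⟨k, hk⟩ := G9 P hE hζZ hζ1 hz
  obtain ⟨l, hl⟩ := G9 P hE hξ'Z hξ'1 ((ZZ P).inv_mem hz)
  -- u
  set u := a ^ k with hu
  have huP : u ∈ (P : Subgroup G) := (P : Subgroup G).pow_mem haP k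
  have hu_z : u * z * u⁻¹ = z := by
    rw [G2 P hE hz huP]; group
  have hay : a * y * a⁻¹ = ζ * y := by rw [hζ]; group
  have hζa : Commute ζ a := (G2 P hE hζZ haP).symm
  have hu_y : u * y * u⁻¹ = z * y := by
    rw [hu, conj_pow_of_central hay hζa k, ← hk]
  -- v
  set a1 := g1 * a * g1⁻¹ with ha1
  set ξ := g1 * ξ' * g1⁻¹ with hξ
  have ha1z : a1 * z * a1⁻¹ = ξ * z := by
    rw [ha1, hξ, hξ']
    conv_lhs => rw [← hzz']
    conv_rhs => rw [← hzz']
    group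
  have hξ'a : Commute ξ' a := (G2 P hE hξ'Z haP).symm
  have hξa1 : Commute ξ a1 := by
    show ξ * a1 = a1 * ξ
    rw [hξ, ha1]
    have := hξ'a.eq
    calc g1 * ξ' * g1⁻¹ * (g1 * a * g1⁻¹) = g1 * (ξ' * a) * g1⁻¹ := by group
      _ = g1 * (a * ξ') * g1⁻¹ := by rw [this]
      _ = g1 * a * g1⁻¹ * (g1 * ξ' * g1⁻¹) := by group
  set v := a1 ^ l with hv
  have hξl : ξ ^ l = y⁻¹ := by
    rw [hξ, conj_pow, ← hl, ← hgy]; group
  have hv_z : v * z * v⁻¹ = y⁻¹ * z := by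
    rw [hv, conj_pow_of_central ha1z hξa1 l, hξl]
  have ha1y : a1 * y = y * a1 := by
    rw [ha1, ← hgy]
    have := G2 P hE hz haP
    calc g1 * a * g1⁻¹ * (g1 * z * g1⁻¹) = g1 * (a * z) * g1⁻¹ := by group
      _ = g1 * (z * a) * g1⁻¹ := by rw [this]
      _ = g1 * z * g1⁻¹ * (g1 * a * g1⁻¹) := by group
  have hv_y : v * y * v⁻¹ = y := by
    have : Commute v y := by
      rw [hv]; exact (show Commute a1 y from ha1y).pow_left l
    rw [this.eq]; group
  have hzy : z * y = y * z := (G2 P hE hz hy).symm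
  -- w
  set w := u * v * u with hw
  have hw_z : w * z * w⁻¹ = y⁻¹ := by
    have e1 : w * z * w⁻¹ = u * (v * (u * z * u⁻¹) * v⁻¹) * u⁻¹ := by rw [hw]; group
    rw [e1, hu_z, hv_z]
    have e2 : u * (y⁻¹ * z) * u⁻¹ = (u * y * u⁻¹)⁻¹ * (u * z * u⁻¹) := by group
    rw [e2, hu_y, hu_z]
    group
  have hw_y : w * y * w⁻¹ = z := by
    have e1 : w * y * w⁻¹ = u * (v * (u * y * u⁻¹) * v⁻¹) * u⁻¹ := by rw [hw]; group
    rw [e1, hu_y]
    have e2 : v * (z * y) * v⁻¹ = (v * z * v⁻¹) * (v * y * v⁻¹) := by group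
    rw [e2, hv_z, hv_y]
    have e3 : y⁻¹ * z * y = z := by rw [mul_assoc, hzy]; group
    rw [e3, hu_z]
  refine ⟨w * w, ?_, ?_⟩
  · have e1 : w * w * z * (w * w)⁻¹ = w * (w * z * w⁻¹) * w⁻¹ := by group
    rw [e1, hw_z]
    have e2 : w * y⁻¹ * w⁻¹ = (w * y * w⁻¹)⁻¹ := by group
    rw [e2, hw_y]
  · have e1 : w * w * y * (w * w)⁻¹ = w * (w * y * w⁻¹) * w⁻¹ := by group
    rw [e1, hw_y, hw_z]

include hE hp hcard hexp in
theorem E_decomp {z y e : G} (hz : z ∈ ZZ P) (hz1 : z ≠ 1) (hy : y ∈ (P : Subgroup G))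
    (hyp : y ^ p = 1) (hyZ : y ∉ ZZ P) (he : e ∈ (P : Subgroup G)) (hep : e ^ p = 1) :
    ∃ i k : ℕ, e = z ^ i * y ^ k := by
  obtain ⟨a, haP, hap⟩ := G6 P hexp
  set ζ := a * y * a⁻¹ * y⁻¹ with hζ
  have hζZ : ζ ∈ ZZ P := G3 P hE haP hy
  have hζ1 : ζ ≠ 1 := by
    intro h
    apply hap
    apply G8 P hp hE hcard hexp haP hy hyp hyZ
    have : a * y = (a * y * a⁻¹ * y⁻¹) * (y * a) := by group
    rw [this, ← hζ, h, one_mul]
  set η := a * e * a⁻¹ * e⁻¹ with hη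
  have hηZ : η ∈ ZZ P := G3 P hE haP he
  obtain ⟨k, hk⟩ := G9 P hE hζZ hζ1 hηZ
  have hay : a * y * a⁻¹ = ζ * y := by rw [hζ]; group
  have hae : a * e * a⁻¹ = η * e := by rw [hη]; group
  have hζy : Commute ζ y := (G2 P hE hζZ hy).symm
  have hayk : a * y ^ k * a⁻¹ = ζ ^ k * y ^ k := by
    have : a * y ^ k * a⁻¹ = (a * y * a⁻¹) ^ k := conj_pow.symm
    rw [this, hay, hζy.mul_pow]
  set f := e * (y ^ k)⁻¹ with hf
  have hykP : (y ^ k)⁻¹ ∈ (P : Subgroup G) :=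
    (P : Subgroup G).inv_mem ((P : Subgroup G).pow_mem hy k)
  have hfP : f ∈ (P : Subgroup G) := (P : Subgroup G).mul_mem he hykP
  have haf : a * f = f * a := by
    have h1 : a * f * a⁻¹ = f := by
      calc a * f * a⁻¹ = (a * e * a⁻¹) * (a * y ^ k * a⁻¹)⁻¹ := by rw [hf]; group
        _ = η * e * (ζ ^ k * y ^ k)⁻¹ := by rw [hae, hayk]
        _ = η * f * η⁻¹ := by rw [← hk, hf]; group
        _ = f := by rw [← G2 P hE hηZ hfP]; group
    calc a * f = (a * f * a⁻¹) * a := by group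
      _ = f * a := by rw [h1]
  have hfp : f ^ p = 1 := by
    rw [hf, G5 P hp hE he hykP, hep, one_mul, inv_pow, ← pow_mul, mul_comm, pow_mul, hyp,
      one_pow, inv_one]
  have hfZ : f ∈ ZZ P := by
    by_contra hfZ
    exact hap (G8 P hp hE hcard hexp haP hfP hfp hfZ haf)
  obtain ⟨i, hi⟩ := G9 P hE hz hz1 hfZ
  refine ⟨i, k, ?_⟩
  rw [← hi, hf]; group

include hE hp hcard hexp in
theorem inverts_E {z y t e : G} (hz : z ∈ ZZ P) (hz1 : z ≠ 1) (hy : y ∈ (P : Subgroup G))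
    (hyp : y ^ p = 1) (hyZ : y ∉ ZZ P) (htz : t * z * t⁻¹ = z⁻¹) (hty : t * y * t⁻¹ = y⁻¹)
    (he : e ∈ EE P hp hE) : t * e * t⁻¹ = e⁻¹ := by
  obtain ⟨heP, hep⟩ := (mem_EE_iff P hp hE).mp he
  obtain ⟨i, k, rfl⟩ := E_decomp P hp hE hcard hexp hz hz1 hy hyp hyZ heP hep
  have hzy : Commute z y := (G2 P hE hz hy).symm
  calc t * (z ^ i * y ^ k) * t⁻¹ = (t * z * t⁻¹) ^ i * (t * y * t⁻¹) ^ k := by
        rw [conj_pow, conj_pow]; group
    _ = (z⁻¹) ^ i * (y⁻¹) ^ k := by rw [htz, hty]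
    _ = (z ^ i * y ^ k)⁻¹ := by
        rw [mul_inv_rev, inv_pow, inv_pow]
        exact ((hzy.pow_pow i k).inv_inv).eq

open Cfsg.Agent.Lib.Helper33 Cfsg.Agent.Lib.Helper85 in
include hE hp hcard hexp in
theorem exists_normalizing {t : G} (hinv : ∀ e ∈ EE P hp hE, t * e * t⁻¹ = e⁻¹) :
    ∃ t1 : G, cj t1 (P : Subgroup G) = P ∧ ∀ e ∈ EE P hp hE, t1 * e * t1⁻¹ = e⁻¹ := by
  set E := EE P hp hE with hEdef
  set C := Subgroup.centralizer (E : Set G) with hC
  have hPE : ∀ π ∈ (P : Subgroup G), ∀ e ∈ E, π * e * π⁻¹ ∈ E := by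
    intro π hπ e he
    obtain ⟨heP, hep⟩ := (mem_EE_iff P hp hE).mp he
    rw [hEdef, mem_EE_iff]
    refine ⟨(P : Subgroup G).mul_mem ((P : Subgroup G).mul_mem hπ heP)
      ((P : Subgroup G).inv_mem hπ), ?_⟩
    rw [conj_pow, hep]; group
  have hPN : (P : Subgroup G) ≤ Subgroup.normalizer (E : Set G) := by
    intro π hπ
    rw [Subgroup.mem_normalizer_iff]
    intro e
    constructor
    · exact hPE π hπ e
    · intro h
      have := hPE π⁻¹ ((P : Subgroup G).inv_mem hπ) _ h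
      have h2 : π⁻¹ * (π * e * π⁻¹) * π⁻¹⁻¹ = e := by group
      rwa [h2] at this
  have hPNC : (P : Subgroup G) ≤ Subgroup.normalizer (C : Set G) :=
    hPN.trans (Cfsg.Agent.S2848.normalizer_le_normalizer_centralizer E)
  have hinv' : ∀ e ∈ E, t⁻¹ * e * t = e⁻¹ := by
    intro e he
    have := hinv e⁻¹ (E.inv_mem he)
    rw [inv_inv] at this
    calc t⁻¹ * e * t = t⁻¹ * (t * e⁻¹ * t⁻¹) * t := by rw [this]
      _ = e⁻¹ := by group
  have hle : cj t (P : Subgroup G) ≤ (P : Subgroup G) ⊔ C := by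
    intro x hx
    rw [mem_cj] at hx
    set π := t⁻¹ * x * t with hπ
    have hx' : x = π * (π⁻¹ * t * π * t⁻¹) := by rw [hπ]; group
    rw [hx']
    apply Subgroup.mul_mem_sup hx
    rw [hC, Subgroup.mem_centralizer_iff]
    intro e he
    have h1 : π * e * π⁻¹ ∈ E := hPE π hx e he
    have h2 : t⁻¹ * e * t = e⁻¹ := hinv' e he
    have h3 : t * (π * e * π⁻¹)⁻¹ * t⁻¹ = π * e * π⁻¹ := by
      have := hinv _ (E.inv_mem h1)
      rwa [inv_inv] at this
    have h4 : (π⁻¹ * t * π * t⁻¹) * e * (π⁻¹ * t * π * t⁻¹)⁻¹ = e := by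
      calc (π⁻¹ * t * π * t⁻¹) * e * (π⁻¹ * t * π * t⁻¹)⁻¹
          = π⁻¹ * (t * (π * (t⁻¹ * e * t) * π⁻¹) * t⁻¹) * π := by group
        _ = π⁻¹ * (t * (π * e⁻¹ * π⁻¹) * t⁻¹) * π := by rw [h2]
        _ = π⁻¹ * (t * (π * e * π⁻¹)⁻¹ * t⁻¹) * π := by group
        _ = π⁻¹ * (π * e * π⁻¹) * π := by rw [h3]
        _ = e := by group
    calc e * (π⁻¹ * t * π * t⁻¹)
        = ((π⁻¹ * t * π * t⁻¹) * e * (π⁻¹ * t * π * t⁻¹)⁻¹) * (π⁻¹ * t * π * t⁻¹) := by rw [h4]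
      _ = (π⁻¹ * t * π * t⁻¹) * e := by group
  have hS1 : SylIn p (P : Subgroup G) ((P : Subgroup G) ⊔ C) := sylIn_of_sylow_le P le_sup_left
  have hS2 : SylIn p (cj t (P : Subgroup G)) ((P : Subgroup G) ⊔ C) := by
    refine ⟨hle, isPGroup_cj P.isPGroup', ?_⟩
    have h0 := (sylIn_top P).cj t
    rw [cj_top] at h0
    intro hdvd
    apply h0.not_dvd
    rw [Subgroup.relIndex_top_right]
    exact dvd_trans hdvd (Subgroup.relIndex_dvd_index_of_le hle)
  obtain ⟨k, hkK, hk⟩ := hS1.exists_cj_eq hS2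
  obtain ⟨π, hπ, c, hc, rfl⟩ := mem_sup_of_le_normalizer hPNC hkK
  refine ⟨c * t, ?_, ?_⟩
  · have h1 : cj π (cj (c * t) (P : Subgroup G)) = P := by
      rw [← cj_mul, ← mul_assoc, cj_mul (π * c) t]; exact hk
    calc cj (c * t) (P : Subgroup G) = cj π⁻¹ (cj π (cj (c * t) (P : Subgroup G))) :=
          (cj_inv_cj π _).symm
      _ = cj π⁻¹ (P : Subgroup G) := by rw [h1]
      _ = P := cj_eq_self_of_mem ((P : Subgroup G).inv_mem hπ)
  · intro e he
    have h1 := hinv e he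
    rw [hC, Subgroup.mem_centralizer_iff] at hc
    have h2 := hc e⁻¹ (E.inv_mem he)
    calc c * t * e * (c * t)⁻¹ = c * (t * e * t⁻¹) * c⁻¹ := by group
      _ = c * e⁻¹ * c⁻¹ := by rw [h1]
      _ = e⁻¹ * c * c⁻¹ := by rw [h2]
      _ = e⁻¹ := by group

open Cfsg.Agent.Lib.Helper33 in
include hE hp hcard hexp in
theorem final_contra {z y t1 : G} (hz : z ∈ ZZ P) (hz1 : z ≠ 1) (hy : y ∈ (P : Subgroup G))
    (hyp : y ^ p = 1) (hyZ : y ∉ ZZ P) (hN : cj t1 (P : Subgroup G) = P)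
    (htz : t1 * z * t1⁻¹ = z⁻¹) (hty : t1 * y * t1⁻¹ = y⁻¹) : False := by
  obtain ⟨a, haP, hap⟩ := G6 P hexp
  set ζ := a * y * a⁻¹ * y⁻¹ with hζ
  have hζZ : ζ ∈ ZZ P := G3 P hE haP hy
  have hζ1 : ζ ≠ 1 := by
    intro h
    apply hap
    apply G8 P hp hE hcard hexp haP hy hyp hyZ
    have : a * y = (a * y * a⁻¹ * y⁻¹) * (y * a) := by group
    rw [this, ← hζ, h, one_mul]
  set b := t1 * a * t1⁻¹ with hb
  have hbP : b ∈ (P : Subgroup G) := by
    have : b ∈ cj t1 (P : Subgroup G) := conj_mem_cj haP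
    rwa [hN] at this
  have hinvZ : ∀ w ∈ ZZ P, t1 * w * t1⁻¹ = w⁻¹ := by
    intro w hw
    obtain ⟨m, rfl⟩ := G9 P hE hz hz1 hw
    rw [← conj_pow, htz, inv_pow]
  have hbp : b ^ p = (a ^ p)⁻¹ := by
    rw [hb, conj_pow, hinvZ _ (G4 P hE haP)]
  have hbap : (b * a) ^ p = 1 := by
    rw [G5 P hp hE hbP haP, hbp, inv_mul_cancel]
  have hcomm : (b * a) * y = y * (b * a) :=
    G7 P hp hE hcard hexp ((P : Subgroup G).mul_mem hbP haP) hy hbap hyp
  have hay : a * y * a⁻¹ = ζ * y := by rw [hζ]; group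
  have hty' : t1⁻¹ * y * t1 = y⁻¹ := by
    have h : t1 * y⁻¹ * t1⁻¹ = y := by
      calc t1 * y⁻¹ * t1⁻¹ = (t1 * y * t1⁻¹)⁻¹ := by group
        _ = y := by rw [hty, inv_inv]
    calc t1⁻¹ * y * t1 = t1⁻¹ * (t1 * y⁻¹ * t1⁻¹) * t1 := by rw [h]
      _ = y⁻¹ := by group
  have hby : b * y * b⁻¹ = ζ * y := by
    calc b * y * b⁻¹ = t1 * (a * (t1⁻¹ * y * t1) * a⁻¹) * t1⁻¹ := by rw [hb]; group
      _ = t1 * (a * y⁻¹ * a⁻¹) * t1⁻¹ := by rw [hty']
      _ = t1 * (a * y * a⁻¹)⁻¹ * t1⁻¹ := by group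
      _ = t1 * (ζ * y)⁻¹ * t1⁻¹ := by rw [hay]
      _ = (t1 * y * t1⁻¹)⁻¹ * (t1 * ζ * t1⁻¹)⁻¹ := by group
      _ = y * ζ := by rw [hty, hinvZ ζ hζZ, inv_inv, inv_inv]
      _ = ζ * y := G2 P hE hζZ hy
  have hbay : (b * a) * y * (b * a)⁻¹ = ζ ^ 2 * y := by
    calc (b * a) * y * (b * a)⁻¹ = b * (a * y * a⁻¹) * b⁻¹ := by group
      _ = b * (ζ * y) * b⁻¹ := by rw [hay]
      _ = (b * ζ) * y * b⁻¹ := by group
      _ = (ζ * b) * y * b⁻¹ := by rw [G2 P hE hζZ hbP]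
      _ = ζ * (b * y * b⁻¹) := by group
      _ = ζ * (ζ * y) := by rw [hby]
      _ = ζ ^ 2 * y := by rw [pow_two, mul_assoc ζ ζ y]
  have hζ2 : ζ ^ 2 = 1 := by
    have h1 : (b * a) * y * (b * a)⁻¹ = y := by rw [hcomm]; group
    rw [h1] at hbay
    have h2 : 1 * y = ζ ^ 2 * y := by rw [one_mul]; exact hbay
    exact (mul_right_cancel h2).symm
  exact hζ1 (eq_one_of_sq_of_pow hpf.out hp hζ2 (G10 P hE hζZ))

end main

/-- Let p be an odd prime and G a finite group with a Sylow p-subgroup P that is extraspecial of order p³ and exponent p². Then the centre of P is strongly closed in P with respect to G: a G-conjugate of an element of Z(P) that lies in P already lies in Z(P). In particular a nontrivial central element of P is conjugate in G to no noncentral element of P. -/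
theorem result {G : Type*} [Group G] [Finite G]
    {p : ℕ} [Fact p.Prime] (hp : p ≠ 2) (P : Sylow p G) (hE : Cfsg.IsExtraspecial p ↥P)
    (hcard : Nat.card P = p ^ 3) (hexp : Monoid.exponent ↥P = p ^ 2) :
    Cfsg.IsStronglyClosed ((Subgroup.center ↥P).map (P : Subgroup G).subtype) (P : Subgroup G) := by
  refine ⟨ZZ_le P, ?_⟩
  intro z hz g hgP
  by_contra hyZ
  set y := g * z * g⁻¹ with hy
  have hz1 : z ≠ 1 := by
    intro h
    apply hyZ
    rw [hy, h]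
    simp
  have hyp : y ^ p = 1 := by
    rw [hy, conj_pow, G10 P hE hz]; group
  obtain ⟨g1, hg1, hle⟩ := stepC P hp hE hcard hexp hz hgP hyp hy.symm
  have hcjE := stepD P hp hE hle
  obtain ⟨t, htz, hty⟩ := exists_inverting P hp hE hcard hexp hz hz1 hgP hyp hyZ hg1 hcjE
  obtain ⟨t1, hN, hinv⟩ := exists_normalizing P hp hE hcard hexp
    (fun e he => inverts_E P hp hE hcard hexp hz hz1 hgP hyp hyZ htz hty he)
  have hzE : z ∈ EE P hp hE := (mem_EE_iff P hp hE).mpr ⟨ZZ_le P hz, G10 P hE hz⟩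
  have hyE : y ∈ EE P hp hE := (mem_EE_iff P hp hE).mpr ⟨hgP, hyp⟩
  exact final_contra P hp hE hcard hexp hz hz1 hgP hyp hyZ hN (hinv z hzE) (hinv y hyE)

end Cfsg.Agent.S3053
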