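import Cfsg.Statements.S3055
import Cfsg.Agent.Lib.Helper70.ES3.Main

set_option autoImplicit false
open Cfsg

namespace Cfsg.Agent.S3055

open Cfsg.Agent.Lib.Helper70.ES3 in
/-- Let p be an odd prime and G a finite group with a Sylow p-subgroup P that is extraspecial of order p³ and exponent p. If all nonidentity elements of P are conjugate in G, then p ≤ 7. -/
theorem result {G : Type*} [Group G] [Finite G]
    {p : ℕ} [Fact p.Prime] (hp : p ≠ 2) (P : Sylow p G) (hE : Cfsg.IsExtraspecial p ↥P)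
    (hcard : Nat.card P = p ^ 3) (hexp : Monoid.exponent ↥P = p)
    (hconj : ∀ x y : ↥P, x ≠ 1 → y ≠ 1 → ∃ g : G, g * (x : G) * g⁻¹ = (y : G)) :
    p ≤ 7 := by
  by_contra hlt
  push Not at hlt
  have hpp : p.Prime := Fact.out
  have h11 : 11 ≤ p := by
    by_contra h
    push Not at h
    interval_cases p <;> simp_all (config := {decide := true})
  obtain ⟨ρ, v, hρP, hv0, -, hvsurj, hact⟩ := exists_rep_lines P hE hcard hexp
  obtain ⟨l, hl⟩ := exists_generator p
  have hW := card_range_coprime P ρ hρP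
  refine fin_all hp h11 ρ.range hW l hl ?_
  intro u hu
  obtain ⟨A, hAP, hAcard, c, hc⟩ := hvsurj u hu
  obtain ⟨w, hw, h1, h2⟩ := torus_in_range P hE hcard hexp ρ v hact A hAP hAcard
    (hSL_of_hconj P hE hcard hexp hconj A hAP hAcard) l
  refine ⟨w, hw, ?_, h2⟩
  rw [hc, Matrix.mulVec_smul, h1, smul_comm]

end Cfsg.Agent.S3055
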