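import Cfsg.Statements.S3057
import Cfsg.Agent.S0058
import Cfsg.Agent.S3056
import Cfsg.Agent.Lib.Helper51.SylowGraph
import Cfsg.Agent.Lib.Helper51.UniqueOrderP
import Cfsg.Agent.Lib.Helper76.PCore
import Mathlib
-- import your own Cfsg.Agent.* helpers here

set_option autoImplicit false
open Cfsg

namespace Cfsg.Agent.S3057

open Subgroup S3056 Cfsg.Agent.Lib.Helper51
open scoped Pointwise

/-! ### Uniqueness of the subgroup of order `p` in cyclic and quaternion groups
(the first five lemmas are taken from helper46's `S2777`). -/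

theorem cyclic_unique {α : Type*} [Group α] [Finite α] [IsCyclic α] {p : ℕ} (hp : p.Prime)
    (x y : α) (hx : x ^ p = 1) (hy : y ^ p = 1) (hy1 : y ≠ 1) : x ∈ Subgroup.zpowers y := by
  classical
  have := Fintype.ofFinite α
  have h1 : (Finset.univ.filter (fun a : α => a ^ p = 1)).card ≤ p :=
    IsCyclic.card_pow_eq_one_le hp.pos
  have hfp : Fact p.Prime := ⟨hp⟩
  have hord : orderOf y = p := orderOf_eq_prime hy hy1
  have h2 : (Finset.univ.filter (fun a : α => a ∈ Subgroup.zpowers y)).card = p := by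
    rw [← hord, ← Nat.card_zpowers, Nat.card_eq_fintype_card, Fintype.card_subtype]
  have hsub : Finset.univ.filter (fun a : α => a ∈ Subgroup.zpowers y) ⊆
      Finset.univ.filter (fun a : α => a ^ p = 1) := by
    intro a ha
    simp only [Finset.mem_filter, Finset.mem_univ, true_and] at ha ⊢
    obtain ⟨k, rfl⟩ := ha
    rw [← zpow_natCast, ← zpow_mul, mul_comm, zpow_mul, zpow_natCast, hy, one_zpow]
  have heq := Finset.eq_of_subset_of_card_le hsub (by rw [h2]; exact h1)
  have hxm : x ∈ Finset.univ.filter (fun a : α => a ^ p = 1) := by simp [hx]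
  rw [← heq] at hxm
  simpa using hxm

theorem natCast_ne_zero_two_mul (n : ℕ) [NeZero n] : ((n : ℕ) : ZMod (2 * n)) ≠ 0 := by
  intro h
  rw [ZMod.natCast_eq_zero_iff] at h
  have hn : 0 < n := Nat.pos_of_ne_zero (NeZero.ne n)
  have := Nat.le_of_dvd hn h
  omega

theorem zmod_two_mul_eq_zero (n : ℕ) [NeZero n] (i : ZMod (2 * n)) (h : i + i = 0) :
    i = 0 ∨ i = (n : ZMod (2 * n)) := by
  have hn : 0 < n := Nat.pos_of_ne_zero (NeZero.ne n)
  have hi : i = ((i.val : ℕ) : ZMod (2 * n)) := (ZMod.natCast_zmod_val i).symm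
  have hlt : i.val < 2 * n := ZMod.val_lt i
  have h2 : (((i.val + i.val : ℕ)) : ZMod (2 * n)) = 0 := by
    rw [Nat.cast_add, ← hi]; exact h
  rw [ZMod.natCast_eq_zero_iff] at h2
  obtain ⟨k, hk⟩ := h2
  have hk' : i.val = n * k := by
    have : 2 * i.val = 2 * (n * k) := by rw [← mul_assoc, ← hk]; ring
    omega
  have hk2 : k < 2 := by
    by_contra hcon
    push Not at hcon
    have : n * 2 ≤ n * k := Nat.mul_le_mul_left n hcon
    omega
  interval_cases k
  · left; rw [hi, hk']; simp
  · right; rw [hi, hk']; simp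

theorem quaternion_sq_eq_one (n : ℕ) [NeZero n] (x : QuaternionGroup n) (hx : x ^ 2 = 1) :
    x = 1 ∨ x = QuaternionGroup.a (n : ZMod (2 * n)) := by
  rcases x with i | i
  · rw [sq, QuaternionGroup.a_mul_a, QuaternionGroup.one_def] at hx
    have h0 : i + i = 0 := by
      injection hx
    rcases zmod_two_mul_eq_zero n i h0 with h | h
    · left; rw [h, QuaternionGroup.one_def]
    · right; rw [h]
  · exfalso
    rw [QuaternionGroup.xa_sq, QuaternionGroup.one_def] at hx
    have : ((n : ℕ) : ZMod (2 * n)) = 0 := by injection hx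
    exact natCast_ne_zero_two_mul n this

theorem quaternion_unique (n : ℕ) [NeZero n] (x y : QuaternionGroup n) (hx : x ^ 2 = 1)
    (hy : y ^ 2 = 1) (hy1 : y ≠ 1) : x ∈ Subgroup.zpowers y := by
  rcases quaternion_sq_eq_one n y hy with h | h
  · exact absurd h hy1
  · rcases quaternion_sq_eq_one n x hx with h' | h'
    · rw [h']; exact Subgroup.one_mem _
    · rw [h', ← h]; exact Subgroup.mem_zpowers y

/-- Cyclic and generalized quaternion groups have at most one subgroup of order `p`. -/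
theorem uniqueOrderP_of_cyclic_or_quaternion {P : Type*} [Group P] [Finite P] (p : ℕ)
    [hp : Fact p.Prime]
    (h : IsCyclic P ∨ (p = 2 ∧ ∃ n : ℕ, Nonempty (P ≃* QuaternionGroup (2 ^ n)))) :
    UniqueOrderP p P := by
  -- elementwise uniqueness
  have key : ∀ x y : P, x ^ p = 1 → y ^ p = 1 → y ≠ 1 → x ∈ zpowers y := by
    rcases h with hc | ⟨rfl, n, ⟨e⟩⟩
    · intro x y hx hy hy1
      exact cyclic_unique hp.out x y hx hy hy1
    · intro x y hx hy hy1
      have : NeZero (2 ^ n) := ⟨by positivity⟩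
      have h1 : (e x) ^ 2 = 1 := by rw [← map_pow, hx, map_one]
      have h2 : (e y) ^ 2 = 1 := by rw [← map_pow, hy, map_one]
      have h3 : e y ≠ 1 := fun h0 => hy1 (e.injective (by rw [h0, map_one]))
      obtain ⟨k, hk⟩ := quaternion_unique (2 ^ n) _ _ h1 h2 h3
      refine ⟨k, ?_⟩
      apply e.injective
      rw [map_zpow]; exact hk
  have hle : ∀ H K : Subgroup P, Nat.card H = p → Nat.card K = p → H ≤ K := by
    intro H K hH hK x hx
    have hx' : x ^ p = 1 := by
      have := pow_card_eq_one' (G := H) (x := ⟨x, hx⟩)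
      rw [hH] at this
      exact congrArg Subtype.val this
    have hKnt : K ≠ ⊥ := by
      intro h0
      rw [h0, Subgroup.card_bot] at hK
      exact hp.out.ne_one hK.symm
    obtain ⟨y, hy1⟩ := (Subgroup.ne_bot_iff_exists_ne_one).mp hKnt
    have hy' : (y : P) ^ p = 1 := by
      have := pow_card_eq_one' (G := K) (x := y)
      rw [hK] at this
      exact congrArg Subtype.val this
    have := key x y hx' hy' (fun h0 => hy1 (Subtype.ext h0))
    exact (zpowers_le.mpr y.2) this
  intro H K hH hK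
  exact le_antisymm (hle H K hH hK) (hle K H hK hH)

/-- Transport of `UniqueOrderP` along an isomorphism. -/
theorem uniqueOrderP_of_equiv {p : ℕ} {P Q : Type*} [Group P] [Group Q] (e : P ≃* Q)
    (h : UniqueOrderP p P) : UniqueOrderP p Q := by
  intro H K hH hK
  have h1 := h (H.map e.symm.toMonoidHom) (K.map e.symm.toMonoidHom)
    (by rw [Subgroup.card_map_of_injective e.symm.injective]; exact hH)
    (by rw [Subgroup.card_map_of_injective e.symm.injective]; exact hK)
  exact Subgroup.map_injective e.symm.injective h1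

/-- Elementwise form of uniqueness inside a subgroup. -/
theorem zpowers_eq_of_uniqueOrderP {G : Type*} [Group G] {p : ℕ} (Q : Subgroup G)
    (h : UniqueOrderP p Q) (x y : G) (hx : x ∈ Q) (hy : y ∈ Q) (hxp : orderOf x = p)
    (hyp : orderOf y = p) : zpowers x = zpowers y := by
  have h1 := h.zpowers_eq (⟨x, hx⟩ : Q) ⟨y, hy⟩ (by rw [Subgroup.orderOf_mk]; exact hxp)
    (by rw [Subgroup.orderOf_mk]; exact hyp)
  have h2 := congrArg (Subgroup.map Q.subtype) h1
  rw [MonoidHom.map_zpowers, MonoidHom.map_zpowers] at h2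
  exact h2


/-- A nontrivial element of a Sylow `p`-subgroup has a power of order `p`. -/
theorem exists_orderOf_eq_mem_zpowers {G : Type*} [Group G] [Finite G] {p : ℕ} [hp : Fact p.Prime]
    (Q : Sylow p G) (y : G) (hy : y ∈ Q) (hy1 : y ≠ 1) :
    ∃ y' ∈ zpowers y, orderOf y' = p := by
  have hz : IsPGroup p (zpowers y) := Q.isPGroup'.to_le (zpowers_le.mpr hy)
  have hdvd : p ∣ Nat.card (zpowers y) := by
    rcases hz.card_eq_or_dvd with h | h
    · exfalso
      apply hy1
      have := Subgroup.card_eq_one.mp h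
      have h2 : y ∈ zpowers y := mem_zpowers y
      rw [this, mem_bot] at h2
      exact h2
    · exact h
  obtain ⟨y', hy'⟩ := exists_prime_orderOf_dvd_card' p hdvd
  exact ⟨y', y'.2, by rw [Subgroup.orderOf_coe]; exact hy'⟩

/-- With `O_p(G) = 1` and a unique subgroup of order `p` in a Sylow `p`-subgroup, the Sylow graph
is disconnected. -/
theorem not_conn_of_unique {G : Type*} [Group G] [Finite G] (p : ℕ) [hp : Fact p.Prime]
    (hdiv : p ∣ Nat.card G) (P : Sylow p G) (hcore : Cfsg.pCore p G = ⊥)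
    (hu : UniqueOrderP p ↥(P : Subgroup G)) : ¬ ∀ S T : Sylow p G, Conn p S T := by
  intro hconn
  have hdiv' : p ∣ Nat.card (⊤ : Subgroup G) := by rw [Subgroup.card_top]; exact hdiv
  obtain ⟨z, hzP, -, hzp⟩ := exists_orderOf_eq_mem_sylow P ⊤ hdiv'
  have huQ : ∀ Q : Sylow p G, UniqueOrderP p ↥(Q : Subgroup G) := fun Q =>
    uniqueOrderP_of_equiv (P.equiv Q) hu
  have hall : ∀ Q : Sylow p G, Conn p P Q → z ∈ Q := by
    intro Q hQ
    induction hQ with
    | refl => exact hzP
    | @tail Q₁ Q₂ _ hab ih =>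
      obtain ⟨y, hy1, hyQ₁, hyQ₂⟩ := (inf_ne_bot_iff _ _).mp hab.2
      obtain ⟨y', hy'z, hy'p⟩ := exists_orderOf_eq_mem_zpowers Q₁ y hyQ₁ hy1
      have hy'Q₁ : y' ∈ Q₁ := (zpowers_le.mpr hyQ₁) hy'z
      have hy'Q₂ : y' ∈ Q₂ := (zpowers_le.mpr hyQ₂) hy'z
      have := zpowers_eq_of_uniqueOrderP (Q₁ : Subgroup G) (huQ Q₁) z y' ih hy'Q₁ hzp hy'p
      have hz' : z ∈ zpowers y' := this ▸ mem_zpowers z
      exact (zpowers_le.mpr hy'Q₂) hz'
  -- the intersection of all Sylow subgroups
  set N : Subgroup G := ⨅ Q : Sylow p G, (Q : Subgroup G) with hN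
  have hzN : z ∈ N := by
    rw [hN, Subgroup.mem_iInf]
    intro Q
    exact hall Q (hconn P Q)
  have hNn : N.Normal := by
    constructor
    intro x hx g
    rw [hN, Subgroup.mem_iInf] at hx ⊢
    intro Q
    have h1 := hx (g⁻¹ • Q)
    have h2 : x ∈ (g⁻¹ • Q : Sylow p G) := h1
    rw [mem_smul_sylow, inv_inv] at h2
    exact h2
  have hNp : IsPGroup p N := P.isPGroup'.to_le (iInf_le _ P)
  have hNle : N ≤ Cfsg.pCore p G := Cfsg.Agent.Lib.Helper76.le_pCore p N hNn hNp
  rw [hcore] at hNle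
  have hz1 : z = 1 := (Subgroup.mem_bot).mp (hNle hzN)
  rw [hz1, orderOf_one] at hzp
  exact hp.out.ne_one hzp.symm

/-- If `O_p(G) ≠ 1` the Sylow graph is connected. -/
theorem conn_of_pCore_ne_bot {G : Type*} [Group G] [Finite G] (p : ℕ) [hp : Fact p.Prime]
    (hcore : Cfsg.pCore p G ≠ ⊥) (S T : Sylow p G) : Conn p S T := by
  by_cases hST : S = T
  · rw [hST]; exact Relation.ReflTransGen.refl
  · apply Relation.ReflTransGen.single
    refine ⟨hST, ?_⟩
    intro h
    apply hcore
    rw [eq_bot_iff, ← h]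
    exact le_inf (Cfsg.Agent.Lib.Helper76.pCore_le_sylow p S)
      (Cfsg.Agent.Lib.Helper76.pCore_le_sylow p T)

/-- A Sylow subgroup with more than one subgroup of order `p` contains a noncyclic abelian
subgroup. -/
theorem exists_noncyclic_of_not_unique {G : Type*} [Group G] [Finite G] (p : ℕ) [hp : Fact p.Prime]
    (S : Sylow p G) (hnu : ¬ UniqueOrderP p ↥(S : Subgroup G)) :
    ∃ A : Subgroup G, A ≤ S ∧ IsMulCommutative A ∧ ¬ IsCyclic A := by
  unfold UniqueOrderP at hnu
  push Not at hnu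
  obtain ⟨H, K, hH, hK, hHK⟩ := hnu
  have hSp : IsPGroup p ↥(S : Subgroup G) := S.isPGroup'
  have hSnt : Nontrivial ↥(S : Subgroup G) := by
    have : H ≠ ⊥ := by
      intro h0
      rw [h0, Subgroup.card_bot] at hH
      exact hp.out.ne_one hH.symm
    obtain ⟨a, ha⟩ := (Subgroup.ne_bot_iff_exists_ne_one).mp this
    exact ⟨⟨(a : S), 1, fun h0 => ha (Subtype.ext h0)⟩⟩
  -- a central element of order p
  have hZnt : Nontrivial (Subgroup.center ↥(S : Subgroup G)) := hSp.center_nontrivial
  have hZp : IsPGroup p (Subgroup.center ↥(S : Subgroup G)) := hSp.to_subgroup _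
  have hdvd : p ∣ Nat.card (Subgroup.center ↥(S : Subgroup G)) := by
    rcases hZp.card_eq_or_dvd with h | h
    · exfalso
      have := (Nat.card_eq_one_iff_unique.mp h).1
      exact not_subsingleton _ this
    · exact h
  obtain ⟨z', hz'⟩ := exists_prime_orderOf_dvd_card' p hdvd
  set z : ↥(S : Subgroup G) := (z' : ↥(S : Subgroup G)) with hzdef
  have hzp : orderOf z = p := by rw [hzdef, Subgroup.orderOf_coe]; exact hz'
  have hzc : ∀ x : ↥(S : Subgroup G), z * x = x * z := fun x =>
    (Subgroup.mem_center_iff.mp z'.2 x).symm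
  -- a subgroup of order p different from ⟨z⟩
  obtain ⟨H', hH', hH'z⟩ : ∃ H' : Subgroup ↥(S : Subgroup G), Nat.card H' = p ∧ H' ≠ zpowers z := by
    by_cases h1 : H = zpowers z
    · refine ⟨K, hK, ?_⟩
      intro h2
      exact hHK (h1.trans h2.symm)
    · exact ⟨H, hH, h1⟩
  have hH'nt : H' ≠ ⊥ := by
    intro h0
    rw [h0, Subgroup.card_bot] at hH'
    exact hp.out.ne_one hH'.symm
  obtain ⟨w', hw'1⟩ := (Subgroup.ne_bot_iff_exists_ne_one).mp hH'nt
  set w : ↥(S : Subgroup G) := (w' : ↥(S : Subgroup G)) with hwdef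
  have hw1 : w ≠ 1 := fun h0 => hw'1 (Subtype.ext h0)
  have hwp : orderOf w = p := by
    have h1 : w ^ p = 1 := by
      have := pow_card_eq_one' (G := H') (x := w')
      rw [hH'] at this
      exact congrArg Subtype.val this
    exact orderOf_eq_prime h1 hw1
  have hwH' : zpowers w = H' := by
    apply Subgroup.eq_of_le_of_card_ge (zpowers_le.mpr w'.2)
    rw [Nat.card_zpowers, hwp, hH']
  have hwz : w ∉ zpowers z := by
    intro h
    apply hH'z
    rw [← hwH']
    apply Subgroup.eq_of_le_of_card_ge (zpowers_le.mpr h)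
    rw [Nat.card_zpowers, Nat.card_zpowers, hwp, hzp]
  -- move to G
  have hzpG : orderOf (z : G) = p := by rw [Subgroup.orderOf_coe]; exact hzp
  have hwpG : orderOf (w : G) = p := by rw [Subgroup.orderOf_coe]; exact hwp
  have hcommG : (z : G) * (w : G) = (w : G) * (z : G) := congrArg Subtype.val (hzc w)
  have hwzG : (w : G) ∉ zpowers (z : G) := by
    intro h
    apply hwz
    obtain ⟨k, hk⟩ := mem_zpowers_iff.mp h
    rw [mem_zpowers_iff]
    refine ⟨k, Subtype.ext ?_⟩
    rw [← hk]; simp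
  obtain ⟨hc, hnc, -⟩ := noncyclic_sup_zpowers (z : G) (w : G) hzpG hwpG hcommG hwzG
  exact ⟨zpowers (z : G) ⊔ zpowers (w : G),
    sup_le (zpowers_le.mpr z.2) (zpowers_le.mpr w.2), hc, hnc⟩


/-- In a `p`-solvable group of order divisible by `p`, if some (hence every) Sylow `p`-subgroup
has more than one subgroup of order `p`, then the Sylow graph is connected. -/
theorem conn_of_not_unique {G : Type*} [Group G] [Finite G] (p : ℕ) [hp : Fact p.Prime]
    (hdiv : p ∣ Nat.card G) (hsol : Cfsg.IsPSolvable p G) (P : Sylow p G)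
    (hnu : ¬ UniqueOrderP p ↥(P : Subgroup G)) : ∀ S T : Sylow p G, Conn p S T := by
  set K₀ : Subgroup G := Cfsg.pPrimeCore p G with hK₀
  have hK₀n : K₀.Normal := inferInstance
  have hK₀cop : (Nat.card K₀).Coprime p := Cfsg.Agent.Lib.Helper76.pPrimeCore_coprime p
  have hK₀p : ¬ p ∣ Nat.card K₀ := by
    intro h
    have := Nat.Coprime.eq_one_of_dvd hK₀cop.symm h
    exact hp.out.ne_one this
  set π := QuotientGroup.mk' K₀ with hπdef
  have hπ : Function.Surjective π := QuotientGroup.mk'_surjective K₀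
  have hker : π.ker = K₀ := QuotientGroup.ker_mk' K₀
  have hsolQ : Cfsg.IsPSolvable p (G ⧸ K₀) :=
    Cfsg.Agent.Lib.Helper76.IsPSolvable_of_surjective p π hπ hsol
  have hcoreQ : ∀ N : Subgroup (G ⧸ K₀), N.Normal → (Nat.card N).Coprime p → N = ⊥ :=
    fun N hN hc => Cfsg.Agent.Lib.Helper76.quotient_pPrimeCore_core_trivial p N hN hc
  have hCle := Cfsg.Agent.Lib.Helper76.centralizer_pCore_le p hsolQ hcoreQ
  -- O_p(G/K₀) ≠ 1
  have hOp : Cfsg.pCore p (G ⧸ K₀) ≠ ⊥ := by
    intro h0
    rw [h0] at hCle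
    have htop : K₀ = ⊤ := by
      rw [eq_top_iff]
      intro g _
      have h1 : π g ∈ centralizer (((⊥ : Subgroup (G ⧸ K₀)) : Subgroup (G ⧸ K₀)) : Set (G ⧸ K₀)) := by
        rw [mem_centralizer_iff]
        intro h hh
        have : h = 1 := hh
        rw [this, one_mul, mul_one]
      have h2 := hCle h1
      rw [mem_bot] at h2
      rw [← hker]
      exact h2
    apply hK₀p
    rw [htop, Subgroup.card_top]
    exact hdiv
  -- L = O_{p',p}(G)
  set L : Subgroup G := (Cfsg.pCore p (G ⧸ K₀)).comap π with hL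
  have hLn : L.Normal := by
    have : (Cfsg.pCore p (G ⧸ K₀)).Normal := inferInstance
    exact this.comap π
  have hLmap : L.map π = Cfsg.pCore p (G ⧸ K₀) := by
    rw [hL, Subgroup.map_comap_eq_self_of_surjective hπ]
  have hLdvd : p ∣ Nat.card L := by
    by_contra hcon
    have hcop : (Nat.card L).Coprime p :=
      (Nat.Coprime.symm ((Nat.Prime.coprime_iff_not_dvd hp.out).mpr hcon))
    have hLK : L ≤ K₀ := Cfsg.Agent.Lib.Helper76.le_pPrimeCore p L hLn hcop
    apply hOp
    rw [← hLmap, eq_bot_iff]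
    calc L.map π ≤ K₀.map π := Subgroup.map_mono hLK
      _ = ⊥ := (Subgroup.map_eq_bot_iff _).mpr hker.ge
  obtain ⟨Q₀⟩ : Nonempty (Sylow p L) := inferInstance
  have hQ₀ : (Q₀ : Subgroup L) ≠ ⊥ := Q₀.ne_bot_of_dvd_card hLdvd
  set X : Subgroup G := (Q₀ : Subgroup L).map L.subtype with hX
  have hXp : IsPGroup p X := Q₀.isPGroup'.map _
  have hXne : X ≠ ⊥ := by
    intro h0
    apply hQ₀
    rw [hX, Subgroup.map_eq_bot_iff_of_injective _ L.subtype_injective] at h0
    exact h0
  obtain ⟨S, hXS⟩ := hXp.exists_le_sylow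
  have hfr : normalizer (X : Set G) ⊔ L = ⊤ := Sylow.normalizer_sup_eq_top Q₀
  -- S also has more than one subgroup of order p
  have hnuS : ¬ UniqueOrderP p ↥(S : Subgroup G) := fun h =>
    hnu (uniqueOrderP_of_equiv (S.equiv P) h)
  obtain ⟨A, hAS, hAc, hAnc⟩ := exists_noncyclic_of_not_unique p S hnuS
  have hcop : (Nat.card A).Coprime (Nat.card K₀) := by
    obtain ⟨k, hk⟩ := (S.isPGroup'.to_le hAS).exists_card_eq
    rw [hk]
    exact Nat.Coprime.pow_left _ ((Nat.Prime.coprime_iff_not_dvd hp.out).mpr hK₀p)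
  have hgen := Cfsg.Agent.S0058.result A K₀ hAnc (by rw [normalizer_eq_top]; exact le_top) hcop
  have hKR : K₀ ≤ stab p S := le_stab_of_generation S A K₀ hAS hgen
  have hXR : normalizer (X : Set G) ≤ stab p S := normalizer_le_stab S X hXS hXne
  have hLR : L ≤ stab p S := by
    intro l hl
    have h1 : π l ∈ Cfsg.pCore p (G ⧸ K₀) := hl
    have h2 : π l ∈ (S.mapSurjective hπ : Subgroup (G ⧸ K₀)) :=
      Cfsg.Agent.Lib.Helper76.pCore_le_sylow p (S.mapSurjective hπ) h1
    rw [Sylow.coe_mapSurjective] at h2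
    obtain ⟨s, hs, hsl⟩ := h2
    have h3 : s⁻¹ * l ∈ K₀ := by
      have := QuotientGroup.eq.mp hsl
      exact this
    have : l = s * (s⁻¹ * l) := by group
    rw [this]
    exact mul_mem (le_stab S hs) (hKR h3)
  have htop : stab p S = ⊤ := by
    rw [eq_top_iff, ← hfr]
    exact sup_le hXR hLR
  exact conn_of_stab_eq_top S htop

/-- Let p be a prime and G a finite p-solvable group of order divisible by p, with Sylow p-subgroup P. Then the Sylow p-subgroups of G fail to be chain-connected through nontrivial intersections (equivalently, G has a strongly p-embedded subgroup) if and only if O_p(G) = 1 and P is cyclic or, for p = 2, generalized quaternion. -/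
theorem result {G : Type*} [Group G] [Finite G]
    (p : ℕ) [Fact p.Prime] (hdiv : p ∣ Nat.card G) (hsol : Cfsg.IsPSolvable p G) (P : Sylow p G) :
    ¬ Cfsg.IsSylowChainConnected p G ↔
      Cfsg.pCore p G = ⊥ ∧ (IsCyclic ↥P ∨ (p = 2 ∧ ∃ n : ℕ, Nonempty (↥P ≃* QuaternionGroup (2 ^ n)))) := by
  rw [chainConnected_iff]
  constructor
  · intro hnc
    have hcore : Cfsg.pCore p G = ⊥ := by
      by_contra h
      exact hnc (conn_of_pCore_ne_bot p h)
    have hu : UniqueOrderP p ↥(P : Subgroup G) := by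
      by_contra h
      exact hnc (conn_of_not_unique p hdiv hsol P h)
    exact ⟨hcore, cyclic_or_quaternion_of_uniqueOrderP p P.isPGroup' hu⟩
  · rintro ⟨hcore, hP⟩
    exact not_conn_of_unique p hdiv P hcore (uniqueOrderP_of_cyclic_or_quaternion p hP)

end Cfsg.Agent.S3057
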