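import Cfsg.Statements.S3058
import Cfsg.Agent.S0058
import Cfsg.Agent.S3056
import Cfsg.Agent.Lib.Helper51.SylowGraph
import Mathlib
-- import your own Cfsg.Agent.* helpers here

set_option autoImplicit false
open Cfsg

namespace Cfsg.Agent.S3058

open Subgroup S3056 Cfsg.Agent.Lib.Helper51
open scoped Pointwise

variable {G : Type*} [Group G]

/-- Let p be a prime and G a finite group whose Sylow p-subgroups are not chain-connected through nontrivial intersections (so G has a strongly p-embedded subgroup). If N and M are normal subgroups of G whose orders are both divisible by p, then the order of N ∩ M is divisible by p. Consequently, among the normal subgroups of G whose order is divisible by p there is a smallest one (the intersection of all of them). -/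
theorem result {G : Type*} [Group G] [Finite G]
    (p : ℕ) [Fact p.Prime] (hG : ¬ Cfsg.IsSylowChainConnected p G)
    (N M : Subgroup G) [N.Normal] [M.Normal] (hN : p ∣ Nat.card N) (hM : p ∣ Nat.card M) :
    p ∣ Nat.card ↥(N ⊓ M) := by
  by_contra hK
  apply hG
  rw [chainConnected_iff]
  have hp : p.Prime := Fact.out
  have hNn : N.Normal := inferInstance
  have hMn : M.Normal := inferInstance
  set K : Subgroup G := N ⊓ M with hKdef
  have hKn : K.Normal := inferInstance
  obtain ⟨P₀⟩ : Nonempty (Sylow p N) := inferInstance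
  have hP₀ : (P₀ : Subgroup N) ≠ ⊥ := P₀.ne_bot_of_dvd_card hN
  set X : Subgroup G := (P₀ : Subgroup N).map N.subtype with hX
  have hXp : IsPGroup p X := P₀.isPGroup'.map _
  obtain ⟨S, hXS⟩ := hXp.exists_le_sylow
  have hfr : normalizer (X : Set G) ⊔ N = ⊤ := Sylow.normalizer_sup_eq_top P₀
  suffices h : stab p S = ⊤ by
    intro S₁ S₂
    obtain ⟨g₁, hg₁⟩ := MulAction.exists_smul_eq G S S₁
    obtain ⟨g₂, hg₂⟩ := MulAction.exists_smul_eq G S S₂
    have h1 : g₁ ∈ stab p S := h ▸ mem_top _
    have h2 : g₂ ∈ stab p S := h ▸ mem_top _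
    rw [mem_stab] at h1 h2
    rw [hg₁] at h1
    rw [hg₂] at h2
    exact conn_trans h1 (conn_symm h2)
  obtain ⟨x, hxS, hxN, hxp⟩ := exists_orderOf_eq_mem_sylow S N hN
  obtain ⟨y, hyS, hyM, hyp⟩ := exists_orderOf_eq_mem_sylow S M hM
  have hKS : ∀ z, z ∈ K → z ∈ S → z = 1 := fun z hz hzS => eq_one_of_mem_of_mem S K hK z hz hzS
  have hy1 : y ≠ 1 := by
    intro h
    rw [h, orderOf_one] at hyp
    exact hp.one_lt.ne hyp
  -- x and y commute
  have hxy : x * y = y * x := by
    have h1 : x * y * x⁻¹ * y⁻¹ ∈ K := by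
      refine ⟨?_, ?_⟩
      · have : x * y * x⁻¹ * y⁻¹ = x * (y * x⁻¹ * y⁻¹) := by group
        rw [this]; exact N.mul_mem hxN (hNn.conj_mem _ (N.inv_mem hxN) y)
      · exact M.mul_mem (hMn.conj_mem _ hyM x) (M.inv_mem hyM)
    have h2 : x * y * x⁻¹ * y⁻¹ ∈ S :=
      mul_mem (mul_mem (mul_mem hxS hyS) (inv_mem hxS)) (inv_mem hyS)
    have h3 := hKS _ h1 h2
    calc x * y = (x * y * x⁻¹ * y⁻¹) * (y * x) := by group
      _ = y * x := by rw [h3, one_mul]
  set A : Subgroup G := zpowers x ⊔ zpowers y with hA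
  have hyc : y ∈ centralizer ((zpowers x : Subgroup G) : Set G) := by
    rw [mem_centralizer_iff]
    intro h hh
    obtain ⟨k, rfl⟩ := mem_zpowers_iff.mp hh
    exact (Commute.zpow_left (show Commute x y from hxy) k)
  have hAcomm : IsMulCommutative A :=
    Cfsg.Agent.Lib.Helper51.isMulCommutative_sup_zpowers (A := zpowers x) inferInstance hyc
  have hAS : A ≤ S := sup_le (zpowers_le.mpr hxS) (zpowers_le.mpr hyS)
  have hcomm : ∀ a ∈ A, ∀ b ∈ A, a * b = b * a := by
    intro a ha b hb
    have := hAcomm.is_comm.comm (⟨a, ha⟩ : A) ⟨b, hb⟩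
    exact congrArg Subtype.val this
  have hApow : ∀ a ∈ A, a ^ p = 1 := by
    let T : Subgroup G :=
      { carrier := {a | a ∈ A ∧ a ^ p = 1}
        mul_mem' := fun {a b} ha hb => ⟨A.mul_mem ha.1 hb.1, by
          rw [(show Commute a b from hcomm a ha.1 b hb.1).mul_pow, ha.2, hb.2, one_mul]⟩
        one_mem' := ⟨A.one_mem, one_pow p⟩
        inv_mem' := fun {a} ha => ⟨A.inv_mem ha.1, by rw [inv_pow, ha.2, inv_one]⟩ }
    have hxT : x ∈ T := ⟨le_sup_left (a := zpowers x) (mem_zpowers x), by rw [← hxp, pow_orderOf_eq_one]⟩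
    have hyT : y ∈ T := ⟨le_sup_right (b := zpowers y) (mem_zpowers y), by rw [← hyp, pow_orderOf_eq_one]⟩
    have hAT : A ≤ T := sup_le (zpowers_le.mpr hxT) (zpowers_le.mpr hyT)
    intro a ha
    exact (hAT ha).2
  have hAnc : ¬ IsCyclic A := by
    intro hcyc
    have h1 : Monoid.exponent A ∣ p :=
      Monoid.exponent_dvd_of_forall_pow_eq_one (fun a => Subtype.ext (by simpa using hApow a a.2))
    have h2 : Nat.card A ∣ p := by rw [← IsCyclic.exponent_eq_card]; exact h1
    have h3 : Nat.card (zpowers x) = p := by rw [Nat.card_zpowers, hxp]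
    have h4 : zpowers x = A := by
      apply Subgroup.eq_of_le_of_card_ge le_sup_left
      rw [h3]; exact Nat.le_of_dvd hp.pos h2
    have h5 : y ∈ zpowers x := h4 ▸ (le_sup_right : zpowers y ≤ A) (mem_zpowers y)
    have h6 : y ∈ N := (zpowers_le.mpr hxN) h5
    exact hy1 (hKS y ⟨h6, hyM⟩ hyS)
  have hcop : (Nat.card A).Coprime (Nat.card K) := by
    obtain ⟨k, hk⟩ := (S.isPGroup'.to_le hAS).exists_card_eq
    rw [hk]
    exact Nat.Coprime.pow_left _ ((Nat.Prime.coprime_iff_not_dvd hp).mpr hK)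
  have hgen := Cfsg.Agent.S0058.result A K hAnc (by rw [normalizer_eq_top]; exact le_top) hcop
  have hKR : K ≤ stab p S := by
    rw [← hgen]
    apply iSup₂_le
    intro a ha g hg
    have hga : a * g = g * a := (mem_centralizer_iff.mp hg.2) a rfl
    apply mem_stab_of_conj_mem S g a ha.2 (hAS ha.1)
    have : g * a * g⁻¹ = a := by rw [← hga]; group
    rw [this]; exact hAS ha.1
  have hNR : N ≤ stab p S := by
    intro n hn
    apply mem_stab_of_comm_mem S K hK hKR y hyS hyp n
    refine ⟨?_, ?_⟩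
    · have : n * y * n⁻¹ * y⁻¹ = n * (y * n⁻¹ * y⁻¹) := by group
      rw [this]; exact N.mul_mem hn (hNn.conj_mem _ (N.inv_mem hn) y)
    · exact M.mul_mem (hMn.conj_mem _ hyM n) (M.inv_mem hyM)
  have hXR : normalizer (X : Set G) ≤ stab p S := by
    intro g hg
    obtain ⟨a, ha1⟩ := (Subgroup.ne_bot_iff_exists_ne_one).mp hP₀
    have haX : ((a : N) : G) ∈ X := ⟨(a : N), a.2, rfl⟩
    have ha1' : ((a : N) : G) ≠ 1 := by
      intro h
      apply ha1
      apply Subtype.ext
      apply Subtype.ext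
      exact h
    apply mem_stab_of_conj_mem S g _ ha1' (hXS haX)
    exact hXS ((mem_normalizer_iff.mp hg _).mp haX)
  rw [eq_top_iff, ← hfr]
  exact sup_le hXR hNR

end Cfsg.Agent.S3058
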