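import Cfsg.Statements.S3060
-- import your own Cfsg.Agent.* helpers here
import Cfsg.Agent.S3061
import Cfsg.Agent.S3062
import Cfsg.Agent.Lib.Helper97.PCoreQuot

set_option autoImplicit false
open Cfsg

namespace Cfsg.Agent.S3060

open Subgroup Cfsg.Agent.Lib.Helper97
open scoped commutatorElement

/-- The `D*` family property for a subgroup `A` of `S`, phrased inside the ambient group `G`. -/
def Fam {G : Type*} [Group G] (S A : Subgroup G) : Prop :=
  A ≤ S ∧ IsMulCommutative A ∧ ∀ x ∈ S,
    ⁅⁅A ⊔ zpowers x, A ⊔ zpowers x⁆, A ⊔ zpowers x⁆ = ⊥ → ∀ a ∈ A, a * x = x * a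

theorem map_sup_zpowers {G : Type*} [Group G] (S : Subgroup G) (A' : Subgroup S) (x : S) :
    (⁅⁅A' ⊔ zpowers x, A' ⊔ zpowers x⁆, A' ⊔ zpowers x⁆).map S.subtype =
      ⁅⁅A'.map S.subtype ⊔ zpowers (x : G), A'.map S.subtype ⊔ zpowers (x : G)⁆,
        A'.map S.subtype ⊔ zpowers (x : G)⁆ := by
  rw [map_commutator, map_commutator, Subgroup.map_sup, MonoidHom.map_zpowers]
  rfl

/-- `D*(S)`, viewed in `G`, has the family property. -/
theorem fam_dStarOf {G : Type*} [Group G] {p : ℕ} [Fact p.Prime] (S : Subgroup G) [Finite S]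
    (hS : IsPGroup p S) : Fam S (Cfsg.dStarOf S) := by
  have hmem := S3061.result hS
  have hcomm : IsMulCommutative (Cfsg.dStar S) := hmem.1
  refine ⟨Subgroup.map_subtype_le _, ?_, ?_⟩
  · unfold Cfsg.dStarOf
    infer_instance
  · intro x hx hcl
    rintro _ ⟨a, ha, rfl⟩
    have h1 : ⁅⁅Cfsg.dStar S ⊔ zpowers (⟨x, hx⟩ : S), Cfsg.dStar S ⊔ zpowers (⟨x, hx⟩ : S)⁆,
        Cfsg.dStar S ⊔ zpowers (⟨x, hx⟩ : S)⁆ = ⊥ := by
      apply (map_eq_bot_iff_of_injective _ S.subtype_injective).mp
      rw [map_sup_zpowers]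
      exact hcl
    have h2 := hmem.2 ⟨x, hx⟩ h1 a ha
    exact congrArg Subtype.val h2

/-- A subgroup with the family property lies in `D*(S)`. -/
theorem le_dStarOf_of_fam {G : Type*} [Group G] {S A : Subgroup G} (h : Fam S A) :
    A ≤ Cfsg.dStarOf S := by
  obtain ⟨hAS, hAc, hA⟩ := h
  have hmap : (A.subgroupOf S).map S.subtype = A := by
    rw [Subgroup.subgroupOf_map_subtype, inf_eq_left.mpr hAS]
  have hmem : A.subgroupOf S ∈ Cfsg.dStarFamily S := by
    refine ⟨⟨⟨fun a b => ?_⟩⟩, ?_⟩
    · apply Subtype.ext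
      apply Subtype.ext
      have := hAc.is_comm.comm (⟨(a : S), a.2⟩ : A) ⟨(b : S), b.2⟩
      have h2 : ((a : S) : G) * ((b : S) : G) = ((b : S) : G) * ((a : S) : G) :=
        congrArg Subtype.val this
      exact h2
    · intro x hx a ha
      have h1 := hA (x : G) x.2 (by
        rw [← hmap, ← map_sup_zpowers, hx, Subgroup.map_bot]) (a : G) ha
      exact Subtype.ext h1
  have hle : A.subgroupOf S ≤ Cfsg.dStar S := le_sSup hmem
  calc A = (A.subgroupOf S).map S.subtype := hmap.symm
    _ ≤ Cfsg.dStarOf S := Subgroup.map_mono hle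

/-- `D*(S)` is normalized by `S`. -/
theorem conj_mem_dStarOf {G : Type*} [Group G] (S : Subgroup G) {s a : G} (hs : s ∈ S)
    (ha : a ∈ Cfsg.dStarOf S) : s * a * s⁻¹ ∈ Cfsg.dStarOf S := by
  obtain ⟨a', ha', rfl⟩ := ha
  have hn : (Cfsg.dStar S).Normal := S3062.dStar_normal
  exact ⟨(⟨s, hs⟩ : S) * a' * (⟨s, hs⟩ : S)⁻¹, hn.conj_mem a' ha' ⟨s, hs⟩, rfl⟩

theorem mul_comm_of_isMulCommutative {G : Type*} [Group G] {A : Subgroup G} (hA : IsMulCommutative A)
    {a b : G} (ha : a ∈ A) (hb : b ∈ A) : a * b = b * a :=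
  congrArg Subtype.val (hA.is_comm.comm (⟨a, ha⟩ : A) ⟨b, hb⟩)

/-- Main argument. -/
theorem main {G : Type*} [Group G] [Finite G] {p : ℕ} [Fact p.Prime]
    (hc : Subgroup.centralizer (Cfsg.pCore p G : Set G) ≤ Cfsg.pCore p G)
    (hst : ∀ (P : Subgroup G) [P.Normal], IsPGroup p P → Cfsg.IsPStableOn p P) (S : Sylow p G) :
    (Cfsg.dStarOf (S : Subgroup G)).Normal := by
  classical
  obtain ⟨hDS, hDc, hDfam⟩ := fam_dStarOf (S : Subgroup G) S.isPGroup'
  set D := Cfsg.dStarOf (S : Subgroup G) with hD
  have hTS : pCore p G ≤ (S : Subgroup G) := pCore_le_sylow' S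
  have hTn : (pCore p G).Normal := inferInstance
  have hDn : ∀ s ∈ (S : Subgroup G), ∀ a ∈ D, s * a * s⁻¹ ∈ D :=
    fun s hs a ha => conj_mem_dStarOf _ hs ha
  have hDn' : ∀ s ∈ (S : Subgroup G), ∀ a ∈ D, s⁻¹ * a * s ∈ D := by
    intro s hs a ha
    have := hDn s⁻¹ (inv_mem hs) a ha
    rwa [inv_inv] at this
  -- Step 1: `D ≤ O_p(G)`
  have hDT : D ≤ pCore p G := by
    intro a ha
    have hza : zpowers a ≤ D := by rw [zpowers_le]; exact ha
    have hquad : ⁅⁅pCore p G, zpowers a⁆, zpowers a⁆ = ⊥ := by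
      have h1 : ⁅pCore p G, zpowers a⁆ ≤ D := by
        rw [commutator_le]
        intro t ht z hz
        have : ⁅t, z⁆ = (t * z * t⁻¹) * z⁻¹ := rfl
        rw [this]
        exact mul_mem (hDn t (hTS ht) z (hza hz)) (inv_mem (hza hz))
      have h2 : ⁅D, zpowers a⁆ = ⊥ := by
        rw [eq_bot_iff, commutator_le]
        intro d hd z hz
        rw [mem_bot, commutatorElement_eq_one_iff_mul_comm]
        exact mul_comm_of_isMulCommutative hDc hd (hza hz)
      rw [eq_bot_iff, ← h2]
      exact commutator_mono h1 le_rfl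
    have h3 := hst (pCore p G) (isPGroup_pCore p G) a hquad
    set L := (pCore p (G ⧸ Subgroup.centralizer (pCore p G : Set G))).comap
      (QuotientGroup.mk' (Subgroup.centralizer (pCore p G : Set G))) with hL
    have hLn : L.Normal := Subgroup.Normal.comap inferInstance _
    have hLp : IsPGroup p L := by
      apply (isPGroup_pCore p _).comap_of_ker_isPGroup
      rw [QuotientGroup.ker_mk']
      exact (isPGroup_pCore p G).to_le hc
    exact le_pCore_of_normal hLn hLp h3
  -- Step 2: `D` commutes with its conjugates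
  have hconj : ∀ g : G, ∀ a ∈ D, ∀ b ∈ D, a * (g * b * g⁻¹) = (g * b * g⁻¹) * a := by
    intro g a ha b hb
    set y := g * b * g⁻¹ with hy
    have hyT : y ∈ pCore p G := hTn.conj_mem b (hDT hb) g
    have hyS : y ∈ (S : Subgroup G) := hTS hyT
    set Dg : Subgroup G := D.map (MulAut.conj g).toMonoidHom with hDg
    have hDgc : IsMulCommutative Dg := Subgroup.map_isMulCommutative _ _
    have hyDg : y ∈ Dg := ⟨b, hb, by simp [hy]⟩
    refine hDfam y hyS ?_ a ha
    apply S3061.class_two_of_central D hDc y (D ⊓ Dg)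
    · intro z hz u hu
      have hle : D ⊔ zpowers y ≤ Subgroup.centralizer {z} := by
        apply sup_le
        · intro d hd
          rw [Subgroup.mem_centralizer_singleton_iff]
          exact mul_comm_of_isMulCommutative hDc hd (Subgroup.mem_inf.mp hz).1
        · rw [zpowers_le, Subgroup.mem_centralizer_singleton_iff]
          exact mul_comm_of_isMulCommutative hDgc hyDg (Subgroup.mem_inf.mp hz).2
      have := hle hu
      rw [Subgroup.mem_centralizer_singleton_iff] at this
      exact this
    · intro d hd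
      refine Subgroup.mem_inf.mpr ⟨?_, ?_⟩
      · have : ⁅d, y⁆ = d * (y * d⁻¹ * y⁻¹) := by
          simp only [commutatorElement_def]; group
        rw [this]
        exact mul_mem hd (hDn y hyS _ (inv_mem hd))
      · have h1 : g⁻¹ * d * g ∈ (S : Subgroup G) := by
          have := hTn.conj_mem d (hDT hd) g⁻¹
          rw [inv_inv] at this
          exact hTS this
        have h2 : (g⁻¹ * d * g) * b * (g⁻¹ * d * g)⁻¹ ∈ D := hDn _ h1 b hb
        have h3 : d * y * d⁻¹ ∈ Dg := by
          refine ⟨(g⁻¹ * d * g) * b * (g⁻¹ * d * g)⁻¹, h2, ?_⟩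
          simp only [MulEquiv.coe_toMonoidHom, MulAut.conj_apply, hy]
          group
        have : ⁅d, y⁆ = (d * y * d⁻¹) * y⁻¹ := rfl
        rw [this]
        exact mul_mem h3 (inv_mem hyDg)
  -- Step 3: the normal closure `V` of `D` is abelian
  set V : Subgroup G := Subgroup.normalClosure (D : Set G) with hV
  have hVn : V.Normal := Subgroup.normalClosure_normal
  have hDV : D ≤ V := Subgroup.subset_normalClosure
  have hVT : V ≤ pCore p G := Subgroup.normalClosure_le_normal hDT
  have hVS : V ≤ (S : Subgroup G) := hVT.trans hTS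
  have hVc : IsMulCommutative V := by
    rw [hV, Subgroup.normalClosure]
    apply Subgroup.isMulCommutative_closure
    intro u hu v hv
    rw [Group.mem_conjugatesOfSet_iff] at hu hv
    obtain ⟨a, ha, hau⟩ := hu
    obtain ⟨b, hb, hbv⟩ := hv
    rw [isConj_iff] at hau hbv
    obtain ⟨g, rfl⟩ := hau
    obtain ⟨h, rfl⟩ := hbv
    have h1 := hconj (g⁻¹ * h) a ha b hb
    calc g * a * g⁻¹ * (h * b * h⁻¹)
        = g * (a * ((g⁻¹ * h) * b * (g⁻¹ * h)⁻¹)) * g⁻¹ := by group
      _ = g * (((g⁻¹ * h) * b * (g⁻¹ * h)⁻¹) * a) * g⁻¹ := by rw [h1]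
      _ = h * b * h⁻¹ * (g * a * g⁻¹) := by group
  have hVp : IsPGroup p V := (isPGroup_pCore p G).to_le hVT
  -- Step 4: `V` has the family property
  have hVfam : Fam (S : Subgroup G) V := by
    refine ⟨hVS, hVc, ?_⟩
    intro x hxS hcl
    have hquadx : ∀ v ∈ V, ⁅⁅v, x⁆, x⁆ = 1 := by
      intro v hv
      have hv' : v ∈ V ⊔ zpowers x := (le_sup_left : V ≤ V ⊔ zpowers x) hv
      have hx' : x ∈ V ⊔ zpowers x := (le_sup_right : zpowers x ≤ V ⊔ zpowers x) (mem_zpowers x)
      have := commutator_mem_commutator (commutator_mem_commutator hv' hx') hx'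
      rw [hcl, mem_bot] at this
      exact this
    have hquad : ⁅⁅V, zpowers x⁆, zpowers x⁆ = ⊥ := by
      rw [eq_bot_iff, ← hcl]
      exact commutator_mono (commutator_mono le_sup_left le_sup_right) le_sup_right
    have h3 := hst V hVp x hquad
    -- it suffices to treat the conjugates of elements of `D`
    have hle : V ≤ Subgroup.centralizer {x} := by
      rw [hV, Subgroup.normalClosure, Subgroup.closure_le]
      intro u hu
      rw [Group.mem_conjugatesOfSet_iff] at hu
      obtain ⟨a, ha, hau⟩ := hu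
      rw [isConj_iff] at hau
      obtain ⟨g, rfl⟩ := hau
      rw [SetLike.mem_coe, Subgroup.mem_centralizer_singleton_iff]
      -- `y = g⁻¹ x g`
      set y := g⁻¹ * x * g with hy
      have hyN : (QuotientGroup.mk y : G ⧸ Subgroup.centralizer (V : Set G)) ∈
          pCore p (G ⧸ Subgroup.centralizer (V : Set G)) := by
        have hN : (pCore p (G ⧸ Subgroup.centralizer (V : Set G))).Normal := inferInstance
        have := hN.conj_mem _ h3 (QuotientGroup.mk g⁻¹ : G ⧸ Subgroup.centralizer (V : Set G))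
        rw [hy]
        simpa using this
      obtain ⟨s, hs, c, hcC, hysc⟩ := exists_mem_sylow_mk_eq (Subgroup.centralizer (V : Set G))
        (pCore p (G ⧸ Subgroup.centralizer (V : Set G))) (isPGroup_pCore p _) S hyN
      have hcv : ∀ v ∈ V, c * v = v * c := fun v hv => (Subgroup.mem_centralizer_iff.mp hcC v hv).symm
      have hsy : ∀ v ∈ V, s * v * s⁻¹ = y * v * y⁻¹ := by
        intro v hv
        rw [hysc]
        calc s * v * s⁻¹ = s * (v * c) * c⁻¹ * s⁻¹ := by group
          _ = s * (c * v) * c⁻¹ * s⁻¹ := by rw [hcv v hv]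
          _ = s * c * v * (s * c)⁻¹ := by group
      have hquady : ∀ v ∈ V, ⁅⁅v, y⁆, y⁆ = 1 := by
        intro v hv
        have h1 := hquadx (g * v * g⁻¹) (hVn.conj_mem v hv g)
        have : ⁅⁅v, y⁆, y⁆ = g⁻¹ * ⁅⁅g * v * g⁻¹, x⁆, x⁆ * g := by
          rw [hy]; simp only [commutatorElement_def]; group
        rw [this, h1]; group
      have hcs : ∀ v ∈ V, ⁅v, s⁆ = ⁅v, y⁆ := by
        intro v hv
        have h1 := hsy v⁻¹ (inv_mem hv)
        calc ⁅v, s⁆ = v * (s * v⁻¹ * s⁻¹) := by simp only [commutatorElement_def]; group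
          _ = v * (y * v⁻¹ * y⁻¹) := by rw [h1]
          _ = ⁅v, y⁆ := by simp only [commutatorElement_def]; group
      have hcV : ∀ v ∈ V, ⁅v, y⁆ ∈ V := by
        intro v hv
        have : ⁅v, y⁆ = v * (y * v⁻¹ * y⁻¹) := by simp only [commutatorElement_def]; group
        rw [this]
        exact mul_mem hv (hVn.conj_mem _ (inv_mem hv) y)
      have hquads : ∀ v ∈ V, ⁅⁅v, s⁆, s⁆ = 1 := by
        intro v hv
        rw [hcs v hv, hcs _ (hcV v hv)]
        exact hquady v hv
      -- `s` centralizes `D`
      have hsD : ∀ d ∈ D, d * s = s * d := by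
        refine hDfam s hs ?_
        apply S3061.class_two_of_central D hDc s (V ⊓ Subgroup.centralizer {s})
        · intro z hz u hu
          have hle : D ⊔ zpowers s ≤ Subgroup.centralizer {z} := by
            apply sup_le
            · intro d hd
              rw [Subgroup.mem_centralizer_singleton_iff]
              exact mul_comm_of_isMulCommutative hVc (hDV hd) (Subgroup.mem_inf.mp hz).1
            · rw [zpowers_le, Subgroup.mem_centralizer_singleton_iff]
              have := (Subgroup.mem_inf.mp hz).2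
              rw [Subgroup.mem_centralizer_singleton_iff] at this
              exact this.symm
          have := hle hu
          rw [Subgroup.mem_centralizer_singleton_iff] at this
          exact this
        · intro d hd
          refine Subgroup.mem_inf.mpr ⟨?_, ?_⟩
          · rw [hcs d (hDV hd)]
            exact hcV d (hDV hd)
          · rw [Subgroup.mem_centralizer_singleton_iff]
            exact (commutatorElement_eq_one_iff_mul_comm.mp (hquads d (hDV hd)))
      -- hence `y` centralizes `D`
      have h4 : y * a * y⁻¹ = a := by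
        rw [← hsy a (hDV ha), ← hsD a ha]; group
      have h5 : y * a = a * y := by
        calc y * a = (y * a * y⁻¹) * y := by group
          _ = a * y := by rw [h4]
      calc g * a * g⁻¹ * x = g * (a * y) * g⁻¹ := by rw [hy]; group
        _ = g * (y * a) * g⁻¹ := by rw [h5]
        _ = x * (g * a * g⁻¹) := by rw [hy]; group
    intro v hv
    have := hle hv
    rw [Subgroup.mem_centralizer_singleton_iff] at this
    exact this
  -- Step 5
  have hVD : V ≤ D := le_dStarOf_of_fam hVfam
  have : D = V := le_antisymm hDV hVD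
  rw [this]
  exact hVn

/-- The D*-Theorem. For a finite p-group S let D*(S) be the subgroup generated by the abelian subgroups A of S such that every x ∈ S with ⟨A, x⟩ of nilpotency class at most two centralizes A. Let p be an odd prime and H a finite p-stable group with Sylow p-subgroup S. Here H is p-stable in the following sense: the largest normal p-subgroup O_p(H) contains its centralizer in H, and for every normal p-subgroup P of H, every element acting quadratically on P has image in O_p(H/C_H(P)). Then D*(S) is a normal subgroup of H. -/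
theorem result {G : Type*} [Group G] [Finite G] {p : ℕ} [Fact p.Prime] (hp : p ≠ 2)
    (hc : Subgroup.centralizer (Cfsg.pCore p G : Set G) ≤ Cfsg.pCore p G)
    (hst : ∀ (P : Subgroup G) [P.Normal], IsPGroup p P → Cfsg.IsPStableOn p P) (S : Sylow p G) :
    (Cfsg.dStarOf (S : Subgroup G)).Normal := by
  exact main hc hst S

end Cfsg.Agent.S3060
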