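import Cfsg.Statements.S3063
import Cfsg.Agent.Lib.Helper51.ThompsonReplacement2
import Mathlib
-- import your own Cfsg.Agent.* helpers here

set_option autoImplicit false
open Cfsg

namespace Cfsg.Agent.S3063

open Subgroup Cfsg.Agent.Lib.Helper51
open scoped Pointwise commutatorElement

/-- A weak replacement Theorem for metabelian p-groups: let S be a finite p-group whose derived subgroup is abelian and A an abelian subgroup of S of largest possible order. Then the normal closure of A in S contains an abelian subgroup B of the same order as A that is normal in S. -/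
theorem result {S : Type*} [Group S] [Finite S] {p : ℕ} [Fact p.Prime]
    (hS : IsPGroup p S) (hmeta : IsMulCommutative ↥(commutator S))
    (A : Subgroup S) (hA : A ∈ Cfsg.maxAbelianSubgroups S) :
    ∃ B ∈ Cfsg.maxAbelianSubgroups S, B.Normal ∧ B ≤ Subgroup.normalClosure (A : Set S) := by
  set N : Subgroup S := Subgroup.normalClosure (A : Set S) with hN
  have hNn : N.Normal := Subgroup.normalClosure_normal
  set V : Subgroup S := commutator S with hV
  have hVn : V.Normal := inferInstance
  -- choose a member of the family inside `N` with maximal intersection with `V`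
  have hne : Nonempty {A' : Subgroup S // A' ∈ Cfsg.maxAbelianSubgroups S ∧ A' ≤ N} :=
    ⟨⟨A, hA, Subgroup.le_normalClosure⟩⟩
  obtain ⟨⟨A₀, hA₀, hA₀N⟩, hmax⟩ := Finite.exists_max
    (fun A' : {A' : Subgroup S // A' ∈ Cfsg.maxAbelianSubgroups S ∧ A' ≤ N} =>
      Nat.card ↥(A'.1 ⊓ V))
  refine ⟨A₀, hA₀, ?_, hA₀N⟩
  -- `A₀` is normal
  by_contra hnn
  have hlt : normalizer (A₀ : Set S) < ⊤ := by
    rw [lt_top_iff_ne_top]
    intro h
    exact hnn (normalizer_eq_top_iff.mp h)
  have : Group.IsNilpotent S := hS.isNilpotent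
  have hnc : NormalizerCondition S := Group.normalizerCondition_of_isNilpotent
  obtain ⟨x, hx1, hx2⟩ := SetLike.exists_of_lt (hnc _ hlt)
  have hxA : A₀.map (MulAut.conj x).toMonoidHom ≤ normalizer (A₀ : Set S) := by
    rintro _ ⟨a, ha, rfl⟩
    simp only [MulEquiv.coe_toMonoidHom, MulAut.conj_apply]
    exact (mem_normalizer_iff.mp hx1 a).mp (le_normalizer ha)
  have hxV : A₀.map (MulAut.conj x).toMonoidHom ≤ A₀ ⊔ V := by
    rintro _ ⟨a, ha, rfl⟩
    simp only [MulEquiv.coe_toMonoidHom, MulAut.conj_apply]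
    have h1 : x * a * x⁻¹ = a * ⁅a⁻¹, x⁆ := by
      rw [commutatorElement_def]; group
    rw [h1]
    apply mul_mem_sup ha
    rw [hV, commutator_def]
    exact Subgroup.commutator_mem_commutator (mem_top _) (mem_top _)
  obtain ⟨A', hA', hlt', -, hA'le⟩ :=
    thompson_replacement_step A₀ V hA₀ hmeta x hx2 hxA hxV
  have hA'N : A' ≤ N := by
    refine hA'le.trans (sup_le hA₀N ?_)
    rintro _ ⟨a, ha, rfl⟩
    simp only [MulEquiv.coe_toMonoidHom, MulAut.conj_apply]
    exact hNn.conj_mem a (hA₀N ha) x
  have h1 := hmax ⟨A', hA', hA'N⟩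
  have h2 : A₀ ⊓ V = A' ⊓ V := eq_of_le_of_card_ge hlt'.le h1
  exact hlt'.ne h2

end Cfsg.Agent.S3063
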