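import Cfsg.Statements.S3064
import Cfsg.Agent.S0035
import Cfsg.Agent.Lib.Helper97.Cores
import Cfsg.Agent.Lib.Helper34.NormalPComplement
import Mathlib
-- import your own Cfsg.Agent.* helpers here

set_option autoImplicit false
open Cfsg

namespace Cfsg.Agent.S3064

open Subgroup
open scoped Pointwise

universe u

/-- Membership in a conjugate Sylow subgroup. -/
theorem mem_smul_sylow' {G : Type*} [Group G] {p : ℕ} (g x : G) (P : Sylow p G) :
    x ∈ (g • P : Sylow p G) ↔ g⁻¹ * x * g ∈ P := by
  change x ∈ (MulAut.conj g • (P : Subgroup G)) ↔ _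
  rw [Subgroup.mem_pointwise_smul_iff_inv_smul_mem]
  simp only [MulAut.smul_def, MulAut.inv_apply, MulAut.conj_symm_apply]
  rfl

theorem mem_conj_smul' {G : Type*} [Group G] (g x : G) (H : Subgroup G) :
    x ∈ (MulAut.conj g • H) ↔ g⁻¹ * x * g ∈ H := by
  rw [Subgroup.mem_pointwise_smul_iff_inv_smul_mem]
  simp only [MulAut.smul_def, MulAut.inv_apply, MulAut.conj_symm_apply]

/-- The isolation hypothesis inside an arbitrary `p`-subgroup containing `x`. -/
theorem eq_of_conj_mem {G : Type*} [Group G] [Finite G] {p : ℕ} [Fact p.Prime]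
    (S : Sylow p G) (x : G) (hx : x ∈ S)
    (hU : ∀ g : G, g⁻¹ * x * g ∈ S → g⁻¹ * x * g = x)
    (T : Subgroup G) (hT : IsPGroup p T) (hxT : x ∈ T) (g : G) (hg : g⁻¹ * x * g ∈ T) :
    g⁻¹ * x * g = x := by
  obtain ⟨S', hS'⟩ := hT.exists_le_sylow
  obtain ⟨h, hh⟩ := MulAction.exists_smul_eq G S S'
  have h1 : x ∈ (h • S : Sylow p G) := hh ▸ hS' hxT
  rw [mem_smul_sylow'] at h1
  have h2 := hU h h1
  have h3 : g⁻¹ * x * g ∈ (h • S : Sylow p G) := hh ▸ hS' hg
  rw [mem_smul_sylow'] at h3
  have h4 : (g * h)⁻¹ * x * (g * h) ∈ S := by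
    have : (g * h)⁻¹ * x * (g * h) = h⁻¹ * (g⁻¹ * x * g) * h := by group
    rw [this]; exact h3
  have h5 := hU (g * h) h4
  have h6 : g⁻¹ * x * g = h * ((g * h)⁻¹ * x * (g * h)) * h⁻¹ := by group
  rw [h6, h5]
  have h7 : x = h * (h⁻¹ * x * h) * h⁻¹ := by group
  rw [h2] at h7
  exact h7.symm


/-- The Frobenius step: if `M = C_G(x)` is proper, contains a Sylow `p`-subgroup and meets its
conjugates in the centre, we get a contradiction from Frobenius' theorem and hypothesis (ii). -/
theorem false_of_TI {G : Type u} [Group G] [Finite G] {p : ℕ} [hp : Fact p.Prime]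
    (S : Sylow p G) (x : G)
    (hb : ∀ H : Subgroup G, (Nat.card H).Coprime p → (∀ h ∈ H, x * h * x⁻¹ ∈ H) →
      ∀ h ∈ H, x * h = h * x)
    (hSM : (S : Subgroup G) ≤ centralizer ({x} : Set G))
    (hM : centralizer ({x} : Set G) ≠ ⊤)
    (hTI : ∀ g : G, g ∉ centralizer ({x} : Set G) → ∀ c ∈ centralizer ({x} : Set G),
        g⁻¹ * c * g ∈ centralizer ({x} : Set G) → c ∈ center G) :
    False := by
  set M : Subgroup G := centralizer ({x} : Set G) with hMdef
  set Z : Subgroup G := center G with hZdef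
  set π := QuotientGroup.mk' Z with hπdef
  have hπ : Function.Surjective π := QuotientGroup.mk'_surjective Z
  have hker : π.ker = Z := QuotientGroup.ker_mk' Z
  have hZM : Z ≤ M := Subgroup.center_le_centralizer _
  have hmemM : ∀ g : G, g ∈ M ↔ x * g = g * x := by
    intro g
    rw [hMdef, mem_centralizer_iff]
    constructor
    · intro h; exact h x rfl
    · intro h y hy
      rw [Set.mem_singleton_iff] at hy
      rw [hy]; exact h
  have hπM : ∀ g : G, π g ∈ M.map π → g ∈ M := by
    rintro g ⟨m, hm, hmg⟩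
    have h1 : m⁻¹ * g ∈ Z := by
      have := QuotientGroup.eq.mp hmg
      exact this
    have : g = m * (m⁻¹ * g) := by group
    rw [this]
    exact M.mul_mem hm (hZM h1)
  have hxM : x ∈ M := (hmemM x).mpr rfl
  have hxZ : x ∉ Z := by
    intro h
    apply hM
    rw [eq_top_iff]
    intro g _
    rw [hmemM]
    exact (mem_center_iff.mp h g).symm
  have hfrob : Cfsg.IsFrobeniusComplement (M.map π) := by
    refine ⟨?_, ?_, ?_⟩
    · intro h
      have h1 : M ≤ π.ker := (Subgroup.map_eq_bot_iff _).mp h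
      rw [hker] at h1
      exact hxZ (h1 hxM)
    · intro h
      apply hM
      rw [eq_top_iff]
      intro g _
      apply hπM
      rw [h]; trivial
    · intro gb hgb
      obtain ⟨g, rfl⟩ := hπ gb
      have hgM : g ∉ M := fun h => hgb ⟨g, h, rfl⟩
      rw [eq_bot_iff]
      rintro cb ⟨hc1, hc2⟩
      obtain ⟨m₁, hm₁, rfl⟩ := hc1
      have hc2' : π m₁ ∈ MulAut.conj (π g) • M.map π := hc2
      rw [mem_conj_smul'] at hc2'
      have h1 : π (g⁻¹ * m₁ * g) ∈ M.map π := by
        rw [map_mul, map_mul, map_inv]; exact hc2'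
      have h2 := hπM _ h1
      have h3 := hTI g hgM m₁ hm₁ h2
      rw [mem_bot]
      exact (QuotientGroup.eq_one_iff m₁).mpr h3
  obtain ⟨N, -, hNn, hcomp⟩ := Cfsg.Agent.S0035.result _ hfrob
  -- `p` does not divide `|N|`
  have hpN : ¬ p ∣ Nat.card N := by
    rw [← hcomp.index_eq_card]
    intro hdvd
    have hle : ((S.mapSurjective hπ : Sylow p (G ⧸ Z)) : Subgroup (G ⧸ Z)) ≤ M.map π := by
      rw [Sylow.coe_mapSurjective]
      exact Subgroup.map_mono hSM
    have h1 := Subgroup.index_dvd_of_le hle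
    exact (Sylow.not_dvd_index (S.mapSurjective hπ)) (hdvd.trans h1)
  set F : Subgroup G := N.comap π with hF
  have hFn : F.Normal := hNn.comap π
  -- `p`-elements of `F` are central
  have hpel : ∀ u ∈ F, ∀ k : ℕ, u ^ p ^ k = 1 → u ∈ Z := by
    intro u hu k hk
    have h1 : (π u) ^ p ^ k = 1 := by rw [← map_pow, hk, map_one]
    have h2 : (π u) ^ Nat.card N = 1 := by
      have := pow_card_eq_one' (G := N) (x := ⟨π u, hu⟩)
      exact congrArg Subtype.val this
    have hcop : (p ^ k).Coprime (Nat.card N) :=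
      Nat.Coprime.pow_left k ((Nat.Prime.coprime_iff_not_dvd hp.out).mpr hpN)
    have h3 := Nat.dvd_gcd (orderOf_dvd_of_pow_eq_one h1) (orderOf_dvd_of_pow_eq_one h2)
    rw [hcop] at h3
    have h4 : π u = 1 := orderOf_eq_one_iff.mp (Nat.dvd_one.mp h3)
    exact (QuotientGroup.eq_one_iff u).mp h4
  obtain ⟨PF⟩ : Nonempty (Sylow p F) := inferInstance
  have hPFZ : ∀ u : F, u ∈ PF → (u : G) ∈ Z := by
    intro u hu
    obtain ⟨k, hk⟩ := PF.isPGroup' ⟨u, hu⟩
    apply hpel u u.2 k
    have := congrArg (fun t : PF => ((t : F) : G)) hk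
    simpa using this
  have hPFc : (PF : Subgroup F) ≤ center F := by
    intro u hu
    rw [mem_center_iff]
    intro f
    apply Subtype.ext
    exact mem_center_iff.mp (hPFZ u hu) f
  obtain ⟨K, hKn, hKc⟩ :=
    Cfsg.Agent.Lib.Helper34.exists_normal_complement_of_sylow_le_center PF hPFc
  have hKcop : (Nat.card K).Coprime p := by
    rw [← hKc.index_eq_card]
    exact ((Nat.Prime.coprime_iff_not_dvd hp.out).mpr (Sylow.not_dvd_index PF)).symm
  have hKO : K ≤ Cfsg.pPrimeCore p F := le_sSup ⟨hKn, hKcop⟩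
  set O' : Subgroup G := (Cfsg.pPrimeCore p F).map F.subtype with hO'
  have hO'n : O'.Normal := inferInstance
  have hO'cop : (Nat.card O').Coprime p := by
    rw [hO', Subgroup.card_map_of_injective F.subtype_injective]
    exact Cfsg.Agent.Lib.Helper97.card_pPrimeCore_coprime p
  have hxO := hb O' hO'cop (fun h hh => hO'n.conj_mem h hh x)
  have hxF : ∀ f ∈ F, x * f = f * x := by
    intro f hf
    obtain ⟨⟨k, u⟩, hku⟩ := hKc.2 ⟨f, hf⟩
    have hk : x * ((k : F) : G) = ((k : F) : G) * x := hxO _ ⟨(k : F), hKO k.2, rfl⟩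
    have hu : ((u : F) : G) ∈ Z := hPFZ u u.2
    have hu' : x * ((u : F) : G) = ((u : F) : G) * x := (mem_center_iff.mp hu x)
    have hf' : f = ((k : F) : G) * ((u : F) : G) := by
      have := congrArg Subtype.val hku
      simpa using this.symm
    rw [hf', ← mul_assoc, hk, mul_assoc, hu', mul_assoc]
  -- `x` is central
  apply hxZ
  rw [hZdef, mem_center_iff]
  intro g
  obtain ⟨⟨nb, mb⟩, hnm⟩ := hcomp.2 (π g)
  obtain ⟨m, hm, hmm⟩ := mb.2
  have hgF : g * m⁻¹ ∈ F := by
    show π (g * m⁻¹) ∈ N
    have h1 : π (g * m⁻¹) = (nb : G ⧸ Z) := by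
      rw [map_mul, map_inv, hmm, ← hnm]
      simp
    rw [h1]; exact nb.2
  have h1 := hxF _ hgF
  have h2 := (hmemM m).mp hm
  have hg : g = (g * m⁻¹) * m := by group
  rw [hg, mul_assoc, ← h2, ← mul_assoc, ← h1, mul_assoc]


theorem main : ∀ n : ℕ, ∀ (G : Type u) [Group G] [Finite G], Nat.card G = n →
    ∀ (p : ℕ) [Fact p.Prime] (S : Sylow p G) (x : G), x ∈ S →
    (∀ g : G, g⁻¹ * x * g ∈ S → g⁻¹ * x * g = x) →
    (∀ H : Subgroup G, (Nat.card H).Coprime p → (∀ h ∈ H, x * h * x⁻¹ ∈ H) →
      ∀ h ∈ H, x * h = h * x) →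
    x ∈ Subgroup.center G := by
  intro n
  induction n using Nat.strong_induction_on with
  | _ n ih =>
    intro G _ _ hcard p hp S x hx hU hb
    by_contra hxZ
    have hmemM : ∀ g : G, g ∈ centralizer ({x} : Set G) ↔ x * g = g * x := by
      intro g
      rw [mem_centralizer_iff]
      constructor
      · intro h; exact h x rfl
      · intro h y hy
        rw [Set.mem_singleton_iff] at hy
        rw [hy]; exact h
    -- Step A: `x` is central in every proper subgroup containing it
    have hA : ∀ H : Subgroup G, H ≠ ⊤ → x ∈ H → ∀ h ∈ H, x * h = h * x := by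
      intro H hH hxH
      have hlt : Nat.card H < n := by
        rw [← hcard]
        apply lt_of_le_of_ne (Subgroup.card_le_card_group H)
        intro heq
        exact hH (Subgroup.eq_top_of_card_eq H heq)
      obtain ⟨k, hk⟩ := (IsPGroup.iff_orderOf.mp S.isPGroup') ⟨x, hx⟩
      have hk' : orderOf (⟨x, hxH⟩ : H) = p ^ k := by
        rw [Subgroup.orderOf_mk] at hk ⊢
        exact hk
      have hzp : IsPGroup p (zpowers (⟨x, hxH⟩ : H)) :=
        IsPGroup.of_card (n := k) (by rw [Nat.card_zpowers, hk'])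
      obtain ⟨SH, hSH⟩ := hzp.exists_le_sylow
      have hx' : (⟨x, hxH⟩ : H) ∈ SH := hSH (mem_zpowers _)
      have hT : IsPGroup p ((SH : Subgroup H).map H.subtype) := SH.isPGroup'.map _
      have hxT : x ∈ (SH : Subgroup H).map H.subtype := ⟨⟨x, hxH⟩, hx', rfl⟩
      have hc := ih (Nat.card H) hlt H rfl p SH ⟨x, hxH⟩ hx' ?_ ?_
      · intro h hh
        have h1 := Subgroup.mem_center_iff.mp hc ⟨h, hh⟩
        exact (congrArg Subtype.val h1).symm
      · intro g hg
        apply Subtype.ext
        have h1 : (g : G)⁻¹ * x * (g : G) ∈ (SH : Subgroup H).map H.subtype :=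
          ⟨g⁻¹ * ⟨x, hxH⟩ * g, hg, by simp⟩
        have := eq_of_conj_mem S x hx hU _ hT hxT (g : G) h1
        simpa using this
      · intro K hK hnorm k hk
        have h1 : ∀ h ∈ K.map H.subtype, x * h * x⁻¹ ∈ K.map H.subtype := by
          rintro _ ⟨k', hk', rfl⟩
          exact ⟨_, hnorm k' hk', by simp⟩
        have := hb (K.map H.subtype)
          (by rw [Subgroup.card_map_of_injective H.subtype_injective]; exact hK) h1
          k ⟨k, hk, rfl⟩
        exact Subtype.ext this
    -- Step B
    have hM : centralizer ({x} : Set G) ≠ ⊤ := by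
      intro h
      apply hxZ
      rw [mem_center_iff]
      intro g
      have : g ∈ centralizer ({x} : Set G) := h ▸ mem_top g
      exact ((hmemM g).mp this).symm
    have hB : ∀ H : Subgroup G, H ≠ ⊤ → x ∈ H → H ≤ centralizer ({x} : Set G) := by
      intro H hH hxH h hh
      exact (hmemM h).mpr (hA H hH hxH h hh)
    have hSM : (S : Subgroup G) ≤ centralizer ({x} : Set G) := by
      by_cases hS : (S : Subgroup G) = ⊤
      · exfalso
        apply hxZ
        rw [mem_center_iff]
        intro g
        have h1 : g⁻¹ * x * g ∈ S := by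
          have : g⁻¹ * x * g ∈ (S : Subgroup G) := hS ▸ mem_top _
          exact this
        have h2 := hU g h1
        calc g * x = g * (g⁻¹ * x * g) := by rw [h2]
          _ = x * g := by group
      · exact hB _ hS hx
    -- Step C
    have hC : ∀ g : G, g ∉ centralizer ({x} : Set G) →
        zpowers x ⊔ zpowers (g * x * g⁻¹) = ⊤ := by
      intro g hg
      by_contra hD
      have hxD : x ∈ zpowers x ⊔ zpowers (g * x * g⁻¹) := le_sup_left (a := zpowers x) (mem_zpowers x)
      have hyD : g * x * g⁻¹ ∈ zpowers x ⊔ zpowers (g * x * g⁻¹) :=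
        le_sup_right (b := zpowers (g * x * g⁻¹)) (mem_zpowers _)
      have hDM := hB _ hD hxD
      have hxy : x * (g * x * g⁻¹) = (g * x * g⁻¹) * x := (hmemM _).mp (hDM hyD)
      have hzx : IsPGroup p (zpowers x) := S.isPGroup'.to_le (zpowers_le.mpr hx)
      have hzy : IsPGroup p (zpowers (g * x * g⁻¹)) := by
        have h1 : zpowers (g * x * g⁻¹) = (zpowers x).map (MulAut.conj g).toMonoidHom := by
          rw [MonoidHom.map_zpowers]
          simp [MulAut.conj_apply]
        rw [h1]
        exact hzx.map _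
      have hnorm : zpowers x ≤ normalizer ((zpowers (g * x * g⁻¹) : Subgroup G) : Set G) := by
        rw [zpowers_le, mem_normalizer_iff]
        intro h
        have hcomm : ∀ t ∈ zpowers (g * x * g⁻¹), x * t * x⁻¹ = t := by
          intro t ht
          obtain ⟨j, rfl⟩ := mem_zpowers_iff.mp ht
          have : Commute x ((g * x * g⁻¹) ^ j) := (show Commute x (g * x * g⁻¹) from hxy).zpow_right j
          rw [this.eq, mul_inv_cancel_right]
        constructor
        · intro hh
          rw [hcomm h hh]; exact hh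
        · intro hh
          have h2 := hcomm _ hh
          have h3 : h = x * h * x⁻¹ := by
            have : x * (x * h * x⁻¹) * x⁻¹ = x * h * x⁻¹ := h2
            have h4 : x * h * x⁻¹ = x⁻¹ * (x * (x * h * x⁻¹) * x⁻¹) * x := by group
            rw [this] at h4
            have h5 : x⁻¹ * (x * h * x⁻¹) * x = h := by group
            rw [h5] at h4
            exact h4.symm
          rw [h3]; exact hh
      have hDp : IsPGroup p ↥(zpowers x ⊔ zpowers (g * x * g⁻¹)) :=
        hzx.to_sup_of_normal_right' hzy hnorm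
      have h1 : (g⁻¹)⁻¹ * x * g⁻¹ ∈ zpowers x ⊔ zpowers (g * x * g⁻¹) := by
        rw [inv_inv]; exact hyD
      have h2 := eq_of_conj_mem S x hx hU _ hDp hxD g⁻¹ h1
      rw [inv_inv] at h2
      apply hg
      rw [hmemM]
      calc x * g = (g * x * g⁻¹) * g := by rw [h2]
        _ = g * x := by group
    -- Step D
    have hTI : ∀ g : G, g ∉ centralizer ({x} : Set G) → ∀ c ∈ centralizer ({x} : Set G),
        g⁻¹ * c * g ∈ centralizer ({x} : Set G) → c ∈ center G := by
      intro g hg c hc hc'
      have h1 : x * c = c * x := (hmemM c).mp hc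
      have h2 : x * (g⁻¹ * c * g) = (g⁻¹ * c * g) * x := (hmemM _).mp hc'
      have h3 : (g * x * g⁻¹) * c = c * (g * x * g⁻¹) := by
        calc (g * x * g⁻¹) * c = g * (x * (g⁻¹ * c * g)) * g⁻¹ := by group
          _ = g * ((g⁻¹ * c * g) * x) * g⁻¹ := by rw [h2]
          _ = c * (g * x * g⁻¹) := by group
      have h4 : zpowers x ≤ centralizer ({c} : Set G) := by
        rw [zpowers_le, mem_centralizer_iff]
        intro y hy
        rw [Set.mem_singleton_iff] at hy
        rw [hy]; exact h1.symm
      have h5 : zpowers (g * x * g⁻¹) ≤ centralizer ({c} : Set G) := by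
        rw [zpowers_le, mem_centralizer_iff]
        intro y hy
        rw [Set.mem_singleton_iff] at hy
        rw [hy]; exact h3.symm
      have h6 : (⊤ : Subgroup G) ≤ centralizer ({c} : Set G) := by
        rw [← hC g hg]; exact sup_le h4 h5
      rw [mem_center_iff]
      intro t
      have := h6 (mem_top t)
      rw [mem_centralizer_iff] at this
      exact (this c rfl).symm
    exact false_of_TI S x hb hSM hM hTI

/-- Let S be a Sylow p-subgroup of the finite group G and x an element of S such that (i) x is the only G-conjugate of x lying in S, and (ii) x centralizes every subgroup of order prime to p that it normalizes. Then x lies in the centre of G. -/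
theorem result {G : Type*} [Group G] [Finite G] {p : ℕ} [Fact p.Prime]
    (S : Sylow p G) (x : G) (hx : x ∈ S)
    (hU : ∀ g : G, g⁻¹ * x * g ∈ S → g⁻¹ * x * g = x)
    (hb : ∀ H : Subgroup G, (Nat.card H).Coprime p → (∀ h ∈ H, x * h * x⁻¹ ∈ H) → ∀ h ∈ H, x * h = h * x) :
    x ∈ Subgroup.center G := by
  exact main _ G rfl p S x hx hU hb

end Cfsg.Agent.S3064
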