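import Cfsg.Statements.S3071
import Mathlib
import Cfsg.Prelude.Def_Transfer
import Cfsg.Agent.Lib.Helper51.FusionControlGood
import Cfsg.Agent.Lib.Helper33.SectionFusion
import Cfsg.Agent.S1969
import Cfsg.Agent.S0659
import Cfsg.Agent.Lib.Helper11.NoSL2Stable
-- import your own Cfsg.Agent.* helpers here

set_option autoImplicit false
open Cfsg

namespace Cfsg.Agent.S3071

open Cfsg.Agent.Lib.Helper33 Cfsg.Agent.Lib.Helper11 Cfsg.Agent.Lib.Helper51

universe u

/-- `Z(J)` (abelian version) is normal in constrained groups not involving `SL₂(p)`. -/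
theorem wzj_normal_of_noSL2 {Y : Type u} [Group Y] [Finite Y] {p : ℕ} [Fact p.Prime] (hp : p ≠ 2)
    (hno : ¬ InvolvesSL2 p Y) (hc : Constrained p Y) (T : Sylow p Y) :
    (Cfsg.inducedFunctor Cfsg.Agent.S0659.wzj.{u} (T : Subgroup Y)).Normal := by
  rw [Cfsg.Agent.S0659.inducedFunctor_wzj]
  have h : (Cfsg.centerThompsonAOf (T : Subgroup Y)).Characteristic :=
    Cfsg.Agent.S0653.result hp hc (fun P _ hP => isPStableOn_of_noSL2 hp hno P hP) T
  rw [Cfsg.Agent.S0653.centerThompsonAOf_eq_famInf] at h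
  exact Subgroup.normal_of_characteristic _

/-- `Z(J)` controls strong fusion in every finite group not involving `SL₂(p)`, `p` odd. -/
theorem familyControls_of_noSL2 {M : Type u} [Group M] [Finite M] {p : ℕ} [Fact p.Prime] (hp : p ≠ 2)
    (hno : ¬ InvolvesSL2 p M) :
    Cfsg.FamilyControlsStrongFusionIn p (indFam {Cfsg.Agent.S0659.wzj.{u}} M) ⊤ := by
  have h𝓦 : ∀ W' ∈ ({Cfsg.Agent.S0659.wzj.{u}} : Set (∀ (Q : Type u) [Group Q], Subgroup Q)),
      Cfsg.IsCharPFunctor.{u} p W' := by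
    rintro W' rfl
    exact Cfsg.Agent.S0659.isCharPFunctor_wzj p
  have hsecFus : SecProp (FusProp p {Cfsg.Agent.S0659.wzj.{u}}) M := by
    intro K Y _ φ hφ
    have : Finite Y := Finite.of_surjective φ hφ
    intro hconY
    have hnoY : ¬ InvolvesSL2 p Y := fun h =>
      hno (InvolvesSL2.of_subgroup (InvolvesSL2.of_surjective φ hφ h))
    exact Cfsg.Agent.S1969.familyControls_of_normal Cfsg.Agent.S0659.wzj.{u}
      (fun T => wzj_normal_of_noSL2 hp hnoY hconY T)
  exact familyControls_of_secProp h𝓦 _ M rfl hsecFus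

theorem main {G : Type u} [Group G] [Finite G] {p : ℕ} [Fact p.Prime]
    (hp : p ≠ 2) (S : Sylow p G)
    (hfree : ∀ P : Subgroup G, (S : Subgroup G) ⊓ Subgroup.centralizer ((S : Subgroup G) : Set G) ≤ P → P ≤ S →
      ¬ ∃ (H K : Subgroup G) (hK : (K.subgroupOf H).Normal), H ≤ Subgroup.normalizer (P : Set G) ∧
        Nonempty ((H ⧸ K.subgroupOf H) ≃* Matrix.SpecialLinearGroup (Fin 2) (ZMod p))) :
    ∀ x ∈ S, ∀ y ∈ S, (∃ g : G, g * x * g⁻¹ = y) ↔
      ∃ n ∈ Subgroup.normalizer (Cfsg.centerThompsonAOf (S : Subgroup G) : Set G), n * x * n⁻¹ = y := by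
  classical
  have h𝓦 : ∀ W' ∈ ({Cfsg.Agent.S0659.wzj.{u}} : Set (∀ (Q : Type u) [Group Q], Subgroup Q)),
      Cfsg.IsCharPFunctor.{u} p W' := by
    rintro W' rfl
    exact Cfsg.Agent.S0659.isCharPFunctor_wzj p
  have h𝓦cf := indFam_isConjugacyFunctor ({Cfsg.Agent.S0659.wzj.{u}} : Set (∀ (Q : Type u) [Group Q], Subgroup Q)) h𝓦 G
  let Gd : Subgroup G → Prop := fun U => ¬ InvolvesSL2 p ↥(Subgroup.normalizer (U : Set G))
  have hGd0 : ∀ U : Subgroup G,
      (S : Subgroup G) ⊓ Subgroup.centralizer ((S : Subgroup G) : Set G) ≤ U → U ≤ (S : Subgroup G) → Gd U := by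
    intro U hZU hUS h
    obtain ⟨K, L, hL, hKN, hiso⟩ := InvolvesSL2.exists_section (Subgroup.normalizer (U : Set G)) h
    exact hfree U hZU hUS ⟨K, L, hL, hKN, hiso⟩
  have hGdW : ∀ W ∈ indFam ({Cfsg.Agent.S0659.wzj.{u}} : Set (∀ (Q : Type u) [Group Q], Subgroup Q)) G,
      ∀ X : Subgroup G, X ≤ (S : Subgroup G) →
      Gd (W ((S : Subgroup G) ⊓ Subgroup.normalizer ((X : Subgroup G) : Set G))) := by
    rintro _ ⟨W, rfl, rfl⟩ X hXS
    set R : Subgroup G := (S : Subgroup G) ⊓ Subgroup.normalizer ((X : Subgroup G) : Set G) with hR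
    have hRp : IsPGroup p R := S.isPGroup'.to_le inf_le_left
    apply hGd0
    · intro z hz
      have hzR : z ∈ R := by
        refine ⟨hz.1, ?_⟩
        apply Subgroup.centralizer_le_normalizer
        exact (Subgroup.centralizer_le (show (X : Set G) ⊆ (S : Subgroup G) from hXS)) hz.2
      show z ∈ (Cfsg.Agent.S0659.wzj ↥R).map R.subtype
      refine ⟨⟨z, hzR⟩, ?_, rfl⟩
      apply center_le_sInf_maxAbelian
      rw [Subgroup.mem_center_iff]
      intro g
      apply Subtype.ext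
      have := (Subgroup.mem_centralizer_iff.mp hz.2) g.1 (inf_le_left (a := (S : Subgroup G)) g.2)
      simpa using this
    · exact (cf_le (h𝓦cf _ ⟨_, rfl, rfl⟩) hRp).trans inf_le_left
  have hGdcj : ∀ (V : Subgroup G) (k : G), Gd V → Gd (cj k V) := by
    intro V k hV h
    apply hV
    change InvolvesSL2 p ↥(Subgroup.normalizer ((cj k V : Subgroup G) : Set G)) at h
    rw [← cj_normalizer] at h
    exact InvolvesSL2.of_surjective
      ((Subgroup.normalizer (V : Set G)).equivMapOfInjective (MulAut.conj k).toMonoidHom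
        (MulAut.conj k).injective).toMonoidHom
      ((Subgroup.normalizer (V : Set G)).equivMapOfInjective (MulAut.conj k).toMonoidHom
        (MulAut.conj k).injective).surjective h
  have hGdc : ∀ U : Subgroup G, U ≤ (S : Subgroup G) →
      (S : Subgroup G) ⊓ Subgroup.centralizer (U : Set G) ≤ U → Gd U := by
    intro U hUS hUc
    apply hGd0 U _ hUS
    intro z hz
    exact hUc ⟨hz.1, (Subgroup.centralizer_le (show (U : Set G) ⊆ (S : Subgroup G) from hUS)) hz.2⟩
  have h𝓕 : ∀ P : Subgroup G, P ≤ (S : Subgroup G) →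
      ∃ U ∈ (Set.univ : Set (Subgroup G)), (∃ g : G, cj g P = U) ∧ U ≤ (S : Subgroup G) ∧
        FullyNormalized p (S : Subgroup G) U := by
    intro Q hQ
    obtain ⟨g, hle, hfn⟩ := exists_fullyNormalized_cj S hQ
    exact ⟨cj g Q, trivial, ⟨g, rfl⟩, hle, hfn⟩
  have hloc : ∀ U ∈ (Set.univ : Set (Subgroup G)), U ≠ ⊥ → U ≤ (S : Subgroup G) →
      FullyNormalized p (S : Subgroup G) U → Gd U →
      Cfsg.FamilyControlsStrongFusionIn p
        (indFam ({Cfsg.Agent.S0659.wzj.{u}} : Set (∀ (Q : Type u) [Group Q], Subgroup Q)) G)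
        (Subgroup.normalizer (U : Set G)) := by
    intro U _ _ _ _ hUgd
    exact familyControls_subgroup_of_top h𝓦 _ (familyControls_of_noSL2 hp hUgd)
  have key := good_of_local_gd S _ h𝓦cf Gd hGdW hGdcj Set.univ h𝓕 hloc hGdc
  have e : indFam ({Cfsg.Agent.S0659.wzj.{u}} : Set (∀ (Q : Type u) [Group Q], Subgroup Q)) G =
      {Cfsg.inducedFunctor (G := G) Cfsg.Agent.S0659.wzj.{u}} := by
    unfold indFam
    rw [Set.image_singleton]
  have hWS : Cfsg.inducedFunctor (G := G) Cfsg.Agent.S0659.wzj.{u} (S : Subgroup G) =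
      Cfsg.centerThompsonAOf (S : Subgroup G) := by
    rw [Cfsg.Agent.S0659.inducedFunctor_wzj, Cfsg.Agent.S0653.centerThompsonAOf_eq_famInf]
  intro x hx y hy
  constructor
  · rintro ⟨g, rfl⟩
    have hA : ({x} : Set G) ⊆ (S : Subgroup G) := by
      rintro _ rfl; exact hx
    have hAg : lc g ({x} : Set G) ⊆ (S : Subgroup G) := by
      rintro _ ⟨a, rfl, rfl⟩; exact hy
    obtain ⟨g', hreach, hagree⟩ := key {x} g hA hAg
    rw [e, stepSet_singleton] at hreach
    have hg' := hreach.mem_of_subgroup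
    rw [hWS] at hg'
    exact ⟨g', hg'.2, hagree x rfl⟩
  · rintro ⟨n, _, hn⟩
    exact ⟨n, hn⟩

/-- Let p be an odd prime and S a Sylow p-subgroup of the finite group G such that, for every subgroup P with Z(S) ≤ P ≤ S, the normalizer N_G(P) has no section isomorphic to SL₂(p). Let J(S) be the subgroup generated by the abelian subgroups of S of largest order. Then two elements of S are conjugate in G if and only if they are conjugate in N_G(Z(J(S))). -/
theorem result {G : Type*} [Group G] [Finite G] {p : ℕ} [Fact p.Prime]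
    (hp : p ≠ 2) (S : Sylow p G)
    (hfree : ∀ P : Subgroup G, (S : Subgroup G) ⊓ Subgroup.centralizer ((S : Subgroup G) : Set G) ≤ P → P ≤ S →
      ¬ ∃ (H K : Subgroup G) (hK : (K.subgroupOf H).Normal), H ≤ Subgroup.normalizer (P : Set G) ∧
        Nonempty ((H ⧸ K.subgroupOf H) ≃* Matrix.SpecialLinearGroup (Fin 2) (ZMod p))) :
    ∀ x ∈ S, ∀ y ∈ S, (∃ g : G, g * x * g⁻¹ = y) ↔
      ∃ n ∈ Subgroup.normalizer (Cfsg.centerThompsonAOf (S : Subgroup G) : Set G), n * x * n⁻¹ = y := by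
  exact main hp S hfree

end Cfsg.Agent.S3071
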