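import Cfsg.Statements.S3072
import Cfsg.Agent.Lib.Helper48.AGChain
import Cfsg.Agent.Lib.Helper48.AGLocal

set_option autoImplicit false
open Cfsg

namespace Cfsg.Agent.S3072

open Cfsg.Agent.Lib.Helper33 Cfsg.Agent.Lib.Helper48

/-- elements of `N_G(U)` reachable by a mixed chain starting from `U` -/
def reach {G : Type*} [Group G] (p : ℕ) (P U : Subgroup G) : Subgroup G where
  carrier := {n | n ∈ Subgroup.normalizer (U : Set G) ∧ MChain p P (U : Set G) n}
  mul_mem' := by
    rintro a b ⟨ha, hca⟩ ⟨hb, hcb⟩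
    refine ⟨Subgroup.mul_mem _ ha hb, hca.comp ?_⟩
    rw [rc_coe_subgroup, cj_eq_self_of_mem_normalizer (inv_mem ha)]
    exact hcb
  one_mem' := ⟨Subgroup.one_mem _, MChain.nil _⟩
  inv_mem' := by
    rintro a ⟨ha, hca⟩
    refine ⟨inv_mem ha, ?_⟩
    have := hca.inv
    rwa [rc_coe_subgroup, cj_eq_self_of_mem_normalizer (inv_mem ha)] at this

theorem mem_reach {G : Type*} [Group G] {p : ℕ} {P U : Subgroup G} {n : G} :
    n ∈ reach p P U ↔ n ∈ Subgroup.normalizer (U : Set G) ∧ MChain p P (U : Set G) n := Iff.rfl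

theorem map_centralizer_subgroupOf {G : Type*} [Group G] (U : Subgroup G) :
    (Subgroup.centralizer ((U.subgroupOf (Subgroup.normalizer (U : Set G)) :
      Subgroup ↥(Subgroup.normalizer (U : Set G))) : Set ↥(Subgroup.normalizer (U : Set G)))).map
        (Subgroup.normalizer (U : Set G)).subtype = Subgroup.centralizer (U : Set G) := by
  ext x
  rw [Subgroup.mem_map]
  constructor
  · rintro ⟨n, hn, rfl⟩
    rw [Subgroup.mem_centralizer_iff] at hn ⊢
    intro u hu
    have h1 := hn ⟨u, Subgroup.le_normalizer hu⟩ (Subgroup.mem_subgroupOf.mpr hu)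
    exact congrArg Subtype.val h1
  · intro hx
    refine ⟨⟨x, Subgroup.centralizer_le_normalizer _ hx⟩, ?_, rfl⟩
    rw [Subgroup.mem_centralizer_iff] at hx ⊢
    intro u hu
    have h1 := hx (u : G) (Subgroup.mem_subgroupOf.mp hu)
    exact Subtype.ext h1

theorem loc_step {G : Type*} [Group G] [Finite G] {p : ℕ} [Fact p.Prime] (P : Sylow p G)
    (U : Subgroup G) (hUP : U ≤ (P : Subgroup G)) (hfn : FullyNormalized p (P : Subgroup G) U)
    (IH : ∀ P' : Subgroup G, P' ≤ (P : Subgroup G) → Nat.card U < Nat.card P' →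
      ∀ g, cj g P' ≤ (P : Subgroup G) → MChain p (P : Subgroup G) (P' : Set G) g⁻¹)
    (g : G) (hg : g ∈ Subgroup.normalizer (U : Set G)) :
    MChain p (P : Subgroup G) (U : Set G) g := by
  by_cases hne : U = (P : Subgroup G)
  · rw [hne] at hg ⊢
    exact MChain.single_norm hg
  set N := Subgroup.normalizer (U : Set G) with hN
  set H : Subgroup ↥N := U.subgroupOf N with hH
  set S : Subgroup ↥N := (P : Subgroup G).subgroupOf N with hSdef
  set 𝒮 : Subgroup ↥N := (reach p (P : Subgroup G) U).subgroupOf N with h𝒮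
  have hHn : H.Normal := Subgroup.normal_in_normalizer
  have hinj : Function.Injective N.subtype := N.subtype_injective
  have hUN : U ≤ N := Subgroup.le_normalizer
  have hHmap : H.map N.subtype = U := Subgroup.map_subgroupOf_eq_of_le hUN
  have hSmap : S.map N.subtype = (P : Subgroup G) ⊓ N := Subgroup.subgroupOf_map_subtype _ _
  have hS : IsPGroup p S := P.isPGroup'.comap_subtype
  have hSi : ¬ p ∣ S.index := by
    have : S.index = ((P : Subgroup G) ⊓ N).relIndex N := by
      rw [Subgroup.inf_relIndex_right]; rfl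
    rw [this]; exact hfn
  have hHS : H < S := by
    obtain ⟨x, hx, hxU⟩ := exists_mem_normalizer_not_mem P hUP hne
    refine lt_of_le_of_ne ?_ ?_
    · intro n hn
      exact Subgroup.mem_subgroupOf.mpr (hUP (Subgroup.mem_subgroupOf.mp hn))
    · intro heq
      apply hxU
      have h1 : (⟨x, hx.2⟩ : ↥N) ∈ S := Subgroup.mem_subgroupOf.mpr hx.1
      rw [← heq] at h1
      exact Subgroup.mem_subgroupOf.mp h1
  have hmem𝒮 : ∀ n : ↥N, MChain p (P : Subgroup G) (U : Set G) (n : G) → n ∈ 𝒮 := by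
    intro n hn
    exact Subgroup.mem_subgroupOf.mpr (mem_reach.mpr ⟨n.2, hn⟩)
  have hyp : LocalHyp H S 𝒮 := by
    refine ⟨?_, ?_, ?_⟩
    · intro n hn
      apply hmem𝒮
      apply MChain.single_cent
      rw [← map_centralizer_subgroupOf U]
      exact ⟨n, hn, rfl⟩
    · intro R hHR hRS n hn
      apply hmem𝒮
      set R' := R.map N.subtype with hR'
      have hUR' : U < R' := by
        rw [← hHmap]
        exact (Subgroup.map_lt_map_iff_of_injective hinj).mpr hHR
      have hR'P : R' ≤ (P : Subgroup G) := by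
        have : R' ≤ S.map N.subtype := Subgroup.map_mono hRS
        rw [hSmap] at this
        exact this.trans inf_le_left
      have hcj : cj (n : G) R' = R' := by
        have := cj_map N.subtype n R
        rw [cj_eq_self_of_mem_normalizer hn] at this
        exact this
      have hcj' : cj (n : G)⁻¹ R' = R' := by
        conv_lhs => rw [← hcj]
        rw [cj_inv_cj]
      have h1 := IH R' hR'P (card_lt_card_of_lt hUR') (n : G)⁻¹ (by rw [hcj']; exact hR'P)
      rw [inv_inv] at h1
      exact h1.mono (SetLike.coe_subset_coe.mpr hUR'.le)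
    · intro w hw
      apply hmem𝒮
      set D := (S ⊓ cj w S).map N.subtype with hD
      have hUD : U < D := by
        rw [← hHmap]
        exact (Subgroup.map_lt_map_iff_of_injective hinj).mpr hw
      have hSP : S.map N.subtype ≤ (P : Subgroup G) := by
        rw [hSmap]; exact inf_le_left
      have hDP : D ≤ (P : Subgroup G) := (Subgroup.map_mono inf_le_left).trans hSP
      have hcj : cj (w : G)⁻¹ D ≤ (P : Subgroup G) := by
        have h1 : cj (w : G)⁻¹ D = (cj w⁻¹ (S ⊓ cj w S)).map N.subtype := by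
          have := cj_map N.subtype w⁻¹ (S ⊓ cj w S)
          simpa using this
        rw [h1]
        refine le_trans (Subgroup.map_mono ?_) hSP
        have h2 : cj w⁻¹ (S ⊓ cj w S) ≤ cj w⁻¹ (cj w S) := cj_mono inf_le_right
        rwa [cj_inv_cj] at h2
      have h1 := IH D hDP (card_lt_card_of_lt hUD) (w : G)⁻¹ hcj
      rw [inv_inv] at h1
      exact h1.mono (SetLike.coe_subset_coe.mpr hUD.le)
  have htop : 𝒮 = ⊤ := by
    by_cases h34 : S ⊓ Subgroup.centralizer (H : Set ↥N) ≤ H ∧
        pPrimePCore p ↥N = H ⊔ Subgroup.centralizer (H : Set ↥N)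
    swap
    · exact local_partA H S 𝒮 hS hSi hHS.le hyp h34
    by_cases hcc : IsSylowChainConnected p (↥N ⧸ H)
    · exact local_partB H S 𝒮 hS hSi hHS hyp hcc
    obtain ⟨Y, hHY, hYn, hYd, hYmin, hfin⟩ := local_partC H S 𝒮 hS hSi hHS hyp hcc
    apply hfin
    -- the Goldschmidt data
    have hgood : GoodH p (P : Subgroup G) U := by
      refine ⟨hUP, hfn, ?_, ?_, hcc⟩
      · intro x hx
        have hxN : x ∈ N := Subgroup.centralizer_le_normalizer _ hx.2
        have h1 : (⟨x, hxN⟩ : ↥N) ∈ S ⊓ Subgroup.centralizer (H : Set ↥N) := by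
          refine Subgroup.mem_inf.mpr ⟨Subgroup.mem_subgroupOf.mpr hx.1, ?_⟩
          have h2 : x ∈ (Subgroup.centralizer (H : Set ↥N)).map N.subtype := by
            rw [map_centralizer_subgroupOf U]; exact hx.2
          obtain ⟨n, hn, hnx⟩ := h2
          have : n = ⟨x, hxN⟩ := Subtype.ext hnx
          rwa [this] at hn
        exact Subgroup.mem_subgroupOf.mp (h34.1 h1)
      · rw [h34.2, Subgroup.map_sup, hHmap, map_centralizer_subgroupOf U]
    set XG := Y.map N.subtype with hXG
    have hXGN : XG ≤ N := Subgroup.map_subtype_le Y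
    have hXGof : XG.subgroupOf N = Y := Subgroup.comap_map_eq_self_of_injective hinj Y
    have hmin : IsMinX p U XG := by
      refine ⟨?_, hXGN, ?_, ?_, ?_⟩
      · rw [← hHmap]; exact Subgroup.map_mono hHY
      · rw [hXGof]; exact hYn
      · rw [← hHmap, hXG, Subgroup.relIndex_map_map_of_injective _ _ hinj]
        exact hYd
      · intro Y' hUY' hY'N hY'n hY'd
        have h1 : Y ≤ Y'.subgroupOf N := by
          apply hYmin _ _ hY'n
          · rw [← Subgroup.relIndex_map_map_of_injective _ _ hinj, hHmap,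
              Subgroup.map_subgroupOf_eq_of_le hY'N]
            exact hY'd
          · intro n hn
            exact Subgroup.mem_subgroupOf.mpr (hUY' (Subgroup.mem_subgroupOf.mp hn))
        have h2 : XG ≤ (Y'.subgroupOf N).map N.subtype := Subgroup.map_mono h1
        rwa [Subgroup.map_subgroupOf_eq_of_le hY'N] at h2
    rintro z ⟨o, ho, rfl⟩
    apply hmem𝒮
    apply MChain.single_step (H := U) (X := XG) _ subset_rfl
    refine ⟨hgood, hmin, ?_⟩
    set e : ↥Y ≃* ↥XG := Y.equivMapOfInjective N.subtype hinj with he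
    have h1 : e o ∈ pResidual p ↥XG :=
      pResidual_map_le' p e.toMonoidHom ⟨o, ho, rfl⟩
    refine ⟨e o, h1, ?_⟩
    exact Subgroup.coe_equivMapOfInjective_apply Y N.subtype hinj o
  have : (⟨g, hg⟩ : ↥N) ∈ 𝒮 := by rw [htop]; exact Subgroup.mem_top _
  exact (mem_reach.mp (Subgroup.mem_subgroupOf.mp this)).2

theorem mchain_all {G : Type*} [Group G] [Finite G] {p : ℕ} [Fact p.Prime] (P : Sylow p G) :
    ∀ Q : Subgroup G, Q ≤ (P : Subgroup G) → ∀ g, cj g Q ≤ (P : Subgroup G) →
      MChain p (P : Subgroup G) (Q : Set G) g⁻¹ := by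
  apply alperin_induction P (fun Q g => MChain p (P : Subgroup G) (Q : Set G) g⁻¹)
    {U | U ≤ (P : Subgroup G) ∧ FullyNormalized p (P : Subgroup G) U}
  · intro Q hQ
    obtain ⟨g, hg1, hg2⟩ := exists_fullyNormalized_cj P hQ
    exact ⟨cj g Q, ⟨hg1, hg2⟩, ⟨g, rfl⟩, hg1, hg2⟩
  · intro Q g h _ _ _ h1 h2
    show MChain p (P : Subgroup G) (Q : Set G) (h * g)⁻¹
    rw [mul_inv_rev]
    apply h1.comp
    rwa [rc_coe_subgroup, inv_inv]
  · intro Q Q' g hle _ _ h1
    exact h1.mono (SetLike.coe_subset_coe.mpr hle)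
  · intro Q g _ _ h1
    have := MChain.inv h1
    rw [rc_coe_subgroup, inv_inv] at this
    show MChain p (P : Subgroup G) (cj g Q : Set G) g⁻¹⁻¹
    rw [inv_inv]
    exact this
  · intro U hU hUP hfn IH g hg
    exact loc_step P U hUP hfn IH g⁻¹ (inv_mem hg)


/-- A strong form of the Alperin–Goldschmidt fusion Theorem. Let P be a Sylow p-subgroup of the finite group G, A a subset of P containing a nonidentity element, and g an element with g⁻¹Ag ⊆ P. Then g = c·x₁⋯xₙ·y with c ∈ C_G(A), y ∈ N_G(P) and, for each i, an element xᵢ and a subgroup Hᵢ ≤ P such that: N_P(Hᵢ) is a Sylow p-subgroup of N_G(Hᵢ); C_P(Hᵢ) ≤ Hᵢ; O_{p',p}(N_G(Hᵢ)) = Hᵢ·C_G(Hᵢ); the Sylow p-subgroups of N_G(Hᵢ)/Hᵢ are not chain-connected through nontrivial intersections (the quotient has a strongly p-embedded subgroup); xᵢ lies in O^p(Xᵢ), where Xᵢ/Hᵢ is the smallest normal subgroup of N_G(Hᵢ)/Hᵢ of order divisible by p; and (x₁⋯xᵢ₋₁)⁻¹A(x₁⋯xᵢ₋₁) ⊆ Hᵢ. -/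
theorem result {G : Type*} [Group G] [Finite G] {p : ℕ} [Fact p.Prime]
    (P : Sylow p G) (A : Set G) (hA : A ⊆ (P : Set G)) (hA1 : ∃ a ∈ A, a ≠ 1)
    (g : G) (hAg : (fun a => g⁻¹ * a * g) '' A ⊆ (P : Set G)) :
    ∃ (n : ℕ) (H X : Fin n → Subgroup G) (x : Fin n → G) (c y : G),
      c ∈ Subgroup.centralizer A ∧ y ∈ Subgroup.normalizer ((P : Subgroup G) : Set G) ∧
      g = c * (List.ofFn x).prod * y ∧
      ∀ i : Fin n,
        H i ≤ (P : Subgroup G) ∧
        ¬ p ∣ ((P : Subgroup G) ⊓ Subgroup.normalizer (H i : Set G)).relIndex (Subgroup.normalizer (H i : Set G)) ∧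
        (P : Subgroup G) ⊓ Subgroup.centralizer (H i : Set G) ≤ H i ∧
        (Cfsg.pPrimePCore p ↥(Subgroup.normalizer (H i : Set G))).map (Subgroup.normalizer (H i : Set G)).subtype =
          H i ⊔ Subgroup.centralizer (H i : Set G) ∧
        ¬ Cfsg.IsSylowChainConnected p
            (↥(Subgroup.normalizer (H i : Set G)) ⧸ (H i).subgroupOf (Subgroup.normalizer (H i : Set G))) ∧
        (H i ≤ X i ∧ X i ≤ Subgroup.normalizer (H i : Set G) ∧
          ((X i).subgroupOf (Subgroup.normalizer (H i : Set G))).Normal ∧ p ∣ (H i).relIndex (X i) ∧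
          ∀ Y : Subgroup G, H i ≤ Y → Y ≤ Subgroup.normalizer (H i : Set G) →
            (Y.subgroupOf (Subgroup.normalizer (H i : Set G))).Normal → p ∣ (H i).relIndex Y → X i ≤ Y) ∧
        x i ∈ (Cfsg.pResidual p ↥(X i)).map (X i).subtype ∧
        (fun a => (((List.ofFn x).take i.val).prod)⁻¹ * a * ((List.ofFn x).take i.val).prod) '' A ⊆ (H i : Set G) := by
  have hQ : Subgroup.closure A ≤ (P : Subgroup G) := (Subgroup.closure_le _).mpr hA
  have hQg : cj g⁻¹ (Subgroup.closure A) ≤ (P : Subgroup G) := by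
    rw [cj_closure, Subgroup.closure_le]
    have : (fun a => g⁻¹ * a * g⁻¹⁻¹) '' A = (fun a => g⁻¹ * a * g) '' A := by
      simp
    rw [this]; exact hAg
  have h1 := mchain_all P (Subgroup.closure A) hQ g⁻¹ hQg
  rw [inv_inv] at h1
  have h2 : MChain p (P : Subgroup G) A g := h1.mono Subgroup.subset_closure
  obtain ⟨c, hc, y, hy, g₀, hg, hN⟩ := h2.normalForm
  obtain ⟨n, H, X, x, hprod, hs, hi⟩ := hN.exists_data
  refine ⟨n, H, X, x, c, y, hc, hy, by rw [hprod]; exact hg, fun i => ?_⟩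
  obtain ⟨hH, hX, hx⟩ := hs i
  exact ⟨hH.le, hH.fn, hH.cent, hH.core, hH.ncc, hX, hx, hi i⟩

end Cfsg.Agent.S3072
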