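import Cfsg.Statements.S3073
import Cfsg.Agent.S1988
import Cfsg.Agent.Lib.Helper2.Burnside
-- import your own Cfsg.Agent.* helpers here

set_option autoImplicit false
universe u
open Cfsg

namespace Cfsg.Agent.S3073

open Cfsg.Agent.Lib.Helper33 Cfsg.Agent.Lib.Helper51

/-- For an odd prime p, every finite p-group S has a characteristic subgroup K with C_S(K) ≤ K such that, whenever S is (isomorphic to) a Sylow p-subgroup of a finite group G, G has a normal p-complement if and only if N_G(K)/C_G(K) is a p-group, i.e. every element of N_G(K) of order prime to p centralizes K (K transported into G along the isomorphism). -/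
theorem result (p : ℕ) [Fact p.Prime] (hp : p ≠ 2)
    (S : Type u) [Group S] [Finite S] (hS : IsPGroup p S) :
    ∃ K : Subgroup S, K.Characteristic ∧ Subgroup.centralizer (K : Set S) ≤ K ∧
      ∀ (G : Type u) [Group G] [Finite G] (P : Sylow p G) (e : ↥(P : Subgroup G) ≃* S),
        Cfsg.HasNormalPComplement p G ↔
          ∀ g ∈ Subgroup.normalizer (((K.comap (e : ↥(P : Subgroup G) →* S)).map (P : Subgroup G).subtype : Subgroup G) : Set G),
            (orderOf g).Coprime p →
              g ∈ Subgroup.centralizer (((K.comap (e : ↥(P : Subgroup G) →* S)).map (P : Subgroup G).subtype : Subgroup G) : Set G) := by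
  have hW := isCharPFunctor_kInfLower.{u} p
  refine ⟨Cfsg.kInfLower S, ?_, (Cfsg.Agent.S1978.result hS).1, ?_⟩
  · rw [Subgroup.characteristic_iff_map_eq]
    intro φ
    exact hW.2 S S hS φ
  · intro G _ _ P e
    have hK : (Cfsg.kInfLower S).comap (e : ↥(P : Subgroup G) →* S) = Cfsg.kInfLower ↥(P : Subgroup G) := by
      have h1 : (Cfsg.kInfLower ↥(P : Subgroup G)).map e.toMonoidHom = Cfsg.kInfLower S :=
        hW.2 ↥(P : Subgroup G) S P.isPGroup' e
      rw [← h1]
      exact Subgroup.comap_map_eq_self_of_injective e.injective _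
    have hKG : ((Cfsg.kInfLower S).comap (e : ↥(P : Subgroup G) →* S)).map (P : Subgroup G).subtype =
        Cfsg.inducedFunctor Cfsg.kInfLower (P : Subgroup G) := by
      rw [hK]; rfl
    rw [hKG]
    constructor
    · intro h g hgN hg
      obtain ⟨N, hNn, hNc⟩ := Cfsg.Agent.Lib.Helper2.exists_normal_complement_of_hasNormalPComplement h P
      have hgN' : g ∈ N := Cfsg.Agent.Lib.Helper34.mem_of_coprime_orderOf_of_isComplement' P N hNc g hg
      have hKP : Cfsg.inducedFunctor Cfsg.kInfLower (P : Subgroup G) ≤ (P : Subgroup G) := by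
        rintro _ ⟨x, _, rfl⟩
        exact x.2
      rw [Subgroup.mem_centralizer_iff]
      intro k hk
      have h1 : g * k * g⁻¹ ∈ Cfsg.inducedFunctor Cfsg.kInfLower (P : Subgroup G) :=
        (Subgroup.mem_normalizer_iff.mp hgN k).mp hk
      have h2 : g * k * g⁻¹ * k⁻¹ ∈ (P : Subgroup G) :=
        Subgroup.mul_mem _ (hKP h1) (Subgroup.inv_mem _ (hKP hk))
      have h3 : g * k * g⁻¹ * k⁻¹ ∈ N := by
        have : k * g⁻¹ * k⁻¹ ∈ N := hNn.conj_mem _ (N.inv_mem hgN') k
        have e : g * k * g⁻¹ * k⁻¹ = g * (k * g⁻¹ * k⁻¹) := by group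
        rw [e]; exact N.mul_mem hgN' this
      have h4 : g * k * g⁻¹ * k⁻¹ ∈ N ⊓ (P : Subgroup G) := ⟨h3, h2⟩
      rw [hNc.disjoint.eq_bot, Subgroup.mem_bot] at h4
      calc k * g = (g * k * g⁻¹ * k⁻¹)⁻¹ * (g * k) := by group
        _ = g * k := by rw [h4]; simp
    · intro h
      exact Cfsg.Agent.S1988.result hp P (Or.inr h)

end Cfsg.Agent.S3073
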