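import Cfsg.Statements.S3075
import Mathlib
-- import your own Cfsg.Agent.* helpers here

set_option autoImplicit false
open Cfsg

namespace Cfsg.Agent.S3075

open Subgroup

/-- If `D` is a cyclic subgroup stable under conjugation, then commutators centralize `D`. -/
theorem comm_centralizes_cyclic {N : Type*} [Group N] (D : Subgroup N) (hD : IsCyclic D)
    (hDn : ∀ n : N, ∀ d ∈ D, n * d * n⁻¹ ∈ D) (x y : N) :
    ∀ d ∈ D, ((y * x)⁻¹ * (x * y)) * d = d * ((y * x)⁻¹ * (x * y)) := by
  obtain ⟨⟨g, hgD⟩, hg⟩ := hD.exists_generator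
  have hgen : ∀ d ∈ D, ∃ k : ℤ, g ^ k = d := by
    intro d hd
    obtain ⟨k, hk⟩ := Subgroup.mem_zpowers_iff.mp (hg ⟨d, hd⟩)
    refine ⟨k, ?_⟩
    have := congrArg Subtype.val hk
    simpa using this
  obtain ⟨i, hi⟩ := hgen _ (hDn x g hgD)
  obtain ⟨j, hj⟩ := hgen _ (hDn y g hgD)
  have h1 : (x * y) * g * (x * y)⁻¹ = g ^ (i * j) := by
    have : (x * y) * g * (x * y)⁻¹ = x * (y * g * y⁻¹) * x⁻¹ := by group
    rw [this, ← hj, ← conj_zpow, ← hi, ← zpow_mul]
  have h2 : (y * x) * g * (y * x)⁻¹ = g ^ (i * j) := by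
    have : (y * x) * g * (y * x)⁻¹ = y * (x * g * x⁻¹) * y⁻¹ := by group
    rw [this, ← hi, ← conj_zpow, ← hj, ← zpow_mul, mul_comm]
  have h3 : ((y * x)⁻¹ * (x * y)) * g = g * ((y * x)⁻¹ * (x * y)) := by
    have h4 : (x * y) * g * (x * y)⁻¹ = (y * x) * g * (y * x)⁻¹ := by rw [h1, h2]
    have h5 : (x * y) * g = (y * x) * g * (y * x)⁻¹ * (x * y) := by
      rw [← h4]; group
    calc ((y * x)⁻¹ * (x * y)) * g = (y * x)⁻¹ * ((x * y) * g) := by group
      _ = (y * x)⁻¹ * ((y * x) * g * (y * x)⁻¹ * (x * y)) := by rw [← h5]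
      _ = g * ((y * x)⁻¹ * (x * y)) := by group
  intro d hd
  obtain ⟨k, rfl⟩ := hgen d hd
  exact (Commute.zpow_right h3 k)


theorem core {N : Type*} [Group N] [Finite N] {p : ℕ} [hpp : Fact p.Prime] (hp : p ≠ 2)
    (A : Subgroup N) [hAn : A.Normal]
    (hAcomm : ∀ a ∈ A, ∀ b ∈ A, a * b = b * a) (hAcard : Nat.card A = p ^ 2)
    (hAexp : ∀ a ∈ A, a ^ p = 1)
    (hAself : ∀ g : N, (∀ a ∈ A, g * a = a * g) → g ∈ A)
    (t : N) (htA : t ∉ A) (ht2 : t * t = 1) (htc : ∀ n : N, n * t * n⁻¹ * t⁻¹ ∈ A)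
    (hnc : ∃ x y : N, (y * x)⁻¹ * (x * y) ∉ A) :
    ∃ U : Subgroup N, A ⊓ U = ⊥ ∧ A ⊔ U = ⊤ := by
  obtain ⟨k, hk⟩ : ∃ k, p = 2 * k + 1 := by
    rcases hpp.out.eq_two_or_odd' with h | h
    · exact absurd h hp
    · exact h
  -- conjugation by t
  set c : MulAut N := MulAut.conj t with hc
  have hc_apply : ∀ a, c a = t * a * t⁻¹ := fun a => by rw [hc, MulAut.conj_apply]
  have hc2 : ∀ a, c (c a) = a := by
    intro a
    rw [hc, ← MulAut.mul_apply, ← map_mul, ht2, map_one, MulAut.one_apply]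
  have hcA : ∀ a ∈ A, c a ∈ A := fun a ha => by rw [hc_apply]; exact hAn.conj_mem a ha t
  -- square roots in A
  have hroot : ∀ a ∈ A, (a * a) ^ (k + 1) = a := by
    intro a ha
    rw [← pow_two, ← pow_mul]
    have : 2 * (k + 1) = p + 1 := by omega
    rw [this, pow_succ, hAexp a ha, one_mul]
  have hroot' : ∀ a ∈ A, a ^ (k + 1) * a ^ (k + 1) = a := by
    intro a ha
    rw [← pow_add]
    have : k + 1 + (k + 1) = p + 1 := by omega
    rw [this, pow_succ, hAexp a ha, one_mul]
  -- c commutes with conjugation on A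
  have key : ∀ n a, a ∈ A → c (n * a * n⁻¹) = n * c a * n⁻¹ := by
    intro n a ha
    rw [hc_apply, hc_apply]
    set d := n⁻¹ * t * n * t⁻¹ with hd
    have hdA : d ∈ A := by
      have := htc n⁻¹
      rwa [inv_inv] at this
    have htn : t * n = n * d * t := by rw [hd]; group
    have hcaA : t * a * t⁻¹ ∈ A := hAn.conj_mem a ha t
    calc t * (n * a * n⁻¹) * t⁻¹ = (t * n) * a * (t * n)⁻¹ := by group
      _ = (n * d * t) * a * (n * d * t)⁻¹ := by rw [htn]
      _ = n * (d * (t * a * t⁻¹) * d⁻¹) * n⁻¹ := by group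
      _ = n * (t * a * t⁻¹) * n⁻¹ := by rw [hAcomm d hdA _ hcaA, mul_inv_cancel_right]
  let B : Subgroup N :=
    { carrier := {a | a ∈ A ∧ c a = a}
      mul_mem' := fun {a b} ha hb => ⟨A.mul_mem ha.1 hb.1, by rw [map_mul, ha.2, hb.2]⟩
      one_mem' := ⟨A.one_mem, map_one c⟩
      inv_mem' := fun {a} ha => ⟨A.inv_mem ha.1, by rw [map_inv, ha.2]⟩ }
  let C : Subgroup N :=
    { carrier := {a | a ∈ A ∧ c a = a⁻¹}
      mul_mem' := fun {a b} ha hb => ⟨A.mul_mem ha.1 hb.1, by
        rw [map_mul, ha.2, hb.2, mul_inv_rev]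
        exact hAcomm _ (A.inv_mem ha.1) _ (A.inv_mem hb.1)⟩
      one_mem' := ⟨A.one_mem, by simp⟩
      inv_mem' := fun {a} ha => ⟨A.inv_mem ha.1, by rw [map_inv, ha.2]⟩ }
  have hmemB : ∀ a, a ∈ B ↔ a ∈ A ∧ c a = a := fun a => Iff.rfl
  have hmemC : ∀ a, a ∈ C ↔ a ∈ A ∧ c a = a⁻¹ := fun a => Iff.rfl
  have hBA : B ≤ A := fun a ha => ha.1
  have hCA : C ≤ A := fun a ha => ha.1
  have hplus : ∀ a ∈ A, a * c a ∈ B := by
    intro a ha
    refine ⟨A.mul_mem ha (hcA a ha), ?_⟩
    rw [map_mul, hc2]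
    exact hAcomm _ (hcA a ha) _ ha
  have hminus : ∀ a ∈ A, a * (c a)⁻¹ ∈ C := by
    intro a ha
    refine ⟨A.mul_mem ha (A.inv_mem (hcA a ha)), ?_⟩
    rw [map_mul, map_inv, hc2, mul_inv_rev, inv_inv]
  have hBcard : Nat.card B ∣ p ^ 2 := hAcard ▸ Subgroup.card_dvd_of_le hBA
  obtain ⟨i, hi, hBi⟩ := (Nat.dvd_prime_pow hpp.out).mp hBcard
  have hp1 : 1 < p := hpp.out.one_lt
  interval_cases i
  · -- B trivial: the good case
    have hBbot : B = ⊥ := by
      rw [pow_zero] at hBi
      exact (Subgroup.card_eq_one).mp hBi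
    have hinv : ∀ a ∈ A, c a = a⁻¹ := by
      intro a ha
      have h1 := hplus a ha
      rw [hBbot, Subgroup.mem_bot] at h1
      exact (eq_inv_of_mul_eq_one_right h1)
    refine ⟨Subgroup.centralizer {t}, ?_, ?_⟩
    · rw [eq_bot_iff]
      intro a ha
      rw [Subgroup.mem_inf, Subgroup.mem_centralizer_iff] at ha
      have h1 : a ∈ B := by
        refine ⟨ha.1, ?_⟩
        rw [hc_apply, ha.2 t rfl, mul_inv_cancel_right]
      rw [hBbot] at h1
      exact h1
    · rw [eq_top_iff]
      intro n _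
      set d := n * t * n⁻¹ * t⁻¹ with hd
      have hdA : d ∈ A := htc n
      set b := d ^ (k + 1) with hb
      have hbA : b ∈ A := A.pow_mem hdA _
      have hbb : b * b = d := hroot' d hdA
      have e1 : t * b⁻¹ = b * t := by
        have h1 := hinv b⁻¹ (A.inv_mem hbA)
        rw [hc_apply, inv_inv, mul_inv_eq_iff_eq_mul] at h1
        exact h1
      have e2 : n * t = d * t * n := by rw [hd]; group
      have hU : b⁻¹ * n ∈ Subgroup.centralizer {t} := by
        rw [Subgroup.mem_centralizer_iff]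
        intro h hh
        rw [Set.mem_singleton_iff] at hh
        subst hh
        calc h * (b⁻¹ * n) = (h * b⁻¹) * n := by group
          _ = b * h * n := by rw [e1]
          _ = b⁻¹ * (b * b) * h * n := by group
          _ = b⁻¹ * d * h * n := by rw [hbb]
          _ = b⁻¹ * (d * h * n) := by group
          _ = b⁻¹ * (n * h) := by rw [e2]
          _ = (b⁻¹ * n) * h := by group
      have : n = b * (b⁻¹ * n) := by group
      rw [this]
      exact Subgroup.mul_mem_sup hbA hU
  · -- |B| = p : impossible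
    exfalso
    rw [pow_one] at hBi
    have hdisj : Disjoint B C := by
      rw [Subgroup.disjoint_def]
      intro a haB haC
      have h1 : a = a⁻¹ := haB.2.symm.trans haC.2
      have h2 : a * a = 1 := by
        nth_rewrite 2 [h1]
        exact mul_inv_cancel a
      have := hroot a haB.1
      rw [h2, one_pow] at this
      exact this.symm
    have hCcard : Nat.card C ∣ p ^ 2 := hAcard ▸ Subgroup.card_dvd_of_le hCA
    obtain ⟨j, hj, hCj⟩ := (Nat.dvd_prime_pow hpp.out).mp hCcard
    have hle : Nat.card B * Nat.card C ≤ Nat.card A := by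
      rw [← Nat.card_prod]
      let f : B × C → A := fun g => ⟨g.1 * g.2, A.mul_mem (hBA g.1.2) (hCA g.2.2)⟩
      apply Nat.card_le_card_of_injective f
      intro g1 g2 h
      apply Subgroup.mul_injective_of_disjoint hdisj
      exact congrArg Subtype.val h
    rw [hBi, hCj, hAcard] at hle
    have hj1 : j ≤ 1 := by
      by_contra hcon
      have hj2 : j = 2 := by omega
      rw [hj2] at hle
      have : p ^ 2 < p * p ^ 2 := by
        have hpos : 0 < p ^ 2 := by positivity
        nlinarith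
      omega
    have hCdvd : Nat.card C ∣ p := by
      rw [hCj]
      interval_cases j
      · simp
      · simp
    have hBcyc : IsCyclic B := isCyclic_of_card_dvd_prime (p := p) (by rw [hBi])
    have hCcyc : IsCyclic C := isCyclic_of_card_dvd_prime (p := p) hCdvd
    have hBn : ∀ n : N, ∀ d ∈ B, n * d * n⁻¹ ∈ B := by
      intro n d hd
      refine ⟨hAn.conj_mem d hd.1 n, ?_⟩
      rw [key n d hd.1, hd.2]
    have hCn : ∀ n : N, ∀ d ∈ C, n * d * n⁻¹ ∈ C := by
      intro n d hd
      refine ⟨hAn.conj_mem d hd.1 n, ?_⟩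
      rw [key n d hd.1, hd.2]
      group
    obtain ⟨x, y, hxy⟩ := hnc
    apply hxy
    apply hAself
    intro a ha
    have hB' := comm_centralizes_cyclic B hBcyc hBn x y _ (hplus a ha)
    have hC' := comm_centralizes_cyclic C hCcyc hCn x y _ (hminus a ha)
    have haa : a * a = (a * c a) * (a * (c a)⁻¹) := by
      have h1 : c a * (a * (c a)⁻¹) = a := by
        rw [← mul_assoc, hAcomm _ (hcA a ha) _ ha, mul_assoc, mul_inv_cancel, mul_one]
      rw [mul_assoc, h1]
    have h3 : Commute ((y * x)⁻¹ * (x * y)) (a * a) := by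
      rw [haa]
      exact Commute.mul_right hB' hC'
    have h4 := Commute.pow_right h3 (k + 1)
    rw [hroot a ha] at h4
    exact h4
  · -- B = A : impossible
    exfalso
    have hBA' : B = A := by
      apply Subgroup.eq_of_le_of_card_ge hBA
      rw [hBi, hAcard]
    apply htA
    apply hAself
    intro a ha
    have h1 : a ∈ B := hBA'.symm ▸ ha
    have h2 := h1.2
    rw [hc_apply, mul_inv_eq_iff_eq_mul] at h2
    exact h2


/-- Let p be an odd prime and N a finite group with a normal elementary abelian subgroup A of order p² that is its own centralizer in N, such that N/A is isomorphic to SL₂(p) (over any field F with p elements). Then N splits over A: some subgroup U of N satisfies A ∩ U = 1 and AU = N. -/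
theorem result {N : Type*} [Group N] [Finite N] {p : ℕ} [Fact p.Prime] (hp : p ≠ 2)
    (A : Subgroup N) [A.Normal] (hAcomm : IsMulCommutative A) (hAcard : Nat.card A = p ^ 2) (hAexp : Monoid.exponent ↥A = p)
    (hAself : Subgroup.centralizer (A : Set N) = A)
    {F : Type*} [Field F] [Fintype F] (hF : Fintype.card F = p) (e : N ⧸ A ≃* Matrix.SpecialLinearGroup (Fin 2) F) :
    ∃ U : Subgroup N, A ⊓ U = ⊥ ∧ A ⊔ U = ⊤ := by
  have hpp : p.Prime := Fact.out
  obtain ⟨k, hk⟩ : ∃ k, p = 2 * k + 1 := by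
    rcases hpp.eq_two_or_odd' with h | h
    · exact absurd h hp
    · exact h
  have hcomm : ∀ a ∈ A, ∀ b ∈ A, a * b = b * a := by
    intro a ha b hb
    have := hAcomm.is_comm.comm (⟨a, ha⟩ : A) ⟨b, hb⟩
    exact congrArg Subtype.val this
  have hexp : ∀ a ∈ A, a ^ p = 1 := by
    intro a ha
    have := Monoid.pow_exponent_eq_one (⟨a, ha⟩ : A)
    rw [hAexp] at this
    exact congrArg Subtype.val this
  have hself : ∀ g : N, (∀ a ∈ A, g * a = a * g) → g ∈ A := by
    intro g hg
    rw [← hAself, Subgroup.mem_centralizer_iff]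
    intro a ha
    exact (hg a ha).symm
  -- the field has odd characteristic
  have hpF : (p : F) = 0 := by
    rw [← hF]; exact Nat.cast_card_eq_zero F
  have h2F : (1 : F) ≠ -1 := by
    intro h
    have h2 : (2 : F) = 0 := by
      have : (1 : F) + 1 = 0 := by nth_rewrite 1 [h]; ring
      rw [← this]; norm_num
    have : (p : F) = 1 := by
      rw [hk]; push_cast; rw [h2]; ring
    rw [hpF] at this
    exact zero_ne_one this
  -- the central involution of SL₂
  set z : Matrix.SpecialLinearGroup (Fin 2) F := -1 with hz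
  have hz1 : z ≠ 1 := by
    intro h
    have := congrArg (fun M : Matrix.SpecialLinearGroup (Fin 2) F => M.1 0 0) h
    simp [hz] at this
    exact h2F this.symm
  have hz2 : z * z = 1 := by rw [hz]; simp
  have hzc : ∀ M : Matrix.SpecialLinearGroup (Fin 2) F, M * z = z * M := by
    intro M; rw [hz]; simp
  obtain ⟨g, hg⟩ := QuotientGroup.mk_surjective (s := A) (e.symm z)
  have hg2 : g * g ∈ A := by
    rw [← QuotientGroup.eq_one_iff, QuotientGroup.mk_mul, hg, ← map_mul, hz2, map_one]
  set t := g ^ p with ht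
  have htq : (t : N ⧸ A) = e.symm z := by
    have : t = (g * g) ^ k * g := by
      rw [ht, hk, pow_succ, pow_mul, pow_two]
    rw [this, QuotientGroup.mk_mul, QuotientGroup.mk_pow, (QuotientGroup.eq_one_iff _).mpr hg2,
      one_pow, one_mul, hg]
  have htA : t ∉ A := by
    intro h
    rw [← QuotientGroup.eq_one_iff, htq] at h
    have : z = 1 := by
      have := congrArg e h
      simpa using this
    exact hz1 this
  have ht2 : t * t = 1 := by
    have : t * t = (g * g) ^ p := by
      rw [ht, ← pow_two, ← pow_mul, ← pow_two, ← pow_mul, mul_comm]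
    rw [this]
    exact hexp _ hg2
  have htc : ∀ n : N, n * t * n⁻¹ * t⁻¹ ∈ A := by
    intro n
    rw [← QuotientGroup.eq_one_iff]
    simp only [QuotientGroup.mk_mul, QuotientGroup.mk_inv, htq]
    apply e.injective
    simp only [map_mul, map_inv, MulEquiv.apply_symm_apply, map_one]
    rw [hzc, mul_assoc, mul_assoc, mul_inv_cancel_left, mul_inv_cancel]
  have hnc : ∃ x y : N, (y * x)⁻¹ * (x * y) ∉ A := by
    let X : Matrix.SpecialLinearGroup (Fin 2) F := ⟨!![1, 1; 0, 1], by simp [Matrix.det_fin_two]⟩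
    let Y : Matrix.SpecialLinearGroup (Fin 2) F := ⟨!![1, 0; 1, 1], by simp [Matrix.det_fin_two]⟩
    obtain ⟨x, hx⟩ := QuotientGroup.mk_surjective (s := A) (e.symm X)
    obtain ⟨y, hy⟩ := QuotientGroup.mk_surjective (s := A) (e.symm Y)
    refine ⟨x, y, ?_⟩
    intro h
    rw [← QuotientGroup.eq] at h
    simp only [QuotientGroup.mk_mul, hx, hy, ← map_mul] at h
    have h1 := e.symm.injective h
    have h2 := congrArg (fun M : Matrix.SpecialLinearGroup (Fin 2) F =>
      (M : Matrix (Fin 2) (Fin 2) F) 0 0) h1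
    simp only [Matrix.SpecialLinearGroup.coe_mul] at h2
    simp [X, Y, Matrix.mul_apply, Fin.sum_univ_two] at h2
  exact core hp A hcomm hAcard hexp hself t htA ht2 htc hnc

end Cfsg.Agent.S3075
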