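import Cfsg.Statements.S3084
import Cfsg.Agent.Lib.Helper3.ESMain
import Cfsg.Agent.Lib.Helper9.ESHyp

set_option autoImplicit false
open Cfsg

namespace Cfsg.Agent.S3084

/-- Let K be a group acting faithfully and linearly on a finite-dimensional vector space U of dimension 2n ≥ 2 over the field with two elements, preserving a quadratic form q whose polar bilinear form is non-degenerate and which vanishes on some n-dimensional subspace (a non-singular form of plus type). Then there is a finite group R with a normal extraspecial 2-subgroup Q of order 2^(2n+1), an isomorphism of R/Q with K, and a surjective homomorphism χ from Q onto (the additive group of) U with kernel the centre of Q, such that χ carries conjugation by any r in R to the action of the image of r in K, and an element a of Q squares to the identity exactly when q vanishes at χ(a). -/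
theorem result {K : Type*} [Group K] {U : Type*} [AddCommGroup U] [Module (ZMod 2) U] [Module.Finite (ZMod 2) U] (n : ℕ) (hn1 : 1 ≤ n) (hn : Module.finrank (ZMod 2) U = 2 * n) (ρ : Representation (ZMod 2) K U) (hρ : Function.Injective ρ) (q : QuadraticForm (ZMod 2) U) (hq : ∀ (k : K) (u : U), q (ρ k u) = q u) (hnd : (QuadraticMap.polarBilin q).Nondegenerate) (hplus : ∃ W : Submodule (ZMod 2) U, Module.finrank (ZMod 2) ↥W = n ∧ ∀ w ∈ W, q w = 0) : ∃ (R : Type) (_ : Group R) (_ : Finite R) (Q : Subgroup R) (hN : Q.Normal) (e : R ⧸ Q ≃* K) (χ : ↥Q →* Multiplicative U), Cfsg.IsExtraspecial 2 ↥Q ∧ Nat.card ↥Q = 2 ^ (2 * n + 1) ∧ Function.Surjective χ ∧ χ.ker = Subgroup.center ↥Q ∧ (∀ (r : R) (a : ↥Q), χ ⟨r * a * r⁻¹, hN.conj_mem (a : R) a.2 r⟩ = Multiplicative.ofAdd (ρ (e (r : R ⧸ Q)) (Multiplicative.toAdd (χ a)))) ∧ ∀ a : ↥Q, a * a = 1 ↔ q (Multiplicative.toAdd (χ a)) = 0 := by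
  obtain ⟨ψ, hψ⟩ := Cfsg.Agent.Lib.Helper9.ESHyp.exists_hyperbolic_coords n hn q hnd hplus
  -- the action of `K` in coordinates
  have hinv1 : ∀ k : K, (ρ k).comp (ρ k⁻¹) = LinearMap.id := by
    intro k
    rw [← Module.End.mul_eq_comp, ← map_mul, mul_inv_cancel, map_one]; rfl
  have hinv2 : ∀ k : K, (ρ k⁻¹).comp (ρ k) = LinearMap.id := by
    intro k
    rw [← Module.End.mul_eq_comp, ← map_mul, inv_mul_cancel, map_one]; rfl
  let ρe : K → (U ≃ₗ[ZMod 2] U) := fun k => LinearEquiv.ofLinearMap (ρ k) (ρ k⁻¹) (hinv1 k) (hinv2 k)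
  let κ : K →* (Cfsg.Agent.Lib.Helper3.ES.II n ≃ₗ[ZMod 2] Cfsg.Agent.Lib.Helper3.ES.II n) :=
    { toFun := fun k => (ψ.symm.trans (ρe k)).trans ψ
      map_one' := by
        ext1 u
        change ψ (ρ 1 (ψ.symm u)) = u
        rw [map_one]; simp
      map_mul' := by
        intro k k'
        ext1 u
        change ψ (ρ (k * k') (ψ.symm u)) = ψ (ρ k (ψ.symm (ψ (ρ k' (ψ.symm u)))))
        rw [map_mul, LinearEquiv.symm_apply_apply]; rfl }
  have hκapp : ∀ k u, κ k u = ψ (ρ k (ψ.symm u)) := fun k u => rfl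
  have hκinj : Function.Injective κ := by
    intro k k' h
    apply hρ
    refine LinearMap.ext fun u => ?_
    have h1 := congrArg (fun σ : Cfsg.Agent.Lib.Helper3.ES.II n ≃ₗ[ZMod 2] Cfsg.Agent.Lib.Helper3.ES.II n => σ (ψ u)) h
    simp only [hκapp, LinearEquiv.symm_apply_apply] at h1
    exact ψ.injective h1
  have hκq : ∀ k u, Cfsg.Agent.Lib.Helper3.ES.qq (κ k u) = Cfsg.Agent.Lib.Helper3.ES.qq u := by
    intro k u
    rw [hκapp]
    change (ψ (ρ k (ψ.symm u))).1 ⬝ᵥ (ψ (ρ k (ψ.symm u))).2 = u.1 ⬝ᵥ u.2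
    rw [← hψ, hq, hψ, LinearEquiv.apply_symm_apply]
  obtain ⟨R, iG, iF, Q, hN, e, χ₀, hES, hcard, hsurj, hker, hconj, hsq⟩ :=
    Cfsg.Agent.Lib.Helper3.ES.main_coords hn1 hκinj hκq
  let Ψ : Multiplicative (Cfsg.Agent.Lib.Helper3.ES.II n) →* Multiplicative U :=
    AddMonoidHom.toMultiplicative (ψ.symm : Cfsg.Agent.Lib.Helper3.ES.II n ≃ₗ[ZMod 2] U).toLinearMap.toAddMonoidHom
  have hΨapp : ∀ x : Multiplicative (Cfsg.Agent.Lib.Helper3.ES.II n),
      Multiplicative.toAdd (Ψ x) = ψ.symm (Multiplicative.toAdd x) := fun x => rfl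
  have hΨinj : Function.Injective Ψ := by
    intro x y h
    have h1 : ψ.symm (Multiplicative.toAdd x) = ψ.symm (Multiplicative.toAdd y) :=
      congrArg Multiplicative.toAdd h
    exact ψ.symm.injective h1
  refine ⟨R, iG, iF, Q, hN, e, Ψ.comp χ₀, hES, hcard, ?_, ?_, ?_, ?_⟩
  · intro u
    obtain ⟨a, ha⟩ := hsurj (Multiplicative.ofAdd (ψ (Multiplicative.toAdd u)))
    refine ⟨a, ?_⟩
    rw [MonoidHom.comp_apply, ha]
    change Multiplicative.ofAdd (ψ.symm (ψ (Multiplicative.toAdd u))) = u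
    rw [LinearEquiv.symm_apply_apply]; rfl
  · rw [← hker]
    ext a
    rw [MonoidHom.mem_ker, MonoidHom.mem_ker, MonoidHom.comp_apply]
    constructor
    · intro h
      apply hΨinj
      rw [h, map_one]
    · intro h
      rw [h, map_one]
  · intro r a
    rw [MonoidHom.comp_apply, hconj r a, MonoidHom.comp_apply]
    change Multiplicative.ofAdd (ψ.symm (κ (e (r : R ⧸ Q)) (Multiplicative.toAdd (χ₀ a)))) =
      Multiplicative.ofAdd (ρ (e (r : R ⧸ Q)) (ψ.symm (Multiplicative.toAdd (χ₀ a))))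
    rw [hκapp, LinearEquiv.symm_apply_apply]
  · intro a
    rw [hsq a, MonoidHom.comp_apply, hΨapp, hψ, LinearEquiv.apply_symm_apply]
    rfl

end Cfsg.Agent.S3084
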