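import Cfsg.Statements.S5432
-- import your own Cfsg.Agent.* helpers here
import Cfsg.Agent.Lib.Helper53.FrattiniAut
import Cfsg.Agent.Lib.Helper89.QuadF2Class
import Cfsg.Agent.Lib.Helper89.ESQuad

set_option autoImplicit false
open Cfsg

namespace Cfsg.Agent.S5432

open Cfsg.Agent.Lib.Helper89.QuadF2 Cfsg.Agent.Lib.Helper89.ESOut Cfsg.Agent.Lib.Helper89.ESQuad

/-- the polar form of the hyperbolic form -/
theorem hB_plus (n : ℕ) (u v : Fin n ⊕ Fin n → ZMod 2) :
    Cfsg.quadFormPlus n (ZMod 2) (u + v) + Cfsg.quadFormPlus n (ZMod 2) u +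
      Cfsg.quadFormPlus n (ZMod 2) v = ∑ i, u i * v (Equiv.sumComm (Fin n) (Fin n) i) := by
  unfold Cfsg.quadFormPlus
  rw [Fintype.sum_sum_type, ← Finset.sum_add_distrib, ← Finset.sum_add_distrib,
    ← Finset.sum_add_distrib]
  apply Finset.sum_congr rfl
  intro i _
  simp only [Pi.add_apply, Equiv.sumComm_apply, Sum.swap_inl, Sum.swap_inr]
  have : ∀ a b c d : ZMod 2, (a + c) * (b + d) + a * b + c * d = a * d + b * c := by decide
  exact this _ _ _ _

/-- the polar form of the elliptic form -/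
theorem hB_minus (m : ℕ) (u v : (Fin m ⊕ Fin m) ⊕ Fin 2 → ZMod 2) :
    Cfsg.quadFormMinus m (ZMod 2) 1 1 (u + v) + Cfsg.quadFormMinus m (ZMod 2) 1 1 u +
      Cfsg.quadFormMinus m (ZMod 2) 1 1 v =
    ∑ i, u i * v ((Equiv.sumCongr (Equiv.sumComm (Fin m) (Fin m)) (Equiv.swap (0 : Fin 2) 1)) i) := by
  unfold Cfsg.quadFormMinus
  rw [Fintype.sum_sum_type, Fintype.sum_sum_type, Fin.sum_univ_two]
  simp only [Equiv.sumCongr_apply, Sum.map_inl, Sum.map_inr, Equiv.sumComm_apply, Sum.swap_inl,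
    Sum.swap_inr, Equiv.swap_apply_left, Equiv.swap_apply_right, Pi.add_apply]
  have h1 : ∀ i : Fin m, (u (Sum.inl (Sum.inl i)) + v (Sum.inl (Sum.inl i))) *
      (u (Sum.inl (Sum.inr i)) + v (Sum.inl (Sum.inr i))) =
      u (Sum.inl (Sum.inl i)) * u (Sum.inl (Sum.inr i)) + v (Sum.inl (Sum.inl i)) * v (Sum.inl (Sum.inr i)) +
      (u (Sum.inl (Sum.inl i)) * v (Sum.inl (Sum.inr i)) + u (Sum.inl (Sum.inr i)) * v (Sum.inl (Sum.inl i))) := by
    intro i
    ring
  rw [Finset.sum_congr rfl (fun i _ => h1 i), Finset.sum_add_distrib, Finset.sum_add_distrib,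
    Finset.sum_add_distrib]
  generalize (∑ i : Fin m, u (Sum.inl (Sum.inl i)) * u (Sum.inl (Sum.inr i))) = S1
  generalize (∑ i : Fin m, v (Sum.inl (Sum.inl i)) * v (Sum.inl (Sum.inr i))) = S2
  generalize (∑ i : Fin m, u (Sum.inl (Sum.inl i)) * v (Sum.inl (Sum.inr i))) = S3
  generalize (∑ i : Fin m, u (Sum.inl (Sum.inr i)) * v (Sum.inl (Sum.inl i))) = S4
  generalize u (Sum.inr 0) = a
  generalize u (Sum.inr 1) = b
  generalize v (Sum.inr 0) = c
  generalize v (Sum.inr 1) = d
  revert S1 S2 S3 S4 a b c d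
  decide

/-- the structure `Pre` of an extraspecial 2-group -/
theorem exists_pre {E : Type*} [Group E] [Finite E] (hE : Cfsg.IsExtraspecial 2 E) :
    Nonempty (Pre E (Additive (Abelianization E))) := by
  have hP : IsPGroup 2 E := hE.1.1
  have hfr : frattini E = Subgroup.center E := hE.1.2.1
  have hcomm : commutator E = Subgroup.center E := hE.1.2.2
  have hcard2 : Nat.card ↥(Subgroup.center E) = 2 := hE.2
  obtain ⟨z, hz, hzu⟩ := (Nat.card_eq_two_iff' (1 : ↥(Subgroup.center E))).1 hcard2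
  have hz1 : (z : E) ≠ 1 := by
    intro h
    apply hz
    exact Subtype.ext h
  have hZ : ∀ x : E, x ∈ Subgroup.center E ↔ x = 1 ∨ x = (z : E) := by
    intro x
    constructor
    · intro hx
      by_cases h1 : x = 1
      · left; exact h1
      · right
        have h2 : (⟨x, hx⟩ : ↥(Subgroup.center E)) ≠ 1 := by
          intro h
          apply h1
          exact congrArg Subtype.val h
        exact congrArg Subtype.val (hzu ⟨x, hx⟩ h2)
    · rintro (rfl | rfl)
      · exact Subgroup.one_mem _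
      · exact z.2
  have hz2 : (z : E) * (z : E) = 1 := by
    rcases (hZ _).1 (Subgroup.mul_mem _ z.2 z.2) with h | h
    · exact h
    · exfalso
      apply hz1
      have : (z : E) * (z : E) = (z : E) * 1 := by rw [h, mul_one]
      exact mul_left_cancel this
  refine ⟨{ z := (z : E), hz1 := hz1, hz2 := hz2, hZ := hZ,
            f := fun x => Additive.ofMul (Abelianization.of x), hf_mul := ?_, hf_surj := ?_, hf_ker := ?_,
            hsq := ?_ }⟩
  · intro x y
    rw [map_mul, ofMul_mul]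
  · intro v
    obtain ⟨x, hx⟩ := QuotientGroup.mk_surjective (Additive.toMul v)
    exact ⟨x, congrArg Additive.ofMul hx⟩
  · intro x
    rw [← hcomm, ← Abelianization.ker_of, MonoidHom.mem_ker]
    rfl
  · intro x
    rw [← hfr, ← pow_two]
    exact Cfsg.Agent.Lib.Helper53.pow_prime_mem_frattini' hP x


/-- Let E be an extraspecial 2-group of order 2^(2n+1), n ≥ 1. If E contains an elementary abelian subgroup of order 2^(n+1) (plus type), then its outer automorphism group is isomorphic to the full isometry group of the hyperbolic quadratic form in dimension 2n over the field with two elements; otherwise (minus type) it is isomorphic to the full isometry group of the elliptic quadratic form in dimension 2n over that field. -/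
theorem result {E : Type*} [Group E] [Finite E] (hE : Cfsg.IsExtraspecial 2 E) (n : ℕ) (hn : 1 ≤ n) (hcard : Nat.card E = 2 ^ (2 * n + 1)) : ((∃ A : Subgroup E, Cfsg.IsElementaryAbelian 2 A ∧ Nat.card ↥A = 2 ^ (n + 1)) → Nonempty (Cfsg.Out E ≃* Cfsg.isometryGroup (ZMod 2) (Cfsg.quadFormPlus n (ZMod 2)))) ∧ ((¬ ∃ A : Subgroup E, Cfsg.IsElementaryAbelian 2 A ∧ Nat.card ↥A = 2 ^ (n + 1)) → Nonempty (Cfsg.Out E ≃* Cfsg.isometryGroup (ZMod 2) (Cfsg.quadFormMinus (n - 1) (ZMod 2) 1 1))) := by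
  obtain ⟨P⟩ := exists_pre hE
  have hV : Nat.card (Additive (Abelianization E)) = 2 ^ (2 * n) := by
    have h1 := P.card_eq
    rw [hcard] at h1
    have h2 : 2 ^ (2 * n + 1) = 2 * 2 ^ (2 * n) := by ring
    omega
  constructor
  · rintro ⟨A, hA, hAc⟩
    obtain ⟨U, hU, hUc⟩ := P.exists_singular_of_elemAb A hA
    have hUc' : 2 ^ n ≤ Nat.card ↥U := by
      rw [hAc] at hUc
      have h2 : 2 ^ (n + 1) = 2 * 2 ^ n := by ring
      omega
    obtain ⟨e, he⟩ := plus_final P.isQuad n hV ⟨U, hU, hUc'⟩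
    exact (P.toCoord (Equiv.sumComm (Fin n) (Fin n)) (hB_plus n) e he).nonempty_out_equiv
  · intro hno
    obtain ⟨m, rfl⟩ : ∃ m, n = m + 1 := ⟨n - 1, by omega⟩
    have hnoU : ¬ ∃ U : AddSubgroup (Additive (Abelianization E)),
        (∀ u ∈ U, P.qb u = 0) ∧ Nat.card ↥U = 2 ^ (m + 1) := by
      rintro ⟨U, hU, hUc⟩
      apply hno
      refine ⟨P.pre U, P.elemAb_pre U hU, ?_⟩
      rw [P.card_pre U, hUc]
      ring
    obtain ⟨e, he⟩ := minus_final P.isQuad m hV hnoU
    exact (P.toCoord (Equiv.sumCongr (Equiv.sumComm (Fin m) (Fin m)) (Equiv.swap (0 : Fin 2) 1))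
      (hB_minus m) e he).nonempty_out_equiv

end Cfsg.Agent.S5432
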