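import Cfsg.Statements.S3085
-- import your own Cfsg.Agent.* helpers here
import Cfsg.Agent.S5432
import Cfsg.Agent.Lib.Helper89.QuadF2Class3
import Cfsg.Agent.Lib.Helper89.ESSplit

set_option autoImplicit false
open Cfsg

namespace Cfsg.Agent.S3085

open Cfsg.Agent.Lib.Helper89.QuadF2 Cfsg.Agent.Lib.Helper89.ESOut Cfsg.Agent.Lib.Helper89.ESQuad
open Matrix

/-- the six-dimensional hyperbolic space -/
abbrev V3 : Type := Fin 3 ⊕ Fin 3 → ZMod 2

/-- its quadratic form -/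
abbrev Q3 : V3 → ZMod 2 := Cfsg.quadFormPlus 3 (ZMod 2)

/-- a vector from its six coordinates -/
def mk6 (x0 x1 x2 y0 y1 y2 : ZMod 2) : V3 := Sum.elim ![x0, x1, x2] ![y0, y1, y2]

theorem eq_mk6 (u : V3) :
    u = mk6 (u (Sum.inl 0)) (u (Sum.inl 1)) (u (Sum.inl 2)) (u (Sum.inr 0)) (u (Sum.inr 1))
      (u (Sum.inr 2)) := by
  funext k
  rcases k with k | k <;> fin_cases k <;> rfl

theorem forall_V3 (P : V3 → Prop) (h : ∀ x0 x1 x2 y0 y1 y2 : ZMod 2, P (mk6 x0 x1 x2 y0 y1 y2)) :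
    ∀ u, P u := by
  intro u
  rw [eq_mk6 u]
  exact h _ _ _ _ _ _

/-- the first involution -/
def a3 (u : V3) : V3 :=
  Sum.elim ![u (Sum.inr 0), u (Sum.inl 1), u (Sum.inl 2)]
    ![u (Sum.inl 0), u (Sum.inr 1) + u (Sum.inl 2), u (Sum.inr 2) + u (Sum.inl 1)]

/-- the second involution -/
def b3 (u : V3) : V3 :=
  Sum.elim ![u (Sum.inl 0) + u (Sum.inl 2), u (Sum.inl 1), u (Sum.inl 2)]
    ![u (Sum.inr 0) + u (Sum.inl 2), u (Sum.inr 1),
      u (Sum.inr 2) + u (Sum.inl 0) + u (Sum.inl 2) + u (Sum.inr 0)]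

theorem a3_add (u v : V3) : a3 (u + v) = a3 u + a3 v := by
  funext k
  rcases k with k | k <;> fin_cases k <;> simp [a3] <;> ring

theorem b3_add (u v : V3) : b3 (u + v) = b3 u + b3 v := by
  funext k
  rcases k with k | k <;> fin_cases k <;> simp [b3] <;> ring

theorem a3_inv : ∀ u : V3, a3 (a3 u) = u :=
  forall_V3 _ (by decide)

theorem b3_inv : ∀ u : V3, b3 (b3 u) = u :=
  forall_V3 _ (by decide)

theorem a3_b3 : ∀ u : V3, a3 (b3 u) = b3 (a3 u) :=
  forall_V3 _ (by decide)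

theorem Q3_a3 : ∀ u : V3, Q3 (a3 u) = Q3 u :=
  forall_V3 _ (by decide)

theorem Q3_b3 : ∀ u : V3, Q3 (b3 u) = Q3 u :=
  forall_V3 _ (by decide)

def t3 : V3 := mk6 1 0 0 0 0 0
def t3' : V3 := mk6 0 1 0 0 0 0
def t3'' : V3 := mk6 1 0 1 0 0 0

theorem h1_3 : t3 + b3 t3 = t3' + a3 t3' := by decide

theorem h2_3 : t3 + a3 t3 = t3'' + b3 t3'' := by decide

theorem h3_3 : Q3 (b3 t3 + a3 t3) + Q3 (b3 t3) + Q3 (a3 t3) = 1 := by decide

/-! ### the block extension -/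

/-- the index type -/
abbrev I3 (n : ℕ) : Type := (Fin n ⊕ Fin n) ⊕ (Fin 3 ⊕ Fin 3)

/-- the quadratic form `Σ x_i y_i + Q3` -/
abbrev Qn (n : ℕ) : (I3 n → ZMod 2) → ZMod 2 := QT Q3 n

/-- extension by the identity -/
def ext3 (n : ℕ) (g : V3 → V3) (u : I3 n → ZMod 2) : I3 n → ZMod 2 :=
  Sum.elim (fun k => u (Sum.inl k)) (g (fun t => u (Sum.inr t)))

/-- embedding of the six-dimensional space -/
def emb (n : ℕ) (p : V3) : I3 n → ZMod 2 := Sum.elim (fun _ => 0) p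

theorem ext3_add (n : ℕ) (g : V3 → V3) (hg : ∀ u v, g (u + v) = g u + g v) (u v : I3 n → ZMod 2) :
    ext3 n g (u + v) = ext3 n g u + ext3 n g v := by
  funext k
  rcases k with k | k
  · rfl
  · show g (fun t => (u + v) (Sum.inr t)) k = g (fun t => u (Sum.inr t)) k + g (fun t => v (Sum.inr t)) k
    have : (fun t => (u + v) (Sum.inr t)) = (fun t => u (Sum.inr t)) + (fun t => v (Sum.inr t)) := rfl
    rw [this, hg]
    rfl

theorem ext3_comp (n : ℕ) (g g' : V3 → V3) (u : I3 n → ZMod 2) :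
    ext3 n g (ext3 n g' u) = ext3 n (fun p => g (g' p)) u := by
  funext k
  rcases k with k | k <;> rfl

theorem ext3_id (n : ℕ) (g : V3 → V3) (hg : ∀ p, g p = p) (u : I3 n → ZMod 2) : ext3 n g u = u := by
  funext k
  rcases k with k | k
  · rfl
  · show g (fun t => u (Sum.inr t)) k = u (Sum.inr k)
    rw [hg]

theorem Qn_ext3 (n : ℕ) (g : V3 → V3) (hg : ∀ p, Q3 (g p) = Q3 p) (u : I3 n → ZMod 2) :
    Qn n (ext3 n g u) = Qn n u := by
  show (∑ i : Fin n, ext3 n g u (Sum.inl (Sum.inl i)) * ext3 n g u (Sum.inl (Sum.inr i))) +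
      Q3 (fun t => ext3 n g u (Sum.inr t)) =
    (∑ i : Fin n, u (Sum.inl (Sum.inl i)) * u (Sum.inl (Sum.inr i))) + Q3 (fun t => u (Sum.inr t))
  have h1 : (fun t => ext3 n g u (Sum.inr t)) = g (fun t => u (Sum.inr t)) := rfl
  rw [h1, hg]
  rfl

theorem ext3_emb (n : ℕ) (g : V3 → V3) (p : V3) : ext3 n g (emb n p) = emb n (g p) := by
  funext k
  rcases k with k | k <;> rfl

theorem emb_add (n : ℕ) (p p' : V3) : emb n (p + p') = emb n p + emb n p' := by
  funext k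
  rcases k with k | k
  · exact (add_zero (0 : ZMod 2)).symm
  · rfl

theorem Qn_emb (n : ℕ) (p : V3) : Qn n (emb n p) = Q3 p := by
  show (∑ i : Fin n, emb n p (Sum.inl (Sum.inl i)) * emb n p (Sum.inl (Sum.inr i))) +
      Q3 (fun t => emb n p (Sum.inr t)) = Q3 p
  have h1 : (fun t => emb n p (Sum.inr t)) = p := rfl
  have h2 : ∀ i : Fin n, emb n p (Sum.inl (Sum.inl i)) * emb n p (Sum.inl (Sum.inr i)) = 0 := by
    intro i
    show (0 : ZMod 2) * 0 = 0
    exact mul_zero 0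
  rw [h1, Finset.sum_congr rfl (fun i _ => h2 i), Finset.sum_const_zero, zero_add]

/-- the polar form of `Qn` -/
theorem hB_Qn (n : ℕ) (u v : I3 n → ZMod 2) :
    Qn n (u + v) + Qn n u + Qn n v =
      ∑ i, u i * v ((Equiv.sumCongr (Equiv.sumComm (Fin n) (Fin n)) (Equiv.sumComm (Fin 3) (Fin 3))) i) := by
  have hQ : ∀ w : I3 n → ZMod 2, Qn n w =
      Cfsg.quadFormPlus n (ZMod 2) (fun k => w (Sum.inl k)) + Q3 (fun t => w (Sum.inr t)) := fun w => rfl
  have e1 := Cfsg.Agent.S5432.hB_plus n (fun k => u (Sum.inl k)) (fun k => v (Sum.inl k))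
  have e2 := Cfsg.Agent.S5432.hB_plus 3 (fun k => u (Sum.inr k)) (fun k => v (Sum.inr k))
  have h1 : (fun k => (u + v) (Sum.inl k)) = (fun k => u (Sum.inl k)) + (fun k => v (Sum.inl k)) := rfl
  have h2 : (fun k => (u + v) (Sum.inr k)) = (fun k => u (Sum.inr k)) + (fun k => v (Sum.inr k)) := rfl
  rw [hQ, hQ, hQ, h1, h2, Fintype.sum_sum_type]
  simp only [Equiv.sumCongr_apply, Sum.map_inl, Sum.map_inr]
  rw [← e1, ← e2]
  ring


/-- Let Q be an extraspecial 2-group of order 2^(2n+1) with n ≥ 3 that is of plus type (it contains an elementary abelian subgroup of order 2^(n+1)). Then the group of inner automorphisms of Q has no complement in the full automorphism group of Q: the extension of the inner automorphism group (elementary abelian of order 2^(2n)) by the outer automorphism group (the orthogonal group of plus type) does not split. -/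
theorem result {Q : Type*} [Group Q] [Finite Q] (n : ℕ) (hn : 3 ≤ n) (hQ : Cfsg.IsExtraspecial 2 Q) (hcard : Nat.card Q = 2 ^ (2 * n + 1)) (hplus : ∃ E : Subgroup Q, Cfsg.IsElementaryAbelian 2 E ∧ Nat.card ↥E = 2 ^ (n + 1)) (L : Subgroup (MulAut Q)) : ¬ (Cfsg.Inn Q).IsComplement' L := by
  obtain ⟨k, rfl⟩ : ∃ k, n = k + 3 := ⟨n - 3, by omega⟩
  obtain ⟨P⟩ := Cfsg.Agent.S5432.exists_pre hQ
  have hV : Nat.card (Additive (Abelianization Q)) = 2 ^ (2 * (k + 3)) := by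
    have h1 := P.card_eq
    rw [hcard] at h1
    have h2 : 2 ^ (2 * (k + 3) + 1) = 2 * 2 ^ (2 * (k + 3)) := by ring
    omega
  obtain ⟨A, hA, hAc⟩ := hplus
  obtain ⟨U, hU, hUc⟩ := P.exists_singular_of_elemAb A hA
  have hUc' : 2 ^ (k + 3) ≤ Nat.card ↥U := by
    rw [hAc] at hUc
    have h2 : 2 ^ (k + 3 + 1) = 2 * 2 ^ (k + 3) := by ring
    omega
  obtain ⟨e, he⟩ := plus_classify3 k _ P.qb P.isQuad hV ⟨U, hU, hUc'⟩
  let D : Coord Q (Qn k) := P.toCoord
    (Equiv.sumCongr (Equiv.sumComm (Fin k) (Fin k)) (Equiv.sumComm (Fin 3) (Fin 3))) (hB_Qn k) e he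
  obtain ⟨Ma, hMa, hMa2⟩ := exists_isometry_of_additive (Q := Qn k) (ext3 k a3)
    (ext3_add k a3 a3_add)
    (fun u => by rw [ext3_comp]; exact ext3_id k _ a3_inv u)
    (Qn_ext3 k a3 Q3_a3)
  obtain ⟨Mb, hMb, hMb2⟩ := exists_isometry_of_additive (Q := Qn k) (ext3 k b3)
    (ext3_add k b3 b3_add)
    (fun u => by rw [ext3_comp]; exact ext3_id k _ b3_inv u)
    (Qn_ext3 k b3 Q3_b3)
  have hab : Ma * Mb = Mb * Ma := isometry_comm_of_mulVec Ma Mb _ _ hMa hMb (fun u => by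
    rw [ext3_comp, ext3_comp]
    congr 1
    funext p
    exact a3_b3 p)
  refine D.not_isComplement' Ma Mb hMa2 hMb2 hab (emb k t3) (emb k t3') (emb k t3'') ?_ ?_ ?_ L
  · rw [hMa, hMb, ext3_emb, ext3_emb, ← emb_add, ← emb_add, h1_3]
  · rw [hMa, hMb, ext3_emb, ext3_emb, ← emb_add, ← emb_add, h2_3]
  · rw [hMa, hMb, ext3_emb, ext3_emb]
    show Qn k (emb k (b3 t3) + emb k (a3 t3)) + Qn k (emb k (b3 t3)) + Qn k (emb k (a3 t3)) = 1
    rw [← emb_add, Qn_emb, Qn_emb, Qn_emb]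
    exact h3_3

end Cfsg.Agent.S3085
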