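import Cfsg.Statements.S3087
-- import your own Cfsg.Agent.* helpers here

set_option autoImplicit false
open Cfsg

namespace Cfsg.Agent.S3087

/-- Product inequality for additive subgroups of a finite additive group. -/
theorem addCard_mul_le {V : Type*} [AddGroup V] [Finite V] (X Y Z : AddSubgroup V)
    (hX : X ≤ Z) (hY : Y ≤ Z) :
    Nat.card X * Nat.card Y ≤ Nat.card ↥(X ⊓ Y) * Nat.card Z := by
  have h1 : Y.relIndex X ≤ Y.relIndex Z :=
    AddSubgroup.relIndex_le_of_le_right hX AddSubgroup.index_ne_zero_of_finite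
  have h2 : Y.relIndex X * Nat.card ↥(X ⊓ Y) = Nat.card X := by
    have := AddSubgroup.relIndex_mul_relIndex (⊥ : AddSubgroup V) (X ⊓ Y) X bot_le inf_le_left
    rw [AddSubgroup.relIndex_bot_left, AddSubgroup.relIndex_bot_left] at this
    rw [inf_comm] at this
    rw [AddSubgroup.inf_relIndex_right, mul_comm] at this
    rw [inf_comm]
    exact this
  have h3 : Y.relIndex Z * Nat.card Y = Nat.card Z := by
    have := AddSubgroup.relIndex_mul_relIndex (⊥ : AddSubgroup V) Y Z bot_le hY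
    rw [AddSubgroup.relIndex_bot_left, AddSubgroup.relIndex_bot_left, mul_comm] at this
    exact this
  calc Nat.card X * Nat.card Y = Y.relIndex X * Nat.card ↥(X ⊓ Y) * Nat.card Y := by rw [h2]
    _ ≤ Y.relIndex Z * Nat.card ↥(X ⊓ Y) * Nat.card Y := by gcongr
    _ = Nat.card ↥(X ⊓ Y) * (Y.relIndex Z * Nat.card Y) := by ring
    _ = Nat.card ↥(X ⊓ Y) * Nat.card Z := by rw [h3]

/-- Fixed points of a subgroup `B` on `V`, as an additive subgroup. -/
def fixedPts {G V : Type*} [Group G] [AddCommGroup V] (p : ℕ) [Module (ZMod p) V]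
    (ρ : Representation (ZMod p) G V) (B : Subgroup G) : AddSubgroup V where
  carrier := {v | ∀ b ∈ B, ρ b v = v}
  zero_mem' := by intro b _; simp
  add_mem' := by
    intro x y hx hy b hb
    simp only [Set.mem_ofPred_eq] at hx hy
    rw [map_add, hx b hb, hy b hb]
  neg_mem' := by
    intro x hx b hb
    simp only [Set.mem_ofPred_eq] at hx
    rw [map_neg, hx b hb]

theorem card_fixedPts {G V : Type*} [Group G] [AddCommGroup V] (p : ℕ) [Module (ZMod p) V]
    (ρ : Representation (ZMod p) G V) (B : Subgroup G) :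
    Nat.card {v : V // ∀ b ∈ B, ρ b v = v} = Nat.card (fixedPts p ρ B) := rfl

theorem card_fixedPts_sub {G V : Type*} [Group G] [AddCommGroup V] (p : ℕ) [Module (ZMod p) V]
    (ρ : Representation (ZMod p) G V) (W : Submodule (ZMod p) V) (B : Subgroup G) :
    Nat.card {w : W // ∀ b ∈ B, ρ b w = w} = Nat.card ↥(fixedPts p ρ B ⊓ W.toAddSubgroup) := by
  apply Nat.card_congr
  refine ⟨fun w => ⟨w.1.1, ⟨w.2, w.1.2⟩⟩, fun v => ⟨⟨v.1, v.2.2⟩, v.2.1⟩, ?_, ?_⟩
  · intro w; rfl
  · intro v; rfl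

/-- Let p be a prime, G a finite group acting linearly on a finite vector space V over the field with p elements, W a G-invariant subspace, and A a subgroup of G with |A|·|C_V(A)| ≥ |B|·|C_V(B)| for every subgroup B of A. Then |A|·|C_W(A)| ≥ |B|·|C_W(B)| for every subgroup B of A that contains C_A(W); that is, the image of A in the group induced on W satisfies the same maximality condition. -/
theorem result {G V : Type*} [Group G] [Finite G] [AddCommGroup V] [Finite V] (p : ℕ) [Fact p.Prime] [Module (ZMod p) V]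
    (ρ : Representation (ZMod p) G V) (W : Submodule (ZMod p) V) (hW : ∀ g : G, ∀ w ∈ W, ρ g w ∈ W)
    (A : Subgroup G)
    (hP : ∀ B : Subgroup G, B ≤ A →
      Nat.card ↥B * Nat.card {v : V // ∀ b ∈ B, ρ b v = v} ≤ Nat.card ↥A * Nat.card {v : V // ∀ a ∈ A, ρ a v = v})
    (B : Subgroup G) (hBA : B ≤ A) (hCB : ∀ a ∈ A, (∀ w ∈ W, ρ a w = w) → a ∈ B) :
    Nat.card ↥B * Nat.card {w : W // ∀ b ∈ B, ρ b w = w} ≤ Nat.card ↥A * Nat.card {w : W // ∀ a ∈ A, ρ a w = w} := by
  have hPB := hP B hBA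
  rw [card_fixedPts, card_fixedPts] at hPB
  rw [card_fixedPts_sub, card_fixedPts_sub]
  -- monotonicity: fixed points of A are fixed points of B
  have hmono : fixedPts p ρ A ≤ fixedPts p ρ B := by
    intro v hv b hb
    exact hv b (hBA hb)
  -- key inequality
  have hkey := addCard_mul_le (fixedPts p ρ B ⊓ W.toAddSubgroup) (fixedPts p ρ A) (fixedPts p ρ B)
    inf_le_left hmono
  have hinf : (fixedPts p ρ B ⊓ W.toAddSubgroup) ⊓ fixedPts p ρ A = fixedPts p ρ A ⊓ W.toAddSubgroup := by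
    apply le_antisymm
    · exact le_inf inf_le_right (inf_le_left.trans inf_le_right)
    · exact le_inf (le_inf (inf_le_left.trans hmono) inf_le_right) inf_le_left
  rw [hinf] at hkey
  have hposA : 0 < Nat.card (fixedPts p ρ A) := Nat.card_pos
  -- combine
  have : Nat.card ↥B * Nat.card ↥(fixedPts p ρ B ⊓ W.toAddSubgroup) * Nat.card (fixedPts p ρ A)
      ≤ Nat.card ↥A * Nat.card ↥(fixedPts p ρ A ⊓ W.toAddSubgroup) * Nat.card (fixedPts p ρ A) := by
    calc Nat.card ↥B * Nat.card ↥(fixedPts p ρ B ⊓ W.toAddSubgroup) * Nat.card (fixedPts p ρ A)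
        = Nat.card ↥B * (Nat.card ↥(fixedPts p ρ B ⊓ W.toAddSubgroup) * Nat.card (fixedPts p ρ A)) := by ring
      _ ≤ Nat.card ↥B * (Nat.card ↥(fixedPts p ρ A ⊓ W.toAddSubgroup) * Nat.card (fixedPts p ρ B)) := by gcongr
      _ = Nat.card ↥(fixedPts p ρ A ⊓ W.toAddSubgroup) * (Nat.card ↥B * Nat.card (fixedPts p ρ B)) := by ring
      _ ≤ Nat.card ↥(fixedPts p ρ A ⊓ W.toAddSubgroup) * (Nat.card ↥A * Nat.card (fixedPts p ρ A)) := by gcongr
      _ = Nat.card ↥A * Nat.card ↥(fixedPts p ρ A ⊓ W.toAddSubgroup) * Nat.card (fixedPts p ρ A) := by ring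
  exact Nat.le_of_mul_le_mul_right this hposA

end Cfsg.Agent.S3087
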