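import Cfsg.Statements.S3116
-- import your own Cfsg.Agent.* helpers here

set_option autoImplicit false
open Cfsg

namespace Cfsg.Agent.S3116

/-- If `C = ⟨x⟩` has index 2, `x` has order `2^n`, and every element of order `2^n` lies in `C`, then `C` is
characteristic. -/
theorem zpowers_characteristic {X : Type*} [Group X] (n : ℕ) (x : X) (hx : orderOf x = 2 ^ n)
    (hchar : ∀ g : X, orderOf g = 2 ^ n → g ∈ Subgroup.zpowers x) :
    (Subgroup.zpowers x).Characteristic := by
  refine Subgroup.characteristic_iff_le_comap.mpr (fun φ g hg => ?_)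
  rw [Subgroup.mem_comap]
  obtain ⟨k, rfl⟩ := Subgroup.mem_zpowers_iff.mp hg
  have h1 : φ x ∈ Subgroup.zpowers x := hchar _ (by rw [MulEquiv.orderOf_eq]; exact hx)
  have : φ.toMonoidHom (x ^ k) = (φ x) ^ k := map_zpow φ x k
  rw [this]
  exact Subgroup.zpow_mem _ h1 k

theorem key {X : Type*} [Group X] [Finite X] (n : ℕ) (x : X) (hx : orderOf x = 2 ^ n)
    (hidx : (Subgroup.zpowers x).index = 2)
    (hchar : ∀ g : X, orderOf g = 2 ^ n → g ∈ Subgroup.zpowers x) :
    IsPGroup 2 (MulAut X) := by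
  have hC : (Subgroup.zpowers x).Characteristic := zpowers_characteristic n x hx hchar
  -- MulAut C is a 2-group
  have h1 : IsPGroup 2 (MulAut (Subgroup.zpowers x)) := by
    rcases Nat.eq_zero_or_pos n with h0 | h0
    · apply IsPGroup.of_card (n := 0)
      rw [IsCyclic.card_mulAut, Nat.card_zpowers, hx, h0]
      simp
    · apply IsPGroup.of_card (n := n - 1)
      rw [IsCyclic.card_mulAut, Nat.card_zpowers, hx, Nat.totient_prime_pow Nat.prime_two h0]
      simp
  -- an element outside C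
  obtain ⟨y, hy⟩ : ∃ y : X, y ∉ Subgroup.zpowers x := by
    by_contra hcon
    push Not at hcon
    have : Subgroup.zpowers x = ⊤ := (Subgroup.eq_top_iff' _).mpr hcon
    rw [this, Subgroup.index_top] at hidx
    omega
  have hpow : ∀ c ∈ Subgroup.zpowers x, c ^ (2 ^ n) = 1 := by
    intro c hc
    obtain ⟨k, rfl⟩ := Subgroup.mem_zpowers_iff.mp hc
    rw [← zpow_natCast, ← zpow_mul, mul_comm, zpow_mul, zpow_natCast, ← hx, pow_orderOf_eq_one, one_zpow]
  have h2 : IsPGroup 2 (MulAut.characteristic (Subgroup.zpowers x)).ker := by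
    rintro ⟨α, hα⟩
    rw [MonoidHom.mem_ker] at hα
    have hfix : ∀ c ∈ Subgroup.zpowers x, α c = c := by
      intro c hc
      have := congrArg (fun β : MulAut (Subgroup.zpowers x) => (β ⟨c, hc⟩ : X)) hα
      simpa using this
    have hfixpow : ∀ j : ℕ, ∀ c ∈ Subgroup.zpowers x, (α ^ j) c = c := by
      intro j
      induction j with
      | zero => intro c _; simp
      | succ j ih =>
        intro c hc
        rw [pow_succ, MulAut.mul_apply, hfix c hc, ih c hc]
    have hαy : α y ∉ Subgroup.zpowers x := by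
      intro hmem
      have := Subgroup.characteristic_iff_le_comap.mp hC α⁻¹ hmem
      rw [Subgroup.mem_comap] at this
      apply hy
      simpa using this
    have hc : y⁻¹ * α y ∈ Subgroup.zpowers x := by
      rw [Subgroup.mul_mem_iff_of_index_two hidx]
      rw [Subgroup.inv_mem_iff]
      exact ⟨fun h => (hy h).elim, fun h => (hαy h).elim⟩
    have hypow : ∀ j : ℕ, (α ^ j) y = y * (y⁻¹ * α y) ^ j := by
      intro j
      induction j with
      | zero => simp
      | succ j ih =>
        rw [pow_succ', MulAut.mul_apply, ih, map_mul, map_pow, hfix _ hc, pow_succ', ← mul_assoc y,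
          mul_inv_cancel_left]
    refine ⟨n, ?_⟩
    apply Subtype.ext
    rw [Subgroup.coe_pow]
    simp only [Subgroup.coe_one]
    apply MulEquiv.ext
    intro g
    rw [MulAut.one_apply]
    by_cases hg : g ∈ Subgroup.zpowers x
    · exact hfixpow _ g hg
    · have hyg : y⁻¹ * g ∈ Subgroup.zpowers x := by
        rw [Subgroup.mul_mem_iff_of_index_two hidx, Subgroup.inv_mem_iff]
        exact ⟨fun h => (hy h).elim, fun h => (hg h).elim⟩
      have : g = y * (y⁻¹ * g) := by group
      rw [this, map_mul, hfixpow _ _ hyg, hypow, hpow _ hc, mul_one]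
  have h3 := IsPGroup.comap_of_ker_isPGroup (H := ⊤) (h1.to_subgroup ⊤)
    (MulAut.characteristic (Subgroup.zpowers x)) h2
  rw [Subgroup.comap_top] at h3
  exact h3.of_equiv Subgroup.topEquiv

theorem dihedral_case (m : ℕ) (hm : 4 ≤ m) (h2 : IsPGroup 2 (DihedralGroup m)) :
    IsPGroup 2 (MulAut (DihedralGroup m)) := by
  have : NeZero m := ⟨by omega⟩
  obtain ⟨j, hj⟩ := (IsPGroup.iff_card (p := 2)).mp h2
  rw [DihedralGroup.nat_card] at hj
  have hj1 : j ≠ 0 := by rintro rfl; simp at hj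
  obtain ⟨k, rfl⟩ : ∃ k, j = k + 1 := ⟨j - 1, by omega⟩
  have hmk : m = 2 ^ k := by rw [pow_succ] at hj; omega
  apply key k (DihedralGroup.r 1) (by rw [DihedralGroup.orderOf_r_one, hmk])
  · have := Subgroup.card_mul_index (Subgroup.zpowers (DihedralGroup.r (1 : ZMod m)))
    rw [Nat.card_zpowers, DihedralGroup.orderOf_r_one, DihedralGroup.nat_card] at this
    have hm0 : 0 < m := by omega
    rw [mul_comm 2 m] at this
    exact Nat.eq_of_mul_eq_mul_left hm0 this
  · intro g hg
    cases g with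
    | r i =>
      rw [Subgroup.mem_zpowers_iff]
      refine ⟨(i.val : ℤ), ?_⟩
      rw [DihedralGroup.r_one_zpow]
      simp
    | sr i =>
      rw [DihedralGroup.orderOf_sr] at hg
      omega

theorem quasi_case {X : Type*} [Group X] [Finite X] (h : Cfsg.IsQuasiDihedral X) :
    IsPGroup 2 (MulAut X) := by
  obtain ⟨n, hn, hcard, x, y, hx, hy, hyx⟩ := h
  have hpow : ∀ c ∈ Subgroup.zpowers x, c ^ (2 ^ n) = 1 := by
    intro c hc
    obtain ⟨k, rfl⟩ := Subgroup.mem_zpowers_iff.mp hc
    rw [← zpow_natCast, ← zpow_mul, mul_comm, zpow_mul, zpow_natCast, ← hx, pow_orderOf_eq_one, one_zpow]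
  have hidx : (Subgroup.zpowers x).index = 2 := by
    have := Subgroup.card_mul_index (Subgroup.zpowers x)
    rw [Nat.card_zpowers, hx, hcard, pow_succ] at this
    exact Nat.eq_of_mul_eq_mul_left (by positivity) this
  have h2n : 8 ≤ 2 ^ n := by
    calc 8 = 2 ^ 3 := by norm_num
      _ ≤ 2 ^ n := Nat.pow_le_pow_right (by norm_num) hn
  have h2n1 : 4 ≤ 2 ^ (n - 1) := by
    calc 4 = 2 ^ 2 := by norm_num
      _ ≤ 2 ^ (n - 1) := Nat.pow_le_pow_right (by norm_num) (by omega)
  have h2n2 : 2 ^ n = 2 * 2 ^ (n - 1) := by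
    rw [← pow_succ']; congr 1; omega
  have hyy : y * y = 1 := by
    have := pow_orderOf_eq_one y
    rwa [hy, pow_two] at this
  have hyinv : y⁻¹ = y := inv_eq_of_mul_eq_one_left hyy
  have hyC : y ∉ Subgroup.zpowers x := by
    intro hy'
    obtain ⟨k, hk⟩ := Subgroup.mem_zpowers_iff.mp hy'
    have hcomm : y * x * y⁻¹ = x := by
      rw [← hk]
      have : x ^ k * x = x * x ^ k := (Commute.zpow_self x k)
      rw [this, mul_assoc, mul_inv_cancel, mul_one]
    rw [hcomm] at hyx
    -- x = x ^ (2^(n-1) - 1), so x ^ (2^(n-1) - 2) = 1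
    have h1 : x ^ (2 ^ (n - 1) - 2) = 1 := by
      have h3 : 2 ^ (n - 1) - 1 = (2 ^ (n - 1) - 2) + 1 := by omega
      rw [h3, pow_succ] at hyx
      exact (mul_eq_right (a := x ^ (2 ^ (n - 1) - 2)) (b := x)).mp hyx.symm
    have h4 := orderOf_dvd_of_pow_eq_one h1
    rw [hx] at h4
    have h5 := Nat.le_of_dvd (by omega) h4
    omega
  apply key n x hx hidx
  intro g hg
  by_contra hgC
  have hc : y⁻¹ * g ∈ Subgroup.zpowers x := by
    rw [Subgroup.mul_mem_iff_of_index_two hidx, Subgroup.inv_mem_iff]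
    exact ⟨fun h => (hyC h).elim, fun h => (hgC h).elim⟩
  obtain ⟨k, hk⟩ := Subgroup.mem_zpowers_iff.mp hc
  have hgy : g = y * x ^ k := by rw [hk]; group
  have hconj : y * x ^ k * y⁻¹ = (x ^ k) ^ (2 ^ (n - 1) - 1) := by
    rw [← conj_zpow, hyx, ← zpow_natCast, ← zpow_natCast, ← zpow_mul, ← zpow_mul, mul_comm]
  have hg2 : g * g = (x ^ k) ^ (2 ^ (n - 1)) := by
    have h3 : 2 ^ (n - 1) = (2 ^ (n - 1) - 1) + 1 := by omega
    rw [h3, pow_succ, ← hconj, hgy, hyinv]
    group
  have hg4 : g ^ 4 = 1 := by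
    have : g ^ 4 = (g * g) ^ 2 := by rw [← pow_two, ← pow_mul]
    rw [this, hg2, ← pow_mul, mul_comm, ← h2n2]
    exact hpow _ (Subgroup.zpow_mem_zpowers x k)
  have h6 := orderOf_dvd_of_pow_eq_one hg4
  rw [hg] at h6
  have := Nat.le_of_dvd (by norm_num) h6
  omega

/-- The automorphism group of a dihedral 2-group of order at least 8, or of a quasi-dihedral (semidihedral) 2-group of order at least 16, is a 2-group. -/
theorem result {X : Type*} [Group X] [Finite X] (h2 : IsPGroup 2 X)
    (h : (∃ n : ℕ, 4 ≤ n ∧ Nonempty (X ≃* DihedralGroup n)) ∨ Cfsg.IsQuasiDihedral X) : IsPGroup 2 (MulAut X) := by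
  rcases h with ⟨m, hm, ⟨e⟩⟩ | h
  · have h3 : IsPGroup 2 (DihedralGroup m) := h2.of_equiv e
    exact (dihedral_case m hm h3).of_equiv (MulAut.congr e).symm
  · exact quasi_case h

end Cfsg.Agent.S3116
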