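import Cfsg.Statements.S3117
import Cfsg.Agent.Lib.Helper29.ThreeInvGrp
import Cfsg.Agent.Lib.Helper11.ThreeInvRed
import Cfsg.Agent.Lib.Helper32.QdExtT

set_option autoImplicit false
open Cfsg
open Cfsg.Agent.Lib.Helper29.ThreeInv Cfsg.Agent.Lib.Helper11.ThreeInv

namespace Cfsg.Agent.S3117

/-- If X is a finite 2-group containing exactly three involutions, then the automorphism group of X is solvable. -/
theorem result {X : Type*} [Group X] [Finite X] (h2 : IsPGroup 2 X) (h3 : Nat.card {x : X // orderOf x = 2} = 3) : Group.IsSolvable (MulAut X) := by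
  classical
  have hfin : Finite (MulAut X) := Finite.of_injective (fun α : MulAut X => (α : X → X))
    (fun a b h => DFunLike.coe_injective h)
  have h4 : Nat.card {x : X // orderOf x = 2} ≤ 3 := h3.le
  obtain ⟨C, hCinv, hC1, hC3, hCf⟩ := exists_char_sqCentral h2 h4
  -- involutions of `C`
  have hC4 : Nat.card {x : C // orderOf x = 2} ≤ 3 := by
    refine le_trans (Nat.card_le_card_of_injective
      (fun x : {x : C // orderOf x = 2} => (⟨(x.1 : X), by
        rw [Subgroup.orderOf_coe]
        exact x.2⟩ : {x : X // orderOf x = 2})) ?_) h4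
    intro a b hab
    apply Subtype.ext
    apply Subtype.ext
    exact congrArg (fun t : {x : X // orderOf x = 2} => (t : X)) hab
  have hC2 : IsPGroup 2 C := h2.to_subgroup C
  have hsolC : Group.IsSolvable (MulAut C) := mulAut_solvable_of_sqCentral hC2 hC1 hC3 hC4
  -- restriction to `C`
  let res : MulAut X →* MulAut C :=
    Cfsg.Agent.Lib.Helper32.restrictAut (MonoidHom.id (MulAut X)) C (fun a e he => hCinv a e he)
  have hker2 : IsPGroup 2 res.ker := by
    apply isPGroup_two_of_odd_trivial
    rintro ⟨α, hα⟩ hodd
    have hoo : orderOf (⟨α, hα⟩ : res.ker) = orderOf α := by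
      rw [← Subgroup.orderOf_coe]
    rw [hoo] at hodd
    apply Subtype.ext
    show α = 1
    apply hCf α hodd
    intro x hx
    rw [MonoidHom.mem_ker] at hα
    have := congrArg (fun f : MulAut C => ((f ⟨x, hx⟩ : C) : X)) hα
    exact this
  have hsolker : Group.IsSolvable res.ker := by
    have := hker2.isNilpotent
    infer_instance
  exact Group.isSolvable_of_ker_le_range res.ker.subtype res (by
    intro x hx
    exact ⟨⟨x, hx⟩, rfl⟩)

end Cfsg.Agent.S3117
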