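import Cfsg.Statements.S3155
import Mathlib

set_option autoImplicit false
open Cfsg

namespace Cfsg.Agent.S3155

theorem key (f : (ZMod 4 × ZMod 4 × ZMod 4) →+ (ZMod 4 × ZMod 4 × ZMod 4))
    (hf : ∀ v, f (f v) = -v) : False := by
  have : Fact (1 < 4) := ⟨by norm_num⟩
  let L := f.toZModLinearMap 4
  have hL : L.comp L = (-1 : ZMod 4) • LinearMap.id := by
    ext <;> simp [L, hf]
  have hdet := congrArg LinearMap.det hL
  rw [LinearMap.det_comp, LinearMap.det_smul, LinearMap.det_id] at hdet
  have hrank : Module.finrank (ZMod 4) (ZMod 4 × ZMod 4 × ZMod 4) = 3 := by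
    simp [Module.finrank_prod]
  rw [hrank] at hdet
  have : ∀ d : ZMod 4, d * d ≠ (-1) ^ 3 * 1 := by decide
  exact this _ hdet


/-- Let B be the direct product of three cyclic groups of order 4. Then the automorphism of B inverting every element is not the square of any automorphism of B. -/
theorem result {B : Type*} [CommGroup B] [Finite B] (hB : Nonempty (B ≃* Multiplicative (ZMod 4 × ZMod 4 × ZMod 4)))
    (τ : B ≃* B) : τ.trans τ ≠ MulEquiv.inv B := by
  obtain ⟨e⟩ := hB
  intro h
  have hτ : ∀ y : B, τ (τ y) = y⁻¹ := by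
    intro y
    have := congrArg (fun φ : B ≃* B => φ y) h
    simpa using this
  let σ : Multiplicative (ZMod 4 × ZMod 4 × ZMod 4) →* Multiplicative (ZMod 4 × ZMod 4 × ZMod 4) :=
    (e.toMonoidHom.comp τ.toMonoidHom).comp e.symm.toMonoidHom
  have hσ : ∀ x, σ (σ x) = x⁻¹ := by
    intro x
    simp only [σ, MonoidHom.comp_apply, MulEquiv.coe_toMonoidHom, MulEquiv.symm_apply_apply, hτ,
      map_inv, MulEquiv.apply_symm_apply]
  let f : (ZMod 4 × ZMod 4 × ZMod 4) →+ (ZMod 4 × ZMod 4 × ZMod 4) :=
    AddMonoidHom.toMultiplicative.symm σ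
  apply key f
  intro v
  have := hσ (Multiplicative.ofAdd v)
  exact congrArg Multiplicative.toAdd this

end Cfsg.Agent.S3155
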