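import Mathlib
import Cfsg.Statements.S3156
import Cfsg.Agent.Lib.Helper98.U34Model

set_option autoImplicit false
set_option linter.unusedSectionVars false
set_option linter.unusedVariables false
open Cfsg

namespace Cfsg.Agent.S3156

/-- An involutory endomorphism of an elementary abelian 2-group of order 16 fixes two distinct
nonidentity elements (in the form `v * t v = 1`). -/
lemma exists_fixed_pair {V : Type*} [Group V] (hV : Nat.card V = 16) (hexp : ∀ v : V, v * v = 1)
    (t : V →* V) (ht : ∀ v, t (t v) = v) :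
    ∃ v₁ v₂ : V, v₁ ≠ 1 ∧ v₂ ≠ 1 ∧ v₁ ≠ v₂ ∧ v₁ * t v₁ = 1 ∧ v₂ * t v₂ = 1 ∧
      (v₁ * v₂) * t (v₁ * v₂) = 1 := by
  have hfin : Finite V := Nat.finite_of_card_ne_zero (by rw [hV]; norm_num)
  have hcomm : ∀ u v : V, u * v = v * u := by
    intro u v
    have h1 := hexp (u * v)
    have h2 := hexp u
    have h3 := hexp v
    calc u * v = u * ((u * v) * (u * v)) * v := by rw [h1, mul_one]
      _ = (u * u) * v * u * (v * v) := by group
      _ = v * u := by rw [h2, h3, one_mul, mul_one]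
  let θ : V →* V :=
    { toFun := fun v => v * t v
      map_one' := by simp
      map_mul' := by
        intro u v
        rw [map_mul]
        calc u * v * (t u * t v) = u * (v * t u) * t v := by group
          _ = u * (t u * v) * t v := by rw [hcomm v (t u)]
          _ = u * t u * (v * t v) := by group }
  have hθ : ∀ v, θ v = v * t v := fun v => rfl
  have hθθ : ∀ v, θ (θ v) = 1 := by
    intro v
    rw [hθ, hθ, map_mul, ht]
    calc v * t v * (t v * v) = v * (t v * t v) * v := by group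
      _ = 1 := by rw [hexp (t v), mul_one, hexp v]
  have hrange : θ.range ≤ θ.ker := by
    rintro _ ⟨v, rfl⟩
    exact MonoidHom.mem_ker.mpr (hθθ v)
  have hcard : Nat.card θ.ker * Nat.card θ.range = 16 := by
    rw [← hV, ← Subgroup.index_ker, Subgroup.card_mul_index]
  have hle : Nat.card θ.range ≤ Nat.card θ.ker := Subgroup.card_le_of_le hrange
  have h4 : 4 ≤ Nat.card θ.ker := by
    by_contra h
    push Not at h
    have : Nat.card θ.ker * Nat.card θ.range ≤ 3 * 3 := Nat.mul_le_mul (by omega) (by omega)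
    omega
  have hne : θ.ker ≠ ⊥ := by
    intro h
    rw [h, Subgroup.card_bot] at h4
    omega
  obtain ⟨⟨v₁, hv₁⟩, hv₁1⟩ := (Subgroup.ne_bot_iff_exists_ne_one).mp hne
  have hv₁1 : v₁ ≠ 1 := fun h => hv₁1 (Subtype.ext h)
  have : Fact (Nat.Prime 2) := ⟨Nat.prime_two⟩
  have hord : orderOf v₁ = 2 := orderOf_eq_prime (by rw [pow_two]; exact hexp v₁) hv₁1
  have hzle : Subgroup.zpowers v₁ ≤ θ.ker := Subgroup.zpowers_le.mpr hv₁
  have hzlt : Subgroup.zpowers v₁ < θ.ker := by
    refine lt_of_le_of_ne hzle ?_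
    intro h
    rw [← h, Nat.card_zpowers, hord] at h4
    omega
  obtain ⟨v₂, hv₂, hv₂n⟩ := SetLike.exists_of_lt hzlt
  refine ⟨v₁, v₂, hv₁1, ?_, ?_, ?_, ?_, ?_⟩
  · intro h; apply hv₂n; rw [h]; exact Subgroup.one_mem _
  · intro h; apply hv₂n; rw [← h]; exact Subgroup.mem_zpowers v₁
  · exact MonoidHom.mem_ker.mp hv₁
  · exact MonoidHom.mem_ker.mp hv₂
  · exact MonoidHom.mem_ker.mp (Subgroup.mul_mem _ hv₁ hv₂)

section abstract
variable {P : Type*} [Group P]

lemma aut_center (α : MulAut P) (x : P) (hx : x ∈ Subgroup.center P) :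
    α x ∈ Subgroup.center P := by
  rw [Subgroup.mem_center_iff] at hx ⊢
  intro g
  have := hx (α.symm g)
  have h2 := congrArg α this
  simpa using h2

lemma aut_center_iff (α : MulAut P) (x : P) :
    α x ∈ Subgroup.center P ↔ x ∈ Subgroup.center P := by
  constructor
  · intro h
    have := aut_center α⁻¹ (α x) h
    simpa using this
  · exact aut_center α x

variable (hcard : Nat.card P = 64) (hZ : Nat.card (Subgroup.center P) = 4)
  (hsq : ∀ t : P, t * t ∈ Subgroup.center P)
  (hZ2 : ∀ z ∈ Subgroup.center P, z * z = 1)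
  (hinv : ∀ t : P, t * t = 1 → t ∈ Subgroup.center P)
  (hQ8 : ∀ x y : P, x ∉ Subgroup.center P → y ∉ Subgroup.center P →
      x * y ∉ Subgroup.center P → x * x = y * y → y * y = (x * y) * (x * y) → False)

include hsq hZ2 hQ8 in
lemma stepB (σ : MulAut P) (h3 : ∀ x, σ (σ (σ x)) = x)
    (hσZ : ∀ z ∈ Subgroup.center P, σ z = z) : ∀ x, σ x = x := by
  by_contra hne
  push Not at hne
  obtain ⟨x₁, hx₁⟩ := hne
  have hex : ∃ x₀ : P, x₀⁻¹ * σ x₀ ∉ Subgroup.center P := by
    by_contra hall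
    push Not at hall
    apply hx₁
    have h2 : ∀ x, σ (σ x) = x := by
      intro x
      have hc := hall x
      have e1 : σ x = x * (x⁻¹ * σ x) := by group
      have e2 : σ (σ x) = σ x * σ (x⁻¹ * σ x) := by
        conv_lhs => rw [e1]
        rw [map_mul]
      rw [e2, hσZ _ hc]
      have e3 : σ x * (x⁻¹ * σ x) = x * ((x⁻¹ * σ x) * (x⁻¹ * σ x)) := by group
      rw [e3, hZ2 _ hc, mul_one]
    have := h3 x₁
    rw [h2] at this
    exact this
  obtain ⟨x₀, hx₀⟩ := hex
  set x := x₀⁻¹ * σ x₀ with hx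
  set y := σ x with hy
  set w := σ y with hw
  have hxyw : x * y * w = 1 := by
    rw [hw, hy, hx]
    simp only [map_mul, map_inv, h3]
    group
  have hxx : x * x = y * y := by
    have := hσZ _ (hsq x)
    rw [map_mul] at this
    exact this.symm
  have hyy : y * y = w * w := by
    have := hσZ _ (hsq y)
    rw [map_mul] at this
    exact this.symm
  have hyZ : y ∉ Subgroup.center P := fun h => hx₀ ((aut_center_iff σ x).mp h)
  have hwZ : w ∉ Subgroup.center P := fun h => hyZ ((aut_center_iff σ y).mp h)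
  have hxy : x * y = w⁻¹ := eq_inv_of_mul_eq_one_left hxyw
  have hxyZ : x * y ∉ Subgroup.center P := by
    rw [hxy]
    intro h
    exact hwZ (by simpa using Subgroup.inv_mem _ h)
  have hww : (x * y) * (x * y) = w * w := by
    rw [hxy]
    have h1 := hZ2 _ (hsq w)
    have : w⁻¹ * w⁻¹ = (w * w)⁻¹ := by group
    rw [this]
    exact inv_eq_of_mul_eq_one_left h1
  exact hQ8 x y hx₀ hyZ hxyZ hxx (by rw [hww, hyy])

include hcard hZ hsq hZ2 hinv hQ8 in
lemma stepA (τ : MulAut P) (h2 : ∀ x, τ (τ x) = x) (z₁ : P) (hz₁ : z₁ ∈ Subgroup.center P)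
    (hz : τ z₁ ≠ z₁) : False := by
  have hfin : Finite P := Nat.finite_of_card_ne_zero (by rw [hcard]; norm_num)
  -- fixed central elements
  let C : Subgroup P :=
    { carrier := {z | z ∈ Subgroup.center P ∧ τ z = z}
      mul_mem' := by
        rintro a b ⟨ha, ha'⟩ ⟨hb, hb'⟩
        exact ⟨Subgroup.mul_mem _ ha hb, by rw [map_mul, ha', hb']⟩
      one_mem' := ⟨Subgroup.one_mem _, map_one τ⟩
      inv_mem' := by
        rintro a ⟨ha, ha'⟩
        exact ⟨Subgroup.inv_mem _ ha, by rw [map_inv, ha']⟩ }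
  have hCle : C ≤ Subgroup.center P := fun z hz => hz.1
  have hCne : C ≠ Subgroup.center P := by
    intro h
    have : z₁ ∈ C := by rw [h]; exact hz₁
    exact hz this.2
  have hCcard : Nat.card C ≤ 2 := by
    have hdvd : Nat.card C ∣ 4 := hZ ▸ Subgroup.card_dvd_of_le hCle
    have hne4 : Nat.card C ≠ 4 := by
      intro h
      exact hCne (Subgroup.eq_of_le_of_card_ge hCle (by rw [hZ, h]))
    have hle : Nat.card C ≤ 4 := Nat.le_of_dvd (by norm_num) hdvd
    interval_cases h : Nat.card C <;> simp_all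
  have huniq : ∀ s₁ s₂ : P, s₁ ∈ C → s₂ ∈ C → s₁ ≠ 1 → s₂ ≠ 1 → s₁ = s₂ := by
    intro s₁ s₂ hs₁ hs₂ h1 h2'
    by_contra hne
    have : 2 < Nat.card C := by
      have : Fintype C := Fintype.ofFinite C
      rw [Nat.card_eq_fintype_card, Fintype.two_lt_card_iff]
      refine ⟨1, ⟨s₁, hs₁⟩, ⟨s₂, hs₂⟩, ?_, ?_, ?_⟩
      · intro h; exact h1 (congrArg Subtype.val h).symm
      · intro h; exact h2' (congrArg Subtype.val h).symm
      · intro h; exact hne (congrArg Subtype.val h)
    omega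
  -- the quotient
  have hVcard : Nat.card (P ⧸ Subgroup.center P) = 16 := by
    have := Subgroup.card_eq_card_quotient_mul_card_subgroup (Subgroup.center P)
    rw [hcard, hZ] at this
    omega
  have hVexp : ∀ v : P ⧸ Subgroup.center P, v * v = 1 := by
    intro v
    induction v using QuotientGroup.induction_on with
    | H t =>
      rw [← QuotientGroup.mk_mul, QuotientGroup.eq_one_iff]
      exact hsq t
  let tV : (P ⧸ Subgroup.center P) →* (P ⧸ Subgroup.center P) :=
    QuotientGroup.map (Subgroup.center P) (Subgroup.center P) τ.toMonoidHom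
      (fun z hz => aut_center τ z hz)
  have htV : ∀ t : P, tV (QuotientGroup.mk t) = QuotientGroup.mk (τ t) := fun t => rfl
  have htV2 : ∀ v, tV (tV v) = v := by
    intro v
    induction v using QuotientGroup.induction_on with
    | H t => rw [htV, htV, h2]
  obtain ⟨v₁, v₂, hv₁, hv₂, hv₁₂, hf₁, hf₂, hf₁₂⟩ := exists_fixed_pair hVcard hVexp tV htV2
  obtain ⟨a, rfl⟩ := QuotientGroup.mk_surjective v₁
  obtain ⟨b, rfl⟩ := QuotientGroup.mk_surjective v₂
  have haZ : a ∉ Subgroup.center P := fun h => hv₁ ((QuotientGroup.eq_one_iff a).mpr h)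
  have hbZ : b ∉ Subgroup.center P := fun h => hv₂ ((QuotientGroup.eq_one_iff b).mpr h)
  have habZ : a * b ∉ Subgroup.center P := by
    intro h
    apply hv₁₂
    rw [QuotientGroup.eq]
    have : a⁻¹ * b = (a * a)⁻¹ * (a * b) := by group
    rw [this]
    exact Subgroup.mul_mem _ (Subgroup.inv_mem _ (hsq a)) h
  have hfa : a * τ a ∈ Subgroup.center P := by
    rw [htV, ← QuotientGroup.mk_mul, QuotientGroup.eq_one_iff] at hf₁
    exact hf₁
  have hfb : b * τ b ∈ Subgroup.center P := by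
    rw [htV, ← QuotientGroup.mk_mul, QuotientGroup.eq_one_iff] at hf₂
    exact hf₂
  have hfab : (a * b) * τ (a * b) ∈ Subgroup.center P := by
    rw [← QuotientGroup.mk_mul, htV, ← QuotientGroup.mk_mul, QuotientGroup.eq_one_iff] at hf₁₂
    exact hf₁₂
  -- squares are fixed
  have hfix : ∀ u : P, u ∉ Subgroup.center P → u * τ u ∈ Subgroup.center P →
      u * u ∈ C ∧ u * u ≠ 1 := by
    intro u hu hc
    refine ⟨⟨hsq u, ?_⟩, fun h => hu (hinv u h)⟩
    have e1 : τ u = u⁻¹ * (u * τ u) := by group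
    have hcc := Subgroup.mem_center_iff.mp hc
    rw [map_mul]
    have e2 : τ u * τ u = (u * u)⁻¹ * ((u * τ u) * (u * τ u)) := by
      conv_lhs => rw [e1]
      have := hcc u⁻¹
      calc u⁻¹ * (u * τ u) * (u⁻¹ * (u * τ u))
          = u⁻¹ * ((u * τ u) * u⁻¹) * (u * τ u) := by group
        _ = u⁻¹ * (u⁻¹ * (u * τ u)) * (u * τ u) := by rw [this]
        _ = (u * u)⁻¹ * ((u * τ u) * (u * τ u)) := by group
    rw [e2, hZ2 _ hc, mul_one]
    exact inv_eq_of_mul_eq_one_left (hZ2 _ (hsq u))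
  obtain ⟨ha1, ha2⟩ := hfix a haZ hfa
  obtain ⟨hb1, hb2⟩ := hfix b hbZ hfb
  obtain ⟨hab1, hab2⟩ := hfix (a * b) habZ hfab
  exact hQ8 a b haZ hbZ habZ (huniq _ _ ha1 hb1 ha2 hb2) (huniq _ _ hb1 hab1 hb2 hab2)


include hcard hZ hsq hZ2 hinv hQ8 in
theorem no_S3 (σ τ : MulAut P) (hσ3 : σ ^ 3 = 1) (hσ1 : σ ≠ 1) (hτ2 : τ ^ 2 = 1)
    (hrel : τ * σ * τ⁻¹ = σ⁻¹) : False := by
  have h3 : ∀ x, σ (σ (σ x)) = x := by
    intro x
    have := congrArg (fun α : MulAut P => α x) hσ3
    simpa [pow_succ, MulAut.mul_apply] using this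
  have h2 : ∀ x, τ (τ x) = x := by
    intro x
    have := congrArg (fun α : MulAut P => α x) hτ2
    simpa [pow_succ, MulAut.mul_apply] using this
  by_cases hτZ : ∀ z ∈ Subgroup.center P, τ z = z
  · have hσZ : ∀ z ∈ Subgroup.center P, σ z = z := by
      intro z hz
      have e := congrArg (fun α : MulAut P => α z) hrel
      simp only [MulAut.mul_apply] at e
      have hτinv : τ⁻¹ z = z := by
        conv_lhs => rw [← hτZ z hz]
        exact MulAut.inv_apply_self _ τ z
      rw [hτinv, hτZ _ (aut_center σ z hz)] at e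
      have e2 : σ (σ z) = z := by
        rw [e]; exact MulAut.apply_inv_self _ σ z
      have := h3 z
      rw [e2] at this
      exact this
    apply hσ1
    ext x
    exact stepB hsq hZ2 hQ8 σ h3 hσZ x
  · push Not at hτZ
    obtain ⟨z₁, hz₁, hz⟩ := hτZ
    exact stepA hcard hZ hsq hZ2 hinv hQ8 τ h2 z₁ hz₁ hz

end abstract

section model
open Cfsg.Agent.Lib.Helper98.U34
variable {F : Type*} [Field F] [Fintype F] {hF : Fintype.card F = 16}

lemma par_noQ8 (x y : Par hF) (hx : x ∉ Subgroup.center (Par hF))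
    (hy : y ∉ Subgroup.center (Par hF)) (hxy : x * y ∉ Subgroup.center (Par hF))
    (h1 : x * x = y * y) (h2 : y * y = (x * y) * (x * y)) : False := by
  have := charP_two hF
  rw [mem_center_iff] at hx hy hxy
  rw [mul_a] at hxy
  have e1 := congrArg Par.b h1
  have e2 := congrArg Par.b h2
  simp only [mul_a, mul_b] at e1 e2
  have key : x.a * y.a ^ 2 * (x.a + y.a) ^ 2 = 0 := by grind
  rcases mul_eq_zero.mp key with h | h
  · rcases mul_eq_zero.mp h with h | h
    · exact hx h
    · exact hy (pow_eq_zero_iff (two_ne_zero) |>.mp h)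
  · exact hxy (pow_eq_zero_iff (two_ne_zero) |>.mp h)

end model

/-- If a finite group T is isomorphic to a Sylow 2-subgroup of the projective special unitary group of dimension 3 with parameter 4 (realised over the field with 16 elements), then no subgroup of the automorphism group of T is isomorphic to the symmetric group of degree 3. -/
theorem result {T : Type*} [Group T] [Finite T] (hT : (∃ (F : Type) (_ : Field F) (_ : Fintype F), Fintype.card F = 16 ∧ ∃ S : Sylow 2 (Cfsg.PSU 3 F 4), Nonempty (T ≃* ↥(S : Subgroup (Cfsg.PSU 3 F 4))))) (H : Subgroup (MulAut T)) : ¬ Nonempty (↥H ≃* Equiv.Perm (Fin 3)) := by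
  classical
  rintro ⟨f⟩
  obtain ⟨F, _, _, hF, S, ⟨eT⟩⟩ := hT
  have : Fact (Nat.Prime 2) := ⟨Nat.prime_two⟩
  obtain ⟨w, hw0, hw⟩ := Cfsg.Agent.Lib.Helper98.U34.exists_omega hF
  have hcardPSU := Cfsg.Agent.Lib.Helper98.U34.card_PSU hF
  have hfin : Finite (Cfsg.PSU 3 F 4) :=
    Nat.finite_of_card_ne_zero (by rw [hcardPSU]; norm_num)
  have hΨ : Function.Injective
      ((QuotientGroup.mk' (Subgroup.center (SU 3 F 4))).comp (Cfsg.Agent.Lib.Helper98.U34.Phi hF w hw)) :=
    (Cfsg.Agent.Lib.Helper98.U34.mk_injective hF).comp (Cfsg.Agent.Lib.Helper98.U34.Phi_injective hF w hw)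
  let e₁ := MonoidHom.ofInjective hΨ
  have hR : Nat.card ((QuotientGroup.mk' (Subgroup.center (SU 3 F 4))).comp
      (Cfsg.Agent.Lib.Helper98.U34.Phi hF w hw)).range = 64 := by
    rw [← Nat.card_congr e₁.toEquiv]; exact Cfsg.Agent.Lib.Helper98.U34.card_par
  have hR2 : IsPGroup 2 ((QuotientGroup.mk' (Subgroup.center (SU 3 F 4))).comp
      (Cfsg.Agent.Lib.Helper98.U34.Phi hF w hw)).range := IsPGroup.of_card (n := 6) (by rw [hR]; norm_num)
  obtain ⟨Q, hQ⟩ := hR2.exists_le_sylow
  have hRQ : ((QuotientGroup.mk' (Subgroup.center (SU 3 F 4))).comp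
      (Cfsg.Agent.Lib.Helper98.U34.Phi hF w hw)).range = (Q : Subgroup (Cfsg.PSU 3 F 4)) :=
    Subgroup.eq_of_le_of_card_ge hQ (by rw [Cfsg.Agent.Lib.Helper98.U34.sylow_card hF Q, hR])
  let e₂ := MulEquiv.subgroupCongr hRQ
  let e₃ := Sylow.equiv Q S
  -- T ≃* Par
  let e : T ≃* Cfsg.Agent.Lib.Helper98.U34.Par hF := eT.trans (e₁.trans (e₂.trans e₃)).symm
  let E : MulAut T ≃* MulAut (Cfsg.Agent.Lib.Helper98.U34.Par hF) := MulAut.congr e
  -- the two generators of S₃
  let c₃ : Equiv.Perm (Fin 3) := finRotate 3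
  let s₂ : Equiv.Perm (Fin 3) := Equiv.swap 0 1
  have r1 : c₃ ^ 3 = 1 := by decide
  have r2 : c₃ ≠ 1 := by decide
  have r3 : s₂ ^ 2 = 1 := by decide
  have r4 : s₂ * c₃ * s₂⁻¹ = c₃⁻¹ := by decide
  let ι : ↥H →* MulAut (Cfsg.Agent.Lib.Helper98.U34.Par hF) := E.toMonoidHom.comp H.subtype
  have hι : Function.Injective ι := E.injective.comp Subtype.val_injective
  refine no_S3 (P := Cfsg.Agent.Lib.Helper98.U34.Par hF) Cfsg.Agent.Lib.Helper98.U34.card_par
    Cfsg.Agent.Lib.Helper98.U34.card_center Cfsg.Agent.Lib.Helper98.U34.sq_mem_center Cfsg.Agent.Lib.Helper98.U34.center_sq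
    Cfsg.Agent.Lib.Helper98.U34.invol_mem_center par_noQ8 (ι (f.symm c₃)) (ι (f.symm s₂)) ?_ ?_ ?_ ?_
  · rw [← map_pow, ← map_pow, r1, map_one, map_one]
  · intro h
    apply r2
    have h1 : f.symm c₃ = 1 := hι (h.trans (map_one ι).symm)
    have := congrArg f h1
    simpa using this
  · rw [← map_pow, ← map_pow, r3, map_one, map_one]
  · rw [← map_inv, ← map_mul, ← map_mul, ← map_inv, ← map_inv, ← map_mul, ← map_mul, r4]
    simp

end Cfsg.Agent.S3156
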