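-- Statement S3157: nonabelian groups of order 64 with automorphisms generating a symmetric group of
-- degree 3 whose element of order 3 is fixed-point-free.
import Cfsg.Statements.S3157
import Cfsg.Agent.Lib.Helper98.Fpf64X
import Cfsg.Agent.Lib.Helper98.Fpf64Main
import Cfsg.Agent.S3156

set_option autoImplicit false
set_option linter.style.haveILetI false
open Cfsg

namespace Cfsg.Agent.S3157

open Cfsg.Agent.Lib.Helper98 in
/-- Let T be a non-abelian group of order 64 admitting automorphisms ρ of order 3 and x of order 2 with x ρ x⁻¹ = ρ⁻¹ (so they generate a symmetric group of degree 3), where ρ fixes only the identity. Then T is isomorphic to a Sylow 2-subgroup of the projective special linear group of dimension 3 over the field with 4 elements, and the subgroup of fixed points of x is dihedral of order 8 or quaternion of order 8. -/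
theorem result {T : Type*} [Group T] [Finite T] (hT : Nat.card T = 64) (hna : ¬ IsMulCommutative T) (ρ x : MulAut T) (hρ : orderOf ρ = 3) (hx : orderOf x = 2)
    (hxr : x * ρ * x⁻¹ = ρ⁻¹) (hfp : ∀ y : T, ρ y = y → y = 1) (C : Subgroup T) (hC : ∀ y : T, y ∈ C ↔ x y = y) :
    (∃ (F : Type) (_ : Field F) (_ : Fintype F), Fintype.card F = 4 ∧
        ∃ S : Sylow 2 (Matrix.ProjectiveSpecialLinearGroup (Fin 3) F), Nonempty (T ≃* ↥(S : Subgroup (Matrix.ProjectiveSpecialLinearGroup (Fin 3) F)))) ∧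
      (Nonempty (↥C ≃* DihedralGroup 4) ∨ Nonempty (↥C ≃* QuaternionGroup 2)) := by
  classical
  have hna' : ∃ a b : T, a * b ≠ b * a := by
    by_contra hcon
    push Not at hcon
    exact hna ⟨⟨hcon⟩⟩
  have h3 : ρ ^ 3 = 1 := by rw [← hρ]; exact pow_orderOf_eq_one ρ
  have hx2' : x ^ 2 = 1 := by rw [← hx]; exact pow_orderOf_eq_one x
  have hx2 : ∀ t, x (x t) = t := by
    intro t
    have := congrArg (fun α : MulAut T => α t) hx2'
    simpa [pow_two, MulAut.mul_apply] using this
  have hρinv : ρ⁻¹ = ρ ^ 2 := by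
    apply inv_eq_of_mul_eq_one_right
    rw [← pow_succ', h3]
  have hxr' : ∀ t, x (ρ t) = ρ (ρ (x t)) := by
    intro t
    have h1 : x * ρ = ρ ^ 2 * x := by
      rw [← hρinv, ← hxr]; group
    have := congrArg (fun α : MulAut T => α t) h1
    simpa [pow_two, MulAut.mul_apply] using this
  refine ⟨?_, Fpf64.C_dihedral_or_quaternion hT hna' ρ h3 hfp x hx2 hxr' C hC⟩
  have : Fact (Nat.Prime 2) := ⟨Nat.prime_two⟩
  letI i4 : Fintype (GaloisField 2 2) := Fintype.ofFinite _
  letI i16 : Fintype (GaloisField 2 4) := Fintype.ofFinite _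
  have hF4 : Fintype.card (GaloisField 2 2) = 4 := by
    rw [← Nat.card_eq_fintype_card, GaloisField.card 2 2 (by norm_num)]
    norm_num
  have hF16 : Fintype.card (GaloisField 2 4) = 16 := by
    rw [← Nat.card_eq_fintype_card, GaloisField.card 2 4 (by norm_num)]
    norm_num
  obtain ⟨w, hw0, hw⟩ := UT4.exists_omega4 hF4
  obtain ⟨l, hl5, hl1, hsum⟩ := U320.exists_fifth_root hF16
  obtain ⟨θ, hθ⟩ := U34.exists_theta hF16
  have hL := UT4.patL_UT hF4 w hw
  obtain ⟨hL1, hL2, hL12⟩ := UT4.patL_UT_ne hF4 w hw0 hw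
  have hU := ParPat.patU_Par hF16 l θ hl5 hsum hθ
  obtain ⟨hU1, hU2, hU12⟩ := ParPat.patU_Par_ne hF16 l hl5 hsum hl1
  rcases Fpf64.iso_models hT hna' ρ h3 hfp (UT4.card_UT hF4) (U34.card_par (hF := hF16)) hL hL1
    hL2 hL12 hU hU1 hU2 hU12 with ⟨⟨e⟩⟩ | ⟨⟨e⟩⟩
  · obtain ⟨e'⟩ := UT4.iso_sylow hF4 (default : Sylow 2 _)
    exact ⟨GaloisField 2 2, inferInstance, i4, hF4, default, ⟨e.trans e'⟩⟩
  · exfalso
    let E : MulAut T ≃* MulAut (U34.Par hF16) := MulAut.congr e
    have hρ1 : ρ ≠ 1 := by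
      intro h
      rw [h, orderOf_one] at hρ
      norm_num at hρ
    refine Cfsg.Agent.S3156.no_S3 (P := U34.Par hF16) U34.card_par U34.card_center
      U34.sq_mem_center U34.center_sq U34.invol_mem_center Cfsg.Agent.S3156.par_noQ8 (E ρ) (E x)
      ?_ ?_ ?_ ?_
    · rw [← map_pow, h3, map_one]
    · intro h
      exact hρ1 (E.injective (h.trans (map_one E).symm))
    · rw [← map_pow, hx2', map_one]
    · rw [← map_inv, ← map_mul, ← map_mul, hxr, map_inv]

end Cfsg.Agent.S3157
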