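import Cfsg.Statements.S3158
import Mathlib

set_option autoImplicit false
open Cfsg

namespace Cfsg.Agent.S3158

/-- a nontrivial normal subgroup of a finite `p`-group contains a nontrivial central element -/
theorem normal_inf_center_ne_bot {P : Type*} [Group P] [Finite P] {p : ℕ} [Fact p.Prime]
    (hP : IsPGroup p P) (N : Subgroup P) [N.Normal] (hN : N ≠ ⊥) :
    ∃ w ∈ N, w ≠ 1 ∧ ∀ g : P, g * w = w * g := by
  have hfix := (hP.of_equiv ConjAct.toConjAct).exists_fixed_point_of_prime_dvd_card_of_fixed_point N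
  have hNp : IsPGroup p N := hP.to_subgroup N
  have hnt : Nontrivial N := (Subgroup.nontrivial_iff_ne_bot N).mpr hN
  have dvd : p ∣ Nat.card N := by
    obtain ⟨n, hn0, hn⟩ := hNp.nontrivial_iff_card.mp hnt
    exact hn.symm ▸ dvd_pow_self _ (ne_of_gt hn0)
  have h1 : (1 : N) ∈ MulAction.fixedPoints (ConjAct P) N := by
    intro g
    exact smul_one g
  obtain ⟨b, hb, hb1⟩ := hfix dvd h1
  refine ⟨b, b.2, fun h => hb1 (Subtype.ext h.symm), fun g => ?_⟩
  have := hb (ConjAct.toConjAct g)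
  have h2 : g * (b : P) * g⁻¹ = b := congrArg Subtype.val this
  calc g * b = (g * b * g⁻¹) * g := by group
    _ = b * g := by rw [h2]

/-- a fixed-point-free cyclic group of automorphisms of order `|V| - 1` is transitive on the
nonidentity elements of an invariant subgroup `V`. -/
theorem transitive_of_fpf {U : Type*} [Group U] [Finite U] (y : MulAut U) (m : ℕ) (hy : orderOf y = m)
    (hfp : ∀ k : ℕ, y ^ k ≠ 1 → ∀ u : U, (y ^ k) u = u → u = 1)
    (V : Subgroup U) (hyV : ∀ k : ℕ, ∀ v ∈ V, (y ^ k) v ∈ V) (hcard : Nat.card V = m + 1)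
    (v₀ : U) (hv₀ : v₀ ∈ V) (hv₀1 : v₀ ≠ 1) (v : U) (hv : v ∈ V) (hv1 : v ≠ 1) :
    ∃ k : ℕ, (y ^ k) v₀ = v := by
  set g : ℕ → U := fun i => (y ^ i) v₀ with hg
  have hinj : Set.InjOn g (Finset.range m : Set ℕ) := by
    have aux : ∀ i j : ℕ, i ≤ j → j < m → g i = g j → i = j := by
      intro i j hij hj h
      have h1 : (y ^ i) ((y ^ (j - i)) v₀) = (y ^ i) v₀ := by
        rw [← MulAut.mul_apply, ← pow_add, Nat.add_sub_cancel' hij]
        exact h.symm
      have h2 : (y ^ (j - i)) v₀ = v₀ := (y ^ i).injective h1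
      by_contra hne
      have h3 : y ^ (j - i) ≠ 1 := by
        intro h4
        have := orderOf_dvd_of_pow_eq_one h4
        rw [hy] at this
        have h5 : j - i < m := by omega
        have h6 : 0 < j - i := by omega
        exact absurd (Nat.le_of_dvd h6 this) (by omega)
      exact hv₀1 (hfp _ h3 v₀ h2)
    intro i hi j hj h
    rcases le_total i j with hij | hij
    · exact aux i j hij (by simpa using hj) h
    · exact (aux j i hij (by simpa using hi) h.symm).symm
  set S₁ : Set U := g '' (Finset.range m : Set ℕ) with hS₁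
  set S₂ : Set U := (V : Set U) \ {1} with hS₂
  have hsub : S₁ ⊆ S₂ := by
    rintro _ ⟨i, _, rfl⟩
    refine ⟨hyV i v₀ hv₀, ?_⟩
    simp only [Set.mem_singleton_iff, hg]
    intro h
    apply hv₀1
    have : (y ^ i) v₀ = (y ^ i) 1 := by rw [h, map_one]
    exact (y ^ i).injective this
  have hc1 : S₁.ncard = m := by
    rw [hS₁, Set.InjOn.ncard_image hinj, Set.ncard_coe_finset, Finset.card_range]
  have hc2 : S₂.ncard = m := by
    rw [hS₂, Set.ncard_sdiff_singleton_of_mem (V.one_mem), ← Nat.card_coe_set_eq]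
    show Nat.card V - 1 = m
    rw [hcard]; simp
  have heq : S₁ = S₂ := Set.eq_of_subset_of_ncard_le hsub (by rw [hc1, hc2]) (Set.toFinite _)
  have hvS : v ∈ S₂ := ⟨hv, by simpa using hv1⟩
  rw [← heq] at hvS
  obtain ⟨k, _, hk⟩ := hvS
  exact ⟨k, hk⟩


/-- Let U be a group of order q² with q = 2^n ≥ 2, and y an automorphism of U of order q − 1 all of whose nontrivial powers fix only the identity. Let V be a proper normal y-invariant subgroup of U such that V and U/V are elementary abelian 2-groups and there is an isomorphism from V to U/V commuting with the actions of y. Then U is abelian. -/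
theorem result {U : Type*} [Group U] [Finite U] (n : ℕ) (hn : 1 ≤ n) (hU : Nat.card U = (2 ^ n) ^ 2)
    (y : MulAut U) (hy : orderOf y = 2 ^ n - 1) (hfp : ∀ k : ℕ, y ^ k ≠ 1 → ∀ u : U, (y ^ k) u = u → u = 1)
    (V : Subgroup U) [V.Normal] (hV : V ≠ ⊤) (hyV : ∀ v ∈ V, y v ∈ V)
    (hVe : ∀ v ∈ V, v ^ 2 = 1) (hQe : ∀ u : U, u ^ 2 ∈ V) (hQc : ∀ u w : U, u * w * u⁻¹ * w⁻¹ ∈ V)
    (φ : ↥V ≃* U ⧸ V) (hφ : ∀ (v : ↥V) (u : U), (QuotientGroup.mk u : U ⧸ V) = φ v → φ ⟨y v, hyV v v.2⟩ = QuotientGroup.mk (y u)) :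
    IsMulCommutative U := by
  haveI : Fact (Nat.Prime 2) := ⟨Nat.prime_two⟩
  -- card V = 2^n
  have hcardV : Nat.card V = 2 ^ n := by
    have h1 : Nat.card V * V.index = Nat.card U := Subgroup.card_mul_index V
    have h2 : V.index = Nat.card V := by
      rw [Subgroup.index_eq_card]; exact (Nat.card_congr φ.toEquiv).symm
    rw [h2, hU] at h1
    have : (Nat.card V) ^ 2 = (2 ^ n) ^ 2 := by rw [pow_two]; exact h1
    exact Nat.pow_left_injective (by norm_num : 2 ≠ 0) this
  have h2n : 2 ≤ 2 ^ n := by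
    calc 2 = 2 ^ 1 := by norm_num
      _ ≤ 2 ^ n := Nat.pow_le_pow_right (by norm_num) hn
  -- powers of y preserve V
  have hyVk : ∀ k : ℕ, ∀ v ∈ V, (y ^ k) v ∈ V := by
    intro k
    induction k with
    | zero => intro v hv; simpa using hv
    | succ k ih =>
      intro v hv
      rw [pow_succ, MulAut.mul_apply]
      exact ih _ (hyV v hv)
  have hUp : IsPGroup 2 U := IsPGroup.of_card (n := 2 * n) (by rw [hU, ← pow_mul, mul_comm])
  have hVbot : V ≠ ⊥ := by
    intro h
    rw [h, Subgroup.card_bot] at hcardV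
    omega
  obtain ⟨w, hwV, hw1, hwc⟩ := normal_inf_center_ne_bot hUp V hVbot
  have htrans := transitive_of_fpf y (2 ^ n - 1) hy hfp V hyVk (by rw [hcardV]; omega)
  -- V is central
  have hVc : ∀ v ∈ V, ∀ g : U, g * v = v * g := by
    intro v hv g
    by_cases hv1 : v = 1
    · rw [hv1]; simp
    · obtain ⟨k, hk⟩ := htrans w hwV hw1 v hv hv1
      rw [← hk]
      have := hwc ((y ^ k)⁻¹ g)
      have h2 := congrArg (y ^ k) this
      simpa using h2
  -- equivariance for powers
  have hR : ∀ (j : ℕ) (v : V) (u : U) (h : (y ^ j) v ∈ V), (QuotientGroup.mk u : U ⧸ V) = φ v →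
      φ ⟨(y ^ j) v, h⟩ = QuotientGroup.mk ((y ^ j) u) := by
    intro j
    induction j with
    | zero =>
      intro v u h huv
      simp only [pow_zero, MulAut.one_apply]
      exact huv.symm
    | succ j ih =>
      intro v u h huv
      have h1 := ih v u (hyVk j v v.2) huv
      have h2 := hφ ⟨(y ^ j) v, hyVk j v v.2⟩ ((y ^ j) u) h1.symm
      have h3 : (y ^ (j + 1)) (v : U) = y ((y ^ j) v) := by rw [pow_succ', MulAut.mul_apply]
      have h4 : (y ^ (j + 1)) u = y ((y ^ j) u) := by rw [pow_succ', MulAut.mul_apply]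
      rw [h4, ← h2]
      congr 1
      exact Subtype.ext h3
  -- a representative for φ w
  obtain ⟨u₀, hu₀⟩ := QuotientGroup.mk_surjective (φ ⟨w, hwV⟩)
  set s₀ := u₀ ^ 2 with hs₀
  have hs₀V : s₀ ∈ V := hQe u₀
  -- squares
  have hSQ : ∀ (a : V) (u : U), (QuotientGroup.mk u : U ⧸ V) = φ a → a ≠ 1 →
      ∃ j : ℕ, (y ^ j) w = a ∧ u ^ 2 = (y ^ j) s₀ := by
    intro a u hua ha
    have ha1 : (a : U) ≠ 1 := fun h => ha (Subtype.ext h)
    obtain ⟨j, hj⟩ := htrans w hwV hw1 a a.2 ha1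
    refine ⟨j, hj, ?_⟩
    have h1 := hR j ⟨w, hwV⟩ u₀ (hyVk j w hwV) hu₀
    have h2 : (⟨(y ^ j) w, hyVk j w hwV⟩ : V) = a := Subtype.ext hj
    rw [h2, ← hua] at h1
    have h3 : ((y ^ j) u₀)⁻¹ * u ∈ V := QuotientGroup.eq.mp h1.symm
    set v' := ((y ^ j) u₀)⁻¹ * u with hv'
    have hu : u = (y ^ j) u₀ * v' := by rw [hv']; group
    have hv'2 : v' * v' = 1 := by have := hVe v' h3; rwa [pow_two] at this
    have hcomm := hVc v' h3 ((y ^ j) u₀)
    rw [hu, hs₀, map_pow, pow_two, pow_two]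
    calc (y ^ j) u₀ * v' * ((y ^ j) u₀ * v') = (y ^ j) u₀ * (v' * (y ^ j) u₀) * v' := by group
      _ = (y ^ j) u₀ * ((y ^ j) u₀ * v') * v' := by rw [← hcomm]
      _ = (y ^ j) u₀ * (y ^ j) u₀ * (v' * v') := by group
      _ = (y ^ j) u₀ * (y ^ j) u₀ := by rw [hv'2, mul_one]
  have hSQ1 : ∀ (u : U), (QuotientGroup.mk u : U ⧸ V) = φ 1 → u ^ 2 = 1 := by
    intro u hu
    rw [map_one, QuotientGroup.eq_one_iff] at hu
    exact hVe u hu
  by_cases hs1 : s₀ = 1
  · -- exponent 2
    have hexp : ∀ u : U, u * u = 1 := by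
      intro u
      rw [← pow_two]
      set a := φ.symm (QuotientGroup.mk u) with ha
      have hua : (QuotientGroup.mk u : U ⧸ V) = φ a := by rw [ha, MulEquiv.apply_symm_apply]
      by_cases ha1 : a = 1
      · rw [ha1] at hua; exact hSQ1 u hua
      · obtain ⟨j, _, hj⟩ := hSQ a u hua ha1
        rw [hj, hs1, map_one]
    refine ⟨⟨fun a b => ?_⟩⟩
    have h1 := hexp (a * b)
    calc a * b = a * (a * b * (a * b)) * b := by rw [h1]; group
      _ = (a * a) * (b * a) * (b * b) := by group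
      _ = b * a := by rw [hexp a, hexp b]; group
  · obtain ⟨k, hk⟩ := htrans w hwV hw1 s₀ hs₀V hs1
    have hsq : ∀ (a : V) (u : U), (QuotientGroup.mk u : U ⧸ V) = φ a → u ^ 2 = (y ^ k) (a : U) := by
      intro a u hua
      by_cases ha1 : a = 1
      · rw [ha1] at hua
        rw [hSQ1 u hua, ha1]; simp
      · obtain ⟨j, hj1, hj2⟩ := hSQ a u hua ha1
        rw [hj2, ← hk, ← hj1, ← MulAut.mul_apply, ← MulAut.mul_apply, pow_mul_comm]
    refine ⟨⟨fun u w' => ?_⟩⟩
    set a := φ.symm (QuotientGroup.mk u) with ha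
    set b := φ.symm (QuotientGroup.mk w') with hb
    have hua : (QuotientGroup.mk u : U ⧸ V) = φ a := by rw [ha, MulEquiv.apply_symm_apply]
    have hwb : (QuotientGroup.mk w' : U ⧸ V) = φ b := by rw [hb, MulEquiv.apply_symm_apply]
    have huw : (QuotientGroup.mk (u * w') : U ⧸ V) = φ (a * b) := by
      rw [map_mul, ← hua, ← hwb]; rfl
    have h1 := hsq (a * b) (u * w') huw
    have h2 := hsq a u hua
    have h3 := hsq b w' hwb
    have h4 : (u * w') ^ 2 = u ^ 2 * w' ^ 2 := by
      rw [h1, h2, h3, Subgroup.coe_mul, map_mul]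
    rw [pow_two, pow_two, pow_two] at h4
    have h5 : u * (w' * u) * w' = u * (u * w') * w' := by
      calc u * (w' * u) * w' = u * w' * (u * w') := by group
        _ = u * u * (w' * w') := h4
        _ = u * (u * w') * w' := by group
    exact (mul_left_cancel (mul_right_cancel h5)).symm

end Cfsg.Agent.S3158
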