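import Cfsg.Statements.S3163
import Mathlib

set_option autoImplicit false
open Cfsg

namespace Cfsg.Agent.S3163

theorem ea_iff {G : Type*} [Group G] (p : ℕ) (A : Subgroup G) :
    Cfsg.IsElementaryAbelian p A ↔ (∀ a ∈ A, ∀ b ∈ A, a * b = b * a) ∧ ∀ a ∈ A, a ^ p = 1 := by
  unfold Cfsg.IsElementaryAbelian
  constructor
  · rintro ⟨h1, h2⟩
    refine ⟨fun a ha b hb => ?_, h2⟩
    have := h1.is_comm.comm ⟨a, ha⟩ ⟨b, hb⟩
    exact congrArg Subtype.val this
  · rintro ⟨h1, h2⟩
    exact ⟨⟨⟨fun a b => Subtype.ext (h1 a a.2 b b.2)⟩⟩, h2⟩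

/-- if `S = B A` then the index of `A` equals the index of `A ∩ B` in `B`. -/
theorem relIndex_eq_index_of_prod {S : Type*} [Group S] (A B : Subgroup S)
    (h : ∀ s : S, ∃ b ∈ B, ∃ a ∈ A, s = b * a) : A.relIndex B = A.index := by
  have h1 := MulAction.index_stabilizer (↥B) (QuotientGroup.mk (1 : S) : S ⧸ A)
  have h2 : MulAction.stabilizer (↥B) (QuotientGroup.mk (1 : S) : S ⧸ A) = A.subgroupOf B := by
    ext b
    rw [MulAction.mem_stabilizer_iff, Subgroup.mem_subgroupOf]
    have : b • (QuotientGroup.mk (1 : S) : S ⧸ A) = QuotientGroup.mk ((b : S) * 1) := rfl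
    rw [this, mul_one, QuotientGroup.eq]
    simp
  have h3 : MulAction.orbit (↥B) (QuotientGroup.mk (1 : S) : S ⧸ A) = Set.univ := by
    rw [Set.eq_univ_iff_forall]
    intro q
    induction q using QuotientGroup.induction_on with
    | H s =>
      obtain ⟨b, hb, a, ha, rfl⟩ := h s
      refine ⟨⟨b, hb⟩, ?_⟩
      have : (⟨b, hb⟩ : B) • (QuotientGroup.mk (1 : S) : S ⧸ A) = QuotientGroup.mk (b * 1) := rfl
      show (⟨b, hb⟩ : B) • (QuotientGroup.mk (1 : S) : S ⧸ A) = _
      rw [this, mul_one, QuotientGroup.eq]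
      simpa using ha
  rw [h2, h3, Set.ncard_univ] at h1
  rw [Subgroup.relIndex, h1, Subgroup.index_eq_card]

theorem card_eq_card_inf_mul_relIndex {S : Type*} [Group S] (A C : Subgroup S) :
    Nat.card C = Nat.card (A ⊓ C : Subgroup S) * A.relIndex C := by
  have h := Subgroup.relIndex_mul_relIndex ⊥ (A ⊓ C) C bot_le inf_le_right
  rw [Subgroup.relIndex_bot_left, Subgroup.relIndex_bot_left, Subgroup.inf_relIndex_right] at h
  exact h.symm


/-- Let S be a non-abelian finite 2-group which is the product S = AB of two elementary abelian subgroups A and B, and suppose that the centralizer in S of every element of A outside B is exactly A. Then the centralizer of every element of B outside A is exactly B; A and B are maximal elementary abelian subgroups of S and the only ones; the centre of S is A ∩ B; and every element of S outside A ∪ B has centralizer of order at most min(|A|, |B|). -/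
theorem result {S : Type*} [Group S] [Finite S] (hS : IsPGroup 2 S) (hna : ¬ IsMulCommutative S) (A B : Subgroup S)
    (hA : Cfsg.IsElementaryAbelian 2 A) (hB : Cfsg.IsElementaryAbelian 2 B) (hAB : ∀ s : S, ∃ a ∈ A, ∃ b ∈ B, s = a * b)
    (hC : ∀ a ∈ A, a ∉ B → Subgroup.centralizer ({a} : Set S) = A) :
    (∀ b ∈ B, b ∉ A → Subgroup.centralizer ({b} : Set S) = B) ∧
      (∀ E : Subgroup S, Cfsg.IsElementaryAbelian 2 E → (∀ E' : Subgroup S, Cfsg.IsElementaryAbelian 2 E' → E ≤ E' → E' = E) → E = A ∨ E = B) ∧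
      (∀ E' : Subgroup S, Cfsg.IsElementaryAbelian 2 E' → A ≤ E' → E' = A) ∧ (∀ E' : Subgroup S, Cfsg.IsElementaryAbelian 2 E' → B ≤ E' → E' = B) ∧
      Subgroup.center S = A ⊓ B ∧
      (∀ x : S, x ∉ A → x ∉ B → Nat.card ↥(Subgroup.centralizer ({x} : Set S)) ≤ min (Nat.card ↥A) (Nat.card ↥B)) := by
  obtain ⟨hAc, hA2⟩ := (ea_iff 2 A).mp hA
  obtain ⟨hBc, hB2⟩ := (ea_iff 2 B).mp hB
  have hCa : ∀ a ∈ A, a ∉ B → ∀ y, y * a = a * y → y ∈ A := by
    intro a ha haB y hy
    rw [← hC a ha haB]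
    exact Subgroup.mem_centralizer_singleton_iff.mpr hy
  -- the product decomposition the other way round
  have hBA : ∀ s : S, ∃ b ∈ B, ∃ a ∈ A, s = b * a := by
    intro s
    obtain ⟨a, ha, b, hb, hab⟩ := hAB s⁻¹
    refine ⟨b⁻¹, B.inv_mem hb, a⁻¹, A.inv_mem ha, ?_⟩
    rw [← mul_inv_rev, ← hab, inv_inv]
  have hAnB : ¬ A ≤ B := by
    intro h
    apply hna
    refine ⟨⟨fun x y => ?_⟩⟩
    obtain ⟨a, ha, b, hb, rfl⟩ := hAB x
    obtain ⟨a', ha', b', hb', rfl⟩ := hAB y
    exact hBc _ (B.mul_mem (h ha) hb) _ (B.mul_mem (h ha') hb')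
  have hBnA : ¬ B ≤ A := by
    intro h
    apply hna
    refine ⟨⟨fun x y => ?_⟩⟩
    obtain ⟨a, ha, b, hb, rfl⟩ := hAB x
    obtain ⟨a', ha', b', hb', rfl⟩ := hAB y
    exact hAc _ (A.mul_mem ha (h hb)) _ (A.mul_mem ha' (h hb'))
  obtain ⟨a₀, ha₀, ha₀B⟩ := SetLike.not_le_iff_exists.mp hAnB
  obtain ⟨b₀, hb₀, hb₀A⟩ := SetLike.not_le_iff_exists.mp hBnA
  -- (1)
  have h1 : ∀ b ∈ B, b ∉ A → ∀ y, y * b = b * y → y ∈ B := by
    intro b hb hbA y hy
    obtain ⟨a, ha, b', hb', rfl⟩ := hAB y
    have hab : a * b = b * a := by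
      have h2 : b' * b = b * b' := hBc _ hb' _ hb
      calc a * b = a * b' * b * b'⁻¹ := by rw [mul_assoc a b' b, h2]; group
        _ = b * (a * b') * b'⁻¹ := by rw [hy]
        _ = b * a := by group
    have haB : a ∈ B := by
      by_contra haB
      exact hbA (hCa a ha haB b hab.symm)
    exact B.mul_mem haB hb'
  have h1' : ∀ b ∈ B, b ∉ A → Subgroup.centralizer ({b} : Set S) = B := by
    intro b hb hbA
    ext y
    rw [Subgroup.mem_centralizer_singleton_iff]
    exact ⟨h1 b hb hbA y, fun hy => hBc _ hy _ hb⟩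
  -- involutions lie in A ∪ B
  have hinv : ∀ x : S, x ^ 2 = 1 → x ∈ A ∨ x ∈ B := by
    intro x hx
    by_contra hcon
    push Not at hcon
    obtain ⟨a, ha, b, hb, rfl⟩ := hAB x
    have haB : a ∉ B := fun h => hcon.2 (B.mul_mem h hb)
    have hbA : b ∉ A := fun h => hcon.1 (A.mul_mem ha h)
    have ha2 : a * a = 1 := by have := hA2 a ha; rwa [pow_two] at this
    have hb2 : b * b = 1 := by have := hB2 b hb; rwa [pow_two] at this
    have hx2 : a * b * (a * b) = 1 := by rwa [pow_two] at hx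
    have hba : b * a = a * b := by
      calc b * a = (a * a) * (b * a) * (b * b) := by rw [ha2, hb2]; group
        _ = a * (a * b * (a * b)) * b := by group
        _ = a * b := by rw [hx2]; group
    exact hbA (hCa a ha haB b hba)
  have hEle : ∀ E : Subgroup S, Cfsg.IsElementaryAbelian 2 E → E ≤ A ∨ E ≤ B := by
    intro E hE
    obtain ⟨hEc, hE2⟩ := (ea_iff 2 E).mp hE
    by_cases hEB : E ≤ B
    · exact Or.inr hEB
    · left
      obtain ⟨e, he, heB⟩ := SetLike.not_le_iff_exists.mp hEB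
      have heA : e ∈ A := (hinv e (hE2 e he)).resolve_right heB
      intro y hy
      exact hCa e heA heB y (hEc _ hy _ he)
  -- centre
  have hcenter : Subgroup.center S = A ⊓ B := by
    ext z
    rw [Subgroup.mem_center_iff]
    constructor
    · intro hz
      have hzA : z ∈ A := hCa a₀ ha₀ ha₀B z (hz a₀).symm
      refine ⟨hzA, ?_⟩
      by_contra hzB
      exact hBnA (fun b hb => hCa z hzA hzB b (hz b))
    · rintro ⟨hzA, hzB⟩ g
      obtain ⟨a, ha, b, hb, rfl⟩ := hAB g
      calc a * b * z = a * (b * z) := by group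
        _ = a * (z * b) := by rw [hBc _ hb _ hzB]
        _ = (a * z) * b := by group
        _ = (z * a) * b := by rw [hAc _ ha _ hzA]
        _ = z * (a * b) := by group
  -- centralizer bound, symmetric form
  have hbound : ∀ (A B : Subgroup S), (∀ a ∈ A, ∀ a' ∈ A, a * a' = a' * a) →
      (∀ a ∈ A, a ∉ B → ∀ y, y * a = a * y → y ∈ A) →
      (∀ b ∈ B, b ∉ A → ∀ y, y * b = b * y → y ∈ B) →
      (∀ s : S, ∃ a ∈ A, ∃ b ∈ B, s = a * b) → (∀ s : S, ∃ b ∈ B, ∃ a ∈ A, s = b * a) →
      (∀ z, z ∈ A ⊓ B → ∀ g : S, g * z = z * g) →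
      ∀ x : S, x ∉ A → x ∉ B → Nat.card ↥(Subgroup.centralizer ({x} : Set S)) ≤ Nat.card B := by
    intro A B hAc hCa hCb hAB hBA hZ x hxA hxB
    set C := Subgroup.centralizer ({x} : Set S) with hCdef
    obtain ⟨a, ha, b, hb, hx⟩ := hAB x
    have haB : a ∉ B := fun h => hxB (hx ▸ B.mul_mem h hb)
    have hbA : b ∉ A := fun h => hxA (hx ▸ A.mul_mem ha h)
    have hinf : A ⊓ C = A ⊓ B := by
      ext y
      constructor
      · rintro ⟨hyA, hyC⟩
        refine ⟨hyA, ?_⟩
        by_contra hyB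
        have hyx : y * x = x * y := Subgroup.mem_centralizer_singleton_iff.mp hyC
        have hya : y * a = a * y := hAc _ hyA _ ha
        have hyb : b * y = y * b := by
          have h2 : y * (a * b) = a * b * y := by rw [← hx]; exact hyx
          calc b * y = a⁻¹ * (a * b * y) := by group
            _ = a⁻¹ * (y * (a * b)) := by rw [h2]
            _ = a⁻¹ * (y * a) * b := by group
            _ = a⁻¹ * (a * y) * b := by rw [hya]
            _ = y * b := by group
        exact hbA (hCa y hyA hyB b hyb)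
      · rintro ⟨hyA, hyB⟩
        refine ⟨hyA, ?_⟩
        exact Subgroup.mem_centralizer_singleton_iff.mpr (hZ y ⟨hyA, hyB⟩ x).symm
    have hfin : A.relIndex ⊤ ≠ 0 := by
      rw [Subgroup.relIndex_top_right]; exact Subgroup.index_ne_zero_of_finite
    have hle : A.relIndex C ≤ A.index := by
      have := Subgroup.relIndex_le_of_le_right (H := A) (le_top : C ≤ ⊤) hfin
      rwa [Subgroup.relIndex_top_right] at this
    calc Nat.card C = Nat.card (A ⊓ C : Subgroup S) * A.relIndex C := card_eq_card_inf_mul_relIndex A C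
      _ ≤ Nat.card (A ⊓ C : Subgroup S) * A.index := Nat.mul_le_mul_left _ hle
      _ = Nat.card (A ⊓ B : Subgroup S) * A.relIndex B := by
          rw [hinf, relIndex_eq_index_of_prod A B hBA]
      _ = Nat.card B := (card_eq_card_inf_mul_relIndex A B).symm
  have hZc : ∀ z, z ∈ A ⊓ B → ∀ g : S, g * z = z * g := by
    intro z hz g
    rw [← hcenter] at hz
    exact Subgroup.mem_center_iff.mp hz g
  refine ⟨h1', ?_, ?_, ?_, hcenter, ?_⟩
  · intro E hE hmax
    rcases hEle E hE with h | h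
    · left; exact (hmax A hA h).symm
    · right; exact (hmax B hB h).symm
  · intro E' hE' hAE
    rcases hEle E' hE' with h | h
    · exact le_antisymm h hAE
    · exact absurd (hAE.trans h) hAnB
  · intro E' hE' hBE
    rcases hEle E' hE' with h | h
    · exact absurd (hBE.trans h) hBnA
    · exact le_antisymm h hBE
  · intro x hxA hxB
    apply le_min
    · exact hbound B A hBc h1 hCa hBA hAB (fun z hz => hZc z ⟨hz.2, hz.1⟩) x hxB hxA
    · exact hbound A B hAc hCa h1 hAB hBA hZc x hxA hxB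

end Cfsg.Agent.S3163
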