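import Cfsg.Statements.S3166
import Mathlib

set_option autoImplicit false
open Cfsg

namespace Cfsg.Agent.S3166

theorem odd_geom (p : ℤ) (hp : Odd p) (k : ℕ) : Odd (∑ i ∈ Finset.range (2 * k + 1), p ^ i) := by
  induction k with
  | zero => simp
  | succ k ih =>
    have : 2 * (k + 1) + 1 = (2 * k + 1) + 1 + 1 := by ring
    rw [this, Finset.sum_range_succ, Finset.sum_range_succ, add_assoc]
    apply Odd.add_even ih
    have : p ^ (2 * k + 1) + p ^ (2 * k + 1 + 1) = p ^ (2 * k + 1) * (1 + p) := by ring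
    rw [this]
    apply Even.mul_left
    exact Odd.add_odd odd_one hp

theorem not_sq (q r : ℤ) (hq : 2 ≤ q) (hr : 0 ≤ r) (h : r ^ 2 = q ^ 4 - q ^ 3 + q ^ 2 - q + 1) : False := by
  have h1 : 2 * q ^ 2 - q < 2 * r := by
    by_contra hcon
    push Not at hcon
    have : (2 * r) ^ 2 ≤ (2 * q ^ 2 - q) ^ 2 := by
      apply pow_le_pow_left₀ (by linarith) hcon
    nlinarith
  have h2 : 2 * r < 2 * q ^ 2 - q + 1 := by
    by_contra hcon
    push Not at hcon
    have : (2 * q ^ 2 - q + 1) ^ 2 ≤ (2 * r) ^ 2 := by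
      apply pow_le_pow_left₀ (by nlinarith) hcon
    nlinarith
  omega

theorem main (q p m : ℕ) (hq : 2 ≤ q) (hq2 : ∃ n, q = 2 ^ n) (hp : p.Prime)
    (h : p ^ m + q ^ 3 + q = q ^ 4 + q ^ 2 + 1) : m = 1 := by
  by_contra hm
  have hp2 : 2 ≤ p := hp.two_le
  -- p odd
  obtain ⟨n, hn⟩ := hq2
  have hn1 : 1 ≤ n := by
    rcases n with _ | n
    · simp at hn; omega
    · omega
  have hqeven : Even q := by
    rw [hn]; exact (Nat.even_pow' (by omega)).mpr even_two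
  have hm0 : m ≠ 0 := by
    intro h0
    rw [h0, pow_zero] at h
    nlinarith [pow_le_pow_left₀ (by omega : 0 ≤ 2) hq 3]
  have hpodd : Odd p := by
    rcases hp.eq_two_or_odd' with h2 | h2
    · exfalso
      rw [h2] at h
      have h3 : Even (2 ^ m + q ^ 3 + q) := by
        apply Even.add (Even.add ((Nat.even_pow' hm0).mpr even_two) ((Nat.even_pow' (by omega)).mpr hqeven)) hqeven
      rw [h] at h3
      have h4 : Even (q ^ 4 + q ^ 2) := Even.add ((Nat.even_pow' (by omega)).mpr hqeven) ((Nat.even_pow' (by omega)).mpr hqeven)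
      have := (Nat.even_add_one.mp h3)
      exact this h4
    · exact h2
  -- integer version
  have hZ : (p : ℤ) ^ m = (q : ℤ) ^ 4 - (q : ℤ) ^ 3 + (q : ℤ) ^ 2 - q + 1 := by
    have : ((p ^ m + q ^ 3 + q : ℕ) : ℤ) = ((q ^ 4 + q ^ 2 + 1 : ℕ) : ℤ) := by rw [h]
    push_cast at this
    linarith
  have hqZ : (2 : ℤ) ≤ q := by exact_mod_cast hq
  rcases Nat.even_or_odd' m with ⟨k, hk | hk⟩
  · -- m even
    apply not_sq (q : ℤ) ((p : ℤ) ^ k) hqZ (by positivity)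
    rw [← hZ, hk, pow_mul']
  · -- m odd, m = 2k+1, k ≥ 1
    have hk1 : 1 ≤ k := by omega
    -- q ∣ p - 1
    have hgeom := geom_sum_mul (p : ℤ) m
    have hodd := odd_geom (p : ℤ) (by exact_mod_cast hpodd) k
    rw [← hk] at hodd
    have hdvd : (q : ℤ) ∣ (∑ i ∈ Finset.range m, (p : ℤ) ^ i) * ((p : ℤ) - 1) := by
      rw [hgeom, hZ]
      exact ⟨(q : ℤ) ^ 3 - (q : ℤ) ^ 2 + q - 1, by ring⟩
    have hcop : IsCoprime (q : ℤ) (∑ i ∈ Finset.range m, (p : ℤ) ^ i) := by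
      rw [hn]
      push_cast
      apply IsCoprime.pow_left
      rw [Int.isCoprime_iff_gcd_eq_one]
      have := Int.odd_iff.mp hodd
      rw [Int.gcd_comm]
      have h5 : (∑ i ∈ Finset.range m, (p : ℤ) ^ i) = 2 * ((∑ i ∈ Finset.range m, (p : ℤ) ^ i) / 2) + 1 := by omega
      rw [h5]
      simp
    have hdvd2 : (q : ℤ) ∣ (p : ℤ) - 1 := hcop.dvd_of_dvd_mul_left hdvd
    have hdvdN : q ∣ p - 1 := by
      have : ((p - 1 : ℕ) : ℤ) = (p : ℤ) - 1 := by
        rw [Nat.cast_sub (by omega)]; simp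
      rw [← this] at hdvd2
      exact_mod_cast hdvd2
    obtain ⟨t, ht⟩ := hdvdN
    have ht1 : 1 ≤ t := by
      rcases t with _ | t
      · omega
      · omega
    have hpt : p = 1 + q * t := by omega
    have hpq : q + 1 ≤ p := by nlinarith
    -- m = 3
    have hm3 : m = 3 := by
      by_contra hm3
      have hm4 : 4 ≤ m := by omega
      have h1 : (q + 1) ^ 4 ≤ p ^ m :=
        (Nat.pow_le_pow_left hpq 4).trans (Nat.pow_le_pow_right (by omega) hm4)
      nlinarith [pow_le_pow_left₀ (by omega : 0 ≤ 2) hq 3, pow_le_pow_left₀ (by omega : 0 ≤ 2) hq 2]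
    rw [hm3, hpt] at h
    -- t^3 < q
    have ht3 : t ^ 3 < q := by
      by_contra hcon
      push Not at hcon
      have : q ^ 4 ≤ (q * t) ^ 3 := by
        rw [mul_pow]
        calc q ^ 4 = q ^ 3 * q := by ring
          _ ≤ q ^ 3 * t ^ 3 := Nat.mul_le_mul_left _ hcon
      nlinarith [pow_le_pow_left₀ (by omega : 0 ≤ 2) hq 3, pow_le_pow_left₀ (by omega : 0 ≤ 2) hq 2]
    -- q ∣ 3t+1
    have hdiv : (q : ℤ) ∣ 3 * (t : ℤ) + 1 := by
      have h6 : ((1 + q * t) ^ 3 + q ^ 3 + q : ℤ) = (q : ℤ) ^ 4 + (q : ℤ) ^ 2 + 1 := by exact_mod_cast h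
      have hq0 : (q : ℤ) ≠ 0 := by omega
      refine ⟨(q : ℤ) ^ 2 + 1 - 3 * (t : ℤ) ^ 2 - (t : ℤ) ^ 3 * q - q, ?_⟩
      have h7 : (q : ℤ) * (3 * (t : ℤ) + 1) = (q : ℤ) * ((q : ℤ) * ((q : ℤ) ^ 2 + 1 - 3 * (t : ℤ) ^ 2 - (t : ℤ) ^ 3 * q - q)) := by
        nlinarith
      exact mul_left_cancel₀ hq0 h7
    have hle : q ≤ 3 * t + 1 := by
      have : (q : ℤ) ≤ 3 * (t : ℤ) + 1 := Int.le_of_dvd (by positivity) hdiv
      exact_mod_cast this
    have ht_eq : t = 1 := by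
      by_contra hne
      have ht2 : 2 ≤ t := by omega
      nlinarith [pow_le_pow_left₀ (by omega : 0 ≤ 2) ht2 2]
    rw [ht_eq] at h hle
    have hq4 : q ≤ 4 := by omega
    interval_cases q <;> omega

/-- Let q = 2^n with n ≥ 1. If q⁴ − q³ + q² − q + 1 is a power p^m of a prime p, then m = 1: the value is never a prime power with exponent greater than 1. -/
theorem result (n p m : ℕ) (hn : 1 ≤ n) (hp : p.Prime) (h : (2 ^ n) ^ 4 - (2 ^ n) ^ 3 + (2 ^ n) ^ 2 - 2 ^ n + 1 = p ^ m) : m = 1 := by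
  have hq : 2 ≤ 2 ^ n := by
    calc 2 = 2 ^ 1 := by norm_num
      _ ≤ 2 ^ n := Nat.pow_le_pow_right (by norm_num) hn
  apply main (2 ^ n) p m hq ⟨n, rfl⟩ hp
  generalize 2 ^ n = q at h hq
  have h1 : q ^ 3 ≤ q ^ 4 := Nat.pow_le_pow_right (by omega) (by norm_num)
  have h2 : q ≤ q ^ 2 := by nlinarith
  omega

end Cfsg.Agent.S3166
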