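import Cfsg.Statements.S3171
-- import your own Cfsg.Agent.* helpers here

import Cfsg.Agent.Lib.Helper26.Syl2Model
import Cfsg.Agent.Lib.Helper7.M24Chain

set_option autoImplicit false
open scoped Pointwise
open Cfsg

namespace Cfsg.Agent.S3171

open Cfsg.Agent.Lib.Helper26 Cfsg.Agent.Lib.Helper7

/-- the explicit 2-subgroup, inside `M24` -/
noncomputable def P1 : Subgroup ↥Cfsg.M24 := s2Grp.subgroupOf Cfsg.M24

/-- it is isomorphic to `s2Grp` -/
noncomputable def P1equiv : ↥P1 ≃* ↥s2Grp := Subgroup.subgroupOfEquivOfLe s2Grp_le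

theorem fact2 : (244823040 : ℕ).factorization 2 = 10 := by
  have h : (244823040 : ℕ) = 2 ^ 10 * 239085 := by norm_num
  rw [h, Nat.factorization_mul (by norm_num) (by norm_num), Nat.Prime.factorization_pow Nat.prime_two]
  have h2 : (239085 : ℕ).factorization 2 = 0 :=
    Nat.factorization_eq_zero_of_not_dvd (by norm_num)
  simp [h2]

theorem card_P1 : Nat.card ↥P1 = 2 ^ (Nat.card ↥Cfsg.M24).factorization 2 := by
  rw [Nat.card_congr P1equiv.toEquiv, card_s2Grp, card_M24, fact2]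
  norm_num

/-- the explicit Sylow 2-subgroup -/
noncomputable def P1Syl : Sylow 2 ↥Cfsg.M24 :=
  haveI : Finite ↥Cfsg.M24 := Nat.finite_of_card_ne_zero (by rw [card_M24]; norm_num)
  Sylow.ofCard P1 card_P1

/-- every Sylow 2-subgroup is a `PModel` -/
theorem exists_model (P : Sylow 2 ↥Cfsg.M24) : Nonempty (PModel ↥(P : Subgroup ↥Cfsg.M24)) := by
  have : Finite ↥Cfsg.M24 := Nat.finite_of_card_ne_zero (by rw [card_M24]; norm_num)
  obtain ⟨g, rfl⟩ := MulAction.exists_smul_eq ↥Cfsg.M24 P1Syl P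
  have φ : ↥P1 ≃* ↥((g • P1Syl : Sylow 2 ↥Cfsg.M24) : Subgroup ↥Cfsg.M24) := Sylow.equivSMul P1Syl g
  exact ⟨s2Model.map (P1equiv.symm.trans φ)⟩

/-- Let P be a Sylow 2-subgroup of the Mathieu group of degree 24 and S the quotient of P by its centre. Then the centre of every maximal subgroup of S has order at most 8; S has an elementary abelian subgroup of order 64; and S has only one abelian subgroup of order 64. -/
theorem result (P : Sylow 2 ↥Cfsg.M24) :
    (∀ M : Subgroup (↥(P : Subgroup ↥Cfsg.M24) ⧸ Subgroup.center ↥(P : Subgroup ↥Cfsg.M24)), IsCoatom M →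
        Nat.card ↥(Subgroup.center ↥M) ≤ 8) ∧
      (∃ A : Subgroup (↥(P : Subgroup ↥Cfsg.M24) ⧸ Subgroup.center ↥(P : Subgroup ↥Cfsg.M24)),
        Cfsg.IsElementaryAbelian 2 A ∧ Nat.card ↥A = 64) ∧
      ∀ A B : Subgroup (↥(P : Subgroup ↥Cfsg.M24) ⧸ Subgroup.center ↥(P : Subgroup ↥Cfsg.M24)),
        IsMulCommutative ↥A → Nat.card ↥A = 64 → IsMulCommutative ↥B → Nat.card ↥B = 64 → A = B := by
  obtain ⟨m⟩ := exists_model P
  exact m.good

end Cfsg.Agent.S3171
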