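import Cfsg.Statements.S3178
import Cfsg.Agent.S0111
import Cfsg.Agent.Lib.Helper33.SylIn
import Cfsg.Agent.Lib.Helper55.IndexTwoLift

set_option autoImplicit false
open Cfsg

namespace Cfsg.Agent.S3178

open Cfsg.Agent.Lib.Helper55 Cfsg.Agent.Lib.Helper33

theorem relIndex_mul_card_le {G : Type*} [Group G] {H K : Subgroup G} (h : H ≤ K) :
    H.relIndex K * Nat.card H = Nat.card K := by
  have h1 := (H.subgroupOf K).index_mul_card
  rwa [Nat.card_congr (Subgroup.subgroupOfEquivOfLe h).toEquiv] at h1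

theorem orderOf_conj_eq {G : Type*} [Group G] (g x : G) : orderOf (g * x * g⁻¹) = orderOf x := by
  rw [orderOf_eq_orderOf_iff]
  intro n
  rw [conj_pow, conj_eq_one_iff]

/-- The unique involution of a cyclic `2`-group. -/
theorem eq_pow_of_sq_eq_one {G : Type*} [Group G] (a : G) (k : ℕ) (hao : orderOf a = 2 ^ (k + 1))
    (y : G) (hy : y ∈ Subgroup.zpowers a) (hy2 : y ^ 2 = 1) (hy1 : y ≠ 1) : y = a ^ (2 ^ k) := by
  have hfin : IsOfFinOrder a := by
    rw [← orderOf_pos_iff, hao]; positivity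
  rw [← hfin.mem_powers_iff_mem_zpowers] at hy
  obtain ⟨i, hi⟩ := hy
  have hi' : a ^ i = y := hi
  subst hi'
  have h1 : orderOf a ∣ i * 2 := by
    apply orderOf_dvd_of_pow_eq_one
    rw [pow_mul]; exact hy2
  rw [hao, pow_succ] at h1
  have h2 : 2 ^ k ∣ i := Nat.dvd_of_mul_dvd_mul_right (by norm_num) h1
  obtain ⟨j, rfl⟩ := h2
  have hz2 : (a ^ 2 ^ k) ^ 2 = 1 := by
    rw [← pow_mul, ← pow_succ, ← hao]; exact pow_orderOf_eq_one a
  rw [pow_mul] at hy1 ⊢
  rcases Nat.even_or_odd' j with ⟨l, hl | hl⟩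
  · exfalso; apply hy1
    rw [hl, pow_mul, hz2, one_pow]
  · rw [hl, pow_succ, pow_mul, hz2, one_pow, one_mul]

/-- Groups with a modular Sylow 2-subgroup have a normal 2-complement. Let S, of order 2^(n+1) with n ≥ 3, be a Sylow 2-subgroup of a finite group G, and suppose S contains an element a of order 2^n and an involution b with b a b⁻¹ = a^(2^(n-1) + 1); so S is the non-abelian 2-group with a cyclic subgroup of index 2 that is neither dihedral, semidihedral nor generalized quaternion. Then G has a normal 2-complement. -/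
theorem result {G : Type*} [Group G] [Finite G]
    (S : Sylow 2 G) (n : ℕ) (hn : 3 ≤ n) (hS : Nat.card ↥(S : Subgroup G) = 2 ^ (n + 1))
    (a b : G) (ha : a ∈ (S : Subgroup G)) (hb : b ∈ (S : Subgroup G))
    (hao : orderOf a = 2 ^ n) (hbo : orderOf b = 2) (hrel : b * a * b⁻¹ = a ^ (2 ^ (n - 1) + 1)) :
    Cfsg.HasNormalPComplement 2 G := by
  classical
  obtain ⟨m, rfl⟩ : ∃ m, n = m + 3 := ⟨n - 3, by omega⟩
  have e1 : m + 3 - 1 = m + 2 := by omega
  rw [e1] at hrel
  have hfact : Fact (Nat.Prime 2) := ⟨Nat.prime_two⟩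
  set z := a ^ (2 ^ (m + 2)) with hz
  set A := Subgroup.zpowers a with hA
  have haA : a ∈ A := Subgroup.mem_zpowers a
  have hAS : A ≤ S := (Subgroup.zpowers_le).mpr ha
  have hAcard : Nat.card A = 2 ^ (m + 3) := by rw [Nat.card_zpowers, hao]
  have hAidx : A.relIndex S = 2 := by
    have h := relIndex_mul_card_le hAS
    rw [hAcard, hS, pow_succ 2 (m + 3), mul_comm] at h
    exact Nat.eq_of_mul_eq_mul_left (by positivity) h
  have hz2 : z ^ 2 = 1 := by
    rw [hz, ← pow_mul, ← pow_succ, ← hao]; exact pow_orderOf_eq_one a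
  have hz1 : z ≠ 1 := by
    intro h
    have h1 := orderOf_dvd_of_pow_eq_one h
    rw [hao] at h1
    have h2 := Nat.le_of_dvd (by positivity) h1
    have h3 : m + 3 ≤ m + 2 := (Nat.pow_le_pow_iff_right (by norm_num)).mp h2
    omega
  have hzA : z ∈ A := Subgroup.pow_mem _ haA _
  have huniq : ∀ y ∈ A, y ^ 2 = 1 → y ≠ 1 → y = z :=
    fun y hy hy2 hy1 => eq_pow_of_sq_eq_one a (m + 2) hao y hy hy2 hy1
  have hb2 : b ^ 2 = 1 := by rw [← hbo]; exact pow_orderOf_eq_one b
  have hb1 : b ≠ 1 := by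
    intro h; rw [h, orderOf_one] at hbo; omega
  have hbA : b ∉ A := by
    intro hb'
    have hc : b * a * b⁻¹ = a := by
      obtain ⟨i, rfl⟩ := Subgroup.mem_zpowers_iff.mp hb'
      group
    rw [hc, pow_succ] at hrel
    have h1 : 1 * a = z * a := by rw [one_mul]; exact hrel
    exact hz1 (mul_right_cancel h1).symm
  -- A is normal in S
  have hAnS : (A.subgroupOf S).Normal := Subgroup.normal_of_index_eq_two hAidx
  have hAnorm : ∀ s ∈ (S : Subgroup G), ∀ y ∈ A, s * y * s⁻¹ ∈ A := by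
    intro s hs y hy
    have := hAnS.conj_mem ⟨y, hAS hy⟩ (Subgroup.mem_subgroupOf.mpr hy) ⟨s, hs⟩
    exact Subgroup.mem_subgroupOf.mp this
  have hconj_sq : ∀ (s x : G), (s * x * s⁻¹) ^ 2 = s * x ^ 2 * s⁻¹ := by
    intro s x; rw [conj_pow]
  have hconj_ne : ∀ (s x : G), x ≠ 1 → s * x * s⁻¹ ≠ 1 := by
    intro s x hx h
    apply hx
    have : x = s⁻¹ * (s * x * s⁻¹) * s := by group
    rw [this, h]; group
  have hzcent : ∀ s ∈ (S : Subgroup G), s * z * s⁻¹ = z := by
    intro s hs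
    apply huniq _ (hAnorm s hs z hzA)
    · rw [hconj_sq, hz2]; group
    · exact hconj_ne s z hz1
  have hsq : ∀ s ∈ (S : Subgroup G), s ^ 2 ∈ A := by
    intro s hs
    have := Subgroup.sq_mem_of_index_two (H := A.subgroupOf S) hAidx ⟨s, hs⟩
    exact Subgroup.mem_subgroupOf.mp this
  have hpowz : ∀ x ∈ (S : Subgroup G), orderOf x = 2 ^ (m + 2) → x ^ (2 ^ (m + 1)) = z := by
    intro x hx hox
    apply huniq
    · rw [pow_succ' 2 m, pow_mul]
      exact A.pow_mem (hsq x hx) _
    · rw [← pow_mul, ← pow_succ, ← hox]; exact pow_orderOf_eq_one x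
    · intro h
      have h1 := orderOf_dvd_of_pow_eq_one h
      rw [hox] at h1
      have h2 := Nat.le_of_dvd (by positivity) h1
      have h3 : m + 2 ≤ m + 1 := (Nat.pow_le_pow_iff_right (by norm_num)).mp h2
      omega
  -- b commutes with a ^ 2
  have hba2 : b * a ^ 2 * b⁻¹ = a ^ 2 := by
    rw [← conj_pow, hrel, ← pow_mul, add_mul, pow_add, one_mul]
    have : a ^ (2 ^ (m + 2) * 2) = 1 := by
      rw [← pow_succ, ← hao]; exact pow_orderOf_eq_one a
    rw [this, one_mul]
  have hoa2 : orderOf (a ^ 2) = 2 ^ (m + 2) := by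
    rw [orderOf_pow_of_dvd (by norm_num) (by rw [hao, pow_succ]; exact Dvd.intro_left _ rfl), hao,
      pow_succ]
    exact Nat.mul_div_cancel _ (by norm_num)
  -- b is not conjugate into A
  have hnc : ∀ g : G, g * b * g⁻¹ ∉ A := by
    intro g hg
    have hgz : g * b * g⁻¹ = z := by
      apply huniq _ hg
      · rw [hconj_sq, hb2]; group
      · exact hconj_ne g b hb1
    set C := Subgroup.centralizer ({z} : Set G) with hC
    have hSC : (S : Subgroup G) ≤ C := by
      intro s hs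
      rw [hC, Subgroup.mem_centralizer_singleton_iff]
      have h0 := hzcent s hs
      symm
      calc z * s = (s * z * s⁻¹) * s := by rw [h0]
        _ = s * z := by group
    have hsyl : SylIn 2 (S : Subgroup G) C := sylIn_of_sylow_le S hSC
    set P₀ := (S : Subgroup G) ⊓ Subgroup.centralizer ({b} : Set G) with hP₀
    have hQC : cj g P₀ ≤ C := by
      intro x hx
      rw [mem_cj] at hx
      have h1 : g⁻¹ * x * g ∈ Subgroup.centralizer ({b} : Set G) := hx.2
      rw [Subgroup.mem_centralizer_singleton_iff] at h1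
      rw [hC, Subgroup.mem_centralizer_singleton_iff, ← hgz]
      have : x = g * (g⁻¹ * x * g) * g⁻¹ := by group
      rw [this]
      have e1 : g * (g⁻¹ * x * g) * g⁻¹ * (g * b * g⁻¹) = g * ((g⁻¹ * x * g) * b) * g⁻¹ := by group
      have e2 : g * b * g⁻¹ * (g * (g⁻¹ * x * g) * g⁻¹) = g * (b * (g⁻¹ * x * g)) * g⁻¹ := by group
      rw [e1, e2, h1]
    have hQp : IsPGroup 2 (cj g P₀) := isPGroup_cj (S.isPGroup'.to_le inf_le_left)
    obtain ⟨c, hcC, hle⟩ := hsyl.exists_cj_le hQC hQp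
    have ha2 : a ^ 2 ∈ P₀ := by
      refine Subgroup.mem_inf.mpr ⟨(S : Subgroup G).pow_mem ha 2, ?_⟩
      rw [Subgroup.mem_centralizer_singleton_iff]
      symm
      calc b * a ^ 2 = (b * a ^ 2 * b⁻¹) * b := by group
        _ = a ^ 2 * b := by rw [hba2]
    have hx : (c * g) * a ^ 2 * (c * g)⁻¹ ∈ (S : Subgroup G) := by
      apply hle
      rw [← cj_mul]
      exact conj_mem_cj ha2
    have hy : (c * g) * b * (c * g)⁻¹ = z := by
      have e : (c * g) * b * (c * g)⁻¹ = c * (g * b * g⁻¹) * c⁻¹ := by group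
      rw [e, hgz]
      rw [hC, Subgroup.mem_centralizer_singleton_iff] at hcC
      rw [hcC]; group
    have hox : orderOf ((c * g) * a ^ 2 * (c * g)⁻¹) = 2 ^ (m + 2) := by
      rw [← hoa2]
      exact orderOf_conj_eq (c * g) (a ^ 2)
    have h5 := hpowz _ hx hox
    rw [conj_pow, ← pow_mul, ← pow_succ'] at h5
    -- (c g) z (c g)⁻¹ = z = (c g) b (c g)⁻¹
    have h6 : (c * g) * z * (c * g)⁻¹ = (c * g) * b * (c * g)⁻¹ := by rw [hy]; exact h5
    have h7 : z = b := by
      have := mul_left_cancel (mul_right_cancel h6)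
      exact this
    exact hbA (by rw [← h7]; exact hzA)
  -- Thompson transfer
  rcases Cfsg.Agent.S0111.result S A hAS hAidx b hbo hb hbA with ⟨M, hMn, hMi, hbM⟩ | ⟨g, hg⟩
  swap
  · exact absurd hg (hnc g)
  apply hasNormalPComplement_of_index_two M hMi
  -- the Sylow 2-subgroup of M
  have hMrel : M.relIndex S = 2 := by
    have h1 : M.relIndex S ∣ 2 := by
      have h0 := Subgroup.relIndex_dvd_index_of_normal M (S : Subgroup G)
      rwa [hMi] at h0
    rcases (Nat.dvd_prime Nat.prime_two).mp h1 with h | h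
    · exact absurd (Subgroup.relIndex_eq_one.mp h hb) hbM
    · exact h
  have hTcard : Nat.card ((S : Subgroup G) ⊓ M : Subgroup G) = 2 ^ (m + 3) := by
    have h := relIndex_mul_card_le (inf_le_left : (S : Subgroup G) ⊓ M ≤ S)
    rw [inf_comm, Subgroup.inf_relIndex_right, hMrel, hS, pow_succ 2 (m + 3), mul_comm] at h
    have := Nat.eq_of_mul_eq_mul_right (by norm_num) h
    rw [inf_comm]; exact this
  set T' : Subgroup ↥M := (S : Subgroup G).subgroupOf M with hT'
  have hT'card : Nat.card T' = 2 ^ (m + 3) := by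
    rw [← hTcard, hT', ← Subgroup.inf_subgroupOf_right]
    exact Nat.card_congr (Subgroup.subgroupOfEquivOfLe inf_le_right).toEquiv
  have hT'p : IsPGroup 2 T' := S.isPGroup'.comap_subtype
  have hT'idx : ¬ 2 ∣ T'.index := by
    have h1 := T'.index_mul_card
    have h2 := M.index_mul_card
    have h3 := (S : Subgroup G).index_mul_card
    rw [hT'card] at h1
    rw [hMi] at h2
    rw [hS] at h3
    have h4 : T'.index = (S : Subgroup G).index := by
      have : T'.index * 2 ^ (m + 3) * 2 = (S : Subgroup G).index * 2 ^ (m + 3 + 1) := by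
        rw [h1, h3, mul_comm, h2]
      rw [pow_succ 2 (m + 3), ← mul_assoc] at this
      have h5 := Nat.eq_of_mul_eq_mul_right (by norm_num) this
      exact Nat.eq_of_mul_eq_mul_right (by positivity) h5
    rw [h4]
    exact S.not_dvd_index
  let P : Sylow 2 ↥M := IsPGroup.toSylow hT'p hT'idx
  have hPT : (P : Subgroup ↥M) = T' := rfl
  -- an element of order 2^(m+3) in S ⊓ M
  have hgen : ∃ c : G, c ∈ (S : Subgroup G) ∧ c ∈ M ∧ orderOf c = 2 ^ (m + 3) := by
    by_cases haM : a ∈ M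
    · exact ⟨a, ha, haM, hao⟩
    · refine ⟨a * b, (S : Subgroup G).mul_mem ha hb, ?_, ?_⟩
      · rw [Subgroup.mul_mem_iff_of_index_two hMi]
        exact ⟨fun h => absurd h haM, fun h => absurd h hbM⟩
      · -- (a b)^2 = a^(2^(m+2)+2)
        have hbinv : b⁻¹ = b := by
          rw [inv_eq_iff_mul_eq_one, ← pow_two]; exact hb2
        have hsq2 : (a * b) ^ 2 = a ^ (2 ^ (m + 2) + 2) := by
          have : (a * b) ^ 2 = a * (b * a * b⁻¹) := by
            rw [hbinv, pow_two]; group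
          rw [this, hrel, ← pow_succ']
        have hpow1 : (a * b) ^ (2 ^ (m + 2)) = z := by
          rw [pow_succ' 2 (m + 1), pow_mul, hsq2, ← pow_mul, add_mul, pow_add]
          have e2 : 2 ^ (m + 2) * 2 ^ (m + 1) = 2 ^ (m + 3) * 2 ^ m := by ring
          have e3 : 2 * 2 ^ (m + 1) = 2 ^ (m + 2) := by ring
          rw [e2, e3, pow_mul, ← hao, pow_orderOf_eq_one, one_pow, one_mul]
        apply orderOf_eq_prime_pow
        · rw [hpow1]; exact hz1
        · rw [pow_succ 2 (m + 2), pow_mul, hpow1]; exact hz2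
  obtain ⟨c, hcS, hcM, hco⟩ := hgen
  have hT'cyc : IsCyclic ↥T' := by
    have hcT : (⟨c, hcM⟩ : ↥M) ∈ T' := by
      rw [hT', Subgroup.mem_subgroupOf]; exact hcS
    apply isCyclic_of_orderOf_eq_card (⟨⟨c, hcM⟩, hcT⟩ : ↥T')
    rw [hT'card, ← hco, Subgroup.orderOf_mk, Subgroup.orderOf_mk]
  have hPcyc : IsCyclic ↥(P : Subgroup ↥M) := hT'cyc
  have hminfac : (Nat.card ↥M).minFac = 2 := by
    rw [Nat.minFac_eq_two_iff]
    have h1 : Nat.card T' ∣ Nat.card ↥M := Subgroup.card_subgroup_dvd_card T'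
    rw [hT'card] at h1
    exact dvd_trans (dvd_pow_self 2 (by omega)) h1
  have hcomp := IsCyclic.isComplement' hminfac hPcyc
  exact ⟨P, _, inferInstance, hcomp⟩

end Cfsg.Agent.S3178
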