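import Cfsg.Statements.S3179
import Mathlib
import Cfsg.Agent.Lib.Helper5.PSL2Small
import Cfsg.Agent.Lib.Helper5.UnitaryCenter
import Cfsg.Agent.Lib.Helper95.SzIso
set_option autoImplicit false
open Cfsg

namespace Cfsg.Agent.S3179

open Matrix MulAction

/-- free actions: the group order divides the size of the set -/
theorem card_dvd_of_free {G X : Type*} [Group G] [MulAction G X]
    (h : ∀ b : X, MulAction.stabilizer G b = ⊥) : Nat.card G ∣ Nat.card X := by
  rw [Nat.card_congr (MulAction.selfEquivOrbitsQuotientProd h), Nat.card_prod]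
  exact dvd_mul_left _ _

abbrev V5 := Fin 5 → ZMod 2

/-- the natural action of `GL(5,2)` on vectors -/
@[reducible] def glAct : MulAction (GL (Fin 5) (ZMod 2)) V5 where
  smul g v := (g : Matrix (Fin 5) (Fin 5) (ZMod 2)) *ᵥ v
  one_smul v := by
    show ((1 : GL (Fin 5) (ZMod 2)) : Matrix (Fin 5) (Fin 5) (ZMod 2)) *ᵥ v = v
    simp
  mul_smul g h v := by
    show ((g * h : GL (Fin 5) (ZMod 2)) : Matrix (Fin 5) (Fin 5) (ZMod 2)) *ᵥ v =
      (g : Matrix (Fin 5) (Fin 5) (ZMod 2)) *ᵥ ((h : Matrix (Fin 5) (Fin 5) (ZMod 2)) *ᵥ v)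
    simp [Matrix.mulVec_mulVec]

theorem eq_one_of_fix (g : GL (Fin 5) (ZMod 2))
    (h : ∀ v : V5, (g : Matrix (Fin 5) (Fin 5) (ZMod 2)) *ᵥ v = v) : g = 1 := by
  apply Units.ext
  show (g : Matrix (Fin 5) (Fin 5) (ZMod 2)) = 1
  ext i j
  have := congrFun (h (Pi.single j 1)) i
  simpa [Matrix.one_apply, Pi.single_apply, eq_comm] using this

/-- in a group, if `x^9 = 1` and a power `x^k` (`k < 9`, `k ≠ 0`) lies in a subgroup, so does `x^3`. -/
theorem cube_mem_of_pow_mem {G : Type*} [Group G] (x : G) (hx : x ^ 9 = 1) (S : Subgroup G)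
    (k : ℕ) (hk : k < 9) (hk0 : k ≠ 0) (h : x ^ k ∈ S) : x ^ 3 ∈ S := by
  have key : ∀ e : ℕ, (k * e) % 9 = 3 → x ^ 3 ∈ S := by
    intro e he
    have : x ^ 3 = (x ^ k) ^ e := by
      rw [← pow_mul, pow_eq_pow_mod (k * e) hx, he]
    rw [this]
    exact S.pow_mem h e
  interval_cases k
  · exact absurd rfl hk0
  · exact key 3 (by norm_num)
  · exact key 6 (by norm_num)
  · exact key 1 (by norm_num)
  · exact key 3 (by norm_num)
  · exact key 6 (by norm_num)
  · exact key 2 (by norm_num)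
  · exact key 3 (by norm_num)
  · exact key 6 (by norm_num)

/-- `GL(5,2)` has no element of order `9`: a cyclic group of order `9` acts freely on the vectors
moved by `x^3`, whose number is `32 - 2^j`. -/
theorem no_order9 (x : GL (Fin 5) (ZMod 2)) (hx : x ^ 9 = 1) : x ^ 3 = 1 := by
  by_contra h3
  let _i := glAct
  have hord : orderOf x = 3 ^ (1 + 1) := orderOf_eq_prime_pow (by simpa using h3) (by simpa using hx)
  have hord9 : orderOf x = 9 := by rw [hord]; norm_num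
  have hcardC : Nat.card (Subgroup.zpowers x) = 9 := by rw [Nat.card_zpowers, hord9]
  -- the set of vectors moved by x^3
  let U := {v : V5 // x ^ 3 • v ≠ v}
  have hcomm : ∀ c ∈ Subgroup.zpowers x, x ^ 3 * c = c * x ^ 3 := by
    intro c hc
    obtain ⟨k, rfl⟩ := Subgroup.mem_zpowers_iff.mp hc
    exact ((Commute.refl x).pow_left 3).zpow_right k
  let actU : MulAction (Subgroup.zpowers x) U :=
    { smul := fun c u => ⟨(c : GL (Fin 5) (ZMod 2)) • u.1, by
        intro h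
        apply u.2
        rw [← mul_smul, hcomm c.1 c.2, mul_smul] at h
        exact MulAction.injective _ h⟩
      one_smul := fun u => Subtype.ext (one_smul _ u.1)
      mul_smul := fun c d u => Subtype.ext (mul_smul c.1 d.1 u.1) }
  have hsm : ∀ (c : Subgroup.zpowers x) (u : U), (c • u).1 = (c : GL (Fin 5) (ZMod 2)) • u.1 :=
    fun _ _ => rfl
  have hfree : ∀ u : U, MulAction.stabilizer (Subgroup.zpowers x) u = ⊥ := by
    intro u
    rw [eq_bot_iff]
    intro c hc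
    rw [Subgroup.mem_bot]
    by_contra hc1
    have hc' : (c : GL (Fin 5) (ZMod 2)) • u.1 = u.1 := by
      have := congrArg Subtype.val (MulAction.mem_stabilizer_iff.mp hc)
      rwa [hsm] at this
    obtain ⟨c, hcz⟩ := c
    have hcp : c ∈ Submonoid.powers x := mem_powers_iff_mem_zpowers.mpr hcz
    rw [mem_powers_iff_mem_range_orderOf, hord9] at hcp
    obtain ⟨k, hk, rfl⟩ := Finset.mem_image.mp hcp
    have hk9 : k < 9 := Finset.mem_range.mp hk
    have hk0 : k ≠ 0 := by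
      rintro rfl
      apply hc1
      apply Subtype.ext
      simp
    have hmem : x ^ k ∈ MulAction.stabilizer (GL (Fin 5) (ZMod 2)) u.1 :=
      MulAction.mem_stabilizer_iff.mpr hc'
    have := cube_mem_of_pow_mem x hx _ k hk9 hk0 hmem
    exact u.2 (MulAction.mem_stabilizer_iff.mp this)
  have hdvd : 9 ∣ Nat.card U := hcardC ▸ card_dvd_of_free hfree
  -- the fixed vectors form an additive subgroup
  let Fx : AddSubgroup V5 :=
    { carrier := {v | x ^ 3 • v = v}
      zero_mem' := by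
        show ((x ^ 3 : GL (Fin 5) (ZMod 2)) : Matrix (Fin 5) (Fin 5) (ZMod 2)) *ᵥ (0 : V5) = 0
        simp
      add_mem' := by
        intro a b ha hb
        show ((x ^ 3 : GL (Fin 5) (ZMod 2)) : Matrix (Fin 5) (Fin 5) (ZMod 2)) *ᵥ (a + b) = a + b
        rw [Matrix.mulVec_add]
        congr 1
      neg_mem' := by
        intro a ha
        show ((x ^ 3 : GL (Fin 5) (ZMod 2)) : Matrix (Fin 5) (Fin 5) (ZMod 2)) *ᵥ (-a) = -a
        rw [Matrix.mulVec_neg]
        congr 1 }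
  have hV : Nat.card V5 = 2 ^ 5 := by
    rw [Nat.card_eq_fintype_card, Fintype.card_fun, ZMod.card, Fintype.card_fin]
  have hFdvd : Nat.card Fx ∣ 2 ^ 5 := hV ▸ AddSubgroup.card_addSubgroup_dvd_card Fx
  obtain ⟨j, hj, hFj⟩ := (Nat.dvd_prime_pow Nat.prime_two).mp hFdvd
  have hsum : Nat.card Fx + Nat.card U = 2 ^ 5 := by
    classical
    rw [← hV]
    have e : V5 ≃ {v : V5 // x ^ 3 • v = v} ⊕ {v : V5 // ¬ x ^ 3 • v = v} :=
      (Equiv.sumCompl (fun v : V5 => x ^ 3 • v = v)).symm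
    rw [Nat.card_congr e, Nat.card_sum]
    rfl
  have hU0 : Nat.card U = 0 := by
    rw [hFj] at hsum
    interval_cases j <;> omega
  have hall : ∀ v : V5, x ^ 3 • v = v := by
    intro v
    by_contra hv
    have : Nonempty U := ⟨⟨v, hv⟩⟩
    exact (Nat.card_pos (α := U)).ne' hU0
  exact h3 (eq_one_of_fix _ hall)

theorem no_order9_section {H : Subgroup (GL (Fin 5) (ZMod 2))} {K : Subgroup ↥H} [K.Normal]
    {X : Type*} [Group X] (φ : ↥H ⧸ K ≃* X) (y : X) (h9 : y ^ 9 = 1) (h3 : y ^ 3 ≠ 1) : False := by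
  have hz9 : (φ.symm y) ^ 9 = 1 := by rw [← map_pow, h9, map_one]
  have hz3 : (φ.symm y) ^ 3 ≠ 1 := by
    rw [← map_pow]
    intro h
    apply h3
    have := congrArg φ h
    rwa [φ.apply_symm_apply, map_one] at this
  obtain ⟨h, hh⟩ := QuotientGroup.mk_surjective (φ.symm y)
  rw [← hh] at hz9 hz3
  have hord : orderOf (QuotientGroup.mk h : ↥H ⧸ K) = 3 ^ (1 + 1) :=
    orderOf_eq_prime_pow (by simpa using hz3) (by simpa using hz9)
  have hdvd : 9 ∣ orderOf h := by
    have : orderOf (QuotientGroup.mk h : ↥H ⧸ K) ∣ orderOf h := by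
      apply orderOf_dvd_of_pow_eq_one
      rw [← QuotientGroup.mk_pow, pow_orderOf_eq_one]
      rfl
    rw [hord] at this
    simpa using this
  have hpos : orderOf h ≠ 0 := (orderOf_pos h).ne'
  have hw := orderOf_pow_orderOf_div hpos hdvd
  set w := h ^ (orderOf h / 9) with hwdef
  have hw9 : w ^ 9 = 1 := by rw [← hw]; exact pow_orderOf_eq_one w
  have hw9' : (w : GL (Fin 5) (ZMod 2)) ^ 9 = 1 := by
    rw [← Subgroup.coe_pow, hw9]; rfl
  have hw3' := no_order9 _ hw9'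
  have hw3 : w ^ 3 = 1 := by
    apply Subtype.ext
    rw [Subgroup.coe_pow, hw3']; rfl
  have := orderOf_dvd_of_pow_eq_one hw3
  rw [hw] at this
  omega

section f8

variable {F : Type*} [Field F]

theorem two_eq_zero_of_card [Fintype F] {n : ℕ} (hF : Fintype.card F = 2 ^ n) : (2 : F) = 0 := by
  have h := Nat.cast_card_eq_zero F
  rw [hF] at h
  push_cast at h
  exact pow_eq_zero_iff (by rintro rfl; simp at hF; exact absurd hF (by
    have := Fintype.one_lt_card (α := F); omega)) |>.mp h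

theorem exists_root [Fintype F] (hF : Fintype.card F = 8) : ∃ t : F, t ^ 3 + t + 1 = 0 := by
  have h2 : (2 : F) = 0 := two_eq_zero_of_card (n := 3) (by rw [hF]; norm_num)
  have hex : ∃ u : F, u ≠ 0 ∧ u ≠ 1 := by
    classical
    by_contra hcon
    push Not at hcon
    have hsub : (Finset.univ : Finset F) ⊆ {0, 1} := by
      intro u _
      by_cases hu : u = 0
      · simp [hu]
      · simp [hcon u hu]
    have := Finset.card_le_card hsub
    rw [Finset.card_univ, hF] at this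
    have h3 : ({0, 1} : Finset F).card ≤ 2 := Finset.card_le_two
    omega
  obtain ⟨u, hu0, hu1⟩ := hex
  have hu7 : u ^ 7 = 1 := by
    have := FiniteField.pow_card_sub_one_eq_one u hu0
    rwa [hF] at this
  have hprod : (u + 1) * ((u ^ 3 + u + 1) * (u ^ 3 + u ^ 2 + 1)) = 0 := by
    linear_combination hu7 + (u ^ 6 + u ^ 5 + 2 * u ^ 4 + 2 * u ^ 3 + u ^ 2 + u + 1) * h2
  have hu1' : u + 1 ≠ 0 := by
    intro h
    apply hu1
    linear_combination h - h2
  rcases mul_eq_zero.mp ((mul_eq_zero.mp hprod).resolve_left hu1') with h | h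
  · exact ⟨u, h⟩
  · refine ⟨u + 1, ?_⟩
    linear_combination h + (u ^ 2 + 2 * u + 1) * h2

theorem mat_pow9 (t : F) (h2 : (2 : F) = 0) (ht : t ^ 3 + t + 1 = 0) :
    (!![0, 1; 1, t] : Matrix (Fin 2) (Fin 2) F) ^ 3 = !![t, t ^ 2 + 1; t ^ 2 + 1, t + 1] ∧
    (!![0, 1; 1, t] : Matrix (Fin 2) (Fin 2) F) ^ 9 = 1 := by
  have h3 : (!![0, 1; 1, t] : Matrix (Fin 2) (Fin 2) F) ^ 3 = !![t, t ^ 2 + 1; t ^ 2 + 1, t + 1] := by
    rw [pow_succ, pow_two]
    simp only [Matrix.mul_fin_two]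
    ext i j
    fin_cases i <;> fin_cases j <;> simp <;> grind
  refine ⟨h3, ?_⟩
  have : (9 : ℕ) = 3 * 3 := rfl
  rw [this, pow_mul, h3, pow_succ, pow_two]
  simp only [Matrix.mul_fin_two, Matrix.one_fin_two]
  ext i j
  fin_cases i <;> fin_cases j <;> simp <;> grind

open Cfsg.Agent.Lib.Helper5 in
theorem exists_order9 (t : F) (h2 : (2 : F) = 0) (ht : t ^ 3 + t + 1 = 0) :
    ∃ y : Matrix.ProjectiveSpecialLinearGroup (Fin 2) F, y ^ 9 = 1 ∧ y ^ 3 ≠ 1 := by
  obtain ⟨h3, h9⟩ := mat_pow9 t h2 ht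
  have hdet : (!![0, 1; 1, t] : Matrix (Fin 2) (Fin 2) F).det = 1 := by
    rw [Matrix.det_fin_two_of]
    linear_combination (-1 : F) * h2
  let M : Matrix.SpecialLinearGroup (Fin 2) F := ⟨!![0, 1; 1, t], hdet⟩
  have hM9 : M ^ 9 = 1 := by
    apply Subtype.ext
    rw [Matrix.SpecialLinearGroup.coe_pow]
    exact h9
  have hM3 : M ^ 3 ≠ 1 := by
    intro h
    have h' := congrArg Subtype.val h
    rw [Matrix.SpecialLinearGroup.coe_pow] at h'
    change (!![0, 1; 1, t] : Matrix (Fin 2) (Fin 2) F) ^ 3 = 1 at h'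
    rw [h3] at h'
    have h01 := congrFun (congrFun h' 0) 1
    simp at h01
    have ht1 : (t + 1) ^ 2 = 0 := by linear_combination h01 + t * h2
    have ht1' : t + 1 = 0 := pow_eq_zero_iff (by norm_num) |>.mp ht1
    have : (1 : F) = 0 := by
      have e : t = 1 := by linear_combination ht1' - h2
      rw [e] at ht
      linear_combination ht - h2
    exact one_ne_zero this
  refine ⟨QuotientGroup.mk M, ?_, ?_⟩
  · rw [← QuotientGroup.mk_pow, hM9]; rfl
  · rw [← QuotientGroup.mk_pow]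
    intro h
    have := (QuotientGroup.eq_one_iff _).mp h
    rw [center_SL2_eq_bot_of_two_eq_zero h2, Subgroup.mem_bot] at this
    exact hM3 this

end f8

theorem card_GL52 : Nat.card (GL (Fin 5) (ZMod 2)) = 9999360 := by
  rw [Matrix.card_GL_field, ZMod.card]
  simp [Fin.prod_univ_succ]

theorem card_section_dvd {H : Subgroup (GL (Fin 5) (ZMod 2))} (K : Subgroup ↥H) [K.Normal] :
    Nat.card (↥H ⧸ K) ∣ 9999360 := by
  rw [← card_GL52]
  exact dvd_trans (Subgroup.card_quotient_dvd_card K) (Subgroup.card_subgroup_dvd_card H)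

theorem psl_arith (n : ℕ) (hn : 2 ≤ n) (h : 2 ^ n * ((2 ^ n) ^ 2 - 1) ∣ 9999360) :
    n = 2 ∨ n = 3 := by
  have hn10 : n ≤ 10 := by
    by_contra hcon
    push Not at hcon
    have h1 : 2 ^ 11 ∣ 2 ^ n := pow_dvd_pow 2 hcon
    have h2 : 2 ^ 11 ∣ 9999360 := dvd_trans h1 (dvd_trans (dvd_mul_right _ _) h)
    norm_num at h2
  interval_cases n
  · left; rfl
  · right; rfl
  all_goals (exfalso; norm_num at h)

theorem sz_arith (m : ℕ) (hm : 1 ≤ m)
    (h : (2 ^ (2 * m + 1)) ^ 2 * ((2 ^ (2 * m + 1)) ^ 2 + 1) * (2 ^ (2 * m + 1) - 1) ∣ 9999360) :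
    False := by
  have hm2 : m ≤ 2 := by
    by_contra hcon
    push Not at hcon
    have h1 : 2 ^ 11 ∣ (2 ^ (2 * m + 1)) ^ 2 := by
      rw [← pow_mul]; exact pow_dvd_pow 2 (by omega)
    have h2 : 2 ^ 11 ∣ 9999360 :=
      dvd_trans h1 (dvd_trans (dvd_trans (dvd_mul_right _ _) (dvd_mul_right _ _)) h)
    norm_num at h2
  interval_cases m <;> norm_num at h

theorem psu_arith (n N : ℕ) (hn : 2 ≤ n) (hN : N ∣ 9999360)
    (h : N * Nat.gcd 3 (2 ^ n + 1) = (2 ^ n) ^ 3 * (((2 ^ n) ^ 2 - 1) * ((2 ^ n) ^ 3 + 1))) :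
    False := by
  have hg : Nat.gcd 3 (2 ^ n + 1) ∣ 3 := Nat.gcd_dvd_left _ _
  have hn3 : n ≤ 3 := by
    by_contra hcon
    push Not at hcon
    have h1 : 2 ^ 12 ∣ (2 ^ n) ^ 3 := by
      rw [← pow_mul]; exact pow_dvd_pow 2 (by omega)
    have h2 : 2 ^ 12 ∣ N * Nat.gcd 3 (2 ^ n + 1) := by
      rw [h]; exact dvd_trans h1 (dvd_mul_right _ _)
    have h3 : 2 ^ 12 ∣ 9999360 * 3 := dvd_trans h2 (Nat.mul_dvd_mul hN hg)
    norm_num at h3
  interval_cases n
  · norm_num at h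
    rw [h] at hN
    norm_num at hN
  · norm_num at h
    have : N = 5515776 := by omega
    rw [this] at hN
    norm_num at hN

section psu
open Cfsg.Agent.Lib.Helper5

/-- the order formula for `PSU(3, 2^n)` (as in helper5's S1141). -/
theorem card_PSU3_mul {F : Type*} [Field F] [Fintype F] {n : ℕ}
    (hF : Fintype.card F = (2 ^ n) ^ 2) :
    Nat.card (Cfsg.PSU 3 F (2 ^ n)) * Nat.gcd 3 (2 ^ n + 1) =
      (2 ^ n) ^ 3 * (((2 ^ n) ^ 2 - 1) * ((2 ^ n) ^ 3 + 1)) := by
  have h1 := Subgroup.card_eq_card_quotient_mul_card_subgroup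
    (Subgroup.center (Cfsg.SU 3 F (2 ^ n)))
  rw [card_center_SU hF (by norm_num)] at h1
  have h3 := card_SU_mul hF (by omega : 1 ≤ 3)
  rw [h1, card_GU hF 3] at h3
  change (2 ^ n + 1) * (Nat.card (Cfsg.PSU 3 F (2 ^ n)) * Nat.gcd 3 (2 ^ n + 1)) = _ at h3
  simp [Finset.prod_range_succ] at h3
  have hpos : 0 < 2 ^ n + 1 := by positivity
  apply Nat.eq_of_mul_eq_mul_left hpos
  rw [h3]
  ring

end psu

/-- Let X be a section of the general linear group GL(5, 2), ... -/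
theorem result {H : Subgroup (GL (Fin 5) (ZMod 2))}
    {K : Subgroup ↥H} [K.Normal]
    (hX : (∃ (n : ℕ) (F : Type) (_ : Field F) (_ : Fintype F), 2 ≤ n ∧ Fintype.card F = 2 ^ n ∧
        Nonempty (↥H ⧸ K ≃* Matrix.ProjectiveSpecialLinearGroup (Fin 2) F)) ∨
      (∃ (m : ℕ) (F : Type) (_ : Field F) (_ : Fintype F), 1 ≤ m ∧ Fintype.card F = 2 ^ (2 * m + 1) ∧
        Nonempty (↥H ⧸ K ≃* ↥(Cfsg.Lie.Sz F (2 ^ (m + 1))))) ∨
      (∃ (n : ℕ) (F : Type) (_ : Field F) (_ : Fintype F), 2 ≤ n ∧ Fintype.card F = 4 ^ n ∧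
        Nonempty (↥H ⧸ K ≃* Cfsg.PSU 3 F (2 ^ n)))) :
    ∃ (F : Type) (_ : Field F) (_ : Fintype F), Fintype.card F = 4 ∧
      Nonempty (↥H ⧸ K ≃* Matrix.ProjectiveSpecialLinearGroup (Fin 2) F) := by
  have hdvd := card_section_dvd K
  rcases hX with ⟨n, F, iF, iFin, hn, hF, ⟨φ⟩⟩ | ⟨m, F, iF, iFin, hm, hF, ⟨φ⟩⟩ |
    ⟨n, F, iF, iFin, hn, hF, ⟨φ⟩⟩
  · -- PSL(2, 2^n)
    have h2 : (2 : F) = 0 := two_eq_zero_of_card hF
    have hcard := Cfsg.Agent.Lib.Helper5.card_PSL2_mul (F := F)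
    rw [Cfsg.Agent.Lib.Helper5.center_SL2_eq_bot_of_two_eq_zero h2, Subgroup.card_bot, mul_one,
      hF] at hcard
    rw [Nat.card_congr φ.toEquiv, hcard] at hdvd
    rcases psl_arith n hn hdvd with rfl | rfl
    · exact ⟨F, iF, iFin, by rw [hF]; norm_num, ⟨φ⟩⟩
    · exfalso
      obtain ⟨t, ht⟩ := exists_root (F := F) (by rw [hF]; norm_num)
      obtain ⟨y, hy9, hy3⟩ := exists_order9 t h2 ht
      exact no_order9_section φ y hy9 hy3
  · -- Sz
    exfalso
    have hcard := Cfsg.Agent.Lib.Helper95.card_lieSz hm hF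
    rw [Nat.card_congr φ.toEquiv, hcard] at hdvd
    exact sz_arith m hm hdvd
  · -- PSU(3, 2^n)
    exfalso
    have hF' : Fintype.card F = (2 ^ n) ^ 2 := by
      rw [hF, ← pow_mul, mul_comm, pow_mul]; norm_num
    have hcard := card_PSU3_mul hF'
    rw [Nat.card_congr φ.toEquiv] at hdvd
    exact psu_arith n _ hn hdvd hcard

end Cfsg.Agent.S3179
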