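import Cfsg.Statements.S3180
import Mathlib

set_option autoImplicit false
open Cfsg

namespace Cfsg.Agent.S3180

/-- every `p`-subgroup is conjugate into a given Sylow `p`-subgroup (elementwise form). -/
theorem exists_conj_mem_sylow {J : Type*} [Group J] [Finite J] {p : ℕ} [Fact p.Prime]
    (P : Sylow p J) (R : Subgroup J) (hR : IsPGroup p R) :
    ∃ k : J, ∀ r ∈ R, k⁻¹ * r * k ∈ (P : Subgroup J) := by
  obtain ⟨Q, hQ⟩ := hR.exists_le_sylow
  obtain ⟨k, hk⟩ := MulAction.exists_smul_eq J P Q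
  refine ⟨k, fun r hr => ?_⟩
  have h1 : r ∈ (Q : Subgroup J) := hQ hr
  rw [← hk, Sylow.coe_subgroup_smul, Subgroup.mem_pointwise_smul_iff_inv_smul_mem] at h1
  simpa [MulAut.smul_def, MulAut.conj_apply] using h1

theorem mem_normalizer_of_map_conj_eq {J : Type*} [Group J] (W : Subgroup J) (g : J)
    (h : W.map (MulAut.conj g).toMonoidHom = W) : g ∈ Subgroup.normalizer (W : Set J) := by
  rw [Subgroup.mem_normalizer_iff]
  intro x
  constructor
  · intro hx
    rw [← h]
    exact ⟨x, hx, rfl⟩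
  · intro hx
    rw [← h] at hx
    obtain ⟨w, hw, hwx⟩ := hx
    have : w = x := by
      have h2 : g * w * g⁻¹ = g * x * g⁻¹ := by simpa using hwx
      have h3 := mul_right_cancel h2
      exact mul_left_cancel h3
    rwa [← this]

theorem weaklyClosed_mem_normalizer {J : Type*} [Group J] {W P : Subgroup J}
    (hW : Cfsg.IsWeaklyClosed W P) (g : J) (h : ∀ w ∈ W, g * w * g⁻¹ ∈ P) :
    g ∈ Subgroup.normalizer (W : Set J) := by
  apply mem_normalizer_of_map_conj_eq
  apply hW.2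
  rintro _ ⟨w, hw, rfl⟩
  simpa using h w hw


/-- Let P be a Sylow p-subgroup of a finite group J and P₁ a subgroup of P that is weakly closed in P with respect to J. If J acts on a set and two points, each fixed by every element of P₁, lie in one J-orbit, then they lie in one orbit of the normalizer of P₁ in J. -/
theorem result {J : Type*} [Group J] [Finite J]
    {p : ℕ} [Fact p.Prime] (P : Sylow p J) (P₁ : Subgroup J) (hW : Cfsg.IsWeaklyClosed P₁ (P : Subgroup J))
    {Ω : Type*} [MulAction J Ω] (x y : Ω) (hx : ∀ g ∈ P₁, g • x = x) (hy : ∀ g ∈ P₁, g • y = y)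
    (hc : ∃ g : J, g • x = y) :
    ∃ g ∈ Subgroup.normalizer (P₁ : Set J), g • x = y := by
  obtain ⟨g, hg⟩ := hc
  have hP₁ : IsPGroup p P₁ := P.2.to_le hW.1
  set St := MulAction.stabilizer J x with hSt
  have hP₁St : P₁ ≤ St := fun w hw => by
    rw [hSt, MulAction.mem_stabilizer_iff]; exact hx w hw
  have hconjSt : ∀ w ∈ P₁, g⁻¹ * w * g ∈ St := fun w hw => by
    rw [hSt, MulAction.mem_stabilizer_iff, mul_smul, mul_smul, hg, hy w hw, ← hg, inv_smul_smul]
  -- the two p-subgroups of the stabilizer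
  have hA : IsPGroup p (P₁.subgroupOf St) := hP₁.comap_subtype
  let B' : Subgroup J := P₁.map (MulAut.conj g⁻¹).toMonoidHom
  have hB' : IsPGroup p B' := hP₁.map _
  have hB : IsPGroup p (B'.subgroupOf St) := hB'.comap_subtype
  obtain ⟨QA, hQA⟩ := hA.exists_le_sylow
  obtain ⟨h, hh⟩ := exists_conj_mem_sylow QA (B'.subgroupOf St) hB
  -- push QA to J
  have hQJ : IsPGroup p ((QA : Subgroup St).map St.subtype) := QA.2.map _
  obtain ⟨k, hk⟩ := exists_conj_mem_sylow P _ hQJ
  have h1 : k⁻¹ ∈ Subgroup.normalizer (P₁ : Set J) := by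
    apply weaklyClosed_mem_normalizer hW
    intro w hw
    have : w ∈ (QA : Subgroup St).map St.subtype :=
      ⟨⟨w, hP₁St hw⟩, hQA (by simpa [Subgroup.mem_subgroupOf] using hw), rfl⟩
    simpa using hk w this
  have h2 : k⁻¹ * (h : J)⁻¹ * g⁻¹ ∈ Subgroup.normalizer (P₁ : Set J) := by
    apply weaklyClosed_mem_normalizer hW
    intro w hw
    have hb : (⟨g⁻¹ * w * g, hconjSt w hw⟩ : St) ∈ B'.subgroupOf St := by
      rw [Subgroup.mem_subgroupOf]
      exact ⟨w, hw, by simp⟩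
    have h3 := hh _ hb
    have h4 : ((h⁻¹ * ⟨g⁻¹ * w * g, hconjSt w hw⟩ * h : St) : J) ∈ (QA : Subgroup St).map St.subtype :=
      ⟨_, h3, rfl⟩
    have h5 := hk _ h4
    have h6 : k⁻¹ * (h : J)⁻¹ * g⁻¹ * w * (k⁻¹ * (h : J)⁻¹ * g⁻¹)⁻¹ =
        k⁻¹ * ((h⁻¹ * ⟨g⁻¹ * w * g, hconjSt w hw⟩ * h : St) : J) * k := by
      simp only [Subgroup.coe_mul, Subgroup.coe_inv]
      group
    rw [h6]; exact h5
  have h3 : g * (h : J) ∈ Subgroup.normalizer (P₁ : Set J) := by
    have h4 := (Subgroup.normalizer (P₁ : Set J)).mul_mem ((Subgroup.normalizer (P₁ : Set J)).inv_mem h2) h1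
    have h5 : (k⁻¹ * (h : J)⁻¹ * g⁻¹)⁻¹ * k⁻¹ = g * (h : J) := by group
    rwa [h5] at h4
  refine ⟨g * (h : J), h3, ?_⟩
  rw [mul_smul]
  have : (h : J) • x = x := MulAction.mem_stabilizer_iff.mp h.2
  rw [this, hg]

end Cfsg.Agent.S3180
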