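import Cfsg.Statements.S3183
import Mathlib

set_option autoImplicit false
open Cfsg

namespace Cfsg.Agent.S3183

/-- every `p`-subgroup is conjugate into a given Sylow `p`-subgroup (elementwise form). -/
theorem exists_conj_mem_sylow {J : Type*} [Group J] [Finite J] {p : ℕ} [Fact p.Prime]
    (P : Sylow p J) (R : Subgroup J) (hR : IsPGroup p R) :
    ∃ k : J, ∀ r ∈ R, k⁻¹ * r * k ∈ (P : Subgroup J) := by
  obtain ⟨Q, hQ⟩ := hR.exists_le_sylow
  obtain ⟨k, hk⟩ := MulAction.exists_smul_eq J P Q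
  refine ⟨k, fun r hr => ?_⟩
  have h1 : r ∈ (Q : Subgroup J) := hQ hr
  rw [← hk, Sylow.coe_subgroup_smul, Subgroup.mem_pointwise_smul_iff_inv_smul_mem] at h1
  simpa [MulAut.smul_def, MulAut.conj_apply] using h1

/-- relative version: if a Sylow subgroup `U` of `G` lies in `H`, every `p`-subgroup of `H` is
`H`-conjugate into `U`. -/
theorem exists_conj_mem_sylow_of_le {J : Type*} [Group J] [Finite J] {p : ℕ} [Fact p.Prime]
    (U : Sylow p J) (H : Subgroup J) (hUH : (U : Subgroup J) ≤ H) (D : Subgroup J) (hDH : D ≤ H)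
    (hD : IsPGroup p D) :
    ∃ c ∈ H, ∀ d ∈ D, c⁻¹ * d * c ∈ (U : Subgroup J) := by
  obtain ⟨k, hk⟩ := exists_conj_mem_sylow (U.subtype hUH) (D.subgroupOf H) hD.comap_subtype
  refine ⟨k, k.2, fun d hd => ?_⟩
  have := hk ⟨d, hDH hd⟩ (by simpa [Subgroup.mem_subgroupOf] using hd)
  rw [Sylow.coe_subtype, Subgroup.mem_subgroupOf] at this
  simpa using this

theorem exists_normalizer_of_lt {G : Type*} [Group G] {p : ℕ} [Fact p.Prime] {T Q : Subgroup G}
    [Finite Q] (hQ : IsPGroup p Q) (hlt : T < Q) :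
    ∃ n ∈ Q, n ∈ Subgroup.normalizer (T : Set G) ∧ n ∉ T := by
  have : Group.IsNilpotent Q := hQ.isNilpotent
  have hnc := Group.normalizerCondition_of_isNilpotent (G := Q)
  have hT' : T.subgroupOf Q < ⊤ := by
    rw [lt_top_iff_ne_top]
    intro h
    rw [Subgroup.subgroupOf_eq_top] at h
    exact absurd (le_antisymm hlt.le h) hlt.ne
  have h1 := hnc _ hT'
  obtain ⟨n, hn1, hn2⟩ := SetLike.exists_of_lt h1
  refine ⟨n, n.2, ?_, ?_⟩
  · rw [Subgroup.mem_normalizer_iff]
    intro x
    rw [Subgroup.mem_normalizer_iff] at hn1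
    constructor
    · intro hx
      have hxQ : x ∈ Q := hlt.le hx
      have := (hn1 ⟨x, hxQ⟩).mp (by simpa [Subgroup.mem_subgroupOf] using hx)
      simpa [Subgroup.mem_subgroupOf] using this
    · intro hx
      have hxQ : x ∈ Q := by
        have h2 : (n:G) * x * (n:G)⁻¹ ∈ Q := hlt.le hx
        have : x = (n:G)⁻¹ * ((n:G) * x * (n:G)⁻¹) * (n:G) := by group
        rw [this]
        exact Q.mul_mem (Q.mul_mem (Q.inv_mem n.2) h2) n.2
      have := (hn1 ⟨x, hxQ⟩).mpr (by simpa [Subgroup.mem_subgroupOf] using hx)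
      simpa [Subgroup.mem_subgroupOf] using this
  · simpa [Subgroup.mem_subgroupOf] using hn2

/-- membership in the image of the centre of a subgroup -/
theorem mem_center_map_iff {G : Type*} [Group G] (U : Subgroup G) (x : G) :
    x ∈ (Subgroup.center U).map U.subtype ↔ x ∈ U ∧ ∀ u ∈ U, u * x = x * u := by
  constructor
  · rintro ⟨z, hz, rfl⟩
    refine ⟨z.2, fun u hu => ?_⟩
    have := Subgroup.mem_center_iff.mp hz ⟨u, hu⟩
    exact congrArg Subtype.val this
  · rintro ⟨hxU, hx⟩
    refine ⟨⟨x, hxU⟩, ?_, rfl⟩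
    apply Subgroup.mem_center_iff.mpr
    intro u
    exact Subtype.ext (hx u u.2)

/-- Key lemma: an element lying in two distinct Sylow 2-subgroups is central in each. -/
theorem key {G : Type*} [Group G] [Finite G]
    (hCI : ∀ S T : Sylow 2 G, S ≠ T → ∃ U : Sylow 2 G,
      (S : Subgroup G) ⊓ (T : Subgroup G) ≤ (Subgroup.center ↥(U : Subgroup G)).map (U : Subgroup G).subtype)
    (S T : Sylow 2 G) (hST : S ≠ T) (x : G) (hxS : x ∈ (S : Subgroup G)) (hxT : x ∈ (T : Subgroup G)) :
    ∀ s ∈ (S : Subgroup G), s * x = x * s := by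
  haveI : Fact (Nat.Prime 2) := ⟨Nat.prime_two⟩
  by_contra hcon
  push Not at hcon
  obtain ⟨s₀, hs₀S, hs₀⟩ := hcon
  set Cx := Subgroup.centralizer ({x} : Set G) with hCx
  have hmemC : ∀ y, y ∈ Cx ↔ y * x = x * y := fun y => Subgroup.mem_centralizer_singleton_iff
  set D : Subgroup G := (S : Subgroup G) ⊓ Cx with hD
  have hDS : D ≤ (S : Subgroup G) := inf_le_left
  have hDp : IsPGroup 2 D := S.2.to_le hDS
  have hxD : x ∈ D := ⟨hxS, (hmemC x).mpr rfl⟩
  have hs₀D : s₀ ∉ D := fun h => hs₀ ((hmemC s₀).mp h.2)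
  have hDlt : D < (S : Subgroup G) := lt_of_le_of_ne hDS (fun h => hs₀D (h ▸ hs₀S))
  obtain ⟨U, hU⟩ := hCI S T hST
  have hxU := (mem_center_map_iff _ _).mp (hU ⟨hxS, hxT⟩)
  have hUC : (U : Subgroup G) ≤ Cx := fun u hu => (hmemC u).mpr (hxU.2 u hu)
  obtain ⟨c, hcC, hc⟩ := exists_conj_mem_sylow_of_le U Cx hUC D inf_le_right hDp
  have hcx : c * x = x * c := (hmemC c).mp hcC
  -- R = c • U
  set R : Sylow 2 G := c • U with hR
  have hmemR : ∀ y, y ∈ (R : Subgroup G) ↔ c⁻¹ * y * c ∈ (U : Subgroup G) := by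
    intro y
    rw [hR, Sylow.coe_subgroup_smul, Subgroup.mem_pointwise_smul_iff_inv_smul_mem]
    simp [MulAut.smul_def]
  have hDR : D ≤ (R : Subgroup G) := fun d hd => (hmemR d).mpr (hc d hd)
  have hRS : S ≠ R := by
    intro h
    apply hs₀
    -- x central in R = S
    have h1 : c⁻¹ * s₀ * c ∈ (U : Subgroup G) := (hmemR s₀).mp (h ▸ hs₀S)
    have h2 := hxU.2 _ h1
    -- (c⁻¹ s₀ c) x = x (c⁻¹ s₀ c), and c commutes with x
    have hcx' : c⁻¹ * x = x * c⁻¹ := by
      have : c⁻¹ * x * c = x := by rw [mul_assoc, ← hcx]; group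
      calc c⁻¹ * x = (c⁻¹ * x * c) * c⁻¹ := by group
        _ = x * c⁻¹ := by rw [this]
    calc s₀ * x = s₀ * (c * x * c⁻¹) := by rw [hcx]; group
      _ = c * ((c⁻¹ * s₀ * c) * x) * c⁻¹ := by group
      _ = c * (x * (c⁻¹ * s₀ * c)) * c⁻¹ := by rw [h2]
      _ = (c * x) * c⁻¹ * s₀ := by group
      _ = x * s₀ := by rw [hcx]; group
  obtain ⟨U', hU'⟩ := hCI S R hRS
  have hDZ : ∀ d ∈ D, d ∈ (U' : Subgroup G) ∧ ∀ u ∈ (U' : Subgroup G), u * d = d * u := fun d hd =>
    (mem_center_map_iff _ _).mp (hU' ⟨hDS hd, hDR hd⟩)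
  obtain ⟨n, hnS, hnN, hnD⟩ := exists_normalizer_of_lt S.2 hDlt
  set M := Subgroup.normalizer (D : Set G) with hM
  have hU'M : (U' : Subgroup G) ≤ M := by
    intro u hu
    rw [hM, Subgroup.mem_normalizer_iff]
    intro d
    constructor
    · intro hd
      have := (hDZ d hd).2 u hu
      rw [this]; simpa using hd
    · intro hd
      have h1 := (hDZ _ hd).2 u hu
      have h2 : u * d = d * u := by
        have : u * (u * d * u⁻¹) = u * d * u⁻¹ * u := h1
        have h3 : u * d * u⁻¹ * u = u * d := by group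
        rw [h3] at this
        have h4 := mul_left_cancel (a := u) (b := u * d * u⁻¹) (c := d) (by rw [this])
        calc u * d = (u * d * u⁻¹) * u := by group
          _ = d * u := by rw [h4]
      have : u * d * u⁻¹ = d := by rw [h2]; group
      rwa [this] at hd
  have hnp : IsPGroup 2 (Subgroup.zpowers n) := S.2.to_le (by rw [Subgroup.zpowers_le]; exact hnS)
  obtain ⟨m, hmM, hm⟩ := exists_conj_mem_sylow_of_le U' M hU'M (Subgroup.zpowers n)
    (by rw [Subgroup.zpowers_le]; exact hnN) hnp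
  have hn' : m⁻¹ * n * m ∈ (U' : Subgroup G) := hm n (Subgroup.mem_zpowers n)
  -- m⁻¹ x m ∈ D
  have hx' : m⁻¹ * x * m ∈ D := by
    have hmi : m⁻¹ ∈ M := M.inv_mem hmM
    rw [hM, Subgroup.mem_normalizer_iff] at hmi
    have := (hmi x).mp hxD
    simpa using this
  have hcomm := (hDZ _ hx').2 _ hn'
  have hnx : n * x = x * n := by
    have h1 : m⁻¹ * n * m * (m⁻¹ * x * m) = m⁻¹ * (n * x) * m := by group
    have h2 : m⁻¹ * x * m * (m⁻¹ * n * m) = m⁻¹ * (x * n) * m := by group
    rw [h1, h2] at hcomm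
    exact mul_left_cancel (mul_right_cancel hcomm)
  exact hnD ⟨hnS, (hmemC n).mpr hnx⟩


/-- Let G be a finite group in which the intersection of any two distinct Sylow 2-subgroups is contained in the centre of some Sylow 2-subgroup, and let S be a Sylow 2-subgroup. Then for every x in S the centralizer of x in S is a Sylow 2-subgroup of the centralizer of x in G (no 2-subgroup centralizing x is larger), and for every other Sylow 2-subgroup T the intersection S ∩ T lies in both the centre of S and the centre of T. -/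
theorem result {G : Type*} [Group G] [Finite G]
    (hCI : ∀ S T : Sylow 2 G, S ≠ T → ∃ U : Sylow 2 G,
      (S : Subgroup G) ⊓ (T : Subgroup G) ≤ (Subgroup.center ↥(U : Subgroup G)).map (U : Subgroup G).subtype)
    (S : Sylow 2 G) :
    (∀ x ∈ (S : Subgroup G), ∀ P : Subgroup G, IsPGroup 2 ↥P → P ≤ Subgroup.centralizer ({x} : Set G) →
        Nat.card ↥P ≤ Nat.card ↥((S : Subgroup G) ⊓ Subgroup.centralizer ({x} : Set G))) ∧
    (∀ T : Sylow 2 G, T ≠ S →
        (S : Subgroup G) ⊓ (T : Subgroup G) ≤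
          (Subgroup.center ↥(S : Subgroup G)).map (S : Subgroup G).subtype ⊓
            (Subgroup.center ↥(T : Subgroup G)).map (T : Subgroup G).subtype) := by
  haveI : Fact (Nat.Prime 2) := ⟨Nat.prime_two⟩
  refine ⟨?_, ?_⟩
  · intro x hxS P hP hPC
    by_cases hx : ∀ s ∈ (S : Subgroup G), s * x = x * s
    · have hSC : (S : Subgroup G) ≤ Subgroup.centralizer ({x} : Set G) := fun s hs => by
        rw [Subgroup.mem_centralizer_singleton_iff]; exact hx s hs
      rw [inf_of_le_left hSC]
      obtain ⟨Q, hQ⟩ := hP.exists_le_sylow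
      calc Nat.card P ≤ Nat.card (Q : Subgroup G) := Subgroup.card_le_of_le hQ
        _ = Nat.card (S : Subgroup G) := by
          rw [Sylow.card_eq_multiplicity, Sylow.card_eq_multiplicity]
    · have hP2 : IsPGroup 2 (P ⊔ Subgroup.zpowers x : Subgroup G) := by
        apply IsPGroup.to_sup_of_normal_right' hP (S.2.to_le (by rw [Subgroup.zpowers_le]; exact hxS))
        intro y hy
        rw [Subgroup.mem_normalizer_iff]
        intro h
        have hyx : y * x = x * y := by
          have := hPC hy; rwa [Subgroup.mem_centralizer_singleton_iff] at this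
        have hcomm : ∀ h ∈ Subgroup.zpowers x, y * h * y⁻¹ = h := by
          intro h hh
          obtain ⟨k, rfl⟩ := Subgroup.mem_zpowers_iff.mp hh
          have : Commute y (x ^ k) := (show Commute y x from hyx).zpow_right k
          rw [this.eq]; group
        constructor
        · intro hh; rw [hcomm h hh]; exact hh
        · intro hh
          have h1 := hcomm _ hh
          have : y * h * y⁻¹ = h := by
            have h2 : y * (y * h * y⁻¹) * y⁻¹ = y * h * y⁻¹ := h1
            have h3 := mul_right_cancel h2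
            exact mul_left_cancel (a := y) (by rw [h3])
          rwa [this] at hh
      obtain ⟨T, hT⟩ := hP2.exists_le_sylow
      have hxT : x ∈ (T : Subgroup G) := hT ((le_sup_right : Subgroup.zpowers x ≤ _) (Subgroup.mem_zpowers x))
      by_cases hTS : S = T
      · apply Subgroup.card_le_of_le
        intro y hy
        exact ⟨hTS ▸ hT ((le_sup_left : P ≤ _) hy), hPC hy⟩
      · exact absurd (key hCI S T hTS x hxS hxT) hx
  · intro T hTS x hx
    refine ⟨?_, ?_⟩
    · exact (mem_center_map_iff _ _).mpr ⟨hx.1, key hCI S T (Ne.symm hTS) x hx.1 hx.2⟩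
    · exact (mem_center_map_iff _ _).mpr ⟨hx.2, key hCI T S hTS x hx.2 hx.1⟩

end Cfsg.Agent.S3183
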