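import Cfsg.Statements.S3190
import Mathlib

set_option autoImplicit false
open Cfsg

namespace Cfsg.Agent.S3190

/-- membership in the image of the centre of a subgroup -/
theorem mem_center_map_iff {G : Type*} [Group G] (U : Subgroup G) (x : G) :
    x ∈ (Subgroup.center U).map U.subtype ↔ x ∈ U ∧ ∀ u ∈ U, u * x = x * u := by
  constructor
  · rintro ⟨z, hz, rfl⟩
    refine ⟨z.2, fun u hu => ?_⟩
    have := Subgroup.mem_center_iff.mp hz ⟨u, hu⟩
    exact congrArg Subtype.val this
  · rintro ⟨hxU, hx⟩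
    refine ⟨⟨x, hxU⟩, ?_, rfl⟩
    apply Subgroup.mem_center_iff.mpr
    intro u
    exact Subtype.ext (hx u u.2)

/-- a nontrivial normal subgroup of a finite `p`-group contains a nontrivial central element -/
theorem normal_inf_center_ne_bot {P : Type*} [Group P] [Finite P] {p : ℕ} [Fact p.Prime]
    (hP : IsPGroup p P) (N : Subgroup P) [N.Normal] (hN : N ≠ ⊥) :
    ∃ w ∈ N, w ≠ 1 ∧ ∀ g : P, g * w = w * g := by
  have hfix := (hP.of_equiv ConjAct.toConjAct).exists_fixed_point_of_prime_dvd_card_of_fixed_point N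
  have hNp : IsPGroup p N := hP.to_subgroup N
  have hnt : Nontrivial N := (Subgroup.nontrivial_iff_ne_bot N).mpr hN
  have dvd : p ∣ Nat.card N := by
    obtain ⟨n, hn0, hn⟩ := hNp.nontrivial_iff_card.mp hnt
    exact hn.symm ▸ dvd_pow_self _ (ne_of_gt hn0)
  have h1 : (1 : N) ∈ MulAction.fixedPoints (ConjAct P) N := by
    intro g
    exact smul_one g
  obtain ⟨b, hb, hb1⟩ := hfix dvd h1
  refine ⟨b, b.2, fun h => hb1 (Subtype.ext h.symm), fun g => ?_⟩
  have := hb (ConjAct.toConjAct g)
  have h2 : g * (b : P) * g⁻¹ = b := congrArg Subtype.val this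
  calc g * b = (g * b * g⁻¹) * g := by group
    _ = b * g := by rw [h2]

/-- relative version inside an ambient group -/
theorem exists_central_of_normalized {X : Type*} [Group X] {p : ℕ} [Fact p.Prime]
    (P W : Subgroup X) [Finite P] (hP : IsPGroup p P) (hWP : W ≤ P)
    (hnorm : P ≤ Subgroup.normalizer (W : Set X)) (hW : W ≠ ⊥) :
    ∃ w ∈ W, w ≠ 1 ∧ ∀ g ∈ P, g * w = w * g := by
  haveI : (W.subgroupOf P).Normal := (Subgroup.normal_subgroupOf_iff_le_normalizer hWP).mpr hnorm
  have hne : W.subgroupOf P ≠ ⊥ := by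
    intro h
    apply hW
    rw [Subgroup.subgroupOf_eq_bot] at h
    rw [← inf_of_le_left hWP]
    exact disjoint_iff.mp h
  obtain ⟨w, hw, hw1, hwc⟩ := normal_inf_center_ne_bot hP (W.subgroupOf P) hne
  refine ⟨w, by simpa [Subgroup.mem_subgroupOf] using hw, fun h => hw1 (Subtype.ext h), fun g hg => ?_⟩
  exact congrArg Subtype.val (hwc ⟨g, hg⟩)

/-- conjugation by an element normalizing `R` preserves the (image of the) centre of `R` -/
theorem conj_mem_center_map {X : Type*} [Group X] (R : Subgroup X) (g : X)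
    (hg : g ∈ Subgroup.normalizer (R : Set X)) (z : X)
    (hz : z ∈ (Subgroup.center R).map R.subtype) :
    g * z * g⁻¹ ∈ (Subgroup.center R).map R.subtype := by
  rw [mem_center_map_iff] at hz ⊢
  rw [Subgroup.mem_normalizer_iff] at hg
  refine ⟨(hg z).mp hz.1, fun r hr => ?_⟩
  have hr' : g⁻¹ * r * g ∈ R := by
    rw [hg]
    have : g * (g⁻¹ * r * g) * g⁻¹ = r := by group
    rwa [this]
  have := hz.2 _ hr'
  calc r * (g * z * g⁻¹) = g * ((g⁻¹ * r * g) * z) * g⁻¹ := by group
    _ = g * (z * (g⁻¹ * r * g)) * g⁻¹ := by rw [this]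
    _ = g * z * g⁻¹ * r := by group


/-- Let p be an odd prime and, inside a finite group, let P be a p-subgroup normalized by a Klein four-group T. Let R be a subgroup of P, normal in P and normalized by T, such that P is the product of R with the centralizer of T in P. If T centralizes the centre of P, then T centralizes the centre of R. -/
theorem result {X : Type*} [Group X] [Finite X]
    {p : ℕ} (hp : p.Prime) (hodd : Odd p) (P T R : Subgroup X) (hP : IsPGroup p ↥P) (hT : IsKleinFour ↥T)
    (hTP : T ≤ Subgroup.normalizer (P : Set X)) (hRP : R ≤ P) (hRn : (R.subgroupOf P).Normal)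
    (hTR : T ≤ Subgroup.normalizer (R : Set X)) (hfac : R ⊔ (P ⊓ Subgroup.centralizer (T : Set X)) = P)
    (hZ : T ≤ Subgroup.centralizer (((Subgroup.center ↥P).map P.subtype : Subgroup X) : Set X)) :
    T ≤ Subgroup.centralizer (((Subgroup.center ↥R).map R.subtype : Subgroup X) : Set X) := by
  haveI : Fact p.Prime := ⟨hp⟩
  intro t ht
  rw [Subgroup.mem_centralizer_iff]
  intro z hz
  -- t² = 1
  have ht2 : t * t = 1 := by
    have h1 : (⟨t, ht⟩ : T) ^ 2 = 1 := by
      have := Monoid.pow_exponent_eq_one (⟨t, ht⟩ : T)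
      rwa [IsKleinFour.exponent_two] at this
    have h2 := congrArg Subtype.val h1
    simpa [pow_two] using h2
  have htinv : t⁻¹ = t := inv_eq_of_mul_eq_one_right ht2
  set ZR : Subgroup X := (Subgroup.center ↥R).map R.subtype with hZR
  have hZRc : ∀ a ∈ ZR, ∀ b ∈ ZR, a * b = b * a := by
    intro a ha b hb
    exact ((mem_center_map_iff R b).mp hb).2 a ((mem_center_map_iff R a).mp ha).1
  have htN : t ∈ Subgroup.normalizer (R : Set X) := hTR ht
  have hPN : P ≤ Subgroup.normalizer (R : Set X) :=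
    (Subgroup.normal_subgroupOf_iff_le_normalizer hRP).mp hRn
  -- the subgroup of ZR inverted by t
  let W : Subgroup X :=
    { carrier := {w | w ∈ ZR ∧ t * w * t⁻¹ = w⁻¹}
      mul_mem' := by
        rintro a b ⟨ha, ha'⟩ ⟨hb, hb'⟩
        refine ⟨ZR.mul_mem ha hb, ?_⟩
        calc t * (a * b) * t⁻¹ = (t * a * t⁻¹) * (t * b * t⁻¹) := by group
          _ = a⁻¹ * b⁻¹ := by rw [ha', hb']
          _ = (b * a)⁻¹ := by group
          _ = (a * b)⁻¹ := by rw [hZRc a ha b hb]
      one_mem' := ⟨ZR.one_mem, by simp⟩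
      inv_mem' := by
        rintro a ⟨ha, ha'⟩
        refine ⟨ZR.inv_mem ha, ?_⟩
        calc t * a⁻¹ * t⁻¹ = (t * a * t⁻¹)⁻¹ := by group
          _ = (a⁻¹)⁻¹ := by rw [ha'] }
  have hWmem : ∀ w, w ∈ W ↔ w ∈ ZR ∧ t * w * t⁻¹ = w⁻¹ := fun w => Iff.rfl
  have hWZ : W ≤ ZR := fun w hw => hw.1
  have hZRR : ZR ≤ R := fun w hw => ((mem_center_map_iff R w).mp hw).1
  have hWP : W ≤ P := hWZ.trans (hZRR.trans hRP)
  -- key element
  have hkey : z⁻¹ * (t * z * t⁻¹) ∈ W := by
    rw [hWmem]
    refine ⟨ZR.mul_mem (ZR.inv_mem hz) (conj_mem_center_map R t htN z hz), ?_⟩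
    calc t * (z⁻¹ * (t * z * t⁻¹)) * t⁻¹ = (t * z * t⁻¹)⁻¹ * ((t * t) * z * (t * t)⁻¹) := by group
      _ = (t * z * t⁻¹)⁻¹ * z := by rw [ht2]; group
      _ = (z⁻¹ * (t * z * t⁻¹))⁻¹ := by group
  by_cases hW : W = ⊥
  · rw [hW, Subgroup.mem_bot] at hkey
    have : t * z * t⁻¹ = z := by
      have := congrArg (fun u => z * u) hkey
      simpa using this
    calc z * t = (t * z * t⁻¹) * t := by rw [this]
      _ = t * z := by group
  · exfalso
    -- P normalizes W
    have hnorm : P ≤ Subgroup.normalizer (W : Set X) := by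
      rw [← hfac]
      apply sup_le
      · intro r hr
        rw [Subgroup.mem_normalizer_iff]
        intro w
        have hcomm : ∀ w ∈ W, r * w * r⁻¹ = w := by
          intro w hw
          have := ((mem_center_map_iff R w).mp (hWZ hw)).2 r hr
          rw [this]; group
        constructor
        · intro hw; rw [hcomm w hw]; exact hw
        · intro hw
          have h1 := hcomm _ hw
          have : r * w * r⁻¹ = w := by
            have h3 := mul_right_cancel h1
            exact mul_left_cancel (a := r) (by rw [h3])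
          rwa [this] at hw
      · intro g hg
        have hgP : g ∈ P := hg.1
        have hgt : t * g = g * t := by
          have := (Subgroup.mem_centralizer_iff.mp hg.2) t ht
          exact this
        have hstep : ∀ g' : X, g' ∈ Subgroup.normalizer (R : Set X) → t * g' = g' * t →
            ∀ w ∈ W, g' * w * g'⁻¹ ∈ W := by
          intro g' hg' hgt' w hw
          rw [hWmem] at hw ⊢
          refine ⟨conj_mem_center_map R g' hg' w hw.1, ?_⟩
          calc t * (g' * w * g'⁻¹) * t⁻¹ = (t * g') * w * (t * g')⁻¹ := by group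
            _ = (g' * t) * w * (g' * t)⁻¹ := by rw [hgt']
            _ = g' * (t * w * t⁻¹) * g'⁻¹ := by group
            _ = g' * w⁻¹ * g'⁻¹ := by rw [hw.2]
            _ = (g' * w * g'⁻¹)⁻¹ := by group
        rw [Subgroup.mem_normalizer_iff]
        intro w
        constructor
        · exact hstep g (hPN hgP) hgt w
        · intro hw
          have hgi : t * g⁻¹ = g⁻¹ * t := by
            calc t * g⁻¹ = g⁻¹ * (g * t) * g⁻¹ := by group
              _ = g⁻¹ * (t * g) * g⁻¹ := by rw [hgt]
              _ = g⁻¹ * t := by group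
          have := hstep g⁻¹ (Subgroup.inv_mem _ (hPN hgP)) hgi _ hw
          have h2 : g⁻¹ * (g * w * g⁻¹) * g⁻¹⁻¹ = w := by group
          rwa [h2] at this
    obtain ⟨w, hwW, hw1, hwc⟩ := exists_central_of_normalized P W hP hWP hnorm hW
    have hwZP : w ∈ (Subgroup.center ↥P).map P.subtype :=
      (mem_center_map_iff P w).mpr ⟨hWP hwW, hwc⟩
    have htw : w * t = t * w := (Subgroup.mem_centralizer_iff.mp (hZ ht)) w hwZP
    have hinv : t * w * t⁻¹ = w⁻¹ := ((hWmem w).mp hwW).2
    have hw2 : w ^ 2 = 1 := by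
      have : t * w * t⁻¹ = w := by rw [← htw]; group
      rw [this] at hinv
      rw [pow_two]
      calc w * w = w * w⁻¹ := by rw [← hinv]
        _ = 1 := mul_inv_cancel w
    -- order of w is a power of p, and divides 2
    have hwP : w ∈ P := hWP hwW
    obtain ⟨k, hk⟩ := (IsPGroup.iff_orderOf.mp hP) ⟨w, hwP⟩
    have hord : orderOf w = p ^ k := by
      rw [← hk]; exact (Subgroup.orderOf_mk w hwP).symm
    have hdvd : orderOf w ∣ 2 := orderOf_dvd_of_pow_eq_one hw2
    have hk0 : k = 0 := by
      by_contra hk0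
      have hp2 : p ∣ 2 := dvd_trans (hord ▸ dvd_pow_self p hk0) hdvd
      have : p = 2 := (Nat.prime_dvd_prime_iff_eq hp Nat.prime_two).mp hp2
      rw [this] at hodd
      exact absurd hodd (by decide)
    rw [hk0, pow_zero, orderOf_eq_one_iff] at hord
    exact hw1 hord

end Cfsg.Agent.S3190
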