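import Cfsg.Statements.S3195
import Mathlib
import Cfsg.Agent.S0200

set_option autoImplicit false
open Cfsg

namespace Cfsg.Agent.S3195

section lemmas

variable {G : Type*} [Group G]

theorem eq_one_of_odd_of_pow_two_pow {u : G} (hu : Odd (orderOf u)) (k : ℕ) (h : u ^ 2 ^ k = 1) :
    u = 1 := by
  have h1 : orderOf u ∣ 2 ^ k := orderOf_dvd_of_pow_eq_one h
  have h2 : Nat.Coprime (orderOf u) (2 ^ k) :=
    (Nat.Coprime.pow_left k (Nat.coprime_two_left.mpr hu)).symm
  have h3 : orderOf u = 1 := Nat.Coprime.eq_one_of_dvd h2 h1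
  exact orderOf_eq_one_iff.mp h3

theorem eq_one_of_odd_of_eq_inv {u : G} (hu : Odd (orderOf u)) (h : u = u⁻¹) : u = 1 := by
  apply eq_one_of_odd_of_pow_two_pow hu 1
  rw [pow_one, pow_two]
  nth_rewrite 1 [h]
  exact inv_mul_cancel u

/-- an element of odd order cannot invert a nontrivial element of odd order -/
theorem eq_inv_of_odd_conj {u v : G} (hv : Odd (orderOf v)) (h : v * u * v⁻¹ = u⁻¹) :
    u = u⁻¹ := by
  obtain ⟨m, hm⟩ := hv
  have h2 : Commute (v ^ 2) u := by
    have : v ^ 2 * u * (v ^ 2)⁻¹ = u := by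
      have e : v ^ 2 * u * (v ^ 2)⁻¹ = v * (v * u * v⁻¹) * v⁻¹ := by rw [pow_two]; group
      rw [e, h]
      have e2 : v * u⁻¹ * v⁻¹ = (v * u * v⁻¹)⁻¹ := by group
      rw [e2, h, inv_inv]
    exact mul_inv_eq_iff_eq_mul.mp this
  have h3 : Commute (v ^ (2 * m)) u := by rw [pow_mul]; exact h2.pow_left m
  have h4 : v ^ (2 * m) * v = 1 := by rw [← pow_succ, ← hm]; exact pow_orderOf_eq_one v
  have h5 : v⁻¹ = v ^ (2 * m) := (eq_inv_of_mul_eq_one_left h4).symm ▸ rfl
  have h6 : Commute v u := by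
    have : Commute v⁻¹ u := h5 ▸ h3
    exact Commute.inv_left_iff.mp this
  rw [← h]
  exact (mul_inv_eq_iff_eq_mul.mpr h6.eq).symm

/-- the conjugating element: if `u` has odd order, a power `g` of `u` conjugates every `y`
inverting `u` to `y u`, and fixes everything commuting with `u` -/
theorem exists_conj_of_odd {u : G} (hu : Odd (orderOf u)) :
    ∃ g : G, (∀ y : G, y * u * y⁻¹ = u⁻¹ → g * y * g⁻¹ = y * u) ∧
      (∀ z : G, z * u = u * z → g * z * g⁻¹ = z) := by
  obtain ⟨m, hm⟩ := hu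
  have h1 : u ^ m * u ^ m * u = 1 := by
    rw [← pow_add, ← pow_succ, ← two_mul, ← hm]; exact pow_orderOf_eq_one u
  refine ⟨u ^ m, ?_, ?_⟩
  · intro y hy
    have h2 : y * u ^ m * y⁻¹ = (u ^ m)⁻¹ := by rw [← conj_pow, hy, inv_pow]
    have h3 : y * (u ^ m)⁻¹ = u ^ m * y := by
      have : y * (u ^ m)⁻¹ * y⁻¹ = u ^ m := by
        have e : y * (u ^ m)⁻¹ * y⁻¹ = (y * u ^ m * y⁻¹)⁻¹ := by group
        rw [e, h2, inv_inv]
      exact mul_inv_eq_iff_eq_mul.mp this
    have h4 : (u ^ m)⁻¹ * (u ^ m)⁻¹ = u := by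
      have : (u ^ m)⁻¹ * (u ^ m)⁻¹ = (u ^ m)⁻¹ * (u ^ m)⁻¹ * (u ^ m * u ^ m * u) := by
        rw [h1, mul_one]
      rw [this]; group
    calc u ^ m * y * (u ^ m)⁻¹ = y * (u ^ m)⁻¹ * (u ^ m)⁻¹ := by rw [h3]
      _ = y * ((u ^ m)⁻¹ * (u ^ m)⁻¹) := by group
      _ = y * u := by rw [h4]
  · intro z hz
    have : Commute z (u ^ m) := (show Commute z u from hz).pow_right m
    rw [← this.eq, mul_inv_cancel_right]

end lemmas

section core

variable {G : Type*} [Group G]

/-- extract a nonidentity element of `A` commuting with a given conjugate -/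
theorem exists_comm {A : Subgroup G}
    (h : ∀ a ∈ A, a ≠ 1 → ∀ g : G, A ⊓ Subgroup.centralizer ({g * a * g⁻¹} : Set G) ≠ ⊥)
    {x : G} (hx : x ∈ A) (hx1 : x ≠ 1) (g : G) :
    ∃ d ∈ A, d ≠ 1 ∧ d * (g * x * g⁻¹) = (g * x * g⁻¹) * d := by
  obtain ⟨d, hd⟩ := (Subgroup.ne_bot_iff_exists_ne_one).mp (h x hx hx1 g)
  have hmem : (d : G) ∈ A ⊓ Subgroup.centralizer ({g * x * g⁻¹} : Set G) := d.2
  refine ⟨d, hmem.1, fun h' => hd (Subtype.ext h'), ?_⟩
  exact Subgroup.mem_centralizer_singleton_iff.mp hmem.2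

/-- **Lemma I.** If `x ∈ A` inverts the nontrivial element `u` of odd order, some other
involution of `A` centralizes `u`. -/
theorem exists_centralizing {A : Subgroup G}
    (h : ∀ a ∈ A, a ≠ 1 → ∀ g : G, A ⊓ Subgroup.centralizer ({g * a * g⁻¹} : Set G) ≠ ⊥)
    (hAc : ∀ s ∈ A, ∀ t ∈ A, s * t = t * s)
    {x u : G} (hx : x ∈ A) (hx1 : x ≠ 1) (hxx : x * x = 1) (hu : Odd (orderOf u)) (hu1 : u ≠ 1)
    (hxu : x * u * x⁻¹ = u⁻¹) :
    ∃ z ∈ A, z ≠ 1 ∧ z ≠ x ∧ z * u = u * z := by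
  obtain ⟨g, hg1, -⟩ := exists_conj_of_odd hu
  obtain ⟨z, hzA, hz1, hz⟩ := exists_comm h hx hx1 g
  rw [hg1 x hxu] at hz
  have hxinv : x⁻¹ = x := inv_eq_of_mul_eq_one_left hxx
  refine ⟨z, hzA, hz1, ?_, ?_⟩
  · rintro rfl
    apply hu1
    apply eq_one_of_odd_of_eq_inv hu
    have e1 : z * (z * u) = u := by rw [← mul_assoc, hxx, one_mul]
    have e2 : z * u * z = u⁻¹ := by
      have : z * u * z = z * u * z⁻¹ := by rw [hxinv]
      rw [this, hxu]
    exact e1.symm.trans (hz.trans e2)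
  · have hzx : z * x = x * z := hAc z hzA x hx
    have e1 : z * (x * u) = x * (z * u) := by rw [← mul_assoc, hzx, mul_assoc]
    have e2 : x * u * z = x * (u * z) := mul_assoc _ _ _
    rw [e1, e2] at hz
    exact mul_left_cancel hz

/-- **Lemma II.** -/
theorem no_two {A : Subgroup G}
    (h : ∀ a ∈ A, a ≠ 1 → ∀ g : G, A ⊓ Subgroup.centralizer ({g * a * g⁻¹} : Set G) ≠ ⊥)
    {b c u v : G} (hbA : b ∈ A) (hcA : c ∈ A) (hb1 : b ≠ 1) (hbc : b ≠ c)
    (hbb : b * b = 1) (hcc : c * c = 1) (hcomm : b * c = c * b)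
    (hmem : ∀ d ∈ A, d = 1 ∨ d = b ∨ d = c ∨ d = b * c)
    (hu : Odd (orderOf u)) (hu1 : u ≠ 1) (hv : Odd (orderOf v)) (hv1 : v ≠ 1)
    (hcu : c * u = u * c) (hbu : b * u * b⁻¹ = u⁻¹)
    (hbv : b * v = v * b) (hcv : c * v * c⁻¹ = v⁻¹) : False := by
  have hbinv : b⁻¹ = b := inv_eq_of_mul_eq_one_left hbb
  have hcinv : c⁻¹ = c := inv_eq_of_mul_eq_one_left hcc
  obtain ⟨g, hg1, hg2⟩ := exists_conj_of_odd hu
  obtain ⟨k, hk1, hk2⟩ := exists_conj_of_odd hv
  have gb : g * b * g⁻¹ = b * u := hg1 b hbu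
  have gc : g * c * g⁻¹ = c := hg2 c hcu
  have kb : k * b * k⁻¹ = b := hk2 b hbv
  have kc : k * c * k⁻¹ = c * v := hk1 c hcv
  have gbc : g * (b * c) * g⁻¹ = b * u * c := by
    have : g * (b * c) * g⁻¹ = g * b * g⁻¹ * (g * c * g⁻¹) := by group
    rw [this, gb, gc]
  have kbc : k * (b * c) * k⁻¹ = b * (c * v) := by
    have : k * (b * c) * k⁻¹ = k * b * k⁻¹ * (k * c * k⁻¹) := by group
    rw [this, kb, kc]
  have hbc1 : b * c ≠ 1 := by
    intro h1
    apply hbc
    have : b = c⁻¹ := eq_inv_of_mul_eq_one_left h1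
    rw [this, hcinv]
  -- basic rewriting rules
  have ub : u * b = b * u⁻¹ := by
    have : b * u⁻¹ * b⁻¹ = u := by
      have e : b * u⁻¹ * b⁻¹ = (b * u * b⁻¹)⁻¹ := by group
      rw [e, hbu, inv_inv]
    rw [← mul_inv_eq_iff_eq_mul.mp this]
  have bub : b * u * b = u⁻¹ := by
    have : b * u * b = b * u * b⁻¹ := by rw [hbinv]
    rw [this, hbu]
  have cvc : c * v * c = v⁻¹ := by
    have : c * v * c = c * v * c⁻¹ := by rw [hcinv]
    rw [this, hcv]
  have vc : v * c = c * v⁻¹ := by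
    have : c * v⁻¹ * c⁻¹ = v := by
      have e : c * v⁻¹ * c⁻¹ = (c * v * c⁻¹)⁻¹ := by group
      rw [e, hcv, inv_inv]
    rw [← mul_inv_eq_iff_eq_mul.mp this]
  have cuinv : c * u⁻¹ = u⁻¹ * c := ((show Commute c u from hcu).inv_right).eq
  -- (ii): `b c v` does not commute with `b u`
  have case2 : b * (c * v) * (b * u) ≠ b * u * (b * (c * v)) := by
    intro E
    have l1 : b * (c * v) * (b * u) = c * (v * u) := by
      calc b * (c * v) * (b * u) = b * c * (v * b) * u := by group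
        _ = b * c * (b * v) * u := by rw [hbv]
        _ = (b * c) * b * (v * u) := by group
        _ = (c * b) * b * (v * u) := by rw [hcomm]
        _ = c * (b * b) * (v * u) := by group
        _ = c * (v * u) := by rw [hbb, mul_one]
    have l2 : b * u * (b * (c * v)) = c * (u⁻¹ * v) := by
      calc b * u * (b * (c * v)) = (b * u * b) * c * v := by group
        _ = u⁻¹ * c * v := by rw [bub]
        _ = c * u⁻¹ * v := by rw [cuinv]
        _ = c * (u⁻¹ * v) := by group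
    rw [l1, l2] at E
    have E' : v * u = u⁻¹ * v := mul_left_cancel E
    have : v * u * v⁻¹ = u⁻¹ := by rw [E']; group
    exact hu1 (eq_one_of_odd_of_eq_inv hu (eq_inv_of_odd_conj hv this))
  -- first application: `u` and `v` commute
  have huv : v * u = u * v := by
    obtain ⟨d, hdA, hd1, hd⟩ := exists_comm h hbA hb1 (k⁻¹ * g)
    have hd' : (k * d * k⁻¹) * (b * u) = (b * u) * (k * d * k⁻¹) := by
      rw [← gb]
      have e1 : k * d * k⁻¹ * (g * b * g⁻¹) =
          k * (d * (k⁻¹ * g * b * (k⁻¹ * g)⁻¹)) * k⁻¹ := by group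
      rw [e1, hd]; group
    rcases hmem d hdA with rfl | rfl | rfl | rfl
    · exact absurd rfl hd1
    · exfalso
      rw [kb] at hd'
      have e1 : d * (d * u) = u := by rw [← mul_assoc, hbb, one_mul]
      rw [e1, bub] at hd'
      exact hu1 (eq_one_of_odd_of_eq_inv hu hd')
    · rw [kc] at hd'
      have l1 : d * v * (b * u) = d * b * (v * u) := by
        calc d * v * (b * u) = d * (v * b) * u := by group
          _ = d * (b * v) * u := by rw [hbv]
          _ = d * b * (v * u) := by group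
      have l2 : b * u * (d * v) = d * b * (u * v) := by
        calc b * u * (d * v) = b * (u * d) * v := by group
          _ = b * (d * u) * v := by rw [hcu]
          _ = (b * d) * (u * v) := by group
          _ = d * b * (u * v) := by rw [hcomm]
      rw [l1, l2] at hd'
      exact mul_left_cancel hd'
    · exfalso
      rw [kbc] at hd'
      exact case2 hd'
  -- second application
  obtain ⟨d, hdA, hd1, hd⟩ := exists_comm h (mul_mem hbA hcA) hbc1 (g⁻¹ * k)
  have hd' : (g * d * g⁻¹) * (b * (c * v)) = (b * (c * v)) * (g * d * g⁻¹) := by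
    rw [← kbc]
    have e1 : g * d * g⁻¹ * (k * (b * c) * k⁻¹) =
        g * (d * (g⁻¹ * k * (b * c) * (g⁻¹ * k)⁻¹)) * g⁻¹ := by group
    rw [e1, hd]; group
  rcases hmem d hdA with rfl | rfl | rfl | rfl
  · exact hd1 rfl
  · rw [gb] at hd'
    exact case2 hd'.symm
  · rw [gc] at hd'
    have l1 : d * (b * (d * v)) = b * v := by
      calc d * (b * (d * v)) = (d * b) * d * v := by group
        _ = (b * d) * d * v := by rw [hcomm]
        _ = b * (d * d) * v := by group
        _ = b * v := by rw [hcc, mul_one]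
    have l2 : b * (d * v) * d = b * v⁻¹ := by
      calc b * (d * v) * d = b * (d * v * d) := by group
        _ = b * v⁻¹ := by rw [cvc]
    rw [l1, l2] at hd'
    have : v = v⁻¹ := mul_left_cancel hd'
    exact hv1 (eq_one_of_odd_of_eq_inv hv this)
  · rw [gbc] at hd'
    have l1 : b * u * c * (b * (c * v)) = u⁻¹ * v := by
      calc b * u * c * (b * (c * v)) = b * (u * c) * b * c * v := by group
        _ = b * (c * u) * b * c * v := by rw [hcu]
        _ = b * c * (u * b) * c * v := by group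
        _ = b * c * (b * u⁻¹) * c * v := by rw [ub]
        _ = (b * c) * b * (u⁻¹ * c) * v := by group
        _ = (c * b) * b * (c * u⁻¹) * v := by rw [hcomm, cuinv]
        _ = c * (b * b) * c * u⁻¹ * v := by group
        _ = (c * c) * u⁻¹ * v := by rw [hbb, mul_one]
        _ = u⁻¹ * v := by rw [hcc, one_mul]
    have l2 : b * (c * v) * (b * u * c) = v⁻¹ * u := by
      calc b * (c * v) * (b * u * c) = b * c * (v * b) * (u * c) := by group
        _ = b * c * (b * v) * (c * u) := by rw [hbv, hcu]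
        _ = (b * c) * b * (v * c) * u := by group
        _ = (c * b) * b * (c * v⁻¹) * u := by rw [hcomm, vc]
        _ = c * (b * b) * c * v⁻¹ * u := by group
        _ = (c * c) * v⁻¹ * u := by rw [hbb, mul_one]
        _ = v⁻¹ * u := by rw [hcc, one_mul]
    rw [l1, l2] at hd'
    -- hd' : u⁻¹ * v = v⁻¹ * u, and u, v commute: u² = v²
    have hcuv : Commute u v := huv.symm
    have hsq : v * v = u * u := by
      have e1 : v * v = u * (u⁻¹ * v) * v := by group
      have e2 : u * (v⁻¹ * u) * v = u * u := by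
        calc u * (v⁻¹ * u) * v = u * v⁻¹ * (u * v) := by group
          _ = u * v⁻¹ * (v * u) := by rw [hcuv.eq]
          _ = u * u := by group
      rw [e1, hd', e2]
    have e3 : b * (u * u) * b⁻¹ = (u * u)⁻¹ := by
      have : b * (u * u) * b⁻¹ = (b * u * b⁻¹) * (b * u * b⁻¹) := by group
      rw [this, hbu]; group
    have e4 : b * (v * v) * b⁻¹ = v * v := by
      have : Commute b (v * v) := (show Commute b v from hbv).mul_right hbv
      rw [this.eq, mul_inv_cancel_right]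
    rw [← hsq, e4, hsq] at e3
    have e5 : u ^ 2 ^ 2 = 1 := by
      have : u ^ 2 ^ 2 = (u * u) * (u * u) := by norm_num [pow_succ]; group
      rw [this]
      nth_rewrite 1 [e3]
      exact inv_mul_cancel _
    exact hu1 (eq_one_of_odd_of_pow_two_pow hu 2 e5)

end core

/-- Let A be a Klein four-subgroup of a finite group G. If every G-conjugate of every involution of A commutes with some involution of A (its centralizer meets A nontrivially), then A meets the largest normal 2-subgroup O₂(G) nontrivially. -/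
theorem result {G : Type*} [Group G] [Finite G]
    (A : Subgroup G) (hA : IsKleinFour ↥A)
    (h : ∀ a ∈ A, a ≠ 1 → ∀ g : G, A ⊓ Subgroup.centralizer ({g * a * g⁻¹} : Set G) ≠ ⊥) :
    A ⊓ Cfsg.pCore 2 G ≠ ⊥ := by
  intro hbot
  haveI := hA
  have hsq : ∀ s ∈ A, s * s = 1 := fun s hs =>
    congrArg Subtype.val (IsKleinFour.mul_self (⟨s, hs⟩ : A))
  have hAc : ∀ s ∈ A, ∀ t ∈ A, s * t = t * s := by
    intro s hs t ht
    have h1 := hsq (s * t) (mul_mem hs ht)
    have h2 := hsq s hs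
    have h3 := hsq t ht
    have e : t * s = s * (s * t * (s * t)) * t := by
      calc t * s = (s * s) * t * s * (t * t) := by rw [h2, h3, one_mul, mul_one]
        _ = s * (s * t * (s * t)) * t := by group
    rw [e, h1, mul_one]
  have four : ∀ x ∈ A, ∀ z ∈ A, x ≠ 1 → z ≠ 1 → x ≠ z →
      ∀ d ∈ A, d = 1 ∨ d = x ∨ d = z ∨ d = x * z := by
    intro x hx z hz hx1 hz1 hxz d hd
    by_contra hcon
    push_neg at hcon
    obtain ⟨h1, h2, h3, h4⟩ := hcon
    apply h4
    have := IsKleinFour.eq_mul_of_ne_all (G := A) (x := ⟨x, hx⟩) (y := ⟨z, hz⟩) (z := ⟨d, hd⟩)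
      (fun h => hx1 (congrArg Subtype.val h)) (fun h => hz1 (congrArg Subtype.val h))
      (fun h => hxz (congrArg Subtype.val h)) (fun h => h1 (congrArg Subtype.val h))
      (fun h => h2 (congrArg Subtype.val h)) (fun h => h3 (congrArg Subtype.val h))
    exact congrArg Subtype.val this
  -- the property `Q z`
  let Q : G → Prop := fun z => ∃ u : G, u ≠ 1 ∧ Odd (orderOf u) ∧ z * u = u * z ∧
    ∀ d ∈ A, d ≠ 1 → d ≠ z → d * u * d⁻¹ = u⁻¹
  have hphi : ∀ x ∈ A, x ≠ 1 → ∃ z ∈ A, z ≠ 1 ∧ z ≠ x ∧ Q z := by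
    intro x hx hx1
    have hxo : orderOf x = 2 := by
      haveI : Fact (Nat.Prime 2) := ⟨Nat.prime_two⟩
      exact orderOf_eq_prime (by rw [pow_two]; exact hsq x hx) hx1
    obtain ⟨u, hu1, hu, hxu⟩ := Cfsg.Agent.S0200.result x hxo (by
      intro N hN hNp hxN
      have hle : N ≤ Cfsg.pCore 2 G := le_sSup (show N ∈ {N : Subgroup G | N.Normal ∧ IsPGroup 2 N}
        from ⟨hN, hNp⟩)
      have : x ∈ A ⊓ Cfsg.pCore 2 G := ⟨hx, hle hxN⟩
      rw [hbot, Subgroup.mem_bot] at this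
      exact hx1 this)
    obtain ⟨z, hzA, hz1, hzx, hzu⟩ := exists_centralizing h hAc hx hx1 (hsq x hx) hu hu1 hxu
    refine ⟨z, hzA, hz1, hzx, u, hu1, hu, hzu, ?_⟩
    intro d hd hd1 hdz
    rcases four x hx z hzA hx1 hz1 (Ne.symm hzx) d hd with rfl | rfl | rfl | rfl
    · exact absurd rfl hd1
    · exact hxu
    · exact absurd rfl hdz
    · have e : x * z * u * (x * z)⁻¹ = x * (z * u * z⁻¹) * x⁻¹ := by group
      have e2 : z * u * z⁻¹ = u := by rw [hzu, mul_inv_cancel_right]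
      rw [e, e2, hxu]
  have huniq : ∀ z ∈ A, ∀ z' ∈ A, z ≠ 1 → z' ≠ 1 → Q z → Q z' → z = z' := by
    intro z hz z' hz' hz1 hz'1 hQ hQ'
    by_contra hne
    obtain ⟨u, hu1, hu, hzu, hall⟩ := hQ
    obtain ⟨v, hv1, hv, hzv, hall'⟩ := hQ'
    exact no_two h hz' hz hz'1 (Ne.symm hne) (hsq z' hz') (hsq z hz) (hAc z' hz' z hz)
      (four z' hz' z hz hz'1 hz1 (Ne.symm hne)) hu hu1 hv hv1 hzu
      (hall z' hz' hz'1 (Ne.symm hne)) hzv (hall' z hz hz1 hne)
  -- a nonidentity element of A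
  obtain ⟨a, haA, ha1⟩ : ∃ a ∈ A, a ≠ 1 := by
    have hne : A ≠ ⊥ := by
      intro hA0
      have := hA.card_four
      rw [hA0, Subgroup.card_bot] at this
      norm_num at this
    obtain ⟨a, ha⟩ := (Subgroup.ne_bot_iff_exists_ne_one (H := A)).mp hne
    exact ⟨a, a.2, fun h' => ha (Subtype.ext h')⟩
  obtain ⟨z, hzA, hz1, -, hQz⟩ := hphi a haA ha1
  obtain ⟨z', hz'A, hz'1, hz'z, hQz'⟩ := hphi z hzA hz1
  exact hz'z (huniq z' hz'A z hzA hz'1 hz1 hQz' hQz)

end Cfsg.Agent.S3195
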