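import Cfsg.Statements.S3200
import Mathlib
import Cfsg.Agent.S0143
import Cfsg.Agent.Lib.Helper1.HallDom

set_option autoImplicit false
open Cfsg

namespace Cfsg.Agent.S3200

universe u

/-- A group has a Sylow 2-subgroup with an abelian complement. -/
def HasAC (X : Type*) [Group X] : Prop :=
  ∃ (P : Sylow 2 X) (D : Subgroup X), IsMulCommutative ↥D ∧
    Subgroup.IsComplement' (P : Subgroup X) D

/-- An odd order subgroup of 2-power index is a complement to every Sylow 2-subgroup. -/
theorem isComplement'_of_odd_of_index {X : Type*} [Group X] [Finite X] (P : Sylow 2 X)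
    (D : Subgroup X) (hodd : Odd (Nat.card D)) (j : ℕ) (hidx : D.index = 2 ^ j) :
    Subgroup.IsComplement' (P : Subgroup X) D := by
  have hcard : Nat.card X = Nat.card D * 2 ^ j := by
    rw [← hidx]; exact (D.card_mul_index).symm
  have hDpos : Nat.card D ≠ 0 := Nat.card_pos.ne'
  have hnd : ¬ 2 ∣ Nat.card D := by
    intro h
    exact (Nat.not_even_iff_odd.mpr hodd) (even_iff_two_dvd.mpr h)
  have hP : Nat.card (P : Subgroup X) = 2 ^ j := by
    rw [Sylow.card_eq_multiplicity, hcard]
    congr 1
    rw [Nat.factorization_mul hDpos (by positivity)]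
    simp [Nat.factorization_eq_zero_of_not_dvd hnd, Nat.Prime.factorization_pow Nat.prime_two]
  apply Subgroup.isComplement'_of_coprime
  · rw [hP, hcard, mul_comm]
  · rw [hP]
    exact Nat.Coprime.pow_left _ (Nat.coprime_two_left.mpr hodd)

/-- Numerical data of an abelian complement. -/
theorem data_of_complement {X : Type*} [Group X] [Finite X] (P : Sylow 2 X) (D : Subgroup X)
    (h : Subgroup.IsComplement' (P : Subgroup X) D) :
    Odd (Nat.card D) ∧ ∃ n, D.index = 2 ^ n ∧ Nat.card (P : Subgroup X) = 2 ^ n := by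
  obtain ⟨n, hn⟩ := IsPGroup.exists_card_eq P.2
  have h1 : D.index = Nat.card (P : Subgroup X) := h.index_eq_card
  have h2 : (P : Subgroup X).index = Nat.card D := h.symm.index_eq_card
  refine ⟨?_, n, by rw [h1, hn], hn⟩
  rw [← h2]
  have := P.not_dvd_index
  rw [← Nat.not_even_iff_odd, even_iff_two_dvd]
  exact this

theorem hasAC_quotient {X : Type*} [Group X] [Finite X] (hX : HasAC X) (N : Subgroup X)
    [N.Normal] : HasAC (X ⧸ N) := by
  obtain ⟨P, D, hD, hPD⟩ := hX
  obtain ⟨hodd, n, hidx, -⟩ := data_of_complement P D hPD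
  have hodd' : Odd (Nat.card (D.map (QuotientGroup.mk' N))) :=
    Odd.of_dvd_nat hodd (D.card_map_dvd _)
  have hidx' : (D.map (QuotientGroup.mk' N)).index ∣ 2 ^ n := by
    rw [← hidx]
    exact D.index_map_dvd (QuotientGroup.mk'_surjective N)
  obtain ⟨j, -, hj⟩ := (Nat.dvd_prime_pow Nat.prime_two).mp hidx'
  exact ⟨Classical.arbitrary _, D.map (QuotientGroup.mk' N), inferInstance,
    isComplement'_of_odd_of_index _ _ hodd' j hj⟩

theorem card_eq_inf_mul_relIndex {X : Type*} [Group X] (A C : Subgroup X) :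
    Nat.card C = Nat.card (A ⊓ C : Subgroup X) * A.relIndex C := by
  have h := Subgroup.relIndex_mul_relIndex ⊥ (A ⊓ C) C bot_le inf_le_right
  rw [Subgroup.relIndex_bot_left, Subgroup.relIndex_bot_left, Subgroup.inf_relIndex_right] at h
  exact h.symm

theorem relIndex_normal_eq {X : Type*} [Group X] [Finite X] (D N : Subgroup X) [N.Normal] :
    D.relIndex N = D.relIndex (D ⊔ N) := by
  have e1 := card_eq_inf_mul_relIndex N (D ⊔ N)
  have e2 := card_eq_inf_mul_relIndex N D
  have e3 := card_eq_inf_mul_relIndex D N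
  have e4 := card_eq_inf_mul_relIndex D (D ⊔ N)
  rw [inf_of_le_left (le_sup_right : N ≤ D ⊔ N), Subgroup.relIndex_sup_right] at e1
  rw [inf_of_le_left (le_sup_left : D ≤ D ⊔ N)] at e4
  rw [inf_comm] at e2
  have hr : 0 < N.relIndex D :=
    show 0 < (N.subgroupOf D).index from Nat.pos_of_ne_zero Subgroup.index_ne_zero_of_finite
  have hc : 0 < Nat.card (D ⊓ N : Subgroup X) := Nat.card_pos
  have e5 : Nat.card N * N.relIndex D
      = Nat.card (D ⊓ N : Subgroup X) * D.relIndex (D ⊔ N) * N.relIndex D := by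
    rw [← e1, e4, e2]; ring
  have e6 := Nat.eq_of_mul_eq_mul_right hr e5
  rw [e3] at e6
  exact Nat.eq_of_mul_eq_mul_left hc e6

theorem hasAC_normal {X : Type*} [Group X] [Finite X] (hX : HasAC X) (N : Subgroup X)
    [N.Normal] : HasAC N := by
  obtain ⟨P, D, hD, hPD⟩ := hX
  obtain ⟨hodd, n, hidx, -⟩ := data_of_complement P D hPD
  have hodd' : Odd (Nat.card (D.subgroupOf N)) := by
    have h1 : Nat.card ((D.subgroupOf N).map N.subtype) = Nat.card (D.subgroupOf N) :=
      Subgroup.card_map_of_injective N.subtype_injective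
    rw [Subgroup.subgroupOf_map_subtype] at h1
    rw [← h1]
    exact Odd.of_dvd_nat hodd (Subgroup.card_dvd_of_le inf_le_left)
  have hidx' : (D.subgroupOf N).index ∣ 2 ^ n := by
    rw [← hidx]
    show D.relIndex N ∣ D.index
    rw [relIndex_normal_eq D N]
    exact Subgroup.relIndex_dvd_index_of_le le_sup_left
  obtain ⟨j, -, hj⟩ := (Nat.dvd_prime_pow Nat.prime_two).mp hidx'
  exact ⟨Classical.arbitrary _, D.subgroupOf N, inferInstance,
    isComplement'_of_odd_of_index _ _ hodd' j hj⟩

theorem solvable_aux : ∀ (k : ℕ) (X : Type u) [Group X] [Finite X], Nat.card X = k → HasAC X →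
    Group.IsSolvable X := by
  intro k
  induction k using Nat.strong_induction_on with
  | _ k ih =>
    intro X _ _ hk hX
    obtain ⟨P, D, hD, hPD⟩ := id hX
    obtain ⟨hodd, n, hidx, hPn⟩ := data_of_complement P D hPD
    by_cases hD1 : D = ⊥
    · -- `X` is a 2-group
      have hX2 : IsPGroup 2 X := by
        rw [IsPGroup.iff_card]
        refine ⟨n, ?_⟩
        rw [← hidx, hD1, Subgroup.index_bot]
      have := hX2.isNilpotent
      exact IsNilpotent.to_isSolvable
    · obtain ⟨c', hc'⟩ := (Subgroup.ne_bot_iff_exists_ne_one (H := D)).mp hD1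
      obtain ⟨c, hc, hc1⟩ : ∃ c : X, c ∈ D ∧ c ≠ 1 :=
        ⟨(c' : X), c'.2, fun h => hc' (Subtype.ext h)⟩
      have hDle : D ≤ Subgroup.centralizer ({c} : Set X) := by
        intro d hd
        rw [Subgroup.mem_centralizer_singleton_iff]
        have := hD.is_comm.comm (⟨d, hd⟩ : D) ⟨c, hc⟩
        exact congrArg Subtype.val this
      have hcl : (Subgroup.centralizer ({c} : Set X)).index ∣ 2 ^ n := by
        rw [← hidx]; exact Subgroup.index_dvd_of_le hDle
      obtain ⟨j, -, hj⟩ := (Nat.dvd_prime_pow Nat.prime_two).mp hcl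
      by_cases hsimple : IsSimpleGroup X
      · have hprime := Cfsg.Agent.S0143.result 2 j Nat.prime_two c hc1 hj
        haveI : Fact (Nat.card X).Prime := ⟨hprime⟩
        haveI := isCyclic_of_prime_card (α := X) rfl
        letI : CommGroup X := IsCyclic.commGroup
        exact isSolvable_of_comm (fun a b => mul_comm a b)
      · have hex : ∃ N : Subgroup X, N.Normal ∧ N ≠ ⊥ ∧ N ≠ ⊤ := by
          by_contra hcon
          push_neg at hcon
          apply hsimple
          haveI : Nontrivial X := ⟨⟨c, 1, hc1⟩⟩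
          refine ⟨fun N hN => ?_⟩
          by_cases h : N = ⊥
          · left; exact h
          · right; exact hcon N hN h
        obtain ⟨N, hN, hNbot, hNtop⟩ := hex
        have hNlt : Nat.card N < k := by
          rw [← hk]
          refine lt_of_le_of_ne (Subgroup.card_le_card_group N) ?_
          intro h
          exact hNtop (Subgroup.eq_top_of_card_eq N h)
        have hQlt : Nat.card (X ⧸ N) < k := by
          rw [← hk, ← Subgroup.index_eq_card, ← N.index_mul_card]
          have h1 : 1 < Nat.card N := (Subgroup.one_lt_card_iff_ne_bot N).mpr hNbot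
          have h2 : 0 < N.index := Nat.pos_of_ne_zero Subgroup.index_ne_zero_of_finite
          nlinarith
        haveI : Group.IsSolvable N := ih _ hNlt N rfl (hasAC_normal hX N)
        haveI : Group.IsSolvable (X ⧸ N) := ih _ hQlt (X ⧸ N) rfl (hasAC_quotient hX N)
        refine Group.isSolvable_of_ker_le_range N.subtype (QuotientGroup.mk' N) ?_
        rw [QuotientGroup.ker_mk', Subgroup.range_subtype]

theorem hasAC_subgroup {X : Type u} [Group X] [Finite X] (hX : HasAC X) (L : Subgroup X) :
    HasAC L := by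
  have : Group.IsSolvable X := solvable_aux _ X rfl hX
  obtain ⟨P, D, hD, hPD⟩ := hX
  obtain ⟨hodd, n, hidx, hPn⟩ := data_of_complement P D hPD
  -- the odd part and the 2-part of `|L|`
  set a := (Nat.card L).factorization 2 with ha
  set m := Nat.card L / 2 ^ a with hm
  have hLpos : Nat.card L ≠ 0 := Nat.card_pos.ne'
  have hL : Nat.card L = m * 2 ^ a := by
    rw [mul_comm]; exact (Nat.ordProj_mul_ordCompl_eq_self (Nat.card L) 2).symm
  have hcop2 : Nat.Coprime 2 m := Nat.coprime_ordCompl Nat.prime_two hLpos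
  have hcop : m.Coprime (2 ^ a) := (Nat.Coprime.pow_left a hcop2).symm
  obtain ⟨E, hE⟩ := Cfsg.Agent.Lib.Helper1.hall_exists (G := L) m (2 ^ a) hL hcop
  have hmpos : 0 < m := by
    rcases Nat.eq_zero_or_pos m with h | h
    · rw [h, zero_mul] at hL; exact absurd hL hLpos
    · exact h
  have hEidx : E.index = 2 ^ a := by
    have := E.card_mul_index
    rw [hE, hL] at this
    exact Nat.eq_of_mul_eq_mul_left hmpos this
  have hEodd : Odd (Nat.card E) := by rw [hE]; exact Nat.coprime_two_left.mp hcop2
  -- `E` is abelian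
  have hXcard : Nat.card X = Nat.card D * 2 ^ n := by
    rw [← hidx]; exact (D.card_mul_index).symm
  have hDcop : (Nat.card D).Coprime (2 ^ n) :=
    (Nat.Coprime.pow_left n (Nat.coprime_two_left.mpr hodd)).symm
  have hE' : Nat.card (E.map L.subtype) = m := by
    rw [Subgroup.card_map_of_injective L.subtype_injective, hE]
  have hE'cop : (Nat.card (E.map L.subtype)).Coprime (2 ^ n) := by
    rw [hE']
    exact (Nat.Coprime.pow_left n hcop2).symm
  obtain ⟨F, hF, hEF⟩ := Cfsg.Agent.Lib.Helper1.hall_dom (G := X) (Nat.card D) (2 ^ n) hXcard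
    hDcop (E.map L.subtype) hE'cop
  obtain ⟨g, hg⟩ := Cfsg.Agent.Lib.Helper1.hall_conj (G := X) (Nat.card D) (2 ^ n) hXcard hDcop
    D F rfl hF
  have hFcomm : ∀ x ∈ F, ∀ y ∈ F, x * y = y * x := by
    intro x hx y hy
    rw [← hg] at hx hy
    have hx' := Subgroup.mem_pointwise_smul_iff_inv_smul_mem.mp hx
    have hy' := Subgroup.mem_pointwise_smul_iff_inv_smul_mem.mp hy
    have hxy := congrArg Subtype.val (hD.is_comm.comm (⟨_, hx'⟩ : D) ⟨_, hy'⟩)
    simp only [Subgroup.coe_mul, MulAut.smul_def, MulAut.conj_inv_apply] at hxy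
    have h1 : x * y = g * (g⁻¹ * x * g * (g⁻¹ * y * g)) * g⁻¹ := by group
    rw [h1, hxy]; group
  have hEcomm : IsMulCommutative ↥E := by
    refine ⟨⟨fun x y => ?_⟩⟩
    apply Subtype.ext
    apply Subtype.ext
    have hx : ((x : L) : X) ∈ F := hEF (Subgroup.mem_map_of_mem _ x.2)
    have hy : ((y : L) : X) ∈ F := hEF (Subgroup.mem_map_of_mem _ y.2)
    exact hFcomm _ hx _ hy
  exact ⟨Classical.arbitrary _, E, hEcomm, isComplement'_of_odd_of_index _ _ hEodd a hEidx⟩

/-- Let H be a finite group in which a Sylow 2-subgroup has an abelian complement (an abelian subgroup meeting it trivially whose product with it is all of H). Then H is solvable, and every subgroup and every quotient group of H again has a Sylow 2-subgroup with an abelian complement. -/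
theorem result {H : Type*} [Group H] [Finite H]
    (S : Sylow 2 H) (C : Subgroup H) (hC : IsMulCommutative ↥C) (hSC : Subgroup.IsComplement' (S : Subgroup H) C) :
    Group.IsSolvable H ∧
    (∀ L : Subgroup H, ∃ (P : Sylow 2 ↥L) (D : Subgroup ↥L), IsMulCommutative ↥D ∧ Subgroup.IsComplement' (P : Subgroup ↥L) D) ∧
    (∀ (N : Subgroup H) [N.Normal], ∃ (P : Sylow 2 (H ⧸ N)) (D : Subgroup (H ⧸ N)),
      IsMulCommutative ↥D ∧ Subgroup.IsComplement' (P : Subgroup (H ⧸ N)) D) := by
  have hH : HasAC H := ⟨S, C, hC, hSC⟩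
  refine ⟨solvable_aux _ H rfl hH, fun L => hasAC_subgroup hH L, fun N _ => hasAC_quotient hH N⟩

end Cfsg.Agent.S3200
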