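import Cfsg.Statements.S3201
import Cfsg.Agent.Lib.Helper73.QuatRelations
import Cfsg.Agent.Lib.Helper73.QuatIso
import Cfsg.Agent.Lib.Helper73.TwoGroup
import Cfsg.Agent.Lib.Helper66.DihedralGen
import Cfsg.Agent.S0016

set_option autoImplicit false
open Cfsg

namespace Cfsg.Agent.S3201

open Cfsg.Agent.Lib.Helper73

/-- a nonabelian 2-group with a unique involution is generalized quaternion (from S0016) -/
theorem exists_quaternion_equiv {T : Type*} [Group T] [Finite T] (hT : IsPGroup 2 T)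
    (hna : ¬ IsMulCommutative T) (hu : ∃! x : T, orderOf x = 2) :
    ∃ k : ℕ, Nonempty (T ≃* QuaternionGroup (2 ^ k)) := by
  have : Fact (Nat.Prime 2) := ⟨Nat.prime_two⟩
  obtain ⟨u, hu2, huu⟩ := hu
  have hu1 : u ≠ 1 := by
    intro h; rw [h, orderOf_one] at hu2; omega
  have hmem : ∀ H : Subgroup T, Nat.card H = 2 → u ∈ H := by
    intro H hH
    have hHf : Finite H := Nat.finite_of_card_ne_zero (by omega)
    obtain ⟨t, ht⟩ := exists_prime_orderOf_dvd_card' (G := H) 2 (by rw [hH])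
    have : orderOf (t : T) = 2 := by rw [Subgroup.orderOf_coe, ht]
    rw [← huu _ this]; exact t.2
  have huniq : ∀ H K : Subgroup T, Nat.card H = 2 → Nat.card K = 2 → H = K := by
    intro H K hH hK
    exact subgroup_eq_of_card_two H K hH hK u (hmem H hH) (hmem K hK) hu1
  rcases Cfsg.Agent.S0016.result 2 hT huniq with hcyc | ⟨-, k, he⟩
  · exfalso
    apply hna
    obtain ⟨g, hg⟩ := hcyc.exists_generator
    refine ⟨⟨fun a b => ?_⟩⟩
    obtain ⟨k, rfl⟩ := Subgroup.mem_zpowers_iff.mp (hg a)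
    obtain ⟨l, rfl⟩ := Subgroup.mem_zpowers_iff.mp (hg b)
    exact (Commute.zpow_zpow (Commute.refl g) k l).eq
  · exact ⟨k, he⟩

/-- In a quotient with a unique involution the three correction terms of the quaternion relations vanish. -/
theorem corrections_mem {S : Type*} [Group S] [Finite S] (hS : IsPGroup 2 S)
    (Ni N₀ : Subgroup S) [hNi : Ni.Normal]
    (hcen : ∀ z ∈ N₀, ∀ s : S, z * s = s * z) (hsq : ∀ z ∈ N₀, z ^ 2 = 1)
    (hnai : ¬ IsMulCommutative (S ⧸ Ni)) (hui : ∃! t : S ⧸ Ni, orderOf t = 2)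
    (x y : S) (N : ℕ) (hNpos : 0 < N) (hcardTi : Nat.card (S ⧸ Ni) = 4 * N)
    (hgen : Subgroup.closure ({x, y} ∪ (N₀ : Set S)) = ⊤)
    (hc₁N : x ^ (2 * N) ∈ N₀) (hc₂N : (x ^ N)⁻¹ * y ^ 2 ∈ N₀) (hc₃N : x * (y * x * y⁻¹) ∈ N₀) :
    x ^ (2 * N) ∈ Ni ∧ (x ^ N)⁻¹ * y ^ 2 ∈ Ni ∧ x * (y * x * y⁻¹) ∈ Ni := by
  obtain ⟨u, hu, huu⟩ := hui
  set π := QuotientGroup.mk' Ni with hπ
  have hTi : IsPGroup 2 (S ⧸ Ni) := hS.to_quotient Ni
  have hnai' : ∃ a b : S ⧸ Ni, a * b ≠ b * a := by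
    by_contra hcon
    push Not at hcon
    exact hnai ⟨⟨hcon⟩⟩
  have hres := quat_relations_exact hTi u hu huu hnai' N hNpos hcardTi (π '' (N₀ : Set S))
    (by
      rintro _ ⟨z, hz, rfl⟩ t
      obtain ⟨s, rfl⟩ := QuotientGroup.mk'_surjective Ni t
      rw [← map_mul, ← map_mul, hcen z hz s])
    (by
      rintro _ ⟨z, hz, rfl⟩
      rw [← map_pow, hsq z hz, map_one])
    (π x) (π y) (π (x ^ (2 * N))) (π ((x ^ N)⁻¹ * y ^ 2)) (π (x * (y * x * y⁻¹)))
    ⟨_, hc₁N, rfl⟩ ⟨_, hc₂N, rfl⟩ ⟨_, hc₃N, rfl⟩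
    (by
      have h1 := congrArg (Subgroup.map π) hgen
      rw [MonoidHom.map_closure, Set.image_union, Set.image_pair, ← MonoidHom.range_eq_map,
        MonoidHom.range_eq_top.mpr (QuotientGroup.mk'_surjective Ni)] at h1
      exact h1)
    (by rw [← map_pow])
    (by rw [← map_pow, ← map_pow, ← map_mul, mul_inv_cancel_left])
    (by rw [← map_inv, ← map_mul, ← map_inv, ← map_mul, ← map_mul, inv_mul_cancel_left])
  refine ⟨?_, ?_, ?_⟩
  · have := hres.1
    rwa [hπ, QuotientGroup.mk'_apply, QuotientGroup.eq_one_iff] at this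
  · have := hres.2.1
    rwa [hπ, QuotientGroup.mk'_apply, QuotientGroup.eq_one_iff] at this
  · have := hres.2.2
    rwa [hπ, QuotientGroup.mk'_apply, QuotientGroup.eq_one_iff] at this

/-- Let S be a finite 2-group whose centre Z(S) has n ≥ 2 distinct maximal subgroups C₁, …, Cₙ with trivial intersection such that each quotient S/Cᵢ is a non-abelian group with exactly one involution (a generalized quaternion group). Then S is the internal direct product of an elementary abelian subgroup and a non-abelian subgroup with exactly one involution. -/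
theorem result {S : Type*} [Group S] [Finite S]
    (hS : IsPGroup 2 S) (n : ℕ) (hn : 2 ≤ n) (C : Fin n → Subgroup ↥(Subgroup.center S))
    (hCmax : ∀ i, IsCoatom (C i)) (hCinj : Function.Injective C) (hCint : ⨅ i, C i = ⊥)
    (hCq : ∀ i, ∃ (_ : ((C i).map (Subgroup.center S).subtype).Normal),
      ¬ IsMulCommutative (S ⧸ (C i).map (Subgroup.center S).subtype) ∧
      ∃! x : S ⧸ (C i).map (Subgroup.center S).subtype, orderOf x = 2) :
    ∃ E Q : Subgroup S, Cfsg.IsInternalDirectProduct E Q ⊤ ∧ Cfsg.IsElementaryAbelian 2 E ∧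
      ¬ IsMulCommutative ↥Q ∧ ∃! x : ↥Q, orderOf x = 2 := by
  have : Fact (Nat.Prime 2) := ⟨Nat.prime_two⟩
  -- central
  have hcen : ∀ i, ∀ z ∈ (C i).map (Subgroup.center S).subtype, ∀ s : S, z * s = s * z := by
    rintro i _ ⟨z, -, rfl⟩ s
    exact ((Subgroup.mem_center_iff.mp z.2) s).symm
  -- index two
  have hZp : IsPGroup 2 (Subgroup.center S) := hS.to_subgroup _
  have hidx : ∀ i, (C i).index = 2 := by
    intro i
    obtain ⟨M, hM1, hM2⟩ := exists_index_prime_ge hZp (C i) (hCmax i).1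
    have hMne : M ≠ ⊤ := by
      intro h; rw [h, Subgroup.index_top] at hM2; omega
    rw [((hCmax i).le_iff_eq hMne).mp hM1] at hM2
    exact hM2
  -- squares of central elements are trivial
  have hsq : ∀ z : Subgroup.center S, z ^ 2 = 1 := by
    intro z
    have h1 : z ^ 2 ∈ ⨅ i, C i := by
      rw [Subgroup.mem_iInf]
      intro i
      rw [pow_two]
      exact Subgroup.mul_self_mem_of_index_two (hidx i) z
    rwa [hCint, Subgroup.mem_bot] at h1
  have hsq' : ∀ i, ∀ z ∈ (C i).map (Subgroup.center S).subtype, z ^ 2 = 1 := by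
    rintro i _ ⟨z, -, rfl⟩
    have := congrArg Subtype.val (hsq z)
    simpa using this
  -- intersection trivial
  have hint : ∀ s : S, (∀ i, s ∈ (C i).map (Subgroup.center S).subtype) → s = 1 := by
    intro s hs
    have i₀ : Fin n := ⟨0, by omega⟩
    obtain ⟨z, -, hz⟩ := hs i₀
    have h1 : z ∈ ⨅ i, C i := by
      rw [Subgroup.mem_iInf]
      intro i
      obtain ⟨z', hz', hz'2⟩ := hs i
      have : z' = z := Subtype.ext (by rw [← hz] at hz'2; exact hz'2)
      rw [← this]; exact hz'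
    rw [hCint, Subgroup.mem_bot] at h1
    rw [← hz, h1]; rfl
  -- cardinalities
  have hcardN : ∀ i, 2 * Nat.card ((C i).map (Subgroup.center S).subtype) = Nat.card (Subgroup.center S) := by
    intro i
    have h1 : Nat.card ((C i).map (Subgroup.center S).subtype) = Nat.card (C i) :=
      Nat.card_congr ((C i).equivMapOfInjective (Subgroup.center S).subtype (Subgroup.center S).subtype_injective).symm.toEquiv
    rw [h1, ← hidx i]
    exact Subgroup.index_mul_card (C i)
  have hcardT : ∀ i (hNi : ((C i).map (Subgroup.center S).subtype).Normal), 2 * Nat.card S =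
      Nat.card (S ⧸ (C i).map (Subgroup.center S).subtype) * Nat.card (Subgroup.center S) := by
    intro i hNi
    rw [← hcardN i, Subgroup.card_eq_card_quotient_mul_card_subgroup ((C i).map (Subgroup.center S).subtype)]
    ring
  -- the base index
  set i₀ : Fin n := ⟨0, by omega⟩ with hi₀
  obtain ⟨hN0, hna0, hu0⟩ := hCq i₀
  set N₀ := (C i₀).map (Subgroup.center S).subtype with hN₀
  have hT0 : IsPGroup 2 (S ⧸ N₀) := hS.to_quotient N₀
  obtain ⟨k, ⟨e⟩⟩ := exists_quaternion_equiv hT0 hna0 hu0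
  set N := 2 ^ k with hNdef
  have hNpos : 0 < N := by positivity
  have : NeZero N := ⟨hNpos.ne'⟩
  have hcardT0 : Nat.card (S ⧸ N₀) = 4 * N := by
    rw [Nat.card_congr e.toEquiv, Nat.card_eq_fintype_card, QuaternionGroup.card]
  set α := e.symm (QuaternionGroup.a 1) with hα
  set β := e.symm (QuaternionGroup.xa 0) with hβ
  have hα1 : α ^ (2 * N) = 1 := by
    rw [hα, ← map_pow, QuaternionGroup.a_one_pow_n, map_one]
  have hβ2 : β ^ 2 = α ^ N := by
    rw [hα, hβ, ← map_pow, ← map_pow, QuaternionGroup.xa_sq, QuaternionGroup.a_one_pow]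
  have hrel : β * α * β⁻¹ = α⁻¹ := by
    rw [hα, hβ, ← map_inv, ← map_mul, ← map_inv, ← map_mul,
      Cfsg.Agent.Lib.Helper66.quaternion_rel]
  have hgenT : Subgroup.closure {α, β} = ⊤ := by
    have h1 := Cfsg.Agent.Lib.Helper66.quaternion_closure N
    have h2 := congrArg (Subgroup.map (e.symm : QuaternionGroup N →* S ⧸ N₀)) h1
    rw [MonoidHom.map_closure, Set.image_pair, ← MonoidHom.range_eq_map,
      MonoidHom.range_eq_top.mpr e.symm.surjective] at h2
    exact h2
  obtain ⟨x, hx⟩ := QuotientGroup.mk_surjective α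
  obtain ⟨y, hy⟩ := QuotientGroup.mk_surjective β
  set c₁ := x ^ (2 * N) with hc₁
  set c₂ := (x ^ N)⁻¹ * y ^ 2 with hc₂
  set c₃ := x * (y * x * y⁻¹) with hc₃
  have hc₁N : c₁ ∈ N₀ := by
    rw [← QuotientGroup.eq_one_iff, hc₁, QuotientGroup.mk_pow, hx, hα1]
  have hc₂N : c₂ ∈ N₀ := by
    rw [← QuotientGroup.eq_one_iff, hc₂, QuotientGroup.mk_mul, QuotientGroup.mk_inv,
      QuotientGroup.mk_pow, QuotientGroup.mk_pow, hx, hy, hβ2, inv_mul_cancel]
  have hc₃N : c₃ ∈ N₀ := by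
    rw [← QuotientGroup.eq_one_iff, hc₃, QuotientGroup.mk_mul, QuotientGroup.mk_mul,
      QuotientGroup.mk_mul, QuotientGroup.mk_inv, hx, hy, hrel, mul_inv_cancel]
  have hgen : Subgroup.closure ({x, y} ∪ (N₀ : Set S)) = ⊤ := by
    set L := Subgroup.closure ({x, y} ∪ (N₀ : Set S)) with hL
    have hmap : Subgroup.map (QuotientGroup.mk' N₀) L = ⊤ := by
      rw [eq_top_iff, ← hgenT, Subgroup.closure_le]
      rintro t (rfl | rfl)
      · exact ⟨x, Subgroup.subset_closure (by simp), hx⟩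
      · exact ⟨y, Subgroup.subset_closure (by simp), hy⟩
    rw [eq_top_iff]
    intro s _
    have h1 : (QuotientGroup.mk' N₀) s ∈ Subgroup.map (QuotientGroup.mk' N₀) L := by
      rw [hmap]; trivial
    obtain ⟨l, hl, hls⟩ := h1
    have h3 : l⁻¹ * s ∈ N₀ := QuotientGroup.eq.mp hls
    have h4 : l⁻¹ * s ∈ L := Subgroup.subset_closure (Or.inr h3)
    have : s = l * (l⁻¹ * s) := by group
    rw [this]; exact mul_mem hl h4
  -- the three correction terms vanish
  have hkey : ∀ i, c₁ ∈ (C i).map (Subgroup.center S).subtype ∧ c₂ ∈ (C i).map (Subgroup.center S).subtype ∧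
      c₃ ∈ (C i).map (Subgroup.center S).subtype := by
    intro i
    obtain ⟨hNi, hnai, hui⟩ := hCq i
    have hcardTi : Nat.card (S ⧸ (C i).map (Subgroup.center S).subtype) = 4 * N := by
      have h1 := hcardT i hNi
      have h2 := hcardT i₀ hN0
      rw [h1, hcardT0] at h2
      have hZpos : 0 < Nat.card (Subgroup.center S) := Nat.card_pos
      exact Nat.eq_of_mul_eq_mul_right hZpos h2
    exact corrections_mem hS ((C i).map (Subgroup.center S).subtype) N₀ (hcen i₀) (hsq' i₀) hnai hui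
      x y N hNpos hcardTi hgen hc₁N hc₂N hc₃N
  have hc₁1 : c₁ = 1 := hint c₁ fun i => (hkey i).1
  have hc₂1 : c₂ = 1 := hint c₂ fun i => (hkey i).2.1
  have hc₃1 : c₃ = 1 := hint c₃ fun i => (hkey i).2.2
  have hx1 : x ^ (2 * N) = 1 := hc₁1
  have hy2 : y ^ 2 = x ^ N := by
    have : x ^ N * c₂ = y ^ 2 := by rw [hc₂, mul_inv_cancel_left]
    rw [← this, hc₂1, mul_one]
  have hyx : y * x * y⁻¹ = x⁻¹ := by
    have : x⁻¹ * c₃ = y * x * y⁻¹ := by rw [hc₃, inv_mul_cancel_left]
    rw [← this, hc₃1, mul_one]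
  -- the quaternion subgroup
  set φ := quatHom x y N hx1 hy2 hyx with hφ
  have hφa : φ (QuaternionGroup.a 1) = x := by rw [hφ, quatHom_a, zmodPow_one]
  have hφb : φ (QuaternionGroup.xa 0) = y := by
    rw [hφ, quatHom_xa, map_zero, toMul_zero, mul_one]
  have hcomp : (QuotientGroup.mk' N₀).comp φ = (e.symm : QuaternionGroup N →* S ⧸ N₀) := by
    apply MonoidHom.eq_of_eqOn_dense (Cfsg.Agent.Lib.Helper66.quaternion_closure N)
    rintro t (rfl | rfl)
    · show (QuotientGroup.mk' N₀) (φ (QuaternionGroup.a 1)) = e.symm (QuaternionGroup.a 1)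
      rw [hφa]; exact hx
    · show (QuotientGroup.mk' N₀) (φ (QuaternionGroup.xa 0)) = e.symm (QuaternionGroup.xa 0)
      rw [hφb]; exact hy
  have hcomp' : ∀ t, (QuotientGroup.mk' N₀) (φ t) = e.symm t := fun t =>
    DFunLike.congr_fun hcomp t
  have hφinj : Function.Injective φ := by
    intro t₁ t₂ h
    apply e.symm.injective
    rw [← hcomp', ← hcomp', h]
  refine ⟨N₀, φ.range, ⟨le_top, le_top, ?_, ?_, ?_⟩, ⟨?_, ?_⟩, ?_, ?_⟩
  · intro a ha b _
    exact hcen i₀ a ha b
  · rw [eq_bot_iff]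
    rintro s ⟨hs1, ⟨t, rfl⟩⟩
    have h1 : (QuotientGroup.mk' N₀) (φ t) = 1 := by
      rw [QuotientGroup.mk'_apply, QuotientGroup.eq_one_iff]; exact hs1
    rw [hcomp'] at h1
    have : t = 1 := by
      apply e.symm.injective; rw [h1, map_one]
    rw [Subgroup.mem_bot, this, map_one]
  · rw [eq_top_iff, ← hgen, Subgroup.closure_le]
    rintro s ((rfl | rfl) | hs)
    · exact (le_sup_right : φ.range ≤ N₀ ⊔ φ.range) ⟨_, hφa⟩
    · exact (le_sup_right : φ.range ≤ N₀ ⊔ φ.range) ⟨_, hφb⟩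
    · exact (le_sup_left : N₀ ≤ N₀ ⊔ φ.range) hs
  · exact ⟨⟨fun a b => Subtype.ext (hcen i₀ a.1 a.2 b.1)⟩⟩
  · exact hsq' i₀
  · intro hcomm
    apply hna0
    refine ⟨⟨fun a b => ?_⟩⟩
    apply comm_of_closure_eq_top _ hgenT
    have hxy : x * y = y * x := by
      have := hcomm.is_comm.comm (⟨x, ⟨_, hφa⟩⟩ : φ.range) ⟨y, ⟨_, hφb⟩⟩
      exact congrArg Subtype.val this
    have hαβ : α * β = β * α := by
      rw [← hx, ← hy, ← QuotientGroup.mk_mul, ← QuotientGroup.mk_mul, hxy]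
    rintro c (rfl | rfl) d (rfl | rfl)
    · rfl
    · exact hαβ
    · exact hαβ.symm
    · rfl
  · obtain ⟨u₀, hu₀, huu₀⟩ := hu0
    have hord : ∀ t : QuaternionGroup N, orderOf (φ t) = orderOf t := fun t =>
      orderOf_injective φ hφinj t
    refine ⟨⟨φ (e u₀), ⟨_, rfl⟩⟩, ?_, ?_⟩
    · show orderOf (⟨φ (e u₀), _⟩ : φ.range) = 2
      rw [← Subgroup.orderOf_coe, hord, MulEquiv.orderOf_eq, hu₀]
    · rintro ⟨q, ⟨t, rfl⟩⟩ hq
      have h1 : orderOf (φ t) = 2 := by
        rw [← hq, ← Subgroup.orderOf_coe]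
      rw [hord] at h1
      have h2 : orderOf (e.symm t) = 2 := by rw [MulEquiv.orderOf_eq, h1]
      have h3 := huu₀ _ h2
      have : t = e u₀ := by rw [← h3, MulEquiv.apply_symm_apply]
      apply Subtype.ext
      show φ t = φ (e u₀)
      rw [this]

end Cfsg.Agent.S3201
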