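import Cfsg.Statements.S3202
import Cfsg.Agent.Lib.Helper73.CommutatorConj2
import Cfsg.Agent.Lib.Helper73.Taussky
import Cfsg.Agent.Lib.Helper66.DihedralGen
import Cfsg.Agent.S0016

set_option autoImplicit false
open Cfsg

namespace Cfsg.Agent.S3202

open Cfsg.Agent.Lib.Helper73 in
/-- If `N` is a central normal subgroup of the finite 2-group `S` such that `S ⧸ N` is non-abelian with exactly one
involution, then the commutator subgroup of `S` is cyclic. -/
theorem isCyclic_commutator_of_quotient {S : Type*} [Group S] [Finite S] (hS : IsPGroup 2 S)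
    (N : Subgroup S) [hN : N.Normal] (hNc : ∀ z ∈ N, ∀ s : S, z * s = s * z)
    (hna : ¬ IsMulCommutative (S ⧸ N)) (hu : ∃! x : S ⧸ N, orderOf x = 2) :
    IsCyclic (commutator S) := by
  have : Fact (Nat.Prime 2) := ⟨Nat.prime_two⟩
  have hT : IsPGroup 2 (S ⧸ N) := hS.to_quotient N
  obtain ⟨u, hu2, huu⟩ := hu
  have hu1 : u ≠ 1 := by
    intro h; rw [h, orderOf_one] at hu2; omega
  have hmem : ∀ H : Subgroup (S ⧸ N), Nat.card H = 2 → u ∈ H := by
    intro H hH
    have hHf : Finite H := Nat.finite_of_card_ne_zero (by omega)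
    obtain ⟨t, ht⟩ := exists_prime_orderOf_dvd_card' (G := H) 2 (by rw [hH])
    have : orderOf (t : S ⧸ N) = 2 := by rw [Subgroup.orderOf_coe, ht]
    rw [← huu _ this]; exact t.2
  have huniq : ∀ H K : Subgroup (S ⧸ N), Nat.card H = 2 → Nat.card K = 2 → H = K := by
    intro H K hH hK
    exact subgroup_eq_of_card_two H K hH hK u (hmem H hH) (hmem K hK) hu1
  rcases Cfsg.Agent.S0016.result 2 hT huniq with hcyc | ⟨-, n, ⟨e⟩⟩
  · exfalso
    apply hna
    obtain ⟨g, hg⟩ := hcyc.exists_generator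
    refine ⟨⟨fun a b => ?_⟩⟩
    obtain ⟨k, rfl⟩ := Subgroup.mem_zpowers_iff.mp (hg a)
    obtain ⟨l, rfl⟩ := Subgroup.mem_zpowers_iff.mp (hg b)
    exact (Commute.zpow_zpow (Commute.refl g) k l).eq
  · set α := e.symm (QuaternionGroup.a 1) with hα
    set β := e.symm (QuaternionGroup.xa 0) with hβ
    have hrel : β * α * β⁻¹ = α⁻¹ := by
      rw [hα, hβ, ← map_inv, ← map_mul, ← map_inv, ← map_mul,
        Cfsg.Agent.Lib.Helper66.quaternion_rel]
    have hgenT : Subgroup.closure {α, β} = ⊤ := by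
      have h1 := Cfsg.Agent.Lib.Helper66.quaternion_closure (2 ^ n)
      have h2 := congrArg (Subgroup.map (e.symm : QuaternionGroup (2 ^ n) →* S ⧸ N)) h1
      rw [MonoidHom.map_closure, Set.image_pair, ← MonoidHom.range_eq_map,
        MonoidHom.range_eq_top.mpr e.symm.surjective] at h2
      exact h2
    obtain ⟨x, hx⟩ := QuotientGroup.mk_surjective α
    obtain ⟨y, hy⟩ := QuotientGroup.mk_surjective β
    set w := x * (y * x * y⁻¹) with hwdef
    have hwN : w ∈ N := by
      have h1 : ((x⁻¹ : S) : S ⧸ N) = ((y * x * y⁻¹ : S) : S ⧸ N) := by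
        rw [QuotientGroup.mk_mul, QuotientGroup.mk_mul, QuotientGroup.mk_inv, QuotientGroup.mk_inv,
          hx, hy, hrel]
      have := QuotientGroup.eq.mp h1
      rwa [inv_inv] at this
    have hconj : y * x * y⁻¹ = x ^ (-1 : ℤ) * w := by
      rw [hwdef, zpow_neg, zpow_one, inv_mul_cancel_left]
    have hgen : Subgroup.closure ({x, y} ∪ (N : Set S)) = ⊤ := by
      set L := Subgroup.closure ({x, y} ∪ (N : Set S)) with hL
      have hmap : Subgroup.map (QuotientGroup.mk' N) L = ⊤ := by
        rw [eq_top_iff, ← hgenT, Subgroup.closure_le]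
        rintro t (rfl | rfl)
        · exact ⟨x, Subgroup.subset_closure (by simp), hx⟩
        · exact ⟨y, Subgroup.subset_closure (by simp), hy⟩
      rw [eq_top_iff]
      intro s _
      have h1 : (QuotientGroup.mk' N) s ∈ Subgroup.map (QuotientGroup.mk' N) L := by
        rw [hmap]; trivial
      obtain ⟨l, hl, hls⟩ := h1
      have h3 : l⁻¹ * s ∈ N := QuotientGroup.eq.mp hls
      have h4 : l⁻¹ * s ∈ L := Subgroup.subset_closure (Or.inr h3)
      have : s = l * (l⁻¹ * s) := by group
      rw [this]; exact mul_mem hl h4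
    have hle := commutator_le_zpowers_of_conj' x y w (N : Set S) (-1) hNc (hNc w hwN) hconj hgen
    have hcyc : IsCyclic (Subgroup.zpowers (x * y * x⁻¹ * y⁻¹)) := inferInstance
    have e2 := Subgroup.subgroupOfEquivOfLe hle
    have : IsCyclic ((commutator S).subgroupOf (Subgroup.zpowers (x * y * x⁻¹ * y⁻¹))) :=
      inferInstance
    exact isCyclic_of_surjective e2 e2.surjective

/-- Let S be a finite 2-group of 2-rank exactly 2 and D a maximal subgroup of the centre of S such that S/D is a non-abelian group with exactly one involution (a generalized quaternion group). Then S has a nontrivial cyclic characteristic subgroup. -/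
theorem result {S : Type*} [Group S]
    [Finite S] (hS : IsPGroup 2 S) (hr2 : Cfsg.PRankLE 2 2 S) (hr1 : ¬ Cfsg.PRankLE 2 1 S)
    (D : Subgroup ↥(Subgroup.center S)) (hD : IsCoatom D)
    (hq : ∃ (_ : (D.map (Subgroup.center S).subtype).Normal),
      ¬ IsMulCommutative (S ⧸ D.map (Subgroup.center S).subtype) ∧
      ∃! x : S ⧸ D.map (Subgroup.center S).subtype, orderOf x = 2) :
    ∃ C : Subgroup S, C ≠ ⊥ ∧ IsCyclic ↥C ∧ C.Characteristic := by
  obtain ⟨hN, hna, hu⟩ := hq
  have hNc : ∀ z ∈ D.map (Subgroup.center S).subtype, ∀ s : S, z * s = s * z := by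
    rintro _ ⟨z, -, rfl⟩ s
    exact ((Subgroup.mem_center_iff.mp z.2) s).symm
  refine ⟨commutator S, ?_, isCyclic_commutator_of_quotient hS _ hNc hna hu, inferInstance⟩
  intro hbot
  apply hna
  refine ⟨⟨fun a b => ?_⟩⟩
  obtain ⟨a, rfl⟩ := QuotientGroup.mk_surjective a
  obtain ⟨b, rfl⟩ := QuotientGroup.mk_surjective b
  have hab : a * b = b * a := by
    by_contra hne
    exact Cfsg.Agent.Lib.Helper73.commutator_ne_bot_of_not_comm ⟨a, b, hne⟩ hbot
  rw [← QuotientGroup.mk_mul, ← QuotientGroup.mk_mul, hab]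

end Cfsg.Agent.S3202
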