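import Cfsg.Statements.S3203
import Mathlib

set_option autoImplicit false
open Cfsg

namespace Cfsg.Agent.S3203

/-- conjugate of a subgroup -/
abbrev cj {G : Type*} [Group G] (g : G) (W : Subgroup G) : Subgroup G :=
  W.map (MulAut.conj g).toMonoidHom

theorem mem_cj {G : Type*} [Group G] (g : G) (W : Subgroup G) (x : G) :
    x ∈ cj g W ↔ g⁻¹ * x * g ∈ W := by
  constructor
  · rintro ⟨w, hw, rfl⟩
    simpa [MulAut.conj_apply, mul_assoc] using hw
  · intro h
    exact ⟨g⁻¹ * x * g, h, by simp [MulAut.conj_apply, mul_assoc]⟩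

theorem cj_cj {G : Type*} [Group G] (g h : G) (W : Subgroup G) : cj g (cj h W) = cj (g * h) W := by
  ext x
  rw [mem_cj, mem_cj, mem_cj]
  have : h⁻¹ * (g⁻¹ * x * g) * h = (g * h)⁻¹ * x * (g * h) := by group
  rw [this]

theorem cj_one {G : Type*} [Group G] (W : Subgroup G) : cj 1 W = W := by
  ext x; rw [mem_cj]; simp

theorem cj_mono {G : Type*} [Group G] (g : G) {W V : Subgroup G} (h : W ≤ V) : cj g W ≤ cj g V :=
  Subgroup.map_mono h

theorem cj_inj {G : Type*} [Group G] (g : G) {W V : Subgroup G} (h : cj g W = cj g V) : W = V := by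
  have := congrArg (cj g⁻¹) h
  rwa [cj_cj, cj_cj, inv_mul_cancel, cj_one, cj_one] at this

theorem card_cj {G : Type*} [Group G] (g : G) (W : Subgroup G) : Nat.card (cj g W) = Nat.card W :=
  Subgroup.card_map_of_injective (MulAut.conj g).injective

theorem cj_eq_of_le {G : Type*} [Group G] [Finite G] (g : G) {W V : Subgroup G}
    (h : cj g W ≤ V) (hc : Nat.card V ≤ Nat.card W) : cj g W = V :=
  Subgroup.eq_of_le_of_card_ge h (by rw [card_cj]; exact hc)

theorem cj_self {G : Type*} [Group G] {g : G} {W : Subgroup G} (hg : g ∈ W) : cj g W = W := by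
  ext x
  rw [mem_cj]
  constructor
  · intro h
    have : x = g * (g⁻¹ * x * g) * g⁻¹ := by group
    rw [this]
    exact W.mul_mem (W.mul_mem hg h) (W.inv_mem hg)
  · intro h
    exact W.mul_mem (W.mul_mem (W.inv_mem hg) h) hg

theorem mem_normalizer_of_cj_eq {J : Type*} [Group J] (W : Subgroup J) (g : J)
    (h : cj g W = W) : g ∈ Subgroup.normalizer (W : Set J) := by
  rw [Subgroup.mem_normalizer_iff]
  intro x
  constructor
  · intro hx
    rw [← h]
    exact ⟨x, hx, rfl⟩
  · intro hx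
    rw [← h] at hx
    obtain ⟨w, hw, hwx⟩ := hx
    have : w = x := by
      have h2 : g * w * g⁻¹ = g * x * g⁻¹ := by simpa using hwx
      have h3 := mul_right_cancel h2
      exact mul_left_cancel h3
    rwa [← this]

theorem cj_eq_of_mem_normalizer {J : Type*} [Group J] (W : Subgroup J) (g : J)
    (h : g ∈ Subgroup.normalizer (W : Set J)) : cj g W = W := by
  ext x
  rw [mem_cj]
  have hi : g⁻¹ ∈ Subgroup.normalizer (W : Set J) := Subgroup.inv_mem _ h
  rw [Subgroup.mem_normalizer_iff] at hi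
  have := hi x
  rw [inv_inv] at this
  exact this.symm

theorem ea_iff {G : Type*} [Group G] (p : ℕ) (A : Subgroup G) :
    Cfsg.IsElementaryAbelian p A ↔ (∀ a ∈ A, ∀ b ∈ A, a * b = b * a) ∧ ∀ a ∈ A, a ^ p = 1 := by
  unfold Cfsg.IsElementaryAbelian
  constructor
  · rintro ⟨h1, h2⟩
    refine ⟨fun a ha b hb => ?_, h2⟩
    have := h1.is_comm.comm ⟨a, ha⟩ ⟨b, hb⟩
    exact congrArg Subtype.val this
  · rintro ⟨h1, h2⟩
    exact ⟨⟨⟨fun a b => Subtype.ext (h1 a a.2 b b.2)⟩⟩, h2⟩

theorem ea_cj {G : Type*} [Group G] (p : ℕ) (g : G) (A : Subgroup G)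
    (h : Cfsg.IsElementaryAbelian p A) : Cfsg.IsElementaryAbelian p (cj g A) := by
  rw [ea_iff] at h ⊢
  refine ⟨fun a ha b hb => ?_, fun a ha => ?_⟩
  · rw [mem_cj] at ha hb
    have := h.1 _ ha _ hb
    have h1 : g⁻¹ * a * g * (g⁻¹ * b * g) = g⁻¹ * (a * b) * g := by group
    have h2 : g⁻¹ * b * g * (g⁻¹ * a * g) = g⁻¹ * (b * a) * g := by group
    rw [h1, h2] at this
    exact mul_left_cancel (mul_right_cancel this)
  · rw [mem_cj] at ha
    have := h.2 _ ha
    have h1 : (g⁻¹ * a * g) ^ p = g⁻¹ * a ^ p * g := by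
      have := conj_pow (a := g⁻¹) (b := a) (i := p)
      simpa using this
    rw [h1] at this
    have h2 : a ^ p = g * (g⁻¹ * a ^ p * g) * g⁻¹ := by group
    rw [h2, this]; group

theorem ea_map_subtype {G : Type*} [Group G] (p : ℕ) (S : Subgroup G) (E : Subgroup S) :
    Cfsg.IsElementaryAbelian p E ↔ Cfsg.IsElementaryAbelian p (E.map S.subtype) := by
  rw [ea_iff, ea_iff]
  constructor
  · rintro ⟨h1, h2⟩
    refine ⟨?_, ?_⟩
    · rintro _ ⟨a, ha, rfl⟩ _ ⟨b, hb, rfl⟩
      exact congrArg Subtype.val (h1 a ha b hb)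
    · rintro _ ⟨a, ha, rfl⟩
      have := congrArg Subtype.val (h2 a ha)
      simpa using this
  · rintro ⟨h1, h2⟩
    refine ⟨fun a ha b hb => ?_, fun a ha => ?_⟩
    · exact Subtype.ext (h1 a ⟨a, ha, rfl⟩ b ⟨b, hb, rfl⟩)
    · apply Subtype.ext
      have := h2 a ⟨a, ha, rfl⟩
      simpa using this

/-- every `p`-subgroup is conjugate into a given Sylow `p`-subgroup (elementwise form). -/
theorem exists_conj_mem_sylow {J : Type*} [Group J] [Finite J] {p : ℕ} [Fact p.Prime]
    (P : Sylow p J) (R : Subgroup J) (hR : IsPGroup p R) :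
    ∃ k : J, ∀ r ∈ R, k⁻¹ * r * k ∈ (P : Subgroup J) := by
  obtain ⟨Q, hQ⟩ := hR.exists_le_sylow
  obtain ⟨k, hk⟩ := MulAction.exists_smul_eq J P Q
  refine ⟨k, fun r hr => ?_⟩
  have h1 : r ∈ (Q : Subgroup J) := hQ hr
  rw [← hk, Sylow.coe_subgroup_smul, Subgroup.mem_pointwise_smul_iff_inv_smul_mem] at h1
  simpa [MulAut.smul_def, MulAut.conj_apply] using h1

/-- relative version: if a Sylow subgroup `U` of `G` lies in `H`, every `p`-subgroup of `H` is
`H`-conjugate into `U`. -/
theorem exists_conj_mem_sylow_of_le {J : Type*} [Group J] [Finite J] {p : ℕ} [Fact p.Prime]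
    (U : Sylow p J) (H : Subgroup J) (hUH : (U : Subgroup J) ≤ H) (D : Subgroup J) (hDH : D ≤ H)
    (hD : IsPGroup p D) :
    ∃ c ∈ H, ∀ d ∈ D, c⁻¹ * d * c ∈ (U : Subgroup J) := by
  obtain ⟨k, hk⟩ := exists_conj_mem_sylow (U.subtype hUH) (D.subgroupOf H) hD.comap_subtype
  refine ⟨k, k.2, fun d hd => ?_⟩
  have := hk ⟨d, hDH hd⟩ (by simpa [Subgroup.mem_subgroupOf] using hd)
  rw [Sylow.coe_subtype, Subgroup.mem_subgroupOf] at this
  simpa using this

/-- the carrier of `g • S` is `cj g S` -/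
theorem sylow_smul_eq_cj {G : Type*} [Group G] {p : ℕ} (g : G) (S : Sylow p G) :
    ((g • S : Sylow p G) : Subgroup G) = cj g (S : Subgroup G) := by
  ext x
  rw [mem_cj, Sylow.coe_subgroup_smul, Subgroup.mem_pointwise_smul_iff_inv_smul_mem]
  simp [MulAut.smul_def]

section main

variable {G : Type*} [Group G] [Finite G] (S : Sylow 2 G)

/-- The abstract situation inside `G`: two distinct elementary abelian subgroups `A`, `B` of the
Sylow 2-subgroup `S` such that every elementary abelian subgroup of `S` lies in one of them,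
and `S = A B`. -/
structure Sit (A B : Subgroup G) : Prop where
  hAS : A ≤ (S : Subgroup G)
  hBS : B ≤ (S : Subgroup G)
  hA : Cfsg.IsElementaryAbelian 2 A
  hB : Cfsg.IsElementaryAbelian 2 B
  hAB : ¬ A ≤ B
  hBA : ¬ B ≤ A
  hall : ∀ W : Subgroup G, W ≤ (S : Subgroup G) → Cfsg.IsElementaryAbelian 2 W → W ≤ A ∨ W ≤ B
  hprod : ∀ s ∈ (S : Subgroup G), ∃ a ∈ A, ∃ b ∈ B, a * b = s

variable {S}

omit [Finite G] in
theorem Sit.symm {A B : Subgroup G} (h : Sit S A B) : Sit S B A where
  hAS := h.hBS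
  hBS := h.hAS
  hA := h.hB
  hB := h.hA
  hAB := h.hBA
  hBA := h.hAB
  hall := fun W hW hE => (h.hall W hW hE).symm
  hprod := fun s hs => by
    obtain ⟨a, ha, b, hb, hab⟩ := h.hprod s⁻¹ (Subgroup.inv_mem _ hs)
    refine ⟨b⁻¹, Subgroup.inv_mem _ hb, a⁻¹, Subgroup.inv_mem _ ha, ?_⟩
    rw [← mul_inv_rev, hab, inv_inv]

/-- an element normalizing `S` permutes `{A, B}` -/
theorem Sit.cj_normalizer {A B : Subgroup G} (h : Sit S A B) (n : G)
    (hn : n ∈ Subgroup.normalizer ((S : Subgroup G) : Set G)) : cj n A = A ∨ cj n A = B := by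
  have hnS : cj n (S : Subgroup G) = S := cj_eq_of_mem_normalizer _ _ hn
  have hniS : cj n⁻¹ (S : Subgroup G) = S := cj_eq_of_mem_normalizer _ _ (Subgroup.inv_mem _ hn)
  have h1 : cj n A ≤ (S : Subgroup G) := by
    calc cj n A ≤ cj n (S : Subgroup G) := cj_mono n h.hAS
      _ = S := hnS
  rcases h.hall _ h1 (ea_cj 2 n A h.hA) with h2 | h2
  · left
    exact cj_eq_of_le n h2 le_rfl
  · right
    -- A ≤ cj n⁻¹ B
    have h3 : A ≤ cj n⁻¹ B := by
      have := cj_mono n⁻¹ h2
      rwa [cj_cj, inv_mul_cancel, cj_one] at this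
    have h4 : cj n⁻¹ B ≤ (S : Subgroup G) := by
      calc cj n⁻¹ B ≤ cj n⁻¹ (S : Subgroup G) := cj_mono _ h.hBS
        _ = S := hniS
    rcases h.hall _ h4 (ea_cj 2 n⁻¹ B h.hB) with h5 | h5
    · have h6 : A = cj n⁻¹ B := le_antisymm h3 h5
      rw [h6, cj_cj, mul_inv_cancel, cj_one]
    · exact absurd (h3.trans h5) h.hAB

/-- elements of `S` normalize `A` -/
theorem Sit.cj_mem_S {A B : Subgroup G} (h : Sit S A B) (s : G) (hs : s ∈ (S : Subgroup G)) :
    cj s A = A := by
  obtain ⟨a, ha, b, hb, rfl⟩ := h.hprod s hs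
  have hbN : b ∈ Subgroup.normalizer ((S : Subgroup G) : Set G) := Subgroup.le_normalizer (h.hBS hb)
  have h1 : cj b A = A := by
    rcases h.cj_normalizer b hbN with h1 | h1
    · exact h1
    · exfalso
      have h2 : cj b B = B := cj_self hb
      rw [← h2] at h1
      have := cj_inj b h1
      exact h.hAB this.le
  rw [← cj_cj, h1, cj_self ha]

/-- no element of `N_G(S)` swaps `A` and `B` -/
theorem Sit.normalizer_le {A B : Subgroup G} (h : Sit S A B) (n : G)
    (hn : n ∈ Subgroup.normalizer ((S : Subgroup G) : Set G)) : cj n A = A := by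
  haveI : Fact (Nat.Prime 2) := ⟨Nat.prime_two⟩
  rcases h.cj_normalizer n hn with h1 | h1
  · exact h1
  · exfalso
    have h2 : cj n B = A := by
      rcases h.symm.cj_normalizer n hn with h2 | h2
      · exfalso
        rw [← h2] at h1
        exact h.hAB (cj_inj n h1).le
      · exact h2
    -- even powers fix, odd powers swap
    have hpow : ∀ j : ℕ, cj (n ^ (2 * j)) A = A ∧ cj (n ^ (2 * j)) B = B := by
      intro j
      induction j with
      | zero => simp [cj_one]
      | succ j ih =>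
        have : n ^ (2 * (j + 1)) = n ^ (2 * j) * (n * n) := by
          rw [mul_add, pow_add]; simp [pow_two]
        rw [this]
        constructor
        · rw [← cj_cj, ← cj_cj, h1, h2, ih.1]
        · rw [← cj_cj, ← cj_cj, h2, h1, ih.2]
    have hodd : ∀ m : ℕ, Odd m → cj (n ^ m) A = B := by
      rintro m ⟨j, rfl⟩
      rw [pow_succ, ← cj_cj, h1, (hpow j).2]
    have hord : orderOf n ≠ 0 := (orderOf_pos n).ne'
    obtain ⟨k, m, hm, hkm⟩ := Nat.exists_eq_two_pow_mul_odd hord
    have hnm : n ^ m ∈ (S : Subgroup G) := by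
      have hord2 : orderOf (n ^ m) = 2 ^ k := by
        rw [orderOf_pow_of_dvd hm.pos.ne' (Dvd.intro_left _ hkm.symm), hkm]
        exact Nat.mul_div_cancel _ hm.pos
      have hp : IsPGroup 2 (Subgroup.zpowers (n ^ m)) := by
        apply IsPGroup.of_card (n := k)
        rw [Nat.card_zpowers, hord2]
      have h3 := hp.inf_normalizer_sylow S
      have h4 : n ^ m ∈ Subgroup.zpowers (n ^ m) ⊓ Subgroup.normalizer (S : Set G) :=
        ⟨Subgroup.mem_zpowers _, Subgroup.pow_mem _ hn m⟩
      rw [h3] at h4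
      exact h4.2
    have h5 := h.cj_mem_S _ hnm
    rw [hodd m hm] at h5
    exact h.hBA h5.le

/-- weak closure of `A` -/
theorem Sit.weaklyClosed {A B : Subgroup G} (h : Sit S A B) (g : G)
    (hg : cj g A ≤ (S : Subgroup G)) : cj g A = A := by
  haveI : Fact (Nat.Prime 2) := ⟨Nat.prime_two⟩
  set Q := cj g A with hQ
  rcases h.hall Q hg (ea_cj 2 g A h.hA) with h1 | h1
  · exact cj_eq_of_le g h1 le_rfl
  · exfalso
    -- Step 1: Q = B
    have hQB : Q = B := by
      set M := Subgroup.normalizer (Q : Set G) with hM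
      have hgSM : ((g • S : Sylow 2 G) : Subgroup G) ≤ M := by
        rw [sylow_smul_eq_cj]
        intro x hx
        rw [mem_cj] at hx
        have h2 := h.cj_mem_S _ hx
        apply mem_normalizer_of_cj_eq
        have : x = g * (g⁻¹ * x * g) * g⁻¹ := by group
        rw [this, hQ, cj_cj, ← cj_cj, ← cj_cj, ← cj_cj, cj_cj g⁻¹ g, inv_mul_cancel, cj_one, h2]
      have hBM : B ≤ M := by
        intro b hb
        apply mem_normalizer_of_cj_eq
        ext x
        rw [mem_cj]
        have hBc := ((ea_iff 2 B).mp h.hB).1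
        constructor
        · intro hx
          have h3 := hBc _ hb _ (h1 hx)
          have : x = b * (b⁻¹ * x * b) * b⁻¹ := by group
          rw [this, h3]
          simpa using hx
        · intro hx
          have h3 := hBc _ hb _ (h1 hx)
          have : b⁻¹ * x * b = x := by rw [mul_assoc, ← h3]; group
          rwa [this]
      obtain ⟨c, hcM, hc⟩ := exists_conj_mem_sylow_of_le (g • S) M hgSM B hBM (S.2.to_le h.hBS)
      -- k = g⁻¹ c⁻¹
      set k := g⁻¹ * c⁻¹ with hk
      have hkB : cj k B ≤ (S : Subgroup G) := by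
        intro x hx
        rw [mem_cj] at hx
        have h3 := hc _ hx
        rw [sylow_smul_eq_cj, mem_cj] at h3
        have : x = g⁻¹ * (c⁻¹ * (k⁻¹ * x * k) * c) * g := by rw [hk]; group
        rw [this]; exact h3
      have hkQ : cj k Q = A := by
        rw [hk, ← cj_cj, cj_eq_of_mem_normalizer Q c⁻¹ (Subgroup.inv_mem _ hcM), hQ, cj_cj,
          inv_mul_cancel, cj_one]
      have hAkB : A ≤ cj k B := by
        rw [← hkQ]; exact cj_mono k h1
      rcases h.hall _ hkB (ea_cj 2 k B h.hB) with h3 | h3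
      · have : cj k B = cj k Q := by rw [hkQ]; exact le_antisymm h3 hAkB
        exact (cj_inj k this).symm
      · exact absurd (hAkB.trans h3) h.hAB
    -- Step 2: Burnside
    set M := Subgroup.normalizer (B : Set G) with hM
    have hSM : (S : Subgroup G) ≤ M := fun s hs =>
      mem_normalizer_of_cj_eq _ _ (h.symm.cj_mem_S s hs)
    have hgSM : ((g • S : Sylow 2 G) : Subgroup G) ≤ M := by
      rw [sylow_smul_eq_cj]
      intro x hx
      rw [mem_cj] at hx
      have h2 := h.cj_mem_S _ hx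
      apply mem_normalizer_of_cj_eq
      have : x = g * (g⁻¹ * x * g) * g⁻¹ := by group
      rw [this, ← hQB, hQ, cj_cj, ← cj_cj, ← cj_cj, ← cj_cj, cj_cj g⁻¹ g, inv_mul_cancel, cj_one, h2]
    obtain ⟨c, hcM, hc⟩ := exists_conj_mem_sylow_of_le S M hSM _ hgSM (g • S).2
    set k := c⁻¹ * g with hk
    have hkS : cj k (S : Subgroup G) ≤ S := by
      intro x hx
      rw [mem_cj] at hx
      have h3 : g * (k⁻¹ * x * k) * g⁻¹ ∈ ((g • S : Sylow 2 G) : Subgroup G) := by
        rw [sylow_smul_eq_cj, mem_cj]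
        have : g⁻¹ * (g * (k⁻¹ * x * k) * g⁻¹) * g = k⁻¹ * x * k := by group
        rwa [this]
      have h4 := hc _ h3
      have : x = c⁻¹ * (g * (k⁻¹ * x * k) * g⁻¹) * c := by rw [hk]; group
      rw [this]; exact h4
    have hkN : k ∈ Subgroup.normalizer ((S : Subgroup G) : Set G) :=
      mem_normalizer_of_cj_eq _ _ (cj_eq_of_le k hkS le_rfl)
    have h5 := h.normalizer_le k hkN
    have h6 : cj k A = B := by
      rw [hk, ← cj_cj, ← hQ, hQB, cj_eq_of_mem_normalizer B c⁻¹ (Subgroup.inv_mem _ hcM)]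
    rw [h5] at h6
    exact h.hAB h6.le

end main


/-- Let S be a Sylow 2-subgroup of a finite group G having exactly two subgroups A ≠ B that are maximal among its elementary abelian subgroups, with S = AB. Then A and B are each weakly closed in S with respect to G, and the normalizer of S normalizes both A and B. -/
theorem result {G : Type*} [Group G] [Finite G] (S : Sylow 2 G)
    (A B : Subgroup ↥(S : Subgroup G)) (hAB : A ≠ B)
    (hA : Cfsg.IsElementaryAbelian 2 A ∧ ∀ C : Subgroup ↥(S : Subgroup G), Cfsg.IsElementaryAbelian 2 C → A ≤ C → C = A)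
    (hB : Cfsg.IsElementaryAbelian 2 B ∧ ∀ C : Subgroup ↥(S : Subgroup G), Cfsg.IsElementaryAbelian 2 C → B ≤ C → C = B)
    (honly : ∀ C : Subgroup ↥(S : Subgroup G), Cfsg.IsElementaryAbelian 2 C →
      (∀ D : Subgroup ↥(S : Subgroup G), Cfsg.IsElementaryAbelian 2 D → C ≤ D → D = C) → C = A ∨ C = B)
    (hprod : ∀ s : ↥(S : Subgroup G), ∃ a ∈ A, ∃ b ∈ B, a * b = s)
    (A' B' : Subgroup G) (hA' : A' = A.map (S : Subgroup G).subtype) (hB' : B' = B.map (S : Subgroup G).subtype) :
    Cfsg.IsWeaklyClosed A' (S : Subgroup G) ∧ Cfsg.IsWeaklyClosed B' (S : Subgroup G) ∧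
      Subgroup.normalizer ((S : Subgroup G) : Set G) ≤ Subgroup.normalizer (A' : Set G) ⊓ Subgroup.normalizer (B' : Set G) := by
  have hmapinj : Function.Injective (Subgroup.map (S : Subgroup G).subtype) :=
    Subgroup.map_injective (S : Subgroup G).subtype_injective
  have hall : ∀ W : Subgroup G, W ≤ (S : Subgroup G) → Cfsg.IsElementaryAbelian 2 W → W ≤ A' ∨ W ≤ B' := by
    intro W hWS hW
    set E := W.subgroupOf (S : Subgroup G) with hE
    have hEW : E.map (S : Subgroup G).subtype = W := Subgroup.map_subgroupOf_eq_of_le hWS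
    have hEea : Cfsg.IsElementaryAbelian 2 E := by
      rw [ea_map_subtype, hEW]; exact hW
    obtain ⟨M, hEM, hM⟩ := Set.Finite.exists_le_maximal
      (s := {E : Subgroup ↥(S : Subgroup G) | Cfsg.IsElementaryAbelian 2 E}) (Set.toFinite _) hEea
    have hM1 : Cfsg.IsElementaryAbelian 2 M := hM.1
    have hM2 : ∀ D : Subgroup ↥(S : Subgroup G), Cfsg.IsElementaryAbelian 2 D → M ≤ D → D = M :=
      fun D hD hMD => le_antisymm (hM.2 hD hMD) hMD
    rcases honly M hM1 hM2 with h | h
    · left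
      rw [← hEW, hA']
      exact Subgroup.map_mono (h ▸ hEM)
    · right
      rw [← hEW, hB']
      exact Subgroup.map_mono (h ▸ hEM)
  have hsit : Sit S A' B' :=
    { hAS := by rw [hA']; exact Subgroup.map_subtype_le _
      hBS := by rw [hB']; exact Subgroup.map_subtype_le _
      hA := by rw [hA', ← ea_map_subtype]; exact hA.1
      hB := by rw [hB', ← ea_map_subtype]; exact hB.1
      hAB := by
        intro h
        rw [hA', hB', Subgroup.map_subtype_le_map_subtype] at h
        exact hAB (hA.2 B hB.1 h).symm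
      hBA := by
        intro h
        rw [hA', hB', Subgroup.map_subtype_le_map_subtype] at h
        exact hAB (hB.2 A hA.1 h)
      hall := hall
      hprod := by
        intro s hs
        obtain ⟨a, ha, b, hb, hab⟩ := hprod ⟨s, hs⟩
        refine ⟨a, ?_, b, ?_, ?_⟩
        · rw [hA']; exact ⟨a, ha, rfl⟩
        · rw [hB']; exact ⟨b, hb, rfl⟩
        · exact congrArg Subtype.val hab }
  refine ⟨⟨hsit.hAS, fun g hg => hsit.weaklyClosed g hg⟩,
    ⟨hsit.hBS, fun g hg => hsit.symm.weaklyClosed g hg⟩, ?_⟩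
  intro n hn
  exact ⟨mem_normalizer_of_cj_eq _ _ (hsit.normalizer_le n hn),
    mem_normalizer_of_cj_eq _ _ (hsit.symm.normalizer_le n hn)⟩

end Cfsg.Agent.S3203
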