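import Cfsg.Statements.S3208
import Mathlib

set_option autoImplicit false
open Cfsg

namespace Cfsg.Agent.S3208

theorem exists_normalizer_of_lt {G : Type*} [Group G] {p : ℕ} [Fact p.Prime] {T Q : Subgroup G}
    [Finite Q] (hQ : IsPGroup p Q) (hlt : T < Q) :
    ∃ n ∈ Q, n ∈ Subgroup.normalizer (T : Set G) ∧ n ∉ T := by
  haveI : Group.IsNilpotent Q := hQ.isNilpotent
  have hnc := Group.normalizerCondition_of_isNilpotent (G := Q)
  have hT' : T.subgroupOf Q < ⊤ := by
    rw [lt_top_iff_ne_top]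
    intro h
    rw [Subgroup.subgroupOf_eq_top] at h
    exact absurd (le_antisymm hlt.le h) hlt.ne
  have h1 := hnc _ hT'
  obtain ⟨n, hn1, hn2⟩ := SetLike.exists_of_lt h1
  refine ⟨n, n.2, ?_, ?_⟩
  · rw [Subgroup.mem_normalizer_iff]
    intro x
    rw [Subgroup.mem_normalizer_iff] at hn1
    constructor
    · intro hx
      have hxQ : x ∈ Q := hlt.le hx
      have := (hn1 ⟨x, hxQ⟩).mp (by simpa [Subgroup.mem_subgroupOf] using hx)
      simpa [Subgroup.mem_subgroupOf] using this
    · intro hx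
      have hxQ : x ∈ Q := by
        have h2 : (n:G) * x * (n:G)⁻¹ ∈ Q := hlt.le hx
        have : x = (n:G)⁻¹ * ((n:G) * x * (n:G)⁻¹) * (n:G) := by group
        rw [this]
        exact Q.mul_mem (Q.mul_mem (Q.inv_mem n.2) h2) n.2
      have := (hn1 ⟨x, hxQ⟩).mpr (by simpa [Subgroup.mem_subgroupOf] using hx)
      simpa [Subgroup.mem_subgroupOf] using this
  · simpa [Subgroup.mem_subgroupOf] using hn2

/-- Let j be an involution of a finite group G, H a subgroup of G, and T a Sylow 2-subgroup of H ∩ C_G(j) containing j such that ⟨j⟩ is a characteristic subgroup of T. Then T is a Sylow 2-subgroup of H. -/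
theorem result {G : Type*} [Group G] [Finite G]
    (j : G) (hj : orderOf j = 2) (H T : Subgroup G) (hT : T ≤ H ⊓ Subgroup.centralizer ({j} : Set G)) (h2 : IsPGroup 2 ↥T)
    (hSyl : ¬ 2 ∣ T.relIndex (H ⊓ Subgroup.centralizer ({j} : Set G))) (hjT : j ∈ T)
    (hchar : ((Subgroup.zpowers j).subgroupOf T).Characteristic) :
    ¬ 2 ∣ T.relIndex H := by
  haveI : Fact (Nat.Prime 2) := ⟨Nat.prime_two⟩
  have hTH : T ≤ H := hT.trans inf_le_left
  -- a Sylow 2-subgroup of H containing T
  have h2' : IsPGroup 2 (T.subgroupOf H) := h2.comap_subtype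
  obtain ⟨Q, hQ⟩ := h2'.exists_le_sylow
  set Q' : Subgroup G := (Q : Subgroup H).map H.subtype with hQ'
  have hQ'H : Q' ≤ H := Subgroup.map_subtype_le _
  have hTQ' : T ≤ Q' := by
    intro x hx
    refine ⟨⟨x, hTH hx⟩, hQ (by simpa [Subgroup.mem_subgroupOf] using hx), rfl⟩
  have hQ'p : IsPGroup 2 Q' := Q.2.map _
  by_cases hEq : T = Q'
  · -- T is Sylow in H
    have h3 : T.subgroupOf H = (Q : Subgroup H) := by
      rw [hEq, hQ']
      exact Subgroup.comap_map_eq_self_of_injective H.subtype_injective _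
    rw [Subgroup.relIndex, h3]
    exact Q.not_dvd_index
  · exfalso
    have hlt : T < Q' := lt_of_le_of_ne hTQ' hEq
    obtain ⟨n, hnQ, hnN, hnT⟩ := exists_normalizer_of_lt hQ'p hlt
    -- conjugation by n as an automorphism of T
    have hnN' : ∀ x, x ∈ T ↔ n * x * n⁻¹ ∈ T := fun x => (Subgroup.mem_normalizer_iff.mp hnN) x
    have hnNi : ∀ x, x ∈ T → n⁻¹ * x * n ∈ T := by
      intro x hx
      rw [hnN']
      have : n * (n⁻¹ * x * n) * n⁻¹ = x := by group
      rwa [this]
    let φ : T ≃* T :=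
      { toFun := fun t => ⟨n * t * n⁻¹, (hnN' t).mp t.2⟩
        invFun := fun t => ⟨n⁻¹ * t * n, hnNi t t.2⟩
        left_inv := by intro t; ext; simp; group
        right_inv := by intro t; ext; simp; group
        map_mul' := by intro a b; ext; simp }
    have hfix := hchar.fixed φ
    have hjmem : (⟨j, hjT⟩ : T) ∈ (Subgroup.zpowers j).subgroupOf T := by
      simp [Subgroup.mem_subgroupOf]
    rw [← hfix] at hjmem
    have hconj : n * j * n⁻¹ ∈ Subgroup.zpowers j := by
      simpa [Subgroup.mem_subgroupOf, φ] using hjmem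
    have hj2 : j ^ 2 = 1 := by rw [← hj]; exact pow_orderOf_eq_one j
    have hj1 : j ≠ 1 := by
      intro h; rw [h, orderOf_one] at hj; omega
    have hcj : n * j * n⁻¹ = j := by
      obtain ⟨k, hk⟩ := Subgroup.mem_zpowers_iff.mp hconj
      have hk' : j ^ (k % 2) = n * j * n⁻¹ := by
        have := zpow_mod_orderOf j k
        rw [hj] at this
        rw [← hk]; exact_mod_cast this
      rcases Int.emod_two_eq_zero_or_one k with h0 | h1
      · rw [h0, zpow_zero] at hk'
        exfalso
        apply hj1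
        have : j = n⁻¹ * (n * j * n⁻¹) * n := by group
        rw [this, ← hk']; group
      · rw [h1, zpow_one] at hk'
        exact hk'.symm
    have hnC : n ∈ Subgroup.centralizer ({j} : Set G) := by
      rw [Subgroup.mem_centralizer_singleton_iff]
      calc n * j = (n * j * n⁻¹) * n := by group
        _ = j * n := by rw [hcj]
    set R : Subgroup G := T ⊔ Subgroup.zpowers n with hR
    have hnR : n ∈ R := (le_sup_right : Subgroup.zpowers n ≤ R) (Subgroup.mem_zpowers n)
    have hTR : T ≤ R := le_sup_left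
    have hRQ : R ≤ Q' := sup_le hTQ' (by rw [Subgroup.zpowers_le]; exact hnQ)
    have hRM : R ≤ H ⊓ Subgroup.centralizer ({j} : Set G) :=
      sup_le hT (by rw [Subgroup.zpowers_le]; exact ⟨hQ'H hnQ, hnC⟩)
    have hRp : IsPGroup 2 R := hQ'p.to_le hRQ
    have hidx : T.relIndex R ∣ T.relIndex (H ⊓ Subgroup.centralizer ({j} : Set G)) :=
      Dvd.intro _ (Subgroup.relIndex_mul_relIndex _ _ _ hTR hRM)
    obtain ⟨k, hk⟩ := hRp.index (T.subgroupOf R)
    have hk0 : k ≠ 0 := by
      intro h0
      rw [h0, pow_zero, Subgroup.index_eq_one, Subgroup.subgroupOf_eq_top] at hk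
      exact hnT (hk hnR)
    apply hSyl
    refine dvd_trans ?_ hidx
    rw [Subgroup.relIndex, hk]
    exact dvd_pow_self 2 hk0

end Cfsg.Agent.S3208
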