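import Mathlib
import Cfsg.Statements.S3213

set_option autoImplicit false
set_option linter.unusedSectionVars false
set_option linter.unusedVariables false
open Cfsg

namespace Cfsg.Agent.S3213

open Matrix

lemma finrank_ker_comp_le {F : Type*} [Field F] {V : Type*} [AddCommGroup V] [Module F V]
    [FiniteDimensional F V] (f g : V →ₗ[F] V) :
    Module.finrank F (LinearMap.ker (f ∘ₗ g)) ≤
      Module.finrank F (LinearMap.ker g) + Module.finrank F (LinearMap.ker f) := by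
  set W := LinearMap.ker (f ∘ₗ g) with hW
  let h : W →ₗ[F] V := g ∘ₗ W.subtype
  have h1 := LinearMap.finrank_range_add_finrank_ker h
  have h2 : Module.finrank F (LinearMap.range h) ≤ Module.finrank F (LinearMap.ker f) := by
    apply Submodule.finrank_mono
    rintro _ ⟨w, rfl⟩
    have : (f ∘ₗ g) w.1 = 0 := LinearMap.mem_ker.mp w.2
    exact this
  have h3 : Module.finrank F (LinearMap.ker h) ≤ Module.finrank F (LinearMap.ker g) := by
    rw [← Submodule.finrank_map_subtype_eq W (LinearMap.ker h)]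
    apply Submodule.finrank_mono
    rintro _ ⟨w, hw, rfl⟩
    simpa [h] using hw
  omega

/-- matrices act on vectors: a monoid hom to `Function.End`. -/
def actHom (F : Type*) [Field F] (n : Type*) [Fintype n] [DecidableEq n] :
    Matrix n n F →* Function.End (n → F) where
  toFun M := fun w => M *ᵥ w
  map_one' := by
    show (fun w => (1 : Matrix n n F) *ᵥ w) = id
    funext w; simp
  map_mul' A B := by
    show (fun w => (A * B) *ᵥ w) = (fun w => A *ᵥ w) ∘ (fun w => B *ᵥ w)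
    funext w; simp [Matrix.mulVec_mulVec]

lemma eq_one_of_pow_five {F : Type*} [Field F] [Fintype F] (hF : Fintype.card F = 3)
    (M : Matrix (Fin 2 ⊕ Fin 2) (Fin 2 ⊕ Fin 2) F) (hM : M ^ 5 = 1)
    (v : Fin 2 ⊕ Fin 2 → F) (hv : v ≠ 0) (hMv : M *ᵥ v = v) : M = 1 := by
  classical
  set f : Function.End (Fin 2 ⊕ Fin 2 → F) := actHom F (Fin 2 ⊕ Fin 2) M with hf
  have hf5 : f ^ 5 ^ 1 = 1 := by rw [pow_one, hf, ← map_pow, hM, map_one]
  have : Fact (Nat.Prime 5) := ⟨Nat.prime_five⟩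
  have hmod := Equiv.Perm.card_fixedPoints_modEq hf5
  set L : (Fin 2 ⊕ Fin 2 → F) →ₗ[F] (Fin 2 ⊕ Fin 2 → F) := Matrix.toLin' M - LinearMap.id with hL
  have hmem : ∀ w, w ∈ Function.fixedPoints f ↔ w ∈ LinearMap.ker L := by
    intro w
    rw [LinearMap.mem_ker]
    show M *ᵥ w = w ↔ _
    simp [hL, sub_eq_zero]
  have hfix : Nat.card (Function.fixedPoints f) = 3 ^ Module.finrank F (LinearMap.ker L) := by
    have h1 : Nat.card (Function.fixedPoints f) = Nat.card (LinearMap.ker L) :=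
      Nat.card_congr (Equiv.subtypeEquivRight hmem)
    rw [h1, Module.natCard_eq_pow_finrank (K := F), Nat.card_eq_fintype_card, hF]
  have hcard : Nat.card (Fin 2 ⊕ Fin 2 → F) = 81 := by
    simp [hF]
  have hle : Module.finrank F (LinearMap.ker L) ≤ 4 := by
    have := Submodule.finrank_le (LinearMap.ker L)
    simpa using this
  have hpos : 0 < Module.finrank F (LinearMap.ker L) := by
    rw [Module.finrank_pos_iff_exists_ne_zero]
    refine ⟨⟨v, ?_⟩, ?_⟩
    · simp [hL, hMv]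
    · intro h; apply hv; simpa using congrArg Subtype.val h
  have h4 : Module.finrank F (LinearMap.ker L) = 4 := by
    simp only [Fintype.card_eq_nat_card] at hmod
    rw [hfix, hcard] at hmod
    have : Module.finrank F (LinearMap.ker L) = 1 ∨ Module.finrank F (LinearMap.ker L) = 2 ∨
      Module.finrank F (LinearMap.ker L) = 3 ∨ Module.finrank F (LinearMap.ker L) = 4 := by omega
    rcases this with h | h | h | h
    · rw [h] at hmod; exact absurd hmod (by decide)
    · rw [h] at hmod; exact absurd hmod (by decide)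
    · rw [h] at hmod; exact absurd hmod (by decide)
    · exact h
  have htop : LinearMap.ker L = ⊤ := by
    apply Submodule.eq_top_of_finrank_eq
    rw [h4]; simp
  have hL0 : L = 0 := LinearMap.ker_eq_top.mp htop
  have : Matrix.toLin' M = Matrix.toLin' 1 := by
    rw [Matrix.toLin'_one]; exact sub_eq_zero.mp hL0
  exact Matrix.toLin'.injective this

lemma pow_formula {R : Type*} [Ring R] (a p : R) (hc : a * p = p * a) (hp : p * p = p) (n : ℕ) :
    (1 + (a - 1) * p) ^ n = 1 + (a ^ n - 1) * p := by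
  induction n with
  | zero => simp
  | succ n ih =>
    rw [pow_succ, ih]
    have h1 : p * ((a - 1) * p) = (a - 1) * p := by
      rw [← mul_assoc, mul_sub, mul_one, ← hc, ← sub_one_mul, mul_assoc, hp]
    calc (1 + (a ^ n - 1) * p) * (1 + (a - 1) * p)
        = 1 + (a - 1) * p + (a ^ n - 1) * p + (a ^ n - 1) * (p * ((a - 1) * p)) := by
          noncomm_ring
      _ = 1 + (a ^ (n + 1) - 1) * p := by
          rw [h1, pow_succ]; noncomm_ring

lemma sub_one_mul_idem_eq_zero {F : Type*} [Field F] [Fintype F] (hF : Fintype.card F = 3)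
    (A P Q : Matrix (Fin 2 ⊕ Fin 2) (Fin 2 ⊕ Fin 2) F) (hA5 : A ^ 5 = 1)
    (hAP : A * P = P * A) (hPP : P * P = P) (hPQ : P * Q = 0) (hQ : Q ≠ 0) :
    (A - 1) * P = 0 := by
  have hB5 : (1 + (A - 1) * P) ^ 5 = 1 := by
    rw [pow_formula A P hAP hPP, hA5]; simp
  obtain ⟨w, hw⟩ : ∃ w, Q *ᵥ w ≠ 0 := by
    by_contra h
    push Not at h
    apply hQ
    apply Matrix.toLin'.injective
    apply LinearMap.ext
    intro w
    simp [h w]
  have hfix : (1 + (A - 1) * P) *ᵥ (Q *ᵥ w) = Q *ᵥ w := by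
    rw [Matrix.mulVec_mulVec, add_mul, one_mul, mul_assoc, hPQ, mul_zero, add_zero]
  have := eq_one_of_pow_five hF _ hB5 _ hw hfix
  simpa using this

lemma idem_trivial {F : Type*} [Field F] [Fintype F] (hF : Fintype.card F = 3)
    (A P : Matrix (Fin 2 ⊕ Fin 2) (Fin 2 ⊕ Fin 2) F) (hA5 : A ^ 5 = 1) (hA : A ≠ 1)
    (hAP : A * P = P * A) (hPP : P * P = P) : P = 0 ∨ P = 1 := by
  by_contra h
  push Not at h
  obtain ⟨h0, h1⟩ := h
  have hQ : (1 - P) ≠ 0 := fun h => h1 (sub_eq_zero.mp h).symm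
  have hPQ : P * (1 - P) = 0 := by rw [mul_sub, mul_one, hPP, sub_self]
  have hQP : (1 - P) * P = 0 := by rw [sub_mul, one_mul, hPP, sub_self]
  have hQQ : (1 - P) * (1 - P) = 1 - P := by rw [mul_sub, mul_one, hQP, sub_zero]
  have hAQ : A * (1 - P) = (1 - P) * A := by rw [mul_sub, sub_mul, hAP, mul_one, one_mul]
  have e1 := sub_one_mul_idem_eq_zero hF A P (1 - P) hA5 hAP hPP hPQ hQ
  have e2 := sub_one_mul_idem_eq_zero hF A (1 - P) P hA5 hAQ hQQ hQP h0
  apply hA
  have : A - 1 = (A - 1) * P + (A - 1) * (1 - P) := by rw [← mul_add]; simp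
  rw [e1, e2, add_zero] at this
  exact sub_eq_zero.mp this

lemma central_invol_eq_neg_one {F : Type*} [Field F] [Fintype F] (hF : Fintype.card F = 3)
    (A Z : Matrix (Fin 2 ⊕ Fin 2) (Fin 2 ⊕ Fin 2) F) (hA5 : A ^ 5 = 1) (hA : A ≠ 1)
    (hAZ : A * Z = Z * A) (hZZ : Z * Z = 1) (hZ : Z ≠ 1) : Z = -1 := by
  have hp3 : Nat.Prime 3 := Nat.prime_three
  have : CharP F 3 := by
    have e := ZMod.ringEquivOfPrime F hp3 hF
    exact charP_of_injective_ringHom (f := (e : ZMod 3 →+* F)) e.injective 3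
  have h3 : ∀ X : Matrix (Fin 2 ⊕ Fin 2) (Fin 2 ⊕ Fin 2) F, (3 : ℕ) • X = 0 := by
    intro X
    rw [nsmul_eq_mul, CharP.cast_eq_zero, zero_mul]
  have hPP : (-(1 + Z)) * (-(1 + Z)) = -(1 + Z) := by
    have : (-(1 + Z)) * (-(1 + Z)) = -(1 + Z) + (3 : ℕ) • (1 + Z) := by
      rw [neg_mul_neg, mul_add, add_mul, add_mul, one_mul, mul_one, one_mul, hZZ]; abel
    rw [this, h3, add_zero]
  have hAP : A * (-(1 + Z)) = (-(1 + Z)) * A := by
    rw [mul_neg, neg_mul, mul_add, add_mul, hAZ, mul_one, one_mul]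
  rcases idem_trivial hF A _ hA5 hA hAP hPP with h | h
  · have : 1 + Z = 0 := neg_eq_zero.mp h
    exact (eq_neg_of_add_eq_zero_right this)
  · exfalso; apply hZ
    have h' : Z = 1 - ((3 : ℕ) • (1 : Matrix (Fin 2 ⊕ Fin 2) (Fin 2 ⊕ Fin 2) F)) := by
      have h2 : 1 + Z = -1 := neg_eq_iff_eq_neg.mp h
      have : Z = -1 - 1 := eq_sub_of_add_eq' h2
      rw [this]; abel
    rw [h', h3, sub_zero]

set_option synthInstance.maxSize 2000 in
set_option synthInstance.maxHeartbeats 200000 in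
lemma dec5a : ∀ a b c d : ZMod 5, a * d - b * c = 1 →
    (a * a + b * c) * a + (a * b + b * d) * c = 1 →
    (a * a + b * c) * b + (a * b + b * d) * d = 0 →
    (c * a + d * c) * a + (c * b + d * d) * c = 0 →
    (c * a + d * c) * b + (c * b + d * d) * d = 1 →
    ¬(a = 1 ∧ b = 0 ∧ c = 0 ∧ d = 1) → a + d = -1 := by
  decide +kernel

set_option synthInstance.maxSize 2000 in
set_option synthInstance.maxHeartbeats 200000 in
lemma dec5b : ∀ a b c d : ZMod 5, a * d - b * c = 1 → a + d = -1 →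
    ∃ p q r s : ZMod 5, p * s - q * r = 1 ∧
      (a * p + b * r) * (d * s + b * r) + (a * q + b * s) * (-(c * s) - a * r) +
        (c * p + d * r) * (-(d * q) - b * p) + (c * q + d * s) * (c * q + a * p) = 0 := by
  decide +kernel

section SL
variable {K : Type*} [Field K] [Fintype K] (hK : Fintype.card K = 5)

lemma sq_eq_neg_one_of_trace (y : Matrix.SpecialLinearGroup (Fin 2) K)
    (hy : y.1 0 0 + y.1 1 1 = 0) : y * y = -1 := by
  have hdet : y.1 0 0 * y.1 1 1 - y.1 0 1 * y.1 1 0 = 1 := by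
    have := y.2; rw [Matrix.det_fin_two] at this; exact this
  ext i j
  fin_cases i <;> fin_cases j <;>
    simp [Matrix.mul_apply, Fin.sum_univ_two] <;> grind

include hK in
lemma exists_comm_sq (x : Matrix.SpecialLinearGroup (Fin 2) K) (hx : orderOf x = 3) :
    ∃ g : Matrix.SpecialLinearGroup (Fin 2) K,
      (x * g * x⁻¹ * g⁻¹) * (x * g * x⁻¹ * g⁻¹) = -1 := by
  have e : ZMod 5 ≃+* K := ZMod.ringEquivOfPrime K Nat.prime_five hK
  have hdet : x.1 0 0 * x.1 1 1 - x.1 0 1 * x.1 1 0 = 1 := by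
    have := x.2; rw [Matrix.det_fin_two] at this; exact this
  have h3 : x ^ 3 = 1 := by rw [← hx]; exact pow_orderOf_eq_one x
  have hne : x ≠ 1 := by intro h; rw [h, orderOf_one] at hx; omega
  have h3m : x.1 * x.1 * x.1 = 1 := by
    have := congrArg Subtype.val h3
    simpa [pow_succ] using this
  have h00 := congrFun (congrFun h3m 0) 0
  have h01 := congrFun (congrFun h3m 0) 1
  have h10 := congrFun (congrFun h3m 1) 0
  have h11 := congrFun (congrFun h3m 1) 1
  simp [Matrix.mul_apply, Fin.sum_univ_two] at h00 h01 h10 h11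
  have hne' : ¬(x.1 0 0 = 1 ∧ x.1 0 1 = 0 ∧ x.1 1 0 = 0 ∧ x.1 1 1 = 1) := by
    rintro ⟨ha, hb, hc, hd⟩
    apply hne
    ext i j
    fin_cases i <;> fin_cases j <;> simp [ha, hb, hc, hd]
  have htr := dec5a (e.symm (x.1 0 0)) (e.symm (x.1 0 1)) (e.symm (x.1 1 0)) (e.symm (x.1 1 1))
    (by simpa using congrArg e.symm hdet) (by simpa using congrArg e.symm h00)
    (by simpa using congrArg e.symm h01) (by simpa using congrArg e.symm h10)
    (by simpa using congrArg e.symm h11) (by simpa using hne')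
  obtain ⟨p, q, r, s, hg, hT⟩ :=
    dec5b (e.symm (x.1 0 0)) (e.symm (x.1 0 1)) (e.symm (x.1 1 0)) (e.symm (x.1 1 1))
    (by simpa using congrArg e.symm hdet) htr
  have hg' : e p * e s - e q * e r = 1 := by simpa using congrArg e hg
  have hT' := congrArg e hT
  simp only [map_add, map_mul, map_sub, map_neg, RingEquiv.apply_symm_apply, map_zero] at hT'
  obtain ⟨g, hg00, hg01, hg10, hg11⟩ : ∃ g : Matrix.SpecialLinearGroup (Fin 2) K,
      g.1 0 0 = e p ∧ g.1 0 1 = e q ∧ g.1 1 0 = e r ∧ g.1 1 1 = e s :=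
    ⟨⟨!![e p, e q; e r, e s], by rw [Matrix.det_fin_two_of]; exact hg'⟩, rfl, rfl, rfl, rfl⟩
  refine ⟨g, ?_⟩
  apply sq_eq_neg_one_of_trace
  have key : (x * g * x⁻¹ * g⁻¹).1 =
      x.1 * g.1 * Matrix.adjugate x.1 * Matrix.adjugate g.1 := by
    simp [Matrix.SpecialLinearGroup.coe_mul, Matrix.SpecialLinearGroup.coe_inv]
  rw [key]
  simp only [Matrix.adjugate_fin_two, Matrix.mul_apply, Fin.sum_univ_two, Matrix.of_apply,
    Matrix.cons_val', Matrix.cons_val_zero, Matrix.cons_val_one, Matrix.cons_val_fin_one,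
    hg00, hg01, hg10, hg11]
  linear_combination hT'

end SL

section E
variable {F : Type*} [Field F]

local notation "V4" => (Fin 2 ⊕ Fin 2 → F)
local notation "M4" => Matrix (Fin 2 ⊕ Fin 2) (Fin 2 ⊕ Fin 2) F

lemma finrank_V4 : Module.finrank F V4 = 4 := by simp

lemma mem_fix_iff (T : M4) (v : V4) :
    v ∈ LinearMap.ker (Matrix.toLin' T - LinearMap.id) ↔ T *ᵥ v = v := by
  simp [sub_eq_zero]

lemma finrank_fix_le_two (T T' G G' Yp : M4)
    (hTT' : T * T' = 1) (hT'T : T' * T = 1) (hGG' : G * G' = 1) (hG'G : G' * G = 1)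
    (hinv : Yp * (T * G * T' * G' - 1) = 1) :
    Module.finrank F (LinearMap.ker (Matrix.toLin' T - LinearMap.id)) ≤ 2 := by
  set U := LinearMap.ker (Matrix.toLin' T - LinearMap.id) with hU
  let Gl : V4 ≃ₗ[F] V4 := Matrix.toLin'OfInv hGG' hG'G
  have hGl : ∀ v, Gl v = G' *ᵥ v := fun v => by
    show Matrix.toLin' G' v = _
    exact Matrix.toLin'_apply G' v
  have hfr : Module.finrank F (U.map (Gl : V4 →ₗ[F] V4)) = Module.finrank F U :=
    LinearEquiv.finrank_map_eq Gl U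
  have hdisj : Disjoint U (U.map (Gl : V4 →ₗ[F] V4)) := by
    rw [Submodule.disjoint_def]
    intro z hz1 hz2
    obtain ⟨u, hu, huz⟩ := hz2
    have hu : u ∈ U := hu
    rw [hU, mem_fix_iff] at hz1 hu
    have huz' : G' *ᵥ u = z := by rw [← huz]; exact (hGl u).symm
    have hGz : G *ᵥ z = u := by
      rw [← huz', Matrix.mulVec_mulVec, hGG', Matrix.one_mulVec]
    have hT'z : T' *ᵥ z = z := by
      conv_lhs => rw [← hz1]
      rw [Matrix.mulVec_mulVec, hT'T, Matrix.one_mulVec]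
    have hYu : (T * G * T' * G') *ᵥ u = u := by
      rw [← Matrix.mulVec_mulVec, huz', ← Matrix.mulVec_mulVec, hT'z, ← Matrix.mulVec_mulVec,
        hGz, hu]
    have hu0 : u = 0 := by
      have : (Yp * (T * G * T' * G' - 1)) *ᵥ u = 0 := by
        rw [← Matrix.mulVec_mulVec, Matrix.sub_mulVec, hYu, Matrix.one_mulVec, sub_self,
          Matrix.mulVec_zero]
      rwa [hinv, Matrix.one_mulVec] at this
    rw [← huz', hu0, Matrix.mulVec_zero]
  have := Submodule.finrank_add_finrank_le_of_disjoint hdisj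
  rw [hfr, finrank_V4] at this
  omega

lemma two_le_finrank_fix (T : M4) (hN : (T - 1) ^ 3 = 0) :
    2 ≤ Module.finrank F (LinearMap.ker (Matrix.toLin' T - LinearMap.id)) := by
  set L : V4 →ₗ[F] V4 := Matrix.toLin' T - LinearMap.id with hL
  have hL' : L = Matrix.toLin' (T - 1) := by rw [hL, map_sub, Matrix.toLin'_one]
  have h3 : L ∘ₗ (L ∘ₗ L) = 0 := by
    rw [hL', ← Matrix.toLin'_mul, ← Matrix.toLin'_mul, ← pow_two, ← pow_succ', hN, map_zero]
  have h1 := finrank_ker_comp_le L (L ∘ₗ L)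
  have h2 := finrank_ker_comp_le L L
  rw [h3] at h1
  have : Module.finrank F (LinearMap.ker (0 : V4 →ₗ[F] V4)) = 4 := by
    rw [LinearMap.ker_zero, finrank_top, finrank_V4]
  omega

lemma J_alt (v : V4) : v ⬝ᵥ (Matrix.J (Fin 2) F *ᵥ v) = 0 := by
  simp [Matrix.J, dotProduct, Fintype.sum_sum_type, Fin.sum_univ_two,
    Matrix.mulVec, Matrix.one_apply]
  ring

lemma isotropic (T : M4) (hsym : Tᵀ * Matrix.J (Fin 2) F * T = Matrix.J (Fin 2) F)
    (hN : (T - 1) ^ 3 = 0)
    (hfr : Module.finrank F (LinearMap.ker (Matrix.toLin' T - LinearMap.id)) = 2) :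
    ∀ v w : V4, T *ᵥ v = v → T *ᵥ w = w → v ⬝ᵥ (Matrix.J (Fin 2) F *ᵥ w) = 0 := by
  have hBT : ∀ v w : V4, (T *ᵥ v) ⬝ᵥ (Matrix.J (Fin 2) F *ᵥ (T *ᵥ w)) =
      v ⬝ᵥ (Matrix.J (Fin 2) F *ᵥ w) := by
    intro v w
    rw [← Matrix.vecMul_transpose, ← Matrix.dotProduct_mulVec, Matrix.mulVec_mulVec,
      Matrix.mulVec_mulVec, hsym]
  set L : V4 →ₗ[F] V4 := Matrix.toLin' T - LinearMap.id with hL
  have hLv : ∀ v, L v = T *ᵥ v - v := fun v => by simp [hL]
  have hL' : L = Matrix.toLin' (T - 1) := by rw [hL, map_sub, Matrix.toLin'_one]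
  have h3 : ∀ v, L (L (L v)) = 0 := by
    intro v
    have : L ∘ₗ (L ∘ₗ L) = 0 := by
      rw [hL', ← Matrix.toLin'_mul, ← Matrix.toLin'_mul, ← pow_two, ← pow_succ', hN, map_zero]
    exact LinearMap.congr_fun this v
  have hrange : 0 < Module.finrank F (LinearMap.range L) := by
    have := LinearMap.finrank_range_add_finrank_ker L
    rw [finrank_V4] at this
    omega
  obtain ⟨⟨w₀, y₀, rfl⟩, hw₀⟩ := Module.finrank_pos_iff_exists_ne_zero.mp hrange
  have hw₀ : L y₀ ≠ 0 := fun h => hw₀ (Subtype.ext h)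
  obtain ⟨y, hy1, hy2⟩ : ∃ y, L y ≠ 0 ∧ L (L y) = 0 := by
    by_cases h : L (L y₀) = 0
    · exact ⟨y₀, hw₀, h⟩
    · exact ⟨L y₀, h, h3 y₀⟩
  have hTu : T *ᵥ (L y) = L y := by
    have := hy2; rw [hLv (L y), sub_eq_zero] at this; exact this
  have hBu : ∀ z, T *ᵥ z = z → (L y) ⬝ᵥ (Matrix.J (Fin 2) F *ᵥ z) = 0 ∧
      z ⬝ᵥ (Matrix.J (Fin 2) F *ᵥ (L y)) = 0 := by
    intro z hz
    constructor
    · rw [hLv, sub_dotProduct, sub_eq_zero]
      conv_lhs => rw [← hz]
      exact hBT y z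
    · rw [hLv, Matrix.mulVec_sub, dotProduct_sub, sub_eq_zero]
      conv_lhs => rw [← hz]
      exact hBT z y
  intro v w hv hw
  set U := LinearMap.ker L with hU
  have hmemU : ∀ z, z ∈ U ↔ T *ᵥ z = z := fun z => mem_fix_iff T z
  let vec : Fin 3 → U := ![⟨L y, (hmemU _).mpr hTu⟩, ⟨v, (hmemU _).mpr hv⟩, ⟨w, (hmemU _).mpr hw⟩]
  have hdep : ¬ LinearIndependent F vec := by
    intro hli
    have := hli.fintype_card_le_finrank
    rw [hfr] at this
    simp at this
  rw [Fintype.not_linearIndependent_iff] at hdep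
  obtain ⟨g, hg, i, hi⟩ := hdep
  have hg' : g 0 • L y + g 1 • v + g 2 • w = 0 := by
    have := congrArg Subtype.val hg
    simpa [Fin.sum_univ_three, vec] using this
  by_contra hB
  have e1 : g 1 * (v ⬝ᵥ (Matrix.J (Fin 2) F *ᵥ w)) = 0 := by
    have := congrArg (fun z => z ⬝ᵥ (Matrix.J (Fin 2) F *ᵥ w)) hg'
    simp only [add_dotProduct, smul_dotProduct, zero_dotProduct, smul_eq_mul] at this
    rw [(hBu w hw).1, J_alt w] at this
    simpa using this
  have e2 : g 2 * (v ⬝ᵥ (Matrix.J (Fin 2) F *ᵥ w)) = 0 := by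
    have := congrArg (fun z => v ⬝ᵥ (Matrix.J (Fin 2) F *ᵥ z)) hg'
    simp only [Matrix.mulVec_add, Matrix.mulVec_smul, dotProduct_add, dotProduct_smul,
      Matrix.mulVec_zero, dotProduct_zero, smul_eq_mul] at this
    rw [(hBu v hv).2, J_alt v] at this
    simpa using this
  have g1 : g 1 = 0 := (mul_eq_zero.mp e1).resolve_right hB
  have g2 : g 2 = 0 := (mul_eq_zero.mp e2).resolve_right hB
  rw [g1, g2, zero_smul, zero_smul, add_zero, add_zero] at hg'
  have g0 : g 0 = 0 := (smul_eq_zero.mp hg').resolve_right hy1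
  fin_cases i <;> simp_all

end E

section SL
variable {K : Type*} [Field K] [Fintype K] (hK : Fintype.card K = 5)

include hK in
lemma charP_five : CharP K 5 := by
  have e := ZMod.ringEquivOfPrime K Nat.prime_five hK
  exact charP_of_injective_ringHom (f := (e : ZMod 5 →+* K)) e.injective 5

include hK in
lemma neg_one_ne_one : (-1 : Matrix.SpecialLinearGroup (Fin 2) K) ≠ 1 := by
  have := charP_five hK
  intro h
  have h00 := congrFun (congrFun (congrArg Subtype.val h) 0) 0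
  simp at h00
  have h2 : ((2 : ℕ) : K) = 0 := by
    push_cast
    linear_combination (-1 : K) * h00
  rw [CharP.cast_eq_zero_iff K 5] at h2
  omega

omit [Fintype K] in
lemma neg_one_mul_self : (-1 : Matrix.SpecialLinearGroup (Fin 2) K) * (-1) = 1 := by
  simp

omit [Fintype K] in
lemma neg_one_comm (g : Matrix.SpecialLinearGroup (Fin 2) K) : (-1) * g = g * (-1) := by
  simp

/-- an element of order 5 -/
def g5 (K : Type*) [Field K] : Matrix.SpecialLinearGroup (Fin 2) K :=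
  ⟨!![1, 1; 0, 1], by simp [Matrix.det_fin_two_of]⟩

omit [Fintype K] in
lemma g5_pow (n : ℕ) : ((g5 K) ^ n).1 = !![1, (n : K); 0, 1] := by
  induction n with
  | zero => simp [Matrix.one_fin_two]
  | succ n ih =>
    rw [pow_succ, Matrix.SpecialLinearGroup.coe_mul, ih]
    simp [g5, add_comm]

include hK in
lemma g5_pow_five : (g5 K) ^ 5 = 1 := by
  have := charP_five hK
  apply Subtype.ext
  rw [g5_pow]
  have h5 : ((5 : ℕ) : K) = 0 := CharP.cast_eq_zero K 5
  rw [h5]
  simp [Matrix.one_fin_two]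

omit [Fintype K] in
lemma g5_ne_one : g5 K ≠ 1 := by
  intro h
  have h01 := congrFun (congrFun (congrArg Subtype.val h) 0) 1
  simp [g5] at h01

end SL


lemma charP_three {F : Type*} [Field F] [Fintype F] (hF : Fintype.card F = 3) : CharP F 3 := by
  have e := ZMod.ringEquivOfPrime F Nat.prime_three hF
  exact charP_of_injective_ringHom (f := (e : ZMod 3 →+* F)) e.injective 3

/-- Let F be the field with 3 elements and K the field with 5 elements. For every injective homomorphism φ from SL₂(K) into the symplectic group Sp₄(F) (4 × 4 matrices g with g J gᵀ = J for the standard alternating matrix J) and every element x of order 3 of SL₂(K), the vectors of F⁴ fixed by φ(x) form a 2-dimensional subspace that is totally isotropic for the alternating form defined by J. -/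
theorem result {F : Type*} [Field F] [Fintype F] (hF : Fintype.card F = 3)
    {K : Type*} [Field K] [Fintype K] (hK : Fintype.card K = 5)
    (φ : Matrix.SpecialLinearGroup (Fin 2) K →* ↥(Matrix.symplecticGroup (Fin 2) F)) (hφ : Function.Injective φ)
    (x : Matrix.SpecialLinearGroup (Fin 2) K) (hx : orderOf x = 3) :
    Module.finrank F ↥(LinearMap.ker (Matrix.toLin' ((φ x : Matrix (Fin 2 ⊕ Fin 2) (Fin 2 ⊕ Fin 2) F)) - LinearMap.id)) = 2 ∧
      ∀ v w : Fin 2 ⊕ Fin 2 → F, (φ x : Matrix (Fin 2 ⊕ Fin 2) (Fin 2 ⊕ Fin 2) F).mulVec v = v →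
        (φ x : Matrix (Fin 2 ⊕ Fin 2) (Fin 2 ⊕ Fin 2) F).mulVec w = w →
          dotProduct v ((Matrix.J (Fin 2) F).mulVec w) = 0 := by
  classical
  have hc3 : CharP F 3 := charP_three hF
  have hp3 : Fact (Nat.Prime 3) := ⟨Nat.prime_three⟩
  let ρ : Matrix.SpecialLinearGroup (Fin 2) K →* Matrix (Fin 2 ⊕ Fin 2) (Fin 2 ⊕ Fin 2) F :=
    (Matrix.symplecticGroup (Fin 2) F).subtype.comp φ
  have hρ : ∀ g, ρ g = (φ g : Matrix (Fin 2 ⊕ Fin 2) (Fin 2 ⊕ Fin 2) F) := fun g => rfl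
  have hρinj : Function.Injective ρ := fun a b h => hφ (Subtype.ext h)
  have hρne : ∀ g, g ≠ 1 → ρ g ≠ 1 := fun g hg h => hg (hρinj (h.trans (map_one ρ).symm))
  -- Step 1: the central involution acts as -1
  have hZ : ρ (-1) = -1 :=
    central_invol_eq_neg_one hF (ρ (g5 K)) (ρ (-1))
      (by rw [← map_pow, g5_pow_five hK, map_one]) (hρne _ g5_ne_one)
      (by rw [← map_mul, ← map_mul, neg_one_comm])
      (by rw [← map_mul, neg_one_mul_self, map_one]) (hρne _ (neg_one_ne_one hK))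
  -- Step 2: a commutator of order 4
  obtain ⟨g, hg⟩ := exists_comm_sq hK x hx
  have hTT' : ρ x * ρ x⁻¹ = 1 := by rw [← map_mul, mul_inv_cancel, map_one]
  have hT'T : ρ x⁻¹ * ρ x = 1 := by rw [← map_mul, inv_mul_cancel, map_one]
  have hGG' : ρ g * ρ g⁻¹ = 1 := by rw [← map_mul, mul_inv_cancel, map_one]
  have hG'G : ρ g⁻¹ * ρ g = 1 := by rw [← map_mul, inv_mul_cancel, map_one]
  have hY : (ρ x * ρ g * ρ x⁻¹ * ρ g⁻¹) * (ρ x * ρ g * ρ x⁻¹ * ρ g⁻¹) = -1 := by
    rw [← hZ, ← hg]; simp only [map_mul]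
  have h3 : ∀ X : Matrix (Fin 2 ⊕ Fin 2) (Fin 2 ⊕ Fin 2) F, (3 : ℕ) • X = 0 := by
    intro X
    rw [nsmul_eq_mul, CharP.cast_eq_zero, zero_mul]
  have hinv : (ρ x * ρ g * ρ x⁻¹ * ρ g⁻¹ + 1) * (ρ x * ρ g * ρ x⁻¹ * ρ g⁻¹ - 1) = 1 := by
    generalize ρ x * ρ g * ρ x⁻¹ * ρ g⁻¹ = Y at hY
    have e1 : (Y + 1) * (Y - 1) = Y * Y - 1 := by noncomm_ring
    rw [e1, hY]
    have e2 : (-1 - 1 : Matrix (Fin 2 ⊕ Fin 2) (Fin 2 ⊕ Fin 2) F) =
        1 - (3 : ℕ) • (1 : Matrix (Fin 2 ⊕ Fin 2) (Fin 2 ⊕ Fin 2) F) := by abel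
    rw [e2, h3, sub_zero]
  have hle := finrank_fix_le_two (ρ x) (ρ x⁻¹) (ρ g) (ρ g⁻¹) _ hTT' hT'T hGG' hG'G hinv
  have hx3 : x ^ 3 = 1 := by rw [← hx]; exact pow_orderOf_eq_one x
  have hN : (ρ x - 1) ^ 3 = 0 := by
    rw [sub_pow_char_of_commute 3 (Commute.one_right _), one_pow, ← map_pow, hx3, map_one, sub_self]
  have hge := two_le_finrank_fix (ρ x) hN
  have hfr := le_antisymm hle hge
  refine ⟨hfr, ?_⟩
  have hsym : (ρ x)ᵀ * Matrix.J (Fin 2) F * ρ x = Matrix.J (Fin 2) F :=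
    SymplecticGroup.mem_iff'.mp (φ x).2
  exact isotropic (ρ x) hsym hN hfr

end Cfsg.Agent.S3213
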