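import Mathlib
import Cfsg.Statements.S3215
import Cfsg.Agent.Lib.Helper55.Cores
import Cfsg.Agent.Lib.Helper49.CharP
import Cfsg.Agent.Lib.Helper34.NormalPComplement
import Cfsg.Agent.Lib.Helper35.FrobSylow
import Cfsg.Agent.Lib.Helper51.UniqueOrderP
import Cfsg.Agent.Lib.Helper64.PiCore

set_option autoImplicit false
open Cfsg

namespace Cfsg.Agent.S3215

open Cfsg.Agent.Lib.Helper64
open scoped commutatorElement

variable {H : Type*} [Group H] [Finite H]

/-- an odd-order element commuting with an involution `t` whose centralizer is 2-nilpotent commutes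
with `C_{O_2(H)}(t)` -/
lemma commute_of_involution
    (hI : ∀ t : H, orderOf t = 2 → Cfsg.HasNormalPComplement 2 ↥(Subgroup.centralizer ({t} : Set H)))
    {t x r : H} (ht : orderOf t = 2) (hx : Odd (orderOf x)) (hxt : Commute x t)
    (hr : r ∈ Cfsg.pCore 2 H) (hrt : Commute r t) : Commute x r := by
  haveI : Fact (Nat.Prime 2) := ⟨Nat.prime_two⟩
  obtain ⟨P, N, hNn, hNc⟩ := hI t ht
  haveI := hNn
  have hxC : x ∈ Subgroup.centralizer ({t} : Set H) :=
    Subgroup.mem_centralizer_singleton_iff.mpr hxt.eq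
  have hrC : r ∈ Subgroup.centralizer ({t} : Set H) :=
    Subgroup.mem_centralizer_singleton_iff.mpr hrt.eq
  set x' : ↥(Subgroup.centralizer ({t} : Set H)) := ⟨x, hxC⟩ with hx'
  set r' : ↥(Subgroup.centralizer ({t} : Set H)) := ⟨r, hrC⟩ with hr'
  have hox : orderOf x' = orderOf x := by
    rw [← Subgroup.orderOf_coe]
  have hx'N : x' ∈ N := by
    apply Cfsg.Agent.Lib.Helper34.mem_of_coprime_orderOf_of_isComplement' P N hNc x'
    rw [hox]
    exact Nat.Coprime.symm (Nat.coprime_two_left.mpr hx)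
  have hcN : x' * r' * x'⁻¹ * r'⁻¹ ∈ N := by
    have h1 : r' * x'⁻¹ * r'⁻¹ ∈ N := hNn.conj_mem _ (N.inv_mem hx'N) r'
    have h2 := N.mul_mem hx'N h1
    have e : x' * (r' * x'⁻¹ * r'⁻¹) = x' * r' * x'⁻¹ * r'⁻¹ := by group
    rwa [e] at h2
  have hcY : x * r * x⁻¹ * r⁻¹ ∈ Cfsg.pCore 2 H :=
    (Cfsg.pCore 2 H).mul_mem ((Cfsg.pCore_normal 2 H).conj_mem r hr x) ((Cfsg.pCore 2 H).inv_mem hr)
  have hNodd : (Nat.card N).Coprime 2 :=
    Cfsg.Agent.Lib.Helper34.card_coprime_of_isComplement' P N hNc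
  -- the order of the commutator
  have ho1 : orderOf (x * r * x⁻¹ * r⁻¹) ∣ Nat.card N := by
    have h1 : orderOf (⟨x' * r' * x'⁻¹ * r'⁻¹, hcN⟩ : N) ∣ Nat.card N := orderOf_dvd_natCard _
    have h2 : orderOf (⟨x' * r' * x'⁻¹ * r'⁻¹, hcN⟩ : N) = orderOf (x * r * x⁻¹ * r⁻¹) := by
      rw [← Subgroup.orderOf_coe, ← Subgroup.orderOf_coe]
      rfl
    rwa [h2] at h1
  obtain ⟨k, hk⟩ := Cfsg.Agent.Lib.Helper49.pow_eq_one_of_mem_pCore hcY
  have ho2 : orderOf (x * r * x⁻¹ * r⁻¹) ∣ 2 ^ k := orderOf_dvd_of_pow_eq_one hk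
  have ho3 : orderOf (x * r * x⁻¹ * r⁻¹) = 1 :=
    Nat.eq_one_of_dvd_coprimes (Nat.Coprime.pow_right k hNodd) ho1 ho2
  have hc1 : x * r * x⁻¹ * r⁻¹ = 1 := orderOf_eq_one_iff.mp ho3
  show x * r = r * x
  calc x * r = (x * r * x⁻¹ * r⁻¹) * (r * x) := by group
    _ = r * x := by rw [hc1, one_mul]


/-- an odd-order element commuting with a nontrivial element of `O_2(H)` is trivial -/
lemma eq_one_of_commute [Group.IsSolvable H] (hO : Cfsg.oddCore H = ⊥)
    (hI : ∀ t : H, orderOf t = 2 → Cfsg.HasNormalPComplement 2 ↥(Subgroup.centralizer ({t} : Set H)))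
    {x y : H} (hx : Odd (orderOf x)) (hy : y ∈ Cfsg.pCore 2 H) (hy1 : y ≠ 1) (hxy : Commute x y) :
    x = 1 := by
  haveI : Fact (Nat.Prime 2) := ⟨Nat.prime_two⟩
  have hYp : IsPGroup 2 (Cfsg.pCore 2 H) := Cfsg.Agent.Lib.Helper49.isPGroup_pCore 2 H
  -- an involution in ⟨y⟩
  obtain ⟨k, hk⟩ := (IsPGroup.iff_orderOf.mp hYp) ⟨y, hy⟩
  rw [Subgroup.orderOf_mk] at hk
  have hk0 : k ≠ 0 := by
    rintro rfl
    rw [pow_zero, orderOf_eq_one_iff] at hk
    exact hy1 hk
  obtain ⟨j, rfl⟩ := Nat.exists_eq_succ_of_ne_zero hk0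
  set t := y ^ 2 ^ j with ht
  have hto : orderOf t = 2 := by
    rw [ht, orderOf_pow_of_dvd (pow_ne_zero j two_ne_zero) (by rw [hk]; exact pow_dvd_pow 2 (Nat.le_succ j)),
      hk, pow_succ, Nat.mul_div_cancel_left _ (pow_pos two_pos j)]
  have htY : t ∈ Cfsg.pCore 2 H := Subgroup.pow_mem _ hy _
  have hxt : Commute x t := hxy.pow_right _
  have hxo : (orderOf x).Coprime 2 := Nat.Coprime.symm (Nat.coprime_two_left.mpr hx)
  have hnorm : Subgroup.normalizer ((Cfsg.pCore 2 H : Subgroup H) : Set H) = ⊤ :=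
    Subgroup.normalizer_eq_top_iff.mpr (Cfsg.pCore_normal 2 H)
  have hall : ∀ r ∈ Cfsg.pCore 2 H, Commute x r := by
    apply Cfsg.Agent.Lib.Helper49.commute_of_AxB (p := 2) (T := Cfsg.pCore 2 H) (R := Cfsg.pCore 2 H)
      (Q := Subgroup.zpowers t) hYp le_rfl ((Subgroup.zpowers_le).mpr htY)
      (by rw [hnorm]; exact le_top) (by rw [hnorm]; trivial) hxo
    · intro q hq
      obtain ⟨n, rfl⟩ := Subgroup.mem_zpowers_iff.mp hq
      exact hxt.zpow_right n
    · intro r hr hrq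
      exact commute_of_involution hI hto hx hxt hr (hrq t (Subgroup.mem_zpowers t))
  have hxC : x ∈ Subgroup.centralizer ((Cfsg.pCore 2 H : Subgroup H) : Set H) := by
    rw [Subgroup.mem_centralizer_iff]
    intro r hr
    exact (hall r hr).eq.symm
  have hxY : x ∈ Cfsg.pCore 2 H := Cfsg.Agent.Lib.Helper55.centralizer_pCore_le 2 hO hxC
  obtain ⟨m, hm⟩ := Cfsg.Agent.Lib.Helper49.pow_eq_one_of_mem_pCore hxY
  have h1 : orderOf x ∣ 2 ^ m := orderOf_dvd_of_pow_eq_one hm
  have h2 : orderOf x = 1 :=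
    Nat.eq_one_of_dvd_coprimes (Nat.Coprime.pow_right m hxo) dvd_rfl h1
  exact orderOf_eq_one_iff.mp h2

/-- an odd-order element commuting with an involution is trivial -/
lemma eq_one_of_commute_involution [Group.IsSolvable H] (hO : Cfsg.oddCore H = ⊥)
    (hI : ∀ t : H, orderOf t = 2 → Cfsg.HasNormalPComplement 2 ↥(Subgroup.centralizer ({t} : Set H)))
    (hY : Cfsg.pCore 2 H ≠ ⊥) {x w : H} (hx : Odd (orderOf x)) (hw : orderOf w = 2)
    (hxw : Commute x w) : x = 1 := by
  classical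
  haveI : Fact (Nat.Prime 2) := ⟨Nat.prime_two⟩
  have hYp : IsPGroup 2 (Cfsg.pCore 2 H) := Cfsg.Agent.Lib.Helper49.isPGroup_pCore 2 H
  haveI : Fintype (Cfsg.pCore 2 H) := Fintype.ofFinite _
  -- a nontrivial fixed point of `w` on `O_2(H)`
  have hdvd : 2 ∣ Fintype.card (Cfsg.pCore 2 H) := by
    rw [← Nat.card_eq_fintype_card]
    obtain ⟨n, hn⟩ := hYp.exists_card_eq
    have hn0 : n ≠ 0 := by
      rintro rfl
      rw [pow_zero] at hn
      exact hY (Subgroup.card_eq_one.mp hn)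
    rw [hn]
    exact dvd_pow_self 2 hn0
  have hw2 : w ^ 2 = 1 := by rw [← hw]; exact pow_orderOf_eq_one w
  have hσ : (MulAut.toPerm (Cfsg.pCore 2 H) (MulAut.conjNormal w)) ^ 2 ^ 1 = 1 := by
    rw [pow_one, ← map_pow, ← map_pow, hw2, map_one, map_one]
  have h1 : (MulAut.toPerm (Cfsg.pCore 2 H) (MulAut.conjNormal w)) (1 : Cfsg.pCore 2 H) = 1 := by
    show (MulAut.conjNormal w) (1 : Cfsg.pCore 2 H) = 1
    exact map_one _
  obtain ⟨r, hr, hr1⟩ := Equiv.Perm.exists_fixed_point_of_prime' hdvd hσ h1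
  have hr' : (MulAut.conjNormal w) r = r := hr
  have hrG : w * (r : H) * w⁻¹ = (r : H) := by
    have := congrArg Subtype.val hr'
    rwa [MulAut.conjNormal_apply] at this
  have hrw : Commute (r : H) w := by
    show (r : H) * w = w * (r : H)
    calc (r : H) * w = (w * (r : H) * w⁻¹) * w := by rw [hrG]
      _ = w * (r : H) := by group
  have hxr : Commute x (r : H) := commute_of_involution hI hw hx hxw r.2 hrw
  refine eq_one_of_commute hO hI hx r.2 ?_ hxr
  intro h
  exact hr1 (Subtype.ext h)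


/-- if `f : X → Y` is surjective with nontrivial kernel on which every nontrivial `q`-element acts
fixed-point-freely, `Y` abelian of exponent `q` and order `q ^ i`, `q ∤ |ker f|`, then `|Y| ∣ q` -/
lemma card_dvd_prime_of_fpf' {X Y : Type*} [Group X] [Finite X] [Group Y]
    (hsol : Group.IsSolvable X) (f : X →* Y) (hf : Function.Surjective f)
    (hk0 : f.ker ≠ ⊥) (hab : ∀ a b : Y, a * b = b * a)
    (q : ℕ) (hq : q.Prime) (hqk : ¬ q ∣ Nat.card f.ker) (hexp : ∀ y : Y, y ^ q = 1) (i : ℕ)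
    (hcard : Nat.card Y = q ^ i)
    (hfpf : ∀ x : X, x ≠ 1 → orderOf x ∣ q ^ i → ∀ k ∈ f.ker, Commute x k → k = 1) :
    Nat.card Y ∣ q := by
  have hidx : f.ker.index = q ^ i := by
    rw [Subgroup.index_ker, MonoidHom.range_eq_top_of_surjective f hf, Subgroup.card_top, hcard]
  have hcop : Nat.Coprime (Nat.card f.ker) f.ker.index := by
    rw [hidx]
    exact Nat.Coprime.pow_right i ((Nat.Prime.coprime_iff_not_dvd hq).mpr hqk).symm
  obtain ⟨Q, hQ⟩ := Subgroup.exists_right_complement'_of_coprime hcop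
  have hsup : f.ker ⊔ Q = ⊤ := hQ.sup_eq_top
  have hinf : f.ker ⊓ Q = ⊥ := disjoint_iff.mp hQ.disjoint
  have hcardQ : Nat.card Q = q ^ i := by
    rw [← hidx]; exact hQ.symm.index_eq_card.symm
  have hQab : ∀ a ∈ Q, ∀ b ∈ Q, a * b = b * a := by
    intro a ha b hb
    have h1 : a * b * (b * a)⁻¹ ∈ f.ker := by
      rw [MonoidHom.mem_ker, map_mul, map_inv, map_mul, map_mul, hab (f a) (f b)]
      exact mul_inv_cancel _
    have h2 : a * b * (b * a)⁻¹ ∈ Q := Q.mul_mem (Q.mul_mem ha hb) (Q.inv_mem (Q.mul_mem hb ha))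
    have h3 : a * b * (b * a)⁻¹ ∈ f.ker ⊓ Q := ⟨h1, h2⟩
    rw [hinf, Subgroup.mem_bot] at h3
    exact mul_inv_eq_one.mp h3
  haveI hQc : IsMulCommutative Q := ⟨⟨fun a b => Subtype.ext (hQab a a.2 b b.2)⟩⟩
  have hfpf' : ∀ b ∈ Q, b ≠ 1 → f.ker ⊓ Subgroup.centralizer {b} = ⊥ := by
    intro b hb hb1
    rw [eq_bot_iff]
    intro k hk
    rw [Subgroup.mem_bot]
    have hk1 : k ∈ f.ker := hk.1
    have hk2 : k ∈ Subgroup.centralizer {b} := hk.2
    rw [Subgroup.mem_centralizer_singleton_iff] at hk2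
    have hbo : orderOf b ∣ q ^ i := by
      rw [← hcardQ]
      exact Subgroup.orderOf_dvd_natCard Q hb
    exact hfpf b hb1 hbo k hk1 hk2.symm
  have hsolQ : Group.IsSolvable Q := inferInstance
  have hcyc : IsCyclic Q :=
    Cfsg.Agent.Lib.Helper35.isCyclic_of_fpf f.ker Q hk0 hfpf' hsolQ (Or.inl hQc)
  obtain ⟨g, hg⟩ := hcyc.exists_generator
  have hgen : ∀ y : Y, y ∈ Subgroup.zpowers (f g) := by
    intro y
    obtain ⟨x, rfl⟩ := hf y
    have hx : x ∈ ((f.ker ⊔ Q : Subgroup X) : Set X) := by rw [hsup]; trivial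
    rw [Subgroup.normal_mul] at hx
    obtain ⟨n, hn, x', hx', rfl⟩ := hx
    rw [map_mul, MonoidHom.mem_ker.mp hn, one_mul]
    obtain ⟨m, hm⟩ := Subgroup.mem_zpowers_iff.mp (hg ⟨x', hx'⟩)
    refine Subgroup.mem_zpowers_iff.mpr ⟨m, ?_⟩
    have : ((g ^ m : Q) : X) = x' := by rw [hm]
    rw [← this]
    simp
  have htop : Subgroup.zpowers (f g) = ⊤ := by
    rw [eq_top_iff]; intro y _; exact hgen y
  have h1 : Nat.card Y = orderOf (f g) := by
    rw [← Nat.card_zpowers, htop, Subgroup.card_top]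
  rw [h1]
  exact orderOf_dvd_of_pow_eq_one (hexp _)

/-- commutators centralize a normal subgroup of prime order -/
lemma commutator_le_centralizer_of_prime_card {Y : Type*} [Group Y] [Finite Y] (V : Subgroup Y)
    [hVn : V.Normal] {q : ℕ} (hq : q.Prime) (hVcard : Nat.card V = q) :
    commutator Y ≤ Subgroup.centralizer (V : Set Y) := by
  haveI := Fact.mk hq
  haveI hVc : IsCyclic V := isCyclic_of_prime_card hVcard
  have hautc : ∀ α β : MulAut V, α * β = β * α := by
    intro α β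
    apply (IsCyclic.mulAutMulEquiv V).injective
    rw [map_mul, map_mul, mul_comm]
  rw [commutator_eq_closure, Subgroup.closure_le]
  rintro _ ⟨x, y, rfl⟩
  rw [SetLike.mem_coe, Subgroup.mem_centralizer_iff]
  intro v hv
  have h1 : MulAut.conjNormal (H := V) ⁅x, y⁆ = 1 := by
    rw [map_commutatorElement, commutatorElement_eq_one_iff_commute]
    exact hautc _ _
  have h2 := congrArg (fun α : MulAut V => ((α ⟨v, hv⟩ : V) : Y)) h1
  simp only [MulAut.conjNormal_apply, MulAut.one_apply] at h2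
  calc v * ⁅x, y⁆ = (⁅x, y⁆ * v * ⁅x, y⁆⁻¹) * ⁅x, y⁆ := by rw [h2]
    _ = ⁅x, y⁆ * v := by group


/-- In `H / O_2(H)` no element of order `2` commutes with an element of odd prime order. -/
lemma no_commuting_in_quotient [Group.IsSolvable H] (hO : Cfsg.oddCore H = ⊥)
    (hI : ∀ t : H, orderOf t = 2 → Cfsg.HasNormalPComplement 2 ↥(Subgroup.centralizer ({t} : Set H)))
    (hY : Cfsg.pCore 2 H ≠ ⊥) (nbar vbar : H ⧸ Cfsg.pCore 2 H) (q : ℕ) (hq : q.Prime) (hq2 : q ≠ 2)
    (hn : orderOf nbar = q) (hv : orderOf vbar = 2) (hc : Commute nbar vbar) : False := by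
  classical
  haveI : Fact (Nat.Prime 2) := ⟨Nat.prime_two⟩
  haveI : Fact q.Prime := ⟨hq⟩
  have hYp : IsPGroup 2 (Cfsg.pCore 2 H) := Cfsg.Agent.Lib.Helper49.isPGroup_pCore 2 H
  obtain ⟨a, ha⟩ := hYp.exists_card_eq
  have hqodd : Odd q := hq.odd_of_ne_two hq2
  have hcop : Nat.Coprime (2 ^ a) q :=
    Nat.Coprime.pow_left a ((Nat.coprime_primes Nat.prime_two hq).mpr (Ne.symm hq2))
  -- lift nbar to an element of order q
  obtain ⟨g, rfl⟩ := QuotientGroup.mk'_surjective (Cfsg.pCore 2 H) nbar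
  set e := (2 ^ a) ^ (q - 1) with he
  have he1 : e % q = 1 := by
    have h1 : (2 ^ a) ^ Nat.totient q ≡ 1 [MOD q] := Nat.ModEq.pow_totient hcop
    rw [Nat.totient_prime hq] at h1
    have : e % q = 1 % q := h1
    rwa [Nat.mod_eq_of_lt hq.one_lt] at this
  set x := g ^ e with hxdef
  have hxbar : QuotientGroup.mk' (Cfsg.pCore 2 H) x = QuotientGroup.mk' (Cfsg.pCore 2 H) g := by
    rw [hxdef, map_pow, ← pow_mod_orderOf, hn, he1, pow_one]
  have hgq : g ^ q ∈ Cfsg.pCore 2 H := by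
    rw [← QuotientGroup.eq_one_iff, ← QuotientGroup.mk'_apply, map_pow, ← hn]
    exact pow_orderOf_eq_one _
  have hxq : x ^ q = 1 := by
    rw [hxdef, ← pow_mul, mul_comm, pow_mul]
    have h1 : (⟨g ^ q, hgq⟩ : Cfsg.pCore 2 H) ^ (2 ^ a) = 1 := by
      rw [← ha]; exact pow_card_eq_one'
    have h2 : (g ^ q) ^ (2 ^ a) = 1 := by
      have := congrArg Subtype.val h1
      simpa using this
    have hq1 : q - 1 ≠ 0 := by have := hq.two_le; omega
    obtain ⟨m, hm⟩ : 2 ^ a ∣ e := dvd_pow_self _ hq1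
    rw [hm, pow_mul, h2, one_pow]
  have hx1 : x ≠ 1 := by
    intro h
    rw [h, map_one] at hxbar
    rw [← hxbar, orderOf_one] at hn
    exact hq.one_lt.ne hn
  have hxo : orderOf x = q := orderOf_eq_prime hxq hx1
  have hxodd : Odd (orderOf x) := by rw [hxo]; exact hqodd
  -- the coset of lifts of vbar
  set S : Set H := QuotientGroup.mk ⁻¹' ({vbar} : Set (H ⧸ Cfsg.pCore 2 H)) with hS
  have hScard : Nat.card S = 2 ^ a := by
    rw [hS, QuotientGroup.card_preimage_mk, ha, Nat.card_unique, mul_one]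
  have hSmem : ∀ h : H, h ∈ S ↔ QuotientGroup.mk' (Cfsg.pCore 2 H) h = vbar := by
    intro h; rfl
  have hconj : ∀ (k : ℤ) (h : H), h ∈ S → x ^ k * h * (x ^ k)⁻¹ ∈ S := by
    intro k h hh
    rw [hSmem] at hh ⊢
    rw [map_mul, map_mul, map_inv, map_zpow, hxbar, hh]
    have : Commute (QuotientGroup.mk' (Cfsg.pCore 2 H) g ^ k) vbar := hc.zpow_left k
    rw [this.eq, mul_inv_cancel_right]
  let σ : Equiv.Perm S :=
    { toFun := fun h => ⟨x * h.1 * x⁻¹, by simpa using hconj 1 h.1 h.2⟩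
      invFun := fun h => ⟨x⁻¹ * h.1 * x, by simpa using hconj (-1) h.1 h.2⟩
      left_inv := fun h => Subtype.ext (by simp [mul_assoc])
      right_inv := fun h => Subtype.ext (by simp [mul_assoc]) }
  have hσpow : ∀ (k : ℕ) (h : S), ((σ ^ k) h : H) = x ^ k * h.1 * (x ^ k)⁻¹ := by
    intro k
    induction k with
    | zero => intro h; simp
    | succ k ih =>
      intro h
      rw [pow_succ', Equiv.Perm.mul_apply]
      show x * ((σ ^ k) h : H) * x⁻¹ = _
      rw [ih, pow_succ']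
      group
  have hσq : σ ^ q ^ 1 = 1 := by
    ext h
    rw [pow_one, hσpow, hxq]
    simp
  haveI : Fintype S := Fintype.ofFinite S
  have hnd : ¬ q ∣ Fintype.card S := by
    rw [← Nat.card_eq_fintype_card, hScard]
    intro h
    have := hq.dvd_of_dvd_pow h
    exact hq2 ((Nat.prime_dvd_prime_iff_eq hq Nat.prime_two).mp this)
  obtain ⟨w1, hw1⟩ := Equiv.Perm.exists_fixed_point_of_prime hnd hσq
  have hw1' : x * (w1 : H) * x⁻¹ = (w1 : H) := congrArg Subtype.val hw1
  have hxw1 : Commute x (w1 : H) := by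
    show x * (w1 : H) = (w1 : H) * x
    calc x * (w1 : H) = (x * (w1 : H) * x⁻¹) * x := by group
      _ = (w1 : H) * x := by rw [hw1']
  have hw1bar : QuotientGroup.mk' (Cfsg.pCore 2 H) (w1 : H) = vbar := (hSmem _).mp w1.2
  -- w1 is a nontrivial 2-element
  have hw1sq : (w1 : H) ^ 2 ∈ Cfsg.pCore 2 H := by
    rw [← QuotientGroup.eq_one_iff, ← QuotientGroup.mk'_apply, map_pow, hw1bar]
    have := pow_orderOf_eq_one vbar
    rwa [hv] at this
  obtain ⟨m, hm⟩ := Cfsg.Agent.Lib.Helper49.pow_eq_one_of_mem_pCore hw1sq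
  have hw1pow : (w1 : H) ^ 2 ^ (m + 1) = 1 := by
    rw [pow_succ', pow_mul]; exact hm
  obtain ⟨k, hk, hko⟩ := (Nat.dvd_prime_pow Nat.prime_two).mp (orderOf_dvd_of_pow_eq_one hw1pow)
  have hk0 : k ≠ 0 := by
    rintro rfl
    rw [pow_zero, orderOf_eq_one_iff] at hko
    rw [hko, map_one] at hw1bar
    rw [← hw1bar, orderOf_one] at hv
    omega
  obtain ⟨j, rfl⟩ := Nat.exists_eq_succ_of_ne_zero hk0
  set w := (w1 : H) ^ 2 ^ j with hw
  have hwo : orderOf w = 2 := by
    rw [hw, orderOf_pow_of_dvd (pow_ne_zero j two_ne_zero) (by rw [hko]; exact pow_dvd_pow 2 (Nat.le_succ j)),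
      hko, pow_succ, Nat.mul_div_cancel_left _ (pow_pos two_pos j)]
  have hxw : Commute x w := hxw1.pow_right _
  exact hx1 (eq_one_of_commute_involution hO hI hY hxodd hwo hxw)


/-- the automorphism group of a group of prime order is cyclic -/
lemma isCyclic_mulAut_of_prime_card {Y : Type*} [Group Y] [Finite Y] (V : Subgroup Y) {q : ℕ}
    (hq : q.Prime) (hV : Nat.card V = q) : IsCyclic (MulAut V) := by
  haveI : Fact q.Prime := ⟨hq⟩
  haveI : Fact (Nat.card V).Prime := ⟨hV ▸ hq⟩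
  haveI : IsCyclic V := isCyclic_of_prime_card hV
  haveI : IsCyclic (ZMod (Nat.card V))ˣ := inferInstance
  exact isCyclic_of_surjective (IsCyclic.mulAutMulEquiv V).symm.toMonoidHom
    (IsCyclic.mulAutMulEquiv V).symm.surjective

set_option maxHeartbeats 800000 in
/-- the structure of `H / O_2(H)` -/
lemma quotient_structure [Group.IsSolvable H] (hO : Cfsg.oddCore H = ⊥)
    (hI : ∀ t : H, orderOf t = 2 → Cfsg.HasNormalPComplement 2 ↥(Subgroup.centralizer ({t} : Set H)))
    (X : Subgroup H) (hXodd : Odd (Nat.card X)) (hXidx : ∃ k : ℕ, X.index = 2 ^ k)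
    (hYtop : Cfsg.pCore 2 H ≠ ⊤) :
    (X ⊔ Cfsg.pCore 2 H).Normal ∧ ∃ g : H, ∀ h : H, ∃ n : ℤ, h * g ^ n ∈ X ⊔ Cfsg.pCore 2 H := by
  haveI : Fact (Nat.Prime 2) := ⟨Nat.prime_two⟩
  set Y := Cfsg.pCore 2 H with hYdef
  have hYn : Y.Normal := Cfsg.pCore_normal 2 H
  have hYp : IsPGroup 2 Y := Cfsg.Agent.Lib.Helper49.isPGroup_pCore 2 H
  -- Y is nontrivial
  have hY : Y ≠ ⊥ := by
    intro h0
    have hle := Cfsg.Agent.Lib.Helper55.centralizer_pCore_le (G := H) 2 hO
    rw [← hYdef, h0] at hle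
    apply hYtop
    rw [eq_top_iff]
    intro h _
    rw [h0]
    apply hle
    rw [Subgroup.mem_centralizer_iff]
    intro z hz
    rw [SetLike.mem_coe, Subgroup.mem_bot] at hz
    rw [hz, one_mul, mul_one]
  set π := QuotientGroup.mk' Y with hπ
  have hπs : Function.Surjective π := QuotientGroup.mk'_surjective Y
  haveI hnt : Nontrivial (H ⧸ Y) := by
    by_contra hcon
    rw [not_nontrivial_iff_subsingleton] at hcon
    apply hYtop
    rw [eq_top_iff]
    intro h _
    rw [← QuotientGroup.eq_one_iff]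
    exact Subsingleton.elim _ _
  -- a normal subgroup of prime order in the quotient
  obtain ⟨V, hVn, hVb, hVab, q, hq, hVexp, i, hVcard⟩ := exists_normal_elemAb (G := H ⧸ Y)
  haveI := hVn
  haveI : Fact q.Prime := ⟨hq⟩
  obtain ⟨a, ha⟩ := hYp.exists_card_eq
  have hq2 : q ≠ 2 := by
    rintro rfl
    -- the preimage of V is a normal 2-subgroup
    have h1 : (V.comap π).Normal := hVn.comap _
    have h2 : IsPGroup 2 (V.comap π) := by
      apply IsPGroup.of_card (n := a + i)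
      rw [card_comap_mk', ha, hVcard, pow_add]
    have h3 : V.comap π ≤ Y := Cfsg.Agent.Lib.Helper49.le_pCore_of_normal_of_isPGroup h1 h2
    apply hVb
    rw [eq_bot_iff]
    intro v hv
    obtain ⟨h, rfl⟩ := hπs v
    rw [Subgroup.mem_bot]
    exact (QuotientGroup.eq_one_iff h).mpr (h3 (Subgroup.mem_comap.mpr hv))
  have hqodd : Odd q := hq.odd_of_ne_two hq2
  have hqY : ¬ q ∣ Nat.card Y := by
    rw [ha]
    intro h
    exact hq2 ((Nat.prime_dvd_prime_iff_eq hq Nat.prime_two).mp (hq.dvd_of_dvd_pow h))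
  -- V has order q
  have hVq : Nat.card V = q := by
    have hsolW : Group.IsSolvable (V.comap π) := inferInstance
    have hker : (π.subgroupComap V).ker = Y.subgroupOf (V.comap π) := by
      ext x
      rw [MonoidHom.mem_ker, Subgroup.mem_subgroupOf, ← QuotientGroup.eq_one_iff]
      constructor
      · intro h
        exact congrArg Subtype.val h
      · intro h
        exact Subtype.ext h
    have hYW : Y ≤ V.comap π := le_comap_mk' Y V
    have hc1 : Nat.card (Y.subgroupOf (V.comap π)) = Nat.card Y :=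
      Nat.card_congr (Subgroup.subgroupOfEquivOfLe hYW).toEquiv
    have hdvd := card_dvd_prime_of_fpf' hsolW (π.subgroupComap V)
      (MonoidHom.subgroupComap_surjective_of_surjective _ _ hπs)
      (by
        rw [hker, ← Subgroup.one_lt_card_iff_ne_bot, hc1]
        exact (Subgroup.one_lt_card_iff_ne_bot _).mpr hY)
      (fun a b => Subtype.ext (hVab a a.2 b b.2)) q hq (by rw [hker, hc1]; exact hqY)
      (fun y => Subtype.ext (by simpa using hVexp y y.2)) i hVcard
      (by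
        intro x hx1 hxo k hk hxk
        rw [hker, Subgroup.mem_subgroupOf] at hk
        have hxodd : Odd (orderOf (x : H)) := by
          rw [Subgroup.orderOf_coe]
          exact (hqodd.pow (n := i)).of_dvd_nat hxo
        have hcomm : Commute (x : H) (k : H) := by
          have := congrArg Subtype.val hxk.eq
          exact this
        by_contra hk1
        apply hx1
        have := eq_one_of_commute hO hI hxodd hk (fun h => hk1 (Subtype.ext h)) hcomm
        exact Subtype.ext this)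
    rcases (Nat.dvd_prime hq).mp hdvd with h1 | h1
    · exact absurd ((Subgroup.one_lt_card_iff_ne_bot _).mpr hVb) (by omega)
    · exact h1
  -- the centralizer of V has odd order
  set C := Subgroup.centralizer (V : Set (H ⧸ Y)) with hC
  have hCn : C.Normal := inferInstance
  have hCodd : Odd (Nat.card C) := by
    by_contra hcon
    rw [Nat.not_odd_iff_even, even_iff_two_dvd] at hcon
    obtain ⟨v, hv⟩ := exists_prime_orderOf_dvd_card' (G := C) 2 hcon
    obtain ⟨n, hn1⟩ := (Subgroup.ne_bot_iff_exists_ne_one).mp hVb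
    have hno : orderOf (n : H ⧸ Y) = q := by
      apply orderOf_eq_prime
      · exact hVexp _ n.2
      · intro h; exact hn1 (Subtype.ext h)
    have hcomm : Commute (n : H ⧸ Y) (v : H ⧸ Y) := by
      have := (Subgroup.mem_centralizer_iff.mp v.2) n n.2
      exact this
    exact no_commuting_in_quotient hO hI hY (n : H ⧸ Y) (v : H ⧸ Y) q hq hq2 hno
      (by rw [Subgroup.orderOf_coe]; exact hv) hcomm
  -- C ≤ image of X
  set Xb := X.map π with hXb
  obtain ⟨k, hk⟩ := hXidx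
  have hXbodd : Odd (Nat.card Xb) := hXodd.of_dvd_nat (X.card_map_dvd π)
  have hXbidx : Xb.index ∣ 2 ^ k := by
    rw [← hk, hXb]
    exact X.index_map_dvd hπs
  have hCX : C ≤ Xb := by
    have h1 : Nat.card (C ⊔ Xb : Subgroup (H ⧸ Y)) ∣ Nat.card C * Nat.card Xb :=
      ⟨_, (card_sup_mul_card_inf C Xb).symm⟩
    have h2 : Odd (Nat.card (C ⊔ Xb : Subgroup (H ⧸ Y))) := (hCodd.mul hXbodd).of_dvd_nat h1
    have h3 : Xb.relIndex (C ⊔ Xb) ∣ Nat.card (C ⊔ Xb : Subgroup (H ⧸ Y)) := by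
      have := Subgroup.relIndex_mul_relIndex ⊥ Xb (C ⊔ Xb) bot_le le_sup_right
      rw [Subgroup.relIndex_bot_left, Subgroup.relIndex_bot_left] at this
      exact ⟨_, by rw [← this, mul_comm]⟩
    have h4 : Xb.relIndex (C ⊔ Xb) ∣ 2 ^ k := (Subgroup.relIndex_dvd_index_of_le le_sup_right).trans hXbidx
      |>.trans dvd_rfl
    have h5 : Xb.relIndex (C ⊔ Xb) = 1 := by
      obtain ⟨j, -, hj⟩ := (Nat.dvd_prime_pow Nat.prime_two).mp h4
      have h6 : Odd (2 ^ j) := by rw [← hj]; exact h2.of_dvd_nat h3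
      rcases Nat.eq_zero_or_pos j with rfl | hjpos
      · rw [hj, pow_zero]
      · exfalso
        have : Even (2 ^ j) := (Nat.even_pow.mpr ⟨even_two, hjpos.ne'⟩)
        exact (Nat.not_odd_iff_even.mpr this) h6
    have h7 : C ⊔ Xb ≤ Xb := Subgroup.relIndex_eq_one.mp h5
    exact le_sup_left.trans h7
  -- commutators lie in C
  have hcommC : commutator (H ⧸ Y) ≤ C := commutator_le_centralizer_of_prime_card V hq hVq
  have hcommX : commutator (H ⧸ Y) ≤ Xb := hcommC.trans hCX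
  have hXbn : Xb.Normal := by
    constructor
    intro x hx g
    have h1 : g * x * g⁻¹ = ⁅g, x⁆ * x := by rw [commutatorElement_def]; group
    rw [h1]
    apply Xb.mul_mem _ hx
    apply hcommX
    rw [commutator_def]
    exact Subgroup.commutator_mem_commutator (Subgroup.mem_top g) (Subgroup.mem_top x)
  have hcomap : Xb.comap π = X ⊔ Y := by
    rw [hXb, Subgroup.comap_map_eq, hπ, QuotientGroup.ker_mk']
  refine ⟨by rw [← hcomap]; exact hXbn.comap π, ?_⟩
  -- a generator modulo C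
  haveI hcycA : IsCyclic (MulAut V) := isCyclic_mulAut_of_prime_card V hq hVq
  set φ : (H ⧸ Y) →* MulAut V := MulAut.conjNormal with hφ
  haveI hcycR : IsCyclic φ.range := Subgroup.isCyclic _
  obtain ⟨⟨r, hr⟩, hgen⟩ := hcycR.exists_generator
  obtain ⟨gb, rfl⟩ := MonoidHom.mem_range.mp hr
  obtain ⟨g, rfl⟩ := hπs gb
  refine ⟨g, ?_⟩
  intro h
  have hmem := hgen ⟨φ (π h)⁻¹, MonoidHom.mem_range.mpr ⟨_, rfl⟩⟩
  obtain ⟨n, hn⟩ := Subgroup.mem_zpowers_iff.mp hmem
  have hn' : (φ (π g)) ^ n = φ (π h)⁻¹ := by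
    have := congrArg Subtype.val hn
    simpa using this
  refine ⟨n, ?_⟩
  rw [← hcomap, Subgroup.mem_comap]
  apply hCX
  -- π (h * g ^ n) lies in the kernel of φ
  have hker : φ (π (h * g ^ n)) = 1 := by
    rw [map_mul, map_mul, map_zpow, map_zpow, hn', map_inv, mul_inv_cancel]
  rw [hC, Subgroup.mem_centralizer_iff]
  intro v hv
  have h2 := congrArg (fun α : MulAut V => ((α ⟨v, hv⟩ : V) : H ⧸ Y)) hker
  simp only [hφ, MulAut.conjNormal_apply, MulAut.one_apply] at h2
  calc v * π (h * g ^ n) = (π (h * g ^ n) * v * (π (h * g ^ n))⁻¹) * π (h * g ^ n) := by rw [h2]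
    _ = π (h * g ^ n) * v := by group


/-- Let H be a finite solvable group with no nontrivial normal subgroup of odd order in which the centralizer of every involution has a normal 2-complement. Let X be a Hall 2'-subgroup of H (odd order, index a power of 2) and Y = O₂(H). Then no non-identity element of X commutes with a non-identity element of Y (so for X ≠ 1 the group XY is a Frobenius group with kernel Y), every Sylow subgroup of X is cyclic, XY is normal in H, and H/XY is a cyclic 2-group. -/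
theorem result {H : Type*} [Group H] [Finite H] (hsol : Group.IsSolvable H)
    (hO : Cfsg.oddCore H = ⊥)
    (hI : ∀ t : H, orderOf t = 2 → Cfsg.HasNormalPComplement 2 ↥(Subgroup.centralizer ({t} : Set H)))
    (X : Subgroup H) (hXodd : Odd (Nat.card X)) (hXidx : ∃ k : ℕ, X.index = 2 ^ k) :
    (∀ x ∈ X, x ≠ 1 → ∀ y ∈ Cfsg.pCore 2 H, y ≠ 1 → x * y ≠ y * x) ∧
      (∀ (p : ℕ) [Fact p.Prime] (P : Sylow p ↥X), IsCyclic ↥(P : Subgroup ↥X)) ∧
      (X ⊔ Cfsg.pCore 2 H).Normal ∧
      ∀ hN : (X ⊔ Cfsg.pCore 2 H).Normal, IsCyclic (H ⧸ (X ⊔ Cfsg.pCore 2 H)) ∧ IsPGroup 2 (H ⧸ (X ⊔ Cfsg.pCore 2 H)) := by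
  haveI := hsol
  haveI : Fact (Nat.Prime 2) := ⟨Nat.prime_two⟩
  have hXo : ∀ x ∈ X, Odd (orderOf x) := fun x hx =>
    hXodd.of_dvd_nat (Subgroup.orderOf_dvd_natCard X hx)
  have h1 : ∀ x ∈ X, x ≠ 1 → ∀ y ∈ Cfsg.pCore 2 H, y ≠ 1 → x * y ≠ y * x := by
    intro x hx hx1 y hy hy1 hxy
    exact hx1 (eq_one_of_commute hO hI (hXo x hx) hy hy1 hxy)
  -- if O_2(H) is everything then X is trivial
  have htriv : Cfsg.pCore 2 H = ⊤ → ∀ x ∈ X, x = 1 := by
    intro htop x hx
    have hxY : x ∈ Cfsg.pCore 2 H := by rw [htop]; trivial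
    obtain ⟨m, hm⟩ := Cfsg.Agent.Lib.Helper49.pow_eq_one_of_mem_pCore hxY
    have h2 : orderOf x ∣ 2 ^ m := orderOf_dvd_of_pow_eq_one hm
    have hxo : (orderOf x).Coprime 2 := Nat.Coprime.symm (Nat.coprime_two_left.mpr (hXo x hx))
    have h3 : orderOf x = 1 :=
      Nat.eq_one_of_dvd_coprimes (Nat.Coprime.pow_right m hxo) dvd_rfl h2
    exact orderOf_eq_one_iff.mp h3
  have hpg : ∀ hN : (X ⊔ Cfsg.pCore 2 H).Normal, IsPGroup 2 (H ⧸ (X ⊔ Cfsg.pCore 2 H)) := by
    intro hN
    obtain ⟨k, hk⟩ := hXidx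
    have hd : (X ⊔ Cfsg.pCore 2 H).index ∣ 2 ^ k := by
      rw [← hk]; exact Subgroup.index_dvd_of_le le_sup_left
    obtain ⟨j, -, hj⟩ := (Nat.dvd_prime_pow Nat.prime_two).mp hd
    exact IsPGroup.of_card (n := j) (by rw [← Subgroup.index_eq_card, hj])
  refine ⟨h1, ?_, ?_⟩
  · -- Sylow subgroups of X are cyclic
    intro p _ P
    by_cases hY : Cfsg.pCore 2 H = ⊥
    · -- then H is trivial
      have hle := Cfsg.Agent.Lib.Helper55.centralizer_pCore_le (G := H) 2 hO
      have hall : ∀ h : H, h = 1 := by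
        intro h
        have : h ∈ Cfsg.pCore 2 H := by
          apply hle
          rw [Subgroup.mem_centralizer_iff]
          intro z hz
          rw [hY, SetLike.mem_coe, Subgroup.mem_bot] at hz
          rw [hz, one_mul, mul_one]
        rwa [hY, Subgroup.mem_bot] at this
      haveI : Subsingleton ↥(P : Subgroup ↥X) :=
        ⟨fun a b => Subtype.ext (Subtype.ext ((hall _).trans (hall _).symm))⟩
      exact isCyclic_of_subsingleton
    · have hfpf : ∀ h ∈ X, h ≠ 1 → Cfsg.pCore 2 H ⊓ Subgroup.centralizer {h} = ⊥ := by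
        intro h hh hh1
        rw [eq_bot_iff]
        intro y hy
        rw [Subgroup.mem_bot]
        have hy1 : y ∈ Cfsg.pCore 2 H := hy.1
        have hy2 : y ∈ Subgroup.centralizer {h} := hy.2
        rw [Subgroup.mem_centralizer_singleton_iff] at hy2
        by_contra hne
        exact h1 h hh hh1 y hy1 hne hy2.symm
      have huniq : ∀ C₁ C₂ : Subgroup ↥(P : Subgroup ↥X), Nat.card C₁ = p → Nat.card C₂ = p → C₁ = C₂ :=
        fun C₁ C₂ hc1 hc2 => Cfsg.Agent.Lib.Helper35.unique_subgroup_of_order_p_of_fpf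
          (Cfsg.pCore 2 H) X hY hfpf p (P : Subgroup ↥X) P.isPGroup' C₁ C₂ hc1 hc2
      rcases Cfsg.Agent.Lib.Helper51.cyclic_or_quaternion_of_uniqueOrderP p P.isPGroup' huniq with
        h | ⟨rfl, -⟩
      · exact h
      · -- a 2-subgroup of a group of odd order is trivial
        obtain ⟨n, hn⟩ := P.isPGroup'.exists_card_eq
        have hd : Nat.card ↥(P : Subgroup ↥X) ∣ Nat.card X := Subgroup.card_subgroup_dvd_card _
        have hodd : Odd (2 ^ n) := by rw [← hn]; exact hXodd.of_dvd_nat hd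
        have hn0 : n = 0 := by
          rcases Nat.eq_zero_or_pos n with h | h
          · exact h
          · exfalso
            have : Even (2 ^ n) := Nat.even_pow.mpr ⟨even_two, h.ne'⟩
            exact (Nat.not_odd_iff_even.mpr this) hodd
        rw [hn0, pow_zero] at hn
        haveI : Subsingleton ↥(P : Subgroup ↥X) := (Nat.card_eq_one_iff_unique.mp hn).1
        exact isCyclic_of_subsingleton
  · by_cases hYtop : Cfsg.pCore 2 H = ⊤
    · have htop : X ⊔ Cfsg.pCore 2 H = ⊤ := by rw [hYtop, sup_top_eq]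
      refine ⟨by rw [htop]; infer_instance, ?_⟩
      intro hN
      refine ⟨?_, hpg hN⟩
      haveI : Subsingleton (H ⧸ (X ⊔ Cfsg.pCore 2 H)) := by
        constructor
        intro a b
        obtain ⟨a', rfl⟩ := QuotientGroup.mk_surjective a
        obtain ⟨b', rfl⟩ := QuotientGroup.mk_surjective b
        rw [QuotientGroup.eq, htop]
        trivial
      exact isCyclic_of_subsingleton
    · obtain ⟨hn, g, hg⟩ := quotient_structure hO hI X hXodd hXidx hYtop
      refine ⟨hn, ?_⟩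
      intro hN
      refine ⟨?_, hpg hN⟩
      rw [isCyclic_iff_exists_zpowers_eq_top]
      refine ⟨(QuotientGroup.mk g : H ⧸ (X ⊔ Cfsg.pCore 2 H))⁻¹, ?_⟩
      rw [eq_top_iff]
      intro z _
      obtain ⟨h, rfl⟩ := QuotientGroup.mk_surjective z
      obtain ⟨n, hn'⟩ := hg h
      rw [Subgroup.mem_zpowers_iff]
      refine ⟨n, ?_⟩
      rw [inv_zpow, ← QuotientGroup.mk_zpow, ← QuotientGroup.mk_inv, eq_comm, QuotientGroup.eq]
      have : h⁻¹ * (g ^ n)⁻¹ = (g ^ n * h)⁻¹ := by group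
      rw [this]
      apply Subgroup.inv_mem
      -- g^n * h = h⁻¹ * (h * g^n) * h ... use normality
      have h2 : g ^ n * h = h⁻¹ * (h * g ^ n) * h := by group
      rw [h2]
      have := hN.conj_mem (h * g ^ n) hn' h⁻¹
      simpa using this

end Cfsg.Agent.S3215
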