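import Cfsg.Statements.S3246
import Cfsg.Agent.Lib.Helper54.PLocal3

set_option autoImplicit false
open Cfsg

namespace Cfsg.Agent.S3246

open Cfsg.Agent.Lib.Helper54
open scoped commutatorElement

/-- A `p'`-group normalizing a `p`-group `Q` and centralizing a subgroup of index at most `2` of
`Q` centralizes `Q`. -/
theorem le_centralizer_of_relIndex_le_two {H : Type*} [Group H] [Finite H] (p : ℕ) [Fact p.Prime]
    (Q Q₀ Y : Subgroup H) (hQ : IsPGroup p Q) (_hQ₀ : Q₀ ≤ Q) (hidx : Q₀.relIndex Q ≤ 2)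
    (hY : (Nat.card Y).Coprime p) (hYQ : Y ≤ Subgroup.normalizer (Q : Set H))
    (hc : Y ≤ Subgroup.centralizer (Q₀ : Set H)) : Y ≤ Subgroup.centralizer (Q : Set H) := by
  have h0 : Q₀.relIndex Q ≠ 0 := Subgroup.index_ne_zero_of_finite (H := Q₀.subgroupOf Q)
  have h12 : Q₀.relIndex Q = 1 ∨ Q₀.relIndex Q = 2 := by omega
  rcases h12 with h1 | h2
  · rw [Subgroup.relIndex_eq_one] at h1
    exact hc.trans (Subgroup.centralizer_le h1)
  · have hcomm : ⁅Q, Y⁆ ≤ Q₀ := by
      rw [Subgroup.commutator_le]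
      intro u hu y hy
      have hw : y * u⁻¹ * y⁻¹ ∈ Q :=
        (Subgroup.mem_normalizer_iff.mp (hYQ hy) u⁻¹).mp (Subgroup.inv_mem _ hu)
      have e : ⁅u, y⁆ = u * (y * u⁻¹ * y⁻¹) := by rw [commutatorElement_def]; group
      rw [e]
      have key := Subgroup.mul_mem_iff_of_index_two (H := Q₀.subgroupOf Q) h2
        (a := ⟨u, hu⟩) (b := ⟨y * u⁻¹ * y⁻¹, hw⟩)
      rw [Subgroup.mem_subgroupOf, Subgroup.mem_subgroupOf, Subgroup.mem_subgroupOf] at key
      apply key.mpr
      constructor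
      · intro hu0
        have h3 := (Subgroup.mem_centralizer_iff.mp (hc hy)) u⁻¹ (Subgroup.inv_mem _ hu0)
        have e2 : y * u⁻¹ * y⁻¹ = u⁻¹ := by rw [← h3]; group
        show y * u⁻¹ * y⁻¹ ∈ Q₀
        rw [e2]; exact Subgroup.inv_mem _ hu0
      · intro hw0
        have hw0' : y * u⁻¹ * y⁻¹ ∈ Q₀ := hw0
        have h3 := (Subgroup.mem_centralizer_iff.mp (hc (Subgroup.inv_mem _ hy))) _ hw0'
        have e2 : u⁻¹ = y * u⁻¹ * y⁻¹ := by
          calc u⁻¹ = y⁻¹ * (y * u⁻¹ * y⁻¹) * y := by group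
            _ = (y * u⁻¹ * y⁻¹) * y⁻¹ * y := by rw [h3]
            _ = y * u⁻¹ * y⁻¹ := by group
        show u ∈ Q₀
        rw [← Subgroup.inv_mem_iff, e2]; exact hw0'
    have h3 : ⁅⁅Q, Y⁆, Y⁆ = ⊥ := by
      rw [eq_bot_iff]
      refine (Subgroup.commutator_mono hcomm le_rfl).trans ?_
      rw [le_bot_iff, Subgroup.commutator_eq_bot_iff_le_centralizer, Subgroup.le_centralizer_iff]
      exact hc
    have h4 := Cfsg.Agent.S0028.commutator_eq_bot_of_coprime hQ hY hYQ h3
    rw [Subgroup.commutator_eq_bot_iff_le_centralizer, Subgroup.le_centralizer_iff] at h4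
    exact h4

/-- In a `2`-constrained group `H` with `O(H) = 1`, an odd-order subgroup `Y` normalized by a
`2`-subgroup `B` of index at most `2` in a Sylow `2`-subgroup is trivial. -/
theorem eq_bot_of_two_constrained {H : Type*} [Group H] [Finite H]
    (hH : Cfsg.IsPConstrained 2 H) (hO : Cfsg.pPrimeCore 2 H = ⊥) (B Y : Subgroup H)
    (hB : IsPGroup 2 B) (hcard : ∀ S₁ : Sylow 2 H, Nat.card S₁ ≤ 2 * Nat.card B)
    (hYodd : Odd (Nat.card Y)) (hBY : B ≤ Subgroup.normalizer (Y : Set H)) : Y = ⊥ := by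
  have hcent := (isPConstrained_iff_of_pPrimeCore_eq_bot 2 hO).mp hH
  obtain ⟨S₁, hBS₁⟩ := hB.exists_le_sylow
  have hQS₁ : Cfsg.pCore 2 H ≤ S₁ := Cfsg.Agent.Lib.Helper76.pCore_le_sylow 2 S₁
  have hQ2 : IsPGroup 2 (Cfsg.pCore 2 H) := Cfsg.Agent.Lib.Helper76.pCore_isPGroup 2
  have hQn : (Cfsg.pCore 2 H).Normal := Cfsg.pCore_normal 2 H
  have hYcop : (Nat.card Y).Coprime 2 := hYodd.coprime_two_right
  have hidx : (Cfsg.pCore 2 H ⊓ B).relIndex (Cfsg.pCore 2 H) ≤ 2 := by
    rw [inf_comm, Subgroup.inf_relIndex_right]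
    have h1 : B.relIndex (Cfsg.pCore 2 H) ≤ B.relIndex S₁ :=
      Subgroup.relIndex_le_of_le_right hQS₁
        (Subgroup.index_ne_zero_of_finite (H := B.subgroupOf S₁))
    have h2 := card_mul_relIndex hBS₁
    have h3 := hcard S₁
    have hBpos : 0 < Nat.card B := Nat.card_pos
    have h4 : B.relIndex (S₁ : Subgroup H) ≤ 2 := by
      by_contra hcon
      rw [not_le] at hcon
      have : Nat.card B * 3 ≤ Nat.card B * B.relIndex (S₁ : Subgroup H) :=
        Nat.mul_le_mul_left _ hcon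
      omega
    exact h1.trans h4
  have hYc0 : Y ≤ Subgroup.centralizer ((Cfsg.pCore 2 H ⊓ B : Subgroup H) : Set H) := by
    intro y hy
    rw [Subgroup.mem_centralizer_iff]
    rintro q ⟨hqQ, hqB⟩
    have h1 : ⁅q, y⁆ ∈ Cfsg.pCore 2 H := by
      have e : ⁅q, y⁆ = q * (y * q⁻¹ * y⁻¹) := by rw [commutatorElement_def]; group
      rw [e]
      exact Subgroup.mul_mem _ hqQ (hQn.conj_mem _ (Subgroup.inv_mem _ hqQ) y)
    have h2 : ⁅q, y⁆ ∈ Y := by
      rw [commutatorElement_def]
      exact Subgroup.mul_mem _ ((Subgroup.mem_normalizer_iff.mp (hBY hqB) y).mp hy)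
        (Subgroup.inv_mem _ hy)
    have h3 := eq_one_of_mem_pGroup_of_mem_coprime hQ2 hYcop h1 h2
    exact (commutatorElement_eq_one_iff_commute.mp h3).eq
  have hYQ := le_centralizer_of_relIndex_le_two 2 (Cfsg.pCore 2 H) (Cfsg.pCore 2 H ⊓ B) Y hQ2
    inf_le_left hidx hYcop (by rw [Subgroup.normalizer_eq_top]; exact le_top) hYc0
  have hYQ' : Y ≤ Cfsg.pCore 2 H := hYQ.trans hcent
  rw [eq_bot_iff]
  intro y hy
  exact Subgroup.mem_bot.mpr (eq_one_of_mem_pGroup_of_mem_coprime hQ2 hYcop (hYQ' hy) hy)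

theorem mem_zpowers_of_sq_eq_one {P : Type*} [Group P] {z w : P} (hz : z * z = 1)
    (hw : w ∈ Subgroup.zpowers z) : w = 1 ∨ w = z := by
  obtain ⟨k, rfl⟩ := Subgroup.mem_zpowers_iff.mp hw
  have h2 : z ^ (2 : ℤ) = 1 := by
    rw [zpow_ofNat, pow_two]; exact hz
  obtain ⟨m, hm | hm⟩ := Int.even_or_odd' k
  · left
    rw [hm, zpow_mul, h2, one_zpow]
  · right
    rw [hm, zpow_add, zpow_mul, h2, one_zpow, one_mul, zpow_one]

/-- In a finite `2`-group `P` with a normal subgroup `N` of order more than `4`, there are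
`z ∈ N ∩ Z(P)`, `z ≠ 1`, and `a ∈ N`, `a ∉ {1, z}`, such that every conjugate of `a` is `a` or
`z a` (provided `z * z = 1`). -/
theorem exists_central_and_almost_central {P : Type*} [Group P] [Finite P] (hP : IsPGroup 2 P)
    (N : Subgroup P) [hN : N.Normal] (hNsq : ∀ n ∈ N, n * n = 1) (hNcard : 4 < Nat.card N) :
    ∃ z ∈ N, ∃ a ∈ N, z ≠ 1 ∧ z ∈ Subgroup.center P ∧ a ≠ 1 ∧ a ≠ z ∧
      ∀ s : P, s * a * s⁻¹ = a ∨ s * a * s⁻¹ = z * a := by
  have hN1 : N ≠ ⊥ := by
    rintro rfl
    rw [Subgroup.card_bot] at hNcard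
    omega
  obtain ⟨z, hzN, hz1, hzc⟩ := Cfsg.Agent.Lib.Helper9.exists_ne_one_mem_center_of_normal hP N hN1
  have hzz : z * z = 1 := hNsq z hzN
  have hZn : (Subgroup.zpowers z).Normal := by
    refine ⟨fun n hn g => ?_⟩
    have hnc : n ∈ Subgroup.center P :=
      (Subgroup.zpowers_le (H := Subgroup.center P)).mpr hzc hn
    have e : g * n * g⁻¹ = n := by
      rw [Subgroup.mem_center_iff] at hnc
      rw [hnc g]; group
    rw [e]; exact hn
  have hZcard : Nat.card (Subgroup.zpowers z) = 2 := by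
    rw [Nat.card_zpowers]
    exact orderOf_eq_prime (by rw [pow_two]; exact hzz) hz1
  have hNbn : (N.map (QuotientGroup.mk' (Subgroup.zpowers z))).Normal :=
    hN.map _ (QuotientGroup.mk'_surjective _)
  have hNb1 : N.map (QuotientGroup.mk' (Subgroup.zpowers z)) ≠ ⊥ := by
    intro h
    rw [Subgroup.map_eq_bot_iff, QuotientGroup.ker_mk'] at h
    have := Subgroup.card_le_of_le h
    omega
  obtain ⟨abar, habN, hab1, habc⟩ := Cfsg.Agent.Lib.Helper9.exists_ne_one_mem_center_of_normal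
    (hP.to_quotient (Subgroup.zpowers z)) (N.map (QuotientGroup.mk' (Subgroup.zpowers z))) hNb1
  obtain ⟨a, haN, rfl⟩ := habN
  have haZ : a ∉ Subgroup.zpowers z := by
    intro h
    apply hab1
    rw [QuotientGroup.mk'_apply, QuotientGroup.eq_one_iff]
    exact h
  refine ⟨z, hzN, a, haN, hz1, hzc, ?_, ?_, ?_⟩
  · rintro rfl
    exact haZ (Subgroup.one_mem _)
  · rintro rfl
    exact haZ (Subgroup.mem_zpowers _)
  · intro s
    have h1 : ⁅s, a⁆ ∈ Subgroup.zpowers z := by
      rw [commutator_mem_iff_commute_mk]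
      exact (Subgroup.mem_center_iff.mp habc) (QuotientGroup.mk' (Subgroup.zpowers z) s)
    rcases mem_zpowers_of_sq_eq_one hzz h1 with h2 | h2
    · left
      have e : s * a * s⁻¹ = ⁅s, a⁆ * a := by rw [commutatorElement_def]; group
      rw [e, h2, one_mul]
    · right
      have e : s * a * s⁻¹ = ⁅s, a⁆ * a := by rw [commutatorElement_def]; group
      rw [e, h2]

/-- The involutions `z` (central in `S`) and `a` (with at most two `S`-conjugates) coming from
`A ∈ SCN(S)` of rank at least `3`. -/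
theorem exists_involutions {G : Type*} [Group G] [Finite G] (S : Sylow 2 G) (A : Subgroup G)
    (hA : Cfsg.IsSCN (S : Subgroup G) A) (hA3 : ¬ Cfsg.PRankLE 2 2 ↥A) :
    ∃ z a : G, z ∈ (S : Subgroup G) ∧ a ∈ (S : Subgroup G) ∧ z ≠ 1 ∧ z * z = 1 ∧ a ≠ 1 ∧
      a * a = 1 ∧ a ≠ z ∧ (∀ s ∈ (S : Subgroup G), s * z = z * s) ∧
      (∀ s ∈ (S : Subgroup G), s * a * s⁻¹ = a ∨ s * a * s⁻¹ = z * a) := by
  obtain ⟨hAS, hSA, hCA⟩ := hA
  have hAab : ∀ a ∈ A, ∀ b ∈ A, a * b = b * a := by
    intro a ha b hb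
    have h1 : a ∈ (S : Subgroup G) ⊓ Subgroup.centralizer (A : Set G) := hCA.symm ▸ ha
    exact ((Subgroup.mem_centralizer_iff.mp h1.2) b hb).symm
  let E : Subgroup G :=
    { carrier := {a | a ∈ A ∧ a * a = 1}
      one_mem' := ⟨A.one_mem, mul_one 1⟩
      mul_mem' := by
        rintro a b ⟨ha, ha2⟩ ⟨hb, hb2⟩
        refine ⟨A.mul_mem ha hb, ?_⟩
        calc a * b * (a * b) = a * (b * a) * b := by group
          _ = a * (a * b) * b := by rw [hAab b hb a ha]
          _ = (a * a) * (b * b) := by group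
          _ = 1 := by rw [ha2, hb2, one_mul]
      inv_mem' := by
        rintro a ⟨ha, ha2⟩
        refine ⟨A.inv_mem ha, ?_⟩
        rw [← mul_inv_rev, ha2, inv_one] }
  have hE : ∀ x : G, x ∈ E ↔ x ∈ A ∧ x * x = 1 := fun x => Iff.rfl
  have hES : E ≤ (S : Subgroup G) := fun x hx => hAS ((hE x).mp hx).1
  have hEcard : 4 < Nat.card E := by
    unfold Cfsg.PRankLE at hA3
    rw [not_forall] at hA3
    obtain ⟨E₀, hE₀⟩ := hA3
    rw [Classical.not_imp, Classical.not_imp, not_le] at hE₀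
    obtain ⟨-, hE₀sq, hE₀card⟩ := hE₀
    have h1 : E₀.map A.subtype ≤ E := by
      rintro _ ⟨x, hx, rfl⟩
      refine (hE _).mpr ⟨x.2, ?_⟩
      have h2 := hE₀sq x hx
      have h3 := congrArg Subtype.val h2
      rw [pow_two] at h3
      simpa using h3
    have h2 := Subgroup.card_le_of_le h1
    rw [Subgroup.card_map_of_injective (Subgroup.subtype_injective A)] at h2
    have h4 : (2 : ℕ) ^ 2 = 4 := by norm_num
    omega
  have hNn : (E.subgroupOf (S : Subgroup G)).Normal := by
    refine ⟨fun n hn g => ?_⟩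
    rw [Subgroup.mem_subgroupOf] at hn ⊢
    obtain ⟨hnA, hn2⟩ := (hE _).mp hn
    refine (hE _).mpr ⟨?_, ?_⟩
    · have := (Subgroup.mem_normalizer_iff.mp (hSA g.2) (n : G)).mp hnA
      simpa using this
    · have e : ((g * n * g⁻¹ : (S : Subgroup G)) : G) * ((g * n * g⁻¹ : (S : Subgroup G)) : G) =
          (g : G) * ((n : G) * (n : G)) * (g : G)⁻¹ := by
        simp only [Subgroup.coe_mul, Subgroup.coe_inv]; group
      rw [e, hn2]; group
  have hNsq : ∀ n ∈ E.subgroupOf (S : Subgroup G), n * n = 1 := by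
    intro n hn
    apply Subtype.ext
    have := ((hE _).mp (Subgroup.mem_subgroupOf.mp hn)).2
    simpa using this
  have hNcard : 4 < Nat.card (E.subgroupOf (S : Subgroup G)) := by
    rw [Nat.card_congr (Subgroup.subgroupOfEquivOfLe hES).toEquiv]; exact hEcard
  obtain ⟨z, hzN, a, haN, hz1, hzc, ha1, haz, hconj⟩ :=
    exists_central_and_almost_central S.isPGroup' (E.subgroupOf (S : Subgroup G)) hNsq hNcard
  refine ⟨(z : G), (a : G), z.2, a.2, ?_, ?_, ?_, ?_, ?_, ?_, ?_⟩
  · intro h; exact hz1 (Subtype.ext h)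
  · exact ((hE _).mp (Subgroup.mem_subgroupOf.mp hzN)).2
  · intro h; exact ha1 (Subtype.ext h)
  · exact ((hE _).mp (Subgroup.mem_subgroupOf.mp haN)).2
  · intro h; exact haz (Subtype.ext h)
  · intro s hs
    have := (Subgroup.mem_center_iff.mp hzc) ⟨s, hs⟩
    exact congrArg Subtype.val this
  · intro s hs
    rcases hconj ⟨s, hs⟩ with h | h
    · left; exact congrArg Subtype.val h
    · right; exact congrArg Subtype.val h

theorem mem_centralizer_singleton_iff {G : Type*} [Group G] (b t : G) :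
    t ∈ Subgroup.centralizer ({b} : Set G) ↔ t * b * t⁻¹ = b := by
  rw [Subgroup.mem_centralizer_iff]
  constructor
  · intro h
    have := h b rfl
    rw [← this]; group
  · intro h y hy
    rw [Set.mem_singleton_iff] at hy
    subst hy
    calc y * t = (t * y * t⁻¹) * t := by rw [h]
      _ = t * y := by group

/-- If every `S`-conjugate of `b` is `b` or `z b` (with `z` a central involution of `S`), then
`C_S(b)` has index at most `2` in `S`. -/
theorem card_le_two_mul_card_centralizer {G : Type*} [Group G] [Finite G] (S : Subgroup G)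
    (b z : G) (hzz : z * z = 1) (hzc : ∀ s ∈ S, s * z = z * s)
    (hb : ∀ s ∈ S, s * b * s⁻¹ = b ∨ s * b * s⁻¹ = z * b) :
    Nat.card S ≤ 2 * Nat.card (S ⊓ Subgroup.centralizer ({b} : Set G) : Subgroup G) := by
  by_cases hall : S ≤ Subgroup.centralizer ({b} : Set G)
  · rw [inf_of_le_left hall]; omega
  · rw [SetLike.not_le_iff_exists] at hall
    obtain ⟨s₀, hs₀, hs₀C⟩ := hall
    have hs₀b : s₀ * b * s₀⁻¹ = z * b := by
      rcases hb s₀ hs₀ with h | h
      · exact absurd ((mem_centralizer_singleton_iff b s₀).mpr h) hs₀C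
      · exact h
    have hidx : ((Subgroup.centralizer ({b} : Set G)).subgroupOf S).index = 2 := by
      rw [Subgroup.index_eq_two_iff]
      refine ⟨⟨s₀, hs₀⟩, fun t => ?_⟩
      by_cases ht : (t : G) ∈ Subgroup.centralizer ({b} : Set G)
      · right
        refine ⟨Subgroup.mem_subgroupOf.mpr ht, fun h => hs₀C ?_⟩
        have h1 : ((t * ⟨s₀, hs₀⟩ : S) : G) ∈ Subgroup.centralizer ({b} : Set G) :=
          Subgroup.mem_subgroupOf.mp h
        have e : s₀ = (t : G)⁻¹ * ((t * ⟨s₀, hs₀⟩ : S) : G) := by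
          simp only [Subgroup.coe_mul]; group
        rw [e]
        exact Subgroup.mul_mem _ (Subgroup.inv_mem _ ht) h1
      · left
        refine ⟨?_, fun h => ht (Subgroup.mem_subgroupOf.mp h)⟩
        rw [Subgroup.mem_subgroupOf, mem_centralizer_singleton_iff]
        have htb : (t : G) * b * (t : G)⁻¹ = z * b := by
          rcases hb t t.2 with h | h
          · exact absurd ((mem_centralizer_singleton_iff b t).mpr h) ht
          · exact h
        have htz : (t : G) * z * (t : G)⁻¹ = z := by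
          rw [hzc t t.2]; group
        calc ((t * ⟨s₀, hs₀⟩ : S) : G) * b * ((t * ⟨s₀, hs₀⟩ : S) : G)⁻¹
            = (t : G) * (s₀ * b * s₀⁻¹) * (t : G)⁻¹ := by
              simp only [Subgroup.coe_mul]; group
          _ = ((t : G) * z * (t : G)⁻¹) * ((t : G) * b * (t : G)⁻¹) := by rw [hs₀b]; group
          _ = z * (z * b) := by rw [htz, htb]
          _ = b := by rw [← mul_assoc, hzz, one_mul]
    have h1 := Subgroup.card_mul_index ((Subgroup.centralizer ({b} : Set G)).subgroupOf S)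
    rw [hidx, Nat.card_congr (subgroupOfEquivInf _ _).toEquiv, inf_comm] at h1
    omega

/-- Relative form of `eq_bot_of_two_constrained`. -/
theorem eq_bot_of_le_two_constrained {G : Type*} [Group G] [Finite G] (S : Sylow 2 G)
    (M : Subgroup G) (hM : Cfsg.IsPConstrained 2 ↥M) (hO : Cfsg.oddCore ↥M = ⊥)
    (B : Subgroup G) (hBM : B ≤ M) (hB2 : IsPGroup 2 B)
    (hcard : Nat.card (S : Subgroup G) ≤ 2 * Nat.card B)
    (Y : Subgroup G) (hYM : Y ≤ M) (hYodd : Odd (Nat.card Y))
    (hBY : B ≤ Subgroup.normalizer (Y : Set G)) : Y = ⊥ := by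
  have hB' : IsPGroup 2 (B.subgroupOf M) := hB2.comap_of_injective _ (Subgroup.subtype_injective M)
  have hcardB : Nat.card (B.subgroupOf M) = Nat.card B :=
    Nat.card_congr (Subgroup.subgroupOfEquivOfLe hBM).toEquiv
  have hcardY : Nat.card (Y.subgroupOf M) = Nat.card Y :=
    Nat.card_congr (Subgroup.subgroupOfEquivOfLe hYM).toEquiv
  have key := eq_bot_of_two_constrained hM hO (B.subgroupOf M) (Y.subgroupOf M) hB' ?_
    (by rw [hcardY]; exact hYodd) ?_
  · rw [Subgroup.subgroupOf_eq_bot, disjoint_iff, inf_of_le_left hYM] at key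
    exact key
  · intro S₁
    rw [hcardB]
    refine le_trans ?_ hcard
    have h1 : IsPGroup 2 ((S₁ : Subgroup M).map M.subtype) := S₁.isPGroup'.map _
    obtain ⟨S₂, hS₂⟩ := h1.exists_le_sylow
    have h2 := Subgroup.card_le_of_le hS₂
    rw [Subgroup.card_map_of_injective (Subgroup.subtype_injective M)] at h2
    rw [S.card_eq_multiplicity, ← S₂.card_eq_multiplicity]
    exact h2
  · intro b hb
    rw [Subgroup.mem_subgroupOf] at hb
    rw [Subgroup.mem_normalizer_iff]
    intro h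
    rw [Subgroup.mem_subgroupOf, Subgroup.mem_subgroupOf]
    have := Subgroup.mem_normalizer_iff.mp (hBY hb) (h : G)
    simpa using this

/-- A fixed-point-free involutory automorphism inverts. -/
theorem inverts_of_fixed_point_free {G : Type*} [Group G] [Finite G] (X : Subgroup G) (z : G)
    (hzz : z * z = 1) (hzX : z ∈ Subgroup.normalizer (X : Set G))
    (hfix : X ⊓ Subgroup.centralizer ({z} : Set G) = ⊥) : ∀ x ∈ X, z * x * z⁻¹ = x⁻¹ := by
  have hzi : z⁻¹ = z := inv_eq_of_mul_eq_one_left hzz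
  have hmem : ∀ x ∈ X, x⁻¹ * (z * x * z⁻¹) ∈ X := fun x hx =>
    X.mul_mem (X.inv_mem hx) ((Subgroup.mem_normalizer_iff.mp hzX x).mp hx)
  have hinj : Function.Injective (fun x : X => (⟨(x : G)⁻¹ * (z * x * z⁻¹), hmem x x.2⟩ : X)) := by
    intro x y hxy
    have h1 : (x : G)⁻¹ * (z * x * z⁻¹) = (y : G)⁻¹ * (z * y * z⁻¹) := congrArg Subtype.val hxy
    have h2 : (y : G) * (x : G)⁻¹ ∈ X ⊓ Subgroup.centralizer ({z} : Set G) := by
      refine Subgroup.mem_inf.mpr ⟨X.mul_mem y.2 (X.inv_mem x.2), ?_⟩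
      rw [mem_centralizer_singleton_iff]
      calc (y : G) * (x : G)⁻¹ * z * ((y : G) * (x : G)⁻¹)⁻¹
          = (y : G) * ((x : G)⁻¹ * (z * x * z⁻¹)) * z * (y : G)⁻¹ := by group
        _ = (y : G) * ((y : G)⁻¹ * (z * y * z⁻¹)) * z * (y : G)⁻¹ := by rw [h1]
        _ = z := by group
    rw [hfix, Subgroup.mem_bot, mul_inv_eq_one] at h2
    exact (Subtype.ext h2).symm
  have hsurj := Finite.injective_iff_surjective.mp hinj
  intro w hw
  obtain ⟨x, hx⟩ := hsurj ⟨w, hw⟩
  have hx' : (x : G)⁻¹ * (z * x * z⁻¹) = w := congrArg Subtype.val hx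
  rw [← hx', hzi]
  have h3 : ∀ g : G, z * (z * g) = g := fun g => by rw [← mul_assoc, hzz, one_mul]
  have h4 : z * ((x : G)⁻¹ * (z * x * z)) * z = z * (x : G)⁻¹ * z * x := by
    simp only [mul_assoc, hzz, mul_one]
  have h5 : ((x : G)⁻¹ * (z * x * z))⁻¹ = z * (x : G)⁻¹ * z * x := by
    simp only [mul_inv_rev, inv_inv, hzi, mul_assoc]
  rw [h4, h5]

/-- Let G be a finite group whose Sylow 2-subgroup S has a self-centralizing normal subgroup of rank at least 3. Suppose that either every maximal 2-local subgroup of G is 2-constrained with no nontrivial normal subgroup of odd order, or the centralizer of every involution of G is 2-constrained with no nontrivial normal subgroup of odd order. Then S normalizes no nontrivial subgroup of G of odd order and every 2-local subgroup of G is 2-constrained. -/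
theorem result {G : Type*} [Group G] [Finite G]
    (S : Sylow 2 G) (A : Subgroup G) (hA : Cfsg.IsSCN (S : Subgroup G) A) (hA3 : ¬ Cfsg.PRankLE 2 2 ↥A)
    (h : (∀ M : Subgroup G, Cfsg.IsMaximalTwoLocal M → Cfsg.IsPConstrained 2 ↥M ∧ Cfsg.oddCore ↥M = ⊥) ∨
      (∀ t : G, orderOf t = 2 → Cfsg.IsPConstrained 2 ↥(Subgroup.centralizer ({t} : Set G)) ∧
        Cfsg.oddCore ↥(Subgroup.centralizer ({t} : Set G)) = ⊥)) :
    (∀ X : Subgroup G, Odd (Nat.card ↥X) → (S : Subgroup G) ≤ Subgroup.normalizer (X : Set G) → X = ⊥) ∧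
      (∀ T : Subgroup G, IsPGroup 2 ↥T → T ≠ ⊥ → Cfsg.IsPConstrained 2 ↥(Subgroup.normalizer (T : Set G))) := by
  -- every `2`-local lies in a maximal `2`-local
  have exists_max : ∀ N : Subgroup G, Cfsg.IsTwoLocal N →
      ∃ M, Cfsg.IsMaximalTwoLocal M ∧ N ≤ M := by
    intro N hN
    have hfin : Set.Finite {M : Subgroup G | Cfsg.IsTwoLocal M ∧ N ≤ M} := Set.toFinite _
    obtain ⟨M, hM, hmax⟩ := hfin.exists_maximal ⟨N, hN, le_rfl⟩
    exact ⟨M, ⟨hM.1, fun N' hN' hle => le_antisymm (hmax ⟨hN', hM.2.trans hle⟩ hle) hle⟩, hM.2⟩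
  -- the centralizer of an involution lies in a `2`-constrained subgroup with trivial core
  have key : ∀ b : G, orderOf b = 2 → ∃ M : Subgroup G, Cfsg.IsPConstrained 2 ↥M ∧
      Cfsg.oddCore ↥M = ⊥ ∧ Subgroup.centralizer ({b} : Set G) ≤ M := by
    intro b hb
    rcases h with h | h
    · have hb1 : b ≠ 1 := by
        rintro rfl
        rw [orderOf_one] at hb
        omega
      have hloc : Cfsg.IsTwoLocal (Subgroup.normalizer ((Subgroup.zpowers b : Subgroup G) : Set G)) :=
        ⟨Subgroup.zpowers b, IsPGroup.of_card (n := 1) (by rw [Nat.card_zpowers, hb, pow_one]),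
          by rwa [Ne, Subgroup.zpowers_eq_bot], rfl⟩
      obtain ⟨M, hM, hNM⟩ := exists_max _ hloc
      refine ⟨M, (h M hM).1, (h M hM).2, le_trans ?_ hNM⟩
      refine le_trans ?_ (Subgroup.centralizer_le_normalizer _)
      intro t ht
      rw [Subgroup.mem_centralizer_iff] at ht ⊢
      intro w hw
      obtain ⟨k, rfl⟩ := Subgroup.mem_zpowers_iff.mp hw
      have hc : Commute b t := ht b rfl
      exact (hc.zpow_left k).eq
    · exact ⟨_, (h b hb).1, (h b hb).2, le_rfl⟩
  constructor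
  · intro X hXodd hSX
    obtain ⟨z, a, hzS, haS, hz1, hzz, ha1, haa, haz, hzc, haconj⟩ := exists_involutions S A hA hA3
    have hY : ∀ b : G, b ∈ (S : Subgroup G) → b ≠ 1 → b * b = 1 →
        (∀ s ∈ (S : Subgroup G), s * b * s⁻¹ = b ∨ s * b * s⁻¹ = z * b) →
        X ⊓ Subgroup.centralizer ({b} : Set G) = ⊥ := by
      intro b hbS hb1 hbb hbconj
      have hbo : orderOf b = 2 := orderOf_eq_prime (by rw [pow_two]; exact hbb) hb1
      obtain ⟨M, hMc, hMO, hCM⟩ := key b hbo
      apply eq_bot_of_le_two_constrained S M hMc hMO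
        ((S : Subgroup G) ⊓ Subgroup.centralizer ({b} : Set G)) (inf_le_right.trans hCM)
        (S.isPGroup'.to_le inf_le_left)
        (card_le_two_mul_card_centralizer (S : Subgroup G) b z hzz hzc hbconj)
        (X ⊓ Subgroup.centralizer ({b} : Set G)) (inf_le_right.trans hCM)
        (hXodd.of_dvd_nat (Subgroup.card_dvd_of_le inf_le_left))
      exact le_normalizer_inf (inf_le_left.trans hSX) (inf_le_right.trans Subgroup.le_normalizer)
    have hz' := hY z hzS hz1 hzz (fun s hs => Or.inl (by rw [hzc s hs]; group))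
    have ha' := hY a haS ha1 haa haconj
    have hazc : a * z = z * a := hzc a haS
    have haz' := hY (a * z) (Subgroup.mul_mem _ haS hzS)
      (by
        intro h
        apply haz
        calc a = a * z * z := by rw [mul_assoc, hzz, mul_one]
          _ = z := by rw [h, one_mul])
      (by
        calc a * z * (a * z) = a * (z * a) * z := by group
          _ = a * (a * z) * z := by rw [hazc]
          _ = (a * a) * (z * z) := by group
          _ = 1 := by rw [haa, hzz, one_mul])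
      (by
        intro s hs
        have e : s * (a * z) * s⁻¹ = (s * a * s⁻¹) * z := by
          calc s * (a * z) * s⁻¹ = (s * a * s⁻¹) * (s * z * s⁻¹) := by group
            _ = (s * a * s⁻¹) * z := by rw [hzc s hs]; group
        rcases haconj s hs with h1 | h1
        · left; rw [e, h1]
        · right; rw [e, h1, mul_assoc])
    have hinvz := inverts_of_fixed_point_free X z hzz (hSX hzS) hz'
    have hinva := inverts_of_fixed_point_free X a haa (hSX haS) ha'
    rw [eq_bot_iff, ← haz']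
    intro x hx
    refine Subgroup.mem_inf.mpr ⟨hx, ?_⟩
    have h1 : (a * z) * x * (a * z)⁻¹ = x := by
      calc (a * z) * x * (a * z)⁻¹ = a * (z * x * z⁻¹) * a⁻¹ := by group
        _ = a * x⁻¹ * a⁻¹ := by rw [hinvz x hx]
        _ = x⁻¹⁻¹ := hinva x⁻¹ (X.inv_mem hx)
        _ = x := inv_inv x
    rw [mem_centralizer_singleton_iff]
    have h2 : (a * z) * x = x * (a * z) := by
      calc (a * z) * x = ((a * z) * x * (a * z)⁻¹) * (a * z) := by group
        _ = x * (a * z) := by rw [h1]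
    calc x * (a * z) * x⁻¹ = (a * z) * x * x⁻¹ := by rw [h2]
      _ = a * z := by group
  · intro T hT hT1
    rcases h with h | h
    · obtain ⟨M, hM, hNM⟩ := exists_max (Subgroup.normalizer (T : Set G)) ⟨T, hT, hT1, rfl⟩
      have h1 := isPConstrained_normalizer_inf 2 M (h M hM).1 T hT (Subgroup.le_normalizer.trans hNM)
      rwa [inf_of_le_left hNM] at h1
    · exact isPConstrained_normalizer_of_centralizers 2 (fun x hx => (h x hx).1) T hT hT1

end Cfsg.Agent.S3246
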