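import Cfsg.Statements.S3247
import Cfsg.Agent.Lib.Helper54.PLocal3

set_option autoImplicit false
open Cfsg

namespace Cfsg.Agent.S3247

/-- Let G be a finite group and p a prime; here a p-local subgroup means the normalizer of a nontrivial p-subgroup, other than G itself. If every p-local subgroup of G that is maximal among p-local subgroups is p-constrained, or if the centralizer of every element of order p of G is p-constrained, then every p-local subgroup of G is p-constrained. -/
theorem result {G : Type*} [Group G] [Finite G] (p : ℕ) [hp : Fact p.Prime]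
    (h : (∀ M : Subgroup G, (∃ T : Subgroup G, IsPGroup p ↥T ∧ T ≠ ⊥ ∧ M = Subgroup.normalizer (T : Set G)) → M ≠ ⊤ →
        (∀ M' : Subgroup G, (∃ T' : Subgroup G, IsPGroup p ↥T' ∧ T' ≠ ⊥ ∧ M' = Subgroup.normalizer (T' : Set G)) → M' ≠ ⊤ → M ≤ M' → M = M') →
        Cfsg.IsPConstrained p ↥M) ∨
      (∀ x : G, orderOf x = p → Cfsg.IsPConstrained p ↥(Subgroup.centralizer ({x} : Set G))))
    (T : Subgroup G) (hT : IsPGroup p ↥T) (hT1 : T ≠ ⊥) (hTG : Subgroup.normalizer (T : Set G) ≠ ⊤) :
    Cfsg.IsPConstrained p ↥(Subgroup.normalizer (T : Set G)) := by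
  rcases h with h | h
  · -- maximal proper `p`-locals are `p`-constrained
    have hfin : Set.Finite {M : Subgroup G |
        (∃ T' : Subgroup G, IsPGroup p ↥T' ∧ T' ≠ ⊥ ∧ M = Subgroup.normalizer (T' : Set G)) ∧
          M ≠ ⊤ ∧ Subgroup.normalizer (T : Set G) ≤ M} := Set.toFinite _
    have hne : Set.Nonempty {M : Subgroup G |
        (∃ T' : Subgroup G, IsPGroup p ↥T' ∧ T' ≠ ⊥ ∧ M = Subgroup.normalizer (T' : Set G)) ∧
          M ≠ ⊤ ∧ Subgroup.normalizer (T : Set G) ≤ M} :=
      ⟨Subgroup.normalizer (T : Set G), ⟨T, hT, hT1, rfl⟩, hTG, le_rfl⟩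
    obtain ⟨M, hM, hmax⟩ := hfin.exists_maximal hne
    have hMc : Cfsg.IsPConstrained p ↥M := by
      apply h M hM.1 hM.2.1
      intro M' hM' hM'top hle
      exact le_antisymm hle (hmax ⟨hM', hM'top, hM.2.2.trans hle⟩ hle)
    have h1 := Cfsg.Agent.Lib.Helper54.isPConstrained_normalizer_inf p M hMc T hT
      (Subgroup.le_normalizer.trans hM.2.2)
    rwa [inf_of_le_left hM.2.2] at h1
  · exact Cfsg.Agent.Lib.Helper54.isPConstrained_normalizer_of_centralizers p h T hT hT1

end Cfsg.Agent.S3247
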