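import Cfsg.Statements.S3261
import Cfsg.Agent.Lib.Helper4.D8Main
import Cfsg.Agent.Lib.Helper4.D8Simple
import Cfsg.Agent.Lib.Helper4.A6Cent
import Cfsg.Agent.S0495
import Cfsg.Agent.S0497

set_option autoImplicit false
open Cfsg

namespace Cfsg.Agent.S3261

open Cfsg.Agent.Lib.Helper4.D8

/-- the hypothesis `Hyp` from an isomorphism of the centralizer with a group of order 8 containing
an element of order 4 inverted by an involution. -/
theorem hyp_of_equiv {G : Type*} [Group G] {C' : Type*} [Group C'] (t : G) (ht : orderOf t = 2)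
    (e : Subgroup.centralizer ({t} : Set G) ≃* C') (hcard : Nat.card C' = 8) (a' b' : C')
    (ha' : orderOf a' = 4) (hb' : orderOf b' = 2) (hab : b' * a' * b'⁻¹ = a'⁻¹) :
    Hyp t ((e.symm a' : Subgroup.centralizer ({t} : Set G)) : G)
      ((e.symm b' : Subgroup.centralizer ({t} : Set G)) : G) where
  ht := ht
  hcard := by rw [Nat.card_congr e.toEquiv, hcard]
  ha := by rw [Subgroup.orderOf_coe, MulEquiv.orderOf_eq, ha']
  hb := by rw [Subgroup.orderOf_coe, MulEquiv.orderOf_eq, hb']
  hab := by
    have h2 : e.symm b' * e.symm a' * (e.symm b')⁻¹ = (e.symm a')⁻¹ := by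
      rw [← map_inv, ← map_mul, ← map_mul, ← map_inv, hab]
    have h3 := congrArg Subtype.val h2
    simpa only [Subgroup.coe_mul, Subgroup.coe_inv] using h3
  haD := (e.symm a').2
  hbD := (e.symm b').2

/-- Let α̃ be an involution of the alternating group A₆ that is a product of two disjoint transpositions (it lies in the centre of a Sylow 2-subgroup of A₆; its centralizer is dihedral of order 8). Let G be a finite group that has no subgroup of index 2 and contains an involution α, central in some Sylow 2-subgroup of G, with C_G(α) ≅ C_{A₆}(α̃). Then G is isomorphic to A₆ or to PSL₂(7). -/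
theorem result {G : Type*} [Group G] [Finite G]
    (hG : ∀ H : Subgroup G, H.index ≠ 2)
    (αt : ↥(alternatingGroup (Fin 6))) (hαt : orderOf αt = 2) (hsupp : (αt : Equiv.Perm (Fin 6)).support.card = 4)
    (α : G) (hα : orderOf α = 2) (S : Sylow 2 G) (hαS : α ∈ (S : Subgroup G)) (hαc : ∀ s ∈ (S : Subgroup G), s * α = α * s)
    (e : ↥(Subgroup.centralizer ({α} : Set G)) ≃* ↥(Subgroup.centralizer ({αt} : Set ↥(alternatingGroup (Fin 6))))) :
    Nonempty (G ≃* ↥(alternatingGroup (Fin 6))) ∨
      (∃ (F : Type) (_ : Field F) (_ : Fintype F), Fintype.card F = 7 ∧ Nonempty (G ≃* Matrix.ProjectiveSpecialLinearGroup (Fin 2) F)) := by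
  classical
  obtain ⟨hcard, a', b', ha', hb', hab⟩ := Cfsg.Agent.Lib.Helper4.A6Cent.data αt hαt hsupp
  have H := hyp_of_equiv α hα e hcard a' b' ha' hb' hab
  have hperf := H.perfect hG
  have hsimple : IsSimpleGroup G := H.isSimpleGroup hG
  have : Fintype G := Fintype.ofFinite G
  rcases main H hperf with h | h
  · right
    haveI : Fact (Nat.Prime 7) := ⟨by norm_num⟩
    exact ⟨ZMod 7, inferInstance, inferInstance, ZMod.card 7,
      Cfsg.Agent.S0495.result h (ZMod.card 7)⟩
  · left
    exact Cfsg.Agent.S0497.result h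

end Cfsg.Agent.S3261
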