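import Cfsg.Statements.S3265
import Cfsg.Agent.Lib.Helper29.OddProdDefs
import Cfsg.Agent.Lib.Helper29.OddProdSpec
import Cfsg.Agent.Lib.Helper29.OddProdMain
import Cfsg.Agent.Lib.Helper29.OddProdEnd
import Cfsg.Agent.Lib.Helper73.OddProdGraph
import Cfsg.Agent.Lib.Helper73.OddProdNonadj
import Cfsg.Agent.Lib.Helper11.OddProdRedD
import Cfsg.Agent.Lib.Helper11.OddProdTop
import Cfsg.Agent.Lib.Helper87.OddProdLiftC
import Cfsg.Agent.Lib.Helper87.OddProdRedC
import Cfsg.Agent.Lib.Helper33.OddProdD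
import Cfsg.Agent.Lib.Helper87.OddProdRedA

set_option autoImplicit false
open Cfsg

namespace Cfsg.Agent.S3265
open Equiv Cfsg.Agent.Lib.Helper29.OddProd

/-- the midpoint theorem on `Fin n` from the modules -/
theorem main_fin (n : ℕ) (x y : Perm (Fin n)) (h : Inst x y) (hne : ¬ Exc x y) : Sol ∅ x y :=
  main (fun x y h a h1 h2 ih => Cfsg.Agent.Lib.Helper11.OddProd.red_d Cfsg.Agent.Lib.Helper33.OddProd.direct_two x y h a h1 h2 ih)
    (fun x y h a h1 h2 h3 ih => red_end Cfsg.Agent.Lib.Helper33.OddProd.direct_one lift_end x y h a h1 h2 h3 ih)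
    (fun x y h r b h1 h2 h3 h4 h5 h6 ih => red_rb Cfsg.Agent.Lib.Helper33.OddProd.direct_three x y h r b h1 h2 h3 h4 h5 h6 ih)
    (fun x y h hint hne a h1 h2 ih =>
      Cfsg.Agent.Lib.Helper87.OddProd.red_c Cfsg.Agent.Lib.Helper33.OddProd.direct_four Cfsg.Agent.Lib.Helper87.OddProd.lift_c x y h hint hne a h1 h2 ih)
    (fun x y h hint hne hC a a' h1 h2 h3 h4 h5 h6 ih =>
      Cfsg.Agent.Lib.Helper87.OddProd.red_a Cfsg.Agent.Lib.Helper87.OddProd.lift_c x y h hint hne hC a a' h1 h2 h3 h4 h5 h6 ih)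
    x y h hne

/-- Let n ≥ 5 and let X be a conjugacy class of involutions of the symmetric group of degree n. The graph on X joining two distinct involutions whose product has odd order is connected and has diameter exactly 2. -/
theorem result (n : ℕ) (hn : 5 ≤ n) (t : Equiv.Perm (Fin n)) (ht : orderOf t = 2) :
    (SimpleGraph.fromRel fun x y : {x : Equiv.Perm (Fin n) // IsConj t x} =>
        Odd (orderOf (x.1 * y.1))).Connected ∧
      (SimpleGraph.fromRel fun x y : {x : Equiv.Perm (Fin n) // IsConj t x} =>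
        Odd (orderOf (x.1 * y.1))).diam = 2 := by
  apply Cfsg.Agent.Lib.Helper73.OddProd.connected_diam_two
  · intro u v huv hadj
    obtain ⟨z, hz, h1, h2⟩ := Cfsg.Agent.Lib.Helper11.OddProd.exists_mid n hn Cfsg.Agent.Lib.Helper33.OddProd.direct_one (main_fin n)
      t u.1 v.1 ht u.2 v.2
    rw [SimpleGraph.fromRel_adj] at hadj
    have hzu : (⟨z, hz⟩ : {x : Equiv.Perm (Fin n) // IsConj t x}) ≠ u := by
      intro e
      apply hadj
      refine ⟨huv, Or.inl ?_⟩
      rw [← e]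
      exact h2
    have hzv : (⟨z, hz⟩ : {x : Equiv.Perm (Fin n) // IsConj t x}) ≠ v := by
      intro e
      apply hadj
      refine ⟨huv, Or.inl ?_⟩
      rw [← e]
      exact h1
    refine ⟨⟨z, hz⟩, ?_, ?_⟩
    · rw [SimpleGraph.fromRel_adj]
      exact ⟨fun e => hzu e.symm, Or.inl h1⟩
    · rw [SimpleGraph.fromRel_adj]
      exact ⟨hzv, Or.inl h2⟩
  · obtain ⟨x, y, hx, hy, hxy, h1, h2⟩ := Cfsg.Agent.Lib.Helper73.OddProd.exists_nonadj n hn t ht
    refine ⟨⟨x, hx⟩, ⟨y, hy⟩, ?_, ?_⟩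
    · intro e
      exact hxy (congrArg Subtype.val e)
    · rw [SimpleGraph.fromRel_adj]
      rintro ⟨-, h | h⟩
      · exact h1 h
      · exact h2 h

end Cfsg.Agent.S3265
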