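import Cfsg.Statements.S3266
import Cfsg.Agent.Lib.Helper95.PSL2Inv
set_option autoImplicit false
open Cfsg

namespace Cfsg.Agent.S3266

open Matrix Cfsg.Agent.Lib.Helper95.PSL2Inv

variable {F : Type*} [Field F]

/-- common neighbour: for involutions `x`, `y` of `PSL(2,F)` there is an involution `z` with `x * z` and
`z * y` of odd order. -/
theorem common_nbr [Fintype F] (hF : 4 ≤ Fintype.card F)
    (x y : Matrix.ProjectiveSpecialLinearGroup (Fin 2) F) (hx : orderOf x = 2) (hy : orderOf y = 2) :
    ∃ z : Matrix.ProjectiveSpecialLinearGroup (Fin 2) F,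
      orderOf z = 2 ∧ Odd (orderOf (x * z)) ∧ Odd (orderOf (z * y)) := by
  obtain ⟨p, hp⟩ := CharP.exists F
  have hprime : p.Prime := CharP.char_is_prime F p
  have : Fact p.Prime := ⟨hprime⟩
  obtain ⟨A, rfl, hA⟩ := exists_lift_trace_zero x hx
  obtain ⟨B, rfl, hB⟩ := exists_lift_trace_zero y hy
  obtain ⟨a, b, c, h, rfl⟩ := exists_tz A hA
  obtain ⟨a', b', c', h', rfl⟩ := exists_tz B hB
  have hAnc : tz a b c h ∉ Subgroup.center (SpecialLinearGroup (Fin 2) F) := by
    intro hc
    rw [← proj_eq_one_iff] at hc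
    rw [hc, orderOf_one] at hx
    omega
  have hBnc : tz a' b' c' h' ∉ Subgroup.center (SpecialLinearGroup (Fin 2) F) := by
    intro hc
    rw [← proj_eq_one_iff] at hc
    rw [hc, orderOf_one] at hy
    omega
  by_cases hp2 : p = 2
  · subst hp2
    have hbc := tz_bc_of_not_center_char_two a b c h hAnc
    have hbc' := tz_bc_of_not_center_char_two a' b' c' h' hBnc
    obtain ⟨e, f, g, hC, hfg, h1, h2⟩ := common_nbr_char_two a b c a' b' c' h h' hbc hbc'
    refine ⟨proj (tz e f g hC), ?_, ?_, ?_⟩
    · exact orderOf_proj_eq_two _ (tz_trace _ _ _ _) (tz_not_center _ _ _ _ hfg)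
    · rw [← map_mul]; exact h1.odd_order
    · rw [← map_mul]; exact h2.odd_order
  · have hchar : ringChar F ≠ 2 := by rw [ringChar.eq F p]; exact hp2
    have h2 : (2 : F) ≠ 0 := Ring.two_ne_zero hchar
    obtain ⟨e, f, g, hC, h1, h2'⟩ := common_nbr_odd p hp2 hF a b c a' b' c' h h'
    refine ⟨proj (tz e f g hC), ?_, ?_, ?_⟩
    · exact orderOf_proj_eq_two _ (tz_trace _ _ _ _) (tz_not_center_odd h2 _ _ _ _)
    · rw [← map_mul]; exact h1.odd_order
    · rw [← map_mul]; exact h2'.odd_order

/-- a second involution whose product with `t` is again an involution -/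
theorem exists_nonadj [Fintype F] (hF : 4 ≤ Fintype.card F)
    (t : Matrix.ProjectiveSpecialLinearGroup (Fin 2) F) (ht : orderOf t = 2) :
    ∃ y : Matrix.ProjectiveSpecialLinearGroup (Fin 2) F,
      orderOf y = 2 ∧ orderOf (t * y) = 2 := by
  obtain ⟨p, hp⟩ := CharP.exists F
  have hprime : p.Prime := CharP.char_is_prime F p
  have : Fact p.Prime := ⟨hprime⟩
  obtain ⟨A, rfl, hA⟩ := exists_lift_trace_zero t ht
  obtain ⟨a, b, c, h, rfl⟩ := exists_tz A hA
  have hAnc : tz a b c h ∉ Subgroup.center (SpecialLinearGroup (Fin 2) F) := by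
    intro hc
    rw [← proj_eq_one_iff] at hc
    rw [hc, orderOf_one] at ht
    omega
  by_cases hp2 : p = 2
  · subst hp2
    have hbc := tz_bc_of_not_center_char_two a b c h hAnc
    -- an element `k ∉ {0, 1}`
    have hk : ∃ k : F, k ≠ 0 ∧ k ≠ 1 := by
      classical
      by_contra hcon
      push Not at hcon
      have hsub : (Finset.univ : Finset F) ⊆ {0, 1} := by
        intro S _
        simp only [Finset.mem_insert, Finset.mem_singleton]
        by_cases h0 : S = 0
        · exact Or.inl h0
        · exact Or.inr (hcon S h0)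
      have := Finset.card_le_card hsub
      rw [Finset.card_univ] at this
      have h3 : ({0, 1} : Finset F).card ≤ 2 := Finset.card_le_two
      omega
    obtain ⟨k, hk0, hk1⟩ := hk
    obtain ⟨e, f, g, hC, hY, htr, hnc⟩ := commuting_char_two k hk0 hk1 a b c h hbc
    refine ⟨proj (tz e f g hC), ?_, ?_⟩
    · exact orderOf_proj_eq_two _ (tz_trace _ _ _ _) hY
    · rw [← map_mul]; exact orderOf_proj_eq_two _ htr hnc
  · have hchar : ringChar F ≠ 2 := by rw [ringChar.eq F p]; exact hp2
    have h2 : (2 : F) ≠ 0 := Ring.two_ne_zero hchar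
    obtain ⟨e, f, g, hC, htr⟩ := commuting_odd_core p h2 a b c h
    refine ⟨proj (tz e f g hC), ?_, ?_⟩
    · exact orderOf_proj_eq_two _ (tz_trace _ _ _ _) (tz_not_center_odd h2 _ _ _ _)
    · rw [← map_mul]
      have htr' : ((tz a b c h * tz e f g hC : SpecialLinearGroup (Fin 2) F) :
          Matrix (Fin 2) (Fin 2) F).trace = 0 := by
        rw [tz_mul_trace]; exact htr
      apply orderOf_proj_eq_two _ htr'
      obtain ⟨a₁, b₁, c₁, h₁, heq⟩ := exists_tz _ htr'
      rw [heq]
      exact tz_not_center_odd h2 _ _ _ _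

/-- The abstract graph-theoretic assembly. -/
theorem graph_assembly {G : Type*} [Group G] (t : G) (ht : orderOf t = 2)
    (hconj : ∀ x z : G, x * x = 1 → z * z = 1 → Odd (orderOf (x * z)) → IsConj x z)
    (hnbr : ∀ x y : G, orderOf x = 2 → orderOf y = 2 →
      ∃ z : G, orderOf z = 2 ∧ Odd (orderOf (x * z)) ∧ Odd (orderOf (z * y)))
    (hnon : ∃ y : G, orderOf y = 2 ∧ orderOf (t * y) = 2) :
    (SimpleGraph.fromRel fun x y : {x : G // IsConj t x} => Odd (orderOf (x.1 * y.1))).Connected ∧
      (SimpleGraph.fromRel fun x y : {x : G // IsConj t x} => Odd (orderOf (x.1 * y.1))).diam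
        = 2 := by
  set Γ := SimpleGraph.fromRel fun x y : {x : G // IsConj t x} => Odd (orderOf (x.1 * y.1))
    with hΓ
  have hsq : ∀ x : G, orderOf x = 2 → x * x = 1 := by
    intro x hx
    have := pow_orderOf_eq_one x
    rwa [hx, pow_two] at this
  have hord : ∀ x : {x : G // IsConj t x}, orderOf x.1 = 2 := by
    intro x
    obtain ⟨c, hc⟩ := isConj_iff.mp x.2
    rw [← hc, ← ht]
    exact (MulAut.conj c).orderOf_eq t
  have hadj : ∀ u w : {x : G // IsConj t x}, u ≠ w → Odd (orderOf (u.1 * w.1)) → Γ.Adj u w := by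
    intro u w hne h
    rw [hΓ, SimpleGraph.fromRel_adj]
    exact ⟨hne, Or.inl h⟩
  have : Nonempty {x : G // IsConj t x} := ⟨⟨t, IsConj.refl t⟩⟩
  have hedist : ∀ u v : {x : G // IsConj t x}, Γ.edist u v ≤ 2 := by
    intro u v
    obtain ⟨z, hz, h1, h2⟩ := hnbr u.1 v.1 (hord u) (hord v)
    have hzc : IsConj t z :=
      u.2.trans (hconj u.1 z (hsq _ (hord u)) (hsq _ hz) h1)
    set w : {x : G // IsConj t x} := ⟨z, hzc⟩ with hw
    by_cases huw : u = w
    · by_cases hwv : w = v
      · rw [huw, hwv, SimpleGraph.edist_self]; exact zero_le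
      · have : Γ.Adj u v := by
          rw [huw]; exact hadj w v hwv h2
        rw [SimpleGraph.edist_eq_one_iff_adj.mpr this]
        norm_num
    · by_cases hwv : w = v
      · have : Γ.Adj u v := by
          rw [← hwv]; exact hadj u w huw h1
        rw [SimpleGraph.edist_eq_one_iff_adj.mpr this]
        norm_num
      · have a1 : Γ.Adj u w := hadj u w huw h1
        have a2 : Γ.Adj w v := hadj w v hwv h2
        calc Γ.edist u v ≤ Γ.edist u w + Γ.edist w v := SimpleGraph.edist_triangle
          _ = 1 + 1 := by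
            rw [SimpleGraph.edist_eq_one_iff_adj.mpr a1, SimpleGraph.edist_eq_one_iff_adj.mpr a2]
          _ = 2 := by norm_num
  have hediam : Γ.ediam ≤ 2 := SimpleGraph.ediam_le_of_edist_le hedist
  have hne_top : Γ.ediam ≠ ⊤ := by
    intro h
    rw [h] at hediam
    exact absurd hediam (by decide)
  have hconn : Γ.Connected := SimpleGraph.connected_of_ediam_ne_top hne_top
  refine ⟨hconn, ?_⟩
  have hle : Γ.diam ≤ 2 := by
    have := ENat.toNat_le_toNat hediam (by decide)
    simpa [SimpleGraph.diam] using this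
  -- a non-adjacent pair
  obtain ⟨y, hy, hty⟩ := hnon
  obtain ⟨z, hz, h1, h2⟩ := hnbr t y ht hy
  have hyc : IsConj t y :=
    (hconj t z (hsq _ ht) (hsq _ hz) h1).trans (hconj z y (hsq _ hz) (hsq _ hy) h2)
  set u₀ : {x : G // IsConj t x} := ⟨t, IsConj.refl t⟩ with hu₀
  set v₀ : {x : G // IsConj t x} := ⟨y, hyc⟩ with hv₀
  have hne : u₀ ≠ v₀ := by
    intro h
    have hty' : t = y := congrArg Subtype.val h
    rw [← hty', hsq t ht, orderOf_one] at hty
    omega
  have hnadj : ¬ Γ.Adj u₀ v₀ := by
    rw [hΓ, SimpleGraph.fromRel_adj]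
    rintro ⟨_, h | h⟩
    · change Odd (orderOf (t * y)) at h
      rw [hty] at h
      exact absurd h (by decide)
    · change Odd (orderOf (y * t)) at h
      have hinv : y * t = (t * y)⁻¹ := by
        rw [_root_.mul_inv_rev, inv_eq_of_mul_eq_one_right (hsq y hy),
          inv_eq_of_mul_eq_one_right (hsq t ht)]
      rw [hinv, orderOf_inv, hty] at h
      exact absurd h (by decide)
  have hd0 : Γ.dist u₀ v₀ ≠ 0 := by
    intro h
    rw [(hconn.preconnected u₀ v₀).dist_eq_zero_iff] at h
    exact hne h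
  have hd1 : Γ.dist u₀ v₀ ≠ 1 := by
    intro h
    exact hnadj (SimpleGraph.dist_eq_one_iff_adj.mp h)
  have hdle : Γ.dist u₀ v₀ ≤ Γ.diam := SimpleGraph.dist_le_diam hne_top
  omega


/-- Let F be a finite field with at least 4 elements and let X be a conjugacy class of involutions of PSL(2, F). The graph on X joining two distinct involutions whose product has odd order is connected and has diameter exactly 2. -/
theorem result {F : Type*} [Field F] [Fintype F] (hF : 4 ≤ Fintype.card F)
    (t : Matrix.ProjectiveSpecialLinearGroup (Fin 2) F) (ht : orderOf t = 2) :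
    (SimpleGraph.fromRel fun x y : {x : Matrix.ProjectiveSpecialLinearGroup (Fin 2) F // IsConj t x} =>
        Odd (orderOf (x.1 * y.1))).Connected ∧
      (SimpleGraph.fromRel fun x y : {x : Matrix.ProjectiveSpecialLinearGroup (Fin 2) F // IsConj t x} =>
        Odd (orderOf (x.1 * y.1))).diam = 2 := by
  exact graph_assembly t ht isConj_of_odd_mul (common_nbr hF) (exists_nonadj hF t ht)

end Cfsg.Agent.S3266
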