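import Cfsg.Statements.S3276
-- import your own Cfsg.Agent.* helpers here

set_option autoImplicit false
open Cfsg

namespace Cfsg.Agent.S3276

/-- Two involutions are conjugate, or some involution commutes with both. -/
theorem conj_or_common_involution {G : Type*} [Group G] [Finite G] (a b : G)
    (ha : orderOf a = 2) (hb : orderOf b = 2) :
    IsConj a b ∨ ∃ u : G, orderOf u = 2 ∧ Commute u a ∧ Commute u b := by
  have ha2 : a * a = 1 := by
    have := pow_orderOf_eq_one a
    rw [ha, pow_two] at this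
    exact this
  have hb2 : b * b = 1 := by
    have := pow_orderOf_eq_one b
    rw [hb, pow_two] at this
    exact this
  have hainv : a⁻¹ = a := inv_eq_of_mul_eq_one_right ha2
  have hbinv : b⁻¹ = b := inv_eq_of_mul_eq_one_right hb2
  set c := a * b with hc
  have hcinv : c⁻¹ = b * a := by rw [hc, mul_inv_rev, hainv, hbinv]
  -- a inverts c, b inverts c
  have hac : a * c * a⁻¹ = c⁻¹ := by
    rw [hcinv, hc, hainv]; simp only [mul_assoc]; rw [← mul_assoc a a, ha2, one_mul]
  have hbc : b * c * b⁻¹ = c⁻¹ := by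
    rw [hcinv, hc, hbinv]; simp only [mul_assoc]; rw [hb2, mul_one]
  have hack : ∀ k : ℕ, a * c ^ k * a⁻¹ = (c ^ k)⁻¹ := by
    intro k
    rw [← conj_pow (a := a) (b := c) (i := k), hac, inv_pow]
  have hbck : ∀ k : ℕ, b * c ^ k * b⁻¹ = (c ^ k)⁻¹ := by
    intro k
    rw [← conj_pow (a := b) (b := c) (i := k), hbc, inv_pow]
  have hm : 0 < orderOf c := orderOf_pos c
  rcases Nat.even_or_odd' (orderOf c) with ⟨k, hk | hk⟩
  · -- even order: central involution
    right
    have hk0 : 0 < k := by omega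
    refine ⟨c ^ k, ?_, ?_, ?_⟩
    · rw [orderOf_pow' c hk0.ne', hk]
      have : Nat.gcd (2 * k) k = k := Nat.gcd_eq_right (Dvd.intro_left 2 rfl)
      rw [this]
      exact Nat.mul_div_cancel _ hk0
    · have h1 : (c ^ k)⁻¹ = c ^ k := by
        apply inv_eq_of_mul_eq_one_right
        rw [← pow_add, ← two_mul, ← hk]; exact pow_orderOf_eq_one c
      have := hack k
      rw [h1] at this
      -- a * c^k * a⁻¹ = c^k → commute
      show c ^ k * a = a * c ^ k
      calc c ^ k * a = (a * c ^ k * a⁻¹) * a := by rw [this]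
        _ = a * c ^ k := by group
    · have h1 : (c ^ k)⁻¹ = c ^ k := by
        apply inv_eq_of_mul_eq_one_right
        rw [← pow_add, ← two_mul, ← hk]; exact pow_orderOf_eq_one c
      have := hbck k
      rw [h1] at this
      show c ^ k * b = b * c ^ k
      calc c ^ k * b = (b * c ^ k * b⁻¹) * b := by rw [this]
        _ = b * c ^ k := by group
  · -- odd order: conjugate
    left
    rw [isConj_iff]
    refine ⟨c ^ k, ?_⟩
    have h2 : c ^ (2 * k + 1) = 1 := by rw [← hk]; exact pow_orderOf_eq_one c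
    have h3 : a * (c ^ k)⁻¹ = c ^ k * a := by
      have := hack k
      calc a * (c ^ k)⁻¹ = (a * c ^ k * a⁻¹)⁻¹ * a := by group
        _ = c ^ k * a := by rw [this, inv_inv]
    have h4 : c ^ k * c ^ k = c⁻¹ := by
      have : c ^ k * c ^ k * c = 1 := by rw [← pow_add, ← pow_succ, ← two_mul]; exact h2
      exact eq_inv_of_mul_eq_one_left this
    calc c ^ k * a * (c ^ k)⁻¹ = c ^ k * (a * (c ^ k)⁻¹) := by group
      _ = c ^ k * (c ^ k * a) := by rw [h3]
      _ = (c ^ k * c ^ k) * a := by group
      _ = c⁻¹ * a := by rw [h4]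
      _ = b := by rw [hcinv, mul_assoc, ha2, mul_one]

/-- a subgroup all of whose elements are `1` or `y` has at most two elements -/
theorem card_le_two_of_forall {G : Type*} [Group G] [Finite G] (H : Subgroup G) (y : G)
    (h : ∀ u ∈ H, u = 1 ∨ u = y) : Nat.card ↥H ≤ 2 := by
  have h1 : (H : Set G) ⊆ ({1, y} : Set G) := by
    intro u hu
    rcases h u hu with h | h
    · simp [h]
    · simp [h]
  have h2 : Nat.card ↥(H : Set G) ≤ Nat.card ↥({1, y} : Set G) :=
    Nat.card_mono (Set.toFinite _) h1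
  have h3 : Nat.card ↥({1, y} : Set G) ≤ 2 := by
    rw [Nat.card_coe_set_eq]
    refine (Set.ncard_insert_le 1 {y}).trans ?_
    rw [Set.ncard_singleton]
  exact h2.trans h3

theorem result {G : Type*} [Group G] [Finite G] (x y : G) (hx : orderOf x = 2) (hy : orderOf y = 2)
    (hxy : Commute x y) (hnc : ¬ IsConj x y)
    (hstar : ∀ u : G, orderOf u = 2 → Commute u x → ∀ g : G, Commute (g * y * g⁻¹) u → Commute (g * y * g⁻¹) y) :
    Subgroup.normalClosure ({y} : Set G) ≠ ⊤ ∧ Cfsg.IsElementaryAbelian 2 (Subgroup.normalClosure ({y} : Set G)) ∧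
      ((∀ u ∈ Subgroup.normalClosure ({y} : Set G), orderOf u = 2 → Commute u x → u = y) →
        Nat.card ↥(Subgroup.normalClosure ({y} : Set G)) ≤ 4) := by
  have hx2 : x * x = 1 := by
    have := pow_orderOf_eq_one x
    rw [hx, pow_two] at this
    exact this
  have hy2 : y * y = 1 := by
    have := pow_orderOf_eq_one y
    rw [hy, pow_two] at this
    exact this
  have hxinv : x⁻¹ = x := inv_eq_of_mul_eq_one_right hx2
  -- Step 1: every conjugate of y commutes with y
  have step1 : ∀ g : G, Commute (g * y * g⁻¹) y := by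
    intro g
    have hw : orderOf (g * y * g⁻¹) = 2 := by
      have := MulEquiv.orderOf_eq (MulAut.conj g) y
      rw [MulAut.conj_apply] at this
      rw [this]; exact hy
    rcases conj_or_common_involution x (g * y * g⁻¹) hx hw with hconj | ⟨u, hu, hux, huw⟩
    · exfalso
      apply hnc
      refine hconj.trans ?_
      rw [isConj_comm, isConj_iff]
      exact ⟨g, rfl⟩
    · exact hstar u hu hux g huw.symm
  -- Step 2: any two conjugates commute
  have step2 : ∀ g h : G, Commute (g * y * g⁻¹) (h * y * h⁻¹) := by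
    intro g h
    have := step1 (h⁻¹ * g)
    have h3 : h * ((h⁻¹ * g) * y * (h⁻¹ * g)⁻¹) * h⁻¹ = g * y * g⁻¹ := by group
    have h4 := (this.map (MulAut.conj h).toMonoidHom)
    simp only [MulEquiv.toMonoidHom_eq_coe, MonoidHom.coe_coe, MulAut.conj_apply] at h4
    rw [h3] at h4
    exact h4
  set N := Subgroup.normalClosure ({y} : Set G) with hN
  have hNcl : N = Subgroup.closure (Group.conjugatesOfSet ({y} : Set G)) := rfl
  have hgen : ∀ a ∈ Group.conjugatesOfSet ({y} : Set G), ∃ g : G, a = g * y * g⁻¹ := by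
    intro a ha
    rw [Group.mem_conjugatesOfSet_iff] at ha
    obtain ⟨b, hb, hba⟩ := ha
    rw [Set.mem_singleton_iff] at hb
    subst hb
    rw [isConj_iff] at hba
    obtain ⟨g, hg⟩ := hba
    exact ⟨g, hg.symm⟩
  have hNcomm : IsMulCommutative ↥N := by
    rw [hNcl]
    apply Subgroup.isMulCommutative_closure
    intro a ha b hb
    obtain ⟨g, rfl⟩ := hgen a ha
    obtain ⟨h, rfl⟩ := hgen b hb
    exact step2 g h
  have hcommN : ∀ a ∈ N, ∀ b ∈ N, a * b = b * a := by
    intro a ha b hb
    have := hNcomm.is_comm.comm (⟨a, ha⟩ : ↥N) ⟨b, hb⟩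
    exact congrArg Subtype.val this
  have hsq : ∀ a ∈ N, a ^ 2 = 1 := by
    intro a ha
    rw [hNcl] at ha
    induction ha using Subgroup.closure_induction with
    | mem a ha =>
      obtain ⟨g, rfl⟩ := hgen a ha
      rw [conj_pow, pow_two, hy2]; group
    | one => simp
    | mul a b ha hb iha ihb =>
      have hab : Commute a b := hcommN a (hNcl ▸ ha) b (hNcl ▸ hb)
      rw [hab.mul_pow, iha, ihb, one_mul]
    | inv a ha iha => rw [inv_pow, iha, inv_one]
  have hyN : y ∈ N := Subgroup.subset_normalClosure (Set.mem_singleton y)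
  have hNnormal : N.Normal := Subgroup.normalClosure_normal
  refine ⟨?_, ⟨hNcomm, hsq⟩, ?_⟩
  · intro htop
    have hcomm : ∀ a b : G, a * b = b * a := fun a b =>
      hcommN a (htop ▸ Subgroup.mem_top a) b (htop ▸ Subgroup.mem_top b)
    have hall : ∀ a ∈ N, a = 1 ∨ a = y := by
      intro a ha
      rw [hNcl] at ha
      induction ha using Subgroup.closure_induction with
      | mem a ha =>
        obtain ⟨g, rfl⟩ := hgen a ha
        right
        rw [hcomm g y, mul_assoc, mul_inv_cancel, mul_one]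
      | one => left; rfl
      | mul a b ha hb iha ihb =>
        rcases iha with rfl | rfl <;> rcases ihb with rfl | rfl
        · left; simp
        · right; simp
        · right; simp
        · left; exact hy2
      | inv a ha iha =>
        rcases iha with rfl | rfl
        · left; simp
        · right; exact inv_eq_of_mul_eq_one_right hy2
    rcases hall x (htop ▸ Subgroup.mem_top x) with h | h
    · rw [h, orderOf_one] at hx; omega
    · exact hnc (h ▸ IsConj.refl x)
  · intro huniq
    -- elements of N commuting with x are 1 or y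
    have hfix : ∀ u ∈ N, Commute u x → u = 1 ∨ u = y := by
      intro u hu hux
      by_cases h1 : u = 1
      · left; exact h1
      · right
        have : Fact (Nat.Prime 2) := ⟨Nat.prime_two⟩
        exact huniq u hu (orderOf_eq_prime (hsq u hu) h1) hux
    have hconjN : ∀ n ∈ N, x * n * x⁻¹ ∈ N := fun n hn => hNnormal.conj_mem n hn x
    let f : ↥N →* ↥N := MonoidHom.mk' (fun n => ⟨n.1 * (x * n.1 * x⁻¹), N.mul_mem n.2 (hconjN n.1 n.2)⟩) (by
      intro a b
      apply Subtype.ext
      show (a.1 * b.1) * (x * (a.1 * b.1) * x⁻¹) = (a.1 * (x * a.1 * x⁻¹)) * (b.1 * (x * b.1 * x⁻¹))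
      have h1 : b.1 * (x * a.1 * x⁻¹) = (x * a.1 * x⁻¹) * b.1 := hcommN _ b.2 _ (hconjN a.1 a.2)
      calc (a.1 * b.1) * (x * (a.1 * b.1) * x⁻¹) = a.1 * (b.1 * (x * a.1 * x⁻¹)) * (x * b.1 * x⁻¹) := by group
        _ = a.1 * ((x * a.1 * x⁻¹) * b.1) * (x * b.1 * x⁻¹) := by rw [h1]
        _ = (a.1 * (x * a.1 * x⁻¹)) * (b.1 * (x * b.1 * x⁻¹)) := by group)
    have hfval : ∀ n : ↥N, (f n).1 = n.1 * (x * n.1 * x⁻¹) := fun n => rfl
    have hfcomm : ∀ n : ↥N, Commute (f n).1 x := by
      intro n
      rw [hfval]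
      have h1 : n.1 * (x * n.1 * x⁻¹) = (x * n.1 * x⁻¹) * n.1 := hcommN _ n.2 _ (hconjN n.1 n.2)
      show n.1 * (x * n.1 * x⁻¹) * x = x * (n.1 * (x * n.1 * x⁻¹))
      calc n.1 * (x * n.1 * x⁻¹) * x = n.1 * x * n.1 := by group
        _ = (x * x) * n.1 * x * n.1 := by rw [hx2, one_mul]
        _ = x * ((x * n.1 * x) * n.1) := by group
        _ = x * ((x * n.1 * x⁻¹) * n.1) := by rw [hxinv]
        _ = x * (n.1 * (x * n.1 * x⁻¹)) := by rw [h1]
    have hrange : ∀ u ∈ f.range, u = 1 ∨ u = ⟨y, hyN⟩ := by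
      rintro u ⟨n, rfl⟩
      rcases hfix (f n).1 (f n).2 (hfcomm n) with h | h
      · left; exact Subtype.ext h
      · right; exact Subtype.ext h
    have hker : ∀ u ∈ f.ker, u = 1 ∨ u = ⟨y, hyN⟩ := by
      intro u hu
      rw [MonoidHom.mem_ker] at hu
      have h1 : u.1 * (x * u.1 * x⁻¹) = 1 := by
        have := congrArg Subtype.val hu
        rw [hfval] at this
        exact this
      have h2 : u.1 * u.1 = 1 := by
        have := hsq u.1 u.2
        rwa [pow_two] at this
      have h3 : x * u.1 * x⁻¹ = u.1 := by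
        have h4 : x * u.1 * x⁻¹ = u.1⁻¹ := (inv_eq_of_mul_eq_one_right h1).symm
        rw [h4]; exact inv_eq_of_mul_eq_one_right h2
      have h5 : Commute u.1 x := by
        show u.1 * x = x * u.1
        calc u.1 * x = (x * u.1 * x⁻¹) * x := by rw [h3]
          _ = x * u.1 := by group
      rcases hfix u.1 u.2 h5 with h | h
      · left; exact Subtype.ext h
      · right; exact Subtype.ext h
    have hc1 : Nat.card ↥f.range ≤ 2 := card_le_two_of_forall f.range _ hrange
    have hc2 : Nat.card ↥f.ker ≤ 2 := card_le_two_of_forall f.ker _ hker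
    have hc3 : f.ker.index * Nat.card ↥f.ker = Nat.card ↥N := Subgroup.index_mul_card f.ker
    rw [Subgroup.index_ker] at hc3
    calc Nat.card ↥N = Nat.card ↥f.range * Nat.card ↥f.ker := hc3.symm
      _ ≤ 2 * 2 := Nat.mul_le_mul hc1 hc2
      _ = 4 := rfl

end Cfsg.Agent.S3276
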