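import Cfsg.Statements.S3294
import Cfsg.Agent.Lib.Helper55.Cores2

set_option autoImplicit false
open Cfsg

namespace Cfsg.Agent.S3294

open Cfsg.Agent.Lib.Helper55

section Quat

open QuaternionGroup

variable {m : ℕ}

theorem a_one_zpow (k : ℤ) : (a 1 : QuaternionGroup m) ^ k = a (k : ZMod (2 * m)) := by
  cases k with
  | ofNat j =>
    rw [Int.ofNat_eq_natCast, zpow_natCast, a_one_pow]; simp
  | negSucc j =>
    rw [zpow_negSucc, a_one_pow]
    apply inv_eq_of_mul_eq_one_right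
    rw [a_mul_a, ← a_zero]
    congr 1
    push_cast
    ring

theorem mem_zpowers_a_one_iff [NeZero m] (x : QuaternionGroup m) :
    x ∈ Subgroup.zpowers (a 1 : QuaternionGroup m) ↔ ∃ j, x = a j := by
  constructor
  · rintro ⟨k, rfl⟩
    exact ⟨_, a_one_zpow k⟩
  · rintro ⟨j, rfl⟩
    refine ⟨(j.val : ℤ), ?_⟩
    show (a 1 : QuaternionGroup m) ^ ((j.val : ℕ) : ℤ) = a j
    rw [a_one_zpow]
    simp

theorem xa_conj_a (i j : ZMod (2 * m)) : xa i * a j * (xa i)⁻¹ = (a j : QuaternionGroup m)⁻¹ := by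
  have h2m : (m : ZMod (2 * m)) + m = 0 := by
    have : ((2 * m : ℕ) : ZMod (2 * m)) = 0 := ZMod.natCast_self _
    rw [← this]; push_cast; ring
  have hinv : (xa i : QuaternionGroup m)⁻¹ = xa ((m : ZMod (2 * m)) + i) := by
    apply inv_eq_of_mul_eq_one_right
    rw [xa_mul_xa, ← a_zero]
    congr 1
    rw [← h2m]; ring
  have hainv : (a j : QuaternionGroup m)⁻¹ = a (-j) := by
    apply inv_eq_of_mul_eq_one_right
    rw [a_mul_a, ← a_zero]
    congr 1
    ring
  rw [hinv, hainv, xa_mul_a, xa_mul_xa]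
  congr 1
  calc (m : ZMod (2 * m)) + (m + i) - (i + j) = ((m : ZMod (2 * m)) + m) - j := by ring
    _ = -j := by rw [h2m]; ring

/-- Structure of an embedded generalized quaternion group. -/
theorem exists_cyclic_of_quaternion [NeZero m] {H : Type*} [Group H] (ψ : QuaternionGroup m →* H)
    (hψ : Function.Injective ψ) :
    ∃ A : Subgroup H, A ≤ ψ.range ∧ IsCyclic ↥A ∧ Nat.card ↥A = 2 * m ∧
      ∀ y ∈ ψ.range, y ∉ A → orderOf y = 4 ∧ ∀ x ∈ A, y * x * y⁻¹ = x⁻¹ := by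
  set A₀ : Subgroup (QuaternionGroup m) := Subgroup.zpowers (a 1) with hA₀
  refine ⟨A₀.map ψ, ?_, ?_, ?_, ?_⟩
  · rintro _ ⟨x, -, rfl⟩
    exact ⟨x, rfl⟩
  · exact isCyclic_of_surjective (ψ.subgroupMap A₀) (ψ.subgroupMap_surjective A₀)
  · rw [Subgroup.card_map_of_injective hψ, Nat.card_zpowers, orderOf_a_one]
  · rintro _ ⟨q, rfl⟩ hq
    have hq' : q ∉ A₀ := fun h => hq (Subgroup.mem_map_of_mem ψ h)
    rw [hA₀, mem_zpowers_a_one_iff] at hq'
    cases q with
    | a i => exact absurd ⟨i, rfl⟩ hq'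
    | xa i =>
      refine ⟨?_, ?_⟩
      · rw [orderOf_injective ψ hψ, orderOf_xa]
      · rintro _ ⟨x, hx, rfl⟩
        obtain ⟨j, rfl⟩ := (mem_zpowers_a_one_iff x).mp hx
        rw [← map_inv, ← map_mul, ← map_mul, xa_conj_a, map_inv]

end Quat

section Main

variable {Q : Type*} [Group Q] [Finite Q]

/-- A finite solvable group `Q` with `O(Q) = 1` whose Sylow 2-subgroup `S` has a cyclic subgroup `A`
of order at least 16 such that the elements of `S` outside `A` have order 4 and invert `A`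
is a 2-group. -/
theorem isPGroup_two_of_quaternion_sylow [Group.IsSolvable Q] (hO : pPrimeCore 2 Q = ⊥)
    (S : Sylow 2 Q) (A : Subgroup Q) (hAS : A ≤ S) (hAcyc : IsCyclic ↥A) (hA16 : 16 ≤ Nat.card ↥A)
    (hinv : ∀ y ∈ (S : Subgroup Q), y ∉ A → orderOf y = 4 ∧ ∀ x ∈ A, y * x * y⁻¹ = x⁻¹) :
    IsPGroup 2 Q := by
  have : Fact (Nat.Prime 2) := ⟨Nat.prime_two⟩
  set P := pCore 2 Q with hP
  have hPn : P.Normal := pCore_normal' 2
  have hPS : P ≤ S := pCore_le_sylow S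
  set Z := P ⊓ A with hZ
  have hZA : Z ≤ A := inf_le_right
  have hZcyc : IsCyclic ↥Z :=
    isCyclic_of_injective (Subgroup.inclusion hZA) (Subgroup.inclusion_injective hZA)
  by_cases hPA : P ≤ A
  · have hZP : Z = P := inf_eq_left.mpr hPA
    refine isPGroup_two_of_cyclic_normal hO Z (hZP ▸ hPn) inf_le_left hZcyc ?_
    rw [hZP]
    exact inf_le_left
  · obtain ⟨y, hyP, hyA⟩ := SetLike.not_le_iff_exists.mp hPA
    obtain ⟨a₀, ha₀⟩ := hAcyc.exists_generator
    have horda : orderOf (a₀ : Q) = Nat.card ↥A := by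
      rw [Subgroup.orderOf_coe]
      exact orderOf_eq_card_of_forall_mem_zpowers ha₀
    have hyinv : y * (a₀ : Q) * y⁻¹ = (a₀ : Q)⁻¹ := (hinv y (hPS hyP) hyA).2 _ a₀.2
    have ha2P : (a₀ : Q) ^ 2 ∈ P := by
      have h1 : (a₀ : Q) * y * (a₀ : Q)⁻¹ ∈ P := hPn.conj_mem y hyP _
      have h2 : (a₀ : Q) * y * (a₀ : Q)⁻¹ * y⁻¹ ∈ P := P.mul_mem h1 (P.inv_mem hyP)
      have h3 : (a₀ : Q) * y * (a₀ : Q)⁻¹ * y⁻¹ = (a₀ : Q) ^ 2 := by
        calc (a₀ : Q) * y * (a₀ : Q)⁻¹ * y⁻¹ = (a₀ : Q) * (y * (a₀ : Q) * y⁻¹)⁻¹ := by group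
          _ = (a₀ : Q) ^ 2 := by rw [hyinv, inv_inv, pow_two]
      rwa [h3] at h2
    have ha2Z : (a₀ : Q) ^ 2 ∈ Z := ⟨ha2P, A.pow_mem a₀.2 2⟩
    have hord2 : 8 ≤ orderOf ((a₀ : Q) ^ 2) := by
      have hpos : 0 < orderOf ((a₀ : Q) ^ 2) := orderOf_pos _
      have h1 : (a₀ : Q) ^ (2 * orderOf ((a₀ : Q) ^ 2)) = 1 := by
        rw [pow_mul]; exact pow_orderOf_eq_one _
      have h2 : Nat.card ↥A ∣ 2 * orderOf ((a₀ : Q) ^ 2) := by
        rw [← horda]; exact orderOf_dvd_of_pow_eq_one h1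
      have h3 := Nat.le_of_dvd (by omega) h2
      omega
    obtain ⟨z₀, hz₀⟩ := hZcyc.exists_generator
    have hordz : orderOf (z₀ : Q) = Nat.card ↥Z := by
      rw [Subgroup.orderOf_coe]
      exact orderOf_eq_card_of_forall_mem_zpowers hz₀
    have hZ8 : 8 ≤ orderOf (z₀ : Q) := by
      rw [hordz]
      have h1 : orderOf (⟨(a₀ : Q) ^ 2, ha2Z⟩ : ↥Z) ∣ Nat.card ↥Z := orderOf_dvd_natCard _
      rw [← Subgroup.orderOf_coe] at h1
      exact hord2.trans (Nat.le_of_dvd Nat.card_pos h1)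
    have hZmem : ∀ z ∈ Z, ∃ k : ℤ, z = (z₀ : Q) ^ k := by
      intro z hz
      obtain ⟨k, hk⟩ := hz₀ ⟨z, hz⟩
      refine ⟨k, ?_⟩
      have := congrArg Subtype.val hk
      simpa using this.symm
    have hconj : ∀ g : Q, g * (z₀ : Q) * g⁻¹ ∈ Z := by
      intro g
      have h1 : g * (z₀ : Q) * g⁻¹ ∈ P := hPn.conj_mem _ z₀.2.1 g
      refine ⟨h1, ?_⟩
      by_contra hnA
      have h2 := (hinv _ (hPS h1) hnA).1
      have h3 : orderOf (g * (z₀ : Q) * g⁻¹) = orderOf (z₀ : Q) := by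
        have := MulEquiv.orderOf_eq (MulAut.conj g) (z₀ : Q)
        rwa [MulAut.conj_apply] at this
      omega
    have hZn : Z.Normal := by
      constructor
      intro z hz g
      obtain ⟨k, rfl⟩ := hZmem z hz
      have : g * (z₀ : Q) ^ k * g⁻¹ = (g * (z₀ : Q) * g⁻¹) ^ k := by
        have := map_zpow (MulAut.conj g) (z₀ : Q) k
        simpa [MulAut.conj_apply] using this
      rw [this]
      exact Z.zpow_mem (hconj g) k
    refine isPGroup_two_of_cyclic_normal hO Z hZn inf_le_left hZcyc ?_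
    rintro y' ⟨hy'P, hy'C⟩
    refine ⟨hy'P, ?_⟩
    by_contra hy'A
    have h1 : y' * (z₀ : Q) * y'⁻¹ = (z₀ : Q)⁻¹ := (hinv y' (hPS hy'P) hy'A).2 _ (hZA z₀.2)
    have h2 : (z₀ : Q) * y' = y' * (z₀ : Q) := Subgroup.mem_centralizer_iff.mp hy'C _ z₀.2
    have h3 : (z₀ : Q) ^ 2 = 1 := by
      have : y' * (z₀ : Q) * y'⁻¹ = (z₀ : Q) := by rw [← h2]; group
      rw [this] at h1
      calc (z₀ : Q) ^ 2 = (z₀ : Q) * (z₀ : Q) := pow_two _
        _ = (z₀ : Q) * (z₀ : Q)⁻¹ := by rw [← h1]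
        _ = 1 := mul_inv_cancel _
    have h4 := Nat.le_of_dvd (by norm_num) (orderOf_dvd_of_pow_eq_one h3)
    omega

end Main

/-- A finite solvable group whose Sylow 2-subgroups are generalized quaternion of order at least 32 has a normal 2-complement. -/
theorem result {G : Type*} [Group G] [Finite G] (hsol : Group.IsSolvable G) (T : Sylow 2 G) (n : ℕ) (hn : 3 ≤ n) (hT : Nonempty ((T : Subgroup G) ≃* QuaternionGroup (2 ^ n))) : Cfsg.HasNormalPComplement 2 G := by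
  have : Fact (Nat.Prime 2) := ⟨Nat.prime_two⟩
  obtain ⟨e⟩ := hT
  set N := pPrimeCore 2 G with hN
  have hNn : N.Normal := pPrimeCore_normal' 2
  set π := QuotientGroup.mk' N with hπ
  have hsurj : Function.Surjective π := QuotientGroup.mk'_surjective N
  have hcop : (Nat.card ↥N).Coprime 2 := card_pPrimeCore_coprime 2
  obtain ⟨k, hk⟩ := T.2.exists_card_eq
  have hcopTN : (Nat.card ↥(T : Subgroup G)).Coprime (Nat.card ↥N) := by
    rw [hk]
    exact Nat.Coprime.pow_left k hcop.symm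
  have hdisj : Disjoint (T : Subgroup G) N := Subgroup.disjoint_of_coprime_natCard hcopTN
  -- the embedding of the quaternion group into `G ⧸ N`
  let ψ : QuaternionGroup (2 ^ n) →* G ⧸ N :=
    π.comp ((T : Subgroup G).subtype.comp e.symm.toMonoidHom)
  have hψinj : Function.Injective ψ := by
    rw [injective_iff_map_eq_one]
    intro x hx
    have h1 : ((e.symm x : ↥(T : Subgroup G)) : G) ∈ N := (QuotientGroup.eq_one_iff _).mp hx
    have h2 : ((e.symm x : ↥(T : Subgroup G)) : G) ∈ (T : Subgroup G) := (e.symm x).2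
    have h3 : ((e.symm x : ↥(T : Subgroup G)) : G) = 1 :=
      Subgroup.disjoint_def.mp hdisj h2 h1
    have h4 : e.symm x = 1 := Subtype.ext h3
    simpa using congrArg e h4
  have hψrange : ψ.range = (T : Subgroup G).map π := by
    ext y
    constructor
    · rintro ⟨x, rfl⟩
      exact ⟨_, (e.symm x).2, rfl⟩
    · rintro ⟨t, ht, rfl⟩
      refine ⟨e ⟨t, ht⟩, ?_⟩
      show π ((e.symm (e ⟨t, ht⟩) : ↥(T : Subgroup G)) : G) = π t
      rw [MulEquiv.symm_apply_apply]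
  have hne : NeZero (2 ^ n) := ⟨by positivity⟩
  obtain ⟨A, hAr, hAcyc, hAcard, hAinv⟩ := exists_cyclic_of_quaternion ψ hψinj
  let S : Sylow 2 (G ⧸ N) := T.mapSurjective hsurj
  have hS : (S : Subgroup (G ⧸ N)) = (T : Subgroup G).map π := rfl
  have hsolq : Group.IsSolvable (G ⧸ N) := inferInstance
  have hA16 : 16 ≤ Nat.card ↥A := by
    rw [hAcard]
    have : 2 ^ 3 ≤ 2 ^ n := Nat.pow_le_pow_right (by norm_num) hn
    omega
  have h2 : IsPGroup 2 (G ⧸ N) :=
    isPGroup_two_of_quaternion_sylow (pPrimeCore_quotient_pPrimeCore 2) S A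
      (by rw [hS, ← hψrange]; exact hAr) hAcyc hA16 (by rw [hS, ← hψrange]; exact hAinv)
  -- `N` is a normal complement of `T`
  refine ⟨T, N, hNn, ?_⟩
  obtain ⟨j, hj⟩ := h2.exists_card_eq
  have hcardG : Nat.card G = 2 ^ j * Nat.card ↥N := by
    rw [← hj]; exact Subgroup.card_eq_card_quotient_mul_card_subgroup N
  have hcardG' : Nat.card G = (T : Subgroup G).index * 2 ^ k := by
    rw [← hk]; exact ((T : Subgroup G).index_mul_card).symm
  have hidx : (2 ^ j).Coprime (T : Subgroup G).index := by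
    apply Nat.Coprime.pow_left
    exact (Nat.Prime.coprime_iff_not_dvd Nat.prime_two).mpr T.not_dvd_index
  have hkj : 2 ^ k = 2 ^ j := by
    apply Nat.dvd_antisymm
    · have h1 : 2 ^ k ∣ 2 ^ j * Nat.card ↥N := by rw [← hcardG, hcardG']; exact Dvd.intro_left _ rfl
      exact (Nat.Coprime.pow_left k hcop.symm).dvd_of_dvd_mul_right h1
    · have h1 : 2 ^ j ∣ (T : Subgroup G).index * 2 ^ k := by rw [← hcardG', hcardG]; exact Dvd.intro _ rfl
      exact hidx.dvd_of_dvd_mul_left h1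
  apply Subgroup.isComplement'_of_coprime
  · rw [hk, hkj, hcardG, mul_comm]
  · exact hcopTN.symm

end Cfsg.Agent.S3294
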