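import Mathlib
import Cfsg.Statements.S3299
import Cfsg.Agent.Lib.Helper1.PCore
import Cfsg.Agent.Lib.Helper29.ExtraspecialSub
import Cfsg.Agent.Lib.Helper29.TransferInvolution

set_option autoImplicit false
open Cfsg

namespace Cfsg.Agent.S3299

open Cfsg.Agent.Lib.Helper29

/-- A group generated by its elements of odd order has no nontrivial homomorphism to `{±1}`. -/
theorem hom_trivial {G : Type*} [Group G] (hres : Cfsg.pResidual 2 G = ⊤) (f : G →* ℤˣ)
    (g : G) : f g = 1 := by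
  have hle : Subgroup.closure {g : G | Nat.Coprime (orderOf g) 2} ≤ f.ker := by
    rw [Subgroup.closure_le]
    intro x hx
    rw [SetLike.mem_coe, MonoidHom.mem_ker]
    rcases Int.units_eq_one_or (f x) with h | h
    · exact h
    · exfalso
      have hpow : (f x) ^ orderOf x = 1 := by rw [← map_pow, pow_orderOf_eq_one, map_one]
      rw [h] at hpow
      have hodd : Odd (orderOf x) := Nat.coprime_two_right.mp hx
      rw [hodd.neg_one_pow] at hpow
      exact absurd hpow (by decide)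
  have hmem : g ∈ Subgroup.closure {g : G | Nat.Coprime (orderOf g) 2} := by
    have : Cfsg.pResidual 2 G = Subgroup.closure {g : G | Nat.Coprime (orderOf g) 2} := rfl
    rw [← this, hres]; exact Subgroup.mem_top _
  exact MonoidHom.mem_ker.mp (hle hmem)

/-- Let G be a finite group with no nontrivial 2-group quotient (O^2(G) = G), z an involution of G with H = C_G(z), and suppose E = O_2(H) is extraspecial with C_G(E) ≤ E and of order 2^(2n+1) with n ≥ 2. Then E is contained in every normal subgroup of H of index 2. -/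
theorem result {G : Type*} [Group G] [Finite G] (hres : Cfsg.pResidual 2 G = ⊤) (z : G) (hz : orderOf z = 2)
    (E : Subgroup G) (hE : E = (Cfsg.pCore 2 ↥(Subgroup.centralizer ({z} : Set G))).map (Subgroup.centralizer ({z} : Set G)).subtype)
    (hext : Cfsg.IsExtraspecial 2 ↥E) (hcent : Subgroup.centralizer (E : Set G) ≤ E) (n : ℕ) (hn : 2 ≤ n) (hcard : Nat.card ↥E = 2 ^ (2 * n + 1))
    (K : Subgroup G) (hKH : K ≤ Subgroup.centralizer ({z} : Set G))
    (hKn : ∀ h ∈ Subgroup.centralizer ({z} : Set G), K.map (MulAut.conj h).toMonoidHom = K)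
    (hKi : K.relIndex (Subgroup.centralizer ({z} : Set G)) = 2) : E ≤ K := by
  classical
  set H := Subgroup.centralizer ({z} : Set G) with hHdef
  have hzz : z * z = 1 := by rw [← pow_two, ← hz, pow_orderOf_eq_one]
  have hz1 : z ≠ 1 := by
    intro h; rw [h, orderOf_one] at hz; omega
  have hEH : E ≤ H := by
    rw [hE]; rintro _ ⟨x, _, rfl⟩; exact x.2
  have hzc : ∀ x ∈ E, x * z = z * x := fun x hx =>
    Subgroup.mem_centralizer_singleton_iff.mp (hEH hx)
  have hzE : z ∈ E := hcent (Subgroup.mem_centralizer_iff.mpr (fun e he => hzc e he))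
  have hES : ESG E z := ESG.of_extraspecial hext hzE hz1 hzc
  have hcard8 : 8 < Nat.card ↥E := by
    rw [hcard]
    calc 8 < 2 ^ 5 := by norm_num
      _ ≤ 2 ^ (2 * n + 1) := Nat.pow_le_pow_right (by norm_num) (by omega)
  -- E is normal in H
  have hEn : ∀ h ∈ H, ∀ e ∈ E, h * e * h⁻¹ ∈ E := by
    intro h hh e he
    rw [hE] at he ⊢
    obtain ⟨x, hx, rfl⟩ := he
    have hnorm : (Cfsg.pCore 2 ↥H).Normal := Cfsg.Agent.Lib.Helper1.pCore_normal 2
    exact ⟨⟨h, hh⟩ * x * ⟨h, hh⟩⁻¹, hnorm.conj_mem x hx ⟨h, hh⟩, rfl⟩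
  -- index two
  have hK2 : ∀ a ∈ H, ∀ b ∈ H, (a * b ∈ K ↔ (a ∈ K ↔ b ∈ K)) := by
    intro a ha b hb
    have := Subgroup.mul_mem_iff_of_index_two (H := K.subgroupOf H) hKi
      (a := ⟨a, ha⟩) (b := ⟨b, hb⟩)
    simpa [Subgroup.mem_subgroupOf] using this
  have hcommK : ∀ a ∈ H, ∀ b ∈ H, a * b * a⁻¹ * b⁻¹ ∈ K := by
    intro a ha b hb
    have hai := H.inv_mem ha
    have hbi := H.inv_mem hb
    have : a * b * a⁻¹ * b⁻¹ = (a * b) * (a⁻¹ * b⁻¹) := by group
    rw [this, hK2 (a * b) (H.mul_mem ha hb) (a⁻¹ * b⁻¹) (H.mul_mem hai hbi), hK2 a ha b hb,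
      hK2 a⁻¹ hai b⁻¹ hbi, K.inv_mem_iff, K.inv_mem_iff]
  have hzK : z ∈ K := by
    obtain ⟨a, ha, b, hb, hab⟩ := hES.exists_anti (by omega)
    rw [← hES.commutator_eq hab]
    exact hcommK a (hEH ha) b (hEH hb)
  by_contra hEK
  obtain ⟨x0, hx0E, hx0K⟩ := SetLike.not_le_iff_exists.mp hEK
  have hM2 : ESG.IndexTwoIn E (E ⊓ K) := by
    intro a ha b hb
    simp only [Subgroup.mem_inf, ha, hb, E.mul_mem ha hb, true_and]
    exact hK2 a (hEH ha) b (hEH hb)
  obtain ⟨u, huE, huM, huu⟩ := hES.exists_involution_not_mem hcard8 (E ⊓ K) inf_le_left hM2 hx0E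
    (fun hc => hx0K hc.2)
  have huK : u ∉ K := fun hc => huM ⟨huE, hc⟩
  have hu1 : u ≠ 1 := fun hc => huK (hc ▸ K.one_mem)
  have huz : u ≠ z := fun hc => huK (hc ▸ hzK)
  obtain ⟨t, htE, htu0⟩ : ∃ t ∈ E, t * u ≠ u * t := by
    by_contra hcon
    push Not at hcon
    rcases hES.cent u huE hcon with h' | h'
    exacts [hu1 h', huz h']
  have htu : u * t = z * (t * u) := hES.anti_of_ne huE htE (fun hc => htu0 hc.symm)
  obtain ⟨a, haE, b, hbE, hau, hbu, hab⟩ :=
    hES.exists_anti_in_centralizer hcard8 huE ⟨t, htE, htu0⟩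
  set R := E ⊓ Subgroup.centralizer ({u} : Set G) with hRdef
  have hRmem : ∀ c, c ∈ R ↔ c ∈ E ∧ c * u = u * c := by
    intro c
    rw [hRdef, Subgroup.mem_inf, Subgroup.mem_centralizer_singleton_iff]
  have hEp : IsPGroup 2 ↥E := IsPGroup.of_card hcard
  have hR : IsPGroup 2 ↥R := hEp.to_le inf_le_left
  have hRu : ∀ r ∈ R, r * u = u * r := fun r hr => ((hRmem r).mp hr).2
  have htriv : ∀ f : G →* ℤˣ, f u = 1 := fun f => hom_trivial hres f u
  have heven := even_card_oddCosets H K hKi u huu htriv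
  have h1 : ((1 : G) : G ⧸ H) ∈ oddCosets H K u :=
    ⟨1, rfl, by simpa using hEH huE, by simpa using huK⟩
  have hR1 : ∀ r ∈ R, r • ((1 : G) : G ⧸ H) = ((1 : G) : G ⧸ H) := by
    intro r hr
    rw [MulAction.Quotient.smul_coe, smul_eq_mul, QuotientGroup.eq]
    have : r ∈ H := hEH ((hRmem r).mp hr).1
    simpa using H.inv_mem this
  have huniq : ∀ q ∈ oddCosets H K u, (∀ r ∈ R, r • q = q) → q = ((1 : G) : G ⧸ H) := by
    rintro q ⟨g, rfl, hgH, hgK⟩ hfix
    have hconj : ∀ r ∈ R, g⁻¹ * r * g ∈ H := by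
      intro r hr
      have := hfix r hr
      rw [MulAction.Quotient.smul_coe, smul_eq_mul, QuotientGroup.eq] at this
      have h2 := H.inv_mem this
      have h3 : ((r * g)⁻¹ * g)⁻¹ = g⁻¹ * r * g := by group
      rw [h3] at h2
      exact h2
    set w := g * z * g⁻¹ with hw
    have hww : w * w = 1 := by
      rw [hw]
      calc g * z * g⁻¹ * (g * z * g⁻¹) = g * (z * z) * g⁻¹ := by group
        _ = 1 := by rw [hzz]; group
    have hw1 : w ≠ 1 := by
      intro hc
      apply hz1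
      have : z = g⁻¹ * w * g := by rw [hw]; group
      rw [this, hc]; group
    have hwc : ∀ c ∈ E, c * u = u * c → c * w = w * c := by
      intro c hc hcu
      have hcR : c ∈ R := (hRmem c).mpr ⟨hc, hcu⟩
      have h2 := Subgroup.mem_centralizer_singleton_iff.mp (hconj c hcR)
      -- h2 : g⁻¹ * c * g * z = z * (g⁻¹ * c * g)
      rw [hw]
      calc c * (g * z * g⁻¹) = g * ((g⁻¹ * c * g) * z) * g⁻¹ := by group
        _ = g * (z * (g⁻¹ * c * g)) * g⁻¹ := by rw [h2]
        _ = g * z * g⁻¹ * c := by group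
    have hwH : w ∈ H := by
      rw [hHdef, Subgroup.mem_centralizer_singleton_iff]
      exact (hwc z hzE (hzc u huE).symm).symm
    have hwE : ∀ e ∈ E, w * e * w⁻¹ ∈ E := hEn w hwH
    rcases hES.centralizing_involution hcent huE huu htE htu hww hw1 hwE hwc with hwz | hwu | hwuz
    · -- g ∈ H
      rw [eq_comm, QuotientGroup.eq]
      have hgz : g * z = z * g := by
        have : g * z * g⁻¹ * g = z * g := by rw [← hw, hwz]
        rw [← this]; group
      have hgHm : g ∈ H := by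
        rw [hHdef, Subgroup.mem_centralizer_singleton_iff]; exact hgz
      simpa using hgHm
    · exfalso
      apply hgK
      have : g⁻¹ * u * g = z := by rw [← hwu, hw]; group
      rw [this]; exact hzK
    · exfalso
      apply hgK
      have haR : a ∈ R := (hRmem a).mpr ⟨haE, hau⟩
      have hbR : b ∈ R := (hRmem b).mpr ⟨hbE, hbu⟩
      have hzgK : g⁻¹ * z * g ∈ K := by
        have h3 := hcommK _ (hconj a haR) _ (hconj b hbR)
        have h4 : g⁻¹ * a * g * (g⁻¹ * b * g) * (g⁻¹ * a * g)⁻¹ * (g⁻¹ * b * g)⁻¹ =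
            g⁻¹ * (a * b * a⁻¹ * b⁻¹) * g := by group
        rw [h4, hES.commutator_eq hab] at h3
        exact h3
      have hzR : z ∈ R := (hRmem z).mpr ⟨hzE, (hzc u huE).symm⟩
      have hzgH : g⁻¹ * z * g ∈ H := hconj z hzR
      have hprod : (g⁻¹ * u * g) * (g⁻¹ * z * g) = z := by
        have : (g⁻¹ * u * g) * (g⁻¹ * z * g) = g⁻¹ * (u * z) * g := by group
        rw [this, ← hwuz, hw]; group
      have h5 := hK2 _ hgH _ hzgH
      rw [hprod] at h5
      exact (h5.mp hzK).mpr hzgK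
  have hodd := odd_card_oddCosets H K u R hR hRu h1 hR1 huniq
  exact (Nat.not_even_iff_odd.mpr hodd) heven

end Cfsg.Agent.S3299
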