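import Cfsg.Statements.S3305
-- import your own Cfsg.Agent.* helpers here

set_option autoImplicit false
open Cfsg

namespace Cfsg.Agent.S3305

/-- Lifting: a `p`-subgroup `A` whose image lies in a Sylow `p`-subgroup `P'` of the image group is
contained in a Sylow `p`-subgroup of `G` mapping onto `P'`. -/
theorem exists_sylow_ge_map_eq {G : Type*} [Group G] [Finite G] {G' : Type*} [Group G']
    {f : G →* G'} (hf : Function.Surjective f) {p : ℕ} [Fact p.Prime]
    (P : Sylow p G') (A : Subgroup G) (hA : IsPGroup p A) (hAP : A.map f ≤ P) :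
    ∃ Q : Sylow p G, A ≤ Q ∧ (Q : Subgroup G).map f = P := by
  have : Finite G' := Finite.of_surjective f hf
  have hAK : A ≤ (P : Subgroup G').comap f := Subgroup.map_le_iff_le_comap.mp hAP
  have hA' : IsPGroup p ↥(A.subgroupOf ((P : Subgroup G').comap f)) :=
    hA.comap_subtype
  obtain ⟨Q₀, hQ₀⟩ := hA'.exists_le_sylow
  let Q : Subgroup G := (Q₀ : Subgroup _).map ((P : Subgroup G').comap f).subtype
  have hPQ : Q.map f ≤ P := Subgroup.map_le_iff_le_comap.mpr (Subgroup.map_subtype_le Q₀.1)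
  have hpQ : IsPGroup p Q := Q₀.2.map ((P : Subgroup G').comap f).subtype
  have hQ : ¬ p ∣ Q.index := by
    rw [Subgroup.index_map_subtype Q₀.1, P.index_comap_of_surjective hf]
    exact Nat.Prime.not_dvd_mul Fact.out Q₀.not_dvd_index P.not_dvd_index
  refine ⟨hpQ.toSylow hQ, ?_, ?_⟩
  · intro a ha
    show a ∈ Q
    refine ⟨⟨a, hAK ha⟩, hQ₀ ?_, rfl⟩
    exact Subgroup.mem_subgroupOf.mpr ha
  · symm
    exact ((hpQ.map f).toSylow (fun h ↦ hQ (h.trans (Q.index_map_dvd hf)))).3 P.2 hPQ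

/-- If any two distinct Sylow 2-subgroups of the finite group G intersect in a cyclic group, then the same holds in every quotient group G/H, H a normal subgroup of G. -/
theorem result {G : Type*} [Group G] [Finite G]
    (hC : ∀ S T : Sylow 2 G, S ≠ T → IsCyclic ↥((S : Subgroup G) ⊓ (T : Subgroup G))) (H : Subgroup G) [H.Normal] :
    ∀ S T : Sylow 2 (G ⧸ H), S ≠ T → IsCyclic ↥((S : Subgroup (G ⧸ H)) ⊓ (T : Subgroup (G ⧸ H))) := by
  intro S T hST
  have : Fact (Nat.Prime 2) := ⟨Nat.prime_two⟩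
  have hf : Function.Surjective (QuotientGroup.mk' H) := QuotientGroup.mk'_surjective H
  set f := QuotientGroup.mk' H with hfdef
  obtain ⟨S₁, -, hS₁⟩ := exists_sylow_ge_map_eq hf S ⊥ IsPGroup.of_bot (by simp)
  set Dbar : Subgroup (G ⧸ H) := (S : Subgroup (G ⧸ H)) ⊓ (T : Subgroup (G ⧸ H)) with hDbar
  set A : Subgroup G := Dbar.comap f ⊓ (S₁ : Subgroup G) with hAdef
  have hAmap : A.map f = Dbar := by
    apply le_antisymm
    · rw [Subgroup.map_le_iff_le_comap]
      exact inf_le_left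
    · intro d hd
      have hdS : d ∈ (S₁ : Subgroup G).map f := by rw [hS₁]; exact hd.1
      obtain ⟨s, hs, rfl⟩ := hdS
      exact ⟨s, ⟨hd, hs⟩, rfl⟩
  have hA2 : IsPGroup 2 A := S₁.2.to_le inf_le_right
  obtain ⟨T₁, hAT₁, hT₁⟩ := exists_sylow_ge_map_eq hf T A hA2 (by rw [hAmap]; exact inf_le_right)
  have hne : S₁ ≠ T₁ := by
    intro h
    apply hST
    apply Sylow.ext
    rw [← hS₁, ← hT₁, h]
  have hcyc : IsCyclic ↥((S₁ : Subgroup G) ⊓ (T₁ : Subgroup G)) := hC S₁ T₁ hne
  have hAle : A ≤ (S₁ : Subgroup G) ⊓ (T₁ : Subgroup G) := le_inf inf_le_right hAT₁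
  have hAcyc : IsCyclic ↥A :=
    isCyclic_of_injective (Subgroup.inclusion hAle) (Subgroup.inclusion_injective hAle)
  have hmapcyc : IsCyclic ↥(A.map f) :=
    isCyclic_of_surjective (f.subgroupMap A) (f.subgroupMap_surjective A)
  rw [hAmap] at hmapcyc
  exact hmapcyc

end Cfsg.Agent.S3305
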