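import Cfsg.Statements.S3303
import Cfsg.Agent.S3305
import Cfsg.Agent.Lib.Helper55.Cores

set_option autoImplicit false
open Cfsg

namespace Cfsg.Agent.S3303

open Cfsg.Agent.Lib.Helper55

/-- kernel of the conjugation action on a normal subgroup is its centralizer -/
theorem ker_conjNormal {Q : Type*} [Group Q] (P : Subgroup Q) [P.Normal] :
    (MulAut.conjNormal (H := P)).ker = Subgroup.centralizer (P : Set Q) := by
  ext g
  rw [MonoidHom.mem_ker, Subgroup.mem_centralizer_iff]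
  constructor
  · intro hg h hh
    have := congrArg (fun φ : MulAut ↥P => ((φ ⟨h, hh⟩ : ↥P) : Q)) hg
    simp only [MulAut.conjNormal_apply, MulAut.one_apply] at this
    calc h * g = (g * h * g⁻¹) * g := by rw [this]
      _ = g * h := by group
  · intro hg
    ext ⟨h, hh⟩
    simp only [MulAut.conjNormal_apply, MulAut.one_apply]
    rw [← hg h hh]; group

/-- A finite solvable group with `O(Q) = 1` in which distinct Sylow 2-subgroups meet in cyclic groups
has a unique Sylow 2-subgroup. -/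
theorem subsingleton_sylow {Q : Type*} [Group Q] [Finite Q] [Group.IsSolvable Q]
    (hO : pPrimeCore 2 Q = ⊥)
    (hC : ∀ S T : Sylow 2 Q, S ≠ T → IsCyclic ↥((S : Subgroup Q) ⊓ (T : Subgroup Q))) :
    Subsingleton (Sylow 2 Q) := by
  have : Fact (Nat.Prime 2) := ⟨Nat.prime_two⟩
  by_contra hns
  rw [not_subsingleton_iff_nontrivial] at hns
  obtain ⟨S, T, hST⟩ := hns
  set P := pCore 2 Q with hP
  have hPn : P.Normal := pCore_normal' 2
  have hPle : P ≤ (S : Subgroup Q) ⊓ (T : Subgroup Q) := le_inf (pCore_le_sylow S) (pCore_le_sylow T)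
  have hcyc : IsCyclic ↥((S : Subgroup Q) ⊓ (T : Subgroup Q)) := hC S T hST
  have hPcyc : IsCyclic ↥P :=
    isCyclic_of_injective (Subgroup.inclusion hPle) (Subgroup.inclusion_injective hPle)
  have hcent : Subgroup.centralizer (P : Set Q) ≤ P := centralizer_pCore_le 2 hO
  have hP2 : IsPGroup 2 ↥P := isPGroup_pCore 2
  obtain ⟨k, hk⟩ := hP2.exists_card_eq
  -- |Aut P| is a power of 2
  have hAut : ∃ m, Nat.card (MulAut ↥P) = 2 ^ m := by
    rw [IsCyclic.card_mulAut, hk]
    rcases Nat.eq_zero_or_pos k with h0 | h0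
    · exact ⟨0, by rw [h0]; simp⟩
    · exact ⟨k - 1, by rw [Nat.totient_prime_pow Nat.prime_two h0]; simp⟩
  obtain ⟨m, hm⟩ := hAut
  set f : Q →* MulAut ↥P := MulAut.conjNormal with hf
  have hker : f.ker = Subgroup.centralizer (P : Set Q) := ker_conjNormal P
  have hidx : f.ker.index ∣ 2 ^ m := by
    rw [Subgroup.index_ker, ← hm]
    exact Subgroup.card_subgroup_dvd_card f.range
  have hcardker : Nat.card ↥f.ker ∣ 2 ^ k := by
    rw [hker, ← hk]
    exact Subgroup.card_dvd_of_le hcent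
  obtain ⟨a, -, ha⟩ := (Nat.dvd_prime_pow Nat.prime_two).mp hidx
  obtain ⟨b, -, hb⟩ := (Nat.dvd_prime_pow Nat.prime_two).mp hcardker
  have hQcard : Nat.card Q = 2 ^ (a + b) := by
    rw [← Subgroup.index_mul_card f.ker, ha, hb, pow_add]
  have hQ2 : IsPGroup 2 Q := IsPGroup.of_card hQcard
  have hS : (⊤ : Subgroup Q) = S := S.is_maximal' (hQ2.to_subgroup ⊤) le_top
  have hT : (⊤ : Subgroup Q) = T := T.is_maximal' (hQ2.to_subgroup ⊤) le_top
  exact hST (Sylow.ext (hS.symm.trans hT))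

theorem result {G : Type*} [Group G] [Finite G] (hs : Group.IsSolvable G)
    (hC : ∀ S T : Sylow 2 G, S ≠ T → IsCyclic ↥((S : Subgroup G) ⊓ (T : Subgroup G))) :
    ∃ P : Sylow 2 (G ⧸ Cfsg.oddCore G), (P : Subgroup (G ⧸ Cfsg.oddCore G)).Normal := by
  have : Fact (Nat.Prime 2) := ⟨Nat.prime_two⟩
  have hO : pPrimeCore 2 (G ⧸ pPrimeCore 2 G) = ⊥ := pPrimeCore_quotient_pPrimeCore 2
  have hC' := Cfsg.Agent.S3305.result hC (pPrimeCore 2 G)
  have hsub : Subsingleton (Sylow 2 (G ⧸ pPrimeCore 2 G)) := subsingleton_sylow hO hC'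
  obtain ⟨P⟩ : Nonempty (Sylow 2 (G ⧸ pPrimeCore 2 G)) := inferInstance
  exact ⟨P, Sylow.normal_of_subsingleton P⟩

end Cfsg.Agent.S3303
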