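import Cfsg.Statements.S3309
-- import your own Cfsg.Agent.* helpers here

set_option autoImplicit false
open Cfsg

namespace Cfsg.Agent.S3309

/-- the model group `Z₂ × D₈` -/
abbrev K := Multiplicative (ZMod 2) × DihedralGroup 4

/-- the central involution generating the first factor -/
def z₀ : K := (Multiplicative.ofAdd 1, 1)
/-- a generator of the cyclic subgroup of order 4 of the second factor -/
def w₀ : K := (1, DihedralGroup.r 1)

theorem K1 : z₀ ≠ 1 ∧ z₀ * z₀ = 1 ∧ ∀ k : K, k * z₀ = z₀ * k := by decide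
theorem K2 : ∀ k : K, k * k ≠ z₀ := by decide
theorem K3 : ∀ k : K, k.1 = 1 → (∀ k' : K, k'.1 = 1 → k' * k = k * k') →
    k = 1 ∨ k = w₀ * w₀ := by decide
theorem K4 : ∀ k : K, k * (w₀ * w₀) = (w₀ * w₀) * k := by decide
theorem K5 : Fintype.card K = 16 := by decide
theorem K6 : Fintype.card {k : K // k.1 = 1} = 8 := by decide
theorem K7 : z₀.1 ≠ 1 := by decide

/-- sign of an involution (or the identity) -/
theorem sign_of_mul_self {α : Type*} [Fintype α] [DecidableEq α] (σ : Equiv.Perm α)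
    (h : σ * σ = 1) : 2 ∣ σ.support.card ∧ Equiv.Perm.sign σ = (-1) ^ (σ.support.card / 2) := by
  by_cases h1 : σ = 1
  · subst h1; simp
  · have h2 : orderOf σ = 2 := by
      have : Fact (Nat.Prime 2) := ⟨Nat.prime_two⟩
      exact orderOf_eq_prime (by rw [pow_two]; exact h) h1
    obtain ⟨n, hn⟩ := Equiv.Perm.cycleType_prime_order (σ := σ) (by rw [h2]; exact Nat.prime_two)
    rw [h2] at hn
    have hs : σ.cycleType.sum = σ.support.card := Equiv.Perm.sum_cycleType σ
    have hs2 : σ.cycleType.sum = (n + 1) * 2 := by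
      rw [hn, Multiset.sum_replicate, smul_eq_mul]
    have hc : Multiset.card σ.cycleType = n + 1 := by
      rw [hn, Multiset.card_replicate]
    have hsup : σ.support.card = (n + 1) * 2 := by rw [← hs, hs2]
    refine ⟨⟨n + 1, by rw [hsup, mul_comm]⟩, ?_⟩
    rw [Equiv.Perm.sign_of_cycleType, hs2, hc, hsup, Nat.mul_div_cancel _ (by norm_num : 0 < 2)]
    rw [pow_add, pow_mul]
    simp

/-- if every orbit has size divisible by `d`, so has the whole set -/
theorem dvd_card_of_dvd_card_orbits {M Ω : Type*} [Group M] [MulAction M Ω] [Finite Ω] (d : ℕ)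
    (h : ∀ x : Ω, d ∣ (MulAction.orbit M x).ncard) : d ∣ Nat.card Ω := by
  classical
  have := Fintype.ofFinite (MulAction.orbitRel.Quotient M Ω)
  rw [Nat.card_congr (MulAction.selfEquivSigmaOrbits M Ω), Nat.card_sigma]
  apply Finset.dvd_sum
  intro ω _
  rw [Nat.card_coe_set_eq]
  exact h _

/-- **Extremal Thompson transfer.** Let `Q` have index 2 in the Sylow 2-subgroup `S`, let `z` be an
element of the centre of `S` with `z² = 1`, and suppose every element of `G` acts as an even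
permutation on `G ⧸ Q`. Then some conjugate of `z` lies in the centre of `Q`. -/
theorem exists_conj_mem_center {G : Type*} [Group G] [Finite G] (S : Sylow 2 G) (Q : Subgroup G)
    (hQS : Q ≤ S) (hcard : Nat.card ↥(S : Subgroup G) = 2 * Nat.card ↥Q) (z : G)
    (hzz : z * z = 1) (hzc : ∀ s ∈ (S : Subgroup G), s * z = z * s)
    [Fintype (G ⧸ Q)] [DecidableEq (G ⧸ Q)]
    (hsign : ∀ g : G, Equiv.Perm.sign (MulAction.toPermHom G (G ⧸ Q) g) = 1) :
    ∃ g : G, g⁻¹ * z * g ∈ Q ∧ ∀ q ∈ Q, q * (g⁻¹ * z * g) = (g⁻¹ * z * g) * q := by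
  have : Fact (Nat.Prime 2) := ⟨Nat.prime_two⟩
  set σ : Equiv.Perm (G ⧸ Q) := MulAction.toPermHom G (G ⧸ Q) z with hσ
  have hσσ : σ * σ = 1 := by
    rw [hσ, ← map_mul, hzz, map_one]
  obtain ⟨h2, hsg⟩ := sign_of_mul_self σ hσσ
  have hs1 : Equiv.Perm.sign σ = 1 := hsign z
  rw [hs1] at hsg
  -- 4 ∣ |supp σ|
  have h4 : 4 ∣ σ.support.card := by
    obtain ⟨t, ht⟩ := h2
    rw [ht, Nat.mul_div_cancel_left _ (by norm_num : 0 < 2)] at hsg
    have hev : Even t := by
      by_contra hodd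
      rw [Nat.not_even_iff_odd] at hodd
      rw [hodd.neg_one_pow] at hsg
      exact absurd hsg (by decide)
    obtain ⟨r, hr⟩ := hev
    exact ⟨r, by rw [ht, hr]; ring⟩
  -- |X| = 2 * odd
  have hXcard : Fintype.card (G ⧸ Q) = 2 * (S : Subgroup G).index := by
    rw [← Nat.card_eq_fintype_card]
    show Q.index = _
    rw [← Subgroup.relIndex_mul_index hQS]
    congr 1
    have h1 := Subgroup.relIndex_mul_relIndex (H := ⊥) (K := Q) (L := (S : Subgroup G)) bot_le hQS
    rw [Subgroup.relIndex_bot_left, Subgroup.relIndex_bot_left, hcard] at h1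
    have hpos : 0 < Nat.card ↥Q := Nat.card_pos
    have : Nat.card ↥Q * Q.relIndex (S : Subgroup G) = Nat.card ↥Q * 2 := by rw [h1, mul_comm]
    exact Nat.eq_of_mul_eq_mul_left hpos this
  have hodd : ¬ 2 ∣ (S : Subgroup G).index := S.not_dvd_index
  -- the fixed points of z as a sub-action of S
  let Ω : SubMulAction ↥(S : Subgroup G) (G ⧸ Q) :=
    { carrier := {x | z • x = x}
      smul_mem' := by
        intro s x hx
        show z • ((s : G) • x) = (s : G) • x
        rw [← mul_smul, ← hzc s s.2, mul_smul]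
        have hx' : z • x = x := hx
        rw [hx'] }
  -- |Ω| = |X| - |supp σ|
  have hΩcard : Nat.card ↥Ω + σ.support.card = Fintype.card (G ⧸ Q) := by
    have h1 : Nat.card ↥Ω = (σ.supportᶜ).card := by
      have e : ↥Ω ≃ {x : G ⧸ Q // x ∈ σ.supportᶜ} := by
        refine Equiv.subtypeEquivRight ?_
        intro x
        rw [Finset.mem_compl, Equiv.Perm.notMem_support]
        exact Iff.rfl
      rw [Nat.card_congr e, Nat.card_eq_fintype_card, Fintype.card_coe]
    rw [h1, add_comm]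
    exact Finset.card_add_card_compl _
  have hΩ4 : ¬ 4 ∣ Nat.card ↥Ω := by
    intro h
    have : 4 ∣ Fintype.card (G ⧸ Q) := by rw [← hΩcard]; exact dvd_add h h4
    rw [hXcard] at this
    apply hodd
    obtain ⟨r, hr⟩ := this
    exact ⟨r, by omega⟩
  -- some orbit has size not divisible by 4
  have hex : ∃ x : ↥Ω, ¬ 4 ∣ (MulAction.orbit ↥(S : Subgroup G) x).ncard := by
    by_contra hall
    push Not at hall
    exact hΩ4 (dvd_card_of_dvd_card_orbits 4 hall)
  obtain ⟨x, hx⟩ := hex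
  rw [← MulAction.index_stabilizer] at hx
  set St := MulAction.stabilizer ↥(S : Subgroup G) x with hSt
  -- |St| ≥ |Q|
  have hStcard : Nat.card ↥Q ≤ Nat.card ↥St := by
    obtain ⟨k, hk⟩ := S.2.exists_card_eq
    have h1 : St.index * Nat.card ↥St = 2 ^ k := by rw [← hk]; exact St.index_mul_card
    have h2 : St.index ∣ 2 ^ k := Dvd.intro _ h1
    obtain ⟨i, -, hi⟩ := (Nat.dvd_prime_pow Nat.prime_two).mp h2
    have hi1 : i < 2 := by
      by_contra hge
      push Not at hge
      apply hx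
      rw [hi]
      exact pow_dvd_pow 2 hge
    have hle : St.index ≤ 2 := by
      rw [hi]
      interval_cases i <;> norm_num
    have h3 : 2 * Nat.card ↥Q = St.index * Nat.card ↥St := by rw [h1, ← hk, hcard]
    have hpos : 0 < Nat.card ↥St := Nat.card_pos
    nlinarith
  -- unfold the point
  obtain ⟨g, hg⟩ := QuotientGroup.mk_surjective (x : G ⧸ Q)
  have hzfix : z • (x : G ⧸ Q) = (x : G ⧸ Q) := x.2
  have hconjQ : g⁻¹ * z * g ∈ Q := by
    rw [← hg, MulAction.Quotient.smul_mk, QuotientGroup.eq] at hzfix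
    have := Q.inv_mem hzfix
    rw [smul_eq_mul] at this
    have h2 : ((z * g)⁻¹ * g)⁻¹ = g⁻¹ * z * g := by group
    rwa [h2] at this
  have hstab : ∀ s : ↥(S : Subgroup G), s ∈ St → g⁻¹ * (s : G) * g ∈ Q := by
    intro s hs
    rw [hSt, MulAction.mem_stabilizer_iff] at hs
    have h1 : (s : G) • (x : G ⧸ Q) = (x : G ⧸ Q) := congrArg Subtype.val hs
    rw [← hg, MulAction.Quotient.smul_mk, QuotientGroup.eq] at h1
    have := Q.inv_mem h1
    rw [smul_eq_mul] at this
    have h2 : (((s : G) * g)⁻¹ * g)⁻¹ = g⁻¹ * (s : G) * g := by group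
    rwa [h2] at this
  let f : ↥St → ↥Q := fun s => ⟨g⁻¹ * ((s : ↥(S : Subgroup G)) : G) * g, hstab s.1 s.2⟩
  have hfinj : Function.Injective f := by
    intro s t hst
    have h1 : g⁻¹ * ((s : ↥(S : Subgroup G)) : G) * g = g⁻¹ * ((t : ↥(S : Subgroup G)) : G) * g :=
      congrArg Subtype.val hst
    have h2 : ((s : ↥(S : Subgroup G)) : G) = ((t : ↥(S : Subgroup G)) : G) := by
      have := congrArg (fun y => g * y * g⁻¹) h1
      simpa [mul_assoc] using this
    exact Subtype.ext (Subtype.ext h2)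
  have hfbij : Function.Bijective f := hfinj.bijective_of_nat_card_le hStcard
  refine ⟨g, hconjQ, ?_⟩
  intro q hq
  obtain ⟨s, hs⟩ := hfbij.2 ⟨q, hq⟩
  have hq' : q = g⁻¹ * ((s : ↥(S : Subgroup G)) : G) * g := (congrArg Subtype.val hs).symm
  have hcomm := hzc _ (s : ↥(S : Subgroup G)).2
  rw [hq']
  calc g⁻¹ * ((s : ↥(S : Subgroup G)) : G) * g * (g⁻¹ * z * g)
      = g⁻¹ * (((s : ↥(S : Subgroup G)) : G) * z) * g := by group
    _ = g⁻¹ * (z * ((s : ↥(S : Subgroup G)) : G)) * g := by rw [hcomm]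
    _ = g⁻¹ * z * g * (g⁻¹ * ((s : ↥(S : Subgroup G)) : G) * g) := by group

theorem result {G : Type*} [Group G] [Finite G] (S : Sylow 2 G) (hS : Nonempty (↥(S : Subgroup G) ≃* Multiplicative (ZMod 2) × DihedralGroup 4))
    [IsSimpleGroup G] (hG : ¬ IsMulCommutative G) : False := by
  classical
  obtain ⟨e⟩ := hS
  have : Fact (Nat.Prime 2) := ⟨Nat.prime_two⟩
  let ψ : K →* G := (S : Subgroup G).subtype.comp e.symm.toMonoidHom
  have hψinj : Function.Injective ψ := Subtype.coe_injective.comp e.symm.injective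
  have hψS : ∀ k, ψ k ∈ (S : Subgroup G) := fun k => (e.symm k).2
  have hψsurj : ∀ s ∈ (S : Subgroup G), ∃ k, ψ k = s := by
    intro s hs
    refine ⟨e ⟨s, hs⟩, ?_⟩
    show ((e.symm (e ⟨s, hs⟩) : ↥(S : Subgroup G)) : G) = s
    rw [MulEquiv.symm_apply_apply]
  let Q₀ : Subgroup K := (MonoidHom.fst (Multiplicative (ZMod 2)) (DihedralGroup 4)).ker
  have hQ₀mem : ∀ k : K, k ∈ Q₀ ↔ k.1 = 1 := fun k => MonoidHom.mem_ker
  set Q : Subgroup G := Q₀.map ψ with hQ
  have hQS : Q ≤ S := by rintro _ ⟨k, -, rfl⟩; exact hψS k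
  set z := ψ z₀ with hz
  -- cardinalities
  have hScard : Nat.card ↥(S : Subgroup G) = 16 := by
    rw [Nat.card_congr e.toEquiv, Nat.card_eq_fintype_card, K5]
  have hQcard : Nat.card ↥Q = 8 := by
    rw [hQ, Subgroup.card_map_of_injective hψinj]
    rw [← K6, ← Nat.card_eq_fintype_card]
    exact Nat.card_congr (Equiv.subtypeEquivRight hQ₀mem)
  -- properties of z
  have hzz : z * z = 1 := by rw [hz, ← map_mul, K1.2.1, map_one]
  have hz1 : z ≠ 1 := fun h => K1.1 (hψinj (by rw [map_one]; exact h))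
  have hzc : ∀ s ∈ (S : Subgroup G), s * z = z * s := by
    intro s hs
    obtain ⟨k, rfl⟩ := hψsurj s hs
    rw [hz, ← map_mul, ← map_mul, K1.2.2 k]
  -- sign is trivial
  have : Fintype (G ⧸ Q) := Fintype.ofFinite _
  have hsign : ∀ g : G, Equiv.Perm.sign (MulAction.toPermHom G (G ⧸ Q) g) = 1 := by
    let sgn : G →* ℤˣ := Equiv.Perm.sign.comp (MulAction.toPermHom G (G ⧸ Q))
    have hn : sgn.ker.Normal := inferInstance
    rcases hn.eq_bot_or_eq_top with hbot | htop
    · exfalso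
      apply hG
      have hinj : Function.Injective sgn := (MonoidHom.ker_eq_bot_iff sgn).mp hbot
      refine ⟨⟨fun a b => hinj ?_⟩⟩
      rw [map_mul, map_mul, mul_comm]
    · intro g
      have : g ∈ sgn.ker := htop ▸ Subgroup.mem_top g
      exact MonoidHom.mem_ker.mp this
  obtain ⟨g, hgQ, hgc⟩ := exists_conj_mem_center S Q hQS (by rw [hScard, hQcard]) z hzz hzc hsign
  -- identify the conjugate
  have hv1 : g⁻¹ * z * g ≠ 1 := by
    intro h
    apply hz1
    have : z = g * (g⁻¹ * z * g) * g⁻¹ := by group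
    rw [this, h]; group
  obtain ⟨kv, hkvQ, hkv⟩ := hgQ
  have hkv1 : kv.1 = 1 := (hQ₀mem kv).mp hkvQ
  have hkvc : ∀ k' : K, k'.1 = 1 → k' * kv = kv * k' := by
    intro k' hk'
    apply hψinj
    rw [map_mul, map_mul, hkv]
    exact hgc (ψ k') ⟨k', (hQ₀mem k').mpr hk', rfl⟩
  rcases K3 kv hkv1 hkvc with h1 | h2
  · apply hv1; rw [← hkv, h1, map_one]
  · -- the conjugate is `ψ (w₀ * w₀)`, central in `S`
    have hvS : g⁻¹ * z * g ∈ Subgroup.centralizer ((S : Subgroup G) : Set G) := by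
      rw [Subgroup.mem_centralizer_iff]
      intro s hs
      obtain ⟨k, rfl⟩ := hψsurj s hs
      rw [← hkv, h2, ← map_mul, ← map_mul, K4 k]
    have hzS : z ∈ Subgroup.centralizer ((S : Subgroup G) : Set G) := by
      rw [Subgroup.mem_centralizer_iff]
      intro s hs
      exact hzc s hs
    obtain ⟨n, hn, hnv⟩ := S.conj_eq_normalizer_conj_of_mem_centralizer z g hzS hvS
    have h3 : z = (n * ψ w₀ * n⁻¹) * (n * ψ w₀ * n⁻¹) := by
      have h6 : g⁻¹ * z * g = ψ w₀ * ψ w₀ := by rw [← hkv, h2, map_mul]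
      have h4 : z = n * (g⁻¹ * z * g) * n⁻¹ := by rw [hnv]; group
      rw [h4, h6]; group
    have h5 : n * ψ w₀ * n⁻¹ ∈ (S : Subgroup G) :=
      (Subgroup.mem_normalizer_iff.mp hn (ψ w₀)).mp (hψS w₀)
    obtain ⟨k, hk⟩ := hψsurj _ h5
    rw [← hk, ← map_mul] at h3
    exact K2 k (hψinj h3.symm)

end Cfsg.Agent.S3309
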