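import Cfsg.Statements.S3315
import Cfsg.Agent.S1141
import Cfsg.Agent.Lib.Helper98.NormInvol

set_option autoImplicit false
set_option linter.unusedSectionVars false
set_option linter.unusedVariables false
open Cfsg
open scoped Matrix
open Cfsg.Agent.Lib.Helper5
open Cfsg.Agent.S1141

namespace Cfsg.Agent.S3315

section parlevel
variable {F : Type*} [Field F] [Fintype F] {q : ℕ}
variable {hF : Fintype.card F = q ^ 2} {h2 : (2 : F) = 0}

/-- A central element of the model group with prescribed second coordinate (after projecting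
to the fixed field). -/
def cen (hF : Fintype.card F = q ^ 2) (h2 : (2 : F) = 0) (θ : F) (u : F) : Par hF h2 :=
  ⟨0, θ ^ q * u + θ * u ^ q, by
    have := charP_two h2
    have hq := two_le_of_card_eq_sq hF
    rw [add_pow_q hF, mul_pow, mul_pow, pow_q_pow_q hF, pow_q_pow_q hF,
      zero_pow (by omega : q ≠ 0)]
    have := CharTwo.add_self_eq_zero (θ ^ q * u + θ * u ^ q)
    grind⟩

theorem cen_a (θ u : F) : (cen hF h2 θ u).a = 0 := rfl
theorem cen_b (θ u : F) : (cen hF h2 θ u).b = θ ^ q * u + θ * u ^ q := rfl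

theorem cen_b_fixed (θ : F) (hθ : θ + θ ^ q = 1) (u : F) (hu : u ^ q = u) :
    (cen hF h2 θ u).b = u := by
  rw [cen_b, hu]
  linear_combination u * hθ

theorem eq_cen (θ : F) (hθ : θ + θ ^ q = 1) (z : Par hF h2) (hz : z.a = 0) :
    z = cen hF h2 θ z.b := by
  apply Par.ext
  · rw [hz, cen_a]
  · rw [cen_b_fixed θ hθ z.b (fixed_of_center z hz)]

theorem cen_add (θ u v : F) : cen hF h2 θ (u + v) = cen hF h2 θ u * cen hF h2 θ v := by
  apply Par.ext
  · rw [mul_a, cen_a, cen_a, cen_a, add_zero]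
  · rw [mul_b, cen_a, cen_b, cen_b, cen_b, add_pow_q hF]
    ring

theorem map_center_a (α : Par hF h2 ≃* Par hF h2) (z : Par hF h2) (hz : z.a = 0) :
    (α z).a = 0 := by
  rw [← mem_center_iff] at hz ⊢
  rw [Subgroup.mem_center_iff] at hz ⊢
  intro y
  have := congrArg α (hz (α.symm y))
  simpa using this

/-- The main theorem about automorphisms of the model group. -/
theorem aut_center (α : Par hF h2 ≃* Par hF h2)
    (hα : ∃ s, ∀ x, α (α x) = s * x * s⁻¹) (z : Par hF h2) (hz : z.a = 0) : α z = z := by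
  have hchar := charP_two h2
  have hq := two_le_of_card_eq_sq hF
  obtain ⟨θ, hθ⟩ := exists_theta hF h2
  let g : F → F := fun a => (α (lift hF h2 θ hθ a)).a
  let h : F → F := fun u => (α (cen hF h2 θ u)).b
  have g_spec : ∀ x : Par hF h2, (α x).a = g x.a := by
    intro x
    have h1 : x = lift hF h2 θ hθ x.a * ((lift hF h2 θ hθ x.a)⁻¹ * x) := by group
    have h3 : ((lift hF h2 θ hθ x.a)⁻¹ * x).a = 0 := by
      rw [mul_a, inv_a]
      exact CharTwo.add_self_eq_zero x.a
    have h4 := map_center_a α _ h3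
    conv_lhs => rw [h1]
    rw [map_mul, mul_a, h4, add_zero]
  have g_add : ∀ a b, g (a + b) = g a + g b := by
    intro a b
    have h1 := g_spec (lift hF h2 θ hθ a * lift hF h2 θ hθ b)
    rw [map_mul, mul_a, mul_a] at h1
    exact h1.symm
  have g_inv : ∀ a, g (g a) = a := by
    intro a
    obtain ⟨s, hs⟩ := hα
    have h1 := g_spec (α (lift hF h2 θ hθ a))
    rw [hs, mul_a, mul_a, inv_a] at h1
    have h3 : s.a + (lift hF h2 θ hθ a).a + s.a = a := by
      have : (lift hF h2 θ hθ a).a = a := rfl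
      rw [this]
      have := CharTwo.add_self_eq_zero s.a
      grind
    rw [h3] at h1
    exact h1.symm
  have h_add : ∀ u v, h (u + v) = h u + h v := by
    intro u v
    change (α (cen hF h2 θ (u + v))).b = _
    rw [cen_add, map_mul, mul_b, map_center_a α _ (cen_a θ u), zero_mul, add_zero]
  have hN : ∀ a, g a * (conjHom hF) (g a) = h (a * (conjHom hF) a) := by
    intro a
    rw [conjHom_apply, conjHom_apply]
    have h1 := (sq_eq (lift hF h2 θ hθ a))
    have h3 : lift hF h2 θ hθ a * lift hF h2 θ hθ a = cen hF h2 θ (a * a ^ q) := by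
      rw [eq_cen θ hθ _ h1.1, h1.2]
      rfl
    have h4 := (sq_eq (α (lift hF h2 θ hθ a))).2
    rw [← map_mul, h3] at h4
    exact h4.symm
  have key := Cfsg.Agent.Lib.Helper98.NormInvol.main (conjHom hF) (conjHom_conjHom hF) q
    (by rw [Nat.card_eq_fintype_card, hF]) (card_fixed hF) g h g_add g_inv h_add hN
  have hzb := fixed_of_center z hz
  apply Par.ext
  · rw [map_center_a α z hz, hz]
  · have h1 := key z.b hzb
    change (α (cen hF h2 θ z.b)).b = z.b at h1
    rw [← eq_cen θ hθ z hz] at h1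
    exact h1

end parlevel

section reduction

theorem index_two_center {R : Type*} [Group R] {T : Type*} [Group T] (S' : Subgroup R)
    (hidx : S'.index = 2) (e : S' ≃* T)
    (hT : ∀ α : T ≃* T, (∃ s, ∀ x, α (α x) = s * x * s⁻¹) →
      ∀ z ∈ Subgroup.center T, α z = z) :
    (Subgroup.center S').map S'.subtype ≤ Subgroup.center R := by
  have : S'.Normal := Subgroup.normal_of_index_eq_two hidx
  obtain ⟨r, hr⟩ : ∃ r : R, r ∉ S' := by
    by_contra hno
    push Not at hno
    have : S' = ⊤ := (Subgroup.eq_top_iff' S').mpr hno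
    rw [this, Subgroup.index_top] at hidx
    omega
  have hr2 : r * r ∈ S' := by
    rw [Subgroup.mul_mem_iff_of_index_two hidx]
  let α₀ : S' ≃* S' := MulAut.conjNormal r
  have hα₀ : ∀ y : S', ((α₀ y : S') : R) = r * y * r⁻¹ := fun y => MulAut.conjNormal_apply r y
  let β : T ≃* T := e.symm.trans (α₀.trans e)
  have hβ : ∀ x, β x = e (α₀ (e.symm x)) := fun x => rfl
  have hββ : ∃ s, ∀ x, β (β x) = s * x * s⁻¹ := by
    refine ⟨e ⟨r * r, hr2⟩, ?_⟩
    intro x
    rw [hβ, hβ, e.symm_apply_apply]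
    have h1 : α₀ (α₀ (e.symm x)) = ⟨r * r, hr2⟩ * e.symm x * (⟨r * r, hr2⟩ : S')⁻¹ := by
      apply Subtype.ext
      rw [hα₀, hα₀]
      simp only [Subgroup.coe_mul, Subgroup.coe_inv]
      group
    rw [h1, map_mul, map_mul, map_inv, e.apply_symm_apply]
  rintro _ ⟨z, hz, rfl⟩
  have hz : z ∈ Subgroup.center S' := hz
  have hze : e z ∈ Subgroup.center T := by
    rw [Subgroup.mem_center_iff] at hz ⊢
    intro y
    have := congrArg e (hz (e.symm y))
    simpa using this
  have h1 := hT β hββ (e z) hze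
  rw [hβ, e.symm_apply_apply] at h1
  have h3 : α₀ z = z := e.injective h1
  have h4 : r * (z : R) * r⁻¹ = z := by rw [← hα₀, h3]
  have hrz : r * (z : R) = z * r := by
    calc r * (z : R) = r * z * r⁻¹ * r := by group
      _ = z * r := by rw [h4]
  rw [Subgroup.mem_center_iff]
  intro x
  change x * (z : R) = (z : R) * x
  have hS : ∀ y : R, y ∈ S' → y * (z : R) = z * y := by
    intro y hy
    have := (Subgroup.mem_center_iff.mp hz) ⟨y, hy⟩
    exact congrArg Subtype.val this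
  by_cases hx : x ∈ S'
  · exact hS x hx
  · have hxr : x * r⁻¹ ∈ S' := by
      rw [Subgroup.mul_mem_iff_of_index_two hidx, inv_mem_iff]
      exact iff_of_false hx hr
    have h5 := hS _ hxr
    calc x * (z : R) = (x * r⁻¹) * (r * z) := by group
      _ = (x * r⁻¹) * (z * r) := by rw [hrz]
      _ = ((x * r⁻¹) * z) * r := by group
      _ = (z * (x * r⁻¹)) * r := by rw [h5]
      _ = z * x := by group

end reduction

section final
variable {F : Type*} [Field F] [Fintype F]

theorem card_SU3 {n : ℕ} (hF : Fintype.card F = (2 ^ n) ^ 2) :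
    Nat.card (Cfsg.SU 3 F (2 ^ n)) =
      (2 ^ n) ^ 3 * (((2 ^ n) ^ 2 - 1) * ((2 ^ n) ^ 3 + 1)) := by
  have h3 := card_SU_mul hF (by omega : 1 ≤ 3)
  rw [card_GU hF 3] at h3
  simp [Finset.prod_range_succ] at h3
  have hpos : 0 < 2 ^ n + 1 := by positivity
  apply Nat.eq_of_mul_eq_mul_left hpos
  rw [h3]
  ring

theorem finite_SU3 (n : ℕ) : Finite (Cfsg.SU 3 F (2 ^ n)) := by
  have hSL : Finite (Matrix.SpecialLinearGroup (Fin 3) F) := by
    unfold Matrix.SpecialLinearGroup; infer_instance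
  infer_instance

theorem sylow_card_SU {n : ℕ} (hn : 1 ≤ n) (hF : Fintype.card F = (2 ^ n) ^ 2)
    (Q : Sylow 2 (Cfsg.SU 3 F (2 ^ n))) : Nat.card Q = (2 ^ n) ^ 3 := by
  have : Fact (Nat.Prime 2) := ⟨Nat.prime_two⟩
  have hcard := card_SU3 hF
  have hq2 : 2 ∣ 2 ^ n := dvd_pow_self 2 (by omega)
  have hqpos : 0 < 2 ^ n := by positivity
  have hfin : Finite (Cfsg.SU 3 F (2 ^ n)) := finite_SU3 n
  obtain ⟨k, hk⟩ := IsPGroup.iff_card.mp Q.isPGroup'
  have hidx : ¬ 2 ∣ (Q : Subgroup (Cfsg.SU 3 F (2 ^ n))).index := Q.not_dvd_index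
  have hmul : Nat.card Q * (Q : Subgroup (Cfsg.SU 3 F (2 ^ n))).index =
      Nat.card (Cfsg.SU 3 F (2 ^ n)) := Subgroup.card_mul_index _
  rw [hk] at hmul ⊢
  have hv : ¬ 2 ∣ ((2 ^ n) ^ 2 - 1) * ((2 ^ n) ^ 3 + 1) := by
    have h1 : 2 ∣ (2 ^ n) ^ 2 := dvd_pow hq2 (by norm_num)
    have h3 : 2 ∣ (2 ^ n) ^ 3 := dvd_pow hq2 (by norm_num)
    have h4 : 1 ≤ (2 ^ n) ^ 2 := Nat.one_le_pow _ _ hqpos
    intro h
    rcases (Nat.Prime.dvd_mul Nat.prime_two).mp h with h | h <;> omega
  have heq : 2 ^ k * (Q : Subgroup (Cfsg.SU 3 F (2 ^ n))).index =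
      2 ^ (n * 3) * (((2 ^ n) ^ 2 - 1) * ((2 ^ n) ^ 3 + 1)) := by
    rw [hmul, hcard, pow_mul]
  rw [two_adic heq hidx hv, pow_mul]

/-- Let S be a Sylow 2-subgroup of SU₃(2ⁿ), n ≥ 2 (realised over the field with 4ⁿ elements). If a finite 2-group R contains a subgroup S' of index 2 isomorphic to S, then the centre of S' is contained in the centre of R. -/
theorem result {R : Type*} [Group R] [Finite R]
    (hR : IsPGroup 2 R) (n : ℕ) (hn : 2 ≤ n) {F : Type*} [Field F] [Fintype F] (hF : Fintype.card F = 4 ^ n)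
    (P : Sylow 2 ↥(Cfsg.SU 3 F (2 ^ n))) (S' : Subgroup R) (hS : Nonempty (↥S' ≃* ↥(P : Subgroup ↥(Cfsg.SU 3 F (2 ^ n)))))
    (hidx : S'.index = 2) :
    (Subgroup.center ↥S').map S'.subtype ≤ Subgroup.center R := by
  have : Fact (Nat.Prime 2) := ⟨Nat.prime_two⟩
  have hF' : Fintype.card F = (2 ^ n) ^ 2 := by
    rw [hF, ← pow_mul, mul_comm, pow_mul]; norm_num
  have h2 := two_eq_zero hF'
  obtain ⟨t, ht⟩ := exists_theta hF' h2
  have hn1 : 1 ≤ n := by omega
  have hfin : Finite (Cfsg.SU 3 F (2 ^ n)) := finite_SU3 n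
  have hinj := Phi_injective hF' h2 t ht
  let e₁ := MonoidHom.ofInjective hinj
  have hRc : Nat.card (Phi hF' h2 t ht).range = (2 ^ n) ^ 3 := by
    rw [← Nat.card_congr e₁.toEquiv]; exact card_par
  have hR2 : IsPGroup 2 (Phi hF' h2 t ht).range :=
    IsPGroup.of_card (n := n * 3) (by rw [hRc, pow_mul])
  obtain ⟨Q, hQ⟩ := hR2.exists_le_sylow
  have hRQ : (Phi hF' h2 t ht).range = (Q : Subgroup (Cfsg.SU 3 F (2 ^ n))) :=
    Subgroup.eq_of_le_of_card_ge hQ (by rw [sylow_card_SU hn1 hF' Q, hRc])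
  let e₂ := MulEquiv.subgroupCongr hRQ
  let e₃ := Sylow.equiv Q P
  obtain ⟨e₀⟩ := hS
  let e : S' ≃* Par hF' h2 := e₀.trans (e₁.trans (e₂.trans e₃)).symm
  exact index_two_center S' hidx e
    (fun α hα z hz => aut_center α hα z ((mem_center_iff z).mp hz))

end final

end Cfsg.Agent.S3315
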