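import Cfsg.Statements.S3349
-- import your own Cfsg.Agent.* helpers here

set_option autoImplicit false
open Cfsg
open scoped commutatorElement

namespace Cfsg.Agent.S3349

/-- A maximal abelian subgroup is self-centralizing. -/
theorem centralizer_le_of_max {Q : Type*} [Group Q]
    (A : Subgroup Q) (hA : IsMulCommutative A)
    (hmax : ∀ B : Subgroup Q, A ≤ B → IsMulCommutative B → B = A) :
    Subgroup.centralizer (A : Set Q) ≤ A := by
  intro x hx
  have hcomm : ∀ u ∈ insert x (A : Set Q), ∀ v ∈ insert x (A : Set Q), u * v = v * u := by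
    intro u hu v hv
    rcases hu with rfl | hu <;> rcases hv with rfl | hv
    · rfl
    · exact (hx v hv).symm
    · exact (hx u hu)
    · exact setLike_mul_comm hu hv
  have hB := Subgroup.isMulCommutative_closure hcomm
  have hle : A ≤ Subgroup.closure (insert x (A : Set Q)) := by
    intro a ha
    exact Subgroup.subset_closure (Set.mem_insert_of_mem _ ha)
  have := hmax _ hle hB
  rw [← this]
  exact Subgroup.subset_closure (Set.mem_insert _ _)

theorem pow_apply_eq {Q : Type*} [Group Q] (α : MulAut Q) (x c : Q) (hx : α x = x * c) (hc : α c = c)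
    (k : ℕ) : (α ^ k) x = x * c ^ k := by
  induction k with
  | zero => simp
  | succ k ih =>
    rw [pow_succ', MulAut.mul_apply, ih, map_mul, map_pow, hx, hc, pow_succ', mul_assoc]

/-- Let Q be a finite extraspecial p-group and α an automorphism of Q fixing every element of some maximal abelian subgroup of Q. Then the order of α is a power of p. -/
theorem result {Q : Type*} [Group Q] [Finite Q]
    (p : ℕ) [Fact p.Prime] (hQ : Cfsg.IsExtraspecial p Q) (α : MulAut Q)
    (A : Subgroup Q) (hA : IsMulCommutative A) (hmax : ∀ B : Subgroup Q, A ≤ B → IsMulCommutative B → B = A)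
    (hfix : ∀ a ∈ A, α a = a) :
    ∃ k : ℕ, orderOf α = p ^ k := by
  obtain ⟨⟨hp, -, hcomm⟩, -⟩ := hQ
  have hCA := centralizer_le_of_max A hA hmax
  have hZA : Subgroup.center Q ≤ A := fun z hz =>
    hCA (Subgroup.center_le_centralizer _ hz)
  -- every x is moved by an element of A
  have hc : ∀ x : Q, x⁻¹ * α x ∈ A := by
    intro x
    apply hCA
    intro a ha
    have h1 : ⁅x, a⁆ ∈ A := by
      apply hZA
      rw [← hcomm]
      exact Subgroup.commutator_mem_commutator (Subgroup.mem_top x) (Subgroup.mem_top a)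
    have h2 := hfix _ h1
    rw [commutatorElement_def, map_mul, map_mul, map_mul, map_inv, map_inv, hfix a ha] at h2
    -- h2 : α x * a * (α x)⁻¹ * a⁻¹ = x * a * x⁻¹ * a⁻¹
    have h3 : α x * a * (α x)⁻¹ = x * a * x⁻¹ := by
      have := congrArg (· * a) h2
      simpa using this
    calc a * (x⁻¹ * α x) = x⁻¹ * (x * a * x⁻¹) * α x := by group
      _ = x⁻¹ * (α x * a * (α x)⁻¹) * α x := by rw [h3]
      _ = x⁻¹ * α x * a := by group
  have hpow : α ^ (Nat.card A) = 1 := by
    ext x
    have hx : α x = x * (x⁻¹ * α x) := by group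
    rw [pow_apply_eq α x (x⁻¹ * α x) hx (hfix _ (hc x))]
    have : (x⁻¹ * α x) ^ Nat.card A = 1 := by
      have := pow_card_eq_one' (G := A) (x := ⟨_, hc x⟩)
      exact congrArg Subtype.val this
    rw [this]; simp
  have hdvd : orderOf α ∣ Nat.card A := orderOf_dvd_of_pow_eq_one hpow
  obtain ⟨n, hn⟩ := IsPGroup.exists_card_eq (hp.to_subgroup A)
  rw [hn] at hdvd
  obtain ⟨k, -, hk⟩ := (Nat.dvd_prime_pow (Fact.out : p.Prime)).1 hdvd
  exact ⟨k, hk⟩

end Cfsg.Agent.S3349
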