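import Cfsg.Statements.S3356
-- import your own Cfsg.Agent.* helpers here

set_option autoImplicit false
open Cfsg

namespace Cfsg.Agent.S3356

section general

variable {G : Type*} [Group G] [Finite G]

/-- `B A x`: the elements of `A` commuting with `x` -/
def B (A : Subgroup G) (x : G) : Subgroup G := A ⊓ Subgroup.centralizer {x}

lemma mem_B {A : Subgroup G} {x g : G} : g ∈ B A x ↔ g ∈ A ∧ g * x = x * g := by
  unfold B
  rw [Subgroup.mem_inf, Subgroup.mem_centralizer_singleton_iff]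

lemma B_le (A : Subgroup G) (x : G) : B A x ≤ A := inf_le_left

/-- counting a conjugation-invariant set by orbits, all of whose point stabilizers have order `b` -/
lemma orbit_count (D : Subgroup G) (Y : Set G) (hY : ∀ δ ∈ D, ∀ y ∈ Y, δ * y * δ⁻¹ ∈ Y)
    (b : ℕ) (hb : ∀ y ∈ Y, Nat.card (B D y) = b) : ∃ t : ℕ, Y.ncard * b = t * Nat.card D := by
  classical
  letI : MulAction D Y :=
    { smul := fun δ y => ⟨(δ : G) * y * (δ : G)⁻¹, hY δ δ.2 y y.2⟩
      one_smul := by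
        intro y
        apply Subtype.ext
        show ((1 : D) : G) * y * ((1 : D) : G)⁻¹ = y
        simp
      mul_smul := by
        intro δ₁ δ₂ y
        apply Subtype.ext
        show ((δ₁ * δ₂ : D) : G) * y * ((δ₁ * δ₂ : D) : G)⁻¹ =
          (δ₁ : G) * ((δ₂ : G) * y * (δ₂ : G)⁻¹) * (δ₁ : G)⁻¹
        simp [mul_assoc] }
  have hsmul : ∀ (δ : D) (y : Y), ((δ • y : Y) : G) = (δ : G) * y * (δ : G)⁻¹ := fun _ _ => rfl
  have hstab : ∀ y : Y, Nat.card (MulAction.stabilizer D y) = b := by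
    intro y
    have hmap : (MulAction.stabilizer D y).map D.subtype = B D (y : G) := by
      ext g
      rw [Subgroup.mem_map, mem_B]
      constructor
      · rintro ⟨δ, hδ, rfl⟩
        refine ⟨δ.2, ?_⟩
        have h1 : δ • y = y := hδ
        have h2 := congrArg Subtype.val h1
        rw [hsmul] at h2
        show (δ : G) * y = y * (δ : G)
        have : (δ : G) * y = (δ : G) * y * (δ : G)⁻¹ * δ := by group
        rw [this, h2]
      · rintro ⟨hg, hgy⟩
        refine ⟨⟨g, hg⟩, ?_, rfl⟩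
        show (⟨g, hg⟩ : D) • y = y
        apply Subtype.ext
        rw [hsmul]
        show g * y * g⁻¹ = y
        rw [hgy]; group
    rw [← hb y y.2, ← hmap, Subgroup.card_map_of_injective D.subtype_injective]
  have e := MulAction.selfEquivSigmaOrbitsQuotientStabilizer D Y
  have : Finite Y := Set.toFinite Y |>.to_subtype
  haveI : Fintype (Quotient (MulAction.orbitRel D Y)) := Fintype.ofFinite _
  refine ⟨Fintype.card (Quotient (MulAction.orbitRel D Y)), ?_⟩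
  rw [← Nat.card_coe_set_eq, Nat.card_congr e, Nat.card_sigma, Finset.sum_mul]
  have h1 : ∀ ω : Quotient (MulAction.orbitRel D Y),
      Nat.card (D ⧸ MulAction.stabilizer D ω.out) * b = Nat.card D := by
    intro ω
    rw [← hstab ω.out]
    exact (Subgroup.card_eq_card_quotient_mul_card_subgroup _).symm
  rw [Finset.sum_congr rfl (fun ω _ => h1 ω), Finset.sum_const, Finset.card_univ, smul_eq_mul]

/-- the block lemma: equal stabilizer orders, block property and coprimality force equal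
stabilizers -/
lemma block_lemma (A : Subgroup G) (Y : Set G)
    (hblock : ∀ α ∈ A, ∀ y₀ ∈ Y, α * y₀ * α⁻¹ ∈ Y → ∀ y ∈ Y, α * y * α⁻¹ ∈ Y)
    (b m : ℕ) (hb : ∀ y ∈ Y, Nat.card (B A y) = b) (hm : Nat.card A = m * b)
    (hcop : Nat.Coprime Y.ncard m) : ∀ y ∈ Y, ∀ y' ∈ Y, B A y = B A y' := by
  intro y₁ hy₁
  -- the setwise stabilizer
  let D : Subgroup G :=
    { carrier := {δ | δ ∈ A ∧ ∀ y, y ∈ Y ↔ δ * y * δ⁻¹ ∈ Y}
      one_mem' := ⟨A.one_mem, fun y => by simp⟩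
      mul_mem' := by
        rintro δ₁ δ₂ ⟨h1, h1'⟩ ⟨h2, h2'⟩
        refine ⟨A.mul_mem h1 h2, fun y => ?_⟩
        rw [h2' y, h1' (δ₂ * y * δ₂⁻¹)]
        have : δ₁ * (δ₂ * y * δ₂⁻¹) * δ₁⁻¹ = δ₁ * δ₂ * y * (δ₁ * δ₂)⁻¹ := by group
        rw [this]
      inv_mem' := by
        rintro δ ⟨h1, h1'⟩
        refine ⟨A.inv_mem h1, fun y => ?_⟩
        rw [h1' (δ⁻¹ * y * δ⁻¹⁻¹)]
        have : δ * (δ⁻¹ * y * δ⁻¹⁻¹) * δ⁻¹ = y := by group
        rw [this] }
  have hDmem : ∀ δ, δ ∈ D ↔ δ ∈ A ∧ ∀ y, y ∈ Y ↔ δ * y * δ⁻¹ ∈ Y := fun δ => Iff.rfl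
  have hDA : D ≤ A := fun δ hδ => hδ.1
  have hBD : ∀ y ∈ Y, B A y ≤ D := by
    intro y hy β hβ
    rw [mem_B] at hβ
    obtain ⟨hβA, hβy⟩ := hβ
    have e1 : β * y * β⁻¹ = y := by rw [hβy]; group
    have e2 : β⁻¹ * y * β⁻¹⁻¹ = y := by
      have : β⁻¹ * y * β⁻¹⁻¹ = β⁻¹ * (β * y * β⁻¹) * β := by rw [e1]; group
      rw [this]; group
    refine ⟨hβA, fun y' => ⟨fun hy' => hblock β hβA y hy (by rw [e1]; exact hy) y' hy', fun hy' => ?_⟩⟩
    have := hblock β⁻¹ (A.inv_mem hβA) y hy (by rw [e2]; exact hy) _ hy'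
    have e3 : β⁻¹ * (β * y' * β⁻¹) * β⁻¹⁻¹ = y' := by group
    rwa [e3] at this
  have hBeq : ∀ y ∈ Y, B D y = B A y := by
    intro y hy
    apply le_antisymm
    · intro g hg
      rw [mem_B] at hg ⊢
      exact ⟨hDA hg.1, hg.2⟩
    · intro g hg
      rw [mem_B]
      exact ⟨hBD y hy hg, (mem_B.mp hg).2⟩
  obtain ⟨t, ht⟩ := orbit_count D Y (fun δ hδ y hy => (hδ.2 y).mp hy) b
    (fun y hy => by rw [hBeq y hy]; exact hb y hy)
  have hbpos : 0 < b := by rw [← hb y₁ hy₁]; exact Nat.card_pos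
  obtain ⟨s, hs⟩ : b ∣ Nat.card D := by
    rw [← hb y₁ hy₁]; exact Subgroup.card_dvd_of_le (hBD y₁ hy₁)
  obtain ⟨c, hc⟩ : Nat.card D ∣ Nat.card A := Subgroup.card_dvd_of_le hDA
  have hs1 : s ∣ Y.ncard := by
    refine ⟨t, ?_⟩
    have : Y.ncard * b = (s * t) * b := by rw [ht, hs]; ring
    exact Nat.eq_of_mul_eq_mul_right hbpos this
  have hs2 : s ∣ m := by
    refine ⟨c, ?_⟩
    have : m * b = (s * c) * b := by rw [← hm, hc, hs]; ring
    exact Nat.eq_of_mul_eq_mul_right hbpos this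
  have hs3 : s = 1 := Nat.eq_one_of_dvd_coprimes hcop hs1 hs2
  have hDb : Nat.card D = b := by rw [hs, hs3, mul_one]
  have hfin : ∀ y ∈ Y, B A y = D := by
    intro y hy
    exact Subgroup.eq_of_le_of_card_ge (hBD y hy) (by rw [hDb, hb y hy])
  intro y' hy'
  rw [hfin y₁ hy₁, hfin y' hy']

/-- the size of an `N`-class divides the order of `N` -/
lemma class_card_dvd (N : Subgroup G) (x : G) (hx : x ∈ N) :
    ({y | ∃ n ∈ N, y = n * x * n⁻¹} : Set G).ncard ∣ Nat.card N := by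
  classical
  have h1 : (MulAction.orbit (ConjAct N) (⟨x, hx⟩ : N)).ncard ∣ Nat.card N := by
    rw [← MulAction.index_stabilizer]
    exact Subgroup.index_dvd_card (MulAction.stabilizer (ConjAct N) (⟨x, hx⟩ : N))
  have h2 : ({y | ∃ n ∈ N, y = n * x * n⁻¹} : Set G) =
      Subtype.val '' (MulAction.orbit (ConjAct N) (⟨x, hx⟩ : N)) := by
    ext y
    simp only [Set.mem_ofPred_eq, Set.mem_image]
    constructor
    · rintro ⟨n, hn, rfl⟩
      refine ⟨⟨n * x * n⁻¹, N.mul_mem (N.mul_mem hn hx) (N.inv_mem hn)⟩, ?_, rfl⟩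
      rw [ConjAct.mem_orbit_conjAct, isConj_comm, isConj_iff]
      exact ⟨⟨n, hn⟩, rfl⟩
    · rintro ⟨y', hy', rfl⟩
      rw [ConjAct.mem_orbit_conjAct, isConj_comm, isConj_iff] at hy'
      obtain ⟨c, hc⟩ := hy'
      refine ⟨c, c.2, ?_⟩
      rw [← hc]
      rfl
  rw [h2, Set.ncard_image_of_injective _ Subtype.val_injective]
  exact h1

lemma mem_B_mul {A : Subgroup G} {x y g : G} (hx : g ∈ B A x) (hy : g ∈ B A y) :
    g ∈ B A (x * y) := by
  rw [mem_B] at hx hy ⊢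
  refine ⟨hx.1, ?_⟩
  rw [← mul_assoc, hx.2, mul_assoc, hy.2, mul_assoc]

lemma mem_B_inv {A : Subgroup G} {x g : G} (hx : g ∈ B A x) : g ∈ B A x⁻¹ := by
  rw [mem_B] at hx ⊢
  refine ⟨hx.1, ?_⟩
  have : g * x⁻¹ = x⁻¹ * (x * g) * x⁻¹ := by group
  rw [this, ← hx.2]; group

lemma mem_B_pow {A : Subgroup G} {x g : G} (hx : g ∈ B A x) (k : ℕ) : g ∈ B A (x ^ k) := by
  rw [mem_B] at hx ⊢
  exact ⟨hx.1, ((show Commute g x from hx.2).pow_right k).eq⟩

lemma B_inv (A : Subgroup G) (x : G) : B A x⁻¹ = B A x := by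
  apply le_antisymm
  · intro g hg
    have := mem_B_inv hg
    rwa [inv_inv] at this
  · intro g hg
    exact mem_B_inv hg

theorem core (N A : Subgroup G) [hN : N.Normal] (b : ℕ) (hb1 : 1 < b)
    (hb : ∀ x ∈ N, x ≠ 1 → Nat.card (B A x) = b)
    (hfaith : ∀ β ∈ A, (∀ n ∈ N, β * n = n * β) → β = 1)
    (x₀ : G) (hx₀ : x₀ ∈ N) (hx₀1 : x₀ ≠ 1) :
    (∃ p : ℕ, p.Prime ∧ (∀ x ∈ N, ∀ y ∈ N, x * y = y * x) ∧ ∀ x ∈ N, x ^ p = 1) ∧
    (∀ M₀ : Subgroup G, M₀ ≤ N → (∀ α ∈ A, ∀ u ∈ M₀, α * u * α⁻¹ ∈ M₀) → M₀ ≠ ⊥ → M₀ = N) := by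
  classical
  have hbpos : 0 < b := by omega
  obtain ⟨m, hm⟩ : b ∣ Nat.card A := by
    rw [← hb x₀ hx₀ hx₀1]; exact Subgroup.card_dvd_of_le (B_le A x₀)
  rw [mul_comm] at hm
  -- counting invariant subgroups
  have hcount : ∀ M₀ : Subgroup G, M₀ ≤ N → (∀ α ∈ A, ∀ u ∈ M₀, α * u * α⁻¹ ∈ M₀) →
      Nat.Coprime (Nat.card M₀) m := by
    intro M₀ hM₀ hinv
    obtain ⟨t, ht⟩ := orbit_count A {u | u ∈ M₀ ∧ u ≠ 1}
      (fun α hα u hu => ⟨hinv α hα u hu.1, fun h => hu.2 (by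
        have : u = α⁻¹ * (α * u * α⁻¹) * α := by group
        rw [this, h]; group)⟩) b (fun u hu => hb u (hM₀ hu.1) hu.2)
    have h1 : ({u | u ∈ M₀ ∧ u ≠ 1} : Set G) = (M₀ : Set G) \ {1} := by
      ext u; simp
    have h2 : ({u | u ∈ M₀ ∧ u ≠ 1} : Set G).ncard = Nat.card M₀ - 1 := by
      rw [h1, Set.ncard_diff_singleton_of_mem M₀.one_mem]
      congr 1
    have h3 : Nat.card M₀ - 1 = t * m := by
      have : (Nat.card M₀ - 1) * b = (t * m) * b := by rw [← h2, ht, hm]; ring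
      exact Nat.eq_of_mul_eq_mul_right hbpos this
    have h4 : 0 < Nat.card M₀ := Nat.card_pos
    have h5 : Nat.card M₀ = t * m + 1 := by omega
    rw [h5]
    apply Nat.Coprime.symm
    have hg : Nat.gcd m (t * m + 1) ∣ 1 := by
      have g1 : Nat.gcd m (t * m + 1) ∣ t * m + 1 := Nat.gcd_dvd_right _ _
      have g2 : Nat.gcd m (t * m + 1) ∣ t * m := Dvd.dvd.mul_left (Nat.gcd_dvd_left _ _) t
      exact (Nat.dvd_add_right g2).mp g1
    exact Nat.dvd_one.mp hg
  have hcopN : Nat.Coprime (Nat.card N) m :=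
    hcount N le_rfl (fun α _ u hu => hN.conj_mem u hu α)
  have hle : ∀ x ∈ N, x ≠ 1 → ∀ y ∈ N, y ≠ 1 → B A x ≤ B A y → B A x = B A y := by
    intro x hx hx1 y hy hy1 h
    exact Subgroup.eq_of_le_of_card_ge h (by rw [hb x hx hx1, hb y hy hy1])
  -- stabilizers are constant on `N`-classes
  have hconjB : ∀ x ∈ N, x ≠ 1 → ∀ n ∈ N, B A (n * x * n⁻¹) = B A x := by
    intro x hx hx1 n hn
    have hcop : Nat.Coprime ({y | ∃ n ∈ N, y = n * x * n⁻¹} : Set G).ncard m :=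
      Nat.Coprime.coprime_dvd_left (class_card_dvd N x hx) hcopN
    have hYN : ∀ y ∈ ({y | ∃ n ∈ N, y = n * x * n⁻¹} : Set G), y ∈ N ∧ y ≠ 1 := by
      rintro y ⟨n, hn, rfl⟩
      refine ⟨hN.conj_mem x hx n, fun h => hx1 ?_⟩
      have : x = n⁻¹ * (n * x * n⁻¹) * n := by group
      rw [this, h]; group
    have := block_lemma A {y | ∃ n ∈ N, y = n * x * n⁻¹} (by
      rintro α hα y₀ ⟨n₀, hn₀, rfl⟩ ⟨n₁, hn₁, h⟩ y ⟨n, hn, rfl⟩
      refine ⟨α * (n * n₀⁻¹) * α⁻¹ * n₁,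
        N.mul_mem (hN.conj_mem _ (N.mul_mem hn (N.inv_mem hn₀)) α) hn₁, ?_⟩
      have e : α * (n * n₀⁻¹) * α⁻¹ * n₁ * x * (α * (n * n₀⁻¹) * α⁻¹ * n₁)⁻¹ =
          (α * (n * n₀⁻¹) * α⁻¹) * (n₁ * x * n₁⁻¹) * (α * (n * n₀⁻¹) * α⁻¹)⁻¹ := by group
      rw [e, ← h]; group) b m (fun y hy => hb y (hYN y hy).1 (hYN y hy).2) hm hcop
      (n * x * n⁻¹) ⟨n, hn, rfl⟩ x ⟨1, N.one_mem, by group⟩
    exact this
  -- existence of a different stabilizer
  have hex : ∀ x ∈ N, x ≠ 1 → ∃ u ∈ N, u ≠ 1 ∧ B A u ≠ B A x := by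
    intro x hx hx1
    by_contra hcon
    push Not at hcon
    have : B A x = ⊥ := by
      rw [Subgroup.eq_bot_iff_forall]
      intro β hβ
      apply hfaith β (B_le A x hβ)
      intro n hn
      by_cases hn1 : n = 1
      · rw [hn1, mul_one, one_mul]
      · have : β ∈ B A n := by rw [hcon n hn hn1]; exact hβ
        exact (mem_B.mp this).2
    have h1 := hb x hx hx1
    rw [this, Subgroup.card_bot] at h1
    omega
  have comm1 : ∀ x ∈ N, x ≠ 1 → ∀ y ∈ N, y ≠ 1 → B A x ≠ B A y → x * y = y * x := by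
    intro x hx hx1 y hy hy1 hxy
    by_contra hne
    have hw1 : x * y * x⁻¹ * y⁻¹ ≠ 1 := by
      intro h
      apply hne
      have : x * y = (x * y * x⁻¹ * y⁻¹) * (y * x) := by group
      rw [this, h, one_mul]
    have hwN : x * y * x⁻¹ * y⁻¹ ∈ N :=
      N.mul_mem (N.mul_mem (N.mul_mem hx hy) (N.inv_mem hx)) (N.inv_mem hy)
    have e1 : B A x = B A (x * y * x⁻¹ * y⁻¹) := by
      apply hle x hx hx1 _ hwN hw1
      intro β hβ
      have h1 : β ∈ B A (y * x⁻¹ * y⁻¹) := by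
        rw [hconjB x⁻¹ (N.inv_mem hx) (inv_ne_one.mpr hx1) y hy, B_inv]; exact hβ
      have := mem_B_mul hβ h1
      have e : x * (y * x⁻¹ * y⁻¹) = x * y * x⁻¹ * y⁻¹ := by group
      rwa [e] at this
    have e2 : B A y = B A (x * y * x⁻¹ * y⁻¹) := by
      apply hle y hy hy1 _ hwN hw1
      intro β hβ
      have h1 : β ∈ B A (x * y * x⁻¹) := by
        rw [hconjB y hy hy1 x hx]; exact hβ
      exact mem_B_mul h1 (mem_B_inv hβ)
    exact hxy (e1.trans e2.symm)
  have comm2 : ∀ x ∈ N, ∀ y ∈ N, x * y = y * x := by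
    intro x hx y hy
    by_cases hx1 : x = 1
    · rw [hx1, one_mul, mul_one]
    by_cases hy1 : y = 1
    · rw [hy1, one_mul, mul_one]
    by_cases hxy : B A x = B A y
    · obtain ⟨u, hu, hu1, hux⟩ := hex x hx hx1
      have hxu1 : x * u ≠ 1 := by
        intro h
        apply hux
        have : u = x⁻¹ := eq_inv_of_mul_eq_one_right h
        rw [this, B_inv]
      have hxuN : x * u ∈ N := N.mul_mem hx hu
      have hxu : B A (x * u) ≠ B A x := by
        intro h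
        apply hux
        symm
        apply hle x hx hx1 u hu hu1
        intro β hβ
        have h1 : β ∈ B A (x * u) := by rw [h]; exact hβ
        have := mem_B_mul (mem_B_inv hβ) h1
        rwa [inv_mul_cancel_left] at this
      have c1 : y * (x * u) = (x * u) * y :=
        comm1 y hy hy1 (x * u) hxuN hxu1 (fun h => hxu (h.symm.trans hxy.symm))
      have c2 : y * u = u * y := comm1 y hy hy1 u hu hu1 (fun h => hux (h.symm.trans hxy.symm))
      symm
      calc y * x = y * (x * u) * u⁻¹ := by group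
        _ = (x * u) * y * u⁻¹ := by rw [c1]
        _ = x * (u * y) * u⁻¹ := by group
        _ = x * (y * u) * u⁻¹ := by rw [c2]
        _ = x * y := by group
    · exact comm1 x hx hx1 y hy hy1 hxy
  have ord1 : ∀ x ∈ N, x ≠ 1 → ∀ y ∈ N, y ≠ 1 → B A x ≠ B A y → y ^ orderOf x = 1 := by
    intro x hx hx1 y hy hy1 hxy
    by_contra hyk
    have hxy1 : x * y ≠ 1 := by
      intro h
      apply hxy
      have : y = x⁻¹ := eq_inv_of_mul_eq_one_right h
      rw [this, B_inv]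
    have hpow : (x * y) ^ orderOf x = y ^ orderOf x := by
      rw [(show Commute x y from comm2 x hx y hy).mul_pow, pow_orderOf_eq_one, one_mul]
    have hykN : y ^ orderOf x ∈ N := N.pow_mem hy _
    have e1 : B A y = B A (y ^ orderOf x) :=
      hle y hy hy1 _ hykN hyk (fun β hβ => mem_B_pow hβ _)
    have e2 : B A (x * y) = B A (y ^ orderOf x) := by
      apply hle (x * y) (N.mul_mem hx hy) hxy1 _ hykN hyk
      intro β hβ
      have := mem_B_pow hβ (orderOf x)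
      rwa [hpow] at this
    apply hxy
    symm
    apply hle y hy hy1 x hx hx1
    intro β hβ
    have h1 : β ∈ B A (x * y) := by rw [e2, ← e1]; exact hβ
    have := mem_B_mul h1 (mem_B_inv hβ)
    rwa [mul_inv_cancel_right] at this
  have ord2 : ∀ x ∈ N, x ≠ 1 → ∀ y ∈ N, y ≠ 1 → B A x ≠ B A y → orderOf x = orderOf y := by
    intro x hx hx1 y hy hy1 hxy
    exact Nat.dvd_antisymm
      (orderOf_dvd_of_pow_eq_one (ord1 y hy hy1 x hx hx1 (fun h => hxy h.symm)))
      (orderOf_dvd_of_pow_eq_one (ord1 x hx hx1 y hy hy1 hxy))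
  have ord3 : ∀ x ∈ N, x ≠ 1 → ∀ y ∈ N, y ≠ 1 → orderOf x = orderOf y := by
    intro x hx hx1 y hy hy1
    by_cases hxy : B A x = B A y
    · obtain ⟨u, hu, hu1, hux⟩ := hex x hx hx1
      rw [ord2 x hx hx1 u hu hu1 (fun h => hux h.symm),
        ord2 y hy hy1 u hu hu1 (fun h => hux (h.symm.trans hxy.symm))]
    · exact ord2 x hx hx1 y hy hy1 hxy
  refine ⟨?_, ?_⟩
  · -- the prime
    have hn0 : orderOf x₀ ≠ 0 := (orderOf_pos x₀).ne'
    have hn1 : orderOf x₀ ≠ 1 := fun h => hx₀1 (orderOf_eq_one_iff.mp h)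
    have hp : (orderOf x₀).minFac.Prime := Nat.minFac_prime hn1
    obtain ⟨k, hk⟩ := Nat.minFac_dvd (orderOf x₀)
    have hk0 : k ≠ 0 := by
      rintro rfl
      rw [mul_zero] at hk
      exact hn0 hk
    have ho : orderOf (x₀ ^ k) = (orderOf x₀).minFac := by
      rw [orderOf_pow_of_dvd hk0 ⟨_, by rw [hk]; ring⟩]
      conv_lhs => rw [hk]
      exact Nat.mul_div_cancel _ (Nat.pos_of_ne_zero hk0)
    have hxk1 : x₀ ^ k ≠ 1 := by
      intro h
      rw [h, orderOf_one] at ho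
      exact hp.one_lt.ne ho
    have hall : ∀ x ∈ N, x ^ (orderOf x₀).minFac = 1 := by
      intro x hx
      by_cases hx1 : x = 1
      · rw [hx1, one_pow]
      · rw [← ho, ord3 (x₀ ^ k) (N.pow_mem hx₀ k) hxk1 x hx hx1]
        exact pow_orderOf_eq_one x
    exact ⟨_, hp, comm2, hall⟩
  · -- minimality
    intro M₀ hM₀ hinv hM₀bot
    by_contra hne
    obtain ⟨y, hyN, hyM⟩ : ∃ y ∈ N, y ∉ M₀ := by
      by_contra h
      push Not at h
      exact hne (le_antisymm hM₀ h)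
    obtain ⟨u₁, hu₁, hu₁1⟩ : ∃ u ∈ M₀, u ≠ 1 := by
      by_contra h
      push Not at h
      exact hM₀bot ((Subgroup.eq_bot_iff_forall _).mpr h)
    have hy1 : y ≠ 1 := fun h => hyM (h ▸ M₀.one_mem)
    -- key: for y ∉ M₀, all `B A (y * u)` agree
    have key : ∀ y ∈ N, y ∉ M₀ → ∀ u ∈ M₀, u ≠ 1 → B A y = B A u := by
      intro y hyN hyM u hu hu1
      have hy1 : y ≠ 1 := fun h => hyM (h ▸ M₀.one_mem)
      have hYN : ∀ z ∈ ({z | ∃ u ∈ M₀, z = y * u} : Set G), z ∈ N ∧ z ≠ 1 := by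
        rintro z ⟨u, hu, rfl⟩
        refine ⟨N.mul_mem hyN (hM₀ hu), fun h => hyM ?_⟩
        have : y = u⁻¹ := eq_inv_of_mul_eq_one_left h
        rw [this]; exact M₀.inv_mem hu
      have hcard : ({z | ∃ u ∈ M₀, z = y * u} : Set G).ncard = Nat.card M₀ := by
        have : ({z | ∃ u ∈ M₀, z = y * u} : Set G) = (fun u => y * u) '' (M₀ : Set G) := by
          ext z
          simp only [Set.mem_ofPred_eq, Set.mem_image, SetLike.mem_coe]
          constructor
          · rintro ⟨u, hu, rfl⟩; exact ⟨u, hu, rfl⟩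
          · rintro ⟨u, hu, rfl⟩; exact ⟨u, hu, rfl⟩
        rw [this, Set.ncard_image_of_injective _ (mul_right_injective y)]
        exact Nat.card_coe_set_eq (M₀ : Set G)
      have hcop : Nat.Coprime ({z | ∃ u ∈ M₀, z = y * u} : Set G).ncard m := by
        rw [hcard]; exact hcount M₀ hM₀ hinv
      have hbl := block_lemma A {z | ∃ u ∈ M₀, z = y * u} (by
        rintro α hα z₀ ⟨u₀, hu₀, rfl⟩ ⟨u₁, hu₁, h⟩ z ⟨u, hu, rfl⟩
        refine ⟨u₁ * (α * u₀ * α⁻¹)⁻¹ * (α * u * α⁻¹),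
          M₀.mul_mem (M₀.mul_mem hu₁ (M₀.inv_mem (hinv α hα u₀ hu₀))) (hinv α hα u hu), ?_⟩
        have e : α * (y * u) * α⁻¹ = (α * (y * u₀) * α⁻¹) * (α * u₀ * α⁻¹)⁻¹ * (α * u * α⁻¹) := by
          group
        rw [e, h]; group) b m (fun z hz => hb z (hYN z hz).1 (hYN z hz).2) hm hcop
        y ⟨1, M₀.one_mem, by rw [mul_one]⟩ (y * u) ⟨u, hu, rfl⟩
      apply hle y hyN hy1 u (hM₀ hu) hu1
      intro β hβ
      have h1 : β ∈ B A (y * u) := by rw [← hbl]; exact hβ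
      have := mem_B_mul (mem_B_inv hβ) h1
      rwa [inv_mul_cancel_left] at this
    obtain ⟨v, hv, hv1, hvu⟩ := hex u₁ (hM₀ hu₁) hu₁1
    apply hvu
    by_cases hvM : v ∈ M₀
    · rw [← key y hyN hyM v hvM hv1, key y hyN hyM u₁ hu₁ hu₁1]
    · exact key v hv hvM u₁ hu₁ hu₁1

end general

/-- Let G be a finite 3/2-transitive permutation group: G acts faithfully and transitively on a finite set, the point stabilizers are non-trivial, and for each point a all orbits of G_a on the remaining points have the same size. Suppose G has a regular normal subgroup N and G is not a Frobenius group (some two-point stabilizer is non-trivial). Then N is an elementary abelian p-group for some prime p, and every non-trivial normal subgroup of G contains N (so N is the unique minimal normal subgroup). -/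
theorem result {G Ω : Type*} [Group G] [Finite G]
    [MulAction G Ω] [FaithfulSMul G Ω] [Finite Ω] (htrans : MulAction.IsPretransitive G Ω)
    (hne : ∀ a : Ω, MulAction.stabilizer G a ≠ ⊥)
    (hhalf : ∀ a b c : Ω, b ≠ a → c ≠ a →
      Nat.card (MulAction.orbit (MulAction.stabilizer G a) b) = Nat.card (MulAction.orbit (MulAction.stabilizer G a) c))
    (N : Subgroup G) [hN : N.Normal] (hNt : MulAction.IsPretransitive N Ω) (hNr : ∀ a : Ω, MulAction.stabilizer N a = ⊥)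
    (hnotF : ∃ a b : Ω, a ≠ b ∧ MulAction.stabilizer G a ⊓ MulAction.stabilizer G b ≠ ⊥) :
    (∃ p : ℕ, p.Prime ∧ IsMulCommutative N ∧ ∀ x ∈ N, x ^ p = 1) ∧
    (∀ M : Subgroup G, M.Normal → M ≠ ⊥ → N ≤ M) := by
  classical
  obtain ⟨a, c, hac, hne2⟩ := hnotF
  set A : Subgroup G := MulAction.stabilizer G a with hA
  have hAmem : ∀ g : G, g ∈ A ↔ g • a = a := fun g => MulAction.mem_stabilizer_iff
  have hreg : ∀ n ∈ N, n • a = a → n = 1 := by
    intro n hn h
    have : (⟨n, hn⟩ : N) ∈ MulAction.stabilizer N a := by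
      rw [MulAction.mem_stabilizer_iff]; exact h
    rw [hNr a, Subgroup.mem_bot] at this
    exact congrArg Subtype.val this
  have htr : ∀ ω : Ω, ∃ n ∈ N, n • a = ω := by
    intro ω
    obtain ⟨n, hn⟩ := MulAction.exists_smul_eq N a ω
    exact ⟨n, n.2, hn⟩
  have hBA : ∀ x ∈ N, A ⊓ MulAction.stabilizer G (x • a) = B A x := by
    intro x hx
    ext g
    rw [Subgroup.mem_inf, mem_B]
    constructor
    · rintro ⟨hg, h'⟩
      have h : g • x • a = x • a := MulAction.mem_stabilizer_iff.mp h'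
      refine ⟨hg, ?_⟩
      have hga : g • a = a := (hAmem g).mp hg
      have hga' : g⁻¹ • a = a := by rw [inv_smul_eq_iff, hga]
      have hn : x⁻¹ * (g * x * g⁻¹) ∈ N := N.mul_mem (N.inv_mem hx) (hN.conj_mem x hx g)
      have hfix : (x⁻¹ * (g * x * g⁻¹)) • a = a := by
        rw [mul_smul, mul_smul, mul_smul, hga', h, inv_smul_smul]
      have := hreg _ hn hfix
      have e : g * x = x * (x⁻¹ * (g * x * g⁻¹)) * g := by group
      rw [e, this, mul_one]
    · rintro ⟨hg, hgx⟩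
      refine ⟨hg, ?_⟩
      have hga : g • a = a := (hAmem g).mp hg
      apply MulAction.mem_stabilizer_iff.mpr
      rw [← mul_smul, hgx, mul_smul, hga]
  have hstabcard : ∀ ω : Ω, Nat.card (MulAction.orbit A ω) *
      Nat.card (A ⊓ MulAction.stabilizer G ω : Subgroup G) = Nat.card A := by
    intro ω
    have hmap : (MulAction.stabilizer A ω).map A.subtype = A ⊓ MulAction.stabilizer G ω := by
      ext g
      rw [Subgroup.mem_map, Subgroup.mem_inf, MulAction.mem_stabilizer_iff]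
      constructor
      · rintro ⟨α, hα, rfl⟩
        exact ⟨α.2, hα⟩
      · rintro ⟨hg, h⟩
        exact ⟨⟨g, hg⟩, h, rfl⟩
    rw [← hmap, Subgroup.card_map_of_injective A.subtype_injective, ← Nat.card_prod]
    exact Nat.card_congr (MulAction.orbitProdStabilizerEquivGroup A ω)
  obtain ⟨x₀, hx₀, hx₀c⟩ := htr c
  have hx₀1 : x₀ ≠ 1 := by
    rintro rfl
    rw [one_smul] at hx₀c
    exact hac hx₀c
  have hb : ∀ x ∈ N, x ≠ 1 → Nat.card (B A x) = Nat.card (B A x₀) := by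
    intro x hx hx1
    have hxa : x • a ≠ a := fun h => hx1 (hreg x hx h)
    have hca : c ≠ a := fun h => hac h.symm
    have h1 := hstabcard (x • a)
    have h2 := hstabcard c
    rw [hBA x hx] at h1
    rw [← hx₀c, hBA x₀ hx₀, hx₀c] at h2
    rw [hhalf a (x • a) c hxa hca] at h1
    have hpos : 0 < Nat.card (MulAction.orbit A c) :=
      Nat.card_pos_iff.mpr ⟨⟨⟨c, MulAction.mem_orbit_self c⟩⟩, inferInstance⟩
    exact Nat.eq_of_mul_eq_mul_left hpos (h1.trans h2.symm)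
  have hb1 : 1 < Nat.card (B A x₀) := by
    rw [← hBA x₀ hx₀, hx₀c]
    exact (Subgroup.one_lt_card_iff_ne_bot _).mpr hne2
  have hfaith : ∀ β ∈ A, (∀ n ∈ N, β * n = n * β) → β = 1 := by
    intro β hβ hc
    apply FaithfulSMul.eq_of_smul_eq_smul (α := Ω)
    intro ω
    obtain ⟨n, hn, rfl⟩ := htr ω
    rw [one_smul, ← mul_smul, hc n hn, mul_smul, (hAmem β).mp hβ]
  obtain ⟨⟨p, hp, hcomm, hexp⟩, hmin⟩ := core N A (Nat.card (B A x₀)) hb1 hb hfaith x₀ hx₀ hx₀1
  refine ⟨⟨p, hp, ⟨⟨fun x y => Subtype.ext (hcomm x x.2 y y.2)⟩⟩, hexp⟩, ?_⟩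
  intro M hM hMbot
  have hinv : ∀ α ∈ A, ∀ u ∈ M ⊓ N, α * u * α⁻¹ ∈ M ⊓ N := by
    intro α _ u hu
    exact ⟨hM.conj_mem u hu.1 α, hN.conj_mem u hu.2 α⟩
  have hne : M ⊓ N ≠ ⊥ := by
    intro hbot
    apply hMbot
    rw [Subgroup.eq_bot_iff_forall]
    intro g hg
    have hcen : ∀ n ∈ N, g * n = n * g := by
      intro n hn
      have h1 : g * n * g⁻¹ * n⁻¹ ∈ M ⊓ N := by
        refine ⟨?_, N.mul_mem (hN.conj_mem n hn g) (N.inv_mem hn)⟩
        have : g * n * g⁻¹ * n⁻¹ = g * (n * g⁻¹ * n⁻¹) := by group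
        rw [this]
        exact M.mul_mem hg (hM.conj_mem _ (M.inv_mem hg) n)
      rw [hbot, Subgroup.mem_bot] at h1
      have : g * n = (g * n * g⁻¹ * n⁻¹) * (n * g) := by group
      rw [this, h1, one_mul]
    obtain ⟨n₀, hn₀, hn₀g⟩ := htr (g • a)
    have hβA : n₀⁻¹ * g ∈ A := by
      rw [hAmem, mul_smul, ← hn₀g, inv_smul_smul]
    have hβ1 : n₀⁻¹ * g = 1 := by
      apply hfaith _ hβA
      intro n hn
      rw [mul_assoc, hcen n hn, ← mul_assoc, ← mul_assoc, hcomm n₀⁻¹ (N.inv_mem hn₀) n hn]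
    have hgn : g = n₀ := by
      have : g = n₀ * (n₀⁻¹ * g) := by group
      rw [this, hβ1, mul_one]
    have : g ∈ M ⊓ N := ⟨hg, hgn ▸ hn₀⟩
    rw [hbot, Subgroup.mem_bot] at this
    exact this
  have := hmin (M ⊓ N) inf_le_right hinv hne
  rw [← this]
  exact inf_le_left

end Cfsg.Agent.S3356
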