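import Cfsg.Statements.S4291
import Cfsg.Agent.S0690
import Cfsg.Agent.Lib.Helper4.FCMain
import Cfsg.Agent.Lib.Helper14.FCRecogB
import Cfsg.Agent.Lib.Helper14.FCZsubU
import Cfsg.Agent.Lib.Helper35.FCNonsolvD

set_option autoImplicit false
open Cfsg

namespace Cfsg.Agent.S4291

/-- Let G be a finite group that occurs as a Frobenius complement. Then G has exactly one normal subgroup N such that every Sylow subgroup of N is cyclic and the quotient of G by N is trivial or isomorphic to one of the following five groups: the Klein four-group, the alternating group of degree 4, the symmetric group of degree 4, the alternating group of degree 5, the symmetric group of degree 5. (The quotient is described by a surjective homomorphism with kernel N; the Klein four-group is written as the dihedral group of order 4.) -/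
theorem result {G : Type*} [Group G] [Finite G]
    (hFC : (∃ (L : Type) (_ : Group L) (_ : Finite L) (H : Subgroup L), Cfsg.IsFrobeniusComplement H ∧ Nonempty (G ≃* H))) :
    ∃! N : Subgroup G, N.Normal ∧ (∀ (p : ℕ) [Fact p.Prime] (P : Sylow p N), IsCyclic P) ∧
      (N = ⊤ ∨
        (∃ f : G →* DihedralGroup 2, Function.Surjective f ∧ f.ker = N) ∨
        (∃ f : G →* alternatingGroup (Fin 4), Function.Surjective f ∧ f.ker = N) ∨
        (∃ f : G →* Equiv.Perm (Fin 4), Function.Surjective f ∧ f.ker = N) ∨
        (∃ f : G →* alternatingGroup (Fin 5), Function.Surjective f ∧ f.ker = N) ∨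
        (∃ f : G →* Equiv.Perm (Fin 5), Function.Surjective f ∧ f.ker = N)) := by
  obtain ⟨hinv, hU⟩ := Cfsg.Agent.Lib.Helper4.FC.uniq_of_frobenius_complement hFC
  refine Cfsg.Agent.Lib.Helper4.FC.main_of
    (fun V _ hV4 hexp hcent h8 => Cfsg.Agent.Lib.Helper14.recog_v4_a4_s4 V hV4 hexp hcent h8)
    (fun H hH => by haveI := hH; exact Cfsg.Agent.Lib.Helper14.zsub_d2 H)
    (fun H hn hH => by haveI := hn; haveI := hH; exact Cfsg.Agent.Lib.Helper14.zsub_alt4 H)
    (fun H hn hH => by haveI := hn; haveI := hH; exact Cfsg.Agent.Lib.Helper14.zsub_perm4 H)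
    (fun H hn hH => by haveI := hn; haveI := hH; exact Cfsg.Agent.Lib.Helper14.zsub_alt5 H)
    (fun H hn hH => by haveI := hn; haveI := hH; exact Cfsg.Agent.Lib.Helper14.zsub_perm5 H)
    ?_ hinv hU
  intro hns
  obtain ⟨G₀, hG₀n, hidx, S, M, hSM, hinf, hcomm, hS, -, hM⟩ :=
    Cfsg.Agent.Lib.Helper35.SL25Compl.result_of
      (fun A h1 h2 h3 => Cfsg.Agent.S0690.result A h1 h2 h3) hns hFC
  exact Cfsg.Agent.Lib.Helper35.FCD.good_of_nonsolvable hinv hU G₀ hG₀n hidx S M hSM hinf hcomm hS hM

end Cfsg.Agent.S4291
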