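import Cfsg.Statements.S3361
import Mathlib
import Cfsg.Agent.S0688
import Cfsg.Agent.Lib.Helper65.RegLinIndexTwo
import Cfsg.Agent.Lib.Helper12.SemilinField
import Cfsg.Agent.Lib.Helper12.RegSolvTypeII

set_option autoImplicit false
open Cfsg

namespace Cfsg.Agent.S3361

/-- pulling back a subgroup of index two along an isomorphism -/
theorem normal_index_two_of_equiv {G H : Type*} [Group G] [Group H] (ε : G ≃* H)
    (h : ∃ M : Subgroup H, M.index = 2) : ∃ N : Subgroup G, N.Normal ∧ N.index = 2 := by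
  obtain ⟨M, hM⟩ := h
  have hidx : (M.comap ε.toMonoidHom).index = 2 := by
    rw [Subgroup.index_comap_of_surjective M ε.surjective]
    exact hM
  exact ⟨M.comap ε.toMonoidHom, Subgroup.normal_of_index_eq_two hidx, hidx⟩

/-- Let q be a prime and V a non-trivial finite vector space over the field with q elements, and let G be a finite solvable group acting faithfully and linearly on V and regularly on the non-zero vectors (transitively, with only the identity fixing a non-zero vector). Then either V can be identified with the additive group of a finite field F so that every element of G acts as x ↦ a·σ(x) (a ∈ F, σ a field automorphism), or V has 5^2, 7^2, 11^2 or 23^2 elements. Moreover, if q ≠ 2 then G has a normal subgroup of index 2, except that when V has 25 elements G may be isomorphic to SL(2,3) and when V has 121 elements G may be isomorphic to SL(2,3) × C₅. -/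
theorem result
    (q : ℕ) [Fact q.Prime] {V : Type*} [AddCommGroup V] [Module (ZMod q) V] [Finite V] [Nontrivial V]
    {G : Type*} [Group G] [Finite G] (hsol : Group.IsSolvable G)
    (ρ : G →* (V ≃ₗ[ZMod q] V)) (hρ : Function.Injective ρ)
    (htrans : ∀ v w : V, v ≠ 0 → w ≠ 0 → ∃ g : G, ρ g v = w)
    (hreg : ∀ v : V, v ≠ 0 → ∀ g : G, ρ g v = v → g = 1) :
    ((∃ (F : Type) (_ : Field F) (_ : Fintype F) (e : V ≃+ F),
        ∀ g : G, ∃ (a : F) (σ : F ≃+* F), ∀ v : V, e (ρ g v) = a * σ (e v)) ∨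
      Nat.card V ∈ ({25, 49, 121, 529} : Set ℕ)) ∧
    (q ≠ 2 → (∃ N : Subgroup G, N.Normal ∧ N.index = 2) ∨
      (Nat.card V = 25 ∧ Nonempty (G ≃* Matrix.SpecialLinearGroup (Fin 2) (ZMod 3))) ∨
      (Nat.card V = 121 ∧ Nonempty (G ≃* Matrix.SpecialLinearGroup (Fin 2) (ZMod 3) × Multiplicative (ZMod 5)))) := by
  classical
  have hfinGL : Finite (V ≃ₗ[ZMod q] V) := Finite.of_injective (fun e => (e : V → V))
    (fun e f h => LinearEquiv.ext (congrFun h))
  set H : Subgroup (V ≃ₗ[ZMod q] V) := ρ.range with hH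
  let ε : G ≃* H := MonoidHom.ofInjective hρ
  have hε : ∀ g : G, ((ε g : H) : V ≃ₗ[ZMod q] V) = ρ g := fun g => rfl
  have hsolvH : Group.IsSolvable H :=
    Group.isSolvable_of_surjective (f := ε.toMonoidHom) ε.surjective
  have hregH : ∀ v w : V, v ≠ 0 → w ≠ 0 → ∃! h : H, (h : V ≃ₗ[ZMod q] V) v = w := by
    intro v w hv hw
    obtain ⟨g, hg⟩ := htrans v w hv hw
    refine ⟨ε g, hg, ?_⟩
    intro h hh
    obtain ⟨g', rfl⟩ := ε.surjective h
    rw [hε] at hh
    have h1 : ρ (g⁻¹ * g') v = v := by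
      rw [map_mul, map_inv]
      show (ρ g).symm (ρ g' v) = v
      rw [hh, ← hg, LinearEquiv.symm_apply_apply]
    have h2 := hreg v hv _ h1
    have h3 : g' = g := by
      have := congrArg (fun x => g * x) h2
      simpa using this
    rw [h3]
  by_cases hI : ∀ A : Subgroup H, A.Normal → IsCyclic A → ∃ W : Submodule (ZMod q) V,
      W ≠ ⊥ ∧ W ≠ ⊤ ∧ ∀ a ∈ A, ∀ v ∈ W, ((a : H) : V ≃ₗ[ZMod q] V) v ∈ W
  · -- type II
    constructor
    · right
      have hV := Cfsg.Agent.S0688.result H hregH hI hsolvH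
      simp only [Set.mem_insert_iff, Set.mem_singleton_iff]
      exact hV
    · intro _
      rcases Cfsg.Agent.Lib.Helper12.RegSolvTypeII.typeII H hregH hI hsolvH with
        h | ⟨hV, ⟨f⟩⟩ | ⟨hV, ⟨f⟩⟩
      · exact Or.inl (normal_index_two_of_equiv ε h)
      · exact Or.inr (Or.inl ⟨hV, ⟨ε.trans f⟩⟩)
      · exact Or.inr (Or.inr ⟨hV, ⟨ε.trans f⟩⟩)
  · -- type I
    push Not at hI
    obtain ⟨A, hAn, hAc, hA⟩ := hI
    have hirr : ∀ W : Submodule (ZMod q) V,
        (∀ a ∈ A, ∀ v ∈ W, ((a : H) : V ≃ₗ[ZMod q] V) v ∈ W) → W = ⊥ ∨ W = ⊤ := by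
      intro W hW
      by_contra hcon
      push Not at hcon
      obtain ⟨a, ha, v, hv, hav⟩ := hA W hcon.1 hcon.2
      exact hav (hW a ha v hv)
    have hAcomm : IsMulCommutative A := by
      have := hAc
      infer_instance
    constructor
    · left
      obtain ⟨F, instF, instFT, e, he⟩ :=
        Cfsg.Agent.Lib.Helper12.SemilinField.exists_semilinear H A hAn hAcomm hirr
      refine ⟨F, instF, instFT, e, ?_⟩
      intro g
      obtain ⟨a, σ, hσ⟩ := he (ε g)
      exact ⟨a, σ, fun v => hσ v⟩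
    · intro hq2
      exact Or.inl (normal_index_two_of_equiv ε
        (Cfsg.Agent.Lib.Helper65.RegLin.exists_index_two_of_irreducible hq2 H hregH A hAn hAc hirr))

end Cfsg.Agent.S3361
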