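-- Statement S3362 (row 3362).
import Cfsg.Statements.S3362
import Cfsg.Agent.Lib.Helper56.SchreierSims

set_option autoImplicit false
set_option linter.unusedSimpArgs false
open Cfsg
open Cfsg.Agent.Lib.Helper56

namespace Cfsg.Agent.S3362

abbrev P12 := Equiv.Perm (Fin 12)

def gs : P12 := Equiv.swap (3 : Fin 12) 5 * Equiv.swap (3 : Fin 12) 4 * Equiv.swap (6 : Fin 12) 8 * Equiv.swap (6 : Fin 12) 7 * Equiv.swap (9 : Fin 12) 11 * Equiv.swap (9 : Fin 12) 10
def gt : P12 := Equiv.swap (3 : Fin 12) 9 * Equiv.swap (3 : Fin 12) 6 * Equiv.swap (4 : Fin 12) 10 * Equiv.swap (4 : Fin 12) 7 * Equiv.swap (5 : Fin 12) 11 * Equiv.swap (5 : Fin 12) 8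
def gu : P12 := Equiv.swap (4 : Fin 12) 9 * Equiv.swap (4 : Fin 12) 5 * Equiv.swap (4 : Fin 12) 6 * Equiv.swap (7 : Fin 12) 10 * Equiv.swap (7 : Fin 12) 11 * Equiv.swap (7 : Fin 12) 8
def gv : P12 := Equiv.swap (4 : Fin 12) 11 * Equiv.swap (4 : Fin 12) 5 * Equiv.swap (4 : Fin 12) 7 * Equiv.swap (6 : Fin 12) 8 * Equiv.swap (6 : Fin 12) 9 * Equiv.swap (6 : Fin 12) 10
def gw : P12 := Equiv.swap (4 : Fin 12) 8 * Equiv.swap (4 : Fin 12) 5 * Equiv.swap (4 : Fin 12) 10 * Equiv.swap (6 : Fin 12) 7 * Equiv.swap (6 : Fin 12) 9 * Equiv.swap (6 : Fin 12) 11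
def gx1 : P12 := Equiv.swap (0 : Fin 12) 3 * Equiv.swap (6 : Fin 12) 7 * Equiv.swap (8 : Fin 12) 10 * Equiv.swap (9 : Fin 12) 11
def gx2 : P12 := Equiv.swap (0 : Fin 12) 1 * Equiv.swap (6 : Fin 12) 9 * Equiv.swap (7 : Fin 12) 10 * Equiv.swap (8 : Fin 12) 11
def gx3 : P12 := Equiv.swap (1 : Fin 12) 2 * Equiv.swap (6 : Fin 12) 11 * Equiv.swap (7 : Fin 12) 9 * Equiv.swap (8 : Fin 12) 10

def gen : Fin 8 → P12 := ![gs, gt, gu, gv, gw, gx1, gx2, gx3]

/-- allowed generator indices at each level -/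
def A1 (_ : Fin 8) : Prop := True
def A2 (j : Fin 8) : Prop := j.val < 7
def A3 (j : Fin 8) : Prop := j.val < 6
def A4 (j : Fin 8) : Prop := j.val < 5
def A5 (j : Fin 8) : Prop := 2 ≤ j.val ∧ j.val < 5
def A6 (_ : Fin 8) : Prop := False

instance decA1 : DecidablePred A1 := fun _ => by unfold A1; infer_instance
instance decA2 : DecidablePred A2 := fun _ => by unfold A2; infer_instance
instance decA3 : DecidablePred A3 := fun _ => by unfold A3; infer_instance
instance decA4 : DecidablePred A4 := fun _ => by unfold A4; infer_instance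
instance decA5 : DecidablePred A5 := fun _ => by unfold A5; infer_instance
instance decA6 : DecidablePred A6 := fun _ => by unfold A6; infer_instance

/-- orbits -/
def O1 (_ : Fin 12) : Prop := True
def O2 (x : Fin 12) : Prop := x ≠ 2
def O3 (x : Fin 12) : Prop := x ≠ 2 ∧ x ≠ 1
def O4 (x : Fin 12) : Prop := x ≠ 2 ∧ x ≠ 1 ∧ x ≠ 0
def O5 (x : Fin 12) : Prop := x ≠ 2 ∧ x ≠ 1 ∧ x ≠ 0 ∧ x ≠ 3

instance decO1 : DecidablePred O1 := fun _ => by unfold O1; infer_instance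
instance decO2 : DecidablePred O2 := fun _ => by unfold O2; infer_instance
instance decO3 : DecidablePred O3 := fun _ => by unfold O3; infer_instance
instance decO4 : DecidablePred O4 := fun _ => by unfold O4; infer_instance
instance decO5 : DecidablePred O5 := fun _ => by unfold O5; infer_instance

def W1 : Fin 12 → List (Fin 8) := ![[6, 7], [7], [], [5, 6, 7], [0, 5, 6, 7], [0, 0, 5, 6, 7], [1, 5, 6, 7], [1, 0, 5, 6, 7], [1, 0, 0, 5, 6, 7], [1, 1, 5, 6, 7], [4, 0, 5, 6, 7], [4, 1, 5, 6, 7]]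
def W2 : Fin 12 → List (Fin 8) := ![[6], [], [], [5, 6], [0, 5, 6], [0, 0, 5, 6], [1, 5, 6], [1, 0, 5, 6], [1, 0, 0, 5, 6], [1, 1, 5, 6], [4, 0, 5, 6], [4, 1, 5, 6]]
def W3 : Fin 12 → List (Fin 8) := ![[], [], [], [5], [0, 5], [0, 0, 5], [1, 5], [1, 0, 5], [1, 0, 0, 5], [1, 1, 5], [4, 0, 5], [4, 1, 5]]
def W4 : Fin 12 → List (Fin 8) := ![[], [], [], [], [0], [0, 0], [1], [1, 0], [1, 0, 0], [1, 1], [4, 0], [4, 1]]
def W5 : Fin 12 → List (Fin 8) := ![[], [], [], [], [], [2, 2], [2], [3], [2, 3], [3, 4], [4], [4, 2]]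
def C1 : Fin 8 → Fin 12 → List (Fin 8) := ![![[0], [0], [0], [], [], [], [], [], [], [3, 4], [], [2]],
  ![[1, 0], [4, 1, 2, 3], [1], [], [], [], [], [3, 4], [3, 4], [], [2], [2]],
  ![[3], [4, 2], [2], [2, 3], [2, 3], [2, 3], [2, 3], [2, 3], [3], [2, 3], [3], [4]],
  ![[2, 3], [3, 4], [3], [3], [3], [4], [4], [3], [3], [3], [4], [4]],
  ![[3, 4], [2, 3], [4], [2], [], [2], [], [2], [2], [2], [2, 2], [2, 2]],
  ![[], [5], [5], [], [0, 0, 2, 2], [0, 2, 2], [4, 1, 3], [4, 0, 4, 2], [0, 0, 3, 4], [4, 0, 2, 3], [1, 2], [1, 0, 0]],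
  ![[], [], [6], [5], [5], [5], [5], [5, 4, 2], [5, 4, 2], [5], [5, 2], [5, 2]],
  ![[6], [], [], [6], [6], [6], [6, 2], [6], [6, 2], [6], [6, 2], [6, 2]]]
def C2 : Fin 8 → Fin 12 → List (Fin 8) := ![![[0], [0], [], [], [], [], [], [], [], [3], [], [4, 2]],
  ![[1, 1], [1], [], [], [], [], [], [3], [3], [], [4, 2], [4, 2]],
  ![[3, 4], [2], [], [4], [4], [4], [4], [4], [3, 4], [4], [3, 4], [2, 3]],
  ![[4], [3], [], [3, 4], [3, 4], [2, 3], [2, 3], [3, 4], [3, 4], [3, 4], [2, 3], [2, 3]],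
  ![[3], [4], [], [4, 2], [], [4, 2], [], [4, 2], [4, 2], [4, 2], [2, 2], [2, 2]],
  ![[], [5], [], [], [0, 0, 2, 2], [0, 2, 2], [1, 4, 2], [1, 0, 0, 3], [0, 0, 3], [1, 0, 0], [4, 1, 2], [4, 0, 2, 3]],
  ![[], [], [], [5], [5], [5], [5], [5, 2], [5, 2], [5], [5, 4, 2], [5, 4, 2]],
  ![[], [], [], [], [], [], [], [], [], [], [], []]]
def C3 : Fin 8 → Fin 12 → List (Fin 8) := ![![[0], [], [], [], [], [], [], [], [], [4], [], [2, 3]],
  ![[1], [], [], [], [], [], [], [4], [4], [], [2, 3], [2, 3]],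
  ![[2], [], [], [3], [3], [3], [3], [3], [2], [3], [2], [4, 2]],
  ![[3], [], [], [2], [2], [4, 2], [4, 2], [2], [2], [2], [4, 2], [4, 2]],
  ![[4], [], [], [2, 3], [], [2, 3], [], [2, 3], [2, 3], [2, 3], [2, 2], [2, 2]],
  ![[], [], [], [], [0, 0, 2, 2], [0, 2, 2], [1, 1, 2, 3], [4, 1], [0, 0, 4], [4, 1, 2, 3], [1, 0, 0, 2, 3], [1, 0]],
  ![[], [], [], [], [], [], [], [], [], [], [], []],
  ![[], [], [], [], [], [], [], [], [], [], [], []]]
def C4 : Fin 8 → Fin 12 → List (Fin 8) := ![![[], [], [], [], [], [], [], [], [], [2, 3], [], [4]],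
  ![[], [], [], [], [], [], [], [2, 3], [2, 3], [], [4], [4]],
  ![[], [], [], [2], [2], [2], [2], [2], [3], [2], [3], [3, 4]],
  ![[], [], [], [3], [3], [3, 4], [3, 4], [3], [3], [3], [3, 4], [3, 4]],
  ![[], [], [], [4], [], [4], [], [4], [4], [4], [2, 2], [2, 2]],
  ![[], [], [], [], [], [], [], [], [], [], [], []],
  ![[], [], [], [], [], [], [], [], [], [], [], []],
  ![[], [], [], [], [], [], [], [], [], [], [], []]]
def C5 : Fin 8 → Fin 12 → List (Fin 8) := ![![[], [], [], [], [], [], [], [], [], [], [], []],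
  ![[], [], [], [], [], [], [], [], [], [], [], []],
  ![[], [], [], [], [], [], [], [], [], [], [], []],
  ![[], [], [], [], [], [], [], [], [], [], [], []],
  ![[], [], [], [], [], [], [], [], [], [], [], []],
  ![[], [], [], [], [], [], [], [], [], [], [], []],
  ![[], [], [], [], [], [], [], [], [], [], [], []],
  ![[], [], [], [], [], [], [], [], [], [], [], []]]


/-- The certificate checks for one level. -/
def CheckA (O : Fin 12 → Prop) (W : Fin 12 → List (Fin 8)) (b : Fin 12) : Prop :=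
  W b = [] ∧ O b

def CheckB (A : Fin 8 → Prop) (O : Fin 12 → Prop) (W : Fin 12 → List (Fin 8)) (b : Fin 12) :
    Prop :=
  ∀ β : Fin 12, O β → evalWord gen (W β) b = β ∧ ∀ l ∈ W β, A l

def CheckC (A A' : Fin 8 → Prop) (O : Fin 12 → Prop) (W : Fin 12 → List (Fin 8))
    (C : Fin 8 → Fin 12 → List (Fin 8)) : Prop :=
  ∀ j : Fin 8, A j → ∀ β : Fin 12, O β →
    O (gen j β) ∧ evalWord gen (j :: W β) = evalWord gen (W (gen j β) ++ C j β) ∧
      ∀ l ∈ C j β, A' l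

instance decCheckA (O : Fin 12 → Prop) [DecidablePred O] (W : Fin 12 → List (Fin 8))
    (b : Fin 12) : Decidable (CheckA O W b) := by
  unfold CheckA; infer_instance

instance decCheckB (A : Fin 8 → Prop) (O : Fin 12 → Prop) [DecidablePred A]
    [DecidablePred O] (W : Fin 12 → List (Fin 8)) (b : Fin 12) :
    Decidable (CheckB A O W b) := by
  unfold CheckB; infer_instance

instance decCheckC (A A' : Fin 8 → Prop) (O : Fin 12 → Prop) [DecidablePred A] [DecidablePred A']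
    [DecidablePred O] (W : Fin 12 → List (Fin 8))
    (C : Fin 8 → Fin 12 → List (Fin 8)) : Decidable (CheckC A A' O W C) := by
  unfold CheckC; infer_instance

def Check (A A' : Fin 8 → Prop) (O : Fin 12 → Prop) (W : Fin 12 → List (Fin 8))
    (C : Fin 8 → Fin 12 → List (Fin 8)) (b : Fin 12) : Prop :=
  CheckA O W b ∧ CheckB A O W b ∧ CheckC A A' O W C

instance decCheck (A A' : Fin 8 → Prop) (O : Fin 12 → Prop) [DecidablePred A] [DecidablePred A']
    [DecidablePred O] (W : Fin 12 → List (Fin 8))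
    (C : Fin 8 → Fin 12 → List (Fin 8)) (b : Fin 12) : Decidable (Check A A' O W C b) := by
  unfold Check; infer_instance

set_option maxRecDepth 100000 in
theorem check1 : Check A1 A2 O1 W1 C1 2 := by decide +kernel
set_option maxRecDepth 100000 in
theorem check2 : Check A2 A3 O2 W2 C2 1 := by decide +kernel
set_option maxRecDepth 100000 in
theorem check3 : Check A3 A4 O3 W3 C3 0 := by decide +kernel
set_option maxRecDepth 100000 in
theorem check4 : Check A4 A5 O4 W4 C4 3 := by decide +kernel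
set_option maxRecDepth 100000 in
theorem check5 : Check A5 A6 O5 W5 C5 4 := by decide +kernel


/-! ## Generator sets -/

def S1 : Set P12 := {gs, gt, gu, gv, gw, gx1, gx2, gx3}
def S2 : Set P12 := {gs, gt, gu, gv, gw, gx1, gx2}
def S3 : Set P12 := {gs, gt, gu, gv, gw, gx1}
def S4 : Set P12 := {gs, gt, gu, gv, gw}
def S5 : Set P12 := {gu, gv, gw}
def S6 : Set P12 := ∅

theorem memS1 : ∀ j, A1 j → gen j ∈ S1 := by
  intro j hj
  have h : j = 0 ∨ j = 1 ∨ j = 2 ∨ j = 3 ∨ j = 4 ∨ j = 5 ∨ j = 6 ∨ j = 7 := by revert j; decide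
  rcases h with rfl | rfl | rfl | rfl | rfl | rfl | rfl | rfl
  · show gs ∈ S1; simp only [S1, Set.mem_insert_iff, Set.mem_singleton_iff, true_or, or_true]
  · show gt ∈ S1; simp only [S1, Set.mem_insert_iff, Set.mem_singleton_iff, true_or, or_true]
  · show gu ∈ S1; simp only [S1, Set.mem_insert_iff, Set.mem_singleton_iff, true_or, or_true]
  · show gv ∈ S1; simp only [S1, Set.mem_insert_iff, Set.mem_singleton_iff, true_or, or_true]
  · show gw ∈ S1; simp only [S1, Set.mem_insert_iff, Set.mem_singleton_iff, true_or, or_true]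
  · show gx1 ∈ S1; simp only [S1, Set.mem_insert_iff, Set.mem_singleton_iff, true_or, or_true]
  · show gx2 ∈ S1; simp only [S1, Set.mem_insert_iff, Set.mem_singleton_iff, true_or, or_true]
  · show gx3 ∈ S1; simp only [S1, Set.mem_insert_iff, Set.mem_singleton_iff, true_or, or_true]
theorem memS2 : ∀ j, A2 j → gen j ∈ S2 := by
  intro j hj
  have h : j = 0 ∨ j = 1 ∨ j = 2 ∨ j = 3 ∨ j = 4 ∨ j = 5 ∨ j = 6 := by revert j; decide
  rcases h with rfl | rfl | rfl | rfl | rfl | rfl | rfl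
  · show gs ∈ S2; simp only [S2, Set.mem_insert_iff, Set.mem_singleton_iff, true_or, or_true]
  · show gt ∈ S2; simp only [S2, Set.mem_insert_iff, Set.mem_singleton_iff, true_or, or_true]
  · show gu ∈ S2; simp only [S2, Set.mem_insert_iff, Set.mem_singleton_iff, true_or, or_true]
  · show gv ∈ S2; simp only [S2, Set.mem_insert_iff, Set.mem_singleton_iff, true_or, or_true]
  · show gw ∈ S2; simp only [S2, Set.mem_insert_iff, Set.mem_singleton_iff, true_or, or_true]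
  · show gx1 ∈ S2; simp only [S2, Set.mem_insert_iff, Set.mem_singleton_iff, true_or, or_true]
  · show gx2 ∈ S2; simp only [S2, Set.mem_insert_iff, Set.mem_singleton_iff, true_or, or_true]
theorem memS3 : ∀ j, A3 j → gen j ∈ S3 := by
  intro j hj
  have h : j = 0 ∨ j = 1 ∨ j = 2 ∨ j = 3 ∨ j = 4 ∨ j = 5 := by revert j; decide
  rcases h with rfl | rfl | rfl | rfl | rfl | rfl
  · show gs ∈ S3; simp only [S3, Set.mem_insert_iff, Set.mem_singleton_iff, true_or, or_true]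
  · show gt ∈ S3; simp only [S3, Set.mem_insert_iff, Set.mem_singleton_iff, true_or, or_true]
  · show gu ∈ S3; simp only [S3, Set.mem_insert_iff, Set.mem_singleton_iff, true_or, or_true]
  · show gv ∈ S3; simp only [S3, Set.mem_insert_iff, Set.mem_singleton_iff, true_or, or_true]
  · show gw ∈ S3; simp only [S3, Set.mem_insert_iff, Set.mem_singleton_iff, true_or, or_true]
  · show gx1 ∈ S3; simp only [S3, Set.mem_insert_iff, Set.mem_singleton_iff, true_or, or_true]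
theorem memS4 : ∀ j, A4 j → gen j ∈ S4 := by
  intro j hj
  have h : j = 0 ∨ j = 1 ∨ j = 2 ∨ j = 3 ∨ j = 4 := by revert j; decide
  rcases h with rfl | rfl | rfl | rfl | rfl
  · show gs ∈ S4; simp only [S4, Set.mem_insert_iff, Set.mem_singleton_iff, true_or, or_true]
  · show gt ∈ S4; simp only [S4, Set.mem_insert_iff, Set.mem_singleton_iff, true_or, or_true]
  · show gu ∈ S4; simp only [S4, Set.mem_insert_iff, Set.mem_singleton_iff, true_or, or_true]
  · show gv ∈ S4; simp only [S4, Set.mem_insert_iff, Set.mem_singleton_iff, true_or, or_true]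
  · show gw ∈ S4; simp only [S4, Set.mem_insert_iff, Set.mem_singleton_iff, true_or, or_true]
theorem memS5 : ∀ j, A5 j → gen j ∈ S5 := by
  intro j hj
  have h : j = 2 ∨ j = 3 ∨ j = 4 := by revert j; decide
  rcases h with rfl | rfl | rfl
  · show gu ∈ S5; simp only [S5, Set.mem_insert_iff, Set.mem_singleton_iff, true_or, or_true]
  · show gv ∈ S5; simp only [S5, Set.mem_insert_iff, Set.mem_singleton_iff, true_or, or_true]
  · show gw ∈ S5; simp only [S5, Set.mem_insert_iff, Set.mem_singleton_iff, true_or, or_true]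
theorem memS6 : ∀ j, A6 j → gen j ∈ S6 := by
  intro j hj; exact absurd hj (by simp [A6])

theorem genS1 : ∀ s ∈ S1, ∃ j, A1 j ∧ gen j = s := by
  simp only [S1, Set.mem_insert_iff, Set.mem_singleton_iff]
  rintro s (rfl | rfl | rfl | rfl | rfl | rfl | rfl | rfl)
  exacts [⟨0, trivial, rfl⟩, ⟨1, trivial, rfl⟩, ⟨2, trivial, rfl⟩, ⟨3, trivial, rfl⟩,
    ⟨4, trivial, rfl⟩, ⟨5, trivial, rfl⟩, ⟨6, trivial, rfl⟩, ⟨7, trivial, rfl⟩]
theorem genS2 : ∀ s ∈ S2, ∃ j, A2 j ∧ gen j = s := by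
  simp only [S2, Set.mem_insert_iff, Set.mem_singleton_iff]
  rintro s (rfl | rfl | rfl | rfl | rfl | rfl | rfl)
  exacts [⟨0, by decide, rfl⟩, ⟨1, by decide, rfl⟩, ⟨2, by decide, rfl⟩, ⟨3, by decide, rfl⟩,
    ⟨4, by decide, rfl⟩, ⟨5, by decide, rfl⟩, ⟨6, by decide, rfl⟩]
theorem genS3 : ∀ s ∈ S3, ∃ j, A3 j ∧ gen j = s := by
  simp only [S3, Set.mem_insert_iff, Set.mem_singleton_iff]
  rintro s (rfl | rfl | rfl | rfl | rfl | rfl)
  exacts [⟨0, by decide, rfl⟩, ⟨1, by decide, rfl⟩, ⟨2, by decide, rfl⟩, ⟨3, by decide, rfl⟩,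
    ⟨4, by decide, rfl⟩, ⟨5, by decide, rfl⟩]
theorem genS4 : ∀ s ∈ S4, ∃ j, A4 j ∧ gen j = s := by
  simp only [S4, Set.mem_insert_iff, Set.mem_singleton_iff]
  rintro s (rfl | rfl | rfl | rfl | rfl)
  exacts [⟨0, by decide, rfl⟩, ⟨1, by decide, rfl⟩, ⟨2, by decide, rfl⟩, ⟨3, by decide, rfl⟩,
    ⟨4, by decide, rfl⟩]
theorem genS5 : ∀ s ∈ S5, ∃ j, A5 j ∧ gen j = s := by
  simp only [S5, Set.mem_insert_iff, Set.mem_singleton_iff]
  rintro s (rfl | rfl | rfl)
  exacts [⟨2, by decide, rfl⟩, ⟨3, by decide, rfl⟩, ⟨4, by decide, rfl⟩]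
theorem genS6 : ∀ s ∈ S6, ∃ j, A6 j ∧ gen j = s := by
  intro s hs; exact absurd hs (by simp [S6])

theorem S2_sub : S2 ⊆ S1 := by
  intro x hx
  obtain ⟨j, _, rfl⟩ := genS2 x hx
  exact memS1 j trivial
theorem S3_sub : S3 ⊆ S2 := by
  intro x hx
  obtain ⟨j, hj, rfl⟩ := genS3 x hx
  exact memS2 j (by unfold A3 at hj; unfold A2; omega)
theorem S4_sub : S4 ⊆ S3 := by
  intro x hx
  obtain ⟨j, hj, rfl⟩ := genS4 x hx
  exact memS3 j (by unfold A4 at hj; unfold A3; omega)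
theorem S5_sub : S5 ⊆ S4 := by
  intro x hx
  obtain ⟨j, hj, rfl⟩ := genS5 x hx
  exact memS4 j (by unfold A5 at hj; unfold A4; omega)
theorem S6_sub : S6 ⊆ S5 := by
  intro x hx; exact absurd hx (by simp [S6])

/-! ## Fixed base points -/

def FixB (A : Fin 8 → Prop) (b : Fin 12) : Prop := ∀ j : Fin 8, A j → gen j b = b

instance decFixB (A : Fin 8 → Prop) [DecidablePred A] (b : Fin 12) : Decidable (FixB A b) := by
  unfold FixB; infer_instance

theorem fixA2 : FixB A2 2 := by decide +kernel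
theorem fixA3 : FixB A3 2 ∧ FixB A3 1 := by decide +kernel
theorem fixA4 : FixB A4 2 ∧ FixB A4 1 ∧ FixB A4 0 := by decide +kernel
theorem fixA5 : FixB A5 2 ∧ FixB A5 1 ∧ FixB A5 0 ∧ FixB A5 3 := by decide +kernel
theorem fixA6 : FixB A6 4 := by decide +kernel

theorem closure_fix (A : Fin 8 → Prop) (S : Set P12) (b : Fin 12)
    (hgenS : ∀ s ∈ S, ∃ j, A j ∧ gen j = s) (hfix : FixB A b) :
    ∀ g ∈ Subgroup.closure S, g b = b := by
  have : Subgroup.closure S ≤ MulAction.stabilizer P12 b := by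
    rw [Subgroup.closure_le]
    intro s hs
    obtain ⟨j, hj, rfl⟩ := hgenS s hs
    exact hfix j hj
  intro g hg
  exact this hg

/-! ## Levels -/

section level

variable {A A' : Fin 8 → Prop} {O : Fin 12 → Prop} {W : Fin 12 → List (Fin 8)}
  {C : Fin 8 → Fin 12 → List (Fin 8)} {b : Fin 12} {S S' : Set P12}

theorem level_hS (hchk : Check A A' O W C b)
    (hgenS : ∀ s ∈ S, ∃ j, A j ∧ gen j = s) (hmemS' : ∀ j, A' j → gen j ∈ S') :
    ∀ s ∈ S, ∀ β ∈ {x | O x}, s • β ∈ {x | O x} ∧ ∃ k ∈ Subgroup.closure S',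
      s * (fun β => evalWord gen (W β)) β = (fun β => evalWord gen (W β)) (s • β) * k := by
  intro s hs β hβ
  obtain ⟨j, hj, rfl⟩ := hgenS s hs
  obtain ⟨h1, h2, h3⟩ := hchk.2.2 j hj β hβ
  refine ⟨h1, evalWord gen (C j β),
    evalWord_mem _ _ _ (fun l hl => Subgroup.subset_closure (hmemS' l (h3 l hl))), ?_⟩
  simp only
  rw [← evalWord_cons, h2, evalWord_append]
  rfl

theorem level_hu (hchk : Check A A' O W C b) (hmemS : ∀ j, A j → gen j ∈ S) :
    ∀ β ∈ {x | O x}, (fun β => evalWord gen (W β)) β ∈ Subgroup.closure S ∧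
      (fun β => evalWord gen (W β)) β • b = β := by
  intro β hβ
  obtain ⟨h1, h2⟩ := hchk.2.1 β hβ
  exact ⟨evalWord_mem _ _ _ (fun l hl => Subgroup.subset_closure (hmemS l (h2 l hl))), h1⟩

theorem level_stab (hchk : Check A A' O W C b)
    (hgenS : ∀ s ∈ S, ∃ j, A j ∧ gen j = s) (hmemS' : ∀ j, A' j → gen j ∈ S')
    (hsub : S' ⊆ S) (hgenS' : ∀ s ∈ S', ∃ j, A' j ∧ gen j = s) (hfix : FixB A' b) :
    Subgroup.closure S ⊓ MulAction.stabilizer P12 b = Subgroup.closure S' := by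
  apply chain_stabilizer S (Subgroup.closure S') b {x | O x} (fun β => evalWord gen (W β))
    hchk.1.2 (by show evalWord gen (W b) = 1; rw [hchk.1.1]; rfl) (level_hS hchk hgenS hmemS')
    (Subgroup.closure_mono hsub)
  exact closure_fix A' S' b hgenS' hfix

theorem level_card (hchk : Check A A' O W C b)
    (hgenS : ∀ s ∈ S, ∃ j, A j ∧ gen j = s) (hmemS : ∀ j, A j → gen j ∈ S)
    (hmemS' : ∀ j, A' j → gen j ∈ S')
    (hsub : S' ⊆ S) (hgenS' : ∀ s ∈ S', ∃ j, A' j ∧ gen j = s) (hfix : FixB A' b) :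
    Nat.card (Subgroup.closure S) = Nat.card {x | O x} * Nat.card (Subgroup.closure S') := by
  apply chain_card S (Subgroup.closure S') b {x | O x} (fun β => evalWord gen (W β))
    hchk.1.2 (by show evalWord gen (W b) = 1; rw [hchk.1.1]; rfl) (level_hu hchk hmemS) (level_hS hchk hgenS hmemS')
    (Subgroup.closure_mono hsub)
  exact closure_fix A' S' b hgenS' hfix

theorem level_mover (hchk : Check A A' O W C b) (hmemS : ∀ j, A j → gen j ∈ S)
    (β : Fin 12) (hβ : O β) : ∃ h ∈ Subgroup.closure S, h β = b := by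
  obtain ⟨h1, h2⟩ := level_hu hchk hmemS β hβ
  refine ⟨(evalWord gen (W β))⁻¹, inv_mem h1, ?_⟩
  rw [Equiv.Perm.inv_eq_iff_eq]
  exact h2.symm

end level

theorem stab1 : Subgroup.closure S1 ⊓ MulAction.stabilizer P12 (2 : Fin 12) = Subgroup.closure S2 :=
  level_stab check1 genS1 memS2 S2_sub genS2 fixA2
theorem stab2 : Subgroup.closure S2 ⊓ MulAction.stabilizer P12 (1 : Fin 12) = Subgroup.closure S3 :=
  level_stab check2 genS2 memS3 S3_sub genS3 fixA3.2
theorem stab3 : Subgroup.closure S3 ⊓ MulAction.stabilizer P12 (0 : Fin 12) = Subgroup.closure S4 :=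
  level_stab check3 genS3 memS4 S4_sub genS4 fixA4.2.2
theorem stab4 : Subgroup.closure S4 ⊓ MulAction.stabilizer P12 (3 : Fin 12) = Subgroup.closure S5 :=
  level_stab check4 genS4 memS5 S5_sub genS5 fixA5.2.2.2
theorem stab5 : Subgroup.closure S5 ⊓ MulAction.stabilizer P12 (4 : Fin 12) = Subgroup.closure S6 :=
  level_stab check5 genS5 memS6 S6_sub genS6 fixA6

theorem closure_S6 : Subgroup.closure S6 = ⊥ := by
  rw [S6, Subgroup.closure_empty]

theorem cardO1 : Nat.card {x | O1 x} = 12 := by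
  rw [Nat.card_eq_fintype_card]; rfl
theorem cardO2 : Nat.card {x | O2 x} = 11 := by
  rw [Nat.card_eq_fintype_card]; rfl
theorem cardO3 : Nat.card {x | O3 x} = 10 := by
  rw [Nat.card_eq_fintype_card]; rfl
theorem cardO4 : Nat.card {x | O4 x} = 9 := by
  rw [Nat.card_eq_fintype_card]; rfl
theorem cardO5 : Nat.card {x | O5 x} = 8 := by
  rw [Nat.card_eq_fintype_card]; rfl

theorem card5 : Nat.card (Subgroup.closure S5) = 8 := by
  rw [level_card check5 genS5 memS5 memS6 S6_sub genS6 fixA6, cardO5, closure_S6,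
    Subgroup.card_bot]
theorem card4 : Nat.card (Subgroup.closure S4) = 72 := by
  rw [level_card check4 genS4 memS4 memS5 S5_sub genS5 fixA5.2.2.2, cardO4, card5]
theorem card3 : Nat.card (Subgroup.closure S3) = 720 := by
  rw [level_card check3 genS3 memS3 memS4 S4_sub genS4 fixA4.2.2, cardO3, card4]
theorem card2 : Nat.card (Subgroup.closure S2) = 7920 := by
  rw [level_card check2 genS2 memS2 memS3 S3_sub genS3 fixA3.2, cardO2, card3]
theorem card1 : Nat.card (Subgroup.closure S1) = 95040 := by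
  rw [level_card check1 genS1 memS1 memS2 S2_sub genS2 fixA2, cardO1, card2]


/-! ## Moving tuples to the base -/

theorem le2 : Subgroup.closure S2 ≤ Subgroup.closure S1 := Subgroup.closure_mono S2_sub
theorem le3 : Subgroup.closure S3 ≤ Subgroup.closure S1 :=
  (Subgroup.closure_mono S3_sub).trans le2
theorem le4 : Subgroup.closure S4 ≤ Subgroup.closure S1 :=
  (Subgroup.closure_mono S4_sub).trans le3
theorem le5 : Subgroup.closure S5 ≤ Subgroup.closure S1 :=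
  (Subgroup.closure_mono S5_sub).trans le4

theorem exists_to_base (x : Fin 5 ↪ Fin 12) :
    ∃ g ∈ Subgroup.closure S1,
      g (x 0) = 2 ∧ g (x 1) = 1 ∧ g (x 2) = 0 ∧ g (x 3) = 3 ∧ g (x 4) = 4 := by
  have hne : ∀ i j : Fin 5, i ≠ j → ∀ (g : P12) (c : Fin 12), g (x j) = c → g (x i) ≠ c := by
    intro i j hij g c hc h
    exact hij (x.injective (g.injective (h.trans hc.symm)))
  -- level 1
  obtain ⟨g1, m1, e10⟩ := level_mover check1 memS1 (x 0) trivial
  -- level 2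
  have o2 : O2 (g1 (x 1)) := hne 1 0 (by decide) g1 2 e10
  obtain ⟨h2, hh2, e2⟩ := level_mover check2 memS2 _ o2
  have f22 := closure_fix A2 S2 2 genS2 fixA2 h2 hh2
  have m2 : h2 * g1 ∈ Subgroup.closure S1 := mul_mem (le2 hh2) m1
  have e20 : (h2 * g1) (x 0) = 2 := by rw [Equiv.Perm.mul_apply, e10, f22]
  have e21 : (h2 * g1) (x 1) = 1 := by rw [Equiv.Perm.mul_apply, e2]
  generalize h2 * g1 = g2 at m2 e20 e21
  -- level 3
  have o3 : O3 (g2 (x 2)) := ⟨hne 2 0 (by decide) g2 2 e20, hne 2 1 (by decide) g2 1 e21⟩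
  obtain ⟨h3, hh3, e3⟩ := level_mover check3 memS3 _ o3
  have f32 := closure_fix A3 S3 2 genS3 fixA3.1 h3 hh3
  have f31 := closure_fix A3 S3 1 genS3 fixA3.2 h3 hh3
  have m3 : h3 * g2 ∈ Subgroup.closure S1 := mul_mem (le3 hh3) m2
  have e30 : (h3 * g2) (x 0) = 2 := by rw [Equiv.Perm.mul_apply, e20, f32]
  have e31 : (h3 * g2) (x 1) = 1 := by rw [Equiv.Perm.mul_apply, e21, f31]
  have e32 : (h3 * g2) (x 2) = 0 := by rw [Equiv.Perm.mul_apply, e3]
  generalize h3 * g2 = g3 at m3 e30 e31 e32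
  -- level 4
  have o4 : O4 (g3 (x 3)) :=
    ⟨hne 3 0 (by decide) g3 2 e30, hne 3 1 (by decide) g3 1 e31, hne 3 2 (by decide) g3 0 e32⟩
  obtain ⟨h4, hh4, e4⟩ := level_mover check4 memS4 _ o4
  have f42 := closure_fix A4 S4 2 genS4 fixA4.1 h4 hh4
  have f41 := closure_fix A4 S4 1 genS4 fixA4.2.1 h4 hh4
  have f40 := closure_fix A4 S4 0 genS4 fixA4.2.2 h4 hh4
  have m4 : h4 * g3 ∈ Subgroup.closure S1 := mul_mem (le4 hh4) m3
  have e40 : (h4 * g3) (x 0) = 2 := by rw [Equiv.Perm.mul_apply, e30, f42]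
  have e41 : (h4 * g3) (x 1) = 1 := by rw [Equiv.Perm.mul_apply, e31, f41]
  have e42 : (h4 * g3) (x 2) = 0 := by rw [Equiv.Perm.mul_apply, e32, f40]
  have e43 : (h4 * g3) (x 3) = 3 := by rw [Equiv.Perm.mul_apply, e4]
  generalize h4 * g3 = g4 at m4 e40 e41 e42 e43
  -- level 5
  have o5 : O5 (g4 (x 4)) :=
    ⟨hne 4 0 (by decide) g4 2 e40, hne 4 1 (by decide) g4 1 e41, hne 4 2 (by decide) g4 0 e42,
      hne 4 3 (by decide) g4 3 e43⟩
  obtain ⟨h5, hh5, e5⟩ := level_mover check5 memS5 _ o5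
  have f52 := closure_fix A5 S5 2 genS5 fixA5.1 h5 hh5
  have f51 := closure_fix A5 S5 1 genS5 fixA5.2.1 h5 hh5
  have f50 := closure_fix A5 S5 0 genS5 fixA5.2.2.1 h5 hh5
  have f53 := closure_fix A5 S5 3 genS5 fixA5.2.2.2 h5 hh5
  refine ⟨h5 * g4, mul_mem (le5 hh5) m4, ?_, ?_, ?_, ?_, ?_⟩
  · rw [Equiv.Perm.mul_apply, e40, f52]
  · rw [Equiv.Perm.mul_apply, e41, f51]
  · rw [Equiv.Perm.mul_apply, e42, f50]
  · rw [Equiv.Perm.mul_apply, e43, f53]
  · rw [Equiv.Perm.mul_apply, e5]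

theorem trans5 : MulAction.IsMultiplyPretransitive (Subgroup.closure S1) (Fin 12) 5 := by
  rw [MulAction.isMultiplyPretransitive_iff]
  intro x y
  obtain ⟨gx, mx, x0, x1, x2, x3, x4⟩ := exists_to_base x
  obtain ⟨gy, my, y0, y1, y2, y3, y4⟩ := exists_to_base y
  refine ⟨⟨gy⁻¹ * gx, mul_mem (inv_mem my) mx⟩, ?_⟩
  refine Function.Embedding.ext (fun i => ?_)
  rw [Function.Embedding.smul_apply, Subgroup.smul_def, Equiv.Perm.smul_def,
    Equiv.Perm.mul_apply, Equiv.Perm.inv_eq_iff_eq]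
  fin_cases i
  · exact x0.trans y0.symm
  · exact x1.trans y1.symm
  · exact x2.trans y2.symm
  · exact x3.trans y3.symm
  · exact x4.trans y4.symm

theorem fix_base_eq_one (g : P12) (hg : g ∈ Subgroup.closure S1)
    (h2 : g 2 = 2) (h1 : g 1 = 1) (h0 : g 0 = 0) (h3 : g 3 = 3) (h4 : g 4 = 4) : g = 1 := by
  have m2 : g ∈ Subgroup.closure S2 := by
    rw [← stab1]; exact ⟨hg, h2⟩
  have m3 : g ∈ Subgroup.closure S3 := by
    rw [← stab2]; exact ⟨m2, h1⟩
  have m4 : g ∈ Subgroup.closure S4 := by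
    rw [← stab3]; exact ⟨m3, h0⟩
  have m5 : g ∈ Subgroup.closure S5 := by
    rw [← stab4]; exact ⟨m4, h3⟩
  have m6 : g ∈ Subgroup.closure S6 := by
    rw [← stab5]; exact ⟨m5, h4⟩
  rw [closure_S6] at m6
  exact m6

theorem stab_emb (y : Fin 5 ↪ Fin 12) :
    MulAction.stabilizer (Subgroup.closure S1) y = ⊥ := by
  rw [eq_bot_iff]
  rintro ⟨g, hg⟩ hgy
  rw [Subgroup.mem_bot]
  apply Subtype.ext
  show g = 1
  rw [MulAction.mem_stabilizer_iff] at hgy
  have hfix : ∀ i, g (y i) = y i := by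
    intro i
    have := congrArg (fun f : Fin 5 ↪ Fin 12 => f i) hgy
    exact this
  obtain ⟨h, mh, y0, y1, y2, y3, y4⟩ := exists_to_base y
  have key : ∀ i c, h (y i) = c → (h * g * h⁻¹) c = c := by
    intro i c hc
    subst hc
    show h (g (h.symm (h (y i)))) = h (y i)
    rw [Equiv.symm_apply_apply, hfix]
  have := fix_base_eq_one (h * g * h⁻¹) (mul_mem (mul_mem mh hg) (inv_mem mh))
    (key 0 2 y0) (key 1 1 y1) (key 2 0 y2) (key 3 3 y3) (key 4 4 y4)
  have h' : h * g = h := by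
    have := congrArg (· * h) this
    simpa using this
  exact mul_eq_left.mp h'   

theorem result
    (s t u v w x₁ x₂ x₃ : Equiv.Perm (Fin 12))
    (hs : s = Equiv.swap (3 : Fin 12) 5 * Equiv.swap (3 : Fin 12) 4 * Equiv.swap (6 : Fin 12) 8 * Equiv.swap (6 : Fin 12) 7 * Equiv.swap (9 : Fin 12) 11 * Equiv.swap (9 : Fin 12) 10) (ht : t = Equiv.swap (3 : Fin 12) 9 * Equiv.swap (3 : Fin 12) 6 * Equiv.swap (4 : Fin 12) 10 * Equiv.swap (4 : Fin 12) 7 * Equiv.swap (5 : Fin 12) 11 * Equiv.swap (5 : Fin 12) 8)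
    (hu : u = Equiv.swap (4 : Fin 12) 9 * Equiv.swap (4 : Fin 12) 5 * Equiv.swap (4 : Fin 12) 6 * Equiv.swap (7 : Fin 12) 10 * Equiv.swap (7 : Fin 12) 11 * Equiv.swap (7 : Fin 12) 8) (hv : v = Equiv.swap (4 : Fin 12) 11 * Equiv.swap (4 : Fin 12) 5 * Equiv.swap (4 : Fin 12) 7 * Equiv.swap (6 : Fin 12) 8 * Equiv.swap (6 : Fin 12) 9 * Equiv.swap (6 : Fin 12) 10) (hw : w = Equiv.swap (4 : Fin 12) 8 * Equiv.swap (4 : Fin 12) 5 * Equiv.swap (4 : Fin 12) 10 * Equiv.swap (6 : Fin 12) 7 * Equiv.swap (6 : Fin 12) 9 * Equiv.swap (6 : Fin 12) 11)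
    (hx₁ : x₁ = Equiv.swap (0 : Fin 12) 3 * Equiv.swap (6 : Fin 12) 7 * Equiv.swap (8 : Fin 12) 10 * Equiv.swap (9 : Fin 12) 11) (hx₂ : x₂ = Equiv.swap (0 : Fin 12) 1 * Equiv.swap (6 : Fin 12) 9 * Equiv.swap (7 : Fin 12) 10 * Equiv.swap (8 : Fin 12) 11)
    (hx₃ : x₃ = Equiv.swap (1 : Fin 12) 2 * Equiv.swap (6 : Fin 12) 11 * Equiv.swap (7 : Fin 12) 9 * Equiv.swap (8 : Fin 12) 10)
    (M₁₂ M₁₁ : Subgroup (Equiv.Perm (Fin 12))) (hM₁₂ : M₁₂ = Subgroup.closure {s, t, u, v, w, x₁, x₂, x₃})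
    (hM₁₁ : M₁₁ = Subgroup.closure {s, t, u, v, w, x₁, x₂}) :
    MulAction.IsMultiplyPretransitive M₁₂ (Fin 12) 5 ∧ (∀ y : Fin 5 ↪ Fin 12, MulAction.stabilizer M₁₂ y = ⊥) ∧
    Nat.card M₁₂ = 95040 ∧ Nat.card M₁₁ = 7920 ∧
    M₁₁ = M₁₂ ⊓ MulAction.stabilizer (Equiv.Perm (Fin 12)) (2 : Fin 12) := by
  have e12 : M₁₂ = Subgroup.closure S1 := by
    rw [hM₁₂, hs, ht, hu, hv, hw, hx₁, hx₂, hx₃]; rfl
  have e11 : M₁₁ = Subgroup.closure S2 := by
    rw [hM₁₁, hs, ht, hu, hv, hw, hx₁, hx₂]; rfl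
  rw [e12, e11]
  exact ⟨trans5, stab_emb, card1, card2, stab1.symm⟩

end Cfsg.Agent.S3362
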