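import Cfsg.Statements.S3380
import Cfsg.Agent.S0519
import Cfsg.Agent.S0016
import Cfsg.Agent.S0065

set_option autoImplicit false
open Cfsg

namespace Cfsg.Agent.S3380

section linalg

open Finset

variable {q : ℕ} {V : Type*} [AddCommGroup V] [Module (ZMod q) V]
  {G : Type*} [Group G] (ρ : G →* (V ≃ₗ[ZMod q] V))

/-- fixed space of a group element -/
def Fx (g : G) : Submodule (ZMod q) V where
  carrier := {v | ρ g v = v}
  add_mem' := by
    intro x y hx hy
    simp only [Set.mem_ofPred_eq] at hx hy ⊢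
    rw [map_add, hx, hy]
  zero_mem' := by simp
  smul_mem' := by
    intro c x hx
    simp only [Set.mem_ofPred_eq] at hx ⊢
    rw [map_smul, hx]

lemma mem_Fx {g : G} {v : V} : v ∈ Fx ρ g ↔ ρ g v = v := Iff.rfl

lemma rho_mul_apply (g h : G) (v : V) : ρ (g * h) v = ρ g (ρ h v) := by
  rw [map_mul]; rfl

lemma rho_one_apply (v : V) : ρ 1 v = v := by
  rw [map_one]; rfl

lemma fixed_pow {g : G} {v : V} (hv : ρ g v = v) (m : ℕ) : ρ (g ^ m) v = v := by
  induction m with
  | zero => rw [pow_zero, rho_one_apply]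
  | succ m ih => rw [pow_succ, rho_mul_apply, hv, ih]

lemma Fx_map (g x : G) :
    (Fx ρ x).map ((ρ g : V ≃ₗ[ZMod q] V) : V →ₗ[ZMod q] V) = Fx ρ (g * x * g⁻¹) := by
  ext v
  constructor
  · rintro ⟨w, hw, rfl⟩
    have hw' : ρ x w = w := hw
    show ρ (g * x * g⁻¹) (ρ g w) = ρ g w
    rw [← rho_mul_apply, inv_mul_cancel_right, rho_mul_apply, hw']
  · intro hv
    have hv' : ρ (g * x * g⁻¹) v = v := hv
    refine ⟨ρ g⁻¹ v, ?_, ?_⟩
    · show ρ x (ρ g⁻¹ v) = ρ g⁻¹ v
      conv_rhs => rw [← hv']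
      rw [← rho_mul_apply, ← rho_mul_apply]
      congr 2
      group
    · show ρ g (ρ g⁻¹ v) = v
      rw [← rho_mul_apply, mul_inv_cancel, rho_one_apply]

/-- the "norm" operator `∑_{m<p} ρ (g^m)` -/
def Nop (p : ℕ) (g : G) : V →ₗ[ZMod q] V :=
  ∑ m ∈ range p, ((ρ (g ^ m) : V ≃ₗ[ZMod q] V) : V →ₗ[ZMod q] V)

lemma Nop_apply (p : ℕ) (g : G) (v : V) : Nop ρ p g v = ∑ m ∈ range p, ρ (g ^ m) v := by
  unfold Nop
  rw [LinearMap.sum_apply]
  rfl

lemma Nop_fixed {p : ℕ} {g : G} (hg : g ^ p = 1) (v : V) :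
    ρ g (Nop ρ p g v) = Nop ρ p g v := by
  rw [Nop_apply, map_sum]
  have h1 : ∀ m ∈ range p, ρ g (ρ (g ^ m) v) = ρ (g ^ (m + 1)) v := by
    intro m _
    rw [← rho_mul_apply, pow_succ']
  rw [sum_congr rfl h1]
  have h2 := sum_range_succ' (fun m => ρ (g ^ m) v) p
  have h3 := sum_range_succ (fun m => ρ (g ^ m) v) p
  rw [h2] at h3
  simp only [hg, pow_zero] at h3
  exact add_right_cancel h3

lemma Nop_of_fixed {p : ℕ} {g : G} {v : V} (hv : ρ g v = v) : Nop ρ p g v = p • v := by
  rw [Nop_apply, sum_congr rfl (fun m _ => fixed_pow ρ hv m), sum_const, card_range]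

lemma Nop_pow_eq_zero {p : ℕ} (hp : p.Prime) {z : G} (hz : orderOf z = p)
    (hF : ∀ v : V, ρ z v = v → v = 0) {n : ℕ} (hn : ¬ p ∣ n) (v : V) :
    Nop ρ p (z ^ n) v = 0 := by
  have hzp : z ^ p = 1 := by rw [← hz]; exact pow_orderOf_eq_one z
  have h1 : ρ (z ^ n) (Nop ρ p (z ^ n) v) = Nop ρ p (z ^ n) v := by
    apply Nop_fixed
    rw [← pow_mul, mul_comm, pow_mul, hzp, one_pow]
  have hcop : Nat.Coprime n (orderOf z) := by
    rw [hz]
    exact ((Nat.Prime.coprime_iff_not_dvd hp).mpr hn).symm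
  obtain ⟨n', hn'⟩ := exists_pow_eq_self_of_coprime hcop
  apply hF
  have := fixed_pow ρ h1 n'
  rwa [hn'] at this

lemma sum_Nop {p : ℕ} (hp : p.Prime) {a z : G} (haz : Commute a z) (hz : orderOf z = p)
    (hF : ∀ v : V, ρ z v = v → v = 0) (v : V) :
    ∑ i ∈ range p, Nop ρ p (a * z ^ i) v = p • v := by
  have h1 : ∀ i ∈ range p, Nop ρ p (a * z ^ i) v = ∑ m ∈ range p, ρ (a ^ m) (ρ ((z ^ m) ^ i) v) := by
    intro i _
    rw [Nop_apply]
    apply sum_congr rfl
    intro m _
    rw [← rho_mul_apply, (haz.pow_right i).mul_pow, ← pow_mul, ← pow_mul, mul_comm i m]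
  rw [sum_congr rfl h1, sum_comm]
  have h2 : ∀ m ∈ range p, ∑ i ∈ range p, ρ (a ^ m) (ρ ((z ^ m) ^ i) v) =
      ρ (a ^ m) (Nop ρ p (z ^ m) v) := by
    intro m _
    rw [Nop_apply, map_sum]
  rw [sum_congr rfl h2]
  rw [sum_eq_single 0]
  · rw [pow_zero, pow_zero, rho_one_apply]
    exact Nop_of_fixed ρ (rho_one_apply ρ v)
  · intro m hm hm0
    have hmp : m < p := mem_range.mp hm
    have : ¬ p ∣ m := fun h => by
      have := Nat.le_of_dvd (Nat.pos_of_ne_zero hm0) h
      omega
    rw [Nop_pow_eq_zero ρ hp hz hF this, map_zero]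
  · intro h
    exact absurd (mem_range.mpr hp.pos) h

lemma Nop_other {p : ℕ} (hp : p.Prime) {a z : G} (haz : Commute a z) (hz : orderOf z = p)
    (hF : ∀ v : V, ρ z v = v → v = 0) {i j : ℕ} (hi : i < p) (hj : j < p) (hij : i ≠ j)
    {w : V} (hw : ρ (a * z ^ j) w = w) : Nop ρ p (a * z ^ i) w = 0 := by
  have hzp : z ^ p = 1 := by rw [← hz]; exact pow_orderOf_eq_one z
  set d := i + (p - j) with hd
  have hdp : ¬ p ∣ d := by
    rintro ⟨c, hc⟩
    have hc0 : c ≠ 0 := by
      rintro rfl
      omega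
    have hc1 : c ≠ 1 := by
      rintro rfl
      omega
    have h2 : p * 2 ≤ p * c := Nat.mul_le_mul_left p (by omega)
    omega
  have hcomm : Commute (z ^ d) (a * z ^ j) :=
    ((haz.symm.pow_left d).mul_right ((Commute.refl z).pow_pow d j))
  have hprod : a * z ^ i = z ^ d * (a * z ^ j) := by
    rw [hcomm.eq, mul_assoc, ← pow_add]
    have : j + d = i + p := by omega
    rw [this, pow_add, hzp, mul_one]
  rw [← Nop_pow_eq_zero ρ hp hz hF hdp w, Nop_apply, Nop_apply]
  apply sum_congr rfl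
  intro m _
  rw [hprod, hcomm.mul_pow, rho_mul_apply, fixed_pow ρ hw m]

end linalg

section grp

variable {G : Type*} [Group G]

lemma exists_normal_comm_not_cyclic [Finite G] (p : ℕ) [Fact p.Prime] (hG : IsPGroup p G)
    (hnc : ¬ IsCyclic G) (hnq : ∀ n : ℕ, ¬ Nonempty (G ≃* QuaternionGroup n))
    (hnd : ∀ n : ℕ, ¬ Nonempty (G ≃* DihedralGroup n)) (hnsd : ¬ Cfsg.IsQuasiDihedral G) :
    ∃ B : Subgroup G, B.Normal ∧ IsMulCommutative B ∧ ¬ IsCyclic B := by
  have hp : p.Prime := Fact.out
  by_contra hcon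
  have hn : ∀ A : Subgroup G, A.Normal → IsMulCommutative A → IsCyclic A := by
    intro A hA hAc
    by_contra h
    exact hcon ⟨A, hA, hAc, h⟩
  by_cases hm : ∃ B : Subgroup G, IsMulCommutative B ∧ ¬ IsCyclic B
  · obtain ⟨_, h | h | h⟩ := Cfsg.Agent.S0519.result p hG hn hm
    · obtain ⟨n, hn'⟩ := h; exact hnq n hn'
    · obtain ⟨n, _, hn'⟩ := h; exact hnd n hn'
    · exact hnsd h
  · -- all abelian subgroups are cyclic
    have hall : ∀ B : Subgroup G, IsMulCommutative B → IsCyclic B := by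
      intro B hB
      by_contra h
      exact hm ⟨B, hB, h⟩
    have hnt : Nontrivial G := by
      by_contra h
      rw [not_nontrivial_iff_subsingleton] at h
      exact hnc inferInstance
    have hnil : Group.IsNilpotent G := hG.isNilpotent
    have htop : (⊤ : Subgroup G) ⊓ Subgroup.center G ≠ ⊥ :=
      Cfsg.Agent.S0065.result (⊤ : Subgroup G) top_ne_bot
    rw [top_inf_eq] at htop
    have hcard : p ∣ Nat.card (Subgroup.center G) := by
      obtain ⟨k, hk⟩ := (hG.to_subgroup (Subgroup.center G)).exists_card_eq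
      rcases k with _ | k
      · rw [pow_zero, Subgroup.card_eq_one] at hk
        exact absurd hk htop
      · rw [hk, pow_succ]; exact dvd_mul_left _ _
    obtain ⟨z', hz'⟩ := exists_prime_orderOf_dvd_card' p hcard
    set z : G := (z' : G) with hzdef
    have hzc : z ∈ Subgroup.center G := z'.2
    have hzo : orderOf z = p := by rw [hzdef, Subgroup.orderOf_coe, hz']
    have huniq : ∀ H : Subgroup G, Nat.card H = p → H = Subgroup.zpowers z := by
      intro H hH
      -- M = H ⊔ zpowers z is abelian hence cyclic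
      have hZn : (Subgroup.zpowers z).Normal := Cfsg.Agent.S0016.zpowers_normal_of_mem_center hzc
      have hHc : IsCyclic H := by
        exact isCyclic_of_prime_card hH
      have hMc : IsMulCommutative ↥(H ⊔ Subgroup.zpowers z) := by
        rw [isMulCommutative_iff]
        have key : ∀ x ∈ H ⊔ Subgroup.zpowers z, ∀ y ∈ H ⊔ Subgroup.zpowers z, x * y = y * x := by
          intro x hx y hy
          rw [← SetLike.mem_coe, Subgroup.mul_normal, Set.mem_mul] at hx hy
          obtain ⟨h1, hh1, c1, hc1, rfl⟩ := hx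
          obtain ⟨h2, hh2, c2, hc2, rfl⟩ := hy
          have hc1' : c1 ∈ Subgroup.center G :=
            (Subgroup.zpowers_le.mpr hzc) hc1
          have hc2' : c2 ∈ Subgroup.center G :=
            (Subgroup.zpowers_le.mpr hzc) hc2
          have hh : h1 * h2 = h2 * h1 := by
            have hHm : IsMulCommutative H := IsCyclic.isMulCommutative
            have := mul_comm' (⟨h1, hh1⟩ : H) ⟨h2, hh2⟩
            exact congrArg Subtype.val this
          have e1 := Subgroup.mem_center_iff.mp hc1'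
          have e2 := Subgroup.mem_center_iff.mp hc2'
          calc h1 * c1 * (h2 * c2) = h1 * (c1 * h2) * c2 := by group
            _ = h1 * (h2 * c1) * c2 := by rw [← e1 h2]
            _ = (h1 * h2) * (c1 * c2) := by group
            _ = (h2 * h1) * (c2 * c1) := by rw [hh, ← e1 c2]
            _ = h2 * (h1 * c2) * c1 := by group
            _ = h2 * (c2 * h1) * c1 := by rw [e2 h1]
            _ = h2 * c2 * (h1 * c1) := by group
        intro x y
        exact Subtype.ext (key x x.2 y y.2)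
      have hMcyc : IsCyclic ↥(H ⊔ Subgroup.zpowers z) := hall _ hMc
      have e := Cfsg.Agent.S0519.subgroup_eq_of_card_eq
        (H.subgroupOf (H ⊔ Subgroup.zpowers z))
        ((Subgroup.zpowers z).subgroupOf (H ⊔ Subgroup.zpowers z)) (by
          rw [Nat.card_congr (Subgroup.subgroupOfEquivOfLe le_sup_left).toEquiv,
            Nat.card_congr (Subgroup.subgroupOfEquivOfLe le_sup_right).toEquiv, hH,
            Nat.card_zpowers, hzo])
      have := congrArg (Subgroup.map (H ⊔ Subgroup.zpowers z).subtype) e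
      rwa [Subgroup.subgroupOf_map_subtype, Subgroup.subgroupOf_map_subtype,
        inf_eq_left.mpr le_sup_left, inf_eq_left.mpr le_sup_right] at this
    have hU : Cfsg.Agent.S0016.Uniq p G := by
      intro H K hH hK
      rw [huniq H hH, huniq K hK]
    rcases Cfsg.Agent.S0016.result p hG hU with h | ⟨_, n, hn'⟩
    · exact hnc h
    · exact hnq _ hn'

lemma exists_data [Finite G] (p : ℕ) [Fact p.Prime] (hG : IsPGroup p G)
    (hnc : ¬ IsCyclic G) (hnq : ∀ n : ℕ, ¬ Nonempty (G ≃* QuaternionGroup n))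
    (hnd : ∀ n : ℕ, ¬ Nonempty (G ≃* DihedralGroup n)) (hnsd : ¬ Cfsg.IsQuasiDihedral G) :
    ∃ z a : G, z ∈ Subgroup.center G ∧ orderOf z = p ∧ a ^ p = 1 ∧ a ∉ Subgroup.zpowers z ∧
      ∀ g : G, ∃ k : ℕ, g * a * g⁻¹ = a * z ^ k := by
  have hp : p.Prime := Fact.out
  obtain ⟨B, hBn, hBc, hBnc⟩ := exists_normal_comm_not_cyclic p hG hnc hnq hnd hnsd
  -- Ω₁(B)
  let N : Subgroup G :=
    { carrier := {g | g ∈ B ∧ g ^ p = 1}
      mul_mem' := by
        rintro x y ⟨hx, hx1⟩ ⟨hy, hy1⟩
        refine ⟨B.mul_mem hx hy, ?_⟩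
        have hxy : Commute x y := by
          have := mul_comm' (⟨x, hx⟩ : B) ⟨y, hy⟩
          exact congrArg Subtype.val this
        rw [hxy.mul_pow, hx1, hy1, one_mul]
      one_mem' := ⟨B.one_mem, one_pow _⟩
      inv_mem' := by
        rintro x ⟨hx, hx1⟩
        exact ⟨B.inv_mem hx, by rw [inv_pow, hx1, inv_one]⟩ }
  have hNmem : ∀ g, g ∈ N ↔ g ∈ B ∧ g ^ p = 1 := fun g => Iff.rfl
  have hNn : N.Normal := by
    constructor
    intro n hn g
    rw [hNmem] at hn ⊢
    exact ⟨hBn.conj_mem n hn.1 g, by rw [conj_pow, hn.2, mul_one, mul_inv_cancel]⟩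
  -- two distinct subgroups of order p in B
  have hnotU : ¬ Cfsg.Agent.S0016.Uniq p B := by
    intro hu
    letI : CommGroup B := { (inferInstance : Group B) with mul_comm := mul_comm' }
    exact hBnc (Cfsg.Agent.S0016.isCyclic_of_comm p (hG.to_subgroup B) hu)
  unfold Cfsg.Agent.S0016.Uniq at hnotU
  push Not at hnotU
  obtain ⟨H, K, hH, hK, hHK⟩ := hnotU
  have hHN : H.map B.subtype ≤ N := by
    rintro _ ⟨x, hx, rfl⟩
    refine ⟨x.2, ?_⟩
    have : (⟨x, hx⟩ : H) ^ p = 1 := by rw [← hH]; exact pow_card_eq_one'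
    have := congrArg (fun t : H => ((t : B) : G)) this
    simpa using this
  have hKN : K.map B.subtype ≤ N := by
    rintro _ ⟨x, hx, rfl⟩
    refine ⟨x.2, ?_⟩
    have : (⟨x, hx⟩ : K) ^ p = 1 := by rw [← hK]; exact pow_card_eq_one'
    have := congrArg (fun t : K => ((t : B) : G)) this
    simpa using this
  have hHcard : Nat.card (H.map B.subtype) = p := by
    rw [Subgroup.card_map_of_injective B.subtype_injective, hH]
  have hKcard : Nat.card (K.map B.subtype) = p := by
    rw [Subgroup.card_map_of_injective B.subtype_injective, hK]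
  have hNbot : N ≠ ⊥ := by
    intro h
    rw [h] at hHN
    have := Subgroup.card_le_of_le hHN
    rw [hHcard, Subgroup.card_bot] at this
    exact absurd hp.one_lt (by omega)
  have hnil : Group.IsNilpotent G := hG.isNilpotent
  have hNZ : N ⊓ Subgroup.center G ≠ ⊥ := Cfsg.Agent.S0065.result N hNbot
  have hcard : p ∣ Nat.card ↥(N ⊓ Subgroup.center G) := by
    obtain ⟨k, hk⟩ := (hG.to_subgroup (N ⊓ Subgroup.center G)).exists_card_eq
    rcases k with _ | k
    · rw [pow_zero, Subgroup.card_eq_one] at hk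
      exact absurd hk hNZ
    · rw [hk, pow_succ]; exact dvd_mul_left _ _
  obtain ⟨z', hz'⟩ := exists_prime_orderOf_dvd_card' p hcard
  set z : G := (z' : G) with hzdef
  have hzN : z ∈ N := z'.2.1
  have hzc : z ∈ Subgroup.center G := z'.2.2
  have hzo : orderOf z = p := by rw [hzdef, Subgroup.orderOf_coe, hz']
  have hZn : (Subgroup.zpowers z).Normal := Cfsg.Agent.S0016.zpowers_normal_of_mem_center hzc
  have hZcard : Nat.card (Subgroup.zpowers z) = p := by rw [Nat.card_zpowers, hzo]
  have hNZ' : ¬ N ≤ Subgroup.zpowers z := by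
    intro hle
    have e1 : H.map B.subtype = Subgroup.zpowers z :=
      Subgroup.eq_of_le_of_card_ge (hHN.trans hle) (by rw [hHcard, hZcard])
    have e2 : K.map B.subtype = Subgroup.zpowers z :=
      Subgroup.eq_of_le_of_card_ge (hKN.trans hle) (by rw [hKcard, hZcard])
    exact hHK (Subgroup.map_injective B.subtype_injective (e1.trans e2.symm))
  obtain ⟨a, haN, haZ, _, hac⟩ := Cfsg.Agent.S0519.exists_central_mod hG (Subgroup.zpowers z) N hNZ'
  refine ⟨z, a, hzc, hzo, ((hNmem a).mp haN).2, haZ, ?_⟩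
  intro g
  have h1 := Cfsg.Agent.S0519.conj_mod_of_central (Subgroup.zpowers z) hac g
  rw [← mem_powers_iff_mem_zpowers] at h1
  obtain ⟨k, hk⟩ := h1
  refine ⟨k, ?_⟩
  have hk' : z ^ k = a⁻¹ * (g * a * g⁻¹) := hk
  rw [hk']
  group

end grp

/-- Let a finite p-group G act faithfully and irreducibly on a non-trivial finite vector space V over the field with q elements (q prime), and suppose G is not cyclic, generalized quaternion, dihedral or semidihedral. Then G has a subgroup H of index p and V is the direct sum of p subspaces, each invariant under H, on none of which H acts faithfully, and which every element of G outside H permutes in a single p-cycle. -/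
theorem result
    (q : ℕ) [Fact q.Prime] {V : Type*} [AddCommGroup V] [Module (ZMod q) V] [Finite V] [Nontrivial V]
    {G : Type*} [Group G] [Finite G] (p : ℕ) [Fact p.Prime] (hG : IsPGroup p G)
    (ρ : G →* (V ≃ₗ[ZMod q] V)) (hρ : Function.Injective ρ)
    (hirr : ∀ W : Submodule (ZMod q) V, (∀ g : G, ∀ w ∈ W, ρ g w ∈ W) → W = ⊥ ∨ W = ⊤)
    (hnc : ¬ IsCyclic G) (hnq : ∀ n : ℕ, ¬ Nonempty (G ≃* QuaternionGroup n))
    (hnd : ∀ n : ℕ, ¬ Nonempty (G ≃* DihedralGroup n)) (hnsd : ¬ Cfsg.IsQuasiDihedral G) :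
    ∃ (H : Subgroup G) (W : Fin p → Submodule (ZMod q) V), H.index = p ∧
      iSup W = ⊤ ∧ iSupIndep W ∧
      (∀ h ∈ H, ∀ i, ∀ w ∈ W i, ρ h w ∈ W i) ∧
      (∀ i, ∃ h ∈ H, h ≠ 1 ∧ ∀ w ∈ W i, ρ h w = w) ∧
      ∀ g : G, g ∉ H → ∃ σ : Equiv.Perm (Fin p), orderOf σ = p ∧ ∀ i, (W i).map (ρ g : V →ₗ[ZMod q] V) = W (σ i) := by
  classical
  have hp : p.Prime := Fact.out
  have hq : q.Prime := Fact.out
  obtain ⟨z, a, hzc, hzo, hap, haZ, hconj⟩ := exists_data p hG hnc hnq hnd hnsd
  have hzp : z ^ p = 1 := by rw [← hzo]; exact pow_orderOf_eq_one z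
  have hz1 : z ≠ 1 := by
    rintro rfl
    rw [orderOf_one] at hzo
    exact hp.one_lt.ne hzo
  have hzcomm : ∀ g : G, g * z = z * g := Subgroup.mem_center_iff.mp hzc
  have haz : Commute a z := hzcomm a
  have hmod : ∀ n : ℕ, z ^ (n % p) = z ^ n := by
    intro n
    conv_lhs => rw [← hzo]
    exact pow_mod_orderOf z n
  -- the fixed space of `z` is trivial
  have hF : ∀ v : V, ρ z v = v → v = 0 := by
    have hinv : ∀ g : G, ∀ w ∈ Fx ρ z, ρ g w ∈ Fx ρ z := by
      intro g w hw
      show ρ z (ρ g w) = ρ g w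
      rw [← rho_mul_apply, ← hzcomm g, rho_mul_apply, (hw : ρ z w = w)]
    rcases hirr (Fx ρ z) hinv with h | h
    · intro v hv
      have : v ∈ Fx ρ z := hv
      rw [h] at this
      exact (Submodule.mem_bot _).mp this
    · exfalso
      apply hz1
      apply hρ
      rw [map_one]
      ext v
      have : v ∈ Fx ρ z := by rw [h]; exact Submodule.mem_top
      exact this
  -- `p` is invertible in `ZMod q`
  have hpq : (p : ZMod q) ≠ 0 := by
    intro h0
    rw [ZMod.natCast_eq_zero_iff] at h0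
    have hqp : q = p := (Nat.prime_dvd_prime_iff_eq hq hp).mp h0
    subst hqp
    obtain ⟨v0, hv0⟩ := exists_ne (0 : V)
    have hdv : q ∣ Nat.card V := by
      have h1 : addOrderOf v0 ∣ q := by
        apply addOrderOf_dvd_of_nsmul_eq_zero
        rw [← Nat.cast_smul_eq_nsmul (ZMod q), ZMod.natCast_self, zero_smul]
      have h2 : addOrderOf v0 = q := by
        rcases (Nat.dvd_prime hq).mp h1 with h | h
        · exact absurd (AddMonoid.addOrderOf_eq_one_iff.mp h) hv0
        · exact h
      rw [← h2]; exact addOrderOf_dvd_natCard v0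
    letI : MulAction G V := MulAction.compHom V ρ
    have h0fix : (0 : V) ∈ MulAction.fixedPoints G V := by
      intro g
      show ρ g 0 = 0
      exact map_zero _
    obtain ⟨b, hb, hb0⟩ := hG.exists_fixed_point_of_prime_dvd_card_of_fixed_point V hdv h0fix
    exact hb0 (hF b (hb z)).symm
  have hinvp : ∀ x : V, x = (p : ZMod q)⁻¹ • ((p : ℕ) • x) := by
    intro x
    rw [← Nat.cast_smul_eq_nsmul (ZMod q), smul_smul, inv_mul_cancel₀ hpq, one_smul]
  have hpowp : ∀ i : ℕ, (a * z ^ i) ^ p = 1 := by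
    intro i
    rw [(haz.pow_right i).mul_pow, hap, one_mul, ← pow_mul, mul_comm, pow_mul, hzp, one_pow]
  have hne1 : ∀ i : ℕ, a * z ^ i ≠ 1 := by
    intro i h
    apply haZ
    have : a = (z ^ i)⁻¹ := eq_inv_of_mul_eq_one_left h
    rw [this]
    exact Subgroup.inv_mem _ (Subgroup.pow_mem _ (Subgroup.mem_zpowers z) i)
  let W : Fin p → Submodule (ZMod q) V := fun i => Fx ρ (a * z ^ (i : ℕ))
  have hsup : iSup W = ⊤ := by
    rw [eq_top_iff]
    intro v _
    have h1 := sum_Nop ρ hp haz hzo hF v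
    have h2 : (p : ℕ) • v ∈ iSup W := by
      rw [← h1]
      apply Submodule.sum_mem
      intro i hi
      have hi' : i < p := Finset.mem_range.mp hi
      have : Nop ρ p (a * z ^ i) v ∈ W ⟨i, hi'⟩ := by
        show ρ (a * z ^ i) _ = _
        exact Nop_fixed ρ (hpowp i) v
      exact (le_iSup W ⟨i, hi'⟩) this
    rw [hinvp v]
    exact Submodule.smul_mem _ _ h2
  have hind : iSupIndep W := by
    intro i
    rw [Submodule.disjoint_def]
    intro x hx hx'
    have hker : (⨆ j, ⨆ (_ : j ≠ i), W j) ≤ LinearMap.ker (Nop ρ p (a * z ^ (i : ℕ))) := by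
      apply iSup_le; intro j; apply iSup_le; intro hj
      intro w hw
      rw [LinearMap.mem_ker]
      exact Nop_other ρ hp haz hzo hF i.2 j.2 (fun h => hj (Fin.ext h).symm) hw
    have h1 : Nop ρ p (a * z ^ (i : ℕ)) x = 0 := LinearMap.mem_ker.mp (hker hx')
    rw [Nop_of_fixed ρ (hx : ρ (a * z ^ (i : ℕ)) x = x)] at h1
    rw [hinvp x, h1, smul_zero]
  -- the subgroup `H`
  have hcent : ∀ g : G, a⁻¹ * (g * a * g⁻¹) ∈ Subgroup.zpowers z := by
    intro g
    obtain ⟨k, hk⟩ := hconj g
    rw [hk, inv_mul_cancel_left]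
    exact Subgroup.pow_mem _ (Subgroup.mem_zpowers z) k
  have hcentc : ∀ g x : G, x * (a⁻¹ * (g * a * g⁻¹)) = (a⁻¹ * (g * a * g⁻¹)) * x := by
    intro g x
    exact Subgroup.mem_center_iff.mp ((Subgroup.zpowers_le.mpr hzc) (hcent g)) x
  let f : G →* G :=
    { toFun := fun g => a⁻¹ * (g * a * g⁻¹)
      map_one' := by simp
      map_mul' := by
        intro g h
        have e1 : g * h * a * (g * h)⁻¹ = g * a * ((a⁻¹ * (h * a * h⁻¹)) * g⁻¹) := by group
        rw [e1, ← hcentc h g⁻¹]
        group }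
  have hfapp : ∀ g, f g = a⁻¹ * (g * a * g⁻¹) := fun g => rfl
  set H : Subgroup G := Subgroup.centralizer {a} with hH
  have hker : f.ker = H := by
    ext g
    rw [MonoidHom.mem_ker, hfapp, hH, Subgroup.mem_centralizer_singleton_iff]
    constructor
    · intro h
      have : g * a * g⁻¹ = a := by
        have := congrArg (fun t => a * t) h
        simpa using this
      calc g * a = (g * a * g⁻¹) * g := by group
        _ = a * g := by rw [this]
    · intro h
      rw [h]; group
  have hrange : f.range ≤ Subgroup.zpowers z := by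
    rintro _ ⟨g, rfl⟩
    exact hcent g
  have hidx : H.index = 1 ∨ H.index = p := by
    have h1 : H.index = Nat.card f.range := by rw [← hker]; exact Subgroup.index_ker f
    have h2 : Nat.card f.range ∣ p := by
      have := Subgroup.card_dvd_of_le hrange
      rwa [Nat.card_zpowers, hzo] at this
    rw [h1]
    exact (Nat.dvd_prime hp).mp h2
  have hidxp : H.index = p := by
    rcases hidx with h | h
    · exfalso
      rw [Subgroup.index_eq_one] at h
      have hac : ∀ g : G, g * a = a * g := by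
        intro g
        have : g ∈ H := by rw [h]; exact Subgroup.mem_top g
        rwa [hH, Subgroup.mem_centralizer_singleton_iff] at this
      have hWbot : ∀ i : Fin p, W i = ⊥ := by
        intro i
        have hinv : ∀ g : G, ∀ w ∈ W i, ρ g w ∈ W i := by
          intro g w hw
          show ρ (a * z ^ (i : ℕ)) (ρ g w) = ρ g w
          have hc : a * z ^ (i : ℕ) * g = g * (a * z ^ (i : ℕ)) :=
            (Commute.mul_right (hac g) (Commute.pow_right (hzcomm g) _)).eq.symm
          rw [← rho_mul_apply, hc, rho_mul_apply, (hw : ρ (a * z ^ (i : ℕ)) w = w)]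
        rcases hirr (W i) hinv with h' | h'
        · exact h'
        · exfalso
          apply hne1 (i : ℕ)
          apply hρ
          rw [map_one]
          ext v
          have : v ∈ W i := by rw [h']; exact Submodule.mem_top
          exact this
      have : iSup W = ⊥ := by
        rw [iSup_eq_bot]; exact hWbot
      rw [hsup] at this
      exact top_ne_bot this
    · exact h
  refine ⟨H, W, hidxp, hsup, hind, ?_, ?_, ?_⟩
  · intro h hh i w hw
    rw [hH, Subgroup.mem_centralizer_singleton_iff] at hh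
    show ρ (a * z ^ (i : ℕ)) (ρ h w) = ρ h w
    have hc : a * z ^ (i : ℕ) * h = h * (a * z ^ (i : ℕ)) :=
      (Commute.mul_right hh (Commute.pow_right (hzcomm h) _)).eq.symm
    rw [← rho_mul_apply, hc, rho_mul_apply, (hw : ρ (a * z ^ (i : ℕ)) w = w)]
  · intro i
    refine ⟨a * z ^ (i : ℕ), ?_, hne1 _, fun w hw => hw⟩
    rw [hH, Subgroup.mem_centralizer_singleton_iff]
    exact ((Commute.refl a).mul_left (haz.symm.pow_left _)).eq
  · intro g hg
    obtain ⟨k, hk⟩ := hconj g
    have hkp : ¬ p ∣ k := by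
      intro hdvd
      apply hg
      rw [hH, Subgroup.mem_centralizer_singleton_iff]
      have : z ^ k = 1 := by
        rw [← hzo] at hdvd
        exact orderOf_dvd_iff_pow_eq_one.mp hdvd
      rw [this, mul_one] at hk
      calc g * a = (g * a * g⁻¹) * g := by group
        _ = a * g := by rw [hk]
    haveI : NeZero p := ⟨hp.ne_zero⟩
    let c : Fin p := ⟨k % p, Nat.mod_lt _ hp.pos⟩
    have hc0 : c ≠ 0 := by
      intro h
      have := congrArg Fin.val h
      simp only [c, Fin.val_zero] at this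
      exact hkp (Nat.dvd_of_mod_eq_zero this)
    let σ : Equiv.Perm (Fin p) := Equiv.addRight c
    have hσpow : ∀ (m : ℕ) (i : Fin p), (σ ^ m) i = i + m • c := by
      intro m
      induction m with
      | zero => intro i; simp
      | succ m ih =>
        intro i
        rw [pow_succ, Equiv.Perm.mul_apply, ih, succ_nsmul]
        show i + c + m • c = i + (m • c + c)
        abel
    refine ⟨σ, ?_, ?_⟩
    · apply orderOf_eq_prime
      · ext i
        rw [hσpow]
        have : p • c = 0 := by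
          have := card_nsmul_eq_zero' (G := Fin p) (x := c)
          rwa [Nat.card_eq_fintype_card, Fintype.card_fin] at this
        rw [this, add_zero]
        rfl
      · intro h
        have := congrArg (fun τ : Equiv.Perm (Fin p) => τ 0) h
        simp only [σ, Equiv.coe_addRight, zero_add, Equiv.Perm.coe_one, id_eq] at this
        exact hc0 this
    · intro i
      show (Fx ρ (a * z ^ (i : ℕ))).map _ = Fx ρ (a * z ^ ((σ i : Fin p) : ℕ))
      rw [Fx_map]
      congr 1
      have hval : ((σ i : Fin p) : ℕ) = ((i : ℕ) + k % p) % p := by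
        show ((i + c : Fin p) : ℕ) = _
        rw [Fin.val_add]
      rw [hval, hmod, pow_add, hmod]
      have : g * (a * z ^ (i : ℕ)) * g⁻¹ = (g * a * g⁻¹) * z ^ (i : ℕ) := by
        have hzi : g⁻¹ * z ^ (i : ℕ) = z ^ (i : ℕ) * g⁻¹ :=
          (Commute.pow_right (hzcomm g⁻¹) _).eq
        calc g * (a * z ^ (i : ℕ)) * g⁻¹ = g * a * (z ^ (i : ℕ) * g⁻¹) := by group
          _ = g * a * (g⁻¹ * z ^ (i : ℕ)) := by rw [hzi]
          _ = (g * a * g⁻¹) * z ^ (i : ℕ) := by group
      rw [this, hk, mul_assoc, (Commute.pow_pow (Commute.refl z) k _).eq]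

end Cfsg.Agent.S3380
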