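import Cfsg.Statements.S3371
import Mathlib
import Cfsg.Agent.Lib.Helper53.HalfTrans
import Cfsg.Agent.Lib.Helper53.HalfTransDih
import Cfsg.Agent.Lib.Helper53.HalfTransOdd
import Cfsg.Agent.Lib.Helper53.HalfTransTwoB
import Cfsg.Agent.Lib.Helper53.QuatAut
import Cfsg.Agent.S3380

set_option autoImplicit false
open Cfsg
open Cfsg.Agent.Lib.Helper53

namespace Cfsg.Agent.S3371

/-- Let q be a prime, V a non-trivial finite vector space over the field with q elements, and G a finite p-group (p prime) acting faithfully and linearly on V such that all G-orbits on the non-zero vectors have the same size. Then one of the following holds: G is cyclic or generalized quaternion and acts semiregularly on the non-zero vectors; or V has q² elements with q = 2^m − 1 and G is dihedral of order 2^(m+1) or semidihedral of order 2^(m+2); or V has q² elements with q = 2^m + 1 and, in suitable coordinates V = F_q², G is exactly the group of maps (x,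 y) ↦ (a x, ± a⁻¹ y) and (x, y) ↦ (± a⁻¹ y, a x) with a ≠ 0; or V has 81 elements (q = 3) and G is a 2-group. -/
theorem result (q : ℕ) [Fact q.Prime] {V : Type*} [AddCommGroup V] [Module (ZMod q) V] [Finite V] [Nontrivial V]
    {G : Type*} [Group G] [Finite G] (p : ℕ) [Fact p.Prime] (hG : IsPGroup p G)
    (ρ : G →* (V ≃ₗ[ZMod q] V)) (hρ : Function.Injective ρ)
    (hhalf : ∀ v w : V, v ≠ 0 → w ≠ 0 → Nat.card {u : V | ∃ g : G, ρ g v = u} = Nat.card {u : V | ∃ g : G, ρ g w = u}) :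
    ((IsCyclic G ∨ ∃ n : ℕ, Nonempty (G ≃* QuaternionGroup n)) ∧ ∀ v : V, v ≠ 0 → ∀ g : G, ρ g v = v → g = 1) ∨
    (Nat.card V = q ^ 2 ∧ ∃ m : ℕ, q = 2 ^ m - 1 ∧
      (Nonempty (G ≃* DihedralGroup (2 ^ m)) ∨ (Cfsg.IsQuasiDihedral G ∧ Nat.card G = 2 ^ (m + 2)))) ∨
    (Nat.card V = q ^ 2 ∧ (∃ m : ℕ, q = 2 ^ m + 1) ∧
      ∃ e : V ≃ₗ[ZMod q] (Fin 2 → ZMod q), ∀ f : (Fin 2 → ZMod q) ≃ₗ[ZMod q] (Fin 2 → ZMod q),
        (∃ g : G, f = e.symm.trans ((ρ g).trans e)) ↔
        ∃ a s : ZMod q, a ≠ 0 ∧ (s = 1 ∨ s = -1) ∧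
          ((∀ v, f v = ![a * v 0, s * a⁻¹ * v 1]) ∨ (∀ v, f v = ![s * a⁻¹ * v 1, a * v 0]))) ∨
    (Nat.card V = 81 ∧ q = 3 ∧ p = 2) := by
  classical
  have hst : ∀ v w : V, v ≠ 0 → w ≠ 0 →
      Nat.card (HalfTrans.stab ρ v) = Nat.card (HalfTrans.stab ρ w) :=
    fun v w hv hw => HalfTrans.card_stab_eq ρ hhalf hv hw
  by_cases hsr : ∀ v : V, v ≠ 0 → ∀ g : G, ρ g v = v → g = 1
  · left
    exact ⟨HalfTrans.cyclic_or_quaternion_of_semiregular ρ p hG hsr, hsr⟩
  right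
  push Not at hsr
  obtain ⟨v₀, hv₀, g₀, hg₀v, hg₀1⟩ := hsr
  have hns : ∃ v : V, v ≠ 0 ∧ ∃ g : G, g ≠ 1 ∧ ρ g v = v := ⟨v₀, hv₀, g₀, hg₀1, hg₀v⟩
  have hntG : Nontrivial G := ⟨⟨g₀, 1, hg₀1⟩⟩
  have hcop := HalfTrans.card_cast_ne_zero ρ hρ p hG hst
  have hirr := HalfTrans.irreducible_of_not_semiregular ρ hρ hcop hst hns
  have hfpf : ∀ z ∈ Subgroup.center G, z ≠ 1 → ∀ v : V, ρ z v = v → v = 0 :=
    fun z hz hz1 v hv => HalfTrans.central_fpf ρ hρ hirr hz hz1 hv
  have hncomm := HalfTrans.not_comm_of_not_semiregular ρ hfpf hns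
  have hnc : ¬ IsCyclic G := by
    intro hc
    apply hncomm
    intro a b
    exact (IsCyclic.isMulCommutative (α := G)).is_comm.comm a b
  have hnq : ∀ n : ℕ, ¬ Nonempty (G ≃* QuaternionGroup n) := by
    rintro n ⟨e⟩
    have ho : orderOf (e.symm (QuaternionGroup.a 1)) = 2 * n := by
      rw [MulEquiv.orderOf_eq, QuaternionGroup.orderOf_a_one]
    have hn0 : n ≠ 0 := by
      intro h
      have h0 : orderOf (e.symm (QuaternionGroup.a 1)) = 0 := by rw [ho, h]
      exact (orderOf_pos (e.symm (QuaternionGroup.a 1))).ne' h0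
    have : NeZero n := ⟨hn0⟩
    obtain ⟨j, hj⟩ := hG.exists_card_eq
    have hp2 : p = 2 := by
      have h1 : 2 * n ∣ p ^ j := by rw [← hj, ← ho]; exact orderOf_dvd_natCard _
      have h2 : 2 ∣ p ^ j := dvd_trans (dvd_mul_right 2 n) h1
      exact ((Nat.prime_dvd_prime_iff_eq Nat.prime_two Fact.out).mp
        (Nat.prime_two.dvd_of_dvd_pow h2)).symm
    subst hp2
    have huniq := uniq_order_two_of_injective (e : G →* QuaternionGroup n) e.injective
    exact hg₀1 (HalfTrans.semiregular_of_unique_order_p ρ hρ 2 hG huniq hst v₀ hv₀ g₀ hg₀v)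
  by_cases hd : ∃ n : ℕ, Nonempty (G ≃* DihedralGroup n)
  · left
    obtain ⟨n, ⟨e⟩⟩ := hd
    obtain ⟨hV, m, hm, hiso⟩ := HalfTrans.dihedral_case ρ hρ p hG hst hfpf hns e
    exact ⟨hV, m, hm, Or.inl hiso⟩
  by_cases hqd : Cfsg.IsQuasiDihedral G
  · left
    obtain ⟨hV, m, hm, h2⟩ := HalfTrans.qd_case ρ hρ hst hfpf hns hqd
    exact ⟨hV, m, hm, Or.inr h2⟩
  right
  have hd' : ∀ n : ℕ, ¬ Nonempty (G ≃* DihedralGroup n) := fun n hn => hd ⟨n, hn⟩
  obtain ⟨H, W, hidx, hsup, hind, hH, hK, hperm⟩ :=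
    Cfsg.Agent.S3380.result q p hG ρ hρ hirr hnc hnq hd' hqd
  by_cases hp2 : p = 2
  swap
  · exact (HalfTrans.imprimitive_odd_false ρ hp2 hρ hst hns H W hidx hsup hind hH hperm).elim
  subst hp2
  have hq2 : q ≠ 2 := by
    intro h
    apply hcop
    rcases hG.card_eq_or_dvd with h1 | h1
    · exact absurd h1 (Finite.one_lt_card (α := G)).ne'
    · rw [ZMod.natCast_eq_zero_iff, h]; exact h1
  have hcompl : IsCompl (W 0) (W 1) := by
    constructor
    · exact hind.pairwiseDisjoint (by decide : (0 : Fin 2) ≠ 1)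
    · rw [codisjoint_iff, eq_top_iff, ← hsup]
      apply iSup_le
      intro i
      fin_cases i
      · exact le_sup_left
      · exact le_sup_right
  have hsw : ∀ g : G, g ∉ H → (∀ w ∈ W 0, ρ g w ∈ W 1) ∧ (∀ w ∈ W 1, ρ g w ∈ W 0) := by
    intro g hg
    obtain ⟨σ, hσ, hWσ⟩ := hperm g hg
    have h0 : σ 0 = 1 := by
      have := HalfTrans.perm_no_fixed_of_order_prime σ hσ 0
      have h2 : ∀ x : Fin 2, x ≠ 0 → x = 1 := by decide
      exact h2 _ this
    have h1 : σ 1 = 0 := by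
      have := HalfTrans.perm_no_fixed_of_order_prime σ hσ 1
      have h2 : ∀ x : Fin 2, x ≠ 1 → x = 0 := by decide
      exact h2 _ this
    constructor
    · intro w hw
      have := hWσ 0
      rw [h0] at this
      rw [← this]
      exact Submodule.mem_map_of_mem hw
    · intro w hw
      have := hWσ 1
      rw [h1] at this
      rw [← this]
      exact Submodule.mem_map_of_mem hw
  have d : HalfTrans.Imp2 ρ H (W 0) (W 1) :=
    { hq2 := hq2, inj := hρ, hG := hG, hst := hst, hfpf := hfpf, hidx := hidx, hc := hcompl,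
      hH0 := fun h hh w hw => hH h hh 0 w hw, hH1 := fun h hh w hw => hH h hh 1 w hw,
      hK0 := hK 0, hK1 := hK 1,
      hsw0 := fun g hg => (hsw g hg).1, hsw1 := fun g hg => (hsw g hg).2 }
  obtain ⟨k0, k1, e⟩ := d.exists_k
  have hcardV := d.card_V
  rw [d.card_W1] at hcardV
  rcases e.block_card with ⟨hW0, hm⟩ | ⟨hq3, hW0⟩
  · left
    refine ⟨by rw [hcardV, hW0, pow_two], hm, e.coords hW0⟩
  · right
    exact ⟨by rw [hcardV, hW0], hq3, rfl⟩

end Cfsg.Agent.S3371
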