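import Cfsg.Statements.S3375
-- import your own Cfsg.Agent.* helpers here

set_option autoImplicit false
open Cfsg

namespace Cfsg.Agent.S3375

theorem gamma_gamma {H : Type*} [Group H] (γ : MulAut H) (hγ : orderOf γ = 2) (h : H) :
    γ (γ h) = h := by
  have h2 : γ ^ 2 = 1 := by rw [← hγ]; exact pow_orderOf_eq_one γ
  have : (γ ^ 2) h = h := by rw [h2]; rfl
  simpa [pow_two, MulAut.mul_apply] using this

/-- Part (i). -/
theorem part_one {H : Type*} [Group H] [Finite H] (γ : MulAut H) (hγ : orderOf γ = 2)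
    (hfpf : ∀ h : H, γ h = h → h = 1) :
    (∀ a b : H, a * b = b * a) ∧ ∀ h : H, γ h = h⁻¹ := by
  have hinj : Function.Injective (fun h : H => h * (γ h)⁻¹) := by
    intro h k hk
    simp only at hk
    have h1 : γ (k⁻¹ * h) = k⁻¹ * h := by
      rw [map_mul, map_inv]
      have : k⁻¹ * h = (γ k)⁻¹ * γ h := by
        calc k⁻¹ * h = k⁻¹ * (h * (γ h)⁻¹) * γ h := by group
          _ = k⁻¹ * (k * (γ k)⁻¹) * γ h := by rw [hk]
          _ = (γ k)⁻¹ * γ h := by group
      exact this.symm
    have := hfpf _ h1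
    calc h = k * (k⁻¹ * h) := by group
      _ = k := by rw [this, mul_one]
  have hsurj := Finite.surjective_of_injective hinj
  have hinv : ∀ h : H, γ h = h⁻¹ := by
    intro x
    obtain ⟨h, rfl⟩ := hsurj x
    simp only [map_mul, map_inv, gamma_gamma γ hγ]
    group
  refine ⟨?_, hinv⟩
  intro a b
  have h1 := hinv (a * b)
  rw [map_mul, hinv a, hinv b] at h1
  have h2 : (a⁻¹ * b⁻¹)⁻¹ = ((a * b)⁻¹)⁻¹ := by rw [h1]
  simpa using h2.symm

/-- From an index-two subgroup produce a `γ`-invariant one. -/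
theorem exists_invariant {H : Type*} [Group H] (γ : MulAut H) (hγ : orderOf γ = 2)
    (M : Subgroup H) (hM : M.index = 2) :
    ∃ M' : Subgroup H, M'.index = 2 ∧ ∀ h, h ∈ M' ↔ γ h ∈ M' := by
  by_cases hinv : ∀ h, h ∈ M ↔ γ h ∈ M
  · exact ⟨M, hM, hinv⟩
  · push Not at hinv
    obtain ⟨a, ha⟩ := hinv
    let M₃ : Subgroup H :=
      { carrier := {h | h ∈ M ↔ γ h ∈ M}
        one_mem' := by simp [M.one_mem]
        mul_mem' := by
          intro x y hx hy
          simp only [Set.mem_ofPred_eq] at hx hy ⊢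
          rw [map_mul, Subgroup.mul_mem_iff_of_index_two hM, Subgroup.mul_mem_iff_of_index_two hM,
            hx, hy]
        inv_mem' := by
          intro x hx
          simp only [Set.mem_ofPred_eq] at hx ⊢
          rw [map_inv, inv_mem_iff, inv_mem_iff, hx] }
    have hmem : ∀ h, h ∈ M₃ ↔ (h ∈ M ↔ γ h ∈ M) := fun h => Iff.rfl
    refine ⟨M₃, ?_, ?_⟩
    · rw [Subgroup.index_eq_two_iff]
      refine ⟨a, fun b => ?_⟩
      rw [hmem, hmem, map_mul, Subgroup.mul_mem_iff_of_index_two hM,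
        Subgroup.mul_mem_iff_of_index_two hM]
      unfold Xor
      by_cases h1 : a ∈ M <;> by_cases h2 : γ a ∈ M <;> by_cases h3 : b ∈ M <;>
        by_cases h4 : γ b ∈ M <;> simp_all
    · intro h
      rw [hmem, hmem, gamma_gamma γ hγ]
      tauto

/-- Part (ii) for a `γ`-invariant subgroup of index two. -/
theorem part_two_aux {H : Type*} [Group H] [Finite H] (γ : MulAut H) (hγ : orderOf γ = 2)
    (hfix : Nat.card {h : H // γ h = h} = 2)
    (M : Subgroup H) (hM : M.index = 2) (hMinv : ∀ h, h ∈ M ↔ γ h ∈ M) :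
    ∀ a ∈ M, γ a = a⁻¹ := by
  -- the fixed point subgroup
  let F : Subgroup H :=
    { carrier := {h | γ h = h}
      one_mem' := by simp
      mul_mem' := by
        intro x y hx hy
        simp only [Set.mem_ofPred_eq] at hx hy ⊢
        rw [map_mul, hx, hy]
      inv_mem' := by
        intro x hx
        simp only [Set.mem_ofPred_eq] at hx ⊢
        rw [map_inv, hx] }
  have hFmem : ∀ h, h ∈ F ↔ γ h = h := fun h => Iff.rfl
  have hFcard : Nat.card F = 2 := hfix
  have hmemM : ∀ h : H, h * (γ h)⁻¹ ∈ M := by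
    intro h
    rw [Subgroup.mul_mem_iff_of_index_two hM, inv_mem_iff]
    exact hMinv h
  -- the map `H ⧸ F → M`
  let φ : H ⧸ F → M := Quotient.lift (fun h : H => (⟨h * (γ h)⁻¹, hmemM h⟩ : M)) (by
    intro h k hk
    have hk' : h⁻¹ * k ∈ F := QuotientGroup.leftRel_apply.mp hk
    rw [hFmem, map_mul, map_inv] at hk'
    apply Subtype.ext
    simp only
    have h1 : γ k = γ h * (h⁻¹ * k) := by rw [← hk']; group
    rw [h1]; group)
  have hφ : ∀ h : H, φ (QuotientGroup.mk h) = ⟨h * (γ h)⁻¹, hmemM h⟩ := fun h => rfl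
  have hinj : Function.Injective φ := by
    intro x y
    induction x using QuotientGroup.induction_on with
    | H h =>
      induction y using QuotientGroup.induction_on with
      | H k =>
        intro hxy
        rw [hφ, hφ] at hxy
        have hxy' : h * (γ h)⁻¹ = k * (γ k)⁻¹ := congrArg Subtype.val hxy
        rw [QuotientGroup.eq, hFmem, map_mul, map_inv]
        calc (γ h)⁻¹ * γ k = (γ h)⁻¹ * (k * (γ k)⁻¹)⁻¹ * k := by group
          _ = (γ h)⁻¹ * (h * (γ h)⁻¹)⁻¹ * k := by rw [hxy']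
          _ = h⁻¹ * k := by group
  have hcard : Nat.card M ≤ Nat.card (H ⧸ F) := by
    have h1 := Subgroup.card_eq_card_quotient_mul_card_subgroup F
    have h2 := Subgroup.card_mul_index M
    rw [hFcard] at h1
    rw [hM] at h2
    omega
  have hbij := Function.Injective.bijective_of_nat_card_le hinj hcard
  intro a ha
  obtain ⟨x, hx⟩ := hbij.2 ⟨a, ha⟩
  induction x using QuotientGroup.induction_on with
  | H h =>
    rw [hφ] at hx
    have hx' : h * (γ h)⁻¹ = a := congrArg Subtype.val hx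
    rw [← hx', map_mul, map_inv, gamma_gamma γ hγ]
    group

/-- Let γ be an automorphism of order 2 of a finite group H. (i) If γ fixes only the identity, then H is abelian and γ inverts every element. (ii) If γ has exactly two fixed points and H has a subgroup of index 2, then H has a γ-invariant abelian subgroup of index 2 on which γ acts by inversion. -/
theorem result {H : Type*} [Group H] [Finite H] (γ : MulAut H) (hγ : orderOf γ = 2) :
    ((∀ h : H, γ h = h → h = 1) → (∀ a b : H, a * b = b * a) ∧ ∀ h : H, γ h = h⁻¹) ∧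
    ((Nat.card {h : H // γ h = h} = 2 ∧ ∃ M : Subgroup H, M.index = 2) →
      ∃ A : Subgroup H, A.index = 2 ∧ IsMulCommutative A ∧ (∀ a ∈ A, γ a ∈ A) ∧ ∀ a ∈ A, γ a = a⁻¹) := by
  refine ⟨part_one γ hγ, ?_⟩
  rintro ⟨hfix, M, hM⟩
  obtain ⟨A, hA, hAinv⟩ := exists_invariant γ hγ M hM
  have hinv := part_two_aux γ hγ hfix A hA hAinv
  refine ⟨A, hA, ?_, fun a ha => (hAinv a).1 ha, hinv⟩
  refine ⟨⟨fun a b => ?_⟩⟩
  apply Subtype.ext
  have h1 := hinv _ (A.mul_mem a.2 b.2)
  rw [map_mul, hinv _ a.2, hinv _ b.2] at h1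
  have h2 : ((a : H)⁻¹ * (b : H)⁻¹)⁻¹ = (((a : H) * (b : H))⁻¹)⁻¹ := by rw [h1]
  simpa using h2.symm

end Cfsg.Agent.S3375
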