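-- Statement S3376 (row 3376).
import Cfsg.Statements.S3376
import Cfsg.Agent.Lib.Helper56.C3wrS3Table

set_option autoImplicit false
set_option linter.unusedVariables false
set_option linter.unusedSimpArgs false
set_option linter.unusedSectionVars false
open Cfsg
open Cfsg.Agent.Lib.Helper56.C3wrS3

namespace Cfsg.Agent.S3376

/-! ## The presented group -/

abbrev fv : FreeGroup (Fin 3) := FreeGroup.of 0
abbrev fs : FreeGroup (Fin 3) := FreeGroup.of 1
abbrev ft : FreeGroup (Fin 3) := FreeGroup.of 2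

/-- The relators. -/
def rels : Set (FreeGroup (Fin 3)) :=
  {fv ^ 3, fs ^ 3, ft ^ 2, ft * fs * ft * fs, ft * fv * ft⁻¹ * fv⁻¹,
    fv * fs * fv * fs⁻¹ * fv⁻¹ * fs * fv⁻¹ * fs⁻¹}

abbrev P := PresentedGroup rels

def pV : P := PresentedGroup.of 0
def pS : P := PresentedGroup.of 1
def pT : P := PresentedGroup.of 2

theorem mem0 : fv ^ 3 ∈ rels := Set.mem_insert _ _
theorem mem1 : fs ^ 3 ∈ rels := Set.mem_insert_of_mem _ (Set.mem_insert _ _)
theorem mem2 : ft ^ 2 ∈ rels :=
  Set.mem_insert_of_mem _ (Set.mem_insert_of_mem _ (Set.mem_insert _ _))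
theorem mem3 : ft * fs * ft * fs ∈ rels :=
  Set.mem_insert_of_mem _ (Set.mem_insert_of_mem _ (Set.mem_insert_of_mem _ (Set.mem_insert _ _)))
theorem mem4 : ft * fv * ft⁻¹ * fv⁻¹ ∈ rels :=
  Set.mem_insert_of_mem _ (Set.mem_insert_of_mem _ (Set.mem_insert_of_mem _
    (Set.mem_insert_of_mem _ (Set.mem_insert _ _))))
theorem mem5 : fv * fs * fv * fs⁻¹ * fv⁻¹ * fs * fv⁻¹ * fs⁻¹ ∈ rels :=
  Set.mem_insert_of_mem _ (Set.mem_insert_of_mem _ (Set.mem_insert_of_mem _
    (Set.mem_insert_of_mem _ (Set.mem_insert_of_mem _ (Set.mem_singleton _)))))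

theorem p_hr0 : pV * (pV * (pV * 1)) = 1 := by
  have h : PresentedGroup.mk rels (fv ^ 3) = 1 := PresentedGroup.one_of_mem mem0
  rw [map_pow] at h
  rw [mul_one, ← mul_assoc]
  rw [pow_succ, pow_two] at h
  exact h

theorem p_hr1 : pS * (pS * (pS * 1)) = 1 := by
  have h : PresentedGroup.mk rels (fs ^ 3) = 1 := PresentedGroup.one_of_mem mem1
  rw [map_pow] at h
  rw [mul_one, ← mul_assoc]
  rw [pow_succ, pow_two] at h
  exact h

theorem p_hr2 : pT * (pT * 1) = 1 := by
  have h : PresentedGroup.mk rels (ft ^ 2) = 1 := PresentedGroup.one_of_mem mem2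
  rw [map_pow] at h
  rw [mul_one]
  rw [pow_two] at h
  exact h

theorem p_hr3 : pT * (pS * (pT * (pS * 1))) = 1 := by
  have h := PresentedGroup.one_of_mem mem3
  rw [map_mul, map_mul, map_mul] at h
  rw [mul_one, ← mul_assoc, ← mul_assoc]
  exact h

theorem p_hr4 : pT * (pV * (pT⁻¹ * (pV⁻¹ * 1))) = 1 := by
  have h := PresentedGroup.one_of_mem mem4
  rw [map_mul, map_mul, map_mul, map_inv, map_inv] at h
  rw [mul_one, ← mul_assoc, ← mul_assoc]
  exact h

theorem p_hr5 : pV * (pS * (pV * (pS⁻¹ * (pV⁻¹ * (pS * (pV⁻¹ * (pS⁻¹ * 1))))))) = 1 := by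
  have h := PresentedGroup.one_of_mem mem5
  simp only [map_mul, map_inv] at h
  rw [mul_one]
  simp only [← mul_assoc]
  exact h

theorem p_gen : Subgroup.closure ({pV, pS, pT} : Set P) = ⊤ := by
  have h := PresentedGroup.closure_range_of rels
  have h2 : Set.range (PresentedGroup.of : Fin 3 → P) = {pV, pS, pT} := by
    ext x
    constructor
    · rintro ⟨i, rfl⟩
      fin_cases i
      · exact Or.inl rfl
      · exact Or.inr (Or.inl rfl)
      · exact Or.inr (Or.inr rfl)
    · rintro (rfl | rfl | rfl)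
      exacts [⟨0, rfl⟩, ⟨1, rfl⟩, ⟨2, rfl⟩]
  rw [h2] at h
  exact h

theorem p_surj : Function.Surjective (gAll pV pS pT) :=
  gAll_surjective pV pS pT p_hr0 p_hr1 p_hr2 p_hr3 p_hr4 p_hr5 p_gen

instance p_finite : Finite P := Finite.of_surjective _ p_surj

theorem p_card : Nat.card P ≤ 162 := by
  have := Nat.card_le_card_of_surjective _ p_surj
  simpa using this

/-- A homomorphism from `P` determined by elements satisfying the relations. -/
theorem rels_of {M : Type*} [Group M] (v s t : M) (hv : v ^ 3 = 1) (hs : s ^ 3 = 1)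
    (ht : t ^ 2 = 1) (hts : t * s * t * s = 1) (htv : t * v * t⁻¹ * v⁻¹ = 1)
    (hvs : v * s * v * s⁻¹ * v⁻¹ * s * v⁻¹ * s⁻¹ = 1) :
    ∀ r ∈ rels, FreeGroup.lift ![v, s, t] r = 1 := by
  intro r hr
  simp only [rels, Set.mem_insert_iff, Set.mem_singleton_iff] at hr
  rcases hr with rfl | rfl | rfl | rfl | rfl | rfl
  · rw [map_pow, FreeGroup.lift_apply_of]; exact hv
  · rw [map_pow, FreeGroup.lift_apply_of]; exact hs
  · rw [map_pow, FreeGroup.lift_apply_of]; exact ht
  · simp only [map_mul, FreeGroup.lift_apply_of]; exact hts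
  · simp only [map_mul, map_inv, FreeGroup.lift_apply_of]; exact htv
  · simp only [map_mul, map_inv, FreeGroup.lift_apply_of]; exact hvs

/-! ## The centralizer in `Sym(9)` -/

abbrev P9 := Equiv.Perm (Fin 9)

def σ : P9 := Equiv.swap (0 : Fin 9) 1 * Equiv.swap 1 2 * Equiv.swap 3 4 * Equiv.swap 4 5 *
  Equiv.swap 6 7 * Equiv.swap 7 8

def qV : P9 := Equiv.swap (0 : Fin 9) 1 * Equiv.swap 1 2
def qS : P9 := Equiv.swap (0 : Fin 9) 3 * Equiv.swap 3 6 * Equiv.swap 1 4 * Equiv.swap 4 7 *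
  Equiv.swap 2 5 * Equiv.swap 5 8
def qT : P9 := Equiv.swap (3 : Fin 9) 6 * Equiv.swap 4 7 * Equiv.swap 5 8

theorem qV_comm : qV * σ = σ * qV := by decide
theorem qS_comm : qS * σ = σ * qS := by decide
theorem qT_comm : qT * σ = σ * qT := by decide

theorem q_hv : qV ^ 3 = 1 := by decide
theorem q_hs : qS ^ 3 = 1 := by decide
theorem q_ht : qT ^ 2 = 1 := by decide
theorem q_hts : qT * qS * qT * qS = 1 := by decide
theorem q_htv : qT * qV * qT⁻¹ * qV⁻¹ = 1 := by decide
theorem q_hvs : qV * qS * qV * qS⁻¹ * qV⁻¹ * qS * qV⁻¹ * qS⁻¹ = 1 := by decide +kernel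

set_option maxRecDepth 1000000 in
theorem q_inj' : ∀ i j : Fin 162, gAll qV qS qT i = gAll qV qS qT j → i = j := by decide +kernel

theorem σ_cycleType : σ.cycleType = {3, 3, 3} := by decide +kernel

/-- The centralizer. -/
abbrev C : Subgroup P9 := Subgroup.centralizer ({σ} : Set P9)

theorem card_C : Nat.card C = 162 := by
  rw [Equiv.Perm.nat_card_centralizer, σ_cycleType]
  decide

theorem mem_C {g : P9} (h : g * σ = σ * g) : g ∈ C := by
  rw [Subgroup.mem_centralizer_iff]
  intro x hx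
  rw [Set.mem_singleton_iff.mp hx]
  exact h.symm

def cV : C := ⟨qV, mem_C qV_comm⟩
def cS : C := ⟨qS, mem_C qS_comm⟩
def cT : C := ⟨qT, mem_C qT_comm⟩

theorem c_rels : ∀ r ∈ rels, FreeGroup.lift ![cV, cS, cT] r = 1 := by
  apply rels_of
  · exact Subtype.ext q_hv
  · exact Subtype.ext q_hs
  · exact Subtype.ext q_ht
  · exact Subtype.ext q_hts
  · exact Subtype.ext q_htv
  · exact Subtype.ext q_hvs

def φ : P →* C := PresentedGroup.toGroup c_rels

theorem φ_V : φ pV = cV := by simp [φ, pV]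
theorem φ_S : φ pS = cS := by simp [φ, pS]
theorem φ_T : φ pT = cT := by simp [φ, pT]

/-- `φ` composed with the inclusion. -/
def ψ₀ : P →* P9 := (Subgroup.subtype C).comp φ

theorem card_range_ψ₀ : 162 ≤ Nat.card ψ₀.range := by
  have hV : qV ∈ ψ₀.range := ⟨pV, by simp [ψ₀, φ_V, cV]⟩
  have hS : qS ∈ ψ₀.range := ⟨pS, by simp [ψ₀, φ_S, cS]⟩
  have hT : qT ∈ ψ₀.range := ⟨pT, by simp [ψ₀, φ_T, cT]⟩
  let f : Fin 162 → ψ₀.range := fun i => ⟨gAll qV qS qT i, gAll_mem qV qS qT _ hV hS hT i⟩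
  have hf : Function.Injective f := by
    intro i j hij
    exact q_inj' i j (congrArg Subtype.val hij)
  have := Nat.card_le_card_of_injective f hf
  simpa using this

theorem φ_bij : Function.Bijective φ := by
  have h1 := card_range_ψ₀
  have hsurj : Function.Surjective ψ₀.rangeRestrict := ψ₀.rangeRestrict_surjective
  have hbij : Function.Bijective ψ₀.rangeRestrict :=
    hsurj.bijective_of_nat_card_le (le_trans p_card h1)
  have hinj : Function.Injective φ := by
    intro a b hab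
    apply hbij.1
    apply Subtype.ext
    show ψ₀ a = ψ₀ b
    simp only [ψ₀, MonoidHom.comp_apply, hab]
  have hP : 162 ≤ Nat.card P := by
    have := Nat.card_le_card_of_surjective _ hsurj
    omega
  exact hinj.bijective_of_nat_card_le (by rw [card_C]; exact hP)

theorem card_P : Nat.card P = 162 := by
  rw [Nat.card_congr (Equiv.ofBijective φ φ_bij), card_C]


/-! ## Module lemmas -/



section module
variable {V : Type*} [AddCommGroup V]

theorem N3 (h3 : ∀ x : V, 3 • x = 0) (A : V ≃+ V) (hA : ∀ x, A (A (A x)) = x) (x : V) :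
    A (A (A x - x) - (A x - x)) - (A (A x - x) - (A x - x)) = 0 := by
  simp only [map_sub]
  rw [hA]
  have e : x - A (A x) - (A (A x) - A x) - (A (A x) - A x - (A x - x)) =
      3 • A x - 3 • A (A x) := by abel
  rw [e, h3, h3, sub_zero]

theorem eq_zero_of_two (h3 : ∀ x : V, 3 • x = 0) (w : V) (h : w = -w) : w = 0 := by
  have h2 : 2 • w = 0 := by
    have : w + w = 0 := by nth_rewrite 1 [h]; exact neg_add_cancel w
    rw [two_nsmul]; exact this
  have := h3 w
  have e : 3 • w = 2 • w + w := by abel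
  rw [e, h2, zero_add] at this
  exact this

/-- If `A` (of order 3) and the involution `B` commute on a group of exponent 3, and every fixed
point of `A` is fixed by `B`, then `B` is trivial. -/
theorem mod0 (h3 : ∀ x : V, 3 • x = 0) (A B : V ≃+ V) (hA : ∀ x, A (A (A x)) = x)
    (hB : ∀ x, B (B x) = x) (hAB : ∀ x, A (B x) = B (A x))
    (hfix : ∀ x, A x = x → B x = x) : ∀ x, B x = x := by
  -- an element inverted by B and killed by N is zero
  have key : ∀ w : V, B w = -w → A w - w = 0 → w = 0 := by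
    intro w hw hN
    have h1 : A w = w := sub_eq_zero.mp hN
    have h2 := hfix w h1
    rw [hw] at h2
    exact eq_zero_of_two h3 w h2.symm
  have hinv : ∀ w : V, B w = -w → B (A w - w) = -(A w - w) := by
    intro w hw
    rw [map_sub, ← hAB, hw, map_neg]; abel
  intro x
  set y := x - B x with hy
  have hy0 : B y = -y := by rw [hy, map_sub, hB]; abel
  have hy1 := hinv y hy0
  have hy2 := hinv _ hy1
  have z2 : A (A y - y) - (A y - y) = 0 := key _ hy2 (N3 h3 A hA y)
  have z1 : A y - y = 0 := key _ hy1 z2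
  have z0 : y = 0 := key _ hy0 z1
  have : x - B x = 0 := z0
  exact (sub_eq_zero.mp this).symm

theorem dvd27 {d : ℕ} (h : d ∣ 27) : d = 1 ∨ d = 3 ∨ d = 9 ∨ d = 27 := by
  have hm : d ∈ Nat.divisors 27 := Nat.mem_divisors.mpr ⟨h, by norm_num⟩
  have e : Nat.divisors 27 = {1, 3, 9, 27} := by decide
  rw [e] at hm
  simpa using hm

theorem card_lt_of_lt [Finite V] {H K : AddSubgroup V} (h : H < K) :
    Nat.card H ∣ Nat.card K ∧ Nat.card H < Nat.card K := by
  refine ⟨AddSubgroup.card_dvd_of_le h.le, ?_⟩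
  by_contra hcon
  push Not at hcon
  exact h.ne (AddSubgroup.eq_of_le_of_card_ge h.le hcon)

theorem mod1 [Finite V] (hcard : Nat.card V = 27) (h3 : ∀ x : V, 3 • x = 0) (A B : V ≃+ V)
    (hA : ∀ x, A (A (A x)) = x) (hB : ∀ x, B (B x) = x) (hBA : ∀ x, B (A x) = A (A (B x)))
    (hfixcard : Nat.card {x : V // A x = x} ≤ 3) (hBfix : ∀ x, A x = x → B x = x) :
    ∃ v, B v = v ∧ AddSubgroup.closure {v, A v, A (A v)} = ⊤ := by
  let N : V →+ V := A.toAddMonoidHom - AddMonoidHom.id V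
  have hN : ∀ x, N x = A x - x := fun x => rfl
  have hN3 : ∀ x, N (N (N x)) = 0 := by
    intro x; simp only [hN]; exact N3 h3 A hA x
  have hkerN : ∀ x, N x = 0 → A x = x := fun x hx => sub_eq_zero.mp hx
  have hc1 : Nat.card N.ker ≤ 3 := by
    refine le_trans (le_of_eq ?_) hfixcard
    refine Nat.card_congr (Equiv.subtypeEquivRight (fun x => ?_))
    rw [AddMonoidHom.mem_ker, hN, sub_eq_zero]
  have hc2 : Nat.card N.ker * Nat.card N.range = 27 := by
    rw [← AddSubgroup.index_ker, AddSubgroup.card_mul_index, hcard]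
  -- N² ≠ 0
  have hN2 : ∃ x, N (N x) ≠ 0 := by
    by_contra hcon
    push Not at hcon
    have hle : N.range ≤ N.ker := by
      rintro _ ⟨x, rfl⟩
      exact hcon x
    have := AddSubgroup.card_le_of_le hle
    nlinarith
  -- N² x is fixed by B
  have hfixNN : ∀ x, B (N (N x)) = N (N x) := fun x => hBfix _ (hkerN _ (hN3 x))
  -- B commutes with N²
  have hNN : ∀ x, N (N x) = A (A x) - 2 • A x + x := by
    intro x; simp only [hN, map_sub]; abel
  have hBNN : ∀ x, B (N (N x)) = N (N (B x)) := by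
    intro x
    rw [hNN, hNN, map_add, map_sub, map_nsmul, hBA, hBA, hA]
    have e : A (B x) - 2 • A (A (B x)) + B x - (A (A (B x)) - 2 • A (B x) + B x) =
        3 • A (B x) - 3 • A (A (B x)) := by abel
    rw [← sub_eq_zero, e, h3, h3, sub_zero]
  obtain ⟨x, hx⟩ := hN2
  set v := 2 • (x + B x) with hv
  have hBv : B v = v := by
    rw [hv, map_nsmul, map_add, hB, add_comm]
  have hNNv : N (N v) = N (N x) := by
    rw [hv, map_nsmul, map_nsmul, map_add, map_add, ← hBNN, hfixNN]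
    have e : 2 • (N (N x) + N (N x)) = N (N x) + 3 • N (N x) := by abel
    rw [e, h3, add_zero]
  refine ⟨v, hBv, ?_⟩
  set W := AddSubgroup.closure {v, A v, A (A v)} with hW
  have m0 : v ∈ W := AddSubgroup.subset_closure (by simp)
  have m1 : A v ∈ W := AddSubgroup.subset_closure (by simp)
  have m2 : A (A v) ∈ W := AddSubgroup.subset_closure (by simp)
  have mu : N v ∈ W := by rw [hN]; exact sub_mem m1 m0
  have mz : N (N v) ∈ W := by
    rw [hNN]; exact add_mem (sub_mem m2 (nsmul_mem m1 2)) m0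
  have hz0 : N (N v) ≠ 0 := by rw [hNNv]; exact hx
  -- chain
  set W₁ := W ⊓ N.ker with hW₁
  set W₂ := W ⊓ (N.comp N).ker with hW₂
  have hz1 : N (N v) ∈ W₁ := ⟨mz, hN3 v⟩
  have hW₁ne : Nat.card W₁ ≠ 1 := by
    intro h
    rw [AddSubgroup.card_eq_one] at h
    rw [h, AddSubgroup.mem_bot] at hz1
    exact hz0 hz1
  have h12 : W₁ < W₂ := by
    refine lt_of_le_of_ne ?_ ?_
    · rintro y ⟨hy1, hy2⟩
      refine ⟨hy1, ?_⟩
      show N (N y) = 0
      have : N y = 0 := hy2
      rw [this, map_zero]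
    · intro h
      have hu : N v ∈ W₂ := ⟨mu, hN3 v⟩
      rw [← h] at hu
      exact hz0 hu.2
  have h2W : W₂ < W := by
    refine lt_of_le_of_ne inf_le_left ?_
    intro h
    have : v ∈ W₂ := by rw [h]; exact m0
    exact hz0 this.2
  obtain ⟨d12, l12⟩ := card_lt_of_lt h12
  obtain ⟨d2W, l2W⟩ := card_lt_of_lt h2W
  have dW : Nat.card W ∣ 27 := by rw [← hcard]; exact AddSubgroup.card_addSubgroup_dvd_card W
  have d1 : Nat.card W₁ ∣ 27 := by rw [← hcard]; exact AddSubgroup.card_addSubgroup_dvd_card W₁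
  have d2 : Nat.card W₂ ∣ 27 := by rw [← hcard]; exact AddSubgroup.card_addSubgroup_dvd_card W₂
  have hWc : Nat.card W = 27 := by
    rcases dvd27 dW with h | h | h | h <;> rcases dvd27 d1 with h' | h' | h' | h' <;>
      rcases dvd27 d2 with h'' | h'' | h'' | h'' <;> rw [h', h''] at d12 l12 <;>
      rw [h'', h] at d2W l2W <;> omega
  rw [← AddSubgroup.card_eq_iff_eq_top, hWc, hcard]

end module

section mul
variable {M : Type*} [CommGroup M]

theorem mod0_mul (h3 : ∀ x : M, x ^ 3 = 1) (A B : M ≃* M) (hA : ∀ x, A (A (A x)) = x)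
    (hB : ∀ x, B (B x) = x) (hAB : ∀ x, A (B x) = B (A x))
    (hfix : ∀ x, A x = x → B x = x) : ∀ x, B x = x := by
  have := mod0 (V := Additive M) (fun x => by
      show Additive.ofMul (x.toMul ^ 3) = 0
      rw [h3]; rfl)
    (MulEquiv.toAdditive A) (MulEquiv.toAdditive B) (fun x => hA x.toMul) (fun x => hB x.toMul)
    (fun x => hAB x.toMul) (fun x hx => hfix x.toMul hx)
  exact fun x => this (Additive.ofMul x)

theorem mod1_mul [Finite M] (hcard : Nat.card M = 27) (h3 : ∀ x : M, x ^ 3 = 1) (A B : M ≃* M)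
    (hA : ∀ x, A (A (A x)) = x) (hB : ∀ x, B (B x) = x) (hBA : ∀ x, B (A x) = A (A (B x)))
    (hfixcard : Nat.card {x : M // A x = x} ≤ 3) (hBfix : ∀ x, A x = x → B x = x) :
    ∃ v, B v = v ∧ Subgroup.closure {v, A v, A (A v)} = ⊤ := by
  obtain ⟨v, hv1, hv2⟩ := mod1 (V := Additive M) hcard (fun x => by
      show Additive.ofMul (x.toMul ^ 3) = 0
      rw [h3]; rfl)
    (MulEquiv.toAdditive A) (MulEquiv.toAdditive B) (fun x => hA x.toMul) (fun x => hB x.toMul)
    (fun x => hBA x.toMul) hfixcard (fun x hx => hBfix x.toMul hx)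
  refine ⟨v.toMul, hv1, ?_⟩
  have h := Subgroup.toAddSubgroup_closure ({v.toMul, A v.toMul, A (A v.toMul)} : Set M)
  have e : Additive.toMul ⁻¹' ({v.toMul, A v.toMul, A (A v.toMul)} : Set M) =
      {v, MulEquiv.toAdditive A v, MulEquiv.toAdditive A (MulEquiv.toAdditive A v)} := by
    ext x; rfl
  rw [e, hv2] at h
  rw [eq_top_iff]
  intro x _
  have : Additive.ofMul x ∈ Subgroup.toAddSubgroup
      (Subgroup.closure {Additive.toMul v, A (Additive.toMul v), A (A (Additive.toMul v))}) := by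
    rw [h]; trivial
  exact this

end mul


/-! ## The group of order 162 -/


section G162
variable {G : Type*} [Group G] [Finite G]

theorem dvd81 {d : ℕ} (h : d ∣ 81) : d = 1 ∨ d = 3 ∨ d = 9 ∨ d = 27 ∨ d = 81 := by
  have hm : d ∈ Nat.divisors 81 := Nat.mem_divisors.mpr ⟨h, by norm_num⟩
  have e : Nat.divisors 81 = {1, 3, 9, 27, 81} := by decide
  rw [e] at hm
  simpa using hm

/-- `S = J ⟨g⟩` for `g ∈ S ∖ J`. -/
theorem sup_zpowers_eq (S J : Subgroup G) (hS : Nat.card S = 81) (hJ : Nat.card J = 27)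
    (hJS : J ≤ S) (g : G) (hgS : g ∈ S) (hgJ : g ∉ J) : J ⊔ Subgroup.zpowers g = S := by
  have hle : J ⊔ Subgroup.zpowers g ≤ S := sup_le hJS (by rw [Subgroup.zpowers_le]; exact hgS)
  apply Subgroup.eq_of_le_of_card_ge hle
  have d1 : Nat.card (J ⊔ Subgroup.zpowers g : Subgroup G) ∣ 81 := by
    rw [← hS]; exact Subgroup.card_dvd_of_le hle
  have d2 : 27 ∣ Nat.card (J ⊔ Subgroup.zpowers g : Subgroup G) := by
    rw [← hJ]; exact Subgroup.card_dvd_of_le le_sup_left
  have hne : Nat.card (J ⊔ Subgroup.zpowers g : Subgroup G) ≠ 27 := by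
    intro h
    have : J = J ⊔ Subgroup.zpowers g :=
      Subgroup.eq_of_le_of_card_ge le_sup_left (by rw [h, hJ])
    apply hgJ
    rw [this]
    exact (le_sup_right : Subgroup.zpowers g ≤ J ⊔ Subgroup.zpowers g) (Subgroup.mem_zpowers g)
  rw [hS]
  rcases dvd81 d1 with h | h | h | h | h <;> rw [h] at d2 hne ⊢ <;> omega

/-- An element commuting with `J` and with `g ∈ S ∖ J` commutes with `S`. -/
theorem commutes_S (S J : Subgroup G) (hS : Nat.card S = 81) (hJ : Nat.card J = 27)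
    (hJS : J ≤ S) (g : G) (hgS : g ∈ S) (hgJ : g ∉ J) (j : G) (hjJ : ∀ a ∈ J, a * j = j * a)
    (hjg : g * j = j * g) : ∀ x ∈ S, x * j = j * x := by
  have hle : J ⊔ Subgroup.zpowers g ≤ Subgroup.centralizer {j} := by
    refine sup_le ?_ ?_
    · intro a ha
      rw [Subgroup.mem_centralizer_iff]
      intro h hh
      rw [Set.mem_singleton_iff.mp hh]
      exact (hjJ a ha).symm
    · rw [Subgroup.zpowers_le, Subgroup.mem_centralizer_iff]
      intro h hh
      rw [Set.mem_singleton_iff.mp hh]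
      exact hjg.symm
  rw [sup_zpowers_eq S J hS hJ hJS g hgS hgJ] at hle
  intro x hx
  have := hle hx
  rw [Subgroup.mem_centralizer_iff] at this
  exact (this j rfl).symm

/-- Cubes of elements of `S` lie in `J`. -/
theorem cube_mem (hG : Nat.card G = 162) (S J : Subgroup G) [J.Normal] (hS : Nat.card S = 81)
    (hJ : Nat.card J = 27) (g : G) (hgS : g ∈ S) : g ^ 3 ∈ J := by
  have h6 : Nat.card (G ⧸ J) = 6 := by
    have := Subgroup.card_mul_index J
    rw [hJ, hG, Subgroup.index_eq_card] at this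
    omega
  have e1 : (QuotientGroup.mk g : G ⧸ J) ^ 6 = 1 := by
    rw [← h6]; exact pow_card_eq_one'
  have e2 : (QuotientGroup.mk g : G ⧸ J) ^ 81 = 1 := by
    have : (⟨g, hgS⟩ : S) ^ 81 = 1 := by rw [← hS]; exact pow_card_eq_one'
    have h' : g ^ 81 = 1 := by
      have := congrArg Subtype.val this
      simpa using this
    rw [← QuotientGroup.mk_pow, h']; rfl
  have e3 : (QuotientGroup.mk g : G ⧸ J) ^ 3 = 1 := by
    have d1 := orderOf_dvd_of_pow_eq_one e1
    have d2 := orderOf_dvd_of_pow_eq_one e2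
    have d3 : orderOf (QuotientGroup.mk g : G ⧸ J) ∣ Nat.gcd 6 81 := Nat.dvd_gcd d1 d2
    have : Nat.gcd 6 81 = 3 := by norm_num
    rw [this] at d3
    exact orderOf_dvd_iff_pow_eq_one.mp d3
  rw [← QuotientGroup.mk_pow] at e3
  exact (QuotientGroup.eq_one_iff _).mp e3


theorem exists_gens (hG : Nat.card G = 162)
    (S : Sylow 3 G) (T : Sylow 2 G) (J : Subgroup G) [hJn : J.Normal] (hJcomm : IsMulCommutative J)
    (hJexp : ∀ a ∈ J, a ^ 3 = 1) (hJcard : Nat.card J = 27)
    (Z : Subgroup G)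
    (hZ : Z = (S : Subgroup G) ⊓ Subgroup.centralizer ((S : Subgroup G) : Set G))
    (hZcard : Nat.card Z = 3)
    (hZT : Z ≤ Subgroup.centralizer ((T : Subgroup G) : Set G))
    (hST : (S : Subgroup G) ⊓ Subgroup.centralizer ((T : Subgroup G) : Set G) ≠ S) :
    ∃ v s t : G, v ^ 3 = 1 ∧ s ^ 3 = 1 ∧ t ^ 2 = 1 ∧ t * s * t * s = 1 ∧
      t * v * t⁻¹ * v⁻¹ = 1 ∧ v * s * v * s⁻¹ * v⁻¹ * s * v⁻¹ * s⁻¹ = 1 ∧
      Subgroup.closure {v, s, t} = ⊤ := by
  have hp3 : Fact (Nat.Prime 3) := ⟨by norm_num⟩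
  have hp2 : Fact (Nat.Prime 2) := ⟨by norm_num⟩
  have hS81 : Nat.card (S : Subgroup G) = 81 := by
    rw [Sylow.card_eq_multiplicity, hG]
    have : (162 : ℕ).factorization 3 = 4 := by decide +kernel
    rw [this]; norm_num
  have hT2 : Nat.card (T : Subgroup G) = 2 := by
    rw [Sylow.card_eq_multiplicity, hG]
    have : (162 : ℕ).factorization 2 = 1 := by decide +kernel
    rw [this]; norm_num
  have hSn : (S : Subgroup G).Normal := by
    apply Subgroup.normal_of_index_eq_two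
    have := Subgroup.card_mul_index (S : Subgroup G)
    rw [hS81, hG] at this
    omega
  have hJS : J ≤ S :=
    IsPGroup.le_sylow_of_normal (IsPGroup.of_card (n := 3) (by rw [hJcard]; norm_num)) S
  have hJc : ∀ a ∈ J, ∀ b ∈ J, a * b = b * a := by
    intro a ha b hb
    have := mul_comm' (⟨a, ha⟩ : J) ⟨b, hb⟩
    exact congrArg Subtype.val this
  -- the involution
  obtain ⟨⟨t, htT⟩, ht1', huniq⟩ := (Nat.card_eq_two_iff' (1 : (T : Subgroup G))).mp hT2
  have ht1 : t ≠ 1 := fun h => ht1' (Subtype.ext h)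
  have hTmem : ∀ x ∈ (T : Subgroup G), x = 1 ∨ x = t := by
    intro x hx
    by_cases h1 : x = 1
    · exact Or.inl h1
    · right
      have := huniq ⟨x, hx⟩ (fun h => h1 (congrArg Subtype.val h))
      exact congrArg Subtype.val this
  have htt : t * t = 1 := by
    rcases hTmem (t * t) (mul_mem htT htT) with h | h
    · exact h
    · exfalso; exact ht1 (mul_eq_left.mp h)
  have htinv : t⁻¹ = t := inv_eq_of_mul_eq_one_right htt
  have hcentT : ∀ g : G, g ∈ Subgroup.centralizer ((T : Subgroup G) : Set G) ↔ t * g = g * t := by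
    intro g
    rw [Subgroup.mem_centralizer_iff]
    constructor
    · intro h; exact h t htT
    · intro h x hx
      rcases hTmem x hx with rfl | rfl
      · simp
      · exact h
  -- conjugation by t
  have hcc : ∀ g : G, t * (t * g * t⁻¹) * t⁻¹ = g := by
    intro g
    rw [htinv]
    calc t * (t * g * t) * t = (t * t) * g * (t * t) := by group
      _ = g := by rw [htt, one_mul, mul_one]
  have hZfix : ∀ z ∈ Z, t * z * t⁻¹ = z := by
    intro z hz
    have := (hcentT z).mp (hZT hz)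
    rw [this, mul_inv_cancel_right]
  have hZmem : ∀ z : G, z ∈ Z ↔ z ∈ (S : Subgroup G) ∧ ∀ x ∈ (S : Subgroup G), x * z = z * x := by
    intro z
    rw [hZ, Subgroup.mem_inf, Subgroup.mem_centralizer_iff]
    rfl
  -- CZ
  have hCZ : ∀ g ∈ (S : Subgroup G), g ∉ J → ∀ j ∈ J, g * j = j * g → j ∈ Z := by
    intro g hgS hgJ j hj hgj
    rw [hZmem]
    exact ⟨hJS hj, commutes_S (S : Subgroup G) J hS81 hJcard hJS g hgS hgJ j
      (fun a ha => hJc a ha j hj) hgj⟩
  -- CommGroup structure on J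
  let _instJ : CommGroup J := { (inferInstance : Group J) with mul_comm := fun a b => mul_comm' a b }
  have h3J : ∀ x : J, x ^ 3 = 1 := fun x => Subtype.ext (by simpa using hJexp x x.2)
  let B : J ≃* J := MulAut.conjNormal t
  have hBapp : ∀ x : J, ((B x : J) : G) = t * x * t⁻¹ := fun x => MulAut.conjNormal_apply t x
  have hBB : ∀ x : J, B (B x) = x := by
    intro x; apply Subtype.ext; rw [hBapp, hBapp]; exact hcc x
  have hconj3 : ∀ g ∈ (S : Subgroup G), ∀ x ∈ J, g * (g * (g * x * g⁻¹) * g⁻¹) * g⁻¹ = x := by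
    intro g hg x hx
    have hg3 : g ^ 3 ∈ J := cube_mem hG (S : Subgroup G) J hS81 hJcard g hg
    have e3 : g ^ 3 = g * g * g := by rw [pow_succ, pow_two]
    rw [e3] at hg3
    have hc := hJc (g * g * g) hg3 x hx
    calc g * (g * (g * x * g⁻¹) * g⁻¹) * g⁻¹ = (g * g * g * x) * (g * g * g)⁻¹ := by group
      _ = x := by rw [hc, mul_inv_cancel_right]
  -- Step 1
  have step1 : ∃ g ∈ (S : Subgroup G), g⁻¹ * (t * g * t⁻¹) ∉ J := by
    by_contra hcon
    push Not at hcon
    have : ∃ g₀ ∈ (S : Subgroup G), g₀ ∉ J := by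
      by_contra h
      push Not at h
      have hle : (S : Subgroup G) ≤ J := h
      have := Subgroup.card_le_of_le hle
      omega
    obtain ⟨g₀, hg₀S, hg₀J⟩ := this
    obtain ⟨i, hi⟩ : ∃ i, i = g₀⁻¹ * (t * g₀ * t⁻¹) := ⟨_, rfl⟩
    have hiJ : i ∈ J := by rw [hi]; exact hcon g₀ hg₀S
    have hi3 : i ^ 3 = 1 := hJexp i hiJ
    have hiinv : i⁻¹ = i * i := by
      apply inv_eq_of_mul_eq_one_right
      rw [← hi3, pow_succ, pow_two, mul_assoc]
    have hti : t * i * t⁻¹ = i⁻¹ := by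
      rw [hi]
      calc t * (g₀⁻¹ * (t * g₀ * t⁻¹)) * t⁻¹
          = (t * g₀ * t⁻¹)⁻¹ * (t * (t * g₀ * t⁻¹) * t⁻¹) := by group
        _ = (t * g₀ * t⁻¹)⁻¹ * g₀ := by rw [hcc]
        _ = (g₀⁻¹ * (t * g₀ * t⁻¹))⁻¹ := by group
    obtain ⟨c₀, hc₀⟩ : ∃ c₀, c₀ = g₀ * (i * i) := ⟨_, rfl⟩
    have hc₀S : c₀ ∈ (S : Subgroup G) := by
      rw [hc₀]; exact mul_mem hg₀S (hJS (mul_mem hiJ hiJ))
    have hc₀J : c₀ ∉ J := by
      intro h
      apply hg₀J
      have : g₀ = c₀ * (i * i)⁻¹ := by rw [hc₀]; group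
      rw [this]; exact mul_mem h (inv_mem (mul_mem hiJ hiJ))
    have htc₀ : t * c₀ * t⁻¹ = c₀ := by
      have h1 : t * c₀ * t⁻¹ = (t * g₀ * t⁻¹) * ((t * i * t⁻¹) * (t * i * t⁻¹)) := by
        rw [hc₀]; group
      have h2 : t * g₀ * t⁻¹ = g₀ * i := by rw [hi]; group
      rw [h1, h2, hti, hc₀]
      calc g₀ * i * (i⁻¹ * i⁻¹) = g₀ * i⁻¹ := by group
        _ = g₀ * (i * i) := by rw [hiinv]
    have htc₀' : t * c₀ = c₀ * t := by
      have := congrArg (· * t) htc₀
      simpa using this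
    let A₀ : J ≃* J := MulAut.conjNormal c₀
    have hA₀app : ∀ x : J, ((A₀ x : J) : G) = c₀ * x * c₀⁻¹ := fun x => MulAut.conjNormal_apply c₀ x
    have hB1 : ∀ x : J, B x = x := by
      apply mod0_mul h3J A₀ B
      · intro x
        apply Subtype.ext
        rw [hA₀app, hA₀app, hA₀app]
        exact hconj3 c₀ hc₀S x x.2
      · exact hBB
      · intro x
        apply Subtype.ext
        rw [hA₀app, hBapp, hBapp, hA₀app]
        calc c₀ * (t * ↑x * t⁻¹) * c₀⁻¹ = (c₀ * t) * x * (c₀ * t)⁻¹ := by group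
          _ = (t * c₀) * x * (t * c₀)⁻¹ := by rw [htc₀']
          _ = t * (c₀ * ↑x * c₀⁻¹) * t⁻¹ := by group
      · intro x hx
        have hx' : c₀ * x * c₀⁻¹ = x := by rw [← hA₀app, hx]
        have hcomm : c₀ * x = x * c₀ := by
          have := congrArg (· * c₀) hx'
          simpa using this
        have hxZ := hCZ c₀ hc₀S hc₀J x x.2 hcomm
        apply Subtype.ext
        rw [hBapp]
        exact hZfix x hxZ
    apply hST
    apply le_antisymm inf_le_left
    intro x hx
    refine ⟨hx, ?_⟩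
    have hle : J ⊔ Subgroup.zpowers c₀ ≤ Subgroup.centralizer ((T : Subgroup G) : Set G) := by
      refine sup_le ?_ ?_
      · intro j hj
        rw [hcentT]
        have := congrArg Subtype.val (hB1 ⟨j, hj⟩)
        rw [hBapp] at this
        have h' := congrArg (· * t) this
        simpa using h'
      · rw [Subgroup.zpowers_le, hcentT]
        exact htc₀'
    rw [sup_zpowers_eq (S : Subgroup G) J hS81 hJcard hJS c₀ hc₀S hc₀J] at hle
    exact hle hx
  obtain ⟨g, hgS, hgJ⟩ := step1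
  obtain ⟨s, hs⟩ : ∃ s, s = g⁻¹ * (t * g * t⁻¹) := ⟨_, rfl⟩
  have hsS : s ∈ (S : Subgroup G) := by
    rw [hs]; exact mul_mem (inv_mem hgS) (hSn.conj_mem g hgS t)
  have hsJ : s ∉ J := by rw [hs]; exact hgJ
  have hts : t * s * t⁻¹ = s⁻¹ := by
    rw [hs]
    calc t * (g⁻¹ * (t * g * t⁻¹)) * t⁻¹
        = (t * g * t⁻¹)⁻¹ * (t * (t * g * t⁻¹) * t⁻¹) := by group
      _ = (t * g * t⁻¹)⁻¹ * g := by rw [hcc]
      _ = (g⁻¹ * (t * g * t⁻¹))⁻¹ := by group
  -- s³ = 1
  have hs3J : s * s * s ∈ J := by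
    have := cube_mem hG (S : Subgroup G) J hS81 hJcard s hsS
    rwa [pow_succ, pow_two] at this
  have hs3Z : s * s * s ∈ Z := hCZ s hsS hsJ (s * s * s) hs3J (by group)
  have hs3 : s * s * s = 1 := by
    have h1 : t * (s * s * s) * t⁻¹ = s * s * s := hZfix _ hs3Z
    have h2 : t * (s * s * s) * t⁻¹ = (s * s * s)⁻¹ := by
      calc t * (s * s * s) * t⁻¹ = (t * s * t⁻¹) * (t * s * t⁻¹) * (t * s * t⁻¹) := by group
        _ = s⁻¹ * s⁻¹ * s⁻¹ := by rw [hts]
        _ = (s * s * s)⁻¹ := by group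
    have h3' : s * s * s = (s * s * s)⁻¹ := h1.symm.trans h2
    have hw3 : (s * s * s) ^ 3 = 1 := hJexp _ hs3J
    generalize s * s * s = w at h3' hw3
    have hww : w * w = 1 := by
      nth_rewrite 2 [h3']; exact mul_inv_cancel w
    rw [pow_succ, pow_two, hww, one_mul] at hw3
    exact hw3
  have hsinv : s⁻¹ = s * s := by
    apply inv_eq_of_mul_eq_one_right
    rw [← mul_assoc]; exact hs3
  -- the module data
  let A : J ≃* J := MulAut.conjNormal s
  have hAapp : ∀ x : J, ((A x : J) : G) = s * x * s⁻¹ := fun x => MulAut.conjNormal_apply s x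
  have hAAA : ∀ x : J, A (A (A x)) = x := by
    intro x
    apply Subtype.ext
    rw [hAapp, hAapp, hAapp]
    exact hconj3 s hsS x x.2
  have hBA : ∀ x : J, B (A x) = A (A (B x)) := by
    intro x
    apply Subtype.ext
    rw [hBapp, hAapp, hAapp, hAapp, hBapp]
    calc t * (s * ↑x * s⁻¹) * t⁻¹ = (t * s * t⁻¹) * (t * x * t⁻¹) * (t * s * t⁻¹)⁻¹ := by group
      _ = s⁻¹ * (t * x * t⁻¹) * s⁻¹⁻¹ := by rw [hts]
      _ = (s * s) * (t * x * t⁻¹) * (s * s)⁻¹ := by rw [hsinv]
      _ = s * (s * (t * ↑x * t⁻¹) * s⁻¹) * s⁻¹ := by group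
  have hfixZ : ∀ x : J, A x = x → (x : G) ∈ Z := by
    intro x hx
    have hx' : s * x * s⁻¹ = x := by rw [← hAapp, hx]
    have hcomm : s * x = x * s := by
      have := congrArg (· * s) hx'
      simpa using this
    exact hCZ s hsS hsJ x x.2 hcomm
  have hfixcard : Nat.card {x : J // A x = x} ≤ 3 := by
    rw [← hZcard]
    let f : {x : J // A x = x} → Z := fun x => ⟨(x.1 : G), hfixZ x.1 x.2⟩
    have hf : Function.Injective f := by
      intro x y hxy
      apply Subtype.ext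
      apply Subtype.ext
      have := congrArg (fun z : Z => (z : G)) hxy
      exact this
    have hfin : Finite Z := Nat.finite_of_card_ne_zero (by rw [hZcard]; norm_num)
    exact Nat.card_le_card_of_injective f hf
  have hBfix : ∀ x : J, A x = x → B x = x := by
    intro x hx
    apply Subtype.ext
    rw [hBapp]
    exact hZfix x (hfixZ x hx)
  obtain ⟨v, hBv, hclos⟩ := mod1_mul hJcard h3J A B hAAA hBB hBA hfixcard hBfix
  have hvt : t * (v : G) * t⁻¹ = v := by rw [← hBapp, hBv]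
  have hwJ : s * (v : G) * s⁻¹ ∈ J := by rw [← hAapp]; exact (A v).2
  refine ⟨(v : G), s, t, hJexp v v.2, ?_, ?_, ?_, ?_, ?_, ?_⟩
  · rw [pow_succ, pow_two]; exact hs3
  · rw [pow_two]; exact htt
  · rw [htinv] at hts
    rw [hts, inv_mul_cancel]
  · rw [hvt, mul_inv_cancel]
  · have hcomm := hJc (v : G) v.2 _ hwJ
    calc (v : G) * s * v * s⁻¹ * (v : G)⁻¹ * s * (v : G)⁻¹ * s⁻¹
        = ((v : G) * (s * v * s⁻¹)) * ((v : G)⁻¹ * (s * v * s⁻¹)⁻¹) := by group
      _ = ((s * v * s⁻¹) * (v : G)) * ((v : G)⁻¹ * (s * v * s⁻¹)⁻¹) := by rw [hcomm]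
      _ = 1 := by group
  · set H := Subgroup.closure ({(v : G), s, t} : Set G) with hH
    have mv : (v : G) ∈ H := Subgroup.subset_closure (by simp)
    have ms : s ∈ H := Subgroup.subset_closure (by simp)
    have mt : t ∈ H := Subgroup.subset_closure (by simp)
    have hJH : J ≤ H := by
      have h1 := MonoidHom.map_closure J.subtype ({v, A v, A (A v)} : Set J)
      rw [hclos, ← MonoidHom.range_eq_map, Subgroup.range_subtype] at h1
      rw [h1, Subgroup.closure_le]
      rintro _ ⟨y, hy, rfl⟩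
      simp only [Set.mem_insert_iff, Set.mem_singleton_iff] at hy
      rcases hy with rfl | rfl | rfl
      · exact mv
      · show ((A v : J) : G) ∈ H
        rw [hAapp]; exact mul_mem (mul_mem ms mv) (inv_mem ms)
      · show ((A (A v) : J) : G) ∈ H
        rw [hAapp, hAapp]
        exact mul_mem (mul_mem ms (mul_mem (mul_mem ms mv) (inv_mem ms))) (inv_mem ms)
    have hSH : (S : Subgroup G) ≤ H := by
      rw [← sup_zpowers_eq (S : Subgroup G) J hS81 hJcard hJS s hsS hsJ]
      exact sup_le hJH (by rw [Subgroup.zpowers_le]; exact ms)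
    have d81 : 81 ∣ Nat.card H := by rw [← hS81]; exact Subgroup.card_dvd_of_le hSH
    have d2 : 2 ∣ Nat.card H := by
      have ho : orderOf t = 2 := orderOf_eq_prime (by rw [pow_two]; exact htt) ht1
      have := orderOf_dvd_natCard (⟨t, mt⟩ : H)
      rwa [Subgroup.orderOf_mk, ho] at this
    have d162 : 162 ∣ Nat.card H :=
      Nat.Coprime.mul_dvd_of_dvd_of_dvd (by norm_num : Nat.Coprime 2 81) d2 d81
    have hle : Nat.card H ≤ 162 := by rw [← hG]; exact Subgroup.card_le_card_group H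
    have hpos : 0 < Nat.card H := Nat.card_pos
    have hc : Nat.card H = 162 := by
      obtain ⟨k, hk⟩ := d162
      have : k = 1 := by nlinarith
      rw [hk, this]
    rw [← Subgroup.card_eq_iff_eq_top, hc, hG]

end G162


/-! ## The statement -/

theorem result {G : Type*} [Group G] [Finite G] (hG : Nat.card G = 162)
    (S : Sylow 3 G) (T : Sylow 2 G) (J : Subgroup G) [hJn : J.Normal] (hJcomm : IsMulCommutative J)
    (hJexp : ∀ a ∈ J, a ^ 3 = 1) (hJcard : Nat.card J = 27)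
    (Z : Subgroup G) (hZ : Z = (S : Subgroup G) ⊓ Subgroup.centralizer ((S : Subgroup G) : Set G)) (hZcard : Nat.card Z = 3)
    (hZT : Z ≤ Subgroup.centralizer ((T : Subgroup G) : Set G))
    (hST : (S : Subgroup G) ⊓ Subgroup.centralizer ((T : Subgroup G) : Set G) ≠ S) :
    Nonempty (G ≃* Subgroup.centralizer ({Equiv.swap (0 : Fin 9) 1 * Equiv.swap 1 2 * Equiv.swap 3 4 * Equiv.swap 4 5 * Equiv.swap 6 7 * Equiv.swap 7 8} : Set (Equiv.Perm (Fin 9)))) := by
  obtain ⟨v, s, t, hv, hs, ht, hts, htv, hvs, hgen⟩ :=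
    exists_gens hG S T J hJcomm hJexp hJcard Z hZ hZcard hZT hST
  let ψ : P →* G := PresentedGroup.toGroup (rels_of v s t hv hs ht hts htv hvs)
  have ψ_surj : Function.Surjective ψ := by
    rw [← MonoidHom.range_eq_top, eq_top_iff, ← hgen, Subgroup.closure_le]
    rintro x (rfl | rfl | rfl)
    · exact ⟨pV, by simp [ψ, pV]⟩
    · exact ⟨pS, by simp [ψ, pS]⟩
    · exact ⟨pT, by simp [ψ, pT]⟩
  have ψ_bij : Function.Bijective ψ :=
    ψ_surj.bijective_of_nat_card_le (by rw [hG]; exact p_card)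
  exact ⟨(MulEquiv.ofBijective ψ ψ_bij).symm.trans (MulEquiv.ofBijective φ φ_bij)⟩

end Cfsg.Agent.S3376
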