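-- Statement S3379 (row 3379).
import Cfsg.Statements.S3379
-- import your own Cfsg.Agent.* helpers here

set_option autoImplicit false
open Cfsg

namespace Cfsg.Agent.S3379

/-- Iterated conjugation. -/
theorem conj_pow_eq {G : Type*} [Group G] (x y : G) (r : ℕ) (h : x⁻¹ * y * x = y ^ r) (j : ℕ) :
    (x ^ j)⁻¹ * y * x ^ j = y ^ (r ^ j) := by
  induction j with
  | zero => simp
  | succ j ih =>
    have h1 : (x ^ (j + 1))⁻¹ * y * x ^ (j + 1) = x⁻¹ * ((x ^ j)⁻¹ * y * x ^ j) * x := by
      rw [pow_succ]; group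
    rw [h1, ih]
    have h2 : x⁻¹ * y ^ (r ^ j) * x = (x⁻¹ * y * x) ^ (r ^ j) := by
      have := conj_pow (a := x⁻¹) (b := y) (i := r ^ j)
      rw [inv_inv] at this
      exact this.symm
    rw [h2, h, ← pow_mul, pow_succ, mul_comm]

/-- The metacyclic core: everything except the structure theory. -/
theorem core {G : Type*} [Group G] [Finite G] (x y : G)
    (hgen : Subgroup.closure {x, y} = ⊤)
    (hN : (Subgroup.zpowers y).Normal)
    (hcomm : commutator G = Subgroup.zpowers y)
    (hcop : Nat.Coprime (orderOf x) (orderOf y)) :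
    ∃ (n m r : ℕ), Subgroup.closure {x, y} = ⊤ ∧ orderOf x = n ∧ orderOf y = m ∧
      x⁻¹ * y * x = y ^ r ∧ Nat.Coprime (r - 1) m ∧ Nat.Coprime n m ∧ 1 ≤ r ∧
      r ^ n % m = 1 % m := by
  have hm : 0 < orderOf y := orderOf_pos y
  -- the exponent r
  have h1 : x⁻¹ * y * x ∈ Subgroup.zpowers y := by
    have := hN.conj_mem y (Subgroup.mem_zpowers y) x⁻¹
    rwa [inv_inv] at this
  obtain ⟨k, hk⟩ := Subgroup.mem_zpowers_iff.mp h1
  set r₀ : ℕ := (k % (orderOf y : ℤ)).toNat with hr₀
  have hr₀' : y ^ r₀ = x⁻¹ * y * x := by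
    rw [← hk, ← zpow_mod_orderOf y k, ← zpow_natCast, hr₀, Int.toNat_of_nonneg]
    exact Int.emod_nonneg _ (by exact_mod_cast hm.ne')
  set r : ℕ := r₀ + orderOf y with hr
  have hr1 : 1 ≤ r := by omega
  have hyr : x⁻¹ * y * x = y ^ r := by
    rw [hr, pow_add, pow_orderOf_eq_one, mul_one, hr₀']
  refine ⟨orderOf x, orderOf y, r, hgen, rfl, rfl, hyr, ?_, hcop, hr1, ?_⟩
  · -- gcd (r - 1, m) = 1
    set K : Subgroup G := Subgroup.zpowers (y ^ (r - 1)) with hK
    have hKle : K ≤ Subgroup.zpowers y :=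
      Subgroup.zpowers_le.mpr (Subgroup.pow_mem _ (Subgroup.mem_zpowers y) _)
    have hKn : K.Normal := by
      constructor
      intro a ha g
      obtain ⟨j, rfl⟩ := Subgroup.mem_zpowers_iff.mp ha
      have h2 : g * y * g⁻¹ ∈ Subgroup.zpowers y := hN.conj_mem y (Subgroup.mem_zpowers y) g
      obtain ⟨l, hl⟩ := Subgroup.mem_zpowers_iff.mp h2
      have h3 : g * (y ^ (r - 1)) ^ j * g⁻¹ = ((y ^ (r - 1)) ^ l) ^ j := by
        rw [← conj_zpow, ← conj_pow, ← hl, ← zpow_natCast, ← zpow_natCast]
        simp only [← zpow_mul]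
        congr 1
        ring
      rw [h3]
      exact Subgroup.zpow_mem _ (Subgroup.zpow_mem _ (Subgroup.mem_zpowers _) _) _
    -- the quotient by K is commutative
    let f := QuotientGroup.mk' K
    have hxy : f x * f y = f y * f x := by
      change ((x * y : G) : G ⧸ K) = ((y * x : G) : G ⧸ K)
      rw [QuotientGroup.eq]
      have : (x * y)⁻¹ * (y * x) = y⁻¹ * (x⁻¹ * y * x) := by group
      rw [this, hyr]
      have : y⁻¹ * y ^ r = y ^ (r - 1) := by
        obtain ⟨s, hs⟩ : ∃ s, r = s + 1 := ⟨r - 1, by omega⟩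
        rw [hs, pow_succ', Nat.add_sub_cancel, inv_mul_cancel_left]
      rw [this]
      exact Subgroup.mem_zpowers _
    have hgen' : Subgroup.closure ({f x, f y} : Set (G ⧸ K)) = ⊤ := by
      have h2 := congrArg (Subgroup.map f) hgen
      rw [MonoidHom.map_closure, Set.image_pair, ← MonoidHom.range_eq_map,
        MonoidHom.range_eq_top.mpr (QuotientGroup.mk'_surjective K)] at h2
      exact h2
    have hc := Subgroup.isMulCommutative_closure (k := ({f x, f y} : Set (G ⧸ K))) (by
      intro a ha b hb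
      simp only [Set.mem_insert_iff, Set.mem_singleton_iff] at ha hb
      rcases ha with rfl | rfl <;> rcases hb with rfl | rfl
      · rfl
      · exact hxy
      · exact hxy.symm
      · rfl)
    have hcommQ : ∀ a b : G ⧸ K, a * b = b * a := by
      intro a b
      have ha : a ∈ Subgroup.closure ({f x, f y} : Set (G ⧸ K)) := by rw [hgen']; trivial
      have hb : b ∈ Subgroup.closure ({f x, f y} : Set (G ⧸ K)) := by rw [hgen']; trivial
      exact setLike_mul_comm ha hb
    let _ : CommGroup (G ⧸ K) := { (inferInstance : Group (G ⧸ K)) with mul_comm := hcommQ }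
    have hle : commutator G ≤ K := by
      have := Abelianization.commutator_subset_ker (QuotientGroup.mk' K)
      rwa [QuotientGroup.ker_mk'] at this
    rw [hcomm] at hle
    have heq : K = Subgroup.zpowers y := le_antisymm hKle hle
    have hord : orderOf (y ^ (r - 1)) = orderOf y := by
      rw [← Nat.card_zpowers, ← Nat.card_zpowers y, ← hK, heq]
    rw [orderOf_pow] at hord
    have hg : (orderOf y).gcd (r - 1) ∣ orderOf y := Nat.gcd_dvd_left _ _
    have hgpos : 0 < (orderOf y).gcd (r - 1) := Nat.gcd_pos_of_pos_left _ hm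
    have : (orderOf y).gcd (r - 1) = 1 := by
      obtain ⟨c, hc⟩ := hg
      have hc' : orderOf y / (orderOf y).gcd (r - 1) = c := by
        rw [hc]
        have := Nat.mul_div_cancel_left c hgpos
        nth_rewrite 1 [← hc] at this ⊢
        rw [← hc]
        exact this
      rw [hc'] at hord
      have : (orderOf y).gcd (r - 1) * c = 1 * c := by rw [one_mul, ← hc, hord]
      exact Nat.eq_of_mul_eq_mul_right (by omega) this
    rw [Nat.coprime_comm]
    exact this
  · -- r ^ n ≡ 1 (mod m)
    have h2 := conj_pow_eq x y r hyr (orderOf x)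
    rw [pow_orderOf_eq_one, inv_one, one_mul, mul_one] at h2
    have h3 : y ^ (r ^ orderOf x) = y ^ 1 := by rw [← h2, pow_one]
    exact pow_eq_pow_iff_modEq.mp h3


theorem zpowers_coe_eq {G : Type*} [Group G] (N : Subgroup G) (y : N)
    (hy : ∀ a : N, a ∈ Subgroup.zpowers y) : Subgroup.zpowers (y : G) = N := by
  have h1 : Subgroup.zpowers y = ⊤ := by
    rw [eq_top_iff]; intro a _; exact hy a
  have h2 : (Subgroup.zpowers y).map N.subtype = Subgroup.zpowers (y : G) := by
    rw [MonoidHom.map_zpowers]; rfl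
  rw [← h2, h1, ← MonoidHom.range_eq_map, Subgroup.range_subtype]

/-- Let G be a finite group all of whose Sylow subgroups are cyclic. Then G is generated by two elements x and y of coprime orders n and m with x⁻¹yx = y^r, where gcd(r − 1, m) = 1 and r^n ≡ 1 (mod m). -/
theorem result {G : Type*} [Group G] [Finite G]
    (hZ : ∀ (p : ℕ) [Fact p.Prime] (P : Sylow p G), IsCyclic (P : Subgroup G)) :
    ∃ (x y : G) (n m r : ℕ), Subgroup.closure {x, y} = ⊤ ∧ orderOf x = n ∧ orderOf y = m ∧
      x⁻¹ * y * x = y ^ r ∧ Nat.Coprime (r - 1) m ∧ Nat.Coprime n m ∧ 1 ≤ r ∧ r ^ n % m = 1 % m := by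
  have hG : IsZGroup G := ⟨fun p hp P => by
    have := Fact.mk hp
    exact hZ p P⟩
  have hNc : IsCyclic (commutator G) := IsZGroup.isCyclic_commutator G
  have hcop := IsZGroup.coprime_commutator_index G
  obtain ⟨H, hH⟩ := Subgroup.exists_right_complement'_of_coprime hcop
  have e : G ⧸ commutator G ≃* H := hH.symm.QuotientMulEquiv
  have hAb : IsCyclic (G ⧸ commutator G) := IsZGroup.isCyclic_abelianization
  have hHc : IsCyclic H := isCyclic_of_surjective e e.surjective
  obtain ⟨y, hy⟩ := hNc.exists_generator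
  obtain ⟨x, hx⟩ := hHc.exists_generator
  have hyN : Subgroup.zpowers (y : G) = commutator G := zpowers_coe_eq _ y hy
  have hxH : Subgroup.zpowers (x : G) = H := zpowers_coe_eq _ x hx
  have hoy : orderOf (y : G) = Nat.card (commutator G) := by
    rw [← Nat.card_zpowers, hyN]
  have hox : orderOf (x : G) = Nat.card H := by
    rw [← Nat.card_zpowers, hxH]
  refine ⟨x, y, ?_⟩
  apply core
  · rw [eq_top_iff, ← hH.sup_eq_top, sup_le_iff]
    constructor
    · refine le_trans hyN.ge ?_
      rw [Subgroup.zpowers_le]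
      exact Subgroup.subset_closure (by simp)
    · refine le_trans hxH.ge ?_
      rw [Subgroup.zpowers_le]
      exact Subgroup.subset_closure (by simp)
  · rw [hyN]; infer_instance
  · exact hyN.symm
  · rw [hox, hoy, ← hH.symm.index_eq_card]
    exact hcop.symm

end Cfsg.Agent.S3379
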