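import Cfsg.Statements.S3382
import Mathlib
import Cfsg.Agent.Lib.Helper53.Monomial2

set_option autoImplicit false
open Cfsg

namespace Cfsg.Agent.S3382

open Cfsg.Agent.Lib.Helper53.Monomial

theorem aux_large (q m : ℕ) (hp : q.Prime) (hq : q = 2 ^ m + 1) (hm : 3 ≤ m) :
    ¬ q ∣ 15 ∧ ¬ q ∣ 2 := by
  have h8 : 2 ^ 3 ≤ 2 ^ m := Nat.pow_le_pow_right (by norm_num) hm
  have h9 : 9 ≤ q := by omega
  constructor
  · intro h
    have e : (15 : ℕ) = 3 * 5 := by norm_num
    rw [e] at h
    rcases (Nat.Prime.dvd_mul hp).mp h with h | h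
    · have := Nat.le_of_dvd (by norm_num) h; omega
    · have := Nat.le_of_dvd (by norm_num) h; omega
  · intro h
    have := Nat.le_of_dvd (by norm_num) h; omega

/-- Let q = 2^m + 1 be a prime other than 5. Then the automorphism group of the group of linear maps of F_q² of the forms (x, y) ↦ (a x, ± a⁻¹ y) and (x, y) ↦ (± a⁻¹ y, a x) with a ≠ 0 is itself a 2-group. -/
theorem result (q m : ℕ) [Fact q.Prime] (hq : q = 2 ^ m + 1) (hq5 : q ≠ 5)
    (T : Subgroup ((Fin 2 → ZMod q) ≃ₗ[ZMod q] (Fin 2 → ZMod q)))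
    (hT : ∀ f, f ∈ T ↔ ∃ a s : ZMod q, a ≠ 0 ∧ (s = 1 ∨ s = -1) ∧
      ((∀ v, f v = ![a * v 0, s * a⁻¹ * v 1]) ∨ (∀ v, f v = ![s * a⁻¹ * v 1, a * v 0]))) :
    IsPGroup 2 (MulAut T) := by
  have hT' : ∀ f : Lq q, f ∈ T ↔
      ∃ a b : ZMod q, (a * b = 1 ∨ a * b = -1) ∧ (IsD f a b ∨ IsW f a b) := by
    intro f
    rw [hT f]
    constructor
    · rintro ⟨a, s, ha, hs, h⟩
      refine ⟨a, s * a⁻¹, ?_, h⟩
      have e : a * (s * a⁻¹) = s := by field_simp
      rw [e]; exact hs
    · rintro ⟨a, b, hs, h⟩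
      obtain ⟨ha0, hb0⟩ := sign_ne_zero hs
      refine ⟨a, a * b, ha0, hs, ?_⟩
      have e : a * b * a⁻¹ = b := by field_simp
      rw [e]; exact h
  have : Finite (Lq q) :=
    Finite.of_injective (fun f : Lq q => (f : (Fin 2 → ZMod q) → (Fin 2 → ZMod q)))
      DFunLike.coe_injective
  have : Finite T := inferInstance
  have main : ∀ (β : MulAut T) (t : ℕ), Odd t → β ^ t = 1 → β = 1 := by
    intro β t ht hβ
    apply MulEquiv.ext
    intro g
    show β g = g
    rcases Nat.lt_or_ge m 3 with hm | hm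
    · interval_cases m
      · -- q = 2
        have hq2 : q = 2 := by omega
        have hpm : ∀ a : ZMod q, a ≠ 0 → a = 1 ∨ a = -1 := by
          intro a ha
          have h := ZMod.pow_card_sub_one_eq_one ha
          have e : q - 1 = 1 := by omega
          rw [e, pow_one] at h
          exact Or.inl h
        have h11 : (-1 : ZMod q) = 1 := by
          have h : ((2 : ℕ) : ZMod q) = 0 :=
            (ZMod.natCast_eq_zero_iff 2 q).mpr (by rw [hq2])
          have h' : (2 : ZMod q) = 0 := by exact_mod_cast h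
          linear_combination -h'
        exact two_fix T hT' hpm h11 β g
      · have hq3 : q = 3 := by omega
        have hpm : ∀ a : ZMod q, a ≠ 0 → a = 1 ∨ a = -1 := by
          intro a ha
          have h := ZMod.pow_card_sub_one_eq_one ha
          have e : q - 1 = 2 := by omega
          rw [e, pow_two] at h
          exact mul_self_eq_one_iff.mp h
        have h2 : (2 : ZMod q) ≠ 0 := by
          intro h
          have h' : ((2 : ℕ) : ZMod q) = 0 := by exact_mod_cast h
          have := (ZMod.natCast_eq_zero_iff 2 q).mp h'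
          have := Nat.le_of_dvd (by norm_num) this
          omega
        exact small_fix T hT' hpm h2 β t ht hβ g
      · exact absurd (by omega) hq5
    · obtain ⟨h15, h2⟩ := aux_large q m Fact.out hq hm
      have hpow : ∀ a : ZMod q, a ≠ 0 → a ^ (2 ^ m) = 1 := by
        intro a ha
        have := ZMod.pow_card_sub_one_eq_one ha
        have e : q - 1 = 2 ^ m := by rw [hq, Nat.add_sub_cancel]
        rwa [e] at this
      have h2' : (2 : ZMod q) ≠ 0 := by
        intro h
        apply h2
        have : ((2 : ℕ) : ZMod q) = 0 := by exact_mod_cast h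
        exact (ZMod.natCast_eq_zero_iff 2 q).mp this
      have h16 : (2 : ZMod q) ^ 4 ≠ 1 := by
        intro h
        apply h15
        have : ((15 : ℕ) : ZMod q) = 0 := by
          push_cast
          linear_combination h
        exact (ZMod.natCast_eq_zero_iff 15 q).mp this
      exact large_fix T hT' m hpow h2' h16 β t ht hβ g
  intro α
  obtain ⟨k, t, ht, hkt⟩ := Nat.exists_eq_two_pow_mul_odd (orderOf_pos α).ne'
  refine ⟨k, ?_⟩
  have h1 : (α ^ 2 ^ k) ^ t = 1 := by rw [← pow_mul, ← hkt, pow_orderOf_eq_one]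
  exact main (α ^ 2 ^ k) t ht h1

end Cfsg.Agent.S3382
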