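-- Statement S3383 (row 3383).
import Cfsg.Statements.S3383
-- import your own Cfsg.Agent.* helpers here

set_option autoImplicit false
open Cfsg

namespace Cfsg.Agent.S3383

open scoped Pointwise

theorem mem_conj_smul {L : Type*} [Group L] (H : Subgroup L) (g x : L) :
    x ∈ MulAut.conj g • H ↔ g⁻¹ * x * g ∈ H := by
  rw [Subgroup.mem_pointwise_smul_iff_inv_smul_mem, MulAut.smul_def, MulAut.conj_inv_apply]

theorem mem_kernel_iff {L : Type*} [Group L] (H K : Subgroup L)
    (hK : (K : Set L) = Cfsg.frobeniusKernel H) (x : L) :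
    x ∈ K ↔ x = 1 ∨ ∀ g : L, g⁻¹ * x * g ∉ H := by
  have : x ∈ (K : Set L) ↔ x ∈ Cfsg.frobeniusKernel H := by rw [hK]
  rw [SetLike.mem_coe] at this
  rw [this]
  unfold Cfsg.frobeniusKernel
  simp only [Set.mem_ofPred_eq, mem_conj_smul]

/-- The Frobenius condition, elementwise. -/
theorem frob_elem {L : Type*} [Group L] (H : Subgroup L) (hH : Cfsg.IsFrobeniusComplement H)
    (g h : L) (hh : h ∈ H) (hh1 : h ≠ 1) (hg : g⁻¹ * h * g ∈ H) : g ∈ H := by
  by_contra hgH
  have := hH.2.2 g hgH
  have hmem : h ∈ H ⊓ (MulAut.conj g • H) := ⟨hh, (mem_conj_smul H g h).2 hg⟩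
  rw [this, Subgroup.mem_bot] at hmem
  exact hh1 hmem

theorem kernel_normal {L : Type*} [Group L] (H K : Subgroup L)
    (hK : (K : Set L) = Cfsg.frobeniusKernel H) : K.Normal := by
  constructor
  intro x hx g
  rw [mem_kernel_iff H K hK] at hx ⊢
  rcases hx with rfl | hx
  · left; group
  · right
    intro a
    have := hx (g⁻¹ * a)
    convert this using 1
    group

theorem kernel_inf {L : Type*} [Group L] (H K : Subgroup L)
    (hK : (K : Set L) = Cfsg.frobeniusKernel H) (x : L) (hxK : x ∈ K) (hxH : x ∈ H) : x = 1 := by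
  rw [mem_kernel_iff H K hK] at hxK
  rcases hxK with rfl | hx
  · rfl
  · exfalso
    apply hx 1
    simpa using hxH

theorem dichotomy {L : Type*} [Group L] [Finite L]
    (H : Subgroup L) (hH : Cfsg.IsFrobeniusComplement H)
    (K : Subgroup L) (hK : (K : Set L) = Cfsg.frobeniusKernel H)
    (N : Subgroup L) (hN : N.Normal) : K ≤ N ∨ N ≤ K := by
  have hKn := kernel_normal H K hK
  by_cases hNK : N ≤ K
  · exact Or.inr hNK
  · left
    obtain ⟨x, hxN, hxK⟩ := SetLike.not_le_iff_exists.mp hNK
    rw [mem_kernel_iff H K hK] at hxK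
    push Not at hxK
    obtain ⟨hx1, g, hg⟩ := hxK
    -- h is a non-identity element of H ⊓ N
    set h := g⁻¹ * x * g with hdef
    have hhN : h ∈ N := by
      have := hN.conj_mem x hxN g⁻¹
      simpa [hdef] using this
    have hh1 : h ≠ 1 := by
      intro h1
      apply hx1
      have : x = g * h * g⁻¹ := by rw [hdef]; group
      rw [this, h1]; group
    -- the map k ↦ k h k⁻¹ h⁻¹ on K
    have hmemK : ∀ k : K, (k : L) * h * (k : L)⁻¹ * h⁻¹ ∈ K := by
      intro k
      have h1 : h * (k : L)⁻¹ * h⁻¹ ∈ K := hKn.conj_mem _ (K.inv_mem k.2) h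
      have h2 := K.mul_mem k.2 h1
      convert h2 using 1
      group
    let ψ : K → K := fun k => ⟨(k : L) * h * (k : L)⁻¹ * h⁻¹, hmemK k⟩
    have hinj : Function.Injective ψ := by
      intro k k' hkk'
      have h1 : (k : L) * h * (k : L)⁻¹ * h⁻¹ = (k' : L) * h * (k' : L)⁻¹ * h⁻¹ :=
        congrArg Subtype.val hkk'
      have h2 : (k : L) * h * (k : L)⁻¹ = (k' : L) * h * (k' : L)⁻¹ := mul_right_cancel h1
      -- c = k'⁻¹ k centralizes h
      have h3 : ((k' : L)⁻¹ * (k : L))⁻¹ * h * ((k' : L)⁻¹ * (k : L)) = h := by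
        calc ((k' : L)⁻¹ * (k : L))⁻¹ * h * ((k' : L)⁻¹ * (k : L))
            = (k : L)⁻¹ * ((k' : L) * h * (k' : L)⁻¹) * (k : L) := by group
          _ = (k : L)⁻¹ * ((k : L) * h * (k : L)⁻¹) * (k : L) := by rw [h2]
          _ = h := by group
      have h4 : (k' : L)⁻¹ * (k : L) ∈ H := frob_elem H hH _ h hg hh1 (by rw [h3]; exact hg)
      have h5 : (k' : L)⁻¹ * (k : L) ∈ K := K.mul_mem (K.inv_mem k'.2) k.2
      have h6 := kernel_inf H K hK _ h5 h4
      apply Subtype.ext
      have : (k : L) = (k' : L) * ((k' : L)⁻¹ * (k : L)) := by group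
      rw [this, h6, mul_one]
    have hsurj := Finite.surjective_of_injective hinj
    intro k hk
    obtain ⟨k', hk'⟩ := hsurj ⟨k, hk⟩
    have : (k' : L) * h * (k' : L)⁻¹ * h⁻¹ = k := congrArg Subtype.val hk'
    rw [← this]
    exact N.mul_mem (hN.conj_mem h hhN k') (N.inv_mem hhN)

/-- Let H be a Frobenius complement in a finite group L and K the Frobenius kernel (as a subgroup). Then K is characteristic in L, and every normal subgroup of L either contains K or is contained in K. -/
theorem result {L : Type*} [Group L] [Finite L]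
    (H : Subgroup L) (hH : Cfsg.IsFrobeniusComplement H)
    (K : Subgroup L) (hK : (K : Set L) = Cfsg.frobeniusKernel H) :
    K.Characteristic ∧ ∀ N : Subgroup L, N.Normal → K ≤ N ∨ N ≤ K := by
  refine ⟨?_, fun N hN => dichotomy H hH K hK N hN⟩
  have hKn := kernel_normal H K hK
  rw [Subgroup.characteristic_iff_map_eq]
  intro φ
  have hNn : (K.map φ.toMonoidHom).Normal := hKn.map _ φ.surjective
  have hcard : Nat.card (K.map φ.toMonoidHom) = Nat.card K :=
    Subgroup.card_map_of_injective φ.injective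
  rcases dichotomy H hH K hK _ hNn with h | h
  · exact (Subgroup.eq_of_le_of_card_ge h hcard.le).symm
  · exact Subgroup.eq_of_le_of_card_ge h hcard.ge

end Cfsg.Agent.S3383
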