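-- Statement S3389 (row 3389).
import Cfsg.Statements.S3389
-- import your own Cfsg.Agent.* helpers here

set_option autoImplicit false
open Cfsg

namespace Cfsg.Agent.S3389

open MulAction

/-- A central element of a transitive faithful group that fixes a point is trivial. -/
theorem center_free {G : Type*} [Group G] {Ω : Type*} [MulAction G Ω] [FaithfulSMul G Ω]
    (htr : MulAction.IsPretransitive G Ω) (z : G) (hz : z ∈ Subgroup.center G) (ω : Ω)
    (h : z • ω = ω) : z = 1 := by
  apply FaithfulSMul.eq_of_smul_eq_smul (α := Ω)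
  intro ω'
  obtain ⟨x, rfl⟩ := MulAction.exists_smul_eq G ω ω'
  rw [one_smul, ← mul_smul, ← (Subgroup.mem_center_iff.mp hz x), mul_smul, h]

/-- The fixed points of `g`, as a sub-action of the centre. -/
def fixSub {G : Type*} [Group G] {Ω : Type*} [MulAction G Ω] (g : G) :
    SubMulAction (Subgroup.center G) Ω where
  carrier := MulAction.fixedBy Ω g
  smul_mem' := by
    intro z ω hω
    rw [MulAction.mem_fixedBy] at hω ⊢
    change g • ((z : G) • ω) = (z : G) • ω
    rw [← mul_smul, (Subgroup.mem_center_iff.mp z.2 g), mul_smul, hω]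

theorem part_a {G : Type*} [Group G] [Finite G] {Ω : Type*} [Fintype Ω] [MulAction G Ω]
    [FaithfulSMul G Ω] (htr : MulAction.IsPretransitive G Ω) (g : G) :
    Nat.card (Subgroup.center G) ∣ Nat.card (MulAction.fixedBy Ω g) := by
  have hstab : ∀ b : fixSub (Ω := Ω) g, MulAction.stabilizer (Subgroup.center G) b = ⊥ := by
    intro b
    rw [eq_bot_iff]
    intro z hz
    rw [MulAction.mem_stabilizer_iff] at hz
    have h1 : (z : G) • (b : Ω) = (b : Ω) := congrArg Subtype.val hz
    have := center_free htr (z : G) z.2 (b : Ω) h1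
    rw [Subgroup.mem_bot]
    exact Subtype.ext this
  have e := MulAction.selfEquivOrbitsQuotientProd hstab
  have h1 : Nat.card (fixSub (Ω := Ω) g) = Nat.card (MulAction.fixedBy Ω g) := rfl
  rw [← h1, Nat.card_congr e, Nat.card_prod]
  exact dvd_mul_left _ _

/-- A `p`-subgroup centralizing `y`, where `y` has fewer than `p` fixed points, fixes every fixed
point of `y`. -/
theorem lemma_B {G : Type*} [Group G] [Finite G] {Ω : Type*} [Fintype Ω] [MulAction G Ω]
    (p : ℕ) [Fact p.Prime] (P : Subgroup G) (hP : IsPGroup p P) (y : G)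
    (hcomm : ∀ g ∈ P, g * y = y * g) (hlt : Nat.card (MulAction.fixedBy Ω y) < p)
    (ω : Ω) (hω : ω ∈ MulAction.fixedBy Ω y) : ∀ g ∈ P, g • ω = ω := by
  have hsub : MulAction.orbit P ω ⊆ MulAction.fixedBy Ω y := by
    rintro _ ⟨g, rfl⟩
    rw [MulAction.mem_fixedBy] at hω ⊢
    change y • ((g : G) • ω) = (g : G) • ω
    rw [← mul_smul, ← hcomm g g.2, mul_smul, hω]
  have hle : (MulAction.orbit P ω).ncard < p := by
    have h1 := Set.ncard_le_ncard hsub (Set.toFinite _)
    have h2 : (MulAction.fixedBy Ω y).ncard = Nat.card (MulAction.fixedBy Ω y) :=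
      (Nat.card_coe_set_eq _).symm
    omega
  have hidx : (MulAction.stabilizer P ω).index = (MulAction.orbit P ω).ncard :=
    MulAction.index_stabilizer P ω
  obtain ⟨n, hn⟩ := IsPGroup.exists_card_eq hP
  have hdvd : (MulAction.stabilizer P ω).index ∣ p ^ n := by
    rw [← hn]; exact Subgroup.index_dvd_card _
  obtain ⟨j, -, hj⟩ := (Nat.dvd_prime_pow (Fact.out : p.Prime)).1 hdvd
  have hj0 : j = 0 := by
    by_contra hj0
    have : p ≤ p ^ j := Nat.le_self_pow hj0 p
    omega
  rw [hj0, pow_zero, Subgroup.index_eq_one] at hj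
  intro g hg
  have : (⟨g, hg⟩ : P) ∈ MulAction.stabilizer P ω := by rw [hj]; trivial
  exact this

/-- A Sylow `p`-subgroup (`p` larger than the fixity) containing a nontrivial element `x` fixes all
fixed points of `x`. -/
theorem lemma_C {G : Type*} [Group G] [Finite G] {Ω : Type*} [Fintype Ω] [MulAction G Ω]
    (k : ℕ) (hfix : ∀ g : G, g ≠ 1 → Nat.card (MulAction.fixedBy Ω g) ≤ k)
    (p : ℕ) [Fact p.Prime] (hkp : k < p) (Q : Sylow p G) (x : G) (hx : x ∈ Q) (hx1 : x ≠ 1)
    (ω : Ω) (hω : ω ∈ MulAction.fixedBy Ω x) : ∀ g ∈ Q, g • ω = ω := by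
  have hQ : IsPGroup p (Q : Subgroup G) := Q.isPGroup'
  have : Nontrivial (Q : Subgroup G) := ⟨⟨⟨x, hx⟩, 1, fun h => hx1 (congrArg Subtype.val h)⟩⟩
  have := hQ.center_nontrivial
  obtain ⟨z, hz1⟩ := exists_ne (1 : Subgroup.center (Q : Subgroup G))
  -- z as an element of G
  set z' : G := ((z : (Q : Subgroup G)) : G) with hz'
  have hz'Q : z' ∈ (Q : Subgroup G) := (z : (Q : Subgroup G)).2
  have hz'1 : z' ≠ 1 := by
    intro h
    apply hz1
    apply Subtype.ext
    apply Subtype.ext
    exact h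
  have hzc : ∀ g ∈ (Q : Subgroup G), g * z' = z' * g := by
    intro g hg
    have := Subgroup.mem_center_iff.mp z.2 ⟨g, hg⟩
    exact congrArg Subtype.val this
  -- z fixes ω
  have h1 : z' • ω = ω := by
    apply lemma_B p (Subgroup.zpowers z') (hQ.to_le (Subgroup.zpowers_le.mpr hz'Q)) x ?_ ?_ ω hω z'
      (Subgroup.mem_zpowers z')
    · intro g hg
      obtain ⟨i, rfl⟩ := Subgroup.mem_zpowers_iff.mp hg
      have : Commute z' x := (hzc x hx).symm
      exact (this.zpow_left i).eq
    · exact lt_of_le_of_lt (hfix x hx1) hkp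
  apply lemma_B p (Q : Subgroup G) hQ z' hzc (lt_of_le_of_lt (hfix z' hz'1) hkp) ω
  exact h1

theorem part_c {G : Type*} [Group G] [Finite G] {Ω : Type*} [Fintype Ω] [MulAction G Ω]
    (k : ℕ) (hfix : ∀ g : G, g ≠ 1 → Nat.card (MulAction.fixedBy Ω g) ≤ k)
    (p : ℕ) (hp : p.Prime) (hkp : k < p) (α : Ω)
    (hdvd : p ∣ Nat.card (MulAction.stabilizer G α)) :
    ¬ p ∣ (MulAction.stabilizer G α).index := by
  have : Fact p.Prime := ⟨hp⟩
  obtain ⟨x, hx⟩ := exists_prime_orderOf_dvd_card' (G := MulAction.stabilizer G α) p hdvd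
  have hx' : orderOf (x : G) = p := by rw [Subgroup.orderOf_coe]; exact hx
  have hx1 : (x : G) ≠ 1 := by
    intro h
    rw [h, orderOf_one] at hx'
    exact hp.one_lt.ne hx'
  have hPx : IsPGroup p (Subgroup.zpowers (x : G)) := by
    apply IsPGroup.of_card (n := 1)
    rw [Nat.card_zpowers, hx', pow_one]
  obtain ⟨Q, hQ⟩ := hPx.exists_le_sylow
  have hxQ : (x : G) ∈ Q := hQ (Subgroup.mem_zpowers _)
  have hle : (Q : Subgroup G) ≤ MulAction.stabilizer G α := by
    intro g hg
    exact lemma_C k hfix p hkp Q x hxQ hx1 α x.2 g hg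
  intro h
  exact Q.not_dvd_index (dvd_trans h (Subgroup.index_dvd_of_le hle))


/-- If `q` has at most two fixed points, two of which are `α ≠ β`, then these are all. -/
theorem lemma_D {G : Type*} [Group G] {Ω : Type*} [Fintype Ω] [MulAction G Ω]
    (q : G) (hq : Nat.card (MulAction.fixedBy Ω q) ≤ 2) (α β ω : Ω) (hαβ : α ≠ β)
    (hα : q • α = α) (hβ : q • β = β) (hω : q • ω = ω) : ω = α ∨ ω = β := by
  by_contra hcon
  push Not at hcon
  have hsub : ({α, β, ω} : Set Ω) ⊆ MulAction.fixedBy Ω q := by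
    intro y hy
    rcases hy with rfl | rfl | rfl
    · exact hα
    · exact hβ
    · exact hω
  have h1 := Set.ncard_le_ncard hsub (Set.toFinite _)
  have h2 : (MulAction.fixedBy Ω q).ncard = Nat.card (MulAction.fixedBy Ω q) :=
    (Nat.card_coe_set_eq _).symm
  have h3 : ({α, β, ω} : Set Ω).ncard = 3 := by
    apply Set.ncard_eq_three.mpr
    exact ⟨α, β, ω, hαβ, hcon.1.symm, hcon.2.symm, rfl⟩
  omega

theorem part_b {G : Type*} [Group G] [Finite G] {Ω : Type*} [Fintype Ω] [MulAction G Ω]
    (htr : MulAction.IsPretransitive G Ω)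
    (hfix : ∀ g : G, g ≠ 1 → Nat.card (MulAction.fixedBy Ω g) ≤ 2)
    (hex : ∃ g : G, g ≠ 1 ∧ Nat.card (MulAction.fixedBy Ω g) = 2) : 2 ∣ Nat.card G := by
  by_contra hodd
  obtain ⟨g, hg1, hg2⟩ := hex
  obtain ⟨a, b, hab, -⟩ := Nat.card_eq_two_iff.mp hg2
  set α : Ω := (a : Ω) with hα
  set β : Ω := (b : Ω) with hβ
  have hαβ : α ≠ β := fun h => hab (Subtype.ext h)
  have hgα : g • α = α := a.2
  have hgβ : g • β = β := b.2
  -- a prime dividing the order of g
  have hog : orderOf g ≠ 1 := by rwa [Ne, orderOf_eq_one_iff]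
  obtain ⟨p, hp, hpg⟩ := Nat.exists_prime_and_dvd hog
  have : Fact p.Prime := ⟨hp⟩
  have hp2 : 2 < p := by
    have hpG : p ∣ Nat.card G := dvd_trans hpg (orderOf_dvd_natCard g)
    have : p ≠ 2 := by
      rintro rfl
      exact hodd hpG
    have := hp.two_le
    omega
  set x : G := g ^ (orderOf g / p) with hx
  have hox : orderOf x = p := orderOf_pow_orderOf_div (orderOf_pos g).ne' hpg
  have hx1 : x ≠ 1 := by
    intro h
    rw [h, orderOf_one] at hox
    exact hp.one_lt.ne hox
  have hxα : x • α = α := by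
    have : x ∈ MulAction.stabilizer G α := Subgroup.pow_mem _ hgα _
    exact this
  have hxβ : x • β = β := by
    have : x ∈ MulAction.stabilizer G β := Subgroup.pow_mem _ hgβ _
    exact this
  have hPx : IsPGroup p (Subgroup.zpowers x) := by
    apply IsPGroup.of_card (n := 1)
    rw [Nat.card_zpowers, hox, pow_one]
  obtain ⟨Q, hQ⟩ := hPx.exists_le_sylow
  have hxQ : x ∈ Q := hQ (Subgroup.mem_zpowers _)
  have hQα : ∀ q ∈ Q, q • α = α := lemma_C 2 hfix p hp2 Q x hxQ hx1 α hxα
  have hQβ : ∀ q ∈ Q, q • β = β := lemma_C 2 hfix p hp2 Q x hxQ hx1 β hxβ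
  -- elements of odd order cannot swap α and β
  have hoddfix : ∀ n : G, (n • α = α ∨ n • α = β) → (n • β = α ∨ n • β = β) → n • α = α := by
    intro n h1 h2
    rcases h1 with h1 | h1
    · exact h1
    · exfalso
      have h3 : n • β = α := by
        rcases h2 with h2 | h2
        · exact h2
        · exfalso
          have : n • α = n • β := by rw [h1, h2]
          exact hαβ (MulAction.injective n this)
      have h4 : (n ^ 2) • α = α := by rw [pow_two, mul_smul, h1, h3]
      have hon : ¬ 2 ∣ orderOf n := fun h => hodd (dvd_trans h (orderOf_dvd_natCard n))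
      obtain ⟨j, hj⟩ : ∃ j, orderOf n = 2 * j + 1 := by
        have := Nat.odd_iff.mpr (Nat.two_dvd_ne_zero.mp hon)
        exact this
      have h5 : n = (n ^ 2) ^ (j + 1) := by
        rw [← pow_mul]
        have : 2 * (j + 1) = orderOf n + 1 := by omega
        rw [this, pow_succ, pow_orderOf_eq_one, one_mul]
      have h6 : (n ^ 2) ^ (j + 1) ∈ MulAction.stabilizer G α := Subgroup.pow_mem _ h4 _
      rw [← h5] at h6
      have : n • α = α := h6
      rw [h1] at this
      exact hαβ this.symm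
  -- the normalizer of Q fixes α
  have hN : ∀ n ∈ Subgroup.normalizer ((Q : Subgroup G) : Set G), n • α = α := by
    intro n hn
    have hq : n * x * n⁻¹ ∈ (Q : Subgroup G) := (Subgroup.mem_normalizer_iff.mp hn x).mp hxQ
    have hq1 : n * x * n⁻¹ ≠ 1 := by
      intro h
      apply hx1
      have : x = n⁻¹ * (n * x * n⁻¹) * n := by group
      rw [this, h]; group
    have hfixq : ∀ ω : Ω, x • ω = ω → (n * x * n⁻¹) • (n • ω) = n • ω := by
      intro ω hω
      rw [← mul_smul, inv_mul_cancel_right, mul_smul, hω]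
    apply hoddfix
    · exact lemma_D _ (hfix _ hq1) α β _ hαβ (hQα _ hq) (hQβ _ hq) (hfixq α hxα)
    · exact lemma_D _ (hfix _ hq1) α β _ hαβ (hQα _ hq) (hQβ _ hq) (hfixq β hxβ)
  -- conjugacy
  obtain ⟨x₀, hx₀⟩ := MulAction.exists_smul_eq G α β
  have hx₀' : x₀⁻¹ • β = α := by rw [← hx₀, inv_smul_smul]
  have hQS : (Q : Subgroup G) ≤ MulAction.stabilizer G α := fun q hq => hQα q hq
  have hQ'S : ((x₀⁻¹ • Q : Sylow p G) : Subgroup G) ≤ MulAction.stabilizer G α := by
    intro q hq
    rw [Sylow.coe_subgroup_smul, Subgroup.mem_pointwise_smul_iff_inv_smul_mem, MulAut.smul_def,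
      MulAut.conj_inv_apply, inv_inv] at hq
    have h1 := hQβ _ hq
    rw [MulAction.mem_stabilizer_iff]
    rw [mul_smul, mul_smul, hx₀', smul_eq_iff_eq_inv_smul, hx₀'] at h1
    exact h1
  obtain ⟨s, hs⟩ := MulAction.exists_smul_eq (MulAction.stabilizer G α) (Q.subtype hQS)
    ((x₀⁻¹ • Q : Sylow p G).subtype hQ'S)
  rw [Sylow.smul_subtype] at hs
  have hs' : s • Q = x₀⁻¹ • Q := Sylow.subtype_injective hs
  have hs'' : (x₀ * (s : G)) • Q = Q := by
    rw [mul_smul]
    have : (s : G) • Q = x₀⁻¹ • Q := hs'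
    rw [this, smul_inv_smul]
  have hmem := Sylow.smul_eq_iff_mem_normalizer.mp hs''
  have h1 := hN _ hmem
  rw [mul_smul] at h1
  have h2 : (s : G) • α = α := s.2
  rw [h2, hx₀] at h1
  exact hαβ h1.symm

/-- Let G be a finite group acting faithfully and transitively on a finite set Ω with fixity k ≥ 1: every non-identity element fixes at most k points and some non-identity element fixes exactly k points. Then |Z(G)| divides k; if k = 2 then |G| is even; and for every prime p > k dividing |G| and every point α, either p does not divide |G_α| or G_α contains a Sylow p-subgroup of G. -/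
theorem result {G : Type*} [Group G] [Finite G] {Ω : Type*} [Fintype Ω] [MulAction G Ω] [FaithfulSMul G Ω]
    (htr : MulAction.IsPretransitive G Ω) (k : ℕ) (hk : 1 ≤ k)
    (hfix : ∀ g : G, g ≠ 1 → Nat.card (MulAction.fixedBy Ω g) ≤ k) (hex : ∃ g : G, g ≠ 1 ∧ Nat.card (MulAction.fixedBy Ω g) = k) :
    Nat.card (Subgroup.center G) ∣ k ∧ (k = 2 → 2 ∣ Nat.card G) ∧
      ∀ (p : ℕ), p.Prime → k < p → p ∣ Nat.card G → ∀ α : Ω,
        ¬ p ∣ Nat.card (MulAction.stabilizer G α) ∨ ¬ p ∣ (MulAction.stabilizer G α).index := by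
  refine ⟨?_, ?_, ?_⟩
  · obtain ⟨g, -, hg⟩ := hex
    rw [← hg]
    exact part_a htr g
  · rintro rfl
    exact part_b htr hfix hex
  · intro p hp hkp _ α
    by_cases h : p ∣ Nat.card (MulAction.stabilizer G α)
    · exact Or.inr (part_c k hfix p hp hkp α h)
    · exact Or.inl h

end Cfsg.Agent.S3389
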