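import Cfsg.Statements.S3391
import Mathlib
import Cfsg.Agent.Lib.Helper95.SzFixity
import Cfsg.Agent.Lib.Helper95.SzIso
import Cfsg.Agent.Lib.Helper6.SzOrder
set_option autoImplicit false
open Cfsg

namespace Cfsg.Agent.S3391

open Cfsg.Agent.Lib.Helper95 Cfsg.Agent.Lib.Helper95.Fixity Cfsg.Agent.Lib.Helper6

/-- Let q = 2^{2m+1} ≥ 8 and let G be isomorphic to the Suzuki group Sz(q). If G acts faithfully and transitively on a finite set Ω with fixity 2 (every non-identity element fixes at most two points, and some fixes exactly two), then either |Ω| = q² + 1 and the action is 2-transitive, or |Ω| = q²(q² + 1) and the point stabilizers have order q − 1. -/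
theorem result {G : Type*} [Group G] [Finite G] (F : Type) [Field F] [Fintype F] (m : ℕ) (hm : 1 ≤ m) (hF : Fintype.card F = 2 ^ (2 * m + 1))
    (e : G ≃* ↥(Cfsg.Lie.Sz F (2 ^ (m + 1)))) {Ω : Type*} [Fintype Ω] [MulAction G Ω] [FaithfulSMul G Ω] (htr : MulAction.IsPretransitive G Ω)
    (hfix : ∀ g : G, g ≠ 1 → Nat.card (MulAction.fixedBy Ω g) ≤ 2) (hex : ∃ g : G, g ≠ 1 ∧ Nat.card (MulAction.fixedBy Ω g) = 2) :
    (Fintype.card Ω = Fintype.card F ^ 2 + 1 ∧ MulAction.IsMultiplyPretransitive G Ω 2) ∨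
    (Fintype.card Ω = Fintype.card F ^ 2 * (Fintype.card F ^ 2 + 1) ∧ ∀ α : Ω, Nat.card (MulAction.stabilizer G α) = Fintype.card F - 1) := by
  have := sz_charP hF
  let iso : ↥(Cfsg.Sz F m) ≃* G := (szIso hm hF).trans e.symm
  let _ : MulAction (Cfsg.Sz F m) Ω := MulAction.compHom Ω iso.toMonoidHom
  have hsmul : ∀ (s : Cfsg.Sz F m) (x : Ω), s • x = iso s • x := fun s x => rfl
  have htr' : MulAction.IsPretransitive (Cfsg.Sz F m) Ω := ⟨fun x y => by
    obtain ⟨g, hg⟩ := htr.exists_smul_eq x y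
    exact ⟨iso.symm g, by rw [hsmul, MulEquiv.apply_symm_apply, hg]⟩⟩
  have hfixed : ∀ s : Cfsg.Sz F m, MulAction.fixedBy Ω s = MulAction.fixedBy Ω (iso s) :=
    fun s => rfl
  have hfix' : ∀ s : Cfsg.Sz F m, s ≠ 1 → Nat.card (MulAction.fixedBy Ω s) ≤ 2 := by
    intro s hs
    rw [hfixed]
    exact hfix (iso s) (by simpa using hs)
  have hex' : ∃ s : Cfsg.Sz F m, s ≠ 1 ∧ Nat.card (MulAction.fixedBy Ω s) = 2 := by
    obtain ⟨g, hg1, hg⟩ := hex
    refine ⟨iso.symm g, ?_, ?_⟩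
    · simpa using hg1
    · rw [hfixed, MulEquiv.apply_symm_apply]; exact hg
  rcases main_sz hm hF hfix' hex' with ⟨h1, h2⟩ | ⟨h1, h2⟩
  · left
    refine ⟨h1, ?_⟩
    rw [MulAction.is_two_pretransitive_iff] at h2 ⊢
    intro a b c d hab hcd
    obtain ⟨s, hs1, hs2⟩ := h2 hab hcd
    exact ⟨iso s, hs1, hs2⟩
  · right
    refine ⟨h1, ?_⟩
    intro α
    have hG : Nat.card G = Nat.card (Cfsg.Sz F m) := Nat.card_congr iso.symm.toEquiv
    have h3 := Subgroup.card_mul_index (MulAction.stabilizer G α)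
    rw [MulAction.index_stabilizer_of_transitive, hG, card_Sz hm hF,
      Nat.card_eq_fintype_card (α := Ω), h1, hF] at h3
    rw [hF]
    have hpos : 0 < (2 ^ (2 * m + 1)) ^ 2 * ((2 ^ (2 * m + 1)) ^ 2 + 1) := by positivity
    apply Nat.eq_of_mul_eq_mul_right hpos
    rw [h3, mul_comm]

end Cfsg.Agent.S3391
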