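import Cfsg.Statements.S3401
import Cfsg.Agent.Lib.Helper59.TwoModFour

set_option autoImplicit false
open Cfsg

namespace Cfsg.Agent.S3401

/-- a finite non-trivial group has a minimal normal subgroup -/
theorem exists_min_normal {G : Type*} [Group G] [Finite G] [Nontrivial G] :
    ∃ N : Subgroup G, N.Normal ∧ N ≠ ⊥ ∧
      ∀ M : Subgroup G, M.Normal → M ≤ N → M = ⊥ ∨ M = N := by
  classical
  let S : Set (Subgroup G) := {N | N.Normal ∧ N ≠ ⊥}
  have hS : S.Nonempty := ⟨⊤, inferInstance, top_ne_bot⟩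
  obtain ⟨N, hNS, hNmin⟩ := (Set.toFinite S).exists_minimalFor (fun N : Subgroup G => Nat.card N) S hS
  refine ⟨N, hNS.1, hNS.2, fun M hM hMN => ?_⟩
  by_cases hMb : M = ⊥
  · exact Or.inl hMb
  · right
    have h1 : Nat.card N ≤ Nat.card M := hNmin ⟨hM, hMb⟩ (Subgroup.card_le_of_le hMN)
    exact Subgroup.eq_of_le_of_card_ge hMN h1

open MulAction Cfsg.Agent.Lib.Helper59 in
/-- Let G be a doubly transitive permutation group on a finite set Ω with |Ω| ≡ 2 mod 4 and |Ω| > 2. Then G has a unique minimal normal subgroup M (a nontrivial normal subgroup contained in every nontrivial normal subgroup); M is simple and doubly transitive on Ω, and its centralizer in G is trivial (so G embeds in Aut(M)). -/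
theorem result {G : Type*} [Group G] [Finite G] {Ω : Type*} [Fintype Ω] [MulAction G Ω] [FaithfulSMul G Ω]
    (h2 : MulAction.IsMultiplyPretransitive G Ω 2) (hn : Fintype.card Ω % 4 = 2) (hn2 : 2 < Fintype.card Ω) :
    ∃ M : Subgroup G, M.Normal ∧ M ≠ ⊥ ∧ (∀ N : Subgroup G, N.Normal → N ≠ ⊥ → M ≤ N) ∧
      IsSimpleGroup ↥M ∧ MulAction.IsMultiplyPretransitive ↥M Ω 2 ∧ Subgroup.centralizer (M : Set G) = ⊥ := by
  classical
  obtain ⟨a, b, c, hab, hac, hbc⟩ := Fintype.two_lt_card_iff.mp hn2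
  have hne : Nonempty Ω := ⟨a⟩
  have h2e : ∀ a b c d : Ω, a ≠ b → c ≠ d → ∃ g : G, g • a = c ∧ g • b = d :=
    fun a b c d hab hcd => (is_two_pretransitive_iff.mp h2) hab hcd
  have hGnt : Nontrivial G := by
    obtain ⟨g, hg1, _⟩ := h2e a b b a hab hab.symm
    refine ⟨⟨g, 1, fun h => ?_⟩⟩
    rw [h, one_smul] at hg1
    exact hab hg1
  have hcard : Nat.card Ω % 4 = 2 := by rw [Nat.card_eq_fintype_card]; exact hn
  obtain ⟨M, hMn, hM, hmin⟩ := exists_min_normal (G := G)
  have h2M := normal_two_transitive_of_two_mod_four h2 hcard M hM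
  have h2M' : IsMultiplyPretransitive ↥M Ω 2 := by
    rw [is_two_pretransitive_iff]
    intro a b c d hab hcd
    obtain ⟨x, hx, hxa, hxb⟩ := h2M a b c d hab hcd
    exact ⟨⟨x, hx⟩, hxa, hxb⟩
  have hprimM : IsPreprimitive ↥M Ω := isPreprimitive_of_is_two_pretransitive h2M'
  have hsimple : IsSimpleGroup ↥M := isSimpleGroup_of_isPreprimitive h2 M hM hmin hprimM
  have hMt : STrans Ω M := by
    have : IsPretransitive ↥M Ω := hprimM.toIsPretransitive
    exact sTrans_of_isPretransitive M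
  have hC : Subgroup.centralizer (M : Set G) = ⊥ := by
    by_contra hC
    have hsemi := sSemireg_centralizer (Ω := Ω) M hMt
    obtain ⟨x, hx, hxa, hxb⟩ :=
      normal_two_transitive_of_two_mod_four h2 hcard (Subgroup.centralizer (M : Set G)) hC
        a b a c hab hac
    have hx1 := hsemi x hx a hxa
    rw [hx1, one_smul] at hxb
    exact hbc hxb
  refine ⟨M, hMn, hM, ?_, hsimple, h2M', hC⟩
  intro N hNn hN
  have hinf : (M ⊓ N).Normal := inferInstance
  rcases hmin (M ⊓ N) hinf inf_le_left with h | h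
  · exfalso
    apply hN
    rw [eq_bot_iff, ← hC]
    intro x hx
    rw [Subgroup.mem_centralizer_iff]
    intro m hm
    have hmem : x * m * x⁻¹ * m⁻¹ ∈ M ⊓ N := by
      refine ⟨M.mul_mem (hMn.conj_mem m hm x) (M.inv_mem hm), ?_⟩
      have e : x * m * x⁻¹ * m⁻¹ = x * (m * x⁻¹ * m⁻¹) := by group
      rw [e]
      exact N.mul_mem hx (hNn.conj_mem x⁻¹ (N.inv_mem hx) m)
    rw [h, Subgroup.mem_bot] at hmem
    have : x * m = m * x := by
      have h3 : x * m * x⁻¹ * m⁻¹ * (m * x) = m * x := by rw [hmem, one_mul]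
      rw [← h3]; group
    exact this.symm
  · exact inf_eq_left.mp h

end Cfsg.Agent.S3401
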