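import Cfsg.Statements.S3419
import Cfsg.Agent.Lib.Helper1.Hall
import Cfsg.Agent.Lib.Helper99.AltOrder
import Cfsg.Agent.Lib.Helper99.TwoPrimes

set_option autoImplicit false
open Cfsg

namespace Cfsg.Agent.S3419

open Cfsg.Agent.Lib.Helper99 Nat

theorem not_solvable_of_data {G : Type*} [Group G] [Finite G] (n p r a m : ℕ) (hp : p.Prime)
    (hr : r.Prime) (hpr : p ≠ r) (ha : 0 < a)
    (hcard : Nat.card G = p ^ a * r * m) (hcop : Nat.Coprime (p ^ a * r) m)
    (hdiv : ∀ d, d ∣ p ^ a → d % r = 1 → d = 1) (hpr1 : ¬ p ∣ r - 1) (hn : n < p + r)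
    (hspec : Set.range (orderOf : G → ℕ) =
      Set.range (orderOf : ↥(alternatingGroup (Fin n)) → ℕ)) :
    ¬ Group.IsSolvable G := by
  intro hsol
  obtain ⟨H, hH⟩ := Cfsg.Agent.Lib.Helper1.hall_exists (G := G) (p ^ a * r) m hcard hcop
  obtain ⟨g, hg⟩ := exists_orderOf_eq_mul_of_card (H := H) hp hr hpr hH ha hdiv hpr1
  have hg' : orderOf (g : G) = r * p := by rw [Subgroup.orderOf_coe, hg]
  exact orderOf_ne_mul_of_spec hspec hr hp hpr.symm (by omega) (g : G) hg'

lemma card_alt_of_factorial {n N : ℕ} (hn : 2 ≤ n) (h : n ! = 2 * N) :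
    Nat.card (alternatingGroup (Fin n)) = N := by
  have := two_mul_card_alt n hn
  omega

/-- Let n ≥ 5 and let G be a finite group with the same order and the same set of element orders as the alternating group of degree n. Then G is not solvable. -/
theorem result {G : Type*} [Group G] [Finite G] (n : ℕ) (hn : 5 ≤ n)
    (hcard : Nat.card G = Nat.card ↥(alternatingGroup (Fin n)))
    (hspec : Set.range (orderOf : G → ℕ) = Set.range (orderOf : ↥(alternatingGroup (Fin n)) → ℕ)) :
    ¬ Group.IsSolvable G := by
  rcases Nat.lt_or_ge n 11 with hlt | hge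
  · interval_cases n
    · -- n = 5 : 60 = 3 * 5 * 4
      rw [card_alt_of_factorial (N := 60) (by norm_num) (by decide)] at hcard
      refine not_solvable_of_data 5 3 5 1 4 (by norm_num) (by norm_num) (by norm_num) (by norm_num)
        (by rw [hcard]; norm_num) (by norm_num) ?_ (by norm_num) (by norm_num) hspec
      intro d hd h1
      have := Nat.le_of_dvd (by norm_num) hd
      interval_cases d <;> simp_all
    · -- n = 6 : 360 = 9 * 5 * 8
      rw [card_alt_of_factorial (N := 360) (by norm_num) (by decide)] at hcard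
      refine not_solvable_of_data 6 3 5 2 8 (by norm_num) (by norm_num) (by norm_num) (by norm_num)
        (by rw [hcard]; norm_num) (by norm_num) ?_ (by norm_num) (by norm_num) hspec
      intro d hd h1
      have := Nat.le_of_dvd (by norm_num) hd
      interval_cases d <;> simp_all
    · -- n = 7 : 2520 = 5 * 7 * 72
      rw [card_alt_of_factorial (N := 2520) (by norm_num) (by decide)] at hcard
      refine not_solvable_of_data 7 5 7 1 72 (by norm_num) (by norm_num) (by norm_num) (by norm_num)
        (by rw [hcard]; norm_num) (by norm_num) ?_ (by norm_num) (by norm_num) hspec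
      intro d hd h1
      have := Nat.le_of_dvd (by norm_num) hd
      interval_cases d <;> simp_all
    · -- n = 8 : 20160 = 5 * 7 * 576
      rw [card_alt_of_factorial (N := 20160) (by norm_num) (by decide)] at hcard
      refine not_solvable_of_data 8 5 7 1 576 (by norm_num) (by norm_num) (by norm_num) (by norm_num)
        (by rw [hcard]; norm_num) (by norm_num) ?_ (by norm_num) (by norm_num) hspec
      intro d hd h1
      have := Nat.le_of_dvd (by norm_num) hd
      interval_cases d <;> simp_all
    · -- n = 9 : 181440 = 5 * 7 * 5184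
      rw [card_alt_of_factorial (N := 181440) (by norm_num) (by decide)] at hcard
      refine not_solvable_of_data 9 5 7 1 5184 (by norm_num) (by norm_num) (by norm_num) (by norm_num)
        (by rw [hcard]; norm_num) (by norm_num) ?_ (by norm_num) (by norm_num) hspec
      intro d hd h1
      have := Nat.le_of_dvd (by norm_num) hd
      interval_cases d <;> simp_all
    · -- n = 10 : 1814400 = 25 * 7 * 10368
      rw [card_alt_of_factorial (N := 1814400) (by norm_num) (by decide)] at hcard
      refine not_solvable_of_data 10 5 7 2 10368 (by norm_num) (by norm_num) (by norm_num)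
        (by norm_num) (by rw [hcard]; norm_num) (by norm_num) ?_ (by norm_num) (by norm_num) hspec
      intro d hd h1
      have := Nat.le_of_dvd (by norm_num) hd
      interval_cases d <;> simp_all
  · -- n ≥ 11
    obtain ⟨p, r, hp, hr, hpr, hnp, hrn⟩ := exists_two_primes_half n hge
    have hp2 : p ≠ 2 := by omega
    have hr2 : r ≠ 2 := by omega
    have hpn : p ≤ n := by omega
    have hnr : n < 2 * r := by omega
    have hpd : p ∣ Nat.card G := hcard ▸ prime_dvd_card_alt hp hp2 hpn
    have hrd : r ∣ Nat.card G := hcard ▸ prime_dvd_card_alt hr hr2 hrn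
    have hpsq : ¬ p ^ 2 ∣ Nat.card G := hcard ▸ prime_sq_not_dvd_card_alt hp hpn hnp
    have hrsq : ¬ r ^ 2 ∣ Nat.card G := hcard ▸ prime_sq_not_dvd_card_alt hr hrn hnr
    have hcop : Nat.Coprime p r := (Nat.coprime_primes hp hr).mpr hpr.ne
    obtain ⟨m, hm⟩ := hcop.mul_dvd_of_dvd_of_dvd hpd hrd
    have hcopm : Nat.Coprime (p ^ 1 * r) m := by
      rw [pow_one]
      apply Nat.Coprime.mul_left
      · rw [Nat.Prime.coprime_iff_not_dvd hp]
        rintro ⟨k, rfl⟩
        apply hpsq
        rw [hm]
        exact ⟨r * k, by ring⟩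
      · rw [Nat.Prime.coprime_iff_not_dvd hr]
        rintro ⟨k, rfl⟩
        apply hrsq
        rw [hm]
        exact ⟨p * k, by ring⟩
    refine not_solvable_of_data n p r 1 m hp hr hpr.ne one_pos (by rw [hm, pow_one]) hcopm ?_
      (not_dvd_sub_one_of_half hp hr hp2 hr2 hnp hrn) (by omega) hspec
    intro d hd h1
    rw [pow_one] at hd
    rcases (Nat.dvd_prime hp).mp hd with rfl | rfl
    · rfl
    · rw [Nat.mod_eq_of_lt hpr] at h1
      exact absurd h1 hp.one_lt.ne'

end Cfsg.Agent.S3419
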