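import Cfsg.Statements.S3420
import Cfsg.Agent.Lib.Helper99.AltOrder
import Cfsg.Agent.Lib.Helper99.TwoPrimes
import Cfsg.Agent.Lib.Helper99.SimpleSection

set_option autoImplicit false
open Cfsg

namespace Cfsg.Agent.S3420

open Cfsg.Agent.Lib.Helper99 Nat

/-- Let n ≥ 11 and let G be a finite group with the same order and the same set of element orders as the alternating group of degree n. Then G has normal subgroups N < H such that H/N is a non-abelian simple group whose order is divisible by every prime p with n/2 < p ≤ n. -/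
theorem result {G : Type*} [Group G] [Finite G] (n : ℕ) (hn : 11 ≤ n)
    (hcard : Nat.card G = Nat.card ↥(alternatingGroup (Fin n)))
    (hspec : Set.range (orderOf : G → ℕ) = Set.range (orderOf : ↥(alternatingGroup (Fin n)) → ℕ)) :
    ∃ (N H : Subgroup G) (_ : N.Normal), H.Normal ∧ N < H ∧
      IsSimpleGroup (↥H ⧸ N.subgroupOf H) ∧ ¬ IsMulCommutative (↥H ⧸ N.subgroupOf H) ∧
      ∀ p : ℕ, p.Prime → n < 2 * p → p ≤ n → p ∣ Nat.card (↥H ⧸ N.subgroupOf H) := by
  obtain ⟨p0, q0, hp0, hq0, hpq, hnp0, hq0n⟩ := exists_two_primes_half n hn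
  have hp0n : p0 ≤ n := by omega
  have hnq0 : n < 2 * q0 := by omega
  -- general facts about primes in (n/2, n]
  have hne2 : ∀ q : ℕ, n < 2 * q → q ≠ 2 := by intro q hq; omega
  have hdvd : ∀ q : ℕ, q.Prime → n < 2 * q → q ≤ n → q ∣ Nat.card G := by
    intro q hq h1 h2
    rw [hcard]; exact prime_dvd_card_alt hq (hne2 q h1) h2
  have hsq : ∀ q : ℕ, q.Prime → n < 2 * q → q ≤ n → ¬ q ^ 2 ∣ Nat.card G := by
    intro q hq h1 h2
    rw [hcard]; exact prime_sq_not_dvd_card_alt hq h2 h1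
  obtain ⟨N, H, hNn, hHn, hNH, hsimple, hp0H, hp0N⟩ :=
    exists_simple_section (G := G) hp0 (hdvd p0 hp0 hnp0 hp0n) (hsq p0 hp0 hnp0 hp0n)
  have hmul := card_quot_subgroupOf_mul N H hNH.le
  have hall : ∀ p : ℕ, p.Prime → n < 2 * p → p ≤ n →
      p ∣ Nat.card (↥H ⧸ N.subgroupOf H) := by
    intro r hr hnr hrn
    have hNG : Nat.card N ∣ Nat.card G := Subgroup.card_subgroup_dvd_card N
    have hHG : Nat.card H ∣ Nat.card G := Subgroup.card_subgroup_dvd_card H
    by_cases hrp : r = p0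
    · subst hrp
      rw [← hmul] at hp0H
      exact ((Nat.Prime.dvd_mul hr).mp hp0H).resolve_right hp0N
    · have hrN : ¬ r ∣ Nat.card N := by
        intro h
        obtain ⟨g, hg⟩ := exists_orderOf_eq_mul_of_normal N hr hp0 hrp h
          (fun h2 => hsq r hr hnr hrn (h2.trans hNG)) hp0N (hdvd p0 hp0 hnp0 hp0n)
          (not_dvd_sub_one_of_half hp0 hr (hne2 p0 hnp0) (hne2 r hnr) hnp0 hrn)
        exact orderOf_ne_mul_of_spec hspec hr hp0 hrp (by omega) g hg
      have hrH : r ∣ Nat.card H := by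
        by_contra h
        obtain ⟨g, hg⟩ := exists_orderOf_eq_mul_of_normal H hp0 hr (Ne.symm hrp) hp0H
          (fun h2 => hsq p0 hp0 hnp0 hp0n (h2.trans hHG)) h (hdvd r hr hnr hrn)
          (not_dvd_sub_one_of_half hr hp0 (hne2 r hnr) (hne2 p0 hnp0) hnr hp0n)
        exact orderOf_ne_mul_of_spec hspec hp0 hr (Ne.symm hrp) (by omega) g hg
      rw [← hmul] at hrH
      exact ((Nat.Prime.dvd_mul hr).mp hrH).resolve_right hrN
  refine ⟨N, H, hNn, hHn, hNH, hsimple, ?_, hall⟩
  -- not commutative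
  intro hcomm
  have hN' : (N.subgroupOf H).Normal := hNn.subgroupOf H
  set Q := ↥H ⧸ N.subgroupOf H with hQ
  have hp0Q : p0 ∣ Nat.card Q := hall p0 hp0 hnp0 hp0n
  have hq0Q : q0 ∣ Nat.card Q := hall q0 hq0 hnq0 hq0n
  have : Fact p0.Prime := ⟨hp0⟩
  obtain ⟨x, hx⟩ := exists_prime_orderOf_dvd_card' p0 hp0Q
  have hxn : (Subgroup.zpowers x).Normal := by
    constructor
    intro a ha b
    have : b * a * b⁻¹ = a := by
      rw [hcomm.is_comm.comm b a, mul_assoc, mul_inv_cancel, mul_one]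
    rw [this]; exact ha
  have hx1 : x ≠ 1 := by
    rintro rfl
    rw [orderOf_one] at hx
    exact hp0.ne_one hx.symm
  have htop : Subgroup.zpowers x = ⊤ := by
    rcases hsimple.eq_bot_or_eq_top_of_normal _ hxn with h | h
    · exfalso
      apply hx1
      rw [Subgroup.zpowers_eq_bot] at h
      exact h
    · exact h
  have hcardQ : Nat.card Q = p0 := by
    rw [← Subgroup.card_top (G := Q), ← htop, Nat.card_zpowers, hx]
  rw [hcardQ] at hq0Q
  have := (Nat.prime_dvd_prime_iff_eq hq0 hp0).mp hq0Q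
  omega

end Cfsg.Agent.S3420
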