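import Cfsg.Statements.S3431
import Cfsg.Agent.Lib.Helper71.NsePuzzle4
import Cfsg.Agent.Lib.Helper71.NsePuzzle5
import Cfsg.Agent.Lib.Helper71.NsePuzzle6
import Cfsg.Agent.Lib.Helper71.NseAlt
import Cfsg.Agent.Lib.Helper71.NseIdent

set_option autoImplicit false
open Cfsg
open Cfsg.Agent.Lib.Helper71.Nse

namespace Cfsg.Agent.S3431

/-- Let n be 4, 5 or 6 and let G be a finite group whose set of sizes of same-order classes (the set of numbers #{g : o(g) = m} over the element orders m of G) equals that of the alternating group of degree n. Then G is isomorphic to that alternating group. -/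
theorem result {G : Type*} [Group G] [Finite G] (n : ℕ) (hn : n = 4 ∨ n = 5 ∨ n = 6)
    (h : ((fun m : ℕ => Nat.card {g : G // orderOf g = m}) '' Set.range (orderOf : G → ℕ)) = ((fun m : ℕ => Nat.card {g : ↥(alternatingGroup (Fin n)) // orderOf g = m}) '' Set.range (orderOf : ↥(alternatingGroup (Fin n)) → ℕ))) :
    Nonempty (G ≃* ↥(alternatingGroup (Fin n))) := by
  have hN := nse_of_group G
  rcases hn with rfl | rfl | rfl
  · rw [nse_image_eq G, nse_image_eq (alternatingGroup (Fin 4)), nse_alt4] at h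
    have hV : ∀ d, cnt G d ≠ 0 → cnt G d = 1 ∨ cnt G d = 3 ∨ cnt G d = 8 := by
      intro d hd
      have hm : cnt G d ∈ {v | ∃ m, cnt G m ≠ 0 ∧ cnt G m = v} := ⟨d, hd, rfl⟩
      rw [h] at hm
      simpa using hm
    have hex : ∀ v ∈ ({1, 3, 8} : Set ℕ), ∃ d, cnt G d = v := by
      intro v hv
      rw [← h] at hv
      obtain ⟨m, _, hm⟩ := hv
      exact ⟨m, hm⟩
    obtain ⟨h12, h3, hsp⟩ := puzzle4 hN hV (hex 3 (by simp)) (hex 8 (by simp))
    exact iso_alt4_of_counts G h12 h3 hsp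
  · rw [nse_image_eq G, nse_image_eq (alternatingGroup (Fin 5)), nse_alt5] at h
    have hV : ∀ d, cnt G d ≠ 0 → cnt G d = 1 ∨ cnt G d = 15 ∨ cnt G d = 20 ∨ cnt G d = 24 := by
      intro d hd
      have hm : cnt G d ∈ {v | ∃ m, cnt G m ≠ 0 ∧ cnt G m = v} := ⟨d, hd, rfl⟩
      rw [h] at hm
      simpa using hm
    have hex : ∀ v ∈ ({1, 15, 20, 24} : Set ℕ), ∃ d, cnt G d = v := by
      intro v hv
      rw [← h] at hv
      obtain ⟨m, _, hm⟩ := hv
      exact ⟨m, hm⟩
    obtain ⟨h60, _, h3, h5, hsp⟩ :=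
      puzzle5 hN hV (hex 15 (by simp)) (hex 20 (by simp)) (hex 24 (by simp))
    exact iso_alt5_of_counts G h60 h3 h5 hsp
  · rw [nse_image_eq G, nse_image_eq (alternatingGroup (Fin 6)), nse_alt6] at h
    have hV : ∀ d, cnt G d ≠ 0 →
        cnt G d = 1 ∨ cnt G d = 45 ∨ cnt G d = 80 ∨ cnt G d = 90 ∨ cnt G d = 144 := by
      intro d hd
      have hm : cnt G d ∈ {v | ∃ m, cnt G m ≠ 0 ∧ cnt G m = v} := ⟨d, hd, rfl⟩
      rw [h] at hm
      simpa using hm
    have hex : ∀ v ∈ ({1, 45, 80, 90, 144} : Set ℕ), ∃ d, cnt G d = v := by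
      intro v hv
      rw [← h] at hv
      obtain ⟨m, _, hm⟩ := hv
      exact ⟨m, hm⟩
    obtain ⟨h360, _, h3, _, h5, hsp⟩ :=
      puzzle6 hN hV (hex 45 (by simp)) (hex 80 (by simp)) (hex 90 (by simp)) (hex 144 (by simp))
    exact iso_alt6_of_counts G h360 h3 h5 hsp

end Cfsg.Agent.S3431
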