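import Cfsg.Statements.S3437
import Cfsg.Agent.Lib.Helper57.SpecPSL33
import Cfsg.Agent.Lib.Helper57.QuadFrob

set_option autoImplicit false
open Cfsg

namespace Cfsg.Agent.S3437

open Cfsg.Agent.Lib.Helper57

/-! The solvable group is the Frobenius group `(𝔽₁₆₉)² ⋊ 2O`, where the binary octahedral group
`2O` of order 48 is generated inside `SL₂(𝔽₁₃[√2])` by `diag(3√2, 11√2)` and
`[[3, 3], [2, 11]]`.  The lists below are the base 13 codes of the elements of the derived
series of `2O`. -/

def C0 : List ℕ :=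
  [30589, 143650, 229840, 342901, 749177, 1118273, 3737097, 4106193, 4826810, 9711257, 9739649, 9941097, 9969489, 14538067, 14566459, 14767907, 14796299, 24134053, 38614477, 48325721, 48354113, 48555561, 48583953, 53152531, 53180923, 53382371, 53410763, 57921720, 125497164, 188245694, 252488145, 253237322, 253606418, 254355595, 377985140, 378734317, 379103413, 379852590, 440733670, 441482847, 441851943, 442601120, 566230665, 566979842, 567348938, 568098115, 627485196, 690233726]

def C1 : List ℕ :=
  [30589, 143650, 229840, 342901, 4826810, 9711257, 9739649, 9941097, 9969489, 14538067, 14566459, 14767907, 14796299, 24134053, 38614477, 48325721, 48354113, 48555561, 48583953, 53152531, 53180923, 53382371, 53410763, 57921720]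

def C2 : List ℕ :=
  [30589, 143650, 229840, 342901, 4826810, 24134053, 38614477, 57921720]

def C3 : List ℕ :=
  [4826810, 57921720]

def codeA : ℕ := 690233726
def codeB : ℕ := 53152531

def C4 : List ℕ := [4826810]

instance fact13 : Fact (Nat.Prime 13) := ⟨by norm_num⟩

instance factNonsquare : Fact (∀ r : ZMod 13, r ^ 2 ≠ ((2 : ℕ) : ZMod 13) + 0 * r) := ⟨by decide⟩

set_option maxRecDepth 100000 in
lemma C0_group : IsCodeGroup 13 2 C0 := by
  refine ⟨?_, ?_, ?_, ?_, ?_⟩ <;> decide +kernel

set_option maxRecDepth 100000 in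
lemma C1_group : IsCodeGroup 13 2 C1 := by
  refine ⟨?_, ?_, ?_, ?_, ?_⟩ <;> decide +kernel

set_option maxRecDepth 100000 in
lemma C2_group : IsCodeGroup 13 2 C2 := by
  refine ⟨?_, ?_, ?_, ?_, ?_⟩ <;> decide +kernel

set_option maxRecDepth 100000 in
lemma C3_group : IsCodeGroup 13 2 C3 := by
  refine ⟨?_, ?_, ?_, ?_, ?_⟩ <;> decide +kernel

set_option maxRecDepth 100000 in
lemma C4_group : IsCodeGroup 13 2 C4 := by
  refine ⟨?_, ?_, ?_, ?_, ?_⟩ <;> decide +kernel

set_option maxRecDepth 100000 in
lemma comm01 : ∀ x ∈ C0, ∀ y ∈ C0,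
    memB C1 (mulC 13 2 (mulC 13 2 x y) (mulC 13 2 (invC 13 x) (invC 13 y))) = true := by
  decide +kernel

set_option maxRecDepth 100000 in
lemma comm12 : ∀ x ∈ C1, ∀ y ∈ C1,
    memB C2 (mulC 13 2 (mulC 13 2 x y) (mulC 13 2 (invC 13 x) (invC 13 y))) = true := by
  decide +kernel

set_option maxRecDepth 100000 in
lemma comm23 : ∀ x ∈ C2, ∀ y ∈ C2,
    memB C3 (mulC 13 2 (mulC 13 2 x y) (mulC 13 2 (invC 13 x) (invC 13 y))) = true := by
  decide +kernel

set_option maxRecDepth 100000 in
lemma comm34 : ∀ x ∈ C3, ∀ y ∈ C3,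
    memB C4 (mulC 13 2 (mulC 13 2 x y) (mulC 13 2 (invC 13 x) (invC 13 y))) = true := by
  decide +kernel

set_option maxRecDepth 100000 in
lemma fpf0 : ∀ c ∈ C0, c = oneC 13 ∨ fpfB 13 2 c = true := by
  decide +kernel

set_option maxRecDepth 100000 in
lemma pow0 : ∀ c ∈ C0, NM2.dec 13 (powC 13 2 c 8) = NM2.one ∨
    NM2.dec 13 (powC 13 2 c 6) = NM2.one := by
  decide +kernel

/-- The chain of subgroups. -/
noncomputable def chain : ℕ → Subgroup (Matrix (Fin 2) (Fin 2) (QF 13 2))ˣ
  | 0 => C0_group.grp
  | 1 => C1_group.grp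
  | 2 => C2_group.grp
  | 3 => C3_group.grp
  | _ => C4_group.grp

lemma chain_four : chain 4 = ⊥ := by
  refine IsListGroup.subgroup_eq_bot (C4_group.isListGroup fact13.out.one_lt) ?_
  intro x hx
  simp only [C4, List.map_cons, List.map_nil, List.mem_singleton] at hx
  rw [hx]
  exact fC_oneC 13 2 (by norm_num)

lemma chain_step : ∀ i, ⁅chain i, chain i⁆ ≤ chain (i + 1) := by
  intro i
  match i with
  | 0 => exact C0_group.commutator_le C1_group (by norm_num) comm01
  | 1 => exact C1_group.commutator_le C2_group (by norm_num) comm12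
  | 2 => exact C2_group.commutator_le C3_group (by norm_num) comm23
  | 3 => exact C3_group.commutator_le C4_group (by norm_num) comm34
  | (n + 4) =>
    have h1 : chain (n + 4) = ⊥ := chain_four
    have h2 : chain (n + 4 + 1) = ⊥ := chain_four
    rw [h1, h2, Subgroup.commutator_bot_left]

instance solvable0 : Group.IsSolvable C0_group.grp :=
  isSolvable_of_chain chain 4 chain_step chain_four

lemma dvd_8 : ∀ n : ℕ, n ∣ 8 → n = 1 ∨ n = 2 ∨ n = 4 ∨ n = 8 := by
  intro n hn
  have := Nat.le_of_dvd (by norm_num) hn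
  interval_cases n <;> simp_all

lemma dvd_6 : ∀ n : ℕ, n ∣ 6 → n = 1 ∨ n = 2 ∨ n = 3 ∨ n = 6 := by
  intro n hn
  have := Nat.le_of_dvd (by norm_num) hn
  interval_cases n <;> simp_all

lemma orderOf_A : orderOf (fC 13 2 codeA) = 8 := by
  have : Fact (Nat.Prime 2) := ⟨by norm_num⟩
  apply orderOf_eq_prime_pow (p := 2) (n := 2)
  · rw [fC_pow_eq_one_iff (by norm_num)]
    decide +kernel
  · rw [fC_pow_eq_one_iff (by norm_num)]
    decide +kernel

lemma orderOf_B : orderOf (fC 13 2 codeB) = 6 := by
  apply orderOf_eq_of_pow_and_pow_div_prime (by norm_num)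
  · rw [fC_pow_eq_one_iff (by norm_num)]
    decide +kernel
  · intro q hq hd
    have hle : q ≤ 6 := Nat.le_of_dvd (by norm_num) hd
    rw [Ne, fC_pow_eq_one_iff (by norm_num)]
    interval_cases q
    · exact absurd hq (by norm_num)
    · exact absurd hq (by norm_num)
    · decide +kernel
    · decide +kernel
    · exact absurd hd (by norm_num)
    · exact absurd hd (by norm_num)
    · exact absurd hq (by norm_num)

lemma spectrum_codes : {n | ∃ c ∈ C0, orderOf (fC 13 2 c) = n} = {1, 2, 3, 4, 6, 8} := by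
  apply Set.eq_of_subset_of_subset
  · rintro n ⟨c, hc, rfl⟩
    simp only [Set.mem_insert_iff, Set.mem_singleton_iff]
    rcases pow0 c hc with h | h
    · rw [← fC_pow_eq_one_iff (by norm_num)] at h
      rcases dvd_8 _ (orderOf_dvd_of_pow_eq_one h) with h | h | h | h <;> simp [h]
    · rw [← fC_pow_eq_one_iff (by norm_num)] at h
      rcases dvd_6 _ (orderOf_dvd_of_pow_eq_one h) with h | h | h | h <;> simp [h]
  · intro k hk
    simp only [Set.mem_insert_iff, Set.mem_singleton_iff] at hk
    have hA : ∀ m, m ≠ 0 → m ∣ 8 → powC 13 2 codeA m ∈ C0 →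
        ∃ c ∈ C0, orderOf (fC 13 2 c) = 8 / m := by
      intro m hm hd hmem
      refine ⟨_, hmem, ?_⟩
      rw [fC_powC 13 2 (by norm_num), orderOf_pow_of_dvd hm (by rw [orderOf_A]; exact hd),
        orderOf_A]
    have hB : ∀ m, m ≠ 0 → m ∣ 6 → powC 13 2 codeB m ∈ C0 →
        ∃ c ∈ C0, orderOf (fC 13 2 c) = 6 / m := by
      intro m hm hd hmem
      refine ⟨_, hmem, ?_⟩
      rw [fC_powC 13 2 (by norm_num), orderOf_pow_of_dvd hm (by rw [orderOf_B]; exact hd),
        orderOf_B]
    rcases hk with rfl | rfl | rfl | rfl | rfl | rfl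
    · exact hA 8 (by norm_num) (by norm_num) (by decide +kernel)
    · exact hA 4 (by norm_num) (by norm_num) (by decide +kernel)
    · exact hB 2 (by norm_num) (by norm_num) (by decide +kernel)
    · exact hA 2 (by norm_num) (by norm_num) (by decide +kernel)
    · exact hB 1 (by norm_num) (by norm_num) (by decide +kernel)
    · exact hA 1 (by norm_num) (by norm_num) (by decide +kernel)

/-- There is a finite solvable group with exactly the same set of element orders as the simple group PSL(3,3). -/
theorem result {F : Type*} [Field F] [Fintype F] (hF : Fintype.card F = 3) :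
    ∃ (H : Type) (_ : Group H) (_ : Fintype H), Group.IsSolvable H ∧
      Set.range (orderOf : H → ℕ) = Set.range (orderOf : Matrix.ProjectiveSpecialLinearGroup (Fin 3) F → ℕ) := by
  refine ⟨C0_group.Frob, inferInstance, Fintype.ofFinite _, isSolvable_sdp _, ?_⟩
  rw [range_orderOf_PSL33 hF, C0_group.range_orderOf_Frob fpf0, spectrum_codes]
  ext n
  simp only [Set.mem_union, Set.mem_insert_iff, Set.mem_singleton_iff]
  omega

end Cfsg.Agent.S3437
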