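import Cfsg.Statements.S3438
import Cfsg.Agent.Lib.Helper57.SpecPSU33
import Cfsg.Agent.Lib.Helper57.QuadFrob

set_option autoImplicit false
open Cfsg

namespace Cfsg.Agent.S3438

open Cfsg.Agent.Lib.Helper57

/-! The solvable group is the Frobenius group `(𝔽₄₉)² ⋊ (C₃ ⋊ C₈)`, where the complement of order
24 is generated inside `GL₂(𝔽₇[√-1])` by `diag(2, 4)` and `[[0, √-1], [1, 0]]`.  The lists below
are the base 7 codes of the elements of the derived series of the complement. -/

def C0 : List ℕ :=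
  [2744, 6174, 8918, 10290, 13034, 16464, 17101, 33761, 50519, 67473, 84231, 100891, 117650, 235302, 352952, 470598, 588248, 705900, 823550, 1647114, 2470664, 3294186, 4117736, 4941300]

def C1 : List ℕ :=
  [117650, 235302, 470598]

def C2 : List ℕ :=
  [117650]

def codeC : ℕ := 470598
def codeG : ℕ := 2744

/-- An element of order 12. -/
def codeX : ℕ := 3294186

instance fact7 : Fact (Nat.Prime 7) := ⟨by norm_num⟩

instance factNonsquare : Fact (∀ r : ZMod 7, r ^ 2 ≠ ((6 : ℕ) : ZMod 7) + 0 * r) := ⟨by decide⟩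

set_option maxRecDepth 100000 in
lemma C0_group : IsCodePowGroup 7 6 24 C0 := by
  refine ⟨?_, ?_, ?_⟩ <;> decide +kernel

set_option maxRecDepth 100000 in
lemma C1_group : IsCodePowGroup 7 6 24 C1 := by
  refine ⟨?_, ?_, ?_⟩ <;> decide +kernel

set_option maxRecDepth 100000 in
lemma C2_group : IsCodePowGroup 7 6 24 C2 := by
  refine ⟨?_, ?_, ?_⟩ <;> decide +kernel

set_option maxRecDepth 100000 in
lemma comm01 : ∀ x ∈ C0, ∀ y ∈ C0, memB C1
    (mulC 7 6 (mulC 7 6 x y) (mulC 7 6 (powC 7 6 x (24 - 1)) (powC 7 6 y (24 - 1)))) = true := by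
  decide +kernel

set_option maxRecDepth 100000 in
lemma comm12 : ∀ x ∈ C1, ∀ y ∈ C1, memB C2
    (mulC 7 6 (mulC 7 6 x y) (mulC 7 6 (powC 7 6 x (24 - 1)) (powC 7 6 y (24 - 1)))) = true := by
  decide +kernel

set_option maxRecDepth 100000 in
lemma fpf0 : ∀ c ∈ C0, c = oneC 7 ∨ fpfB 7 6 c = true := by
  decide +kernel

set_option maxRecDepth 100000 in
lemma pow0 : ∀ c ∈ C0, NM2.dec 7 (powC 7 6 c 8) = NM2.one ∨
    NM2.dec 7 (powC 7 6 c 12) = NM2.one := by
  decide +kernel

lemma one_lt_seven : 1 < 7 := by norm_num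

lemma pos24 : 0 < 24 := by norm_num

/-- The complement. -/
abbrev G0 : Subgroup (Matrix (Fin 2) (Fin 2) (QF 7 6))ˣ :=
  (C0_group.isListGroup one_lt_seven pos24).subgroup

/-- The chain of subgroups. -/
noncomputable def chain : ℕ → Subgroup (Matrix (Fin 2) (Fin 2) (QF 7 6))ˣ
  | 0 => G0
  | 1 => (C1_group.isListGroup one_lt_seven pos24).subgroup
  | _ => (C2_group.isListGroup one_lt_seven pos24).subgroup

lemma chain_two : chain 2 = ⊥ := by
  refine IsListGroup.subgroup_eq_bot (C2_group.isListGroup one_lt_seven pos24) ?_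
  intro x hx
  simp only [C2, List.map_cons, List.map_nil, List.mem_singleton] at hx
  rw [hx]
  exact fC_oneC 7 6 (by norm_num)

lemma chain_step : ∀ i, ⁅chain i, chain i⁆ ≤ chain (i + 1) := by
  intro i
  match i with
  | 0 => exact C0_group.commutator_le C1_group one_lt_seven pos24 pos24 comm01
  | 1 => exact C1_group.commutator_le C2_group one_lt_seven pos24 pos24 comm12
  | (n + 2) =>
    have h1 : chain (n + 2) = ⊥ := chain_two
    have h2 : chain (n + 2 + 1) = ⊥ := chain_two
    rw [h1, h2, Subgroup.commutator_bot_left]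

instance solvable0 : Group.IsSolvable G0 :=
  isSolvable_of_chain chain 2 chain_step chain_two

lemma orderOf_G : orderOf (fC 7 6 codeG) = 8 := by
  have : Fact (Nat.Prime 2) := ⟨by norm_num⟩
  apply orderOf_eq_prime_pow (p := 2) (n := 2)
  · rw [fC_pow_eq_one_iff (by norm_num)]
    decide +kernel
  · rw [fC_pow_eq_one_iff (by norm_num)]
    decide +kernel

lemma orderOf_X : orderOf (fC 7 6 codeX) = 12 := by
  apply orderOf_eq_of_pow_and_pow_div_prime (by norm_num)
  · rw [fC_pow_eq_one_iff (by norm_num)]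
    decide +kernel
  · intro q hq hd
    have h23 : q = 2 ∨ q = 3 := by
      have h : q ∣ 2 ^ 2 * 3 := hd
      rcases (Nat.Prime.dvd_mul hq).1 h with h | h
      · left; exact (Nat.prime_dvd_prime_iff_eq hq Nat.prime_two).1 (hq.dvd_of_dvd_pow h)
      · right; exact (Nat.prime_dvd_prime_iff_eq hq Nat.prime_three).1 h
    rw [Ne, fC_pow_eq_one_iff (by norm_num)]
    rcases h23 with rfl | rfl
    · decide +kernel
    · decide +kernel

lemma spectrum_codes : {n | ∃ c ∈ C0, orderOf (fC 7 6 c) = n} = {1, 2, 3, 4, 6, 8, 12} := by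
  apply Set.eq_of_subset_of_subset
  · rintro n ⟨c, hc, rfl⟩
    simp only [Set.mem_insert_iff, Set.mem_singleton_iff]
    rcases pow0 c hc with h | h
    · rw [← fC_pow_eq_one_iff (by norm_num)] at h
      rcases dvd_8 _ (orderOf_dvd_of_pow_eq_one h) with h | h | h | h <;> simp [h]
    · rw [← fC_pow_eq_one_iff (by norm_num)] at h
      rcases dvd_12 _ (orderOf_dvd_of_pow_eq_one h) with h | h | h | h | h | h <;> simp [h]
  · intro k hk
    simp only [Set.mem_insert_iff, Set.mem_singleton_iff] at hk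
    have hG : ∀ m, m ≠ 0 → m ∣ 8 → powC 7 6 codeG m ∈ C0 →
        ∃ c ∈ C0, orderOf (fC 7 6 c) = 8 / m := by
      intro m hm hd hmem
      refine ⟨_, hmem, ?_⟩
      rw [fC_powC 7 6 (by norm_num), orderOf_pow_of_dvd hm (by rw [orderOf_G]; exact hd),
        orderOf_G]
    have hX : ∀ m, m ≠ 0 → m ∣ 12 → powC 7 6 codeX m ∈ C0 →
        ∃ c ∈ C0, orderOf (fC 7 6 c) = 12 / m := by
      intro m hm hd hmem
      refine ⟨_, hmem, ?_⟩
      rw [fC_powC 7 6 (by norm_num), orderOf_pow_of_dvd hm (by rw [orderOf_X]; exact hd),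
        orderOf_X]
    rcases hk with rfl | rfl | rfl | rfl | rfl | rfl | rfl
    · exact hX 12 (by norm_num) (by norm_num) (by decide +kernel)
    · exact hX 6 (by norm_num) (by norm_num) (by decide +kernel)
    · exact hX 4 (by norm_num) (by norm_num) (by decide +kernel)
    · exact hX 3 (by norm_num) (by norm_num) (by decide +kernel)
    · exact hX 2 (by norm_num) (by norm_num) (by decide +kernel)
    · exact hG 1 (by norm_num) (by norm_num) (by decide +kernel)
    · exact hX 1 (by norm_num) (by norm_num) (by decide +kernel)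

/-- There is a finite solvable group with exactly the same set of element orders as the simple group PSU(3,3) (realised over the field with 9 elements). -/
theorem result {F : Type*} [Field F] [Fintype F] (hF : Fintype.card F = 9) :
    ∃ (H : Type) (_ : Group H) (_ : Fintype H), Group.IsSolvable H ∧ Set.range (orderOf : H → ℕ) = Set.range (orderOf : Cfsg.PSU 3 F 3 → ℕ) := by
  refine ⟨FrobOf (C0_group.isListGroup one_lt_seven pos24), inferInstance, Fintype.ofFinite _,
    isSolvable_sdp _, ?_⟩
  rw [range_orderOf_PSU33 hF, range_orderOf_FrobOf _ fpf0, spectrum_codes]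
  ext n
  simp only [Set.mem_union, Set.mem_insert_iff, Set.mem_singleton_iff]
  omega

end Cfsg.Agent.S3438
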