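import Cfsg.Statements.S3439
import Cfsg.Agent.Lib.Helper57.SpecPSp43
import Cfsg.Agent.Lib.Helper57.Iso43

set_option autoImplicit false
open Cfsg

namespace Cfsg.Agent.S3439

open Cfsg.Agent.Lib.Helper57

/-- There is a finite solvable group with exactly the same set of element orders as the simple group PSp(4,3). -/
theorem result {F : Type*} [Field F] [Fintype F] (hF : Fintype.card F = 3) :
    ∃ (H : Type) (_ : Group H) (_ : Fintype H), Group.IsSolvable H ∧ Set.range (orderOf : H → ℕ) = Set.range (orderOf : Cfsg.PSp 2 F → ℕ) := by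
  haveI : Fact (Nat.Prime 3) := ⟨Nat.prime_three⟩
  letI : Fintype (GaloisField 3 4) := Fintype.ofFinite _
  have hK : Fintype.card (GaloisField 3 4) = 81 := by
    rw [← Nat.card_eq_fintype_card, GaloisField.card 3 4 (by norm_num)]
    norm_num
  refine ⟨Iso43.G (GaloisField 3 4), inferInstance, Fintype.ofFinite _, Iso43.isSolvable_G _, ?_⟩
  rw [Iso43.range_orderOf hK, SpecPSp43.range_orderOf hF]

end Cfsg.Agent.S3439
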