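import Cfsg.Statements.S3443

set_option autoImplicit false
open Cfsg

namespace Cfsg.Agent.S3443

/-- The order of `g` is `k` or `k * p`, where `k` is the order of its image in `G ⧸ V`. -/
lemma orderOf_eq_or {G : Type*} [Group G] [Finite G] (V : Subgroup G) [V.Normal] (p : ℕ)
    (hp : p.Prime) (hexp : ∀ x : V, x ^ p = 1) (g : G) :
    orderOf g = orderOf (QuotientGroup.mk g : G ⧸ V) ∨
      orderOf g = orderOf (QuotientGroup.mk g : G ⧸ V) * p := by
  set k := orderOf (QuotientGroup.mk g : G ⧸ V) with hk
  have hkpos : 0 < k := orderOf_pos _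
  have h1 : k ∣ orderOf g := by
    apply orderOf_dvd_of_pow_eq_one
    rw [← QuotientGroup.mk_pow, pow_orderOf_eq_one, QuotientGroup.mk_one]
  have h2 : g ^ k ∈ V := by
    rw [← QuotientGroup.eq_one_iff, QuotientGroup.mk_pow, hk, pow_orderOf_eq_one]
  have h3 : orderOf g ∣ k * p := by
    apply orderOf_dvd_of_pow_eq_one
    rw [pow_mul]
    have := hexp ⟨g ^ k, h2⟩
    exact congrArg Subtype.val this
  obtain ⟨m, hm⟩ := h1
  rw [hm] at h3
  have h4 : m ∣ p := Nat.dvd_of_mul_dvd_mul_left hkpos h3
  rcases (Nat.dvd_prime hp).1 h4 with rfl | rfl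
  · left; rw [hm, mul_one]
  · right; exact hm

/-- The embedding `V ⋊ G → G × G`, `(v, g) ↦ (g, v * g)`. -/
def toProd {G : Type*} [Group G] (V : Subgroup G) [V.Normal] :
    V ⋊[MulAut.conjNormal] G →* G × G :=
  MonoidHom.prod SemidirectProduct.rightHom
    (SemidirectProduct.lift V.subtype (MonoidHom.id G)
      (by intro g; ext v; simp [MulAut.conjNormal_apply]))

lemma toProd_apply {G : Type*} [Group G] (V : Subgroup G) [V.Normal]
    (x : V ⋊[MulAut.conjNormal] G) : toProd V x = (x.right, (x.left : G) * x.right) := by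
  simp [toProd, SemidirectProduct.lift]

lemma toProd_injective {G : Type*} [Group G] (V : Subgroup G) [V.Normal] :
    Function.Injective (toProd V) := by
  intro x y h
  rw [toProd_apply, toProd_apply, Prod.mk.injEq] at h
  obtain ⟨h1, h2⟩ := h
  rw [h1] at h2
  have h3 : (x.left : G) = y.left := mul_right_cancel h2
  exact SemidirectProduct.ext (Subtype.ext h3) h1

/-- Let G be a finite group and V a normal elementary abelian subgroup of G (abelian of prime exponent p, possibly trivial). Then the semidirect product V ⋊ G, with G acting on V by conjugation, has exactly the same set of element orders as G. -/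
theorem result {G : Type*} [Group G] [Finite G] (V : Subgroup G) [V.Normal] (p : ℕ) (hp : p.Prime)
    (hcomm : ∀ x y : V, x * y = y * x) (hexp : ∀ x : V, x ^ p = 1) :
    Set.range (orderOf : V ⋊[MulAut.conjNormal] G → ℕ) = Set.range (orderOf : G → ℕ) := by
  have _ := hcomm
  apply Set.eq_of_subset_of_subset
  · rintro n ⟨x, rfl⟩
    have hx : orderOf x = Nat.lcm (orderOf x.right) (orderOf ((x.left : G) * x.right)) := by
      rw [← orderOf_injective (toProd V) (toProd_injective V) x, toProd_apply, Prod.orderOf]
    have hq : (QuotientGroup.mk ((x.left : G) * x.right) : G ⧸ V) = QuotientGroup.mk x.right := by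
      rw [QuotientGroup.mk_mul, (QuotientGroup.eq_one_iff (N := V) (x.left : G)).2 x.left.2, one_mul]
    have ha := orderOf_eq_or V p hp hexp x.right
    have hb := orderOf_eq_or V p hp hexp ((x.left : G) * x.right)
    rw [hq] at hb
    have hdvd : orderOf x.right ∣ orderOf ((x.left : G) * x.right) ∨
        orderOf ((x.left : G) * x.right) ∣ orderOf x.right := by
      rcases ha with ha | ha <;> rcases hb with hb | hb <;> rw [ha, hb]
      · left; exact dvd_rfl
      · left; exact Dvd.intro _ rfl
      · right; exact Dvd.intro _ rfl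
      · left; exact dvd_rfl
    rcases hdvd with h | h
    · exact ⟨(x.left : G) * x.right, by rw [hx, Nat.lcm_eq_right h]⟩
    · exact ⟨x.right, by rw [hx, Nat.lcm_eq_left h]⟩
  · rintro n ⟨g, rfl⟩
    exact ⟨SemidirectProduct.inr g, orderOf_injective _ SemidirectProduct.inr_injective g⟩

end Cfsg.Agent.S3443
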