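import Cfsg.Statements.S3444
import Cfsg.Agent.S3443
import Mathlib.GroupTheory.Perm.Cycle.Type

set_option autoImplicit false
open Cfsg
open scoped commutatorElement

namespace Cfsg.Agent.S3444

/-- `⁅K, K⁆ < K` for a nontrivial subgroup `K` which is solvable as a group. -/
lemma commutator_lt_self {G : Type*} [Group G] (K : Subgroup G) (hK : K ≠ ⊥)
    (hs : Group.IsSolvable K) : ⁅K, K⁆ < K := by
  have : Nontrivial K := (Subgroup.nontrivial_iff_ne_bot K).2 hK
  have h := Group.IsSolvable.commutator_lt_top_of_nontrivial K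
  have key : ⁅K, K⁆ = (commutator K).map K.subtype := by
    rw [commutator_def, Subgroup.map_commutator, ← MonoidHom.range_eq_map, K.range_subtype]
  have key2 : K = (⊤ : Subgroup K).map K.subtype := by
    rw [← MonoidHom.range_eq_map, K.range_subtype]
  rw [key]
  conv_rhs => rw [key2]
  exact (Subgroup.map_subtype_lt_map_subtype).2 h

lemma card_lt_of_lt {G : Type*} [Group G] [Finite G] {H K : Subgroup G} (h : H < K) :
    Nat.card H < Nat.card K := by
  have h1 : Nat.card H = (H : Set G).ncard := Nat.card_coe_set_eq (H : Set G)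
  have h2 : Nat.card K = (K : Set G).ncard := Nat.card_coe_set_eq (K : Set G)
  rw [h1, h2]
  exact Set.ncard_lt_ncard (SetLike.coe_ssubset_coe.2 h)

/-- A nontrivial solvable normal subgroup contains a nontrivial abelian normal subgroup. -/
lemma exists_abelian_normal {G : Type*} [Group G] [Finite G] :
    ∀ (n : ℕ) (K : Subgroup G), Nat.card K = n → K.Normal → K ≠ ⊥ → Group.IsSolvable K →
      ∃ A : Subgroup G, A.Normal ∧ A ≠ ⊥ ∧ ∀ x ∈ A, ∀ y ∈ A, x * y = y * x := by
  intro n
  induction n using Nat.strong_induction_on with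
  | _ n ih =>
    intro K hcard hKn hK hs
    by_cases hab : ⁅K, K⁆ = ⊥
    · refine ⟨K, hKn, hK, ?_⟩
      intro x hx y hy
      have : (⁅x, y⁆ : G) ∈ ⁅K, K⁆ := Subgroup.commutator_mem_commutator hx hy
      rw [hab, Subgroup.mem_bot] at this
      exact (commutatorElement_eq_one_iff_mul_comm.1 this)
    · have hlt : ⁅K, K⁆ < K := commutator_lt_self K hK hs
      have hn' : (⁅K, K⁆).Normal := by
        have := hKn
        exact Subgroup.commutator_normal K K
      have hs' : Group.IsSolvable (⁅K, K⁆ : Subgroup G) :=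
        Group.isSolvable_of_isSolvable_injective (Subgroup.inclusion_injective hlt.le)
      have hcard' : Nat.card (⁅K, K⁆ : Subgroup G) < n := by
        rw [← hcard]
        exact card_lt_of_lt hlt
      exact ih _ hcard' _ rfl hn' hab hs'

/-- The property of having a nontrivial normal elementary abelian subgroup. -/
def HasEA (G : Type*) [Group G] : Prop :=
  ∃ (V : Subgroup G) (p : ℕ), V.Normal ∧ V ≠ ⊥ ∧ p.Prime ∧
    (∀ x y : V, x * y = y * x) ∧ (∀ x : V, x ^ p = 1)

/-- A group with a nontrivial abelian normal subgroup has a nontrivial normal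
elementary abelian subgroup. -/
lemma hasEA_of_abelian_normal {G : Type*} [Group G] [Finite G] (A : Subgroup G) (hAn : A.Normal)
    (hA : A ≠ ⊥) (hab : ∀ x ∈ A, ∀ y ∈ A, x * y = y * x) : HasEA G := by
  have hcard : 1 < Nat.card A := (Subgroup.one_lt_card_iff_ne_bot A).2 hA
  obtain ⟨p, hp, hpdvd⟩ := Nat.exists_prime_and_dvd (Nat.ne_of_gt hcard)
  haveI : Fact p.Prime := ⟨hp⟩
  obtain ⟨a, ha⟩ := exists_prime_orderOf_dvd_card' p hpdvd
  let V : Subgroup G :=
    { carrier := {g | g ∈ A ∧ g ^ p = 1}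
      mul_mem' := by
        rintro x y ⟨hx, hx'⟩ ⟨hy, hy'⟩
        refine ⟨A.mul_mem hx hy, ?_⟩
        have hc : Commute x y := hab x hx y hy
        rw [hc.mul_pow, hx', hy', one_mul]
      one_mem' := ⟨A.one_mem, one_pow p⟩
      inv_mem' := by
        rintro x ⟨hx, hx'⟩
        exact ⟨A.inv_mem hx, by rw [inv_pow, hx', inv_one]⟩ }
  refine ⟨V, p, ?_, ?_, hp, ?_, ?_⟩
  · constructor
    rintro n ⟨hn, hn'⟩ g
    refine ⟨hAn.conj_mem n hn g, ?_⟩
    rw [conj_pow, hn', mul_one, mul_inv_cancel]
  · intro hV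
    have hmem : (a : G) ∈ V := ⟨a.2, by
      have := pow_orderOf_eq_one a
      rw [ha] at this
      exact congrArg Subtype.val this⟩
    rw [hV, Subgroup.mem_bot] at hmem
    have h1 : a = 1 := Subtype.ext hmem
    rw [h1, orderOf_one] at ha
    exact hp.one_lt.ne ha
  · rintro ⟨x, hx, _⟩ ⟨y, hy, _⟩
    exact Subtype.ext (hab x hx y hy)
  · rintro ⟨x, hx, hx'⟩
    exact Subtype.ext hx'


lemma finite_sdp {G : Type*} [Group G] [Finite G] (V : Subgroup G) [V.Normal] :
    Finite (V ⋊[MulAut.conjNormal] G) :=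
  Finite.of_equiv _ (SemidirectProduct.equivProd (φ := (MulAut.conjNormal : G →* MulAut V))).symm

/-- One step: `V ⋊ G` again has a nontrivial normal elementary abelian subgroup. -/
lemma hasEA_sdp {G : Type*} [Group G] (V : Subgroup G) [V.Normal] (p : ℕ) (hV : V ≠ ⊥)
    (hp : p.Prime) (hcomm : ∀ x y : V, x * y = y * x) (hexp : ∀ x : V, x ^ p = 1) :
    HasEA (V ⋊[MulAut.conjNormal] G) := by
  refine ⟨(SemidirectProduct.inl : V →* V ⋊[MulAut.conjNormal] G).range, p, ?_, ?_, hp, ?_, ?_⟩
  · rw [SemidirectProduct.range_inl_eq_ker_rightHom]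
    infer_instance
  · intro h
    apply hV
    rw [Subgroup.eq_bot_iff_forall]
    intro x hx
    have h1 : (SemidirectProduct.inl (⟨x, hx⟩ : V) : V ⋊[MulAut.conjNormal] G) ∈
        (SemidirectProduct.inl : V →* V ⋊[MulAut.conjNormal] G).range := ⟨_, rfl⟩
    rw [h, Subgroup.mem_bot] at h1
    have h2 : (⟨x, hx⟩ : V) = 1 := SemidirectProduct.inl_injective (by rw [h1, map_one])
    exact congrArg Subtype.val h2
  · rintro ⟨_, ⟨x, rfl⟩⟩ ⟨_, ⟨y, rfl⟩⟩
    apply Subtype.ext
    change SemidirectProduct.inl x * SemidirectProduct.inl y =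
      SemidirectProduct.inl y * SemidirectProduct.inl x
    rw [← map_mul, ← map_mul, hcomm x y]
  · rintro ⟨_, ⟨x, rfl⟩⟩
    apply Subtype.ext
    change (SemidirectProduct.inl x) ^ p = 1
    rw [← map_pow, hexp x, map_one]

/-- Iterating the construction. -/
lemma iterate_step.{u} : ∀ (n : ℕ) (G : Type u) [Group G] [Finite G], HasEA G →
    ∃ (H : Type u) (_ : Group H) (_ : Finite H), HasEA H ∧ 2 ^ n * Nat.card G ≤ Nat.card H ∧
      Set.range (orderOf : H → ℕ) = Set.range (orderOf : G → ℕ) := by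
  intro n
  induction n with
  | zero =>
    intro G _ _ h
    exact ⟨G, inferInstance, inferInstance, h, by simp, rfl⟩
  | succ n ih =>
    intro G _ _ h
    obtain ⟨V, p, hVn, hV, hp, hcomm, hexp⟩ := h
    haveI := hVn
    haveI := finite_sdp V
    obtain ⟨H, hH1, hH2, hH3, hH4, hH5⟩ :=
      ih (V ⋊[MulAut.conjNormal] G) (hasEA_sdp V p hV hp hcomm hexp)
    refine ⟨H, hH1, hH2, hH3, ?_, ?_⟩
    · have hc : Nat.card (V ⋊[MulAut.conjNormal] G) = Nat.card V * Nat.card G :=
        SemidirectProduct.card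
      have hV2 : 2 ≤ Nat.card V := (Subgroup.one_lt_card_iff_ne_bot V).2 hV
      calc 2 ^ (n + 1) * Nat.card G = 2 ^ n * (2 * Nat.card G) := by ring
        _ ≤ 2 ^ n * (Nat.card V * Nat.card G) := by gcongr
        _ = 2 ^ n * Nat.card (V ⋊[MulAut.conjNormal] G) := by rw [hc]
        _ ≤ Nat.card H := hH4
    · rw [hH5]
      exact Cfsg.Agent.S3443.result V p hp hcomm hexp

/-- Transporting a group structure along an equivalence preserves the spectrum. -/
lemma transport_spec (α : Type) (H : Type*) [Group H] (e : α ≃ H) :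
    ∃ (_ : Group α), Set.range (orderOf : α → ℕ) = Set.range (orderOf : H → ℕ) := by
  letI : Group α := e.group
  refine ⟨e.group, ?_⟩
  let f : α ≃* H := e.mulEquiv
  ext x
  constructor
  · rintro ⟨a, rfl⟩
    exact ⟨f a, f.orderOf_eq a⟩
  · rintro ⟨a, rfl⟩
    exact ⟨f.symm a, by rw [← f.orderOf_eq, f.apply_symm_apply]⟩

/-- A finite group has a copy on `Fin n`. -/
lemma exists_fin_model (H : Type*) [Group H] [Finite H] :
    ∃ (H' : Type) (_ : Group H') (_ : Fintype H'), Fintype.card H' = Nat.card H ∧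
      Set.range (orderOf : H' → ℕ) = Set.range (orderOf : H → ℕ) := by
  obtain ⟨hG, hspec⟩ := transport_spec (Fin (Nat.card H)) H (Finite.equivFin H).symm
  exact ⟨Fin (Nat.card H), hG, inferInstance, Fintype.card_fin _, hspec⟩

/-- A finite group with a non-trivial solvable normal subgroup is not determined by its set of element orders, not even up to finitely many possibilities: for every bound N there is a finite group of order greater than N with exactly the same set of element orders. -/
theorem result {G : Type*} [Group G] [Finite G] (K : Subgroup G) [K.Normal] (hK : K ≠ ⊥)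
    (hs : Group.IsSolvable K) (N : ℕ) :
    ∃ (H : Type) (_ : Group H) (_ : Fintype H), N < Fintype.card H ∧ Set.range (orderOf : H → ℕ) = Set.range (orderOf : G → ℕ) := by
  obtain ⟨A, hAn, hA, hab⟩ := exists_abelian_normal (Nat.card K) K rfl inferInstance hK hs
  have hEA : HasEA G := hasEA_of_abelian_normal A hAn hA hab
  obtain ⟨H, hH1, hH2, -, hH4, hH5⟩ := iterate_step N G hEA
  obtain ⟨H', hG', hF', hcard, hspec⟩ := exists_fin_model H
  refine ⟨H', hG', hF', ?_, hspec.trans hH5⟩
  rw [hcard]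
  have h1 : 1 ≤ Nat.card G := Nat.one_le_iff_ne_zero.2 (Nat.card_pos).ne'
  calc N < 2 ^ N := Nat.lt_two_pow_self
    _ = 2 ^ N * 1 := (mul_one _).symm
    _ ≤ 2 ^ N * Nat.card G := by gcongr
    _ ≤ Nat.card H := hH4

end Cfsg.Agent.S3444
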