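import Cfsg.Statements.S3448

set_option autoImplicit false
open Cfsg

namespace Cfsg.Agent.S3448

set_option maxRecDepth 100000 in
lemma a5_pow : ∀ g : alternatingGroup (Fin 5), g ^ 2 = 1 ∨ g ^ 3 = 1 ∨ g ^ 5 = 1 := by
  decide

lemma orderOf_mem (g : alternatingGroup (Fin 5)) : orderOf g ∈ ({1, 2, 3, 5} : Set ℕ) := by
  rcases a5_pow g with h | h | h
  · have := orderOf_dvd_of_pow_eq_one h
    rcases (Nat.dvd_prime Nat.prime_two).1 this with h1 | h1 <;> simp [h1]
  · have := orderOf_dvd_of_pow_eq_one h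
    rcases (Nat.dvd_prime Nat.prime_three).1 this with h1 | h1 <;> simp [h1]
  · have := orderOf_dvd_of_pow_eq_one h
    rcases (Nat.dvd_prime Nat.prime_five).1 this with h1 | h1 <;> simp [h1]

set_option maxRecDepth 100000 in
lemma exists_pow (p : ℕ) (hp : p = 2 ∨ p = 3 ∨ p = 5) :
    ∃ g : alternatingGroup (Fin 5), g ^ p = 1 ∧ g ≠ 1 := by
  rcases hp with rfl | rfl | rfl <;> decide

/-- The spectrum of `A₅` is `{1, 2, 3, 5}`. -/
lemma spec_A5 : Set.range (orderOf : alternatingGroup (Fin 5) → ℕ) = {1, 2, 3, 5} := by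
  apply Set.eq_of_subset_of_subset
  · rintro n ⟨g, rfl⟩
    exact orderOf_mem g
  · intro n hn
    simp only [Set.mem_insert_iff, Set.mem_singleton_iff] at hn
    rcases hn with rfl | rfl | rfl | rfl
    · exact ⟨1, orderOf_one⟩
    · obtain ⟨g, h1, h2⟩ := exists_pow 2 (by simp)
      have : Fact (Nat.Prime 2) := ⟨Nat.prime_two⟩
      exact ⟨g, orderOf_eq_prime h1 h2⟩
    · obtain ⟨g, h1, h2⟩ := exists_pow 3 (by simp)
      have : Fact (Nat.Prime 3) := ⟨Nat.prime_three⟩
      exact ⟨g, orderOf_eq_prime h1 h2⟩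
    · obtain ⟨g, h1, h2⟩ := exists_pow 5 (by simp)
      have : Fact (Nat.Prime 5) := ⟨Nat.prime_five⟩
      exact ⟨g, orderOf_eq_prime h1 h2⟩

/-- The spectrum of a direct product consists of the lcm's. -/
lemma range_orderOf_prod {A B : Type*} [Monoid A] [Monoid B] (x : ℕ) :
    x ∈ Set.range (orderOf : A × B → ℕ) ↔
      ∃ m ∈ Set.range (orderOf : A → ℕ), ∃ n ∈ Set.range (orderOf : B → ℕ), Nat.lcm m n = x := by
  constructor
  · rintro ⟨⟨a, b⟩, rfl⟩
    exact ⟨orderOf a, ⟨a, rfl⟩, orderOf b, ⟨b, rfl⟩, (Prod.orderOf (a, b)).symm⟩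
  · rintro ⟨_, ⟨a, rfl⟩, _, ⟨b, rfl⟩, rfl⟩
    exact ⟨(a, b), Prod.orderOf (a, b)⟩

/-- The set of element orders of the direct product of two copies of the alternating group of degree 5 is {1, 2, 3, 5, 6, 10, 15}. (It is shared by the direct product of two Frobenius groups of orders 50 and 75, so this direct product is not determined by its element orders.) -/
theorem result : Set.range (orderOf : alternatingGroup (Fin 5) × alternatingGroup (Fin 5) → ℕ) = {1, 2, 3, 5, 6, 10, 15} := by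
  ext x
  rw [range_orderOf_prod, spec_A5]
  simp only [Set.mem_insert_iff, Set.mem_singleton_iff, exists_eq_or_imp, exists_eq_left]
  norm_num [Nat.lcm]
  tauto

end Cfsg.Agent.S3448
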