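import Cfsg.Statements.S3449
import Cfsg.Agent.S3448

set_option autoImplicit false
open Cfsg

namespace Cfsg.Agent.S3449

/-- The spectrum of the cyclic group of order 30 is the set of divisors of 30. -/
lemma spec_Z30 : Set.range (orderOf : Multiplicative (ZMod 30) → ℕ) = {1, 2, 3, 5, 6, 10, 15, 30} := by
  apply Set.eq_of_subset_of_subset
  · rintro n ⟨g, rfl⟩
    have h : orderOf g ∣ 30 := by
      have := orderOf_dvd_natCard g
      simpa using this
    have hmem : orderOf g ∈ Nat.divisors 30 := Nat.mem_divisors.2 ⟨h, by norm_num⟩
    have hd : Nat.divisors 30 = {1, 2, 3, 5, 6, 10, 15, 30} := by decide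
    rw [hd] at hmem
    simpa using hmem
  · intro n hn
    have key : ∀ a : ℕ, orderOf (Multiplicative.ofAdd ((a : ℕ) : ZMod 30)) = 30 / Nat.gcd 30 a := by
      intro a
      rw [orderOf_ofAdd_eq_addOrderOf, ZMod.addOrderOf_coe a (by norm_num)]
    simp only [Set.mem_insert_iff, Set.mem_singleton_iff] at hn
    rcases hn with rfl | rfl | rfl | rfl | rfl | rfl | rfl | rfl
    · exact ⟨_, (key 30).trans (by norm_num)⟩
    · exact ⟨_, (key 15).trans (by norm_num)⟩
    · exact ⟨_, (key 10).trans (by norm_num)⟩
    · exact ⟨_, (key 6).trans (by norm_num)⟩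
    · exact ⟨_, (key 5).trans (by norm_num)⟩
    · exact ⟨_, (key 3).trans (by norm_num)⟩
    · exact ⟨_, (key 2).trans (by norm_num)⟩
    · exact ⟨_, (key 1).trans (by norm_num)⟩

/-- The direct product of three copies of the alternating group of degree 5 has exactly the same set of element orders as the cyclic group of order 30, namely the divisors of 30; in particular a direct power of a non-abelian simple group need not be determined by its element orders. -/
theorem result : Set.range (orderOf : alternatingGroup (Fin 5) × alternatingGroup (Fin 5) × alternatingGroup (Fin 5) → ℕ) =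
      Set.range (orderOf : Multiplicative (ZMod 30) → ℕ) := by
  rw [spec_Z30]
  ext x
  rw [Cfsg.Agent.S3448.range_orderOf_prod, Cfsg.Agent.S3448.result, Cfsg.Agent.S3448.spec_A5]
  simp only [Set.mem_insert_iff, Set.mem_singleton_iff, exists_eq_or_imp, exists_eq_left]
  norm_num [Nat.lcm]
  tauto

end Cfsg.Agent.S3449
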