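import Cfsg.Statements.S3486
import Cfsg.Agent.Lib.Helper27.J2SpectrumFinal
import Cfsg.Agent.Lib.Helper27.A8ExtFinal

set_option autoImplicit false
open Cfsg

namespace Cfsg.Agent.S3486

/-- The Hall–Janko sporadic group J₂ is not determined by its set of element orders, not even up to finitely many groups: for every bound N there is a finite group of order greater than N with exactly the same set of element orders as J₂. -/
theorem result (N : ℕ) : ∃ (H : Type) (_ : Group H) (_ : Fintype H), N < Fintype.card H ∧ Set.range (orderOf : H → ℕ) = Set.range (orderOf : Cfsg.Spor.J2 → ℕ) := by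
  classical
  let H : Type := ↥(Cfsg.Agent.Lib.Helper27.A8Ext.K (N + 1))
  refine ⟨H, inferInstance, Fintype.ofFinite H, ?_, ?_⟩
  · rw [Fintype.card_eq_nat_card]
    exact lt_of_lt_of_le ((Nat.lt_succ_self N).trans Nat.lt_two_pow_self)
      (Cfsg.Agent.Lib.Helper27.A8Ext.two_pow_le_card (N + 1))
  · rw [Cfsg.Agent.Lib.Helper27.J2.range_orderOf_J2]
    exact Cfsg.Agent.Lib.Helper27.A8Ext.range_orderOf_K (Nat.succ_pos N)

end Cfsg.Agent.S3486
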