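import Cfsg.Statements.S3488
import Mathlib
-- import your own Cfsg.Agent.* helpers here

set_option autoImplicit false
open Cfsg

namespace Cfsg.Agent.S3488

/-! ### The spectrum of `A₆` -/

theorem mset_cases (m : Multiset ℕ) (h2 : ∀ a ∈ m, 2 ≤ a) (hsum : m.sum ≤ 6)
    (hs : (-1 : ℤˣ) ^ (m.sum + Multiset.card m) = 1) : m.lcm ∈ ({1,2,3,4,5} : Set ℕ) := by
  have hcard : Multiset.card m ≤ 3 := by
    have := Multiset.card_nsmul_le_sum h2
    simp only [smul_eq_mul] at this
    omega
  interval_cases hc : Multiset.card m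
  · rw [Multiset.card_eq_zero] at hc
    subst hc
    simp
  · rw [Multiset.card_eq_one] at hc
    obtain ⟨a, rfl⟩ := hc
    have ha := h2 a (by simp)
    simp only [Multiset.sum_singleton] at hsum hs
    simp only [Multiset.lcm_singleton, normalize_eq]
    interval_cases a
    · exact absurd hs (by decide)
    · simp
    · exact absurd hs (by decide)
    · simp
    · exact absurd hs (by decide)
  · rw [Multiset.card_eq_two] at hc
    obtain ⟨a, b, rfl⟩ := hc
    have ha := h2 a (by simp)
    have hb := h2 b (by simp)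
    simp only [Multiset.insert_eq_cons, Multiset.sum_cons, Multiset.sum_singleton] at hsum hs
    simp only [Multiset.insert_eq_cons, Multiset.lcm_cons, Multiset.lcm_singleton, normalize_eq]
    have ha' : a ≤ 4 := by omega
    have hb' : b ≤ 4 := by omega
    interval_cases a <;> interval_cases b <;>
      first | omega | (exact absurd hs (by decide)) | (simp; done) | (decide)
  · rw [Multiset.card_eq_three] at hc
    obtain ⟨a, b, c, rfl⟩ := hc
    have ha := h2 a (by simp)
    have hb := h2 b (by simp)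
    have hc := h2 c (by simp)
    simp only [Multiset.insert_eq_cons, Multiset.sum_cons, Multiset.sum_singleton] at hsum hs
    have ha' : a = 2 := by omega
    have hb' : b = 2 := by omega
    have hc' : c = 2 := by omega
    subst ha' hb' hc'
    exact absurd hs (by decide)

theorem a6_order (σ : Equiv.Perm (Fin 6)) (hσ : σ ∈ alternatingGroup (Fin 6)) :
    orderOf σ ∈ ({1,2,3,4,5} : Set ℕ) := by
  have hsign : Equiv.Perm.sign σ = 1 := Equiv.Perm.mem_alternatingGroup.mp hσ
  rw [← Equiv.Perm.lcm_cycleType]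
  rw [Equiv.Perm.sign_of_cycleType] at hsign
  exact mset_cases _ (fun a ha => Equiv.Perm.two_le_of_mem_cycleType ha)
    (by simpa using σ.sum_cycleType_le) hsign

set_option maxRecDepth 100000 in
theorem a6_spectrum :
    Set.range (orderOf : alternatingGroup (Fin 6) → ℕ) = ({1,2,3,4,5} : Set ℕ) := by
  apply Set.Subset.antisymm
  · rintro _ ⟨⟨σ, hσ⟩, rfl⟩
    rw [Subgroup.orderOf_mk]
    exact a6_order σ hσ
  · intro n hn
    simp only [Set.mem_insert_iff, Set.mem_singleton_iff] at hn
    have : Fact (Nat.Prime 5) := ⟨by norm_num⟩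
    rcases hn with rfl | rfl | rfl | rfl | rfl
    · exact ⟨1, orderOf_one⟩
    · refine ⟨⟨c[0,1] * c[2,3], Equiv.Perm.mem_alternatingGroup.mpr (by decide)⟩, ?_⟩
      rw [Subgroup.orderOf_mk]
      exact orderOf_eq_prime (by decide) (by decide)
    · refine ⟨⟨c[0,1,2], Equiv.Perm.mem_alternatingGroup.mpr (by decide)⟩, ?_⟩
      rw [Subgroup.orderOf_mk]
      exact orderOf_eq_prime (by decide) (by decide)
    · refine ⟨⟨c[0,1,2,3] * c[4,5], Equiv.Perm.mem_alternatingGroup.mpr (by decide)⟩, ?_⟩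
      rw [Subgroup.orderOf_mk]
      exact orderOf_eq_prime_pow (p := 2) (n := 1) (by decide) (by decide)
    · refine ⟨⟨c[0,1,2,3,4], Equiv.Perm.mem_alternatingGroup.mpr (by decide)⟩, ?_⟩
      rw [Subgroup.orderOf_mk]
      exact orderOf_eq_prime (by decide) (by decide)

/-! ### The affine group `F₄² ⋊ SL₂(F₄)` -/

section matrix
variable {F : Type*} [Field F]

theorem mat_eq (M : Matrix (Fin 3) (Fin 3) F) (h0 : M 2 0 = 0) (h1 : M 2 1 = 0) (h2 : M 2 2 = 1) :
    M = !![M 0 0, M 0 1, M 0 2; M 1 0, M 1 1, M 1 2; 0, 0, 1] := by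
  ext i j
  fin_cases i <;> fin_cases j <;> simp [h0, h1, h2]

theorem pow4 (a b c d x y : F) (h2 : (2:F) = 0) (hdet : a * d - b * c = 1) (ht : a + d = 0) :
    (!![a,b,x;c,d,y;0,0,1] : Matrix (Fin 3) (Fin 3) F)^4 = 1 := by
  ext i j
  fin_cases i <;> fin_cases j <;>
    simp [pow_succ, Matrix.mul_apply, Fin.sum_univ_three] <;> grind

theorem pow3 (a b c d x y : F) (h2 : (2:F) = 0) (hdet : a * d - b * c = 1) (ht : a + d = 1) :
    (!![a,b,x;c,d,y;0,0,1] : Matrix (Fin 3) (Fin 3) F)^3 = 1 := by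
  ext i j
  fin_cases i <;> fin_cases j <;>
    simp [pow_succ, Matrix.mul_apply, Fin.sum_univ_three] <;> grind

theorem pow5 (a b c d x y t : F) (h2 : (2:F) = 0) (hdet : a * d - b * c = 1) (ht : a + d = t)
    (htt : t^2 + t + 1 = 0) :
    (!![a,b,x;c,d,y;0,0,1] : Matrix (Fin 3) (Fin 3) F)^5 = 1 := by
  ext i j
  fin_cases i <;> fin_cases j <;>
    simp [pow_succ, Matrix.mul_apply, Fin.sum_univ_three] <;> grind

variable [Fintype F]

theorem two_eq_zero_of_card (hF : Fintype.card F = 4) : (2 : F) = 0 := by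
  have h := FiniteField.cast_card_eq_zero F
  rw [hF] at h
  have h4 : (2 : F) * 2 = 0 := by
    have : ((4 : ℕ) : F) = 2 * 2 := by norm_num
    rw [← this]; exact h
  exact mul_self_eq_zero.mp h4

theorem trichotomy (hF : Fintype.card F = 4) (t : F) : t = 0 ∨ t = 1 ∨ t ^ 2 + t + 1 = 0 := by
  have h := FiniteField.pow_card t
  rw [hF] at h
  have h' : t * ((t - 1) * (t ^ 2 + t + 1)) = 0 := by
    have : t * ((t - 1) * (t ^ 2 + t + 1)) = t ^ 4 - t := by ring
    rw [this, h, sub_self]
  rcases mul_eq_zero.mp h' with h1 | h1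
  · exact Or.inl h1
  · rcases mul_eq_zero.mp h1 with h2 | h2
    · exact Or.inr (Or.inl (sub_eq_zero.mp h2))
    · exact Or.inr (Or.inr h2)

theorem exists_omega (hF : Fintype.card F = 4) : ∃ w : F, w ^ 2 + w + 1 = 0 := by
  classical
  by_contra hcon
  push Not at hcon
  have hall : ∀ t : F, t = 0 ∨ t = 1 := by
    intro t
    rcases trichotomy hF t with h | h | h
    · exact Or.inl h
    · exact Or.inr h
    · exact absurd h (hcon t)
  have hsub : (Finset.univ : Finset F) ⊆ {0, 1} := by
    intro t _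
    rcases hall t with h | h <;> simp [h]
  have := Finset.card_le_card hsub
  rw [Finset.card_univ, hF] at this
  have h2 : ({0, 1} : Finset F).card ≤ 2 := Finset.card_le_two
  omega

/-- the defining set -/
def affSet (F : Type*) [Field F] : Set (Matrix.SpecialLinearGroup (Fin 3) F) :=
  {M : Matrix.SpecialLinearGroup (Fin 3) F |
        (M : Matrix (Fin 3) (Fin 3) F) 2 0 = 0 ∧ (M : Matrix (Fin 3) (Fin 3) F) 2 1 = 0 ∧
        (M : Matrix (Fin 3) (Fin 3) F) 2 2 = 1}

omit [Fintype F] in
theorem closure_row (M : Matrix.SpecialLinearGroup (Fin 3) F)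
    (hM : M ∈ Subgroup.closure (affSet F)) :
    Matrix.vecMul (Pi.single 2 1) (M : Matrix (Fin 3) (Fin 3) F) = Pi.single 2 1 := by
  induction hM using Subgroup.closure_induction with
  | mem x hx =>
    obtain ⟨h0, h1, h2⟩ := hx
    rw [Matrix.single_one_vecMul]
    ext j
    fin_cases j <;> simp [Matrix.row, h0, h1, h2]
  | one => simp
  | mul x y _ _ hx hy =>
    rw [Matrix.SpecialLinearGroup.coe_mul, ← Matrix.vecMul_vecMul, hx, hy]
  | inv x _ hx =>
    have h1 : (x : Matrix (Fin 3) (Fin 3) F) * ((x⁻¹ : Matrix.SpecialLinearGroup (Fin 3) F) :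
        Matrix (Fin 3) (Fin 3) F) = 1 := by
      rw [← Matrix.SpecialLinearGroup.coe_mul, mul_inv_cancel, Matrix.SpecialLinearGroup.coe_one]
    calc Matrix.vecMul (Pi.single 2 1) ((x⁻¹ : Matrix.SpecialLinearGroup (Fin 3) F) :
          Matrix (Fin 3) (Fin 3) F)
        = Matrix.vecMul (Matrix.vecMul (Pi.single 2 1) (x : Matrix (Fin 3) (Fin 3) F))
            ((x⁻¹ : Matrix.SpecialLinearGroup (Fin 3) F) : Matrix (Fin 3) (Fin 3) F) := by rw [hx]
      _ = Pi.single 2 1 := by rw [Matrix.vecMul_vecMul, h1, Matrix.vecMul_one]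

omit [Fintype F] in
theorem closure_mem (M : Matrix.SpecialLinearGroup (Fin 3) F)
    (hM : M ∈ Subgroup.closure (affSet F)) : M ∈ affSet F := by
  have h := closure_row M hM
  rw [Matrix.single_one_vecMul] at h
  refine ⟨?_, ?_, ?_⟩
  · have := congrFun h 0; simpa [Matrix.row] using this
  · have := congrFun h 1; simpa [Matrix.row] using this
  · have := congrFun h 2; simpa [Matrix.row] using this

theorem order_mem (hF : Fintype.card F = 4) (M : Matrix.SpecialLinearGroup (Fin 3) F)
    (hM : M ∈ affSet F) : orderOf M ∈ ({1,2,3,4,5} : Set ℕ) := by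
  obtain ⟨h0, h1, h2⟩ := hM
  have h2F := two_eq_zero_of_card hF
  have hmat := mat_eq (M : Matrix (Fin 3) (Fin 3) F) h0 h1 h2
  have hdet : (M : Matrix (Fin 3) (Fin 3) F) 0 0 * (M : Matrix (Fin 3) (Fin 3) F) 1 1
      - (M : Matrix (Fin 3) (Fin 3) F) 0 1 * (M : Matrix (Fin 3) (Fin 3) F) 1 0 = 1 := by
    have hd := M.det_coe
    rw [Matrix.det_fin_three, h0, h1, h2] at hd
    linear_combination hd
  have hpow : ∀ n : ℕ, (M : Matrix (Fin 3) (Fin 3) F) ^ n = 1 → M ^ n = 1 := by
    intro n hn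
    apply Subtype.ext
    rw [Matrix.SpecialLinearGroup.coe_pow, hn, Matrix.SpecialLinearGroup.coe_one]
  rcases trichotomy hF ((M : Matrix (Fin 3) (Fin 3) F) 0 0 + (M : Matrix (Fin 3) (Fin 3) F) 1 1)
    with ht | ht | ht
  · have h4 : M ^ 4 = 1 := by
      apply hpow
      rw [hmat]
      exact pow4 _ _ _ _ _ _ h2F hdet ht
    have hdvd := orderOf_dvd_of_pow_eq_one h4
    have : orderOf M ∈ Nat.divisors 4 := Nat.mem_divisors.mpr ⟨hdvd, by norm_num⟩
    have hdiv : Nat.divisors 4 = {1, 2, 4} := by decide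
    rw [hdiv] at this
    simp only [Finset.mem_insert, Finset.mem_singleton] at this
    rcases this with h | h | h <;> simp [h]
  · have h3 : M ^ 3 = 1 := by
      apply hpow
      rw [hmat]
      exact pow3 _ _ _ _ _ _ h2F hdet ht
    have hdvd := orderOf_dvd_of_pow_eq_one h3
    rcases (Nat.dvd_prime Nat.prime_three).mp hdvd with h | h <;> simp [h]
  · have h5 : M ^ 5 = 1 := by
      apply hpow
      rw [hmat]
      exact pow5 _ _ _ _ _ _ _ h2F hdet rfl ht
    have hdvd := orderOf_dvd_of_pow_eq_one h5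
    rcases (Nat.dvd_prime Nat.prime_five).mp hdvd with h | h <;> simp [h]

/-- explicit elements of the affine group -/
def mk (A : Matrix (Fin 3) (Fin 3) F) (h : A.det = 1) : Matrix.SpecialLinearGroup (Fin 3) F :=
  ⟨A, h⟩

theorem exists_order (hF : Fintype.card F = 4) (n : ℕ) (hn : n ∈ ({1,2,3,4,5} : Set ℕ)) :
    ∃ M : Matrix.SpecialLinearGroup (Fin 3) F, M ∈ affSet F ∧ orderOf M = n := by
  have h2F := two_eq_zero_of_card hF
  have hneg : (-1 : F) = 1 := by
    have : (1 : F) + 1 = 0 := by rw [one_add_one_eq_two]; exact h2F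
    exact neg_eq_of_add_eq_zero_left this
  have hpow : ∀ (M : Matrix.SpecialLinearGroup (Fin 3) F) (n : ℕ),
      (M : Matrix (Fin 3) (Fin 3) F) ^ n = 1 → M ^ n = 1 := by
    intro M n hn
    apply Subtype.ext
    rw [Matrix.SpecialLinearGroup.coe_pow, hn, Matrix.SpecialLinearGroup.coe_one]
  have : Fact (Nat.Prime 5) := ⟨Nat.prime_five⟩
  simp only [Set.mem_insert_iff, Set.mem_singleton_iff] at hn
  rcases hn with rfl | rfl | rfl | rfl | rfl
  · refine ⟨1, ⟨by simp, by simp, by simp⟩, orderOf_one⟩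
  · -- order 2
    have hdet : (!![1,0,1;0,1,0;0,0,1] : Matrix (Fin 3) (Fin 3) F).det = 1 := by
      rw [Matrix.det_fin_three]; simp
    refine ⟨⟨_, hdet⟩, ⟨by simp, by simp, by simp⟩, ?_⟩
    apply orderOf_eq_prime
    · apply hpow
      have := pow4 (1:F) 0 0 1 1 0 h2F (by ring) (by rw [one_add_one_eq_two]; exact h2F)
      ext i j
      fin_cases i <;> fin_cases j <;>
        simp [pow_succ, Matrix.mul_apply, Fin.sum_univ_three, one_add_one_eq_two, h2F]
    · intro h
      have := congrArg (fun M : Matrix.SpecialLinearGroup (Fin 3) F =>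
        (M : Matrix (Fin 3) (Fin 3) F) 0 2) h
      simp at this
  · -- order 3
    have hdet : (!![0,1,0;1,1,0;0,0,1] : Matrix (Fin 3) (Fin 3) F).det = 1 := by
      rw [Matrix.det_fin_three]; simp [hneg]
    refine ⟨⟨_, hdet⟩, ⟨by simp, by simp, by simp⟩, ?_⟩
    apply orderOf_eq_prime
    · apply hpow
      exact pow3 (0:F) 1 1 1 0 0 h2F (by simp [hneg]) (by simp)
    · intro h
      have := congrArg (fun M : Matrix.SpecialLinearGroup (Fin 3) F =>
        (M : Matrix (Fin 3) (Fin 3) F) 0 1) h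
      simp at this
  · -- order 4
    have hdet : (!![1,1,0;0,1,1;0,0,1] : Matrix (Fin 3) (Fin 3) F).det = 1 := by
      rw [Matrix.det_fin_three]; simp
    refine ⟨⟨_, hdet⟩, ⟨by simp, by simp, by simp⟩, ?_⟩
    apply orderOf_eq_prime_pow (p := 2) (n := 1)
    · intro h
      have h' : (!![1,1,0;0,1,1;0,0,1] : Matrix (Fin 3) (Fin 3) F) ^ 2 = 1 :=
        congrArg Subtype.val h
      have h'' := congrFun (congrFun h' 0) 2
      simp [pow_succ, Matrix.mul_apply, Fin.sum_univ_three] at h''
    · apply hpow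
      exact pow4 (1:F) 1 0 1 0 1 h2F (by ring) (by rw [one_add_one_eq_two]; exact h2F)
  · -- order 5
    obtain ⟨w, hw⟩ := exists_omega hF
    have hdet : (!![0,1,0;1,w,0;0,0,1] : Matrix (Fin 3) (Fin 3) F).det = 1 := by
      rw [Matrix.det_fin_three]; simp [hneg]
    refine ⟨⟨_, hdet⟩, ⟨by simp, by simp, by simp⟩, ?_⟩
    apply orderOf_eq_prime
    · apply hpow
      exact pow5 (0:F) 1 1 w 0 0 w h2F (by simp [hneg]) (by simp) hw
    · intro h
      have := congrArg (fun M : Matrix.SpecialLinearGroup (Fin 3) F =>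
        (M : Matrix (Fin 3) (Fin 3) F) 0 1) h
      simp at this

theorem aff_spectrum (hF : Fintype.card F = 4) :
    Set.range (orderOf : Subgroup.closure (affSet F) → ℕ) = ({1,2,3,4,5} : Set ℕ) := by
  apply Set.Subset.antisymm
  · rintro _ ⟨⟨M, hM⟩, rfl⟩
    rw [Subgroup.orderOf_mk]
    exact order_mem hF M (closure_mem M hM)
  · intro n hn
    obtain ⟨M, hM, hord⟩ := exists_order hF n hn
    exact ⟨⟨M, Subgroup.subset_closure hM⟩, by rw [Subgroup.orderOf_mk, hord]⟩

end matrix

/-- Let F be the field with four elements. The affine group F² ⋊ SL(2,F), realised as the subgroup of SL(3,F) of matrices with last row (0, 0, 1), has exactly the same set of element orders as the alternating group of degree 6 (namely {1, 2, 3, 4, 5}); so the alternating group of degree 6 is not determined by its element orders. -/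
theorem result {F : Type*} [Field F] [Fintype F] (hF : Fintype.card F = 4) :
    Set.range (orderOf : Subgroup.closure {M : Matrix.SpecialLinearGroup (Fin 3) F |
        (M : Matrix (Fin 3) (Fin 3) F) 2 0 = 0 ∧ (M : Matrix (Fin 3) (Fin 3) F) 2 1 = 0 ∧ (M : Matrix (Fin 3) (Fin 3) F) 2 2 = 1} → ℕ) =
      Set.range (orderOf : alternatingGroup (Fin 6) → ℕ) := by
  rw [a6_spectrum]
  exact aff_spectrum hF

end Cfsg.Agent.S3488
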