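import Cfsg.Statements.S3491
import Mathlib
import Cfsg.Agent.S3488

set_option autoImplicit false
open Cfsg

namespace Cfsg.Agent.S3491

open Cfsg.Agent.S3488

section
variable {F : Type*} [Field F]

/-- the linear part of an affine matrix -/
def lin (M : Matrix.SpecialLinearGroup (Fin 3) F) : Matrix (Fin 2) (Fin 2) F :=
  !![(M : Matrix (Fin 3) (Fin 3) F) 0 0, (M : Matrix (Fin 3) (Fin 3) F) 0 1;
     (M : Matrix (Fin 3) (Fin 3) F) 1 0, (M : Matrix (Fin 3) (Fin 3) F) 1 1]

theorem lin_one : lin (1 : Matrix.SpecialLinearGroup (Fin 3) F) = 1 := by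
  ext i j
  fin_cases i <;> fin_cases j <;> simp [lin]

theorem lin_mul (M N : Matrix.SpecialLinearGroup (Fin 3) F) (hN : N ∈ affSet F) :
    lin (M * N) = lin M * lin N := by
  obtain ⟨h0, h1, h2⟩ := hN
  ext i j
  fin_cases i <;> fin_cases j <;>
    simp [lin, Matrix.mul_apply, Fin.sum_univ_three, Fin.sum_univ_two, h0, h1]

/-- the big group: `k`-tuples of affine matrices with a common linear part -/
def bigGroup (F : Type*) [Field F] (k : ℕ) :
    Subgroup (Fin k → Matrix.SpecialLinearGroup (Fin 3) F) where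
  carrier := {g | (∀ i, g i ∈ Subgroup.closure (affSet F)) ∧ ∀ i j, lin (g i) = lin (g j)}
  mul_mem' := by
    rintro g h ⟨hg1, hg2⟩ ⟨hh1, hh2⟩
    refine ⟨fun i => Subgroup.mul_mem _ (hg1 i) (hh1 i), fun i j => ?_⟩
    rw [Pi.mul_apply, Pi.mul_apply, lin_mul _ _ (closure_mem _ (hh1 i)),
      lin_mul _ _ (closure_mem _ (hh1 j)), hg2 i j, hh2 i j]
  one_mem' := ⟨fun i => Subgroup.one_mem _, fun i j => rfl⟩
  inv_mem' := by
    rintro g ⟨hg1, hg2⟩
    refine ⟨fun i => Subgroup.inv_mem _ (hg1 i), fun i j => ?_⟩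
    rw [Pi.inv_apply, Pi.inv_apply]
    have h1 : lin (g i)⁻¹ * lin (g i) = 1 := by
      rw [← lin_mul _ _ (closure_mem _ (hg1 i)), inv_mul_cancel, lin_one]
    have h2 : lin (g j) * lin (g j)⁻¹ = 1 := by
      rw [← lin_mul _ _ (closure_mem _ (Subgroup.inv_mem _ (hg1 j))), mul_inv_cancel, lin_one]
    calc lin (g i)⁻¹ = lin (g i)⁻¹ * (lin (g j) * lin (g j)⁻¹) := by rw [h2, mul_one]
      _ = (lin (g i)⁻¹ * lin (g i)) * lin (g j)⁻¹ := by rw [hg2 i j, mul_assoc]
      _ = lin (g j)⁻¹ := by rw [h1, one_mul]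

variable [Fintype F]

theorem pow_by_trace (hF : Fintype.card F = 4) (M : Matrix.SpecialLinearGroup (Fin 3) F)
    (hM : M ∈ affSet F) :
    ((M : Matrix (Fin 3) (Fin 3) F) 0 0 + (M : Matrix (Fin 3) (Fin 3) F) 1 1 = 0 → M ^ 4 = 1) ∧
    ((M : Matrix (Fin 3) (Fin 3) F) 0 0 + (M : Matrix (Fin 3) (Fin 3) F) 1 1 = 1 → M ^ 3 = 1) ∧
    (((M : Matrix (Fin 3) (Fin 3) F) 0 0 + (M : Matrix (Fin 3) (Fin 3) F) 1 1) ^ 2 +
      ((M : Matrix (Fin 3) (Fin 3) F) 0 0 + (M : Matrix (Fin 3) (Fin 3) F) 1 1) + 1 = 0 →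
      M ^ 5 = 1) := by
  obtain ⟨h0, h1, h2⟩ := hM
  have h2F := two_eq_zero_of_card hF
  have hmat := mat_eq (M : Matrix (Fin 3) (Fin 3) F) h0 h1 h2
  have hdet : (M : Matrix (Fin 3) (Fin 3) F) 0 0 * (M : Matrix (Fin 3) (Fin 3) F) 1 1
      - (M : Matrix (Fin 3) (Fin 3) F) 0 1 * (M : Matrix (Fin 3) (Fin 3) F) 1 0 = 1 := by
    have hd := M.det_coe
    rw [Matrix.det_fin_three, h0, h1, h2] at hd
    linear_combination hd
  have hpow : ∀ n : ℕ, (M : Matrix (Fin 3) (Fin 3) F) ^ n = 1 → M ^ n = 1 := by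
    intro n hn
    apply Subtype.ext
    rw [Matrix.SpecialLinearGroup.coe_pow, hn, Matrix.SpecialLinearGroup.coe_one]
  refine ⟨fun ht => ?_, fun ht => ?_, fun ht => ?_⟩
  · apply hpow
    rw [hmat]
    exact pow4 _ _ _ _ _ _ h2F hdet ht
  · apply hpow
    rw [hmat]
    exact pow3 _ _ _ _ _ _ h2F hdet ht
  · apply hpow
    rw [hmat]
    exact pow5 _ _ _ _ _ _ _ h2F hdet rfl ht

theorem mem_of_dvd (n : ℕ) (h : n ∣ 4 ∨ n ∣ 3 ∨ n ∣ 5) : n ∈ ({1,2,3,4,5} : Set ℕ) := by
  rcases h with h | h | h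
  · have : n ∈ Nat.divisors 4 := Nat.mem_divisors.mpr ⟨h, by norm_num⟩
    have hdiv : Nat.divisors 4 = {1, 2, 4} := by decide
    rw [hdiv] at this
    simp only [Finset.mem_insert, Finset.mem_singleton] at this
    rcases this with h | h | h <;> simp [h]
  · rcases (Nat.dvd_prime Nat.prime_three).mp h with h | h <;> simp [h]
  · rcases (Nat.dvd_prime Nat.prime_five).mp h with h | h <;> simp [h]

theorem big_order_mem (hF : Fintype.card F = 4) (k : ℕ)
    (g : Fin k → Matrix.SpecialLinearGroup (Fin 3) F) (hg : g ∈ bigGroup F k) :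
    orderOf g ∈ ({1,2,3,4,5} : Set ℕ) := by
  obtain ⟨hg1, hg2⟩ := hg
  rcases isEmpty_or_nonempty (Fin k) with hk | ⟨⟨i0⟩⟩
  · have : g = 1 := Subsingleton.elim _ _
    rw [this, orderOf_one]; simp
  · have htr : ∀ i, ((g i : Matrix.SpecialLinearGroup (Fin 3) F) : Matrix (Fin 3) (Fin 3) F) 0 0 +
        ((g i : Matrix.SpecialLinearGroup (Fin 3) F) : Matrix (Fin 3) (Fin 3) F) 1 1 =
        ((g i0 : Matrix.SpecialLinearGroup (Fin 3) F) : Matrix (Fin 3) (Fin 3) F) 0 0 +
        ((g i0 : Matrix.SpecialLinearGroup (Fin 3) F) : Matrix (Fin 3) (Fin 3) F) 1 1 := by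
      intro i
      have h := hg2 i i0
      have h00 := congrFun (congrFun h 0) 0
      have h11 := congrFun (congrFun h 1) 1
      simp [lin] at h00 h11
      rw [h00, h11]
    apply mem_of_dvd
    rcases trichotomy hF (((g i0 : Matrix.SpecialLinearGroup (Fin 3) F) :
        Matrix (Fin 3) (Fin 3) F) 0 0 +
        ((g i0 : Matrix.SpecialLinearGroup (Fin 3) F) : Matrix (Fin 3) (Fin 3) F) 1 1)
      with ht | ht | ht
    · left
      apply orderOf_dvd_of_pow_eq_one
      funext i
      rw [Pi.pow_apply, Pi.one_apply]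
      exact (pow_by_trace hF (g i) (closure_mem _ (hg1 i))).1 (by rw [htr i, ht])
    · right; left
      apply orderOf_dvd_of_pow_eq_one
      funext i
      rw [Pi.pow_apply, Pi.one_apply]
      exact (pow_by_trace hF (g i) (closure_mem _ (hg1 i))).2.1 (by rw [htr i, ht])
    · right; right
      apply orderOf_dvd_of_pow_eq_one
      funext i
      rw [Pi.pow_apply, Pi.one_apply]
      exact (pow_by_trace hF (g i) (closure_mem _ (hg1 i))).2.2 (by rw [htr i, ht])

theorem big_spectrum (hF : Fintype.card F = 4) (k : ℕ) (hk : 0 < k) :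
    Set.range (orderOf : bigGroup F k → ℕ) = ({1,2,3,4,5} : Set ℕ) := by
  apply Set.Subset.antisymm
  · rintro _ ⟨⟨g, hg⟩, rfl⟩
    rw [Subgroup.orderOf_mk]
    exact big_order_mem hF k g hg
  · intro n hn
    obtain ⟨M, hM, hord⟩ := exists_order hF n hn
    have hne : Nonempty (Fin k) := ⟨⟨0, hk⟩⟩
    have hmem : (fun _ => M : Fin k → Matrix.SpecialLinearGroup (Fin 3) F) ∈ bigGroup F k :=
      ⟨fun _ => Subgroup.subset_closure hM, fun _ _ => rfl⟩
    refine ⟨⟨fun _ => M, hmem⟩, ?_⟩
    rw [Subgroup.orderOf_mk, ← hord]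
    have hinj : Function.Injective
        (Pi.constMonoidHom (Fin k) (Matrix.SpecialLinearGroup (Fin 3) F)) := by
      intro a b hab
      exact congrFun hab ⟨0, hk⟩
    exact orderOf_injective (Pi.constMonoidHom (Fin k) (Matrix.SpecialLinearGroup (Fin 3) F)) hinj M

theorem big_card (k : ℕ) : k ≤ Nat.card (bigGroup F k) := by
  classical
  have hdet : (!![1,0,1;0,1,0;0,0,1] : Matrix (Fin 3) (Fin 3) F).det = 1 := by
    rw [Matrix.det_fin_three]; simp
  obtain ⟨T, hTdef⟩ : ∃ T : Matrix.SpecialLinearGroup (Fin 3) F, T = ⟨_, hdet⟩ := ⟨_, rfl⟩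
  have hT : T ∈ affSet F := by
    rw [hTdef]; exact ⟨by simp, by simp, by simp⟩
  have hTlin : lin T = 1 := by
    rw [hTdef]
    ext i j
    fin_cases i <;> fin_cases j <;> simp [lin]
  have hT1 : T ≠ 1 := by
    intro h
    rw [hTdef] at h
    have := congrArg (fun M : Matrix.SpecialLinearGroup (Fin 3) F =>
      (M : Matrix (Fin 3) (Fin 3) F) 0 2) h
    simp at this
  let f : Fin k → bigGroup F k := fun j =>
    ⟨Pi.mulSingle j T, by
      change _ ∧ _
      refine ⟨fun i => ?_, fun i i' => ?_⟩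
      · by_cases h : i = j
        · subst h
          rw [Pi.mulSingle_eq_same]
          exact Subgroup.subset_closure hT
        · rw [Pi.mulSingle_eq_of_ne h]
          exact Subgroup.one_mem _
      · have hlinT : lin T = 1 := hTlin
        have : ∀ i, lin ((Pi.mulSingle j T : Fin k → Matrix.SpecialLinearGroup (Fin 3) F) i) = 1 := by
          intro i
          by_cases h : i = j
          · subst h
            rw [Pi.mulSingle_eq_same, hlinT]
          · rw [Pi.mulSingle_eq_of_ne h, lin_one]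
        rw [this i, this i']⟩
  have hf : Function.Injective f := by
    intro j j' hjj
    have h1 := congrArg (fun g : bigGroup F k => (g : Fin k → Matrix.SpecialLinearGroup (Fin 3) F) j) hjj
    simp only [f, Pi.mulSingle_eq_same] at h1
    by_contra hne
    rw [Pi.mulSingle_eq_of_ne hne] at h1
    exact hT1 h1
  have := Nat.card_le_card_of_injective f hf
  simpa using this

end

/-- The alternating group of degree 6 is not determined by its set of element orders, not even up to finitely many groups: for every bound N there is a finite group of order greater than N with exactly the same set of element orders as the alternating group of degree 6. -/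
theorem result (N : ℕ) : ∃ (H : Type) (_ : Group H) (_ : Fintype H), N < Fintype.card H ∧ Set.range (orderOf : H → ℕ) = Set.range (orderOf : alternatingGroup (Fin 6) → ℕ) := by
  classical
  have : Fact (Nat.Prime 2) := ⟨Nat.prime_two⟩
  letI : Fintype (GaloisField 2 2) := Fintype.ofFinite _
  have hF : Fintype.card (GaloisField 2 2) = 4 := by
    rw [← Nat.card_eq_fintype_card, GaloisField.card 2 2 (by norm_num)]
    norm_num
  refine ⟨bigGroup (GaloisField 2 2) (N + 1), inferInstance, Fintype.ofFinite _, ?_, ?_⟩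
  · have := big_card (F := GaloisField 2 2) (N + 1)
    rw [Fintype.card_eq_nat_card]
    exact Nat.lt_of_succ_le this
  · rw [a6_spectrum]
    exact big_spectrum hF (N + 1) (Nat.succ_pos N)

end Cfsg.Agent.S3491
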