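import Cfsg.Statements.S3514
-- import your own Cfsg.Agent.* helpers here

set_option autoImplicit false
open Cfsg

namespace Cfsg.Agent.S3514

section grp
variable {G : Type*} [Group G]

/-- basic identity -/
theorem relIndex_swap (S K : Subgroup G) :
    S.relIndex K * K.index = K.relIndex S * S.index := by
  have h1 := Subgroup.relIndex_inf_mul_relIndex S K (⊤ : Subgroup G)
  have h2 := Subgroup.relIndex_inf_mul_relIndex K S (⊤ : Subgroup G)
  simp only [inf_top_eq, Subgroup.relIndex_top_right] at h1 h2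
  rw [h1, h2, inf_comm]

variable [Finite G]

theorem relIndex_dvd_index_of_normal' (S K : Subgroup G) [K.Normal] :
    S.relIndex K ∣ S.index := by
  have h := relIndex_swap S K
  obtain ⟨c, hc⟩ := Subgroup.relIndex_dvd_index_of_normal (H := K) (K := S)
  rw [hc] at h
  have h0 : K.relIndex S ≠ 0 := by
    rw [Subgroup.relIndex]; exact Subgroup.index_ne_zero_of_finite
  refine ⟨c, ?_⟩
  have : K.relIndex S * (S.relIndex K * c) = K.relIndex S * S.index := by
    rw [← h]; ring
  exact (Nat.eq_of_mul_eq_mul_left (Nat.pos_of_ne_zero h0) this).symm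

theorem index_dvd_card_of_sup_eq_top (N H : Subgroup G) [N.Normal] (h : N ⊔ H = ⊤) :
    H.index ∣ Nat.card N := by
  have h1 := relIndex_swap H N
  have h2 : N.relIndex H = N.index := by
    rw [← Subgroup.relIndex_sup_left H N, h, Subgroup.relIndex_top_right]
  rw [h2, mul_comm] at h1
  have h0 : N.index ≠ 0 := Subgroup.index_ne_zero_of_finite
  have h3 : H.relIndex N = H.index := Nat.eq_of_mul_eq_mul_left (Nat.pos_of_ne_zero h0) h1
  rw [← h3]
  exact Subgroup.relIndex_dvd_card H N

theorem relIndex_dvd_relIndex_of_normalizer (S K H : Subgroup G) (hKH : K ≤ H)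
    (hn : H ≤ Subgroup.normalizer (K : Set G)) : S.relIndex K ∣ S.relIndex H := by
  have : (K.subgroupOf H).Normal := Subgroup.normal_subgroupOf_of_le_normalizer hn
  have := relIndex_dvd_index_of_normal' (S.subgroupOf H) (K.subgroupOf H)
  rwa [Subgroup.relIndex_subgroupOf hKH] at this

theorem relIndex_sup_dvd (S N H : Subgroup G)
    (hn : H ≤ Subgroup.normalizer (N : Set G)) :
    S.relIndex (N ⊔ H) ∣ S.relIndex H * Nat.card N := by
  have hHL : H ≤ N ⊔ H := le_sup_right
  have hNL : N ≤ N ⊔ H := le_sup_left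
  have h1 : S.relIndex (N ⊔ H) ∣ (S ⊓ H).relIndex (N ⊔ H) :=
    Subgroup.relIndex_dvd_of_le_left (N ⊔ H) inf_le_left
  have h2 := Subgroup.relIndex_inf_mul_relIndex S H (N ⊔ H)
  rw [inf_of_le_left hHL] at h2
  have hnorm : N ⊔ H ≤ Subgroup.normalizer (N : Set G) := sup_le Subgroup.le_normalizer hn
  have : (N.subgroupOf (N ⊔ H)).Normal := Subgroup.normal_subgroupOf_of_le_normalizer hnorm
  have h3 : (H.subgroupOf (N ⊔ H)).index ∣ Nat.card (N.subgroupOf (N ⊔ H)) := by
    apply index_dvd_card_of_sup_eq_top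
    rw [← Subgroup.subgroupOf_sup hNL hHL]
    exact Subgroup.subgroupOf_self _
  have h4 : Nat.card (N.subgroupOf (N ⊔ H)) = Nat.card N :=
    Nat.card_congr (Subgroup.subgroupOfEquivOfLe hNL).toEquiv
  rw [h4] at h3
  rw [← h2] at h1
  exact dvd_trans h1 (Nat.mul_dvd_mul_left _ h3)

end grp

section act
variable {G : Type*} [Group G] {X : Type*} [MulAction G X]

theorem card_orbit_set (H : Subgroup G) (v : X) :
    Nat.card {u : X | ∃ h ∈ H, h • v = u} = (MulAction.stabilizer G v).relIndex H := by
  have h1 : {u : X | ∃ h ∈ H, h • v = u} = MulAction.orbit H v := by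
    ext u
    simp only [Set.mem_ofPred_eq, MulAction.mem_orbit_iff]
    constructor
    · rintro ⟨h, hh, rfl⟩
      exact ⟨⟨h, hh⟩, rfl⟩
    · rintro ⟨⟨h, hh⟩, rfl⟩
      exact ⟨h, hh, rfl⟩
  rw [h1]
  have h2 : MulAction.stabilizer H v = (MulAction.stabilizer G v).subgroupOf H := by
    ext x
    simp [Subgroup.mem_subgroupOf, MulAction.mem_stabilizer_iff, Subgroup.smul_def]
  rw [Subgroup.relIndex, ← h2, MulAction.index_stabilizer, Nat.card_coe_set_eq]

end act

/-- Let p be a prime, V a finite vector space over the field with p elements, and H a group of linear transformations of V all of whose orbits on V have size coprime to p. (i) Every normal subgroup K of H has all its orbits on V of size coprime to p. (ii) If N is a group of linear transformations of V of order coprime to p that is normalized by H, then the group generated by N and H has all its orbits on V of size coprime to p. -/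
theorem result (p : ℕ) [Fact p.Prime] {V : Type*} [AddCommGroup V] [Module (ZMod p) V] [Finite V]
    (H : Subgroup (V ≃ₗ[ZMod p] V)) (hH : ∀ v : V, ¬ p ∣ Nat.card {u : V | ∃ h ∈ H, h v = u}) :
    (∀ K : Subgroup (V ≃ₗ[ZMod p] V), K ≤ H → H ≤ Subgroup.normalizer (K : Set (V ≃ₗ[ZMod p] V)) →
        ∀ v : V, ¬ p ∣ Nat.card {u : V | ∃ k ∈ K, k v = u}) ∧
    (∀ N : Subgroup (V ≃ₗ[ZMod p] V), ¬ p ∣ Nat.card N → H ≤ Subgroup.normalizer (N : Set (V ≃ₗ[ZMod p] V)) →
        ∀ v : V, ¬ p ∣ Nat.card {u : V | ∃ x ∈ N ⊔ H, x v = u}) := by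
  have : Finite (V ≃ₗ[ZMod p] V) := Finite.of_injective (fun f => (f : V → V)) DFunLike.coe_injective
  have hp : p.Prime := Fact.out
  have key : ∀ (L : Subgroup (V ≃ₗ[ZMod p] V)) (v : V),
      Nat.card {u : V | ∃ x ∈ L, x v = u} = (MulAction.stabilizer (V ≃ₗ[ZMod p] V) v).relIndex L := by
    intro L v
    exact card_orbit_set L v
  constructor
  · intro K hKH hn v
    rw [key]
    have h := hH v
    rw [key] at h
    intro hdiv
    exact h (dvd_trans hdiv (relIndex_dvd_relIndex_of_normalizer _ K H hKH hn))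
  · intro N hN hn v
    rw [key]
    have h := hH v
    rw [key] at h
    intro hdiv
    have := dvd_trans hdiv (relIndex_sup_dvd (MulAction.stabilizer (V ≃ₗ[ZMod p] V) v) N H hn)
    rcases (Nat.Prime.dvd_mul hp).mp this with h' | h'
    · exact h h'
    · exact hN h'

end Cfsg.Agent.S3514
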