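import Cfsg.Statements.S3494
import Cfsg.Agent.S3514

set_option autoImplicit false
open Cfsg

namespace Cfsg.Agent.S3494

open MulAction

section basics
variable {G : Type*} [Group G] {Ω : Type*} [MulAction G Ω]

/-- the suborbit of `β` under the stabilizer of `α` -/
def Out (G : Type*) [Group G] {Ω : Type*} [MulAction G Ω] (α β : Ω) : Set Ω :=
  {u | ∃ h ∈ stabilizer G α, h • β = u}

theorem out_eq_orbit (α β : Ω) : Out G α β = orbit (stabilizer G α) β := by
  ext u
  constructor
  · rintro ⟨h, hh, rfl⟩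
    exact ⟨⟨h, hh⟩, rfl⟩
  · rintro ⟨⟨h, hh⟩, rfl⟩
    exact ⟨h, hh, rfl⟩

theorem self_mem_out (α β : Ω) : β ∈ Out G α β := ⟨1, one_mem _, one_smul _ _⟩

theorem smul_mem_out {α β u : Ω} (g : G) (hu : u ∈ Out G α β) :
    g • u ∈ Out G (g • α) (g • β) := by
  obtain ⟨h, hh, rfl⟩ := hu
  refine ⟨g * h * g⁻¹, ?_, ?_⟩
  · rw [mem_stabilizer_iff] at hh ⊢
    rw [mul_smul, mul_smul, inv_smul_smul, hh]
  · rw [mul_smul, mul_smul, inv_smul_smul]

theorem stab_smul_mem_out {α β u : Ω} {g : G} (hg : g ∈ stabilizer G α) (hu : u ∈ Out G α β) :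
    g • u ∈ Out G α β := by
  obtain ⟨h, hh, rfl⟩ := hu
  exact ⟨g * h, mul_mem hg hh, mul_smul _ _ _⟩

theorem stab_smul_mem_out_iff {α β u : Ω} {g : G} (hg : g ∈ stabilizer G α) :
    u ∈ Out G α β ↔ g • u ∈ Out G α β := by
  constructor
  · exact stab_smul_mem_out hg
  · intro h
    have := stab_smul_mem_out (inv_mem hg) h
    rwa [inv_smul_smul] at this

theorem out_eq_of_mem {α β β' : Ω} (h : β' ∈ Out G α β) : Out G α β' = Out G α β := by
  obtain ⟨h0, hh0, rfl⟩ := h
  ext u
  constructor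
  · rintro ⟨h, hh, rfl⟩
    exact ⟨h * h0, mul_mem hh hh0, mul_smul _ _ _⟩
  · rintro ⟨h, hh, rfl⟩
    exact ⟨h * h0⁻¹, mul_mem hh (inv_mem hh0), by rw [mul_smul, inv_smul_smul]⟩

/-- the kernel of the stabilizer of `α` on the suborbit of `β` -/
def Ker (G : Type*) [Group G] {Ω : Type*} [MulAction G Ω] (α β : Ω) : Subgroup G where
  carrier := {g | g • α = α ∧ ∀ x ∈ Out G α β, g • x = x}
  mul_mem' := by
    rintro a b ⟨ha1, ha2⟩ ⟨hb1, hb2⟩
    exact ⟨by rw [mul_smul, hb1, ha1], fun x hx => by rw [mul_smul, hb2 x hx, ha2 x hx]⟩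
  one_mem' := ⟨one_smul _ _, fun x _ => one_smul _ _⟩
  inv_mem' := by
    rintro a ⟨ha1, ha2⟩
    exact ⟨by rw [inv_smul_eq_iff, ha1], fun x hx => by rw [inv_smul_eq_iff, ha2 x hx]⟩

theorem mem_ker_iff {α β : Ω} {g : G} :
    g ∈ Ker G α β ↔ g • α = α ∧ ∀ x ∈ Out G α β, g • x = x := Iff.rfl

theorem ker_congr {α β β' : Ω} (h : Out G α β' = Out G α β) : Ker G α β' = Ker G α β := by
  ext g
  rw [mem_ker_iff, mem_ker_iff, h]

theorem conj_mem_ker {α β : Ω} (g : G) {k : G} (hk : k ∈ Ker G α β) :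
    g * k * g⁻¹ ∈ Ker G (g • α) (g • β) := by
  obtain ⟨hk1, hk2⟩ := hk
  refine ⟨by rw [mul_smul, mul_smul, inv_smul_smul, hk1], fun x hx => ?_⟩
  have := smul_mem_out g⁻¹ hx
  rw [inv_smul_smul, inv_smul_smul] at this
  rw [mul_smul, mul_smul, hk2 _ this, smul_inv_smul]

theorem ker_eq_bot_of_normal [FaithfulSMul G Ω] [IsPretransitive G Ω] (α β : Ω)
    (hN : ∀ g : G, g ∈ Subgroup.normalizer (Ker G α β : Set G)) : Ker G α β = ⊥ := by
  rw [eq_bot_iff]
  intro k hk
  rw [Subgroup.mem_bot]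
  apply FaithfulSMul.eq_of_smul_eq_smul (α := Ω)
  intro ω
  obtain ⟨g, rfl⟩ := exists_smul_eq G α ω
  have h1 := (Subgroup.mem_normalizer_iff''.mp (hN g) k).mp hk
  have h2 := h1.1
  rw [mul_smul, mul_smul, inv_smul_eq_iff] at h2
  rw [h2, one_smul]

theorem stab_le_normalizer [Finite G] (α β : Ω) :
    stabilizer G α ≤ Subgroup.normalizer (Ker G α β : Set G) := by
  intro h hh
  apply Subgroup.mem_normalizer_fintype
  intro n hn
  have h1 := conj_mem_ker h hn
  rw [mem_stabilizer_iff.mp hh] at h1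
  have h2 : Out G α (h • β) = Out G α β := out_eq_of_mem ⟨h, hh, rfl⟩
  rw [ker_congr h2] at h1
  exact h1

theorem card_out_smul (g : G) (α β : Ω) :
    Nat.card (Out G (g • α) (g • β)) = Nat.card (Out G α β) := by
  symm
  apply Nat.card_congr
  refine Equiv.subtypeEquiv (MulAction.toPerm g) ?_
  intro u
  constructor
  · exact smul_mem_out g
  · intro h
    have := smul_mem_out g⁻¹ h
    simpa using this

/-- paired suborbits have the same size -/
theorem card_out_swap [Finite G] [Finite Ω] [IsPretransitive G Ω] (β γ : Ω) :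
    Nat.card (Out G γ β) = Nat.card (Out G β γ) := by
  have h1 : Nat.card (Out G γ β) = (stabilizer G β).relIndex (stabilizer G γ) :=
    Cfsg.Agent.S3514.card_orbit_set (stabilizer G γ) β
  have h2 : Nat.card (Out G β γ) = (stabilizer G γ).relIndex (stabilizer G β) :=
    Cfsg.Agent.S3514.card_orbit_set (stabilizer G β) γ
  rw [h1, h2]
  have h3 := Cfsg.Agent.S3514.relIndex_swap (stabilizer G β) (stabilizer G γ)
  rw [index_stabilizer_of_transitive, index_stabilizer_of_transitive] at h3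
  have hpos : 0 < Nat.card Ω := by
    have : Nonempty Ω := ⟨β⟩
    exact Nat.card_pos
  exact Nat.eq_of_mul_eq_mul_right hpos h3

theorem card_stabilizer_eq [Finite G] [Finite Ω] [IsPretransitive G Ω] (α γ : Ω) :
    Nat.card (stabilizer G α) = Nat.card (stabilizer G γ) := by
  have h1 := Subgroup.card_mul_index (stabilizer G α)
  have h2 := Subgroup.card_mul_index (stabilizer G γ)
  rw [index_stabilizer_of_transitive] at h1 h2
  have hpos : 0 < Nat.card Ω := by
    have : Nonempty Ω := ⟨α⟩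
    exact Nat.card_pos
  exact Nat.eq_of_mul_eq_mul_right hpos (h1.trans h2.symm)

end basics

section main
variable {G : Type*} [Group G] [Finite G] {Ω : Type*} [Fintype Ω] [MulAction G Ω] [FaithfulSMul G Ω]

theorem manning (hprim : MulAction.IsPreprimitive G Ω)
    (hep : ∀ (α : Ω) (ω : Ω), MulAction.IsPreprimitive (MulAction.stabilizer G α)
      (MulAction.orbit (MulAction.stabilizer G α) ω))
    (α β : Ω) (hne : β ≠ α) : Ker G α β = ⊥ := by
  by_contra hK
  have : Nontrivial Ω := ⟨⟨β, α, hne⟩⟩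
  have hpt : IsPretransitive G Ω := hprim.toIsPretransitive
  have hcoatom : IsCoatom (stabilizer G α) :=
    IsPreprimitive.isCoatom_stabilizer_of_isPreprimitive G α
  have hHN : stabilizer G α ≤ Subgroup.normalizer (Ker G α β : Set G) := stab_le_normalizer α β
  obtain ⟨y, hy⟩ := exists_smul_eq G α β
  -- Step 1
  have step1 : ¬ (Ker G α β ≤ Ker G β (y • β)) := by
    intro hle
    apply hK
    apply ker_eq_bot_of_normal
    have hyN : y⁻¹ ∈ Subgroup.normalizer (Ker G α β : Set G) := by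
      apply Subgroup.mem_normalizer_fintype
      intro n hn
      have h1 := conj_mem_ker y⁻¹ (hle hn)
      rw [inv_smul_smul] at h1
      have h2 : y⁻¹ • β = α := by rw [inv_smul_eq_iff, hy]
      rw [h2] at h1
      exact h1
    have hyH : y⁻¹ ∉ stabilizer G α := by
      intro h
      rw [mem_stabilizer_iff, inv_smul_eq_iff, hy] at h
      exact hne h.symm
    have hlt : stabilizer G α < Subgroup.normalizer (Ker G α β : Set G) :=
      lt_of_le_of_ne hHN (fun h => hyH (h ▸ hyN))
    have htop := hcoatom.2 _ hlt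
    intro g
    rw [htop]
    trivial
  -- Step 2
  obtain ⟨k, hkK, hkn⟩ := SetLike.not_le_iff_exists.mp step1
  have hkβ : k • β = β := hkK.2 β (self_mem_out α β)
  have hex : ∃ γ ∈ Out G β (y • β), k • γ ≠ γ := by
    by_contra hcon
    push Not at hcon
    exact hkn ⟨hkβ, hcon⟩
  obtain ⟨γ, hγ, hkγ⟩ := hex
  have hkH : k ∈ stabilizer G α := hkK.1
  have hnorm : ((Ker G α β).subgroupOf (stabilizer G α)).Normal :=
    Subgroup.normal_subgroupOf_of_le_normalizer hHN
  have hqp := hep α γ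
  have htrans : IsPretransitive ((Ker G α β).subgroupOf (stabilizer G α))
      (orbit (stabilizer G α) γ) := by
    apply IsQuasiPreprimitive.isPretransitive_of_normal
    intro hfp
    have hmem : (⟨γ, mem_orbit_self γ⟩ : orbit (stabilizer G α) γ) ∈
        fixedPoints ((Ker G α β).subgroupOf (stabilizer G α)) (orbit (stabilizer G α) γ) := by
      rw [hfp]; trivial
    have hfix := hmem ⟨⟨k, hkH⟩, hkK⟩
    apply hkγ
    exact congrArg Subtype.val hfix
  have hSig : ∀ σ ∈ Out G α γ, σ ∈ Out G β (y • β) := by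
    intro σ hσ
    rw [out_eq_orbit] at hσ
    obtain ⟨⟨⟨k', hk'H⟩, hk'K⟩, hk'⟩ :=
      htrans.exists_smul_eq ⟨γ, mem_orbit_self γ⟩ ⟨σ, hσ⟩
    have hk'γ : k' • γ = σ := congrArg Subtype.val hk'
    rw [← hk'γ]
    have hk'K' : k' ∈ Ker G α β := hk'K
    exact stab_smul_mem_out (hk'K'.2 β (self_mem_out α β)) hγ
  -- Step 3
  have hsub : Out G α β ⊆ Out G γ β := by
    rintro _ ⟨h, hh, rfl⟩
    have h1 : h⁻¹ • γ ∈ Out G α γ := ⟨h⁻¹, inv_mem hh, rfl⟩
    have h2 := hSig _ h1
    rw [← out_eq_of_mem hγ] at h2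
    obtain ⟨b, hb, hbγ⟩ := h2
    refine ⟨h * b, ?_, ?_⟩
    · rw [mem_stabilizer_iff, mul_smul, hbγ, smul_inv_smul]
    · rw [mul_smul, mem_stabilizer_iff.mp hb]
  have hcard : Nat.card (Out G γ β) = Nat.card (Out G α β) := by
    rw [card_out_swap β γ, out_eq_of_mem hγ, ← hy, card_out_smul]
  have heq : Out G α β = Out G γ β := by
    apply Set.eq_of_subset_of_ncard_le hsub _ (Set.toFinite _)
    rw [← Nat.card_coe_set_eq, ← Nat.card_coe_set_eq, hcard]
  -- Step 4
  let T : Subgroup G :=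
    { carrier := {g | ∀ u, u ∈ Out G α β ↔ g • u ∈ Out G α β}
      mul_mem' := by
        intro a b ha hb u
        rw [mul_smul, ← ha, ← hb]
      one_mem' := by
        intro u
        rw [one_smul]
      inv_mem' := by
        intro a ha u
        rw [ha (a⁻¹ • u), smul_inv_smul] }
  have hHT : stabilizer G α ≤ T := by
    intro h hh u
    exact stab_smul_mem_out_iff hh
  have hγT : stabilizer G γ ≤ T := by
    intro h hh u
    change u ∈ Out G α β ↔ h • u ∈ Out G α β
    rw [heq]
    exact stab_smul_mem_out_iff hh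
  have hγH : ¬ (stabilizer G γ ≤ stabilizer G α) := by
    intro hle
    have heq' := Subgroup.eq_of_le_of_card_ge hle (le_of_eq (card_stabilizer_eq α γ))
    have : k ∈ stabilizer G γ := by rw [heq']; exact hkH
    exact hkγ (mem_stabilizer_iff.mp this)
  obtain ⟨z, hzγ, hzα⟩ := SetLike.not_le_iff_exists.mp hγH
  have hlt : stabilizer G α < T := lt_of_le_of_ne hHT (fun h => hzα (h ▸ hγT hzγ))
  have hT : T = ⊤ := hcoatom.2 _ hlt
  obtain ⟨x, hx⟩ := exists_smul_eq G β α
  have hxT : x ∈ T := by rw [hT]; trivial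
  have hα : α ∈ Out G α β := by
    have := (hxT β).mp (self_mem_out α β)
    rwa [hx] at this
  obtain ⟨h, hh, hhβ⟩ := hα
  apply hne
  have : h⁻¹ • α = β := by rw [inv_smul_eq_iff, hhβ]
  rw [← this, inv_smul_eq_iff, mem_stabilizer_iff.mp hh]

end main

/-- Manning's Theorem on extremely primitive groups. Let a finite group G act faithfully and primitively on a finite set Ω with non-trivial point stabilizers, and suppose every point stabilizer G_α acts primitively on each of its orbits. Then G_α acts faithfully on each of its orbits other than {α}: an element of G_α fixing every point of one such orbit is the identity. -/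
theorem result {G : Type*} [Group G] [Finite G] {Ω : Type*} [Fintype Ω] [MulAction G Ω] [FaithfulSMul G Ω] (hprim : MulAction.IsPreprimitive G Ω) (hH : ∀ α : Ω, MulAction.stabilizer G α ≠ ⊥) (hep : ∀ (α : Ω) (ω : Ω), MulAction.IsPreprimitive (MulAction.stabilizer G α) (MulAction.orbit (MulAction.stabilizer G α) ω))
    (α ω : Ω) (hω : ω ≠ α) (h : MulAction.stabilizer G α) (hfix : ∀ x ∈ MulAction.orbit (MulAction.stabilizer G α) ω, h • x = x) : h = 1 := by
  have hK := manning hprim hep α ω hω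
  have hmem : (h : G) ∈ Ker G α ω := by
    refine ⟨h.2, fun x hx => ?_⟩
    rw [out_eq_orbit] at hx
    exact hfix x hx
  rw [hK, Subgroup.mem_bot] at hmem
  exact Subtype.ext hmem

end Cfsg.Agent.S3494
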