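import Cfsg.Statements.S3495
import Cfsg.Agent.S3494

set_option autoImplicit false
open Cfsg

namespace Cfsg.Agent.S3495

open MulAction Cfsg.Agent.S3494

section
variable {G : Type*} [Group G] [Finite G] {Ω : Type*} [Fintype Ω] [MulAction G Ω] [FaithfulSMul G Ω]

/-- a nontrivial normal subgroup of a point stabilizer has the same orbits as the stabilizer -/
theorem orbit_eq (hprim : MulAction.IsPreprimitive G Ω)
    (hep : ∀ (α : Ω) (ω : Ω), MulAction.IsPreprimitive (MulAction.stabilizer G α)
      (MulAction.orbit (MulAction.stabilizer G α) ω))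
    (α : Ω) (M : Subgroup G) (hM : M ≠ ⊥) (hMle : M ≤ MulAction.stabilizer G α)
    (hMn : MulAction.stabilizer G α ≤ Subgroup.normalizer (M : Set G)) (ω : Ω) :
    MulAction.orbit M ω = MulAction.orbit (MulAction.stabilizer G α) ω := by
  apply Set.Subset.antisymm
  · rintro _ ⟨⟨m, hm⟩, rfl⟩
    exact ⟨⟨m, hMle hm⟩, rfl⟩
  · rintro _ ⟨⟨h, hh⟩, rfl⟩
    by_cases hω : ω = α
    · subst hω
      refine ⟨1, ?_⟩
      change (1 : G) • ω = h • ω
      rw [one_smul, mem_stabilizer_iff.mp hh]
    · have hnorm : (M.subgroupOf (stabilizer G α)).Normal :=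
        Subgroup.normal_subgroupOf_of_le_normalizer hMn
      have hqp := hep α ω
      have htrans : IsPretransitive (M.subgroupOf (stabilizer G α))
          (orbit (stabilizer G α) ω) := by
        apply IsQuasiPreprimitive.isPretransitive_of_normal
        intro hfp
        apply hM
        rw [eq_bot_iff]
        intro m hm
        have hK := manning hprim hep α ω hω
        rw [← hK]
        refine ⟨hMle hm, fun x hx => ?_⟩
        rw [out_eq_orbit] at hx
        have hmem : (⟨x, hx⟩ : orbit (stabilizer G α) ω) ∈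
            fixedPoints (M.subgroupOf (stabilizer G α)) (orbit (stabilizer G α) ω) := by
          rw [hfp]; trivial
        have hfix := hmem ⟨⟨m, hMle hm⟩, hm⟩
        exact congrArg Subtype.val hfix
      obtain ⟨⟨⟨m, hmH⟩, hmM⟩, hm⟩ :=
        htrans.exists_smul_eq ⟨ω, mem_orbit_self ω⟩ ⟨h • ω, ⟨⟨h, hh⟩, rfl⟩⟩
      have hmω : m • ω = h • ω := congrArg Subtype.val hm
      have hmM' : m ∈ M := hmM
      exact ⟨⟨m, hmM'⟩, hmω⟩

end

/-- Let a finite group G act faithfully and primitively on a finite set Ω with non-trivial point stabilizers, each acting primitively on every one of its orbits (an extremely primitive group), and suppose G has an elementary abelian normal p-subgroup N acting regularly on Ω (affine type). Then every non-trivial subgroup M of a point stabilizer G_α that is normal in G_α has the same orbits on Ω as G_α, and normalizes no subgroup of N other than 1 and N. -/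
theorem result {G : Type*} [Group G] [Finite G] {Ω : Type*} [Fintype Ω] [MulAction G Ω] [FaithfulSMul G Ω] (hprim : MulAction.IsPreprimitive G Ω) (hH : ∀ α : Ω, MulAction.stabilizer G α ≠ ⊥) (hep : ∀ (α : Ω) (ω : Ω), MulAction.IsPreprimitive (MulAction.stabilizer G α) (MulAction.orbit (MulAction.stabilizer G α) ω))
    (N : Subgroup G) [N.Normal] (hNc : IsMulCommutative N) (p : ℕ) (hp : p.Prime) (hNp : ∀ n ∈ N, n ^ p = 1)
    (hNtr : MulAction.IsPretransitive N Ω) (hNreg : ∀ ω : Ω, MulAction.stabilizer N ω = ⊥) (α : Ω) (M : Subgroup G) (hM : M ≠ ⊥) (hMle : M ≤ MulAction.stabilizer G α)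
    (hMn : MulAction.stabilizer G α ≤ Subgroup.normalizer (M : Set G)) :
    (∀ ω : Ω, MulAction.orbit M ω = MulAction.orbit (MulAction.stabilizer G α) ω) ∧
    (∀ L : Subgroup G, L ≤ N → M ≤ Subgroup.normalizer (L : Set G) → L = ⊥ ∨ L = N) := by
  have horb := orbit_eq hprim hep α M hM hMle hMn
  refine ⟨horb, ?_⟩
  intro L hLN hML
  by_cases hL : L = ⊥
  · exact Or.inl hL
  right
  -- nontriviality of Ω
  obtain ⟨m, hmM, hm1⟩ : ∃ m ∈ M, m ≠ 1 := by
    by_contra hcon
    push Not at hcon
    apply hM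
    rw [eq_bot_iff]
    intro m hm
    exact hcon m hm
  have hnt : Nontrivial Ω := by
    by_contra hnt
    rw [not_nontrivial_iff_subsingleton] at hnt
    apply hm1
    apply FaithfulSMul.eq_of_smul_eq_smul (α := Ω)
    intro ω
    exact Subsingleton.elim _ _
  have hpt : IsPretransitive G Ω := hprim.toIsPretransitive
  have hcoatom : IsCoatom (stabilizer G α) :=
    IsPreprimitive.isCoatom_stabilizer_of_isPreprimitive G α
  -- regularity
  have hreg : ∀ n ∈ N, ∀ ω : Ω, n • ω = ω → n = 1 := by
    intro n hn ω hfix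
    have : (⟨n, hn⟩ : N) ∈ stabilizer N ω := hfix
    rw [hNreg ω, Subgroup.mem_bot] at this
    exact congrArg Subtype.val this
  -- the set Γ = L • α and its setwise stabilizer
  let T : Subgroup G :=
    { carrier := {g | ∀ u, (∃ l ∈ L, l • α = u) ↔ (∃ l ∈ L, l • α = g • u)}
      mul_mem' := by
        intro a b ha hb u
        rw [mul_smul, ← ha, ← hb]
      one_mem' := by
        intro u
        rw [one_smul]
      inv_mem' := by
        intro a ha u
        rw [ha (a⁻¹ • u), smul_inv_smul] }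
  have hLT : L ≤ T := by
    intro l hl u
    constructor
    · rintro ⟨l', hl', rfl⟩
      exact ⟨l * l', mul_mem hl hl', mul_smul _ _ _⟩
    · rintro ⟨l', hl', h⟩
      refine ⟨l⁻¹ * l', mul_mem (inv_mem hl) hl', ?_⟩
      rw [mul_smul, h, inv_smul_smul]
  have hfwd : ∀ h ∈ stabilizer G α, ∀ u, (∃ l ∈ L, l • α = u) → (∃ l ∈ L, l • α = h • u) := by
    rintro h hh _ ⟨l, hl, rfl⟩
    have h1 : h • l • α ∈ orbit (stabilizer G α) (l • α) := ⟨⟨h, hh⟩, rfl⟩
    rw [← horb] at h1
    obtain ⟨⟨m, hm⟩, hm'⟩ := h1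
    have hm'' : m • l • α = h • l • α := hm'
    rw [← hm'']
    refine ⟨m * l * m⁻¹, ?_, ?_⟩
    · exact (Subgroup.mem_normalizer_iff.mp (hML hm) l).mp hl
    · rw [mul_smul, mul_smul, inv_smul_eq_iff.mpr (mem_stabilizer_iff.mp (hMle hm)).symm]
  have hHT : stabilizer G α ≤ T := by
    intro h hh u
    constructor
    · exact hfwd h hh u
    · intro hu
      have := hfwd h⁻¹ (inv_mem hh) (h • u) hu
      rwa [inv_smul_smul] at this
  obtain ⟨l0, hl0, hl01⟩ : ∃ l ∈ L, l ≠ 1 := by
    by_contra hcon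
    push Not at hcon
    apply hL
    rw [eq_bot_iff]
    intro l hl
    exact hcon l hl
  have hl0H : l0 ∉ stabilizer G α := by
    intro h
    exact hl01 (hreg l0 (hLN hl0) α (mem_stabilizer_iff.mp h))
  have hlt : stabilizer G α < T := lt_of_le_of_ne hHT (fun h => hl0H (h ▸ hLT hl0))
  have hT : T = ⊤ := hcoatom.2 _ hlt
  apply le_antisymm hLN
  intro n hn
  obtain ⟨x, hx⟩ := exists_smul_eq G α (n • α)
  have hxT : x ∈ T := by rw [hT]; trivial
  obtain ⟨l, hl, hlα⟩ := (hxT α).mp ⟨1, one_mem _, one_smul _ _⟩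
  rw [hx] at hlα
  have h1 : (l⁻¹ * n) • α = α := by
    rw [mul_smul, ← hlα, inv_smul_smul]
  have h2 := hreg (l⁻¹ * n) (mul_mem (inv_mem (hLN hl)) hn) α h1
  have h3 : n = l := by
    rw [inv_mul_eq_one] at h2
    exact h2.symm
  rw [h3]
  exact hl

end Cfsg.Agent.S3495
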