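import Cfsg.Statements.S3497
import Cfsg.Agent.S3494
import Cfsg.Agent.Lib.Helper58.PrimitiveNormal

set_option autoImplicit false
open Cfsg

namespace Cfsg.Agent.S3497


open MulAction Cfsg.Agent.Lib.Helper58

/-- in a transitive action, if one point stabilizer is nontrivial then all are -/
theorem stab_ne_bot {G : Type*} [Group G] {Ω : Type*} [MulAction G Ω] [IsPretransitive G Ω]
    (α : Ω) (h : stabilizer G α ≠ ⊥) (β : Ω) : stabilizer G β ≠ ⊥ := by
  obtain ⟨g, rfl⟩ := exists_smul_eq G α β
  rw [stabilizer_smul_eq_stabilizer_map_conj]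
  intro hb
  apply h
  exact (Subgroup.map_eq_bot_iff_of_injective _ (MulEquiv.injective _)).mp hb

/-- Manning: the stabilizer acts faithfully on each nontrivial orbit -/
theorem faithful_orbit {G : Type*} [Group G] [Finite G] {Ω : Type*} [Fintype Ω] [MulAction G Ω]
    [FaithfulSMul G Ω] (hprim : MulAction.IsPreprimitive G Ω)
    (hH : ∀ α : Ω, MulAction.stabilizer G α ≠ ⊥)
    (hep : ∀ (α : Ω) (ω : Ω), MulAction.IsPreprimitive (MulAction.stabilizer G α)
      (MulAction.orbit (MulAction.stabilizer G α) ω)) (α ω : Ω) (hω : ω ≠ α) :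
    FaithfulSMul (stabilizer G α) (orbit (stabilizer G α) ω) := by
  constructor
  intro h₁ h₂ heq
  have h1 : h₂⁻¹ * h₁ = 1 := Cfsg.Agent.S3494.result hprim hH hep α ω hω (h₂⁻¹ * h₁) (by
    intro x hx
    have h2 := heq ⟨x, hx⟩
    have h' : h₁ • x = h₂ • x := congrArg Subtype.val h2
    rw [mul_smul, h', inv_smul_smul])
  exact (inv_mul_eq_one.mp h1).symm

/-- a finite group fixing a point and acting freely elsewhere has order dividing the number of
remaining points -/
theorem card_dvd_card_sub_one {A : Type*} [Group A] [Finite A] {Ω : Type*} [Fintype Ω]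
    [MulAction A Ω] (α : Ω) (hα : ∀ a : A, a • α = α)
    (hfree : ∀ (a : A) (ω : Ω), ω ≠ α → a • ω = ω → a = 1) :
    Nat.card A ∣ Fintype.card Ω - 1 := by
  classical
  haveI : Fintype A := Fintype.ofFinite A
  have hB := MulAction.sum_card_fixedBy_eq_card_orbits_mul_card_group A Ω
  have h1 : ∀ a : A, a ≠ 1 → Fintype.card (fixedBy Ω a) = 1 := by
    intro a ha
    rw [Fintype.card_eq_one_iff]
    refine ⟨⟨α, hα a⟩, ?_⟩
    rintro ⟨ω, hω⟩
    apply Subtype.ext
    by_contra hne
    exact ha (hfree a ω hne hω)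
  have h2 : Fintype.card (fixedBy Ω (1 : A)) = Fintype.card Ω :=
    Fintype.card_congr (Equiv.subtypeUnivEquiv (fun ω => one_smul A ω))
  rw [← Finset.add_sum_erase Finset.univ _ (Finset.mem_univ (1 : A)), h2,
    Finset.sum_congr rfl (fun a ha => h1 a (Finset.ne_of_mem_erase ha)),
    Finset.sum_const, smul_eq_mul, mul_one, Finset.card_erase_of_mem (Finset.mem_univ _),
    Finset.card_univ] at hB
  rw [Nat.card_eq_fintype_card]
  have hA : 0 < Fintype.card A := Fintype.card_pos
  have hΩ : 0 < Fintype.card Ω := Fintype.card_pos_iff.mpr ⟨α⟩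
  have h3 : Fintype.card A ∣ (Fintype.card Ω - 1) + Fintype.card A :=
    ⟨_, by rw [mul_comm, ← hB]; omega⟩
  exact (Nat.dvd_add_left (dvd_refl _)).mp h3

/-- Restrictions on the point stabilizer of an extremely primitive group. Let a finite group G act faithfully and primitively on a finite set Ω with point stabilizers H = G_α whose order is neither 1 nor a prime, each acting primitively on every one of its orbits. Then H has trivial center, the Fitting subgroup F(H) is an elementary abelian p-group for some prime p, and if F(H) ≠ 1 has order p ^ e then p ^ e divides the number of points minus one and H / F(H) embeds in GL_e(p) (there is a homomorphism from H to GL_e(p) with kernel exactly F(H)). -/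
theorem result {G : Type*} [Group G] [Finite G] {Ω : Type*} [Fintype Ω] [MulAction G Ω] [FaithfulSMul G Ω] (hprim : MulAction.IsPreprimitive G Ω) (hep : ∀ (α : Ω) (ω : Ω), MulAction.IsPreprimitive (MulAction.stabilizer G α) (MulAction.orbit (MulAction.stabilizer G α) ω)) (α : Ω)
    (hH1 : MulAction.stabilizer G α ≠ ⊥) (hHp : ¬ (Nat.card (MulAction.stabilizer G α)).Prime) :
    Subgroup.center (MulAction.stabilizer G α) = ⊥ ∧
    IsMulCommutative (Cfsg.fittingSubgroup (MulAction.stabilizer G α)) ∧
    ∃ p e : ℕ, p.Prime ∧ Nat.card (Cfsg.fittingSubgroup (MulAction.stabilizer G α)) = p ^ e ∧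
      (∀ x ∈ Cfsg.fittingSubgroup (MulAction.stabilizer G α), x ^ p = 1) ∧
      (Cfsg.fittingSubgroup (MulAction.stabilizer G α) ≠ ⊥ →
        p ^ e ∣ Fintype.card Ω - 1 ∧
        ∃ φ : MulAction.stabilizer G α →* GL (Fin e) (ZMod p), φ.ker = Cfsg.fittingSubgroup (MulAction.stabilizer G α)) := by
  classical
  haveI : IsPretransitive G Ω := hprim.toIsPretransitive
  have hH : ∀ β, stabilizer G β ≠ ⊥ := stab_ne_bot α hH1
  obtain ⟨h0, hh0⟩ := (Subgroup.ne_bot_iff_exists_ne_one).mp hH1
  have hex : ∃ ω : Ω, ω ≠ α := by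
    by_contra hcon
    push Not at hcon
    apply hh0
    apply Subtype.ext
    apply FaithfulSMul.eq_of_smul_eq_smul (α := Ω)
    intro ω
    rw [hcon ω, Subgroup.coe_one, one_smul]
    exact h0.2
  obtain ⟨ω, hω⟩ := hex
  haveI hfaith : FaithfulSMul (stabilizer G α) (orbit (stabilizer G α) ω) :=
    faithful_orbit hprim hH hep α ω hω
  haveI hpr : IsPreprimitive (stabilizer G α) (orbit (stabilizer G α) ω) := hep α ω
  have hFmem := sSup_normal_nilpotent_mem (H := stabilizer G α) (orbit (stabilizer G α) ω)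
  change (fittingSubgroup (stabilizer G α)).Normal ∧
    Group.IsNilpotent (fittingSubgroup (stabilizer G α)) at hFmem
  obtain ⟨hFn, hFnil⟩ := hFmem
  have hFc := normal_nilpotent_abelian (orbit (stabilizer G α) ω)
    (fittingSubgroup (stabilizer G α)) hFnil
  refine ⟨center_eq_bot_of_not_prime (orbit (stabilizer G α) ω) hHp,
    ⟨⟨fun a b => Subtype.ext (hFc a a.2 b b.2)⟩⟩, ?_⟩
  by_cases hF : fittingSubgroup (stabilizer G α) = ⊥
  · refine ⟨2, 0, Nat.prime_two, ?_, ?_, fun h => absurd hF h⟩
    · rw [hF, Subgroup.card_bot, pow_zero]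
    · intro x hx
      rw [hF, Subgroup.mem_bot] at hx
      rw [hx, one_pow]
  · obtain ⟨p, e, hp, hcard, hexp⟩ := normal_abelian_exponent (orbit (stabilizer G α) ω)
      (fittingSubgroup (stabilizer G α)) hF hFc
    refine ⟨p, e, hp, hcard, hexp, fun _ => ⟨?_, exists_hom_GL_ker_eq (orbit (stabilizer G α) ω)
      (fittingSubgroup (stabilizer G α)) hF hFc p e hp hcard hexp⟩⟩
    rw [← hcard]
    apply card_dvd_card_sub_one α
    · intro a
      exact (a : stabilizer G α).2
    · intro a ω' hω' hfix
      haveI : FaithfulSMul (stabilizer G α) (orbit (stabilizer G α) ω') :=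
        faithful_orbit hprim hH hep α ω' hω'
      haveI : IsPreprimitive (stabilizer G α) (orbit (stabilizer G α) ω') := hep α ω'
      have h1 := abelian_normal_free (Δ := orbit (stabilizer G α) ω')
        (fittingSubgroup (stabilizer G α)) hF hFc ⟨ω', mem_orbit_self ω'⟩ (a : stabilizer G α) a.2
        (Subtype.ext hfix)
      exact Subtype.ext h1

end Cfsg.Agent.S3497
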