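import Cfsg.Statements.S3496
import Cfsg.Agent.S3497
import Cfsg.Agent.Lib.Helper58.PrimitiveNormal
import Cfsg.Agent.Lib.Helper58.ConjModule
import Cfsg.Agent.Lib.Helper58.CyclicAlg

set_option autoImplicit false
open Cfsg

namespace Cfsg.Agent.S3496


open MulAction Cfsg.Agent.Lib.Helper58

open scoped commutatorElement in
/-- a nontrivial solvable group has a nontrivial abelian normal subgroup -/
theorem exists_normal_abelian {G : Type*} [Group G] [Group.IsSolvable G] [Nontrivial G] :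
    ∃ A : Subgroup G, A.Normal ∧ A ≠ ⊥ ∧ ∀ a ∈ A, ∀ b ∈ A, a * b = b * a := by
  classical
  have hsol := Group.IsSolvable.solvable (G := G)
  have hn : derivedSeries G (Nat.find hsol) = ⊥ := Nat.find_spec hsol
  have hn0 : Nat.find hsol ≠ 0 := by
    intro h0
    rw [h0, derivedSeries_zero] at hn
    exact top_ne_bot hn
  obtain ⟨k, hk⟩ := Nat.exists_eq_succ_of_ne_zero hn0
  refine ⟨derivedSeries G k, derivedSeries_normal G k, ?_, ?_⟩
  · intro h
    have h1 := Nat.find_min' hsol h
    omega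
  · intro a ha b hb
    have h1 : ⁅a, b⁆ ∈ derivedSeries G (k + 1) := by
      rw [derivedSeries_succ]
      exact Subgroup.commutator_mem_commutator ha hb
    rw [← Nat.succ_eq_add_one, ← hk, hn, Subgroup.mem_bot] at h1
    exact commutatorElement_eq_one_iff_mul_comm.mp h1

/-- a hom to a cyclic group: the domain is generated by the kernel and one element, and its
order divides the order of the kernel times the order of the target -/
theorem ker_sup_zpowers {H C : Type*} [Group H] [Finite H] [Group C] [IsCyclic C] [Finite C]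
    (ρ : H →* C) :
    (∃ h : H, (⊤ : Subgroup H) = ρ.ker ⊔ Subgroup.zpowers h) ∧
      Nat.card H ∣ Nat.card ρ.ker * Nat.card C := by
  constructor
  · obtain ⟨⟨c, hc⟩, hgen⟩ := IsCyclic.exists_generator (α := ρ.range)
    obtain ⟨h₁, rfl⟩ := hc
    refine ⟨h₁, ?_⟩
    symm
    rw [eq_top_iff]
    intro h _
    obtain ⟨k, hk⟩ := Subgroup.mem_zpowers_iff.mp (hgen ⟨ρ h, ⟨h, rfl⟩⟩)
    have hk' : ρ h₁ ^ k = ρ h := by
      have h2 := congrArg Subtype.val hk
      simpa using h2
    have hker : h * (h₁ ^ k)⁻¹ ∈ ρ.ker := by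
      rw [MonoidHom.mem_ker, map_mul, map_inv, map_zpow, hk', mul_inv_cancel]
    have h3 : h = (h * (h₁ ^ k)⁻¹) * h₁ ^ k := by group
    rw [h3]
    exact Subgroup.mul_mem _ (Subgroup.mem_sup_left hker)
      (Subgroup.mem_sup_right (Subgroup.zpow_mem_zpowers h₁ k))
  · rw [← Subgroup.card_mul_index ρ.ker, Subgroup.index_ker]
    exact Nat.mul_dvd_mul_left _ (Subgroup.card_subgroup_dvd_card ρ.range)

/-- The soluble extremely primitive groups. Let a finite solvable group G act faithfully and primitively on a finite set Ω with p ^ d points (p prime), with non-trivial point stabilizers each acting primitively on every one of its orbits. Then there is a prime q such that every orbit of a point stabilizer G_α other than {α} has exactly q points, q divides p ^ d − 1 but no p ^ i − 1 with 0 < i < d, and G_α has a normal subgroup T of order q with G_α generated by T and one further element and the order of G_α dividing q·d (so G_α is cyclic of order q, or an extension of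 T by a cyclic group of order dividing d). -/
theorem result {G : Type*} [Group G] [Finite G] {Ω : Type*} [Fintype Ω] [MulAction G Ω] [FaithfulSMul G Ω] [Group.IsSolvable G] (p d : ℕ) (hp : p.Prime) (hcard : Fintype.card Ω = p ^ d)
    (hprim : MulAction.IsPreprimitive G Ω) (hH : ∀ α : Ω, MulAction.stabilizer G α ≠ ⊥) (hep : ∀ (α : Ω) (ω : Ω), MulAction.IsPreprimitive (MulAction.stabilizer G α) (MulAction.orbit (MulAction.stabilizer G α) ω)) (α : Ω) :
    ∃ q : ℕ, q.Prime ∧ (∀ ω : Ω, ω ≠ α → Nat.card (MulAction.orbit (MulAction.stabilizer G α) ω) = q) ∧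
      q ∣ p ^ d - 1 ∧ (∀ i : ℕ, 0 < i → i < d → ¬ q ∣ p ^ i - 1) ∧
      ∃ T : Subgroup G, T ≤ MulAction.stabilizer G α ∧ MulAction.stabilizer G α ≤ Subgroup.normalizer (T : Set G) ∧ Nat.card T = q ∧
        (∃ h : G, MulAction.stabilizer G α = T ⊔ Subgroup.zpowers h) ∧ Nat.card (MulAction.stabilizer G α) ∣ q * d := by
  classical
  haveI hptr : IsPretransitive G Ω := hprim.toIsPretransitive
  haveI hfp : Fact p.Prime := ⟨hp⟩
  obtain ⟨h0, hh0⟩ := (Subgroup.ne_bot_iff_exists_ne_one).mp (hH α)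
  haveI hntG : Nontrivial G := ⟨⟨(h0 : G), 1, fun h => hh0 (Subtype.ext h)⟩⟩
  haveI hntH : Nontrivial (stabilizer G α) := ⟨⟨h0, 1, hh0⟩⟩
  -- a point different from α
  have hexω : ∃ ω : Ω, ω ≠ α := by
    by_contra hcon
    push Not at hcon
    apply hh0
    apply Subtype.ext
    apply FaithfulSMul.eq_of_smul_eq_smul (α := Ω)
    intro ω
    rw [hcon ω, Subgroup.coe_one, one_smul]
    exact h0.2
  obtain ⟨ω₀, hω₀⟩ := hexω
  -- the regular normal subgroup V
  obtain ⟨V, hVn, hVne, hVc⟩ := exists_normal_abelian (G := G)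
  haveI := hVn
  have hVtr : ∀ ω ω' : Ω, ∃ v ∈ V, v • ω = ω' := fun ω ω' => normal_transitive V hVne ω ω'
  have hVfree : ∀ (ω : Ω) (v : G), v ∈ V → v • ω = ω → v = 1 :=
    fun ω v hv hfix => abelian_normal_free V hVne hVc ω v hv hfix
  have hVeq : ∀ v w : G, v ∈ V → w ∈ V → v • α = w • α → v = w := by
    intro v w hv hw hvw
    have h1 : w⁻¹ * v = 1 := hVfree α _ (V.mul_mem (V.inv_mem hw) hv) (by
      rw [mul_smul, hvw, inv_smul_smul])
    exact (inv_mul_eq_one.mp h1).symm
  have hVcard : Nat.card V = p ^ d := by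
    rw [← hcard, ← Nat.card_eq_fintype_card]
    apply Nat.card_eq_of_bijective (fun v : V => (v : G) • α)
    constructor
    · intro v w hvw
      exact Subtype.ext (hVeq v w v.2 w.2 hvw)
    · intro ω
      obtain ⟨v, hv, hvω⟩ := hVtr α ω
      exact ⟨⟨v, hv⟩, hvω⟩
  have hd : d ≠ 0 := by
    rintro rfl
    rw [pow_zero] at hVcard
    exact hVne (Subgroup.card_eq_one.mp hVcard)
  obtain ⟨r, m, hr, hVrm, hVexp⟩ := normal_abelian_exponent Ω V hVne hVc
  have hrp : r = p := by
    have hm : m ≠ 0 := by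
      rintro rfl
      rw [pow_zero] at hVrm
      exact hVne (Subgroup.card_eq_one.mp hVrm)
    have h1 : r ∣ p ^ d := by
      rw [← hVcard, hVrm]
      exact dvd_pow_self r hm
    exact (Nat.prime_dvd_prime_iff_eq hr hp).mp (hr.dvd_of_dvd_pow h1)
  rw [hrp] at hVexp
  -- the module
  obtain ⟨M, iA, iM, ε, Φ, hadd, hε1, hconj⟩ :=
    exists_conj_module V p (fun a b => Subtype.ext (hVc a a.2 b b.2)) hVexp
  haveI hfinM : Finite M := Finite.of_equiv V ε
  have hMcard : Nat.card M = p ^ d := by rw [← Nat.card_congr ε, hVcard]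
  haveI hntM : Nontrivial M := by
    have h1 : 1 < Nat.card M := by
      rw [hMcard]
      exact Nat.one_lt_pow hd hp.one_lt
    exact Finite.one_lt_card_iff_nontrivial.mp h1
  have hΦV : ∀ v ∈ V, Φ v = 1 := by
    intro v hv
    apply LinearMap.ext
    intro a
    obtain ⟨n', rfl⟩ := ε.surjective a
    rw [hconj, Module.End.one_apply]
    apply congrArg ε
    apply Subtype.ext
    change v * n' * v⁻¹ = n'
    rw [hVc v hv n' n'.2, mul_inv_cancel_right]
  -- the abelian normal subgroup T₀ of the stabilizer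
  obtain ⟨T₀, hTn, hTne, hTc⟩ := exists_normal_abelian (G := stabilizer G α)
  haveI := hTn
  have hTtr : ∀ ω : Ω, ω ≠ α → ∀ h : stabilizer G α, ∃ t ∈ T₀, (t : G) • ω = (h : G) • ω := by
    intro ω hω h
    haveI := Cfsg.Agent.S3497.faithful_orbit hprim hH hep α ω hω
    haveI := hep α ω
    obtain ⟨t, ht, htω⟩ := normal_transitive (Δ := orbit (stabilizer G α) ω) T₀ hTne
      ⟨ω, mem_orbit_self ω⟩ ⟨h • ω, mem_orbit ω h⟩
    exact ⟨t, ht, congrArg Subtype.val htω⟩
  have hTfree : ∀ ω : Ω, ω ≠ α → ∀ t ∈ T₀, (t : G) • ω = ω → t = 1 := by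
    intro ω hω t ht hfix
    haveI := Cfsg.Agent.S3497.faithful_orbit hprim hH hep α ω hω
    haveI := hep α ω
    exact abelian_normal_free (Δ := orbit (stabilizer G α) ω) T₀ hTne hTc ⟨ω, mem_orbit_self ω⟩
      t ht (Subtype.ext hfix)
  haveI hfaith₀ := Cfsg.Agent.S3497.faithful_orbit hprim hH hep α ω₀ hω₀
  haveI hprim₀ := hep α ω₀
  have hTcent : ∀ h : stabilizer G α, (∀ t ∈ T₀, h * t = t * h) → h ∈ T₀ :=
    fun h hh => abelian_normal_self_centralizing (orbit (stabilizer G α) ω₀) T₀ hTne hTc h hh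
  obtain ⟨q, e, hq, hTcard, hTexp⟩ :=
    normal_abelian_exponent (orbit (stabilizer G α) ω₀) T₀ hTne hTc
  -- orbit sizes
  have horb : ∀ ω : Ω, ω ≠ α → Nat.card (orbit (stabilizer G α) ω) = Nat.card T₀ := by
    intro ω hω
    symm
    apply Nat.card_eq_of_bijective
      (fun t : T₀ => (⟨(t : stabilizer G α) • ω, mem_orbit ω _⟩ : orbit (stabilizer G α) ω))
    constructor
    · intro t t' htt
      have h1 : ((t : stabilizer G α) : G) • ω = ((t' : stabilizer G α) : G) • ω :=
        congrArg Subtype.val htt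
      have h2 : (t' : stabilizer G α)⁻¹ * t = 1 := hTfree ω hω _
        (T₀.mul_mem (T₀.inv_mem t'.2) t.2) (by
          rw [Subgroup.coe_mul, Subgroup.coe_inv, mul_smul, h1, inv_smul_smul])
      exact Subtype.ext (inv_mul_eq_one.mp h2).symm
    · rintro ⟨_, ⟨h, rfl⟩⟩
      obtain ⟨t, ht, htω⟩ := hTtr ω hω h
      exact ⟨⟨t, ht⟩, Subtype.ext htω⟩
  -- the orbit of a nonzero vector under G is its orbit under T₀
  have hF2 : ∀ x : M, x ≠ 0 → ∀ g : G, ∃ t ∈ T₀, Φ g x = Φ ((t : stabilizer G α) : G) x := by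
    intro x hx g
    obtain ⟨v₀, rfl⟩ := ε.surjective x
    have hv₀ : (v₀ : G) ≠ 1 := by
      intro h1
      apply hx
      have h2 : v₀ = 1 := Subtype.ext h1
      rw [h2, hε1]
    obtain ⟨v, hv, hvα⟩ := hVtr α (g • α)
    have hhmem : v⁻¹ * g ∈ stabilizer G α := by
      rw [mem_stabilizer_iff, mul_smul, ← hvα, inv_smul_smul]
    have hΦg : Φ g = Φ (v⁻¹ * g) := by
      rw [map_mul, hΦV _ (V.inv_mem hv), one_mul]
    have hω : (v₀ : G) • α ≠ α := fun h1 => hv₀ (hVfree α _ v₀.2 h1)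
    obtain ⟨t, ht, htω⟩ := hTtr ((v₀ : G) • α) hω ⟨v⁻¹ * g, hhmem⟩
    refine ⟨t, ht, ?_⟩
    rw [hΦg, hconj, hconj]
    apply congrArg ε
    apply Subtype.ext
    change (v⁻¹ * g) * v₀ * (v⁻¹ * g)⁻¹ = (t : G) * v₀ * ((t : stabilizer G α) : G)⁻¹
    apply hVeq _ _ (hVn.conj_mem _ v₀.2 _) (hVn.conj_mem _ v₀.2 _)
    have h1 : ∀ k : G, k ∈ stabilizer G α → (k * v₀ * k⁻¹) • α = k • (v₀ : G) • α := by
      intro k hk
      have hk' : k⁻¹ • α = α := by
        rw [inv_smul_eq_iff]
        exact (mem_stabilizer_iff.mp hk).symm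
      rw [mul_smul, mul_smul, hk']
    rw [h1 _ hhmem, h1 _ (t : stabilizer G α).2]
    exact htω.symm
  -- the ring-theoretic core
  let Φ' : stabilizer G α →* Module.End (ZMod p) M := Φ.comp (stabilizer G α).subtype
  have hΦ' : ∀ h : stabilizer G α, Φ' h = Φ (h : G) := fun h => rfl
  let S : Set (Module.End (ZMod p) M) := {s | ∃ t ∈ T₀, Φ' t = s}
  have hScomm : ∀ a ∈ S, ∀ b ∈ S, a * b = b * a := by
    rintro _ ⟨t, ht, rfl⟩ _ ⟨t', ht', rfl⟩
    rw [← map_mul, ← map_mul, hTc t ht t' ht']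
  have hScyc : ∀ x : M, x ≠ 0 → ∀ y : M, ∃ r ∈ Algebra.adjoin (ZMod p) S, r x = y := by
    intro x hx
    -- the span of the orbit
    let W : Submodule (ZMod p) M := Submodule.span (ZMod p) (Set.range fun g : G => Φ g x)
    have hWinv : ∀ (g : G) (y : M), y ∈ W → Φ g y ∈ W := by
      intro g y hy
      have h1 : W ≤ W.comap (Φ g) := by
        apply Submodule.span_le.mpr
        rintro _ ⟨g', rfl⟩
        change Φ g (Φ g' x) ∈ W
        have h2 : Φ g (Φ g' x) = Φ (g * g') x := by rw [map_mul]; rfl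
        rw [h2]
        exact Submodule.subset_span ⟨g * g', rfl⟩
      exact h1 hy
    have hneg : ∀ a : V, ε a⁻¹ = - ε a := by
      intro a
      have h1 := hadd a a⁻¹
      rw [mul_inv_cancel, hε1] at h1
      exact (neg_eq_of_add_eq_zero_right h1.symm).symm
    let W' : Subgroup G :=
      { carrier := {g | ∃ hv : g ∈ V, ε ⟨g, hv⟩ ∈ W}
        mul_mem' := by
          rintro a b ⟨ha, haW⟩ ⟨hb, hbW⟩
          refine ⟨V.mul_mem ha hb, ?_⟩
          have h1 := hadd ⟨a, ha⟩ ⟨b, hb⟩
          change ε ⟨a * b, _⟩ = _ at h1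
          rw [h1]
          exact W.add_mem haW hbW
        one_mem' := ⟨V.one_mem, by
          change ε 1 ∈ W
          rw [hε1]
          exact W.zero_mem⟩
        inv_mem' := by
          rintro a ⟨ha, haW⟩
          refine ⟨V.inv_mem ha, ?_⟩
          have h1 := hneg ⟨a, ha⟩
          change ε ⟨a⁻¹, _⟩ = _ at h1
          rw [h1]
          exact W.neg_mem haW }
    have hW'mem : ∀ g : G, g ∈ W' ↔ ∃ hv : g ∈ V, ε ⟨g, hv⟩ ∈ W := fun g => Iff.rfl
    haveI hW'n : W'.Normal := ⟨fun a ha g => by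
      rw [hW'mem] at ha ⊢
      obtain ⟨hv, haW⟩ := ha
      refine ⟨hVn.conj_mem a hv g, ?_⟩
      have h1 := hconj g ⟨a, hv⟩
      rw [← h1]
      exact hWinv g _ haW⟩
    have hW'ne : W' ≠ ⊥ := by
      intro hbot
      apply hx
      have h1 : ((ε.symm x : V) : G) ∈ W' := by
        rw [hW'mem]
        refine ⟨(ε.symm x).2, ?_⟩
        have h2 : ε ⟨((ε.symm x : V) : G), (ε.symm x).2⟩ = x := ε.apply_symm_apply x
        rw [h2]
        apply Submodule.subset_span
        exact ⟨1, by simp only [map_one, Module.End.one_apply]⟩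
      rw [hbot, Subgroup.mem_bot] at h1
      have h2 : ε.symm x = 1 := Subtype.ext h1
      have h3 := congrArg ε h2
      rw [ε.apply_symm_apply, hε1] at h3
      exact h3
    have hWtop : ∀ y : M, y ∈ W := by
      intro y
      obtain ⟨w, hw, hwα⟩ := normal_transitive (Δ := Ω) W' hW'ne α (((ε.symm y : V) : G) • α)
      obtain ⟨hwV, hwW⟩ := (hW'mem w).mp hw
      have h1 : w = ((ε.symm y : V) : G) := hVeq _ _ hwV (ε.symm y).2 hwα
      have h2 : (⟨w, hwV⟩ : V) = ε.symm y := Subtype.ext h1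
      rw [h2, ε.apply_symm_apply] at hwW
      exact hwW
    intro y
    have hy := hWtop y
    induction hy using Submodule.span_induction with
    | mem z hz =>
      obtain ⟨g, rfl⟩ := hz
      obtain ⟨t, ht, htx⟩ := hF2 x hx g
      exact ⟨Φ' t, Algebra.subset_adjoin ⟨t, ht, rfl⟩, htx.symm⟩
    | zero => exact ⟨0, Subalgebra.zero_mem _, rfl⟩
    | add a b _ _ iha ihb =>
      obtain ⟨ra, hra, rfl⟩ := iha
      obtain ⟨rb, hrb, rfl⟩ := ihb
      exact ⟨ra + rb, Subalgebra.add_mem _ hra hrb, rfl⟩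
    | smul c a _ iha =>
      obtain ⟨ra, hra, rfl⟩ := iha
      exact ⟨c • ra, Subalgebra.smul_mem _ hra c, rfl⟩
  have hinj : ∀ t ∈ T₀, Φ' t = 1 → t = 1 := by
    intro t ht h1
    apply Subtype.ext
    apply FaithfulSMul.eq_of_smul_eq_smul (α := Ω)
    intro ω
    rw [Subgroup.coe_one, one_smul]
    obtain ⟨v, hv, rfl⟩ := hVtr α ω
    have h2 := hconj (t : G) ⟨v, hv⟩
    rw [← hΦ', h1, Module.End.one_apply] at h2
    have h3 : v = (t : G) * v * (t : G)⁻¹ := congrArg Subtype.val (ε.injective h2)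
    have ht' : (t : G)⁻¹ • α = α := by
      rw [inv_smul_eq_iff]
      exact (mem_stabilizer_iff.mp t.2).symm
    conv_rhs => rw [h3]
    rw [mul_smul, mul_smul, ht']
  obtain ⟨hTcyc, hFrob, C, iC, hCcyc, ρ, hCcard, hρ⟩ :=
    cyclic_core S hScomm hScyc d hMcard Φ' T₀ rfl hinj
  -- T₀ has prime order
  have hTq : Nat.card T₀ = q := by
    haveI := hTcyc
    obtain ⟨g, hg⟩ := IsCyclic.exists_generator (α := T₀)
    have h1 : orderOf g = Nat.card T₀ := orderOf_eq_card_of_forall_mem_zpowers hg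
    have h2 : g ^ q = 1 := Subtype.ext (hTexp g g.2)
    have h3 : Nat.card T₀ ∣ q := by
      rw [← h1]
      exact orderOf_dvd_of_pow_eq_one h2
    rcases (Nat.dvd_prime hq).mp h3 with h4 | h4
    · exact absurd (Subgroup.card_eq_one.mp h4) hTne
    · exact h4
  -- the kernel of ρ
  have hker : ρ.ker = T₀ := by
    ext h
    rw [MonoidHom.mem_ker, hρ]
    constructor
    · intro hh
      apply hTcent
      intro t ht
      have h1 := hh t ht
      rw [← map_mul, ← map_mul] at h1
      have h2 : Φ' ((h * t) * (t * h)⁻¹) = 1 := by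
        rw [map_mul, h1, ← map_mul, mul_inv_cancel, map_one]
      have h3 : (h * t) * (t * h)⁻¹ ∈ T₀ := by
        have h4 : (h * t) * (t * h)⁻¹ = (h * t * h⁻¹) * t⁻¹ := by group
        rw [h4]
        exact T₀.mul_mem (hTn.conj_mem t ht h) (T₀.inv_mem ht)
      exact mul_inv_eq_one.mp (hinj _ h3 h2)
    · intro hh t ht
      rw [← map_mul, ← map_mul, hTc h hh t ht]
  haveI := hCcyc
  haveI hfinC : Finite C := Nat.finite_of_card_ne_zero (by rw [hCcard]; exact hd)
  obtain ⟨⟨h₁, hsup⟩, hdvd⟩ := ker_sup_zpowers ρ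
  rw [hker, hTq, hCcard] at hdvd
  rw [hker] at hsup
  refine ⟨q, hq, ?_, ?_, ?_, ?_⟩
  · intro ω hω
    rw [horb ω hω, hTq]
  · -- q divides p ^ d - 1
    rw [← hTq, ← hcard]
    apply Cfsg.Agent.S3497.card_dvd_card_sub_one α
    · intro t
      exact ((t : stabilizer G α)).2
    · intro t ω hω hfix
      exact Subtype.ext (hTfree ω hω t t.2 hfix)
  · intro i hi hid hqi
    have h1 := hFrob i hi (by
      intro t ht
      rw [← map_pow]
      congr 1
      have h2 : t ^ q = 1 := hTexp t ht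
      obtain ⟨c, hc⟩ := hqi
      have h3 : p ^ i = q * c + 1 := by
        have h4 : 1 ≤ p ^ i := Nat.one_le_pow _ _ hp.pos
        omega
      rw [h3, pow_succ, pow_mul, h2, one_pow, one_mul])
    omega
  · refine ⟨T₀.map (stabilizer G α).subtype, Subgroup.map_subtype_le T₀, ?_, ?_, ?_, hdvd⟩
    · intro h hh
      rw [Subgroup.mem_normalizer_iff]
      have hconjT : ∀ (k : G) (hk : k ∈ stabilizer G α) (x : G),
          x ∈ T₀.map (stabilizer G α).subtype → k * x * k⁻¹ ∈ T₀.map (stabilizer G α).subtype := by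
        rintro k hk _ ⟨t, ht, rfl⟩
        exact ⟨⟨k, hk⟩ * t * ⟨k, hk⟩⁻¹, hTn.conj_mem t ht ⟨k, hk⟩, rfl⟩
      intro x
      constructor
      · exact hconjT h hh x
      · intro hx
        have h1 := hconjT h⁻¹ ((stabilizer G α).inv_mem hh) _ hx
        have h2 : h⁻¹ * (h * x * h⁻¹) * h⁻¹⁻¹ = x := by group
        rw [h2] at h1
        exact h1
    · rw [Subgroup.card_map_of_injective (Subgroup.subtype_injective _), hTq]
    · refine ⟨(h₁ : G), ?_⟩
      have h1 := congrArg (Subgroup.map (stabilizer G α).subtype) hsup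
      rw [Subgroup.map_sup, MonoidHom.map_zpowers, ← MonoidHom.range_eq_map,
        Subgroup.range_subtype] at h1
      exact h1

end Cfsg.Agent.S3496
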