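import Cfsg.Statements.S3498
-- import your own Cfsg.Agent.* helpers here

set_option autoImplicit false
open Cfsg

namespace Cfsg.Agent.S3498

open Subgroup
open scoped Pointwise

section
variable {G : Type*} [Group G] [Finite G]

/-- a group containing a nonabelian simple subgroup is not solvable -/
theorem not_solvable (T : Subgroup G) (hT : IsSimpleGroup T) (hTc : ¬ IsMulCommutative T) :
    ¬ Group.IsSolvable G := by
  intro hs
  have h1 : Group.IsSolvable T := inferInstance
  have hcomm := (IsSimpleGroup.comm_iff_isSolvable (G := T)).mpr h1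
  exact hTc (isMulCommutative_iff.mpr hcomm)

/-- a subgroup of prime order is commutative -/
theorem comm_of_prime_card (H : Subgroup G) (hp : (Nat.card H).Prime) :
    ∀ a ∈ H, ∀ b ∈ H, a * b = b * a := by
  haveI : Fact (Nat.card H).Prime := ⟨hp⟩
  have hcyc : IsCyclic H := isCyclic_of_prime_card rfl
  intro a ha b hb
  have := isMulCommutative_iff.mp hcyc.isMulCommutative ⟨a, ha⟩ ⟨b, hb⟩
  exact congrArg Subtype.val this

/-- a nontrivial element of a subgroup of prime order generates it -/
theorem zpowers_eq_of_prime_card (H : Subgroup G) (hp : (Nat.card H).Prime) (h : G) (hh : h ∈ H)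
    (h1 : h ≠ 1) : Subgroup.zpowers h = H := by
  apply Subgroup.eq_of_le_of_card_ge (Subgroup.zpowers_le.mpr hh)
  have hdvd : Nat.card (Subgroup.zpowers h) ∣ Nat.card H :=
    Subgroup.card_dvd_of_le (Subgroup.zpowers_le.mpr hh)
  rcases (Nat.dvd_prime hp).mp hdvd with h' | h'
  · exfalso
    rw [Nat.card_zpowers, orderOf_eq_one_iff] at h'
    exact h1 h'
  · exact le_of_eq h'.symm

end

/-- A maximal subgroup of a finite almost simple group does not have prime order. Here G is almost simple in the sense that it has a non-abelian simple normal subgroup T with trivial centralizer. -/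
theorem result {G : Type*} [Group G] [Finite G] (T : Subgroup G) [T.Normal] (hT : IsSimpleGroup T) (hTc : ¬ IsMulCommutative T)
    (hC : Subgroup.centralizer (T : Set G) = ⊥) (H : Subgroup G) (hmax : IsCoatom H) : ¬ (Nat.card H).Prime := by
  intro hprime
  have hnsolv := not_solvable T hT hTc
  obtain ⟨p, hp⟩ : ∃ p, p = Nat.card H := ⟨_, rfl⟩
  rw [← hp] at hprime
  haveI : Fact p.Prime := ⟨hprime⟩
  have hHp : IsPGroup p H := IsPGroup.of_card (n := 1) (by rw [pow_one, hp])
  have hHcomm := comm_of_prime_card H (hp ▸ hprime)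
  have hHne : H ≠ ⊥ := by
    intro h
    rw [h, Subgroup.card_bot] at hp
    exact hprime.ne_one hp
  -- H is a Sylow p-subgroup
  obtain ⟨P, hHP⟩ := hHp.exists_le_sylow
  have hPH : (P : Subgroup G) = H := by
    rcases eq_or_lt_of_le hHP with h | h
    · exact h.symm
    · exfalso
      have htop := hmax.2 _ h
      have h1 : IsPGroup p (⊤ : Subgroup G) := htop ▸ P.2
      have h2 : IsPGroup p G := h1.of_equiv Subgroup.topEquiv
      have h3 : Group.IsNilpotent G := h2.isNilpotent
      exact hnsolv inferInstance
  -- normalizer ≤ centralizer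
  have hNC : Subgroup.normalizer ((P : Subgroup G) : Set G) ≤
      Subgroup.centralizer ((P : Subgroup G) : Set G) := by
    rw [hPH]
    have hle : H ≤ Subgroup.normalizer (H : Set G) := Subgroup.le_normalizer
    rcases eq_or_lt_of_le hle with h | h
    · rw [← h]
      intro a ha b hb
      exact hHcomm b hb a ha
    · exfalso
      have htop := hmax.2 _ h
      have hHnormal : H.Normal := Subgroup.normalizer_eq_top_iff.mp htop
      -- H ⊓ T = ⊥ or T ≤ H
      have hdisj : Disjoint H T ∨ T ≤ H := by
        have hn : ((H ⊓ T).subgroupOf T).Normal := inferInstance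
        rcases hT.eq_bot_or_eq_top_of_normal _ hn with h' | h'
        · left
          rw [Subgroup.subgroupOf_eq_bot, disjoint_iff, inf_assoc, inf_idem] at h'
          exact disjoint_iff.mpr h'
        · right
          rw [Subgroup.subgroupOf_eq_top] at h'
          exact h'.trans inf_le_left
      rcases hdisj with hd | hd
      · -- H centralizes T
        have : H ≤ Subgroup.centralizer (T : Set G) := by
          intro a ha b hb
          exact (Subgroup.commute_of_normal_of_disjoint H T hHnormal inferInstance hd a b ha hb).eq.symm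
        rw [hC] at this
        exact hHne (le_bot_iff.mp this)
      · -- T ≤ H commutative
        apply hTc
        rw [isMulCommutative_iff]
        intro a b
        exact Subtype.ext (hHcomm a (hd a.2) b (hd b.2))
  -- Burnside transfer
  have hcompl := MonoidHom.ker_transferSylow_isComplement' P hNC
  have hnd := MonoidHom.not_dvd_card_ker_transferSylow P hNC
  obtain ⟨K, hK⟩ : ∃ K : Subgroup G, K = (MonoidHom.transferSylow P hNC).ker := ⟨_, rfl⟩
  rw [← hK] at hcompl hnd
  have hKn : K.Normal := hK ▸ MonoidHom.normal_ker _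
  have hKH : K ⊓ H = ⊥ := by
    rw [← hPH]
    exact hcompl.disjoint.eq_bot
  -- G solvable if K solvable
  have hsolv_of : Group.IsSolvable K → False := by
    intro hKs
    apply hnsolv
    have hPcomm : Group.IsSolvable P := by
      apply Group.isSolvable_of_comm
      intro a b
      apply Subtype.ext
      have ha : (a : G) ∈ H := hPH ▸ a.2
      have hb : (b : G) ∈ H := hPH ▸ b.2
      exact hHcomm a ha b hb
    refine Group.isSolvable_of_ker_le_range K.subtype (MonoidHom.transferSylow P hNC) ?_
    rw [← hK, Subgroup.range_subtype]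
  -- K ≠ ⊥
  have hKne : K ≠ ⊥ := by
    intro h
    apply hsolv_of
    rw [h]
    infer_instance
  -- a prime r dividing |K|
  have hcardK : Nat.card K ≠ 1 := by
    intro h
    exact hKne (Subgroup.card_eq_one.mp h)
  obtain ⟨r, hr, hrK⟩ := Nat.exists_prime_and_dvd hcardK
  haveI : Fact r.Prime := ⟨hr⟩
  -- H-action on Sylow r K
  let f : H →* MulAut K := (MulAut.conjNormal (H := K)).comp H.subtype
  letI : MulAction H (Sylow r K) := MulAction.compHom (Sylow r K) f
  have hHp' : IsPGroup p H := hHp
  have hcardS : ¬ p ∣ Nat.card (Sylow r K) := by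
    intro hdvd
    obtain ⟨R⟩ : Nonempty (Sylow r K) := inferInstance
    have h1 := Sylow.card_dvd_index R
    have h2 : (R : Subgroup K).index ∣ Nat.card K := Subgroup.index_dvd_card _
    exact hnd (hdvd.trans (h1.trans h2))
  obtain ⟨R, hR⟩ := hHp'.nonempty_fixed_point_of_prime_not_dvd_card (Sylow r K) hcardS
  -- R' = image of R in G is normalized by H
  obtain ⟨R', hR'⟩ : ∃ R' : Subgroup G, R' = (R : Subgroup K).map K.subtype := ⟨_, rfl⟩
  have hR'K : R' ≤ K := by
    rw [hR']
    exact Subgroup.map_subtype_le _
  have hHR : H ≤ Subgroup.normalizer (R' : Set G) := by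
    intro h hh
    apply Subgroup.mem_normalizer_fintype
    intro n hn
    rw [hR'] at hn ⊢
    obtain ⟨k, hk, rfl⟩ := hn
    have hfix : (⟨h, hh⟩ : H) • R = R := hR ⟨h, hh⟩
    have hmem : (MulAut.conjNormal h : MulAut K) k ∈ (R : Subgroup K) := by
      have h1 : (MulAut.conjNormal h : MulAut K) • k ∈ (MulAut.conjNormal h : MulAut K) • (R : Subgroup K) :=
        Subgroup.smul_mem_pointwise_smul _ _ _ hk
      have h2 : ((MulAut.conjNormal h : MulAut K) • R : Sylow r K) = R := hfix
      rw [← Sylow.pointwise_smul_def, h2] at h1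
      exact h1
    refine ⟨(MulAut.conjNormal h : MulAut K) k, hmem, ?_⟩
    simp [MulAut.conjNormal_apply]
  -- R' ≠ ⊥
  have hR'ne : R' ≠ ⊥ := by
    intro h
    rw [hR', Subgroup.map_eq_bot_iff_of_injective _ K.subtype_injective] at h
    exact R.ne_bot_of_dvd_card hrK h
  have hR'p : IsPGroup r R' := by
    rw [hR']
    exact R.2.map K.subtype
  -- the subgroup generated by R' and H
  have hle : H ≤ R' ⊔ H := le_sup_right
  rcases eq_or_lt_of_le hle with h | h
  · -- R' ≤ H
    have h1 : R' ≤ H := by
      rw [h]
      exact le_sup_left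
    have h2 : R' ≤ K ⊓ H := le_inf hR'K h1
    rw [hKH] at h2
    exact hR'ne (le_bot_iff.mp h2)
  · have htop := hmax.2 _ h
    have hnormal : R'.Normal := by
      rw [← Subgroup.normalizer_eq_top_iff, eq_top_iff, ← htop]
      exact sup_le Subgroup.le_normalizer hHR
    have hKR : K ≤ R' := by
      intro k hk
      have hk' : k ∈ ((H ⊔ R' : Subgroup G) : Set G) := by
        rw [sup_comm, htop]
        trivial
      rw [Subgroup.mul_normal] at hk'
      obtain ⟨h0, hh0, r0, hr0, rfl⟩ := Set.mem_mul.mp hk'
      have h3 : h0 ∈ K := by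
        have := K.mul_mem hk (K.inv_mem (hR'K hr0))
        simpa using this
      have h4 : h0 ∈ K ⊓ H := ⟨h3, hh0⟩
      rw [hKH, Subgroup.mem_bot] at h4
      rw [h4, one_mul]
      exact hr0
    have hKp : IsPGroup r K := hR'p.to_le hKR
    have hKnil : Group.IsNilpotent K := hKp.isNilpotent
    exact hsolv_of inferInstance

end Cfsg.Agent.S3498
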