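import Cfsg.Statements.S3556
import Mathlib
import Cfsg.Agent.S0721
import Cfsg.Agent.Lib.Helper73.ConjUnion
-- import your own Cfsg.Agent.* helpers here

set_option autoImplicit false
open Cfsg

namespace Cfsg.Agent.S3556

open scoped Pointwise

/-- existence of a minimal normal subgroup -/
theorem exists_minimal_normal {G : Type*} [Group G] [Finite G] [Nontrivial G] :
    ∃ N : Subgroup G, N.Normal ∧ N ≠ ⊥ ∧
      ∀ M : Subgroup G, M.Normal → M ≤ N → M = ⊥ ∨ M = N := by
  classical
  let S : Set (Subgroup G) := {N | N.Normal ∧ N ≠ ⊥}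
  have hS : S.Nonempty := ⟨⊤, inferInstance, top_ne_bot⟩
  obtain ⟨N, hNS, hNmin⟩ := (Set.toFinite S).exists_minimalFor (fun N : Subgroup G => Nat.card N) S hS
  refine ⟨N, hNS.1, hNS.2, fun M hM hMN => ?_⟩
  by_cases hMb : M = ⊥
  · exact Or.inl hMb
  · right
    have h1 : Nat.card N ≤ Nat.card M := hNmin ⟨hM, hMb⟩ (Subgroup.card_le_of_le hMN)
    exact Subgroup.eq_of_le_of_card_ge hMN h1

/-- a prime different from `p` dividing the order of a non-commutative simple group -/
theorem exists_prime_ne {T : Type*} [Group T] [Finite T] [IsSimpleGroup T]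
    (hT : ¬ IsMulCommutative T) (p : ℕ) (hp : p.Prime) :
    ∃ q : ℕ, q.Prime ∧ q ≠ p ∧ q ∣ Nat.card T := by
  by_contra hcon
  push Not at hcon
  have hall : ∀ {d : ℕ}, d.Prime → d ∣ Nat.card T → d = p := by
    intro d hd hdvd
    by_contra hne
    exact hcon d hd hne hdvd
  have hcard := Nat.eq_prime_pow_of_unique_prime_dvd (Nat.card_pos (α := T)).ne' hall
  have : Fact p.Prime := ⟨hp⟩
  have hpg : IsPGroup p T := IsPGroup.of_card hcard
  have hcenter : Subgroup.center T ≠ ⊥ := by
    have := hpg.center_nontrivial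
    exact (Subgroup.nontrivial_iff_ne_bot _).1 this
  have htop : Subgroup.center T = ⊤ :=
    ((Subgroup.center T).normal_of_characteristic.eq_bot_or_eq_top).resolve_left hcenter
  apply hT
  refine ⟨⟨fun x y => ?_⟩⟩
  have hy : y ∈ Subgroup.center T := by rw [htop]; trivial
  exact (Subgroup.mem_center_iff.1 hy) x

/-- in a faithful primitive group, nontrivial normal subgroups are transitive -/
theorem normal_pretransitive {G Ω : Type*} [Group G] [MulAction G Ω] [FaithfulSMul G Ω]
    [MulAction.IsPreprimitive G Ω] (N : Subgroup G) [N.Normal] (hN : N ≠ ⊥) :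
    MulAction.IsPretransitive N Ω := by
  apply MulAction.IsQuasiPreprimitive.isPretransitive_of_normal
  intro h
  apply hN
  rw [eq_bot_iff]
  intro n hn
  rw [Subgroup.mem_bot]
  apply FaithfulSMul.eq_of_smul_eq_smul (α := Ω)
  intro a
  have h1 : a ∈ MulAction.fixedPoints N Ω := by rw [h]; trivial
  have h2 := h1 ⟨n, hn⟩
  rw [one_smul]
  exact h2

/-- if the centralizer of a normal subgroup `N` is nontrivial then `N` is semiregular -/
theorem semiregular_of_centralizer {G Ω : Type*} [Group G] [MulAction G Ω] [FaithfulSMul G Ω]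
    [MulAction.IsPreprimitive G Ω] (N : Subgroup G) [N.Normal]
    (hC : Subgroup.centralizer (N : Set G) ≠ ⊥) (x : G) (hx : x ∈ N) (a : Ω)
    (hxa : x • a = a) : x = 1 := by
  have hCt : MulAction.IsPretransitive (Subgroup.centralizer (N : Set G)) Ω :=
    normal_pretransitive _ hC
  apply FaithfulSMul.eq_of_smul_eq_smul (α := Ω)
  intro b
  obtain ⟨c, rfl⟩ := MulAction.exists_smul_eq (Subgroup.centralizer (N : Set G)) a b
  have hc : x * (c : G) = (c : G) * x := (Subgroup.mem_centralizer_iff.1 c.2) x hx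
  rw [one_smul]
  show x • ((c : G) • a) = (c : G) • a
  rw [← mul_smul, hc, mul_smul, hxa]

/-- The product case: a transitive faithful group `T^m` with `m ≥ 2`, `T` simple with an element
of prime order `q ≠ p`, always has a derangement whose order is not a power of `p`. -/
theorem product_case {H Ω T : Type*} [Group H] [MulAction H Ω] [MulAction.IsPretransitive H Ω]
    [FaithfulSMul H Ω] [Group T] [Finite T] [IsSimpleGroup T] {m : ℕ} (e : H ≃* (Fin m → T))
    (i₀ i₁ : Fin m) (hi : i₀ ≠ i₁) (p q : ℕ) (hp : p.Prime) (hq : q.Prime) (hqp : q ≠ p)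
    (s : T) (hs : orderOf s = q)
    (hder : ∀ x : H, (∀ ω : Ω, x • ω ≠ ω) → ∃ k : ℕ, orderOf x = p ^ k) : False := by
  classical
  let ι₀ : T →* H := e.symm.toMonoidHom.comp (MonoidHom.mulSingle (fun _ : Fin m => T) i₀)
  let ι₁ : T →* H := e.symm.toMonoidHom.comp (MonoidHom.mulSingle (fun _ : Fin m => T) i₁)
  let π₀ : H →* T := (Pi.evalMonoidHom (fun _ : Fin m => T) i₀).comp e.toMonoidHom
  let π₁ : H →* T := (Pi.evalMonoidHom (fun _ : Fin m => T) i₁).comp e.toMonoidHom
  have hπ₀ι₀ : ∀ t, π₀ (ι₀ t) = t := by intro t; simp [π₀, ι₀]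
  have hπ₁ι₀ : ∀ t, π₁ (ι₀ t) = 1 := by intro t; simp [π₁, ι₀, Pi.mulSingle_eq_of_ne hi.symm]
  have hπ₁ι₁ : ∀ t, π₁ (ι₁ t) = t := by intro t; simp [π₁, ι₁]
  have hπ₀ι₁ : ∀ t, π₀ (ι₁ t) = 1 := by intro t; simp [π₀, ι₁, Pi.mulSingle_eq_of_ne hi]
  have hconj : ∀ (n : H) (t : T), n⁻¹ * ι₀ t * n = ι₀ ((π₀ n)⁻¹ * t * π₀ n) := by
    intro n t
    apply e.injective
    funext j
    by_cases hj : j = i₀
    · subst hj; simp [ι₀, π₀]
    · simp [ι₀, π₀, Pi.mulSingle_eq_of_ne hj]
  have hq1 : ∀ k, q ≠ p ^ k := by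
    intro k hk
    have h1 : q ∣ p ^ k := by rw [← hk]
    exact hqp ((Nat.prime_dvd_prime_iff_eq hq hp).1 (hq.dvd_of_dvd_pow h1))
  have hs1 : s ≠ 1 := by
    intro h
    rw [h, orderOf_one] at hs
    exact hq.one_lt.ne hs
  have hιinj : Function.Injective ι₀ := by
    intro t t' h
    have := congrArg π₀ h
    rwa [hπ₀ι₀, hπ₀ι₀] at this
  have key : ∀ a : Ω, ∀ t : T, ι₀ t • a = a := by
    intro a
    have hnd : ∀ x : H, (∀ n : H, n⁻¹ * x * n ∉ MulAction.stabilizer H a) →
        ∀ ω : Ω, x • ω ≠ ω := by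
      intro x hx ω hω
      obtain ⟨n, rfl⟩ := MulAction.exists_smul_eq H a ω
      apply hx n
      rw [MulAction.mem_stabilizer_iff, mul_smul, mul_smul, hω, inv_smul_smul]
    set Na := MulAction.stabilizer H a with hNa
    let R : Subgroup T := Na.map π₀
    by_cases hR : R = ⊤
    · let D : Subgroup T := Na.comap ι₀
      have hDn : D.Normal := by
        constructor
        intro t ht u
        have hu : u⁻¹ ∈ R := by rw [hR]; trivial
        obtain ⟨n, hn, hnu⟩ := hu
        show ι₀ (u * t * u⁻¹) ∈ Na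
        have h1 : ι₀ (u * t * u⁻¹) = n⁻¹ * ι₀ t * n := by rw [hconj, hnu]; simp
        rw [h1]
        exact Na.mul_mem (Na.mul_mem (Na.inv_mem hn) ht) hn
      rcases hDn.eq_bot_or_eq_top with hD | hD
      · exfalso
        have hder' : ∀ ω : Ω, ι₀ s • ω ≠ ω := by
          apply hnd
          intro n hn
          rw [hconj] at hn
          have h1 : (π₀ n)⁻¹ * s * π₀ n ∈ D := hn
          rw [hD, Subgroup.mem_bot] at h1
          apply hs1
          have h2 : s = π₀ n * ((π₀ n)⁻¹ * s * π₀ n) * (π₀ n)⁻¹ := by group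
          rw [h2, h1]; simp
        obtain ⟨k, hk⟩ := hder _ hder'
        rw [orderOf_injective ι₀ hιinj, hs] at hk
        exact hq1 k hk
      · intro t
        have h1 : t ∈ D := by rw [hD]; trivial
        exact h1
    · exfalso
      obtain ⟨t₀, ht₀⟩ := Cfsg.Agent.Lib.Helper73.exists_not_mem_conj_of_ne_top R hR
      have hder' : ∀ ω : Ω, (ι₀ t₀ * ι₁ s) • ω ≠ ω := by
        apply hnd
        intro n hn
        apply ht₀ (π₀ n)
        rw [Cfsg.Agent.Lib.Helper73.mem_conj_smul_iff]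
        refine ⟨_, hn, ?_⟩
        simp [map_mul, hπ₀ι₀, hπ₀ι₁]
      obtain ⟨k, hk⟩ := hder _ hder'
      have h1 : (ι₀ t₀ * ι₁ s) ^ (p ^ k) = 1 := by rw [← hk]; exact pow_orderOf_eq_one _
      have h2 : s ^ (p ^ k) = 1 := by
        have := congrArg π₁ h1
        simpa [map_pow, map_mul, hπ₁ι₀, hπ₁ι₁] using this
      have h3 : q ∣ p ^ k := by rw [← hs]; exact orderOf_dvd_of_pow_eq_one h2
      exact hqp ((Nat.prime_dvd_prime_iff_eq hq hp).1 (hq.dvd_of_dvd_pow h3))
  have h1 : ι₀ s = 1 := by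
    apply FaithfulSMul.eq_of_smul_eq_smul (α := Ω)
    intro a
    rw [key a s, one_smul]
  exact hs1 (hιinj (by rw [h1, map_one]))

theorem result {G Ω : Type*} [Group G] [Finite G] [MulAction G Ω] [FaithfulSMul G Ω] [Finite Ω]
    (hprim : MulAction.IsPreprimitive G Ω) (hΩ : 2 ≤ Nat.card Ω) (p : ℕ) (hp : p.Prime)
    (hder : ∀ g : G, (∀ ω : Ω, g • ω ≠ ω) → ∃ k : ℕ, orderOf g = p ^ k) :
    (∃ (N : Subgroup G) (r : ℕ), r.Prime ∧ N.Normal ∧ Cfsg.IsElementaryAbelian r N ∧
      MulAction.IsPretransitive N Ω ∧ ∀ a : Ω, MulAction.stabilizer N a = ⊥) ∨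
    (∃ T : Subgroup G, T.Normal ∧ IsSimpleGroup ↥T ∧ ¬ IsMulCommutative ↥T ∧
      Subgroup.centralizer (T : Set G) = ⊥) := by
  classical
  have hΩnt : Nontrivial Ω := Finite.one_lt_card_iff_nontrivial.1 hΩ
  have hGnt : Nontrivial G := by
    obtain ⟨a, b, hab⟩ := exists_pair_ne Ω
    obtain ⟨g, hg⟩ := MulAction.exists_smul_eq G a b
    refine ⟨⟨g, 1, fun h => hab ?_⟩⟩
    rw [← hg, h, one_smul]
  obtain ⟨N, hNn, hNb, hNmin⟩ := exists_minimal_normal (G := G)
  have hNtrans : MulAction.IsPretransitive N Ω := normal_pretransitive N hNb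
  by_cases hcomm : IsMulCommutative N
  · left
    have hc : ∀ x y : N, x * y = y * x := fun x y => hcomm.is_comm.comm x y
    have hcG : ∀ x ∈ N, ∀ y ∈ N, x * y = y * x := fun x hx y hy =>
      congrArg Subtype.val (hc ⟨x, hx⟩ ⟨y, hy⟩)
    have hreg : ∀ a : Ω, MulAction.stabilizer N a = ⊥ := by
      intro a
      rw [eq_bot_iff]
      intro n hn
      rw [Subgroup.mem_bot]
      apply FaithfulSMul.eq_of_smul_eq_smul (α := Ω)
      intro b
      obtain ⟨k, rfl⟩ := MulAction.exists_smul_eq N a b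
      rw [one_smul, ← mul_smul, hc n k, mul_smul, MulAction.mem_stabilizer_iff.1 hn]
    have hcard : Nat.card N ≠ 1 := fun h => hNb (Subgroup.card_eq_one.1 h)
    obtain ⟨r, hr, hrdvd⟩ := Nat.exists_prime_and_dvd hcard
    have : Fact r.Prime := ⟨hr⟩
    obtain ⟨x, hx⟩ := exists_prime_orderOf_dvd_card' r hrdvd
    let M : Subgroup G :=
      { carrier := {y | y ∈ N ∧ y ^ r = 1}
        mul_mem' := by
          rintro y z ⟨hy, hy1⟩ ⟨hz, hz1⟩
          refine ⟨N.mul_mem hy hz, ?_⟩
          have : Commute y z := hcG y hy z hz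
          rw [this.mul_pow, hy1, hz1, one_mul]
        one_mem' := ⟨N.one_mem, one_pow _⟩
        inv_mem' := by
          rintro y ⟨hy, hy1⟩
          refine ⟨N.inv_mem hy, ?_⟩
          rw [inv_pow, hy1, inv_one] }
    have hMn : M.Normal := by
      constructor
      rintro y ⟨hy, hy1⟩ g
      refine ⟨hNn.conj_mem y hy g, ?_⟩
      rw [conj_pow, hy1, mul_one, mul_inv_cancel]
    have hMle : M ≤ N := fun y hy => hy.1
    have hMb : M ≠ ⊥ := by
      intro h
      have h1 : (x : G) ∈ M := by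
        refine ⟨x.2, ?_⟩
        have := pow_orderOf_eq_one x
        rw [hx] at this
        have h2 := congrArg Subtype.val this
        simpa using h2
      rw [h, Subgroup.mem_bot] at h1
      have h2 : x = 1 := Subtype.ext h1
      rw [h2, orderOf_one] at hx
      exact hr.one_lt.ne hx
    have hMN : M = N := (hNmin M hMn hMle).resolve_left hMb
    refine ⟨N, r, hr, hNn, ⟨hcomm, fun a ha => ?_⟩, hNtrans, hreg⟩
    have h1 : a ∈ M := by rw [hMN]; exact ha
    exact h1.2
  · obtain ⟨T, instT, m, hTs, hm, ⟨e⟩⟩ := Cfsg.Agent.S0721.result N hNb hNmin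
    have hTfin : Finite T := by
      refine Finite.of_injective (fun t : T => e.symm (Pi.mulSingle (⟨0, hm⟩ : Fin m) t)) ?_
      intro t t' h
      exact Pi.mulSingle_injective _ (e.symm.injective h)
    have hTnc : ¬ IsMulCommutative T := by
      intro hT
      apply hcomm
      refine ⟨⟨fun x y => ?_⟩⟩
      apply e.injective
      rw [map_mul, map_mul]
      funext j
      exact hT.is_comm.comm _ _
    obtain ⟨q, hq, hqp, hqdvd⟩ := exists_prime_ne hTnc p hp
    have : Fact q.Prime := ⟨hq⟩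
    obtain ⟨s, hs⟩ := exists_prime_orderOf_dvd_card' q hqdvd
    have hderN : ∀ x : N, (∀ ω : Ω, x • ω ≠ ω) → ∃ k : ℕ, orderOf x = p ^ k := by
      intro x hx
      obtain ⟨k, hk⟩ := hder (x : G) (fun ω => hx ω)
      exact ⟨k, by rw [← hk, Subgroup.orderOf_coe]⟩
    by_cases hm2 : 2 ≤ m
    · exfalso
      exact product_case e ⟨0, hm⟩ ⟨1, hm2⟩ (by simp [Fin.ext_iff]) p q hp hq hqp s hs hderN
    · have hm1 : m = 1 := by omega
      subst hm1
      have hNnt : Nontrivial N := (Subgroup.nontrivial_iff_ne_bot N).2 hNb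
      have hNs : IsSimpleGroup N := (e.trans (MulEquiv.funUnique (Fin 1) T)).isSimpleGroup
      by_cases hC : Subgroup.centralizer (N : Set G) = ⊥
      · right
        exact ⟨N, hNn, hNs, hcomm, hC⟩
      · exfalso
        let y : N := e.symm (Pi.mulSingle (0 : Fin 1) s)
        have hy : orderOf y = q := by
          rw [← hs]
          have hinj : Function.Injective
              (e.symm.toMonoidHom.comp (MonoidHom.mulSingle (fun _ : Fin 1 => T) 0)) := by
            intro t t' h
            exact Pi.mulSingle_injective _ (e.symm.injective h)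
          exact orderOf_injective _ hinj s
        have hyder : ∀ ω : Ω, y • ω ≠ ω := by
          intro ω hω
          have h1 : (y : G) = 1 := semiregular_of_centralizer N hC (y : G) y.2 ω hω
          have h2 : y = 1 := Subtype.ext h1
          rw [h2, orderOf_one] at hy
          exact hq.one_lt.ne hy
        obtain ⟨k, hk⟩ := hderN y hyder
        rw [hy] at hk
        have h1 : q ∣ p ^ k := by rw [← hk]
        exact hqp ((Nat.prime_dvd_prime_iff_eq hq hp).1 (hq.dvd_of_dvd_pow h1))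

end Cfsg.Agent.S3556
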