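import Cfsg.Statements.S3501
import Mathlib
import Cfsg.Agent.S0721
import Cfsg.Agent.S3556
import Cfsg.Agent.Lib.Helper59.ProdDerange
import Cfsg.Agent.Lib.Helper59.Derangement
-- import your own Cfsg.Agent.* helpers here

set_option autoImplicit false
open Cfsg

namespace Cfsg.Agent.S3501

open Cfsg.Agent.Lib.Helper59

/-- elements of a normal subgroup with centralizers (inside it) of different orders are not
conjugate in the big group -/
theorem not_isConj_of_card_centralizer_ne {G : Type*} [Group G] (N : Subgroup G) [N.Normal]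
    (x y : N)
    (h : Nat.card (Subgroup.centralizer ({x} : Set N)) ≠ Nat.card (Subgroup.centralizer ({y} : Set N))) :
    ¬ IsConj (x : G) (y : G) := by
  intro hc
  obtain ⟨g, hg⟩ := isConj_iff.1 hc
  exact h (card_centralizer_conj N x y g hg.symm)

/-- Forward direction: a unique class of derangements forces sharp 2-transitivity. -/
theorem forward {G : Type*} [Group G] [Finite G] {Ω : Type*} [Fintype Ω] [MulAction G Ω]
    [FaithfulSMul G Ω] (hΩ : 2 ≤ Fintype.card Ω) (hprim : MulAction.IsPreprimitive G Ω)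
    (hnas : ¬ ∃ T : Subgroup G, T.Normal ∧ IsSimpleGroup T ∧ ¬ IsMulCommutative T ∧
      Subgroup.centralizer (T : Set G) = ⊥)
    (hκ : Nat.card {c : ConjClasses G // ∃ g : G, ConjClasses.mk g = c ∧ ∀ ω : Ω, g • ω ≠ ω} = 1) :
    MulAction.IsMultiplyPretransitive G Ω 2 ∧
      ∀ g : G, g ≠ 1 → ∀ a b : Ω, a ≠ b → g • a = a → g • b ≠ b := by
  classical
  have hΩnt : Nontrivial Ω := Fintype.one_lt_card_iff_nontrivial.1 hΩ
  have hGnt : Nontrivial G := by
    obtain ⟨a, b, hab⟩ := exists_pair_ne Ω
    obtain ⟨g, hg⟩ := MulAction.exists_smul_eq G a b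
    refine ⟨⟨g, 1, fun h => hab ?_⟩⟩
    rw [← hg, h, one_smul]
  obtain ⟨N, hNn, hNb, hNmin⟩ := Cfsg.Agent.S3556.exists_minimal_normal (G := G)
  have hNtrans : MulAction.IsPretransitive N Ω := Cfsg.Agent.S3556.normal_pretransitive N hNb
  obtain ⟨d₀, hd₀, hall⟩ := derClasses_one hκ
  by_cases hcomm : IsMulCommutative N
  · have hc' : ∀ x y : N, x * y = y * x := fun x y => hcomm.is_comm.comm x y
    have hc : ∀ x ∈ N, ∀ y ∈ N, x * y = y * x := fun x hx y hy =>
      congrArg Subtype.val (hc' ⟨x, hx⟩ ⟨y, hy⟩)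
    -- nonidentity elements of N are derangements
    have hNder : ∀ x ∈ N, x ≠ 1 → ∀ ω : Ω, x • ω ≠ ω := fun x hx hx1 ω hω =>
      hx1 (eq_one_of_comm_of_smul_eq N hc hx hω)
    obtain ⟨n₀, hn₀N, hn₀1⟩ : ∃ n₀ ∈ N, n₀ ≠ 1 := by
      by_contra hcon
      push Not at hcon
      apply hNb
      rw [eq_bot_iff]
      intro x hx
      rw [Subgroup.mem_bot]
      exact hcon x hx
    have hD : ∀ x : G, (∀ ω : Ω, x • ω ≠ ω) → x ∈ N := by
      intro x hx
      have h1 : IsConj n₀ x := (hall n₀ (hNder n₀ hn₀N hn₀1)).symm.trans (hall x hx)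
      obtain ⟨g, hg⟩ := isConj_iff.1 h1
      rw [← hg]
      exact hNn.conj_mem _ hn₀N g
    have hconj : ∀ d ∈ N, ∀ d' ∈ N, d ≠ 1 → d' ≠ 1 → IsConj d d' := by
      intro d hd d' hd' hd1 hd'1
      exact (hall d (hNder d hd hd1)).symm.trans (hall d' (hNder d' hd' hd'1))
    refine ⟨two_transitive_of_conj N hc hconj, ?_⟩
    intro g hg a b hab ha
    exact fix_le_one_of_derangements_subset N hc hD g hg a b hab ha
  · exfalso
    obtain ⟨T, instT, m, hTs, hm, ⟨e⟩⟩ := Cfsg.Agent.S0721.result N hNb hNmin
    have hTfin : Finite T := by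
      refine Finite.of_injective (fun t : T => e.symm (Pi.mulSingle (⟨0, hm⟩ : Fin m) t)) ?_
      intro t t' h
      exact Pi.mulSingle_injective _ (e.symm.injective h)
    have hTnc : ¬ IsMulCommutative T := by
      intro hT
      apply hcomm
      refine ⟨⟨fun x y => ?_⟩⟩
      apply e.injective
      rw [map_mul, map_mul]
      funext j
      exact hT.is_comm.comm _ _
    by_cases hm2 : 2 ≤ m
    · obtain ⟨x, y, z, hx, hy, hz, hxy, hxz, hyz⟩ :=
        exists_three_derangements (Ω := Ω) e hTnc hm2
      exact derClasses_one_not_two hκ (x : G) (y : G) (fun ω => hx ω) (fun ω => hy ω)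
        (not_isConj_of_card_centralizer_ne N x y hxy)
    · have hm1 : m = 1 := by omega
      subst hm1
      have hNs : IsSimpleGroup N := (e.trans (MulEquiv.funUnique (Fin 1) T)).isSimpleGroup
      by_cases hC : Subgroup.centralizer (N : Set G) = ⊥
      · exact hnas ⟨N, hNn, hNs, hcomm, hC⟩
      · obtain ⟨a, b, ha, hb, hab⟩ := exists_two_prime_orders hTnc
        have hinj := factorHom_injective e (0 : Fin 1)
        have horder : ∀ t : T, orderOf ((factorHom e 0 t : N) : G) = orderOf t := by
          intro t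
          rw [Subgroup.orderOf_coe]
          exact orderOf_injective _ hinj t
        have hder : ∀ t : T, (orderOf t).Prime → ∀ ω : Ω, ((factorHom e 0 t : N) : G) • ω ≠ ω := by
          intro t ht ω hω
          have h1 := Cfsg.Agent.S3556.semiregular_of_centralizer N hC _ (factorHom e 0 t).2 ω hω
          rw [← horder t, h1, orderOf_one] at ht
          exact Nat.not_prime_one ht
        apply derClasses_one_not_two hκ _ _ (hder a ha) (hder b hb)
        intro hconj
        obtain ⟨g, hg⟩ := isConj_iff.1 hconj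
        apply hab
        rw [← horder a, ← horder b, ← hg, orderOf_conj_eq]

/-- Backward direction: a sharply 2-transitive group has exactly one class of derangements. -/
theorem backward {G : Type*} [Group G] [Finite G] {Ω : Type*} [Fintype Ω] [MulAction G Ω]
    (hΩ : 2 ≤ Fintype.card Ω) (h2 : MulAction.IsMultiplyPretransitive G Ω 2)
    (hsharp : ∀ g : G, g ≠ 1 → ∀ a b : Ω, a ≠ b → g • a = a → g • b ≠ b) :
    Nat.card {c : ConjClasses G // ∃ g : G, ConjClasses.mk g = c ∧ ∀ ω : Ω, g • ω ≠ ω} = 1 := by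
  classical
  have : Fintype G := Fintype.ofFinite G
  have hΩnt : Nontrivial Ω := Fintype.one_lt_card_iff_nontrivial.1 hΩ
  have htrans : MulAction.IsPretransitive G Ω := MulAction.isPretransitive_of_is_two_pretransitive
  obtain ⟨a₀, b₀, hab₀⟩ := exists_pair_ne Ω
  set n := Fintype.card Ω with hn
  -- the derangements
  let D : Finset G := Finset.univ.filter (fun g => ∀ ω : Ω, g • ω ≠ ω)
  -- Step 1: |D| = n - 1
  have hfix : ∀ g : G, Nat.card (MulAction.fixedBy Ω g) + (if (∀ ω : Ω, g • ω ≠ ω) then 1 else 0) =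
      1 + (if g = 1 then n - 1 else 0) := by
    intro g
    by_cases hg : g = 1
    · subst hg
      have h1 : Nat.card (MulAction.fixedBy Ω (1 : G)) = n := by
        rw [MulAction.fixedBy_one_eq_univ, Nat.card_coe_set_eq, Set.ncard_univ,
          Nat.card_eq_fintype_card]
      have h2 : ¬ ∀ ω : Ω, (1 : G) • ω ≠ ω := fun h => h a₀ (one_smul _ _)
      rw [h1, if_neg h2, if_pos rfl]
      omega
    · rw [if_neg hg]
      by_cases hder : ∀ ω : Ω, g • ω ≠ ω
      · rw [if_pos hder]
        have h1 : Nat.card (MulAction.fixedBy Ω g) = 0 := by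
          have : IsEmpty (MulAction.fixedBy Ω g) := ⟨fun ⟨ω, hω⟩ => hder ω hω⟩
          exact Nat.card_of_isEmpty
        rw [h1]
      · rw [if_neg hder]
        push Not at hder
        obtain ⟨ω, hω⟩ := hder
        have h1 : Nat.card (MulAction.fixedBy Ω g) = 1 := by
          rw [Nat.card_eq_one_iff_unique]
          refine ⟨⟨?_⟩, ⟨⟨ω, hω⟩⟩⟩
          rintro ⟨x, hx⟩ ⟨y, hy⟩
          apply Subtype.ext
          by_contra hxy
          exact hsharp g hg x y hxy hx hy
        rw [h1]
  have hsum := Finset.sum_congr (s₁ := (Finset.univ : Finset G)) rfl (fun g _ => hfix g)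
  rw [Finset.sum_add_distrib, Finset.sum_add_distrib, burnside_transitive, Finset.sum_boole,
    Finset.sum_ite_eq' Finset.univ (1 : G)] at hsum
  simp only [Finset.sum_const, Finset.card_univ, smul_eq_mul, mul_one, Finset.mem_univ,
    if_true, Nat.card_eq_fintype_card] at hsum
  have hDcard : D.card = n - 1 := by
    have : (Finset.univ.filter (fun g : G => ∀ ω : Ω, g • ω ≠ ω)).card = D.card := rfl
    simp only [Nat.cast_id] at hsum
    omega
  -- Step 3: |G| ≥ n (n - 1)
  have hGcard : n * (n - 1) ≤ Fintype.card G := by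
    have hle : Fintype.card (Fin 2) ≤ Fintype.card Ω := by simpa using hΩ
    obtain ⟨x₀⟩ := Function.Embedding.nonempty_of_card_le hle
    have hsurj : Function.Surjective (fun g : G => g • x₀) := by
      intro y
      exact MulAction.exists_smul_eq G x₀ y
    have h1 := Fintype.card_le_of_surjective _ hsurj
    rw [Fintype.card_embedding_eq] at h1
    simp only [Fintype.card_fin] at h1
    have h3 : (Fintype.card Ω).descFactorial 2 = n * (n - 1) := by
      rw [Nat.descFactorial_succ, Nat.descFactorial_one]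
      rw [mul_comm]
    rw [h3] at h1
    exact h1
  -- a derangement exists
  have hDne : D.Nonempty := by
    rw [← Finset.card_pos, hDcard]; omega
  obtain ⟨d, hdD⟩ := hDne
  have hd : ∀ ω : Ω, d • ω ≠ ω := (Finset.mem_filter.1 hdD).2
  -- Step 2: G injects into cls(d) × Ω
  let cls : Finset G := Finset.univ.filter (fun x => IsConj d x)
  have hclsD : cls ⊆ D := by
    intro x hx
    have hx' : IsConj d x := (Finset.mem_filter.1 hx).2
    exact Finset.mem_filter.2 ⟨Finset.mem_univ _, derangement_of_isConj hx' hd⟩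
  have hinj : Function.Injective (fun g : G => ((⟨g * d * g⁻¹,
      Finset.mem_filter.2 ⟨Finset.mem_univ _, isConj_iff.2 ⟨g, rfl⟩⟩⟩ : cls), g • a₀)) := by
    intro g g' hgg
    simp only [Prod.mk.injEq, Subtype.mk.injEq] at hgg
    obtain ⟨h1, h2⟩ := hgg
    -- u = g'⁻¹ g centralizes d and fixes a₀
    have hu : (g'⁻¹ * g) * d = d * (g'⁻¹ * g) := by
      calc (g'⁻¹ * g) * d = g'⁻¹ * (g * d * g⁻¹) * g := by group
        _ = g'⁻¹ * (g' * d * g'⁻¹) * g := by rw [h1]
        _ = d * (g'⁻¹ * g) := by group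
    have hua : (g'⁻¹ * g) • a₀ = a₀ := by rw [mul_smul, h2, inv_smul_smul]
    by_contra hne
    have hu1 : g'⁻¹ * g ≠ 1 := by
      intro h
      apply hne
      calc g = g' * (g'⁻¹ * g) := by group
        _ = g' := by rw [h, mul_one]
    apply hsharp _ hu1 a₀ (d • a₀) (hd a₀).symm hua
    rw [← mul_smul, hu, mul_smul, hua]
  have hle := Fintype.card_le_of_injective _ hinj
  rw [Fintype.card_prod, Fintype.card_coe] at hle
  have hcls : n - 1 ≤ cls.card := by
    have hnpos : 0 < n := by omega
    have h1 : n * (n - 1) ≤ cls.card * n := le_trans hGcard hle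
    rw [mul_comm] at h1
    exact Nat.le_of_mul_le_mul_right h1 hnpos
  have hclseq : cls = D := Finset.eq_of_subset_of_card_le hclsD (by rw [hDcard]; exact hcls)
  apply derClasses_one_of d hd
  intro x hx
  have hxD : x ∈ D := Finset.mem_filter.2 ⟨Finset.mem_univ _, hx⟩
  rw [← hclseq] at hxD
  exact (Finset.mem_filter.1 hxD).2

/-- Let a finite group G act faithfully and primitively on a finite set Ω with at least two points, and suppose G is not almost simple (it has no non-abelian simple normal subgroup with trivial centralizer). Then the derangements of G form a single conjugacy class if and only if G is sharply 2-transitive (2-transitive, and no non-identity element fixes two points). -/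
theorem result {G : Type*} [Group G] [Finite G] {Ω : Type*} [Fintype Ω] [MulAction G Ω] [FaithfulSMul G Ω] (hΩ : 2 ≤ Fintype.card Ω) (hprim : MulAction.IsPreprimitive G Ω) (hnas : ¬ ∃ T : Subgroup G, T.Normal ∧ IsSimpleGroup T ∧ ¬ IsMulCommutative T ∧ Subgroup.centralizer (T : Set G) = ⊥) :
    Nat.card {c : ConjClasses G // ∃ g : G, ConjClasses.mk g = c ∧ ∀ ω : Ω, g • ω ≠ ω} = 1 ↔ (MulAction.IsMultiplyPretransitive G Ω 2 ∧ ∀ g : G, g ≠ 1 → ∀ a b : Ω, a ≠ b → g • a = a → g • b ≠ b) := by
  constructor
  · intro hκ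
    exact forward hΩ hprim hnas hκ
  · rintro ⟨h2, hsharp⟩
    exact backward hΩ h2 hsharp

end Cfsg.Agent.S3501
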