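import Cfsg.Statements.S3504
-- import your own Cfsg.Agent.* helpers here

set_option autoImplicit false
open Cfsg

namespace Cfsg.Agent.S3504

open Equiv.Perm

/-- the property: a derangement of prime order -/
def IsPD {n : ℕ} (g : Equiv.Perm (Fin n)) : Prop := (orderOf g).Prime ∧ ∀ i : Fin n, g i ≠ i

theorem support_eq_univ {n : ℕ} (g : Equiv.Perm (Fin n)) (h : ∀ i : Fin n, g i ≠ i) :
    g.support = Finset.univ := by
  ext i
  simp [Equiv.Perm.mem_support, h i]

theorem cycleType_of_isPD {n : ℕ} (g : Equiv.Perm (Fin n)) (hg : IsPD g) :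
    orderOf g ∣ n ∧ g.cycleType = Multiset.replicate (n / orderOf g) (orderOf g) := by
  obtain ⟨hq, hd⟩ := hg
  obtain ⟨k, hk⟩ := Equiv.Perm.cycleType_prime_order hq
  have hsum : g.cycleType.sum = n := by
    rw [Equiv.Perm.sum_cycleType, support_eq_univ g hd, Finset.card_univ, Fintype.card_fin]
  rw [hk, Multiset.sum_replicate, smul_eq_mul] at hsum
  have hdvd : orderOf g ∣ n := ⟨k + 1, by linarith⟩
  refine ⟨hdvd, ?_⟩
  rw [hk]
  congr 1
  exact (Nat.div_eq_of_eq_mul_left hq.pos hsum.symm).symm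

theorem exists_isPD {n : ℕ} (q : ℕ) (hq : q.Prime) (hqn : q ∣ n) (hn : 0 < n) :
    ∃ g : Equiv.Perm (Fin n), IsPD g ∧ orderOf g = q := by
  have hsum : (Multiset.replicate (n / q) q).sum = n := by
    rw [Multiset.sum_replicate, smul_eq_mul, Nat.div_mul_cancel hqn]
  obtain ⟨g, hg⟩ := (Equiv.Perm.exists_with_cycleType_iff (Fin n)
    (m := Multiset.replicate (n / q) q)).mpr ⟨by rw [hsum, Fintype.card_fin], by
      intro a ha
      rw [Multiset.eq_of_mem_replicate ha]
      exact hq.two_le⟩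
  have hpos : 0 < n / q := Nat.div_pos (Nat.le_of_dvd hn hqn) hq.pos
  have hord : orderOf g = q := by
    rw [← Equiv.Perm.lcm_cycleType, hg]
    obtain ⟨k, hk⟩ : ∃ k, n / q = k + 1 := ⟨n / q - 1, by omega⟩
    rw [hk]
    clear hk
    induction k with
    | zero => simp
    | succ k ih =>
      rw [Multiset.replicate_succ, Multiset.lcm_cons, ih]
      simp
  refine ⟨g, ⟨by rw [hord]; exact hq, ?_⟩, hord⟩
  have hcard : g.support.card = n := by
    rw [← Equiv.Perm.sum_cycleType, hg, hsum]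
  have huniv : g.support = Finset.univ := by
    apply Finset.eq_univ_of_card
    rw [hcard, Fintype.card_fin]
  intro i
  have : i ∈ g.support := by rw [huniv]; exact Finset.mem_univ i
  exact Equiv.Perm.mem_support.mp this

/-- For n ≥ 5, the fixed-point-free permutations of prime order in the symmetric group of degree n form a single conjugacy class if and only if n is a prime power. -/
theorem result (n : ℕ) (hn : 5 ≤ n) :
    Nat.card {c : ConjClasses (Equiv.Perm (Fin n)) // ∃ g : Equiv.Perm (Fin n), ConjClasses.mk g = c ∧ (orderOf g).Prime ∧ ∀ i : Fin n, g i ≠ i} = 1 ↔ IsPrimePow n := by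
  have hn0 : 0 < n := by omega
  rw [Nat.card_eq_one_iff_unique]
  constructor
  · rintro ⟨hsub, _⟩
    rw [isPrimePow_iff_unique_prime_dvd]
    obtain ⟨q1, hq1, hq1n⟩ := Nat.exists_prime_and_dvd (show n ≠ 1 by omega)
    refine ⟨q1, ⟨hq1, hq1n⟩, ?_⟩
    rintro q2 ⟨hq2, hq2n⟩
    obtain ⟨g1, hg1, ho1⟩ := exists_isPD q1 hq1 hq1n hn0
    obtain ⟨g2, hg2, ho2⟩ := exists_isPD q2 hq2 hq2n hn0
    have h12 := @Subsingleton.elim _ hsub
      ⟨ConjClasses.mk g1, g1, rfl, hg1.1, hg1.2⟩ ⟨ConjClasses.mk g2, g2, rfl, hg2.1, hg2.2⟩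
    have h12' : ConjClasses.mk g1 = ConjClasses.mk g2 := congrArg Subtype.val h12
    rw [ConjClasses.mk_eq_mk_iff_isConj, Equiv.Perm.isConj_iff_cycleType_eq] at h12'
    have : orderOf g1 = orderOf g2 := by
      rw [← Equiv.Perm.lcm_cycleType, ← Equiv.Perm.lcm_cycleType, h12']
    rw [← ho1, ← ho2, this]
  · intro hpp
    rw [isPrimePow_nat_iff] at hpp
    obtain ⟨q, k, hq, hk, rfl⟩ := hpp
    have hqn : q ∣ q ^ k := dvd_pow_self q (by omega)
    constructor
    · constructor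
      rintro ⟨c1, g1, rfl, hg1⟩ ⟨c2, g2, rfl, hg2⟩
      apply Subtype.ext
      change ConjClasses.mk g1 = ConjClasses.mk g2
      rw [ConjClasses.mk_eq_mk_iff_isConj, Equiv.Perm.isConj_iff_cycleType_eq]
      obtain ⟨hd1, hc1⟩ := cycleType_of_isPD g1 hg1
      obtain ⟨hd2, hc2⟩ := cycleType_of_isPD g2 hg2
      have e1 : orderOf g1 = q :=
        (Nat.prime_dvd_prime_iff_eq hg1.1 hq).mp (hg1.1.dvd_of_dvd_pow hd1)
      have e2 : orderOf g2 = q :=
        (Nat.prime_dvd_prime_iff_eq hg2.1 hq).mp (hg2.1.dvd_of_dvd_pow hd2)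
      rw [hc1, hc2, e1, e2]
    · obtain ⟨g, hg, _⟩ := exists_isPD q hq hqn hn0
      exact ⟨⟨ConjClasses.mk g, g, rfl, hg.1, hg.2⟩⟩

end Cfsg.Agent.S3504
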