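import Cfsg.Statements.S3508
import Cfsg.Agent.Lib.Helper58.ConjModule
import Cfsg.Agent.Lib.Helper58.UnipotentSum

set_option autoImplicit false
open Cfsg

namespace Cfsg.Agent.S3508


open Cfsg.Agent.Lib.Helper58 in
/-- key lemma: if `m < p ^ k` then `g ^ (p ^ k) = 1`. -/
theorem pow_eq_one_of_lt {G : Type*} [Group G] [Finite G] {Ω : Type*} [Fintype Ω] [MulAction G Ω]
    [FaithfulSMul G Ω] (p m : ℕ) (hp : p.Prime) (hcard : Fintype.card Ω = p ^ m)
    (N : Subgroup G) [hN : N.Normal] (hNc : ∀ a b : N, a * b = b * a) (hNp : ∀ n ∈ N, n ^ p = 1)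
    (hNtr : MulAction.IsPretransitive N Ω) (hNreg : ∀ ω : Ω, MulAction.stabilizer N ω = ⊥)
    (g : G) (r : ℕ) (hg : g ^ (p ^ r) = 1) (k : ℕ) (hk : m < p ^ k) : g ^ (p ^ k) = 1 := by
  haveI : Fact p.Prime := ⟨hp⟩
  apply FaithfulSMul.eq_of_smul_eq_smul (α := Ω)
  intro ω
  rw [one_smul]
  obtain ⟨b, hb⟩ := hNtr.exists_smul_eq ω (g • ω)
  have hb' : (b : G) • ω = g • ω := hb
  set h : G := (b : G)⁻¹ * g with hh
  have hfix : h • ω = ω := by
    rw [hh, mul_smul, ← hb', inv_smul_smul]
  have hgb : g = (b : G) * h := by rw [hh, mul_inv_cancel_left]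
  obtain ⟨A, iA, iM, e, Φ, hadd, h0, hconj⟩ := exists_conj_module N p hNc hNp
  haveI : Finite A := Finite.of_equiv N e
  -- elements of N act trivially
  have hΦN : ∀ n : N, Φ (n : G) = 1 := by
    intro n
    apply LinearMap.ext
    intro a
    obtain ⟨n', rfl⟩ := e.surjective a
    rw [hconj, Module.End.one_apply]
    apply congrArg e
    apply Subtype.ext
    have h1 := congrArg (fun x : N => (x : G)) (hNc n n')
    simp only [Subgroup.coe_mul] at h1
    change (n : G) * n' * (n : G)⁻¹ = n'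
    rw [h1, mul_inv_cancel_right]
  set c : Module.End (ZMod p) A := Φ h with hc
  have hcg : c = Φ g := by
    rw [hc, hh, map_mul]
    have := hΦN b⁻¹
    rw [Subgroup.coe_inv] at this
    rw [this, one_mul]
  have hcpow : c ^ (p ^ r) = 1 := by
    rw [hcg, ← map_pow, hg, map_one]
  -- cardinality
  have hcardA : Nat.card A = p ^ m := by
    rw [← Nat.card_congr e, ← hcard, ← Nat.card_eq_fintype_card]
    apply Nat.card_eq_of_bijective (fun n : N => n • ω)
    constructor
    · intro n₁ n₂ h12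
      have h12' : n₁ • ω = n₂ • ω := h12
      have hmem : n₂⁻¹ * n₁ ∈ MulAction.stabilizer N ω := by
        rw [MulAction.mem_stabilizer_iff, mul_smul, h12', inv_smul_smul]
      rw [hNreg ω, Subgroup.mem_bot] at hmem
      have := congrArg (fun x => n₂ * x) hmem
      simpa using this
    · intro ω'
      exact hNtr.exists_smul_eq ω ω'
  have hsum := geom_sum_eq_zero p c r hcpow m hcardA k hk
  -- the induction
  have hind : ∀ j : ℕ, g ^ j =
      ((e.symm ((∑ i ∈ Finset.range j, c ^ i) (e b)) : N) : G) * h ^ j := by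
    intro j
    induction j with
    | zero =>
      have : e.symm 0 = 1 := by rw [← h0, e.symm_apply_apply]
      simp [this]
    | succ j ih =>
      have hcj : (c ^ j) (e b) = e ⟨h ^ j * b * (h ^ j)⁻¹, hN.conj_mem b b.2 (h ^ j)⟩ := by
        rw [hc, ← map_pow, hconj]
      have hstep : e.symm ((∑ i ∈ Finset.range (j + 1), c ^ i) (e b)) =
          e.symm ((∑ i ∈ Finset.range j, c ^ i) (e b)) *
            ⟨h ^ j * b * (h ^ j)⁻¹, hN.conj_mem b b.2 (h ^ j)⟩ := by
        apply e.injective
        rw [e.apply_symm_apply, hadd, e.apply_symm_apply, Finset.sum_range_succ,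
          LinearMap.add_apply, hcj]
      rw [pow_succ, ih, hstep, Subgroup.coe_mul]
      change _ = _ * (h ^ j * (b : G) * (h ^ j)⁻¹) * h ^ (j + 1)
      rw [pow_succ]
      conv_lhs => rw [hgb]
      group
  have hfin := hind (p ^ k)
  rw [hsum] at hfin
  have he0 : e.symm 0 = 1 := by rw [← h0, e.symm_apply_apply]
  rw [LinearMap.zero_apply, he0, Subgroup.coe_one, one_mul] at hfin
  rw [hfin]
  exact MulAction.mem_stabilizer_iff.mp
    (Subgroup.pow_mem _ (MulAction.mem_stabilizer_iff.mpr hfix) _)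

theorem two_pow_ge (k : ℕ) (hk : 2 ≤ k) : k + 2 ≤ 2 ^ k := by
  induction k, hk using Nat.le_induction with
  | base => norm_num
  | succ k hk ih => rw [pow_succ]; omega

theorem three_pow_ge (k : ℕ) (hk : 1 ≤ k) : k + 2 ≤ 3 ^ k := by
  induction k, hk using Nat.le_induction with
  | base => norm_num
  | succ k hk ih => rw [pow_succ]; omega

/-- Let a finite group G act faithfully on a set Ω with p ^ m points (p prime) and have an elementary abelian normal p-subgroup N acting regularly on Ω (so G is a group of affine transformations of an m-dimensional space over the field with p elements). If G contains an element of order p ^ r with r ≥ 1, then p ^ (r − 1) ≤ m. In particular an element of order p ^ m forces m ≤ 2, and m ≤ 1 when p is odd. -/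
theorem result {G : Type*} [Group G] [Finite G] {Ω : Type*} [Fintype Ω] [MulAction G Ω] [FaithfulSMul G Ω] (p m : ℕ) (hp : p.Prime) (hcard : Fintype.card Ω = p ^ m)
    (N : Subgroup G) [N.Normal] (hNc : IsMulCommutative N) (hNp : ∀ n ∈ N, n ^ p = 1)
    (hNtr : MulAction.IsPretransitive N Ω) (hNreg : ∀ ω : Ω, MulAction.stabilizer N ω = ⊥)
    (g : G) (r : ℕ) (hr : 1 ≤ r) (hg : orderOf g = p ^ r) :
    p ^ (r - 1) ≤ m ∧ (r = m → m ≤ 2 ∧ (2 < p → m ≤ 1)) := by
  have hNc' : ∀ a b : N, a * b = b * a := fun a b => hNc.is_comm.comm a b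
  have key : ∀ k : ℕ, m < p ^ k → g ^ (p ^ k) = 1 := fun k hk =>
    pow_eq_one_of_lt p m hp hcard N hNc' hNp hNtr hNreg g r (by rw [← hg]; exact pow_orderOf_eq_one g)
      k hk
  have h1 : p ^ (r - 1) ≤ m := by
    by_contra hlt
    push Not at hlt
    have h2 := key (r - 1) hlt
    have h3 : orderOf g ∣ p ^ (r - 1) := orderOf_dvd_of_pow_eq_one h2
    rw [hg] at h3
    have h4 := Nat.le_of_dvd (pow_pos hp.pos _) h3
    have h5 : p ^ (r - 1) < p ^ r := Nat.pow_lt_pow_right hp.one_lt (by omega)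
    omega
  refine ⟨h1, ?_⟩
  intro hrm
  subst hrm
  constructor
  · by_contra hlt
    push Not at hlt
    have h2 := two_pow_ge (r - 1) (by omega)
    have h3 : 2 ^ (r - 1) ≤ p ^ (r - 1) := Nat.pow_le_pow_left hp.two_le _
    omega
  · intro hp2
    by_contra hlt
    push Not at hlt
    have h2 := three_pow_ge (r - 1) (by omega)
    have h3 : 3 ^ (r - 1) ≤ p ^ (r - 1) := Nat.pow_le_pow_left hp2 _
    omega

end Cfsg.Agent.S3508
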