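import Cfsg.Statements.S3511
-- import your own Cfsg.Agent.* helpers here

set_option autoImplicit false
open Cfsg

namespace Cfsg.Agent.S3511

theorem pow_fix {G : Type*} [Group G] {Ω : Type*} [MulAction G Ω] (x : G) (ω : Ω)
    (hx : x • ω = ω) (m : ℕ) : (x ^ m) • ω = ω := by
  induction m with
  | zero => simp
  | succ m ihm => rw [pow_succ, mul_smul, hx, ihm]

theorem aux {G : Type*} [Group G] [Finite G] {Ω : Type*} [MulAction G Ω]
    (h : ∀ g : G, Squarefree (orderOf g) → ∃ ω : Ω, MulAction.stabilizer (Subgroup.zpowers g) ω = ⊥) :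
    ∀ n : ℕ, ∀ g : G, orderOf g = n → ∃ ω : Ω, MulAction.stabilizer (Subgroup.zpowers g) ω = ⊥ := by
  intro n
  induction n using Nat.strong_induction_on with
  | _ n ih =>
    intro g hg
    by_cases hsq : Squarefree (orderOf g)
    · exact h g hsq
    · rw [Nat.squarefree_iff_prime_squarefree] at hsq
      push Not at hsq
      obtain ⟨p, hp, hpp⟩ := hsq
      have hn0 : 0 < orderOf g := orderOf_pos g
      have hpn : p ∣ orderOf g := dvd_trans (dvd_mul_right p p) hpp
      have hord : orderOf (g ^ p) = orderOf g / p := orderOf_pow_of_dvd hp.ne_zero hpn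
      have hlt : orderOf (g ^ p) < n := by
        rw [hord, ← hg]; exact Nat.div_lt_self hn0 hp.one_lt
      obtain ⟨ω, hω⟩ := ih _ hlt (g ^ p) rfl
      refine ⟨ω, ?_⟩
      rw [eq_bot_iff]
      rintro ⟨x, hx⟩ hxfix
      rw [Subgroup.mem_zpowers_iff] at hx
      obtain ⟨k, rfl⟩ := hx
      rw [MulAction.mem_stabilizer_iff] at hxfix
      have hfix : (g ^ k) • ω = ω := hxfix
      -- (g^p)^k fixes ω
      have hmem : (⟨(g ^ p) ^ k, Subgroup.zpow_mem_zpowers _ k⟩ : Subgroup.zpowers (g ^ p)) ∈
          MulAction.stabilizer (Subgroup.zpowers (g ^ p)) ω := by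
        rw [MulAction.mem_stabilizer_iff]
        change ((g ^ p) ^ k) • ω = ω
        have : (g ^ p) ^ k = (g ^ k) ^ p := by
          rw [← zpow_natCast, ← zpow_natCast, ← zpow_mul, ← zpow_mul, mul_comm]
        rw [this]
        exact pow_fix _ _ hfix p
      rw [hω, Subgroup.mem_bot] at hmem
      have h1 : (g ^ p) ^ k = 1 := by
        have := congrArg Subtype.val hmem
        simpa using this
      -- so orderOf g ∣ p * k
      have h2 : g ^ ((p : ℤ) * k) = 1 := by
        rw [zpow_mul, zpow_natCast]; exact h1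
      have h3 : (orderOf g : ℤ) ∣ (p : ℤ) * k := orderOf_dvd_iff_zpow_eq_one.mpr h2
      -- p * p ∣ orderOf g ∣ p * k, so p ∣ k
      have h4 : ((p * p : ℕ) : ℤ) ∣ (p : ℤ) * k := dvd_trans (Int.natCast_dvd_natCast.mpr hpp) h3
      have hp0 : (p : ℤ) ≠ 0 := by exact_mod_cast hp.ne_zero
      have h5 : (p : ℤ) ∣ k := by
        rw [Nat.cast_mul] at h4
        exact (mul_dvd_mul_iff_left hp0).mp h4
      obtain ⟨k', rfl⟩ := h5
      -- then g^k = (g^p)^k' is in the stabilizer for g^p
      have hmem' : (⟨(g ^ p) ^ k', Subgroup.zpow_mem_zpowers _ k'⟩ : Subgroup.zpowers (g ^ p)) ∈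
          MulAction.stabilizer (Subgroup.zpowers (g ^ p)) ω := by
        rw [MulAction.mem_stabilizer_iff]
        change ((g ^ p) ^ k') • ω = ω
        rw [← zpow_natCast, ← zpow_mul]
        exact hfix
      rw [hω, Subgroup.mem_bot] at hmem'
      have h6 : (g ^ p) ^ k' = 1 := by
        have := congrArg Subtype.val hmem'
        simpa using this
      rw [Subgroup.mem_bot]
      apply Subtype.ext
      change g ^ ((p : ℤ) * k') = 1
      rw [zpow_mul, zpow_natCast]
      exact h6

/-- Let a finite group G act faithfully on a set Ω. If every element of G of square-free order has a regular cycle (an orbit of the cyclic group it generates with trivial stabilizer), then every element of G has a regular cycle. -/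
theorem result {G : Type*} [Group G] [Finite G] {Ω : Type*} [MulAction G Ω] [FaithfulSMul G Ω]
    (h : ∀ g : G, Squarefree (orderOf g) → ∃ ω : Ω, MulAction.stabilizer (Subgroup.zpowers g) ω = ⊥) (g : G) :
    ∃ ω : Ω, MulAction.stabilizer (Subgroup.zpowers g) ω = ⊥ := by
  exact aux h _ g rfl

end Cfsg.Agent.S3511
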