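import Cfsg.Statements.S3516
import Cfsg.Agent.Lib.Helper58.Affine

set_option autoImplicit false
open Cfsg

namespace Cfsg.Agent.S3516

open Cfsg.Agent.Lib.Helper58 Module

theorem two_ne_zero_zmod (p : ℕ) [Fact p.Prime] (hp : p ≠ 2) : (2 : ZMod p) ≠ 0 := by
  intro h
  have h' : ((2 : ℕ) : ZMod p) = 0 := by exact_mod_cast h
  rw [ZMod.natCast_eq_zero_iff] at h'
  have hp' : p.Prime := Fact.out
  exact hp ((Nat.prime_dvd_prime_iff_eq hp' Nat.prime_two).mp h')

theorem span_pair_lt_top {K : Type*} [Field K] (d : ℕ) (hd : 3 ≤ d) (u1 u2 : Fin d → K) :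
    Submodule.span K (Set.range ![u1, u2]) < ⊤ := by
  rw [lt_top_iff_ne_top]
  intro h
  have h1 : (Set.range ![u1, u2]).finrank K ≤ Fintype.card (Fin 2) := finrank_range_le_card _
  rw [Set.finrank, h, finrank_top, Module.finrank_fin_fun] at h1
  simp at h1
  omega

/-- agreeing with affine maps on triples forces preservation of affine combinations -/
theorem affine_comb_of_triples {K : Type*} [Field K] {V : Type*} [AddCommGroup V] [Module K V]
    (S : Set (Equiv.Perm V))
    (haff : S ⊆ {τ : Equiv.Perm V | ∃ (A : V ≃ₗ[K] V) (b : V), ∀ x, τ x = A x + b})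
    (σ : Equiv.Perm V) (hσ : ∀ t : Fin 3 → V, ∃ g ∈ S, ∀ i, σ (t i) = g (t i))
    (x y : V) (c : K) : σ (c • x + (1 - c) • y) = c • σ x + (1 - c) • σ y := by
  obtain ⟨g, hgS, hg⟩ := hσ ![x, y, c • x + (1 - c) • y]
  obtain ⟨A, b, hA⟩ := haff hgS
  have h0 : σ x = A x + b := by
    have := hg 0; simp only [Matrix.cons_val_zero] at this; rw [this, hA]
  have h1 : σ y = A y + b := by
    have := hg 1; simp only [Matrix.cons_val_one, Matrix.cons_val_zero] at this; rw [this, hA]
  have h2 : σ (c • x + (1 - c) • y) = A (c • x + (1 - c) • y) + b := by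
    have := hg 2
    simp only [Matrix.cons_val_two, Matrix.tail_cons, Matrix.head_cons] at this
    rw [this, hA]
  rw [h2, h0, h1, map_add, map_smul, map_smul, smul_add, smul_add, sub_smul, sub_smul, one_smul,
    one_smul]
  abel

/-- Let p be an odd prime, d ≥ 3, and G a group of affine permutations x ↦ Ax + b of V = F_p^d containing all translations and all maps x ↦ Ax with A of determinant 1. Then the 3-closure of G is the full affine group: a permutation σ of V agrees on every triple of points with some element of G if and only if σ is an affine map. -/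
theorem result (p : ℕ) [Fact p.Prime] (hp : p ≠ 2) (d : ℕ) (hd : 3 ≤ d) (G : Subgroup (Equiv.Perm (Fin d → ZMod p)))
    (haff : (G : Set (Equiv.Perm (Fin d → ZMod p))) ⊆ {τ : Equiv.Perm (Fin d → ZMod p) | ∃ (A : (Fin d → ZMod p) ≃ₗ[ZMod p] (Fin d → ZMod p)) (b : Fin d → ZMod p), ∀ x, τ x = A x + b})
    (htrans : ∀ b : Fin d → ZMod p, ∃ g ∈ G, ∀ x, g x = x + b)
    (hsl : ∀ A : (Fin d → ZMod p) ≃ₗ[ZMod p] (Fin d → ZMod p), LinearMap.det (A : (Fin d → ZMod p) →ₗ[ZMod p] (Fin d → ZMod p)) = 1 → ∃ g ∈ G, ∀ x, g x = A x)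
    (σ : Equiv.Perm (Fin d → ZMod p)) :
    (∀ t : Fin 3 → (Fin d → ZMod p), ∃ g ∈ G, ∀ i, σ (t i) = g (t i)) ↔ σ ∈ {τ : Equiv.Perm (Fin d → ZMod p) | ∃ (A : (Fin d → ZMod p) ≃ₗ[ZMod p] (Fin d → ZMod p)) (b : Fin d → ZMod p), ∀ x, τ x = A x + b} := by
  constructor
  · intro h
    have h2 := two_ne_zero_zmod p hp
    exact exists_linearEquiv_of_affine_comb h2 σ (affine_comb_of_triples _ haff σ h)
  · rintro ⟨A, b, hA⟩ t
    obtain ⟨A', hdet, hA'⟩ := exists_linearEquiv_det_one_eqOn _
      (span_pair_lt_top d hd (t 1 - t 0) (t 2 - t 0)) A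
    obtain ⟨g1, hg1, hg1'⟩ := hsl A' hdet
    obtain ⟨g2, hg2, hg2'⟩ := htrans (A (t 0) + b - A' (t 0))
    refine ⟨g2 * g1, G.mul_mem hg2 hg1, ?_⟩
    have key : ∀ i, A' (t i - t 0) = A (t i - t 0) := by
      intro i
      apply hA'
      fin_cases i
      · simp
      · apply Submodule.subset_span
        exact ⟨0, rfl⟩
      · apply Submodule.subset_span
        exact ⟨1, rfl⟩
    intro i
    rw [Equiv.Perm.mul_apply, hg1', hg2', hA]
    have := key i
    rw [map_sub, map_sub] at this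
    have h3 : A' (t i) = A (t i) - A (t 0) + A' (t 0) := by
      rw [← this]; abel
    rw [h3]
    abel

end Cfsg.Agent.S3516
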