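import Cfsg.Statements.S3515
import Cfsg.Agent.S3516

set_option autoImplicit false
open Cfsg

namespace Cfsg.Agent.S3515

open Cfsg.Agent.Lib.Helper58 Module

theorem all_points_two : ∀ x : Fin 2 → ZMod 2,
    x = 0 ∨ x = Pi.single 0 1 ∨ x = Pi.single 1 1 ∨ x = Pi.single 0 1 + Pi.single 1 1 := by
  decide

theorem decomp {K : Type*} [Field K] (x : Fin 2 → K) :
    x = x 0 • (Pi.single 0 1 : Fin 2 → K) + x 1 • (Pi.single 1 1 : Fin 2 → K) := by
  ext i
  fin_cases i <;> simp

/-- case p = 2 : two permutations agreeing on three of the four points are equal -/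
theorem eq_of_agree_two (σ g : Equiv.Perm (Fin 2 → ZMod 2))
    (h0 : σ 0 = g 0) (h1 : σ (Pi.single 0 1) = g (Pi.single 0 1))
    (h2 : σ (Pi.single 1 1) = g (Pi.single 1 1)) : σ = g := by
  have hthree : ∀ x : Fin 2 → ZMod 2, x ≠ Pi.single 0 1 + Pi.single 1 1 → σ x = g x := by
    intro x hx
    rcases all_points_two x with rfl | rfl | rfl | rfl
    · exact h0
    · exact h1
    · exact h2
    · exact absurd rfl hx
  ext1 x
  by_cases hx : x = Pi.single 0 1 + Pi.single 1 1
  · subst hx
    by_contra hne
    set y := g.symm (σ (Pi.single 0 1 + Pi.single 1 1)) with hy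
    have hgy : g y = σ (Pi.single 0 1 + Pi.single 1 1) := by simp [hy]
    have hys : y ≠ Pi.single 0 1 + Pi.single 1 1 := by
      intro h
      rw [h] at hgy
      exact hne hgy.symm
    have := hthree y hys
    rw [hgy] at this
    exact hys (σ.injective this)
  · exact hthree x hx

/-- Every primitive affine permutation group of degree p² is 3-closed. Let p be a prime and G a group of permutations of the plane V = F_p² consisting of affine maps x ↦ Ax + b, containing all translations, and acting primitively on V. Then any permutation σ of V that agrees on every triple of points with some element of G (σ preserves every G-orbit on ordered triples) already lies in G. -/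
theorem result (p : ℕ) [Fact p.Prime] (G : Subgroup (Equiv.Perm (Fin 2 → ZMod p)))
    (haff : (G : Set (Equiv.Perm (Fin 2 → ZMod p))) ⊆ {τ : Equiv.Perm (Fin 2 → ZMod p) | ∃ (A : (Fin 2 → ZMod p) ≃ₗ[ZMod p] (Fin 2 → ZMod p)) (b : Fin 2 → ZMod p), ∀ x, τ x = A x + b})
    (htrans : ∀ b : Fin 2 → ZMod p, ∃ g ∈ G, ∀ x, g x = x + b) (hprim : MulAction.IsPreprimitive G (Fin 2 → ZMod p))
    (σ : Equiv.Perm (Fin 2 → ZMod p)) (hσ : (∀ t : Fin 3 → (Fin 2 → ZMod p), ∃ g ∈ G, ∀ i, σ (t i) = g (t i))) : σ ∈ G := by
  obtain ⟨g, hgG, hg⟩ := hσ ![0, Pi.single 0 1, Pi.single 1 1]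
  have h0 : σ 0 = g 0 := by simpa using hg 0
  have h1 : σ (Pi.single 0 1) = g (Pi.single 0 1) := by simpa using hg 1
  have h2 : σ (Pi.single 1 1) = g (Pi.single 1 1) := by simpa using hg 2
  suffices σ = g by rw [this]; exact hgG
  by_cases hp : p = 2
  · subst hp
    exact eq_of_agree_two σ g h0 h1 h2
  · have h2' := Cfsg.Agent.S3516.two_ne_zero_zmod p hp
    obtain ⟨A, b, hA⟩ := exists_linearEquiv_of_affine_comb h2' σ
      (Cfsg.Agent.S3516.affine_comb_of_triples _ haff σ hσ)
    obtain ⟨A', b', hA'⟩ := haff hgG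
    have hb : b = b' := by
      rw [hA, hA', map_zero, map_zero, zero_add, zero_add] at h0
      exact h0
    subst hb
    have e1 : A (Pi.single 0 1) = A' (Pi.single 0 1) := by
      rw [hA, hA'] at h1
      exact add_right_cancel h1
    have e2 : A (Pi.single 1 1) = A' (Pi.single 1 1) := by
      rw [hA, hA'] at h2
      exact add_right_cancel h2
    ext1 x
    rw [hA, hA', decomp x, map_add, map_add, map_smul, map_smul, map_smul, map_smul, e1, e2]

end Cfsg.Agent.S3515
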