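import Cfsg.Statements.S3517
import Cfsg.Agent.Lib.Helper58.Affine

set_option autoImplicit false
open Cfsg

namespace Cfsg.Agent.S3517

open Cfsg.Agent.Lib.Helper58

theorem zmod2_cases (s : ZMod 2) : s = 0 ∨ s = 1 := by
  revert s; decide

theorem linIndep_pair_zmod2 {V : Type*} [AddCommGroup V] [Module (ZMod 2) V] (u1 u2 : V)
    (h1 : u1 ≠ 0) (h2 : u2 ≠ 0) (h12 : u1 ≠ u2) : LinearIndependent (ZMod 2) ![u1, u2] := by
  rw [LinearIndependent.pair_iff]
  intro s t hst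
  rcases zmod2_cases s with rfl | rfl <;> rcases zmod2_cases t with rfl | rfl
  · exact ⟨rfl, rfl⟩
  · simp at hst; exact absurd hst h2
  · simp at hst; exact absurd hst h1
  · exfalso
    simp only [one_smul] at hst
    apply h12
    have h3 : u2 + u2 = 0 := by
      have : (2 : ZMod 2) • u2 = 0 := by
        have h20 : (2 : ZMod 2) = 0 := by decide
        rw [h20, zero_smul]
      rwa [two_smul] at this
    calc u1 = u1 + (u2 + u2) := by rw [h3, add_zero]
      _ = (u1 + u2) + u2 := by abel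
      _ = u2 := by rw [hst, zero_add]

theorem key2 {V : Type*} [AddCommGroup V] [Module (ZMod 2) V] [FiniteDimensional (ZMod 2) V]
    (u1 u2 w1 w2 : V) (h1 : u1 = 0 ↔ w1 = 0) (h2 : u2 = 0 ↔ w2 = 0) (h12 : u1 = u2 ↔ w1 = w2) :
    ∃ A : V ≃ₗ[ZMod 2] V, A u1 = w1 ∧ A u2 = w2 := by
  by_cases hu1 : u1 = 0
  · have hw1 := h1.mp hu1
    by_cases hu2 : u2 = 0
    · have hw2 := h2.mp hu2
      exact ⟨LinearEquiv.refl _ _, by simp [hu1, hw1], by simp [hu2, hw2]⟩
    · have hw2 : w2 ≠ 0 := fun h => hu2 (h2.mpr h)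
      obtain ⟨A, hA⟩ := exists_linearEquiv_map_vector (K := ZMod 2) u2 w2 hu2 hw2
      exact ⟨A, by simp [hu1, hw1], hA⟩
  · have hw1 : w1 ≠ 0 := fun h => hu1 (h1.mpr h)
    by_cases hu2 : u2 = 0
    · have hw2 := h2.mp hu2
      obtain ⟨A, hA⟩ := exists_linearEquiv_map_vector (K := ZMod 2) u1 w1 hu1 hw1
      exact ⟨A, hA, by simp [hu2, hw2]⟩
    · have hw2 : w2 ≠ 0 := fun h => hu2 (h2.mpr h)
      by_cases hu12 : u1 = u2
      · have hw12 := h12.mp hu12
        obtain ⟨A, hA⟩ := exists_linearEquiv_map_vector (K := ZMod 2) u1 w1 hu1 hw1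
        exact ⟨A, hA, by rw [← hu12, ← hw12]; exact hA⟩
      · have hw12 : w1 ≠ w2 := fun h => hu12 (h12.mpr h)
        obtain ⟨A, hA⟩ := exists_linearEquiv_map_family (K := ZMod 2) ![u1, u2] ![w1, w2]
          (linIndep_pair_zmod2 u1 u2 hu1 hu2 hu12) (linIndep_pair_zmod2 w1 w2 hw1 hw2 hw12)
        exact ⟨A, by simpa using hA 0, by simpa using hA 1⟩

/-- For d ≥ 3, the 3-closure of the affine group AGL_d(2) acting on F_2^d is the full symmetric group: every permutation of F_2^d agrees on every ordered triple of points with some affine map (AGL_d(2) is 3-transitive). -/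
theorem result (d : ℕ) (hd : 3 ≤ d) (σ : Equiv.Perm (Fin d → ZMod 2)) (t : Fin 3 → (Fin d → ZMod 2)) :
    ∃ (A : (Fin d → ZMod 2) ≃ₗ[ZMod 2] (Fin d → ZMod 2)) (b : Fin d → ZMod 2), ∀ i, σ (t i) = A (t i) + b := by
  obtain ⟨A, h1, h2⟩ := key2 (t 1 - t 0) (t 2 - t 0) (σ (t 1) - σ (t 0)) (σ (t 2) - σ (t 0))
    (by rw [sub_eq_zero, sub_eq_zero, σ.injective.eq_iff])
    (by rw [sub_eq_zero, sub_eq_zero, σ.injective.eq_iff])
    (by rw [sub_left_inj, sub_left_inj, σ.injective.eq_iff])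
  refine ⟨A, σ (t 0) - A (t 0), ?_⟩
  rw [map_sub] at h1 h2
  intro i
  fin_cases i
  · simp
  · change σ (t 1) = A (t 1) + (σ (t 0) - A (t 0))
    rw [add_sub_assoc', sub_eq_iff_eq_add.mp h1]
    abel
  · change σ (t 2) = A (t 2) + (σ (t 0) - A (t 0))
    rw [add_sub_assoc', sub_eq_iff_eq_add.mp h2]
    abel

end Cfsg.Agent.S3517
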