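import Cfsg.Statements.S3518
import Mathlib
import Cfsg.Agent.S3524

set_option autoImplicit false
open Cfsg

namespace Cfsg.Agent.S3518

open Polynomial

section PowerSums

variable {p : ℕ} [hp : Fact p.Prime] (A : Subgroup (ZMod p)ˣ) [Fintype A]

/-- elements of `A` are `|A|`-th roots of unity -/
theorem coe_pow_card_eq_one (a : A) : ((a : (ZMod p)ˣ) : ZMod p) ^ (Fintype.card A) = 1 := by
  have h1 : a ^ (Fintype.card A) = 1 := _root_.pow_card_eq_one
  calc ((a : (ZMod p)ˣ) : ZMod p) ^ (Fintype.card A)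
      = (((a ^ (Fintype.card A) : A) : (ZMod p)ˣ) : ZMod p) := by push_cast; rfl
    _ = 1 := by rw [h1]; rfl

/-- power sums over a multiplicative subgroup -/
theorem powerSum (i : ℕ) :
    ∑ a : A, ((a : (ZMod p)ˣ) : ZMod p) ^ i =
      if Fintype.card A ∣ i then (Fintype.card A : ZMod p) else 0 := by
  classical
  split_ifs with h
  · obtain ⟨k, rfl⟩ := h
    have : ∀ a : A, ((a : (ZMod p)ˣ) : ZMod p) ^ (Fintype.card A * k) = 1 := by
      intro a
      rw [pow_mul, coe_pow_card_eq_one, one_pow]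
    rw [Finset.sum_congr rfl (fun a _ => this a), Finset.sum_const, Finset.card_univ,
      nsmul_eq_mul, mul_one]
  · let f : A →* ZMod p :=
      { toFun := fun a => ((a : (ZMod p)ˣ) : ZMod p) ^ i
        map_one' := by simp
        map_mul' := by intro a b; simp [mul_pow] }
    have hf : f ≠ 1 := by
      intro hf1
      apply h
      obtain ⟨g, hg⟩ := (inferInstance : IsCyclic A).exists_ofOrder_eq_natCard
      rw [Nat.card_eq_fintype_card] at hg
      rw [← hg]
      apply orderOf_dvd_of_pow_eq_one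
      have h1 : f g = 1 := by rw [hf1]; rfl
      have h2 : ((g : (ZMod p)ˣ) : ZMod p) ^ i = 1 := h1
      apply Subtype.ext
      apply Units.ext
      simpa using h2
    exact sum_hom_units_eq_zero f hf

/-- sum over `A` of the values of a polynomial of degree at most `|A|` -/
theorem sum_eval_of_natDegree_le (ψ : (ZMod p)[X]) (hψ : ψ.natDegree ≤ Fintype.card A) :
    ∑ a : A, ψ.eval ((a : (ZMod p)ˣ) : ZMod p) =
      (Fintype.card A : ZMod p) * (ψ.coeff 0 + ψ.coeff (Fintype.card A)) := by
  classical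
  have hd1 : 1 ≤ Fintype.card A := Fintype.card_pos
  generalize hd : Fintype.card A = d at *
  have h1 : ∀ a : A, ψ.eval ((a : (ZMod p)ˣ) : ZMod p) =
      ∑ i ∈ Finset.range (d + 1), ψ.coeff i * ((a : (ZMod p)ˣ) : ZMod p) ^ i :=
    fun a => eval_eq_sum_range' (by omega) _
  rw [Finset.sum_congr rfl (fun a _ => h1 a), Finset.sum_comm]
  have h2 : ∀ i ∈ Finset.range (d + 1),
      ∑ a : A, ψ.coeff i * ((a : (ZMod p)ˣ) : ZMod p) ^ i =
        if i = 0 ∨ i = d then (d : ZMod p) * ψ.coeff i else 0 := by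
    intro i hi
    rw [Finset.mem_range] at hi
    rw [← Finset.mul_sum, powerSum, hd]
    by_cases h0 : i = 0
    · subst h0; simp [mul_comm]
    · by_cases hid : i = d
      · subst hid; simp [mul_comm]
      · have : ¬ d ∣ i := by
          intro hdi
          have := Nat.le_of_dvd (Nat.pos_of_ne_zero h0) hdi
          omega
        simp [h0, hid, this]
  rw [Finset.sum_congr rfl h2, Finset.sum_ite, Finset.sum_const_zero, add_zero]
  have h3 : Finset.filter (fun i => i = 0 ∨ i = d) (Finset.range (d + 1)) = {0, d} := by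
    ext i
    simp only [Finset.mem_filter, Finset.mem_range, Finset.mem_insert, Finset.mem_singleton]
    constructor
    · exact fun h => h.2
    · rintro (h | h) <;> exact ⟨by omega, by tauto⟩
  rw [h3, Finset.sum_pair (by omega), mul_add]

/-- binomial coefficients below `p` are nonzero mod `p` -/
theorem choose_ne_zero_zmod (N k : ℕ) (hN : N < p) (hk : k ≤ N) :
    ((N.choose k : ℕ) : ZMod p) ≠ 0 := by
  intro h
  rw [ZMod.natCast_eq_zero_iff] at h
  have h1 : p ∣ N.factorial := by
    rw [← Nat.choose_mul_factorial_mul_factorial hk]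
    exact Dvd.dvd.mul_right (Dvd.dvd.mul_right h _) _
  have := (Nat.Prime.dvd_factorial hp.out).mp h1
  omega

/-- A polynomial of degree `< p` satisfying the eigenvalue equation
`∑_{a ∈ A} φ(x + a) = |A| φ(x)` has degree `< |A|`. -/
theorem natDegree_lt_card_of_sum_eq (hdp : Fintype.card A < p) (φ : (ZMod p)[X])
    (hN : φ.natDegree < p)
    (h : ∀ x : ZMod p, ∑ a : A, φ.eval (x + ((a : (ZMod p)ˣ) : ZMod p)) =
      (Fintype.card A : ZMod p) * φ.eval x) :
    φ.natDegree < Fintype.card A := by
  classical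
  have hd1 : 1 ≤ Fintype.card A := Fintype.card_pos
  by_contra hcon
  push Not at hcon
  set d := Fintype.card A with hd
  set N := φ.natDegree with hNdef
  have hφ0 : φ ≠ 0 := by
    rintro rfl
    rw [natDegree_zero] at hNdef
    omega
  have hcN : φ.coeff N ≠ 0 := by
    rw [hNdef]
    exact leadingCoeff_ne_zero.mpr hφ0
  set R : (ZMod p)[X] := ∑ a : A, taylor ((a : (ZMod p)ˣ) : ZMod p) φ - C (d : ZMod p) * φ with hR
  have hReval : ∀ x : ZMod p, R.eval x = 0 := by
    intro x
    rw [hR, eval_sub, eval_finsetSum, eval_mul, eval_C]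
    rw [Finset.sum_congr rfl (fun a _ => taylor_eval _ φ x), h x, sub_self]
  have hRdeg : R.natDegree < Fintype.card (ZMod p) := by
    rw [ZMod.card]
    refine lt_of_le_of_lt ?_ hN
    rw [hR]
    refine (natDegree_sub_le _ _).trans (max_le ?_ (natDegree_C_mul_le _ _))
    apply natDegree_sum_le_of_forall_le
    intro a _
    rw [natDegree_taylor]
  have hR0 : R = 0 :=
    eq_zero_of_natDegree_lt_card_of_eval_eq_zero R (f := id) Function.injective_id hReval hRdeg
  have hcoeff : R.coeff (N - d) = 0 := by rw [hR0, coeff_zero]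
  rw [hR, coeff_sub, finsetSum_coeff, coeff_C_mul] at hcoeff
  rw [Finset.sum_congr rfl (fun a _ => taylor_coeff _ φ (N - d))] at hcoeff
  have hψ : (hasseDeriv (N - d) φ).natDegree ≤ d := by
    refine (natDegree_hasseDeriv_le φ (N - d)).trans ?_
    omega
  rw [sum_eval_of_natDegree_le A _ hψ, hasseDeriv_coeff, hasseDeriv_coeff] at hcoeff
  have e1 : 0 + (N - d) = N - d := by omega
  have e2 : d + (N - d) = N := by omega
  rw [e1, e2, Nat.choose_self, Nat.cast_one, one_mul] at hcoeff
  have hfin : (d : ZMod p) * (((N.choose (N - d) : ℕ) : ZMod p) * φ.coeff N) = 0 := by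
    linear_combination hcoeff
  have hd0 : (d : ZMod p) ≠ 0 := by
    intro h0
    rw [ZMod.natCast_eq_zero_iff] at h0
    have := Nat.le_of_dvd (by omega) h0
    omega
  rcases mul_eq_zero.mp hfin with h1 | h1
  · exact hd0 h1
  · rcases mul_eq_zero.mp h1 with h2 | h2
    · exact choose_ne_zero_zmod N (N - d) hN (by omega) h2
    · exact hcN h2

/-- Core lemma (Carlitz–McConnel over the prime field): a map whose "difference sets" along a
small multiplicative subgroup `A` are permuted is affine. -/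
theorem core (hd : 2 * Fintype.card A ≤ p - 1) (σ : ZMod p → ZMod p)
    (hσ : ∀ x : ZMod p, ∃ β : A ≃ A, ∀ a : A,
      σ (x + ((a : (ZMod p)ˣ) : ZMod p)) = σ x + (((β a : A) : (ZMod p)ˣ) : ZMod p)) :
    ∃ c1 c0 : ZMod p, ∀ x, σ x = c1 * x + c0 := by
  classical
  have hp2 : 2 ≤ p := hp.out.two_le
  have hd1 : 1 ≤ Fintype.card A := Fintype.card_pos
  have hdp : Fintype.card A < p := by omega
  by_cases hd2 : Fintype.card A = 1
  · -- `A = {1}`
    have hone : ∀ a : A, ((a : (ZMod p)ˣ) : ZMod p) = 1 := by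
      intro a
      have := coe_pow_card_eq_one A a
      rwa [hd2, pow_one] at this
    have hstep : ∀ x : ZMod p, σ (x + 1) = σ x + 1 := by
      intro x
      obtain ⟨β, hβ⟩ := hσ x
      have := hβ 1
      rwa [hone, hone] at this
    refine ⟨1, σ 0, ?_⟩
    have hnat : ∀ n : ℕ, σ (n : ZMod p) = (n : ZMod p) + σ 0 := by
      intro n
      induction n with
      | zero => simp
      | succ n ih => rw [Nat.cast_succ, hstep, ih]; ring
    intro x
    have := hnat x.val
    rw [ZMod.natCast_zmod_val] at this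
    rw [this]; ring
  · have hd3 : 2 ≤ Fintype.card A := by omega
    set d := Fintype.card A with hddef
    -- interpolation polynomial
    set f : (ZMod p)[X] := Lagrange.interpolate Finset.univ id σ with hf
    have hfeval : ∀ x : ZMod p, f.eval x = σ x := fun x =>
      Lagrange.eval_interpolate_at_node σ (Set.injOn_id _) (Finset.mem_univ x)
    have hfdeg : f.natDegree < p := by
      have h1 := Lagrange.degree_interpolate_lt (s := Finset.univ) (v := (id : ZMod p → ZMod p))
        σ (Set.injOn_id _)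
      rw [Finset.card_univ, ZMod.card] at h1
      by_cases hf0 : f = 0
      · rw [hf0, natDegree_zero]; omega
      · exact (natDegree_lt_iff_degree_lt hf0).mpr h1
    set e := f.natDegree with he
    have claim : ∀ j : ℕ, 1 ≤ j → j < d → j * e < p → j * e < d := by
      intro j hj1 hjd hjp
      have hdeg : (f ^ j).natDegree = j * e := natDegree_pow f j
      have := natDegree_lt_card_of_sum_eq A hdp (f ^ j) (by rw [hdeg]; exact hjp) (by
        intro x
        obtain ⟨β, hβ⟩ := hσ x
        have h1 : ∀ a : A, (f ^ j).eval (x + ((a : (ZMod p)ˣ) : ZMod p)) =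
            ((X + C (σ x)) ^ j : (ZMod p)[X]).eval (((β a : A) : (ZMod p)ˣ) : ZMod p) := by
          intro a
          rw [eval_pow, hfeval, hβ a, eval_pow, eval_add, eval_X, eval_C, add_comm]
        rw [Finset.sum_congr rfl (fun a _ => h1 a)]
        rw [Equiv.sum_comp β (fun a : A =>
          ((X + C (σ x)) ^ j : (ZMod p)[X]).eval (((a : A) : (ZMod p)ˣ) : ZMod p))]
        have hψdeg : ((X + C (σ x)) ^ j : (ZMod p)[X]).natDegree = j := by
          rw [natDegree_pow, natDegree_X_add_C, mul_one]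
        rw [sum_eval_of_natDegree_le A _ (by rw [hψdeg]; exact hjd.le)]
        have hc : ((X + C (σ x)) ^ j : (ZMod p)[X]).coeff (Fintype.card A) = 0 :=
          coeff_eq_zero_of_natDegree_lt (by rw [hψdeg]; exact hjd)
        rw [hc, add_zero,
          coeff_zero_eq_eval_zero, eval_pow, eval_add, eval_X, eval_C, zero_add, eval_pow,
          hfeval])
      rw [hdeg] at this
      exact this
    have he_lt : e < d := by
      have := claim 1 le_rfl (by omega) (by rw [one_mul]; exact hfdeg)
      rwa [one_mul] at this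
    have he1 : e ≤ 1 := by
      by_contra hcon
      push Not at hcon
      have hdiv : (d - 1) / e * e + (d - 1) % e = d - 1 := Nat.div_add_mod' (d - 1) e
      have hmod : (d - 1) % e < e := Nat.mod_lt _ (by omega)
      have h2 : (d - 1) / e ≤ (d - 1) / 2 := Nat.div_le_div_left hcon (by norm_num)
      generalize (d - 1) / e = q at hdiv h2
      generalize (d - 1) % e = r at hdiv hmod
      have hje : (q + 1) * e = q * e + e := by ring
      have hjd : q + 1 < d := by omega
      have := claim (q + 1) (by omega) hjd (by omega)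
      omega
    have hfform := eq_X_add_C_of_natDegree_le_one he1
    refine ⟨f.coeff 1, f.coeff 0, fun x => ?_⟩
    rw [← hfeval x]
    conv_lhs => rw [hfform]
    simp

end PowerSums

section Main

variable {p : ℕ} [hp : Fact p.Prime]

/-- the affine permutation `x ↦ a * x + b` -/
def affU (a : (ZMod p)ˣ) (b : ZMod p) : Equiv.Perm (ZMod p) :=
  Equiv.addRight b * MulAction.toPermHom (ZMod p)ˣ (ZMod p) a

theorem affU_apply (a : (ZMod p)ˣ) (b x : ZMod p) : affU a b x = (a : ZMod p) * x + b := rfl

theorem affU_mem_affineGroup (a : (ZMod p)ˣ) (b : ZMod p) :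
    affU a b ∈ Cfsg.affineGroup (ZMod p) := ⟨a, b, fun x => affU_apply a b x⟩

theorem part2 (σ : Equiv.Perm (ZMod p)) (t : Fin 2 → ZMod p) :
    ∃ g ∈ Cfsg.affineGroup (ZMod p), ∀ i, σ (t i) = g (t i) := by
  by_cases h : t 0 = t 1
  · refine ⟨affU 1 (σ (t 0) - t 0), affU_mem_affineGroup _ _, ?_⟩
    rw [Fin.forall_fin_two]
    constructor
    · simp [affU_apply]
    · simp [affU_apply, ← h]
  · have hne : t 1 - t 0 ≠ 0 := sub_ne_zero.mpr (Ne.symm h)
    have hσne : σ (t 1) - σ (t 0) ≠ 0 := sub_ne_zero.mpr (fun e => h (σ.injective e).symm)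
    refine ⟨affU (Units.mk0 ((σ (t 1) - σ (t 0)) / (t 1 - t 0)) (div_ne_zero hσne hne))
      (σ (t 0) - (σ (t 1) - σ (t 0)) / (t 1 - t 0) * t 0), affU_mem_affineGroup _ _, ?_⟩
    rw [Fin.forall_fin_two]
    constructor
    · simp [affU_apply]
    · simp only [affU_apply, Units.val_mk0]
      field_simp
      ring

theorem part3 (σ : Equiv.Perm (ZMod p))
    (h : ∀ t : Fin 3 → ZMod p, ∃ g ∈ Cfsg.affineGroup (ZMod p), ∀ i, σ (t i) = g (t i)) :
    σ ∈ Cfsg.affineGroup (ZMod p) := by
  apply Cfsg.Agent.S3524.result (Cfsg.affineGroup (ZMod p)) 2 ![0, 1] ?_ σ h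
  rintro g ⟨a, b, hg⟩ hfix
  have h0 := hfix 0
  have h1 := hfix 1
  simp only [Matrix.cons_val_zero, Matrix.cons_val_one, hg, mul_zero, zero_add, mul_one] at h0 h1
  ext x
  rw [hg, h0, add_zero] at *
  rw [h1, one_mul]
  rfl

theorem part1 (G : Subgroup (Equiv.Perm (ZMod p))) (hG : G ≤ Cfsg.affineGroup (ZMod p))
    (htrans : ∀ b : ZMod p, ∃ g ∈ G, ∀ x, g x = x + b) (hne : G ≠ Cfsg.affineGroup (ZMod p))
    (σ : Equiv.Perm (ZMod p))
    (hσ : ∀ t : Fin 2 → ZMod p, ∃ g ∈ G, ∀ i, σ (t i) = g (t i)) : σ ∈ G := by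
  classical
  set A : Subgroup (ZMod p)ˣ := G.comap (MulAction.toPermHom (ZMod p)ˣ (ZMod p)) with hA
  have memA : ∀ a : (ZMod p)ˣ, a ∈ A ↔ affU a 0 ∈ G := by
    intro a
    rw [hA, Subgroup.mem_comap]
    have : affU a 0 = MulAction.toPermHom (ZMod p)ˣ (ZMod p) a := by
      ext x
      rw [affU_apply, add_zero]
      rfl
    rw [this]
  have G2 : ∀ a ∈ A, ∀ b, affU a b ∈ G := by
    intro a ha b
    obtain ⟨t, ht, htb⟩ := htrans b
    have : affU a b = t * affU a 0 := by
      ext x
      rw [Equiv.Perm.mul_apply, htb, affU_apply, affU_apply, add_zero]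
    rw [this]
    exact G.mul_mem ht ((memA a).mp ha)
  have G1 : ∀ g ∈ G, ∃ a ∈ A, ∃ b, g = affU a b := by
    intro g hg
    obtain ⟨a, b, hab⟩ := hG hg
    refine ⟨a, ?_, b, by ext x; rw [hab, affU_apply]⟩
    rw [memA]
    obtain ⟨t, ht, htb⟩ := htrans (-b)
    have : affU a 0 = t * g := by
      ext x
      rw [Equiv.Perm.mul_apply, htb, hab, affU_apply]
      ring
    rw [this]
    exact G.mul_mem ht hg
  have hAtop : A ≠ ⊤ := by
    intro h
    apply hne
    apply le_antisymm hG
    rintro g ⟨a, b, hab⟩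
    have : g = affU a b := by ext x; rw [hab, affU_apply]
    rw [this]
    exact G2 a (by rw [h]; trivial) b
  have hcard : 2 * Fintype.card A ≤ p - 1 := by
    have h1 : Nat.card A ∣ Nat.card (ZMod p)ˣ := A.card_subgroup_dvd_card
    rw [Nat.card_eq_fintype_card, Nat.card_eq_fintype_card, ZMod.card_units] at h1
    have h2 : Fintype.card A ≠ p - 1 := by
      intro h
      apply hAtop
      apply Subgroup.eq_top_of_card_eq
      rw [Nat.card_eq_fintype_card, Nat.card_eq_fintype_card, ZMod.card_units, h]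
    have hp2 : 2 ≤ p := hp.out.two_le
    obtain ⟨k, hk⟩ := h1
    have hk2 : 2 ≤ k := by
      rcases Nat.lt_or_ge k 2 with hlt | hge
      · exfalso
        interval_cases k
        · omega
        · exact h2 (by omega)
      · exact hge
    calc 2 * Fintype.card A ≤ k * Fintype.card A := Nat.mul_le_mul_right _ hk2
      _ = p - 1 := by rw [hk, mul_comm]
  have S1 : ∀ x y : ZMod p, ∃ a ∈ A, ∃ b : ZMod p,
      σ x = (a : ZMod p) * x + b ∧ σ y = (a : ZMod p) * y + b := by
    intro x y
    obtain ⟨g, hg, hgt⟩ := hσ ![x, y]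
    obtain ⟨a, ha, b, rfl⟩ := G1 g hg
    exact ⟨a, ha, b, by simpa [affU_apply] using hgt 0, by simpa [affU_apply] using hgt 1⟩
  have S2 : ∀ x : ZMod p, ∃ β : A ≃ A, ∀ a : A,
      σ (x + ((a : (ZMod p)ˣ) : ZMod p)) = σ x + (((β a : A) : (ZMod p)ˣ) : ZMod p) := by
    intro x
    have hex : ∀ a : A, ∃ c : A,
        σ (x + ((a : (ZMod p)ˣ) : ZMod p)) = σ x + ((c : (ZMod p)ˣ) : ZMod p) := by
      intro a
      obtain ⟨a', ha', b, h1, h2⟩ := S1 (x + ((a : (ZMod p)ˣ) : ZMod p)) x
      refine ⟨⟨a' * a, A.mul_mem ha' a.2⟩, ?_⟩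
      rw [h1, h2]
      push_cast
      ring
    choose β hβ using hex
    have hinj : Function.Injective β := by
      intro a a' h
      have h1 := hβ a
      rw [h, ← hβ a'] at h1
      have h2 := σ.injective h1
      exact Subtype.ext (Units.ext (add_left_cancel h2))
    exact ⟨Equiv.ofBijective β (Finite.injective_iff_bijective.mp hinj), hβ⟩
  obtain ⟨c1, c0, hc⟩ := core A hcard σ S2
  obtain ⟨a, ha, b, h1, h0⟩ := S1 1 0
  have hc1 : c1 = a := by
    have e1 := hc 1
    have e0 := hc 0
    rw [h1] at e1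
    rw [h0] at e0
    linear_combination e0 - e1
  have : σ = affU a c0 := by
    ext x
    rw [hc x, hc1, affU_apply]
  rw [this]
  exact G2 a ha c0

end Main

/-- Closures of subgroups of the one-dimensional affine group. Let p be a prime and G a group of permutations of F_p lying in the affine group AGL₁(p) = {x ↦ ax + b, a ≠ 0} and containing all translations. (1) If G is a proper subgroup of AGL₁(p), then G is 2-closed: a permutation of F_p agreeing on every ordered pair of points with some element of G lies in G. (2) Every permutation of F_p agrees on every ordered pair with some element of AGL₁(p) (the 2-closure of AGL₁(p) is the symmetric group). (3) AGL₁(p) is 3-closed: a permutation agreeing on every ordered triple with some affine map is affine. -/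
theorem result (p : ℕ) [Fact p.Prime] (G : Subgroup (Equiv.Perm (ZMod p))) (hG : G ≤ Cfsg.affineGroup (ZMod p))
    (htrans : ∀ b : ZMod p, ∃ g ∈ G, ∀ x, g x = x + b) :
    (G ≠ Cfsg.affineGroup (ZMod p) → ∀ σ : Equiv.Perm (ZMod p), (∀ t : Fin 2 → ZMod p, ∃ g ∈ G, ∀ i, σ (t i) = g (t i)) → σ ∈ G) ∧
    (∀ σ : Equiv.Perm (ZMod p), (∀ t : Fin 2 → ZMod p, ∃ g ∈ Cfsg.affineGroup (ZMod p), ∀ i, σ (t i) = g (t i))) ∧
    (∀ σ : Equiv.Perm (ZMod p), (∀ t : Fin 3 → ZMod p, ∃ g ∈ Cfsg.affineGroup (ZMod p), ∀ i, σ (t i) = g (t i)) → σ ∈ Cfsg.affineGroup (ZMod p)) :=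
  ⟨fun hne σ hσ => part1 G hG htrans hne σ hσ, fun σ t => part2 σ t, fun σ h => part3 σ h⟩

end Cfsg.Agent.S3518
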