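import Cfsg.Statements.S3520
import Mathlib
import Cfsg.Agent.S0721
import Cfsg.Agent.S0144
import Cfsg.Agent.S3556
import Cfsg.Agent.S3501
import Cfsg.Agent.Lib.Helper59.ProdDerange
-- import your own Cfsg.Agent.* helpers here

set_option autoImplicit false
open Cfsg

namespace Cfsg.Agent.S3520

open Cfsg.Agent.Lib.Helper59

/-- a finite group whose order has only the prime divisors `p`, `q` has order `p^a q^b` -/
theorem card_eq_of_two_primes (n p q : ℕ) (hn : n ≠ 0) (hp : p.Prime) (hq : q.Prime)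
    (h : ∀ r : ℕ, r.Prime → r ∣ n → r = p ∨ r = q) : ∃ a b : ℕ, n = p ^ a * q ^ b := by
  obtain ⟨a, n₁, hpn₁, hn₁⟩ := Nat.exists_eq_pow_mul_and_not_dvd hn p hp.one_lt.ne'
  have hn₁0 : n₁ ≠ 0 := by
    intro h0
    rw [h0, mul_zero] at hn₁
    exact hn hn₁
  obtain ⟨b, n₂, hqn₂, hn₂⟩ := Nat.exists_eq_pow_mul_and_not_dvd hn₁0 q hq.one_lt.ne'
  have hn₂1 : n₂ = 1 := by
    rw [Nat.eq_one_iff_not_exists_prime_dvd]
    intro r hr hrd
    have hrn₁ : r ∣ n₁ := by rw [hn₂]; exact dvd_mul_of_dvd_right hrd _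
    have hrn : r ∣ n := by rw [hn₁]; exact dvd_mul_of_dvd_right hrn₁ _
    rcases h r hr hrn with h1 | h1
    · exact hpn₁ (h1 ▸ hrn₁)
    · exact hqn₂ (h1 ▸ hrd)
  refine ⟨a, b, ?_⟩
  rw [hn₁, hn₂, hn₂1, mul_one]


/-- Let a finite group G act faithfully and primitively on a finite set Ω with at least two points, suppose G is not almost simple (no non-abelian simple normal subgroup with trivial centralizer), and suppose the derangements of G form exactly two conjugacy classes. Then either Ω has 3 points and G has order 3; or G has a non-trivial abelian normal subgroup N acting regularly, every non-identity element of G fixes at most one point (so, when n > 3, G is a Frobenius group with kernel N), the number n of points is odd and a point stabilizer has order (n − 1)/2; or G is 2-transitive with a non-trivial abelian regular normal subgroup and some non-identity element fixes at least two points (a non-Frobenius 2-transitive affine group). -/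
theorem result {G : Type*} [Group G] [Finite G] {Ω : Type*} [Fintype Ω] [MulAction G Ω] [FaithfulSMul G Ω] (hΩ : 2 ≤ Fintype.card Ω) (hprim : MulAction.IsPreprimitive G Ω) (hnas : ¬ ∃ T : Subgroup G, T.Normal ∧ IsSimpleGroup T ∧ ¬ IsMulCommutative T ∧ Subgroup.centralizer (T : Set G) = ⊥)
    (hκ : Nat.card {c : ConjClasses G // ∃ g : G, ConjClasses.mk g = c ∧ ∀ ω : Ω, g • ω ≠ ω} = 2) (α : Ω) :
    (Fintype.card Ω = 3 ∧ Nat.card G = 3) ∨
    ((∃ N : Subgroup G, N.Normal ∧ N ≠ ⊥ ∧ IsMulCommutative N ∧ ∀ ω : Ω, MulAction.stabilizer N ω = ⊥) ∧ (∀ g : G, g ≠ 1 → Nat.card (MulAction.fixedBy Ω g) ≤ 1) ∧ ¬ 2 ∣ Fintype.card Ω ∧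
        2 * Nat.card (MulAction.stabilizer G α) = Fintype.card Ω - 1) ∨
    ((∃ N : Subgroup G, N.Normal ∧ N ≠ ⊥ ∧ IsMulCommutative N ∧ ∀ ω : Ω, MulAction.stabilizer N ω = ⊥) ∧ MulAction.IsMultiplyPretransitive G Ω 2 ∧ ∃ g : G, g ≠ 1 ∧ 2 ≤ Nat.card (MulAction.fixedBy Ω g)) := by
  classical
  have hΩnt : Nontrivial Ω := Fintype.one_lt_card_iff_nontrivial.1 hΩ
  have hGnt : Nontrivial G := by
    obtain ⟨a, b, hab⟩ := exists_pair_ne Ω
    obtain ⟨g, hg⟩ := MulAction.exists_smul_eq G a b
    refine ⟨⟨g, 1, fun h => hab ?_⟩⟩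
    rw [← hg, h, one_smul]
  obtain ⟨N, hNn, hNb, hNmin⟩ := Cfsg.Agent.S3556.exists_minimal_normal (G := G)
  have hNtrans : MulAction.IsPretransitive N Ω := Cfsg.Agent.S3556.normal_pretransitive N hNb
  obtain ⟨d₁, d₂, hd₁, hd₂, hd₁₂, hall⟩ := derClasses_two hκ
  have hone_not_der : ∀ x : G, (∀ ω : Ω, x • ω ≠ ω) → x ≠ 1 := by
    intro x hx h
    rw [h] at hx
    exact hx α (one_smul _ _)
  by_cases hcomm : IsMulCommutative N
  · right
    have hc' : ∀ x y : N, x * y = y * x := fun x y => hcomm.is_comm.comm x y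
    have hc : ∀ x ∈ N, ∀ y ∈ N, x * y = y * x := fun x hx y hy =>
      congrArg Subtype.val (hc' ⟨x, hx⟩ ⟨y, hy⟩)
    have hNder : ∀ x ∈ N, x ≠ 1 → ∀ ω : Ω, x • ω ≠ ω := fun x hx hx1 ω hω =>
      hx1 (eq_one_of_comm_of_smul_eq N hc hx hω)
    have hreg : ∀ ω : Ω, MulAction.stabilizer N ω = ⊥ := by
      intro ω
      rw [eq_bot_iff]
      intro n hn
      rw [Subgroup.mem_bot]
      have h1 : (n : G) • ω = ω := MulAction.mem_stabilizer_iff.1 hn
      exact Subtype.ext (eq_one_of_comm_of_smul_eq N hc n.2 h1)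
    have hNex : ∃ N : Subgroup G, N.Normal ∧ N ≠ ⊥ ∧ IsMulCommutative N ∧
        ∀ ω : Ω, MulAction.stabilizer N ω = ⊥ := ⟨N, hNn, hNb, hcomm, hreg⟩
    by_cases hD : ∀ x : G, (∀ ω : Ω, x • ω ≠ ω) → x ∈ N
    · left
      have hfrob : ∀ g : G, g ≠ 1 → ∀ a b : Ω, a ≠ b → g • a = a → g • b ≠ b :=
        fun g hg a b hab ha => fix_le_one_of_derangements_subset N hc hD g hg a b hab ha
      have hcardα : 2 * Nat.card (MulAction.stabilizer G α) = Fintype.card Ω - 1 := by
        apply two_mul_card_stabilizer N hc α hfrob d₁ d₂ (hD d₁ hd₁) (hD d₂ hd₂)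
          (hone_not_der d₁ hd₁) (hone_not_der d₂ hd₂) hd₁₂
        intro x hx hx1
        exact hall x (hNder x hx hx1)
      refine ⟨hNex, ?_, ?_, hcardα⟩
      · intro g hg
        rw [Finite.card_le_one_iff_subsingleton]
        refine ⟨?_⟩
        rintro ⟨x, hx⟩ ⟨y, hy⟩
        apply Subtype.ext
        by_contra hxy
        exact hfrob g hg x y hxy hx hy
      · omega
    · right
      push Not at hD
      obtain ⟨d', hd', hd'N⟩ := hD
      have hnc : ∀ x ∈ N, ¬ IsConj x d' := by
        intro x hx hconj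
        obtain ⟨g, hg⟩ := isConj_iff.1 hconj
        apply hd'N
        rw [← hg]
        exact hNn.conj_mem _ hx g
      have hconj : ∀ d ∈ N, ∀ d'' ∈ N, d ≠ 1 → d'' ≠ 1 → IsConj d d'' := by
        intro d hd d'' hd'' hd1 hd''1
        by_contra hcon
        exact derClasses_two_not_three hκ d d'' d' (hNder d hd hd1) (hNder d'' hd'' hd''1) hd'
          hcon (hnc d hd) (hnc d'' hd'')
      refine ⟨hNex, two_transitive_of_conj N hc hconj, ?_⟩
      obtain ⟨g, hg, a, b, hab, ha, hb⟩ :=
        exists_two_fixed_of_derangement_not_mem N hc α d' hd' hd'N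
      refine ⟨g, hg, ?_⟩
      have hnt : Nontrivial (MulAction.fixedBy Ω g) := ⟨⟨⟨a, ha⟩, ⟨b, hb⟩, fun h => hab (congrArg Subtype.val h)⟩⟩
      exact Finite.one_lt_card_iff_nontrivial.2 hnt
  · exfalso
    obtain ⟨T, instT, m, hTs, hm, ⟨e⟩⟩ := Cfsg.Agent.S0721.result N hNb hNmin
    have hTfin : Finite T := by
      refine Finite.of_injective (fun t : T => e.symm (Pi.mulSingle (⟨0, hm⟩ : Fin m) t)) ?_
      intro t t' h
      exact Pi.mulSingle_injective _ (e.symm.injective h)
    have hTnc : ¬ IsMulCommutative T := by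
      intro hT
      apply hcomm
      refine ⟨⟨fun x y => ?_⟩⟩
      apply e.injective
      rw [map_mul, map_mul]
      funext j
      exact hT.is_comm.comm _ _
    by_cases hm2 : 2 ≤ m
    · obtain ⟨x, y, z, hx, hy, hz, hxy, hxz, hyz⟩ :=
        exists_three_derangements (Ω := Ω) e hTnc hm2
      exact derClasses_two_not_three hκ (x : G) (y : G) (z : G) (fun ω => hx ω) (fun ω => hy ω)
        (fun ω => hz ω)
        (Cfsg.Agent.S3501.not_isConj_of_card_centralizer_ne N x y hxy)
        (Cfsg.Agent.S3501.not_isConj_of_card_centralizer_ne N x z hxz)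
        (Cfsg.Agent.S3501.not_isConj_of_card_centralizer_ne N y z hyz)
    · have hm1 : m = 1 := by omega
      subst hm1
      have hNs : IsSimpleGroup N := (e.trans (MulEquiv.funUnique (Fin 1) T)).isSimpleGroup
      by_cases hC : Subgroup.centralizer (N : Set G) = ⊥
      · exact hnas ⟨N, hNn, hNs, hcomm, hC⟩
      · -- N is semiregular: all its nonidentity elements are derangements
        have hNder : ∀ x : N, x ≠ 1 → ∀ ω : Ω, (x : G) • ω ≠ ω := by
          intro x hx ω hω
          apply hx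
          exact Subtype.ext (Cfsg.Agent.S3556.semiregular_of_centralizer N hC _ x.2 ω hω)
        have hord : ∀ x y : N, orderOf x ≠ orderOf y → ¬ IsConj (x : G) (y : G) := by
          intro x y hxy hconj
          obtain ⟨g, hg⟩ := isConj_iff.1 hconj
          apply hxy
          rw [← Subgroup.orderOf_coe x, ← Subgroup.orderOf_coe y, ← hg, orderOf_conj_eq]
        have hprime_ne : ∀ x : N, (orderOf x).Prime → x ≠ 1 := by
          intro x hx h
          rw [h, orderOf_one] at hx
          exact Nat.not_prime_one hx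
        obtain ⟨p, hp, hpd⟩ := Nat.exists_prime_and_dvd (n := Nat.card N) (by
          intro h
          exact hNb (Subgroup.card_eq_one.1 h))
        obtain ⟨q, hq, hqp, hqd⟩ := exists_prime_dvd_ne (T := N) hcomm p hp
        by_cases h3 : ∃ r : ℕ, r.Prime ∧ r ≠ p ∧ r ≠ q ∧ r ∣ Nat.card N
        · obtain ⟨r, hr, hrp, hrq, hrd⟩ := h3
          have : Fact p.Prime := ⟨hp⟩
          have : Fact q.Prime := ⟨hq⟩
          have : Fact r.Prime := ⟨hr⟩
          obtain ⟨x, hx⟩ := exists_prime_orderOf_dvd_card' p hpd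
          obtain ⟨y, hy⟩ := exists_prime_orderOf_dvd_card' q hqd
          obtain ⟨z, hz⟩ := exists_prime_orderOf_dvd_card' r hrd
          refine derClasses_two_not_three hκ (x : G) (y : G) (z : G)
            (hNder x (hprime_ne x (hx ▸ hp))) (hNder y (hprime_ne y (hy ▸ hq)))
            (hNder z (hprime_ne z (hz ▸ hr))) (hord x y ?_) (hord x z ?_) (hord y z ?_)
          · rw [hx, hy]; exact hqp.symm
          · rw [hx, hz]; exact hrp.symm
          · rw [hy, hz]; exact hrq.symm
        · push Not at h3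
          have hcases : ∀ r : ℕ, r.Prime → r ∣ Nat.card N → r = p ∨ r = q := by
            intro r hr hrd
            by_contra hcon
            push Not at hcon
            exact h3 r hr hcon.1 hcon.2 hrd
          obtain ⟨a, b, hab⟩ := card_eq_of_two_primes (Nat.card N) p q
            (Nat.card_pos (α := N)).ne' hp hq hcases
          have hsolv : Group.IsSolvable N := Cfsg.Agent.S0144.result p q a b hp hq hab
          apply hcomm
          have hcm := IsSimpleGroup.comm_iff_isSolvable.2 hsolv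
          exact ⟨⟨hcm⟩⟩

end Cfsg.Agent.S3520
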