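import Cfsg.Statements.S3532
import Mathlib
import Cfsg.Agent.S2475

set_option autoImplicit false
open Cfsg

namespace Cfsg.Agent.S3532

section Aff

variable {K : Type*} [Field K]

/-- the affine permutation `x ↦ a * x + b` -/
def affPerm (a b : K) (ha : a ≠ 0) : Equiv.Perm K where
  toFun x := a * x + b
  invFun y := a⁻¹ * (y - b)
  left_inv x := by
    show a⁻¹ * (a * x + b - b) = x
    rw [add_sub_cancel_right, inv_mul_cancel_left₀ ha]
  right_inv y := by
    show a * (a⁻¹ * (y - b)) + b = y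
    rw [mul_inv_cancel_left₀ ha, sub_add_cancel]

theorem affPerm_apply (a b : K) (ha : a ≠ 0) (x : K) : affPerm a b ha x = a * x + b := rfl

theorem affPerm_mul (a b c d : K) (ha : a ≠ 0) (hc : c ≠ 0) :
    affPerm a b ha * affPerm c d hc = affPerm (a * c) (a * d + b) (mul_ne_zero ha hc) := by
  ext x
  simp only [Equiv.Perm.mul_apply, affPerm_apply]
  ring

theorem affPerm_one : affPerm (1 : K) 0 one_ne_zero = 1 := by
  ext x
  simp [affPerm_apply]

theorem affPerm_inv (a b : K) (ha : a ≠ 0) :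
    (affPerm a b ha)⁻¹ = affPerm a⁻¹ (-(a⁻¹ * b)) (inv_ne_zero ha) := by
  rw [inv_eq_iff_mul_eq_one, affPerm_mul, ← affPerm_one]
  congr 1
  · exact mul_inv_cancel₀ ha
  · rw [mul_neg, mul_inv_cancel_left₀ ha, neg_add_cancel]

variable (K) in
/-- affine maps with linear part an `m`-th root of unity -/
def affM (m : ℕ) : Subgroup (Equiv.Perm K) where
  carrier := {σ | ∃ (a b : K) (ha : a ≠ 0), a ^ m = 1 ∧ σ = affPerm a b ha}
  one_mem' := ⟨1, 0, one_ne_zero, one_pow m, affPerm_one.symm⟩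
  mul_mem' := by
    rintro σ τ ⟨a, b, ha, ham, rfl⟩ ⟨c, d, hc, hcm, rfl⟩
    exact ⟨a * c, a * d + b, mul_ne_zero ha hc, by rw [mul_pow, ham, hcm, one_mul],
      affPerm_mul a b c d ha hc⟩
  inv_mem' := by
    rintro σ ⟨a, b, ha, ham, rfl⟩
    exact ⟨a⁻¹, -(a⁻¹ * b), inv_ne_zero ha, by rw [inv_pow, ham, inv_one], affPerm_inv a b ha⟩

theorem affPerm_mem (m : ℕ) (a b : K) (ha : a ≠ 0) (ham : a ^ m = 1) :
    affPerm a b ha ∈ affM K m := ⟨a, b, ha, ham, rfl⟩

/-- powers of a translation -/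
theorem affPerm_one_pow (b : K) (n : ℕ) :
    (affPerm 1 b one_ne_zero) ^ n = affPerm 1 (n • b) one_ne_zero := by
  induction n with
  | zero => rw [pow_zero, zero_smul, affPerm_one]
  | succ n ih =>
    rw [pow_succ, ih, affPerm_mul]
    congr 1
    · exact one_mul 1
    · rw [one_mul, succ_nsmul, add_comm]

/-- powers of an affine map with a fixed point -/
theorem affPerm_pow_apply (a b c : K) (ha : a ≠ 0) (hc : a * c + b = c) (n : ℕ) (x : K) :
    ((affPerm a b ha) ^ n) x = a ^ n * (x - c) + c := by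
  induction n generalizing x with
  | zero => simp
  | succ n ih =>
    rw [pow_succ, Equiv.Perm.mul_apply, ih, affPerm_apply]
    have : a * x + b - c = a * (x - c) := by linear_combination hc
    rw [this, pow_succ]
    ring

/-- orders of elements of `affM K m` divide `p` or `m` -/
theorem orderOf_affM (p : ℕ) [CharP K p] (m : ℕ) (σ : Equiv.Perm K) (hσ : σ ∈ affM K m) :
    orderOf σ ∣ p ∨ orderOf σ ∣ m := by
  obtain ⟨a, b, ha, ham, rfl⟩ := hσ
  by_cases ha1 : a = 1
  · left
    subst ha1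
    apply orderOf_dvd_of_pow_eq_one
    rw [affPerm_one_pow, ← affPerm_one]
    congr 1
    rw [nsmul_eq_mul, CharP.cast_eq_zero, zero_mul]
  · right
    apply orderOf_dvd_of_pow_eq_one
    have h1a : 1 - a ≠ 0 := fun h => ha1 (sub_eq_zero.mp h).symm
    have hc : a * (b / (1 - a)) + b = b / (1 - a) := by
      field_simp
      ring
    ext x
    rw [affPerm_pow_apply a b _ ha hc, ham, one_mul, sub_add_cancel]
    rfl

/-- the order of `x ↦ a * x` is the order of `a` -/
theorem orderOf_affPerm_zero (a : K) (ha : a ≠ 0) : orderOf (affPerm a 0 ha) = orderOf a := by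
  rw [orderOf_eq_orderOf_iff]
  intro n
  have hc : a * 0 + 0 = (0 : K) := by simp
  constructor
  · intro h
    have := congrArg (fun τ : Equiv.Perm K => τ 1) h
    simp only [affPerm_pow_apply a 0 0 ha hc, sub_zero, mul_one, add_zero,
      Equiv.Perm.coe_one, id_eq] at this
    exact this
  · intro h
    ext x
    rw [affPerm_pow_apply a 0 0 ha hc, h]
    simp

/-- the order of `x ↦ x + 1` is `p` -/
theorem orderOf_affPerm_one_one (p : ℕ) [hp : Fact p.Prime] [CharP K p] :
    orderOf (affPerm (1 : K) 1 one_ne_zero) = p := by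
  apply orderOf_eq_prime
  · rw [affPerm_one_pow, ← affPerm_one]
    congr 1
    rw [nsmul_eq_mul, CharP.cast_eq_zero, zero_mul]
  · intro h
    have := congrArg (fun τ : Equiv.Perm K => τ 0) h
    simp [affPerm_apply] at this

/-- the spectrum of `affM K m` -/
theorem range_orderOf_affM [Finite K] (p : ℕ) [hp : Fact p.Prime] [CharP K p] (m : ℕ)
    (hm : m ∣ Nat.card K - 1) :
    Set.range (orderOf : ↥(affM K m) → ℕ) = {n : ℕ | n ∣ p ∨ n ∣ m} := by
  have hK1 : 2 ≤ Nat.card K := by
    have : Nontrivial K := inferInstance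
    exact Finite.one_lt_card
  have hm0 : m ≠ 0 := by
    rintro rfl
    rw [zero_dvd_iff] at hm
    omega
  apply Set.eq_of_subset_of_subset
  · rintro _ ⟨σ, rfl⟩
    rw [← Subgroup.orderOf_coe]
    exact orderOf_affM p m σ.1 σ.2
  · rintro n (hn | hn)
    · rcases (Nat.dvd_prime hp.out).mp hn with h | h
      · rw [h]; exact ⟨1, orderOf_one⟩
      · rw [h]
        refine ⟨⟨affPerm 1 1 one_ne_zero, affPerm_mem m 1 1 one_ne_zero (one_pow m)⟩, ?_⟩
        rw [← Subgroup.orderOf_coe]
        exact orderOf_affPerm_one_one p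
    · -- an element of order n in Kˣ
      have hcyc : IsCyclic Kˣ := inferInstance
      obtain ⟨g, hg⟩ := hcyc.exists_ofOrder_eq_natCard
      have hcardU : Nat.card Kˣ = Nat.card K - 1 := by
        have := Fintype.ofFinite K
        classical
        rw [Nat.card_eq_fintype_card, Nat.card_eq_fintype_card, Fintype.card_units]
      rw [hcardU] at hg
      have hnK : n ∣ Nat.card K - 1 := hn.trans hm
      have hn0 : n ≠ 0 := by
        rintro rfl
        rw [zero_dvd_iff] at hn
        exact hm0 hn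
      set e := (Nat.card K - 1) / n with he
      have hen : e * n = Nat.card K - 1 := Nat.div_mul_cancel hnK
      have he0 : e ≠ 0 := by
        rintro h0
        rw [h0, zero_mul] at hen
        omega
      have hord : orderOf (g ^ e) = n := by
        rw [orderOf_pow_of_dvd he0 (by rw [hg, ← hen]; exact dvd_mul_right e n), hg, ← hen]
        exact Nat.mul_div_cancel_left n (Nat.pos_of_ne_zero he0)
      set a : K := ((g ^ e : Kˣ) : K) with ha
      have ha0 : a ≠ 0 := Units.ne_zero _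
      have hordK : orderOf a = n := by rw [ha, orderOf_units, hord]
      have ham : a ^ m = 1 := by
        obtain ⟨k, rfl⟩ := hn
        rw [pow_mul, ← hordK, pow_orderOf_eq_one, one_pow]
      refine ⟨⟨affPerm a 0 ha0, affPerm_mem m a 0 ha0 ham⟩, ?_⟩
      rw [← Subgroup.orderOf_coe]
      show orderOf (affPerm a 0 ha0) = n
      rw [orderOf_affPerm_zero, hordK]

/-- linear part of an affine map -/
def lin (m : ℕ) : ↥(affM K m) →* K where
  toFun σ := σ.1 1 - σ.1 0
  map_one' := by simp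
  map_mul' := by
    rintro ⟨σ, a, b, ha, ham, rfl⟩ ⟨τ, c, d, hc, hcm, rfl⟩
    show (affPerm a b ha * affPerm c d hc) 1 - (affPerm a b ha * affPerm c d hc) 0 =
      (affPerm a b ha 1 - affPerm a b ha 0) * (affPerm c d hc 1 - affPerm c d hc 0)
    simp only [Equiv.Perm.mul_apply, affPerm_apply]
    ring

theorem affM_solvable (m : ℕ) : Group.IsSolvable ↥(affM K m) := by
  let g := (lin (K := K) m).toHomUnits
  have hker : ∀ σ : ↥(affM K m), σ ∈ g.ker → ∃ b : K, ∀ x, σ.1 x = x + b := by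
    rintro ⟨σ, a, b, ha, ham, rfl⟩ hσ
    rw [MonoidHom.mem_ker] at hσ
    have h1 : ((g ⟨affPerm a b ha, a, b, ha, ham, rfl⟩ : Kˣ) : K) = 1 := by rw [hσ]; rfl
    rw [MonoidHom.coe_toHomUnits] at h1
    have ha1 : a = 1 := by
      have : affPerm a b ha 1 - affPerm a b ha 0 = 1 := h1
      simpa [affPerm_apply] using this
    subst ha1
    exact ⟨b, fun x => by simp [affPerm_apply]⟩
  have : Group.IsSolvable ↥g.ker := Group.isSolvable_of_comm (by
    intro σ τ
    obtain ⟨b, hb⟩ := hker σ.1 σ.2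
    obtain ⟨d, hd⟩ := hker τ.1 τ.2
    apply Subtype.ext
    apply Subtype.ext
    ext x
    show σ.1.1 (τ.1.1 x) = τ.1.1 (σ.1.1 x)
    rw [hb, hd, hd, hb]
    ring)
  exact Group.isSolvable_of_ker_le_range g.ker.subtype g (by rw [Subgroup.range_subtype])

end Aff

/-- the purely formal comparison of the two spectra -/
theorem lcm_cases (p m1 m2 s t : ℕ) (hs : s ∣ p ∨ s ∣ m1 ∨ s ∣ m2) (ht : t ∣ p ∨ t ∣ m1 ∨ t ∣ m2) :
    ∃ s' t' : ℕ, (s' ∣ p ∨ s' ∣ m1) ∧ (t' ∣ p ∨ t' ∣ m2) ∧ Nat.lcm s' t' = Nat.lcm s t := by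
  rcases hs with hs | hs | hs <;> rcases ht with ht | ht | ht
  · exact ⟨Nat.lcm s t, 1, Or.inl (Nat.lcm_dvd hs ht), Or.inl (one_dvd _), Nat.lcm_one_right _⟩
  · exact ⟨t, s, Or.inr ht, Or.inl hs, Nat.lcm_comm _ _⟩
  · exact ⟨s, t, Or.inl hs, Or.inr ht, rfl⟩
  · exact ⟨s, t, Or.inr hs, Or.inl ht, rfl⟩
  · exact ⟨Nat.lcm s t, 1, Or.inr (Nat.lcm_dvd hs ht), Or.inl (one_dvd _), Nat.lcm_one_right _⟩
  · exact ⟨s, t, Or.inr hs, Or.inr ht, rfl⟩
  · exact ⟨t, s, Or.inl ht, Or.inr hs, Nat.lcm_comm _ _⟩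
  · exact ⟨t, s, Or.inr ht, Or.inr hs, Nat.lcm_comm _ _⟩
  · exact ⟨1, Nat.lcm s t, Or.inl (one_dvd _), Or.inr (Nat.lcm_dvd hs ht), Nat.lcm_one_left _⟩

/-- Let q ≥ 4 be a prime power and L = PSL(2,q). There is a finite solvable group with the same set of element orders as L × L (so L × L is not determined by its spectrum). -/
theorem result {F : Type*} [Field F] [Fintype F] (hF : 4 ≤ Fintype.card F) :
    ∃ (H : Type) (_ : Group H) (_ : Finite H), Group.IsSolvable H ∧
      Set.range (orderOf : H → ℕ) = Set.range (orderOf : Matrix.ProjectiveSpecialLinearGroup (Fin 2) F × Matrix.ProjectiveSpecialLinearGroup (Fin 2) F → ℕ) := by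
  classical
  obtain ⟨p, hchar⟩ := CharP.exists F
  have hp : Fact p.Prime := ⟨CharP.char_is_prime F p⟩
  obtain ⟨f, _, hq⟩ := FiniteField.card F p
  set q := Fintype.card F with hqdef
  set d := Nat.gcd 2 (q - 1) with hd
  set m1 := (q - 1) / d with hm1def
  set m2 := (q + 1) / d with hm2def
  have hK1 : Nat.card (GaloisField p f) = q := by
    rw [GaloisField.card p f f.ne_zero, hq]
  have hK2 : Nat.card (GaloisField p (2 * f)) = q ^ 2 := by
    rw [GaloisField.card p (2 * f) (by positivity), hq, ← pow_mul, mul_comm]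
  have hm1 : m1 ∣ Nat.card (GaloisField p f) - 1 := by
    rw [hK1]; exact Nat.div_dvd_of_dvd (Nat.gcd_dvd_right 2 (q - 1))
  have hd2 : d ∣ q + 1 := by
    have h1 : d ∣ q - 1 := Nat.gcd_dvd_right 2 (q - 1)
    have h2 : d ∣ 2 := Nat.gcd_dvd_left 2 (q - 1)
    have : q + 1 = (q - 1) + 2 := by omega
    rw [this]
    exact Nat.dvd_add h1 h2
  have hm2 : m2 ∣ Nat.card (GaloisField p (2 * f)) - 1 := by
    rw [hK2]
    have h1 : m2 ∣ q + 1 := Nat.div_dvd_of_dvd hd2
    have h2 : q ^ 2 - 1 = (q + 1) * (q - 1) := by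
      have := Nat.sq_sub_sq q 1
      rw [one_pow] at this
      exact this
    rw [h2]
    exact Dvd.dvd.mul_right h1 _
  have hs1 : Group.IsSolvable ↥(affM (GaloisField p f) m1) := affM_solvable m1
  have hs2 : Group.IsSolvable ↥(affM (GaloisField p (2 * f)) m2) := affM_solvable m2
  refine ⟨↥(affM (GaloisField p f) m1) × ↥(affM (GaloisField p (2 * f)) m2), inferInstance,
    inferInstance, inferInstance, ?_⟩
  have hL := Cfsg.Agent.S2475.result (F := F) p hF
  have h1 := range_orderOf_affM (K := GaloisField p f) p m1 hm1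
  have h2 := range_orderOf_affM (K := GaloisField p (2 * f)) p m2 hm2
  ext n
  simp only [Set.mem_range, Prod.exists, Prod.orderOf_mk]
  constructor
  · rintro ⟨x, y, rfl⟩
    have hx : orderOf x ∈ Set.range (orderOf : ↥(affM (GaloisField p f) m1) → ℕ) := ⟨x, rfl⟩
    have hy : orderOf y ∈ Set.range (orderOf : ↥(affM (GaloisField p (2 * f)) m2) → ℕ) := ⟨y, rfl⟩
    rw [h1] at hx
    rw [h2] at hy
    have hx' : orderOf x ∈ Set.range
        (orderOf : Matrix.ProjectiveSpecialLinearGroup (Fin 2) F → ℕ) := by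
      rw [hL]
      rcases hx with h | h
      · exact Or.inl h
      · exact Or.inr (Or.inl h)
    have hy' : orderOf y ∈ Set.range
        (orderOf : Matrix.ProjectiveSpecialLinearGroup (Fin 2) F → ℕ) := by
      rw [hL]
      rcases hy with h | h
      · exact Or.inl h
      · exact Or.inr (Or.inr h)
    obtain ⟨u, hu⟩ := hx'
    obtain ⟨v, hv⟩ := hy'
    exact ⟨u, v, by rw [hu, hv]⟩
  · rintro ⟨u, v, rfl⟩
    have hu : orderOf u ∈ Set.range
        (orderOf : Matrix.ProjectiveSpecialLinearGroup (Fin 2) F → ℕ) := ⟨u, rfl⟩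
    have hv : orderOf v ∈ Set.range
        (orderOf : Matrix.ProjectiveSpecialLinearGroup (Fin 2) F → ℕ) := ⟨v, rfl⟩
    rw [hL] at hu hv
    obtain ⟨s', t', hs', ht', hlcm⟩ := lcm_cases p m1 m2 _ _ hu hv
    have hx : s' ∈ Set.range (orderOf : ↥(affM (GaloisField p f) m1) → ℕ) := by rw [h1]; exact hs'
    have hy : t' ∈ Set.range (orderOf : ↥(affM (GaloisField p (2 * f)) m2) → ℕ) := by
      rw [h2]; exact ht'
    obtain ⟨x, hx⟩ := hx
    obtain ⟨y, hy⟩ := hy
    exact ⟨x, y, by rw [hx, hy, hlcm]⟩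

end Cfsg.Agent.S3532
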