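import Cfsg.Statements.S3547
import Cfsg.Agent.Lib.Helper59.Derangement

set_option autoImplicit false
open Cfsg

namespace Cfsg.Agent.S3547

/-- Let G act faithfully and transitively on a finite set Ω, let D be the subgroup generated by the derangements, and let r_G and r_D be the numbers of orbits of G and of D on ordered pairs of points (the permutation ranks). Then r_D − 1 = (r_G − 1)·[G : D]. -/
theorem result {G Ω : Type*} [Group G] [Finite G] [MulAction G Ω] [FaithfulSMul G Ω] [Finite Ω]
    (htrans : MulAction.IsPretransitive G Ω) :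
    Nat.card (MulAction.orbitRel.Quotient ↥(Subgroup.closure {g : G | ∀ ω : Ω, g • ω ≠ ω}) (Ω × Ω)) - 1 =
      (Nat.card (MulAction.orbitRel.Quotient G (Ω × Ω)) - 1) * (Subgroup.closure {g : G | ∀ ω : Ω, g • ω ≠ ω}).index := by
  have hD : ∀ g : G, (∀ ω : Ω, g • ω ≠ ω) → g ∈ Subgroup.closure {g : G | ∀ ω : Ω, g • ω ≠ ω} :=
    fun g hg => Subgroup.subset_closure hg
  rcases isEmpty_or_nonempty Ω with h | h
  · have h1 : IsEmpty (MulAction.orbitRel.Quotient
        ↥(Subgroup.closure {g : G | ∀ ω : Ω, g • ω ≠ ω}) (Ω × Ω)) := by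
      constructor
      intro q
      induction q using Quotient.inductionOn' with
      | h x => exact h.false x.1
    have h2 : IsEmpty (MulAction.orbitRel.Quotient G (Ω × Ω)) := by
      constructor
      intro q
      induction q using Quotient.inductionOn' with
      | h x => exact h.false x.1
    rw [Nat.card_of_isEmpty, Nat.card_of_isEmpty]
    simp
  · have key := Cfsg.Agent.Lib.Helper59.der_rank_add _ hD
    set rD := Nat.card (MulAction.orbitRel.Quotient
        ↥(Subgroup.closure {g : G | ∀ ω : Ω, g • ω ≠ ω}) (Ω × Ω)) with hrD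
    set rG := Nat.card (MulAction.orbitRel.Quotient G (Ω × Ω)) with hrG
    set i := (Subgroup.closure {g : G | ∀ ω : Ω, g • ω ≠ ω}).index with hi
    have hrG1 : 1 ≤ rG := by
      have : Nonempty (MulAction.orbitRel.Quotient G (Ω × Ω)) :=
        ⟨Quotient.mk'' (Classical.arbitrary Ω, Classical.arbitrary Ω)⟩
      exact Nat.one_le_iff_ne_zero.mpr (Nat.card_ne_zero.mpr ⟨this, inferInstance⟩)
    clear_value rD rG i
    obtain ⟨r, rfl⟩ : ∃ r, rG = r + 1 := ⟨rG - 1, by omega⟩
    have : rD = r * i + 1 := by
      have : rD + i = r * i + i + 1 := by rw [key]; ring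
      omega
    rw [this]
    simp

end Cfsg.Agent.S3547
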