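import Cfsg.Statements.S3548
import Cfsg.Agent.Lib.Helper59.DerIndex

set_option autoImplicit false
open Cfsg

namespace Cfsg.Agent.S3548

open MulAction Cfsg.Agent.Lib.Helper59

/-- cardinality of the complement of a point -/
theorem card_compl_singleton {Ω : Type*} [Finite Ω] (α : Ω) :
    Nat.card (({α}ᶜ : Set Ω)) = Nat.card Ω - 1 := by
  rw [Nat.card_coe_set_eq, Set.ncard_compl, Set.ncard_singleton]

/-- The closure of a conjugation-invariant set is normal. -/
theorem closure_normal_of_conj {G : Type*} [Group G] (S : Set G)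
    (hS : ∀ g : G, ∀ s ∈ S, g * s * g⁻¹ ∈ S) : (Subgroup.closure S).Normal := by
  constructor
  intro n hn g
  induction hn using Subgroup.closure_induction with
  | mem x hx => exact Subgroup.subset_closure (hS g x hx)
  | one => simp
  | mul x y _ _ hx hy =>
    have : g * (x * y) * g⁻¹ = (g * x * g⁻¹) * (g * y * g⁻¹) := by group
    rw [this]; exact Subgroup.mul_mem _ hx hy
  | inv x _ hx =>
    have : g * x⁻¹ * g⁻¹ = (g * x * g⁻¹)⁻¹ := by group
    rw [this]; exact Subgroup.inv_mem _ hx

/-- The set of derangements is conjugation invariant. -/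
theorem derangement_conj {G Ω : Type*} [Group G] [MulAction G Ω] (g s : G)
    (hs : ∀ ω : Ω, s • ω ≠ ω) : ∀ ω : Ω, (g * s * g⁻¹) • ω ≠ ω := by
  intro ω h
  apply hs (g⁻¹ • ω)
  have : g⁻¹ • ((g * s * g⁻¹) • ω) = g⁻¹ • ω := by rw [h]
  rw [← mul_smul] at this
  have e : g⁻¹ * (g * s * g⁻¹) = s * g⁻¹ := by group
  rw [e, mul_smul] at this
  exact this

/-- The equality case: regular normal subgroup with transitive point stabilizer. -/
theorem isPrimePow_of_index_eq {G Ω : Type*} [Group G] [Finite G] [MulAction G Ω]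
    [FaithfulSMul G Ω] [Finite Ω] [IsPretransitive G Ω] (hΩ : 2 ≤ Nat.card Ω)
    (D : Subgroup G) (hDn : D.Normal) (hD : ∀ g : G, (∀ ω : Ω, g • ω ≠ ω) → g ∈ D)
    (hidx : D.index = Nat.card Ω - 1) : IsPrimePow (Nat.card Ω) := by
  classical
  have hne : Nonempty Ω := by
    have : 0 < Nat.card Ω := by omega
    exact (Nat.card_pos_iff.mp this).1
  obtain ⟨α⟩ := hne
  set C := stabilizer G α with hC
  set n := Nat.card Ω with hn
  have hDt : IsPretransitive D Ω := der_pretransitive D hD
  -- Step A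
  have stepA : ∀ β : Ω, β ≠ α → D ⊓ C ≤ stabilizer G β ∧ Nat.card (orbit C β) = n - 1 := by
    intro β hβ
    have hAB : stabilizer G β ⊓ C ≤ D ⊓ C := by
      intro h hh
      refine ⟨?_, hh.2⟩
      apply mem_of_card_fixedBy_ne_one D hD
      exact card_fixedBy_ne_one_of_two h α β (Ne.symm hβ) hh.2 hh.1
    have h1 := Subgroup.relIndex_mul_relIndex (stabilizer G β ⊓ C) (D ⊓ C) C hAB inf_le_right
    rw [Subgroup.inf_relIndex_right, Subgroup.inf_relIndex_right,
      relIndex_stabilizer_eq_index D hDt α, hidx, ← card_orbit_subgroup_eq_relIndex] at h1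
    have hle : Nat.card (orbit C β) ≤ n - 1 := by
      rw [← card_compl_singleton α]
      apply Nat.card_mono (Set.toFinite _)
      intro x hx
      obtain ⟨c, rfl⟩ := hx
      intro hx
      apply hβ
      have h2 : (c : G) • β = α := hx
      have h3 : (c : G) • α = α := c.2
      have : (c : G) • β = (c : G) • α := by rw [h2, h3]
      exact smul_left_cancel _ this
    have hne0 : (stabilizer G β ⊓ C).relIndex (D ⊓ C) ≠ 0 := by
      have : Finite (↥(D ⊓ C) ⧸ (stabilizer G β ⊓ C).subgroupOf (D ⊓ C)) := inferInstance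
      exact Subgroup.index_ne_zero_of_finite
    have hn1 : 1 ≤ n - 1 := by omega
    have hk : (stabilizer G β ⊓ C).relIndex (D ⊓ C) = 1 := by
      rcases Nat.lt_or_ge ((stabilizer G β ⊓ C).relIndex (D ⊓ C)) 2 with h | h
      · omega
      · exfalso
        have : 2 * (n - 1) ≤ (stabilizer G β ⊓ C).relIndex (D ⊓ C) * (n - 1) :=
          Nat.mul_le_mul_right _ h
        omega
    refine ⟨?_, ?_⟩
    · exact (Subgroup.relIndex_eq_one.mp hk).trans inf_le_left
    · rw [hk, one_mul] at h1
      exact h1.symm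
  -- Step B
  have stepB : D ⊓ C = ⊥ := by
    rw [eq_bot_iff]
    intro h hh
    rw [Subgroup.mem_bot]
    apply FaithfulSMul.eq_of_smul_eq_smul (α := Ω)
    intro β
    rw [one_smul]
    by_cases hβ : β = α
    · rw [hβ]; exact hh.2
    · exact (stepA β hβ).1 hh
  -- Step C
  have stepC : Nat.card D = n := by
    have h1 : (stabilizer ↥D α).index = Nat.card Ω := index_stabilizer_of_transitive ↥D α
    have h2 : stabilizer ↥D α = ⊥ := by
      rw [eq_bot_iff]
      intro d hd
      rw [Subgroup.mem_bot]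
      have : (d : G) ∈ D ⊓ C := ⟨d.2, hd⟩
      rw [stepB, Subgroup.mem_bot] at this
      exact Subtype.ext this
    rw [h2, Subgroup.index_bot] at h1
    exact h1
  -- Step D
  have stepD : ∀ d0 ∈ D, d0 ≠ 1 → ∀ d ∈ D, d ≠ 1 → ∃ h : G, h * d0 * h⁻¹ = d := by
    intro d0 hd0 hd01 d hd hd1
    have hmove : ∀ x ∈ D, x ≠ 1 → x • α ≠ α := by
      intro x hx hx1 hfix
      have : x ∈ D ⊓ C := ⟨hx, hfix⟩
      rw [stepB, Subgroup.mem_bot] at this
      exact hx1 this
    have horb : orbit C (d0 • α) = ({α}ᶜ : Set Ω) := by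
      apply Set.eq_of_subset_of_ncard_le
      · intro x hx
        obtain ⟨c, rfl⟩ := hx
        intro hx
        apply hmove d0 hd0 hd01
        have h2 : (c : G) • (d0 • α) = α := hx
        have h3 : (c : G) • α = α := c.2
        have : (c : G) • (d0 • α) = (c : G) • α := by rw [h2, h3]
        exact smul_left_cancel _ this
      · rw [← Nat.card_coe_set_eq, ← Nat.card_coe_set_eq, card_compl_singleton,
          (stepA (d0 • α) (hmove d0 hd0 hd01)).2]
      · exact Set.toFinite _
    have hmem : d • α ∈ orbit C (d0 • α) := by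
      rw [horb]
      exact hmove d hd hd1
    obtain ⟨c, hc⟩ := hmem
    refine ⟨c, ?_⟩
    have hc' : (c : G) • (d0 • α) = d • α := hc
    have hcα : (c : G) • α = α := c.2
    have hcα' : (c : G)⁻¹ • α = α := by
      rw [inv_smul_eq_iff, hcα]
    have hmem2 : d⁻¹ * ((c : G) * d0 * (c : G)⁻¹) ∈ D ⊓ C := by
      refine ⟨D.mul_mem (D.inv_mem hd) (hDn.conj_mem d0 hd0 c), ?_⟩
      show (d⁻¹ * ((c : G) * d0 * (c : G)⁻¹)) • α = α
      rw [mul_smul, mul_smul, mul_smul, hcα', hc', inv_smul_smul]
    rw [stepB, Subgroup.mem_bot] at hmem2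
    have := congrArg (fun t => d * t) hmem2
    simpa [mul_assoc] using this
  -- Step E
  have hn2 : n ≠ 1 := by omega
  obtain ⟨p, hp, hpn⟩ := Nat.exists_prime_and_dvd hn2
  have : Fact p.Prime := ⟨hp⟩
  obtain ⟨x, hx⟩ := exists_prime_orderOf_dvd_card' (G := ↥D) p (by rw [stepC]; exact hpn)
  have hx1 : (x : G) ≠ 1 := by
    intro h
    have : x = 1 := Subtype.ext h
    rw [this, orderOf_one] at hx
    exact hp.ne_one hx.symm
  have hxo : orderOf (x : G) = p := by rw [Subgroup.orderOf_coe]; exact hx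
  have hpg : IsPGroup p D := by
    intro g
    by_cases hg : (g : G) = 1
    · refine ⟨0, ?_⟩
      have : g = 1 := Subtype.ext hg
      rw [this, one_pow]
    · refine ⟨1, ?_⟩
      obtain ⟨h, hh⟩ := stepD x x.2 hx1 g g.2 hg
      have ho : orderOf (g : G) = p := by
        rw [← hh]
        have : h * (x : G) * h⁻¹ = MulAut.conj h (x : G) := by simp [MulAut.conj_apply]
        rw [this, MulEquiv.orderOf_eq, hxo]
      apply Subtype.ext
      rw [pow_one, Subgroup.coe_pow, Subgroup.coe_one, ← ho]
      exact pow_orderOf_eq_one _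
  obtain ⟨k, hk⟩ := IsPGroup.iff_card.mp hpg
  rw [stepC] at hk
  have hk0 : k ≠ 0 := by
    rintro rfl
    rw [pow_zero] at hk
    omega
  exact ⟨p, k, hp.prime, Nat.pos_of_ne_zero hk0, hk.symm⟩

/-- Let G act faithfully and transitively on a finite set with n ≥ 2 points and let D be the subgroup generated by the derangements. Then the index of D in G divides n − 1, and if it equals n − 1 then n is a prime power. -/
theorem result {G Ω : Type*} [Group G] [Finite G] [MulAction G Ω] [FaithfulSMul G Ω] [Finite Ω]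
    (htrans : MulAction.IsPretransitive G Ω) (hΩ : 2 ≤ Nat.card Ω) :
    (Subgroup.closure {g : G | ∀ ω : Ω, g • ω ≠ ω}).index ∣ Nat.card Ω - 1 ∧
    ((Subgroup.closure {g : G | ∀ ω : Ω, g • ω ≠ ω}).index = Nat.card Ω - 1 → IsPrimePow (Nat.card Ω)) := by
  have hD : ∀ g : G, (∀ ω : Ω, g • ω ≠ ω) → g ∈ Subgroup.closure {g : G | ∀ ω : Ω, g • ω ≠ ω} :=
    fun g hg => Subgroup.subset_closure hg
  have hne : Nonempty Ω := by
    have : 0 < Nat.card Ω := by omega
    exact (Nat.card_pos_iff.mp this).1
  obtain ⟨α⟩ := hne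
  refine ⟨?_, ?_⟩
  · rw [← card_compl_singleton α]
    apply der_index_dvd _ hD α
    · simp
    · intro h hh y hy hy2
      apply hy
      have h2 : h • y = α := hy2
      have h3 : h • α = α := hh
      have : h • y = h • α := by rw [h2, h3]
      exact smul_left_cancel _ this
  · intro hidx
    apply isPrimePow_of_index_eq hΩ _ _ hD hidx
    apply closure_normal_of_conj
    intro g s hs
    exact derangement_conj g s hs

end Cfsg.Agent.S3548
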