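import Cfsg.Statements.S3549
import Cfsg.Agent.Lib.Helper59.DerIndex

set_option autoImplicit false
open Cfsg

namespace Cfsg.Agent.S3549

open MulAction Cfsg.Agent.Lib.Helper59
open scoped Pointwise

/-- pure arithmetic core -/
theorem arith_core (i k m n : ℕ) (hk : 2 ≤ k) (hm : 2 ≤ m) (hn : k * m = n)
    (h1 : i ∣ k - 1) (h2 : i ∣ n - k) : (i + 1) ^ 2 ≤ n := by
  have hcop : Nat.Coprime i k := by
    have hg1 : Nat.gcd i k ∣ k - 1 := (Nat.gcd_dvd_left i k).trans h1
    have hg2 : Nat.gcd i k ∣ k := Nat.gcd_dvd_right i k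
    have : Nat.gcd i k ∣ k - (k - 1) := Nat.dvd_sub hg2 hg1
    have h3 : k - (k - 1) = 1 := by omega
    rw [h3] at this
    exact Nat.dvd_one.mp this
  have h4 : n - k = k * (m - 1) := by
    rw [← hn, Nat.mul_sub, mul_one]
  rw [h4] at h2
  have h5 : i ∣ m - 1 := hcop.dvd_of_dvd_mul_left h2
  have h6 : i ≤ k - 1 := Nat.le_of_dvd (by omega) h1
  have h7 : i ≤ m - 1 := Nat.le_of_dvd (by omega) h5
  have h8 : i + 1 ≤ k := by omega
  have h9 : i + 1 ≤ m := by omega
  calc (i + 1) ^ 2 = (i + 1) * (i + 1) := sq _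
    _ ≤ k * m := Nat.mul_le_mul h8 h9
    _ = n := hn

/-- Let G act faithfully, transitively but imprimitively on a finite set with n points, and let D be the subgroup generated by the derangements. Then the index of D in G is at most √n − 1. -/
theorem result {G Ω : Type*} [Group G] [Finite G] [MulAction G Ω] [FaithfulSMul G Ω] [Finite Ω]
    (htrans : MulAction.IsPretransitive G Ω) (himp : ¬ MulAction.IsPreprimitive G Ω) :
    ((Subgroup.closure {g : G | ∀ ω : Ω, g • ω ≠ ω}).index : ℝ) ≤ Real.sqrt (Nat.card Ω) - 1 := by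
  classical
  have hD : ∀ g : G, (∀ ω : Ω, g • ω ≠ ω) → g ∈ Subgroup.closure {g : G | ∀ ω : Ω, g • ω ≠ ω} :=
    fun g hg => Subgroup.subset_closure hg
  -- a nontrivial block
  obtain ⟨B, hB, hBt⟩ : ∃ B : Set Ω, IsBlock G B ∧ ¬ IsTrivialBlock B := by
    by_contra hcon
    push Not at hcon
    exact himp ⟨fun {B} hB => hcon B hB⟩
  rw [IsTrivialBlock, not_or] at hBt
  obtain ⟨hBs, hBu⟩ := hBt
  rw [Set.not_subsingleton_iff] at hBs
  obtain ⟨α, hα⟩ := hBs.nonempty
  set i := (Subgroup.closure {g : G | ∀ ω : Ω, g • ω ≠ ω}).index with hi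
  set n := Nat.card Ω with hn
  set k := B.ncard with hk
  set m := (orbit G B).ncard with hm
  have hkm : k * m = n := hB.ncard_block_mul_ncard_orbit_eq ⟨α, hα⟩
  have hk2 : 2 ≤ k := by
    have := (Set.one_lt_ncard_iff_nontrivial).mpr hBs
    omega
  have hkn : k < n := by
    rw [hk, hn, ← Set.ncard_univ]
    apply Set.ncard_lt_ncard _ (Set.toFinite _)
    exact (Set.ssubset_univ_iff).mpr hBu
  have hm2 : 2 ≤ m := by
    by_contra hlt
    have : m ≤ 1 := by omega
    have : k * m ≤ k * 1 := Nat.mul_le_mul_left _ this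
    omega
  have hstab : stabilizer G α ≤ stabilizer G B := hB.stabilizer_le hα
  have hinv : ∀ h ∈ stabilizer G α, ∀ y : Ω, h • y ∈ B ↔ y ∈ B := by
    intro h hh y
    have h1 : h • B = B := hstab hh
    constructor
    · intro hy
      have : h • y ∈ h • B := by rw [h1]; exact hy
      exact (Set.smul_mem_smul_set_iff).mp this
    · intro hy
      rw [← h1]
      exact Set.smul_mem_smul_set hy
  -- i ∣ k - 1
  have h1 : i ∣ k - 1 := by
    have hc : Nat.card ((B \ {α} : Set Ω)) = k - 1 := by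
      rw [Nat.card_coe_set_eq, Set.ncard_sdiff (by simpa using hα), Set.ncard_singleton]
    rw [← hc]
    apply der_index_dvd _ hD α
    · simp
    · intro h hh y hy
      refine ⟨(hinv h hh y).mpr hy.1, ?_⟩
      intro hy2
      apply hy.2
      have h2 : h • y = α := hy2
      have h3 : h • α = α := hh
      have : h • y = h • α := by rw [h2, h3]
      exact smul_left_cancel _ this
  -- i ∣ n - k
  have h2 : i ∣ n - k := by
    have hc : Nat.card ((Bᶜ : Set Ω)) = n - k := by
      rw [Nat.card_coe_set_eq, Set.ncard_compl]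
    rw [← hc]
    apply der_index_dvd _ hD α
    · simpa using hα
    · intro h hh y hy hy2
      exact hy ((hinv h hh y).mp hy2)
  have key := arith_core i k m n hk2 hm2 hkm h1 h2
  have hr : ((i : ℝ) + 1) ≤ Real.sqrt (n : ℝ) := by
    apply Real.le_sqrt_of_sq_le
    have : (((i + 1) ^ 2 : ℕ) : ℝ) ≤ (n : ℝ) := by exact_mod_cast key
    simpa using this
  linarith

end Cfsg.Agent.S3549
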