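import Cfsg.Statements.S3554
-- import your own Cfsg.Agent.* helpers here

set_option autoImplicit false
open Cfsg

namespace Cfsg.Agent.S3554

/-- Let G act faithfully and transitively on a finite set and suppose G has a non-trivial cyclic normal subgroup. Then some element of G of prime order fixes no point. -/
theorem result {G Ω : Type*} [Group G] [Finite G] [MulAction G Ω] [FaithfulSMul G Ω] [Finite Ω]
    (htrans : MulAction.IsPretransitive G Ω) (C : Subgroup G) (hC : C.Normal) (hC1 : C ≠ ⊥) (hcyc : IsCyclic ↥C) :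
    ∃ g : G, (orderOf g).Prime ∧ ∀ ω : Ω, g • ω ≠ ω := by
  classical
  obtain ⟨⟨c, hcC⟩, hgen⟩ := hcyc.exists_generator
  have hgen' : ∀ x ∈ C, x ∈ Subgroup.zpowers c := by
    intro x hx
    obtain ⟨j, hj⟩ := hgen ⟨x, hx⟩
    refine ⟨j, ?_⟩
    have := congrArg Subtype.val hj
    simpa using this
  set m := orderOf c with hm
  have hmpos : 0 < m := orderOf_pos c
  have hm1 : m ≠ 1 := by
    intro h
    have hc1 : c = 1 := orderOf_eq_one_iff.mp h
    apply hC1
    rw [eq_bot_iff]
    intro x hx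
    obtain ⟨j, hj⟩ := hgen' x hx
    have hj' : c ^ j = x := hj
    rw [Subgroup.mem_bot, ← hj', hc1, one_zpow]
  set p := m.minFac with hp
  have hpp : p.Prime := Nat.minFac_prime hm1
  have hpm : p ∣ m := Nat.minFac_dvd m
  set d := m / p with hd
  have hdm : d ∣ m := Nat.div_dvd_of_dvd hpm
  have hdpos : d ≠ 0 := by
    intro h0
    have : m = 0 := by
      have := Nat.div_mul_cancel hpm
      rw [← hd, h0, zero_mul] at this
      exact this.symm
    omega
  set g := c ^ d with hg
  have hgord : orderOf g = p := by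
    rw [hg, orderOf_pow_of_dvd hdpos hdm, ← hm, hd]
    exact Nat.div_div_self hpm (by omega)
  have hconj : ∀ h : G, ∃ j : ℤ, h * g * h⁻¹ = g ^ j := by
    intro h
    have h1 : h * c * h⁻¹ ∈ C := hC.conj_mem c hcC h
    obtain ⟨j, hj⟩ := hgen' _ h1
    have hj' : c ^ j = h * c * h⁻¹ := hj
    refine ⟨j, ?_⟩
    have h2 : h * g * h⁻¹ = (h * c * h⁻¹) ^ d := by
      rw [hg, conj_pow]
    rw [h2, ← hj', hg]
    rw [← zpow_natCast, ← zpow_natCast, ← zpow_mul, ← zpow_mul, mul_comm]
  refine ⟨g, hgord ▸ hpp, ?_⟩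
  intro ω0 hfix
  have hall : ∀ ω : Ω, g • ω = ω := by
    intro ω
    obtain ⟨h, rfl⟩ := htrans.exists_smul_eq ω0 ω
    obtain ⟨j, hj⟩ := hconj h⁻¹
    have h3 : g * h = h * g ^ j := by
      rw [← hj]; group
    rw [← mul_smul, h3, mul_smul]
    congr 1
    have : g ∈ MulAction.stabilizer G ω0 := hfix
    exact (MulAction.stabilizer G ω0).zpow_mem this j
  have hg1 : g = 1 := by
    apply FaithfulSMul.eq_of_smul_eq_smul (α := Ω)
    intro ω
    rw [hall, one_smul]
  rw [hg1, orderOf_one] at hgord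
  exact hpp.ne_one hgord.symm

end Cfsg.Agent.S3554
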