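import Cfsg.Statements.S3555
import Cfsg.Agent.Lib.Helper59.Derangement

set_option autoImplicit false
open Cfsg

namespace Cfsg.Agent.S3555

open MulAction Cfsg.Agent.Lib.Helper59

section Count

variable {G Ω : Type*} [Group G] [Fintype G] [DecidableEq G] [MulAction G Ω] [Fintype Ω]
  [DecidableEq Ω]

variable (Ω) in
/-- fixed point finset -/
def fx (g : G) : Finset Ω := Finset.univ.filter (fun x => g • x = x)

omit [Fintype G] [DecidableEq G] in
theorem card_fx (g : G) : (fx Ω g).card = Nat.card (fixedBy Ω g) := by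
  rw [Nat.card_eq_fintype_card, fx, ← Fintype.card_subtype]
  rfl

/-- the finset of derangements -/
def der (G Ω : Type*) [Group G] [Fintype G] [MulAction G Ω] [Fintype Ω] [DecidableEq Ω] :
    Finset G := Finset.univ.filter (fun g : G => ∀ ω : Ω, g • ω ≠ ω)

/-- indicator of `x ≠ y`, `g` fixing both -/
def cc (g : G) (x y : Ω) : ℕ := if (x ≠ y ∧ g • x = x ∧ g • y = y) then 1 else 0

omit [DecidableEq G] in
theorem sum_fx [IsPretransitive G Ω] [Nonempty Ω] : ∑ g : G, (fx Ω g).card = Fintype.card G := by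
  have := burnside_transitive (G := G) (Ω := Ω)
  rw [Nat.card_eq_fintype_card] at this
  rw [← this]
  apply Finset.sum_congr rfl
  intro g _
  exact card_fx g

omit [Fintype G] [DecidableEq G] in
theorem fx_eq_empty_iff (g : G) : fx Ω g = ∅ ↔ ∀ ω : Ω, g • ω ≠ ω := by
  rw [fx, Finset.filter_eq_empty_iff]
  simp

omit [DecidableEq G] in
theorem sum_fx_pred [IsPretransitive G Ω] [Nonempty Ω] :
    ∑ g : G, ((fx Ω g).card - 1) = (der G Ω).card := by
  have h1 : ∀ g : G, ((fx Ω g).card - 1) + (if (∀ ω : Ω, g • ω ≠ ω) then 0 else 1) = (fx Ω g).card := by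
    intro g
    split_ifs with h
    · rw [(fx_eq_empty_iff g).mpr h]; simp
    · have : fx Ω g ≠ ∅ := fun e => h ((fx_eq_empty_iff g).mp e)
      have : 0 < (fx Ω g).card := Finset.card_pos.mpr (Finset.nonempty_iff_ne_empty.mpr this)
      omega
  have h2 : ∑ g : G, ((fx Ω g).card - 1) + ∑ g : G, (if (∀ ω : Ω, g • ω ≠ ω) then 0 else 1) =
      Fintype.card G := by
    rw [← Finset.sum_add_distrib, ← sum_fx (G := G) (Ω := Ω)]
    exact Finset.sum_congr rfl (fun g _ => h1 g)
  have h3 : ∑ g : G, (if (∀ ω : Ω, g • ω ≠ ω) then 0 else 1) =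
      (Finset.univ.filter (fun g : G => ¬ ∀ ω : Ω, g • ω ≠ ω)).card := by
    rw [Finset.card_filter]
    apply Finset.sum_congr rfl
    intro g _
    split_ifs <;> simp_all
  have h4 := Finset.card_filter_add_card_filter_not (s := (Finset.univ : Finset G))
    (fun g : G => ∀ ω : Ω, g • ω ≠ ω)
  rw [Finset.card_univ] at h4
  rw [h3] at h2
  rw [der]
  omega

omit [Fintype G] [DecidableEq G] in
theorem sum_cc_eq (g : G) : ∑ x : Ω, ∑ y : Ω, cc g x y = (fx Ω g).card * ((fx Ω g).card - 1) := by
  rw [Nat.mul_sub_one, ← Finset.offDiag_card, ← Finset.sum_product', Finset.univ_product_univ]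
  have : ∀ p : Ω × Ω, cc g p.1 p.2 = if p ∈ (fx Ω g).offDiag then 1 else 0 := by
    intro p
    unfold cc
    apply if_congr _ rfl rfl
    rw [Finset.mem_offDiag, fx, Finset.mem_filter, Finset.mem_filter]
    simp only [Finset.mem_univ, true_and]
    tauto
  rw [Finset.sum_congr rfl (fun p _ => this p), ← Finset.card_filter]
  congr 1
  ext p
  simp

omit [DecidableEq G] in
theorem sum_T : ∑ x : Ω, ∑ y : Ω, ∑ g : G, cc g x y =
    ∑ g : G, (fx Ω g).card * ((fx Ω g).card - 1) := by
  have : ∑ x : Ω, ∑ y : Ω, ∑ g : G, cc g x y = ∑ g : G, ∑ x : Ω, ∑ y : Ω, cc g x y := by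
    calc ∑ x : Ω, ∑ y : Ω, ∑ g : G, cc g x y = ∑ x : Ω, ∑ g : G, ∑ y : Ω, cc g x y :=
          Finset.sum_congr rfl (fun x _ => Finset.sum_comm)
      _ = ∑ g : G, ∑ x : Ω, ∑ y : Ω, cc g x y := Finset.sum_comm
  rw [this]
  exact Finset.sum_congr rfl (fun g _ => sum_cc_eq g)

omit [DecidableEq G] in
/-- For each base point `x`, the number of derangements is at most `T_x`, provided all
derangements are involutions. -/
theorem T_lower (hinv : ∀ g : G, (∀ ω : Ω, g • ω ≠ ω) → g * g = 1) (x : Ω) :
    (der G Ω).card ≤ ∑ y : Ω, ∑ g : G, cc g x y := by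
  rw [Finset.card_eq_sum_card_fiberwise (f := fun t : G => t • x) (s := der G Ω)
    (t := Finset.univ) (by intro _ _; simp)]
  apply Finset.sum_le_sum
  intro y _
  have : ∑ g : G, cc g x y =
      (Finset.univ.filter (fun g : G => x ≠ y ∧ g • x = x ∧ g • y = y)).card := by
    rw [Finset.card_filter]; rfl
  rw [this]
  rcases (Finset.filter (fun t => t • x = y) (der G Ω)).eq_empty_or_nonempty with h | ⟨t0, ht0⟩
  · rw [h]; simp
  · rw [Finset.mem_filter, der, Finset.mem_filter] at ht0
    obtain ⟨⟨_, hd0⟩, hx0⟩ := ht0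
    have hxy : x ≠ y := by rintro rfl; exact hd0 x hx0
    have ht0y : t0 • y = x := by rw [← hx0, ← mul_smul, hinv t0 hd0, one_smul]
    apply Finset.card_le_card_of_injOn (fun t => t0⁻¹ * t)
    · intro t ht
      simp only [Finset.coe_filter, Set.mem_ofPred_eq, der, Finset.mem_filter, Finset.mem_univ,
        true_and] at ht ⊢
      obtain ⟨hd, hx⟩ := ht
      refine ⟨hxy, ?_, ?_⟩
      · rw [mul_smul, hx, inv_smul_eq_iff, hx0]
      · have hty : t • y = x := by rw [← hx, ← mul_smul, hinv t hd, one_smul]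
        rw [mul_smul, hty, inv_smul_eq_iff, ht0y]
    · intro a _ b _ hab
      exact mul_left_cancel hab

omit [DecidableEq G] in
/-- Frobenius property: a non-identity element fixes at most one point. -/
theorem K1 [IsPretransitive G Ω] [Nonempty Ω] [FaithfulSMul G Ω]
    (hinv : ∀ g : G, (∀ ω : Ω, g • ω ≠ ω) → g * g = 1) (g : G) (hg : g ≠ 1) :
    (fx Ω g).card ≤ 1 := by
  set n := Fintype.card Ω with hn
  have h1 : n * (der G Ω).card ≤ ∑ x : Ω, ∑ y : Ω, ∑ g : G, cc g x y := by
    calc n * (der G Ω).card = ∑ _x : Ω, (der G Ω).card := by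
          rw [Finset.sum_const, Finset.card_univ, smul_eq_mul]
      _ ≤ _ := Finset.sum_le_sum (fun x _ => T_lower hinv x)
  rw [sum_T] at h1
  have h2 : ∀ g : G, (fx Ω g).card * ((fx Ω g).card - 1) ≤ n * ((fx Ω g).card - 1) := by
    intro g
    apply Nat.mul_le_mul_right
    exact Finset.card_le_univ _
  have h3 : ∑ g : G, n * ((fx Ω g).card - 1) = n * (der G Ω).card := by
    rw [← Finset.mul_sum, sum_fx_pred]
  have h4 : ∑ g : G, (fx Ω g).card * ((fx Ω g).card - 1) = ∑ g : G, n * ((fx Ω g).card - 1) := by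
    apply le_antisymm (Finset.sum_le_sum (fun g _ => h2 g))
    rw [h3]; exact h1
  have h5 := (Finset.sum_eq_sum_iff_of_le (fun g _ => h2 g)).mp h4 g (Finset.mem_univ g)
  by_contra hcon
  push Not at hcon
  have h6 : (fx Ω g).card - 1 ≠ 0 := by omega
  have h7 : (fx Ω g).card = n := Nat.eq_of_mul_eq_mul_right (Nat.pos_of_ne_zero h6) h5
  have h8 : fx Ω g = Finset.univ := Finset.eq_univ_of_card _ h7
  apply hg
  apply FaithfulSMul.eq_of_smul_eq_smul (α := Ω)
  intro ω
  have : ω ∈ fx Ω g := by rw [h8]; exact Finset.mem_univ ω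
  rw [fx, Finset.mem_filter] at this
  rw [this.2, one_smul]

omit [DecidableEq G] in
/-- Frobenius property, pointwise form. -/
theorem K1' [IsPretransitive G Ω] [Nonempty Ω] [FaithfulSMul G Ω]
    (hinv : ∀ g : G, (∀ ω : Ω, g • ω ≠ ω) → g * g = 1) (g : G) (a b : Ω) (hab : a ≠ b)
    (ha : g • a = a) (hb : g • b = b) : g = 1 := by
  by_contra hg
  have h1 := K1 hinv g hg
  have h2 : ({a, b} : Finset Ω) ⊆ fx Ω g := by
    intro x hx
    rw [Finset.mem_insert, Finset.mem_singleton] at hx
    rw [fx, Finset.mem_filter]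
    rcases hx with rfl | rfl
    · exact ⟨Finset.mem_univ _, ha⟩
    · exact ⟨Finset.mem_univ _, hb⟩
  have h3 := Finset.card_le_card h2
  rw [Finset.card_pair hab] at h3
  omega

end Count

/-- three squares trivial imply commuting -/
theorem comm_of_sq {G : Type*} [Group G] (a b : G) (ha : a * a = 1) (hb : b * b = 1)
    (hab : (a * b) * (a * b) = 1) : a * b = b * a := by
  have h1 : a⁻¹ = a := inv_eq_of_mul_eq_one_left ha
  have h2 : b⁻¹ = b := inv_eq_of_mul_eq_one_left hb
  have h3 : (a * b)⁻¹ = a * b := inv_eq_of_mul_eq_one_left hab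
  rw [← h3, mul_inv_rev, h1, h2]

open scoped Pointwise in
/-- membership in a conjugate of the stabilizer -/
theorem mem_conj_stabilizer_iff {G Ω : Type*} [Group G] [MulAction G Ω] (α : Ω) (g x : G) :
    x ∈ MulAut.conj g • stabilizer G α ↔ x • (g • α) = g • α := by
  rw [Subgroup.mem_pointwise_smul_iff_inv_smul_mem, mem_stabilizer_iff]
  have : (MulAut.conj g)⁻¹ • x = g⁻¹ * x * g := by
    rw [← map_inv]
    simp
  rw [this, mul_smul, mul_smul, inv_smul_eq_iff]

open scoped Pointwise in
/-- Let G act faithfully and transitively on a finite set and suppose every element of G fixing no point is an involution. Then either G is an elementary abelian 2-group, or G is a Frobenius group whose Frobenius kernel is an elementary abelian 2-group: G has a Frobenius complement H, and the elements lying in no conjugate of H, together with the identity, pairwise commute and square to the identity. -/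
theorem result {G Ω : Type*} [Group G] [Finite G] [MulAction G Ω] [FaithfulSMul G Ω] [Finite Ω]
    (htrans : MulAction.IsPretransitive G Ω) (hinv : ∀ g : G, (∀ ω : Ω, g • ω ≠ ω) → orderOf g = 2) :
    (IsMulCommutative G ∧ ∀ g : G, g ^ 2 = 1) ∨
    (∃ H : Subgroup G, Cfsg.IsFrobeniusComplement H ∧
      (∀ x ∈ Cfsg.frobeniusKernel H, x ^ 2 = 1) ∧
      ∀ x ∈ Cfsg.frobeniusKernel H, ∀ y ∈ Cfsg.frobeniusKernel H, x * y = y * x) := by
  classical
  have := Fintype.ofFinite G
  have := Fintype.ofFinite Ω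
  have hne : Nonempty Ω := by
    by_contra h
    rw [not_nonempty_iff] at h
    have := hinv 1 (fun ω => (h.false ω).elim)
    rw [orderOf_one] at this
    omega
  have α : Ω := Classical.arbitrary Ω
  have hinv' : ∀ g : G, (∀ ω : Ω, g • ω ≠ ω) → g * g = 1 := by
    intro g hg
    have := hinv g hg
    rw [← sq, ← this]; exact pow_orderOf_eq_one g
  have hK1 : ∀ (g : G) (a b : Ω), a ≠ b → g • a = a → g • b = b → g = 1 :=
    fun g a b hab ha hb => K1' (G := G) (Ω := Ω) hinv' g a b hab ha hb
  have hK2 : ∀ s t : G, (∀ ω : Ω, s • ω ≠ ω) → (∀ ω : Ω, t • ω ≠ ω) →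
      (s * t) * (s * t) = 1 := by
    intro s t hs ht
    by_cases h : ∀ ω : Ω, (s * t) • ω ≠ ω
    · exact hinv' _ h
    · push Not at h
      obtain ⟨γ, hγ⟩ := h
      have h1 : t • γ = s • γ := by
        have : s • (s • (t • γ)) = s • γ := by rw [← mul_smul s t, hγ]
        rw [← mul_smul, hinv' s hs, one_smul] at this
        exact this
      have hδγ : γ ≠ s • γ := fun e => hs γ e.symm
      have h2 : (s⁻¹ * t) • γ = γ := by rw [mul_smul, h1, inv_smul_smul]
      have h3 : (s⁻¹ * t) • (s • γ) = s • γ := by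
        have ht2 : t • (s • γ) = γ := by rw [← h1, ← mul_smul, hinv' t ht, one_smul]
        have hs2 : s⁻¹ • γ = s • γ := by rw [inv_smul_eq_iff, ← mul_smul, hinv' s hs, one_smul]
        rw [mul_smul, ht2, hs2]
      have h4 := hK1 (s⁻¹ * t) γ (s • γ) hδγ h2 h3
      have hts : t = s := by
        have := congrArg (fun u => s * u) h4
        simpa using this
      rw [hts, hinv' s hs, one_mul]
  by_cases hH : stabilizer G α = ⊥
  · left
    have hder : ∀ g : G, g ≠ 1 → ∀ ω : Ω, g • ω ≠ ω := by
      intro g hg ω hω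
      obtain ⟨k, rfl⟩ := exists_smul_eq G α ω
      have hmem : k⁻¹ * g * k ∈ stabilizer G α := by
        rw [mem_stabilizer_iff, mul_smul, mul_smul, hω, inv_smul_smul]
      rw [hH, Subgroup.mem_bot] at hmem
      apply hg
      have := congrArg (fun u => k * u * k⁻¹) hmem
      simpa [mul_assoc] using this
    have hsq' : ∀ g : G, g * g = 1 := by
      intro g
      by_cases hg : g = 1
      · rw [hg, one_mul]
      · exact hinv' g (hder g hg)
    refine ⟨⟨⟨fun a b => ?_⟩⟩, fun g => by rw [sq]; exact hsq' g⟩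
    exact comm_of_sq a b (hsq' a) (hsq' b) (hsq' (a * b))
  · right
    have hker : ∀ x ∈ Cfsg.frobeniusKernel (stabilizer G α), x ≠ 1 → ∀ ω : Ω, x • ω ≠ ω := by
      intro x hx hx1 ω hω
      rcases hx with h | h
      · exact hx1 h
      · obtain ⟨k, rfl⟩ := exists_smul_eq G α ω
        exact h k ((mem_conj_stabilizer_iff α k x).mpr hω)
    refine ⟨stabilizer G α, ⟨hH, ?_, ?_⟩, ?_, ?_⟩
    · intro htop
      apply hH
      rw [eq_bot_iff]
      intro g _
      rw [Subgroup.mem_bot]
      apply FaithfulSMul.eq_of_smul_eq_smul (α := Ω)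
      intro ω
      obtain ⟨k, rfl⟩ := exists_smul_eq G α ω
      have h1 : k ∈ stabilizer G α := by rw [htop]; trivial
      have h2 : g ∈ stabilizer G α := by rw [htop]; trivial
      rw [mem_stabilizer_iff] at h1 h2
      rw [h1, h2, one_smul]
    · intro g hg
      rw [eq_bot_iff]
      intro x hx
      rw [Subgroup.mem_bot]
      obtain ⟨hx1, hx2⟩ := hx
      have hx2' : x ∈ MulAut.conj g • stabilizer G α := hx2
      rw [mem_conj_stabilizer_iff] at hx2'
      exact hK1 x α (g • α) (fun e => hg e.symm) hx1 hx2'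
    · intro x hx
      by_cases hx1 : x = 1
      · rw [hx1, one_pow]
      · rw [sq]; exact hinv' x (hker x hx hx1)
    · intro x hx y hy
      by_cases hx1 : x = 1
      · rw [hx1, one_mul, mul_one]
      by_cases hy1 : y = 1
      · rw [hy1, one_mul, mul_one]
      have hxd := hker x hx hx1
      have hyd := hker y hy hy1
      exact comm_of_sq x y (hinv' x hxd) (hinv' y hyd) (hK2 x y hxd hyd)

end Cfsg.Agent.S3555
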