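import Cfsg.Statements.S3559
import Cfsg.Agent.Lib.Helper19.SchurTransport

set_option autoImplicit false
open Cfsg

namespace Cfsg.Agent.S3559

open Cfsg.Agent.Lib.Helper19.SchurCyclic in
/-- Let G act faithfully and transitively on a finite set whose number of points n ≥ 2 is not a prime power, and suppose G has a cyclic subgroup acting regularly (transitively with trivial point stabilizers). Then G is imprimitive or doubly transitive. -/
theorem result {G Ω : Type*} [Group G] [Finite G] [MulAction G Ω] [FaithfulSMul G Ω] [Finite Ω]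
    (htrans : MulAction.IsPretransitive G Ω) (hn : 2 ≤ Nat.card Ω) (hnp : ¬ IsPrimePow (Nat.card Ω))
    (C : Subgroup G) (hcyc : IsCyclic ↥C) (hC : MulAction.IsPretransitive ↥C Ω ∧ ∀ a : Ω, MulAction.stabilizer ↥C a = ⊥) :
    ¬ MulAction.IsPreprimitive G Ω ∨ MulAction.IsMultiplyPretransitive G Ω 2 := by
  by_cases hP : MulAction.IsPreprimitive G Ω
  swap
  · exact Or.inl hP
  right
  obtain ⟨hCtr, hCstab⟩ := hC
  have hn0 : Nat.card Ω ≠ 0 := by omega
  haveI : NeZero (Nat.card Ω) := ⟨hn0⟩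
  have hne : Nonempty Ω := (Nat.card_pos_iff.1 (by omega)).1
  obtain ⟨ω₀⟩ := hne
  obtain ⟨gen, hgen⟩ := hcyc.exists_generator
  have hbij : Function.Bijective (fun c' : C => c' • ω₀) := by
    constructor
    · intro c₁ c₂ h
      have h' : c₁ • ω₀ = c₂ • ω₀ := h
      have : c₂⁻¹ * c₁ ∈ MulAction.stabilizer C ω₀ := by
        rw [MulAction.mem_stabilizer_iff, mul_smul, h', inv_smul_smul]
      rw [hCstab ω₀, Subgroup.mem_bot] at this
      exact (inv_mul_eq_one.1 this).symm
    · intro ω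
      exact hCtr.exists_smul_eq ω₀ ω
  have hcardC : Nat.card C = Nat.card Ω := Nat.card_eq_of_bijective _ hbij
  have hper : (gen : G) ^ Nat.card Ω • ω₀ = ω₀ := by
    have h1 : gen ^ Nat.card C = 1 := pow_card_eq_one'
    have h2 : (gen : G) ^ Nat.card C = 1 := by
      rw [← Subgroup.coe_pow, h1]; rfl
    rw [← hcardC, h2, one_smul]
  have hsurj : ∀ ω, ∃ k : ℕ, (gen : G) ^ k • ω₀ = ω := by
    intro ω
    obtain ⟨c', hc'⟩ := hCtr.exists_smul_eq ω₀ ω
    have h1 : c' ∈ Submonoid.powers gen := mem_powers_iff_mem_zpowers.2 (hgen c')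
    obtain ⟨k, hk⟩ := h1
    refine ⟨k, ?_⟩
    rw [← hc', ← hk]
    rfl
  obtain ⟨φ, hφ⟩ := exists_phi G rfl (gen : G) ω₀ hper hsurj
  have hmf : (Nat.card Ω).minFac.Prime := Nat.minFac_prime (by omega)
  have hne' : (Nat.card Ω).minFac ≠ Nat.card Ω := by
    intro h
    apply hnp
    rw [← h]
    exact hmf.isPrimePow
  exact two_pretransitive_of_preprimitive G (htrans_of_phi G hφ) hmf (Nat.minFac_dvd _) hne'

end Cfsg.Agent.S3559
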