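import Cfsg.Statements.S3560
import Cfsg.Agent.Lib.Helper59.PermTransport

set_option autoImplicit false
open Cfsg

namespace Cfsg.Agent.S3560

open MulAction Cfsg.Agent.Lib.Helper59
open scoped Pointwise

section Hamming

variable {ι : Type*} [Fintype ι] {A : Type*}

open Classical in
/-- Hamming distance on `ι → A`. -/
noncomputable def hd (x y : ι → A) : ℕ := (Finset.univ.filter (fun i => x i ≠ y i)).card

variable (ι A) in
/-- The isometry group of the Hamming space `ι → A`. -/
def isoGroup : Subgroup (Equiv.Perm (ι → A)) where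
  carrier := {σ | ∀ x y, hd (σ x) (σ y) = hd x y}
  one_mem' := by intro x y; rfl
  mul_mem' := by
    intro σ τ hσ hτ x y
    simp only [Equiv.Perm.coe_mul, Function.comp_apply]
    rw [hσ, hτ]
  inv_mem' := by
    intro σ hσ x y
    have := hσ (σ⁻¹ x) (σ⁻¹ y)
    simpa using this.symm

theorem mem_isoGroup (σ : Equiv.Perm (ι → A)) :
    σ ∈ isoGroup ι A ↔ ∀ x y, hd (σ x) (σ y) = hd x y := Iff.rfl

/-- coordinatewise permutation -/
def coordPerm (ρ : ι → Equiv.Perm A) : Equiv.Perm (ι → A) := Equiv.piCongrRight ρ

omit [Fintype ι] in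
theorem coordPerm_apply (ρ : ι → Equiv.Perm A) (x : ι → A) (i : ι) :
    coordPerm ρ x i = ρ i (x i) := rfl

theorem coordPerm_mem (ρ : ι → Equiv.Perm A) : coordPerm ρ ∈ isoGroup ι A := by
  intro x y
  unfold hd
  congr 1
  ext i
  simp only [Finset.mem_filter, Finset.mem_univ, true_and]
  rw [coordPerm_apply, coordPerm_apply]
  exact (ρ i).injective.ne_iff

/-- permutation of coordinates -/
def precompPerm (π : Equiv.Perm ι) : Equiv.Perm (ι → A) where
  toFun x := x ∘ π
  invFun x := x ∘ π.symm
  left_inv x := by ext i; simp
  right_inv x := by ext i; simp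

omit [Fintype ι] in
theorem precompPerm_apply (π : Equiv.Perm ι) (x : ι → A) (i : ι) :
    precompPerm π x i = x (π i) := rfl

theorem precompPerm_mem (π : Equiv.Perm ι) : precompPerm π ∈ isoGroup ι A := by
  intro x y
  unfold hd
  apply Finset.card_bijective π π.bijective
  intro i
  simp only [Finset.mem_filter, Finset.mem_univ, true_and]
  rw [precompPerm_apply, precompPerm_apply]

/-- change one coordinate by a permutation of `A` -/
def atPerm [DecidableEq ι] (i : ι) (τ : Equiv.Perm A) : Equiv.Perm (ι → A) :=
  coordPerm (Function.update (fun _ => (1 : Equiv.Perm A)) i τ)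

omit [Fintype ι] in
theorem atPerm_apply [DecidableEq ι] (i : ι) (τ : Equiv.Perm A) (x : ι → A) :
    atPerm i τ x = Function.update x i (τ (x i)) := by
  ext j
  unfold atPerm
  rw [coordPerm_apply]
  by_cases h : j = i
  · subst h
    simp
  · rw [Function.update_of_ne h, Function.update_of_ne h]
    rfl

theorem atPerm_mem [DecidableEq ι] (i : ι) (τ : Equiv.Perm A) : atPerm i τ ∈ isoGroup ι A := by
  unfold atPerm
  exact coordPerm_mem _

theorem exists_ne_ne [Finite A] (hA : 3 ≤ Nat.card A) (a b : A) : ∃ c : A, c ≠ a ∧ c ≠ b := by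
  classical
  by_contra hcon
  push Not at hcon
  have := Fintype.ofFinite A
  have h1 : (Finset.univ : Finset A) ⊆ {a, b} := by
    intro c _
    rw [Finset.mem_insert, Finset.mem_singleton]
    by_cases h : c = a
    · left; exact h
    · right; exact hcon c h
  have h2 := Finset.card_le_card h1
  have h3 : ({a, b} : Finset A).card ≤ 2 := Finset.card_le_two
  rw [Finset.card_univ, ← Nat.card_eq_fintype_card] at h2
  omega

/-- key consequence of the block property -/
theorem block_closed {B : Set (ι → A)} (hB : IsBlock (isoGroup ι A) B) (g : Equiv.Perm (ι → A))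
    (hg : g ∈ isoGroup ι A) (z : ι → A) (hz : z ∈ B) (hgz : g z ∈ B) (y : ι → A) (hy : y ∈ B) :
    g y ∈ B := by
  rcases (isBlock_iff_smul_eq_or_disjoint.mp hB) ⟨g, hg⟩ with h | h
  · rw [← h]
    exact ⟨y, hy, rfl⟩
  · exfalso
    exact Set.disjoint_left.mp h ⟨z, hz, rfl⟩ hgz

/-- A block of the isometry group with at least two points is everything (`|A| ≥ 3`). -/
theorem block_univ [Finite A] (hA : 3 ≤ Nat.card A) (B : Set (ι → A))
    (hB : IsBlock (isoGroup ι A) B) (hBn : ¬ B.Subsingleton) : B = Set.univ := by
  classical
  rw [Set.not_subsingleton_iff] at hBn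
  obtain ⟨x, hx, y, hy, hxy⟩ := hBn
  obtain ⟨i0, hi0⟩ := Function.ne_iff.mp hxy
  obtain ⟨c, hcx, hcy⟩ := exists_ne_ne hA (x i0) (y i0)
  -- Step 1
  have hy' : Function.update y i0 c ∈ B := by
    have h1 : atPerm i0 (Equiv.swap (y i0) c) x = x := by
      rw [atPerm_apply, Equiv.swap_apply_of_ne_of_ne hi0 (Ne.symm hcx), Function.update_eq_self]
    have h2 := block_closed hB _ (atPerm_mem i0 (Equiv.swap (y i0) c)) x hx (by rw [h1]; exact hx) y hy
    rw [atPerm_apply, Equiv.swap_apply_left] at h2
    exact h2
  -- rename
  obtain ⟨u, hu, hcu, huc⟩ : ∃ u : ι → A, u ∈ B ∧ c ≠ u i0 ∧ Function.update u i0 c ∈ B :=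
    ⟨y, hy, hcy, hy'⟩
  -- Step 2a
  have step2a : ∀ a : A, Function.update u i0 a ∈ B := by
    intro a
    by_cases ha : a = u i0
    · rw [ha, Function.update_eq_self]; exact hu
    · have h1 : atPerm i0 (Equiv.swap c a) u = u := by
        rw [atPerm_apply, Equiv.swap_apply_of_ne_of_ne (Ne.symm hcu) (Ne.symm ha),
          Function.update_eq_self]
      have h2 := block_closed hB _ (atPerm_mem i0 (Equiv.swap c a)) u hu (by rw [h1]; exact hu) _ huc
      rw [atPerm_apply, Function.update_self, Equiv.swap_apply_left, Function.update_idem] at h2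
      exact h2
  -- Stage 1
  have stage1 : ∀ (i : ι) (a : A), Function.update u i a ∈ B := by
    intro i a
    set π := Equiv.swap i i0 with hπ
    set ρ : ι → Equiv.Perm A := fun j => Equiv.swap (u (π j)) (u j) with hρ
    set g := coordPerm ρ * precompPerm π with hg
    have hgmem : g ∈ isoGroup ι A := (isoGroup ι A).mul_mem (coordPerm_mem ρ) (precompPerm_mem π)
    have h1 : g u = u := by
      ext j
      rw [hg, Equiv.Perm.mul_apply, coordPerm_apply, precompPerm_apply, hρ]
      exact Equiv.swap_apply_left _ _
    have h2 := block_closed hB g hgmem u hu (by rw [h1]; exact hu) _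
      (step2a (Equiv.swap (u i0) (u i) a))
    have h3 : g (Function.update u i0 (Equiv.swap (u i0) (u i) a)) = Function.update u i a := by
      ext j
      rw [hg, Equiv.Perm.mul_apply, coordPerm_apply, precompPerm_apply]
      show Equiv.swap (u (π j)) (u j) _ = _
      by_cases hj : j = i
      · subst hj
        have : π j = i0 := by rw [hπ]; exact Equiv.swap_apply_left _ _
        rw [this, Function.update_self, Function.update_self]
        simp
      · have hπj : π j ≠ i0 := by
          intro h
          apply hj
          have : π j = π i := by rw [h, hπ]; exact (Equiv.swap_apply_left _ _).symm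
          exact π.injective this
        rw [Function.update_of_ne hπj, Function.update_of_ne hj]
        exact Equiv.swap_apply_left _ _
    rw [h3] at h2
    exact h2
  -- Stage 2
  have stage2 : ∀ w ∈ B, ∀ (i : ι) (a : A), Function.update w i a ∈ B := by
    intro w hw i a
    set ρ : ι → Equiv.Perm A := fun j => Equiv.swap (u j) (w j) with hρ
    have h1 : coordPerm ρ u = w := by
      ext j
      rw [coordPerm_apply, hρ]
      exact Equiv.swap_apply_left _ _
    have h2 := block_closed hB _ (coordPerm_mem ρ) u hu (by rw [h1]; exact hw) _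
      (stage1 i (Equiv.swap (u i) (w i) a))
    have h3 : coordPerm ρ (Function.update u i (Equiv.swap (u i) (w i) a)) =
        Function.update w i a := by
      ext j
      rw [coordPerm_apply]
      show Equiv.swap (u j) (w j) _ = _
      by_cases hj : j = i
      · subst hj
        rw [Function.update_self, Function.update_self]
        simp
      · rw [Function.update_of_ne hj, Function.update_of_ne hj]
        exact Equiv.swap_apply_left _ _
    rw [h3] at h2
    exact h2
  -- conclusion
  rw [Set.eq_univ_iff_forall]
  intro z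
  have key : ∀ s : Finset ι, (fun i => if i ∈ s then z i else u i) ∈ B := by
    intro s
    induction s using Finset.induction_on with
    | empty => simpa using hu
    | insert i s _ ih =>
      have := stage2 _ ih i (z i)
      convert this using 1
      ext j
      by_cases hj : j = i
      · subst hj
        simp
      · rw [Function.update_of_ne hj]
        simp [hj]
  have := key Finset.univ
  simpa using this

/-- The isometry group of the Hamming space is primitive when `|A| ≥ 3`. -/
theorem isoGroup_preprimitive [Finite A] (hA : 3 ≤ Nat.card A) :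
    IsPreprimitive (isoGroup ι A) (ι → A) := by
  classical
  have htrans : IsPretransitive (isoGroup ι A) (ι → A) :=
    ⟨fun w z => ⟨⟨coordPerm (fun j => Equiv.swap (w j) (z j)), coordPerm_mem _⟩, by
      ext j; exact Equiv.swap_apply_left _ _⟩⟩
  exact
    { toIsPretransitive := htrans
      isTrivialBlock_of_isBlock := fun {B} hB => by
        by_cases h : B.Subsingleton
        · left; exact h
        · right; exact block_univ hA B hB h }

/-- The isometry group of the Hamming space is not 2-transitive when there are at least two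
coordinates and two letters. -/
theorem isoGroup_not_two (hι : 2 ≤ Fintype.card ι) (a b : A) (hab : a ≠ b) :
    ¬ IsMultiplyPretransitive (isoGroup ι A) (ι → A) 2 := by
  classical
  intro h2
  rw [is_two_pretransitive_iff] at h2
  obtain ⟨i0, i1, hi⟩ : ∃ i0 i1 : ι, i0 ≠ i1 := Fintype.one_lt_card_iff.mp (by omega)
  set x : ι → A := fun _ => a with hx
  set y := Function.update x i0 b with hy
  set z := Function.update y i1 b with hz
  have hdxy : hd x y = 1 := by
    unfold hd
    rw [Finset.card_eq_one]
    refine ⟨i0, ?_⟩
    ext i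
    simp only [Finset.mem_filter, Finset.mem_univ, true_and, Finset.mem_singleton]
    by_cases h : i = i0
    · subst h; simp [hy, hx, hab]
    · simp [hy, hx, h]
  have hdxz : hd x z = 2 := by
    unfold hd
    rw [Finset.card_eq_two]
    refine ⟨i0, i1, hi, ?_⟩
    ext i
    simp only [Finset.mem_filter, Finset.mem_univ, true_and, Finset.mem_insert,
      Finset.mem_singleton]
    by_cases h1 : i = i1
    · subst h1; simp [hz, hx, hab]
    · by_cases h0 : i = i0
      · subst h0; simp [hz, hy, hx, hab, h1]
      · simp [hz, hy, hx, h0, h1]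
  have hxy : x ≠ y := by
    intro e
    have : hd x y = 0 := by
      rw [← e]; unfold hd; simp
    omega
  have hxz : x ≠ z := by
    intro e
    have : hd x z = 0 := by
      rw [← e]; unfold hd; simp
    omega
  obtain ⟨⟨g, hg⟩, h1, h2'⟩ := h2 hxy hxz
  have h1' : g x = x := h1
  have h2'' : g y = z := h2'
  have := hg x y
  rw [h1', h2'', hdxy, hdxz] at this
  omega

end Hamming

section Regular

variable {ι : Type*} [Fintype ι] {A : Type*} (F : ι → Type*) [∀ i, Group (F i)]
  (ε : ∀ i, F i ≃ A)

/-- the coordinatewise identification -/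
def theta : (∀ i, F i) ≃ (ι → A) := Equiv.piCongrRight ε

/-- the left regular representation transported to `ι → A` -/
def regHom : (∀ i, F i) →* Equiv.Perm (ι → A) :=
  ((theta F ε).permCongrHom.toMonoidHom).comp (MulAction.toPermHom (∀ i, F i) (∀ i, F i))

omit [Fintype ι] in
theorem regHom_apply (k : ∀ i, F i) (x : ι → A) :
    regHom F ε k x = theta F ε (k * (theta F ε).symm x) := rfl

omit [Fintype ι] in
theorem regHom_apply' (k : ∀ i, F i) (x : ι → A) (i : ι) :
    regHom F ε k x i = ε i (k i * (ε i).symm (x i)) := rfl

omit [Fintype ι] in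
theorem regHom_injective : Function.Injective (regHom F ε) := by
  intro k k' h
  have h1 := congrArg (fun σ => σ (theta F ε 1)) h
  simp only [regHom_apply, Equiv.symm_apply_apply, mul_one] at h1
  exact (theta F ε).injective h1

theorem regHom_mem (k : ∀ i, F i) : regHom F ε k ∈ isoGroup ι A := by
  have : regHom F ε k =
      coordPerm (fun i => (ε i).symm.trans ((Equiv.mulLeft (k i)).trans (ε i))) := by
    ext x i
    rfl
  rw [this]
  exact coordPerm_mem _

theorem regRange_le : (regHom F ε).range ≤ isoGroup ι A := by
  rintro g ⟨k, rfl⟩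
  exact regHom_mem F ε k

omit [Fintype ι] in
theorem regRange_pretransitive : IsPretransitive ↥(regHom F ε).range (ι → A) := by
  constructor
  intro x y
  refine ⟨⟨regHom F ε ((theta F ε).symm y * ((theta F ε).symm x)⁻¹), ⟨_, rfl⟩⟩, ?_⟩
  show regHom F ε _ x = y
  rw [regHom_apply, inv_mul_cancel_right, Equiv.apply_symm_apply]

omit [Fintype ι] in
theorem regRange_stabilizer (x : ι → A) : stabilizer ↥(regHom F ε).range x = ⊥ := by
  rw [eq_bot_iff]
  rintro ⟨g, k, rfl⟩ hfix
  rw [Subgroup.mem_bot]
  have h1 : regHom F ε k x = x := hfix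
  rw [regHom_apply] at h1
  have h2 : k * (theta F ε).symm x = (theta F ε).symm x := by
    have := congrArg (theta F ε).symm h1
    rw [Equiv.symm_apply_apply] at this
    exact this
  have hk : k = 1 := mul_eq_right.mp h2
  apply Subtype.ext
  show regHom F ε k = 1
  rw [hk, map_one]

end Regular

/-- Let K be a finite group isomorphic to a direct product of r ≥ 2 groups all of the same order m ≥ 3. Then K is not a B-group: there is a primitive but not doubly transitive permutation group (on some finite set) containing a regular subgroup isomorphic to K. -/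
theorem result {K : Type*} [Group K] [Finite K] {ι : Type*} [Fintype ι] (F : ι → Type*) [∀ i, Group (F i)]
    (hr : 2 ≤ Fintype.card ι) (m : ℕ) (hm : 3 ≤ m) (hcard : ∀ i, Nat.card (F i) = m) (e : K ≃* (∀ i, F i)) :
    ∃ (n : ℕ) (G R : Subgroup (Equiv.Perm (Fin n))), R ≤ G ∧ Nonempty (↥R ≃* K) ∧
      MulAction.IsPretransitive ↥R (Fin n) ∧ (∀ a : Fin n, MulAction.stabilizer ↥R a = ⊥) ∧
      MulAction.IsPreprimitive ↥G (Fin n) ∧ ¬ MulAction.IsMultiplyPretransitive ↥G (Fin n) 2 := by
  classical
  have hfin : ∀ i, Finite (F i) := fun i =>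
    Nat.finite_of_card_ne_zero (by rw [hcard i]; omega)
  let ε : ∀ i, F i ≃ Fin m := fun i => Finite.equivFinOfCardEq (hcard i)
  let φ : (ι → Fin m) ≃ Fin (Fintype.card (ι → Fin m)) := Fintype.equivFin _
  refine ⟨Fintype.card (ι → Fin m), conjSubgroup φ (isoGroup ι (Fin m)),
    conjSubgroup φ (regHom F ε).range, ?_, ?_, ?_, ?_, ?_, ?_⟩
  · exact conjSubgroup_mono φ (regRange_le F ε)
  · exact ⟨((conjSubgroupEquiv φ _).symm.trans
      (MonoidHom.ofInjective (regHom_injective F ε)).symm).trans e.symm⟩
  · exact conjSubgroup_pretransitive φ _ (regRange_pretransitive F ε)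
  · exact conjSubgroup_stabilizer φ _ (regRange_stabilizer F ε)
  · apply conjSubgroup_preprimitive φ _
    apply isoGroup_preprimitive
    rw [Nat.card_eq_fintype_card, Fintype.card_fin]
    exact hm
  · apply conjSubgroup_not_two φ _
    exact isoGroup_not_two hr (⟨0, by omega⟩ : Fin m) ⟨1, by omega⟩ (by
      intro h
      have := congrArg Fin.val h
      simp at this)

end Cfsg.Agent.S3560
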