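import Cfsg.Statements.S3573
-- import your own Cfsg.Agent.* helpers here

set_option autoImplicit false
open Cfsg

namespace Cfsg.Agent.S3573

open Equiv Equiv.Perm

/-- A permutation of prime order `r` fixes a `k`-subset if `r ≤ k` and `k % r ≤ n % r`. -/
theorem exists_invariant {n : ℕ} (σ : Equiv.Perm (Fin n)) (r : ℕ) (hr : r.Prime)
    (hσ : orderOf σ = r) (k : ℕ) (hkn : k ≤ n) (hmod : k % r ≤ n % r) :
    ∃ s : Finset (Fin n), s.card = k ∧ s.image σ = s := by
  classical
  obtain ⟨j', hj⟩ := cycleType_prime_order (σ := σ) (hσ ▸ hr)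
  rw [hσ] at hj
  set j := j' + 1 with hjdef
  have hsupp : σ.support.card = j * r := by
    rw [← sum_cycleType, hj, Multiset.sum_replicate, smul_eq_mul]
  have hjn : j * r ≤ n := by
    rw [← hsupp]
    have := σ.support.card_le_univ
    simpa using this
  have hC : σ.cycleFactorsFinset.card = j := by
    have := congrArg Multiset.card hj
    rw [cycleType_def, Multiset.card_map, Multiset.card_replicate] at this
    exact this
  have hcr : ∀ c ∈ σ.cycleFactorsFinset, c.support.card = r := by
    intro c hc
    have : c.support.card ∈ σ.cycleType := by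
      rw [cycleType_def, Multiset.mem_map]
      exact ⟨c, hc, rfl⟩
    rw [hj] at this
    exact Multiset.eq_of_mem_replicate this
  -- number of cycles to take
  obtain ⟨a', ha'j, ha'k, hrest⟩ : ∃ a' : ℕ, a' ≤ j ∧ a' * r ≤ k ∧ k - a' * r ≤ n - j * r := by
    have h1 : j ≤ n / r := (Nat.le_div_iff_mul_le hr.pos).mpr hjn
    have h2 : j * r ≤ (n / r) * r := Nat.mul_le_mul_right r h1
    have h3 : (n / r) * r + n % r = n := Nat.div_add_mod' n r
    have h4 : (k / r) * r + k % r = k := Nat.div_add_mod' k r
    rcases le_total j (k / r) with h | h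
    · refine ⟨j, le_rfl, ?_, ?_⟩
      · have : j * r ≤ (k / r) * r := Nat.mul_le_mul_right r h
        omega
      · omega
    · refine ⟨k / r, h, ?_, ?_⟩
      · omega
      · omega
  obtain ⟨T, hTC, hTcard⟩ := Finset.exists_subset_card_eq (s := σ.cycleFactorsFinset)
    (n := a') (by rw [hC]; exact ha'j)
  set U := T.biUnion (fun c => c.support) with hU
  have hUcard : U.card = a' * r := by
    rw [hU, Finset.card_biUnion]
    · rw [Finset.sum_congr rfl (fun c hc => hcr c (hTC hc)), Finset.sum_const, hTcard,
        smul_eq_mul]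
    · intro c hc d hd hcd
      exact (cycleFactorsFinset_pairwise_disjoint σ (hTC hc) (hTC hd) hcd).disjoint_support
  have hUsub : U ⊆ σ.support := by
    intro x hx
    rw [hU, Finset.mem_biUnion] at hx
    obtain ⟨c, hc, hxc⟩ := hx
    exact mem_cycleFactorsFinset_support_le (hTC hc) hxc
  have hFcard : (Finset.univ \ σ.support).card = n - j * r := by
    rw [Finset.card_sdiff_of_subset (Finset.subset_univ _), Finset.card_univ, Fintype.card_fin,
      hsupp]
  obtain ⟨W, hWF, hWcard⟩ := Finset.exists_subset_card_eq (s := Finset.univ \ σ.support)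
    (n := k - a' * r) (by rw [hFcard]; exact hrest)
  have hdisj : Disjoint U W := by
    rw [Finset.disjoint_left]
    intro x hxU hxW
    have := hWF hxW
    rw [Finset.mem_sdiff] at this
    exact this.2 (hUsub hxU)
  refine ⟨U ∪ W, ?_, ?_⟩
  · rw [Finset.card_union_of_disjoint hdisj, hUcard, hWcard]
    omega
  · apply Finset.eq_of_subset_of_card_le
    · intro y hy
      rw [Finset.mem_image] at hy
      obtain ⟨x, hx, rfl⟩ := hy
      rw [Finset.mem_union] at hx ⊢
      rcases hx with hx | hx
      · left
        rw [hU, Finset.mem_biUnion] at hx ⊢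
        obtain ⟨c, hc, hxc⟩ := hx
        refine ⟨c, hc, ?_⟩
        have := (mem_cycleFactorsFinset_iff.mp (hTC hc)).2 x hxc
        rw [← this]
        exact apply_mem_support.mpr hxc
      · right
        have := hWF hx
        rw [Finset.mem_sdiff, mem_support, not_not] at this
        rw [this.2]
        exact hx
    · rw [Finset.card_image_of_injective _ σ.injective]

/-- lcm of a nonempty replicate -/
theorem orderOf_of_cycleType_replicate {n : ℕ} (σ : Equiv.Perm (Fin n)) (r m : ℕ) (hr : r.Prime)
    (hm : 1 ≤ m) (h : σ.cycleType = Multiset.replicate m r) : orderOf σ = r := by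
  have h1 : orderOf σ ∣ r := by
    rw [← lcm_cycleType, h]
    apply Multiset.lcm_dvd.mpr
    intro a ha
    rw [Multiset.eq_of_mem_replicate ha]
  rcases (Nat.dvd_prime hr).mp h1 with h2 | h2
  · exfalso
    rw [orderOf_eq_one_iff] at h2
    rw [h2, cycleType_one] at h
    have := congrArg Multiset.card h
    rw [Multiset.card_replicate, Multiset.card_zero] at this
    omega
  · exact h2

/-- Necessity of `k % r ≤ n % r`. -/
theorem necessary (n k r : ℕ) (hr : r.Prime) (hrn : r ≤ n)
    (h : ∀ σ : Equiv.Perm (Fin n), orderOf σ = r →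
      ∃ s : Finset (Fin n), s.card = k ∧ s.image σ = s) : k % r ≤ n % r := by
  classical
  have hm : 1 ≤ n / r := (Nat.le_div_iff_mul_le hr.pos).mpr (by simpa using hrn)
  have h3 : (n / r) * r + n % r = n := Nat.div_add_mod' n r
  obtain ⟨σ0, hσ0⟩ := (Equiv.Perm.exists_with_cycleType_iff (Fin n)
    (m := Multiset.replicate (n / r) r)).mpr ⟨by
      rw [Multiset.sum_replicate, smul_eq_mul, Fintype.card_fin]; omega, by
      intro a ha
      rw [Multiset.eq_of_mem_replicate ha]
      exact hr.two_le⟩
  have hord : orderOf σ0 = r := orderOf_of_cycleType_replicate σ0 r (n / r) hr hm hσ0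
  obtain ⟨s, hsk, hsinv⟩ := h σ0 hord
  have hsupp : σ0.support.card = (n / r) * r := by
    rw [← sum_cycleType, hσ0, Multiset.sum_replicate, smul_eq_mul]
  have hfixcard : (σ0.supportᶜ).card = n % r := by
    rw [Finset.card_compl, Fintype.card_fin, hsupp]; omega
  have hmem : ∀ x : Fin n, σ0 x ∈ s ↔ x ∈ s := by
    intro x
    constructor
    · intro hx
      rw [← hsinv, Finset.mem_image] at hx
      obtain ⟨y, hy, hyx⟩ := hx
      rwa [← σ0.injective hyx]
    · intro hx
      rw [← hsinv]
      exact Finset.mem_image_of_mem _ hx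
  set τ : Equiv.Perm {x // x ∈ s} := σ0.subtypePerm hmem with hτ
  have hτr : τ ^ r ^ 1 = 1 := by
    rw [pow_one, hτ, subtypePerm_pow]
    have : σ0 ^ r = 1 := by rw [← hord]; exact pow_orderOf_eq_one σ0
    ext x
    simp [this]
  have : Fact r.Prime := ⟨hr⟩
  have hmodeq := card_compl_support_modEq (σ := τ) (p := r) (n := 1) hτr
  rw [Fintype.card_coe, hsk] at hmodeq
  have hle : (τ.supportᶜ).card ≤ (σ0.supportᶜ).card := by
    apply Finset.card_le_card_of_injOn (fun x => x.1)
    · intro x hx
      simp only [Finset.coe_compl, Set.mem_compl_iff, Finset.mem_coe, mem_support, not_not] at hx ⊢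
      have := congrArg Subtype.val hx
      simpa [hτ] using this
    · intro x _ y _ hxy
      exact Subtype.ext hxy
  rw [hfixcard] at hle
  have hlt : n % r < r := Nat.mod_lt _ hr.pos
  have h5 : (τ.supportᶜ).card % r = k % r := hmodeq
  rw [Nat.mod_eq_of_lt (by omega)] at h5
  omega

/-- If `k < r` and `k ≤ n % r` then `r ∤ C(n,k)`. -/
theorem not_dvd_choose (n k r : ℕ) (hr : r.Prime) (hkr : k < r) (hk : k ≤ n % r) :
    ¬ r ∣ Nat.choose n k := by
  intro hd
  have : Fact r.Prime := ⟨hr⟩
  have hluc := Choose.choose_modEq_choose_mod_mul_choose_div_nat (n := n) (k := k) (p := r)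
  rw [Nat.mod_eq_of_lt hkr, Nat.div_eq_of_lt hkr, Nat.choose_zero_right, mul_one] at hluc
  have h1 : r ∣ Nat.choose (n % r) k := by
    rw [← Nat.modEq_zero_iff_dvd] at hd ⊢
    exact hluc.symm.trans hd
  have hlt : n % r < r := Nat.mod_lt _ hr.pos
  have h2 : r ∣ (n % r).factorial := by
    have := Nat.choose_mul_factorial_mul_factorial hk
    rw [← this]
    exact Dvd.dvd.mul_right (Dvd.dvd.mul_right h1 _) _
  have := (Nat.Prime.dvd_factorial hr).mp h2
  omega

/-- Main equivalence, uniform in `r`. -/
theorem main (n k r : ℕ) (hkn : k ≤ n) (hr : r.Prime) (hrd : r ∣ Nat.choose n k) :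
    (∀ σ : Equiv.Perm (Fin n), orderOf σ = r →
      ∃ s : Finset (Fin n), s.card = k ∧ s.image σ = s) ↔ (r ≤ k ∧ k % r ≤ n % r) := by
  constructor
  · intro h
    have hrn : r ≤ n := by
      have h1 : r ∣ n.factorial := by
        have := Nat.choose_mul_factorial_mul_factorial hkn
        rw [← this]
        exact Dvd.dvd.mul_right (Dvd.dvd.mul_right hrd _) _
      exact (Nat.Prime.dvd_factorial hr).mp h1
    have hmod := necessary n k r hr hrn h
    refine ⟨?_, hmod⟩
    by_contra hlt
    push Not at hlt
    rw [Nat.mod_eq_of_lt hlt] at hmod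
    exact not_dvd_choose n k r hr hlt hmod hrd
  · rintro ⟨_, hmod⟩ σ hσ
    exact exists_invariant σ r hr hσ k hkn hmod

/-- Let 1 ≤ k with 2k < n and consider the symmetric group of degree n acting on the k-subsets of an n-set. Let r be a prime dividing the number C(n,k) of k-subsets. If r is odd, then every permutation of order r fixes some k-subset if and only if r ≤ k and the remainder of k modulo r is at most the remainder of n modulo r. If r = 2, then every involution fixes some k-subset if and only if k is even or n is odd. -/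
theorem result (n k : ℕ) (hk : 1 ≤ k) (hkn : 2 * k < n) (r : ℕ) (hr : r.Prime) (hrd : r ∣ Nat.choose n k) :
    (r ≠ 2 → ((∀ σ : Equiv.Perm (Fin n), orderOf σ = r → ∃ s : Finset (Fin n), s.card = k ∧ s.image σ = s) ↔
      (r ≤ k ∧ k % r ≤ n % r))) ∧
    (r = 2 → ((∀ σ : Equiv.Perm (Fin n), orderOf σ = 2 → ∃ s : Finset (Fin n), s.card = k ∧ s.image σ = s) ↔
      (Even k ∨ Odd n))) := by
  have hkn' : k ≤ n := by omega
  refine ⟨fun _ => main n k r hkn' hr hrd, ?_⟩
  rintro rfl
  rw [main n k 2 hkn' hr hrd]
  constructor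
  · rintro ⟨_, hmod⟩
    rcases Nat.even_or_odd k with hk2 | hk2
    · left; exact hk2
    · right
      rw [Nat.odd_iff] at hk2 ⊢
      have : n % 2 < 2 := Nat.mod_lt _ (by norm_num)
      omega
  · intro h
    have h2k : 2 ≤ k := by
      by_contra hlt
      have hk1 : k = 1 := by omega
      subst hk1
      rw [Nat.choose_one_right] at hrd
      rcases h with h | h
      · exact absurd h (by decide)
      · rw [Nat.odd_iff] at h
        omega
    refine ⟨h2k, ?_⟩
    rcases h with h | h
    · rw [Nat.even_iff] at h; omega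
    · rw [Nat.odd_iff] at h
      have : k % 2 < 2 := Nat.mod_lt _ (by norm_num)
      omega

end Cfsg.Agent.S3573
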