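import Cfsg.Statements.S3575
import Cfsg.Agent.Lib.Helper59.PrimePow
import Cfsg.Agent.Lib.Helper59.UniformPart
import Cfsg.Agent.Lib.Helper59.UniformArith
-- import your own Cfsg.Agent.* helpers here

set_option autoImplicit false
open Cfsg

namespace Cfsg.Agent.S3575

open Cfsg.Agent.Lib.Helper59

/-- the criterion for one permutation with `j` cycles of length `r` -/
theorem crit {a b r : ℕ} (ha : 0 < a) (hr : r.Prime) (σ : Equiv.Perm (Fin (a * b)))
    (hσ : σ ^ r = 1) (j : ℕ) (hj : σ.support.card = r * j) :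
    (∃ f : Fin (a * b) → Fin b, (∀ i : Fin b, Nat.card {x : Fin (a * b) // f x = i} = a) ∧
        ∃ π : Equiv.Perm (Fin b), ∀ x : Fin (a * b), f (σ x) = π (f x)) ↔
      ∃ u, r * u ≤ b ∧ a * u ≤ j ∧ j ≤ a * u + (b - r * u) * (a / r) := by
  constructor
  · rintro ⟨f, hf, π, hπ⟩
    have hf' : ∀ i, (Finset.univ.filter (fun x => f x = i)).card = a := by
      intro i
      have := hf i
      rw [Nat.card_eq_fintype_card, Fintype.card_subtype] at this
      exact this
    obtain ⟨u, h1, h2, h3⟩ := uniform_nec hr ha σ hσ f hf' π hπ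
    rw [Fintype.card_fin] at h1 h3
    rw [hj] at h2 h3
    refine ⟨u, h1, ?_, ?_⟩
    · have : r * (a * u) ≤ r * j := by
        calc r * (a * u) = a * (r * u) := by ring
          _ ≤ r * j := h2
      exact Nat.le_of_mul_le_mul_left this hr.pos
    · have : r * j ≤ r * (a * u + (b - r * u) * (a / r)) := by
        calc r * j ≤ a * (r * u) + (b - r * u) * (r * (a / r)) := h3
          _ = r * (a * u + (b - r * u) * (a / r)) := by ring
      exact Nat.le_of_mul_le_mul_left this hr.pos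
  · rintro ⟨u, h1, h2, h3⟩
    apply uniform_suff hr u (j - a * u) h1 (by omega) σ hσ
    rw [hj]
    congr 1
    omega

theorem result (a b : ℕ) (ha : 2 ≤ a) (hb : 2 ≤ b) (r : ℕ) (hr : r.Prime)
    (hrd : r ∣ (a * b).factorial / (a.factorial ^ b * b.factorial)) :
    (∀ σ : Equiv.Perm (Fin (a * b)), orderOf σ = r →
        ∃ f : Fin (a * b) → Fin b, (∀ j : Fin b, Nat.card {x : Fin (a * b) // f x = j} = a) ∧
          ∃ π : Equiv.Perm (Fin b), ∀ x : Fin (a * b), f (σ x) = π (f x)) ↔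
      (r ≤ a ∧ (a % r = 0 ∨ (b % r = 0 ∧ a % r = 1) ∨
        (a % r ≠ 0 ∧ b % r ≠ 0 ∧ (b % r) * (a % r) < r ∧ (b < r ∨ (b % r + r) * (a % r) ≤ (b % r) * a + r)))) := by
  have ha0 : 0 < a := by omega
  have hr2 : 2 ≤ r := hr.two_le
  -- r ≤ a * b
  have hrab : r ≤ a * b := by
    have hdvd := factorial_pow_mul_factorial_dvd ha0 b
    have h1 : (a * b).factorial / (a.factorial ^ b * b.factorial) ∣ (a * b).factorial :=
      Nat.div_dvd_of_dvd hdvd
    exact (Nat.Prime.dvd_factorial hr).mp (hrd.trans h1)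
  obtain ⟨q, ℓ, t, k, hq, hℓ, ht, hk, haq, hbt⟩ : ∃ q ℓ t k, a / r = q ∧ a % r = ℓ ∧ b / r = t ∧
      b % r = k ∧ a = r * q + ℓ ∧ b = r * t + k :=
    ⟨_, _, _, _, rfl, rfl, rfl, rfl, (Nat.div_add_mod a r).symm, (Nat.div_add_mod b r).symm⟩
  have hℓr : ℓ < r := by rw [← hℓ]; exact Nat.mod_lt _ hr.pos
  have hkr : k < r := by rw [← hk]; exact Nat.mod_lt _ hr.pos
  rw [hℓ, hk]
  -- the elements of order r
  have hord : ∀ σ : Equiv.Perm (Fin (a * b)), orderOf σ = r →
      σ ^ r = 1 ∧ ∃ j, 1 ≤ j ∧ j * r ≤ a * b ∧ σ.support.card = r * j := by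
    intro σ hσ
    have h1 : σ ^ r = 1 := by rw [← hσ]; exact pow_orderOf_eq_one σ
    refine ⟨h1, Multiset.card σ.cycleType, ?_, ?_, card_support_of_pow_prime hr h1⟩
    · rw [Nat.one_le_iff_ne_zero, Ne, Equiv.Perm.card_cycleType_eq_zero]
      rintro rfl
      rw [orderOf_one] at hσ
      omega
    · rw [mul_comm, ← card_support_of_pow_prime hr h1]
      have := Finset.card_le_univ σ.support
      rwa [Fintype.card_fin] at this
  have hex : ∀ j, 1 ≤ j → j * r ≤ a * b →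
      ∃ σ : Equiv.Perm (Fin (a * b)), orderOf σ = r ∧ σ ^ r = 1 ∧ σ.support.card = r * j := by
    intro j hj1 hj2
    obtain ⟨σ, h1, h2⟩ := exists_pow_prime_card_support (α := Fin (a * b)) hr j
      (by rw [Fintype.card_fin, mul_comm]; exact hj2)
    have : Fact r.Prime := ⟨hr⟩
    refine ⟨σ, orderOf_eq_prime h1 ?_, h1, h2⟩
    rintro rfl
    rw [Equiv.Perm.support_one, Finset.card_empty] at h2
    have : 0 < r * j := Nat.mul_pos hr.pos hj1
    omega
  have hsub : ∀ u, (b - r * u) * (a / r) = (r * t + k - r * u) * q := by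
    intro u; rw [hq, hbt]
  have hiff := uniform_arith_iff (q := q) (ℓ := ℓ) (t := t) (k := k) hr2 (by rw [← hbt]; exact hb)
    hℓr hkr
  rw [← haq, ← hbt] at hiff
  rw [← hiff]
  constructor
  · intro H
    apply uniform_arith_nec hr2 (by rw [← haq]; exact ha) (by rw [← hbt]; exact hb) hkr
      (by rw [← haq, ← hbt]; exact hrab)
    intro j hj1 hj2
    rw [← haq, ← hbt] at hj2
    obtain ⟨σ, h1, h2, h3⟩ := hex j hj1 hj2
    obtain ⟨u, hu1, hu2, hu3⟩ := (crit ha0 hr σ h2 j h3).mp (H σ h1)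
    rw [hsub u] at hu3
    rw [← haq]
    exact ⟨u, by rw [← hbt]; exact hu1, hu2, hu3⟩
  · rintro ⟨hq1, hlk, hgap⟩ σ hσ
    obtain ⟨h1, j, hj1, hj2, hj3⟩ := hord σ hσ
    rw [crit ha0 hr σ h1 j hj3]
    obtain ⟨u, hu1, hu2, hu3⟩ := uniform_arith_suff (q := q) (ℓ := ℓ) (t := t) (k := k)
      (by rw [← haq]; exact ha0) hlk hgap j (by rw [← haq, ← hbt]; exact hj2)
    rw [← haq] at hu2 hu3
    rw [← hbt] at hu1
    refine ⟨u, hu1, hu2, ?_⟩
    rw [hsub u]
    exact hu3

end Cfsg.Agent.S3575
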