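import Mathlib
import Cfsg.Statements.S3599
-- import your own Cfsg.Agent.* helpers here

set_option autoImplicit false
open Cfsg

namespace Cfsg.Agent.S3599

/-- interface of a minimal Frobenius group with kernel a `P`-group and complement of order `Q` -/
structure IsMinFrob (F : Type) [Group F] (P Q : ℕ) : Prop where
  orderOf_mem : ∀ g : F, orderOf g = 1 ∨ orderOf g = P ∨ orderOf g = Q
  exists_P : ∃ g : F, orderOf g = P
  exists_Q : ∃ g : F, orderOf g = Q
  eq_top : ∀ H : Subgroup F, (∃ g ∈ H, orderOf g = P) → (∃ g ∈ H, orderOf g = Q) → H = ⊤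
  mem_normal : ∀ N : Subgroup F, N.Normal → N ≠ ⊥ → ∀ g, orderOf g = P → g ∈ N
  mul_P : ∀ x y : F, orderOf x = P → orderOf y = P → orderOf (x * y) = 1 ∨ orderOf (x * y) = P
  exists_mul : ∃ x y : F, orderOf x = Q ∧ orderOf y = Q ∧ orderOf (x * y) = P




open Polynomial

noncomputable section

variable (P Q : ℕ) [Fact P.Prime] [Fact Q.Prime]

theorem exists_irreducible_factor_cyclotomic :
    ∃ f : (ZMod P)[X], Irreducible f ∧ f ∣ cyclotomic Q (ZMod P) := by
  apply WfDvdMonoid.exists_irreducible_factor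
  · intro hu
    have h1 := degree_cyclotomic_pos Q (ZMod P) (Fact.out : Q.Prime).pos
    rw [Polynomial.degree_eq_zero_of_isUnit hu] at h1
    exact lt_irrefl _ h1
  · exact cyclotomic_ne_zero Q (ZMod P)

/-- an irreducible factor of the `Q`-th cyclotomic polynomial over `ZMod P` -/
def fpoly : (ZMod P)[X] := Classical.choose (exists_irreducible_factor_cyclotomic P Q)

theorem fpoly_irreducible : Irreducible (fpoly P Q) :=
  (Classical.choose_spec (exists_irreducible_factor_cyclotomic P Q)).1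

theorem fpoly_dvd : fpoly P Q ∣ cyclotomic Q (ZMod P) :=
  (Classical.choose_spec (exists_irreducible_factor_cyclotomic P Q)).2

instance fpoly_fact : Fact (Irreducible (fpoly P Q)) := ⟨fpoly_irreducible P Q⟩

/-- the field `F_P(ζ_Q)` -/
abbrev KK : Type := AdjoinRoot (fpoly P Q)

instance KK_finite : Finite (KK P Q) := by
  have : Module.Finite (ZMod P) (KK P Q) :=
    (AdjoinRoot.powerBasis (fpoly_irreducible P Q).ne_zero).finite
  exact Module.finite_of_finite (ZMod P)

instance KK_charP : CharP (KK P Q) P :=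
  charP_of_injective_algebraMap (algebraMap (ZMod P) (KK P Q)).injective P

/-- the primitive root -/
def zeta : KK P Q := AdjoinRoot.root (fpoly P Q)

theorem zeta_isRoot : (cyclotomic Q (KK P Q)).IsRoot (zeta P Q) := by
  obtain ⟨g, hg⟩ := fpoly_dvd P Q
  have h1 : cyclotomic Q (KK P Q) = (cyclotomic Q (ZMod P)).map (AdjoinRoot.of (fpoly P Q)) :=
    (map_cyclotomic Q (AdjoinRoot.of (fpoly P Q))).symm
  rw [h1, hg, Polynomial.map_mul, IsRoot.def, eval_mul]
  have := AdjoinRoot.isRoot_root (fpoly P Q)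
  rw [IsRoot.def] at this
  change eval (AdjoinRoot.root (fpoly P Q)) _ * _ = 0
  rw [this, zero_mul]

theorem zeta_pow : zeta P Q ^ Q = 1 := by
  have h := zeta_isRoot P Q
  obtain ⟨g, hg⟩ := cyclotomic.dvd_X_pow_sub_one Q (KK P Q)
  have : (X ^ Q - 1 : (KK P Q)[X]).IsRoot (zeta P Q) := by
    rw [hg, IsRoot.def, eval_mul]
    rw [IsRoot.def] at h
    rw [h, zero_mul]
  simpa [sub_eq_zero] using this

theorem zeta_primitive (hPQ : P ≠ Q) : IsPrimitiveRoot (zeta P Q) Q := by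
  have : NeZero ((Q : ℕ) : KK P Q) := by
    constructor
    intro h
    rw [CharP.cast_eq_zero_iff (KK P Q) P] at h
    exact hPQ ((Nat.prime_dvd_prime_iff_eq Fact.out Fact.out).mp h)
  exact isRoot_cyclotomic_iff.mp (zeta_isRoot P Q)

/-- `ζ` as a unit -/
def zetaU : (KK P Q)ˣ := Units.ofPowEqOne (zeta P Q) Q (zeta_pow P Q) (Fact.out : Q.Prime).ne_zero

@[simp] theorem zetaU_val : ((zetaU P Q : (KK P Q)ˣ) : KK P Q) = zeta P Q := rfl

/-- the complement: the group generated by `ζ` -/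
abbrev CC : Subgroup (KK P Q)ˣ := Subgroup.zpowers (zetaU P Q)

theorem orderOf_zetaU (hPQ : P ≠ Q) : orderOf (zetaU P Q) = Q := by
  rw [← orderOf_units, zetaU_val]
  exact ((zeta_primitive P Q hPQ).eq_orderOf).symm

theorem card_CC (hPQ : P ≠ Q) : Nat.card (CC P Q) = Q := by
  rw [Nat.card_zpowers, orderOf_zetaU P Q hPQ]

/-- The irreducibility of the action. -/
theorem addSubgroup_eq_top (A : AddSubgroup (KK P Q))
    (hA : ∀ x ∈ A, zeta P Q * x ∈ A) (b : KK P Q) (hb : b ∈ A) (hb0 : b ≠ 0) : A = ⊤ := by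
  let S : Subalgebra (ZMod P) (KK P Q) :=
    { carrier := {r | ∀ x ∈ A, r * x ∈ A}
      mul_mem' := by
        intro r r' hr hr' x hx
        rw [mul_assoc]
        exact hr _ (hr' _ hx)
      add_mem' := by
        intro r r' hr hr' x hx
        rw [add_mul]
        exact A.add_mem (hr _ hx) (hr' _ hx)
      algebraMap_mem' := by
        intro r x hx
        have h1 : algebraMap (ZMod P) (KK P Q) r = ((r.val : ℕ) : KK P Q) := by
          conv_lhs => rw [← ZMod.natCast_zmod_val r]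
          rw [map_natCast]
        rw [h1, ← nsmul_eq_mul]
        exact A.nsmul_mem hx _ }
  have hζ : zeta P Q ∈ S := hA
  have hS : S = ⊤ := by
    apply top_le_iff.mp
    rw [← AdjoinRoot.adjoinRoot_eq_top (f := fpoly P Q)]
    apply Algebra.adjoin_le
    intro y hy
    rw [Set.mem_singleton_iff] at hy
    rw [hy]
    exact hζ
  apply top_le_iff.mp
  intro x _
  have hx : x * b⁻¹ ∈ S := by rw [hS]; exact Algebra.mem_top
  have := hx b hb
  rwa [mul_assoc, inv_mul_cancel₀ hb0, mul_one] at this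

/-- The Frobenius group `F_P(ζ_Q) ⋊ ⟨ζ_Q⟩`. -/
@[ext]
structure Frob : Type where
  t : KK P Q
  c : CC P Q

variable {P Q}

instance Frob.instMul : Mul (Frob P Q) := ⟨fun x y => ⟨x.t + ((x.c : (KK P Q)ˣ) : KK P Q) * y.t, x.c * y.c⟩⟩
instance Frob.instOne : One (Frob P Q) := ⟨⟨0, 1⟩⟩
instance Frob.instInv : Inv (Frob P Q) :=
  ⟨fun x => ⟨-(((x.c⁻¹ : CC P Q) : (KK P Q)ˣ) : KK P Q) * x.t, x.c⁻¹⟩⟩

@[simp] theorem Frob.mul_t (x y : Frob P Q) :
    (x * y).t = x.t + ((x.c : (KK P Q)ˣ) : KK P Q) * y.t := rfl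
@[simp] theorem Frob.mul_c (x y : Frob P Q) : (x * y).c = x.c * y.c := rfl
@[simp] theorem Frob.one_t : (1 : Frob P Q).t = 0 := rfl
@[simp] theorem Frob.one_c : (1 : Frob P Q).c = 1 := rfl
@[simp] theorem Frob.inv_t (x : Frob P Q) :
    (x⁻¹).t = -(((x.c⁻¹ : CC P Q) : (KK P Q)ˣ) : KK P Q) * x.t := rfl
@[simp] theorem Frob.inv_c (x : Frob P Q) : (x⁻¹).c = x.c⁻¹ := rfl

instance Frob.instGroup : Group (Frob P Q) where
  mul_assoc x y z := by
    ext
    · simp only [Frob.mul_t, Frob.mul_c, Subgroup.coe_mul, Units.val_mul]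
      ring
    · simp [mul_assoc]
  one_mul x := by
    ext
    · simp
    · simp
  mul_one x := by
    ext
    · simp
    · simp
  inv_mul_cancel x := by
    ext
    · simp
    · simp


instance Frob.instFinite : Finite (Frob P Q) :=
  Finite.of_injective (fun x : Frob P Q => (x.t, x.c)) (by
    intro x y h
    simp only [Prod.mk.injEq] at h
    exact Frob.ext h.1 h.2)

theorem Frob.pow_c (x : Frob P Q) (n : ℕ) : (x ^ n).c = x.c ^ n := by
  induction n with
  | zero => simp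
  | succ n ih => rw [pow_succ, pow_succ, Frob.mul_c, ih]

theorem Frob.pow_t_of_c_eq_one (x : Frob P Q) (hx : x.c = 1) (n : ℕ) :
    (x ^ n).t = n • x.t := by
  induction n with
  | zero => simp
  | succ n ih =>
    rw [pow_succ, Frob.mul_t, ih, Frob.pow_c, hx, one_pow]
    simp only [OneMemClass.coe_one, Units.val_one, one_mul, nsmul_eq_mul, Nat.cast_add,
      Nat.cast_one]
    ring

theorem Frob.ne_one_iff (x : Frob P Q) : x ≠ 1 ↔ x.t ≠ 0 ∨ x.c ≠ 1 := by
  rw [Ne, Frob.ext_iff]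
  simp only [Frob.one_t, Frob.one_c]
  tauto

/-- translations have order `P` -/
theorem Frob.orderOf_of_c_eq_one (x : Frob P Q) (hc : x.c = 1) (ht : x.t ≠ 0) :
    orderOf x = P := by
  apply orderOf_eq_prime
  · refine Frob.ext ?_ ?_
    · rw [Frob.pow_t_of_c_eq_one x hc, Frob.one_t, nsmul_eq_mul, CharP.cast_eq_zero, zero_mul]
    · rw [Frob.pow_c, hc, one_pow, Frob.one_c]
  · rw [Frob.ne_one_iff]
    exact Or.inl ht

theorem CC_coe_ne_one {c : CC P Q} (hc : c ≠ 1) : ((c : (KK P Q)ˣ) : KK P Q) ≠ 1 := by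
  intro h
  apply hc
  apply Subtype.ext
  apply Units.ext
  simpa using h

/-- elements outside the kernel have order `Q` -/
theorem Frob.orderOf_of_c_ne_one (hPQ : P ≠ Q) (x : Frob P Q) (hc : x.c ≠ 1) :
    orderOf x = Q := by
  apply orderOf_eq_prime
  · -- conjugate to ⟨0, c⟩
    have hc1 : (1 : KK P Q) - ((x.c : (KK P Q)ˣ) : KK P Q) ≠ 0 := by
      intro h
      exact CC_coe_ne_one hc (sub_eq_zero.mp h).symm
    set y : Frob P Q := ⟨x.t / (1 - ((x.c : (KK P Q)ˣ) : KK P Q)), 1⟩ with hy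
    set z : Frob P Q := ⟨0, x.c⟩ with hz
    have hxyz : x = y * z * y⁻¹ := by
      refine Frob.ext ?_ ?_
      · simp only [Frob.mul_t, Frob.mul_c, Frob.inv_t, hy, hz]
        simp only [inv_one, OneMemClass.coe_one, Units.val_one, mul_zero, add_zero, one_mul,
          neg_mul, mul_neg]
        field_simp
        ring
      · simp [hy, hz]
    have hzQ : z ^ Q = 1 := by
      refine Frob.ext ?_ ?_
      · have : ∀ n : ℕ, (z ^ n).t = 0 := by
          intro n
          induction n with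
          | zero => simp
          | succ n ih => rw [pow_succ, Frob.mul_t, ih]; simp [hz]
        rw [this]; rfl
      · rw [Frob.pow_c, Frob.one_c]
        have := pow_card_eq_one' (G := CC P Q) (x := x.c)
        rwa [card_CC P Q hPQ] at this
    rw [hxyz, conj_pow, hzQ, mul_one, mul_inv_cancel]
  · rw [Frob.ne_one_iff]
    exact Or.inr hc

/-- (I1) -/
theorem Frob.orderOf_mem (hPQ : P ≠ Q) (x : Frob P Q) :
    orderOf x = 1 ∨ orderOf x = P ∨ orderOf x = Q := by
  by_cases hc : x.c = 1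
  · by_cases ht : x.t = 0
    · left
      rw [orderOf_eq_one_iff]
      exact Frob.ext ht hc
    · exact Or.inr (Or.inl (Frob.orderOf_of_c_eq_one x hc ht))
  · exact Or.inr (Or.inr (Frob.orderOf_of_c_ne_one hPQ x hc))

theorem Frob.c_eq_one_of_orderOf (hPQ : P ≠ Q) (x : Frob P Q) (hx : orderOf x = P) :
    x.c = 1 ∧ x.t ≠ 0 := by
  by_cases hc : x.c = 1
  · refine ⟨hc, ?_⟩
    intro ht
    have : x = 1 := Frob.ext ht hc
    rw [this, orderOf_one] at hx
    exact (Fact.out : P.Prime).one_lt.ne hx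
  · exfalso
    rw [Frob.orderOf_of_c_ne_one hPQ x hc] at hx
    exact hPQ hx.symm

theorem Frob.c_ne_one_of_orderOf (hPQ : P ≠ Q) (x : Frob P Q) (hx : orderOf x = Q) :
    x.c ≠ 1 := by
  intro hc
  by_cases ht : x.t = 0
  · have : x = 1 := Frob.ext ht hc
    rw [this, orderOf_one] at hx
    exact (Fact.out : Q.Prime).one_lt.ne hx
  · rw [Frob.orderOf_of_c_eq_one x hc ht] at hx
    exact hPQ hx

/-- the generator of the complement, as an element of `CC` -/
def zetaC : CC P Q := ⟨zetaU P Q, Subgroup.mem_zpowers _⟩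

theorem zetaC_ne_one (hPQ : P ≠ Q) : (zetaC : CC P Q) ≠ 1 := by
  intro h
  have h1 : zetaU P Q = 1 := congrArg Subtype.val h
  have h2 := orderOf_zetaU P Q hPQ
  rw [h1, orderOf_one] at h2
  exact (Fact.out : Q.Prime).one_lt.ne h2

/-- (I2) -/
theorem Frob.exists_orderOf_P : ∃ x : Frob P Q, orderOf x = P :=
  ⟨⟨1, 1⟩, Frob.orderOf_of_c_eq_one _ rfl one_ne_zero⟩

theorem Frob.exists_orderOf_Q (hPQ : P ≠ Q) : ∃ x : Frob P Q, orderOf x = Q :=
  ⟨⟨0, zetaC⟩, Frob.orderOf_of_c_ne_one hPQ _ (zetaC_ne_one hPQ)⟩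

/-- (I6) -/
theorem Frob.orderOf_mul_of_P (hPQ : P ≠ Q) (x y : Frob P Q) (hx : orderOf x = P)
    (hy : orderOf y = P) : orderOf (x * y) = 1 ∨ orderOf (x * y) = P := by
  obtain ⟨hxc, _⟩ := Frob.c_eq_one_of_orderOf hPQ x hx
  obtain ⟨hyc, _⟩ := Frob.c_eq_one_of_orderOf hPQ y hy
  have hc : (x * y).c = 1 := by rw [Frob.mul_c, hxc, hyc, one_mul]
  by_cases ht : (x * y).t = 0
  · left
    rw [orderOf_eq_one_iff]
    exact Frob.ext ht hc
  · exact Or.inr (Frob.orderOf_of_c_eq_one _ hc ht)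

/-- (I7) -/
theorem Frob.exists_mul_orderOf (hPQ : P ≠ Q) :
    ∃ x y : Frob P Q, orderOf x = Q ∧ orderOf y = Q ∧ orderOf (x * y) = P := by
  refine ⟨⟨0, zetaC⟩, ⟨1, zetaC⁻¹⟩, Frob.orderOf_of_c_ne_one hPQ _ (zetaC_ne_one hPQ),
    Frob.orderOf_of_c_ne_one hPQ _ ?_, Frob.orderOf_of_c_eq_one _ ?_ ?_⟩
  · simp only [ne_eq, inv_eq_one]
    exact zetaC_ne_one hPQ
  · simp
  · simp only [Frob.mul_t, zero_add, mul_one]
    exact Units.ne_zero _


/-- conjugating a translation -/
theorem Frob.conj_translation (h : Frob P Q) (b : KK P Q) :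
    h * ⟨b, 1⟩ * h⁻¹ = ⟨((h.c : (KK P Q)ˣ) : KK P Q) * b, 1⟩ := by
  refine Frob.ext ?_ ?_
  · simp only [Frob.mul_t, Frob.mul_c, Frob.inv_t, mul_one, Subgroup.coe_inv, Units.val_inv_eq_inv_val]
    have : ((h.c : (KK P Q)ˣ) : KK P Q) ≠ 0 := Units.ne_zero _
    field_simp
    ring
  · simp

/-- the translations in a subgroup -/
def Frob.trace (H : Subgroup (Frob P Q)) : AddSubgroup (KK P Q) where
  carrier := {b | (⟨b, 1⟩ : Frob P Q) ∈ H}
  zero_mem' := H.one_mem
  add_mem' := by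
    intro a b ha hb
    have : (⟨a + b, 1⟩ : Frob P Q) = ⟨a, 1⟩ * ⟨b, 1⟩ := by
      refine Frob.ext ?_ ?_ <;> simp
    change (⟨a + b, 1⟩ : Frob P Q) ∈ H
    rw [this]
    exact H.mul_mem ha hb
  neg_mem' := by
    intro a ha
    have : (⟨-a, 1⟩ : Frob P Q) = (⟨a, 1⟩ : Frob P Q)⁻¹ := by
      refine Frob.ext ?_ ?_ <;> simp
    change (⟨-a, 1⟩ : Frob P Q) ∈ H
    rw [this]
    exact H.inv_mem ha

theorem Frob.mem_trace (H : Subgroup (Frob P Q)) (b : KK P Q) :
    b ∈ Frob.trace H ↔ (⟨b, 1⟩ : Frob P Q) ∈ H := Iff.rfl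

/-- if `H` contains an element with `c = ζ` and a nontrivial translation then it contains all
translations -/
theorem Frob.trace_eq_top (H : Subgroup (Frob P Q)) (h : Frob P Q)
    (hH : ∀ b, (⟨b, 1⟩ : Frob P Q) ∈ H → h * ⟨b, 1⟩ * h⁻¹ ∈ H) (hc : h.c = zetaC)
    (b : KK P Q) (hb : (⟨b, 1⟩ : Frob P Q) ∈ H) (hb0 : b ≠ 0) : Frob.trace H = ⊤ := by
  apply addSubgroup_eq_top P Q (Frob.trace H) ?_ b hb hb0
  intro x hx
  rw [Frob.mem_trace] at hx ⊢
  have := hH x hx
  rw [Frob.conj_translation, hc] at this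
  exact this

/-- (I3) -/
theorem Frob.eq_top_of_orderOf (hPQ : P ≠ Q) (H : Subgroup (Frob P Q))
    (hP : ∃ g ∈ H, orderOf g = P) (hQ : ∃ g ∈ H, orderOf g = Q) : H = ⊤ := by
  obtain ⟨g, hgH, hg⟩ := hP
  obtain ⟨h, hhH, hh⟩ := hQ
  obtain ⟨hgc, hgt⟩ := Frob.c_eq_one_of_orderOf hPQ g hg
  have hhc := Frob.c_ne_one_of_orderOf hPQ h hh
  have hgen : ∀ c : CC P Q, ∃ k : ℕ, (h ^ k).c = c := by
    intro c
    obtain ⟨k, hk⟩ := mem_powers_of_prime_card (card_CC P Q hPQ) (g' := c) hhc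
    exact ⟨k, by rw [Frob.pow_c]; exact hk⟩
  obtain ⟨k, hk⟩ := hgen zetaC
  have hg' : (⟨g.t, 1⟩ : Frob P Q) ∈ H := by
    have : (⟨g.t, 1⟩ : Frob P Q) = g := Frob.ext rfl hgc.symm
    rw [this]; exact hgH
  have htr : Frob.trace H = ⊤ := by
    apply Frob.trace_eq_top H (h ^ k) ?_ hk g.t hg' hgt
    intro b hb
    exact H.mul_mem (H.mul_mem (H.pow_mem hhH k) hb) (H.inv_mem (H.pow_mem hhH k))
  apply top_le_iff.mp
  intro x _
  obtain ⟨j, hj⟩ := hgen x.c
  have hx : x = ⟨x.t - (h ^ j).t, 1⟩ * h ^ j := by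
    refine Frob.ext ?_ ?_
    · simp
    · simp [hj]
  rw [hx]
  apply H.mul_mem _ (H.pow_mem hhH j)
  rw [← Frob.mem_trace, htr]
  exact AddSubgroup.mem_top _

/-- (I4) -/
theorem Frob.mem_of_normal (hPQ : P ≠ Q) (N : Subgroup (Frob P Q)) (hN : N.Normal) (hN1 : N ≠ ⊥)
    (g : Frob P Q) (hg : orderOf g = P) : g ∈ N := by
  obtain ⟨n, hnN, hn1⟩ := (N.bot_or_exists_ne_one).resolve_left hN1
  obtain ⟨hgc, _⟩ := Frob.c_eq_one_of_orderOf hPQ g hg
  -- a nontrivial translation in N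
  obtain ⟨b, hb, hb0⟩ : ∃ b : KK P Q, (⟨b, 1⟩ : Frob P Q) ∈ N ∧ b ≠ 0 := by
    by_cases hc : n.c = 1
    · refine ⟨n.t, ?_, ?_⟩
      · have : (⟨n.t, 1⟩ : Frob P Q) = n := Frob.ext rfl hc.symm
        rw [this]; exact hnN
      · intro ht
        exact hn1 (Frob.ext ht hc)
    · refine ⟨1 - ((n.c : (KK P Q)ˣ) : KK P Q), ?_, ?_⟩
      · have h1 : (⟨1, 1⟩ : Frob P Q) * n * (⟨1, 1⟩ : Frob P Q)⁻¹ * n⁻¹ ∈ N :=
          N.mul_mem (hN.conj_mem n hnN _) (N.inv_mem hnN)
        have h2 : (⟨1, 1⟩ : Frob P Q) * n * (⟨1, 1⟩ : Frob P Q)⁻¹ * n⁻¹ =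
            ⟨1 - ((n.c : (KK P Q)ˣ) : KK P Q), 1⟩ := by
          refine Frob.ext ?_ ?_
          · simp only [Frob.mul_t, Frob.mul_c, Frob.inv_t, Frob.inv_c, inv_one,
              OneMemClass.coe_one, Units.val_one, one_mul, mul_one, Subgroup.coe_inv,
              Units.val_inv_eq_inv_val, neg_mul]
            have : ((n.c : (KK P Q)ˣ) : KK P Q) ≠ 0 := Units.ne_zero _
            field_simp
            ring
          · simp
        rw [h2] at h1
        exact h1
      · intro h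
        exact CC_coe_ne_one hc (sub_eq_zero.mp h).symm
  have htr : Frob.trace N = ⊤ := by
    apply Frob.trace_eq_top N ⟨0, zetaC⟩ ?_ rfl b hb hb0
    intro b' hb'
    exact hN.conj_mem _ hb' _
  have : g = ⟨g.t, 1⟩ := Frob.ext rfl hgc
  rw [this, ← Frob.mem_trace, htr]
  exact AddSubgroup.mem_top _


theorem Frob.isMinFrob (hPQ : P ≠ Q) : IsMinFrob (Frob P Q) P Q where
  orderOf_mem := Frob.orderOf_mem hPQ
  exists_P := Frob.exists_orderOf_P
  exists_Q := Frob.exists_orderOf_Q hPQ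
  eq_top := Frob.eq_top_of_orderOf hPQ
  mem_normal := Frob.mem_of_normal hPQ
  mul_P := Frob.orderOf_mul_of_P hPQ
  exists_mul := Frob.exists_mul_orderOf hPQ

end




section Product

variable {ι : Type} [Fintype ι] [DecidableEq ι] {F : ι → Type} [∀ j, Group (F j)]
  {PP QQ : ι → ℕ}

/-- the hypotheses on the family -/
structure IsMinFrobFamily (F : ι → Type) [∀ j, Group (F j)] (PP QQ : ι → ℕ) : Prop where
  frob : ∀ j, IsMinFrob (F j) (PP j) (QQ j)
  primeP : ∀ j, (PP j).Prime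
  primeQ : ∀ j, (QQ j).Prime
  nePQ : ∀ j, PP j ≠ QQ j
  nePP : ∀ j j', j ≠ j' → PP j ≠ PP j'
  neQQ : ∀ j j', j ≠ j' → QQ j ≠ QQ j'
  nePQ' : ∀ j j', j ≠ j' → PP j ≠ QQ j'

variable (hF : IsMinFrobFamily F PP QQ)
include hF

theorem IsMinFrobFamily.coprime_orderOf (g : ∀ j, F j) {j j' : ι} (hjj' : j ≠ j') :
    Nat.Coprime (orderOf (g j)) (orderOf (g j')) := by
  have h1 := hF.nePP j j' hjj'
  have h2 := hF.neQQ j j' hjj'
  have h3 := hF.nePQ' j j' hjj'
  have h4 := (hF.nePQ' j' j hjj'.symm).symm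
  rcases (hF.frob j).orderOf_mem (g j) with h | h | h <;>
  rcases (hF.frob j').orderOf_mem (g j') with h' | h' | h' <;> rw [h, h'] <;>
  first
  | exact Nat.coprime_one_left _
  | exact Nat.coprime_one_right _
  | exact (Nat.coprime_primes (hF.primeP j) (hF.primeP j')).mpr h1
  | exact (Nat.coprime_primes (hF.primeP j) (hF.primeQ j')).mpr h3
  | exact (Nat.coprime_primes (hF.primeQ j) (hF.primeP j')).mpr h4
  | exact (Nat.coprime_primes (hF.primeQ j) (hF.primeQ j')).mpr h2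

theorem IsMinFrobFamily.orderOf_eq_prod (g : ∀ j, F j) :
    orderOf g = ∏ j, orderOf (g j) := by
  rw [Pi.orderOf]
  apply Finset.lcm_eq_prod
  intro j _ j' _ hjj'
  exact hF.coprime_orderOf g hjj'

/-- the spectrum -/
def spec (PP QQ : ι → ℕ) : Set ℕ :=
  {m : ℕ | ∃ c : ι → ℕ, (∀ j, c j = 1 ∨ c j = PP j ∨ c j = QQ j) ∧ m = ∏ j, c j}

theorem IsMinFrobFamily.range_orderOf :
    Set.range (orderOf : (∀ j, F j) → ℕ) = spec PP QQ := by
  ext m
  constructor
  · rintro ⟨g, rfl⟩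
    exact ⟨fun j => orderOf (g j), fun j => (hF.frob j).orderOf_mem (g j), hF.orderOf_eq_prod g⟩
  · rintro ⟨c, hc, rfl⟩
    have : ∀ j, ∃ x : F j, orderOf x = c j := by
      intro j
      rcases hc j with h | h | h
      · exact ⟨1, by rw [h, orderOf_one]⟩
      · rw [h]; exact (hF.frob j).exists_P
      · rw [h]; exact (hF.frob j).exists_Q
    choose g hg using this
    refine ⟨g, ?_⟩
    rw [hF.orderOf_eq_prod g]
    exact Finset.prod_congr rfl fun j _ => hg j

theorem IsMinFrobFamily.mem_spec_P (j : ι) : PP j ∈ spec PP QQ := by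
  refine ⟨Function.update (fun _ => 1) j (PP j), ?_, ?_⟩
  · intro l
    by_cases h : l = j
    · subst h; right; left; simp
    · left; simp [h]
  · rw [Finset.prod_eq_single j]
    · simp
    · intro l _ hl; simp [hl]
    · intro h; exact absurd (Finset.mem_univ j) h

theorem IsMinFrobFamily.mem_spec_Q (j : ι) : QQ j ∈ spec PP QQ := by
  refine ⟨Function.update (fun _ => 1) j (QQ j), ?_, ?_⟩
  · intro l
    by_cases h : l = j
    · subst h; right; right; simp
    · left; simp [h]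
  · rw [Finset.prod_eq_single j]
    · simp
    · intro l _ hl; simp [hl]
    · intro h; exact absurd (Finset.mem_univ j) h

/-- if a prime `q ∈ {PP j, QQ j}` divides the order of `g`, it is the order of `g j` -/
theorem IsMinFrobFamily.orderOf_apply_of_dvd (g : ∀ j, F j) (j : ι) (q : ℕ)
    (hq : q = PP j ∨ q = QQ j) (hdvd : q ∣ orderOf g) : orderOf (g j) = q := by
  have hqp : q.Prime := by
    rcases hq with h | h
    · rw [h]; exact hF.primeP j
    · rw [h]; exact hF.primeQ j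
  rw [hF.orderOf_eq_prod g] at hdvd
  obtain ⟨l, _, hl⟩ := (Prime.dvd_finsetProd_iff hqp.prime _).mp hdvd
  by_cases hlj : l = j
  · subst hlj
    rcases (hF.frob l).orderOf_mem (g l) with h | h | h
    · rw [h] at hl; exact absurd (Nat.dvd_one.mp hl) hqp.ne_one
    · rw [h] at hl ⊢
      exact ((Nat.prime_dvd_prime_iff_eq hqp (hF.primeP l)).mp hl).symm
    · rw [h] at hl ⊢
      exact ((Nat.prime_dvd_prime_iff_eq hqp (hF.primeQ l)).mp hl).symm
  · exfalso
    rcases (hF.frob l).orderOf_mem (g l) with h | h | h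
    · rw [h] at hl; exact absurd (Nat.dvd_one.mp hl) hqp.ne_one
    · rw [h] at hl
      have := (Nat.prime_dvd_prime_iff_eq hqp (hF.primeP l)).mp hl
      rcases hq with h' | h'
      · exact hF.nePP l j hlj (this.symm.trans h')
      · exact hF.nePQ' l j hlj (this.symm.trans h')
    · rw [h] at hl
      have := (Nat.prime_dvd_prime_iff_eq hqp (hF.primeQ l)).mp hl
      rcases hq with h' | h'
      · exact hF.nePQ' j l (Ne.symm hlj) (h'.symm.trans this)
      · exact hF.neQQ l j hlj (this.symm.trans h')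

/-- the product of the orders of the other components -/
noncomputable def otherOrder (g : ∀ j, F j) (j : ι) : ℕ := ∏ l ∈ Finset.univ.erase j, orderOf (g l)

omit hF in
theorem pow_otherOrder (g : ∀ j, F j) (j : ι) :
    g ^ otherOrder g j = Pi.mulSingle j ((g j) ^ otherOrder g j) := by
  funext l
  by_cases hlj : l = j
  · subst hlj; simp
  · rw [Pi.mulSingle_eq_of_ne hlj, Pi.pow_apply]
    apply orderOf_dvd_iff_pow_eq_one.mp
    exact Finset.dvd_prod_of_mem _ (Finset.mem_erase.mpr ⟨hlj, Finset.mem_univ l⟩)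

theorem IsMinFrobFamily.coprime_otherOrder (g : ∀ j, F j) (j : ι) :
    Nat.Coprime (otherOrder g j) (orderOf (g j)) := by
  apply Nat.Coprime.prod_left
  intro l hl
  exact hF.coprime_orderOf g (Finset.mem_erase.mp hl).1

/-- an element of prime order `q ∈ {PP j, QQ j}` is supported on the `j`-th coordinate -/
theorem IsMinFrobFamily.eq_mulSingle (g : ∀ j, F j) (j : ι) (q : ℕ)
    (hq : q = PP j ∨ q = QQ j) (hg : orderOf g = q) :
    g = Pi.mulSingle j (g j) ∧ orderOf (g j) = q := by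
  have h1 := hF.orderOf_apply_of_dvd g j q hq (by rw [hg])
  refine ⟨?_, h1⟩
  funext l
  by_cases hlj : l = j
  · subst hlj; simp
  · rw [Pi.mulSingle_eq_of_ne hlj]
    have h2 := hF.orderOf_eq_prod g
    rw [hg, ← Finset.mul_prod_erase Finset.univ _ (Finset.mem_univ j), h1] at h2
    have hqpos : 0 < q := by
      rcases hq with h | h
      · rw [h]; exact (hF.primeP j).pos
      · rw [h]; exact (hF.primeQ j).pos
    have h3 : ∏ l ∈ Finset.univ.erase j, orderOf (g l) = 1 := by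
      have : q * 1 = q * ∏ l ∈ Finset.univ.erase j, orderOf (g l) := by rw [mul_one]; exact h2
      exact (Nat.eq_of_mul_eq_mul_left hqpos this).symm
    have h4 : orderOf (g l) ∣ 1 := by
      rw [← h3]
      exact Finset.dvd_prod_of_mem _ (Finset.mem_erase.mpr ⟨hlj, Finset.mem_univ l⟩)
    exact orderOf_eq_one_iff.mp (Nat.dvd_one.mp h4)


/-- every prime of the family occurs as the order of an element of `H` when `H/N` has the full
spectrum -/
theorem IsMinFrobFamily.exists_mem_orderOf (H : Subgroup (∀ j, F j)) (N : Subgroup H) [N.Normal]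
    (hspec : Set.range (orderOf : (H ⧸ N) → ℕ) = spec PP QQ) (j : ι) (q : ℕ)
    (hq : q = PP j ∨ q = QQ j) : ∃ y ∈ H, orderOf y = q := by
  have hfin : ∀ g : (∀ j, F j), 0 < orderOf g := by
    intro g
    rw [hF.orderOf_eq_prod g]
    apply Finset.prod_pos
    intro l _
    rcases (hF.frob l).orderOf_mem (g l) with h | h | h <;> rw [h]
    · exact Nat.one_pos
    · exact (hF.primeP l).pos
    · exact (hF.primeQ l).pos
  have hmem : q ∈ spec PP QQ := by
    rcases hq with h | h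
    · rw [h]; exact hF.mem_spec_P j
    · rw [h]; exact hF.mem_spec_Q j
  rw [← hspec] at hmem
  obtain ⟨xbar, hx⟩ := hmem
  obtain ⟨x, rfl⟩ := QuotientGroup.mk_surjective xbar
  have h1 : q ∣ orderOf (x : ∀ j, F j) := by
    rw [← hx, Subgroup.orderOf_coe]
    exact orderOf_map_dvd (QuotientGroup.mk' N) x
  refine ⟨(x : ∀ j, F j) ^ (orderOf (x : ∀ j, F j) / q), H.pow_mem x.prop _, ?_⟩
  exact orderOf_pow_orderOf_div (hfin _).ne' h1

/-- criticality, first half -/
theorem IsMinFrobFamily.eq_top_of_spec (H : Subgroup (∀ j, F j)) (N : Subgroup H) [N.Normal]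
    (hspec : Set.range (orderOf : (H ⧸ N) → ℕ) = spec PP QQ) : H = ⊤ := by
  apply top_le_iff.mp
  intro x _
  apply Subgroup.pi_mem_of_mulSingle_mem
  intro j
  have hj : H.comap (MonoidHom.mulSingle F j) = ⊤ := by
    apply (hF.frob j).eq_top
    · obtain ⟨y, hyH, hy⟩ := hF.exists_mem_orderOf H N hspec j (PP j) (Or.inl rfl)
      obtain ⟨h1, h2⟩ := hF.eq_mulSingle y j (PP j) (Or.inl rfl) hy
      refine ⟨y j, ?_, h2⟩
      rw [Subgroup.mem_comap]
      change Pi.mulSingle j (y j) ∈ H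
      rw [← h1]; exact hyH
    · obtain ⟨y, hyH, hy⟩ := hF.exists_mem_orderOf H N hspec j (QQ j) (Or.inr rfl)
      obtain ⟨h1, h2⟩ := hF.eq_mulSingle y j (QQ j) (Or.inr rfl) hy
      refine ⟨y j, ?_, h2⟩
      rw [Subgroup.mem_comap]
      change Pi.mulSingle j (y j) ∈ H
      rw [← h1]; exact hyH
  have : x j ∈ H.comap (MonoidHom.mulSingle F j) := by rw [hj]; exact Subgroup.mem_top _
  exact this

/-- criticality, second half -/
theorem IsMinFrobFamily.eq_bot_of_spec (H : Subgroup (∀ j, F j)) (N : Subgroup H) [N.Normal]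
    (hspec : Set.range (orderOf : (H ⧸ N) → ℕ) = spec PP QQ) : N = ⊥ := by
  have hH : H = ⊤ := hF.eq_top_of_spec H N hspec
  by_contra hN
  obtain ⟨n, hnN, hn1⟩ := (N.bot_or_exists_ne_one).resolve_left hN
  have hn1' : (n : ∀ j, F j) ≠ 1 := fun h => hn1 (Subtype.ext h)
  obtain ⟨j, hj⟩ : ∃ j, (n : ∀ j, F j) j ≠ 1 := by
    by_contra hcon
    push Not at hcon
    exact hn1' (funext hcon)
  -- the embedding of the j-th factor into H
  let φ : F j →* H := (MonoidHom.mulSingle F j).codRestrict H (fun y => by rw [hH]; trivial)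
  have hφ : ∀ y, ((φ y : H) : ∀ j, F j) = Pi.mulSingle j y := fun y => rfl
  have hNj : (N.comap φ) ≠ ⊥ := by
    intro hbot
    have hmem : ((n : ∀ j, F j) j) ^ otherOrder (n : ∀ j, F j) j ∈ N.comap φ := by
      rw [Subgroup.mem_comap]
      have : φ (((n : ∀ j, F j) j) ^ otherOrder (n : ∀ j, F j) j) =
          n ^ otherOrder (n : ∀ j, F j) j := by
        apply Subtype.ext
        rw [hφ, Subgroup.coe_pow, pow_otherOrder]
      rw [this]
      exact N.pow_mem hnN _
    rw [hbot, Subgroup.mem_bot] at hmem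
    have hdvd := orderOf_dvd_of_pow_eq_one hmem
    have hcop := hF.coprime_otherOrder (n : ∀ j, F j) j
    have : orderOf ((n : ∀ j, F j) j) = 1 := hcop.symm.eq_one_of_dvd hdvd
    exact hj (orderOf_eq_one_iff.mp this)
  -- N_j contains all elements of order PP j
  have hNjn : (N.comap φ).Normal := inferInstance
  have hmemN : ∀ y : F j, orderOf y = PP j → φ y ∈ N :=
    fun y hy => (hF.frob j).mem_normal _ hNjn hNj y hy
  -- an element of order PP j in the quotient
  have hmem : PP j ∈ spec PP QQ := hF.mem_spec_P j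
  rw [← hspec] at hmem
  obtain ⟨xbar, hx⟩ := hmem
  obtain ⟨x, rfl⟩ := QuotientGroup.mk_surjective xbar
  have h1 : PP j ∣ orderOf (x : ∀ j, F j) := by
    rw [← hx, Subgroup.orderOf_coe]
    exact orderOf_map_dvd (QuotientGroup.mk' N) x
  have h2 : orderOf ((x : ∀ j, F j) j) = PP j :=
    hF.orderOf_apply_of_dvd _ j (PP j) (Or.inl rfl) h1
  have hcop : Nat.Coprime (otherOrder (x : ∀ j, F j) j) (PP j) := by
    rw [← h2]; exact hF.coprime_otherOrder _ j
  have h3 : orderOf (((x : ∀ j, F j) j) ^ otherOrder (x : ∀ j, F j) j) = PP j := by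
    rw [Nat.Coprime.orderOf_pow (by rw [h2]; exact hcop.symm)]
    exact h2
  have h4 : x ^ otherOrder (x : ∀ j, F j) j ∈ N := by
    have : φ (((x : ∀ j, F j) j) ^ otherOrder (x : ∀ j, F j) j) =
        x ^ otherOrder (x : ∀ j, F j) j := by
      apply Subtype.ext
      rw [hφ, Subgroup.coe_pow, pow_otherOrder]
    rw [← this]
    exact hmemN _ h3
  have h5 : (QuotientGroup.mk x : H ⧸ N) ^ otherOrder (x : ∀ j, F j) j = 1 := by
    rw [← QuotientGroup.mk_pow]
    exact (QuotientGroup.eq_one_iff _).mpr h4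
  have h6 : PP j ∣ otherOrder (x : ∀ j, F j) j := by
    rw [← hx]; exact orderOf_dvd_of_pow_eq_one h5
  have := Nat.Coprime.eq_one_of_dvd hcop.symm h6
  exact (hF.primeP j).ne_one this

end Product



section Final

variable {ι : Type} [Fintype ι] [DecidableEq ι] {F : ι → Type} [∀ j, Group (F j)]
  {PP QQ : ι → ℕ}

/-- the invariant distinguishing the groups -/
theorem IsMinFrobFamily.not_iso (hF : IsMinFrobFamily F PP QQ)
    {F' : ι → Type} [∀ j, Group (F' j)] {PP' QQ' : ι → ℕ}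
    (hF' : IsMinFrobFamily F' PP' QQ') (j : ι) (h1 : QQ' j = PP j) :
    ¬ Nonempty ((∀ j, F j) ≃* (∀ j, F' j)) := by
  rintro ⟨e⟩
  obtain ⟨x', y', hx', hy', hxy'⟩ := (hF'.frob j).exists_mul
  set X := e.symm (Pi.mulSingle j x') with hX
  set Y := e.symm (Pi.mulSingle j y') with hY
  have hXo : orderOf X = PP j := by
    rw [hX, MulEquiv.orderOf_eq, orderOf_piMulSingle, hx', h1]
  have hYo : orderOf Y = PP j := by
    rw [hY, MulEquiv.orderOf_eq, orderOf_piMulSingle, hy', h1]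
  have hXYo : orderOf (X * Y) = PP' j := by
    rw [hX, hY, ← map_mul, MulEquiv.orderOf_eq, ← Pi.mulSingle_mul, orderOf_piMulSingle, hxy']
  obtain ⟨hX1, hX2⟩ := hF.eq_mulSingle X j (PP j) (Or.inl rfl) hXo
  obtain ⟨hY1, hY2⟩ := hF.eq_mulSingle Y j (PP j) (Or.inl rfl) hYo
  have hXY : orderOf (X * Y) = orderOf (X j * Y j) := by
    conv_lhs => rw [hX1, hY1, ← Pi.mulSingle_mul, orderOf_piMulSingle]
  rw [hXY] at hXYo
  rcases (hF.frob j).mul_P (X j) (Y j) hX2 hY2 with h | h
  · rw [h] at hXYo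
    exact (hF'.primeP j).ne_one hXYo.symm
  · rw [h, ← h1] at hXYo
    exact hF'.nePQ j hXYo.symm

end Final

theorem fin_two_ne_one_sub (i : Fin 2) : i ≠ 1 - i := by
  fin_cases i <;> decide

theorem fin_two_eq_one_sub {i i' : Fin 2} (h : i ≠ i') : i' = 1 - i := by
  fin_cases i <;> fin_cases i' <;> first | rfl | exact absurd rfl h

theorem fin_two_or_iff (q : Fin 2 → ℕ) (i : Fin 2) (n : ℕ) :
    (n = q i ∨ n = q (1 - i)) ↔ (n = q 0 ∨ n = q 1) := by
  fin_cases i
  · exact Iff.rfl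
  · exact or_comm

theorem family_isMinFrobFamily (s : ℕ) (p : Fin s → Fin 2 → ℕ)
    [hp : ∀ j i, Fact (p j i).Prime] (hinj : ∀ j i j' i', p j i = p j' i' → j = j' ∧ i = i')
    (ε : Fin s → Fin 2) :
    IsMinFrobFamily (fun j => Frob (p j (ε j)) (p j (1 - ε j))) (fun j => p j (ε j))
      (fun j => p j (1 - ε j)) where
  frob j := Frob.isMinFrob (fun h => fin_two_ne_one_sub (ε j) (hinj _ _ _ _ h).2)
  primeP j := (hp j _).out
  primeQ j := (hp j _).out
  nePQ j := fun h => fin_two_ne_one_sub (ε j) (hinj _ _ _ _ h).2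
  nePP j j' hjj' := fun h => hjj' (hinj _ _ _ _ h).1
  neQQ j j' hjj' := fun h => hjj' (hinj _ _ _ _ h).1
  nePQ' j j' hjj' := fun h => hjj' (hinj _ _ _ _ h).1

theorem spec_eq (s : ℕ) (p : Fin s → Fin 2 → ℕ) (ε : Fin s → Fin 2) :
    spec (fun j => p j (ε j)) (fun j => p j (1 - ε j)) =
      {m : ℕ | ∃ c : Fin s → ℕ, (∀ j, c j = 1 ∨ c j = p j 0 ∨ c j = p j 1) ∧ m = ∏ j, c j} := by
  ext m
  constructor
  · rintro ⟨c, hc, rfl⟩
    refine ⟨c, fun j => ?_, rfl⟩
    rcases hc j with h | h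
    · exact Or.inl h
    · exact Or.inr ((fin_two_or_iff (p j) (ε j) (c j)).mp h)
  · rintro ⟨c, hc, rfl⟩
    refine ⟨c, fun j => ?_, rfl⟩
    rcases hc j with h | h
    · exact Or.inl h
    · exact Or.inr ((fin_two_or_iff (p j) (ε j) (c j)).mpr h)


/-- A finite group is critical with respect to a set Ω of natural numbers when its set of element orders is Ω while no proper section H/N (H a subgroup, N normal in H, (H, N) ≠ (whole group, 1)) has Ω as its set of element orders. Let s ≥ 1 and let p(j,0), p(j,1) (j < s) be 2s pairwise distinct primes, and let Ω be the set of all products c(0)·…·c(s−1) with each c(j) ∈ {1, p(j,0), p(j,1)}. Then there are 2^s pairwise non-isomorphic finite groups critical with respect to Ω. -/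
theorem result (s : ℕ) (hs : 1 ≤ s) (p : Fin s → Fin 2 → ℕ)
    (hp : ∀ j i, (p j i).Prime) (hinj : ∀ j i j' i', p j i = p j' i' → j = j' ∧ i = i') :
    ∃ (G : Fin (2 ^ s) → Type) (_ : ∀ a, Group (G a)) (_ : ∀ a, Fintype (G a)),
      (∀ a b, a ≠ b → ¬ Nonempty (G a ≃* G b)) ∧
      ∀ a, Set.range (orderOf : (G a) → ℕ) = {m : ℕ | ∃ c : Fin s → ℕ, (∀ j, c j = 1 ∨ c j = p j 0 ∨ c j = p j 1) ∧ m = ∏ j, c j} ∧
      ∀ (H : Subgroup (G a)) (N : Subgroup ↥H) [N.Normal], (H ≠ ⊤ ∨ N ≠ ⊥) → Set.range (orderOf : (↥H ⧸ N) → ℕ) ≠ {m : ℕ | ∃ c : Fin s → ℕ, (∀ j, c j = 1 ∨ c j = p j 0 ∨ c j = p j 1) ∧ m = ∏ j, c j} := by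
  classical
  haveI hpF : ∀ j i, Fact (p j i).Prime := fun j i => ⟨hp j i⟩
  let e : Fin (2 ^ s) ≃ (Fin s → Fin 2) := finFunctionFinEquiv.symm
  have hfam : ∀ a, IsMinFrobFamily (fun j => Frob (p j (e a j)) (p j (1 - e a j)))
      (fun j => p j (e a j)) (fun j => p j (1 - e a j)) :=
    fun a => family_isMinFrobFamily s p hinj (e a)
  refine ⟨fun a => ∀ j : Fin s, Frob (p j (e a j)) (p j (1 - e a j)), fun a => Pi.group,
    fun a => Fintype.ofFinite _, ?_, ?_⟩
  · intro a b hab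
    have hne : e a ≠ e b := fun h => hab (e.injective h)
    obtain ⟨j, hj⟩ : ∃ j, e a j ≠ e b j := by
      by_contra hcon
      push Not at hcon
      exact hne (funext hcon)
    have hb : e b j = 1 - e a j := fin_two_eq_one_sub hj
    have ha : e a j = 1 - e b j := fin_two_eq_one_sub (Ne.symm hj)
    apply (hfam a).not_iso (hfam b) j
    change p j (1 - e b j) = p j (e a j)
    rw [← ha]
  · intro a
    refine ⟨?_, ?_⟩
    · rw [(hfam a).range_orderOf, spec_eq]
    · intro H N _ hHN hspec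
      rw [← spec_eq s p (e a)] at hspec
      rcases hHN with h | h
      · exact h ((hfam a).eq_top_of_spec H N hspec)
      · exact h ((hfam a).eq_bot_of_spec H N hspec)

end Cfsg.Agent.S3599
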