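import Cfsg.Statements.S3619
-- import your own Cfsg.Agent.* helpers here

set_option autoImplicit false
open Cfsg

namespace Cfsg.Agent.S3619

open MulAction SubMulAction
open scoped Pointwise

/-- The kernel of the action on the translates of a set `B`. -/
def blockKernel (G : Type*) {Ω : Type*} [Group G] [MulAction G Ω] (B : Set Ω) : Subgroup G where
  carrier := {n | ∀ g : G, n • (g • B) = g • B}
  one_mem' := by intro g; simp
  mul_mem' := by
    intro a b ha hb g
    rw [mul_smul, hb g, ha g]
  inv_mem' := by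
    intro a ha g
    have := ha g
    rw [inv_smul_eq_iff]
    exact this.symm

theorem blockKernel_normal (G : Type*) {Ω : Type*} [Group G] [MulAction G Ω] (B : Set Ω) :
    (blockKernel G B).Normal := by
  constructor
  intro n hn h g
  have := hn (h⁻¹ * g)
  rw [mul_smul, mul_smul, ← mul_smul h⁻¹ g B, this, ← mul_smul, mul_inv_cancel_left]

/-- A quasiprimitive group with a Jordan set on which the pointwise stabilizer of the complement
is primitive is itself primitive. -/
theorem isPreprimitive_of_jordan {G Ω : Type*} [Group G] [MulAction G Ω] [Finite Ω]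
    (hqp : ∀ N : Subgroup G, N.Normal → N ≠ ⊥ → MulAction.IsPretransitive ↥N Ω)
    (Γ : Set Ω) (hΓ1 : 1 < Γ.ncard)
    (hJp : MulAction.IsPreprimitive ↥(fixingSubgroup G Γᶜ) ↥(SubMulAction.ofFixingSubgroup G Γᶜ)) :
    MulAction.IsPreprimitive G Ω := by
  classical
  have hJ : MulAction.IsPretransitive ↥(fixingSubgroup G Γᶜ)
      ↥(SubMulAction.ofFixingSubgroup G Γᶜ) := hJp.toIsPretransitive
  -- two distinct points of Γ
  obtain ⟨a, ha, b, hb, hab⟩ := (Set.one_lt_ncard (Γ.toFinite)).mp hΓ1
  have haΓ : a ∈ SubMulAction.ofFixingSubgroup G Γᶜ := by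
    rw [mem_ofFixingSubgroup_iff]; simpa using ha
  have hbΓ : b ∈ SubMulAction.ofFixingSubgroup G Γᶜ := by
    rw [mem_ofFixingSubgroup_iff]; simpa using hb
  -- an element of the fixing subgroup moving a to b
  obtain ⟨k, hk⟩ := hJ.exists_smul_eq ⟨a, haΓ⟩ ⟨b, hbΓ⟩
  have hkab : (k : G) • a = b := by
    exact congrArg Subtype.val hk
  have hk1 : (k : G) ≠ 1 := by
    intro h
    rw [h, one_smul] at hkab
    exact hab hkab
  -- the fixing subgroup preserves Γ
  have hKΓ : ∀ k' : G, k' ∈ fixingSubgroup G Γᶜ → ∀ x ∈ Γ, k' • x ∈ Γ := by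
    intro k' hk' x hx
    have hx' : x ∈ SubMulAction.ofFixingSubgroup G Γᶜ := by
      rw [mem_ofFixingSubgroup_iff]; simpa using hx
    have := ((⟨k', hk'⟩ : fixingSubgroup G Γᶜ) • (⟨x, hx'⟩ : SubMulAction.ofFixingSubgroup G Γᶜ)).prop
    rw [mem_ofFixingSubgroup_iff] at this
    simpa using this
  have hKfix : ∀ k' : G, k' ∈ fixingSubgroup G Γᶜ → ∀ x ∉ Γ, k' • x = x := by
    intro k' hk' x hx
    exact (mem_fixingSubgroup_iff G).mp hk' x (by simpa using hx)
  -- G is transitive
  have htop : (⊤ : Subgroup G) ≠ ⊥ := by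
    intro h
    have : (k : G) ∈ (⊥ : Subgroup G) := h ▸ Subgroup.mem_top _
    exact hk1 (Subgroup.mem_bot.mp this)
  have htrans : MulAction.IsPretransitive G Ω := by
    have h1 := hqp ⊤ inferInstance htop
    constructor
    intro x y
    obtain ⟨g, hg⟩ := h1.exists_smul_eq x y
    exact ⟨(g : G), hg⟩
  apply IsPreprimitive.of_isTrivialBlock_base a
  intro B haB hB
  -- the trace of B on Γ is a block for the fixing subgroup
  have hC : IsBlock (fixingSubgroup G Γᶜ)
      (Subtype.val ⁻¹' B : Set (SubMulAction.ofFixingSubgroup G Γᶜ)) :=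
    (hB.subgroup (H := fixingSubgroup G Γᶜ)).subtype_val_preimage
  rcases hJp.isTrivialBlock_of_isBlock hC with hsub | huniv
  · -- B ∩ Γ = {a}
    by_cases hBsub : B.Subsingleton
    · exact Or.inl hBsub
    · exfalso
      rw [Set.not_subsingleton_iff] at hBsub
      obtain ⟨d, hdB, hda⟩ : ∃ d ∈ B, d ≠ a := by
        obtain ⟨x, hx, y, hy, hxy⟩ := hBsub
        by_cases hxa : x = a
        · exact ⟨y, hy, fun h => hxy (hxa.trans h.symm)⟩
        · exact ⟨x, hx, hxa⟩
      have hdΓ : d ∉ Γ := by
        intro hdΓ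
        have hd' : d ∈ SubMulAction.ofFixingSubgroup G Γᶜ := by
          rw [mem_ofFixingSubgroup_iff]; simpa using hdΓ
        have := @hsub ⟨d, hd'⟩ hdB ⟨a, haΓ⟩ haB
        exact hda (congrArg Subtype.val this)
      -- k fixes d hence B
      have hkB : (k : G) • B = B := by
        apply hB.smul_eq_of_mem hdB
        rw [hKfix k k.prop d hdΓ]
        exact hdB
      have hbB : b ∈ B := by
        rw [← hkB, ← hkab]
        exact Set.smul_mem_smul_set haB
      have := @hsub ⟨b, hbΓ⟩ hbB ⟨a, haΓ⟩ haB
      exact hab (congrArg Subtype.val this).symm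
  · -- Γ ⊆ B
    right
    have hΓB : Γ ⊆ B := by
      intro x hx
      have hx' : x ∈ SubMulAction.ofFixingSubgroup G Γᶜ := by
        rw [mem_ofFixingSubgroup_iff]; simpa using hx
      have : (⟨x, hx'⟩ : SubMulAction.ofFixingSubgroup G Γᶜ) ∈
          (Subtype.val ⁻¹' B : Set (SubMulAction.ofFixingSubgroup G Γᶜ)) := by
        rw [huniv]; exact Set.mem_univ _
      exact this
    have hKN : fixingSubgroup G Γᶜ ≤ blockKernel G B := by
      intro k' hk' g
      by_cases hdisj : ∃ c ∈ g • B, c ∈ Γ
      · obtain ⟨c, hcgB, hcΓ⟩ := hdisj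
        have hgB : g • B = B := by
          apply hB.smul_eq_of_nonempty
          exact ⟨c, hcgB, hΓB hcΓ⟩
        rw [hgB]
        apply hB.smul_eq_of_mem haB
        exact hΓB (hKΓ k' hk' a ha)
      · push Not at hdisj
        ext x
        constructor
        · rintro ⟨y, hy, rfl⟩
          change k' • y ∈ g • B
          rw [hKfix k' hk' y (hdisj y hy)]
          exact hy
        · intro hx
          refine ⟨x, hx, ?_⟩
          exact hKfix k' hk' x (hdisj x hx)
    have hNbot : blockKernel G B ≠ ⊥ := by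
      intro h
      have : (k : G) ∈ (⊥ : Subgroup G) := h ▸ hKN k.prop
      exact hk1 (Subgroup.mem_bot.mp this)
    have hNtrans := hqp (blockKernel G B) (blockKernel_normal G B) hNbot
    rw [Set.eq_univ_iff_forall]
    intro x
    obtain ⟨n, hn⟩ := hNtrans.exists_smul_eq a x
    have hnB : (n : G) • B = B := by
      have := n.prop 1
      simpa using this
    rw [← hnB]
    exact ⟨a, haB, hn⟩

/-- Let G act faithfully on a finite set in such a way that every non-trivial normal subgroup of G is transitive (G is quasiprimitive). Let Γ be a subset with more than one point and not the whole set, such that the pointwise stabilizer of the complement of Γ acts transitively on Γ (a Jordan set). If that pointwise stabilizer acts primitively on Γ, then G is k-fold transitive where k is one more than the number of points outside Γ (the Jordan set is a trivial one). -/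
theorem result {G Ω : Type*} [Group G] [Finite G] [MulAction G Ω] [FaithfulSMul G Ω] [Finite Ω]
    (hqp : ∀ N : Subgroup G, N.Normal → N ≠ ⊥ → MulAction.IsPretransitive ↥N Ω)
    (Γ : Set Ω) (hΓ1 : 1 < Γ.ncard) (hΓ2 : Γ.ncard < Nat.card Ω)
    (hJ : MulAction.IsPretransitive ↥(fixingSubgroup G Γᶜ) ↥(SubMulAction.ofFixingSubgroup G Γᶜ))
    (hJp : MulAction.IsPreprimitive ↥(fixingSubgroup G Γᶜ) ↥(SubMulAction.ofFixingSubgroup G Γᶜ)) :
    MulAction.IsMultiplyPretransitive G Ω (Nat.card Ω - Γ.ncard + 1) := by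
  have _ := hJ
  have hprim : MulAction.IsPreprimitive G Ω := isPreprimitive_of_jordan hqp Γ hΓ1 hJp
  have hcompl : Γᶜ.ncard = Nat.card Ω - Γ.ncard := by
    have := Set.ncard_add_ncard_compl Γ
    omega
  obtain ⟨n, hn⟩ : ∃ n, Nat.card Ω - Γ.ncard = n + 1 := ⟨Nat.card Ω - Γ.ncard - 1, by omega⟩
  have hsn : Γᶜ.ncard = n + 1 := by rw [hcompl, hn]
  have hsn' : n + 2 < Nat.card Ω := by omega
  have := hprim.isMultiplyPreprimitive hsn hsn' hJp
  rw [hn]
  exact this.isMultiplyPretransitive

end Cfsg.Agent.S3619
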