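import Cfsg.Statements.S3626
import Cfsg.Agent.S1159
import Cfsg.Agent.Lib.Helper61.ReeX.Num
import Cfsg.Agent.Lib.Helper61.ReeX.Elts

set_option autoImplicit false
open Cfsg

namespace Cfsg.Agent.S3626

open Cfsg.Agent.Lib.Helper61.ReeX

/-- the spectrum of the Ree group `R(q)`, `q = 3^(2m+1)` (S1159) -/
def specS (m : ℕ) : Set ℕ :=
  {d | d ∣ 6 ∨ d ∣ 9 ∨ d ∣ 3 ^ (2 * m + 1) - 1 ∨ d ∣ (3 ^ (2 * m + 1) + 1) / 2 ∨
    d ∣ 3 ^ (2 * m + 1) - 3 ^ (m + 1) + 1 ∨ d ∣ 3 ^ (2 * m + 1) + 3 ^ (m + 1) + 1}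

theorem range_orderOf_ree {K : Type*} [Field K] [Fintype K] {m : ℕ} (hm : 1 ≤ m)
    (hK : Fintype.card K = 3 ^ (2 * m + 1)) :
    Set.range (orderOf : ↥(Cfsg.Lie.twistedG2 K (3 ^ m)) → ℕ) = specS m := by
  ext d
  exact Cfsg.Agent.S1159.result hm hK d

/-- the witness: `R₀ × R₀ × X`, with `R₀` the Ree group over a field `K₀ : Type` with `q` elements and `X = V : Γ` an
affine group of order at least `2^(N+1)` with `ω(X)` the divisors of `9`, `6`, `q - 1`, `(q + 1)/2`. -/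
theorem main_aux {K : Type*} [Field K] [Fintype K] {K₀ : Type} [Field K₀] [Fintype K₀] [CharP K₀ 3] {m : ℕ}
    (hm : 1 ≤ m) (hK : Fintype.card K = 3 ^ (2 * m + 1)) (hK₀ : Fintype.card K₀ = 3 ^ (2 * m + 1)) (N : ℕ) :
    ∃ (H : Type) (_ : Group H) (_ : Fintype H), N < Fintype.card H ∧
      Set.range (orderOf : H → ℕ) = Set.range (orderOf : ↥(Cfsg.Lie.twistedG2 K (3 ^ m)) ×
        ↥(Cfsg.Lie.twistedG2 K (3 ^ m)) × ↥(Cfsg.Lie.twistedG2 K (3 ^ m)) → ℕ) := by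
  have h8 := Cfsg.Agent.Lib.Helper61.ReeW2.q_mod_eight m
  have hq4 : Fintype.card K₀ % 4 = 3 := by rw [hK₀]; omega
  have hsq : ∀ x : K₀, x ^ 2 ≠ -1 := by
    intro x hx
    have : IsSquare (-1 : K₀) := ⟨x, by rw [← hx, sq]⟩
    exact (FiniteField.isSquare_neg_one_iff.mp this) hq4
  haveI : Finite ↥(Cfsg.Lie.twistedG2 K₀ (3 ^ m)) := inferInstance
  haveI : Finite ↥(affSubgroup (Gam K₀ (N + 1))) := inferInstance
  refine ⟨↥(Cfsg.Lie.twistedG2 K₀ (3 ^ m)) × ↥(Cfsg.Lie.twistedG2 K₀ (3 ^ m)) × ↥(affSubgroup (Gam K₀ (N + 1))),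
    inferInstance, Fintype.ofFinite _, ?_, ?_⟩
  · -- the order
    rw [Fintype.card_eq_nat_card]
    have h1 : Nat.card ↥(affSubgroup (Gam K₀ (N + 1)))
        ≤ Nat.card (↥(Cfsg.Lie.twistedG2 K₀ (3 ^ m)) × ↥(Cfsg.Lie.twistedG2 K₀ (3 ^ m)) ×
            ↥(affSubgroup (Gam K₀ (N + 1)))) := by
      apply Nat.card_le_card_of_injective (fun x => ((1 : ↥(Cfsg.Lie.twistedG2 K₀ (3 ^ m))),
        (1 : ↥(Cfsg.Lie.twistedG2 K₀ (3 ^ m))), x))
      intro x y hxy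
      exact (Prod.mk.inj (Prod.mk.inj hxy).2).2
    have h2 := Cfsg.Agent.Lib.Helper31.ReeX.card_le_card_affSubgroup (Gam K₀ (N + 1))
    have h3 : Nat.card (Fin (N + 1) → Matrix (Fin 2) (Fin 2) K₀) = Nat.card (Matrix (Fin 2) (Fin 2) K₀) ^ (N + 1) := by
      rw [Nat.card_fun, Nat.card_fin]
    have h4 : 1 < Nat.card (Matrix (Fin 2) (Fin 2) K₀) := Finite.one_lt_card
    have h5 : 2 ^ (N + 1) ≤ Nat.card (Matrix (Fin 2) (Fin 2) K₀) ^ (N + 1) := Nat.pow_le_pow_left h4 _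
    have h6 : N + 1 < 2 ^ (N + 1) := Nat.lt_two_pow_self
    omega
  · -- the spectrum
    rw [range_orderOf_prod3, range_orderOf_prod3, range_orderOf_ree hm hK, range_orderOf_ree hm hK₀,
      range_orderOf_X hsq hq4 (N + 1) (Nat.succ_pos N), hK₀]
    apply lcm_sets_eq (specS m) (OmX (3 ^ (2 * m + 1))) (3 ^ (2 * m + 1) - 3 ^ (m + 1) + 1)
      (3 ^ (2 * m + 1) + 3 ^ (m + 1) + 1)
    · rintro n (h | h | h | h)
      · exact Or.inr (Or.inl h)
      · exact Or.inl h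
      · exact Or.inr (Or.inr (Or.inl h))
      · exact Or.inr (Or.inr (Or.inr (Or.inl h)))
    · exact Or.inl (one_dvd 9)
    · rintro d (h | h | h | h | h | h)
      · exact Or.inl (Or.inr (Or.inl h))
      · exact Or.inl (Or.inl h)
      · exact Or.inl (Or.inr (Or.inr (Or.inl h)))
      · exact Or.inl (Or.inr (Or.inr (Or.inr h)))
      · exact Or.inr (Or.inl h)
      · exact Or.inr (Or.inr h)
    · intro d h
      exact Or.inr (Or.inr (Or.inr (Or.inr (Or.inl h))))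
    · intro d h
      exact Or.inr (Or.inr (Or.inr (Or.inr (Or.inr h))))

/-- Let R be the small Ree group over the field with q = 3^(2m+1) ≥ 27 elements. Then there are finite groups of arbitrarily large order with exactly the same set of element orders as R × R × R. -/
theorem result {K : Type*} [Field K] [Fintype K] {m : ℕ} (hm : 1 ≤ m) (hK : Fintype.card K = 3 ^ (2 * m + 1)) (N : ℕ) :
    ∃ (H : Type) (_ : Group H) (_ : Fintype H), N < Fintype.card H ∧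
      Set.range (orderOf : H → ℕ) = Set.range (orderOf : ↥(Cfsg.Lie.twistedG2 K (3 ^ m)) × ↥(Cfsg.Lie.twistedG2 K (3 ^ m)) × ↥(Cfsg.Lie.twistedG2 K (3 ^ m)) → ℕ) := by
  haveI : Fact (Nat.Prime 3) := ⟨Nat.prime_three⟩
  haveI : Fintype (GaloisField 3 (2 * m + 1)) := Fintype.ofFinite _
  have hK₀ : Fintype.card (GaloisField 3 (2 * m + 1)) = 3 ^ (2 * m + 1) := by
    rw [← Nat.card_eq_fintype_card]
    exact GaloisField.card 3 (2 * m + 1) (by omega)
  exact main_aux (K₀ := GaloisField 3 (2 * m + 1)) hm hK hK₀ N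

end Cfsg.Agent.S3626
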