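import Cfsg.Statements.S3627
import Mathlib
import Cfsg.Agent.Lib.Helper20.HomothetyGroup
import Cfsg.Agent.Lib.Helper20.J1SpecB

set_option autoImplicit false
open Cfsg

namespace Cfsg.Agent.S3627

open Cfsg.Agent.Lib.Helper20

/-- the proper divisors of `43890 = 2 * 3 * 5 * 7 * 11 * 19` -/
def properDivs : Finset ℕ := {1, 2, 3, 5, 6, 7, 10, 11, 14, 15, 19, 21, 22, 30, 33, 35, 38, 42, 55, 57, 66, 70, 77, 95, 105, 110, 114, 133, 154, 165, 190, 209, 210, 231, 266, 285, 330, 385, 399, 418, 462, 570, 627, 665, 770, 798, 1045, 1155, 1254, 1330, 1463, 1995, 2090, 2310, 2926, 3135, 3990, 4389, 6270, 7315, 8778, 14630, 21945}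

theorem lcm_mem_properDivs : ∀ a ∈ J1Spec.specJ1, ∀ b ∈ J1Spec.specJ1, ∀ c ∈ J1Spec.specJ1,
    ∀ d ∈ J1Spec.specJ1, Nat.lcm a (Nat.lcm b (Nat.lcm c d)) ∈ properDivs := by
  decide +kernel

theorem properDivs_split : ∀ n ∈ properDivs, ∃ a ∈ J1Spec.specJ1, ∃ b ∈ J1Spec.specJ1,
    ∃ c ∈ J1Spec.specJ1, ∃ y ∈ ({1, 10, 11} : Finset ℕ),
      n = Nat.lcm a (Nat.lcm b (Nat.lcm c y)) := by
  decide +kernel

theorem sub_spec : ({1, 2, 5, 10, 11} : Finset ℕ) ⊆ J1Spec.specJ1 := by decide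

theorem card_lt (N : ℕ)
    (inst : Fintype (↥Cfsg.Spor.J1 × ↥Cfsg.Spor.J1 × ↥Cfsg.Spor.J1 × HT.Y (N + 1))) :
    N < @Fintype.card (↥Cfsg.Spor.J1 × ↥Cfsg.Spor.J1 × ↥Cfsg.Spor.J1 × HT.Y (N + 1)) inst := by
  have h2 := HT.lt_card (N + 1)
  rw [← Nat.card_eq_fintype_card] at h2 ⊢
  rw [Nat.card_prod, Nat.card_prod, Nat.card_prod]
  have h3 : 0 < Nat.card ↥Cfsg.Spor.J1 := Nat.card_pos
  have h4 : Nat.card (HT.Y (N + 1)) ≤ Nat.card ↥Cfsg.Spor.J1 * (Nat.card ↥Cfsg.Spor.J1 *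
      (Nat.card ↥Cfsg.Spor.J1 * Nat.card (HT.Y (N + 1)))) := by
    calc Nat.card (HT.Y (N + 1)) = 1 * (1 * (1 * Nat.card (HT.Y (N + 1)))) := by ring
      _ ≤ _ := by gcongr <;> omega
  omega

theorem spec_eq (N : ℕ) :
    Set.range (orderOf : ↥Cfsg.Spor.J1 × ↥Cfsg.Spor.J1 × ↥Cfsg.Spor.J1 × HT.Y (N + 1) → ℕ) =
      Set.range (orderOf : ↥Cfsg.Spor.J1 × ↥Cfsg.Spor.J1 × ↥Cfsg.Spor.J1 × ↥Cfsg.Spor.J1 → ℕ) := by
  ext n
  simp only [Set.mem_range]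
  constructor
  · rintro ⟨⟨g1, g2, g3, y⟩, rfl⟩
    have hy : orderOf y ∈ J1Spec.specJ1 := sub_spec (HT.orderOf_mem y)
    obtain ⟨g4, hg4⟩ := J1Spec.exists_orderOf _ hy
    exact ⟨(g1, g2, g3, g4), by simp only [Prod.orderOf_mk, hg4]⟩
  · rintro ⟨⟨g1, g2, g3, g4⟩, rfl⟩
    have hm := lcm_mem_properDivs _ (J1Spec.orderOf_mem g1) _ (J1Spec.orderOf_mem g2) _
      (J1Spec.orderOf_mem g3) _ (J1Spec.orderOf_mem g4)
    obtain ⟨a, ha, b, hb, c, hc, y, hy, he⟩ := properDivs_split _ hm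
    obtain ⟨x1, hx1⟩ := J1Spec.exists_orderOf a ha
    obtain ⟨x2, hx2⟩ := J1Spec.exists_orderOf b hb
    obtain ⟨x3, hx3⟩ := J1Spec.exists_orderOf c hc
    obtain ⟨x4, hx4⟩ := HT.exists_orderOf (N + 1) (Nat.succ_pos N) y hy
    refine ⟨(x1, x2, x3, x4), ?_⟩
    simp only [Prod.orderOf_mk, hx1, hx2, hx3, hx4]
    exact he.symm


/-- Let J be the first Janko group. Then there are finite groups of arbitrarily large order with exactly the same set of element orders as J × J × J × J. -/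
theorem result (N : ℕ) : ∃ (H : Type) (_ : Group H) (_ : Fintype H), N < Fintype.card H ∧
      Set.range (orderOf : H → ℕ) = Set.range (orderOf : ↥Cfsg.Spor.J1 × ↥Cfsg.Spor.J1 × ↥Cfsg.Spor.J1 × ↥Cfsg.Spor.J1 → ℕ) := by
  refine ⟨↥Cfsg.Spor.J1 × ↥Cfsg.Spor.J1 × ↥Cfsg.Spor.J1 × HT.Y (N + 1), inferInstance,
    Fintype.ofFinite _, ?_, ?_⟩
  · exact card_lt N _
  · exact spec_eq N

end Cfsg.Agent.S3627
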