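import Mathlib
import Cfsg.Statements.S3634
-- import your own Cfsg.Agent.* helpers here

set_option autoImplicit false
open Cfsg

namespace Cfsg.Agent.S3634



/-- cyclic shift of a product -/
theorem prod_range_shift {V : Type*} [CommGroup V] (f : ℕ → V) (r : ℕ) (h : f r = f 0) :
    ∏ i ∈ Finset.range r, f (i + 1) = ∏ i ∈ Finset.range r, f i := by
  have h1 := Finset.prod_range_succ f r
  have h2 := Finset.prod_range_succ' f r
  rw [h1, h] at h2
  exact mul_right_cancel h2.symm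

theorem core {A V : Type*} [Group A] [CommGroup V] (φ : A →* MulAut V)
    (Q : Subgroup A) [Finite Q] (hQ : ∀ a ∈ Q, ∀ b ∈ Q, a * b = b * a)
    (x : A) (r : ℕ) (hr : 0 < r) (hxr : x ^ r = 1)
    (hxQ : ∀ a ∈ Q, x * a * x⁻¹ ∈ Q)
    (hfQ : ∀ i, 0 < i → i < r → ∀ a ∈ Q, x ^ i * a * (x ^ i)⁻¹ = a → a = 1)
    (hVQ : ∀ v : V, (∀ a ∈ Q, φ a v = v) → v = 1)
    (hVx : ∀ b ∈ Q, ∀ v : V, φ (b * x * b⁻¹) v = v → v = 1) :
    ∀ v : V, v ^ Nat.card Q = 1 := by
  classical
  intro v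
  have : Fintype Q := Fintype.ofFinite Q
  -- conjugation by powers of x preserves Q
  have hxiQ : ∀ i : ℕ, ∀ a ∈ Q, x ^ i * a * (x ^ i)⁻¹ ∈ Q := by
    intro i
    induction i with
    | zero => intro a ha; simpa using ha
    | succ n ih =>
      intro a ha
      have := hxQ _ (ih a ha)
      have e : x ^ (n + 1) * a * (x ^ (n + 1))⁻¹ = x * (x ^ n * a * (x ^ n)⁻¹) * x⁻¹ := by
        rw [pow_succ']; group
      rw [e]; exact this
  -- W b = 1
  have hW : ∀ b ∈ Q, ∏ i ∈ Finset.range r, φ (b * x ^ i * b⁻¹) v = 1 := by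
    intro b hb
    apply hVx b hb
    rw [map_prod]
    have : ∀ i, φ (b * x * b⁻¹) (φ (b * x ^ i * b⁻¹) v) = φ (b * x ^ (i + 1) * b⁻¹) v := by
      intro i
      rw [← MulAut.mul_apply, ← map_mul]
      congr 2
      rw [pow_succ']; group
    simp_rw [this]
    apply prod_range_shift (fun i => φ (b * x ^ i * b⁻¹) v)
    simp [hxr]
  -- total product is 1
  have hT : ∏ b : Q, ∏ i ∈ Finset.range r, φ ((b : A) * x ^ i * (b : A)⁻¹) v = 1 := by
    apply Finset.prod_eq_one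
    intro b _
    exact hW b b.prop
  rw [Finset.prod_comm] at hT
  -- terms with 0 < i vanish
  have hI : ∀ i, 0 < i → i < r → ∏ b : Q, φ ((b : A) * x ^ i * (b : A)⁻¹) v = 1 := by
    intro i hi hir
    -- the map e : Q → Q
    let e : Q → Q := fun b => ⟨(b : A) * (x ^ i * (b : A)⁻¹ * (x ^ i)⁻¹),
      Q.mul_mem b.prop (hxiQ i _ (Q.inv_mem b.prop))⟩
    have he_inj : Function.Injective e := by
      intro b b' hbb'
      have h1 : (b : A) * (x ^ i * (b : A)⁻¹ * (x ^ i)⁻¹) =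
          (b' : A) * (x ^ i * (b' : A)⁻¹ * (x ^ i)⁻¹) := congrArg Subtype.val hbb'
      -- c = b'⁻¹ b is fixed
      have hc : ((b' : A)⁻¹ * b) ∈ Q := Q.mul_mem (Q.inv_mem b'.prop) b.prop
      have hfix : x ^ i * ((b' : A)⁻¹ * b) * (x ^ i)⁻¹ = (b' : A)⁻¹ * b := by
        have h2 : (b' : A)⁻¹ * (b : A) * (x ^ i * (b : A)⁻¹ * (x ^ i)⁻¹) =
            x ^ i * (b' : A)⁻¹ * (x ^ i)⁻¹ := by
          rw [mul_assoc, h1]; group
        have h3 : x ^ i * ((b' : A)⁻¹ * b) * (x ^ i)⁻¹ =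
            (x ^ i * (b' : A)⁻¹ * (x ^ i)⁻¹) * (x ^ i * (b : A) * (x ^ i)⁻¹) := by group
        rw [h3, ← h2]
        have hcomm := hQ _ hc _ (hxiQ i _ (Q.inv_mem b.prop))
        rw [mul_assoc, mul_assoc]
        have h4 : (x ^ i * (b : A)⁻¹ * (x ^ i)⁻¹) * (x ^ i * (b : A) * (x ^ i)⁻¹) = 1 := by group
        rw [h4, mul_one]
      have := hfQ i hi hir _ hc hfix
      have hb : (b : A) = b' := by
        have : (b' : A) * ((b' : A)⁻¹ * b) = b' * 1 := by rw [this]
        simpa using this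
      exact Subtype.ext hb
    have he_bij : Function.Bijective e := Finite.injective_iff_bijective.mp he_inj
    have hrew : ∀ b : Q, φ ((b : A) * x ^ i * (b : A)⁻¹) v = φ (e b : A) (φ (x ^ i) v) := by
      intro b
      rw [← MulAut.mul_apply, ← map_mul]
      congr 2
      simp only [e]
      group
    simp_rw [hrew]
    rw [Function.Bijective.prod_comp he_bij (fun c : Q => φ (c : A) (φ (x ^ i) v))]
    apply hVQ
    intro a ha
    rw [map_prod]
    have : ∀ c : Q, φ a (φ (c : A) (φ (x ^ i) v)) =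
        φ ((⟨a, ha⟩ * c : Q) : A) (φ (x ^ i) v) := by
      intro c
      rw [← MulAut.mul_apply, ← map_mul]
      rfl
    simp_rw [this]
    exact Function.Bijective.prod_comp (Group.mulLeft_bijective (⟨a, ha⟩ : Q))
      (fun c : Q => φ (c : A) (φ (x ^ i) v))
  obtain ⟨r', rfl⟩ : ∃ r', r = r' + 1 := ⟨r - 1, by omega⟩
  rw [Finset.prod_range_succ'] at hT
  have h0 : ∏ b : Q, φ ((b : A) * x ^ 0 * (b : A)⁻¹) v = v ^ Nat.card Q := by
    simp [Finset.prod_const, Nat.card_eq_fintype_card]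
  rw [h0] at hT
  have hrest : ∏ i ∈ Finset.range r', ∏ b : Q, φ ((b : A) * x ^ (i + 1) * (b : A)⁻¹) v = 1 := by
    apply Finset.prod_eq_one
    intro i hi
    exact hI (i + 1) (by omega) (by have := Finset.mem_range.mp hi; omega)
  rw [hrest, one_mul] at hT
  exact hT


theorem core' {A V : Type*} [Group A] [Group V] (hV : ∀ u v : V, u * v = v * u) (φ : A →* MulAut V)
    (Q : Subgroup A) [Finite Q] (hQ : ∀ a ∈ Q, ∀ b ∈ Q, a * b = b * a)
    (x : A) (r : ℕ) (hr : 0 < r) (hxr : x ^ r = 1)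
    (hxQ : ∀ a ∈ Q, x * a * x⁻¹ ∈ Q)
    (hfQ : ∀ i, 0 < i → i < r → ∀ a ∈ Q, x ^ i * a * (x ^ i)⁻¹ = a → a = 1)
    (hVQ : ∀ v : V, (∀ a ∈ Q, φ a v = v) → v = 1)
    (hVx : ∀ b ∈ Q, ∀ v : V, φ (b * x * b⁻¹) v = v → v = 1) :
    ∀ v : V, v ^ Nat.card Q = 1 := by
  let _ : CommGroup V := { (inferInstance : Group V) with mul_comm := hV }
  exact core φ Q hQ x r hr hxr hxQ hfQ hVQ hVx

/-- two commuting elements with orders divisible by distinct primes give an element of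
order the product -/
theorem exists_orderOf_eq_mul {G : Type*} [Group G] [Finite G] {a b : G} (hab : Commute a b)
    {p q : ℕ} (hp : p.Prime) (hq : q.Prime) (hpq : p ≠ q)
    (hpa : p ∣ orderOf a) (hqb : q ∣ orderOf b) : ∃ g : G, orderOf g = p * q := by
  have ha : orderOf (a ^ (orderOf a / p)) = p :=
    orderOf_pow_orderOf_div (orderOf_pos a).ne' hpa
  have hb : orderOf (b ^ (orderOf b / q)) = q :=
    orderOf_pow_orderOf_div (orderOf_pos b).ne' hqb
  refine ⟨a ^ (orderOf a / p) * b ^ (orderOf b / q), ?_⟩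
  rw [(hab.pow_pow _ _).orderOf_mul_eq_mul_orderOf_of_coprime, ha, hb]
  rw [ha, hb]
  exact (Nat.coprime_primes hp hq).mpr hpq

/-- a nontrivial element of a `p`-subgroup has order divisible by `p` -/
theorem dvd_orderOf_of_mem_pgroup {G : Type*} [Group G] {p : ℕ} [Fact p.Prime] {P : Subgroup G}
    (hP : IsPGroup p P) {g : G} (hg : g ∈ P) (hg1 : g ≠ 1) :
    p ∣ orderOf g ∧ ∃ k, orderOf g = p ^ k := by
  obtain ⟨k, hk⟩ := (IsPGroup.iff_orderOf.mp hP) ⟨g, hg⟩
  rw [Subgroup.orderOf_mk] at hk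
  refine ⟨?_, k, hk⟩
  rcases k with _ | k
  · exfalso
    apply hg1
    simpa using hk
  · rw [hk, pow_succ]
    exact dvd_mul_left _ _

/-- centre of a subgroup, as a subgroup of the ambient group -/
theorem exists_center_ne_one {G : Type*} [Group G] [Finite G] {p : ℕ} [Fact p.Prime]
    {P : Subgroup G} (hP : IsPGroup p P) (hP1 : P ≠ ⊥) :
    ∃ z : G, z ∈ P ⊓ Subgroup.centralizer (P : Set G) ∧ z ≠ 1 := by
  have : Nontrivial P := (Subgroup.nontrivial_iff_ne_bot P).mpr hP1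
  have := hP.center_nontrivial
  obtain ⟨z, hz⟩ := exists_ne (1 : Subgroup.center P)
  refine ⟨((z : P) : G), Subgroup.mem_inf.mpr ⟨(z : P).prop, ?_⟩, ?_⟩
  · rw [Subgroup.mem_centralizer_iff]
    intro u hu
    have := (Subgroup.mem_center_iff.mp z.prop) ⟨u, hu⟩
    exact congrArg Subtype.val this
  · intro h
    apply hz
    apply Subtype.ext
    apply Subtype.ext
    simpa using h

theorem L2 {G : Type*} [Group G] [Finite G] {p q r : ℕ} (hp : p.Prime) (hq : q.Prime) (hr : r.Prime)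
    (hpq : p ≠ q) (hpr : p ≠ r) (hqr : q ≠ r)
    (P : Subgroup G) [P.Normal] (hP : IsPGroup p P) (hP1 : P ≠ ⊥)
    (Q : Subgroup G) (hQ : IsPGroup q Q) (hQ1 : Q ≠ ⊥)
    (x : G) (hx : orderOf x = r) (hxQ : x ∈ Subgroup.normalizer (Q : Set G)) :
    (∃ g : G, orderOf g = p * q) ∨ (∃ g : G, orderOf g = p * r) ∨ (∃ g : G, orderOf g = q * r) := by
  by_contra hcon
  push Not at hcon
  obtain ⟨h1, h2, h3⟩ := hcon
  have : Fact p.Prime := ⟨hp⟩
  have : Fact q.Prime := ⟨hq⟩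
  -- V = Z(P), Q₀ = Z(Q)
  set V : Subgroup G := P ⊓ Subgroup.centralizer (P : Set G) with hVdef
  set Q₀ : Subgroup G := Q ⊓ Subgroup.centralizer (Q : Set G) with hQ₀def
  have hVP : IsPGroup p V := hP.to_le inf_le_left
  have hQ₀Q : IsPGroup q Q₀ := hQ.to_le inf_le_left
  obtain ⟨v₀, hv₀V, hv₀1⟩ := exists_center_ne_one hP hP1
  obtain ⟨z₀, hz₀Q, hz₀1⟩ := exists_center_ne_one hQ hQ1
  have hVcomm : ∀ u v : V, u * v = v * u := by
    intro u v
    apply Subtype.ext
    have := (Subgroup.mem_centralizer_iff.mp (Subgroup.mem_inf.mp v.prop).2) u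
      (Subgroup.mem_inf.mp u.prop).1
    exact this
  have hQ₀comm : ∀ a ∈ Q₀, ∀ b ∈ Q₀, a * b = b * a := by
    intro a ha b hb
    exact (Subgroup.mem_centralizer_iff.mp (Subgroup.mem_inf.mp hb).2) a (Subgroup.mem_inf.mp ha).1
  have hxr : x ^ r = 1 := by rw [← hx]; exact pow_orderOf_eq_one x
  have hxQ₀ : ∀ a ∈ Q₀, x * a * x⁻¹ ∈ Q₀ := by
    intro a ha
    obtain ⟨ha1, ha2⟩ := Subgroup.mem_inf.mp ha
    refine Subgroup.mem_inf.mpr ⟨(Subgroup.mem_normalizer_iff.mp hxQ a).mp ha1, ?_⟩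
    rw [Subgroup.mem_centralizer_iff]
    intro b hb
    have hb' : x⁻¹ * b * x ∈ Q := by
      apply (Subgroup.mem_normalizer_iff.mp hxQ (x⁻¹ * b * x)).mpr
      have e : x * (x⁻¹ * b * x) * x⁻¹ = b := by group
      rw [e]; exact hb
    have := (Subgroup.mem_centralizer_iff.mp ha2) _ hb'
    calc b * (x * a * x⁻¹) = x * ((x⁻¹ * b * x) * a) * x⁻¹ := by group
      _ = x * (a * (x⁻¹ * b * x)) * x⁻¹ := by rw [this]
      _ = x * a * x⁻¹ * b := by group
  -- fixed-point-freeness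
  have hfQ : ∀ i, 0 < i → i < r → ∀ a ∈ Q₀, x ^ i * a * (x ^ i)⁻¹ = a → a = 1 := by
    intro i hi hir a ha hfix
    by_contra ha1
    have hxi : orderOf (x ^ i) = r := by
      have hcop : (orderOf x).Coprime i := by
        rw [hx]
        exact (Nat.Prime.coprime_iff_not_dvd hr).mpr (Nat.not_dvd_of_pos_of_lt hi hir)
      rw [hcop.orderOf_pow, hx]
    have hcomm : Commute a (x ^ i) := by
      have : x ^ i * a = a * x ^ i := by
        calc x ^ i * a = (x ^ i * a * (x ^ i)⁻¹) * x ^ i := by group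
          _ = a * x ^ i := by rw [hfix]
      exact this.symm
    obtain ⟨g, hg⟩ := exists_orderOf_eq_mul hcomm hq hr hqr
      (dvd_orderOf_of_mem_pgroup hQ₀Q ha ha1).1 (by rw [hxi])
    exact h3 g hg
  have hVQ : ∀ v : V, (∀ a ∈ Q₀, (MulAut.conjNormal a : MulAut V) v = v) → v = 1 := by
    intro v hv
    by_contra hv1
    have hfix := hv z₀ hz₀Q
    have hfix' : z₀ * (v : G) * z₀⁻¹ = v :=
      congrArg Subtype.val hfix
    have hcomm : Commute (v : G) z₀ := by
      have : z₀ * (v : G) = (v : G) * z₀ := by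
        calc z₀ * (v : G) = (z₀ * (v : G) * z₀⁻¹) * z₀ := by group
          _ = (v : G) * z₀ := by rw [hfix']
      exact this.symm
    have hv1' : (v : G) ≠ 1 := fun h => hv1 (Subtype.ext h)
    obtain ⟨g, hg⟩ := exists_orderOf_eq_mul hcomm hp hq hpq
      (dvd_orderOf_of_mem_pgroup hVP v.prop hv1').1
      (dvd_orderOf_of_mem_pgroup hQ₀Q hz₀Q hz₀1).1
    exact h1 g hg
  have hVx : ∀ b ∈ Q₀, ∀ v : V, (MulAut.conjNormal (b * x * b⁻¹) : MulAut V) v = v → v = 1 := by
    intro b _ v hfix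
    by_contra hv1
    have hfix' : (b * x * b⁻¹) * (v : G) * (b * x * b⁻¹)⁻¹ = v :=
      congrArg Subtype.val hfix
    have hcomm : Commute (v : G) (b * x * b⁻¹) := by
      have : (b * x * b⁻¹) * (v : G) = (v : G) * (b * x * b⁻¹) := by
        calc (b * x * b⁻¹) * (v : G) = ((b * x * b⁻¹) * (v : G) * (b * x * b⁻¹)⁻¹) * (b * x * b⁻¹) := by
              group
          _ = (v : G) * (b * x * b⁻¹) := by rw [hfix']
      exact this.symm
    have hv1' : (v : G) ≠ 1 := fun h => hv1 (Subtype.ext h)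
    have hord : orderOf (b * x * b⁻¹) = r := by
      rw [← hx]
      exact MulEquiv.orderOf_eq (MulAut.conj b) x
    obtain ⟨g, hg⟩ := exists_orderOf_eq_mul hcomm hp hr hpr
      (dvd_orderOf_of_mem_pgroup hVP v.prop hv1').1 (by rw [hord])
    exact h2 g hg
  have key := core' hVcomm (MulAut.conjNormal : G →* MulAut V) Q₀ hQ₀comm x r hr.pos hxr hxQ₀ hfQ
    hVQ hVx ⟨v₀, hv₀V⟩
  have key' : v₀ ^ Nat.card Q₀ = 1 := by
    have := congrArg Subtype.val key
    simpa using this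
  have hk := (dvd_orderOf_of_mem_pgroup hVP hv₀V hv₀1).1
  obtain ⟨m, hm⟩ := hQ₀Q.exists_card_eq
  have hdvd : p ∣ q ^ m := by
    rw [← hm]
    exact hk.trans (orderOf_dvd_of_pow_eq_one key')
  exact hpq ((Nat.prime_dvd_prime_iff_eq hp hq).mp (hp.dvd_of_dvd_pow hdvd))


theorem L1 {G : Type*} [Group G] [Finite G] {p q r : ℕ} (hp : p.Prime) (hq : q.Prime) (hr : r.Prime)
    (hpq : p ≠ q) (hpr : p ≠ r) (hqr : q ≠ r)
    (P : Subgroup G) [P.Normal] (hP : IsPGroup p P) (hP1 : P ≠ ⊥)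
    (M : Subgroup G) [M.Normal] (hqM : q ∣ Nat.card M) (hrM : r ∣ M.index) :
    (∃ g : G, orderOf g = p * q) ∨ (∃ g : G, orderOf g = p * r) ∨ (∃ g : G, orderOf g = q * r) := by
  have : Fact q.Prime := ⟨hq⟩
  have : Fact r.Prime := ⟨hr⟩
  let Q : Sylow q M := default
  have hQ1 : (Q : Subgroup M) ≠ ⊥ := Q.ne_bot_of_dvd_card hqM
  set Q' : Subgroup G := (Q : Subgroup M).map M.subtype with hQ'
  have hQ'p : IsPGroup q Q' := Q.isPGroup'.map M.subtype
  have hQ'1 : Q' ≠ ⊥ := by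
    rw [hQ', Ne, Subgroup.map_eq_bot_iff_of_injective _ M.subtype_injective]
    exact hQ1
  have hF : Subgroup.normalizer (Q' : Set G) ⊔ M = ⊤ := Sylow.normalizer_sup_eq_top Q
  have hrN : r ∣ Nat.card (Subgroup.normalizer (Q' : Set G)) := by
    have h1 : M.relIndex (Subgroup.normalizer (Q' : Set G)) = M.index := by
      rw [← Subgroup.relIndex_sup_right, hF, Subgroup.relIndex_top_right]
    rw [← h1] at hrM
    exact hrM.trans (Subgroup.relIndex_dvd_card _ _)
  obtain ⟨x, hx⟩ := exists_prime_orderOf_dvd_card' r hrN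
  have hx' : orderOf (x : G) = r := by rw [Subgroup.orderOf_coe]; exact hx
  exact L2 hp hq hr hpq hpr hqr P hP hP1 Q' hQ'p hQ'1 (x : G) hx' x.prop


theorem card_div_card_eq_relIndex {G : Type*} [Group G] [Finite G] {K M : Subgroup G} (hKM : K ≤ M) :
    Nat.card M / Nat.card K = K.relIndex M := by
  have h1 : (K.subgroupOf M).index * Nat.card (K.subgroupOf M) = Nat.card M :=
    Subgroup.index_mul_card _
  have h2 : Nat.card (K.subgroupOf M) = Nat.card K :=
    Nat.card_congr (Subgroup.subgroupOfEquivOfLe hKM).toEquiv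
  rw [h2] at h1
  rw [← h1]
  exact Nat.mul_div_cancel _ Nat.card_pos



/-- Let G be a finite group with normal subgroups K ≤ M, and let p, q, r be distinct primes with p dividing the order of K, q dividing the order of M/K and r dividing the order of G/M. Then p, q, r are not pairwise non-adjacent in the prime graph of G: G has an element of order pq, pr or qr. -/
theorem result {G : Type*} [Group G] [Finite G] (K M : Subgroup G) [K.Normal] [M.Normal] (hKM : K ≤ M)
    (p q r : ℕ) (hp : p.Prime) (hq : q.Prime) (hr : r.Prime) (hpq : p ≠ q) (hpr : p ≠ r) (hqr : q ≠ r)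
    (hpK : p ∣ Nat.card ↥K) (hqM : q ∣ Nat.card ↥M / Nat.card ↥K) (hrG : r ∣ Nat.card G / Nat.card ↥M) :
    (∃ x : G, orderOf x = p * q) ∨ (∃ x : G, orderOf x = p * r) ∨ (∃ x : G, orderOf x = q * r) := by
  have : Fact p.Prime := ⟨hp⟩
  let P : Sylow p K := default
  have hP1 : (P : Subgroup K) ≠ ⊥ := P.ne_bot_of_dvd_card hpK
  set P₀ : Subgroup G := (P : Subgroup K).map K.subtype with hP₀
  have hP₀p : IsPGroup p P₀ := P.isPGroup'.map K.subtype
  have hP₀1 : P₀ ≠ ⊥ := by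
    rw [hP₀, Ne, Subgroup.map_eq_bot_iff_of_injective _ K.subtype_injective]
    exact hP1
  have hF : Subgroup.normalizer (P₀ : Set G) ⊔ K = ⊤ := Sylow.normalizer_sup_eq_top P
  set G₁ : Subgroup G := Subgroup.normalizer (P₀ : Set G) with hG₁
  have hF' : G₁ ⊔ M = ⊤ := by
    apply top_le_iff.mp
    rw [← hF]
    exact sup_le_sup_left hKM _
  -- P₁
  set P₁ : Subgroup G₁ := P₀.subgroupOf G₁ with hP₁
  have hP₁n : P₁.Normal := Subgroup.normal_in_normalizer
  have hP₁p : IsPGroup p P₁ := hP₀p.comap_subtype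
  have hP₁1 : P₁ ≠ ⊥ := by
    obtain ⟨g, hg, hg1⟩ := (P₀.bot_or_exists_ne_one).resolve_left hP₀1
    intro hbot
    have hgG₁ : g ∈ G₁ := Subgroup.le_normalizer hg
    have : (⟨g, hgG₁⟩ : G₁) ∈ P₁ := by
      rw [hP₁, Subgroup.mem_subgroupOf]
      exact hg
    rw [hbot, Subgroup.mem_bot] at this
    exact hg1 (congrArg Subtype.val this)
  -- M₁
  set M₁ : Subgroup G₁ := M.subgroupOf G₁ with hM₁
  have hM₁n : M₁.Normal := inferInstance
  have hsup : (M ⊓ G₁) ⊔ K = M := by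
    apply le_antisymm
    · exact sup_le inf_le_left hKM
    · intro m hm
      have hm' : m ∈ G₁ ⊔ K := by rw [hF]; exact Subgroup.mem_top m
      obtain ⟨g, hg, k, hk, rfl⟩ := Subgroup.mem_sup_of_normal_right.mp hm'
      have hgM : g ∈ M := by
        have : g = (g * k) * k⁻¹ := by group
        rw [this]
        exact M.mul_mem hm (M.inv_mem (hKM hk))
      exact Subgroup.mul_mem_sup (Subgroup.mem_inf.mpr ⟨hgM, hg⟩) hk
  have hqM₁ : q ∣ Nat.card M₁ := by
    rw [card_div_card_eq_relIndex hKM] at hqM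
    have h1 : K.relIndex M = K.relIndex (M ⊓ G₁) := by
      rw [← Subgroup.relIndex_sup_right (H := M ⊓ G₁) (K := K), hsup]
    rw [h1] at hqM
    have h2 : Nat.card M₁ = Nat.card (M ⊓ G₁ : Subgroup G) := by
      rw [hM₁, ← Subgroup.inf_subgroupOf_right]
      exact Nat.card_congr (Subgroup.subgroupOfEquivOfLe inf_le_right).toEquiv
    rw [h2]
    exact hqM.trans (Subgroup.relIndex_dvd_card _ _)
  have hrM₁ : r ∣ M₁.index := by
    have h1 : Nat.card G / Nat.card M = M.index := by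
      rw [← Subgroup.index_mul_card M]
      exact Nat.mul_div_cancel _ Nat.card_pos
    rw [h1] at hrG
    have h2 : M₁.index = M.index := by
      change M.relIndex G₁ = M.index
      rw [← Subgroup.relIndex_sup_right, hF', Subgroup.relIndex_top_right]
    rw [h2]; exact hrG
  rcases L1 hp hq hr hpq hpr hqr P₁ hP₁p hP₁1 M₁ hqM₁ hrM₁ with ⟨g, hg⟩ | ⟨g, hg⟩ | ⟨g, hg⟩
  · exact Or.inl ⟨(g : G), by rw [Subgroup.orderOf_coe]; exact hg⟩
  · exact Or.inr (Or.inl ⟨(g : G), by rw [Subgroup.orderOf_coe]; exact hg⟩)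
  · exact Or.inr (Or.inr ⟨(g : G), by rw [Subgroup.orderOf_coe]; exact hg⟩)

end Cfsg.Agent.S3634
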