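import Mathlib
import Cfsg.Statements.S3633
import Cfsg.Agent.S3634
-- import your own Cfsg.Agent.* helpers here

set_option autoImplicit false
open Cfsg

namespace Cfsg.Agent.S3633

/-- A nontrivial finite solvable group has a proper characteristic subgroup of prime power index. -/
theorem exists_characteristic_prime_power_index (H : Type*) [Group H] [Finite H]
    [Group.IsSolvable H] [Nontrivial H] :
    ∃ (C : Subgroup H) (u b : ℕ), C.Characteristic ∧ u.Prime ∧ 1 ≤ b ∧ C.index = u ^ b := by
  classical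
  have hlt : commutator H < ⊤ := Group.IsSolvable.commutator_lt_top_of_nontrivial H
  have hcard : Nat.card (Abelianization H) ≠ 1 := by
    intro h1
    have : (commutator H).index = 1 := h1
    rw [Subgroup.index_eq_one] at this
    exact hlt.ne this
  have hcard0 : Nat.card (Abelianization H) ≠ 0 := Nat.card_pos.ne'
  set u := (Nat.card (Abelianization H)).minFac with hu
  have hup : u.Prime := Nat.minFac_prime hcard
  have hudvd : u ∣ Nat.card (Abelianization H) := Nat.minFac_dvd _
  obtain ⟨a, m, hm, hfac⟩ := Nat.exists_eq_pow_mul_and_not_dvd hcard0 u hup.ne_one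
  let h : H →* Abelianization H := (powMonoidHom m).comp Abelianization.of
  have hh : ∀ k, h k = (Abelianization.of k) ^ m := fun k => rfl
  refine ⟨h.ker, u, ?_⟩
  have hP : IsPGroup u h.range := by
    intro z
    refine ⟨a, ?_⟩
    obtain ⟨k, hk⟩ := z.prop
    apply Subtype.ext
    rw [Subgroup.coe_pow, ← hk, hh, ← pow_mul, mul_comm, ← hfac]
    exact pow_card_eq_one'
  have : Fact u.Prime := ⟨hup⟩
  obtain ⟨b, hb⟩ := hP.exists_card_eq
  refine ⟨b, ?_, hup, ?_, ?_⟩
  · rw [Subgroup.characteristic_iff_le_comap]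
    intro φ k hk
    rw [Subgroup.mem_comap, MonoidHom.mem_ker]
    rw [MonoidHom.mem_ker] at hk
    change h (φ k) = 1
    rw [hh, ← abelianizationCongr_of, ← map_pow, ← hh, hk, map_one]
  · -- b ≥ 1
    rcases Nat.eq_zero_or_pos b with hb0 | hb0
    · exfalso
      rw [hb0, pow_zero] at hb
      -- range trivial
      obtain ⟨y, hy⟩ := exists_prime_orderOf_dvd_card' u hudvd
      obtain ⟨k, rfl⟩ : ∃ k, Abelianization.of k = y := QuotientGroup.mk_surjective y
      have : (⟨h k, k, rfl⟩ : h.range) = 1 := by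
        have := (Nat.card_eq_one_iff_unique.mp hb).1
        exact Subsingleton.elim _ _
      have h1 : (Abelianization.of k) ^ m = 1 := by
        have := congrArg Subtype.val this
        simpa [hh] using this
      have := orderOf_dvd_of_pow_eq_one h1
      rw [hy] at this
      exact hm this
    · exact hb0
  · rw [Subgroup.index_ker]
    exact hb

/-- the main induction -/
theorem key {G : Type*} [Group G] [Finite G] :
    ∀ n : ℕ, ∀ K : Subgroup G, K.Normal → Group.IsSolvable K → Nat.card K = n →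
    ∀ r s t : ℕ, r.Prime → s.Prime → t.Prime → r ≠ s → r ≠ t → s ≠ t →
      r ∣ Nat.card K → s ∣ Nat.card K → t ∣ Nat.card G →
      (∃ x : G, orderOf x = r * s) ∨ (∃ x : G, orderOf x = r * t) ∨ (∃ x : G, orderOf x = s * t) := by
  intro n
  induction n using Nat.strong_induction_on with
  | _ n ih =>
  intro K hKn hKs hcard r s t hr hs ht hrs hrt hst hrK hsK htG
  have hK1 : Nat.card K ≠ 1 := by
    intro h1
    rw [h1] at hrK
    exact hr.one_lt.ne' (Nat.dvd_one.mp hrK)
  have : Nontrivial K := by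
    rw [← Finite.one_lt_card_iff_nontrivial]
    have := Nat.card_pos (α := K)
    omega
  obtain ⟨C, u, b, hC, hu, hb, hidx⟩ := exists_characteristic_prime_power_index K
  set K'' : Subgroup G := C.map K.subtype with hK''
  have hK''n : K''.Normal := ConjAct.normal_of_characteristic_of_normal
  have hK''K : K'' ≤ K := by
    rw [hK'']
    exact Subgroup.map_subtype_le C
  have hK''s : Group.IsSolvable K'' :=
    Group.isSolvable_of_isSolvable_injective (f := Subgroup.inclusion hK''K)
      (Subgroup.inclusion_injective hK''K)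
  have hcardC : Nat.card K'' = Nat.card C := Subgroup.card_subtype K C
  have hcardK : Nat.card K = Nat.card K'' * u ^ b := by
    rw [hcardC, ← hidx]
    exact (Subgroup.card_mul_index C).symm
  have hlt : Nat.card K'' < n := by
    rw [← hcard, hcardK]
    have h2 : 2 ≤ u ^ b := by
      calc 2 ≤ u := hu.two_le
        _ = u ^ 1 := (pow_one u).symm
        _ ≤ u ^ b := Nat.pow_le_pow_right hu.pos hb
    have := Nat.card_pos (α := K'')
    nlinarith
  -- a prime v ≠ u dividing |K| divides |K''|
  have hdv : ∀ v : ℕ, v.Prime → v ≠ u → v ∣ Nat.card K → v ∣ Nat.card K'' := by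
    intro v hv hvu hvK
    rw [hcardK] at hvK
    have hcop : v.Coprime (u ^ b) := Nat.Coprime.pow_right _ ((Nat.coprime_primes hv hu).mpr hvu)
    exact hcop.dvd_of_dvd_mul_right hvK
  -- the step when u is one of the two primes dividing |K|
  have step : ∀ r s t : ℕ, r.Prime → s.Prime → t.Prime → r ≠ s → r ≠ t → s ≠ t → u = r →
      r ∣ Nat.card K → s ∣ Nat.card K → t ∣ Nat.card G →
      (∃ x : G, orderOf x = r * s) ∨ (∃ x : G, orderOf x = r * t) ∨
        (∃ x : G, orderOf x = s * t) := by
    intro r s t hr hs ht hrs hrt hst hur hrK hsK htG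
    have hsK'' : s ∣ Nat.card K'' := hdv s hs (by rw [hur]; exact hrs.symm) hsK
    by_cases hrK'' : r ∣ Nat.card K''
    · exact ih _ hlt K'' hK''n hK''s rfl r s t hr hs ht hrs hrt hst hrK'' hsK'' htG
    · by_cases htK'' : t ∣ Nat.card K''
      · have hrG : r ∣ Nat.card G := hrK.trans (Subgroup.card_subgroup_dvd_card K)
        rcases ih _ hlt K'' hK''n hK''s rfl s t r hs ht hr hst hrs.symm hrt.symm hsK'' htK'' hrG
          with ⟨x, hx⟩ | ⟨x, hx⟩ | ⟨x, hx⟩
        · exact Or.inr (Or.inr ⟨x, hx⟩)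
        · exact Or.inl ⟨x, by rw [hx, mul_comm]⟩
        · exact Or.inr (Or.inl ⟨x, by rw [hx, mul_comm]⟩)
      · -- t ∤ |K|
        have htK : ¬ t ∣ Nat.card K := by
          intro h
          exact htK'' (hdv t ht (by rw [hur]; exact hrt.symm) h)
        have hGK : Nat.card G / Nat.card K = K.index := by
          rw [← Subgroup.index_mul_card K]
          exact Nat.mul_div_cancel _ Nat.card_pos
        have htidx : t ∣ Nat.card G / Nat.card K := by
          rw [hGK]
          have h1 : t ∣ K.index * Nat.card K := by rw [Subgroup.index_mul_card]; exact htG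
          exact ((Nat.Prime.dvd_mul ht).mp h1).resolve_right htK
        have hrdiv : r ∣ Nat.card K / Nat.card K'' := by
          rw [hcardK, Nat.mul_div_cancel_left _ Nat.card_pos, ← hur]
          exact dvd_pow_self u (by omega)
        rcases Cfsg.Agent.S3634.result K'' K hK''K s r t hs hr ht hrs.symm hst hrt hsK'' hrdiv htidx
          with ⟨x, hx⟩ | ⟨x, hx⟩ | ⟨x, hx⟩
        · exact Or.inl ⟨x, by rw [hx, mul_comm]⟩
        · exact Or.inr (Or.inr ⟨x, hx⟩)
        · exact Or.inr (Or.inl ⟨x, hx⟩)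
  by_cases hur : u = r
  · exact step r s t hr hs ht hrs hrt hst hur hrK hsK htG
  · by_cases hus : u = s
    · rcases step s r t hs hr ht hrs.symm hst hrt hus hsK hrK htG with ⟨x, hx⟩ | ⟨x, hx⟩ | ⟨x, hx⟩
      · exact Or.inl ⟨x, by rw [hx, mul_comm]⟩
      · exact Or.inr (Or.inr ⟨x, hx⟩)
      · exact Or.inr (Or.inl ⟨x, hx⟩)
    · exact ih _ hlt K'' hK''n hK''s rfl r s t hr hs ht hrs hrt hst
        (hdv r hr (Ne.symm hur) hrK) (hdv s hs (Ne.symm hus) hsK) htG

/-- general form of the first claim -/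
theorem at_most_one {G : Type*} [Group G] [Finite G] (ρ : Finset ℕ) (hρ : 3 ≤ ρ.card)
    (hc : ((∀ r ∈ ρ, r.Prime ∧ r ∣ Nat.card G) ∧
      (∀ r ∈ ρ, ∀ s ∈ ρ, r ≠ s → ¬ ∃ x : G, orderOf x = r * s)))
    (K : Subgroup G) (hKn : K.Normal) (hK : Group.IsSolvable ↥K) :
    ∀ r ∈ ρ, ∀ s ∈ ρ, r ∣ Nat.card ↥K → s ∣ Nat.card ↥K → r = s := by
  intro r hr s hs hrK hsK
  by_contra hrs
  obtain ⟨a, b, c, ha, hb, hc', hab, hac, hbc⟩ := Finset.two_lt_card_iff.mp hρ
  -- a third prime
  obtain ⟨t, ht, htr, hts⟩ : ∃ t ∈ ρ, t ≠ r ∧ t ≠ s := by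
    by_cases h1 : a ≠ r ∧ a ≠ s
    · exact ⟨a, ha, h1⟩
    · by_cases h2 : b ≠ r ∧ b ≠ s
      · exact ⟨b, hb, h2⟩
      · refine ⟨c, hc', ?_, ?_⟩
        · rintro rfl
          rcases not_and_or.mp h1 with h1 | h1 <;> rcases not_and_or.mp h2 with h2 | h2
          · exact hab ((not_not.mp h1).trans (not_not.mp h2).symm)
          · exact hac (not_not.mp h1)
          · exact hbc (not_not.mp h2)
          · exact hab ((not_not.mp h1).trans (not_not.mp h2).symm)
        · rintro rfl
          rcases not_and_or.mp h1 with h1 | h1 <;> rcases not_and_or.mp h2 with h2 | h2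
          · exact hab ((not_not.mp h1).trans (not_not.mp h2).symm)
          · exact hbc (not_not.mp h2)
          · exact hac (not_not.mp h1)
          · exact hab ((not_not.mp h1).trans (not_not.mp h2).symm)
  rcases key _ K hKn hK rfl r s t (hc.1 r hr).1 (hc.1 s hs).1 (hc.1 t ht).1 hrs (Ne.symm htr)
    (Ne.symm hts) hrK hsK (hc.1 t ht).2 with h | h | h
  · exact hc.2 r hr s hs hrs h
  · exact hc.2 r hr t ht (Ne.symm htr) h
  · exact hc.2 s hs t ht (Ne.symm hts) h

/-- Let G be a finite group and ρ a set of at least three prime divisors of the order of G that are pairwise non-adjacent in the prime graph (no element of order rs for distinct r, s ∈ ρ). Then at most one prime of ρ divides the order of any given solvable normal subgroup of G; in particular G is not solvable. -/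
theorem result {G : Type*} [Group G] [Finite G] (ρ : Finset ℕ) (hρ : 3 ≤ ρ.card) (hc : ((∀ r ∈ ρ, r.Prime ∧ r ∣ Nat.card G) ∧ (∀ r ∈ ρ, ∀ s ∈ ρ, r ≠ s → ¬ ∃ x : G, orderOf x = r * s)))
    (K : Subgroup G) [K.Normal] (hK : Group.IsSolvable ↥K) :
    (∀ r ∈ ρ, ∀ s ∈ ρ, r ∣ Nat.card ↥K → s ∣ Nat.card ↥K → r = s) ∧ ¬ Group.IsSolvable G := by
  refine ⟨at_most_one ρ hρ hc K inferInstance hK, ?_⟩
  intro hG
  have htop : Group.IsSolvable (⊤ : Subgroup G) := inferInstance
  obtain ⟨a, b, c, ha, hb, _, hab, _, _⟩ := Finset.two_lt_card_iff.mp hρ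
  apply hab
  apply at_most_one ρ hρ hc ⊤ inferInstance htop a ha b hb
  · rw [Subgroup.card_top]; exact (hc.1 a ha).2
  · rw [Subgroup.card_top]; exact (hc.1 b hb).2

end Cfsg.Agent.S3633
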