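import Cfsg.Statements.S3639
import Mathlib
import Cfsg.Agent.Lib.Helper95.PrimeGraphExt
import Cfsg.Agent.Lib.Helper95.SzFixedVec
import Cfsg.Agent.Lib.Helper95.SzIso
import Cfsg.Agent.Lib.Helper6.SzOrder
set_option autoImplicit false
open Cfsg

namespace Cfsg.Agent.S3639

open Cfsg.Agent.Lib.Helper95 Cfsg.Agent.Lib.Helper95.PrimeGraphExt Cfsg.Agent.Lib.Helper6

/-- Let S be the Suzuki group over the field with q = 2^(2m+1) ≥ 8 elements. Then there are finite groups of arbitrarily large order with the same prime graph as S. -/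
theorem result {F : Type*} [Field F] [Fintype F] {m : ℕ} (hm : 1 ≤ m) (hF : Fintype.card F = 2 ^ (2 * m + 1)) (N : ℕ) :
    ∃ (H : Type) (_ : Group H) (_ : Fintype H), N < Fintype.card H ∧ ((∀ r : ℕ, r.Prime → (r ∣ Nat.card ↥(Cfsg.Lie.Sz F (2 ^ (m + 1))) ↔ r ∣ Nat.card H)) ∧
      (∀ r s : ℕ, r.Prime → s.Prime → r ≠ s → ((∃ x : ↥(Cfsg.Lie.Sz F (2 ^ (m + 1))), orderOf x = r * s) ↔ (∃ y : H, orderOf y = r * s)))) := by
  classical
  have := sz_charP hF
  have h2 : ∀ v : Fin (N + 1) → (Fin 4 → F), v + v = 0 := by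
    intro v
    ext i j
    exact CharTwo.add_self_eq_zero _
  have hfpf : ∀ g : ↥(Cfsg.Sz F m), (orderOf g).Prime → orderOf g ≠ 2 →
      ∀ v : Fin (N + 1) → (Fin 4 → F), g • v = v → v = 0 := by
    intro g hp hp2 v hv
    funext i
    exact fv hm hF g hp hp2 (v i) (congrFun hv i)
  have hcardV : Nat.card (Fin (N + 1) → (Fin 4 → F)) = 2 ^ ((2 * m + 1) * 4 * (N + 1)) := by
    rw [Nat.card_eq_fintype_card, Fintype.card_fun, Fintype.card_fun, Fintype.card_fin,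
      Fintype.card_fin, hF, ← pow_mul, ← pow_mul, mul_assoc]
  have h2G : 2 ∣ Nat.card ↥(Cfsg.Sz F m) := by
    rw [card_Sz hm hF]
    apply Dvd.dvd.mul_right
    apply Dvd.dvd.mul_right
    apply Dvd.dvd.pow _ (by norm_num)
    exact dvd_pow_self 2 (by omega)
  have hN : N < Nat.card (Fin (N + 1) → (Fin 4 → F)) := by
    rw [hcardV]
    calc N < 2 ^ N := Nat.lt_two_pow_self
      _ ≤ 2 ^ ((2 * m + 1) * 4 * (N + 1)) := Nat.pow_le_pow_right (by norm_num) (by nlinarith)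
  obtain ⟨H, iG, iF, h1, h3, h4⟩ :=
    exists_same_prime_graph (G := ↥(Cfsg.Sz F m)) (V := Fin (N + 1) → (Fin 4 → F))
      h2 hfpf ⟨_, hcardV⟩ h2G N hN
  refine ⟨H, iG, iF, h1, ?_, ?_⟩
  · intro r hr
    rw [← h3 r hr, Nat.card_congr (szIso hm hF).toEquiv]
  · intro r s hr hs hrs
    rw [← h4 r s hr hs hrs]
    constructor
    · rintro ⟨x, hx⟩
      exact ⟨(szIso hm hF).symm x, by rw [MulEquiv.orderOf_eq, hx]⟩
    · rintro ⟨x, hx⟩
      exact ⟨(szIso hm hF) x, by rw [MulEquiv.orderOf_eq, hx]⟩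

end Cfsg.Agent.S3639
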