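import Mathlib
import Cfsg.Statements.S3660
-- import your own Cfsg.Agent.* helpers here

set_option autoImplicit false
open Cfsg
open Matrix

namespace Cfsg.Agent.S3660

section SL2
variable {F : Type*} [Field F] [CharP F 2]

theorem two_eq_zero_F : (2 : F) = 0 := CharTwo.two_eq_zero

/-- Cayley–Hamilton for 2×2 matrices of determinant one in characteristic two. -/
theorem sq_eq (A : Matrix (Fin 2) (Fin 2) F) (hA : A.det = 1) :
    A * A = (A 0 0 + A 1 1) • A + 1 := by
  rw [Matrix.det_fin_two] at hA
  have h2 : (2 : F) = 0 := two_eq_zero_F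
  ext i j
  fin_cases i <;> fin_cases j <;>
    simp [Matrix.mul_apply, Fin.sum_univ_two]
  · linear_combination (-1 : F) * hA - h2
  · ring
  · ring
  · linear_combination (-1 : F) * hA - h2

/-- powers of `A` lie in the span of `1` and `A`. -/
theorem pow_eq_lin (A : Matrix (Fin 2) (Fin 2) F) (hA : A.det = 1) (n : ℕ) :
    ∃ a b : F, A ^ n = a • (1 : Matrix (Fin 2) (Fin 2) F) + b • A := by
  induction n with
  | zero => exact ⟨1, 0, by simp⟩
  | succ n ih =>
    obtain ⟨a, b, h⟩ := ih
    refine ⟨b, a + b * (A 0 0 + A 1 1), ?_⟩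
    rw [pow_succ, h, add_mul, smul_mul_assoc, smul_mul_assoc, one_mul, sq_eq A hA]
    module

/-- trace zero implies involution -/
theorem sq_eq_one_of_trace (A : Matrix (Fin 2) (Fin 2) F) (hA : A.det = 1)
    (ht : A 0 0 + A 1 1 = 0) : A * A = 1 := by
  rw [sq_eq A hA, ht, zero_smul, zero_add]

/-- If the trace is nonzero, the cyclic group generated by `A` has no involution. -/
theorem pow_eq_one_of_pow_two_mul (A : Matrix (Fin 2) (Fin 2) F) (hA : A.det = 1)
    (ht : A 0 0 + A 1 1 ≠ 0) (n : ℕ) (h : A ^ (2 * n) = 1) : A ^ n = 1 := by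
  obtain ⟨a, b, hab⟩ := pow_eq_lin A hA n
  have h2 : (2 : F) = 0 := two_eq_zero_F
  set t := A 0 0 + A 1 1 with ht_def
  -- square of B
  have hB : (a • (1 : Matrix (Fin 2) (Fin 2) F) + b • A) * (a • (1 : Matrix (Fin 2) (Fin 2) F) + b • A) = 1 := by
    rw [← hab, ← pow_two, ← pow_mul, mul_comm]; exact h
  have hAA := sq_eq A hA
  -- entries
  have e00 := congrFun (congrFun hB 0) 0
  have e01 := congrFun (congrFun hB 0) 1
  have e10 := congrFun (congrFun hB 1) 0
  have e11 := congrFun (congrFun hB 1) 1
  have a00 := congrFun (congrFun hAA 0) 0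
  have a01 := congrFun (congrFun hAA 0) 1
  have a10 := congrFun (congrFun hAA 1) 0
  have a11 := congrFun (congrFun hAA 1) 1
  simp [Matrix.mul_apply, Fin.sum_univ_two] at e00 e01 e10 e11 a00 a01 a10 a11
  by_cases hb : b = 0
  · subst hb
    simp at e00
    have ha : a = 1 := by
      have : (a - 1) * (a - 1) = 0 := by linear_combination e00 + (1 - a) * h2
      have := mul_self_eq_zero.mp this
      linear_combination this
    rw [hab, ha]; simp
  · exfalso
    -- b ≠ 0: off diagonal entries vanish and diagonal entries agree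
    have hbt : b * b * t ≠ 0 := mul_ne_zero (mul_ne_zero hb hb) ht
    have h01 : b * b * t * A 0 1 = 0 := by
      linear_combination e01 - b * b * a01 - (a * b * A 0 1) * h2
    have h10 : b * b * t * A 1 0 = 0 := by
      linear_combination e10 - b * b * a10 - (a * b * A 1 0) * h2
    have h01' : A 0 1 = 0 := by
      rcases mul_eq_zero.mp h01 with h | h
      · exact absurd h hbt
      · exact h
    have h10' : A 1 0 = 0 := by
      rcases mul_eq_zero.mp h10 with h | h
      · exact absurd h hbt
      · exact h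
    have hdiag : b * b * t * (A 0 0 - A 1 1) = 0 := by
      linear_combination e00 - e11 - b * b * a00 + b * b * a11 - (a * b * A 0 0) * h2 + (a * b * A 1 1) * h2
    have hd : A 0 0 = A 1 1 := by
      rcases mul_eq_zero.mp hdiag with h | h
      · exact absurd h hbt
      · linear_combination h
    apply ht
    rw [ht_def, hd]
    linear_combination (A 1 1) * h2

/-- A matrix of determinant one fixing a nonzero vector has trace zero (char 2). -/
theorem trace_eq_zero_of_fix (A : Matrix (Fin 2) (Fin 2) F) (hA : A.det = 1)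
    (v : Fin 2 → F) (hv : v ≠ 0) (hfix : A.mulVec v = v) : A 0 0 + A 1 1 = 0 := by
  have h2 : (2 : F) = 0 := two_eq_zero_F
  have hdet : (A - 1).det = 0 := by
    rw [← Matrix.exists_mulVec_eq_zero_iff]
    exact ⟨v, hv, by rw [Matrix.sub_mulVec, hfix, Matrix.one_mulVec, sub_self]⟩
  rw [Matrix.det_fin_two] at hdet hA
  simp at hdet
  linear_combination (-1 : F) * hdet + hA + h2

/-- fixing a nonzero 2×k matrix -/
theorem trace_eq_zero_of_fix_mat {k : ℕ} (A : Matrix (Fin 2) (Fin 2) F) (hA : A.det = 1)
    (M : Matrix (Fin 2) (Fin k) F) (hM : M ≠ 0) (hfix : A * M = M) : A 0 0 + A 1 1 = 0 := by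
  obtain ⟨j, hj⟩ : ∃ j, (fun i => M i j) ≠ 0 := by
    by_contra hcon
    push Not at hcon
    apply hM
    ext i j
    exact congrFun (hcon j) i
  apply trace_eq_zero_of_fix A hA _ hj
  ext i
  have := congrFun (congrFun hfix i) j
  simpa [Matrix.mul_apply, Matrix.mulVec, dotProduct] using this

/-- group level statements -/
theorem SL2_sq_or_pow (s : Matrix.SpecialLinearGroup (Fin 2) F) (q : ℕ) (h : s ^ (2 * q) = 1) :
    s ^ 2 = 1 ∨ s ^ q = 1 := by
  by_cases ht : (s : Matrix (Fin 2) (Fin 2) F) 0 0 + (s : Matrix (Fin 2) (Fin 2) F) 1 1 = 0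
  · left
    apply Subtype.ext
    rw [pow_two]
    exact sq_eq_one_of_trace s.1 s.2 ht
  · right
    apply Subtype.ext
    have h' : (s : Matrix (Fin 2) (Fin 2) F) ^ (2 * q) = 1 := by
      have := congrArg Subtype.val h
      simpa using this
    have := pow_eq_one_of_pow_two_mul s.1 s.2 ht q h'
    simpa using this

theorem SL2_sq_of_fix {k : ℕ} (s : Matrix.SpecialLinearGroup (Fin 2) F)
    (M : Matrix (Fin 2) (Fin k) F) (hM : M ≠ 0) (hfix : (s : Matrix (Fin 2) (Fin 2) F) * M = M) :
    s ^ 2 = 1 := by
  apply Subtype.ext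
  rw [pow_two]
  exact sq_eq_one_of_trace s.1 s.2 (trace_eq_zero_of_fix_mat s.1 s.2 M hM hfix)

end SL2

section SD
variable (F : Type*) [Field F] (k : ℕ)

def act : Matrix.SpecialLinearGroup (Fin 2) F →* MulAut (Multiplicative (Matrix (Fin 2) (Fin k) F)) where
  toFun g :=
    { toFun := fun n => Multiplicative.ofAdd ((g : Matrix (Fin 2) (Fin 2) F) * Multiplicative.toAdd n)
      invFun := fun n => Multiplicative.ofAdd (((g⁻¹ : Matrix.SpecialLinearGroup (Fin 2) F) : Matrix (Fin 2) (Fin 2) F) * Multiplicative.toAdd n)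
      left_inv := fun n => by
        apply Multiplicative.toAdd.injective
        simp only [toAdd_ofAdd]
        rw [← Matrix.mul_assoc, ← Matrix.SpecialLinearGroup.coe_mul, inv_mul_cancel]
        simp
      right_inv := fun n => by
        apply Multiplicative.toAdd.injective
        simp only [toAdd_ofAdd]
        rw [← Matrix.mul_assoc, ← Matrix.SpecialLinearGroup.coe_mul, mul_inv_cancel]
        simp
      map_mul' := fun a b => by
        apply Multiplicative.toAdd.injective
        simp [Matrix.mul_add] }
  map_one' := by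
    ext n
    apply Multiplicative.toAdd.injective
    simp
  map_mul' := fun a b => by
    ext n
    apply Multiplicative.toAdd.injective
    simp [Matrix.mul_assoc]

theorem act_apply (g : Matrix.SpecialLinearGroup (Fin 2) F) (n : Multiplicative (Matrix (Fin 2) (Fin k) F)) :
    Multiplicative.toAdd (act F k g n) = (g : Matrix (Fin 2) (Fin 2) F) * Multiplicative.toAdd n := rfl

abbrev HH := Multiplicative (Matrix (Fin 2) (Fin k) F) ⋊[act F k] Matrix.SpecialLinearGroup (Fin 2) F

variable {F k}

/-- elements of the kernel square to one in characteristic two -/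
theorem sq_eq_one_of_right_eq_one [CharP F 2] (h : HH F k) (hr : h.right = 1) : h ^ 2 = 1 := by
  rw [pow_two]
  ext : 1
  · rw [SemidirectProduct.mul_left, hr, map_one, MulAut.one_apply, SemidirectProduct.one_left]
    apply Multiplicative.toAdd.injective
    rw [toAdd_mul, toAdd_one]
    ext i j
    exact CharTwo.add_self_eq_zero (R := F) _
  · rw [SemidirectProduct.mul_right, hr, mul_one, SemidirectProduct.one_right]

theorem pow_four_eq_one [CharP F 2] (h : HH F k) (hr : h.right ^ 2 = 1) : h ^ 4 = 1 := by
  have : (h ^ 2).right = 1 := by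
    have := map_pow (SemidirectProduct.rightHom : HH F k →* _) h 2
    simpa [SemidirectProduct.rightHom_eq_right, hr] using this
  have := sq_eq_one_of_right_eq_one (h ^ 2) this
  rw [← pow_mul] at this
  exact this

/-- if `h ^ n` is a nontrivial element of the kernel then `h.right` fixes a nonzero matrix -/
theorem exists_fixed (h : HH F k) (n : ℕ) (hr : h.right ^ n = 1) (hne : h ^ n ≠ 1) :
    ∃ M : Matrix (Fin 2) (Fin k) F, M ≠ 0 ∧ (h.right : Matrix (Fin 2) (Fin 2) F) * M = M := by
  have hvr : (h ^ n).right = 1 := by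
    have := map_pow (SemidirectProduct.rightHom : HH F k →* _) h n
    simpa [SemidirectProduct.rightHom_eq_right, hr] using this
  refine ⟨Multiplicative.toAdd (h ^ n).left, ?_, ?_⟩
  · intro h0
    apply hne
    ext : 1
    · rw [SemidirectProduct.one_left]
      apply Multiplicative.toAdd.injective
      rw [h0, toAdd_one]
    · rw [hvr, SemidirectProduct.one_right]
  · have hcomm : h * h ^ n = h ^ n * h := (pow_mul_comm' h n).symm
    have hl := congrArg SemidirectProduct.left hcomm
    rw [SemidirectProduct.mul_left, SemidirectProduct.mul_left, hvr, map_one, MulAut.one_apply,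
      mul_comm (h ^ n).left] at hl
    have := mul_left_cancel hl
    rw [← act_apply, this]

theorem right_pow (h : HH F k) (n : ℕ) : (h ^ n).right = h.right ^ n := by
  have := map_pow (SemidirectProduct.rightHom : HH F k →* _) h n
  simpa [SemidirectProduct.rightHom_eq_right] using this

/-- no element of order `2q`, `q` an odd prime, in the semidirect product -/
theorem no_two_q [CharP F 2] (h : HH F k) (q : ℕ) (hq : q.Prime) (hq2 : q ≠ 2)
    (ho : orderOf h = 2 * q) : False := by
  have hs : h.right ^ (2 * q) = 1 := by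
    rw [← right_pow, ← ho, pow_orderOf_eq_one]; rfl
  have hsq : h.right ^ 2 = 1 := by
    rcases SL2_sq_or_pow h.right q hs with h1 | h1
    · exact h1
    · have hne : h ^ q ≠ 1 := by
        intro h2
        have := orderOf_dvd_of_pow_eq_one h2
        rw [ho] at this
        have := Nat.le_of_dvd hq.pos this
        have := hq.pos
        omega
      obtain ⟨M, hM, hfix⟩ := exists_fixed h q h1 hne
      exact SL2_sq_of_fix h.right M hM hfix
  have h4 := pow_four_eq_one h hsq
  have := orderOf_dvd_of_pow_eq_one h4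
  rw [ho] at this
  -- 2 * q ∣ 4 → q ∣ 2
  have hq2' : q ∣ 2 := by
    have : 2 * q ∣ 2 * 2 := this
    exact (Nat.mul_dvd_mul_iff_left (by norm_num)).mp this
  exact hq2 ((Nat.prime_dvd_prime_iff_eq hq Nat.prime_two).mp hq2')

/-- elements of odd order `p * q` project to elements of the same order -/
theorem order_right_of_odd [CharP F 2] (h : HH F k) (m : ℕ) (hm : Odd m) (ho : orderOf h = m) :
    orderOf h.right = m := by
  have hs : h.right ^ m = 1 := by
    rw [← right_pow, ← ho, pow_orderOf_eq_one]; rfl
  have hd : orderOf h.right ∣ m := orderOf_dvd_of_pow_eq_one hs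
  apply Nat.dvd_antisymm hd
  have h1 : (h ^ orderOf h.right).right = 1 := by
    rw [right_pow, pow_orderOf_eq_one]
  have h2 := sq_eq_one_of_right_eq_one _ h1
  rw [← pow_mul] at h2
  have h3 := orderOf_dvd_of_pow_eq_one h2
  rw [ho] at h3
  exact (Nat.Coprime.dvd_mul_right (Nat.Coprime.symm (Nat.coprime_two_left.mpr hm))).mp h3

theorem center_eq_bot [CharP F 2] : Subgroup.center (Matrix.SpecialLinearGroup (Fin 2) F) = ⊥ := by
  rw [Subgroup.eq_bot_iff_forall]
  intro A hA
  rw [Matrix.SpecialLinearGroup.mem_center_iff] at hA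
  obtain ⟨r, hr, hA⟩ := hA
  have h2 : (2 : F) = 0 := CharTwo.two_eq_zero
  have hr1 : r = 1 := by
    simp only [Fintype.card_fin] at hr
    have : (r - 1) * (r - 1) = 0 := by linear_combination hr + (1 - r) * h2
    have := mul_self_eq_zero.mp this
    linear_combination this
  subst hr1
  apply Subtype.ext
  rw [← hA]
  simp

/-- `SL(2,F) ≃* PSL(2,F)` in characteristic two. -/
noncomputable def slEquivPsl [CharP F 2] :
    Matrix.SpecialLinearGroup (Fin 2) F ≃* Matrix.ProjectiveSpecialLinearGroup (Fin 2) F :=
  MulEquiv.ofBijective (QuotientGroup.mk' (Subgroup.center (Matrix.SpecialLinearGroup (Fin 2) F)))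
    ⟨by
      rw [← MonoidHom.ker_eq_bot_iff, QuotientGroup.ker_mk', center_eq_bot],
     QuotientGroup.mk'_surjective _⟩

/-- the standard unipotent involution -/
def unip : Matrix.SpecialLinearGroup (Fin 2) F :=
  ⟨!![1, 1; 0, 1], by simp [Matrix.det_fin_two]⟩

theorem two_dvd_card_SL [Fintype F] [CharP F 2] : 2 ∣ Nat.card (Matrix.SpecialLinearGroup (Fin 2) F) := by
  have h2 : (2 : F) = 0 := CharTwo.two_eq_zero
  have hm : (!![1, 1; 0, 1] : Matrix (Fin 2) (Fin 2) F) * !![1, 1; 0, 1] = 1 := by
    ext i j
    fin_cases i <;> fin_cases j <;> simp [Matrix.mul_apply, Fin.sum_univ_two]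
    linear_combination h2
  have h1 : (unip : Matrix.SpecialLinearGroup (Fin 2) F) ^ 2 = 1 := by
    apply Subtype.ext
    rw [pow_two]
    exact hm
  have h3 : (unip : Matrix.SpecialLinearGroup (Fin 2) F) ≠ 1 := by
    intro h
    have := congrArg (fun A : Matrix.SpecialLinearGroup (Fin 2) F => (A : Matrix (Fin 2) (Fin 2) F) 0 1) h
    simp [unip] at this
  have h4 : orderOf (unip : Matrix.SpecialLinearGroup (Fin 2) F) = 2 :=
    orderOf_eq_prime h1 h3
  have h5 := orderOf_dvd_natCard (unip : Matrix.SpecialLinearGroup (Fin 2) F)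
  rwa [h4] at h5

omit [Field F] in
theorem card_V [Fintype F] : Nat.card (Multiplicative (Matrix (Fin 2) (Fin k) F)) = Fintype.card F ^ (2 * k) := by
  rw [Nat.card_congr (Multiplicative.toAdd.trans (Matrix.of.symm)), Nat.card_fun, Nat.card_fun]
  simp only [Nat.card_eq_fintype_card, Fintype.card_fin]
  rw [← pow_mul, mul_comm]

theorem exists_type0_model (H' : Type*) [Group H'] [Finite H'] :
    ∃ (H : Type) (_ : Group H) (_ : Finite H), Nonempty (H ≃* H') := by
  let e : Fin (Nat.card H') ≃ H' := (Finite.equivFin H').symm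
  let _ : Group (Fin (Nat.card H')) := e.group
  exact ⟨Fin (Nat.card H'), e.group, inferInstance, ⟨e.mulEquiv⟩⟩

theorem exists_orderOf_congr {A B : Type*} [Group A] [Group B] (e : A ≃* B) (n : ℕ) :
    (∃ x : A, orderOf x = n) ↔ (∃ y : B, orderOf y = n) := by
  constructor
  · rintro ⟨x, hx⟩; exact ⟨e x, by rw [MulEquiv.orderOf_eq]; exact hx⟩
  · rintro ⟨y, hy⟩; exact ⟨e.symm y, by rw [MulEquiv.orderOf_eq]; exact hy⟩

/-- prime graph comparison between `SL(2,F)` and the semidirect product -/
theorem graph_SL_HH [Fintype F] [CharP F 2] (k : ℕ) :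
    (∀ p : ℕ, p.Prime → (p ∣ Nat.card (Matrix.SpecialLinearGroup (Fin 2) F) ↔ p ∣ Nat.card (HH F k))) ∧
    (∀ p q : ℕ, p.Prime → q.Prime → p ≠ q →
      ((∃ g : Matrix.SpecialLinearGroup (Fin 2) F, orderOf g = p * q) ↔ (∃ g : HH F k, orderOf g = p * q))) := by
  have hcard : Nat.card (HH F k) = Fintype.card F ^ (2 * k) * Nat.card (Matrix.SpecialLinearGroup (Fin 2) F) := by
    rw [SemidirectProduct.card, card_V]
  obtain ⟨n, -, hn⟩ := FiniteField.card F 2
  constructor
  · intro p hp
    rw [hcard]
    constructor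
    · intro h; exact Dvd.dvd.mul_left h _
    · intro h
      rcases (Nat.Prime.dvd_mul hp).mp h with h1 | h1
      · rw [hn] at h1
        have h2 := hp.dvd_of_dvd_pow (hp.dvd_of_dvd_pow h1)
        have : p = 2 := (Nat.prime_dvd_prime_iff_eq hp Nat.prime_two).mp h2
        rw [this]; exact two_dvd_card_SL
      · exact h1
  · intro p q hp hq hpq
    constructor
    · rintro ⟨g, hg⟩
      refine ⟨SemidirectProduct.inr g, ?_⟩
      rw [orderOf_injective _ SemidirectProduct.inr_injective]
      exact hg
    · rintro ⟨h, hh⟩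
      by_cases hp2 : p = 2
      · exfalso
        subst hp2
        exact no_two_q h q hq (Ne.symm hpq) hh
      by_cases hq2 : q = 2
      · exfalso
        subst hq2
        rw [mul_comm] at hh
        exact no_two_q h p hp hpq hh
      · refine ⟨h.right, order_right_of_odd h _ ?_ hh⟩
        exact Odd.mul (hp.odd_of_ne_two hp2) (hq.odd_of_ne_two hq2)

end SD


/-- The prime graph of a finite group has the prime divisors of its order as vertices, two distinct primes p, q being joined when the group has an element of order pq; two groups have the same prime graph when they have the same prime divisors and the same joined pairs. Let F be a finite field of characteristic 2 with at least 4 elements. Then there are finite groups of arbitrarily large order with the same prime graph as PSL(2,F); in particular PSL(2,F) is not determined by its prime graph. -/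
theorem result {F : Type*} [Field F] [Fintype F] [CharP F 2] (hF : 4 ≤ Fintype.card F) (N : ℕ) :
    ∃ (H : Type) (_ : Group H) (_ : Finite H), N < Nat.card H ∧
      ((∀ p : ℕ, p.Prime → (p ∣ Nat.card (Matrix.ProjectiveSpecialLinearGroup (Fin 2) F) ↔ p ∣ Nat.card H)) ∧
      (∀ p q : ℕ, p.Prime → q.Prime → p ≠ q → ((∃ g : (Matrix.ProjectiveSpecialLinearGroup (Fin 2) F), orderOf g = p * q) ↔ (∃ g : H, orderOf g = p * q)))) := by
  have hfin : Finite (HH F N) := Finite.of_equiv _ (SemidirectProduct.equivProd).symm
  obtain ⟨H, instG, instF, ⟨e⟩⟩ := exists_type0_model (HH F N)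
  refine ⟨H, instG, instF, ?_, ?_, ?_⟩
  · rw [Nat.card_congr e.toEquiv, SemidirectProduct.card, card_V]
    have h1 : N < Fintype.card F ^ (2 * N) := by
      calc N < 2 ^ N := Nat.lt_two_pow_self
        _ ≤ Fintype.card F ^ N := Nat.pow_le_pow_left (by omega) N
        _ ≤ Fintype.card F ^ (2 * N) := Nat.pow_le_pow_right (by omega) (by omega)
    have h2 : 0 < Nat.card (Matrix.SpecialLinearGroup (Fin 2) F) := Nat.card_pos
    calc N < Fintype.card F ^ (2 * N) := h1
      _ ≤ _ := Nat.le_mul_of_pos_right _ h2
  · intro p hp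
    rw [Nat.card_congr e.toEquiv, ← Nat.card_congr (slEquivPsl (F := F)).toEquiv]
    exact (graph_SL_HH N).1 p hp
  · intro p q hp hq hpq
    rw [← exists_orderOf_congr (slEquivPsl (F := F)), exists_orderOf_congr e]
    exact (graph_SL_HH N).2 p q hp hq hpq

end Cfsg.Agent.S3660
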