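import Cfsg.Statements.S3663
import Cfsg.Agent.Lib.Helper57.U34Ext

set_option autoImplicit false
open Cfsg

namespace Cfsg.Agent.S3663

open Cfsg.Agent.Lib.Helper57 Cfsg.Agent.Lib.Helper57.U34

/-- The primes dividing `62400`. -/
lemma prime_dvd_62400 (p : ℕ) (hp : p.Prime) (h : p ∣ 62400) : p = 2 ∨ p = 3 ∨ p = 5 ∨ p = 13 := by
  have h1 : (62400 : ℕ) = 2 ^ 6 * 3 * 5 ^ 2 * 13 := by norm_num
  rw [h1] at h
  rcases (Nat.Prime.dvd_mul hp).mp h with h | h
  · rcases (Nat.Prime.dvd_mul hp).mp h with h | h
    · rcases (Nat.Prime.dvd_mul hp).mp h with h | h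
      · left
        exact (Nat.prime_dvd_prime_iff_eq hp (by norm_num)).mp (hp.dvd_of_dvd_pow h)
      · right; left
        exact (Nat.prime_dvd_prime_iff_eq hp (by norm_num)).mp h
    · right; right; left
      exact (Nat.prime_dvd_prime_iff_eq hp (by norm_num)).mp (hp.dvd_of_dvd_pow h)
  · right; right; right
    exact (Nat.prime_dvd_prime_iff_eq hp (by norm_num)).mp h

/-- The prime graph of a finite group has the prime divisors of its order as vertices, two distinct primes p, q being joined when the group has an element of order pq; two groups have the same prime graph when they have the same prime divisors and the same joined pairs. Let F be the field with 16 elements and L = PSU(3,4) realised over F. There are finite groups of arbitrarily large order with the same prime graph as L. -/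
theorem result {F : Type*} [Field F] [Fintype F] (hF : Fintype.card F = 16) (N : ℕ) :
    ∃ (H : Type) (_ : Group H) (_ : Finite H), N < Nat.card H ∧
      ((∀ p : ℕ, p.Prime → (p ∣ Nat.card (Cfsg.PSU 3 F 4) ↔ p ∣ Nat.card H)) ∧
      (∀ p q : ℕ, p.Prime → q.Prime → p ≠ q → ((∃ g : (Cfsg.PSU 3 F 4), orderOf g = p * q) ↔ (∃ g : H, orderOf g = p * q)))) := by
  have hcardH : Nat.card (SdpGraph.sub (act N) (Wk N) (Wk_invariant N)) =
      Nat.card (Wk N) * 62400 := by
    rw [SdpGraph.card_sub, card_G0]
  obtain ⟨n, hn⟩ := card_Wk N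
  have hle := le_card_Wk N
  refine ⟨SdpGraph.sub (act N) (Wk N) (Wk_invariant N), inferInstance, inferInstance, ?_, ?_, ?_⟩
  · rw [hcardH]
    calc N < 5 ^ N := Nat.lt_pow_self (by norm_num)
      _ ≤ Nat.card (Wk N) := hle
      _ ≤ Nat.card (Wk N) * 62400 := Nat.le_mul_of_pos_right _ (by norm_num)
  · intro p hp
    rw [Cfsg.Agent.Lib.Helper98.U34.card_PSU hF, hcardH, hn]
    constructor
    · intro h
      exact Dvd.dvd.mul_left h _
    · intro h
      rcases (Nat.Prime.dvd_mul hp).mp h with h | h
      · have h5 : p = 5 := (Nat.prime_dvd_prime_iff_eq hp (by norm_num)).mp (hp.dvd_of_dvd_pow h)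
        rw [h5]
        norm_num
      · exact h
  · intro p q hp hq hpq
    have hiff := SdpGraph.exists_order_iff (act N) (Wk N) (Wk_invariant N) (Wk_pow_five N)
      (fun r hr hdvd => prime_dvd_62400 r hr (card_G0 ▸ hdvd))
      ⟨x10, orderOf_x10⟩ ⟨x15, orderOf_x15⟩ (Wk_fpf N) p q hp hq hpq
    rw [← hiff]
    constructor
    · rintro ⟨g, hg⟩
      exact ⟨(equivPSU hF).symm g, by rw [MulEquiv.orderOf_eq, hg]⟩
    · rintro ⟨g, hg⟩
      exact ⟨equivPSU hF g, by rw [MulEquiv.orderOf_eq, hg]⟩

end Cfsg.Agent.S3663
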