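-- Statement S3669 (row 3669).
import Cfsg.Statements.S3669
import Cfsg.Agent.Lib.Helper75.Ito
import Cfsg.Agent.Lib.Helper1.Hall
import Cfsg.Agent.S0157
import Cfsg.Agent.S0494
import Cfsg.Agent.S3378

set_option autoImplicit false
open Cfsg

namespace Cfsg.Agent.S3669

/-- A Sylow `p`-subgroup `P` acts transitively on the other Sylow subgroups when `n_p = p + 1`. -/
theorem exists_mem_smul_eq {G : Type*} [Group G] [Finite G] (p : ℕ) [hp : Fact p.Prime]
    (h : Nat.card (Sylow p G) = p + 1) (P Q R : Sylow p G) (hQ : Q ≠ P) (hR : R ≠ P) :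
    ∃ x : G, x ∈ P ∧ x • Q = R := by
  classical
  have hfin : Finite (Sylow p G) := Nat.finite_of_card_ne_zero (by omega)
  -- orbit of Q under ↥P
  set O : Set (Sylow p G) := MulAction.orbit (↥(P : Subgroup G)) Q with hO
  set X : Set (Sylow p G) := {P}ᶜ with hX
  have hOX : O ⊆ X := by
    rintro S ⟨x, rfl⟩
    simp only [hX, Set.mem_compl_iff, Set.mem_singleton_iff]
    intro hcon
    apply hQ
    have hx : (x : G) • P = P := Sylow.smul_eq_iff_mem_normalizer.2 (Subgroup.le_normalizer x.2)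
    have : (x : G) • Q = (x : G) • P := by
      rw [hx]; exact hcon
    exact smul_left_cancel _ this
  have hXcard : X.ncard = p := by
    rw [hX, Set.ncard_compl, Set.ncard_singleton, h]; omega
  -- stabilizer is proper
  have hstab : MulAction.stabilizer (↥(P : Subgroup G)) Q ≠ ⊤ := by
    intro hcon
    have hfix : Q ∈ MulAction.fixedPoints (↥(P : Subgroup G)) (Sylow p G) := by
      intro x
      have : x ∈ MulAction.stabilizer (↥(P : Subgroup G)) Q := by rw [hcon]; trivial
      exact this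
    have hle : (P : Subgroup G) ≤ Q := (P.2.sylow_mem_fixedPoints_iff).1 hfix
    exact hQ (Sylow.ext (P.3 Q.2 hle))
  have hidx : (MulAction.stabilizer (↥(P : Subgroup G)) Q).index = O.ncard :=
    MulAction.index_stabilizer _ _
  have hdvd : (MulAction.stabilizer (↥(P : Subgroup G)) Q).index ∣ Nat.card (↥(P : Subgroup G)) :=
    Subgroup.index_dvd_card _
  obtain ⟨k, hk⟩ := P.2.exists_card_eq
  rw [hk] at hdvd
  have hne1 : (MulAction.stabilizer (↥(P : Subgroup G)) Q).index ≠ 1 := by
    intro h1; exact hstab (Subgroup.index_eq_one.1 h1)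
  have hpd : p ∣ (MulAction.stabilizer (↥(P : Subgroup G)) Q).index := by
    obtain ⟨j, _, hj⟩ := (Nat.dvd_prime_pow hp.out).1 hdvd
    rw [hj] at hne1 ⊢
    cases j with
    | zero => simp at hne1
    | succ j => exact dvd_pow_self p (Nat.succ_ne_zero j)
  have hpos : 0 < (MulAction.stabilizer (↥(P : Subgroup G)) Q).index :=
    Nat.pos_of_ne_zero (Subgroup.index_ne_zero_of_finite)
  have hle : X.ncard ≤ O.ncard := by
    rw [hXcard, ← hidx]; exact Nat.le_of_dvd hpos hpd
  have hEq : O = X := Set.eq_of_subset_of_ncard_le hOX hle (Set.toFinite X)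
  have hRX : R ∈ X := by simpa [hX] using hR
  rw [← hEq] at hRX
  obtain ⟨x, hx⟩ := hRX
  exact ⟨x, x.2, hx⟩

theorem two_trans_sylow {G : Type*} [Group G] [Finite G] (p : ℕ) [hp : Fact p.Prime]
    (h : Nat.card (Sylow p G) = p + 1) : MulAction.IsMultiplyPretransitive G (Sylow p G) 2 := by
  have hfin : Finite (Sylow p G) := Nat.finite_of_card_ne_zero (by omega)
  rw [MulAction.is_two_pretransitive_iff]
  intro a b c d hab hcd
  obtain ⟨g, hg⟩ := MulAction.exists_smul_eq G a c
  have hb' : g • b ≠ c := by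
    intro hcon
    apply hab
    rw [← hg] at hcon
    exact (smul_left_cancel _ hcon).symm
  obtain ⟨x, hxc, hx⟩ := exists_mem_smul_eq p h c (g • b) d hb' hcd.symm
  refine ⟨x * g, ?_, ?_⟩
  · rw [mul_smul, hg]
    exact Sylow.smul_eq_iff_mem_normalizer.2 (Subgroup.le_normalizer hxc)
  · rw [mul_smul, hx]

instance fact5 : Fact (Nat.Prime 5) := ⟨by norm_num⟩

/-- A Sylow 5-subgroup of a group of order 60 has order 5. -/
theorem card_sylow5 {G : Type*} [Group G] [Finite G] (h60 : Nat.card G = 60) (P : Sylow 5 G) :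
    Nat.card (P : Subgroup G) = 5 := by
  obtain ⟨k, hk⟩ := P.2.exists_card_eq
  have hmul := Subgroup.card_mul_index (P : Subgroup G)
  have hnd : ¬ 5 ∣ (P : Subgroup G).index := P.not_dvd_index
  rw [h60, hk] at hmul
  rw [hk]
  rcases k with _ | _ | k
  · exfalso; apply hnd; rw [pow_zero, one_mul] at hmul; rw [hmul]; norm_num
  · simp
  · exfalso
    have : 25 ∣ 60 := by
      rw [← hmul]
      exact ⟨5 ^ k * (P : Subgroup G).index, by ring⟩
    omega

theorem index_sylow5 {G : Type*} [Group G] [Finite G] (h60 : Nat.card G = 60) (P : Sylow 5 G) :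
    (P : Subgroup G).index = 12 := by
  have hmul := Subgroup.card_mul_index (P : Subgroup G)
  rw [h60, card_sylow5 h60 P] at hmul
  omega

/-- `n_5 ∈ {1, 6}` for a group of order 60. -/
theorem n5 {G : Type*} [Group G] [Finite G] (h60 : Nat.card G = 60) :
    Nat.card (Sylow 5 G) = 1 ∨ Nat.card (Sylow 5 G) = 6 := by
  obtain ⟨P⟩ : Nonempty (Sylow 5 G) := inferInstance
  have h1 : Nat.card (Sylow 5 G) ≡ 1 [MOD 5] := card_sylow_modEq_one 5 G
  have h2 : Nat.card (Sylow 5 G) ∣ 12 := by
    rw [← index_sylow5 h60 P]; exact P.card_dvd_index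
  have h3 : Nat.card (Sylow 5 G) ≤ 12 := Nat.le_of_dvd (by norm_num) h2
  have h4 : Nat.card (Sylow 5 G) % 5 = 1 := h1
  interval_cases hn : Nat.card (Sylow 5 G) <;> simp_all

/-- If `n_5 = 6` then `5` is a character degree prime. -/
theorem five_mem_degreePrimes {G : Type*} [Group G] [Finite G]
    (h6 : Nat.card (Sylow 5 G) = 6) : 5 ∈ Cfsg.degreePrimes G := by
  have hfin : Finite (Sylow 5 G) := Nat.finite_of_card_ne_zero (by omega)
  have h2t : MulAction.IsMultiplyPretransitive G (Sylow 5 G) 2 := two_trans_sylow 5 h6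
  have hirr := (Cfsg.Agent.S0157.result (G := G) (Sylow 5 G) (by omega)).2 h2t
  refine ⟨by norm_num, 5, ⟨⟨_, hirr⟩, ?_⟩, dvd_rfl⟩
  show Cfsg.charDegree (fun g : G => (Nat.card (MulAction.fixedBy (Sylow 5 G) g) : ℂ) - 1) = 5
  unfold Cfsg.charDegree
  have : Nat.card (MulAction.fixedBy (Sylow 5 G) (1 : G)) = 6 := by
    rw [MulAction.fixedBy_one_eq_univ, Nat.card_congr (Equiv.Set.univ _), h6]
  simp only [this]
  norm_num

/-- The alternating group of degree 5 has six Sylow 5-subgroups. -/
theorem n5_alt : Nat.card (Sylow 5 (alternatingGroup (Fin 5))) = 6 := by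
  have h60 : Nat.card (alternatingGroup (Fin 5)) = 60 := by
    rw [nat_card_alternatingGroup]; simp [Nat.factorial]
  rcases n5 h60 with h1 | h6
  · exfalso
    obtain ⟨P⟩ : Nonempty (Sylow 5 (alternatingGroup (Fin 5))) := inferInstance
    have hfin : Finite (Sylow 5 (alternatingGroup (Fin 5))) := Nat.finite_of_card_ne_zero (by omega)
    have hsub : Subsingleton (Sylow 5 (alternatingGroup (Fin 5))) :=
      (Nat.card_eq_one_iff_unique.1 h1).1
    have hn : (P : Subgroup (alternatingGroup (Fin 5))).Normal := Sylow.normal_of_subsingleton P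
    have hsimple : IsSimpleGroup (alternatingGroup (Fin 5)) := alternatingGroup.isSimpleGroup (by simp)
    have hc := card_sylow5 h60 P
    rcases hn.eq_bot_or_eq_top with hb | ht
    · rw [hb, Subgroup.card_bot] at hc; omega
    · rw [ht, Subgroup.card_top, h60] at hc; omega
  · exact h6

/-- In a group of order 60 with normal Sylow 5-subgroup, `5` is not a degree prime. -/
theorem not_five_of_normal {G : Type*} [Group G] [Finite G] (h60 : Nat.card G = 60)
    (P : Sylow 5 G) (hn : (P : Subgroup G).Normal) : 5 ∉ Cfsg.degreePrimes G := by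
  classical
  rintro ⟨_, d, ⟨χ, rfl⟩, h5⟩
  have : Fintype G := Fintype.ofFinite G
  have hcyc : IsCyclic (P : Subgroup G) := isCyclic_of_prime_card (p := 5) (card_sylow5 h60 P)
  have hcomm : ∀ a ∈ (P : Subgroup G), ∀ b ∈ (P : Subgroup G), a * b = b * a := by
    intro a ha b hb
    have hc : IsMulCommutative (P : Subgroup G) := IsCyclic.isMulCommutative
    have := mul_comm' (⟨a, ha⟩ : (P : Subgroup G)) ⟨b, hb⟩
    exact congrArg Subtype.val this
  have hdvd := Cfsg.Agent.Lib.Helper75.ito (P : Subgroup G) hcomm χ.1 χ.2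
  rw [index_sylow5 h60 P] at hdvd
  have : 5 ∣ 12 := h5.trans hdvd
  omega

/-- A solvable group of order 60 has a unique Sylow 5-subgroup. -/
theorem n5_of_solvable {G : Type*} [Group G] [Finite G] (h60 : Nat.card G = 60)
    [Group.IsSolvable G] : Nat.card (Sylow 5 G) = 1 := by
  classical
  obtain ⟨H, hH⟩ := Cfsg.Agent.Lib.Helper1.hall_exists (G := G) 15 4 (by rw [h60]) (by norm_num)
  -- Sylow 5 of H
  obtain ⟨P₀⟩ : Nonempty (Sylow 5 H) := inferInstance
  obtain ⟨k, hk⟩ := P₀.2.exists_card_eq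
  have hmul := Subgroup.card_mul_index (P₀ : Subgroup H)
  have hnd : ¬ 5 ∣ (P₀ : Subgroup H).index := P₀.not_dvd_index
  rw [hH, hk] at hmul
  have hk1 : k = 1 := by
    rcases k with _ | _ | k
    · exfalso; apply hnd; rw [pow_zero, one_mul] at hmul; rw [hmul]; norm_num
    · rfl
    · exfalso
      have : 25 ∣ 15 := by
        rw [← hmul]
        exact ⟨5 ^ k * (P₀ : Subgroup H).index, by ring⟩
      omega
  subst hk1
  have hidx : (P₀ : Subgroup H).index = 3 := by omega
  have hn1 : Nat.card (Sylow 5 H) = 1 := by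
    have h1 : Nat.card (Sylow 5 H) ≡ 1 [MOD 5] := card_sylow_modEq_one 5 H
    have h2 : Nat.card (Sylow 5 H) ∣ 3 := by
      rw [← hidx]; exact P₀.card_dvd_index
    have h3 : Nat.card (Sylow 5 H) ≤ 3 := Nat.le_of_dvd (by norm_num) h2
    have h4 : Nat.card (Sylow 5 H) % 5 = 1 := h1
    interval_cases hn : Nat.card (Sylow 5 H) <;> simp_all
  have hsub : Subsingleton (Sylow 5 H) := (Nat.card_eq_one_iff_unique.1 hn1).1
  have hnorm : (P₀ : Subgroup H).Normal := Sylow.normal_of_subsingleton P₀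
  -- push to G
  set P' : Subgroup G := (P₀ : Subgroup H).map H.subtype with hP'
  have hP'card : Nat.card P' = 5 := by
    rw [hP', Subgroup.card_map_of_injective H.subtype_injective, hk, pow_one]
  have hP'p : IsPGroup 5 P' := IsPGroup.of_card (n := 1) (by rw [hP'card, pow_one])
  obtain ⟨Q, hQ⟩ := hP'p.exists_le_sylow
  have hQeq : (Q : Subgroup G) = P' := by
    symm
    apply Subgroup.eq_of_le_of_card_ge hQ
    rw [card_sylow5 h60 Q, hP'card]
  have hHN : H ≤ Subgroup.normalizer ((Q : Subgroup G) : Set G) := by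
    intro h hh
    rw [hQeq, Subgroup.mem_normalizer_iff]
    intro x
    constructor
    · rintro ⟨y, hy, rfl⟩
      refine ⟨⟨h, hh⟩ * y * ⟨h, hh⟩⁻¹, hnorm.conj_mem y hy ⟨h, hh⟩, ?_⟩
      simp
    · rintro ⟨y, hy, hyx⟩
      have hx : x = ((⟨h, hh⟩ : H)⁻¹ * y * ⟨h, hh⟩ : H) := by
        simp only [Subgroup.subtype_apply] at hyx
        simp [hyx, mul_assoc]
      rw [hx]
      refine ⟨(⟨h, hh⟩ : H)⁻¹ * y * ⟨h, hh⟩, ?_, rfl⟩
      have := hnorm.conj_mem y hy (⟨h, hh⟩ : H)⁻¹
      rw [inv_inv] at this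
      exact this
  have h15 : 15 ∣ Nat.card (Subgroup.normalizer ((Q : Subgroup G) : Set G)) := by
    rw [← hH]; exact Subgroup.card_dvd_of_le hHN
  have hfinS : Finite (Sylow 5 G) := inferInstance
  have hcard : Nat.card (Sylow 5 G) = (Subgroup.normalizer ((Q : Subgroup G) : Set G)).index :=
    Sylow.card_eq_index_normalizer Q
  have hmul2 := Subgroup.card_mul_index (Subgroup.normalizer ((Q : Subgroup G) : Set G))
  rw [h60, ← hcard] at hmul2
  obtain ⟨c, hc⟩ := h15
  rw [hc] at hmul2
  rcases n5 h60 with h1 | h6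
  · exact h1
  · rw [h6] at hmul2; omega

theorem result {G : Type*} [Group G] [Finite G] (hcard : Nat.card G = 60)
    (hΓ : Cfsg.degreePrimes G = Cfsg.degreePrimes (alternatingGroup (Fin 5)) ∧ Cfsg.degreeGraph G = Cfsg.degreeGraph (alternatingGroup (Fin 5))) : Nonempty (G ≃* alternatingGroup (Fin 5)) := by
  have h5 : 5 ∈ Cfsg.degreePrimes G := by
    rw [hΓ.1]; exact five_mem_degreePrimes n5_alt
  have hns : ¬ Group.IsSolvable G := by
    intro hs
    have h1 := n5_of_solvable hcard
    obtain ⟨P⟩ : Nonempty (Sylow 5 G) := inferInstance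
    have hsub : Subsingleton (Sylow 5 G) := (Nat.card_eq_one_iff_unique.1 h1).1
    exact not_five_of_normal hcard P (Sylow.normal_of_subsingleton P) h5
  have hsimple : IsSimpleGroup G := Cfsg.Agent.S3378.simple_of_card_sixty G hcard hns
  exact Cfsg.Agent.S0494.result hcard

end Cfsg.Agent.S3669
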