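import Cfsg.Statements.S3670
import Cfsg.Agent.Lib.Helper27.J2U3Irr
import Cfsg.Agent.Lib.Helper27.J2U3IsoF
import Cfsg.Agent.Lib.Helper27.AffineU3
import Cfsg.Agent.Lib.Helper27.DegGraph6048
import Cfsg.Agent.Lib.Helper81.IrrTwist

set_option autoImplicit false
open Cfsg

namespace Cfsg.Agent.S3670

/-- The character degree graph of a finite group has as vertices the primes dividing some irreducible complex character degree, two distinct primes being joined when their product divides some irreducible character degree; two groups have the same character degree graph when they have the same vertices and the same joined pairs. Let F be the field with 9 elements and L = PSU(3,3) realised over F (order 6048). There is a finite solvable group of order 6048 with the same character degree graph as L; so L is not determined by its order together with its character degree graph. -/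
theorem result {F : Type*} [Field F] [Fintype F] (hF : Fintype.card F = 9) :
    ∃ (H : Type) (_ : Group H) (_ : Fintype H), Group.IsSolvable H ∧ Nat.card H = 6048 ∧ Cfsg.degreePrimes H = Cfsg.degreePrimes (Cfsg.PSU 3 F 3) ∧ Cfsg.degreeGraph H = Cfsg.degreeGraph (Cfsg.PSU 3 F 3) := by
  obtain ⟨e⟩ := Cfsg.Agent.Lib.Helper27.J2.HU_equiv_PSU_of_card hF
  obtain ⟨H, iG, iF, hsolv, hcard, χ, hχ, hd⟩ := Cfsg.Agent.Lib.Helper27.Affine.exists_solvable_42
  refine ⟨H, iG, iF, hsolv, hcard, ?_⟩
  have hfin : Finite (Cfsg.PSU 3 F 3) := Finite.of_equiv _ e.toEquiv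
  have hcardP : Nat.card (Cfsg.PSU 3 F 3) = 6048 := by
    rw [← Nat.card_congr e.toEquiv, Cfsg.Agent.Lib.Helper27.J2.card_HU]
  -- the transported characters
  have key : ∀ (θ : Cfsg.Agent.Lib.Helper27.J2.HU → ℂ) (d : ℕ),
      Cfsg.IsIrrCharacter Cfsg.Agent.Lib.Helper27.J2.HU θ ∧ Cfsg.charDegree θ = d →
        d ∈ Cfsg.charDegrees (Cfsg.PSU 3 F 3) := by
    rintro θ d ⟨h1, h2⟩
    refine ⟨⟨θ ∘ e.symm, Cfsg.Agent.Lib.Helper81.isIrrCharacter_comp_mulEquiv h1 e.symm⟩, ?_⟩
    rw [← h2]
    unfold Cfsg.charDegree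
    simp
  have hH42 : 42 ∈ Cfsg.charDegrees H := ⟨⟨χ, hχ⟩, hd⟩
  exact Cfsg.Agent.Lib.Helper27.DegGraph6048.degreeGraph_eq hcardP hcard
    (key _ 6 Cfsg.Agent.Lib.Helper27.J2.theta6_irr) (key _ 14 Cfsg.Agent.Lib.Helper27.J2.theta14_irr)
    (key _ 21 Cfsg.Agent.Lib.Helper27.J2.theta21_irr) (dvd_refl 6) (dvd_refl 14) (dvd_refl 21)
    hH42 hH42 hH42 (by norm_num) (by norm_num) (by norm_num)

end Cfsg.Agent.S3670
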