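import Mathlib
import Cfsg.Statements.S3678
import Cfsg.Agent.S3660
-- import your own Cfsg.Agent.* helpers here

set_option autoImplicit false
open Cfsg
open Matrix

namespace Cfsg.Agent.S3678

section Generic

/-- the power pattern shared by `PSL(2,7)` and `SL(2,8)` -/
def PowCases {G : Type*} [Group G] (x : G) : Prop :=
  x ^ 7 = 1 ∨ x ^ 2 = 1 ∨ x ^ 3 = 1 ∨ x ^ 4 = 1 ∨ x ^ 9 = 1

theorem prime_of_dvd_cases (n : ℕ) (hn : n = 7 ∨ n = 2 ∨ n = 3 ∨ n = 4 ∨ n = 9) (p : ℕ) (hp : p.Prime)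
    (h : p ∣ n) : (p = 2 ∨ p = 3 ∨ p = 7) ∧ ∀ q : ℕ, q.Prime → q ∣ n → q = p := by
  rcases hn with rfl | rfl | rfl | rfl | rfl
  · have e : p = 7 := (Nat.prime_dvd_prime_iff_eq hp (by norm_num)).mp h
    refine ⟨Or.inr (Or.inr e), fun q hq hqd => ?_⟩
    rw [e]; exact (Nat.prime_dvd_prime_iff_eq hq (by norm_num)).mp hqd
  · have e : p = 2 := (Nat.prime_dvd_prime_iff_eq hp (by norm_num)).mp h
    refine ⟨Or.inl e, fun q hq hqd => ?_⟩
    rw [e]; exact (Nat.prime_dvd_prime_iff_eq hq (by norm_num)).mp hqd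
  · have e : p = 3 := (Nat.prime_dvd_prime_iff_eq hp (by norm_num)).mp h
    refine ⟨Or.inr (Or.inl e), fun q hq hqd => ?_⟩
    rw [e]; exact (Nat.prime_dvd_prime_iff_eq hq (by norm_num)).mp hqd
  · have h4 : (4 : ℕ) = 2 ^ 2 := by norm_num
    have e : p = 2 := (Nat.prime_dvd_prime_iff_eq hp (by norm_num)).mp (hp.dvd_of_dvd_pow (h4 ▸ h))
    refine ⟨Or.inl e, fun q hq hqd => ?_⟩
    rw [e]; exact (Nat.prime_dvd_prime_iff_eq hq (by norm_num)).mp (hq.dvd_of_dvd_pow (h4 ▸ hqd))
  · have h9 : (9 : ℕ) = 3 ^ 2 := by norm_num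
    have e : p = 3 := (Nat.prime_dvd_prime_iff_eq hp (by norm_num)).mp (hp.dvd_of_dvd_pow (h9 ▸ h))
    refine ⟨Or.inr (Or.inl e), fun q hq hqd => ?_⟩
    rw [e]; exact (Nat.prime_dvd_prime_iff_eq hq (by norm_num)).mp (hq.dvd_of_dvd_pow (h9 ▸ hqd))

theorem exists_exp_of_powCases {G : Type*} [Group G] (x : G) (h : PowCases x) :
    ∃ n : ℕ, (n = 7 ∨ n = 2 ∨ n = 3 ∨ n = 4 ∨ n = 9) ∧ orderOf x ∣ n := by
  rcases h with h | h | h | h | h
  · exact ⟨7, by simp, orderOf_dvd_of_pow_eq_one h⟩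
  · exact ⟨2, by simp, orderOf_dvd_of_pow_eq_one h⟩
  · exact ⟨3, by simp, orderOf_dvd_of_pow_eq_one h⟩
  · exact ⟨4, by simp, orderOf_dvd_of_pow_eq_one h⟩
  · exact ⟨9, by simp, orderOf_dvd_of_pow_eq_one h⟩

theorem no_edges {G : Type*} [Group G] (hcases : ∀ x : G, PowCases x) (p q : ℕ) (hp : p.Prime)
    (hq : q.Prime) (hpq : p ≠ q) : ¬ ∃ x : G, orderOf x = p * q := by
  rintro ⟨x, hx⟩
  obtain ⟨n, hn, hdvd⟩ := exists_exp_of_powCases x (hcases x)
  rw [hx] at hdvd
  have h1 := prime_of_dvd_cases n hn p hp (dvd_trans (dvd_mul_right p q) hdvd)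
  exact hpq (h1.2 q hq (dvd_trans (dvd_mul_left q p) hdvd)).symm

theorem primes_iff {G : Type*} [Group G] [Finite G] (hcases : ∀ x : G, PowCases x)
    (h2 : ∃ x : G, orderOf x = 2) (h3 : ∃ x : G, orderOf x = 3) (h7 : ∃ x : G, orderOf x = 7)
    (p : ℕ) (hp : p.Prime) : p ∣ Nat.card G ↔ (p = 2 ∨ p = 3 ∨ p = 7) := by
  constructor
  · intro h
    have : Fact p.Prime := ⟨hp⟩
    obtain ⟨x, hx⟩ := exists_prime_orderOf_dvd_card' p h
    obtain ⟨n, hn, hdvd⟩ := exists_exp_of_powCases x (hcases x)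
    rw [hx] at hdvd
    exact (prime_of_dvd_cases n hn p hp hdvd).1
  · rintro (rfl | rfl | rfl)
    · obtain ⟨x, hx⟩ := h2; rw [← hx]; exact orderOf_dvd_natCard x
    · obtain ⟨x, hx⟩ := h3; rw [← hx]; exact orderOf_dvd_natCard x
    · obtain ⟨x, hx⟩ := h7; rw [← hx]; exact orderOf_dvd_natCard x

end Generic
section CB
variable {F : Type*} [Field F]

/-- coefficients of `A ^ n` in the basis `1, A`, as functions of the trace -/
def cb (t : F) : ℕ → F × F
  | 0 => (1, 0)
  | n + 1 => (-(cb t n).2, (cb t n).1 + (cb t n).2 * t)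

/-- Cayley–Hamilton for 2×2 matrices of determinant one. -/
theorem CH (A : Matrix (Fin 2) (Fin 2) F) (hA : A.det = 1) :
    A * A = (A 0 0 + A 1 1) • A - 1 := by
  rw [Matrix.det_fin_two] at hA
  ext i j
  fin_cases i <;> fin_cases j <;>
    simp [Matrix.mul_apply, Fin.sum_univ_two]
  · linear_combination (-1 : F) * hA
  · ring
  · ring
  · linear_combination (-1 : F) * hA

theorem pow_eq_cb (A : Matrix (Fin 2) (Fin 2) F) (hA : A.det = 1) (n : ℕ) :
    A ^ n = (cb (A 0 0 + A 1 1) n).1 • (1 : Matrix (Fin 2) (Fin 2) F) + (cb (A 0 0 + A 1 1) n).2 • A := by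
  induction n with
  | zero => simp [cb]
  | succ n ih =>
    rw [pow_succ, ih, add_mul, smul_mul_assoc, smul_mul_assoc, one_mul, CH A hA]
    simp only [cb]
    module

theorem pow_eq_smul_one (A : Matrix (Fin 2) (Fin 2) F) (hA : A.det = 1) (n : ℕ) (c : F)
    (h1 : (cb (A 0 0 + A 1 1) n).1 = c) (h2 : (cb (A 0 0 + A 1 1) n).2 = 0) :
    A ^ n = c • (1 : Matrix (Fin 2) (Fin 2) F) := by
  rw [pow_eq_cb A hA n, h1, h2, zero_smul, add_zero]

end CB

section A7
variable {F : Type*} [Field F] [Fintype F]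

/-- elements of a field with 7 elements -/
theorem elems_seven (hF : Fintype.card F = 7) (t : F) :
    t = 0 ∨ t = 1 ∨ t = -1 ∨ t = 2 ∨ t = -2 ∨ t = 3 ∨ t = -3 := by
  have : Fact (Nat.Prime 7) := ⟨by norm_num⟩
  have : CharP F 7 := charP_of_card_eq_prime hF
  have h7 : (7 : F) = 0 := by
    have := CharP.cast_eq_zero F 7
    exact_mod_cast this
  have hp : t ^ 7 = t := by
    have := FiniteField.pow_card t
    rwa [hF] at this
  have : t * (t - 1) * (t + 1) * (t - 2) * (t + 2) * (t - 3) * (t + 3) = 0 := by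
    linear_combination hp + (-2 * t ^ 5 + 7 * t ^ 3 - 5 * t) * h7
  simp only [mul_eq_zero] at this
  rcases this with (((((h | h) | h) | h) | h) | h) | h
  · left; exact h
  · right; left; linear_combination h
  · right; right; left; linear_combination h
  · right; right; right; left; linear_combination h
  · right; right; right; right; left; linear_combination h
  · right; right; right; right; right; left; linear_combination h
  · right; right; right; right; right; right; linear_combination h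

theorem seven_eq_zero (hF : Fintype.card F = 7) : (7 : F) = 0 := by
  have : Fact (Nat.Prime 7) := ⟨by norm_num⟩
  have : CharP F 7 := charP_of_card_eq_prime hF
  have := CharP.cast_eq_zero F 7
  exact_mod_cast this

/-- every matrix of determinant one over a field with seven elements has a small power equal to `± 1` -/
theorem pow_cases_seven (hF : Fintype.card F = 7) (A : Matrix (Fin 2) (Fin 2) F) (hA : A.det = 1) :
    (∃ c : F, c ^ 2 = 1 ∧ A ^ 7 = c • (1 : Matrix (Fin 2) (Fin 2) F)) ∨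
    (∃ c : F, c ^ 2 = 1 ∧ A ^ 2 = c • (1 : Matrix (Fin 2) (Fin 2) F)) ∨
    (∃ c : F, c ^ 2 = 1 ∧ A ^ 3 = c • (1 : Matrix (Fin 2) (Fin 2) F)) ∨
    (∃ c : F, c ^ 2 = 1 ∧ A ^ 4 = c • (1 : Matrix (Fin 2) (Fin 2) F)) := by
  have h7 := seven_eq_zero hF
  rcases elems_seven hF (A 0 0 + A 1 1) with h | h | h | h | h | h | h
  · -- t = 0 : A^2 = -1
    right; left
    refine ⟨-1, by ring, pow_eq_smul_one A hA 2 (-1) ?_ ?_⟩ <;> simp [cb, h]
  · -- t = 1 : A^3 = -1
    right; right; left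
    refine ⟨-1, by ring, pow_eq_smul_one A hA 3 (-1) ?_ ?_⟩ <;> simp [cb, h]
  · -- t = -1 : A^3 = 1
    right; right; left
    refine ⟨1, by ring, pow_eq_smul_one A hA 3 1 ?_ ?_⟩ <;> simp [cb, h]
  · -- t = 2 : A^7 = 1
    left
    refine ⟨1, by ring, pow_eq_smul_one A hA 7 1 ?_ ?_⟩ <;> simp only [cb, h]
    · linear_combination (-1 : F) * h7
    · linear_combination h7
  · -- t = -2 : A^7 = -1
    left
    refine ⟨-1, by ring, pow_eq_smul_one A hA 7 (-1) ?_ ?_⟩ <;> simp only [cb, h]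
    · linear_combination h7
    · linear_combination h7
  · -- t = 3 : A^4 = -1
    right; right; right
    refine ⟨-1, by ring, pow_eq_smul_one A hA 4 (-1) ?_ ?_⟩ <;> simp only [cb, h]
    · linear_combination (-1 : F) * h7
    · linear_combination (3 : F) * h7
  · -- t = -3 : A^4 = -1
    right; right; right
    refine ⟨-1, by ring, pow_eq_smul_one A hA 4 (-1) ?_ ?_⟩ <;> simp only [cb, h]
    · linear_combination (-1 : F) * h7
    · linear_combination (-3 : F) * h7

omit [Fintype F] in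
theorem psl_pow_eq_one (g : Matrix.SpecialLinearGroup (Fin 2) F) (n : ℕ) (c : F) (hc : c ^ 2 = 1)
    (h : (g : Matrix (Fin 2) (Fin 2) F) ^ n = c • (1 : Matrix (Fin 2) (Fin 2) F)) :
    (QuotientGroup.mk g : Matrix.ProjectiveSpecialLinearGroup (Fin 2) F) ^ n = 1 := by
  rw [← QuotientGroup.mk_pow, QuotientGroup.eq_one_iff, Matrix.SpecialLinearGroup.mem_center_iff]
  refine ⟨c, by simpa using hc, ?_⟩
  rw [Matrix.SpecialLinearGroup.coe_pow, h]
  ext i j
  simp [Matrix.one_apply, Matrix.diagonal_apply]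

theorem psl7_powCases (hF : Fintype.card F = 7) (x : Matrix.ProjectiveSpecialLinearGroup (Fin 2) F) :
    PowCases x := by
  obtain ⟨g, rfl⟩ := QuotientGroup.mk_surjective x
  rcases pow_cases_seven hF g.1 g.2 with ⟨c, hc, h⟩ | ⟨c, hc, h⟩ | ⟨c, hc, h⟩ | ⟨c, hc, h⟩
  · exact Or.inl (psl_pow_eq_one g 7 c hc h)
  · exact Or.inr (Or.inl (psl_pow_eq_one g 2 c hc h))
  · exact Or.inr (Or.inr (Or.inl (psl_pow_eq_one g 3 c hc h)))
  · exact Or.inr (Or.inr (Or.inr (Or.inl (psl_pow_eq_one g 4 c hc h))))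

omit [Fintype F] in
/-- an element of `SL(2,F)` with a nonzero off-diagonal entry and prime power `± 1` has image of prime order -/
theorem psl_orderOf_eq (g : Matrix.SpecialLinearGroup (Fin 2) F) (p : ℕ) [hp : Fact p.Prime] (c : F) (hc : c ^ 2 = 1)
    (h : (g : Matrix (Fin 2) (Fin 2) F) ^ p = c • (1 : Matrix (Fin 2) (Fin 2) F))
    (hoff : (g : Matrix (Fin 2) (Fin 2) F) 0 1 ≠ 0) :
    orderOf (QuotientGroup.mk g : Matrix.ProjectiveSpecialLinearGroup (Fin 2) F) = p := by
  apply orderOf_eq_prime (psl_pow_eq_one g p c hc h)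
  intro h1
  rw [QuotientGroup.eq_one_iff, Matrix.SpecialLinearGroup.mem_center_iff] at h1
  obtain ⟨r, -, hr⟩ := h1
  apply hoff
  rw [← hr]
  simp

theorem psl7_elements (hF : Fintype.card F = 7) :
    (∃ x : Matrix.ProjectiveSpecialLinearGroup (Fin 2) F, orderOf x = 2) ∧
    (∃ x : Matrix.ProjectiveSpecialLinearGroup (Fin 2) F, orderOf x = 3) ∧
    (∃ x : Matrix.ProjectiveSpecialLinearGroup (Fin 2) F, orderOf x = 7) := by
  have h7 := seven_eq_zero hF
  have : Fact (Nat.Prime 2) := ⟨by norm_num⟩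
  have : Fact (Nat.Prime 3) := ⟨by norm_num⟩
  have : Fact (Nat.Prime 7) := ⟨by norm_num⟩
  refine ⟨?_, ?_, ?_⟩
  · let g : Matrix.SpecialLinearGroup (Fin 2) F := ⟨!![0, -1; 1, 0], by simp [Matrix.det_fin_two]⟩
    refine ⟨QuotientGroup.mk g, psl_orderOf_eq g 2 (-1) (by ring) ?_ ?_⟩
    · apply pow_eq_smul_one _ g.2 <;> simp [cb, g]
    · simp [g]
  · let g : Matrix.SpecialLinearGroup (Fin 2) F := ⟨!![0, -1; 1, -1], by simp [Matrix.det_fin_two]⟩
    refine ⟨QuotientGroup.mk g, psl_orderOf_eq g 3 1 (by ring) ?_ ?_⟩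
    · apply pow_eq_smul_one _ g.2 <;> simp [cb, g]
    · simp [g]
  · let g : Matrix.SpecialLinearGroup (Fin 2) F := ⟨!![1, 1; 0, 1], by simp [Matrix.det_fin_two]⟩
    refine ⟨QuotientGroup.mk g, psl_orderOf_eq g 7 1 (by ring) ?_ ?_⟩
    · apply pow_eq_smul_one _ g.2 <;> simp only [cb, g] <;> simp
      · linear_combination (-1 : F) * h7
      · linear_combination h7
    · simp [g]

end A7

section A8
variable {K : Type*} [Field K] [Fintype K]

theorem two_eq_zero_of_card (hK : Fintype.card K = 8) : (2 : K) = 0 := by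
  have : Fact (Nat.Prime 2) := ⟨by norm_num⟩
  have : CharP K 2 := charP_of_card_eq_prime_pow (f := 3) (by rw [hK]; norm_num)
  exact CharTwo.two_eq_zero

theorem elems_eight (hK : Fintype.card K = 8) (t : K) :
    t = 0 ∨ t + 1 = 0 ∨ t ^ 3 + t + 1 = 0 ∨ t ^ 3 + t ^ 2 + 1 = 0 := by
  have h2 := two_eq_zero_of_card hK
  have hp : t ^ 8 = t := by
    have := FiniteField.pow_card t
    rwa [hK] at this
  have : t * ((t + 1) * ((t ^ 3 + t + 1) * (t ^ 3 + t ^ 2 + 1))) = 0 := by
    linear_combination hp + t * (t ^ 6 + t ^ 5 + 2 * t ^ 4 + 2 * t ^ 3 + t ^ 2 + t + 1) * h2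
  simpa [mul_eq_zero] using this

theorem pow_cases_eight (hK : Fintype.card K = 8) (A : Matrix (Fin 2) (Fin 2) K) (hA : A.det = 1) :
    A ^ 2 = 1 ∨ A ^ 9 = 1 ∨ A ^ 7 = 1 := by
  have h2 := two_eq_zero_of_card hK
  rcases elems_eight hK (A 0 0 + A 1 1) with h | h | h | h
  · left
    have := pow_eq_smul_one A hA 2 1 (by simp only [cb]; linear_combination (-1 : K) * h2)
      (by simp only [cb]; linear_combination h)
    rw [this, one_smul]
  · right; left
    have := pow_eq_smul_one A hA 9 1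
      (by simp only [cb]
          linear_combination ((-1) + (5) * (A 0 0 + A 1 1) + (-5) * (A 0 0 + A 1 1) ^ 2 + (-5) * (A 0 0 + A 1 1) ^ 3 + (5) * (A 0 0 + A 1 1) ^ 4 + (1) * (A 0 0 + A 1 1) ^ 5 + (-1) * (A 0 0 + A 1 1) ^ 6) * h)
      (by simp only [cb]
          linear_combination ((1) + (-1) * (A 0 0 + A 1 1) + (-9) * (A 0 0 + A 1 1) ^ 2 + (9) * (A 0 0 + A 1 1) ^ 3 + (6) * (A 0 0 + A 1 1) ^ 4 + (-6) * (A 0 0 + A 1 1) ^ 5 + (-1) * (A 0 0 + A 1 1) ^ 6 + (1) * (A 0 0 + A 1 1) ^ 7) * h)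
    rw [this, one_smul]
  · right; left
    have := pow_eq_smul_one A hA 9 1
      (by simp only [cb]
          linear_combination ((-17) + (1) * (A 0 0 + A 1 1) + (7) * (A 0 0 + A 1 1) ^ 2 + (-1) * (A 0 0 + A 1 1) ^ 4) * h + ((8) + (10) * (A 0 0 + A 1 1) + (-4) * (A 0 0 + A 1 1) ^ 2) * h2)
      (by simp only [cb]
          linear_combination ((9) + (23) * (A 0 0 + A 1 1) + (-1) * (A 0 0 + A 1 1) ^ 2 + (-8) * (A 0 0 + A 1 1) ^ 3 + (1) * (A 0 0 + A 1 1) ^ 5) * h + ((-4) + (-16) * (A 0 0 + A 1 1) + (-16) * (A 0 0 + A 1 1) ^ 2) * h2)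
    rw [this, one_smul]
  · right; right
    have := pow_eq_smul_one A hA 7 1
      (by simp only [cb]
          linear_combination ((3) + (1) * (A 0 0 + A 1 1) + (-1) * (A 0 0 + A 1 1) ^ 2) * h + ((-2) + (-2) * (A 0 0 + A 1 1) + (-1) * (A 0 0 + A 1 1) ^ 2) * h2)
      (by simp only [cb]
          linear_combination ((3) + (-4) * (A 0 0 + A 1 1) + (-1) * (A 0 0 + A 1 1) ^ 2 + (1) * (A 0 0 + A 1 1) ^ 3) * h + ((-2) + (2) * (A 0 0 + A 1 1) + (2) * (A 0 0 + A 1 1) ^ 2) * h2)
    rw [this, one_smul]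

theorem sl8_powCases (hK : Fintype.card K = 8) (g : Matrix.SpecialLinearGroup (Fin 2) K) :
    PowCases g := by
  rcases pow_cases_eight hK g.1 g.2 with h | h | h
  · right; left; exact Subtype.ext (by simpa using h)
  · right; right; right; right; exact Subtype.ext (by simpa using h)
  · left; exact Subtype.ext (by simpa using h)

theorem sl8_elements (hK : Fintype.card K = 8) :
    (∃ x : Matrix.SpecialLinearGroup (Fin 2) K, orderOf x = 2) ∧
    (∃ x : Matrix.SpecialLinearGroup (Fin 2) K, orderOf x = 3) ∧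
    (∃ x : Matrix.SpecialLinearGroup (Fin 2) K, orderOf x = 7) := by
  classical
  have h2 := two_eq_zero_of_card hK
  have : Fact (Nat.Prime 2) := ⟨by norm_num⟩
  have : Fact (Nat.Prime 3) := ⟨by norm_num⟩
  have : Fact (Nat.Prime 7) := ⟨by norm_num⟩
  refine ⟨?_, ?_, ?_⟩
  · let g : Matrix.SpecialLinearGroup (Fin 2) K := ⟨!![1, 1; 0, 1], by simp [Matrix.det_fin_two]⟩
    refine ⟨g, orderOf_eq_prime ?_ ?_⟩
    · apply Subtype.ext
      rw [Matrix.SpecialLinearGroup.coe_pow, pow_eq_smul_one g.1 g.2 2 1, one_smul]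
      · rfl
      · simp only [cb, g]; simp; linear_combination (-1 : K) * h2
      · simp only [cb, g]; simp; linear_combination h2
    · intro h
      have := congrArg (fun A : Matrix.SpecialLinearGroup (Fin 2) K => (A : Matrix (Fin 2) (Fin 2) K) 0 1) h
      simp [g] at this
  · let g : Matrix.SpecialLinearGroup (Fin 2) K :=
      ⟨!![0, 1; 1, 1], by simp [Matrix.det_fin_two]; linear_combination (-1 : K) * h2⟩
    refine ⟨g, orderOf_eq_prime ?_ ?_⟩
    · apply Subtype.ext
      rw [Matrix.SpecialLinearGroup.coe_pow, pow_eq_smul_one g.1 g.2 3 1, one_smul]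
      · rfl
      · simp only [cb, g]; simp; linear_combination (-1 : K) * h2
      · simp only [cb, g]; simp
    · intro h
      have := congrArg (fun A : Matrix.SpecialLinearGroup (Fin 2) K => (A : Matrix (Fin 2) (Fin 2) K) 0 1) h
      simp [g] at this
  · -- an element ζ ≠ 0, 1
    obtain ⟨ζ, hζ⟩ : ∃ ζ : K, ζ ∉ ({0, 1} : Finset K) := by
      by_contra hcon
      push Not at hcon
      have : (Finset.univ : Finset K) ⊆ {0, 1} := fun x _ => hcon x
      have := Finset.card_le_card this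
      rw [Finset.card_univ, hK] at this
      have h3 : ({0, 1} : Finset K).card ≤ 2 := Finset.card_le_two
      omega
    simp only [Finset.mem_insert, Finset.mem_singleton, not_or] at hζ
    obtain ⟨hζ0, hζ1⟩ := hζ
    have hζ7 : ζ ^ 7 = 1 := by
      have := FiniteField.pow_card ζ
      rw [hK] at this
      have h8 : ζ ^ 8 = ζ ^ 7 * ζ := by ring
      rw [h8] at this
      exact mul_right_cancel₀ hζ0 (by rw [this, one_mul])
    let g : Matrix.SpecialLinearGroup (Fin 2) K :=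
      ⟨!![ζ, 0; 0, ζ⁻¹], by simp [Matrix.det_fin_two, hζ0]⟩
    refine ⟨g, orderOf_eq_prime ?_ ?_⟩
    · apply Subtype.ext
      rw [Matrix.SpecialLinearGroup.coe_pow]
      have hd : (g : Matrix (Fin 2) (Fin 2) K) = Matrix.diagonal ![ζ, ζ⁻¹] := by
        ext i j
        fin_cases i <;> fin_cases j <;> simp [g]
      rw [hd, Matrix.diagonal_pow]
      ext i j
      fin_cases i <;> fin_cases j <;> simp [hζ7]
    · intro h
      have := congrArg (fun A : Matrix.SpecialLinearGroup (Fin 2) K => (A : Matrix (Fin 2) (Fin 2) K) 0 0) h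
      simp [g] at this
      exact hζ1 this

end A8


section Final

theorem psl8_transfer {K : Type*} [Field K] [Fintype K] (hK : Fintype.card K = 8) :
    (∀ x : Matrix.ProjectiveSpecialLinearGroup (Fin 2) K, PowCases x) ∧
    (∃ x : Matrix.ProjectiveSpecialLinearGroup (Fin 2) K, orderOf x = 2) ∧
    (∃ x : Matrix.ProjectiveSpecialLinearGroup (Fin 2) K, orderOf x = 3) ∧
    (∃ x : Matrix.ProjectiveSpecialLinearGroup (Fin 2) K, orderOf x = 7) := by
  have : Fact (Nat.Prime 2) := ⟨by norm_num⟩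
  have : CharP K 2 := charP_of_card_eq_prime_pow (f := 3) (by rw [hK]; norm_num)
  let e : Matrix.SpecialLinearGroup (Fin 2) K ≃* Matrix.ProjectiveSpecialLinearGroup (Fin 2) K :=
    Cfsg.Agent.S3660.slEquivPsl
  obtain ⟨⟨x2, h2⟩, ⟨x3, h3⟩, ⟨x7, h7⟩⟩ := sl8_elements hK
  refine ⟨?_, ⟨e x2, ?_⟩, ⟨e x3, ?_⟩, ⟨e x7, ?_⟩⟩
  · intro x
    obtain ⟨g, rfl⟩ := e.surjective x
    rcases sl8_powCases hK g with h | h | h | h | h
    · left; rw [← map_pow, h, map_one]
    · right; left; rw [← map_pow, h, map_one]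
    · right; right; left; rw [← map_pow, h, map_one]
    · right; right; right; left; rw [← map_pow, h, map_one]
    · right; right; right; right; rw [← map_pow, h, map_one]
  · rw [MulEquiv.orderOf_eq]; exact h2
  · rw [MulEquiv.orderOf_eq]; exact h3
  · rw [MulEquiv.orderOf_eq]; exact h7

end Final


/-- The prime graph of a finite group has the prime divisors of its order as vertices, two distinct primes p, q being joined when the group has an element of order pq; two groups have the same prime graph when they have the same prime divisors and the same joined pairs. Let F be the field with 7 elements. There are finite groups of arbitrarily large order with the same prime graph as PSL(2,F) (the graph on {2, 3, 7} with no edges, which is also the prime graph of PSL(2,8)). -/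
theorem result {F : Type*} [Field F] [Fintype F] (hF : Fintype.card F = 7) (N : ℕ) :
    ∃ (H : Type) (_ : Group H) (_ : Finite H), N < Nat.card H ∧
      ((∀ p : ℕ, p.Prime → (p ∣ Nat.card (Matrix.ProjectiveSpecialLinearGroup (Fin 2) F) ↔ p ∣ Nat.card H)) ∧
      (∀ p q : ℕ, p.Prime → q.Prime → p ≠ q → ((∃ g : (Matrix.ProjectiveSpecialLinearGroup (Fin 2) F), orderOf g = p * q) ↔ (∃ g : H, orderOf g = p * q)))) := by
  have : Fact (Nat.Prime 2) := ⟨by norm_num⟩
  let _ : Fintype (GaloisField 2 3) := Fintype.ofFinite _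
  have hK : Fintype.card (GaloisField 2 3) = 8 := by
    have := GaloisField.card 2 3 (by norm_num)
    rw [Nat.card_eq_fintype_card] at this
    rw [this]; norm_num
  obtain ⟨H, hG, hFin, hN, hprimes, hedges⟩ :=
    Cfsg.Agent.S3660.result (F := GaloisField 2 3) (by rw [hK]; norm_num) N
  obtain ⟨hc8, h82, h83, h87⟩ := psl8_transfer hK
  obtain ⟨h72, h73, h77⟩ := psl7_elements hF
  have hc7 := psl7_powCases hF
  refine ⟨H, hG, hFin, hN, ?_, ?_⟩
  · intro p hp
    rw [← hprimes p hp, primes_iff hc7 h72 h73 h77 p hp, primes_iff hc8 h82 h83 h87 p hp]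
  · intro p q hp hq hpq
    rw [← hedges p q hp hq hpq]
    exact iff_of_false (no_edges hc7 p q hp hq hpq) (no_edges hc8 p q hp hq hpq)

end Cfsg.Agent.S3678
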