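import Mathlib
import Cfsg.Statements.S3680
import Cfsg.Agent.S0721
-- import your own Cfsg.Agent.* helpers here

set_option autoImplicit false
open Cfsg

namespace Cfsg.Agent.S3680

section Reg
variable {G Ω : Type*} [Group G] [MulAction G Ω] [FaithfulSMul G Ω]

/-- an element commuting with a transitive subgroup and fixing a point is trivial -/
theorem eq_one_of_commute_of_fix (X : Subgroup G) (hX : MulAction.IsPretransitive X Ω) (c : G)
    (hc : ∀ x ∈ X, x * c = c * x) (a : Ω) (hca : c • a = a) : c = 1 := by
  apply FaithfulSMul.eq_of_smul_eq_smul (α := Ω)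
  intro b
  obtain ⟨x, hx⟩ := MulAction.exists_smul_eq X a b
  have hx' : (x : G) • a = b := hx
  rw [one_smul, ← hx', ← mul_smul, ← hc x x.2, mul_smul, hca]

/-- if `X` and `Y` are transitive and commute elementwise then `Y` is the centralizer of `X` -/
theorem centralizer_eq_of_commute (X Y : Subgroup G) (hX : MulAction.IsPretransitive X Ω)
    (hY : MulAction.IsPretransitive Y Ω) (a₀ : Ω)
    (hXY : ∀ x ∈ X, ∀ y ∈ Y, x * y = y * x) :
    Subgroup.centralizer (X : Set G) = Y := by
  apply le_antisymm
  · intro c hc
    rw [Subgroup.mem_centralizer_iff] at hc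
    obtain ⟨y, hy⟩ := MulAction.exists_smul_eq Y a₀ (c • a₀)
    have hy' : (y : G) • a₀ = c • a₀ := hy
    have h1 : (y : G)⁻¹ * c = 1 := by
      apply eq_one_of_commute_of_fix X hX _ _ a₀
      · rw [mul_smul, ← hy', inv_smul_smul]
      · intro x hx
        have e1 : x * c = c * x := hc x hx
        have e2 : x * (y : G) = y * x := hXY x hx y y.2
        have e3 : x * (y : G)⁻¹ = (y : G)⁻¹ * x := by
          rw [eq_inv_mul_iff_mul_eq, ← mul_assoc, ← e2, mul_assoc, mul_inv_cancel, mul_one]
        rw [← mul_assoc, e3, mul_assoc, e1, mul_assoc]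
    have : c = y := by
      rw [inv_mul_eq_one] at h1; exact h1.symm
    rw [this]; exact y.2
  · intro y hy
    rw [Subgroup.mem_centralizer_iff]
    intro x hx
    exact hXY x hx y hy

/-- commuting transitive subgroups are isomorphic -/
theorem iso_of_commute_transitive (X Y : Subgroup G) (hX : MulAction.IsPretransitive X Ω)
    (hY : MulAction.IsPretransitive Y Ω) (a₀ : Ω)
    (hXY : ∀ x ∈ X, ∀ y ∈ Y, x * y = y * x) : Nonempty (X ≃* Y) := by
  classical
  -- for each x there is a unique y with y • a₀ = x • a₀
  have hex : ∀ x : X, ∃ y : Y, (y : G) • a₀ = (x : G) • a₀ := fun x =>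
    MulAction.exists_smul_eq Y a₀ ((x : G) • a₀)
  choose ν hν using hex
  have huniq : ∀ y y' : Y, (y : G) • a₀ = (y' : G) • a₀ → y = y' := by
    intro y y' h
    have h1 : ((y' : G)⁻¹ * y) = 1 := by
      apply eq_one_of_commute_of_fix X hX _ _ a₀
      · rw [mul_smul, h, inv_smul_smul]
      · intro x hx
        have e2 : x * (y : G) = y * x := hXY x hx y y.2
        have e2' : x * (y' : G) = y' * x := hXY x hx y' y'.2
        have e3 : x * (y' : G)⁻¹ = (y' : G)⁻¹ * x := by
          rw [eq_inv_mul_iff_mul_eq, ← mul_assoc, ← e2', mul_assoc, mul_inv_cancel, mul_one]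
        rw [← mul_assoc, e3, mul_assoc, e2, mul_assoc]
    rw [inv_mul_eq_one] at h1
    exact Subtype.ext h1.symm
  have huniqX : ∀ x x' : X, (x : G) • a₀ = (x' : G) • a₀ → x = x' := by
    intro x x' h
    have h1 : ((x' : G)⁻¹ * x) = 1 := by
      apply eq_one_of_commute_of_fix Y hY _ _ a₀
      · rw [mul_smul, h, inv_smul_smul]
      · intro y hy
        have e2 : (x : G) * y = y * x := hXY x x.2 y hy
        have e2' : (x' : G) * y = y * x' := hXY x' x'.2 y hy
        have e3 : y * (x' : G)⁻¹ = (x' : G)⁻¹ * y := by
          rw [eq_inv_mul_iff_mul_eq, ← mul_assoc, e2', mul_assoc, mul_inv_cancel, mul_one]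
        rw [← mul_assoc, e3, mul_assoc, ← e2, mul_assoc]
    rw [inv_mul_eq_one] at h1
    exact Subtype.ext h1.symm
  -- anti-multiplicativity of ν
  have hanti : ∀ x x' : X, ν (x * x') = ν x' * ν x := by
    intro x x'
    apply huniq
    rw [hν]
    have : ((x * x' : X) : G) • a₀ = (x : G) • ((x' : G) • a₀) := by
      rw [Subgroup.coe_mul, mul_smul]
    rw [this, ← hν x', ← mul_smul, hXY x x.2 (ν x') (ν x').2, mul_smul, ← hν x, ← mul_smul]
    rfl
  let φ : X →* Y :=
    { toFun := fun x => (ν x)⁻¹
      map_one' := by
        have : ν 1 = 1 := by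
          apply huniq; rw [hν]; simp
        rw [this, inv_one]
      map_mul' := fun x x' => by rw [hanti, mul_inv_rev] }
  refine ⟨MulEquiv.ofBijective φ ⟨?_, ?_⟩⟩
  · intro x x' h
    have h' : ν x = ν x' := inv_injective h
    apply huniqX
    rw [← hν x, ← hν x', h']
  · intro y
    obtain ⟨x, hx⟩ := MulAction.exists_smul_eq X a₀ ((y⁻¹ : Y) • a₀)
    refine ⟨x, ?_⟩
    have : ν x = y⁻¹ := by
      apply huniq
      rw [hν]; exact hx
    change (ν x)⁻¹ = y
    rw [this, inv_inv]

end Reg
section Aux

/-- `(Fin m → T) × (Fin n → T) ≃* (Fin (m + n) → T)` -/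
def appendMulEquiv (T : Type*) [Group T] (m n : ℕ) :
    (Fin m → T) × (Fin n → T) ≃* (Fin (m + n) → T) where
  toFun p := Fin.append p.1 p.2
  invFun f := (fun i => f (Fin.castAdd n i), fun j => f (Fin.natAdd m j))
  left_inv p := by
    ext i
    · simp
    · simp
  right_inv f := by
    ext i
    refine Fin.addCases (fun j => ?_) (fun j => ?_) i
    · simp
    · simp
  map_mul' p q := by
    ext i
    refine Fin.addCases (fun j => ?_) (fun j => ?_) i
    · simp
    · simp

/-- a power of `T` is commutative iff `T` is (for a positive exponent) -/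
theorem comm_of_pi_comm {T : Type*} [Group T] (m : ℕ) (hm : 0 < m)
    (h : ∀ f g : Fin m → T, f * g = g * f) (s t : T) : s * t = t * s := by
  have := congrFun (h (fun _ => s) (fun _ => t)) ⟨0, hm⟩
  simpa using this

/-- a simple commutative group has prime exponent -/
theorem exists_prime_exponent_of_simple_comm {T : Type*} [Group T] [Finite T] (hs : IsSimpleGroup T)
    (hc : ∀ s t : T, s * t = t * s) : ∃ p : ℕ, p.Prime ∧ ∀ t : T, t ^ p = 1 := by
  let _ : CommGroup T := { ‹Group T› with mul_comm := hc }
  refine ⟨Nat.card T, IsSimpleGroup.prime_card, fun t => ?_⟩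
  exact pow_card_eq_one'

end Aux
section Main
variable {G Ω : Type*} [Group G] [MulAction G Ω]

/-- minimal normal subgroups -/
def IsMinNormal (V : Subgroup G) : Prop :=
  V.Normal ∧ V ≠ ⊥ ∧ ∀ M : Subgroup G, M.Normal → M ≤ V → M = ⊥ ∨ M = V

theorem exists_isMinNormal [Finite G] [Nontrivial G] : ∃ V : Subgroup G, IsMinNormal V := by
  obtain ⟨V, ⟨hVn, hVne⟩, hVmin⟩ :=
    Set.exists_min_image {T : Subgroup G | T.Normal ∧ T ≠ ⊥} (fun T => Nat.card T)
      (Set.toFinite _) ⟨⊤, Subgroup.normal_top, top_ne_bot⟩
  refine ⟨V, hVn, hVne, fun M hM hMV => ?_⟩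
  by_cases hM0 : M = ⊥
  · exact Or.inl hM0
  · right
    exact Subgroup.eq_of_le_of_card_ge hMV (hVmin M ⟨hM, hM0⟩)

/-- nontrivial normal subgroups of a faithful primitive group are transitive -/
theorem transitive_of_normal [FaithfulSMul G Ω] (hprim : MulAction.IsPreprimitive G Ω)
    (V : Subgroup G) (hVn : V.Normal) (hV : V ≠ ⊥) : MulAction.IsPretransitive V Ω := by
  apply MulAction.IsQuasiPreprimitive.isPretransitive_of_normal (G := G)
  intro hfix
  apply hV
  rw [Subgroup.eq_bot_iff_forall]
  intro v hv
  apply FaithfulSMul.eq_of_smul_eq_smul (α := Ω)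
  intro ω
  have : ω ∈ MulAction.fixedPoints V Ω := by rw [hfix]; trivial
  rw [one_smul]
  exact this ⟨v, hv⟩

end Main


/-- The socle of a finite primitive permutation group. Let a finite group G act faithfully and primitively on a set Ω, and let N be the subgroup generated by the minimal normal subgroups of G. Then either N is an elementary abelian p-group for some prime p and acts regularly on Ω (transitively with trivial point stabilizers), or N is isomorphic to a direct product of m ≥ 1 copies of a non-abelian simple group. -/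
theorem result {G Ω : Type*} [Group G] [Finite G] [MulAction G Ω] [FaithfulSMul G Ω] [Finite Ω]
    (hprim : MulAction.IsPreprimitive G Ω) (N : Subgroup G)
    (hN : N = sSup {V : Subgroup G | V.Normal ∧ V ≠ ⊥ ∧ ∀ M : Subgroup G, M.Normal → M ≤ V → M = ⊥ ∨ M = V}) :
    (∃ p : ℕ, p.Prime ∧ IsMulCommutative N ∧ (∀ x : N, x ^ p = 1) ∧
      MulAction.IsPretransitive N Ω ∧ ∀ ω : Ω, MulAction.stabilizer N ω = ⊥) ∨
    (∃ (T : Type) (_ : Group T) (m : ℕ), 1 ≤ m ∧ IsSimpleGroup T ∧ ¬ IsMulCommutative T ∧ Nonempty (N ≃* (Fin m → T))) := by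
  rcases subsingleton_or_nontrivial G with hsub | hnt
  · -- trivial group
    left
    refine ⟨2, Nat.prime_two, ?_, ?_, ?_, ?_⟩
    · exact ⟨⟨fun a b => Subsingleton.elim _ _⟩⟩
    · intro x; exact Subsingleton.elim _ _
    · have : MulAction.IsPretransitive G Ω := hprim.toIsPretransitive
      constructor
      intro a b
      obtain ⟨g, hg⟩ := MulAction.exists_smul_eq G a b
      refine ⟨1, ?_⟩
      rw [one_smul, ← hg, Subsingleton.elim g 1, one_smul]
    · intro ω; exact Subsingleton.elim _ _
  · obtain ⟨V, hV⟩ := exists_isMinNormal (G := G)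
    have hVn : V.Normal := hV.1
    have hVt := transitive_of_normal hprim V hV.1 hV.2.1
    have hΩne : Nonempty Ω := by
      by_contra hemp
      rw [not_nonempty_iff] at hemp
      obtain ⟨g, hg⟩ := exists_ne (1 : G)
      apply hg
      apply FaithfulSMul.eq_of_smul_eq_smul (α := Ω)
      intro ω
      exact hemp.elim ω
    obtain ⟨a₀⟩ := hΩne
    obtain ⟨T, hT, m, hTs, hm, ⟨e⟩⟩ := Cfsg.Agent.S0721.result V hV.2.1 hV.2.2
    have hfinT : Finite T := by
      have : Finite (Fin m → T) := Finite.of_equiv V e.toEquiv
      exact Finite.of_surjective (fun f : Fin m → T => f ⟨0, hm⟩) (fun t => ⟨fun _ => t, rfl⟩)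
    by_cases hVab : ∀ x ∈ V, ∀ y ∈ V, x * y = y * x
    · -- abelian case
      left
      have hcent : Subgroup.centralizer (V : Set G) = V :=
        centralizer_eq_of_commute V V hVt hVt a₀ hVab
      have huniq : ∀ W : Subgroup G, IsMinNormal W → W = V := by
        intro W hW
        rcases Cfsg.Agent.S0721.eq_or_disjoint W V hW.1 hV.1 hW.2.1 hW.2.2 hV.2.2 with h | h
        · exact h
        · exfalso
          apply hW.2.1
          have hWV : W ≤ V := by
            rw [← hcent]
            intro w hw
            rw [Subgroup.mem_centralizer_iff]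
            intro v hv
            exact (Subgroup.commute_of_normal_of_disjoint W V hW.1 hV.1 h w v hw hv).eq.symm
          exact le_bot_iff.mp (h (le_refl W) hWV)
      have hNV : N = V := by
        rw [hN]; apply le_antisymm
        · apply sSup_le; intro W hW; rw [huniq W hW]
        · exact le_sSup hV
      subst hNV
      have hTc : ∀ s t : T, s * t = t * s := by
        apply comm_of_pi_comm m hm
        intro f g
        have h1 := hVab (e.symm f) (e.symm f).2 (e.symm g) (e.symm g).2
        have h2 : e.symm f * e.symm g = e.symm g * e.symm f := Subtype.ext h1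
        have h3 := congrArg e h2
        simpa using h3
      obtain ⟨p, hp, hpow⟩ := exists_prime_exponent_of_simple_comm hTs hTc
      refine ⟨p, hp, ?_, ?_, hVt, ?_⟩
      · rw [isMulCommutative_iff]; intro x y; exact Subtype.ext (hVab x x.2 y y.2)
      · intro x
        apply e.injective
        rw [map_pow, map_one]
        ext i
        simp [hpow]
      · intro ω
        rw [Subgroup.eq_bot_iff_forall]
        intro v hv
        rw [MulAction.mem_stabilizer_iff] at hv
        apply Subtype.ext
        exact eq_one_of_commute_of_fix N hVt v (fun x hx => hVab x hx v v.2) ω hv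
    · right
      push Not at hVab
      have hTnc : ¬ IsMulCommutative T := by
        intro hc
        obtain ⟨x, hx, y, hy, hxy⟩ := hVab
        apply hxy
        have h1 : e ⟨x, hx⟩ * e ⟨y, hy⟩ = e ⟨y, hy⟩ * e ⟨x, hx⟩ := by
          ext i
          simp only [Pi.mul_apply]
          exact (isMulCommutative_iff.mp hc) _ _
        rw [← map_mul, ← map_mul] at h1
        have h2 := e.injective h1
        exact congrArg Subtype.val h2
      by_cases huniq : ∀ W : Subgroup G, IsMinNormal W → W = V
      · have hNV : N = V := by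
          rw [hN]; apply le_antisymm
          · apply sSup_le; intro W hW; rw [huniq W hW]
          · exact le_sSup hV
        subst hNV
        exact ⟨T, hT, m, hm, hTs, hTnc, ⟨e⟩⟩
      · push Not at huniq
        obtain ⟨W, hW, hWV⟩ := huniq
        have hWt := transitive_of_normal hprim W hW.1 hW.2.1
        have hdisj : Disjoint V W :=
          (Cfsg.Agent.S0721.eq_or_disjoint V W hV.1 hW.1 hV.2.1 hV.2.2 hW.2.2).resolve_left (Ne.symm hWV)
        have hcomm : ∀ x ∈ V, ∀ y ∈ W, x * y = y * x := fun x hx y hy =>
          (Subgroup.commute_of_normal_of_disjoint V W hV.1 hW.1 hdisj x y hx hy).eq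
        have hcentV : Subgroup.centralizer (V : Set G) = W :=
          centralizer_eq_of_commute V W hVt hWt a₀ hcomm
        have hall : ∀ U : Subgroup G, IsMinNormal U → U = V ∨ U = W := by
          intro U hU
          rcases Cfsg.Agent.S0721.eq_or_disjoint U V hU.1 hV.1 hU.2.1 hU.2.2 hV.2.2 with h | h
          · left; exact h
          · right
            have hUW : U ≤ W := by
              rw [← hcentV]
              intro u hu
              rw [Subgroup.mem_centralizer_iff]
              intro v hv
              exact (Subgroup.commute_of_normal_of_disjoint U V hU.1 hV.1 h u v hu hv).eq.symm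
            exact (hW.2.2 U hU.1 hUW).resolve_left hU.2.1
        have hNVW : N = V ⊔ W := by
          rw [hN]; apply le_antisymm
          · apply sSup_le
            intro U hU
            rcases hall U hU with h | h
            · rw [h]; exact le_sup_left
            · rw [h]; exact le_sup_right
          · exact sup_le (le_sSup hV) (le_sSup hW)
        subst hNVW
        obtain ⟨e2⟩ := Cfsg.Agent.S0721.sup_equiv_prod V W hV.1 hW.1 hdisj
        obtain ⟨e3⟩ := iso_of_commute_transitive V W hVt hWt a₀ hcomm
        refine ⟨T, hT, m + m, by omega, hTs, hTnc, ⟨?_⟩⟩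
        exact (e2.trans (MulEquiv.prodCongr e (e3.symm.trans e))).trans (appendMulEquiv T m m)

end Cfsg.Agent.S3680
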