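import Cfsg.Statements.S3681
-- import your own Cfsg.Agent.* helpers here

set_option autoImplicit false
open Cfsg
open Equiv Equiv.Perm

namespace Cfsg.Agent.S3681


theorem inv_app' {Ω : Type*} (f : Perm Ω) (a : Ω) : f⁻¹ (f a) = a := by simp
theorem app_inv' {Ω : Type*} (f : Perm Ω) (a : Ω) : f (f⁻¹ a) = a := by simp
theorem inv_fix' {Ω : Type*} (f : Perm Ω) (a : Ω) (h : f a = a) : f⁻¹ a = a := by
  rw [Perm.inv_eq_iff_eq]; exact h.symm
theorem fix_of_inv' {Ω : Type*} (f : Perm Ω) (a : Ω) (h : f⁻¹ a = a) : f a = a := by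
  rw [Perm.inv_eq_iff_eq] at h; exact h.symm

theorem threeCycle_of_support_inter {Ω : Type*} [Fintype Ω] [DecidableEq Ω] (x y : Perm Ω) (α : Ω)
    (hx : x α ≠ α) (hy : y α ≠ α) (h : ∀ ω, ω ≠ α → x ω = ω ∨ y ω = ω) :
    IsThreeCycle (x⁻¹ * y⁻¹ * x * y) := by
  have hxi : x⁻¹ α ≠ α := fun e => hx (fix_of_inv' _ _ e)
  have hyi : y⁻¹ α ≠ α := fun e => hy (fix_of_inv' _ _ e)
  -- y⁻¹ α is fixed by x, x⁻¹ α is fixed by y
  have hx_yi : x (y⁻¹ α) = y⁻¹ α := by
    rcases h _ hyi with h1 | h1
    · exact h1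
    · exfalso; apply hyi; rw [app_inv'] at h1; exact h1.symm
  have hy_xi : y (x⁻¹ α) = x⁻¹ α := by
    rcases h _ hxi with h1 | h1
    · exfalso; apply hxi; rw [app_inv'] at h1; exact h1.symm
    · exact h1
  have hne : y⁻¹ α ≠ x⁻¹ α := by
    intro e
    apply hyi
    have : x (y⁻¹ α) = α := by rw [e, app_inv']
    rw [hx_yi] at this; exact this
  have key : x⁻¹ * y⁻¹ * x * y = swap α (y⁻¹ α) * swap α (x⁻¹ α) := by
    ext ω
    simp only [Perm.mul_apply]
    by_cases h1 : ω = α
    · subst h1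
      -- y ω is fixed by x
      have : x (y ω) = y ω := by
        rcases h (y ω) hy with h2 | h2
        · exact h2
        · exfalso; apply hy; exact y.injective h2
      rw [this, inv_app']
      rw [swap_apply_left, swap_apply_of_ne_of_ne hxi (Ne.symm hne)]
    by_cases h2 : ω = x⁻¹ α
    · subst h2
      rw [hy_xi, app_inv']
      rw [swap_apply_right, swap_apply_left]
      exact inv_fix' _ _ hx_yi
    by_cases h3 : ω = y⁻¹ α
    · subst h3
      rw [app_inv']
      rw [swap_apply_of_ne_of_ne hyi hne, swap_apply_right]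
      -- x⁻¹ (y⁻¹ (x α)) = α
      have : y (x α) = x α := by
        rcases h (x α) hx with h4 | h4
        · exfalso; apply hx; exact x.injective h4
        · exact h4
      rw [inv_fix' _ _ this, inv_app']
    rw [swap_apply_of_ne_of_ne h1 h2, swap_apply_of_ne_of_ne h1 h3]
    have hxω : x ω ≠ α := fun e => h2 (by rw [Perm.eq_inv_iff_eq]; exact e)
    have hyω : y ω ≠ α := fun e => h3 (by rw [Perm.eq_inv_iff_eq]; exact e)
    rcases h ω h1 with h4 | h4
    · -- x ω = ω
      rcases h (y ω) hyω with h5 | h5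
      · rw [h5, inv_app']
        exact inv_fix' _ _ h4
      · have : y ω = ω := y.injective h5
        rw [this, h4, inv_fix' _ _ this]
        exact inv_fix' _ _ h4
    · rw [h4]
      rcases h (x ω) hxω with h5 | h5
      · have : x ω = ω := x.injective h5
        rw [this, inv_fix' _ _ h4]
        exact inv_fix' _ _ this
      · rw [inv_fix' _ _ h5, inv_app']
  rw [key]
  exact isThreeCycle_swap_mul_swap_same (Ne.symm hyi) (Ne.symm hxi) hne

/-- Lemma B -/
theorem exists_large_free_set {Ω : Type*} [Fintype Ω] [DecidableEq Ω] (P : Subgroup (Perm Ω))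
    (hno3 : ∀ g ∈ P, ¬ IsThreeCycle g) :
    ∃ Δ : Finset Ω, (∀ g ∈ P, g.support ⊆ Δ → g = 1) ∧ Fintype.card Ω ≤ 2 * Δ.card := by
  classical
  let S : Finset (Finset Ω) := Finset.univ.filter (fun Δ => ∀ g ∈ P, g.support ⊆ Δ → g = 1)
  have hS : S.Nonempty := by
    refine ⟨∅, ?_⟩
    simp only [S, Finset.mem_filter, Finset.mem_univ, true_and]
    intro g _ hg
    rw [Finset.subset_empty] at hg
    exact Perm.support_eq_empty_iff.mp hg
  obtain ⟨Δ, hΔS, hΔmax⟩ := Finset.exists_max_image S Finset.card hS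
  have hΔ : ∀ g ∈ P, g.support ⊆ Δ → g = 1 := by
    simpa [S] using hΔS
  refine ⟨Δ, hΔ, ?_⟩
  by_contra hlt
  push Not at hlt
  have hnotS : ∀ Γ : Finset Ω, Δ.card < Γ.card → ∃ g ∈ P, g.support ⊆ Γ ∧ g ≠ 1 := by
    intro Γ hΓ
    by_contra hcon
    push Not at hcon
    have : Γ ∈ S := by
      simp only [S, Finset.mem_filter, Finset.mem_univ, true_and]
      exact hcon
    exact absurd (hΔmax Γ this) (not_le.mpr hΓ)
  have hcompl : Δ.card < Δᶜ.card := by
    rw [Finset.card_compl]; omega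
  obtain ⟨y, hyP, hysupp, hy1⟩ := hnotS _ hcompl
  obtain ⟨α, hα⟩ : ∃ α, y α ≠ α := by
    by_contra hcon
    push Not at hcon
    exact hy1 (Perm.ext hcon)
  have hαΔ : α ∉ Δ := by
    have : α ∈ Δᶜ := hysupp (Perm.mem_support.mpr hα)
    exact Finset.mem_compl.mp this
  have hins : Δ.card < (insert α Δ).card := by
    rw [Finset.card_insert_of_notMem hαΔ]; omega
  obtain ⟨x, hxP, hxsupp, hx1⟩ := hnotS _ hins
  have hxα : x α ≠ α := by
    intro hfix
    apply hx1
    apply hΔ x hxP
    intro ω hω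
    have h1 := hxsupp hω
    rw [Finset.mem_insert] at h1
    rcases h1 with h1 | h1
    · subst h1; exact absurd hfix (Perm.mem_support.mp hω)
    · exact h1
  have hdisj : ∀ ω, ω ≠ α → x ω = ω ∨ y ω = ω := by
    intro ω hω
    by_cases hωΔ : ω ∈ Δ
    · right
      by_contra hne
      have : ω ∈ Δᶜ := hysupp (Perm.mem_support.mpr hne)
      exact (Finset.mem_compl.mp this) hωΔ
    · left
      by_contra hne
      have := hxsupp (Perm.mem_support.mpr hne)
      rw [Finset.mem_insert] at this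
      rcases this with h1 | h1
      · exact hω h1
      · exact hωΔ h1
  have h3 := threeCycle_of_support_inter x y α hxα hα hdisj
  exact hno3 _ (P.mul_mem (P.mul_mem (P.mul_mem (P.inv_mem hxP) (P.inv_mem hyP)) hxP) hyP) h3

/-- Lemma C -/
theorem card_mul_factorial_le {Ω : Type*} [Fintype Ω] [DecidableEq Ω] (P : Subgroup (Perm Ω))
    (Δ : Finset Ω) (hΔ : ∀ g ∈ P, g.support ⊆ Δ → g = 1) :
    Nat.card P * Nat.factorial Δ.card ≤ Nat.factorial (Fintype.card Ω) := by
  classical
  let f : P × Perm {x // x ∈ Δ} → Perm Ω := fun pq => (pq.1 : Perm Ω) * Perm.ofSubtype pq.2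
  have hsupp : ∀ σ : Perm {x // x ∈ Δ}, (Perm.ofSubtype σ : Perm Ω).support ⊆ Δ := by
    intro σ ω hω
    by_contra hn
    exact (Perm.mem_support.mp hω) (Perm.ofSubtype_apply_of_not_mem σ hn)
  have hf : Function.Injective f := by
    rintro ⟨p₁, s₁⟩ ⟨p₂, s₂⟩ h
    simp only [f] at h
    have h1 : ((p₂⁻¹ * p₁ : P) : Perm Ω) = Perm.ofSubtype (s₂ * s₁⁻¹) := by
      rw [map_mul, map_inv]
      push_cast
      rw [eq_mul_inv_iff_mul_eq, mul_assoc, h, ← mul_assoc, inv_mul_cancel, one_mul]
    have h2 : ((p₂⁻¹ * p₁ : P) : Perm Ω) = 1 := by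
      apply hΔ _ (p₂⁻¹ * p₁).2
      rw [h1]; exact hsupp _
    have h3 : s₂ * s₁⁻¹ = 1 := by
      apply Perm.ofSubtype_injective
      rw [← h1, h2, map_one]
    have h4 : p₂⁻¹ * p₁ = 1 := Subtype.ext h2
    rw [inv_mul_eq_one] at h4
    rw [mul_inv_eq_one] at h3
    rw [h4, h3]
  have hcard := Nat.card_le_card_of_injective f hf
  rw [Nat.card_prod, Nat.card_perm, Nat.card_perm] at hcard
  simpa using hcard



/-- Bochert's bound for primitive groups. Let a finite group G act faithfully and primitively on a finite set Ω with n elements, and suppose the image of G in the symmetric group of Ω does not contain the alternating group of Ω. Then |G| · ⌊(n + 1)/2⌋! ≤ n!, that is, the index of G in the symmetric group is at least ⌊(n + 1)/2⌋!. -/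
theorem result {G Ω : Type*} [Group G] [Finite G] [MulAction G Ω] [FaithfulSMul G Ω] [Fintype Ω] [DecidableEq Ω]
    (hprim : MulAction.IsPreprimitive G Ω) (hA : ¬ alternatingGroup Ω ≤ (MulAction.toPermHom G Ω).range) :
    Nat.card G * Nat.factorial ((Fintype.card Ω + 1) / 2) ≤ Nat.factorial (Fintype.card Ω) := by
  set P : Subgroup (Perm Ω) := (MulAction.toPermHom G Ω).range with hP
  have hinj : Function.Injective (MulAction.toPermHom G Ω) := MulAction.toPerm_injective
  have hcard : Nat.card G = Nat.card P :=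
    Nat.card_congr (MonoidHom.ofInjective hinj).toEquiv
  let f : Ω →ₑ[(MulAction.toPermHom G Ω).rangeRestrict] Ω :=
    { toFun := id, map_smul' := fun g x => rfl }
  have hPprim : MulAction.IsPreprimitive P Ω :=
    MulAction.IsPreprimitive.of_surjective (f := f) Function.surjective_id
  have hno3 : ∀ g ∈ P, ¬ IsThreeCycle g := by
    intro g hg h3
    exact hA (alternatingGroup_le_of_isPreprimitive_of_isThreeCycle_mem hPprim h3 hg)
  obtain ⟨Δ, hΔ, hΔcard⟩ := exists_large_free_set P hno3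
  have h1 := card_mul_factorial_le P Δ hΔ
  rw [hcard]
  calc Nat.card P * Nat.factorial ((Fintype.card Ω + 1) / 2)
      ≤ Nat.card P * Nat.factorial Δ.card := by
        apply Nat.mul_le_mul_left
        apply Nat.factorial_le
        omega
    _ ≤ _ := h1

end Cfsg.Agent.S3681
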