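import Cfsg.Statements.S3682
import Cfsg.Agent.Lib.Helper60.TWWielandt
-- import your own Cfsg.Agent.* helpers here

set_option autoImplicit false
open Cfsg

namespace Cfsg.Agent.S3682

/-- Wielandt's bound toward the Sims conjecture. Let a finite group G act faithfully and primitively on a set Ω, let a and b be points, and suppose the orbit of b under the stabilizer of a has length d ≥ 2. Then there are a prime p and a normal p-subgroup P of the stabilizer of a, all of whose elements fix b, such that the index of P in the stabilizer of a divides d! · ((d - 1)!)^d. -/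
theorem result {G Ω : Type*} [Group G] [Finite G] [MulAction G Ω] [FaithfulSMul G Ω] [Finite Ω]
    (hprim : MulAction.IsPreprimitive G Ω) (a b : Ω) (d : ℕ) (hd : Nat.card (MulAction.orbit (MulAction.stabilizer G a) b) = d) (h2 : 2 ≤ d) :
    ∃ p : ℕ, p.Prime ∧ ∃ P : Subgroup (MulAction.stabilizer G a), P.Normal ∧ IsPGroup p P ∧ (∀ g : P, ((g : MulAction.stabilizer G a) : G) • b = b) ∧
      P.index ∣ Nat.factorial d * (Nat.factorial (d - 1)) ^ d := by
  classical
  have hpre : MulAction.IsPretransitive G Ω := hprim.toIsPretransitive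
  obtain ⟨g, hg⟩ := MulAction.exists_smul_eq G a b
  have hconj : MulAction.stabilizer G b =
      (MulAction.stabilizer G a).map (MulAut.conj g).toMonoidHom := by
    rw [← hg, MulAction.stabilizer_smul_eq_stabilizer_map_conj]
  -- `d = [G_a : G_a ∩ G_b]`
  have hstab : MulAction.stabilizer ↥(MulAction.stabilizer G a) b =
      (MulAction.stabilizer G b).subgroupOf (MulAction.stabilizer G a) := by
    ext x
    rw [MulAction.mem_stabilizer_iff, Subgroup.mem_subgroupOf, MulAction.mem_stabilizer_iff]
    rfl
  have hdM : (MulAction.stabilizer G a ⊓ MulAction.stabilizer G b).relIndex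
      (MulAction.stabilizer G a) = d := by
    rw [inf_comm, Subgroup.inf_relIndex_right]
    unfold Subgroup.relIndex
    rw [← hstab, MulAction.index_stabilizer, ← hd, Nat.card_coe_set_eq]
  have hab : a ≠ b := by
    intro h
    rw [← h, inf_idem, Subgroup.relIndex_self] at hdM
    omega
  have hnt : Nontrivial Ω := ⟨⟨a, b, hab⟩⟩
  have hmax : IsCoatom (MulAction.stabilizer G a) :=
    (MulAction.isCoatom_stabilizer_iff_preprimitive G a).mpr hprim
  have hcore : (MulAction.stabilizer G a).normalCore = ⊥ := by
    rw [eq_bot_iff]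
    intro x hx
    rw [Subgroup.mem_bot]
    apply FaithfulSMul.eq_of_smul_eq_smul (α := Ω)
    intro c
    obtain ⟨h, rfl⟩ := MulAction.exists_smul_eq G a c
    have h1 : h⁻¹ * x * h⁻¹⁻¹ ∈ MulAction.stabilizer G a := hx h⁻¹
    rw [MulAction.mem_stabilizer_iff] at h1
    rw [one_smul]
    have h2 : h • ((h⁻¹ * x * h⁻¹⁻¹) • a) = h • a := by rw [h1]
    simpa [mul_smul] using h2
  obtain ⟨p, hp, P, hPle, hPn, hPp, hPidx⟩ :=
    Cfsg.Agent.Lib.Helper60.TW.wielandt_bound (MulAction.stabilizer G a) (MulAction.stabilizer G b) g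
      hmax hcore hconj d h2 hdM
  refine ⟨p, hp, P.subgroupOf (MulAction.stabilizer G a),
    Subgroup.normal_subgroupOf_of_le_normalizer hPn, hPp.comap_subtype, ?_, hPidx⟩
  intro x
  have := (hPle (Subgroup.mem_subgroupOf.mp x.2)).2
  exact MulAction.mem_stabilizer_iff.mp this

end Cfsg.Agent.S3682
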