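import Cfsg.Statements.S3683
-- import your own Cfsg.Agent.* helpers here

set_option autoImplicit false
open Cfsg

namespace Cfsg.Agent.S3683

/-- If the trivial subgroup is a coatom of the subgroup lattice, the group is cyclic of prime order. -/
theorem cyclic_prime_of_isCoatom_bot {G : Type*} [Group G] [Finite G]
    (h : IsCoatom (⊥ : Subgroup G)) : IsCyclic G ∧ (Nat.card G).Prime := by
  have hso : IsSimpleOrder (Subgroup G) := isSimpleOrder_iff_isCoatom_bot.mpr h
  have hnt : Nontrivial G := by
    rw [← Subgroup.nontrivial_iff]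
    infer_instance
  obtain ⟨g, hg⟩ := exists_ne (1 : G)
  have hz : Subgroup.zpowers g = ⊤ :=
    (eq_bot_or_eq_top (Subgroup.zpowers g)).resolve_left (Subgroup.zpowers_ne_bot.2 hg)
  have hcyc : IsCyclic G := ⟨⟨g, (Subgroup.eq_top_iff' _).1 hz⟩⟩
  refine ⟨hcyc, ?_⟩
  let : CommGroup G := IsCyclic.commGroup
  have : IsSimpleGroup G := ⟨fun H _ => eq_bot_or_eq_top H⟩
  exact IsSimpleGroup.prime_card

/-- Let a finite group G act faithfully and primitively on a set Ω, and suppose the stabilizer of a point a fixes a second point b ≠ a (a suborbit of length 1 other than {a}). Then the stabilizer of a is trivial and G is cyclic of prime order. -/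
theorem result {G Ω : Type*} [Group G] [Finite G] [MulAction G Ω] [FaithfulSMul G Ω] [Finite Ω]
    (hprim : MulAction.IsPreprimitive G Ω) (a b : Ω) (hab : a ≠ b) (hfix : ∀ g : G, g • a = a → g • b = b) :
    MulAction.stabilizer G a = ⊥ ∧ IsCyclic G ∧ (Nat.card G).Prime := by
  have : Nontrivial Ω := ⟨⟨a, b, hab⟩⟩
  have hmaxa : IsCoatom (MulAction.stabilizer G a) :=
    MulAction.IsPreprimitive.isCoatom_stabilizer_of_isPreprimitive G a
  have hmaxb : IsCoatom (MulAction.stabilizer G b) :=
    MulAction.IsPreprimitive.isCoatom_stabilizer_of_isPreprimitive G b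
  have hle : MulAction.stabilizer G a ≤ MulAction.stabilizer G b := by
    intro g hg
    rw [MulAction.mem_stabilizer_iff] at hg ⊢
    exact hfix g hg
  have heq : MulAction.stabilizer G a = MulAction.stabilizer G b := by
    rcases eq_or_lt_of_le hle with h | h
    · exact h
    · exact absurd (hmaxa.2 _ h) hmaxb.1
  -- a group element moving a to b
  obtain ⟨g, hg⟩ := MulAction.exists_smul_eq G a b
  have hgn : g ∈ Subgroup.normalizer (MulAction.stabilizer G a : Set G) := by
    rw [Subgroup.mem_normalizer_iff]
    intro h
    have h1 : MulAction.stabilizer G b = (MulAction.stabilizer G a).map (MulAut.conj g).toMonoidHom := by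
      rw [← hg]; exact MulAction.stabilizer_smul_eq_stabilizer_map_conj g a
    constructor
    · intro hh
      have : g * h * g⁻¹ ∈ MulAction.stabilizer G b := by
        rw [h1]
        exact ⟨h, hh, by simp [MulAut.conj_apply]⟩
      rwa [← heq] at this
    · intro hh
      rw [heq, h1] at hh
      obtain ⟨x, hx, hxe⟩ := hh
      simp only [MulEquiv.coe_toMonoidHom, MulAut.conj_apply] at hxe
      have : x = h := by
        have := congrArg (fun y => g⁻¹ * y * g) hxe
        simpa [mul_assoc] using this
      rwa [← this]
  have hgna : g ∉ MulAction.stabilizer G a := by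
    intro hga
    rw [MulAction.mem_stabilizer_iff] at hga
    exact hab (hga.symm.trans hg)
  have hnorm_top : Subgroup.normalizer (MulAction.stabilizer G a : Set G) = ⊤ := by
    have hle' : MulAction.stabilizer G a ≤ Subgroup.normalizer (MulAction.stabilizer G a : Set G) :=
      Subgroup.le_normalizer
    rcases eq_or_lt_of_le hle' with h | h
    · exact absurd (h ▸ hgn) hgna
    · exact hmaxa.2 _ h
  have hnormal : (MulAction.stabilizer G a).Normal := Subgroup.normalizer_eq_top_iff.mp hnorm_top
  have htriv : MulAction.stabilizer G a = ⊥ := by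
    rw [Subgroup.eq_bot_iff_forall]
    intro x hx
    apply FaithfulSMul.eq_of_smul_eq_smul (α := Ω)
    intro ω
    obtain ⟨k, hk⟩ := MulAction.exists_smul_eq G a ω
    rw [one_smul, ← hk]
    have hx' : k⁻¹ * x * k ∈ MulAction.stabilizer G a := by
      have := hnormal.conj_mem x hx k⁻¹
      simpa using this
    rw [MulAction.mem_stabilizer_iff] at hx'
    calc x • k • a = k • (k⁻¹ * x * k) • a := by simp [mul_smul]
      _ = k • a := by rw [hx']
  refine ⟨htriv, ?_⟩
  rw [htriv] at hmaxa
  exact cyclic_prime_of_isCoatom_bot hmaxa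

end Cfsg.Agent.S3683
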