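import Mathlib
import Cfsg.Statements.S3696

set_option autoImplicit false
open Cfsg

namespace Cfsg.Agent.S3696


/-- weighted AM–GM with natural weights, real version -/
theorem amgm_real (x y : ℝ) (hx : 0 ≤ x) (hy : 0 ≤ y) (a b : ℕ) :
    x ^ a * y ^ b * ((a + b : ℕ) : ℝ) ^ (a + b) ≤ (x + y) ^ (a + b) * ((a : ℝ) ^ a * (b : ℝ) ^ b) := by
  rcases Nat.eq_zero_or_pos a with ha | ha
  · subst ha
    simp only [pow_zero, one_mul, zero_add, Nat.cast_zero]
    have h := pow_le_pow_left₀ hy (by linarith : y ≤ x + y) b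
    have hb0 : (0 : ℝ) ≤ (b : ℝ) ^ b := by positivity
    nlinarith [mul_le_mul_of_nonneg_right h hb0]
  rcases Nat.eq_zero_or_pos b with hb | hb
  · subst hb
    simp only [pow_zero, mul_one, add_zero, Nat.cast_zero]
    have h := pow_le_pow_left₀ hx (by linarith : x ≤ x + y) a
    have ha0 : (0 : ℝ) ≤ (a : ℝ) ^ a := by positivity
    nlinarith [mul_le_mul_of_nonneg_right h ha0]
  have ha' : (0 : ℝ) < a := by exact_mod_cast ha
  have hb' : (0 : ℝ) < b := by exact_mod_cast hb
  have hab' : (0 : ℝ) < (a : ℝ) + b := by linarith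
  have key := Real.geom_mean_le_arith_mean2_weighted
    (w₁ := (a : ℝ) / (a + b)) (w₂ := (b : ℝ) / (a + b)) (p₁ := x / a) (p₂ := y / b)
    (by positivity) (by positivity) (by positivity) (by positivity)
    (by field_simp)
  have h1 : (a : ℝ) / (a + b) * (x / a) + (b : ℝ) / (a + b) * (y / b) = (x + y) / (a + b) := by
    field_simp
  rw [h1] at key
  have h2 : ((x / a) ^ ((a : ℝ) / (a + b)) * (y / b) ^ ((b : ℝ) / (a + b))) ^ (a + b)
      = (x / a) ^ a * (y / b) ^ b := by
    rw [mul_pow, ← Real.rpow_natCast, ← Real.rpow_natCast, ← Real.rpow_mul (by positivity),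
      ← Real.rpow_mul (by positivity)]
    have e1 : (a : ℝ) / (a + b) * ((a + b : ℕ) : ℝ) = a := by
      push_cast; field_simp
    have e2 : (b : ℝ) / (a + b) * ((a + b : ℕ) : ℝ) = b := by
      push_cast; field_simp
    rw [e1, e2, Real.rpow_natCast, Real.rpow_natCast]
  have h3 := pow_le_pow_left₀ (by positivity) key (a + b)
  rw [h2] at h3
  rw [div_pow, div_pow, div_pow] at h3
  have h4 : x ^ a / (a : ℝ) ^ a * (y ^ b / (b : ℝ) ^ b) = (x ^ a * y ^ b) / ((a : ℝ) ^ a * (b : ℝ) ^ b) := by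
    field_simp
  rw [h4, div_le_div_iff₀ (by positivity) (by positivity)] at h3
  push_cast
  linarith

/-- weighted AM–GM with natural weights, natural number version -/
theorem amgm_nat (x y a b : ℕ) :
    x ^ a * y ^ b * (a + b) ^ (a + b) ≤ (x + y) ^ (a + b) * (a ^ a * b ^ b) := by
  have := amgm_real (x : ℝ) (y : ℝ) (by positivity) (by positivity) a b
  exact_mod_cast this




theorem self_pow_pos (k : ℕ) : 0 < k ^ k := by
  rcases Nat.eq_zero_or_pos k with h | h
  · subst h; simp
  · exact Nat.pow_pos h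

theorem mul_pow_self_le (o j : ℕ) (hj : 1 ≤ j) (ho : 2 ^ j ≤ o) : o * j ^ j ≤ o ^ j := by
  obtain ⟨i, rfl⟩ : ∃ i, j = i + 1 := ⟨j - 1, by omega⟩
  have h1 : i + 1 ≤ 2 ^ i := Nat.lt_two_pow_self
  have h2 : (i + 1) ^ (i + 1) ≤ (2 ^ i) ^ (i + 1) := Nat.pow_le_pow_left h1 _
  have h3 : (2 ^ i) ^ (i + 1) = (2 ^ (i + 1)) ^ i := by
    rw [← pow_mul, ← pow_mul, mul_comm]
  have h4 : (2 ^ (i + 1)) ^ i ≤ o ^ i := Nat.pow_le_pow_left ho _
  calc o * (i + 1) ^ (i + 1) ≤ o * o ^ i := Nat.mul_le_mul_left _ (by omega)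
    _ = o ^ (i + 1) := by ring

theorem final_arith (n o K k' j : ℕ) (hj : 1 ≤ j) (ho : 2 ^ j ≤ o) (hon : o ≤ n)
    (hK : K * k' ^ k' ≤ (n - o) ^ k') : K * o * (k' + j) ^ (k' + j) ≤ n ^ (k' + j) := by
  have h1 := mul_pow_self_le o j hj ho
  have h2 := amgm_nat (n - o) o k' j
  rw [Nat.sub_add_cancel hon] at h2
  have hpos : 0 < k' ^ k' * j ^ j := Nat.mul_pos (self_pow_pos k') (self_pow_pos j)
  apply Nat.le_of_mul_le_mul_right _ hpos
  calc K * o * (k' + j) ^ (k' + j) * (k' ^ k' * j ^ j)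
      = (K * k' ^ k') * (o * j ^ j) * (k' + j) ^ (k' + j) := by ring
    _ ≤ (n - o) ^ k' * o ^ j * (k' + j) ^ (k' + j) := by
        apply Nat.mul_le_mul_right
        exact Nat.mul_le_mul hK h1
    _ ≤ n ^ (k' + j) * (k' ^ k' * j ^ j) := h2



universe u v

open MulAction


/-- complement of an orbit of `A`, as a `K`-set for `K ≤ A` -/
def complOrbit {A : Type u} [Group A] {Ω : Type v} [MulAction A Ω] (K : Subgroup A) (ω : Ω) :
    SubMulAction K Ω where
  carrier := (orbit A ω)ᶜ
  smul_mem' := by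
    intro g x hx hgx
    apply hx
    have h : x = (g : A)⁻¹ • ((g : A) • x) := by simp
    rw [h]
    exact MulAction.mem_orbit_of_mem_orbit _ hgx


theorem trivial_case (p : ℕ) [hp : Fact p.Prime] (A : Type u) [Group A] [Finite A]
    (hA : IsPGroup p A) (hk : Nat.card {x : A // x ^ p = 1} = 1) : Nat.card A = 1 := by
  by_contra hne
  obtain ⟨n, hn⟩ := IsPGroup.iff_card.mp hA
  have hn0 : n ≠ 0 := by
    rintro rfl
    exact hne (by simpa using hn)
  have hdvd : p ∣ Nat.card A := by
    rw [hn]; exact dvd_pow_self p hn0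
  obtain ⟨x, hx⟩ := exists_prime_orderOf_dvd_card' p hdvd
  have hx1 : x ≠ 1 := by
    rintro rfl
    rw [orderOf_one] at hx
    exact hp.out.one_lt.ne hx
  have hxp : x ^ p = 1 := by rw [← hx]; exact pow_orderOf_eq_one x
  have hsub : Subsingleton {x : A // x ^ p = 1} := by
    have : Finite {x : A // x ^ p = 1} := inferInstance
    exact (Nat.card_eq_one_iff_unique.mp hk).1
  have := Subsingleton.elim (⟨x, hxp⟩ : {x : A // x ^ p = 1}) ⟨1, one_pow p⟩
  exact hx1 (Subtype.ext_iff.mp this)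


theorem main (p : ℕ) [hp : Fact p.Prime] : ∀ (m : ℕ) (A : Type u) [CommGroup A] [Finite A]
    (Ω : Type v) [Finite Ω] [MulAction A Ω] [FaithfulSMul A Ω], Nat.card A = m → IsPGroup p A →
    ∀ k, Nat.card {x : A // x ^ p = 1} = p ^ k → m * k ^ k ≤ (Nat.card Ω) ^ k := by
  intro m
  induction m using Nat.strong_induction_on with
  | _ m ih =>
  intro A _ _ Ω _ _ _ hm hA k hk
  rcases Nat.eq_zero_or_pos k with hk0 | hkpos
  · subst hk0
    have := trivial_case p A hA (by simpa using hk)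
    simp [← hm, this]
  -- k ≥ 1
  set W : Subgroup A := (powMonoidHom p : A →* A).ker with hW
  have hWmem : ∀ x : A, x ∈ W ↔ x ^ p = 1 := by
    intro x; simp [hW, MonoidHom.mem_ker]
  have hWcard : Nat.card W = p ^ k := by
    rw [← hk]
    exact Nat.card_congr (Equiv.subtypeEquivRight hWmem)
  have hW1 : 1 < Nat.card W := by rw [hWcard]; exact Nat.one_lt_pow hkpos.ne' hp.out.one_lt
  obtain ⟨x, hx1⟩ : ∃ x : W, x ≠ 1 := by
    have := Finite.one_lt_card_iff_nontrivial.mp hW1
    exact exists_ne 1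
  obtain ⟨ω, hω⟩ : ∃ ω : Ω, (x : A) • ω ≠ ω := by
    by_contra h
    push Not at h
    apply hx1
    have : (x : A) = 1 := FaithfulSMul.eq_of_smul_eq_smul (α := Ω) (by intro a; simp [h a])
    exact Subtype.ext this
  set K : Subgroup A := stabilizer A ω with hKdef
  -- stabilizer in W
  have hWp : IsPGroup p W := hA.to_subgroup W
  obtain ⟨k', hk'⟩ := IsPGroup.iff_card.mp (hWp.to_subgroup (stabilizer W ω))
  obtain ⟨j, hj⟩ := hWp.index (stabilizer W ω)
  have hkk : k = k' + j := by
    have h1 := Subgroup.card_mul_index (stabilizer W ω)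
    rw [hk', hj, hWcard, ← pow_add] at h1
    exact (Nat.pow_right_injective hp.out.two_le h1).symm
  have hj1 : 1 ≤ j := by
    rcases Nat.eq_zero_or_pos j with h0 | h0
    · exfalso
      subst h0
      rw [pow_zero, Subgroup.index_eq_one] at hj
      have : x ∈ stabilizer W ω := by rw [hj]; trivial
      exact hω this
    · exact h0
  -- the equivalence
  have hKcard : Nat.card {y : K // y ^ p = 1} = p ^ k' := by
    rw [← hk']
    refine Nat.card_congr ?_
    exact
      { toFun := fun y => ⟨⟨(y.1 : A), (hWmem _).mpr (by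
            have := congrArg Subtype.val y.2; simpa using this)⟩, y.1.2⟩
        invFun := fun z => ⟨⟨(z.1 : A), z.2⟩, Subtype.ext (by simpa using (hWmem _).mp z.1.2)⟩
        left_inv := fun y => rfl
        right_inv := fun z => rfl }
  -- orbit sizes
  have ho1 : (orbit W ω).ncard = p ^ j := by rw [← hj, index_stabilizer]
  have ho2 : (orbit W ω).ncard ≤ (orbit A ω).ncard := by
    apply Set.ncard_le_ncard _ (Set.toFinite _)
    rintro _ ⟨w, rfl⟩
    exact ⟨(w : A), rfl⟩
  have ho3 : Nat.card K * (orbit A ω).ncard = m := by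
    rw [← hm, ← index_stabilizer]
    exact Subgroup.card_mul_index K
  have ho4 : 2 ^ j ≤ (orbit A ω).ncard := by
    refine le_trans ?_ ho2
    rw [ho1]
    exact Nat.pow_le_pow_left hp.out.two_le j
  have ho5 : (orbit A ω).ncard ≤ Nat.card Ω := Set.ncard_le_card _
  have hcompl : Nat.card (complOrbit K ω) = Nat.card Ω - (orbit A ω).ncard := by
    have h1 := Set.ncard_add_ncard_compl (orbit A ω)
    have h2 : Nat.card (complOrbit K ω) = ((orbit A ω)ᶜ).ncard := Nat.card_coe_set_eq _
    omega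
  have hKlt : Nat.card K < m := by
    have h2 : 2 ≤ (orbit A ω).ncard := by
      calc 2 = 2 ^ 1 := by norm_num
        _ ≤ 2 ^ j := Nat.pow_le_pow_right (by norm_num) hj1
        _ ≤ _ := ho4
    have hKpos : 0 < Nat.card K := Nat.card_pos
    nlinarith
  have hfaith : FaithfulSMul K (complOrbit K ω) := ⟨by
    intro g h hgh
    apply Subtype.ext
    apply FaithfulSMul.eq_of_smul_eq_smul (α := Ω)
    intro a
    by_cases ha : a ∈ orbit A ω
    · obtain ⟨b, rfl⟩ := ha
      have hg : (g : A) • ω = ω := g.2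
      have hh : (h : A) • ω = ω := h.2
      show (g : A) • (b • ω) = (h : A) • (b • ω)
      rw [smul_smul, mul_comm, ← smul_smul, hg, smul_smul, mul_comm, ← smul_smul, hh]
    · have := hgh ⟨a, ha⟩
      exact congrArg Subtype.val this⟩
  have hfin : Finite (complOrbit K ω) := Subtype.finite
  have hIH := ih (Nat.card K) hKlt K (complOrbit K ω) rfl (hA.to_subgroup K) k' hKcard
  rw [hcompl] at hIH
  rw [← ho3, hkk]
  exact final_arith _ _ _ _ _ hj1 ho4 ho5 hIH


/-- Let p be a prime, Ω a finite set with n ≥ p elements, and A an abelian p-subgroup of the symmetric group on Ω whose elements of order dividing p number p^k (so k is the rank of A). Then |A| · k^k ≤ n^k, that is, |A| ≤ (n/k)^k. -/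
theorem result {Ω : Type*} [Fintype Ω] [DecidableEq Ω]
    (p : ℕ) (hp : p.Prime) (hn : p ≤ Fintype.card Ω) (A : Subgroup (Equiv.Perm Ω)) (hA : IsPGroup p A) (hab : IsMulCommutative A)
    (k : ℕ) (hk : Nat.card {x : A // x ^ p = 1} = p ^ k) :
    Nat.card A * k ^ k ≤ Fintype.card Ω ^ k := by
  have hpf : Fact p.Prime := ⟨hp⟩
  let inst : CommGroup A := { (inferInstance : Group A) with mul_comm := fun a b => hab.is_comm.comm a b }
  have h := main p (Nat.card A) A Ω rfl hA k hk
  rw [Nat.card_eq_fintype_card (α := Ω)] at h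
  exact h

end Cfsg.Agent.S3696
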