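-- S3703 (helper35): Mazurov's lemma on Frobenius quotients with cyclic complement
import Cfsg.Statements.S3703
import Cfsg.Agent.Lib.Helper35.FrobStructure
import Cfsg.Agent.Lib.Helper35.NormLemma
import Cfsg.Agent.S0001
import Cfsg.Agent.S0023
import Cfsg.Agent.S0024

set_option autoImplicit false
set_option linter.unusedSectionVars false
open Cfsg

namespace Cfsg.Agent.S3703

open Cfsg.Agent.Lib.Helper35
open scoped Pointwise

section LemmaA

variable {G : Type*} [Group G]

/-- the functor `Aut P → Aut (P/P')` -/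
noncomputable def abFunctor (P : Type*) [Group P] : MulAut P →* MulAut (Abelianization P) where
  toFun e := e.abelianizationCongr
  map_one' := abelianizationCongr_refl
  map_mul' a b := (abelianizationCongr_trans b a).symm

/-- the action of the normalizer of `P` on the abelianization of `P` -/
noncomputable def abAct (P : Subgroup G) :
    ↥(Subgroup.normalizer (P : Set G)) →* MulAut (Abelianization ↥P) :=
  (abFunctor ↥P).comp P.normalizerMonoidHom

theorem abAct_of (P : Subgroup G) (g : ↥(Subgroup.normalizer (P : Set G))) (w : ↥P) :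
    abAct P g (Abelianization.of w) = Abelianization.of (P.normalizerMonoidHom g w) := rfl

theorem coe_normalizerMonoidHom (P : Subgroup G) (g : ↥(Subgroup.normalizer (P : Set G))) (w : ↥P) :
    ((P.normalizerMonoidHom g w : ↥P) : G) = (g : G) * w * (g : G)⁻¹ := rfl

/-- products of conjugates of `w` by powers of `x`, modulo the commutator subgroup -/
theorem prod_abAct_of (P : Subgroup G) (x : ↥(Subgroup.normalizer (P : Set G))) (w : ↥P) (m : ℕ) :
    ∃ u : ↥P, (u : G) = ((w : G) * (x : G)) ^ m * ((x : G) ^ m)⁻¹ ∧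
      ∏ j ∈ Finset.range m, abAct P (x ^ j) (Abelianization.of w) = Abelianization.of u := by
  induction m with
  | zero => exact ⟨1, by simp, by simp⟩
  | succ m ih =>
    obtain ⟨u, hu, hprod⟩ := ih
    refine ⟨u * P.normalizerMonoidHom (x ^ m) w, ?_, ?_⟩
    · rw [Subgroup.coe_mul, hu, coe_normalizerMonoidHom, Subgroup.coe_pow, pow_succ, pow_succ]
      group
    · rw [Finset.prod_range_succ, hprod, abAct_of, map_mul]

variable [Finite G]

/-- **Lemma A.** If all elements `w x` (`w ∈ P`) have `n`-th power `1`, where `F ⋊ ⟨x⟩` is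
Frobenius-like and acts coprimely on the solvable group `P`, then `F` centralizes `P`. -/
theorem centralizes_of_pow_eq_one (F : Subgroup G) (x : G)
    (hxF : ∀ k, k ∈ F ↔ x * k * x⁻¹ ∈ F) (n : ℕ) (hn : 0 < n)
    (hfpf : ∀ j, 0 < j → j < n → ∀ k ∈ F, k * x ^ j = x ^ j * k → k = 1) :
    ∀ (m : ℕ) (P : Subgroup G), Nat.card P = m → Group.IsSolvable ↥P →
      F ≤ Subgroup.normalizer (P : Set G) → x ∈ Subgroup.normalizer (P : Set G) →
      (Nat.card F).Coprime (Nat.card P) → (∀ w ∈ P, (w * x) ^ n = 1) →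
      ∀ f ∈ F, ∀ w ∈ P, f * w = w * f := by
  intro m
  induction m using Nat.strong_induction_on with
  | _ m ih =>
  intro P hm hsolv hFP hxP hcop hpow f hf w hw
  by_cases hP1 : P = ⊥
  · rw [hP1, Subgroup.mem_bot] at hw
    rw [hw, mul_one, one_mul]
  -- the derived subgroup
  have hnt : Nontrivial ↥P := (Subgroup.nontrivial_iff_ne_bot P).mpr hP1
  set P' : Subgroup G := (commutator ↥P).map P.subtype with hP'
  have hP'P : P' ≤ P := Subgroup.map_subtype_le _
  have hcardP' : Nat.card P' = Nat.card (commutator ↥P) :=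
    Subgroup.card_map_of_injective P.subtype_injective
  have hlt : Nat.card P' < m := by
    rw [hcardP', ← hm]
    have h1 : commutator ↥P < ⊤ := Group.IsSolvable.commutator_lt_top_of_nontrivial ↥P
    have h2 : Nat.card (commutator ↥P) ≠ Nat.card ↥P :=
      fun h => h1.ne ((Subgroup.card_eq_iff_eq_top _).mp h)
    have h3 : Nat.card (commutator ↥P) ≤ Nat.card ↥P := Subgroup.card_le_card_group _
    omega
  have hdvd : Nat.card P' ∣ Nat.card P := Subgroup.card_dvd_of_le hP'P
  have hnorm : Subgroup.normalizer (P : Set G) ≤ Subgroup.normalizer (P' : Set G) := by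
    intro g hg
    apply Subgroup.mem_normalizer_fintype
    rintro _ ⟨a, ha, rfl⟩
    have hchar : (commutator ↥P).Characteristic := inferInstance
    have := (SetLike.ext_iff.mp (hchar.fixed (P.normalizerMonoidHom ⟨g, hg⟩)) a).mpr ha
    exact ⟨_, this, rfl⟩
  have hsolv' : Group.IsSolvable ↥P' :=
    Group.isSolvable_of_isSolvable_injective (Subgroup.inclusion_injective hP'P)
  have hcent' : ∀ f ∈ F, ∀ a ∈ P', f * a = a * f :=
    ih _ hlt P' rfl hsolv' (hFP.trans hnorm) (hnorm hxP) (hcop.coprime_dvd_right hdvd)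
      (fun w hw => hpow w (hP'P hw))
  -- the norm lemma on the abelianization
  have hx1 : x ^ n = 1 := by
    have := hpow 1 P.one_mem
    rwa [one_mul] at this
  have hkey : ∀ f' ∈ F.subgroupOf (Subgroup.normalizer (P : Set G)),
      ∀ v : Abelianization ↥P, abAct P f' v = v := by
    apply norm_lemma (abAct P) (F.subgroupOf (Subgroup.normalizer (P : Set G))) ⟨x, hxP⟩ _ n hn
    · intro j hj0 hjn k hk hcomm
      apply Subtype.ext
      apply hfpf j hj0 hjn k (Subgroup.mem_subgroupOf.mp hk)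
      have := congrArg Subtype.val hcomm
      simpa using this
    · have h1 : Nat.card (F.subgroupOf (Subgroup.normalizer (P : Set G))) = Nat.card F :=
        Nat.card_congr (Subgroup.subgroupOfEquivOfLe hFP).toEquiv
      have h2 : Nat.card (Abelianization ↥P) ∣ Nat.card P :=
        Subgroup.card_quotient_dvd_card _
      rw [h1]
      exact hcop.coprime_dvd_right h2
    · intro v
      obtain ⟨w, rfl⟩ := QuotientGroup.mk_surjective v
      obtain ⟨u, hu, hprod⟩ := prod_abAct_of P ⟨x, hxP⟩ w n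
      have hu1 : u = 1 := by
        apply Subtype.ext
        rw [hu]
        show ((w : G) * x) ^ n * (x ^ n)⁻¹ = 1
        rw [hpow w w.2, hx1]; simp
      rw [hu1, map_one] at hprod
      exact hprod
    · intro k
      rw [Subgroup.mem_subgroupOf, Subgroup.mem_subgroupOf]
      exact hxF k
  -- `f w f⁻¹ = w a` with `a ∈ P'`
  have hfN : f ∈ Subgroup.normalizer (P : Set G) := hFP hf
  have h1 := hkey ⟨f, hfN⟩ (Subgroup.mem_subgroupOf.mpr hf) (Abelianization.of ⟨w, hw⟩)
  rw [abAct_of] at h1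
  have h2 : (P.normalizerMonoidHom ⟨f, hfN⟩ ⟨w, hw⟩)⁻¹ * ⟨w, hw⟩ ∈ commutator ↥P :=
    QuotientGroup.eq.mp h1
  set a : G := (f * w * f⁻¹)⁻¹ * w with ha
  have haP' : a ∈ P' := ⟨_, h2, rfl⟩
  have hfa : f * a = a * f := hcent' f hf a haP'
  have hfw : f * w * f⁻¹ = w * a⁻¹ := by rw [ha]; group
  have hpowf : ∀ i : ℕ, f ^ i * w * (f ^ i)⁻¹ = w * (a⁻¹) ^ i := by
    intro i
    induction i with
    | zero => simp
    | succ i ihi =>
      have hfa' : f * (a⁻¹) ^ i * f⁻¹ = (a⁻¹) ^ i := by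
        have : Commute f a := hfa
        have h3 : Commute f ((a⁻¹) ^ i) := (this.inv_right).pow_right i
        rw [h3.eq]; group
      calc f ^ (i + 1) * w * (f ^ (i + 1))⁻¹ = f * (f ^ i * w * (f ^ i)⁻¹) * f⁻¹ := by
            rw [pow_succ']; group
        _ = f * (w * (a⁻¹) ^ i) * f⁻¹ := by rw [ihi]
        _ = (f * w * f⁻¹) * (f * (a⁻¹) ^ i * f⁻¹) := by group
        _ = w * a⁻¹ * (a⁻¹) ^ i := by rw [hfw, hfa']
        _ = w * (a⁻¹) ^ (i + 1) := by rw [pow_succ']; group
  have h4 := hpowf (orderOf f)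
  rw [pow_orderOf_eq_one] at h4
  have h5 : (a⁻¹) ^ orderOf f = 1 := by
    have : w = w * (a⁻¹) ^ orderOf f := by simpa using h4
    exact (mul_eq_left.mp this.symm)   -- to check
  have h6 : orderOf a⁻¹ ∣ Nat.card F :=
    (orderOf_dvd_of_pow_eq_one h5).trans (Subgroup.orderOf_dvd_natCard F hf)
  have h7 : orderOf a⁻¹ ∣ Nat.card P :=
    Subgroup.orderOf_dvd_natCard P (P.inv_mem (hP'P haP'))
  have h8 : orderOf a⁻¹ = 1 := Nat.eq_one_of_dvd_coprimes hcop h6 h7
  rw [orderOf_eq_one_iff] at h8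
  rw [h8, mul_one] at hfw
  calc f * w = f * w * f⁻¹ * f := by group
    _ = w * f := by rw [hfw]

end LemmaA

section Main

variable {G : Type*} [Group G] [Finite G]

/-- **Lemma B.** If no element has order `p * n` with `p ∣ |N|`, every lift of an element of order
`n` of `G/N` has `n`-th power `1`. -/
theorem pow_eq_one_of_no_order (N : Subgroup G) [N.Normal] (n : ℕ) (hn : 0 < n)
    (hcon : ∀ p : ℕ, p.Prime → p ∣ Nat.card N → ∀ g : G, orderOf g ≠ p * n) (y : G)
    (hy : orderOf (QuotientGroup.mk' N y) = n) : y ^ n = 1 := by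
  by_contra hne
  have hzN : y ^ n ∈ N := by
    rw [← QuotientGroup.eq_one_iff, ← QuotientGroup.mk'_apply, map_pow, ← hy, pow_orderOf_eq_one]
  have hm1 : orderOf (y ^ n) ≠ 1 := fun h => hne (orderOf_eq_one_iff.mp h)
  obtain ⟨r, hr, hrm⟩ := Nat.exists_prime_and_dvd hm1
  have hrN : r ∣ Nat.card N := hrm.trans (Subgroup.orderOf_dvd_natCard N hzN)
  have hny : n ∣ orderOf y := hy ▸ orderOf_map_dvd (QuotientGroup.mk' N) y
  have hord : orderOf (y ^ n) = orderOf y / n := orderOf_pow_of_dvd hn.ne' hny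
  have hdvd : r * n ∣ orderOf y := by
    obtain ⟨t, ht⟩ := hny
    rw [hord, ht, Nat.mul_div_cancel_left _ hn] at hrm
    rw [ht, mul_comm r n]
    exact Nat.mul_dvd_mul_left n hrm
  exact hcon r hr hrN (y ^ (orderOf y / (r * n)))
    (orderOf_pow_orderOf_div (orderOf_pos y).ne' hdvd)

/-- **Lemma E.** A subgroup containing a Sylow `p`-subgroup of `N` for every prime `p` contains `N`. -/
theorem le_of_forall_sylow_le (N C : Subgroup G)
    (h : ∀ p : ℕ, ∀ _ : Fact p.Prime, ∃ P : Sylow p ↥N, (P : Subgroup ↥N).map N.subtype ≤ C) :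
    N ≤ C := by
  have hidx : (C.subgroupOf N).index = 1 := by
    rw [Nat.eq_one_iff_not_exists_prime_dvd]
    intro p hp hdvd
    have := Fact.mk hp
    obtain ⟨P, hP⟩ := h p this
    have hle : (P : Subgroup ↥N) ≤ C.subgroupOf N := by
      intro a ha
      rw [Subgroup.mem_subgroupOf]
      exact hP ⟨a, ha, rfl⟩
    have h1 := Subgroup.relIndex_mul_index hle
    apply P.not_dvd_index
    rw [← h1]
    exact dvd_mul_of_dvd_right hdvd _
  rw [Subgroup.index_eq_one] at hidx
  intro a ha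
  have : (⟨a, ha⟩ : ↥N) ∈ C.subgroupOf N := by rw [hidx]; trivial
  exact Subgroup.mem_subgroupOf.mp this

/-- **Lemma C.** Schur–Zassenhaus complement of `N` in the preimage of `Fb`, with the Frattini
argument. -/
theorem exists_complement_normalizer (N : Subgroup G) [N.Normal] (Fb : Subgroup (G ⧸ N))
    [Fb.Normal] (hcop : (Nat.card Fb).Coprime (Nat.card N)) (hsolv : Group.IsSolvable ↥Fb) :
    ∃ F₀ : Subgroup G, (∀ f ∈ F₀, f ∈ N → f = 1) ∧ (∀ f ∈ F₀, QuotientGroup.mk' N f ∈ Fb) ∧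
      (∀ y ∈ Fb, ∃ f ∈ F₀, QuotientGroup.mk' N f = y) ∧ Nat.card F₀ = Nat.card Fb ∧
      ∀ g : G, ∃ c ∈ N, c * g ∈ Subgroup.normalizer (F₀ : Set G) := by
  set K : Subgroup G := Fb.comap (QuotientGroup.mk' N) with hK
  have hKn : K.Normal := inferInstance
  have hNK : N ≤ K := fun a ha => by
    rw [hK, Subgroup.mem_comap]
    have : QuotientGroup.mk' N a = 1 := (QuotientGroup.eq_one_iff a).mpr ha
    rw [this]; exact Fb.one_mem
  let ψ : ↥K →* ↥Fb := ((QuotientGroup.mk' N).comp K.subtype).codRestrict Fb (fun k => k.2)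
  have hψsurj : Function.Surjective ψ := by
    rintro ⟨y, hy⟩
    obtain ⟨g, rfl⟩ := QuotientGroup.mk'_surjective N y
    exact ⟨⟨g, hy⟩, rfl⟩
  have hker : ∀ k : ↥K, k ∈ ψ.ker ↔ (k : G) ∈ N := by
    intro k
    rw [MonoidHom.mem_ker]
    constructor
    · intro h
      have : QuotientGroup.mk' N (k : G) = 1 := congrArg Subtype.val h
      exact (QuotientGroup.eq_one_iff _).mp this
    · intro h
      exact Subtype.ext ((QuotientGroup.eq_one_iff _).mpr h)
  have hidx : ψ.ker.index = Nat.card Fb := by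
    rw [Subgroup.index_ker, MonoidHom.range_eq_top.mpr hψsurj, Subgroup.card_top]
  have hcardker : Nat.card ψ.ker = Nat.card N := by
    have : ψ.ker.map K.subtype = N := by
      ext a
      constructor
      · rintro ⟨k, hk, rfl⟩
        exact (hker k).mp hk
      · intro ha
        exact ⟨⟨a, hNK ha⟩, (hker _).mpr ha, rfl⟩
    calc Nat.card ψ.ker = Nat.card (ψ.ker.map K.subtype) :=
          (Subgroup.card_map_of_injective K.subtype_injective).symm
      _ = Nat.card N := by rw [this]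
  have hcop' : (Nat.card ψ.ker).Coprime ψ.ker.index := by
    rw [hidx, hcardker]; exact hcop.symm
  obtain ⟨F₀', hF₀'⟩ := Subgroup.exists_right_complement'_of_coprime hcop'
  have hdisj := hF₀'.disjoint
  rw [Subgroup.disjoint_def] at hdisj
  refine ⟨F₀'.map K.subtype, ?_, ?_, ?_, ?_, ?_⟩
  · rintro _ ⟨k, hk, rfl⟩ hN
    have := hdisj ((hker k).mpr hN) hk
    rw [this]; rfl
  · rintro _ ⟨k, -, rfl⟩
    exact k.2
  · intro y hy
    obtain ⟨k, hk⟩ := hψsurj ⟨y, hy⟩
    obtain ⟨⟨⟨c, hc⟩, ⟨f, hf⟩⟩, hcf, -⟩ := hF₀'.existsUnique k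
    have hcf' : c * f = k := hcf
    refine ⟨(f : G), ⟨f, hf, rfl⟩, ?_⟩
    have h1 : ψ f = ψ k := by
      rw [← hcf', map_mul, MonoidHom.mem_ker.mp hc, one_mul]
    have h2 := congrArg Subtype.val (h1.trans hk)
    exact h2
  · rw [Subgroup.card_map_of_injective K.subtype_injective]
    have h1 := hF₀'.card_mul_card
    have h2 := ψ.ker.card_mul_index
    rw [← h2, hidx] at h1
    exact Nat.eq_of_mul_eq_mul_left Nat.card_pos h1
  · intro g
    have hF₁' : Subgroup.IsComplement' ψ.ker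
        (F₀'.map (MulAut.conjNormal g : MulAut ↥K).toMonoidHom) := by
      apply Subgroup.isComplement'_of_card_mul_and_disjoint
      · have hinj : Function.Injective ((MulAut.conjNormal g : MulAut ↥K).toMonoidHom) :=
          (MulAut.conjNormal g : MulAut ↥K).injective
        rw [Subgroup.card_map_of_injective hinj]
        exact hF₀'.card_mul_card
      · rw [Subgroup.disjoint_def]
        rintro _ hx ⟨k, hk, rfl⟩
        have h1 : ((MulAut.conjNormal g : MulAut ↥K) k : G) ∈ N := (hker _).mp hx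
        have h2 : (k : G) ∈ N := by
          have h3 : ((MulAut.conjNormal g : MulAut ↥K) k : G) = g * k * g⁻¹ := rfl
          rw [h3] at h1
          have := ‹N.Normal›.conj_mem _ h1 g⁻¹
          simpa [mul_assoc] using this
        have := hdisj ((hker k).mpr h2) hk
        rw [this, map_one]
    have hsolvK : Group.IsSolvable (↥K ⧸ ψ.ker) :=
      Group.isSolvable_of_isSolvable_injective
        (QuotientGroup.quotientKerEquivOfSurjective ψ hψsurj).injective
    obtain ⟨k, hk⟩ := Cfsg.Agent.S0001.result ψ.ker hcop' (Or.inr hsolvK) _ F₀' hF₁' hF₀'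
    obtain ⟨⟨⟨c, hc⟩, ⟨f, hf⟩⟩, hcf, -⟩ := hF₀'.existsUnique k⁻¹
    have hcf' : c * f = k⁻¹ := hcf
    refine ⟨((c⁻¹ : ↥K) : G), (hker _).mp (ψ.ker.inv_mem hc), ?_⟩
    apply Subgroup.mem_normalizer_fintype
    rintro _ ⟨a, ha, rfl⟩
    have h1 : (MulAut.conjNormal g : MulAut ↥K) a ∈
        F₀'.map (MulAut.conjNormal g : MulAut ↥K).toMonoidHom := Subgroup.mem_map_of_mem _ ha
    have h2 := Subgroup.smul_mem_pointwise_smul _ (MulAut.conj k) _ h1
    rw [hk, MulAut.smul_def, MulAut.conj_apply] at h2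
    have h3 : f * (k * (MulAut.conjNormal g : MulAut ↥K) a * k⁻¹) * f⁻¹ ∈ F₀' :=
      F₀'.mul_mem (F₀'.mul_mem hf h2) (F₀'.inv_mem hf)
    have hfk : f * k = c⁻¹ := by
      have : k = f⁻¹ * c⁻¹ := by
        rw [← inv_inv k, ← hcf']; group
      rw [this]; group
    have h4 : f * (k * (MulAut.conjNormal g : MulAut ↥K) a * k⁻¹) * f⁻¹
        = c⁻¹ * (MulAut.conjNormal g : MulAut ↥K) a * c := by
      have : k⁻¹ * f⁻¹ = c := by
        rw [← mul_inv_rev, hfk, inv_inv]
      calc f * (k * (MulAut.conjNormal g : MulAut ↥K) a * k⁻¹) * f⁻¹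
          = (f * k) * (MulAut.conjNormal g : MulAut ↥K) a * (k⁻¹ * f⁻¹) := by group
        _ = c⁻¹ * (MulAut.conjNormal g : MulAut ↥K) a * c := by rw [hfk, this]
    rw [h4] at h3
    refine ⟨_, h3, ?_⟩
    simp only [Subgroup.coe_subtype, Subgroup.coe_mul, Subgroup.coe_inv, MulAut.conjNormal_apply]
    group

/-- **Lemma D.** An `F₀`-invariant Sylow `p`-subgroup of `N` normalized by an `N`-translate of a
given element normalizing `F₀`. -/
theorem exists_sylow_normalized (N : Subgroup G) [N.Normal] (F₀ : Subgroup G)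
    (hsolv : Group.IsSolvable ↥F₀) (hcop : (Nat.card F₀).Coprime (Nat.card N)) (x₁ : G)
    (hx₁ : x₁ ∈ Subgroup.normalizer (F₀ : Set G)) (p : ℕ) [Fact p.Prime] :
    ∃ P : Sylow p ↥N, ∃ c ∈ N, c ∈ Subgroup.centralizer (F₀ : Set G) ∧
      F₀ ≤ Subgroup.normalizer (((P : Subgroup ↥N).map N.subtype : Subgroup G) : Set G) ∧
      c * x₁ ∈ Subgroup.normalizer (((P : Subgroup ↥N).map N.subtype : Subgroup G) : Set G) := by
  have hAK : F₀ ≤ Subgroup.normalizer (N : Set G) := by
    rw [Subgroup.normalizer_eq_top]; exact le_top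
  obtain ⟨P, hP⟩ := Cfsg.Agent.S0023.result F₀ N hAK hcop (Or.inl hsolv) p
  set Q : Sylow p ↥N := (MulAut.conjNormal x₁ : MulAut ↥N) • P with hQ
  have hQcoe : (Q : Subgroup ↥N) = (MulAut.conjNormal x₁ : MulAut ↥N) • (P : Subgroup ↥N) := rfl
  have hQF : F₀ ≤ Subgroup.normalizer (((Q : Subgroup ↥N).map N.subtype : Subgroup G) : Set G) := by
    intro f hf
    apply Subgroup.mem_normalizer_fintype
    rintro _ ⟨b, hb, rfl⟩
    rw [SetLike.mem_coe, hQcoe, Subgroup.mem_smul_pointwise_iff_exists] at hb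
    obtain ⟨a₀, ha₀, rfl⟩ := hb
    have hf' : x₁⁻¹ * f * x₁ ∈ F₀ := (Subgroup.mem_normalizer_iff''.mp hx₁ f).mp hf
    have h1 : (x₁⁻¹ * f * x₁) * (a₀ : G) * (x₁⁻¹ * f * x₁)⁻¹ ∈
        (P : Subgroup ↥N).map N.subtype :=
      (Subgroup.mem_normalizer_iff.mp (hP hf') _).mp ⟨a₀, ha₀, rfl⟩
    obtain ⟨a₁, ha₁, ha₁e⟩ := h1
    refine ⟨(MulAut.conjNormal x₁ : MulAut ↥N) • a₁, ?_, ?_⟩
    · rw [SetLike.mem_coe, hQcoe]
      exact Subgroup.smul_mem_pointwise_smul _ _ _ ha₁
    · have h2 : ((a₁ : ↥N) : G) = (x₁⁻¹ * f * x₁) * (a₀ : G) * (x₁⁻¹ * f * x₁)⁻¹ := ha₁e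
      simp only [MulAut.smul_def, Subgroup.coe_subtype, MulAut.conjNormal_apply, h2]
      group
  obtain ⟨c, hcF, hcQ⟩ := Cfsg.Agent.S0024.result F₀ N hAK hcop (Or.inl hsolv) p Q P hQF hP
  refine ⟨P, (c : G), c.2, hcF, hP, ?_⟩
  apply Subgroup.mem_normalizer_fintype
  rintro _ ⟨a, ha, rfl⟩
  have h1 : (MulAut.conjNormal x₁ : MulAut ↥N) • a ∈ (Q : Subgroup ↥N) := by
    rw [hQcoe]; exact Subgroup.smul_mem_pointwise_smul _ _ _ ha
  have h2 := Subgroup.smul_mem_pointwise_smul _ (MulAut.conj c) _ h1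
  have h3 : MulAut.conj c • (Q : Subgroup ↥N) = (P : Subgroup ↥N) := by
    rw [← Sylow.pointwise_smul_def, hcQ]
  rw [h3] at h2
  refine ⟨_, h2, ?_⟩
  simp only [MulAut.smul_def, MulAut.conj_apply, Subgroup.coe_subtype, Subgroup.coe_mul,
    Subgroup.coe_inv, MulAut.conjNormal_apply]
  group

/-- Let N be a normal subgroup of the finite group G such that G/N is a Frobenius group with kernel F and cyclic complement H, where the order of F is coprime to that of N and F is not contained in the image of C_G(N) in G/N. Then G has an element of order p·#H for some prime p dividing the order of N. (A standard tool in recognising groups by their element orders.) -/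
theorem result {G : Type*} [Group G] [Finite G] (N : Subgroup G) [N.Normal]
    (Fb Hb : Subgroup (G ⧸ N)) [Fb.Normal] (hHb : Cfsg.IsFrobeniusComplement Hb) (hker : Cfsg.frobeniusKernel Hb = (Fb : Set (G ⧸ N)))
    (hcyc : IsCyclic Hb) (hcop : (Nat.card Fb).Coprime (Nat.card N))
    (hnot : ¬ Fb ≤ (Subgroup.centralizer (N : Set G)).map (QuotientGroup.mk' N)) :
    ∃ p : ℕ, p.Prime ∧ p ∣ Nat.card N ∧ ∃ g : G, orderOf g = p * Nat.card Hb := by
  by_contra hcon0
  have hcon : ∀ p : ℕ, p.Prime → p ∣ Nat.card N → ∀ g : G, orderOf g ≠ p * Nat.card Hb := by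
    intro p hp hpN g hg
    exact hcon0 ⟨p, hp, hpN, g, hg⟩
  obtain ⟨-, hcompl, hnil, hFb1, hfpf, hcopHF⟩ := frobenius_data Hb Fb hHb hker
  have hn : 0 < Nat.card Hb := Nat.card_pos
  have hsolvFb : Group.IsSolvable ↥Fb := inferInstance
  obtain ⟨F₀, hF₀N, hF₀Fb, hF₀surj, hcardF₀, hfrat⟩ :=
    exists_complement_normalizer N Fb hcop hsolvFb
  -- a lift of a generator of the complement
  obtain ⟨hb, hhb⟩ := IsCyclic.exists_ofOrder_eq_natCard (α := Hb)
  have hhb' : orderOf (hb : G ⧸ N) = Nat.card Hb := by rw [Subgroup.orderOf_coe, hhb]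
  obtain ⟨x₀, hx₀⟩ := QuotientGroup.mk'_surjective N (hb : G ⧸ N)
  obtain ⟨c₁, hc₁N, hx₁⟩ := hfrat x₀
  have hπ : ∀ c ∈ N, ∀ g : G, QuotientGroup.mk' N (c * g) = QuotientGroup.mk' N g := by
    intro c hc g
    have h1 : QuotientGroup.mk' N c = 1 := (QuotientGroup.eq_one_iff c).mpr hc
    rw [map_mul, h1, one_mul]
  have hsolvF₀ : Group.IsSolvable ↥F₀ := by
    let θ : ↥F₀ →* ↥Fb :=
      ((QuotientGroup.mk' N).comp F₀.subtype).codRestrict Fb (fun f => hF₀Fb f f.2)
    apply Group.isSolvable_of_isSolvable_injective (f := θ)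
    rw [injective_iff_map_eq_one]
    intro f hf
    have : QuotientGroup.mk' N (f : G) = 1 := congrArg Subtype.val hf
    exact Subtype.ext (hF₀N f f.2 ((QuotientGroup.eq_one_iff _).mp this))
  have hcopF₀ : (Nat.card F₀).Coprime (Nat.card N) := by rw [hcardF₀]; exact hcop
  -- `F₀` centralizes an invariant Sylow subgroup for every prime
  have hcent : ∀ p : ℕ, ∀ _ : Fact p.Prime, ∃ P : Sylow p ↥N,
      (P : Subgroup ↥N).map N.subtype ≤ N ⊓ Subgroup.centralizer (F₀ : Set G) := by
    intro p hp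
    obtain ⟨P, c, hcN, hcF, hPF, hxP⟩ :=
      exists_sylow_normalized N F₀ hsolvF₀ hcopF₀ (c₁ * x₀) hx₁ p
    refine ⟨P, ?_⟩
    have hxπ : QuotientGroup.mk' N (c * (c₁ * x₀)) = hb := by
      rw [hπ c hcN, hπ c₁ hc₁N, hx₀]
    have hxF : c * (c₁ * x₀) ∈ Subgroup.normalizer (F₀ : Set G) :=
      (Subgroup.normalizer (F₀ : Set G)).mul_mem (Subgroup.centralizer_le_normalizer _ hcF) hx₁
    have hPN : (P : Subgroup ↥N).map N.subtype ≤ N := Subgroup.map_subtype_le _
    have hPp : IsPGroup p ↥((P : Subgroup ↥N).map N.subtype) := P.isPGroup'.map N.subtype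
    have hsolvP : Group.IsSolvable ↥((P : Subgroup ↥N).map N.subtype) := by
      have := hPp.isNilpotent
      infer_instance
    have hkey := centralizes_of_pow_eq_one F₀ (c * (c₁ * x₀))
      (fun k => Subgroup.mem_normalizer_iff.mp hxF k) (Nat.card Hb) hn
      (by
        intro j hj0 hjn k hk hcomm
        have h1 : QuotientGroup.mk' N k ∈ Fb ⊓ Subgroup.centralizer {(hb : G ⧸ N) ^ j} := by
          rw [Subgroup.mem_inf, Subgroup.mem_centralizer_singleton_iff]
          refine ⟨hF₀Fb k hk, ?_⟩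
          have := congrArg (QuotientGroup.mk' N) hcomm
          rw [map_mul, map_mul, map_pow, hxπ] at this
          exact this
        have h2 : (hb : G ⧸ N) ^ j ≠ 1 :=
          pow_ne_one_of_lt_orderOf hj0.ne' (by rw [hhb']; exact hjn)
        rw [hfpf _ (Hb.pow_mem hb.2 j) h2, Subgroup.mem_bot] at h1
        exact hF₀N k hk ((QuotientGroup.eq_one_iff _).mp h1))
      _ ((P : Subgroup ↥N).map N.subtype) rfl hsolvP hPF hxP
      (hcopF₀.coprime_dvd_right (Subgroup.card_dvd_of_le hPN))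
      (by
        intro w hw
        apply pow_eq_one_of_no_order N (Nat.card Hb) hn hcon
        rw [hπ w (hPN hw), hxπ]
        exact hhb')
    intro w hw
    refine ⟨hPN hw, ?_⟩
    change w ∈ Subgroup.centralizer (F₀ : Set G)
    rw [Subgroup.mem_centralizer_iff]
    intro f hf
    exact hkey f hf w hw
  have hNle := le_of_forall_sylow_le N (N ⊓ Subgroup.centralizer (F₀ : Set G)) hcent
  apply hnot
  intro y hy
  obtain ⟨f, hf, rfl⟩ := hF₀surj y hy
  refine ⟨f, ?_, rfl⟩
  rw [SetLike.mem_coe, Subgroup.mem_centralizer_iff]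
  intro h hh
  have h1 : h ∈ Subgroup.centralizer (F₀ : Set G) := (hNle hh).2
  rw [Subgroup.mem_centralizer_iff] at h1
  exact (h1 f hf).symm

end Main

end Cfsg.Agent.S3703
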