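import Cfsg.Statements.S3704
-- import your own Cfsg.Agent.* helpers here

set_option autoImplicit false
open Cfsg

namespace Cfsg.Agent.S3704

open Finset Matrix

section LA
variable {Ω Δ : Type*} [Fintype Ω] [Fintype Δ] [DecidableEq Ω]

/-- the linear combination map -/
noncomputable def comb (v : Ω → Δ → ℚ) : (Ω → ℚ) →ₗ[ℚ] (Δ → ℚ) where
  toFun c := fun δ => ∑ ω, c ω * v ω δ
  map_add' c d := by
    ext δ
    simp [add_mul, Finset.sum_add_distrib]
  map_smul' r c := by
    ext δ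
    simp [Finset.mul_sum, mul_assoc]

lemma comb_dot (v : Ω → Δ → ℚ) (c : Ω → ℚ) (y : Δ → ℚ) :
    comb v c ⬝ᵥ y = ∑ ω, c ω * (v ω ⬝ᵥ y) := by
  simp only [comb, LinearMap.coe_mk, AddHom.coe_mk, dotProduct, Finset.sum_mul, Finset.mul_sum]
  rw [Finset.sum_comm]
  apply Finset.sum_congr rfl; intro ω _
  apply Finset.sum_congr rfl; intro δ _
  ring

lemma comb_self (v : Ω → Δ → ℚ) (κ lam : ℚ)
    (hv : ∀ ω ω', v ω ⬝ᵥ v ω' = if ω = ω' then κ else lam) (c : Ω → ℚ) :
    comb v c ⬝ᵥ comb v c = lam * (∑ ω, c ω) ^ 2 + (κ - lam) * ∑ ω, c ω ^ 2 := by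
  rw [comb_dot]
  have h1 : ∀ ω, v ω ⬝ᵥ comb v c = ∑ ω', c ω' * (if ω' = ω then κ else lam) := by
    intro ω
    rw [dotProduct_comm, comb_dot]
    apply Finset.sum_congr rfl; intro ω' _
    rw [hv]
  simp only [h1]
  have h2 : ∀ ω, ∑ ω', c ω' * (if ω' = ω then κ else lam)
      = lam * (∑ ω', c ω') + (κ - lam) * c ω := by
    intro ω
    have : ∀ ω', c ω' * (if ω' = ω then κ else lam)
        = lam * c ω' + (if ω' = ω then (κ - lam) * c ω' else 0) := by
      intro ω'; split_ifs <;> ring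
    simp only [this, Finset.sum_add_distrib, Finset.sum_ite_eq', Finset.mem_univ, if_true,
      ← Finset.mul_sum]
  simp only [h2, mul_add, Finset.sum_add_distrib, ← Finset.mul_sum, ← Finset.sum_mul]
  have : ∑ i, c i * ((κ - lam) * c i) = (κ - lam) * ∑ i, c i ^ 2 := by
    rw [Finset.mul_sum]; apply Finset.sum_congr rfl; intro i _; ring
  rw [this]; ring

lemma ortho_zero (hcard : Fintype.card Ω = Fintype.card Δ)
    (v : Ω → Δ → ℚ) (κ lam : ℚ) (h0 : 0 ≤ lam) (hlt : lam < κ)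
    (hv : ∀ ω ω', v ω ⬝ᵥ v ω' = if ω = ω' then κ else lam)
    (x : Δ → ℚ) (hx : ∀ ω, x ⬝ᵥ v ω = 0) : x = 0 := by
  have hinj : Function.Injective (comb v) := by
    rw [← LinearMap.ker_eq_bot, LinearMap.ker_eq_bot']
    intro c hc
    have h1 := comb_self v κ lam hv c
    rw [hc] at h1
    simp only [dotProduct_zero] at h1
    have hs : ∑ ω, c ω ^ 2 = 0 := by
      have hnn : 0 ≤ ∑ ω, c ω ^ 2 := Finset.sum_nonneg (fun i _ => sq_nonneg _)
      have h2 : 0 ≤ lam * (∑ ω, c ω) ^ 2 := mul_nonneg h0 (sq_nonneg _)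
      have h3 : 0 < κ - lam := sub_pos.mpr hlt
      nlinarith
    rw [Finset.sum_eq_zero_iff_of_nonneg (fun i _ => sq_nonneg _)] at hs
    ext ω
    have := hs ω (Finset.mem_univ _)
    simpa using this
  have hfr : Module.finrank ℚ (Ω → ℚ) = Module.finrank ℚ (Δ → ℚ) := by
    simp [hcard]
  have hsurj : Function.Surjective (comb v) :=
    (LinearMap.injective_iff_surjective_of_finrank_eq_finrank hfr).mp hinj
  obtain ⟨c, rfl⟩ := hsurj x
  have : comb v c ⬝ᵥ comb v c = 0 := by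
    rw [comb_dot]
    apply Finset.sum_eq_zero
    intro ω _
    rw [dotProduct_comm, hx, mul_zero]
  exact dotProduct_self_eq_zero.mp this

/-- indicator vector -/
def ind (P : Δ → Prop) [DecidablePred P] : Δ → ℚ := fun δ => if P δ then 1 else 0

omit [Fintype Ω] [DecidableEq Ω] in
lemma ind_dot (P Q : Δ → Prop) [DecidablePred P] [DecidablePred Q] :
    ind P ⬝ᵥ ind Q = (#{δ | P δ ∧ Q δ} : ℚ) := by
  simp only [dotProduct, ind]
  rw [← Finset.sum_boole]
  apply Finset.sum_congr rfl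
  intro δ _
  by_cases hp : P δ <;> by_cases hq : Q δ <;> simp [hp, hq]

omit [Fintype Ω] [DecidableEq Ω] in
lemma one_dot (Q : Δ → Prop) [DecidablePred Q] :
    (fun _ => (1 : ℚ)) ⬝ᵥ ind Q = (#{δ | Q δ} : ℚ) := by
  simp only [dotProduct, ind]
  rw [← Finset.sum_boole]
  apply Finset.sum_congr rfl
  intro δ _
  simp

lemma cover_of_counts (hcard : Fintype.card Ω = Fintype.card Δ)
    (P Q : Ω → Δ → Prop) [∀ ω, DecidablePred (P ω)] [∀ ω, DecidablePred (Q ω)]
    (hdisj : ∀ ω δ, ¬ (P ω δ ∧ Q ω δ))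
    (κ lam μ : ℕ) (hlt : lam < κ)
    (hκ : ∀ ω, #{δ | P ω δ} = κ)
    (hlam : ∀ ω ω', ω ≠ ω' → #{δ | P ω δ ∧ P ω' δ} = lam)
    (hμ : ∀ ω ω', ω ≠ ω' → #{δ | Q ω δ ∧ P ω' δ} = μ)
    (hQ : ∃ ω δ, Q ω δ) : ∀ ω δ, P ω δ ∨ Q ω δ := by
  -- Gram relations
  have hv : ∀ ω ω', ind (P ω) ⬝ᵥ ind (P ω') = if ω = ω' then (κ : ℚ) else (lam : ℚ) := by
    intro ω ω'
    rw [ind_dot]
    split_ifs with h
    · subst h
      have : #{δ | P ω δ ∧ P ω δ} = κ := by
        rw [← hκ ω]; congr 1; ext δ; simp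
      exact_mod_cast this
    · exact_mod_cast hlam ω ω' h
  have hκlam : (lam : ℚ) < κ := by exact_mod_cast hlt
  have hd : (0 : ℚ) < (κ : ℚ) - lam := sub_pos.mpr hκlam
  set a : ℚ := (μ : ℚ) / ((κ : ℚ) - lam) with ha
  -- the key vector identity
  have hkey : ∀ ω, ind (Q ω) - a • ((fun _ => (1 : ℚ)) - ind (P ω)) = 0 := by
    intro ω
    apply ortho_zero hcard (fun ω => ind (P ω)) κ lam (by positivity) hκlam hv
    intro ω'
    simp only [sub_dotProduct, smul_dotProduct, smul_eq_mul]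
    rw [ind_dot, one_dot, hv, hκ]
    by_cases h : ω = ω'
    · subst h
      have : #{δ | Q ω δ ∧ P ω δ} = 0 := by
        rw [Finset.card_eq_zero, Finset.filter_eq_empty_iff]
        intro δ _ hh
        exact hdisj ω δ ⟨hh.2, hh.1⟩
      rw [this, if_pos rfl]; simp
    · rw [hμ ω ω' h, if_neg h, ha]
      field_simp
      ring
  intro ω δ
  by_contra hcon
  push Not at hcon
  have h1 := congrFun (hkey ω) δ
  simp only [Pi.sub_apply, Pi.smul_apply, smul_eq_mul, ind, if_neg hcon.1, if_neg hcon.2,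
    Pi.zero_apply] at h1
  have ha0 : a = 0 := by linarith
  -- then Q is empty
  obtain ⟨ω₀, δ₀, hq⟩ := hQ
  have h2 := congrFun (hkey ω₀) δ₀
  simp only [Pi.sub_apply, Pi.smul_apply, smul_eq_mul, ind, if_pos hq, ha0,
    Pi.zero_apply] at h2
  norm_num at h2

end LA

section Grp
variable {G Ω : Type*} [Group G] [MulAction G Ω] (H : Subgroup G)

/-- the relation on `Ω × G/H` attached to a subset of `Ω` -/
def rel (O : Set Ω) (ω : Ω) (δ : G ⧸ H) : Prop := (δ.out)⁻¹ • ω ∈ O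

variable {H}

lemma rel_mk {O : Set Ω} (hO : ∀ g ∈ H, ∀ ω, g • ω ∈ O ↔ ω ∈ O) (ω : Ω) (g : G) :
    rel H O ω (g : G ⧸ H) ↔ g⁻¹ • ω ∈ O := by
  obtain ⟨h, hh⟩ := QuotientGroup.mk_out_eq_mul H g
  unfold rel
  rw [hh, _root_.mul_inv_rev, mul_smul]
  exact hO _ (H.inv_mem h.2) _

lemma rel_smul {O : Set Ω} (hO : ∀ g ∈ H, ∀ ω, g • ω ∈ O ↔ ω ∈ O) (x : G) (ω : Ω) (δ : G ⧸ H) :
    rel H O (x • ω) (x • δ) ↔ rel H O ω δ := by
  induction δ using QuotientGroup.induction_on with
  | H g =>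
    rw [MulAction.Quotient.smul_mk, rel_mk hO, rel_mk hO, smul_eq_mul, _root_.mul_inv_rev, mul_smul, inv_smul_smul]

lemma count_smul [Fintype (G ⧸ H)] {O O' : Set Ω} (hO : ∀ g ∈ H, ∀ ω, g • ω ∈ O ↔ ω ∈ O)
    (hO' : ∀ g ∈ H, ∀ ω, g • ω ∈ O' ↔ ω ∈ O')
    [∀ ω, DecidablePred (rel H O ω)] [∀ ω, DecidablePred (rel H O' ω)] (x : G) (ω ω' : Ω) :
    #{δ | rel H O (x • ω) δ ∧ rel H O' (x • ω') δ} = #{δ | rel H O ω δ ∧ rel H O' ω' δ} := by
  symm
  apply Finset.card_bij (fun δ _ => x • δ)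
  · intro δ hδ
    simp only [Finset.mem_filter, Finset.mem_univ, true_and] at hδ ⊢
    exact ⟨(rel_smul hO x ω δ).mpr hδ.1, (rel_smul hO' x ω' δ).mpr hδ.2⟩
  · intro δ _ δ' _ h
    exact MulAction.injective x h
  · intro δ hδ
    simp only [Finset.mem_filter, Finset.mem_univ, true_and] at hδ
    refine ⟨x⁻¹ • δ, ?_, by simp⟩
    simp only [Finset.mem_filter, Finset.mem_univ, true_and]
    constructor
    · have := (rel_smul hO x ω (x⁻¹ • δ))
      rw [smul_inv_smul] at this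
      exact this.mp hδ.1
    · have := (rel_smul hO' x ω' (x⁻¹ • δ))
      rw [smul_inv_smul] at this
      exact this.mp hδ.2

end Grp


/-- Let G be a finite group acting faithfully and 2-transitively on a finite set Ω of size n, and let H be a subgroup of index n in G which is not transitive on Ω and fixes no point of Ω. Then H has exactly two orbits on Ω. -/
theorem result {G Ω : Type*} [Group G] [Finite G] [MulAction G Ω] [FaithfulSMul G Ω] [Finite Ω] (h2 : MulAction.IsMultiplyPretransitive G Ω 2) (H : Subgroup G) (hidx : H.index = Nat.card Ω) (hnt : ¬ MulAction.IsPretransitive H Ω) (hfix : ∀ a : Ω, ∃ h : H, h • a ≠ a) : Nat.card (MulAction.orbitRel.Quotient H Ω) = 2 := by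
  classical
  have : Fintype Ω := Fintype.ofFinite Ω
  have : Fintype (G ⧸ H) := Fintype.ofFinite _
  have htrans : MulAction.IsPretransitive G Ω := MulAction.isPretransitive_of_is_two_pretransitive
  rw [MulAction.is_two_pretransitive_iff] at h2
  -- two points in different orbits
  have hab : ∃ a b : Ω, b ∉ MulAction.orbit H a := by
    by_contra hcon
    push Not at hcon
    apply hnt
    constructor
    intro a b
    exact hcon a b
  obtain ⟨a, b, hb⟩ := hab
  have hne : a ≠ b := by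
    rintro rfl
    exact hb (MulAction.mem_orbit_self _)
  -- invariance of orbits
  have hinv : ∀ c : Ω, ∀ g ∈ H, ∀ ω, g • ω ∈ MulAction.orbit H c ↔ ω ∈ MulAction.orbit H c := by
    intro c g hg ω
    have : g • ω = (⟨g, hg⟩ : H) • ω := rfl
    rw [this, ← MulAction.orbit_eq_iff, ← MulAction.orbit_eq_iff, MulAction.orbit_smul]
  set O₁ : Set Ω := MulAction.orbit H a
  set O₂ : Set Ω := MulAction.orbit H b
  have hO₁ := hinv a
  have hO₂ := hinv b
  have hcard : Fintype.card Ω = Fintype.card (G ⧸ H) := by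
    rw [← Nat.card_eq_fintype_card, ← Nat.card_eq_fintype_card, ← hidx]; rfl
  have hdisjO : ∀ ω, ¬ (ω ∈ O₁ ∧ ω ∈ O₂) := by
    rintro ω ⟨h1, h2'⟩
    apply hb
    have e1 : MulAction.orbit H ω = MulAction.orbit H a := MulAction.orbit_eq_iff.mpr h1
    have e2 : MulAction.orbit H ω = MulAction.orbit H b := MulAction.orbit_eq_iff.mpr h2'
    show b ∈ MulAction.orbit H a
    rw [← e1, e2]
    exact MulAction.mem_orbit_self _
  have hcover : ∀ ω δ, rel H O₁ ω δ ∨ rel H O₂ ω δ := by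
    apply cover_of_counts hcard (rel H O₁) (rel H O₂)
      (fun ω δ h => hdisjO _ h)
      (#{δ | rel H O₁ a δ}) (#{δ | rel H O₁ a δ ∧ rel H O₁ b δ})
      (#{δ | rel H O₂ a δ ∧ rel H O₁ b δ})
    · -- strictness
      apply Finset.card_lt_card
      rw [Finset.ssubset_iff_of_subset (fun δ hδ => by
        simp only [Finset.mem_filter, Finset.mem_univ, true_and] at hδ ⊢; exact hδ.1)]
      refine ⟨((1 : G) : G ⧸ H), ?_, ?_⟩
      · simp only [Finset.mem_filter, Finset.mem_univ, true_and]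
        rw [rel_mk hO₁]; simp [O₁]
      · simp only [Finset.mem_filter, Finset.mem_univ, true_and, not_and]
        intro _
        rw [rel_mk hO₁]; simpa [O₁] using hb
    · intro ω
      obtain ⟨x, rfl⟩ := MulAction.exists_smul_eq G a ω
      have := count_smul hO₁ hO₁ x a a
      simpa using this
    · intro ω ω' hωω'
      obtain ⟨x, rfl, rfl⟩ := h2 hne hωω'
      exact count_smul hO₁ hO₁ x a b
    · intro ω ω' hωω'
      obtain ⟨x, rfl, rfl⟩ := h2 hne hωω'
      exact count_smul hO₂ hO₁ x a b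
    · refine ⟨b, ((1 : G) : G ⧸ H), ?_⟩
      rw [rel_mk hO₂]; simp [O₂]
  have hcov : ∀ ω, ω ∈ O₁ ∨ ω ∈ O₂ := by
    intro ω
    rcases hcover ω ((1 : G) : G ⧸ H) with h | h
    · left; rw [rel_mk hO₁] at h; simpa using h
    · right; rw [rel_mk hO₂] at h; simpa using h
  rw [Nat.card_eq_two_iff]
  refine ⟨Quotient.mk'' a, Quotient.mk'' b, ?_, ?_⟩
  · intro h
    apply hb
    have := Quotient.exact' h
    exact (MulAction.orbitRel_apply.mp (Setoid.symm' _ this))
  · rw [Set.eq_univ_iff_forall]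
    intro q
    induction q using Quotient.inductionOn' with
    | h ω =>
      rcases hcov ω with h | h
      · left
        exact Quotient.sound' (MulAction.orbitRel_apply.mpr h)
      · right
        exact Quotient.sound' (MulAction.orbitRel_apply.mpr h)


end Cfsg.Agent.S3704
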