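import Cfsg.Statements.S3707
-- import your own Cfsg.Agent.* helpers here

set_option autoImplicit false
open Cfsg

namespace Cfsg.Agent.S3707

/-- A linear space with lines of size `k ≥ 3` cannot coexist with a "subspace-like" set `D`
whose complement is small. -/
lemma linear_space_contra {Ω : Type*} [Finite Ω] (L : Set (Set Ω)) (k : ℕ) (hk : 3 ≤ k)
    (hLk : ∀ l ∈ L, l.ncard = k)
    (hline : ∀ a b : Ω, a ≠ b → ∃ l ∈ L, a ∈ l ∧ b ∈ l)
    (huniq : ∀ l ∈ L, ∀ l' ∈ L, ∀ a b : Ω, a ≠ b → a ∈ l → b ∈ l → a ∈ l' → b ∈ l' → l = l')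
    (hkn : k < Nat.card Ω)
    (D : Set Ω) (hD2 : 2 ≤ Dᶜ.ncard) (hDn : 2 * Dᶜ.ncard ≤ Nat.card Ω)
    (hsub : ∀ l ∈ L, ¬ (Dᶜ ⊆ l) → ∀ a b : Ω, a ≠ b → a ∈ l → a ∈ D → b ∈ l → b ∈ D → l ⊆ D) :
    False := by
  classical
  obtain ⟨γ, γ', hγ, hγ', hγγ'⟩ := (Set.one_lt_ncard_iff (Set.toFinite _)).mp hD2
  by_cases hB : ∃ l₁ ∈ L, Dᶜ ⊆ l₁
  · -- case B
    obtain ⟨l₁, hl₁, hsub₁⟩ := hB
    have hne : l₁ ≠ Set.univ := by
      intro h
      have := hLk l₁ hl₁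
      rw [h, Set.ncard_univ] at this
      omega
    obtain ⟨ω, hω⟩ := (Set.ne_univ_iff_exists_notMem l₁).mp hne
    have hγω : γ ≠ ω := fun h => hω (h ▸ hsub₁ hγ)
    obtain ⟨l, hl, hγl, hωl⟩ := hline γ ω hγω
    have hll₁ : l ≠ l₁ := fun h => hω (h ▸ hωl)
    have hnot : ¬ (Dᶜ ⊆ l) := by
      intro h
      exact hll₁ (huniq l hl l₁ hl₁ γ γ' hγγ' hγl (h hγ') (hsub₁ hγ) (hsub₁ hγ'))
    -- two more points on l
    have hcard : 1 < (l \ {γ}).ncard := by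
      have := Set.ncard_sdiff_singleton_of_mem hγl
      rw [hLk l hl] at this
      omega
    obtain ⟨a, b, ha, hb, hab⟩ := (Set.one_lt_ncard_iff (Set.toFinite _)).mp hcard
    have haD : a ∈ D := by
      by_contra h
      exact hll₁ (huniq l hl l₁ hl₁ a γ ha.2 ha.1 hγl (hsub₁ h) (hsub₁ hγ))
    have hbD : b ∈ D := by
      by_contra h
      exact hll₁ (huniq l hl l₁ hl₁ b γ hb.2 hb.1 hγl (hsub₁ h) (hsub₁ hγ))
    exact hγ (hsub l hl hnot a b hab ha.1 haD hb.1 hbD hγl)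
  · -- case A
    push Not at hB
    have hex : ∀ δ ∈ D, ∃ p : Ω, p ∈ Dᶜ \ {γ} ∧ ∃ l ∈ L, γ ∈ l ∧ δ ∈ l ∧ p ∈ l ∧ p ≠ δ := by
      intro δ hδ
      have hγδ : γ ≠ δ := fun h => hγ (h ▸ hδ)
      obtain ⟨l, hl, hγl, hδl⟩ := hline γ δ hγδ
      have hcard : 0 < ((l \ {γ}) \ {δ}).ncard := by
        have h1 := Set.ncard_sdiff_singleton_of_mem hγl
        have h2 : δ ∈ l \ {γ} := ⟨hδl, fun h => hγδ h.symm⟩
        have h3 := Set.ncard_sdiff_singleton_of_mem h2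
        rw [hLk l hl] at h1
        omega
      obtain ⟨p, hp⟩ := (Set.ncard_pos (Set.toFinite _)).mp hcard
      have hpD : p ∉ D := by
        intro h
        exact hγ (hsub l hl (hB l hl) δ p (fun h' => hp.2 h'.symm) hδl hδ hp.1.1 h hγl)
      exact ⟨p, ⟨hpD, hp.1.2⟩, l, hl, hγl, hδl, hp.1.1, hp.2⟩
    choose! f hf using hex
    have hinj : Set.InjOn f D := by
      intro δ hδ δ' hδ' heq
      by_contra hne
      obtain ⟨_, l, hl, hγl, hδl, hpl, _⟩ := hf δ hδ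
      obtain ⟨_, l', hl', hγl', hδl', hpl', _⟩ := hf δ' hδ'
      have hpγ : f δ ≠ γ := (hf δ hδ).1.2
      have : l = l' := huniq l hl l' hl' (f δ) γ hpγ hpl hγl (heq ▸ hpl') hγl'
      subst this
      exact hγ (hsub l hl (hB l hl) δ δ' hne hδl hδ hδl' hδ' hγl)
    have hle : D.ncard ≤ (Dᶜ \ {γ}).ncard :=
      Set.ncard_le_ncard_of_injOn f (fun δ hδ => (hf δ hδ).1) hinj (Set.toFinite _)
    have h1 := Set.ncard_sdiff_singleton_of_mem hγ
    have h2 := Set.ncard_add_ncard_compl D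
    omega

section Grp
open Pointwise
variable (G : Type*) {Ω : Type*} [Group G] [MulAction G Ω]

/-- `D` is a Jordan complement: its pointwise stabilizer is transitive outside `D`. -/
def JC (D : Set Ω) : Prop :=
  ∀ x, x ∉ D → ∀ y, y ∉ D → ∃ g : G, (∀ z ∈ D, g • z = z) ∧ g • x = y

variable {G}

lemma JC.smul {D : Set Ω} (h : JC G D) (x : G) : JC G (x • D) := by
  intro a ha b hb
  rw [Set.mem_smul_set_iff_inv_smul_mem] at ha hb
  obtain ⟨g, hg, hgab⟩ := h _ ha _ hb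
  refine ⟨x * g * x⁻¹, ?_, ?_⟩
  · intro z hz
    rw [Set.mem_smul_set_iff_inv_smul_mem] at hz
    rw [mul_smul, mul_smul, hg _ hz, smul_inv_smul]
  · rw [mul_smul, mul_smul, hgab, smul_inv_smul]

lemma JC.inter {D₁ D₂ : Set Ω} (h₁ : JC G D₁) (h₂ : JC G D₂) (hne : D₁ ∪ D₂ ≠ Set.univ) :
    JC G (D₁ ∩ D₂) := by
  obtain ⟨a, ha⟩ := (Set.ne_univ_iff_exists_notMem _).mp hne
  rw [Set.mem_union, not_or] at ha
  have key : ∀ x, x ∉ D₁ ∩ D₂ → ∃ g : G, (∀ z ∈ D₁ ∩ D₂, g • z = z) ∧ g • a = x := by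
    intro x hx
    rw [Set.mem_inter_iff, not_and_or] at hx
    rcases hx with hx | hx
    · obtain ⟨g, hg, hgx⟩ := h₁ a ha.1 x hx
      exact ⟨g, fun z hz => hg z hz.1, hgx⟩
    · obtain ⟨g, hg, hgx⟩ := h₂ a ha.2 x hx
      exact ⟨g, fun z hz => hg z hz.2, hgx⟩
  intro x hx y hy
  obtain ⟨gx, hgx, hgxa⟩ := key x hx
  obtain ⟨gy, hgy, hgya⟩ := key y hy
  refine ⟨gy * gx⁻¹, ?_, ?_⟩
  · intro z hz
    rw [mul_smul]
    have : gx⁻¹ • z = z := by rw [inv_smul_eq_iff, hgx z hz]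
    rw [this, hgy z hz]
  · rw [mul_smul, ← hgxa, inv_smul_smul, hgya]

lemma exists_JC_pair [Finite Ω]
    (h2 : ∀ {a b c d : Ω}, a ≠ b → c ≠ d → ∃ g : G, g • a = c ∧ g • b = d)
    (D₀ : Set Ω) (hJ : JC G D₀) (hD2 : 2 ≤ D₀ᶜ.ncard) (hDn : 2 * D₀ᶜ.ncard ≤ Nat.card Ω) :
    ∃ D : Set Ω, JC G D ∧ D.ncard = 2 := by
  classical
  have hn₀ := Set.ncard_add_ncard_compl D₀
  have hex : ∃ k, ∃ D : Set Ω, JC G D ∧ 2 ≤ D.ncard ∧ D.ncard = k :=
    ⟨D₀.ncard, D₀, hJ, by omega, rfl⟩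
  obtain ⟨D, hJD, hD2', hDk⟩ := Nat.find_spec hex
  set k := Nat.find hex with hkdef
  have hmin : ∀ D' : Set Ω, JC G D' → 2 ≤ D'.ncard → k ≤ D'.ncard := by
    intro D' h1 h2'
    exact Nat.find_min' hex ⟨D', h1, h2', rfl⟩
  by_cases hk2 : k = 2
  · exact ⟨D, hJD, by rw [hDk, hk2]⟩
  exfalso
  have hk3 : 3 ≤ k := by omega
  have hkD₀ : k ≤ D₀.ncard := hmin D₀ hJ (by omega)
  have hnD := Set.ncard_add_ncard_compl D
  -- Step 0
  have step0 : ∀ x y : G, x • D ≠ y • D → x • D ∪ y • D ≠ Set.univ →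
      (x • D ∩ y • D).ncard ≤ 1 := by
    intro x y hxy hU
    by_contra hcon
    push Not at hcon
    have hJ' : JC G (x • D ∩ y • D) := (hJD.smul x).inter (hJD.smul y) hU
    have h1 := hmin _ hJ' hcon
    have h2' : (x • D ∩ y • D).ncard ≤ (x • D).ncard :=
      Set.ncard_le_ncard Set.inter_subset_left (Set.toFinite _)
    have h3 : (x • D).ncard = k := by rw [Set.ncard_smul_set, hDk]
    have h4 : (y • D).ncard = k := by rw [Set.ncard_smul_set, hDk]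
    have h5 : x • D ∩ y • D = x • D :=
      Set.eq_of_subset_of_ncard_le Set.inter_subset_left (by omega) (Set.toFinite _)
    have h6 : x • D ⊆ y • D := by rw [← h5]; exact Set.inter_subset_right
    exact hxy (Set.eq_of_subset_of_ncard_le h6 (by omega) (Set.toFinite _))
  -- Step 1 : 2 * k ≤ n
  have step1 : 2 * k ≤ Nat.card Ω := by
    have hΓ : 1 < Dᶜ.ncard := by omega
    obtain ⟨γ₁, γ₂, hγ₁, hγ₂, hγ⟩ := (Set.one_lt_ncard_iff (Set.toFinite _)).mp hΓ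
    have hDpos : 0 < D.ncard := by omega
    obtain ⟨δ, hδ⟩ := (Set.ncard_pos (Set.toFinite _)).mp hDpos
    have hγδ : γ₁ ≠ δ := fun h => hγ₁ (h ▸ hδ)
    obtain ⟨g, hg1, hg2⟩ := h2 hγ hγδ
    have hγ₁g : γ₁ ∉ g • D := by
      rw [Set.mem_smul_set_iff_inv_smul_mem]
      have : g⁻¹ • γ₁ = γ₁ := by rw [inv_smul_eq_iff, hg1]
      rw [this]; exact hγ₁
    have hδg : δ ∉ g • D := by
      rw [Set.mem_smul_set_iff_inv_smul_mem]
      have : g⁻¹ • δ = γ₂ := by rw [inv_smul_eq_iff, hg2]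
      rw [this]; exact hγ₂
    have hne : (1 : G) • D ≠ g • D := by
      rw [one_smul]
      intro h
      exact hδg (h ▸ hδ)
    have hU : (1 : G) • D ∪ g • D ≠ Set.univ := by
      rw [one_smul]
      intro h
      have : γ₁ ∈ D ∪ g • D := h ▸ Set.mem_univ _
      rcases this with h' | h'
      · exact hγ₁ h'
      · exact hγ₁g h'
    have h0 := step0 1 g hne hU
    have h1 := Set.ncard_union_add_ncard_inter ((1 : G) • D) (g • D)
    have h3 : ((1 : G) • D).ncard = k := by rw [Set.ncard_smul_set, hDk]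
    have h4 : (g • D).ncard = k := by rw [Set.ncard_smul_set, hDk]
    have h5 : ((1 : G) • D ∪ g • D).ncard < Nat.card Ω := by
      rw [← Set.ncard_univ]
      exact Set.ncard_lt_ncard (Set.ssubset_univ_iff.mpr hU) (Set.toFinite _)
    omega
  -- Step 2
  have step2 : ∀ x y : G, x • D ≠ y • D → (x • D ∩ y • D).ncard ≤ 1 := by
    intro x y hxy
    by_cases hU : x • D ∪ y • D = Set.univ
    · have h1 := Set.ncard_union_add_ncard_inter (x • D) (y • D)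
      rw [hU, Set.ncard_univ, Set.ncard_smul_set, Set.ncard_smul_set, hDk] at h1
      omega
    · exact step0 x y hxy hU
  apply linear_space_contra {l | ∃ x : G, l = x • D} k hk3 ?_ ?_ ?_ (by omega) D₀ hD2 hDn ?_
  · rintro l ⟨x, rfl⟩
    rw [Set.ncard_smul_set, hDk]
  · intro a b hab
    have hD1 : 1 < D.ncard := by omega
    obtain ⟨δ₁, δ₂, hδ₁, hδ₂, hδ⟩ := (Set.one_lt_ncard_iff (Set.toFinite _)).mp hD1
    obtain ⟨g, hg1, hg2⟩ := h2 hδ hab
    exact ⟨g • D, ⟨g, rfl⟩, hg1 ▸ Set.smul_mem_smul_set hδ₁, hg2 ▸ Set.smul_mem_smul_set hδ₂⟩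
  · rintro l ⟨x, rfl⟩ l' ⟨y, rfl⟩ a b hab hal hbl hal' hbl'
    by_contra hne
    have h1 := step2 x y hne
    have h2' : 1 < (x • D ∩ y • D).ncard :=
      (Set.one_lt_ncard_iff (Set.toFinite _)).mpr ⟨a, b, ⟨hal, hal'⟩, ⟨hbl, hbl'⟩, hab⟩
    omega
  · rintro l ⟨x, rfl⟩ hnot a b hab hal haD hbl hbD
    obtain ⟨p, hpD, hpl⟩ := Set.not_subset.mp hnot
    have hU : x • D ∪ D₀ ≠ Set.univ := by
      intro h
      have : p ∈ x • D ∪ D₀ := h ▸ Set.mem_univ _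
      rcases this with h' | h'
      · exact hpl h'
      · exact hpD h'
    have hJ' : JC G (x • D ∩ D₀) := (hJD.smul x).inter hJ hU
    have h2' : 1 < (x • D ∩ D₀).ncard :=
      (Set.one_lt_ncard_iff (Set.toFinite _)).mpr ⟨a, b, ⟨hal, haD⟩, ⟨hbl, hbD⟩, hab⟩
    have h1 := hmin _ hJ' h2'
    have h3 : (x • D).ncard = k := by rw [Set.ncard_smul_set, hDk]
    have h5 : x • D ∩ D₀ = x • D :=
      Set.eq_of_subset_of_ncard_le Set.inter_subset_left (by omega) (Set.toFinite _)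
    rw [← h5]; exact Set.inter_subset_right

lemma three_trans
    (h2 : ∀ {a b c d : Ω}, a ≠ b → c ≠ d → ∃ g : G, g • a = c ∧ g • b = d)
    (D : Set Ω) (hJ : JC G D) (hD : D.ncard = 2) : MulAction.IsMultiplyPretransitive G Ω 3 := by
  obtain ⟨d₀, d₁, hd, rfl⟩ := Set.ncard_eq_two.mp hD
  constructor
  intro x y
  have hx01 : x 0 ≠ x 1 := fun h => by simpa using x.injective h
  have hx02 : x 0 ≠ x 2 := fun h => by simpa using x.injective h
  have hx12 : x 1 ≠ x 2 := fun h => by simpa using x.injective h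
  have hy01 : y 0 ≠ y 1 := fun h => by simpa using y.injective h
  have hy02 : y 0 ≠ y 2 := fun h => by simpa using y.injective h
  have hy12 : y 1 ≠ y 2 := fun h => by simpa using y.injective h
  obtain ⟨g₁, hg₁0, hg₁1⟩ := h2 hx01 hd
  obtain ⟨g₂, hg₂0, hg₂1⟩ := h2 hy01 hd
  have hx2 : g₁ • x 2 ∉ ({d₀, d₁} : Set Ω) := by
    simp only [Set.mem_insert_iff, Set.mem_singleton_iff, not_or]
    constructor
    · rw [← hg₁0]; exact fun h => hx02 (MulAction.injective g₁ h).symm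
    · rw [← hg₁1]; exact fun h => hx12 (MulAction.injective g₁ h).symm
  have hy2 : g₂ • y 2 ∉ ({d₀, d₁} : Set Ω) := by
    simp only [Set.mem_insert_iff, Set.mem_singleton_iff, not_or]
    constructor
    · rw [← hg₂0]; exact fun h => hy02 (MulAction.injective g₂ h).symm
    · rw [← hg₂1]; exact fun h => hy12 (MulAction.injective g₂ h).symm
  obtain ⟨g₃, hg₃, hg₃2⟩ := hJ _ hx2 _ hy2
  have h30 : g₃ • d₀ = d₀ := hg₃ d₀ (by simp)
  have h31 : g₃ • d₁ = d₁ := hg₃ d₁ (by simp)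
  refine ⟨g₂⁻¹ * g₃ * g₁, ?_⟩
  ext i
  rw [Function.Embedding.smul_apply, mul_smul, mul_smul, inv_smul_eq_iff]
  fin_cases i
  · show g₃ • g₁ • x 0 = g₂ • y 0
    rw [hg₁0, hg₂0, h30]
  · show g₃ • g₁ • x 1 = g₂ • y 1
    rw [hg₁1, hg₂1, h31]
  · show g₃ • g₁ • x 2 = g₂ • y 2
    exact hg₃2

end Grp


/-- Let G be a finite primitive permutation group on Ω of degree n and Γ ⊂ Ω a subset with 1 < #Γ ≤ n/2 such that the pointwise stabilizer of Ω ∖ Γ is transitive on Γ. Then G is 3-transitive on Ω. -/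
theorem result {G Ω : Type*} [Group G] [Finite G] [MulAction G Ω] [FaithfulSMul G Ω] [Finite Ω] (hprim : MulAction.IsPreprimitive G Ω) (Γ : Set Ω) (h1 : 1 < Γ.ncard) (h2 : 2 * Γ.ncard ≤ Nat.card Ω) (htr : ∀ x ∈ Γ, ∀ y ∈ Γ, ∃ g : G, (∀ z ∉ Γ, g • z = z) ∧ g • x = y) : MulAction.IsMultiplyPretransitive G Ω 3 := by
  classical
  have hcompl := Set.ncard_add_ncard_compl Γ
  -- Jordan: G is 2-transitive
  have h2t : MulAction.IsMultiplyPretransitive G Ω 2 := by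
    have hsn : Γᶜ.ncard = (Γᶜ.ncard - 1) + 1 := by omega
    refine MulAction.IsPreprimitive.is_two_pretransitive hprim hsn (by omega) ?_
    constructor
    rintro ⟨x, hx⟩ ⟨y, hy⟩
    have hx' : x ∈ Γ := by
      by_contra h; exact hx h
    have hy' : y ∈ Γ := by
      by_contra h; exact hy h
    obtain ⟨g, hg, hgxy⟩ := htr x hx' y hy'
    have hgmem : g ∈ fixingSubgroup G Γᶜ := by
      rw [mem_fixingSubgroup_iff]
      intro z hz
      exact hg z hz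
    refine ⟨⟨g, hgmem⟩, ?_⟩
    apply Subtype.ext
    exact hgxy
  have h2' : ∀ {a b c d : Ω}, a ≠ b → c ≠ d → ∃ g : G, g • a = c ∧ g • b = d :=
    MulAction.is_two_pretransitive_iff.mp h2t
  -- Γᶜ is a Jordan complement
  have hJ : JC G Γᶜ := by
    intro x hx y hy
    rw [Set.mem_compl_iff, not_not] at hx hy
    obtain ⟨g, hg, hgxy⟩ := htr x hx y hy
    exact ⟨g, fun z hz => hg z hz, hgxy⟩
  obtain ⟨D, hJD, hD⟩ := exists_JC_pair (fun hab hcd => h2' hab hcd) Γᶜ hJ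
    (by rw [compl_compl]; omega) (by rw [compl_compl]; exact h2)
  exact three_trans (fun hab hcd => h2' hab hcd) D hJD hD


end Cfsg.Agent.S3707
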