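import Cfsg.Statements.S3733
-- import your own Cfsg.Agent.* helpers here

set_option autoImplicit false
open Cfsg

namespace Cfsg.Agent.S3733

open scoped IsMulCommutative

section
variable {G : Type*} [Group G]

/-- total conjugation function on a subgroup `V`; junk value `1` when the conjugate leaves `V`. -/
noncomputable def cj (V : Subgroup G) (g : G) (v : V) : V := by
  classical
  exact if h : g * (v : G) * g⁻¹ ∈ V then ⟨g * v * g⁻¹, h⟩ else 1

lemma cj_coe {V : Subgroup G} {g : G} (hg : g ∈ Subgroup.normalizer (V : Set G)) (v : V) :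
    ((cj V g v : V) : G) = g * v * g⁻¹ := by
  classical
  have h : g * (v : G) * g⁻¹ ∈ V := (Subgroup.mem_normalizer_iff.mp hg v).mp v.2
  simp [cj, h]

lemma cj_one (V : Subgroup G) (v : V) : cj V 1 v = v := by
  apply Subtype.ext
  rw [cj_coe (Subgroup.one_mem _)]
  simp

lemma cj_mul {V : Subgroup G} {g h : G} (hg : g ∈ Subgroup.normalizer (V : Set G))
    (hh : h ∈ Subgroup.normalizer (V : Set G)) (v : V) :
    cj V g (cj V h v) = cj V (g * h) v := by
  apply Subtype.ext
  rw [cj_coe hg, cj_coe hh, cj_coe (Subgroup.mul_mem _ hg hh)]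
  simp [mul_assoc]

lemma cj_map_mul {V : Subgroup G} {g : G} (hg : g ∈ Subgroup.normalizer (V : Set G))
    (v w : V) : cj V g (v * w) = cj V g v * cj V g w := by
  apply Subtype.ext
  rw [Subgroup.coe_mul, cj_coe hg, cj_coe hg, cj_coe hg]
  simp [mul_assoc]

lemma cj_map_one {V : Subgroup G} {g : G} (hg : g ∈ Subgroup.normalizer (V : Set G)) :
    cj V g (1 : V) = 1 := by
  apply Subtype.ext
  rw [cj_coe hg]
  simp

/-- conjugation by a normalizing element as a monoid hom of `V`. -/
noncomputable def cjHom {V : Subgroup G} {g : G} (hg : g ∈ Subgroup.normalizer (V : Set G)) :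
    V →* V where
  toFun := cj V g
  map_one' := cj_map_one hg
  map_mul' := cj_map_mul hg

end

theorem result {G : Type*} [Group G] [Finite G] (A V : Subgroup G) (hVab : IsMulCommutative V) (hV : V ≠ ⊥) (hAV : A ≤ Subgroup.normalizer (V : Set G)) (𝒜 : Finset (Subgroup G)) (hne : 𝒜.Nonempty) (hprop : ∀ B ∈ 𝒜, B < A) (hpart : ∀ a ∈ A, a ≠ 1 → ∃! B, B ∈ 𝒜 ∧ a ∈ B) (hk : (𝒜.card - 1).Coprime (Nat.card V)) : ∃ B ∈ 𝒜, V ⊓ Subgroup.centralizer (B : Set G) ≠ ⊥ := by
  classical
  by_contra hcon
  push Not at hcon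
  have : Fintype G := Fintype.ofFinite G
  -- the norm over a subgroup
  set Nm : Subgroup G → V → V := fun B v => ∏ s ∈ Finset.univ.filter (· ∈ B), cj V s v with hNm
  -- norm over a subgroup normalizing V is fixed by that subgroup
  have hfix : ∀ B : Subgroup G, B ≤ Subgroup.normalizer (V : Set G) → ∀ v : V,
      ((Nm B v : V) : G) ∈ V ⊓ Subgroup.centralizer (B : Set G) := by
    intro B hB v
    refine Subgroup.mem_inf.mpr ⟨(Nm B v).2, ?_⟩
    rw [Subgroup.mem_centralizer_iff]
    intro b hb
    have hbN : b ∈ Subgroup.normalizer (V : Set G) := hB hb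
    have key : cj V b (Nm B v) = Nm B v := by
      simp only [hNm]
      have := map_prod (cjHom hbN) (fun s => cj V s v) (Finset.univ.filter (· ∈ B))
      simp only [cjHom, MonoidHom.coe_mk, OneHom.coe_mk] at this
      rw [this]
      refine Finset.prod_bij' (fun s _ => b * s) (fun s _ => b⁻¹ * s) ?_ ?_ ?_ ?_ ?_
      · intro s hs
        simp only [Finset.mem_filter, Finset.mem_univ, true_and] at hs ⊢
        exact B.mul_mem hb hs
      · intro s hs
        simp only [Finset.mem_filter, Finset.mem_univ, true_and] at hs ⊢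
        exact B.mul_mem (B.inv_mem hb) hs
      · intro s _; simp
      · intro s _; simp
      · intro s hs
        simp only [Finset.mem_filter, Finset.mem_univ, true_and] at hs
        exact cj_mul hbN (hB hs) v
    have h2 := congrArg (fun x : V => (x : G)) key
    simp only [cj_coe hbN] at h2
    -- b * x * b⁻¹ = x  →  b * x = x * b
    have : b * (Nm B v : G) = (Nm B v : G) * b := by
      calc b * (Nm B v : G) = (b * (Nm B v : G) * b⁻¹) * b := by group
        _ = (Nm B v : G) * b := by rw [h2]
    exact this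
  -- hence all norms over members of 𝒜 vanish
  have hNB : ∀ B ∈ 𝒜, ∀ v : V, Nm B v = 1 := by
    intro B hB v
    have h1 := hfix B ((hprop B hB).le.trans hAV) v
    rw [hcon B hB, Subgroup.mem_bot] at h1
    exact Subtype.ext h1
  have hNA : ∀ v : V, Nm A v = 1 := by
    intro v
    obtain ⟨B, hB⟩ := hne
    have h1 := hfix A hAV v
    have hle : V ⊓ Subgroup.centralizer (A : Set G) ≤ V ⊓ Subgroup.centralizer (B : Set G) :=
      inf_le_inf_left _ (Subgroup.centralizer_le (by exact_mod_cast (hprop B hB).le))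
    have h2 := hle h1
    rw [hcon B hB, Subgroup.mem_bot] at h2
    exact Subtype.ext h2
  -- the double count
  have hcount : ∀ v : V, ∏ B ∈ 𝒜, Nm B v = v ^ (𝒜.card - 1) * Nm A v := by
    intro v
    simp only [hNm]
    -- swap the order of the products
    have h1 : ∏ B ∈ 𝒜, ∏ s ∈ Finset.univ.filter (· ∈ B), cj V s v
        = ∏ s : G, ∏ B ∈ 𝒜.filter (fun B => s ∈ B), cj V s v := by
      simp only [Finset.prod_filter]
      rw [Finset.prod_comm]
    rw [h1]
    simp only [Finset.prod_const]
    -- split off s = 1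
    have hcard1 : (𝒜.filter (fun B => (1 : G) ∈ B)).card = 𝒜.card := by
      congr 1
      apply Finset.filter_true_of_mem
      intro B _; exact B.one_mem
    have hcardA : ∀ s : G, s ∈ A → s ≠ 1 → (𝒜.filter (fun B => s ∈ B)).card = 1 := by
      intro s hs hs1
      obtain ⟨B, ⟨hB, hsB⟩, huniq⟩ := hpart s hs hs1
      rw [Finset.card_eq_one]
      refine ⟨B, ?_⟩
      ext B'
      simp only [Finset.mem_filter, Finset.mem_singleton]
      constructor
      · intro h; exact huniq B' h
      · rintro rfl; exact ⟨hB, hsB⟩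
    have hcard0 : ∀ s : G, s ∉ A → (𝒜.filter (fun B => s ∈ B)).card = 0 := by
      intro s hs
      rw [Finset.card_eq_zero, Finset.filter_eq_empty_iff]
      intro B hB hsB
      exact hs ((hprop B hB).le hsB)
    have hpos : 1 ≤ 𝒜.card := Finset.card_pos.mpr hne
    rw [← Finset.mul_prod_erase Finset.univ _ (Finset.mem_univ (1 : G))]
    rw [hcard1, cj_one]
    have h2 : ∏ s ∈ Finset.univ.filter (· ∈ A), cj V s v
        = v * ∏ s ∈ (Finset.univ.erase (1 : G)).filter (· ∈ A), cj V s v := by
      have hmem : (1 : G) ∈ Finset.univ.filter (· ∈ A) := by simp [A.one_mem]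
      rw [← Finset.mul_prod_erase _ _ hmem, cj_one]
      congr 1
      apply Finset.prod_congr _ (fun _ _ => rfl)
      ext s; simp [and_comm]
    rw [h2]
    have h3 : ∏ s ∈ Finset.univ.erase (1 : G), cj V s v ^ (𝒜.filter (fun B => s ∈ B)).card
        = ∏ s ∈ (Finset.univ.erase (1 : G)).filter (· ∈ A), cj V s v := by
      rw [Finset.prod_filter]
      apply Finset.prod_congr rfl
      intro s hs
      have hs1 : s ≠ 1 := (Finset.mem_erase.mp hs).1
      by_cases hsA : s ∈ A
      · rw [hcardA s hsA hs1, if_pos hsA, pow_one]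
      · rw [hcard0 s hsA, if_neg hsA, pow_zero]
    rw [h3, ← mul_assoc, ← pow_succ, Nat.sub_add_cancel hpos]
  -- conclude: every v has v^(k-1) = 1, so v = 1
  apply hV
  rw [Subgroup.eq_bot_iff_forall]
  intro x hx
  set v : V := ⟨x, hx⟩
  have h1 := hcount v
  rw [hNA v, mul_one, Finset.prod_eq_one (fun B hB => hNB B hB v)] at h1
  have hord1 : orderOf v ∣ 𝒜.card - 1 := orderOf_dvd_of_pow_eq_one h1.symm
  have hord2 : orderOf v ∣ Nat.card V := orderOf_dvd_natCard v
  have : orderOf v = 1 := Nat.eq_one_of_dvd_coprimes hk hord1 hord2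
  rw [orderOf_eq_one_iff] at this
  exact congrArg Subtype.val this
end Cfsg.Agent.S3733
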