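import Cfsg.Statements.S3735
-- import your own Cfsg.Agent.* helpers here

set_option autoImplicit false
open Cfsg

namespace Cfsg.Agent.S3735

section Lattice
variable {L : Type*} [CompleteLattice L] [Finite L]

/-- atoms relative to a subfamily `S` -/
def SAtom (S : Set L) (X : L) : Prop := X ∈ S ∧ X ≠ ⊥ ∧ ∀ Y ∈ S, Y ≤ X → Y = ⊥ ∨ Y = X

lemma exists_SAtom_le (S : Set L) {W : L} (hW : W ∈ S) (hW0 : W ≠ ⊥) :
    ∃ X, SAtom S X ∧ X ≤ W := by
  have hne : {Y | Y ∈ S ∧ Y ≠ ⊥ ∧ Y ≤ W}.Nonempty := ⟨W, hW, hW0, le_rfl⟩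
  obtain ⟨X, ⟨hXS, hX0, hXW⟩, hmin⟩ := wellFounded_lt.has_min _ hne
  refine ⟨X, ⟨hXS, hX0, fun Y hY hYX => ?_⟩, hXW⟩
  by_contra hcon
  push Not at hcon
  exact hmin Y ⟨hY, hcon.1, hYX.trans hXW⟩ (lt_of_le_of_ne hYX hcon.2)

/-- complemented ⇒ the top element is the join of the relative atoms -/
lemma le_sSup_SAtom (S : Set L) (Vt : L) (hSup : ∀ T ⊆ S, sSup T ∈ S)
    (hcompl : ∀ U ∈ S, ∃ W ∈ S, U ⊓ W = ⊥ ∧ U ⊔ W = Vt) :
    Vt ≤ sSup {X | SAtom S X} := by
  set T := sSup {X | SAtom S X} with hT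
  have hTS : T ∈ S := hSup _ (fun X hX => hX.1)
  obtain ⟨W, hWS, hdisj, hsup⟩ := hcompl T hTS
  by_cases hW0 : W = ⊥
  · rw [hW0, sup_bot_eq] at hsup; exact hsup.ge
  · exfalso
    obtain ⟨X, hX, hXW⟩ := exists_SAtom_le S hWS hW0
    have hXT : X ≤ T := le_sSup hX
    have : X ≤ T ⊓ W := le_inf hXT hXW
    rw [hdisj, le_bot_iff] at this
    exact hX.2.1 this

/-- the top element is below the join of relative atoms ⇒ complemented (modular-type hypothesis) -/
lemma exists_compl_of_le_sSup_SAtom (S : Set L) (Vt : L) (hSup : ∀ T ⊆ S, sSup T ∈ S)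
    (hInf : ∀ X ∈ S, ∀ Y ∈ S, X ⊓ Y ∈ S) (hle : ∀ X ∈ S, X ≤ Vt)
    (hmod : ∀ U ∈ S, ∀ W ∈ S, ∀ X ∈ S, Disjoint U W → Disjoint (U ⊔ W) X → Disjoint U (W ⊔ X))
    (htop : Vt ≤ sSup {X | SAtom S X}) (U : L) (hU : U ∈ S) :
    ∃ W ∈ S, U ⊓ W = ⊥ ∧ U ⊔ W = Vt := by
  have hbot : (⊥ : L) ∈ S := by
    have := hSup ∅ (Set.empty_subset _)
    rwa [sSup_empty] at this
  have hsup2 : ∀ X ∈ S, ∀ Y ∈ S, X ⊔ Y ∈ S := by
    intro X hX Y hY
    have := hSup {X, Y} (by
      intro Z hZ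
      rcases hZ with rfl | rfl
      · exact hX
      · exact hY)
    rwa [sSup_pair] at this
  have hne : {W | W ∈ S ∧ U ⊓ W = ⊥}.Nonempty := ⟨⊥, hbot, inf_bot_eq _⟩
  obtain ⟨W, ⟨hWS, hUW⟩, hmax⟩ := wellFounded_gt.has_min _ hne
  refine ⟨W, hWS, hUW, ?_⟩
  by_contra hne'
  have : ∃ X, SAtom S X ∧ ¬ X ≤ U ⊔ W := by
    by_contra hall
    push Not at hall
    apply hne'
    apply le_antisymm (hle _ (hsup2 U hU W hWS))
    exact htop.trans (sSup_le (fun X hX => hall X hX))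
  obtain ⟨X, hX, hXle⟩ := this
  have hXinf : X ⊓ (U ⊔ W) = ⊥ := by
    rcases hX.2.2 (X ⊓ (U ⊔ W)) (hInf X hX.1 _ (hsup2 U hU W hWS)) inf_le_left with h | h
    · exact h
    · exact absurd (inf_eq_left.mp h) hXle
  have hd1 : Disjoint U W := disjoint_iff.mpr hUW
  have hd2 : Disjoint (U ⊔ W) X := disjoint_iff.mpr (by rw [inf_comm]; exact hXinf)
  have hd3 : Disjoint U (W ⊔ X) := hmod U hU W hWS X hX.1 hd1 hd2
  have hlt : W < W ⊔ X := by
    refine lt_of_le_of_ne le_sup_left (fun h => hXle ?_)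
    have : X ≤ W := by rw [h]; exact le_sup_right
    exact this.trans le_sup_right
  exact hmax (W ⊔ X) ⟨hsup2 W hWS X hX.1, disjoint_iff.mp hd3⟩ hlt

end Lattice

section Grp
variable {G : Type*} [Group G]

/-- conjugate of a subgroup -/
def cm (g : G) (U : Subgroup G) : Subgroup G := U.map (MulAut.conj g).toMonoidHom

lemma mem_cm {g x : G} {U : Subgroup G} : x ∈ cm g U ↔ g⁻¹ * x * g ∈ U := by
  unfold cm
  rw [Subgroup.mem_map]
  constructor
  · rintro ⟨y, hy, rfl⟩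
    simp only [MulEquiv.coe_toMonoidHom, MulAut.conj_apply]
    have : g⁻¹ * (g * y * g⁻¹) * g = y := by group
    rwa [this]
  · intro h
    refine ⟨g⁻¹ * x * g, h, ?_⟩
    simp only [MulEquiv.coe_toMonoidHom, MulAut.conj_apply]
    group

lemma cm_mul (g h : G) (U : Subgroup G) : cm (g * h) U = cm g (cm h U) := by
  ext x
  simp only [mem_cm]
  have : (g * h)⁻¹ * x * (g * h) = h⁻¹ * (g⁻¹ * x * g) * h := by group
  rw [this]

lemma cm_one (U : Subgroup G) : cm 1 U = U := by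
  ext x; simp [mem_cm]

lemma cm_mono (g : G) {U W : Subgroup G} (h : U ≤ W) : cm g U ≤ cm g W := Subgroup.map_mono h

lemma cm_eq_bot {g : G} {U : Subgroup G} : cm g U = ⊥ ↔ U = ⊥ := by
  unfold cm
  exact (Subgroup.map_eq_bot_iff_of_injective U (MulAut.conj g).injective)

/-- `K`-invariance of `U` under conjugation -/
def Inv (K U : Subgroup G) : Prop := ∀ k ∈ K, cm k U ≤ U

lemma inv_iff_le_normalizer {K U : Subgroup G} : Inv K U ↔ K ≤ Subgroup.normalizer (U : Set G) := by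
  constructor
  · intro h k hk
    rw [Subgroup.mem_normalizer_iff]
    intro x
    constructor
    · intro hx
      have := h k⁻¹ (K.inv_mem hk)
      -- k x k⁻¹ ∈ U  iff  x ∈ cm k⁻¹ U
      have h1 : k * x * k⁻¹ ∈ cm k U := by
        rw [mem_cm]
        have : k⁻¹ * (k * x * k⁻¹) * k = x := by group
        rwa [this]
      exact h k hk h1
    · intro hx
      have h1 : x ∈ cm k⁻¹ U := by
        rw [mem_cm]; simpa using hx
      exact h k⁻¹ (K.inv_mem hk) h1
  · intro h k hk x hx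
    rw [mem_cm] at hx
    have hk' := h (K.inv_mem hk)
    rw [Subgroup.mem_normalizer_iff] at hk'
    have := (hk' x).mpr (by simpa using hx)
    exact this

lemma Inv.cm_eq {K U : Subgroup G} (h : Inv K U) {k : G} (hk : k ∈ K) : cm k U = U := by
  apply le_antisymm (h k hk)
  have := cm_mono k (h k⁻¹ (K.inv_mem hk))
  rwa [← cm_mul, mul_inv_cancel, cm_one] at this

/-- the family of `K`-invariant subgroups of `V` -/
def SK (V K : Subgroup G) : Set (Subgroup G) := {U | U ≤ V ∧ Inv K U}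

lemma SK_sSup (V K : Subgroup G) (T : Set (Subgroup G)) (hT : T ⊆ SK V K) : sSup T ∈ SK V K := by
  refine ⟨sSup_le (fun X hX => (hT hX).1), ?_⟩
  intro k hk
  unfold cm
  rw [Subgroup.map_le_iff_le_comap]
  apply sSup_le
  intro X hX
  rw [← Subgroup.map_le_iff_le_comap]
  exact ((hT hX).2 k hk).trans (le_sSup hX)

lemma SK_inf (V K : Subgroup G) (X Y : Subgroup G) (hX : X ∈ SK V K) (hY : Y ∈ SK V K) :
    X ⊓ Y ∈ SK V K := by
  refine ⟨inf_le_left.trans hX.1, ?_⟩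
  intro k hk
  exact (Subgroup.map_inf_le X Y _).trans (inf_le_inf (hX.2 k hk) (hY.2 k hk))

lemma disjoint_subgroupOf_iff {V A B : Subgroup G} (hA : A ≤ V) :
    Disjoint (A.subgroupOf V) (B.subgroupOf V) ↔ Disjoint A B := by
  rw [disjoint_iff, disjoint_iff]
  have : A.subgroupOf V ⊓ B.subgroupOf V = (A ⊓ B).subgroupOf V := by
    ext x; simp [Subgroup.mem_subgroupOf]
  rw [this, Subgroup.subgroupOf_eq_bot, disjoint_iff]
  have : A ⊓ B ⊓ V = A ⊓ B := inf_eq_left.mpr (inf_le_left.trans hA)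
  rw [this]

open scoped IsMulCommutative in
lemma SK_mod (V K : Subgroup G) [IsMulCommutative V] (U W X : Subgroup G) (hU : U ∈ SK V K)
    (hW : W ∈ SK V K) (hX : X ∈ SK V K) (h1 : Disjoint U W) (h2 : Disjoint (U ⊔ W) X) :
    Disjoint U (W ⊔ X) := by
  have hUW : U ⊔ W ≤ V := sup_le hU.1 hW.1
  rw [← disjoint_subgroupOf_iff hU.1] at h1
  rw [← disjoint_subgroupOf_iff hUW, Subgroup.subgroupOf_sup hU.1 hW.1] at h2
  rw [← disjoint_subgroupOf_iff hU.1, Subgroup.subgroupOf_sup hW.1 hX.1]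
  exact h1.disjoint_sup_right_of_disjoint_sup_left h2

/-- conjugating by an element normalizing `V` and `A` preserves the family `SK V A` -/
lemma SK_cm {V A : Subgroup G} {h : G} (hV : Inv (Subgroup.zpowers h) V)
    (hA : Inv (Subgroup.zpowers h) A) {U : Subgroup G} (hU : U ∈ SK V A) : cm h U ∈ SK V A := by
  have hh : h ∈ Subgroup.zpowers h := Subgroup.mem_zpowers h
  refine ⟨(cm_mono h hU.1).trans (hV h hh), ?_⟩
  intro a ha
  -- cm a (cm h U) = cm h (cm (h⁻¹ a h) U)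
  have : a * h = h * (h⁻¹ * a * h) := by group
  rw [← cm_mul, this, cm_mul]
  apply cm_mono
  apply hU.2
  -- h⁻¹ a h ∈ A
  have h1 : h⁻¹ * a * h ∈ cm h⁻¹ A := by
    rw [mem_cm]
    have : h⁻¹⁻¹ * (h⁻¹ * a * h) * h⁻¹ = a := by group
    rwa [this]
  exact hA h⁻¹ (Subgroup.inv_mem _ hh) h1

lemma SAtom_cm [Finite G] {V A : Subgroup G} {h : G} (hV : Inv (Subgroup.zpowers h) V)
    (hA : Inv (Subgroup.zpowers h) A) {X : Subgroup G} (hX : SAtom (SK V A) X) :
    SAtom (SK V A) (cm h X) := by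
  refine ⟨SK_cm hV hA hX.1, fun h0 => hX.2.1 (cm_eq_bot.mp h0), ?_⟩
  intro Y hY hYX
  have hV' : Inv (Subgroup.zpowers h⁻¹) V := by rwa [Subgroup.zpowers_inv]
  have hA' : Inv (Subgroup.zpowers h⁻¹) A := by rwa [Subgroup.zpowers_inv]
  have hY' : cm h⁻¹ Y ∈ SK V A := SK_cm hV' hA' hY
  have hle : cm h⁻¹ Y ≤ X := by
    have := cm_mono h⁻¹ hYX
    rwa [← cm_mul, inv_mul_cancel, cm_one] at this
  rcases hX.2.2 _ hY' hle with h1 | h1
  · left; exact cm_eq_bot.mp h1
  · right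
    rw [← h1, ← cm_mul, mul_inv_cancel, cm_one]

end Grp


/-- Clifford's Theorem for actions on finite abelian groups, first part. Let H and V be subgroups of a finite group with V abelian and H normalizing V, and let A be a normal subgroup of H. If every H-invariant subgroup of V has an H-invariant complement in V, then every A-invariant subgroup of V has an A-invariant complement in V. -/
theorem result {G : Type*} [Group G] [Finite G] (H A V : Subgroup G) (hVab : IsMulCommutative V) (hHV : H ≤ Subgroup.normalizer (V : Set G)) (hAH : A ≤ H) (hAn : H ≤ Subgroup.normalizer (A : Set G)) (hss : ∀ U : Subgroup G, U ≤ V → H ≤ Subgroup.normalizer (U : Set G) → ∃ W : Subgroup G, W ≤ V ∧ H ≤ Subgroup.normalizer (W : Set G) ∧ U ⊓ W = ⊥ ∧ U ⊔ W = V) (U : Subgroup G) (hUV : U ≤ V) (hAU : A ≤ Subgroup.normalizer (U : Set G)) : ∃ W : Subgroup G, W ≤ V ∧ A ≤ Subgroup.normalizer (W : Set G) ∧ U ⊓ W = ⊥ ∧ U ⊔ W = V := by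
  classical
  have hHV' : Inv H V := inv_iff_le_normalizer.mpr hHV
  have hHA' : Inv H A := inv_iff_le_normalizer.mpr hAn
  have hzV : ∀ h ∈ H, Inv (Subgroup.zpowers h) V := fun h hh k hk =>
    hHV' k ((Subgroup.zpowers_le.mpr hh) hk)
  have hzA : ∀ h ∈ H, Inv (Subgroup.zpowers h) A := fun h hh k hk =>
    hHA' k ((Subgroup.zpowers_le.mpr hh) hk)
  -- H-semisimplicity gives: V is below the join of H-atoms
  have hH : V ≤ sSup {X | SAtom (SK V H) X} := by
    apply le_sSup_SAtom (SK V H) V (SK_sSup V H)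
    intro U hU
    obtain ⟨W, hWV, hHW, h1, h2⟩ := hss U hU.1 (inv_iff_le_normalizer.mp hU.2)
    exact ⟨W, ⟨hWV, inv_iff_le_normalizer.mpr hHW⟩, h1, h2⟩
  -- every H-atom is below the join of A-atoms
  have hatom : ∀ W, SAtom (SK V H) W → W ≤ sSup {X | SAtom (SK V A) X} := by
    intro W hW
    have hWA : W ∈ SK V A := ⟨hW.1.1, fun a ha => hW.1.2 a (hAH ha)⟩
    obtain ⟨X, hX, hXW⟩ := exists_SAtom_le (SK V A) hWA hW.2.1
    set Y : Subgroup G := ⨆ h : H, cm (h : G) X with hY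
    have hYH : Y ∈ SK V H := by
      refine ⟨iSup_le (fun h => (cm_mono _ hX.1.1).trans (hHV' h h.2)), ?_⟩
      intro g hg
      unfold cm
      rw [hY, Subgroup.map_iSup]
      apply iSup_le
      intro h
      have : (cm (h : G) X).map (MulAut.conj g).toMonoidHom = cm (g * h) X := by
        rw [cm_mul]; rfl
      rw [this]
      exact le_iSup (fun h : H => cm (h : G) X) ⟨g * h, H.mul_mem hg h.2⟩
    have hXY : X ≤ Y := by
      have := le_iSup (fun h : H => cm (h : G) X) ⟨1, H.one_mem⟩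
      simpa [cm_one] using this
    have hYW : Y ≤ W := by
      apply iSup_le
      intro h
      exact (cm_mono _ hXW).trans (hW.1.2 h h.2)
    have hY0 : Y ≠ ⊥ := fun h0 => hX.2.1 (le_bot_iff.mp (h0 ▸ hXY))
    rcases hW.2.2 Y hYH hYW with h0 | h0
    · exact absurd h0 hY0
    · rw [← h0]
      apply iSup_le
      intro h
      exact le_sSup (SAtom_cm (hzV h h.2) (hzA h h.2) hX)
  have hA : V ≤ sSup {X | SAtom (SK V A) X} := hH.trans (sSup_le hatom)
  obtain ⟨W, hW, h1, h2⟩ := exists_compl_of_le_sSup_SAtom (SK V A) V (SK_sSup V A)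
    (fun X hX Y hY => SK_inf V A X Y hX hY)
    (fun X hX => hX.1)
    (fun U hU W hW X hX => SK_mod V A U W X hU hW hX) hA U ⟨hUV, inv_iff_le_normalizer.mpr hAU⟩
  exact ⟨W, hW.1, inv_iff_le_normalizer.mp hW.2, h1, h2⟩


end Cfsg.Agent.S3735
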