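import Cfsg.Statements.S3737
-- import your own Cfsg.Agent.* helpers here
import Cfsg.Agent.S3736
import Cfsg.Agent.Lib.Helper62.Baer
import Cfsg.Agent.Lib.Helper71.SylowNumber
import Cfsg.Agent.Lib.Helper96.ElemAb
import Cfsg.Agent.Lib.Helper49.CharP2

set_option autoImplicit false
open Cfsg

namespace Cfsg.Agent.S3737

set_option linter.style.haveILetI false
set_option linter.unusedSectionVars false

open scoped commutatorElement
open Cfsg.Agent.S3736 (indAut mem_indAut card_indAut_dvd indAut_fixed_iff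
  le_normalizer_map_of_characteristic)
open Cfsg.Agent.Lib.Helper62 (exists_fixed_of_baer exists_fixed_mod_center)

section Aux

variable {X : Type*} [Group X]

lemma mem_normalizer_sup' {A B : Subgroup X} {g : X}
    (hA : g ∈ Subgroup.normalizer (A : Set X)) (hB : g ∈ Subgroup.normalizer (B : Set X)) :
    g ∈ Subgroup.normalizer ((A ⊔ B : Subgroup X) : Set X) := by
  have key : ∀ g : X, g ∈ Subgroup.normalizer (A : Set X) → g ∈ Subgroup.normalizer (B : Set X) →
      ∀ x ∈ A ⊔ B, g * x * g⁻¹ ∈ A ⊔ B := by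
    intro g hA hB x hx
    have h1 : (A ⊔ B).map (MulAut.conj g).toMonoidHom ≤ A ⊔ B := by
      rw [Subgroup.map_sup]
      refine sup_le ?_ ?_
      · rintro _ ⟨a, ha, rfl⟩
        exact Subgroup.mem_sup_left ((Subgroup.mem_normalizer_iff.mp hA a).mp ha)
      · rintro _ ⟨b, hb, rfl⟩
        exact Subgroup.mem_sup_right ((Subgroup.mem_normalizer_iff.mp hB b).mp hb)
    exact h1 ⟨x, hx, rfl⟩
  rw [Subgroup.mem_normalizer_iff]
  intro x
  constructor
  · exact key g hA hB x
  · intro hx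
    have := key g⁻¹ (Subgroup.inv_mem _ hA) (Subgroup.inv_mem _ hB) _ hx
    simpa [mul_assoc] using this

end Aux

/-- The minimal configuration of Thompson's lemma cannot occur for odd `p`. -/
lemma no_minimal {X : Type*} [Group X] [Finite X] {p : ℕ} [Fact p.Prime] (hp : p ≠ 2)
    (P Q U : Subgroup X) (hP : IsPGroup p P) (hQ : (Nat.card Q).Coprime p)
    (hPQ : P ≤ Subgroup.normalizer (Q : Set X)) (hU : IsPGroup p U)
    (hPU : P ≤ Subgroup.normalizer (U : Set X)) (hQU : Q ≤ Subgroup.normalizer (U : Set X))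
    (hC : U ⊓ Subgroup.centralizer (P : Set X) ≤ Subgroup.centralizer (Q : Set X))
    (hnt : ⁅U, Q⁆ ≠ ⊥)
    (hmin : ∀ U' : Subgroup X, U' < U → P ⊔ Q ≤ Subgroup.normalizer (U' : Set X) →
      ⁅U', Q⁆ = ⊥) : False := by
  have hpp : p.Prime := Fact.out
  set B : Subgroup X := P ⊔ Q with hB
  have hBU : B ≤ Subgroup.normalizer (U : Set X) := sup_le hPU hQU
  have hBQ : B ≤ Subgroup.normalizer (Q : Set X) := sup_le hPQ Subgroup.le_normalizer
  obtain ⟨-, h2, h3, h4⟩ :=
    Cfsg.Agent.S3736.result B Q U hU hBU le_sup_right hBQ hQ hnt hmin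
  have hexp := h4 hp
  set Φ : Subgroup X := (frattini ↥U).map U.subtype with hΦ
  have hΦU : Φ ≤ U := Subgroup.map_subtype_le _
  have hBΦ : B ≤ Subgroup.normalizer (Φ : Set X) :=
    le_normalizer_map_of_characteristic hBU (frattini ↥U) frattini_characteristic
  have hUne : U ≠ ⊥ := by
    rintro rfl
    exact hnt (Subgroup.commutator_bot_left Q)
  haveI : Nontrivial ↥U := (Subgroup.nontrivial_iff_ne_bot U).mpr hUne
  have hfrat : frattini ↥U ≠ ⊤ := by
    intro h5
    have h6 : (⊥ : Subgroup ↥U) ⊔ frattini ↥U = ⊤ := by rw [h5, bot_sup_eq]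
    exact bot_ne_top (frattini_nongenerating h6)
  have hΦlt : Φ < U := by
    refine lt_of_le_of_ne hΦU ?_
    intro h
    apply hfrat
    apply Subgroup.map_injective U.subtype_injective
    rw [← hΦ, h, ← MonoidHom.range_eq_map, Subgroup.range_subtype]
  have hΦQ : ⁅Φ, Q⁆ = ⊥ := hmin Φ hΦlt hBΦ
  have hmemΦ : ∀ y : ↥U, (y : X) ∈ Φ ↔ y ∈ frattini ↥U := by
    intro y
    constructor
    · rintro ⟨y', hy', hyy⟩
      have : y' = y := Subtype.ext hyy
      rwa [← this]
    · intro hy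
      exact ⟨y, hy, rfl⟩
  -- `C_U(Q) ≤ Φ`
  set C : Subgroup X := U ⊓ Subgroup.centralizer (Q : Set X) with hCdef
  have hBC : B ≤ Subgroup.normalizer (C : Set X) := fun b hb =>
    Cfsg.Agent.Lib.Helper49.mem_normalizer_inf (hBU hb)
      (Cfsg.Agent.Lib.Helper49.normalizer_le_normalizer_centralizer Q (hBQ hb))
  have hCΦ : C ≤ Φ := by
    rcases h3 (C ⊔ Φ) le_sup_right (sup_le inf_le_left hΦU)
      (fun b hb => mem_normalizer_sup' (hBC hb) (hBΦ hb)) with h | h
    · rw [← h]; exact le_sup_left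
    · exfalso
      apply hnt
      rw [Subgroup.commutator_eq_bot_iff_le_centralizer, ← h]
      refine sup_le inf_le_right ?_
      rwa [← Subgroup.commutator_eq_bot_iff_le_centralizer]
  -- it is enough to find a `P`-fixed point of `U` outside `Φ`
  suffices hw : ∃ w ∈ U, w ∈ Subgroup.centralizer (P : Set X) ∧ w ∉ Φ by
    obtain ⟨w, hwU, hwP, hwΦ⟩ := hw
    exact hwΦ (hCΦ ⟨hwU, hC ⟨hwU, hwP⟩⟩)
  rcases h2 with hEA | hSp
  · -- elementary abelian case
    have hΦbot : Φ = ⊥ := by
      have : frattini ↥U = ⊥ :=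
        Cfsg.Agent.Lib.Helper96.frattini_eq_bot_of_elemAb p
          (fun a b => hEA.1.is_comm.comm a b)
          (fun x => Subtype.ext (by simpa using hEA.2 x x.2))
      rw [hΦ, this, Subgroup.map_bot]
    have hmod := Cfsg.Agent.Lib.Helper71.card_modEq_card_inf_centralizer P U hP hPU
    obtain ⟨a, ha⟩ := IsPGroup.iff_card.mp hU
    have ha0 : a ≠ 0 := by
      rintro rfl
      rw [pow_zero] at ha
      exact hUne (Subgroup.card_eq_one.mp ha)
    have hdvd : p ∣ Nat.card ↥(U ⊓ Subgroup.centralizer (P : Set X)) := by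
      rw [← Nat.modEq_zero_iff_dvd]
      refine hmod.symm.trans ?_
      rw [Nat.modEq_zero_iff_dvd, ha]
      exact dvd_pow_self p ha0
    have hne : U ⊓ Subgroup.centralizer (P : Set X) ≠ ⊥ := by
      intro h
      rw [h, Subgroup.card_bot] at hdvd
      exact hpp.one_lt.ne' (Nat.dvd_one.mp hdvd)
    obtain ⟨⟨w, hw⟩, hw1⟩ := (Subgroup.ne_bot_iff_exists_ne_one).mp hne
    refine ⟨w, hw.1, hw.2, ?_⟩
    rw [hΦbot, Subgroup.mem_bot]
    intro h
    exact hw1 (Subtype.ext h)
  · -- special case: the Baer trick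
    obtain ⟨hUp, hfc, hcc⟩ := hSp
    have hcl : ∀ x y : ↥U, ⁅x, y⁆ ∈ Subgroup.center ↥U := by
      intro x y
      rw [← hcc, commutator_def]
      exact Subgroup.commutator_mem_commutator (Subgroup.mem_top x) (Subgroup.mem_top y)
    have hexpU : ∀ x : ↥U, x ^ p = 1 := fun x => Subtype.ext (by simpa using hexp x x.2)
    have hnorm : ∀ u ∈ indAut P U, ∀ q ∈ indAut Q U, u * q * u⁻¹ ∈ indAut Q U := by
      intro u hu q hq
      obtain ⟨a, ha, rfl⟩ := (mem_indAut hPU u).mp hu
      obtain ⟨b, hb, rfl⟩ := (mem_indAut hQU q).mp hq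
      rw [mem_indAut hQU]
      have hab : a * b * a⁻¹ ∈ Q := (Subgroup.mem_normalizer_iff.mp (hPQ ha) b).mp hb
      refine ⟨a * b * a⁻¹, hab, ?_⟩
      rw [← map_inv, ← map_mul, ← map_mul]
      rfl
    have hcop : (Nat.card (indAut Q U)).Coprime p :=
      Nat.Coprime.coprime_dvd_left (card_indAut_dvd hQU) hQ
    have hΦcent : Φ ≤ Subgroup.centralizer (Q : Set X) := by
      rwa [← Subgroup.commutator_eq_bot_iff_le_centralizer]
    have hZ' : ∀ q ∈ indAut Q U, ∀ z ∈ Subgroup.center ↥U, q z = z := by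
      intro q hq z hz
      obtain ⟨b, hb, rfl⟩ := (mem_indAut hQU q).mp hq
      apply Subtype.ext
      show b * (z : X) * b⁻¹ = (z : X)
      have hzΦ : (z : X) ∈ Φ := (hmemΦ z).mpr (by rw [hfc]; exact hz)
      have := Subgroup.mem_centralizer_iff.mp (hΦcent hzΦ) b hb
      rw [this, mul_inv_cancel_right]
    have hfix : ∀ y : ↥U, (∀ q ∈ indAut Q U, q y = y) → y ∈ Subgroup.center ↥U := by
      intro y hy
      have h5 := (indAut_fixed_iff hQU y).mp hy
      have hyC : (y : X) ∈ C := by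
        refine Subgroup.mem_inf.mpr ⟨y.2, ?_⟩
        rw [Subgroup.mem_centralizer_iff]
        intro b hb
        have := h5 b hb
        calc b * (y : X) = b * (y : X) * b⁻¹ * b := by group
          _ = (y : X) * b := by rw [this]
      rw [← hfc]
      exact (hmemΦ y).mp (hCΦ hyC)
    have hZne : Subgroup.center ↥U ≠ ⊤ := by rw [← hfc]; exact hfrat
    have hPp : IsPGroup p ↥(indAut P U) := by
      obtain ⟨k, hk⟩ := IsPGroup.iff_card.mp hP
      have h6 := card_indAut_dvd hPU
      rw [hk] at h6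
      obtain ⟨j, -, hj⟩ := (Nat.dvd_prime_pow hpp).mp h6
      exact IsPGroup.of_card hj
    obtain ⟨x, hxZ, hx⟩ := exists_fixed_mod_center hUp hZne (indAut P U) hPp
    obtain ⟨w, hwZ, hwP⟩ := exists_fixed_of_baer hp hcl hexpU (indAut P U) (indAut Q U) hnorm hcop
      hZ' hfix x hx hxZ
    refine ⟨(w : X), w.2, ?_, ?_⟩
    · rw [Subgroup.mem_centralizer_iff]
      intro a ha
      have := (indAut_fixed_iff hPU w).mp hwP a ha
      calc a * (w : X) = a * (w : X) * a⁻¹ * a := by group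
        _ = (w : X) * a := by rw [this]
    · intro hwΦ
      apply hwZ
      rw [← hfc]
      exact (hmemΦ w).mp hwΦ


/-- Thompson's strengthening of the P × Q lemma for odd primes. Let p be an odd prime and let P, Q and G be subgroups of a finite group with P a p-group, Q of order prime to p and normalized by P, and G a p-group normalized by both P and Q. If every element of G centralized by P is centralized by Q, then Q centralizes G. -/
theorem result {X : Type*} [Group X] [Finite X] {p : ℕ} [Fact p.Prime] (hp : p ≠ 2) (P Q G : Subgroup X) (hP : IsPGroup p P) (hQ : (Nat.card Q).Coprime p) (hPQ : P ≤ Subgroup.normalizer (Q : Set X)) (hG : IsPGroup p G) (hPG : P ≤ Subgroup.normalizer (G : Set X)) (hQG : Q ≤ Subgroup.normalizer (G : Set X)) (hC : G ⊓ Subgroup.centralizer (P : Set X) ≤ Subgroup.centralizer (Q : Set X)) : Q ≤ Subgroup.centralizer (G : Set X) := by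
  by_contra hcon
  have hfin : {U : Subgroup X | U ≤ G ∧ P ≤ Subgroup.normalizer (U : Set X) ∧
      Q ≤ Subgroup.normalizer (U : Set X) ∧ ¬ Q ≤ Subgroup.centralizer (U : Set X)}.Finite :=
    Set.toFinite _
  obtain ⟨U, ⟨hUG, hPU, hQU, hnc⟩, hUmin⟩ := hfin.exists_minimal ⟨G, le_rfl, hPG, hQG, hcon⟩
  have hnt_of : ∀ V : Subgroup X, ¬ Q ≤ Subgroup.centralizer (V : Set X) ↔ ⁅V, Q⁆ ≠ ⊥ := by
    intro V
    rw [Ne, Subgroup.commutator_eq_bot_iff_le_centralizer, Subgroup.le_centralizer_iff]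
  apply no_minimal hp P Q U hP hQ hPQ (hG.to_le hUG) hPU hQU
    ((inf_le_inf_right _ hUG).trans hC) ((hnt_of U).mp hnc)
  intro U' hU' hBU'
  by_contra h
  have hmem : U' ∈ {U : Subgroup X | U ≤ G ∧ P ≤ Subgroup.normalizer (U : Set X) ∧
      Q ≤ Subgroup.normalizer (U : Set X) ∧ ¬ Q ≤ Subgroup.centralizer (U : Set X)} :=
    ⟨hU'.le.trans hUG, le_sup_left.trans hBU', le_sup_right.trans hBU', (hnt_of U').mpr h⟩
  exact absurd (hUmin hmem hU'.le) (not_le_of_gt hU')

end Cfsg.Agent.S3737
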