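import Cfsg.Statements.S3738
import Cfsg.Agent.Lib.Helper90.FpfMain

set_option autoImplicit false
open Cfsg

namespace Cfsg.Agent.S3738

/-- Let d be a non-identity 3-element of a finite group and P a 2-subgroup normalized by d on which ⟨d⟩ acts faithfully (no non-identity power of d centralizes P) and without non-identity fixed points (C_P(d) = 1). If every abelian subgroup of P has 2-rank at most 2, then d has order 3. -/
theorem result {X : Type*} [Group X] [Finite X] (d : X) (n : ℕ) (hn : 1 ≤ n) (hd : orderOf d = 3 ^ n) (P : Subgroup X) (hP : IsPGroup 2 P) (hdP : d ∈ Subgroup.normalizer (P : Set X)) (hfaith : Subgroup.zpowers d ⊓ Subgroup.centralizer (P : Set X) = ⊥) (hfpf : P ⊓ Subgroup.centralizer {d} = ⊥) (hrank : ∀ V : Subgroup X, V ≤ P → IsMulCommutative V → Cfsg.PRankLE 2 2 V) : orderOf d = 3 := by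
  have hdata : Cfsg.Agent.Lib.Helper90.FpfData d P :=
    { pgroup := hP
      norm := hdP
      fpf := by
        intro x hx hc
        have hmem : x ∈ P ⊓ Subgroup.centralizer {d} :=
          Subgroup.mem_inf.mpr ⟨hx, Subgroup.mem_centralizer_singleton_iff.mpr hc.symm⟩
        rw [hfpf] at hmem
        exact Subgroup.mem_bot.mp hmem
      rank := by
        intro A hA hcomm hsq
        haveI : IsMulCommutative A := ⟨⟨fun a b => Subtype.ext (hcomm a.1 a.2 b.1 b.2)⟩⟩
        have h1 := hrank A hA inferInstance (⊤ : Subgroup ↥A) inferInstance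
          (fun a _ => by
            apply Subtype.ext
            show ((a ^ 2 : ↥A) : X) = 1
            rw [pow_two]
            exact hsq a.1 a.2)
        rw [Subgroup.card_top] at h1
        norm_num at h1
        exact h1 }
  have hcen := hdata.cube_centralizes n hd P
  have hmem : d ^ 3 ∈ Subgroup.zpowers d ⊓ Subgroup.centralizer (P : Set X) := by
    refine Subgroup.mem_inf.mpr ⟨Subgroup.pow_mem _ (Subgroup.mem_zpowers d) 3, ?_⟩
    rw [Subgroup.mem_centralizer_iff]
    intro x hx
    exact (hcen x hx).symm
  rw [hfaith, Subgroup.mem_bot] at hmem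
  have hdvd : orderOf d ∣ 3 := orderOf_dvd_of_pow_eq_one hmem
  rcases (Nat.dvd_prime Nat.prime_three).mp hdvd with h1 | h3
  · exfalso
    rw [hd] at h1
    have : 3 ^ 1 ≤ 3 ^ n := Nat.pow_le_pow_right (by norm_num) hn
    omega
  · exact h3

end Cfsg.Agent.S3738
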