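import Cfsg.Statements.S3739
import Cfsg.Agent.Lib.Helper90.Basic
import Cfsg.Agent.Lib.Helper90.SixC
import Cfsg.Agent.Lib.Helper90.SixD
import Cfsg.Agent.Lib.Helper90.SixF

set_option autoImplicit false
open Cfsg

namespace Cfsg.Agent.S3739

/-- Let G be a finite group with C_G(O₂(G)) ≤ O₂(G) containing an element of order 6, and let d be a non-identity 3-element of G normalizing a nontrivial elementary abelian 2-subgroup W with C_W(d) = 1. Then G has an elementary abelian subgroup of order 8. -/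
theorem result {G : Type*} [Group G] [Finite G] (hchar : Subgroup.centralizer (Cfsg.pCore 2 G : Set G) ≤ Cfsg.pCore 2 G) (hsix : ∃ g : G, orderOf g = 6) (d : G) (hd1 : d ≠ 1) (hd : IsPGroup 3 ↥(Subgroup.zpowers d)) (W : Subgroup G) (hW : Cfsg.IsElementaryAbelian 2 W) (hW1 : W ≠ ⊥) (hdW : d ∈ Subgroup.normalizer (W : Set G)) (hfpf : W ⊓ Subgroup.centralizer {d} = ⊥) : ∃ E : Subgroup G, Cfsg.IsElementaryAbelian 2 E ∧ Nat.card E = 8 := by
  open Cfsg.Agent.Lib.Helper90 in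
  by_contra hno
  have hrank := rank_of_no_E8 hno
  obtain ⟨hWcomm, hWsq⟩ := hW
  have hWc : ∀ a ∈ W, ∀ b ∈ W, a * b = b * a := fun a ha b hb => setLike_mul_comm ha hb
  have hW2 : ∀ a ∈ W, a * a = 1 := fun a ha => by rw [← pow_two]; exact hWsq a ha
  have hfpf' : ∀ x ∈ W, d * x = x * d → x = 1 := by
    intro x hx hc
    have hmem : x ∈ W ⊓ Subgroup.centralizer {d} :=
      Subgroup.mem_inf.mpr ⟨hx, Subgroup.mem_centralizer_singleton_iff.mpr hc.symm⟩
    rw [hfpf] at hmem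
    exact Subgroup.mem_bot.mp hmem
  obtain ⟨z, h⟩ := exists_fourData hrank d W hWc hW2 hW1 hdW hfpf'
  haveI : (Cfsg.pCore 2 G).Normal := pCore_normal 2 G
  have hQ : IsPGroup 2 (Cfsg.pCore 2 G) := pCore_isPGroup 2 G
  obtain ⟨g, hg⟩ := hsix
  have hQ1 : Cfsg.pCore 2 G ≠ ⊥ := by
    intro hbot
    have hgc : g ∈ Subgroup.centralizer ((Cfsg.pCore 2 G : Subgroup G) : Set G) := by
      rw [Subgroup.mem_centralizer_iff]
      intro x hx
      have hx' : x ∈ Cfsg.pCore 2 G := hx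
      rw [hbot, Subgroup.mem_bot] at hx'
      rw [hx', one_mul, mul_one]
    have := hchar hgc
    rw [hbot, Subgroup.mem_bot] at this
    rw [this, orderOf_one] at hg
    omega
  have hWeq := h.eq_omegaCenter hrank (Cfsg.pCore 2 G) hQ hQ1
  have hWn : ∀ g : G, ∀ w ∈ W, g * w * g⁻¹ ∈ W := by
    intro g w hw
    rw [hWeq] at hw ⊢
    exact omegaCenter_conj _ hw g
  have hQW : ∀ x ∈ Cfsg.pCore 2 G, ∀ w ∈ W, x * w = w * x := by
    intro x hx w hw
    rw [hWeq] at hw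
    exact hw.2.1 x hx
  haveI : Fact (Nat.Prime 3) := ⟨Nat.prime_three⟩
  obtain ⟨n, hn⟩ := IsPGroup.iff_card.mp hd
  rw [Nat.card_zpowers] at hn
  have hd3 : d ^ 3 = 1 := h.cube_eq_one hrank (Cfsg.pCore 2 G) hQ hQW hchar n hn
  have hg6 : g ^ 6 = 1 := by rw [← hg]; exact pow_orderOf_eq_one g
  have hc3 : (g ^ 2) ^ 3 = 1 := by rw [← pow_mul]; exact hg6
  have hc1 : g ^ 2 ≠ 1 := pow_ne_one_of_lt_orderOf (by norm_num) (by rw [hg]; norm_num)
  have ht2 : g ^ 3 * g ^ 3 = 1 := by rw [← pow_add]; exact hg6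
  have ht1 : g ^ 3 ≠ 1 := pow_ne_one_of_lt_orderOf (by norm_num) (by rw [hg]; norm_num)
  have hct : g ^ 2 * g ^ 3 = g ^ 3 * g ^ 2 := by rw [← pow_add, ← pow_add]
  have hcW := h.order_three_centralizes hrank hWn (g ^ 2) (g ^ 3) hc3 ht2 ht1 hct
  exact h.order_three_contra hrank hWn (Cfsg.pCore 2 G) hQ hQW hchar hd3 (g ^ 2) hc3 hc1 hcW

end Cfsg.Agent.S3739
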