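import Cfsg.Statements.S3741
-- import your own Cfsg.Agent.* helpers here

set_option autoImplicit false
open Cfsg

namespace Cfsg.Agent.S3741

open scoped commutatorElement

/-- a normal subgroup of prime order in a finite `p`-group is central -/
lemma normal_prime_card_le_center {G : Type*} [Group G] [Finite G] {p : ℕ} [Fact p.Prime]
    (hG : IsPGroup p G) (Z : Subgroup G) [hZn : Z.Normal] (hZ : Nat.card Z = p) :
    Z ≤ Subgroup.center G := by
  classical
  let _ : MulAction G Z := MulAction.compHom Z (MulAut.conjNormal : G →* MulAut Z)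
  have hsmul : ∀ (g : G) (z : Z), ((g • z : Z) : G) = g * z * g⁻¹ := by
    intro g z; rfl
  have h1 : (1 : Z) ∈ MulAction.fixedPoints G Z := by
    intro g
    apply Subtype.ext
    rw [hsmul]; simp
  obtain ⟨z, hzfix, hz1⟩ := hG.exists_fixed_point_of_prime_dvd_card_of_fixed_point Z
    (by rw [hZ]) h1
  have hZp : Fact (Nat.card Z).Prime := ⟨by rw [hZ]; exact Fact.out⟩
  have hz1' : z ≠ 1 := fun h => hz1 h.symm
  have htop := zpowers_eq_top_of_prime_card (G := Z) (p := Nat.card Z) rfl hz1'
  intro x hx
  have hxz : (⟨x, hx⟩ : Z) ∈ Subgroup.zpowers z := by rw [htop]; trivial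
  obtain ⟨k, hk⟩ := Subgroup.mem_zpowers_iff.mp hxz
  have hzc : (z : G) ∈ Subgroup.center G := by
    rw [Subgroup.mem_center_iff]
    intro g
    have := hzfix g
    have h2 := congrArg (fun y : Z => (y : G)) this
    simp only [hsmul] at h2
    calc g * (z : G) = (g * z * g⁻¹) * g := by group
      _ = z * g := by rw [h2]
  have : x = (z : G) ^ k := by
    have := congrArg (fun y : Z => (y : G)) hk
    simpa using this.symm
  rw [this]
  exact Subgroup.zpow_mem _ hzc k

/-- elements of a finite `p`-group normalizing a subgroup of order `p` centralize it -/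
lemma commute_of_mem_normalizer_prime_card {G : Type*} [Group G] [Finite G] {p : ℕ} [Fact p.Prime]
    (hG : IsPGroup p G) (Z : Subgroup G) (hZ : Nat.card Z = p) {g z : G}
    (hg : g ∈ Subgroup.normalizer (Z : Set G)) (hz : z ∈ Z) : g * z = z * g := by
  set N := Subgroup.normalizer (Z : Set G) with hN
  have hZN : Z ≤ N := Subgroup.le_normalizer
  have hnorm : (Z.subgroupOf N).Normal := Subgroup.normal_in_normalizer
  have hcard : Nat.card (Z.subgroupOf N) = p := by
    rw [← hZ]
    exact Nat.card_congr (Subgroup.subgroupOfEquivOfLe hZN).toEquiv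
  have hle := normal_prime_card_le_center (hG.to_subgroup N) (Z.subgroupOf N) hcard
  have hzmem : (⟨z, hZN hz⟩ : N) ∈ Z.subgroupOf N := by
    rw [Subgroup.mem_subgroupOf]; exact hz
  have hc := hle hzmem
  rw [Subgroup.mem_center_iff] at hc
  have := hc ⟨g, hg⟩
  exact congrArg (fun y : N => (y : G)) this

/-- For a homomorphism to a group of prime order `p`, either it is trivial or
`p * |ker| = |B|`. -/
lemma card_ker_of_prime {B Z : Type*} [Group B] [Group Z] [Finite B] {p : ℕ} [Fact p.Prime]
    (hZ : Nat.card Z = p) (φ : B →* Z) (hφ : ∃ b, φ b ≠ 1) :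
    p * Nat.card φ.ker = Nat.card B := by
  have hZp : Fact (Nat.card Z).Prime := ⟨by rw [hZ]; exact Fact.out⟩
  have hrange : φ.range = ⊤ := by
    rcases Subgroup.eq_bot_or_eq_top_of_prime_card φ.range with h | h
    · exfalso
      obtain ⟨b, hb⟩ := hφ
      apply hb
      have : φ b ∈ φ.range := ⟨b, rfl⟩
      rw [h, Subgroup.mem_bot] at this
      exact this
    · exact h
  have h1 := Subgroup.card_mul_index φ.ker
  rw [Subgroup.index_ker, hrange, Subgroup.card_top, hZ] at h1
  rw [mul_comm]; exact h1

open Finset in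
/-- one-sided count for a map multiplicative in its second variable -/
lemma one_side {A B Z : Type*} [Fintype A] [Fintype B] [Group B] [Group Z] [DecidableEq Z]
    {p : ℕ} [Fact p.Prime] (hZ : Nat.card Z = p) (f : A → B → Z)
    (hf2 : ∀ a b b', f a (b * b') = f a b * f a b')
    [DecidablePred (fun a : A => ∀ b, f a b = 1)] :
    p * ∑ a : A, #{b : B | f a b = 1}
      = p * Fintype.card B * #{a : A | ∀ b, f a b = 1}
        + Fintype.card B * #{a : A | ¬ ∀ b, f a b = 1} := by
  classical
  rw [Finset.mul_sum]
  have hterm : ∀ a : A, p * #{b : B | f a b = 1}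
      = if (∀ b, f a b = 1) then p * Fintype.card B else Fintype.card B := by
    intro a
    let φ : B →* Z :=
      { toFun := f a
        map_one' := by
          have := hf2 a 1 1
          rw [mul_one] at this
          exact (left_eq_mul.mp this)
        map_mul' := hf2 a }
    have hker : #{b : B | f a b = 1} = Nat.card φ.ker := by
      rw [Nat.card_eq_fintype_card, Fintype.card_subtype]
      congr 1
      ext b
      simp only [Finset.mem_filter, Finset.mem_univ, true_and, MonoidHom.mem_ker]
      rfl
    split_ifs with h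
    · congr 1
      rw [← Finset.card_univ]
      congr 1
      ext b; simp [h b]
    · push Not at h
      rw [hker, ← Nat.card_eq_fintype_card]
      exact card_ker_of_prime hZ φ h
  rw [Finset.sum_congr rfl (fun a _ => hterm a), Finset.sum_ite, Finset.sum_const,
    Finset.sum_const, smul_eq_mul, smul_eq_mul]
  ring

/-- the counting lemma for a bimultiplicative pairing into a group of prime order -/
lemma pairing_count {A B Z : Type*} [Group A] [Group B] [Group Z] [Finite A] [Finite B]
    {p : ℕ} [Fact p.Prime] (hZ : Nat.card Z = p) (f : A → B → Z)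
    (hf1 : ∀ a a' b, f (a * a') b = f a b * f a' b)
    (hf2 : ∀ a b b', f a (b * b') = f a b * f a b') :
    Nat.card A * Nat.card {b : B // ∀ a, f a b = 1}
      = Nat.card B * Nat.card {a : A // ∀ b, f a b = 1} := by
  classical
  have : Fintype A := Fintype.ofFinite A
  have : Fintype B := Fintype.ofFinite B
  have hA := one_side hZ f hf2
  have hB := one_side hZ (fun b a => f a b) (fun b a a' => hf1 a a' b)
  have hswap : ∑ a : A, (Finset.univ.filter (fun b : B => f a b = 1)).card
      = ∑ b : B, (Finset.univ.filter (fun a : A => f a b = 1)).card :=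
    Finset.sum_card_bipartiteAbove_eq_sum_card_bipartiteBelow (fun a b => f a b = 1)
  rw [hswap] at hA
  rw [hA] at hB
  have hkA := Finset.card_filter_add_card_filter_not (s := (Finset.univ : Finset A))
    (fun a => ∀ b, f a b = 1)
  have hkB := Finset.card_filter_add_card_filter_not (s := (Finset.univ : Finset B))
    (fun b => ∀ a, f a b = 1)
  rw [Finset.card_univ] at hkA hkB
  simp only [Nat.card_eq_fintype_card, Fintype.card_subtype]
  set k := (Finset.univ.filter (fun a : A => ∀ b, f a b = 1)).card
  set k' := (Finset.univ.filter (fun a : A => ¬ ∀ b, f a b = 1)).card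
  set l := (Finset.univ.filter (fun b : B => ∀ a, f a b = 1)).card
  set l' := (Finset.univ.filter (fun b : B => ¬ ∀ a, f a b = 1)).card
  obtain ⟨q, hq⟩ : ∃ q, p = q + 1 := ⟨p - 1, (Nat.sub_add_cancel (Fact.out : p.Prime).one_le).symm⟩
  have hqpos : 0 < q := by
    have := (Fact.out : p.Prime).two_le
    omega
  rw [← hkA, ← hkB] at hB ⊢
  rw [hq] at hB
  have h3 : q * (l' * k) = q * (k' * l) := by nlinarith
  have h4 : l' * k = k' * l := Nat.eq_of_mul_eq_mul_left hqpos h3
  nlinarith

theorem result {G : Type*} [Group G] [Finite G] {p : ℕ} [Fact p.Prime] (hG : IsPGroup p G) (A B : Subgroup G) (hAB : ⁅A, B⁆ ≤ A ⊓ B) (hcard : Nat.card ↥⁅A, B⁆ ≤ p) : (A ⊓ Subgroup.centralizer (B : Set G)).relIndex A = (B ⊓ Subgroup.centralizer (A : Set G)).relIndex B := by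
  classical
  set Z : Subgroup G := ⁅A, B⁆ with hZdef
  -- card Z is 1 or p
  obtain ⟨n, hn⟩ := (IsPGroup.iff_card (p := p)).mp (hG.to_subgroup Z)
  have hp : p.Prime := Fact.out
  have hn1 : n ≤ 1 := by
    by_contra h
    push Not at h
    have : p ^ 2 ≤ p ^ n := Nat.pow_le_pow_right hp.pos h
    rw [← hn] at this
    nlinarith [hp.two_le]
  -- index computations
  have hidxA : (A ⊓ Subgroup.centralizer (B : Set G)).relIndex A
      * Nat.card {a : A // ∀ b : B, ⁅(a : G), (b : G)⁆ = 1} = Nat.card A := by
    rw [Subgroup.relIndex, mul_comm]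
    rw [← Subgroup.card_mul_index ((A ⊓ Subgroup.centralizer (B : Set G)).subgroupOf A)]
    congr 1
    apply Nat.card_congr
    apply Equiv.subtypeEquivRight
    intro a
    rw [Subgroup.mem_subgroupOf, Subgroup.mem_inf, Subgroup.mem_centralizer_iff]
    constructor
    · intro h
      refine ⟨a.2, fun b hb => ?_⟩
      have := h ⟨b, hb⟩
      rw [commutatorElement_eq_one_iff_commute] at this
      exact this.eq.symm
    · rintro ⟨_, h⟩ b
      rw [commutatorElement_eq_one_iff_commute]
      exact (h b b.2).symm
  have hidxB : (B ⊓ Subgroup.centralizer (A : Set G)).relIndex B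
      * Nat.card {b : B // ∀ a : A, ⁅(a : G), (b : G)⁆ = 1} = Nat.card B := by
    rw [Subgroup.relIndex, mul_comm]
    rw [← Subgroup.card_mul_index ((B ⊓ Subgroup.centralizer (A : Set G)).subgroupOf B)]
    congr 1
    apply Nat.card_congr
    apply Equiv.subtypeEquivRight
    intro b
    rw [Subgroup.mem_subgroupOf, Subgroup.mem_inf, Subgroup.mem_centralizer_iff]
    constructor
    · intro h
      refine ⟨b.2, fun a ha => ?_⟩
      have := h ⟨a, ha⟩
      rw [commutatorElement_eq_one_iff_commute] at this
      exact this.eq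
    · rintro ⟨_, h⟩ a
      rw [commutatorElement_eq_one_iff_commute]
      exact (h a a.2)
  have hposA : 0 < Nat.card {a : A // ∀ b : B, ⁅(a : G), (b : G)⁆ = 1} :=
    Nat.card_pos_iff.mpr ⟨⟨⟨1, fun b => by simp⟩⟩, inferInstance⟩
  have hposB : 0 < Nat.card {b : B // ∀ a : A, ⁅(a : G), (b : G)⁆ = 1} :=
    Nat.card_pos_iff.mpr ⟨⟨⟨1, fun a => by simp⟩⟩, inferInstance⟩
  -- the key identity
  have key : Nat.card A * Nat.card {b : B // ∀ a : A, ⁅(a : G), (b : G)⁆ = 1}
      = Nat.card B * Nat.card {a : A // ∀ b : B, ⁅(a : G), (b : G)⁆ = 1} := by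
    interval_cases n
    · -- Z trivial: everything commutes
      have hZbot : Z = ⊥ := by
        rw [← Subgroup.card_eq_one]; simpa using hn
      have hall : ∀ (a : A) (b : B), ⁅(a : G), (b : G)⁆ = 1 := by
        intro a b
        have : ⁅(a : G), (b : G)⁆ ∈ Z := Subgroup.commutator_mem_commutator a.2 b.2
        rw [hZbot, Subgroup.mem_bot] at this
        exact this
      have e1 : Nat.card {b : B // ∀ a : A, ⁅(a : G), (b : G)⁆ = 1} = Nat.card B :=
        Nat.card_congr (Equiv.subtypeUnivEquiv (fun b a => hall a b))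
      have e2 : Nat.card {a : A // ∀ b : B, ⁅(a : G), (b : G)⁆ = 1} = Nat.card A :=
        Nat.card_congr (Equiv.subtypeUnivEquiv (fun a b => hall a b))
      rw [e1, e2, mul_comm]
    · -- Z of order p, central for A and B
      have hZp : Nat.card Z = p := by simpa using hn
      have hZA : Z ≤ A := hAB.trans inf_le_left
      have hZB : Z ≤ B := hAB.trans inf_le_right
      -- A and B normalize Z
      have hAn : A ≤ Subgroup.normalizer (Z : Set G) := by
        intro a ha
        rw [Subgroup.mem_normalizer_iff]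
        intro z
        constructor
        · intro hz
          -- a z a⁻¹ = ⁅a, z⁆ * z and ⁅a,z⁆ ∈ ⁅A,B⁆
          have h1 : ⁅a, z⁆ ∈ Z := Subgroup.commutator_mem_commutator ha (hZB hz)
          have : a * z * a⁻¹ = ⁅a, z⁆ * z := by
            rw [commutatorElement_def]; group
          rw [this]
          exact Z.mul_mem h1 hz
        · intro hz
          have hz' : a⁻¹ * (a * z * a⁻¹) * a⁻¹⁻¹ ∈ Z := by
            have h1 : ⁅a⁻¹, a * z * a⁻¹⁆ ∈ Z :=
              Subgroup.commutator_mem_commutator (A.inv_mem ha) (hZB hz)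
            have : a⁻¹ * (a * z * a⁻¹) * a⁻¹⁻¹ = ⁅a⁻¹, a * z * a⁻¹⁆ * (a * z * a⁻¹) := by
              rw [commutatorElement_def]; group
            rw [this]
            exact Z.mul_mem h1 hz
          have : a⁻¹ * (a * z * a⁻¹) * a⁻¹⁻¹ = z := by group
          rwa [this] at hz'
      have hBn : B ≤ Subgroup.normalizer (Z : Set G) := by
        intro b hb
        rw [Subgroup.mem_normalizer_iff]
        intro z
        constructor
        · intro hz
          -- b z b⁻¹ = z * ⁅z⁻¹, b⁆  and ⁅z⁻¹,b⁆ ∈ ⁅A,B⁆
          have h1 : ⁅z⁻¹, b⁆ ∈ Z := Subgroup.commutator_mem_commutator (hZA (Z.inv_mem hz)) hb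
          have : b * z * b⁻¹ = z * (⁅z⁻¹, b⁆)  := by
            rw [commutatorElement_def]; group
          rw [this]
          exact Z.mul_mem hz h1
        · intro hz
          have hz' : b⁻¹ * (b * z * b⁻¹) * b⁻¹⁻¹ ∈ Z := by
            have h1 : ⁅(b * z * b⁻¹)⁻¹, b⁻¹⁆ ∈ Z :=
              Subgroup.commutator_mem_commutator (hZA (Z.inv_mem hz)) (B.inv_mem hb)
            have : b⁻¹ * (b * z * b⁻¹) * b⁻¹⁻¹ = (b * z * b⁻¹) * ⁅(b * z * b⁻¹)⁻¹, b⁻¹⁆ := by
              rw [commutatorElement_def]; group
            rw [this]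
            exact Z.mul_mem hz h1
          have : b⁻¹ * (b * z * b⁻¹) * b⁻¹⁻¹ = z := by group
          rwa [this] at hz'
      have hcomm : ∀ g, (g ∈ A ∨ g ∈ B) → ∀ z ∈ Z, g * z = z * g := by
        intro g hg z hz
        apply commute_of_mem_normalizer_prime_card hG Z hZp _ hz
        rcases hg with h | h
        · exact hAn h
        · exact hBn h
      -- the pairing
      let f : A → B → Z := fun a b =>
        ⟨⁅(a : G), (b : G)⁆, Subgroup.commutator_mem_commutator a.2 b.2⟩
      have hf1 : ∀ a a' b, f (a * a') b = f a b * f a' b := by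
        intro a a' b
        apply Subtype.ext
        show ⁅((a * a' : A) : G), (b : G)⁆ = ⁅(a : G), (b : G)⁆ * ⁅(a' : G), (b : G)⁆
        have hc := hcomm a (Or.inl a.2) ⁅(a' : G), (b : G)⁆
          (Subgroup.commutator_mem_commutator a'.2 b.2)
        have hc2 := hcomm a (Or.inl a.2) ⁅(a : G), (b : G)⁆
          (Subgroup.commutator_mem_commutator a.2 b.2)
        have hc3 := hcomm a⁻¹ (Or.inl (A.inv_mem a.2)) ⁅(a' : G), (b : G)⁆
          (Subgroup.commutator_mem_commutator a'.2 b.2)
        rw [Subgroup.coe_mul, commutatorElement_def, commutatorElement_def, commutatorElement_def]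
          at *
        -- (a a') b (a a')⁻¹ b⁻¹ = a (a' b a'⁻¹ b⁻¹) b a⁻¹ b⁻¹
        calc (a : G) * a' * b * ((a : G) * a')⁻¹ * (b : G)⁻¹
            = (a : G) * ((a' : G) * b * (a' : G)⁻¹ * (b : G)⁻¹) * b * (a : G)⁻¹ * (b : G)⁻¹ := by
              group
          _ = ((a' : G) * b * (a' : G)⁻¹ * (b : G)⁻¹) * (a : G) * b * (a : G)⁻¹ * (b : G)⁻¹ := by
              rw [hc]
          _ = ((a' : G) * b * (a' : G)⁻¹ * (b : G)⁻¹) * ((a : G) * b * (a : G)⁻¹ * (b : G)⁻¹) := by
              group
          _ = _ := by
              -- Z is commutative: use that a commutes... instead use commutation of the two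
              have hcc := hcomm a' (Or.inl a'.2) ((a : G) * b * (a : G)⁻¹ * (b : G)⁻¹)
                (by
                  have := Subgroup.commutator_mem_commutator (H₁ := A) (H₂ := B) a.2 b.2
                  rwa [commutatorElement_def] at this)
              have hcb := hcomm b (Or.inr b.2) ((a : G) * b * (a : G)⁻¹ * (b : G)⁻¹)
                (by
                  have := Subgroup.commutator_mem_commutator (H₁ := A) (H₂ := B) a.2 b.2
                  rwa [commutatorElement_def] at this)
              have hcc' := hcomm (a' : G)⁻¹ (Or.inl (A.inv_mem a'.2))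
                ((a : G) * b * (a : G)⁻¹ * (b : G)⁻¹)
                (by
                  have := Subgroup.commutator_mem_commutator (H₁ := A) (H₂ := B) a.2 b.2
                  rwa [commutatorElement_def] at this)
              have hcb' := hcomm (b : G)⁻¹ (Or.inr (B.inv_mem b.2))
                ((a : G) * b * (a : G)⁻¹ * (b : G)⁻¹)
                (by
                  have := Subgroup.commutator_mem_commutator (H₁ := A) (H₂ := B) a.2 b.2
                  rwa [commutatorElement_def] at this)
              set w := (a : G) * b * (a : G)⁻¹ * (b : G)⁻¹ with hw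
              calc (a' : G) * b * (a' : G)⁻¹ * (b : G)⁻¹ * w
                  = (a' : G) * b * (a' : G)⁻¹ * ((b : G)⁻¹ * w) := by group
                _ = (a' : G) * b * (a' : G)⁻¹ * (w * (b : G)⁻¹) := by rw [hcb']
                _ = (a' : G) * b * ((a' : G)⁻¹ * w) * (b : G)⁻¹ := by group
                _ = (a' : G) * b * (w * (a' : G)⁻¹) * (b : G)⁻¹ := by rw [hcc']
                _ = (a' : G) * (b * w) * (a' : G)⁻¹ * (b : G)⁻¹ := by group
                _ = (a' : G) * (w * b) * (a' : G)⁻¹ * (b : G)⁻¹ := by rw [hcb]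
                _ = ((a' : G) * w) * b * (a' : G)⁻¹ * (b : G)⁻¹ := by group
                _ = (w * (a' : G)) * b * (a' : G)⁻¹ * (b : G)⁻¹ := by rw [hcc]
                _ = w * ((a' : G) * b * (a' : G)⁻¹ * (b : G)⁻¹) := by group
      have hf2 : ∀ a b b', f a (b * b') = f a b * f a b' := by
        intro a b b'
        apply Subtype.ext
        show ⁅(a : G), ((b * b' : B) : G)⁆ = ⁅(a : G), (b : G)⁆ * ⁅(a : G), (b' : G)⁆
        have hcb := hcomm b (Or.inr b.2) ⁅(a : G), (b' : G)⁆
          (Subgroup.commutator_mem_commutator a.2 b'.2)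
        rw [Subgroup.coe_mul, commutatorElement_def, commutatorElement_def, commutatorElement_def]
          at *
        calc (a : G) * ((b : G) * b') * (a : G)⁻¹ * ((b : G) * b')⁻¹
            = (a : G) * b * (a : G)⁻¹ * ((a : G) * b' * (a : G)⁻¹ * (b' : G)⁻¹) * (b : G)⁻¹ := by
              group
          _ = (a : G) * b * (a : G)⁻¹ * (b : G)⁻¹ * (b * ((a : G) * b' * (a : G)⁻¹ * (b' : G)⁻¹))
                * (b : G)⁻¹ := by group
          _ = (a : G) * b * (a : G)⁻¹ * (b : G)⁻¹ * (((a : G) * b' * (a : G)⁻¹ * (b' : G)⁻¹) * b)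
                * (b : G)⁻¹ := by rw [hcb]
          _ = _ := by group
      have hpc := pairing_count hZp f hf1 hf2
      have e1 : Nat.card {b : B // ∀ a : A, f a b = 1}
          = Nat.card {b : B // ∀ a : A, ⁅(a : G), (b : G)⁆ = 1} := by
        apply Nat.card_congr
        apply Equiv.subtypeEquivRight
        intro b
        constructor
        · intro h a; exact congrArg Subtype.val (h a)
        · intro h a; exact Subtype.ext (h a)
      have e2 : Nat.card {a : A // ∀ b : B, f a b = 1}
          = Nat.card {a : A // ∀ b : B, ⁅(a : G), (b : G)⁆ = 1} := by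
        apply Nat.card_congr
        apply Equiv.subtypeEquivRight
        intro a
        constructor
        · intro h b; exact congrArg Subtype.val (h b)
        · intro h b; exact Subtype.ext (h b)
      rw [e1, e2] at hpc
      exact hpc
  -- conclude
  set x := (A ⊓ Subgroup.centralizer (B : Set G)).relIndex A
  set y := (B ⊓ Subgroup.centralizer (A : Set G)).relIndex B
  set cA := Nat.card {a : A // ∀ b : B, ⁅(a : G), (b : G)⁆ = 1}
  set cB := Nat.card {b : B // ∀ a : A, ⁅(a : G), (b : G)⁆ = 1}
  rw [← hidxA, ← hidxB] at key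
  have : (cA * cB) * x = (cA * cB) * y := by nlinarith
  exact Nat.eq_of_mul_eq_mul_left (Nat.mul_pos hposA hposB) this

end Cfsg.Agent.S3741
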