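import Cfsg.Statements.S3743
import Cfsg.Agent.Lib.Helper1.Fitting
import Cfsg.Agent.Lib.Helper22.FStar

set_option autoImplicit false
open Cfsg

namespace Cfsg.Agent.S3743

section PiCore
variable {G : Type*} [Group G]

/-- the defining property of members of the family generating `piCore` -/
def IsPiNormal (π : Set ℕ) (N : Subgroup G) : Prop :=
  N.Normal ∧ ∀ p : ℕ, p.Prime → p ∣ Nat.card N → p ∈ π

lemma piCore_eq (π : Set ℕ) : piCore π G = sSup {N : Subgroup G | IsPiNormal π N} := rfl

lemma isPiNormal_map_equiv {H : Type*} [Group H] (e : G ≃* H) {π : Set ℕ} {N : Subgroup G}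
    (hN : IsPiNormal π N) : IsPiNormal π (N.map e.toMonoidHom) := by
  refine ⟨hN.1.map e.toMonoidHom e.surjective, ?_⟩
  have : Nat.card (N.map e.toMonoidHom) = Nat.card N :=
    Nat.card_congr (N.equivMapOfInjective e.toMonoidHom e.injective).toEquiv.symm
  rw [this]
  exact hN.2

lemma piCore_map_le {H : Type*} [Group H] (e : G ≃* H) (π : Set ℕ) :
    (piCore π G).map e.toMonoidHom ≤ piCore π H := by
  rw [piCore_eq, piCore_eq, (Subgroup.gc_map_comap e.toMonoidHom).l_sSup]
  exact iSup₂_le fun N hN => le_sSup (isPiNormal_map_equiv e hN)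

lemma piCore_map_equiv {H : Type*} [Group H] (e : G ≃* H) (π : Set ℕ) :
    (piCore π G).map e.toMonoidHom = piCore π H := by
  apply le_antisymm (piCore_map_le e π)
  have h := Subgroup.map_mono (f := e.toMonoidHom) (piCore_map_le e.symm π)
  rw [Subgroup.map_map] at h
  have : e.toMonoidHom.comp e.symm.toMonoidHom = MonoidHom.id H := by
    ext x; simp
  rwa [this, Subgroup.map_id] at h

lemma piCore_characteristic (π : Set ℕ) : (piCore π G).Characteristic := by
  rw [Subgroup.characteristic_iff_map_le]
  intro ϕ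
  exact piCore_map_le ϕ π

/-- in a finite group the `π`-core is itself a normal `π`-subgroup -/
lemma isPiNormal_piCore [Finite G] (π : Set ℕ) : IsPiNormal π (piCore π G) := by
  rw [piCore_eq]
  apply Cfsg.Agent.Lib.Helper1.sSup_induction_of_finite (fun N : Subgroup G => IsPiNormal π N)
  · refine ⟨inferInstance, ?_⟩
    intro p hp hdvd
    rw [Subgroup.card_bot] at hdvd
    exact absurd (Nat.dvd_one.mp hdvd) hp.ne_one
  · rintro a b ⟨ha, ha'⟩ ⟨hb, hb'⟩
    refine ⟨inferInstance, ?_⟩
    intro p hp hdvd
    have h1 := Cfsg.Agent.Lib.Helper1.card_sup_dvd_mul_of_normal_left a b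
    rcases (hp.dvd_mul).mp (hdvd.trans h1) with h | h
    · exact ha' p hp h
    · exact hb' p hp h
  · exact fun N hN => hN

lemma piCore_map_subtype_le_of_normal [Finite G] (π : Set ℕ) (N : Subgroup G) [N.Normal] :
    (piCore π N).map N.subtype ≤ piCore π G := by
  haveI : (piCore π N).Characteristic := piCore_characteristic π
  have hn : ((piCore π N).map N.subtype).Normal := ConjAct.normal_of_characteristic_of_normal
  have hcard : Nat.card ((piCore π N).map N.subtype) = Nat.card (piCore π N) :=
    Nat.card_congr ((piCore π N).equivMapOfInjective N.subtype N.subtype_injective).toEquiv.symm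
  refine le_sSup ⟨hn, ?_⟩
  rw [hcard]
  exact (isPiNormal_piCore π).2

lemma piCore_map_subtype_le_of_isSubnormal [Finite G] (π : Set ℕ) {H : Subgroup G}
    (hH : H.IsSubnormal) : (piCore π H).map H.subtype ≤ piCore π G := by
  induction hH with
  | top =>
    have := piCore_map_equiv (Subgroup.topEquiv : (⊤ : Subgroup G) ≃* G) π
    rw [← this]
    exact le_of_eq rfl
  | step H K hle hK hN ih =>
    haveI := hN
    have h1 := piCore_map_subtype_le_of_normal π (H.subgroupOf K)
    have h2 := (Subgroup.map_mono (f := K.subtype) h1).trans ih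
    have e := piCore_map_equiv (Subgroup.subgroupOfEquivOfLe hle) π
    rw [← e, Subgroup.map_map]
    rw [Subgroup.map_map] at h2
    exact h2

lemma le_piCore_of_isSubnormal [Finite G] (π : Set ℕ) {H : Subgroup G} (hH : H.IsSubnormal)
    (hπ : ∀ p : ℕ, p.Prime → p ∣ Nat.card H → p ∈ π) : H ≤ piCore π G := by
  have h1 : piCore π H = ⊤ := by
    rw [eq_top_iff]
    refine le_sSup ⟨inferInstance, ?_⟩
    rw [Subgroup.card_top]
    exact hπ
  have h2 := piCore_map_subtype_le_of_isSubnormal π hH
  rw [h1, ← MonoidHom.range_eq_map, Subgroup.range_subtype] at h2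
  exact h2

end PiCore

theorem result {G : Type*} [Group G] [Finite G] (A : Subgroup G) (hA : A.IsSubnormal) : (Group.IsNilpotent A → A ≤ Cfsg.fittingSubgroup G) ∧ ∀ π : Set ℕ, (∀ p : ℕ, p.Prime → p ∣ Nat.card A → p ∈ π) → A ≤ Cfsg.piCore π G := by
  refine ⟨fun hnil => ?_, fun π hπ => le_piCore_of_isSubnormal π hA hπ⟩
  exact Cfsg.Agent.Lib.Helper22.le_fittingSubgroup_of_isSubnormal_of_isNilpotent hA hnil

end Cfsg.Agent.S3743
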