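import Mathlib
import Cfsg.Statements.S3962

set_option autoImplicit false
open Cfsg

namespace Cfsg.Agent.S3962

/-- If `g` commutes with everything modulo the centre, then `h ↦ g * h * g⁻¹ * h⁻¹` is a
homomorphism into the centre; on a perfect group it is trivial. -/
theorem mem_center_of_comm_mem_center {G : Type*} [Group G] (hG : Group.IsPerfect G) (g : G)
    (hg : ∀ h : G, g * h * g⁻¹ * h⁻¹ ∈ Subgroup.center G) : g ∈ Subgroup.center G := by
  -- the map h ↦ [g,h] as a hom G →* center G
  let φ : G →* Subgroup.center G :=
    { toFun := fun h => ⟨g * h * g⁻¹ * h⁻¹, hg h⟩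
      map_one' := by ext; simp
      map_mul' := by
        intro a b
        ext
        simp only [Subgroup.coe_mul]
        -- [g, ab] = [g,a] * a [g,b] a⁻¹ = [g,a][g,b] as [g,b] central
        have hb := hg b
        rw [Subgroup.mem_center_iff] at hb
        have := hb a
        calc g * (a * b) * g⁻¹ * (a * b)⁻¹
            = g * a * g⁻¹ * ((g * b * g⁻¹ * b⁻¹) * a⁻¹) := by group
          _ = g * a * g⁻¹ * (a⁻¹ * (g * b * g⁻¹ * b⁻¹)) := by
              congr 1
              have h2 := hb a⁻¹
              exact h2.symm
          _ = g * a * g⁻¹ * a⁻¹ * (g * b * g⁻¹ * b⁻¹) := by group }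
  -- φ kills the commutator subgroup = ⊤
  have hker : φ.ker = ⊤ := by
    have h1 : commutator G ≤ φ.ker := by
      rw [commutator_def, Subgroup.commutator_le]
      intro a _ b _
      rw [MonoidHom.mem_ker]
      rw [commutatorElement_def, map_mul, map_mul, map_inv, map_inv]
      -- commutative target
      have hc : φ a * φ b = φ b * φ a := by
        apply Subtype.ext
        have := (φ a).2
        rw [Subgroup.mem_center_iff] at this
        exact (this (φ b : G)).symm
      rw [map_mul, hc]
      group
    rw [Group.isPerfect_def] at hG
    rw [hG] at h1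
    exact top_le_iff.1 h1
  rw [Subgroup.mem_center_iff]
  intro h
  have : φ h = 1 := by
    have : h ∈ φ.ker := by rw [hker]; trivial
    exact this
  have h2 : g * h * g⁻¹ * h⁻¹ = 1 := congrArg Subtype.val this
  have : g * h = h * g := by
    have := congrArg (fun x => x * h * g) h2
    simpa [mul_assoc] using this
  exact this.symm

/-- Let `G` be a perfect group and `π : G →* Q` a surjective homomorphism whose kernel is central. Then `π` maps the centre of `G` onto the centre of `Q`. Taking `π` to be the map to `G ⧸ Z(G)` shows that the central quotient of a perfect group has trivial centre. -/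
theorem result {G Q : Type*} [Group G] [Group Q] (hG : Group.IsPerfect G) (π : G →* Q) (hπ : Function.Surjective π) (hker : π.ker ≤ Subgroup.center G) : (Subgroup.center G).map π = Subgroup.center Q := by
  apply le_antisymm
  · rintro _ ⟨g, hg, rfl⟩
    have hg : g ∈ Subgroup.center G := hg
    rw [Subgroup.mem_center_iff] at hg ⊢
    intro q
    obtain ⟨h, rfl⟩ := hπ q
    rw [← map_mul, ← map_mul, hg h]
  · intro q hq
    obtain ⟨g, rfl⟩ := hπ q
    refine ⟨g, ?_, rfl⟩
    apply mem_center_of_comm_mem_center hG
    intro h
    apply hker
    rw [MonoidHom.mem_ker, map_mul, map_mul, map_mul, map_inv, map_inv]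
    rw [Subgroup.mem_center_iff] at hq
    rw [← hq (π h)]
    group

end Cfsg.Agent.S3962
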