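import Cfsg.Statements.S3746
import Cfsg.Agent.S3962
import Cfsg.Agent.Lib.Helper22.Components

set_option autoImplicit false
open Cfsg

namespace Cfsg.Agent.S3746

open scoped commutatorElement

/-- a quotient of a perfect group by a central subgroup is quasisimple ⇒ the group is quasisimple -/
lemma isQuasisimple_of_central_ext {D Q : Type*} [Group D] [Group Q] (hD : Group.IsPerfect D)
    (f : D →* Q) (hf : Function.Surjective f) (hker : f.ker ≤ Subgroup.center D)
    (hQ : IsQuasisimple Q) : IsQuasisimple D := by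
  refine ⟨hD, ?_⟩
  have hcen : (Subgroup.center D).map f = Subgroup.center Q :=
    Cfsg.Agent.S3962.result hD f hf hker
  set g : D →* Q ⧸ Subgroup.center Q := (QuotientGroup.mk' (Subgroup.center Q)).comp f with hg
  have hgs : Function.Surjective g :=
    (QuotientGroup.mk'_surjective _).comp hf
  have hgker : g.ker = Subgroup.center D := by
    rw [hg, ← MonoidHom.comap_ker, QuotientGroup.ker_mk', ← hcen, Subgroup.comap_map_eq]
    exact sup_eq_left.mpr hker
  have e : D ⧸ Subgroup.center D ≃* Q ⧸ Subgroup.center Q :=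
    (QuotientGroup.quotientMulEquivOfEq hgker.symm).trans
      (QuotientGroup.quotientKerEquivOfSurjective g hgs)
  haveI := hQ.2
  exact e.isSimpleGroup

theorem result {G : Type*} [Group G] [Finite G] (Z : Subgroup G) (hZ : Z ≤ Subgroup.center G) [Z.Normal] (E : Subgroup G) (hZE : Z ≤ E) (hE : Cfsg.IsComponent (E.map (QuotientGroup.mk' Z))) : Cfsg.IsComponent ⁅E, E⁆ := by
  set π := QuotientGroup.mk' Z with hπ
  have hkerπ : π.ker = Z := QuotientGroup.ker_mk' Z
  set D : Subgroup G := ⁅E, E⁆ with hDdef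
  have hDE : D ≤ E := Subgroup.commutator_le.mpr (fun a ha b hb =>
    E.mul_mem (E.mul_mem (E.mul_mem ha hb) (E.inv_mem ha)) (E.inv_mem hb))
  -- C1
  have C1 : D.map π = E.map π := by
    rw [hDdef, Subgroup.map_commutator]
    exact Cfsg.Agent.Lib.Helper22.component_commutator_self hE
  -- C2
  have C2 : E = D ⊔ Z := by
    have h1 := congrArg (Subgroup.comap π) C1
    rw [Subgroup.comap_map_eq, Subgroup.comap_map_eq, hkerπ, sup_eq_left.mpr hZE] at h1
    exact h1.symm
  -- C3
  have C3 : ⁅D, D⁆ = D := by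
    apply le_antisymm
    · exact Subgroup.commutator_le.mpr (fun a ha b hb =>
        D.mul_mem (D.mul_mem (D.mul_mem ha hb) (D.inv_mem ha)) (D.inv_mem hb))
    · rw [hDdef]
      apply Subgroup.commutator_le.mpr
      intro a ha b hb
      rw [C2] at ha hb
      obtain ⟨d, hd, z, hz, rfl⟩ := Subgroup.mem_sup_of_normal_right.mp ha
      obtain ⟨d', hd', z', hz', rfl⟩ := Subgroup.mem_sup_of_normal_right.mp hb
      have hzc := Subgroup.mem_center_iff.mp (hZ hz)
      have hzc' := Subgroup.mem_center_iff.mp (hZ hz')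
      have : ⁅d * z, d' * z'⁆ = ⁅d, d'⁆ := by
        rw [commutatorElement_def, commutatorElement_def]
        have e1 : (d * z)⁻¹ = d⁻¹ * z⁻¹ := by
          rw [mul_inv_rev]
          have := hzc d⁻¹
          have h2 : z⁻¹ * d⁻¹ = d⁻¹ * z⁻¹ := by
            have := Subgroup.mem_center_iff.mp (Subgroup.inv_mem _ (hZ hz)) d⁻¹
            exact this.symm
          exact h2
        have e2 : (d' * z')⁻¹ = d'⁻¹ * z'⁻¹ := by
          rw [mul_inv_rev]
          have := Subgroup.mem_center_iff.mp (Subgroup.inv_mem _ (hZ hz')) d'⁻¹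
          exact this.symm
        rw [e1, e2]
        -- move the central elements around
        calc d * z * (d' * z') * (d⁻¹ * z⁻¹) * (d'⁻¹ * z'⁻¹)
            = d * (z * d') * (z' * d⁻¹) * (z⁻¹ * d'⁻¹) * z'⁻¹ := by group
          _ = d * (d' * z) * (d⁻¹ * z') * (d'⁻¹ * z⁻¹) * z'⁻¹ := by
              rw [← hzc d', ← hzc' d⁻¹]
              have := Subgroup.mem_center_iff.mp (Subgroup.inv_mem _ (hZ hz)) d'⁻¹
              rw [this]
          _ = d * d' * (z * d⁻¹) * (z' * d'⁻¹) * z⁻¹ * z'⁻¹ := by group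
          _ = d * d' * (d⁻¹ * z) * (d'⁻¹ * z') * z⁻¹ * z'⁻¹ := by
              rw [← hzc d⁻¹, ← hzc' d'⁻¹]
          _ = d * d' * d⁻¹ * (z * d'⁻¹) * (z' * z⁻¹) * z'⁻¹ := by group
          _ = d * d' * d⁻¹ * (d'⁻¹ * z) * (z⁻¹ * z') * z'⁻¹ := by
              rw [← hzc d'⁻¹, ← hzc' z⁻¹]
          _ = d * d' * d⁻¹ * d'⁻¹ := by group
      rw [this]
      exact Subgroup.commutator_mem_commutator hd hd'
  -- C4 : subnormality
  have hEsn : E.IsSubnormal := by
    have h1 : (E.map π).comap π = E := by
      rw [Subgroup.comap_map_eq, hkerπ]; exact sup_eq_left.mpr hZE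
    rw [← h1]
    exact hE.1.comap π
  have hDsn : D.IsSubnormal := by
    have h1 : (commutator E).IsSubnormal := (inferInstance : (commutator E).Normal).isSubnormal
    have h2 := h1.trans' hEsn
    rwa [Subgroup.map_subtype_commutator] at h2
  refine ⟨hDsn, ?_⟩
  -- C5 : quasisimple
  have hperf : Group.IsPerfect D := by
    rw [Group.isPerfect_def]
    apply Subgroup.map_injective D.subtype_injective
    rw [Subgroup.map_subtype_commutator, C3, ← MonoidHom.range_eq_map, Subgroup.range_subtype]
  have hq : IsQuasisimple ↥(D.map π) := by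
    rw [C1]; exact hE.2
  refine isQuasisimple_of_central_ext hperf (π.subgroupMap D) (π.subgroupMap_surjective D) ?_ hq
  intro x hx
  rw [MonoidHom.mem_ker] at hx
  have hx' : π (x : G) = 1 := by
    have := congrArg Subtype.val hx
    simpa using this
  have hxZ : (x : G) ∈ Z := by
    rw [← hkerπ]; exact hx'
  rw [Subgroup.mem_center_iff]
  intro y
  apply Subtype.ext
  exact Subgroup.mem_center_iff.mp (hZ hxZ) (y : G)

end Cfsg.Agent.S3746
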