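import Cfsg.Statements.S3748
import Cfsg.Agent.S3735
import Cfsg.Agent.Lib.Helper22.FStar

set_option autoImplicit false
open Cfsg

namespace Cfsg.Agent.S3748

open Cfsg.Agent.S3735 (cm Inv inv_iff_le_normalizer mem_cm cm_mono)
open scoped commutatorElement

section
variable {G : Type*} [Group G] [Finite G]

/-- A primitive subgroup meets the Fitting subgroup trivially. -/
lemma inf_fitting_eq_bot (M : Subgroup G) (hM : M ≠ ⊤)
    (hprim : ∀ N : Subgroup G, N ≤ M → M ≤ Subgroup.normalizer (N : Set G) → N ≠ ⊥ →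
      Subgroup.normalizer (N : Set G) = M) : M ⊓ Cfsg.fittingSubgroup G = ⊥ := by
  by_contra hne
  set F := Cfsg.fittingSubgroup G with hF
  have hFn : F.Normal := Cfsg.Agent.Lib.Helper29.fittingSubgroup_normal G
  have hFnil : Group.IsNilpotent F := Cfsg.Agent.Lib.Helper1.fittingSubgroup_isNilpotent
  set P₀ := M ⊓ F with hP₀
  have hP₀M : P₀ ≤ M := inf_le_left
  have hMN : M ≤ Subgroup.normalizer (P₀ : Set G) := by
    intro m hm
    rw [Subgroup.mem_normalizer_iff]
    intro x
    constructor
    · rintro ⟨h1, h2⟩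
      exact ⟨M.mul_mem (M.mul_mem hm h1) (M.inv_mem hm), hFn.conj_mem x h2 m⟩
    · rintro ⟨h1, h2⟩
      refine ⟨?_, ?_⟩
      · have := M.mul_mem (M.mul_mem (M.inv_mem hm) h1) hm
        have e : m⁻¹ * (m * x * m⁻¹) * m = x := by group
        rwa [e] at this
      · have := hFn.conj_mem _ h2 m⁻¹
        have e : m⁻¹ * (m * x * m⁻¹) * m⁻¹⁻¹ = x := by group
        rwa [e] at this
  have hNP₀ : Subgroup.normalizer (P₀ : Set G) = M := hprim P₀ hP₀M hMN hne
  by_cases hFM : F ≤ M
  · -- then P₀ = F is normal in G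
    have : P₀ = F := inf_eq_right.mpr hFM
    rw [this, Subgroup.normalizer_eq_top] at hNP₀
    exact hM hNP₀.symm
  · -- normalizer condition in the nilpotent group F
    have hlt : P₀.subgroupOf F < ⊤ := by
      rw [lt_top_iff_ne_top]
      intro h
      apply hFM
      intro x hx
      have : (⟨x, hx⟩ : F) ∈ P₀.subgroupOf F := by rw [h]; trivial
      exact (Subgroup.mem_subgroupOf.mp this).1
    have hnc := (Group.normalizerCondition_of_isNilpotent (G := F)) (P₀.subgroupOf F) hlt
    obtain ⟨y, hyN, hyP⟩ := SetLike.exists_of_lt hnc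
    apply hyP
    rw [Subgroup.mem_subgroupOf]
    refine ⟨?_, y.2⟩
    rw [← hNP₀]
    show (y : G) ∈ Subgroup.normalizer (P₀ : Set G)
    rw [Subgroup.mem_normalizer_iff]
    rw [Subgroup.mem_normalizer_iff] at hyN
    intro x
    constructor
    · intro hx
      have := (hyN ⟨x, hx.2⟩).mp (Subgroup.mem_subgroupOf.mpr hx)
      exact Subgroup.mem_subgroupOf.mp this
    · intro hx
      have hxF : x ∈ F := by
        have := hFn.conj_mem _ hx.2 (y : G)⁻¹
        have e : (y : G)⁻¹ * ((y : G) * x * (y : G)⁻¹) * (y : G)⁻¹⁻¹ = x := by group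
        rwa [e] at this
      have := (hyN ⟨x, hxF⟩).mpr (Subgroup.mem_subgroupOf.mpr hx)
      exact Subgroup.mem_subgroupOf.mp this

/-- a minimal nontrivial subnormal subgroup is simple -/
lemma isSimpleGroup_of_minimal_subnormal (L : Subgroup G) (hLsn : L.IsSubnormal) (hL0 : L ≠ ⊥)
    (hmin : ∀ L' : Subgroup G, L'.IsSubnormal → L' ≤ L → L' ≠ ⊥ → L' = L) : IsSimpleGroup L := by
  have hnt : Nontrivial L := (Subgroup.nontrivial_iff_ne_bot L).mpr hL0
  refine { exists_pair_ne := hnt.exists_pair_ne, eq_bot_or_eq_top_of_normal := ?_ }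
  intro N hN
  by_cases hN0 : N = ⊥
  · left; exact hN0
  · right
    have h1 : (N.map L.subtype).IsSubnormal := hN.isSubnormal.trans' hLsn
    have h2 : N.map L.subtype ≤ L := by
      rintro _ ⟨x, _, rfl⟩; exact x.2
    have h3 : N.map L.subtype ≠ ⊥ := by
      intro h
      apply hN0
      rwa [Subgroup.map_eq_bot_iff_of_injective _ L.subtype_injective] at h
    have h4 := hmin _ h1 h2 h3
    apply Subgroup.map_injective L.subtype_injective
    rw [h4, ← MonoidHom.range_eq_map, Subgroup.range_subtype]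

/-- a nonabelian simple group is quasisimple -/
lemma isQuasisimple_of_simple {K : Type*} [Group K] [IsSimpleGroup K]
    (hna : ¬ IsMulCommutative K) : IsQuasisimple K := by
  have hperf : Group.IsPerfect K := by
    rw [Group.isPerfect_def]
    rcases (inferInstance : (commutator K).Normal).eq_bot_or_eq_top with h | h
    · exfalso
      apply hna
      refine ⟨⟨fun a b => ?_⟩⟩
      have : ⁅a, b⁆ ∈ commutator K := Subgroup.commutator_mem_commutator (Subgroup.mem_top a)
        (Subgroup.mem_top b)
      rw [h, Subgroup.mem_bot, commutatorElement_eq_one_iff_mul_comm] at this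
      exact this
    · exact h
  apply Cfsg.Agent.Lib.Helper22.isQuasisimple_of_perfect_of_normal_le_center hperf
  intro N hN
  rcases hN.eq_bot_or_eq_top with h | h
  · right; rw [h]; exact bot_le
  · left; exact h

end

theorem result {G : Type*} [Group G] [Finite G] (M : Subgroup G) (hM : M ≠ ⊤) (hprim : ∀ N : Subgroup G, N ≤ M → M ≤ Subgroup.normalizer (N : Set G) → N ≠ ⊥ → Subgroup.normalizer (N : Set G) = M) : (∀ L : Subgroup G, L.IsSubnormal → L ≤ M → L = ⊥) ∧ M ⊓ Cfsg.fittingSubgroup G = ⊥ := by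
  have hF := inf_fitting_eq_bot M hM hprim
  refine ⟨?_, hF⟩
  intro L hLsn hLM
  by_contra hL0
  -- pick a minimal nontrivial subnormal subgroup inside L
  have hne : {L' : Subgroup G | L'.IsSubnormal ∧ L' ≤ L ∧ L' ≠ ⊥}.Nonempty := ⟨L, hLsn, le_rfl, hL0⟩
  obtain ⟨K, ⟨hKsn, hKL, hK0⟩, hKmin⟩ := wellFounded_lt.has_min _ hne
  have hKM : K ≤ M := hKL.trans hLM
  have hmin : ∀ L' : Subgroup G, L'.IsSubnormal → L' ≤ K → L' ≠ ⊥ → L' = K := by
    intro L' h1 h2 h3
    by_contra hne'
    exact hKmin L' ⟨h1, h2.trans hKL, h3⟩ (lt_of_le_of_ne h2 hne')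
  haveI hsimple : IsSimpleGroup K := isSimpleGroup_of_minimal_subnormal K hKsn hK0 hmin
  by_cases hab : IsMulCommutative K
  · -- abelian case: K ≤ F(G) ∩ M = ⊥
    have hnil : Group.IsNilpotent K := by
      letI : CommGroup K := { (inferInstance : Group K) with mul_comm := fun a b => hab.is_comm.comm a b }
      infer_instance
    have hKF : K ≤ Cfsg.fittingSubgroup G :=
      Cfsg.Agent.Lib.Helper22.le_fittingSubgroup_of_isSubnormal_of_isNilpotent hKsn hnil
    have : K ≤ M ⊓ Cfsg.fittingSubgroup G := le_inf hKM hKF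
    rw [hF, le_bot_iff] at this
    exact hK0 this
  · -- nonabelian simple: K is a component
    have hKcomp : IsComponent K := ⟨hKsn, isQuasisimple_of_simple hab⟩
    -- the join of all components contained in M
    set N : Subgroup G := sSup {X : Subgroup G | IsComponent X ∧ X ≤ M} with hNdef
    have hNM : N ≤ M := sSup_le (fun X hX => hX.2)
    have hKN : K ≤ N := le_sSup ⟨hKcomp, hKM⟩
    have hN0 : N ≠ ⊥ := fun h => hK0 (le_bot_iff.mp (h ▸ hKN))
    have hMN : M ≤ Subgroup.normalizer (N : Set G) := by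
      rw [← inv_iff_le_normalizer]
      intro m hm
      unfold cm
      rw [hNdef, Subgroup.map_le_iff_le_comap]
      apply sSup_le
      intro X hX
      rw [← Subgroup.map_le_iff_le_comap]
      apply le_sSup
      refine ⟨Cfsg.Agent.Lib.Helper22.component_conj hX.1 m, ?_⟩
      rintro _ ⟨x, hx, rfl⟩
      exact M.mul_mem (M.mul_mem hm (hX.2 hx)) (M.inv_mem hm)
    have hNN : Subgroup.normalizer (N : Set G) = M := hprim N hNM hMN hN0
    -- the layer normalizes N
    have hlayerN : layer G ≤ Subgroup.normalizer (N : Set G) := by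
      rw [← inv_iff_le_normalizer]
      intro e he
      unfold cm
      rw [hNdef, Subgroup.map_le_iff_le_comap]
      apply sSup_le
      intro X hX
      rw [← Subgroup.map_le_iff_le_comap]
      have h1 : Inv (layer G) X :=
        inv_iff_le_normalizer.mpr (Cfsg.Agent.Lib.Helper22.layer_le_normalizer_component hX.1)
      exact (h1 e he).trans (le_sSup hX)
    have hlayerM : layer G ≤ M := hNN ▸ hlayerN
    have hlayer0 : layer G ≠ ⊥ := by
      intro h
      have : K ≤ layer G := Cfsg.Agent.Lib.Helper22.component_le_layer hKcomp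
      rw [h, le_bot_iff] at this
      exact hK0 this
    have hlayern : (layer G).Normal := Cfsg.Agent.Lib.Helper29.layer_normal G
    have h2 := hprim (layer G) hlayerM
      (by rw [Subgroup.normalizer_eq_top]; exact le_top) hlayer0
    rw [Subgroup.normalizer_eq_top] at h2
    exact hM h2.symm

end Cfsg.Agent.S3748
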