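import Cfsg.Statements.S3747
-- import your own Cfsg.Agent.* helpers here
import Cfsg.Agent.S3748
import Cfsg.Agent.Lib.Helper22.FStar

set_option autoImplicit false
open Cfsg

namespace Cfsg.Agent.S3747

section

variable {G : Type*} [Group G]

lemma isNilpotent_of_comm {H : Type*} [Group H] (hc : IsMulCommutative H) :
    Group.IsNilpotent H := by
  letI : CommGroup H := { (inferInstance : Group H) with mul_comm := hc.is_comm.comm }
  exact CommGroup.isNilpotent

/-- In a product of pairwise commuting centre-free subgroups, an element centralizing every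
factor is trivial. -/
lemma eq_one_of_mem_finset_sup [DecidableEq (Subgroup G)] (T : Finset (Subgroup G)) :
    (∀ X ∈ T, ∀ Y ∈ T, X ≠ Y → ⁅X, Y⁆ = ⊥) →
    (∀ X ∈ T, ∀ x ∈ X, (∀ y ∈ X, y * x = x * y) → x = 1) →
    ∀ z ∈ T.sup id, (∀ X ∈ T, ∀ x ∈ X, x * z = z * x) → z = 1 := by
  classical
  induction T using Finset.induction_on with
  | empty =>
    intro _ _ z hz _
    simpa using hz
  | insert X T hXT ih =>
    intro hcomm hcf z hz hzc
    rw [Finset.sup_insert, id] at hz
    -- X centralizes sup T
    have hXc : T.sup id ≤ Subgroup.centralizer (X : Set G) := by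
      apply Finset.sup_le
      intro Y hY
      have hne : Y ≠ X := fun h => hXT (h ▸ hY)
      have := hcomm Y (Finset.mem_insert_of_mem hY) X (Finset.mem_insert_self _ _) hne
      rwa [Subgroup.commutator_eq_bot_iff_le_centralizer] at this
    have hXn : X ≤ Subgroup.normalizer ((T.sup id : Subgroup G) : Set G) := by
      have h1 : X ≤ Subgroup.centralizer ((T.sup id : Subgroup G) : Set G) := by
        rw [Subgroup.le_centralizer_iff]
        exact hXc
      exact h1.trans (Subgroup.centralizer_le_normalizer _)
    have hz' : z ∈ ((X ⊔ T.sup id : Subgroup G) : Set G) := hz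
    rw [Subgroup.coe_mul_of_left_le_normalizer_right X (T.sup id) hXn] at hz'
    obtain ⟨x, hx, y, hy, hxy⟩ := hz'
    have hxy' : x * y = z := hxy
    subst hxy'
    have hx' : (x : G) ∈ X := hx
    have hy' : (y : G) ∈ T.sup id := hy
    have hyc : ∀ w ∈ X, w * y = y * w := by
      intro w hw
      have := hXc hy'
      rw [Subgroup.mem_centralizer_iff] at this
      exact this w hw
    have hx1 : x = 1 := by
      apply hcf X (Finset.mem_insert_self _ _) x hx'
      intro w hw
      have h1 := hzc X (Finset.mem_insert_self _ _) w hw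
      have h2 := hyc w hw
      -- w * (x * y) = (x * y) * w, w * y = y * w
      have : w * x * y = x * w * y := by
        calc w * x * y = w * (x * y) := by group
          _ = x * y * w := h1
          _ = x * (y * w) := by group
          _ = x * (w * y) := by rw [h2]
          _ = x * w * y := by group
      exact mul_right_cancel this
    subst hx1
    rw [one_mul]
    apply ih
    · intro A hA B hB hne
      exact hcomm A (Finset.mem_insert_of_mem hA) B (Finset.mem_insert_of_mem hB) hne
    · intro A hA
      exact hcf A (Finset.mem_insert_of_mem hA)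
    · exact hy'
    · intro A hA w hw
      have := hzc A (Finset.mem_insert_of_mem hA) w hw
      rwa [one_mul] at this

end

section

variable {G : Type*} [Group G] [Finite G]

/-- Part (a). -/
lemma part_a (K : Subgroup G) (hK : Cfsg.IsComponent K) (hZ : Subgroup.center ↥K = ⊥) :
    Subgroup.normalClosure (K : Set G) ≠ ⊥ ∧ ∀ N : Subgroup G, N.Normal →
      N ≤ Subgroup.normalClosure (K : Set G) → N = ⊥ ∨ N = Subgroup.normalClosure (K : Set G) := by
  classical
  have hKle : K ≤ Subgroup.normalClosure (K : Set G) := Subgroup.le_normalClosure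
  refine ⟨fun h => Cfsg.Agent.Lib.Helper22.component_ne_bot hK (le_bot_iff.mp (h ▸ hKle)), ?_⟩
  intro N hN hNC
  rcases Cfsg.Agent.Lib.Helper22.component_le_or_commutator_eq_bot hK hN.isSubnormal with h | h
  · right
    exact le_antisymm hNC (Subgroup.normalClosure_le_normal h)
  · left
    have : Fintype G := Fintype.ofFinite G
    let T : Finset (Subgroup G) :=
      Finset.univ.image (fun g : G => K.map (MulAut.conj g).toMonoidHom)
    have hT : ∀ X ∈ T, ∃ g : G, X = K.map (MulAut.conj g).toMonoidHom := by
      intro X hX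
      obtain ⟨g, _, rfl⟩ := Finset.mem_image.mp hX
      exact ⟨g, rfl⟩
    have hCT : Subgroup.normalClosure (K : Set G) ≤ T.sup id := by
      rw [Subgroup.normalClosure, Subgroup.closure_le]
      intro a ha
      rw [Group.mem_conjugatesOfSet_iff] at ha
      obtain ⟨b, hb, hba⟩ := ha
      rw [isConj_iff] at hba
      obtain ⟨c, rfl⟩ := hba
      have h1 : K.map (MulAut.conj c).toMonoidHom ≤ T.sup id :=
        Finset.le_sup (f := id) (Finset.mem_image_of_mem _ (Finset.mem_univ c))
      apply h1
      exact ⟨b, hb, by simp [MulAut.conj_apply]⟩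
    have hKN : ∀ k ∈ K, ∀ n ∈ N, k * n = n * k := by
      intro k hk n hn
      rw [Subgroup.commutator_eq_bot_iff_le_centralizer] at h
      have := h hk
      rw [Subgroup.mem_centralizer_iff] at this
      exact (this n hn).symm
    rw [eq_bot_iff]
    intro z hz
    rw [Subgroup.mem_bot]
    apply eq_one_of_mem_finset_sup T
    · intro X hX Y hY hne
      obtain ⟨g, rfl⟩ := hT X hX
      obtain ⟨g', rfl⟩ := hT Y hY
      exact Cfsg.Agent.Lib.Helper22.component_commutator_eq_bot_of_ne
        (Cfsg.Agent.Lib.Helper22.component_conj hK g)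
        (Cfsg.Agent.Lib.Helper22.component_conj hK g') hne
    · intro X hX x hx hxc
      obtain ⟨g, rfl⟩ := hT X hX
      obtain ⟨k, hk, rfl⟩ := hx
      have hk1 : (⟨k, hk⟩ : K) ∈ Subgroup.center ↥K := by
        rw [Subgroup.mem_center_iff]
        intro w
        have := hxc ((MulAut.conj g).toMonoidHom w) ⟨w, w.2, rfl⟩
        apply Subtype.ext
        have h2 : (MulAut.conj g).toMonoidHom (w * k) = (MulAut.conj g).toMonoidHom (k * w) := by
          rw [map_mul, map_mul]; exact this
        exact (MulAut.conj g).injective h2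
      rw [hZ, Subgroup.mem_bot] at hk1
      have : k = 1 := congrArg Subtype.val hk1
      rw [this, map_one]
    · exact hCT (hNC hz)
    · intro X hX x hx
      obtain ⟨g, rfl⟩ := hT X hX
      obtain ⟨k, hk, rfl⟩ := hx
      have hz' : g⁻¹ * z * g ∈ N := by
        have := hN.conj_mem z hz g⁻¹
        rwa [inv_inv] at this
      have := hKN k hk _ hz'
      simp only [MulEquiv.coe_toMonoidHom, MulAut.conj_apply]
      calc g * k * g⁻¹ * z = g * (k * (g⁻¹ * z * g)) * g⁻¹ := by group
        _ = g * ((g⁻¹ * z * g) * k) * g⁻¹ := by rw [this]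
        _ = z * (g * k * g⁻¹) := by group

end

theorem result {G : Type*} [Group G] [Finite G] : (∀ K : Subgroup G, Cfsg.IsComponent K → Subgroup.center ↥K = ⊥ → (Subgroup.normalClosure (K : Set G) ≠ ⊥ ∧ ∀ N : Subgroup G, N.Normal → N ≤ Subgroup.normalClosure (K : Set G) → N = ⊥ ∨ N = Subgroup.normalClosure (K : Set G))) ∧ (Cfsg.fittingSubgroup G = ⊥ → sSup {N : Subgroup G | N ≠ ⊥ ∧ N.Normal ∧ ∀ N' : Subgroup G, N'.Normal → N' ≤ N → N' = ⊥ ∨ N' = N} = Cfsg.layer G) := by
  refine ⟨fun K hK hZ => part_a K hK hZ, ?_⟩
  intro hF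
  have hsn_nil_bot : ∀ H : Subgroup G, H.IsSubnormal → Group.IsNilpotent H → H = ⊥ := by
    intro H hH hnil
    have := Cfsg.Agent.Lib.Helper22.le_fittingSubgroup_of_isSubnormal_of_isNilpotent hH hnil
    rwa [hF, le_bot_iff] at this
  apply le_antisymm
  · -- every minimal normal subgroup lies in the layer
    apply sSup_le
    rintro N ⟨hN0, hNn, hNmin⟩
    -- a minimal nontrivial subnormal subgroup inside N
    have hfin : {L : Subgroup G | L.IsSubnormal ∧ L ≠ ⊥ ∧ L ≤ N}.Finite := Set.toFinite _
    obtain ⟨L, ⟨hLsn, hL0, hLN⟩, hLmin⟩ :=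
      hfin.exists_minimal ⟨N, hNn.isSubnormal, hN0, le_rfl⟩
    have hLmin' : ∀ L' : Subgroup G, L'.IsSubnormal → L' ≤ L → L' ≠ ⊥ → L' = L := by
      intro L' h1 h2 h3
      exact le_antisymm h2 (hLmin ⟨h1, h3, h2.trans hLN⟩ h2)
    haveI : IsSimpleGroup L :=
      Cfsg.Agent.S3748.isSimpleGroup_of_minimal_subnormal L hLsn hL0 hLmin'
    have hna : ¬ IsMulCommutative L := by
      intro hc
      apply hL0
      apply hsn_nil_bot L hLsn
      exact isNilpotent_of_comm hc
    have hLcomp : Cfsg.IsComponent L := ⟨hLsn, Cfsg.Agent.S3748.isQuasisimple_of_simple hna⟩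
    have hLlayer : L ≤ Cfsg.layer G := Cfsg.Agent.Lib.Helper22.component_le_layer hLcomp
    haveI : (Cfsg.layer G).Normal := Cfsg.Agent.Lib.Helper29.layer_normal G
    haveI := hNn
    have hinf : (N ⊓ Cfsg.layer G).Normal := inferInstance
    rcases hNmin _ hinf inf_le_left with h | h
    · exfalso
      apply hL0
      rw [eq_bot_iff, ← h]
      exact le_inf hLN hLlayer
    · rw [← h]; exact inf_le_right
  · -- every component lies in a minimal normal subgroup
    apply sSup_le
    intro K hK
    have hZ : Subgroup.center ↥K = ⊥ := by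
      have h1 : ((Subgroup.center ↥K).map K.subtype).IsSubnormal :=
        (inferInstance : (Subgroup.center ↥K).Normal).isSubnormal.trans' hK.1
      have h2 : Group.IsNilpotent ((Subgroup.center ↥K).map K.subtype) := by
        have e : (Subgroup.center ↥K) ≃* ((Subgroup.center ↥K).map K.subtype) :=
          (Subgroup.center ↥K).equivMapOfInjective K.subtype K.subtype_injective
        have hn : Group.IsNilpotent (Subgroup.center ↥K) := isNilpotent_of_comm inferInstance
        exact (Group.isNilpotent_congr e).mp hn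
      have h3 := hsn_nil_bot _ h1 h2
      rwa [Subgroup.map_eq_bot_iff_of_injective _ K.subtype_injective] at h3
    obtain ⟨h0, hmin⟩ := part_a K hK hZ
    have hmem : Subgroup.normalClosure (K : Set G) ∈ {N : Subgroup G | N ≠ ⊥ ∧ N.Normal ∧
        ∀ N' : Subgroup G, N'.Normal → N' ≤ N → N' = ⊥ ∨ N' = N} :=
      ⟨h0, Subgroup.normalClosure_normal, hmin⟩
    exact Subgroup.le_normalClosure.trans (le_sSup hmem)

end Cfsg.Agent.S3747
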