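import Cfsg.Statements.S3749
-- import your own Cfsg.Agent.* helpers here
import Cfsg.Agent.S0023
import Cfsg.Agent.S0024
import Cfsg.Agent.Lib.Helper54.Coprime
import Cfsg.Agent.Lib.Helper97.Cores

set_option autoImplicit false
open Cfsg

namespace Cfsg.Agent.S3749

open Pointwise

section

variable {G : Type*} [Group G] [Finite G]

/-- A `p`-group acting by conjugation on a normal subgroup `N` without non-trivial fixed points
forces `p ∤ |N|`. -/
lemma not_dvd_card_of_centralizer_inf_eq_bot {p : ℕ} [Fact p.Prime] (P N : Subgroup G) [N.Normal]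
    (hP : IsPGroup p P) (h : Subgroup.centralizer (P : Set G) ⊓ N = ⊥) : ¬ p ∣ Nat.card N := by
  let φ : ↥P →* MulAut ↥N := (MulAut.conjNormal (H := N)).comp P.subtype
  letI : MulAction ↥P ↥N := MulAction.compHom ↥N φ
  have hsmul : ∀ (x : ↥P) (n : ↥N), ((x • n : ↥N) : G) = (x : G) * n * (x : G)⁻¹ := by
    intro x n
    exact MulAut.conjNormal_apply (x : G) n
  have h1 := hP.card_modEq_card_fixedPoints ↥N
  have h2 : MulAction.fixedPoints ↥P ↥N = {1} := by
    ext n
    simp only [MulAction.mem_fixedPoints, Set.mem_singleton_iff]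
    constructor
    · intro hn
      have hmem : (n : G) ∈ Subgroup.centralizer (P : Set G) ⊓ N := by
        refine Subgroup.mem_inf.mpr ⟨?_, n.2⟩
        rw [Subgroup.mem_centralizer_iff]
        intro x hx
        have h3 := congrArg Subtype.val (hn ⟨x, hx⟩)
        rw [hsmul] at h3
        simp only at h3
        calc x * (n : G) = (x * n * x⁻¹) * x := by group
          _ = n * x := by rw [h3]
      rw [h, Subgroup.mem_bot] at hmem
      exact Subtype.ext hmem
    · rintro rfl x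
      apply Subtype.ext
      rw [hsmul]
      simp
  rw [h2] at h1
  have h3 : Nat.card (({1} : Set ↥N)) = 1 := by
    rw [Nat.card_coe_set_eq, Set.ncard_singleton]
  rw [h3] at h1
  intro hdvd
  have h4 : (1 : ℕ) ≡ 0 [MOD p] := h1.symm.trans ((Nat.modEq_zero_iff_dvd).2 hdvd)
  have h5 : p ∣ 1 := (Nat.modEq_zero_iff_dvd).1 h4
  exact (Fact.out : p.Prime).one_lt.ne' (Nat.dvd_one.mp h5)

end

theorem result {G : Type*} [Group G] [Finite G] (M : Subgroup G) (hM : M ≠ ⊤) (hprim : ∀ N : Subgroup G, N ≤ M → M ≤ Subgroup.normalizer (N : Set G) → N ≠ ⊥ → Subgroup.normalizer (N : Set G) = M) {p : ℕ} [Fact p.Prime] (hOp : Cfsg.pCore p ↥M ≠ ⊥) (N : Subgroup G) [N.Normal] (hMN : M ⊓ N = ⊥) : ¬ p ∣ Nat.card N ∧ (∀ q : ℕ, [Fact q.Prime] → ∃! Q : Sylow q ↥N, M ≤ Subgroup.normalizer ((Q : Subgroup ↥N).map N.subtype : Set G)) ∧ ((∃ q r : ℕ, q.Prime ∧ r.Prime ∧ q ≠ r ∧ q ∣ Nat.card N ∧ r ∣ Nat.card N) → ¬ IsCoatom M) := by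
  classical
  set P : Subgroup G := (Cfsg.pCore p ↥M).map M.subtype with hPdef
  have hPM : P ≤ M := Subgroup.map_subtype_le _
  have hPne : P ≠ ⊥ := by
    intro h
    apply hOp
    rwa [hPdef, Subgroup.map_eq_bot_iff_of_injective _ M.subtype_injective] at h
  have hPsub : P.subgroupOf M = Cfsg.pCore p ↥M := by
    rw [hPdef, ← Subgroup.comap_subtype,
      Subgroup.comap_map_eq_self_of_injective M.subtype_injective]
  have hMP : M ≤ Subgroup.normalizer (P : Set G) := by
    rw [← Subgroup.normal_subgroupOf_iff_le_normalizer hPM, hPsub]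
    exact Cfsg.Agent.Lib.Helper97.pCore_normal p
  have hNP : Subgroup.normalizer (P : Set G) = M := hprim P hPM hMP hPne
  have hPp : IsPGroup p P := (Cfsg.Agent.Lib.Helper97.isPGroup_pCore p ↥M).map _
  have hcent : Subgroup.centralizer (P : Set G) ⊓ N = ⊥ := by
    rw [eq_bot_iff, ← hMN, ← hNP]
    exact inf_le_inf_right _ (Subgroup.centralizer_le_normalizer _)
  have ha : ¬ p ∣ Nat.card N := not_dvd_card_of_centralizer_inf_eq_bot P N hPp hcent
  have hcop : (Nat.card P).Coprime (Nat.card N) := by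
    obtain ⟨k, hk⟩ := hPp.exists_card_eq
    rw [hk]
    exact Nat.Coprime.pow_left _ ((Nat.Prime.coprime_iff_not_dvd Fact.out).2 ha)
  have hPN : P ≤ Subgroup.normalizer (N : Set G) := by
    rw [Subgroup.normalizer_eq_top]; exact le_top
  have hsolv : Group.IsSolvable P ∨ Group.IsSolvable N := by
    left
    haveI : Group.IsNilpotent P := hPp.isNilpotent
    infer_instance
  -- uniqueness of P-invariant Sylow subgroups
  have huniq : ∀ (q : ℕ) [Fact q.Prime] (Q₁ Q₂ : Sylow q ↥N),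
      P ≤ Subgroup.normalizer ((Q₁ : Subgroup ↥N).map N.subtype : Set G) →
      P ≤ Subgroup.normalizer ((Q₂ : Subgroup ↥N).map N.subtype : Set G) → Q₁ = Q₂ := by
    intro q _ Q₁ Q₂ h1 h2
    obtain ⟨c, hc, hcQ⟩ := Cfsg.Agent.S0024.result P N hPN hcop hsolv q Q₁ Q₂ h1 h2
    have : (c : G) ∈ Subgroup.centralizer (P : Set G) ⊓ N := Subgroup.mem_inf.mpr ⟨hc, c.2⟩
    rw [hcent, Subgroup.mem_bot] at this
    have hc1 : c = 1 := Subtype.ext this
    rw [hc1, map_one, one_smul] at hcQ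
    exact hcQ
  -- the P-invariant Sylow subgroup is M-invariant
  have hinv : ∀ (q : ℕ) [Fact q.Prime] (Q₀ : Sylow q ↥N),
      P ≤ Subgroup.normalizer ((Q₀ : Subgroup ↥N).map N.subtype : Set G) →
      M ≤ Subgroup.normalizer ((Q₀ : Subgroup ↥N).map N.subtype : Set G) := by
    intro q _ Q₀ hQ₀ m hm
    set S₀ : Subgroup G := (Q₀ : Subgroup ↥N).map N.subtype with hS₀
    have hS₀N : S₀ ≤ N := Subgroup.map_subtype_le _
    have hS'N : MulAut.conj m • S₀ ≤ N := by
      have := Cfsg.Agent.Lib.Helper54.conj_smul_le_conj_smul (g := m) hS₀N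
      rwa [Subgroup.Normal.conj_smul_eq_self m N] at this
    obtain ⟨Q', hQ'⟩ := Cfsg.Agent.Lib.Helper54.exists_sylow_of_card (p := q) N
      (MulAut.conj m • S₀) hS'N
      (by rw [Cfsg.Agent.Lib.Helper54.card_conj_smul, Cfsg.Agent.Lib.Helper54.card_map_sylow])
    have hmP : MulAut.conj m • P = P :=
      Cfsg.Agent.Lib.Helper54.mem_normalizer_iff_conj_smul.mp (hMP hm)
    have hQ'inv : P ≤ Subgroup.normalizer ((Q' : Subgroup ↥N).map N.subtype : Set G) := by
      rw [hQ']
      have := Cfsg.Agent.Lib.Helper54.conj_smul_le_normalizer (g := m) hQ₀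
      rwa [hmP] at this
    have hEq : Q' = Q₀ := huniq q Q' Q₀ hQ'inv hQ₀
    rw [Cfsg.Agent.Lib.Helper54.mem_normalizer_iff_conj_smul, ← hQ', hEq]
  refine ⟨ha, ?_, ?_⟩
  · intro q _
    obtain ⟨Q₀, hQ₀⟩ := Cfsg.Agent.S0023.result P N hPN hcop hsolv q
    refine ⟨Q₀, hinv q Q₀ hQ₀, ?_⟩
    intro Q hQ
    exact huniq q Q Q₀ (hPM.trans hQ) hQ₀
  · rintro ⟨q, r, hq, hr, hqr, hqN, hrN⟩ hco
    haveI : Fact q.Prime := ⟨hq⟩
    obtain ⟨Q₀, hQ₀⟩ := Cfsg.Agent.S0023.result P N hPN hcop hsolv q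
    have hMQ := hinv q Q₀ hQ₀
    set S₀ : Subgroup G := (Q₀ : Subgroup ↥N).map N.subtype with hS₀
    have hS₀N : S₀ ≤ N := Subgroup.map_subtype_le _
    have hS₀card : Nat.card S₀ = q ^ (Nat.card N).factorization q :=
      Cfsg.Agent.Lib.Helper54.card_map_sylow N Q₀
    have hS₀M : S₀ ⊓ M = ⊥ := by
      rw [eq_bot_iff, ← hMN, inf_comm]
      exact inf_le_inf_left _ hS₀N
    have hS₀ne : S₀ ≠ ⊥ := by
      intro h
      have h1 : Nat.card S₀ = 1 := by rw [h]; exact Subgroup.card_bot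
      rw [hS₀card] at h1
      have hpos : 0 < (Nat.card N).factorization q :=
        (hq.factorization_pos_of_dvd Nat.card_pos.ne' hqN)
      have : 1 < q ^ (Nat.card N).factorization q := Nat.one_lt_pow hpos.ne' hq.one_lt
      omega
    have hlt : M < S₀ ⊔ M := by
      refine lt_of_le_of_ne le_sup_right ?_
      intro h
      apply hS₀ne
      have : S₀ ≤ M := by rw [h]; exact le_sup_left
      rw [eq_bot_iff, ← hS₀M]
      exact le_inf le_rfl this
    have htop : S₀ ⊔ M = ⊤ := hco.2 _ hlt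
    have hc1 : Nat.card (S₀ ⊔ M : Subgroup G) = Nat.card S₀ * Nat.card M :=
      Cfsg.Agent.Lib.Helper54.card_sup_of_le_normalizer hMQ hS₀M
    have hMN' : M ≤ Subgroup.normalizer (N : Set G) := by
      rw [Subgroup.normalizer_eq_top]; exact le_top
    have hc2 : Nat.card (N ⊔ M : Subgroup G) = Nat.card N * Nat.card M :=
      Cfsg.Agent.Lib.Helper54.card_sup_of_le_normalizer hMN' (by rw [inf_comm]; exact hMN)
    have hle : Nat.card (N ⊔ M : Subgroup G) ≤ Nat.card (S₀ ⊔ M : Subgroup G) := by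
      rw [htop]
      exact (Subgroup.card_le_card_group _).trans (le_of_eq Subgroup.card_top.symm)
    rw [hc1, hc2] at hle
    have hMpos : 0 < Nat.card M := Nat.card_pos
    have hle' : Nat.card N ≤ Nat.card S₀ := Nat.le_of_mul_le_mul_right hle hMpos
    have hdvd : Nat.card S₀ ∣ Nat.card N := Subgroup.card_dvd_of_le hS₀N
    have heq : Nat.card N = Nat.card S₀ :=
      le_antisymm hle' (Nat.le_of_dvd Nat.card_pos hdvd)
    rw [heq, hS₀card] at hrN
    have := (Nat.prime_dvd_prime_iff_eq hr hq).mp (hr.dvd_of_dvd_pow hrN)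
    exact hqr this.symm

end Cfsg.Agent.S3749
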