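import Cfsg.Statements.S3750
-- import your own Cfsg.Agent.* helpers here
import Cfsg.Agent.S3748
import Cfsg.Agent.Lib.Helper22.FStar
import Cfsg.Agent.Lib.Helper29.Iso

set_option autoImplicit false
open Cfsg

namespace Cfsg.Agent.S3750

theorem result {G : Type*} [Group G] [Finite G] (M : Subgroup G) (hM : M ≠ ⊤) (hprim : ∀ N : Subgroup G, N ≤ M → M ≤ Subgroup.normalizer (N : Set G) → N ≠ ⊥ → Subgroup.normalizer (N : Set G) = M) (N : Subgroup G) [N.Normal] (hMF : M ⊓ (Cfsg.generalizedFittingSubgroup ↥N).map N.subtype ≠ ⊥) : Cfsg.fittingSubgroup G = ⊥ ∧ (Cfsg.generalizedFittingSubgroup ↥N).map N.subtype = Cfsg.generalizedFittingSubgroup G ∧ Cfsg.generalizedFittingSubgroup G = Cfsg.layer G ∧ ∀ K : Subgroup G, K.Normal → K ≠ ⊥ → (∀ K' : Subgroup G, K'.Normal → K' ≤ K → K' = ⊥ ∨ K' = K) → K ≤ N := by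
  classical
  have hNn : N.Normal := inferInstance
  set Fs : Subgroup G := (Cfsg.generalizedFittingSubgroup ↥N).map N.subtype with hFs
  haveI : (Cfsg.generalizedFittingSubgroup ↥N).Characteristic :=
    Cfsg.Agent.Lib.Helper29.generalizedFittingSubgroup_characteristic ↥N
  have hFsn : Fs.Normal := ConjAct.normal_of_characteristic_of_normal
  have hFsN : Fs ≤ N := Subgroup.map_subtype_le _
  obtain ⟨hsub, -⟩ := Cfsg.Agent.S3748.result M hM hprim
  set X : Subgroup G := M ⊓ Fs with hX
  have hXM : X ≤ M := inf_le_left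
  have hMX : M ≤ Subgroup.normalizer (X : Set G) := by
    intro m hm
    rw [Subgroup.mem_normalizer_iff]
    intro x
    constructor
    · rintro ⟨h1, h2⟩
      exact ⟨M.mul_mem (M.mul_mem hm h1) (M.inv_mem hm), hFsn.conj_mem x h2 m⟩
    · rintro ⟨h1, h2⟩
      refine ⟨?_, ?_⟩
      · have := M.mul_mem (M.mul_mem (M.inv_mem hm) h1) hm
        simpa [mul_assoc] using this
      · have := hFsn.conj_mem _ h2 m⁻¹
        simpa [mul_assoc] using this
  have hNX : Subgroup.normalizer (X : Set G) = M := hprim X hXM hMX hMF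
  -- key: subnormal subgroups centralizing `Fs` are trivial
  have hkey : ∀ L : Subgroup G, L.IsSubnormal → L ≤ Subgroup.centralizer (Fs : Set G) → L = ⊥ := by
    intro L hL hLc
    apply hsub L hL
    calc L ≤ Subgroup.centralizer (Fs : Set G) := hLc
      _ ≤ Subgroup.centralizer (X : Set G) :=
          Subgroup.centralizer_le (by exact_mod_cast (inf_le_right : X ≤ Fs))
      _ ≤ Subgroup.normalizer (X : Set G) := Subgroup.centralizer_le_normalizer _
      _ = M := hNX
  have hkeyN : ∀ L : Subgroup G, L.IsSubnormal → L ≤ Subgroup.centralizer (N : Set G) → L = ⊥ := by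
    intro L hL hLc
    apply hkey L hL
    exact hLc.trans (Subgroup.centralizer_le (by exact_mod_cast hFsN))
  -- F(N) = 1
  have hFNn : (Cfsg.fittingSubgroup ↥N).Normal := Cfsg.Agent.Lib.Helper29.fittingSubgroup_normal ↥N
  have hFN : Cfsg.fittingSubgroup ↥N = ⊥ := by
    set Z₁ : Subgroup ↥N := Cfsg.fittingSubgroup ↥N ⊓
      Subgroup.centralizer (Cfsg.fittingSubgroup ↥N : Set ↥N) with hZ₁
    have hZ₁n : Z₁.Normal := inferInstance
    have hZ₁sn : (Z₁.map N.subtype).IsSubnormal := hZ₁n.isSubnormal.trans' hNn.isSubnormal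
    have hZ₁c : Cfsg.generalizedFittingSubgroup ↥N ≤ Subgroup.centralizer (Z₁ : Set ↥N) := by
      rw [Cfsg.generalizedFittingSubgroup]
      apply sup_le
      · rw [← Subgroup.commutator_eq_bot_iff_le_centralizer, eq_bot_iff,
          ← Cfsg.Agent.Lib.Helper22.layer_commutator_fittingSubgroup (G := ↥N)]
        exact Subgroup.commutator_mono le_rfl inf_le_left
      · rw [Subgroup.le_centralizer_iff]
        exact inf_le_right
    have hZ₁bot : Z₁.map N.subtype = ⊥ := by
      apply hkey _ hZ₁sn
      rintro _ ⟨z, hz, rfl⟩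
      rw [Subgroup.mem_centralizer_iff]
      rintro _ ⟨f, hf, rfl⟩
      have := hZ₁c hf
      rw [Subgroup.mem_centralizer_iff] at this
      have h1 := this z hz
      have h2 := congrArg Subtype.val h1
      simpa using h2.symm
    rw [Subgroup.map_eq_bot_iff_of_injective _ N.subtype_injective] at hZ₁bot
    by_contra hne
    haveI : Nontrivial ↥(Cfsg.fittingSubgroup ↥N) :=
      (Subgroup.nontrivial_iff_ne_bot _).mpr hne
    haveI : Group.IsNilpotent ↥(Cfsg.fittingSubgroup ↥N) :=
      Cfsg.Agent.Lib.Helper1.fittingSubgroup_isNilpotent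
    have hc := Group.IsNilpotent.center_ne_bot (G := ↥(Cfsg.fittingSubgroup ↥N))
    apply hc
    rw [eq_bot_iff]
    intro z hz
    rw [Subgroup.mem_bot]
    have hzZ : (z : ↥N) ∈ Z₁ := by
      refine Subgroup.mem_inf.mpr ⟨z.2, ?_⟩
      rw [Subgroup.mem_centralizer_iff]
      intro h hh
      rw [Subgroup.mem_center_iff] at hz
      have := hz ⟨h, hh⟩
      exact congrArg Subtype.val this
    rw [hZ₁bot, Subgroup.mem_bot] at hzZ
    exact Subtype.ext hzZ
  -- F(G) = 1
  have hFGn : (Cfsg.fittingSubgroup G).Normal := Cfsg.Agent.Lib.Helper29.fittingSubgroup_normal G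
  have hFG : Cfsg.fittingSubgroup G = ⊥ := by
    set A : Subgroup G := Cfsg.fittingSubgroup G with hA
    haveI : Group.IsNilpotent ↥A := Cfsg.Agent.Lib.Helper1.fittingSubgroup_isNilpotent
    have hB : A ⊓ N = ⊥ := by
      set B : Subgroup G := A ⊓ N with hBdef
      have hBn : B.Normal := inferInstance
      have hBN : B ≤ N := inf_le_right
      have hBA : B ≤ A := inf_le_left
      have hB'n : (B.subgroupOf N).Normal := hBn.subgroupOf N
      have hB'nil : Group.IsNilpotent ↥(B.subgroupOf N) := by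
        have h1 : Group.IsNilpotent ↥(B.subgroupOf A) := inferInstance
        have e1 : ↥(B.subgroupOf A) ≃* ↥B := Subgroup.subgroupOfEquivOfLe hBA
        have e2 : ↥(B.subgroupOf N) ≃* ↥B := Subgroup.subgroupOfEquivOfLe hBN
        exact (Group.isNilpotent_congr (e1.trans e2.symm)).mp h1
      have hle : B.subgroupOf N ≤ Cfsg.fittingSubgroup ↥N := le_sSup ⟨hB'n, hB'nil⟩
      rw [hFN, le_bot_iff, Subgroup.subgroupOf_eq_bot] at hle
      rw [disjoint_iff, inf_of_le_left hBN] at hle
      exact hle
    apply hkeyN A hFGn.isSubnormal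
    rw [← Subgroup.commutator_eq_bot_iff_le_centralizer, eq_bot_iff, ← hB]
    exact Subgroup.commutator_le_inf A N
  have hFstar : Cfsg.generalizedFittingSubgroup G = Cfsg.layer G := by
    rw [Cfsg.generalizedFittingSubgroup, hFG, sup_bot_eq]
  -- components of G lie in N
  have hcompN : ∀ K : Subgroup G, Cfsg.IsComponent K → K ≤ N := by
    intro K hK
    rcases Cfsg.Agent.Lib.Helper22.component_le_or_commutator_eq_bot hK hNn.isSubnormal with h | h
    · exact h
    · exfalso
      apply Cfsg.Agent.Lib.Helper22.component_ne_bot hK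
      apply hkeyN K hK.1
      rwa [← Subgroup.commutator_eq_bot_iff_le_centralizer]
  have hFsEq : Fs = Cfsg.layer G := by
    have h1 : Cfsg.generalizedFittingSubgroup ↥N = Cfsg.layer ↥N := by
      rw [Cfsg.generalizedFittingSubgroup, hFN, sup_bot_eq]
    rw [hFs, h1]
    apply le_antisymm
    · rw [Cfsg.layer, sSup_eq_iSup, Subgroup.map_iSup]
      apply iSup_le
      intro K
      rw [Subgroup.map_iSup]
      apply iSup_le
      intro hK
      exact Cfsg.Agent.Lib.Helper22.component_le_layer
        (Cfsg.Agent.Lib.Helper22.component_map_subtype hNn.isSubnormal hK)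
    · apply sSup_le
      intro K hK
      have hKN := hcompN K hK
      have h2 : K.subgroupOf N ≤ Cfsg.layer ↥N :=
        Cfsg.Agent.Lib.Helper22.component_le_layer
          (Cfsg.Agent.Lib.Helper22.component_subgroupOf hK hKN)
      have h3 := Subgroup.map_mono (f := N.subtype) h2
      rwa [Subgroup.map_subgroupOf_eq_of_le hKN] at h3
  refine ⟨hFG, ?_, hFstar, ?_⟩
  · rw [hFstar]; exact hFsEq
  · intro K hKn hK0 hKmin
    haveI := hKn
    have hKNn : (K ⊓ N).Normal := inferInstance
    rcases hKmin _ hKNn inf_le_left with h | h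
    · exfalso
      apply hK0
      apply hkeyN K hKn.isSubnormal
      rw [← Subgroup.commutator_eq_bot_iff_le_centralizer, eq_bot_iff, ← h]
      exact Subgroup.commutator_le_inf K N
    · rw [← h]; exact inf_le_right

end Cfsg.Agent.S3750
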