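import Cfsg.Statements.S3751
-- import your own Cfsg.Agent.* helpers here
import Cfsg.Agent.Lib.Helper47.Subnormal
import Cfsg.Agent.Lib.Helper34.SylowConj
import Cfsg.Agent.Lib.Helper54.Coprime
import Cfsg.Agent.Lib.Helper85.SylowAux
import Cfsg.Agent.Lib.Helper97.Cores
import Cfsg.Agent.Lib.Helper49.CharP2

set_option autoImplicit false
open Cfsg

namespace Cfsg.Agent.S3751

open Cfsg.Agent.Lib.Helper47 (pCoreOf_le pCoreOf_isPGroup le_pCoreOf normalizer_le_normalizer_pCoreOf)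

section

variable {G : Type*} [Group G]

/-- `L` is a `p`-local subgroup. -/
def IsLoc (p : ℕ) (L : Subgroup G) : Prop :=
  ∃ T : Subgroup G, IsPGroup p T ∧ T ≠ ⊥ ∧ L = Subgroup.normalizer (T : Set G)

/-- `M` is a maximal `p`-local subgroup. -/
def IsMaxLoc (p : ℕ) (M : Subgroup G) : Prop :=
  IsLoc p M ∧ ∀ L : Subgroup G, IsLoc p L → M ≤ L → L = M

lemma isLoc_conj {p : ℕ} {L : Subgroup G} (hL : IsLoc p L) (g : G) :
    IsLoc p (L.map (MulAut.conj g).toMonoidHom) := by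
  obtain ⟨T, hT, hT0, rfl⟩ := hL
  refine ⟨T.map (MulAut.conj g).toMonoidHom, hT.map _, ?_, ?_⟩
  · intro h
    apply hT0
    rwa [Subgroup.map_eq_bot_iff_of_injective _ (MulAut.conj g).injective] at h
  · exact Cfsg.Agent.Lib.Helper34.map_conj_normalizer T g

lemma map_conj_inv_map_conj' (P : Subgroup G) (g : G) :
    (P.map (MulAut.conj g⁻¹).toMonoidHom).map (MulAut.conj g).toMonoidHom = P := by
  have := Cfsg.Agent.Lib.Helper85.map_conj_inv_map_conj P g⁻¹
  rwa [inv_inv] at this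

lemma isMaxLoc_conj {p : ℕ} {M : Subgroup G} (hM : IsMaxLoc p M) (g : G) :
    IsMaxLoc p (M.map (MulAut.conj g).toMonoidHom) := by
  refine ⟨isLoc_conj hM.1 g, ?_⟩
  intro L hL hML
  have h1 : IsLoc p (L.map (MulAut.conj g⁻¹).toMonoidHom) := isLoc_conj hL g⁻¹
  have h2 : M ≤ L.map (MulAut.conj g⁻¹).toMonoidHom := by
    have := Subgroup.map_mono (f := (MulAut.conj g⁻¹).toMonoidHom) hML
    rwa [Cfsg.Agent.Lib.Helper85.map_conj_inv_map_conj] at this
  have h3 := hM.2 _ h1 h2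
  rw [← h3, map_conj_inv_map_conj']

lemma exists_isMaxLoc_ge [Finite G] {p : ℕ} {L : Subgroup G} (hL : IsLoc p L) :
    ∃ M : Subgroup G, IsMaxLoc p M ∧ L ≤ M := by
  have hfin : {L' : Subgroup G | IsLoc p L' ∧ L ≤ L'}.Finite := Set.toFinite _
  obtain ⟨M, ⟨hM1, hM2⟩, hMmax⟩ := hfin.exists_maximal ⟨L, hL, le_rfl⟩
  refine ⟨M, ⟨hM1, ?_⟩, hM2⟩
  intro L' hL' hML'
  exact le_antisymm (hMmax ⟨hL', hM2.trans hML'⟩ hML') hML'

lemma pCoreOf_ne_bot {p : ℕ} {L : Subgroup G} (hL : IsLoc p L) : pCoreOf p L ≠ ⊥ := by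
  obtain ⟨T, hT, hT0, rfl⟩ := hL
  intro h
  apply hT0
  have := le_pCoreOf (p := p) (N := T) (K := Subgroup.normalizer (T : Set G))
    Subgroup.le_normalizer le_rfl hT
  rwa [h, le_bot_iff] at this

lemma isLoc_normalizer_pCoreOf {p : ℕ} {A : Subgroup G} (h : pCoreOf p A ≠ ⊥) :
    IsLoc p (Subgroup.normalizer ((pCoreOf p A : Subgroup G) : Set G)) :=
  ⟨pCoreOf p A, pCoreOf_isPGroup p A, h, rfl⟩

lemma normalizer_pCoreOf_eq {p : ℕ} {M : Subgroup G} (hM : IsMaxLoc p M) :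
    Subgroup.normalizer ((pCoreOf p M : Subgroup G) : Set G) = M :=
  hM.2 _ (isLoc_normalizer_pCoreOf (pCoreOf_ne_bot hM.1))
    (Subgroup.le_normalizer.trans (normalizer_le_normalizer_pCoreOf p M))

lemma normalizer_eq {p : ℕ} {M : Subgroup G} (hM : IsMaxLoc p M) :
    Subgroup.normalizer (M : Set G) = M := by
  apply le_antisymm _ Subgroup.le_normalizer
  calc Subgroup.normalizer (M : Set G) ≤ Subgroup.normalizer ((pCoreOf p M : Subgroup G) : Set G) :=
        normalizer_le_normalizer_pCoreOf p M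
    _ = M := normalizer_pCoreOf_eq hM

/-- In a maximal `p`-local subgroup `M` of characteristic `p`, the normalizer of a non-trivial
normal subgroup of `M` is `M`. -/
lemma normalizer_eq_of_normal {p : ℕ} {M : Subgroup G} (hM : IsMaxLoc p M)
    (hchar : Subgroup.centralizer (pCore p ↥M : Set ↥M) ≤ pCore p ↥M) {A : Subgroup G}
    (hA0 : A ≠ ⊥) (hAM : A ≤ M) (hMA : M ≤ Subgroup.normalizer (A : Set G)) :
    Subgroup.normalizer (A : Set G) = M := by
  set Q : Subgroup G := pCoreOf p M with hQ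
  have hMQ : M ≤ Subgroup.normalizer (Q : Set G) :=
    Subgroup.le_normalizer.trans (normalizer_le_normalizer_pCoreOf p M)
  have hQM : Q ≤ M := pCoreOf_le p M
  have hcore : pCoreOf p A ≠ ⊥ := by
    intro hbot
    -- A ⊓ Q is a normal p-subgroup of A
    have hR : A ⊓ Q ≤ pCoreOf p A := by
      apply le_pCoreOf inf_le_left
      · intro a ha
        exact Cfsg.Agent.Lib.Helper49.mem_normalizer_inf (hMA (hAM ha)) (hMQ (hAM ha))
      · exact (pCoreOf_isPGroup p M).to_le inf_le_right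
    rw [hbot, le_bot_iff] at hR
    -- so A centralizes Q
    have hAQ : A ≤ Subgroup.centralizer (Q : Set G) := by
      intro a ha
      rw [Subgroup.mem_centralizer_iff]
      intro q hq
      have h1 : a * q * a⁻¹ * q⁻¹ ∈ A ⊓ Q := by
        refine Subgroup.mem_inf.mpr ⟨?_, ?_⟩
        · have : q * a⁻¹ * q⁻¹ ∈ A :=
            (Subgroup.mem_normalizer_iff.mp (hMA (hQM hq)) a⁻¹).mp (A.inv_mem ha)
          have := A.mul_mem ha this
          simpa [mul_assoc] using this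
        · have : a * q * a⁻¹ ∈ Q := (Subgroup.mem_normalizer_iff.mp (hMQ (hAM ha)) q).mp hq
          exact Q.mul_mem this (Q.inv_mem hq)
      rw [hR, Subgroup.mem_bot] at h1
      have : a * q = q * a := by
        have h2 : a * q * a⁻¹ * q⁻¹ * (q * a) = q * a := by rw [h1, one_mul]
        have h3 : a * q * a⁻¹ * q⁻¹ * (q * a) = a * q := by group
        rw [← h3, h2]
      exact this.symm
    -- hence A ≤ Q
    have hAleQ : A ≤ Q := by
      intro a ha
      have h1 : (⟨a, hAM ha⟩ : ↥M) ∈ Subgroup.centralizer (pCore p ↥M : Set ↥M) := by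
        rw [Cfsg.Agent.Lib.Helper49.mem_centralizer_pCore_iff]
        exact hAQ ha
      exact ⟨⟨a, hAM ha⟩, hchar h1, rfl⟩
    apply hA0
    rw [eq_bot_iff, ← hR]
    exact le_inf le_rfl hAleQ
  have h1 : Subgroup.normalizer (A : Set G) ≤
      Subgroup.normalizer ((pCoreOf p A : Subgroup G) : Set G) :=
    normalizer_le_normalizer_pCoreOf p A
  have h2 := hM.2 _ (isLoc_normalizer_pCoreOf hcore) (hMA.trans h1)
  exact le_antisymm (h1.trans (le_of_eq h2)) hMA

/-- A `p`-subgroup of `L` of full `p`-part order contains `O_p(L)`. -/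
lemma pCoreOf_le_of_card [Finite G] {p : ℕ} [Fact p.Prime] {T L : Subgroup G} (hTL : T ≤ L)
    (hcard : Nat.card T = p ^ (Nat.card L).factorization p) : pCoreOf p L ≤ T := by
  obtain ⟨P₀, hP₀⟩ := Cfsg.Agent.Lib.Helper54.exists_sylow_of_card (p := p) L T hTL hcard
  rw [← hP₀]
  exact Subgroup.map_mono (Cfsg.Agent.Lib.Helper97.pCore_le_sylow' P₀)

/-- Two distinct maximal `p`-locals of characteristic `p` form a primitive pair. -/
lemma pair {p : ℕ} {M₁ M₂ : Subgroup G} (hM₁ : IsMaxLoc p M₁) (hM₂ : IsMaxLoc p M₂)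
    (hc₁ : Subgroup.centralizer (pCore p ↥M₁ : Set ↥M₁) ≤ pCore p ↥M₁)
    (hc₂ : Subgroup.centralizer (pCore p ↥M₂ : Set ↥M₂) ≤ pCore p ↥M₂) :
    ∀ A : Subgroup G, A ≠ ⊥ → A ≤ M₁ ⊓ M₂ →
      (M₁ ≤ Subgroup.normalizer (A : Set G) → M₂ ⊓ Subgroup.normalizer (A : Set G) = M₁ ⊓ M₂) ∧
      (M₂ ≤ Subgroup.normalizer (A : Set G) → M₁ ⊓ Subgroup.normalizer (A : Set G) = M₁ ⊓ M₂) := by
  intro A hA0 hA
  constructor
  · intro h
    rw [normalizer_eq_of_normal hM₁ hc₁ hA0 (hA.trans inf_le_left) h, inf_comm]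
  · intro h
    rw [normalizer_eq_of_normal hM₂ hc₂ hA0 (hA.trans inf_le_right) h]

end

theorem result {G : Type*} [Group G] [Finite G] {p : ℕ} [Fact p.Prime] (hloc : Cfsg.IsOfLocalCharacteristic p G) (hOp : Cfsg.pCore p G = ⊥) : (∃ M₁ M₂ : Subgroup G, M₁ ≠ M₂ ∧ (∀ A : Subgroup G, A ≠ ⊥ → A ≤ M₁ ⊓ M₂ → (M₁ ≤ Subgroup.normalizer (A : Set G) → M₂ ⊓ Subgroup.normalizer (A : Set G) = M₁ ⊓ M₂) ∧ (M₂ ≤ Subgroup.normalizer (A : Set G) → M₁ ⊓ Subgroup.normalizer (A : Set G) = M₁ ⊓ M₂)) ∧ Subgroup.centralizer (Cfsg.pCore p ↥M₁ : Set ↥M₁) ≤ Cfsg.pCore p ↥M₁ ∧ Subgroup.centralizer (Cfsg.pCore p ↥M₂ : Set ↥M₂) ≤ Cfsg.pCore p ↥M₂ ∧ (Cfsg.pCore p ↥M₁).map M₁.subtype ⊔ (Cfsg.pCore p ↥M₂).map M₂.subtype ≤ M₁ ⊓ M₂) ∨ (∀ M : Subgroup G, (∃ T : Subgroup G, IsPGroup p T ∧ T ≠ ⊥ ∧ M = Subgroup.normalizer (T : Set G)) → (∀ L : Subgroup G, (∃ T : Subgroup G, IsPGroup p T ∧ T ≠ ⊥ ∧ L = Subgroup.normalizer (T : Set G)) → M ≤ L → L = M) → M ≠ ⊤ ∧ p ∣ Nat.card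 M ∧ ∀ g : G, g ∉ M → ¬ p ∣ Nat.card ↥(M ⊓ M.map (MulAut.conj g).toMonoidHom)) := by
  classical
  rw [or_iff_not_imp_left]
  intro hpp
  have hp : p.Prime := Fact.out
  have hchar : ∀ M : Subgroup G, IsLoc p M →
      Subgroup.centralizer (pCore p ↥M : Set ↥M) ≤ pCore p ↥M := by
    rintro M ⟨T, hT, hT0, rfl⟩
    exact hloc.2 T hT hT0
  -- no "good" pair
  have hnopair : ∀ M₁ M₂ : Subgroup G, IsMaxLoc p M₁ → IsMaxLoc p M₂ → pCoreOf p M₁ ≤ M₂ →
      pCoreOf p M₂ ≤ M₁ → M₁ = M₂ := by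
    intro M₁ M₂ h1 h2 h12 h21
    by_contra hne
    apply hpp
    refine ⟨M₁, M₂, hne, pair h1 h2 (hchar M₁ h1.1) (hchar M₂ h2.1), hchar M₁ h1.1,
      hchar M₂ h2.1, ?_⟩
    exact sup_le (le_inf (pCoreOf_le p M₁) h12) (le_inf h21 (pCoreOf_le p M₂))
  -- Step 1: Sylow subgroups of maximal p-locals are Sylow subgroups of G
  have hfull : ∀ M : Subgroup G, IsMaxLoc p M →
      (Nat.card M).factorization p = (Nat.card G).factorization p := by
    intro M hM
    by_contra hne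
    have P₀ : Sylow p ↥M := default
    set T : Subgroup G := (P₀ : Subgroup ↥M).map M.subtype with hTdef
    have hTM : T ≤ M := Subgroup.map_subtype_le _
    have hTcard : Nat.card T = p ^ (Nat.card M).factorization p :=
      Cfsg.Agent.Lib.Helper54.card_map_sylow M P₀
    have hTp : IsPGroup p T := P₀.2.map _
    obtain ⟨S, hTS⟩ := hTp.exists_le_sylow
    have hScard : Nat.card S = p ^ (Nat.card G).factorization p := S.card_eq_multiplicity
    have hTltS : T < (S : Subgroup G) := by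
      refine lt_of_le_of_ne hTS ?_
      intro h
      apply hne
      have h1 : Nat.card T = Nat.card (S : Subgroup G) := by rw [h]
      rw [hTcard] at h1
      have h2 : p ^ (Nat.card M).factorization p = p ^ (Nat.card G).factorization p :=
        h1.trans hScard
      exact Nat.pow_right_injective hp.two_le h2
    have hgrow := Cfsg.Agent.Lib.Helper34.lt_inf_normalizer_of_lt (P := (S : Subgroup G)) S.2 hTltS
    obtain ⟨x, hx, hxT⟩ := SetLike.exists_of_lt hgrow
    have hxS : x ∈ (S : Subgroup G) := (Subgroup.mem_inf.mp hx).1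
    have hxN : x ∈ Subgroup.normalizer (T : Set G) := (Subgroup.mem_inf.mp hx).2
    have hxM : x ∉ M := by
      intro hxM
      set T' : Subgroup G := T ⊔ Subgroup.zpowers x with hT'
      have hT'S : T' ≤ S := sup_le hTS ((Subgroup.zpowers_le).mpr hxS)
      have hT'M : T' ≤ M := sup_le hTM ((Subgroup.zpowers_le).mpr hxM)
      have hT'p : IsPGroup p T' := S.2.to_le hT'S
      have h1 := Cfsg.Agent.Lib.Helper85.card_le_card_sylow P₀ hT'M hT'p
      have hlt : T < T' := by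
        refine lt_of_le_of_ne le_sup_left ?_
        intro h
        apply hxT
        rw [h]
        exact (le_sup_right : Subgroup.zpowers x ≤ T') (Subgroup.mem_zpowers x)
      have h2 : Nat.card T < Nat.card T' := Cfsg.Agent.Lib.Helper34.card_lt_card_of_lt hlt
      have h3 : Nat.card T = Nat.card P₀ :=
        Subgroup.card_map_of_injective M.subtype_injective
      omega
    set M' : Subgroup G := M.map (MulAut.conj x).toMonoidHom with hM'def
    have hM' : IsMaxLoc p M' := isMaxLoc_conj hM x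
    have hne' : M ≠ M' := by
      intro h
      apply hxM
      have : x ∈ Subgroup.normalizer (M : Set G) :=
        Subgroup.mem_normalizer_iff_map_conj_eq.mpr h.symm
      rwa [normalizer_eq hM] at this
    have hTM' : T ≤ M' := by
      have := Subgroup.map_mono (f := (MulAut.conj x).toMonoidHom) hTM
      rwa [Cfsg.Agent.Lib.Helper34.map_conj_eq_self_of_mem_normalizer T x hxN] at this
    have hcardM' : Nat.card M' = Nat.card M := Cfsg.Agent.Lib.Helper34.card_map_conj M x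
    have h1 : pCoreOf p M ≤ T := pCoreOf_le_of_card hTM hTcard
    have h2 : pCoreOf p M' ≤ T := pCoreOf_le_of_card hTM' (by rw [hcardM']; exact hTcard)
    exact hne' (hnopair M M' hM hM' (h1.trans hTM') (h2.trans hTM))
  -- Step 2: a maximal p-local containing `R` equals any maximal p-local containing `N_G(R)`
  have hkey : ∀ n : ℕ, ∀ R : Subgroup G, IsPGroup p R → R ≠ ⊥ → Nat.card G - Nat.card R = n →
      ∀ L₁ L₃ : Subgroup G, IsMaxLoc p L₁ → IsMaxLoc p L₃ → R ≤ L₁ →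
        Subgroup.normalizer (R : Set G) ≤ L₃ → L₁ = L₃ := by
    intro n
    induction n using Nat.strong_induction_on with
    | _ n ih =>
      intro R hRp hR0 hn L₁ L₃ hL₁ hL₃ hRL₁ hNL₃
      have hRL₃ : R ≤ L₃ := Subgroup.le_normalizer.trans hNL₃
      have hRp' : IsPGroup p ↥(R.subgroupOf L₁) := hRp.comap_subtype
      obtain ⟨P₁, hP₁⟩ := hRp'.exists_le_sylow
      set T₁ : Subgroup G := (P₁ : Subgroup ↥L₁).map L₁.subtype with hT₁def
      have hT₁L : T₁ ≤ L₁ := Subgroup.map_subtype_le _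
      have hRT₁ : R ≤ T₁ := by
        have := Subgroup.map_mono (f := L₁.subtype) hP₁
        rwa [Subgroup.map_subgroupOf_eq_of_le hRL₁] at this
      have hT₁card : Nat.card T₁ = p ^ (Nat.card G).factorization p := by
        rw [← hfull L₁ hL₁]
        exact Cfsg.Agent.Lib.Helper54.card_map_sylow L₁ P₁
      have hT₁p : IsPGroup p T₁ := P₁.2.map _
      by_cases hEq : R = T₁
      · -- R is a Sylow subgroup of G
        have hRcard : Nat.card R = p ^ (Nat.card G).factorization p := by rw [hEq]; exact hT₁card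
        have h1 : pCoreOf p L₁ ≤ R :=
          pCoreOf_le_of_card hRL₁ (by rw [hfull L₁ hL₁]; exact hRcard)
        have h3 : pCoreOf p L₃ ≤ R :=
          pCoreOf_le_of_card hRL₃ (by rw [hfull L₃ hL₃]; exact hRcard)
        exact hnopair L₁ L₃ hL₁ hL₃ (h1.trans hRL₃) (h3.trans hRL₁)
      · have hlt : R < T₁ := lt_of_le_of_ne hRT₁ hEq
        have hgrow := Cfsg.Agent.Lib.Helper34.lt_inf_normalizer_of_lt (P := T₁) hT₁p hlt
        set R₁ : Subgroup G := T₁ ⊓ Subgroup.normalizer (R : Set G) with hR₁def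
        have hR₁p : IsPGroup p R₁ := hT₁p.to_le inf_le_left
        have hR₁0 : R₁ ≠ ⊥ := by
          intro h
          rw [h] at hgrow
          exact not_lt_bot hgrow
        have hR₁L₁ : R₁ ≤ L₁ := inf_le_left.trans hT₁L
        have hR₁L₃ : R₁ ≤ L₃ := inf_le_right.trans hNL₃
        have hcardlt : Nat.card R < Nat.card R₁ :=
          Cfsg.Agent.Lib.Helper34.card_lt_card_of_lt hgrow
        have hcardle : Nat.card R₁ ≤ Nat.card G := Subgroup.card_le_card_group R₁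
        have hlocR₁ : IsLoc p (Subgroup.normalizer (R₁ : Set G)) := ⟨R₁, hR₁p, hR₁0, rfl⟩
        obtain ⟨L₄, hL₄, hNL₄⟩ := exists_isMaxLoc_ge hlocR₁
        have hm : Nat.card G - Nat.card R₁ < n := by omega
        have e1 := ih _ hm R₁ hR₁p hR₁0 rfl L₁ L₄ hL₁ hL₄ hR₁L₁ hNL₄
        have e3 := ih _ hm R₁ hR₁p hR₁0 rfl L₃ L₄ hL₃ hL₄ hR₁L₃ hNL₄
        rw [e1, e3]
  have huniq : ∀ R : Subgroup G, IsPGroup p R → R ≠ ⊥ → ∀ L₁ L₂ : Subgroup G, IsMaxLoc p L₁ →
      IsMaxLoc p L₂ → R ≤ L₁ → R ≤ L₂ → L₁ = L₂ := by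
    intro R hRp hR0 L₁ L₂ hL₁ hL₂ h1 h2
    have hlocR : IsLoc p (Subgroup.normalizer (R : Set G)) := ⟨R, hRp, hR0, rfl⟩
    obtain ⟨L₃, hL₃, hNL₃⟩ := exists_isMaxLoc_ge hlocR
    rw [hkey _ R hRp hR0 rfl L₁ L₃ hL₁ hL₃ h1 hNL₃, hkey _ R hRp hR0 rfl L₂ L₃ hL₂ hL₃ h2 hNL₃]
  -- conclusion
  intro M hMloc hMmax
  have hM : IsMaxLoc p M := ⟨hMloc, hMmax⟩
  obtain ⟨T, hT, hT0, hMT⟩ := hMloc
  have hTM : T ≤ M := by rw [hMT]; exact Subgroup.le_normalizer
  refine ⟨?_, ?_, ?_⟩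
  · intro htop
    apply hT0
    have hTn : T.Normal := by
      rw [← Subgroup.normalizer_eq_top_iff, ← hMT, htop]
    have := Cfsg.Agent.Lib.Helper97.le_pCore_of_normal hTn hT
    rwa [hOp, le_bot_iff] at this
  · have hTnt : Nontrivial ↥T := (Subgroup.nontrivial_iff_ne_bot T).mpr hT0
    obtain ⟨k, hk⟩ := hT.exists_card_eq
    have hk0 : k ≠ 0 := by
      intro h
      rw [h, pow_zero] at hk
      have := (Nat.card_eq_one_iff_unique.mp hk).1
      exact not_subsingleton ↥T this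
    have h1 : p ∣ Nat.card T := by
      rw [hk]; exact dvd_pow_self p hk0
    exact h1.trans (Subgroup.card_dvd_of_le hTM)
  · intro g hg hdvd
    obtain ⟨x, hx⟩ := exists_prime_orderOf_dvd_card' (G := ↥(M ⊓ M.map (MulAut.conj g).toMonoidHom)) p hdvd
    set R : Subgroup G := Subgroup.zpowers (x : G) with hRdef
    have hxo : orderOf (x : G) = p := by
      rw [Subgroup.orderOf_coe]; exact hx
    have hRp : IsPGroup p R := by
      apply IsPGroup.of_card (n := 1)
      rw [Nat.card_zpowers, hxo, pow_one]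
    have hR0 : R ≠ ⊥ := by
      intro h
      rw [hRdef, Subgroup.zpowers_eq_bot] at h
      rw [h, orderOf_one] at hxo
      exact hp.one_lt.ne hxo
    have hRM : R ≤ M := (Subgroup.zpowers_le).mpr (Subgroup.mem_inf.mp x.2).1
    have hRM' : R ≤ M.map (MulAut.conj g).toMonoidHom :=
      (Subgroup.zpowers_le).mpr (Subgroup.mem_inf.mp x.2).2
    have hEq := huniq R hRp hR0 M _ hM (isMaxLoc_conj hM g) hRM hRM'
    apply hg
    have : g ∈ Subgroup.normalizer (M : Set G) :=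
      Subgroup.mem_normalizer_iff_map_conj_eq.mpr hEq.symm
    rwa [normalizer_eq hM] at this

end Cfsg.Agent.S3751
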