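import Cfsg.Statements.S3753
-- import your own Cfsg.Agent.* helpers here
import Cfsg.Agent.Lib.Helper62.PrimPairD

set_option autoImplicit false
open Cfsg

namespace Cfsg.Agent.S3753

open Cfsg.Agent.Lib.Helper62.PrimPair Cfsg.Agent.Lib.Helper97

theorem eq_bot_of_pCoreOf_eq_bot {G : Type*} [Group G] {p : ℕ} {M : Subgroup G}
    (hc : Subgroup.centralizer (Cfsg.pCore p ↥M : Set ↥M) ≤ Cfsg.pCore p ↥M)
    (h : Cfsg.pCoreOf p M = ⊥) : M = ⊥ := by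
  have h1 : Cfsg.pCore p ↥M = ⊥ :=
    (Subgroup.map_eq_bot_iff_of_injective _ M.subtype_injective).mp h
  rw [eq_bot_iff]
  intro x hx
  have h2 : (⟨x, hx⟩ : ↥M) ∈ Subgroup.centralizer (Cfsg.pCore p ↥M : Set ↥M) := by
    rw [h1, Subgroup.mem_centralizer_iff]
    intro y hy
    rw [SetLike.mem_coe, Subgroup.mem_bot] at hy
    rw [hy, one_mul, mul_one]
  have h3 := hc h2
  rw [h1, Subgroup.mem_bot] at h3
  rw [Subgroup.mem_bot]
  exact congrArg Subtype.val h3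

/-- With abelian Sylow `p`-subgroups and characteristic `p`, every `p`-subgroup of `M` lies in `O_p(M)`. -/
theorem le_pCore_of_abelian_sylow {H : Type*} [Group H] [Finite H] {p : ℕ} [Fact p.Prime]
    (hc : Subgroup.centralizer (Cfsg.pCore p H : Set H) ≤ Cfsg.pCore p H)
    (hab : ∀ S : Sylow p H, IsMulCommutative (S : Subgroup H)) {P : Subgroup H} (hP : IsPGroup p ↥P) :
    P ≤ Cfsg.pCore p H := by
  obtain ⟨S, hS⟩ := hP.exists_le_sylow
  refine hS.trans ?_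
  intro x hx
  apply hc
  rw [Subgroup.mem_centralizer_iff]
  intro q hq
  have hqS : q ∈ (S : Subgroup H) := pCore_le_sylow' S hq
  have := (hab S).is_comm.comm ⟨q, hqS⟩ ⟨x, hx⟩
  exact congrArg Subtype.val this

theorem pCoreOf_le_pCoreOf_of_abelian_sylow {G : Type*} [Group G] [Finite G] {p : ℕ} [Fact p.Prime]
    {M M' : Subgroup G}
    (hc' : Subgroup.centralizer (Cfsg.pCore p ↥M' : Set ↥M') ≤ Cfsg.pCore p ↥M')
    (hab' : ∀ S : Sylow p ↥M', IsMulCommutative (S : Subgroup ↥M'))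
    (hO : Cfsg.pCoreOf p M ≤ M') : Cfsg.pCoreOf p M ≤ Cfsg.pCoreOf p M' := by
  have hp : IsPGroup p ↥((Cfsg.pCoreOf p M).subgroupOf M') :=
    (Cfsg.Agent.Lib.Helper47.pCoreOf_isPGroup p M).comap_subtype
  have h1 := le_pCore_of_abelian_sylow hc' hab' hp
  intro x hx
  rw [mem_pCoreOf_iff (hO hx)]
  exact h1 (by rw [Subgroup.mem_subgroupOf]; exact hx)

/-- Two distinct subgroups M₁, M₂ of G form a primitive pair when, for {i, j} = {1, 2}, every non-trivial normal subgroup A of M_i contained in M₁ ∩ M₂ satisfies N_{M_j}(A) = M₁ ∩ M₂; the pair has characteristic p when moreover C_{M_i}(O_p(M_i)) ≤ O_p(M_i) for both i and O_p(M₁)O_p(M₂) ≤ M₁ ∩ M₂. If the finite group G has a primitive pair (M₁, M₂) of characteristic p for some prime p, then M₁ or M₂ has non-abelian Sylow 2-subgroups. In particular no group of odd order has a primitive pair of characteristic p. -/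
theorem result {G : Type*} [Group G] [Finite G] {p : ℕ} [Fact p.Prime] (M₁ M₂ : Subgroup G) (hne : M₁ ≠ M₂) (hP : ∀ A : Subgroup G, A ≠ ⊥ → A ≤ M₁ ⊓ M₂ → (M₁ ≤ Subgroup.normalizer (A : Set G) → M₂ ⊓ Subgroup.normalizer (A : Set G) = M₁ ⊓ M₂) ∧ (M₂ ≤ Subgroup.normalizer (A : Set G) → M₁ ⊓ Subgroup.normalizer (A : Set G) = M₁ ⊓ M₂)) (hc₁ : Subgroup.centralizer (Cfsg.pCore p ↥M₁ : Set ↥M₁) ≤ Cfsg.pCore p ↥M₁) (hc₂ : Subgroup.centralizer (Cfsg.pCore p ↥M₂ : Set ↥M₂) ≤ Cfsg.pCore p ↥M₂) (hO : (Cfsg.pCore p ↥M₁).map M₁.subtype ⊔ (Cfsg.pCore p ↥M₂).map M₂.subtype ≤ M₁ ⊓ M₂) : (∃ S : Sylow 2 ↥M₁, ¬ IsMulCommutative (S : Subgroup ↥M₁)) ∨ (∃ S : Sylow 2 ↥M₂, ¬ IsMulCommutative (S : Subgroup ↥M₂)) := by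
  by_contra hcon
  rw [not_or] at hcon
  obtain ⟨hn1, hn2⟩ := hcon
  have hab₁ : ∀ S : Sylow 2 ↥M₁, IsMulCommutative (S : Subgroup ↥M₁) :=
    fun S => by_contra fun hS => hn1 ⟨S, hS⟩
  have hab₂ : ∀ S : Sylow 2 ↥M₂, IsMulCommutative (S : Subgroup ↥M₂) :=
    fun S => by_contra fun hS => hn2 ⟨S, hS⟩
  have hO₁ : Cfsg.pCoreOf p M₁ ≤ M₂ := (le_sup_left.trans hO).trans inf_le_right
  have hO₂ : Cfsg.pCoreOf p M₂ ≤ M₁ := (le_sup_right.trans hO).trans inf_le_left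
  have hQ₁ : Cfsg.pCoreOf p M₁ ≠ ⊥ := by
    intro h
    have h1 : M₁ = ⊥ := eq_bot_of_pCoreOf_eq_bot hc₁ h
    have h2 : Cfsg.pCoreOf p M₂ = ⊥ := by
      rw [eq_bot_iff, ← h1]; exact hO₂
    exact hne (h1.trans (eq_bot_of_pCoreOf_eq_bot hc₂ h2).symm)
  have hQ₂ : Cfsg.pCoreOf p M₂ ≠ ⊥ := by
    intro h
    have h1 : M₂ = ⊥ := eq_bot_of_pCoreOf_eq_bot hc₂ h
    have h2 : Cfsg.pCoreOf p M₁ = ⊥ := by
      rw [eq_bot_iff, ← h1]; exact hO₁
    exact hne ((eq_bot_of_pCoreOf_eq_bot hc₁ h2).trans h1.symm)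
  by_cases hp2 : p = 2
  · subst hp2
    have e : Cfsg.pCoreOf 2 M₁ = Cfsg.pCoreOf 2 M₂ :=
      le_antisymm (pCoreOf_le_pCoreOf_of_abelian_sylow hc₂ hab₂ hO₁)
        (pCoreOf_le_pCoreOf_of_abelian_sylow hc₁ hab₁ hO₂)
    have hle : Cfsg.pCoreOf 2 M₁ ≤ M₁ ⊓ M₂ := le_inf (pCoreOf_le' M₁) hO₁
    have hn₁ : M₁ ≤ Subgroup.normalizer ((Cfsg.pCoreOf 2 M₁ : Subgroup G) : Set G) :=
      pCoreOf_normalizer M₁
    have hn₂ : M₂ ≤ Subgroup.normalizer ((Cfsg.pCoreOf 2 M₁ : Subgroup G) : Set G) := by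
      rw [e]; exact pCoreOf_normalizer M₂
    obtain ⟨k1, k2⟩ := hP _ hQ₁ hle
    have h1 := k1 hn₁
    have h2 := k2 hn₂
    rw [inf_eq_left.mpr hn₂] at h1
    rw [inf_eq_left.mpr hn₁] at h2
    apply hne
    apply le_antisymm
    · rw [h2]; exact inf_le_right
    · rw [h1]; exact inf_le_left
  · have hpc : PC p M₁ M₂ :=
      { prim := fun A hA hle hn => (hP A hA hle).1 hn
        prim' := fun A hA hle hn => (hP A hA hle).2 hn
        good := ⟨hc₁, Cfsg.Agent.S0626.result hp2 hab₁⟩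
        good' := ⟨hc₂, Cfsg.Agent.S0626.result hp2 hab₂⟩
        hO := hO₁
        hO' := hO₂
        hQ := hQ₁
        hQ' := hQ₂ }
    exact hne hpc.eq

end Cfsg.Agent.S3753
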