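import Cfsg.Statements.S3754
import Cfsg.Agent.S1324
import Cfsg.Agent.Lib.Helper62.HHDual
import Cfsg.Agent.Lib.Helper47.Subnormal
import Cfsg.Agent.Lib.Helper84.PResidualAux
import Cfsg.Agent.Lib.Helper97.PStable2
import Cfsg.Agent.Lib.Helper97.Cores

set_option autoImplicit false
open Cfsg

namespace Cfsg.Agent.S3754

section aux

variable {M : Type*} [Group M]

/-- `p'`-elements of `H = T A` (with `T ⊴ H`, `A` a `p`-group) lie in `T`. -/
theorem mem_of_coprime_of_le_sup [Finite M] {p : ℕ} [Fact p.Prime]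
    (H T A : Subgroup M) (hTH : T ≤ H) (hAH : A ≤ H)
    (hTn : H ≤ Subgroup.normalizer (T : Set M))
    (hA : IsPGroup p A) (hH : H ≤ T ⊔ A) :
    ∀ g ∈ H, (orderOf g).Coprime p → g ∈ T := by
  intro g hg hgo
  have hT'n : (T.subgroupOf H).Normal := by
    refine ⟨fun n hn h => ?_⟩
    rw [Subgroup.mem_subgroupOf] at hn ⊢
    exact (Subgroup.mem_normalizer_iff.mp (hTn h.2) _).mp hn
  let q := QuotientGroup.mk' (T.subgroupOf H)
  let D : Subgroup (↥H ⧸ T.subgroupOf H) := (A.subgroupOf H).map q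
  have hDp : IsPGroup p D := by
    have h1 : IsPGroup p (A.subgroupOf H) :=
      IsPGroup.of_equiv hA (Subgroup.subgroupOfEquivOfLe hAH).symm
    exact h1.map q
  have htop : D.comap q = ⊤ := by
    rw [eq_top_iff]
    have h1 : T ⊔ A ≤ (D.comap q).map H.subtype := by
      apply sup_le
      · intro t ht
        refine ⟨⟨t, hTH ht⟩, ?_, rfl⟩
        show (⟨t, hTH ht⟩ : ↥H) ∈ D.comap q
        rw [Subgroup.mem_comap]
        have : q ⟨t, hTH ht⟩ = 1 := by
          rw [QuotientGroup.mk'_apply, QuotientGroup.eq_one_iff, Subgroup.mem_subgroupOf]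
          exact ht
        rw [this]; exact D.one_mem
      · intro a ha
        refine ⟨⟨a, hAH ha⟩, ?_, rfl⟩
        show (⟨a, hAH ha⟩ : ↥H) ∈ D.comap q
        rw [Subgroup.mem_comap]
        exact Subgroup.mem_map_of_mem q (Subgroup.mem_subgroupOf.mpr ha)
    intro h _
    obtain ⟨h', hh', heq⟩ := h1 (hH h.2)
    have : h' = h := Subtype.ext heq
    rw [← this]; exact hh'
  have hgD : q ⟨g, hg⟩ ∈ D := by
    have : (⟨g, hg⟩ : ↥H) ∈ D.comap q := by rw [htop]; trivial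
    exact this
  obtain ⟨k, hk⟩ := hDp ⟨q ⟨g, hg⟩, hgD⟩
  have hk' : (q ⟨g, hg⟩) ^ p ^ k = 1 := by
    have := congrArg Subtype.val hk
    simpa using this
  have hgo' : (q ⟨g, hg⟩) ^ orderOf g = 1 := by
    rw [← map_pow]
    have : (⟨g, hg⟩ : ↥H) ^ orderOf g = 1 := by
      apply Subtype.ext
      simp [pow_orderOf_eq_one]
    rw [this, map_one]
  have h1 : q ⟨g, hg⟩ = 1 :=
    Cfsg.Agent.Lib.Helper76.eq_one_of_pow_eq_one_of_coprime p _ _ k hgo hgo' hk'
  rw [QuotientGroup.mk'_apply, QuotientGroup.eq_one_iff, Subgroup.mem_subgroupOf] at h1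
  exact h1

end aux

section main

open scoped commutatorElement

variable {M : Type*} [Group M] [Finite M] {p : ℕ} [Fact p.Prime]

/-- the quotient map onto `M / O_p(M)` -/
abbrev qmap (p : ℕ) (M : Type*) [Group M] : M →* M ⧸ Cfsg.pCore p M :=
  QuotientGroup.mk' (Cfsg.pCore p M)

/-- `O_{p'}(M / O_p(M))` -/
abbrev Kb (p : ℕ) (M : Type*) [Group M] : Subgroup (M ⧸ Cfsg.pCore p M) :=
  Cfsg.pPrimeCore p (M ⧸ Cfsg.pCore p M)

/-- `O_{p,p'}(M)` -/
abbrev KK (p : ℕ) (M : Type*) [Group M] : Subgroup M := (Kb p M).comap (qmap p M)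

/-- `⟨A, A^x⟩` -/
abbrev Lx (A : Subgroup M) (x : M) : Subgroup M := A ⊔ A.map (MulAut.conj x).toMonoidHom

theorem KK_normal : (KK p M).Normal := by
  have : (Kb p M).Normal := Cfsg.pPrimeCore_normal p _
  exact Subgroup.Normal.comap this _

theorem qmap_eq_one_iff (g : M) : qmap p M g = 1 ↔ g ∈ Cfsg.pCore p M := by
  rw [QuotientGroup.mk'_apply, QuotientGroup.eq_one_iff]

theorem card_Kb_coprime : (Nat.card (Kb p M)).Coprime p :=
  Cfsg.Agent.Lib.Helper97.card_pPrimeCore_coprime p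

/-- `p`-elements of `M / O_p(M)` lying in `O_{p'}` are trivial. -/
theorem eq_one_of_mem_Kb {z : M ⧸ Cfsg.pCore p M} (hz : z ∈ Kb p M) {k : ℕ}
    (hk : z ^ p ^ k = 1) : z = 1 := by
  have h1 : z ^ Nat.card (Kb p M) = 1 := by
    have h := pow_card_eq_one' (G := Kb p M) (x := ⟨z, hz⟩)
    have h' := congrArg Subtype.val h
    rw [Subgroup.coe_pow] at h'
    exact h'
  exact Cfsg.Agent.Lib.Helper76.eq_one_of_pow_eq_one_of_coprime p z _ k card_Kb_coprime h1 hk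

theorem conj_mem_Lx (A : Subgroup M) (x : M) {a : M} (ha : a ∈ A) : x * a * x⁻¹ ∈ Lx A x :=
  Subgroup.mem_sup_right ⟨a, ha, by simp⟩

theorem le_Lx (A : Subgroup M) (x : M) : A ≤ Lx A x := le_sup_left

/-- If `⟨A, A^x⟩` is a `p`-group (`x ∈ O_{p,p'}`), then `x` centralizes `A` modulo `O_p(M)`. -/
theorem commute_of_isPGroup (A : Subgroup M) {x : M} (hx : x ∈ KK p M)
    (hL : IsPGroup p (Lx A x)) :
    ∀ a ∈ A, qmap p M x * qmap p M a = qmap p M a * qmap p M x := by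
  intro a ha
  have hKn : (KK p M).Normal := KK_normal
  set g : M := a⁻¹ * (x * a * x⁻¹) with hg
  have hgL : g ∈ Lx A x :=
    Subgroup.mul_mem _ (Subgroup.inv_mem _ (le_Lx A x ha)) (conj_mem_Lx A x ha)
  have hgK : g ∈ KK p M := by
    have e : g = (a⁻¹ * x * a⁻¹⁻¹) * x⁻¹ := by rw [hg]; group
    rw [e]
    exact Subgroup.mul_mem _ (hKn.conj_mem x hx a⁻¹) (Subgroup.inv_mem _ hx)
  obtain ⟨k, hk⟩ := hL ⟨g, hgL⟩
  have hk' : g ^ p ^ k = 1 := by
    have := congrArg Subtype.val hk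
    simpa using this
  have h1 : qmap p M g = 1 := by
    apply eq_one_of_mem_Kb (k := k) hgK
    rw [← map_pow, hk', map_one]
  rw [hg] at h1
  simp only [map_mul, map_inv] at h1
  -- `ā⁻¹ x̄ ā x̄⁻¹ = 1`
  calc qmap p M x * qmap p M a
      = qmap p M a * ((qmap p M a)⁻¹ * (qmap p M x * qmap p M a * (qmap p M x)⁻¹)) * qmap p M x := by
        group
    _ = qmap p M a * qmap p M x := by rw [h1, mul_one]

/-- Conversely, if `y` centralizes `A` modulo `O_p(M)` then `⟨A, A^y⟩` is a `p`-group. -/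
theorem isPGroup_of_commute (A : Subgroup M) (hA : IsPGroup p A) {y : M}
    (hy : ∀ a ∈ A, qmap p M y * qmap p M a = qmap p M a * qmap p M y) :
    IsPGroup p (Lx A y) := by
  have hP : IsPGroup p (Cfsg.pCore p M) := Cfsg.Agent.Lib.Helper97.isPGroup_pCore p M
  have hAP : IsPGroup p (A ⊔ Cfsg.pCore p M : Subgroup M) := hA.to_sup_of_normal_right hP
  apply hAP.to_le
  apply sup_le le_sup_left
  rintro _ ⟨a, ha, rfl⟩
  have h1 : qmap p M (a⁻¹ * (y * a * y⁻¹)) = 1 := by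
    simp only [map_mul, map_inv]
    rw [hy a ha]; group
  rw [qmap_eq_one_iff] at h1
  have e : (MulAut.conj y).toMonoidHom a = a * (a⁻¹ * (y * a * y⁻¹)) := by
    simp [mul_assoc]
  rw [e]
  exact Subgroup.mul_mem _ (Subgroup.mem_sup_left ha) (Subgroup.mem_sup_right h1)

/-- Step A: some `x ∈ O_{p,p'}(M)` with `⟨A, A^x⟩` not a `p`-group. -/
theorem exists_not_isPGroup (hM : Cfsg.IsPSolvable p M) (A : Subgroup M) (hA : IsPGroup p A)
    (hnot : ¬ A ≤ Cfsg.pCore p M) : ∃ x ∈ KK p M, ¬ IsPGroup p (Lx A x) := by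
  by_contra hno
  push_neg at hno
  apply hnot
  intro a ha
  rw [← qmap_eq_one_iff]
  have hsolv : Cfsg.IsPSolvable p (M ⧸ Cfsg.pCore p M) :=
    Cfsg.Agent.Lib.Helper76.IsPSolvable_of_surjective p (qmap p M)
      (QuotientGroup.mk'_surjective _) hM
  have hcore : ∀ N : Subgroup (M ⧸ Cfsg.pCore p M), N.Normal → IsPGroup p N → N = ⊥ := by
    intro N hN hNp
    have h1 : N ≤ Cfsg.pCore p (M ⧸ Cfsg.pCore p M) :=
      Cfsg.Agent.Lib.Helper97.le_pCore_of_normal hN hNp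
    rw [Cfsg.Agent.Lib.Helper97.pCore_quotient_pCore] at h1
    exact le_bot_iff.mp h1
  have hHH := Cfsg.Agent.Lib.Helper62.centralizer_pPrimeCore_le p hsolv hcore
  have hmem : qmap p M a ∈ Kb p M := by
    apply hHH
    rw [Subgroup.mem_centralizer_iff]
    intro z hz
    obtain ⟨x, rfl⟩ := QuotientGroup.mk'_surjective (Cfsg.pCore p M) z
    have hxK : x ∈ KK p M := hz
    exact commute_of_isPGroup A hxK (hno x hxK) a ha
  obtain ⟨k, hk⟩ := hA ⟨a, ha⟩
  have hk' : a ^ p ^ k = 1 := by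
    have := congrArg Subtype.val hk
    simpa using this
  apply eq_one_of_mem_Kb (k := k) hmem
  rw [← map_pow, hk', map_one]


/-- `y a y⁻¹ a⁻¹ ∈ ⟨A, A^y⟩`. -/
theorem comm_mem_Lx (A : Subgroup M) (y : M) {a : M} (ha : a ∈ A) :
    y * a * y⁻¹ * a⁻¹ ∈ Lx A y :=
  Subgroup.mul_mem _ (conj_mem_Lx A y ha) (Subgroup.inv_mem _ (le_Lx A y ha))

theorem Lx_le {A H : Subgroup M} {y : M} (hA : A ≤ H) (hy : ∀ a ∈ A, y * a * y⁻¹ ∈ H) :
    Lx A y ≤ H := by
  apply sup_le hA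
  rintro _ ⟨a, ha, rfl⟩
  simpa using hy a ha

/-- Step E: the conclusions, given a good `y`. -/
theorem final (A : Subgroup M) (hA : IsPGroup p A)
    (hΦ : (frattini ↥A).map A.subtype ≤ Cfsg.pCore p M)
    (y : M) (hyK : y ∈ KK p M)
    (hyR : y ∈ Cfsg.Agent.Lib.Helper47.opOf p (Lx A y))
    (hLnot : ¬ IsPGroup p (Lx A y))
    (Bb : Subgroup (M ⧸ Cfsg.pCore p M))
    (hBidx : Bb.relIndex (A.map (qmap p M)) ≤ p)
    (hyB : qmap p M y ∈ Subgroup.centralizer (Bb : Set (M ⧸ Cfsg.pCore p M))) :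
    Cfsg.Agent.Lib.Helper47.opOf p (Lx A y) ≤ KK p M ∧
    ⁅Cfsg.Agent.Lib.Helper47.opOf p (Lx A y), A⁆ = Cfsg.Agent.Lib.Helper47.opOf p (Lx A y) ∧
    (A ⊓ Cfsg.pCoreOf p (Lx A y)).relIndex A = p ∧
    ⁅A ⊓ Cfsg.pCoreOf p (Lx A y), Lx A y⁆ ≤ Cfsg.pCore p M := by
  have hp : p.Prime := Fact.out
  have hKn : (KK p M).Normal := KK_normal
  set L := Lx A y with hL
  set R := Cfsg.Agent.Lib.Helper47.opOf p L with hR
  have hAL : A ≤ L := le_Lx A y
  have hRL : R ≤ L := Cfsg.Agent.Lib.Helper47.opOf_le p L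
  have hyL : y ∈ L := hRL hyR
  -- (2)
  have h2 : R ≤ KK p M := by
    rw [hR, Cfsg.Agent.Lib.Helper47.opOf_le_iff]
    intro g hg hgo
    have hTn : L ≤ Subgroup.normalizer ((L ⊓ KK p M : Subgroup M) : Set M) := by
      intro l hl
      rw [Subgroup.mem_normalizer_iff]
      intro h
      constructor
      · rintro ⟨h1, h2⟩
        exact ⟨L.mul_mem (L.mul_mem hl h1) (L.inv_mem hl), hKn.conj_mem h h2 l⟩
      · rintro ⟨h1, h2⟩
        refine ⟨?_, ?_⟩
        · have := L.mul_mem (L.mul_mem (L.inv_mem hl) h1) hl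
          simpa [mul_assoc] using this
        · have := hKn.conj_mem _ h2 l⁻¹
          simpa [mul_assoc] using this
    have hsup : L ≤ (L ⊓ KK p M) ⊔ A := by
      apply Lx_le le_sup_right
      intro a ha
      have e : y * a * y⁻¹ = (y * a * y⁻¹ * a⁻¹) * a := by group
      rw [e]
      refine Subgroup.mul_mem _ (Subgroup.mem_sup_left ⟨comm_mem_Lx A y ha, ?_⟩)
        (Subgroup.mem_sup_right ha)
      have e2 : y * a * y⁻¹ * a⁻¹ = y * (a * y⁻¹ * a⁻¹) := by group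
      rw [e2]
      exact Subgroup.mul_mem _ hyK (hKn.conj_mem _ (Subgroup.inv_mem _ hyK) a)
    exact (mem_of_coprime_of_le_sup L (L ⊓ KK p M) A inf_le_left hAL hTn hA hsup g hg hgo).2
  -- (3)
  have hAR : A ≤ Subgroup.normalizer (R : Set M) :=
    (hAL.trans Subgroup.le_normalizer).trans
      (Cfsg.Agent.Lib.Helper47.normalizer_le_normalizer_opOf p L)
  have hTR : ⁅R, A⁆ ≤ R := Subgroup.le_normalizer_iff_commutator_le_left.mp hAR
  have h3 : ⁅R, A⁆ = R := by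
    apply le_antisymm hTR
    rw [hR, Cfsg.Agent.Lib.Helper47.opOf_le_iff]
    intro g hg hgo
    have hsup : L ≤ ⁅R, A⁆ ⊔ A := by
      apply Lx_le le_sup_right
      intro a ha
      have e : y * a * y⁻¹ = ⁅y, a⁆ * a := by rw [commutatorElement_def]; group
      rw [e]
      exact Subgroup.mul_mem _
        (Subgroup.mem_sup_left (Subgroup.commutator_mem_commutator hyR ha))
        (Subgroup.mem_sup_right ha)
    have hAT : A ≤ Subgroup.normalizer ((⁅R, A⁆ : Subgroup M) : Set M) := by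
      intro b hb
      rw [Subgroup.mem_normalizer_iff_map_conj_eq, Subgroup.map_commutator,
        Subgroup.mem_normalizer_iff_map_conj_eq.mp (hAR hb),
        Subgroup.mem_normalizer_iff_map_conj_eq.mp (Subgroup.le_normalizer hb)]
    have hTn : L ≤ Subgroup.normalizer ((⁅R, A⁆ : Subgroup M) : Set M) :=
      hsup.trans (sup_le Subgroup.le_normalizer hAT)
    exact mem_of_coprime_of_le_sup L ⁅R, A⁆ A (hTR.trans hRL) hAL hTn hA hsup g hg hgo
  -- the centralizer of `Bb`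
  have hcommA : ∀ a ∈ A, ∀ b ∈ A, qmap p M a * qmap p M b = qmap p M b * qmap p M a := by
    intro a ha b hb
    have h1 : ⁅a, b⁆ ∈ Cfsg.pCore p M :=
      hΦ (Cfsg.Agent.Lib.Helper97.commutator_le_map_frattini hA
        (Subgroup.commutator_mem_commutator ha hb))
    rw [← qmap_eq_one_iff, map_commutatorElement, commutatorElement_eq_one_iff_commute] at h1
    exact h1.eq
  have hAb_p : IsPGroup p (A.map (qmap p M)) := hA.map _
  -- `Bb ⊓ Ab` behaves like `Bb`; we may not have `Bb ≤ Ab`, so work with `Bb ⊓ Ab`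
  set Ab := A.map (qmap p M) with hAb
  set CB : Subgroup M := (Subgroup.centralizer ((Bb ⊓ Ab : Subgroup _) : Set (M ⧸ Cfsg.pCore p M))).comap
    (qmap p M) with hCB
  have hA_CB : A ≤ CB := by
    intro a ha
    rw [hCB, Subgroup.mem_comap, Subgroup.mem_centralizer_iff]
    rintro z ⟨-, ⟨b, hb, rfl⟩⟩
    exact hcommA b hb a ha
  have hy_CB : y ∈ CB := by
    rw [hCB, Subgroup.mem_comap]
    exact Subgroup.centralizer_le (by intro z hz; exact hz.1) hyB
  have hL_CB : L ≤ CB :=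
    Lx_le hA_CB (fun a ha => CB.mul_mem (CB.mul_mem hy_CB (hA_CB ha)) (CB.inv_mem hy_CB))
  set Bp : Subgroup M := A ⊓ (Bb ⊓ Ab).comap (qmap p M) with hBp
  set O := Cfsg.pCoreOf p L with hO
  -- (i) `Bp ≤ O`
  have hconj : ∀ l ∈ L, ∀ g : M, qmap p M g ∈ Bb ⊓ Ab → qmap p M (l * g * l⁻¹) = qmap p M g := by
    intro l hl g hg
    have h1 := Subgroup.mem_centralizer_iff.mp (hL_CB hl) _ hg
    simp only [map_mul, map_inv]
    rw [← h1]; group
  have hBpO : Bp ≤ O := by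
    set Q : Subgroup M := L ⊓ (Bb ⊓ Ab).comap (qmap p M) with hQ
    have hQL : Q ≤ L := inf_le_left
    have hQp : IsPGroup p Q := by
      have h1 : IsPGroup p (Bb ⊓ Ab : Subgroup (M ⧸ Cfsg.pCore p M)) := hAb_p.to_le inf_le_right
      have h2 : IsPGroup p ((Bb ⊓ Ab).comap (qmap p M)) := by
        apply h1.comap_of_ker_isPGroup
        rw [QuotientGroup.ker_mk']
        exact Cfsg.Agent.Lib.Helper97.isPGroup_pCore p M
      exact h2.to_le inf_le_right
    have hstep : ∀ l ∈ L, ∀ g ∈ Q, l * g * l⁻¹ ∈ Q := by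
      intro l hl g hg
      refine ⟨L.mul_mem (L.mul_mem hl hg.1) (L.inv_mem hl), ?_⟩
      show l * g * l⁻¹ ∈ (Bb ⊓ Ab).comap (qmap p M)
      rw [Subgroup.mem_comap, hconj l hl g hg.2]
      exact hg.2
    have hQn : L ≤ Subgroup.normalizer (Q : Set M) := by
      intro l hl
      rw [Subgroup.mem_normalizer_iff]
      intro g
      constructor
      · exact hstep l hl g
      · intro h
        have := hstep l⁻¹ (L.inv_mem hl) _ h
        simpa [mul_assoc] using this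
    have h1 : Q ≤ O := Cfsg.Agent.Lib.Helper47.le_pCoreOf hQL hQn hQp
    exact (inf_le_inf_right _ hAL).trans h1
  -- (ii), (iii)
  have hidxBp : Bp.relIndex A = (Bb ⊓ Ab).relIndex Ab := by
    rw [hBp, Subgroup.inf_relIndex_left, Subgroup.relIndex_comap]
  have hBbAb : (Bb ⊓ Ab).relIndex Ab = Bb.relIndex Ab := Subgroup.inf_relIndex_right _ _
  have hne1 : Bb.relIndex Ab ≠ 1 := by
    intro h1
    rw [Subgroup.relIndex_eq_one] at h1
    apply hLnot
    apply isPGroup_of_commute A hA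
    intro a ha
    exact (Subgroup.mem_centralizer_iff.mp hyB _ (h1 ⟨a, ha, rfl⟩)).symm
  have hidxp : Bb.relIndex Ab = p := by
    obtain ⟨k, hk⟩ := IsPGroup.iff_card.mp hAb_p
    have hdvd : Bb.relIndex Ab ∣ p ^ k := by rw [← hk]; exact Subgroup.relIndex_dvd_card _ _
    obtain ⟨j, -, hj⟩ := (Nat.dvd_prime_pow hp).mp hdvd
    rw [hj] at hne1 hBidx ⊢
    have hj0 : j ≠ 0 := by rintro rfl; exact hne1 (pow_zero p)
    have hj1 : j ≤ 1 := by
      by_contra h
      push_neg at h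
      have : p ^ 2 ≤ p ^ j := Nat.pow_le_pow_right hp.pos h
      have : p * p ≤ p := by rw [← pow_two]; omega
      have := hp.one_lt
      nlinarith
    have : j = 1 := by omega
    rw [this, pow_one]
  -- (iv)
  have hAO : ¬ A ≤ O := by
    intro h
    apply hLnot
    have hOp : IsPGroup p O := Cfsg.Agent.Lib.Helper47.pCoreOf_isPGroup p L
    apply hOp.to_le
    have hLO : L ≤ Subgroup.normalizer (O : Set M) :=
      Subgroup.le_normalizer.trans (Cfsg.Agent.Lib.Helper47.normalizer_le_normalizer_pCoreOf p L)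
    exact Lx_le h (fun a ha => (Subgroup.mem_normalizer_iff.mp (hLO hyL) a).mp (h ha))
  -- (v)
  have hBpAO : Bp ≤ A ⊓ O := le_inf inf_le_left hBpO
  have hmul := Subgroup.relIndex_mul_relIndex Bp (A ⊓ O) A hBpAO inf_le_left
  rw [hidxBp, hBbAb, hidxp] at hmul
  have hAO1 : (A ⊓ O).relIndex A ≠ 1 := by
    intro h1
    rw [Subgroup.relIndex_eq_one] at h1
    exact hAO (h1.trans inf_le_right)
  have h4 : (A ⊓ O).relIndex A = p := by
    have hd : (A ⊓ O).relIndex A ∣ p := Dvd.intro_left _ hmul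
    rcases (Nat.dvd_prime hp).mp hd with h | h
    · exact absurd h hAO1
    · exact h
  have hle : A ⊓ O ≤ Bp := by
    rw [h4] at hmul
    have h1 : Bp.relIndex (A ⊓ O) = 1 := by
      have := hp.pos
      nlinarith
    exact Subgroup.relIndex_eq_one.mp h1
  -- (5)
  have h5 : ⁅A ⊓ O, L⁆ ≤ Cfsg.pCore p M := by
    rw [Subgroup.commutator_le]
    intro b hb l hl
    rw [← qmap_eq_one_iff, map_commutatorElement, commutatorElement_eq_one_iff_commute]
    have hb' : qmap p M b ∈ Bb ⊓ Ab := (hle hb).2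
    exact (Subgroup.mem_centralizer_iff.mp (hL_CB hl) _ hb')
  exact ⟨h2, h3, h4, h5⟩


/-- Steps B and C: a good `y`. -/
theorem exists_good (hM : Cfsg.IsPSolvable p M) (A : Subgroup M) (hA : IsPGroup p A)
    (hΦ : (frattini ↥A).map A.subtype ≤ Cfsg.pCore p M) (hnot : ¬ A ≤ Cfsg.pCore p M) :
    ∃ y ∈ KK p M, y ∈ Cfsg.Agent.Lib.Helper47.opOf p (Lx A y) ∧ ¬ IsPGroup p (Lx A y) ∧
      ∃ Bb : Subgroup (M ⧸ Cfsg.pCore p M), Bb.relIndex (A.map (qmap p M)) ≤ p ∧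
        qmap p M y ∈ Subgroup.centralizer (Bb : Set (M ⧸ Cfsg.pCore p M)) := by
  have hp : p.Prime := Fact.out
  have hKn : (KK p M).Normal := KK_normal
  obtain ⟨x₀, hx₀K, hx₀⟩ := exists_not_isPGroup hM A hA hnot
  -- Step B
  let S : Set ℕ := {n | ∃ x ∈ KK p M, ¬ IsPGroup p (Lx A x) ∧ Nat.card (Lx A x) = n}
  have hSne : S.Nonempty := ⟨_, x₀, hx₀K, hx₀, rfl⟩
  obtain ⟨x₁, hx₁K, hx₁, hcard⟩ := Nat.sInf_mem hSne
  have hmin : ∀ x ∈ KK p M, ¬ IsPGroup p (Lx A x) →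
      Nat.card (Lx A x₁) ≤ Nat.card (Lx A x) := by
    intro x hx hnp
    rw [hcard]
    exact Nat.sInf_le ⟨x, hx, hnp, rfl⟩
  set L := Lx A x₁ with hL
  have hAL : A ≤ L := le_Lx A x₁
  -- (C1)
  have hC1 : ¬ (∀ n ∈ L ⊓ KK p M, ∀ a ∈ A,
      qmap p M n * qmap p M a = qmap p M a * qmap p M n) := by
    intro h
    apply hx₁
    apply isPGroup_of_commute A hA
    intro a ha
    set g : M := a⁻¹ * (x₁ * a * x₁⁻¹) with hg
    have hgL : g ∈ L :=
      Subgroup.mul_mem _ (Subgroup.inv_mem _ (hAL ha)) (conj_mem_Lx A x₁ ha)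
    have hgK : g ∈ KK p M := by
      have e : g = (a⁻¹ * x₁ * a⁻¹⁻¹) * x₁⁻¹ := by rw [hg]; group
      rw [e]
      exact Subgroup.mul_mem _ (hKn.conj_mem x₁ hx₁K a⁻¹) (Subgroup.inv_mem _ hx₁K)
    have hcomm := h g ⟨hgL, hgK⟩ a ha
    obtain ⟨k, hk⟩ := hA ⟨a, ha⟩
    have hk' : a ^ p ^ k = 1 := by
      have := congrArg Subtype.val hk
      simpa using this
    have hak : (qmap p M a) ^ p ^ k = 1 := by rw [← map_pow, hk', map_one]
    have hprod : qmap p M (x₁ * a * x₁⁻¹) = qmap p M a * qmap p M g := by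
      rw [hg]; simp only [map_mul, map_inv]; group
    have hpk : (qmap p M (x₁ * a * x₁⁻¹)) ^ p ^ k = 1 := by
      rw [← map_pow, conj_pow, hk']; simp
    have hνk : (qmap p M g) ^ p ^ k = 1 := by
      rw [hprod, (show Commute (qmap p M a) (qmap p M g) from hcomm.symm).mul_pow, hak,
        one_mul] at hpk
      exact hpk
    have hν1 : qmap p M g = 1 := eq_one_of_mem_Kb (k := k) hgK hνk
    rw [hν1, mul_one] at hprod
    simp only [map_mul, map_inv] at hprod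
    calc qmap p M x₁ * qmap p M a
        = (qmap p M x₁ * qmap p M a * (qmap p M x₁)⁻¹) * qmap p M x₁ := by group
      _ = qmap p M a * qmap p M x₁ := by rw [hprod]
  -- (C2)
  set Ab := A.map (qmap p M) with hAb
  have hcommA : ∀ a ∈ A, ∀ b ∈ A, qmap p M a * qmap p M b = qmap p M b * qmap p M a := by
    intro a ha b hb
    have h1 : ⁅a, b⁆ ∈ Cfsg.pCore p M :=
      hΦ (Cfsg.Agent.Lib.Helper97.commutator_le_map_frattini hA
        (Subgroup.commutator_mem_commutator ha hb))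
    rw [← qmap_eq_one_iff, map_commutatorElement, commutatorElement_eq_one_iff_commute] at h1
    exact h1.eq
  have hAbE : Cfsg.IsElementaryAbelian p Ab := by
    refine ⟨⟨⟨?_⟩⟩, ?_⟩
    · rintro ⟨_, ⟨a, ha, rfl⟩⟩ ⟨_, ⟨b, hb, rfl⟩⟩
      apply Subtype.ext
      exact hcommA a ha b hb
    · rintro _ ⟨a, ha, rfl⟩
      have h1 : a ^ p ∈ Cfsg.pCore p M :=
        hΦ (Cfsg.Agent.Lib.Helper97.pow_prime_mem_map_frattini hA ha)
      rw [← qmap_eq_one_iff, map_pow] at h1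
      exact h1
  set Nb : Subgroup (M ⧸ Cfsg.pCore p M) := (L ⊓ KK p M).map (qmap p M) with hNb
  have hNbKb : Nb ≤ Kb p M := by
    rintro _ ⟨n, hn, rfl⟩
    exact hn.2
  have hNbp : ¬ p ∣ Nat.card Nb := by
    intro h
    have h1 : p ∣ Nat.card (Kb p M) := dvd_trans h (Subgroup.card_dvd_of_le hNbKb)
    have h2 := Nat.Coprime.eq_one_of_dvd (card_Kb_coprime (p := p) (M := M)).symm h1
    exact hp.one_lt.ne' h2
  have hconjN : ∀ a ∈ L, ∀ n ∈ L ⊓ KK p M, a * n * a⁻¹ ∈ L ⊓ KK p M := by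
    intro a ha n hn
    exact ⟨L.mul_mem (L.mul_mem ha hn.1) (L.inv_mem ha), hKn.conj_mem n hn.2 a⟩
  have hAbN : Ab ≤ Subgroup.normalizer (Nb : Set (M ⧸ Cfsg.pCore p M)) := by
    rintro _ ⟨a, ha, rfl⟩
    rw [Subgroup.mem_normalizer_iff]
    intro h
    constructor
    · rintro ⟨n, hn, rfl⟩
      refine ⟨a * n * a⁻¹, hconjN a (hAL ha) n hn, ?_⟩
      simp only [map_mul, map_inv]
    · rintro ⟨n', hn', hn'eq⟩
      refine ⟨a⁻¹ * n' * a, ?_, ?_⟩
      · have := hconjN a⁻¹ (L.inv_mem (hAL ha)) n' hn'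
        simpa using this
      · simp only [map_mul, map_inv, hn'eq]; group
  have hexB : ∃ B : Subgroup (M ⧸ Cfsg.pCore p M), B ≤ Ab ∧ B.relIndex Ab ≤ p ∧
      ¬ (Nb ⊓ Subgroup.centralizer (B : Set (M ⧸ Cfsg.pCore p M)) ≤
        Nb ⊓ Subgroup.centralizer (Ab : Set (M ⧸ Cfsg.pCore p M))) := by
    by_contra hno
    push_neg at hno
    have hkey := Cfsg.Agent.S1324.key p Ab Nb hAbE hNbp hAbN
      (Nb ⊓ Subgroup.centralizer (Ab : Set (M ⧸ Cfsg.pCore p M))) hno (Nat.card Ab) ⊥ bot_le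
      (by rw [Subgroup.relIndex_bot_left]; exact (Nat.lt_pow_self hp.one_lt).le)
    apply hC1
    intro n hn a ha
    have hmem : qmap p M n ∈ Nb ⊓ Subgroup.centralizer
        (((⊥ : Subgroup (M ⧸ Cfsg.pCore p M)) : Subgroup _) : Set (M ⧸ Cfsg.pCore p M)) := by
      refine Subgroup.mem_inf.mpr ⟨⟨n, hn, rfl⟩, Subgroup.mem_centralizer_iff.mpr ?_⟩
      intro z hz
      have hz1 : z = 1 := by simpa using hz
      rw [hz1, one_mul, mul_one]
    have := (hkey hmem).2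
    exact (Subgroup.mem_centralizer_iff.mp this _ ⟨a, ha, rfl⟩).symm
  obtain ⟨B, hBA, hBidx, hBnot⟩ := hexB
  obtain ⟨z, hzNB, hznot⟩ := SetLike.not_le_iff_exists.mp hBnot
  have hzN : z ∈ Nb := hzNB.1
  have hzB : z ∈ Subgroup.centralizer (B : Set (M ⧸ Cfsg.pCore p M)) := hzNB.2
  have hzA : z ∉ Subgroup.centralizer (Ab : Set (M ⧸ Cfsg.pCore p M)) :=
    fun h => hznot (Subgroup.mem_inf.mpr ⟨hzN, h⟩)
  -- (C3) lift `z` into `O^p(L)`
  obtain ⟨n, hn, hnz⟩ := hzN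
  let f : ↥L →* M ⧸ Cfsg.pCore p M := (qmap p M).comp L.subtype
  have hfz : f ⟨n, hn.1⟩ = z := hnz
  have hzo : (orderOf (f ⟨n, hn.1⟩)).Coprime p := by
    rw [hfz]
    have h1 : orderOf z ∣ Nat.card (Kb p M) := by
      have := orderOf_dvd_natCard (⟨z, hNbKb ⟨n, hn, hnz⟩⟩ : ↥(Kb p M))
      rwa [Subgroup.orderOf_mk] at this
    exact Nat.Coprime.coprime_dvd_left h1 card_Kb_coprime
  obtain ⟨g', hg', hg'z⟩ := Cfsg.Agent.Lib.Helper84.exists_mem_pResidual_apply_eq f _ hzo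
  rw [hfz] at hg'z
  set y : M := (g' : M) with hy
  have hyz : qmap p M y = z := hg'z
  have hyR : y ∈ Cfsg.Agent.Lib.Helper47.opOf p L := ⟨g', hg', rfl⟩
  have hyL : y ∈ L := g'.2
  have hyK : y ∈ KK p M := by
    show qmap p M y ∈ Kb p M
    rw [hyz]
    exact hNbKb ⟨n, hn, hnz⟩
  -- (C4)
  have hLyL : Lx A y ≤ L :=
    Lx_le hAL (fun a ha => L.mul_mem (L.mul_mem hyL (hAL ha)) (L.inv_mem hyL))
  have hLynot : ¬ IsPGroup p (Lx A y) := by
    intro h
    apply hzA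
    rw [Subgroup.mem_centralizer_iff]
    rintro _ ⟨a, ha, rfl⟩
    rw [← hyz]
    exact (commute_of_isPGroup A hyK h a ha).symm
  have hLy : Lx A y = L :=
    Subgroup.eq_of_le_of_card_ge hLyL (hmin y hyK hLynot)
  refine ⟨y, hyK, ?_, hLynot, B, hBidx, ?_⟩
  · rw [hLy]; exact hyR
  · rw [hyz]; exact hzB

end main

/-- Let M be a finite p-soluble group and A a p-subgroup of M with Φ(A) ≤ O_p(M) but A ≰ O_p(M). Then there is x ∈ O_{p,p'}(M) such that L = ⟨A, xAx⁻¹⟩ satisfies: x ∈ O^p(L) and O^p(L) ≤ O_{p,p'}(M); [O^p(L), A] = O^p(L); A ∩ O_p(L) has index p in A; and [A ∩ O_p(L), L] ≤ O_p(M). Here O^p(L) is the subgroup generated by the p'-elements of L and O_{p,p'}(M) the preimage of O_{p'}(M/O_p(M)). -/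
theorem result {M : Type*} [Group M] [Finite M] {p : ℕ} [Fact p.Prime] (hM : Cfsg.IsPSolvable p M) (A : Subgroup M) (hA : IsPGroup p A) (hΦ : (frattini ↥A).map A.subtype ≤ Cfsg.pCore p M) (hnot : ¬ A ≤ Cfsg.pCore p M) : ∃ x ∈ (Cfsg.pPrimeCore p (M ⧸ Cfsg.pCore p M)).comap (QuotientGroup.mk' (Cfsg.pCore p M)), x ∈ (Cfsg.pResidual p ↥(A ⊔ A.map (MulAut.conj x).toMonoidHom)).map (A ⊔ A.map (MulAut.conj x).toMonoidHom).subtype ∧ (Cfsg.pResidual p ↥(A ⊔ A.map (MulAut.conj x).toMonoidHom)).map (A ⊔ A.map (MulAut.conj x).toMonoidHom).subtype ≤ (Cfsg.pPrimeCore p (M ⧸ Cfsg.pCore p M)).comap (QuotientGroup.mk' (Cfsg.pCore p M)) ∧ ⁅(Cfsg.pResidual p ↥(A ⊔ A.map (MulAut.conj x).toMonoidHom)).map (A ⊔ A.map (MulAut.conj x).toMonoidHom).subtype, A⁆ = (Cfsg.pResidual p ↥(A ⊔ A.map (MulAut.conj x).toMonoidHom)).map (A ⊔ A.map (MulAut.conj x).toMonoidHom).subtype ∧ (A ⊓ (Cfsg.pCore p ↥(A ⊔ A.map (MulAut.conj x).toMonoidHom)).map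 (A ⊔ A.map (MulAut.conj x).toMonoidHom).subtype).relIndex A = p ∧ ⁅A ⊓ (Cfsg.pCore p ↥(A ⊔ A.map (MulAut.conj x).toMonoidHom)).map (A ⊔ A.map (MulAut.conj x).toMonoidHom).subtype, A ⊔ A.map (MulAut.conj x).toMonoidHom⁆ ≤ Cfsg.pCore p M := by
  obtain ⟨y, hyK, hyR, hLnot, Bb, hBidx, hyB⟩ := exists_good hM A hA hΦ hnot
  obtain ⟨h2, h3, h4, h5⟩ := final A hA hΦ y hyK hyR hLnot Bb hBidx hyB
  exact ⟨y, hyK, hyR, h2, h3, h4, h5⟩

end Cfsg.Agent.S3754
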