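import Cfsg.Statements.S3755
import Cfsg.Agent.S0444
import Cfsg.Agent.S0028
import Cfsg.Agent.S1324
import Cfsg.Agent.Lib.Helper55.Cores
import Cfsg.Agent.Lib.Helper54.Coprime

set_option autoImplicit false
open Cfsg

namespace Cfsg.Agent.S3755

section aux

open Pointwise

/-- A group generated by two involutions whose product has order 3 modulo `N` maps onto `S₃` with kernel `N`. -/
theorem quot_s3 {Γ : Type*} [Group Γ] (N : Subgroup Γ) [N.Normal] (a b : Γ)
    (ha : a * a = 1) (hb : b * b = 1) (hgen : Subgroup.closure ({a, b} : Set Γ) = ⊤)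
    (h3 : (a * b) ^ 3 ∈ N) (h2 : (a * b) ^ 2 ∉ N) :
    Nonempty (Γ ⧸ N ≃* Equiv.Perm (Fin 3)) := by
  set d : Γ ⧸ N := QuotientGroup.mk a with hd_def
  set e : Γ ⧸ N := QuotientGroup.mk b with he_def
  have hd : d * d = 1 := by rw [hd_def, ← QuotientGroup.mk_mul, ha]; rfl
  have he : e * e = 1 := by rw [he_def, ← QuotientGroup.mk_mul, hb]; rfl
  have hde3 : (d * e) ^ 3 = 1 := by
    rw [hd_def, he_def, ← QuotientGroup.mk_mul, ← QuotientGroup.mk_pow]
    exact (QuotientGroup.eq_one_iff _).mpr h3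
  have hde2 : (d * e) ^ 2 ≠ 1 := by
    rw [hd_def, he_def, ← QuotientGroup.mk_mul, ← QuotientGroup.mk_pow]
    intro h
    exact h2 ((QuotientGroup.eq_one_iff _).mp h)
  have hdinv : d⁻¹ = d := inv_eq_of_mul_eq_one_right hd
  have heinv : e⁻¹ = e := inv_eq_of_mul_eq_one_right he
  have hed : e * d = (d * e)⁻¹ := by rw [mul_inv_rev, hdinv, heinv]
  have hed3 : (e * d) ^ 3 = 1 := by rw [hed, inv_pow, hde3, inv_one]
  have hd1 : d ≠ 1 := by
    intro h
    apply hde2
    rw [h, one_mul, pow_two, he]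
  have he1 : e ≠ 1 := by
    intro h
    apply hde2
    rw [h, mul_one, pow_two, hd]
  have hod : orderOf d = 2 := orderOf_eq_prime (by rw [pow_two, hd]) hd1
  have hoe : orderOf e = 2 := orderOf_eq_prime (by rw [pow_two, he]) he1
  have hE : Cfsg.IsThreeTranspositionSet ({d, e} : Set (Γ ⧸ N)) := by
    refine ⟨?_, ?_⟩
    · rintro x (rfl | rfl)
      · exact hod
      · exact hoe
    · rintro x (rfl | rfl) y (rfl | rfl)
      · left; rw [hd, one_pow]
      · right; exact hde3
      · right; exact hed3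
      · left; rw [he, one_pow]
  have hne : ¬ Commute d e := by
    intro h
    apply hde2
    rw [pow_two]
    calc d * e * (d * e) = d * (e * d) * e := by simp only [mul_assoc]
      _ = d * (d * e) * e := by rw [h.eq]
      _ = (d * d) * (e * e) := by simp only [mul_assoc]
      _ = 1 := by rw [hd, he, one_mul]
  obtain ⟨φ⟩ := Cfsg.Agent.S0444.result hE (d := d) (e := e) (by simp) (by simp) hne
  have htop : Subgroup.closure ({d, e} : Set (Γ ⧸ N)) = ⊤ := by
    have h := congrArg (Subgroup.map (QuotientGroup.mk' N)) hgen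
    rw [MonoidHom.map_closure, Subgroup.map_top_of_surjective _ (QuotientGroup.mk'_surjective N)] at h
    rw [← h]
    congr 1
    ext x
    simp [hd_def, he_def, Set.image_pair]
  exact ⟨(Subgroup.topEquiv.symm.trans (MulEquiv.subgroupCongr htop.symm)).trans φ⟩


/-- Conjugation by powers stays inside an invariant subgroup. -/
theorem conj_pow_mem {X : Type*} [Group X] (U : Subgroup X) (c : X)
    (hc : ∀ u ∈ U, c * u * c⁻¹ ∈ U) (k : ℕ) : ∀ u ∈ U, c ^ k * u * (c ^ k)⁻¹ ∈ U := by
  induction k with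
  | zero => intro u hu; simpa using hu
  | succ k ih =>
    intro u hu
    have h := hc _ (ih u hu)
    have e : c ^ (k + 1) * u * (c ^ (k + 1))⁻¹ = c * (c ^ k * u * (c ^ k)⁻¹) * c⁻¹ := by
      rw [pow_succ']; group
    rw [e]; exact h

/-- An odd-order element normalizing an elementary abelian 2-group `U` and centralizing a subgroup `W`
of index at most 4 in `U` has its cube centralizing `U`. -/
theorem cube_centralizes {X : Type*} [Group X] (U W : Subgroup X) [Finite U] (c : X)
    (hU2 : ∀ u ∈ U, u * u = 1)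
    (hc : ∀ u ∈ U, c * u * c⁻¹ ∈ U) (N : ℕ) (hN : Odd N) (hcN : c ^ N = 1)
    (hWU : W ≤ U) (hWc : ∀ w ∈ W, c * w = w * c) (hidx : W.relIndex U ≤ 4) :
    ∀ u ∈ U, c ^ 3 * u = u * c ^ 3 := by
  intro u hu
  have hWck : ∀ k : ℕ, ∀ w ∈ W, c ^ k * w = w * c ^ k := fun k w hw =>
    ((show Commute c w from hWc w hw).pow_left k).eq
  -- step 1: some `s ∈ {1,2,3}` with `c^s u c^-s = u w`
  have hstep : ∃ s : ℕ, 1 ≤ s ∧ s ≤ 3 ∧ ∃ w ∈ W, c ^ s * u * (c ^ s)⁻¹ = u * w := by
    by_cases huW : u ∈ W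
    · exact ⟨1, le_rfl, by norm_num, 1, W.one_mem, by rw [pow_one, hWc u huW]; group⟩
    let v : ℕ → ↥U := fun k => ⟨c ^ k * u * (c ^ k)⁻¹, conj_pow_mem U c hc k u hu⟩
    let f : Fin 5 → ↥U ⧸ W.subgroupOf U :=
      Fin.cons (QuotientGroup.mk (1 : ↥U)) (fun k : Fin 4 => QuotientGroup.mk (v k))
    have hnotinj : ¬ Function.Injective f := by
      intro hinj
      have h1 : Nat.card (Fin 5) ≤ Nat.card (↥U ⧸ W.subgroupOf U) :=
        Nat.card_le_card_of_injective f hinj
      rw [Nat.card_eq_fintype_card, Fintype.card_fin, ← Subgroup.index_eq_card] at h1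
      have : (W.subgroupOf U).index = W.relIndex U := rfl
      omega
    have hvW : ∀ k : ℕ, c ^ k * u * (c ^ k)⁻¹ ∉ W := by
      intro k hk
      apply huW
      have e : u = (c ^ k)⁻¹ * (c ^ k * u * (c ^ k)⁻¹) * c ^ k := by group
      rw [e, mul_assoc, ← hWck k _ hk, inv_mul_cancel_left]
      exact hk
    have hmain : ∀ i j : ℕ, i < j → j ≤ 3 →
        (QuotientGroup.mk (v i) : ↥U ⧸ W.subgroupOf U) = QuotientGroup.mk (v j) →
        ∃ s : ℕ, 1 ≤ s ∧ s ≤ 3 ∧ ∃ w ∈ W, c ^ s * u * (c ^ s)⁻¹ = u * w := by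
      intro i j hij hj h
      rw [QuotientGroup.eq, Subgroup.mem_subgroupOf] at h
      have h' : (c ^ i * u * (c ^ i)⁻¹)⁻¹ * (c ^ j * u * (c ^ j)⁻¹) ∈ W := by simpa [v] using h
      refine ⟨j - i, by omega, by omega, u⁻¹ * (c ^ (j - i) * u * (c ^ (j - i))⁻¹), ?_, by group⟩
      have e : u⁻¹ * (c ^ (j - i) * u * (c ^ (j - i))⁻¹)
          = (c ^ i)⁻¹ * ((c ^ i * u * (c ^ i)⁻¹)⁻¹ * (c ^ j * u * (c ^ j)⁻¹)) * c ^ i := by
        have hj' : c ^ j = c ^ i * c ^ (j - i) := by rw [← pow_add]; congr 1; omega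
        rw [hj']; group
      rw [e, mul_assoc, ← hWck i _ h', inv_mul_cancel_left]
      exact h'
    rw [Function.not_injective_iff] at hnotinj
    obtain ⟨x, y, hxy, hne⟩ := hnotinj
    induction x using Fin.cases with
    | zero =>
      induction y using Fin.cases with
      | zero => exact absurd rfl hne
      | succ l =>
        exfalso
        simp only [f, Fin.cons_zero, Fin.cons_succ] at hxy
        rw [QuotientGroup.eq, Subgroup.mem_subgroupOf] at hxy
        apply hvW l
        simpa [v] using hxy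
    | succ k =>
      induction y using Fin.cases with
      | zero =>
        exfalso
        simp only [f, Fin.cons_zero, Fin.cons_succ] at hxy
        have hxy' := hxy.symm
        rw [QuotientGroup.eq, Subgroup.mem_subgroupOf] at hxy'
        apply hvW k
        simpa [v] using hxy'
      | succ l =>
        simp only [f, Fin.cons_succ] at hxy
        have hkl : (k : ℕ) ≠ l := fun h => hne (by rw [Fin.ext h])
        rcases Nat.lt_or_gt_of_ne hkl with h | h
        · exact hmain k l h (by omega) hxy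
        · exact hmain l k h (by omega) hxy.symm
  obtain ⟨s, hs1, hs3, w, hw, hsw⟩ := hstep
  -- step 2: `w = 1`
  have hcsw : Commute (c ^ s) w := (hWck s w hw)
  have hpow : ∀ k : ℕ, (c ^ s) ^ k * u * ((c ^ s) ^ k)⁻¹ = u * w ^ k := by
    intro k
    induction k with
    | zero => simp
    | succ k ih =>
      have e : (c ^ s) ^ (k + 1) * u * ((c ^ s) ^ (k + 1))⁻¹
          = c ^ s * ((c ^ s) ^ k * u * ((c ^ s) ^ k)⁻¹) * (c ^ s)⁻¹ := by
        rw [pow_succ']; group
      rw [e, ih]
      have e2 : c ^ s * (u * w ^ k) * (c ^ s)⁻¹ = (c ^ s * u * (c ^ s)⁻¹) * (c ^ s * w ^ k * (c ^ s)⁻¹) := by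
        group
      rw [e2, hsw, (hcsw.pow_right k).eq, mul_inv_cancel_right, pow_succ', mul_assoc]
  have hwN : w ^ N = 1 := by
    have h := hpow N
    rw [← pow_mul, mul_comm, pow_mul, hcN, one_pow, one_mul, inv_one, mul_one] at h
    exact (mul_eq_left.mp h.symm)
  have hw2 : w ^ 2 = 1 := by rw [pow_two]; exact hU2 w (hWU hw)
  have hw1 : w = 1 := by
    have h1 : orderOf w ∣ N := orderOf_dvd_of_pow_eq_one hwN
    have h2 : orderOf w ∣ 2 := orderOf_dvd_of_pow_eq_one hw2
    have h3 : orderOf w ∣ Nat.gcd N 2 := Nat.dvd_gcd h1 h2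
    have h4 : Nat.gcd N 2 = 1 := by
      obtain ⟨m, rfl⟩ := hN
      simp
    rw [h4, Nat.dvd_one, orderOf_eq_one_iff] at h3
    exact h3
  rw [hw1, mul_one] at hsw
  have hcs : Commute (c ^ s) u := by
    have : c ^ s * u = u * c ^ s := by
      calc c ^ s * u = c ^ s * u * (c ^ s)⁻¹ * c ^ s := by group
        _ = u * c ^ s := by rw [hsw]
    exact this
  -- step 3: `c^6` and then `c^3` commute with `u`
  have hc6 : Commute (c ^ 6) u := by
    have h6 : ∃ t, 6 = s * t := by
      interval_cases s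
      · exact ⟨6, rfl⟩
      · exact ⟨3, rfl⟩
      · exact ⟨2, rfl⟩
    obtain ⟨t, ht⟩ := h6
    rw [ht, pow_mul]
    exact hcs.pow_left t
  obtain ⟨m, hm⟩ := hN
  have hc3 : c ^ 3 = (c ^ 6) ^ (m + 1) := by
    rw [← pow_mul]
    have : 6 * (m + 1) = N * 3 + 3 := by omega
    rw [this, pow_add, pow_mul, hcN, one_pow, one_mul]
  rw [hc3]
  exact (hc6.pow_left (m + 1)).eq


/-- The normalizer of `U` normalizes the centralizer of `U`. -/
theorem conj_mem_centralizer {X : Type*} [Group X] (U : Subgroup X) {g n : X}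
    (hg : g ∈ Subgroup.normalizer (U : Set X)) (hn : n ∈ Subgroup.centralizer (U : Set X)) :
    g * n * g⁻¹ ∈ Subgroup.centralizer (U : Set X) := by
  rw [Subgroup.mem_centralizer_iff] at hn ⊢
  intro u hu
  have hu' : g⁻¹ * u * g ∈ U := (Subgroup.mem_normalizer_iff''.mp hg u).mp hu
  have h := hn _ hu'
  calc u * (g * n * g⁻¹) = g * ((g⁻¹ * u * g) * n) * g⁻¹ := by group
    _ = g * (n * (g⁻¹ * u * g)) * g⁻¹ := by rw [h]
    _ = g * n * g⁻¹ * u := by group

/-- Two involutions of `M` normalizing `U`, whose product acts on `U` with order exactly 3, give an `S₃` section of `M`. -/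
theorem involves_of_pair {X : Type*} [Group X] (M U : Subgroup X) (a b : X)
    (haM : a ∈ M) (hbM : b ∈ M) (ha : a * a = 1) (hb : b * b = 1)
    (haU : a ∈ Subgroup.normalizer (U : Set X)) (hbU : b ∈ Subgroup.normalizer (U : Set X))
    (h3 : (a * b) ^ 3 ∈ Subgroup.centralizer (U : Set X))
    (h2 : (a * b) ^ 2 ∉ Subgroup.centralizer (U : Set X)) :
    Cfsg.Involves (Equiv.Perm (Fin 3)) ↥M := by
  let aM : ↥M := ⟨a, haM⟩
  let bM : ↥M := ⟨b, hbM⟩
  let K : Subgroup ↥M := Subgroup.closure {aM, bM}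
  let R : Subgroup ↥M := (Subgroup.centralizer (U : Set X)).subgroupOf M
  have hKN : ∀ g ∈ K, ((g : ↥M) : X) ∈ Subgroup.normalizer (U : Set X) := by
    have : K ≤ (Subgroup.normalizer (U : Set X)).subgroupOf M := by
      rw [Subgroup.closure_le]
      rintro x (rfl | rfl)
      · exact haU
      · exact hbU
    intro g hg
    exact this hg
  have hnorm : (R.subgroupOf K).Normal := by
    refine ⟨fun n hn g => ?_⟩
    rw [Subgroup.mem_subgroupOf, Subgroup.mem_subgroupOf] at hn ⊢
    have := conj_mem_centralizer U (hKN g g.2) hn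
    simpa using this
  refine ⟨K, R, hnorm, ?_⟩
  let a' : ↥K := ⟨aM, Subgroup.subset_closure (by simp)⟩
  let b' : ↥K := ⟨bM, Subgroup.subset_closure (by simp)⟩
  have hgen : Subgroup.closure ({a', b'} : Set ↥K) = ⊤ := by
    have h := Subgroup.closure_closure_coe_preimage (k := ({aM, bM} : Set ↥M))
    have hset : ((↑) : ↥K → ↥M) ⁻¹' ({aM, bM} : Set ↥M) = ({a', b'} : Set ↥K) := by
      ext x
      simp only [Set.mem_preimage, Set.mem_insert_iff, Set.mem_singleton_iff]
      constructor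
      · rintro (h | h)
        · left; exact Subtype.ext h
        · right; exact Subtype.ext h
      · rintro (h | h)
        · left; rw [h]
        · right; rw [h]
    rw [← hset]; exact h
  haveI := hnorm
  apply quot_s3 (R.subgroupOf K) a' b'
  · apply Subtype.ext; apply Subtype.ext; simpa using ha
  · apply Subtype.ext; apply Subtype.ext; simpa using hb
  · exact hgen
  · rw [Subgroup.mem_subgroupOf, Subgroup.mem_subgroupOf]
    simpa using h3
  · rw [Subgroup.mem_subgroupOf, Subgroup.mem_subgroupOf]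
    simpa using h2


theorem elemAb_of_le {X : Type*} [Group X] {A B : Subgroup X} (hA : Cfsg.IsElementaryAbelian 2 A)
    (hBA : B ≤ A) : Cfsg.IsElementaryAbelian 2 B := by
  refine ⟨⟨⟨fun x y => ?_⟩⟩, fun b hb => hA.2 b (hBA hb)⟩
  have := hA.1
  apply Subtype.ext
  show x.1 * y.1 = y.1 * x.1
  exact congrArg Subtype.val (mul_comm' (⟨x.1, hBA x.2⟩ : ↥A) ⟨y.1, hBA y.2⟩)

theorem main_aux {X : Type*} [Group X] [Finite X] (M V : Subgroup X)
    (hV : Cfsg.IsElementaryAbelian 2 V)
    (hMV : M ≤ Subgroup.normalizer (V : Set X))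
    (hfaith : M ⊓ Subgroup.centralizer (V : Set X) = ⊥)
    (hcon : Subgroup.centralizer (Cfsg.pPrimeCore 2 ↥M : Set ↥M) ≤ Cfsg.pPrimeCore 2 ↥M) :
    ∀ n : ℕ, ∀ A : Subgroup X, Nat.card A = n → A ≤ M → Cfsg.IsElementaryAbelian 2 A →
      (V ⊓ Subgroup.centralizer (A : Set X)).relIndex V < Nat.card A ^ 2 →
      Cfsg.Involves (Equiv.Perm (Fin 3)) ↥M := by
  haveI : Fact (Nat.Prime 2) := ⟨Nat.prime_two⟩
  intro n
  induction n using Nat.strong_induction_on with
  | _ n ih =>
  intro A hAn hAM hA hsmall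
  by_cases hex : ∃ B : Subgroup X, B < A ∧
      (V ⊓ Subgroup.centralizer (B : Set X)).relIndex V < Nat.card B ^ 2
  · obtain ⟨B, hBA, hBsmall⟩ := hex
    have hlt : Nat.card B < n := by
      rw [← hAn]
      rcases (Subgroup.card_le_of_le hBA.le).lt_or_eq with h | h
      · exact h
      · exact absurd (Subgroup.eq_of_le_of_card_ge hBA.le h.ge) hBA.ne
    exact ih (Nat.card B) hlt B rfl (hBA.le.trans hAM) (elemAb_of_le hA hBA.le) hBsmall
  push_neg at hex
  -- basic facts
  have hA2 : ∀ a ∈ A, a * a = 1 := fun a ha => by have := hA.2 a ha; rwa [pow_two] at this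
  have hAcomm := Cfsg.Agent.S1324.comm_of_mem hA
  have hV2 : ∀ v ∈ V, v * v = 1 := fun v hv => by have := hV.2 v hv; rwa [pow_two] at this
  have hVcomm := Cfsg.Agent.S1324.comm_of_mem hV
  obtain ⟨kV, hkV⟩ := Cfsg.Agent.S1324.card_eq_pow (p := 2) hV
  obtain ⟨kA, hkA⟩ := Cfsg.Agent.S1324.card_eq_pow (p := 2) hA
  -- the odd core
  set L : Subgroup X := (Cfsg.pPrimeCore 2 ↥M).map M.subtype with hL
  have hLM : L ≤ M := by rintro _ ⟨l, -, rfl⟩; exact l.2
  have hLcop : (Nat.card L).Coprime 2 := by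
    rw [hL, Subgroup.card_map_of_injective (Subgroup.subtype_injective M)]
    exact Cfsg.Agent.Lib.Helper55.card_pPrimeCore_coprime 2
  have hLnorm : ∀ m ∈ M, ∀ l ∈ L, m * l * m⁻¹ ∈ L := by
    rintro m hm _ ⟨l, hl, rfl⟩
    have hN := Cfsg.Agent.Lib.Helper55.pPrimeCore_normal' (G := ↥M) 2
    exact ⟨⟨m, hm⟩ * l * ⟨m, hm⟩⁻¹, hN.conj_mem l hl ⟨m, hm⟩, by simp⟩
  have hcon' : ∀ m ∈ M, (∀ l ∈ L, m * l = l * m) → m ∈ L := by
    intro m hm h
    have hc : (⟨m, hm⟩ : ↥M) ∈ Subgroup.centralizer (Cfsg.pPrimeCore 2 ↥M : Set ↥M) := by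
      rw [Subgroup.mem_centralizer_iff]
      intro l hl
      apply Subtype.ext
      have := h l ⟨l, hl, rfl⟩
      simpa using this.symm
    exact ⟨⟨m, hm⟩, hcon hc, rfl⟩
  have hL2 : ¬ 2 ∣ Nat.card L := by
    intro h
    have := Nat.Coprime.eq_one_of_dvd hLcop.symm h
    omega
  -- A is nontrivial
  have hAne : A ≠ ⊥ := by
    rintro rfl
    rw [Subgroup.coe_bot, Subgroup.centralizer_eq_top_iff_subset.mpr (by simp), inf_top_eq,
      Subgroup.relIndex_self, Subgroup.card_bot] at hsmall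
    omega
  -- A does not centralize L
  have hAL : ¬ (L ≤ Subgroup.centralizer (A : Set X)) := by
    intro h
    apply hAne
    have hAleL : A ≤ L := by
      intro a ha
      apply hcon' a (hAM ha)
      intro l hl
      exact (Subgroup.mem_centralizer_iff.mp (h hl) a ha)
    have hdvd : Nat.card A ∣ Nat.card L := Subgroup.card_dvd_of_le hAleL
    rw [hkA] at hdvd
    have hk0 : kA = 0 := by
      by_contra hk
      apply hL2
      exact dvd_trans (dvd_pow_self 2 hk) hdvd
    rw [hk0, pow_zero] at hkA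
    exact Subgroup.card_eq_one.mp hkA
  have hAnormL : A ≤ Subgroup.normalizer (L : Set X) := by
    intro a ha
    rw [Subgroup.mem_normalizer_iff]
    intro l
    constructor
    · intro hl; exact hLnorm a (hAM ha) l hl
    · intro hl
      have := hLnorm a⁻¹ (M.inv_mem (hAM ha)) _ hl
      simpa [mul_assoc] using this
  -- a hyperplane `B` with `C_L(B)` not centralized by `A`
  have hexB : ∃ B : Subgroup X, B ≤ A ∧ B.relIndex A ≤ 2 ∧
      ¬ (L ⊓ Subgroup.centralizer (B : Set X) ≤ L ⊓ Subgroup.centralizer (A : Set X)) := by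
    by_contra hno
    push_neg at hno
    have hkey := Cfsg.Agent.S1324.key 2 A L hA hL2 hAnormL (L ⊓ Subgroup.centralizer (A : Set X))
      hno kA ⊥ bot_le (by rw [Subgroup.relIndex_bot_left, hkA])
    apply hAL
    intro l hl
    have : l ∈ L ⊓ Subgroup.centralizer (((⊥ : Subgroup X) : Subgroup X) : Set X) := by
      refine Subgroup.mem_inf.mpr ⟨hl, Subgroup.mem_centralizer_iff.mpr ?_⟩
      intro z hz
      have hz1 : z = 1 := by simpa using hz
      rw [hz1, one_mul, mul_one]
    exact (hkey this).2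
  obtain ⟨B, hBA, hBidx, hBnot⟩ := hexB
  obtain ⟨x, hxLB, hxnot⟩ := SetLike.not_le_iff_exists.mp hBnot
  have hxL : x ∈ L := hxLB.1
  have hxB : ∀ q ∈ B, q * x = x * q := fun q hq => Subgroup.mem_centralizer_iff.mp hxLB.2 q hq
  have hxA : ∃ a ∈ A, a * x ≠ x * a := by
    by_contra hno
    push_neg at hno
    apply hxnot
    exact Subgroup.mem_inf.mpr ⟨hxL, Subgroup.mem_centralizer_iff.mpr hno⟩
  obtain ⟨a, haA, hax⟩ := hxA
  have hBne : B ≠ A := by
    rintro rfl
    exact hax (hxB a haA)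
  have hBlt : B < A := lt_of_le_of_ne hBA hBne
  have haM : a ∈ M := hAM haA
  have haa : a * a = 1 := hA2 a haA
  have hainv : a⁻¹ = a := inv_eq_of_mul_eq_one_right haa
  have haB : ∀ q ∈ B, q * a = a * q := fun q hq => hAcomm q (hBA hq) a haA
  -- the element `y = [x, a]`
  set y : X := x * a * x⁻¹ * a⁻¹ with hy
  have hyL : y ∈ L := by
    have h1 : a * x⁻¹ * a⁻¹ ∈ L := hLnorm a haM _ (L.inv_mem hxL)
    have e : y = x * (a * x⁻¹ * a⁻¹) := by rw [hy]; group
    rw [e]; exact L.mul_mem hxL h1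
  have hyM : y ∈ M := hLM hyL
  have hy1 : y ≠ 1 := by
    intro h
    apply hax
    have : x * a * x⁻¹ * a⁻¹ = 1 := h
    have h2 : x * a = a * x := by
      calc x * a = (x * a * x⁻¹ * a⁻¹) * a * x := by group
        _ = a * x := by rw [this, one_mul]
    exact h2.symm
  have hyB : ∀ q ∈ B, q * y = y * q := by
    intro q hq
    have h1 := hxB q hq
    have h2 := haB q hq
    have h3 : q * x⁻¹ = x⁻¹ * q := by
      calc q * x⁻¹ = x⁻¹ * (x * q) * x⁻¹ := by group
        _ = x⁻¹ * (q * x) * x⁻¹ := by rw [h1]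
        _ = x⁻¹ * q := by group
    have h4 : q * a⁻¹ = a⁻¹ * q := by rw [hainv]; exact h2
    calc q * y = q * x * a * x⁻¹ * a⁻¹ := by rw [hy]; group
      _ = x * q * a * x⁻¹ * a⁻¹ := by rw [h1]
      _ = x * (q * a) * x⁻¹ * a⁻¹ := by group
      _ = x * (a * q) * x⁻¹ * a⁻¹ := by rw [h2]
      _ = x * a * (q * x⁻¹) * a⁻¹ := by group
      _ = x * a * (x⁻¹ * q) * a⁻¹ := by rw [h3]
      _ = x * a * x⁻¹ * (q * a⁻¹) := by group
      _ = x * a * x⁻¹ * (a⁻¹ * q) := by rw [h4]
      _ = y * q := by rw [hy]; group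
  have hay : a * y * a⁻¹ = y⁻¹ := by
    rw [hy, hainv]
    have e : (x * a * x⁻¹ * a)⁻¹ = a⁻¹ * x * a⁻¹ * x⁻¹ := by group
    rw [e, hainv]
    calc a * (x * a * x⁻¹ * a) * a = a * x * a * x⁻¹ * (a * a) := by group
      _ = a * x * a * x⁻¹ := by rw [haa, mul_one]
  -- the order of `y` is odd
  set N := orderOf y with hN
  have hNodd : Odd N := by
    have hdvd : N ∣ Nat.card L := by
      have : orderOf (⟨y, hyL⟩ : ↥L) ∣ Nat.card L := orderOf_dvd_natCard _
      rwa [← Subgroup.orderOf_coe] at this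
    rw [← Nat.not_even_iff_odd]
    intro he
    exact hL2 (dvd_trans (even_iff_two_dvd.mp he) hdvd)
  have hyN : y ^ N = 1 := pow_orderOf_eq_one y
  -- the subgroup `U = C_V(B)` and `H = C_M(B)` which normalizes it
  set U : Subgroup X := V ⊓ Subgroup.centralizer (B : Set X) with hU
  have hUV : U ≤ V := inf_le_left
  have hconjU : ∀ g ∈ M, (∀ q ∈ B, q * g = g * q) → ∀ u ∈ U, g * u * g⁻¹ ∈ U := by
    intro g hgM hgB u hu
    refine Subgroup.mem_inf.mpr ⟨(Subgroup.mem_normalizer_iff.mp (hMV hgM) u).mp hu.1,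
      Subgroup.mem_centralizer_iff.mpr ?_⟩
    intro q hq
    have h1 := hgB q hq
    have h2 : q * u = u * q := Subgroup.mem_centralizer_iff.mp hu.2 q hq
    have h3 : q * g⁻¹ = g⁻¹ * q := by
      calc q * g⁻¹ = g⁻¹ * (g * q) * g⁻¹ := by group
        _ = g⁻¹ * (q * g) * g⁻¹ := by rw [h1]
        _ = g⁻¹ * q := by group
    calc q * (g * u * g⁻¹) = q * g * u * g⁻¹ := by group
      _ = g * (q * u) * g⁻¹ := by rw [h1]; group
      _ = g * u * (q * g⁻¹) := by rw [h2]; group
      _ = g * u * g⁻¹ * q := by rw [h3]; group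
  have hnormU : ∀ g ∈ M, (∀ q ∈ B, q * g = g * q) → g ∈ Subgroup.normalizer (U : Set X) := by
    intro g hgM hgB
    rw [Subgroup.mem_normalizer_iff]
    intro u
    constructor
    · intro hu; exact hconjU g hgM hgB u hu
    · intro hu
      have hgB' : ∀ q ∈ B, q * g⁻¹ = g⁻¹ * q := by
        intro q hq
        have h1 := hgB q hq
        calc q * g⁻¹ = g⁻¹ * (g * q) * g⁻¹ := by group
          _ = g⁻¹ * (q * g) * g⁻¹ := by rw [h1]
          _ = g⁻¹ * q := by group
      have := hconjU g⁻¹ (M.inv_mem hgM) hgB' _ hu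
      simpa [mul_assoc] using this
  have haU : a ∈ Subgroup.normalizer (U : Set X) := hnormU a haM haB
  have hyU : y ∈ Subgroup.normalizer (U : Set X) := hnormU y hyM hyB
  -- `y` does not centralize `U` (Thompson `A × B`)
  have hyUnot : y ∉ Subgroup.centralizer (U : Set X) := by
    intro hyc
    have hBp : IsPGroup 2 B := by
      intro q
      refine ⟨1, ?_⟩
      rw [pow_one]
      exact Subtype.ext (by simpa using hA.2 q.1 (hBA q.2))
    have hVp : IsPGroup 2 V := by
      intro q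
      refine ⟨1, ?_⟩
      rw [pow_one]
      exact Subtype.ext (by simpa using hV.2 q.1 q.2)
    have hQ : (Nat.card (Subgroup.zpowers y)).Coprime 2 := by
      rw [Nat.card_zpowers]
      exact hNodd.coprime_two_right
    have hPQ : B ≤ Subgroup.centralizer ((Subgroup.zpowers y : Subgroup X) : Set X) := by
      intro q hq
      rw [Subgroup.mem_centralizer_iff]
      intro z hz
      obtain ⟨k, rfl⟩ := Subgroup.mem_zpowers_iff.mp hz
      exact ((show Commute y q from (hyB q hq).symm).zpow_left k).eq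
    have hQV : Subgroup.zpowers y ≤ Subgroup.normalizer (V : Set X) := by
      rw [Subgroup.zpowers_le]; exact hMV hyM
    have hC : V ⊓ Subgroup.centralizer (B : Set X) ≤
        Subgroup.centralizer ((Subgroup.zpowers y : Subgroup X) : Set X) := by
      intro u hu
      rw [Subgroup.mem_centralizer_iff]
      intro z hz
      obtain ⟨k, rfl⟩ := Subgroup.mem_zpowers_iff.mp hz
      have h1 : y * u = u * y := (Subgroup.mem_centralizer_iff.mp hyc u hu).symm
      exact ((show Commute y u from h1).zpow_left k).eq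
    have hres := Cfsg.Agent.S0028.result 2 B (Subgroup.zpowers y) V hBp hQ hVp hPQ
      (hBA.trans (hAM.trans hMV)) hQV hC
    have hyCV : y ∈ Subgroup.centralizer (V : Set X) := hres (Subgroup.mem_zpowers y)
    have : y ∈ M ⊓ Subgroup.centralizer (V : Set X) := ⟨hyM, hyCV⟩
    rw [hfaith, Subgroup.mem_bot] at this
    exact hy1 this
  -- the second involution `b` and the product `a * b = y⁻²`
  set b : X := y * a * y⁻¹ with hb
  have hbb : b * b = 1 := by
    rw [hb]
    calc y * a * y⁻¹ * (y * a * y⁻¹) = y * (a * a) * y⁻¹ := by group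
      _ = 1 := by rw [haa]; group
  have hbM : b ∈ M := M.mul_mem (M.mul_mem hyM haM) (M.inv_mem hyM)
  have hbU : b ∈ Subgroup.normalizer (U : Set X) :=
    Subgroup.mul_mem _ (Subgroup.mul_mem _ hyU haU) (Subgroup.inv_mem _ hyU)
  have hab : a * b = y⁻¹ * y⁻¹ := by
    rw [hb]
    calc a * (y * a * y⁻¹) = (a * y * a⁻¹) * y⁻¹ := by rw [hainv]; group
      _ = y⁻¹ * y⁻¹ := by rw [hay]
  have hyinvpow : ∀ k : ℕ, (y⁻¹ * y⁻¹) ^ k = (y ^ (2 * k))⁻¹ := by
    intro k
    rw [← inv_pow, pow_mul, pow_two]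
  have hU2 : ∀ u ∈ U, u * u = 1 := fun u hu => hV2 u hu.1
  have hcU : ∀ u ∈ U, (a * b) * u * (a * b)⁻¹ ∈ U := by
    intro u hu
    have hn : a * b ∈ Subgroup.normalizer (U : Set X) := Subgroup.mul_mem _ haU hbU
    exact (Subgroup.mem_normalizer_iff.mp hn u).mp hu
  have hcN : (a * b) ^ N = 1 := by
    rw [hab, hyinvpow, mul_comm, pow_mul, hyN, one_pow, inv_one]
  -- index computations
  have hidxa : (U ⊓ Subgroup.centralizer ({a} : Set X)).relIndex U ≤ 2 := by
    have hle : V ⊓ Subgroup.centralizer (A : Set X) ≤ U ⊓ Subgroup.centralizer ({a} : Set X) := by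
      intro v hv
      refine Subgroup.mem_inf.mpr ⟨Subgroup.mem_inf.mpr ⟨hv.1, ?_⟩, ?_⟩
      · exact Subgroup.centralizer_le (by exact_mod_cast hBA) hv.2
      · exact Subgroup.centralizer_le (by simpa using haA) hv.2
    have hleU : V ⊓ Subgroup.centralizer (A : Set X) ≤ U := hle.trans inf_le_left
    have hr1pos : (V ⊓ Subgroup.centralizer (A : Set X)).relIndex U ≠ 0 := by
      intro h0
      have := Subgroup.relIndex_dvd_card (V ⊓ Subgroup.centralizer (A : Set X)) U
      rw [h0, zero_dvd_iff] at this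
      exact (Nat.card_pos (α := ↥U)).ne' this
    have hmono := Subgroup.relIndex_le_of_le_left (L := U) hle hr1pos
    have hmul := Subgroup.relIndex_mul_relIndex _ _ _ hleU hUV
    have hcard : Nat.card B * B.relIndex A = Nat.card A := by
      have := Subgroup.relIndex_mul_relIndex ⊥ B A bot_le hBA
      rwa [Subgroup.relIndex_bot_left, Subgroup.relIndex_bot_left] at this
    have hminB := hex B hBlt
    have hr1lt : (V ⊓ Subgroup.centralizer (A : Set X)).relIndex U < 4 := by
      by_contra hge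
      push_neg at hge
      rw [← hmul, ← hcard] at hsmall
      have hi2 : B.relIndex A ^ 2 ≤ 4 := by
        calc B.relIndex A ^ 2 ≤ 2 ^ 2 := Nat.pow_le_pow_left hBidx 2
          _ = 4 := by norm_num
      have h1 : (Nat.card B * B.relIndex A) ^ 2 ≤ U.relIndex V * 4 := by
        rw [mul_pow]
        exact Nat.mul_le_mul hminB hi2
      have h2 : U.relIndex V * 4 ≤
          (V ⊓ Subgroup.centralizer (A : Set X)).relIndex U * U.relIndex V := by
        rw [mul_comm]
        exact Nat.mul_le_mul_right _ hge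
      omega
    have hdvd : (V ⊓ Subgroup.centralizer (A : Set X)).relIndex U ∣ Nat.card U :=
      Subgroup.relIndex_dvd_card _ _
    have hUcard : Nat.card U ∣ 2 ^ kV := by rw [← hkV]; exact Subgroup.card_dvd_of_le hUV
    obtain ⟨t, -, ht⟩ := (Nat.dvd_prime_pow Nat.prime_two).mp (dvd_trans hdvd hUcard)
    have ht1 : t ≤ 1 := by
      by_contra h
      push_neg at h
      have : 2 ^ 2 ≤ 2 ^ t := Nat.pow_le_pow_right (by norm_num) h
      omega
    have : (V ⊓ Subgroup.centralizer (A : Set X)).relIndex U ≤ 2 := by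
      rw [ht]
      calc 2 ^ t ≤ 2 ^ 1 := Nat.pow_le_pow_right (by norm_num) ht1
        _ = 2 := by norm_num
    omega
  set W : Subgroup X := (U ⊓ Subgroup.centralizer ({a} : Set X)) ⊓
    (MulAut.conj y • (U ⊓ Subgroup.centralizer ({a} : Set X))) with hW
  have hWU : W ≤ U := inf_le_left.trans inf_le_left
  have hWidx : W.relIndex U ≤ 4 := by
    have h1 := Subgroup.relIndex_inf_le (H := U ⊓ Subgroup.centralizer ({a} : Set X))
      (K := MulAut.conj y • (U ⊓ Subgroup.centralizer ({a} : Set X))) (L := U)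
    have h2 : (MulAut.conj y • (U ⊓ Subgroup.centralizer ({a} : Set X))).relIndex U
        = (U ⊓ Subgroup.centralizer ({a} : Set X)).relIndex U := by
      have h := Subgroup.relIndex_pointwise_smul (MulAut.conj y)
        (U ⊓ Subgroup.centralizer ({a} : Set X)) U
      rw [Cfsg.Agent.Lib.Helper54.mem_normalizer_iff_conj_smul.mp hyU] at h
      exact h
    rw [h2] at h1
    calc W.relIndex U ≤ _ := h1
      _ ≤ 2 * 2 := Nat.mul_le_mul hidxa hidxa
      _ = 4 := by norm_num
  have hWc : ∀ w ∈ W, (a * b) * w = w * (a * b) := by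
    intro w hw
    have hwa : a * w = w * a :=
      Subgroup.mem_centralizer_iff.mp hw.1.2 a (Set.mem_singleton a)
    have hw2 : y⁻¹ * w * y ∈ U ⊓ Subgroup.centralizer ({a} : Set X) :=
      Cfsg.Agent.Lib.Helper54.mem_conj_smul_iff.mp hw.2
    have hwa2 : a * (y⁻¹ * w * y) = (y⁻¹ * w * y) * a :=
      Subgroup.mem_centralizer_iff.mp hw2.2 a (Set.mem_singleton a)
    have hwb : b * w = w * b := by
      rw [hb]
      calc y * a * y⁻¹ * w = y * (a * (y⁻¹ * w * y)) * y⁻¹ := by group
        _ = y * ((y⁻¹ * w * y) * a) * y⁻¹ := by rw [hwa2]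
        _ = w * (y * a * y⁻¹) := by group
    calc a * b * w = a * (b * w) := by group
      _ = a * (w * b) := by rw [hwb]
      _ = (a * w) * b := by group
      _ = (w * a) * b := by rw [hwa]
      _ = w * (a * b) := by group
  have hcube := cube_centralizes U W (a * b) hU2 hcU N hNodd hcN hWU hWc hWidx
  have h3 : (a * b) ^ 3 ∈ Subgroup.centralizer (U : Set X) := by
    rw [Subgroup.mem_centralizer_iff]
    intro u hu
    exact (hcube u hu).symm
  have h2 : (a * b) ^ 2 ∉ Subgroup.centralizer (U : Set X) := by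
    intro h
    apply hyUnot
    -- `y = (y^4)^((m+1)^2)` and `y^4 = ((a b)^2)⁻¹`
    obtain ⟨m, hm⟩ := hNodd
    have hy4 : y ^ 4 ∈ Subgroup.centralizer (U : Set X) := by
      have : (a * b) ^ 2 = (y ^ 4)⁻¹ := by rw [hab, hyinvpow]
      rw [this] at h
      simpa using Subgroup.inv_mem _ h
    have hyeq : y = (y ^ 4) ^ ((m + 1) * (m + 1)) := by
      rw [← pow_mul]
      have : 4 * ((m + 1) * (m + 1)) = N * (2 * m + 3) + 1 := by rw [hm]; ring
      rw [this, pow_add, pow_mul, hyN, one_pow, one_mul, pow_one]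
    rw [hyeq]
    exact Subgroup.pow_mem _ hy4 _
  exact involves_of_pair M U a b haM hbM haa hbb haU hbU h3 h2

end aux

/-- Let M and V be subgroups of a finite group with V an elementary abelian 2-group, M normalizing V and acting faithfully on it (M ∩ C(V) = 1), and C_M(O_{2'}(M)) ≤ O_{2'}(M). If some elementary abelian 2-subgroup A of M satisfies |V : C_V(A)| < |A|², then M has a section isomorphic to the symmetric group of degree 3. -/
theorem result {X : Type*} [Group X] [Finite X] (M V : Subgroup X) (hV : Cfsg.IsElementaryAbelian 2 V) (hMV : M ≤ Subgroup.normalizer (V : Set X)) (hfaith : M ⊓ Subgroup.centralizer (V : Set X) = ⊥) (hcon : Subgroup.centralizer (Cfsg.pPrimeCore 2 ↥M : Set ↥M) ≤ Cfsg.pPrimeCore 2 ↥M) (A : Subgroup X) (hAM : A ≤ M) (hA : Cfsg.IsElementaryAbelian 2 A) (hsmall : (V ⊓ Subgroup.centralizer (A : Set X)).relIndex V < Nat.card A ^ 2) : Cfsg.Involves (Equiv.Perm (Fin 3)) ↥M := by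
  exact main_aux M V hV hMV hfaith hcon (Nat.card A) A rfl hAM hA hsmall

end Cfsg.Agent.S3755
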