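import Cfsg.Statements.S3760
-- import your own Cfsg.Agent.* helpers here

set_option autoImplicit false
open Cfsg

namespace Cfsg.Agent.S3760

theorem map_conj_mul {G : Type*} [Group G] (K : Subgroup G) (g h : G) :
    K.map (MulAut.conj (g * h)).toMonoidHom =
      (K.map (MulAut.conj h).toMonoidHom).map (MulAut.conj g).toMonoidHom := by
  rw [Subgroup.map_map]
  congr 1
  ext y
  simp [MulAut.conj_apply, mul_assoc]

theorem map_conj_inv_cancel {G : Type*} [Group G] (K : Subgroup G) (g : G) :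
    (K.map (MulAut.conj g⁻¹).toMonoidHom).map (MulAut.conj g).toMonoidHom = K := by
  rw [← map_conj_mul]
  have : (MulAut.conj (g * g⁻¹)).toMonoidHom = MonoidHom.id G := by
    ext y; simp
  rw [this, Subgroup.map_id]

theorem mem_normalizer_of_map_eq {G : Type*} [Group G] (K : Subgroup G) (g : G)
    (h : K.map (MulAut.conj g).toMonoidHom = K) : g ∈ Subgroup.normalizer (K : Set G) :=
  Subgroup.mem_normalizer_iff_map_conj_eq.2 h

theorem map_eq_of_mem_normalizer {G : Type*} [Group G] (K : Subgroup G) (g : G)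
    (h : g ∈ Subgroup.normalizer (K : Set G)) : K.map (MulAut.conj g).toMonoidHom = K :=
  Subgroup.mem_normalizer_iff_map_conj_eq.1 h

theorem conj_mem_map {G : Type*} [Group G] (K : Subgroup G) (g k : G) (hk : k ∈ K) :
    g * k * g⁻¹ ∈ K.map (MulAut.conj g).toMonoidHom :=
  ⟨k, hk, by simp [MulAut.conj_apply]⟩

/-- Let the group G act transitively on a set X, let x ∈ X with stabilizer H = G_x, and let K ≤ H. Then N_G(K) acts transitively on the set of fixed points of K if and only if every G-conjugate of K contained in H is already an H-conjugate of K. -/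
theorem result {G : Type*} [Group G] {X : Type*} [MulAction G X] (htrans : ∀ a b : X, ∃ g : G, g • a = b) (x : X) (K : Subgroup G) (hK : K ≤ MulAction.stabilizer G x) : (∀ a b : X, (∀ k ∈ K, k • a = a) → (∀ k ∈ K, k • b = b) → ∃ g ∈ Subgroup.normalizer (K : Set G), g • a = b) ↔ ∀ g : G, K.map (MulAut.conj g).toMonoidHom ≤ MulAction.stabilizer G x → ∃ h ∈ MulAction.stabilizer G x, K.map (MulAut.conj g).toMonoidHom = K.map (MulAut.conj h).toMonoidHom := by
  constructor
  · intro hN g hg
    have hfix1 : ∀ k ∈ K, k • (g⁻¹ • x) = g⁻¹ • x := by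
      intro k hk
      have h1 : g * k * g⁻¹ ∈ MulAction.stabilizer G x := hg (conj_mem_map K g k hk)
      rw [MulAction.mem_stabilizer_iff] at h1
      have h2 : g⁻¹ • ((g * k * g⁻¹) • x) = g⁻¹ • x := by rw [h1]
      rw [← mul_smul] at h2
      rw [← mul_smul]
      have h3 : g⁻¹ * (g * k * g⁻¹) = k * g⁻¹ := by group
      rw [h3] at h2
      rw [h2]
    have hfix2 : ∀ k ∈ K, k • x = x := fun k hk => MulAction.mem_stabilizer_iff.1 (hK hk)
    obtain ⟨n, hn, hnx⟩ := hN (g⁻¹ • x) x hfix1 hfix2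
    have hn' : n⁻¹ • x = g⁻¹ • x := by
      rw [inv_smul_eq_iff]; exact hnx.symm
    refine ⟨g * n⁻¹, ?_, ?_⟩
    · rw [MulAction.mem_stabilizer_iff, mul_smul, hn']; simp
    · rw [map_conj_mul, map_eq_of_mem_normalizer K n⁻¹ (inv_mem hn)]
  · intro hF
    have key : ∀ a : X, (∀ k ∈ K, k • a = a) →
        ∃ n ∈ Subgroup.normalizer (K : Set G), n • x = a := by
      intro a ha
      obtain ⟨g, hg⟩ := htrans x a
      have hle : K.map (MulAut.conj g⁻¹).toMonoidHom ≤ MulAction.stabilizer G x := by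
        rintro y ⟨k, hk, rfl⟩
        rw [MulAction.mem_stabilizer_iff]
        simp only [MulEquiv.coe_toMonoidHom, MulAut.conj_apply, inv_inv, mul_smul]
        rw [hg, ha k hk, ← hg]; simp
      obtain ⟨h, hh, heq⟩ := hF g⁻¹ hle
      refine ⟨g * h, ?_, ?_⟩
      · apply mem_normalizer_of_map_eq
        rw [map_conj_mul, ← heq, map_conj_inv_cancel]
      · rw [mul_smul, MulAction.mem_stabilizer_iff.1 hh, hg]
    intro a b ha hb
    obtain ⟨na, hna, hnax⟩ := key a ha
    obtain ⟨nb, hnb, hnbx⟩ := key b hb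
    refine ⟨nb * na⁻¹, mul_mem hnb (inv_mem hna), ?_⟩
    rw [mul_smul, ← hnax]; simp [hnbx]

end Cfsg.Agent.S3760
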