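import Cfsg.Statements.S4416
import Cfsg.Agent.S0099

set_option autoImplicit false
open Cfsg

namespace Cfsg.Agent.S4416

open Cfsg.Agent.Lib.Helper2.CentralSplit Cfsg.Agent.S0099
open scoped commutatorElement

theorem sum_zmod_two (f : ZMod 2 → ℕ) : ∑ a : ZMod 2, f a = f 0 + f 1 := Fin.sum_univ_two f

theorem card_triple {C : Type*} [Finite C] (Q : ZMod 2 × ZMod 2 × C → Prop) :
    Nat.card {t // Q t} = Nat.card {c // Q (0, 0, c)} + Nat.card {c // Q (0, 1, c)} +
      (Nat.card {c // Q (1, 0, c)} + Nat.card {c // Q (1, 1, c)}) := by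
  have e1 : {t // Q t} ≃ Σ a : ZMod 2, {bc : ZMod 2 × C // Q (a, bc)} :=
    Equiv.subtypeProdEquivSigmaSubtype (fun a bc => Q (a, bc))
  have e2 : ∀ a : ZMod 2, {bc : ZMod 2 × C // Q (a, bc)} ≃ Σ b : ZMod 2, {c : C // Q (a, b, c)} :=
    fun a => Equiv.subtypeProdEquivSigmaSubtype (fun b c => Q (a, b, c))
  rw [Nat.card_congr e1, Nat.card_sigma, sum_zmod_two, Nat.card_congr (e2 0), Nat.card_congr (e2 1),
    Nat.card_sigma, Nat.card_sigma, sum_zmod_two, sum_zmod_two]

section Count
variable {E : Type*} [Group E] [Finite E] (hE : CClass 2 E) {x y z : E}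
  (hz : z ∈ Subgroup.center E) (hz1 : z ≠ 1) (hxy : ⁅x, y⁆ = z)
include hE hz hz1 hxy

/-- The number of elements squaring to one. -/
noncomputable def inv2 (E : Type*) [Group E] : ℕ := Nat.card {g : E // g ^ 2 = 1}

/-- The number of elements squaring to a given element. -/
noncomputable def sqTo {E : Type*} [Group E] (w : E) : ℕ := Nat.card {g : E // g ^ 2 = w}

theorem inv2_add_sqTo :
    inv2 (Subgroup.centralizer ({x, y} : Set E)) +
      sqTo (⟨z, center_le_C hz⟩ : Subgroup.centralizer ({x, y} : Set E)) =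
      Nat.card (Subgroup.centralizer ({x, y} : Set E)) := by
  classical
  have hC := cclass_C hE hz hz1 hxy
  have hζ := zeta_mem_center (x := x) (y := y) hz
  have hζ1 := zeta_ne_one (x := x) (y := y) hz hz1
  have e : {c : Subgroup.centralizer ({x, y} : Set E) // ¬ c ^ 2 = 1} ≃
      {c : Subgroup.centralizer ({x, y} : Set E) // c ^ 2 = ⟨z, center_le_C hz⟩} :=
    Equiv.subtypeEquivRight (fun c => by
      constructor
      · intro h
        rcases center_cases hC hζ hζ1 (pow_mem_center hC c) with h1 | h1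
        · exact absurd h1 h
        · exact h1
      · intro h h1
        exact hζ1 (h.symm.trans h1))
  unfold inv2 sqTo
  rw [← Nat.card_congr e, ← Nat.card_sum,
    Nat.card_congr (Equiv.sumCompl (fun c : Subgroup.centralizer ({x, y} : Set E) => c ^ 2 = 1))]

omit [Finite E] hE hz hz1 hxy in
theorem card_sq_one :
    Nat.card {c : Subgroup.centralizer ({x, y} : Set E) // (c : E) ^ 2 = 1} =
      inv2 (Subgroup.centralizer ({x, y} : Set E)) := by
  unfold inv2
  apply Nat.card_congr
  exact Equiv.subtypeEquivRight (fun c => by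
    rw [Subtype.ext_iff]; simp)

omit hz1 hxy in
theorem card_sq_z :
    Nat.card {c : Subgroup.centralizer ({x, y} : Set E) // z * (c : E) ^ 2 = 1} =
      sqTo (⟨z, center_le_C hz⟩ : Subgroup.centralizer ({x, y} : Set E)) := by
  unfold sqTo
  apply Nat.card_congr
  have hzz : z * z = 1 := by rw [← pow_two]; exact center_pow_eq_one hE hz
  exact Equiv.subtypeEquivRight (fun c => by
    rw [Subtype.ext_iff]
    simp only [Subgroup.coe_pow]
    constructor
    · intro h
      calc (c : E) ^ 2 = z * z * (c : E) ^ 2 := by rw [hzz, one_mul]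
        _ = z * (z * (c : E) ^ 2) := by group
        _ = z := by rw [h, mul_one]
    · intro h
      rw [h, hzz])

omit hz1 in
theorem nf_sq (c : Subgroup.centralizer ({x, y} : Set E)) :
    (nf (p := 2) x y (0, 0, c)) ^ 2 = (c : E) ^ 2 ∧
    (nf (p := 2) x y (0, 1, c)) ^ 2 = y ^ 2 * (c : E) ^ 2 ∧
    (nf (p := 2) x y (1, 0, c)) ^ 2 = x ^ 2 * (c : E) ^ 2 ∧
    (nf (p := 2) x y (1, 1, c)) ^ 2 = x ^ 2 * y ^ 2 * z * (c : E) ^ 2 := by
  have hcC := mem_C_iff.mp c.2
  have hcx : Commute x (c : E) := hcC.1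
  have hcy : Commute y (c : E) := hcC.2
  have hyx : ⁅y, x⁆ = z := by rw [← commutatorElement_inv, hxy, z_inv hE hz]
  have v1 : (1 : ZMod 2).val = 1 := ZMod.val_one 2
  refine ⟨?_, ?_, ?_, ?_⟩
  · simp [nf]
  · simp only [nf, ZMod.val_zero, v1, pow_zero, pow_one, one_mul]
    exact hcy.mul_pow 2
  · simp only [nf, ZMod.val_zero, v1, pow_zero, pow_one, mul_one]
    exact hcx.mul_pow 2
  · simp only [nf, v1, pow_one]
    rw [(hcx.mul_left hcy).mul_pow 2, sq_mul hE, hyx]

theorem inv2_eq_sum :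
    inv2 E =
      Nat.card {c : Subgroup.centralizer ({x, y} : Set E) // (c : E) ^ 2 = 1} +
      Nat.card {c : Subgroup.centralizer ({x, y} : Set E) // y ^ 2 * (c : E) ^ 2 = 1} +
      (Nat.card {c : Subgroup.centralizer ({x, y} : Set E) // x ^ 2 * (c : E) ^ 2 = 1} +
      Nat.card {c : Subgroup.centralizer ({x, y} : Set E) // x ^ 2 * y ^ 2 * z * (c : E) ^ 2 = 1}) := by
  let e := Equiv.ofBijective (nf (p := 2) x y)
    ⟨nf_injective hE hz hz1 hxy, nf_surjective hE hz hz1 hxy⟩
  have he : ∀ t, e t = nf x y t := fun t => rfl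
  have e' : {t : ZMod 2 × ZMod 2 × Subgroup.centralizer ({x, y} : Set E) // (nf x y t) ^ 2 = 1} ≃
      {g : E // g ^ 2 = 1} :=
    Equiv.subtypeEquiv e (fun t => by rw [he])
  unfold inv2
  rw [← Nat.card_congr e', card_triple]
  have h := nf_sq hE hz hxy
  simp only [h]

theorem count_D (hx : x ^ 2 = 1) (hy : y ^ 2 = 1) :
    inv2 E = 2 * inv2 (Subgroup.centralizer ({x, y} : Set E)) +
      Nat.card (Subgroup.centralizer ({x, y} : Set E)) := by
  have h := inv2_eq_sum hE hz hz1 hxy
  simp only [hx, hy, one_mul] at h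
  rw [card_sq_one, card_sq_z hE hz] at h
  have h2 := inv2_add_sqTo hE hz hz1 hxy
  omega

theorem count_Q (hx : x ^ 2 = z) (hy : y ^ 2 = z) :
    inv2 E + 2 * inv2 (Subgroup.centralizer ({x, y} : Set E)) =
      3 * Nat.card (Subgroup.centralizer ({x, y} : Set E)) := by
  have h := inv2_eq_sum hE hz hz1 hxy
  have hzz : z * z = 1 := by rw [← pow_two]; exact center_pow_eq_one hE hz
  simp only [hx, hy, hzz, one_mul] at h
  rw [card_sq_one, card_sq_z hE hz] at h
  have h2 := inv2_add_sqTo hE hz hz1 hxy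
  omega

end Count

section Main

theorem inv2_of_center_eq_top {E : Type*} [Group E] [Finite E] (hE : CClass 2 E)
    (htop : Subgroup.center E = ⊤) : inv2 E = Nat.card E := by
  unfold inv2
  apply Nat.card_congr
  apply Equiv.subtypeUnivEquiv
  intro g
  exact center_pow_eq_one hE (by rw [htop]; exact Subgroup.mem_top g)

theorem count_aux (n : ℕ) : ∀ (E : Type*) [Group E] [Finite E], CClass 2 E → Nat.card E = n →
    ∃ m : ℕ, Nat.card E = 2 * 4 ^ m ∧ (inv2 E = 4 ^ m + 2 ^ m ∨ inv2 E + 2 ^ m = 4 ^ m) := by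
  induction n using Nat.strong_induction_on with
  | _ n ih =>
  intro E _ _ hE hc
  by_cases htop : Subgroup.center E = ⊤
  · refine ⟨0, ?_, Or.inl ?_⟩
    · rw [card_of_center_eq_top hE htop]; norm_num
    · rw [inv2_of_center_eq_top hE htop, card_of_center_eq_top hE htop]; norm_num
  · obtain ⟨z, hz, hz1⟩ := exists_center_ne_one hE
    rcases hasPair_cases hE hz hz1 htop with ⟨x, y, hxy, hx, hy⟩ | ⟨x, y, hxy, hx, hy⟩
    · rw [pow_zero] at hx hy
      have hC := cclass_C hE hz hz1 hxy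
      have hcard := card_eq hE hz hz1 hxy
      have hpos : 0 < Nat.card (Subgroup.centralizer ({x, y} : Set E)) := Nat.card_pos
      obtain ⟨m, hm, hcount⟩ := ih (Nat.card (Subgroup.centralizer ({x, y} : Set E))) (by omega)
        (Subgroup.centralizer ({x, y} : Set E)) hC rfl
      have hD := count_D hE hz hz1 hxy hx hy
      refine ⟨m + 1, ?_, ?_⟩
      · rw [hcard, hm, pow_succ]; ring
      · rw [pow_succ, pow_succ]
        rcases hcount with h | h
        · left; omega
        · right; omega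
    · rw [pow_one] at hx hy
      have hC := cclass_C hE hz hz1 hxy
      have hcard := card_eq hE hz hz1 hxy
      have hpos : 0 < Nat.card (Subgroup.centralizer ({x, y} : Set E)) := Nat.card_pos
      obtain ⟨m, hm, hcount⟩ := ih (Nat.card (Subgroup.centralizer ({x, y} : Set E))) (by omega)
        (Subgroup.centralizer ({x, y} : Set E)) hC rfl
      have hQ := count_Q hE hz hz1 hxy hx hy
      refine ⟨m + 1, ?_, ?_⟩
      · rw [hcard, hm, pow_succ]; ring
      · rw [pow_succ, pow_succ]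
        rcases hcount with h | h
        · right; omega
        · left; omega

/-- The count of a group of order eight with a pair of type `k`. -/
theorem inv2_of_card_eight {F : Type*} [Group F] [Finite F] (hF : CClass 2 F) {w : F}
    (hw : w ∈ Subgroup.center F) (hw1 : w ≠ 1) (hF8 : Nat.card F = 8) :
    (HasPair w 0 → inv2 F = 6) ∧ (HasPair w 1 → inv2 F = 2) := by
  constructor
  · rintro ⟨x, y, hxy, hx, hy⟩
    rw [pow_zero] at hx hy
    have hC := cclass_C hF hw hw1 hxy
    have hcard := card_eq hF hw hw1 hxy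
    have hk : Nat.card (Subgroup.centralizer ({x, y} : Set F)) = 2 := by omega
    have hi := inv2_of_center_eq_top hC (center_eq_top_of_card hC hk)
    have hD := count_D hF hw hw1 hxy hx hy
    omega
  · rintro ⟨x, y, hxy, hx, hy⟩
    rw [pow_one] at hx hy
    have hC := cclass_C hF hw hw1 hxy
    have hcard := card_eq hF hw hw1 hxy
    have hk : Nat.card (Subgroup.centralizer ({x, y} : Set F)) = 2 := by omega
    have hi := inv2_of_center_eq_top hC (center_eq_top_of_card hC hk)
    have hQ := count_Q hF hw hw1 hxy hx hy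
    omega

theorem iso_aux (n : ℕ) : ∀ (E : Type*) (E' : Type*) [Group E] [Group E'] [Finite E] [Finite E'],
    CClass 2 E → CClass 2 E' → Nat.card E = n → Nat.card E' = n → inv2 E = inv2 E' →
    ∀ z : E, z ∈ Subgroup.center E → z ≠ 1 → ∀ z' : E', z' ∈ Subgroup.center E' → z' ≠ 1 →
    ∃ φ : E ≃* E', φ z = z' := by
  induction n using Nat.strong_induction_on with
  | _ n ih =>
  intro E E' _ _ _ _ h₁ h₂ hc₁ hc₂ hinv z₁ hz₁ hz₁1 z₂ hz₂ hz₂1
  by_cases htop : Subgroup.center E = ⊤
  · have hn : n = 2 := by rw [← hc₁]; exact card_of_center_eq_top h₁ htop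
    have htop₂ : Subgroup.center E' = ⊤ := center_eq_top_of_card h₂ (by rw [hc₂, hn])
    exact iso_abelian h₁ h₂ htop htop₂ hz₁ hz₁1 hz₂ hz₂1
  · have hn2 : n ≠ 2 := by
      intro h
      exact htop (center_eq_top_of_card h₁ (by rw [hc₁, h]))
    have htop₂ : Subgroup.center E' ≠ ⊤ := by
      intro h
      apply hn2
      rw [← hc₂]
      exact card_of_center_eq_top h₂ h
    by_cases h8 : n = 8
    · have e₁ : Nat.card E = 8 := by rw [hc₁, h8]
      have e₂ : Nat.card E' = 8 := by rw [hc₂, h8]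
      have k₁ := inv2_of_card_eight h₁ hz₁ hz₁1 e₁
      have k₂ := inv2_of_card_eight h₂ hz₂ hz₂1 e₂
      rcases hasPair_cases h₁ hz₁ hz₁1 htop with a₁ | a₁ <;>
        rcases hasPair_cases h₂ hz₂ hz₂1 htop₂ with a₂ | a₂
      · exact iso_of_card_eight h₁ h₂ hz₁ hz₁1 hz₂ hz₂1 e₁ e₂ _ a₁ a₂
      · have := k₁.1 a₁
        have := k₂.2 a₂
        omega
      · have := k₁.2 a₁
        have := k₂.1 a₂
        omega
      · exact iso_of_card_eight h₁ h₂ hz₁ hz₁1 hz₂ hz₂1 e₁ e₂ _ a₁ a₂
    · obtain ⟨x₁, y₁, hxy₁, hx₁, hy₁⟩ :=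
        hasPair_zero_of_ne_eight h₁ hz₁ hz₁1 htop (by rw [hc₁]; exact h8)
      obtain ⟨x₂, y₂, hxy₂, hx₂, hy₂⟩ :=
        hasPair_zero_of_ne_eight h₂ hz₂ hz₂1 htop₂ (by rw [hc₂]; exact h8)
      have hC₁ := cclass_C h₁ hz₁ hz₁1 hxy₁
      have hC₂ := cclass_C h₂ hz₂ hz₂1 hxy₂
      have hcard₁ := card_eq h₁ hz₁ hz₁1 hxy₁
      have hcard₂ := card_eq h₂ hz₂ hz₂1 hxy₂
      have hD₁ := count_D h₁ hz₁ hz₁1 hxy₁ (by rw [hx₁, pow_zero]) (by rw [hy₁, pow_zero])
      have hD₂ := count_D h₂ hz₂ hz₂1 hxy₂ (by rw [hx₂, pow_zero]) (by rw [hy₂, pow_zero])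
      have hpos : 0 < Nat.card (Subgroup.centralizer ({x₁, y₁} : Set E)) := Nat.card_pos
      have hlt : Nat.card (Subgroup.centralizer ({x₁, y₁} : Set E)) < n := by omega
      have hk₂ : Nat.card (Subgroup.centralizer ({x₂, y₂} : Set E')) =
          Nat.card (Subgroup.centralizer ({x₁, y₁} : Set E)) := by omega
      have hinvC : inv2 (Subgroup.centralizer ({x₁, y₁} : Set E)) =
          inv2 (Subgroup.centralizer ({x₂, y₂} : Set E')) := by omega
      obtain ⟨ψ, hψ⟩ := ih _ hlt (Subgroup.centralizer ({x₁, y₁} : Set E))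
        (Subgroup.centralizer ({x₂, y₂} : Set E')) hC₁ hC₂ rfl hk₂ hinvC
        ⟨z₁, center_le_C hz₁⟩ (zeta_mem_center hz₁) (zeta_ne_one hz₁ hz₁1)
        ⟨z₂, center_le_C hz₂⟩ (zeta_mem_center hz₂) (zeta_ne_one hz₂ hz₂1)
      exact iso_step h₁ h₂ hz₁ hz₁1 hxy₁ hz₂ hz₂1 hxy₂ 0 0 hx₁ hx₂ hy₁ hy₂ ψ hψ

end Main


/-- Classification of extraspecial 2-groups in intrinsic form. An extraspecial 2-group has order 2^(2m+1) for some m ≥ 1, and the number of its elements squaring to the identity is either 2^(2m) + 2^m or 2^(2m) − 2^m; two extraspecial 2-groups of the same order with the same number of such elements are isomorphic. (The two cases are the central products of m dihedral groups of order 8, and of m − 1 dihedral groups with one quaternion group.) -/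
theorem result (E : Type*) [Group E] [Finite E] (hE : Cfsg.IsExtraspecial 2 E) :
    (∃ m : ℕ, 1 ≤ m ∧ Nat.card E = 2 ^ (2 * m + 1) ∧
      (Nat.card {x : E // x ^ 2 = 1} = 2 ^ (2 * m) + 2 ^ m ∨ Nat.card {x : E // x ^ 2 = 1} = 2 ^ (2 * m) - 2 ^ m)) ∧
    ∀ (E' : Type*) [Group E'] [Finite E'], Cfsg.IsExtraspecial 2 E' → Nat.card E' = Nat.card E →
      Nat.card {x : E' // x ^ 2 = 1} = Nat.card {x : E // x ^ 2 = 1} → Nonempty (E ≃* E') := by
  have c := cclass_of hE
  have hne : Subgroup.center E ≠ ⊤ := by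
    intro h
    have h1 : commutator E = ⊥ := (commutator_eq_bot_iff_center_eq_top E).mpr h
    have h2 : Subgroup.center E = ⊥ := by rw [← hE.1.2.2, h1]
    have h3 := hE.2
    rw [h2, Subgroup.card_bot] at h3
    omega
  constructor
  · obtain ⟨m, hm, hcount⟩ := count_aux (Nat.card E) E c rfl
    have h4 : (4 : ℕ) ^ m = 2 ^ (2 * m) := by rw [pow_mul]; norm_num
    refine ⟨m, ?_, ?_, ?_⟩
    · by_contra h0
      have hm0 : m = 0 := by omega
      subst hm0
      apply hne
      apply center_eq_top_of_card c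
      rw [hm]; norm_num
    · rw [hm, pow_succ, ← h4]; ring
    · rw [← h4]
      have hdef : inv2 E = Nat.card {x : E // x ^ 2 = 1} := rfl
      rw [← hdef]
      rcases hcount with h | h
      · left; exact h
      · right; omega
  · intro E' _ _ hE' hcard hinv
    have c' := cclass_of hE'
    obtain ⟨z, hz, hz1⟩ := exists_center_ne_one c
    obtain ⟨z', hz', hz'1⟩ := exists_center_ne_one c'
    obtain ⟨φ, _⟩ := iso_aux (Nat.card E) E E' c c' rfl hcard hinv.symm z hz hz1 z' hz' hz'1
    exact ⟨φ⟩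

end Cfsg.Agent.S4416
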