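import Cfsg.Statements.S3763
import Cfsg.Agent.S4416

set_option autoImplicit false
open Cfsg

namespace Cfsg.Agent.S3763

open Cfsg.Agent.Lib.Helper2.CentralSplit Cfsg.Agent.S0099 Cfsg.Agent.S4416
open scoped commutatorElement

/-- Elementary abelian `2`-subgroups. -/
def EA {E : Type*} [Group E] (A : Subgroup E) : Prop := IsMulCommutative A ∧ ∀ a ∈ A, a ^ 2 = 1

section Split
variable {E : Type*} [Group E] [Finite E] (hE : CClass 2 E) {x y z : E}
  (hz : z ∈ Subgroup.center E) (hz1 : z ≠ 1) (hxy : ⁅x, y⁆ = z)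
include hE hz hz1 hxy

omit [Finite E] hz hz1 in
theorem comm_nf_x (a b : ZMod 2) (c : Subgroup.centralizer ({x, y} : Set E)) :
    ⁅nf (p := 2) x y (a, b, c), x⁆ = (z⁻¹) ^ b.val := by
  have hcC := mem_C_iff.mp c.2
  have h : commHom hE.comm x (x ^ a.val * y ^ b.val * (c : E)) = (z⁻¹) ^ b.val := by
    rw [map_mul, map_mul, map_pow, map_pow, commHom_apply, commHom_apply, commHom_apply,
      commutatorElement_self, one_pow, one_mul, ← commutatorElement_inv, hxy,
      comm_eq_one_of_commute hcC.1, mul_one]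
  exact h

theorem extend_EA (hx : x ^ 2 = 1) (B : Subgroup (Subgroup.centralizer ({x, y} : Set E)))
    (hB : EA B) : ∃ A : Subgroup E, EA A ∧ Nat.card A = 2 * Nat.card B := by
  have hxc : ∀ (i : ZMod 2) (c : Subgroup.centralizer ({x, y} : Set E)),
      Commute (x ^ i.val) (c : E) := fun i c => Commute.pow_left (mem_C_iff.mp c.2).1 _
  let A : Subgroup E :=
    { carrier := {e | ∃ i : ZMod 2, ∃ c : Subgroup.centralizer ({x, y} : Set E),
        c ∈ B ∧ e = x ^ i.val * (c : E)}
      mul_mem' := by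
        rintro _ _ ⟨i, c, hc, rfl⟩ ⟨i', c', hc', rfl⟩
        refine ⟨i + i', c * c', B.mul_mem hc hc', ?_⟩
        rw [zp_add hx, Subgroup.coe_mul]
        calc x ^ i.val * (c : E) * (x ^ i'.val * (c' : E))
            = x ^ i.val * ((c : E) * x ^ i'.val) * (c' : E) := by group
          _ = x ^ i.val * (x ^ i'.val * (c : E)) * (c' : E) := by rw [(hxc i' c).eq]
          _ = x ^ i.val * x ^ i'.val * ((c : E) * (c' : E)) := by group
      one_mem' := ⟨0, 1, B.one_mem, by simp⟩
      inv_mem' := by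
        rintro _ ⟨i, c, hc, rfl⟩
        refine ⟨-i, c⁻¹, B.inv_mem hc, ?_⟩
        have h1 : x ^ i.val * x ^ (-i).val = 1 := by
          rw [← zp_add hx, add_neg_cancel, ZMod.val_zero, pow_zero]
        have h2 : (x ^ i.val)⁻¹ = x ^ (-i).val := inv_eq_of_mul_eq_one_right h1
        rw [mul_inv_rev, h2, Subgroup.coe_inv, ((hxc (-i) c).inv_right).eq] }
  have hmem : ∀ e, e ∈ A ↔ ∃ i : ZMod 2, ∃ c : Subgroup.centralizer ({x, y} : Set E),
      c ∈ B ∧ e = x ^ i.val * (c : E) := fun e => Iff.rfl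
  refine ⟨A, ⟨⟨⟨?_⟩⟩, ?_⟩, ?_⟩
  · rintro ⟨_, i, c, hc, rfl⟩ ⟨_, i', c', hc', rfl⟩
    apply Subtype.ext
    have hcc : (c : E) * (c' : E) = (c' : E) * (c : E) := by
      have := hB.1.is_comm.comm ⟨c, hc⟩ ⟨c', hc'⟩
      have := congrArg (fun t : B => ((t : Subgroup.centralizer ({x, y} : Set E)) : E)) this
      simpa using this
    show x ^ i.val * (c : E) * (x ^ i'.val * (c' : E)) = x ^ i'.val * (c' : E) * (x ^ i.val * (c : E))
    calc x ^ i.val * (c : E) * (x ^ i'.val * (c' : E))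
        = x ^ i.val * ((c : E) * x ^ i'.val) * (c' : E) := by group
      _ = x ^ i.val * (x ^ i'.val * (c : E)) * (c' : E) := by rw [(hxc i' c).eq]
      _ = x ^ i.val * x ^ i'.val * ((c : E) * (c' : E)) := by group
      _ = x ^ i'.val * x ^ i.val * ((c' : E) * (c : E)) := by
          rw [hcc, ← zp_add hx, ← zp_add hx, add_comm]
      _ = x ^ i'.val * (x ^ i.val * (c' : E)) * (c : E) := by group
      _ = x ^ i'.val * ((c' : E) * x ^ i.val) * (c : E) := by rw [(hxc i c').eq]
      _ = x ^ i'.val * (c' : E) * (x ^ i.val * (c : E)) := by group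
  · rintro _ ⟨i, c, hc, rfl⟩
    rw [(hxc i c).mul_pow, ← pow_mul, mul_comm, pow_mul, hx, one_pow, one_mul]
    have := hB.2 c hc
    have := congrArg Subtype.val this
    simpa using this
  · have hbij : Function.Bijective (fun t : ZMod 2 × B =>
        (⟨x ^ t.1.val * ((t.2 : Subgroup.centralizer ({x, y} : Set E)) : E),
          (hmem _).mpr ⟨t.1, t.2, t.2.2, rfl⟩⟩ : A)) := by
      constructor
      · rintro ⟨i, c⟩ ⟨i', c'⟩ h
        have h' : x ^ i.val * ((c : Subgroup.centralizer ({x, y} : Set E)) : E) =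
            x ^ i'.val * ((c' : Subgroup.centralizer ({x, y} : Set E)) : E) :=
          congrArg Subtype.val h
        have h'' : nf (p := 2) x y (i, 0, (c : Subgroup.centralizer ({x, y} : Set E))) =
            nf (p := 2) x y (i', 0, (c' : Subgroup.centralizer ({x, y} : Set E))) := by
          simp only [nf, ZMod.val_zero, pow_zero, mul_one]
          exact h'
        have := nf_injective hE hz hz1 hxy h''
        simp only [Prod.mk.injEq, true_and] at this
        obtain ⟨h1, h2⟩ := this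
        rw [Prod.mk.injEq]
        exact ⟨h1, Subtype.ext h2⟩
      · rintro ⟨_, i, c, hc, rfl⟩
        exact ⟨(i, ⟨c, hc⟩), rfl⟩
    rw [← Nat.card_congr (Equiv.ofBijective _ hbij), Nat.card_prod, Nat.card_zmod]

theorem split_EA (A : Subgroup E) (hA : EA A) (hxA : x ∈ A) :
    ∃ B : Subgroup (Subgroup.centralizer ({x, y} : Set E)), EA B ∧ Nat.card A ≤ 2 * Nat.card B := by
  let B : Subgroup (Subgroup.centralizer ({x, y} : Set E)) :=
    A.comap (Subgroup.centralizer ({x, y} : Set E)).subtype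
  have hBmem : ∀ c : Subgroup.centralizer ({x, y} : Set E), c ∈ B ↔ (c : E) ∈ A := fun c => Iff.rfl
  have hcomm : ∀ a ∈ A, ∀ b ∈ A, a * b = b * a := by
    intro a ha b hb
    have := hA.1.is_comm.comm ⟨a, ha⟩ ⟨b, hb⟩
    exact congrArg Subtype.val this
  refine ⟨B, ⟨⟨⟨?_⟩⟩, ?_⟩, ?_⟩
  · rintro ⟨c, hc⟩ ⟨c', hc'⟩
    apply Subtype.ext
    apply Subtype.ext
    exact hcomm _ ((hBmem c).mp hc) _ ((hBmem c').mp hc')
  · intro c hc
    apply Subtype.ext
    have := hA.2 _ ((hBmem c).mp hc)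
    simpa using this
  · have hsurj : Function.Surjective (fun t : ZMod 2 × B =>
        (⟨x ^ t.1.val * ((t.2 : Subgroup.centralizer ({x, y} : Set E)) : E),
          A.mul_mem (A.pow_mem hxA _) ((hBmem _).mp t.2.2)⟩ : A)) := by
      rintro ⟨e, he⟩
      obtain ⟨⟨i, j, c⟩, hnf⟩ := nf_surjective hE hz hz1 hxy e
      have hex : ⁅e, x⁆ = 1 := by
        rw [commutatorElement_eq_one_iff_mul_comm]
        exact hcomm e he x hxA
      have hj : j = 0 := by
        have h1 := comm_nf_x hE hxy i j c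
        rw [hnf, hex] at h1
        have hzp : z ^ 2 = 1 := center_pow_eq_one hE hz
        have hz1' : z⁻¹ ≠ 1 := fun h => hz1 (inv_eq_one.mp h)
        have hzp' : z⁻¹ ^ 2 = 1 := by rw [inv_pow, hzp, inv_one]
        apply zp_inj hzp' hz1'
        rw [← h1, ZMod.val_zero, pow_zero]
      subst hj
      have he' : e = x ^ i.val * (c : E) := by
        rw [← hnf]; simp [nf]
      have hcA : (c : E) ∈ A := by
        have : (c : E) = (x ^ i.val)⁻¹ * e := by rw [he']; group
        rw [this]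
        exact A.mul_mem (A.inv_mem (A.pow_mem hxA _)) he
      refine ⟨(i, ⟨c, (hBmem c).mpr hcA⟩), ?_⟩
      apply Subtype.ext
      exact he'.symm
    have := Nat.card_le_card_of_surjective _ hsurj
    rwa [Nat.card_prod, Nat.card_zmod] at this

end Split

section Main

theorem exists_D_pair_of_mem {E : Type*} [Group E] [Finite E] (hE : CClass 2 E) {z : E}
    (hz : z ∈ Subgroup.center E) (hz1 : z ≠ 1) {a : E} (ha2 : a ^ 2 = 1)
    (hac : a ∉ Subgroup.center E) : ∃ y : E, ⁅a, y⁆ = z ∧ y ^ 2 = 1 := by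
  rw [Subgroup.mem_center_iff] at hac
  push Not at hac
  obtain ⟨y, hy⟩ := hac
  have hw1 : ⁅a, y⁆ ≠ 1 := by
    intro h
    rw [commutatorElement_eq_one_iff_mul_comm] at h
    exact hy h.symm
  have hay : ⁅a, y⁆ = z := by
    rcases center_cases hE hz hz1 (hE.comm a y) with h | h
    · exact absurd h hw1
    · exact h
  have hya : ⁅y, a⁆ = z := by rw [← commutatorElement_inv, hay, z_inv hE hz]
  have hzz : z * z = 1 := by rw [← pow_two]; exact center_pow_eq_one hE hz
  rcases center_cases hE hz hz1 (pow_mem_center hE y) with h | h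
  · exact ⟨y, hay, h⟩
  · refine ⟨a * y, ?_, ?_⟩
    · rw [comm_mul_right hE.comm, commutatorElement_self, one_mul, hay]
    · rw [sq_mul hE, ha2, h, hya, one_mul, hzz]

theorem upper_aux (n : ℕ) : ∀ (E : Type*) [Group E] [Finite E], CClass 2 E → Nat.card E = n →
    ∀ m : ℕ, Nat.card E = 2 * 4 ^ m → ∀ A : Subgroup E, EA A →
    Nat.card A ≤ 2 ^ (m + 1) ∧ (Nat.card A = 2 ^ (m + 1) → inv2 E = 4 ^ m + 2 ^ m) := by
  induction n using Nat.strong_induction_on with
  | _ n ih =>
  intro E _ _ hE hc m hm A hA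
  have h2m : 2 ≤ 2 ^ (m + 1) := by
    calc 2 = 2 ^ 1 := by norm_num
      _ ≤ 2 ^ (m + 1) := Nat.pow_le_pow_right (by norm_num) (by omega)
  by_cases hAZ : A ≤ Subgroup.center E
  · have hle : Nat.card A ≤ 2 := by
      have := Subgroup.card_le_of_le hAZ
      rwa [hE.cardZ] at this
    refine ⟨hle.trans h2m, ?_⟩
    intro hcard
    have hm0 : m = 0 := by
      by_contra h0
      have : 2 ^ 2 ≤ 2 ^ (m + 1) := Nat.pow_le_pow_right (by norm_num) (by omega)
      omega
    subst hm0
    have hE2 : Nat.card E = 2 := by rw [hm]; norm_num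
    rw [inv2_of_center_eq_top hE (center_eq_top_of_card hE hE2), hE2]
    norm_num
  · obtain ⟨a, haA, hac⟩ := SetLike.not_le_iff_exists.mp hAZ
    obtain ⟨z, hz, hz1⟩ := exists_center_ne_one hE
    have ha2 : a ^ 2 = 1 := hA.2 a haA
    obtain ⟨y, hay, hy2⟩ := exists_D_pair_of_mem hE hz hz1 ha2 hac
    have hC := cclass_C hE hz hz1 hay
    have hcard := card_eq hE hz hz1 hay
    have hD := count_D hE hz hz1 hay ha2 hy2
    obtain ⟨B, hB, hAB⟩ := split_EA hE hz hz1 hay A hA haA
    have hm0 : m ≠ 0 := by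
      intro h0
      subst h0
      have hE2 : Nat.card E = 2 := by rw [hm]; norm_num
      apply hac
      rw [center_eq_top_of_card hE hE2]
      exact Subgroup.mem_top a
    obtain ⟨m', rfl⟩ := Nat.exists_eq_succ_of_ne_zero hm0
    have hCcard : Nat.card (Subgroup.centralizer ({a, y} : Set E)) = 2 * 4 ^ m' := by
      rw [pow_succ] at hm
      omega
    have hpos : 0 < Nat.card (Subgroup.centralizer ({a, y} : Set E)) := Nat.card_pos
    obtain ⟨hB1, hB2⟩ := ih (Nat.card (Subgroup.centralizer ({a, y} : Set E))) (by omega)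
      (Subgroup.centralizer ({a, y} : Set E)) hC rfl m' hCcard B hB
    have e1 : 2 ^ (m' + 1 + 1) = 2 * 2 ^ (m' + 1) := by rw [pow_succ]; ring
    refine ⟨by rw [e1]; omega, ?_⟩
    intro hcardA
    have hBc : Nat.card B = 2 ^ (m' + 1) := by omega
    have := hB2 hBc
    rw [Nat.succ_eq_add_one, pow_succ 4 m', pow_succ 2 m']
    omega

theorem EA_bot {E : Type*} [Group E] : EA (⊥ : Subgroup E) := by
  refine ⟨⟨⟨?_⟩⟩, ?_⟩
  · rintro ⟨a, ha⟩ ⟨b, hb⟩
    apply Subtype.ext
    rw [Subgroup.mem_bot] at ha hb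
    subst ha hb
    rfl
  · intro a ha
    rw [Subgroup.mem_bot] at ha
    rw [ha, one_pow]

theorem EA_center {E : Type*} [Group E] [Finite E] (hE : CClass 2 E) : EA (Subgroup.center E) := by
  refine ⟨⟨⟨?_⟩⟩, ?_⟩
  · rintro ⟨a, ha⟩ ⟨b, hb⟩
    apply Subtype.ext
    show a * b = b * a
    exact Subgroup.mem_center_iff.mp hb a
  · intro a ha
    exact center_pow_eq_one hE ha

theorem lower_aux (n : ℕ) : ∀ (E : Type*) [Group E] [Finite E], CClass 2 E → Nat.card E = n →
    ∀ m : ℕ, Nat.card E = 2 * 4 ^ m →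
    (∃ A : Subgroup E, EA A ∧ Nat.card A = 2 ^ m) ∧
    (inv2 E = 4 ^ m + 2 ^ m → ∃ A : Subgroup E, EA A ∧ Nat.card A = 2 ^ (m + 1)) := by
  induction n using Nat.strong_induction_on with
  | _ n ih =>
  intro E _ _ hE hc m hm
  by_cases htop : Subgroup.center E = ⊤
  · have hE2 : Nat.card E = 2 := card_of_center_eq_top hE htop
    have hm0 : m = 0 := by
      by_contra h0
      obtain ⟨m', rfl⟩ := Nat.exists_eq_succ_of_ne_zero h0
      rw [hE2, pow_succ] at hm
      have : 0 < 4 ^ m' := by positivity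
      omega
    subst hm0
    refine ⟨⟨⊥, EA_bot, by rw [Subgroup.card_bot, pow_zero]⟩, fun _ => ?_⟩
    refine ⟨Subgroup.center E, EA_center hE, ?_⟩
    rw [hE.cardZ]; norm_num
  · obtain ⟨z, hz, hz1⟩ := exists_center_ne_one hE
    have hm0 : m ≠ 0 := by
      intro h0
      subst h0
      exact htop (center_eq_top_of_card hE (by rw [hm]; norm_num))
    obtain ⟨m', rfl⟩ := Nat.exists_eq_succ_of_ne_zero hm0
    -- the step from a pair of dihedral type
    have step : ∀ x y : E, ⁅x, y⁆ = z → x ^ 2 = 1 → y ^ 2 = 1 →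
        (∃ A : Subgroup E, EA A ∧ Nat.card A = 2 ^ (m' + 1)) ∧
        (inv2 E = 4 ^ (m' + 1) + 2 ^ (m' + 1) →
          ∃ A : Subgroup E, EA A ∧ Nat.card A = 2 ^ (m' + 1 + 1)) := by
      intro x y hxy hx hy
      have hC := cclass_C hE hz hz1 hxy
      have hcard := card_eq hE hz hz1 hxy
      have hD := count_D hE hz hz1 hxy hx hy
      have hCcard : Nat.card (Subgroup.centralizer ({x, y} : Set E)) = 2 * 4 ^ m' := by
        rw [Nat.succ_eq_add_one, pow_succ] at hm
        omega
      have hpos : 0 < Nat.card (Subgroup.centralizer ({x, y} : Set E)) := Nat.card_pos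
      obtain ⟨⟨B, hB, hBc⟩, h2⟩ := ih (Nat.card (Subgroup.centralizer ({x, y} : Set E)))
        (by omega) (Subgroup.centralizer ({x, y} : Set E)) hC rfl m' hCcard
      constructor
      · obtain ⟨A, hA, hAc⟩ := extend_EA hE hz hz1 hxy hx B hB
        exact ⟨A, hA, by rw [hAc, hBc, pow_succ]; ring⟩
      · intro hplus
        have hCplus : inv2 (Subgroup.centralizer ({x, y} : Set E)) = 4 ^ m' + 2 ^ m' := by
          rw [pow_succ 4 m', pow_succ 2 m'] at hplus
          omega
        obtain ⟨B', hB', hB'c⟩ := h2 hCplus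
        obtain ⟨A, hA, hAc⟩ := extend_EA hE hz hz1 hxy hx B' hB'
        exact ⟨A, hA, by rw [hAc, hB'c, pow_succ 2 (m' + 1)]; ring⟩
    by_cases h8 : Nat.card E = 8
    · have hm'0 : m' = 0 := by
        by_contra h0
        obtain ⟨m'', rfl⟩ := Nat.exists_eq_succ_of_ne_zero h0
        rw [h8, pow_succ, pow_succ] at hm
        have : 0 < 4 ^ m'' := by positivity
        omega
      subst hm'0
      refine ⟨⟨Subgroup.center E, EA_center hE, by rw [hE.cardZ]; norm_num⟩, ?_⟩
      intro hplus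
      rcases hasPair_cases hE hz hz1 htop with ⟨x, y, hxy, hx, hy⟩ | hQ
      · rw [pow_zero] at hx hy
        exact (step x y hxy hx hy).2 hplus
      · have := (inv2_of_card_eight hE hz hz1 h8).2 hQ
        rw [this] at hplus
        norm_num at hplus
    · obtain ⟨x, y, hxy, hx, hy⟩ := hasPair_zero_of_ne_eight hE hz hz1 htop h8
      rw [pow_zero] at hx hy
      exact step x y hxy hx hy

end Main

theorem rank_char {E : Type*} [Group E] [Finite E] (c : CClass 2 E)
    (hne : Subgroup.center E ≠ ⊤) (n : ℕ) (hn : Nat.card E = 2 ^ (2 * n + 1)) :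
    (inv2 E = 4 ^ n + 2 ^ n → Cfsg.PRankLE 2 (n + 1) E ∧ ¬ Cfsg.PRankLE 2 n E) ∧
    (inv2 E + 2 ^ n = 4 ^ n → Cfsg.PRankLE 2 n E ∧ ¬ Cfsg.PRankLE 2 (n - 1) E) ∧
    (inv2 E = 4 ^ n + 2 ^ n ∨ inv2 E + 2 ^ n = 4 ^ n) := by
  obtain ⟨m, hm, hcount⟩ := count_aux (Nat.card E) E c rfl
  have h4 : ∀ k : ℕ, 2 * 4 ^ k = 2 ^ (2 * k + 1) := by
    intro k
    rw [pow_succ, pow_mul]; norm_num; ring
  have hmn : m = n := by
    have h1 : 2 ^ (2 * m + 1) = 2 ^ (2 * n + 1) := by rw [← h4, ← hm, hn]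
    have := Nat.pow_right_injective (le_refl 2) h1
    omega
  subst hmn
  have hm0 : m ≠ 0 := by
    intro h0
    subst h0
    exact hne (center_eq_top_of_card c (by rw [hm]; norm_num))
  have hpos : 0 < 2 ^ m := by positivity
  refine ⟨?_, ?_, hcount⟩
  · intro hplus
    constructor
    · intro A hAc hAe
      exact (upper_aux (Nat.card E) E c rfl m hm A ⟨hAc, hAe⟩).1
    · intro hr
      obtain ⟨A, hA, hAc⟩ := (lower_aux (Nat.card E) E c rfl m hm).2 hplus
      have := hr A hA.1 hA.2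
      rw [hAc, pow_succ] at this
      omega
  · intro hminus
    constructor
    · intro A hAc hAe
      obtain ⟨hu1, hu2⟩ := upper_aux (Nat.card E) E c rfl m hm A ⟨hAc, hAe⟩
      have hlt : Nat.card A < 2 ^ (m + 1) := by
        rcases Nat.lt_or_eq_of_le hu1 with h | h
        · exact h
        · have := hu2 h
          omega
      have hdvd : Nat.card A ∣ 2 ^ (2 * m + 1) := by
        rw [← hn]; exact Subgroup.card_subgroup_dvd_card A
      obtain ⟨j, _, hj⟩ := (Nat.dvd_prime_pow Nat.prime_two).mp hdvd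
      rw [hj] at hlt ⊢
      have hjm : j < m + 1 := (Nat.pow_lt_pow_iff_right (by norm_num)).mp hlt
      exact Nat.pow_le_pow_right (by norm_num) (by omega)
    · intro hr
      obtain ⟨A, hA, hAc⟩ := (lower_aux (Nat.card E) E c rfl m hm).1
      have := hr A hA.1 hA.2
      rw [hAc] at this
      have hlt : 2 ^ (m - 1) < 2 ^ m := Nat.pow_lt_pow_right (by norm_num) (by omega)
      omega

theorem center_ne_top_of_extraspecial {E : Type*} [Group E] (hE : Cfsg.IsExtraspecial 2 E) :
    Subgroup.center E ≠ ⊤ := by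
  intro h
  have h1 : commutator E = ⊥ := (commutator_eq_bot_iff_center_eq_top E).mpr h
  have h2 : Subgroup.center E = ⊥ := by rw [← hE.1.2.2, h1]
  have h3 := hE.2
  rw [h2, Subgroup.card_bot] at h3
  omega


/-- Let E be an extraspecial 2-group of order 2^(2n+1). Then the largest elementary abelian subgroups of E have order 2^n or 2^(n+1); and two extraspecial 2-groups of the same order whose largest elementary abelian subgroups have the same order are isomorphic. -/
theorem result {E : Type*} [Group E] [Finite E] (hE : Cfsg.IsExtraspecial 2 E) (n : ℕ) (hn : Nat.card E = 2 ^ (2 * n + 1)) : ((Cfsg.PRankLE 2 n E ∧ ¬ Cfsg.PRankLE 2 (n - 1) E) ∨ (Cfsg.PRankLE 2 (n + 1) E ∧ ¬ Cfsg.PRankLE 2 n E)) ∧ ∀ (E' : Type*) [Group E'] [Finite E'], Cfsg.IsExtraspecial 2 E' → Nat.card E' = Nat.card E → (∀ k : ℕ, Cfsg.PRankLE 2 k E ↔ Cfsg.PRankLE 2 k E') → Nonempty (E ≃* E') := by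
  have c := cclass_of hE
  have hne := center_ne_top_of_extraspecial hE
  obtain ⟨h1, h2, h3⟩ := rank_char c hne n hn
  constructor
  · rcases h3 with hp | hm
    · exact Or.inr (h1 hp)
    · exact Or.inl (h2 hm)
  · intro E' _ _ hE' hcard hrank
    have c' := cclass_of hE'
    have hne' := center_ne_top_of_extraspecial hE'
    obtain ⟨h1', h2', h3'⟩ := rank_char c' hne' n (hcard.trans hn)
    have hinv : inv2 E = inv2 E' := by
      rcases h3 with hp | hm <;> rcases h3' with hp' | hm'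
      · rw [hp, hp']
      · exact absurd ((hrank n).mpr (h2' hm').1) (h1 hp).2
      · exact absurd ((hrank n).mp (h2 hm).1) (h1' hp').2
      · omega
    obtain ⟨z, hz, hz1⟩ := exists_center_ne_one c
    obtain ⟨z', hz', hz'1⟩ := exists_center_ne_one c'
    obtain ⟨φ, _⟩ := iso_aux (Nat.card E) E E' c c' rfl hcard hinv z hz hz1 z' hz' hz'1
    exact ⟨φ⟩

end Cfsg.Agent.S3763
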