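import Cfsg.Statements.S3764
import Cfsg.Agent.Lib.Helper2.ShultSub

set_option autoImplicit false
open Cfsg

namespace Cfsg.Agent.S3764

open Cfsg.Agent.Lib.Helper2.ShultGroup Cfsg.Agent.Lib.Helper2.ShultSub
open scoped commutatorElement IsMulCommutative

/-- The kernel of the conjugation action is the centralizer. -/
theorem conjOn_eq_one_iff {G : Type*} [Group G] (A B : Subgroup G)
    (hAB : A ≤ Subgroup.normalizer (B : Set G)) (a : ↥A) :
    conjOn A B hAB a = 1 ↔ (a : G) ∈ Subgroup.centralizer (B : Set G) := by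
  rw [Subgroup.mem_centralizer_iff]
  constructor
  · intro h b hb
    have := congrArg (fun f : MulAut ↥B => ((f ⟨b, hb⟩ : ↥B) : G)) h
    have h1 : (a : G) * b * (a : G)⁻¹ = b := this
    calc b * (a : G) = ((a : G) * b * (a : G)⁻¹) * a := by rw [h1]
      _ = a * b := by group
  · intro h
    ext b
    show (a : G) * b * (a : G)⁻¹ = b
    rw [← h b b.2]
    group

/-- Let p, q, r be distinct primes and let X, Q, V be subgroups of a finite group with X of order r, Q an extraspecial q-group normalized by X with C_Q(X) = Z(Q), and V an elementary abelian p-group normalized by X and Q on which XQ acts faithfully ((X ⊔ Q) ∩ C(V) = 1). If C_V(X) = 1, then q = 2, r = 2^n + 1 for some n, and Q has order 2^(2n+1). -/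
theorem result {G : Type*} [Group G] [Finite G] {p q r : ℕ} (hp : p.Prime) (hq : q.Prime) (hr : r.Prime) (hpq : p ≠ q) (hpr : p ≠ r) (hqr : q ≠ r) (X Q V : Subgroup G) (hX : Nat.card X = r) (hQ : Cfsg.IsExtraspecial q ↥Q) (hXQ : X ≤ Subgroup.normalizer (Q : Set G)) (hCQ : Q ⊓ Subgroup.centralizer (X : Set G) = (Subgroup.center ↥Q).map Q.subtype) (hV : Cfsg.IsElementaryAbelian p V) (hXV : X ≤ Subgroup.normalizer (V : Set G)) (hQV : Q ≤ Subgroup.normalizer (V : Set G)) (hfaith : (X ⊔ Q) ⊓ Subgroup.centralizer (V : Set G) = ⊥) (hCV : V ⊓ Subgroup.centralizer (X : Set G) = ⊥) : q = 2 ∧ ∃ n : ℕ, r = 2 ^ n + 1 ∧ Nat.card Q = 2 ^ (2 * n + 1) := by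
  classical
  have hpF : Fact p.Prime := ⟨hp⟩
  have hqF : Fact q.Prime := ⟨hq⟩
  have hrF : Fact r.Prime := ⟨hr⟩
  obtain ⟨⟨hQp, -, hcomm⟩, hZcard⟩ := hQ
  have hnil : Group.IsNilpotent ↥Q := hQp.isNilpotent
  obtain ⟨a, ha⟩ := IsPGroup.iff_card.mp hQp
  have hpP : ¬ p ∣ Nat.card ↥Q := by
    rw [ha]
    intro h
    exact hpq ((Nat.prime_dvd_prime_iff_eq hp hq).mp (hp.dvd_of_dvd_pow h))
  have hcop : (Nat.card ↥Q).Coprime (Nat.card ↥X) := by
    rw [ha, hX]
    exact Nat.Coprime.pow_left a ((Nat.coprime_primes hq hr).mpr hqr)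
  have hVc : IsMulCommutative ↥V := hV.1
  have hVp : ∀ v : ↥V, v ^ p = 1 := fun v => Subtype.ext (hV.2 v v.2)
  -- membership in the centre
  have hZmem : ∀ g : ↥Q, g ∈ Subgroup.center ↥Q ↔
      (g : G) ∈ Subgroup.centralizer (X : Set G) := by
    intro g
    constructor
    · intro hg
      have : (g : G) ∈ (Subgroup.center ↥Q).map Q.subtype := ⟨g, hg, rfl⟩
      rw [← hCQ] at this
      exact (Subgroup.mem_inf.mp this).2
    · intro hg
      have : (g : G) ∈ Q ⊓ Subgroup.centralizer (X : Set G) := Subgroup.mem_inf.mpr ⟨g.2, hg⟩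
      rw [hCQ] at this
      obtain ⟨g', hg', hgg'⟩ := this
      have : g' = g := Subtype.ext hgg'
      exact this ▸ hg'
  let φ := conjOn X Q hXQ
  have hφfix : ∀ (h : ↥X) (g : ↥Q), (g : G) ∈ Subgroup.centralizer (X : Set G) → φ h g = g := by
    intro h g hg
    apply Subtype.ext
    show (h : G) * g * (h : G)⁻¹ = g
    rw [Subgroup.mem_centralizer_iff] at hg
    rw [hg h h.2]
    group
  have h1 : ∀ a b : ↥Q, ⁅a, b⁆ ∈ Subgroup.center ↥Q := by
    intro a b
    rw [← hcomm, commutator_def]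
    exact Subgroup.commutator_mem_commutator (Subgroup.mem_top a) (Subgroup.mem_top b)
  have h2 : ∀ h, ∀ z ∈ Subgroup.center ↥Q, φ h z = z := fun h z hz =>
    hφfix h z ((hZmem z).mp hz)
  have h3 : ∀ h, h ≠ 1 → ∀ g, g⁻¹ * φ h g ∈ Subgroup.center ↥Q → g ∈ Subgroup.center ↥Q := by
    intro h hh g hg
    have hfix : φ h g = g :=
      Cfsg.Agent.Lib.Helper2.Critical.eq_of_fixed_comm φ hcop h g (h2 h _ hg)
    have hall : ∀ h' : ↥X, φ h' g = g :=
      Cfsg.Agent.Lib.Helper2.Critical.fixed_of_ne_one φ hX h hh g hfix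
    rw [hZmem, Subgroup.mem_centralizer_iff]
    intro x hx
    have := congrArg Subtype.val (hall ⟨x, hx⟩)
    have h4 : x * (g : G) * x⁻¹ = g := this
    calc x * (g : G) = (x * (g : G) * x⁻¹) * x := by group
      _ = g * x := by rw [h4]
  -- a generator of the centre
  have hqdvd : q ∣ Nat.card ↥(Subgroup.center ↥Q) := by rw [hZcard]
  obtain ⟨c, hc⟩ := exists_prime_orderOf_dvd_card' q hqdvd
  have hco : (orderOf ((c : ↥Q))).Prime := by
    rw [Subgroup.orderOf_coe, hc]; exact hq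
  have hc1 : c ≠ 1 := by
    intro h
    rw [h, orderOf_one] at hc
    exact hq.ne_one hc.symm
  have hcP : (c : ↥Q) ∈ commutator ↥Q := by rw [hcomm]; exact c.2
  have hgen : ∀ z ∈ Subgroup.center ↥Q, z ∈ Subgroup.zpowers (c : ↥Q) := by
    intro z hz
    have := mem_zpowers_of_prime_card (G := ↥(Subgroup.center ↥Q)) hZcard hc1
      (g' := ⟨z, hz⟩)
    obtain ⟨k, hk⟩ := Subgroup.mem_zpowers_iff.mp this
    refine Subgroup.mem_zpowers_iff.mpr ⟨k, ?_⟩
    have := congrArg Subtype.val hk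
    simpa using this
  have hcact : ∃ v, conjOn Q V hQV (c : ↥Q) v ≠ v := by
    by_contra hno
    push Not at hno
    have hone : conjOn Q V hQV (c : ↥Q) = 1 := by
      ext v
      exact congrArg Subtype.val (hno v)
    rw [conjOn_eq_one_iff] at hone
    have hmem : ((c : ↥Q) : G) ∈ (X ⊔ Q) ⊓ Subgroup.centralizer (V : Set G) :=
      Subgroup.mem_inf.mpr ⟨(le_sup_right : Q ≤ X ⊔ Q) (c : ↥Q).2, hone⟩
    rw [hfaith, Subgroup.mem_bot] at hmem
    apply hc1
    apply Subtype.ext
    apply Subtype.ext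
    exact hmem
  obtain ⟨N, hNn, hZN, hNc, u, hu2, hur, hcard⟩ :=
    class_two_group (P := ↥Q) (H := ↥X) (V := ↥V) hVp hX hpP hpr φ (conjOn Q V hQV)
      (conjOn X V hXV)
      (fun h g v => Subtype.ext (by
        show (h : G) * ((g : G) * v * (g : G)⁻¹) * (h : G)⁻¹ =
          ((h : G) * g * (h : G)⁻¹) * ((h : G) * v * (h : G)⁻¹) * ((h : G) * g * (h : G)⁻¹)⁻¹
        group))
      h1 h2 h3 (c : ↥Q) hcP hco hcact
      (fun v hv => by
        have hmem : (v : G) ∈ V ⊓ Subgroup.centralizer (X : Set G) := by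
          refine Subgroup.mem_inf.mpr ⟨v.2, ?_⟩
          rw [Subgroup.mem_centralizer_iff]
          intro x hx
          have := congrArg Subtype.val (hv ⟨x, hx⟩)
          have h1 : x * (v : G) * x⁻¹ = v := this
          calc x * (v : G) = (x * (v : G) * x⁻¹) * x := by group
            _ = v * x := by rw [h1]
        rw [hCV, Subgroup.mem_bot] at hmem
        exact Subtype.ext hmem)
  -- `N` is the centre
  have hNZ : N = Subgroup.center ↥Q := by
    apply le_antisymm _ hZN
    intro n hn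
    rw [Subgroup.mem_center_iff]
    intro g
    have := hNc n hn g (hgen _ (h1 n g))
    rw [commutatorElement_eq_one_iff_mul_comm] at this
    exact this.symm
  rw [hNZ, hZcard, ha] at hcard
  have hdvd : u ∣ q ^ a := by
    rw [← hcard]
    exact Dvd.dvd.mul_left (dvd_pow_self u two_ne_zero) _
  obtain ⟨hq2, n, hn⟩ := Cfsg.Agent.Lib.Helper2.ShultG.arith hq hr hu2 hur hdvd
  refine ⟨hq2, n, by rw [← hur, hn], ?_⟩
  rw [ha, ← hcard, hq2, hn, ← pow_mul, pow_succ, mul_comm n 2, mul_comm]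

end Cfsg.Agent.S3764
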