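import Cfsg.Statements.S3765
import Cfsg.Agent.Lib.Helper2.ShultSub

set_option autoImplicit false
open Cfsg

namespace Cfsg.Agent.S3765

/-- Let p, q, r be distinct primes and let X, Q, V be subgroups of a finite group with X of order r normalizing the q-group Q and acting faithfully on it (X ∩ C(Q) = 1), and V a nontrivial elementary abelian p-group normalized by X and Q on which XQ acts faithfully. If q = 2 and r has the form 2^n + 1, assume in addition that Q is abelian. Then C_V(X) ≠ 1. -/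
theorem result {G : Type*} [Group G] [Finite G] {p q r : ℕ} (hp : p.Prime) (hq : q.Prime) (hr : r.Prime) (hpq : p ≠ q) (hpr : p ≠ r) (hqr : q ≠ r) (X Q V : Subgroup G) (hX : Nat.card X = r) (hQ : IsPGroup q Q) (hXQ : X ≤ Subgroup.normalizer (Q : Set G)) (hXfaith : X ⊓ Subgroup.centralizer (Q : Set G) = ⊥) (hV : Cfsg.IsElementaryAbelian p V) (hV1 : V ≠ ⊥) (hXV : X ≤ Subgroup.normalizer (V : Set G)) (hQV : Q ≤ Subgroup.normalizer (V : Set G)) (hfaith : (X ⊔ Q) ⊓ Subgroup.centralizer (V : Set G) = ⊥) (hexc : q = 2 → (∃ n : ℕ, r = 2 ^ n + 1) → IsMulCommutative Q) : V ⊓ Subgroup.centralizer (X : Set G) ≠ ⊥ := by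
  intro hbot
  rcases Cfsg.Agent.Lib.Helper2.ShultSub.main_sub hp hq hr hpq hpr hqr X Q V hX hQ hXQ hV hXV hQV
    hbot with h | ⟨h2, hn, a, ha, b, hb, hab⟩
  · -- `X` centralizes `Q`
    have hXC : X ≤ Subgroup.centralizer (Q : Set G) := by
      intro x hx
      rw [Subgroup.mem_centralizer_iff]
      intro g hg
      have hmem : g⁻¹ * (x * g * x⁻¹) ∈ (X ⊔ Q) ⊓ Subgroup.centralizer (V : Set G) := by
        refine Subgroup.mem_inf.mpr ⟨?_, h x hx g hg⟩
        apply (le_sup_right : Q ≤ X ⊔ Q)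
        exact Q.mul_mem (Q.inv_mem hg) ((Subgroup.mem_normalizer_iff.mp (hXQ hx) g).mp hg)
      rw [hfaith, Subgroup.mem_bot] at hmem
      calc g * x = g * (g⁻¹ * (x * g * x⁻¹)) * x := by rw [hmem, mul_one]
        _ = x * g := by group
    have hXbot : X = ⊥ := by
      rw [eq_bot_iff, ← hXfaith]
      exact le_inf le_rfl hXC
    rw [hXbot, Subgroup.card_bot] at hX
    exact hr.ne_one hX.symm
  · have hcomm : IsMulCommutative ↥Q := hexc h2 hn
    apply hab
    have := mul_comm' (⟨a, ha⟩ : ↥Q) ⟨b, hb⟩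
    exact congrArg Subtype.val this

end Cfsg.Agent.S3765
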