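-- S3768 (helper63): quotients of Frobenius groups, using Frobenius' theorem S0035 (helper74).
import Cfsg.Statements.S3768
import Cfsg.Agent.S0035

set_option autoImplicit false
open Cfsg
open scoped Pointwise

namespace Cfsg.Agent.S3768

variable {G : Type*} [Group G]

theorem mem_conj_smul_iff (g x : G) (H : Subgroup G) :
    x ∈ MulAut.conj g • H ↔ g⁻¹ * x * g ∈ H := by
  rw [Subgroup.mem_pointwise_smul_iff_inv_smul_mem]
  simp [MulAut.smul_def]

/-- A nontrivial element of the complement has trivial centralizer in the kernel. -/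
theorem cent_trivial {R K : Subgroup G} (hR : Cfsg.IsFrobeniusComplement R)
    (hdisj : K ⊓ R = ⊥) {r c : G} (hr : r ∈ R) (hr1 : r ≠ 1) (hc : c ∈ K)
    (hcr : c⁻¹ * r * c = r) : c = 1 := by
  by_contra hc1
  have hcR : c ∉ R := by
    intro hcR
    have : c ∈ K ⊓ R := ⟨hc, hcR⟩
    rw [hdisj] at this
    exact hc1 (Subgroup.mem_bot.1 this)
  have h := hR.2.2 c hcR
  have hmem : r ∈ R ⊓ (MulAut.conj c • R) := by
    refine Subgroup.mem_inf.2 ⟨hr, ?_⟩
    rw [mem_conj_smul_iff, hcr]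
    exact hr
  rw [h] at hmem
  exact hr1 (Subgroup.mem_bot.1 hmem)

theorem phi_inj {R K : Subgroup G} (hR : Cfsg.IsFrobeniusComplement R)
    (hdisj : K ⊓ R = ⊥) {r k₁ k₂ : G} (hr : r ∈ R) (hr1 : r ≠ 1) (hk₁ : k₁ ∈ K) (hk₂ : k₂ ∈ K)
    (h : k₁⁻¹ * r * k₁ = k₂⁻¹ * r * k₂) : k₁ = k₂ := by
  have hc : k₁ * k₂⁻¹ ∈ K := K.mul_mem hk₁ (K.inv_mem hk₂)
  have hcr : (k₁ * k₂⁻¹)⁻¹ * r * (k₁ * k₂⁻¹) = r := by
    have : (k₁ * k₂⁻¹)⁻¹ * r * (k₁ * k₂⁻¹) = k₂ * (k₁⁻¹ * r * k₁) * k₂⁻¹ := by group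
    rw [this, h]; group
  have := cent_trivial hR hdisj hr hr1 hc hcr
  exact mul_inv_eq_one.1 this

theorem phi_surj [Finite G] {R K : Subgroup G} (hR : Cfsg.IsFrobeniusComplement R) [hK : K.Normal]
    (hdisj : K ⊓ R = ⊥) {r : G} (hr : r ∈ R) (hr1 : r ≠ 1) (k : G) (hk : k ∈ K) :
    ∃ k' ∈ K, k'⁻¹ * r * k' * r⁻¹ = k := by
  have hmem : ∀ x : K, (x : G)⁻¹ * r * x * r⁻¹ ∈ K := by
    intro x
    have h1 : r * (x : G) * r⁻¹ ∈ K := hK.conj_mem _ x.2 r
    have h2 : (x : G)⁻¹ * r * x * r⁻¹ = (x : G)⁻¹ * (r * x * r⁻¹) := by group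
    rw [h2]
    exact K.mul_mem (K.inv_mem x.2) h1
  let φ : K → K := fun x => ⟨(x : G)⁻¹ * r * x * r⁻¹, hmem x⟩
  have hinj : Function.Injective φ := by
    intro x y hxy
    have h1 : (x : G)⁻¹ * r * x * r⁻¹ = (y : G)⁻¹ * r * y * r⁻¹ := congrArg Subtype.val hxy
    have h2 : (x : G)⁻¹ * r * x = (y : G)⁻¹ * r * y := mul_right_cancel h1
    exact Subtype.ext (phi_inj hR hdisj hr hr1 x.2 y.2 h2)
  obtain ⟨x, hx⟩ := (Finite.injective_iff_surjective.1 hinj) ⟨k, hk⟩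
  exact ⟨x, x.2, congrArg Subtype.val hx⟩

/-- A normal subgroup not contained in the kernel contains the kernel. -/
theorem kernel_le_of_not_le [Finite G] {R K N : Subgroup G} (hR : Cfsg.IsFrobeniusComplement R)
    [hK : K.Normal] [hN : N.Normal] (hdisj : K ⊓ R = ⊥)
    (hKk : (K : Set G) = Cfsg.frobeniusKernel R) {n : G} (hn : n ∈ N) (hnK : n ∉ K) :
    K ≤ N := by
  have hn' : n ∉ Cfsg.frobeniusKernel R := by
    rw [← hKk]; exact hnK
  have hn1 : n ≠ 1 := fun h => hn' (Or.inl h)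
  have hex : ∃ g : G, n ∈ MulAut.conj g • R := by
    by_contra hcon
    push Not at hcon
    exact hn' (Or.inr hcon)
  obtain ⟨g, hg⟩ := hex
  rw [mem_conj_smul_iff] at hg
  have hrN : g⁻¹ * n * g ∈ N := by
    have := hN.conj_mem n hn g⁻¹
    simpa using this
  have hr1 : g⁻¹ * n * g ≠ 1 := by
    intro h
    apply hn1
    have : n = g * (g⁻¹ * n * g) * g⁻¹ := by group
    rw [this, h]; group
  intro k hk
  obtain ⟨k', hk', hkk⟩ := phi_surj hR hdisj hg hr1 k hk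
  rw [← hkk]
  have h1 : k'⁻¹ * (g⁻¹ * n * g) * k' ∈ N := by
    have := hN.conj_mem _ hrN k'⁻¹
    simpa using this
  exact N.mul_mem h1 (N.inv_mem hrN)

/-- The key lemma: fixed-point-freeness passes to the quotient of the kernel. -/
theorem key [Finite G] {R K N : Subgroup G} (hR : Cfsg.IsFrobeniusComplement R)
    [hN : N.Normal] (hdisj : K ⊓ R = ⊥) (hNK : N ≤ K) {r k : G} (hr : r ∈ R) (hr1 : r ≠ 1)
    (hk : k ∈ K) (h : k⁻¹ * r * k * r⁻¹ ∈ N) : k ∈ N := by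
  have hmem : ∀ x : N, (x : G)⁻¹ * r * x * r⁻¹ ∈ N := by
    intro x
    have h1 : r * (x : G) * r⁻¹ ∈ N := hN.conj_mem _ x.2 r
    have h2 : (x : G)⁻¹ * r * x * r⁻¹ = (x : G)⁻¹ * (r * x * r⁻¹) := by group
    rw [h2]
    exact N.mul_mem (N.inv_mem x.2) h1
  let φ : N → N := fun x => ⟨(x : G)⁻¹ * r * x * r⁻¹, hmem x⟩
  have hinj : Function.Injective φ := by
    intro x y hxy
    have h1 : (x : G)⁻¹ * r * x * r⁻¹ = (y : G)⁻¹ * r * y * r⁻¹ := congrArg Subtype.val hxy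
    have h2 : (x : G)⁻¹ * r * x = (y : G)⁻¹ * r * y := mul_right_cancel h1
    exact Subtype.ext (phi_inj hR hdisj hr hr1 (hNK x.2) (hNK y.2) h2)
  obtain ⟨x, hx⟩ := (Finite.injective_iff_surjective.1 hinj) ⟨_, h⟩
  have h1 : (x : G)⁻¹ * r * x * r⁻¹ = k⁻¹ * r * k * r⁻¹ := congrArg Subtype.val hx
  have h2 : (x : G)⁻¹ * r * x = k⁻¹ * r * k := mul_right_cancel h1
  have := phi_inj hR hdisj hr hr1 (hNK x.2) hk h2
  rw [← this]
  exact x.2

/-- Let G be a finite Frobenius group with Frobenius complement R and Frobenius kernel K (the identity together with the elements in no conjugate of R), and let N be a normal subgroup of G not containing K. Then G/N is a Frobenius group with Frobenius complement RN/N whose Frobenius kernel is the image of K. -/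
theorem result {G : Type*} [Group G] [Finite G] (R : Subgroup G) (hR : Cfsg.IsFrobeniusComplement R) (N : Subgroup G) [N.Normal] (hKN : ¬ Cfsg.frobeniusKernel R ⊆ N) : Cfsg.IsFrobeniusComplement (R.map (QuotientGroup.mk' N)) ∧ Cfsg.frobeniusKernel (R.map (QuotientGroup.mk' N)) = QuotientGroup.mk' N '' Cfsg.frobeniusKernel R := by
  obtain ⟨K, hKk, hKn, hc⟩ := Cfsg.Agent.S0035.result R hR
  have hdisj : K ⊓ R = ⊥ := hc.isCompl.inf_eq_bot
  have hN : N.Normal := inferInstance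
  -- N ≤ K
  have hNK : N ≤ K := by
    intro n hn
    by_contra hnK
    apply hKN
    rw [← hKk]
    exact kernel_le_of_not_le hR hdisj hKk hn hnK
  have hKN' : ¬ K ≤ N := by
    intro h
    apply hKN
    rw [← hKk]
    exact h
  -- decomposition
  have hdec : ∀ g : G, ∃ k ∈ K, ∃ r ∈ R, g = k * r := by
    intro g
    obtain ⟨x, hx, _⟩ := (Subgroup.isComplement'_def.1 hc).existsUnique g
    exact ⟨x.1.1, x.1.2, x.2.1, x.2.2, hx.symm⟩
  have hRN : ∀ r ∈ R, r ∈ N → r = 1 := by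
    intro r hr hrN
    have : r ∈ K ⊓ R := ⟨hNK hrN, hr⟩
    rw [hdisj] at this
    exact Subgroup.mem_bot.1 this
  have hRK : ∀ r ∈ R, r ∈ K → r = 1 := by
    intro r hr hrK
    have : r ∈ K ⊓ R := ⟨hrK, hr⟩
    rw [hdisj] at this
    exact Subgroup.mem_bot.1 this
  -- elements of K whose image lies in the image of R are in N
  have hKR : ∀ k ∈ K, (QuotientGroup.mk' N) k ∈ R.map (QuotientGroup.mk' N) → k ∈ N := by
    intro k hk hmem
    obtain ⟨r, hr, hrk⟩ := Subgroup.mem_map.1 hmem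
    have h1 : r⁻¹ * k ∈ N := by
      have := (QuotientGroup.eq (s := N) (a := r) (b := k)).1 hrk
      exact this
    have h2 : r⁻¹ * k ∈ K := hNK h1
    have h3 : r⁻¹ ∈ K := by
      have := K.mul_mem h2 (K.inv_mem hk)
      simpa using this
    have h4 : r = 1 := hRK r hr (by simpa using K.inv_mem h3)
    subst h4
    simpa using h1
  refine ⟨⟨?_, ?_, ?_⟩, ?_⟩
  · -- nontrivial
    intro hbot
    apply hR.1
    rw [eq_bot_iff]
    intro r hr
    have h1 : (QuotientGroup.mk' N) r ∈ R.map (QuotientGroup.mk' N) :=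
      Subgroup.mem_map_of_mem _ hr
    rw [hbot, Subgroup.mem_bot] at h1
    have h2 : r ∈ N := (QuotientGroup.eq_one_iff r).1 h1
    exact Subgroup.mem_bot.2 (hRN r hr h2)
  · -- proper
    intro htop
    apply hKN'
    intro k hk
    apply hKR k hk
    rw [htop]
    exact Subgroup.mem_top _
  · -- trivial intersections
    intro gbar hgbar
    obtain ⟨g, rfl⟩ := QuotientGroup.mk'_surjective N gbar
    obtain ⟨k, hk, r₀, hr₀, rfl⟩ := hdec g
    rw [eq_bot_iff]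
    intro x hx
    rw [Subgroup.mem_bot]
    obtain ⟨hx1, hx2⟩ := Subgroup.mem_inf.1 hx
    rw [mem_conj_smul_iff] at hx2
    obtain ⟨r₁, hr₁, rfl⟩ := Subgroup.mem_map.1 hx1
    obtain ⟨r₂, hr₂, h2⟩ := Subgroup.mem_map.1 hx2
    -- k ∉ N
    have hkN : k ∉ N := by
      intro hkN
      apply hgbar
      rw [map_mul]
      apply Subgroup.mul_mem
      · have : (QuotientGroup.mk' N) k = 1 := (QuotientGroup.eq_one_iff k).2 hkN
        rw [this]; exact Subgroup.one_mem _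
      · exact Subgroup.mem_map_of_mem _ hr₀
    -- translate h2
    rw [← map_inv, ← map_mul, ← map_mul] at h2
    have h3 : r₂⁻¹ * ((k * r₀)⁻¹ * r₁ * (k * r₀)) ∈ N :=
      (QuotientGroup.eq (s := N)).1 h2
    -- set r₃ = r₀ r₂ r₀⁻¹ ∈ R; then r₃⁻¹ * k⁻¹ * r₁ * k ∈ N
    have hr₃ : r₀ * r₂ * r₀⁻¹ ∈ R := R.mul_mem (R.mul_mem hr₀ hr₂) (R.inv_mem hr₀)
    have h4 : (r₀ * r₂ * r₀⁻¹)⁻¹ * (k⁻¹ * r₁ * k) ∈ N := by
      have := hN.conj_mem _ h3 r₀
      have e : r₀ * (r₂⁻¹ * ((k * r₀)⁻¹ * r₁ * (k * r₀))) * r₀⁻¹ =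
          (r₀ * r₂ * r₀⁻¹)⁻¹ * (k⁻¹ * r₁ * k) := by group
      rw [e] at this
      exact this
    -- modulo K: r₃ = r₁
    have h5 : (r₀ * r₂ * r₀⁻¹)⁻¹ * r₁ ∈ K := by
      have h6 : (r₀ * r₂ * r₀⁻¹)⁻¹ * (k⁻¹ * r₁ * k) ∈ K := hNK h4
      have h7 : r₁⁻¹ * k * r₁ ∈ K := by
        have := hKn.conj_mem k hk r₁⁻¹
        simpa using this
      have h8 : (r₀ * r₂ * r₀⁻¹)⁻¹ * r₁ =
          (r₀ * r₂ * r₀⁻¹)⁻¹ * (k⁻¹ * r₁ * k) * (k⁻¹ * (r₁⁻¹ * k * r₁)) := by group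
      rw [h8]
      exact K.mul_mem h6 (K.mul_mem (K.inv_mem hk) h7)
    have h9 : (r₀ * r₂ * r₀⁻¹)⁻¹ * r₁ = 1 :=
      hRK _ (R.mul_mem (R.inv_mem hr₃) hr₁) h5
    have h10 : r₀ * r₂ * r₀⁻¹ = r₁ := inv_mul_eq_one.1 h9
    rw [h10] at h4
    -- now r₁⁻¹ * (k⁻¹ * r₁ * k) ∈ N
    by_contra hne
    have hr₁1 : r₁ ≠ 1 := by
      intro h; apply hne; rw [h]; exact map_one _
    -- apply key to r₁⁻¹ and k⁻¹... use: (k⁻¹)⁻¹ * r₁⁻¹ * k⁻¹ * r₁⁻¹⁻¹ = k r₁⁻¹ k⁻¹ r₁
    have h11 : (k⁻¹)⁻¹ * r₁⁻¹ * k⁻¹ * (r₁⁻¹)⁻¹ ∈ N := by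
      have := hN.conj_mem _ h4 k
      have e : k * (r₁⁻¹ * (k⁻¹ * r₁ * k)) * k⁻¹ = (k⁻¹)⁻¹ * r₁⁻¹ * k⁻¹ * (r₁⁻¹)⁻¹ := by group
      rw [e] at this
      exact this
    have h12 : k⁻¹ ∈ N :=
      key hR hdisj hNK (R.inv_mem hr₁) (by simpa using hr₁1) (K.inv_mem hk) h11
    exact hkN (by simpa using N.inv_mem h12)
  · -- the kernel
    ext x
    constructor
    · intro hx
      obtain ⟨g, rfl⟩ := QuotientGroup.mk'_surjective N x
      by_cases hgK : g ∈ K
      · exact ⟨g, by rw [← hKk]; exact hgK, rfl⟩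
      · exfalso
        have hg' : g ∉ Cfsg.frobeniusKernel R := by rw [← hKk]; exact hgK
        have hg1 : g ≠ 1 := fun h => hg' (Or.inl h)
        have hex : ∃ a : G, g ∈ MulAut.conj a • R := by
          by_contra hcon
          push Not at hcon
          exact hg' (Or.inr hcon)
        obtain ⟨a, ha⟩ := hex
        rw [mem_conj_smul_iff] at ha
        rcases hx with hx | hx
        · have : g ∈ N := (QuotientGroup.eq_one_iff g).1 hx
          exact hgK (hNK this)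
        · apply hx ((QuotientGroup.mk' N) a)
          rw [mem_conj_smul_iff, ← map_inv, ← map_mul, ← map_mul]
          exact Subgroup.mem_map_of_mem _ ha
    · rintro ⟨k, hk, rfl⟩
      have hkK : k ∈ K := by
        have : k ∈ (K : Set G) := by rw [hKk]; exact hk
        exact this
      by_cases h1 : (QuotientGroup.mk' N) k = 1
      · exact Or.inl h1
      · right
        intro gbar hmem
        obtain ⟨g, rfl⟩ := QuotientGroup.mk'_surjective N gbar
        rw [mem_conj_smul_iff, ← map_inv, ← map_mul, ← map_mul] at hmem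
        have h2 : g⁻¹ * k * g ∈ K := by
          have := hKn.conj_mem k hkK g⁻¹
          simpa using this
        have h3 : g⁻¹ * k * g ∈ N := hKR _ h2 hmem
        apply h1
        have h4 : k ∈ N := by
          have := hN.conj_mem _ h3 g
          have e : g * (g⁻¹ * k * g) * g⁻¹ = k := by group
          rw [e] at this
          exact this
        exact (QuotientGroup.eq_one_iff k).2 h4

end Cfsg.Agent.S3768
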