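import Cfsg.Statements.S3769
import Cfsg.Agent.Lib.Helper2.ShultSub

set_option autoImplicit false
open Cfsg

namespace Cfsg.Agent.S3769

open Cfsg.Agent.Lib.Helper2.ShultGroup Cfsg.Agent.Lib.Helper2.ShultSub
open scoped commutatorElement

/-- The kernel of the conjugation action is the centralizer. -/
theorem conjOn_eq_one_iff {G : Type*} [Group G] (A B : Subgroup G)
    (hAB : A ≤ Subgroup.normalizer (B : Set G)) (a : ↥A) :
    conjOn A B hAB a = 1 ↔ (a : G) ∈ Subgroup.centralizer (B : Set G) := by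
  rw [Subgroup.mem_centralizer_iff]
  constructor
  · intro h b hb
    have := congrArg (fun f : MulAut ↥B => ((f ⟨b, hb⟩ : ↥B) : G)) h
    have h1 : (a : G) * b * (a : G)⁻¹ = b := this
    calc b * (a : G) = ((a : G) * b * (a : G)⁻¹) * a := by rw [h1]
      _ = a * b := by group
  · intro h
    ext b
    show (a : G) * b * (a : G)⁻¹ = b
    rw [← h b b.2]
    group

/-- Let G and V be subgroups of a finite group with G solvable of odd order normalizing V, V an elementary abelian ℓ-group for a prime ℓ not dividing the order of G, and suppose G has a normal Hall subgroup K with a complement R of prime order. If C_V(R) = 1, then [R, K] centralizes V. -/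
theorem result {X : Type*} [Group X] [Finite X] (G : Subgroup X) (hsolv : Group.IsSolvable G) (hodd : Odd (Nat.card G)) (V : Subgroup X) {ℓ : ℕ} (hℓ : ℓ.Prime) (hV : Cfsg.IsElementaryAbelian ℓ V) (hℓG : ¬ ℓ ∣ Nat.card G) (hGV : G ≤ Subgroup.normalizer (V : Set X)) (K R : Subgroup X) (hKG : K ≤ G) (hKn : G ≤ Subgroup.normalizer (K : Set X)) (hHall : (Nat.card K).Coprime (K.relIndex G)) (hRG : R ≤ G) (hR : (Nat.card R).Prime) (hKR : K ⊓ R = ⊥) (hKRG : K ⊔ R = G) (hCV : V ⊓ Subgroup.centralizer (R : Set X) = ⊥) : ⁅R, K⁆ ≤ Subgroup.centralizer (V : Set X) := by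
  classical
  have hrP : Fact (Nat.card R).Prime := ⟨hR⟩
  -- the index of `K` in `G` is `|R|`
  have hKn' : (K.subgroupOf G).Normal := Subgroup.normal_subgroupOf_of_le_normalizer hKn
  have hrel : K.relIndex G = Nat.card R := by
    have h1 : K.subgroupOf G ⊔ R.subgroupOf G = ⊤ := by
      rw [← Subgroup.subgroupOf_sup hKG hRG, hKRG, Subgroup.subgroupOf_self]
    have h2 : K.subgroupOf G ⊓ R.subgroupOf G = ⊥ := by
      rw [eq_bot_iff]
      intro x hx
      have hx' := Subgroup.mem_inf.mp hx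
      have : (x : X) ∈ K ⊓ R := Subgroup.mem_inf.mpr ⟨hx'.1, hx'.2⟩
      rw [hKR, Subgroup.mem_bot] at this
      rw [Subgroup.mem_bot]; exact Subtype.ext this
    show (K.subgroupOf G).index = Nat.card R
    rw [← Subgroup.relIndex_top_right, ← h1, Subgroup.relIndex_sup_left,
      ← Subgroup.inf_relIndex_right, h2, Subgroup.relIndex_bot_left]
    exact Nat.card_congr (Subgroup.subgroupOfEquivOfLe hRG).toEquiv
  rw [hrel] at hHall
  have hrK : ¬ Nat.card R ∣ Nat.card K := fun h =>
    hR.one_lt.ne' (Nat.Coprime.eq_one_of_dvd hHall.symm h)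
  have hRK : R ≤ Subgroup.normalizer (K : Set X) := hRG.trans hKn
  have hRV : R ≤ Subgroup.normalizer (V : Set X) := hRG.trans hGV
  have hℓr : ℓ ≠ Nat.card R := by
    intro h
    exact hℓG (h ▸ Subgroup.card_dvd_of_le hRG)
  -- the action of `G` on `V`
  let α := conjOn G V hGV
  let D : Subgroup ↥G := (Subgroup.centralizer (α '' (R.subgroupOf G : Set ↥G))).comap α
  have hD : ∀ g : ↥G, g ∈ D ↔ ∀ x : ↥G, (x : X) ∈ R → α x * α g = α g * α x := by
    intro g
    simp only [D, Subgroup.mem_comap, Subgroup.mem_centralizer_iff]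
    constructor
    · intro h x hx; exact h (α x) ⟨x, hx, rfl⟩
    · rintro h _ ⟨x, hx, rfl⟩; exact h x hx
  let DX : Subgroup X := D.map G.subtype ⊓ K
  have hsyl : ∀ q : ℕ, q.Prime → q ^ (Nat.card K).factorization q ∣ Nat.card DX := by
    intro q hq
    have : Fact q.Prime := ⟨hq⟩
    by_cases hqK : q ∣ Nat.card K
    · obtain ⟨Q, hQK, hRQ, hQp, hQcard⟩ := exists_invariant_sylow K R hRK q rfl hrK
      have hqr : q ≠ Nat.card R := by
        intro h; exact hrK (h ▸ hqK)
      have hℓq : ℓ ≠ q := by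
        intro h
        exact hℓG (h ▸ hqK.trans (Subgroup.card_dvd_of_le hKG))
      have hq2 : q ≠ 2 := by
        intro h
        have h2 : 2 ∣ Nat.card G := h ▸ hqK.trans (Subgroup.card_dvd_of_le hKG)
        exact (Nat.not_even_iff_odd.mpr hodd) (even_iff_two_dvd.mpr h2)
      rcases main_sub hℓ hq hR hℓq hℓr hqr R Q V rfl hQp hRQ hV hRV
        ((hQK.trans hKG).trans hGV) hCV with h | ⟨h2, -, -⟩
      · have hQD : Q ≤ DX := by
          intro g hg
          refine Subgroup.mem_inf.mpr ⟨?_, hQK hg⟩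
          have hgG : g ∈ G := hKG (hQK hg)
          refine ⟨⟨g, hgG⟩, ?_, rfl⟩
          rw [SetLike.mem_coe, hD]
          intro x hx
          have hc : α ((⟨g, hgG⟩ : ↥G)⁻¹ * (x * ⟨g, hgG⟩ * x⁻¹)) = 1 := by
            rw [conjOn_eq_one_iff]
            exact h x hx g hg
          rw [map_mul, map_mul, map_mul, map_inv, map_inv, inv_mul_eq_one] at hc
          calc α x * α ⟨g, hgG⟩ = (α x * α ⟨g, hgG⟩ * (α x)⁻¹) * α x := by group
            _ = α ⟨g, hgG⟩ * α x := by rw [← hc]
        rw [← hQcard]; exact Subgroup.card_dvd_of_le hQD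
      · exact absurd h2 hq2
    · rw [Nat.factorization_eq_zero_of_not_dvd hqK, pow_zero]; exact one_dvd _
  have hK0 : Nat.card K ≠ 0 := Nat.card_pos.ne'
  have hD0 : Nat.card DX ≠ 0 := Nat.card_pos.ne'
  have hdvd : Nat.card K ∣ Nat.card DX := by
    rw [← Nat.factorization_le_iff_dvd hK0 hD0]
    intro q
    by_cases hq : q.Prime
    · exact (hq.pow_dvd_iff_le_factorization hD0).mp (hsyl q hq)
    · rw [Nat.factorization_eq_zero_of_not_prime _ hq]; exact Nat.zero_le _
  have hDK : DX = K := Subgroup.eq_of_le_of_card_ge inf_le_right (Nat.le_of_dvd Nat.card_pos hdvd)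
  rw [Subgroup.commutator_le]
  intro x hx k hk
  have hkD : k ∈ DX := hDK ▸ hk
  obtain ⟨⟨k', hk'D, hk'⟩, -⟩ := Subgroup.mem_inf.mp hkD
  have hcomm := (hD k').mp hk'D ⟨x, hRG hx⟩ hx
  have h1 : α ⁅(⟨x, hRG hx⟩ : ↥G), k'⁆ = 1 := by
    rw [map_commutatorElement, commutatorElement_eq_one_iff_mul_comm]
    exact hcomm
  rw [conjOn_eq_one_iff] at h1
  have h2 : ((⁅(⟨x, hRG hx⟩ : ↥G), k'⁆ : ↥G) : X) = ⁅x, k⁆ := by
    rw [← hk']; rfl
  rw [← h2]; exact h1

end Cfsg.Agent.S3769
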