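import Cfsg.Statements.S3770
import Cfsg.Agent.Lib.Helper24.FrobLine5
import Cfsg.Agent.Lib.Helper24.ConjOn
import Cfsg.Agent.Lib.Helper35.FrobStructure
-- import your own Cfsg.Agent.* helpers here

set_option autoImplicit false
open Cfsg

namespace Cfsg.Agent.S3770

/-- Let G and V be subgroups of a finite group with G a Frobenius group with complement R of prime order and kernel K, G normalizing V, and V an elementary abelian ℓ-group for a prime ℓ not dividing the order of G. If C_V(R) has order ℓ, then the derived subgroup of K centralizes V. -/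
theorem result {X : Type*} [Group X] [Finite X] (G : Subgroup X) (V : Subgroup X) {ℓ : ℕ} (hℓ : ℓ.Prime) (hV : Cfsg.IsElementaryAbelian ℓ V) (hℓG : ¬ ℓ ∣ Nat.card G) (hGV : G ≤ Subgroup.normalizer (V : Set X)) (R : Subgroup ↥G) (hR : Cfsg.IsFrobeniusComplement R) (hRp : (Nat.card R).Prime) (hCV : Nat.card ↥(V ⊓ Subgroup.centralizer ((R.map G.subtype : Subgroup X) : Set X)) = ℓ) : ⁅Subgroup.closure (Subtype.val '' Cfsg.frobeniusKernel R), Subgroup.closure (Subtype.val '' Cfsg.frobeniusKernel R)⁆ ≤ Subgroup.centralizer (V : Set X) := by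
  classical
  have hGfin : Finite ↥G := inferInstance
  obtain ⟨N, hNker, -, -⟩ := Cfsg.Agent.S0042.result R hR
  obtain ⟨hNn, hNR, hNnil, hN1, hfpf0, hcopRN⟩ :=
    Cfsg.Agent.Lib.Helper35.frobenius_data R N hR hNker.symm
  -- the closure is the image of `N`
  have hK : Subgroup.closure (Subtype.val '' Cfsg.frobeniusKernel R) = N.map G.subtype := by
    rw [← hNker]
    have : (Subtype.val '' (N : Set ↥G)) = ((N.map G.subtype : Subgroup X) : Set X) := by
      rw [Subgroup.coe_map]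
      rfl
    rw [this, Subgroup.closure_eq]
  rw [hK]
  -- the actions
  let φ : ↥R →* MulAut ↥N := (MulAut.conjNormal (H := N)).comp R.subtype
  have hφ : ∀ (h : ↥R) (f : ↥N), ((φ h f : ↥N) : ↥G) = (h : ↥G) * f * (h : ↥G)⁻¹ :=
    fun h f => rfl
  have hfpf : ∀ h : ↥R, h ≠ 1 → ∀ f : ↥N, φ h f = f → f = 1 := by
    intro h hh f hf
    have h1 : (h : ↥G) * f * (h : ↥G)⁻¹ = f := by
      rw [← hφ, hf]
    have hh1 : (h : ↥G) ≠ 1 := fun h0 => hh (Subtype.ext h0)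
    have hmem : (f : ↥G) ∈ N ⊓ Subgroup.centralizer {(h : ↥G)} := by
      refine Subgroup.mem_inf.mpr ⟨f.2, Subgroup.mem_centralizer_iff.mpr ?_⟩
      intro y hy
      rw [Set.mem_singleton_iff] at hy
      subst hy
      calc (h : ↥G) * f = (h : ↥G) * f * (h : ↥G)⁻¹ * h := by group
        _ = f * h := by rw [h1]
    rw [hfpf0 h h.2 hh1, Subgroup.mem_bot] at hmem
    exact Subtype.ext hmem
  let instC : CommGroup ↥V :=
    { (inferInstance : Group ↥V) with
      mul_comm := fun a b => hV.1.is_comm.comm a b }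
  let αG : ↥G →* MulAut ↥V := Cfsg.Agent.Lib.Helper24.conjOn G V hGV
  let αF : ↥N →* MulAut ↥V := αG.comp N.subtype
  let αH : ↥R →* MulAut ↥V := αG.comp R.subtype
  have hαF : ∀ (f : ↥N) (w : ↥V), ((αF f w : ↥V) : X) = ((f : ↥G) : X) * w * ((f : ↥G) : X)⁻¹ :=
    fun f w => rfl
  have hαH : ∀ (h : ↥R) (w : ↥V), ((αH h w : ↥V) : X) = ((h : ↥G) : X) * w * ((h : ↥G) : X)⁻¹ :=
    fun h w => rfl
  have hcompat : ∀ (h : ↥R) (f : ↥N) (w : ↥V), αH h (αF f w) = αF (φ h f) (αH h w) := by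
    intro h f w
    apply Subtype.ext
    rw [hαH, hαF, hαF, hαH, hφ]
    simp only [Subgroup.coe_mul, Subgroup.coe_inv]
    group
  have hℓfact : Fact ℓ.Prime := ⟨hℓ⟩
  have hexp : ∀ w : ↥V, w ^ ℓ = 1 := by
    intro w
    apply Subtype.ext
    rw [Subgroup.coe_pow]
    exact hV.2 w w.2
  have hℓN : ¬ ℓ ∣ Nat.card ↥N := by
    intro h
    exact hℓG (h.trans (Subgroup.card_subgroup_dvd_card N))
  have hfixH : Nat.card {w : ↥V // ∀ h : ↥R, αH h w = w} ≤ ℓ := by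
    rw [← hCV]
    apply Nat.card_le_card_of_injective
      (fun w : {w : ↥V // ∀ h : ↥R, αH h w = w} =>
        (⟨((w : ↥V) : X), Subgroup.mem_inf.mpr ⟨(w : ↥V).2, by
          rw [Subgroup.mem_centralizer_iff]
          rintro _ ⟨r, hr, rfl⟩
          have h1 := congrArg Subtype.val (w.2 ⟨r, hr⟩)
          rw [hαH] at h1
          show ((r : ↥G) : X) * ((w : ↥V) : X) = ((w : ↥V) : X) * ((r : ↥G) : X)
          calc ((r : ↥G) : X) * ((w : ↥V) : X)
              = ((r : ↥G) : X) * ((w : ↥V) : X) * ((r : ↥G) : X)⁻¹ * ((r : ↥G) : X) := by group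
            _ = ((w : ↥V) : X) * ((r : ↥G) : X) := by rw [h1]⟩⟩ :
          ↥(V ⊓ Subgroup.centralizer ((R.map G.subtype : Subgroup X) : Set X))))
    intro a b hab
    apply Subtype.ext
    apply Subtype.ext
    have h1 := congrArg Subtype.val hab
    exact h1
  have key := Cfsg.Agent.Lib.Helper24.FrobLine.comm_of_card_fixed_le (Nat.card ↥R) hRp rfl ℓ hexp hℓN
    φ hfpf αF αH hcompat hfixH
  rw [Subgroup.commutator_le]
  rintro _ ⟨f, hf, rfl⟩ _ ⟨g, hg, rfl⟩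
  rw [Subgroup.mem_centralizer_iff]
  intro v hv
  have h1 := congrArg Subtype.val (key (⟨f, hf⟩⁻¹ : ↥N) (⟨g, hg⟩⁻¹ : ↥N) ⟨v, hv⟩)
  rw [hαF, hαF, hαF, hαF] at h1
  simp only [Subgroup.coe_inv, Subgroup.coe_subtype, inv_inv] at h1 ⊢
  -- h1 : f⁻¹ * (g⁻¹ * v * g) * f = g⁻¹ * (f⁻¹ * v * f) * g
  rw [commutatorElement_def]
  have h2 : (f : X) * (g : X) * ((f : X)⁻¹ * ((g : X)⁻¹ * v * (g : X)) * (f : X)) *
      ((g : X)⁻¹ * (f : X)⁻¹) = (f : X) * (g : X) * ((g : X)⁻¹ * ((f : X)⁻¹ * v * (f : X)) * (g : X)) *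
      ((g : X)⁻¹ * (f : X)⁻¹) := by rw [h1]
  have h3 : (f : X) * (g : X) * ((g : X)⁻¹ * ((f : X)⁻¹ * v * (f : X)) * (g : X)) *
      ((g : X)⁻¹ * (f : X)⁻¹) = v := by group
  rw [h3] at h2
  calc v * ((f : X) * (g : X) * (f : X)⁻¹ * (g : X)⁻¹)
      = (f : X) * (g : X) * ((f : X)⁻¹ * ((g : X)⁻¹ * v * (g : X)) * (f : X)) *
        ((g : X)⁻¹ * (f : X)⁻¹) * ((f : X) * (g : X) * (f : X)⁻¹ * (g : X)⁻¹) := by rw [h2]
    _ = (f : X) * (g : X) * (f : X)⁻¹ * (g : X)⁻¹ * v := by group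

end Cfsg.Agent.S3770
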