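import Cfsg.Statements.S3771
-- import your own Cfsg.Agent.* helpers here

set_option autoImplicit false
open Cfsg

namespace Cfsg.Agent.S3771

section
variable {R : Type*} [Group R]

/-- The commutator map `g ↦ g x g⁻¹ x⁻¹` into the centre, for an element `x` that is central
modulo the centre. -/
def commHom (x : R) (hx : ∀ g : R, g * x * g⁻¹ * x⁻¹ ∈ Subgroup.center R) :
    R →* Subgroup.center R :=
  MonoidHom.mk' (fun g => ⟨g * x * g⁻¹ * x⁻¹, hx g⟩) (by
    intro g h
    apply Subtype.ext
    have hc : ∀ y : R, y * (h * x * h⁻¹ * x⁻¹) = (h * x * h⁻¹ * x⁻¹) * y := fun y =>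
      (Subgroup.mem_center_iff.1 (hx h) y)
    show g * h * x * (g * h)⁻¹ * x⁻¹ = (g * x * g⁻¹ * x⁻¹) * (h * x * h⁻¹ * x⁻¹)
    calc g * h * x * (g * h)⁻¹ * x⁻¹ = g * (h * x * h⁻¹ * x⁻¹) * x * g⁻¹ * x⁻¹ := by group
      _ = (h * x * h⁻¹ * x⁻¹) * g * x * g⁻¹ * x⁻¹ := by rw [hc g]
      _ = (h * x * h⁻¹ * x⁻¹) * (g * x * g⁻¹ * x⁻¹) := by group
      _ = (g * x * g⁻¹ * x⁻¹) * (h * x * h⁻¹ * x⁻¹) := (hc _).symm)

theorem commHom_ker_le (x : R) (hx : ∀ g : R, g * x * g⁻¹ * x⁻¹ ∈ Subgroup.center R) :
    (commHom x hx).ker ≤ Subgroup.centralizer {x} := by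
  intro g hg
  rw [MonoidHom.mem_ker] at hg
  have h1 : g * x * g⁻¹ * x⁻¹ = 1 := congrArg Subtype.val hg
  rw [Subgroup.mem_centralizer_iff]
  intro y hy
  rw [Set.mem_singleton_iff] at hy
  subst hy
  calc y * g = (g * y * g⁻¹ * y⁻¹)⁻¹ * (g * y) := by group
    _ = g * y := by rw [h1]; group

theorem card_le_of_commHom [Finite R] (x : R)
    (hx : ∀ g : R, g * x * g⁻¹ * x⁻¹ ∈ Subgroup.center R) :
    Nat.card R ≤ Nat.card (Subgroup.centralizer ({x} : Set R)) * Nat.card (Subgroup.center R) := by
  have h1 := Subgroup.card_mul_index (commHom x hx).ker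
  rw [Subgroup.index_ker] at h1
  rw [← h1]
  apply Nat.mul_le_mul
  · exact Subgroup.card_le_of_le (commHom_ker_le x hx)
  · exact Subgroup.card_le_of_le le_top |>.trans (by
      rw [Subgroup.card_top])

end

/-- if `p ^ i < p ^ j ≤ p ^ 2` and `1 ≤ i` then `i = 1` and `j = 2` -/
theorem pow_squeeze {p i j : ℕ} (hp : p.Prime) (hi : 1 ≤ i) (hlt : p ^ i < p ^ j)
    (hle : p ^ j ≤ p ^ 2) : i = 1 ∧ j = 2 := by
  have h1 : i < j := (Nat.pow_lt_pow_iff_right hp.one_lt).1 hlt
  have h2 : j ≤ 2 := (Nat.pow_le_pow_iff_right hp.one_lt).1 hle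
  omega


/-- Let p be a prime and R a finite p-group of p-rank at most 2 (no elementary abelian subgroup of order p³) in which every element has order dividing p. Then R has order at most p³. -/
theorem result {R : Type*} [Group R] [Finite R] {p : ℕ} [Fact p.Prime] (hR : IsPGroup p R) (hrank : Cfsg.PRankLE p 2 R) (hexp : ∀ x : R, x ^ p = 1) : Nat.card R ≤ p ^ 3 := by
  classical
  have hp : p.Prime := Fact.out
  -- every abelian subgroup has order at most `p ^ 2`
  have hab : ∀ A : Subgroup R, IsMulCommutative A → Nat.card A ≤ p ^ 2 :=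
    fun A hA => hrank A hA (fun a _ => hexp a)
  by_cases hZ : Subgroup.center R = ⊤
  · have h1 : Nat.card R = Nat.card (Subgroup.center R) := by
      rw [hZ, Subgroup.card_top]
    rw [h1]
    exact (hab _ inferInstance).trans (Nat.pow_le_pow_right hp.pos (by norm_num))
  · -- a non-central element
    obtain ⟨g0, hg0⟩ : ∃ g : R, g ∉ Subgroup.center R := by
      by_contra hcon
      push Not at hcon
      exact hZ (eq_top_iff.2 fun g _ => hcon g)
    have : Nontrivial (R ⧸ Subgroup.center R) :=
      ⟨⟨(QuotientGroup.mk g0 : R ⧸ Subgroup.center R), 1, by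
        intro h
        exact hg0 ((QuotientGroup.eq_one_iff g0).1 h)⟩⟩
    have := (hR.to_quotient (Subgroup.center R)).center_nontrivial
    obtain ⟨q, hq⟩ := exists_ne (1 : Subgroup.center (R ⧸ Subgroup.center R))
    obtain ⟨x, hxq⟩ := QuotientGroup.mk_surjective (q : R ⧸ Subgroup.center R)
    have hxZ : x ∉ Subgroup.center R := by
      intro hx
      apply hq
      apply Subtype.ext
      rw [← hxq]
      exact (QuotientGroup.eq_one_iff x).2 hx
    have hx : ∀ g : R, g * x * g⁻¹ * x⁻¹ ∈ Subgroup.center R := by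
      intro g
      rw [← QuotientGroup.eq_one_iff]
      have hc := Subgroup.mem_center_iff.1 q.2 (QuotientGroup.mk g)
      rw [← hxq] at hc
      have : ((g * x * g⁻¹ * x⁻¹ : R) : R ⧸ Subgroup.center R) =
          (QuotientGroup.mk g) * (QuotientGroup.mk x) * (QuotientGroup.mk g)⁻¹ *
            (QuotientGroup.mk x)⁻¹ := by
        simp
      rw [this, hc]
      group
    -- the centre is nontrivial
    have : Nontrivial R := ⟨⟨x, 1, fun h => hxZ (h ▸ Subgroup.one_mem _)⟩⟩
    have := hR.center_nontrivial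
    obtain ⟨i, hi0, hi⟩ := (hR.to_subgroup (Subgroup.center R)).nontrivial_iff_card.1 inferInstance
    -- the abelian subgroup generated by `x` and the centre
    set A : Subgroup R := Subgroup.closure ({x} ∪ (Subgroup.center R : Set R)) with hA
    have hAcomm : IsMulCommutative A := by
      apply Subgroup.isMulCommutative_closure
      rintro a (ha | ha) b (hb | hb)
      · rw [Set.mem_singleton_iff] at ha hb; rw [ha, hb]
      · exact (Subgroup.mem_center_iff.1 hb a)
      · exact (Subgroup.mem_center_iff.1 ha b).symm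
      · exact (Subgroup.mem_center_iff.1 hb a)
    have hZA : Subgroup.center R ≤ A := fun z hz => Subgroup.subset_closure (Or.inr hz)
    have hxA : x ∈ A := Subgroup.subset_closure (Or.inl rfl)
    obtain ⟨j, hj⟩ := (IsPGroup.iff_card).1 (hR.to_subgroup A)
    have hlt : Nat.card (Subgroup.center R) < Nat.card A := by
      apply lt_of_le_of_ne (Subgroup.card_le_of_le hZA)
      intro heq
      have := Subgroup.eq_of_le_of_card_ge hZA heq.ge
      exact hxZ (this ▸ hxA)
    have hAle := hab A hAcomm
    rw [hi, hj] at hlt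
    rw [hj] at hAle
    obtain ⟨hi1, hj2⟩ := pow_squeeze hp hi0 hlt hAle
    subst hi1 hj2
    -- the centralizer of `x` lies in `A`
    have hCA : Subgroup.centralizer ({x} : Set R) ≤ A := by
      intro y hy
      set B : Subgroup R := Subgroup.closure ({x, y} ∪ (Subgroup.center R : Set R)) with hB
      have hxy : y * x = x * y := by
        have := Subgroup.mem_centralizer_iff.1 hy x rfl
        exact this.symm
      have hBcomm : IsMulCommutative B := by
        apply Subgroup.isMulCommutative_closure
        rintro a (ha | ha) b (hb | hb)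
        · rcases ha with rfl | ha <;> rcases hb with rfl | hb
          · rfl
          · rw [Set.mem_singleton_iff] at hb; rw [hb]; exact hxy.symm
          · rw [Set.mem_singleton_iff] at ha; rw [ha]; exact hxy
          · rw [Set.mem_singleton_iff] at ha hb; rw [ha, hb]
        · exact (Subgroup.mem_center_iff.1 hb a)
        · exact (Subgroup.mem_center_iff.1 ha b).symm
        · exact (Subgroup.mem_center_iff.1 hb a)
      have hAB : A ≤ B := by
        apply Subgroup.closure_mono
        rintro a (ha | ha)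
        · left; left; exact ha
        · right; exact ha
      have hBle := hab B hBcomm
      have hBA : A = B := Subgroup.eq_of_le_of_card_ge hAB (by rw [hj]; exact hBle)
      rw [hBA]
      exact Subgroup.subset_closure (Or.inl (Or.inr rfl))
    have hC : Nat.card (Subgroup.centralizer ({x} : Set R)) ≤ p ^ 2 :=
      hj ▸ Subgroup.card_le_of_le hCA
    calc Nat.card R ≤ Nat.card (Subgroup.centralizer ({x} : Set R)) *
          Nat.card (Subgroup.center R) := card_le_of_commHom x hx
      _ ≤ p ^ 2 * p ^ 1 := Nat.mul_le_mul hC hi.le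
      _ = p ^ 3 := by ring

end Cfsg.Agent.S3771
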