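-- S3772 (helper63): involution count in a 2-group with Frattini subgroup of order 2, via the
-- "Gauss sum" T = Σ s(x), s(x) = ±1 according to x² = 1 or not: T² = |G||Z(G)| or 0.
import Mathlib
import Cfsg.Statements.S3772
import Cfsg.Agent.S0012
import Cfsg.Agent.S0013
import Cfsg.Agent.Lib.Helper63.PGroupBasic

set_option autoImplicit false
open Cfsg

namespace Cfsg.Agent.S3772

open scoped Classical
open scoped commutatorElement

variable {G : Type*} [Group G]

/-- central element `c` of order 2 such that all squares and commutators lie in `{1, c}` -/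
structure Setup (c : G) : Prop where
  c_ne : c ≠ 1
  c_sq : c * c = 1
  c_cent : ∀ x : G, c * x = x * c
  sq : ∀ x : G, x * x = 1 ∨ x * x = c
  comm : ∀ x y : G, x * y = y * x ∨ x * y = y * x * c

/-- sign of the square -/
noncomputable def sg (x : G) : ℤ := if x * x = 1 then 1 else -1

/-- sign of the commutator -/
noncomputable def ch (w x : G) : ℤ := if w * x = x * w then 1 else -1

theorem sg_sq (x : G) : sg x * sg x = 1 := by
  unfold sg; split_ifs <;> norm_num

theorem sg_of_eq_one {x : G} (h : x * x = 1) : sg x = 1 := by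
  unfold sg; rw [if_pos h]

theorem sg_of_eq_c {c : G} (hc : Setup c) {x : G} (h : x * x = c) : sg x = -1 := by
  unfold sg; rw [if_neg]; rw [h]; exact hc.c_ne

theorem ch_of_comm {w x : G} (h : w * x = x * w) : ch w x = 1 := by
  unfold ch; rw [if_pos h]

theorem ch_of_not {c : G} (hc : Setup c) {w x : G} (h : w * x = x * w * c) : ch w x = -1 := by
  unfold ch; rw [if_neg]
  intro h'
  rw [h'] at h
  exact hc.c_ne (mul_left_cancel (a := x * w) (by rw [mul_one]; exact h.symm))

theorem sg_mul {c : G} (hc : Setup c) (x w : G) : sg (x * w) = sg x * sg w * ch w x := by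
  have hcw : ∀ y : G, y * c = c * y := fun y => (hc.c_cent y).symm
  rcases hc.comm w x with hk | hk
  · -- commuting
    have e : (x * w) * (x * w) = (x * x) * (w * w) := by
      calc (x * w) * (x * w) = x * (w * x) * w := by group
        _ = x * (x * w) * w := by rw [hk]
        _ = (x * x) * (w * w) := by group
    rw [ch_of_comm hk]
    rcases hc.sq x with hx | hx <;> rcases hc.sq w with hw | hw
    · rw [sg_of_eq_one hx, sg_of_eq_one hw, sg_of_eq_one (by rw [e, hx, hw, mul_one])]; norm_num
    · rw [sg_of_eq_one hx, sg_of_eq_c hc hw, sg_of_eq_c hc (by rw [e, hx, hw, one_mul])]; norm_num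
    · rw [sg_of_eq_c hc hx, sg_of_eq_one hw, sg_of_eq_c hc (by rw [e, hx, hw, mul_one])]; norm_num
    · rw [sg_of_eq_c hc hx, sg_of_eq_c hc hw, sg_of_eq_one (by rw [e, hx, hw, hc.c_sq])]; norm_num
  · have e : (x * w) * (x * w) = (x * x) * (w * w) * c := by
      calc (x * w) * (x * w) = x * (w * x) * w := by group
        _ = x * (x * w * c) * w := by rw [hk]
        _ = x * x * w * (c * w) := by group
        _ = x * x * w * (w * c) := by rw [hc.c_cent w]
        _ = (x * x) * (w * w) * c := by group
    rw [ch_of_not hc hk]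
    rcases hc.sq x with hx | hx <;> rcases hc.sq w with hw | hw
    · rw [sg_of_eq_one hx, sg_of_eq_one hw, sg_of_eq_c hc (by rw [e, hx, hw, mul_one, one_mul])]
      norm_num
    · rw [sg_of_eq_one hx, sg_of_eq_c hc hw, sg_of_eq_one (by rw [e, hx, hw, one_mul, hc.c_sq])]
      norm_num
    · rw [sg_of_eq_c hc hx, sg_of_eq_one hw, sg_of_eq_one (by rw [e, hx, hw, mul_one, hc.c_sq])]
      norm_num
    · rw [sg_of_eq_c hc hx, sg_of_eq_c hc hw,
        sg_of_eq_c hc (by rw [e, hx, hw, hc.c_sq, one_mul])]
      norm_num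

theorem ch_mul {c : G} (hc : Setup c) (w x y : G) : ch w (x * y) = ch w x * ch w y := by
  rcases hc.comm w x with hx | hx <;> rcases hc.comm w y with hy | hy
  · have e : w * (x * y) = x * y * w := by
      calc w * (x * y) = (w * x) * y := by group
        _ = x * w * y := by rw [hx]
        _ = x * (w * y) := by group
        _ = x * (y * w) := by rw [hy]
        _ = x * y * w := by group
    rw [ch_of_comm hx, ch_of_comm hy, ch_of_comm e]; norm_num
  · have e : w * (x * y) = x * y * w * c := by
      calc w * (x * y) = (w * x) * y := by group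
        _ = x * w * y := by rw [hx]
        _ = x * (w * y) := by group
        _ = x * (y * w * c) := by rw [hy]
        _ = x * y * w * c := by group
    rw [ch_of_comm hx, ch_of_not hc hy, ch_of_not hc e]; norm_num
  · have e : w * (x * y) = x * y * w * c := by
      calc w * (x * y) = (w * x) * y := by group
        _ = x * w * c * y := by rw [hx]
        _ = x * w * (c * y) := by group
        _ = x * w * (y * c) := by rw [hc.c_cent y]
        _ = x * (w * y) * c := by group
        _ = x * (y * w) * c := by rw [hy]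
        _ = x * y * w * c := by group
    rw [ch_of_not hc hx, ch_of_comm hy, ch_of_not hc e]; norm_num
  · have e : w * (x * y) = x * y * w := by
      calc w * (x * y) = (w * x) * y := by group
        _ = x * w * c * y := by rw [hx]
        _ = x * w * (c * y) := by group
        _ = x * w * (y * c) := by rw [hc.c_cent y]
        _ = x * (w * y) * c := by group
        _ = x * (y * w * c) * c := by rw [hy]
        _ = x * y * w * (c * c) := by group
        _ = x * y * w := by rw [hc.c_sq, mul_one]
    rw [ch_of_not hc hx, ch_of_not hc hy, ch_of_comm e]; norm_num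


section Sums

variable [Fintype G]

theorem sum_ch_center {w : G} (hw : w ∈ Subgroup.center G) :
    ∑ x : G, ch w x = (Fintype.card G : ℤ) := by
  have h : ∀ x : G, ch w x = 1 := fun x =>
    ch_of_comm ((Subgroup.mem_center_iff.1 hw x).symm)
  simp [h]

theorem sum_ch_not_center {c : G} (hc : Setup c) {w : G} (hw : w ∉ Subgroup.center G) :
    ∑ x : G, ch w x = 0 := by
  rw [Subgroup.mem_center_iff] at hw
  push Not at hw
  obtain ⟨x₀, hx₀⟩ := hw
  have h1 : ch w x₀ = -1 := by
    rcases hc.comm w x₀ with h | h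
    · exact absurd h.symm hx₀
    · exact ch_of_not hc h
  have h2 : ∑ x : G, ch w x = ∑ x : G, ch w (x₀ * x) :=
    (Equiv.sum_comp (Equiv.mulLeft x₀) (fun x => ch w x)).symm
  have h3 : ∑ x : G, ch w (x₀ * x) = - ∑ x : G, ch w x := by
    rw [← Finset.sum_neg_distrib]
    apply Finset.sum_congr rfl
    intro x _
    rw [ch_mul hc, h1]; ring
  linarith

/-- the central sum -/
noncomputable def TZ (G : Type*) [Group G] [Fintype G] : ℤ :=
  ∑ w : G, (if w ∈ Subgroup.center G then sg w else 0)

theorem T_sq {c : G} (hc : Setup c) :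
    (∑ x : G, sg x) * (∑ x : G, sg x) = (Fintype.card G : ℤ) * TZ G := by
  unfold TZ
  calc (∑ x : G, sg x) * (∑ y : G, sg y) = ∑ x : G, ∑ y : G, sg x * sg y := by
        rw [Finset.sum_mul_sum]
    _ = ∑ x : G, ∑ w : G, sg x * sg (x * w) := by
        apply Finset.sum_congr rfl; intro x _
        exact (Equiv.sum_comp (Equiv.mulLeft x) (fun y => sg x * sg y)).symm
    _ = ∑ x : G, ∑ w : G, sg w * ch w x := by
        apply Finset.sum_congr rfl; intro x _
        apply Finset.sum_congr rfl; intro w _
        rw [sg_mul hc]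
        calc sg x * (sg x * sg w * ch w x) = (sg x * sg x) * (sg w * ch w x) := by ring
          _ = sg w * ch w x := by rw [sg_sq, one_mul]
    _ = ∑ w : G, ∑ x : G, sg w * ch w x := Finset.sum_comm
    _ = ∑ w : G, sg w * ∑ x : G, ch w x := by simp_rw [Finset.mul_sum]
    _ = ∑ w : G, (Fintype.card G : ℤ) * (if w ∈ Subgroup.center G then sg w else 0) := by
        apply Finset.sum_congr rfl; intro w _
        by_cases hw : w ∈ Subgroup.center G
        · rw [sum_ch_center hw, if_pos hw]; ring
        · rw [sum_ch_not_center hc hw, if_neg hw]; ring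
    _ = (Fintype.card G : ℤ) * ∑ w : G, (if w ∈ Subgroup.center G then sg w else 0) := by
        rw [Finset.mul_sum]

theorem TZ_eq {c : G} (hc : Setup c) :
    TZ G = 0 ∨ ((∀ w ∈ Subgroup.center G, w * w = 1) ∧
      TZ G = (Nat.card (Subgroup.center G) : ℤ)) := by
  by_cases h : ∀ w ∈ Subgroup.center G, w * w = 1
  · right
    refine ⟨h, ?_⟩
    have h1 : ∀ w : G, (if w ∈ Subgroup.center G then sg w else 0) =
        if w ∈ Subgroup.center G then (1 : ℤ) else 0 := by
      intro w
      split_ifs with hw
      · exact sg_of_eq_one (h w hw)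
      · rfl
    unfold TZ
    simp_rw [h1]
    rw [Finset.sum_boole, Nat.card_eq_fintype_card, Fintype.card_subtype]
  · left
    push Not at h
    obtain ⟨w₀, hw₀, hne⟩ := h
    have h1 : sg w₀ = -1 := by
      rcases hc.sq w₀ with h | h
      · exact absurd h hne
      · exact sg_of_eq_c hc h
    have h2 : TZ G = ∑ w : G, (if w₀ * w ∈ Subgroup.center G then sg (w₀ * w) else 0) :=
      (Equiv.sum_comp (Equiv.mulLeft w₀)
        (fun w => if w ∈ Subgroup.center G then sg w else 0)).symm
    have h3 : ∑ w : G, (if w₀ * w ∈ Subgroup.center G then sg (w₀ * w) else 0) = - TZ G := by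
      unfold TZ
      rw [← Finset.sum_neg_distrib]
      apply Finset.sum_congr rfl
      intro w _
      have hiff : w₀ * w ∈ Subgroup.center G ↔ w ∈ Subgroup.center G :=
        Subgroup.mul_mem_cancel_left _ hw₀
      by_cases hw : w ∈ Subgroup.center G
      · rw [if_pos (hiff.2 hw), if_pos hw, sg_mul hc, h1,
          ch_of_comm (Subgroup.mem_center_iff.1 hw₀ w)]
        ring
      · rw [if_neg (fun h => hw (hiff.1 h)), if_neg hw]; ring
    linarith

theorem T_eq_J : (∑ x : G, sg x) =
    2 * (Nat.card {x : G // x ^ 2 = 1} : ℤ) - (Fintype.card G : ℤ) := by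
  have h1 : ∀ x : G, sg x = 2 * (if x ^ 2 = 1 then (1 : ℤ) else 0) - 1 := by
    intro x
    unfold sg
    rw [pow_two]
    split_ifs <;> norm_num
  simp_rw [h1]
  rw [Finset.sum_sub_distrib, ← Finset.mul_sum, Finset.sum_boole, Nat.card_eq_fintype_card,
    Fintype.card_subtype]
  simp

end Sums


theorem exists_setup [Finite G] (hG : IsPGroup 2 G) (hΦ : Nat.card (frattini G) = 2) :
    ∃ c : G, Setup c ∧ c ∈ Subgroup.center G := by
  have : Fact (Nat.Prime 2) := ⟨Nat.prime_two⟩
  have hcen : frattini G ≤ Subgroup.center G :=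
    Cfsg.Agent.Lib.Helper63.normal_card_prime_le_center hG (frattini G) hΦ
  obtain ⟨⟨c, hcΦ⟩, hc1, hcuniq⟩ := (Nat.card_eq_two_iff' (1 : frattini G)).1 hΦ
  have hc_ne : c ≠ 1 := fun h => hc1 (Subtype.ext h)
  have hall : ∀ g ∈ frattini G, g = 1 ∨ g = c := by
    intro g hg
    by_cases h : g = 1
    · left; exact h
    · right
      have := hcuniq ⟨g, hg⟩ (fun h' => h (congrArg Subtype.val h'))
      exact congrArg Subtype.val this
  have hS12 := Cfsg.Agent.S0012.result 2 hG
  have hccen : ∀ x : G, c * x = x * c := fun x =>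
    (Subgroup.mem_center_iff.1 (hcen hcΦ) x).symm
  refine ⟨c, ⟨hc_ne, ?_, hccen, ?_, ?_⟩, hcen hcΦ⟩
  · rcases hall (c * c) (Subgroup.mul_mem _ hcΦ hcΦ) with h | h
    · exact h
    · exfalso
      apply hc_ne
      exact mul_left_cancel (a := c) (h.trans (mul_one c).symm)
  · intro x
    have := hS12.2 x
    rw [pow_two] at this
    exact hall _ this
  · intro x y
    have h1 : ⁅x, y⁆ ∈ commutator G := by
      rw [commutator_def]
      exact Subgroup.commutator_mem_commutator (Subgroup.mem_top x) (Subgroup.mem_top y)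
    have h2 := hall _ (hS12.1 h1)
    rw [commutatorElement_def] at h2
    rcases h2 with h | h
    · left
      calc x * y = (x * y * x⁻¹ * y⁻¹) * (y * x) := by group
        _ = y * x := by rw [h, one_mul]
    · right
      calc x * y = (x * y * x⁻¹ * y⁻¹) * (y * x) := by group
        _ = c * (y * x) := by rw [h]
        _ = y * x * c := hccen _


/-- Let G be a finite 2-group whose Frattini subgroup Φ(G) has order 2, with |G : Φ(G)| = 2^d, and let j be the number of elements x of G with x² = 1. Then j = 2^d, or j = 2^d + 2^(d−r) or j = 2^d − 2^(d−r) for some positive integer r with 2r ≤ d. Moreover if d = 2r and j is 2^d + 2^r or 2^d − 2^r, then G is extraspecial. -/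
theorem result {G : Type*} [Group G] [Finite G] (hG : IsPGroup 2 G) (hΦ : Nat.card (frattini G) = 2) (d : ℕ) (hd : (frattini G).index = 2 ^ d) : (Nat.card {x : G // x ^ 2 = 1} = 2 ^ d ∨ ∃ r : ℕ, 1 ≤ r ∧ 2 * r ≤ d ∧ (Nat.card {x : G // x ^ 2 = 1} = 2 ^ d + 2 ^ (d - r) ∨ Nat.card {x : G // x ^ 2 = 1} + 2 ^ (d - r) = 2 ^ d)) ∧ (∀ r : ℕ, d = 2 * r → (Nat.card {x : G // x ^ 2 = 1} = 2 ^ d + 2 ^ r ∨ Nat.card {x : G // x ^ 2 = 1} + 2 ^ r = 2 ^ d) → Cfsg.IsExtraspecial 2 G) := by
  have : Fact (Nat.Prime 2) := ⟨Nat.prime_two⟩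
  have : Fintype G := Fintype.ofFinite G
  obtain ⟨c, hc, hcZ⟩ := exists_setup hG hΦ
  have hcard : Fintype.card G = 2 * 2 ^ d := by
    rw [← Nat.card_eq_fintype_card, ← Subgroup.card_mul_index (frattini G), hΦ, hd]
  set J := Nat.card {x : G // x ^ 2 = 1} with hJ
  set T : ℤ := ∑ x : G, sg x with hT
  have hTJ : T = 2 * (J : ℤ) - 2 * 2 ^ d := by
    rw [hT, T_eq_J, hcard]; push_cast; ring
  have hTT : T * T = (2 * 2 ^ d : ℤ) * TZ G := by
    rw [hT, T_sq hc, hcard]; push_cast; ring
  have hpos : (0 : ℤ) < 2 ^ d := by positivity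
  rcases TZ_eq hc with h0 | ⟨hsq, hZ⟩
  · -- T = 0
    rw [h0, mul_zero] at hTT
    have hT0 : T = 0 := by
      rcases mul_eq_zero.1 hTT with h | h <;> exact h
    have hJd : (J : ℤ) = 2 ^ d := by linarith
    have hJd' : J = 2 ^ d := by exact_mod_cast hJd
    refine ⟨Or.inl hJd', ?_⟩
    intro r _ hr
    exfalso
    have hr0 : 0 < 2 ^ r := by positivity
    rcases hr with h | h <;> omega
  · -- TZ = |Z|
    obtain ⟨z, hz⟩ := IsPGroup.iff_card.1 (hG.to_subgroup (Subgroup.center G))
    -- the centre is not everything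
    have hZtop : Subgroup.center G ≠ ⊤ := by
      intro htop
      have h1 : commutator G ≤ (⊥ : Subgroup G) := by
        rw [(commutator_eq_bot_iff_center_eq_top G).2 htop]
      have h2 : ∀ x : G, x ^ 2 ∈ (⊥ : Subgroup G) := by
        intro x
        rw [Subgroup.mem_bot, pow_two]
        exact hsq x (by rw [htop]; exact Subgroup.mem_top x)
      have h3 := Cfsg.Agent.S0013.result 2 hG ⊥ h1 h2
      have h4 : frattini G = ⊥ := le_bot_iff.1 h3
      rw [h4, Subgroup.card_bot] at hΦ
      omega
    have hZbot : Subgroup.center G ≠ ⊥ := by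
      intro hbot
      rw [hbot, Subgroup.mem_bot] at hcZ
      exact hc.c_ne hcZ
    have hz1 : 1 ≤ z := by
      by_contra hcon
      have hz0 : z = 0 := by omega
      rw [hz0, pow_zero] at hz
      exact hZbot (Subgroup.card_eq_one.1 hz)
    have hzle : z ≤ d + 1 := by
      have h1 : Nat.card (Subgroup.center G) ∣ Nat.card G := Subgroup.card_subgroup_dvd_card _
      rw [hz, Nat.card_eq_fintype_card, hcard, ← pow_succ'] at h1
      exact (Nat.pow_dvd_pow_iff_le_right (by norm_num)).1 h1
    have hzne : z ≠ d + 1 := by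
      intro h
      apply hZtop
      apply (Subgroup.card_eq_iff_eq_top _).1
      rw [hz, h, Nat.card_eq_fintype_card, hcard, pow_succ']
    -- T² = 2^(d+1+z)
    have hTT' : T * T = 2 ^ (d + 1 + z) := by
      rw [hTT, hZ, hz]; push_cast; ring
    have hnat : T.natAbs * T.natAbs = 2 ^ (d + 1 + z) := by
      have h1 : ((T.natAbs * T.natAbs : ℕ) : ℤ) = 2 ^ (d + 1 + z) := by
        rw [Int.natAbs_mul_self]
        exact hTT'
      exact_mod_cast h1
    obtain ⟨m, hm_le, hm⟩ : ∃ m, m ≤ d + 1 + z ∧ T.natAbs = 2 ^ m :=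
      (Nat.dvd_prime_pow Nat.prime_two).1 (Dvd.intro _ hnat)
    have h2m : m + m = d + 1 + z := by
      rw [hm, ← pow_add] at hnat
      exact Nat.pow_right_injective (le_refl 2) hnat
    have hm1 : 1 ≤ m := by omega
    have hmd : m ≤ d := by omega
    obtain ⟨m', rfl⟩ : ∃ m', m = m' + 1 := ⟨m - 1, by omega⟩
    have hTabs : T = 2 * 2 ^ m' ∨ T = -(2 * 2 ^ m') := by
      rcases Int.natAbs_eq T with h | h
      · left; rw [h, hm]; push_cast; ring
      · right; rw [h, hm]; push_cast; ring
    have hdr : d - (d - m') = m' := by omega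
    constructor
    · right
      refine ⟨d - m', by omega, by omega, ?_⟩
      rw [hdr]
      rcases hTabs with h | h
      · left
        have : (J : ℤ) = 2 ^ d + 2 ^ m' := by linarith
        exact_mod_cast this
      · right
        have : (J : ℤ) + 2 ^ m' = 2 ^ d := by linarith
        exact_mod_cast this
    · intro r hr hJr
      -- T = ± 2^(r+1)
      have hTr : T * T = 2 ^ (d + 2) := by
        have h1 : T = 2 * 2 ^ r ∨ T = -(2 * 2 ^ r) := by
          rcases hJr with h | h
          · left
            have : (J : ℤ) = 2 ^ d + 2 ^ r := by exact_mod_cast h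
            linarith
          · right
            have : (J : ℤ) + 2 ^ r = 2 ^ d := by exact_mod_cast h
            linarith
        have h2 : T * T = (2 * 2 ^ r) * (2 * 2 ^ r) := by
          rcases h1 with h | h <;> rw [h] <;> ring
        rw [h2, hr]
        ring
      have hz1' : z = 1 := by
        rw [hTT'] at hTr
        have := Int.pow_right_injective (le_refl 2) hTr
        omega
      rw [hz1', pow_one] at hz
      -- assemble extraspecial
      have hcen : frattini G ≤ Subgroup.center G :=
        Cfsg.Agent.Lib.Helper63.normal_card_prime_le_center hG (frattini G) hΦ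
      have hFZ : frattini G = Subgroup.center G :=
        Subgroup.eq_of_le_of_card_ge hcen (by rw [hz, hΦ])
      have hS12 := Cfsg.Agent.S0012.result 2 hG
      have hCZ : commutator G = Subgroup.center G := by
        have hle : commutator G ≤ Subgroup.center G := hS12.1.trans hcen
        have hne : commutator G ≠ ⊥ := fun h =>
          hZtop ((commutator_eq_bot_iff_center_eq_top G).1 h)
        have hdvd : Nat.card (commutator G) ∣ 2 := by
          rw [← hz]; exact Subgroup.card_dvd_of_le hle
        have hcard2 : Nat.card (commutator G) = 2 := by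
          rcases (Nat.dvd_prime Nat.prime_two).1 hdvd with h | h
          · exact absurd (Subgroup.card_eq_one.1 h) hne
          · exact h
        exact Subgroup.eq_of_le_of_card_ge hle (by rw [hz, hcard2])
      exact ⟨⟨hG, hFZ, hCZ⟩, hz⟩

end Cfsg.Agent.S3772
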