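import Cfsg.Statements.S3773
import Cfsg.Agent.Lib.Helper63.QuadCW4
import Cfsg.Agent.S0012
import Cfsg.Agent.S0013

set_option autoImplicit false
open Cfsg

namespace Cfsg.Agent.S3773

open Cfsg.Agent.Lib.Helper63
open scoped commutatorElement

/-- Let G be a finite 2-group of nilpotency class at most 2 and exponent dividing 4 in which the elements x with x² = 1 form a subgroup N. Then |G| ≤ |N|³, and |G| < |N|³ unless G is special. -/
theorem result {G : Type*} [Group G] [Finite G] (hG : IsPGroup 2 G) (hcl : (⊤ : Subgroup G).lowerCentralSeries 2 = ⊥) (hexp : ∀ x : G, x ^ 4 = 1) (hN : ∀ x y : G, x ^ 2 = 1 → y ^ 2 = 1 → (x * y) ^ 2 = 1) : Nat.card G ≤ Nat.card {x : G // x ^ 2 = 1} ^ 3 ∧ (¬ Cfsg.IsSpecial 2 G → Nat.card G < Nat.card {x : G // x ^ 2 = 1} ^ 3) := by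
  classical
  have hc : ∀ a b c : G, ⁅a, b⁆ * c = c * ⁅a, b⁆ := by
    intro a b c
    have h1 : ⁅⁅a, b⁆, c⁆ ∈ (⊤ : Subgroup G).lowerCentralSeries 2 := by
      show ⁅⁅a, b⁆, c⁆ ∈ ⁅⁅(⊤ : Subgroup G), ⊤⁆, ⊤⁆
      exact Subgroup.commutator_mem_commutator
        (Subgroup.commutator_mem_commutator (Subgroup.mem_top a) (Subgroup.mem_top b))
        (Subgroup.mem_top c)
    rw [hcl, Subgroup.mem_bot, commutatorElement_eq_one_iff_mul_comm] at h1
    exact h1
  have h : Sq4 G := ⟨hc, hexp, hN⟩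
  have hcardN : Nat.card {x : G // x ^ 2 = 1} = Nat.card h.inv := rfl
  rw [hcardN]
  have hmulidx := h.inv.card_mul_index
  have hn0 : 0 < Nat.card h.inv := Nat.card_pos
  have hle : h.inv.index ≤ (Nat.card h.inv) ^ 2 := by
    have h1 := h.relIndex_le ⊤ h.inv le_rfl (fun a _ => h.sq_mem a) h.comm_mem
    rwa [Subgroup.relIndex_top_right] at h1
  have h1 : Nat.card G ≤ (Nat.card h.inv) ^ 3 := by
    rw [← hmulidx]
    calc Nat.card h.inv * h.inv.index ≤ Nat.card h.inv * (Nat.card h.inv) ^ 2 :=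
          Nat.mul_le_mul_left _ hle
      _ = (Nat.card h.inv) ^ 3 := by ring
  refine ⟨h1, ?_⟩
  intro hns
  by_contra hcon
  push Not at hcon
  apply hns
  have hidx : h.inv.index = (Nat.card h.inv) ^ 2 := by
    have h2 : Nat.card h.inv * (Nat.card h.inv) ^ 2 ≤ Nat.card h.inv * h.inv.index := by
      rw [hmulidx]
      calc Nat.card h.inv * (Nat.card h.inv) ^ 2 = (Nat.card h.inv) ^ 3 := by ring
        _ ≤ Nat.card G := hcon
    exact le_antisymm hle (Nat.le_of_mul_le_mul_left h2 hn0)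
  have hZ := h.center_le _ rfl hidx
  have hC := h.commutator_eq _ rfl hidx
  have hCZ : commutator G ≤ Subgroup.center G := by
    rw [commutator_def, Subgroup.commutator_le]
    intro a _ b _
    rw [Subgroup.mem_center_iff]
    intro g
    exact (hc a b g).symm
  have hZeq : Subgroup.center G = h.inv := le_antisymm hZ (hC ▸ hCZ)
  have hF : frattini G = h.inv := by
    have hFle : frattini G ≤ h.inv :=
      Cfsg.Agent.S0013.result 2 hG h.inv h.commutator_le (fun x => h.sq_mem x)
    have h12 := Cfsg.Agent.S0012.result 2 hG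
    have hle2 := h.relIndex_le ⊤ (frattini G) hFle (fun a _ => h12.2 a) (fun a b => h12.1 (by
      rw [commutator_def]
      exact Subgroup.commutator_mem_commutator (Subgroup.mem_top a) (Subgroup.mem_top b)))
    rw [Subgroup.relIndex_top_right, hidx] at hle2
    have h3 : Nat.card h.inv ≤ Nat.card (frattini G) :=
      (Nat.pow_le_pow_iff_left (by norm_num)).1 hle2
    exact Subgroup.eq_of_le_of_card_ge hFle h3
  exact ⟨hG, by rw [hF, hZeq], by rw [hC, hZeq]⟩

end Cfsg.Agent.S3773
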