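-- S3774 (helper63): 2-groups whose automorphism group is transitive on involutions.
import Mathlib
import Cfsg.Statements.S3774

set_option autoImplicit false
open Cfsg

namespace Cfsg.Agent.S3774

open scoped Classical

variable {G : Type*} [Group G]

/-- the involution in the cyclic group generated by `x` (for `x` of 2-power order) -/
noncomputable def inv2 (x : G) : G := x ^ (orderOf x / 2)

theorem inv2_map (a : MulAut G) (x : G) : inv2 (a x) = a (inv2 x) := by
  unfold inv2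
  rw [MulEquiv.orderOf_eq, map_pow]

theorem orderOf_two_pow [Finite G] (hG : IsPGroup 2 G) {x : G} (hx : x ≠ 1) :
    ∃ j, orderOf x = 2 ^ (j + 1) := by
  obtain ⟨k, hk⟩ := hG.exists_orderOf_eq_pow x
  cases k with
  | zero =>
    rw [pow_zero, orderOf_eq_one_iff] at hk
    exact absurd hk hx
  | succ j => exact ⟨j, hk⟩

theorem inv2_spec [Finite G] (hG : IsPGroup 2 G) {x : G} (hx : x ≠ 1) :
    inv2 x ≠ 1 ∧ inv2 x ^ 2 = 1 := by
  obtain ⟨j, hj⟩ := orderOf_two_pow hG hx
  have hdiv : orderOf x / 2 = 2 ^ j := by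
    rw [hj, pow_succ, Nat.mul_div_cancel _ (by norm_num : 0 < 2)]
  unfold inv2
  rw [hdiv]
  constructor
  · intro h
    have := orderOf_dvd_of_pow_eq_one h
    rw [hj] at this
    have h2 : 2 ^ (j + 1) ≤ 2 ^ j := Nat.le_of_dvd (by positivity) this
    rw [pow_succ] at h2
    have : 0 < 2 ^ j := by positivity
    omega
  · rw [← pow_mul, ← pow_succ, ← hj]
    exact pow_orderOf_eq_one x


theorem central_of_sq [Finite G] [Nontrivial G] (hG : IsPGroup 2 G)
    (htrans : ∀ x y : G, x ≠ 1 → x ^ 2 = 1 → y ≠ 1 → y ^ 2 = 1 → ∃ a : MulAut G, a x = y) :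
    (∃ t : G, t ≠ 1 ∧ t ^ 2 = 1) ∧ ∀ x : G, x ^ 2 = 1 → x ∈ Subgroup.center G := by
  have hnt : Nontrivial (Subgroup.center G) := hG.center_nontrivial
  obtain ⟨⟨z, hz⟩, hz1⟩ := exists_ne (1 : Subgroup.center G)
  have hz1' : z ≠ 1 := fun h => hz1 (Subtype.ext h)
  have ht := inv2_spec hG hz1'
  have htc : inv2 z ∈ Subgroup.center G := Subgroup.pow_mem _ hz _
  refine ⟨⟨inv2 z, ht⟩, ?_⟩
  intro x hx
  by_cases hx1 : x = 1
  · rw [hx1]; exact Subgroup.one_mem _
  · obtain ⟨a, ha⟩ := htrans (inv2 z) x ht.1 ht.2 hx1 hx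
    rw [← ha, Subgroup.mem_center_iff]
    intro g
    have h1 := Subgroup.mem_center_iff.1 htc (a.symm g)
    have h2 := congrArg a h1
    simpa using h2

/-- the subgroup of elements of order dividing 2, when these are all central -/
def Om (h : ∀ x : G, x ^ 2 = 1 → x ∈ Subgroup.center G) : Subgroup G where
  carrier := {x | x ^ 2 = 1}
  one_mem' := by simp
  mul_mem' := by
    intro x y hx hy
    have hxy : Commute x y := Subgroup.mem_center_iff.1 (h y hy) x
    show (x * y) ^ 2 = 1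
    have hx' : x ^ 2 = 1 := hx
    have hy' : y ^ 2 = 1 := hy
    rw [hxy.mul_pow, hx', hy', one_mul]
  inv_mem' := by
    intro x hx
    have hx' : x ^ 2 = 1 := hx
    show (x⁻¹) ^ 2 = 1
    rw [inv_pow, hx', inv_one]

theorem count [Fintype G] (hG : IsPGroup 2 G)
    (htrans : ∀ x y : G, x ≠ 1 → x ^ 2 = 1 → y ≠ 1 → y ^ 2 = 1 → ∃ a : MulAut G, a x = y)
    (t₀ : G) (ht₀ : t₀ ≠ 1 ∧ t₀ ^ 2 = 1) :
    ∃ ρ : ℕ, Fintype.card G - 1 = (Fintype.card {x : G // x ^ 2 = 1} - 1) * ρ := by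
  have : Finite G := Finite.of_fintype G
  set s : Finset G := Finset.univ.erase 1 with hs
  set t : Finset G := (Finset.univ.filter (fun x : G => x ^ 2 = 1)).erase 1 with ht
  have hmem_s : ∀ x : G, x ∈ s ↔ x ≠ 1 := by
    intro x; simp [hs]
  have hmem_t : ∀ x : G, x ∈ t ↔ x ≠ 1 ∧ x ^ 2 = 1 := by
    intro x; simp [ht]
  have H : ∀ x ∈ s, inv2 x ∈ t := by
    intro x hx
    rw [hmem_t]
    exact inv2_spec hG ((hmem_s x).1 hx)
  have h1 := Finset.card_eq_sum_card_fiberwise H
  have h2 : ∀ b ∈ t, (s.filter (fun a => inv2 a = b)).card =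
      (s.filter (fun a => inv2 a = t₀)).card := by
    intro b hb
    obtain ⟨hb1, hb2⟩ := (hmem_t b).1 hb
    obtain ⟨a, ha⟩ := htrans t₀ b ht₀.1 ht₀.2 hb1 hb2
    symm
    apply Finset.card_bij (fun x _ => a x)
    · intro x hx
      rw [Finset.mem_filter] at hx ⊢
      refine ⟨?_, ?_⟩
      · rw [hmem_s] at hx ⊢
        intro h
        apply hx.1
        have := congrArg a.symm h
        simpa using this
      · rw [inv2_map, hx.2, ha]
    · intro x _ y _ hxy
      exact a.injective hxy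
    · intro y hy
      rw [Finset.mem_filter] at hy
      refine ⟨a.symm y, ?_, by simp⟩
      rw [Finset.mem_filter]
      refine ⟨?_, ?_⟩
      · rw [hmem_s] at hy ⊢
        intro h
        apply hy.1
        have := congrArg a h
        simpa using this
      · have : inv2 ((a.symm : MulAut G) y) = (a.symm : MulAut G) (inv2 y) := inv2_map a.symm y
        rw [this, hy.2, ← ha]
        simp
  rw [Finset.sum_congr rfl h2, Finset.sum_const, smul_eq_mul] at h1
  refine ⟨(s.filter (fun a => inv2 a = t₀)).card, ?_⟩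
  have hs_card : s.card = Fintype.card G - 1 := by
    rw [hs, Finset.card_erase_of_mem (Finset.mem_univ _), Finset.card_univ]
  have ht_card : t.card = Fintype.card {x : G // x ^ 2 = 1} - 1 := by
    rw [ht, Finset.card_erase_of_mem (by simp), Fintype.card_subtype]
  rw [← hs_card, ← ht_card]
  exact h1

theorem dvd_of_pow_sub_one_dvd {k N : ℕ} (h : 2 ^ k - 1 ∣ 2 ^ N - 1) : k ∣ N := by
  have h1 : Nat.gcd (2 ^ k - 1) (2 ^ N - 1) = 2 ^ k - 1 := Nat.gcd_eq_left h
  rw [Nat.pow_sub_one_gcd_pow_sub_one] at h1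
  have h2 : 2 ^ Nat.gcd k N = 2 ^ k := by
    have a1 : 1 ≤ 2 ^ Nat.gcd k N := Nat.one_le_two_pow
    have a2 : 1 ≤ 2 ^ k := Nat.one_le_two_pow
    omega
  have h3 : Nat.gcd k N = k := Nat.pow_right_injective (le_refl 2) h2
  rw [← h3]
  exact Nat.gcd_dvd_right k N

/-- Let G be a nontrivial finite 2-group whose automorphism group permutes the involutions of G transitively. Then every involution of G is central, so that the involutions together with 1 form the subgroup Ω₁(Z(G)), and if this subgroup has order q then |G| is a power of q. -/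
theorem result {G : Type*} [Group G] [Finite G] [Nontrivial G] (hG : IsPGroup 2 G) (htrans : ∀ x y : G, x ≠ 1 → x ^ 2 = 1 → y ≠ 1 → y ^ 2 = 1 → ∃ a : MulAut G, a x = y) : (∀ x : G, x ^ 2 = 1 → x ∈ Subgroup.center G) ∧ ∃ m : ℕ, Nat.card G = Nat.card {z : G // z ^ 2 = 1} ^ m := by
  obtain ⟨⟨t₀, ht₀⟩, hcen⟩ := central_of_sq hG htrans
  refine ⟨hcen, ?_⟩
  have : Fintype G := Fintype.ofFinite G
  obtain ⟨ρ, hρ⟩ := count hG htrans t₀ ht₀
  obtain ⟨N, hN⟩ := IsPGroup.iff_card.1 hG
  obtain ⟨k, hk⟩ := IsPGroup.iff_card.1 (hG.to_subgroup (Om hcen))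
  have hk' : Nat.card {z : G // z ^ 2 = 1} = 2 ^ k := hk
  rw [← Nat.card_eq_fintype_card, ← Nat.card_eq_fintype_card, hN, hk'] at hρ
  have hdvd : k ∣ N := dvd_of_pow_sub_one_dvd (Dvd.intro _ hρ.symm)
  obtain ⟨m, rfl⟩ := hdvd
  exact ⟨m, by rw [hN, hk', pow_mul]⟩

end Cfsg.Agent.S3774
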