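import Cfsg.Statements.S3776
import Cfsg.Agent.Lib.Helper85.Suz2Fin

set_option autoImplicit false
open Cfsg

namespace Cfsg.Agent.S3776

/-- Let G be a finite non-abelian 2-group with more than one involution admitting a solvable group of automorphisms that permutes its involutions transitively. Then the derived subgroup, the Frattini subgroup and the centre of G coincide and consist exactly of the elements x with x² = 1. -/
theorem result {G : Type*} [Group G] [Finite G] (hG : IsPGroup 2 G) (hna : ¬ IsMulCommutative G) (htwo : ∃ x y : G, x ≠ y ∧ x ≠ 1 ∧ x ^ 2 = 1 ∧ y ≠ 1 ∧ y ^ 2 = 1) (hY : ∃ Y : Subgroup (MulAut G), Group.IsSolvable Y ∧ ∀ x y : G, x ≠ 1 → x ^ 2 = 1 → y ≠ 1 → y ^ 2 = 1 → ∃ a ∈ Y, a x = y) : commutator G = frattini G ∧ frattini G = Subgroup.center G ∧ ∀ x : G, x ∈ Subgroup.center G ↔ x ^ 2 = 1 := by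
  classical
  obtain ⟨Y, hYsol, hYtr⟩ := hY
  have h : Cfsg.Agent.Lib.Helper85.Suz2.SHyp G Y := by
    refine ⟨inferInstance, hG, hYsol, ?_, ?_⟩
    · intro x y hx1 hx2 hy1 hy2
      exact hYtr x y hx1 (by rw [pow_two]; exact hx2) hy1 (by rw [pow_two]; exact hy2)
    · obtain ⟨x, y, hxy, hx1, hx2, hy1, hy2⟩ := htwo
      exact ⟨x, y, hxy, hx1, by rw [← pow_two]; exact hx2, hy1, by rw [← pow_two]; exact hy2⟩
  have hna' : ∃ x y : G, x * y ≠ y * x := by
    by_contra hcon
    push Not at hcon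
    exact hna ⟨⟨hcon⟩⟩
  exact Cfsg.Agent.Lib.Helper85.Suz2.SHyp.structure h hna'

end Cfsg.Agent.S3776
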