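import Cfsg.Statements.S3778
-- import your own Cfsg.Agent.* helpers here
import Mathlib

set_option autoImplicit false
open Cfsg
open scoped commutatorElement

namespace Cfsg.Agent.S3778

/-- Terms of the lower central series of the whole group. -/
abbrev L (G : Type*) [Group G] (i : ℕ) : Subgroup G := (⊤ : Subgroup G).lowerCentralSeries i

/-- The "two-step centralizer": elements `x` with `[L i, x] ≤ L (i+2)`. -/
def A (G : Type*) [Group G] (i : ℕ) : Subgroup G where
  carrier := {x | ∀ g ∈ L G i, Commute (g : G ⧸ L G (i + 2)) (x : G ⧸ L G (i + 2))}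
  one_mem' := fun g _ => by
    show Commute (g : G ⧸ L G (i + 2)) ((1 : G) : G ⧸ L G (i + 2))
    rw [QuotientGroup.mk_one]; exact Commute.one_right _
  mul_mem' := fun {x y} hx hy g hg => by
    have h1 := hx g hg
    have h2 := hy g hg
    show Commute (g : G ⧸ L G (i + 2)) ((x * y : G) : G ⧸ L G (i + 2))
    rw [QuotientGroup.mk_mul]; exact h1.mul_right h2
  inv_mem' := fun {x} hx g hg => by
    have h1 := hx g hg
    show Commute (g : G ⧸ L G (i + 2)) ((x⁻¹ : G) : G ⧸ L G (i + 2))
    rw [QuotientGroup.mk_inv]; exact h1.inv_right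

variable {G : Type*} [Group G]

theorem mem_A_iff (i : ℕ) (x : G) : x ∈ A G i ↔ ∀ g ∈ L G i, ⁅g, x⁆ ∈ L G (i + 2) := by
  constructor
  · intro hx g hg
    have h1 : Commute (g : G ⧸ L G (i + 2)) (x : G ⧸ L G (i + 2)) := hx g hg
    rw [← QuotientGroup.eq_one_iff, commutatorElement_def]
    have h2 : (g : G ⧸ L G (i + 2)) * x = x * g := h1
    simp only [QuotientGroup.mk_mul, QuotientGroup.mk_inv]
    rw [h2]; group
  · intro hx g hg
    have h1 := hx g hg
    rw [← QuotientGroup.eq_one_iff, commutatorElement_def] at h1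
    simp only [QuotientGroup.mk_mul, QuotientGroup.mk_inv] at h1
    show (g : G ⧸ L G (i + 2)) * x = x * g
    have : (g : G ⧸ L G (i + 2)) * x = ((g : G ⧸ L G (i + 2)) * x * (g : G ⧸ L G (i + 2))⁻¹ * (x : G ⧸ L G (i + 2))⁻¹) * (x * g) := by group
    rw [this, h1, one_mul]

theorem L_succ (i : ℕ) : L G (i + 1) = ⁅L G i, (⊤ : Subgroup G)⁆ := rfl

theorem L_stable {i : ℕ} (h : L G i = L G (i + 1)) (k : ℕ) : L G (i + k) = L G i := by
  induction k with
  | zero => rfl
  | succ k ih =>
    have : L G (i + (k + 1)) = ⁅L G (i + k), (⊤ : Subgroup G)⁆ := rfl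
    rw [this, ih, ← L_succ, ← h]

theorem A_ne_top {i c : ℕ} (hc : L G c = ⊥) (hi : L G (i + 1) ≠ ⊥) (hic : i + 1 ≤ c) : A G i ≠ ⊤ := by
  intro htop
  have h1 : L G (i + 1) ≤ L G (i + 2) := by
    rw [L_succ, Subgroup.commutator_le]
    intro g hg x _
    have hx : x ∈ A G i := by rw [htop]; trivial
    exact (mem_A_iff i x).1 hx g hg
  have h2 : L G (i + 1) = L G (i + 1 + 1) :=
    le_antisymm h1 ((⊤ : Subgroup G).lowerCentralSeries_antitone (by omega))
  have h3 := L_stable h2 (c - (i + 1))
  have h4 : i + 1 + (c - (i + 1)) = c := by omega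
  rw [h4, hc] at h3
  exact hi h3.symm

/-- The chain `C_G(x) ⊔ L j`. -/
def D (x : G) (j : ℕ) : Subgroup G := Subgroup.centralizer ({x} : Set G) ⊔ L G j

theorem D_anti (x : G) (j : ℕ) : D x (j + 1) ≤ D x j :=
  sup_le_sup_left ((⊤ : Subgroup G).lowerCentralSeries_antitone (Nat.le_succ j)) _

theorem D_lt {x : G} {i : ℕ} (hx : x ∉ A G i) : D x (i + 1) < D x i := by
  refine lt_of_le_of_ne (D_anti x i) ?_
  intro heq
  rw [mem_A_iff] at hx
  push Not at hx
  obtain ⟨g, hg, hgx⟩ := hx
  have hgD : g ∈ D x (i + 1) := by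
    rw [heq]; exact Subgroup.mem_sup_right hg
  have hgD' : g ∈ Subgroup.centralizer ({x} : Set G) ⊔ L G (i + 1) := hgD
  rw [← SetLike.mem_coe, Subgroup.mul_normal] at hgD'
  obtain ⟨c, hc, h, hh, rfl⟩ := hgD'
  apply hgx
  have hc' : ⁅c, x⁆ = 1 := by
    have := Subgroup.mem_centralizer_singleton_iff.1 hc
    rw [commutatorElement_eq_one_iff_commute]
    exact this
  have hform : ⁅c * h, x⁆ = c * ⁅h, x⁆ * c⁻¹ * ⁅c, x⁆ := by
    simp only [commutatorElement_def]; group
  rw [hform, hc', mul_one]
  have h2 : ⁅h, x⁆ ∈ L G (i + 2) := by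
    have : L G (i + 2) = ⁅L G (i + 1), (⊤ : Subgroup G)⁆ := rfl
    rw [this]
    exact Subgroup.commutator_mem_commutator hh (Subgroup.mem_top x)
  have hn : (L G (i + 2)).Normal := inferInstance
  exact hn.conj_mem _ h2 c

open Classical in
theorem chain_bound [Finite G] {p : ℕ} [Fact p.Prime] (hG : IsPGroup p G) (x : G) (j : ℕ) :
    p ^ ((Finset.range j).filter (fun i => x ∉ A G i)).card ≤ (D x j).index := by
  have hp : p.Prime := Fact.out
  induction j with
  | zero =>
    simp only [Finset.range_zero, Finset.filter_empty, Finset.card_empty, pow_zero]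
    exact Nat.one_le_iff_ne_zero.2 (Subgroup.index_ne_zero_of_finite)
  | succ j ih =>
    have hmul : (D x (j + 1)).relIndex (D x j) * (D x j).index = (D x (j + 1)).index :=
      Subgroup.relIndex_mul_index (D_anti x j)
    rw [Finset.range_add_one, Finset.filter_insert]
    by_cases hx : x ∉ A G j
    · rw [if_pos hx, Finset.card_insert_of_notMem (by simp)]
      have hlt := D_lt hx
      have hne1 : (D x (j + 1)).relIndex (D x j) ≠ 1 := by
        intro h1
        rw [Subgroup.relIndex_eq_one] at h1
        exact absurd h1 (not_le_of_gt hlt)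
      obtain ⟨n, hn⟩ := IsPGroup.iff_card.1 hG
      have hdvd : (D x (j + 1)).relIndex (D x j) ∣ p ^ n := by
        rw [← hn]
        exact (Subgroup.relIndex_dvd_card _ _).trans (Subgroup.card_subgroup_dvd_card _)
      obtain ⟨m, _, hm⟩ := (Nat.dvd_prime_pow hp).1 hdvd
      have hm1 : m ≠ 0 := by
        rintro rfl
        exact hne1 (by simpa using hm)
      have hge : p ≤ (D x (j + 1)).relIndex (D x j) := by
        rw [hm]
        calc p = p ^ 1 := (pow_one p).symm
          _ ≤ p ^ m := Nat.pow_le_pow_right hp.pos (Nat.one_le_iff_ne_zero.2 hm1)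
      rw [← hmul, pow_succ, mul_comm]
      exact Nat.mul_le_mul hge ih
    · rw [if_neg hx, ← hmul]
      have hpos : 0 < (D x (j + 1)).relIndex (D x j) :=
        Nat.pos_of_ne_zero (fun h0 => by
          have h00 := hmul
          rw [h0, zero_mul] at h00
          exact Subgroup.index_ne_zero_of_finite h00.symm)
      calc _ ≤ (D x j).index := ih
        _ = 1 * (D x j).index := (one_mul _).symm
        _ ≤ _ := Nat.mul_le_mul hpos le_rfl

theorem final_arith {p b n N : ℕ} (hp : 2 ≤ p) (hb : 1 ≤ b) (hN : 1 ≤ N)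
    (h : p * (n + (N - 1) * (n - b)) ≤ n * N) : n * (p - 1) < b * p := by
  by_contra hcon
  push Not at hcon
  obtain ⟨q, rfl⟩ : ∃ q, p = q + 2 := ⟨p - 2, by omega⟩
  obtain ⟨M, rfl⟩ : ∃ M, N = M + 1 := ⟨N - 1, by omega⟩
  have h1 : q + 2 - 1 = q + 1 := by omega
  rw [h1] at hcon
  have hbn : b < n := by
    by_contra hbn
    push Not at hbn
    have : n * (q + 1) ≤ b * (q + 1) := Nat.mul_le_mul_right _ hbn
    nlinarith
  obtain ⟨d, rfl⟩ : ∃ d, n = b + d := ⟨n - b, by omega⟩
  have h2 : M + 1 - 1 = M := by omega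
  have h3 : b + d - b = d := by omega
  rw [h2, h3] at h
  nlinarith

open Classical in
/-- If G is a finite p-group in which every conjugacy class has at most p^b elements (every element has centralizer of index at most p^b), then G is abelian when b = 0, and when b ≥ 1 its nilpotency class c satisfies (c − 1)(p − 1) < bp, that is c < bp/(p − 1) + 1, and hence c ≤ 2b. -/
theorem result {G : Type*} [Group G] [Finite G] {p : ℕ} [Fact p.Prime] (hG : IsPGroup p G) (b : ℕ) (hb : ∀ x : G, (Subgroup.centralizer ({x} : Set G)).index ≤ p ^ b) : ∃ c : ℕ, (⊤ : Subgroup G).lowerCentralSeries c = ⊥ ∧ (b ≠ 0 → (c - 1) * (p - 1) < b * p ∧ c ≤ 2 * b) ∧ (b = 0 → c ≤ 1) := by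
  have hp : p.Prime := Fact.out
  haveI : Group.IsNilpotent G := hG.isNilpotent
  have hex : ∃ n, L G n = ⊥ := nilpotent_iff_lowerCentralSeries.1 inferInstance
  have hc : L G (Nat.find hex) = ⊥ := Nat.find_spec hex
  have hmin : ∀ m, m < Nat.find hex → L G m ≠ ⊥ := fun m hm => Nat.find_min hex hm
  generalize Nat.find hex = c at hc hmin
  refine ⟨c, hc, ?_, ?_⟩
  · intro hb0
    haveI : Fintype G := Fintype.ofFinite G
    obtain ⟨n, hn⟩ : ∃ n, n = c - 1 := ⟨_, rfl⟩
    have hnc : n ≤ c := by omega
    have hcnt : ∀ x : G, ((Finset.range n).filter (fun i => x ∉ A G i)).card ≤ b := by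
      intro x
      have h1 := chain_bound hG x c
      have h2 : (D x c).index = (Subgroup.centralizer ({x} : Set G)).index := by
        unfold D; rw [hc, sup_bot_eq]
      rw [h2] at h1
      have h3 := h1.trans (hb x)
      have h4 := (Nat.pow_le_pow_iff_right hp.one_lt).1 h3
      refine le_trans (Finset.card_le_card ?_) h4
      exact Finset.filter_subset_filter _ (Finset.range_mono hnc)
    have hA : ∀ i ∈ Finset.range n, p * Nat.card (A G i) ≤ Nat.card G := by
      intro i hi
      rw [Finset.mem_range] at hi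
      have hne : A G i ≠ ⊤ := A_ne_top hc (hmin (i + 1) (by omega)) (by omega)
      have hidx : (A G i).index ≠ 1 := fun h => hne (Subgroup.index_eq_one.1 h)
      obtain ⟨m, hm⟩ := hG.index (A G i)
      have hdvd : p ∣ (A G i).index := by
        rw [hm]
        cases m with
        | zero => rw [pow_zero] at hm; exact absurd hm hidx
        | succ m => exact dvd_pow_self p (Nat.succ_ne_zero m)
      have hle : p ≤ (A G i).index :=
        Nat.le_of_dvd (Nat.pos_of_ne_zero Subgroup.index_ne_zero_of_finite) hdvd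
      rw [← Subgroup.card_mul_index (A G i), mul_comm]
      exact Nat.mul_le_mul le_rfl hle
    have hcardA : ∀ i, Nat.card (A G i) =
        ((Finset.univ : Finset G).filter (fun x => x ∈ A G i)).card := by
      intro i
      rw [← Fintype.card_subtype]
      exact @Nat.card_eq_fintype_card _ (Subtype.fintype _)
    have hdc : ∑ i ∈ Finset.range n, ((Finset.univ : Finset G).filter (fun x => x ∈ A G i)).card
        = ∑ x : G, ((Finset.range n).filter (fun i => x ∈ A G i)).card :=
      Finset.sum_card_bipartiteAbove_eq_sum_card_bipartiteBelow (fun i x => x ∈ A G i)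
    have hupper : p * ∑ i ∈ Finset.range n, Nat.card (A G i) ≤ n * Nat.card G := by
      rw [Finset.mul_sum]
      calc ∑ i ∈ Finset.range n, p * Nat.card (A G i)
          ≤ ∑ _i ∈ Finset.range n, Nat.card G := Finset.sum_le_sum hA
        _ = n * Nat.card G := by simp
    have hxcnt : ∀ x : G, n - b ≤ ((Finset.range n).filter (fun i => x ∈ A G i)).card := by
      intro x
      have h1 := Finset.card_filter_add_card_filter_not (s := Finset.range n) (fun i => x ∈ A G i)
      rw [Finset.card_range] at h1
      have h2 := hcnt x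
      omega
    have h1cnt : ((Finset.range n).filter (fun i => (1 : G) ∈ A G i)).card = n := by
      rw [Finset.filter_true_of_mem (fun i _ => one_mem _), Finset.card_range]
    have hlower : n + (Nat.card G - 1) * (n - b) ≤ ∑ i ∈ Finset.range n, Nat.card (A G i) := by
      rw [Finset.sum_congr rfl (fun i _ => hcardA i), hdc,
        ← Finset.add_sum_erase Finset.univ _ (Finset.mem_univ (1 : G)), h1cnt]
      apply Nat.add_le_add_left
      have h3 := Finset.card_nsmul_le_sum ((Finset.univ : Finset G).erase 1)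
        (fun x => ((Finset.range n).filter (fun i => x ∈ A G i)).card) (n - b)
        (fun x _ => hxcnt x)
      rw [Finset.card_erase_of_mem (Finset.mem_univ _), Finset.card_univ, smul_eq_mul,
        ← Nat.card_eq_fintype_card] at h3
      exact h3
    have hfin : p * (n + (Nat.card G - 1) * (n - b)) ≤ n * Nat.card G :=
      (Nat.mul_le_mul_left p hlower).trans hupper
    have hmain : n * (p - 1) < b * p :=
      final_arith hp.two_le (Nat.one_le_iff_ne_zero.2 hb0) Nat.card_pos hfin
    rw [← hn]
    refine ⟨hmain, ?_⟩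
    by_contra hcon
    push Not at hcon
    have hn2 : 2 * b ≤ n := by omega
    obtain ⟨q, rfl⟩ : ∃ q, p = q + 2 := ⟨p - 2, by have := hp.two_le; omega⟩
    have h1 : q + 2 - 1 = q + 1 := by omega
    rw [h1] at hmain
    have : 2 * b * (q + 1) ≤ n * (q + 1) := Nat.mul_le_mul_right _ hn2
    nlinarith
  · intro hb0
    subst hb0
    have hcomm : ∀ x y : G, Commute y x := by
      intro x y
      have h1 := hb x
      rw [pow_zero] at h1
      have h2 : (Subgroup.centralizer ({x} : Set G)).index = 1 := by
        have := Subgroup.index_ne_zero_of_finite (H := Subgroup.centralizer ({x} : Set G))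
        omega
      have h3 := Subgroup.index_eq_one.1 h2
      have h4 : y ∈ Subgroup.centralizer ({x} : Set G) := by rw [h3]; trivial
      exact Subgroup.mem_centralizer_singleton_iff.1 h4
    have h1 : L G 1 = ⊥ := by
      rw [eq_bot_iff]
      show ⁅L G 0, (⊤ : Subgroup G)⁆ ≤ ⊥
      rw [Subgroup.commutator_le]
      intro g _ h _
      rw [Subgroup.mem_bot, commutatorElement_eq_one_iff_commute]
      exact hcomm h g
    by_contra hcon
    push Not at hcon
    exact hmin 1 hcon h1

end Cfsg.Agent.S3778
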