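import Cfsg.Statements.S3783
-- import your own Cfsg.Agent.* helpers here
import Cfsg.Agent.Lib.Helper63.PLen3
import Cfsg.Agent.Lib.Helper63.HHAbGroup

set_option autoImplicit false
open Cfsg

namespace Cfsg.Agent.S3783

open Cfsg.Agent.Lib.Helper63

universe u

theorem aux (p : ℕ) [Fact p.Prime] (N : ℕ) :
    ∀ (G : Type u) [Group G] [Finite G], Nat.card G ≤ N → Cfsg.IsPSolvable p G →
      (∀ (q : ℕ) [Fact q.Prime], q ≠ p → ∀ Q : Sylow q G,
        ∀ a ∈ (Q : Subgroup G), ∀ b ∈ (Q : Subgroup G), a * b = b * a) →
      ∀ n : ℕ, (∀ (P : Sylow p G), ∀ x ∈ (P : Subgroup G), x ^ p ^ n = 1) →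
      Cfsg.PLengthLE p n G := by
  have hp : p.Prime := Fact.out
  induction N with
  | zero =>
    intro G _ _ hn
    exfalso
    have := Nat.card_pos (α := G)
    omega
  | succ N ih =>
    intro G _ _ hn hsolv hab n hexp
    by_cases hN : pPrimeCore p G = ⊥
    · cases n with
      | zero =>
        apply PLengthLE.zero_of_coprime
        have hnd : ¬ p ∣ Nat.card G := by
          intro hdvd
          obtain ⟨P⟩ : Nonempty (Sylow p G) := inferInstance
          apply P.ne_bot_of_dvd_card hdvd
          rw [eq_bot_iff]
          intro x hx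
          have := hexp P x hx
          rw [pow_zero, pow_one] at this
          rw [Subgroup.mem_bot]; exact this
        exact ((Nat.Prime.coprime_iff_not_dvd hp).2 hnd).symm
      | succ k =>
        by_cases hV : pCore p G = ⊥
        · -- `G` is trivial
          have hcoreN : ∀ M : Subgroup G, M.Normal → (Nat.card M).Coprime p → M = ⊥ := by
            intro M hM hMp
            have := Cfsg.Agent.Lib.Helper1.le_pPrimeCore hM hMp
            rw [hN] at this
            exact le_bot_iff.1 this
          have hcent := Cfsg.Agent.Lib.Helper76.centralizer_pCore_le p hsolv hcoreN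
          rw [hV] at hcent
          have htop : (⊤ : Subgroup G) = ⊥ := by
            rw [eq_bot_iff]
            intro x _
            apply hcent
            rw [Subgroup.mem_centralizer_iff]
            intro y hy
            have : y = 1 := Subgroup.mem_bot.1 hy
            rw [this, one_mul, mul_one]
          have hcard : Nat.card G = 1 := by
            rw [← Subgroup.card_top (G := G), htop, Subgroup.card_bot]
          have h0 : Cfsg.PLengthLE p 0 G := by
            apply PLengthLE.zero_of_coprime
            rw [hcard]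
            exact Nat.coprime_one_left p
          exact PLengthLE_mono h0 (Nat.zero_le _)
        · -- pass to `G / O_p(G)`
          have hcard := card_quotient_lt (pCore p G) hV
          have hsurj := QuotientGroup.mk'_surjective (pCore p G)
          have hsolv' : Cfsg.IsPSolvable p (G ⧸ pCore p G) :=
            Cfsg.Agent.Lib.Helper76.IsPSolvable_of_surjective p _ hsurj hsolv
          have hab' : ∀ (q : ℕ) [Fact q.Prime], q ≠ p → ∀ Q : Sylow q (G ⧸ pCore p G),
              ∀ a ∈ (Q : Subgroup (G ⧸ pCore p G)), ∀ b ∈ (Q : Subgroup (G ⧸ pCore p G)),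
              a * b = b * a := by
            intro q _ hq Q
            exact commute_of_isPGroup_quotient (pCore p G) q (hab q hq) Q Q.2
          have hexp' : ∀ (T : Sylow p (G ⧸ pCore p G)), ∀ y ∈ (T : Subgroup (G ⧸ pCore p G)),
              y ^ p ^ k = 1 := by
            intro T y hy
            obtain ⟨S, rfl⟩ := Sylow.mapSurjective_surjective hsurj p T
            rw [Sylow.coe_mapSurjective] at hy
            obtain ⟨s, hs, rfl⟩ := hy
            have h1 := pow_mem_pCore_of_abelian_sylow hsolv hN hab (k + 1) (Nat.succ_le_succ (Nat.zero_le k))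
              hexp S s hs
            rw [Nat.add_sub_cancel] at h1
            rw [← map_pow]
            exact (QuotientGroup.eq_one_iff _).2 h1
          have h1 := ih (G ⧸ pCore p G) (by omega) hsolv' hab' k hexp'
          have h2 : Cfsg.PLengthLE p 1 ↥(pCore p G) :=
            PLengthLE.one_of_isPGroup (Cfsg.Agent.Lib.Helper1.pCore_isPGroup p)
          have h3 := PLengthLE.extension (pCore p G) h2 h1
          rw [Nat.add_comm] at h3
          exact h3
    · -- pass to `G / O_{p'}(G)`
      have hcard := card_quotient_lt (pPrimeCore p G) hN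
      have hsurj := QuotientGroup.mk'_surjective (pPrimeCore p G)
      have hsolv' : Cfsg.IsPSolvable p (G ⧸ pPrimeCore p G) :=
        Cfsg.Agent.Lib.Helper76.IsPSolvable_of_surjective p _ hsurj hsolv
      have hab' : ∀ (q : ℕ) [Fact q.Prime], q ≠ p → ∀ Q : Sylow q (G ⧸ pPrimeCore p G),
          ∀ a ∈ (Q : Subgroup (G ⧸ pPrimeCore p G)), ∀ b ∈ (Q : Subgroup (G ⧸ pPrimeCore p G)),
          a * b = b * a := by
        intro q _ hq Q
        exact commute_of_isPGroup_quotient (pPrimeCore p G) q (hab q hq) Q Q.2
      have hexp' : ∀ (T : Sylow p (G ⧸ pPrimeCore p G)),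
          ∀ y ∈ (T : Subgroup (G ⧸ pPrimeCore p G)), y ^ p ^ n = 1 := by
        intro T y hy
        obtain ⟨S, rfl⟩ := Sylow.mapSurjective_surjective hsurj p T
        rw [Sylow.coe_mapSurjective] at hy
        obtain ⟨s, hs, rfl⟩ := hy
        rw [← map_pow, hexp S s hs, map_one]
      have h1 := ih (G ⧸ pPrimeCore p G) (by omega) hsolv' hab' n hexp'
      have h2 : Cfsg.PLengthLE p 0 ↥(pPrimeCore p G) :=
        PLengthLE.zero_of_coprime (Cfsg.Agent.Lib.Helper1.pPrimeCore_card_coprime p)
      have h3 := PLengthLE.extension (pPrimeCore p G) h2 h1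
      rw [Nat.zero_add] at h3
      exact h3

/-- Let G be a finite p-soluble group in which, for every prime q ≠ p, the Sylow q-subgroups are abelian. If the Sylow p-subgroups of G have exponent dividing p^n, then G has p-length at most n. -/
theorem result {G : Type*} [Group G] [Finite G] {p : ℕ} [Fact p.Prime] (hG : Cfsg.IsPSolvable p G) (hab : ∀ (q : ℕ) [Fact q.Prime], q ≠ p → ∀ Q : Sylow q G, IsMulCommutative (Q : Subgroup G)) (n : ℕ) (hexp : ∀ (P : Sylow p G), ∀ x ∈ (P : Subgroup G), x ^ p ^ n = 1) : Cfsg.PLengthLE p n G := by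
  apply aux p (Nat.card G) G le_rfl hG ?_ n hexp
  intro q _ hq Q a ha b hb
  have h := hab q hq Q
  have := h.is_comm.comm (⟨a, ha⟩ : ↥(Q : Subgroup G)) ⟨b, hb⟩
  exact congrArg Subtype.val this

end Cfsg.Agent.S3783
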