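import Cfsg.Statements.S3784
import Mathlib.NumberTheory.Fermat
import Mathlib.Algebra.Ring.GeomSum

set_option autoImplicit false
open Cfsg

namespace Cfsg.Agent.S3784

open Finset

/-- an odd divisor of a power of two is one -/
theorem odd_dvd_two_pow {d n : ℕ} (hd : Odd d) (h : d ∣ 2 ^ n) : d = 1 := by
  obtain ⟨k, _, rfl⟩ := (Nat.dvd_prime_pow Nat.prime_two).1 h
  rcases Nat.eq_zero_or_pos k with rfl | hk
  · simp
  · exfalso
    have : Even (2 ^ k) := (Nat.even_pow' hk.ne').2 even_two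
    exact (Nat.not_odd_iff_even.2 this) hd

/-- an odd integer dividing a power of two, and positive, is one -/
theorem int_odd_dvd_two_pow {d : ℤ} {n : ℕ} (hd : Odd d) (hpos : 0 < d) (h : d ∣ 2 ^ n) : d = 1 := by
  have h1 : d.natAbs ∣ 2 ^ n := by
    have := Int.natAbs_dvd_natAbs.2 h
    simpa [Int.natAbs_pow] using this
  have h2 : Odd d.natAbs := Int.natAbs_odd.2 hd
  have h3 := odd_dvd_two_pow h2 h1
  omega

/-- geometric sums of an odd integer with an odd number of terms are odd -/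
theorem geom_sum_parity (x : ℤ) (hx : Odd x) (n : ℕ) :
    (∑ i ∈ range n, x ^ i) % 2 = (n : ℤ) % 2 := by
  induction n with
  | zero => simp
  | succ n ih =>
    rw [sum_range_succ]
    have h1 : (x ^ n) % 2 = 1 := Int.odd_iff.1 (hx.pow)
    push_cast
    omega

theorem geom_sum_odd (x : ℤ) (hx : Odd x) (n : ℕ) (hn : Odd n) :
    Odd (∑ i ∈ range n, x ^ i) := by
  rw [Int.odd_iff, geom_sum_parity x hx n]
  have := Nat.odd_iff.1 hn
  omega

/-- the case `q` odd -/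
theorem case_q_odd (p q a b : ℕ) (hp : p.Prime) (hq : q.Prime) (ha : 1 ≤ a) (hb : 1 ≤ b)
    (h : p ^ a = q ^ b + 1) (hq2 : q ≠ 2) : p = 2 ∧ b = 1 ∧ a.Prime ∧ q + 1 = 2 ^ a := by
  have hqodd : Odd q := hq.odd_of_ne_two hq2
  have hp2 : p = 2 := by
    have h1 : Even (p ^ a) := by
      rw [h]
      exact Odd.add_one (hqodd.pow)
    have h2 : Even p := (Nat.even_pow.1 h1).1
    exact (Nat.Prime.even_iff hp).1 h2
  subst hp2
  have hq3 : 3 ≤ q := by
    have := hq.two_le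
    omega
  -- `b` is odd
  have hbodd : Odd b := by
    by_contra hbe
    rw [Nat.not_odd_iff_even] at hbe
    obtain ⟨c, rfl⟩ := hbe
    have hc : 1 ≤ c := by omega
    -- q^(c+c) = (q^c)^2 ≡ 1 mod 4
    have h1 : q ^ (c + c) = (q ^ c) * (q ^ c) := by rw [pow_add]
    have h2 : Odd (q ^ c) := hqodd.pow
    obtain ⟨m, hm⟩ := h2
    have h3 : (q ^ (c + c) + 1) % 4 = 2 := by
      rw [h1, hm]
      have : (2 * m + 1) * (2 * m + 1) + 1 = 4 * (m * m + m) + 2 := by ring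
      rw [this]; omega
    rw [← h] at h3
    -- so a = 1
    have ha1 : a = 1 := by
      by_contra hne
      have h4 : 2 ≤ a := by omega
      obtain ⟨k, rfl⟩ := Nat.exists_eq_add_of_le h4
      rw [pow_add] at h3
      omega
    subst ha1
    have h5 : 2 ≤ q ^ (c + c) := by
      calc 2 ≤ q := by omega
        _ = q ^ 1 := (pow_one q).symm
        _ ≤ q ^ (c + c) := Nat.pow_le_pow_right (by omega) (by omega)
    omega
  -- geometric sum
  have hS := geom_sum_mul (-(q : ℤ)) b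
  have hSodd : Odd (∑ i ∈ range b, (-(q : ℤ)) ^ i) :=
    geom_sum_odd _ (by simpa using ((Int.odd_coe_nat q).2 hqodd : Odd (q : ℤ)).neg) b hbodd
  rw [Odd.neg_pow hbodd] at hS
  have hS' : (∑ i ∈ range b, (-(q : ℤ)) ^ i) * ((q : ℤ) + 1) = (2 : ℤ) ^ a := by
    have h1 : ((2 : ℤ) ^ a) = (q : ℤ) ^ b + 1 := by exact_mod_cast h
    rw [h1]
    linear_combination -hS
  have hSpos : 0 < ∑ i ∈ range b, (-(q : ℤ)) ^ i := by
    have h1 : (0 : ℤ) < (2 : ℤ) ^ a := by positivity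
    rw [← hS'] at h1
    have h2 : (0 : ℤ) < (q : ℤ) + 1 := by positivity
    exact pos_of_mul_pos_left h1 h2.le
  have hS1 : (∑ i ∈ range b, (-(q : ℤ)) ^ i) = 1 :=
    int_odd_dvd_two_pow hSodd hSpos (Dvd.intro _ hS')
  rw [hS1, one_mul] at hS'
  have hq1 : q + 1 = 2 ^ a := by exact_mod_cast hS'
  have hb1 : b = 1 := by
    have h1 : q ^ b = q := by omega
    exact (Nat.pow_eq_self_iff (by omega : 1 < q)).1 h1
  refine ⟨rfl, hb1, ?_, hq1⟩
  have ha1 : a ≠ 1 := by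
    rintro rfl
    omega
  have hP : (2 ^ a - 1).Prime := by
    have : 2 ^ a - 1 = q := by omega
    rw [this]; exact hq
  exact (Nat.prime_of_pow_sub_one_prime ha1 hP).2

/-- the case `q = 2`, `a` odd -/
theorem case_q_two_odd (p a b : ℕ) (hp : p.Prime) (ha : 1 ≤ a) (hb : 1 ≤ b)
    (h : p ^ a = 2 ^ b + 1) (hodd : Odd a) : a = 1 ∧ (∃ m : ℕ, b = 2 ^ m) ∧ p = 2 ^ b + 1 := by
  have hpodd : Odd p := by
    have h1 : Odd (p ^ a) := by
      rw [h]
      exact Even.add_one ((Nat.even_pow' (by omega)).2 even_two)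
    exact (Nat.odd_pow_iff (by omega)).1 h1
  have hp3 : 3 ≤ p := by
    have := hp.two_le
    rcases hpodd with ⟨m, hm⟩
    omega
  have hS := geom_sum_mul (p : ℤ) a
  have hSodd : Odd (∑ i ∈ range a, (p : ℤ) ^ i) :=
    geom_sum_odd _ ((Int.odd_coe_nat p).2 hpodd) a hodd
  have hS' : (∑ i ∈ range a, (p : ℤ) ^ i) * ((p : ℤ) - 1) = (2 : ℤ) ^ b := by
    have h1 : ((p : ℤ) ^ a) = (2 : ℤ) ^ b + 1 := by exact_mod_cast h
    rw [hS, h1]; ring
  have hSpos : 0 < ∑ i ∈ range a, (p : ℤ) ^ i := by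
    have h1 : (0 : ℤ) < (2 : ℤ) ^ b := by positivity
    rw [← hS'] at h1
    have h2 : (0 : ℤ) < (p : ℤ) - 1 := by
      have : (3 : ℤ) ≤ (p : ℤ) := by exact_mod_cast hp3
      linarith
    exact pos_of_mul_pos_left h1 h2.le
  have hS1 : (∑ i ∈ range a, (p : ℤ) ^ i) = 1 :=
    int_odd_dvd_two_pow hSodd hSpos (Dvd.intro _ hS')
  rw [hS1, one_mul] at hS'
  have hp1 : p = 2 ^ b + 1 := by
    have : (p : ℤ) = (2 : ℤ) ^ b + 1 := by linarith
    exact_mod_cast this
  have ha1 : a = 1 := by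
    have h1 : p ^ a = p := by omega
    exact (Nat.pow_eq_self_iff (by omega : 1 < p)).1 h1
  refine ⟨ha1, ?_, hp1⟩
  have hP : (2 ^ b + 1).Prime := hp1 ▸ hp
  exact Nat.pow_of_pow_add_prime (by norm_num) (by omega) hP

/-- the case `q = 2`, `a` even -/
theorem case_q_two_even (p a b : ℕ) (hp : p.Prime) (ha : 1 ≤ a) (hb : 1 ≤ b)
    (h : p ^ a = 2 ^ b + 1) (heven : Even a) : p ^ a = 9 ∧ 2 ^ b = 8 := by
  obtain ⟨c, rfl⟩ := heven
  have hc : 1 ≤ c := by omega
  set x := p ^ c with hx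
  have hx2 : 2 ≤ x := by
    calc 2 ≤ p := hp.two_le
      _ = p ^ 1 := (pow_one p).symm
      _ ≤ p ^ c := Nat.pow_le_pow_right hp.pos hc
  have h1 : p ^ (c + c) = x * x := by rw [pow_add]
  have h2 : (x - 1) * (x + 1) = 2 ^ b := by
    have : x * x = 2 ^ b + 1 := by rw [← h1, h]
    obtain ⟨y, hy⟩ : ∃ y, x = y + 1 := ⟨x - 1, by omega⟩
    rw [hy] at this ⊢
    simp only [Nat.add_sub_cancel]
    nlinarith
  obtain ⟨i, _, hi⟩ := (Nat.dvd_prime_pow Nat.prime_two).1 (Dvd.intro _ h2)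
  obtain ⟨j, _, hj⟩ := (Nat.dvd_prime_pow Nat.prime_two).1 (Dvd.intro_left _ h2)
  -- 2^j = 2^i + 2
  have h3 : 2 ^ j = 2 ^ i + 2 := by omega
  have hij : i < j := by
    by_contra hle
    have : 2 ^ j ≤ 2 ^ i := Nat.pow_le_pow_right (by norm_num) (by omega)
    omega
  have h4 : 2 ^ i ∣ 2 := by
    have h5 : 2 ^ i ∣ 2 ^ j := pow_dvd_pow 2 hij.le
    have h6 : 2 ^ i ∣ 2 ^ i + 2 := h3 ▸ h5
    exact (Nat.dvd_add_right (dvd_refl _)).1 h6
  have h7 : 2 ^ i ≤ 2 := Nat.le_of_dvd (by norm_num) h4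
  have hi1 : i ≤ 1 := by
    by_contra hlt
    have : 2 ^ 2 ≤ 2 ^ i := Nat.pow_le_pow_right (by norm_num) (by omega)
    omega
  have hi' : i = 1 := by
    rcases Nat.eq_zero_or_pos i with rfl | hpos
    · -- x = 2, x + 1 = 3 = 2^j
      exfalso
      have hj3 : 2 ^ j = 3 := by simpa using h3
      rcases Nat.eq_zero_or_pos j with rfl | hjpos
      · simp at hj3
      · have : Even (2 ^ j) := (Nat.even_pow' hjpos.ne').2 even_two
        rw [hj3] at this
        exact absurd this (by decide)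
    · omega
  subst hi'
  have hx3 : x = 3 := by omega
  refine ⟨by rw [h1, hx3], ?_⟩
  have : x * x = 2 ^ b + 1 := by rw [← h1, h]
  rw [hx3] at this
  omega


/-- Let p, q be primes and a, b positive integers with p^a = q^b + 1. Then either p = 2, b = 1, a is prime and q = 2^a − 1; or q = 2, a = 1, b is a power of 2 and p = 2^b + 1; or p^a = 9 and q^b = 8. -/
theorem result (p q a b : ℕ) (hp : p.Prime) (hq : q.Prime) (ha : 1 ≤ a) (hb : 1 ≤ b) (h : p ^ a = q ^ b + 1) : (p = 2 ∧ b = 1 ∧ a.Prime ∧ q + 1 = 2 ^ a) ∨ (q = 2 ∧ a = 1 ∧ (∃ m : ℕ, b = 2 ^ m) ∧ p = 2 ^ b + 1) ∨ (p ^ a = 9 ∧ q ^ b = 8) := by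
  by_cases hq2 : q = 2
  · subst hq2
    rcases Nat.even_or_odd a with heven | hodd
    · right; right
      exact case_q_two_even p a b hp ha hb h heven
    · right; left
      exact ⟨rfl, case_q_two_odd p a b hp ha hb h hodd⟩
  · left
    exact case_q_odd p q a b hp hq ha hb h hq2

end Cfsg.Agent.S3784
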