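import Cfsg.Statements.S3785
import Mathlib
import Cfsg.Agent.S0044
import Cfsg.Agent.S0009
import Cfsg.Agent.Lib.Helper47.Basic
import Cfsg.Agent.Lib.Helper24.Omega

set_option autoImplicit false
open Cfsg

namespace Cfsg.Agent.S3785

section
variable {G : Type*} [Group G]

theorem fitting_normal : (Cfsg.fittingSubgroup G).Normal :=
  Subgroup.sSup_normal _ (fun _ h => h.1)

/-- the prime-order elements of the Fitting subgroup -/
def primeSet (G : Type*) [Group G] : Set G :=
  {x | x ∈ Cfsg.fittingSubgroup G ∧ (orderOf x).Prime}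

/-- the centralizer of the prime-order elements of the Fitting subgroup -/
def CC (G : Type*) [Group G] : Subgroup G := Subgroup.centralizer (primeSet G)

theorem CC_normal : (CC G).Normal := by
  constructor
  intro c hc g
  rw [CC, Subgroup.mem_centralizer_iff] at hc ⊢
  intro x hx
  have hF : (Cfsg.fittingSubgroup G).Normal := fitting_normal
  have hx' : g⁻¹ * x * g ∈ primeSet G := by
    refine ⟨?_, ?_⟩
    · have := hF.conj_mem x hx.1 g⁻¹
      simpa using this
    · have : orderOf (g⁻¹ * x * g) = orderOf x := by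
        have := orderOf_injective (MulAut.conj g⁻¹).toMonoidHom (MulAut.conj g⁻¹).injective x
        simpa using this
      rw [this]; exact hx.2
  have h1 := hc _ hx'
  calc x * (g * c * g⁻¹) = g * ((g⁻¹ * x * g) * c) * g⁻¹ := by group
    _ = g * (c * (g⁻¹ * x * g)) * g⁻¹ := by rw [h1]
    _ = g * c * g⁻¹ * x := by group

/-- the join of the `p`-cores for `p ≠ q` -/
def JJ (G : Type*) [Group G] (q : ℕ) : Subgroup G :=
  sSup {H | ∃ p : Nat.Primes, (p : ℕ) ≠ q ∧ H = Cfsg.pCore (p : ℕ) G}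

theorem JJ_normal (q : ℕ) : (JJ G q).Normal :=
  Subgroup.sSup_normal _ (fun H ⟨_, _, hH⟩ => hH ▸ inferInstance)

theorem pCore_le_fitting [Finite G] (p : Nat.Primes) :
    Cfsg.pCore (p : ℕ) G ≤ Cfsg.fittingSubgroup G := by
  rw [Cfsg.Agent.S0009.result (G := G)]
  exact le_iSup (fun p : Nat.Primes => Cfsg.pCore (p : ℕ) G) p

theorem fitting_le_sup [Finite G] (q : ℕ) :
    Cfsg.fittingSubgroup G ≤ Cfsg.pCore q G ⊔ JJ G q := by
  rw [Cfsg.Agent.S0009.result (G := G)]
  apply iSup_le
  intro p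
  by_cases hpq : (p : ℕ) = q
  · rw [hpq]; exact le_sup_left
  · have hmem : Cfsg.pCore (p : ℕ) G ∈
        {H | ∃ p : Nat.Primes, (p : ℕ) ≠ q ∧ H = Cfsg.pCore (p : ℕ) G} := ⟨p, hpq, rfl⟩
    exact le_trans (le_sSup hmem) le_sup_right

/-- A `p'`-element of `CC G` centralizes `O_p(G)` (when the Fitting subgroup has odd order). -/
theorem CC_centralizes_pCore [Finite G] (hodd : Odd (Nat.card (Cfsg.fittingSubgroup G)))
    (p : ℕ) [hp : Fact p.Prime] (y : G) (hy : y ∈ CC G) (hcop : (orderOf y).Coprime p) :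
    ∀ x ∈ Cfsg.pCore p G, y * x = x * y := by
  have hK : IsPGroup p (Cfsg.pCore p G) := Cfsg.Agent.Lib.Helper47.pCore_isPGroup p G
  have hle : Cfsg.pCore p G ≤ Cfsg.fittingSubgroup G := pCore_le_fitting ⟨p, hp.out⟩
  by_cases hp2 : p = 2
  · subst hp2
    -- the 2-core is trivial
    have hbot : Cfsg.pCore 2 G = ⊥ := by
      obtain ⟨k, hk⟩ := (IsPGroup.iff_card).1 hK
      have hdvd : Nat.card (Cfsg.pCore 2 G) ∣ Nat.card (Cfsg.fittingSubgroup G) :=
        Subgroup.card_dvd_of_le hle
      have hodd' : Odd (Nat.card (Cfsg.pCore 2 G)) := Odd.of_dvd_nat hodd hdvd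
      rw [hk] at hodd'
      rcases Nat.eq_zero_or_pos k with rfl | hpos
      · rw [pow_zero] at hk
        exact Subgroup.card_eq_one.1 hk
      · exfalso
        have : Even (2 ^ k) := (Nat.even_pow' hpos.ne').2 even_two
        exact (Nat.not_odd_iff_even.2 this) hodd'
    intro x hx
    rw [hbot, Subgroup.mem_bot] at hx
    subst hx; simp
  · apply Cfsg.Agent.Lib.Helper24.centralizes_of_centralizes_omega p hp2 y hcop _ hK
    · rw [Subgroup.normalizer_eq_top]; trivial
    · intro x hx hxp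
      by_cases hx1 : x = 1
      · subst hx1; simp
      · have hord : orderOf x = p := orderOf_eq_prime hxp hx1
        have hxS : x ∈ primeSet G := ⟨hle hx, hord ▸ hp.out⟩
        exact ((Subgroup.mem_centralizer_iff.1 hy) x hxS).symm

/-- the subgroup `E_q` -/
def EE (G : Type*) [Group G] (q : ℕ) : Subgroup G :=
  CC G ⊓ Subgroup.centralizer (JJ G q : Set G)

theorem EE_normal (q : ℕ) : (EE G q).Normal := by
  have h1 : (CC G).Normal := CC_normal
  have h2 : (JJ G q).Normal := JJ_normal q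
  have h3 : (Subgroup.centralizer (JJ G q : Set G)).Normal := inferInstance
  exact Subgroup.normal_inf_normal _ _

/-- a `q'`-element of `E_q` lies in `J_q` -/
theorem mem_JJ_of_coprime [Finite G] [Group.IsSolvable G]
    (hodd : Odd (Nat.card (Cfsg.fittingSubgroup G))) (q : ℕ) [hq : Fact q.Prime]
    (y : G) (hy : y ∈ EE G q) (hcop : (orderOf y).Coprime q) : y ∈ JJ G q := by
  have hJn : (JJ G q).Normal := JJ_normal q
  -- `y` centralizes `F`
  have hyF : y ∈ Subgroup.centralizer (Cfsg.fittingSubgroup G : Set G) := by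
    have hle : Cfsg.pCore q G ⊔ JJ G q ≤ Subgroup.centralizer {y} := by
      apply sup_le
      · intro x hx
        rw [Subgroup.mem_centralizer_iff]
        intro z hz
        rw [Set.mem_singleton_iff] at hz
        subst hz
        exact CC_centralizes_pCore hodd q z hy.1 hcop x hx
      · intro x hx
        rw [Subgroup.mem_centralizer_iff]
        intro z hz
        rw [Set.mem_singleton_iff] at hz
        subst hz
        exact ((Subgroup.mem_centralizer_iff.1 hy.2) x hx).symm
    rw [Subgroup.mem_centralizer_iff]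
    intro x hx
    have := hle (fitting_le_sup q hx)
    exact ((Subgroup.mem_centralizer_iff.1 this) y rfl).symm
  have hyF' : y ∈ Cfsg.fittingSubgroup G := Cfsg.Agent.S0044.result hyF
  -- the image of `F` modulo `J_q` is a `q`-group
  have hmap : (Cfsg.fittingSubgroup G).map (QuotientGroup.mk' (JJ G q)) ≤
      (Cfsg.pCore q G).map (QuotientGroup.mk' (JJ G q)) := by
    refine le_trans (Subgroup.map_mono (fitting_le_sup q)) ?_
    rw [Subgroup.map_sup]
    apply sup_le le_rfl
    rw [QuotientGroup.map_mk'_self]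
    exact bot_le
  have hq' : IsPGroup q ((Cfsg.pCore q G).map (QuotientGroup.mk' (JJ G q))) :=
    (Cfsg.Agent.Lib.Helper47.pCore_isPGroup q G).map _
  have hmem : (QuotientGroup.mk' (JJ G q)) y ∈
      (Cfsg.pCore q G).map (QuotientGroup.mk' (JJ G q)) :=
    hmap (Subgroup.mem_map_of_mem _ hyF')
  obtain ⟨k, hk⟩ := hq' ⟨_, hmem⟩
  have hk' : ((QuotientGroup.mk' (JJ G q)) y) ^ q ^ k = 1 := by
    have := congrArg Subtype.val hk
    simpa using this
  have hm : ((QuotientGroup.mk' (JJ G q)) y) ^ orderOf y = 1 := by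
    rw [← map_pow, pow_orderOf_eq_one, map_one]
  have h1 : orderOf ((QuotientGroup.mk' (JJ G q)) y) ∣ q ^ k := orderOf_dvd_of_pow_eq_one hk'
  have h2 : orderOf ((QuotientGroup.mk' (JJ G q)) y) ∣ orderOf y := orderOf_dvd_of_pow_eq_one hm
  have h3 : orderOf ((QuotientGroup.mk' (JJ G q)) y) = 1 :=
    Nat.eq_one_of_dvd_coprimes (Nat.Coprime.pow_right k hcop) h2 h1
  have h4 : (QuotientGroup.mk' (JJ G q)) y = 1 := orderOf_eq_one_iff.1 h3
  exact (QuotientGroup.eq_one_iff y).1 h4

theorem EE_nilpotent [Finite G] [Group.IsSolvable G]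
    (hodd : Odd (Nat.card (Cfsg.fittingSubgroup G))) (q : ℕ) [hq : Fact q.Prime] :
    Group.IsNilpotent (EE G q) := by
  have hJn : (JJ G q).Normal := JJ_normal q
  set Z₁ : Subgroup (EE G q) := (JJ G q).subgroupOf (EE G q) with hZ
  have hZn : Z₁.Normal := inferInstance
  have hcen : Z₁ ≤ Subgroup.center (EE G q) := by
    intro z hz
    rw [Subgroup.mem_center_iff]
    intro e
    apply Subtype.ext
    have h1 : (z : G) ∈ JJ G q := hz
    have h2 : (e : G) ∈ Subgroup.centralizer (JJ G q : Set G) := e.2.2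
    have := (Subgroup.mem_centralizer_iff.1 h2) z h1
    simpa using this.symm
  have hpq : IsPGroup q ((EE G q) ⧸ Z₁) := by
    intro x
    obtain ⟨e, rfl⟩ := QuotientGroup.mk_surjective x
    -- decompose the order of `e`
    have hn0 : orderOf (e : G) ≠ 0 := (orderOf_pos (e : G)).ne'
    obtain ⟨k, m, hqm, hn⟩ := Nat.exists_eq_pow_mul_and_not_dvd hn0 q hq.out.ne_one
    refine ⟨k, ?_⟩
    rw [← QuotientGroup.mk_pow, QuotientGroup.eq_one_iff]
    show ((e ^ q ^ k : EE G q) : G) ∈ JJ G q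
    rw [Subgroup.coe_pow]
    apply mem_JJ_of_coprime hodd q
    · exact (EE G q).pow_mem e.2 _
    · have hord : orderOf ((e : G) ^ q ^ k) = m := by
        rw [orderOf_pow' _ (pow_ne_zero k hq.out.ne_zero), hn]
        have : Nat.gcd (q ^ k * m) (q ^ k) = q ^ k := Nat.gcd_eq_right (Dvd.intro _ rfl)
        rw [this, Nat.mul_div_cancel_left _ (pow_pos hq.out.pos k)]
      rw [hord]
      exact (Nat.Coprime.symm ((Nat.Prime.coprime_iff_not_dvd hq.out).2 hqm))
  have hnil : Group.IsNilpotent ((EE G q) ⧸ Z₁) := hpq.isNilpotent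
  apply Subgroup.isNilpotent_of_ker_le_center (QuotientGroup.mk' Z₁)
  rw [QuotientGroup.ker_mk']
  exact hcen

theorem EE_le_fitting [Finite G] [Group.IsSolvable G]
    (hodd : Odd (Nat.card (Cfsg.fittingSubgroup G))) (q : ℕ) [hq : Fact q.Prime] :
    EE G q ≤ Cfsg.fittingSubgroup G :=
  le_sSup ⟨EE_normal q, EE_nilpotent hodd q⟩

/-- elements of prime power order of `CC G` lie in the Fitting subgroup -/
theorem mem_fitting_of_prime_pow [Finite G] [Group.IsSolvable G]
    (hodd : Odd (Nat.card (Cfsg.fittingSubgroup G))) (q : ℕ) [hq : Fact q.Prime] (k : ℕ)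
    (h : G) (hh : h ∈ CC G) (hord : orderOf h = q ^ k) : h ∈ Cfsg.fittingSubgroup G := by
  apply EE_le_fitting hodd q
  refine ⟨hh, ?_⟩
  have hle : JJ G q ≤ Subgroup.centralizer {h} := by
    apply sSup_le
    rintro H ⟨p, hpq, rfl⟩
    intro x hx
    rw [Subgroup.mem_centralizer_iff]
    intro z hz
    rw [Set.mem_singleton_iff] at hz
    subst hz
    have : Fact (p : ℕ).Prime := ⟨p.2⟩
    apply CC_centralizes_pCore hodd p z hh _ x hx
    rw [hord]
    apply Nat.Coprime.pow_left
    exact (Nat.coprime_primes hq.out p.2).2 (Ne.symm hpq)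
  show h ∈ Subgroup.centralizer (JJ G q : Set G)
  rw [Subgroup.mem_centralizer_iff]
  intro x hx
  exact ((Subgroup.mem_centralizer_iff.1 (hle hx)) h rfl).symm

theorem mem_fitting_aux [Finite G] [Group.IsSolvable G]
    (hodd : Odd (Nat.card (Cfsg.fittingSubgroup G))) :
    ∀ (n : ℕ) (g : G), g ∈ CC G → orderOf g = n → g ∈ Cfsg.fittingSubgroup G := by
  intro n
  induction n using Nat.strong_induction_on with
  | _ n ih =>
  intro g hg hn
  have hn0 : n ≠ 0 := hn ▸ (orderOf_pos g).ne'
  by_cases hn1 : n = 1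
  · rw [hn1, orderOf_eq_one_iff] at hn
    rw [hn]; exact Subgroup.one_mem _
  set q := n.minFac with hq
  have hqp : q.Prime := Nat.minFac_prime hn1
  have : Fact q.Prime := ⟨hqp⟩
  obtain ⟨k, m, hqm, hnkm⟩ := Nat.exists_eq_pow_mul_and_not_dvd hn0 q hqp.ne_one
  have hk0 : k ≠ 0 := by
    rintro rfl
    rw [pow_zero, one_mul] at hnkm
    exact hqm (hnkm ▸ Nat.minFac_dvd n)
  by_cases hm1 : m = 1
  · rw [hm1, mul_one] at hnkm
    exact mem_fitting_of_prime_pow hodd q k g hg (hn.trans hnkm)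
  · -- split `g` into two commuting parts of smaller order
    have hm0 : m ≠ 0 := by
      rintro rfl; rw [mul_zero] at hnkm; exact hn0 hnkm
    have hcop : Nat.Coprime (q ^ k) m :=
      Nat.Coprime.pow_left k ((Nat.Prime.coprime_iff_not_dvd hqp).2 hqm)
    have hqk1 : 1 < q ^ k := Nat.one_lt_pow hk0 hqp.one_lt
    have hm1' : 1 < m := by omega
    have ho1 : orderOf (g ^ q ^ k) = m := by
      rw [orderOf_pow' _ (pow_ne_zero k hqp.ne_zero), hn, hnkm]
      have : Nat.gcd (q ^ k * m) (q ^ k) = q ^ k := Nat.gcd_eq_right (Dvd.intro _ rfl)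
      rw [this, Nat.mul_div_cancel_left _ (pow_pos hqp.pos k)]
    have ho2 : orderOf (g ^ m) = q ^ k := by
      rw [orderOf_pow' _ hm0, hn, hnkm]
      have : Nat.gcd (q ^ k * m) m = m := Nat.gcd_eq_right (Dvd.intro_left _ rfl)
      rw [this, Nat.mul_div_cancel _ (Nat.pos_of_ne_zero hm0)]
    have hlt1 : m < n := by
      rw [hnkm]; nlinarith
    have hlt2 : q ^ k < n := by
      rw [hnkm]; nlinarith
    have h1 := ih m hlt1 (g ^ q ^ k) ((CC G).pow_mem hg _) ho1
    have h2 := ih (q ^ k) hlt2 (g ^ m) ((CC G).pow_mem hg _) ho2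
    -- Bezout
    have hb : (q ^ k : ℤ) * Int.gcdA (q ^ k) m + (m : ℤ) * Int.gcdB (q ^ k) m = 1 := by
      have := Int.gcd_eq_gcd_ab (q ^ k : ℤ) (m : ℤ)
      have hg1 : Int.gcd (q ^ k : ℤ) (m : ℤ) = 1 := by
        have : Int.gcd ((q ^ k : ℕ) : ℤ) (m : ℤ) = Nat.gcd (q ^ k) m := Int.gcd_natCast_natCast _ _
        rw [← Nat.cast_pow, this]; exact hcop
      rw [hg1] at this
      push_cast at this ⊢
      linarith
    have hg' : g = (g ^ q ^ k) ^ (Int.gcdA (q ^ k) m) * (g ^ m) ^ (Int.gcdB (q ^ k) m) := by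
      rw [← zpow_natCast, ← zpow_natCast, ← zpow_mul, ← zpow_mul, ← zpow_add]
      have : ((q ^ k : ℕ) : ℤ) * Int.gcdA (q ^ k) m + (m : ℤ) * Int.gcdB (q ^ k) m = 1 := by
        push_cast; exact hb
      rw [this, zpow_one]
    rw [hg']
    exact Subgroup.mul_mem _ (Subgroup.zpow_mem _ h1 _) (Subgroup.zpow_mem _ h2 _)

end


/-- Let G be a finite solvable group whose Fitting subgroup F(G) has odd order. If an element g of G commutes with every element of prime order of F(G), then g ∈ F(G). -/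
theorem result {G : Type*} [Group G] [Finite G] (hG : Group.IsSolvable G) (hodd : Odd (Nat.card (Cfsg.fittingSubgroup G))) (g : G) (hg : ∀ x ∈ Cfsg.fittingSubgroup G, (orderOf x).Prime → g * x = x * g) : g ∈ Cfsg.fittingSubgroup G := by
  have : Group.IsSolvable G := hG
  apply mem_fitting_aux hodd (orderOf g) g _ rfl
  rw [CC, Subgroup.mem_centralizer_iff]
  intro x hx
  exact (hg x hx.1 hx.2).symm

end Cfsg.Agent.S3785
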