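import Cfsg.Statements.S3787
import Cfsg.Agent.Lib.Helper63.WreathSec2
import Cfsg.Agent.Lib.Helper63.PLen2

set_option autoImplicit false
open Cfsg

namespace Cfsg.Agent.S3787

/-- Let G be a finite p-soluble group, p an odd prime not of the form 2^k + 1, and suppose the wreath product C_p ≀ C_p (of order p^(p+1)) is not involved in a Sylow p-subgroup of G: no section of a Sylow p-subgroup is isomorphic to it. Then G has p-length at most 1. -/
theorem result {G : Type*} [Group G] [Finite G] {p : ℕ} [Fact p.Prime] (hp2 : p ≠ 2) (hnf : (¬ ∃ k : ℕ, p = 2 ^ k + 1)) (hG : Cfsg.IsPSolvable p G) (P : Sylow p G) (hwr : ∀ (W : Type) [Group W] [Finite W], (∃ (B : Subgroup W) (t : W), B.Normal ∧ IsMulCommutative B ∧ (∀ b ∈ B, b ^ p = 1) ∧ Nat.card B = p ^ p ∧ orderOf t = p ∧ t ∉ B ∧ Nat.card W = p ^ (p + 1) ∧ Nat.card ↥(B ⊓ Subgroup.centralizer ({t} : Set W)) = p) → ¬ Cfsg.Involves W ↥(P : Subgroup G)) : Cfsg.PLengthLE p 1 G := by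
  classical
  have hpp : p.Prime := Fact.out
  have hKn : (pPrimeCore p G).Normal := inferInstance
  have hsurj := QuotientGroup.mk'_surjective (pPrimeCore p G)
  have hΓsol : IsPSolvable p (G ⧸ pPrimeCore p G) :=
    Cfsg.Agent.Lib.Helper76.IsPSolvable_of_surjective p _ hsurj hG
  have hΓcore : pPrimeCore p (G ⧸ pPrimeCore p G) = ⊥ := by
    rw [eq_bot_iff]
    apply sSup_le
    rintro N ⟨hNn, hNc⟩
    rw [Cfsg.Agent.Lib.Helper76.quotient_pPrimeCore_core_trivial p N hNn hNc]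
  have hcop : (Nat.card ((G ⧸ pPrimeCore p G) ⧸ pCore p (G ⧸ pPrimeCore p G))).Coprime p := by
    by_contra hnc
    have hdvd : p ∣ Nat.card ((G ⧸ pPrimeCore p G) ⧸ pCore p (G ⧸ pPrimeCore p G)) := by
      by_contra hnd
      exact hnc ((Nat.Prime.coprime_iff_not_dvd hpp).mpr hnd).symm
    obtain ⟨W', instW', hWr, hinv⟩ :=
      Cfsg.Agent.Lib.Helper63.WreathSec2.exists_wr_section hp2 hnf hΓsol hΓcore hdvd
    have hfin : Finite W' := by
      apply Nat.finite_of_card_ne_zero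
      obtain ⟨B, t, _, _, _, _, _, _, hW, _⟩ := hWr
      rw [hW]
      exact pow_ne_zero _ hpp.ne_zero
    have hsmall : Small.{0} W' := Countable.toSmall W'
    have hWr0 : Cfsg.Agent.Lib.Helper63.WreathSec.IsWr p (Shrink.{0} W') :=
      hWr.of_mulEquiv (Shrink.mulEquiv).symm
    have hfin0 : Finite (Shrink.{0} W') := Finite.of_equiv W' (equivShrink W')
    have hinv0 : Involves (Shrink.{0} W') G := by
      rw [Cfsg.Agent.Lib.Helper88.involves_iff_exists_surj] at hinv ⊢
      obtain ⟨K, f, hf⟩ := hinv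
      refine ⟨K.comap (QuotientGroup.mk' (pPrimeCore p G)),
        ((Shrink.mulEquiv (α := W')).symm.toMonoidHom.comp f).comp
          ((QuotientGroup.mk' (pPrimeCore p G)).subgroupComap K), ?_⟩
      exact (((Shrink.mulEquiv (α := W')).symm.surjective).comp hf).comp
        (MonoidHom.subgroupComap_surjective_of_surjective _ K hsurj)
    have hpg : IsPGroup p (Shrink.{0} W') := by
      obtain ⟨B, t, _, _, _, _, _, _, hW, _⟩ := hWr0
      exact IsPGroup.of_card hW
    exact hwr (Shrink.{0} W') hWr0 (Cfsg.Agent.Lib.Helper88.Involves.sylow hpg hinv0 P)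
  have h1 : PLengthLE p 1 (G ⧸ pPrimeCore p G) := by
    have h2 : PLengthLE p 1 ↥(pCore p (G ⧸ pPrimeCore p G)) :=
      Cfsg.Agent.Lib.Helper63.PLengthLE.one_of_isPGroup (Cfsg.Agent.Lib.Helper1.pCore_isPGroup p)
    have h3 : PLengthLE p 0 ((G ⧸ pPrimeCore p G) ⧸ pCore p (G ⧸ pPrimeCore p G)) :=
      Cfsg.Agent.Lib.Helper63.PLengthLE.zero_of_coprime hcop
    exact Cfsg.Agent.Lib.Helper63.PLengthLE.extension (pCore p (G ⧸ pPrimeCore p G)) h2 h3
  have h0 : PLengthLE p 0 ↥(pPrimeCore p G) :=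
    Cfsg.Agent.Lib.Helper63.PLengthLE.zero_of_coprime
      (Cfsg.Agent.Lib.Helper1.pPrimeCore_card_coprime p)
  have := Cfsg.Agent.Lib.Helper63.PLengthLE.extension (pPrimeCore p G) h0 h1
  rwa [Nat.zero_add] at this

end Cfsg.Agent.S3787
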