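import Cfsg.Statements.S3789
-- import your own Cfsg.Agent.* helpers here
import Cfsg.Agent.Lib.Helper29.HH3D
import Cfsg.Agent.Lib.Helper63.PLen3

set_option autoImplicit false
open Cfsg

namespace Cfsg.Agent.S3789

open Cfsg.Agent.Lib.Helper63 Cfsg.Agent.Lib.Helper29.HH3

universe u

theorem aux (p : ℕ) [Fact p.Prime] (hp2 : p ≠ 2) (N : ℕ) :
    ∀ (G : Type u) [Group G] [Finite G], Nat.card G ≤ N → Cfsg.IsPSolvable p G →
      ∀ d : ℕ, (∀ P : Sylow p G, derivedSeries ↥(P : Subgroup G) d = ⊥) →
      Cfsg.PLengthLE p d G := by
  have hp : p.Prime := Fact.out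
  induction N with
  | zero =>
    intro G _ _ hn
    exfalso
    have := Nat.card_pos (α := G)
    omega
  | succ N ih =>
    intro G _ _ hn hsolv d hd
    by_cases hN : pPrimeCore p G = ⊥
    · cases d with
      | zero =>
        apply PLengthLE.zero_of_coprime
        have hnd : ¬ p ∣ Nat.card G := by
          intro hdvd
          obtain ⟨P⟩ : Nonempty (Sylow p G) := inferInstance
          apply P.ne_bot_of_dvd_card hdvd
          rw [eq_bot_iff]
          intro x hx
          have h1 : (⟨x, hx⟩ : ↥(P : Subgroup G)) ∈ derivedSeries ↥(P : Subgroup G) 0 := by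
            rw [derivedSeries_zero]
            exact Subgroup.mem_top _
          rw [hd P, Subgroup.mem_bot] at h1
          rw [Subgroup.mem_bot]
          exact congrArg Subtype.val h1
        exact ((Nat.Prime.coprime_iff_not_dvd hp).2 hnd).symm
      | succ k =>
        by_cases hV : pCore p G = ⊥
        · -- `G` is trivial
          have hcoreN : ∀ M : Subgroup G, M.Normal → (Nat.card M).Coprime p → M = ⊥ := by
            intro M hM hMp
            have := Cfsg.Agent.Lib.Helper1.le_pPrimeCore hM hMp
            rw [hN] at this
            exact le_bot_iff.1 this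
          have hcent := Cfsg.Agent.Lib.Helper76.centralizer_pCore_le p hsolv hcoreN
          rw [hV] at hcent
          have htop : (⊤ : Subgroup G) = ⊥ := by
            rw [eq_bot_iff]
            intro x _
            apply hcent
            rw [Subgroup.mem_centralizer_iff]
            intro y hy
            have : y = 1 := Subgroup.mem_bot.1 hy
            rw [this, one_mul, mul_one]
          have hcard : Nat.card G = 1 := by
            rw [← Subgroup.card_top (G := G), htop, Subgroup.card_bot]
          have h0 : Cfsg.PLengthLE p 0 G := by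
            apply PLengthLE.zero_of_coprime
            rw [hcard]
            exact Nat.coprime_one_left p
          exact PLengthLE_mono h0 (Nat.zero_le _)
        · -- pass to `G / O_p(G)`
          have hcard := card_quotient_lt (pCore p G) hV
          have hsurj := QuotientGroup.mk'_surjective (pCore p G)
          have hsolv' : Cfsg.IsPSolvable p (G ⧸ pCore p G) :=
            Cfsg.Agent.Lib.Helper76.IsPSolvable_of_surjective p _ hsurj hsolv
          have hd' : ∀ T : Sylow p (G ⧸ pCore p G),
              derivedSeries ↥(T : Subgroup (G ⧸ pCore p G)) k = ⊥ := by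
            intro T
            obtain ⟨S, rfl⟩ := Sylow.mapSurjective_surjective hsurj p T
            show derivedSeries ↥((S : Subgroup G).map (QuotientGroup.mk' (pCore p G))) k = ⊥
            have hs := MonoidHom.subgroupMap_surjective (QuotientGroup.mk' (pCore p G))
              (S : Subgroup G)
            rw [← map_derivedSeries_eq hs, eq_bot_iff]
            rintro _ ⟨x, hx, rfl⟩
            rw [Subgroup.mem_bot]
            have h1 := derived_le_pCore hp2 hsolv hN S k (hd S) x hx
            apply Subtype.ext
            show QuotientGroup.mk' (pCore p G) (x : G) = 1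
            exact (QuotientGroup.eq_one_iff _).2 h1
          have h1 := ih (G ⧸ pCore p G) (by omega) hsolv' k hd'
          have h2 : Cfsg.PLengthLE p 1 ↥(pCore p G) :=
            PLengthLE.one_of_isPGroup (Cfsg.Agent.Lib.Helper1.pCore_isPGroup p)
          have h3 := PLengthLE.extension (pCore p G) h2 h1
          rw [Nat.add_comm] at h3
          exact h3
    · -- pass to `G / O_{p'}(G)`
      have hcard := card_quotient_lt (pPrimeCore p G) hN
      have hsurj := QuotientGroup.mk'_surjective (pPrimeCore p G)
      have hsolv' : Cfsg.IsPSolvable p (G ⧸ pPrimeCore p G) :=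
        Cfsg.Agent.Lib.Helper76.IsPSolvable_of_surjective p _ hsurj hsolv
      have hd' : ∀ T : Sylow p (G ⧸ pPrimeCore p G),
          derivedSeries ↥(T : Subgroup (G ⧸ pPrimeCore p G)) d = ⊥ :=
        fun T => sylow_quotient_derived (pPrimeCore p G) hd T
      have h1 := ih (G ⧸ pPrimeCore p G) (by omega) hsolv' d hd'
      have h2 : Cfsg.PLengthLE p 0 ↥(pPrimeCore p G) :=
        PLengthLE.zero_of_coprime (Cfsg.Agent.Lib.Helper1.pPrimeCore_card_coprime p)
      have h3 := PLengthLE.extension (pPrimeCore p G) h2 h1
      rw [Nat.zero_add] at h3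
      exact h3

/-- Let p be an odd prime and G a finite p-soluble group whose Sylow p-subgroups have derived length at most d. Then G has p-length at most d. -/
theorem result {G : Type*} [Group G] [Finite G] {p : ℕ} [Fact p.Prime] (hp : p ≠ 2) (hG : Cfsg.IsPSolvable p G) (d : ℕ) (hd : ∀ P : Sylow p G, derivedSeries ↥(P : Subgroup G) d = ⊥) : Cfsg.PLengthLE p d G :=
  aux p hp (Nat.card G) G le_rfl hG d hd

end Cfsg.Agent.S3789
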