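import Cfsg.Statements.S3790
import Cfsg.Agent.Lib.Helper63.PLen2

set_option autoImplicit false
open Cfsg

namespace Cfsg.Agent.S3790

open Cfsg.Agent.Lib.Helper63

universe u

theorem aux (p : ℕ) [hp : Fact p.Prime] (r : ℕ) : ∀ (G : Type u) [Group G] [Finite G]
    (q : Fin r → ℕ) (_ : ∀ i, (q i).Prime ∧ q i ≠ p)
    (_ : ∀ s : ℕ, s.Prime → s ∣ Nat.card G → s ≠ p → ∃ i, q i = s) (l : Fin r → ℕ)
    (_ : ∀ i, Cfsg.PLengthLE (q i) (l i) G),
    Cfsg.PLengthLE p (Finset.univ.prod fun i => 1 + l i) G := by
  induction r with
  | zero =>
    intro G _ _ q hq hcover l hl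
    have hcard : Nat.card G = p ^ (Nat.card G).primeFactorsList.length := by
      apply Nat.eq_prime_pow_of_unique_prime_dvd Nat.card_pos.ne'
      intro d hd hdvd
      by_contra hne
      obtain ⟨i, _⟩ := hcover d hd hdvd hne
      exact i.elim0
    have hG : IsPGroup p G := IsPGroup.of_card hcard
    simpa using PLengthLE.one_of_isPGroup hG
  | succ r ih =>
    intro G _ _ q hq hcover l hl
    have hq0 : Fact (q 0).Prime := ⟨(hq 0).1⟩
    rw [Fin.prod_univ_succ]
    have hS := isPSeries_ups (G := G) (p := q 0)
    have claim : ∀ j, Cfsg.PLengthLE p ((j + 1) / 2 * (Finset.univ.prod fun i : Fin r => 1 + l i.succ))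
        ↥(upperPSeries (q 0) G j).1 := by
      intro j
      induction j with
      | zero =>
        apply PLengthLE_mono (PLengthLE.zero_of_coprime _) (Nat.zero_le _)
        rw [ups_zero, Subgroup.card_bot]
        exact Nat.coprime_one_left p
      | succ j ihj =>
        have hle : (upperPSeries (q 0) G j).1 ≤ (upperPSeries (q 0) G (j + 1)).1 :=
          ups_le_succ (q 0) j
        have hnorm : ((upperPSeries (q 0) G j).1.subgroupOf (upperPSeries (q 0) G (j + 1)).1).Normal :=
          (inferInstance : (upperPSeries (q 0) G j).1.Normal).subgroupOf _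
        have hN : Cfsg.PLengthLE p ((j + 1) / 2 * (Finset.univ.prod fun i : Fin r => 1 + l i.succ))
            ↥((upperPSeries (q 0) G j).1.subgroupOf (upperPSeries (q 0) G (j + 1)).1) :=
          PLengthLE.of_equiv ihj (Subgroup.subgroupOfEquivOfLe hle).symm
        have hcardX : Nat.card (↥(upperPSeries (q 0) G (j + 1)).1 ⧸
            (upperPSeries (q 0) G j).1.subgroupOf (upperPSeries (q 0) G (j + 1)).1) =
            (upperPSeries (q 0) G j).1.relIndex (upperPSeries (q 0) G (j + 1)).1 :=
          (Subgroup.index_eq_card _).symm
        by_cases hj : Even j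
        · have hcop : ((upperPSeries (q 0) G j).1.relIndex
              (upperPSeries (q 0) G (j + 1)).1).Coprime (q 0) := hS.even j hj
          have hX : Cfsg.PLengthLE p (Finset.univ.prod fun i : Fin r => 1 + l i.succ)
              (↥(upperPSeries (q 0) G (j + 1)).1 ⧸
                (upperPSeries (q 0) G j).1.subgroupOf (upperPSeries (q 0) G (j + 1)).1) := by
            apply ih _ (fun i => q i.succ) (fun i => hq i.succ) ?_ (fun i => l i.succ)
            · intro i
              have hqi : Fact (q i.succ).Prime := ⟨(hq i.succ).1⟩
              exact PLengthLE.quotient (PLengthLE.subgroup (hl i.succ) _) _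
            · intro s hs hdvd hsp
              rw [hcardX] at hdvd
              have hdvdG : s ∣ Nat.card G :=
                (hdvd.trans (Subgroup.relIndex_dvd_card _ _)).trans
                  (Subgroup.card_subgroup_dvd_card _)
              obtain ⟨i, hi⟩ := hcover s hs hdvdG hsp
              induction i using Fin.cases with
              | zero =>
                exfalso
                rw [hi] at hcop
                have h1 : s ∣ Nat.gcd ((upperPSeries s G j).1.relIndex
                    (upperPSeries s G (j + 1)).1) s := by
                  rw [← hi] at hdvd ⊢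
                  exact Nat.dvd_gcd hdvd (dvd_refl _)
                rw [← hi] at h1
                have hcop' : Nat.gcd ((upperPSeries (q 0) G j).1.relIndex
                    (upperPSeries (q 0) G (j + 1)).1) (q 0) = 1 := hS.even j hj
                rw [hcop'] at h1
                exact (hq 0).1.one_lt.ne' (Nat.dvd_one.1 h1)
              | succ i => exact ⟨i, hi⟩
          have hext := PLengthLE.extension _ hN hX
          obtain ⟨c, hc⟩ := hj
          have e1 : (j + 1) / 2 = c := by omega
          have e2 : (j + 1 + 1) / 2 = c + 1 := by omega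
          rw [e1] at hext
          rw [e2, add_mul, one_mul]
          exact hext
        · obtain ⟨t, ht⟩ := hS.odd j hj
          have hX : Cfsg.PLengthLE p 0 (↥(upperPSeries (q 0) G (j + 1)).1 ⧸
                (upperPSeries (q 0) G j).1.subgroupOf (upperPSeries (q 0) G (j + 1)).1) := by
            apply PLengthLE.zero_of_coprime
            rw [hcardX, ht]
            apply Nat.Coprime.pow_left
            exact (Nat.coprime_primes (hq 0).1 hp.out).2 (hq 0).2
          have hext := PLengthLE.extension _ hN hX
          rw [add_zero] at hext
          have hodd : Odd j := Nat.not_even_iff_odd.1 hj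
          obtain ⟨c, hc⟩ := hodd
          have e1 : (j + 1) / 2 = c + 1 := by omega
          have e2 : (j + 1 + 1) / 2 = c + 1 := by omega
          rw [e1] at hext
          rw [e2]
          exact hext
    have hfin := claim (2 * l 0 + 1)
    have htop : (upperPSeries (q 0) G (2 * l 0 + 1)).1 = ⊤ := hl 0
    have e3 : (2 * l 0 + 1 + 1) / 2 = 1 + l 0 := by omega
    rw [e3] at hfin
    exact PLengthLE.of_equiv hfin ((MulEquiv.subgroupCongr htop).trans Subgroup.topEquiv)

/-- Let G be a finite solvable group and p a prime. Suppose p₁, …, p_r are distinct primes, all different from p, that include every prime dividing the order of G other than p, and that G has p_i-length at most l_i for each i. Then G has p-length at most the product of the numbers 1 + l_i. -/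
theorem result {G : Type*} [Group G] [Finite G] (hG : Group.IsSolvable G) (p : ℕ) [Fact p.Prime] (r : ℕ) (q : Fin r → ℕ) (hq : ∀ i, (q i).Prime ∧ q i ≠ p) (hinj : Function.Injective q) (hcover : ∀ s : ℕ, s.Prime → s ∣ Nat.card G → s ≠ p → ∃ i, q i = s) (l : Fin r → ℕ) (hl : ∀ i, Cfsg.PLengthLE (q i) (l i) G) : Cfsg.PLengthLE p (Finset.univ.prod fun i => 1 + l i) G := by
  exact aux p r G q hq hcover l hl

end Cfsg.Agent.S3790
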