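import Cfsg.Statements.S3791
import Cfsg.Agent.Lib.Helper63.PLen3

set_option autoImplicit false
open Cfsg

namespace Cfsg.Agent.S3791

open Cfsg.Agent.Lib.Helper63

universe u

theorem aux {r : ℕ} (q : Fin r → ℕ) (hq : ∀ i, (q i).Prime) (n : ℕ) :
    ∀ (G : Type u) [Group G] [Finite G], Nat.card G ≤ n →
      (∀ s : ℕ, s.Prime → s ∣ Nat.card G → ∃ i, q i = s) → ∀ (d l : Fin r → ℕ),
      (∀ i (S : Sylow (q i) G), derivedSeries ↥(S : Subgroup G) (d i) = ⊥) →
      (∀ i, Cfsg.PLengthLE (q i) (l i) G) →
      derivedSeries G (Finset.univ.sum fun i => d i * l i) = ⊥ := by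
  induction n with
  | zero =>
    intro G _ _ hn
    exfalso
    have := Nat.card_pos (α := G)
    omega
  | succ n ih =>
    intro G _ _ hn hcover d l hd hl
    have key : ∀ i, derivedSeries G (Finset.univ.sum fun i => d i * l i) ≤ pPrimeCore (q i) G := by
      intro i
      have hqi : Fact (q i).Prime := ⟨hq i⟩
      by_cases hN : pPrimeCore (q i) G = ⊥
      · -- trivial `q i'`-core
        have htriv : (⊤ : Subgroup G) = ⊥ → derivedSeries G (Finset.univ.sum fun i => d i * l i) ≤
            pPrimeCore (q i) G := fun h => le_top.trans (h.le.trans bot_le)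
        cases hli : l i with
        | zero =>
          apply htriv
          have h0 := hl i
          rw [hli] at h0
          exact top_eq_bot_of_plen_zero h0 hN
        | succ k =>
          by_cases hP : pCore (q i) G = ⊥
          · exact htriv (top_eq_bot_of_cores (hl i) hN hP)
          · -- pass to `G / O_{q i}(G)`
            have hcard := card_quotient_lt (pCore (q i) G) hP
            have hsurj := QuotientGroup.mk'_surjective (pCore (q i) G)
            have hcover' : ∀ s : ℕ, s.Prime → s ∣ Nat.card (G ⧸ pCore (q i) G) → ∃ j, q j = s :=
              fun s hs hdvd => hcover s hs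
                (hdvd.trans (Subgroup.card_dvd_of_surjective _ hsurj))
            have hd' : ∀ j (S : Sylow (q j) (G ⧸ pCore (q i) G)),
                derivedSeries ↥(S : Subgroup (G ⧸ pCore (q i) G)) (d j) = ⊥ := fun j S => by
              have hqj : Fact (q j).Prime := ⟨hq j⟩
              exact sylow_quotient_derived _ (hd j) S
            have hl' : ∀ j, Cfsg.PLengthLE (q j) (if j = i then k else l j)
                (G ⧸ pCore (q i) G) := fun j => by
              have hqj : Fact (q j).Prime := ⟨hq j⟩
              by_cases hji : j = i
              · subst hji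
                rw [if_pos rfl]
                have h0 := hl j
                rw [hli] at h0
                exact plen_quotient_pCore h0 hN
              · rw [if_neg hji]
                exact PLengthLE.quotient (hl j) _
            have h1 := ih (G ⧸ pCore (q i) G) (by omega) hcover' d
              (fun j => if j = i then k else l j) hd' hl'
            rw [← map_derivedSeries_eq hsurj, Subgroup.map_eq_bot_iff, QuotientGroup.ker_mk'] at h1
            obtain ⟨S, hS⟩ := (Cfsg.Agent.Lib.Helper1.pCore_isPGroup (G := G) (q i)).exists_le_sylow
            have h2 := derivedSeries_add_eq_bot (S : Subgroup G) (h1.trans hS) (hd i S)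
            have hsum : (Finset.univ.sum fun j => d j * l j) =
                (Finset.univ.sum fun j => d j * (if j = i then k else l j)) + d i := by
              have hpt : ∀ j, d j * l j = d j * (if j = i then k else l j) +
                  (if j = i then d i else 0) := by
                intro j
                by_cases hji : j = i
                · subst hji
                  rw [if_pos rfl, if_pos rfl, hli]
                  ring
                · rw [if_neg hji, if_neg hji, add_zero]
              rw [Finset.sum_congr rfl (fun j _ => hpt j), Finset.sum_add_distrib,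
                Finset.sum_ite_eq' Finset.univ i (fun _ => d i)]
              simp
            rw [hsum, h2]
            exact bot_le
      · -- pass to `G / O_{q i'}(G)`
        have hcard := card_quotient_lt (pPrimeCore (q i) G) hN
        have hsurj := QuotientGroup.mk'_surjective (pPrimeCore (q i) G)
        have hcover' : ∀ s : ℕ, s.Prime → s ∣ Nat.card (G ⧸ pPrimeCore (q i) G) → ∃ j, q j = s :=
          fun s hs hdvd => hcover s hs (hdvd.trans (Subgroup.card_dvd_of_surjective _ hsurj))
        have hd' : ∀ j (S : Sylow (q j) (G ⧸ pPrimeCore (q i) G)),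
            derivedSeries ↥(S : Subgroup (G ⧸ pPrimeCore (q i) G)) (d j) = ⊥ := fun j S => by
          have hqj : Fact (q j).Prime := ⟨hq j⟩
          exact sylow_quotient_derived _ (hd j) S
        have hl' : ∀ j, Cfsg.PLengthLE (q j) (l j) (G ⧸ pPrimeCore (q i) G) := fun j => by
          have hqj : Fact (q j).Prime := ⟨hq j⟩
          exact PLengthLE.quotient (hl j) _
        have h1 := ih (G ⧸ pPrimeCore (q i) G) (by omega) hcover' d l hd' hl'
        rw [← map_derivedSeries_eq hsurj, Subgroup.map_eq_bot_iff, QuotientGroup.ker_mk'] at h1
        exact h1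
    -- the intersection of the `q i'`-cores is trivial
    by_contra hne
    have hcard1 : Nat.card ↥(derivedSeries G (Finset.univ.sum fun i => d i * l i)) ≠ 1 := by
      intro h
      exact hne (Subgroup.card_eq_one.1 h)
    obtain ⟨s, hs, hdvd⟩ := Nat.exists_prime_and_dvd hcard1
    obtain ⟨i, hi⟩ := hcover s hs (hdvd.trans (Subgroup.card_subgroup_dvd_card _))
    subst hi
    have h1 : q i ∣ Nat.card (pPrimeCore (q i) G) := hdvd.trans (Subgroup.card_dvd_of_le (key i))
    have h2 : (Nat.card (pPrimeCore (q i) G)).Coprime (q i) :=
      Cfsg.Agent.Lib.Helper1.pPrimeCore_card_coprime (q i)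
    have h3 : q i ∣ Nat.gcd (Nat.card (pPrimeCore (q i) G)) (q i) :=
      Nat.dvd_gcd h1 (dvd_refl (q i))
    rw [h2] at h3
    exact hs.one_lt.ne' (Nat.dvd_one.1 h3)


/-- The Hall–Higman bound on derived length: let G be a finite solvable group, let p₁, …, p_r be distinct primes that include every prime dividing the order of G, and suppose that for each i the Sylow p_i-subgroups of G have derived length at most d_i and G has p_i-length at most l_i. Then G has derived length at most Σ d_i l_i. -/
theorem result {G : Type*} [Group G] [Finite G] (hG : Group.IsSolvable G) (r : ℕ) (q : Fin r → ℕ) (hq : ∀ i, (q i).Prime) (hinj : Function.Injective q) (hcover : ∀ s : ℕ, s.Prime → s ∣ Nat.card G → ∃ i, q i = s) (d l : Fin r → ℕ) (hd : ∀ i, ∀ P : Subgroup G, (haveI := Fact.mk (hq i); ∃ S : Sylow (q i) G, (S : Subgroup G) = P) → derivedSeries ↥P (d i) = ⊥) (hl : ∀ i, Cfsg.PLengthLE (q i) (l i) G) : derivedSeries G (Finset.univ.sum fun i => d i * l i) = ⊥ := by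
  apply aux q hq (Nat.card G) G le_rfl hcover d l ?_ hl
  intro i S
  exact hd i (S : Subgroup G) ⟨S, rfl⟩

end Cfsg.Agent.S3791
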