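import Cfsg.Statements.S3794
-- import your own Cfsg.Agent.* helpers here
import Cfsg.Agent.Lib.Helper58.Fpf4Ring
import Cfsg.Agent.Lib.Helper58.Fpf4End
import Cfsg.Agent.Lib.Helper58.Fpf4Act
import Cfsg.Agent.Lib.Helper58.Fpf4Aux
import Cfsg.Agent.Lib.Helper34.SplittingMain
import Cfsg.Agent.Lib.Helper97.Cores
import Cfsg.Agent.Lib.Helper97.CoprimeQuot

set_option autoImplicit false
set_option linter.style.haveILetI false
open Cfsg

namespace Cfsg.Agent.S3794

open Cfsg.Agent.Lib.Helper1 Cfsg.Agent.Lib.Helper58.Fpf4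

universe u

theorem main_aux : ∀ (n : ℕ) (G : Type u) [Group G] [Finite G], Nat.card G = n →
    Group.IsSolvable G → ∀ σ : MulAut G, σ ^ 4 = 1 → (∀ g : G, σ g = g → g = 1) →
    Group.IsNilpotent (commutator G) := by
  intro n
  induction n using Nat.strong_induction_on with
  | _ n ih =>
  intro G _ _ hcard hsolv σ hσ4 hfpf
  haveI := hsolv
  by_cases hex : ∃ N₁ N₂ : Subgroup G, N₁.Normal ∧ N₂.Normal ∧ AutInv σ N₁ ∧ AutInv σ N₂ ∧
      N₁ ≠ ⊥ ∧ N₂ ≠ ⊥ ∧ N₁ ⊓ N₂ = ⊥
  · obtain ⟨N₁, N₂, hn₁, hn₂, hi₁, hi₂, hne₁, hne₂, hinf⟩ := hex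
    have hq : ∀ (N : Subgroup G) [N.Normal], AutInv σ N → N ≠ ⊥ →
        Group.IsNilpotent (commutator (G ⧸ N)) := by
      intro N _ hi hne
      have hlt : Nat.card (G ⧸ N) < n := by
        rw [← hcard]; exact Cfsg.Agent.Lib.Helper1.card_quotient_lt N hne
      exact ih _ hlt (G ⧸ N) rfl inferInstance (quotAut σ N hi)
        (quotAut_pow_eq_one σ N hi 4 hσ4) (quotAut_fpf σ hfpf N hi)
    exact nilpotent_commutator_of_two_quotients N₁ N₂ hinf (hq N₁ hi₁ hne₁) (hq N₂ hi₂ hne₂)
  · by_cases hG1 : Subsingleton G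
    · infer_instance
    rw [not_subsingleton_iff_nontrivial] at hG1
    obtain ⟨p, hp, hcore⟩ := exists_pCore_ne_bot (G := G)
    haveI : Fact p.Prime := ⟨hp⟩
    set F := pCore p G with hF
    haveI hFn : F.Normal := Cfsg.Agent.Lib.Helper55.pCore_normal' p
    haveI hFchar : F.Characteristic := Cfsg.Agent.Lib.Helper55.pCore_characteristic p
    have hFinv : AutInv σ F := Cfsg.Agent.Lib.Helper34.autInv_of_characteristic σ F
    have hFp : IsPGroup p F := Cfsg.Agent.Lib.Helper55.isPGroup_pCore p
    have hpp : pPrimeCore p G = ⊥ := by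
      by_contra hne
      apply hex
      haveI : (pPrimeCore p G).Characteristic :=
        Cfsg.Agent.Lib.Helper55.pPrimeCore_characteristic p
      exact ⟨F, pPrimeCore p G, hFn, Cfsg.Agent.Lib.Helper55.pPrimeCore_normal' p, hFinv,
        Cfsg.Agent.Lib.Helper34.autInv_of_characteristic σ _, hcore, hne,
        Cfsg.Agent.Lib.Helper97.inf_eq_bot_of_isPGroup_of_coprime hFp
          (Cfsg.Agent.Lib.Helper55.card_pPrimeCore_coprime p)⟩
    have hcent : Subgroup.centralizer (F : Set G) ≤ F :=
      Cfsg.Agent.Lib.Helper55.centralizer_pCore_le p hpp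
    have hmax : ∀ N : Subgroup G, N.Normal → IsPGroup p N → N ≤ F :=
      fun N hN hNp => Cfsg.Agent.Lib.Helper55.le_pCore hN hNp
    have hlt : Nat.card (G ⧸ F) < n := by
      rw [← hcard]; exact Cfsg.Agent.Lib.Helper1.card_quotient_lt F hcore
    set s : MulAut (G ⧸ F) := quotAut σ F hFinv with hs
    have hs4 : s ^ 4 = 1 := quotAut_pow_eq_one σ F hFinv 4 hσ4
    have hsfpf : ∀ x : G ⧸ F, s x = x → x = 1 := quotAut_fpf σ hfpf F hFinv
    have hQcore : pCore p (G ⧸ F) = ⊥ := Cfsg.Agent.Lib.Helper97.pCore_quotient_pCore p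
    have hQodd : Odd (Nat.card (G ⧸ F)) := odd_card_of_fpf4 s hs4 hsfpf
    -- the quotient is abelian
    have hab : ∀ a b : G ⧸ F, a * b = b * a := by
      by_cases hQsub : Subsingleton (G ⧸ F)
      · intro a b; rw [Subsingleton.elim a b]
      rw [not_subsingleton_iff_nontrivial] at hQsub
      -- E1
      have hE1 : ∀ A : Subgroup (G ⧸ F), A.Normal → AutInv s A →
          (∀ a ∈ A, ∀ b ∈ A, a * b = b * a) →
          A ≤ Subgroup.center (G ⧸ F) ∧ ∀ a ∈ A, (s ^ 2) a = a := by
        intro A hAn hAinv hAab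
        haveI := hAn
        have hAcop := card_coprime_of_abelian_normal p hQcore A hAab
        have hAodd : Odd (Nat.card A) :=
          Odd.of_dvd_nat hQodd (Subgroup.card_subgroup_dvd_card A)
        have hτ := tau_fixed F hFp hcent hmax σ hσ4 hfpf hFinv A hAinv hAab hAodd hAcop
        have hτ' : ∀ a ∈ A, (s ^ 2) a = a := by
          intro a ha; rw [pow_two, MulAut.mul_apply]; exact hτ a ha
        refine ⟨?_, hτ'⟩
        have hinv : ∀ a ∈ A, s a = a⁻¹ := by
          intro a ha
          have hsa : s a ∈ A := (hAinv.mem_iff a).mpr ha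
          have h1 : s (a * s a) = a * s a := by
            rw [map_mul, hτ a ha, hAab (s a) hsa a ha]
          have h2 := hsfpf _ h1
          exact (eq_inv_of_mul_eq_one_right h2)
        intro a ha
        rw [Subgroup.mem_center_iff]
        intro h
        have hsf : MonoidHom.FixedPointFree (s.toMonoidHom) := fun x hx => hsfpf x hx
        obtain ⟨g', hg'⟩ := hsf.commutatorMap_surjective h
        obtain ⟨g, rfl⟩ : ∃ g, g' = g⁻¹ := ⟨g'⁻¹, (inv_inv g').symm⟩
        have hh : h = g⁻¹ * s g := by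
          rw [← hg', MonoidHom.commutatorMap_apply, div_eq_mul_inv]
          show g⁻¹ * (s g⁻¹)⁻¹ = g⁻¹ * s g
          rw [map_inv, inv_inv]
        have key : s g * a⁻¹ * (s g)⁻¹ = g * a⁻¹ * g⁻¹ := by
          have hc : g * a * g⁻¹ ∈ A := hAn.conj_mem a ha g
          have := hinv _ hc
          rw [map_mul, map_mul, map_inv, hinv a ha] at this
          rw [this]; group
        have hcomm : h * a⁻¹ = a⁻¹ * h := by
          rw [hh]
          calc g⁻¹ * s g * a⁻¹ = g⁻¹ * (s g * a⁻¹ * (s g)⁻¹) * s g := by group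
            _ = g⁻¹ * (g * a⁻¹ * g⁻¹) * s g := by rw [key]
            _ = a⁻¹ * (g⁻¹ * s g) := by group
        have : Commute h a⁻¹ := hcomm
        exact (Commute.inv_right_iff.mp this).eq
      -- C4
      have hC4 : ∀ K' : Subgroup (G ⧸ F), AutInv s K' → K' ≠ ⊤ →
          IsPGroup p (⁅K', K'⁆ : Subgroup (G ⧸ F)) := by
        intro K' hK'inv hK'ne
        set K : Subgroup G := K'.comap (QuotientGroup.mk' F) with hK
        have hmapK : K.map (QuotientGroup.mk' F) = K' :=
          Subgroup.map_comap_eq_self_of_surjective (QuotientGroup.mk'_surjective F) K'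
        have hFK : F ≤ K := by
          intro f hf
          rw [hK, Subgroup.mem_comap, QuotientGroup.mk'_apply, (QuotientGroup.eq_one_iff f).mpr hf]
          exact K'.one_mem
        have hKinv : AutInv σ K := by
          apply autInv_of_forall_mem
          intro x hx
          rw [hK, Subgroup.mem_comap, QuotientGroup.mk'_apply] at hx ⊢
          rw [← quotAut_mk σ F hFinv x]
          exact (hK'inv.mem_iff _).mpr hx
        have hKne : K ≠ ⊤ := by
          intro hKt
          apply hK'ne
          rw [← hmapK, hKt, ← MonoidHom.range_eq_map,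
            MonoidHom.range_eq_top.mpr (QuotientGroup.mk'_surjective F)]
        have hKlt : Nat.card K < n := by
          rw [← hcard]; exact Cfsg.Agent.Lib.Helper1.card_subgroup_lt K hKne
        have hnil : Group.IsNilpotent (commutator ↥K) :=
          ih _ hKlt ↥K rfl inferInstance (restrictAut σ K hKinv)
            (restrictAut_pow_eq_one σ K hKinv 4 hσ4) (restrictAut_fpf σ K hKinv hfpf)
        have hKp := isPGroup_commutator_of_nilpotent p F hFp hcent K hFK hnil
        have hmap : (⁅K, K⁆ : Subgroup G).map (QuotientGroup.mk' F) = ⁅K', K'⁆ := by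
          rw [Subgroup.map_commutator, hmapK]
        rw [← hmap]
        exact hKp.map _
      have hbot_of_normal : ∀ L : Subgroup (G ⧸ F), L.Normal → IsPGroup p L → L = ⊥ := by
        intro L hL hLp
        have := Cfsg.Agent.Lib.Helper55.le_pCore hL hLp
        rw [hQcore] at this
        exact le_bot_iff.mp this
      have hcomm_of_bot : ∀ L : Subgroup (G ⧸ F), (⁅L, L⁆ : Subgroup (G ⧸ F)) = ⊥ →
          ∀ a ∈ L, ∀ b ∈ L, a * b = b * a := by
        intro L hL a ha b hb
        have := Subgroup.commutator_eq_bot_iff_le_centralizer.mp hL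
        exact (Subgroup.mem_centralizer_iff.mp (this ha) b hb).symm
      -- E3
      have hE3 : commutator (G ⧸ F) ≤ Subgroup.center (G ⧸ F) := by
        set Q' := commutator (G ⧸ F) with hQ'
        have hQ'inv : AutInv s Q' := Cfsg.Agent.Lib.Helper34.autInv_of_characteristic s Q'
        have hQ'ne : Q' ≠ ⊤ := (Group.IsSolvable.commutator_lt_top_of_nontrivial (G ⧸ F)).ne
        have h1 := hC4 Q' hQ'inv hQ'ne
        have h2 : (⁅Q', Q'⁆ : Subgroup (G ⧸ F)) = ⊥ := hbot_of_normal _ inferInstance h1
        exact (hE1 Q' inferInstance hQ'inv (hcomm_of_bot Q' h2)).1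
      -- E2
      have hE2 : ∀ K' : Subgroup (G ⧸ F), AutInv s K' → K' ≠ ⊤ →
          ∀ a ∈ K', ∀ b ∈ K', a * b = b * a := by
        intro K' hK'inv hK'ne
        have h1 := hC4 K' hK'inv hK'ne
        have hle : (⁅K', K'⁆ : Subgroup (G ⧸ F)) ≤ Subgroup.center (G ⧸ F) := by
          refine le_trans ?_ hE3
          rw [commutator_def]
          exact Subgroup.commutator_mono le_top le_top
        have h2 : (⁅K', K'⁆ : Subgroup (G ⧸ F)) = ⊥ :=
          hbot_of_normal _ (normal_of_le_center _ hle) h1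
        exact hcomm_of_bot K' h2
      exact endgame s hs4 hsfpf hQodd hE1 hE2 hE3
    -- conclusion
    have hle : commutator G ≤ F := by
      rw [commutator_def, Subgroup.commutator_le]
      intro g₁ _ g₂ _
      rw [← QuotientGroup.eq_one_iff, commutatorElement_def]
      simp only [QuotientGroup.mk_mul, QuotientGroup.mk_inv]
      rw [hab (g₁ : G ⧸ F) (g₂ : G ⧸ F)]
      group
    exact (hFp.to_le hle).isNilpotent


/-- Let G be a finite solvable group with an automorphism σ satisfying σ⁴ = 1 and fixing only the identity. Then the derived subgroup G' is nilpotent. -/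
theorem result {G : Type*} [Group G] [Finite G] (hG : Group.IsSolvable G) (σ : MulAut G) (hσ : σ ^ 4 = 1) (hfpf : ∀ g : G, σ g = g → g = 1) : Group.IsNilpotent (commutator G) := by
  exact main_aux _ G rfl hG σ hσ hfpf

end Cfsg.Agent.S3794
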