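import Cfsg.Statements.S3796
import Cfsg.Agent.Lib.Helper76.WardRedF

set_option autoImplicit false
open Cfsg

namespace Cfsg.Agent.S3796

/-- Ward's Theorem: let G be a finite solvable group and A an elementary abelian group of automorphisms of G of order p² (p a prime) with no non-identity common fixed point. Then G has Fitting height at most 2: G has Fitting height at most m when there is a chain of normal subgroups 1 = F₀ ≤ F₁ ≤ ⋯ ≤ F_m = G with each F_{i+1}/F_i nilpotent. -/
theorem result {G : Type*} [Group G] [Finite G] (hG : Group.IsSolvable G) {p : ℕ} (hp : p.Prime) (A : Subgroup (MulAut G)) (hA : Cfsg.IsElementaryAbelian p A) (hcard : Nat.card A = p ^ 2) (hfpf : ∀ g : G, (∀ a ∈ A, a g = g) → g = 1) : ∃ F : Fin (2 + 1) → Subgroup G, F 0 = ⊥ ∧ F (Fin.last 2) = ⊤ ∧ Monotone F ∧ (∀ i, (F i).Normal) ∧ ∀ i : Fin 2, ∃ k : ℕ, (F i.succ).lowerCentralSeries k ≤ F i.castSucc := by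
  classical
  have hpF : Fact p.Prime := ⟨hp⟩
  have hAfin : Finite A := Nat.finite_of_card_ne_zero (by rw [hcard]; exact pow_ne_zero _ hp.ne_zero)
  obtain ⟨hAc, hAe⟩ := hA
  -- the semidirect product
  let φ : A →* MulAut G := A.subtype
  let Γ := G ⋊[φ] A
  have hΓfin : Finite Γ := Finite.of_equiv (G × A) SemidirectProduct.equivProd.symm
  have hAsol : Group.IsSolvable A := Group.isSolvable_of_comm (fun a b => mul_comm' a b)
  have hΓsol : Group.IsSolvable Γ :=
    Group.isSolvable_of_ker_le_range (SemidirectProduct.inl : G →* Γ)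
      (SemidirectProduct.rightHom : Γ →* A)
      (le_of_eq SemidirectProduct.range_inl_eq_ker_rightHom.symm)
  let G' : Subgroup Γ := (SemidirectProduct.inl : G →* Γ).range
  let A' : Subgroup Γ := (SemidirectProduct.inr : A →* Γ).range
  have hctx : Cfsg.Agent.Lib.Helper76.WardRed.Ctx p G' A' := by
    refine ⟨?_, ?_, ?_, ?_, ?_⟩
    · show ((SemidirectProduct.inl : G →* Γ).range).Normal
      rw [SemidirectProduct.range_inl_eq_ker_rightHom]
      infer_instance
    · rintro _ ⟨a, rfl⟩ _ ⟨b, rfl⟩
      rw [← map_mul, ← map_mul, mul_comm' a b]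
    · rintro _ ⟨a, rfl⟩
      rw [← map_pow]
      have : a ^ p = 1 := Subtype.ext (by simpa using hAe a a.2)
      rw [this, map_one]
    · show Nat.card (SemidirectProduct.inr : A →* Γ).range = p ^ 2
      rw [← hcard]
      exact (Nat.card_congr (MonoidHom.ofInjective SemidirectProduct.inr_injective).toEquiv).symm
    · rw [eq_bot_iff]
      rintro _ ⟨⟨g, rfl⟩, hcent⟩
      rw [Subgroup.mem_bot]
      have hg : g = 1 := by
        apply hfpf
        intro a ha
        have h1 := (Subgroup.mem_centralizer_iff.mp hcent) (SemidirectProduct.inr ⟨a, ha⟩) ⟨_, rfl⟩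
        have h2 : (SemidirectProduct.inr (⟨a, ha⟩ : A) : Γ) * SemidirectProduct.inl g *
            (SemidirectProduct.inr (⟨a, ha⟩ : A))⁻¹ = SemidirectProduct.inl g := by
          rw [h1]; group
        rw [← map_inv, ← SemidirectProduct.inl_aut] at h2
        exact SemidirectProduct.inl_injective h2
      rw [hg, map_one]
  obtain ⟨N, hNG, hNn, ⟨m, hm⟩, ⟨k, hk⟩⟩ :=
    Cfsg.Agent.Lib.Helper76.WardRed.ward_ambient (r := p) (Nat.card G') Γ G' A' hctx le_rfl
  set F₁ : Subgroup G := N.comap (SemidirectProduct.inl : G →* Γ) with hF₁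
  have hF₁n : F₁.Normal := hNn.comap _
  have htop : (⊤ : Subgroup G).lowerCentralSeries k ≤ F₁ := by
    rw [hF₁, ← Subgroup.map_le_iff_le_comap, Subgroup.map_lowerCentralSeries,
      ← MonoidHom.range_eq_map]
    exact hk
  have hbot : F₁.lowerCentralSeries m ≤ ⊥ := by
    have h1 : (F₁.map (SemidirectProduct.inl : G →* Γ)).lowerCentralSeries m = ⊥ := by
      rw [eq_bot_iff, ← hm]
      exact Subgroup.lowerCentralSeries_mono m (Subgroup.map_comap_le _ _)
    have := Cfsg.Agent.Lib.Helper76.WardRed.lcs_le_ker_of_map_eq_bot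
      (SemidirectProduct.inl : G →* Γ) F₁ m h1
    rwa [(MonoidHom.ker_eq_bot_iff _).mpr SemidirectProduct.inl_injective] at this
  refine ⟨![⊥, F₁, ⊤], rfl, rfl, ?_, ?_, ?_⟩
  · intro i j hij
    fin_cases i <;> fin_cases j <;> simp_all
  · intro i
    fin_cases i
    · show (⊥ : Subgroup G).Normal
      infer_instance
    · exact hF₁n
    · show (⊤ : Subgroup G).Normal
      infer_instance
  · intro i
    fin_cases i
    · exact ⟨m, hbot⟩
    · exact ⟨k, htop⟩

end Cfsg.Agent.S3796
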