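import Cfsg.Statements.S3797
import Cfsg.Agent.Lib.Helper85.Suz2Glue2

set_option autoImplicit false
open Cfsg

namespace Cfsg.Agent.S3797

/-- Let G be a finite solvable group of even order whose Sylow 2-subgroups contain more than one involution, and suppose all involutions of G are conjugate. Then G has 2-length at most 1, and a Sylow 2-subgroup S of G is either homocyclic (a direct product of cyclic groups of one common order) or a non-abelian 2-group with more than one involution admitting a solvable group of automorphisms transitive on its involutions. -/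
theorem result {G : Type*} [Group G] [Finite G] (hG : Group.IsSolvable G) (heven : Even (Nat.card G)) (S : Sylow 2 G) (htwo : ∃ x y : G, x ∈ (S : Subgroup G) ∧ y ∈ (S : Subgroup G) ∧ x ≠ y ∧ x ≠ 1 ∧ x ^ 2 = 1 ∧ y ≠ 1 ∧ y ^ 2 = 1) (hconj : ∀ x y : G, x ≠ 1 → x ^ 2 = 1 → y ≠ 1 → y ^ 2 = 1 → IsConj x y) : Cfsg.PLengthLE 2 1 G ∧ ((∃ m r : ℕ, Nonempty (↥(S : Subgroup G) ≃* (Fin r → Multiplicative (ZMod (2 ^ m))))) ∨ (¬ IsMulCommutative (S : Subgroup G) ∧ ∃ Y : Subgroup (MulAut ↥(S : Subgroup G)), Group.IsSolvable Y ∧ ∀ x y : ↥(S : Subgroup G), x ≠ 1 → x ^ 2 = 1 → y ≠ 1 → y ^ 2 = 1 → ∃ a ∈ Y, a x = y)) := by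
  classical
  have hT := Cfsg.Agent.Lib.Helper85.Suz2G.thyp_quotient hG S htwo hconj
  have hq : ∀ T : Sylow 2 (G ⧸ pPrimeCore 2 G), (T : Subgroup (G ⧸ pPrimeCore 2 G)).Normal :=
    fun T => Cfsg.Agent.Lib.Helper85.Suz2G.sylow_normal hT T
  have hn := Cfsg.Agent.Lib.Helper85.Suz2G.sup_normal_of_quotient S hq
  refine ⟨Cfsg.Agent.Lib.Helper85.Suz2G.plength_one hG S hn, ?_⟩
  have hsolN : Group.IsSolvable ↥(Subgroup.normalizer ((S : Subgroup G) : Set G)) := inferInstance
  have hS : Cfsg.Agent.Lib.Helper85.Suz2.SHyp ↥(S : Subgroup G)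
      (Cfsg.Agent.Lib.Helper85.Suz2.conjY (S : Subgroup G)
        (Subgroup.normalizer ((S : Subgroup G) : Set G))) := by
    apply Cfsg.Agent.Lib.Helper85.Suz2G.shyp_conjY (S : Subgroup G)
      (Subgroup.normalizer ((S : Subgroup G) : Set G)) le_rfl hsolN S.isPGroup'
    · intro x hx y hy hx1 hx2 hy1 hy2
      have hc := hconj x y hx1 (by rw [pow_two]; exact hx2) hy1 (by rw [pow_two]; exact hy2)
      obtain ⟨g, hg⟩ := isConj_iff.mp hc
      exact Cfsg.Agent.Lib.Helper85.Suz2G.fusion_in_normalizer S hn x y hx hy g hg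
    · obtain ⟨x, y, hxS, hyS, hxy, hx1, hx2, hy1, hy2⟩ := htwo
      exact ⟨x, hxS, y, hyS, hxy, hx1, by rw [← pow_two]; exact hx2, hy1,
        by rw [← pow_two]; exact hy2⟩
  by_cases hab : ∀ x y : ↥(S : Subgroup G), x * y = y * x
  · left
    exact Cfsg.Agent.Lib.Helper85.Suz2G.homocyclic hS hab
  · right
    refine ⟨fun hc => hab (fun x y => hc.is_comm.comm x y), _, hS.sol, ?_⟩
    intro x y hx1 hx2 hy1 hy2
    exact hS.trans x y hx1 (by rw [← pow_two]; exact hx2) hy1 (by rw [← pow_two]; exact hy2)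

end Cfsg.Agent.S3797
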