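import Cfsg.Statements.S3799
import Cfsg.Agent.Lib.Helper9.HeisMat
import Cfsg.Agent.Lib.Helper9.ESCrit

set_option autoImplicit false
open Cfsg

namespace Cfsg.Agent.S3799

open Cfsg.Agent.Lib.Helper9

/-- For every odd prime p and every n ≥ 1 there is an extraspecial p-group of order p^(1+2n) and exponent p; concretely, the general linear group of degree n + 2 over the field with p elements contains such a subgroup. -/
theorem result (p : ℕ) [Fact p.Prime] (hp : p ≠ 2) (n : ℕ) (hn : 1 ≤ n) : ∃ E : Subgroup (Matrix.GeneralLinearGroup (Fin (n + 2)) (ZMod p)), Cfsg.IsExtraspecial p ↥E ∧ Nat.card E = p ^ (1 + 2 * n) ∧ ∀ x ∈ E, x ^ p = 1 := by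
  have hpp : p.Prime := Fact.out
  let φ : Heis n p →* Matrix.GeneralLinearGroup (Fin (n + 2)) (ZMod p) := Heis.toGL
  have hinj : Function.Injective φ := Heis.toGL_injective
  let e : Heis n p ≃* φ.range := MonoidHom.ofInjective hinj
  have hcard : Nat.card (Heis n p) = p ^ (2 * n + 1) := Heis.card_eq
  refine ⟨φ.range, ?_, ?_, ?_⟩
  · apply isExtraspecial_of_equiv e p
    · exact IsPGroup.of_card hcard
    · exact Heis.card_center
    · exact Heis.commutator_mem_center
    · intro a
      rw [Heis.pow_prime_eq_one hp a]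
      exact Subgroup.one_mem _
    · exact Heis.exists_not_commute hpp.ne_one hn
  · rw [← Nat.card_congr e.toEquiv, hcard, add_comm]
  · rintro _ ⟨h, rfl⟩
    rw [← map_pow, Heis.pow_prime_eq_one hp h, map_one]

end Cfsg.Agent.S3799
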