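import Cfsg.Statements.S3800
import Cfsg.Agent.Lib.Helper63.SylowConj

set_option autoImplicit false
open Cfsg

namespace Cfsg.Agent.S3800

open Cfsg.Agent.Lib.Helper63

section
variable {G : Type*} [Group G] [Finite G] {p : ℕ} [Fact p.Prime]

/-- `|P ⊔ N : P|` divides `|N|`. -/
theorem relIndex_sup_dvd_card (N : Subgroup G) [N.Normal] (P : Subgroup G) :
    P.relIndex (P ⊔ N) ∣ Nat.card N := by
  have h1 : Nat.card P * P.relIndex (P ⊔ N) = Nat.card ↥(P ⊔ N) := by
    rw [Subgroup.relIndex, ← Subgroup.card_mul_index (P.subgroupOf (P ⊔ N))]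
    congr 1
    exact Nat.card_congr (Subgroup.subgroupOfEquivOfLe le_sup_left).symm.toEquiv
  have h2 : Nat.card N * N.relIndex (P ⊔ N) = Nat.card ↥(P ⊔ N) := by
    rw [Subgroup.relIndex, ← Subgroup.card_mul_index (N.subgroupOf (P ⊔ N))]
    congr 1
    exact Nat.card_congr (Subgroup.subgroupOfEquivOfLe le_sup_right).symm.toEquiv
  have h3 : N.relIndex (P ⊔ N) = N.relIndex P := Subgroup.relIndex_sup_right P N
  have h4 : N.relIndex P ∣ Nat.card P := Subgroup.relIndex_dvd_card N P
  obtain ⟨c, hc⟩ := h4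
  have hPpos : 0 < Nat.card P := Nat.card_pos
  have hrpos : 0 < N.relIndex P := by
    rcases Nat.eq_zero_or_pos (N.relIndex P) with h | h
    · rw [h, zero_mul] at hc; omega
    · exact h
  rw [h3] at h2
  have h5 : N.relIndex P * (c * P.relIndex (P ⊔ N)) = N.relIndex P * Nat.card N := by
    calc N.relIndex P * (c * P.relIndex (P ⊔ N)) = (N.relIndex P * c) * P.relIndex (P ⊔ N) := by ring
      _ = Nat.card P * P.relIndex (P ⊔ N) := by rw [← hc]
      _ = Nat.card ↥(P ⊔ N) := h1
      _ = Nat.card N * N.relIndex P := h2.symm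
      _ = N.relIndex P * Nat.card N := by ring
  have h6 := Nat.eq_of_mul_eq_mul_left hrpos h5
  exact ⟨c, by rw [← h6]; ring⟩

theorem not_dvd_relIndex_sup (N : Subgroup G) [N.Normal] (hN : (Nat.card N).Coprime p)
    (P : Subgroup G) : ¬ p ∣ P.relIndex (P ⊔ N) := by
  intro h
  have h1 : p ∣ Nat.card N := dvd_trans h (relIndex_sup_dvd_card N P)
  have hp : p.Prime := Fact.out
  have h2 : p ∣ Nat.gcd (Nat.card N) p := Nat.dvd_gcd h1 dvd_rfl
  rw [hN] at h2
  exact hp.one_lt.ne' (Nat.dvd_one.1 h2)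

theorem relIndex_map_conj (P K : Subgroup G) (hPK : P ≤ K) (x : G)
    (hxK : P.map (MulAut.conj x).toMonoidHom ≤ K) :
    (P.map (MulAut.conj x).toMonoidHom).relIndex K = P.relIndex K := by
  have hc : Nat.card (P.map (MulAut.conj x).toMonoidHom) = Nat.card P :=
    Subgroup.card_map_of_injective (MulAut.conj x).injective
  have h1 : Nat.card P * P.relIndex K = Nat.card K := by
    rw [Subgroup.relIndex, ← Subgroup.card_mul_index (P.subgroupOf K)]
    congr 1
    exact Nat.card_congr (Subgroup.subgroupOfEquivOfLe hPK).symm.toEquiv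
  have h2 : Nat.card (P.map (MulAut.conj x).toMonoidHom) *
      (P.map (MulAut.conj x).toMonoidHom).relIndex K = Nat.card K := by
    rw [Subgroup.relIndex, ← Subgroup.card_mul_index
      ((P.map (MulAut.conj x).toMonoidHom).subgroupOf K)]
    congr 1
    exact Nat.card_congr (Subgroup.subgroupOfEquivOfLe hxK).symm.toEquiv
  rw [hc, ← h1] at h2
  exact Nat.eq_of_mul_eq_mul_left Nat.card_pos h2

/-- The key step: every element of `G` whose image normalizes the image of `P` is congruent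
modulo `N` to an element of the normalizer of `P`. -/
theorem exists_normalizer_rep (N : Subgroup G) [N.Normal] (hN : (Nat.card N).Coprime p)
    (P : Subgroup G) (hP : IsPGroup p P) (x : G)
    (hx : (QuotientGroup.mk' N) x ∈
      Subgroup.normalizer ((P.map (QuotientGroup.mk' N)) : Set (G ⧸ N))) :
    ∃ g ∈ Subgroup.normalizer (P : Set G), (QuotientGroup.mk' N) g = (QuotientGroup.mk' N) x := by
  have hxK : P.map (MulAut.conj x).toMonoidHom ≤ P ⊔ N := by
    rintro y ⟨u, hu, rfl⟩
    have h1 : (QuotientGroup.mk' N) x * (QuotientGroup.mk' N) u * ((QuotientGroup.mk' N) x)⁻¹ ∈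
        P.map (QuotientGroup.mk' N) :=
      (Subgroup.mem_normalizer_iff.1 hx _).1 (Subgroup.mem_map_of_mem _ hu)
    obtain ⟨v, hv, hv'⟩ := h1
    have h2 : v⁻¹ * (x * u * x⁻¹) ∈ N := by
      rw [← QuotientGroup.eq_one_iff]
      have : (QuotientGroup.mk' N) (v⁻¹ * (x * u * x⁻¹)) = 1 := by
        rw [map_mul, map_inv, hv', map_mul, map_mul, map_inv]; group
      exact this
    have h3 : x * u * x⁻¹ = v * (v⁻¹ * (x * u * x⁻¹)) := by group
    simp only [MulEquiv.coe_toMonoidHom, MulAut.conj_apply]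
    rw [h3]
    exact Subgroup.mul_mem _ (Subgroup.mem_sup_left hv) (Subgroup.mem_sup_right h2)
  obtain ⟨k, hk, hPk⟩ := exists_conj_eq_of_relIndex (p := p) (P ⊔ N) P
    (P.map (MulAut.conj x).toMonoidHom) le_sup_left hxK hP (hP.map _)
    (not_dvd_relIndex_sup N hN P)
    (by rw [relIndex_map_conj P (P ⊔ N) le_sup_left x hxK]; exact not_dvd_relIndex_sup N hN P)
  -- `k = u * n` with `u ∈ P`, `n ∈ N`
  have hk' : k ∈ P ⊔ N := hk
  rw [Subgroup.mem_sup_of_normal_right] at hk'
  obtain ⟨u, hu, n, hn, rfl⟩ := hk'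
  -- `(u * n)⁻¹ * x` normalizes `P`
  have h4 : (u * n)⁻¹ * x ∈ Subgroup.normalizer (P : Set G) := by
    rw [Subgroup.mem_normalizer_iff]
    intro y
    have e1 : ∀ z, z ∈ P.map (MulAut.conj x).toMonoidHom ↔
        z ∈ P.map (MulAut.conj (u * n)).toMonoidHom := fun z => by rw [hPk]
    have e2 := e1 ((u * n) * (((u * n)⁻¹ * x) * y * ((u * n)⁻¹ * x)⁻¹) * (u * n)⁻¹)
    rw [mem_map_conj_iff, mem_map_conj_iff] at e2
    have e3 : x⁻¹ * ((u * n) * (((u * n)⁻¹ * x) * y * ((u * n)⁻¹ * x)⁻¹) * (u * n)⁻¹) * x = y := by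
      group
    have e4 : (u * n)⁻¹ * ((u * n) * (((u * n)⁻¹ * x) * y * ((u * n)⁻¹ * x)⁻¹) * (u * n)⁻¹) * (u * n)
        = ((u * n)⁻¹ * x) * y * ((u * n)⁻¹ * x)⁻¹ := by group
    rw [e3, e4] at e2
    exact e2
  refine ⟨u * ((u * n)⁻¹ * x), ?_, ?_⟩
  · exact Subgroup.mul_mem _ (Subgroup.le_normalizer hu) h4
  · have hn1 : (QuotientGroup.mk' N) n = 1 := (QuotientGroup.eq_one_iff n).2 hn
    simp only [map_mul, map_inv, hn1]
    group

end

/-- Let G be a finite group, N a normal subgroup of G whose order is prime to p, and P a p-subgroup of G. Then in G/N the normalizer of the image of P is the image of N_G(P), and the centralizer of the image of P is the image of C_G(P). -/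
theorem result {G : Type*} [Group G] [Finite G] {p : ℕ} [Fact p.Prime] (N : Subgroup G) [N.Normal] (hN : (Nat.card N).Coprime p) (P : Subgroup G) (hP : IsPGroup p P) : Subgroup.normalizer ((P.map (QuotientGroup.mk' N)) : Set (G ⧸ N)) = (Subgroup.normalizer (P : Set G)).map (QuotientGroup.mk' N) ∧ Subgroup.centralizer ((P.map (QuotientGroup.mk' N)) : Set (G ⧸ N)) = (Subgroup.centralizer (P : Set G)).map (QuotientGroup.mk' N) := by
  have hNorm : Subgroup.normalizer ((P.map (QuotientGroup.mk' N)) : Set (G ⧸ N)) =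
      (Subgroup.normalizer (P : Set G)).map (QuotientGroup.mk' N) := by
    apply le_antisymm
    · intro y hy
      obtain ⟨x, rfl⟩ := QuotientGroup.mk'_surjective N y
      obtain ⟨g, hg, hgx⟩ := exists_normalizer_rep N hN P hP x hy
      exact ⟨g, hg, hgx⟩
    · exact Subgroup.le_normalizer_map _
  refine ⟨hNorm, ?_⟩
  apply le_antisymm
  · intro y hy
    have hy' : y ∈ Subgroup.normalizer ((P.map (QuotientGroup.mk' N)) : Set (G ⧸ N)) :=
      Subgroup.centralizer_le_normalizer _ hy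
    rw [hNorm] at hy'
    obtain ⟨g, hg, rfl⟩ := hy'
    refine ⟨g, ?_, rfl⟩
    have hdisj : P ⊓ N = ⊥ := by
      rw [← disjoint_iff]
      apply Subgroup.disjoint_of_coprime_natCard
      obtain ⟨k, hk⟩ := (IsPGroup.iff_card).1 hP
      rw [hk]
      exact Nat.Coprime.pow_left k (Nat.coprime_comm.1 hN)
    show g ∈ Subgroup.centralizer (P : Set G)
    rw [Subgroup.mem_centralizer_iff]
    intro u hu
    -- the commutator lies in `P ⊓ N`
    have h1 : g * u * g⁻¹ * u⁻¹ ∈ P := by
      have := (Subgroup.mem_normalizer_iff.1 hg u).1 hu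
      exact P.mul_mem this (P.inv_mem hu)
    have h2 : g * u * g⁻¹ * u⁻¹ ∈ N := by
      rw [← QuotientGroup.eq_one_iff]
      have hc := (Subgroup.mem_centralizer_iff.1 hy) ((QuotientGroup.mk' N) u)
        (Subgroup.mem_map_of_mem _ hu)
      have : (QuotientGroup.mk' N) (g * u * g⁻¹ * u⁻¹) = 1 := by
        rw [map_mul, map_mul, map_mul, map_inv, map_inv, ← hc]; group
      exact this
    have h3 : g * u * g⁻¹ * u⁻¹ ∈ P ⊓ N := ⟨h1, h2⟩
    rw [hdisj, Subgroup.mem_bot] at h3
    calc u * g = (g * u * g⁻¹ * u⁻¹)⁻¹ * (g * u) := by group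
      _ = g * u := by rw [h3]; group
  · rintro y ⟨g, hg, rfl⟩
    rw [Subgroup.mem_centralizer_iff]
    rintro z ⟨u, hu, rfl⟩
    have := (Subgroup.mem_centralizer_iff.1 hg) u hu
    rw [← map_mul, ← map_mul, this]

end Cfsg.Agent.S3800
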