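import Cfsg.Statements.S3803
import Mathlib
import Cfsg.Agent.S0029
import Cfsg.Agent.Lib.Helper1.PGroupMax
import Cfsg.Agent.Lib.Helper24.Omega

set_option autoImplicit false
open Cfsg

namespace Cfsg.Agent.S3803

open scoped commutatorElement
open Cfsg.Agent.Lib.Helper24

section
variable {X : Type*} [Group X]

/-- an odd number dividing a power of two is one -/
theorem odd_dvd_two_pow {d n : ℕ} (hd : Odd d) (h : d ∣ 2 ^ n) : d = 1 := by
  obtain ⟨k, _, rfl⟩ := (Nat.dvd_prime_pow Nat.prime_two).1 h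
  rcases Nat.eq_zero_or_pos k with rfl | hk
  · simp
  · exfalso
    have : Even (2 ^ k) := (Nat.even_pow' hk.ne').2 even_two
    exact (Nat.not_odd_iff_even.2 this) hd

/-- An element of odd order normalizing a cyclic `2`-subgroup centralizes it. -/
theorem centralizes_cyclic [Finite X] (E : Subgroup X) (hE : IsPGroup 2 E) (hcyc : IsCyclic E)
    (a : X) (ha : a ∈ Subgroup.normalizer (E : Set X)) (hodd : Odd (orderOf a)) :
    ∀ x ∈ E, a * x = x * a := by
  set ν : MulAut E := E.normalizerMonoidHom ⟨a, ha⟩ with hν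
  have h1 : ν ^ orderOf a = 1 := by
    rw [hν, ← map_pow]
    have : (⟨a, ha⟩ : Subgroup.normalizer (E : Set X)) ^ orderOf a = 1 := by
      apply Subtype.ext
      simp [pow_orderOf_eq_one]
    rw [this, map_one]
  have h2 : orderOf ν ∣ orderOf a := orderOf_dvd_of_pow_eq_one h1
  have h3 : orderOf ν ∣ Nat.card (MulAut E) := orderOf_dvd_natCard ν
  obtain ⟨i, hi⟩ := (IsPGroup.iff_card).1 hE
  have h4 : ∃ j, Nat.card (MulAut E) = 2 ^ j := by
    rw [IsCyclic.card_mulAut, hi]
    rcases Nat.eq_zero_or_pos i with rfl | hpos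
    · exact ⟨0, by simp⟩
    · exact ⟨i - 1, by rw [Nat.totient_prime_pow Nat.prime_two hpos]; simp⟩
  obtain ⟨j, hj⟩ := h4
  rw [hj] at h3
  have h5 : Odd (orderOf ν) := Odd.of_dvd_nat hodd h2
  have h6 : orderOf ν = 1 := odd_dvd_two_pow h5 h3
  have h7 : ν = 1 := orderOf_eq_one_iff.1 h6
  have h8 : (⟨a, ha⟩ : Subgroup.normalizer (E : Set X)) ∈ E.normalizerMonoidHom.ker := h7
  rw [Subgroup.normalizerMonoidHom_ker, Subgroup.mem_subgroupOf] at h8
  intro x hx
  exact (Subgroup.mem_centralizer_iff.1 h8 x hx).symm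

/-- a noncyclic finite `2`-group has two distinct maximal subgroups -/
theorem exists_two_coatoms {Q : Type*} [Group Q] [Finite Q] (hnc : ¬ IsCyclic Q) :
    ∃ M₁ M₂ : Subgroup Q, IsCoatom M₁ ∧ IsCoatom M₂ ∧ M₁ ≠ M₂ := by
  by_contra hcon
  push Not at hcon
  have hnt : (⊥ : Subgroup Q) ≠ ⊤ := by
    intro h
    apply hnc
    have : Subsingleton Q := by
      rw [← Subgroup.subsingleton_iff]
      exact subsingleton_of_bot_eq_top h
    infer_instance
  obtain ⟨M, hM, _⟩ := (IsCoatomic.eq_top_or_exists_le_coatom (⊥ : Subgroup Q)).resolve_left hnt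
  have hMne : M ≠ ⊤ := hM.1
  obtain ⟨y, hy⟩ : ∃ y : Q, y ∉ M := by
    by_contra h
    push Not at h
    exact hMne (eq_top_iff.2 fun y _ => h y)
  apply hnc
  rw [isCyclic_iff_exists_zpowers_eq_top]
  refine ⟨y, ?_⟩
  rcases IsCoatomic.eq_top_or_exists_le_coatom (Subgroup.zpowers y) with h | ⟨M', hM', hle⟩
  · exact h
  · exfalso
    have : M = M' := hcon M M' hM hM'
    exact hy (this ▸ hle (Subgroup.mem_zpowers y))

/-- An element of odd order normalizing every subgroup of index two of a noncyclic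
`2`-subgroup `Q` centralizes `Q`. -/
theorem centralizes_of_max_invariant [Finite X] (Q : Subgroup X) (hQ : IsPGroup 2 Q)
    (hnc : ¬ IsCyclic Q) (a : X) (hodd : Odd (orderOf a))
    (hmax : ∀ M : Subgroup Q, M.index = 2 → a ∈ Subgroup.normalizer ((M.map Q.subtype : Subgroup X) : Set X)) :
    ∀ x ∈ Q, a * x = x * a := by
  -- `a` normalizes `Q`
  have haQ : a ∈ Subgroup.normalizer (Q : Set X) := by
    obtain ⟨M₁, M₂, h1, h2, hne⟩ := exists_two_coatoms hnc
    have hi1 : M₁.index = 2 := Cfsg.Agent.Lib.Helper1.coatom_index_of_isPGroup hQ h1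
    have hi2 : M₂.index = 2 := Cfsg.Agent.Lib.Helper1.coatom_index_of_isPGroup hQ h2
    have hsup : M₁ ⊔ M₂ = ⊤ := by
      by_contra hcon
      have hlt : M₁ < M₁ ⊔ M₂ := by
        apply lt_of_le_of_ne le_sup_left
        intro h
        have hle : M₂ ≤ M₁ := h ▸ le_sup_right
        rcases eq_or_lt_of_le hle with h' | h'
        · exact hne h'.symm
        · exact h1.1 (h2.2 _ h')
      exact hcon (h1.2 _ hlt)
    have h3 : a ∈ Subgroup.normalizer
        ((M₁.map Q.subtype ⊔ M₂.map Q.subtype : Subgroup X) : Set X) :=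
      Subgroup.normalizer_inf_normalizer_le_normalizer_sup _ _
        (Subgroup.mem_inf.2 ⟨hmax M₁ hi1, hmax M₂ hi2⟩)
    rw [← Subgroup.map_sup, hsup, ← MonoidHom.range_eq_map, Subgroup.range_subtype] at h3
    exact h3
  have hZ : Subgroup.zpowers a ≤ Subgroup.centralizer (Q : Set X) := by
    apply Cfsg.Agent.S0029.result (Subgroup.zpowers a) Q
    · rw [Subgroup.zpowers_le]; exact haQ
    · rw [Nat.card_zpowers]
      obtain ⟨i, hi⟩ := (IsPGroup.iff_card).1 (hQ.to_subgroup (frattini Q))
      rw [hi]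
      apply Nat.Coprime.pow_right
      exact Nat.coprime_two_right.2 hodd
    · intro b hb k hk
      -- `b` normalizes `Q` and all its index two subgroups
      have hbQ : b ∈ Subgroup.normalizer (Q : Set X) :=
        (Subgroup.zpowers_le.2 haQ) hb
      have hbk : b * k * b⁻¹ ∈ Q := (Subgroup.mem_normalizer_iff.1 hbQ k).1 hk
      have hw : b * k * b⁻¹ * k⁻¹ ∈ Q := Q.mul_mem hbk (Q.inv_mem hk)
      refine ⟨⟨b * k * b⁻¹ * k⁻¹, hw⟩, ?_, rfl⟩
      rw [frattini, Order.radical]
      simp only [Subgroup.mem_iInf, SetLike.mem_coe]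
      intro M hM
      have hi : M.index = 2 := Cfsg.Agent.Lib.Helper1.coatom_index_of_isPGroup hQ hM
      have hbM : b ∈ Subgroup.normalizer ((M.map Q.subtype : Subgroup X) : Set X) :=
        (Subgroup.zpowers_le.2 (hmax M hi)) hb
      have e : (⟨b * k * b⁻¹ * k⁻¹, hw⟩ : Q) = ⟨b * k * b⁻¹, hbk⟩ * (⟨k, hk⟩ : Q)⁻¹ := rfl
      rw [e, Subgroup.mul_mem_iff_of_index_two hi, inv_mem_iff]
      have key : ∀ (y : X) (hy : y ∈ Q), (⟨y, hy⟩ : Q) ∈ M ↔ y ∈ M.map Q.subtype := by
        intro y hy
        constructor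
        · intro h; exact ⟨⟨y, hy⟩, h, rfl⟩
        · rintro ⟨z, hz, hzy⟩
          have : z = ⟨y, hy⟩ := Subtype.ext hzy
          exact this ▸ hz
      rw [key _ hbk, key _ hk]
      exact ((Subgroup.mem_normalizer_iff.1 hbM k)).symm
  intro x hx
  exact (Subgroup.mem_centralizer_iff.1 (hZ (Subgroup.mem_zpowers a)) x hx).symm

/-- When `frat 2 K` is central in `K`, the fourth power map is multiplicative on `K`. -/
theorem mul_pow_four_of_frat_central (K : Subgroup X)
    (hcen : ∀ x ∈ K, ∀ c ∈ frat 2 K, c * x = x * c) (x y : X) (hx : x ∈ K)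
    (hy : y ∈ K) : (x * y) ^ 4 = x ^ 4 * y ^ 4 := by
  have hz : ⁅y, x⁆ ∈ frat 2 K := comm_mem_frat 2 K hy hx
  have hzx : Commute ⁅y, x⁆ x := hcen x hx _ hz
  have hzy : Commute ⁅y, x⁆ y := hcen y hy _ hz
  have h1 : y * x = ⁅y, x⁆ * x * y := by rw [commutatorElement_def]; group
  have h2 := mul_pow_of_central_comm x y ⁅y, x⁆ h1 hzx hzy 4
  have hz2 : ⁅y, x⁆ ^ 2 = 1 := by
    rw [← commutatorElement_pow_right_of_commute x y hzx 2, commutatorElement_eq_one_iff_commute]
    exact (hcen y hy _ (pow_mem_frat 2 K hx)).symm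
  have hch : (4 : ℕ).choose 2 = 2 * 3 := by decide
  rw [h2, hch, pow_mul, hz2, one_pow, mul_one]

/-- **Ω₂-lemma for the prime 2.** Let `K` be a `2`-subgroup of the finite group `X`, and `a` an
element normalizing `K`, of odd order, which commutes with every `x ∈ K` with `x ^ 4 = 1`.
Then `a` centralizes `K`. -/
theorem centralizes_of_centralizes_omega_two_aux [Finite X]
    (a : X) (hcop : (orderOf a).Coprime 2) :
    ∀ (n : ℕ) (K : Subgroup X), Nat.card K ≤ n → IsPGroup 2 K →
      a ∈ Subgroup.normalizer (K : Set X) →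
      (∀ x ∈ K, x ^ 4 = 1 → a * x = x * a) → ∀ x ∈ K, a * x = x * a := by
  have : Fact (Nat.Prime 2) := ⟨Nat.prime_two⟩
  intro n
  induction n with
  | zero =>
    intro K hcard
    have := Nat.card_pos (α := K)
    omega
  | succ n ih =>
    intro K hcard hK ha hfix
    have hzp : Subgroup.zpowers a ≤ Subgroup.normalizer (K : Set X) := Subgroup.zpowers_le.mpr ha
    have hLK : ⁅K, Subgroup.zpowers a⁆ ≤ K := Subgroup.le_normalizer_iff_commutator_le_left.mp hzp
    have haL : a ∈ Subgroup.normalizer ((⁅K, Subgroup.zpowers a⁆ : Subgroup X) : Set X) :=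
      Subgroup.normalizer_commutator_ge_right K (Subgroup.zpowers a) (Subgroup.mem_zpowers a)
    by_cases hL : ⁅K, Subgroup.zpowers a⁆ = K
    · by_cases hbot : K = ⊥
      · intro x hx
        rw [hbot, Subgroup.mem_bot] at hx
        subst hx; simp
      have hΦne : frat 2 K ≠ K := frat_ne 2 K hK hbot
      have hΦle : frat 2 K ≤ K := frat_le 2 K
      have hΦcard : Nat.card (frat 2 K) ≤ n := by
        have := card_lt_of_le_of_ne hΦle hΦne
        omega
      have haΦ : a ∈ Subgroup.normalizer ((frat 2 K : Subgroup X) : Set X) :=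
        normalizer_le_normalizer_frat 2 K ha
      have hcΦ : ∀ x ∈ frat 2 K, a * x = x * a :=
        ih (frat 2 K) hΦcard (hK.to_le hΦle) haΦ (fun x hx hxp => hfix x (hΦle hx) hxp)
      have hzc : Subgroup.zpowers a ≤ Subgroup.centralizer ((frat 2 K : Subgroup X) : Set X) := by
        rw [Subgroup.zpowers_le]
        exact Subgroup.mem_centralizer_iff.mpr (fun x hx => (hcΦ x hx).symm)
      have h1 : ⁅⁅Subgroup.zpowers a, frat 2 K⁆, K⁆ = ⊥ := by
        rw [Subgroup.commutator_eq_bot_iff_le_centralizer.mpr hzc, Subgroup.commutator_bot_left]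
      have h2 : ⁅⁅frat 2 K, K⁆, Subgroup.zpowers a⁆ = ⊥ := by
        rw [eq_bot_iff]
        have hle1 : ⁅frat 2 K, K⁆ ≤ frat 2 K :=
          le_trans (Subgroup.commutator_mono hΦle le_rfl) (comm_le_frat 2 K)
        have hle2 : ⁅⁅frat 2 K, K⁆, Subgroup.zpowers a⁆ ≤ ⁅Subgroup.zpowers a, frat 2 K⁆ := by
          rw [Subgroup.commutator_comm (Subgroup.zpowers a)]
          exact Subgroup.commutator_mono hle1 le_rfl
        rw [Subgroup.commutator_eq_bot_iff_le_centralizer.mpr hzc] at hle2
        exact hle2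
      have h3 := Subgroup.commutator_commutator_eq_bot_of_rotate h1 h2
      rw [hL, Subgroup.commutator_eq_bot_iff_le_centralizer] at h3
      have hcen : ∀ x ∈ K, ∀ c ∈ frat 2 K, c * x = x * c := by
        intro x hx c hc
        exact Subgroup.mem_centralizer_iff.mp (h3 hx) c hc
      intro x hx
      apply commute_of_comm_commute_pgroup 2 a hcop K hK ha x hx
      have haxa : a * x * a⁻¹ ∈ K := (Subgroup.mem_normalizer_iff.mp ha x).mp hx
      apply hfix _ (K.mul_mem (K.inv_mem hx) haxa)
      rw [mul_pow_four_of_frat_central K hcen _ _ (K.inv_mem hx) haxa, conj_pow]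
      have hx4 : x ^ 4 ∈ frat 2 K := by
        have : x ^ 4 = (x ^ 2) ^ 2 := by rw [← pow_mul]
        rw [this]
        exact (frat 2 K).pow_mem (pow_mem_frat 2 K hx) 2
      have hxp : a * x ^ 4 = x ^ 4 * a := hcΦ _ hx4
      rw [hxp]; group
    · have hLcard : Nat.card (⁅K, Subgroup.zpowers a⁆ : Subgroup X) ≤ n := by
        have := card_lt_of_le_of_ne hLK hL
        omega
      have hcL : ∀ y ∈ ⁅K, Subgroup.zpowers a⁆, a * y = y * a :=
        ih _ hLcard (hK.to_le hLK) haL (fun x hx hxp => hfix x (hLK hx) hxp)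
      exact centralizes_of_centralizes_comm 2 a hcop K hK ha hcL

end


/-- Let P be a 2-subgroup and A a subgroup of odd order of a finite group, with A normalizing P. Let D ≤ P with 1 < |D| < |P|. If every subgroup of P of order |D|, and also every subgroup of P of order 4 in case |D| = 2, is normalized by A, then A centralizes P. -/
theorem result {X : Type*} [Group X] [Finite X] (P A D : Subgroup X) (hP : IsPGroup 2 P) (hA : Odd (Nat.card A))
    (hAP : A ≤ Subgroup.normalizer (P : Set X)) (hDP : D ≤ P) (hD1 : 1 < Nat.card D) (hD2 : Nat.card D < Nat.card P)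
    (hinv : ∀ E : Subgroup X, E ≤ P → (Nat.card E = Nat.card D ∨ (Nat.card D = 2 ∧ Nat.card E = 4)) → A ≤ Subgroup.normalizer (E : Set X)) :
    A ≤ Subgroup.centralizer (P : Set X) := by
  classical
  have : Fact (Nat.Prime 2) := ⟨Nat.prime_two⟩
  intro a haA
  have hodd : Odd (orderOf a) := by
    have h1 : orderOf a ∣ Nat.card A := by
      have := orderOf_dvd_natCard (⟨a, haA⟩ : A)
      rwa [Subgroup.orderOf_mk] at this
    exact Odd.of_dvd_nat hA h1
  have hcop : (orderOf a).Coprime 2 := Nat.coprime_two_right.2 hodd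
  have haP : a ∈ Subgroup.normalizer (P : Set X) := hAP haA
  -- orders
  obtain ⟨n, hn⟩ := (IsPGroup.iff_card).1 hP
  obtain ⟨k, hk⟩ := (IsPGroup.iff_card).1 (hP.to_le hDP)
  have hk1 : 1 ≤ k := by
    rcases Nat.eq_zero_or_pos k with rfl | h
    · rw [hk] at hD1; simp at hD1
    · exact h
  have hkn : k < n := by
    rw [hk, hn] at hD2
    exact (Nat.pow_lt_pow_iff_right (by norm_num)).1 hD2
  -- every subgroup of `P` of order `2 ^ k` is normalized by `a`
  have hinvk : ∀ E : Subgroup X, E ≤ P → Nat.card E = 2 ^ k →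
      a ∈ Subgroup.normalizer (E : Set X) := fun E hE hc =>
    hinv E hE (Or.inl (by rw [hc, hk])) haA
  -- every subgroup of `P` of order `2 ^ k` is centralized by `a`
  have hcentk : ∀ E : Subgroup X, E ≤ P → Nat.card E = 2 ^ k → ∀ x ∈ E, a * x = x * a := by
    intro E hE hc
    by_cases hcyc : IsCyclic E
    · exact centralizes_cyclic E (hP.to_le hE) hcyc a (hinvk E hE hc) hodd
    · -- embed `E` in a subgroup `Q` of order `2 ^ (k + 1)`
      have hdvd : 2 ^ (k + 1) ∣ Nat.card P := by
        rw [hn]; exact pow_dvd_pow 2 hkn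
      have hc' : Nat.card (E.subgroupOf P) = 2 ^ k := by
        rw [← hc]
        exact Nat.card_congr (Subgroup.subgroupOfEquivOfLe hE).toEquiv
      obtain ⟨Q', hQ'card, hEQ'⟩ := Sylow.exists_subgroup_card_pow_succ hdvd hc'
      set Q : Subgroup X := Q'.map P.subtype with hQdef
      have hQP : Q ≤ P := by
        rintro y ⟨z, _, rfl⟩; exact z.2
      have hQcard : Nat.card Q = 2 ^ (k + 1) := by
        rw [hQdef, Subgroup.card_map_of_injective P.subtype_injective, hQ'card]
      have hEQ : E ≤ Q := by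
        intro y hy
        exact ⟨⟨y, hE hy⟩, hEQ' (Subgroup.mem_subgroupOf.2 hy), rfl⟩
      have hQnc : ¬ IsCyclic Q := by
        intro hQc
        apply hcyc
        have : IsCyclic (E.subgroupOf Q) := Subgroup.isCyclic _
        exact isCyclic_of_surjective (Subgroup.subgroupOfEquivOfLe hEQ).toMonoidHom
          (Subgroup.subgroupOfEquivOfLe hEQ).surjective
      have hcentQ : ∀ x ∈ Q, a * x = x * a := by
        apply centralizes_of_max_invariant Q (hP.to_le hQP) hQnc a hodd
        intro M hM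
        apply hinvk
        · exact (Subgroup.map_subtype_le M).trans hQP
        · rw [Subgroup.card_map_of_injective Q.subtype_injective]
          have h1 := M.card_mul_index
          rw [hM, hQcard, pow_succ] at h1
          exact Nat.eq_of_mul_eq_mul_right (by norm_num) h1
      intro x hx
      exact hcentQ x (hEQ hx)
  -- every element of order dividing four is centralized
  have hfour : ∀ x ∈ P, x ^ 4 = 1 → a * x = x * a := by
    intro x hx hx4
    have hzP : Subgroup.zpowers x ≤ P := Subgroup.zpowers_le.2 hx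
    have hzcyc : IsCyclic (Subgroup.zpowers x) := inferInstance
    obtain ⟨i, hi⟩ := (IsPGroup.iff_card).1 (hP.to_le hzP)
    have hi2 : i ≤ 2 := by
      have h1 : orderOf x ∣ 4 := orderOf_dvd_of_pow_eq_one hx4
      rw [Nat.card_zpowers] at hi
      rw [hi] at h1
      have h2 : 2 ^ i ≤ 2 ^ 2 := Nat.le_of_dvd (by norm_num) h1
      exact (Nat.pow_le_pow_iff_right (by norm_num)).1 h2
    by_cases hik : i ≤ k
    · -- embed `⟨x⟩` into a subgroup of order `2 ^ k`
      have hdvd : 2 ^ k ∣ Nat.card P := by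
        rw [hn]; exact pow_dvd_pow 2 hkn.le
      have hc' : Nat.card ((Subgroup.zpowers x).subgroupOf P) = 2 ^ i := by
        rw [← hi]
        exact Nat.card_congr (Subgroup.subgroupOfEquivOfLe hzP).toEquiv
      obtain ⟨E', hE'card, hzE'⟩ := Sylow.exists_subgroup_card_pow_prime_le 2 hdvd _ hc' hik
      have hEP : E'.map P.subtype ≤ P := by
        rintro y ⟨z, _, rfl⟩; exact z.2
      have hEcard : Nat.card (E'.map P.subtype) = 2 ^ k := by
        rw [Subgroup.card_map_of_injective P.subtype_injective, hE'card]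
      have hxE : x ∈ E'.map P.subtype :=
        ⟨⟨x, hx⟩, hzE' (Subgroup.mem_subgroupOf.2 (Subgroup.mem_zpowers x)), rfl⟩
      exact hcentk _ hEP hEcard x hxE
    · -- `k = 1` and `i = 2`
      have hk1' : k = 1 := by omega
      have hi2' : i = 2 := by omega
      subst hk1' hi2'
      have hnorm : a ∈ Subgroup.normalizer ((Subgroup.zpowers x : Subgroup X) : Set X) :=
        hinv _ hzP (Or.inr ⟨by rw [hk]; norm_num, by rw [hi]; norm_num⟩) haA
      exact centralizes_cyclic _ (hP.to_le hzP) hzcyc a hnorm hodd x (Subgroup.mem_zpowers x)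
  rw [Subgroup.mem_centralizer_iff]
  intro x hx
  exact (centralizes_of_centralizes_omega_two_aux a hcop _ P le_rfl hP haP hfour x hx).symm

end Cfsg.Agent.S3803
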