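import Cfsg.Statements.S3804
-- import your own Cfsg.Agent.* helpers here

set_option autoImplicit false
open Cfsg

namespace Cfsg.Agent.S3804

open scoped Pointwise

section
variable {X : Type*} [Group X]

/-- product formula `|A| |B| = |A B| |A ∩ B|` -/
theorem card_mul_card_eq (A B : Subgroup X) :
    Nat.card A * Nat.card B =
      Nat.card ↥((A : Set X) * (B : Set X)) * Nat.card ↥(A ⊓ B) := by
  classical
  rw [← Nat.card_prod, ← Nat.card_prod]
  have hex : ∀ t : ↥((A : Set X) * (B : Set X)), ∃ p : A × B, (p.1 : X) * (p.2 : X) = t := by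
    rintro ⟨t, ht⟩
    obtain ⟨a, ha, b, hb, rfl⟩ := Set.mem_mul.1 ht
    exact ⟨(⟨a, ha⟩, ⟨b, hb⟩), rfl⟩
  choose r hr using hex
  symm
  apply Nat.card_congr
  refine Equiv.ofBijective
    (fun q : ↥((A : Set X) * (B : Set X)) × ↥(A ⊓ B) =>
      ((⟨((r q.1).1 : X) * (q.2 : X), A.mul_mem (r q.1).1.2 q.2.2.1⟩ : A),
       (⟨(q.2 : X)⁻¹ * ((r q.1).2 : X), B.mul_mem (B.inv_mem q.2.2.2) (r q.1).2.2⟩ : B))) ⟨?_, ?_⟩
  · rintro ⟨t, d⟩ ⟨t', d'⟩ h
    simp only [Prod.mk.injEq, Subtype.mk.injEq] at h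
    obtain ⟨h1, h2⟩ := h
    have ht : (t : X) = t' := by
      rw [← hr t, ← hr t']
      calc ((r t).1 : X) * ((r t).2 : X)
          = (((r t).1 : X) * (d : X)) * ((d : X)⁻¹ * ((r t).2 : X)) := by group
        _ = (((r t').1 : X) * (d' : X)) * ((d' : X)⁻¹ * ((r t').2 : X)) := by rw [h1, h2]
        _ = ((r t').1 : X) * ((r t').2 : X) := by group
    have ht' : t = t' := Subtype.ext ht
    subst ht'
    have hd : (d : X) = d' := mul_left_cancel h1
    exact Prod.ext rfl (Subtype.ext hd)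
  · rintro ⟨a, b⟩
    have hab : (a : X) * (b : X) ∈ (A : Set X) * (B : Set X) := Set.mul_mem_mul a.2 b.2
    set t : ↥((A : Set X) * (B : Set X)) := ⟨(a : X) * (b : X), hab⟩ with ht
    have hrt : ((r t).1 : X) * ((r t).2 : X) = (a : X) * (b : X) := hr t
    have hd1 : ((r t).1 : X)⁻¹ * (a : X) ∈ A := A.mul_mem (A.inv_mem (r t).1.2) a.2
    have hd2 : ((r t).1 : X)⁻¹ * (a : X) ∈ B := by
      have : ((r t).1 : X)⁻¹ * (a : X) = ((r t).2 : X) * (b : X)⁻¹ := by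
        calc ((r t).1 : X)⁻¹ * (a : X)
            = ((r t).1 : X)⁻¹ * ((a : X) * (b : X)) * (b : X)⁻¹ := by group
          _ = ((r t).1 : X)⁻¹ * (((r t).1 : X) * ((r t).2 : X)) * (b : X)⁻¹ := by rw [hrt]
          _ = ((r t).2 : X) * (b : X)⁻¹ := by group
      rw [this]
      exact B.mul_mem (r t).2.2 (B.inv_mem b.2)
    refine ⟨(t, ⟨((r t).1 : X)⁻¹ * (a : X), hd1, hd2⟩), ?_⟩
    apply Prod.ext
    · apply Subtype.ext
      show ((r t).1 : X) * (((r t).1 : X)⁻¹ * (a : X)) = a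
      group
    · apply Subtype.ext
      show (((r t).1 : X)⁻¹ * (a : X))⁻¹ * ((r t).2 : X) = b
      calc (((r t).1 : X)⁻¹ * (a : X))⁻¹ * ((r t).2 : X)
          = (a : X)⁻¹ * (((r t).1 : X) * ((r t).2 : X)) := by group
        _ = (a : X)⁻¹ * ((a : X) * (b : X)) := by rw [hrt]
        _ = b := by group

theorem card_mul_card_le [Finite X] (A B K : Subgroup X)
    (hsub : (A : Set X) * (B : Set X) ⊆ K) :
    Nat.card A * Nat.card B ≤ Nat.card K * Nat.card ↥(A ⊓ B) := by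
  rw [card_mul_card_eq]
  apply Nat.mul_le_mul_right
  exact Nat.card_mono (Set.toFinite _) hsub

theorem mem_mul_of_card_eq [Finite X] (A B K : Subgroup X)
    (hsub : (A : Set X) * (B : Set X) ⊆ K)
    (hcard : Nat.card A * Nat.card B = Nat.card K * Nat.card ↥(A ⊓ B)) :
    ∀ k ∈ K, ∃ a ∈ A, ∃ b ∈ B, k = a * b := by
  rw [card_mul_card_eq] at hcard
  have hpos : 0 < Nat.card ↥(A ⊓ B) := Nat.card_pos
  have h1 : Nat.card ↥((A : Set X) * (B : Set X)) = Nat.card K :=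
    Nat.eq_of_mul_eq_mul_right hpos hcard
  have h2 : (A : Set X) * (B : Set X) = (K : Set X) := by
    apply Set.eq_of_subset_of_ncard_le hsub _ (Set.toFinite _)
    rw [← Nat.card_coe_set_eq, ← Nat.card_coe_set_eq]
    exact h1.ge
  intro k hk
  have hk' : k ∈ (A : Set X) * (B : Set X) := h2 ▸ hk
  obtain ⟨a, ha, b, hb, rfl⟩ := Set.mem_mul.1 hk'
  exact ⟨a, ha, b, hb, rfl⟩

end

/-- the real-number squeeze -/
theorem real_key (α : ℝ) (hα : 0 < α) (a b d j cA cB cD cJ : ℕ)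
    (ha : 0 < a) (hb : 0 < b) (hd : 0 < d) (hj : 0 < j)
    (hcA : 0 < cA) (hcB : 0 < cB) (hcD : 0 < cD) (hcJ : 0 < cJ)
    (h1 : a * b ≤ j * d) (h2 : cA * cB ≤ cD * cJ) (μ : ℝ)
    (hμA : μ = (a : ℝ) ^ α * cA) (hμB : μ = (b : ℝ) ^ α * cB)
    (hJ : (j : ℝ) ^ α * cJ ≤ μ) (hD : (d : ℝ) ^ α * cD ≤ μ) :
    a * b = j * d ∧ cA * cB = cD * cJ ∧ (j : ℝ) ^ α * cJ = μ ∧ (d : ℝ) ^ α * cD = μ := by
  have ha' : (0 : ℝ) < a := by exact_mod_cast ha
  have hb' : (0 : ℝ) < b := by exact_mod_cast hb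
  have hd' : (0 : ℝ) < d := by exact_mod_cast hd
  have hj' : (0 : ℝ) < j := by exact_mod_cast hj
  have hcA' : (0 : ℝ) < cA := by exact_mod_cast hcA
  have hcB' : (0 : ℝ) < cB := by exact_mod_cast hcB
  have hcD' : (0 : ℝ) < cD := by exact_mod_cast hcD
  have hcJ' : (0 : ℝ) < cJ := by exact_mod_cast hcJ
  have hμpos : 0 < μ := by
    rw [hμA]; exact mul_pos (Real.rpow_pos_of_pos ha' α) hcA'
  set U : ℝ := ((a : ℝ) * b) ^ α with hU
  set U' : ℝ := ((j : ℝ) * d) ^ α with hU'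
  set V : ℝ := (cA : ℝ) * cB with hV
  set V' : ℝ := (cD : ℝ) * cJ with hV'
  have hUpos : 0 < U := Real.rpow_pos_of_pos (mul_pos ha' hb') α
  have hU'pos : 0 < U' := Real.rpow_pos_of_pos (mul_pos hj' hd') α
  have hVpos : 0 < V := mul_pos hcA' hcB'
  have hV'pos : 0 < V' := mul_pos hcD' hcJ'
  have e1 : μ * μ = U * V := by
    have : μ * μ = ((a : ℝ) ^ α * cA) * ((b : ℝ) ^ α * cB) := by
      rw [← hμA, ← hμB]
    rw [this, hU, Real.mul_rpow ha'.le hb'.le, hV]; ring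
  have e2 : ((j : ℝ) ^ α * cJ) * ((d : ℝ) ^ α * cD) = U' * V' := by
    rw [hU', Real.mul_rpow hj'.le hd'.le, hV']; ring
  have i1 : U ≤ U' := by
    apply Real.rpow_le_rpow (mul_pos ha' hb').le _ hα.le
    exact_mod_cast h1
  have i2 : V ≤ V' := by
    rw [hV, hV']; exact_mod_cast h2
  have hJpos : 0 < (j : ℝ) ^ α * cJ := mul_pos (Real.rpow_pos_of_pos hj' α) hcJ'
  have hDpos : 0 < (d : ℝ) ^ α * cD := mul_pos (Real.rpow_pos_of_pos hd' α) hcD'
  have i3 : ((j : ℝ) ^ α * cJ) * ((d : ℝ) ^ α * cD) ≤ μ * μ :=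
    mul_le_mul hJ hD hDpos.le hμpos.le
  have i4 : U * V ≤ U' * V' := mul_le_mul i1 i2 hVpos.le hU'pos.le
  have e3 : U * V = U' * V' := le_antisymm i4 (by rw [← e2, ← e1]; exact i3)
  have e4 : ((j : ℝ) ^ α * cJ) * ((d : ℝ) ^ α * cD) = μ * μ := by
    rw [e2, ← e3, ← e1]
  have hUU : U = U' := by
    by_contra hne
    have hlt : U < U' := lt_of_le_of_ne i1 hne
    have : U * V < U' * V' := by
      calc U * V < U' * V := mul_lt_mul_of_pos_right hlt hVpos
        _ ≤ U' * V' := mul_le_mul_of_nonneg_left i2 hU'pos.le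
    exact absurd e3 this.ne
  have hVV : V = V' := by
    by_contra hne
    have hlt : V < V' := lt_of_le_of_ne i2 hne
    have : U * V < U' * V' := by
      calc U * V < U * V' := mul_lt_mul_of_pos_left hlt hUpos
        _ ≤ U' * V' := mul_le_mul_of_nonneg_right i1 hV'pos.le
    exact absurd e3 this.ne
  have hJeq : (j : ℝ) ^ α * cJ = μ := by
    by_contra hne
    have hlt : (j : ℝ) ^ α * cJ < μ := lt_of_le_of_ne hJ hne
    have : ((j : ℝ) ^ α * cJ) * ((d : ℝ) ^ α * cD) < μ * μ := by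
      calc ((j : ℝ) ^ α * cJ) * ((d : ℝ) ^ α * cD) < μ * ((d : ℝ) ^ α * cD) :=
            mul_lt_mul_of_pos_right hlt hDpos
        _ ≤ μ * μ := mul_le_mul_of_nonneg_left hD hμpos.le
    exact absurd e4 this.ne
  have hDeq : (d : ℝ) ^ α * cD = μ := by
    by_contra hne
    have hlt : (d : ℝ) ^ α * cD < μ := lt_of_le_of_ne hD hne
    have : ((j : ℝ) ^ α * cJ) * ((d : ℝ) ^ α * cD) < μ * μ := by
      calc ((j : ℝ) ^ α * cJ) * ((d : ℝ) ^ α * cD) < ((j : ℝ) ^ α * cJ) * μ :=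
            mul_lt_mul_of_pos_left hlt hJpos
        _ ≤ μ * μ := mul_le_mul_of_nonneg_right hJ hμpos.le
    exact absurd e4 this.ne
  refine ⟨?_, ?_, hJeq, hDeq⟩
  · by_contra hne
    have hlt : a * b < j * d := lt_of_le_of_ne h1 hne
    have hlt' : (a : ℝ) * b < (j : ℝ) * d := by exact_mod_cast hlt
    have : U < U' := Real.rpow_lt_rpow (mul_pos ha' hb').le hlt' hα
    exact absurd hUU this.ne
  · have : ((cA * cB : ℕ) : ℝ) = ((cD * cJ : ℕ) : ℝ) := by
      push_cast; exact hVV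
    exact_mod_cast this


/-- Let G and H be subgroups of a finite group with G normalizing H, fix a real number α > 0, and for a subgroup A of G put m(A) = |A|^α · |C_H(A)|. Let A and B be nontrivial subgroups of G at which m attains its maximum over all nontrivial subgroups of G, and assume that A ∩ B ≠ 1 or that this maximum is at least |H|. Then AB = BA is a subgroup at which m is again maximal, C_H(A ∩ B) = C_H(A) C_H(B), and if A ∩ B ≠ 1 then m is maximal at A ∩ B as well. -/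
theorem result {X : Type*} [Group X] [Finite X] (G H : Subgroup X) (hGH : G ≤ Subgroup.normalizer (H : Set X)) (α : ℝ) (hα : 0 < α)
    (A B : Subgroup X) (hA : A ≤ G) (hB : B ≤ G) (hA1 : A ≠ ⊥) (hB1 : B ≠ ⊥)
    (hAmax : ∀ A' : Subgroup X, A' ≤ G → A' ≠ ⊥ → (fun A : Subgroup X => ((Nat.card A : ℝ) ^ α) * (Nat.card ↥(H ⊓ Subgroup.centralizer (A : Set X)) : ℝ)) A' ≤ (fun A : Subgroup X => ((Nat.card A : ℝ) ^ α) * (Nat.card ↥(H ⊓ Subgroup.centralizer (A : Set X)) : ℝ)) A)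
    (hBmax : ∀ A' : Subgroup X, A' ≤ G → A' ≠ ⊥ → (fun A : Subgroup X => ((Nat.card A : ℝ) ^ α) * (Nat.card ↥(H ⊓ Subgroup.centralizer (A : Set X)) : ℝ)) A' ≤ (fun A : Subgroup X => ((Nat.card A : ℝ) ^ α) * (Nat.card ↥(H ⊓ Subgroup.centralizer (A : Set X)) : ℝ)) B)
    (hcase : A ⊓ B ≠ ⊥ ∨ (Nat.card H : ℝ) ≤ (fun A : Subgroup X => ((Nat.card A : ℝ) ^ α) * (Nat.card ↥(H ⊓ Subgroup.centralizer (A : Set X)) : ℝ)) A) :
    (∀ a ∈ A, ∀ b ∈ B, ∃ b' ∈ B, ∃ a' ∈ A, a * b = b' * a') ∧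
    (∀ A' : Subgroup X, A' ≤ G → A' ≠ ⊥ → (fun A : Subgroup X => ((Nat.card A : ℝ) ^ α) * (Nat.card ↥(H ⊓ Subgroup.centralizer (A : Set X)) : ℝ)) A' ≤ (fun A : Subgroup X => ((Nat.card A : ℝ) ^ α) * (Nat.card ↥(H ⊓ Subgroup.centralizer (A : Set X)) : ℝ)) (A ⊔ B)) ∧
    (∀ h ∈ H ⊓ Subgroup.centralizer ((A ⊓ B : Subgroup X) : Set X), ∃ u ∈ H ⊓ Subgroup.centralizer (A : Set X), ∃ v ∈ H ⊓ Subgroup.centralizer (B : Set X), h = u * v) ∧
    (A ⊓ B ≠ ⊥ → ∀ A' : Subgroup X, A' ≤ G → A' ≠ ⊥ → (fun A : Subgroup X => ((Nat.card A : ℝ) ^ α) * (Nat.card ↥(H ⊓ Subgroup.centralizer (A : Set X)) : ℝ)) A' ≤ (fun A : Subgroup X => ((Nat.card A : ℝ) ^ α) * (Nat.card ↥(H ⊓ Subgroup.centralizer (A : Set X)) : ℝ)) (A ⊓ B)) := by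
  classical
  set m : Subgroup X → ℝ := fun A => ((Nat.card A : ℝ) ^ α) *
    (Nat.card ↥(H ⊓ Subgroup.centralizer (A : Set X)) : ℝ) with hm
  have hAmax' : ∀ A' : Subgroup X, A' ≤ G → A' ≠ ⊥ → m A' ≤ m A := hAmax
  have hBmax' : ∀ A' : Subgroup X, A' ≤ G → A' ≠ ⊥ → m A' ≤ m B := hBmax
  have hcase' : A ⊓ B ≠ ⊥ ∨ (Nat.card H : ℝ) ≤ m A := hcase
  have hAB : m A = m B := le_antisymm (hBmax' A hA hA1) (hAmax' B hB hB1)
  have hsupG : A ⊔ B ≤ G := sup_le hA hB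
  have hsup1 : A ⊔ B ≠ ⊥ := fun h => hA1 (le_bot_iff.1 (h ▸ le_sup_left))
  have hJ : m (A ⊔ B) ≤ m A := hAmax' _ hsupG hsup1
  have hD : m (A ⊓ B) ≤ m A := by
    by_cases h : A ⊓ B = ⊥
    · rcases hcase' with h' | h'
      · exact absurd h h'
      · have hc : Subgroup.centralizer ((⊥ : Subgroup X) : Set X) = ⊤ := by
          rw [Subgroup.centralizer_eq_top_iff_subset]
          intro x hx
          have hx1 : x = 1 := by simpa using hx
          subst hx1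
          exact Subgroup.one_mem _
        have hmbot : m (A ⊓ B) = (Nat.card H : ℝ) := by
          rw [h]
          show ((Nat.card (⊥ : Subgroup X) : ℝ) ^ α) *
            (Nat.card ↥(H ⊓ Subgroup.centralizer ((⊥ : Subgroup X) : Set X)) : ℝ) = (Nat.card H : ℝ)
          rw [hc, inf_top_eq, Subgroup.card_bot]
          simp
        rw [hmbot]; exact h'
    · exact hAmax' _ (inf_le_left.trans hA) h
  -- the centralizers
  have hCJ : (H ⊓ Subgroup.centralizer (A : Set X)) ⊓ (H ⊓ Subgroup.centralizer (B : Set X)) =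
      H ⊓ Subgroup.centralizer ((A ⊔ B : Subgroup X) : Set X) := by
    ext x
    constructor
    · rintro ⟨⟨hxH, hxA⟩, ⟨_, hxB⟩⟩
      refine ⟨hxH, ?_⟩
      have hle : A ⊔ B ≤ Subgroup.centralizer {x} := by
        apply sup_le
        · intro a ha
          rw [Subgroup.mem_centralizer_iff]
          intro y hy
          rw [Set.mem_singleton_iff] at hy
          subst hy
          exact (Subgroup.mem_centralizer_iff.1 hxA a ha).symm
        · intro b hb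
          rw [Subgroup.mem_centralizer_iff]
          intro y hy
          rw [Set.mem_singleton_iff] at hy
          subst hy
          exact (Subgroup.mem_centralizer_iff.1 hxB b hb).symm
      show x ∈ Subgroup.centralizer ((A ⊔ B : Subgroup X) : Set X)
      rw [Subgroup.mem_centralizer_iff]
      intro y hy
      exact ((Subgroup.mem_centralizer_iff.1 (hle hy)) x rfl).symm
    · rintro ⟨hxH, hxJ⟩
      have hA' : (A : Set X) ⊆ ((A ⊔ B : Subgroup X) : Set X) := fun y hy =>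
        (le_sup_left : A ≤ A ⊔ B) hy
      have hB' : (B : Set X) ⊆ ((A ⊔ B : Subgroup X) : Set X) := fun y hy =>
        (le_sup_right : B ≤ A ⊔ B) hy
      exact ⟨⟨hxH, Subgroup.centralizer_le hA' hxJ⟩, ⟨hxH, Subgroup.centralizer_le hB' hxJ⟩⟩
  have hCACB : ((H ⊓ Subgroup.centralizer (A : Set X) : Subgroup X) : Set X) *
      ((H ⊓ Subgroup.centralizer (B : Set X) : Subgroup X) : Set X) ⊆
      ((H ⊓ Subgroup.centralizer ((A ⊓ B : Subgroup X) : Set X) : Subgroup X) : Set X) := by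
    rintro _ ⟨u, hu, v, hv, rfl⟩
    refine ⟨H.mul_mem hu.1 hv.1, ?_⟩
    show u * v ∈ Subgroup.centralizer ((A ⊓ B : Subgroup X) : Set X)
    rw [Subgroup.mem_centralizer_iff]
    intro y hy
    have h1 : y * u = u * y := Subgroup.mem_centralizer_iff.1 hu.2 y hy.1
    have h2 : y * v = v * y := Subgroup.mem_centralizer_iff.1 hv.2 y hy.2
    calc y * (u * v) = (y * u) * v := by group
      _ = u * (y * v) := by rw [h1]; group
      _ = u * v * y := by rw [h2]; group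
  have hABsub : (A : Set X) * (B : Set X) ⊆ ((A ⊔ B : Subgroup X) : Set X) := by
    rintro _ ⟨a, ha, b, hb, rfl⟩
    exact (A ⊔ B).mul_mem (Subgroup.mem_sup_left ha) (Subgroup.mem_sup_right hb)
  have hBAsub : (B : Set X) * (A : Set X) ⊆ ((A ⊔ B : Subgroup X) : Set X) := by
    rintro _ ⟨b, hb, a, ha, rfl⟩
    exact (A ⊔ B).mul_mem (Subgroup.mem_sup_right hb) (Subgroup.mem_sup_left ha)
  have N1 := card_mul_card_le A B (A ⊔ B) hABsub
  have N2 := card_mul_card_le _ _ _ hCACB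
  rw [hCJ] at N2
  obtain ⟨E1, E2, E3, E4⟩ := real_key α hα (Nat.card A) (Nat.card B) (Nat.card ↥(A ⊓ B))
    (Nat.card ↥(A ⊔ B)) (Nat.card ↥(H ⊓ Subgroup.centralizer (A : Set X)))
    (Nat.card ↥(H ⊓ Subgroup.centralizer (B : Set X)))
    (Nat.card ↥(H ⊓ Subgroup.centralizer ((A ⊓ B : Subgroup X) : Set X)))
    (Nat.card ↥(H ⊓ Subgroup.centralizer ((A ⊔ B : Subgroup X) : Set X)))
    Nat.card_pos Nat.card_pos Nat.card_pos Nat.card_pos Nat.card_pos Nat.card_pos Nat.card_pos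
    Nat.card_pos N1 N2 (m A) rfl hAB hJ hD
  refine ⟨?_, ?_, ?_, ?_⟩
  · intro a ha b hb
    have hc : Nat.card B * Nat.card A = Nat.card ↥(A ⊔ B) * Nat.card ↥(B ⊓ A) := by
      rw [mul_comm, E1, inf_comm]
    exact mem_mul_of_card_eq B A (A ⊔ B) hBAsub hc (a * b)
      ((A ⊔ B).mul_mem (Subgroup.mem_sup_left ha) (Subgroup.mem_sup_right hb))
  · intro A' h1 h2
    show m A' ≤ m (A ⊔ B)
    exact (hAmax' A' h1 h2).trans E3.ge
  · have hc : Nat.card ↥(H ⊓ Subgroup.centralizer (A : Set X)) *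
        Nat.card ↥(H ⊓ Subgroup.centralizer (B : Set X)) =
        Nat.card ↥(H ⊓ Subgroup.centralizer ((A ⊓ B : Subgroup X) : Set X)) *
        Nat.card ↥((H ⊓ Subgroup.centralizer (A : Set X)) ⊓
          (H ⊓ Subgroup.centralizer (B : Set X))) := by
      rw [hCJ]; exact E2
    exact mem_mul_of_card_eq _ _ _ hCACB hc
  · intro _ A' h1 h2
    show m A' ≤ m (A ⊓ B)
    exact (hAmax' A' h1 h2).trans E4.ge

end Cfsg.Agent.S3804
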