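import Cfsg.Statements.S3806
import Cfsg.Agent.Lib.Helper87.MCPowT
-- import your own Cfsg.Agent.* helpers here

set_option autoImplicit false
open Cfsg

namespace Cfsg.Agent.S3806

open Cfsg.Agent.Lib.Helper87.MCP
open Cfsg.Agent.Lib.Helper87.B3
open scoped commutatorElement

/-- a section `H / K` that is abelian of exponent `p` and of order more than `p ^ k` contradicts sectional rank `≤ k`. -/
theorem not_sectionalPRankLE {S : Type*} [Group S] [Finite S] (p k : ℕ) (H K : Subgroup S)
    (hKH : K ≤ H) [hN : (K.subgroupOf H).Normal] (hcomm : ∀ a ∈ H, ∀ b ∈ H, ⁅a, b⁆ ∈ K)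
    (hpow : ∀ a ∈ H, a ^ p ∈ K) (hcard : p ^ k * Nat.card K < Nat.card H) :
    ¬ Cfsg.SectionalPRankLE p k S := by
  intro h
  have h1 := h H (K.subgroupOf H) (⊤ : Subgroup (↥H ⧸ K.subgroupOf H)) ?_ ?_
  · have h2 : Nat.card ↥(⊤ : Subgroup (↥H ⧸ K.subgroupOf H)) = (K.subgroupOf H).index := by
      rw [Subgroup.card_top, Subgroup.index_eq_card]
    have h3 := Subgroup.index_mul_card (K.subgroupOf H)
    have h4 : Nat.card ↥(K.subgroupOf H) = Nat.card ↥K :=
      Nat.card_congr (Subgroup.subgroupOfEquivOfLe hKH).toEquiv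
    rw [h2] at h1
    rw [h4] at h3
    have : (K.subgroupOf H).index * Nat.card ↥K ≤ p ^ k * Nat.card ↥K :=
      Nat.mul_le_mul_right _ h1
    omega
  · refine ⟨⟨fun a b => ?_⟩⟩
    apply Subtype.ext
    obtain ⟨a, _⟩ := a
    obtain ⟨b, _⟩ := b
    show a * b = b * a
    induction a using QuotientGroup.induction_on with
    | H x =>
      induction b using QuotientGroup.induction_on with
      | H y =>
        rw [← QuotientGroup.mk_mul, ← QuotientGroup.mk_mul, QuotientGroup.eq, Subgroup.mem_subgroupOf]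
        have := hcomm _ (H.inv_mem y.2) _ (H.inv_mem x.2)
        have e : (((x * y)⁻¹ * (y * x) : ↥H) : S) = ⁅((y : S))⁻¹, ((x : S))⁻¹⁆ := by
          simp [commutatorElement_def, mul_assoc]
        rw [e]
        exact this
  · intro a _
    induction a using QuotientGroup.induction_on with
    | H x =>
      rw [← QuotientGroup.mk_pow, QuotientGroup.eq_one_iff, Subgroup.mem_subgroupOf]
      simpa using hpow _ x.2

/-- `⁅Γ (k-1), Γ (k-1)⁆ ≤ Γ (2k)` in a group of maximal class. -/
theorem comm_mem_of_mc {S : Type*} [Group S] [Finite S] {p : ℕ} [Fact p.Prime] (n : ℕ) (hn : 3 ≤ n)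
    (hG : Nat.card S = p ^ n) (hcl : Group.nilpotencyClass S = n - 1) (k : ℕ) (hk : 2 ≤ k)
    (hkn : 2 * k + 1 ≤ n) (a b : S) (ha : a ∈ (⊤ : Subgroup S).lowerCentralSeries (k - 1))
    (hb : b ∈ (⊤ : Subgroup S).lowerCentralSeries (k - 1)) :
    ⁅a, b⁆ ∈ (⊤ : Subgroup S).lowerCentralSeries (2 * k) := by
  have hp : p.Prime := Fact.out
  have hGp : IsPGroup p S := IsPGroup.of_card hG
  set Γ := (⊤ : Subgroup S).lowerCentralSeries with hΓ
  have hcc : ∀ u ∈ Γ (k - 1), ∀ w ∈ Γ k, ⁅u, w⁆ ∈ Γ (2 * k) := by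
    intro u hu w hw
    have h1 : ⁅u, w⁆ ∈ ⁅Γ (k - 1), Γ k⁆ := Subgroup.commutator_mem_commutator hu hw
    have h2 := Cfsg.Agent.Lib.Helper70.lcs_comm_le (G := S) (k - 1) k h1
    have e : k - 1 + k + 1 = 2 * k := by omega
    rw [e] at h2
    exact h2
  by_cases hbk : b ∈ Γ k
  · exact hcc a ha b hbk
  · let D : Subgroup S :=
      { carrier := {v | v ∈ Γ (k - 1) ∧ ⁅v, b⁆ ∈ Γ (2 * k)}
        one_mem' := ⟨one_mem _, by rw [commutatorElement_one_left]; exact one_mem _⟩
        mul_mem' := by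
          rintro x y ⟨hx, hx'⟩ ⟨hy, hy'⟩
          refine ⟨mul_mem hx hy, ?_⟩
          have h1 := (comm_mem_iff_commute (Γ (2 * k)) x b).mp hx'
          have h2 := (comm_mem_iff_commute (Γ (2 * k)) y b).mp hy'
          rw [comm_mem_iff_commute, map_mul]
          exact h1.mul_left h2
        inv_mem' := by
          rintro x ⟨hx, hx'⟩
          refine ⟨inv_mem hx, ?_⟩
          have h1 := (comm_mem_iff_commute (Γ (2 * k)) x b).mp hx'
          rw [comm_mem_iff_commute, map_inv]
          exact h1.inv_left }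
    have h1 : Γ k ≤ D := by
      intro v hv
      refine ⟨Subgroup.lowerCentralSeries_antitone _ (by omega) hv, ?_⟩
      have := hcc b hb v hv
      have e : ⁅v, b⁆ = ⁅b, v⁆⁻¹ := (commutatorElement_inv b v).symm
      rw [e]
      exact inv_mem this
    have h2 : D ≤ Γ (k - 1) := fun v hv => hv.1
    have hbD : b ∈ D := ⟨hb, by rw [commutatorElement_self]; exact one_mem _⟩
    have hck := mc_card_lcs n hn hG hcl k (by omega) (by omega)
    have hck1 := mc_card_lcs n hn hG hcl (k - 1) (by omega) (by omega)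
    obtain ⟨d, hd⟩ := (hGp.to_subgroup D).exists_card_eq
    have hdge : n - 1 - k ≤ d := by
      have := Subgroup.card_le_of_le h1
      rw [hd, hck] at this
      exact (Nat.pow_le_pow_iff_right hp.one_lt).mp this
    have hdne : d ≠ n - 1 - k := by
      intro heq
      apply hbk
      have : Γ k = D := by
        apply Subgroup.eq_of_le_of_card_ge h1
        rw [hd, hck, heq]
      rw [this]
      exact hbD
    have hDeq : D = Γ (k - 1) := by
      apply Subgroup.eq_of_le_of_card_ge h2
      rw [hd, hck1]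
      apply Nat.pow_le_pow_right hp.pos
      omega
    have haD : a ∈ D := by rw [hDeq]; exact ha
    exact haD.2

/-- Let p be a prime and S a finite p-group of order pⁿ (n ≥ 2) of maximal nilpotency class n − 1 whose sectional p-rank is exactly k (every section has p-rank at most k, and some section has p-rank k). If p ≥ k + 2 then the order of S is at most p^(2k). -/
theorem result {S : Type*} [Group S] [Finite S] (p : ℕ) [Fact p.Prime] (hS : IsPGroup p S) [Group.IsNilpotent S]
    (n : ℕ) (hn : 2 ≤ n) (hcard : Nat.card S = p ^ n) (hmax : Group.nilpotencyClass S = n - 1)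
    (k : ℕ) (hk : 1 ≤ k) (hsr : Cfsg.SectionalPRankLE p k S ∧ ¬ Cfsg.SectionalPRankLE p (k - 1) S)
    (hpk : k + 2 ≤ p) : Nat.card S ≤ p ^ (2 * k) := by
  have hp : p.Prime := Fact.out
  rw [hcard]
  apply Nat.pow_le_pow_right hp.pos
  by_contra hcon
  have hnk : 2 * k + 1 ≤ n := by omega
  have hn3 : 3 ≤ n := by omega
  set Γ := (⊤ : Subgroup S).lowerCentralSeries with hΓ
  rcases Nat.eq_or_lt_of_le hk with hk1 | hk2
  · -- `k = 1`: the section `S / Γ 1` is elementary abelian of order `p ^ 2`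
    subst hk1
    have hKH : Γ 1 ≤ (⊤ : Subgroup S) := le_top
    have : ((Γ 1).subgroupOf (⊤ : Subgroup S)).Normal := inferInstance
    refine not_sectionalPRankLE p 1 (⊤ : Subgroup S) (Γ 1) hKH ?_ ?_ ?_ hsr.1
    · intro a _ b _
      have h1 : ⁅a, b⁆ ∈ ⁅(⊤ : Subgroup S), (⊤ : Subgroup S)⁆ :=
        Subgroup.commutator_mem_commutator (Subgroup.mem_top a) (Subgroup.mem_top b)
      have h2 : Γ 1 = ⁅(⊤ : Subgroup S), (⊤ : Subgroup S)⁆ := by
        rw [hΓ, Subgroup.lowerCentralSeries_succ, Subgroup.lowerCentralSeries_zero]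
      rw [h2]
      exact h1
    · intro a _
      exact mc_pow_mem_lcs_one n hn3 hcard hmax a
    · rw [Subgroup.card_top, hcard, mc_card_lcs n hn3 hcard hmax 1 le_rfl (by omega), ← pow_add]
      apply Nat.pow_lt_pow_right hp.one_lt
      omega
  · -- `k ≥ 2`: the section `Γ (k - 1) / Γ (2 k)` is elementary abelian of order `p ^ (k + 1)`
    have hKH : Γ (2 * k) ≤ Γ (k - 1) := Subgroup.lowerCentralSeries_antitone _ (by omega)
    have : ((Γ (2 * k)).subgroupOf (Γ (k - 1))).Normal := inferInstance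
    refine not_sectionalPRankLE p k (Γ (k - 1)) (Γ (2 * k)) hKH ?_ ?_ ?_ hsr.1
    · intro a ha b hb
      exact comm_mem_of_mc n hn3 hcard hmax k hk2 hnk a b ha hb
    · intro a ha
      have h1 := mc_pow_lcs n hn3 S hcard hmax (k - 1) (by omega) (by omega) a ha
      exact Subgroup.lowerCentralSeries_antitone _ (by omega) h1
    · rw [mc_card_lcs n hn3 hcard hmax (2 * k) (by omega) (by omega),
        mc_card_lcs n hn3 hcard hmax (k - 1) (by omega) (by omega), ← pow_add]
      apply Nat.pow_lt_pow_right hp.one_lt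
      omega

end Cfsg.Agent.S3806
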