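import Cfsg.Statements.S3808
import Cfsg.Agent.Lib.Helper63.PGroupBasic

set_option autoImplicit false
open Cfsg

namespace Cfsg.Agent.S3808

/-- Let S be a finite p-group with an extraspecial subgroup Q of index p. Then either Z(S) = Z(Q), or S = Q·Z(S) and Z(S) has order p². -/
theorem result {S : Type*} [Group S] [Finite S] (p : ℕ) [Fact p.Prime] (hS : IsPGroup p S) (Q : Subgroup S) (hQ : Cfsg.IsExtraspecial p ↥Q) (hQi : Q.index = p) :
    Subgroup.center S = (Subgroup.center ↥Q).map Q.subtype ∨
      (Q ⊔ Subgroup.center S = ⊤ ∧ Nat.card (Subgroup.center S) = p ^ 2) := by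
  classical
  have hp : p.Prime := Fact.out
  have hQn : Q.Normal := Cfsg.Agent.Lib.Helper63.normal_of_index_eq_prime hS Q hQi
  -- the image of the centre of `Q`
  set ZQ : Subgroup S := (Subgroup.center ↥Q).map Q.subtype with hZQ
  have : ZQ.Normal := ConjAct.normal_of_characteristic_of_normal
  have hZQcard : Nat.card ZQ = p := by
    rw [hZQ, Subgroup.card_map_of_injective (Subgroup.subtype_injective Q)]
    exact hQ.2
  have hZQle : ZQ ≤ Subgroup.center S :=
    Cfsg.Agent.Lib.Helper63.normal_card_prime_le_center hS ZQ hZQcard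
  have hZQQ : ZQ ≤ Q := by
    rintro y ⟨z, _, rfl⟩
    exact z.2
  have hinf : Subgroup.center S ⊓ Q = ZQ := by
    apply le_antisymm
    · rintro x ⟨hx1, hx2⟩
      refine ⟨⟨x, hx2⟩, ?_, rfl⟩
      show (⟨x, hx2⟩ : ↥Q) ∈ Subgroup.center ↥Q
      rw [Subgroup.mem_center_iff]
      intro q
      apply Subtype.ext
      have := (Subgroup.mem_center_iff.1 hx1) (q : S)
      simpa using this
    · exact le_inf hZQle hZQQ
  by_cases hle : Subgroup.center S ≤ Q
  · left
    rw [← hinf]
    exact (inf_eq_left.2 hle).symm
  · right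
    have htop : Q ⊔ Subgroup.center S = ⊤ := by
      have h1 : Q.relIndex (Q ⊔ Subgroup.center S) * (Q ⊔ Subgroup.center S).index = p := by
        rw [Subgroup.relIndex_mul_index le_sup_left, hQi]
      rcases (Nat.dvd_prime hp).1 (Dvd.intro_left _ h1) with h2 | h2
      · exact Subgroup.index_eq_one.1 h2
      · exfalso
        rw [h2] at h1
        have h3 : Q.relIndex (Q ⊔ Subgroup.center S) = 1 := by
          have hpos : 0 < p := hp.pos
          nlinarith [Nat.eq_of_mul_eq_mul_right hpos (by rw [one_mul]; exact h1 : Q.relIndex (Q ⊔ Subgroup.center S) * p = 1 * p)]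
        rw [Subgroup.relIndex_eq_one] at h3
        exact hle (le_trans le_sup_right h3)
    refine ⟨htop, ?_⟩
    have h4 : Q.relIndex (Subgroup.center S) = p := by
      have := Subgroup.relIndex_sup_right (H := Subgroup.center S) (K := Q)
      rw [sup_comm, htop, Subgroup.relIndex_top_right, hQi] at this
      exact this.symm
    have h5 : (Subgroup.center S ⊓ Q).relIndex (Subgroup.center S) = p := by
      rw [inf_comm, Subgroup.inf_relIndex_right, h4]
    have h6 : Nat.card ↥(Subgroup.center S ⊓ Q) * (Subgroup.center S ⊓ Q).relIndex (Subgroup.center S)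
        = Nat.card (Subgroup.center S) := by
      have := Subgroup.card_mul_index ((Subgroup.center S ⊓ Q).subgroupOf (Subgroup.center S))
      rw [Subgroup.relIndex]
      rw [← this]
      congr 1
      exact Nat.card_congr (Subgroup.subgroupOfEquivOfLe inf_le_left).symm.toEquiv
    rw [← h6, h5, hinf, hZQcard, sq]

end Cfsg.Agent.S3808
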