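-- S3809 (helper63): p-group with an extraspecial subgroup of index p.
import Mathlib
import Cfsg.Statements.S3809
import Cfsg.Agent.S0095
import Cfsg.Agent.S0012
import Cfsg.Agent.Lib.Helper63.PGroupBasic

set_option autoImplicit false
open Cfsg

namespace Cfsg.Agent.S3809

/-- if `Q` has prime index `p` in a finite `p`-group, then `S' ≤ Q` and `x ^ p ∈ Q`. -/
theorem index_p_facts {S : Type*} [Group S] [Finite S] (p : ℕ) [hp : Fact p.Prime]
    (hS : IsPGroup p S) (Q : Subgroup S) (hQi : Q.index = p) :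
    Q.Normal ∧ commutator S ≤ Q ∧ ∀ x : S, x ^ p ∈ Q := by
  have hQn : Q.Normal := Cfsg.Agent.Lib.Helper63.normal_of_index_eq_prime hS Q hQi
  have hcard : Nat.card (S ⧸ Q) = p := by rw [← Subgroup.index_eq_card, hQi]
  refine ⟨hQn, ?_, ?_⟩
  · have hcyc : IsCyclic (S ⧸ Q) := isCyclic_of_prime_card hcard
    have hcomm : IsMulCommutative (S ⧸ Q) :=
      ⟨⟨fun a b => (IsCyclic.commGroup (α := S ⧸ Q)).mul_comm a b⟩⟩
    exact Subgroup.Normal.quotient_commutative_iff_commutator_le.1 hcomm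
  · intro x
    have h1 : ((x : S ⧸ Q)) ^ Nat.card (S ⧸ Q) = 1 := pow_card_eq_one'
    rw [hcard, ← QuotientGroup.mk_pow] at h1
    exact (QuotientGroup.eq_one_iff _).1 h1

/-- Let S be a finite p-group with an extraspecial subgroup of index p. Then S has order p^(2+2n) for some n ≥ 1, derived length at most 3, and exponent dividing p³. -/
theorem result {S : Type*} [Group S] [Finite S] (p : ℕ) [Fact p.Prime] (hS : IsPGroup p S) (Q : Subgroup S) (hQ : Cfsg.IsExtraspecial p ↥Q) (hQi : Q.index = p) :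
    (∃ n : ℕ, 1 ≤ n ∧ Nat.card S = p ^ (2 + 2 * n)) ∧ derivedSeries S 3 = ⊥ ∧ ∀ x : S, x ^ (p ^ 3) = 1 := by
  obtain ⟨hQn, hcomm, hpow⟩ := index_p_facts p hS Q hQi
  obtain ⟨⟨hQp, hfrat, hcommQ⟩, hZcard⟩ := hQ
  refine ⟨?_, ?_, ?_⟩
  · obtain ⟨n, hn1, hn⟩ := Cfsg.Agent.S0095.result (P := ↥Q) ⟨⟨hQp, hfrat, hcommQ⟩, hZcard⟩
    refine ⟨n, hn1, ?_⟩
    rw [← Subgroup.card_mul_index Q, hn, hQi, ← pow_succ]
    congr 1
    omega
  · -- derived length
    have h1 : derivedSeries S 1 ≤ Q := by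
      rw [derivedSeries_one]
      exact hcomm
    have h2 : derivedSeries S 2 ≤ (Subgroup.center ↥Q).map Q.subtype := by
      rw [derivedSeries_succ]
      refine le_trans (Subgroup.commutator_mono h1 h1) ?_
      rw [← Subgroup.map_subtype_commutator, hcommQ]
    rw [derivedSeries_succ, eq_bot_iff]
    refine le_trans (Subgroup.commutator_mono h2 h2) ?_
    rw [Subgroup.commutator_le]
    rintro _ ⟨z₁, hz₁, rfl⟩ _ ⟨z₂, hz₂, rfl⟩
    rw [Subgroup.mem_bot, commutatorElement_eq_one_iff_mul_comm]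
    have := Subgroup.mem_center_iff.1 hz₂ z₁
    exact congrArg Subtype.val this
  · intro x
    have hS12 := Cfsg.Agent.S0012.result (G := ↥Q) p hQp
    have h1 : (⟨x ^ p, hpow x⟩ : ↥Q) ^ p ∈ Subgroup.center ↥Q := by
      rw [← hfrat]
      exact hS12.2 _
    have h2 : ((⟨x ^ p, hpow x⟩ : ↥Q) ^ p) ^ p = 1 := by
      have h3 : (⟨(⟨x ^ p, hpow x⟩ : ↥Q) ^ p, h1⟩ : Subgroup.center ↥Q) ^
          Nat.card (Subgroup.center ↥Q) = 1 := pow_card_eq_one'
      rw [hZcard] at h3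
      have h4 := congrArg Subtype.val h3
      simpa using h4
    have h5 := congrArg Subtype.val h2
    simp only [Subgroup.coe_pow, Subgroup.coe_one] at h5
    rw [← h5, ← pow_mul, ← pow_mul]
    congr 1
    ring

end Cfsg.Agent.S3809
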