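-- S3810 (helper63): a p-group with an extraspecial subgroup of index p has an abelian subgroup of
-- index p iff its order is p^4.
import Mathlib
import Cfsg.Statements.S3810
import Cfsg.Agent.S0095
import Cfsg.Agent.S0110
import Cfsg.Agent.S0015
import Cfsg.Agent.Lib.Helper63.PGroupBasic

set_option autoImplicit false
open Cfsg

namespace Cfsg.Agent.S3810

open scoped commutatorElement

theorem forward {S : Type*} [Group S] [Finite S] (p : ℕ) [hp : Fact p.Prime] (hS : IsPGroup p S)
    (Q : Subgroup S) (hQ : Cfsg.IsExtraspecial p ↥Q) (hQi : Q.index = p)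
    (A : Subgroup S) (hA : IsMulCommutative ↥A) (hAi : A.index = p) : Nat.card S = p ^ 4 := by
  obtain ⟨n, hn1, hn⟩ := Cfsg.Agent.S0095.result hQ
  have hAn : A.Normal := Cfsg.Agent.Lib.Helper63.normal_of_index_eq_prime hS A hAi
  have hBi : (A.subgroupOf Q).index ∣ p := by
    have h : A.relIndex Q ∣ A.index := Subgroup.relIndex_dvd_index_of_normal A Q
    rwa [hAi] at h
  have hBab : ∀ x ∈ A.subgroupOf Q, ∀ y ∈ A.subgroupOf Q, x * y = y * x := by
    intro x hx y hy
    apply Subtype.ext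
    have h := hA.is_comm.comm ⟨x.1, hx⟩ ⟨y.1, hy⟩
    have h' : (x : S) * (y : S) = (y : S) * (x : S) := congrArg (Subtype.val : ↥A → S) h
    exact h'
  have hZW : Subgroup.center ↥Q ≤ Subgroup.centralizer ((A.subgroupOf Q : Subgroup ↥Q) : Set ↥Q) :=
    Subgroup.center_le_centralizer _
  have hdual := Cfsg.Agent.S0095.dual hQ.1.2.2 hQ.1.1 hQ.2 _ hZW
  have hBW : A.subgroupOf Q ≤ Subgroup.centralizer ((A.subgroupOf Q : Subgroup ↥Q) : Set ↥Q) :=
    fun x hx => Subgroup.mem_centralizer_iff.2 (fun y hy => hBab y hy x hx)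
  have hBCW : A.subgroupOf Q ≤ Subgroup.centralizer
      ((Subgroup.centralizer ((A.subgroupOf Q : Subgroup ↥Q) : Set ↥Q) : Subgroup ↥Q) : Set ↥Q) :=
    Subgroup.le_centralizer_iff.1 le_rfl
  have h1 : Nat.card (A.subgroupOf Q) * Nat.card (A.subgroupOf Q) ≤ p * Nat.card Q := by
    rw [← hdual]
    exact Nat.mul_le_mul (Subgroup.card_le_of_le hBCW) (Subgroup.card_le_of_le hBW)
  have h2 : Nat.card Q ≤ Nat.card (A.subgroupOf Q) * p := by
    rw [← Subgroup.card_mul_index (A.subgroupOf Q)]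
    exact Nat.mul_le_mul_left _ (Nat.le_of_dvd hp.out.pos hBi)
  have hqpos : 0 < Nat.card Q := Nat.card_pos
  have h3 : Nat.card Q ≤ p ^ 3 := by
    have h4 : Nat.card Q * Nat.card Q ≤ p ^ 3 * Nat.card Q := by
      calc Nat.card Q * Nat.card Q
          ≤ (Nat.card (A.subgroupOf Q) * p) * (Nat.card (A.subgroupOf Q) * p) :=
            Nat.mul_le_mul h2 h2
        _ = (Nat.card (A.subgroupOf Q) * Nat.card (A.subgroupOf Q)) * (p * p) := by ring
        _ ≤ (p * Nat.card Q) * (p * p) := Nat.mul_le_mul_right _ h1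
        _ = p ^ 3 * Nat.card Q := by ring
    exact Nat.le_of_mul_le_mul_right h4 hqpos
  rw [hn] at h3
  have h5 : 2 * n + 1 ≤ 3 := (Nat.pow_le_pow_iff_right hp.out.one_lt).1 h3
  have hn' : n = 1 := by omega
  rw [← Subgroup.card_mul_index Q, hn, hQi, hn']
  ring


theorem pow_le_prime_of_lt {p j : ℕ} (hp : p.Prime) (h : p < p ^ j) : 2 ≤ j := by
  by_contra hcon
  push Not at hcon
  interval_cases j
  · rw [pow_zero] at h; exact absurd h (not_lt.2 hp.one_lt.le)
  · rw [pow_one] at h; exact lt_irrefl _ h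

theorem backward {S : Type*} [Group S] [Finite S] (p : ℕ) [hp : Fact p.Prime] (hS : IsPGroup p S)
    (Q : Subgroup S) (hQ : Cfsg.IsExtraspecial p ↥Q) (hQi : Q.index = p)
    (hcard : Nat.card S = p ^ 4) : ∃ A : Subgroup S, IsMulCommutative ↥A ∧ A.index = p := by
  have hQn : Q.Normal := Cfsg.Agent.Lib.Helper63.normal_of_index_eq_prime hS Q hQi
  have hppos : 0 < p := hp.out.pos
  have hQcard : Nat.card Q = p ^ 3 := by
    have h := Subgroup.card_mul_index Q
    rw [hQi, hcard] at h
    exact Nat.eq_of_mul_eq_mul_right hppos (by rw [h]; ring)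
  -- the centre of Q, inside S
  have hZn : ((Subgroup.center ↥Q).map Q.subtype).Normal :=
    ConjAct.normal_of_characteristic_of_normal
  have hZcard : Nat.card ((Subgroup.center ↥Q).map Q.subtype) = p := by
    rw [Subgroup.card_map_of_injective (Subgroup.subtype_injective _)]
    exact hQ.2
  set Z : Subgroup S := (Subgroup.center ↥Q).map Q.subtype with hZ
  have hZcen : Z ≤ Subgroup.center S :=
    Cfsg.Agent.Lib.Helper63.normal_card_prime_le_center hS Z hZcard
  have hZQ : Z ≤ Q := Subgroup.map_subtype_le _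
  -- an element of Q, not in Z, central modulo Z
  have hnil : Group.IsNilpotent (S ⧸ Z) := (hS.to_quotient Z).isNilpotent
  have hNbar : Q.map (QuotientGroup.mk' Z) ≠ ⊥ := by
    intro h
    have h1 : Q ≤ Z := by
      have := (Subgroup.map_eq_bot_iff Q).1 h
      rwa [QuotientGroup.ker_mk'] at this
    have h2 := Subgroup.card_le_of_le h1
    rw [hQcard, hZcard] at h2
    have h3 : p ^ 1 < p ^ 3 := Nat.pow_lt_pow_right hp.out.one_lt (by norm_num)
    rw [pow_one] at h3
    omega
  have hNn : (Q.map (QuotientGroup.mk' Z)).Normal :=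
    hQn.map _ (QuotientGroup.mk'_surjective Z)
  obtain ⟨xbar, hxQ, hxc, hx1⟩ :=
    Cfsg.Agent.S0015.exists_mem_center_of_normal (Q.map (QuotientGroup.mk' Z)) hNbar
  obtain ⟨b₀, hb₀Q, rfl⟩ := hxQ
  have hb₀Z : b₀ ∉ Z := fun h => hx1 ((QuotientGroup.eq_one_iff b₀).2 h)
  have hcommZ : ∀ g : S, g * b₀ * g⁻¹ * b₀⁻¹ ∈ Z := by
    intro g
    rw [← QuotientGroup.eq_one_iff]
    have h := Subgroup.mem_center_iff.1 hxc (QuotientGroup.mk' Z g)
    have h' : (QuotientGroup.mk' Z) (g * b₀ * g⁻¹ * b₀⁻¹) = 1 := by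
      rw [map_mul, map_mul, map_mul, map_inv, map_inv, h]
      group
    exact h'
  have hCi := (Cfsg.Agent.S0110.index_centralizer_le Z b₀ hcommZ).1
  rw [hZcard] at hCi
  -- C ≠ ⊤
  have hCtop : Subgroup.centralizer ({b₀} : Set S) ≠ ⊤ := by
    intro htop
    apply hb₀Z
    refine ⟨⟨b₀, hb₀Q⟩, ?_, rfl⟩
    show (⟨b₀, hb₀Q⟩ : ↥Q) ∈ Subgroup.center ↥Q
    rw [Subgroup.mem_center_iff]
    intro q
    apply Subtype.ext
    have h1 : (q : S) ∈ Subgroup.centralizer ({b₀} : Set S) := htop ▸ Subgroup.mem_top _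
    have h2 := Subgroup.mem_centralizer_iff.1 h1 b₀ rfl
    exact h2.symm
  have hCidx : (Subgroup.centralizer ({b₀} : Set S)).index = p := by
    obtain ⟨k, hk⟩ := IsPGroup.index hS (Subgroup.centralizer ({b₀} : Set S))
    have hk0 : k ≠ 0 := by
      intro h0
      rw [h0, pow_zero] at hk
      exact hCtop (Subgroup.index_eq_one.1 hk)
    have hk1 : k ≤ 1 := by
      by_contra hcon
      push Not at hcon
      have : p ^ 2 ≤ p ^ k := Nat.pow_le_pow_right hppos hcon
      have h3 : p ^ 1 < p ^ 2 := Nat.pow_lt_pow_right hp.out.one_lt (by norm_num)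
      rw [pow_one] at h3
      rw [hk] at hCi
      omega
    have : k = 1 := by omega
    rw [hk, this, pow_one]
  set C : Subgroup S := Subgroup.centralizer ({b₀} : Set S) with hC
  have hCcard : Nat.card C = p ^ 3 := by
    have h := Subgroup.card_mul_index C
    rw [hCidx, hcard] at h
    exact Nat.eq_of_mul_eq_mul_right hppos (by rw [h]; ring)
  refine ⟨C, ?_, hCidx⟩
  -- D₀
  have hb₀C : b₀ ∈ C := Subgroup.mem_centralizer_iff.2 (fun h hh => by rw [hh])
  have hZC : Z ≤ C := hZcen.trans (Subgroup.center_le_centralizer _)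
  have hD₀C : Z ⊔ Subgroup.zpowers b₀ ≤ C := sup_le hZC ((Subgroup.zpowers_le).2 hb₀C)
  have hD₀cent : Z ⊔ Subgroup.zpowers b₀ ≤ Subgroup.centralizer (C : Set S) := by
    apply sup_le
    · exact hZcen.trans (Subgroup.center_le_centralizer _)
    · rw [Subgroup.zpowers_le, Subgroup.mem_centralizer_iff]
      intro c hc
      have := Subgroup.mem_centralizer_iff.1 hc b₀ rfl
      exact this.symm
  obtain ⟨j, hj⟩ := IsPGroup.iff_card.1 (hS.to_subgroup (Z ⊔ Subgroup.zpowers b₀))
  have hj2 : 2 ≤ j := by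
    apply pow_le_prime_of_lt hp.out
    rw [← hj, ← hZcard]
    by_contra hcon
    push Not at hcon
    have heq : Z = Z ⊔ Subgroup.zpowers b₀ := Subgroup.eq_of_le_of_card_ge le_sup_left hcon
    apply hb₀Z
    rw [heq]
    exact (le_sup_right : Subgroup.zpowers b₀ ≤ Z ⊔ Subgroup.zpowers b₀)
      (Subgroup.mem_zpowers b₀)
  -- D' ≤ centre of C
  have hD'cen : (Z ⊔ Subgroup.zpowers b₀).subgroupOf C ≤ Subgroup.center ↥C := by
    intro d hd
    rw [Subgroup.mem_center_iff]
    intro c
    apply Subtype.ext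
    have h1 : (d : S) ∈ Subgroup.centralizer (C : Set S) := hD₀cent hd
    exact Subgroup.mem_centralizer_iff.1 h1 c c.2
  have hD'card : Nat.card ((Z ⊔ Subgroup.zpowers b₀).subgroupOf C) = p ^ j := by
    rw [← hj]
    exact Nat.card_congr (Subgroup.subgroupOfEquivOfLe hD₀C).toEquiv
  have hD'idx : ((Z ⊔ Subgroup.zpowers b₀).subgroupOf C).index ∣ p := by
    have h := Subgroup.card_mul_index ((Z ⊔ Subgroup.zpowers b₀).subgroupOf C)
    rw [hD'card, hCcard] at h
    have hj3 : j ≤ 3 := by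
      have : p ^ j ∣ p ^ 3 := Dvd.intro _ h
      exact (Nat.pow_dvd_pow_iff_le_right hp.out.one_lt).1 this
    have h2 : ((Z ⊔ Subgroup.zpowers b₀).subgroupOf C).index = p ^ (3 - j) := by
      have h3 : p ^ j * p ^ (3 - j) = p ^ 3 := by rw [← pow_add]; congr 1; omega
      exact Nat.eq_of_mul_eq_mul_left (pow_pos hppos j) (h.trans h3.symm)
    rw [h2]
    have : 3 - j ≤ 1 := by omega
    calc p ^ (3 - j) ∣ p ^ 1 := pow_dvd_pow p this
      _ = p := pow_one p
  have hcenidx : (Subgroup.center ↥C).index ∣ p := (Subgroup.index_dvd_of_le hD'cen).trans hD'idx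
  have hcyc : IsCyclic (↥C ⧸ Subgroup.center ↥C) := by
    rcases (Nat.dvd_prime hp.out).1 hcenidx with h | h
    · have h1 : Nat.card (↥C ⧸ Subgroup.center ↥C) = 1 := by
        rw [← Subgroup.index_eq_card, h]
      have : Subsingleton (↥C ⧸ Subgroup.center ↥C) := (Nat.card_eq_one_iff_unique.1 h1).1
      infer_instance
    · exact isCyclic_of_prime_card (p := p) (by rw [← Subgroup.index_eq_card, h])
  exact MonoidHom.isMulCommutative_of_isCyclic_of_ker_le_center
    (QuotientGroup.mk' (Subgroup.center ↥C)) (by rw [QuotientGroup.ker_mk'])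

/-- Let S be a finite p-group with an extraspecial subgroup of index p. Then S has an abelian subgroup of index p if and only if S has order p⁴. -/
theorem result {S : Type*} [Group S] [Finite S] (p : ℕ) [Fact p.Prime] (hS : IsPGroup p S) (Q : Subgroup S) (hQ : Cfsg.IsExtraspecial p ↥Q) (hQi : Q.index = p) :
    (∃ A : Subgroup S, IsMulCommutative ↥A ∧ A.index = p) ↔ Nat.card S = p ^ 4 := by
  constructor
  · rintro ⟨A, hA, hAi⟩
    exact forward p hS Q hQ hQi A hA hAi
  · intro h
    exact backward p hS Q hQ hQi h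

end Cfsg.Agent.S3810
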