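import Cfsg.Statements.S3811
import Cfsg.Agent.Lib.Helper63.Soft5

set_option autoImplicit false
open Cfsg

namespace Cfsg.Agent.S3811

open Cfsg.Agent.Lib.Helper63 in
/-- Let P be a finite p-group and E an abelian subgroup of P that contains its centralizer, has index p in its normalizer, and has index at least p² in P. Then the subgroups of P containing E are totally ordered by inclusion, each proper one has index p in its normalizer (so they form the normalizer tower of E, with all steps of index p), and the i-th member of the tower above E has nilpotency class i + 1 whenever it is a proper subgroup of P. -/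
theorem result {P : Type*} [Group P] [Finite P] (p : ℕ) [Fact p.Prime] (hP : IsPGroup p P)
    (E : Subgroup P) (hEab : IsMulCommutative ↥E) (hC : Subgroup.centralizer (E : Set P) ≤ E)
    (hN : (E.subgroupOf (Subgroup.normalizer (E : Set P))).index = p) (hidx : p ^ 2 ≤ E.index) :
    (∀ K L : Subgroup P, E ≤ K → E ≤ L → K ≤ L ∨ L ≤ K) ∧
      (∀ K : Subgroup P, E ≤ K → K ≠ ⊤ → (K.subgroupOf (Subgroup.normalizer (K : Set P))).index = p) ∧
      ∀ (i : ℕ) (K : Subgroup P) [Group.IsNilpotent ↥K], E ≤ K → K ≠ ⊤ → K.index * p ^ i = E.index →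
        Group.nilpotencyClass ↥K = i + 1 := by
  have hE : Soft p E := ⟨fun a ha b hb => by
      have := hEab.is_comm.comm ⟨a, ha⟩ ⟨b, hb⟩
      exact congrArg Subtype.val this, hC, hN, hidx⟩
  obtain ⟨hA, hB, hCup⟩ := hE.chainProp hP
  refine ⟨hA, hB, ?_⟩
  intro i K _ hEK hKtop hidxK
  have hmul := Subgroup.relIndex_mul_index hEK
  have hK0 : K.index ≠ 0 := Subgroup.index_ne_zero_of_finite
  have hi : E.relIndex K = p ^ i := by
    rw [← hidxK, mul_comm] at hmul
    exact Nat.eq_of_mul_eq_mul_left (Nat.pos_of_ne_zero hK0) hmul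
  have hup := hCup i K hEK hKtop hi
  have hlow := hE.lcs_ne_bot hP hEK hi
  have h1 : Group.nilpotencyClass ↥K ≤ i + 1 := by
    rw [← Subgroup.lowerCentralSeries_eq_bot_iff_nilpotencyClass_le]
    have h3 := Subgroup.top_subtype_lowerCentralSeries K (i + 1)
    rw [hup] at h3
    exact (Subgroup.map_eq_bot_iff_of_injective _ K.subtype_injective).1 h3
  have h2 : ¬ Group.nilpotencyClass ↥K ≤ i := by
    rw [← Subgroup.lowerCentralSeries_eq_bot_iff_nilpotencyClass_le]
    intro h
    apply hlow
    rw [← Subgroup.top_subtype_lowerCentralSeries K i, h, Subgroup.map_bot]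
  omega

end Cfsg.Agent.S3811
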