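import Cfsg.Statements.S3815
-- import your own Cfsg.Agent.* helpers here

set_option autoImplicit false
open Cfsg

namespace Cfsg.Agent.S3815

/-- The set of `p'`-elements `d` such that `d * g` is a `p'`-element for every `p'`-element `g`,
as a submonoid. -/
def goodSubmonoid (G : Type*) [Group G] (p : ℕ) : Submonoid G where
  carrier := {d | (orderOf d).Coprime p ∧ ∀ g : G, (orderOf g).Coprime p → (orderOf (d * g)).Coprime p}
  one_mem' := by
    refine ⟨by simp, fun g hg => by simpa using hg⟩
  mul_mem' := by
    rintro a b ⟨ha1, ha2⟩ ⟨hb1, hb2⟩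
    refine ⟨ha2 b hb1, fun g hg => ?_⟩
    rw [mul_assoc]
    exact ha2 _ (hb2 g hg)

/-- The same set as a subgroup of a finite group. -/
def goodSubgroup (G : Type*) [Group G] [Finite G] (p : ℕ) : Subgroup G :=
  { goodSubmonoid G p with
    inv_mem' := by
      intro a ha
      have h1 : a⁻¹ = a ^ (orderOf a - 1) := by
        have hpos : 0 < orderOf a := orderOf_pos a
        have : a ^ (orderOf a - 1) * a = 1 := by
          rw [← pow_succ, Nat.sub_add_cancel hpos, pow_orderOf_eq_one]
        exact (eq_inv_of_mul_eq_one_left this).symm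
      show a⁻¹ ∈ goodSubmonoid G p
      rw [h1]
      exact Submonoid.pow_mem _ ha _ }

theorem mem_goodSubgroup {G : Type*} [Group G] [Finite G] {p : ℕ} {d : G} :
    d ∈ goodSubgroup G p ↔
      (orderOf d).Coprime p ∧ ∀ g : G, (orderOf g).Coprime p → (orderOf (d * g)).Coprime p :=
  Iff.rfl

theorem goodSubgroup_normal (G : Type*) [Group G] [Finite G] (p : ℕ) :
    (goodSubgroup G p).Normal := by
  constructor
  intro a ha c
  rw [mem_goodSubgroup] at ha ⊢
  obtain ⟨ha1, ha2⟩ := ha
  refine ⟨?_, fun g hg => ?_⟩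
  · have : orderOf (c * a * c⁻¹) = orderOf a := by
      simpa using orderOf_injective (MulAut.conj c).toMonoidHom (MulAut.conj c).injective a
    rw [this]; exact ha1
  · have h1 : c * a * c⁻¹ * g = (MulAut.conj c) (a * (c⁻¹ * g * c)) := by
      simp [MulAut.conj_apply, mul_assoc]
    have h2 : orderOf (c * a * c⁻¹ * g) = orderOf (a * (c⁻¹ * g * c)) := by
      rw [h1]
      exact orderOf_injective (MulAut.conj c).toMonoidHom (MulAut.conj c).injective _
    have h3 : orderOf (c⁻¹ * g * c) = orderOf g := by
      have := orderOf_injective (MulAut.conj c⁻¹).toMonoidHom (MulAut.conj c⁻¹).injective g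
      simpa using this
    rw [h2]
    exact ha2 _ (by rw [h3]; exact hg)

theorem goodSubgroup_card_coprime (G : Type*) [Group G] [Finite G] (p : ℕ) [hp : Fact p.Prime] :
    (Nat.card (goodSubgroup G p)).Coprime p := by
  rw [Nat.coprime_comm, Nat.Prime.coprime_iff_not_dvd hp.out]
  intro hdvd
  obtain ⟨x, hx⟩ := exists_prime_orderOf_dvd_card' p hdvd
  have hx1 : (orderOf (x : G)).Coprime p := x.2.1
  rw [Subgroup.orderOf_coe, hx] at hx1
  exact hp.out.one_lt.ne' ((Nat.coprime_self p).1 hx1)

/-- Let G be a finite group, p a prime and d ∈ G an element of order prime to p. If dg has order prime to p for every element g ∈ G of order prime to p, then d ∈ O_{p'}(G). -/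
theorem result {G : Type*} [Group G] [Finite G] {p : ℕ} [Fact p.Prime]
    (d : G) (hd : (orderOf d).Coprime p)
    (h : ∀ g : G, (orderOf g).Coprime p → (orderOf (d * g)).Coprime p) :
    d ∈ Cfsg.pPrimeCore p G := by
  have hmem : d ∈ goodSubgroup G p := mem_goodSubgroup.2 ⟨hd, h⟩
  have hle : goodSubgroup G p ≤ Cfsg.pPrimeCore p G :=
    le_sSup ⟨goodSubgroup_normal G p, goodSubgroup_card_coprime G p⟩
  exact hle hmem

end Cfsg.Agent.S3815
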