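import Cfsg.Statements.S3818
import Cfsg.Agent.Lib.Helper2.FlavellMain

set_option autoImplicit false
open Cfsg

namespace Cfsg.Agent.S3818

/-- Let G be a finite solvable group and P a subgroup of G of prime order p > 3 whose conjugates generate G. Let V be a faithful irreducible representation of G over a field of positive characteristic, finite-dimensional. Then the subspace of V fixed by P has dimension less than half the dimension of V. -/
theorem result {G : Type*} [Group G] [Finite G] [Group.IsSolvable G]
    {p : ℕ} [Fact p.Prime] (hp : 3 < p) (P : Subgroup G) (hP : Nat.card P = p) (hgen : Subgroup.normalClosure (P : Set G) = ⊤)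
    {k : Type*} [Field k] (ℓ : ℕ) [Fact ℓ.Prime] [CharP k ℓ]
    {V : Type*} [AddCommGroup V] [Module k V] [FiniteDimensional k V]
    (ρ : Representation k G V) [ρ.IsIrreducible] (hfaith : Function.Injective ρ) :
    2 * Module.finrank k ↥(⨅ g : ↥P, LinearMap.ker (ρ (g : G) - LinearMap.id)) < Module.finrank k V := by
  classical
  -- irreducibility in invariant-subspace form
  haveI hVnt : Nontrivial V := by
    by_contra hV
    rw [not_nontrivial_iff_subsingleton] at hV
    have hnt : Nontrivial (Subrepresentation ρ) := inferInstance
    obtain ⟨a, b, hab⟩ := hnt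
    apply hab
    apply Subrepresentation.toSubmodule_injective
    exact Subsingleton.elim _ _
  have hirr : ∀ W : Submodule k V, (∀ g, W ≤ W.comap (ρ g)) → W = ⊥ ∨ W = ⊤ := by
    intro W hW
    let S : Subrepresentation ρ := ⟨W, fun g v hv => hW g hv⟩
    rcases IsSimpleOrder.eq_bot_or_eq_top S with h | h
    · left
      have := congrArg Subrepresentation.toSubmodule h
      exact this
    · right
      have := congrArg Subrepresentation.toSubmodule h
      exact this
  -- a generator of `P`
  haveI : Fact (Nat.card P).Prime := by rw [hP]; infer_instance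
  haveI hcyc : IsCyclic P := isCyclic_of_prime_card rfl
  obtain ⟨x, hxgen⟩ := hcyc.exists_generator
  have hxp : (x : G) ^ p = 1 := by
    have : x ^ Nat.card P = 1 := pow_card_eq_one'
    rw [hP] at this
    exact_mod_cast congrArg Subtype.val this
  have hx1 : (x : G) ≠ 1 := by
    intro h
    have hx1' : x = 1 := Subtype.ext h
    have hbot : (⊤ : Subgroup P) = ⊥ := by
      rw [eq_bot_iff]
      intro y _
      obtain ⟨n, rfl⟩ := Subgroup.mem_zpowers_iff.mp (hxgen y)
      rw [hx1', one_zpow]
      exact Subgroup.one_mem _
    have : Nat.card P = 1 := by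
      rw [← Subgroup.card_top, hbot, Subgroup.card_bot]
    have := (Fact.out : p.Prime).one_lt
    omega
  have hPz : P = Subgroup.zpowers (x : G) := by
    apply le_antisymm
    · intro y hy
      obtain ⟨n, hn⟩ := Subgroup.mem_zpowers_iff.mp (hxgen ⟨y, hy⟩)
      rw [Subgroup.mem_zpowers_iff]
      refine ⟨n, ?_⟩
      have := congrArg Subtype.val hn
      simpa using this
    · rw [Subgroup.zpowers_le]
      exact x.2
  have hgen' : Subgroup.normalClosure ({(x : G)} : Set G) = ⊤ := by
    have h1 : Subgroup.normalClosure ((Subgroup.zpowers (x : G) : Subgroup G) : Set G) =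
        Subgroup.normalClosure ({(x : G)} : Set G) := by
      rw [Subgroup.zpowers_eq_closure, Subgroup.normalClosure_closure_eq_normalClosure]
    rw [← h1, ← hPz, hgen]
  have hρx : ρ (x : G) ≠ 1 := by
    intro h
    apply hx1
    apply hfaith
    rw [h, map_one]
  have hker : (⨅ g : ↥P, LinearMap.ker (ρ (g : G) - LinearMap.id)) =
      LinearMap.ker (ρ (x : G) - LinearMap.id) := by
    apply le_antisymm
    · exact iInf_le _ x
    · rw [le_iInf_iff]
      intro g v hv
      rw [LinearMap.mem_ker, LinearMap.sub_apply, LinearMap.id_apply, sub_eq_zero] at hv ⊢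
      obtain ⟨n, hn⟩ := Subgroup.mem_zpowers_iff.mp (hxgen g)
      have hg : (g : G) = (x : G) ^ n := by
        rw [← hn]; simp
      -- the stabilizer of `v` is a subgroup
      let T : Subgroup G :=
        { carrier := {h | ρ h v = v}
          mul_mem' := by
            intro a b ha hb
            show ρ (a * b) v = v
            rw [map_mul, Module.End.mul_apply, hb, ha]
          one_mem' := by
            show ρ 1 v = v
            rw [map_one, Module.End.one_apply]
          inv_mem' := by
            intro a ha
            show ρ a⁻¹ v = v
            have h1 : ρ a⁻¹ (ρ a v) = v := by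
              rw [← Module.End.mul_apply, ← map_mul, inv_mul_cancel, map_one,
                Module.End.one_apply]
            rwa [ha] at h1 }
      have hxT : (x : G) ∈ T := hv
      have : (g : G) ∈ T := by
        rw [hg]
        exact Subgroup.zpow_mem T hxT n
      exact this
  rw [hker]
  exact Cfsg.Agent.Lib.Helper2.FlavellMain.main ℓ ρ hirr hp (x : G) hxp hρx hgen'

end Cfsg.Agent.S3818
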