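import Cfsg.Statements.S3819
import Cfsg.Agent.Lib.Helper31.QBalanceRel
import Cfsg.Agent.Lib.Helper48.Coprime

set_option autoImplicit false
set_option linter.style.haveILetI false
open Cfsg

namespace Cfsg.Agent.S3819

open scoped commutatorElement

open Cfsg.Agent.Lib.Helper34 Cfsg.Agent.Lib.Helper31 in
/-- The group-theoretic core of the statement, with `H` an arbitrary normal `p'`-subgroup. -/
theorem core_aux {G : Type*} [Group G] [Finite G] {p : ℕ} [Fact p.Prime]
    (H Pp : Subgroup G) (hHn : H.Normal) (hHc : (Nat.card H).Coprime p) (hPp : IsPGroup p Pp)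
    (hPH : H ⊔ Pp = ⊤) (hsol : Group.IsSolvable ↥⁅H, Pp⁆)
    {q : ℕ} [Fact q.Prime] (z : G) (hzH : z ∈ H) (hzP : z ∈ Subgroup.centralizer (Pp : Set G))
    (hz : ∃ k : ℕ, orderOf z = q ^ k) :
    (coreOf q (H ⊓ Subgroup.centralizer ({z} : Set G)) ⊓ coreOf q (H ⊓ Subgroup.centralizer (Pp : Set G))) ⊔
      ⁅coreOf q (H ⊓ Subgroup.centralizer ({z} : Set G)), Pp⁆ ≤ coreOf q H := by
  classical
  obtain ⟨Cz, hCz⟩ : ∃ Cz : Subgroup G, Cz = H ⊓ Subgroup.centralizer ({z} : Set G) := ⟨_, rfl⟩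
  obtain ⟨CP, hCP⟩ : ∃ CP : Subgroup G, CP = H ⊓ Subgroup.centralizer (Pp : Set G) := ⟨_, rfl⟩
  obtain ⟨K, hK⟩ : ∃ K : Subgroup G, K = ⁅H, Pp⁆ := ⟨_, rfl⟩
  rw [← hCz, ← hCP]
  rw [← hK] at hsol
  obtain ⟨X, hX⟩ : ∃ X : Subgroup G, X = coreOf q Cz := ⟨_, rfl⟩
  obtain ⟨D, hD⟩ : ∃ D : Subgroup G, D = coreOf q CP := ⟨_, rfl⟩
  rw [← hX, ← hD]
  -- basic facts
  have hCzH : Cz ≤ H := hCz ▸ inf_le_left
  have hCPH : CP ≤ H := hCP ▸ inf_le_left
  have hXCz : X ≤ Cz := hX ▸ coreOf_le q Cz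
  have hDCP : D ≤ CP := hD ▸ coreOf_le q CP
  have hXH : X ≤ H := hXCz.trans hCzH
  have hXc : (Nat.card X).Coprime q := hX ▸ card_coreOf_coprime q Cz
  have hDc : (Nat.card D).Coprime q := hD ▸ card_coreOf_coprime q CP
  have hKH : K ≤ H := by
    rw [hK]; haveI := hHn; exact Subgroup.commutator_le_left H Pp
  have hKn : K.Normal := by
    rw [← Subgroup.normalizer_eq_top_iff, eq_top_iff, ← hPH, hK]
    exact sup_le (Subgroup.normalizer_commutator_ge_left H Pp)
      (Subgroup.normalizer_commutator_ge_right H Pp)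
  obtain ⟨N, hN⟩ : ∃ N : Subgroup G, N = coreOf q K := ⟨_, rfl⟩
  have hNK : N ≤ K := hN ▸ coreOf_le q K
  have hNc : (Nat.card N).Coprime q := hN ▸ card_coreOf_coprime q K
  have hNn : N.Normal := by
    rw [← Subgroup.normalizer_eq_top_iff, eq_top_iff, hN]
    have h1 := normalizer_le_normalizer_coreOf q K
    rw [Subgroup.normalizer_eq_top_iff.mpr hKn] at h1
    exact h1
  have hNH : N ≤ coreOf q H :=
    le_coreOf (hNK.trans hKH) (by rw [Subgroup.normalizer_eq_top_iff.mpr hNn]; exact le_top) hNc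
  -- z commutes with X
  have hXz : ∀ x ∈ X, x * z = z * x := by
    intro x hx
    have h1 : x ∈ Subgroup.centralizer ({z} : Set G) := by
      have := hXCz hx; rw [hCz] at this; exact this.2
    exact (Subgroup.mem_centralizer_iff.mp h1 z rfl).symm
  -- P normalizes X
  have hPCz : Pp ≤ Subgroup.normalizer (Cz : Set G) := by
    apply le_normalizer_of_conj_mem_rel
    intro g hg a ha
    rw [hCz] at ha ⊢
    refine Subgroup.mem_inf.mpr ⟨hHn.conj_mem a ha.1 g, ?_⟩
    have h1 : z * a = a * z := Subgroup.mem_centralizer_iff.mp ha.2 z rfl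
    have h2 : g * z = z * g := Subgroup.mem_centralizer_iff.mp hzP g hg
    rw [Subgroup.mem_centralizer_iff]
    intro w hw
    rw [Set.mem_singleton_iff] at hw
    subst hw
    have h3 : g⁻¹ * w = w * g⁻¹ := by
      calc g⁻¹ * w = g⁻¹ * (w * g) * g⁻¹ := by group
        _ = g⁻¹ * (g * w) * g⁻¹ := by rw [h2]
        _ = w * g⁻¹ := by group
    calc w * (g * a * g⁻¹) = (w * g) * a * g⁻¹ := by group
      _ = (g * w) * a * g⁻¹ := by rw [h2]
      _ = g * (w * a) * g⁻¹ := by group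
      _ = g * (a * w) * g⁻¹ := by rw [h1]
      _ = g * a * (w * g⁻¹) := by group
      _ = g * a * (g⁻¹ * w) := by rw [h3]
      _ = g * a * g⁻¹ * w := by group
  have hPX : Pp ≤ Subgroup.normalizer (X : Set G) :=
    hPCz.trans (hX ▸ normalizer_le_normalizer_coreOf q Cz)
  have hXP_X : ⁅X, Pp⁆ ≤ X := Cfsg.Agent.Lib.Helper48.commutator_le_of_le_normalizer hPX
  have hXP_K : ⁅X, Pp⁆ ≤ K := by
    rw [hK]; exact Subgroup.commutator_mono hXH le_rfl
  -- key claim
  have key : ∀ y ∈ X, (∀ k ∈ K, ⁅k, y⁆ ∈ N) ∧ (y ∈ K → y ∈ N) := by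
    intro y hy
    obtain ⟨A, hA⟩ : ∃ A : Subgroup G, A = Subgroup.closure ({y, z} : Set G) := ⟨_, rfl⟩
    have hyz : y * z = z * y := hXz y hy
    have hAsol : Group.IsSolvable ↥A := hA ▸ isSolvable_closure_pair hyz
    have hyA : y ∈ A := hA ▸ Subgroup.subset_closure (Set.mem_insert _ _)
    have hzA : z ∈ A := hA ▸ Subgroup.subset_closure (Set.mem_insert_of_mem _ rfl)
    have hAH : A ≤ H := by
      rw [hA, Subgroup.closure_le]
      intro w hw
      simp only [Set.mem_insert_iff, Set.mem_singleton_iff] at hw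
      rcases hw with rfl | rfl
      · exact hXH hy
      · exact hzH
    obtain ⟨S, hS⟩ : ∃ S : Subgroup G, S = A ⊔ K := ⟨_, rfl⟩
    have hSsol : Group.IsSolvable ↥S := by
      rw [hS]; haveI := hKn; exact isSolvable_sup_of_normal hAsol hsol
    have hAS : A ≤ S := hS ▸ le_sup_left
    have hKS : K ≤ S := hS ▸ le_sup_right
    have hSH : S ≤ H := hS ▸ sup_le hAH hKH
    have hcons : IsPConstrained q ↥S :=
      Cfsg.Agent.Lib.Helper22.isPConstrained_of_isSolvable q hSsol
    obtain ⟨k₀, hk₀⟩ := hz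
    have hT : IsPGroup q (Subgroup.zpowers z) := by
      apply IsPGroup.of_card (n := k₀)
      rw [Nat.card_zpowers, hk₀]
    have hTS : Subgroup.zpowers z ≤ S := (Subgroup.zpowers_le.mpr hzA).trans hAS
    have hX'T : X ⊓ S ≤ Subgroup.centralizer ((Subgroup.zpowers z : Subgroup G) : Set G) := by
      intro x hx
      rw [Subgroup.mem_centralizer_iff]
      intro t ht
      obtain ⟨n, rfl⟩ := Subgroup.mem_zpowers_iff.mp ht
      have hc : Commute x z := hXz x hx.1
      exact (hc.zpow_right n).eq.symm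
    have hX'c : (Nat.card ↥(X ⊓ S)).Coprime q :=
      Nat.Coprime.coprime_dvd_left (Subgroup.card_dvd_of_le inf_le_left) hXc
    have hCzX : Cz ≤ Subgroup.normalizer (X : Set G) := hX ▸ le_normalizer_coreOf q Cz
    have hn : S ⊓ Subgroup.centralizer ((Subgroup.zpowers z : Subgroup G) : Set G) ≤
        Subgroup.normalizer ((X ⊓ S : Subgroup G) : Set G) := by
      apply le_normalizer_of_conj_mem_rel
      intro g hg a ha
      have hgCz : g ∈ Cz := by
        rw [hCz]
        refine Subgroup.mem_inf.mpr ⟨hSH hg.1, ?_⟩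
        rw [Subgroup.mem_centralizer_iff]
        intro w hw
        rw [Set.mem_singleton_iff] at hw
        subst hw
        exact Subgroup.mem_centralizer_iff.mp hg.2 w (Subgroup.mem_zpowers w)
      refine Subgroup.mem_inf.mpr ⟨?_, ?_⟩
      · exact (Subgroup.mem_normalizer_iff.mp (hCzX hgCz) a).mp ha.1
      · exact S.mul_mem (S.mul_mem hg.1 ha.2) (S.inv_mem hg.1)
    have hbal : X ⊓ S ≤ coreOf q S :=
      le_coreOf_of_isPConstrained q hcons hTS hT inf_le_right hX'T hX'c hn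
    obtain ⟨O, hO⟩ : ∃ O : Subgroup G, O = coreOf q S := ⟨_, rfl⟩
    rw [← hO] at hbal
    have hyO : y ∈ O := hbal (Subgroup.mem_inf.mpr ⟨hy, hAS hyA⟩)
    have hSO : S ≤ Subgroup.normalizer (O : Set G) := hO ▸ le_normalizer_coreOf q S
    have hOc : (Nat.card O).Coprime q := hO ▸ card_coreOf_coprime q S
    have hKO : K ⊓ O ≤ N := by
      rw [hN]
      refine le_coreOf inf_le_left ?_ (Nat.Coprime.coprime_dvd_left (Subgroup.card_dvd_of_le inf_le_right) hOc)
      apply le_normalizer_of_conj_mem_rel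
      intro g hg a ha
      refine Subgroup.mem_inf.mpr ⟨?_, ?_⟩
      · exact K.mul_mem (K.mul_mem hg ha.1) (K.inv_mem hg)
      · exact (Subgroup.mem_normalizer_iff.mp (hSO (hKS hg)) a).mp ha.2
    constructor
    · intro k hk
      apply hKO
      refine Subgroup.mem_inf.mpr ⟨?_, ?_⟩
      · -- ⁅k, y⁆ = k * (y * k⁻¹ * y⁻¹) ∈ K
        have e : ⁅k, y⁆ = k * (y * k⁻¹ * y⁻¹) := by
          simp only [commutatorElement_def]; group
        rw [e]
        exact K.mul_mem hk (hKn.conj_mem _ (K.inv_mem hk) y)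
      · -- ⁅k, y⁆ = (k * y * k⁻¹) * y⁻¹ ∈ O
        rw [commutatorElement_def]
        exact O.mul_mem ((Subgroup.mem_normalizer_iff.mp (hSO (hKS hk)) y).mp hyO) (O.inv_mem hyO)
    · intro hyK
      exact hKO (Subgroup.mem_inf.mpr ⟨hyK, hyO⟩)
  -- Part 1
  have part1 : ⁅X, Pp⁆ ≤ coreOf q H := by
    intro w hw
    exact hNH ((key w (hXP_X hw)).2 (hXP_K hw))
  -- Part 2
  have part2 : X ⊓ D ≤ coreOf q H := by
    haveI := hNn
    haveI := hKn
    obtain ⟨D₀, hD₀⟩ : ∃ D₀ : Subgroup G, D₀ = D ⊓ centralizerMod K N := ⟨_, rfl⟩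
    obtain ⟨M, hM⟩ : ∃ M : Subgroup G, M = D₀ ⊔ N := ⟨_, rfl⟩
    have hD₀D : D₀ ≤ D := hD₀ ▸ inf_le_left
    have hMH : M ≤ H := by
      rw [hM]; exact sup_le (hD₀D.trans (hDCP.trans hCPH)) (hNK.trans hKH)
    have hMc : (Nat.card M).Coprime q := by
      rw [hM]
      refine Nat.Coprime.coprime_dvd_left (card_sup_dvd_mul_of_normal D₀ N) ?_
      exact Nat.Coprime.mul_left
        (Nat.Coprime.coprime_dvd_left (Subgroup.card_dvd_of_le hD₀D) hDc) hNc
    have hCPD : CP ≤ Subgroup.normalizer (D : Set G) := hD ▸ le_normalizer_coreOf q CP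
    -- conjugation by elements of K
    have hconjK : ∀ w ∈ K, ∀ a ∈ M, w * a * w⁻¹ ∈ M := by
      intro w hw a ha
      have hle : M ≤ M.comap (MulAut.conj w).toMonoidHom := by
        rw [hM]
        apply sup_le
        · intro d hd
          rw [Subgroup.mem_comap]
          show w * d * w⁻¹ ∈ D₀ ⊔ N
          have hdC : d ∈ centralizerMod K N := by rw [hD₀] at hd; exact hd.2
          have e : w * d * w⁻¹ = ⁅w, d⁆ * d := by
            simp only [commutatorElement_def]; group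
          rw [e]
          exact Subgroup.mul_mem _ (Subgroup.mem_sup_right (hdC w hw)) (Subgroup.mem_sup_left hd)
        · intro n hn
          rw [Subgroup.mem_comap]
          show w * n * w⁻¹ ∈ D₀ ⊔ N
          exact Subgroup.mem_sup_right (hNn.conj_mem n hn w)
      exact hle ha
    have hconjC : ∀ c ∈ CP, ∀ a ∈ M, c * a * c⁻¹ ∈ M := by
      intro c hc a ha
      have hle : M ≤ M.comap (MulAut.conj c).toMonoidHom := by
        rw [hM]
        apply sup_le
        · intro d hd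
          rw [Subgroup.mem_comap]
          show c * d * c⁻¹ ∈ D₀ ⊔ N
          apply Subgroup.mem_sup_left
          rw [hD₀] at hd ⊢
          refine Subgroup.mem_inf.mpr ⟨?_, conj_mem_centralizerMod hd.2 c⟩
          exact (Subgroup.mem_normalizer_iff.mp (hCPD hc) d).mp hd.1
        · intro n hn
          rw [Subgroup.mem_comap]
          show c * n * c⁻¹ ∈ D₀ ⊔ N
          exact Subgroup.mem_sup_right (hNn.conj_mem n hn c)
      exact hle ha
    have hHM : H ≤ Subgroup.normalizer (M : Set G) := by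
      apply le_normalizer_of_conj_mem_rel
      intro h hh a ha
      have hpH : ¬ p ∣ Nat.card H := by
        intro hdvd
        have := Nat.Coprime.eq_one_of_dvd hHc.symm hdvd
        exact (Fact.out : p.Prime).one_lt.ne' this
      have hPpH : Pp ≤ Subgroup.normalizer (H : Set G) := by
        rw [Subgroup.normalizer_eq_top_iff.mpr hHn]; exact le_top
      obtain ⟨c, hc, w, hw, rfl⟩ :=
        Cfsg.Agent.Lib.Helper48.exists_centralizer_mul_commutator hPp hpH hPpH hh
      have hcCP : c ∈ CP := by rw [hCP]; exact hc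
      have hwK : w ∈ K := by rw [hK]; exact hw
      have e : c * w * a * (c * w)⁻¹ = c * (w * a * w⁻¹) * c⁻¹ := by group
      rw [e]
      exact hconjC c hcCP _ (hconjK w hwK a ha)
    have hMle : M ≤ coreOf q H := le_coreOf hMH hHM hMc
    intro y hy
    apply hMle
    rw [hM]
    apply Subgroup.mem_sup_left
    rw [hD₀]
    exact Subgroup.mem_inf.mpr ⟨hy.2, (key y hy.1).1⟩
  exact sup_le part2 part1

/-- Let G be a finite group with Sylow p-subgroup P and H = O_{p'}(G), and suppose G = PH and the commutator subgroup [H, P] is solvable. Let q be a prime and z an element of q-power order of C_H(P). Then (O_{q'}(C_H(z)) ∩ O_{q'}(C_H(P))) · [O_{q'}(C_H(z)), P] ≤ O_{q'}(H). -/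
theorem result {G : Type*} [Group G] [Finite G] {p : ℕ} [Fact p.Prime]
    (P : Sylow p G) (hPH : Cfsg.pPrimeCore p G ⊔ (P : Subgroup G) = ⊤)
    (hsol : Group.IsSolvable ↥⁅Cfsg.pPrimeCore p G, (P : Subgroup G)⁆)
    {q : ℕ} [Fact q.Prime] (z : G) (hzH : z ∈ Cfsg.pPrimeCore p G) (hzP : z ∈ Subgroup.centralizer ((P : Subgroup G) : Set G))
    (hz : ∃ k : ℕ, orderOf z = q ^ k) :
    ((Cfsg.pPrimeCore q ↥(Cfsg.pPrimeCore p G ⊓ Subgroup.centralizer ({z} : Set G))).map
        (Cfsg.pPrimeCore p G ⊓ Subgroup.centralizer ({z} : Set G)).subtype ⊓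
      (Cfsg.pPrimeCore q ↥(Cfsg.pPrimeCore p G ⊓ Subgroup.centralizer ((P : Subgroup G) : Set G))).map
        (Cfsg.pPrimeCore p G ⊓ Subgroup.centralizer ((P : Subgroup G) : Set G)).subtype) ⊔
    ⁅(Cfsg.pPrimeCore q ↥(Cfsg.pPrimeCore p G ⊓ Subgroup.centralizer ({z} : Set G))).map
        (Cfsg.pPrimeCore p G ⊓ Subgroup.centralizer ({z} : Set G)).subtype, (P : Subgroup G)⁆ ≤
    (Cfsg.pPrimeCore q ↥(Cfsg.pPrimeCore p G)).map (Cfsg.pPrimeCore p G).subtype := by
  exact core_aux (Cfsg.pPrimeCore p G) (P : Subgroup G)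
    (Cfsg.Agent.Lib.Helper34.pPrimeCore_isNormal p)
    (Cfsg.Agent.Lib.Helper34.pPrimeCore_card_coprime p) P.isPGroup' hPH hsol z hzH hzP hz

end Cfsg.Agent.S3819
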