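import Cfsg.Statements.S3820
-- import your own Cfsg.Agent.* helpers here

set_option autoImplicit false
open Cfsg

namespace Cfsg.Agent.S3820

theorem map_conj_mul {G : Type*} [Group G] (K : Subgroup G) (g h : G) :
    K.map (MulAut.conj (g * h)).toMonoidHom =
      (K.map (MulAut.conj h).toMonoidHom).map (MulAut.conj g).toMonoidHom := by
  rw [Subgroup.map_map]
  congr 1
  ext y
  simp [MulAut.conj_apply, mul_assoc]

theorem map_conj_one {G : Type*} [Group G] (K : Subgroup G) :
    K.map (MulAut.conj (1 : G)).toMonoidHom = K := by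
  have : (MulAut.conj (1 : G)).toMonoidHom = MonoidHom.id G := by
    ext y; simp
  rw [this, Subgroup.map_id]

theorem map_conj_inv_cancel {G : Type*} [Group G] (K : Subgroup G) (g : G) :
    (K.map (MulAut.conj g).toMonoidHom).map (MulAut.conj g⁻¹).toMonoidHom = K := by
  rw [← map_conj_mul, inv_mul_cancel, map_conj_one]

/-- conjugating a subgroup `L ≤ M` by an element of `M` stays inside `M` -/
theorem map_conj_le_of_mem {G : Type*} [Group G] (L M : Subgroup G) (hLM : L ≤ M) (x : G)
    (hx : x ∈ M) : L.map (MulAut.conj x).toMonoidHom ≤ M := by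
  rintro y ⟨l, hl, rfl⟩
  simp only [MulEquiv.coe_toMonoidHom, MulAut.conj_apply]
  exact mul_mem (mul_mem hx (hLM hl)) (inv_mem hx)


/-- Call a subgroup H of G pronormal if H and gHg⁻¹ are conjugate inside ⟨H, gHg⁻¹⟩ for every g ∈ G. Let S ≤ H ≤ G be subgroups of a finite group with S pronormal in G (for instance S a Sylow subgroup). Then H is pronormal in G if and only if H and gHg⁻¹ are conjugate inside ⟨H, gHg⁻¹⟩ for every g ∈ N_G(S). In particular H is pronormal whenever N_G(S) ≤ H. -/
theorem result {G : Type*} [Group G] [Finite G] (S H : Subgroup G) (hSH : S ≤ H)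
    (hS : Cfsg.IsPronormal S) :
    Cfsg.IsPronormal H ↔
      ∀ g ∈ Subgroup.normalizer (S : Set G), ∃ w ∈ H ⊔ H.map (MulAut.conj g).toMonoidHom,
        H.map (MulAut.conj g).toMonoidHom = H.map (MulAut.conj w).toMonoidHom := by
  constructor
  · intro hH g _
    exact hH g
  · intro hyp g
    obtain ⟨x, hx, hSx⟩ := hS g
    -- the ambient subgroup
    set M := H ⊔ H.map (MulAut.conj g).toMonoidHom with hM
    have hxM : x ∈ M := by
      have h1 : S ⊔ S.map (MulAut.conj g).toMonoidHom ≤ M :=
        sup_le_sup hSH (Subgroup.map_mono hSH)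
      exact h1 hx
    -- n = x⁻¹ g normalizes S
    have hn : x⁻¹ * g ∈ Subgroup.normalizer (S : Set G) := by
      rw [Subgroup.mem_normalizer_iff_map_conj_eq]
      have := map_conj_mul S x⁻¹ g
      rw [hSx, map_conj_inv_cancel] at this
      exact this
    obtain ⟨w, hw, hHw⟩ := hyp (x⁻¹ * g) hn
    have hHn : H.map (MulAut.conj (x⁻¹ * g)).toMonoidHom ≤ M := by
      rw [map_conj_mul]
      exact map_conj_le_of_mem _ M le_sup_right x⁻¹ (inv_mem hxM)
    have hwM : w ∈ M := (sup_le le_sup_left hHn) hw
    refine ⟨x * w, mul_mem hxM hwM, ?_⟩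
    have hg : g = x * (x⁻¹ * g) := by group
    conv_lhs => rw [hg]
    rw [map_conj_mul, hHw, ← map_conj_mul]

end Cfsg.Agent.S3820
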