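import Cfsg.Statements.S3821
-- import your own Cfsg.Agent.* helpers here

set_option autoImplicit false
open Cfsg

namespace Cfsg.Agent.S3821

variable {G : Type*} [Group G]

lemma map_conj_subgroupOf (A H : Subgroup G) (hHA : H ≤ A) (a : A) :
    ((H.subgroupOf A).map (MulAut.conj a).toMonoidHom).map A.subtype
      = H.map (MulAut.conj (a : G)).toMonoidHom := by
  ext y
  constructor
  · rintro ⟨z, ⟨w, hw, rfl⟩, rfl⟩
    refine ⟨(w : G), hw, ?_⟩
    simp
  · rintro ⟨w, hw, rfl⟩
    refine ⟨a * ⟨w, hHA hw⟩ * a⁻¹, ⟨⟨w, hHA hw⟩, ?_, ?_⟩, ?_⟩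
    · simpa [Subgroup.mem_subgroupOf] using hw
    · simp
    · simp

lemma map_subtype_subgroupOf (A H : Subgroup G) (hHA : H ≤ A) :
    (H.subgroupOf A).map A.subtype = H := by
  simpa using Subgroup.map_subgroupOf_eq_of_le hHA

lemma conj_le_of_normal (A H : Subgroup G) [A.Normal] (hHA : H ≤ A) (g : G) :
    H.map (MulAut.conj g).toMonoidHom ≤ A := by
  rintro y ⟨w, hw, rfl⟩
  have : A.Normal := inferInstance
  simpa using this.conj_mem w (hHA hw) g

lemma map_conj_mul (H : Subgroup G) (a b : G) :
    H.map (MulAut.conj (a * b)).toMonoidHom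
      = (H.map (MulAut.conj b).toMonoidHom).map (MulAut.conj a).toMonoidHom := by
  rw [Subgroup.map_map]
  congr 1
  ext y
  simp [mul_assoc]

lemma map_conj_eq_of_mem_normalizer (H : Subgroup G) (n : G)
    (hn : n ∈ Subgroup.normalizer (H : Set G)) :
    H.map (MulAut.conj n).toMonoidHom = H := by
  ext y
  constructor
  · rintro ⟨w, hw, rfl⟩
    have := (Subgroup.mem_normalizer_iff.mp hn w).mp hw
    simpa using this
  · intro hy
    refine ⟨n⁻¹ * y * n, ?_, by simp [mul_assoc]⟩
    have := (Subgroup.mem_normalizer_iff'.mp hn (n⁻¹ * y)).mpr (by simpa [mul_assoc] using hy)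
    simpa [mul_assoc] using this

lemma mem_normalizer_of_map_conj_eq (H : Subgroup G) (n : G)
    (hn : H.map (MulAut.conj n).toMonoidHom = H) :
    n ∈ Subgroup.normalizer (H : Set G) := by
  rw [Subgroup.mem_normalizer_iff]
  intro h
  constructor
  · intro hh
    have : n * h * n⁻¹ ∈ H.map (MulAut.conj n).toMonoidHom := ⟨h, hh, by simp⟩
    rwa [hn] at this
  · intro hh
    rw [← hn] at hh
    obtain ⟨w, hw, hw2⟩ := hh
    have : w = h := by
      have : n * w * n⁻¹ = n * h * n⁻¹ := by simpa using hw2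
      simpa using this
    rwa [← this]

/-- Let A be a normal subgroup of the finite group G and H a subgroup of A. Then H is pronormal in G (H and gHg⁻¹ conjugate inside ⟨H, gHg⁻¹⟩ for every g ∈ G) if and only if H is pronormal in A and G = A · N_G(H). -/
theorem result {G : Type*} [Group G] [Finite G] (A H : Subgroup G) [A.Normal] (hHA : H ≤ A) :
    Cfsg.IsPronormal H ↔ (Cfsg.IsPronormal (H.subgroupOf A) ∧ A ⊔ Subgroup.normalizer (H : Set G) = ⊤) := by
  constructor
  · intro hpro
    refine ⟨?_, ?_⟩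
    · intro a
      obtain ⟨x, hx, hxe⟩ := hpro (a : G)
      have hxA : x ∈ A := (sup_le hHA (conj_le_of_normal A H hHA _)) hx
      refine ⟨⟨x, hxA⟩, ?_, ?_⟩
      · have h1 : ((H.subgroupOf A ⊔ (H.subgroupOf A).map (MulAut.conj a).toMonoidHom).map A.subtype)
            = H ⊔ H.map (MulAut.conj (a : G)).toMonoidHom := by
          rw [Subgroup.map_sup, map_conj_subgroupOf A H hHA, map_subtype_subgroupOf A H hHA]
        have h2 : (x : G) ∈ (H.subgroupOf A ⊔ (H.subgroupOf A).map (MulAut.conj a).toMonoidHom).map A.subtype := by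
          rw [h1]; exact hx
        obtain ⟨z, hz, hz2⟩ := h2
        have : z = ⟨x, hxA⟩ := Subtype.ext hz2
        rwa [← this]
      · apply Subgroup.map_injective (Subgroup.subtype_injective A)
        rw [map_conj_subgroupOf A H hHA, map_conj_subgroupOf A H hHA]
        exact hxe
    · rw [eq_top_iff]
      intro g _
      obtain ⟨x, hx, hxe⟩ := hpro g
      have hxA : x ∈ A := (sup_le hHA (conj_le_of_normal A H hHA _)) hx
      have hn : x⁻¹ * g ∈ Subgroup.normalizer (H : Set G) := by
        apply mem_normalizer_of_map_conj_eq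
        rw [map_conj_mul, hxe, ← map_conj_mul]
        have : (MulAut.conj (x⁻¹ * x) : MulAut G) = 1 := by simp
        rw [this]
        ext y
        simp
      have : g = x * (x⁻¹ * g) := by simp
      rw [this]
      exact Subgroup.mul_mem_sup hxA hn
  · rintro ⟨hpro, htop⟩ g
    have hg : g ∈ A ⊔ Subgroup.normalizer (H : Set G) := by rw [htop]; trivial
    have hg' : g ∈ ((A ⊔ Subgroup.normalizer (H : Set G) : Subgroup G) : Set G) := hg
    rw [Subgroup.normal_mul] at hg'
    obtain ⟨a, ha, n, hn, rfl⟩ := hg'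
    obtain ⟨x, hx, hxe⟩ := hpro ⟨a, ha⟩
    have hga : H.map (MulAut.conj (a * n)).toMonoidHom = H.map (MulAut.conj a).toMonoidHom := by
      rw [map_conj_mul, map_conj_eq_of_mem_normalizer H n hn]
    refine ⟨(x : G), ?_, ?_⟩
    · rw [hga]
      have h1 : ((H.subgroupOf A ⊔ (H.subgroupOf A).map (MulAut.conj (⟨a, ha⟩ : A)).toMonoidHom).map A.subtype)
          = H ⊔ H.map (MulAut.conj a).toMonoidHom := by
        rw [Subgroup.map_sup, map_conj_subgroupOf A H hHA, map_subtype_subgroupOf A H hHA]
      rw [← h1]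
      exact ⟨x, hx, rfl⟩
    · rw [hga]
      have := congrArg (Subgroup.map A.subtype) hxe
      rw [map_conj_subgroupOf A H hHA, map_conj_subgroupOf A H hHA] at this
      exact this

end Cfsg.Agent.S3821
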