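import Cfsg.Statements.S3822
import Cfsg.Agent.Lib.Helper2.FlavellMain
import Cfsg.Agent.Lib.Helper1.FlavellAsm
import Cfsg.Agent.Lib.Helper38.FlavellCoreMin
import Cfsg.Agent.Lib.Helper39.FlavellCoreLift
import Cfsg.Agent.Lib.Helper55.FlavellSec

set_option autoImplicit false
open Cfsg

namespace Cfsg.Agent.S3822

/-- Let G be a finite group and P a subgroup of prime order p > 3. Consider the solvable subgroups A of G of the form A = ⟨P, aPa⁻¹⟩ for some a ∈ A, and let A be maximal under inclusion among them. Then for every nilpotent subgroup V of G normalized by A, the subgroup F(A)V generated by the Fitting subgroup of A and V is nilpotent. -/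
theorem result {G : Type*} [Group G] [Finite G]
    {p : ℕ} [Fact p.Prime] (hp : 3 < p) (P : Subgroup G) (hP : Nat.card P = p) (A : Subgroup G)
    (hA : Group.IsSolvable ↥A ∧ ∃ a ∈ A, A = P ⊔ P.map (MulAut.conj a).toMonoidHom)
    (hmax : ∀ B : Subgroup G, A ≤ B → Group.IsSolvable ↥B → (∃ b ∈ B, B = P ⊔ P.map (MulAut.conj b).toMonoidHom) → B = A)
    (V : Subgroup G) (hV : Group.IsNilpotent ↥V) (hAV : A ≤ Subgroup.normalizer (V : Set G)) :
    Group.IsNilpotent ↥((Cfsg.fittingSubgroup ↥A).map A.subtype ⊔ V) := by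
  haveI := hA.1
  apply Cfsg.Agent.Lib.Helper1.Flavell.asm3822 A V hV hAV
  intro q r _ _ hqr U R hU hAU hR hRA hAR
  by_contra hne
  obtain ⟨U₀, Φ, hU₀U, hΦlt, hAU₀, hAΦ, hUΦ, hab, hexp, hnongen, hirr, hfix⟩ :=
    Cfsg.Agent.Lib.Helper38.Flavell.core_min hqr A U R hU hAU hR hRA hAR hne
  refine Cfsg.Agent.Lib.Helper39.Flavell.core_lift hp P hP A hA hmax hqr R U₀ Φ (hU.to_le hU₀U) hR hRA hAR hΦlt hAU₀ hAΦ hUΦ
    hab hexp hnongen hirr hfix ?_
  intro y hy Cy hyp hyn hynt hCy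
  refine Cfsg.Agent.Lib.Helper55.FlavellSec.sec3818 (p := p) A U₀ Φ Cy y hy ?_ hΦlt hAU₀ hAΦ hUΦ hab hexp hirr hynt hCy
  intro W _ _ _ _ ρ hρirr hρy
  refine Cfsg.Agent.Lib.Helper2.FlavellMain.main q ρ hρirr hp ⟨y, hy⟩ ?_ hρy (hyn hy)
  exact Subtype.ext hyp

end Cfsg.Agent.S3822
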