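import Mathlib
import Cfsg.Statements.S3824
import Cfsg.Agent.S0143
import Cfsg.Agent.Lib.Helper64.MinNormal

set_option autoImplicit false
open Cfsg

namespace Cfsg.Agent.S3824

open Cfsg.Agent.Lib.Helper64

universe u

lemma key : ∀ n : ℕ, ∀ (H : Type u) [Group H] [Finite H], Nat.card H = n →
    ∀ A : Subgroup H, IsMulCommutative A → (∃ k : ℕ, A.index = 2 ^ k) → Group.IsSolvable H := by
  intro n
  induction n using Nat.strong_induction_on with
  | _ n ih =>
  intro H _ _ hcard A hA ⟨k, hk⟩
  by_cases hex : ∃ N : Subgroup H, N.Normal ∧ N ≠ ⊥ ∧ N ≠ ⊤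
  · obtain ⟨N, hNn, hN0, hNtop⟩ := hex
    haveI := hNn
    -- N is solvable
    have h1 : Group.IsSolvable N := by
      have hlt : Nat.card N < n := by
        rw [← hcard]
        apply lt_of_le_of_ne (Subgroup.card_le_card_group N)
        intro h
        exact hNtop ((Subgroup.card_eq_iff_eq_top N).mp h)
      refine ih _ hlt N rfl (A.subgroupOf N) ?_ ?_
      · exact Subgroup.subgroupOf_isMulCommutative _ _
      · have h2 : (A.subgroupOf N).index = A.relIndex N := rfl
        rw [h2]
        have h3 : A.relIndex (N ⊔ A) = A.relIndex N := relIndex_sup_of_normal' N A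
        have h4 : A.relIndex (N ⊔ A) * (N ⊔ A).index = A.index :=
          Subgroup.relIndex_mul_index le_sup_right
        have h5 : A.relIndex N ∣ 2 ^ k := by
          rw [← hk, ← h4, h3]; exact dvd_mul_right _ _
        obtain ⟨j, _, hj⟩ := (Nat.dvd_prime_pow Nat.prime_two).mp h5
        exact ⟨j, hj⟩
    -- H ⧸ N is solvable
    have h2 : Group.IsSolvable (H ⧸ N) := by
      have hlt : Nat.card (H ⧸ N) < n := by
        rw [← hcard]
        have h3 := N.card_mul_index
        have h4 : 1 < Nat.card N := by
          rw [Nat.one_lt_iff_ne_zero_and_ne_one]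
          exact ⟨Nat.card_pos.ne', fun h => hN0 (Subgroup.card_eq_one.mp h)⟩
        have h5 : Nat.card (H ⧸ N) = N.index := rfl
        rw [h5, ← h3]
        have hpos : 0 < N.index := Nat.pos_of_ne_zero (Subgroup.index_ne_zero_of_finite)
        nlinarith
      refine ih _ hlt (H ⧸ N) rfl (A.map (QuotientGroup.mk' N)) ?_ ?_
      · exact Subgroup.map_isMulCommutative _ _
      · have h3 : (A.map (QuotientGroup.mk' N)).index ∣ A.index :=
          Subgroup.index_map_dvd A (QuotientGroup.mk'_surjective N)
        rw [hk] at h3
        obtain ⟨j, _, hj⟩ := (Nat.dvd_prime_pow Nat.prime_two).mp h3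
        exact ⟨j, hj⟩
    exact solvable_of_ker_le_range N.subtype (QuotientGroup.mk' N)
      (by rw [QuotientGroup.ker_mk', Subgroup.range_subtype])
  · push Not at hex
    by_cases hnt : Nontrivial H
    · haveI : IsSimpleGroup H := ⟨fun N hN => by
        by_cases h : N = ⊥
        · exact Or.inl h
        · exact Or.inr (hex N hN h)⟩
      by_cases hA0 : A = ⊥
      · -- H is a 2-group
        have hc : Nat.card H = 2 ^ k := by
          rw [← hk, hA0, Subgroup.index_bot]
        haveI : Fact (Nat.Prime 2) := ⟨Nat.prime_two⟩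
        have hP : IsPGroup 2 H := IsPGroup.of_card hc
        haveI := hP.isNilpotent
        exact IsNilpotent.to_isSolvable
      · obtain ⟨a, haA, ha1⟩ : ∃ a : H, a ∈ A ∧ a ≠ 1 := by
          obtain ⟨a, ha⟩ := Subgroup.ne_bot_iff_exists_ne_one.mp hA0
          exact ⟨(a : H), a.2, fun h => ha (Subtype.ext h)⟩
        have hle : A ≤ Subgroup.centralizer ({a} : Set H) := by
          intro b hb
          rw [Subgroup.mem_centralizer_iff]
          intro c hc
          rw [Set.mem_singleton_iff] at hc
          subst hc
          have := hA.is_comm.comm (⟨c, haA⟩ : A) ⟨b, hb⟩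
          exact congrArg Subtype.val this
        have hd : (Subgroup.centralizer ({a} : Set H)).index ∣ 2 ^ k := by
          rw [← hk]; exact Subgroup.index_dvd_of_le hle
        obtain ⟨j, _, hj⟩ := (Nat.dvd_prime_pow Nat.prime_two).mp hd
        have hprime := Cfsg.Agent.S0143.result 2 j Nat.prime_two a ha1 hj
        haveI : Fact (Nat.card H).Prime := ⟨hprime⟩
        haveI : IsCyclic H := isCyclic_of_prime_card rfl
        let _ : CommGroup H := IsCyclic.commGroup
        infer_instance
    · rw [not_nontrivial_iff_subsingleton] at hnt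
      infer_instance

/-- Every finite group having an abelian subgroup whose index is a power of 2 is solvable. -/
theorem result {G : Type*} [Group G] [Finite G]
    (A : Subgroup G) (hA : IsMulCommutative A) (hidx : ∃ k : ℕ, A.index = 2 ^ k) : Group.IsSolvable G := by
  exact key (Nat.card G) G rfl A hA hidx

end Cfsg.Agent.S3824
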