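import Mathlib
import Cfsg.Statements.S3825
-- import your own Cfsg.Agent.* helpers here

set_option autoImplicit false
open Cfsg

namespace Cfsg.Agent.S3825

open scoped commutatorElement

/-- A fixed-point-free involutory endomorphism of a finite group inverts every element; the group
is then abelian of odd order. -/
lemma fpf_invol {X : Type*} [Group X] [Finite X] (f : X →* X) (hff : ∀ x, f (f x) = x)
    (hfix : ∀ x, f x = x → x = 1) :
    (∀ a b : X, a * b = b * a) ∧ ¬ 2 ∣ Nat.card X := by
  have hinj : Function.Injective (fun x : X => x⁻¹ * f x) := by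
    intro a b hab
    simp only at hab
    have h1 : f (b * a⁻¹) = b * a⁻¹ := by
      rw [map_mul, map_inv]
      have : f b = b * (a⁻¹ * f a) := by rw [hab]; group
      rw [this]; group
    have h2 := hfix _ h1
    have : b = a := by
      calc b = (b * a⁻¹) * a := by group
        _ = a := by rw [h2, one_mul]
    exact this.symm
  have hsurj := Finite.surjective_of_injective hinj
  have hinv : ∀ x, f x = x⁻¹ := by
    intro x
    obtain ⟨z, rfl⟩ := hsurj x
    simp only [map_mul, map_inv, hff]
    group
  refine ⟨?_, ?_⟩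
  · intro a b
    have h1 := hinv (a * b)
    rw [map_mul, hinv a, hinv b] at h1
    calc a * b = ((a * b)⁻¹)⁻¹ := by group
      _ = (a⁻¹ * b⁻¹)⁻¹ := by rw [h1]
      _ = b * a := by group
  · intro h2
    have : Fact (Nat.Prime 2) := ⟨Nat.prime_two⟩
    obtain ⟨t, ht⟩ := exists_prime_orderOf_dvd_card' (G := X) 2 h2
    have h1 : f t = t := by
      rw [hinv t]
      have : t ^ 2 = 1 := by rw [← ht]; exact pow_orderOf_eq_one t
      calc t⁻¹ = t⁻¹ * t ^ 2 := by rw [this, mul_one]
        _ = t := by group
    have := hfix t h1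
    rw [this, orderOf_one] at ht
    omega

/-- Let U be a subgroup of a finite group H and w an involution of H normalizing U and commuting with exactly two elements of U, the identity and y. If V is a non-cyclic elementary abelian 2-subgroup of U containing y which is normal in U and invariant under w, then V is a Sylow 2-subgroup of U, V has order 4, and U/V is abelian. -/
theorem result {H : Type*} [Group H] [Finite H] (U : Subgroup H) (w : H) (hw : orderOf w = 2)
    (hwU : w ∈ Subgroup.normalizer (U : Set H)) (y : H) (hy : y ≠ 1) (hyU : y ∈ U)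
    (hfix : ∀ u ∈ U, w * u * w⁻¹ = u ↔ (u = 1 ∨ u = y))
    (V : Subgroup H) (hVU : V ≤ U) (hVn : (V.subgroupOf U).Normal) (hVw : ∀ v ∈ V, w * v * w⁻¹ ∈ V)
    (hVe : Cfsg.IsElementaryAbelian 2 V) (hVc : ¬ IsCyclic ↥V) (hyV : y ∈ V) :
    ¬ 2 ∣ V.relIndex U ∧ Nat.card ↥V = 4 ∧ ⁅U, U⁆ ≤ V := by
  obtain ⟨hVcomm, hVsq⟩ := hVe
  have hcomm : ∀ a ∈ V, ∀ b ∈ V, a * b = b * a := by
    intro a ha b hb
    exact congrArg Subtype.val (hVcomm.is_comm.comm ⟨a, ha⟩ ⟨b, hb⟩)
  have hinvV : ∀ a ∈ V, a⁻¹ = a := by
    intro a ha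
    have := hVsq a ha
    calc a⁻¹ = a⁻¹ * a ^ 2 := by rw [this, mul_one]
      _ = a := by group
  have hw2 : w * w = 1 := by
    have := pow_orderOf_eq_one w
    rwa [hw, pow_two] at this
  have hwinv : w⁻¹ = w := by
    calc w⁻¹ = w⁻¹ * (w * w) := by rw [hw2, mul_one]
      _ = w := by group
  have hσσ : ∀ u : H, w * (w * u * w⁻¹) * w⁻¹ = u := by
    intro u
    calc w * (w * u * w⁻¹) * w⁻¹ = (w * w) * u * (w⁻¹ * w⁻¹) := by group
      _ = u := by rw [hwinv, hw2]; group
  have hσmul : ∀ a b : H, w * (a * b) * w⁻¹ = (w * a * w⁻¹) * (w * b * w⁻¹) := by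
    intro a b; group
  have hyy : y * y = 1 := by
    have := hVsq y hyV
    rwa [pow_two] at this
  have hσU : ∀ u ∈ U, w * u * w⁻¹ ∈ U := fun u hu => (Subgroup.mem_normalizer_iff.mp hwU u).mp hu
  -- Claim A
  have hA : ∀ v ∈ V, v ≠ 1 → v ≠ y → w * v * w⁻¹ = v * y := by
    intro v hv hv1 hvy
    have hσv := hVw v hv
    have hs : v * (w * v * w⁻¹) ∈ V := V.mul_mem hv hσv
    have hsfix : w * (v * (w * v * w⁻¹)) * w⁻¹ = v * (w * v * w⁻¹) := by
      rw [hσmul, hσσ]
      exact hcomm _ hσv _ hv
    rcases (hfix _ (hVU hs)).mp hsfix with h1 | h1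
    · exfalso
      have h2 : w * v * w⁻¹ = v := by
        calc w * v * w⁻¹ = v⁻¹ * (v * (w * v * w⁻¹)) := by group
          _ = v := by rw [h1, mul_one, hinvV v hv]
      rcases (hfix v (hVU hv)).mp h2 with h3 | h3
      · exact hv1 h3
      · exact hvy h3
    · calc w * v * w⁻¹ = v⁻¹ * (v * (w * v * w⁻¹)) := by group
        _ = v * y := by rw [h1, hinvV v hv]
  -- Claim B
  have hB : ∃ a ∈ V, a ≠ 1 ∧ a ≠ y := by
    by_contra hcon
    push Not at hcon
    apply hVc
    have hVz : V = Subgroup.zpowers y := by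
      apply le_antisymm
      · intro v hv
        by_cases h1 : v = 1
        · rw [h1]; exact Subgroup.one_mem _
        · rw [hcon v hv h1]; exact Subgroup.mem_zpowers y
      · rw [Subgroup.zpowers_le]; exact hyV
    rw [hVz]
    infer_instance
  obtain ⟨a, haV, ha1, hay⟩ := hB
  have hσa := hA a haV ha1 hay
  -- Claim C
  have hC : ∀ b ∈ V, b = 1 ∨ b = y ∨ b = a ∨ b = a * y := by
    intro b hb
    by_cases hb1 : b = 1
    · exact Or.inl hb1
    by_cases hby : b = y
    · exact Or.inr (Or.inl hby)
    right; right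
    have hσb := hA b hb hb1 hby
    have hab : a * b ∈ V := V.mul_mem haV hb
    have hfixab : w * (a * b) * w⁻¹ = a * b := by
      rw [hσmul, hσa, hσb]
      calc a * y * (b * y) = a * (y * b) * y := by group
        _ = a * (b * y) * y := by rw [hcomm y hyV b hb]
        _ = a * b * (y * y) := by group
        _ = a * b := by rw [hyy, mul_one]
    rcases (hfix _ (hVU hab)).mp hfixab with h1 | h1
    · left
      calc b = a⁻¹ * (a * b) := by group
        _ = a := by rw [h1, mul_one, hinvV a haV]
    · right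
      calc b = a⁻¹ * (a * b) := by group
        _ = a * y := by rw [h1, hinvV a haV]
  -- Claim D: card
  have hcard4 : Nat.card V = 4 := by
    classical
    have hle : Nat.card V ≤ 4 := by
      have hsub : (V : Set H) ⊆ ↑({1, y, a, a * y} : Finset H) := by
        intro b hb
        have := hC b hb
        simp only [Finset.coe_insert, Finset.coe_singleton, Set.mem_insert_iff,
          Set.mem_singleton_iff]
        exact this
      have h1 : Nat.card V = (V : Set H).ncard := (Nat.card_coe_set_eq (V : Set H))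
      rw [h1]
      calc (V : Set H).ncard ≤ (↑({1, y, a, a * y} : Finset H) : Set H).ncard :=
            Set.ncard_le_ncard hsub (Finset.finite_toSet _)
        _ = ({1, y, a, a * y} : Finset H).card := Set.ncard_coe_finset _
        _ ≤ 4 := Finset.card_le_four
    have hpos : 0 < Nat.card V := Nat.card_pos
    interval_cases h : Nat.card V
    · exfalso; apply hVc
      have : Subsingleton V := (Nat.card_eq_one_iff_unique.mp h).1
      exact isCyclic_of_subsingleton
    · exfalso; apply hVc
      have : Fact (Nat.Prime 2) := ⟨Nat.prime_two⟩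
      exact isCyclic_of_prime_card h
    · exfalso; apply hVc
      have : Fact (Nat.Prime 3) := ⟨Nat.prime_three⟩
      exact isCyclic_of_prime_card h
    · rfl
  -- Claim E
  have hE : ∀ u ∈ U, u⁻¹ * (w * u * w⁻¹) ∈ V → u ∈ V := by
    intro u hu hv
    set v := u⁻¹ * (w * u * w⁻¹) with hvdef
    have hσu : w * u * w⁻¹ = u * v := by rw [hvdef]; group
    have h1 : u * v * (w * v * w⁻¹) = u := by
      have := hσσ u
      rw [hσu, hσmul, hσu] at this
      exact this
    have h2 : w * v * w⁻¹ = v := by
      calc w * v * w⁻¹ = v⁻¹ * (u⁻¹ * (u * v * (w * v * w⁻¹))) := by group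
        _ = v⁻¹ := by rw [h1]; group
        _ = v := hinvV v hv
    rcases (hfix v (hVU hv)).mp h2 with h3 | h3
    · rw [h3, mul_one] at hσu
      rcases (hfix u hu).mp hσu with h4 | h4
      · rw [h4]; exact V.one_mem
      · rw [h4]; exact hyV
    · rw [h3] at hσu
      have hua : u * a ∈ U := U.mul_mem hu (hVU haV)
      have hfixua : w * (u * a) * w⁻¹ = u * a := by
        rw [hσmul, hσu, hσa]
        calc u * y * (a * y) = u * (y * a) * y := by group
          _ = u * (a * y) * y := by rw [hcomm y hyV a haV]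
          _ = u * a * (y * y) := by group
          _ = u * a := by rw [hyy, mul_one]
      rcases (hfix _ hua).mp hfixua with h4 | h4
      · have : u = a⁻¹ := by
          calc u = (u * a) * a⁻¹ := by group
            _ = a⁻¹ := by rw [h4, one_mul]
        rw [this]; exact V.inv_mem haV
      · have : u = y * a⁻¹ := by
          calc u = (u * a) * a⁻¹ := by group
            _ = y * a⁻¹ := by rw [h4]
        rw [this]; exact V.mul_mem hyV (V.inv_mem haV)
  -- the induced endomorphism on U / V
  let f : U →* U :=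
    { toFun := fun u => ⟨w * u * w⁻¹, hσU u u.2⟩
      map_one' := by apply Subtype.ext; simp
      map_mul' := fun a b => by apply Subtype.ext; exact hσmul a b }
  have hfV : V.subgroupOf U ≤ (V.subgroupOf U).comap f := by
    intro u hu
    rw [Subgroup.mem_comap, Subgroup.mem_subgroupOf]
    exact hVw u (Subgroup.mem_subgroupOf.mp hu)
  let fbar : U ⧸ V.subgroupOf U →* U ⧸ V.subgroupOf U :=
    QuotientGroup.map (V.subgroupOf U) (V.subgroupOf U) f hfV
  have hff : ∀ x, fbar (fbar x) = x := by
    intro x
    obtain ⟨u, rfl⟩ := QuotientGroup.mk_surjective x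
    simp only [fbar, QuotientGroup.map_mk]
    congr 1
    apply Subtype.ext
    exact hσσ u
  have hfixbar : ∀ x, fbar x = x → x = 1 := by
    intro x hx
    obtain ⟨u, rfl⟩ := QuotientGroup.mk_surjective x
    simp only [fbar, QuotientGroup.map_mk] at hx
    rw [eq_comm, QuotientGroup.eq] at hx
    rw [QuotientGroup.eq_one_iff, Subgroup.mem_subgroupOf]
    apply hE u u.2
    have := Subgroup.mem_subgroupOf.mp hx
    simpa [f] using this
  obtain ⟨hab, hodd⟩ := fpf_invol fbar hff hfixbar
  refine ⟨?_, hcard4, ?_⟩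
  · exact hodd
  · rw [Subgroup.commutator_le]
    intro g₁ h₁ g₂ h₂
    have : ((⁅(⟨g₁, h₁⟩ : U), ⟨g₂, h₂⟩⁆ : U) : U ⧸ V.subgroupOf U) = 1 := by
      rw [commutatorElement_def]
      simp only [QuotientGroup.mk_mul, QuotientGroup.mk_inv]
      rw [hab (↑(⟨g₁, h₁⟩ : U)) (↑(⟨g₂, h₂⟩ : U))]
      group
    rw [QuotientGroup.eq_one_iff, Subgroup.mem_subgroupOf] at this
    exact this

end Cfsg.Agent.S3825
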