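import Mathlib
import Cfsg.Statements.S3835
import Cfsg.Agent.S2231
import Cfsg.Agent.Lib.Helper46.Qd
import Cfsg.Agent.Lib.Helper5.SLGen

set_option autoImplicit false
open Cfsg

namespace Cfsg.Agent.S3835

open Cfsg.Agent.S2231 Matrix

theorem PAb_perm {p : ℕ} [hp : Fact p.Prime] {n : ℕ} (hn : n < p ^ 2) :
    PAb p (Equiv.Perm (Fin n)) := by
  intro Q hQ a ha b hb
  have hpp : p.Prime := hp.out
  -- it suffices that the commutator fixes every point
  have key : ∀ x : Fin n, (a⁻¹ * b⁻¹ * a * b) x = x := by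
    intro x
    set S := MulAction.stabilizer Q x with hS
    have hidx : S.index = (MulAction.orbit Q x).ncard := MulAction.index_stabilizer Q x
    have hle : S.index < p ^ 2 := by
      rw [hidx]
      refine lt_of_le_of_lt ?_ hn
      have := Set.ncard_le_card (MulAction.orbit Q x)
      simpa using this
    obtain ⟨k, hk⟩ := IsPGroup.iff_card.mp hQ
    have hdvd : S.index ∣ p ^ k := by rw [← hk]; exact Subgroup.index_dvd_card S
    obtain ⟨j, hjk, hj⟩ := (Nat.dvd_prime_pow hpp).mp hdvd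
    have hj2 : j < 2 := by
      rw [hj] at hle
      exact (Nat.pow_lt_pow_iff_right hpp.one_lt).mp hle
    have hmem : (⟨a, ha⟩ : Q)⁻¹ * ⟨b, hb⟩⁻¹ * ⟨a, ha⟩ * ⟨b, hb⟩ ∈ S := by
      interval_cases j
      · -- index one
        rw [pow_zero] at hj
        rw [Subgroup.index_eq_one.mp hj]; trivial
      · rw [pow_one] at hj
        have hk0 : k ≠ 0 := by
          rintro rfl
          simp at hjk
        have hSn : S.Normal := by
          apply Subgroup.normal_of_index_eq_minFac_card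
          rw [hj, hk, Nat.Prime.pow_minFac hpp hk0]
        have hcard : Nat.card (Q ⧸ S) = p := hj
        haveI : Fact (Nat.card (Q ⧸ S)).Prime := ⟨hcard ▸ hpp⟩
        haveI : IsCyclic (Q ⧸ S) := isCyclic_of_prime_card rfl
        let _ : CommGroup (Q ⧸ S) := IsCyclic.commGroup
        rw [← QuotientGroup.eq_one_iff]
        simp only [QuotientGroup.mk_mul, QuotientGroup.mk_inv]
        rw [mul_comm ((QuotientGroup.mk (⟨a, ha⟩ : Q) : Q ⧸ S)⁻¹), mul_assoc, mul_assoc,
          ← mul_assoc ((QuotientGroup.mk (⟨a, ha⟩ : Q) : Q ⧸ S)⁻¹), inv_mul_cancel, one_mul, inv_mul_cancel]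
    have := MulAction.mem_stabilizer_iff.mp hmem
    exact this
  have h1 : a * b = b * a * (a⁻¹ * b⁻¹ * a * b) := by group
  ext x
  rw [h1, Equiv.Perm.mul_apply, key]


/-- the affine plane `{v | v 2 = 1}` in `(ZMod p)^3` -/
abbrev Plane (p : ℕ) : Type := {v : Fin 3 → ZMod p // v 2 = 1}

lemma mulVec_mem {p : ℕ} (M : Cfsg.qd p) (v : Plane p) :
    ((M : Matrix.SpecialLinearGroup (Fin 3) (ZMod p)) : Matrix (Fin 3) (Fin 3) (ZMod p)).mulVec v.1 2 = 1 := by
  obtain ⟨h0, h1, h2⟩ := (Cfsg.Agent.Lib.Helper46.mem_qd p M.1).mp M.2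
  simp [Matrix.mulVec, dotProduct, Fin.sum_univ_three, h0, h1, h2, v.2]

instance planeAction (p : ℕ) : MulAction (Cfsg.qd p) (Plane p) where
  smul M v := ⟨((M : Matrix.SpecialLinearGroup (Fin 3) (ZMod p)) : Matrix (Fin 3) (Fin 3) (ZMod p)).mulVec v.1,
    mulVec_mem M v⟩
  one_smul v := by
    apply Subtype.ext
    show ((((1 : Cfsg.qd p) : Matrix.SpecialLinearGroup (Fin 3) (ZMod p)) :
      Matrix (Fin 3) (Fin 3) (ZMod p))).mulVec v.1 = v.1
    simp
  mul_smul M N v := by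
    apply Subtype.ext
    show ((((M * N : Cfsg.qd p) : Matrix.SpecialLinearGroup (Fin 3) (ZMod p)) :
      Matrix (Fin 3) (Fin 3) (ZMod p))).mulVec v.1 =
      ((M : Matrix.SpecialLinearGroup (Fin 3) (ZMod p)) : Matrix (Fin 3) (Fin 3) (ZMod p)).mulVec
        (((N : Matrix.SpecialLinearGroup (Fin 3) (ZMod p)) : Matrix (Fin 3) (Fin 3) (ZMod p)).mulVec v.1)
    simp [Matrix.mulVec_mulVec]

lemma smul_val {p : ℕ} (M : Cfsg.qd p) (v : Plane p) :
    (M • v).1 = ((M : Matrix.SpecialLinearGroup (Fin 3) (ZMod p)) : Matrix (Fin 3) (Fin 3) (ZMod p)).mulVec v.1 :=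
  rfl

/-- the plane has `p^2` points -/
def planeEquiv (p : ℕ) : Plane p ≃ ZMod p × ZMod p where
  toFun v := (v.1 0, v.1 1)
  invFun ab := ⟨![ab.1, ab.2, 1], by simp⟩
  left_inv v := by
    apply Subtype.ext
    ext i
    fin_cases i
    · simp
    · simp
    · simp [v.2]
  right_inv ab := by simp

lemma card_plane {p : ℕ} [hp : Fact p.Prime] : Fintype.card (Plane p) = p ^ 2 := by
  rw [Fintype.card_congr (planeEquiv p), Fintype.card_prod, ZMod.card, pow_two]

/-- the action is faithful -/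
lemma toPermHom_injective {p : ℕ} : Function.Injective (MulAction.toPermHom (Cfsg.qd p) (Plane p)) := by
  rw [injective_iff_map_eq_one]
  intro M hM
  obtain ⟨h0, h1, h2⟩ := (Cfsg.Agent.Lib.Helper46.mem_qd p M.1).mp M.2
  have hfix : ∀ v : Plane p, M • v = v := by
    intro v
    have := congrArg (fun σ : Equiv.Perm (Plane p) => σ v) hM
    simpa using this
  have e1 := congrArg Subtype.val (hfix ⟨![0, 0, 1], by simp⟩)
  have e2 := congrArg Subtype.val (hfix ⟨![1, 0, 1], by simp⟩)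
  have e3 := congrArg Subtype.val (hfix ⟨![0, 1, 1], by simp⟩)
  rw [smul_val] at e1 e2 e3
  have a1 := congrFun e1 0
  have a2 := congrFun e1 1
  have b1 := congrFun e2 0
  have b2 := congrFun e2 1
  have c1 := congrFun e3 0
  have c2 := congrFun e3 1
  simp [Matrix.mulVec, dotProduct, Fin.sum_univ_three] at a1 a2 b1 b2 c1 c2
  apply Subtype.ext
  apply Subtype.ext
  ext i j
  fin_cases i <;> fin_cases j <;> simp_all


/-- A homomorphism to `ℤˣ` kills squares. -/
lemma hom_sq_eq_one {G : Type*} [Group G] (φ : G →* ℤˣ) (g : G) : φ (g * g) = 1 := by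
  rw [map_mul, Int.units_mul_self]

/-- the linear part as a matrix in `SL₃` -/
def linM {p : ℕ} (A : Matrix.SpecialLinearGroup (Fin 2) (ZMod p)) :
    Matrix.SpecialLinearGroup (Fin 3) (ZMod p) :=
  ⟨!![(A : Matrix (Fin 2) (Fin 2) (ZMod p)) 0 0, (A : Matrix (Fin 2) (Fin 2) (ZMod p)) 0 1, 0;
      (A : Matrix (Fin 2) (Fin 2) (ZMod p)) 1 0, (A : Matrix (Fin 2) (Fin 2) (ZMod p)) 1 1, 0; 0, 0, 1], by
      have := Matrix.SpecialLinearGroup.det_coe A
      rw [Matrix.det_fin_two] at this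
      rw [Matrix.det_fin_three]
      simp
      linear_combination this⟩

lemma linM_coe {p : ℕ} (A : Matrix.SpecialLinearGroup (Fin 2) (ZMod p)) :
    ((linM A : Matrix.SpecialLinearGroup (Fin 3) (ZMod p)) : Matrix (Fin 3) (Fin 3) (ZMod p)) =
      !![(A : Matrix (Fin 2) (Fin 2) (ZMod p)) 0 0, (A : Matrix (Fin 2) (Fin 2) (ZMod p)) 0 1, 0;
      (A : Matrix (Fin 2) (Fin 2) (ZMod p)) 1 0, (A : Matrix (Fin 2) (Fin 2) (ZMod p)) 1 1, 0; 0, 0, 1] := rfl

lemma linM_mem {p : ℕ} (A : Matrix.SpecialLinearGroup (Fin 2) (ZMod p)) : linM A ∈ Cfsg.qd p := by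
  rw [Cfsg.Agent.Lib.Helper46.mem_qd, linM_coe]
  simp

/-- translation matrices -/
def trM {p : ℕ} (a b : ZMod p) : Matrix.SpecialLinearGroup (Fin 3) (ZMod p) :=
  ⟨!![1, 0, a; 0, 1, b; 0, 0, 1], by simp [Matrix.det_fin_three]⟩

lemma trM_coe {p : ℕ} (a b : ZMod p) :
    ((trM a b : Matrix.SpecialLinearGroup (Fin 3) (ZMod p)) : Matrix (Fin 3) (Fin 3) (ZMod p)) =
      !![1, 0, a; 0, 1, b; 0, 0, 1] := rfl

lemma trM_mem {p : ℕ} (a b : ZMod p) : trM a b ∈ Cfsg.qd p := by
  rw [Cfsg.Agent.Lib.Helper46.mem_qd, trM_coe]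
  simp

lemma linM_one {p : ℕ} : linM (1 : Matrix.SpecialLinearGroup (Fin 2) (ZMod p)) = 1 := by
  apply Subtype.ext
  rw [linM_coe]
  ext i j
  fin_cases i <;> fin_cases j <;> simp

lemma linM_mul {p : ℕ} (A B : Matrix.SpecialLinearGroup (Fin 2) (ZMod p)) :
    linM (A * B) = linM A * linM B := by
  apply Subtype.ext
  rw [Matrix.SpecialLinearGroup.coe_mul, linM_coe, linM_coe, linM_coe]
  ext i j
  fin_cases i <;> fin_cases j <;>
    simp [Matrix.mul_apply, Fin.sum_univ_three, Fin.sum_univ_two]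

/-- the linear part: `SL₂(p) → Qd(p)` -/
def lin (p : ℕ) : Matrix.SpecialLinearGroup (Fin 2) (ZMod p) →* Cfsg.qd p where
  toFun A := ⟨linM A, linM_mem A⟩
  map_one' := Subtype.ext linM_one
  map_mul' A B := Subtype.ext (linM_mul A B)

/-- translations in `Qd(p)` -/
def tr (p : ℕ) (a b : ZMod p) : Cfsg.qd p := ⟨trM a b, trM_mem a b⟩

lemma tr_mul_tr (p : ℕ) (a b c d : ZMod p) : tr p a b * tr p c d = tr p (a + c) (b + d) := by
  apply Subtype.ext
  apply Subtype.ext
  show ((trM a b * trM c d : Matrix.SpecialLinearGroup (Fin 3) (ZMod p)) :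
    Matrix (Fin 3) (Fin 3) (ZMod p)) = (trM (a + c) (b + d)).1
  rw [Matrix.SpecialLinearGroup.coe_mul, trM_coe, trM_coe, trM_coe]
  ext i j
  fin_cases i <;> fin_cases j <;>
    simp [Matrix.mul_apply, Fin.sum_univ_three, add_comm]

/-- the upper-left block -/
def blk {p : ℕ} (m : Matrix (Fin 3) (Fin 3) (ZMod p)) (h : m 0 0 * m 1 1 - m 0 1 * m 1 0 = 1) :
    Matrix.SpecialLinearGroup (Fin 2) (ZMod p) :=
  ⟨!![m 0 0, m 0 1; m 1 0, m 1 1], by rw [Matrix.det_fin_two]; simpa using h⟩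

lemma blk_coe {p : ℕ} (m : Matrix (Fin 3) (Fin 3) (ZMod p)) (h : m 0 0 * m 1 1 - m 0 1 * m 1 0 = 1) :
    ((blk m h : Matrix.SpecialLinearGroup (Fin 2) (ZMod p)) : Matrix (Fin 2) (Fin 2) (ZMod p)) =
      !![m 0 0, m 0 1; m 1 0, m 1 1] := rfl

/-- decomposition of an element of `Qd(p)` -/
lemma decomp {p : ℕ} (M : Cfsg.qd p) : ∃ (A : Matrix.SpecialLinearGroup (Fin 2) (ZMod p)) (a b : ZMod p),
    M = tr p a b * lin p A := by
  obtain ⟨h0, h1, h2⟩ := (Cfsg.Agent.Lib.Helper46.mem_qd p M.1).mp M.2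
  have hdet := Matrix.SpecialLinearGroup.det_coe (M : Matrix.SpecialLinearGroup (Fin 3) (ZMod p))
  set m : Matrix (Fin 3) (Fin 3) (ZMod p) :=
    ((M : Matrix.SpecialLinearGroup (Fin 3) (ZMod p)) : Matrix (Fin 3) (Fin 3) (ZMod p)) with hm
  rw [Matrix.det_fin_three, h0, h1, h2] at hdet
  have hdet' : m 0 0 * m 1 1 - m 0 1 * m 1 0 = 1 := by linear_combination hdet
  refine ⟨blk m hdet', m 0 2, m 1 2, ?_⟩
  apply Subtype.ext
  apply Subtype.ext
  show m = ((trM _ _ * linM _ : Matrix.SpecialLinearGroup (Fin 3) (ZMod p)) :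
    Matrix (Fin 3) (Fin 3) (ZMod p))
  rw [Matrix.SpecialLinearGroup.coe_mul, trM_coe, linM_coe, blk_coe]
  ext i j
  fin_cases i <;> fin_cases j <;>
    simp [Matrix.mul_apply, Fin.sum_univ_three, h0, h1, h2]

/-- every homomorphism from `Qd(p)` (`p` odd) to `ℤˣ` is trivial -/
lemma hom_eq_one {p : ℕ} [hp : Fact p.Prime] (hp2 : p ≠ 2) (φ : Cfsg.qd p →* ℤˣ) (M : Cfsg.qd p) :
    φ M = 1 := by
  haveI : NeZero (2 : ZMod p) := by
    constructor
    intro h
    have h2 : ((2 : ℕ) : ZMod p) = 0 := by exact_mod_cast h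
    rw [ZMod.natCast_eq_zero_iff] at h2
    exact hp2 ((Nat.prime_dvd_prime_iff_eq hp.out Nat.prime_two).mp h2)
  obtain ⟨A, a, b, rfl⟩ := decomp M
  rw [map_mul]
  have h1 : φ (tr p a b) = 1 := by
    have : tr p a b = tr p (a / 2) (b / 2) * tr p (a / 2) (b / 2) := by
      rw [tr_mul_tr, add_halves, add_halves]
    rw [this]; exact hom_sq_eq_one φ _
  have h2 : (φ.comp (lin p)) A = 1 := by
    refine Cfsg.Agent.Lib.Helper5.transvection_induction (fun A => (φ.comp (lin p)) A = 1) (map_one _)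
      ?_ ?_ A
    · intro i j hij c
      have : Matrix.SpecialLinearGroup.transvection hij c =
          Matrix.SpecialLinearGroup.transvection hij (c / 2) *
          Matrix.SpecialLinearGroup.transvection hij (c / 2) := by
        rw [← Matrix.SpecialLinearGroup.transvection_add, add_halves]
      rw [this]; exact hom_sq_eq_one _ _
    · intro A B hA hB
      rw [map_mul, hA, hB, one_mul]
  rw [h1, one_mul]
  exact h2


/-- Let p be an odd prime and n a natural number. The alternating group of degree n has a subgroup isomorphic to Qd(p) (the natural semidirect product of an elementary abelian group of order p² by SL₂(p)) if and only if n ≥ p²; and if n < p² then Qd(p) is not even involved in it. -/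
theorem result {p : ℕ} [Fact p.Prime] (hp : p ≠ 2) (n : ℕ) : ((∃ H : Subgroup (alternatingGroup (Fin n)), Nonempty (↥H ≃* ↥(Cfsg.qd p))) ↔ p ^ 2 ≤ n) ∧ (n < p ^ 2 → ¬ Cfsg.Involves ↥(Cfsg.qd p) ↥(alternatingGroup (Fin n))) := by
  have hPAb : n < p ^ 2 → PAb p (alternatingGroup (Fin n)) := fun hn =>
    PAb.of_injective (alternatingGroup (Fin n)).subtype (Subgroup.subtype_injective _) (PAb_perm hn)
  refine ⟨⟨?_, ?_⟩, ?_⟩
  · rintro ⟨H, ⟨e⟩⟩
    by_contra hlt
    push Not at hlt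
    have h1 : PAb p H := PAb.of_injective H.subtype (Subgroup.subtype_injective _) (hPAb hlt)
    have h2 : PAb p (Cfsg.qd p) := PAb.of_injective e.symm.toMonoidHom e.symm.injective h1
    exact not_PAb_qd hp h2
  · intro hn
    have hcard : Fintype.card (Plane p) ≤ Fintype.card (Fin n) := by
      rw [card_plane, Fintype.card_fin]; exact hn
    obtain ⟨ι⟩ := Function.Embedding.nonempty_of_card_le hcard
    let Ψ : Cfsg.qd p →* Equiv.Perm (Fin n) :=
      (Equiv.Perm.viaEmbeddingHom ι).comp (MulAction.toPermHom (Cfsg.qd p) (Plane p))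
    have hΨinj : Function.Injective Ψ :=
      (Equiv.Perm.viaEmbeddingHom_injective ι).comp toPermHom_injective
    have hΨalt : ∀ M, Ψ M ∈ alternatingGroup (Fin n) := by
      intro M
      rw [Equiv.Perm.mem_alternatingGroup]
      exact hom_eq_one hp (Equiv.Perm.sign.comp Ψ) M
    let Ψ' : Cfsg.qd p →* alternatingGroup (Fin n) := Ψ.codRestrict _ hΨalt
    have hΨ'inj : Function.Injective Ψ' := by
      intro a b hab
      apply hΨinj
      exact congrArg Subtype.val hab
    exact ⟨Ψ'.range, ⟨(MonoidHom.ofInjective hΨ'inj).symm⟩⟩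
  · intro hn hinv
    exact not_PAb_qd hp (PAb.of_involves hinv (hPAb hn))

end Cfsg.Agent.S3835
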