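import Mathlib
import Cfsg.Statements.S3838
import Cfsg.Agent.Lib.Helper2.Burnside
import Cfsg.Agent.Lib.Helper64.TateSpecial

set_option autoImplicit false
open Cfsg

namespace Cfsg.Agent.S3838

open Cfsg.Agent.Lib.Helper64
open scoped commutatorElement

/-- If `N_G(P)` has a normal `p`-complement then `N_G(P) = C_G(P) P`. -/
lemma normalizer_decomp {G : Type*} [Group G] [Finite G] {p : ℕ} [Fact p.Prime] (P : Sylow p G)
    (hN : Cfsg.HasNormalPComplement p ↥(Subgroup.normalizer ((P : Subgroup G) : Set G))) :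
    ∀ n ∈ Subgroup.normalizer ((P : Subgroup G) : Set G),
      ∃ k ∈ Subgroup.centralizer ((P : Subgroup G) : Set G), ∃ x ∈ (P : Subgroup G), n = k * x := by
  intro n hn
  set N₀ := Subgroup.normalizer ((P : Subgroup G) : Set G) with hN₀
  set P₀ : Sylow p N₀ := P.subtype Subgroup.le_normalizer with hP₀
  obtain ⟨K₀, hK₀n, hK₀⟩ :=
    Cfsg.Agent.Lib.Helper2.exists_normal_complement_of_hasNormalPComplement hN P₀
  have hP₀coe : (P₀ : Subgroup N₀) = (P : Subgroup G).subgroupOf N₀ := Sylow.coe_subtype _ _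
  have hP₀n : (P₀ : Subgroup N₀).Normal := by
    rw [hP₀coe]; exact Subgroup.normal_in_normalizer
  obtain ⟨⟨⟨k, hk⟩, ⟨x, hx⟩⟩, hkx⟩ := hK₀.2 ⟨n, hn⟩
  simp only at hkx
  refine ⟨(k : G), ?_, (x : G), ?_, ?_⟩
  · rw [Subgroup.mem_centralizer_iff]
    intro y hy
    have hy' : (⟨y, Subgroup.le_normalizer hy⟩ : N₀) ∈ (P₀ : Subgroup N₀) := by
      rw [hP₀coe, Subgroup.mem_subgroupOf]; exact hy
    have := Subgroup.commute_of_normal_of_disjoint K₀ (P₀ : Subgroup N₀) hK₀n hP₀n hK₀.disjoint
      k _ hk hy'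
    exact (congrArg Subtype.val this.eq).symm
  · have hx' : x ∈ (P₀ : Subgroup N₀) := hx
    rw [hP₀coe, Subgroup.mem_subgroupOf] at hx'; exact hx'
  · exact (congrArg Subtype.val hkx).symm

/-- Let G be a finite group with Sylow p-subgroup P such that N_G(P) has a normal p-complement. Then N_G(Q) has a normal p-complement for every subgroup Q with [P, P] ≤ Q ≤ Φ(P). -/
theorem result {G : Type*} [Group G] [Finite G] {p : ℕ} [Fact p.Prime] (P : Sylow p G) (hN : Cfsg.HasNormalPComplement p ↥(Subgroup.normalizer ((P : Subgroup G) : Set G))) (Q : Subgroup G) (h1 : (commutator ↥(P : Subgroup G)).map (P : Subgroup G).subtype ≤ Q) (h2 : Q ≤ (frattini ↥(P : Subgroup G)).map (P : Subgroup G).subtype) : Cfsg.HasNormalPComplement p ↥(Subgroup.normalizer (Q : Set G)) := by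
  set N := Subgroup.normalizer (Q : Set G) with hNdef
  have hQP : Q ≤ P := h2.trans (Subgroup.map_subtype_le _)
  -- commutators of P lie in Q
  have hcommG : ∀ x ∈ (P : Subgroup G), ∀ y ∈ (P : Subgroup G), x * y * x⁻¹ * y⁻¹ ∈ Q := by
    intro x hx y hy
    apply h1
    refine ⟨⁅(⟨x, hx⟩ : (P : Subgroup G)), ⟨y, hy⟩⁆, ?_, ?_⟩
    · rw [commutator_def]
      exact Subgroup.commutator_mem_commutator (Subgroup.mem_top _) (Subgroup.mem_top _)
    · simp [commutatorElement_def]
  -- P normalizes Q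
  have key : ∀ x ∈ (P : Subgroup G), ∀ q ∈ Q, x * q * x⁻¹ ∈ Q := by
    intro x hx q hq
    have hc := hcommG x hx q (hQP hq)
    have : x * q * x⁻¹ = (x * q * x⁻¹ * q⁻¹) * q := by group
    rw [this]; exact Q.mul_mem hc hq
  have hPN : (P : Subgroup G) ≤ N := by
    intro x hx
    rw [Subgroup.mem_normalizer_iff]
    intro q
    constructor
    · exact key x hx q
    · intro h
      have := key x⁻¹ (inv_mem hx) _ h
      have e : x⁻¹ * (x * q * x⁻¹) * x⁻¹⁻¹ = q := by group
      rwa [e] at this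
  set PN : Sylow p N := P.subtype hPN with hPNdef
  have hPNcoe : (PN : Subgroup N) = (P : Subgroup G).subgroupOf N := Sylow.coe_subtype _ _
  have hmemPN : ∀ z : N, z ∈ (PN : Subgroup N) ↔ (z : G) ∈ (P : Subgroup G) := by
    intro z; rw [hPNcoe, Subgroup.mem_subgroupOf]
  haveI hQNn : (Q.subgroupOf N).Normal := Subgroup.normal_in_normalizer
  have hGdecomp := normalizer_decomp P hN
  apply hasNormalPComplement_of_frattini PN (Q.subgroupOf N)
  · intro z hz
    rw [hmemPN]
    exact hQP (Subgroup.mem_subgroupOf.mp hz)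
  · intro x hx y hy
    rw [Subgroup.mem_subgroupOf]
    have := hcommG x ((hmemPN x).mp hx) y ((hmemPN y).mp hy)
    simpa using this
  · -- normalizer decomposition
    intro n hn
    have hnG : (n : G) ∈ Subgroup.normalizer ((P : Subgroup G) : Set G) := by
      have half : ∀ m : N, m ∈ Subgroup.normalizer ((PN : Subgroup N) : Set N) →
          ∀ h ∈ (P : Subgroup G), (m : G) * h * (m : G)⁻¹ ∈ (P : Subgroup G) := by
        intro m hm h hh
        have h3 : (⟨h, hPN hh⟩ : N) ∈ (PN : Subgroup N) := (hmemPN _).mpr hh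
        have h4 := (Subgroup.mem_normalizer_iff.mp hm _).mp h3
        have h5 := (hmemPN _).mp h4
        simpa using h5
      rw [Subgroup.mem_normalizer_iff]
      intro h
      constructor
      · exact half n hn h
      · intro hh
        have := half n⁻¹ (Subgroup.inv_mem _ hn) _ hh
        have e : ((n⁻¹ : N) : G) * ((n : G) * h * (n : G)⁻¹) * ((n⁻¹ : N) : G)⁻¹ = h := by
          simp only [Subgroup.coe_inv]; group
        rwa [e] at this
    obtain ⟨k, hk, x, hx, hnkx⟩ := hGdecomp (n : G) hnG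
    have hkN : k ∈ N := by
      have : k = (n : G) * x⁻¹ := by rw [hnkx]; group
      rw [this]
      exact N.mul_mem n.2 (N.inv_mem (hPN hx))
    refine ⟨⟨k, hkN⟩, ?_, ⟨x, hPN hx⟩, (hmemPN _).mpr hx, Subtype.ext hnkx⟩
    rw [Subgroup.mem_centralizer_iff]
    intro y hy
    apply Subtype.ext
    exact Subgroup.mem_centralizer_iff.mp hk (y : G) ((hmemPN y).mp hy)
  · -- non-generators
    intro P₁ hP₁ hle
    set K : Subgroup (P : Subgroup G) := (P₁.map N.subtype).subgroupOf (P : Subgroup G) with hK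
    have hKtop : K ⊔ frattini (P : Subgroup G) = ⊤ := by
      rw [eq_top_iff]
      intro x _
      have hx1 : (⟨(x : G), hPN x.2⟩ : N) ∈ (PN : Subgroup N) := (hmemPN _).mpr x.2
      obtain ⟨a, ha, q, hq, haq⟩ := Subgroup.mem_sup_of_normal_right.mp (hle hx1)
      have haP : (a : G) ∈ (P : Subgroup G) := (hmemPN a).mp (hP₁ ha)
      have hqQ : (q : G) ∈ Q := Subgroup.mem_subgroupOf.mp hq
      have hx2 : x = (⟨(a : G), haP⟩ : (P : Subgroup G)) * ⟨(q : G), hQP hqQ⟩ := by
        apply Subtype.ext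
        have := congrArg (fun z : N => (z : G)) haq
        simpa using this.symm
      rw [hx2]
      refine Subgroup.mul_mem _ (Subgroup.mem_sup_left ?_) (Subgroup.mem_sup_right ?_)
      · rw [hK, Subgroup.mem_subgroupOf]
        exact ⟨a, ha, rfl⟩
      · obtain ⟨z, hz, hzq⟩ := h2 hqQ
        have : z = ⟨(q : G), hQP hqQ⟩ := Subtype.ext hzq
        rw [← this]; exact hz
    have hKeq := frattini_nongenerating hKtop
    intro z hz
    have hzP : (z : G) ∈ (P : Subgroup G) := (hmemPN z).mp hz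
    have h3 : (⟨(z : G), hzP⟩ : (P : Subgroup G)) ∈ K := by rw [hKeq]; trivial
    rw [hK, Subgroup.mem_subgroupOf] at h3
    obtain ⟨w, hw, hwz⟩ := h3
    have : w = z := Subtype.ext hwz
    rw [← this]; exact hw

end Cfsg.Agent.S3838
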