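import Cfsg.Statements.S3839
-- import your own Cfsg.Agent.* helpers here
import Cfsg.Agent.Lib.Helper2.FusionComplement
import Cfsg.Agent.Lib.Helper85.FusionRealized
import Cfsg.Agent.Lib.Helper87.FusionNormal
import Cfsg.Agent.Lib.Helper88.FusionAlperinCR

set_option autoImplicit false
open Cfsg

namespace Cfsg.Agent.S3839

open Cfsg.FusionSystem
open Cfsg.Agent.Lib.Helper87 Cfsg.Agent.Lib.Helper88

/-- In a group with a normal `p`-complement, a `p'`-element normalizing a `p`-subgroup centralizes it. -/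
theorem coprime_centralizes {H : Type*} [Group H] [Finite H] {p : ℕ} [Fact p.Prime]
    (h : HasNormalPComplement p H) (Q : Subgroup H) (hQ : IsPGroup p Q) (g : H)
    (hg : g ∈ Subgroup.normalizer (Q : Set H)) (hcop : (orderOf g).Coprime p) :
    g ∈ Subgroup.centralizer (Q : Set H) := by
  rw [Cfsg.Agent.Lib.Helper34.hasNormalPComplement_iff_pResidual_coprime] at h
  have hn : (pResidual p H).Normal := Cfsg.Agent.Lib.Helper34.pResidual_normal p H
  have hgK : g ∈ pResidual p H := Subgroup.subset_closure hcop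
  obtain ⟨k, hk⟩ := hQ.exists_card_eq
  have hdisj : pResidual p H ⊓ Q = ⊥ := by
    apply (Subgroup.disjoint_of_coprime_natCard ?_).eq_bot
    rw [hk]
    exact Nat.Coprime.pow_right k h
  rw [Subgroup.mem_centralizer_iff]
  intro q hq
  have h1 : g * q * g⁻¹ * q⁻¹ ∈ pResidual p H := by
    have : g * q * g⁻¹ * q⁻¹ = g * (q * g⁻¹ * q⁻¹) := by group
    rw [this]
    exact Subgroup.mul_mem _ hgK (hn.conj_mem _ (Subgroup.inv_mem _ hgK) q)
  have h2 : g * q * g⁻¹ * q⁻¹ ∈ Q :=
    Subgroup.mul_mem _ ((Subgroup.mem_normalizer_iff.1 hg q).1 hq) (Subgroup.inv_mem _ hq)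
  have h3 : g * q * g⁻¹ * q⁻¹ ∈ pResidual p H ⊓ Q := ⟨h1, h2⟩
  rw [hdisj, Subgroup.mem_bot] at h3
  calc q * g = (g * q * g⁻¹ * q⁻¹)⁻¹ * (g * q) := by group
    _ = g * q := by rw [h3]; simp

/-- The same inside a subgroup of `G` with a normal `p`-complement. -/
theorem coprime_centralizes_of_le {G : Type*} [Group G] [Finite G] {p : ℕ} [Fact p.Prime]
    (N : Subgroup G) (h : HasNormalPComplement p ↥N) (R : Subgroup G) (hRN : R ≤ N) (hR : IsPGroup p R)
    (g : G) (hgN : g ∈ N) (hg : g ∈ Subgroup.normalizer (R : Set G)) (hcop : (orderOf g).Coprime p) :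
    g ∈ Subgroup.centralizer (R : Set G) := by
  have hQ : IsPGroup p (R.subgroupOf N) := hR.comap_subtype
  have hg' : (⟨g, hgN⟩ : N) ∈ Subgroup.normalizer ((R.subgroupOf N : Subgroup N) : Set N) := by
    rw [Subgroup.mem_normalizer_iff]
    intro x
    rw [Subgroup.mem_subgroupOf, Subgroup.mem_subgroupOf]
    exact Subgroup.mem_normalizer_iff.1 hg x
  have hord : orderOf (⟨g, hgN⟩ : N) = orderOf g := (Subgroup.orderOf_coe (⟨g, hgN⟩ : N)).symm
  have h1 := coprime_centralizes h (R.subgroupOf N) hQ ⟨g, hgN⟩ hg' (by rw [hord]; exact hcop)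
  rw [Subgroup.mem_centralizer_iff] at h1 ⊢
  intro q hq
  have := h1 ⟨q, hRN hq⟩ (Subgroup.mem_subgroupOf.2 hq)
  exact congrArg (fun z : N => (z : G)) this

/-- the chain `R ≥ R ∩ D ≥ 1` -/
def chainA {G : Type*} [Group G] (D R : Subgroup G) : ℕ → Subgroup R
  | 0 => ⊤
  | 1 => D.subgroupOf R
  | _ => ⊥

variable {G : Type*} [Group G] [Finite G] {p : ℕ} [Fact p.Prime]

theorem aut_eq_conj (S : Sylow p G) {R : Subgroup G} (hRS : R ≤ (S : Subgroup G)) {α : MulAut R}
    (hα : α ∈ (groupFusionSystem (S : Subgroup G)).autGroup R) :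
    ∃ g : G, g ∈ Subgroup.normalizer (R : Set G) ∧ ∀ x : R, ((α x : R) : G) = g * x * g⁻¹ := by
  have h1 := (mem_autGroup_iff (groupFusionSystem (S : Subgroup G)) hRS).1 hα
  obtain ⟨-, -, g, hg⟩ := h1
  have hg' : ∀ x : R, ((α x : R) : G) = g * x * g⁻¹ := hg
  refine ⟨g, ?_, hg'⟩
  rw [Subgroup.mem_normalizer_iff]
  intro h
  constructor
  · intro hh
    rw [← hg' ⟨h, hh⟩]
    exact (α ⟨h, hh⟩).2
  · intro hh
    have h2 := hg' (α.symm ⟨_, hh⟩)
    rw [MulEquiv.apply_symm_apply] at h2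
    have h3 : h = ((α.symm ⟨_, hh⟩ : R) : G) := by
      have h4 : g * h * g⁻¹ = g * ((α.symm ⟨_, hh⟩ : R) : G) * g⁻¹ := h2
      exact mul_left_cancel (mul_right_cancel h4)
    rw [h3]
    exact (α.symm ⟨_, hh⟩).2

/-- Key step: for `R` centric and radical in `F_S(G)`, `C_D(R ∩ D) ≤ R ∩ D`. -/
theorem centralizer_inf_le (S : Sylow p G) (D : Subgroup G) (hD : IsStronglyClosed D (S : Subgroup G))
    {R : Subgroup G} (hRc : (groupFusionSystem (S : Subgroup G)).IsCentric R)
    (hRr : (groupFusionSystem (S : Subgroup G)).IsRadical p R) :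
    D ⊓ Subgroup.centralizer ((R ⊓ D : Subgroup G) : Set G) ≤ R ⊓ D := by
  have hRS : R ≤ (S : Subgroup G) := hRc.1
  have hS : IsPGroup p (S : Subgroup G) := S.isPGroup'
  have hRp : IsPGroup p R := hS.to_le hRS
  have hfinR : Finite R := inferInstance
  have hinvD : ∀ α ∈ (groupFusionSystem (S : Subgroup G)).autGroup R, ∀ x : R, (x : G) ∈ D →
      ((α x : R) : G) ∈ D := by
    intro α hα x hx
    obtain ⟨g, -, hg⟩ := aut_eq_conj S hRS hα
    rw [hg]
    apply hD.2 x hx g
    rw [← hg]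
    exact hRS (α x).2
  have hinv : ∀ j ≤ 2, ∀ α ∈ (groupFusionSystem (S : Subgroup G)).autGroup R, ∀ x ∈ chainA D R j,
      α x ∈ chainA D R j := by
    intro j hj α hα x hx
    interval_cases j
    · trivial
    · exact Subgroup.mem_subgroupOf.2 (hinvD α hα x (Subgroup.mem_subgroupOf.1 hx))
    · have hx' : x = 1 := Subgroup.mem_bot.1 hx
      rw [hx', map_one]
      exact Subgroup.one_mem _
  -- the chain stabilizer lies in `Inn R`
  have hstab : chainStab ((groupFusionSystem (S : Subgroup G)).autGroup R) 2 (chainA D R) hinv ≤ Inn R := by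
    have hn : ((chainStab ((groupFusionSystem (S : Subgroup G)).autGroup R) 2 (chainA D R) hinv).subgroupOf
        ((groupFusionSystem (S : Subgroup G)).autGroup R)).Normal := by
      refine ⟨fun n hn g => ?_⟩
      exact Subgroup.mem_subgroupOf.2 (chainStab_conj_mem _ 2 _ hinv g.2 (Subgroup.mem_subgroupOf.1 hn))
    have hp : IsPGroup p ((chainStab ((groupFusionSystem (S : Subgroup G)).autGroup R) 2 (chainA D R) hinv).subgroupOf
        ((groupFusionSystem (S : Subgroup G)).autGroup R)) :=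
      (chainStab_isPGroup hRp _ 2 (chainA D R) rfl rfl hinv).comap_subtype
    have hle : (chainStab ((groupFusionSystem (S : Subgroup G)).autGroup R) 2 (chainA D R) hinv).subgroupOf
        ((groupFusionSystem (S : Subgroup G)).autGroup R) ≤
        pCore p ((groupFusionSystem (S : Subgroup G)).autGroup R) := le_sSup ⟨hn, hp⟩
    intro κ hκ
    rw [← hRr.2]
    exact ⟨⟨κ, chainStab_le _ 2 _ hinv hκ⟩, hle (Subgroup.mem_subgroupOf.2 hκ), rfl⟩
  -- elements of `C_D(R ∩ D)` normalizing `R` lie in `R ∩ D`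
  have hstep : ∀ c : G, c ∈ D → c ∈ Subgroup.centralizer ((R ⊓ D : Subgroup G) : Set G) →
      c ∈ Subgroup.normalizer (R : Set G) → c ∈ R := by
    intro c hcD hcC hcN
    have hcS : c ∈ (S : Subgroup G) := hD.1 hcD
    have hκS : conjAut R c hcN ∈ autInducedBy (S : Subgroup G) R :=
      mem_autInducedBy_iff.2 ⟨c, hcS, fun _ => rfl⟩
    have hκF : conjAut R c hcN ∈ (groupFusionSystem (S : Subgroup G)).autGroup R :=
      Cfsg.Agent.Lib.Helper87.autInducedBy_le_autGroup _ hRS hκS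
    have hκ : conjAut R c hcN ∈
        chainStab ((groupFusionSystem (S : Subgroup G)).autGroup R) 2 (chainA D R) hinv := by
      refine ⟨hκF, fun j hj r hr => ?_⟩
      interval_cases j
      · show r⁻¹ * conjAut R c hcN r ∈ D.subgroupOf R
        rw [Subgroup.mem_subgroupOf]
        show (r : G)⁻¹ * (c * r * c⁻¹) ∈ D
        have h1 : (r : G)⁻¹ * c * ((r : G)⁻¹)⁻¹ ∈ D := by
          apply hD.2 c hcD
          exact Subgroup.mul_mem _ (Subgroup.mul_mem _ (Subgroup.inv_mem _ (hRS r.2)) hcS)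
            (Subgroup.inv_mem _ (Subgroup.inv_mem _ (hRS r.2)))
        have h2 : (r : G)⁻¹ * (c * r * c⁻¹) = ((r : G)⁻¹ * c * ((r : G)⁻¹)⁻¹) * c⁻¹ := by group
        rw [h2]
        exact Subgroup.mul_mem _ h1 (Subgroup.inv_mem _ hcD)
      · show r⁻¹ * conjAut R c hcN r ∈ (⊥ : Subgroup R)
        rw [Subgroup.mem_bot]
        have hrD : (r : G) ∈ D := Subgroup.mem_subgroupOf.1 hr
        have h1 : (r : G) * c = c * r := Subgroup.mem_centralizer_iff.1 hcC r ⟨r.2, hrD⟩
        apply Subtype.ext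
        show (r : G)⁻¹ * (c * r * c⁻¹) = 1
        rw [← h1]
        group
    obtain ⟨x, hx⟩ := hstab hκ
    have hxc : ∀ r : R, (x : G) * r * (x : G)⁻¹ = c * r * c⁻¹ := by
      intro r
      have := congrArg (fun β : MulAut R => ((β r : R) : G)) hx
      exact this
    have hcen : (x : G)⁻¹ * c ∈ centralizerIn (S : Subgroup G) R := by
      refine ⟨Subgroup.mul_mem _ (Subgroup.inv_mem _ (hRS x.2)) hcS, ?_⟩
      show _ ∈ Subgroup.centralizer (R : Set G)
      rw [Subgroup.mem_centralizer_iff]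
      intro r hr
      have h1 := hxc ⟨r, hr⟩
      have h2 : c * r = (x : G) * r * (x : G)⁻¹ * c := by
        have : (x : G) * r * (x : G)⁻¹ = c * r * c⁻¹ := h1
        rw [this]; group
      calc r * ((x : G)⁻¹ * c) = (x : G)⁻¹ * ((x : G) * r * (x : G)⁻¹ * c) := by group
        _ = (x : G)⁻¹ * (c * r) := by rw [h2]
        _ = (x : G)⁻¹ * c * r := by group
    have h3 : (x : G)⁻¹ * c ∈ R :=
      hRc.2 R (isConj_refl _ hRS) hcen
    have : c = (x : G) * ((x : G)⁻¹ * c) := by group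
    rw [this]
    exact Subgroup.mul_mem _ x.2 h3
  -- `R` normalizes `C_D(R ∩ D)`
  have hconj : ∀ r ∈ R, ∀ h ∈ D ⊓ Subgroup.centralizer ((R ⊓ D : Subgroup G) : Set G),
      r * h * r⁻¹ ∈ D ⊓ Subgroup.centralizer ((R ⊓ D : Subgroup G) : Set G) := by
    intro r hr h hh
    have hrS : r ∈ (S : Subgroup G) := hRS hr
    have hhS : h ∈ (S : Subgroup G) := hD.1 hh.1
    refine ⟨hD.2 h hh.1 r (Subgroup.mul_mem _ (Subgroup.mul_mem _ hrS hhS) (Subgroup.inv_mem _ hrS)), ?_⟩
    show r * h * r⁻¹ ∈ Subgroup.centralizer ((R ⊓ D : Subgroup G) : Set G)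
    rw [Subgroup.mem_centralizer_iff]
    intro u hu
    have hu' : r⁻¹ * u * r ∈ (R ⊓ D : Subgroup G) := by
      refine ⟨Subgroup.mul_mem _ (Subgroup.mul_mem _ (Subgroup.inv_mem _ hr) hu.1) hr, ?_⟩
      have := hD.2 u hu.2 r⁻¹ (by
        rw [inv_inv]
        exact Subgroup.mul_mem _ (Subgroup.mul_mem _ (Subgroup.inv_mem _ hrS) (hD.1 hu.2)) hrS)
      rwa [inv_inv] at this
    have h1 : (r⁻¹ * u * r) * h = h * (r⁻¹ * u * r) := Subgroup.mem_centralizer_iff.1 hh.2 _ hu'
    calc u * (r * h * r⁻¹) = r * ((r⁻¹ * u * r) * h) * r⁻¹ := by group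
      _ = r * (h * (r⁻¹ * u * r)) * r⁻¹ := by rw [h1]
      _ = r * h * r⁻¹ * u := by group
  have hRnorm : R ≤ Subgroup.normalizer
      ((D ⊓ Subgroup.centralizer ((R ⊓ D : Subgroup G) : Set G) : Subgroup G) : Set G) := by
    intro r hr
    rw [Subgroup.mem_normalizer_iff]
    intro h
    constructor
    · exact hconj r hr h
    · intro hh
      have := hconj r⁻¹ (Subgroup.inv_mem _ hr) _ hh
      have e : r⁻¹ * (r * h * r⁻¹) * r⁻¹⁻¹ = h := by group
      rwa [e] at this
  by_contra hne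
  have hCR : ¬ D ⊓ Subgroup.centralizer ((R ⊓ D : Subgroup G) : Set G) ≤ R :=
    fun h => hne (le_inf h inf_le_left)
  have hM : R ⊔ (D ⊓ Subgroup.centralizer ((R ⊓ D : Subgroup G) : Set G)) ≤ (S : Subgroup G) :=
    sup_le hRS (inf_le_left.trans hD.1)
  have hneq : R ≠ R ⊔ (D ⊓ Subgroup.centralizer ((R ⊓ D : Subgroup G) : Set G)) :=
    fun h => hCR ((le_sup_right).trans h.ge)
  have hMp : IsPGroup p ↥(R ⊔ (D ⊓ Subgroup.centralizer ((R ⊓ D : Subgroup G) : Set G))) := hS.to_le hM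
  obtain ⟨m, hmN, hmR⟩ := exists_mem_normalizerIn_not_mem
    (S := R ⊔ (D ⊓ Subgroup.centralizer ((R ⊓ D : Subgroup G) : Set G))) hMp le_sup_left hneq
  obtain ⟨r, hr, c, hc, rfl⟩ := Cfsg.Agent.Lib.Helper85.mem_sup_of_le_normalizer hRnorm hmN.1
  have hcN : c ∈ Subgroup.normalizer (R : Set G) := by
    have h1 : r⁻¹ ∈ Subgroup.normalizer (R : Set G) := Subgroup.inv_mem _ (Subgroup.le_normalizer hr)
    have h2 : r * c ∈ Subgroup.normalizer (R : Set G) := hmN.2
    have := Subgroup.mul_mem _ h1 h2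
    rwa [inv_mul_cancel_left] at this
  exact hmR (Subgroup.mul_mem _ hr (hstep c hc.1 hc.2 hcN))

/-- `N_G(R)` normalizes `R ∩ D`. -/
theorem normalizer_le_normalizer_inf (S : Sylow p G) (D : Subgroup G)
    (hD : IsStronglyClosed D (S : Subgroup G)) {R : Subgroup G} (hRS : R ≤ (S : Subgroup G)) :
    Subgroup.normalizer (R : Set G) ≤ Subgroup.normalizer ((R ⊓ D : Subgroup G) : Set G) := by
  intro g hg
  rw [Subgroup.mem_normalizer_iff] at hg ⊢
  intro h
  constructor
  · rintro ⟨hR, hDh⟩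
    have h1 := (hg h).1 hR
    exact ⟨h1, hD.2 h hDh g (hRS h1)⟩
  · rintro ⟨hR, hDh⟩
    have h1 := (hg h).2 hR
    refine ⟨h1, ?_⟩
    have := hD.2 _ hDh g⁻¹ (by
      have e : g⁻¹ * (g * h * g⁻¹) * g⁻¹⁻¹ = h := by group
      rw [e]; exact hRS h1)
    have e : g⁻¹ * (g * h * g⁻¹) * g⁻¹⁻¹ = h := by group
    rwa [e] at this

/-- For `R` centric and radical, `Aut_G(R)` is a `p`-group. -/
theorem autGroup_isPGroup (S : Sylow p G) (D : Subgroup G) (hD : IsStronglyClosed D (S : Subgroup G))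
    (hloc : ∀ U : Subgroup G, U ≤ D → D ⊓ Subgroup.centralizer (U : Set G) ≤ U →
      HasNormalPComplement p ↥(Subgroup.normalizer (U : Set G)))
    {R : Subgroup G} (hRc : (groupFusionSystem (S : Subgroup G)).IsCentric R)
    (hRr : (groupFusionSystem (S : Subgroup G)).IsRadical p R) :
    IsPGroup p ((groupFusionSystem (S : Subgroup G)).autGroup R) := by
  have hRS : R ≤ (S : Subgroup G) := hRc.1
  have hRp : IsPGroup p R := S.isPGroup'.to_le hRS
  have hU : HasNormalPComplement p ↥(Subgroup.normalizer ((R ⊓ D : Subgroup G) : Set G)) :=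
    hloc (R ⊓ D) inf_le_right (centralizer_inf_le S D hD hRc hRr)
  have hNN := normalizer_le_normalizer_inf S D hD hRS
  rintro ⟨α, hα⟩
  obtain ⟨g, hgN, hg⟩ := aut_eq_conj S hRS hα
  obtain ⟨a, m, hm, hnm⟩ := Nat.exists_eq_pow_mul_and_not_dvd (orderOf_pos g).ne' p
    (Fact.out : p.Prime).ne_one
  have hcop : (orderOf (g ^ p ^ a)).Coprime p := by
    have hdvd : orderOf (g ^ p ^ a) ∣ m := by
      apply orderOf_dvd_of_pow_eq_one
      rw [← pow_mul, ← hnm, pow_orderOf_eq_one]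
    have hmp : m.Coprime p := ((Nat.Prime.coprime_iff_not_dvd (Fact.out : p.Prime)).2 hm).symm
    exact Nat.Coprime.coprime_dvd_left hdvd hmp
  have hgN' : g ^ p ^ a ∈ Subgroup.normalizer (R : Set G) := Subgroup.pow_mem _ hgN _
  have hcen := coprime_centralizes_of_le _ hU R ((Subgroup.le_normalizer).trans hNN) hRp (g ^ p ^ a)
    (hNN hgN') hgN' hcop
  refine ⟨a, Subtype.ext ?_⟩
  show α ^ p ^ a = 1
  ext r
  rw [conj_pow_apply hg]
  have h1 : (r : G) * g ^ p ^ a = g ^ p ^ a * r := Subgroup.mem_centralizer_iff.1 hcen r r.2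
  show g ^ p ^ a * (r : G) * (g ^ p ^ a)⁻¹ = r
  rw [← h1]
  group

/-- A Frobenius normal p-complement criterion relative to a strongly closed subgroup. Let G be a finite group, S a Sylow p-subgroup and D a subgroup of S strongly closed in S with respect to G. Then G has a normal p-complement if and only if N_G(U) has a normal p-complement for every subgroup U of D with C_D(U) ≤ U. -/
theorem result {G : Type*} [Group G] [Finite G] {p : ℕ} [Fact p.Prime] (S : Sylow p G) (D : Subgroup G) (hD : Cfsg.IsStronglyClosed D (S : Subgroup G)) : Cfsg.HasNormalPComplement p G ↔ ∀ U : Subgroup G, U ≤ D → D ⊓ Subgroup.centralizer (U : Set G) ≤ U → Cfsg.HasNormalPComplement p ↥(Subgroup.normalizer (U : Set G)) := by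
  constructor
  · intro h U _ _
    exact Cfsg.Agent.Lib.Helper2.hasNormalPComplement_subgroup h _
  · intro hloc
    apply Cfsg.Agent.Lib.Helper2.hasNormalPComplement_of_controlsOwnFusion S
    have hS : IsPGroup p (S : Subgroup G) := S.isPGroup'
    have hF := Cfsg.Agent.Lib.Helper85.groupFusionSystem_isSaturated S
    have hle : ∀ P : Subgroup G, (groupFusionSystem (S : Subgroup G)).Hom P ⊆
        (innerFusionSystem (S : Subgroup G)).Hom P := by
      refine alperin_cr (groupFusionSystem (S : Subgroup G)) (innerFusionSystem (S : Subgroup G)) hS hF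
        (fun R _ hRc hRr hRa _ α hα => ?_)
      have hp := autGroup_isPGroup S D hD hloc hRc hRr
      have hα' := autGroup_le_autInducedBy_of_isPGroup _ hRa hp hα
      obtain ⟨g, hg, hge⟩ := mem_autInducedBy_iff.1 hα'
      exact ⟨hRc.1, g, hg, fun x => hge x⟩
    intro x hx g hgx
    have hz : Subgroup.zpowers x ≤ (S : Subgroup G) := (Subgroup.zpowers_le).2 hx
    have hφ : conjHom (Subgroup.zpowers x) g ∈
        (groupFusionSystem (S : Subgroup G)).Hom (Subgroup.zpowers x) := by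
      refine ⟨hz, fun y => ?_, g, fun y => rfl⟩
      obtain ⟨k, hk⟩ := Subgroup.mem_zpowers_iff.1 y.2
      show g * (y : G) * g⁻¹ ∈ (S : Subgroup G)
      rw [← hk, ← conj_zpow]
      exact Subgroup.zpow_mem _ hgx k
    obtain ⟨-, u, hu, hue⟩ := hle _ hφ
    exact ⟨u, hu, hue ⟨x, Subgroup.mem_zpowers x⟩⟩

end Cfsg.Agent.S3839
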