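import Mathlib
import Cfsg.Statements.S3857
import Cfsg.Agent.Lib.Helper64.PiCore
import Cfsg.Agent.Lib.Helper35.FpfCyclic
import Cfsg.Agent.S4108

set_option autoImplicit false
open Cfsg

namespace Cfsg.Agent.S3857

open Cfsg.Agent.Lib.Helper64
open scoped commutatorElement

/-- no element has order divisible by a prime in `σ` and a prime outside `σ` -/
def Sep (σ : Set ℕ) (X : Type*) [Group X] : Prop :=
  ∀ x : X, ∀ a b : ℕ, a.Prime → b.Prime → a ∈ σ → b ∉ σ → a ∣ orderOf x → b ∣ orderOf x → False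

lemma Sep.compl {σ : Set ℕ} {X : Type*} [Group X] (h : Sep σ X) : Sep σᶜ X := by
  intro x a b ha hb haσ hbσ h1 h2
  exact h x b a hb ha (by simpa using hbσ) haσ h2 h1

lemma Sep.subgroup {σ : Set ℕ} {X : Type*} [Group X] (h : Sep σ X) (H : Subgroup X) : Sep σ H := by
  intro x a b ha hb haσ hbσ h1 h2
  rw [← Subgroup.orderOf_coe] at h1 h2
  exact h x a b ha hb haσ hbσ h1 h2

lemma Sep.quotient {σ : Set ℕ} {X : Type*} [Group X] (h : Sep σ X) (N : Subgroup X) [N.Normal] :
    Sep σ (X ⧸ N) := by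
  intro x a b ha hb haσ hbσ h1 h2
  obtain ⟨g, rfl⟩ := QuotientGroup.mk'_surjective N x
  have hd : orderOf (QuotientGroup.mk' N g) ∣ orderOf g := orderOf_map_dvd _ g
  exact h g a b ha hb haσ hbσ (h1.trans hd) (h2.trans hd)

/-- commuting elements of `σ`-order and `σ'`-order: one of them is trivial -/
lemma Sep.eq_one_of_commute {σ : Set ℕ} {X : Type*} [Group X] [Finite X] (h : Sep σ X) {x y : X}
    (hc : Commute x y) (hx : IsNum σ (orderOf x)) (hy : IsNum σᶜ (orderOf y)) (hx1 : x ≠ 1) :
    y = 1 := by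
  by_contra hy1
  have hox : orderOf x ≠ 1 := fun h => hx1 (orderOf_eq_one_iff.mp h)
  have hoy : orderOf y ≠ 1 := fun h => hy1 (orderOf_eq_one_iff.mp h)
  obtain ⟨a, ha, hax⟩ := Nat.exists_prime_and_dvd hox
  obtain ⟨b, hb, hby⟩ := Nat.exists_prime_and_dvd hoy
  have hcop : Nat.Coprime (orderOf x) (orderOf y) := hx.coprime hy
  have hord : orderOf (x * y) = orderOf x * orderOf y := hc.orderOf_mul_eq_mul_orderOf_of_coprime hcop
  exact h (x * y) a b ha hb (hx a ha hax) (hy b hb hby) (by rw [hord]; exact hax.mul_right _)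
    (by rw [hord]; exact hby.mul_left _)

/-- Frobenius group from a normal Hall subgroup in a group with separated prime graph -/
lemma frob_of_sep {σ : Set ℕ} {X : Type*} [Group X] [Finite X] (h : Sep σ X) (N : Subgroup X)
    [N.Normal] (hN0 : N ≠ ⊥) (hN1 : N ≠ ⊤) (h1 : IsNum σ (Nat.card N)) (h2 : IsNum σᶜ N.index) :
    ∃ C : Subgroup X, IsFrobeniusComplement C ∧ frobeniusKernel C = (N : Set X) := by
  have hcop : Nat.Coprime (Nat.card N) N.index := h1.coprime h2
  obtain ⟨H, hH⟩ := Subgroup.exists_right_complement'_of_coprime hcop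
  have hsup : N ⊔ H = ⊤ := hH.sup_eq_top
  have hinf : N ⊓ H = ⊥ := disjoint_iff.mp hH.disjoint
  have hcardH : Nat.card H = N.index := by
    have := hH.symm.index_eq_card
    exact this.symm
  have hHb : H ≠ ⊥ := by
    rintro rfl
    rw [sup_bot_eq] at hsup
    exact hN1 hsup
  refine ⟨H, Cfsg.Agent.S4108.frobenius_of_fpf N H hsup hinf hN0 hHb ?_⟩
  intro x hx hx1 n hn hcomm
  have hxo : IsNum σᶜ (orderOf x) := by
    apply h2.of_dvd
    rw [← hcardH]
    exact Subgroup.orderOf_dvd_natCard H hx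
  have hno : IsNum σ (orderOf n) := h1.of_dvd (Subgroup.orderOf_dvd_natCard N hn)
  by_contra hn1
  exact hx1 (h.eq_one_of_commute (x := n) (y := x) hcomm.symm hno hxo hn1)


/-- an abelian exponent-`q` quotient acted on... : if `f : X → Y` is surjective with nontrivial
kernel of `σ`-order, `Y` abelian of exponent `q ∉ σ`, then `|Y|` divides `q` -/
lemma card_dvd_prime_of_fpf {σ : Set ℕ} {X Y : Type*} [Group X] [Finite X] [Group Y]
    (hsol : Group.IsSolvable X) (h : Sep σ X) (f : X →* Y) (hf : Function.Surjective f)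
    (hk0 : f.ker ≠ ⊥) (hkσ : IsNum σ (Nat.card f.ker)) (hab : ∀ a b : Y, a * b = b * a)
    (q : ℕ) (hq : q.Prime) (hqσ : q ∉ σ) (hexp : ∀ y : Y, y ^ q = 1) (i : ℕ)
    (hcard : Nat.card Y = q ^ i) : Nat.card Y ∣ q := by
  have hidx : f.ker.index = q ^ i := by
    rw [Subgroup.index_ker, MonoidHom.range_eq_top_of_surjective f hf, Subgroup.card_top, hcard]
  have hqi : IsNum σᶜ (q ^ i) := IsNum.prime_pow hq (by simpa using hqσ) i
  have hcop : Nat.Coprime (Nat.card f.ker) f.ker.index := by
    rw [hidx]; exact hkσ.coprime hqi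
  obtain ⟨Q, hQ⟩ := Subgroup.exists_right_complement'_of_coprime hcop
  have hsup : f.ker ⊔ Q = ⊤ := hQ.sup_eq_top
  have hinf : f.ker ⊓ Q = ⊥ := disjoint_iff.mp hQ.disjoint
  have hcardQ : Nat.card Q = q ^ i := by
    rw [← hidx]; exact hQ.symm.index_eq_card.symm
  -- Q is abelian
  have hQab : ∀ a ∈ Q, ∀ b ∈ Q, a * b = b * a := by
    intro a ha b hb
    have h1 : a * b * (b * a)⁻¹ ∈ f.ker := by
      rw [MonoidHom.mem_ker, map_mul, map_inv, map_mul, map_mul, hab (f a) (f b)]
      exact mul_inv_cancel _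
    have h2 : a * b * (b * a)⁻¹ ∈ Q := Q.mul_mem (Q.mul_mem ha hb) (Q.inv_mem (Q.mul_mem hb ha))
    have h3 : a * b * (b * a)⁻¹ ∈ f.ker ⊓ Q := ⟨h1, h2⟩
    rw [hinf, Subgroup.mem_bot] at h3
    exact mul_inv_eq_one.mp h3
  haveI hQc : IsMulCommutative Q := ⟨⟨fun a b => Subtype.ext (hQab a a.2 b b.2)⟩⟩
  have hfpf : ∀ b ∈ Q, b ≠ 1 → f.ker ⊓ Subgroup.centralizer {b} = ⊥ := by
    intro b hb hb1
    rw [eq_bot_iff]
    intro k hk
    rw [Subgroup.mem_bot]
    have hk1 : k ∈ f.ker := hk.1
    have hk2 : k ∈ Subgroup.centralizer {b} := hk.2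
    rw [Subgroup.mem_centralizer_singleton_iff] at hk2
    have hbo : IsNum σᶜ (orderOf b) := by
      apply hqi.of_dvd
      rw [← hcardQ]
      exact Subgroup.orderOf_dvd_natCard Q hb
    have hko : IsNum σᶜᶜ (orderOf k) := by
      rw [isNum_compl_compl]
      exact hkσ.of_dvd (Subgroup.orderOf_dvd_natCard _ hk1)
    exact h.compl.eq_one_of_commute (x := b) (y := k) hk2.symm hbo hko hb1
  have hsolQ : Group.IsSolvable Q := inferInstance
  have hcyc : IsCyclic Q :=
    Cfsg.Agent.Lib.Helper35.isCyclic_of_fpf f.ker Q hk0 hfpf hsolQ (Or.inl hQc)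
  obtain ⟨g, hg⟩ := hcyc.exists_generator
  -- Y is generated by f g
  have hgen : ∀ y : Y, y ∈ Subgroup.zpowers (f g) := by
    intro y
    obtain ⟨x, rfl⟩ := hf y
    have hx : x ∈ ((f.ker ⊔ Q : Subgroup X) : Set X) := by rw [hsup]; trivial
    rw [Subgroup.normal_mul] at hx
    obtain ⟨n, hn, x', hx', rfl⟩ := hx
    rw [map_mul, MonoidHom.mem_ker.mp hn, one_mul]
    obtain ⟨m, hm⟩ := Subgroup.mem_zpowers_iff.mp (hg ⟨x', hx'⟩)
    refine Subgroup.mem_zpowers_iff.mpr ⟨m, ?_⟩
    have : ((g ^ m : Q) : X) = x' := by rw [hm]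
    rw [← this]
    simp
  have htop : Subgroup.zpowers (f g) = ⊤ := by
    rw [eq_top_iff]; intro y _; exact hgen y
  have h1 : Nat.card Y = orderOf (f g) := by
    rw [← Nat.card_zpowers, htop, Subgroup.card_top]
  rw [h1]
  exact orderOf_dvd_of_pow_eq_one (hexp _)

/-- In a group `Y` with separated prime graph whose largest normal `σ'`-subgroup `L'` is proper and
contains a normal subgroup of prime order, `Y` is a Frobenius group with kernel `L'`. -/
lemma frob_quotient {σ : Set ℕ} {Y : Type*} [Group Y] [Finite Y] (h : Sep σ Y)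
    (L' : Subgroup Y) [hL'n : L'.Normal] (hL'σ : IsNum σᶜ (Nat.card L'))
    (hL'max : ∀ M : Subgroup Y, M.Normal → IsNum σᶜ (Nat.card M) → M ≤ L')
    (V : Subgroup Y) [hVn : V.Normal] (q : ℕ) (hq : q.Prime) (hqσ : q ∉ σ) (hVcard : Nat.card V = q)
    (hL'top : L' ≠ ⊤) :
    ∃ C : Subgroup Y, IsFrobeniusComplement C ∧ frobeniusKernel C = (L' : Set Y) := by
  haveI := Fact.mk hq
  have hVb : V ≠ ⊥ := by
    rw [← Subgroup.one_lt_card_iff_ne_bot, hVcard]; exact hq.one_lt
  have hVL : V ≤ L' := hL'max V hVn (by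
    rw [hVcard]
    have := IsNum.prime_pow (σ := σᶜ) hq (by simpa using hqσ) 1
    simpa using this)
  have hL'b : L' ≠ ⊥ := fun h0 => hVb (le_bot_iff.mp (h0 ▸ hVL))
  haveI hVc : IsCyclic V := isCyclic_of_prime_card hVcard
  -- the automorphism group of V is commutative
  have hautc : ∀ α β : MulAut V, α * β = β * α := by
    intro α β
    apply (IsCyclic.mulAutMulEquiv V).injective
    rw [map_mul, map_mul, mul_comm]
  -- commutators centralize V
  have hcommC : commutator Y ≤ Subgroup.centralizer (V : Set Y) := by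
    rw [commutator_eq_closure, Subgroup.closure_le]
    rintro _ ⟨x, y, rfl⟩
    rw [SetLike.mem_coe, Subgroup.mem_centralizer_iff]
    intro v hv
    have h1 : MulAut.conjNormal (H := V) ⁅x, y⁆ = 1 := by
      rw [map_commutatorElement, commutatorElement_eq_one_iff_commute]
      exact hautc _ _
    have h2 := congrArg (fun α : MulAut V => ((α ⟨v, hv⟩ : V) : Y)) h1
    simp only [MulAut.conjNormal_apply, MulAut.one_apply] at h2
    calc v * ⁅x, y⁆ = (⁅x, y⁆ * v * ⁅x, y⁆⁻¹) * ⁅x, y⁆ := by rw [h2]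
      _ = ⁅x, y⁆ * v := by group
  -- the centralizer of V is a σ'-group
  have hCσ : IsNum σᶜ (Nat.card (Subgroup.centralizer (V : Set Y))) := by
    intro a ha hdvd haσ
    haveI := Fact.mk ha
    obtain ⟨c, hc⟩ := exists_prime_orderOf_dvd_card' (G := Subgroup.centralizer (V : Set Y)) a hdvd
    obtain ⟨z, hz1⟩ := (Subgroup.ne_bot_iff_exists_ne_one).mp hVb
    have hzV' : (z : Y) ∈ V := z.2
    have hcz : Commute (c : Y) (z : Y) := by
      have := (Subgroup.mem_centralizer_iff.mp c.2) z hzV'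
      exact this.symm
    have hco : IsNum σ (orderOf (c : Y)) := by
      rw [Subgroup.orderOf_coe, hc]
      have := IsNum.prime_pow (σ := σ) ha haσ 1
      simpa using this
    have hzo : IsNum σᶜ (orderOf (z : Y)) := by
      have h1 : orderOf (z : Y) ∣ q := by
        rw [← hVcard]; exact Subgroup.orderOf_dvd_natCard V hzV'
      have := IsNum.prime_pow (σ := σᶜ) hq (by simpa using hqσ) 1
      rw [pow_one] at this
      exact this.of_dvd h1
    have hc1 : (c : Y) ≠ 1 := by
      intro h0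
      have : c = 1 := Subtype.ext h0
      rw [this, orderOf_one] at hc
      exact ha.one_lt.ne hc
    have := h.eq_one_of_commute hcz hco hzo hc1
    exact hz1 (Subtype.ext this)
  have hCL : Subgroup.centralizer (V : Set Y) ≤ L' := hL'max _ inferInstance hCσ
  have hcommL : commutator Y ≤ L' := hcommC.trans hCL
  -- the index of L' is a σ-number
  have hidx : IsNum σ L'.index := by
    intro b hb hdvd
    by_contra hbσ
    haveI := Fact.mk hb
    rw [Subgroup.index_eq_card] at hdvd
    obtain ⟨y, hy⟩ := exists_prime_orderOf_dvd_card' (G := Y ⧸ L') b hdvd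
    set X := (Subgroup.zpowers y).comap (QuotientGroup.mk' L') with hX
    have hL'X : L' ≤ X := le_comap_mk' L' _
    have hXcard : Nat.card X = Nat.card L' * b := by
      rw [hX, card_comap_mk', Nat.card_zpowers, hy]
    have hXn : X.Normal := by
      constructor
      intro x hx g
      have h1 : g * x * g⁻¹ = ⁅g, x⁆ * x := by rw [commutatorElement_def]; group
      rw [h1]
      apply X.mul_mem _ hx
      apply hL'X
      apply hcommL
      rw [commutator_def]
      exact Subgroup.commutator_mem_commutator (Subgroup.mem_top g) (Subgroup.mem_top x)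
    have hXσ : IsNum σᶜ (Nat.card X) := by
      rw [hXcard]
      apply hL'σ.mul
      have := IsNum.prime_pow (σ := σᶜ) hb (by simpa using hbσ) 1
      simpa using this
    have hXL := hL'max X hXn hXσ
    have h1 : Nat.card X ≤ Nat.card L' := Subgroup.card_le_of_le hXL
    rw [hXcard] at h1
    have hpos : 0 < Nat.card L' := Nat.card_pos
    have := hb.two_le
    nlinarith
  exact frob_of_sep h.compl L' hL'b hL'top hL'σ (by rw [isNum_compl_compl]; exact hidx)


theorem main {G : Type*} [Group G] [Finite G] (hsol : Group.IsSolvable G) (σ : Set ℕ)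
    (hsep : Sep σ G) (N0 : Subgroup G) (hN0n : N0.Normal) (hN0 : N0 ≠ ⊥)
    (hN0σ : IsNum σ (Nat.card N0)) (b : ℕ) (hb : b.Prime) (hbσ : b ∉ σ) (hbG : b ∣ Nat.card G) :
    (∃ C : Subgroup G, Cfsg.IsFrobeniusComplement C) ∨
    (∃ (H K : Subgroup G) (_ : H.Normal), K.Normal ∧ H < K ∧
      (∃ C : Subgroup ↥K, Cfsg.IsFrobeniusComplement C ∧ Cfsg.frobeniusKernel C = (H.subgroupOf K : Set ↥K)) ∧
      (∃ C : Subgroup (G ⧸ H), Cfsg.IsFrobeniusComplement C ∧ Cfsg.frobeniusKernel C = (K.map (QuotientGroup.mk' H) : Set (G ⧸ H)))) := by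
  obtain ⟨K, hKn, hKσ, hKmax⟩ := exists_max_normal_num (G := G) σ
  haveI := hKn
  have hKb : K ≠ ⊥ := fun h => hN0 (le_bot_iff.mp (h ▸ hKmax N0 hN0n hN0σ))
  have hcardG : Nat.card G = Nat.card K * Nat.card (G ⧸ K) := by
    rw [mul_comm]; exact Subgroup.card_eq_card_quotient_mul_card_subgroup K
  have hbK : ¬ b ∣ Nat.card K := fun h => hbσ (hKσ b hb h)
  have hbQ : b ∣ Nat.card (G ⧸ K) := by
    rw [hcardG] at hbG
    exact ((Nat.Prime.dvd_mul hb).mp hbG).resolve_left hbK
  have hQcard : 1 < Nat.card (G ⧸ K) :=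
    lt_of_lt_of_le hb.one_lt (Nat.le_of_dvd Nat.card_pos hbQ)
  haveI hQnt : Nontrivial (G ⧸ K) := Finite.one_lt_card_iff_nontrivial.mp hQcard
  have hsepQ : Sep σ (G ⧸ K) := hsep.quotient K
  have hO : ∀ M : Subgroup (G ⧸ K), M.Normal → IsNum σ (Nat.card M) → M = ⊥ := by
    intro M hM hMσ
    have h1 : (M.comap (QuotientGroup.mk' K)).Normal := hM.comap _
    have h2 : IsNum σ (Nat.card (M.comap (QuotientGroup.mk' K))) := by
      rw [card_comap_mk']; exact hKσ.mul hMσ
    have h3 := hKmax _ h1 h2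
    rw [eq_bot_iff]
    intro x hx
    obtain ⟨g, rfl⟩ := QuotientGroup.mk'_surjective K x
    have : g ∈ K := h3 (Subgroup.mem_comap.mpr hx)
    rw [Subgroup.mem_bot]
    exact (QuotientGroup.eq_one_iff g).mpr this
  obtain ⟨L', hL'n, hL'σ, hL'max⟩ := exists_max_normal_num (G := G ⧸ K) σᶜ
  haveI := hL'n
  obtain ⟨V, hVn, hVb, hVab, q, hq, hVexp, i, hVcard⟩ := exists_normal_elemAb (G := G ⧸ K)
  haveI := hVn
  have hqσ : q ∉ σ := by
    intro hqσ
    exact hVb (hO V hVn (by rw [hVcard]; exact IsNum.prime_pow hq hqσ i))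
  have hVL : V ≤ L' :=
    hL'max V hVn (by rw [hVcard]; exact IsNum.prime_pow hq (by simpa using hqσ) i)
  have hL'b : L' ≠ ⊥ := fun h => hVb (le_bot_iff.mp (h ▸ hVL))
  set L := L'.comap (QuotientGroup.mk' K) with hL
  have hLn : L.Normal := hL'n.comap _
  have hKL : K ≤ L := le_comap_mk' K L'
  have hLcard : Nat.card L = Nat.card K * Nat.card L' := card_comap_mk' K L'
  have hL'card : 1 < Nat.card L' := (Subgroup.one_lt_card_iff_ne_bot _).mpr hL'b
  have hLK : ¬ L ≤ K := by
    intro h
    have h1 := Subgroup.card_le_of_le h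
    rw [hLcard] at h1
    have hpos : 0 < Nat.card K := Nat.card_pos
    nlinarith
  have hKltL : K < L := lt_of_le_not_ge hKL hLK
  by_cases hL'top : L' = ⊤
  · -- G itself is a Frobenius group
    left
    have hKtop : K ≠ ⊤ := by
      intro h
      rw [h] at hLK
      exact hLK le_top
    have hidx : IsNum σᶜ K.index := by
      rw [Subgroup.index_eq_card, ← Subgroup.card_top (G := G ⧸ K), ← hL'top]
      exact hL'σ
    obtain ⟨C, hC, -⟩ := frob_of_sep hsep K hKb hKtop hKσ hidx
    exact ⟨C, hC⟩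
  · right
    refine ⟨K, L, hKn, hLn, hKltL, ?_, ?_⟩
    · -- L is a Frobenius group with kernel K
      have hc1 : Nat.card (K.subgroupOf L) = Nat.card K :=
        Nat.card_congr (Subgroup.subgroupOfEquivOfLe hKL).toEquiv
      have hidx : (K.subgroupOf L).index = Nat.card L' := by
        have h1 := (K.subgroupOf L).card_mul_index
        rw [hc1, hLcard] at h1
        exact Nat.eq_of_mul_eq_mul_left Nat.card_pos h1
      apply frob_of_sep (hsep.subgroup L) (K.subgroupOf L)
      · rw [← Subgroup.one_lt_card_iff_ne_bot, hc1]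
        exact (Subgroup.one_lt_card_iff_ne_bot _).mpr hKb
      · rw [Ne, Subgroup.subgroupOf_eq_top]
        exact hLK
      · rw [hc1]; exact hKσ
      · rw [hidx]; exact hL'σ
    · -- G/K is a Frobenius group with kernel L/K
      have hLmap : L.map (QuotientGroup.mk' K) = L' :=
        Subgroup.map_comap_eq_self_of_surjective (QuotientGroup.mk'_surjective K) L'
      rw [hLmap]
      -- V has order q
      have hVq : Nat.card V = q := by
        have hsolW : Group.IsSolvable (V.comap (QuotientGroup.mk' K)) := inferInstance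
        have hker : ((QuotientGroup.mk' K).subgroupComap V).ker = K.subgroupOf (V.comap (QuotientGroup.mk' K)) := by
          ext x
          rw [MonoidHom.mem_ker, Subgroup.mem_subgroupOf, ← QuotientGroup.eq_one_iff,
            ← QuotientGroup.mk'_apply]
          constructor
          · intro h
            exact congrArg Subtype.val h
          · intro h
            exact Subtype.ext h
        have hKW : K ≤ V.comap (QuotientGroup.mk' K) := le_comap_mk' K V
        have hc1 : Nat.card (K.subgroupOf (V.comap (QuotientGroup.mk' K))) = Nat.card K :=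
          Nat.card_congr (Subgroup.subgroupOfEquivOfLe hKW).toEquiv
        have hdvd := card_dvd_prime_of_fpf hsolW (hsep.subgroup _)
          ((QuotientGroup.mk' K).subgroupComap V)
          (MonoidHom.subgroupComap_surjective_of_surjective _ _ (QuotientGroup.mk'_surjective K))
          (by
            rw [hker, ← Subgroup.one_lt_card_iff_ne_bot, hc1]
            exact (Subgroup.one_lt_card_iff_ne_bot _).mpr hKb)
          (by rw [hker, hc1]; exact hKσ)
          (fun a b => Subtype.ext (hVab a a.2 b b.2)) q hq hqσ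
          (fun y => Subtype.ext (by simpa using hVexp y y.2)) i hVcard
        rcases (Nat.dvd_prime hq).mp hdvd with h1 | h1
        · exact absurd ((Subgroup.one_lt_card_iff_ne_bot _).mpr hVb) (by omega)
        · exact h1
      exact frob_quotient hsepQ L' hL'σ hL'max V q hq hqσ hVq hL'top


/-- A finite solvable group whose prime graph (prime divisors of the order, two distinct primes joined when there is an element of order their product) is disconnected is a Frobenius group or a 2-Frobenius group (it has normal subgroups H < K with K a Frobenius group with kernel H and G/H a Frobenius group with kernel K/H). -/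
theorem result {G : Type*} [Group G] [Finite G] (hsol : Group.IsSolvable G)
    (hdisc : (∃ A : Set ℕ, (∃ a ∈ A, a.Prime ∧ a ∣ Nat.card G) ∧ (∃ b ∉ A, b.Prime ∧ b ∣ Nat.card G) ∧
      ∀ a ∈ A, ∀ b ∉ A, a.Prime → b.Prime → a ∣ Nat.card G → b ∣ Nat.card G → ¬ ∃ g : G, orderOf g = a * b)) :
    (∃ C : Subgroup G, Cfsg.IsFrobeniusComplement C) ∨
    (∃ (H K : Subgroup G) (_ : H.Normal), K.Normal ∧ H < K ∧
      (∃ C : Subgroup ↥K, Cfsg.IsFrobeniusComplement C ∧ Cfsg.frobeniusKernel C = (H.subgroupOf K : Set ↥K)) ∧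
      (∃ C : Subgroup (G ⧸ H), Cfsg.IsFrobeniusComplement C ∧ Cfsg.frobeniusKernel C = (K.map (QuotientGroup.mk' H) : Set (G ⧸ H)))) := by
  obtain ⟨A, ⟨a0, ha0A, ha0, ha0G⟩, ⟨b0, hb0A, hb0, hb0G⟩, hno⟩ := hdisc
  have hsep : Sep A G := by
    intro x a b ha hb haA hbA h1 h2
    have hab : a ≠ b := by rintro rfl; exact hbA haA
    have hcop : Nat.Coprime a b := (Nat.coprime_primes ha hb).mpr hab
    have hdvd : a * b ∣ orderOf x := hcop.mul_dvd_of_dvd_of_dvd h1 h2
    have hox : orderOf x ≠ 0 := (orderOf_pos x).ne'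
    apply hno a haA b hbA ha hb (h1.trans (orderOf_dvd_natCard x)) (h2.trans (orderOf_dvd_natCard x))
    obtain ⟨n, hn⟩ := hdvd
    have hn0 : n ≠ 0 := by
      rintro rfl
      rw [mul_zero] at hn
      exact hox hn
    refine ⟨x ^ n, ?_⟩
    rw [orderOf_pow_of_dvd hn0 ⟨a * b, by rw [hn]; ring⟩, hn]
    exact Nat.mul_div_cancel _ (Nat.pos_of_ne_zero hn0)
  haveI : Nontrivial G := by
    rw [← Finite.one_lt_card_iff_nontrivial]
    exact lt_of_lt_of_le ha0.one_lt (Nat.le_of_dvd Nat.card_pos ha0G)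
  haveI := hsol
  obtain ⟨N0, hN0n, hN0b, -, p, hp, -, i, hN0card⟩ := exists_normal_elemAb (G := G)
  by_cases hpA : p ∈ A
  · exact main hsol A hsep N0 hN0n hN0b (by rw [hN0card]; exact IsNum.prime_pow hp hpA i)
      b0 hb0 hb0A hb0G
  · exact main hsol Aᶜ hsep.compl N0 hN0n hN0b
      (by rw [hN0card]; exact IsNum.prime_pow hp (by simpa using hpA) i)
      a0 ha0 (by simpa using ha0A) ha0G

end Cfsg.Agent.S3857
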