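import Cfsg.Statements.S3858
-- import your own Cfsg.Agent.* helpers here

set_option autoImplicit false
open Cfsg

namespace Cfsg.Agent.S3858

variable {G : Type*} [Group G]

open scoped Pointwise

lemma simple_nonabelian_not_pgroup {T : Type*} [Group T] [Finite T] (hT : IsSimpleGroup T)
    (hna : ¬ IsMulCommutative T) {r : ℕ} [Fact r.Prime] (h : IsPGroup r T) : False := by
  have := hT
  have : Group.IsNilpotent T := h.isNilpotent
  have hs : Group.IsSolvable T := inferInstance
  have := IsSimpleGroup.comm_iff_isSolvable.mpr hs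
  exact hna ⟨⟨this⟩⟩

lemma map_conj_eq_smul (M : Subgroup G) (g : G) :
    M.map (MulAut.conj g).toMonoidHom = MulAut.conj g • M := rfl

lemma exists_conj_le_of_not_dvd_index [Finite G] {r : ℕ} [Fact r.Prime] (R : Sylow r G)
    (M : Subgroup G) (h : ¬ r ∣ M.index) :
    ∃ g : G, (R : Subgroup G) ≤ MulAut.conj g • M := by
  have hfix := R.isPGroup'.nonempty_fixed_point_of_prime_not_dvd_card (G ⧸ M) h
  obtain ⟨q, hq⟩ := hfix
  obtain ⟨g, rfl⟩ := QuotientGroup.mk_surjective q
  refine ⟨g, ?_⟩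
  intro a ha
  have h1 := hq ⟨a⁻¹, (R : Subgroup G).inv_mem ha⟩
  have h2 : ((a⁻¹ * g : G) : G ⧸ M) = (g : G ⧸ M) := h1
  rw [QuotientGroup.eq] at h2
  rw [Subgroup.mem_pointwise_smul_iff_inv_smul_mem]
  simpa [MulAut.conj_inv_apply, mul_assoc] using h2

lemma isCoatom_conj_smul (M : Subgroup G) (g : G) (hM : IsCoatom M) :
    IsCoatom (MulAut.conj g • M) := by
  have := (OrderIso.isCoatom_iff (MulEquiv.mapSubgroup (MulAut.conj g)) M).mpr hM
  exact this

/-- Let G be a finite group with a normal non-abelian simple subgroup T whose centralizer is trivial (G almost simple with socle T), r a prime and R a Sylow r-subgroup of G meeting T nontrivially. Then R lies in exactly one maximal subgroup of G if and only if G has exactly one conjugacy class of maximal subgroups whose index is prime to r. -/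
theorem result {G : Type*} [Group G] [Finite G] (T : Subgroup G) [T.Normal] (hT : IsSimpleGroup T) (hna : ¬ IsMulCommutative T)
    (hC : Subgroup.centralizer (T : Set G) = ⊥) {r : ℕ} [Fact r.Prime] (R : Sylow r G) (hR0 : (R : Subgroup G) ⊓ T ≠ ⊥) :
    (∃! M : Subgroup G, IsCoatom M ∧ (R : Subgroup G) ≤ M) ↔
      ((∃ M : Subgroup G, IsCoatom M ∧ ¬ r ∣ M.index) ∧
        ∀ M₁ M₂ : Subgroup G, IsCoatom M₁ → ¬ r ∣ M₁.index → IsCoatom M₂ → ¬ r ∣ M₂.index → ∃ g : G, M₂ = M₁.map (MulAut.conj g).toMonoidHom) := by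
  have hidx : ∀ M : Subgroup G, (R : Subgroup G) ≤ M → ¬ r ∣ M.index := by
    intro M hRM hdvd
    exact R.not_dvd_index (hdvd.trans (Subgroup.index_dvd_of_le hRM))
  constructor
  · rintro ⟨M, ⟨hMco, hRM⟩, hMuniq⟩
    refine ⟨⟨M, hMco, hidx M hRM⟩, ?_⟩
    intro M₁ M₂ h1 h1' h2 h2'
    obtain ⟨g₁, hg₁⟩ := exists_conj_le_of_not_dvd_index R M₁ h1'
    obtain ⟨g₂, hg₂⟩ := exists_conj_le_of_not_dvd_index R M₂ h2'
    have e1 : MulAut.conj g₁ • M₁ = M := hMuniq _ ⟨isCoatom_conj_smul M₁ g₁ h1, hg₁⟩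
    have e2 : MulAut.conj g₂ • M₂ = M := hMuniq _ ⟨isCoatom_conj_smul M₂ g₂ h2, hg₂⟩
    refine ⟨g₂⁻¹ * g₁, ?_⟩
    rw [map_conj_eq_smul, map_mul, mul_smul, e1, ← e2, ← mul_smul, ← map_mul]
    simp
  · rintro ⟨⟨M, hMco, hMidx⟩, hconj⟩
    -- the normalizer of R is proper
    have hNne : Subgroup.normalizer ((R : Subgroup G) : Set G) ≠ ⊤ := by
      intro htop
      have hn : (R : Subgroup G).Normal := Subgroup.normalizer_eq_top_iff.mp htop
      have hn2 : ((R : Subgroup G) ⊓ T).Normal := inferInstance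
      have hn' : (((R : Subgroup G) ⊓ T).subgroupOf T).Normal := inferInstance
      have := hT
      rcases hn'.eq_bot_or_eq_top with h | h
      · rw [Subgroup.subgroupOf_eq_bot] at h
        apply hR0
        have := h.eq_bot
        rwa [inf_assoc, inf_idem] at this
      · rw [Subgroup.subgroupOf_eq_top] at h
        have hTR : T ≤ (R : Subgroup G) := h.trans inf_le_left
        exact simple_nonabelian_not_pgroup hT hna (R.isPGroup'.to_le hTR)
    obtain ⟨M₀, hM₀co, hM₀⟩ := (eq_top_or_exists_le_coatom _).resolve_left hNne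
    have hRM₀ : (R : Subgroup G) ≤ M₀ := Subgroup.le_normalizer.trans hM₀
    refine ⟨M₀, ⟨hM₀co, hRM₀⟩, ?_⟩
    rintro M₁ ⟨hM₁co, hRM₁⟩
    obtain ⟨g, hg⟩ := hconj M₀ M₁ hM₀co (hidx M₀ hRM₀) hM₁co (hidx M₁ hRM₁)
    rw [map_conj_eq_smul] at hg
    -- R and g • R are both in M₁
    have hgR : ((g • R : Sylow r G) : Subgroup G) ≤ M₁ := by
      rw [hg, Sylow.coe_subgroup_smul]
      exact Subgroup.pointwise_smul_le_pointwise_smul_iff.mpr hRM₀
    obtain ⟨m, hm⟩ := MulAction.exists_smul_eq M₁ ((g • R).subtype hgR) (R.subtype hRM₁)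
    rw [Sylow.smul_subtype hgR m] at hm
    have hm' : (m : G) • (g • R) = R := by
      have := Sylow.subtype_injective hm
      exact this
    rw [← mul_smul, Sylow.smul_eq_iff_mem_normalizer] at hm'
    have hmg : (m : G) * g ∈ M₀ := hM₀ hm'
    have : M₁ = MulAut.conj ((m : G) * g) • M₀ := by
      rw [map_mul, mul_smul, ← hg, Subgroup.conj_smul_eq_self_of_mem m.2]
    rw [this, Subgroup.conj_smul_eq_self_of_mem hmg]

end Cfsg.Agent.S3858
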