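import Cfsg.Statements.S3859
-- import your own Cfsg.Agent.* helpers here

set_option autoImplicit false
open Cfsg

namespace Cfsg.Agent.S3859

variable {G : Type*} [Group G]

open scoped Pointwise in
lemma sylow_subgroupOf_normal [Finite G] {r : ℕ} [Fact r.Prime] (N : Subgroup G) [N.Normal]
    (R : Sylow r G) : ∃ Q : Sylow r N, (Q : Subgroup N) = (R : Subgroup G).subgroupOf N := by
  obtain ⟨Q₀⟩ : Nonempty (Sylow r N) := inferInstance
  obtain ⟨R', hR'⟩ := Q₀.exists_comap_subtype_eq
  obtain ⟨g, hg⟩ := MulAction.exists_smul_eq G R' R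
  refine ⟨(MulAut.conjNormal g : MulAut N) • Q₀, ?_⟩
  ext x
  rw [Sylow.pointwise_smul_def, Subgroup.mem_pointwise_smul_iff_inv_smul_mem,
    Subgroup.mem_subgroupOf, ← hg, ← hR']
  rw [Subgroup.mem_comap, Sylow.smul_def, Sylow.pointwise_smul_def,
    Subgroup.mem_pointwise_smul_iff_inv_smul_mem]
  simp [MulAut.conjNormal_apply, ← map_inv]

lemma simple_nonabelian_not_pgroup {T : Type*} [Group T] [Finite T] (hT : IsSimpleGroup T)
    (hna : ¬ IsMulCommutative T) {r : ℕ} [Fact r.Prime] (h : IsPGroup r T) : False := by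
  have := hT
  have : Group.IsNilpotent T := h.isNilpotent
  have hs : Group.IsSolvable T := inferInstance
  have := IsSimpleGroup.comm_iff_isSolvable.mpr hs
  exact hna ⟨⟨this⟩⟩

/-- Let G be a finite group with a normal non-abelian simple subgroup T whose centralizer is trivial (G almost simple with socle T), r a prime and R a Sylow r-subgroup of G meeting T nontrivially. If R lies in exactly one maximal subgroup of G, then G/T is an r-group. -/
theorem result {G : Type*} [Group G] [Finite G] (T : Subgroup G) [T.Normal] (hT : IsSimpleGroup T) (hna : ¬ IsMulCommutative T)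
    (hC : Subgroup.centralizer (T : Set G) = ⊥) {r : ℕ} [Fact r.Prime] (R : Sylow r G) (hR0 : (R : Subgroup G) ⊓ T ≠ ⊥)
    (huniq : ∃! M : Subgroup G, IsCoatom M ∧ (R : Subgroup G) ≤ M) : IsPGroup r (G ⧸ T) := by
  obtain ⟨M, ⟨hMco, hRM⟩, hMuniq⟩ := huniq
  obtain ⟨Q, hQ⟩ := sylow_subgroupOf_normal T R
  have hD : (Q : Subgroup T).map T.subtype = (R : Subgroup G) ⊓ T := by
    rw [hQ, Subgroup.subgroupOf_map_subtype]
  have hfrat : Subgroup.normalizer (((R : Subgroup G) ⊓ T : Subgroup G) : Set G) ⊔ T = ⊤ := by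
    rw [← hD]; exact Sylow.normalizer_sup_eq_top Q
  have hRN : (R : Subgroup G) ≤ Subgroup.normalizer (((R : Subgroup G) ⊓ T : Subgroup G) : Set G) := by
    intro a ha
    rw [Subgroup.mem_normalizer_iff]
    intro h
    have hTn : T.Normal := inferInstance
    constructor
    · rintro ⟨h1, h2⟩
      exact ⟨(R : Subgroup G).mul_mem ((R : Subgroup G).mul_mem ha h1) ((R : Subgroup G).inv_mem ha),
        hTn.conj_mem h h2 a⟩
    · rintro ⟨h1, h2⟩
      refine ⟨?_, ?_⟩
      · have := (R : Subgroup G).mul_mem ((R : Subgroup G).mul_mem ((R : Subgroup G).inv_mem ha) h1) ha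
        have h3 : a⁻¹ * (a * h * a⁻¹) * a = h := by group
        rw [h3] at this
        exact this
      · have := hTn.conj_mem _ h2 a⁻¹
        simpa [mul_assoc] using this
  have hNne : Subgroup.normalizer (((R : Subgroup G) ⊓ T : Subgroup G) : Set G) ≠ ⊤ := by
    intro htop
    have hn : ((R : Subgroup G) ⊓ T).Normal := Subgroup.normalizer_eq_top_iff.mp htop
    have hn' : (((R : Subgroup G) ⊓ T).subgroupOf T).Normal := inferInstance
    have := hT
    rcases hn'.eq_bot_or_eq_top with h | h
    · rw [Subgroup.subgroupOf_eq_bot] at h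
      apply hR0
      have := h.eq_bot
      rwa [inf_assoc, inf_idem] at this
    · rw [Subgroup.subgroupOf_eq_top] at h
      have hTR : T ≤ (R : Subgroup G) := h.trans inf_le_left
      exact simple_nonabelian_not_pgroup hT hna (R.isPGroup'.to_le hTR)
  obtain ⟨M', hM'co, hM'⟩ := (eq_top_or_exists_le_coatom _).resolve_left hNne
  have hMM : M' = M := hMuniq M' ⟨hM'co, hRN.trans hM'⟩
  subst hMM
  have hTM : ¬ T ≤ M' := fun h => hMco.1 (by rw [eq_top_iff, ← hfrat]; exact sup_le hM' h)
  have hRT : (R : Subgroup G) ⊔ T = ⊤ := by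
    by_contra hne
    obtain ⟨M'', hco, hle⟩ := (eq_top_or_exists_le_coatom _).resolve_left hne
    have hMM : M'' = M' := hMuniq M'' ⟨hco, le_sup_left.trans hle⟩
    subst hMM
    exact hTM (le_sup_right.trans hle)
  have hsurj : Function.Surjective ((QuotientGroup.mk' T).comp (R : Subgroup G).subtype) := by
    intro x
    obtain ⟨g, rfl⟩ := QuotientGroup.mk_surjective x
    have hg : g ∈ (((R : Subgroup G) ⊔ T : Subgroup G) : Set G) := by rw [hRT]; trivial
    rw [Subgroup.mul_normal] at hg
    obtain ⟨a, ha, t, ht, rfl⟩ := hg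
    refine ⟨⟨a, ha⟩, ?_⟩
    simp only [MonoidHom.coe_comp, Function.comp_apply, Subgroup.subtype_apply,
      QuotientGroup.mk'_apply]
    rw [QuotientGroup.eq]
    simpa using ht
  exact R.isPGroup'.of_surjective _ hsurj

end Cfsg.Agent.S3859
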