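import Mathlib
import Cfsg.Statements.S3863
-- import your own Cfsg.Agent.* helpers here

set_option autoImplicit false
open Cfsg

namespace Cfsg.Agent.S3863

variable {G : Type*} [Group G]

/-- the extended centralizer of `x` -/
def extCentralizer (x : G) : Subgroup G where
  carrier := {g | g * x * g⁻¹ = x ∨ g * x * g⁻¹ = x⁻¹}
  one_mem' := by simp
  mul_mem' := by
    intro a b ha hb
    have key : a * b * x * (a * b)⁻¹ = a * (b * x * b⁻¹) * a⁻¹ := by group
    simp only [Set.mem_ofPred_eq] at ha hb ⊢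
    rw [key]
    rcases hb with hb | hb
    · rw [hb]; exact ha
    · rw [hb]
      have : a * x⁻¹ * a⁻¹ = (a * x * a⁻¹)⁻¹ := by group
      rw [this]
      rcases ha with ha | ha
      · right; rw [ha]
      · left; rw [ha, inv_inv]
  inv_mem' := by
    intro a ha
    simp only [Set.mem_ofPred_eq, inv_inv] at ha ⊢
    rcases ha with ha | ha
    · left
      calc a⁻¹ * x * a = a⁻¹ * (a * x * a⁻¹) * a := by rw [ha]
        _ = x := by group
    · right
      have h1 : x = a⁻¹ * x⁻¹ * a := by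
        calc x = a⁻¹ * (a * x * a⁻¹) * a := by group
          _ = a⁻¹ * x⁻¹ * a := by rw [ha]
      calc a⁻¹ * x * a = (a⁻¹ * x⁻¹ * a)⁻¹ := by group
        _ = x⁻¹ := by rw [← h1]

lemma mem_extCentralizer {x g : G} :
    g ∈ extCentralizer x ↔ g * x * g⁻¹ = x ∨ g * x * g⁻¹ = x⁻¹ := Iff.rfl

lemma mem_centralizer_iff_conj {x g : G} :
    g ∈ Subgroup.centralizer ({x} : Set G) ↔ g * x * g⁻¹ = x := by
  rw [Subgroup.mem_centralizer_singleton_iff]
  constructor
  · intro h
    rw [h]; group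
  · intro h
    calc g * x = g * x * g⁻¹ * g := by group
      _ = x * g := by rw [h]

lemma centralizer_le_ext (x : G) : Subgroup.centralizer ({x} : Set G) ≤ extCentralizer x := by
  intro g hg
  exact Or.inl (mem_centralizer_iff_conj.mp hg)

lemma exists_two_elt [Finite G] (x : G) (hx : IsConj x x⁻¹) :
    ∃ t : G, (∃ j : ℕ, orderOf t = 2 ^ j) ∧ t * x * t⁻¹ = x⁻¹ := by
  obtain ⟨g, hg⟩ := isConj_iff.mp hx
  have hg0 : orderOf g ≠ 0 := (orderOf_pos g).ne'
  obtain ⟨k, m, hm, hkm⟩ := Nat.exists_eq_two_pow_mul_odd hg0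
  obtain ⟨l, rfl⟩ := hm
  have hs : SemiconjBy g x x⁻¹ := by
    unfold SemiconjBy
    calc g * x = g * x * g⁻¹ * g := by group
      _ = x⁻¹ * g := by rw [hg]
  have hs' : SemiconjBy g x⁻¹ x := by
    have := hs.inv_right
    rwa [inv_inv] at this
  have hc : Commute (g * g) x := hs'.mul_left hs
  have hc2 : SemiconjBy ((g * g) ^ l) x⁻¹ x⁻¹ := (hc.pow_left l).inv_right
  have hfin : SemiconjBy ((g * g) ^ l * g) x x⁻¹ := hc2.mul_left hs
  have hpow : (g * g) ^ l * g = g ^ (2 * l + 1) := by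
    rw [← pow_two, ← pow_mul, pow_succ]
  refine ⟨g ^ (2 * l + 1), ⟨k, ?_⟩, ?_⟩
  · rw [orderOf_pow_of_dvd (by omega) ⟨2 ^ k, by rw [hkm]; ring⟩, hkm]
    exact Nat.mul_div_cancel _ (by omega)
  · rw [← hpow]
    have := hfin.eq
    calc (g * g) ^ l * g * x * ((g * g) ^ l * g)⁻¹ = x⁻¹ * ((g * g) ^ l * g) * ((g * g) ^ l * g)⁻¹ := by
          rw [this]
      _ = x⁻¹ := by group

lemma relIndex_ext [Finite G] (x t : G) (ht : t * x * t⁻¹ = x⁻¹) (hne : x ≠ x⁻¹) :
    (Subgroup.centralizer ({x} : Set G)).relIndex (extCentralizer x) = 2 := by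
  rw [Subgroup.relIndex_eq_two_iff_exists_notMem_and]
  refine ⟨t, Or.inr ht, ?_, ?_⟩
  · intro h
    rw [mem_centralizer_iff_conj] at h
    exact hne (h.symm.trans ht)
  · intro b hb
    rcases hb with hb | hb
    · right; exact mem_centralizer_iff_conj.mpr hb
    · left
      rw [mem_centralizer_iff_conj]
      calc b * t * x * (b * t)⁻¹ = b * (t * x * t⁻¹) * b⁻¹ := by group
        _ = (b * x * b⁻¹)⁻¹ := by rw [ht]; group
        _ = x := by rw [hb, inv_inv]

/-- Let x be an element of the finite group G that is conjugate to its inverse. Then some 2-element conjugates x to its inverse; if the conjugacy class of x has odd size then x ^ 2 = 1; and x lies in, and is conjugate to its inverse inside, every normal subgroup of odd index. -/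
theorem result {G : Type*} [Group G] [Finite G] (x : G) (hx : IsConj x x⁻¹) : (∃ t : G, (∃ j : ℕ, orderOf t = 2 ^ j) ∧ t * x * t⁻¹ = x⁻¹) ∧ (Odd (Subgroup.centralizer ({x} : Set G)).index → x ^ 2 = 1) ∧ ∀ (N : Subgroup G) [N.Normal], Odd N.index → ∃ hxN : x ∈ N, IsConj (⟨x, hxN⟩ : N) (⟨x, hxN⟩ : N)⁻¹ := by
  obtain ⟨t, ⟨j, hj⟩, ht⟩ := exists_two_elt x hx
  refine ⟨⟨t, ⟨j, hj⟩, ht⟩, ?_, ?_⟩
  · intro hodd
    by_contra hne
    have hne' : x ≠ x⁻¹ := by
      intro h
      apply hne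
      rw [pow_two]
      nth_rewrite 2 [h]
      simp
    have h2 := relIndex_ext x t ht hne'
    have hdvd := Subgroup.relIndex_dvd_index_of_le (centralizer_le_ext x)
    rw [h2] at hdvd
    exact (Nat.not_even_iff_odd.mpr hodd) (even_iff_two_dvd.mpr hdvd)
  · intro N _ hodd
    have hcop : ∀ y : G ⧸ N, y ^ (2 ^ j) = 1 → y = 1 := by
      intro y hy
      have h1 : orderOf y ∣ 2 ^ j := orderOf_dvd_of_pow_eq_one hy
      have h2 : orderOf y ∣ N.index := by
        rw [Subgroup.index]; exact orderOf_dvd_natCard y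
      have h3 : Nat.Coprime (2 ^ j) N.index := by
        apply Nat.Coprime.pow_left
        exact (Nat.Prime.coprime_iff_not_dvd Nat.prime_two).mpr
          (fun h => (Nat.not_even_iff_odd.mpr hodd) (even_iff_two_dvd.mpr h))
      have : orderOf y = 1 := Nat.eq_one_of_dvd_coprimes h3 h1 h2
      exact orderOf_eq_one_iff.mp this
    have htN : t ∈ N := by
      rw [← QuotientGroup.eq_one_iff]
      apply hcop
      rw [← QuotientGroup.mk_pow, ← hj, pow_orderOf_eq_one]
      rfl
    have hNn : N.Normal := inferInstance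
    have hx2 : x ^ 2 ∈ N := by
      have h1 : x⁻¹ * x⁻¹ = t * (x * t⁻¹ * x⁻¹) := by
        calc x⁻¹ * x⁻¹ = t * x * t⁻¹ * x⁻¹ := by rw [ht]
          _ = t * (x * t⁻¹ * x⁻¹) := by group
      have h2 : x⁻¹ * x⁻¹ ∈ N := by
        rw [h1]
        exact N.mul_mem htN (hNn.conj_mem _ (N.inv_mem htN) x)
      have : x ^ 2 = (x⁻¹ * x⁻¹)⁻¹ := by group
      rw [this]
      exact N.inv_mem h2
    have hxN : x ∈ N := by
      rw [← QuotientGroup.eq_one_iff]
      have h2 : ((x : G ⧸ N)) ^ 2 = 1 := by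
        rw [← QuotientGroup.mk_pow]
        exact (QuotientGroup.eq_one_iff _).mpr hx2
      have h1 : orderOf (x : G ⧸ N) ∣ 2 := orderOf_dvd_of_pow_eq_one h2
      have h3 : orderOf (x : G ⧸ N) ∣ N.index := by
        rw [Subgroup.index]; exact orderOf_dvd_natCard _
      have h4 : Nat.Coprime 2 N.index := (Nat.Prime.coprime_iff_not_dvd Nat.prime_two).mpr
          (fun h => (Nat.not_even_iff_odd.mpr hodd) (even_iff_two_dvd.mpr h))
      have : orderOf (x : G ⧸ N) = 1 := Nat.eq_one_of_dvd_coprimes h4 h1 h3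
      exact orderOf_eq_one_iff.mp this
    refine ⟨hxN, ?_⟩
    rw [isConj_iff]
    refine ⟨⟨t, htN⟩, ?_⟩
    apply Subtype.ext
    simpa using ht

end Cfsg.Agent.S3863
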