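import Mathlib
import Cfsg.Statements.S3861
import Cfsg.Agent.S3863
import Cfsg.Agent.Lib.Helper64.MinNormal
import Cfsg.Agent.Lib.Helper54.Coprime
import Cfsg.Agent.Lib.Helper96.BaerSuzuki

set_option autoImplicit false
open Cfsg

namespace Cfsg.Agent.S3861

open Cfsg.Agent.Lib.Helper64
open scoped Pointwise

universe u

/-- an element of odd order in a `2`-group is trivial -/
lemma eq_one_of_odd_of_mem {G : Type*} [Group G] {N : Subgroup G} (hN : IsPGroup 2 N) {z : G}
    (hz : z ∈ N) (hodd : Odd (orderOf z)) : z = 1 := by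
  obtain ⟨k, hk⟩ := hN ⟨z, hz⟩
  have h1 : z ^ 2 ^ k = 1 := by
    have := congrArg Subtype.val hk
    simpa using this
  have h2 : orderOf z ∣ 2 ^ k := orderOf_dvd_of_pow_eq_one h1
  have h3 : Nat.Coprime (orderOf z) (2 ^ k) := Nat.Coprime.pow_right k hodd.coprime_two_right
  exact orderOf_eq_one_iff.mp (Nat.Coprime.eq_one_of_dvd h3 h2)

/-- Lifting real elements of odd order modulo a normal `2`-subgroup. -/
lemma lift_real {G : Type*} [Group G] [Finite G] (N : Subgroup G) [hNn : N.Normal] (hN : IsPGroup 2 N)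
    (y g : G) (hy : Odd (orderOf y)) (hg : g * y * g⁻¹ * y ∈ N) : IsConj y y⁻¹ := by
  haveI : Fact (Nat.Prime 2) := ⟨Nat.prime_two⟩
  set A := Subgroup.zpowers y with hA
  set B := MulAut.conj g • A with hB
  set M := N ⊔ A with hM
  have hcop : (Nat.card N).Coprime (Nat.card A) := by
    obtain ⟨k, hk⟩ := IsPGroup.iff_card.mp hN
    rw [hk, hA, Nat.card_zpowers]
    exact Nat.Coprime.pow_left k hy.coprime_two_left
  have hdisj : N ⊓ A = ⊥ := (Subgroup.disjoint_of_coprime_natCard hcop).eq_bot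
  have hAN : A ≤ Subgroup.normalizer (N : Set G) := by
    rw [Subgroup.normalizer_eq_top]; exact le_top
  have hcard : Nat.card N * Nat.card A = Nat.card M :=
    (Cfsg.Agent.Lib.Helper54.card_sup_of_le_normalizer hAN hdisj).symm
  have hgyM : g * y * g⁻¹ ∈ M := by
    have h1 : g * y * g⁻¹ = (g * y * g⁻¹ * y) * y⁻¹ := by group
    rw [h1]
    exact M.mul_mem (Subgroup.mem_sup_left hg)
      (Subgroup.mem_sup_right (A.inv_mem (Subgroup.mem_zpowers y)))
  have hBM : B ≤ M := by
    intro b hb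
    rw [hB, Cfsg.Agent.Lib.Helper54.mem_conj_smul_iff, hA, Subgroup.mem_zpowers_iff] at hb
    obtain ⟨k, hk⟩ := hb
    have h1 : b = (g * y * g⁻¹) ^ k := by
      rw [conj_zpow, hk]; group
    rw [h1]
    exact M.zpow_mem hgyM k
  have hsolv : Group.IsSolvable A ∨ Group.IsSolvable N := by
    right
    haveI := hN.isNilpotent
    exact IsNilpotent.to_isSolvable
  obtain ⟨l, hlN, hl⟩ := Cfsg.Agent.Lib.Helper54.sz_conj_rel M N A B le_sup_left
    (by rw [Subgroup.normalizer_eq_top]; exact le_top) le_sup_right hBM hcard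
    (Cfsg.Agent.Lib.Helper54.card_conj_smul g A) hcop hsolv
  -- l y l⁻¹ ∈ B
  have h1 : l * y * l⁻¹ ∈ B := by
    rw [← hl]
    exact Cfsg.Agent.Lib.Helper54.conj_mem_conj_smul (Subgroup.mem_zpowers y)
  rw [hB, Cfsg.Agent.Lib.Helper54.mem_conj_smul_iff, hA, Subgroup.mem_zpowers_iff] at h1
  obtain ⟨k, hk⟩ := h1
  -- modulo N
  have hq1 : (QuotientGroup.mk' N (g * y * g⁻¹ * y)) = 1 := (QuotientGroup.eq_one_iff _).mpr hg
  have hq2 : (QuotientGroup.mk' N l) = 1 := (QuotientGroup.eq_one_iff _).mpr hlN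
  have hq3 : QuotientGroup.mk' N (y ^ (k + 1)) = 1 := by
    rw [zpow_add_one, hk]
    simp only [map_mul, map_inv] at hq1 ⊢
    rw [hq2]
    have h2 : (QuotientGroup.mk' N g) * (QuotientGroup.mk' N y) * (QuotientGroup.mk' N g)⁻¹ =
        (QuotientGroup.mk' N y)⁻¹ := eq_inv_of_mul_eq_one_left hq1
    have h3 : (QuotientGroup.mk' N y) = (QuotientGroup.mk' N g)⁻¹ * (QuotientGroup.mk' N y)⁻¹ *
        (QuotientGroup.mk' N g) := by
      rw [← h2]; group
    calc (QuotientGroup.mk' N g)⁻¹ * (1 * (QuotientGroup.mk' N y) * 1⁻¹) * (QuotientGroup.mk' N g) *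
          (QuotientGroup.mk' N y)
        = ((QuotientGroup.mk' N g)⁻¹ * (QuotientGroup.mk' N y)⁻¹ * (QuotientGroup.mk' N g))⁻¹ *
          (QuotientGroup.mk' N y) := by group
      _ = 1 := by rw [← h3]; group
  have h4 : y ^ (k + 1) ∈ N ⊓ A :=
    ⟨(QuotientGroup.eq_one_iff _).mp hq3, Subgroup.zpow_mem _ (Subgroup.mem_zpowers y) _⟩
  rw [hdisj, Subgroup.mem_bot] at h4
  have h5 : y ^ k = y⁻¹ := by
    rw [zpow_add_one] at h4
    exact eq_inv_of_mul_eq_one_left h4
  rw [isConj_iff]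
  refine ⟨g⁻¹ * l, ?_⟩
  calc g⁻¹ * l * y * (g⁻¹ * l)⁻¹ = g⁻¹ * (l * y * l⁻¹) * g := by group
    _ = y⁻¹ := by rw [← h5, ← hk]

/-- Two involutions in a group without real elements of odd order generate a `2`-group. -/
lemma isPGroup_closure_pair {G : Type*} [Group G] [Finite G]
    (h : ∀ x : G, x ≠ 1 → Odd (orderOf x) → ¬ IsConj x x⁻¹) (a b : G) (ha : orderOf a = 2)
    (hb : orderOf b = 2) : IsPGroup 2 (Subgroup.closure ({a, b} : Set G)) := by
  haveI : Fact (Nat.Prime 2) := ⟨Nat.prime_two⟩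
  have ha2 : a * a = 1 := by rw [← pow_two, ← ha]; exact pow_orderOf_eq_one a
  have hb2 : b * b = 1 := by rw [← pow_two, ← hb]; exact pow_orderOf_eq_one b
  have hai : a⁻¹ = a := inv_eq_of_mul_eq_one_left ha2
  have hbi : b⁻¹ = b := inv_eq_of_mul_eq_one_left hb2
  set w := a * b with hw
  have hconj : a * w * a⁻¹ = w⁻¹ := by
    rw [hw, mul_inv_rev, hai, hbi]
    calc a * (a * b) * a = (a * a) * b * a := by group
      _ = b * a := by rw [ha2, one_mul]
  have hw0 : orderOf w ≠ 0 := (orderOf_pos w).ne'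
  obtain ⟨k, m, hm, hkm⟩ := Nat.exists_eq_two_pow_mul_odd hw0
  have hv : orderOf (w ^ 2 ^ k) = m := by
    rw [orderOf_pow_of_dvd (by positivity) ⟨m, hkm⟩, hkm]
    exact Nat.mul_div_cancel_left _ (by positivity)
  have hvconj : IsConj (w ^ 2 ^ k) (w ^ 2 ^ k)⁻¹ := by
    rw [isConj_iff]
    refine ⟨a, ?_⟩
    rw [← conj_pow, hconj, inv_pow]
  have hv1 : w ^ 2 ^ k = 1 := by
    by_contra hne
    exact h _ hne (hv ▸ hm) hvconj
  have hm1 : m = 1 := by rw [← hv, hv1, orderOf_one]
  have hwo : orderOf w = 2 ^ k := by rw [hkm, hm1, mul_one]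
  have hZw : IsPGroup 2 (Subgroup.zpowers w) := by
    apply IsPGroup.of_card (n := k)
    rw [Nat.card_zpowers, hwo]
  have hZa : IsPGroup 2 (Subgroup.zpowers a) := by
    apply IsPGroup.of_card (n := 1)
    rw [Nat.card_zpowers, ha, pow_one]
  have hnorm : Subgroup.zpowers a ≤ Subgroup.normalizer (Subgroup.zpowers w : Set G) := by
    rw [Subgroup.zpowers_le, Subgroup.mem_normalizer_iff]
    intro z
    constructor
    · intro hz
      obtain ⟨i, rfl⟩ := Subgroup.mem_zpowers_iff.mp hz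
      rw [← conj_zpow, hconj]
      exact Subgroup.zpow_mem _ (Subgroup.inv_mem _ (Subgroup.mem_zpowers w)) _
    · intro hz
      obtain ⟨i, hi⟩ := Subgroup.mem_zpowers_iff.mp hz
      have h1 : z = a * (a * z * a⁻¹) * a⁻¹ := by
        rw [hai]
        calc z = (a * a) * z * (a * a) := by rw [ha2]; group
          _ = a * (a * z * a) * a := by group
      rw [h1, ← hi, ← conj_zpow, hconj]
      exact Subgroup.zpow_mem _ (Subgroup.inv_mem _ (Subgroup.mem_zpowers w)) _
  have hsup := IsPGroup.to_sup_of_normal_right' hZa hZw hnorm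
  refine hsup.to_le ?_
  rw [Subgroup.closure_le]
  intro z hz
  rcases hz with rfl | rfl
  · exact Subgroup.mem_sup_left (Subgroup.mem_zpowers _)
  · have h1 : z = a⁻¹ * w := by rw [hw]; group
    rw [h1]
    exact Subgroup.mul_mem _ (Subgroup.mem_sup_left (Subgroup.inv_mem _ (Subgroup.mem_zpowers _)))
      (Subgroup.mem_sup_right (Subgroup.mem_zpowers _))

lemma key : ∀ n : ℕ, ∀ (H : Type u) [Group H] [Finite H], Nat.card H = n →
    (∀ x : H, x ≠ 1 → Odd (orderOf x) → ¬ IsConj x x⁻¹) →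
    ∀ P : Sylow 2 H, (P : Subgroup H).Normal := by
  intro n
  induction n using Nat.strong_induction_on with
  | _ n ih =>
  intro H _ _ hcard h P
  haveI : Fact (Nat.Prime 2) := ⟨Nat.prime_two⟩
  by_cases hinv : ∃ t : H, orderOf t = 2
  · obtain ⟨t₀, ht₀⟩ := hinv
    set K : Set H := {t : H | orderOf t = 2} with hK
    have hKconj : ∀ a ∈ Group.conjugatesOfSet K, orderOf a = 2 := by
      intro a ha
      obtain ⟨x, hx, hxa⟩ := Group.mem_conjugatesOfSet_iff.mp ha
      obtain ⟨c, rfl⟩ := isConj_iff.mp hxa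
      have : orderOf (c * x * c⁻¹) = orderOf x :=
        orderOf_injective (MulAut.conj c).toMonoidHom (MulAut.conj c).injective x
      rw [this]; exact hx
    set Ω := Subgroup.normalClosure K with hΩ
    have hΩn : Ω.Normal := Subgroup.normalClosure_normal
    have hΩ2 : IsPGroup 2 Ω := by
      apply Cfsg.Agent.Lib.Helper96.isPGroup_closure_of_pairwise
      · intro k hk g
        exact Group.conj_mem_conjugatesOfSet hk
      · intro a ha b hb
        exact isPGroup_closure_pair h a b (hKconj a ha) (hKconj b hb)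
    have ht₀Ω : t₀ ∈ Ω := Subgroup.subset_normalClosure ht₀
    have hΩ0 : Ω ≠ ⊥ := by
      intro h0
      rw [h0, Subgroup.mem_bot] at ht₀Ω
      rw [ht₀Ω, orderOf_one] at ht₀
      exact absurd ht₀ (by norm_num)
    have hlt : Nat.card (H ⧸ Ω) < n := by
      rw [← hcard]
      have h3 := Ω.card_mul_index
      have h4 : 1 < Nat.card Ω := by
        rw [Nat.one_lt_iff_ne_zero_and_ne_one]
        exact ⟨Nat.card_pos.ne', fun h => hΩ0 (Subgroup.card_eq_one.mp h)⟩
      have h5 : Nat.card (H ⧸ Ω) = Ω.index := rfl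
      rw [h5, ← h3]
      have hpos : 0 < Ω.index := Nat.pos_of_ne_zero (Subgroup.index_ne_zero_of_finite)
      nlinarith
    have hquot : ∀ x : H ⧸ Ω, x ≠ 1 → Odd (orderOf x) → ¬ IsConj x x⁻¹ := by
      intro xbar hx1 hxodd hxconj
      obtain ⟨gbar, hgbar⟩ := isConj_iff.mp hxconj
      obtain ⟨x₀, rfl⟩ := QuotientGroup.mk'_surjective Ω xbar
      obtain ⟨g, rfl⟩ := QuotientGroup.mk'_surjective Ω gbar
      have hx0 : orderOf x₀ ≠ 0 := (orderOf_pos x₀).ne'
      obtain ⟨k, m, hm, hkm⟩ := Nat.exists_eq_two_pow_mul_odd hx0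
      have hyo : orderOf (x₀ ^ 2 ^ k) = m := by
        rw [orderOf_pow_of_dvd (by positivity) ⟨m, hkm⟩, hkm]
        exact Nat.mul_div_cancel_left _ (by positivity)
      have hmem : g * x₀ ^ 2 ^ k * g⁻¹ * x₀ ^ 2 ^ k ∈ Ω := by
        rw [← QuotientGroup.eq_one_iff, ← QuotientGroup.mk'_apply]
        simp only [map_mul, map_inv, map_pow]
        rw [← conj_pow, hgbar, inv_pow, inv_mul_cancel]
      have hreal := lift_real Ω hΩ2 (x₀ ^ 2 ^ k) g (hyo ▸ hm) hmem
      have hy1 : x₀ ^ 2 ^ k = 1 := by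
        by_contra hne
        exact h _ hne (hyo ▸ hm) hreal
      have h6 : (QuotientGroup.mk' Ω x₀) ^ 2 ^ k = 1 := by rw [← map_pow, hy1, map_one]
      have h7 : orderOf (QuotientGroup.mk' Ω x₀) ∣ 2 ^ k := orderOf_dvd_of_pow_eq_one h6
      have h8 : Nat.Coprime (orderOf (QuotientGroup.mk' Ω x₀)) (2 ^ k) :=
        Nat.Coprime.pow_right k hxodd.coprime_two_right
      exact hx1 (orderOf_eq_one_iff.mp (Nat.Coprime.eq_one_of_dvd h8 h7))
    have hπ : Function.Surjective (QuotientGroup.mk' Ω) := QuotientGroup.mk'_surjective Ω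
    have hPbar : ((P.mapSurjective hπ : Sylow 2 (H ⧸ Ω)) : Subgroup (H ⧸ Ω)).Normal :=
      ih _ hlt (H ⧸ Ω) rfl hquot _
    have h2 := hPbar.comap (QuotientGroup.mk' Ω)
    rw [Sylow.coe_mapSurjective, Subgroup.comap_map_eq, QuotientGroup.ker_mk'] at h2
    have hle : Ω ≤ P := hΩ2.le_sylow_of_normal P
    rwa [sup_eq_left.mpr hle] at h2
  · -- no involutions: the Sylow 2-subgroup is trivial
    have h2 : ¬ 2 ∣ Nat.card H := by
      intro hd
      obtain ⟨z, hz⟩ := exists_prime_orderOf_dvd_card' (G := H) 2 hd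
      exact hinv ⟨z, hz⟩
    have hP : (P : Subgroup H) = ⊥ := by
      rcases P.isPGroup'.card_eq_or_dvd with h1 | h1
      · exact Subgroup.card_eq_one.mp h1
      · exact absurd (h1.trans (Subgroup.card_subgroup_dvd_card _)) h2
    rw [hP]; infer_instance

/-- A finite group G has no non-identity element of odd order that is conjugate to its inverse if and only if the Sylow 2-subgroups of G are normal. -/
theorem result {G : Type*} [Group G] [Finite G] (P : Sylow 2 G) : (∀ x : G, x ≠ 1 → Odd (orderOf x) → ¬ IsConj x x⁻¹) ↔ (P : Subgroup G).Normal := by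
  haveI : Fact (Nat.Prime 2) := ⟨Nat.prime_two⟩
  constructor
  · intro h
    exact key (Nat.card G) G rfl h P
  · intro hP x hx1 hxodd hxconj
    obtain ⟨t, ⟨j, hj⟩, ht⟩ := Cfsg.Agent.S3863.exists_two_elt x hxconj
    have hZt : IsPGroup 2 (Subgroup.zpowers t) := by
      apply IsPGroup.of_card (n := j)
      rw [Nat.card_zpowers, hj]
    have htP : t ∈ (P : Subgroup G) := le_normal_sylow P hP hZt (Subgroup.mem_zpowers t)
    have h1 : x * t * x⁻¹ * t⁻¹ ∈ (P : Subgroup G) :=
      (P : Subgroup G).mul_mem (hP.conj_mem t htP x) ((P : Subgroup G).inv_mem htP)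
    have h2 : x * t * x⁻¹ * t⁻¹ = x * x := by
      calc x * t * x⁻¹ * t⁻¹ = x * (t * x * t⁻¹)⁻¹ := by group
        _ = x * x := by rw [ht, inv_inv]
    rw [h2] at h1
    have h3 : Odd (orderOf (x * x)) := by
      have : orderOf (x * x) ∣ orderOf x := by
        rw [← pow_two]; exact orderOf_pow_dvd 2
      exact Odd.of_dvd_nat hxodd this
    have h4 := eq_one_of_odd_of_mem P.isPGroup' h1 h3
    have h5 : orderOf x ∣ 2 := by
      apply orderOf_dvd_of_pow_eq_one
      rw [pow_two]; exact h4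
    have h6 : orderOf x = 1 := Nat.Coprime.eq_one_of_dvd hxodd.coprime_two_right h5
    exact hx1 (orderOf_eq_one_iff.mp h6)

end Cfsg.Agent.S3861
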