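import Cfsg.Statements.S3862
import Cfsg.Agent.Lib.Helper2.FusionComplement
import Cfsg.Agent.Lib.Helper55.TransferEval

set_option autoImplicit false
open Cfsg

namespace Cfsg.Agent.S3862

variable {G : Type*} [Group G]

/-- the "commutator" `u⁻¹ u^g`. -/
def cm (g u : G) : G := u⁻¹ * (g⁻¹ * u * g)

/-- coprime step: if `[u,g]` is a `2`-element commuting with `g` (of odd order) then `u`
commutes with `g`. -/
theorem comm_of_cm_comm (g u : G) (hc : cm g u * g = g * cm g u) (n : ℕ) (hn : g ^ n = 1)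
    (hodd : Nat.Coprime 2 n) (h2 : ∃ k, orderOf (cm g u) ∣ 2 ^ k) : u * g = g * u := by
  have hcomm : Commute (cm g u) g := hc
  have key : ∀ k : ℕ, (g⁻¹) ^ k * u * g ^ k = u * (cm g u) ^ k := by
    intro k
    induction k with
    | zero => simp
    | succ k ih =>
      have h1 : (g⁻¹) ^ (k + 1) * u * g ^ (k + 1) = g⁻¹ * ((g⁻¹) ^ k * u * g ^ k) * g := by
        rw [pow_succ' g⁻¹ k, pow_succ g k]; group
      rw [h1, ih]
      have h3 : Commute ((cm g u) ^ k) g := hcomm.pow_left k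
      have h4 : g⁻¹ * (u * cm g u ^ k) * g = (g⁻¹ * u * g) * (g⁻¹ * (cm g u ^ k * g)) := by group
      rw [h4, h3.eq]
      have h5 : g⁻¹ * u * g = u * cm g u := by unfold cm; group
      rw [h5, pow_succ']
      group
  have h6 := key n
  rw [inv_pow, hn] at h6
  simp only [inv_one, one_mul, mul_one] at h6
  have h7 : cm g u ^ n = 1 := by
    have : u * 1 = u * cm g u ^ n := by rw [mul_one]; exact h6
    exact (mul_left_cancel this).symm
  have h8 : cm g u = 1 := Cfsg.Agent.Lib.Helper55.eq_one_of_pow_eq_one_of_coprime h2 hodd h7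
  unfold cm at h8
  have h9 : g⁻¹ * u * g = u := by
    have : u * (u⁻¹ * (g⁻¹ * u * g)) = u * 1 := by rw [h8]
    simpa using this
  calc u * g = g * (g⁻¹ * u * g) := by group
    _ = g * u := by rw [h9]


section main
variable [Finite G]

/-- the subgroup generated by the squares of `Q` -/
def sqs (Q : Subgroup G) : Subgroup G := Subgroup.closure {y | ∃ u ∈ Q, y = u * u}

omit [Finite G] in
theorem sqs_le (Q : Subgroup G) : sqs Q ≤ Q := by
  unfold sqs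
  rw [Subgroup.closure_le]
  rintro y ⟨u, hu, rfl⟩
  exact Q.mul_mem hu hu

omit [Finite G] in
theorem sqs_conj (Q : Subgroup G) (a : G) (ha : ∀ y ∈ Q, a⁻¹ * y * a ∈ Q) :
    ∀ t ∈ sqs Q, a⁻¹ * t * a ∈ sqs Q := by
  intro t ht
  have hle : sqs Q ≤ (sqs Q).comap (MulAut.conj a⁻¹).toMonoidHom := by
    unfold sqs
    rw [Subgroup.closure_le]
    rintro y ⟨u, hu, rfl⟩
    show (MulAut.conj a⁻¹) (u * u) ∈ Subgroup.closure {y | ∃ u ∈ Q, y = u * u}
    rw [MulAut.conj_apply, inv_inv]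
    have : a⁻¹ * (u * u) * a = (a⁻¹ * u * a) * (a⁻¹ * u * a) := by group
    rw [this]
    exact Subgroup.subset_closure ⟨_, ha u hu, rfl⟩
  have := hle ht
  simpa [MulAut.conj_apply] using this

omit [Finite G] in
theorem comm_mem_sqs (Q : Subgroup G) (u v : G) (hu : u ∈ Q) (hv : v ∈ Q) :
    u⁻¹ * (v⁻¹ * u * v) ∈ sqs Q := by
  have : u⁻¹ * (v⁻¹ * u * v) = (u⁻¹ * u⁻¹) * ((u * v⁻¹) * (u * v⁻¹)) * (v * v) := by group
  rw [this]
  refine (sqs Q).mul_mem ((sqs Q).mul_mem ?_ ?_) ?_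
  all_goals apply Subgroup.subset_closure
  · exact ⟨u⁻¹, Q.inv_mem hu, rfl⟩
  · exact ⟨u * v⁻¹, Q.mul_mem hu (Q.inv_mem hv), rfl⟩
  · exact ⟨v, hv, rfl⟩

theorem sqs_ne (Q : Subgroup G) (hQ : IsPGroup 2 Q) (hne : Q ≠ ⊥) : sqs Q ≠ Q := by
  obtain ⟨k, hk⟩ := IsPGroup.iff_card.mp hQ
  have hk0 : k ≠ 0 := by
    rintro rfl
    rw [pow_zero] at hk
    exact hne (Subgroup.card_eq_one.mp hk)
  obtain ⟨K, hK⟩ := Sylow.exists_subgroup_card_pow_prime (G := Q) 2 (n := k - 1)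
    (by rw [hk]; exact pow_dvd_pow 2 (Nat.sub_le k 1))
  have hidx : K.index = 2 := by
    have h1 := K.index_mul_card
    rw [hK, hk] at h1
    have h2 : 2 ^ k = 2 * 2 ^ (k - 1) := by
      rw [← pow_succ']; congr 1; omega
    rw [h2] at h1
    exact Nat.eq_of_mul_eq_mul_right (pow_pos (by norm_num) _) h1
  intro heq
  have hle : sqs Q ≤ K.map Q.subtype := by
    unfold sqs
    rw [Subgroup.closure_le]
    rintro y ⟨u, hu, rfl⟩
    exact ⟨⟨u, hu⟩ * ⟨u, hu⟩, Subgroup.mul_self_mem_of_index_two hidx _, rfl⟩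
  rw [heq] at hle
  have hcard : Nat.card (K.map Q.subtype) = 2 ^ (k - 1) := by
    rw [Subgroup.card_map_of_injective Q.subtype_injective, hK]
  have h3 := Subgroup.card_le_of_le hle
  rw [hcard, hk] at h3
  have h4 : 2 ^ (k - 1) < 2 ^ k := Nat.pow_lt_pow_right (by norm_num) (by omega)
  omega


theorem main_ind
    (h : ∀ x : G, (∃ j : ℕ, orderOf x = 2 ^ j) → IsConj x x⁻¹ → x ∈ Subgroup.center G)
    (g : G) (hg : (orderOf g).Coprime 2) :
    ∀ n : ℕ, ∀ Q : Subgroup G, Nat.card Q = n → IsPGroup 2 Q →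
      (∀ y ∈ Q, g⁻¹ * y * g ∈ Q) → ∀ u ∈ Q, u * g = g * u := by
  intro n
  induction n using Nat.strong_induction_on with
  | _ n ih =>
  intro Q hQn hQ2 hgQ
  by_contra hcon
  push Not at hcon
  obtain ⟨x, hxQ, hxg⟩ := hcon
  -- induction hypothesis for proper invariant subgroups
  have IH : ∀ K : Subgroup G, K ≤ Q → K ≠ Q → (∀ y ∈ K, g⁻¹ * y * g ∈ K) →
      ∀ u ∈ K, u * g = g * u := by
    intro K hKQ hKne hgK
    have hlt : Nat.card K < n := by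
      rw [← hQn]
      have hle := Subgroup.card_le_of_le hKQ
      rcases lt_or_eq_of_le hle with h1 | h1
      · exact h1
      · exact absurd (Subgroup.eq_of_le_of_card_ge hKQ h1.ge) hKne
    exact ih _ hlt K rfl (hQ2.to_le hKQ) hgK
  -- reverse invariance
  have hgQ' : ∀ y ∈ Q, g * y * g⁻¹ ∈ Q := by
    have hpow : ∀ k : ℕ, ∀ y ∈ Q, (g⁻¹) ^ k * y * g ^ k ∈ Q := by
      intro k
      induction k with
      | zero => intro y hy; simpa using hy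
      | succ k ihk =>
        intro y hy
        have : (g⁻¹) ^ (k + 1) * y * g ^ (k + 1) = g⁻¹ * ((g⁻¹) ^ k * y * g ^ k) * g := by
          rw [pow_succ' g⁻¹ k, pow_succ g k]; group
        rw [this]
        exact hgQ _ (ihk y hy)
    intro y hy
    have hpos : 0 < orderOf g := orderOf_pos g
    have h1 := hpow (orderOf g - 1) y hy
    have h2 : g ^ (orderOf g - 1) = g⁻¹ := by
      have : g ^ (orderOf g - 1) * g = 1 := by
        rw [← pow_succ, Nat.sub_add_cancel hpos, pow_orderOf_eq_one]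
      exact eq_inv_of_mul_eq_one_left this
    rw [inv_pow, h2, inv_inv] at h1
    exact h1
  have h2el : ∀ c ∈ Q, ∃ k, orderOf c ∣ 2 ^ k := by
    intro c hc
    obtain ⟨k, hk⟩ := hQ2 ⟨c, hc⟩
    refine ⟨k, orderOf_dvd_of_pow_eq_one ?_⟩
    have := congrArg Subtype.val hk
    simpa using this
  have hcmQ : ∀ u ∈ Q, cm g u ∈ Q := fun u hu => Q.mul_mem (Q.inv_mem hu) (hgQ u hu)
  -- Key lemma
  have KL : ∀ K : Subgroup G, K ≤ Q → (∀ y ∈ K, g⁻¹ * y * g ∈ K) →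
      (∀ u ∈ Q, cm g u ∈ K) → K = Q := by
    intro K hKQ hgK hcmK
    by_contra hne
    have hKc := IH K hKQ hne hgK
    apply hxg
    exact comm_of_cm_comm g x (hKc _ (hcmK x hxQ)) (orderOf g) (pow_orderOf_eq_one g) hg.symm
      (h2el _ (hcmQ x hxQ))
  have hQne : Q ≠ ⊥ := by
    rintro rfl
    rw [Subgroup.mem_bot] at hxQ
    apply hxg; rw [hxQ]; simp
  have hTQ : sqs Q ≤ Q := sqs_le Q
  have hTne := sqs_ne Q hQ2 hQne
  have hTg : ∀ t ∈ sqs Q, t * g = g * t := IH (sqs Q) hTQ hTne (sqs_conj Q g hgQ)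
  have hTnorm : ∀ u ∈ Q, ∀ t ∈ sqs Q, u * t * u⁻¹ ∈ sqs Q := by
    intro u hu t ht
    have := sqs_conj Q u⁻¹ (fun y hy => by
      rw [inv_inv]; exact Q.mul_mem (Q.mul_mem hu hy) (Q.inv_mem hu)) t ht
    rwa [inv_inv] at this
  -- T central in Q
  have hTc : ∀ u ∈ Q, ∀ t ∈ sqs Q, u * t = t * u := by
    have hK : Q ⊓ Subgroup.centralizer (sqs Q : Set G) = Q := by
      apply KL _ inf_le_left
      · intro y hy
        obtain ⟨hyQ, hyC⟩ := Subgroup.mem_inf.mp hy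
        refine Subgroup.mem_inf.mpr ⟨hgQ y hyQ, ?_⟩
        rw [Subgroup.mem_centralizer_iff] at hyC ⊢
        intro t ht
        have h1 := hyC t ht
        have h2 := hTg t ht
        have h2' : g⁻¹ * t = t * g⁻¹ := by
          calc g⁻¹ * t = g⁻¹ * (t * g) * g⁻¹ := by group
            _ = g⁻¹ * (g * t) * g⁻¹ := by rw [h2]
            _ = t * g⁻¹ := by group
        calc t * (g⁻¹ * y * g) = (t * g⁻¹) * y * g := by group
          _ = (g⁻¹ * t) * y * g := by rw [h2']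
          _ = g⁻¹ * (t * y) * g := by group
          _ = g⁻¹ * (y * t) * g := by rw [h1]
          _ = g⁻¹ * y * (t * g) := by group
          _ = g⁻¹ * y * (g * t) := by rw [h2]
          _ = g⁻¹ * y * g * t := by group
      · intro u hu
        refine Subgroup.mem_inf.mpr ⟨hcmQ u hu, ?_⟩
        rw [Subgroup.mem_centralizer_iff]
        intro t ht
        have ht' := hTnorm u hu t ht
        have h1 := hTg t ht
        have h2 := hTg _ ht'
        unfold cm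
        have h2' : g⁻¹ * (u * t * u⁻¹) = (u * t * u⁻¹) * g⁻¹ := by
          calc g⁻¹ * (u * t * u⁻¹) = g⁻¹ * ((u * t * u⁻¹) * g) * g⁻¹ := by group
            _ = g⁻¹ * (g * (u * t * u⁻¹)) * g⁻¹ := by rw [h2]
            _ = (u * t * u⁻¹) * g⁻¹ := by group
        symm
        calc u⁻¹ * (g⁻¹ * u * g) * t = u⁻¹ * g⁻¹ * u * (g * t) := by group
          _ = u⁻¹ * g⁻¹ * u * (t * g) := by rw [h1]
          _ = u⁻¹ * (g⁻¹ * (u * t * u⁻¹)) * u * g := by group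
          _ = u⁻¹ * ((u * t * u⁻¹) * g⁻¹) * u * g := by rw [h2']
          _ = t * (u⁻¹ * (g⁻¹ * u * g)) := by group
    intro u hu t ht
    have hu' : u ∈ Q ⊓ Subgroup.centralizer (sqs Q : Set G) := by rw [hK]; exact hu
    have := (Subgroup.mem_centralizer_iff.mp (Subgroup.mem_inf.mp hu').2) t ht
    exact this.symm
  -- the subgroup S = [x, Q]
  have hScen : ∀ y ∈ Q, ∀ w ∈ Q, w * (x⁻¹ * (y⁻¹ * x * y)) = x⁻¹ * (y⁻¹ * x * y) * w :=
    fun y hy w hw => hTc w hw _ (comm_mem_sqs Q x y hxQ hy)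
  obtain ⟨S, hS⟩ : ∃ S : Subgroup G, ∀ c, c ∈ S ↔ ∃ y ∈ Q, c = x⁻¹ * (y⁻¹ * x * y) :=
    ⟨{ carrier := {c | ∃ y ∈ Q, c = x⁻¹ * (y⁻¹ * x * y)}
       one_mem' := ⟨1, Q.one_mem, by group⟩
       mul_mem' := by
         rintro _ _ ⟨y1, hy1, rfl⟩ ⟨y2, hy2, rfl⟩
         refine ⟨y1 * y2, Q.mul_mem hy1 hy2, ?_⟩
         have hc2Q : x⁻¹ * (y2⁻¹ * x * y2) ∈ Q :=
           Q.mul_mem (Q.inv_mem hxQ) (Q.mul_mem (Q.mul_mem (Q.inv_mem hy2) hxQ) hy2)
         have e1 := hScen y1 hy1 _ hc2Q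
         have e2 := hScen y1 hy1 y2 hy2
         rw [← e1]
         calc x⁻¹ * (y2⁻¹ * x * y2) * (x⁻¹ * (y1⁻¹ * x * y1))
             = x⁻¹ * y2⁻¹ * x * (y2 * (x⁻¹ * (y1⁻¹ * x * y1))) := by group
           _ = x⁻¹ * y2⁻¹ * x * ((x⁻¹ * (y1⁻¹ * x * y1)) * y2) := by rw [e2]
           _ = x⁻¹ * ((y1 * y2)⁻¹ * x * (y1 * y2)) := by group
       inv_mem' := by
         rintro _ ⟨y, hy, rfl⟩
         refine ⟨y⁻¹, Q.inv_mem hy, ?_⟩
         have e := hScen y hy y hy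
         calc (x⁻¹ * (y⁻¹ * x * y))⁻¹
             = (x⁻¹ * (y⁻¹ * x * y))⁻¹ * (y * (x⁻¹ * (y⁻¹ * x * y))) * (x⁻¹ * (y⁻¹ * x * y))⁻¹ * y⁻¹ := by
               group
           _ = (x⁻¹ * (y⁻¹ * x * y))⁻¹ * ((x⁻¹ * (y⁻¹ * x * y)) * y) * (x⁻¹ * (y⁻¹ * x * y))⁻¹ * y⁻¹ := by
               rw [e]
           _ = x⁻¹ * ((y⁻¹)⁻¹ * x * y⁻¹) := by group }, fun c => Iff.rfl⟩
  -- W = elements of Q all of whose commutators lie in S
  obtain ⟨W, hW⟩ : ∃ W : Subgroup G, ∀ u, u ∈ W ↔ (u ∈ Q ∧ ∀ v ∈ Q, u⁻¹ * (v⁻¹ * u * v) ∈ S) :=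
    ⟨{ carrier := {u | u ∈ Q ∧ ∀ v ∈ Q, u⁻¹ * (v⁻¹ * u * v) ∈ S}
       one_mem' := ⟨Q.one_mem, fun v hv => by
         have : (1 : G)⁻¹ * (v⁻¹ * 1 * v) = 1 := by group
         rw [this]; exact S.one_mem⟩
       mul_mem' := by
         rintro u u' ⟨hu, hu2⟩ ⟨hu', hu2'⟩
         refine ⟨Q.mul_mem hu hu', fun v hv => ?_⟩
         have hc := hu2 v hv
         have hc' := hu2' v hv
         have hcT : u⁻¹ * (v⁻¹ * u * v) ∈ sqs Q := comm_mem_sqs Q u v hu hv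
         have hcomm := hTc u'⁻¹ (Q.inv_mem hu') _ hcT
         have e1 : (u * u')⁻¹ * (v⁻¹ * (u * u') * v)
             = (u'⁻¹ * (u⁻¹ * (v⁻¹ * u * v))) * (v⁻¹ * u' * v) := by group
         rw [e1, hcomm]
         have e2 : u⁻¹ * (v⁻¹ * u * v) * u'⁻¹ * (v⁻¹ * u' * v)
             = (u⁻¹ * (v⁻¹ * u * v)) * (u'⁻¹ * (v⁻¹ * u' * v)) := by group
         rw [e2]
         exact S.mul_mem hc hc'
       inv_mem' := by
         rintro u ⟨hu, hu2⟩
         refine ⟨Q.inv_mem hu, fun v hv => ?_⟩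
         have hc := hu2 v hv
         have hcT : (u⁻¹ * (v⁻¹ * u * v))⁻¹ ∈ sqs Q :=
           (sqs Q).inv_mem (comm_mem_sqs Q u v hu hv)
         have hcomm := hTc u hu _ hcT
         have e1 : (u⁻¹)⁻¹ * (v⁻¹ * u⁻¹ * v) = u * (u⁻¹ * (v⁻¹ * u * v))⁻¹ * u⁻¹ := by group
         rw [e1, hcomm]
         have e2 : (u⁻¹ * (v⁻¹ * u * v))⁻¹ * u * u⁻¹ = (u⁻¹ * (v⁻¹ * u * v))⁻¹ := by group
         rw [e2]
         exact S.inv_mem hc }, fun u => Iff.rfl⟩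
  have hWQ : W = Q := by
    by_contra hne
    have hWle : W ≤ Q := fun u hu => ((hW u).mp hu).1
    have hWg : ∀ y ∈ W, g⁻¹ * y * g ∈ W := by
      intro u hu
      obtain ⟨huQ, hu2⟩ := (hW u).mp hu
      refine (hW _).mpr ⟨hgQ u huQ, fun v hv => ?_⟩
      have hv' : g * v * g⁻¹ ∈ Q := hgQ' v hv
      have hc := hu2 _ hv'
      have hcT := comm_mem_sqs Q u _ huQ hv'
      have hcg := hTg _ hcT
      have e1 : (g⁻¹ * u * g)⁻¹ * (v⁻¹ * (g⁻¹ * u * g) * v)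
          = g⁻¹ * ((u⁻¹ * ((g * v * g⁻¹)⁻¹ * u * (g * v * g⁻¹))) * g) := by group
      rw [e1, hcg]
      have e2 : g⁻¹ * (g * (u⁻¹ * ((g * v * g⁻¹)⁻¹ * u * (g * v * g⁻¹))))
          = u⁻¹ * ((g * v * g⁻¹)⁻¹ * u * (g * v * g⁻¹)) := by group
      rw [e2]; exact hc
    have hxW : x ∈ W := (hW x).mpr ⟨hxQ, fun v hv => (hS _).mpr ⟨v, hv, rfl⟩⟩
    exact hxg (IH W hWle hne hWg x hxW)
  have hcommS : ∀ u ∈ Q, ∀ v ∈ Q, u⁻¹ * (v⁻¹ * u * v) ∈ S := by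
    intro u hu v hv
    have : u ∈ W := by rw [hWQ]; exact hu
    exact ((hW u).mp this).2 v hv
  -- K = elements of Q whose square lies in S
  obtain ⟨K, hK⟩ : ∃ K : Subgroup G, ∀ u, u ∈ K ↔ (u ∈ Q ∧ u * u ∈ S) :=
    ⟨{ carrier := {u | u ∈ Q ∧ u * u ∈ S}
       one_mem' := ⟨Q.one_mem, by
         have : (1 : G) * 1 = 1 := by group
         rw [this]; exact S.one_mem⟩
       mul_mem' := by
         rintro u v ⟨hu, hu2⟩ ⟨hv, hv2⟩
         refine ⟨Q.mul_mem hu hv, ?_⟩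
         have hc := hcommS u hu v⁻¹ (Q.inv_mem hv)
         have e1 : (u * v) * (u * v) = (u * u) * (u⁻¹ * ((v⁻¹)⁻¹ * u * v⁻¹)) * (v * v) := by group
         rw [e1]
         exact S.mul_mem (S.mul_mem hu2 hc) hv2
       inv_mem' := by
         rintro u ⟨hu, hu2⟩
         refine ⟨Q.inv_mem hu, ?_⟩
         have e1 : u⁻¹ * u⁻¹ = (u * u)⁻¹ := by group
         rw [e1]; exact S.inv_mem hu2 }, fun u => Iff.rfl⟩
  have hsq_g : ∀ u ∈ Q, (g⁻¹ * u * g) * (g⁻¹ * u * g) = u * u := by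
    intro u huQ
    have huuT : u * u ∈ sqs Q := Subgroup.subset_closure ⟨u, huQ, rfl⟩
    have hcg := hTg _ huuT
    have e1 : (g⁻¹ * u * g) * (g⁻¹ * u * g) = g⁻¹ * ((u * u) * g) := by group
    rw [e1, hcg]
    group
  have hKQ : K = Q := by
    apply KL K (fun u hu => ((hK u).mp hu).1)
    · intro u hu
      obtain ⟨huQ, hu2⟩ := (hK u).mp hu
      refine (hK _).mpr ⟨hgQ u huQ, ?_⟩
      rw [hsq_g u huQ]; exact hu2
    · intro u hu
      refine (hK _).mpr ⟨hcmQ u hu, ?_⟩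
      unfold cm
      have hwQ : g⁻¹ * u * g ∈ Q := hgQ u hu
      have hc := hcommS u⁻¹ (Q.inv_mem hu) (g⁻¹ * u * g)⁻¹ (Q.inv_mem hwQ)
      have hcT := comm_mem_sqs Q u⁻¹ (g⁻¹ * u * g)⁻¹ (Q.inv_mem hu) (Q.inv_mem hwQ)
      have huuQ : u * u ∈ Q := Q.mul_mem hu hu
      have hcomm := hTc _ huuQ _ hcT
      have e1 : (u⁻¹ * (g⁻¹ * u * g)) * (u⁻¹ * (g⁻¹ * u * g))
          = (u⁻¹ * u⁻¹) * ((u⁻¹)⁻¹ * (((g⁻¹ * u * g)⁻¹)⁻¹ * u⁻¹ * (g⁻¹ * u * g)⁻¹))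
            * ((g⁻¹ * u * g) * (g⁻¹ * u * g)) := by group
      rw [e1, hsq_g u hu, mul_assoc, ← hcomm]
      have e2 : u⁻¹ * u⁻¹ * (u * u * ((u⁻¹)⁻¹ * (((g⁻¹ * u * g)⁻¹)⁻¹ * u⁻¹ * (g⁻¹ * u * g)⁻¹)))
          = (u⁻¹)⁻¹ * (((g⁻¹ * u * g)⁻¹)⁻¹ * u⁻¹ * (g⁻¹ * u * g)⁻¹) := by group
      rw [e2]; exact hc
  have hxK : x ∈ K := by rw [hKQ]; exact hxQ
  have hxx : x * x ∈ S := ((hK x).mp hxK).2
  have hxx' : x⁻¹ * x⁻¹ ∈ S := by
    have h1 := S.inv_mem hxx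
    have e : (x * x)⁻¹ = x⁻¹ * x⁻¹ := by group
    rwa [e] at h1
  obtain ⟨y, hyQ, hy⟩ := (hS _).mp hxx'
  have hy' : y⁻¹ * x * y = x⁻¹ := (mul_left_cancel hy).symm
  have hconj : IsConj x x⁻¹ := isConj_iff.mpr ⟨y⁻¹, by rw [inv_inv]; exact hy'⟩
  have h2x : ∃ j : ℕ, orderOf x = 2 ^ j := by
    obtain ⟨k, hk⟩ := h2el x hxQ
    obtain ⟨j, -, hj⟩ := (Nat.dvd_prime_pow Nat.prime_two).mp hk
    exact ⟨j, hj⟩
  have hxc := h x h2x hconj
  exact hxg ((Subgroup.mem_center_iff.mp hxc g).symm)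

end main

/-- If every 2-element of the finite group G that is conjugate to its inverse lies in the centre of G, then G has a normal 2-complement. -/
theorem result {G : Type*} [Group G] [Finite G] (h : ∀ x : G, (∃ j : ℕ, orderOf x = 2 ^ j) → IsConj x x⁻¹ → x ∈ Subgroup.center G) : Cfsg.HasNormalPComplement 2 G := by
  apply Cfsg.Agent.Lib.Helper2.hasNormalPComplement_of_coprimeCentralizes
  intro Q hQ g hgN hcop
  rw [Subgroup.mem_centralizer_iff]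
  intro u hu
  refine main_ind h g hcop _ Q rfl hQ (fun y hy => ?_) u hu
  have h1 := (Subgroup.mem_normalizer_iff.mp (inv_mem hgN) y).mp hy
  rwa [inv_inv] at h1

end Cfsg.Agent.S3862
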