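import Mathlib
import Cfsg.Statements.S3868
import Cfsg.Agent.Lib.Helper64.IrredGroup
import Cfsg.Agent.Lib.Helper64.MinNormal

set_option autoImplicit false
open Cfsg

namespace Cfsg.Agent.S3868

open Cfsg.Agent.Lib.Helper64
open scoped Pointwise

variable {G : Type*} [Group G]

/-- If `K` is normal in `G`, `P ≤ K` a Sylow `p`-subgroup of `G` which (as a Sylow subgroup of `K`) is
normal in `K`, then `P` is normal in `G`. -/
lemma sylow_normal_of_normal_in_normal [Finite G] {p : ℕ} [Fact p.Prime] (K : Subgroup G)
    [hK : K.Normal] (P : Sylow p G) (hPK : (P : Subgroup G) ≤ K)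
    (hn : ((P.subtype hPK : Sylow p K) : Subgroup K).Normal) : (P : Subgroup G).Normal := by
  haveI : ((P.subtype hPK : Sylow p K) : Subgroup K).Characteristic :=
    Sylow.characteristic_of_normal _ hn
  have h1 : (((P.subtype hPK : Sylow p K) : Subgroup K).map K.subtype).Normal :=
    ConjAct.normal_of_characteristic_of_normal
  have h2 : ((P.subtype hPK : Sylow p K) : Subgroup K).map K.subtype = P := by
    rw [Sylow.coe_subtype, Subgroup.subgroupOf_map_subtype, inf_eq_left.mpr hPK]
  rwa [h2] at h1

/-- if the image of `P` in `G/M` is normal, `P ⊔ M` is normal in `G`. -/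
lemma sup_normal_of_quotient_pClosed [Finite G] {p : ℕ} [Fact p.Prime] (M : Subgroup G) [M.Normal]
    (hcl : Cfsg.IsPClosed p (G ⧸ M)) (P : Sylow p G) : ((P : Subgroup G) ⊔ M).Normal := by
  have hπ : Function.Surjective (QuotientGroup.mk' M) := QuotientGroup.mk'_surjective M
  have h1 : ((P.mapSurjective hπ : Sylow p (G ⧸ M)) : Subgroup (G ⧸ M)).Normal := hcl _
  have h2 := h1.comap (QuotientGroup.mk' M)
  rwa [Sylow.coe_mapSurjective, Subgroup.comap_map_eq, QuotientGroup.ker_mk'] at h2

/-- Structure of the non-simple minimal non-p-closed groups. Call a finite group p-closed when its Sylow p-subgroups are normal, and minimal non-p-closed when it is not p-closed but every proper subgroup and every proper quotient is. If such a group G is not simple, then there is a prime q ≠ p such that G has order p · q^e, where e is the multiplicative order of q modulo p, and G has a normal subgroup A of order q^e that is elementary abelian and is a minimal normal subgroup of G (so G is the semidirect product of A by a group of order p acting irreducibly).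 -/
theorem result {G : Type*} [Group G] [Finite G] {p : ℕ} [Fact p.Prime]
    (hnc : ¬ Cfsg.IsPClosed p G) (hsub : ∀ H : Subgroup G, H ≠ ⊤ → Cfsg.IsPClosed p ↥H)
    (hquo : ∀ (N : Subgroup G) [N.Normal], N ≠ ⊥ → Cfsg.IsPClosed p (G ⧸ N)) (hns : ¬ IsSimpleGroup G) :
    ∃ q : ℕ, q.Prime ∧ q ≠ p ∧ Nat.card G = p * q ^ orderOf (q : ZMod p) ∧
      ∃ A : Subgroup G, A.Normal ∧ Nat.card ↥A = q ^ orderOf (q : ZMod p) ∧ Cfsg.IsElementaryAbelian q A ∧
        ∀ B : Subgroup G, B.Normal → B ≤ A → B = ⊥ ∨ B = A := by
  have hp : p.Prime := Fact.out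
  -- no Sylow p-subgroup is normal
  have hF1 : ∀ P : Sylow p G, ¬ (P : Subgroup G).Normal := by
    intro P hP
    apply hnc
    intro P'
    obtain ⟨g, rfl⟩ := MulAction.exists_smul_eq G P P'
    haveI := hP
    rw [Sylow.smul_eq_of_normal]; exact hP
  obtain ⟨P⟩ : Nonempty (Sylow p G) := inferInstance
  have hPnn := hF1 P
  -- G is nontrivial, hence has a proper nontrivial normal subgroup
  have hnt : Nontrivial G := by
    by_contra h
    rw [not_nontrivial_iff_subsingleton] at h
    apply hPnn
    have : (P : Subgroup G) = ⊤ := Subsingleton.elim _ _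
    rw [this]; infer_instance
  have hex : ∃ N : Subgroup G, N.Normal ∧ N ≠ ⊥ ∧ N ≠ ⊤ := by
    by_contra hcon
    push Not at hcon
    apply hns
    exact ⟨fun H hH => by
      by_cases h : H = ⊥
      · exact Or.inl h
      · exact Or.inr (hcon H hH h)⟩
  obtain ⟨N, hNn, hN0, hNtop, hNmin⟩ := exists_minimal_normal hex
  haveI := hNn
  -- P ⊔ N = ⊤
  have hPN : (P : Subgroup G) ⊔ N = ⊤ := by
    by_contra hne
    have hn := sup_normal_of_quotient_pClosed N (hquo N hN0) P
    haveI := hn
    exact hPnn (sylow_normal_of_normal_in_normal _ P le_sup_left (hsub _ hne _))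
  -- N is a p'-group
  have hNp : ¬ p ∣ Nat.card N := by
    intro hdvd
    obtain ⟨S⟩ : Nonempty (Sylow p N) := inferInstance
    have hSn : (S : Subgroup N).Normal := hsub N hNtop S
    haveI : (S : Subgroup N).Characteristic := Sylow.characteristic_of_normal _ hSn
    have h1 : ((S : Subgroup N).map N.subtype).Normal := ConjAct.normal_of_characteristic_of_normal
    have h2 : (S : Subgroup N).map N.subtype ≤ N := by
      rintro _ ⟨y, _, rfl⟩; exact y.2
    rcases hNmin _ h1 h2 with h | h
    · have : (S : Subgroup N) = ⊥ := by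
        rw [eq_bot_iff]
        intro y hy
        have : (y : G) ∈ (S : Subgroup N).map N.subtype := ⟨y, hy, rfl⟩
        rw [h, Subgroup.mem_bot] at this
        rw [Subgroup.mem_bot]; exact Subtype.ext this
      exact S.ne_bot_of_dvd_card hdvd this
    · -- N is a p-group, so N ≤ P
      have hNpg : IsPGroup p N := by
        have h3 : IsPGroup p ((S : Subgroup N).map N.subtype) := S.isPGroup'.map _
        rwa [h] at h3
      have hle : N ≤ P := hNpg.le_sylow_of_normal P
      apply hPnn
      have : (P : Subgroup G) = ⊤ := by rw [← hPN]; exact (sup_eq_left.mpr hle).symm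
      rw [this]; infer_instance
  have hdisj : ∀ (X Y : Subgroup G), IsPGroup p X → Y ≤ N → X ⊓ Y = ⊥ := by
    intro X Y hX hY
    rw [eq_bot_iff]
    intro a ⟨haX, haY⟩
    obtain ⟨k, hk⟩ := hX ⟨a, haX⟩
    have h1 : a ^ p ^ k = 1 := by
      have := congrArg Subtype.val hk
      simpa using this
    have h2 : orderOf a ∣ p ^ k := orderOf_dvd_of_pow_eq_one h1
    have h3 : orderOf a ∣ Nat.card N := by
      have := orderOf_dvd_natCard (⟨a, hY haY⟩ : N)
      rwa [Subgroup.orderOf_mk] at this
    have h4 : Nat.Coprime (p ^ k) (Nat.card N) :=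
      Nat.Coprime.pow_left k ((Nat.Prime.coprime_iff_not_dvd hp).mpr hNp)
    rw [Subgroup.mem_bot]
    exact orderOf_eq_one_iff.mp (Nat.eq_one_of_dvd_coprimes h4 h2 h3)
  -- N is an r-group for some prime r
  have hNr : ∃ r : ℕ, r.Prime ∧ IsPGroup r N := by
    by_contra hcon
    push Not at hcon
    apply hPnn
    -- N centralizes P
    have hcent : N ≤ Subgroup.centralizer ((P : Subgroup G) : Set G) := by
      have hdvd : Nat.card N ∣ Nat.card (N ⊓ Subgroup.centralizer ((P : Subgroup G) : Set G) : Subgroup G) := by
        rw [Nat.dvd_iff_prime_pow_dvd_dvd]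
        intro r k hr hk
        haveI : Fact r.Prime := ⟨hr⟩
        obtain ⟨Q, hQN, hQr, hQcard, hPQ⟩ := exists_sylow_normalized N hNp P r
        have hQle : Q ≤ N ⊓ Subgroup.centralizer ((P : Subgroup G) : Set G) := by
          refine le_inf hQN ?_
          -- K = P ⊔ Q
          have hKle : (P : Subgroup G) ⊔ Q ≤ Subgroup.normalizer (Q : Set G) :=
            sup_le hPQ Subgroup.le_normalizer
          by_cases hK : (P : Subgroup G) ⊔ Q = ⊤
          · exfalso
            have hQn : Q.Normal := by
              rw [← Subgroup.normalizer_eq_top_iff, eq_top_iff, ← hK]; exact hKle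
            rcases hNmin Q hQn hQN with h | h
            · apply hPnn
              have : (P : Subgroup G) = ⊤ := by rw [← hK, h, sup_bot_eq]
              rw [this]; infer_instance
            · exact hcon r hr (h ▸ hQr)
          · -- K proper: p-closed
            have hcl := hsub _ hK
            have hPn : ((P.subtype le_sup_left : Sylow p ↥((P : Subgroup G) ⊔ Q)) :
                Subgroup ↥((P : Subgroup G) ⊔ Q)).Normal := hcl _
            have hQn : (Q.subgroupOf ((P : Subgroup G) ⊔ Q)).Normal :=
              (Subgroup.normal_subgroupOf_iff_le_normalizer le_sup_right).mpr hKle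
            have hd : Disjoint ((P.subtype le_sup_left : Sylow p ↥((P : Subgroup G) ⊔ Q)) :
                Subgroup ↥((P : Subgroup G) ⊔ Q)) (Q.subgroupOf ((P : Subgroup G) ⊔ Q)) := by
              rw [Subgroup.disjoint_def]
              intro y hy1 hy2
              rw [Sylow.coe_subtype, Subgroup.mem_subgroupOf] at hy1
              rw [Subgroup.mem_subgroupOf] at hy2
              have : (y : G) ∈ (P : Subgroup G) ⊓ Q := ⟨hy1, hy2⟩
              rw [hdisj _ _ P.isPGroup' hQN, Subgroup.mem_bot] at this
              exact Subtype.ext this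
            intro v hv
            rw [Subgroup.mem_centralizer_iff]
            intro u hu
            have hu' : (⟨u, le_sup_left (b := Q) hu⟩ : ↥((P : Subgroup G) ⊔ Q)) ∈
                ((P.subtype le_sup_left : Sylow p ↥((P : Subgroup G) ⊔ Q)) :
                Subgroup ↥((P : Subgroup G) ⊔ Q)) := by
              rw [Sylow.coe_subtype, Subgroup.mem_subgroupOf]; exact hu
            have hv' : (⟨v, le_sup_right (a := (P : Subgroup G)) hv⟩ : ↥((P : Subgroup G) ⊔ Q)) ∈
                Q.subgroupOf ((P : Subgroup G) ⊔ Q) := by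
              rw [Subgroup.mem_subgroupOf]; exact hv
            have := Subgroup.commute_of_normal_of_disjoint _ _ hPn hQn hd _ _ hu' hv'
            exact congrArg Subtype.val this.eq
        exact (hQcard k hk).trans (Subgroup.card_dvd_of_le hQle)
      have hle : Nat.card N ≤ Nat.card (N ⊓ Subgroup.centralizer ((P : Subgroup G) : Set G) : Subgroup G) :=
        Nat.le_of_dvd Nat.card_pos hdvd
      have heq := Subgroup.eq_of_le_of_card_ge (inf_le_left : N ⊓ Subgroup.centralizer ((P : Subgroup G) : Set G) ≤ N) hle
      rw [← heq]; exact inf_le_right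
    rw [← Subgroup.normalizer_eq_top_iff, eq_top_iff, ← hPN]
    refine sup_le Subgroup.le_normalizer (hcent.trans ?_)
    exact Subgroup.centralizer_le_normalizer _
  obtain ⟨q, hq, hNq⟩ := hNr
  haveI : Fact q.Prime := ⟨hq⟩
  have hqdvd : q ∣ Nat.card N := by
    rcases hNq.card_eq_or_dvd with h | h
    · exact absurd (Subgroup.card_eq_one.mp h) hN0
    · exact h
  have hqp : q ≠ p := by
    rintro rfl
    exact hNp hqdvd
  have hEA := isElementaryAbelian_of_minimal_normal N hN0 hNq hNmin
  -- C_P(N) is trivial
  have hCPN : (P : Subgroup G) ⊓ Subgroup.centralizer (N : Set G) = ⊥ := by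
    by_contra hne
    set C := (P : Subgroup G) ⊓ Subgroup.centralizer (N : Set G) with hC
    have hCn : C.Normal := by
      rw [← Subgroup.normalizer_eq_top_iff, eq_top_iff, ← hPN, sup_le_iff]
      have hcn : (Subgroup.centralizer (N : Set G)).Normal := inferInstance
      constructor
      · intro u hu
        rw [Subgroup.mem_normalizer_iff]
        intro c
        constructor
        · rintro ⟨hc1, hc2⟩
          exact ⟨(P : Subgroup G).mul_mem ((P : Subgroup G).mul_mem hu hc1) ((P : Subgroup G).inv_mem hu),
            hcn.conj_mem c hc2 u⟩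
        · rintro ⟨hc1, hc2⟩
          refine ⟨?_, ?_⟩
          · have := (P : Subgroup G).mul_mem ((P : Subgroup G).mul_mem ((P : Subgroup G).inv_mem hu) hc1) hu
            have h3 : u⁻¹ * (u * c * u⁻¹) * u = c := by group
            rwa [h3] at this
          · have := hcn.conj_mem _ hc2 u⁻¹
            have h3 : u⁻¹ * (u * c * u⁻¹) * u⁻¹⁻¹ = c := by group
            rwa [h3] at this
      · intro n hn
        rw [Subgroup.mem_normalizer_iff]
        intro c
        have key : ∀ c ∈ Subgroup.centralizer (N : Set G), n * c * n⁻¹ = c := by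
          intro c hc
          have := Subgroup.mem_centralizer_iff.mp hc n hn
          rw [this]; group
        constructor
        · intro hc
          rw [key c hc.2]; exact hc
        · intro hc
          have hc2 : c ∈ Subgroup.centralizer (N : Set G) := by
            have := hcn.conj_mem _ hc.2 n⁻¹
            have h3 : n⁻¹ * (n * c * n⁻¹) * n⁻¹⁻¹ = c := by group
            rwa [h3] at this
          rw [key c hc2] at hc; exact hc
    haveI := hCn
    have hn := sup_normal_of_quotient_pClosed C (hquo C hne) P
    have : (P : Subgroup G) ⊔ C = P := sup_eq_left.mpr inf_le_left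
    rw [this] at hn
    exact hPnn hn
  -- P is nontrivial: pick x of order p
  have hPne : (P : Subgroup G) ≠ ⊥ := by
    intro h
    apply hPnn
    rw [h]; infer_instance
  have hpP : p ∣ Nat.card (P : Subgroup G) := by
    rcases P.isPGroup'.card_eq_or_dvd with h | h
    · exact absurd (Subgroup.card_eq_one.mp h) hPne
    · exact h
  obtain ⟨x, hx⟩ := exists_prime_orderOf_dvd_card' (G := (P : Subgroup G)) p hpP
  have hxo : orderOf (x : G) = p := (Subgroup.orderOf_coe x).trans hx
  have hxne : (x : G) ≠ 1 := by
    intro h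
    rw [h, orderOf_one] at hxo
    exact hp.one_lt.ne hxo
  have hZp : IsPGroup p (Subgroup.zpowers (x : G)) := by
    apply IsPGroup.of_card (n := 1)
    rw [pow_one, Nat.card_zpowers, hxo]
  -- N ⊔ zpowers x = ⊤
  have hNx : N ⊔ Subgroup.zpowers (x : G) = ⊤ := by
    by_contra hK
    have hcl := hsub _ hK
    obtain ⟨S⟩ : Nonempty (Sylow p ↥(N ⊔ Subgroup.zpowers (x : G))) := inferInstance
    have hSn := hcl S
    have hNn' : (N.subgroupOf (N ⊔ Subgroup.zpowers (x : G))).Normal := inferInstance
    have hZle : (Subgroup.zpowers (x : G)).subgroupOf (N ⊔ Subgroup.zpowers (x : G)) ≤ S := by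
      apply le_normal_sylow S hSn
      exact hZp.comap_of_injective _ (Subgroup.subtype_injective _)
    have hd : Disjoint (S : Subgroup ↥(N ⊔ Subgroup.zpowers (x : G)))
        (N.subgroupOf (N ⊔ Subgroup.zpowers (x : G))) := by
      rw [Subgroup.disjoint_def]
      intro y hy1 hy2
      rw [Subgroup.mem_subgroupOf] at hy2
      have h1 : IsPGroup p ((S : Subgroup ↥(N ⊔ Subgroup.zpowers (x : G))).map (Subgroup.subtype _)) :=
        S.isPGroup'.map _
      have h2 : (y : G) ∈ ((S : Subgroup ↥(N ⊔ Subgroup.zpowers (x : G))).map (Subgroup.subtype _)) ⊓ N :=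
        ⟨⟨y, hy1, rfl⟩, hy2⟩
      rw [hdisj _ _ h1 le_rfl, Subgroup.mem_bot] at h2
      exact Subtype.ext h2
    apply hxne
    have hxC : (x : G) ∈ (P : Subgroup G) ⊓ Subgroup.centralizer (N : Set G) := by
      refine ⟨x.2, ?_⟩
      change (x : G) ∈ Subgroup.centralizer (N : Set G)
      rw [Subgroup.mem_centralizer_iff]
      intro n hn
      have hx' : (⟨(x : G), le_sup_right (a := N) (Subgroup.mem_zpowers _)⟩ :
          ↥(N ⊔ Subgroup.zpowers (x : G))) ∈ (S : Subgroup ↥(N ⊔ Subgroup.zpowers (x : G))) := by
        apply hZle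
        rw [Subgroup.mem_subgroupOf]; exact Subgroup.mem_zpowers _
      have hn' : (⟨n, le_sup_left (b := Subgroup.zpowers (x : G)) hn⟩ :
          ↥(N ⊔ Subgroup.zpowers (x : G))) ∈ N.subgroupOf (N ⊔ Subgroup.zpowers (x : G)) := by
        rw [Subgroup.mem_subgroupOf]; exact hn
      have := Subgroup.commute_of_normal_of_disjoint _ _ hSn hNn' hd _ _ hx' hn'
      exact (congrArg Subtype.val this.eq).symm
    rw [hCPN, Subgroup.mem_bot] at hxC
    exact hxC
  -- the order of G
  have hcardG : Nat.card G = Nat.card N * p := by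
    have h1 := card_sup_mul_card_inf N (Subgroup.zpowers (x : G))
    have h2 : N ⊓ Subgroup.zpowers (x : G) = ⊥ := by
      rw [inf_comm]; exact hdisj _ _ hZp le_rfl
    rw [hNx, h2, Subgroup.card_bot, mul_one, Nat.card_zpowers, hxo, Subgroup.card_top] at h1
    exact h1
  have hidx : N.index = p := by
    have h1 := N.card_mul_index
    rw [hcardG] at h1
    exact Nat.eq_of_mul_eq_mul_left Nat.card_pos h1
  have hna : ¬ IsMulCommutative G := by
    intro h
    apply hPnn
    constructor
    intro n hn g
    have : g * n * g⁻¹ = n := by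
      have := h.is_comm.comm g n
      rw [this]; group
    rw [this]; exact hn
  have hcardN := card_of_minimal_normal_index_prime hq hqp hna N hEA hidx hNmin
  refine ⟨q, hq, hqp, ?_, N, hNn, hcardN, hEA, hNmin⟩
  rw [hcardG, hcardN, mul_comm]

end Cfsg.Agent.S3868
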