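import Mathlib
import Cfsg.Statements.S3869
import Cfsg.Agent.Lib.Helper64.IrredGroup

set_option autoImplicit false
open Cfsg

namespace Cfsg.Agent.S3869

open Cfsg.Agent.Lib.Helper64

/-- Let p and q be distinct primes and G a finite non-abelian group with a normal elementary abelian q-subgroup A that is a minimal normal subgroup of G and has index p. Then A has order q^e with e the multiplicative order of q modulo p, and G is minimal non-p-closed: its Sylow p-subgroups are not normal, while in every proper subgroup and in every proper quotient of G the Sylow p-subgroups are normal. -/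
theorem result {G : Type*} [Group G] [Finite G] {p q : ℕ} [Fact p.Prime] (hq : q.Prime) (hpq : q ≠ p)
    (hna : ¬ IsMulCommutative G) (A : Subgroup G) [A.Normal] (hA : Cfsg.IsElementaryAbelian q A) (hidx : A.index = p)
    (hmin : ∀ B : Subgroup G, B.Normal → B ≤ A → B = ⊥ ∨ B = A) :
    Nat.card ↥A = q ^ orderOf (q : ZMod p) ∧ ¬ Cfsg.IsPClosed p G ∧ (∀ H : Subgroup G, H ≠ ⊤ → Cfsg.IsPClosed p ↥H) ∧
      ∀ (N : Subgroup G) [N.Normal], N ≠ ⊥ → Cfsg.IsPClosed p (G ⧸ N) := by
  have hp : p.Prime := Fact.out
  have hAn : A.Normal := inferInstance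
  have hcard := card_of_minimal_normal_index_prime hq hpq hna A hA hidx hmin
  obtain ⟨hAcomm, hAexp⟩ := hA
  have hcomm : ∀ a ∈ A, ∀ b ∈ A, a * b = b * a := by
    intro a ha b hb
    exact congrArg Subtype.val (hAcomm.is_comm.comm ⟨a, ha⟩ ⟨b, hb⟩)
  -- an element of A that is a p-element is trivial
  have hpA : ∀ a ∈ A, ∀ k : ℕ, a ^ p ^ k = 1 → a = 1 := by
    intro a ha k hk
    have h1 : orderOf a ∣ p ^ k := orderOf_dvd_of_pow_eq_one hk
    have h2 : orderOf a ∣ q := orderOf_dvd_of_pow_eq_one (hAexp a ha)
    have h3 : Nat.Coprime (p ^ k) q := Nat.Coprime.pow_left k ((Nat.coprime_primes hp hq).mpr hpq.symm)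
    exact orderOf_eq_one_iff.mp (Nat.eq_one_of_dvd_coprimes h3 h1 h2)
  -- G / A is a p-group
  have hGA : IsPGroup p (G ⧸ A) := by
    apply IsPGroup.of_card (n := 1)
    rw [pow_one, ← hidx]; rfl
  refine ⟨hcard, ?_, ?_, ?_⟩
  · -- G is not p-closed
    intro hcl
    obtain ⟨P⟩ : Nonempty (Sylow p G) := inferInstance
    have hPn : (P : Subgroup G).Normal := hcl P
    -- P is nontrivial
    have hPne : (P : Subgroup G) ≠ ⊥ := by
      apply P.ne_bot_of_dvd_card
      rw [← A.card_mul_index, hidx]
      exact dvd_mul_left p _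
    obtain ⟨x, hx1⟩ := (Subgroup.ne_bot_iff_exists_ne_one.mp hPne)
    have hxP' : (x : G) ∈ (P : Subgroup G) := x.2
    have hxne : (x : G) ≠ 1 := fun h => hx1 (Subtype.ext h)
    have hdisj : Disjoint (P : Subgroup G) A := by
      rw [Subgroup.disjoint_def]
      intro a haP haA
      obtain ⟨k, hk⟩ := P.isPGroup' ⟨a, haP⟩
      have : a ^ p ^ k = 1 := by
        have := congrArg Subtype.val hk
        simpa using this
      exact hpA a haA k this
    have hxA : (x : G) ∉ A := by
      intro h
      exact hxne (Subgroup.disjoint_def.mp hdisj hxP' h)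
    have hcent : ∀ a ∈ A, (x : G) * a * (x : G)⁻¹ = a := by
      intro a ha
      have := Subgroup.commute_of_normal_of_disjoint _ _ hPn hAn hdisj (x : G) a hxP' ha
      rw [this.eq]; group
    exact hna (isMulCommutative_of_centralizing A hp hidx hcomm x hxA hcent)
  · -- proper subgroups
    intro H hH S
    by_cases hHA : H ≤ A
    · -- S is trivial
      have : (S : Subgroup H) = ⊥ := by
        rw [eq_bot_iff]
        intro s hs
        obtain ⟨k, hk⟩ := S.isPGroup' ⟨s, hs⟩
        have h1 : (s : G) ^ p ^ k = 1 := by
          have := congrArg (fun z : S => ((z : H) : G)) hk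
          simpa using this
        have h2 := hpA (s : G) (hHA s.2) k h1
        rw [Subgroup.mem_bot]
        exact Subtype.ext h2
      rw [this]; infer_instance
    · -- H is a p-group
      obtain ⟨h₀, hh₀H, hh₀A⟩ := SetLike.not_le_iff_exists.mp hHA
      have hgen := sup_zpowers_eq_top_of_index_prime A hp hidx h₀ hh₀A
      have hn : (H ⊓ A).Normal := by
        rw [← Subgroup.normalizer_eq_top_iff, eq_top_iff, ← hgen, sup_le_iff]
        constructor
        · intro a ha
          rw [Subgroup.mem_normalizer_iff]
          intro y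
          constructor
          · rintro ⟨hy1, hy2⟩
            have : a * y * a⁻¹ = y := conj_pow_eq_of_comm A hcomm a y ha hy2
            rw [this]; exact ⟨hy1, hy2⟩
          · rintro ⟨hy1, hy2⟩
            have hyA : y ∈ A := by
              have := hAn.conj_mem _ hy2 a⁻¹
              simpa [mul_assoc] using this
            have : a * y * a⁻¹ = y := conj_pow_eq_of_comm A hcomm a y ha hyA
            rw [this] at hy1; exact ⟨hy1, hyA⟩
        · rw [Subgroup.zpowers_le, Subgroup.mem_normalizer_iff]
          intro y
          constructor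
          · rintro ⟨hy1, hy2⟩
            exact ⟨H.mul_mem (H.mul_mem hh₀H hy1) (H.inv_mem hh₀H), hAn.conj_mem y hy2 h₀⟩
          · rintro ⟨hy1, hy2⟩
            refine ⟨?_, ?_⟩
            · have := H.mul_mem (H.mul_mem (H.inv_mem hh₀H) hy1) hh₀H
              simpa [mul_assoc] using this
            · have := hAn.conj_mem _ hy2 h₀⁻¹
              simpa [mul_assoc] using this
      rcases hmin (H ⊓ A) hn inf_le_right with h | h
      · -- H ∩ A = ⊥, so H embeds in G / A
        have hinj : Function.Injective ((QuotientGroup.mk' A).comp H.subtype) := by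
          rw [injective_iff_map_eq_one]
          intro y hy
          have : (y : G) ∈ A := by
            rw [← QuotientGroup.eq_one_iff]; exact hy
          have h2 : (y : G) ∈ H ⊓ A := ⟨y.2, this⟩
          rw [h, Subgroup.mem_bot] at h2
          exact Subtype.ext h2
        have hHp : IsPGroup p H := hGA.of_injective _ hinj
        exact sylow_normal_of_isPGroup hHp S
      · exfalso
        apply hH
        rw [eq_top_iff, ← hgen, sup_le_iff]
        refine ⟨?_, ?_⟩
        · rw [← h]; exact inf_le_left
        · rw [Subgroup.zpowers_le]; exact hh₀H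
  · -- proper quotients
    intro N hNn hN S
    have hn : (N ⊓ A).Normal := inferInstance
    rcases hmin (N ⊓ A) hn inf_le_right with h | h
    · exfalso
      obtain ⟨n₀, hn₀1⟩ := (Subgroup.ne_bot_iff_exists_ne_one.mp hN)
      have hn₀ne : (n₀ : G) ≠ 1 := fun h => hn₀1 (Subtype.ext h)
      have hdisj : Disjoint N A := disjoint_iff.mpr h
      have hn₀A : (n₀ : G) ∉ A := by
        intro hh
        exact hn₀ne (Subgroup.disjoint_def.mp hdisj n₀.2 hh)
      have hcent : ∀ a ∈ A, (n₀ : G) * a * (n₀ : G)⁻¹ = a := by
        intro a ha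
        have := Subgroup.commute_of_normal_of_disjoint _ _ hNn hAn hdisj (n₀ : G) a n₀.2 ha
        rw [this.eq]; group
      exact hna (isMulCommutative_of_centralizing A hp hidx hcomm n₀ hn₀A hcent)
    · have hAN : A ≤ N := by rw [← h]; exact inf_le_left
      have hdvd : N.index ∣ p := hidx ▸ Subgroup.index_dvd_of_le hAN
      have hQ : IsPGroup p (G ⧸ N) := by
        rcases (Nat.dvd_prime hp).mp hdvd with h1 | h1
        · apply IsPGroup.of_card (n := 0)
          rw [pow_zero, ← h1]; rfl
        · apply IsPGroup.of_card (n := 1)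
          rw [pow_one, ← h1]; rfl
      exact sylow_normal_of_isPGroup hQ S

end Cfsg.Agent.S3869
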