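import Mathlib
import Cfsg.Statements.S3870
-- import your own Cfsg.Agent.* helpers here

set_option autoImplicit false
open Cfsg

namespace Cfsg.Agent.S3870

variable {G : Type*} [Group G]

open scoped Pointwise

lemma card_lt_of_lt [Finite G] {H K : Subgroup G} (h : H < K) : Nat.card H < Nat.card K := by
  rcases (Subgroup.card_le_of_le h.le).lt_or_eq with h1 | h1
  · exact h1
  · exact absurd (Subgroup.eq_of_le_of_card_ge h.le h1.ge) h.ne

lemma pgroup_normalizer_grow [Finite G] {p : ℕ} [Fact p.Prime] {P : Subgroup G} (hP : IsPGroup p P)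
    {D : Subgroup G} (hDP : D < P) : D < P ⊓ Subgroup.normalizer (D : Set G) := by
  have hnil : Group.IsNilpotent P := hP.isNilpotent
  have hnc := (normalizerCondition_iff_only_full_group_self_normalizing (G := P)).mp
    Group.normalizerCondition_of_isNilpotent
  have hle : D ≤ P ⊓ Subgroup.normalizer (D : Set G) := le_inf hDP.le Subgroup.le_normalizer
  refine lt_of_le_of_ne hle ?_
  intro heq
  have h1 : Subgroup.normalizer ((D.subgroupOf P : Subgroup P) : Set P) = D.subgroupOf P := by
    rw [← Subgroup.subgroupOf_normalizer_eq hDP.le]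
    conv_rhs => rw [heq]
    rw [Subgroup.inf_subgroupOf_left]
  have h2 := hnc _ h1
  rw [Subgroup.subgroupOf_eq_top] at h2
  exact hDP.not_ge h2

lemma le_normal_sylow [Finite G] {p : ℕ} [Fact p.Prime] (S : Sylow p G) (hS : (S : Subgroup G).Normal)
    {K : Subgroup G} (hK : IsPGroup p K) : K ≤ S := by
  obtain ⟨S', hS'⟩ := hK.exists_le_sylow
  obtain ⟨g, hg⟩ := MulAction.exists_smul_eq G S S'
  rw [Sylow.smul_eq_of_normal] at hg
  rw [hg]; exact hS'

/-- Let G be a finite simple group whose Sylow p-subgroups are not normal but such that every proper subgroup of G has a normal Sylow p-subgroup. Then any two distinct Sylow p-subgroups of G intersect trivially, and for every Sylow p-subgroup P the normalizer of every non-identity subgroup of P lies in the normalizer of P. -/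
theorem result {G : Type*} [Group G] [Finite G] [IsSimpleGroup G] {p : ℕ} [Fact p.Prime]
    (hnc : ¬ Cfsg.IsPClosed p G) (hsub : ∀ H : Subgroup G, H ≠ ⊤ → Cfsg.IsPClosed p ↥H) :
    (∀ P Q : Sylow p G, P ≠ Q → (P : Subgroup G) ⊓ (Q : Subgroup G) = ⊥) ∧
      ∀ (P : Sylow p G) (R : Subgroup G), R ≤ P → R ≠ ⊥ →
        Subgroup.normalizer (R : Set G) ≤ Subgroup.normalizer ((P : Subgroup G) : Set G) := by
  -- a nontrivial p-subgroup has a proper normalizer
  have hprop : ∀ D : Subgroup G, IsPGroup p D → D ≠ ⊥ → Subgroup.normalizer (D : Set G) ≠ ⊤ := by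
    intro D hDp hD htop
    have hn : D.Normal := Subgroup.normalizer_eq_top_iff.mp htop
    rcases hn.eq_bot_or_eq_top with h | h
    · exact hD h
    · apply hnc
      intro P'
      have : (P' : Subgroup G) = ⊤ := by
        have := P'.3 (Q := ⊤) (h ▸ hDp) le_top
        exact this.symm
      rw [this]; infer_instance
  have hTI : ∀ P Q : Sylow p G, P ≠ Q → (P : Subgroup G) ⊓ (Q : Subgroup G) = ⊥ := by
    by_contra hcon
    push Not at hcon
    let S := {PQ : Sylow p G × Sylow p G // PQ.1 ≠ PQ.2 ∧ (PQ.1 : Subgroup G) ⊓ (PQ.2 : Subgroup G) ≠ ⊥}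
    have hne : Nonempty S := by
      obtain ⟨P, Q, h1, h2⟩ := hcon
      exact ⟨⟨(P, Q), h1, h2⟩⟩
    obtain ⟨⟨⟨P, Q⟩, hPQ, hD⟩, hmax⟩ := Finite.exists_max
      (fun s : S => Nat.card ((s.1.1 : Subgroup G) ⊓ (s.1.2 : Subgroup G) : Subgroup G))
    simp only at hPQ hD hmax
    set D := (P : Subgroup G) ⊓ (Q : Subgroup G) with hDdef
    have hDp : IsPGroup p D := P.isPGroup'.to_le inf_le_left
    have hDP : D < P := by
      refine lt_of_le_of_ne inf_le_left ?_
      intro h
      apply hPQ
      have hle : (P : Subgroup G) ≤ Q := by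
        rw [← h]; exact inf_le_right
      exact Sylow.ext (P.3 Q.isPGroup' hle).symm
    have hDQ : D < Q := by
      refine lt_of_le_of_ne inf_le_right ?_
      intro h
      apply hPQ
      have hle : (Q : Subgroup G) ≤ P := by
        rw [← h]; exact inf_le_left
      exact Sylow.ext (Q.3 P.isPGroup' hle)
    have hH := hprop D hDp hD
    set H := Subgroup.normalizer (D : Set G) with hHdef
    have hcl := hsub H hH
    obtain ⟨S₀⟩ : Nonempty (Sylow p H) := inferInstance
    have hS₀n := hcl S₀
    have hA : D < (P : Subgroup G) ⊓ H := pgroup_normalizer_grow P.isPGroup' hDP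
    have hB : D < (Q : Subgroup G) ⊓ H := pgroup_normalizer_grow Q.isPGroup' hDQ
    have hAp : IsPGroup p (((P : Subgroup G) ⊓ H).subgroupOf H) := by
      have := (P.isPGroup'.to_le (inf_le_left : (P : Subgroup G) ⊓ H ≤ P))
      exact this.comap_of_injective H.subtype (Subgroup.subtype_injective H)
    have hBp : IsPGroup p (((Q : Subgroup G) ⊓ H).subgroupOf H) := by
      have := (Q.isPGroup'.to_le (inf_le_left : (Q : Subgroup G) ⊓ H ≤ Q))
      exact this.comap_of_injective H.subtype (Subgroup.subtype_injective H)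
    have hAS := le_normal_sylow S₀ hS₀n hAp
    have hBS := le_normal_sylow S₀ hS₀n hBp
    have hS' : IsPGroup p ((S₀ : Subgroup H).map H.subtype) := S₀.isPGroup'.map _
    obtain ⟨P', hP'⟩ := hS'.exists_le_sylow
    have hAP' : (P : Subgroup G) ⊓ H ≤ P' := by
      intro a ha
      apply hP'
      exact ⟨⟨a, ha.2⟩, hAS (Subgroup.mem_subgroupOf.mpr ha), rfl⟩
    have hBP' : (Q : Subgroup G) ⊓ H ≤ P' := by
      intro a ha
      apply hP'
      exact ⟨⟨a, ha.2⟩, hBS (Subgroup.mem_subgroupOf.mpr ha), rfl⟩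
    have hPP' : P = P' := by
      by_contra hne
      have hlt : D < (P : Subgroup G) ⊓ P' := lt_of_lt_of_le hA (le_inf inf_le_left hAP')
      have hne2 : (P : Subgroup G) ⊓ P' ≠ ⊥ := by
        intro h
        rw [h] at hlt
        exact not_lt_bot hlt
      have := hmax ⟨(P, P'), hne, hne2⟩
      exact absurd (card_lt_of_lt hlt) (not_lt.mpr this)
    have hQP' : Q = P' := by
      by_contra hne
      have hlt : D < (Q : Subgroup G) ⊓ P' := lt_of_lt_of_le hB (le_inf inf_le_left hBP')
      have hne2 : (Q : Subgroup G) ⊓ P' ≠ ⊥ := by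
        intro h
        rw [h] at hlt
        exact not_lt_bot hlt
      have := hmax ⟨(Q, P'), hne, hne2⟩
      exact absurd (card_lt_of_lt hlt) (not_lt.mpr this)
    exact hPQ (hPP'.trans hQP'.symm)
  refine ⟨hTI, ?_⟩
  intro P R hRP hR g hg
  suffices key : g • P = P from Sylow.smul_eq_iff_mem_normalizer.mp key
  by_contra hne
  have h1 := hTI P (g • P) (fun h => hne h.symm)
  apply hR
  rw [eq_bot_iff, ← h1]
  refine le_inf hRP ?_
  intro r hr
  rw [Sylow.coe_subgroup_smul, Subgroup.mem_pointwise_smul_iff_inv_smul_mem]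
  apply hRP
  have := (Subgroup.mem_normalizer_iff'.mp hg (g⁻¹ * r)).mpr (by simpa using hr)
  simpa [MulAut.conj_inv_apply, mul_assoc] using this

end Cfsg.Agent.S3870
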