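import Cfsg.Statements.S3872
-- import your own Cfsg.Agent.* helpers here
import Cfsg.Agent.S4209
import Cfsg.Agent.S4225
import Cfsg.Agent.Lib.Helper70.RegularN
import Mathlib

set_option autoImplicit false
open Cfsg

namespace Cfsg.Agent.S3872

open Cfsg.Agent.Lib.Helper70

/-- A finite commutative `p`-group whose elements of order dividing `p` all lie in one cyclic subgroup of
order at most `p` is cyclic. -/
theorem isCyclic_of_omega_le {A : Type*} [CommGroup A] [Finite A] {p : ℕ} [hp : Fact p.Prime]
    (hA : IsPGroup p A) (z : A) (hz : z ^ p = 1) (h : ∀ a : A, a ^ p = 1 → a ∈ Subgroup.zpowers z) :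
    IsCyclic A := by
  -- Ω_j
  have hΩ : ∀ j : ℕ, Nat.card (powMonoidHom (p ^ j) : A →* A).ker ≤ p ^ j := by
    intro j
    induction j with
    | zero =>
      have : (powMonoidHom (p ^ 0) : A →* A).ker = ⊥ := by
        ext a; simp [MonoidHom.mem_ker]
      rw [this]; simp
    | succ j ih =>
      let f : (powMonoidHom (p ^ (j + 1)) : A →* A).ker →* A :=
        (powMonoidHom p : A →* A).comp (powMonoidHom (p ^ (j + 1)) : A →* A).ker.subtype
      have hcard : Nat.card (powMonoidHom (p ^ (j + 1)) : A →* A).ker =
          Nat.card f.ker * Nat.card f.range := by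
        rw [← Subgroup.index_ker f, mul_comm, Subgroup.index_mul_card]
      have hrange : Nat.card f.range ≤ p ^ j := by
        refine le_trans (Subgroup.card_le_of_le ?_) ih
        rintro _ ⟨a, rfl⟩
        have ha : (a : A) ^ p ^ (j + 1) = 1 := by
          have := a.2
          rw [MonoidHom.mem_ker] at this
          simpa using this
        rw [MonoidHom.mem_ker]
        change ((a : A) ^ p) ^ p ^ j = 1
        rw [← pow_mul, ← pow_succ']
        exact ha
      have hker : Nat.card f.ker ≤ p := by
        have hmem : ∀ a : f.ker, (((a : (powMonoidHom (p ^ (j + 1)) : A →* A).ker) : A)) ∈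
            Subgroup.zpowers z := by
          intro a
          apply h
          have := a.2
          rw [MonoidHom.mem_ker] at this
          exact this
        have hinj : Function.Injective (fun a : f.ker =>
            (⟨((a : (powMonoidHom (p ^ (j + 1)) : A →* A).ker) : A), hmem a⟩ :
              Subgroup.zpowers z)) := by
          intro a b hab
          have h' := congrArg Subtype.val hab
          exact Subtype.ext (Subtype.ext h')
        have h1 := Nat.card_le_card_of_injective _ hinj
        have h2 : Nat.card (Subgroup.zpowers z) ≤ p := by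
          rw [Nat.card_zpowers]
          exact Nat.le_of_dvd hp.out.pos (orderOf_dvd_of_pow_eq_one hz)
        exact h1.trans h2
      rw [hcard]
      calc Nat.card f.ker * Nat.card f.range ≤ p * p ^ j := Nat.mul_le_mul hker hrange
        _ = p ^ (j + 1) := (pow_succ' p j).symm
  -- exponent
  obtain ⟨e, he⟩ := IsPGroup.iff_card.mp hA
  have hexp_dvd : Monoid.exponent A ∣ p ^ e := by
    rw [← he]; exact Group.exponent_dvd_nat_card
  obtain ⟨k, _, hk⟩ := (Nat.dvd_prime_pow hp.out).mp hexp_dvd
  have htop : (powMonoidHom (p ^ k) : A →* A).ker = ⊤ := by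
    rw [eq_top_iff]
    intro a _
    rw [MonoidHom.mem_ker, powMonoidHom_apply, ← hk]
    exact Monoid.pow_exponent_eq_one a
  have hcardle : Nat.card A ≤ Monoid.exponent A := by
    have := hΩ k
    rw [htop, Subgroup.card_top] at this
    rw [hk]; exact this
  apply IsCyclic.of_exponent_eq_card
  refine le_antisymm ?_ hcardle
  exact Nat.le_of_dvd Nat.card_pos Group.exponent_dvd_nat_card

/-- strict inclusions of subgroups of a `p`-group gain a factor `p`. -/
theorem p_mul_card_le {G : Type*} [Group G] [Finite G] {p : ℕ} [hp : Fact p.Prime] (hG : IsPGroup p G)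
    {H K : Subgroup G} (hle : H ≤ K) (hne : H ≠ K) : p * Nat.card H ≤ Nat.card K := by
  obtain ⟨a, ha⟩ := IsPGroup.iff_card.mp (hG.to_subgroup H)
  obtain ⟨b, hb⟩ := IsPGroup.iff_card.mp (hG.to_subgroup K)
  have hdvd : Nat.card H ∣ Nat.card K := Subgroup.card_dvd_of_le hle
  rw [ha, hb] at hdvd ⊢
  have hab : a ≤ b := (Nat.pow_dvd_pow_iff_le_right hp.out.one_lt).mp hdvd
  rcases Nat.lt_or_ge a b with h | h
  · rw [← pow_succ']
    exact Nat.pow_le_pow_right hp.out.pos h
  · exfalso
    apply hne
    apply Subgroup.eq_of_le_of_card_ge hle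
    rw [ha, hb]
    exact Nat.pow_le_pow_right hp.out.pos h

/-- Say that a finite group is p-exponent closed when its elements of order dividing p form a subgroup. Let G be a finite p-group that is not p-exponent closed, but all of whose proper subgroups and proper quotients are. Then G is generated by two elements, has nilpotency class at least p, has exponent p², has cyclic center, and has order at least p^(p+1). -/
theorem result {G : Type*} [Group G] [Finite G] {p : ℕ} [Fact p.Prime] (hG : IsPGroup p G)
    (hnc : ¬ (∃ H : Subgroup G, (H : Set G) = {g : G | g ^ p = 1})) (hsub : ∀ K : Subgroup G, K ≠ ⊤ → (∃ H : Subgroup ↥K, (H : Set ↥K) = {g : ↥K | g ^ p = 1}))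
    (hquo : ∀ (N : Subgroup G) [N.Normal], N ≠ ⊥ → (∃ H : Subgroup (G ⧸ N), (H : Set (G ⧸ N)) = {g : (G ⧸ N) | g ^ p = 1})) :
    (∃ x y : G, Subgroup.closure ({x, y} : Set G) = ⊤) ∧ (⊤ : Subgroup G).lowerCentralSeries (p - 1) ≠ ⊥ ∧
      Monoid.exponent G = p ^ 2 ∧ IsCyclic ↥(Subgroup.center G) ∧ p ^ (p + 1) ≤ Nat.card G := by
  have hp : p.Prime := Fact.out
  -- Step 0: a bad pair
  have hbad : ∃ x y : G, x ^ p = 1 ∧ y ^ p = 1 ∧ (x * y) ^ p ≠ 1 := by
    by_contra hcon
    push Not at hcon
    apply hnc
    refine ⟨{ carrier := {g : G | g ^ p = 1}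
              mul_mem' := fun {a b} ha hb => hcon a b ha hb
              one_mem' := one_pow p
              inv_mem' := fun {a} ha => by
                change (a⁻¹) ^ p = 1
                rw [inv_pow]
                rw [Set.mem_ofPred_eq] at ha
                rw [ha, inv_one] }, rfl⟩
  obtain ⟨x, y, hx, hy, hxy⟩ := hbad
  -- Step 1: generation
  have hgen : Subgroup.closure ({x, y} : Set G) = ⊤ := by
    by_contra hK
    obtain ⟨H, hH⟩ := hsub _ hK
    have hxK : x ∈ Subgroup.closure ({x, y} : Set G) := Subgroup.subset_closure (by simp)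
    have hyK : y ∈ Subgroup.closure ({x, y} : Set G) := Subgroup.subset_closure (by simp)
    have hxH : (⟨x, hxK⟩ : Subgroup.closure ({x, y} : Set G)) ∈ H := by
      rw [← SetLike.mem_coe, hH]
      apply Subtype.ext
      simpa using hx
    have hyH : (⟨y, hyK⟩ : Subgroup.closure ({x, y} : Set G)) ∈ H := by
      rw [← SetLike.mem_coe, hH]
      apply Subtype.ext
      simpa using hy
    have := H.mul_mem hxH hyH
    rw [← SetLike.mem_coe, hH] at this
    apply hxy
    simpa using congrArg Subtype.val this
  -- Step 2: class
  have hclass : (⊤ : Subgroup G).lowerCentralSeries (p - 1) ≠ ⊥ := by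
    intro hcl
    have hreg := Cfsg.Agent.S4209.result hG hcl
    obtain ⟨H, _, hH⟩ := Cfsg.Agent.S4225.result hreg 1
    apply hnc
    refine ⟨H, ?_⟩
    rw [hH]; simp
  -- Step 3: p-th powers lie in every nontrivial normal subgroup
  have hpow : ∀ (N : Subgroup G) [N.Normal], N ≠ ⊥ → ∀ g : G, g ^ p ∈ N := by
    intro N _ hN g
    obtain ⟨H, hH⟩ := hquo N hN
    have hxH : (QuotientGroup.mk' N x) ∈ H := by
      rw [← SetLike.mem_coe, hH, Set.mem_ofPred_eq, ← map_pow, hx, map_one]
    have hyH : (QuotientGroup.mk' N y) ∈ H := by
      rw [← SetLike.mem_coe, hH, Set.mem_ofPred_eq, ← map_pow, hy, map_one]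
    have htop : H = ⊤ := by
      rw [eq_top_iff]
      have h1 : (Subgroup.closure ({x, y} : Set G)).map (QuotientGroup.mk' N) ≤ H := by
        rw [MonoidHom.map_closure, Subgroup.closure_le]
        rintro _ ⟨w, hw, rfl⟩
        rcases hw with rfl | hw
        · exact hxH
        · rw [Set.mem_singleton_iff] at hw; subst hw; exact hyH
      rw [hgen, Subgroup.map_top_of_surjective _ (QuotientGroup.mk'_surjective N)] at h1
      exact h1
    have : QuotientGroup.mk' N g ∈ H := by rw [htop]; trivial
    rw [← SetLike.mem_coe, hH, Set.mem_ofPred_eq, ← map_pow] at this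
    rw [← QuotientGroup.ker_mk' N, MonoidHom.mem_ker]
    exact this
  -- G is nontrivial, pick a central element of order p
  have hnt : Nontrivial G := by
    by_contra hnt
    rw [not_nontrivial_iff_subsingleton] at hnt
    exact hxy (Subsingleton.elim _ _)
  have hZnt : Nontrivial (Subgroup.center G) := hG.center_nontrivial
  have hpZ : p ∣ Nat.card (Subgroup.center G) := by
    obtain ⟨k, hk⟩ := IsPGroup.iff_card.mp (hG.to_subgroup (Subgroup.center G))
    have hk0 : k ≠ 0 := by
      rintro rfl
      rw [pow_zero] at hk
      have := (Nat.card_eq_one_iff_unique.mp hk).1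
      exact not_subsingleton _ this
    rw [hk]
    exact dvd_pow_self p hk0
  obtain ⟨z, hz⟩ := exists_prime_orderOf_dvd_card' p hpZ
  have hzG : orderOf (z : G) = p := by rw [Subgroup.orderOf_coe]; exact hz
  have hzne : (z : G) ≠ 1 := by
    intro h
    rw [h, orderOf_one] at hzG
    exact hp.one_lt.ne hzG
  have hzp : (z : G) ^ p = 1 := by rw [← hzG]; exact pow_orderOf_eq_one _
  -- central cyclic subgroups are normal
  have hnormal : ∀ a : G, a ∈ Subgroup.center G → (Subgroup.zpowers a).Normal := by
    intro a ha
    constructor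
    intro n hn g
    obtain ⟨k, rfl⟩ := Subgroup.mem_zpowers_iff.mp hn
    have hc : a ^ k ∈ Subgroup.center G := Subgroup.zpow_mem _ ha k
    have : g * a ^ k * g⁻¹ = a ^ k := by
      rw [Subgroup.mem_center_iff] at hc
      rw [hc g]; group
    rw [this]
    exact Subgroup.zpow_mem _ (Subgroup.mem_zpowers a) k
  have hNz : (Subgroup.zpowers (z : G)).Normal := hnormal _ z.2
  have hNz_ne : Subgroup.zpowers (z : G) ≠ ⊥ := by
    intro h
    apply hzne
    have : (z : G) ∈ Subgroup.zpowers (z : G) := Subgroup.mem_zpowers _
    rw [h, Subgroup.mem_bot] at this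
    exact this
  -- Step 4: exponent
  have hp2 : ∀ g : G, g ^ (p ^ 2) = 1 := by
    intro g
    have h1 := hpow (Subgroup.zpowers (z : G)) hNz_ne g
    obtain ⟨k, hk⟩ := Subgroup.mem_zpowers_iff.mp h1
    rw [pow_two, pow_mul, ← hk, ← zpow_natCast, ← zpow_mul, mul_comm, zpow_mul, zpow_natCast, hzp,
      one_zpow]
  have hexp : Monoid.exponent G = p ^ 2 := by
    have hdvd : Monoid.exponent G ∣ p ^ 2 := Monoid.exponent_dvd_of_forall_pow_eq_one hp2
    obtain ⟨k, hk2, hk⟩ := (Nat.dvd_prime_pow hp).mp hdvd
    have hk' : k = 2 := by
      by_contra hne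
      have hk1 : k ≤ 1 := by omega
      apply hxy
      have h1 : Monoid.exponent G ∣ p := by
        rw [hk]
        calc p ^ k ∣ p ^ 1 := pow_dvd_pow p hk1
          _ = p := pow_one p
      obtain ⟨m, hm⟩ := h1
      rw [hm, pow_mul, Monoid.pow_exponent_eq_one, one_pow]
    rw [hk, hk']
  -- Step 5: center cyclic
  have hcyc : IsCyclic (Subgroup.center G) := by
    have hcomm : ∀ a b : Subgroup.center G, a * b = b * a := by
      intro a b
      apply Subtype.ext
      have := a.2
      rw [Subgroup.mem_center_iff] at this
      exact (this b).symm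
    let _ : CommGroup (Subgroup.center G) := { (inferInstance : Group (Subgroup.center G)) with
      mul_comm := hcomm }
    refine isCyclic_of_omega_le (p := p) (hG.to_subgroup _) z (by
      apply Subtype.ext; simpa using hzp) ?_
    intro a ha
    have haG : (a : G) ^ p = 1 := by simpa using congrArg Subtype.val ha
    by_contra hnot
    have hane : (a : G) ≠ 1 := by
      intro h
      apply hnot
      have : a = 1 := Subtype.ext h
      rw [this]; exact one_mem _
    have hNa : (Subgroup.zpowers (a : G)).Normal := hnormal _ a.2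
    have hNa_ne : Subgroup.zpowers (a : G) ≠ ⊥ := by
      intro h
      apply hane
      have : (a : G) ∈ Subgroup.zpowers (a : G) := Subgroup.mem_zpowers _
      rw [h, Subgroup.mem_bot] at this
      exact this
    -- (xy)^p lies in both
    have h1 := hpow (Subgroup.zpowers (z : G)) hNz_ne (x * y)
    have h2 := hpow (Subgroup.zpowers (a : G)) hNa_ne (x * y)
    -- the two subgroups of order p meet trivially
    have hoa : orderOf (a : G) = p := by
      have := orderOf_dvd_of_pow_eq_one haG
      rcases (Nat.dvd_prime hp).mp this with h | h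
      · exact absurd (orderOf_eq_one_iff.mp h) hane
      · exact h
    have hinter : Subgroup.zpowers (z : G) ⊓ Subgroup.zpowers (a : G) = ⊥ := by
      by_contra hne
      -- the intersection has order p, so equals both
      have hcardz : Nat.card (Subgroup.zpowers (z : G)) = p := by rw [Nat.card_zpowers, hzG]
      have hcarda : Nat.card (Subgroup.zpowers (a : G)) = p := by rw [Nat.card_zpowers, hoa]
      have hd : Nat.card ↥(Subgroup.zpowers (z : G) ⊓ Subgroup.zpowers (a : G)) ∣ p := by
        rw [← hcardz]; exact Subgroup.card_dvd_of_le inf_le_left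
      rcases (Nat.dvd_prime hp).mp hd with h | h
      · exact hne (Subgroup.card_eq_one.mp h)
      · have e1 : Subgroup.zpowers (z : G) ⊓ Subgroup.zpowers (a : G) = Subgroup.zpowers (a : G) :=
          Subgroup.eq_of_le_of_card_ge inf_le_right (by rw [h, hcarda])
        have e2 : Subgroup.zpowers (z : G) ⊓ Subgroup.zpowers (a : G) = Subgroup.zpowers (z : G) :=
          Subgroup.eq_of_le_of_card_ge inf_le_left (by rw [h, hcardz])
        apply hnot
        have haz : (a : G) ∈ Subgroup.zpowers (z : G) := by
          rw [← e2, e1]; exact Subgroup.mem_zpowers _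
        obtain ⟨k, hk⟩ := Subgroup.mem_zpowers_iff.mp haz
        rw [Subgroup.mem_zpowers_iff]
        exact ⟨k, Subtype.ext (by simpa using hk)⟩
    have : (x * y) ^ p ∈ Subgroup.zpowers (z : G) ⊓ Subgroup.zpowers (a : G) := ⟨h1, h2⟩
    rw [hinter, Subgroup.mem_bot] at this
    exact hxy this
  -- Step 6: order
  have hcard : p ^ (p + 1) ≤ Nat.card G := by
    have hnil : Group.IsNilpotent G := hG.isNilpotent
    -- strict decrease
    have hstrict : ∀ i, i + 1 ≤ p - 1 →
        (⊤ : Subgroup G).lowerCentralSeries (i + 1) ≠ (⊤ : Subgroup G).lowerCentralSeries i := by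
      intro i hi heq
      have hconst : ∀ k, (⊤ : Subgroup G).lowerCentralSeries (i + k) =
          (⊤ : Subgroup G).lowerCentralSeries i := by
        intro k
        induction k with
        | zero => rfl
        | succ k ih =>
          rw [← add_assoc, Subgroup.lowerCentralSeries_succ, ih, ← Subgroup.lowerCentralSeries_succ,
            heq]
      obtain ⟨n, hn⟩ := Subgroup.nilpotent_iff_lowerCentralSeries.mp hnil
      have h1 : (⊤ : Subgroup G).lowerCentralSeries i = ⊥ := by
        rw [← hconst n, eq_bot_iff, ← hn]
        exact Subgroup.lowerCentralSeries_antitone _ (by omega)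
      apply hclass
      rw [eq_bot_iff, ← h1]
      exact Subgroup.lowerCentralSeries_antitone _ (by omega)
    -- card (lcs i) ≥ p^(p - i) for 1 ≤ i ≤ p-1
    have hlow : ∀ j, j ≤ p - 2 →
        p ^ (j + 1) ≤ Nat.card ((⊤ : Subgroup G).lowerCentralSeries (p - 1 - j)) := by
      intro j
      induction j with
      | zero =>
        intro _
        rw [zero_add, pow_one, Nat.sub_zero]
        have := p_mul_card_le hG (bot_le : ⊥ ≤ (⊤ : Subgroup G).lowerCentralSeries (p - 1))
          (Ne.symm hclass)
        simpa using this
      | succ j ih =>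
        intro hj
        have ih' := ih (by omega)
        have hne := hstrict (p - 1 - (j + 1)) (by omega)
        have hle : (⊤ : Subgroup G).lowerCentralSeries (p - 1 - (j + 1) + 1) ≤
            (⊤ : Subgroup G).lowerCentralSeries (p - 1 - (j + 1)) :=
          Subgroup.lowerCentralSeries_antitone _ (Nat.le_succ _)
        have h2 := p_mul_card_le hG hle hne
        rw [show p - 1 - (j + 1) + 1 = p - 1 - j by omega] at h2
        calc p ^ (j + 1 + 1) = p * p ^ (j + 1) := by rw [pow_succ']
          _ ≤ p * Nat.card ((⊤ : Subgroup G).lowerCentralSeries (p - 1 - j)) :=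
            Nat.mul_le_mul_left p ih'
          _ ≤ _ := h2
    -- p ≥ 2 and class ≥ p ≥ 2 so G' ≠ 1; index of G' at least p^2
    have hp2' : 2 ≤ p := hp.two_le
    have hcomm_card : p ^ (p - 1) ≤ Nat.card (commutator G) := by
      have := hlow (p - 2) le_rfl
      rw [show p - 2 + 1 = p - 1 by omega, show p - 1 - (p - 2) = 1 by omega,
        Subgroup.top_lowerCentralSeries_one] at this
      exact this
    have hidx : p ^ 2 ≤ (commutator G).index := by
      -- index is a power of p; exclude 1 and p
      obtain ⟨n, hn⟩ := IsPGroup.iff_card.mp hG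
      have hd : (commutator G).index ∣ p ^ n := hn ▸ (commutator G).index_dvd_card
      obtain ⟨e, _, he⟩ := (Nat.dvd_prime_pow hp).mp hd
      rcases Nat.lt_or_ge e 2 with he2 | he2
      · exfalso
        -- G = ⟨g⟩ G' hence cyclic hence abelian
        have hcomm_ne_top : commutator G ≠ ⊤ :=
          (Group.IsSolvable.commutator_lt_top_of_nontrivial G).ne
        have he1 : e = 1 := by
          rcases Nat.eq_zero_or_pos e with h0 | h0
          · rw [h0, pow_zero, Subgroup.index_eq_one] at he
            exact absurd he hcomm_ne_top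
          · omega
        rw [he1, pow_one] at he
        -- G/G' cyclic of order p
        have hcardQ : Nat.card (G ⧸ commutator G) = p := by rw [← Subgroup.index_eq_card]; exact he
        have hcycQ : IsCyclic (G ⧸ commutator G) := isCyclic_of_prime_card hcardQ
        obtain ⟨q, hq⟩ := hcycQ.exists_generator
        obtain ⟨g, rfl⟩ := QuotientGroup.mk'_surjective (commutator G) q
        -- zpowers g ⊔ commutator = ⊤
        have hsup : Subgroup.zpowers g ⊔ commutator G = ⊤ := by
          rw [eq_top_iff]
          intro w _
          obtain ⟨k, hk⟩ := Subgroup.mem_zpowers_iff.mp (hq (QuotientGroup.mk' (commutator G) w))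
          have : (g ^ k)⁻¹ * w ∈ commutator G := by
            rw [← QuotientGroup.ker_mk' (commutator G), MonoidHom.mem_ker, map_mul, map_inv,
              map_zpow, hk]
            simp
          have hw : w = g ^ k * ((g ^ k)⁻¹ * w) := by group
          rw [hw]
          exact Subgroup.mul_mem_sup (Subgroup.zpow_mem _ (Subgroup.mem_zpowers g) k) this
        by_cases hg : Subgroup.zpowers g = ⊤
        · -- G cyclic, so commutator trivial
          have hcomm_bot : commutator G = ⊥ := by
            rw [commutator_def, Subgroup.commutator_eq_bot_iff_le_centralizer]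
            intro a _
            rw [Subgroup.mem_centralizer_iff]
            intro b _
            have ha : a ∈ Subgroup.zpowers g := by rw [hg]; trivial
            have hb : b ∈ Subgroup.zpowers g := by rw [hg]; trivial
            obtain ⟨m, rfl⟩ := Subgroup.mem_zpowers_iff.mp ha
            obtain ⟨n, rfl⟩ := Subgroup.mem_zpowers_iff.mp hb
            rw [← zpow_add, ← zpow_add, add_comm]
          have : p ^ (p - 1) ≤ 1 := by
            have := hcomm_card
            rwa [hcomm_bot, Subgroup.card_bot] at this
          have : 2 ^ 1 ≤ p ^ (p - 1) :=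
            (Nat.pow_le_pow_left hp2' 1).trans (Nat.pow_le_pow_right hp.pos (by omega))
          omega
        · obtain ⟨M, hM, hle⟩ := (eq_top_or_exists_le_coatom (Subgroup.zpowers g)).resolve_left hg
          have hcM : commutator G ≤ M := commutator_le_coatom' hG hM
          have : (⊤ : Subgroup G) ≤ M := by rw [← hsup]; exact sup_le hle hcM
          exact hM.1 (top_le_iff.mp this)
      · rw [he]; exact Nat.pow_le_pow_right hp.pos he2
    calc p ^ (p + 1) = p ^ (p - 1) * p ^ 2 := by
          rw [← pow_add]; congr 1; omega
      _ ≤ Nat.card (commutator G) * (commutator G).index := Nat.mul_le_mul hcomm_card hidx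
      _ = Nat.card G := (commutator G).card_mul_index
  exact ⟨⟨x, y, hgen⟩, hclass, hexp, hcyc, hcard⟩

end Cfsg.Agent.S3872
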