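import Mathlib
import Cfsg.Statements.S3873
import Cfsg.Agent.Lib.Helper64.IrredGroup
import Cfsg.Agent.Lib.Helper64.MinNormal
import Cfsg.Agent.Lib.Helper64.MinNormal2

set_option autoImplicit false
open Cfsg

namespace Cfsg.Agent.S3873

open Cfsg.Agent.Lib.Helper64
open scoped Pointwise

/-- Say that a finite group is p-exponent closed when its elements of order dividing p form a subgroup. Let G be a finite group that is not p-exponent closed, but all of whose proper subgroups and proper quotients are, and suppose G is neither simple nor a p-group. Then there is a prime q ≠ p such that G has order p · q^e, where e is the multiplicative order of q modulo p, and G has a normal elementary abelian subgroup of order q^e that is a minimal normal subgroup of G. -/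
theorem result {G : Type*} [Group G] [Finite G] {p : ℕ} [Fact p.Prime]
    (hnc : ¬ (∃ H : Subgroup G, (H : Set G) = {g : G | g ^ p = 1})) (hsub : ∀ K : Subgroup G, K ≠ ⊤ → (∃ H : Subgroup ↥K, (H : Set ↥K) = {g : ↥K | g ^ p = 1}))
    (hquo : ∀ (N : Subgroup G) [N.Normal], N ≠ ⊥ → (∃ H : Subgroup (G ⧸ N), (H : Set (G ⧸ N)) = {g : (G ⧸ N) | g ^ p = 1}))
    (hns : ¬ IsSimpleGroup G) (hnp : ¬ IsPGroup p G) :
    ∃ q : ℕ, q.Prime ∧ q ≠ p ∧ Nat.card G = p * q ^ orderOf (q : ZMod p) ∧
      ∃ A : Subgroup G, A.Normal ∧ Nat.card ↥A = q ^ orderOf (q : ZMod p) ∧ Cfsg.IsElementaryAbelian q A ∧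
        ∀ B : Subgroup G, B.Normal → B ≤ A → B = ⊥ ∨ B = A := by
  have hp : p.Prime := Fact.out
  -- (a) two elements of order dividing p whose product is not
  obtain ⟨x, y, hx, hy, hxy⟩ : ∃ x y : G, x ^ p = 1 ∧ y ^ p = 1 ∧ (x * y) ^ p ≠ 1 := by
    by_contra hcon
    push Not at hcon
    apply hnc
    exact ⟨{ carrier := {g | g ^ p = 1}
             mul_mem' := fun {a b} ha hb => hcon a b ha hb
             one_mem' := one_pow _
             inv_mem' := fun {a} ha => by
               show (a⁻¹) ^ p = 1
               rw [inv_pow, show a ^ p = 1 from ha, inv_one] }, rfl⟩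
  -- any subgroup K in which the elements of order dividing p are closed, containing x,y, is a contradiction
  have hgen' : ∀ K : Subgroup G, x ∈ K → y ∈ K → K = ⊤ := by
    intro K hxK hyK
    by_contra hK
    obtain ⟨H, hH⟩ := hsub K hK
    have h1 : (⟨x, hxK⟩ : K) ∈ H := by
      rw [← SetLike.mem_coe, hH]
      exact Subtype.ext (by simpa using hx)
    have h2 : (⟨y, hyK⟩ : K) ∈ H := by
      rw [← SetLike.mem_coe, hH]
      exact Subtype.ext (by simpa using hy)
    have h3 := H.mul_mem h1 h2
    rw [← SetLike.mem_coe, hH] at h3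
    have h4 : ((⟨x, hxK⟩ : K) * ⟨y, hyK⟩) ^ p = 1 := h3
    apply hxy
    have := congrArg Subtype.val h4
    simpa using this
  -- (c) quotients have exponent p
  have hpow : ∀ (N : Subgroup G) [N.Normal], N ≠ ⊥ → ∀ g : G, g ^ p ∈ N := by
    intro N _ hN g
    obtain ⟨H, hH⟩ := hquo N hN
    have hmem : ∀ z : G, z ^ p = 1 → z ∈ H.comap (QuotientGroup.mk' N) := by
      intro z hz
      show (QuotientGroup.mk' N z) ∈ H
      rw [← SetLike.mem_coe, hH]
      show (QuotientGroup.mk' N z) ^ p = 1
      rw [← map_pow, hz, map_one]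
    have htop := hgen' _ (hmem x hx) (hmem y hy)
    have hg : (QuotientGroup.mk' N g) ∈ H := by
      have : g ∈ H.comap (QuotientGroup.mk' N) := by rw [htop]; trivial
      exact this
    rw [← SetLike.mem_coe, hH] at hg
    have hg' : (QuotientGroup.mk' N g) ^ p = 1 := hg
    rw [← map_pow] at hg'
    exact (QuotientGroup.eq_one_iff _).mp hg'
  -- (e) no nontrivial normal p-subgroups
  have hOp : ∀ H : Subgroup G, H.Normal → IsPGroup p H → H = ⊥ := by
    intro H hHn hHp
    by_contra hne
    apply hnp
    intro g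
    haveI := hHn
    have h1 := hpow H hne g
    obtain ⟨k, hk⟩ := hHp ⟨g ^ p, h1⟩
    refine ⟨k + 1, ?_⟩
    have := congrArg Subtype.val hk
    simp only [Subgroup.coe_pow, Subgroup.coe_one] at this
    rw [pow_succ', pow_mul]; exact this
  -- G nontrivial, has a proper nontrivial normal subgroup
  have hnt : Nontrivial G := by
    by_contra h
    rw [not_nontrivial_iff_subsingleton] at h
    exact hnp (fun g => ⟨0, Subsingleton.elim _ _⟩)
  have hex : ∃ N : Subgroup G, N.Normal ∧ N ≠ ⊥ ∧ N ≠ ⊤ := by
    by_contra hcon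
    push Not at hcon
    apply hns
    exact ⟨fun H hH => by
      by_cases h : H = ⊥
      · exact Or.inl h
      · exact Or.inr (hcon H hH h)⟩
  obtain ⟨N, hNn, hN0, hNtop, hNmin⟩ := exists_minimal_normal hex
  haveI := hNn
  -- G ⧸ N is a nontrivial p-group
  have hQp : IsPGroup p (G ⧸ N) := by
    intro gbar
    obtain ⟨g, rfl⟩ := QuotientGroup.mk_surjective gbar
    refine ⟨1, ?_⟩
    rw [pow_one, ← QuotientGroup.mk_pow]
    exact (QuotientGroup.eq_one_iff _).mpr (hpow N hN0 g)
  obtain ⟨n, hn⟩ := IsPGroup.iff_card.mp hQp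
  have hn0 : n ≠ 0 := by
    rintro rfl
    rw [pow_zero] at hn
    have : N.index = 1 := hn
    exact hNtop (Subgroup.index_eq_one.mp this)
  obtain ⟨m, rfl⟩ := Nat.exists_eq_succ_of_ne_zero hn0
  -- a normal subgroup of index p containing N
  obtain ⟨Kbar, hKbar⟩ := Sylow.exists_subgroup_card_pow_prime (G := G ⧸ N) p (n := m)
    (by rw [hn]; exact pow_dvd_pow p (Nat.le_succ m))
  have hKidx : Kbar.index = p := by
    have h1 := Kbar.card_mul_index
    rw [hKbar, hn, pow_succ] at h1
    exact Nat.eq_of_mul_eq_mul_left (pow_pos hp.pos m) h1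
  have hKn : Kbar.Normal := by
    apply Subgroup.normal_of_index_eq_minFac_card
    rw [hKidx, hn, Nat.Prime.pow_minFac hp (Nat.succ_ne_zero m)]
  set M := Kbar.comap (QuotientGroup.mk' N) with hM
  have hMn : M.Normal := hKn.comap _
  have hMidx : M.index = p := by
    rw [hM, Subgroup.index_comap_of_surjective _ (QuotientGroup.mk'_surjective N)]; exact hKidx
  have hNM : N ≤ M := by
    have := Subgroup.ker_le_comap (QuotientGroup.mk' N) Kbar
    rwa [QuotientGroup.ker_mk'] at this
  have hMtop : M ≠ ⊤ := by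
    intro h
    rw [h, Subgroup.index_top] at hMidx
    exact hp.one_lt.ne hMidx
  -- M has no elements of order p
  have hMp : ∀ g ∈ M, g ^ p = 1 → g = 1 := by
    obtain ⟨H, hH⟩ := hsub M hMtop
    have hW : ∀ g : G, g ∈ H.map M.subtype ↔ g ∈ M ∧ g ^ p = 1 := by
      intro g
      constructor
      · rintro ⟨z, hz, rfl⟩
        have hz' : z ^ p = 1 := by
          have hz2 : z ∈ (H : Set M) := hz
          rw [hH] at hz2; exact hz2
        refine ⟨z.2, ?_⟩
        have := congrArg Subtype.val hz'
        simpa using this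
      · rintro ⟨hgM, hg⟩
        refine ⟨⟨g, hgM⟩, ?_, rfl⟩
        show (⟨g, hgM⟩ : M) ∈ (H : Set M)
        rw [hH]
        exact Subtype.ext (by simpa using hg)
    have hWn : (H.map M.subtype).Normal := by
      constructor
      intro w hw g
      rw [hW] at hw ⊢
      refine ⟨hMn.conj_mem w hw.1 g, ?_⟩
      rw [conj_pow, hw.2]; group
    have hWp : IsPGroup p (H.map M.subtype) := by
      intro ⟨w, hw⟩
      refine ⟨1, ?_⟩
      rw [hW] at hw
      apply Subtype.ext
      simpa using hw.2
    have hWbot := hOp _ hWn hWp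
    intro g hgM hg
    have : g ∈ H.map M.subtype := (hW g).mpr ⟨hgM, hg⟩
    rwa [hWbot, Subgroup.mem_bot] at this
  have hMcard : ¬ p ∣ Nat.card M := by
    intro hdvd
    obtain ⟨z, hz⟩ := exists_prime_orderOf_dvd_card' (G := M) p hdvd
    have hz1 : (z : G) ^ p = 1 := by
      have : z ^ p = 1 := by rw [← hz]; exact pow_orderOf_eq_one z
      have := congrArg Subtype.val this
      simpa using this
    have := hMp z z.2 hz1
    have hz2 : z = 1 := Subtype.ext this
    rw [hz2, orderOf_one] at hz
    exact hp.one_lt.ne hz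
  -- M = N
  have hMN : M = N := by
    apply le_antisymm _ hNM
    rw [← Subgroup.relIndex_eq_one]
    have h1 : N.relIndex M * M.index = N.index := Subgroup.relIndex_mul_index hNM
    have h2 : N.relIndex M ∣ p ^ (m + 1) := by
      have : N.index = p ^ (m + 1) := hn
      rw [← this, ← h1]; exact dvd_mul_right _ _
    obtain ⟨j, _, hj⟩ := (Nat.dvd_prime_pow hp).mp h2
    rcases Nat.eq_zero_or_pos j with rfl | hjpos
    · rw [hj, pow_zero]
    · exfalso
      apply hMcard
      have h3 : p ∣ N.relIndex M := by rw [hj]; exact dvd_pow_self p hjpos.ne'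
      exact h3.trans (Subgroup.relIndex_dvd_card N M)
  have hNp : ¬ p ∣ Nat.card N := by rw [← hMN]; exact hMcard
  have hidx : N.index = p := by rw [← hMN]; exact hMidx
  have hcardG : Nat.card G = Nat.card N * p := by
    rw [← hidx]; exact N.card_mul_index.symm
  -- the element x has order p and generates a Sylow p-subgroup
  have hxne : x ≠ 1 := by
    rintro rfl
    rw [one_mul] at hxy
    exact hxy hy
  have hxo : orderOf x = p := orderOf_eq_prime hx hxne
  have hZp : IsPGroup p (Subgroup.zpowers x) := by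
    apply IsPGroup.of_card (n := 1)
    rw [pow_one, Nat.card_zpowers, hxo]
  obtain ⟨P, hxP⟩ := hZp.exists_le_sylow
  have hdisj := inf_eq_bot_of_isPGroup_of_not_dvd N hNp
  have hPcard : Nat.card (P : Subgroup G) = p := by
    have h1 := card_sup_mul_card_inf N (P : Subgroup G)
    rw [inf_comm, hdisj _ _ P.isPGroup' le_rfl, Subgroup.card_bot, mul_one] at h1
    have h2 : Nat.card (N ⊔ (P : Subgroup G) : Subgroup G) ∣ Nat.card N * p := by
      rw [← hcardG]; exact Subgroup.card_subgroup_dvd_card _
    rw [h1] at h2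
    have h3 : Nat.card (P : Subgroup G) ∣ p := Nat.dvd_of_mul_dvd_mul_left Nat.card_pos h2
    rcases (Nat.dvd_prime hp).mp h3 with h | h
    · exfalso
      have : (P : Subgroup G) = ⊥ := Subgroup.card_eq_one.mp h
      apply hxne
      have hx' : x ∈ (P : Subgroup G) := hxP (Subgroup.mem_zpowers x)
      rwa [this, Subgroup.mem_bot] at hx'
    · exact h
  have hPeq : (P : Subgroup G) = Subgroup.zpowers x := by
    symm
    apply Subgroup.eq_of_le_of_card_ge hxP
    rw [hPcard, Nat.card_zpowers, hxo]
  have hPN : (P : Subgroup G) ⊔ N = ⊤ := by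
    rw [← Subgroup.card_eq_iff_eq_top]
    have h1 := card_sup_mul_card_inf N (P : Subgroup G)
    rw [inf_comm, hdisj _ _ P.isPGroup' le_rfl, Subgroup.card_bot, mul_one, hPcard] at h1
    rw [sup_comm, h1, hcardG]
  have hPnn : ¬ (P : Subgroup G).Normal := by
    intro h
    have := hOp _ h P.isPGroup'
    rw [this, Subgroup.card_bot] at hPcard
    exact hp.one_lt.ne hPcard
  -- N is a q-group
  have hNr : ∃ r : ℕ, r.Prime ∧ IsPGroup r N := by
    apply exists_prime_isPGroup_of_centralizing N hNp P hPN hPnn hNmin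
    intro Q hQN hPQ hK
    -- in K = P ⊔ Q the elements of order dividing p form a subgroup, which must be P
    obtain ⟨H, hH⟩ := hsub _ hK
    have hHmem : ∀ z : ↥((P : Subgroup G) ⊔ Q), z ∈ H ↔ z ^ p = 1 := by
      intro z
      rw [← SetLike.mem_coe, hH]; rfl
    have hHp : IsPGroup p (H.map (Subgroup.subtype _)) := by
      rintro ⟨w, z, hz, rfl⟩
      refine ⟨1, ?_⟩
      have hz' : z ^ p = 1 := (hHmem z).mp hz
      apply Subtype.ext
      have := congrArg Subtype.val hz'
      simpa using this
    have hPH : (P : Subgroup G) ≤ H.map (Subgroup.subtype _) := by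
      have hxH : x ∈ H.map (Subgroup.subtype _) := by
        refine ⟨⟨x, ?_⟩, ?_, rfl⟩
        · exact le_sup_left (b := Q) (hxP (Subgroup.mem_zpowers x))
        · exact (hHmem _).mpr (Subtype.ext (by simpa using hx))
      exact hPeq.le.trans (Subgroup.zpowers_le.mpr hxH)
    have hHP : H.map (Subgroup.subtype _) = P := (P.is_maximal' hHp hPH)
    -- Q normalizes P
    have hQP : Q ≤ Subgroup.normalizer ((P : Subgroup G) : Set G) := by
      have key : ∀ u ∈ Q, ∀ a ∈ (P : Subgroup G), u * a * u⁻¹ ∈ (P : Subgroup G) := by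
        intro u hu a ha
        rw [← hHP] at ha ⊢
        obtain ⟨z, hz, rfl⟩ := ha
        refine ⟨⟨u, le_sup_right (a := (P : Subgroup G)) hu⟩ * z * ⟨u, le_sup_right (a := (P : Subgroup G)) hu⟩⁻¹, ?_, ?_⟩
        · have hz' : z ^ p = 1 := (hHmem z).mp hz
          apply (hHmem _).mpr
          rw [conj_pow, hz']; group
        · simp
      intro u hu
      rw [Subgroup.mem_normalizer_iff]
      intro a
      constructor
      · intro ha; exact key u hu a ha
      · intro ha
        have := key u⁻¹ (Q.inv_mem hu) _ ha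
        have e : u⁻¹ * (u * a * u⁻¹) * u⁻¹⁻¹ = a := by group
        rwa [e] at this
    exact le_centralizer_of_normalize_of_disjoint _ _ hPQ hQP (hdisj _ _ P.isPGroup' hQN)
  obtain ⟨q, hq, hNq⟩ := hNr
  haveI : Fact q.Prime := ⟨hq⟩
  have hqdvd : q ∣ Nat.card N := by
    rcases hNq.card_eq_or_dvd with h | h
    · exact absurd (Subgroup.card_eq_one.mp h) hN0
    · exact h
  have hqp : q ≠ p := by
    rintro rfl
    exact hNp hqdvd
  have hEA := isElementaryAbelian_of_minimal_normal N hN0 hNq hNmin
  have hna : ¬ IsMulCommutative G := by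
    intro h
    apply hxy
    have hc : Commute x y := h.is_comm.comm x y
    rw [hc.mul_pow, hx, hy, one_mul]
  have hcardN := card_of_minimal_normal_index_prime hq hqp hna N hEA hidx hNmin
  refine ⟨q, hq, hqp, ?_, N, hNn, hcardN, hEA, hNmin⟩
  rw [hcardG, hcardN, mul_comm]

end Cfsg.Agent.S3873
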