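-- Statement S3875 (row 3875): the least order of a non-p-closed group.
-- CONDITIONAL on Cfsg.Agent.S0999 (Brauer–Reynolds, |G| < p³), which this file imports.
import Cfsg.Statements.S3875
import Cfsg.Agent.S0999
import Cfsg.Agent.Lib.Helper9.LeastNPCG

set_option autoImplicit false
open Cfsg

namespace Cfsg.Agent.S3875

/-- Let p be an odd prime and let m be the least prime power congruent to 1 modulo p. Then the least order of a finite group whose Sylow p-subgroups are not normal is the smaller of p · m and p(p² − 1)/2: every finite group whose Sylow p-subgroups are not normal has at least that order, and some group of exactly that order has non-normal Sylow p-subgroups. -/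
theorem result (p : ℕ) [Fact p.Prime] (hp : p ≠ 2) (m : ℕ) (hm : IsPrimePow m) (hm1 : m % p = 1)
    (hleast : ∀ k : ℕ, IsPrimePow k → k % p = 1 → m ≤ k) :
    (∀ (H : Type) [Group H] [Finite H], ¬ Cfsg.IsPClosed p H → min (p * m) (p * (p ^ 2 - 1) / 2) ≤ Nat.card H) ∧
      ∃ (H : Type) (_ : Group H) (_ : Finite H), Nat.card H = min (p * m) (p * (p ^ 2 - 1) / 2) ∧ ¬ Cfsg.IsPClosed p H := by
  have hBR : Cfsg.Agent.Lib.Helper9.LeastNPC.BRStatement := by
    intro G _ _ _ hG q hq hdvd hbig
    exact Cfsg.Agent.S0999.result hG q hq hdvd hbig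
  obtain ⟨h1, H, iG, iF, hc, P, hP⟩ :=
    Cfsg.Agent.Lib.Helper9.LeastNPC.main_of_BR hBR p hp m hm hm1 hleast
  refine ⟨fun K _ _ hK => h1 K ?_, H, iG, iF, hc, ?_⟩
  · unfold Cfsg.IsPClosed at hK
    exact not_forall.mp hK
  · intro h
    exact hP (h P)

end Cfsg.Agent.S3875
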