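import Mathlib
import Cfsg.Statements.S3880
import Cfsg.Agent.Lib.Helper64.Metacyclic2

set_option autoImplicit false
open Cfsg

namespace Cfsg.Agent.S3880

open Cfsg.Agent.Lib.Helper64

/-- Let p be an odd prime and G a finite metacyclic p-group (G has a cyclic normal subgroup with cyclic quotient). Then a subgroup L of G is abelian if and only if |L| ≤ |G : G'|, and L is a maximal abelian subgroup of G if and only if |L| = |G : G'|. -/
theorem result {G : Type*} [Group G] [Finite G] {p : ℕ} [Fact p.Prime] (hp : p ≠ 2) (hG : IsPGroup p G) (hmc : Cfsg.IsMetacyclic G) (L : Subgroup G) :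
    (IsMulCommutative ↥L ↔ Nat.card ↥L ≤ (commutator G).index) ∧
      (Maximal (fun K : Subgroup G => IsMulCommutative ↥K) L ↔ Nat.card ↥L = (commutator G).index) := by
  have hpp : p.Prime := Fact.out
  obtain ⟨N, hNn, a, b, hN, hgen⟩ := exists_gens_of_isMetacyclic hmc
  haveI := hNn
  have hidx := index_commutator_eq_card_centralizer hp hG N a b hN hgen
  have habel : ∀ K : Subgroup G, IsMulCommutative ↥K ↔ Nat.card ↥K ≤ (commutator G).index := by
    intro K
    rw [hidx]
    exact isMulCommutative_iff_card_le hp hG N a b hN hgen K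
  refine ⟨habel L, ?_⟩
  constructor
  · intro hmax
    have hle : Nat.card ↥L ≤ (commutator G).index := (habel L).mp hmax.prop
    by_contra hne
    have hlt : Nat.card ↥L < (commutator G).index := lt_of_le_of_ne hle hne
    obtain ⟨u, hu⟩ := IsPGroup.iff_card.mp (hG.to_subgroup L)
    obtain ⟨w, hw⟩ := IsPGroup.iff_card.mp hG
    obtain ⟨v, hv⟩ : ∃ v, (commutator G).index = p ^ v := by
      rw [hidx]
      exact IsPGroup.iff_card.mp (hG.to_subgroup _)
    have huv : u < v := by
      rw [hu, hv] at hlt
      exact (Nat.pow_lt_pow_iff_right hpp.one_lt).mp hlt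
    have hvw : v ≤ w := by
      have h1 : (commutator G).index ∣ Nat.card G := Subgroup.index_dvd_card _
      rw [hv, hw] at h1
      exact (Nat.pow_dvd_pow_iff_le_right hpp.one_lt).mp h1
    have hdvd : p ^ (u + 1) ∣ Nat.card G := by
      rw [hw]; exact pow_dvd_pow p (by omega)
    obtain ⟨K, hKcard, hLK⟩ := Sylow.exists_subgroup_card_pow_succ hdvd hu
    have hKab : IsMulCommutative ↥K := by
      rw [habel K, hKcard, hv]
      exact Nat.pow_le_pow_right hpp.pos (by omega)
    have hKL : K ≤ L := hmax.le_of_ge hKab hLK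
    have := Subgroup.card_le_of_le hKL
    rw [hKcard, hu] at this
    have := (Nat.pow_le_pow_iff_right hpp.one_lt).mp this
    omega
  · intro hcard
    refine ⟨(habel L).mpr hcard.le, ?_⟩
    intro K hK hLK
    have h1 : Nat.card ↥K ≤ Nat.card ↥L := by rw [hcard]; exact (habel K).mp hK
    exact (Subgroup.eq_of_le_of_card_ge hLK h1).ge

end Cfsg.Agent.S3880
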