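import Mathlib
import Cfsg.Statements.S3881
import Cfsg.Agent.Lib.Helper64.Metacyclic3

set_option autoImplicit false
open Cfsg

namespace Cfsg.Agent.S3881

open Cfsg.Agent.Lib.Helper64 in
/-- Let p be an odd prime and G a finite metacyclic p-group (G has a cyclic normal subgroup with cyclic quotient). Suppose G is non-abelian with |G'| = p^n. Then for 1 ≤ i ≤ n the number of elements of G whose conjugacy class has exactly p^i elements is |Z(G)| · (p^(2i) − p^(2i−2)). -/
theorem result {G : Type*} [Group G] [Finite G] {p : ℕ} [Fact p.Prime] (hp : p ≠ 2) (hG : IsPGroup p G) (hmc : Cfsg.IsMetacyclic G) (n : ℕ) (hn : n ≠ 0) (hGn : Nat.card ↥(commutator G) = p ^ n) (i : ℕ) (hi : 1 ≤ i) (hin : i ≤ n) :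
    Nat.card {g : G // (Subgroup.centralizer ({g} : Set G)).index = p ^ i} =
      Nat.card ↥(Subgroup.center G) * (p ^ (2 * i) - p ^ (2 * i - 2)) := by
  have hpp : p.Prime := Fact.out
  obtain ⟨Z1, hZ1c, hZ1⟩ := exists_subgroup_classLE hp hG hmc n hGn i hin
  obtain ⟨Z0, hZ0c, hZ0⟩ := exists_subgroup_classLE hp hG hmc n hGn (i - 1) (by omega)
  -- index of centralizer is a p-power
  obtain ⟨w, hw⟩ := hG.exists_card_eq
  have hidx : ∀ g : G, ∃ k, (Subgroup.centralizer ({g} : Set G)).index = p ^ k := by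
    intro g
    have h1 : (Subgroup.centralizer ({g} : Set G)).index ∣ p ^ w := by
      rw [← hw]; exact Subgroup.index_dvd_card _
    obtain ⟨k, -, hk⟩ := (Nat.dvd_prime_pow hpp).mp h1
    exact ⟨k, hk⟩
  have hiff : ∀ g : G, (Subgroup.centralizer ({g} : Set G)).index = p ^ i ↔ g ∈ Z1 ∧ g ∉ Z0 := by
    intro g
    rw [hZ1, hZ0]
    obtain ⟨k, hk⟩ := hidx g
    rw [hk]
    constructor
    · intro h
      have hki : k = i := Nat.pow_right_injective hpp.two_le h
      subst hki
      refine ⟨le_rfl, ?_⟩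
      rw [not_le]
      exact Nat.pow_lt_pow_right hpp.one_lt (by omega)
    · rintro ⟨h1, h2⟩
      have h1' : k ≤ i := (Nat.pow_le_pow_iff_right hpp.one_lt).mp h1
      rw [not_le] at h2
      have h2' : i - 1 < k := (Nat.pow_lt_pow_iff_right hpp.one_lt).mp h2
      have : k = i := by omega
      rw [this]
  have hle : Z0 ≤ Z1 := by
    intro g hg
    rw [hZ0] at hg
    rw [hZ1]
    exact hg.trans (Nat.pow_le_pow_right hpp.pos (by omega))
  have hset : {g : G | (Subgroup.centralizer ({g} : Set G)).index = p ^ i} = (Z1 : Set G) \ (Z0 : Set G) := by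
    ext g
    simp only [Set.mem_setOf_eq, Set.mem_diff, SetLike.mem_coe]
    exact hiff g
  have hcard : Nat.card {g : G // (Subgroup.centralizer ({g} : Set G)).index = p ^ i} =
      ((Z1 : Set G) \ (Z0 : Set G)).ncard := by
    rw [← hset]
    rfl
  rw [hcard, Set.ncard_diff (by exact_mod_cast hle) (Set.toFinite _)]
  have e1 : (Z1 : Set G).ncard = Nat.card Z1 := rfl
  have e0 : (Z0 : Set G).ncard = Nat.card Z0 := rfl
  have e2 : 2 * (i - 1) = 2 * i - 2 := by omega
  rw [e2] at hZ0c
  rw [e1, e0, hZ1c, hZ0c]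
  exact (Nat.mul_sub _ _ _).symm

end Cfsg.Agent.S3881
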