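import Cfsg.Statements.S3882
import Cfsg.Agent.Lib.Helper64.Metacyclic3

set_option autoImplicit false
open Cfsg

namespace Cfsg.Agent.S3882

open Cfsg.Agent.Lib.Helper64 in
/-- Main step: in a metacyclic `p`-group (`p` odd) with `|G'| = p^n`, for `s ≤ n` the subgroup
generated by the `p^s`-th powers is exactly the set of elements of class size at most `p^(n-s)`. -/
theorem mem_agemo_iff {G : Type*} [Group G] [Finite G] {p : ℕ} [hpf : Fact p.Prime] (hp : p ≠ 2)
    (hG : IsPGroup p G) (hmc : Cfsg.IsMetacyclic G) (n : ℕ)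
    (hGn : Nat.card ↥(commutator G) = p ^ n) (s : ℕ) (hs : s ≤ n) (g : G) :
    g ∈ Subgroup.closure {x : G | ∃ y : G, y ^ p ^ s = x} ↔
      (Subgroup.centralizer ({g} : Set G)).index ≤ p ^ (n - s) := by
  have hpp : p.Prime := hpf.out
  obtain ⟨N, hNn, a, b, hN, hgen⟩ := exists_gens_of_isMetacyclic hmc
  haveI := hNn
  have hnorm : ∀ x : G, x * a * x⁻¹ ∈ Subgroup.zpowers a := by
    intro x
    rw [← hN]
    exact hNn.conj_mem a (by rw [hN]; exact Subgroup.mem_zpowers a) x
  have hG'N : commutator G ≤ N :=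
    Subgroup.Normal.commutator_le_of_self_sup_commutative_eq_top hgen inferInstance
  have hcommG' : ∀ x g : G, x * g * x⁻¹ * g⁻¹ ∈ commutator G := by
    intro x g
    rw [commutator_def]
    exact Subgroup.commutator_mem_commutator (Subgroup.mem_top x) (Subgroup.mem_top g)
  have hcomm : ∀ x g : G, x * g * x⁻¹ * g⁻¹ ∈ Subgroup.zpowers a := by
    intro x g
    rw [← hN]
    exact hG'N (hcommG' x g)
  -- the subgroup of order p^(n-s) in G'
  obtain ⟨K', hK'⟩ := Sylow.exists_subgroup_card_pow_prime (G := commutator G) p (n := n - s)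
    (by rw [hGn]; exact pow_dvd_pow p (Nat.sub_le n s))
  set K := K'.map (commutator G).subtype with hK
  have hKcard : Nat.card K = p ^ (n - s) := by
    rw [hK, Subgroup.card_map_of_injective (Subgroup.subtype_injective _), hK']
  have hKG' : K ≤ commutator G := Subgroup.map_subtype_le _
  have hKa : K ≤ Subgroup.zpowers a := by rw [← hN]; exact hKG'.trans hG'N
  have hiff := fun g => index_centralizer_le_iff hp hG a hnorm hcomm K hKa (n - s) hKcard g
  obtain ⟨Z, hZcard, hZmem⟩ := exists_subgroup_classLE hp hG hmc n hGn (n - s) (Nat.sub_le n s)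
  set H := Subgroup.closure {x : G | ∃ y : G, y ^ p ^ s = x} with hH
  -- Step 1: p^s-th powers have small classes
  have hpow : ∀ y : G, y ^ p ^ s ∈ Z := by
    intro y
    rw [hZmem, hiff]
    intro x
    -- x g x⁻¹ g⁻¹ = (g x g⁻¹ x⁻¹)⁻¹
    have e : x * y ^ p ^ s * x⁻¹ * (y ^ p ^ s)⁻¹ = (y ^ p ^ s * x * (y ^ p ^ s)⁻¹ * x⁻¹)⁻¹ := by
      group
    rw [e]
    apply inv_mem
    obtain ⟨c, hc0, hcp, hc⟩ := exists_conj_eq_pow hG y a (hnorm y)
    have hsa := hcomm y x
    rw [← mem_powers_iff_mem_zpowers, Submonoid.mem_powers_iff] at hsa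
    obtain ⟨k, hk⟩ := hsa
    set t := y * x * y⁻¹ * x⁻¹ with ht
    have hcs : ∀ i : ℕ, y * t ^ i * y⁻¹ = (t ^ i) ^ c := by
      intro i
      rw [← hk, ← pow_mul]
      exact conj_pow_of_conj_eq_pow hc (k * i)
    rw [pow_conj_comm_eq (x := y) (g := x) (s := t) rfl hcs (p ^ s)]
    obtain ⟨q, hq⟩ := (pow_dvd_geom_sum_iff hp hc0 hcp s (p ^ s)).mpr dvd_rfl
    rw [hq, pow_mul]
    apply pow_mem
    -- t^(p^s) ∈ K
    have htG' : t ∈ commutator G := hcommG' y x
    have h1 : (t ^ p ^ s) ^ p ^ (n - s) = 1 := by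
      rw [← pow_mul, ← pow_add, Nat.add_sub_cancel' hs, ← hGn]
      have := pow_card_eq_one' (G := commutator G) (x := ⟨t, htG'⟩)
      exact congrArg Subtype.val this
    have h2 : Nat.card (Subgroup.zpowers (t ^ p ^ s)) ≤ Nat.card K := by
      rw [Nat.card_zpowers, hKcard]
      exact Nat.le_of_dvd (pow_pos hpp.pos _) (orderOf_dvd_of_pow_eq_one h1)
    have h3 : Subgroup.zpowers (t ^ p ^ s) ≤ Subgroup.zpowers a := by
      rw [Subgroup.zpowers_le]
      exact pow_mem (hcomm y x) _
    exact le_of_card_le_of_le_zpowers hG a _ K h3 hKa h2 (Subgroup.mem_zpowers _)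
  have hHZ : H ≤ Z := by
    rw [hH, Subgroup.closure_le]
    rintro _ ⟨y, rfl⟩
    exact hpow y
  -- Step 2: H is normal
  have hHn : H.Normal := by
    constructor
    intro h hh x
    induction hh using Subgroup.closure_induction with
    | mem z hz =>
      obtain ⟨y, rfl⟩ := hz
      apply Subgroup.subset_closure
      exact ⟨x * y * x⁻¹, by rw [conj_pow]⟩
    | one => simp
    | mul u v _ _ hu hv =>
      have : x * (u * v) * x⁻¹ = (x * u * x⁻¹) * (x * v * x⁻¹) := by group
      rw [this]; exact mul_mem hu hv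
    | inv u _ hu =>
      have : x * u⁻¹ * x⁻¹ = (x * u * x⁻¹)⁻¹ := by group
      rw [this]; exact inv_mem hu
  haveI := hHn
  -- Step 3: the index of H divides p^(2s)
  have hmemH : ∀ y : G, y ^ p ^ s ∈ H := fun y => Subgroup.subset_closure ⟨y, rfl⟩
  have h3a : H.relIndex N ∣ p ^ s := by
    rw [hN]
    exact (pow_mem_iff_relIndex_dvd H a (p ^ s)).mp (hmemH a)
  have hMgen : (H ⊔ N) ⊔ Subgroup.zpowers b = ⊤ := by
    rw [sup_assoc, hgen, sup_top_eq]
  have h3b : (H ⊔ N).index ∣ p ^ s :=
    (pow_mem_iff_index_dvd (H ⊔ N) b hMgen (p ^ s)).mp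
      ((le_sup_left : H ≤ H ⊔ N) (hmemH b))
  have h3c : H.index ∣ p ^ s * p ^ s := by
    rw [← Subgroup.relIndex_mul_index (le_sup_left : H ≤ H ⊔ N), Subgroup.relIndex_sup_left]
    exact mul_dvd_mul h3a h3b
  -- Step 4: counting
  have h4a := H.card_mul_index
  have h4b := (Subgroup.center G).card_mul_index
  rw [Cfsg.Agent.S3879.result hp hG hmc, hGn] at h4b
  have h4c : H.index ≤ p ^ s * p ^ s := Nat.le_of_dvd (Nat.mul_pos (pow_pos hpp.pos s) (pow_pos hpp.pos s)) h3c
  have h4d : Nat.card Z ≤ Nat.card H := by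
    have h5 : Nat.card Z * (p ^ s * p ^ s) = Nat.card G := by
      rw [hZcard, ← h4b]
      have : (p ^ n) ^ 2 = p ^ (2 * (n - s)) * (p ^ s * p ^ s) := by
        rw [← pow_mul, ← pow_add, ← pow_add]
        congr 1
        omega
      rw [this]; ring
    have h6 : Nat.card Z * (p ^ s * p ^ s) ≤ Nat.card H * (p ^ s * p ^ s) := by
      rw [h5, ← h4a]
      exact Nat.mul_le_mul_left _ h4c
    exact Nat.le_of_mul_le_mul_right h6 (Nat.mul_pos (pow_pos hpp.pos s) (pow_pos hpp.pos s))
  have hHZeq : H = Z := Subgroup.eq_of_le_of_card_ge hHZ h4d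
  rw [hHZeq, hZmem]

/-- Let p be an odd prime and G a finite metacyclic p-group (G has a cyclic normal subgroup with cyclic quotient). Suppose |G'| = p^n and 0 ≤ s ≤ n. Then an element g lies in the subgroup generated by the p^s-th powers if and only if its conjugacy class has at most p^(n−s) elements; in particular the subgroup generated by the p^n-th powers is the center of G. -/
theorem result {G : Type*} [Group G] [Finite G] {p : ℕ} [Fact p.Prime] (hp : p ≠ 2) (hG : IsPGroup p G) (hmc : Cfsg.IsMetacyclic G) (n : ℕ) (hGn : Nat.card ↥(commutator G) = p ^ n) (s : ℕ) (hs : s ≤ n) (g : G) :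
    (g ∈ Subgroup.closure {x : G | ∃ y : G, y ^ p ^ s = x} ↔ (Subgroup.centralizer ({g} : Set G)).index ≤ p ^ (n - s)) ∧
      Subgroup.closure {x : G | ∃ y : G, y ^ p ^ n = x} = Subgroup.center G := by
  refine ⟨mem_agemo_iff hp hG hmc n hGn s hs g, ?_⟩
  ext x
  rw [mem_agemo_iff hp hG hmc n hGn n le_rfl x, Nat.sub_self, pow_zero]
  constructor
  · intro h
    have h1 : (Subgroup.centralizer ({x} : Set G)).index = 1 := by
      have := Nat.pos_of_ne_zero (Subgroup.index_ne_zero_of_finite (H := Subgroup.centralizer ({x} : Set G)))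
      omega
    rw [Subgroup.index_eq_one] at h1
    rw [Subgroup.mem_center_iff]
    intro y
    have : y ∈ Subgroup.centralizer ({x} : Set G) := by rw [h1]; trivial
    rw [Subgroup.mem_centralizer_singleton_iff] at this
    exact this
  · intro h
    have h1 : Subgroup.centralizer ({x} : Set G) = ⊤ := by
      rw [eq_top_iff]
      intro y _
      rw [Subgroup.mem_centralizer_singleton_iff]
      exact (Subgroup.mem_center_iff.mp h y)
    rw [h1, Subgroup.index_top]

end Cfsg.Agent.S3882
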