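import Cfsg.Statements.S3883
import Cfsg.Agent.S3882
import Cfsg.Agent.S3880
import Cfsg.Agent.Lib.Helper96.ElemAb
import Cfsg.Agent.Lib.Helper1.PGroupMax

set_option autoImplicit false
open Cfsg

namespace Cfsg.Agent.S3883

/-- `p`-th powers lie in the Frattini subgroup of a finite `p`-group. -/
theorem pow_prime_mem_frattini' {P : Type*} [Group P] [Finite P] {p : ℕ} [Fact p.Prime]
    (hP : IsPGroup p P) (x : P) : x ^ p ∈ frattini P := by
  unfold frattini Order.radical
  rw [Subgroup.mem_iInf]
  intro M
  rw [Subgroup.mem_iInf]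
  intro hM
  have hM : IsCoatom M := hM
  have hn : M.Normal := Cfsg.Agent.Lib.Helper1.coatom_normal_of_isPGroup hP hM
  have hi : M.index = p := Cfsg.Agent.Lib.Helper1.coatom_index_of_isPGroup hP hM
  have hcard : Nat.card (P ⧸ M) = p := by rw [← hi]; rfl
  rw [← QuotientGroup.eq_one_iff]
  have h := pow_card_eq_one' (G := P ⧸ M) (x := (x : P ⧸ M))
  rw [hcard] at h
  simpa using h

open Cfsg.Agent.Lib.Helper64 in
/-- In a non-abelian metacyclic `p`-group (`p` odd) the Frattini subgroup is generated by the `p`-th
powers. -/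
theorem frattini_eq_agemo {G : Type*} [Group G] [Finite G] {p : ℕ} [hpf : Fact p.Prime] (hp : p ≠ 2)
    (hG : IsPGroup p G) (hmc : Cfsg.IsMetacyclic G) (n : ℕ) (hn : n ≠ 0)
    (hGn : Nat.card ↥(commutator G) = p ^ n) :
    frattini G = Subgroup.closure {x : G | ∃ y : G, y ^ p ^ 1 = x} := by
  have hpp : p.Prime := hpf.out
  set H := Subgroup.closure {x : G | ∃ y : G, y ^ p ^ 1 = x} with hH
  have hmemH : ∀ y : G, y ^ p ∈ H := fun y => Subgroup.subset_closure ⟨y, by rw [pow_one]⟩
  apply le_antisymm
  · -- H is normal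
    have hHn : H.Normal := by
      constructor
      intro h hh x
      induction hh using Subgroup.closure_induction with
      | mem z hz =>
        obtain ⟨y, rfl⟩ := hz
        apply Subgroup.subset_closure
        exact ⟨x * y * x⁻¹, by rw [conj_pow]⟩
      | one => simp
      | mul u v _ _ hu hv =>
        have : x * (u * v) * x⁻¹ = (x * u * x⁻¹) * (x * v * x⁻¹) := by group
        rw [this]; exact mul_mem hu hv
      | inv u _ hu =>
        have : x * u⁻¹ * x⁻¹ = (x * u * x⁻¹)⁻¹ := by group
        rw [this]; exact inv_mem hu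
    -- the index of H is p^2
    obtain ⟨Z, hZcard, hZmem⟩ := exists_subgroup_classLE hp hG hmc n hGn (n - 1) (Nat.sub_le n 1)
    have hHZ : H = Z := by
      ext g
      rw [hZmem, hH, Cfsg.Agent.S3882.mem_agemo_iff hp hG hmc n hGn 1 (by omega) g]
    have hidx : H.index = p ^ 2 := by
      have h1 := H.card_mul_index
      have h2 := (Subgroup.center G).card_mul_index
      rw [Cfsg.Agent.S3879.result hp hG hmc, hGn] at h2
      rw [hHZ, hZcard, ← h2] at h1
      have h3 : (p ^ n) ^ 2 = p ^ (2 * (n - 1)) * p ^ 2 := by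
        rw [← pow_mul, ← pow_add]
        congr 1
        omega
      rw [h3, mul_assoc] at h1
      have h4 := Nat.eq_of_mul_eq_mul_left Nat.card_pos h1
      rw [← hHZ] at h4
      exact Nat.eq_of_mul_eq_mul_left (pow_pos hpp.pos _) h4
    have hQcard : Nat.card (G ⧸ H) = p ^ 2 := by rw [← hidx]; rfl
    have hQcomm : IsMulCommutative (G ⧸ H) := IsPGroup.isMulCommutative_of_card_eq_prime_sq hQcard
    have hsurj : Function.Surjective (QuotientGroup.mk' H) := QuotientGroup.mk'_surjective H
    have h1 := frattini_le_comap_frattini_of_surjective hsurj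
    have h2 : frattini (G ⧸ H) = ⊥ := by
      apply Cfsg.Agent.Lib.Helper96.frattini_eq_bot_of_elemAb p
      · intro a b; exact hQcomm.is_comm.comm a b
      · intro x
        obtain ⟨g, rfl⟩ := hsurj x
        rw [← map_pow]
        have : g ^ p ∈ (QuotientGroup.mk' H).ker := by
          rw [QuotientGroup.ker_mk']; exact hmemH g
        exact this
    rw [h2] at h1
    intro x hx
    have := h1 hx
    rw [Subgroup.mem_comap, Subgroup.mem_bot] at this
    have h3 : x ∈ (QuotientGroup.mk' H).ker := this
    rwa [QuotientGroup.ker_mk'] at h3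
  · rw [hH, Subgroup.closure_le]
    rintro _ ⟨y, rfl⟩
    rw [pow_one]
    exact pow_prime_mem_frattini' hG y

/-- Let p be an odd prime and G a finite metacyclic p-group (G has a cyclic normal subgroup with cyclic quotient). Suppose G is non-abelian. Then an element g of G lies outside the Frattini subgroup if and only if its centralizer C_G(g) is abelian. -/
theorem result {G : Type*} [Group G] [Finite G] {p : ℕ} [Fact p.Prime] (hp : p ≠ 2) (hG : IsPGroup p G) (hmc : Cfsg.IsMetacyclic G) (hna : ¬ IsMulCommutative G) (g : G) :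
    g ∉ frattini G ↔ IsMulCommutative ↥(Subgroup.centralizer ({g} : Set G)) := by
  have hpp : p.Prime := Fact.out
  obtain ⟨n, hGn⟩ := IsPGroup.iff_card.mp (hG.to_subgroup (commutator G))
  have hn : n ≠ 0 := by
    rintro rfl
    rw [pow_zero, Subgroup.card_eq_one] at hGn
    apply hna
    constructor
    constructor
    intro x y
    have h1 : x * y * x⁻¹ * y⁻¹ ∈ commutator G := by
      rw [commutator_def]
      exact Subgroup.commutator_mem_commutator (Subgroup.mem_top x) (Subgroup.mem_top y)
    rw [hGn, Subgroup.mem_bot] at h1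
    calc x * y = (x * y * x⁻¹ * y⁻¹) * (y * x) := by group
      _ = y * x := by rw [h1, one_mul]
  rw [frattini_eq_agemo hp hG hmc n hn hGn, Cfsg.Agent.S3882.mem_agemo_iff hp hG hmc n hGn 1 (by omega) g,
    (Cfsg.Agent.S3880.result hp hG hmc (Subgroup.centralizer ({g} : Set G))).1]
  set C := Subgroup.centralizer ({g} : Set G) with hC
  have h1 := C.card_mul_index
  have h2 := (commutator G).card_mul_index
  rw [hGn] at h2
  have h3 : C.index ≤ p ^ n := by
    rw [← hGn]
    apply Cfsg.Agent.Lib.Helper64.index_centralizer_le_card (commutator G) g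
    intro x
    rw [commutator_def]
    exact Subgroup.commutator_mem_commutator (Subgroup.mem_top x) (Subgroup.mem_top g)
  obtain ⟨k, hk⟩ := hG.index C
  have hCpos : 0 < Nat.card C := Nat.card_pos
  have hidxpos : 0 < (commutator G).index := Nat.pos_of_ne_zero Subgroup.index_ne_zero_of_finite
  constructor
  · intro h
    push Not at h
    -- index = p^n
    have h4 : C.index = p ^ n := by
      rw [hk] at h h3 ⊢
      have h5 : n - 1 < k := (Nat.pow_lt_pow_iff_right hpp.one_lt).mp h
      have h6 : k ≤ n := (Nat.pow_le_pow_iff_right hpp.one_lt).mp h3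
      have : k = n := by omega
      rw [this]
    rw [h4] at h1
    have h7 : Nat.card C * p ^ n = (commutator G).index * p ^ n := by
      rw [h1, ← h2, mul_comm]
    exact (Nat.eq_of_mul_eq_mul_right (pow_pos hpp.pos n) h7).le
  · intro h hle
    have h4 : p ^ n ≤ C.index := by
      have h5 : Nat.card C * p ^ n ≤ Nat.card C * C.index := by
        rw [h1, ← h2, mul_comm]
        exact Nat.mul_le_mul_left _ h
      exact Nat.le_of_mul_le_mul_left h5 hCpos
    have h6 : p ^ n ≤ p ^ (n - 1) := h4.trans hle
    have h7 := (Nat.pow_le_pow_iff_right hpp.one_lt).mp h6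
    omega

end Cfsg.Agent.S3883
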