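import Cfsg.Statements.S3886
import Cfsg.Agent.Lib.Helper65.MetaCD
import Cfsg.Agent.S3880
import Cfsg.Agent.S3882

set_option autoImplicit false
open Cfsg

namespace Cfsg.Agent.S3886

open Cfsg.Agent.Lib.Helper64 Cfsg.Agent.Lib.Helper65

/-- the centre of a subgroup `R`, as a subgroup of `G`, is `R ⊓ C_G(R)` -/
lemma card_center_subgroup {G : Type*} [Group G] (R : Subgroup G) :
    Nat.card (Subgroup.center ↥R) = Nat.card (Subgroup.centralizer (R : Set G) ⊓ R : Subgroup G) := by
  have h1 : Subgroup.center ↥R = (Subgroup.centralizer (R : Set G)).subgroupOf R := by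
    ext z
    rw [Subgroup.mem_center_iff, Subgroup.mem_subgroupOf, Subgroup.mem_centralizer_iff]
    constructor
    · intro h x hx
      exact congrArg Subtype.val (h ⟨x, hx⟩)
    · intro h x
      exact Subtype.ext (h x x.2)
  rw [h1, ← Subgroup.inf_subgroupOf_right]
  exact Nat.card_congr (Subgroup.subgroupOfEquivOfLe inf_le_right).toEquiv

/-- `|G| |Z(G)| = |G : G'|²` -/
lemma card_mul_card_center {G : Type*} [Group G] [Finite G] {p : ℕ} [Fact p.Prime] (hp : p ≠ 2)
    (hG : IsPGroup p G) (hmc : Cfsg.IsMetacyclic G) :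
    Nat.card G * Nat.card (Subgroup.center G) = (commutator G).index ^ 2 := by
  have h1 := (Subgroup.center G).card_mul_index
  have h2 := (commutator G).card_mul_index
  rw [Cfsg.Agent.S3879.result hp hG hmc] at h1
  have h3 : 0 < Nat.card (commutator G) ^ 2 := pow_pos Nat.card_pos 2
  apply Nat.eq_of_mul_eq_mul_right h3
  calc Nat.card G * Nat.card (Subgroup.center G) * Nat.card (commutator G) ^ 2
      = Nat.card G * (Nat.card (Subgroup.center G) * Nat.card (commutator G) ^ 2) := by ring
    _ = Nat.card G * Nat.card G := by rw [h1]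
    _ = (commutator G).index ^ 2 * Nat.card (commutator G) ^ 2 := by rw [← h2]; ring

/-- a non-abelian subgroup of a metacyclic `p`-group (`p` odd) contains the centre -/
lemma center_le_of_not_comm {G : Type*} [Group G] [Finite G] {p : ℕ} [hpf : Fact p.Prime] (hp : p ≠ 2)
    (hG : IsPGroup p G) (hmc : Cfsg.IsMetacyclic G) (R : Subgroup G) (hR : ¬ IsMulCommutative ↥R) :
    Subgroup.center G ≤ R := by
  have hpp : p.Prime := hpf.out
  obtain ⟨n, hGn⟩ := IsPGroup.iff_card.mp (hG.to_subgroup (commutator G))
  have h1 := (Cfsg.Agent.S3882.result hp hG hmc n hGn 0 (Nat.zero_le n) 1).2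
  rw [← h1, Subgroup.closure_le]
  rintro _ ⟨y, rfl⟩
  rw [SetLike.mem_coe, pow_mem_iff_relIndex_dvd R y (p ^ n)]
  have h2 : ¬ Nat.card R ≤ (commutator G).index := fun h =>
    hR ((Cfsg.Agent.S3880.result hp hG hmc R).1.mpr h)
  push Not at h2
  have h3 := R.card_mul_index
  have h4 := (commutator G).card_mul_index
  rw [hGn] at h4
  have h5 : R.index < p ^ n := by
    by_contra hcon
    push Not at hcon
    have : Nat.card R * R.index > Nat.card G := by
      calc Nat.card G = p ^ n * (commutator G).index := h4.symm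
        _ < p ^ n * Nat.card R := Nat.mul_lt_mul_of_pos_left h2 (pow_pos hpp.pos n)
        _ = Nat.card R * p ^ n := mul_comm _ _
        _ ≤ Nat.card R * R.index := Nat.mul_le_mul_left _ hcon
    omega
  have h6 : R.relIndex (Subgroup.zpowers y) ≤ R.index := by
    rw [← Subgroup.relIndex_top_right]
    exact Subgroup.relIndex_le_of_le_right le_top
      (by rw [Subgroup.relIndex_top_right]; exact Subgroup.index_ne_zero_of_finite)
  have h7 : R.relIndex (Subgroup.zpowers y) ∣ Nat.card (Subgroup.zpowers y) := Subgroup.relIndex_dvd_card _ _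
  obtain ⟨k, hk⟩ := IsPGroup.iff_card.mp (hG.to_subgroup (Subgroup.zpowers y))
  rw [hk] at h7
  obtain ⟨j, _, hj⟩ := (Nat.dvd_prime_pow hpp).mp h7
  rw [hj] at h6 ⊢
  have h8 : p ^ j < p ^ n := lt_of_le_of_lt h6 h5
  exact pow_dvd_pow p ((Nat.pow_lt_pow_iff_right hpp.one_lt).mp h8).le

/-- `|R| |Z(R)| = |G : G'|²` for a non-abelian subgroup `R`. -/
lemma card_mul_center_of_not_comm {G : Type*} [Group G] [Finite G] {p : ℕ} [hpf : Fact p.Prime]
    (hp : p ≠ 2) (hG : IsPGroup p G) (hmc : Cfsg.IsMetacyclic G) (R : Subgroup G)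
    (hR : ¬ IsMulCommutative ↥R) :
    Nat.card R * Nat.card (Subgroup.center ↥R) = (commutator G).index ^ 2 := by
  have hZ := center_le_of_not_comm hp hG hmc R hR
  have h1 := cd_eq hp hG hmc R hZ
  rw [card_mul_card_center hp hG hmc] at h1
  set S := Subgroup.centralizer (R : Set G) with hS
  have h2 : ¬ Nat.card R ≤ (commutator G).index := fun h =>
    hR ((Cfsg.Agent.S3880.result hp hG hmc R).1.mpr h)
  push Not at h2
  have h3 : Nat.card S ≤ (commutator G).index := by
    by_contra hcon
    push Not at hcon
    have : (commutator G).index ^ 2 < Nat.card R * Nat.card S := by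
      rw [sq]
      exact Nat.mul_lt_mul'' h2 hcon
    omega
  have h4 : IsMulCommutative S := (Cfsg.Agent.S3880.result hp hG hmc S).1.mpr h3
  have h5 : S ≤ R := by
    have := Subgroup.le_centralizer_iff_isMulCommutative.mpr h4
    rwa [centralizer_centralizer_eq hp hG hmc R hZ] at this
  rw [card_center_subgroup, inf_eq_left.mpr h5, h1]

/-- Let p be an odd prime and G a finite metacyclic p-group (G has a cyclic normal subgroup with cyclic quotient). Then the largest value of |R| · |Z(R)| over subgroups R of G is |G : G'|², and the subgroups attaining it (the centrally large subgroups) are exactly the non-abelian subgroups together with the maximal abelian subgroups of G. -/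
theorem result {G : Type*} [Group G] [Finite G] {p : ℕ} [Fact p.Prime] (hp : p ≠ 2) (hG : IsPGroup p G) (hmc : Cfsg.IsMetacyclic G) : Cfsg.maxCentralProduct G = (commutator G).index ^ 2 ∧
    ∀ R : Subgroup G, Cfsg.IsCentrallyLarge R ↔ (¬ IsMulCommutative ↥R ∨ Maximal (fun K : Subgroup G => IsMulCommutative ↥K) R) := by
  have hab : ∀ R : Subgroup G, IsMulCommutative ↥R →
      Nat.card R * Nat.card (Subgroup.center ↥R) = Nat.card R * Nat.card R := by
    intro R hR
    have : Subgroup.center ↥R = ⊤ := by
      rw [eq_top_iff]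
      intro z _
      rw [Subgroup.mem_center_iff]
      intro g
      exact hR.is_comm.comm g z
    rw [this, Subgroup.card_top]
  have hle : ∀ R : Subgroup G, Nat.card R * Nat.card (Subgroup.center ↥R) ≤ (commutator G).index ^ 2 := by
    intro R
    by_cases hR : IsMulCommutative ↥R
    · rw [hab R hR, sq]
      have := (Cfsg.Agent.S3880.result hp hG hmc R).1.mp hR
      exact Nat.mul_le_mul this this
    · exact (card_mul_center_of_not_comm hp hG hmc R hR).le
  have htop : Nat.card (⊤ : Subgroup G) * Nat.card (Subgroup.center ↥(⊤ : Subgroup G)) =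
      (commutator G).index ^ 2 := by
    rw [card_center_subgroup, Subgroup.coe_top, Subgroup.centralizer_univ, inf_top_eq, Subgroup.card_top]
    exact card_mul_card_center hp hG hmc
  have hmax : Cfsg.maxCentralProduct G = (commutator G).index ^ 2 := by
    unfold Cfsg.maxCentralProduct
    apply IsGreatest.csSup_eq
    constructor
    · exact ⟨⊤, htop⟩
    · rintro k ⟨R, rfl⟩
      exact hle R
  refine ⟨hmax, ?_⟩
  intro R
  unfold Cfsg.IsCentrallyLarge
  rw [hmax]
  by_cases hR : IsMulCommutative ↥R
  · rw [hab R hR, (Cfsg.Agent.S3880.result hp hG hmc R).2]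
    constructor
    · intro h
      right
      rw [sq] at h
      exact Nat.mul_self_inj.mp h
    · rintro (h | h)
      · exact absurd hR h
      · rw [h, sq]
  · constructor
    · intro _
      exact Or.inl hR
    · intro _
      exact card_mul_center_of_not_comm hp hG hmc R hR

end Cfsg.Agent.S3886
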