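import Cfsg.Statements.S3888
import Cfsg.Agent.S0128
import Cfsg.Agent.Lib.Helper24.MetaOfHP
import Cfsg.Agent.Lib.Helper29.EA4Basic
import Cfsg.Agent.Lib.Helper70.R2CaseB5
import Cfsg.Agent.Lib.Helper73.R2A

set_option autoImplicit false
open Cfsg

namespace Cfsg.Agent.S3888

/-- The classification of the p-groups of rank at most two for odd p. Let p be an odd prime and G a group of order p^n with no elementary abelian subgroup of order p³. Then one of the following holds: G is metacyclic; n ≥ 3 and G is generated by elements x, y, z with x^p = y^p = z^(p^(n−2)) = 1, z commuting with x and y, and x⁻¹yx = y z^(p^(n−3)); n ≥ 4 and G is generated by elements x, y, z with x^p = y^p = z^(p^(n−2)) = 1, yz = zy, x⁻¹yx = y z^(s p^(n−3)) and x⁻¹zx = yz, where s = 1 or s is a quadratic non-residue modulo p; or p = 3 and G has maximal class (nilpotency class n − 1). -/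
theorem result {G : Type*} [Group G] [Finite G] {p : ℕ} [Fact p.Prime] (hp : p ≠ 2) (n : ℕ) (hG : Nat.card G = p ^ n)
    (hrk : Cfsg.PRankLE p 2 G) :
    Cfsg.IsMetacyclic G ∨
    (3 ≤ n ∧ ∃ x y z : G, Subgroup.closure ({x, y, z} : Set G) = ⊤ ∧ x ^ p = 1 ∧ y ^ p = 1 ∧ z ^ p ^ (n - 2) = 1 ∧
        x * z = z * x ∧ y * z = z * y ∧ x⁻¹ * y * x = y * z ^ p ^ (n - 3)) ∨
    (4 ≤ n ∧ ∃ (s : ℕ) (x y z : G), (s = 1 ∨ ¬ IsSquare (s : ZMod p)) ∧ Subgroup.closure ({x, y, z} : Set G) = ⊤ ∧
        x ^ p = 1 ∧ y ^ p = 1 ∧ z ^ p ^ (n - 2) = 1 ∧ y * z = z * y ∧ x⁻¹ * y * x = y * z ^ (s * p ^ (n - 3)) ∧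
        x⁻¹ * z * x = y * z) ∨
    (p = 3 ∧ 2 ≤ n ∧ (⊤ : Subgroup G).lowerCentralSeries (n - 2) ≠ ⊥) := by
  have hGp : IsPGroup p G := IsPGroup.of_card hG
  by_cases hA : ∃ E : Subgroup G, E.Normal ∧ Nat.card E = p ^ 3 ∧ ∀ x ∈ E, x ^ p = 1
  · obtain ⟨E, hEn, hEc, hEe⟩ := hA
    rcases Cfsg.Agent.Lib.Helper73.R2A.rank_two_caseA hp n hG hrk E hEn hEc hEe with h | h
    · exact Or.inr (Or.inl h)
    · exact Or.inr (Or.inr (Or.inl h))
  · by_cases hp3 : p = 3
    · subst hp3
      rcases Cfsg.Agent.Lib.Helper70.R2.rank_two_caseB_three n hG hrk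
        (fun N hNn hNc hNe => hA ⟨N, hNn, hNc, hNe⟩) with h | h
      · exact Or.inl h
      · exact Or.inr (Or.inr (Or.inr ⟨rfl, h⟩))
    · left
      have hpp : p.Prime := Fact.out
      have hp3' : 3 < p := by
        have h2 := hpp.two_le
        rcases Nat.lt_or_ge 3 p with h | h
        · exact h
        · exfalso
          interval_cases p
          · exact hp rfl
          · exact hp3 rfl
      apply Cfsg.Agent.Lib.Helper24.metacyclic_of_HP hp3' hGp
      -- every subgroup of exponent `p` has order at most `p ^ 2`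
      set Ω : Subgroup G := Subgroup.closure {x : G | x ^ p = 1} with hΩ
      have hΩexp : ∀ g ∈ Ω, g ^ p = 1 := fun g hg =>
        Cfsg.Agent.S0128.result hp3' hGp (fun E hE => hrk E hE.1 hE.2) g hg
      have hΩn : Ω.Normal := by
        rw [← Subgroup.normalizer_eq_top_iff, eq_top_iff, hΩ, Subgroup.le_normalizer_closure_iff]
        rintro r - g hg
        apply Subgroup.subset_closure
        show (r * g * r⁻¹) ^ p = 1
        rw [conj_pow, hg, mul_one, mul_inv_cancel]
      have hΩcard : Nat.card Ω ≤ p ^ 2 := by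
        by_contra hcon
        push Not at hcon
        obtain ⟨k, hk⟩ := (hGp.to_subgroup Ω).exists_card_eq
        have hk3 : 3 ≤ k := by
          rw [hk] at hcon
          have := (Nat.pow_lt_pow_iff_right hpp.one_lt).mp hcon
          omega
        have h3 : p ^ 3 ≤ Nat.card Ω := by
          rw [hk]; exact Nat.pow_le_pow_right hpp.pos hk3
        obtain ⟨M, hMn, hMΩ, hMc⟩ :=
          Cfsg.Agent.Lib.Helper29.exists_normal_le_card_eq hGp Ω 3 h3
        exact hA ⟨M, hMn, hMc, fun x hx => hΩexp x (hMΩ hx)⟩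
      intro W hW
      have hWΩ : W ≤ Ω := fun w hw => Subgroup.subset_closure (hW w hw)
      exact (Subgroup.card_le_of_le hWΩ).trans hΩcard

end Cfsg.Agent.S3888
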