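import Cfsg.Statements.S3889
-- import your own Cfsg.Agent.* helpers here

set_option autoImplicit false
open Cfsg

namespace Cfsg.Agent.S3889

/-- Key step: for nontrivial `x ∈ B`, `y ∈ C` in different members, `orderOf y ∣ orderOf x`. -/
theorem order_dvd {G : Type*} [CommGroup G] [Finite G] (𝓑 : Set (Subgroup G))
    (hcov : ∀ g : G, ∃ B ∈ 𝓑, g ∈ B) (hdisj : ∀ B ∈ 𝓑, ∀ C ∈ 𝓑, B ≠ C → B ⊓ C = ⊥)
    {B C : Subgroup G} (hB : B ∈ 𝓑) (hC : C ∈ 𝓑) (hBC : B ≠ C) {x y : G} (hx : x ∈ B) (hy : y ∈ C)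
    (hx1 : x ≠ 1) : orderOf y ∣ orderOf x := by
  apply orderOf_dvd_of_pow_eq_one
  by_contra hne
  obtain ⟨D, hD, hxyD⟩ := hcov (x * y)
  have h1 : (x * y) ^ orderOf x = y ^ orderOf x := by
    rw [mul_pow, pow_orderOf_eq_one, one_mul]
  have h2 : y ^ orderOf x ∈ D := by
    rw [← h1]; exact D.pow_mem hxyD _
  have h3 : y ^ orderOf x ∈ C := C.pow_mem hy _
  have hDC : D = C := by
    by_contra hDC
    have := hdisj D hD C hC hDC
    have h4 : y ^ orderOf x ∈ D ⊓ C := ⟨h2, h3⟩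
    rw [this, Subgroup.mem_bot] at h4
    exact hne h4
  subst hDC
  have hxD : x ∈ D := by
    have : x = (x * y) * y⁻¹ := by group
    rw [this]; exact D.mul_mem hxyD (D.inv_mem hy)
  have h5 : x ∈ B ⊓ D := ⟨hx, hxD⟩
  rw [hdisj B hB D hD hBC, Subgroup.mem_bot] at h5
  exact hx1 h5

theorem order_eq {G : Type*} [CommGroup G] [Finite G] (𝓑 : Set (Subgroup G))
    (hprop : ∀ B ∈ 𝓑, B ≠ ⊤)
    (hcov : ∀ g : G, ∃ B ∈ 𝓑, g ∈ B) (hdisj : ∀ B ∈ 𝓑, ∀ C ∈ 𝓑, B ≠ C → B ⊓ C = ⊥)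
    {x y : G} (hx1 : x ≠ 1) (hy1 : y ≠ 1) : orderOf x = orderOf y := by
  obtain ⟨B, hB, hxB⟩ := hcov x
  obtain ⟨C, hC, hyC⟩ := hcov y
  by_cases hBC : B = C
  · subst hBC
    -- pick z outside B
    have : ∃ z : G, z ∉ B := by
      by_contra h
      push Not at h
      exact hprop B hB (by rw [eq_top_iff]; intro z _; exact h z)
    obtain ⟨z, hz⟩ := this
    obtain ⟨D, hD, hzD⟩ := hcov z
    have hBD : B ≠ D := by
      intro h; subst h; exact hz hzD
    have hz1 : z ≠ 1 := by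
      intro h; subst h; exact hz B.one_mem
    have e1 : orderOf x = orderOf z :=
      Nat.dvd_antisymm (order_dvd 𝓑 hcov hdisj hD hB hBD.symm hzD hxB hz1)
        (order_dvd 𝓑 hcov hdisj hB hD hBD hxB hzD hx1)
    have e2 : orderOf y = orderOf z :=
      Nat.dvd_antisymm (order_dvd 𝓑 hcov hdisj hD hB hBD.symm hzD hyC hz1)
        (order_dvd 𝓑 hcov hdisj hB hD hBD hyC hzD hy1)
    rw [e1, e2]
  · exact Nat.dvd_antisymm (order_dvd 𝓑 hcov hdisj hC hB (Ne.symm hBC) hyC hxB hy1)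
      (order_dvd 𝓑 hcov hdisj hB hC hBC hxB hyC hx1)

/-- A finite abelian group that is the union of a family of proper subgroups any two of which intersect trivially is elementary abelian: its exponent is a prime. -/
theorem result {G : Type*} [CommGroup G] [Finite G] (𝓑 : Set (Subgroup G)) (hprop : ∀ B ∈ 𝓑, B ≠ ⊤)
    (hcov : ∀ g : G, ∃ B ∈ 𝓑, g ∈ B) (hdisj : ∀ B ∈ 𝓑, ∀ C ∈ 𝓑, B ≠ C → B ⊓ C = ⊥) :
    (Monoid.exponent G).Prime := by
  -- G is nontrivial
  obtain ⟨B, hB, -⟩ := hcov 1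
  have : ∃ z : G, z ∉ B := by
    by_contra h
    push Not at h
    exact hprop B hB (by rw [eq_top_iff]; intro z _; exact h z)
  obtain ⟨z, hz⟩ := this
  have hz1 : z ≠ 1 := by
    intro h; subst h; exact hz B.one_mem
  have : Nontrivial G := ⟨⟨z, 1, hz1⟩⟩
  -- the common order
  set n := orderOf z with hn
  have hn1 : n ≠ 1 := by
    rw [hn, Ne, orderOf_eq_one_iff]; exact hz1
  have hnpos : 0 < n := orderOf_pos z
  -- n is prime
  have hprime : n.Prime := by
    set p := n.minFac with hp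
    have hpp : p.Prime := Nat.minFac_prime hn1
    have hpd : p ∣ n := Nat.minFac_dvd n
    obtain ⟨m, hm⟩ := hpd
    have hm0 : m ≠ 0 := by
      rintro rfl; omega
    have hmd : m ∣ orderOf z := ⟨p, by rw [← hn, hm, mul_comm]⟩
    have h1 : orderOf (z ^ m) = p := by
      rw [orderOf_pow_of_dvd hm0 hmd, ← hn, hm]
      exact Nat.mul_div_cancel _ (Nat.pos_of_ne_zero hm0)
    have h2 : z ^ m ≠ 1 := by
      intro h
      rw [h, orderOf_one] at h1
      exact hpp.one_lt.ne h1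
    have h3 : orderOf (z ^ m) = orderOf z := order_eq 𝓑 hprop hcov hdisj h2 hz1
    rw [h1, ← hn] at h3
    rw [← h3]; exact hpp
  have : Monoid.exponent G = n := by
    rw [Monoid.exponent_eq_prime_iff hprime]
    intro g hg
    exact order_eq 𝓑 hprop hcov hdisj hg hz1
  rw [this]; exact hprime

end Cfsg.Agent.S3889
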