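import Cfsg.Statements.S3890
import Cfsg.Agent.Lib.Helper65.NilpCover

set_option autoImplicit false
open Cfsg

namespace Cfsg.Agent.S3890

/-- A cover of a group is a finite set of proper subgroups whose union is the whole group; it is minimal when no cover has fewer members, and nilpotent when all its members are nilpotent. Let G be a finite group with trivial center admitting a nilpotent minimal cover 𝓐, and let P be an abelian Sylow p-subgroup of G that is not normal. Then either P is elementary abelian of order greater than p, or P is a Sylow p-subgroup of some member A of 𝓐, the normalizer N of P is a maximal subgroup of G, N meets each of its conjugates by elements outside N in a subgroup of order prime to p, and the centralizer of P equals A. -/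
theorem result {G : Type*} [Group G] [Finite G] (hZ : Subgroup.center G = ⊥) (𝓐 : Finset (Subgroup G))
    (h𝓐 : ((∀ A ∈ 𝓐, A ≠ ⊤) ∧ (∀ g : G, ∃ A ∈ 𝓐, g ∈ A)) ∧ (∀ 𝓑 : Finset (Subgroup G), (∀ A ∈ 𝓑, A ≠ ⊤) ∧ (∀ g : G, ∃ A ∈ 𝓑, g ∈ A) → 𝓐.card ≤ 𝓑.card) ∧ (∀ A ∈ 𝓐, Group.IsNilpotent ↥A)) {p : ℕ} [Fact p.Prime] (P : Sylow p G) (hab : IsMulCommutative ↥(P : Subgroup G))
    (hnn : ¬ (P : Subgroup G).Normal) :
    (Cfsg.IsElementaryAbelian p (P : Subgroup G) ∧ p < Nat.card ↥(P : Subgroup G)) ∨
    (∃ A ∈ 𝓐, (P : Subgroup G) ≤ A ∧ ¬ p ∣ ((P : Subgroup G).subgroupOf A).index ∧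
      IsCoatom (Subgroup.normalizer ((P : Subgroup G) : Set G)) ∧
      (∀ g : G, g ∉ Subgroup.normalizer ((P : Subgroup G) : Set G) →
        ¬ p ∣ Nat.card ↥(Subgroup.normalizer ((P : Subgroup G) : Set G) ⊓
          (Subgroup.normalizer ((P : Subgroup G) : Set G)).map (MulAut.conj g).toMonoidHom)) ∧
      Subgroup.centralizer ((P : Subgroup G) : Set G) = A) := by
  have hp : p.Prime := Fact.out
  have hcomm : ∀ a ∈ (P : Subgroup G), ∀ b ∈ (P : Subgroup G), a * b = b * a := by
    intro a ha b hb
    have := hab.is_comm.comm ⟨a, ha⟩ ⟨b, hb⟩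
    simpa using congrArg Subtype.val this
  by_cases hel : Cfsg.IsElementaryAbelian p (P : Subgroup G) ∧ p < Nat.card ↥(P : Subgroup G)
  · left; exact hel
  right
  have hgood : Cfsg.Agent.Lib.Helper65.GoodSylow P := by
    refine ⟨hcomm, hnn, ?_⟩
    by_cases hexp : ∀ a ∈ (P : Subgroup G), a ^ p = 1
    · left
      have hle : ¬ p < Nat.card ↥(P : Subgroup G) := fun h => hel ⟨⟨hab, hexp⟩, h⟩
      obtain ⟨k, hk⟩ := IsPGroup.iff_card.mp P.2
      have hk1 : k ≤ 1 := by
        by_contra hk2
        push Not at hk2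
        apply hle
        rw [hk]
        calc p = p ^ 1 := (pow_one p).symm
          _ < p ^ k := Nat.pow_lt_pow_right hp.one_lt hk2
      interval_cases k
      · exfalso
        apply hnn
        have : (P : Subgroup G) = ⊥ := Subgroup.card_eq_one.mp (by simpa using hk)
        rw [this]; infer_instance
      · exact isCyclic_of_prime_card (by simpa using hk)
    · right
      push Not at hexp
      exact hexp
  obtain ⟨A, hA, hPA, hcent, hmax, hTI⟩ := Cfsg.Agent.Lib.Helper65.main_structure hZ h𝓐 P hgood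
  have hNtop : Subgroup.normalizer ((P : Subgroup G) : Set G) ≠ ⊤ := by
    intro h; apply hnn; exact Subgroup.normalizer_eq_top_iff.mp h
  have hAN : A ≤ Subgroup.normalizer ((P : Subgroup G) : Set G) := by
    rw [← hcent]; exact Subgroup.centralizer_le_normalizer _
  refine ⟨A, hA, hPA, ?_, ?_, ?_, hcent⟩
  · intro hdvd
    have h1 : ((P : Subgroup G).subgroupOf A).index ∣ (P : Subgroup G).index :=
      Subgroup.relIndex_dvd_index_of_le hPA
    exact P.not_dvd_index (hdvd.trans h1)
  · refine ⟨hNtop, ?_⟩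
    intro M hNM
    by_contra hM
    have := hmax M hM (hAN.trans hNM.le)
    exact absurd this (not_le_of_gt hNM)
  · intro g hg hdvd
    obtain ⟨u, hu⟩ := exists_prime_orderOf_dvd_card' p hdvd
    have hu' : orderOf (u : G) = p := by rw [Subgroup.orderOf_coe]; exact hu
    have hup : (u : G) ^ p ^ 1 = 1 := by
      have := pow_orderOf_eq_one (u : G)
      rw [hu'] at this
      rwa [pow_one]
    have hu1 : (u : G) ≠ 1 := by
      intro h; rw [h, orderOf_one] at hu'; exact hp.one_lt.ne hu'
    have huN := u.2.1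
    have huN' := u.2.2
    have huP : (u : G) ∈ (P : Subgroup G) :=
      Cfsg.Agent.Lib.Helper65.mem_sylow_of_pow_eq_one_of_mem_normalizer P huN hup
    obtain ⟨v, hv, hvu⟩ := huN'
    have hvu' : g * v * g⁻¹ = (u : G) := by simpa using hvu
    have hv' : v = g⁻¹ * (u : G) * g := by rw [← hvu']; group
    have hvp : v ^ p ^ 1 = 1 := by
      have e : g⁻¹ * (u : G) * g = g⁻¹ * (u : G) * g⁻¹⁻¹ := by rw [inv_inv]
      rw [hv', e, conj_pow, hup]; group
    have hvP : v ∈ (P : Subgroup G) :=
      Cfsg.Agent.Lib.Helper65.mem_sylow_of_pow_eq_one_of_mem_normalizer P hv hvp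
    have hugP : (u : G) ∈ ((g • P : Sylow p G) : Subgroup G) := by
      rw [Cfsg.Agent.Lib.Helper65.mem_smul_sylow_iff, ← hv']; exact hvP
    exact hu1 (hTI g hg _ huP hugP)

end Cfsg.Agent.S3890
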