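import Cfsg.Statements.S3891
import Cfsg.Agent.Lib.Helper65.NilpCover

set_option autoImplicit false
open Cfsg

namespace Cfsg.Agent.S3891

/-- A cover of a group is a finite set of proper subgroups whose union is the whole group; it is minimal when no cover has fewer members, and nilpotent when all its members are nilpotent. Let G be a finite group with trivial center admitting a nilpotent minimal cover, and let P be a non-normal Sylow p-subgroup of G that is cyclic, or abelian but not elementary abelian. Then the centralizer of P is nilpotent and the normalizer of P is the unique maximal subgroup of G containing the centralizer of P. -/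
theorem result {G : Type*} [Group G] [Finite G] (hZ : Subgroup.center G = ⊥) (𝓐 : Finset (Subgroup G))
    (h𝓐 : ((∀ A ∈ 𝓐, A ≠ ⊤) ∧ (∀ g : G, ∃ A ∈ 𝓐, g ∈ A)) ∧ (∀ 𝓑 : Finset (Subgroup G), (∀ A ∈ 𝓑, A ≠ ⊤) ∧ (∀ g : G, ∃ A ∈ 𝓑, g ∈ A) → 𝓐.card ≤ 𝓑.card) ∧ (∀ A ∈ 𝓐, Group.IsNilpotent ↥A)) {p : ℕ} [Fact p.Prime] (P : Sylow p G)
    (hP : IsCyclic ↥(P : Subgroup G) ∨ (IsMulCommutative ↥(P : Subgroup G) ∧ ¬ Cfsg.IsElementaryAbelian p (P : Subgroup G)))
    (hnn : ¬ (P : Subgroup G).Normal) :
    Group.IsNilpotent ↥(Subgroup.centralizer ((P : Subgroup G) : Set G)) ∧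
      IsCoatom (Subgroup.normalizer ((P : Subgroup G) : Set G)) ∧
      ∀ M : Subgroup G, IsCoatom M → Subgroup.centralizer ((P : Subgroup G) : Set G) ≤ M →
        M = Subgroup.normalizer ((P : Subgroup G) : Set G) := by
  have hp : p.Prime := Fact.out
  have hgood : Cfsg.Agent.Lib.Helper65.GoodSylow P := by
    rcases hP with hc | ⟨hab, hne⟩
    · refine ⟨?_, hnn, Or.inl hc⟩
      intro a ha b hb
      obtain ⟨x, hx⟩ := hc.exists_generator
      obtain ⟨i, hi⟩ := Subgroup.mem_zpowers_iff.mp (hx ⟨a, ha⟩)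
      obtain ⟨j, hj⟩ := Subgroup.mem_zpowers_iff.mp (hx ⟨b, hb⟩)
      have ha' : a = (x : G) ^ i := by simpa using (congrArg Subtype.val hi).symm
      have hb' : b = (x : G) ^ j := by simpa using (congrArg Subtype.val hj).symm
      rw [ha', hb']
      exact (Commute.zpow_zpow_self (x : G) i j).eq
    · refine ⟨?_, hnn, Or.inr ?_⟩
      · intro a ha b hb
        have := hab.is_comm.comm ⟨a, ha⟩ ⟨b, hb⟩
        simpa using congrArg Subtype.val this
      · by_contra h
        push Not at h
        exact hne ⟨hab, h⟩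
  obtain ⟨A, hA, hPA, hcent, hmax, hTI⟩ := Cfsg.Agent.Lib.Helper65.main_structure hZ h𝓐 P hgood
  have hNtop : Subgroup.normalizer ((P : Subgroup G) : Set G) ≠ ⊤ := by
    intro h; apply hnn; exact Subgroup.normalizer_eq_top_iff.mp h
  have hAN : A ≤ Subgroup.normalizer ((P : Subgroup G) : Set G) := by
    rw [← hcent]; exact Subgroup.centralizer_le_normalizer _
  refine ⟨?_, ?_, ?_⟩
  · rw [hcent]; exact h𝓐.2.2 A hA
  · refine ⟨hNtop, ?_⟩
    intro M hNM
    by_contra hM
    have := hmax M hM (hAN.trans hNM.le)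
    exact absurd this (not_le_of_gt hNM)
  · intro M hM hCM
    have hMN := hmax M hM.1 (hcent ▸ hCM)
    rcases hM.le_iff.mp hMN with h | h
    · exact absurd h hNtop
    · exact h.symm

end Cfsg.Agent.S3891
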