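import Cfsg.Statements.S3893
import Cfsg.Agent.Lib.Helper95.NilCover
import Cfsg.Agent.Lib.Helper95.SzIso
set_option autoImplicit false
open Cfsg

namespace Cfsg.Agent.S3893

open Cfsg.Agent.Lib.Helper6 Cfsg.Agent.S2247 Cfsg.Agent.Lib.Helper95.OutSz
  Cfsg.Agent.Lib.Helper95.NilCover MulAction

/-- A cover of a group is a finite set of proper subgroups whose union is the whole group; it is minimal when no cover has fewer members, and nilpotent when all its members are nilpotent. The Suzuki groups Sz(q), q = 2^(2m+1) with m ≥ 1, have no nilpotent minimal cover. -/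
theorem result {F : Type*} [Field F] [Fintype F] (m : ℕ) (hm : 1 ≤ m) (hF : Fintype.card F = 2 ^ (2 * m + 1)) :
    ¬ ∃ 𝓐 : Finset (Subgroup ↥(Cfsg.Lie.Sz F (2 ^ (m + 1)))), ((∀ A ∈ 𝓐, A ≠ ⊤) ∧ (∀ g : ↥(Cfsg.Lie.Sz F (2 ^ (m + 1))), ∃ A ∈ 𝓐, g ∈ A)) ∧ (∀ 𝓑 : Finset (Subgroup ↥(Cfsg.Lie.Sz F (2 ^ (m + 1)))), (∀ A ∈ 𝓑, A ≠ ⊤) ∧ (∀ g : ↥(Cfsg.Lie.Sz F (2 ^ (m + 1))), ∃ A ∈ 𝓑, g ∈ A) → 𝓐.card ≤ 𝓑.card) ∧ (∀ A ∈ 𝓐, Group.IsNilpotent ↥A) := by
  have := sz_charP hF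
  have hσ : SgSq (F := F) m := sgSq_of_card m hF
  -- a nontrivial unit
  obtain ⟨c, hc⟩ := exists_sg_ne hm hF hσ
  have hc0 : c ≠ 0 := by rintro rfl; apply hc; simp
  have hc1 : c ≠ 1 := by rintro rfl; apply hc; simp
  set κ : Fˣ := Units.mk0 c hc0 with hκdef
  have hκ : κ ≠ 1 := by
    intro h
    apply hc1
    have := congrArg Units.val h
    simpa [hκdef] using this
  have hTM : szTsub hσ ≤ stabilizer (Sz F m) (infPt F m) := by
    intro x hx
    obtain ⟨a, b, rfl⟩ := (mem_szTsub_iff hσ x).mp hx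
    exact mem_stabilizer_iff.mpr (tz_smul_inf hσ a b)
  refine no_nilpotent_minimal_cover_of_equiv (Cfsg.Agent.Lib.Helper95.szIso hm hF)
    (stabilizer (Sz F m) (infPt F m)) ?_ (tz hσ 0 1) (hz hσ κ) ?_ ?_ ?_
  · intro htop
    apply wz_not_mem_stab (hσ := hσ)
    rw [htop]
    trivial
  · intro A hA hg
    exact (claim1 hσ hm hF A hA hg).trans hTM
  · intro A hA hh
    exact claim2 hσ hm hF hκ A hA hh
  · intro A hA hg hh
    have hT := claim1 hσ hm hF A hA hg hh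
    obtain ⟨a, b, hab⟩ := (mem_szTsub_iff hσ _).mp hT
    have h1 : hz hσ κ • affPt m (0 : F) 0 = affPt m 0 0 :=
      mem_stabilizer_iff.mp (hz_mem_stab_zero (hσ := hσ) κ)
    rw [hab, tz_smul_aff] at h1
    obtain ⟨h2, h3⟩ := affPt_inj h1
    have ha : a = 0 := by simpa using h2
    subst ha
    have hb : b = 0 := by simpa using h3
    subst hb
    rw [tz_zero, ← hz_one hσ] at hab
    exact hκ (hz_inj hσ hab)

end Cfsg.Agent.S3893
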