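import Cfsg.Statements.S3899
import Cfsg.Agent.Lib.Helper65.PiClasses

set_option autoImplicit false
open Cfsg

namespace Cfsg.Agent.S3899

open Cfsg.Agent.Lib.Helper65

/-- the fibration bound with the `σ`-part of `|G|` as the bound for the fibres -/
lemma card_PiCl_insert_le' {G : Type*} [Group G] [Finite G] (r : ℕ) (hr : r.Prime) (σ : Finset ℕ)
    (hrσ : r ∉ σ) (hσ : ∀ q ∈ σ, q.Prime) :
    Nat.card (PiCl (insert r σ) G) ≤ (∏ q ∈ σ, q ^ (Nat.card G).factorization q) * Nat.card (PCl r G) := by
  apply card_PiCl_insert_le r hr σ hrσ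
  intro y
  refine (card_PiCl_le σ hσ ↥(Subgroup.centralizer ({y} : Set G))).trans ?_
  apply Finset.prod_le_prod (fun _ _ => Nat.zero_le _)
  intro q hq
  apply Nat.pow_le_pow_right (hσ q hq).pos
  have hdvd : Nat.card ↥(Subgroup.centralizer ({y} : Set G)) ∣ Nat.card G :=
    Subgroup.card_subgroup_dvd_card _
  exact (Nat.factorization_le_iff_dvd Nat.card_pos.ne' Nat.card_pos.ne').mpr hdvd q

/-- Under the hypothesis of the theorem every Sylow `r`-subgroup, `r ∈ π`, is central in its normalizer. -/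
lemma normalizer_le_centralizer {G : Type*} [Group G] [Finite G] (π : Finset ℕ) (hπ : ∀ r ∈ π, r.Prime)
    (p : ℕ) (hp : p ∈ π) (hmin : ∀ r ∈ π, p ≤ r)
    (hk : (p + 1) * π.prod (fun r => r ^ (Nat.card G).factorization r) <
      2 * p * Nat.card {c : ConjClasses G // ∀ x ∈ c.carrier, ∀ r : ℕ, r.Prime → r ∣ orderOf x → r ∈ π})
    (r : ℕ) (hr : r ∈ π) [Fact r.Prime] (R : Sylow r G) :
    Subgroup.normalizer ((R : Subgroup G) : Set G) ≤ Subgroup.centralizer ((R : Subgroup G) : Set G) := by
  by_contra hcon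
  have hrp : r.Prime := hπ r hr
  have h1 := two_mul_card_pClasses_le R hcon
  rw [R.card_eq_multiplicity] at h1
  have hins : insert r (π.erase r) = π := Finset.insert_erase hr
  have h2 := card_PiCl_insert_le' (G := G) r hrp (π.erase r) (Finset.notMem_erase r π)
    (fun q hq => hπ q (Finset.mem_of_mem_erase hq))
  rw [hins] at h2
  have h3 : π.prod (fun q => q ^ (Nat.card G).factorization q) =
      r ^ (Nat.card G).factorization r * ∏ q ∈ π.erase r, q ^ (Nat.card G).factorization q :=
    (Finset.mul_prod_erase π (fun q => q ^ (Nat.card G).factorization q) hr).symm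
  rw [h3] at hk
  set a := r ^ (Nat.card G).factorization r with ha
  set B := ∏ q ∈ π.erase r, q ^ (Nat.card G).factorization q with hB
  set k := Nat.card (PCl r G) with hk'
  set K := Nat.card (PiCl π G) with hK
  have hpr : p ≤ r := hmin r hr
  have hr0 : 0 < r := hrp.pos
  -- 2 p K ≤ 2 p B k
  have h4 : 2 * p * K ≤ 2 * p * (B * k) := Nat.mul_le_mul_left _ h2
  -- (2 p B k) r ≤ (p+1) a B r
  have h5 : (2 * p * (B * k)) * r ≤ ((p + 1) * (a * B)) * r := by
    have e1 : (2 * p * (B * k)) * r = (p * B) * (2 * r * k) := by ring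
    have e2 : (p * B) * ((r + 1) * a) ≤ ((p + 1) * (a * B)) * r := by
      have : p * (r + 1) ≤ (p + 1) * r := by nlinarith
      calc (p * B) * ((r + 1) * a) = (p * (r + 1)) * (a * B) := by ring
        _ ≤ ((p + 1) * r) * (a * B) := Nat.mul_le_mul_right _ this
        _ = ((p + 1) * (a * B)) * r := by ring
    rw [e1]
    exact (Nat.mul_le_mul_left _ h1).trans e2
  have h6 := Nat.le_of_mul_le_mul_right h5 hr0
  omega

/-- data of the normal `r`-complement given by Burnside's transfer theorem -/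
lemma exists_complement_data {G : Type*} [Group G] [Finite G] (r : ℕ) [hr : Fact r.Prime] (R : Sylow r G)
    (h : Subgroup.normalizer ((R : Subgroup G) : Set G) ≤ Subgroup.centralizer ((R : Subgroup G) : Set G)) :
    ∃ N : Subgroup G, N.Normal ∧ (Nat.card N).Coprime r ∧ (∃ k : ℕ, N.index = r ^ k) ∧
      commutator G ≤ N := by
  have hc := MonoidHom.ker_transferSylow_isComplement' R h
  set N := (MonoidHom.transferSylow R h).ker with hN
  have hNn : N.Normal := inferInstance
  have h1 := hc.card_mul_card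
  have h2 := N.card_mul_index
  have h3 : N.index = Nat.card (R : Subgroup G) := by
    have : Nat.card N * N.index = Nat.card N * Nat.card (R : Subgroup G) := by rw [h1, h2]
    exact Nat.eq_of_mul_eq_mul_left Nat.card_pos this
  have hab : IsMulCommutative (R : Subgroup G) :=
    Subgroup.le_centralizer_iff_isMulCommutative.mp (Subgroup.le_normalizer.trans h)
  refine ⟨N, hNn, ?_, ⟨_, h3.trans R.card_eq_multiplicity⟩, ?_⟩
  · rw [Nat.coprime_comm, Nat.Prime.coprime_iff_not_dvd hr.out]
    intro hdvd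
    have h5 : Nat.card G = Nat.card N * r ^ (Nat.card G).factorization r := by
      rw [← R.card_eq_multiplicity]; exact h1.symm
    obtain ⟨t, ht⟩ := hdvd
    have h4 : r ^ ((Nat.card G).factorization r + 1) ∣ Nat.card G := by
      refine ⟨t, ?_⟩
      calc Nat.card G = Nat.card N * r ^ (Nat.card G).factorization r := h5
        _ = r ^ ((Nat.card G).factorization r + 1) * t := by rw [ht, pow_succ]; ring
    exact Nat.pow_succ_factorization_not_dvd Nat.card_pos.ne' hr.out h4
  · exact Subgroup.Normal.commutator_le_of_self_sup_commutative_eq_top hc.sup_eq_top hab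

/-- Let π be a finite non-empty set of odd primes with smallest member p and G a finite group. Write k_π(G) for the number of conjugacy classes of G consisting of π-elements (elements all of whose order's prime divisors lie in π) and |G|_π for the π-part of the order of G. If k_π(G) > (p + 1)|G|_π/(2p), then G has a normal π-complement (a normal subgroup of order prime to π whose index is a π-number) and an abelian Hall π-subgroup. -/
theorem result {G : Type*} [Group G] [Finite G] (π : Finset ℕ) (hπ : ∀ r ∈ π, r.Prime) (h2 : 2 ∉ π) (p : ℕ) (hp : p ∈ π)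
    (hmin : ∀ r ∈ π, p ≤ r) (hk : (p + 1) * π.prod (fun r => r ^ (Nat.card G).factorization r) < 2 * p * Nat.card {c : ConjClasses G // ∀ x ∈ c.carrier, ∀ r : ℕ, r.Prime → r ∣ orderOf x → r ∈ π}) :
    (∃ N : Subgroup G, N.Normal ∧ (∀ r : ℕ, r.Prime → r ∣ Nat.card ↥N → r ∉ π) ∧ ∀ r : ℕ, r.Prime → r ∣ N.index → r ∈ π) ∧ ∃ H : Subgroup G, Cfsg.IsPiHall (↑π : Set ℕ) H ∧ IsMulCommutative ↥H := by
  classical
  have hdata : ∀ r : ℕ, ∃ N : Subgroup G, N.Normal ∧ (r ∈ π → (Nat.card N).Coprime r ∧
      (∃ k : ℕ, N.index = r ^ k) ∧ commutator G ≤ N) := by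
    intro r
    by_cases hr : r ∈ π
    · haveI : Fact r.Prime := ⟨hπ r hr⟩
      obtain ⟨N, h1, h2, h3, h4⟩ := exists_complement_data r (default : Sylow r G)
        (normalizer_le_centralizer π hπ p hp hmin hk r hr default)
      exact ⟨N, h1, fun _ => ⟨h2, h3, h4⟩⟩
    · exact ⟨⊤, inferInstance, fun h => absurd h hr⟩
  choose Nr hNrn hNr using hdata
  set N : Subgroup G := ⨅ r : π, Nr r.1 with hN
  have hNn : N.Normal := Subgroup.normal_iInf_normal (fun r => hNrn r.1)
  have hNle : ∀ r ∈ π, N ≤ Nr r := fun r hr => iInf_le (fun r : π => Nr r.1) ⟨r, hr⟩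
  have hmemN : ∀ g : G, (∀ r ∈ π, g ∈ Nr r) → g ∈ N := by
    intro g hg
    rw [hN, Subgroup.mem_iInf]
    intro r
    exact hg r.1 r.2
  have h_i : ∀ q : ℕ, q.Prime → q ∣ Nat.card N → q ∉ π := by
    intro q hq hqd hqπ
    have h1 := (hNr q hqπ).1
    have h2 : q ∣ Nat.card (Nr q) := hqd.trans (Subgroup.card_dvd_of_le (hNle q hqπ))
    exact (Nat.Prime.coprime_iff_not_dvd hq).mp h1.symm h2
  have h_ii : ∀ q : ℕ, q.Prime → q ∣ N.index → q ∈ π := by
    intro q hq hqd
    haveI := hNn
    haveI : Fact q.Prime := ⟨hq⟩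
    have hcard : Nat.card (G ⧸ N) = N.index := rfl
    obtain ⟨x, hx⟩ := exists_prime_orderOf_dvd_card' (G := G ⧸ N) q (by rw [hcard]; exact hqd)
    obtain ⟨g, rfl⟩ := QuotientGroup.mk_surjective x
    have hgN : g ∉ N := by
      intro hg
      have : (g : G ⧸ N) = 1 := (QuotientGroup.eq_one_iff g).mpr hg
      rw [this, orderOf_one] at hx
      exact hq.ne_one hx.symm
    have hgq : g ^ q ∈ N := by
      rw [← QuotientGroup.eq_one_iff, QuotientGroup.mk_pow, ← hx, pow_orderOf_eq_one]
    obtain ⟨r, hr, hgr⟩ : ∃ r ∈ π, g ∉ Nr r := by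
      by_contra hcon
      push Not at hcon
      exact hgN (hmemN g hcon)
    haveI := hNrn r
    obtain ⟨_, ⟨k, hk⟩, _⟩ := hNr r hr
    have h1 : orderOf (g : G ⧸ Nr r) = q := by
      apply orderOf_eq_prime
      · rw [← QuotientGroup.mk_pow, QuotientGroup.eq_one_iff]
        exact hNle r hr hgq
      · rw [ne_eq, QuotientGroup.eq_one_iff]
        exact hgr
    have h2 : q ∣ r ^ k := by
      rw [← hk, ← h1]
      exact orderOf_dvd_natCard _
    have h3 : q = r := (Nat.prime_dvd_prime_iff_eq hq (hπ r hr)).mp (hq.dvd_of_dvd_pow h2)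
    rw [h3]
    exact hr
  refine ⟨⟨N, hNn, h_i, h_ii⟩, ?_⟩
  haveI := hNn
  have hcop : Nat.Coprime (Nat.card N) N.index :=
    Nat.coprime_of_dvd (fun q hq h1 h2 => h_i q hq h1 (h_ii q hq h2))
  obtain ⟨H, hH⟩ := Subgroup.exists_right_complement'_of_coprime hcop
  have e1 := hH.card_mul_card
  have e2 := N.card_mul_index
  have e3 : Nat.card H = N.index := by
    have : Nat.card N * Nat.card H = Nat.card N * N.index := by rw [e1, e2]
    exact Nat.eq_of_mul_eq_mul_left Nat.card_pos this
  have e4 : H.index = Nat.card N := by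
    have e5 := H.card_mul_index
    have : Nat.card H * H.index = Nat.card H * Nat.card N := by rw [e5, ← e1, mul_comm]
    exact Nat.eq_of_mul_eq_mul_left Nat.card_pos this
  refine ⟨H, ⟨?_, ?_⟩, ?_⟩
  · intro q hq hqd
    rw [e3] at hqd
    exact Finset.mem_coe.mpr (h_ii q hq hqd)
  · intro q hq hqπ hqd
    rw [e4] at hqd
    exact h_i q hq hqd (Finset.mem_coe.mp hqπ)
  · constructor
    constructor
    intro a b
    apply Subtype.ext
    have h1 : (a : G) * b * (a : G)⁻¹ * (b : G)⁻¹ ∈ N := by
      apply hmemN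
      intro r hr
      apply (hNr r hr).2.2
      rw [commutator_def]
      exact Subgroup.commutator_mem_commutator (Subgroup.mem_top _) (Subgroup.mem_top _)
    have h2 : (a : G) * b * (a : G)⁻¹ * (b : G)⁻¹ ∈ H :=
      mul_mem (mul_mem (mul_mem a.2 b.2) (inv_mem a.2)) (inv_mem b.2)
    have h3 : (a : G) * b * (a : G)⁻¹ * (b : G)⁻¹ = 1 := by
      have := hH.disjoint.le_bot (Subgroup.mem_inf.mpr ⟨h1, h2⟩)
      exact Subgroup.mem_bot.mp this
    show (a : G) * b = b * a
    calc (a : G) * b = ((a : G) * b * (a : G)⁻¹ * (b : G)⁻¹) * (b * a) := by group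
      _ = b * a := by rw [h3, one_mul]

end Cfsg.Agent.S3899
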