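import Cfsg.Statements.S3904
import Cfsg.Agent.Lib.Helper34.CentMaxStruct

set_option autoImplicit false
open Cfsg

namespace Cfsg.Agent.S3904

/-- Let G be a non-abelian finite group in which the centralizer of every non-central element is a maximal subgroup. Then G/Z(G) is either an elementary abelian p-group for some prime p, or a minimal non-abelian group (non-abelian with all proper subgroups abelian) of order p^a · q for distinct primes p, q with a normal Sylow p-subgroup. -/
theorem result {G : Type*} [Group G] [Finite G] (hna : ¬ IsMulCommutative G)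
    (h : ∀ x : G, x ∉ Subgroup.center G → IsCoatom (Subgroup.centralizer ({x} : Set G))) :
    (∃ p : ℕ, p.Prime ∧ Cfsg.IsElementaryAbelian p (⊤ : Subgroup (G ⧸ Subgroup.center G))) ∨
    (¬ IsMulCommutative (G ⧸ Subgroup.center G) ∧ (∀ H : Subgroup (G ⧸ Subgroup.center G), H ≠ ⊤ → IsMulCommutative ↥H) ∧
      ∃ p q a : ℕ, p.Prime ∧ q.Prime ∧ p ≠ q ∧ Nat.card (G ⧸ Subgroup.center G) = p ^ a * q ∧
        ∀ P : Subgroup (G ⧸ Subgroup.center G), Nat.card ↥P = p ^ a → P.Normal) := by
  classical
  by_cases hall : ∀ g : G, g ∉ Subgroup.center G → (Subgroup.centralizer ({g} : Set G)).Normal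
  · left
    exact Cfsg.Agent.Lib.Helper34.elementaryAbelian_quot_of_all_normal h hall
  · right
    push Not at hall
    obtain ⟨x, hx, hn⟩ := hall
    have hab := Cfsg.Agent.Lib.Helper34.abelian_of_nonnormal_centralizer h hx hn
    obtain ⟨r, L, hr, hLn, hLco, hLab, hLexp, hLmin, _⟩ :=
      Cfsg.Agent.Lib.Helper34.exists_kernel_quot_of_abelian_nonnormal_centralizer h hx hab hn
    have hZle : Subgroup.center G ≤ Subgroup.centralizer ({x} : Set G) :=
      Subgroup.center_le_centralizer _
    have hCco : IsCoatom ((Subgroup.centralizer ({x} : Set G)).map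
        (QuotientGroup.mk' (Subgroup.center G))) :=
      Cfsg.Agent.Lib.Helper34.isCoatom_map_mk_of_le _ _ (h x hx) hZle
    have hCn : ¬ ((Subgroup.centralizer ({x} : Set G)).map
        (QuotientGroup.mk' (Subgroup.center G))).Normal := by
      intro hnorm
      apply hn
      have := hnorm.comap (QuotientGroup.mk' (Subgroup.center G))
      rwa [Subgroup.comap_map_eq, QuotientGroup.ker_mk', sup_eq_left.mpr hZle] at this
    have := hLn
    obtain ⟨h1, h2, q, a, hq, hrq, hcard, hP⟩ :=
      Cfsg.Agent.Lib.Helper34.structure_of_abelian_normal_coatom L hLco hr hLab hLexp hLmin _ hCco hCn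
    exact ⟨h1, h2, r, q, a, hr, hq, hrq, hcard, hP⟩

end Cfsg.Agent.S3904
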