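import Cfsg.Statements.S3910
-- import your own Cfsg.Agent.* helpers here

set_option autoImplicit false
open Cfsg

namespace Cfsg.Agent.S3910

open scoped commutatorElement

variable {G : Type*} [Group G]

/-- The conjugation image of a normal subgroup is itself. -/
theorem map_conj_normal (H : Subgroup G) [hH : H.Normal] (g : G) :
    H.map (MulAut.conj g).toMonoidHom = H := by
  ext y
  constructor
  · rintro ⟨a, ha, rfl⟩
    simpa using hH.conj_mem a ha g
  · intro hy
    refine ⟨g⁻¹ * y * g, ?_, ?_⟩
    · simpa using hH.conj_mem y hy g⁻¹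
    · simp [mul_assoc]

/-- In a group with property B, a normal abelian subgroup is the unique abelian subgroup of its order. -/
theorem unique_of_normal
    (hB : ∀ A B : Subgroup G, IsMulCommutative ↥A → IsMulCommutative ↥B → Nat.card ↥A = Nat.card ↥B →
      ∃ g : G, B = A.map (MulAut.conj g).toMonoidHom)
    (H : Subgroup G) [H.Normal] (hH : IsMulCommutative ↥H) (K : Subgroup G)
    (hK : IsMulCommutative ↥K) (hcard : Nat.card ↥K = Nat.card ↥H) : K = H := by
  obtain ⟨g, hg⟩ := hB H K hH hK hcard.symm
  rw [hg, map_conj_normal]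

/-- `|N ⊔ ⟨y⟩| = p |N|` when `y ∉ N`, `y ^ p ∈ N`. -/
theorem card_sup_zpowers [Finite G] (N : Subgroup G) [N.Normal] (y : G) (p : ℕ) (hp : p.Prime)
    (hy : y ∉ N) (hyp : y ^ p ∈ N) :
    Nat.card ↥(N ⊔ Subgroup.zpowers y) = p * Nat.card ↥N := by
  have h1 : Nat.card ↥N * N.relIndex (N ⊔ Subgroup.zpowers y) = Nat.card ↥(N ⊔ Subgroup.zpowers y) := by
    have := Subgroup.relIndex_mul_relIndex (⊥ : Subgroup G) N (N ⊔ Subgroup.zpowers y) bot_le le_sup_left
    rwa [Subgroup.relIndex_bot_left, Subgroup.relIndex_bot_left] at this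
  have h2 : N.relIndex (N ⊔ Subgroup.zpowers y) = p := by
    rw [Subgroup.relIndex_sup_left]
    have h3 := Subgroup.relIndex_ker (QuotientGroup.mk' N) (K := Subgroup.zpowers y)
    rw [QuotientGroup.ker_mk'] at h3
    rw [h3, MonoidHom.map_zpowers, Nat.card_zpowers]
    have : Fact p.Prime := ⟨hp⟩
    apply orderOf_eq_prime
    · rw [← map_pow]
      exact (QuotientGroup.eq_one_iff _).mpr hyp
    · intro h
      exact hy ((QuotientGroup.eq_one_iff _).mp h)
  rw [← h1, h2, mul_comm]

/-- `Z(G) ⊔ ⟨y⟩` is commutative. -/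
theorem comm_center_sup_zpowers (y : G) :
    IsMulCommutative ↥(Subgroup.center G ⊔ Subgroup.zpowers y) := by
  rw [Subgroup.sup_eq_closure]
  apply Subgroup.isMulCommutative_closure
  rintro a (ha | ha) b (hb | hb)
  · exact (Subgroup.mem_center_iff.mp ha b).symm
  · exact (Subgroup.mem_center_iff.mp ha b).symm
  · exact Subgroup.mem_center_iff.mp hb a
  · obtain ⟨m, rfl⟩ := ha
    obtain ⟨n, rfl⟩ := hb
    exact (Commute.zpow_zpow_self y m n).eq

/-- Claim A: an element of the second centre whose `p`-th power is central is central. -/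
theorem claimA [Finite G]
    (hB : ∀ A B : Subgroup G, IsMulCommutative ↥A → IsMulCommutative ↥B → Nat.card ↥A = Nat.card ↥B →
      ∃ g : G, B = A.map (MulAut.conj g).toMonoidHom)
    (x : G) (hx : ∀ y : G, ⁅x, y⁆ ∈ Subgroup.center G) (p : ℕ) (hp : p.Prime)
    (hxp : x ^ p ∈ Subgroup.center G) : x ∈ Subgroup.center G := by
  by_contra hxZ
  have hHcomm : IsMulCommutative ↥(Subgroup.center G ⊔ Subgroup.zpowers x) := comm_center_sup_zpowers x
  have hHcard : Nat.card ↥(Subgroup.center G ⊔ Subgroup.zpowers x) = p * Nat.card ↥(Subgroup.center G) :=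
    card_sup_zpowers _ x p hp hxZ hxp
  have hHnormal : (Subgroup.center G ⊔ Subgroup.zpowers x).Normal := by
    constructor
    intro h hh g
    have hT : ∀ y, ⁅h, y⁆ ∈ Subgroup.center G := by
      have hle : Subgroup.center G ⊔ Subgroup.zpowers x ≤ Subgroup.upperCentralSeries G 2 := by
        apply sup_le
        · rw [← Subgroup.upperCentralSeries_one]
          exact Subgroup.upperCentralSeries_mono G (by norm_num)
        · rw [Subgroup.zpowers_le, Subgroup.mem_upperCentralSeries_succ_iff]
          simpa [Subgroup.upperCentralSeries_one] using hx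
      have := hle hh
      rw [Subgroup.mem_upperCentralSeries_succ_iff] at this
      simpa [Subgroup.upperCentralSeries_one] using this
    have he : g * h * g⁻¹ = ⁅g, h⁆ * h := by simp [commutatorElement_def]
    rw [he]
    apply Subgroup.mul_mem _ _ hh
    apply Subgroup.mem_sup_left
    rw [← commutatorElement_inv]
    exact Subgroup.inv_mem _ (hT g)
  apply hxZ
  rw [Subgroup.mem_center_iff]
  intro g
  have hcZ : ⁅x, g⁆ ∈ Subgroup.center G := hx g
  have hbpos : 0 < orderOf (QuotientGroup.mk' (Subgroup.center G) g) := orderOf_pos _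
  have hb : g ^ orderOf (QuotientGroup.mk' (Subgroup.center G) g) ∈ Subgroup.center G := by
    rw [← QuotientGroup.eq_one_iff, QuotientGroup.mk_pow]
    exact pow_orderOf_eq_one _
  by_cases hpb : p ∣ orderOf (QuotientGroup.mk' (Subgroup.center G) g)
  · -- case 1: use uniqueness of the normal abelian subgroup `H`
    have hhp : (g ^ (orderOf (QuotientGroup.mk' (Subgroup.center G) g) / p)) ^ p ∈ Subgroup.center G := by
      rw [← pow_mul, Nat.div_mul_cancel hpb]; exact hb
    have hhZ : g ^ (orderOf (QuotientGroup.mk' (Subgroup.center G) g) / p) ∉ Subgroup.center G := by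
      intro hh
      have h1 : (QuotientGroup.mk' (Subgroup.center G) g) ^
          (orderOf (QuotientGroup.mk' (Subgroup.center G) g) / p) = 1 := by
        rw [← map_pow]; exact (QuotientGroup.eq_one_iff _).mpr hh
      have h2 : orderOf (QuotientGroup.mk' (Subgroup.center G) g) / p ≠ 0 := by
        have := Nat.div_pos (Nat.le_of_dvd hbpos hpb) hp.pos
        omega
      exact pow_ne_one_of_lt_orderOf h2 (Nat.div_lt_self hbpos hp.one_lt) h1
    have hKcomm := comm_center_sup_zpowers (g ^ (orderOf (QuotientGroup.mk' (Subgroup.center G) g) / p))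
    have hKcard := card_sup_zpowers _ _ p hp hhZ hhp
    have hKH := unique_of_normal hB _ hHcomm _ hKcomm (by rw [hKcard, hHcard])
    have hxK : x ∈ Subgroup.center G ⊔
        Subgroup.zpowers (g ^ (orderOf (QuotientGroup.mk' (Subgroup.center G) g) / p)) := by
      rw [hKH]; exact Subgroup.mem_sup_right (Subgroup.mem_zpowers x)
    have hKle : Subgroup.center G ⊔
        Subgroup.zpowers (g ^ (orderOf (QuotientGroup.mk' (Subgroup.center G) g) / p)) ≤
        Subgroup.centralizer {g} := by
      apply sup_le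
      · exact Subgroup.center_le_centralizer _
      · rw [Subgroup.zpowers_le, Subgroup.mem_centralizer_singleton_iff]
        exact pow_mul_comm' g _
    have := hKle hxK
    rw [Subgroup.mem_centralizer_singleton_iff] at this
    exact this.symm
  · -- case 2: the commutator has order dividing both `p` and `b`
    have hcop : Nat.Coprime p (orderOf (QuotientGroup.mk' (Subgroup.center G) g)) :=
      (Nat.Prime.coprime_iff_not_dvd hp).mpr hpb
    have hcomm_c : ∀ y : G, Commute ⁅x, g⁆ y := fun y => (Subgroup.mem_center_iff.mp hcZ y).symm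
    -- c ^ p = 1
    have h1 : ⁅x, g⁆ ^ p = 1 := by
      have e1 : g * x * g⁻¹ = ⁅x, g⁆⁻¹ * x := by simp [commutatorElement_def, mul_assoc]
      have e2 : g * x ^ p * g⁻¹ = (⁅x, g⁆⁻¹ * x) ^ p := by rw [← e1, conj_pow]
      have e3 : g * x ^ p * g⁻¹ = x ^ p := by
        rw [Subgroup.mem_center_iff.mp hxp g, mul_inv_cancel_right]
      rw [e3, ((hcomm_c x).inv_left).mul_pow] at e2
      have : (⁅x, g⁆⁻¹) ^ p = 1 := by
        have := e2
        nth_rewrite 1 [← one_mul (x ^ p)] at this
        exact (mul_right_cancel this).symm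
      rwa [inv_pow, inv_eq_one] at this
    have h2 : ⁅x, g⁆ ^ orderOf (QuotientGroup.mk' (Subgroup.center G) g) = 1 := by
      have e1 : x * g * x⁻¹ = ⁅x, g⁆ * g := by simp [commutatorElement_def]
      have e2 : x * g ^ orderOf (QuotientGroup.mk' (Subgroup.center G) g) * x⁻¹ =
          (⁅x, g⁆ * g) ^ orderOf (QuotientGroup.mk' (Subgroup.center G) g) := by rw [← e1, conj_pow]
      have e3 : x * g ^ orderOf (QuotientGroup.mk' (Subgroup.center G) g) * x⁻¹ =
          g ^ orderOf (QuotientGroup.mk' (Subgroup.center G) g) := by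
        rw [Subgroup.mem_center_iff.mp hb x, mul_inv_cancel_right]
      rw [e3, (hcomm_c g).mul_pow] at e2
      have := e2
      nth_rewrite 1 [← one_mul (g ^ orderOf (QuotientGroup.mk' (Subgroup.center G) g))] at this
      exact (mul_right_cancel this).symm
    have h3 : orderOf ⁅x, g⁆ ∣ 1 := by
      have := Nat.dvd_gcd (orderOf_dvd_of_pow_eq_one h1) (orderOf_dvd_of_pow_eq_one h2)
      rwa [hcop.gcd_eq_one] at this
    have h4 : ⁅x, g⁆ = 1 := orderOf_eq_one_iff.mp (Nat.dvd_one.mp h3)
    rw [commutatorElement_eq_one_iff_commute] at h4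
    exact h4.eq.symm


theorem mem_ucs2 (x : G) :
    x ∈ Subgroup.upperCentralSeries G 2 ↔ ∀ y : G, ⁅x, y⁆ ∈ Subgroup.center G := by
  rw [show (2 : ℕ) = 1 + 1 from rfl, Subgroup.mem_upperCentralSeries_succ_iff,
    Subgroup.upperCentralSeries_one]

/-- The second centre coincides with the centre. -/
theorem second_center_le [Finite G]
    (hB : ∀ A B : Subgroup G, IsMulCommutative ↥A → IsMulCommutative ↥B → Nat.card ↥A = Nat.card ↥B →
      ∃ g : G, B = A.map (MulAut.conj g).toMonoidHom) :
    ∀ (n : ℕ) (x : G), orderOf x = n → (∀ y : G, ⁅x, y⁆ ∈ Subgroup.center G) →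
      x ∈ Subgroup.center G := by
  intro n
  induction n using Nat.strong_induction_on with
  | _ n ih =>
    intro x hxn hx
    by_cases hx1 : x = 1
    · rw [hx1]; exact Subgroup.one_mem _
    have hn1 : n ≠ 1 := by
      rw [← hxn, Ne, orderOf_eq_one_iff]; exact hx1
    have hp : (n.minFac).Prime := Nat.minFac_prime hn1
    have hpn : n.minFac ∣ n := Nat.minFac_dvd n
    have hnpos : 0 < n := by rw [← hxn]; exact orderOf_pos x
    have hord : orderOf (x ^ n.minFac) = n / n.minFac := by
      rw [orderOf_pow_of_dvd hp.ne_zero (hxn ▸ hpn), hxn]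
    have hlt : n / n.minFac < n := Nat.div_lt_self hnpos hp.one_lt
    have hxp : x ^ n.minFac ∈ Subgroup.center G := by
      apply ih (n / n.minFac) hlt (x ^ n.minFac) hord
      rw [← mem_ucs2]
      exact Subgroup.pow_mem _ ((mem_ucs2 x).mpr hx) _
    exact claimA hB x hx _ hp hxp

theorem ucs_le_center [Finite G]
    (hB : ∀ A B : Subgroup G, IsMulCommutative ↥A → IsMulCommutative ↥B → Nat.card ↥A = Nat.card ↥B →
      ∃ g : G, B = A.map (MulAut.conj g).toMonoidHom) (n : ℕ) :
    Subgroup.upperCentralSeries G n ≤ Subgroup.center G := by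
  induction n with
  | zero => simp
  | succ n ih =>
    intro x hx
    rw [Subgroup.mem_upperCentralSeries_succ_iff] at hx
    exact second_center_le hB _ x rfl (fun y => ih (hx y))

theorem cyclic_of_comm [Finite G]
    (hB : ∀ A B : Subgroup G, IsMulCommutative ↥A → IsMulCommutative ↥B → Nat.card ↥A = Nat.card ↥B →
      ∃ g : G, B = A.map (MulAut.conj g).toMonoidHom)
    (hc : ∀ a b : G, a * b = b * a) : IsCyclic G := by
  let _ : CommGroup G := { ‹Group G› with mul_comm := hc }
  obtain ⟨x, hx⟩ := Monoid.exists_orderOf_eq_exponent (G := G) Monoid.ExponentExists.of_finite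
  refine ⟨⟨x, fun y => ?_⟩⟩
  have hd : orderOf y ∣ orderOf x := by rw [hx]; exact Monoid.order_dvd_exponent y
  have hxpos : 0 < orderOf x := orderOf_pos x
  have hypos : 0 < orderOf y := orderOf_pos y
  have hq0 : orderOf x / orderOf y ≠ 0 := by
    have := Nat.div_pos (Nat.le_of_dvd hxpos hd) hypos
    omega
  have hqd : orderOf x / orderOf y ∣ orderOf x := Nat.div_dvd_of_dvd hd
  have hw : orderOf (x ^ (orderOf x / orderOf y)) = orderOf y := by
    rw [orderOf_pow_of_dvd hq0 hqd, Nat.div_div_self hd hxpos.ne']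
  obtain ⟨g, hg⟩ := hB (Subgroup.zpowers (x ^ (orderOf x / orderOf y))) (Subgroup.zpowers y)
    inferInstance inferInstance (by rw [Nat.card_zpowers, Nat.card_zpowers, hw])
  have hy : y ∈ (Subgroup.zpowers (x ^ (orderOf x / orderOf y))).map (MulAut.conj g).toMonoidHom := by
    rw [← hg]; exact Subgroup.mem_zpowers y
  obtain ⟨a, ⟨k, rfl⟩, hay⟩ := hy
  have hy2 : y = (x ^ (orderOf x / orderOf y)) ^ k := by
    refine hay.symm.trans ?_
    simp only [MulEquiv.coe_toMonoidHom, MulAut.conj_apply]
    rw [hc g, mul_assoc, mul_inv_cancel, mul_one]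
  refine ⟨(orderOf x / orderOf y : ℕ) * k, ?_⟩
  show x ^ ((orderOf x / orderOf y : ℕ) * k) = y
  rw [zpow_mul, zpow_natCast]
  exact hy2.symm


/-- A finite nilpotent group in which any two abelian subgroups of the same order are conjugate is cyclic. -/
theorem result {G : Type*} [Group G] [Finite G] (hB : ∀ A B : Subgroup G, IsMulCommutative ↥A → IsMulCommutative ↥B → Nat.card ↥A = Nat.card ↥B → ∃ g : G, B = A.map (MulAut.conj g).toMonoidHom) (hnil : Group.IsNilpotent G) : IsCyclic G := by
  obtain ⟨n, hn⟩ := hnil.nilpotent'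
  have hcen : Subgroup.center G = ⊤ := by
    rw [eq_top_iff, ← hn]
    exact ucs_le_center hB n
  apply cyclic_of_comm hB
  intro a b
  have : a ∈ Subgroup.center G := by rw [hcen]; exact Subgroup.mem_top a
  exact (Subgroup.mem_center_iff.mp this b).symm

end Cfsg.Agent.S3910
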