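import Cfsg.Statements.S3917
-- import your own Cfsg.Agent.* helpers here

set_option autoImplicit false
open Cfsg

namespace Cfsg.Agent.S3917

section helpers
variable {G : Type*} [CommGroup G] [Finite G]

/-- `|K| = |ker f ⊓ K| * |f(K)|`. -/
theorem card_eq_inf_ker_mul_map {H : Type*} [Group H] [Finite H] {H' : Type*} [Group H'] (f : H →* H') (K : Subgroup H) :
    Nat.card ↥K = Nat.card ↥(f.ker ⊓ K) * Nat.card ↥(K.map f) := by
  have h1 := Subgroup.relIndex_mul_relIndex (⊥ : Subgroup H) (f.ker ⊓ K) K bot_le inf_le_right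
  rw [Subgroup.relIndex_bot_left, Subgroup.relIndex_bot_left, Subgroup.inf_relIndex_right,
    Subgroup.relIndex_ker] at h1
  exact h1.symm

/-- Counting lemma. -/
theorem card_ker_pow_le
    (h : ∀ p : ℕ, p.Prime → Nat.card ↥(powMonoidHom p : G →* G).ker ≤ p) :
    ∀ n : ℕ, 0 < n → Nat.card ↥(powMonoidHom n : G →* G).ker ≤ n := by
  intro n
  induction n using Nat.strong_induction_on with
  | _ n ih =>
    intro hn
    by_cases hn1 : n = 1
    · subst hn1
      have : (powMonoidHom 1 : G →* G).ker = ⊥ := by
        ext g; simp [MonoidHom.mem_ker]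
      rw [this]; simp
    have hp : (n.minFac).Prime := Nat.minFac_prime hn1
    obtain ⟨m, hm⟩ := Nat.minFac_dvd n
    have hmpos : 0 < m := by
      rcases Nat.eq_zero_or_pos m with h0 | h0
      · rw [h0, mul_zero] at hm; omega
      · exact h0
    have hmlt : m < n := by
      rw [hm]; exact lt_mul_of_one_lt_left hmpos hp.one_lt
    have key := card_eq_inf_ker_mul_map (powMonoidHom n.minFac : G →* G) (powMonoidHom n : G →* G).ker
    have h1 : Nat.card ↥((powMonoidHom n.minFac : G →* G).ker ⊓ (powMonoidHom n : G →* G).ker) ≤ n.minFac :=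
      (Subgroup.card_le_of_le inf_le_left).trans (h _ hp)
    have h2 : Nat.card ↥((powMonoidHom n : G →* G).ker.map (powMonoidHom n.minFac : G →* G)) ≤ m := by
      refine (Subgroup.card_le_of_le ?_).trans (ih m hmlt hmpos)
      rintro _ ⟨g, hg, rfl⟩
      have hg' : g ^ n = 1 := by
        have : g ∈ (powMonoidHom n : G →* G).ker := hg
        rwa [MonoidHom.mem_ker, powMonoidHom_apply] at this
      rw [MonoidHom.mem_ker, powMonoidHom_apply, powMonoidHom_apply, ← pow_mul, ← hm]; exact hg' 
    calc Nat.card ↥(powMonoidHom n : G →* G).ker = _ := key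
      _ ≤ n.minFac * m := Nat.mul_le_mul h1 h2
      _ = n := hm.symm

theorem cyclic_of_small_omega
    (h : ∀ p : ℕ, p.Prime → Nat.card ↥(powMonoidHom p : G →* G).ker ≤ p) : IsCyclic G := by
  classical
  have : Fintype G := Fintype.ofFinite G
  apply isCyclic_of_card_pow_eq_one_le
  intro n hn
  have := card_ker_pow_le h n hn
  rw [Nat.card_eq_fintype_card] at this
  convert this using 1
  rw [← Fintype.card_subtype]
  apply Fintype.card_congr
  exact Equiv.subtypeEquivRight (fun g => by rw [MonoidHom.mem_ker, powMonoidHom_apply])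

end helpers

/-- Say that a group has self-centralizing non-cyclic subgroups when every non-cyclic subgroup H satisfies C_G(H) ≤ H. A finite abelian group with self-centralizing non-cyclic subgroups is cyclic or elementary abelian of order p² for a prime p. -/
theorem result {G : Type*} [CommGroup G] [Finite G] (hX : (∀ H : Subgroup G, ¬ IsCyclic ↥H → Subgroup.centralizer (H : Set G) ≤ H)) :
    IsCyclic G ∨ ∃ p : ℕ, p.Prime ∧ Nat.card G = p ^ 2 ∧ Monoid.exponent G = p := by
  -- every noncyclic subgroup is ⊤
  have hX' : ∀ H : Subgroup G, ¬ IsCyclic ↥H → H = ⊤ := by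
    intro H hH
    rw [eq_top_iff]
    refine le_trans ?_ (hX H hH)
    intro g _
    rw [Subgroup.mem_centralizer_iff]
    intro h _; exact mul_comm h g
  by_cases hcyc : IsCyclic G
  · left; exact hcyc
  right
  -- there is a prime p with Ω_p = ⊤
  have hex : ∃ p : ℕ, p.Prime ∧ (powMonoidHom p : G →* G).ker = ⊤ := by
    by_contra hne
    push Not at hne
    apply hcyc
    apply cyclic_of_small_omega
    intro p hp
    have hK := hne p hp
    have hKc : IsCyclic ↥(powMonoidHom p : G →* G).ker := by
      by_contra hnc; exact hK (hX' _ hnc)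
    have hdvd : Monoid.exponent ↥(powMonoidHom p : G →* G).ker ∣ p := by
      apply Monoid.exponent_dvd_of_forall_pow_eq_one
      rintro ⟨g, hg⟩
      apply Subtype.ext
      simpa [MonoidHom.mem_ker] using hg
    rw [IsCyclic.exponent_eq_card] at hdvd
    exact Nat.le_of_dvd hp.pos hdvd
  obtain ⟨p, hp, hker⟩ := hex
  have hpow : ∀ g : G, g ^ p = 1 := fun g => by
    have : g ∈ (powMonoidHom p : G →* G).ker := by rw [hker]; trivial
    simpa [MonoidHom.mem_ker] using this
  have : Fact p.Prime := ⟨hp⟩
  have : Nontrivial G := by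
    by_contra hnt
    rw [not_nontrivial_iff_subsingleton] at hnt
    exact hcyc isCyclic_of_subsingleton
  have hexp : Monoid.exponent G = p := by
    rw [Monoid.exponent_eq_prime_iff hp]
    intro g hg; exact orderOf_eq_prime (hpow g) hg
  have hpg : IsPGroup p G := fun g => ⟨1, by rw [pow_one]; exact hpow g⟩
  obtain ⟨k, hk⟩ := IsPGroup.iff_card.mp hpg
  refine ⟨p, hp, ?_, hexp⟩
  have hk0 : k ≠ 0 := by
    rintro rfl
    rw [pow_zero] at hk
    have : Subsingleton G := (Nat.card_eq_one_iff_unique.mp hk).1
    exact hcyc isCyclic_of_subsingleton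
  have hk1 : k ≠ 1 := by
    rintro rfl
    rw [pow_one] at hk
    exact hcyc (isCyclic_of_prime_card hk)
  have hk3 : ¬ 3 ≤ k := by
    intro h3
    have hdvd : p ^ 2 ∣ Nat.card G := by rw [hk]; exact pow_dvd_pow p (by omega)
    obtain ⟨K, hK⟩ := Sylow.exists_subgroup_card_pow_prime p hdvd
    have hKtop : K ≠ ⊤ := by
      rintro rfl
      rw [Subgroup.card_top, hk] at hK
      have := Nat.pow_right_injective hp.two_le hK
      omega
    have hKc : IsCyclic ↥K := by
      by_contra hnc; exact hKtop (hX' _ hnc)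
    obtain ⟨w, hw⟩ := hKc.exists_generator
    have hord : orderOf w = p ^ 2 := by
      rw [orderOf_eq_card_of_forall_mem_zpowers hw, hK]
    have hwp : w ^ p = 1 := by
      apply Subtype.ext
      simpa using hpow (w : G)
    have h2 : p ^ 2 ∣ p := by rw [← hord]; exact orderOf_dvd_of_pow_eq_one hwp
    have h3' : p ^ 2 ≤ p := Nat.le_of_dvd hp.pos h2
    have h4 : p < p ^ 2 := by
      calc p = p ^ 1 := (pow_one p).symm
        _ < p ^ 2 := Nat.pow_lt_pow_right hp.one_lt (by norm_num)
    omega
  have hk2 : k = 2 := by omega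
  rw [hk, hk2]

end Cfsg.Agent.S3917
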