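import Cfsg.Statements.S3919
import Cfsg.Agent.Lib.Helper65.SelfCent
import Cfsg.Agent.Lib.Helper91.MaxClass2
import Cfsg.Agent.Lib.Helper51.UniqueOrderP

set_option autoImplicit false
open Cfsg

namespace Cfsg.Agent.S3919

open Cfsg.Agent.Lib.Helper65 Cfsg.Agent.Lib.Helper91 Cfsg.Agent.Lib.Helper51
open scoped commutatorElement

section helpers
variable {G : Type*} [Group G] [Finite G]

omit [Finite G] in
theorem comm_of_commutator_eq_bot (h : commutator G = ⊥) : IsMulCommutative G := by
  constructor; constructor
  intro a b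
  have hab : ⁅a, b⁆ ∈ commutator G := by
    rw [commutator_def]
    exact Subgroup.commutator_mem_commutator (Subgroup.mem_top _) (Subgroup.mem_top _)
  rw [h, Subgroup.mem_bot, commutatorElement_eq_one_iff_mul_comm] at hab
  exact hab

omit [Finite G] in
theorem three_le_of_not_comm (hna : ¬ IsMulCommutative G) (n : ℕ) (hG : Nat.card G = 2 ^ n) :
    3 ≤ n := by
  have : Fact (Nat.Prime 2) := ⟨Nat.prime_two⟩
  by_contra hlt
  push Not at hlt
  apply hna
  interval_cases n
  · rw [pow_zero] at hG
    have : Subsingleton G := (Nat.card_eq_one_iff_unique.mp hG).1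
    exact ⟨⟨fun a b => Subsingleton.elim _ _⟩⟩
  · rw [pow_one] at hG
    have := isCyclic_of_prime_card hG
    infer_instance
  · exact IsPGroup.isMulCommutative_of_card_eq_prime_sq hG

/-- In a non-abelian finite `2`-group the commutator subgroup has index at least `4`. -/
theorem four_le_index_commutator (hna : ¬ IsMulCommutative G) (h2 : IsPGroup 2 G) :
    4 ≤ (commutator G).index := by
  have : Fact (Nat.Prime 2) := ⟨Nat.prime_two⟩
  obtain ⟨j, hj⟩ := h2.index (commutator G)
  by_contra hlt
  push Not at hlt
  apply hna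
  apply comm_of_commutator_eq_bot
  apply commutator_eq_bot_of_isCyclic_quotient h2
  have hcard : Nat.card (G ⧸ commutator G) = 2 ^ j := by
    rw [← Subgroup.index_eq_card]; exact hj
  have hj1 : j ≤ 1 := by
    by_contra hj2
    push Not at hj2
    have : 2 ^ 2 ≤ 2 ^ j := Nat.pow_le_pow_right (by norm_num) hj2
    omega
  interval_cases j
  · rw [pow_zero] at hcard
    have : Subsingleton (G ⧸ commutator G) := (Nat.card_eq_one_iff_unique.mp hcard).1
    infer_instance
  · rw [pow_one] at hcard
    exact isCyclic_of_prime_card hcard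

/-- If some centralizer has order at most `4` in a non-abelian `2`-group then `|G : G'| = 4`. -/
theorem index_commutator_eq_four_of_centralizer (hna : ¬ IsMulCommutative G) (h2 : IsPGroup 2 G)
    (x : G) (hx : Nat.card ↥(Subgroup.centralizer ({x} : Set G)) ≤ 4) :
    (commutator G).index = 4 :=
  le_antisymm ((index_commutator_le_card_centralizer x).trans hx) (four_le_index_commutator hna h2)


/-- A `2`-group with `|G : G'| = 4` has self-centralizing non-cyclic subgroups. -/
theorem selfCent_of_index_commutator (h2 : IsPGroup 2 G) (hidx : (commutator G).index = 4)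
    (H : Subgroup G) (hH : ¬ IsCyclic ↥H) : Subgroup.centralizer (H : Set G) ≤ H := by
  have : Fact (Nat.Prime 2) := ⟨Nat.prime_two⟩
  obtain ⟨C, hCcyc, hCidx⟩ := exists_cyclic_index_two h2 hidx
  have hCn : C.Normal := Subgroup.normal_of_index_eq_two hCidx
  have hab : ∀ a ∈ C, ∀ b ∈ C, a * b = b * a := by
    intro a ha b hb
    have := (IsCyclic.isMulCommutative (α := ↥C)).is_comm.comm ⟨a, ha⟩ ⟨b, hb⟩
    exact congrArg Subtype.val this
  -- pick `x ∈ H`, `x ∉ C`
  obtain ⟨x, hxH, hxC⟩ : ∃ x ∈ H, x ∉ C := by
    by_contra hne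
    push Not at hne
    apply hH
    have hHC : H ≤ C := hne
    have hcyc' : IsCyclic ↥(H.subgroupOf C) := inferInstance
    exact isCyclic_of_surjective (Subgroup.subgroupOfEquivOfLe hHC).toMonoidHom
      (Subgroup.subgroupOfEquivOfLe hHC).surjective
  have hx : ∀ a ∈ C, x * a * x⁻¹ ∈ C := fun a ha => hCn.conj_mem a ha x
  have hrange := commutator_eq_range_commHom C x hab hx hCidx hxC
  have hcardker : Nat.card ↥(commHom C x hab hx).ker = 2 := by
    have h1 := card_range_mul_card_ker (commHom C x hab hx)
    have h3 := Subgroup.index_mul_card C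
    have h4 := Subgroup.index_mul_card (commutator G)
    rw [← hrange] at h1
    rw [hCidx] at h3
    rw [hidx] at h4
    have hpos : 0 < Nat.card ↥(commutator G) := Nat.card_pos
    have h5 : Nat.card ↥(commutator G) * (2 * Nat.card ↥(commHom C x hab hx).ker) =
        Nat.card ↥(commutator G) * 4 := by
      calc Nat.card ↥(commutator G) * (2 * Nat.card ↥(commHom C x hab hx).ker)
          = 2 * (Nat.card ↥(commutator G) * Nat.card ↥(commHom C x hab hx).ker) := by ring
        _ = 2 * Nat.card ↥C := by rw [h1]
        _ = Nat.card G := h3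
        _ = 4 * Nat.card ↥(commutator G) := h4.symm
        _ = Nat.card ↥(commutator G) * 4 := by ring
    have := Nat.eq_of_mul_eq_mul_left hpos h5
    omega
  -- `H ∩ C` is nontrivial
  have hHCne : H.subgroupOf C ≠ ⊥ := by
    intro hbot
    apply hH
    have hdisj : Disjoint H C := Subgroup.subgroupOf_eq_bot.mp hbot
    have hbot' : C.subgroupOf H = ⊥ := Subgroup.subgroupOf_eq_bot.mpr hdisj.symm
    have hdvd : C.relIndex H ∣ C.index := Subgroup.relIndex_dvd_index_of_normal C H
    rw [Subgroup.relIndex, hbot', Subgroup.index_bot, hCidx] at hdvd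
    rcases (Nat.dvd_prime Nat.prime_two).mp hdvd with h1 | h1
    · have : Subsingleton ↥H := (Nat.card_eq_one_iff_unique.mp h1).1
      infer_instance
    · exact isCyclic_of_prime_card h1
  have hkerle : (commHom C x hab hx).ker ≤ H.subgroupOf C :=
    le_of_card_two_of_isCyclic (h2.to_subgroup C) _ _ hcardker hHCne
  intro g hg
  have hgx : x * g = g * x := hg x hxH
  rcases exists_eq_or_eq_mul C x hCidx hxC g with hgC | ⟨b, hb, rfl⟩
  · have hmem : (⟨g, hgC⟩ : ↥C) ∈ (commHom C x hab hx).ker :=
      (mem_ker_commHom C x hab hx ⟨g, hgC⟩).mpr hgx.symm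
    exact hkerle hmem
  · have hbx : b * x = x * b := by
      have h' : x * b * x = b * x * x := by rw [mul_assoc, hgx]
      exact (mul_right_cancel h').symm
    have hmem : (⟨b, hb⟩ : ↥C) ∈ (commHom C x hab hx).ker :=
      (mem_ker_commHom C x hab hx ⟨b, hb⟩).mpr hbx
    exact H.mul_mem (hkerle hmem) hxH


/-- A non-abelian `2`-group with self-centralizing non-cyclic subgroups has `|G : G'| = 4`. -/
theorem index_commutator_of_selfCent (hna : ¬ IsMulCommutative G) (h2 : IsPGroup 2 G)
    (hstar : ∀ H : Subgroup G, ¬ IsCyclic ↥H → Subgroup.centralizer (H : Set G) ≤ H) :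
    (commutator G).index = 4 := by
  have : Fact (Nat.Prime 2) := ⟨Nat.prime_two⟩
  have hnt : Nontrivial G := by
    by_contra hnt
    rw [not_nontrivial_iff_subsingleton] at hnt
    exact hna ⟨⟨fun a b => Subsingleton.elim _ _⟩⟩
  -- a central involution
  obtain ⟨z, hzc, hzo⟩ : ∃ z ∈ Subgroup.center G, orderOf z = 2 := by
    have hZnt := h2.center_nontrivial
    obtain ⟨k, hk⟩ := IsPGroup.iff_card.mp (h2.to_subgroup (Subgroup.center G))
    have hk0 : k ≠ 0 := by
      rintro rfl
      rw [pow_zero] at hk
      have := Finite.one_lt_card (α := ↥(Subgroup.center G))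
      omega
    have hdvd : 2 ∣ Nat.card ↥(Subgroup.center G) := hk ▸ dvd_pow_self 2 hk0
    obtain ⟨w, hw⟩ := exists_prime_orderOf_dvd_card' (G := ↥(Subgroup.center G)) 2 hdvd
    exact ⟨w, w.2, by rw [← hw, Subgroup.orderOf_coe]⟩
  by_cases huniq : ∀ x : G, orderOf x = 2 → x = z
  · -- unique involution: generalized quaternion
    have hU : UniqueOrderP 2 G := by
      have key : ∀ L : Subgroup G, Nat.card ↥L = 2 → L = Subgroup.zpowers z := by
        intro L hL
        obtain ⟨w, hw⟩ := exists_prime_orderOf_dvd_card' (G := ↥L) 2 (by rw [hL])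
        have hwz : (w : G) = z := huniq _ (by rw [Subgroup.orderOf_coe]; exact hw)
        symm
        apply Subgroup.eq_of_le_of_card_ge
        · rw [Subgroup.zpowers_le, ← hwz]; exact w.2
        · rw [hL, Nat.card_zpowers, hzo]
      intro H K hH hK
      rw [key H hH, key K hK]
    have hnc : ¬ ∀ a b : G, a * b = b * a := fun h => hna ⟨⟨h⟩⟩
    obtain ⟨m, ⟨e⟩⟩ := quaternion_of_uniqueOrderP_two h2 hU hnc
    have hQ : (QuaternionGroup.a 1 : QuaternionGroup (2 ^ m)) * QuaternionGroup.a 1 *
        (QuaternionGroup.xa 0 * QuaternionGroup.a 1) = QuaternionGroup.a 1 * QuaternionGroup.xa 0 := by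
      rw [QuaternionGroup.xa_mul_a, QuaternionGroup.a_mul_a, QuaternionGroup.a_mul_xa,
        QuaternionGroup.a_mul_xa]
      congr 1
      ring
    have hrel : e.symm (QuaternionGroup.a 1) * e.symm (QuaternionGroup.a 1) *
        (e.symm (QuaternionGroup.xa 0) * e.symm (QuaternionGroup.a 1)) =
        e.symm (QuaternionGroup.a 1) * e.symm (QuaternionGroup.xa 0) := by
      rw [← map_mul, ← map_mul, ← map_mul, ← map_mul, hQ]
    have hcomm : e.symm (QuaternionGroup.a 1) ^ 2 ∈ commutator G := by
      have e1 : e.symm (QuaternionGroup.a 1) ^ 2 =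
          ⁅e.symm (QuaternionGroup.a 1), e.symm (QuaternionGroup.xa 0)⁆ := by
        rw [commutatorElement_def, pow_two]
        calc e.symm (QuaternionGroup.a 1) * e.symm (QuaternionGroup.a 1)
            = e.symm (QuaternionGroup.a 1) * e.symm (QuaternionGroup.a 1) *
              (e.symm (QuaternionGroup.xa 0) * e.symm (QuaternionGroup.a 1)) *
              (e.symm (QuaternionGroup.xa 0) * e.symm (QuaternionGroup.a 1))⁻¹ := by group
          _ = e.symm (QuaternionGroup.a 1) * e.symm (QuaternionGroup.xa 0) *
              (e.symm (QuaternionGroup.xa 0) * e.symm (QuaternionGroup.a 1))⁻¹ := by rw [hrel]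
          _ = _ := by group
      rw [e1, commutator_def]
      exact Subgroup.commutator_mem_commutator (Subgroup.mem_top _) (Subgroup.mem_top _)
    have hord : orderOf (e.symm (QuaternionGroup.a 1)) = 2 * 2 ^ m := by
      rw [MulEquiv.orderOf_eq, QuaternionGroup.orderOf_a_one]
    have hord2 : orderOf (e.symm (QuaternionGroup.a 1) ^ 2) = 2 ^ m := by
      rw [orderOf_pow_of_dvd (by norm_num) (by rw [hord]; exact dvd_mul_right 2 _), hord]
      omega
    have hcardG : Nat.card G = 4 * 2 ^ m := by
      rw [Nat.card_congr e.toEquiv, Nat.card_eq_fintype_card, QuaternionGroup.card]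
    have hle : 2 ^ m ≤ Nat.card ↥(commutator G) := by
      rw [← hord2, ← Nat.card_zpowers]
      exact Subgroup.card_le_of_le (Subgroup.zpowers_le.mpr hcomm)
    have h4 := Subgroup.index_mul_card (commutator G)
    rw [hcardG] at h4
    have hpos : 0 < 2 ^ m := pow_pos (by norm_num) m
    have hidx4 : (commutator G).index ≤ 4 := by
      by_contra hlt
      push Not at hlt
      have : 5 * 2 ^ m ≤ (commutator G).index * Nat.card ↥(commutator G) :=
        Nat.mul_le_mul hlt hle
      omega
    exact le_antisymm hidx4 (four_le_index_commutator hna h2)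
  · -- a Klein four-group `⟨z, x⟩`
    push Not at huniq
    obtain ⟨x, hxo, hxz⟩ := huniq
    have hz1 : z ≠ 1 := by
      rintro rfl
      rw [orderOf_one] at hzo
      omega
    have hx2 : x ^ 2 = 1 := by rw [← hxo]; exact pow_orderOf_eq_one x
    have hZn : (Subgroup.zpowers z).Normal := zpowers_normal_of_mem_center hzc
    have hcardZ : Nat.card ↥(Subgroup.zpowers z) = 2 := by rw [Nat.card_zpowers, hzo]
    have hcardX : Nat.card ↥(Subgroup.zpowers x) = 2 := by rw [Nat.card_zpowers, hxo]
    -- `E` is not cyclic
    have hEnc : ¬ IsCyclic ↥(Subgroup.zpowers z ⊔ Subgroup.zpowers x) := by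
      intro hcyc
      have hZle : (Subgroup.zpowers z).subgroupOf (Subgroup.zpowers z ⊔ Subgroup.zpowers x) ≤
          (Subgroup.zpowers x).subgroupOf (Subgroup.zpowers z ⊔ Subgroup.zpowers x) := by
        apply le_of_card_two_of_isCyclic (h2.to_subgroup _)
        · rw [card_subgroupOf_of_le le_sup_left, hcardZ]
        · intro hbot
          have h1 : Nat.card ↥((Subgroup.zpowers x).subgroupOf
              (Subgroup.zpowers z ⊔ Subgroup.zpowers x)) = 2 := by
            rw [card_subgroupOf_of_le le_sup_right, hcardX]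
          rw [hbot, Subgroup.card_bot] at h1
          omega
      have hzE : z ∈ Subgroup.zpowers z ⊔ Subgroup.zpowers x :=
        (le_sup_left : Subgroup.zpowers z ≤ _) (Subgroup.mem_zpowers z)
      have hzx : z ∈ Subgroup.zpowers x := by
        have hmem : (⟨z, hzE⟩ : ↥(Subgroup.zpowers z ⊔ Subgroup.zpowers x)) ∈
            (Subgroup.zpowers z).subgroupOf (Subgroup.zpowers z ⊔ Subgroup.zpowers x) :=
          Subgroup.mem_zpowers z
        exact hZle hmem
      obtain ⟨k, hk⟩ := Subgroup.mem_zpowers_iff.mp hzx
      rcases zpow_eq_one_or_self_of_sq hx2 k with h | h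
      · exact hz1 (by rw [← hk, h])
      · exact hxz (by rw [← hk, h])
    have hcent := hstar _ hEnc
    -- the centralizer of `x` lies in `E`
    have hCx : Subgroup.centralizer ({x} : Set G) ≤ Subgroup.zpowers z ⊔ Subgroup.zpowers x := by
      refine le_trans ?_ hcent
      intro g hg
      rw [Subgroup.mem_centralizer_singleton_iff] at hg
      have hE : Subgroup.zpowers z ⊔ Subgroup.zpowers x ≤ Subgroup.centralizer ({g} : Set G) := by
        apply sup_le
        · rw [Subgroup.zpowers_le, Subgroup.mem_centralizer_singleton_iff]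
          exact (Subgroup.mem_center_iff.mp hzc g).symm
        · rw [Subgroup.zpowers_le, Subgroup.mem_centralizer_singleton_iff]
          exact hg.symm
      rw [Subgroup.mem_centralizer_iff]
      intro y hy
      have := hE hy
      rw [Subgroup.mem_centralizer_singleton_iff] at this
      exact this
    -- `E` has order at most `4`
    have hcardE : Nat.card ↥(Subgroup.zpowers z ⊔ Subgroup.zpowers x) ≤ 4 := by
      have h1 := Subgroup.relIndex_mul_relIndex (⊥ : Subgroup G) (Subgroup.zpowers z)
        (Subgroup.zpowers z ⊔ Subgroup.zpowers x) bot_le le_sup_left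
      rw [Subgroup.relIndex_bot_left, Subgroup.relIndex_bot_left, Subgroup.relIndex_sup_left,
        hcardZ] at h1
      have h2' : (Subgroup.zpowers z).relIndex (Subgroup.zpowers x) ∣ 2 :=
        hcardX ▸ Subgroup.relIndex_dvd_card (Subgroup.zpowers z) (Subgroup.zpowers x)
      have h3 := Nat.le_of_dvd (by norm_num) h2'
      rw [← h1]
      omega
    exact index_commutator_eq_four_of_centralizer hna h2 x
      ((Subgroup.card_le_of_le hCx).trans hcardE)

end helpers

/-- Say that a group has self-centralizing non-cyclic subgroups when every non-cyclic subgroup H satisfies C_G(H) ≤ H. A finite non-abelian 2-group G of order 2^n has self-centralizing non-cyclic subgroups if and only if G has nilpotency class n − 1 (that is, G is dihedral, semidihedral or generalized quaternion). -/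
theorem result {G : Type*} [Group G] [Finite G] (hna : ¬ IsMulCommutative G) (n : ℕ) (hG : Nat.card G = 2 ^ n) :
    (∀ H : Subgroup G, ¬ IsCyclic ↥H → Subgroup.centralizer (H : Set G) ≤ H) ↔ (⊤ : Subgroup G).lowerCentralSeries (n - 2) ≠ ⊥ := by
  have hf2 : Fact (Nat.Prime 2) := ⟨Nat.prime_two⟩
  have h2 : IsPGroup 2 G := IsPGroup.of_card hG
  have hnil : Group.IsNilpotent G := h2.isNilpotent
  have hn := three_le_of_not_comm hna n hG
  constructor
  · intro hstar
    have hidx := index_commutator_of_selfCent hna h2 hstar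
    have hc := class_of_index_commutator n hn hG hidx
    intro hbot
    have := Subgroup.lowerCentralSeries_eq_bot_iff_nilpotencyClass_le.mp hbot
    omega
  · intro hne
    have hclass_ge : ¬ Group.nilpotencyClass G ≤ n - 2 := fun h =>
      hne (Subgroup.lowerCentralSeries_eq_bot_iff_nilpotencyClass_le.mpr h)
    have hclass_le : Group.nilpotencyClass G ≤ n - 1 := by
      have h1 := pow_le_card_lowerCentralSeries (X := G) (Group.nilpotencyClass G - 1) (by omega)
      rw [show Group.nilpotencyClass G - (Group.nilpotencyClass G - 1) = 1 by omega] at h1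
      have hL1 : (⊤ : Subgroup G).lowerCentralSeries 1 = commutator G := rfl
      rw [hL1] at h1
      have h4 := four_le_index_commutator hna h2
      have h5 := Subgroup.index_mul_card (commutator G)
      rw [hG] at h5
      have h6 : 2 ^ (Group.nilpotencyClass G - 1) * 4 ≤ 2 ^ n := by
        calc 2 ^ (Group.nilpotencyClass G - 1) * 4
            ≤ Nat.card ↥(commutator G) * (commutator G).index := Nat.mul_le_mul h1 h4
          _ = 2 ^ n := by rw [mul_comm]; exact h5
      have h7 : 2 ^ (Group.nilpotencyClass G - 1 + 2) ≤ 2 ^ n := by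
        rw [pow_add]; exact h6
      have h8 := (Nat.pow_le_pow_iff_right (by norm_num : 1 < 2)).mp h7
      omega
    have hc : Group.nilpotencyClass G = n - 1 := by omega
    have hidx := index_commutator_of_class n hn hG hc
    exact selfCent_of_index_commutator h2 hidx

end Cfsg.Agent.S3919
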