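import Cfsg.Statements.S3920
-- import your own Cfsg.Agent.* helpers here

set_option autoImplicit false
open Cfsg

namespace Cfsg.Agent.S3920

open DihedralGroup

theorem isCyclic_of_le_zpowers {G : Type*} [Group G] (H : Subgroup G) (g : G)
    (h : H ≤ Subgroup.zpowers g) : IsCyclic ↥H :=
  (Subgroup.subgroupOfEquivOfLe h).isCyclic.mp inferInstance

/-- odd case: `j + j = 0 → j = 0`. -/
theorem zmod_odd_double {n : ℕ} (hn : Odd n) (j : ZMod n) (h : j + j = 0) : j = 0 := by
  obtain ⟨t, ht⟩ := hn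
  have h1 : ((t : ZMod n) + 1) * 2 = 1 := by
    have : ((2 * t + 1 : ℕ) : ZMod n) = 0 := by rw [← ht]; exact ZMod.natCast_self n
    push_cast at this
    linear_combination this
  calc j = (((t : ZMod n) + 1) * 2) * j := by rw [h1, one_mul]
    _ = ((t : ZMod n) + 1) * (j + j) := by ring
    _ = 0 := by rw [h, mul_zero]

/-- In `ZMod (2^k)`, a nonzero `x` with `x + x = 0` has `val = 2^(k-1)`. -/
theorem zmod_two_pow_val {k : ℕ} (x : ZMod (2 ^ k)) (h : x + x = 0) (hx : x ≠ 0) :
    x.val = 2 ^ (k - 1) := by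
  have hk : k ≠ 0 := by
    rintro rfl
    apply hx
    have : Subsingleton (ZMod (2 ^ 0)) := by
      rw [pow_zero]; infer_instance
    exact Subsingleton.elim _ _
  have : NeZero (2 ^ k) := ⟨by positivity⟩
  have h1 : ((2 * x.val : ℕ) : ZMod (2 ^ k)) = 0 := by
    push_cast
    rw [ZMod.natCast_zmod_val, two_mul]; exact h
  rw [ZMod.natCast_eq_zero_iff] at h1
  have hlt : x.val < 2 ^ k := ZMod.val_lt x
  have hpos : 0 < x.val := by
    rcases Nat.eq_zero_or_pos x.val with h0 | h0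
    · exact absurd ((ZMod.val_eq_zero x).mp h0) hx
    · exact h0
  have hk' : 2 ^ k = 2 * 2 ^ (k - 1) := by
    rw [← pow_succ']; congr 1; omega
  have h1' : 2 * 2 ^ (k - 1) ∣ 2 * x.val := (dvd_of_eq hk'.symm).trans h1
  have hlt' : x.val < 2 * 2 ^ (k - 1) := lt_of_lt_of_eq hlt hk'
  clear hlt h1
  have h2 : 2 ^ (k - 1) ∣ x.val := (Nat.mul_dvd_mul_iff_left (by norm_num)).mp h1'
  obtain ⟨q, hq⟩ := h2
  rw [hq] at hlt' hpos ⊢
  have hq1 : q = 1 := by
    have h3 : 0 < 2 ^ (k - 1) := by positivity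
    have h4 : q < 2 := by
      by_contra h5
      push Not at h5
      have : 2 * 2 ^ (k - 1) ≤ 2 ^ (k - 1) * q := by
        calc 2 * 2 ^ (k - 1) = 2 ^ (k - 1) * 2 := by ring
          _ ≤ 2 ^ (k - 1) * q := Nat.mul_le_mul_left _ h5
      omega
    have h6 : q ≠ 0 := by
      rintro rfl; simp at hpos
    omega
  rw [hq1, mul_one]

/-- Property (Q3) -/
def Q3 (n : ℕ) : Prop :=
  ∀ j m : ZMod n, j + j = 0 → j ≠ 0 → m ≠ 0 → ∃ s : ℕ, m * (s : ZMod n) = j

theorem Q3_odd {n : ℕ} (hn : Odd n) : Q3 n := by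
  intro j m hj hj0 _
  exact absurd (zmod_odd_double hn j hj) hj0

theorem Q3_two_pow (k : ℕ) : Q3 (2 ^ k) := by
  intro j m hj hj0 hm0
  have hex : ∃ s : ℕ, m * ((2 ^ s : ℕ) : ZMod (2 ^ k)) = 0 := ⟨k, by rw [ZMod.natCast_self, mul_zero]⟩
  classical
  obtain ⟨s0, hspec, hmin'⟩ : ∃ s0 : ℕ, m * ((2 ^ s0 : ℕ) : ZMod (2 ^ k)) = 0 ∧
      ∀ t < s0, ¬ m * ((2 ^ t : ℕ) : ZMod (2 ^ k)) = 0 :=
    ⟨Nat.find hex, Nat.find_spec hex, fun t ht => Nat.find_min hex ht⟩
  have hs0 : s0 ≠ 0 := by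
    rintro rfl
    rw [pow_zero, Nat.cast_one, mul_one] at hspec
    exact hm0 hspec
  have hmin := hmin' (s0 - 1) (by omega)
  refine ⟨2 ^ (s0 - 1), ?_⟩
  apply ZMod.val_injective
  have hdbl : m * ((2 ^ (s0 - 1) : ℕ) : ZMod (2 ^ k)) + m * ((2 ^ (s0 - 1) : ℕ) : ZMod (2 ^ k)) = 0 := by
    have : s0 = (s0 - 1) + 1 := by omega
    rw [this, pow_succ] at hspec
    push_cast at hspec ⊢
    rw [← hspec]; ring
  rw [zmod_two_pow_val _ hdbl hmin, zmod_two_pow_val _ hj hj0]


theorem selfcentralizing_of_Q3 {n : ℕ} [NeZero n] (hQ : Q3 n) (H : Subgroup (DihedralGroup n))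
    (hH : ¬ IsCyclic ↥H) : Subgroup.centralizer (H : Set (DihedralGroup n)) ≤ H := by
  have h1 : ∃ i, sr i ∈ H := by
    by_contra hne
    push Not at hne
    apply hH
    apply isCyclic_of_le_zpowers H (r 1)
    intro x hx
    cases x with
    | r j =>
      rw [Subgroup.mem_zpowers_iff]
      refine ⟨j.val, ?_⟩
      rw [zpow_natCast, r_one_pow, ZMod.natCast_zmod_val]
    | sr j => exact absurd hx (hne j)
  obtain ⟨i, hi⟩ := h1
  have h2 : ∃ m, m ≠ 0 ∧ r m ∈ H := by
    by_contra hne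
    push Not at hne
    apply hH
    apply isCyclic_of_le_zpowers H (sr i)
    intro x hx
    cases x with
    | r j =>
      have : j = 0 := by
        by_contra h; exact hne j h hx
      subst this
      rw [r_zero]; exact Subgroup.one_mem _
    | sr j =>
      have hmem : r (j - i) ∈ H := by rw [← sr_mul_sr]; exact H.mul_mem hi hx
      have : j - i = 0 := by
        by_contra h; exact hne _ h hmem
      have : j = i := sub_eq_zero.mp this
      subst this; exact Subgroup.mem_zpowers _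
  obtain ⟨m, hm0, hm⟩ := h2
  intro c hc
  rw [Subgroup.mem_centralizer_iff] at hc
  have c1 := hc _ hi
  have c2 := hc _ hm
  cases c with
  | r j =>
    rw [sr_mul_r, r_mul_sr] at c1
    have hjj : j + j = 0 := by
      have := sr.inj c1
      linear_combination this
    by_cases hj0 : j = 0
    · subst hj0; rw [r_zero]; exact H.one_mem
    · obtain ⟨s, hs⟩ := hQ j m hjj hj0 hm0
      rw [← hs, ← r_pow]; exact H.pow_mem hm s
  | sr j =>
    rw [r_mul_sr, sr_mul_r] at c2
    have hmm : m + m = 0 := by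
      have := sr.inj c2
      linear_combination (-1 : ZMod n) * this
    rw [sr_mul_sr, sr_mul_sr] at c1
    have hd : (j - i) + (j - i) = 0 := by
      have := r.inj c1
      linear_combination this
    by_cases hji : j - i = 0
    · have : j = i := sub_eq_zero.mp hji
      subst this; exact hi
    · obtain ⟨s, hs⟩ := hQ (j - i) m hd hji hm0
      have : sr j = sr i * (r m) ^ s := by
        rw [r_pow, hs, sr_mul_r]; congr 1; ring
      rw [this]; exact H.mul_mem hi (H.pow_mem hm s)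

/-- The subgroup of `DihedralGroup n` of all `r j`, `sr j` with `j` in an additive subgroup `S`. -/
def dihSub {n : ℕ} (S : AddSubgroup (ZMod n)) : Subgroup (DihedralGroup n) where
  carrier := {x | match x with | r j => j ∈ S | sr j => j ∈ S}
  mul_mem' := by
    rintro (a | a) (b | b) ha hb
    · simp only [Set.mem_ofPred_eq, r_mul_r] at *
      exact S.add_mem ha hb
    · simp only [Set.mem_ofPred_eq, r_mul_sr] at *
      exact S.sub_mem hb ha
    · simp only [Set.mem_ofPred_eq, sr_mul_r] at *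
      exact S.add_mem ha hb
    · simp only [Set.mem_ofPred_eq, sr_mul_sr] at *
      exact S.sub_mem hb ha
  one_mem' := by
    simp only [Set.mem_ofPred_eq, one_def]
    exact S.zero_mem
  inv_mem' := by
    rintro (a | a) ha
    · simp only [Set.mem_ofPred_eq, inv_r] at *
      exact S.neg_mem ha
    · simp only [Set.mem_ofPred_eq, inv_sr] at *
      exact ha

theorem r_mem_dihSub {n : ℕ} (S : AddSubgroup (ZMod n)) (j : ZMod n) : r j ∈ dihSub S ↔ j ∈ S := Iff.rfl

theorem sr_mem_dihSub {n : ℕ} (S : AddSubgroup (ZMod n)) (j : ZMod n) : sr j ∈ dihSub S ↔ j ∈ S := Iff.rfl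

theorem counterexample (n : ℕ) (hn : 3 ≤ n) (hodd : ¬ Odd n) (hpow : ∀ k : ℕ, n ≠ 2 ^ k) :
    ∃ H : Subgroup (DihedralGroup n), ¬ IsCyclic ↥H ∧
      ¬ Subgroup.centralizer (H : Set (DihedralGroup n)) ≤ H := by
  have : NeZero n := ⟨by omega⟩
  obtain ⟨a, b, hb, hab⟩ := Nat.exists_eq_two_pow_mul_odd (n := n) (by omega)
  have ha : a ≠ 0 := by
    rintro rfl
    rw [pow_zero, one_mul] at hab
    exact hodd (hab ▸ hb)
  have hb1 : b ≠ 1 := by
    rintro rfl
    rw [mul_one] at hab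
    exact hpow a hab
  have hdn : 2 ^ a ∣ n := ⟨b, hab⟩
  have hneven : Even n := Nat.not_odd_iff_even.mp hodd
  -- the subgroup
  let φ : ZMod n →+ ZMod (2 ^ a) := (ZMod.castHom hdn (ZMod (2 ^ a))).toAddMonoidHom
  have hφ : ∀ t : ℕ, φ (t : ZMod n) = (t : ZMod (2 ^ a)) := fun t => map_natCast (ZMod.castHom hdn (ZMod (2 ^ a))) t
  refine ⟨dihSub φ.ker, ?_, ?_⟩
  · -- not cyclic: `sr 0` and `r (2^a)` do not commute
    intro hc
    have h1 : sr (0 : ZMod n) ∈ dihSub φ.ker := by
      rw [sr_mem_dihSub, AddMonoidHom.mem_ker, map_zero]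
    have h2 : r (((2 ^ a : ℕ) : ZMod n)) ∈ dihSub φ.ker := by
      rw [r_mem_dihSub, AddMonoidHom.mem_ker, hφ, ZMod.natCast_self]
    obtain ⟨x, hx⟩ := hc.exists_generator
    obtain ⟨u, hu⟩ := Subgroup.mem_zpowers_iff.mp (hx ⟨_, h1⟩)
    obtain ⟨v, hv⟩ := Subgroup.mem_zpowers_iff.mp (hx ⟨_, h2⟩)
    have hu' : sr (0 : ZMod n) = (x : DihedralGroup n) ^ u := by
      simpa using (congrArg Subtype.val hu).symm
    have hv' : r (((2 ^ a : ℕ) : ZMod n)) = (x : DihedralGroup n) ^ v := by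
      simpa using (congrArg Subtype.val hv).symm
    have hcomm : sr (0 : ZMod n) * r (((2 ^ a : ℕ) : ZMod n)) = r (((2 ^ a : ℕ) : ZMod n)) * sr (0 : ZMod n) := by
      rw [hu', hv']; exact (Commute.zpow_zpow_self _ u v).eq
    rw [sr_mul_r, r_mul_sr] at hcomm
    have h3 := sr.inj hcomm
    have h4 : ((2 ^ a * 2 : ℕ) : ZMod n) = 0 := by
      push_cast at h3 ⊢
      linear_combination h3
    rw [ZMod.natCast_eq_zero_iff, hab] at h4
    have h5 : b ∣ 2 := (Nat.mul_dvd_mul_iff_left (by positivity)).mp h4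
    have h6 : b = 1 ∨ b = 2 := (Nat.dvd_prime Nat.prime_two).mp h5
    rcases h6 with h6 | h6
    · exact hb1 h6
    · rw [h6] at hb; exact absurd hb (by decide)
  · -- `r (n/2)` is central but not in the subgroup
    intro hle
    have hhalf : ((n / 2 : ℕ) : ZMod n) + ((n / 2 : ℕ) : ZMod n) = 0 := by
      have : n / 2 + n / 2 = n := by
        obtain ⟨t, ht⟩ := hneven; omega
      rw [← Nat.cast_add, this, ZMod.natCast_self]
    have hz : r (((n / 2 : ℕ) : ZMod n)) ∈ Subgroup.centralizer ((dihSub φ.ker : Subgroup (DihedralGroup n)) : Set (DihedralGroup n)) := by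
      rw [Subgroup.mem_centralizer_iff]
      rintro (j | j) _
      · rw [r_mul_r, r_mul_r, add_comm]
      · rw [sr_mul_r, r_mul_sr]
        congr 1
        linear_combination hhalf
    have hmem := hle hz
    rw [r_mem_dihSub, AddMonoidHom.mem_ker, hφ, ZMod.natCast_eq_zero_iff] at hmem
    -- 2^a ∣ n/2 = 2^(a-1) * b
    have hn2 : n / 2 = 2 ^ (a - 1) * b := by
      have : 2 ^ a = 2 * 2 ^ (a - 1) := by
        rw [← pow_succ']; congr 1; omega
      rw [hab, this, mul_assoc, Nat.mul_div_cancel_left _ (by norm_num)]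
    rw [hn2] at hmem
    have h7 : 2 ^ a = 2 ^ (a - 1) * 2 := by
      rw [← pow_succ]; congr 1; omega
    rw [h7] at hmem
    have h8 : 2 ∣ b := (Nat.mul_dvd_mul_iff_left (by positivity)).mp hmem
    exact (Nat.not_even_iff_odd.mpr hb) (even_iff_two_dvd.mpr h8)


/-- Say that a group has self-centralizing non-cyclic subgroups when every non-cyclic subgroup H satisfies C_G(H) ≤ H. For n ≥ 3, the dihedral group of order 2n has self-centralizing non-cyclic subgroups if and only if n is odd or a power of 2. -/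
theorem result (n : ℕ) (hn : 3 ≤ n) : (∀ H : Subgroup (DihedralGroup n), ¬ IsCyclic ↥H → Subgroup.centralizer (H : Set (DihedralGroup n)) ≤ H) ↔ (Odd n ∨ ∃ k : ℕ, n = 2 ^ k) := by
  have : NeZero n := ⟨by omega⟩
  constructor
  · intro h
    by_contra hne
    push Not at hne
    obtain ⟨H, hH1, hH2⟩ := counterexample n hn hne.1 hne.2
    exact hH2 (h H hH1)
  · rintro (hodd | ⟨k, rfl⟩)
    · exact fun H hH => selfcentralizing_of_Q3 (Q3_odd hodd) H hH
    · exact fun H hH => selfcentralizing_of_Q3 (Q3_two_pow k) H hH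

end Cfsg.Agent.S3920
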