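import Cfsg.Statements.S3939
import Cfsg.Agent.Lib.Helper65.NilpBasic

set_option autoImplicit false
open Cfsg

namespace Cfsg.Agent.S3939

open scoped commutatorElement

theorem ucs_subgroup_le {G : Type*} [Group G] (H : Subgroup G) :
    ∀ (n : ℕ) (h : ↥H), (h : G) ∈ Subgroup.upperCentralSeries G n →
      h ∈ Subgroup.upperCentralSeries ↥H n := by
  intro n
  induction n with
  | zero =>
    intro h hh
    simp only [Subgroup.upperCentralSeries_zero, Subgroup.mem_bot] at hh ⊢
    exact Subtype.ext hh
  | succ n ih =>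
    intro h hh
    rw [Subgroup.mem_upperCentralSeries_succ_iff] at hh ⊢
    intro y
    apply ih
    have := hh (y : G)
    simpa [commutatorElement_def] using this

theorem nilpotent_closure_pair_of_mem_ucs {G : Type*} [Group G] (g x : G) (n : ℕ)
    (hg : g ∈ Subgroup.upperCentralSeries G n) :
    Group.IsNilpotent ↥(Subgroup.closure ({x, g} : Set G)) := by
  have hxH : x ∈ Subgroup.closure ({x, g} : Set G) := Subgroup.subset_closure (by simp)
  have hgH : g ∈ Subgroup.closure ({x, g} : Set G) := Subgroup.subset_closure (by simp)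
  have hgK : (⟨g, hgH⟩ : ↥(Subgroup.closure ({x, g} : Set G))) ∈
      Subgroup.upperCentralSeries ↥(Subgroup.closure ({x, g} : Set G)) n :=
    ucs_subgroup_le _ n ⟨g, hgH⟩ hg
  have htop : Subgroup.closure ((Subtype.val : ↥(Subgroup.closure ({x, g} : Set G)) → G) ⁻¹' ({x, g} : Set G)) = ⊤ :=
    Subgroup.closure_closure_coe_preimage
  have hK : (Subgroup.upperCentralSeries ↥(Subgroup.closure ({x, g} : Set G)) n).Normal := inferInstance
  refine ⟨⟨n + 1, ?_⟩⟩
  rw [eq_top_iff, ← htop, Subgroup.closure_le]
  rintro ⟨y, hyH⟩ hy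
  simp only [Set.mem_preimage, Set.mem_insert_iff, Set.mem_singleton_iff] at hy
  rcases hy with rfl | rfl
  · rw [SetLike.mem_coe, Subgroup.mem_upperCentralSeries_succ_iff]
    intro z
    have hz : z ∈ (⊤ : Subgroup ↥(Subgroup.closure ({y, g} : Set G))) := trivial
    rw [← htop] at hz
    induction hz using Subgroup.closure_induction with
    | mem z hz =>
      simp only [Set.mem_preimage, Set.mem_insert_iff, Set.mem_singleton_iff] at hz
      rcases hz with hz | hz
      · have : z = ⟨y, hyH⟩ := Subtype.ext hz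
        rw [this, commutatorElement_self]; exact Subgroup.one_mem _
      · have : z = ⟨g, hgH⟩ := Subtype.ext hz
        rw [this, commutatorElement_def]
        exact Subgroup.mul_mem _ (hK.conj_mem _ hgK _) (Subgroup.inv_mem _ hgK)
    | one => rw [commutatorElement_one_right]; exact Subgroup.one_mem _
    | mul a b _ _ ha hb =>
      have e : ⁅(⟨y, hyH⟩ : ↥(Subgroup.closure ({y, g} : Set G))), a * b⁆ =
          ⁅(⟨y, hyH⟩ : ↥(Subgroup.closure ({y, g} : Set G))), a⁆ *
            (a * ⁅(⟨y, hyH⟩ : ↥(Subgroup.closure ({y, g} : Set G))), b⁆ * a⁻¹) := by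
        simp only [commutatorElement_def]; group
      rw [e]
      exact Subgroup.mul_mem _ ha (hK.conj_mem _ hb _)
    | inv a _ ha =>
      have e : ⁅(⟨y, hyH⟩ : ↥(Subgroup.closure ({y, g} : Set G))), a⁻¹⁆ =
          a⁻¹ * (⁅(⟨y, hyH⟩ : ↥(Subgroup.closure ({y, g} : Set G))), a⁆)⁻¹ * a⁻¹⁻¹ := by
        simp only [commutatorElement_def]; group
      rw [e]
      exact hK.conj_mem _ (Subgroup.inv_mem _ ha) _
  · exact Subgroup.upperCentralSeries_mono _ (Nat.le_succ n) hgK


section
variable {G : Type*} [Group G]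

/-- The subgroup generated by the `p'`-elements. -/
def pRes (G : Type*) [Group G] (p : ℕ) : Subgroup G :=
  Subgroup.closure {x : G | (orderOf x).Coprime p}

instance pRes_normal (p : ℕ) : (pRes G p).Normal := by
  constructor
  intro k hk t
  have h1 : (pRes G p).map (MulAut.conj t).toMonoidHom ≤ pRes G p := by
    unfold pRes
    rw [MonoidHom.map_closure, Subgroup.closure_le]
    rintro _ ⟨x, hx, rfl⟩
    apply Subgroup.subset_closure
    show (orderOf (MulAut.conj t x)).Coprime p
    rw [MulEquiv.orderOf_eq]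
    exact hx
  exact h1 ⟨k, hk, by simp⟩

/-- A `p`-element lies in a normal Sylow `p`-subgroup. -/
theorem mem_normal_sylow {p : ℕ} (P : Sylow p G)
    (hP : (P : Subgroup G).Normal) {d : G} {k : ℕ} (hdk : d ^ p ^ k = 1) : d ∈ (P : Subgroup G) := by
  have h1 : IsPGroup p ↥(Subgroup.zpowers d) := by
    rintro ⟨g, hg⟩
    obtain ⟨i, rfl⟩ := Subgroup.mem_zpowers_iff.mp hg
    refine ⟨k, Subtype.ext ?_⟩
    simp only [Subgroup.coe_pow, Subgroup.coe_one]
    rw [← zpow_natCast, ← zpow_mul, mul_comm, zpow_mul, zpow_natCast, hdk, one_zpow]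
  have h2 : IsPGroup p ↥(Subgroup.zpowers d ⊔ (P : Subgroup G)) :=
    IsPGroup.to_sup_of_normal_right h1 P.2
  have h3 := P.is_maximal' h2 le_sup_right
  have h4 : d ∈ Subgroup.zpowers d ⊔ (P : Subgroup G) :=
    Subgroup.mem_sup_left (Subgroup.mem_zpowers d)
  rw [h3] at h4; exact h4

variable [Finite G] {p : ℕ} [hp : Fact p.Prime]

/-- every element has a `p`-power power in `pRes`. -/
theorem exists_pow_mem_pRes (y : G) : ∃ k : ℕ, y ^ p ^ k ∈ pRes G p := by
  obtain ⟨k, m, hm, hkm⟩ := Nat.exists_eq_pow_mul_and_not_dvd (orderOf_pos y).ne' p hp.out.ne_one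
  refine ⟨k, Subgroup.subset_closure ?_⟩
  show (orderOf (y ^ p ^ k)).Coprime p
  rw [orderOf_pow_of_dvd (pow_ne_zero _ hp.out.ne_zero) (by rw [hkm]; exact dvd_mul_right _ _), hkm,
    Nat.mul_div_cancel_left _ (pow_pos hp.out.pos k)]
  exact ((Nat.Prime.coprime_iff_not_dvd hp.out).mpr hm).symm


/-- Main step for `p`-elements. -/
theorem pElement_mem_ucs (g : G) {k : ℕ} (hgk : g ^ p ^ k = 1)
    (hcomm : ∀ x : G, (orderOf x).Coprime p → Commute x g) :
    ∃ c, g ∈ Subgroup.upperCentralSeries G c := by
  have hgK : ∀ z ∈ pRes G p, z * g = g * z := by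
    have hle : pRes G p ≤ Subgroup.centralizer {g} := by
      unfold pRes
      rw [Subgroup.closure_le]
      intro x hx
      rw [SetLike.mem_coe, Subgroup.mem_centralizer_singleton_iff]
      exact (hcomm x hx).eq
    intro z hz
    have := hle hz
    rw [Subgroup.mem_centralizer_singleton_iff] at this
    exact this
  have hgC : g ∈ Subgroup.centralizer ((pRes G p : Subgroup G) : Set G) := by
    rw [Subgroup.mem_centralizer_iff]; intro z hz; exact hgK z hz
  -- the centralizer of `pRes` is nilpotent
  have hCnil : Group.IsNilpotent ↥(Subgroup.centralizer ((pRes G p : Subgroup G) : Set G)) := by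
    have hker : (QuotientGroup.mk' ((pRes G p).subgroupOf
        (Subgroup.centralizer ((pRes G p : Subgroup G) : Set G)))).ker ≤
        Subgroup.center ↥(Subgroup.centralizer ((pRes G p : Subgroup G) : Set G)) := by
      rw [QuotientGroup.ker_mk']
      intro c hc
      rw [Subgroup.mem_center_iff]
      intro c'
      apply Subtype.ext
      have := (Subgroup.mem_centralizer_iff.mp c'.2) (c : G) (Subgroup.mem_subgroupOf.mp hc)
      simpa using this.symm
    have hpq : IsPGroup p (↥(Subgroup.centralizer ((pRes G p : Subgroup G) : Set G)) ⧸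
        (pRes G p).subgroupOf (Subgroup.centralizer ((pRes G p : Subgroup G) : Set G))) := by
      intro q
      obtain ⟨c, rfl⟩ := QuotientGroup.mk_surjective q
      obtain ⟨j, hj⟩ := exists_pow_mem_pRes (p := p) (c : G)
      refine ⟨j, ?_⟩
      rw [← QuotientGroup.mk_pow, QuotientGroup.eq_one_iff, Subgroup.mem_subgroupOf]
      simpa using hj
    have := hpq.isNilpotent
    exact Subgroup.isNilpotent_of_ker_le_center (QuotientGroup.mk' ((pRes G p).subgroupOf
        (Subgroup.centralizer ((pRes G p : Subgroup G) : Set G)))) hker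
  -- the normal `p`-subgroup `D`
  let PC : Sylow p ↥(Subgroup.centralizer ((pRes G p : Subgroup G) : Set G)) := default
  have hPCn : (PC : Subgroup ↥(Subgroup.centralizer ((pRes G p : Subgroup G) : Set G))).Normal := inferInstance
  have hPCc : (PC : Subgroup ↥(Subgroup.centralizer ((pRes G p : Subgroup G) : Set G))).Characteristic :=
    Sylow.characteristic_of_normal PC hPCn
  have hDn : ((PC : Subgroup ↥(Subgroup.centralizer ((pRes G p : Subgroup G) : Set G))).map
      (Subgroup.centralizer ((pRes G p : Subgroup G) : Set G)).subtype).Normal :=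
    ConjAct.normal_of_characteristic_of_normal
  have hDp : IsPGroup p ↥((PC : Subgroup ↥(Subgroup.centralizer ((pRes G p : Subgroup G) : Set G))).map
      (Subgroup.centralizer ((pRes G p : Subgroup G) : Set G)).subtype) := PC.2.map _
  have hDC : (PC : Subgroup ↥(Subgroup.centralizer ((pRes G p : Subgroup G) : Set G))).map
      (Subgroup.centralizer ((pRes G p : Subgroup G) : Set G)).subtype ≤
      Subgroup.centralizer ((pRes G p : Subgroup G) : Set G) := Subgroup.map_subtype_le _
  have hgD : g ∈ (PC : Subgroup ↥(Subgroup.centralizer ((pRes G p : Subgroup G) : Set G))).map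
      (Subgroup.centralizer ((pRes G p : Subgroup G) : Set G)).subtype := by
    refine ⟨⟨g, hgC⟩, ?_, rfl⟩
    apply mem_normal_sylow PC hPCn (k := k)
    exact Subtype.ext (by simpa using hgk)
  generalize (PC : Subgroup ↥(Subgroup.centralizer ((pRes G p : Subgroup G) : Set G))).map
      (Subgroup.centralizer ((pRes G p : Subgroup G) : Set G)).subtype = D at hDn hDp hDC hgD
  -- a Sylow `p`-subgroup of `G`
  let P : Sylow p G := default
  have hDP : D ≤ (P : Subgroup G) := hDp.le_sylow_of_normal P
  have hKP : pRes G p ⊔ (P : Subgroup G) = ⊤ := by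
    rw [← Subgroup.index_eq_one]
    have h1 : (pRes G p ⊔ (P : Subgroup G)).index ∣ (pRes G p).index :=
      Subgroup.index_dvd_of_le le_sup_left
    have h2 : (pRes G p ⊔ (P : Subgroup G)).index ∣ (P : Subgroup G).index :=
      Subgroup.index_dvd_of_le le_sup_right
    have hq : IsPGroup p (G ⧸ pRes G p) := by
      intro q
      obtain ⟨y, rfl⟩ := QuotientGroup.mk_surjective q
      obtain ⟨j, hj⟩ := exists_pow_mem_pRes (p := p) y
      exact ⟨j, by rw [← QuotientGroup.mk_pow, QuotientGroup.eq_one_iff]; exact hj⟩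
    obtain ⟨a, ha⟩ := IsPGroup.iff_card.mp hq
    have hidx : (pRes G p).index = p ^ a := by rw [Subgroup.index_eq_card]; exact ha
    rw [hidx] at h1
    obtain ⟨b, -, hb'⟩ := (Nat.dvd_prime_pow hp.out).mp h1
    by_contra hne
    have hb0 : b ≠ 0 := by
      rintro rfl
      exact hne (by simpa using hb')
    have : p ∣ (P : Subgroup G).index := (dvd_pow_self p hb0).trans (hb' ▸ h2)
    exact P.not_dvd_index this
  -- the key induction
  have key : ∀ (i : ℕ) (x : ↥(P : Subgroup G)),
      x ∈ Subgroup.upperCentralSeries ↥(P : Subgroup G) i → (x : G) ∈ D →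
        (x : G) ∈ Subgroup.upperCentralSeries G i := by
    intro i
    induction i with
    | zero =>
      intro x hx _
      simp only [Subgroup.upperCentralSeries_zero, Subgroup.mem_bot] at hx ⊢
      rw [hx]; rfl
    | succ i ih =>
      intro x hx hxD
      rw [Subgroup.mem_upperCentralSeries_succ_iff] at hx ⊢
      intro y
      have hy : y ∈ pRes G p ⊔ (P : Subgroup G) := by rw [hKP]; trivial
      obtain ⟨z, hz, t, ht, rfl⟩ := Subgroup.mem_sup_of_normal_left.mp hy
      have hxt := hx ⟨t, ht⟩
      have hcD : ⁅(x : G), t⁆ ∈ D := by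
        have e : ⁅(x : G), t⁆ = (x : G) * (t * (x : G)⁻¹ * t⁻¹) := by
          rw [commutatorElement_def]; group
        rw [e]
        exact D.mul_mem hxD (hDn.conj_mem _ (D.inv_mem hxD) _)
      have h1 : z * (x : G) = (x : G) * z := (Subgroup.mem_centralizer_iff.mp (hDC hxD)) z hz
      have h2 : z * ⁅(x : G), t⁆ = ⁅(x : G), t⁆ * z := (Subgroup.mem_centralizer_iff.mp (hDC hcD)) z hz
      have e : ⁅(x : G), z * t⁆ = ⁅(x : G), t⁆ := by
        calc ⁅(x : G), z * t⁆ = ((x : G) * z) * t * (x : G)⁻¹ * t⁻¹ * z⁻¹ := by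
              rw [commutatorElement_def]; group
          _ = z * ⁅(x : G), t⁆ * z⁻¹ := by rw [← h1, commutatorElement_def]; group
          _ = ⁅(x : G), t⁆ := by rw [h2]; group
      rw [e]
      have hcoe : ((⁅x, ⟨t, ht⟩⁆ : ↥(P : Subgroup G)) : G) = ⁅(x : G), t⁆ := rfl
      have := ih ⁅x, ⟨t, ht⟩⁆ hxt (by rw [hcoe]; exact hcD)
      rw [hcoe] at this
      exact this
  have hPnil : Group.IsNilpotent ↥(P : Subgroup G) := P.2.isNilpotent
  obtain ⟨c, hc⟩ := hPnil.nilpotent'
  exact ⟨c, key c ⟨g, hDP hgD⟩ (by rw [hc]; trivial) hgD⟩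


omit hp in
theorem commute_of_nilpotent_closure (g x : G)
    (hN : Group.IsNilpotent ↥(Subgroup.closure ({x, g} : Set G)))
    (h : Nat.Coprime (orderOf x) (orderOf g)) : Commute x g := by
  have hxH : x ∈ Subgroup.closure ({x, g} : Set G) := Subgroup.subset_closure (by simp)
  have hgH : g ∈ Subgroup.closure ({x, g} : Set G) := Subgroup.subset_closure (by simp)
  have := Cfsg.Agent.Lib.Helper65.commute_of_coprime_orderOf
    (⟨x, hxH⟩ : ↥(Subgroup.closure ({x, g} : Set G))) ⟨g, hgH⟩
    (by rw [Subgroup.orderOf_mk, Subgroup.orderOf_mk]; exact h)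
  exact congrArg Subtype.val this.eq

omit hp [Finite G] in
theorem mem_iSup_ucs_of_mem (g : G) (c : ℕ) (h : g ∈ Subgroup.upperCentralSeries G c) :
    g ∈ ⨆ n : ℕ, Subgroup.upperCentralSeries G n :=
  (le_iSup (fun n => Subgroup.upperCentralSeries G n) c) h

omit hp in
theorem mem_hypercenter_of_R :
    ∀ (n : ℕ) (g : G), orderOf g = n →
      (∀ x : G, Group.IsNilpotent ↥(Subgroup.closure ({x, g} : Set G))) →
      g ∈ ⨆ n : ℕ, Subgroup.upperCentralSeries G n := by
  intro n
  induction n using Nat.strong_induction_on with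
  | _ n ih =>
    intro g hgn hR
    by_cases hn1 : n = 1
    · rw [hn1, orderOf_eq_one_iff] at hgn
      rw [hgn]; exact Subgroup.one_mem _
    have hnpos : 0 < n := hgn ▸ orderOf_pos g
    have hpp : (n.minFac).Prime := Nat.minFac_prime hn1
    have hpn : n.minFac ∣ n := Nat.minFac_dvd n
    generalize n.minFac = p at hpp hpn
    have : Fact p.Prime := ⟨hpp⟩
    obtain ⟨k, m, hm, hkm⟩ := Nat.exists_eq_pow_mul_and_not_dvd hnpos.ne' p hpp.ne_one
    by_cases hm1 : m = 1
    · -- prime power order
      rw [hm1, mul_one] at hkm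
      have hgk : g ^ p ^ k = 1 := by rw [← hkm, ← hgn]; exact pow_orderOf_eq_one g
      obtain ⟨c, hc⟩ := pElement_mem_ucs (p := p) g hgk (by
        intro x hx
        apply commute_of_nilpotent_closure g x (hR x)
        rw [hgn, hkm]
        exact Nat.Coprime.pow_right k hx)
      exact mem_iSup_ucs_of_mem g c hc
    · -- split into coprime parts
      have hk0 : k ≠ 0 := by
        rintro rfl
        rw [pow_zero, one_mul] at hkm
        exact hm (hkm ▸ hpn)
      have hmpos : 0 < m := by
        rcases Nat.eq_zero_or_pos m with h0 | h0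
        · rw [h0, mul_zero] at hkm; omega
        · exact h0
      have hapos : 0 < p ^ k := pow_pos hpp.pos k
      have ha1 : 1 < p ^ k := Nat.one_lt_pow hk0 hpp.one_lt
      have hm1' : 1 < m := by omega
      have hcop : Nat.Coprime (p ^ k) m :=
        Nat.Coprime.pow_left k ((Nat.Prime.coprime_iff_not_dvd hpp).mpr hm)
      -- orders of the two powers
      have ho1 : orderOf (g ^ p ^ k) = m := by
        rw [orderOf_pow_of_dvd hapos.ne' (by rw [hgn, hkm]; exact dvd_mul_right _ _), hgn, hkm,
          Nat.mul_div_cancel_left _ hapos]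
      have ho2 : orderOf (g ^ m) = p ^ k := by
        rw [orderOf_pow_of_dvd hmpos.ne' (by rw [hgn, hkm]; exact dvd_mul_left _ _), hgn, hkm,
          Nat.mul_div_cancel _ hmpos]
      have hlt1 : m < n := by
        rw [hkm]; exact lt_mul_of_one_lt_left hmpos ha1
      have hlt2 : p ^ k < n := by
        rw [hkm]; exact lt_mul_of_one_lt_right hapos hm1'
      have hRpow : ∀ j : ℕ, ∀ x : G, Group.IsNilpotent ↥(Subgroup.closure ({x, g ^ j} : Set G)) := by
        intro j x
        apply Cfsg.Agent.Lib.Helper65.isNilpotent_of_le _ (hR x)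
        rw [Subgroup.closure_le]
        rintro y (rfl | rfl)
        · exact Subgroup.subset_closure (by simp)
        · exact Subgroup.pow_mem _ (Subgroup.subset_closure (by simp)) _
      have h1 := ih m hlt1 (g ^ p ^ k) ho1 (hRpow _)
      have h2 := ih (p ^ k) hlt2 (g ^ m) ho2 (hRpow _)
      -- Bezout
      obtain ⟨u, v, huv⟩ := (Nat.isCoprime_iff_coprime.mpr hcop)
      have hg : g = (g ^ p ^ k) ^ u * (g ^ m) ^ v := by
        rw [← zpow_natCast, ← zpow_natCast, ← zpow_mul, ← zpow_mul, ← zpow_add]
        have : ((p ^ k : ℕ) : ℤ) * u + (m : ℤ) * v = 1 := by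
          rw [mul_comm _ u, mul_comm _ v]; exact_mod_cast huv
        rw [this, zpow_one]
      rw [hg]
      exact Subgroup.mul_mem _ (Subgroup.zpow_mem _ h1 u) (Subgroup.zpow_mem _ h2 v)

end


/-- In a finite group G the set of elements g such that the subgroup generated by g and x is nilpotent for every x ∈ G is exactly the hypercenter of G (the last term of the upper central series). -/
theorem result {G : Type*} [Group G] [Finite G] (g : G) :
    (∀ x : G, Group.IsNilpotent ↥(Subgroup.closure ({x, g} : Set G))) ↔ g ∈ ⨆ n : ℕ, Subgroup.upperCentralSeries G n := by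
  constructor
  · intro h
    exact mem_hypercenter_of_R (orderOf g) g rfl h
  · intro h x
    have hdir : Directed (· ≤ ·) (fun n : ℕ => Subgroup.upperCentralSeries G n) :=
      (Subgroup.upperCentralSeries_mono G).directed_le
    obtain ⟨n, hn⟩ := (Subgroup.mem_iSup_of_directed hdir).mp h
    exact nilpotent_closure_pair_of_mem_ucs g x n hn

end Cfsg.Agent.S3939
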