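import Cfsg.Statements.S3941
-- import your own Cfsg.Agent.* helpers here

set_option autoImplicit false
open Cfsg

namespace Cfsg.Agent.S3941

open Equiv

/-- A `p`-element lies in a normal Sylow `p`-subgroup. -/
theorem mem_normal_sylow {G : Type*} [Group G] {p : ℕ} (P : Sylow p G)
    (hP : (P : Subgroup G).Normal) {d : G} {k : ℕ} (hdk : d ^ p ^ k = 1) : d ∈ (P : Subgroup G) := by
  have h1 : IsPGroup p ↥(Subgroup.zpowers d) := by
    rintro ⟨g, hg⟩
    obtain ⟨i, rfl⟩ := Subgroup.mem_zpowers_iff.mp hg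
    refine ⟨k, Subtype.ext ?_⟩
    simp only [Subgroup.coe_pow, Subgroup.coe_one]
    rw [← zpow_natCast, ← zpow_mul, mul_comm, zpow_mul, zpow_natCast, hdk, one_zpow]
  have h2 : IsPGroup p ↥(Subgroup.zpowers d ⊔ (P : Subgroup G)) :=
    IsPGroup.to_sup_of_normal_right h1 P.2
  have h3 := P.is_maximal' h2 le_sup_right
  have h4 : d ∈ Subgroup.zpowers d ⊔ (P : Subgroup G) :=
    Subgroup.mem_sup_left (Subgroup.mem_zpowers d)
  rw [h3] at h4; exact h4

/-- `A_4` is not 3-closed. -/
theorem not_closed_four (h : Cfsg.IsPClosed 3 ↥(alternatingGroup (Fin 4))) : False := by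
  have : Fact (Nat.Prime 3) := ⟨by norm_num⟩
  let P : Sylow 3 ↥(alternatingGroup (Fin 4)) := default
  have hP := h P
  let x : ↥(alternatingGroup (Fin 4)) := ⟨swap 0 1 * swap 1 2, by rw [Equiv.Perm.mem_alternatingGroup]; decide⟩
  let y : ↥(alternatingGroup (Fin 4)) := ⟨swap 1 2 * swap 2 3, by rw [Equiv.Perm.mem_alternatingGroup]; decide⟩
  have hx : x ^ 3 ^ 1 = 1 := by
    apply Subtype.ext
    simp only [Subgroup.coe_pow, Subgroup.coe_one, x]
    decide
  have hy : y ^ 3 ^ 1 = 1 := by
    apply Subtype.ext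
    simp only [Subgroup.coe_pow, Subgroup.coe_one, y]
    decide
  have hxP := mem_normal_sylow P hP hx
  have hyP := mem_normal_sylow P hP hy
  have hxyP : x * y ∈ (P : Subgroup _) := Subgroup.mul_mem _ hxP hyP
  obtain ⟨k, hk⟩ := P.2 ⟨x * y, hxyP⟩
  have hk' : (x * y) ^ 3 ^ k = 1 := by simpa using congrArg Subtype.val hk
  have h2 : (x * y) ^ 2 = 1 := by
    apply Subtype.ext
    simp only [Subgroup.coe_pow, Subgroup.coe_one, Subgroup.coe_mul, x, y]
    decide
  have h1 : x * y ≠ 1 := by
    intro h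
    have := congrArg Subtype.val h
    simp only [Subgroup.coe_one, Subgroup.coe_mul, x, y] at this
    revert this
    decide
  have hd1 : orderOf (x * y) ∣ 3 ^ k := orderOf_dvd_of_pow_eq_one hk'
  have hd2 : orderOf (x * y) ∣ 2 := orderOf_dvd_of_pow_eq_one h2
  have hcop : Nat.Coprime (3 ^ k) 2 := by
    apply Nat.Coprime.pow_left; norm_num
  have : orderOf (x * y) = 1 := Nat.eq_one_of_dvd_coprimes hcop hd1 hd2
  exact h1 (orderOf_eq_one_iff.mp this)


theorem card_alt (m : ℕ) (hm : 2 ≤ m) :
    2 * Nat.card ↥(alternatingGroup (Fin m)) = m.factorial := by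
  have : Nontrivial (Fin m) := Fin.nontrivial_iff_two_le.mpr hm
  rw [Nat.card_eq_fintype_card, two_mul_card_alternatingGroup, Fintype.card_perm, Fintype.card_fin]

theorem p_dvd_card_alt (m p : ℕ) [hpp : Fact p.Prime] (hp : p ≠ 2) (hpm : p ≤ m) (hm : 2 ≤ m) :
    p ∣ Nat.card ↥(alternatingGroup (Fin m)) := by
  have h1 : p ∣ 2 * Nat.card ↥(alternatingGroup (Fin m)) := by
    rw [card_alt m hm]; exact (Nat.Prime.dvd_factorial hpp.out).mpr hpm
  rcases (Nat.Prime.dvd_mul hpp.out).mp h1 with h2 | h2
  · exact absurd ((Nat.prime_dvd_prime_iff_eq hpp.out Nat.prime_two).mp h2) hp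
  · exact h2

theorem not_closed_ge_five (m p : ℕ) [hpp : Fact p.Prime] (hp : p ≠ 2) (hpm : p ≤ m) (hm : 5 ≤ m)
    (h : Cfsg.IsPClosed p ↥(alternatingGroup (Fin m))) : False := by
  have : IsSimpleGroup ↥(alternatingGroup (Fin m)) := alternatingGroup.isSimpleGroup (by simpa using hm)
  let P : Sylow p ↥(alternatingGroup (Fin m)) := default
  have hP := h P
  rcases hP.eq_bot_or_eq_top with hb | ht
  · exact P.ne_bot_of_dvd_card (p_dvd_card_alt m p hp hpm (by omega)) hb
  · obtain ⟨k, hk⟩ := IsPGroup.iff_card.mp P.2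
    rw [ht, Subgroup.card_top] at hk
    have h2 := card_alt m (by omega)
    have h4 : 4 ∣ m.factorial := by
      have : (4 : ℕ).factorial ∣ m.factorial := Nat.factorial_dvd_factorial (by omega)
      exact (by decide : 4 ∣ (4 : ℕ).factorial).trans this
    rw [← h2, hk] at h4
    have h5 : 2 ∣ p ^ k := by
      have : 2 * 2 ∣ 2 * p ^ k := h4
      exact (Nat.mul_dvd_mul_iff_left (by norm_num)).mp this
    have h6 : 2 ∣ p := Nat.Prime.dvd_of_dvd_pow Nat.prime_two h5
    exact hp ((Nat.prime_dvd_prime_iff_eq Nat.prime_two hpp.out).mp h6).symm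

theorem main (n p : ℕ) (hn : 5 ≤ n) [hpp : Fact p.Prime] (hp : p ≠ 2) (hpn : p ≤ n)
    (h : ∀ H : Subgroup ↥(alternatingGroup (Fin n)), H ≠ ⊤ → p ∣ Nat.card ↥H → Cfsg.IsPClosed p ↥H) : n = p := by
  by_contra hne
  have hlt : p < n := lt_of_le_of_ne hpn (Ne.symm hne)
  obtain ⟨m, rfl⟩ : ∃ m, n = m + 1 := ⟨n - 1, by omega⟩
  have hpm : p ≤ m := by omega
  have hm4 : 4 ≤ m := by omega
  let f : Fin m ≃ ↥(Set.range (Fin.castSuccEmb (n := m))) := (Fin.castSuccEmb (n := m)).toEquivRange
  let ι : Perm (Fin m) →* Perm (Fin (m + 1)) := Equiv.Perm.extendDomainHom f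
  have hι : Function.Injective ι := Equiv.Perm.extendDomainHom_injective f
  have hsign : ∀ e : Perm (Fin m), Perm.sign (ι e) = Perm.sign e :=
    fun e => Equiv.Perm.sign_extendDomain e f
  let j : ↥(alternatingGroup (Fin m)) →* ↥(alternatingGroup (Fin (m + 1))) :=
    (ι.comp (alternatingGroup (Fin m)).subtype).codRestrict (alternatingGroup (Fin (m + 1))) (by
      intro x
      rw [Equiv.Perm.mem_alternatingGroup]
      show Perm.sign (ι x) = 1
      rw [hsign]; exact Equiv.Perm.mem_alternatingGroup.mp x.2)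
  have hj : Function.Injective j := by
    intro a b hab
    have := congrArg Subtype.val hab
    exact Subtype.ext (hι this)
  have hcard : Nat.card ↥j.range = Nat.card ↥(alternatingGroup (Fin m)) :=
    (Nat.card_congr (MonoidHom.ofInjective hj).toEquiv).symm
  have hne_top : j.range ≠ ⊤ := by
    intro htop
    have h1 : Nat.card ↥j.range = Nat.card ↥(alternatingGroup (Fin (m + 1))) := by
      rw [htop, Subgroup.card_top]
    have h2 := card_alt m (by omega)
    have h3 := card_alt (m + 1) (by omega)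
    rw [hcard] at h1
    rw [h1, h3, Nat.factorial_succ] at h2
    have : 0 < m.factorial := Nat.factorial_pos m
    nlinarith
  have hdvd : p ∣ Nat.card ↥j.range := by
    rw [hcard]; exact p_dvd_card_alt m p hp hpm (by omega)
  have hclosed := h j.range hne_top hdvd
  have hclosed' : Cfsg.IsPClosed p ↥(alternatingGroup (Fin m)) := by
    intro P
    have hQ := hclosed (P.mapSurjective (f := (MonoidHom.ofInjective hj).toMonoidHom)
      (MonoidHom.ofInjective hj).surjective)
    have hQ' : ((P : Subgroup ↥(alternatingGroup (Fin m))).map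
        (MonoidHom.ofInjective hj).toMonoidHom).Normal := hQ
    have := hQ'.comap (MonoidHom.ofInjective hj).toMonoidHom
    have hginj : Function.Injective (MonoidHom.ofInjective hj).toMonoidHom :=
      (MonoidHom.ofInjective hj).injective
    rwa [Subgroup.comap_map_eq_self_of_injective hginj] at this
  rcases Nat.lt_or_ge m 5 with h5 | h5
  · have hm : m = 4 := by omega
    subst hm
    have hp3 : p = 3 := by
      have := hpp.out
      interval_cases p
      · exact absurd this (by decide)
      · exact absurd this (by decide)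
      · exact absurd rfl hp
      · rfl
      · exact absurd this (by decide)
    subst hp3
    exact not_closed_four hclosed'
  · exact not_closed_ge_five m p hp hpm h5 hclosed'


/-- Let n ≥ 5 and p an odd prime with p ≤ n, and suppose that every proper subgroup of the alternating group of degree n whose order is divisible by p has a normal Sylow p-subgroup. Then n = p. -/
theorem result (n p : ℕ) (hn : 5 ≤ n) [Fact p.Prime] (hp : p ≠ 2) (hpn : p ≤ n)
    (h : ∀ H : Subgroup ↥(alternatingGroup (Fin n)), H ≠ ⊤ → p ∣ Nat.card ↥H → Cfsg.IsPClosed p ↥H) : n = p := by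
  exact main n p hn hp hpn h

end Cfsg.Agent.S3941
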