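import Cfsg.Statements.S3949

set_option autoImplicit false
open Cfsg

namespace Cfsg.Agent.S3949

theorem iter_inverted {G : Type*} [Group G] (α : MulAut G) (g : G) (hg : α g = g⁻¹) (k : ℕ) :
    ((fun c : G => c * (α c)⁻¹)^[k]) g = g ^ (2 ^ k) := by
  induction k generalizing g with
  | zero => simp
  | succ k ih =>
    rw [Function.iterate_succ_apply]
    have h1 : g * (α g)⁻¹ = g ^ 2 := by rw [hg, inv_inv, pow_two]
    have h2 : α (g ^ 2) = (g ^ 2)⁻¹ := by rw [map_pow, hg, inv_pow]
    show ((fun c : G => c * (α c)⁻¹)^[k]) (g * (α g)⁻¹) = _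
    rw [h1, ih (g ^ 2) h2, ← pow_mul, pow_succ']

theorem inverted_f {G : Type*} [Group G] (α : MulAut G) (hα : α ^ 2 = 1) (c : G) :
    α (c * (α c)⁻¹) = (c * (α c)⁻¹)⁻¹ := by
  have h : α (α c) = c := by
    have := congrArg (fun f : MulAut G => f c) hα
    simpa [pow_two, MulAut.mul_apply] using this
  rw [map_mul, map_inv, h, mul_inv_rev, inv_inv]

/-- Let G be a finite group and α an automorphism of G of order 2 such that the elements g·α(g)⁻¹ generate G. Let j be a positive integer such that 2^j divides the order of no element inverted by α. Then the set of values of the j-th iterate of the map c ↦ c·α(c)⁻¹ is exactly the set of elements of odd order inverted by α. -/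
theorem result {G : Type*} [Group G] [Finite G] (α : MulAut G) (hα : orderOf α = 2) (hG : Subgroup.closure (Set.range (fun c : G => c * (α c)⁻¹)) = ⊤)
    (j : ℕ) (hj : ∀ g : G, α g = g⁻¹ → ¬ 2 ^ j ∣ orderOf g) :
    Set.range ((fun c : G => c * (α c)⁻¹)^[j]) = {g : G | Odd (orderOf g) ∧ α g = g⁻¹} := by
  have hα2 : α ^ 2 = 1 := by rw [← hα]; exact pow_orderOf_eq_one α
  -- j is positive
  have hjpos : j ≠ 0 := by
    intro h0
    subst h0
    exact hj 1 (by simp) (by simp)
  obtain ⟨k, rfl⟩ : ∃ k, j = k + 1 := Nat.exists_eq_succ_of_ne_zero hjpos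
  ext g
  simp only [Set.mem_range, Set.mem_ofPred_eq]
  constructor
  · rintro ⟨c, rfl⟩
    rw [Function.iterate_succ_apply]
    have hinv := inverted_f α hα2 c
    set d := c * (α c)⁻¹ with hd
    rw [iter_inverted α d hinv k]
    refine ⟨?_, ?_⟩
    · -- order of d^(2^k) is odd
      have hnd := hj d hinv
      rw [Nat.odd_iff, ← Nat.two_dvd_ne_zero]
      intro h2
      apply hnd
      -- 2 ∣ orderOf (d^(2^k)) → 2^(k+1) ∣ orderOf d
      have hpos : 0 < orderOf d := orderOf_pos d
      rw [orderOf_pow' d (by positivity : 2 ^ k ≠ 0)] at h2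
      -- orderOf d / gcd (orderOf d) (2^k)
      obtain ⟨m, hm⟩ := h2
      have hg := Nat.gcd_dvd_left (orderOf d) (2 ^ k)
      have hg2 := Nat.gcd_dvd_right (orderOf d) (2 ^ k)
      have e1 : orderOf d = Nat.gcd (orderOf d) (2 ^ k) * (2 * m) := by
        rw [← hm]; exact (Nat.mul_div_cancel' hg).symm
      -- gcd (orderOf d) (2^k) = 2^i with i ≤ k; if i < k then orderOf d / 2^i is odd.
      obtain ⟨i, hik, hi⟩ := (Nat.dvd_prime_pow Nat.prime_two).1 hg2
      by_cases hik' : i = k
      · rw [e1, hi, hik', pow_succ]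
        exact ⟨m, by ring⟩
      · exfalso
        have hlt : i < k := lt_of_le_of_ne hik hik'
        -- 2^(i+1) divides both orderOf d and 2^k, so divides gcd = 2^i
        have hd1 : 2 ^ (i + 1) ∣ orderOf d := by
          rw [e1, hi, pow_succ]; exact ⟨m, by ring⟩
        have hd2 : 2 ^ (i + 1) ∣ 2 ^ k := pow_dvd_pow 2 hlt
        have := Nat.dvd_gcd hd1 hd2
        rw [hi] at this
        have := Nat.le_of_dvd (by positivity) this
        rw [pow_succ] at this
        have : 0 < 2 ^ i := by positivity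
        omega
    · rw [map_pow, hinv, inv_pow]
  · rintro ⟨hodd, hinv⟩
    -- g has odd order; find h = g^m with h^(2^(k+1)) = g
    have hcop : Nat.Coprime (2 ^ (k + 1)) (orderOf g) := by
      apply Nat.Coprime.pow_left
      exact Nat.coprime_two_left.2 hodd
    obtain ⟨m, hm⟩ := exists_pow_eq_self_of_coprime hcop
    refine ⟨g ^ m, ?_⟩
    have hinv' : α (g ^ m) = (g ^ m)⁻¹ := by rw [map_pow, hinv, inv_pow]
    rw [iter_inverted α (g ^ m) hinv' (k + 1), ← pow_mul, mul_comm, pow_mul]
    exact hm

end Cfsg.Agent.S3949
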