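import Mathlib
import Cfsg.Statements.S3950
import Cfsg.Agent.Lib.Helper66.SchurBasic
import Cfsg.Agent.Lib.Helper66.Heis
import Cfsg.Agent.Lib.Helper66.StemPullback

set_option autoImplicit false
open Cfsg

namespace Cfsg.Agent.S3950

open Cfsg.Agent.Lib.Helper66

/-- a product of cyclic groups of pairwise coprime orders is cyclic -/
theorem isCyclic_pi_of_coprime {ι : Type} [Fintype ι] (n : ι → ℕ)
    (hn : Pairwise (Function.onFun Nat.Coprime n)) :
    IsCyclic ((i : ι) → Multiplicative (ZMod (n i))) := by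
  have e1 : ZMod (∏ i, n i) ≃+ ((i : ι) → ZMod (n i)) := (ZMod.prodEquivPi n hn).toAddEquiv
  have e2 : Multiplicative (ZMod (∏ i, n i)) ≃* ((i : ι) → Multiplicative (ZMod (n i))) :=
    (AddEquiv.toMultiplicative e1).trans (MulEquiv.piMultiplicative (fun i => ZMod (n i))).symm
  exact isCyclic_of_surjective e2 e2.surjective

/-- the map from a product of cyclic groups onto `ZMod p × ZMod p`, through coordinates `i ≠ j` -/
theorem exists_surj_pi {ι : Type} [Fintype ι] [DecidableEq ι] (n : ι → ℕ) (i j : ι) (hij : i ≠ j)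
    (p : ℕ) (hpi : p ∣ n i) (hpj : p ∣ n j) :
    ∃ f : ((i : ι) → Multiplicative (ZMod (n i))) →* Multiplicative (ZMod p × ZMod p),
      Function.Surjective f := by
  let fi : Multiplicative (ZMod (n i)) →* Multiplicative (ZMod p) :=
    AddMonoidHom.toMultiplicative (ZMod.castHom hpi (ZMod p)).toAddMonoidHom
  let fj : Multiplicative (ZMod (n j)) →* Multiplicative (ZMod p) :=
    AddMonoidHom.toMultiplicative (ZMod.castHom hpj (ZMod p)).toAddMonoidHom
  let e : Multiplicative (ZMod p) × Multiplicative (ZMod p) ≃* Multiplicative (ZMod p × ZMod p) :=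
    (MulEquiv.prodMultiplicative (ZMod p) (ZMod p)).symm
  let f : ((i : ι) → Multiplicative (ZMod (n i))) →* Multiplicative (ZMod p × ZMod p) :=
    e.toMonoidHom.comp
      ((fi.comp (Pi.evalMonoidHom (fun k => Multiplicative (ZMod (n k))) i)).prod
        (fj.comp (Pi.evalMonoidHom (fun k => Multiplicative (ZMod (n k))) j)))
  refine ⟨f, ?_⟩
  intro y
  obtain ⟨y', rfl⟩ := e.surjective y
  obtain ⟨a, b⟩ := y'
  have hfi : Function.Surjective fi := fun z => by
    obtain ⟨w, hw⟩ := ZMod.castHom_surjective hpi (Multiplicative.toAdd z)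
    exact ⟨Multiplicative.ofAdd w, by
      show Multiplicative.ofAdd ((ZMod.castHom hpi (ZMod p)) w) = z
      rw [hw]; rfl⟩
  have hfj : Function.Surjective fj := fun z => by
    obtain ⟨w, hw⟩ := ZMod.castHom_surjective hpj (Multiplicative.toAdd z)
    exact ⟨Multiplicative.ofAdd w, by
      show Multiplicative.ofAdd ((ZMod.castHom hpj (ZMod p)) w) = z
      rw [hw]; rfl⟩
  obtain ⟨a', ha'⟩ := hfi a
  obtain ⟨b', hb'⟩ := hfj b
  refine ⟨Pi.mulSingle i a' * Pi.mulSingle j b', ?_⟩
  show e ((fi ((Pi.mulSingle i a' * Pi.mulSingle j b' : (k : ι) → Multiplicative (ZMod (n k))) i),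
    fj ((Pi.mulSingle i a' * Pi.mulSingle j b' : (k : ι) → Multiplicative (ZMod (n k))) j))) = e (a, b)
  congr 1
  rw [Pi.mul_apply, Pi.mul_apply, Pi.mulSingle_eq_same, Pi.mulSingle_eq_same,
    Pi.mulSingle_eq_of_ne hij, Pi.mulSingle_eq_of_ne hij.symm, mul_one, one_mul, ha', hb']

/-- a noncyclic finite abelian group maps onto `ZMod p × ZMod p` for some prime `p` -/
theorem exists_surj_of_not_isCyclic {G : Type*} [CommGroup G] [Finite G] (h : ¬ IsCyclic G) :
    ∃ (p : ℕ) (_ : p.Prime) (f : G →* Multiplicative (ZMod p × ZMod p)), Function.Surjective f := by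
  classical
  obtain ⟨ι, _, n, hn, ⟨e⟩⟩ := CommGroup.equiv_prod_multiplicative_zmod_of_finite G
  by_cases hc : Pairwise (Function.onFun Nat.Coprime n)
  · exfalso
    apply h
    have := isCyclic_pi_of_coprime n hc
    exact isCyclic_of_surjective e.symm e.symm.surjective
  · rw [Pairwise] at hc
    push Not at hc
    obtain ⟨i, j, hij, hcop⟩ := hc
    have hcop' : ¬ Nat.Coprime (n i) (n j) := hcop
    obtain ⟨p, hp, hpi, hpj⟩ := Nat.Prime.not_coprime_iff_dvd.1 hcop'
    obtain ⟨f, hf⟩ := exists_surj_pi n i j hij p hpi hpj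
    exact ⟨p, hp, f.comp e.toMonoidHom, hf.comp e.surjective⟩

/-- A finite abelian group has trivial Schur multiplier if and only if it is cyclic. -/
theorem result {G : Type*} [CommGroup G] [Finite G] : Cfsg.HasCyclicSchurMultiplier G 1 ↔ IsCyclic G := by
  constructor
  · intro h
    by_contra hc
    obtain ⟨p, hp, f, hf⟩ := exists_surj_of_not_isCyclic hc
    haveI : Fact p.Prime := ⟨hp⟩
    haveI : Fact (p ∣ p) := ⟨dvd_rfl⟩
    haveI : NeZero p := ⟨hp.ne_zero⟩
    have hstem := pullbackFst_isStem f hf (Heis.proj (m := p) (n := p)) Heis.proj_isStem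
    have hne : (pullbackFst f (Heis.proj (m := p) (n := p))).ker ≠ ⊥ := by
      apply pullbackFst_ker_ne_bot f _ (Heis.cen 1)
      · rw [Heis.mem_ker_proj]; exact ⟨rfl, rfl⟩
      · intro h1
        have := congrArg Heis.c h1
        have h2 : (1 : ZMod p) = 0 := this
        exact one_ne_zero h2
    haveI : Finite (pullbackSubgroup f (Heis.proj (m := p) (n := p))) := inferInstance
    exact hne (ker_eq_bot_of_hasCyclicSchurMultiplier_one h _ _ hstem)
  · intro hcyc
    apply hasCyclicSchurMultiplier_one_of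
    intro Γ _ _ σ hσ
    obtain ⟨hsurj, hcen, hcomm⟩ := hσ
    have hcomm' : ∀ a b : Γ, a * b = b * a := by
      have := MonoidHom.isMulCommutative_of_isCyclic_of_ker_le_center σ hcen
      intro a b; exact mul_comm' a b
    have : commutator Γ = ⊥ := by
      rw [commutator_def, Subgroup.commutator_eq_bot_iff_le_centralizer]
      intro a _
      rw [Subgroup.mem_centralizer_iff]
      intro b _
      exact hcomm' b a
    rw [this] at hcomm
    exact le_bot_iff.1 hcomm

end Cfsg.Agent.S3950
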