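import Mathlib
import Cfsg.Statements.S3951
import Cfsg.Agent.Lib.Helper66.Heis
import Cfsg.Agent.Lib.Helper66.StemAbelian

set_option autoImplicit false
open Cfsg

namespace Cfsg.Agent.S3951

open Cfsg.Agent.Lib.Helper66

theorem closure_gens (m n : ℕ) :
    Subgroup.closure ({Multiplicative.ofAdd ((1 : ZMod m), (0 : ZMod n)),
      Multiplicative.ofAdd ((0 : ZMod m), (1 : ZMod n))} : Set (Multiplicative (ZMod m × ZMod n))) = ⊤ := by
  rw [eq_top_iff]
  intro x _
  set a := Multiplicative.ofAdd ((1 : ZMod m), (0 : ZMod n)) with ha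
  set b := Multiplicative.ofAdd ((0 : ZMod m), (1 : ZMod n)) with hb
  have hx : x = a ^ ((Multiplicative.toAdd x).1.cast : ℤ) * b ^ ((Multiplicative.toAdd x).2.cast : ℤ) := by
    apply Multiplicative.toAdd.injective
    rw [toAdd_mul, toAdd_zpow, toAdd_zpow, ha, hb, toAdd_ofAdd, toAdd_ofAdd]
    apply Prod.ext
    · simp
    · simp
  rw [hx]
  apply Subgroup.mul_mem
  · exact Subgroup.zpow_mem _ (Subgroup.subset_closure (by simp)) _
  · exact Subgroup.zpow_mem _ (Subgroup.subset_closure (by simp)) _

/-- For positive integers `m` and `n` with `n` dividing `m`, the Schur multiplier of the abelian group `ZMod m × ZMod n` (written multiplicatively) is cyclic of order `n`. In particular the elementary abelian group of order `p ^ 2` has multiplier of order `p`. -/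
theorem result (m n : ℕ) [NeZero m] [NeZero n] (hnm : n ∣ m) : Cfsg.HasCyclicSchurMultiplier (Multiplicative (ZMod m × ZMod n)) n := by
  haveI : Fact (n ∣ m) := ⟨hnm⟩
  refine ⟨⟨Heis m n, inferInstance, inferInstance, Heis.proj, Heis.proj_isStem, ?_⟩, ?_⟩
  · exact ⟨(MulEquiv.ofBijective Heis.kerHom Heis.kerHom_bijective).symm⟩
  · intro Γ _ _ σ hσ
    obtain ⟨c, hc, hle⟩ := stem_abelian_two_gen σ hσ (fun x y => mul_comm x y)
      (Multiplicative.ofAdd ((1 : ZMod m), (0 : ZMod n)))
      (Multiplicative.ofAdd ((0 : ZMod m), (1 : ZMod n))) (closure_gens m n) n (by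
        apply Multiplicative.toAdd.injective
        rw [toAdd_pow, toAdd_ofAdd, toAdd_one]
        apply Prod.ext
        · simp
        · simp)
    exact exists_surjective_zmod_of_le_zpowers σ.ker c n hc hle

end Cfsg.Agent.S3951
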