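import Mathlib
import Cfsg.Statements.S3952
import Cfsg.Agent.Lib.Helper66.CharCenter
import Cfsg.Agent.Lib.Helper66.TransferPow

set_option autoImplicit false
open Cfsg

namespace Cfsg.Agent.S3952

open Cfsg.Agent.Lib.Helper66

/-- If `A` is the Schur multiplier of the finite group `Q`, then the square of the exponent of `A` divides the order of `Q`. -/
theorem result {Q : Type*} [Group Q] [Finite Q] {A : Type*} [CommGroup A] (hA : Cfsg.HasSchurMultiplier Q A) : Monoid.exponent A ^ 2 ∣ Nat.card Q := by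
  obtain ⟨⟨Γ, _, _, σ, ⟨hsurj, hcen, hcomm⟩, ⟨eA⟩⟩, -⟩ := hA
  haveI : Finite A := Finite.of_equiv _ eA.toEquiv
  have hexp0 : Monoid.exponent A ≠ 0 := Monoid.exponent_ne_zero_of_finite
  rw [← Nat.factorization_prime_le_iff_dvd (pow_ne_zero 2 hexp0) Nat.card_pos.ne']
  intro p hp
  haveI : Fact p.Prime := ⟨hp⟩
  rw [Nat.factorization_pow, Finsupp.smul_apply, smul_eq_mul]
  set k := (Monoid.exponent A).factorization p with hk
  obtain ⟨a, ha⟩ := hp.exists_orderOf_eq_pow_factorization_exponent A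
  rw [← hk] at ha
  -- the element of the kernel
  have ha' : orderOf ((eA.symm a : ↥σ.ker) : Γ) = p ^ k := by
    rw [Subgroup.orderOf_coe, MulEquiv.orderOf_eq, ha]
  set a' : Γ := ((eA.symm a : ↥σ.ker) : Γ) with ha'def
  have ha'ker : a' ∈ σ.ker := (eA.symm a).2
  -- a Sylow subgroup and its preimage
  let P : Sylow p Q := default
  obtain ⟨hmem, hmemc⟩ := pow_index_mem_commutator_comap σ hsurj hcen hcomm (P : Subgroup Q) a' ha'ker
  have ha'U : a' ∈ (P : Subgroup Q).comap σ := by
    rw [Subgroup.mem_comap, MonoidHom.mem_ker.1 ha'ker]; exact Subgroup.one_mem _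
  -- a' is a power of a' ^ index
  have hcop : Nat.Coprime (P : Subgroup Q).index (orderOf a') := by
    rw [ha']
    exact Nat.Coprime.pow_right k ((Nat.Prime.coprime_iff_not_dvd hp).2 P.not_dvd_index).symm
  obtain ⟨j, hj⟩ := exists_pow_eq_self_of_coprime hcop
  have hcommX : (⟨a', ha'U⟩ : ↥((P : Subgroup Q).comap σ)) ∈ commutator ↥((P : Subgroup Q).comap σ) := by
    have : (⟨a', ha'U⟩ : ↥((P : Subgroup Q).comap σ)) =
        (⟨a' ^ (P : Subgroup Q).index, hmem⟩ : ↥((P : Subgroup Q).comap σ)) ^ j := by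
      apply Subtype.ext
      exact hj.symm
    rw [this]
    exact Subgroup.pow_mem _ hmemc j
  -- the central subgroup
  let ξ : ↥((P : Subgroup Q).comap σ) →* ↥(P : Subgroup Q) := σ.subgroupComap (P : Subgroup Q)
  have hξ : Function.Surjective ξ := σ.subgroupComap_surjective_of_surjective _ hsurj
  have hξker : ∀ x : ↥((P : Subgroup Q).comap σ), x ∈ ξ.ker ↔ (x : Γ) ∈ σ.ker := by
    intro x
    rw [MonoidHom.mem_ker, MonoidHom.mem_ker]
    constructor
    · intro h
      exact congrArg Subtype.val h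
    · intro h
      exact Subtype.ext h
  have hξc : ξ.ker ≤ Subgroup.center ↥((P : Subgroup Q).comap σ) := by
    intro x hx
    have hc := Subgroup.mem_center_iff.1 (hcen ((hξker x).1 hx))
    rw [Subgroup.mem_center_iff]
    intro y
    exact Subtype.ext (hc y)
  have hord : orderOf (⟨a', ha'U⟩ : ↥((P : Subgroup Q).comap σ)) = p ^ k := by
    rw [Subgroup.orderOf_mk, ha']
  have hineq := card_mul_pow_le_of_mem_commutator_center ξ.ker hξc ⟨a', ha'U⟩
    ((hξker _).2 ha'ker) hcommX p k hp hord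
  -- cardinalities
  have hcard : Nat.card ↥((P : Subgroup Q).comap σ) = Nat.card ↥ξ.ker * Nat.card ↥(P : Subgroup Q) := by
    rw [← Subgroup.card_mul_index ξ.ker, Subgroup.index_ker, MonoidHom.range_eq_top.2 hξ,
      Subgroup.card_top]
  rw [hcard] at hineq
  have hpos : 0 < Nat.card ↥ξ.ker := Nat.card_pos
  have h2 : p ^ (2 * k) ≤ Nat.card ↥(P : Subgroup Q) := Nat.le_of_mul_le_mul_left hineq hpos
  rw [P.card_eq_multiplicity] at h2
  exact (Nat.pow_le_pow_iff_right hp.one_lt).1 h2

end Cfsg.Agent.S3952
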