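import Mathlib
import Cfsg.Statements.S3953
import Cfsg.Agent.Lib.Helper66.Hopf
-- import your own Cfsg.Agent.* helpers here

set_option autoImplicit false
open Cfsg

universe u v w w'

namespace Cfsg.Agent.S3953

open Cfsg.Agent.Lib.Helper66
open scoped commutatorElement Pointwise

section norm

variable {𝔽 : Type*} [Group 𝔽] (W : Subgroup 𝔽) [W.FiniteIndex] (R : Subgroup 𝔽) [R.Normal]
  {K : Type*} [CommGroup K] (ψ : R →* K)

/-- `r ↦ f⁻¹ r f` on the normal subgroup `R` -/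
def conjInv (f : 𝔽) : R →* R := (MulAut.conjNormal f⁻¹ : MulAut R).toMonoidHom

theorem conjInv_coe (f : 𝔽) (r : R) : ((conjInv R f r : R) : 𝔽) = f⁻¹ * r * f := by
  show ((MulAut.conjNormal f⁻¹ r : R) : 𝔽) = _
  rw [MulAut.conjNormal_apply, inv_inv]

theorem conjInv_mul (f g : 𝔽) (r : R) : conjInv R (f * g) r = conjInv R g (conjInv R f r) := by
  apply Subtype.ext
  rw [conjInv_coe, conjInv_coe, conjInv_coe]
  group

/-- the norm (pre-transfer) map -/
noncomputable def normHom : R →* K :=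
  letI := W.fintypeQuotientOfFiniteIndex
  ∏ q : 𝔽 ⧸ W, ψ.comp (conjInv R q.out)

theorem normHom_apply (r : R) :
    letI := W.fintypeQuotientOfFiniteIndex
    normHom W R ψ r = ∏ q : 𝔽 ⧸ W, ψ (conjInv R q.out r) := by
  letI := W.fintypeQuotientOfFiniteIndex
  rw [normHom, MonoidHom.finsetProd_apply]
  rfl

theorem prod_section_eq (hinv : ∀ v : 𝔽, v ∈ W → ∀ r : R, ψ (conjInv R v r) = ψ r)
    (s : 𝔽 ⧸ W → 𝔽) (hs : ∀ q, (s q : 𝔽 ⧸ W) = q) (r : R) :
    letI := W.fintypeQuotientOfFiniteIndex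
    ∏ q : 𝔽 ⧸ W, ψ (conjInv R (s q) r) = normHom W R ψ r := by
  letI := W.fintypeQuotientOfFiniteIndex
  rw [normHom_apply]
  apply Finset.prod_congr rfl
  intro q _
  have hv : (q.out)⁻¹ * s q ∈ W := by
    rw [← QuotientGroup.eq, hs, QuotientGroup.out_eq']
  have : s q = q.out * ((q.out)⁻¹ * s q) := by rw [mul_inv_cancel_left]
  rw [this, conjInv_mul, hinv _ hv]

theorem normHom_conjInv (hinv : ∀ v : 𝔽, v ∈ W → ∀ r : R, ψ (conjInv R v r) = ψ r)
    (g : 𝔽) (r : R) : normHom W R ψ (conjInv R g r) = normHom W R ψ r := by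
  letI := W.fintypeQuotientOfFiniteIndex
  rw [normHom_apply]
  have h1 : ∀ q : 𝔽 ⧸ W, ψ (conjInv R q.out (conjInv R g r)) = ψ (conjInv R (g * q.out) r) := by
    intro q; rw [conjInv_mul]
  rw [Finset.prod_congr rfl (fun q _ => h1 q)]
  rw [← prod_section_eq W R ψ hinv (fun q' => g * (g⁻¹ • q').out) ?_ r]
  · exact (Equiv.prod_comp (MulAction.toPerm g⁻¹ : Equiv.Perm (𝔽 ⧸ W))
      (fun q => ψ (conjInv R (g * q.out) r))).symm
  · intro q'
    have : ((g * (g⁻¹ • q').out : 𝔽) : 𝔽 ⧸ W) = g • (((g⁻¹ • q').out : 𝔽) : 𝔽 ⧸ W) := rfl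
    rw [this, QuotientGroup.out_eq', smul_inv_smul]

theorem transfer_eq_normHom (ϕ : W →* K) (hRW : R ≤ W) (hψ : ∀ r : R, ψ r = ϕ ⟨r, hRW r.2⟩)
    (r : R) : MonoidHom.transfer ϕ (r : 𝔽) = normHom W R ψ r := by
  letI := W.fintypeQuotientOfFiniteIndex
  have hout : ∀ q : 𝔽 ⧸ W, ((Quotient.out q : 𝔽) : 𝔽 ⧸ W) = q := QuotientGroup.out_eq'
  let T : W.LeftTransversal := ⟨Set.range Quotient.out, Subgroup.isComplement_range_left hout⟩
  rw [MonoidHom.transfer_def ϕ T, normHom_apply]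
  unfold Subgroup.leftTransversals.diff
  apply Finset.prod_congr rfl
  intro q _
  rw [hψ]
  apply congrArg ϕ
  apply Subtype.ext
  have hfix : (r : 𝔽)⁻¹ • q = q := by
    obtain ⟨f, rfl⟩ := QuotientGroup.mk_surjective q
    show ((((r : 𝔽)⁻¹ * f : 𝔽)) : 𝔽 ⧸ W) = (f : 𝔽 ⧸ W)
    rw [QuotientGroup.eq]
    apply hRW
    have : ((r : 𝔽)⁻¹ * f)⁻¹ * f = f⁻¹ * r * f⁻¹⁻¹ := by group
    rw [this]
    exact Subgroup.Normal.conj_mem inferInstance _ r.2 _
  show ((T.2.leftQuotientEquiv q : 𝔽))⁻¹ * (((r : 𝔽) • T).2.leftQuotientEquiv q : 𝔽) = _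
  rw [Subgroup.smul_apply_eq_smul_apply_inv_smul, hfix,
    Subgroup.IsComplement.leftQuotientEquiv_apply hout, conjInv_coe, smul_eq_mul, mul_assoc]

end norm

section general

variable {F : Type w} {Q : Type u} [Group F] [Group Q] (ρ : F →* Q)

/-- the kernel of `F/[F,R] → Q` is commutative -/
instance kerCommGroup : CommGroup ↥(uceMap ρ).ker :=
  { (inferInstance : Group ↥(uceMap ρ).ker) with
    mul_comm := fun a b =>
      Subtype.ext (Subgroup.mem_center_iff.1 (uceMap_ker_le_center ρ a.2) b.1).symm }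

/-- the Hopf group `(F' ∩ R)/[F,R]` for a general group `F` -/
def hopfG : Subgroup (F ⧸ uceK ρ) := commutator (F ⧸ uceK ρ) ⊓ (uceMap ρ).ker

theorem map_hopfG_eq (hρ : Function.Surjective ρ) {X : Type w'} [Group X] (ξ : X →* Q)
    (hξc : ξ.ker ≤ Subgroup.center X) (β : (F ⧸ uceK ρ) →* X) (hβ : ξ.comp β = uceMap ρ) :
    (hopfG ρ).map β = commutator X ⊓ ξ.ker := by
  have hβ' : ∀ e, ξ (β e) = uceMap ρ e := fun e =>
    congrArg (fun f : (F ⧸ uceK ρ) →* Q => f e) hβ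
  have hcomm : commutator X ≤ (commutator (F ⧸ uceK ρ)).map β := by
    rw [commutator_def, Subgroup.commutator_le]
    intro a _ b _
    obtain ⟨ea, hea⟩ := uceMap_surjective ρ hρ (ξ a)
    obtain ⟨eb, heb⟩ := uceMap_surjective ρ hρ (ξ b)
    have e1 : ⁅β ea, β eb⁆ = ⁅a, b⁆ := by
      apply commutatorElement_eq_of_central
      · apply hξc
        rw [MonoidHom.mem_ker, map_mul, map_inv, hβ', hea, inv_mul_cancel]
      · apply hξc
        rw [MonoidHom.mem_ker, map_mul, map_inv, hβ', heb, inv_mul_cancel]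
    rw [← e1, ← map_commutatorElement]
    exact ⟨⁅ea, eb⁆, Subgroup.commutator_mem_commutator (Subgroup.mem_top _) (Subgroup.mem_top _),
      rfl⟩
  apply le_antisymm
  · rintro _ ⟨x, hx, rfl⟩
    refine ⟨?_, ?_⟩
    · have : β x ∈ (commutator (F ⧸ uceK ρ)).map β := ⟨x, hx.1, rfl⟩
      rw [commutator_def, Subgroup.map_commutator] at this
      exact Subgroup.commutator_mono le_top le_top this
    · show β x ∈ ξ.ker
      rw [MonoidHom.mem_ker, hβ']
      exact MonoidHom.mem_ker.1 hx.2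
  · rintro k ⟨hk1, hk2⟩
    obtain ⟨e, he, rfl⟩ := hcomm hk1
    refine ⟨e, ⟨he, ?_⟩, rfl⟩
    show e ∈ (uceMap ρ).ker
    rw [MonoidHom.mem_ker, ← hβ']
    exact MonoidHom.mem_ker.1 hk2

theorem finite_hopfG [Finite Q] : Finite ↥(hopfG ρ) := by
  haveI : Finite ↥(commutator (F ⧸ uceK ρ)) :=
    finite_commutator_of_central (uceMap ρ) (uceMap_ker_le_center ρ)
  exact Finite.of_injective (Subgroup.inclusion (inf_le_left : hopfG ρ ≤ commutator (F ⧸ uceK ρ)))
    (Subgroup.inclusion_injective _)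

/-- For a free group `F` (in any universe) mapping onto `Q`, the Hopf group is the multiplier. -/
theorem exists_mulEquiv_hopfG [IsFreeGroup F] [Finite Q] {B : Type v} [CommGroup B]
    (hB : Cfsg.HasSchurMultiplier Q B) (hρ : Function.Surjective ρ) :
    Nonempty (B ≃* ↥(hopfG ρ)) := by
  haveI := finite_hopfG ρ
  obtain ⟨π, hπ⟩ := exists_hom_range_eq_of_hasSchurMultiplier hB (uceMap ρ)
    (uceMap_surjective ρ hρ) (uceMap_ker_le_center ρ)
  obtain ⟨⟨Δ, _, _, τ, hτ, ⟨eB⟩⟩, _⟩ := hB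
  haveI : Finite B := Finite.of_equiv _ eB.toEquiv
  -- lift
  let φ : F →* Δ := IsFreeGroup.lift (fun a => Function.surjInv hτ.1 (ρ (IsFreeGroup.of a)))
  have hφ : τ.comp φ = ρ := by
    apply IsFreeGroup.ext_hom
    intro a
    rw [MonoidHom.comp_apply, IsFreeGroup.lift_of, Function.surjInv_eq hτ.1]
  obtain ⟨β, hβ⟩ := uceLift ρ τ hτ.2.1 φ hφ
  have hmap := map_hopfG_eq ρ hρ τ hτ.2.1 β hβ
  rw [inf_eq_right.2 hτ.2.2] at hmap
  -- cardinalities
  have h1 : Nat.card B ≤ Nat.card ↥(hopfG ρ) := by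
    rw [← Nat.card_congr eB.toEquiv]
    let g : ↥(hopfG ρ) → ↥τ.ker := fun x => ⟨β x.1, by rw [← hmap]; exact ⟨x.1, x.2, rfl⟩⟩
    apply Nat.card_le_card_of_surjective g
    rintro ⟨y, hy⟩
    rw [← hmap] at hy
    obtain ⟨x, hx, hxy⟩ := hy
    exact ⟨⟨x, hx⟩, Subtype.ext hxy⟩
  let π' : B →* ↥(hopfG ρ) := π.codRestrict (hopfG ρ) (fun b => by
    show π b ∈ commutator (F ⧸ uceK ρ) ⊓ (uceMap ρ).ker
    rw [← hπ]; exact ⟨b, rfl⟩)
  have hπ's : Function.Surjective π' := by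
    rintro ⟨x, hx⟩
    have hx' : x ∈ π.range := by rw [hπ]; exact hx
    obtain ⟨b, hb⟩ := hx'
    exact ⟨b, Subtype.ext hb⟩
  exact ⟨MulEquiv.ofBijective π' (hπ's.bijective_of_nat_card_le h1)⟩

end general

theorem normHom_comp {𝔽 : Type*} [Group 𝔽] (W : Subgroup 𝔽) [W.FiniteIndex] (R : Subgroup 𝔽)
    [R.Normal] {K K' : Type*} [CommGroup K] [CommGroup K'] (ψ : R →* K) (g : K →* K') :
    normHom W R (g.comp ψ) = g.comp (normHom W R ψ) := by
  letI := W.fintypeQuotientOfFiniteIndex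
  ext r
  rw [MonoidHom.comp_apply, normHom_apply, normHom_apply, map_prod]
  rfl

theorem map_commutator_of_surjective {G H : Type*} [Group G] [Group H] (f : G →* H)
    (hf : Function.Surjective f) : (commutator G).map f = commutator H := by
  rw [commutator_def, commutator_def, Subgroup.map_commutator,
    Subgroup.map_top_of_surjective f hf]

section sylow

variable {F : Type w} {G : Type u} [Group F] [Group G] (ρ : F →* G) (P : Subgroup G)

/-- `ρ` restricted to the preimage of `P` -/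
abbrev rhoV : ↥(P.comap ρ) →* ↥P := ρ.subgroupComap P

theorem ker_le_V : ρ.ker ≤ P.comap ρ := fun r hr => by
  rw [Subgroup.mem_comap, MonoidHom.mem_ker.1 hr]; exact Subgroup.one_mem _

theorem uceK_rhoV_le : uceK (rhoV ρ P) ≤ (uceK ρ).comap (P.comap ρ).subtype := by
  unfold uceK
  rw [Subgroup.commutator_le]
  intro a _ b hb
  rw [Subgroup.mem_comap, map_commutatorElement]
  refine Subgroup.commutator_mem_commutator (Subgroup.mem_top _) ?_
  rw [MonoidHom.mem_ker] at hb ⊢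
  exact congrArg Subtype.val hb

/-- the map `V/[V,R] → F/[F,R]` -/
def jMap : (↥(P.comap ρ) ⧸ uceK (rhoV ρ P)) →* (F ⧸ uceK ρ) :=
  QuotientGroup.map _ _ (P.comap ρ).subtype (uceK_rhoV_le ρ P)

theorem jMap_mk (v : ↥(P.comap ρ)) : jMap ρ P (QuotientGroup.mk v) = QuotientGroup.mk (v : F) := rfl

theorem uceMap_jMap (y : ↥(P.comap ρ) ⧸ uceK (rhoV ρ P)) :
    uceMap ρ (jMap ρ P y) = ((uceMap (rhoV ρ P) y : ↥P) : G) := by
  obtain ⟨v, rfl⟩ := QuotientGroup.mk_surjective y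
  rfl

/-- `R → R/[V,R]` -/
def psi : ↥ρ.ker →* ↥(uceMap (rhoV ρ P)).ker :=
  ((QuotientGroup.mk' (uceK (rhoV ρ P))).comp (Subgroup.inclusion (ker_le_V ρ P))).codRestrict _
    (fun r => by
      rw [MonoidHom.mem_ker]
      show uceMap (rhoV ρ P) (QuotientGroup.mk _) = 1
      rw [uceMap_mk]
      apply Subtype.ext
      exact MonoidHom.mem_ker.1 r.2)

theorem psi_coe (r : ↥ρ.ker) :
    ((psi ρ P r : ↥(uceMap (rhoV ρ P)).ker) : ↥(P.comap ρ) ⧸ uceK (rhoV ρ P)) =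
      QuotientGroup.mk (⟨r.1, ker_le_V ρ P r.2⟩ : ↥(P.comap ρ)) := rfl

theorem psi_conjInv (v : F) (hv : v ∈ P.comap ρ) (r : ↥ρ.ker) :
    psi ρ P (conjInv ρ.ker v r) = psi ρ P r := by
  apply Subtype.ext
  rw [psi_coe, psi_coe]
  have h1 : (⟨(conjInv ρ.ker v r).1, ker_le_V ρ P (conjInv ρ.ker v r).2⟩ : ↥(P.comap ρ)) =
      (⟨v, hv⟩ : ↥(P.comap ρ))⁻¹ * ⟨r.1, ker_le_V ρ P r.2⟩ * ⟨v, hv⟩ := by
    apply Subtype.ext
    exact conjInv_coe ρ.ker v r
  rw [h1, QuotientGroup.mk_mul, QuotientGroup.mk_mul, QuotientGroup.mk_inv]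
  have hc := uceMap_ker_le_center (rhoV ρ P) (psi ρ P r).2
  rw [psi_coe] at hc
  rw [mul_assoc, ← Subgroup.mem_center_iff.1 hc, inv_mul_cancel_left]

/-- `R → R/[F,R]` -/
def piR : ↥ρ.ker →* ↥(uceMap ρ).ker :=
  ((QuotientGroup.mk' (uceK ρ)).comp ρ.ker.subtype).codRestrict _ (fun r => by
    rw [MonoidHom.mem_ker]
    show uceMap ρ (QuotientGroup.mk _) = 1
    rw [uceMap_mk]
    exact MonoidHom.mem_ker.1 r.2)

theorem piR_coe (r : ↥ρ.ker) : ((piR ρ r : ↥(uceMap ρ).ker) : F ⧸ uceK ρ) = QuotientGroup.mk r.1 := rfl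

theorem piR_surjective : Function.Surjective (piR ρ) := by
  rintro ⟨x, hx⟩
  obtain ⟨f, rfl⟩ := QuotientGroup.mk_surjective x
  rw [MonoidHom.mem_ker, uceMap_mk] at hx
  exact ⟨⟨f, MonoidHom.mem_ker.2 hx⟩, rfl⟩

theorem piR_conjInv (f : F) (r : ↥ρ.ker) : piR ρ (conjInv ρ.ker f r) = piR ρ r := by
  apply Subtype.ext
  rw [piR_coe, piR_coe, conjInv_coe, QuotientGroup.mk_mul, QuotientGroup.mk_mul, QuotientGroup.mk_inv]
  have hc := uceMap_ker_le_center ρ (piR ρ r).2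
  rw [piR_coe] at hc
  rw [mul_assoc, ← Subgroup.mem_center_iff.1 hc, inv_mul_cancel_left]

/-- `R/[V,R] → R/[F,R]` -/
def jK : ↥(uceMap (rhoV ρ P)).ker →* ↥(uceMap ρ).ker :=
  ((jMap ρ P).comp (uceMap (rhoV ρ P)).ker.subtype).codRestrict _ (fun y => by
    rw [MonoidHom.mem_ker]
    show uceMap ρ (jMap ρ P y.1) = 1
    rw [uceMap_jMap, MonoidHom.mem_ker.1 y.2]
    rfl)

theorem jK_coe (y : ↥(uceMap (rhoV ρ P)).ker) : ((jK ρ P y : ↥(uceMap ρ).ker) : F ⧸ uceK ρ) = jMap ρ P y.1 :=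
  rfl

theorem jK_psi (r : ↥ρ.ker) : jK ρ P (psi ρ P r) = piR ρ r := rfl

variable [(P.comap ρ).FiniteIndex]

/-- the norm map `R → R/[V,R]` -/
noncomputable def normN : ↥ρ.ker →* ↥(uceMap (rhoV ρ P)).ker := normHom (P.comap ρ) ρ.ker (psi ρ P)

theorem jK_normN (r : ↥ρ.ker) : jK ρ P (normN ρ P r) = piR ρ r ^ (P.comap ρ).index := by
  letI := (P.comap ρ).fintypeQuotientOfFiniteIndex
  rw [normN, normHom_apply, map_prod]
  have : ∀ q : F ⧸ P.comap ρ, jK ρ P (psi ρ P (conjInv ρ.ker q.out r)) = piR ρ r := fun q => by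
    rw [jK_psi, piR_conjInv]
  rw [Finset.prod_congr rfl (fun q _ => this q), Finset.prod_const, Finset.card_univ,
    Subgroup.index_eq_card, Nat.card_eq_fintype_card]

theorem normN_conjInv (f : F) (r : ↥ρ.ker) : normN ρ P (conjInv ρ.ker f r) = normN ρ P r :=
  normHom_conjInv _ _ _ (psi_conjInv ρ P) f r

theorem ker_piR_le : (piR ρ).ker ≤ (normN ρ P).ker := by
  intro r hr
  have hr' : (r : F) ∈ uceK ρ := by
    have := congrArg Subtype.val (MonoidHom.mem_ker.1 hr)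
    rw [piR_coe] at this
    exact (QuotientGroup.eq_one_iff _).1 this
  have key : ⁅(⊤ : Subgroup F), ρ.ker⁆ ≤ ((normN ρ P).ker).map ρ.ker.subtype := by
    rw [Subgroup.commutator_le]
    intro f _ r₀ hr₀
    refine ⟨conjInv ρ.ker f⁻¹ ⟨r₀, hr₀⟩ * ⟨r₀, hr₀⟩⁻¹, ?_, ?_⟩
    · rw [SetLike.mem_coe, MonoidHom.mem_ker, map_mul, map_inv, normN_conjInv, mul_inv_cancel]
    · show ((conjInv ρ.ker f⁻¹ ⟨r₀, hr₀⟩ : ↥ρ.ker) : F) * (r₀)⁻¹ = _
      rw [conjInv_coe, inv_inv, commutatorElement_def]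
  obtain ⟨r', hr'1, hr'2⟩ := key hr'
  have : r' = r := Subtype.ext hr'2
  rw [← this]; exact hr'1

/-- the descended norm map `R/[F,R] → R/[V,R]` -/
noncomputable def normBar : ↥(uceMap ρ).ker →* ↥(uceMap (rhoV ρ P)).ker :=
  (piR ρ).liftOfSurjective (piR_surjective ρ) ⟨normN ρ P, ker_piR_le ρ P⟩

theorem normBar_piR (r : ↥ρ.ker) : normBar ρ P (piR ρ r) = normN ρ P r :=
  MonoidHom.liftOfRightInverse_comp_apply _ _ _ _ _

theorem jK_normBar (x : ↥(uceMap ρ).ker) : jK ρ P (normBar ρ P x) = x ^ (P.comap ρ).index := by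
  obtain ⟨r, rfl⟩ := piR_surjective ρ x
  rw [normBar_piR, jK_normN]

theorem normBar_mem_commutator (x : ↥(uceMap ρ).ker) (hx : x.1 ∈ commutator (F ⧸ uceK ρ)) :
    (normBar ρ P x).1 ∈ commutator (↥(P.comap ρ) ⧸ uceK (rhoV ρ P)) := by
  obtain ⟨r, rfl⟩ := piR_surjective ρ x
  rw [normBar_piR]
  have hr : (r : F) ∈ commutator F := by
    rw [piR_coe, ← map_commutator_of_surjective (QuotientGroup.mk' (uceK ρ))
      (QuotientGroup.mk'_surjective _)] at hx
    obtain ⟨c, hc, hcr⟩ := hx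
    have h1 : c⁻¹ * r.1 ∈ uceK ρ := by
      rw [← QuotientGroup.eq]; exact hcr
    have h2 : r.1 = c * (c⁻¹ * r.1) := by rw [mul_inv_cancel_left]
    rw [h2]
    have hle : uceK ρ ≤ commutator F := by
      unfold uceK
      rw [commutator_def]
      exact Subgroup.commutator_mono le_rfl le_top
    exact Subgroup.mul_mem _ hc (hle h1)
  let g : ↥(uceMap (rhoV ρ P)).ker →* Abelianization (↥(P.comap ρ) ⧸ uceK (rhoV ρ P)) :=
    Abelianization.of.comp (uceMap (rhoV ρ P)).ker.subtype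
  let ϕ : ↥(P.comap ρ) →* Abelianization (↥(P.comap ρ) ⧸ uceK (rhoV ρ P)) :=
    Abelianization.of.comp (QuotientGroup.mk' _)
  have h1 := transfer_eq_normHom (P.comap ρ) ρ.ker (g.comp (psi ρ P)) ϕ (ker_le_V ρ P)
    (fun r => rfl) r
  rw [normHom_comp] at h1
  have h2 : MonoidHom.transfer ϕ (r : F) = 1 := by
    have : (r : F) ∈ (MonoidHom.transfer ϕ).ker := Abelianization.commutator_subset_ker _ hr
    exact this
  rw [h2] at h1
  rw [← Abelianization.ker_of, MonoidHom.mem_ker]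
  exact h1.symm

omit [(P.comap ρ).FiniteIndex] in
theorem jK_mem_commutator (y : ↥(uceMap (rhoV ρ P)).ker)
    (hy : y.1 ∈ commutator (↥(P.comap ρ) ⧸ uceK (rhoV ρ P))) :
    (jK ρ P y).1 ∈ commutator (F ⧸ uceK ρ) := by
  rw [jK_coe]
  have : jMap ρ P y.1 ∈ (commutator (↥(P.comap ρ) ⧸ uceK (rhoV ρ P))).map (jMap ρ P) :=
    ⟨y.1, hy, rfl⟩
  rw [commutator_def, Subgroup.map_commutator] at this
  rw [commutator_def]
  exact Subgroup.commutator_mono le_top le_top this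

end sylow

theorem exists_zpow_pow_eq {G : Type*} [Group G] (g : G) (m n : ℕ) (h : n.Coprime m)
    (hg : g ^ m = 1) : ∃ a : ℤ, (g ^ a) ^ n = g := by
  refine ⟨n.gcdA m, ?_⟩
  have h1 : ((n.gcd m : ℕ) : ℤ) = n * n.gcdA m + m * n.gcdB m := Nat.gcd_eq_gcd_ab n m
  rw [h] at h1
  have h2 : g ^ ((n : ℤ) * n.gcdA m + m * n.gcdB m) = g := by
    rw [← h1]; simp
  rw [zpow_add, zpow_mul, zpow_mul, zpow_natCast, zpow_natCast, hg, one_zpow, mul_one] at h2
  rw [← zpow_natCast, ← zpow_mul, mul_comm, zpow_mul, zpow_natCast]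
  exact h2

theorem split_of_pow {A : Type*} {B : Type*} [CommGroup A] [CommGroup B] [Finite A] (p n : ℕ)
    [hp : Fact p.Prime] (hpn : ¬ p ∣ n) (t : A →* B) (c : B →* A) (hct : ∀ a, c (t a) = a ^ n) :
    ∃ C D : Subgroup B, C ⊓ D = ⊥ ∧ C ⊔ D = ⊤ ∧
      Nonempty (CommGroup.primaryComponent A p ≃* C) := by
  obtain ⟨k, m, hpm, hN⟩ := Nat.exists_eq_pow_mul_and_not_dvd (Nat.card_pos (α := A)).ne' p
    hp.out.ne_one
  have hcop : ∀ j : ℕ, (n * m).Coprime (p ^ j) := fun j =>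
    (Nat.Coprime.mul_left ((hp.out.coprime_iff_not_dvd.2 hpn).symm)
      ((hp.out.coprime_iff_not_dvd.2 hpm).symm)).pow_right j
  -- elements of the primary component killed by n*m are trivial
  have htriv : ∀ a : A, a ∈ CommGroup.primaryComponent A p → a ^ (n * m) = 1 → a = 1 := by
    intro a ha h1
    obtain ⟨j, hj⟩ := CommGroup.mem_primaryComponent.1 ha
    have := pow_gcd_eq_one.2 ⟨h1, hj⟩
    rw [hcop j, pow_one] at this
    exact this
  let t' : ↥(CommGroup.primaryComponent A p) →* B := t.comp (CommGroup.primaryComponent A p).subtype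
  have ht'inj : Function.Injective t' := by
    rw [injective_iff_map_eq_one]
    intro a ha
    apply Subtype.ext
    apply htriv a.1 a.2
    have : c (t a.1) = 1 := by
      have : t a.1 = 1 := ha
      rw [this, map_one]
    rw [hct] at this
    rw [pow_mul, this, one_pow]
  let θ : B →* A := (powMonoidHom m).comp c
  refine ⟨t'.range, θ.ker, ?_, ?_, ⟨MonoidHom.ofInjective ht'inj⟩⟩
  · rw [eq_bot_iff]
    rintro b ⟨⟨a, rfl⟩, hb2⟩
    have h1 : (c (t a.1)) ^ m = 1 := MonoidHom.mem_ker.1 hb2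
    rw [hct, ← pow_mul] at h1
    have : a = 1 := Subtype.ext (htriv a.1 a.2 h1)
    rw [this, map_one]
    exact Subgroup.mem_bot.2 rfl
  · rw [eq_top_iff]
    intro b _
    have hu : (c b ^ m) ^ (p ^ k) = 1 := by
      rw [← pow_mul, mul_comm, ← hN]; exact pow_card_eq_one'
    have huA : c b ^ m ∈ CommGroup.primaryComponent A p := CommGroup.mem_primaryComponent.2 ⟨k, hu⟩
    obtain ⟨z, hz⟩ := exists_zpow_pow_eq (c b ^ m) (p ^ k) (n * m) (hcop k) hu
    have haA : (c b ^ m) ^ z ∈ CommGroup.primaryComponent A p := Subgroup.zpow_mem _ huA z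
    have hb : b = t' ⟨(c b ^ m) ^ z, haA⟩ * ((t' ⟨(c b ^ m) ^ z, haA⟩)⁻¹ * b) := by
      rw [mul_inv_cancel_left]
    rw [hb]
    refine Subgroup.mul_mem_sup (MonoidHom.mem_range.2 ⟨_, rfl⟩) ?_
    rw [MonoidHom.mem_ker]
    show (c ((t ((c b ^ m) ^ z))⁻¹ * b)) ^ m = 1
    rw [map_mul, map_inv, hct, mul_pow, inv_pow, ← pow_mul, hz, inv_mul_cancel]

theorem result' {G : Type u} [Group G] [Finite G] (p : ℕ) [Fact p.Prime] (P : Sylow p G)
    {A : Type v} {B : Type w} [CommGroup A] [CommGroup B] (hA : Cfsg.HasSchurMultiplier G A)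
    (hB : Cfsg.HasSchurMultiplier P B) :
    ∃ C D : Subgroup B, C ⊓ D = ⊥ ∧ C ⊔ D = ⊤ ∧
      Nonempty (CommGroup.primaryComponent A p ≃* C) := by
  have hρ : Function.Surjective (stdPres G) := stdPres_surjective
  set ρ := stdPres G with hρdef
  have hidx : ((P : Subgroup G).comap ρ).index = (P : Subgroup G).index :=
    Subgroup.index_comap_of_surjective _ hρ
  haveI : ((P : Subgroup G).comap ρ).FiniteIndex :=
    ⟨by rw [hidx]; exact Subgroup.FiniteIndex.index_ne_zero⟩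
  obtain ⟨eA⟩ := exists_mulEquiv_hopfG ρ hA hρ
  have hρV : Function.Surjective (rhoV ρ (P : Subgroup G)) :=
    MonoidHom.subgroupComap_surjective_of_surjective ρ _ hρ
  obtain ⟨eB⟩ := exists_mulEquiv_hopfG (rhoV ρ (P : Subgroup G)) hB hρV
  haveI : Finite A := by
    obtain ⟨⟨Γ, _, _, σ, _, ⟨e⟩⟩, _⟩ := hA
    exact Finite.of_equiv _ e.toEquiv
  let t₀ : ↥(hopfG ρ) →* ↥(hopfG (rhoV ρ (P : Subgroup G))) :=
    (((uceMap (rhoV ρ (P : Subgroup G))).ker.subtype.comp (normBar ρ (P : Subgroup G))).comp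
      (Subgroup.inclusion (inf_le_right : hopfG ρ ≤ (uceMap ρ).ker))).codRestrict _ (fun x =>
        ⟨normBar_mem_commutator ρ (P : Subgroup G) ⟨x.1, x.2.2⟩ x.2.1,
          (normBar ρ (P : Subgroup G) ⟨x.1, x.2.2⟩).2⟩)
  let c₀ : ↥(hopfG (rhoV ρ (P : Subgroup G))) →* ↥(hopfG ρ) :=
    (((uceMap ρ).ker.subtype.comp (jK ρ (P : Subgroup G))).comp
      (Subgroup.inclusion (inf_le_right :
        hopfG (rhoV ρ (P : Subgroup G)) ≤ (uceMap (rhoV ρ (P : Subgroup G))).ker))).codRestrict _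
      (fun y => ⟨jK_mem_commutator ρ (P : Subgroup G) ⟨y.1, y.2.2⟩ y.2.1,
          (jK ρ (P : Subgroup G) ⟨y.1, y.2.2⟩).2⟩)
  have hct₀ : ∀ x, c₀ (t₀ x) = x ^ ((P : Subgroup G).comap ρ).index := by
    intro x
    apply Subtype.ext
    show (jK ρ (P : Subgroup G) (normBar ρ (P : Subgroup G) ⟨x.1, x.2.2⟩)).1 = _
    rw [jK_normBar]
    rfl
  let tA : A →* B := eB.symm.toMonoidHom.comp (t₀.comp eA.toMonoidHom)
  let cA : B →* A := eA.symm.toMonoidHom.comp (c₀.comp eB.toMonoidHom)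
  have hct : ∀ a, cA (tA a) = a ^ ((P : Subgroup G).comap ρ).index := by
    intro a
    show eA.symm (c₀ (eB (eB.symm (t₀ (eA a))))) = _
    rw [MulEquiv.apply_symm_apply, hct₀, map_pow, MulEquiv.symm_apply_apply]
  apply split_of_pow p _ _ tA cA hct
  rw [hidx]
  exact P.not_dvd_index

/-- Let `P` be a Sylow `p`-subgroup of the finite group `G`, let `A` be the Schur multiplier of `G` and `B` that of `P`. Then the `p`-primary component of `A` is isomorphic to a direct factor of `B`: there are subgroups `C` and `D` of `B` meeting trivially and generating `B`, with `C` isomorphic to the `p`-primary component of `A`. -/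
theorem result {G : Type*} [Group G] [Finite G] (p : ℕ) [Fact p.Prime] (P : Sylow p G) {A B : Type*} [CommGroup A] [CommGroup B] (hA : Cfsg.HasSchurMultiplier G A) (hB : Cfsg.HasSchurMultiplier P B) : ∃ C D : Subgroup B, C ⊓ D = ⊥ ∧ C ⊔ D = ⊤ ∧ Nonempty (CommGroup.primaryComponent A p ≃* C) := by
  exact result' p P hA hB

end Cfsg.Agent.S3953
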