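import Mathlib
import Cfsg.Statements.S3954
import Cfsg.Agent.Lib.Helper66.Hopf

set_option autoImplicit false
open Cfsg

namespace Cfsg.Agent.S3954

open Cfsg.Agent.Lib.Helper66

/-- A quotient of a finite abelian group embeds into it (duality). -/
theorem exists_injective_of_surjective {B R : Type*} [CommGroup B] [Finite B] [CommGroup R]
    (π : B →* R) (hπ : Function.Surjective π) : ∃ j : R →* B, Function.Injective j := by
  haveI : Finite R := Finite.of_surjective π hπ
  haveI : NeZero (Monoid.exponent B) := ⟨Monoid.exponent_ne_zero_of_finite⟩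
  haveI : NeZero ((Monoid.exponent B : ℕ) : ℂ) := NeZero.charZero
  haveI : NeZero (Monoid.exponent R) := ⟨Monoid.exponent_ne_zero_of_finite⟩
  haveI : NeZero ((Monoid.exponent R : ℕ) : ℂ) := NeZero.charZero
  obtain ⟨eB⟩ := CommGroup.monoidHom_mulEquiv_of_hasEnoughRootsOfUnity B ℂ
  obtain ⟨eR⟩ := CommGroup.monoidHom_mulEquiv_of_hasEnoughRootsOfUnity R ℂ
  let pre : (R →* ℂˣ) →* (B →* ℂˣ) :=
    { toFun := fun χ => χ.comp π
      map_one' := rfl
      map_mul' := fun _ _ => rfl }
  have hpre : Function.Injective pre := by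
    intro χ χ' h
    exact (MonoidHom.cancel_right hπ).1 h
  exact ⟨(eB.toMonoidHom.comp pre).comp eR.symm.toMonoidHom,
    (eB.injective.comp hpre).comp eR.symm.injective⟩

/-- Let `U` be a subgroup of index `m` in the finite group `G`, let `A` be the Schur multiplier of `G` and `B` that of `U`. Then the subgroup of `m`-th powers of `A` is isomorphic to a subgroup of `B`. -/
theorem result {G : Type*} [Group G] [Finite G] (U : Subgroup G) {A B : Type*} [CommGroup A] [CommGroup B] (hA : Cfsg.HasSchurMultiplier G A) (hB : Cfsg.HasSchurMultiplier U B) : ∃ C : Subgroup B, Nonempty ((powMonoidHom U.index : A →* A).range ≃* C) := by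
  obtain ⟨⟨Γ, _, _, σ, ⟨hsurj, hcen, hcomm⟩, ⟨eA⟩⟩, -⟩ := hA
  haveI : Finite B := by
    obtain ⟨⟨Δ, _, _, τ, _, ⟨eB⟩⟩, -⟩ := hB
    exact Finite.of_equiv _ eB.toEquiv
  -- the preimage of U
  let ξ : ↥(U.comap σ) →* ↥U := σ.subgroupComap U
  have hξ : Function.Surjective ξ := σ.subgroupComap_surjective_of_surjective U hsurj
  have hξker : ∀ x : ↥(U.comap σ), x ∈ ξ.ker ↔ (x : Γ) ∈ σ.ker := by
    intro x
    rw [MonoidHom.mem_ker, MonoidHom.mem_ker]
    constructor
    · intro h
      exact congrArg Subtype.val h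
    · intro h
      exact Subtype.ext h
  have hξc : ξ.ker ≤ Subgroup.center ↥(U.comap σ) := by
    intro x hx
    have hc := Subgroup.mem_center_iff.1 (hcen ((hξker x).1 hx))
    rw [Subgroup.mem_center_iff]
    intro y
    exact Subtype.ext (hc y)
  obtain ⟨π, hπ⟩ := exists_hom_range_eq_of_hasSchurMultiplier hB ξ hξ hξc
  -- transfer
  have hindex : (U.comap σ).index = U.index := Subgroup.index_comap_of_surjective U hsurj
  have hpow : ∀ a : Γ, a ∈ σ.ker → ∃ h : a ^ U.index ∈ U.comap σ,
      (⟨a ^ U.index, h⟩ : ↥(U.comap σ)) ∈ commutator ↥(U.comap σ) ⊓ ξ.ker := by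
    intro a ha
    have hac := Subgroup.mem_center_iff.1 (hcen ha)
    have hmemU : a ^ U.index ∈ U.comap σ := by
      rw [Subgroup.mem_comap, map_pow, MonoidHom.mem_ker.1 ha, one_pow]
      exact Subgroup.one_mem _
    refine ⟨hmemU, ?_, ?_⟩
    · -- via the transfer into the abelianization of the preimage
      have key : ∀ (k : ℕ) (g₀ : Γ), g₀⁻¹ * a ^ k * g₀ ∈ U.comap σ →
          g₀⁻¹ * a ^ k * g₀ = a ^ k := by
        intro k g₀ _
        have hk := Subgroup.mem_center_iff.1 (Subgroup.pow_mem _ (hcen ha) k) g₀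
        rw [mul_assoc, ← hk, inv_mul_cancel_left]
      have h1 := MonoidHom.transfer_eq_pow (Abelianization.of (G := ↥(U.comap σ))) a key
      have h2 : MonoidHom.transfer (Abelianization.of (G := ↥(U.comap σ))) a = 1 := by
        have : a ∈ (MonoidHom.transfer (Abelianization.of (G := ↥(U.comap σ)))).ker :=
          Abelianization.commutator_subset_ker _ (hcomm ha)
        exact this
      rw [h2] at h1
      have h3 : (⟨a ^ (U.comap σ).index, MonoidHom.transfer_eq_pow_aux a key⟩ : ↥(U.comap σ)) ∈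
          commutator ↥(U.comap σ) := by
        rw [← Abelianization.ker_of, MonoidHom.mem_ker]
        exact h1.symm
      have h4 : (⟨a ^ U.index, hmemU⟩ : ↥(U.comap σ)) =
          ⟨a ^ (U.comap σ).index, MonoidHom.transfer_eq_pow_aux a key⟩ := by
        apply Subtype.ext
        show a ^ U.index = a ^ (U.comap σ).index
        rw [hindex]
      rw [h4]; exact h3
    · show (⟨a ^ U.index, hmemU⟩ : ↥(U.comap σ)) ∈ ξ.ker
      rw [hξker]
      exact Subgroup.pow_mem _ ha _
  -- the embedding of the m-th powers into the range of π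
  have hmem : ∀ y : ↥(powMonoidHom U.index : A →* A).range,
      ∃ h : ((eA.symm (y : A) : ↥σ.ker) : Γ) ∈ U.comap σ,
        (⟨((eA.symm (y : A) : ↥σ.ker) : Γ), h⟩ : ↥(U.comap σ)) ∈ π.range := by
    rintro ⟨_, x, rfl⟩
    obtain ⟨h, hh⟩ := hpow ((eA.symm x : ↥σ.ker) : Γ) (eA.symm x).2
    have e1 : ((eA.symm ((powMonoidHom U.index : A →* A) x) : ↥σ.ker) : Γ) =
        ((eA.symm x : ↥σ.ker) : Γ) ^ U.index := by
      rw [powMonoidHom_apply, map_pow]
      rfl
    rw [hπ]
    refine ⟨by rw [e1]; exact h, ?_⟩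
    have e2 : (⟨((eA.symm ((powMonoidHom U.index : A →* A) x) : ↥σ.ker) : Γ), by rw [e1]; exact h⟩ :
        ↥(U.comap σ)) = ⟨((eA.symm x : ↥σ.ker) : Γ) ^ U.index, h⟩ := Subtype.ext e1
    rw [e2]; exact hh
  let J₁ : ↥(powMonoidHom U.index : A →* A).range →* ↥π.range :=
    { toFun := fun y => ⟨⟨((eA.symm (y : A) : ↥σ.ker) : Γ), (hmem y).1⟩, (hmem y).2⟩
      map_one' := by
        apply Subtype.ext
        apply Subtype.ext
        show ((eA.symm (1 : A) : ↥σ.ker) : Γ) = 1
        rw [map_one]; rfl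
      map_mul' := fun y y' => by
        apply Subtype.ext
        apply Subtype.ext
        show ((eA.symm ((y : A) * (y' : A)) : ↥σ.ker) : Γ) =
          ((eA.symm (y : A) : ↥σ.ker) : Γ) * ((eA.symm (y' : A) : ↥σ.ker) : Γ)
        rw [map_mul]; rfl }
  have hJ₁ : Function.Injective J₁ := by
    intro y y' h
    have h1 : ((eA.symm (y : A) : ↥σ.ker) : Γ) = ((eA.symm (y' : A) : ↥σ.ker) : Γ) :=
      congrArg (fun t : ↥π.range => ((t : ↥(U.comap σ)) : Γ)) h
    exact Subtype.ext (eA.symm.injective (Subtype.ext h1))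
  obtain ⟨j, hj⟩ := exists_injective_of_surjective (QuotientGroup.mk' π.ker)
    (QuotientGroup.mk'_surjective π.ker)
  let e2 : ↥π.range ≃* B ⧸ π.ker := (QuotientGroup.quotientKerEquivRange π).symm
  let J : ↥(powMonoidHom U.index : A →* A).range →* B := (j.comp e2.toMonoidHom).comp J₁
  have hJ : Function.Injective J := (hj.comp e2.injective).comp hJ₁
  exact ⟨J.range, ⟨MonoidHom.ofInjective hJ⟩⟩

end Cfsg.Agent.S3954
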