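import Mathlib
import Cfsg.Statements.S3955
import Cfsg.Agent.Lib.Helper66.Hopf
import Cfsg.Agent.Lib.Helper66.DivSplit

set_option autoImplicit false
open Cfsg

namespace Cfsg.Agent.S3955

open Cfsg.Agent.Lib.Helper66
open scoped commutatorElement

/-- the centre of `GL n ℂ` is divisible -/
theorem center_GL_divisible (n : ℕ) (M : GL (Fin n) ℂ) (hM : M ∈ Subgroup.center (GL (Fin n) ℂ))
    (k : ℕ) (hk : 0 < k) : ∃ N ∈ Subgroup.center (GL (Fin n) ℂ), N ^ k = M := by
  rw [Matrix.GeneralLinearGroup.center_eq_range_scalar] at hM ⊢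
  obtain ⟨c, rfl⟩ := hM
  obtain ⟨d, hd⟩ := IsAlgClosed.exists_pow_nat_eq (c : ℂ) hk
  have hd0 : d ≠ 0 := by
    rintro rfl
    rw [zero_pow hk.ne'] at hd
    exact c.ne_zero hd.symm
  refine ⟨Matrix.GeneralLinearGroup.scalar (Fin n) (Units.mk0 d hd0), ⟨_, rfl⟩, ?_⟩
  rw [← map_pow]
  congr 1
  apply Units.ext
  rw [Units.val_pow_eq_pow_val, Units.val_mk0, hd]

/-- Let `Q` be a finite group with Schur multiplier `A`, and let `σ : Γ →* Q` be a finite stem extension whose kernel is isomorphic to `A` (a Schur covering group of `Q`). Then every homomorphism `γ` from `Q` to the quotient of `GL n ℂ` by its centre lifts along `σ`: there is a homomorphism `ρ : Γ →* GL n ℂ` which, followed by the quotient map, equals `γ ∘ σ`. -/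
theorem result {Q : Type*} [Group Q] [Finite Q] {A : Type*} [CommGroup A] (hA : Cfsg.HasSchurMultiplier Q A) {Γ : Type*} [Group Γ] [Finite Γ] (σ : Γ →* Q) (hσ : Cfsg.IsStemExtension σ) (hk : Nonempty (σ.ker ≃* A)) (n : ℕ) (γ : Q →* (GL (Fin n) ℂ ⧸ Subgroup.center (GL (Fin n) ℂ))) : ∃ ρ : Γ →* GL (Fin n) ℂ, (QuotientGroup.mk' (Subgroup.center (GL (Fin n) ℂ))).comp ρ = γ.comp σ := by
  obtain ⟨eA⟩ := hk
  obtain ⟨hsurj, hcen, hcomm⟩ := hσ
  let pr : GL (Fin n) ℂ →* GL (Fin n) ℂ ⧸ Subgroup.center (GL (Fin n) ℂ) :=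
    QuotientGroup.mk' (Subgroup.center (GL (Fin n) ℂ))
  let P : Subgroup (Γ × GL (Fin n) ℂ) :=
    ((γ.comp σ).comp (MonoidHom.fst Γ (GL (Fin n) ℂ))).eqLocus
      (pr.comp (MonoidHom.snd Γ (GL (Fin n) ℂ)))
  have hP : ∀ a : ↥P, γ (σ (a : Γ × GL (Fin n) ℂ).1) = pr (a : Γ × GL (Fin n) ℂ).2 := fun a => a.2
  let ξ : ↥P →* Γ := (MonoidHom.fst Γ (GL (Fin n) ℂ)).comp P.subtype
  have hξ : Function.Surjective ξ := fun g => by
    obtain ⟨M, hM⟩ := QuotientGroup.mk'_surjective (Subgroup.center (GL (Fin n) ℂ)) (γ (σ g))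
    exact ⟨⟨(g, M), hM.symm⟩, rfl⟩
  -- elements over ker σ have central matrix part
  have hcenM : ∀ a : ↥P, (a : Γ × GL (Fin n) ℂ).1 ∈ σ.ker →
      (a : Γ × GL (Fin n) ℂ).2 ∈ Subgroup.center (GL (Fin n) ℂ) := by
    intro a ha
    have : pr (a : Γ × GL (Fin n) ℂ).2 = 1 := by
      rw [← hP, MonoidHom.mem_ker.1 ha, map_one]
    exact (QuotientGroup.eq_one_iff _).1 this
  have hcenP : ∀ a : ↥P, (a : Γ × GL (Fin n) ℂ).1 ∈ σ.ker → a ∈ Subgroup.center ↥P := by
    intro a ha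
    have h1 := Subgroup.mem_center_iff.1 (hcen ha)
    have h2 := Subgroup.mem_center_iff.1 (hcenM a ha)
    rw [Subgroup.mem_center_iff]
    intro b
    apply Subtype.ext
    apply Prod.ext
    · exact h1 _
    · exact h2 _
  have hξc : ξ.ker ≤ Subgroup.center ↥P := by
    intro a ha
    apply hcenP
    have : (a : Γ × GL (Fin n) ℂ).1 = 1 := ha
    rw [this]; exact Subgroup.one_mem _
  -- divisibility of the kernel
  have hdiv : ∀ z ∈ ξ.ker, ∀ k : ℕ, 0 < k → ∃ w ∈ ξ.ker, w ^ k = z := by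
    intro z hz k hkpos
    have hz1 : (z : Γ × GL (Fin n) ℂ).1 = 1 := hz
    have hz2 : (z : Γ × GL (Fin n) ℂ).2 ∈ Subgroup.center (GL (Fin n) ℂ) := by
      apply hcenM
      rw [hz1]; exact Subgroup.one_mem _
    obtain ⟨N, hN, hNk⟩ := center_GL_divisible n _ hz2 k hkpos
    have hmem : ((1 : Γ), N) ∈ P := by
      show γ (σ 1) = pr N
      rw [map_one, map_one]
      exact ((QuotientGroup.eq_one_iff _).2 hN).symm
    refine ⟨⟨((1 : Γ), N), hmem⟩, rfl, ?_⟩
    apply Subtype.ext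
    apply Prod.ext
    · show ((1 : Γ), N).1 ^ k = (z : Γ × GL (Fin n) ℂ).1
      rw [hz1]; exact one_pow k
    · show ((1 : Γ), N).2 ^ k = (z : Γ × GL (Fin n) ℂ).2
      exact hNk
  -- the commutator subgroup meets the kernel trivially
  have hbot : commutator ↥P ⊓ ξ.ker = ⊥ := by
    -- the composite central extension of Q
    have hζ : Function.Surjective (σ.comp ξ) := hsurj.comp hξ
    have hζc : (σ.comp ξ).ker ≤ Subgroup.center ↥P := fun a ha => hcenP a ha
    obtain ⟨π, hπ⟩ := exists_hom_range_eq_of_hasSchurMultiplier hA (σ.comp ξ) hζ hζc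
    haveI : Finite A := Finite.of_equiv _ eA.toEquiv
    -- the map from T = P' ∩ ker ζ to ker σ
    let f : ↥(commutator ↥P ⊓ (σ.comp ξ).ker) →* ↥σ.ker :=
      (ξ.comp (commutator ↥P ⊓ (σ.comp ξ).ker).subtype).codRestrict σ.ker (fun x => x.2.2)
    have hmap : (commutator ↥P).map ξ = commutator Γ := by
      rw [commutator_def, Subgroup.map_commutator, ← MonoidHom.range_eq_map,
        MonoidHom.range_eq_top.2 hξ, commutator_def]
    have hfsurj : Function.Surjective f := by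
      rintro ⟨k, hk⟩
      have hk' : k ∈ (commutator ↥P).map ξ := by rw [hmap]; exact hcomm hk
      obtain ⟨x, hx, rfl⟩ := hk'
      exact ⟨⟨x, hx, hk⟩, rfl⟩
    haveI : Finite ↥(commutator ↥P ⊓ (σ.comp ξ).ker) := by
      rw [← hπ]
      exact Finite.of_surjective π.rangeRestrict π.rangeRestrict_surjective
    have hcard : Nat.card ↥(commutator ↥P ⊓ (σ.comp ξ).ker) ≤ Nat.card ↥σ.ker := by
      rw [Nat.card_congr eA.toEquiv]
      have h1 : Nat.card ↥π.range ≤ Nat.card A :=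
        Nat.card_le_card_of_surjective π.rangeRestrict π.rangeRestrict_surjective
      rw [hπ] at h1
      exact h1
    have hfinj := (hfsurj.bijective_of_nat_card_le hcard).1
    rw [eq_bot_iff]
    intro x hx
    have hxT : x ∈ commutator ↥P ⊓ (σ.comp ξ).ker := by
      refine ⟨hx.1, ?_⟩
      show σ (ξ x) = 1
      rw [MonoidHom.mem_ker.1 hx.2, map_one]
    have h1 : f ⟨x, hxT⟩ = 1 := by
      apply Subtype.ext
      exact MonoidHom.mem_ker.1 hx.2
    have h2 : (⟨x, hxT⟩ : ↥(commutator ↥P ⊓ (σ.comp ξ).ker)) = 1 := by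
      apply hfinj
      rw [h1, map_one]
    exact congrArg Subtype.val h2
  obtain ⟨s, hs⟩ := exists_section_of_divisible_ker ξ hξ hξc hdiv hbot
  refine ⟨((MonoidHom.snd Γ (GL (Fin n) ℂ)).comp P.subtype).comp s, ?_⟩
  ext g
  show pr ((s g : ↥P) : Γ × GL (Fin n) ℂ).2 = γ (σ g)
  rw [← hP]
  have : ξ (s g) = g := congrArg (fun f : Γ →* Γ => f g) hs
  exact congrArg (fun t => γ (σ t)) this

end Cfsg.Agent.S3955
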