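import Mathlib
import Cfsg.Statements.S3956
import Cfsg.Agent.Lib.Helper66.HopfCover
import Cfsg.Agent.Lib.Helper66.MonomialRep

set_option autoImplicit false
open Cfsg

namespace Cfsg.Agent.S3956

open Cfsg.Agent.Lib.Helper66

universe u v

/-- Let `σ : Γ →* Q` be a finite stem extension of the finite group `Q` such that every homomorphism from `Q` to the quotient of `GL n ℂ` by its centre, for every `n`, lifts along `σ` to a homomorphism `Γ →* GL n ℂ`. Then `σ` is a Schur covering group of `Q`: for every finite stem extension `τ : Δ →* Q` with `Δ` in the same universe as `Q`, the kernel of `τ` is a homomorphic image of the kernel of `σ`. -/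
theorem result {Q : Type u} [Group Q] [Finite Q] {Γ : Type v} [Group Γ] [Finite Γ] (σ : Γ →* Q) (hσ : Cfsg.IsStemExtension σ) (hlift : ∀ (n : ℕ) (γ : Q →* (GL (Fin n) ℂ ⧸ Subgroup.center (GL (Fin n) ℂ))), ∃ ρ : Γ →* GL (Fin n) ℂ, (QuotientGroup.mk' (Subgroup.center (GL (Fin n) ℂ))).comp ρ = γ.comp σ) (Δ : Type u) [Group Δ] [Finite Δ] (τ : Δ →* Q) (hτ : Cfsg.IsStemExtension τ) : ∃ π : σ.ker →* τ.ker, Function.Surjective π := by
  obtain ⟨Γs, _, _, σs, hσs, ⟨eM⟩, β, hβsurj, hβ⟩ :=
    exists_cover_over (stdPres Q) stdPres_surjective σ hσ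
  have hβ' : ∀ x, σ (β x) = σs x := fun x => congrArg (fun f : Γs →* Q => f x) hβ
  -- β is injective
  have hβinj : Function.Injective β := by
    rw [injective_iff_map_eq_one]
    intro z hz
    by_contra hz1
    have hzk : z ∈ σs.ker := by
      rw [MonoidHom.mem_ker, ← hβ', hz, map_one]
    obtain ⟨n, ρ, γ, hργ, hρz⟩ := exists_projective_rep_nontrivial σs hσs.1 hσs.2.1 z hzk hz1
    obtain ⟨ρΓ, hρΓ⟩ := hlift n γ
    have heq : (QuotientGroup.mk' (Subgroup.center (GL (Fin n) ℂ))).comp ρ =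
        (QuotientGroup.mk' (Subgroup.center (GL (Fin n) ℂ))).comp (ρΓ.comp β) := by
      rw [hργ, ← MonoidHom.comp_assoc, hρΓ, MonoidHom.comp_assoc, hβ]
    have := eq_on_commutator_of_eq_mod_center ρ (ρΓ.comp β) heq z (hσs.2.2 hzk)
    apply hρz
    rw [this]
    show ρΓ (β z) = 1
    rw [hz, map_one]
  let e : Γs ≃* Γ := MulEquiv.ofBijective β ⟨hβinj, hβsurj⟩
  have he : ∀ x, e x = β x := fun x => rfl
  -- transport of kernels
  let f : ↥σ.ker →* ↥σs.ker :=
    (e.symm.toMonoidHom.comp σ.ker.subtype).codRestrict σs.ker (fun x => by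
      rw [MonoidHom.mem_ker, ← hβ']
      show σ (β (e.symm (x : Γ))) = 1
      rw [← he, e.apply_symm_apply]
      exact x.2)
  have hfsurj : Function.Surjective f := by
    rintro ⟨y, hy⟩
    have hmem : β y ∈ σ.ker := by
      rw [MonoidHom.mem_ker, hβ']; exact hy
    refine ⟨⟨β y, hmem⟩, ?_⟩
    apply Subtype.ext
    show e.symm (β y) = y
    rw [← he, e.symm_apply_apply]
  obtain ⟨p, hp⟩ := hopfM_surj_ker_of_stem (stdPres Q) stdPres_surjective τ hτ
  exact ⟨(p.comp eM.toMonoidHom).comp f, (hp.comp eM.surjective).comp hfsurj⟩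

end Cfsg.Agent.S3956
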