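import Mathlib
import Cfsg.Statements.S3959
import Cfsg.Agent.Lib.Helper66.Hopf
import Cfsg.Agent.Lib.Helper66.KunnethPairing
-- import your own Cfsg.Agent.* helpers here

set_option autoImplicit false
open Cfsg

namespace Cfsg.Agent.S3959

open Cfsg.Agent.Lib.Helper66
open scoped commutatorElement TensorProduct Pointwise

universe u v w

theorem commutatorElement_mul_right_of_central {Γ : Type*} [Group Γ] (g x y : Γ)
    (hy : ⁅g, y⁆ ∈ Subgroup.center Γ) : ⁅g, x * y⁆ = ⁅g, x⁆ * ⁅g, y⁆ := by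
  have hb := Subgroup.mem_center_iff.1 hy
  have e1 : ⁅g, x⁆ * ⁅g, y⁆ = g * x * g⁻¹ * (x⁻¹ * ⁅g, y⁆) := by
    rw [commutatorElement_def g x]; group
  rw [e1, hb, commutatorElement_def, commutatorElement_def]
  group

theorem commutatorElement_mul_left_of_central {Γ : Type*} [Group Γ] (x x' y : Γ)
    (hx : ⁅x, y⁆ ∈ Subgroup.center Γ) (hx' : ⁅x', y⁆ ∈ Subgroup.center Γ) :
    ⁅x * x', y⁆ = ⁅x, y⁆ * ⁅x', y⁆ := by
  have h1 : ⁅y, x'⁆ ∈ Subgroup.center Γ := by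
    rw [← commutatorElement_inv]; exact Subgroup.inv_mem _ hx'
  have h2 := commutatorElement_mul_right_of_central y x x' h1
  rw [← commutatorElement_inv y (x * x'), h2, mul_inv_rev, commutatorElement_inv,
    commutatorElement_inv]
  exact Subgroup.mem_center_iff.1 hx _

open scoped IsMulCommutative in
/-- The second half: every finite stem extension of `Q₁ × Q₂` has kernel an image of
`A × B × (Q₁ᵃᵇ ⊗ Q₂ᵃᵇ)`. -/
theorem second_half {Q₁ : Type u} {Q₂ : Type v} [Group Q₁] [Group Q₂] [Finite Q₁] [Finite Q₂]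
    {A B : Type w} [CommGroup A] [CommGroup B] (hA : Cfsg.HasSchurMultiplier Q₁ A)
    (hB : Cfsg.HasSchurMultiplier Q₂ B)
    (Γ : Type (max u v)) [Group Γ] [Finite Γ] (σ : Γ →* Q₁ × Q₂) (hσ : Cfsg.IsStemExtension σ) :
    ∃ π : A × B × Multiplicative
        (Additive (Abelianization Q₁) ⊗[ℤ] Additive (Abelianization Q₂)) →* σ.ker,
      Function.Surjective π := by
  obtain ⟨hsurj, hcen, hcomm⟩ := hσ
  let p1 : Γ →* Q₁ := (MonoidHom.fst Q₁ Q₂).comp σ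
  let p2 : Γ →* Q₂ := (MonoidHom.snd Q₁ Q₂).comp σ
  have hp1 : ∀ g, p1 g = (σ g).1 := fun g => rfl
  have hp2 : ∀ g, p2 g = (σ g).2 := fun g => rfl
  have hkerσ : ∀ g, g ∈ σ.ker ↔ p1 g = 1 ∧ p2 g = 1 := by
    intro g
    rw [MonoidHom.mem_ker, hp1, hp2, Prod.ext_iff]
    rfl
  -- the two preimages
  let G1 : Subgroup Γ := p2.ker
  let G2 : Subgroup Γ := p1.ker
  let ξ1 : ↥G1 →* Q₁ := p1.comp G1.subtype
  let ξ2 : ↥G2 →* Q₂ := p2.comp G2.subtype
  have hξ1 : Function.Surjective ξ1 := by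
    intro q
    obtain ⟨g, hg⟩ := hsurj (q, 1)
    refine ⟨⟨g, ?_⟩, ?_⟩
    · show p2 g = 1
      rw [hp2, hg]
    · show p1 g = q
      rw [hp1, hg]
  have hξ2 : Function.Surjective ξ2 := by
    intro q
    obtain ⟨g, hg⟩ := hsurj (1, q)
    refine ⟨⟨g, ?_⟩, ?_⟩
    · show p1 g = 1
      rw [hp1, hg]
    · show p2 g = q
      rw [hp2, hg]
  have hker1 : ∀ x : ↥G1, x ∈ ξ1.ker → (x : Γ) ∈ σ.ker := by
    intro x hx
    rw [hkerσ]
    exact ⟨hx, x.2⟩
  have hker2 : ∀ x : ↥G2, x ∈ ξ2.ker → (x : Γ) ∈ σ.ker := by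
    intro x hx
    rw [hkerσ]
    exact ⟨x.2, hx⟩
  have hξ1c : ξ1.ker ≤ Subgroup.center ↥G1 := by
    intro x hx
    have := Subgroup.mem_center_iff.1 (hcen (hker1 x hx))
    rw [Subgroup.mem_center_iff]
    intro y
    exact Subtype.ext (this y)
  have hξ2c : ξ2.ker ≤ Subgroup.center ↥G2 := by
    intro x hx
    have := Subgroup.mem_center_iff.1 (hcen (hker2 x hx))
    rw [Subgroup.mem_center_iff]
    intro y
    exact Subtype.ext (this y)
  -- commutators of G1 and G2 are in the kernel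
  have hck : ∀ g1 ∈ G1, ∀ g2 ∈ G2, ⁅g1, g2⁆ ∈ σ.ker := by
    intro g1 h1 g2 h2
    rw [hkerσ, map_commutatorElement, map_commutatorElement]
    have e1 : p2 g1 = 1 := h1
    have e2 : p1 g2 = 1 := h2
    rw [e1, e2]
    simp
  have hcc : ∀ g1 ∈ G1, ∀ g2 ∈ G2, ⁅g1, g2⁆ ∈ Subgroup.center Γ :=
    fun g1 h1 g2 h2 => hcen (hck g1 h1 g2 h2)
  -- the pairing
  let Z := Subgroup.center Γ
  let c : ↥G1 → ↥G2 → Z := fun g1 g2 => ⟨⁅(g1 : Γ), (g2 : Γ)⁆, hcc g1 g1.2 g2 g2.2⟩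
  obtain ⟨β, hβ⟩ := exists_tensor_hom ξ1 ξ2 hξ1 hξ2 c
    (fun x x' y => Subtype.ext (commutatorElement_mul_left_of_central (x : Γ) (x' : Γ) (y : Γ)
      (hcc x x.2 y y.2) (hcc x' x'.2 y y.2)))
    (fun x y y' => Subtype.ext (commutatorElement_mul_right_of_central (x : Γ) (y : Γ) (y' : Γ)
      (hcc x x.2 y' y'.2)))
    (fun x hx y => Subtype.ext (by
      show ⁅(x : Γ), (y : Γ)⁆ = 1
      rw [commutatorElement_eq_one_iff_mul_comm]
      exact (Subgroup.mem_center_iff.1 (hcen (hker1 x hx)) _).symm))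
    (fun x y hy => Subtype.ext (by
      show ⁅(x : Γ), (y : Γ)⁆ = 1
      rw [commutatorElement_eq_one_iff_mul_comm]
      exact Subgroup.mem_center_iff.1 (hcen (hker2 y hy)) _))
  have hβk : ∀ t, ((β t : Z) : Γ) ∈ σ.ker := by
    have key : ∀ s : Additive (Abelianization Q₁) ⊗[ℤ] Additive (Abelianization Q₂),
        ((β (Multiplicative.ofAdd s) : Z) : Γ) ∈ σ.ker := by
      intro s
      induction s using TensorProduct.induction_on with
      | zero =>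
        rw [ofAdd_zero, map_one]
        exact Subgroup.one_mem _
      | tmul m n =>
        obtain ⟨x, rfl⟩ := abar_surjective ξ1 hξ1 m
        obtain ⟨y, rfl⟩ := abar_surjective ξ2 hξ2 n
        rw [hβ]
        exact hck x x.2 y y.2
      | add s s' hs hs' =>
        rw [ofAdd_add, map_mul]
        exact Subgroup.mul_mem _ hs hs'
    exact fun t => key (Multiplicative.toAdd t)
  -- the multiplier maps
  obtain ⟨π1, hπ1⟩ := exists_hom_range_eq_of_hasSchurMultiplier hA ξ1 hξ1 hξ1c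
  obtain ⟨π2, hπ2⟩ := exists_hom_range_eq_of_hasSchurMultiplier hB ξ2 hξ2 hξ2c
  have hπ1k : ∀ a, ((π1 a : ↥G1) : Γ) ∈ σ.ker := by
    intro a
    apply hker1
    have : π1 a ∈ π1.range := ⟨a, rfl⟩
    rw [hπ1] at this
    exact this.2
  have hπ2k : ∀ b, ((π2 b : ↥G2) : Γ) ∈ σ.ker := by
    intro b
    apply hker2
    have : π2 b ∈ π2.range := ⟨b, rfl⟩
    rw [hπ2] at this
    exact this.2
  let π1Z : A →* Z := (G1.subtype.comp π1).codRestrict Z (fun a => hcen (hπ1k a))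
  let π2Z : B →* Z := (G2.subtype.comp π2).codRestrict Z (fun b => hcen (hπ2k b))
  let π0 : A × B × Multiplicative
      (Additive (Abelianization Q₁) ⊗[ℤ] Additive (Abelianization Q₂)) →* Z :=
    π1Z.coprod (π2Z.coprod β)
  have hπ0 : ∀ x, ((π0 x : Z) : Γ) =
      ((π1 x.1 : ↥G1) : Γ) * (((π2 x.2.1 : ↥G2) : Γ) * ((β x.2.2 : Z) : Γ)) := fun x => rfl
  refine ⟨(Z.subtype.comp π0).codRestrict σ.ker (fun x => by
    show ((π0 x : Z) : Γ) ∈ σ.ker
    rw [hπ0]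
    exact Subgroup.mul_mem _ (hπ1k _) (Subgroup.mul_mem _ (hπ2k _) (hβk _))), ?_⟩
  -- surjectivity
  let D1 : Subgroup Γ := (commutator ↥G1).map G1.subtype
  let D2 : Subgroup Γ := (commutator ↥G2).map G2.subtype
  let R : Subgroup Γ := (Z.subtype.comp β).range
  haveI hD1 : D1.Normal := by
    show ((commutator ↥G1).map G1.subtype).Normal
    rw [Subgroup.map_subtype_commutator]
    infer_instance
  haveI hD2 : D2.Normal := by
    show ((commutator ↥G2).map G2.subtype).Normal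
    rw [Subgroup.map_subtype_commutator]
    infer_instance
  have hRZ : R ≤ Subgroup.center Γ := by
    rintro _ ⟨t, rfl⟩
    exact (β t).2
  haveI hR : R.Normal := normal_of_le_center R hRZ
  let N : Subgroup Γ := D1 ⊔ D2 ⊔ R
  have hD1N : D1 ≤ N := le_sup_left.trans le_sup_left
  have hD2N : D2 ≤ N := le_sup_right.trans le_sup_left
  have hRN : R ≤ N := le_sup_right
  have hc11 : ∀ x ∈ G1, ∀ y ∈ G1, ⁅x, y⁆ ∈ N := by
    intro x hx y hy
    apply hD1N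
    exact ⟨⁅(⟨x, hx⟩ : ↥G1), ⟨y, hy⟩⁆,
      Subgroup.commutator_mem_commutator (Subgroup.mem_top _) (Subgroup.mem_top _), rfl⟩
  have hc22 : ∀ x ∈ G2, ∀ y ∈ G2, ⁅x, y⁆ ∈ N := by
    intro x hx y hy
    apply hD2N
    exact ⟨⁅(⟨x, hx⟩ : ↥G2), ⟨y, hy⟩⁆,
      Subgroup.commutator_mem_commutator (Subgroup.mem_top _) (Subgroup.mem_top _), rfl⟩
  have hc12 : ∀ x ∈ G1, ∀ y ∈ G2, ⁅x, y⁆ ∈ N := by
    intro x hx y hy
    apply hRN
    refine ⟨Multiplicative.ofAdd (abar ξ1 ⟨x, hx⟩ ⊗ₜ[ℤ] abar ξ2 ⟨y, hy⟩), ?_⟩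
    show ((β _ : Z) : Γ) = _
    rw [hβ]
  have hc21 : ∀ x ∈ G2, ∀ y ∈ G1, ⁅x, y⁆ ∈ N := by
    intro x hx y hy
    rw [← commutatorElement_inv]
    exact Subgroup.inv_mem _ (hc12 y hy x hx)
  have hcommute : ∀ x y : Γ, ⁅x, y⁆ ∈ N →
      Commute (QuotientGroup.mk x : Γ ⧸ N) (QuotientGroup.mk y : Γ ⧸ N) := by
    intro x y hxy
    show (QuotientGroup.mk x : Γ ⧸ N) * QuotientGroup.mk y = QuotientGroup.mk y * QuotientGroup.mk x
    rw [← commutatorElement_eq_one_iff_mul_comm]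
    have : (QuotientGroup.mk' N) ⁅x, y⁆ = 1 := (QuotientGroup.eq_one_iff _).2 hxy
    rw [map_commutatorElement] at this
    exact this
  have hdecomp : ∀ g : Γ, ∃ g1 ∈ G1, ∃ g2 ∈ G2, g = g1 * g2 := by
    intro g
    obtain ⟨g1, hg1⟩ := hsurj ((σ g).1, 1)
    have m1 : g1 ∈ G1 := by
      show p2 g1 = 1
      rw [hp2, hg1]
    have m2 : g1⁻¹ * g ∈ G2 := by
      show p1 (g1⁻¹ * g) = 1
      rw [map_mul, map_inv, hp1, hp1, hg1, inv_mul_cancel]
    exact ⟨g1, m1, g1⁻¹ * g, m2, by group⟩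
  have hab : ∀ a b : Γ ⧸ N, a * b = b * a := by
    intro a b
    obtain ⟨x, rfl⟩ := QuotientGroup.mk_surjective a
    obtain ⟨y, rfl⟩ := QuotientGroup.mk_surjective b
    obtain ⟨x1, hx1, x2, hx2, rfl⟩ := hdecomp x
    obtain ⟨y1, hy1, y2, hy2, rfl⟩ := hdecomp y
    have h11 := hcommute x1 y1 (hc11 x1 hx1 y1 hy1)
    have h12 := hcommute x1 y2 (hc12 x1 hx1 y2 hy2)
    have h21 := hcommute x2 y1 (hc21 x2 hx2 y1 hy1)
    have h22 := hcommute x2 y2 (hc22 x2 hx2 y2 hy2)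
    rw [QuotientGroup.mk_mul, QuotientGroup.mk_mul]
    exact (h11.mul_right h12).mul_left (h21.mul_right h22)
  have hcommN : commutator Γ ≤ N := by
    letI : CommGroup (Γ ⧸ N) := { (inferInstance : Group (Γ ⧸ N)) with mul_comm := hab }
    have := Abelianization.commutator_subset_ker (QuotientGroup.mk' N)
    rwa [QuotientGroup.ker_mk'] at this
  rintro ⟨k, hk⟩
  have hkN : k ∈ N := hcommN (hcomm hk)
  -- decompose
  have hkN' : k ∈ ((D1 ⊔ D2 : Subgroup Γ) : Set Γ) * (R : Set Γ) := by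
    rw [← Subgroup.mul_normal]
    exact hkN
  obtain ⟨d, hd, r, hr, rfl⟩ := hkN'
  have hd' : d ∈ (D1 : Set Γ) * (D2 : Set Γ) := by
    rw [← Subgroup.mul_normal]
    exact hd
  obtain ⟨d1, hd1, d2, hd2, rfl⟩ := hd'
  obtain ⟨x1, hx1, rfl⟩ := hd1
  obtain ⟨x2, hx2, rfl⟩ := hd2
  obtain ⟨t, rfl⟩ := hr
  -- components are in the kernels
  have hrk : (Z.subtype.comp β) t ∈ σ.ker := hβk t
  have hk' : (G1.subtype x1) * (G2.subtype x2) ∈ σ.ker := by
    have := Subgroup.mul_mem _ hk (Subgroup.inv_mem _ hrk)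
    rwa [mul_inv_cancel_right] at this
  have hk12 := (hkerσ _).1 hk'
  rw [map_mul, map_mul] at hk12
  have e1 : p2 (G1.subtype x1) = 1 := x1.2
  have e2 : p1 (G2.subtype x2) = 1 := x2.2
  rw [e1, e2, one_mul, mul_one] at hk12
  have m1 : x1 ∈ π1.range := by
    rw [hπ1]; exact ⟨hx1, hk12.1⟩
  have m2 : x2 ∈ π2.range := by
    rw [hπ2]; exact ⟨hx2, hk12.2⟩
  obtain ⟨a, ha⟩ := m1
  obtain ⟨b, hb⟩ := m2
  refine ⟨(a, b, t), ?_⟩
  apply Subtype.ext
  show ((π0 (a, b, t) : Z) : Γ) = _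
  rw [hπ0, ha, hb]
  exact (mul_assoc _ _ _).symm

/-- Let `Q₁` and `Q₂` be finite groups with Schur multipliers `A` and `B`. Then the Schur multiplier of `Q₁ × Q₂` is isomorphic to `A × B × (Q₁ᵃᵇ ⊗ Q₂ᵃᵇ)`, the last factor being the tensor product over the integers of the commutator quotients, written multiplicatively. -/
theorem result {Q₁ : Type u} {Q₂ : Type v} [Group Q₁] [Group Q₂] [Finite Q₁] [Finite Q₂] {A B : Type w} [CommGroup A] [CommGroup B] (hA : Cfsg.HasSchurMultiplier Q₁ A) (hB : Cfsg.HasSchurMultiplier Q₂ B) : Cfsg.HasSchurMultiplier (Q₁ × Q₂) (A × B × Multiplicative (TensorProduct ℤ (Additive (Abelianization Q₁)) (Additive (Abelianization Q₂)))) := by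
  refine ⟨?_, ?_⟩
  · obtain ⟨⟨Γ₁, _, _, σ₁, hσ₁, ⟨eA⟩⟩, _⟩ := hA
    obtain ⟨⟨Γ₂, _, _, σ₂, hσ₂, ⟨eB⟩⟩, _⟩ := hB
    refine ⟨KProd σ₁ σ₂, inferInstance, inferInstance, KProd.proj, KProd.proj_isStem hσ₁ hσ₂, ⟨?_⟩⟩
    exact KProd.kerEquiv.trans (MulEquiv.prodCongr eA (MulEquiv.prodCongr eB (MulEquiv.refl _)))
  · intro Γ _ _ σ hσ
    exact second_half hA hB Γ σ hσ

end Cfsg.Agent.S3959
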