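import Mathlib
import Cfsg.Statements.S3960
import Cfsg.Agent.Lib.Helper66.UCE

set_option autoImplicit false
open Cfsg

namespace Cfsg.Agent.S3960

open Cfsg.Agent.Lib.Helper66

universe u

/-- A finite perfect group `Q` has a universal central extension: a finite perfect group `G` in the universe of `Q` and a surjective homomorphism `π : G →* Q` with central kernel such that for every group `X` in that universe and every surjective homomorphism `ξ : X →* Q` with central kernel there is exactly one homomorphism `η : G →* X` with `ξ ∘ η = π`. -/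
theorem result {Q : Type u} [Group Q] [Finite Q] (hQ : Group.IsPerfect Q) : ∃ (G : Type u) (_ : Group G) (_ : Finite G) (π : G →* Q), Group.IsPerfect G ∧ Function.Surjective π ∧ π.ker ≤ Subgroup.center G ∧ ∀ (X : Type u) [Group X] (ξ : X →* Q), Function.Surjective ξ → ξ.ker ≤ Subgroup.center X → ∃! η : G →* X, ξ.comp η = π := by
  -- the free presentation
  let ρ : FreeGroup Q →* Q := FreeGroup.lift id
  have hρ : Function.Surjective ρ := fun q => ⟨FreeGroup.of q, by simp [ρ]⟩
  have hsurj := uceMap_surjective ρ hρ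
  have hcen := uceMap_ker_le_center ρ
  haveI hfin : Finite ↥(commutator (FreeGroup Q ⧸ uceK ρ)) := finite_commutator_of_central (uceMap ρ) hcen
  haveI hperf : Group.IsPerfect ↥(commutator (FreeGroup Q ⧸ uceK ρ)) :=
    isPerfect_commutator_of_central (uceMap ρ) hsurj hcen
  refine ⟨↥(commutator (FreeGroup Q ⧸ uceK ρ)), inferInstance, hfin,
    (uceMap ρ).comp (commutator (FreeGroup Q ⧸ uceK ρ)).subtype, hperf,
    commutator_restrict_surjective (uceMap ρ) hsurj,
    commutator_restrict_ker_le_center (uceMap ρ) hcen, ?_⟩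
  intro X _ ξ hξ hξc
  -- existence
  let φ : FreeGroup Q →* X := FreeGroup.lift (Function.surjInv hξ)
  have hφ : ξ.comp φ = ρ := by
    ext q
    simp [φ, ρ, Function.surjInv_eq hξ]
  obtain ⟨φ', hφ'⟩ := uceLift ρ ξ hξc φ hφ
  refine ⟨φ'.comp (commutator (FreeGroup Q ⧸ uceK ρ)).subtype, ?_, ?_⟩
  · show ξ.comp (φ'.comp _) = _
    rw [← MonoidHom.comp_assoc, hφ']
  · intro η hη
    apply hom_eq_of_perfect
    intro g
    apply hξc
    rw [MonoidHom.mem_ker, map_mul, map_inv]
    have h1 : ξ (η g) = (uceMap ρ) (g : FreeGroup Q ⧸ uceK ρ) := by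
      have := congrArg (fun f : ↥(commutator (FreeGroup Q ⧸ uceK ρ)) →* Q => f g) hη
      exact this
    have h2 : ξ ((φ'.comp (commutator (FreeGroup Q ⧸ uceK ρ)).subtype) g) =
        (uceMap ρ) (g : FreeGroup Q ⧸ uceK ρ) := by
      have := congrArg (fun f : (FreeGroup Q ⧸ uceK ρ) →* Q => f (g : FreeGroup Q ⧸ uceK ρ)) hφ'
      exact this
    rw [h1, h2, inv_mul_cancel]

end Cfsg.Agent.S3960
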