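import Mathlib
import Cfsg.Statements.S3961
import Cfsg.Agent.Lib.Helper66.UCE
import Cfsg.Agent.Lib.Helper66.SchurBasic

set_option autoImplicit false
open Cfsg

namespace Cfsg.Agent.S3961

open Cfsg.Agent.Lib.Helper66

universe u v

theorem forward {G : Type u} {Q : Type v} [Group G] [Group Q] [Finite G] (hG : Group.IsPerfect G)
    (π : G →* Q) (hπ : Function.Surjective π) (hker : π.ker ≤ Subgroup.center G)
    (huniv : ∀ (X : Type u) [Group X] (ξ : X →* Q), Function.Surjective ξ →
      ξ.ker ≤ Subgroup.center X → ∃ η : G →* X, ξ.comp η = π) :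
    Cfsg.HasCyclicSchurMultiplier G 1 := by
  apply hasCyclicSchurMultiplier_one_of
  intro Γ _ _ σ hσ
  haveI : Group.IsPerfect Γ := isPerfect_of_isStemExtension σ hσ
  have hξc : (π.comp σ).ker ≤ Subgroup.center Γ :=
    ker_comp_le_center_of_perfect σ hσ.2.1 π hker
  obtain ⟨η, hη⟩ := huniv Γ (π.comp σ) (hπ.comp hσ.1) hξc
  have key : η.comp σ = MonoidHom.id Γ := by
    apply hom_eq_of_perfect
    intro g
    apply hξc
    rw [MonoidHom.mem_ker, map_mul, map_inv]
    have h1 : (π.comp σ) (η (σ g)) = π (σ g) :=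
      congrArg (fun f : G →* Q => f (σ g)) hη
    show ((π.comp σ) g)⁻¹ * (π.comp σ) (η (σ g)) = 1
    rw [h1]
    show (π (σ g))⁻¹ * π (σ g) = 1
    exact inv_mul_cancel _
  rw [Subgroup.eq_bot_iff_forall]
  intro x hx
  have h2 : η (σ x) = x := congrArg (fun f : Γ →* Γ => f x) key
  rw [MonoidHom.mem_ker.1 hx, map_one] at h2
  exact h2.symm

theorem backward {G : Type u} {Q : Type v} [Group G] [Group Q] [Finite G] (hG : Group.IsPerfect G)
    (π : G →* Q) (hmult : Cfsg.HasCyclicSchurMultiplier G 1)
    (X : Type u) [Group X] (ξ : X →* Q) (hξ : Function.Surjective ξ)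
    (hξc : ξ.ker ≤ Subgroup.center X) : ∃ η : G →* X, ξ.comp η = π := by
  let P : Subgroup (G × X) := (π.comp (MonoidHom.fst G X)).eqLocus (ξ.comp (MonoidHom.snd G X))
  have hP : ∀ a : ↥P, π (a : G × X).1 = ξ (a : G × X).2 := fun a => a.2
  let pr : ↥P →* G := (MonoidHom.fst G X).comp P.subtype
  have hpr : Function.Surjective pr := fun g => by
    obtain ⟨x, hx⟩ := hξ (π g)
    exact ⟨⟨(g, x), hx.symm⟩, rfl⟩
  have hprc : pr.ker ≤ Subgroup.center ↥P := by
    intro a ha
    have ha1 : (a : G × X).1 = 1 := ha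
    have ha2 : (a : G × X).2 ∈ Subgroup.center X := by
      apply hξc
      rw [MonoidHom.mem_ker, ← hP a, ha1, map_one]
    rw [Subgroup.mem_center_iff]
    intro b
    apply Subtype.ext
    apply Prod.ext
    · show (b : G × X).1 * (a : G × X).1 = (a : G × X).1 * (b : G × X).1
      rw [ha1, one_mul, mul_one]
    · show (b : G × X).2 * (a : G × X).2 = (a : G × X).2 * (b : G × X).2
      exact Subgroup.mem_center_iff.1 ha2 _
  haveI hfin : Finite ↥(commutator ↥P) := finite_commutator_of_central pr hprc
  haveI hperf : Group.IsPerfect ↥(commutator ↥P) := isPerfect_commutator_of_central pr hpr hprc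
  have hσs := commutator_restrict_surjective pr hpr
  have hσc := commutator_restrict_ker_le_center pr hprc
  have hstem : Cfsg.IsStemExtension (pr.comp (commutator ↥P).subtype) :=
    ⟨hσs, hσc, by rw [hperf.commutator_eq_top]; exact le_top⟩
  have hbot := ker_eq_bot_of_hasCyclicSchurMultiplier_one hmult _ _ hstem
  have hinj : Function.Injective (pr.comp (commutator ↥P).subtype) :=
    (MonoidHom.ker_eq_bot_iff _).1 hbot
  let e : ↥(commutator ↥P) ≃* G := MulEquiv.ofBijective (pr.comp (commutator ↥P).subtype) ⟨hinj, hσs⟩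
  refine ⟨((MonoidHom.snd G X).comp (P.subtype.comp (commutator ↥P).subtype)).comp
    e.symm.toMonoidHom, ?_⟩
  ext g
  show ξ (((e.symm g : ↥(commutator ↥P)) : ↥P) : G × X).2 = π g
  rw [← hP]
  have : (pr.comp (commutator ↥P).subtype) (e.symm g) = g := e.apply_symm_apply g
  exact congrArg π this

/-- Let `π : G →* Q` be a surjective homomorphism with central kernel from a finite perfect group `G` (a perfect cover of `Q`). Then `π` is universal, in the sense that every surjective homomorphism `ξ : X →* Q` with central kernel from a group `X` in the universe of `G` admits a homomorphism `η : G →* X` with `ξ ∘ η = π`, if and only if `G` has trivial Schur multiplier. -/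
theorem result {G : Type u} {Q : Type v} [Group G] [Group Q] [Finite G] (hG : Group.IsPerfect G) (π : G →* Q) (hπ : Function.Surjective π) (hker : π.ker ≤ Subgroup.center G) : (∀ (X : Type u) [Group X] (ξ : X →* Q), Function.Surjective ξ → ξ.ker ≤ Subgroup.center X → ∃ η : G →* X, ξ.comp η = π) ↔ Cfsg.HasCyclicSchurMultiplier G 1 := by
  constructor
  · intro huniv
    exact forward hG π hπ hker huniv
  · intro hmult X _ ξ hξ hξc
    exact backward hG π hmult X ξ hξ hξc

end Cfsg.Agent.S3961
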