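import Mathlib
import Cfsg.Statements.S3964
import Cfsg.Agent.Lib.Helper66.DihedralGen

set_option autoImplicit false
open Cfsg

namespace Cfsg.Agent.S3964

open Cfsg.Agent.Lib.Helper66

/-- For odd `n` the dihedral group of order `2 n` has trivial Schur multiplier. -/
theorem result (n : ℕ) (hn : Odd n) : Cfsg.HasCyclicSchurMultiplier (DihedralGroup n) 1 := by
  haveI : NeZero n := ⟨by rintro rfl; simp at hn⟩
  apply hasCyclicSchurMultiplier_one_of
  intro Γ _ _ σ hσ
  obtain ⟨c, hcn, hker⟩ := stem_dihedralLike σ hσ (DihedralGroup.r 1) (DihedralGroup.sr 0)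
    (dihedral_closure n) (dihedral_rel n) n (dihedral_pow_mem n)
  rw [Subgroup.eq_bot_iff_forall]
  intro w hw
  obtain ⟨k, rfl, -, hak⟩ := hker w hw
  rw [← orderOf_dvd_iff_zpow_eq_one, DihedralGroup.orderOf_r_one] at hak
  have hcop : IsCoprime (n : ℤ) 2 := by
    rw [Int.isCoprime_iff_gcd_eq_one]
    have : Nat.Coprime n 2 := (Nat.coprime_two_right).2 hn
    simpa [Int.gcd] using this
  obtain ⟨m, rfl⟩ := hcop.dvd_of_dvd_mul_left hak
  rw [zpow_mul, zpow_natCast, hcn, one_zpow]

end Cfsg.Agent.S3964
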