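import Mathlib
import Cfsg.Statements.S3965
import Cfsg.Agent.Lib.Helper66.DihedralGen

set_option autoImplicit false
open Cfsg

namespace Cfsg.Agent.S3965

open Cfsg.Agent.Lib.Helper66

/-- For even `n ≥ 2` the dihedral group of order `2 n` has Schur multiplier cyclic of order `2`. -/
theorem result (n : ℕ) [NeZero n] (hn : Even n) : Cfsg.HasCyclicSchurMultiplier (DihedralGroup n) 2 := by
  refine ⟨⟨QuaternionGroup n, inferInstance, inferInstance, quatToDihedral n,
    quatToDihedral_isStem n hn, ?_⟩, ?_⟩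
  · have hcard := card_ker_quatToDihedral n
    haveI : Fact (Nat.Prime 2) := ⟨Nat.prime_two⟩
    have hcyc : IsCyclic (quatToDihedral n).ker := isCyclic_of_prime_card hcard
    have e := zmodCyclicMulEquiv hcyc
    rw [hcard] at e
    exact ⟨e.symm⟩
  · intro Γ _ _ σ hσ
    obtain ⟨c, hcn, hker⟩ := stem_dihedralLike σ hσ (DihedralGroup.r 1) (DihedralGroup.sr 0)
      (dihedral_closure n) (dihedral_rel n) n (dihedral_pow_mem n)
    obtain ⟨m, hm⟩ := hn
    -- the kernel lies in zpowers (c ^ m)
    have hle : σ.ker ≤ Subgroup.zpowers (c ^ m) := by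
      intro w hw
      obtain ⟨k, rfl, -, hak⟩ := hker w hw
      rw [← orderOf_dvd_iff_zpow_eq_one, DihedralGroup.orderOf_r_one] at hak
      have h2 : (m : ℤ) ∣ k := by
        rw [hm] at hak
        push_cast at hak
        rw [← two_mul] at hak
        exact (mul_dvd_mul_iff_left (by norm_num : (2 : ℤ) ≠ 0)).1 hak
      obtain ⟨l, rfl⟩ := h2
      refine ⟨l, ?_⟩
      show (c ^ m) ^ l = _
      rw [zpow_mul, zpow_natCast]
    haveI : IsCyclic σ.ker := Subgroup.isCyclic_of_le hle
    apply exists_surjective_zmod_of_isCyclic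
    intro h
    obtain ⟨l, hl⟩ := hle h.2
    apply Subtype.ext
    rw [Subgroup.coe_pow, Subgroup.coe_one, ← hl]
    show ((c ^ m) ^ l) ^ 2 = 1
    rw [← zpow_natCast, ← zpow_mul, mul_comm, zpow_mul, zpow_natCast, ← pow_mul, ← two_mul] at *
    rw [show m * 2 = n by omega, hcn, one_zpow]

end Cfsg.Agent.S3965
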