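import Cfsg.Statements.S3968
import Cfsg.Agent.Lib.Helper79.Integrality
import Cfsg.Agent.Lib.Helper77.Center
import Cfsg.Agent.Lib.Helper77.Linear
import Cfsg.Agent.Lib.Helper78.CharMore

set_option autoImplicit false
open Cfsg

namespace Cfsg.Agent.S3968

open Cfsg.Agent.Lib.Helper78 Cfsg.Agent.Lib.Helper77 Cfsg.Agent.Lib.Helper79
open scoped commutatorElement ComplexConjugate

section

variable {G : Type*} [Group G] [Finite G]

/-- For a faithful irreducible representation, `‖χ(z)‖ = χ(1)` forces `z` central. -/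
theorem mem_center_of_norm_eq {V : Type*} [AddCommGroup V] [Module ℂ V] [FiniteDimensional ℂ V]
    (ρ : Representation ℂ G V) [ρ.IsIrreducible]
    (hfaith : ∀ g : G, ρ.character g = ρ.character 1 → g = 1) (z : G)
    (hz : ‖ρ.character z‖ = (Module.finrank ℂ V : ℝ)) : z ∈ Subgroup.center G := by
  have h1 : z ∈ repCenter ρ := (mem_repCenter_iff_norm ρ z).mpr hz
  rw [mem_repCenter_iff_commutator] at h1
  have hker : ∀ g : G, g ∈ MonoidHom.ker ρ → g = 1 := by
    intro g hg
    apply hfaith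
    have hg' : ρ g = 1 := MonoidHom.mem_ker.mp hg
    show LinearMap.trace ℂ V (ρ g) = LinearMap.trace ℂ V (ρ 1)
    rw [hg', map_one ρ]
  rw [Subgroup.mem_center_iff]
  intro g
  have h2 := hker _ (h1 g)
  rw [commutatorElement_def] at h2
  have : z * g = g * z := by
    calc z * g = (z * g * z⁻¹ * g⁻¹) * (g * z) := by group
      _ = g * z := by rw [h2, one_mul]
  exact this.symm

/-- A central element of a group acts with `‖ψ(z)‖ = ψ(1)` in every irreducible character. -/
theorem norm_irr_of_mem_center (ψ : Cfsg.IrrCharacter G) (z : G) (hz : z ∈ Subgroup.center G)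
    (d : ℕ) (hd : (ψ : G → ℂ) 1 = d) : ‖(ψ : G → ℂ) z‖ = (d : ℝ) := by
  obtain ⟨n, ρ, hirr, hρ⟩ := ψ.2
  have : ρ.IsIrreducible := hirr
  have h1 : z ∈ repCenter ρ := by
    rw [mem_repCenter_iff_comm]
    intro h
    rw [← map_mul, ← map_mul, (Subgroup.mem_center_iff.mp hz h)]
  rw [mem_repCenter_iff_norm] at h1
  rw [← hρ, h1]
  have h2 : ρ.character 1 = (d : ℂ) := by rw [hρ]; exact hd
  rw [Representation.char_one] at h2
  have h3 : Module.finrank ℂ (Fin n → ℂ) = d := by exact_mod_cast h2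
  rw [h3]

/-- degrees of irreducible characters of a group of order `p^a` are `1` or divisible by `p`. -/
theorem irr_degree_pgroup (p a : ℕ) (hp : p.Prime) (hcard : Nat.card G = p ^ a)
    (ψ : Cfsg.IrrCharacter G) : ∃ d : ℕ, (ψ : G → ℂ) 1 = d ∧ d ≠ 0 ∧ (d = 1 ∨ p ∣ d) := by
  obtain ⟨n, ρ, hirr, hρ⟩ := ψ.2
  have : ρ.IsIrreducible := hirr
  have h1 := finrank_dvd_card ρ
  have h0 := finrank_ne_zero_of_irreducible ρ
  refine ⟨Module.finrank ℂ (Fin n → ℂ), ?_, h0, ?_⟩
  · rw [← hρ, Representation.char_one]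
  · rw [hcard] at h1
    obtain ⟨j, -, hj⟩ := (Nat.dvd_prime_pow hp).mp h1
    rcases Nat.eq_zero_or_pos j with h | h
    · left; rw [hj, h, pow_zero]
    · right; rw [hj]; exact dvd_pow_self p h.ne'

/-- A faithful character of degree `p` of a group of order `p^a`, `a ≥ 2`, does not vanish at
some non-identity central element. -/
theorem exists_center_ne_zero (p a : ℕ) (hp : p.Prime) (hcard : Nat.card G = p ^ a)
    (ha : 2 ≤ a) (φ : G → ℂ) (hφ : Cfsg.IsCharacter G φ) (hdeg : φ 1 = p)
    (hfaith : ∀ x : G, φ x = φ 1 → x = 1) :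
    ∃ z ∈ Subgroup.center G, z ≠ 1 ∧ φ z ≠ 0 := by
  classical
  by_contra hcon
  push Not at hcon
  have : Fintype G := Fintype.ofFinite G
  have : Fact p.Prime := ⟨hp⟩
  have hPG : IsPGroup p G := IsPGroup.of_card hcard
  have hnt : Nontrivial G := by
    rw [← Finite.one_lt_card_iff_nontrivial, hcard]
    exact Nat.one_lt_pow (by omega) hp.one_lt
  obtain ⟨m, hm⟩ := (isCharacter_iff_exists_nat_combination φ).mp hφ
  choose d hd hd0 hd1 using irr_degree_pgroup p a hp hcard
  have hval : ∀ x : G, φ x = ∑ ψ : Cfsg.IrrCharacter G, (m ψ : ℂ) * (ψ : G → ℂ) x := by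
    intro x
    have := congrFun hm x
    simpa [Finset.sum_apply] using this
  have hsum : ∑ ψ : Cfsg.IrrCharacter G, m ψ * d ψ = p := by
    have h1 := hval 1
    rw [hdeg] at h1
    have h2 : ((∑ ψ : Cfsg.IrrCharacter G, m ψ * d ψ : ℕ) : ℂ) = (p : ℂ) := by
      rw [h1]
      push_cast
      exact Finset.sum_congr rfl fun ψ _ => by rw [hd ψ]
    exact_mod_cast h2
  -- a nontrivial central element
  have hcen : Nontrivial (Subgroup.center G) := hPG.center_nontrivial
  obtain ⟨⟨z₀, hz₀⟩, hz₀1⟩ := exists_ne (1 : Subgroup.center G)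
  have hz₀1' : z₀ ≠ 1 := fun h => hz₀1 (Subtype.ext h)
  by_cases hA : ∃ ψ₀, m ψ₀ ≠ 0 ∧ d ψ₀ ≠ 1
  · obtain ⟨ψ₀, hm0, hd0'⟩ := hA
    have hpd : p ∣ d ψ₀ := (hd1 ψ₀).resolve_left hd0'
    have hle : p ≤ d ψ₀ := Nat.le_of_dvd (Nat.pos_of_ne_zero (hd0 ψ₀)) hpd
    have hsplit := Finset.add_sum_erase Finset.univ (fun ψ => m ψ * d ψ) (Finset.mem_univ ψ₀)
    rw [hsum] at hsplit
    have hm1 : 1 ≤ m ψ₀ := Nat.pos_of_ne_zero hm0
    have hge : p ≤ m ψ₀ * d ψ₀ := by nlinarith
    have hrest : ∑ ψ ∈ Finset.univ.erase ψ₀, m ψ * d ψ = 0 := by omega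
    have hmd : m ψ₀ * d ψ₀ = p := by omega
    have hm1' : m ψ₀ = 1 := by
      by_contra h
      have : 2 ≤ m ψ₀ := by omega
      have hppos := hp.pos
      nlinarith
    have hzero : ∀ ψ, ψ ≠ ψ₀ → m ψ = 0 := by
      intro ψ hψ
      have := (Finset.sum_eq_zero_iff.mp hrest) ψ (Finset.mem_erase.mpr ⟨hψ, Finset.mem_univ ψ⟩)
      rcases Nat.mul_eq_zero.mp this with h | h
      · exact h
      · exact absurd h (hd0 ψ)
    have hφz : φ z₀ = (ψ₀ : G → ℂ) z₀ := by
      rw [hval z₀, Finset.sum_eq_single ψ₀]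
      · rw [hm1']; simp
      · intro ψ _ hψ
        rw [hzero ψ hψ]; simp
      · intro h; exact absurd (Finset.mem_univ ψ₀) h
    have hnorm := norm_irr_of_mem_center ψ₀ z₀ hz₀ (d ψ₀) (hd ψ₀)
    have h0 := hcon z₀ hz₀ hz₀1'
    rw [hφz] at h0
    rw [h0, norm_zero] at hnorm
    have : (d ψ₀ : ℝ) ≠ 0 := by exact_mod_cast hd0 ψ₀
    exact this hnorm.symm
  · push Not at hA
    -- all constituents are linear, so `G` is abelian
    have hcomm : ∀ x y : G, x * y = y * x := by
      intro x y
      have hc : ⁅x, y⁆ ∈ commutator G := Subgroup.commutator_mem_commutator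
        (Subgroup.mem_top x) (Subgroup.mem_top y)
      have h1 : φ ⁅x, y⁆ = φ 1 := by
        rw [hval, hval]
        refine Finset.sum_congr rfl fun ψ _ => ?_
        by_cases hmψ : m ψ = 0
        · rw [hmψ]; simp
        · have hdψ : d ψ = 1 := hA ψ hmψ
          have hψ1 : (ψ : G → ℂ) 1 = 1 := by rw [hd ψ, hdψ]; simp
          rw [linear_character_eq_one_of_mem_commutator ψ hψ1 _ hc, hψ1]
      have h2 := hfaith _ h1
      rw [commutatorElement_def] at h2
      calc x * y = (x * y * x⁻¹ * y⁻¹) * (y * x) := by group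
        _ = y * x := by rw [h2, one_mul]
    have hvan : ∀ x : G, x ≠ 1 → φ x = 0 := by
      intro x hx
      apply hcon x _ hx
      rw [Subgroup.mem_center_iff]
      intro g; exact hcomm g x
    -- inner product with the trivial character
    obtain ⟨n, hn⟩ := IsCharacter.exists_nat_classInner hφ
      (⟨fun _ => 1, isIrrCharacter_one⟩ : Cfsg.IrrCharacter G)
    unfold Cfsg.classInner at hn
    have hs : ∑ g : G, φ g * conj ((fun _ : G => (1 : ℂ)) g) = (p : ℂ) := by
      rw [Finset.sum_eq_single (1 : G)]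
      · simp [hdeg]
      · intro x _ hx
        rw [hvan x hx, zero_mul]
      · intro h; exact absurd (Finset.mem_univ (1 : G)) h
    simp only at hn
    rw [hs, hcard] at hn
    have hpa : ((p ^ a : ℕ) : ℂ) ≠ 0 := by exact_mod_cast (pow_pos hp.pos a).ne'
    have h3 : (p : ℂ) = (n : ℂ) * ((p ^ a : ℕ) : ℂ) := by
      rw [← hn]; field_simp
    have h4 : p = n * p ^ a := by exact_mod_cast h3
    have hn0 : n ≠ 0 := by
      rintro rfl
      rw [zero_mul] at h4
      exact hp.ne_zero h4
    have h5 : p ^ 2 ≤ p ^ a := Nat.pow_le_pow_right hp.pos ha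
    have h6 : p < p ^ 2 := by
      have := hp.one_lt
      nlinarith
    have h7 : p ^ a ≤ n * p ^ a := Nat.le_mul_of_pos_left _ (Nat.pos_of_ne_zero hn0)
    omega

end

/-- Let `p` be a prime and `G` a finite group with a faithful irreducible complex character of degree `p` (so `G` is an irreducible linear group in `p` variables). If `p ^ 2` divides the order of `G`, then the centre of `G` is nontrivial. -/
theorem result {G : Type*} [Group G] [Finite G] (p : ℕ) (hp : p.Prime) (χ : Cfsg.IrrCharacter G) (hdeg : χ.1 1 = p) (hfaith : ∀ g : G, χ.1 g = χ.1 1 → g = 1) (hdiv : p ^ 2 ∣ Nat.card G) : Subgroup.center G ≠ ⊥ := by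
  classical
  have hfp : Fact p.Prime := ⟨hp⟩
  obtain ⟨n, ρ, hirr, hρ⟩ := χ.2
  have : ρ.IsIrreducible := hirr
  have hfr : Module.finrank ℂ (Fin n → ℂ) = p := by
    have h1 : ρ.character 1 = (p : ℂ) := by rw [hρ]; exact hdeg
    rw [Representation.char_one] at h1
    exact_mod_cast h1
  have hfaith' : ∀ g : G, ρ.character g = ρ.character 1 → g = 1 := by
    intro g hg
    rw [hρ] at hg
    exact hfaith g hg
  obtain ⟨P⟩ : Nonempty (Sylow p G) := inferInstance
  have hcardP : Nat.card (P : Subgroup G) = p ^ (Nat.card G).factorization p :=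
    P.card_eq_multiplicity
  have ha : 2 ≤ (Nat.card G).factorization p :=
    (hp.pow_dvd_iff_le_factorization Nat.card_pos.ne').mp hdiv
  -- the restricted character
  have hφ : Cfsg.IsCharacter (P : Subgroup G) (fun x : (P : Subgroup G) => χ.1 (x : G)) :=
    ⟨n, resRep ρ (P : Subgroup G), by
      funext x
      rw [resRep_character, hρ]⟩
  obtain ⟨z, hzc, hz1, hz0⟩ := exists_center_ne_zero p _ hp hcardP ha _ hφ (by simpa using hdeg)
    (by
      intro x hx
      have := hfaith (x : G) (by simpa using hx)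
      exact Subtype.ext this)
  -- class size of `z` is prime to `p`
  have hPle : (P : Subgroup G) ≤ Subgroup.centralizer ({(z : G)} : Set G) := by
    intro x hx
    rw [Subgroup.mem_centralizer_iff]
    intro y hy
    rw [Set.mem_singleton_iff] at hy
    subst hy
    have := Subgroup.mem_center_iff.mp hzc ⟨x, hx⟩
    have h2 := congrArg (fun t : (P : Subgroup G) => (t : G)) this
    simpa using h2.symm
  have hidx : ¬ p ∣ (Subgroup.centralizer ({(z : G)} : Set G)).index := fun h =>
    P.not_dvd_index (h.trans (Subgroup.index_dvd_of_le hPle))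
  have hcop : Nat.Coprime (Module.finrank ℂ (Fin n → ℂ))
      (Subgroup.centralizer ({(z : G)} : Set G)).index := by
    rw [hfr]; exact (Nat.Prime.coprime_iff_not_dvd hp).mpr hidx
  rcases burnside_coprime ρ (z : G) hcop with h | h
  · exact absurd (by rw [← hρ]; exact h) hz0
  · have hzG : (z : G) ∈ Subgroup.center G := mem_center_of_norm_eq ρ hfaith' (z : G) h
    intro hbot
    rw [hbot, Subgroup.mem_bot] at hzG
    exact hz1 (Subtype.ext hzG)

end Cfsg.Agent.S3968
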