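import Mathlib
import Cfsg.Statements.S3985
import Cfsg.Agent.S3986

set_option autoImplicit false
open Cfsg

namespace Cfsg.Agent.S3985

open scoped Pointwise

/-- In a finite cyclic group, an element killed by the prime `p` is a power of any nontrivial
element of `p`-power order. -/
theorem mem_zpowers_of_pow_prime_eq_one {C : Type*} [Group C] [Finite C] [IsCyclic C] (p : ℕ)
    [hp : Fact p.Prime] (x z : C) (hx : x ≠ 1) (hxp : ∃ k, orderOf x = p ^ k) (hz : z ^ p = 1) :
    z ∈ Subgroup.zpowers x := by
  classical
  have : Fintype C := Fintype.ofFinite C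
  obtain ⟨k, hk⟩ := hxp
  have hk0 : k ≠ 0 := by
    rintro rfl
    rw [pow_zero, orderOf_eq_one_iff] at hk
    exact hx hk
  obtain ⟨j, rfl⟩ := Nat.exists_eq_succ_of_ne_zero hk0
  set w := x ^ (p ^ j) with hw
  have hwo : orderOf w = p := by
    rw [hw, orderOf_pow' x (pow_ne_zero j hp.out.ne_zero), hk]
    rw [Nat.gcd_eq_right (pow_dvd_pow p (Nat.le_succ j)), pow_succ]
    exact Nat.mul_div_cancel_left _ (pow_pos hp.out.pos j)
  let S : Set C := {a | a ^ p = 1}
  have hsub : ((Subgroup.zpowers w : Subgroup C) : Set C) ⊆ S := by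
    intro a ha
    obtain ⟨i, rfl⟩ := ha
    show (w ^ i) ^ p = 1
    rw [← zpow_natCast, ← zpow_mul, mul_comm, zpow_mul, zpow_natCast, ← hwo, pow_orderOf_eq_one,
      one_zpow]
  have hcardS : S.ncard ≤ p := by
    have h1 := IsCyclic.card_pow_eq_one_le (α := C) hp.out.pos
    have h2 : S.ncard = (Finset.univ.filter (fun a : C => a ^ p = 1)).card := by
      rw [← Set.ncard_coe_finset]
      congr 1
      ext a
      simp [S]
    rw [h2]; exact h1
  have hcardW : ((Subgroup.zpowers w : Subgroup C) : Set C).ncard = p := by
    rw [← Nat.card_coe_set_eq]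
    show Nat.card (Subgroup.zpowers w) = p
    rw [Nat.card_zpowers, hwo]
  have heq : ((Subgroup.zpowers w : Subgroup C) : Set C) = S := by
    apply Set.eq_of_subset_of_ncard_le hsub
    rw [hcardW]; exact hcardS
  have hzS : z ∈ S := hz
  rw [← heq] at hzS
  have hle : Subgroup.zpowers w ≤ Subgroup.zpowers x := by
    rw [Subgroup.zpowers_le]
    exact Subgroup.pow_mem _ (Subgroup.mem_zpowers x) _
  exact hle hzS

/-- Coprime action on an abelian `p`-group: an element of order prime to `p` normalising `P` and
centralising all elements of `P` killed by `p` centralises `P`. -/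
theorem centralizes_of_centralizes_omega {G : Type*} [Group G] [Finite G] (p : ℕ) [hp : Fact p.Prime]
    (P : Subgroup G) (hP : IsPGroup p P) (hab : ∀ a ∈ P, ∀ b ∈ P, a * b = b * a) (h : G)
    (hnorm : ∀ y ∈ P, h * y * h⁻¹ ∈ P) (hcop : (orderOf h).Coprime p)
    (hΩ : ∀ z ∈ P, z ^ p = 1 → h * z * h⁻¹ = z) : ∀ y ∈ P, h * y * h⁻¹ = y := by
  have key : ∀ k : ℕ, ∀ y ∈ P, y ^ (p ^ k) = 1 → h * y * h⁻¹ = y := by
    intro k
    induction k with
    | zero =>
      intro y _ hy
      rw [pow_zero, pow_one] at hy
      rw [hy]; group
    | succ k ih =>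
      intro y hyP hy
      have hyp : h * y ^ p * h⁻¹ = y ^ p := by
        apply ih _ (Subgroup.pow_mem _ hyP _)
        rw [← pow_mul, ← pow_succ']; exact hy
      set y' := h * y * h⁻¹ with hy'
      have hy'P : y' ∈ P := hnorm y hyP
      set z := y⁻¹ * y' with hzdef
      have hzP : z ∈ P := Subgroup.mul_mem _ (Subgroup.inv_mem _ hyP) hy'P
      have hcomm : Commute y⁻¹ y' := hab _ (Subgroup.inv_mem _ hyP) _ hy'P
      have hy'p : y' ^ p = y ^ p := by
        rw [hy', conj_pow]; exact hyp
      have hzp : z ^ p = 1 := by
        rw [hzdef, hcomm.mul_pow, hy'p, inv_pow, inv_mul_cancel]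
      have hzfix : h * z * h⁻¹ = z := hΩ z hzP hzp
      have hyz : y' = y * z := by rw [hzdef]; group
      -- iterate
      have hiter : ∀ i : ℕ, h ^ i * y * (h ^ i)⁻¹ = y * z ^ i := by
        intro i
        induction i with
        | zero => simp
        | succ i ihi =>
          have : h ^ (i + 1) * y * (h ^ (i + 1))⁻¹ = h * (h ^ i * y * (h ^ i)⁻¹) * h⁻¹ := by
            rw [pow_succ']; group
          rw [this, ihi]
          have h2 : h * (y * z ^ i) * h⁻¹ = (h * y * h⁻¹) * (h * z * h⁻¹) ^ i := by
            rw [conj_pow]; group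
          rw [h2, hzfix, ← hy', hyz, pow_succ', mul_assoc]
      have h3 := hiter (orderOf h)
      rw [pow_orderOf_eq_one] at h3
      have h4 : z ^ orderOf h = 1 := by
        have : y = y * z ^ orderOf h := by simpa using h3
        exact (mul_eq_left.1 this.symm)
      have h5 := pow_gcd_eq_one.2 ⟨h4, hzp⟩
      rw [Nat.Coprime.gcd_eq_one hcop, pow_one] at h5
      rw [hyz, h5, mul_one]
  intro y hy
  obtain ⟨k, hk⟩ := (IsPGroup.iff_orderOf.1 hP) ⟨y, hy⟩
  rw [Subgroup.orderOf_mk] at hk
  apply key k y hy
  rw [← hk]; exact pow_orderOf_eq_one y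

/-- Let P be a cyclic Sylow p-subgroup of the finite group G. Then P meets each conjugate g P g⁻¹ with g outside N_G(P) trivially if and only if P is weakly self-centralizing: C_G(x) = C_G(P) for every non-identity x ∈ P. -/
theorem result {G : Type*} [Group G] [Finite G] (p : ℕ) [Fact p.Prime] (P : Sylow p G) (hcyc : IsCyclic ↥(P : Subgroup G)) : (∀ g : G, g ∉ Subgroup.normalizer ((P : Subgroup G) : Set G) → (P : Subgroup G) ⊓ (MulAut.conj g • (P : Subgroup G)) = ⊥) ↔ ∀ x : G, x ∈ (P : Subgroup G) → x ≠ 1 → Subgroup.centralizer ({x} : Set G) = Subgroup.centralizer ((P : Subgroup G) : Set G) := by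
  have hab : ∀ a ∈ (P : Subgroup G), ∀ b ∈ (P : Subgroup G), a * b = b * a := by
    intro a ha b hb
    have := hcyc
    have hc : IsMulCommutative ↥(P : Subgroup G) := IsCyclic.isMulCommutative
    have := mul_comm' (⟨a, ha⟩ : (P : Subgroup G)) ⟨b, hb⟩
    exact congrArg Subtype.val this
  constructor
  · intro hTI x hxP hx1
    apply le_antisymm
    · intro g hg
      rw [Subgroup.mem_centralizer_singleton_iff] at hg
      -- g normalises P
      have hgN : g ∈ Subgroup.normalizer ((P : Subgroup G) : Set G) := by
        by_contra hgN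
        have h1 := hTI g hgN
        have : x ∈ (P : Subgroup G) ⊓ (MulAut.conj g • (P : Subgroup G)) := by
          rw [Subgroup.mem_inf]
          refine ⟨hxP, ?_⟩
          rw [Subgroup.mem_smul_pointwise_iff_exists]
          refine ⟨x, hxP, ?_⟩
          rw [MulAut.smul_def, MulAut.conj_apply, hg]; group
        rw [h1, Subgroup.mem_bot] at this
        exact hx1 this
      -- work in Z = zpowers g
      let Z := Subgroup.zpowers g
      let C : Subgroup Z := (Subgroup.centralizer ((P : Subgroup G) : Set G)).subgroupOf Z
      have hC : C = ⊤ := by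
        apply Cfsg.Agent.S3986.eq_top_of_forall_primePow_mem
        intro q k z hq hz
        rw [Subgroup.mem_subgroupOf]
        have hz' : orderOf (z : G) = q ^ k := by rw [Subgroup.orderOf_coe]; exact hz
        have hzN : (z : G) ∈ Subgroup.normalizer ((P : Subgroup G) : Set G) := by
          obtain ⟨i, hi⟩ := z.2
          rw [← hi]
          exact Subgroup.zpow_mem _ hgN i
        have hzx : (z : G) * x = x * (z : G) := by
          obtain ⟨i, hi⟩ := z.2
          rw [← hi]
          have : Commute g x := hg
          exact (this.zpow_left i)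
        by_cases hqp : q = p
        · -- z is a p-element normalising P, so z ∈ P
          subst hqp
          have hzp : IsPGroup q (Subgroup.zpowers (z : G)) := by
            apply IsPGroup.of_card (n := k)
            rw [Nat.card_zpowers, hz']
          have h1 := hzp.inf_normalizer_sylow P
          have h2 : (z : G) ∈ Subgroup.zpowers (z : G) ⊓ Subgroup.normalizer ((P : Subgroup G) : Set G) :=
            Subgroup.mem_inf.2 ⟨Subgroup.mem_zpowers _, hzN⟩
          rw [← Sylow.coe_coe] at h1
          rw [h1, Subgroup.mem_inf] at h2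
          rw [Subgroup.mem_centralizer_iff]
          intro y hy
          exact hab y hy _ h2.2
        · -- coprime action
          have hcop : (orderOf (z : G)).Coprime p := by
            rw [hz']
            apply Nat.Coprime.pow_left
            exact (Nat.coprime_primes hq Fact.out).2 hqp
          have hnorm : ∀ y ∈ (P : Subgroup G), (z : G) * y * (z : G)⁻¹ ∈ (P : Subgroup G) := by
            intro y hy
            rw [Subgroup.mem_normalizer_iff] at hzN
            exact (hzN y).1 hy
          have hΩ : ∀ u ∈ (P : Subgroup G), u ^ p = 1 → (z : G) * u * (z : G)⁻¹ = u := by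
            intro u hu hup
            -- u ∈ zpowers x
            have hxo : ∃ k, orderOf (⟨x, hxP⟩ : (P : Subgroup G)) = p ^ k :=
              (IsPGroup.iff_orderOf.1 P.isPGroup') ⟨x, hxP⟩
            have hx1' : (⟨x, hxP⟩ : (P : Subgroup G)) ≠ 1 := by
              intro h; apply hx1; exact congrArg Subtype.val h
            have hup' : (⟨u, hu⟩ : (P : Subgroup G)) ^ p = 1 := by
              apply Subtype.ext; simpa using hup
            have := mem_zpowers_of_pow_prime_eq_one p (⟨x, hxP⟩ : (P : Subgroup G)) ⟨u, hu⟩ hx1' hxo hup'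
            obtain ⟨i, hi⟩ := this
            have hi' : x ^ i = u := by
              have := congrArg Subtype.val hi
              simpa using this
            rw [← hi']
            have : Commute (z : G) x := hzx
            have h2 : Commute (z : G) (x ^ i) := this.zpow_right i
            rw [h2.eq]; group
          have := centralizes_of_centralizes_omega p (P : Subgroup G) P.isPGroup' hab (z : G) hnorm hcop hΩ
          rw [Subgroup.mem_centralizer_iff]
          intro y hy
          have h3 := this y hy
          calc y * (z : G) = ((z : G) * y * (z : G)⁻¹) * (z : G) := by rw [h3]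
            _ = (z : G) * y := by group
      have : (⟨g, Subgroup.mem_zpowers g⟩ : Z) ∈ C := by rw [hC]; trivial
      rw [Subgroup.mem_subgroupOf] at this
      exact this
    · apply Subgroup.centralizer_le
      rw [Set.singleton_subset_iff]
      exact hxP
  · intro h g hg
    rw [Subgroup.eq_bot_iff_forall]
    intro x hx
    rw [Subgroup.mem_inf] at hx
    obtain ⟨hxP, hxg⟩ := hx
    by_contra hx1
    apply hg
    have hcent := h x hxP hx1
    -- g • P centralises x hence P
    have hle : (MulAut.conj g • (P : Subgroup G)) ≤ Subgroup.centralizer ((P : Subgroup G) : Set G) := by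
      rw [← hcent]
      intro y hy
      rw [Subgroup.mem_centralizer_singleton_iff]
      -- y, x ∈ g • P which is abelian
      rw [Subgroup.mem_smul_pointwise_iff_exists] at hy hxg
      obtain ⟨y0, hy0, rfl⟩ := hy
      obtain ⟨x0, hx0, rfl⟩ := hxg
      simp only [MulAut.smul_def, MulAut.conj_apply]
      have := hab y0 hy0 x0 hx0
      calc g * y0 * g⁻¹ * (g * x0 * g⁻¹) = g * (y0 * x0) * g⁻¹ := by group
        _ = g * (x0 * y0) * g⁻¹ := by rw [this]
        _ = g * x0 * g⁻¹ * (g * y0 * g⁻¹) := by group
    -- so g • P normalises P; p-group; hence g • P ≤ P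
    have hpg : IsPGroup p (MulAut.conj g • (P : Subgroup G) : Subgroup G) := by
      have : ((g • P : Sylow p G) : Subgroup G) = MulAut.conj g • (P : Subgroup G) := rfl
      rw [← this]; exact (g • P).isPGroup'
    have h1 := hpg.inf_normalizer_sylow P
    have h2 : (MulAut.conj g • (P : Subgroup G)) ≤ Subgroup.normalizer ((P : Subgroup G) : Set G) :=
      hle.trans (Subgroup.centralizer_le_normalizer _)
    rw [← Sylow.coe_coe] at h1
    rw [inf_eq_left.2 h2] at h1
    have h3 : (MulAut.conj g • (P : Subgroup G)) ≤ (P : Subgroup G) := by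
      rw [h1]; exact inf_le_right
    -- g • P = P as Sylow
    have h4 : g • P = P := by
      apply Sylow.ext
      exact ((g • P).is_maximal' P.isPGroup' h3).symm
    have := Sylow.smul_eq_iff_mem_normalizer.1 h4
    rw [← Sylow.coe_coe] at this
    exact this

end Cfsg.Agent.S3985
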