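import Mathlib
import Cfsg.Statements.S3969
import Cfsg.Agent.S3985

set_option autoImplicit false
open Cfsg

namespace Cfsg.Agent.S3969

/-- In a finite commutative group `A`, the number of elements killed by `p` divides `p ^ rank A`. -/
theorem card_ker_pow_dvd {A : Type*} [CommGroup A] [Finite A] (p : ℕ) :
    Nat.card (powMonoidHom p : A →* A).ker ∣ p ^ Group.rank A := by
  set f : A →* A := powMonoidHom p with hf
  -- |ker| = index of range
  have h1 : Nat.card f.ker * f.ker.index = Nat.card A := Subgroup.card_mul_index _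
  have h2 : Nat.card f.range * f.range.index = Nat.card A := Subgroup.card_mul_index _
  have h3 : f.ker.index = Nat.card f.range := Subgroup.index_ker f
  have h4 : Nat.card f.ker = f.range.index := by
    rw [h3] at h1
    have hpos : 0 < Nat.card f.range := Nat.card_pos
    have : Nat.card f.range * Nat.card f.ker = Nat.card f.range * f.range.index := by
      rw [h2, mul_comm, h1]
    exact Nat.eq_of_mul_eq_mul_left hpos this
  rw [h4, Subgroup.index]
  -- the quotient has exponent p
  have hexp : ∀ q : A ⧸ f.range, q ^ p = 1 := by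
    intro q
    induction q using QuotientGroup.induction_on with
    | H a =>
      rw [← QuotientGroup.mk_pow, QuotientGroup.eq_one_iff]
      exact ⟨a, rfl⟩
  have h5 := card_dvd_exponent_pow_rank' (A ⧸ f.range) hexp
  have h6 : Group.rank (A ⧸ f.range) ≤ Group.rank A :=
    Group.rank_le_of_surjective (QuotientGroup.mk' f.range) (QuotientGroup.mk'_surjective _)
  exact h5.trans (pow_dvd_pow p h6)

/-- A `q`-element normalising an abelian `p`-group `P` centralises `Ω₁(P)` provided `q` divides no
`p ^ i - 1` for `1 ≤ i ≤ d`, where `|Ω₁(P)|` divides `p ^ d`. -/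
theorem centralizes_omega {G : Type*} [Group G] [Finite G] (p q : ℕ) [hp : Fact p.Prime]
    [hq : Fact q.Prime] (hqp : q ≠ p) (P : Subgroup G) (hP : IsPGroup p P)
    (hab : ∀ a ∈ P, ∀ b ∈ P, a * b = b * a) (d : ℕ)
    (hd : Nat.card {u : G // u ∈ P ∧ u ^ p = 1} ∣ p ^ d) (z : G)
    (hz : ∀ y ∈ P, z * y * z⁻¹ ∈ P) (k : ℕ) (hzk : z ^ (q ^ k) = 1)
    (hqd : ∀ i, 1 ≤ i → i ≤ d → ¬ q ∣ p ^ i - 1) :
    ∀ u ∈ P, u ^ p = 1 → z * u * z⁻¹ = u := by
  classical
  -- Ω as a subgroup
  let Ω : Subgroup G :=
    { carrier := {u | u ∈ P ∧ u ^ p = 1}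
      one_mem' := ⟨P.one_mem, one_pow p⟩
      mul_mem' := by
        rintro a b ⟨ha, hap⟩ ⟨hb, hbp⟩
        refine ⟨P.mul_mem ha hb, ?_⟩
        have : Commute a b := hab a ha b hb
        rw [this.mul_pow, hap, hbp, one_mul]
      inv_mem' := by
        rintro a ⟨ha, hap⟩
        exact ⟨P.inv_mem ha, by rw [inv_pow, hap, inv_one]⟩ }
  have hΩP : Ω ≤ P := fun u hu => hu.1
  have hΩp : IsPGroup p Ω := hP.to_le hΩP
  obtain ⟨e, he⟩ := IsPGroup.iff_card.1 hΩp
  have hed : e ≤ d := by
    have h1 : Nat.card Ω ∣ p ^ d := hd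
    rw [he] at h1
    exact (Nat.pow_dvd_pow_iff_le_right hp.out.one_lt).1 h1
  -- the conjugation map on Ω
  let f : Function.End Ω := fun u => ⟨z * u * z⁻¹, ⟨hz u u.2.1, by rw [conj_pow, u.2.2]; group⟩⟩
  have hfn : ∀ n : ℕ, ∀ u : Ω, (((f ^ n) u : Ω) : G) = z ^ n * u * (z ^ n)⁻¹ := by
    intro n
    induction n with
    | zero =>
      intro u
      rw [pow_zero, pow_zero]
      show (u : G) = 1 * u * 1⁻¹
      group
    | succ n ih =>
      intro u
      rw [pow_succ]
      show (((f ^ n) (f u) : Ω) : G) = _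
      rw [ih (f u)]
      show z ^ n * (z * u * z⁻¹) * (z ^ n)⁻¹ = _
      rw [pow_succ]; group
  have hfq : f ^ q ^ k = 1 := by
    funext u
    apply Subtype.ext
    rw [hfn, hzk]
    show 1 * (u : G) * 1⁻¹ = u
    group
  have := Fintype.ofFinite Ω
  have hmod := Equiv.Perm.card_fixedPoints_modEq (p := q) (n := k) hfq
  -- fixed points as a subgroup of Ω
  let F : Subgroup Ω :=
    { carrier := {u | z * (u : G) * z⁻¹ = u}
      one_mem' := by simp
      mul_mem' := by
        intro a b ha hb
        show z * ((a * b : Ω) : G) * z⁻¹ = ((a * b : Ω) : G)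
        rw [Subgroup.coe_mul]
        have ha' : z * (a : G) * z⁻¹ = a := ha
        have hb' : z * (b : G) * z⁻¹ = b := hb
        calc z * ((a : G) * b) * z⁻¹ = (z * a * z⁻¹) * (z * b * z⁻¹) := by group
          _ = a * b := by rw [ha', hb']
      inv_mem' := by
        intro a ha
        show z * ((a⁻¹ : Ω) : G) * z⁻¹ = ((a⁻¹ : Ω) : G)
        rw [Subgroup.coe_inv]
        have ha' : z * (a : G) * z⁻¹ = a := ha
        calc z * (a : G)⁻¹ * z⁻¹ = (z * a * z⁻¹)⁻¹ := by group
          _ = (a : G)⁻¹ := by rw [ha'] }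
  have hFfix : (F : Set Ω) = Function.fixedPoints f := by
    ext u
    show z * (u : G) * z⁻¹ = u ↔ f u = u
    constructor
    · intro h; exact Subtype.ext h
    · intro h; exact congrArg Subtype.val h
  have hcardF : Fintype.card (Function.fixedPoints f) = Nat.card F := by
    rw [← Nat.card_eq_fintype_card]
    have : (Function.fixedPoints f) = (F : Set Ω) := hFfix.symm
    rw [this]; rfl
  rw [hcardF, ← Nat.card_eq_fintype_card, he] at hmod
  -- card F = p ^ f'
  have hFp : IsPGroup p F := hΩp.to_subgroup F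
  obtain ⟨f', hf'⟩ := IsPGroup.iff_card.1 hFp
  rw [hf'] at hmod
  have hf'e : f' ≤ e := by
    have h1 : Nat.card F ∣ Nat.card Ω := Subgroup.card_subgroup_dvd_card F
    rw [hf', he] at h1
    exact (Nat.pow_dvd_pow_iff_le_right hp.out.one_lt).1 h1
  by_cases hfe : f' = e
  · -- F = ⊤
    have hFtop : F = ⊤ := by
      apply Subgroup.eq_top_of_card_eq
      rw [hf', he, hfe]
    intro u hu hup
    have : (⟨u, ⟨hu, hup⟩⟩ : Ω) ∈ F := by rw [hFtop]; trivial
    exact this
  · exfalso
    have hlt : f' < e := lt_of_le_of_ne hf'e hfe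
    have hle : p ^ f' ≤ p ^ e := Nat.pow_le_pow_right hp.out.pos hf'e
    have hdvd : q ∣ p ^ e - p ^ f' := (Nat.modEq_iff_dvd' hle).1 hmod.symm
    have heq : p ^ e - p ^ f' = p ^ f' * (p ^ (e - f') - 1) := by
      have : p ^ e = p ^ f' * p ^ (e - f') := by
        rw [← pow_add]; congr 1; omega
      rw [this, Nat.mul_sub_one]
    rw [heq] at hdvd
    rcases (Nat.Prime.dvd_mul hq.out).1 hdvd with h | h
    · have := (Nat.prime_dvd_prime_iff_eq hq.out hp.out).1 (hq.out.dvd_of_dvd_pow h)
      exact hqp this
    · exact hqd (e - f') (by omega) (by omega) h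

/-- Let `P` be an abelian Sylow `p`-subgroup of the finite group `G`, generated by `d` elements (`d` its minimal number of generators). If the order of `G` is coprime to `(p - 1)(p ^ 2 - 1) ⋯ (p ^ d - 1)`, then `G` has a normal `p`-complement. (The classical statement needs only the largest number of cyclic factors of `P` of equal order in place of `d`; the form here follows from it.) -/
theorem result {G : Type*} [Group G] [Finite G] (p : ℕ) [Fact p.Prime] (P : Sylow p G) (hab : IsMulCommutative (P : Subgroup G)) (hcop : Nat.Coprime (Nat.card G) (∏ i ∈ Finset.Icc 1 (Group.rank (P : Subgroup G)), (p ^ i - 1))) : Cfsg.HasNormalPComplement p G := by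
  have hab' : ∀ a ∈ (P : Subgroup G), ∀ b ∈ (P : Subgroup G), a * b = b * a := by
    intro a ha b hb
    have := mul_comm' (⟨a, ha⟩ : (P : Subgroup G)) ⟨b, hb⟩
    exact congrArg Subtype.val this
  set d := Group.rank (P : Subgroup G) with hd
  -- |Ω₁(P)| divides p^d
  have hΩ : Nat.card {u : G // u ∈ (P : Subgroup G) ∧ u ^ p = 1} ∣ p ^ d := by
    letI : CommGroup (P : Subgroup G) := { (inferInstance : Group (P : Subgroup G)) with
      mul_comm := fun a b => mul_comm' a b }
    have h1 := card_ker_pow_dvd (A := (P : Subgroup G)) p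
    have h2 : Nat.card {u : G // u ∈ (P : Subgroup G) ∧ u ^ p = 1} =
        Nat.card (powMonoidHom p : (P : Subgroup G) →* (P : Subgroup G)).ker := by
      apply Nat.card_congr
      refine
        { toFun := fun u => ⟨⟨u.1, u.2.1⟩, ?_⟩
          invFun := fun v => ⟨v.1.1, ⟨v.1.2, ?_⟩⟩
          left_inv := fun u => rfl
          right_inv := fun v => rfl }
      · rw [MonoidHom.mem_ker, powMonoidHom_apply]
        apply Subtype.ext
        simpa using u.2.2
      · have := v.2
        rw [MonoidHom.mem_ker, powMonoidHom_apply] at this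
        have := congrArg Subtype.val this
        simpa using this
    rw [h2]
    exact h1
  -- N(P) ≤ C(P)
  have hNC : Subgroup.normalizer ((P : Subgroup G) : Set G) ≤ Subgroup.centralizer ((P : Subgroup G) : Set G) := by
    let N := Subgroup.normalizer ((P : Subgroup G) : Set G)
    let C : Subgroup N := (Subgroup.centralizer ((P : Subgroup G) : Set G)).subgroupOf N
    have hC : C = ⊤ := by
      apply Cfsg.Agent.S3986.eq_top_of_forall_primePow_mem
      intro q k z hq hz
      rw [Subgroup.mem_subgroupOf]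
      have hz' : orderOf (z : G) = q ^ k := by rw [Subgroup.orderOf_coe]; exact hz
      have hzN : (z : G) ∈ Subgroup.normalizer ((P : Subgroup G) : Set G) := z.2
      have hnorm : ∀ y ∈ (P : Subgroup G), (z : G) * y * (z : G)⁻¹ ∈ (P : Subgroup G) := by
        intro y hy
        rw [Subgroup.mem_normalizer_iff] at hzN
        exact (hzN y).1 hy
      by_cases hqp : q = p
      · subst hqp
        have hzp : IsPGroup q (Subgroup.zpowers (z : G)) := by
          apply IsPGroup.of_card (n := k)
          rw [Nat.card_zpowers, hz']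
        have h1 := hzp.inf_normalizer_sylow P
        have h2 : (z : G) ∈ Subgroup.zpowers (z : G) ⊓ Subgroup.normalizer ((P : Subgroup G) : Set G) :=
          Subgroup.mem_inf.2 ⟨Subgroup.mem_zpowers _, hzN⟩
        rw [← Sylow.coe_coe] at h1
        rw [h1, Subgroup.mem_inf] at h2
        rw [Subgroup.mem_centralizer_iff]
        intro y hy
        exact hab' y hy _ h2.2
      · haveI : Fact q.Prime := ⟨hq⟩
        by_cases hk0 : k = 0
        · -- z = 1
          rw [hk0, pow_zero, orderOf_eq_one_iff] at hz'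
          rw [hz']; exact Subgroup.one_mem _
        have hqG : q ∣ Nat.card G := by
          have h1 : q ∣ orderOf (z : G) := by
            rw [hz']; exact dvd_pow_self q hk0
          exact h1.trans (orderOf_dvd_natCard _)
        have hqd : ∀ i, 1 ≤ i → i ≤ d → ¬ q ∣ p ^ i - 1 := by
          intro i hi1 hid hdiv
          have h1 : (p ^ i - 1) ∣ ∏ j ∈ Finset.Icc 1 d, (p ^ j - 1) :=
            Finset.dvd_prod_of_mem _ (Finset.mem_Icc.2 ⟨hi1, hid⟩)
          have h2 : q ∣ Nat.gcd (Nat.card G) (∏ j ∈ Finset.Icc 1 d, (p ^ j - 1)) :=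
            Nat.dvd_gcd hqG (hdiv.trans h1)
          rw [Nat.Coprime.gcd_eq_one hcop] at h2
          exact hq.one_lt.ne' (Nat.dvd_one.1 h2)
        have hΩc := centralizes_omega p q hqp (P : Subgroup G) P.isPGroup' hab' d hΩ (z : G) hnorm k
          (by rw [← hz']; exact pow_orderOf_eq_one _) hqd
        have hcopz : (orderOf (z : G)).Coprime p := by
          rw [hz']
          apply Nat.Coprime.pow_left
          exact (Nat.coprime_primes hq Fact.out).2 hqp
        have := Cfsg.Agent.S3985.centralizes_of_centralizes_omega p (P : Subgroup G) P.isPGroup' hab'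
          (z : G) hnorm hcopz hΩc
        rw [Subgroup.mem_centralizer_iff]
        intro y hy
        have h3 := this y hy
        calc y * (z : G) = ((z : G) * y * (z : G)⁻¹) * (z : G) := by rw [h3]
          _ = (z : G) * y := by group
    intro g hg
    have : (⟨g, hg⟩ : N) ∈ C := by rw [hC]; trivial
    rw [Subgroup.mem_subgroupOf] at this
    exact this
  have hNC' : Subgroup.normalizer (P : Set G) ≤ Subgroup.centralizer ((P : Subgroup G) : Set G) := by
    rw [← Sylow.coe_coe]; exact hNC
  refine ⟨P, (MonoidHom.transferSylow P hNC').ker, inferInstance, ?_⟩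
  exact MonoidHom.ker_transferSylow_isComplement' P hNC'

end Cfsg.Agent.S3969
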