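import Mathlib
import Cfsg.Statements.S3970
import Cfsg.Agent.S3969

set_option autoImplicit false
open Cfsg

namespace Cfsg.Agent.S3970

theorem rank_le_one_of_isCyclic {A : Type*} [Group A] [Finite A] [IsCyclic A] : Group.rank A ≤ 1 := by
  classical
  obtain ⟨g, hg⟩ := IsCyclic.exists_generator (α := A)
  have : Subgroup.closure (({g} : Finset A) : Set A) = ⊤ := by
    rw [Finset.coe_singleton, eq_top_iff]
    intro x _
    rw [Subgroup.mem_closure_singleton]
    exact hg x
  have := Group.rank_le this
  simpa using this

/-- every prime factor of `p + 1` is smaller than `p` when `p ≥ 3`. -/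
theorem prime_dvd_succ_lt {p r : ℕ} (hp3 : 3 ≤ p) (hpodd : Odd p) (hr : r.Prime) (hrd : r ∣ p + 1) : r < p := by
  rcases hr.eq_two_or_odd' with rfl | hro
  · omega
  · -- r odd divides (p+1) = 2 * ((p+1)/2)
    obtain ⟨t, ht⟩ := hpodd
    have h1 : p + 1 = 2 * (t + 1) := by omega
    rw [h1] at hrd
    have hcop : Nat.Coprime r 2 := Nat.coprime_two_right.2 hro
    have h2 : r ∣ t + 1 := hcop.dvd_of_dvd_mul_left hrd
    have := Nat.le_of_dvd (by omega) h2
    omega

theorem sq_sub_one' (p : ℕ) (hp : 1 ≤ p) : p ^ 2 - 1 = (p - 1) * (p + 1) := by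
  obtain ⟨t, rfl⟩ : ∃ t, p = t + 1 := ⟨p - 1, by omega⟩
  have : (t + 1) ^ 2 = (t + 1 - 1) * (t + 1 + 1) + 1 := by
    simp; ring
  omega

theorem key (n : ℕ) : ∀ {G : Type*} [Group G] [Finite G], Nat.card G = n →
    (∀ p : ℕ, p.Prime → p ∣ Nat.card G → (∃ q : ℕ, q.Prime ∧ q ∣ Nat.card G ∧ p < q) →
      ∀ P : Sylow p G, IsMulCommutative (P : Subgroup G) ∧ Group.rank (P : Subgroup G) ≤ 2) →
    ¬ 12 ∣ Nat.card G → Group.IsSolvable G := by
  induction n using Nat.strong_induction_on with
  | _ n ih =>
  intro G _ _ hn h h12
  by_cases h1 : Nat.card G = 1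
  · have : Subsingleton G := (Nat.card_eq_one_iff_unique.1 h1).1
    infer_instance
  obtain ⟨p, hp⟩ : ∃ p, p = (Nat.card G).minFac := ⟨_, rfl⟩
  have hpp : p.Prime := by rw [hp]; exact Nat.minFac_prime h1
  have : Fact p.Prime := ⟨hpp⟩
  have hpG : p ∣ Nat.card G := by rw [hp]; exact Nat.minFac_dvd _
  have hmin : ∀ r : ℕ, r.Prime → r ∣ Nat.card G → p ≤ r := fun r hr hrd => by
    rw [hp]; exact Nat.minFac_le_of_dvd hr.two_le hrd
  by_cases hbig : ∃ q : ℕ, q.Prime ∧ q ∣ Nat.card G ∧ p < q
  · obtain ⟨P⟩ : Nonempty (Sylow p G) := inferInstance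
    obtain ⟨hab, hrank⟩ := h p hpp hpG hbig P
    -- coprimality
    have hcop : Nat.Coprime (Nat.card G) (∏ i ∈ Finset.Icc 1 (Group.rank (P : Subgroup G)), (p ^ i - 1)) := by
      apply Nat.Coprime.prod_right
      intro i hi
      rw [Finset.mem_Icc] at hi
      obtain ⟨hi1, hi2⟩ := hi
      apply Nat.Coprime.symm
      rw [Nat.coprime_iff_gcd_eq_one]
      by_contra hg
      obtain ⟨r, hr, hrd⟩ := Nat.exists_prime_and_dvd hg
      have hr1 : r ∣ p ^ i - 1 := hrd.trans (Nat.gcd_dvd_left _ _)
      have hr2 : r ∣ Nat.card G := hrd.trans (Nat.gcd_dvd_right _ _)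
      have hpr : p ≤ r := hmin r hr hr2
      have hi' : i = 1 ∨ i = 2 := by omega
      rcases hi' with rfl | rfl
      · rw [pow_one] at hr1
        have hp2 := hpp.two_le
        have := Nat.le_of_dvd (by omega) hr1
        omega
      · -- p^2 - 1 = (p-1)(p+1)
        have hp2 := hpp.two_le
        have e : p ^ 2 - 1 = (p - 1) * (p + 1) := sq_sub_one' p (by omega)
        rw [e] at hr1
        rcases (Nat.Prime.dvd_mul hr).1 hr1 with h3 | h3
        · have := Nat.le_of_dvd (by omega) h3
          omega
        · rcases hpp.eq_two_or_odd' with h2 | hodd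
          · -- p = 2, r ∣ 3 so r = 3; rank P = 2 so 4 ∣ |G|
            rw [h2] at h3
            have hr3 : r = 3 := (Nat.prime_dvd_prime_iff_eq hr (by norm_num)).1 h3
            subst hr3
            -- 4 ∣ card G: otherwise P has order 2 and is cyclic
            have h4 : 4 ∣ Nat.card G := by
              by_contra h4
              -- card P = 2^k with k ≤ 1
              obtain ⟨k, hk⟩ := IsPGroup.iff_card.1 P.isPGroup'
              have hk1 : k ≤ 1 := by
                by_contra hk1
                push Not at hk1
                apply h4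
                have h5 : p ^ 2 ∣ p ^ k := pow_dvd_pow p hk1
                rw [← hk] at h5
                have h6 : p ^ 2 ∣ Nat.card G := h5.trans (Subgroup.card_subgroup_dvd_card _)
                have h7 : p ^ 2 = 4 := by rw [h2]; norm_num
                rw [h7] at h6
                exact h6
              have hcyc : IsCyclic (P : Subgroup G) := by
                interval_cases k
                · rw [pow_zero] at hk
                  have : Subsingleton (P : Subgroup G) := (Nat.card_eq_one_iff_unique.1 hk).1
                  infer_instance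
                · rw [pow_one] at hk
                  exact isCyclic_of_prime_card hk
              have := rank_le_one_of_isCyclic (A := (P : Subgroup G))
              omega
            apply h12
            have : Nat.Coprime 4 3 := by norm_num
            exact this.mul_dvd_of_dvd_of_dvd h4 hr2
          · have hp3 : 3 ≤ p := by
              rcases hodd with ⟨t, ht⟩
              omega
            have := prime_dvd_succ_lt hp3 hodd hr h3
            omega
    obtain ⟨P', N, hN, hcompl⟩ := Cfsg.Agent.S3969.result p P hab hcop
    -- N is smaller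
    have hcard : Nat.card N * Nat.card (P' : Subgroup G) = Nat.card G := hcompl.card_mul_card
    have hP'1 : 1 < Nat.card (P' : Subgroup G) := by
      have : p ∣ Nat.card (P' : Subgroup G) := P'.dvd_card_of_dvd_card hpG
      have := Nat.le_of_dvd Nat.card_pos this
      have := hpp.two_le
      omega
    have hNlt : Nat.card N < n := by
      rw [← hn, ← hcard]
      have : 0 < Nat.card N := Nat.card_pos
      nlinarith
    have hNdvd : Nat.card N ∣ Nat.card G := Subgroup.card_subgroup_dvd_card N
    have hNp : ¬ p ∣ Nat.card N := by
      have := hcompl.index_eq_card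
      rw [← this]
      exact P'.not_dvd_index
    -- hypotheses for N
    have hNsol : Group.IsSolvable N := by
      apply ih (Nat.card N) hNlt rfl
      · intro r hr hrN hq R
        obtain ⟨q, hq1, hq2, hq3⟩ := hq
        haveI : Fact r.Prime := ⟨hr⟩
        have hrG : r ∣ Nat.card G := hrN.trans hNdvd
        -- Sylow of G containing R
        have hRp : IsPGroup r ((R : Subgroup N).map N.subtype) := R.isPGroup'.map _
        obtain ⟨S, hS⟩ := hRp.exists_le_sylow
        obtain ⟨habS, hrankS⟩ := h r hr hrG ⟨q, hq1, hq2.trans hNdvd, hq3⟩ S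
        -- card of R.map = card S
        have hcardR : Nat.card ((R : Subgroup N).map N.subtype) = Nat.card (S : Subgroup G) := by
          rw [Subgroup.card_map_of_injective (Subgroup.subtype_injective N),
            Sylow.card_eq_multiplicity, Sylow.card_eq_multiplicity]
          congr 1
          -- factorization of card N at r equals that of card G
          rw [← hcard, Nat.factorization_mul Nat.card_pos.ne' Nat.card_pos.ne']
          obtain ⟨k, hk⟩ := IsPGroup.iff_card.1 P'.isPGroup'
          rw [hk]
          have hrp : r ≠ p := by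
            rintro rfl
            exact hNp hrN
          simp [Nat.Prime.factorization_pow hpp, hrp.symm]
        have heq : (R : Subgroup N).map N.subtype = (S : Subgroup G) :=
          Subgroup.eq_of_le_of_card_ge hS (le_of_eq hcardR.symm)
        -- iso R ≃* S
        let e : (R : Subgroup N) ≃* (S : Subgroup G) :=
          ((R : Subgroup N).equivMapOfInjective N.subtype (Subgroup.subtype_injective N)).trans
            (MulEquiv.subgroupCongr heq)
        constructor
        · refine ⟨⟨fun a b => ?_⟩⟩
          apply e.injective
          rw [map_mul, map_mul]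
          exact mul_comm' _ _
        · rw [Group.rank_congr e]; exact hrankS
      · intro h12N
        exact h12 (h12N.trans hNdvd)
    -- quotient is a p-group
    have hQ : Group.IsSolvable (G ⧸ N) := by
      have hQp : IsPGroup p (G ⧸ N) := by
        obtain ⟨k, hk⟩ := IsPGroup.iff_card.1 P'.isPGroup'
        apply IsPGroup.of_card (n := k)
        show N.index = p ^ k
        rw [hcompl.symm.index_eq_card, hk]
      have := hQp.isNilpotent
      infer_instance
    exact Group.isSolvable_of_ker_le_range N.subtype (QuotientGroup.mk' N) (by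
      rw [QuotientGroup.ker_mk', Subgroup.range_subtype])
  · -- G is a p-group
    have hGp : IsPGroup p G := by
      have hn0 : Nat.card G ≠ 0 := Nat.card_pos.ne'
      have : ∀ r : ℕ, r.Prime → r ∣ Nat.card G → r = p := by
        intro r hr hrd
        by_contra hne
        apply hbig
        exact ⟨r, hr, hrd, lt_of_le_of_ne (hmin r hr hrd) (Ne.symm hne)⟩
      have h2 := Nat.eq_prime_pow_of_unique_prime_dvd hn0 (fun {r} hr hrd => this r hr hrd)
      exact IsPGroup.of_card h2
    have := hGp.isNilpotent
    infer_instance

/-- Let `G` be a finite group such that for every prime `p` dividing its order, other than the largest such prime, the Sylow `p`-subgroups are abelian and generated by at most two elements, and suppose `12` does not divide the order of `G`. Then `G` is solvable. In particular a group of cube-free order not divisible by `12` is solvable. -/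
theorem result {G : Type*} [Group G] [Finite G] (h : ∀ p : ℕ, p.Prime → p ∣ Nat.card G → (∃ q : ℕ, q.Prime ∧ q ∣ Nat.card G ∧ p < q) → ∀ P : Sylow p G, IsMulCommutative (P : Subgroup G) ∧ Group.rank (P : Subgroup G) ≤ 2) (h12 : ¬ 12 ∣ Nat.card G) : Group.IsSolvable G :=
  key (Nat.card G) rfl h h12

end Cfsg.Agent.S3970
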