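import Cfsg.Statements.S3971
import Cfsg.Agent.Lib.Helper90.FrattiniAct
import Cfsg.Agent.Lib.Helper90.CyclicIndexTwo
import Cfsg.Agent.Lib.Helper2.FusionComplement
import Cfsg.Agent.S0029

set_option autoImplicit false
open Cfsg

namespace Cfsg.Agent.S3971

/-- Let `G` be a finite group of order `2 ^ a * n` with `n` odd and not divisible by `3`, and suppose `G` has an element of order `2 ^ (a - 1)` (so a Sylow `2`-subgroup has a cyclic subgroup of index at most `2`). Then `G` has a normal subgroup of order `n`. -/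
theorem result {G : Type*} [Group G] [Finite G] (a n : ℕ) (hG : Nat.card G = 2 ^ a * n) (hn : Odd n) (h3 : ¬ 3 ∣ n) (hx : ∃ x : G, orderOf x = 2 ^ (a - 1)) : ∃ N : Subgroup G, N.Normal ∧ Nat.card N = n := by
  classical
  have : Fact (Nat.Prime 2) := ⟨Nat.prime_two⟩
  obtain ⟨x, hx⟩ := hx
  have hn0 : n ≠ 0 := by
    rintro rfl
    exact (Nat.not_odd_iff_even.mpr (by decide : Even 0)) hn
  have h2n : ¬ 2 ∣ n := by
    intro h
    exact (Nat.not_even_iff_odd.mpr hn) (even_iff_two_dvd.mpr h)
  -- order of a Sylow 2-subgroup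
  have hfac : (Nat.card G).factorization 2 = a := by
    rw [hG, Nat.factorization_mul (by positivity) hn0, Nat.Prime.factorization_pow Nat.prime_two]
    simp [Nat.factorization_eq_zero_of_not_dvd h2n]
  have hScard : ∀ P : Sylow 2 G, Nat.card ↥(P : Subgroup G) = 2 ^ a := by
    intro P; rw [Sylow.card_eq_multiplicity, hfac]
  -- a Sylow 2-subgroup containing x
  have hxp : IsPGroup 2 ↥(Subgroup.zpowers x) := by
    apply IsPGroup.of_card (n := a - 1)
    rw [Nat.card_zpowers, hx]
  obtain ⟨P, hP⟩ := hxp.exists_le_sylow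
  have hCidx : (Subgroup.zpowers x).relIndex (P : Subgroup G) ≤ 2 ∧
      (Subgroup.zpowers x).relIndex (P : Subgroup G) ≠ 0 := by
    have h1 : (Subgroup.zpowers x).relIndex (P : Subgroup G) * Nat.card ↥(Subgroup.zpowers x) =
        Nat.card ↥(P : Subgroup G) := by
      have h0 := ((Subgroup.zpowers x).subgroupOf (P : Subgroup G)).index_mul_card
      rw [Nat.card_congr (Subgroup.subgroupOfEquivOfLe hP).toEquiv] at h0
      exact h0
    rw [Nat.card_zpowers, hx, hScard P] at h1
    rcases Nat.eq_zero_or_pos a with ha | ha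
    · subst ha
      have h1' : (Subgroup.zpowers x).relIndex (P : Subgroup G) = 1 := by
        simpa only [Nat.zero_sub, pow_zero, mul_one] using h1
      rw [h1']; omega
    · have e : 2 ^ a = 2 * 2 ^ (a - 1) := by
        rw [← pow_succ']; congr 1; omega
      rw [e] at h1
      have h2 := Nat.eq_of_mul_eq_mul_right (by positivity) h1
      rw [h2]; omega
  have hcc : Cfsg.Agent.Lib.Helper2.CoprimeCentralizes 2 G := by
    apply Cfsg.Agent.Lib.Helper2.coprimeCentralizes_of_forall_le_sylow P
    intro Q hQP g hg hcop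
    have hQ2 : IsPGroup 2 ↥Q := P.2.to_le hQP
    -- cyclic subgroup of index ≤ 2 in Q
    have hcyc : IsCyclic ↥(Subgroup.zpowers x ⊓ Q) := Subgroup.isCyclic_of_le inf_le_left
    have hrel : (Subgroup.zpowers x ⊓ Q).relIndex Q ≤ 2 ∧ (Subgroup.zpowers x ⊓ Q).relIndex Q ≠ 0 := by
      rw [Subgroup.inf_relIndex_right]
      have h0 : (Subgroup.zpowers x).relIndex Q ≠ 0 := Subgroup.index_ne_zero_of_finite
      exact ⟨le_trans (Subgroup.relIndex_le_of_le_right hQP hCidx.2) hCidx.1, h0⟩
    have hidx := Cfsg.Agent.Lib.Helper90.frattini_index_le_four Q hQ2 (Subgroup.zpowers x ⊓ Q)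
      inf_le_right hrel.1 hrel.2
    -- order of g: odd and prime to 3
    have hgodd : Odd (orderOf g) := Nat.coprime_two_right.mp hcop
    have hgdvd : orderOf g ∣ n := by
      have h1 : orderOf g ∣ 2 ^ a * n := by rw [← hG]; exact orderOf_dvd_natCard g
      exact (Nat.Coprime.pow_right a hcop).dvd_of_dvd_mul_left h1
    have hg3 : ¬ 3 ∣ orderOf g := fun h => h3 (dvd_trans h hgdvd)
    -- apply Burnside's lemma S0029 with A = ⟨g⟩
    have hAK : Subgroup.zpowers g ≤ Subgroup.normalizer (Q : Set G) := Subgroup.zpowers_le.mpr hg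
    have hcopA : (Nat.card ↥(Subgroup.zpowers g)).Coprime (Nat.card ↥(frattini ↥Q)) := by
      rw [Nat.card_zpowers]
      have hΦ2 : IsPGroup 2 ↥(frattini ↥Q) := hQ2.to_subgroup _
      obtain ⟨m, hm⟩ := hΦ2.exists_card_eq
      rw [hm]
      exact Nat.Coprime.pow_right m hcop
    have htriv : ∀ b ∈ Subgroup.zpowers g, ∀ k ∈ Q,
        b * k * b⁻¹ * k⁻¹ ∈ (frattini ↥Q).map Q.subtype := by
      intro b hb k hk
      have hbN := hAK hb
      have hbord : orderOf b ∣ orderOf g := by
        obtain ⟨j, rfl⟩ := Subgroup.mem_zpowers_iff.mp hb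
        exact orderOf_dvd_of_pow_eq_one (by rw [← zpow_natCast, ← zpow_mul, mul_comm, zpow_mul,
          zpow_natCast, pow_orderOf_eq_one, one_zpow])
      have hbodd : Odd (orderOf b) := by
        rcases hgodd with ⟨m, hm⟩
        obtain ⟨c, hc⟩ := hbord
        by_contra hcon
        rw [Nat.not_odd_iff_even] at hcon
        have : Even (orderOf g) := by rw [hc]; exact hcon.mul_right c
        exact (Nat.not_even_iff_odd.mpr ⟨m, hm⟩) this
      have hb3 : ¬ 3 ∣ orderOf b := fun h => hg3 (dvd_trans h hbord)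
      exact Cfsg.Agent.Lib.Helper90.comm_mem_frattini_of_index_le_four Q hidx b hbN hbodd hb3 hk
    have hcen := Cfsg.Agent.S0029.result (Subgroup.zpowers g) Q hAK hcopA htriv
    exact hcen (Subgroup.mem_zpowers g)
  obtain ⟨P', N, hN, hcompl⟩ := Cfsg.Agent.Lib.Helper2.hasNormalPComplement_of_coprimeCentralizes hcc
  refine ⟨N, hN, ?_⟩
  have h1 := hcompl.card_mul_card
  rw [hScard P', hG, mul_comm] at h1
  exact Nat.eq_of_mul_eq_mul_left (by positivity) h1

end Cfsg.Agent.S3971
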