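import Cfsg.Statements.S3972
import Cfsg.Agent.Lib.Helper19.SchurTransport

set_option autoImplicit false
open Cfsg

namespace Cfsg.Agent.S3972

open Cfsg.Agent.Lib.Helper19.SchurCyclic in
/-- Let `p` be a prime, `m ≥ 2`, and `G` a transitive but not doubly transitive permutation group on `p ^ m` points containing a permutation of order `p ^ m` (necessarily a full cycle). Then `G` is imprimitive, and the normal closure in `G` of the `p ^ (m - 1)`-th power of that permutation is an intransitive normal subgroup. -/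
theorem result {Ω : Type*} [Fintype Ω] [DecidableEq Ω] (p m : ℕ) (hp : p.Prime) (hm : 2 ≤ m) (hΩ : Fintype.card Ω = p ^ m) (G : Subgroup (Equiv.Perm Ω)) (htr : MulAction.IsPretransitive G Ω) (h2 : ¬ MulAction.IsMultiplyPretransitive G Ω 2) (g : G) (hg : orderOf g = p ^ m) : ¬ MulAction.IsPreprimitive G Ω ∧ ¬ MulAction.IsPretransitive (Subgroup.normalClosure ({g ^ (p ^ (m - 1))} : Set G)) Ω := by
  have hn0 : p ^ m ≠ 0 := (pow_pos hp.pos m).ne'
  haveI : NeZero (p ^ m) := ⟨hn0⟩
  have hcard : Nat.card Ω = p ^ m := by rw [Nat.card_eq_fintype_card, hΩ]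
  have hlt : p ^ (m - 1) < p ^ m := Nat.pow_lt_pow_right hp.one_lt (by omega)
  have hx1 : g ^ (p ^ (m - 1)) ≠ 1 := by
    intro h
    have h1 := orderOf_dvd_of_pow_eq_one h
    rw [hg] at h1
    have := Nat.le_of_dvd (pow_pos hp.pos _) h1
    omega
  obtain ⟨ω₀, hω₀⟩ : ∃ ω₀ : Ω, g ^ (p ^ (m - 1)) • ω₀ ≠ ω₀ := by
    by_contra hcon
    push Not at hcon
    apply hx1
    apply Subtype.ext
    apply Equiv.ext
    intro ω
    exact hcon ω
  have hperiod : MulAction.period g ω₀ = p ^ m := by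
    have hdvd : MulAction.period g ω₀ ∣ p ^ m := by
      rw [← hg]; exact MulAction.period_dvd_orderOf g ω₀
    obtain ⟨b, hb, hpb⟩ := (Nat.dvd_prime_pow hp).1 hdvd
    rcases Nat.lt_or_ge b m with hlt' | hge
    · exfalso
      apply hω₀
      rw [MulAction.pow_smul_eq_iff_period_dvd, hpb]
      exact pow_dvd_pow p (by omega)
    · have : b = m := le_antisymm hb hge
      rw [hpb, this]
  have hinj : Function.Injective (fun k : Fin (p ^ m) => g ^ (k : ℕ) • ω₀) := by
    intro i j hij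
    have h1 := Function.iterate_injOn_Iio_minimalPeriod (f := fun ω : Ω => g • ω) (x := ω₀)
    have hi : (i : ℕ) ∈ Set.Iio (Function.minimalPeriod (fun ω : Ω => g • ω) ω₀) := by
      show (i : ℕ) < MulAction.period g ω₀
      rw [hperiod]; exact i.2
    have hj : (j : ℕ) ∈ Set.Iio (Function.minimalPeriod (fun ω : Ω => g • ω) ω₀) := by
      show (j : ℕ) < MulAction.period g ω₀
      rw [hperiod]; exact j.2
    apply Fin.ext
    apply h1 hi hj
    show (fun ω : Ω => g • ω)^[(i : ℕ)] ω₀ = (fun ω : Ω => g • ω)^[(j : ℕ)] ω₀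
    rw [smul_iterate, smul_iterate]
    exact hij
  have hbij := (Fintype.bijective_iff_injective_and_card _).2 ⟨hinj, by simp [hΩ]⟩
  have hsurj : ∀ ω, ∃ k : ℕ, g ^ k • ω₀ = ω := fun ω =>
    let ⟨k, hk⟩ := hbij.2 ω
    ⟨k, hk⟩
  have hper : g ^ (p ^ m) • ω₀ = ω₀ := by rw [← hg, pow_orderOf_eq_one, one_smul]
  obtain ⟨φ, hφ⟩ := exists_phi (↥G) hcard g ω₀ hper hsurj
  have htrans' := htrans_of_phi (↥G) hφ
  have hpn : p ∣ p ^ m := dvd_pow_self p (by omega)
  have hnp : p ≠ p ^ m := by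
    intro h
    have h1 : p ^ 1 = p ^ m := by rw [pow_one]; exact h
    have := Nat.pow_right_injective hp.two_le h1
    omega
  have hnotprim : ¬ MulAction.IsPreprimitive G Ω := fun hP =>
    h2 (two_pretransitive_of_preprimitive (↥G) htrans' hp hpn hnp)
  refine ⟨hnotprim, ?_⟩
  have hexK : ∃ K : AddSubgroup (ZMod (p ^ m)),
      InvF (indX (↥G) φ) (fun x => x ∈ K) ∧ K ≠ ⊥ ∧ K ≠ ⊤ := by
    by_contra hcon
    apply h2
    apply two_pretransitive_of_core (↥G) htrans'
    intro x y hx hy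
    refine schur_core (addRight_mem_indX (↥G) htrans') ?_ hp hpn hnp hx hy
    intro K hK
    by_contra hK'
    push Not at hK'
    exact hcon ⟨K, hK, hK'.1, hK'.2⟩
  obtain ⟨K, hK, hKbot, hKtop⟩ := hexK
  apply not_pretransitive_normalClosure (↥G) htrans' hK hKtop
  intro i
  rw [hφ, Equiv.symm_apply_apply, add_sub_cancel_left]
  apply P1_le_of_ne_bot hp rfl (by omega) K hKbot
  rw [mem_P1, nsmul_eq_mul, ← Nat.cast_mul, ← pow_succ']
  have : m - 1 + 1 = m := by omega
  rw [this, ZMod.natCast_self]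

end Cfsg.Agent.S3972
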