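import Mathlib
import Cfsg.Statements.S3973
import Cfsg.Agent.Lib.Helper66.Hopf
-- import your own Cfsg.Agent.* helpers here

set_option autoImplicit false
open Cfsg

namespace Cfsg.Agent.S3973

open Module Cfsg.Agent.Lib.Helper66

/-- rank–nullity over `ℤ` when the image has full rank -/
theorem finrank_ker_add_of_smul_mem_range {ι : Type*} [Fintype ι] {n : ℕ}
    (Ψ : (ι →₀ ℤ) →ₗ[ℤ] (Fin n →₀ ℤ)) (N : ℤ) (hN : N ≠ 0)
    (h : ∀ i : Fin n, N • Finsupp.single i (1:ℤ) ∈ LinearMap.range Ψ) :
    finrank ℤ (LinearMap.ker Ψ) + n = Fintype.card ι := by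
  have h1 := (LinearMap.ker Ψ).finrank_quotient_add_finrank
  rw [LinearEquiv.finrank_eq Ψ.quotKerEquivRange] at h1
  have h2 : finrank ℤ (ι →₀ ℤ) = Fintype.card ι := by simp
  have h3 : finrank ℤ (LinearMap.range Ψ) ≤ n := by
    have := Submodule.finrank_le (LinearMap.range Ψ)
    simpa using this
  have h4 : n ≤ finrank ℤ (LinearMap.range Ψ) := by
    have hall : ∀ x : Fin n →₀ ℤ, N • x ∈ LinearMap.range Ψ := by
      intro x
      induction x using Finsupp.induction_linear with
      | zero => simp
      | add f g hf hg => rw [smul_add]; exact Submodule.add_mem _ hf hg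
      | single i a =>
        have : N • Finsupp.single i a = a • (N • Finsupp.single i (1:ℤ)) := by
          rw [smul_comm, Finsupp.smul_single, Finsupp.smul_single]
          simp
        rw [this]
        exact Submodule.smul_mem _ _ (h i)
    let f : (Fin n →₀ ℤ) →ₗ[ℤ] LinearMap.range Ψ :=
      LinearMap.codRestrict (LinearMap.range Ψ) (N • LinearMap.id) (fun x => by simpa using hall x)
    have hf : Function.Injective f := by
      intro x y hxy
      have : N • x = N • y := by
        have := congrArg Subtype.val hxy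
        simpa [f] using this
      exact smul_right_injective _ hN this
    have := LinearMap.finrank_le_finrank_of_injective hf
    simpa using this
  omega

/-- a free abelian group of rank `d` is generated by `d` elements -/
theorem rank_multiplicative_le (K : Type*) [AddCommGroup K] [Module.Free ℤ K] [Module.Finite ℤ K]
    [Group.FG (Multiplicative K)] :
    Group.rank (Multiplicative K) ≤ finrank ℤ K := by
  classical
  let b := Module.finBasis ℤ K
  let S : Finset (Multiplicative K) := Finset.univ.image (fun j => Multiplicative.ofAdd (b j))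
  have hS : Subgroup.closure (S : Set (Multiplicative K)) = ⊤ := by
    rw [eq_top_iff]
    intro x _
    let H := Subgroup.closure (S : Set (Multiplicative K))
    let L : Submodule ℤ K := AddSubgroup.toIntSubmodule (Subgroup.toAddSubgroup' H)
    have hL : L = ⊤ := by
      rw [eq_top_iff, ← b.span_eq, Submodule.span_le]
      rintro _ ⟨j, rfl⟩
      show Multiplicative.ofAdd (b j) ∈ H
      apply Subgroup.subset_closure
      simp [S]
    have : Multiplicative.toAdd x ∈ L := by rw [hL]; trivial
    exact this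
  calc Group.rank (Multiplicative K) ≤ S.card := Group.rank_le hS
    _ ≤ (Finset.univ : Finset (Fin (finrank ℤ K))).card := Finset.card_image_le
    _ = finrank ℤ K := by simp

open scoped IsMulCommutative in
/-- The Hopf group of a presentation with `n` generators and `r` relators needs at most `r - n`
generators. -/
theorem rank_hopfM_le {n : ℕ} {Q : Type} [Group Q] [Finite Q] (ρ : FreeGroup (Fin n) →* Q)
    (rels : Finset (FreeGroup (Fin n)))
    (hker : ρ.ker = Subgroup.normalClosure (rels : Set (FreeGroup (Fin n))))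
    [Group.FG (hopfM ρ)] :
    Group.rank (hopfM ρ) ≤ rels.card - n := by
  classical
  let Z := Subgroup.center (FreeGroup (Fin n) ⧸ uceK ρ)
  have hrelZ : ∀ r ∈ rels, (QuotientGroup.mk r : FreeGroup (Fin n) ⧸ uceK ρ) ∈ Z := by
    intro r hr
    apply uceMap_ker_le_center ρ
    rw [MonoidHom.mem_ker, uceMap_mk, ← MonoidHom.mem_ker, hker]
    exact Subgroup.subset_normalClosure hr
  let v : ↥rels → Additive Z := fun r => Additive.ofMul ⟨QuotientGroup.mk r.1, hrelZ r.1 r.2⟩
  let π : (↥rels →₀ ℤ) →ₗ[ℤ] Additive Z := Finsupp.linearCombination ℤ v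
  let φ0 : Z →* Abelianization (FreeGroup (Fin n)) := (hopfAb ρ).comp Z.subtype
  let φ : Additive Z →+ (Fin n →₀ ℤ) :=
    ((toFAG (Fin n)).trans (FreeAbelianGroup.equivFinsupp (Fin n))).toAddMonoidHom.comp
      (MonoidHom.toAdditive φ0)
  have hφ : ∀ z : Z, φ (Additive.ofMul z) = 0 ↔
      (z : FreeGroup (Fin n) ⧸ uceK ρ) ∈ commutator (FreeGroup (Fin n) ⧸ uceK ρ) := by
    intro z
    rw [← hopfAb_ker]
    show ((toFAG (Fin n)).trans (FreeAbelianGroup.equivFinsupp (Fin n)))
      (Additive.ofMul (hopfAb ρ z)) = 0 ↔ _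
    rw [AddEquiv.map_eq_zero_iff, MonoidHom.mem_ker]
    rfl
  let Ψ : (↥rels →₀ ℤ) →ₗ[ℤ] (Fin n →₀ ℤ) := φ.toIntLinearMap ∘ₗ π
  -- the subgroup generated by the relators
  let C : Subgroup (FreeGroup (Fin n) ⧸ uceK ρ) :=
    { carrier := {x | ∃ c : ↥rels →₀ ℤ,
        (((π c).toMul : Z) : FreeGroup (Fin n) ⧸ uceK ρ) = x}
      one_mem' := ⟨0, by simp⟩
      mul_mem' := by
        rintro _ _ ⟨c, rfl⟩ ⟨d, rfl⟩
        exact ⟨c + d, by simp [map_add]⟩
      inv_mem' := by
        rintro _ ⟨c, rfl⟩
        exact ⟨-c, by simp [map_neg]⟩ }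
  have hCZ : C ≤ Z := by
    rintro _ ⟨c, rfl⟩
    exact (π c).toMul.2
  haveI : C.Normal := normal_of_le_center C hCZ
  have hrelC : (rels : Set (FreeGroup (Fin n))) ⊆
      (C.comap (QuotientGroup.mk' (uceK ρ)) : Set (FreeGroup (Fin n))) := by
    intro r hr
    refine ⟨Finsupp.single ⟨r, hr⟩ 1, ?_⟩
    simp [π, v]
  have hncl : Subgroup.normalClosure (rels : Set (FreeGroup (Fin n))) ≤
      C.comap (QuotientGroup.mk' (uceK ρ)) :=
    Subgroup.normalClosure_le_normal hrelC
  have hA : ∀ x ∈ (uceMap ρ).ker, ∃ c : ↥rels →₀ ℤ,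
      (((π c).toMul : Z) : FreeGroup (Fin n) ⧸ uceK ρ) = x := by
    intro x hx
    obtain ⟨f, rfl⟩ := QuotientGroup.mk_surjective x
    rw [MonoidHom.mem_ker, uceMap_mk, ← MonoidHom.mem_ker, hker] at hx
    exact hncl hx
  -- every element in the range of `π` is in the kernel
  have hC : ∀ c : ↥rels →₀ ℤ,
      (((π c).toMul : Z) : FreeGroup (Fin n) ⧸ uceK ρ) ∈ (uceMap ρ).ker := by
    intro c
    let L₀ : Submodule ℤ (Additive Z) :=
      AddSubgroup.toIntSubmodule (Subgroup.toAddSubgroup ((uceMap ρ).ker.subgroupOf Z))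
    have hle : LinearMap.range π ≤ L₀ := by
      rw [Finsupp.range_linearCombination, Submodule.span_le]
      rintro _ ⟨r, rfl⟩
      show (QuotientGroup.mk r.1 : FreeGroup (Fin n) ⧸ uceK ρ) ∈ (uceMap ρ).ker
      rw [MonoidHom.mem_ker, uceMap_mk, ← MonoidHom.mem_ker, hker]
      exact Subgroup.subset_normalClosure r.2
    exact hle ⟨c, rfl⟩
  have hB : ∀ i, (Nat.card Q : ℤ) • Finsupp.single i (1:ℤ) ∈ LinearMap.range Ψ := by
    intro i
    have hx : (QuotientGroup.mk (FreeGroup.of i) : FreeGroup (Fin n) ⧸ uceK ρ) ^ Nat.card Q ∈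
        (uceMap ρ).ker := by
      rw [MonoidHom.mem_ker, map_pow, uceMap_mk, pow_card_eq_one']
    obtain ⟨c, hc⟩ := hA _ hx
    refine ⟨c, ?_⟩
    show φ (π c) = _
    have h1 : π c = Additive.ofMul (⟨(QuotientGroup.mk (FreeGroup.of i) :
        FreeGroup (Fin n) ⧸ uceK ρ) ^ Nat.card Q, uceMap_ker_le_center ρ hx⟩ : Z) := by
      apply Additive.toMul.injective
      apply Subtype.ext
      exact hc
    rw [h1]
    show (FreeAbelianGroup.equivFinsupp (Fin n)) ((toFAG (Fin n)) (Additive.ofMul
      (hopfAb ρ ((QuotientGroup.mk (FreeGroup.of i) : FreeGroup (Fin n) ⧸ uceK ρ) ^ Nat.card Q)))) = _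
    rw [map_pow, hopfAb_mk, ofMul_pow, map_nsmul, map_nsmul]
    have h2 : toFAG (Fin n) (Additive.ofMul (Abelianization.of (FreeGroup.of i))) =
        FreeAbelianGroup.of i := rfl
    rw [h2]
    simp
  have hN : (Nat.card Q : ℤ) ≠ 0 := by
    have : 0 < Nat.card Q := Nat.card_pos
    exact_mod_cast this.ne'
  have hfr := finrank_ker_add_of_smul_mem_range Ψ (Nat.card Q) hN hB
  rw [Fintype.card_coe] at hfr
  -- the surjection from the kernel
  have hKmem : ∀ c : LinearMap.ker Ψ,
      (((π c.1).toMul : Z) : FreeGroup (Fin n) ⧸ uceK ρ) ∈ hopfM ρ := by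
    intro c
    refine ⟨?_, hC c.1⟩
    exact (hφ ((π c.1).toMul)).1 c.2
  let θ : Multiplicative (LinearMap.ker Ψ) →* hopfM ρ :=
    { toFun := fun c => ⟨(((π (Multiplicative.toAdd c).1).toMul : Z) :
        FreeGroup (Fin n) ⧸ uceK ρ), hKmem _⟩
      map_one' := Subtype.ext (by simp)
      map_mul' := fun a b => Subtype.ext (by simp [map_add]) }
  have hθ : Function.Surjective θ := by
    rintro ⟨x, hx⟩
    obtain ⟨c, hc⟩ := hA x hx.2
    have hcK : c ∈ LinearMap.ker Ψ := by
      rw [LinearMap.mem_ker]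
      show φ (π c) = 0
      have : π c = Additive.ofMul (⟨x, uceMap_ker_le_center ρ hx.2⟩ : Z) := by
        apply Additive.toMul.injective
        apply Subtype.ext
        exact hc
      rw [this, hφ]
      exact hx.1
    exact ⟨Multiplicative.ofAdd ⟨c, hcK⟩, Subtype.ext hc⟩
  haveI : Group.FG (Multiplicative (LinearMap.ker Ψ)) :=
    AddGroup.fg_iff_mul_fg.1 (Module.Finite.iff_addGroup_fg.1 inferInstance)
  have h1 := Group.rank_le_of_surjective θ hθ
  have h2 := rank_multiplicative_le (LinearMap.ker Ψ)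
  omega

/-- If a finite group is presented by `n` generators and a finite set of `r` relators, then its Schur multiplier can be generated by `r - n` elements. In particular a finite group with a presentation having as many relators as generators has trivial Schur multiplier. -/
theorem result (n : ℕ) (rels : Finset (FreeGroup (Fin n))) [Finite (PresentedGroup (rels : Set (FreeGroup (Fin n))))] {A : Type*} [CommGroup A] [Finite A] (hA : Cfsg.HasSchurMultiplier (PresentedGroup (rels : Set (FreeGroup (Fin n)))) A) : Group.rank A ≤ rels.card - n := by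
  have hρ : Function.Surjective (PresentedGroup.mk (rels : Set (FreeGroup (Fin n)))) :=
    QuotientGroup.mk'_surjective _
  obtain ⟨e⟩ := (hasSchurMultiplier_iff (PresentedGroup.mk (rels : Set (FreeGroup (Fin n)))) hρ A).1 hA
  haveI := finite_hopfM (PresentedGroup.mk (rels : Set (FreeGroup (Fin n))))
  have hker : (PresentedGroup.mk (rels : Set (FreeGroup (Fin n)))).ker =
      Subgroup.normalClosure (rels : Set (FreeGroup (Fin n))) := QuotientGroup.ker_mk' _
  have h1 := rank_hopfM_le (PresentedGroup.mk (rels : Set (FreeGroup (Fin n)))) rels hker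
  have h2 := Group.rank_le_of_surjective e.symm.toMonoidHom e.symm.surjective
  exact h2.trans h1

end Cfsg.Agent.S3973
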