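import Mathlib
import Cfsg.Statements.S3974
import Cfsg.Agent.Lib.Helper66.Hopf
-- import your own Cfsg.Agent.* helpers here

set_option autoImplicit false
universe u v w u'
open Cfsg

namespace Cfsg.Agent.S3974

open Cfsg.Agent.Lib.Helper66
open scoped commutatorElement

theorem exists_zpow_pow_eq {G : Type*} [Group G] (g : G) (m n : ℕ) (h : n.Coprime m)
    (hg : g ^ m = 1) : ∃ a : ℤ, (g ^ a) ^ n = g := by
  refine ⟨n.gcdA m, ?_⟩
  have h1 : ((n.gcd m : ℕ) : ℤ) = n * n.gcdA m + m * n.gcdB m := Nat.gcd_eq_gcd_ab n m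
  rw [h] at h1
  have h2 : g ^ ((n : ℤ) * n.gcdA m + m * n.gcdB m) = g := by
    rw [← h1]; simp
  rw [zpow_add, zpow_mul, zpow_mul, zpow_natCast, zpow_natCast, hg, one_zpow, mul_one] at h2
  rw [← zpow_natCast, ← zpow_mul, mul_comm, zpow_mul, zpow_natCast]
  exact h2

theorem map_commutator_of_surjective {G H : Type*} [Group G] [Group H] (f : G →* H)
    (hf : Function.Surjective f) : (commutator G).map f = commutator H := by
  rw [commutator_def, commutator_def, Subgroup.map_commutator,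
    Subgroup.map_top_of_surjective f hf]

section triangle

variable {Q : Type u} [Group Q] {A : Type v} [CommGroup A]
  {T : Type w} [Group T] {Γ : Type u'} [Group Γ]
  (ξ : T →* Q) (σ : Γ →* Q) (f : T →* Γ)

include ξ σ in
theorem commutator_inf_ker_eq_bot [Finite A] (hA : Cfsg.HasSchurMultiplier Q A)
    (hξ : Function.Surjective ξ)
    (hξc : ξ.ker ≤ Subgroup.center T) (hf : Function.Surjective f)
    (hσ : σ.ker ≤ commutator Γ) (hcomp : ∀ t, σ (f t) = ξ t)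
    (hcard : Nat.card A ≤ Nat.card σ.ker) : commutator T ⊓ f.ker = ⊥ := by
  obtain ⟨π, hπ⟩ := exists_hom_range_eq_of_hasSchurMultiplier hA ξ hξ hξc
  have hπmem : ∀ a, π a ∈ commutator T ⊓ ξ.ker := fun a => hπ ▸ ⟨a, rfl⟩
  have hg0 : ∀ a, f (π a) ∈ σ.ker := fun a => by
    rw [MonoidHom.mem_ker, hcomp]; exact MonoidHom.mem_ker.1 (hπmem a).2
  let g : A → σ.ker := fun a => ⟨f (π a), hg0 a⟩
  have hgs : Function.Surjective g := by
    rintro ⟨a', ha'⟩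
    have h1 : a' ∈ (commutator T).map f := by
      rw [map_commutator_of_surjective f hf]; exact hσ ha'
    obtain ⟨t, ht, hta⟩ := h1
    have h2 : t ∈ commutator T ⊓ ξ.ker := by
      refine ⟨ht, ?_⟩
      show t ∈ ξ.ker
      rw [MonoidHom.mem_ker, ← hcomp, hta]; exact MonoidHom.mem_ker.1 ha'
    rw [← hπ] at h2
    obtain ⟨a, rfl⟩ := h2
    exact ⟨a, Subtype.ext hta⟩
  have hgb := hgs.bijective_of_nat_card_le hcard
  rw [eq_bot_iff]
  rintro t ⟨ht1, ht2⟩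
  have ht2' : f t = 1 := MonoidHom.mem_ker.1 ht2
  have h2 : t ∈ commutator T ⊓ ξ.ker := by
    refine ⟨ht1, ?_⟩
    show t ∈ ξ.ker
    rw [MonoidHom.mem_ker, ← hcomp, ht2', map_one]
  rw [← hπ] at h2
  obtain ⟨a, rfl⟩ := h2
  have h3 : g a = g 1 := by
    apply Subtype.ext
    show f (π a) = f (π 1)
    rw [ht2', map_one, map_one]
  have h4 := hgb.1 h3
  rw [h4, map_one]
  exact Subgroup.one_mem _

include ξ σ in
theorem exists_lift_pow_mem (hξ : Function.Surjective ξ)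
    (hξc : ξ.ker ≤ Subgroup.center T) (hf : Function.Surjective f)
    (hσ : σ.ker ≤ commutator Γ) (hcomp : ∀ t, σ (f t) = ξ t)
    (m n : ℕ) (hmn : n.Coprime m) (hn : ∀ q : Q, q ^ n ∈ commutator Q)
    (hm : ∀ t ∈ f.ker, t ^ m = 1) (x : Γ) :
    ∃ t : T, f t = x ∧ t ^ n ∈ commutator T := by
  have hfξ : f.ker ≤ ξ.ker := by
    intro t ht
    rw [MonoidHom.mem_ker, ← hcomp, MonoidHom.mem_ker.1 ht, map_one]
  obtain ⟨t₀, ht₀⟩ := hf x
  have h1 : ξ (t₀ ^ n) ∈ (commutator T).map ξ := by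
    rw [map_commutator_of_surjective ξ hξ, map_pow]; exact hn _
  obtain ⟨c, hc, hcξ⟩ := h1
  have hz : c⁻¹ * t₀ ^ n ∈ ξ.ker := by
    rw [MonoidHom.mem_ker, map_mul, map_inv, hcξ, inv_mul_cancel]
  have h2 : f (c⁻¹ * t₀ ^ n) ∈ (commutator T).map f := by
    rw [map_commutator_of_surjective f hf]
    apply hσ
    rw [MonoidHom.mem_ker, hcomp]; exact MonoidHom.mem_ker.1 hz
  obtain ⟨c', hc', hc'f⟩ := h2
  have hk₀ : c'⁻¹ * (c⁻¹ * t₀ ^ n) ∈ f.ker := by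
    rw [MonoidHom.mem_ker, map_mul, map_inv, hc'f, inv_mul_cancel]
  set k₀ := c'⁻¹ * (c⁻¹ * t₀ ^ n) with hk₀def
  obtain ⟨a, ha⟩ := exists_zpow_pow_eq k₀ m n hmn (hm k₀ hk₀)
  have hka : (k₀ ^ a)⁻¹ ∈ f.ker := Subgroup.inv_mem _ (Subgroup.zpow_mem _ hk₀ a)
  have hkc : (k₀ ^ a)⁻¹ ∈ Subgroup.center T := hξc (hfξ hka)
  refine ⟨t₀ * (k₀ ^ a)⁻¹, ?_, ?_⟩
  · rw [map_mul, MonoidHom.mem_ker.1 hka, mul_one, ht₀]
  · have hcomm : Commute t₀ (k₀ ^ a)⁻¹ := by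
      have := Subgroup.mem_center_iff.1 hkc t₀
      exact this
    rw [hcomm.mul_pow, inv_pow, ha]
    have : t₀ ^ n * k₀⁻¹ = c * c' := by
      rw [hk₀def]; group
    rw [this]
    exact Subgroup.mul_mem _ hc hc'

include ξ σ in
theorem eq_one_of_pow_mem [Finite A] (hA : Cfsg.HasSchurMultiplier Q A)
    (hξ : Function.Surjective ξ)
    (hξc : ξ.ker ≤ Subgroup.center T) (hf : Function.Surjective f)
    (hσ : σ.ker ≤ commutator Γ) (hcomp : ∀ t, σ (f t) = ξ t)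
    (hcard : Nat.card A ≤ Nat.card σ.ker)
    (m n : ℕ) (hmn : n.Coprime m)
    (hm : ∀ t ∈ f.ker, t ^ m = 1) (t : T) (ht : t ∈ f.ker) (htn : t ^ n ∈ commutator T) :
    t = 1 := by
  have h0 := commutator_inf_ker_eq_bot ξ σ f hA hξ hξc hf hσ hcomp hcard
  have h1 : t ^ n ∈ commutator T ⊓ f.ker := ⟨htn, Subgroup.pow_mem _ ht n⟩
  rw [h0, Subgroup.mem_bot] at h1
  have h2 : t ^ (n.gcd m) = 1 := pow_gcd_eq_one.2 ⟨h1, hm t ht⟩
  rw [hmn, pow_one] at h2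
  exact h2

end triangle

section fibre

variable {Q : Type u} [Group Q] {Γ₁ : Type v} {Γ₂ : Type w} [Group Γ₁] [Group Γ₂]
  (σ₁ : Γ₁ →* Q) (σ₂ : Γ₂ →* Q)

/-- the fibre product -/
def fib : Subgroup (Γ₁ × Γ₂) :=
  (σ₁.comp (MonoidHom.fst Γ₁ Γ₂)).eqLocus (σ₂.comp (MonoidHom.snd Γ₁ Γ₂))

theorem mem_fib (x : Γ₁ × Γ₂) : x ∈ fib σ₁ σ₂ ↔ σ₁ x.1 = σ₂ x.2 := Iff.rfl

def fibFst : fib σ₁ σ₂ →* Γ₁ := (MonoidHom.fst Γ₁ Γ₂).comp (fib σ₁ σ₂).subtype
def fibSnd : fib σ₁ σ₂ →* Γ₂ := (MonoidHom.snd Γ₁ Γ₂).comp (fib σ₁ σ₂).subtype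
def fibMap : fib σ₁ σ₂ →* Q := σ₁.comp (fibFst σ₁ σ₂)

theorem fibFst_apply (t : fib σ₁ σ₂) : fibFst σ₁ σ₂ t = (t : Γ₁ × Γ₂).1 := rfl
theorem fibSnd_apply (t : fib σ₁ σ₂) : fibSnd σ₁ σ₂ t = (t : Γ₁ × Γ₂).2 := rfl
theorem fibMap_apply (t : fib σ₁ σ₂) : fibMap σ₁ σ₂ t = σ₁ (t : Γ₁ × Γ₂).1 := rfl
theorem fibMap_apply' (t : fib σ₁ σ₂) : fibMap σ₁ σ₂ t = σ₂ (t : Γ₁ × Γ₂).2 := t.2

theorem fibFst_surjective (h₂ : Function.Surjective σ₂) : Function.Surjective (fibFst σ₁ σ₂) := by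
  intro x
  obtain ⟨y, hy⟩ := h₂ (σ₁ x)
  exact ⟨⟨(x, y), hy.symm⟩, rfl⟩

theorem fibSnd_surjective (h₁ : Function.Surjective σ₁) : Function.Surjective (fibSnd σ₁ σ₂) := by
  intro y
  obtain ⟨x, hx⟩ := h₁ (σ₂ y)
  exact ⟨⟨(x, y), hx⟩, rfl⟩

theorem fibMap_surjective (h₁ : Function.Surjective σ₁) (h₂ : Function.Surjective σ₂) :
    Function.Surjective (fibMap σ₁ σ₂) := by
  intro q
  obtain ⟨x, hx⟩ := h₁ q
  obtain ⟨t, ht⟩ := fibFst_surjective σ₁ σ₂ h₂ x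
  exact ⟨t, by rw [fibMap, MonoidHom.comp_apply, ht, hx]⟩

theorem fibMap_ker_le_center (h₁ : σ₁.ker ≤ Subgroup.center Γ₁) (h₂ : σ₂.ker ≤ Subgroup.center Γ₂) :
    (fibMap σ₁ σ₂).ker ≤ Subgroup.center (fib σ₁ σ₂) := by
  intro t ht
  have ht1 : (t : Γ₁ × Γ₂).1 ∈ σ₁.ker := by
    rw [MonoidHom.mem_ker, ← fibMap_apply]; exact MonoidHom.mem_ker.1 ht
  have ht2 : (t : Γ₁ × Γ₂).2 ∈ σ₂.ker := by
    rw [MonoidHom.mem_ker, ← fibMap_apply']; exact MonoidHom.mem_ker.1 ht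
  rw [Subgroup.mem_center_iff]
  intro s
  apply Subtype.ext
  apply Prod.ext
  · exact Subgroup.mem_center_iff.1 (h₁ ht1) _
  · exact Subgroup.mem_center_iff.1 (h₂ ht2) _

theorem pow_eq_one_of_mem_ker_fibFst (m : ℕ) (hm : ∀ y ∈ σ₂.ker, y ^ m = 1)
    (t : fib σ₁ σ₂) (ht : t ∈ (fibFst σ₁ σ₂).ker) : t ^ m = 1 := by
  have ht1 : (t : Γ₁ × Γ₂).1 = 1 := MonoidHom.mem_ker.1 ht
  have ht2 : (t : Γ₁ × Γ₂).2 ∈ σ₂.ker := by
    rw [MonoidHom.mem_ker, ← fibMap_apply', fibMap_apply, ht1, map_one]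
  apply Subtype.ext
  apply Prod.ext
  · show ((t : Γ₁ × Γ₂) ^ m).1 = 1
    rw [Prod.pow_fst, ht1, one_pow]
  · show ((t : Γ₁ × Γ₂) ^ m).2 = 1
    rw [Prod.pow_snd, hm _ ht2]

theorem pow_eq_one_of_mem_ker_fibSnd (m : ℕ) (hm : ∀ y ∈ σ₁.ker, y ^ m = 1)
    (t : fib σ₁ σ₂) (ht : t ∈ (fibSnd σ₁ σ₂).ker) : t ^ m = 1 := by
  have ht2 : (t : Γ₁ × Γ₂).2 = 1 := MonoidHom.mem_ker.1 ht
  have ht1 : (t : Γ₁ × Γ₂).1 ∈ σ₁.ker := by
    rw [MonoidHom.mem_ker, ← fibMap_apply, fibMap_apply', ht2, map_one]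
  apply Subtype.ext
  apply Prod.ext
  · show ((t : Γ₁ × Γ₂) ^ m).1 = 1
    rw [Prod.pow_fst, hm _ ht1]
  · show ((t : Γ₁ × Γ₂) ^ m).2 = 1
    rw [Prod.pow_snd, ht2, one_pow]

end fibre

/-- the subgroup of elements whose `n`-th power is in the commutator subgroup -/
def powComm (T : Type*) [Group T] (n : ℕ) : Subgroup T :=
  ((powMonoidHom n : Abelianization T →* Abelianization T).comp Abelianization.of).ker

theorem mem_powComm {T : Type*} [Group T] (n : ℕ) (t : T) :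
    t ∈ powComm T n ↔ t ^ n ∈ commutator T := by
  rw [powComm, MonoidHom.mem_ker, MonoidHom.comp_apply, powMonoidHom_apply, ← map_pow,
    ← MonoidHom.mem_ker, Abelianization.ker_of]

theorem pow_card_abelianization_mem (Q : Type*) [Group Q] [Finite Q] (q : Q) :
    q ^ Nat.card (Abelianization Q) ∈ commutator Q := by
  rw [← Abelianization.ker_of, MonoidHom.mem_ker, map_pow]
  exact pow_card_eq_one'

theorem unique_of_coprime {Q : Type u} [Group Q] [Finite Q] {A : Type v} [CommGroup A]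
    (hA : Cfsg.HasSchurMultiplier Q A)
    (hcop : Nat.Coprime (Nat.card (Abelianization Q)) (Nat.card A))
    {Γ₁ Γ₂ : Type u} [Group Γ₁] [Finite Γ₁] [Group Γ₂] [Finite Γ₂] (σ₁ : Γ₁ →* Q) (σ₂ : Γ₂ →* Q)
    (h₁ : Cfsg.IsStemExtension σ₁) (h₂ : Cfsg.IsStemExtension σ₂)
    (e₁ : σ₁.ker ≃* A) (e₂ : σ₂.ker ≃* A) :
    ∃ e : Γ₁ ≃* Γ₂, σ₂.comp e.toMonoidHom = σ₁ := by
  haveI : Finite A := Finite.of_equiv _ e₁.toEquiv
  set n := Nat.card (Abelianization Q) with hn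
  set m := Nat.card A with hm
  have hm₁ : ∀ y ∈ σ₁.ker, y ^ m = 1 := by
    intro y hy
    have : (⟨y, hy⟩ : σ₁.ker) ^ Nat.card σ₁.ker = 1 := pow_card_eq_one'
    rw [Nat.card_congr e₁.toEquiv] at this
    exact congrArg Subtype.val this
  have hm₂ : ∀ y ∈ σ₂.ker, y ^ m = 1 := by
    intro y hy
    have : (⟨y, hy⟩ : σ₂.ker) ^ Nat.card σ₂.ker = 1 := pow_card_eq_one'
    rw [Nat.card_congr e₂.toEquiv] at this
    exact congrArg Subtype.val this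
  have hξ := fibMap_surjective σ₁ σ₂ h₁.1 h₂.1
  have hξc := fibMap_ker_le_center σ₁ σ₂ h₁.2.1 h₂.2.1
  have hf₁ := fibFst_surjective σ₁ σ₂ h₂.1
  have hf₂ := fibSnd_surjective σ₁ σ₂ h₁.1
  have hc₁ : ∀ t, σ₁ (fibFst σ₁ σ₂ t) = fibMap σ₁ σ₂ t := fun t => rfl
  have hc₂ : ∀ t, σ₂ (fibSnd σ₁ σ₂ t) = fibMap σ₁ σ₂ t := fun t => (fibMap_apply' σ₁ σ₂ t).symm
  have hcard₁ : Nat.card A ≤ Nat.card σ₁.ker := (Nat.card_congr e₁.toEquiv).ge
  have hcard₂ : Nat.card A ≤ Nat.card σ₂.ker := (Nat.card_congr e₂.toEquiv).ge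
  have hnQ : ∀ q : Q, q ^ n ∈ commutator Q := pow_card_abelianization_mem Q
  set S := powComm (fib σ₁ σ₂) n with hS
  let φ₁ : S →* Γ₁ := (fibFst σ₁ σ₂).comp S.subtype
  let φ₂ : S →* Γ₂ := (fibSnd σ₁ σ₂).comp S.subtype
  have hφ₁ : Function.Bijective φ₁ := by
    constructor
    · rw [injective_iff_map_eq_one]
      intro s hs
      apply Subtype.ext
      exact eq_one_of_pow_mem (fibMap σ₁ σ₂) σ₁ (fibFst σ₁ σ₂) hA hξ hξc hf₁ h₁.2.2 hc₁ hcard₁ m n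
        hcop (pow_eq_one_of_mem_ker_fibFst σ₁ σ₂ m hm₂) s.1 (MonoidHom.mem_ker.2 hs)
        ((mem_powComm n _).1 s.2)
    · intro x
      obtain ⟨t, htx, htn⟩ := exists_lift_pow_mem (fibMap σ₁ σ₂) σ₁ (fibFst σ₁ σ₂) hξ hξc hf₁
        h₁.2.2 hc₁ m n hcop hnQ (pow_eq_one_of_mem_ker_fibFst σ₁ σ₂ m hm₂) x
      exact ⟨⟨t, (mem_powComm n _).2 htn⟩, htx⟩
  have hφ₂ : Function.Bijective φ₂ := by
    constructor
    · rw [injective_iff_map_eq_one]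
      intro s hs
      apply Subtype.ext
      exact eq_one_of_pow_mem (fibMap σ₁ σ₂) σ₂ (fibSnd σ₁ σ₂) hA hξ hξc hf₂ h₂.2.2 hc₂ hcard₂ m n
        hcop (pow_eq_one_of_mem_ker_fibSnd σ₁ σ₂ m hm₁) s.1 (MonoidHom.mem_ker.2 hs)
        ((mem_powComm n _).1 s.2)
    · intro x
      obtain ⟨t, htx, htn⟩ := exists_lift_pow_mem (fibMap σ₁ σ₂) σ₂ (fibSnd σ₁ σ₂) hξ hξc hf₂
        h₂.2.2 hc₂ m n hcop hnQ (pow_eq_one_of_mem_ker_fibSnd σ₁ σ₂ m hm₁) x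
      exact ⟨⟨t, (mem_powComm n _).2 htn⟩, htx⟩
  let E₁ : S ≃* Γ₁ := MulEquiv.ofBijective φ₁ hφ₁
  let E₂ : S ≃* Γ₂ := MulEquiv.ofBijective φ₂ hφ₂
  refine ⟨E₁.symm.trans E₂, ?_⟩
  apply MonoidHom.ext
  intro x
  obtain ⟨s, rfl⟩ := E₁.surjective x
  show σ₂ (E₂ (E₁.symm (E₁ s))) = σ₁ (E₁ s)
  rw [MulEquiv.symm_apply_apply]
  show σ₂ (fibSnd σ₁ σ₂ s.1) = σ₁ (fibFst σ₁ σ₂ s.1)
  rw [hc₂, hc₁]

section twist

variable {Γ : Type u} [Group Γ] (a₀ : Subgroup.center Γ) (n : ℕ)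

/-- the generator of the subgroup we divide by -/
def twGen : Γ × Multiplicative ℤ := ((a₀ : Γ)⁻¹, Multiplicative.ofAdd (n : ℤ))

theorem twGen_zpow (j : ℤ) :
    twGen a₀ n ^ j = (((a₀ : Γ) ^ j)⁻¹, Multiplicative.ofAdd (j * (n : ℤ))) := by
  apply Prod.ext
  · show ((a₀ : Γ)⁻¹) ^ j = _
    rw [inv_zpow]
  · show (Multiplicative.ofAdd (n : ℤ)) ^ j = _
    rw [← ofAdd_zsmul, smul_eq_mul]

def twZ : Subgroup (Γ × Multiplicative ℤ) := Subgroup.zpowers (twGen a₀ n)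

theorem mem_twZ (x : Γ × Multiplicative ℤ) :
    x ∈ twZ a₀ n ↔ ∃ j : ℤ, x.1 = ((a₀ : Γ) ^ j)⁻¹ ∧ Multiplicative.toAdd x.2 = j * (n : ℤ) := by
  rw [twZ, Subgroup.mem_zpowers_iff]
  constructor
  · rintro ⟨j, rfl⟩
    refine ⟨j, ?_, ?_⟩ <;> rw [twGen_zpow] <;> rfl
  · rintro ⟨j, h1, h2⟩
    refine ⟨j, ?_⟩
    rw [twGen_zpow]
    apply Prod.ext
    · exact h1.symm
    · show Multiplicative.ofAdd (j * (n : ℤ)) = x.2
      rw [← h2]; rfl

theorem twZ_le_center : twZ a₀ n ≤ Subgroup.center (Γ × Multiplicative ℤ) := by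
  rw [twZ, Subgroup.zpowers_le, Subgroup.mem_center_iff]
  rintro ⟨g, k⟩
  apply Prod.ext
  · show g * (a₀ : Γ)⁻¹ = (a₀ : Γ)⁻¹ * g
    have h := Subgroup.mem_center_iff.1 a₀.2 g
    have : (a₀ : Γ)⁻¹ ∈ Subgroup.center Γ := Subgroup.inv_mem _ a₀.2
    exact Subgroup.mem_center_iff.1 this g
  · exact mul_comm _ _

instance twZ_normal : (twZ a₀ n).Normal := normal_of_le_center _ (twZ_le_center a₀ n)

/-- the ambient group -/
abbrev TwW : Type u := (Γ × Multiplicative ℤ) ⧸ twZ a₀ n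

/-- `Γ → W` -/
def twLam : Γ →* TwW a₀ n := (QuotientGroup.mk' (twZ a₀ n)).comp (MonoidHom.inl Γ (Multiplicative ℤ))

theorem twLam_apply (g : Γ) : twLam a₀ n g = QuotientGroup.mk (g, 1) := rfl

theorem mk_eq_one_iff (g : Γ) (k : ℤ) :
    (QuotientGroup.mk (g, Multiplicative.ofAdd k) : TwW a₀ n) = 1 ↔
      ∃ j : ℤ, g = ((a₀ : Γ) ^ j)⁻¹ ∧ k = j * (n : ℤ) := by
  rw [QuotientGroup.eq_one_iff, mem_twZ]
  rfl

theorem mk_mem_center (g : Γ) (hg : g ∈ Subgroup.center Γ) (k : Multiplicative ℤ) :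
    (QuotientGroup.mk (g, k) : TwW a₀ n) ∈ Subgroup.center (TwW a₀ n) := by
  rw [Subgroup.mem_center_iff]
  intro w
  obtain ⟨⟨g', k'⟩, rfl⟩ := QuotientGroup.mk_surjective w
  rw [← QuotientGroup.mk_mul, ← QuotientGroup.mk_mul]
  congr 1
  apply Prod.ext
  · exact Subgroup.mem_center_iff.1 hg g'
  · exact mul_comm _ _

/-- normal form: move multiples of `n` into the first coordinate -/
theorem mk_add_mul (g : Γ) (k j : ℤ) :
    (QuotientGroup.mk (g, Multiplicative.ofAdd (k + j * (n : ℤ))) : TwW a₀ n) =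
      QuotientGroup.mk (g * (a₀ : Γ) ^ j, Multiplicative.ofAdd k) := by
  rw [QuotientGroup.eq, mem_twZ]
  refine ⟨-j, ?_, ?_⟩
  · show (g, Multiplicative.ofAdd (k + j * (n : ℤ)))⁻¹.1 * (g * (a₀ : Γ) ^ j) = _
    show g⁻¹ * (g * (a₀ : Γ) ^ j) = _
    rw [inv_mul_cancel_left, zpow_neg, inv_inv]
  · show -(k + j * (n : ℤ)) + k = -j * (n : ℤ)
    ring

variable {Q : Type v} [Group Q] (σ : Γ →* Q) (χ : Q →* Multiplicative (ZMod n))

/-- the projection `W → Q` -/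
def twSig (h : (a₀ : Γ) ∈ σ.ker) : TwW a₀ n →* Q :=
  QuotientGroup.lift (twZ a₀ n) (σ.comp (MonoidHom.fst Γ (Multiplicative ℤ))) (by
    rw [twZ, Subgroup.zpowers_le, MonoidHom.mem_ker]
    show σ ((a₀ : Γ)⁻¹) = 1
    rw [map_inv, MonoidHom.mem_ker.1 h, inv_one])

theorem twSig_mk (h : (a₀ : Γ) ∈ σ.ker) (g : Γ) (k : Multiplicative ℤ) :
    twSig a₀ n σ h (QuotientGroup.mk (g, k)) = σ g := rfl

/-- the integer-cast hom -/
def castHom : Multiplicative ℤ →* Multiplicative (ZMod n) :=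
  AddMonoidHom.toMultiplicative (Int.castAddHom (ZMod n))

theorem castHom_apply (k : ℤ) : castHom n (Multiplicative.ofAdd k) = Multiplicative.ofAdd (k : ZMod n) :=
  rfl

/-- the twisting character on `Γ × ℤ` -/
def twTheta₀ : Γ × Multiplicative ℤ →* Multiplicative (ZMod n) :=
  ((χ.comp σ).comp (MonoidHom.fst Γ (Multiplicative ℤ)))⁻¹ *
    (castHom n).comp (MonoidHom.snd Γ (Multiplicative ℤ))

theorem twTheta₀_apply (g : Γ) (k : ℤ) :
    twTheta₀ n σ χ (g, Multiplicative.ofAdd k) = (χ (σ g))⁻¹ * Multiplicative.ofAdd (k : ZMod n) := rfl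

def twTheta (h : (a₀ : Γ) ∈ σ.ker) : TwW a₀ n →* Multiplicative (ZMod n) :=
  QuotientGroup.lift (twZ a₀ n) (twTheta₀ n σ χ) (by
    rw [twZ, Subgroup.zpowers_le, MonoidHom.mem_ker]
    show twTheta₀ n σ χ ((a₀ : Γ)⁻¹, Multiplicative.ofAdd (n : ℤ)) = 1
    rw [twTheta₀_apply, map_inv, MonoidHom.mem_ker.1 h, inv_one, map_one, inv_one, one_mul]
    simp)

theorem twTheta_mk (h : (a₀ : Γ) ∈ σ.ker) (g : Γ) (k : ℤ) :
    twTheta a₀ n σ χ h (QuotientGroup.mk (g, Multiplicative.ofAdd k)) =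
      (χ (σ g))⁻¹ * Multiplicative.ofAdd (k : ZMod n) := rfl

end twist

section twist2

variable {Γ : Type u} [Group Γ] (a₀ : Subgroup.center Γ) (n : ℕ)
  {Q : Type v} [Group Q] (σ : Γ →* Q) (χ : Q →* Multiplicative (ZMod n)) (h : (a₀ : Γ) ∈ σ.ker)

/-- the twisted cover -/
abbrev TwG : Subgroup (TwW a₀ n) := (twTheta a₀ n σ χ h).ker

/-- its projection to `Q` -/
def twSig' : TwG a₀ n σ χ h →* Q := (twSig a₀ n σ h).comp (TwG a₀ n σ χ h).subtype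

theorem twSig'_apply (w : TwG a₀ n σ χ h) : twSig' a₀ n σ χ h w = twSig a₀ n σ h w.1 := rfl

/-- a lift of `g : Γ` to the twisted cover -/
def twLift (g : Γ) : TwG a₀ n σ χ h :=
  ⟨QuotientGroup.mk (g, Multiplicative.ofAdd ((Multiplicative.toAdd (χ (σ g))).cast : ℤ)), by
    rw [MonoidHom.mem_ker, twTheta_mk, ZMod.intCast_zmod_cast]
    exact inv_mul_cancel _⟩

theorem twSig'_twLift (g : Γ) : twSig' a₀ n σ χ h (twLift a₀ n σ χ h g) = σ g := rfl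

theorem twSig'_surjective (hσ : Function.Surjective σ) :
    Function.Surjective (twSig' a₀ n σ χ h) := by
  intro q
  obtain ⟨g, rfl⟩ := hσ q
  exact ⟨twLift a₀ n σ χ h g, rfl⟩

theorem twLam_mem (a : Γ) (ha : a ∈ σ.ker) : twLam a₀ n a ∈ TwG a₀ n σ χ h := by
  rw [MonoidHom.mem_ker, twLam_apply]
  show twTheta a₀ n σ χ h (QuotientGroup.mk (a, Multiplicative.ofAdd (0 : ℤ))) = 1
  rw [twTheta_mk, MonoidHom.mem_ker.1 ha, map_one, inv_one, one_mul]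
  simp

/-- elements of the kernel of the twisted cover come from `ker σ` -/
theorem exists_of_mem_ker (w : TwG a₀ n σ χ h) (hw : w ∈ (twSig' a₀ n σ χ h).ker) :
    ∃ a ∈ σ.ker, w.1 = twLam a₀ n a := by
  obtain ⟨w, hwΘ⟩ := w
  obtain ⟨⟨g, k⟩, rfl⟩ := QuotientGroup.mk_surjective w
  have h1 : σ g = 1 := MonoidHom.mem_ker.1 hw
  have h2 : twTheta a₀ n σ χ h (QuotientGroup.mk (g, Multiplicative.ofAdd (Multiplicative.toAdd k))) = 1 :=
    MonoidHom.mem_ker.1 hwΘ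
  rw [twTheta_mk, h1, map_one, inv_one, one_mul] at h2
  have h3 : ((Multiplicative.toAdd k : ℤ) : ZMod n) = 0 := by
    have := congrArg Multiplicative.toAdd h2
    simpa using this
  rw [ZMod.intCast_zmod_eq_zero_iff_dvd] at h3
  obtain ⟨j, hj⟩ := h3
  refine ⟨g * (a₀ : Γ) ^ j, ?_, ?_⟩
  · rw [MonoidHom.mem_ker, map_mul, map_zpow, h1, MonoidHom.mem_ker.1 h, one_zpow, mul_one]
  · show (QuotientGroup.mk (g, k) : TwW a₀ n) = _
    have : k = Multiplicative.ofAdd (0 + j * (n : ℤ)) := by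
      rw [zero_add, mul_comm, ← hj]; rfl
    rw [this, mk_add_mul, twLam_apply]
    rfl

theorem twSig'_ker_le_center (hσc : σ.ker ≤ Subgroup.center Γ) :
    (twSig' a₀ n σ χ h).ker ≤ Subgroup.center (TwG a₀ n σ χ h) := by
  intro w hw
  obtain ⟨a, ha, hwa⟩ := exists_of_mem_ker a₀ n σ χ h w hw
  rw [Subgroup.mem_center_iff]
  intro w'
  apply Subtype.ext
  show w'.1 * w.1 = w.1 * w'.1
  rw [hwa, twLam_apply]
  exact Subgroup.mem_center_iff.1 (mk_mem_center a₀ n a (hσc ha) 1) w'.1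

theorem twLam_commutator_le :
    commutator Γ ≤ ((commutator (TwG a₀ n σ χ h)).map (TwG a₀ n σ χ h).subtype).comap (twLam a₀ n) := by
  rw [commutator_def, Subgroup.commutator_le]
  intro g₁ _ g₂ _
  rw [Subgroup.mem_comap]
  refine ⟨⁅twLift a₀ n σ χ h g₁, twLift a₀ n σ χ h g₂⁆, ?_, ?_⟩
  · rw [SetLike.mem_coe, commutator_def]
    exact Subgroup.commutator_mem_commutator (Subgroup.mem_top _) (Subgroup.mem_top _)
  · rw [map_commutatorElement]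
    show ⁅(QuotientGroup.mk' (twZ a₀ n)) (g₁, _), (QuotientGroup.mk' (twZ a₀ n)) (g₂, _)⁆ = _
    rw [← map_commutatorElement, twLam_apply]
    show (QuotientGroup.mk _ : TwW a₀ n) = _
    congr 1
    apply Prod.ext
    · rfl
    · exact commutatorElement_eq_one_iff_commute.2 (mul_comm _ _)

theorem twSig'_ker_le_commutator (hσ' : σ.ker ≤ commutator Γ) :
    (twSig' a₀ n σ χ h).ker ≤ commutator (TwG a₀ n σ χ h) := by
  intro w hw
  obtain ⟨a, ha, hwa⟩ := exists_of_mem_ker a₀ n σ χ h w hw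
  have := twLam_commutator_le a₀ n σ χ h (hσ' ha)
  rw [Subgroup.mem_comap] at this
  obtain ⟨w', hw', hw'a⟩ := this
  have : w = w' := by
    apply Subtype.ext
    rw [hwa]; exact hw'a.symm
  rw [this]; exact hw'

theorem twSig'_isStem (hσ : Cfsg.IsStemExtension σ) :
    Cfsg.IsStemExtension (twSig' a₀ n σ χ h) :=
  ⟨twSig'_surjective a₀ n σ χ h hσ.1, twSig'_ker_le_center a₀ n σ χ h hσ.2.1,
    twSig'_ker_le_commutator a₀ n σ χ h hσ.2.2⟩

theorem card_ker_le [Finite Γ] :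
    Nat.card (twSig' a₀ n σ χ h).ker ≤ Nat.card σ.ker := by
  let F : σ.ker → (twSig' a₀ n σ χ h).ker := fun a =>
    ⟨⟨twLam a₀ n a.1, twLam_mem a₀ n σ χ h a.1 a.2⟩, by
      rw [MonoidHom.mem_ker, twSig'_apply]
      show twSig a₀ n σ h (twLam a₀ n a.1) = 1
      rw [twLam_apply, twSig_mk]; exact MonoidHom.mem_ker.1 a.2⟩
  apply Nat.card_le_card_of_surjective F
  rintro ⟨w, hw⟩
  obtain ⟨a, ha, hwa⟩ := exists_of_mem_ker a₀ n σ χ h w hw
  refine ⟨⟨a, ha⟩, ?_⟩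
  apply Subtype.ext
  apply Subtype.ext
  exact hwa.symm

theorem finite_TwW [Finite Γ] [NeZero n] : Finite (TwW a₀ n) := by
  let F : Γ × ZMod n → TwW a₀ n := fun x =>
    QuotientGroup.mk (x.1, Multiplicative.ofAdd ((x.2.val : ℕ) : ℤ))
  apply Finite.of_surjective F
  intro w
  obtain ⟨⟨g, k⟩, rfl⟩ := QuotientGroup.mk_surjective w
  refine ⟨(g * (a₀ : Γ) ^ (Multiplicative.toAdd k / (n : ℤ)), ((Multiplicative.toAdd k : ℤ) : ZMod n)), ?_⟩
  show (QuotientGroup.mk (_, Multiplicative.ofAdd _) : TwW a₀ n) = _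
  rw [← mk_add_mul, ZMod.val_intCast, Int.emod_add_ediv_mul]
  rfl

end twist2

section twist3

variable {Γ : Type u} [Group Γ] (a₀ : Subgroup.center Γ) (n : ℕ)
  {Q : Type v} [Group Q] (σ : Γ →* Q) (χ : Q →* Multiplicative (ZMod n)) (h : (a₀ : Γ) ∈ σ.ker)

theorem pow_mem_commutator_of_stem (hσ : Cfsg.IsStemExtension σ) (g : Γ) (k : ℕ)
    (hg : (σ g) ^ k ∈ commutator Q) : g ^ k ∈ commutator Γ := by
  have h1 : σ (g ^ k) ∈ (commutator Γ).map σ := by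
    rw [map_commutator_of_surjective σ hσ.1, map_pow]; exact hg
  obtain ⟨c, hc, hcσ⟩ := h1
  have h2 : c⁻¹ * g ^ k ∈ σ.ker := by
    rw [MonoidHom.mem_ker, map_mul, map_inv, hcσ, inv_mul_cancel]
  have h3 : g ^ k = c * (c⁻¹ * g ^ k) := by rw [mul_inv_cancel_left]
  rw [h3]
  exact Subgroup.mul_mem _ hc (hσ.2.2 h2)

theorem no_iso [NeZero n] (hσ : Cfsg.IsStemExtension σ) (q₀ : Q)
    (hχ : χ q₀ = Multiplicative.ofAdd 1) (hq₀ : q₀ ^ n ∈ commutator Q)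
    (ha₀ : ∀ b ∈ σ.ker, b ^ n ≠ (a₀ : Γ)) (e : Γ ≃* TwG a₀ n σ χ h)
    (he : (twSig' a₀ n σ χ h).comp e.toMonoidHom = σ) : False := by
  have he' : ∀ g, twSig a₀ n σ h (e g).1 = σ g := fun g =>
    congrArg (fun f : Γ →* Q => f g) he
  -- the difference map
  have hker_center : ∀ w : TwW a₀ n, twSig a₀ n σ h w = 1 → w ∈ Subgroup.center (TwW a₀ n) := by
    intro w hw
    obtain ⟨⟨x, k⟩, rfl⟩ := QuotientGroup.mk_surjective w
    have hx : x ∈ σ.ker := MonoidHom.mem_ker.2 hw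
    exact mk_mem_center a₀ n x (hσ.2.1 hx) k
  have hc : ∀ g, (e g).1 * (twLam a₀ n g)⁻¹ ∈ Subgroup.center (TwW a₀ n) := by
    intro g
    apply hker_center
    rw [map_mul, map_inv, he', twLam_apply, twSig_mk, mul_inv_cancel]
  let δ : Γ →* TwW a₀ n := MonoidHom.mk' (fun g => (e g).1 * (twLam a₀ n g)⁻¹) (by
    intro g g'
    have h1 := Subgroup.mem_center_iff.1 (hc g') ((twLam a₀ n g)⁻¹)
    show (e (g * g')).1 * (twLam a₀ n (g * g'))⁻¹ =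
      (e g).1 * (twLam a₀ n g)⁻¹ * ((e g').1 * (twLam a₀ n g')⁻¹)
    rw [mul_assoc ((e g).1), h1, map_mul, map_mul, mul_inv_rev]
    show (e g).1 * (e g').1 * _ = _
    group)
  have hδ : ∀ g, δ g = (e g).1 * (twLam a₀ n g)⁻¹ := fun g => rfl
  have hδc : ∀ g, δ g ∈ Subgroup.center (TwW a₀ n) := hc
  have hδcomm : commutator Γ ≤ δ.ker := by
    rw [commutator_def, Subgroup.commutator_le]
    intro g₁ _ g₂ _
    rw [MonoidHom.mem_ker, map_commutatorElement, commutatorElement_eq_one_iff_commute]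
    exact (Subgroup.mem_center_iff.1 (hδc g₁) (δ g₂)).symm
  obtain ⟨g₀, hg₀⟩ := hσ.1 q₀
  have h1 : g₀ ^ n ∈ commutator Γ := pow_mem_commutator_of_stem σ hσ g₀ n (by rw [hg₀]; exact hq₀)
  have h2 : (δ g₀) ^ n = 1 := by
    rw [← map_pow]; exact MonoidHom.mem_ker.1 (hδcomm h1)
  obtain ⟨⟨x, k'⟩, hxk⟩ := QuotientGroup.mk_surjective (δ g₀)
  obtain ⟨k, hkk'⟩ : ∃ k : ℤ, k' = Multiplicative.ofAdd k := ⟨Multiplicative.toAdd k', rfl⟩
  rw [hkk'] at hxk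
  clear hkk' k'
  have hSg : twSig a₀ n σ h (δ g₀) = 1 := by
    rw [hδ, map_mul, map_inv, he', twLam_apply, twSig_mk, mul_inv_cancel]
  have hx : σ x = 1 := by
    rw [← hxk] at hSg; exact hSg
  have hTh : twTheta a₀ n σ χ h (δ g₀) = Multiplicative.ofAdd 1 := by
    rw [hδ, map_mul, map_inv, MonoidHom.mem_ker.1 (e g₀).2, one_mul, twLam_apply]
    show (twTheta a₀ n σ χ h (QuotientGroup.mk (g₀, Multiplicative.ofAdd (0 : ℤ))))⁻¹ = _
    rw [twTheta_mk, hg₀, hχ]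
    simp
  have hk : ((k : ℤ) : ZMod n) = 1 := by
    rw [← hxk, twTheta_mk, hx, map_one, inv_one, one_mul] at hTh
    exact Multiplicative.ofAdd.injective hTh
  have hk' : (n : ℤ) ∣ k - 1 := by
    rw [← ZMod.intCast_zmod_eq_zero_iff_dvd]
    push_cast
    rw [hk, sub_self]
  obtain ⟨l, hl⟩ := hk'
  have h3 : (QuotientGroup.mk (x ^ n, Multiplicative.ofAdd ((n : ℤ) * k)) : TwW a₀ n) = 1 := by
    rw [← h2, ← hxk, ← QuotientGroup.mk_pow]
    congr 1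
  rw [mk_eq_one_iff] at h3
  obtain ⟨j, hj1, hj2⟩ := h3
  have hn0 : (n : ℤ) ≠ 0 := by
    have := NeZero.ne n
    exact_mod_cast this
  have hjk : j = k := by
    have : (n : ℤ) * j = n * k := by rw [hj2, mul_comm]
    exact (mul_left_cancel₀ hn0 this)
  subst hjk
  have hkl : j = 1 + n * l := by linarith
  have ha₀c : ∀ y : Γ, Commute ((a₀ : Γ)) y := fun y =>
    (Subgroup.mem_center_iff.1 a₀.2 y).symm
  apply ha₀ (x⁻¹ * ((a₀ : Γ) ^ l)⁻¹)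
  · rw [MonoidHom.mem_ker, map_mul, map_inv, map_inv, map_zpow, hx, MonoidHom.mem_ker.1 h,
      one_zpow, inv_one, mul_one]
  · have hcm : Commute (x⁻¹) (((a₀ : Γ) ^ l)⁻¹) :=
      (((ha₀c x).zpow_left l).inv_left).symm.inv_left
    rw [hcm.mul_pow, inv_pow, hj1, inv_inv, inv_pow, ← zpow_natCast ((a₀ : Γ) ^ l) n, ← zpow_mul,
      ← zpow_neg, ← zpow_add, hkl]
    have : 1 + (n : ℤ) * l + -(l * n) = 1 := by ring
    rw [this, zpow_one]

end twist3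

/-- a cyclic direct factor of the abelianization whose order is divisible by `p` -/
theorem exists_cyclic_factor (Q : Type u) [Group Q] [Finite Q] (p : ℕ) (hp : p.Prime)
    (hpQ : p ∣ Nat.card (Abelianization Q)) :
    ∃ (n : ℕ) (χ : Q →* Multiplicative (ZMod n)) (q₀ : Q), 0 < n ∧ p ∣ n ∧
      χ q₀ = Multiplicative.ofAdd 1 ∧ q₀ ^ n ∈ commutator Q := by
  classical
  obtain ⟨ι, _, ν, hν, ⟨E⟩⟩ := CommGroup.equiv_prod_multiplicative_zmod_of_finite (Abelianization Q)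
  have hcard : Nat.card (Abelianization Q) = ∏ i, ν i := by
    rw [Nat.card_congr E.toEquiv, Nat.card_pi]
    apply Finset.prod_congr rfl
    intro i _
    exact Nat.card_zmod (ν i)
  rw [hcard] at hpQ
  obtain ⟨i, _, hi⟩ := (Prime.dvd_finsetProd_iff hp.prime _).1 hpQ
  obtain ⟨q₀, hq₀⟩ := QuotientGroup.mk_surjective (E.symm (Pi.mulSingle i (Multiplicative.ofAdd 1)))
  have hq₀' : Abelianization.of q₀ = E.symm (Pi.mulSingle i (Multiplicative.ofAdd 1)) := hq₀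
  refine ⟨ν i, (Pi.evalMonoidHom _ i).comp (E.toMonoidHom.comp Abelianization.of), q₀,
    lt_trans Nat.zero_lt_one (hν i), hi, ?_, ?_⟩
  · show (E (Abelianization.of q₀)) i = _
    rw [hq₀', MulEquiv.apply_symm_apply, Pi.mulSingle_eq_same]
  · rw [← Abelianization.ker_of, MonoidHom.mem_ker, map_pow, hq₀', ← map_pow]
    have : (Pi.mulSingle i (Multiplicative.ofAdd (1 : ZMod (ν i))) :
        (j : ι) → Multiplicative (ZMod (ν j))) ^ (ν i) = 1 := by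
      rw [← MonoidHom.mulSingle_apply, ← map_pow, ← ofAdd_nsmul]
      simp
    rw [this, map_one]

/-- an element which is not an `n`-th power -/
theorem exists_not_pow {K : Type*} [CommGroup K] [Finite K] (p n : ℕ) (hp : p.Prime) (hpn : p ∣ n)
    (hpK : p ∣ Nat.card K) : ∃ a₀ : K, ∀ b : K, b ^ n ≠ a₀ := by
  haveI : Fact p.Prime := ⟨hp⟩
  obtain ⟨x, hx⟩ := exists_prime_orderOf_dvd_card' p hpK
  by_contra hcon
  push Not at hcon
  have hsurj : Function.Surjective (fun b : K => b ^ n) := fun a => hcon a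
  have hinj := Finite.injective_iff_surjective.2 hsurj
  have hx1 : x ^ n = 1 := by
    obtain ⟨c, rfl⟩ := hpn
    rw [pow_mul, ← hx, pow_orderOf_eq_one, one_pow]
  have : x = 1 := hinj (by show x ^ n = 1 ^ n; rw [hx1, one_pow])
  rw [this, orderOf_one] at hx
  exact hp.one_lt.ne hx

theorem twLam_injective {Γ : Type u} [Group Γ] (a₀ : Subgroup.center Γ) (n : ℕ) [NeZero n] :
    Function.Injective (twLam a₀ n) := by
  rw [injective_iff_map_eq_one]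
  intro g hg
  rw [twLam_apply] at hg
  have hg' : (QuotientGroup.mk (g, Multiplicative.ofAdd (0 : ℤ)) : TwW a₀ n) = 1 := hg
  rw [mk_eq_one_iff] at hg'
  obtain ⟨j, hj1, hj2⟩ := hg'
  have hn0 : (n : ℤ) ≠ 0 := by
    have := NeZero.ne n
    exact_mod_cast this
  have hj : j = 0 := by
    rcases mul_eq_zero.1 hj2.symm with h | h
    · exact h
    · exact absurd h hn0
  rw [hj1, hj, zpow_zero, inv_one]

theorem card_ker_ge {Γ : Type u} [Group Γ] (a₀ : Subgroup.center Γ) (n : ℕ) [NeZero n]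
    {Q : Type v} [Group Q] (σ : Γ →* Q) (χ : Q →* Multiplicative (ZMod n)) (h : (a₀ : Γ) ∈ σ.ker)
    [Finite (TwW a₀ n)] :
    Nat.card σ.ker ≤ Nat.card (twSig' a₀ n σ χ h).ker := by
  let F : σ.ker → (twSig' a₀ n σ χ h).ker := fun a =>
    ⟨⟨twLam a₀ n a.1, twLam_mem a₀ n σ χ h a.1 a.2⟩, by
      rw [MonoidHom.mem_ker, twSig'_apply]
      show twSig a₀ n σ h (twLam a₀ n a.1) = 1
      rw [twLam_apply, twSig_mk]; exact MonoidHom.mem_ker.1 a.2⟩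
  apply Nat.card_le_card_of_injective F
  intro a b hab
  apply Subtype.ext
  apply twLam_injective a₀ n
  exact congrArg (fun w : (twSig' a₀ n σ χ h).ker => (w.1.1 : TwW a₀ n)) hab

theorem coprime_of_unique {Q : Type u} [Group Q] [Finite Q] {A : Type v} [CommGroup A]
    (hA : Cfsg.HasSchurMultiplier Q A)
    (hall : ∀ (Γ₁ Γ₂ : Type u) [Group Γ₁] [Finite Γ₁] [Group Γ₂] [Finite Γ₂] (σ₁ : Γ₁ →* Q)
      (σ₂ : Γ₂ →* Q), Cfsg.IsStemExtension σ₁ → Cfsg.IsStemExtension σ₂ → Nonempty (σ₁.ker ≃* A) →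
      Nonempty (σ₂.ker ≃* A) → ∃ e : Γ₁ ≃* Γ₂, σ₂.comp e.toMonoidHom = σ₁) :
    Nat.Coprime (Nat.card (Abelianization Q)) (Nat.card A) := by
  by_contra hnc
  obtain ⟨p, hp, hpQ, hpA⟩ := Nat.Prime.not_coprime_iff_dvd.1 hnc
  obtain ⟨⟨Γ, _, _, σ, hσ, ⟨eA⟩⟩, hA2⟩ := hA
  haveI : Finite A := Finite.of_equiv _ eA.toEquiv
  obtain ⟨n, χ, q₀, hn0, hpn, hχ, hq₀⟩ := exists_cyclic_factor Q p hp hpQ
  haveI : NeZero n := ⟨hn0.ne'⟩
  haveI : IsMulCommutative σ.ker :=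
    ⟨⟨fun a b => Subtype.ext (Subgroup.mem_center_iff.1 (hσ.2.1 a.2) b.1).symm⟩⟩
  have hpK : p ∣ Nat.card σ.ker := by rw [Nat.card_congr eA.toEquiv]; exact hpA
  obtain ⟨a₁, ha₁⟩ := by
    open scoped IsMulCommutative in
    exact exists_not_pow (K := σ.ker) p n hp hpn hpK
  let a₀ : Subgroup.center Γ := ⟨a₁.1, hσ.2.1 a₁.2⟩
  have h : (a₀ : Γ) ∈ σ.ker := a₁.2
  have ha₀ : ∀ b ∈ σ.ker, b ^ n ≠ (a₀ : Γ) := by
    intro b hb hbn
    exact ha₁ ⟨b, hb⟩ (Subtype.ext hbn)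
  haveI : Finite (TwW a₀ n) := finite_TwW a₀ n
  have hstem := twSig'_isStem a₀ n σ χ h hσ
  obtain ⟨π, hπ⟩ := hA2 (TwG a₀ n σ χ h) (twSig' a₀ n σ χ h) hstem
  have hcard : Nat.card A ≤ Nat.card (twSig' a₀ n σ χ h).ker := by
    rw [← Nat.card_congr eA.toEquiv]
    exact card_ker_ge a₀ n σ χ h
  have hπb := hπ.bijective_of_nat_card_le hcard
  obtain ⟨e, he⟩ := hall Γ (TwG a₀ n σ χ h) σ (twSig' a₀ n σ χ h) hσ hstem ⟨eA⟩
    ⟨(MulEquiv.ofBijective π hπb).symm⟩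
  exact no_iso a₀ n σ χ h hσ q₀ hχ hq₀ ha₀ e he

/-- Let `Q` be a finite group with Schur multiplier `A`. Any two Schur covering groups of `Q` (finite stem extensions `σ₁ : Γ₁ →* Q`, `σ₂ : Γ₂ →* Q` with kernels isomorphic to `A`, `Γ₁, Γ₂` in the universe of `Q`) are isomorphic over `Q` — there is a group isomorphism `e : Γ₁ ≃* Γ₂` with `σ₂ ∘ e = σ₁` — if and only if the order of the commutator quotient of `Q` is coprime to the order of `A`. In particular a finite perfect group has a unique Schur covering group up to isomorphism over it. -/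
theorem result {Q : Type u} [Group Q] [Finite Q] {A : Type v} [CommGroup A] (hA : Cfsg.HasSchurMultiplier Q A) : (∀ (Γ₁ Γ₂ : Type u) [Group Γ₁] [Finite Γ₁] [Group Γ₂] [Finite Γ₂] (σ₁ : Γ₁ →* Q) (σ₂ : Γ₂ →* Q), Cfsg.IsStemExtension σ₁ → Cfsg.IsStemExtension σ₂ → Nonempty (σ₁.ker ≃* A) → Nonempty (σ₂.ker ≃* A) → ∃ e : Γ₁ ≃* Γ₂, σ₂.comp e.toMonoidHom = σ₁) ↔ Nat.Coprime (Nat.card (Abelianization Q)) (Nat.card A) := by
  constructor
  · intro hall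
    exact coprime_of_unique hA hall
  · intro hcop Γ₁ Γ₂ _ _ _ _ σ₁ σ₂ h₁ h₂ ⟨e₁⟩ ⟨e₂⟩
    exact unique_of_coprime hA hcop σ₁ σ₂ h₁ h₂ e₁ e₂

end Cfsg.Agent.S3974
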