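import Mathlib
import Cfsg.Statements.S3978
import Cfsg.Agent.Lib.Helper66.SchurBasic
import Cfsg.Agent.Lib.Helper66.MonomialRep
import Cfsg.Agent.S3955

set_option autoImplicit false
open Cfsg

namespace Cfsg.Agent.S3978

open Cfsg.Agent.Lib.Helper66

/-- A finite group `Q` has trivial Schur multiplier if and only if, for every `n`, every homomorphism from `Q` to the projective general linear group (the quotient of `GL n ℂ` by its centre) lifts to a homomorphism into `GL n ℂ`. -/
theorem result {Q : Type*} [Group Q] [Finite Q] : Cfsg.HasCyclicSchurMultiplier Q 1 ↔ ∀ (n : ℕ) (γ : Q →* (GL (Fin n) ℂ ⧸ Subgroup.center (GL (Fin n) ℂ))), ∃ ρ : Q →* GL (Fin n) ℂ, (QuotientGroup.mk' (Subgroup.center (GL (Fin n) ℂ))).comp ρ = γ := by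
  constructor
  · intro h n γ
    have hk : Nonempty ((MonoidHom.id Q).ker ≃* Multiplicative (ZMod 1)) := by
      have hker : (MonoidHom.id Q).ker = ⊥ := by
        ext x; simp
      have : Subsingleton (MonoidHom.id Q).ker := by
        rw [hker]; infer_instance
      letI : Unique (MonoidHom.id Q).ker := uniqueOfSubsingleton 1
      exact ⟨MulEquiv.ofUnique⟩
    obtain ⟨ρ, hρ⟩ := Cfsg.Agent.S3955.result h (MonoidHom.id Q) (isStemExtension_id Q) hk n γ
    exact ⟨ρ, by rw [hρ]; rfl⟩
  · intro hlift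
    apply hasCyclicSchurMultiplier_one_of
    intro Γ _ _ σ hσ
    obtain ⟨hsurj, hcen, hcomm⟩ := hσ
    rw [Subgroup.eq_bot_iff_forall]
    intro z hz
    by_contra hz1
    obtain ⟨n, ρ, γ, hργ, hρz⟩ := exists_projective_rep_nontrivial σ hsurj hcen z hz hz1
    obtain ⟨ρ', hρ'⟩ := hlift n γ
    have heq : (QuotientGroup.mk' (Subgroup.center (GL (Fin n) ℂ))).comp ρ =
        (QuotientGroup.mk' (Subgroup.center (GL (Fin n) ℂ))).comp (ρ'.comp σ) := by
      rw [hργ, ← hρ', MonoidHom.comp_assoc]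
    have := eq_on_commutator_of_eq_mod_center ρ (ρ'.comp σ) heq z (hcomm hz)
    apply hρz
    rw [this]
    show ρ' (σ z) = 1
    rw [MonoidHom.mem_ker.1 hz, map_one]

end Cfsg.Agent.S3978
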