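import Mathlib
import Cfsg.Statements.S3980
import Cfsg.Agent.Lib.Helper66.Hopf

set_option autoImplicit false
open Cfsg

namespace Cfsg.Agent.S3980

open Cfsg.Agent.Lib.Helper66
open scoped commutatorElement

universe u v w

theorem commutatorElement_mul_right_of_central {Γ : Type*} [Group Γ] (g x y : Γ)
    (hy : ⁅g, y⁆ ∈ Subgroup.center Γ) : ⁅g, x * y⁆ = ⁅g, x⁆ * ⁅g, y⁆ := by
  have hb := Subgroup.mem_center_iff.1 hy
  have e1 : ⁅g, x⁆ * ⁅g, y⁆ = g * x * g⁻¹ * (x⁻¹ * ⁅g, y⁆) := by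
    rw [commutatorElement_def g x]; group
  rw [e1, hb, commutatorElement_def, commutatorElement_def]
  group

/-- The pairing `h ↦ ⁅g, h⁆` is killed by the order of the commutator quotient. -/
theorem commutator_pow_card_eq_one {Γ : Type*} [Group Γ] {Q : Type*} [Group Q] [Finite Q]
    (H : Subgroup Γ) (ξ : ↥H →* Q) (hξ : Function.Surjective ξ)
    (hker : ∀ x : ↥H, x ∈ ξ.ker → (x : Γ) ∈ Subgroup.center Γ)
    (g : Γ) (hc : ∀ h ∈ H, ⁅g, h⁆ ∈ Subgroup.center Γ) (h : ↥H) :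
    ⁅g, (h : Γ)⁆ ^ (Nat.card (Abelianization Q)) = 1 := by
  -- the homomorphism h ↦ ⁅g, h⁆
  let lam : ↥H →* Γ :=
    { toFun := fun a => ⁅g, (a : Γ)⁆
      map_one' := by simp
      map_mul' := fun a b =>
        commutatorElement_mul_right_of_central g (a : Γ) (b : Γ) (hc b b.2) }
  have hlam : ∀ a : ↥H, lam a = ⁅g, (a : Γ)⁆ := fun a => rfl
  -- lam kills commutators
  have hkill : commutator ↥H ≤ lam.ker := by
    rw [commutator_def, Subgroup.commutator_le]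
    intro a _ b _
    rw [MonoidHom.mem_ker, map_commutatorElement, commutatorElement_eq_one_iff_mul_comm]
    exact (Subgroup.mem_center_iff.1 (hc a a.2) (lam b)).symm
  -- lam kills central elements
  have hkill2 : ∀ x : ↥H, (x : Γ) ∈ Subgroup.center Γ → lam x = 1 := by
    intro x hx
    rw [hlam, commutatorElement_eq_one_iff_mul_comm]
    exact Subgroup.mem_center_iff.1 hx g
  -- h ^ n is a commutator times a central element
  set n := Nat.card (Abelianization Q) with hn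
  have h1 : ξ h ^ n ∈ commutator Q := by
    rw [← Abelianization.ker_of, MonoidHom.mem_ker, map_pow, hn]
    exact pow_card_eq_one'
  have hmap : (commutator ↥H).map ξ = commutator Q := by
    rw [commutator_def, Subgroup.map_commutator, ← MonoidHom.range_eq_map,
      MonoidHom.range_eq_top.2 hξ, commutator_def]
  rw [← hmap] at h1
  obtain ⟨x, hx, hxξ⟩ := h1
  have hz : x⁻¹ * h ^ n ∈ ξ.ker := by
    rw [MonoidHom.mem_ker, map_mul, map_inv, map_pow, hxξ, inv_mul_cancel]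
  have e2 : h ^ n = x * (x⁻¹ * h ^ n) := by group
  rw [← hlam, ← map_pow, e2, map_mul, MonoidHom.mem_ker.1 (hkill hx),
    hkill2 _ (hker _ hz), one_mul]

/-- The product of two stem extensions is a stem extension. -/
theorem prod_isStem {Γ₁ : Type*} {Γ₂ : Type*} {Q₁ : Type*} {Q₂ : Type*} [Group Γ₁] [Group Γ₂]
    [Group Q₁] [Group Q₂] (σ₁ : Γ₁ →* Q₁) (σ₂ : Γ₂ →* Q₂) (h₁ : Cfsg.IsStemExtension σ₁)
    (h₂ : Cfsg.IsStemExtension σ₂) : Cfsg.IsStemExtension (σ₁.prodMap σ₂) := by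
  refine ⟨Function.Surjective.prodMap h₁.1 h₂.1, ?_, ?_⟩
  · rw [MonoidHom.ker_prodMap, Subgroup.center_prod]
    exact Subgroup.prod_mono h₁.2.1 h₂.2.1
  · rw [MonoidHom.ker_prodMap, commutator_def, ← Subgroup.top_prod_top,
      Subgroup.commutator_prod_prod]
    exact Subgroup.prod_mono h₁.2.2 h₂.2.2

/-- The second half: every finite stem extension of `Q₁ × Q₂` has kernel an image of `A × B`. -/
theorem second_half {Q₁ : Type u} {Q₂ : Type v} [Group Q₁] [Group Q₂] [Finite Q₁] [Finite Q₂]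
    {A B : Type w} [CommGroup A] [CommGroup B] (hA : Cfsg.HasSchurMultiplier Q₁ A)
    (hB : Cfsg.HasSchurMultiplier Q₂ B)
    (hcop : Nat.Coprime (Nat.card (Abelianization Q₁)) (Nat.card (Abelianization Q₂)))
    (Γ : Type (max u v)) [Group Γ] [Finite Γ] (σ : Γ →* Q₁ × Q₂) (hσ : Cfsg.IsStemExtension σ) :
    ∃ π : A × B →* σ.ker, Function.Surjective π := by
  obtain ⟨hsurj, hcen, hcomm⟩ := hσ
  let p1 : Γ →* Q₁ := (MonoidHom.fst Q₁ Q₂).comp σ
  let p2 : Γ →* Q₂ := (MonoidHom.snd Q₁ Q₂).comp σ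
  have hp1 : ∀ g, p1 g = (σ g).1 := fun g => rfl
  have hp2 : ∀ g, p2 g = (σ g).2 := fun g => rfl
  have hkerσ : ∀ g, g ∈ σ.ker ↔ p1 g = 1 ∧ p2 g = 1 := by
    intro g
    rw [MonoidHom.mem_ker, hp1, hp2, Prod.ext_iff]
    rfl
  -- the two preimages
  let G1 : Subgroup Γ := p2.ker
  let G2 : Subgroup Γ := p1.ker
  let ξ1 : ↥G1 →* Q₁ := p1.comp G1.subtype
  let ξ2 : ↥G2 →* Q₂ := p2.comp G2.subtype
  have hξ1 : Function.Surjective ξ1 := by
    intro q
    obtain ⟨g, hg⟩ := hsurj (q, 1)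
    refine ⟨⟨g, ?_⟩, ?_⟩
    · show p2 g = 1
      rw [hp2, hg]
    · show p1 g = q
      rw [hp1, hg]
  have hξ2 : Function.Surjective ξ2 := by
    intro q
    obtain ⟨g, hg⟩ := hsurj (1, q)
    refine ⟨⟨g, ?_⟩, ?_⟩
    · show p1 g = 1
      rw [hp1, hg]
    · show p2 g = q
      rw [hp2, hg]
  have hker1 : ∀ x : ↥G1, x ∈ ξ1.ker → (x : Γ) ∈ σ.ker := by
    intro x hx
    rw [hkerσ]
    exact ⟨hx, x.2⟩
  have hker2 : ∀ x : ↥G2, x ∈ ξ2.ker → (x : Γ) ∈ σ.ker := by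
    intro x hx
    rw [hkerσ]
    exact ⟨x.2, hx⟩
  have hξ1c : ξ1.ker ≤ Subgroup.center ↥G1 := by
    intro x hx
    have := Subgroup.mem_center_iff.1 (hcen (hker1 x hx))
    rw [Subgroup.mem_center_iff]
    intro y
    exact Subtype.ext (this y)
  have hξ2c : ξ2.ker ≤ Subgroup.center ↥G2 := by
    intro x hx
    have := Subgroup.mem_center_iff.1 (hcen (hker2 x hx))
    rw [Subgroup.mem_center_iff]
    intro y
    exact Subtype.ext (this y)
  -- G1 and G2 commute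
  have hcc : ∀ g1 ∈ G1, ∀ g2 ∈ G2, ⁅g1, g2⁆ ∈ Subgroup.center Γ := by
    intro g1 h1 g2 h2
    apply hcen
    rw [hkerσ, map_commutatorElement, map_commutatorElement]
    have e1 : p2 g1 = 1 := h1
    have e2 : p1 g2 = 1 := h2
    rw [e1, e2]
    simp
  have hcommute : ∀ g1 ∈ G1, ∀ g2 ∈ G2, g1 * g2 = g2 * g1 := by
    intro g1 h1 g2 h2
    rw [← commutatorElement_eq_one_iff_mul_comm]
    have a1 : ⁅g1, g2⁆ ^ (Nat.card (Abelianization Q₂)) = 1 :=
      commutator_pow_card_eq_one G2 ξ2 hξ2 (fun x hx => hcen (hker2 x hx)) g1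
        (fun h hh => hcc g1 h1 h hh) ⟨g2, h2⟩
    have a2 : ⁅g2, g1⁆ ^ (Nat.card (Abelianization Q₁)) = 1 :=
      commutator_pow_card_eq_one G1 ξ1 hξ1 (fun x hx => hcen (hker1 x hx)) g2
        (fun h hh => by
          rw [← commutatorElement_inv]
          exact Subgroup.inv_mem _ (hcc h hh g2 h2)) ⟨g1, h1⟩
    have a2' : ⁅g1, g2⁆ ^ (Nat.card (Abelianization Q₁)) = 1 := by
      rw [← commutatorElement_inv g2 g1, inv_pow, a2, inv_one]
    have d1 := orderOf_dvd_of_pow_eq_one a1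
    have d2 := orderOf_dvd_of_pow_eq_one a2'
    have d3 : orderOf ⁅g1, g2⁆ ∣ 1 := by
      rw [← Nat.Coprime.gcd_eq_one hcop]
      exact Nat.dvd_gcd d2 d1
    exact orderOf_eq_one_iff.1 (Nat.dvd_one.1 d3)
  -- the multiplication map
  let μ : ↥G1 × ↥G2 →* Γ := MonoidHom.noncommCoprod G1.subtype G2.subtype
    (fun a b => hcommute a a.2 b b.2)
  have hμ : ∀ x : ↥G1 × ↥G2, μ x = (x.1 : Γ) * (x.2 : Γ) := fun x => rfl
  have hμsurj : Function.Surjective μ := by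
    intro g
    obtain ⟨g1, hg1⟩ := hsurj ((σ g).1, 1)
    have m1 : g1 ∈ G1 := by
      show p2 g1 = 1
      rw [hp2, hg1]
    have m2 : g1⁻¹ * g ∈ G2 := by
      show p1 (g1⁻¹ * g) = 1
      rw [map_mul, map_inv, hp1, hp1, hg1, inv_mul_cancel]
    refine ⟨(⟨g1, m1⟩, ⟨g1⁻¹ * g, m2⟩), ?_⟩
    rw [hμ]
    show g1 * (g1⁻¹ * g) = g
    group
  have hcommΓ : commutator Γ = (commutator (↥G1 × ↥G2)).map μ := by
    rw [commutator_def, commutator_def, Subgroup.map_commutator, ← MonoidHom.range_eq_map,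
      MonoidHom.range_eq_top.2 hμsurj]
  -- the multiplier maps
  obtain ⟨π1, hπ1⟩ := exists_hom_range_eq_of_hasSchurMultiplier hA ξ1 hξ1 hξ1c
  obtain ⟨π2, hπ2⟩ := exists_hom_range_eq_of_hasSchurMultiplier hB ξ2 hξ2 hξ2c
  have hπ1k : ∀ a, ((π1 a : ↥G1) : Γ) ∈ σ.ker := by
    intro a
    apply hker1
    have : π1 a ∈ π1.range := ⟨a, rfl⟩
    rw [hπ1] at this
    exact this.2
  have hπ2k : ∀ b, ((π2 b : ↥G2) : Γ) ∈ σ.ker := by
    intro b
    apply hker2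
    have : π2 b ∈ π2.range := ⟨b, rfl⟩
    rw [hπ2] at this
    exact this.2
  let π0 : A × B →* Γ := MonoidHom.noncommCoprod (G1.subtype.comp π1) (G2.subtype.comp π2)
    (fun a b => hcommute _ (π1 a).2 _ (π2 b).2)
  have hπ0 : ∀ x : A × B, π0 x = ((π1 x.1 : ↥G1) : Γ) * ((π2 x.2 : ↥G2) : Γ) := fun x => rfl
  refine ⟨π0.codRestrict σ.ker (fun x => by
    rw [hπ0]; exact Subgroup.mul_mem _ (hπ1k _) (hπ2k _)), ?_⟩
  rintro ⟨k, hk⟩
  have hk' : k ∈ (commutator (↥G1 × ↥G2)).map μ := by rw [← hcommΓ]; exact hcomm hk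
  obtain ⟨x, hx, rfl⟩ := hk'
  -- components are commutators
  have hx1 : x.1 ∈ commutator ↥G1 := by
    have : (MonoidHom.fst ↥G1 ↥G2) x ∈ (commutator (↥G1 × ↥G2)).map (MonoidHom.fst ↥G1 ↥G2) :=
      ⟨x, hx, rfl⟩
    rw [commutator_def, Subgroup.map_commutator] at this
    exact Subgroup.commutator_mono le_top le_top this
  have hx2 : x.2 ∈ commutator ↥G2 := by
    have : (MonoidHom.snd ↥G1 ↥G2) x ∈ (commutator (↥G1 × ↥G2)).map (MonoidHom.snd ↥G1 ↥G2) :=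
      ⟨x, hx, rfl⟩
    rw [commutator_def, Subgroup.map_commutator] at this
    exact Subgroup.commutator_mono le_top le_top this
  -- components are in the kernels
  have hk12 := (hkerσ _).1 hk
  rw [hμ, map_mul, map_mul] at hk12
  have e1 : p2 (x.1 : Γ) = 1 := x.1.2
  have e2 : p1 (x.2 : Γ) = 1 := x.2.2
  rw [e1, e2, one_mul, mul_one] at hk12
  have m1 : x.1 ∈ π1.range := by
    rw [hπ1]; exact ⟨hx1, hk12.1⟩
  have m2 : x.2 ∈ π2.range := by
    rw [hπ2]; exact ⟨hx2, hk12.2⟩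
  obtain ⟨a, ha⟩ := m1
  obtain ⟨b, hb⟩ := m2
  refine ⟨(a, b), ?_⟩
  apply Subtype.ext
  show π0 (a, b) = μ x
  rw [hπ0, hμ, ha, hb]

/-- Let `Q₁` and `Q₂` be finite groups whose commutator quotients have coprime orders, with Schur multipliers `A` and `B`. Then the Schur multiplier of `Q₁ × Q₂` is isomorphic to `A × B`. -/
theorem result {Q₁ : Type u} {Q₂ : Type v} [Group Q₁] [Group Q₂] [Finite Q₁] [Finite Q₂] {A B : Type w} [CommGroup A] [CommGroup B] (hA : Cfsg.HasSchurMultiplier Q₁ A) (hB : Cfsg.HasSchurMultiplier Q₂ B) (hcop : Nat.Coprime (Nat.card (Abelianization Q₁)) (Nat.card (Abelianization Q₂))) : Cfsg.HasSchurMultiplier (Q₁ × Q₂) (A × B) := by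
  refine ⟨?_, ?_⟩
  · obtain ⟨⟨Γ₁, _, _, σ₁, hσ₁, ⟨eA⟩⟩, _⟩ := hA
    obtain ⟨⟨Γ₂, _, _, σ₂, hσ₂, ⟨eB⟩⟩, _⟩ := hB
    refine ⟨Γ₁ × Γ₂, inferInstance, inferInstance, σ₁.prodMap σ₂, prod_isStem σ₁ σ₂ hσ₁ hσ₂, ⟨?_⟩⟩
    exact (MulEquiv.subgroupCongr (MonoidHom.ker_prodMap σ₁ σ₂)).trans
      ((Subgroup.prodEquiv _ _).trans (MulEquiv.prodCongr eA eB))
  · intro Γ _ _ σ hσ
    exact second_half hA hB hcop Γ σ hσ

end Cfsg.Agent.S3980
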