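import Mathlib
import Cfsg.Statements.S3981

set_option autoImplicit false
open Cfsg

namespace Cfsg.Agent.S3981

/-- an element whose `p`-th power lies in a `p`-group generates a `p`-group -/
theorem isPGroup_zpowers_of_pow_mem {G : Type*} [Group G] (p : ℕ) [Fact p.Prime] (Q : Subgroup G)
    (hQ : IsPGroup p ↥Q) (x : G) (hx : x ^ p ∈ Q) : IsPGroup p ↥(Subgroup.zpowers x) := by
  obtain ⟨k, hk⟩ := hQ ⟨x ^ p, hx⟩
  have hk' : (x ^ p) ^ (p ^ k) = 1 := by
    have := congrArg Subtype.val hk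
    simpa using this
  have hx1 : x ^ (p ^ (k + 1)) = 1 := by
    rw [pow_succ', pow_mul]; exact hk'
  intro g
  obtain ⟨g, hg⟩ := g
  obtain ⟨m, rfl⟩ := Subgroup.mem_zpowers_iff.1 hg
  refine ⟨k + 1, ?_⟩
  apply Subtype.ext
  show (x ^ m) ^ (p ^ (k + 1)) = 1
  rw [← zpow_natCast, ← zpow_mul, mul_comm, zpow_mul, zpow_natCast, hx1, one_zpow]

/-- conjugation-invariance in one direction by an involution suffices for normalizing -/
theorem mem_normalizer_of_involution {G : Type*} [Group G] (R : Subgroup G) (y : G) (hy2 : y * y = 1)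
    (h : ∀ r ∈ R, y * r * y⁻¹ ∈ R) : y ∈ Subgroup.normalizer (R : Set G) := by
  have hyinv : y⁻¹ = y := inv_eq_of_mul_eq_one_left hy2
  rw [Subgroup.mem_normalizer_iff]
  intro r
  refine ⟨h r, fun hr => ?_⟩
  have := h _ hr
  have e : y * (y * r * y⁻¹) * y⁻¹ = r := by
    rw [hyinv]
    calc y * (y * r * y) * y = (y * y) * r * (y * y) := by group
    _ = r := by rw [hy2, one_mul, mul_one]
  rwa [e] at this

theorem forward {G : Type*} [Group G] [Finite G] (p : ℕ) [Fact p.Prime] (Q : Subgroup G)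
    (hQ : IsPGroup p ↥Q) (y : G) (hy2 : y * y = 1) (hyQ : y ∈ Subgroup.normalizer (Q : Set G))
    (hmax : ∀ R : Subgroup G, IsPGroup p ↥R → Q ≤ R → y ∈ Subgroup.normalizer (R : Set G) → R = Q)
    (x : G) (hxN : x ∈ Subgroup.normalizer (Q : Set G)) (hxQ : x ∉ Q) (hxp : x ^ p ∈ Q) :
    y * x * y⁻¹ * x ∉ Q ∧ y * x * y⁻¹ * x⁻¹ ∉ Q := by
  by_contra hcon
  have hcon' : y * x * y⁻¹ * x ∈ Q ∨ y * x * y⁻¹ * x⁻¹ ∈ Q := by tauto
  have hzp : IsPGroup p ↥(Subgroup.zpowers x) := isPGroup_zpowers_of_pow_mem p Q hQ x hxp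
  have hle : Subgroup.zpowers x ≤ Subgroup.normalizer (Q : Set G) := by
    rw [Subgroup.zpowers_le]; exact hxN
  have hRp : IsPGroup p ↥(Q ⊔ Subgroup.zpowers x) := IsPGroup.to_sup_of_normal_left' hQ hzp hle
  have hxR : x ∈ Q ⊔ Subgroup.zpowers x := Subgroup.mem_sup_right (Subgroup.mem_zpowers x)
  have hQR : Q ≤ Q ⊔ Subgroup.zpowers x := le_sup_left
  have hyx : y * x * y⁻¹ ∈ Q ⊔ Subgroup.zpowers x := by
    rcases hcon' with h | h
    · have : y * x * y⁻¹ = (y * x * y⁻¹ * x) * x⁻¹ := by group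
      rw [this]
      exact Subgroup.mul_mem _ (hQR h) (Subgroup.inv_mem _ hxR)
    · have : y * x * y⁻¹ = (y * x * y⁻¹ * x⁻¹) * x := by group
      rw [this]
      exact Subgroup.mul_mem _ (hQR h) hxR
  have hyR : y ∈ Subgroup.normalizer ((Q ⊔ Subgroup.zpowers x : Subgroup G) : Set G) := by
    apply mem_normalizer_of_involution _ y hy2
    -- the set of r with y r y⁻¹ ∈ R is a subgroup containing Q and x
    have : Q ⊔ Subgroup.zpowers x ≤ (Q ⊔ Subgroup.zpowers x).comap (MulAut.conj y).toMonoidHom := by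
      apply sup_le
      · intro q hq
        rw [Subgroup.mem_comap]
        show y * q * y⁻¹ ∈ _
        exact hQR ((Subgroup.mem_normalizer_iff.1 hyQ q).1 hq)
      · rw [Subgroup.zpowers_le, Subgroup.mem_comap]
        exact hyx
    intro r hr
    exact this hr
  have := hmax _ hRp hQR hyR
  apply hxQ
  rw [← this]; exact hxR

theorem backward {G : Type*} [Group G] [Finite G] (p : ℕ) [Fact p.Prime] (Q : Subgroup G)
    (y : G) (hy2 : y * y = 1) (hyQ : y ∈ Subgroup.normalizer (Q : Set G))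
    (H : ∀ x : G, x ∈ Subgroup.normalizer (Q : Set G) → x ∉ Q → x ^ p ∈ Q →
      (y * x * y⁻¹ * x ∉ Q ∧ y * x * y⁻¹ * x⁻¹ ∉ Q))
    (R : Subgroup G) (hR : IsPGroup p ↥R) (hQR : Q ≤ R)
    (hyR : y ∈ Subgroup.normalizer (R : Set G)) : R = Q := by
  by_contra hne
  have hyinv : y⁻¹ = y := inv_eq_of_mul_eq_one_left hy2
  -- N = N_R(Q) is strictly bigger than Q
  set N : Subgroup G := R ⊓ Subgroup.normalizer (Q : Set G) with hNdef
  have hQN : Q ≤ N := le_inf hQR Subgroup.le_normalizer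
  have hNR : N ≤ R := inf_le_left
  have hNn : N ≤ Subgroup.normalizer (Q : Set G) := inf_le_right
  have hQN' : Q ≠ N := by
    intro heq
    have hnil : Group.IsNilpotent ↥R := hR.isNilpotent
    have hnc := Group.normalizerCondition_of_isNilpotent (G := ↥R)
    have hlt : Q.subgroupOf R < ⊤ := by
      rw [lt_top_iff_ne_top]
      intro h
      rw [Subgroup.subgroupOf_eq_top] at h
      exact hne (le_antisymm h hQR)
    have h2 := hnc _ hlt
    rw [← Subgroup.subgroupOf_normalizer_eq hQR] at h2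
    have h3 : (Subgroup.normalizer (Q : Set G)).subgroupOf R = N.subgroupOf R := by
      rw [hNdef, Subgroup.inf_subgroupOf_left]
    rw [h3, ← heq] at h2
    exact lt_irrefl _ h2
  haveI hnormal : (Q.subgroupOf N).Normal := Subgroup.normal_subgroupOf_of_le_normalizer hNn
  have hNp : IsPGroup p ↥N := hR.to_le hNR
  have hWp : IsPGroup p (↥N ⧸ Q.subgroupOf N) := hNp.to_quotient _
  haveI : Nontrivial (↥N ⧸ Q.subgroupOf N) := by
    rw [QuotientGroup.nontrivial_iff]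
    intro h
    rw [Subgroup.subgroupOf_eq_top] at h
    exact hQN' (le_antisymm hQN h)
  haveI := hWp.center_nontrivial
  -- an element of order p in the center
  have hZp : IsPGroup p ↥(Subgroup.center (↥N ⧸ Q.subgroupOf N)) := hWp.to_subgroup _
  obtain ⟨z, hz1⟩ := exists_ne (1 : ↥(Subgroup.center (↥N ⧸ Q.subgroupOf N)))
  have hdvd : p ∣ Nat.card ↥(Subgroup.center (↥N ⧸ Q.subgroupOf N)) := by
    obtain ⟨k, hk⟩ := hZp.exists_card_eq
    rw [hk]
    have : k ≠ 0 := by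
      rintro rfl
      rw [pow_zero] at hk
      have hsub : Subsingleton ↥(Subgroup.center (↥N ⧸ Q.subgroupOf N)) :=
        (Nat.card_eq_one_iff_unique.1 hk).1
      exact hz1 (Subsingleton.elim _ _)
    exact dvd_pow_self p this
  obtain ⟨c, hc⟩ := exists_prime_orderOf_dvd_card' p hdvd
  obtain ⟨c, hcZ⟩ := c
  have hcord : orderOf c = p := by
    rw [← hc]; exact (Subgroup.orderOf_mk c hcZ).symm
  obtain ⟨x0, rfl⟩ := QuotientGroup.mk_surjective c
  obtain ⟨x0, hx0N⟩ := x0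
  set π := QuotientGroup.mk' (Q.subgroupOf N) with hπ
  have hker : ∀ n : ↥N, π n = 1 ↔ (n : G) ∈ Q := by
    intro n
    rw [hπ, QuotientGroup.mk'_apply, QuotientGroup.eq_one_iff, Subgroup.mem_subgroupOf]
  have hx0Q : x0 ∉ Q := by
    intro h
    have h1 : π ⟨x0, hx0N⟩ = 1 := (hker _).2 h
    have : orderOf (π ⟨x0, hx0N⟩) = 1 := by rw [h1, orderOf_one]
    rw [hπ, QuotientGroup.mk'_apply, hcord] at this
    exact (Fact.out : p.Prime).one_lt.ne' this
  have hx0p : π ⟨x0, hx0N⟩ ^ p = 1 := by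
    rw [← hcord]; exact pow_orderOf_eq_one _
  have hx0pQ : x0 ^ p ∈ Q := by
    have : π (⟨x0, hx0N⟩ ^ p) = 1 := by rw [map_pow]; exact hx0p
    exact (hker _).1 this
  have hcomm : ∀ w, w * π ⟨x0, hx0N⟩ = π ⟨x0, hx0N⟩ * w := Subgroup.mem_center_iff.1 hcZ
  -- the conjugate
  have hx0n : x0 ∈ Subgroup.normalizer (Q : Set G) := hNn hx0N
  have hx1N : y * x0 * y⁻¹ ∈ N := by
    refine ⟨(Subgroup.mem_normalizer_iff.1 hyR x0).1 (hNR hx0N), ?_⟩
    exact Subgroup.mul_mem _ (Subgroup.mul_mem _ hyQ hx0n) (Subgroup.inv_mem _ hyQ)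
  have hx1p : π ⟨y * x0 * y⁻¹, hx1N⟩ ^ p = 1 := by
    rw [← map_pow, hker]
    show (y * x0 * y⁻¹) ^ p ∈ Q
    rw [conj_pow]
    exact (Subgroup.mem_normalizer_iff.1 hyQ _).1 hx0pQ
  by_cases hcase : x0 * (y * x0 * y⁻¹) ∈ Q
  · -- x = x0 is inverted mod Q
    have h1 := (H x0 hx0n hx0Q hx0pQ).1
    apply h1
    have : y * x0 * y⁻¹ * x0 = x0⁻¹ * (x0 * (y * x0 * y⁻¹)) * x0 := by group
    rw [this]
    have hinv : x0⁻¹ ∈ Subgroup.normalizer (Q : Set G) := Subgroup.inv_mem _ hx0n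
    have := (Subgroup.mem_normalizer_iff.1 hinv _).1 hcase
    rwa [inv_inv] at this
  · -- x = x0 * x1 is centralized mod Q
    have hxn : x0 * (y * x0 * y⁻¹) ∈ Subgroup.normalizer (Q : Set G) :=
      Subgroup.mul_mem _ hx0n (hNn hx1N)
    have hxp : (x0 * (y * x0 * y⁻¹)) ^ p ∈ Q := by
      have : π (⟨x0, hx0N⟩ * ⟨y * x0 * y⁻¹, hx1N⟩) ^ p = 1 := by
        rw [map_mul, Commute.mul_pow (hcomm _).symm, hx0p, hx1p, one_mul]
      rw [← map_pow, hker] at this
      exact this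
    have h2 := (H _ hxn hcase hxp).2
    apply h2
    have e : y * (x0 * (y * x0 * y⁻¹)) * y⁻¹ * (x0 * (y * x0 * y⁻¹))⁻¹ =
        (y * x0 * y⁻¹) * x0 * (y * x0 * y⁻¹)⁻¹ * x0⁻¹ := by
      rw [hyinv]
      calc y * (x0 * (y * x0 * y)) * y * (x0 * (y * x0 * y))⁻¹
          = y * x0 * (y * x0 * (y * y)) * (x0 * (y * x0 * y))⁻¹ := by group
        _ = (y * x0 * y) * x0 * (y * x0 * y)⁻¹ * x0⁻¹ := by rw [hy2]; group
    rw [e]
    have : π (⟨y * x0 * y⁻¹, hx1N⟩ * ⟨x0, hx0N⟩ * ⟨y * x0 * y⁻¹, hx1N⟩⁻¹ * ⟨x0, hx0N⟩⁻¹) = 1 := by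
      rw [map_mul, map_mul, map_mul, map_inv, map_inv, hcomm, mul_inv_cancel_right, mul_inv_cancel]
    exact (hker _).1 this

/-- Let p be an odd prime, Q a p-subgroup of the finite group G and y an involution normalizing Q. Then Q is maximal among the p-subgroups of G normalized by y if and only if the image of y in N_G(Q) ⧸ Q neither inverts nor centralizes any element of order p there; the latter is phrased inside N_G(Q): for every x in N_G(Q) outside Q with x ^ p ∈ Q, neither y x y⁻¹ x nor y x y⁻¹ x⁻¹ lies in Q. -/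
theorem result {G : Type*} [Group G] [Finite G] (p : ℕ) [Fact p.Prime] (hp2 : p ≠ 2) (Q : Subgroup G) (hQ : IsPGroup p ↥Q) (y : G) (hy : orderOf y = 2) (hyQ : y ∈ Subgroup.normalizer (Q : Set G)) : (∀ R : Subgroup G, IsPGroup p ↥R → Q ≤ R → y ∈ Subgroup.normalizer (R : Set G) → R = Q) ↔ ∀ x : G, x ∈ Subgroup.normalizer (Q : Set G) → x ∉ Q → x ^ p ∈ Q → (y * x * y⁻¹ * x ∉ Q ∧ y * x * y⁻¹ * x⁻¹ ∉ Q) := by
  have hy2 : y * y = 1 := by rw [← sq, ← hy, pow_orderOf_eq_one]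
  constructor
  · intro hmax x hxN hxQ hxp
    exact forward p Q hQ y hy2 hyQ hmax x hxN hxQ hxp
  · intro H R hR hQR hyR
    exact backward p Q y hy2 hyQ H R hR hQR hyR

end Cfsg.Agent.S3981
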