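import Mathlib
import Cfsg.Statements.S3982

set_option autoImplicit false
open Cfsg

namespace Cfsg.Agent.S3982

open scoped Pointwise

/-- In a finite group, conjugating a subgroup into itself means normalizing it. -/
theorem mem_normalizer_of_conj_mem {G : Type*} [Group G] [Finite G] (H : Subgroup G) (g : G)
    (h : ∀ x ∈ H, g * x * g⁻¹ ∈ H) : g ∈ Subgroup.normalizer (H : Set G) := by
  rw [Subgroup.mem_normalizer_iff_map_conj_eq]
  apply Subgroup.eq_of_le_of_card_ge
  · rintro _ ⟨x, hx, rfl⟩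
    exact h x hx
  · apply le_of_eq
    exact Nat.card_congr (Subgroup.equivMapOfInjective H _ (MulAut.conj g).injective).toEquiv

/-- Frattini argument, element form: if `y` normalizes `C` and `S` is a Sylow `p`-subgroup of `C`,
some `c * y` with `c ∈ C` normalizes `S`. -/
theorem frattini_elt {G : Type*} [Group G] [Finite G] (p : ℕ) [Fact p.Prime] (C : Subgroup G) (y : G)
    (hy : y ∈ Subgroup.normalizer (C : Set G)) (S : Sylow p ↥C) :
    ∃ c ∈ C, c * y ∈ Subgroup.normalizer (((S : Subgroup ↥C).map C.subtype : Subgroup G) : Set G) := by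
  let φ : ↥C ≃* ↥C :=
    { toFun := fun c => ⟨y * c * y⁻¹, (Subgroup.mem_normalizer_iff.1 hy c).1 c.2⟩
      invFun := fun c => ⟨y⁻¹ * c * y, (Subgroup.mem_normalizer_iff''.1 hy c).1 c.2⟩
      left_inv := fun c => by apply Subtype.ext; simp [mul_assoc]
      right_inv := fun c => by apply Subtype.ext; simp [mul_assoc]
      map_mul' := fun a b => by apply Subtype.ext; simp [mul_assoc] }
  obtain ⟨n, hn⟩ := MulAction.exists_smul_eq ↥C (φ • S) S
  refine ⟨n, n.2, ?_⟩
  apply mem_normalizer_of_conj_mem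
  rintro _ ⟨s, hs, rfl⟩
  refine ⟨n * φ s * n⁻¹, ?_, ?_⟩
  · have h1 : φ s ∈ φ • (S : Subgroup ↥C) := Subgroup.smul_mem_pointwise_smul s φ _ hs
    have h2 : MulAut.conj n • (φ s) ∈ ((n • (φ • S : Sylow p ↥C) : Sylow p ↥C) : Subgroup ↥C) := by
      rw [Sylow.smul_def]
      exact Subgroup.smul_mem_pointwise_smul (φ s) (MulAut.conj n) _ h1
    rw [hn] at h2
    exact h2
  · show (n : G) * (y * s * y⁻¹) * (n : G)⁻¹ = n * y * s * (n * y)⁻¹
    group

/-- an element of order two cannot lie in a subgroup of odd order -/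
theorem not_mem_of_odd {G : Type*} [Group G] [Finite G] (C : Subgroup G) (hC : Odd (Nat.card ↥C))
    (y : G) (hy : orderOf y = 2) : y ∉ C := by
  intro hyC
  have h1 : orderOf (⟨y, hyC⟩ : ↥C) = 2 := by rw [← hy]; exact Subgroup.orderOf_mk y hyC
  have h2 : orderOf (⟨y, hyC⟩ : ↥C) ∣ Nat.card ↥C := orderOf_dvd_natCard _
  rw [h1] at h2
  exact (Nat.not_even_iff_odd.2 hC) (even_iff_two_dvd.2 h2)

/-- A fixed-point-free involution inverts: the involution `y` normalizing the `p`-subgroup `T`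
inverts `T` when no nonidentity `p`-element has a centralizer of even order. -/
theorem inverts {G : Type*} [Group G] [Finite G] (p : ℕ) [Fact p.Prime]
    (hC : ∀ g : G, g ≠ 1 → (∃ k : ℕ, orderOf g = p ^ k) →
      Odd (Nat.card ↥(Subgroup.centralizer ({g} : Set G))))
    (T : Subgroup G) (hT : IsPGroup p ↥T) (y : G) (hy : orderOf y = 2)
    (hyT : y ∈ Subgroup.normalizer (T : Set G)) (t : G) (ht : t ∈ T) : y * t * y⁻¹ = t⁻¹ := by
  have hy2 : y * y = 1 := by rw [← sq, ← hy, pow_orderOf_eq_one]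
  have hyinv : y⁻¹ = y := inv_eq_of_mul_eq_one_left hy2
  -- fixed-point-free
  have hfpf : ∀ s ∈ T, y * s * y⁻¹ = s → s = 1 := by
    intro s hs hfix
    by_contra hs1
    have hsp : ∃ k : ℕ, orderOf s = p ^ k := by
      obtain ⟨k, hk⟩ := (IsPGroup.iff_orderOf.1 hT) ⟨s, hs⟩
      exact ⟨k, by rw [← hk]; exact (Subgroup.orderOf_mk s hs).symm⟩
    have hodd := hC s hs1 hsp
    apply not_mem_of_odd _ hodd y hy
    rw [Subgroup.mem_centralizer_singleton_iff]
    calc y * s = (y * s * y⁻¹) * y := by group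
      _ = s * y := by rw [hfix]
  -- the map s ↦ s⁻¹ * (y s y⁻¹) on T is injective, hence surjective
  let ψ : ↥T → ↥T := fun s => ⟨(s : G)⁻¹ * (y * s * y⁻¹),
    T.mul_mem (T.inv_mem s.2) ((Subgroup.mem_normalizer_iff.1 hyT s).1 s.2)⟩
  have hinj : Function.Injective ψ := by
    intro a b hab
    have h1 : (a : G)⁻¹ * (y * a * y⁻¹) = (b : G)⁻¹ * (y * b * y⁻¹) := congrArg Subtype.val hab
    have h2 : y * ((b : G) * (a : G)⁻¹) * y⁻¹ = (b : G) * (a : G)⁻¹ := by
      have : y * ((b : G) * (a : G)⁻¹) * y⁻¹ = (y * b * y⁻¹) * (y * a * y⁻¹)⁻¹ := by group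
      rw [this]
      have h3 : y * a * y⁻¹ = (a : G) * ((b : G)⁻¹ * (y * b * y⁻¹)) := by
        rw [← h1]; group
      rw [h3]; group
    have h4 := hfpf _ (T.mul_mem b.2 (T.inv_mem a.2)) h2
    apply Subtype.ext
    exact (mul_inv_eq_one.1 h4).symm
  have hsurj : Function.Surjective ψ := Finite.surjective_of_injective hinj
  obtain ⟨s, hs⟩ := hsurj ⟨t, ht⟩
  have hs' : (s : G)⁻¹ * (y * s * y⁻¹) = t := congrArg Subtype.val hs
  rw [← hs', hyinv]
  have e1 : y * ((s : G)⁻¹ * (y * s * y)) * y = y * (s : G)⁻¹ * y * s * (y * y) := by group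
  have e2 : ((s : G)⁻¹ * (y * s * y))⁻¹ = y⁻¹ * (s : G)⁻¹ * y⁻¹ * s := by group
  rw [e1, e2, hy2, hyinv, mul_one]


/-- a subgroup of even order contains an involution -/
theorem exists_involution_of_even {G : Type*} [Group G] [Finite G] (N : Subgroup G)
    (h : Even (Nat.card ↥N)) : ∃ y ∈ N, orderOf y = 2 := by
  haveI : Fact (Nat.Prime 2) := ⟨Nat.prime_two⟩
  obtain ⟨y, hy⟩ := exists_prime_orderOf_dvd_card' 2 (even_iff_two_dvd.1 h)
  exact ⟨y, y.2, by rw [← hy]; exact Subgroup.orderOf_coe y⟩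

/-- an involution inverting `z` normalizes the centralizer of `z` -/
theorem normalizes_centralizer_of_inverts {G : Type*} [Group G] [Finite G] (z y : G)
    (hy2 : y * y = 1) (hyz : y * z * y⁻¹ = z⁻¹) :
    y ∈ Subgroup.normalizer ((Subgroup.centralizer ({z} : Set G) : Subgroup G) : Set G) := by
  apply mem_normalizer_of_conj_mem
  intro c hc
  rw [Subgroup.mem_centralizer_singleton_iff] at hc ⊢
  have hyinv : y⁻¹ = y := inv_eq_of_mul_eq_one_left hy2
  rw [hyinv] at hyz ⊢
  -- hc : c * z = z * c ; goal : (y c y) * z = z * (y c y)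
  have hz : z = y * z⁻¹ * y := by
    rw [← hyz]
    calc z = (y * y) * z * (y * y) := by rw [hy2, one_mul, mul_one]
      _ = y * (y * z * y) * y := by group
  have hc' : c * z⁻¹ = z⁻¹ * c := by
    calc c * z⁻¹ = z⁻¹ * (z * c) * z⁻¹ := by group
      _ = z⁻¹ * (c * z) * z⁻¹ := by rw [hc]
      _ = z⁻¹ * c := by group
  calc y * c * y * z = y * c * y * (y * z⁻¹ * y) := by rw [← hz]
    _ = y * c * (y * y) * z⁻¹ * y := by group
    _ = y * (c * z⁻¹) * y := by rw [hy2]; group
    _ = y * (z⁻¹ * c) * y := by rw [hc']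
    _ = y * z⁻¹ * (y * y) * c * y := by rw [hy2]; group
    _ = (y * z⁻¹ * y) * (y * c * y) := by group
    _ = z * (y * c * y) := by rw [← hz]

/-- The normalizer of a Sylow `p`-subgroup of an odd-order subgroup normalized by an
involution has even order. -/
theorem even_normalizer_sylow_of_odd {G : Type*} [Group G] [Finite G] (p : ℕ) [Fact p.Prime]
    (C : Subgroup G) (hodd : Odd (Nat.card ↥C))
    (y : G) (hy : orderOf y = 2) (hyC : y ∈ Subgroup.normalizer (C : Set G))
    (S : Sylow p ↥C) :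
    Even (Nat.card ↥(Subgroup.normalizer
      ((((S : Subgroup ↥C).map C.subtype : Subgroup G)) : Set G))) := by
  have hy2 : y * y = 1 := by rw [← sq, ← hy, pow_orderOf_eq_one]
  obtain ⟨c, hc, hg⟩ := frattini_elt p C y hyC S
  have hg2 : (c * y) * (c * y) ∈ C := by
    have : (c * y) * (c * y) = c * (y * c * y⁻¹) * (y * y) := by group
    rw [this, hy2, mul_one]
    exact C.mul_mem hc ((Subgroup.mem_normalizer_iff.1 hyC c).1 hc)
  have hgC : c * y ∉ C := fun h => not_mem_of_odd C hodd y hy (by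
    have := C.mul_mem (C.inv_mem hc) h
    simpa using this)
  have heven : Even (orderOf (c * y)) := by
    by_contra hodd'
    rw [Nat.not_even_iff_odd] at hodd'
    obtain ⟨m, hm⟩ := hodd'
    apply hgC
    have : c * y = ((c * y) * (c * y)) ^ (m + 1) := by
      rw [← pow_two, ← pow_mul, show 2 * (m + 1) = (2 * m + 1) + 1 by ring, pow_succ, ← hm,
        pow_orderOf_eq_one, one_mul]
    rw [this]; exact C.pow_mem hg2 _
  have hdvd := orderOf_dvd_natCard (⟨c * y, hg⟩ : ↥(Subgroup.normalizer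
      ((((S : Subgroup ↥C).map C.subtype : Subgroup G)) : Set G)))
  rw [Subgroup.orderOf_mk] at hdvd
  exact heven.trans_dvd hdvd

/-- Sylow maximality inside `C`, transported to the ambient group. -/
theorem mem_sylow_map_of_normalizes {G : Type*} [Group G] [Finite G] (p : ℕ) [Fact p.Prime]
    (C : Subgroup G) (S : Sylow p ↥C) (x : G) (hxC : x ∈ C) (hxp : IsPGroup p ↥(Subgroup.zpowers x))
    (hxn : x ∈ Subgroup.normalizer ((((S : Subgroup ↥C).map C.subtype : Subgroup G)) : Set G)) :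
    x ∈ (S : Subgroup ↥C).map C.subtype := by
  set SG : Subgroup G := (S : Subgroup ↥C).map C.subtype with hSG
  have hSGp : IsPGroup p ↥SG := S.isPGroup'.map _
  have hSGC : SG ≤ C := by
    rintro _ ⟨s, _, rfl⟩
    exact s.2
  have hTp : IsPGroup p ↥(SG ⊔ Subgroup.zpowers x) :=
    IsPGroup.to_sup_of_normal_left' hSGp hxp (by rw [Subgroup.zpowers_le]; exact hxn)
  have hTC : SG ⊔ Subgroup.zpowers x ≤ C := sup_le hSGC (by rw [Subgroup.zpowers_le]; exact hxC)
  have hle : (S : Subgroup ↥C) ≤ (SG ⊔ Subgroup.zpowers x).subgroupOf C := by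
    intro s hs
    rw [Subgroup.mem_subgroupOf]
    exact Subgroup.mem_sup_left ⟨s, hs, rfl⟩
  have heq := S.is_maximal' (hTp.comap_subtype (K := C)) hle
  have hx : (⟨x, hxC⟩ : ↥C) ∈ (SG ⊔ Subgroup.zpowers x).subgroupOf C := by
    rw [Subgroup.mem_subgroupOf]
    exact Subgroup.mem_sup_right (Subgroup.mem_zpowers x)
  have hx' : (⟨x, hxC⟩ : ↥C) ∈ (S : Subgroup ↥C) := by rw [← heq]; exact hx
  exact ⟨⟨x, hxC⟩, hx', rfl⟩

/-- a central element of order `p` in a nontrivial `p`-subgroup -/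
theorem exists_central_order_p {G : Type*} [Group G] [Finite G] (p : ℕ) [Fact p.Prime]
    (P : Subgroup G) (hP : IsPGroup p ↥P) (hne : P ≠ ⊥) :
    ∃ z ∈ P, orderOf z = p ∧ ∀ x ∈ P, x * z = z * x := by
  haveI : Nontrivial ↥P := (Subgroup.nontrivial_iff_ne_bot P).2 hne
  haveI := hP.center_nontrivial
  have hZp : IsPGroup p ↥(Subgroup.center ↥P) := hP.to_subgroup _
  obtain ⟨w, hw1⟩ := exists_ne (1 : ↥(Subgroup.center ↥P))
  have hdvd : p ∣ Nat.card ↥(Subgroup.center ↥P) := by
    obtain ⟨k, hk⟩ := hZp.exists_card_eq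
    rw [hk]
    have : k ≠ 0 := by
      rintro rfl
      rw [pow_zero] at hk
      have hsub : Subsingleton ↥(Subgroup.center ↥P) := (Nat.card_eq_one_iff_unique.1 hk).1
      exact hw1 (Subsingleton.elim _ _)
    exact dvd_pow_self p this
  obtain ⟨c, hc⟩ := exists_prime_orderOf_dvd_card' p hdvd
  refine ⟨((c : ↥P) : G), (c : ↥P).2, ?_, ?_⟩
  · rw [Subgroup.orderOf_coe, Subgroup.orderOf_coe, hc]
  · intro x hx
    have := Subgroup.mem_center_iff.1 c.2 ⟨x, hx⟩
    exact congrArg Subtype.val this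

/-- Let p be an odd prime and G a finite group of even order divisible by p in which the centralizer of every non-identity p-element has odd order. If some nontrivial p-subgroup of G has a normalizer of even order, then the normalizer of every Sylow p-subgroup of G has even order. -/
theorem result {G : Type*} [Group G] [Finite G] (p : ℕ) [Fact p.Prime] (hp2 : p ≠ 2) (hpG : p ∣ Nat.card G) (h2G : 2 ∣ Nat.card G) (hC : ∀ g : G, g ≠ 1 → (∃ k : ℕ, orderOf g = p ^ k) → Odd (Nat.card ↥(Subgroup.centralizer ({g} : Set G)))) (Q : Subgroup G) (hQ : IsPGroup p ↥Q) (hQ1 : Q ≠ ⊥) (hev : Even (Nat.card ↥(Subgroup.normalizer (Q : Set G)))) (P : Sylow p G) : Even (Nat.card ↥(Subgroup.normalizer ((P : Subgroup G) : Set G))) := by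
  have hp1 : p ≠ 1 := (Fact.out : p.Prime).one_lt.ne'
  -- first involution
  obtain ⟨y, hyN, hy⟩ := exists_involution_of_even _ hev
  obtain ⟨z, hzQ, hzp, -⟩ := exists_central_order_p p Q hQ hQ1
  have hz1 : z ≠ 1 := by
    intro h; rw [h, orderOf_one] at hzp; exact hp1 hzp.symm
  have hyz : y * z * y⁻¹ = z⁻¹ := inverts p hC Q hQ y hy hyN z hzQ
  have hzodd := hC z hz1 ⟨1, by rw [hzp, pow_one]⟩
  set C := Subgroup.centralizer ({z} : Set G) with hCdef
  let S : Sylow p ↥C := default
  set SG : Subgroup G := (S : Subgroup ↥C).map C.subtype with hSG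
  have hSGp : IsPGroup p ↥SG := S.isPGroup'.map _
  have hSGC : SG ≤ C := by
    rintro _ ⟨s, _, rfl⟩
    exact s.2
  have hy2 : y * y = 1 := by rw [← sq, ← hy, pow_orderOf_eq_one]
  have hev1 : Even (Nat.card ↥(Subgroup.normalizer (SG : Set G))) :=
    even_normalizer_sylow_of_odd p C hzodd y hy (normalizes_centralizer_of_inverts z y hy2 hyz) S
  obtain ⟨y1, hy1N, hy1⟩ := exists_involution_of_even _ hev1
  -- z ∈ SG
  have hzC : z ∈ C := by rw [hCdef, Subgroup.mem_centralizer_singleton_iff]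
  have hzSG : z ∈ SG := by
    apply mem_sylow_map_of_normalizes p C S z hzC (hQ.to_le (by rw [Subgroup.zpowers_le]; exact hzQ))
    apply mem_normalizer_of_conj_mem
    intro s hs
    have hsC := hSGC hs
    rw [hCdef, Subgroup.mem_centralizer_singleton_iff] at hsC
    have : z * s * z⁻¹ = s := by rw [← hsC]; group
    rw [this]; exact hs
  -- a Sylow of G above SG
  obtain ⟨P0, hP0⟩ := hSGp.exists_le_sylow
  have hP0ne : (P0 : Subgroup G) ≠ ⊥ := by
    intro h
    have : z ∈ (P0 : Subgroup G) := hP0 hzSG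
    rw [h, Subgroup.mem_bot] at this
    exact hz1 this
  obtain ⟨z', hz'P, hz'p, hz'c⟩ := exists_central_order_p p (P0 : Subgroup G) P0.isPGroup' hP0ne
  have hz'1 : z' ≠ 1 := by
    intro h; rw [h, orderOf_one] at hz'p; exact hp1 hz'p.symm
  have hz'C : z' ∈ C := by
    rw [hCdef, Subgroup.mem_centralizer_singleton_iff]
    exact (hz'c z (hP0 hzSG)).symm
  have hz'SG : z' ∈ SG := by
    apply mem_sylow_map_of_normalizes p C S z' hz'C
      (P0.isPGroup'.to_le (by rw [Subgroup.zpowers_le]; exact hz'P))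
    apply mem_normalizer_of_conj_mem
    intro s hs
    have := hz'c s (hP0 hs)
    have e : z' * s * z'⁻¹ = s := by rw [← this]; group
    rw [e]; exact hs
  have hy1z' : y1 * z' * y1⁻¹ = z'⁻¹ := inverts p hC SG hSGp y1 hy1 hy1N z' hz'SG
  have hz'odd := hC z' hz'1 ⟨1, by rw [hz'p, pow_one]⟩
  have hP0C' : (P0 : Subgroup G) ≤ Subgroup.centralizer ({z'} : Set G) := by
    intro x hx
    rw [Subgroup.mem_centralizer_singleton_iff]
    exact hz'c x hx
  have hy12 : y1 * y1 = 1 := by rw [← sq, ← hy1, pow_orderOf_eq_one]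
  have hev2 := even_normalizer_sylow_of_odd p _ hz'odd y1 hy1
    (normalizes_centralizer_of_inverts z' y1 hy12 hy1z') (P0.subtype hP0C')
  rw [Sylow.coe_subtype, Subgroup.map_subgroupOf_eq_of_le hP0C'] at hev2
  -- transfer to P
  have h1 := Sylow.card_eq_index_normalizer P
  have h2 := Sylow.card_eq_index_normalizer P0
  have h3 : (Subgroup.normalizer ((P : Subgroup G) : Set G)).index =
      (Subgroup.normalizer ((P0 : Subgroup G) : Set G)).index := by
    rw [Sylow.coe_coe, Sylow.coe_coe, ← h1, ← h2]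
  have h4 := Subgroup.card_mul_index (Subgroup.normalizer ((P : Subgroup G) : Set G))
  have h5 := Subgroup.card_mul_index (Subgroup.normalizer ((P0 : Subgroup G) : Set G))
  rw [h3, ← h5] at h4
  have hne : (Subgroup.normalizer ((P0 : Subgroup G) : Set G)).index ≠ 0 :=
    Subgroup.index_ne_zero_of_finite
  have h6 := Nat.eq_of_mul_eq_mul_right (Nat.pos_of_ne_zero hne) h4
  rw [h6]; exact hev2

end Cfsg.Agent.S3982
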