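import Mathlib
import Cfsg.Statements.S3983
import Cfsg.Agent.Lib.Helper66.TISylow

set_option autoImplicit false
open Cfsg

namespace Cfsg.Agent.S3983

open Cfsg.Agent.Lib.Helper66
open scoped Pointwise

/-- Let P be a Sylow p-subgroup of the finite group G that meets each conjugate g P g⁻¹ with g outside N_G(P) trivially, and let U be a subgroup of G of order divisible by p. Then a Sylow p-subgroup Q of U has the same property inside U: Q meets each conjugate u Q u⁻¹ with u ∈ U outside N_U(Q) trivially. -/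
theorem result {G : Type*} [Group G] [Finite G] (p : ℕ) [Fact p.Prime] (P : Sylow p G) (hTI : ∀ g : G, g ∉ Subgroup.normalizer ((P : Subgroup G) : Set G) → (P : Subgroup G) ⊓ (MulAut.conj g • (P : Subgroup G)) = ⊥) (U : Subgroup G) (hU : p ∣ Nat.card ↥U) (Q : Sylow p ↥U) : ∀ u : ↥U, u ∉ Subgroup.normalizer ((Q : Subgroup ↥U) : Set ↥U) → (Q : Subgroup ↥U) ⊓ (MulAut.conj u • (Q : Subgroup ↥U)) = ⊥ := by
  intro u hu
  obtain ⟨R, hR⟩ := Q.exists_comap_subtype_eq
  obtain ⟨R₂, hR₂⟩ := (u • Q).exists_comap_subtype_eq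
  have hne : R ≠ R₂ := by
    rintro rfl
    apply hu
    have h1 : u • Q = Q := Sylow.ext (hR₂.symm.trans hR)
    have h2 := Sylow.smul_eq_iff_mem_normalizer.1 h1
    rw [← Sylow.coe_coe] at h2
    exact h2
  have hbot := ti_pairs P hTI R R₂ hne
  have h2 : (MulAut.conj u • (Q : Subgroup ↥U)) = ((u • Q : Sylow p ↥U) : Subgroup ↥U) := rfl
  rw [h2, ← hR, ← hR₂, ← Subgroup.comap_inf, hbot]
  exact (MonoidHom.ker_eq_bot_iff _).2 (Subgroup.subtype_injective U)

end Cfsg.Agent.S3983
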