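import Mathlib
import Cfsg.Statements.S3984
import Cfsg.Agent.Lib.Helper66.TISylow

set_option autoImplicit false
open Cfsg

namespace Cfsg.Agent.S3984

open Cfsg.Agent.Lib.Helper66
open scoped Pointwise

theorem map_conj_smul {G H : Type*} [Group G] [Group H] (f : G →* H) (g : G) (R : Subgroup G) :
    (MulAut.conj g • R).map f = MulAut.conj (f g) • R.map f := by
  ext y
  constructor
  · rintro ⟨z, hz, rfl⟩
    have hz : z ∈ MulAut.conj g • R := hz
    rw [Subgroup.mem_smul_pointwise_iff_exists] at hz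
    obtain ⟨r, hr, rfl⟩ := hz
    rw [Subgroup.mem_smul_pointwise_iff_exists]
    refine ⟨f r, ⟨r, hr, rfl⟩, ?_⟩
    simp [MulAut.smul_def, MulAut.conj_apply]
  · intro hy
    rw [Subgroup.mem_smul_pointwise_iff_exists] at hy
    obtain ⟨s, ⟨r, hr, rfl⟩, rfl⟩ := hy
    refine ⟨MulAut.conj g • r, ?_, ?_⟩
    · exact Subgroup.smul_mem_pointwise_smul _ _ _ hr
    · simp [MulAut.smul_def, MulAut.conj_apply]

/-- Let P be a Sylow p-subgroup of the finite group G that meets each conjugate g P g⁻¹ with g outside N_G(P) trivially, and let N be a normal subgroup of G of order prime to p. Then every Sylow p-subgroup Q of G ⧸ N meets each conjugate x Q x⁻¹ with x outside its normalizer trivially. -/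
theorem result {G : Type*} [Group G] [Finite G] (p : ℕ) [Fact p.Prime] (P : Sylow p G) (hTI : ∀ g : G, g ∉ Subgroup.normalizer ((P : Subgroup G) : Set G) → (P : Subgroup G) ⊓ (MulAut.conj g • (P : Subgroup G)) = ⊥) (N : Subgroup G) [N.Normal] (hN : (Nat.card ↥N).Coprime p) (Q : Sylow p (G ⧸ N)) : ∀ x : G ⧸ N, x ∉ Subgroup.normalizer ((Q : Subgroup (G ⧸ N)) : Set (G ⧸ N)) → (Q : Subgroup (G ⧸ N)) ⊓ (MulAut.conj x • (Q : Subgroup (G ⧸ N))) = ⊥ := by
  intro x hx
  set π := QuotientGroup.mk' N with hπ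
  have hsurj : Function.Surjective π := QuotientGroup.mk'_surjective N
  obtain ⟨R, hR⟩ := Sylow.mapSurjective_surjective hsurj p Q
  have hRQ : (R : Subgroup G).map π = (Q : Subgroup (G ⧸ N)) := by
    rw [← hR]; rfl
  obtain ⟨g, rfl⟩ := hsurj x
  rw [Subgroup.eq_bot_iff_forall]
  intro y hy
  rw [Subgroup.mem_inf] at hy
  obtain ⟨hy1, hy2⟩ := hy
  -- y = π a with a ∈ R
  rw [← hRQ] at hy1
  obtain ⟨a, ha, rfl⟩ := hy1
  -- R' = g • R
  set R' : Sylow p G := g • R with hR'
  have hR'Q : (R' : Subgroup G).map π = MulAut.conj (π g) • (Q : Subgroup (G ⧸ N)) := by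
    rw [hR', Sylow.coe_subgroup_smul, map_conj_smul, hRQ]
  set L : Subgroup G := (MulAut.conj (π g) • (Q : Subgroup (G ⧸ N))).comap π with hL
  have hR'L : (R' : Subgroup G) ≤ L := by
    rw [hL, ← Subgroup.map_le_iff_le_comap, hR'Q]
  have haL : a ∈ L := hy2
  -- Sylow in L
  have hzp : IsPGroup p (Subgroup.zpowers (⟨a, haL⟩ : L)) := by
    obtain ⟨n, hn⟩ := IsPGroup.iff_orderOf.1 R.isPGroup' ⟨a, ha⟩
    rw [Subgroup.orderOf_mk] at hn
    apply IsPGroup.of_card (n := n)
    rw [Nat.card_zpowers, Subgroup.orderOf_mk, hn]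
  obtain ⟨T, hT⟩ := hzp.exists_le_sylow
  obtain ⟨l, hl⟩ := MulAction.exists_smul_eq L (R'.subtype hR'L) T
  have haT : (⟨a, haL⟩ : L) ∈ T := hT (Subgroup.mem_zpowers _)
  rw [← hl, Sylow.smul_subtype hR'L l] at haT
  have haR'' : a ∈ ((l : G) • R' : Sylow p G) := by
    have := haT
    rw [← SetLike.mem_coe] at this
    have h2 : (⟨a, haL⟩ : L) ∈ ((((l : G) • R' : Sylow p G) : Subgroup G).subgroupOf L) := this
    rw [Subgroup.mem_subgroupOf] at h2
    exact h2
  by_cases hne : R = (l : G) • R'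
  · -- contradiction with hx
    exfalso
    apply hx
    have h1 : ((l : G) • R' : Sylow p G) = ((l : G) * g) • R := by rw [hR', mul_smul]
    have hQ1 : (Q : Subgroup (G ⧸ N)) = MulAut.conj (π ((l : G) * g)) • (Q : Subgroup (G ⧸ N)) := by
      conv_lhs => rw [← hRQ, hne, h1, Sylow.coe_subgroup_smul, map_conj_smul, hRQ]
    have hl' : π (l : G) ∈ MulAut.conj (π g) • (Q : Subgroup (G ⧸ N)) := l.2
    have hQ2 : MulAut.conj (π ((l : G) * g)) • (Q : Subgroup (G ⧸ N)) =
        MulAut.conj (π g) • (Q : Subgroup (G ⧸ N)) := by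
      rw [map_mul, map_mul, mul_smul, Subgroup.conj_smul_eq_self_of_mem hl']
    have hQ3 : (π g) • Q = Q := by
      apply Sylow.ext
      rw [Sylow.coe_subgroup_smul, ← hQ2, ← hQ1]
    have := Sylow.smul_eq_iff_mem_normalizer.1 hQ3
    rw [← Sylow.coe_coe] at this
    exact this
  · have hbot := ti_pairs P hTI R ((l : G) • R') hne
    have : a ∈ (R : Subgroup G) ⊓ (((l : G) • R' : Sylow p G) : Subgroup G) :=
      Subgroup.mem_inf.2 ⟨ha, haR''⟩
    rw [hbot, Subgroup.mem_bot] at this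
    rw [this, map_one]

end Cfsg.Agent.S3984
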