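import Mathlib
import Cfsg.Statements.S3987
import Cfsg.Agent.S3986

set_option autoImplicit false
open Cfsg

namespace Cfsg.Agent.S3987

open scoped Pointwise

theorem index_inf_eq_mul {G : Type*} [Group G] [Finite G] (A B : Subgroup G)
    (h : ∀ g : G, ∃ a ∈ A, ∃ b ∈ B, g = a * b) : (A ⊓ B).index = A.index * B.index := by
  apply le_antisymm (Subgroup.index_inf_le)
  -- surjection G ⧸ (A ⊓ B) → (G ⧸ A) × (G ⧸ B)
  let f : G ⧸ (A ⊓ B) → (G ⧸ A) × (G ⧸ B) := fun q =>
    (Subgroup.quotientMapOfLE inf_le_left q, Subgroup.quotientMapOfLE inf_le_right q)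
  have hf : Function.Surjective f := by
    rintro ⟨q1, q2⟩
    induction q1 using QuotientGroup.induction_on with
    | H g1 =>
      induction q2 using QuotientGroup.induction_on with
      | H g2 =>
        obtain ⟨a, ha, b, hb, hab⟩ := h (g1⁻¹ * g2)
        refine ⟨QuotientGroup.mk (g1 * a), ?_⟩
        simp only [f, Subgroup.quotientMapOfLE_apply_mk]
        refine Prod.ext ?_ ?_
        · show (QuotientGroup.mk (g1 * a) : G ⧸ A) = QuotientGroup.mk g1
          rw [QuotientGroup.eq]
          have : (g1 * a)⁻¹ * g1 = a⁻¹ := by group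
          rw [this]; exact A.inv_mem ha
        · show (QuotientGroup.mk (g1 * a) : G ⧸ B) = QuotientGroup.mk g2
          rw [QuotientGroup.eq]
          have : (g1 * a)⁻¹ * g2 = a⁻¹ * (g1⁻¹ * g2) := by group
          rw [this, hab]
          have : a⁻¹ * (a * b) = b := by group
          rw [this]; exact hb
  have := Nat.card_le_card_of_surjective f hf
  rw [Nat.card_prod] at this
  exact this

theorem centralizer_mul_of_coprime {G : Type*} [Group G] (x y : G) (hxy : x * y = y * x)
    (hcop : (orderOf x).Coprime (orderOf y)) :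
    Subgroup.centralizer ({x * y} : Set G) =
      Subgroup.centralizer ({x} : Set G) ⊓ Subgroup.centralizer ({y} : Set G) := by
  apply le_antisymm
  · intro g hg
    rw [Subgroup.mem_centralizer_singleton_iff] at hg
    have hc : Commute x y := hxy
    -- x is a power of x*y
    have hpow : ∀ n : ℕ, g * (x * y) ^ n = (x * y) ^ n * g := by
      intro n
      have : Commute g (x * y) := hg
      exact (this.pow_right n)
    have hx : ∃ n : ℕ, (x * y) ^ n = x := by
      obtain ⟨m, hm⟩ := exists_pow_eq_self_of_coprime (x := x) (n := orderOf y) hcop.symm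
      refine ⟨orderOf y * m, ?_⟩
      rw [pow_mul, hc.mul_pow, pow_orderOf_eq_one, mul_one]
      exact hm
    have hy : ∃ n : ℕ, (x * y) ^ n = y := by
      obtain ⟨m, hm⟩ := exists_pow_eq_self_of_coprime (x := y) (n := orderOf x) hcop
      refine ⟨orderOf x * m, ?_⟩
      rw [pow_mul, hc.mul_pow, pow_orderOf_eq_one, one_mul]
      exact hm
    obtain ⟨n, hn⟩ := hx
    obtain ⟨m, hm⟩ := hy
    rw [Subgroup.mem_inf]
    constructor
    · rw [Subgroup.mem_centralizer_singleton_iff, ← hn]; exact hpow n
    · rw [Subgroup.mem_centralizer_singleton_iff, ← hm]; exact hpow m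
  · intro g hg
    rw [Subgroup.mem_inf] at hg
    obtain ⟨hg1, hg2⟩ := hg
    rw [Subgroup.mem_centralizer_singleton_iff] at hg1 hg2 ⊢
    have h1 : Commute g x := hg1
    have h2 : Commute g y := hg2
    exact h1.mul_right h2

/-- Let p be a prime and G a finite group. Then some Sylow p-subgroup of G is a direct factor of G (normal with a normal complement) if and only if for every element x of p-power order and every element y whose order is a power of a prime other than p, the conjugacy class of x y has as many elements as the product of the sizes of the classes of x and of y. -/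
theorem result {G : Type*} [Group G] [Finite G] (p : ℕ) [Fact p.Prime] : (∃ (P : Sylow p G) (K : Subgroup G), (P : Subgroup G).Normal ∧ K.Normal ∧ (P : Subgroup G) ⊓ K = ⊥ ∧ (P : Subgroup G) ⊔ K = ⊤) ↔ ∀ x y : G, (∃ a : ℕ, orderOf x = p ^ a) → (∃ q b : ℕ, q.Prime ∧ q ≠ p ∧ orderOf y = q ^ b) → (Subgroup.centralizer ({x * y} : Set G)).index = (Subgroup.centralizer ({x} : Set G)).index * (Subgroup.centralizer ({y} : Set G)).index := by
  constructor
  · rintro ⟨P, K, hP, hK, hPK, hsup⟩ x y hx hy
    obtain ⟨hxP, hyK, hxy⟩ := Cfsg.Agent.S3986.forward p P K hP hK hPK hsup x y hx hy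
    obtain ⟨a, ha⟩ := hx
    obtain ⟨q, b, hq, hqp, hb⟩ := hy
    have hcop : (orderOf x).Coprime (orderOf y) := by
      rw [ha, hb]
      apply Nat.Coprime.pow
      exact (Nat.coprime_primes Fact.out hq).2 (Ne.symm hqp)
    rw [centralizer_mul_of_coprime x y hxy hcop]
    apply index_inf_eq_mul
    intro g
    -- g = k * u with k ∈ K ≤ C(x), u ∈ P ≤ C(y)
    have hdisj : Disjoint (P : Subgroup G) K := disjoint_iff.2 hPK
    have hcomm := Subgroup.commute_of_normal_of_disjoint _ _ hP hK hdisj
    have hg : g ∈ K ⊔ (P : Subgroup G) := by rw [sup_comm, hsup]; trivial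
    have hg' : g ∈ (K : Set G) * ((P : Subgroup G) : Set G) := by
      rw [← Subgroup.mul_normal K (P : Subgroup G)]; exact hg
    obtain ⟨k, hk, u, hu, rfl⟩ := hg'
    refine ⟨k, ?_, u, ?_, rfl⟩
    · rw [Subgroup.mem_centralizer_singleton_iff]
      exact (hcomm x k hxP hk).symm
    · rw [Subgroup.mem_centralizer_singleton_iff]
      exact (hcomm u y hu hyK)
  · intro h
    apply Cfsg.Agent.S3986.backward p
    intro x y hx hy
    have hidx := h x y hx hy
    -- C(x) ⊓ C(y) ≤ C(xy), and indices
    set A := Subgroup.centralizer ({x} : Set G)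
    set B := Subgroup.centralizer ({y} : Set G)
    set D := Subgroup.centralizer ({x * y} : Set G)
    have hle : A ⊓ B ≤ D := by
      intro g hg
      rw [Subgroup.mem_inf] at hg
      obtain ⟨hg1, hg2⟩ := hg
      rw [Subgroup.mem_centralizer_singleton_iff] at hg1 hg2 ⊢
      have h1 : Commute g x := hg1
      have h2 : Commute g y := hg2
      exact h1.mul_right h2
    have h1 : (A ⊓ B).index ≤ D.index := by
      rw [hidx]; exact Subgroup.index_inf_le
    have h2 : D.index ∣ (A ⊓ B).index := Subgroup.index_dvd_of_le hle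
    have h3 : (A ⊓ B).index = D.index :=
      le_antisymm h1 (Nat.le_of_dvd (Nat.pos_of_ne_zero (Subgroup.index_ne_zero_of_finite)) h2)
    have h4 : A ⊓ B = D := by
      have hrel := Subgroup.relIndex_mul_index hle
      rw [h3] at hrel
      have hD : D.index ≠ 0 := Subgroup.index_ne_zero_of_finite
      have : (A ⊓ B).relIndex D = 1 := by
        have : (A ⊓ B).relIndex D * D.index = 1 * D.index := by rw [one_mul]; exact hrel
        exact Nat.eq_of_mul_eq_mul_right (Nat.pos_of_ne_zero hD) this
      rw [Subgroup.relIndex_eq_one] at this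
      exact le_antisymm hle this
    -- x*y ∈ D so x*y commutes with x
    have hxy : x * y ∈ D := by
      rw [Subgroup.mem_centralizer_singleton_iff]
    rw [← h4, Subgroup.mem_inf] at hxy
    have := hxy.1
    rw [Subgroup.mem_centralizer_singleton_iff] at this
    -- (x*y)*x = x*(x*y)
    have h5 : x * y * x = x * (x * y) := this
    have : y * x = x * y := by
      have := congrArg (fun t => x⁻¹ * t) h5
      simpa [mul_assoc] using this
    exact this.symm

end Cfsg.Agent.S3987
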