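import Mathlib
import Cfsg.Statements.S3992
import Cfsg.Agent.Lib.Helper35.FrobSylow
-- import your own Cfsg.Agent.* helpers here

set_option autoImplicit false
open Cfsg

namespace Cfsg.Agent.S3992


open Cfsg.Agent.Lib.Helper35
open scoped Pointwise

universe u

/-- every non-identity element has prime power order -/
def EPPO (G : Type*) [Group G] : Prop := ∀ g : G, g ≠ 1 → IsPrimePow (orderOf g)

theorem EPPO.subgroup {G : Type*} [Group G] (h : EPPO G) (H : Subgroup G) : EPPO H := by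
  intro g hg
  rw [← Subgroup.orderOf_coe]
  exact h g (fun h1 => hg (Subtype.ext h1))

theorem EPPO.quotient {G : Type*} [Group G] (h : EPPO G) (N : Subgroup G) [N.Normal] :
    EPPO (G ⧸ N) := by
  intro x hx
  obtain ⟨g, rfl⟩ := QuotientGroup.mk_surjective x
  have hg : g ≠ 1 := by
    rintro rfl
    exact hx rfl
  obtain ⟨p, k, hp, hk, hpk⟩ := (isPrimePow_nat_iff _).1 (h g hg)
  have hdvd : orderOf (QuotientGroup.mk' N g) ∣ p ^ k := by
    rw [hpk]; exact orderOf_map_dvd _ g
  obtain ⟨j, _, hj⟩ := (Nat.dvd_prime_pow hp).1 hdvd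
  have hj0 : j ≠ 0 := by
    rintro rfl
    rw [pow_zero, orderOf_eq_one_iff] at hj
    exact hx hj
  exact (isPrimePow_nat_iff _).2 ⟨p, j, hp, Nat.pos_of_ne_zero hj0, hj.symm⟩

theorem EPPO.exists_prime {G : Type*} [Group G] (h : EPPO G) {x : G} (hx : x ≠ 1) :
    ∃ p k : ℕ, p.Prime ∧ 0 < k ∧ orderOf x = p ^ k := by
  obtain ⟨p, k, hp, hk, hpk⟩ := (isPrimePow_nat_iff _).1 (h x hx)
  exact ⟨p, k, hp, hk, hpk.symm⟩

/-- commuting non-identity elements have orders powers of the same prime -/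
theorem EPPO.prime_eq {G : Type*} [Group G] (h : EPPO G) {x y : G} (hxy : Commute x y)
    {p q a b : ℕ} (hp : p.Prime) (hq : q.Prime) (ha : 0 < a) (hb : 0 < b)
    (hx : orderOf x = p ^ a) (hy : orderOf y = q ^ b) : p = q := by
  by_contra hne
  have hcop : (orderOf x).Coprime (orderOf y) := by
    rw [hx, hy]
    exact Nat.Coprime.pow _ _ ((Nat.coprime_primes hp hq).2 hne)
  have hord := hxy.orderOf_mul_eq_mul_orderOf_of_coprime hcop
  have hne1 : x * y ≠ 1 := by
    intro h1
    rw [h1, orderOf_one, hx, hy] at hord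
    have : p ^ a = 1 := Nat.eq_one_of_mul_eq_one_right hord.symm
    have := Nat.one_lt_pow ha.ne' hp.one_lt
    omega
  obtain ⟨r, k, hr, hk, hrk⟩ := (isPrimePow_nat_iff _).1 (h _ hne1)
  rw [hord, hx, hy] at hrk
  have h1 : p ∣ r ^ k := by rw [hrk]; exact Dvd.dvd.mul_right (dvd_pow_self p ha.ne') _
  have h2 : q ∣ r ^ k := by rw [hrk]; exact Dvd.dvd.mul_left (dvd_pow_self q hb.ne') _
  have e1 := (Nat.prime_dvd_prime_iff_eq hp hr).1 (hp.dvd_of_dvd_pow h1)
  have e2 := (Nat.prime_dvd_prime_iff_eq hq hr).1 (hq.dvd_of_dvd_pow h2)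
  exact hne (e1.trans e2.symm)

/-- elements commuting with a non-identity `p`-element are `p`-elements -/
theorem EPPO.pow_of_commute {G : Type*} [Group G] (h : EPPO G) {x y : G} (hxy : Commute x y)
    {p a : ℕ} (hp : p.Prime) (ha : 0 < a) (hx : orderOf x = p ^ a) : ∃ j, orderOf y = p ^ j := by
  by_cases hy : y = 1
  · exact ⟨0, by rw [hy, orderOf_one, pow_zero]⟩
  · obtain ⟨q, b, hq, hb, hyq⟩ := h.exists_prime hy
    have := h.prime_eq hxy hp hq ha hb hx hyq
    exact ⟨b, by rw [hyq, this]⟩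

/-- a minimal subgroup with a property -/
theorem exists_minimal_subgroup {G : Type*} [Group G] [Finite G] (P : Subgroup G → Prop)
    (h : ∃ A, P A) : ∃ A, P A ∧ ∀ B, P B → B ≤ A → B = A := by
  obtain ⟨A, hA, hmin⟩ := (wellFounded_lt (α := Subgroup G)).has_min {A | P A} h
  refine ⟨A, hA, fun B hB hBA => ?_⟩
  by_contra hne
  exact hmin B hB (lt_of_le_of_ne hBA hne)

/-- a nontrivial solvable normal subgroup contains a nontrivial abelian normal subgroup -/
theorem exists_abelian_normal {G : Type*} [Group G] [Finite G] (R : Subgroup G) [R.Normal]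
    (hRs : Group.IsSolvable R) (hR : R ≠ ⊥) :
    ∃ A : Subgroup G, A.Normal ∧ A ≤ R ∧ A ≠ ⊥ ∧ ∀ x ∈ A, ∀ y ∈ A, x * y = y * x := by
  obtain ⟨A, ⟨hAn, hAR, hA1⟩, hmin⟩ := exists_minimal_subgroup
    (fun A : Subgroup G => A.Normal ∧ A ≤ R ∧ A ≠ ⊥) ⟨R, inferInstance, le_rfl, hR⟩
  haveI := hAn
  have hAs : Group.IsSolvable A :=
    Group.isSolvable_of_isSolvable_injective (Subgroup.inclusion_injective hAR)
  haveI : Nontrivial A := (Subgroup.nontrivial_iff_ne_bot A).2 hA1
  have hlt := Group.IsSolvable.commutator_lt_top_of_nontrivial A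
  have hcomm : ⁅A, A⁆ = ⊥ := by
    by_contra hne
    have hle : ⁅A, A⁆ ≤ A := Subgroup.commutator_le_left A A
    have := hmin ⁅A, A⁆ ⟨inferInstance, hle.trans hAR, hne⟩ hle
    rw [← Subgroup.map_subtype_commutator] at this
    have h2 : (commutator A).map A.subtype = (⊤ : Subgroup A).map A.subtype := by
      rw [this, ← MonoidHom.range_eq_map, Subgroup.range_subtype]
    have h3 := Subgroup.map_injective A.subtype_injective h2
    exact hlt.ne h3
  refine ⟨A, hAn, hAR, hA1, fun x hx y hy => ?_⟩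
  have := (Subgroup.commutator_eq_bot_iff_le_centralizer.1 hcomm) hx
  exact (Subgroup.mem_centralizer_iff.1 this y hy).symm


/-- uniqueness of subgroups of order `p` in a `p`-subgroup acting fixed-point-freely -/
theorem eq_of_card_eq_prime_of_fpf {G : Type*} [Group G] [Finite G] (K H : Subgroup G) [K.Normal]
    (hK : K ≠ ⊥) (hfpf : ∀ h ∈ H, h ≠ 1 → K ⊓ Subgroup.centralizer {h} = ⊥)
    (p : ℕ) [hp : Fact p.Prime] (hH : IsPGroup p H) (Z₁ Z₂ : Subgroup G) (h1 : Z₁ ≤ H)
    (h2 : Z₂ ≤ H) (c1 : Nat.card Z₁ = p) (c2 : Nat.card Z₂ = p) : Z₁ = Z₂ := by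
  have hP : IsPGroup p (⊤ : Subgroup H) := hH.to_subgroup ⊤
  have hbij : Function.Bijective (⊤ : Subgroup H).subtype :=
    ⟨Subtype.val_injective, fun x => ⟨⟨x, Subgroup.mem_top x⟩, rfl⟩⟩
  let C₁ : Subgroup (⊤ : Subgroup H) := (Z₁.subgroupOf H).comap (⊤ : Subgroup H).subtype
  let C₂ : Subgroup (⊤ : Subgroup H) := (Z₂.subgroupOf H).comap (⊤ : Subgroup H).subtype
  have hc : ∀ Z : Subgroup G, Z ≤ H →
      Nat.card ((Z.subgroupOf H).comap (⊤ : Subgroup H).subtype) = Nat.card Z := by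
    intro Z hZ
    have e1 : Nat.card (Z.subgroupOf H) = Nat.card Z :=
      Nat.card_congr (Subgroup.subgroupOfEquivOfLe hZ).toEquiv
    rw [← e1, ← Subgroup.card_map_of_injective hbij.1 (K := (Z.subgroupOf H).comap
      (⊤ : Subgroup H).subtype), Subgroup.map_comap_eq_self_of_surjective hbij.2]
  have := unique_subgroup_of_order_p_of_fpf K H hK hfpf p ⊤ hP C₁ C₂
    ((hc Z₁ h1).trans c1) ((hc Z₂ h2).trans c2)
  have h3 : Z₁.subgroupOf H = Z₂.subgroupOf H :=
    Subgroup.comap_injective hbij.2 this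
  rw [Subgroup.subgroupOf_inj] at h3
  rwa [inf_eq_left.mpr h1, inf_eq_left.mpr h2] at h3


theorem not_isPrimePow_mul {s t : ℕ} (hs : s.Prime) (ht : t.Prime) (hst : s ≠ t) :
    ¬ IsPrimePow (s * t) := by
  intro h
  obtain ⟨r, k, hr, hk, hrk⟩ := (isPrimePow_nat_iff _).1 h
  have h1 : s ∣ r ^ k := by rw [hrk]; exact dvd_mul_right s t
  have h2 : t ∣ r ^ k := by rw [hrk]; exact dvd_mul_left t s
  have e1 := (Nat.prime_dvd_prime_iff_eq hs hr).1 (hs.dvd_of_dvd_pow h1)
  have e2 := (Nat.prime_dvd_prime_iff_eq ht hr).1 (ht.dvd_of_dvd_pow h2)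
  exact hst (e1.trans e2.symm)

/-- an abelian (elementwise commuting) subgroup of an EPPO group containing a `p`-element `≠ 1`
is a `p`-group -/
theorem isPGroup_of_abelian {G : Type*} [Group G] (hpp : EPPO G) (A : Subgroup G)
    (hAc : ∀ x ∈ A, ∀ y ∈ A, x * y = y * x) {a : G} (haA : a ∈ A) {p k : ℕ} (hp : p.Prime)
    (hk : 0 < k) (hak : orderOf a = p ^ k) : IsPGroup p A := by
  intro x
  obtain ⟨j, hj⟩ := hpp.pow_of_commute (show Commute a (x : G) from hAc a haA x x.2) hp hk hak
  refine ⟨j, ?_⟩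
  apply Subtype.ext
  rw [Subgroup.coe_pow, ← hj, pow_orderOf_eq_one]
  rfl

/-- Higman: a solvable group all of whose elements have prime power order has order divisible by
at most two primes. -/
theorem higman_solvable : ∀ n : ℕ, ∀ (H : Type u) [Group H] [Finite H], Nat.card H = n →
    Group.IsSolvable H → EPPO H → (Nat.card H).primeFactors.card ≤ 2 := by
  intro n
  induction n using Nat.strong_induction_on with
  | _ n ih =>
  intro H _ _ hcard hsolv hpp
  by_cases hnt : Nontrivial H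
  swap
  · rw [not_nontrivial_iff_subsingleton] at hnt
    rw [Nat.card_of_subsingleton (1 : H)]
    simp
  have hTs : Group.IsSolvable (⊤ : Subgroup H) :=
    Group.isSolvable_of_isSolvable_injective (Subgroup.subtype_injective _)
  obtain ⟨A, hAn, -, hA1, hAc⟩ := exists_abelian_normal (⊤ : Subgroup H) hTs top_ne_bot
  haveI := hAn
  obtain ⟨⟨a, haA⟩, ha1'⟩ := (Subgroup.ne_bot_iff_exists_ne_one).1 hA1
  have ha1 : a ≠ 1 := fun h => ha1' (Subtype.ext h)
  obtain ⟨p, k, hp, hk, hak⟩ := hpp.exists_prime ha1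
  haveI := Fact.mk hp
  have hAp : IsPGroup p A := isPGroup_of_abelian hpp A hAc haA hp hk hak
  obtain ⟨c, hc⟩ := IsPGroup.iff_card.1 hAp
  have hc0 : c ≠ 0 := by
    rintro rfl
    rw [pow_zero] at hc
    exact hA1 (Subgroup.eq_bot_of_card_eq A hc)
  set m := Nat.card (H ⧸ A) with hm
  have hmul : Nat.card H = p ^ c * m := by
    rw [← hc, mul_comm]; exact Subgroup.card_eq_card_quotient_mul_card_subgroup A
  have hm0 : m ≠ 0 := Nat.card_pos.ne'
  have hlt : m < n := by
    rw [← hcard, hmul]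
    have : 2 ≤ p ^ c := by
      calc 2 ≤ p := hp.two_le
        _ = p ^ 1 := (pow_one p).symm
        _ ≤ p ^ c := Nat.pow_le_pow_right hp.pos (Nat.pos_of_ne_zero hc0)
    have hmpos : 0 < m := Nat.pos_of_ne_zero hm0
    nlinarith
  have ih' : m.primeFactors.card ≤ 2 := ih m hlt (H ⧸ A) rfl inferInstance (hpp.quotient A)
  have hpf : (Nat.card H).primeFactors = insert p m.primeFactors := by
    rw [hmul, Nat.primeFactors_mul (pow_ne_zero _ hp.ne_zero) hm0,
      Nat.primeFactors_prime_pow hc0 hp, Finset.insert_eq]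
  by_cases hpm : p ∈ m.primeFactors
  · rw [hpf, Finset.insert_eq_of_mem hpm]; exact ih'
  by_cases hle1 : m.primeFactors.card ≤ 1
  · rw [hpf, Finset.card_insert_of_notMem hpm]; omega
  exfalso
  have h2 : m.primeFactors.card = 2 := by omega
  obtain ⟨q, r, hqr, hpf2⟩ := Finset.card_eq_two.1 h2
  have hq : q ∈ m.primeFactors := by rw [hpf2]; simp
  have hr : r ∈ m.primeFactors := by rw [hpf2]; simp
  have hidx : A.index = m := rfl
  have hpm' : ¬ p ∣ m := fun hd => hpm (Nat.mem_primeFactors.2 ⟨hp, hd, hm0⟩)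
  have hcop : (Nat.card A).Coprime A.index := by
    rw [hc, hidx]
    exact Nat.Coprime.pow_left c ((Nat.Prime.coprime_iff_not_dvd hp).2 hpm')
  obtain ⟨K, hK⟩ := Subgroup.exists_right_complement'_of_coprime hcop
  have hKcard : Nat.card K = m := by
    have := hK.symm.index_eq_card
    rw [← this, hidx]
  -- the complement acts fixed-point-freely
  have hfpf : ∀ y ∈ K, y ≠ 1 → A ⊓ Subgroup.centralizer {y} = ⊥ := by
    intro y hy hy1
    rw [eq_bot_iff]
    rintro x ⟨hxA, hxc⟩
    rw [Subgroup.mem_bot]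
    by_contra hx1
    obtain ⟨i, hi⟩ := hpp.pow_of_commute (show Commute a x from hAc a haA x hxA) hp hk hak
    have hi0 : 0 < i := by
      rcases Nat.eq_zero_or_pos i with rfl | h
      · rw [pow_zero, orderOf_eq_one_iff] at hi
        exact absurd hi hx1
      · exact h
    obtain ⟨s, j, hs, hj, hyj⟩ := hpp.exists_prime hy1
    have hcomm : Commute x y := Subgroup.mem_centralizer_singleton_iff.1 hxc
    have hps := hpp.prime_eq hcomm hp hs hi0 hj hi hyj
    apply hpm'
    rw [← hKcard, hps]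
    have h1 : orderOf y ∣ Nat.card K := Subgroup.orderOf_dvd_natCard K hy
    rw [hyj] at h1
    exact (dvd_pow_self s hj.ne').trans h1
  -- structure of the complement
  have hKs : Group.IsSolvable K := inferInstance
  have hKpp : EPPO K := hpp.subgroup K
  have hqK : q ∣ Nat.card K := by rw [hKcard]; exact (Nat.mem_primeFactors.1 hq).2.1
  have hrK : r ∣ Nat.card K := by rw [hKcard]; exact (Nat.mem_primeFactors.1 hr).2.1
  have hKnt : Nontrivial K := by
    apply Finite.one_lt_card_iff_nontrivial.1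
    have := Nat.le_of_dvd Nat.card_pos hqK
    have := (Nat.mem_primeFactors.1 hq).1.two_le
    omega
  have hKTs : Group.IsSolvable (⊤ : Subgroup K) :=
    Group.isSolvable_of_isSolvable_injective (Subgroup.subtype_injective _)
  obtain ⟨A₂, hA₂n, -, hA₂1, hA₂c⟩ := exists_abelian_normal (⊤ : Subgroup K) hKTs top_ne_bot
  haveI := hA₂n
  obtain ⟨⟨a₂, ha₂A⟩, ha₂1'⟩ := (Subgroup.ne_bot_iff_exists_ne_one).1 hA₂1
  have ha₂1 : a₂ ≠ 1 := fun h => ha₂1' (Subtype.ext h)
  obtain ⟨s, i, hs, hi, ha₂i⟩ := hKpp.exists_prime ha₂1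
  haveI := Fact.mk hs
  have hA₂p : IsPGroup s A₂ := isPGroup_of_abelian hKpp A₂ hA₂c ha₂A hs hi ha₂i
  have hsK : s ∣ Nat.card K := by
    have h1 : orderOf a₂ ∣ Nat.card K := orderOf_dvd_natCard a₂
    rw [ha₂i] at h1
    exact (dvd_pow_self s hi.ne').trans h1
  have hsm : s ∈ m.primeFactors := Nat.mem_primeFactors.2 ⟨hs, hKcard ▸ hsK, hm0⟩
  obtain ⟨t, ht, hts, htK⟩ : ∃ t : ℕ, t.Prime ∧ s ≠ t ∧ t ∣ Nat.card K := by
    rw [hpf2] at hsm
    rcases Finset.mem_insert.1 hsm with h | h
    · exact ⟨r, (Nat.mem_primeFactors.1 hr).1, by rw [h]; exact hqr, hrK⟩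
    · rw [Finset.mem_singleton] at h
      exact ⟨q, (Nat.mem_primeFactors.1 hq).1, by rw [h]; exact hqr.symm, hqK⟩
  haveI := Fact.mk ht
  -- a normal subgroup of order s
  obtain ⟨c₂, hc₂⟩ := IsPGroup.iff_card.1 hA₂p
  have hc₂0 : c₂ ≠ 0 := by
    rintro rfl
    rw [pow_zero] at hc₂
    exact hA₂1 (Subgroup.eq_bot_of_card_eq A₂ hc₂)
  have hsA₂ : s ∣ Nat.card A₂ := by rw [hc₂]; exact dvd_pow_self s hc₂0
  obtain ⟨z, hz⟩ := exists_prime_orderOf_dvd_card' s hsA₂
  let Z₁ : Subgroup K := Subgroup.zpowers (z : K)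
  have hZ₁card : Nat.card Z₁ = s := by
    rw [Nat.card_zpowers, Subgroup.orderOf_coe, hz]
  have hZ₁A : Z₁ ≤ A₂ := by
    rw [Subgroup.zpowers_le]; exact z.2
  have hZ₁n : Z₁.Normal := by
    constructor
    intro x hx g
    let Z₂ : Subgroup K := Z₁.map (MulAut.conj g).toMonoidHom
    have hZ₂card : Nat.card Z₂ = s := by
      rw [Subgroup.card_map_of_injective (MulAut.conj g).injective, hZ₁card]
    have hZ₂A : Z₂ ≤ A₂ := by
      rintro _ ⟨w, hw, rfl⟩
      exact hA₂n.conj_mem w (hZ₁A hw) g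
    have hcc : ∀ Z : Subgroup K, Z ≤ A₂ → Nat.card (Z.subgroupOf A₂) = Nat.card Z :=
      fun Z hZ => Nat.card_congr (Subgroup.subgroupOfEquivOfLe hZ).toEquiv
    have := unique_subgroup_of_order_p_of_fpf A K hA1 hfpf s A₂ hA₂p
      (Z₁.subgroupOf A₂) (Z₂.subgroupOf A₂) ((hcc Z₁ hZ₁A).trans hZ₁card)
      ((hcc Z₂ hZ₂A).trans hZ₂card)
    rw [Subgroup.subgroupOf_inj, inf_eq_left.mpr hZ₁A, inf_eq_left.mpr hZ₂A] at this
    rw [this]
    exact ⟨x, hx, rfl⟩
  obtain ⟨y, hy⟩ := exists_prime_orderOf_dvd_card' t htK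
  let Y : Subgroup K := Subgroup.zpowers y
  have hYcard : Nat.card Y = t := by rw [Nat.card_zpowers, hy]
  let B : Subgroup K := Z₁ ⊔ Y
  have hBcard : Nat.card B = s * t := by
    have hcop' : (Nat.card Z₁).Coprime (Nat.card Y) := by
      rw [hZ₁card, hYcard]; exact (Nat.coprime_primes hs ht).2 hts
    have hinf : Z₁ ⊓ Y = ⊥ := (Subgroup.disjoint_of_coprime_natCard hcop').eq_bot
    have h1 : Z₁.relIndex B = t := by
      show Z₁.relIndex (Z₁ ⊔ Y) = t
      rw [Subgroup.relIndex_sup_left, ← Subgroup.inf_relIndex_right, hinf,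
        Subgroup.relIndex_bot_left, hYcard]
    have h2 := Subgroup.relIndex_mul_relIndex ⊥ Z₁ B (bot_le : (⊥ : Subgroup K) ≤ Z₁)
      (le_sup_left : Z₁ ≤ B)
    rw [Subgroup.relIndex_bot_left, Subgroup.relIndex_bot_left, hZ₁card, h1] at h2
    exact h2.symm
  let B' : Subgroup H := B.map K.subtype
  have hB'card : Nat.card B' = s * t := by
    rw [Subgroup.card_map_of_injective K.subtype_injective, hBcard]
  have hB'K : B' ≤ K := Subgroup.map_subtype_le _
  have hcyc : IsCyclic B' := isCyclic_of_fpf A B' hA1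
    (fun b hb hb1 => hfpf b (hB'K hb) hb1) inferInstance (Or.inr ⟨s, t, hs, ht, hB'card⟩)
  obtain ⟨g, hg⟩ := hcyc.exists_generator
  have hgord : orderOf g = s * t := by
    rw [orderOf_eq_card_of_forall_mem_zpowers hg, hB'card]
  have hg1 : (g : H) ≠ 1 := by
    intro h
    have : g = 1 := Subtype.ext h
    rw [this, orderOf_one] at hgord
    have := hs.two_le
    have := ht.two_le
    nlinarith
  have := hpp (g : H) hg1
  rw [Subgroup.orderOf_coe, hgord] at this
  exact not_isPrimePow_mul hs ht hts this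


/-- the solvable radical of a non-solvable EPPO group is a `p`-group -/
theorem radical_isPGroup {G : Type*} [Group G] [Finite G] (hpp : EPPO G)
    (hns : ¬ Group.IsSolvable G) (R : Subgroup G) [R.Normal] (hRs : Group.IsSolvable R) :
    ∃ p : ℕ, p.Prime ∧ IsPGroup p R := by
  by_cases hR : R = ⊥
  · refine ⟨2, Nat.prime_two, fun x => ⟨0, ?_⟩⟩
    have : (x : G) ∈ (⊥ : Subgroup G) := hR ▸ x.2
    rw [Subgroup.mem_bot] at this
    rw [pow_zero, pow_one]
    exact Subtype.ext this
  obtain ⟨A, hAn, hAR, hA1, hAc⟩ := exists_abelian_normal R hRs hR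
  haveI := hAn
  obtain ⟨⟨a, haA⟩, ha1'⟩ := (Subgroup.ne_bot_iff_exists_ne_one).1 hA1
  have ha1 : a ≠ 1 := fun h => ha1' (Subtype.ext h)
  obtain ⟨p, k, hp, hk, hak⟩ := hpp.exists_prime ha1
  have hAp : IsPGroup p A := isPGroup_of_abelian hpp A hAc haA hp hk hak
  refine ⟨p, hp, ?_⟩
  by_contra hnot
  -- an element of R of order a power of another prime
  have : ∃ x : R, ∀ n : ℕ, x ^ p ^ n ≠ 1 := by
    by_contra h
    push Not at h
    exact hnot h
  obtain ⟨x, hx⟩ := this
  have hx1 : (x : G) ≠ 1 := by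
    intro h
    apply hx 0
    rw [pow_zero, pow_one]
    exact Subtype.ext h
  obtain ⟨q, j, hq, hj, hxj⟩ := hpp.exists_prime hx1
  have hqp : q ≠ p := by
    rintro rfl
    apply hx j
    apply Subtype.ext
    rw [Subgroup.coe_pow, ← hxj, pow_orderOf_eq_one]
    rfl
  haveI := Fact.mk hq
  have hqR : q ∣ Nat.card R := by
    have h1 : orderOf x ∣ Nat.card R := orderOf_dvd_natCard x
    rw [← Subgroup.orderOf_coe, hxj] at h1
    exact (dvd_pow_self q hj.ne').trans h1
  obtain ⟨Q⟩ : Nonempty (Sylow q R) := inferInstance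
  let Q' : Subgroup G := (Q : Subgroup R).map R.subtype
  have hQ'p : IsPGroup q Q' := Q.isPGroup'.map R.subtype
  have hQ'card : q ∣ Nat.card Q' := by
    rw [Subgroup.card_map_of_injective R.subtype_injective]
    exact Q.dvd_card_of_dvd_card hqR
  -- elements of Q' act fixed-point-freely on A
  have hordQ' : ∀ h ∈ Q', h ≠ 1 → ∃ i, 0 < i ∧ orderOf h = q ^ i := by
    intro h hh hh1
    obtain ⟨i, hi⟩ := (IsPGroup.iff_orderOf.1 hQ'p) ⟨h, hh⟩
    rw [Subgroup.orderOf_mk] at hi
    refine ⟨i, ?_, hi⟩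
    rcases Nat.eq_zero_or_pos i with rfl | h0
    · rw [pow_zero, orderOf_eq_one_iff] at hi
      exact absurd hi hh1
    · exact h0
  have hfpf : ∀ h ∈ Q', h ≠ 1 → A ⊓ Subgroup.centralizer {h} = ⊥ := by
    intro h hh hh1
    obtain ⟨i, hi0, hi⟩ := hordQ' h hh hh1
    rw [eq_bot_iff]
    rintro y ⟨hyA, hyc⟩
    rw [Subgroup.mem_bot]
    by_contra hy1
    obtain ⟨i', hi'⟩ := hpp.pow_of_commute (show Commute a y from hAc a haA y hyA) hp hk hak
    have hi'0 : 0 < i' := by
      rcases Nat.eq_zero_or_pos i' with rfl | h0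
      · rw [pow_zero, orderOf_eq_one_iff] at hi'
        exact absurd hi' hy1
      · exact h0
    have hcomm : Commute y h := Subgroup.mem_centralizer_singleton_iff.1 hyc
    exact hqp (hpp.prime_eq hcomm hp hq hi'0 hi0 hi' hi).symm
  -- a subgroup of order q
  obtain ⟨z, hz⟩ := exists_prime_orderOf_dvd_card' q hQ'card
  let Z₀ : Subgroup G := Subgroup.zpowers (z : G)
  have hZ₀card : Nat.card Z₀ = q := by
    rw [Nat.card_zpowers, Subgroup.orderOf_coe, hz]
  have hZ₀Q : Z₀ ≤ Q' := by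
    rw [Subgroup.zpowers_le]; exact z.2
  -- the normalizer of Q' normalizes Z₀
  have hNN : Subgroup.normalizer (Q' : Set G) ≤ Subgroup.normalizer (Z₀ : Set G) := by
    intro g hg
    let Z₂ : Subgroup G := Z₀.map (MulAut.conj g).toMonoidHom
    have hZ₂card : Nat.card Z₂ = q := by
      rw [Subgroup.card_map_of_injective (MulAut.conj g).injective, hZ₀card]
    have hZ₂Q : Z₂ ≤ Q' := by
      rintro _ ⟨w, hw, rfl⟩
      exact (Subgroup.mem_normalizer_iff.1 hg w).1 (hZ₀Q hw)
    have heq : Z₀ = Z₂ :=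
      eq_of_card_eq_prime_of_fpf A Q' hA1 hfpf q hQ'p Z₀ Z₂ hZ₀Q hZ₂Q hZ₀card hZ₂card
    rw [Subgroup.mem_normalizer_iff]
    intro n
    constructor
    · intro hn
      have : g * n * g⁻¹ ∈ Z₂ := ⟨n, hn, rfl⟩
      rwa [← heq] at this
    · intro hn
      have hn' : g * n * g⁻¹ ∈ Z₂ := heq ▸ hn
      obtain ⟨w, hw, hwn⟩ := hn'
      have : w = n := (MulAut.conj g).injective hwn
      rwa [← this]
  -- the normalizer of Z₀ is solvable
  have hsolvN : Group.IsSolvable (Subgroup.normalizer (Z₀ : Set G)) := by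
    have hkp : IsPGroup q Z₀.normalizerMonoidHom.ker := by
      intro c
      have hc : ((c : Subgroup.normalizer (Z₀ : Set G)) : G) ∈
          Subgroup.centralizer (Z₀ : Set G) := by
        have h1 : (c : Subgroup.normalizer (Z₀ : Set G)) ∈ Z₀.normalizerMonoidHom.ker := c.2
        have h2 : (c : Subgroup.normalizer (Z₀ : Set G)) ∈
            (Subgroup.centralizer (Z₀ : Set G)).subgroupOf (Subgroup.normalizer (Z₀ : Set G)) := by
          rw [← Subgroup.normalizerMonoidHom_ker]; exact h1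
        exact h2
      have hcomm : Commute (z : G) ((c : Subgroup.normalizer (Z₀ : Set G)) : G) :=
        Subgroup.mem_centralizer_iff.1 hc (z : G) (Subgroup.mem_zpowers _)
      obtain ⟨i, hi⟩ := hpp.pow_of_commute hcomm hq one_pos
        (by rw [Subgroup.orderOf_coe, hz, pow_one])
      refine ⟨i, ?_⟩
      apply Subtype.ext
      apply Subtype.ext
      rw [Subgroup.coe_pow, Subgroup.coe_pow, ← hi, pow_orderOf_eq_one]
      rfl
    haveI := hkp.isNilpotent
    haveI : Group.IsSolvable Z₀.normalizerMonoidHom.ker := inferInstance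
    haveI : Group.IsSolvable (MulAut Z₀) :=
      Group.isSolvable_of_isSolvable_injective (f := (IsCyclic.mulAutMulEquiv Z₀).toMonoidHom)
        (IsCyclic.mulAutMulEquiv Z₀).injective
    exact Group.isSolvable_of_ker_le_range Z₀.normalizerMonoidHom.ker.subtype
      Z₀.normalizerMonoidHom (by rw [Subgroup.range_subtype])
  have hsolvNQ : Group.IsSolvable (Subgroup.normalizer (Q' : Set G)) :=
    Group.isSolvable_of_isSolvable_injective (Subgroup.inclusion_injective hNN)
  -- Frattini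
  have hfr : Subgroup.normalizer (Q' : Set G) ⊔ R = ⊤ := Sylow.normalizer_sup_eq_top Q
  have hquot : Group.IsSolvable (G ⧸ R) := by
    let φ : Subgroup.normalizer (Q' : Set G) →* G ⧸ R :=
      (QuotientGroup.mk' R).comp (Subgroup.subtype _)
    have hφ : Function.Surjective φ := by
      intro x
      obtain ⟨g, rfl⟩ := QuotientGroup.mk_surjective x
      have hg : g ∈ Subgroup.normalizer (Q' : Set G) ⊔ R := hfr ▸ Subgroup.mem_top g
      have hg' : g ∈ ((Subgroup.normalizer (Q' : Set G) : Subgroup G) : Set G) * (R : Set G) := by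
        rw [← Subgroup.mul_normal]; exact hg
      obtain ⟨n, hn, r, hr, rfl⟩ := hg'
      refine ⟨⟨n, hn⟩, ?_⟩
      show (QuotientGroup.mk n : G ⧸ R) = QuotientGroup.mk (n * r)
      rw [QuotientGroup.mk_mul, (QuotientGroup.eq_one_iff r).2 hr, mul_one]
    exact Group.isSolvable_of_surjective hφ
  exact hns (Group.isSolvable_of_ker_le_range R.subtype (QuotientGroup.mk' R)
    (by rw [QuotientGroup.ker_mk', Subgroup.range_subtype]))


/-- In an EPPO group with trivial solvable radical there is a unique minimal normal subgroup, and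
it is non-abelian simple. -/
theorem exists_simple_min_normal {Q : Type*} [Group Q] [Finite Q] (hpp : EPPO Q) [Nontrivial Q]
    (hrad : ∀ N : Subgroup Q, N.Normal → Group.IsSolvable N → N = ⊥) :
    ∃ M : Subgroup Q, M.Normal ∧ IsSimpleGroup M ∧ ¬ IsMulCommutative M ∧
      ∀ N : Subgroup Q, N.Normal → N ≠ ⊥ → M ≤ N := by
  obtain ⟨M, ⟨hMn, hM1⟩, hMmin⟩ := exists_minimal_subgroup
    (fun N : Subgroup Q => N.Normal ∧ N ≠ ⊥) ⟨⊤, inferInstance, top_ne_bot⟩
  haveI := hMn
  have hMns : ¬ Group.IsSolvable M := fun h => hM1 (hrad M hMn h)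
  haveI hMnt : Nontrivial M := (Subgroup.nontrivial_iff_ne_bot M).2 hM1
  -- two subgroups normalizing each other and meeting trivially commute
  have hcommute : ∀ T U : Subgroup Q,
      (∀ u ∈ U, ∀ t ∈ T, u * t * u⁻¹ ∈ T) → (∀ t ∈ T, ∀ u ∈ U, t * u * t⁻¹ ∈ U) →
      T ⊓ U = ⊥ → ∀ t ∈ T, ∀ u ∈ U, Commute t u := by
    intro T U hT hU hTU t ht u hu
    have h1 : t * u * t⁻¹ * u⁻¹ ∈ U :=
      Subgroup.mul_mem _ (hU t ht u hu) (Subgroup.inv_mem _ hu)
    have h2 : t * u * t⁻¹ * u⁻¹ ∈ T := by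
      have : t * u * t⁻¹ * u⁻¹ = t * (u * t⁻¹ * u⁻¹) := by group
      rw [this]
      exact Subgroup.mul_mem _ ht (hT u hu t⁻¹ (Subgroup.inv_mem _ ht))
    have h3 : t * u * t⁻¹ * u⁻¹ ∈ T ⊓ U := ⟨h2, h1⟩
    rw [hTU, Subgroup.mem_bot] at h3
    show t * u = u * t
    calc t * u = (t * u * t⁻¹ * u⁻¹) * (u * t) := by group
      _ = u * t := by rw [h3, one_mul]
  refine ⟨M, hMn, ?_, ?_, ?_⟩
  · -- simplicity
    refine ⟨fun H hH => ?_⟩
    by_contra hcon
    push Not at hcon
    obtain ⟨hHbot, hHtop⟩ := hcon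
    let PT : Subgroup Q → Prop := fun T =>
      T ≤ M ∧ T ≠ ⊥ ∧ T ≠ M ∧ ∀ m ∈ M, ∀ t ∈ T, m * t * m⁻¹ ∈ T
    have hex : ∃ T, PT T := by
      refine ⟨H.map M.subtype, Subgroup.map_subtype_le _, ?_, ?_, ?_⟩
      · intro h
        exact hHbot ((Subgroup.map_eq_bot_iff_of_injective H M.subtype_injective).1 h)
      · intro h
        apply hHtop
        apply Subgroup.map_injective M.subtype_injective
        rw [h, ← MonoidHom.range_eq_map, Subgroup.range_subtype]
      · rintro m hm _ ⟨t, ht, rfl⟩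
        exact ⟨⟨m, hm⟩ * t * ⟨m, hm⟩⁻¹, hH.conj_mem t ht ⟨m, hm⟩, rfl⟩
    obtain ⟨T, ⟨hTM, hT1, hTne, hTnorm⟩, hTmin⟩ := exists_minimal_subgroup PT hex
    -- conjugates of T
    let Tg : Q → Subgroup Q := fun g => T.map (MulAut.conj g).toMonoidHom
    have hTgmem : ∀ g t, t ∈ T → g * t * g⁻¹ ∈ Tg g := fun g t ht => ⟨t, ht, rfl⟩
    have hTgM : ∀ g, Tg g ≤ M := by
      rintro g _ ⟨t, ht, rfl⟩
      exact hMn.conj_mem t (hTM ht) g
    have hTgcard : ∀ g, Nat.card (Tg g) = Nat.card T := fun g =>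
      Subgroup.card_map_of_injective (MulAut.conj g).injective
    have hTgnorm : ∀ g, ∀ m ∈ M, ∀ u ∈ Tg g, m * u * m⁻¹ ∈ Tg g := by
      rintro g m hm _ ⟨t, ht, rfl⟩
      have hm' : g⁻¹ * m * g ∈ M := by
        have := hMn.conj_mem m hm g⁻¹
        rwa [inv_inv] at this
      refine ⟨(g⁻¹ * m * g) * t * (g⁻¹ * m * g)⁻¹, hTnorm _ hm' t ht, ?_⟩
      show g * ((g⁻¹ * m * g) * t * (g⁻¹ * m * g)⁻¹) * g⁻¹ = m * (g * t * g⁻¹) * m⁻¹
      group
    -- some conjugate differs from T
    have hexg : ∃ g, Tg g ≠ T := by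
      by_contra hall
      push Not at hall
      have hTnormal : T.Normal := by
        constructor
        intro t ht g
        rw [← hall g]
        exact hTgmem g t ht
      exact hTne (hMmin T ⟨hTnormal, hT1⟩ hTM)
    obtain ⟨g, hg⟩ := hexg
    have hinf : T ⊓ Tg g = ⊥ := by
      by_contra hne
      have hPT : PT (T ⊓ Tg g) := by
        refine ⟨inf_le_left.trans hTM, hne, ?_, ?_⟩
        · intro h
          apply hTne
          exact le_antisymm hTM (h ▸ inf_le_left)
        · rintro m hm x ⟨hx1, hx2⟩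
          exact ⟨hTnorm m hm x hx1, hTgnorm g m hm x hx2⟩
      have h1 := hTmin (T ⊓ Tg g) hPT inf_le_left
      have h2 : T ≤ Tg g := by
        rw [← h1]; exact inf_le_right
      exact hg (Subgroup.eq_of_le_of_card_ge h2 (hTgcard g).le).symm
    -- T is a p-group
    obtain ⟨⟨t₀, ht₀T⟩, ht₀1'⟩ := (Subgroup.ne_bot_iff_exists_ne_one).1 hT1
    have ht₀1 : t₀ ≠ 1 := fun h => ht₀1' (Subtype.ext h)
    obtain ⟨p, k, hp, hk, ht₀k⟩ := hpp.exists_prime ht₀1
    haveI := Fact.mk hp
    have hu₀ : orderOf (g * t₀ * g⁻¹) = p ^ k := by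
      have := (MulAut.conj g).orderOf_eq t₀
      rw [← ht₀k, ← this]
      rfl
    have hTp : IsPGroup p T := by
      intro t
      have hc : Commute (g * t₀ * g⁻¹) (t : Q) :=
        (hcommute T (Tg g) (fun u hu t ht => hTnorm u (hTgM g hu) t ht)
          (fun t ht u hu => hTgnorm g t (hTM ht) u hu) hinf t t.2 _ (hTgmem g t₀ ht₀T)).symm
      obtain ⟨j, hj⟩ := hpp.pow_of_commute hc hp hk hu₀
      refine ⟨j, ?_⟩
      apply Subtype.ext
      rw [Subgroup.coe_pow, ← hj, pow_orderOf_eq_one]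
      rfl
    have hTgp : ∀ g', IsPGroup p (Tg g') := fun g' => hTp.map _
    -- all conjugates lie in a Sylow p-subgroup of M
    obtain ⟨P₀⟩ : Nonempty (Sylow p M) := inferInstance
    have hsub : ∀ g', (Tg g').subgroupOf M ≤ P₀ := by
      intro g'
      haveI : ((Tg g').subgroupOf M).Normal := by
        constructor
        rintro ⟨n, hnM⟩ hn ⟨m, hm⟩
        exact hTgnorm g' m hm n hn
      have hpg : IsPGroup p ((Tg g').subgroupOf M) :=
        (hTgp g').comap_of_injective M.subtype M.subtype_injective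
      exact hpg.le_sylow_of_normal P₀
    have hMle : M ≤ (P₀ : Subgroup M).map M.subtype := by
      have hMeq : M = Subgroup.normalClosure (T : Set Q) := by
        have hle : Subgroup.normalClosure (T : Set Q) ≤ M :=
          Subgroup.normalClosure_le_normal hTM
        have hne : Subgroup.normalClosure (T : Set Q) ≠ ⊥ := by
          intro h
          apply hT1
          rw [eq_bot_iff, ← h]
          exact Subgroup.le_normalClosure
        exact (hMmin _ ⟨inferInstance, hne⟩ hle).symm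
      intro m hm
      rw [hMeq] at hm
      refine (Subgroup.closure_le _).2 ?_ hm
      intro x hx
      obtain ⟨t, ht, htx⟩ := Group.mem_conjugatesOfSet_iff.1 hx
      obtain ⟨c, rfl⟩ := isConj_iff.1 htx
      have h1 : c * t * c⁻¹ ∈ Tg c := hTgmem c t ht
      have h2 : c * t * c⁻¹ ∈ M := hTgM c h1
      exact ⟨⟨c * t * c⁻¹, h2⟩, hsub c h1, rfl⟩
    have hMp : IsPGroup p M := by
      intro m
      obtain ⟨m', hm', hmm'⟩ := hMle m.2
      have hmeq : m' = m := Subtype.ext hmm'
      obtain ⟨j, hj⟩ := P₀.isPGroup' ⟨m', hm'⟩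
      refine ⟨j, ?_⟩
      rw [← hmeq]
      exact congrArg Subtype.val hj
    haveI := hMp.isNilpotent
    exact hMns inferInstance
  · intro hcomm
    apply hMns
    exact Group.isSolvable_of_comm (fun a b => hcomm.is_comm.comm a b)
  · intro N hN hN1
    haveI := hN
    by_contra hle
    have hinf : M ⊓ N = ⊥ := by
      by_contra hne
      have := hMmin (M ⊓ N) ⟨inferInstance, hne⟩ inf_le_left
      exact hle (this ▸ inf_le_right)
    -- an element of prime order in N
    haveI : Nontrivial N := (Subgroup.nontrivial_iff_ne_bot N).2 hN1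
    obtain ⟨⟨y, hyN⟩, hy1'⟩ := (Subgroup.ne_bot_iff_exists_ne_one).1 hN1
    have hy1 : y ≠ 1 := fun h => hy1' (Subtype.ext h)
    obtain ⟨q, j, hq, hj, hyj⟩ := hpp.exists_prime hy1
    haveI := Fact.mk hq
    have hMq : IsPGroup q M := by
      intro m
      have hc : Commute y (m : Q) :=
        (hcommute M N (fun a _ t ht => hMn.conj_mem t ht a)
          (fun a _ u hu => hN.conj_mem u hu a) hinf m m.2 y hyN).symm
      obtain ⟨i, hi⟩ := hpp.pow_of_commute hc hq hj hyj
      refine ⟨i, ?_⟩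
      apply Subtype.ext
      rw [Subgroup.coe_pow, ← hi, pow_orderOf_eq_one]
      rfl
    haveI := hMq.isNilpotent
    exact hMns inferInstance


/-- Let G be a finite non-solvable group in which every element has prime-power order, and let R be its largest solvable normal subgroup. Then R is a p-group for some prime p; G/R has a non-abelian simple normal subgroup contained in every nontrivial normal subgroup of G/R (its unique minimal normal subgroup); and the order of every solvable subgroup of G has at most two prime divisors. -/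
theorem result {G : Type*} [Group G] [Finite G] (hns : ¬ Group.IsSolvable G) (hpp : ∀ g : G, g ≠ 1 → IsPrimePow (orderOf g))
    (R : Subgroup G) [R.Normal] (hRs : Group.IsSolvable ↥R) (hRmax : ∀ N : Subgroup G, N.Normal → Group.IsSolvable ↥N → N ≤ R) :
    (∃ p : ℕ, p.Prime ∧ IsPGroup p ↥R) ∧
      (∃ M : Subgroup (G ⧸ R), M.Normal ∧ IsSimpleGroup ↥M ∧ ¬ IsMulCommutative ↥M ∧
        ∀ N : Subgroup (G ⧸ R), N.Normal → N ≠ ⊥ → M ≤ N) ∧
      ∀ H : Subgroup G, Group.IsSolvable ↥H → (Nat.card ↥H).primeFactors.card ≤ 2 := by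
  refine ⟨radical_isPGroup hpp hns R hRs, ?_, ?_⟩
  · have hppQ : EPPO (G ⧸ R) := EPPO.quotient hpp R
    haveI : Nontrivial (G ⧸ R) := by
      by_contra h
      rw [not_nontrivial_iff_subsingleton] at h
      apply hns
      haveI : Group.IsSolvable (G ⧸ R) :=
        Group.isSolvable_of_comm (fun a b => Subsingleton.elim _ _)
      exact Group.isSolvable_of_ker_le_range R.subtype (QuotientGroup.mk' R)
        (by rw [QuotientGroup.ker_mk', Subgroup.range_subtype])
    have hrad : ∀ N : Subgroup (G ⧸ R), N.Normal → Group.IsSolvable N → N = ⊥ := by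
      intro N hN hNs
      haveI := hN
      let N' : Subgroup G := N.comap (QuotientGroup.mk' R)
      have hN'n : N'.Normal := inferInstance
      have hRN' : R ≤ N' := by
        intro r hr
        show QuotientGroup.mk' R r ∈ N
        have : QuotientGroup.mk' R r = 1 := (QuotientGroup.eq_one_iff r).2 hr
        rw [this]
        exact N.one_mem
      have hN's : Group.IsSolvable N' := by
        let f : R →* N' := Subgroup.inclusion hRN'
        let g : N' →* N := (QuotientGroup.mk' R).subgroupComap N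
        refine Group.isSolvable_of_ker_le_range f g ?_
        intro x hx
        have h1 : (QuotientGroup.mk' R) (x : G) = 1 :=
          congrArg Subtype.val (MonoidHom.mem_ker.1 hx)
        have hxR : (x : G) ∈ R := (QuotientGroup.eq_one_iff _).1 h1
        exact ⟨⟨x, hxR⟩, Subtype.ext rfl⟩
      have hle := hRmax N' hN'n hN's
      rw [eq_bot_iff]
      intro y hy
      obtain ⟨g, rfl⟩ := QuotientGroup.mk_surjective y
      have hg : g ∈ N' := hy
      rw [Subgroup.mem_bot]
      exact (QuotientGroup.eq_one_iff g).2 (hle hg)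
    exact exists_simple_min_normal hppQ hrad
  · intro H hHs
    exact higman_solvable (Nat.card H) H rfl hHs (EPPO.subgroup hpp H)

end Cfsg.Agent.S3992
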