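import Mathlib
import Cfsg.Statements.S3995
import Cfsg.Agent.Lib.Helper40.FrobeniusDiv

set_option autoImplicit false
set_option linter.style.haveILetI false
open Cfsg

namespace Cfsg.Agent.S3995

open Finset
open scoped Pointwise

/-- divisor sums over a product of coprime numbers -/
theorem sum_divisors_mul_coprime {M : Type*} [AddCommMonoid M] (a b : ℕ) (hab : Nat.Coprime a b)
    (f : ℕ → M) :
    ∑ d ∈ (a * b).divisors, f d = ∑ d₁ ∈ a.divisors, ∑ d₂ ∈ b.divisors, f (d₁ * d₂) := by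
  rw [Nat.divisors_mul, Finset.mul_def, Finset.sum_image, Finset.sum_product]
  rintro ⟨d₁, d₂⟩ hd ⟨e₁, e₂⟩ he h
  rw [Finset.mem_coe, Finset.mem_product] at hd he
  have hd1 := Nat.dvd_of_mem_divisors hd.1
  have hd2 := Nat.dvd_of_mem_divisors hd.2
  have he1 := Nat.dvd_of_mem_divisors he.1
  have he2 := Nat.dvd_of_mem_divisors he.2
  have h' : d₁ * d₂ = e₁ * e₂ := h
  have key : ∀ x₁ x₂ : ℕ, x₁ ∣ a → x₂ ∣ b → Nat.gcd (x₁ * x₂) a = x₁ ∧ Nat.gcd (x₁ * x₂) b = x₂ := by
    intro x₁ x₂ hx1 hx2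
    constructor
    · have : Nat.Coprime x₂ a := (Nat.Coprime.coprime_dvd_left hx2 hab.symm)
      rw [Nat.Coprime.gcd_mul_right_cancel x₁ this, Nat.gcd_eq_left hx1]
    · have : Nat.Coprime x₁ b := (Nat.Coprime.coprime_dvd_left hx1 hab)
      rw [Nat.Coprime.gcd_mul_left_cancel x₂ this, Nat.gcd_eq_left hx2]
  have k1 := key d₁ d₂ hd1 hd2
  have k2 := key e₁ e₂ he1 he2
  rw [h'] at k1
  apply Prod.ext
  · exact k1.1.symm.trans k2.1
  · exact k1.2.symm.trans k2.2

section counting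

variable {G : Type*} [Group G] [Finite G]

/-- number of elements of order `m` -/
noncomputable def cnt (G : Type*) [Group G] (m : ℕ) : ℕ := Nat.card {g : G // orderOf g = m}

omit [Finite G] in
theorem cnt_one : cnt G 1 = 1 := by
  rw [cnt]
  have : {g : G // orderOf g = 1} ≃ Unit :=
    { toFun := fun _ => (), invFun := fun _ => ⟨1, orderOf_one⟩
      left_inv := fun g => Subtype.ext (orderOf_eq_one_iff.1 g.2).symm
      right_inv := fun _ => rfl }
  rw [Nat.card_congr this]; simp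

omit [Finite G] in
theorem cnt_eq_zero (m : ℕ) (h : ¬ ∃ g : G, orderOf g = m) : cnt G m = 0 := by
  rw [cnt]
  haveI : IsEmpty {g : G // orderOf g = m} := ⟨fun g => h ⟨g.1, g.2⟩⟩
  exact Nat.card_of_isEmpty

theorem two_le_cnt (m : ℕ) (hm : 3 ≤ m) (g : G) (hg : orderOf g = m) : 2 ≤ cnt G m := by
  rw [cnt]
  have hne : g ≠ g⁻¹ := by
    intro h
    have : g ^ 2 = 1 := by
      rw [pow_two]; nth_rewrite 2 [h]; exact mul_inv_cancel g
    have := orderOf_le_of_pow_eq_one (by norm_num) this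
    omega
  let a : {g : G // orderOf g = m} := ⟨g, hg⟩
  let b : {g : G // orderOf g = m} := ⟨g⁻¹, by rw [orderOf_inv]; exact hg⟩
  have hab : a ≠ b := fun h => hne (congrArg Subtype.val h)
  have : 1 < Nat.card {g : G // orderOf g = m} := by
    rw [Finite.one_lt_card_iff_nontrivial]
    exact ⟨⟨a, b, hab⟩⟩
  exact this

/-- the divisor sum formula -/
theorem card_pow_eq_one (k : ℕ) (hk : k ≠ 0) :
    Nat.card {g : G // g ^ k = 1} = ∑ m ∈ k.divisors, cnt G m := by
  classical
  haveI := Fintype.ofFinite G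
  have h := sum_card_orderOf_eq_card_pow_eq_one (G := G) hk
  rw [Nat.card_eq_fintype_card, Fintype.card_subtype, ← h]
  apply Finset.sum_congr rfl
  intro m _
  rw [cnt, Nat.card_eq_fintype_card, Fintype.card_subtype]

/-- Frobenius' theorem in the form of divisor sums -/
theorem frobenius_sum (k : ℕ) (hk : k ∣ Nat.card G) : k ∣ ∑ m ∈ k.divisors, cnt G m := by
  have hk0 : k ≠ 0 := by
    rintro rfl
    rw [zero_dvd_iff] at hk
    exact Nat.card_pos.ne' hk
  rw [← card_pow_eq_one k hk0]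
  exact Cfsg.Agent.Lib.Helper40.frobenius_dvd k hk

/-- elements of all divisor orders exist -/
theorem exists_orderOf_of_dvd (g : G) (d : ℕ) (hd : d ∣ orderOf g) : ∃ x : G, orderOf x = d := by
  obtain ⟨e, he⟩ := hd
  have hpos : 0 < orderOf g := orderOf_pos g
  have he0 : e ≠ 0 := by
    rintro rfl; rw [mul_zero] at he; omega
  have hd0 : 0 < d := by
    rcases Nat.eq_zero_or_pos d with h | h
    · rw [h, zero_mul] at he; omega
    · exact h
  refine ⟨g ^ e, ?_⟩
  rw [orderOf_pow_of_dvd he0 ⟨d, by rw [he, mul_comm]⟩, he, Nat.mul_div_cancel _ (Nat.pos_of_ne_zero he0)]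

end counting

section steps

variable {G : Type*} [Group G] [Finite G] (n : ℕ)
  (h : ((fun m : ℕ => Nat.card {g : G // orderOf g = m}) '' Set.range (orderOf : G → ℕ)) = {1, n})

include h

theorem cnt_occ (g : G) : cnt G (orderOf g) = 1 ∨ cnt G (orderOf g) = n := by
  have : cnt G (orderOf g) ∈ ((fun m : ℕ => Nat.card {g : G // orderOf g = m}) ''
      Set.range (orderOf : G → ℕ)) := ⟨orderOf g, ⟨g, rfl⟩, rfl⟩
  rw [h] at this
  simpa using this

theorem exists_cnt_eq : ∃ g : G, cnt G (orderOf g) = n := by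
  have : n ∈ ((fun m : ℕ => Nat.card {g : G // orderOf g = m}) ''
      Set.range (orderOf : G → ℕ)) := by rw [h]; simp
  obtain ⟨m, ⟨g, rfl⟩, hm⟩ := this
  exact ⟨g, hm⟩

theorem cnt_three (hn : n ≠ 1) (g : G) (hg : 3 ≤ orderOf g) : cnt G (orderOf g) = n := by
  rcases cnt_occ n h g with h1 | h1
  · have := two_le_cnt (orderOf g) hg g rfl
    omega
  · exact h1

/-- the count of elements of order `m ≥ 3` is `0` or `n` -/
theorem cnt_zero_or (hn : n ≠ 1) (m : ℕ) (hm : 3 ≤ m) : cnt G m = 0 ∨ cnt G m = n := by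
  by_cases hex : ∃ g : G, orderOf g = m
  · obtain ⟨g, rfl⟩ := hex
    exact Or.inr (cnt_three n h hn g hm)
  · exact Or.inl (cnt_eq_zero m hex)

theorem cnt_prime (hn : n ≠ 1) (p : ℕ) (hp : p.Prime) (hp2 : p ≠ 2) (hpG : p ∣ Nat.card G) :
    cnt G p = n := by
  haveI : Fact p.Prime := ⟨hp⟩
  obtain ⟨g, hg⟩ := exists_prime_orderOf_dvd_card' p hpG
  have h3 : 3 ≤ p := by
    have := hp.two_le
    omega
  rw [← hg]; exact cnt_three n h hn g (by rw [hg]; exact h3)

/-- Step A -/
theorem stepA (hn : n ≠ 1) (p : ℕ) (hp : p.Prime) (hp2 : p ≠ 2) (hpG : p ∣ Nat.card G) :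
    p ∣ 1 + n := by
  have h1 := frobenius_sum (G := G) p hpG
  rw [hp.sum_divisors, cnt_one, cnt_prime n h hn p hp hp2 hpG, add_comm] at h1
  exact h1

theorem not_dvd_n (hn : n ≠ 1) (p : ℕ) (hp : p.Prime) (hp2 : p ≠ 2) (hpG : p ∣ Nat.card G) :
    ¬ p ∣ n := by
  intro hpn
  have h1 := stepA n h hn p hp hp2 hpG
  have : p ∣ 1 := (Nat.dvd_add_left hpn).1 h1
  exact hp.one_lt.ne' (Nat.dvd_one.1 this)

/-- Step B -/
theorem stepB (hn : n ≠ 1) (p : ℕ) (hp : p.Prime) (hp2 : p ≠ 2) (g : G) (hg : orderOf g = p ^ 2) :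
    False := by
  have hp2G : p ^ 2 ∣ Nat.card G := hg ▸ orderOf_dvd_natCard g
  have hpG : p ∣ Nat.card G := (dvd_pow_self p two_ne_zero).trans hp2G
  have h1 := frobenius_sum (G := G) (p ^ 2) hp2G
  rw [Nat.sum_divisors_prime_pow hp] at h1
  have h3 : 3 ≤ p := by
    have := hp.two_le
    omega
  have hc2 : cnt G (p ^ 2) = n := by
    rw [← hg]; apply cnt_three n h hn g
    rw [hg]; nlinarith
  simp only [Finset.sum_range_succ, Finset.sum_range_zero, pow_zero, pow_one, zero_add] at h1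
  rw [cnt_one, cnt_prime n h hn p hp hp2 hpG, hc2] at h1
  have h2 : p ∣ 1 + n + n := (dvd_pow_self p two_ne_zero).trans h1
  have h4 := stepA n h hn p hp hp2 hpG
  have : p ∣ n := (Nat.dvd_add_right h4).1 h2
  exact not_dvd_n n h hn p hp hp2 hpG this

/-- Step C -/
theorem stepC (hn : n ≠ 1) (p q : ℕ) (hp : p.Prime) (hq : q.Prime) (hp2 : p ≠ 2) (hq2 : q ≠ 2)
    (hpq : p ≠ q) (hpG : p ∣ Nat.card G) (hqG : q ∣ Nat.card G) : False := by
  have hcop : Nat.Coprime p q := (Nat.coprime_primes hp hq).2 hpq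
  have hpqG : p * q ∣ Nat.card G := hcop.mul_dvd_of_dvd_of_dvd hpG hqG
  have h1 := frobenius_sum (G := G) (p * q) hpqG
  rw [sum_divisors_mul_coprime p q hcop, hp.sum_divisors, hq.sum_divisors, hq.sum_divisors] at h1
  simp only [one_mul, mul_one] at h1
  rw [cnt_one, cnt_prime n h hn p hp hp2 hpG, cnt_prime n h hn q hq hq2 hqG] at h1
  have h2 : p ∣ cnt G (p * q) + n + (n + 1) := (dvd_mul_right p q).trans h1
  have h4 := stepA n h hn p hp hp2 hpG
  have h3 : 3 ≤ p * q := by
    have := hp.two_le; have := hq.two_le; nlinarith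
  rcases cnt_zero_or n h hn (p * q) h3 with h0 | h0
  · rw [h0, zero_add] at h2
    have : p ∣ n := by
      have : n + (n + 1) = (1 + n) + n := by ring
      rw [this] at h2
      exact (Nat.dvd_add_right h4).1 h2
    exact not_dvd_n n h hn p hp hp2 hpG this
  · rw [h0] at h2
    have : p ∣ 2 * n := by
      have : n + n + (n + 1) = (1 + n) + 2 * n := by ring
      rw [this] at h2
      exact (Nat.dvd_add_right h4).1 h2
    rcases (Nat.Prime.dvd_mul hp).1 this with h5 | h5
    · exact hp2 ((Nat.prime_dvd_prime_iff_eq hp Nat.prime_two).1 h5)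
    · exact not_dvd_n n h hn p hp hp2 hpG h5

end steps

section steps2

variable {G : Type*} [Group G] [Finite G] (n : ℕ)
  (h : ((fun m : ℕ => Nat.card {g : G // orderOf g = m}) '' Set.range (orderOf : G → ℕ)) = {1, n})

include h

theorem cnt_two (h2G : 2 ∣ Nat.card G) : cnt G 2 = 1 ∨ cnt G 2 = n := by
  haveI : Fact (Nat.Prime 2) := ⟨Nat.prime_two⟩
  obtain ⟨g, hg⟩ := exists_prime_orderOf_dvd_card' 2 h2G
  rw [← hg]; exact cnt_occ n h g

/-- Step D1: with an odd prime present, the involution is unique; moreover `cnt (2p) = n`. -/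
theorem stepD1 (hn : n ≠ 1) (p : ℕ) (hp : p.Prime) (hp2 : p ≠ 2) (hpG : p ∣ Nat.card G)
    (h2G : 2 ∣ Nat.card G) : cnt G 2 = 1 ∧ cnt G (2 * p) = n := by
  have hcop : Nat.Coprime 2 p := (Nat.coprime_primes Nat.prime_two hp).2 (Ne.symm hp2)
  have h2pG : 2 * p ∣ Nat.card G := hcop.mul_dvd_of_dvd_of_dvd h2G hpG
  have h1 := frobenius_sum (G := G) (2 * p) h2pG
  rw [sum_divisors_mul_coprime 2 p hcop, Nat.prime_two.sum_divisors, hp.sum_divisors,
    hp.sum_divisors] at h1
  simp only [one_mul, mul_one] at h1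
  rw [cnt_one, cnt_prime n h hn p hp hp2 hpG] at h1
  have h2 : p ∣ cnt G (2 * p) + cnt G 2 + (n + 1) := (dvd_mul_left p 2).trans h1
  have h4 := stepA n h hn p hp hp2 hpG
  have h5 : p ∣ cnt G (2 * p) + cnt G 2 := by
    rw [add_comm n 1] at h2
    exact (Nat.dvd_add_left h4).1 h2
  have h3 : 3 ≤ 2 * p := by have := hp.two_le; omega
  have hnd := not_dvd_n n h hn p hp hp2 hpG
  have hp1 : ¬ p ∣ 1 := fun hd => hp.one_lt.ne' (Nat.dvd_one.1 hd)
  rcases cnt_two n h h2G with ht | ht <;> rcases cnt_zero_or n h hn (2 * p) h3 with h0 | h0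
  · rw [ht, h0] at h5; exact absurd h5 hp1
  · exact ⟨ht, h0⟩
  · rw [ht, h0, zero_add] at h5; exact absurd h5 hnd
  · rw [ht, h0] at h5
    exfalso
    have : p ∣ 2 * n := by rw [two_mul]; exact h5
    rcases (Nat.Prime.dvd_mul hp).1 this with h6 | h6
    · exact hp2 ((Nat.prime_dvd_prime_iff_eq hp Nat.prime_two).1 h6)
    · exact hnd h6

/-- Step D2 -/
theorem stepD2 (hn : n ≠ 1) (p : ℕ) (hp : p.Prime) (hp2 : p ≠ 2) (hpG : p ∣ Nat.card G)
    (h4G : 4 ∣ Nat.card G) : False := by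
  have h2G : 2 ∣ Nat.card G := (by norm_num : 2 ∣ 4).trans h4G
  obtain ⟨ht, h2p⟩ := stepD1 n h hn p hp hp2 hpG h2G
  have hcop : Nat.Coprime 4 p := by
    have : Nat.Coprime (2 ^ 2) p :=
      Nat.Coprime.pow_left 2 ((Nat.coprime_primes Nat.prime_two hp).2 (Ne.symm hp2))
    exact this
  -- order 4
  have h1 := frobenius_sum (G := G) 4 h4G
  have e4 : (4 : ℕ) = 2 ^ 2 := by norm_num
  rw [e4, Nat.sum_divisors_prime_pow Nat.prime_two] at h1
  simp only [Finset.sum_range_succ, Finset.sum_range_zero, pow_zero, pow_one, zero_add] at h1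
  rw [cnt_one, ht] at h1
  have hc4 : cnt G (2 ^ 2) = n := by
    rcases cnt_zero_or n h hn (2 ^ 2) (by norm_num) with h0 | h0
    · rw [h0] at h1; omega
    · exact h0
  -- order 4p
  have h4pG : 4 * p ∣ Nat.card G := hcop.mul_dvd_of_dvd_of_dvd h4G hpG
  have h5 := frobenius_sum (G := G) (4 * p) h4pG
  rw [sum_divisors_mul_coprime 4 p hcop] at h5
  rw [e4, Nat.sum_divisors_prime_pow Nat.prime_two] at h5
  simp only [Finset.sum_range_succ, Finset.sum_range_zero, pow_zero, pow_one, zero_add,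
    hp.sum_divisors, one_mul, mul_one] at h5
  rw [cnt_one, cnt_prime n h hn p hp hp2 hpG, h2p, ht, hc4] at h5
  have h6 : p ∣ n + 1 + (n + 1) + (cnt G (2 ^ 2 * p) + n) := (dvd_mul_left p (2 ^ 2)).trans h5
  have h4 := stepA n h hn p hp hp2 hpG
  have h3 : 3 ≤ 2 ^ 2 * p := by have := hp.two_le; omega
  have hp1 : ¬ p ∣ 1 := fun hd => hp.one_lt.ne' (Nat.dvd_one.1 hd)
  rcases cnt_zero_or n h hn (2 ^ 2 * p) h3 with h0 | h0
  · rw [h0, zero_add] at h6
    -- 3 (1+n) = (2 + 3n) + 1
    have h7 : p ∣ (n + 1 + (n + 1) + n) + 1 := by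
      have : (n + 1 + (n + 1) + n) + 1 = 3 * (1 + n) := by ring
      rw [this]; exact Dvd.dvd.mul_left h4 3
    exact hp1 ((Nat.dvd_add_right h6).1 h7)
  · rw [h0] at h6
    have h7 : p ∣ (n + 1 + (n + 1) + (n + n)) + 2 := by
      have : (n + 1 + (n + 1) + (n + n)) + 2 = 4 * (1 + n) := by ring
      rw [this]; exact Dvd.dvd.mul_left h4 4
    have h8 : p ∣ 2 := (Nat.dvd_add_right h6).1 h7
    exact hp2 ((Nat.prime_dvd_prime_iff_eq hp Nat.prime_two).1 h8)

/-- Step E: a group with an element of order 4: unique involution, `4 ∣ 2 + n`, no element of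
order 8. -/
theorem stepE (hn : n ≠ 1) (x : G) (hx : orderOf x = 4) :
    cnt G 2 = 1 ∧ 4 ∣ 2 + n ∧ ∀ y : G, orderOf y ≠ 8 := by
  have h4G : 4 ∣ Nat.card G := hx ▸ orderOf_dvd_natCard x
  have h2G : 2 ∣ Nat.card G := (by norm_num : 2 ∣ 4).trans h4G
  have hc4 : cnt G (2 ^ 2) = n := by
    have := cnt_three n h hn x (by rw [hx]; norm_num)
    rw [hx] at this; exact this
  have h1 := frobenius_sum (G := G) 4 h4G
  have e4 : (4 : ℕ) = 2 ^ 2 := by norm_num
  rw [e4, Nat.sum_divisors_prime_pow Nat.prime_two] at h1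
  simp only [Finset.sum_range_succ, Finset.sum_range_zero, pow_zero, pow_one, zero_add] at h1
  rw [cnt_one, hc4] at h1
  have h2 := frobenius_sum (G := G) 2 h2G
  rw [Nat.prime_two.sum_divisors, cnt_one] at h2
  have ht : cnt G 2 = 1 := by
    rcases cnt_two n h h2G with ht | ht
    · exact ht
    · rw [ht] at h1 h2; omega
  rw [ht] at h1
  refine ⟨ht, by omega, ?_⟩
  intro y hy
  have h8G : 8 ∣ Nat.card G := hy ▸ orderOf_dvd_natCard y
  have hc8 : cnt G (2 ^ 3) = n := by
    have := cnt_three n h hn y (by rw [hy]; norm_num)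
    rw [hy] at this; exact this
  have h3 := frobenius_sum (G := G) 8 h8G
  have e8 : (8 : ℕ) = 2 ^ 3 := by norm_num
  rw [e8, Nat.sum_divisors_prime_pow Nat.prime_two] at h3
  simp only [Finset.sum_range_succ, Finset.sum_range_zero, pow_zero, pow_one, zero_add] at h3
  rw [cnt_one, ht, hc4, hc8] at h3
  omega

end steps2

section basics

variable {G : Type*} [Group G] [Finite G]

/-- a group of prime power order without elements of order `p²` has exponent `p` -/
theorem pgroup_exp (p : ℕ) (hp : p.Prime) (b : ℕ) (hcard : Nat.card G = p ^ b)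
    (hpG : p ∣ Nat.card G) (hno : ∀ g : G, orderOf g ≠ p ^ 2) :
    IsPGroup p G ∧ Monoid.exponent G = p := by
  haveI : Fact p.Prime := ⟨hp⟩
  refine ⟨IsPGroup.of_card hcard, ?_⟩
  haveI : Nontrivial G := by
    rw [← Finite.one_lt_card_iff_nontrivial]
    have := Nat.le_of_dvd Nat.card_pos hpG
    have := hp.two_le
    omega
  rw [Monoid.exponent_eq_prime_iff hp]
  intro g hg
  have h1 : orderOf g ∣ p ^ b := hcard ▸ orderOf_dvd_natCard g
  obtain ⟨k, hk, hk'⟩ := (Nat.dvd_prime_pow hp).1 h1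
  have hk0 : k ≠ 0 := by
    rintro rfl
    rw [pow_zero, orderOf_eq_one_iff] at hk'
    exact hg hk'
  by_cases hk2 : 2 ≤ k
  · exfalso
    obtain ⟨x, hx⟩ := exists_orderOf_of_dvd g (p ^ 2) (by rw [hk']; exact pow_dvd_pow p hk2)
    exact hno x hx
  · have : k = 1 := by omega
    rw [hk', this, pow_one]

/-- a copy of `Fin n` without algebraic instances -/
def T0 (n : ℕ) : Type := Fin n

instance T0.instFinite (n : ℕ) : Finite (T0 n) := inferInstanceAs (Finite (Fin n))

/-- transport a finite group to universe `0` -/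
theorem exists_type0 (S : Type*) [Group S] [Finite S] :
    ∃ (P : Type) (_ : Group P) (_ : Finite P), Nonempty (S ≃* P) := by
  let e : T0 (Nat.card S) ≃ S := (Finite.equivFin S).symm
  letI : Group (T0 (Nat.card S)) := e.group
  exact ⟨T0 (Nat.card S), e.group, inferInstance, ⟨(e.mulEquiv).symm⟩⟩

omit [Finite G] in
/-- uniqueness of the involution -/
theorem involution_unique (hinv : cnt G 2 = 1) (z g : G) (hz : orderOf z = 2) (hg : orderOf g = 2) :
    g = z := by
  rw [cnt, Nat.card_eq_one_iff_unique] at hinv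
  obtain ⟨hs, _⟩ := hinv
  have := @Subsingleton.elim _ hs (⟨g, hg⟩ : {g : G // orderOf g = 2}) ⟨z, hz⟩
  exact congrArg Subtype.val this

omit [Finite G] in
/-- the unique involution is central -/
theorem involution_central (hinv : cnt G 2 = 1) (z : G) (hz : orderOf z = 2) (g : G) :
    g * z = z * g := by
  have h1 : orderOf (g * z * g⁻¹) = 2 := by
    have : g * z * g⁻¹ = MulAut.conj g z := by simp [MulAut.conj_apply]
    rw [this, MulEquiv.orderOf_eq]; exact hz
  have := involution_unique hinv z _ hz h1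
  calc g * z = g * z * g⁻¹ * g := by group
    _ = z * g := by rw [this]

end basics

/-- the homomorphism `ZMod M → G`, `k ↦ x ^ k` -/
noncomputable def zmodPowHom {G : Type*} [Group G] (x : G) (M : ℕ) (hx : x ^ M = 1) :
    Multiplicative (ZMod M) →* G :=
  AddMonoidHom.toMultiplicativeLeft (ZMod.lift M ⟨zmultiplesHom (Additive G) (Additive.ofMul x), by
    show (M : ℤ) • Additive.ofMul x = 0
    rw [natCast_zsmul]
    show Additive.ofMul (x ^ M) = 0
    rw [hx]; rfl⟩)

theorem zmodPowHom_intCast {G : Type*} [Group G] (x : G) (M : ℕ) (hx : x ^ M = 1) (k : ℤ) :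
    zmodPowHom x M hx (Multiplicative.ofAdd (k : ZMod M)) = x ^ k := by
  show Additive.toMul (ZMod.lift M _ (k : ZMod M)) = x ^ k
  rw [ZMod.lift_coe]
  rfl

theorem zmodPowHom_exists {G : Type*} [Group G] (x : G) (M : ℕ) (hx : x ^ M = 1)
    (a : Multiplicative (ZMod M)) :
    ∃ k : ℤ, a = Multiplicative.ofAdd (k : ZMod M) ∧ zmodPowHom x M hx a = x ^ k := by
  obtain ⟨k, hk⟩ := ZMod.intCast_surjective (Multiplicative.toAdd a)
  refine ⟨k, ?_, ?_⟩
  · rw [hk]; rfl
  · have : a = Multiplicative.ofAdd (k : ZMod M) := by rw [hk]; rfl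
    rw [this, zmodPowHom_intCast]

theorem zmodPowHom_injective {G : Type*} [Group G] (x : G) (M : ℕ) (hx : x ^ M = 1)
    (hord : orderOf x = M) : Function.Injective (zmodPowHom x M hx) := by
  rw [injective_iff_map_eq_one]
  intro a ha
  obtain ⟨k, hk, hk'⟩ := zmodPowHom_exists x M hx a
  rw [hk'] at ha
  have : (orderOf x : ℤ) ∣ k := orderOf_dvd_iff_zpow_eq_one.2 ha
  rw [hord] at this
  rw [hk]
  have h0 : (k : ZMod M) = 0 := (ZMod.intCast_zmod_eq_zero_iff_dvd k M).2 this
  rw [h0]; rfl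

section stepG

variable {G : Type*} [Group G] [Finite G]

theorem stepG (p : ℕ) (hp : p.Prime) (hp2 : p ≠ 2) (b : ℕ) (hcard : Nat.card G = 2 * p ^ b)
    (hpG : p ∣ Nat.card G) (hinv : cnt G 2 = 1) (hno : ∀ g : G, orderOf g ≠ p ^ 2) :
    ∃ (P : Type) (_ : Group P) (_ : Finite P), IsPGroup p P ∧ Monoid.exponent P = p ∧
      Nonempty (G ≃* Multiplicative (ZMod 2) × P) := by
  haveI : Fact p.Prime := ⟨hp⟩
  haveI : Fact (Nat.Prime 2) := ⟨Nat.prime_two⟩
  have h2G : 2 ∣ Nat.card G := ⟨p ^ b, hcard⟩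
  obtain ⟨z, hz⟩ := exists_prime_orderOf_dvd_card' 2 h2G
  have hzc := involution_central hinv z hz
  have hz2 : z ^ 2 = 1 := by rw [← hz]; exact pow_orderOf_eq_one z
  obtain ⟨S⟩ := (inferInstance : Nonempty (Sylow p G))
  obtain ⟨k, hk⟩ := IsPGroup.exists_card_eq S.isPGroup'
  have hmul : Nat.card S * (S : Subgroup G).index = Nat.card G := Subgroup.card_mul_index _
  have hnd : ¬ p ∣ (S : Subgroup G).index := Sylow.not_dvd_index S
  have hcop : Nat.Coprime (S : Subgroup G).index (p ^ b) :=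
    Nat.Coprime.pow_right b ((Nat.Prime.coprime_iff_not_dvd hp).2 hnd).symm
  have hidx : (S : Subgroup G).index ∣ 2 := by
    have : (S : Subgroup G).index ∣ 2 * p ^ b := by
      rw [← hcard, ← hmul]; exact dvd_mul_left _ _
    exact hcop.dvd_of_dvd_mul_right this
  have hidx2 : (S : Subgroup G).index ≤ 2 := Nat.le_of_dvd (by norm_num) hidx
  have hpS : p ∣ Nat.card S := by
    rw [← hmul] at hpG
    rcases (Nat.Prime.dvd_mul hp).1 hpG with h1 | h1
    · exact h1
    · exact absurd h1 hnd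
  -- exponent of S
  have hS := pgroup_exp (G := S) p hp k hk hpS (by
    intro g hg
    exact hno (g : G) (by rw [Subgroup.orderOf_coe]; exact hg))
  -- the isomorphism
  let f : Multiplicative (ZMod 2) × S →* G :=
    MonoidHom.noncommCoprod (zmodPowHom z 2 hz2) (S : Subgroup G).subtype (by
      intro a s
      obtain ⟨j, _, hj⟩ := zmodPowHom_exists z 2 hz2 a
      rw [hj]
      have : Commute z ((S : Subgroup G).subtype s) := (hzc _).symm
      exact this.zpow_left j)
  have hf : ∀ a s, f (a, s) = zmodPowHom z 2 hz2 a * (s : G) := fun a s => rfl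
  have hinj : Function.Injective f := by
    rw [injective_iff_map_eq_one]
    rintro ⟨a, s⟩ has
    rw [hf] at has
    -- zmodPowHom a = s⁻¹ has order dividing 2 and p^k
    have h1 : zmodPowHom z 2 hz2 a = ((s⁻¹ : S) : G) := by
      rw [Subgroup.coe_inv]; exact eq_inv_of_mul_eq_one_left has
    have h2 : orderOf (zmodPowHom z 2 hz2 a) ∣ 2 := by
      apply orderOf_dvd_of_pow_eq_one
      rw [← map_pow]
      have : a ^ 2 = 1 := by
        have := pow_card_eq_one' (G := Multiplicative (ZMod 2)) (x := a)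
        simpa using this
      rw [this, map_one]
    have h3 : orderOf (zmodPowHom z 2 hz2 a) ∣ p ^ k := by
      rw [h1, Subgroup.orderOf_coe, ← hk]; exact orderOf_dvd_natCard _
    have h4 : Nat.Coprime 2 (p ^ k) :=
      Nat.Coprime.pow_right k ((Nat.coprime_primes Nat.prime_two hp).2 (Ne.symm hp2))
    have h5 : orderOf (zmodPowHom z 2 hz2 a) = 1 :=
      Nat.eq_one_of_dvd_coprimes h4 h2 h3
    rw [orderOf_eq_one_iff] at h5
    have ha : a = 1 := by
      apply zmodPowHom_injective z 2 hz2 hz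
      rw [h5, map_one]
    have hs : s = 1 := by
      rw [h5, one_mul] at has
      exact Subtype.ext has
    rw [ha, hs]; rfl
  have hbij : Function.Bijective f := by
    apply hinj.bijective_of_nat_card_le
    rw [Nat.card_prod, ← hmul]
    have : Nat.card (Multiplicative (ZMod 2)) = 2 := by
      rw [Nat.card_eq_fintype_card]; rfl
    rw [this, mul_comm]
    exact Nat.mul_le_mul_right _ hidx2
  obtain ⟨P, iP, fP, ⟨e⟩⟩ := exists_type0 S
  refine ⟨P, iP, fP, hS.1.of_equiv e, ?_, ⟨?_⟩⟩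
  · rw [← Monoid.exponent_eq_of_mulEquiv e]; exact hS.2
  · exact (MulEquiv.ofBijective f hbij).symm.trans (MulEquiv.prodCongr (MulEquiv.refl _) e)

end stepG

section stepF

variable {G : Type*} [Group G] [Finite G]

/-- all element orders are `1`, `2` or `4` -/
theorem orders_124 (a : ℕ) (hcard : Nat.card G = 2 ^ a) (h8 : ∀ y : G, orderOf y ≠ 8) (g : G) :
    orderOf g = 1 ∨ orderOf g = 2 ∨ orderOf g = 4 := by
  have h1 : orderOf g ∣ 2 ^ a := hcard ▸ orderOf_dvd_natCard g
  obtain ⟨k, hk, hk'⟩ := (Nat.dvd_prime_pow Nat.prime_two).1 h1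
  by_cases hk3 : 3 ≤ k
  · exfalso
    obtain ⟨x, hx⟩ := exists_orderOf_of_dvd g 8 (by
      rw [hk']; exact (pow_dvd_pow 2 hk3 : 2 ^ 3 ∣ 2 ^ k))
    exact h8 x hx
  · have : k = 0 ∨ k = 1 ∨ k = 2 := by omega
    rcases this with rfl | rfl | rfl
    · left; simpa using hk'
    · right; left; simpa using hk'
    · right; right; simpa using hk'

omit [Finite G] in
theorem orderOf_sq_of_four (g : G) (hg : orderOf g = 4) : orderOf (g ^ 2) = 2 := by
  rw [orderOf_pow_of_dvd (by norm_num) (by rw [hg]; norm_num), hg]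

/-- every element other than `1` and the involution squares to the involution -/
theorem sq_eq_inv (a : ℕ) (hcard : Nat.card G = 2 ^ a) (h8 : ∀ y : G, orderOf y ≠ 8)
    (hinv : cnt G 2 = 1) (z : G) (hz : orderOf z = 2) (g : G) (hg1 : g ≠ 1) (hgz : g ≠ z) :
    g ^ 2 = z := by
  rcases orders_124 a hcard h8 g with h1 | h1 | h1
  · exact absurd (orderOf_eq_one_iff.1 h1) hg1
  · exact absurd (involution_unique hinv z g hz h1) hgz
  · exact involution_unique hinv z _ hz (orderOf_sq_of_four g h1)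

/-- elements outside `⟨x⟩` invert `x` -/
theorem conj_inv (a : ℕ) (hcard : Nat.card G = 2 ^ a) (h8 : ∀ y : G, orderOf y ≠ 8)
    (hinv : cnt G 2 = 1) (x : G) (hx : orderOf x = 4) (y : G) (hy : y ∉ Subgroup.zpowers x) :
    y * x * y⁻¹ = x⁻¹ := by
  have hz : orderOf (x ^ 2) = 2 := orderOf_sq_of_four x hx
  have hy1 : y ≠ 1 := by
    rintro rfl; exact hy (one_mem _)
  have hyz : y ≠ x ^ 2 := by
    rintro rfl; exact hy (Subgroup.npow_mem_zpowers x 2)
  have hxy1 : x * y ≠ 1 := by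
    intro h
    have : y = x⁻¹ := eq_inv_of_mul_eq_one_right h
    exact hy (this ▸ inv_mem (Subgroup.mem_zpowers x))
  have hxyz : x * y ≠ x ^ 2 := by
    intro h
    rw [pow_two] at h
    have : y = x := mul_left_cancel h
    exact hy (this ▸ Subgroup.mem_zpowers x)
  have e1 := sq_eq_inv a hcard h8 hinv (x ^ 2) hz y hy1 hyz
  have e2 := sq_eq_inv a hcard h8 hinv (x ^ 2) hz (x * y) hxy1 hxyz
  -- x y x y = y y
  have e3 : x * y * x = y := by
    have : x * y * x * y = y * y := by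
      rw [← pow_two y, e1, ← e2, pow_two]; group
    exact mul_right_cancel this
  calc y * x * y⁻¹ = x⁻¹ * (x * y * x) * y⁻¹ := by group
    _ = x⁻¹ := by rw [e3]; group

theorem mem_coset (a : ℕ) (hcard : Nat.card G = 2 ^ a) (h8 : ∀ y : G, orderOf y ≠ 8)
    (hinv : cnt G 2 = 1) (x : G) (hx : orderOf x = 4) (y w : G) (hy : y ∉ Subgroup.zpowers x)
    (hw : w ∉ Subgroup.zpowers x) : y⁻¹ * w ∈ Subgroup.zpowers x := by
  by_contra hc
  have c1 := conj_inv a hcard h8 hinv x hx y hy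
  have c2 := conj_inv a hcard h8 hinv x hx w hw
  have c3 := conj_inv a hcard h8 hinv x hx (y⁻¹ * w) hc
  have c4 : y⁻¹ * x⁻¹ * y = x := by
    have : x⁻¹ = y * x * y⁻¹ := c1.symm
    rw [this]; group
  have c5 : x⁻¹ = x := by
    calc x⁻¹ = y⁻¹ * w * x * (y⁻¹ * w)⁻¹ := c3.symm
      _ = y⁻¹ * (w * x * w⁻¹) * y := by group
      _ = x := by rw [c2, c4]
  have c6 : x ^ 2 = 1 := by
    rw [pow_two]; nth_rewrite 1 [← c5]; exact inv_mul_cancel x
  have := orderOf_le_of_pow_eq_one (by norm_num) c6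
  omega

end stepF

section qmap

variable {G : Type*} [Group G] (x y : G) (hx4 : x ^ (2 * 2) = 1)

/-- `i ↦ x ^ i` on `ZMod 4` -/
noncomputable def px (i : ZMod (2 * 2)) : G := zmodPowHom x (2 * 2) hx4 (Multiplicative.ofAdd i)

theorem px_add (i j : ZMod (2 * 2)) : px x hx4 (i + j) = px x hx4 i * px x hx4 j := by
  unfold px
  rw [ofAdd_add, map_mul]

theorem px_neg (i : ZMod (2 * 2)) : px x hx4 (-i) = (px x hx4 i)⁻¹ := by
  unfold px
  rw [ofAdd_neg, map_inv]

theorem px_zero : px x hx4 0 = 1 := by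
  unfold px
  rw [ofAdd_zero, map_one]

theorem px_two : px x hx4 ((2 : ℕ) : ZMod (2 * 2)) = x ^ 2 := by
  have h1 : ((2 : ℕ) : ZMod (2 * 2)) = ((2 : ℤ) : ZMod (2 * 2)) := by norm_cast
  unfold px
  rw [h1, zmodPowHom_intCast]
  norm_cast

theorem px_exists (i : ZMod (2 * 2)) : ∃ k : ℤ, px x hx4 i = x ^ k := by
  obtain ⟨k, _, hk⟩ := zmodPowHom_exists x (2 * 2) hx4 (Multiplicative.ofAdd i)
  exact ⟨k, hk⟩

theorem px_mem (i : ZMod (2 * 2)) : px x hx4 i ∈ Subgroup.zpowers x := by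
  obtain ⟨k, hk⟩ := px_exists x hx4 i
  rw [hk]; exact Subgroup.zpow_mem_zpowers x k

theorem px_surj (g : G) (hg : g ∈ Subgroup.zpowers x) : ∃ i, px x hx4 i = g := by
  obtain ⟨k, rfl⟩ := Subgroup.mem_zpowers_iff.1 hg
  exact ⟨(k : ZMod (2 * 2)), zmodPowHom_intCast x (2 * 2) hx4 k⟩

variable (hconj : y * x * y⁻¹ = x⁻¹)

include hconj in
theorem px_conj (i : ZMod (2 * 2)) : px x hx4 i * y = y * px x hx4 (-i) := by
  rw [px_neg]
  obtain ⟨k, hk⟩ := px_exists x hx4 i
  rw [hk]
  have h1 : y * x ^ (-k) * y⁻¹ = x ^ k := by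
    rw [← conj_zpow, hconj, inv_zpow, zpow_neg, inv_inv]
  calc x ^ k * y = y * x ^ (-k) * y⁻¹ * y := by rw [h1]
    _ = y * (x ^ k)⁻¹ := by rw [zpow_neg]; group

/-- the map `Q₈ → G` -/
noncomputable def qmap : QuaternionGroup 2 → G
  | .a i => px x hx4 i
  | .xa i => y * px x hx4 i

variable (hy2 : y ^ 2 = x ^ 2)

include hconj hy2 in
theorem qmap_mul (u v : QuaternionGroup 2) :
    qmap x y hx4 (u * v) = qmap x y hx4 u * qmap x y hx4 v := by
  rcases u with i | i <;> rcases v with j | j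
  · rw [QuaternionGroup.a_mul_a]
    show px x hx4 (i + j) = px x hx4 i * px x hx4 j
    exact px_add x hx4 i j
  · rw [QuaternionGroup.a_mul_xa]
    show y * px x hx4 (j - i) = px x hx4 i * (y * px x hx4 j)
    rw [← mul_assoc, px_conj x y hx4 hconj, mul_assoc, ← px_add, sub_eq_neg_add]
  · rw [QuaternionGroup.xa_mul_a]
    show y * px x hx4 (i + j) = y * px x hx4 i * px x hx4 j
    rw [px_add, mul_assoc]
  · rw [QuaternionGroup.xa_mul_xa]
    show px x hx4 (((2 : ℕ) : ZMod (2 * 2)) + j - i) = y * px x hx4 i * (y * px x hx4 j)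
    have e : ((2 : ℕ) : ZMod (2 * 2)) + j - i = ((2 : ℕ) : ZMod (2 * 2)) + (-i + j) := by ring
    rw [e, px_add, px_two, px_add]
    calc x ^ 2 * (px x hx4 (-i) * px x hx4 j)
        = y * (y * px x hx4 (-i)) * px x hx4 j := by rw [← hy2, pow_two]; group
      _ = y * px x hx4 i * (y * px x hx4 j) := by rw [← px_conj x y hx4 hconj]; group

/-- the homomorphism `Q₈ → G` -/
noncomputable def qhom : QuaternionGroup 2 →* G :=
  MonoidHom.mk' (qmap x y hx4) (qmap_mul x y hx4 hconj hy2)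

theorem qhom_bijective (hord : orderOf x = 2 * 2) (hy : y ∉ Subgroup.zpowers x)
    (hcos : ∀ w : G, w ∉ Subgroup.zpowers x → y⁻¹ * w ∈ Subgroup.zpowers x) :
    Function.Bijective (qhom x y hx4 hconj hy2) := by
  constructor
  · rw [injective_iff_map_eq_one]
    rintro (i | i) hi
    · have h1 : px x hx4 i = 1 := hi
      have h2 : i = 0 := by
        have := zmodPowHom_injective x (2 * 2) hx4 hord (a₁ := Multiplicative.ofAdd i)
          (a₂ := 1) (by rw [map_one]; exact h1)
        exact this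
      rw [h2]; rfl
    · exfalso
      have h1 : y * px x hx4 i = 1 := hi
      have h2 : y = (px x hx4 i)⁻¹ := eq_inv_of_mul_eq_one_left h1
      exact hy (h2 ▸ inv_mem (px_mem x hx4 i))
  · intro g
    by_cases hg : g ∈ Subgroup.zpowers x
    · obtain ⟨i, hi⟩ := px_surj x hx4 g hg
      exact ⟨.a i, hi⟩
    · obtain ⟨i, hi⟩ := px_surj x hx4 _ (hcos g hg)
      refine ⟨.xa i, ?_⟩
      show y * px x hx4 i = g
      rw [hi]; group

end qmap

section stepF

variable {G : Type*} [Group G] [Finite G]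

theorem stepF (a : ℕ) (hcard : Nat.card G = 2 ^ a) (x : G) (hx : orderOf x = 4)
    (hinv : cnt G 2 = 1) (h8 : ∀ y : G, orderOf y ≠ 8) :
    Nonempty (G ≃* QuaternionGroup 2) ∨ (IsCyclic G ∧ Nat.card G = 4) := by
  by_cases hall : ∀ y : G, y ∈ Subgroup.zpowers x
  · right
    refine ⟨⟨⟨x, hall⟩⟩, ?_⟩
    rw [← orderOf_eq_card_of_forall_mem_zpowers hall, hx]
  · left
    simp only [not_forall] at hall
    obtain ⟨y, hy⟩ := hall
    have hx4 : x ^ (2 * 2) = 1 := by
      have := pow_orderOf_eq_one x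
      rw [hx] at this; exact this
    have hconj := conj_inv a hcard h8 hinv x hx y hy
    have hz : orderOf (x ^ 2) = 2 := orderOf_sq_of_four x hx
    have hy1 : y ≠ 1 := by
      rintro rfl; exact hy (one_mem _)
    have hyz : y ≠ x ^ 2 := by
      rintro rfl; exact hy (Subgroup.npow_mem_zpowers x 2)
    have hy2 := sq_eq_inv a hcard h8 hinv (x ^ 2) hz y hy1 hyz
    have hcos := fun w hw => mem_coset a hcard h8 hinv x hx y w hy hw
    have hbij := qhom_bijective x y hx4 hconj hy2 hx hy hcos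
    exact ⟨(MulEquiv.ofBijective _ hbij).symm⟩

end stepF

theorem result {G : Type*} [Group G] [Finite G] (n : ℕ) (hn : n ≠ 1) (h : ((fun m : ℕ => Nat.card {g : G // orderOf g = m}) '' Set.range (orderOf : G → ℕ)) = {1, n}) :
    (∃ p : ℕ, p.Prime ∧ IsPGroup p G ∧ 3 ≤ Nat.card G ∧ Monoid.exponent G = p) ∨
      Nonempty (G ≃* QuaternionGroup 2) ∨ (IsCyclic G ∧ Nat.card G = 4) ∨
      (∃ (p : ℕ) (P : Type) (_ : Group P) (_ : Finite P), p.Prime ∧ p ≠ 2 ∧ IsPGroup p P ∧ Monoid.exponent P = p ∧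
        Nonempty (G ≃* Multiplicative (ZMod 2) × P)) := by
  have hpos : Nat.card G ≠ 0 := Nat.card_pos.ne'
  have hcard1 : Nat.card G ≠ 1 := by
    intro h1
    obtain ⟨g, hg⟩ := exists_cnt_eq n h
    have hg1 : g = 1 := by
      haveI := (Nat.card_eq_one_iff_unique.1 h1).1
      exact Subsingleton.elim _ _
    rw [hg1, orderOf_one, cnt_one] at hg
    exact hn hg.symm
  by_cases hodd : ∃ p : ℕ, p.Prime ∧ p ≠ 2 ∧ p ∣ Nat.card G
  · obtain ⟨p, hp, hp2, hpG⟩ := hodd
    have hno : ∀ g : G, orderOf g ≠ p ^ 2 := fun g hg => stepB n h hn p hp hp2 g hg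
    obtain ⟨b, m, hm, hbm⟩ := Nat.exists_eq_pow_mul_and_not_dvd hpos p hp.ne_one
    have hm0 : m ≠ 0 := by
      rintro rfl; rw [mul_zero] at hbm; exact hpos hbm
    have hm2 : m = 2 ^ m.primeFactorsList.length :=
      Nat.eq_prime_pow_of_unique_prime_dvd hm0 (fun {d} hd hdm => by
        by_contra hd2
        have hdG : d ∣ Nat.card G := hbm ▸ (hdm.trans (dvd_mul_left _ _))
        by_cases hdp : d = p
        · subst hdp; exact hm hdm
        · exact stepC n h hn d p hd hp hd2 hp2 hdp hdG hpG)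
    generalize m.primeFactorsList.length = a at hm2
    have h3 : 3 ≤ p := by have := hp.two_le; omega
    rcases Nat.lt_or_ge a 2 with ha | ha
    · interval_cases a
      · -- |G| = p ^ b
        left
        rw [hm2, pow_zero, mul_one] at hbm
        obtain ⟨h1, h2⟩ := pgroup_exp p hp b hbm hpG hno
        exact ⟨p, hp, h1, h3.trans (Nat.le_of_dvd Nat.card_pos hpG), h2⟩
      · -- |G| = 2 p ^ b
        right; right; right
        rw [hm2, pow_one, mul_comm] at hbm
        have h2G : 2 ∣ Nat.card G := ⟨p ^ b, hbm⟩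
        obtain ⟨hinv, _⟩ := stepD1 n h hn p hp hp2 hpG h2G
        obtain ⟨P, iP, fP, h1, h2, h3⟩ := stepG p hp hp2 b hbm hpG hinv hno
        exact ⟨p, P, iP, fP, hp, hp2, h1, h2, h3⟩
    · exfalso
      have h4G : 4 ∣ Nat.card G := by
        rw [hbm, hm2]
        exact Dvd.dvd.mul_left ((pow_dvd_pow 2 ha : 2 ^ 2 ∣ 2 ^ a)) _
      exact stepD2 n h hn p hp hp2 hpG h4G
  · -- 2-group
    have hG2 : Nat.card G = 2 ^ (Nat.card G).primeFactorsList.length :=
      Nat.eq_prime_pow_of_unique_prime_dvd hpos (fun {d} hd hdG => by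
        by_contra hd2
        exact hodd ⟨d, hd, hd2, hdG⟩)
    generalize (Nat.card G).primeFactorsList.length = a at hG2
    have ha0 : a ≠ 0 := by
      rintro rfl; exact hcard1 (by rw [hG2, pow_zero])
    have h2G : 2 ∣ Nat.card G := by rw [hG2]; exact dvd_pow_self 2 ha0
    by_cases h4 : ∃ x : G, orderOf x = 4
    · obtain ⟨x, hx⟩ := h4
      obtain ⟨hinv, _, h8⟩ := stepE n h hn x hx
      rcases stepF a hG2 x hx hinv h8 with hq | hc
      · right; left; exact hq
      · right; right; left; exact hc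
    · left
      have hno : ∀ g : G, orderOf g ≠ 2 ^ 2 := fun g hg => h4 ⟨g, hg⟩
      obtain ⟨h1, h2⟩ := pgroup_exp 2 Nat.prime_two a hG2 h2G hno
      refine ⟨2, Nat.prime_two, h1, ?_, h2⟩
      -- 3 ≤ |G|
      by_contra hlt
      have hc2 : Nat.card G = 2 := by
        have := Nat.le_of_dvd Nat.card_pos h2G
        omega
      -- every count is 1
      have hsum := card_pow_eq_one (G := G) 2 two_ne_zero
      rw [Nat.prime_two.sum_divisors, cnt_one] at hsum
      have hle : Nat.card {g : G // g ^ 2 = 1} ≤ 2 := by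
        rw [← hc2]; exact Nat.card_le_card_of_injective _ Subtype.val_injective
      have hcnt2 : cnt G 2 ≤ 1 := by omega
      obtain ⟨g, hg⟩ := exists_cnt_eq n h
      have hog : orderOf g = 1 ∨ orderOf g = 2 := by
        have h5 : orderOf g ∣ 2 := hc2 ▸ orderOf_dvd_natCard g
        have := (Nat.dvd_prime Nat.prime_two).1 h5
        exact this
      rcases hog with h6 | h6
      · rw [h6, cnt_one] at hg; exact hn hg.symm
      · rw [h6] at hg
        rcases cnt_two n h h2G with h7 | h7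
        · exact hn (hg.symm.trans h7)
        · -- cnt G 2 = n ≤ 1 and n ≠ 1 so n = 0, but an element of order 2 exists
          have : 1 ≤ cnt G 2 := by
            rw [cnt]
            haveI : Nonempty {g : G // orderOf g = 2} := ⟨⟨g, h6⟩⟩
            exact Nat.card_pos
          omega

end Cfsg.Agent.S3995
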