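import Mathlib
import Cfsg.Statements.S3997

set_option autoImplicit false
open Cfsg

namespace Cfsg.Agent.S3997

/-- An order-preserving bijection from equal order statistics. -/
theorem exists_order_equiv {G H : Type*} [Group G] [Finite G] [Group H] [Finite H]
    (hT : ∀ m : ℕ, Nat.card {g : G // orderOf g = m} = Nat.card {h : H // orderOf h = m}) :
    ∃ e : G ≃ H, ∀ g, orderOf (e g) = orderOf g := by
  have h1 : ∀ m : ℕ, Nonempty ({g : G // orderOf g = m} ≃ {h : H // orderOf h = m}) :=
    fun m => Finite.card_eq.1 (hT m)
  let f : ∀ m : ℕ, {g : G // orderOf g = m} ≃ {h : H // orderOf h = m} := fun m => (h1 m).some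
  refine ⟨Equiv.ofFiberEquiv f, fun g => ?_⟩
  exact Equiv.ofFiberEquiv_map f g

/-- In a finite group with a normal Sylow `p`-subgroup `P`, the elements of `p`-power order are
exactly those of `P`. -/
theorem mem_sylow_iff_of_normal {G : Type*} [Group G] [Finite G] (p : ℕ) [Fact p.Prime]
    (P : Sylow p G) (hP : (P : Subgroup G).Normal) (g : G) :
    g ∈ (P : Subgroup G) ↔ ∃ k, orderOf g = p ^ k := by
  constructor
  · intro hg
    obtain ⟨k, hk⟩ := (IsPGroup.iff_orderOf.1 P.isPGroup') ⟨g, hg⟩
    exact ⟨k, by rwa [Subgroup.orderOf_mk] at hk⟩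
  · rintro ⟨k, hk⟩
    have hz : IsPGroup p (Subgroup.zpowers g) := by
      apply IsPGroup.of_card (n := k)
      rw [Nat.card_zpowers, hk]
    obtain ⟨Q, hQ⟩ := hz.exists_le_sylow
    have := Sylow.unique_of_normal P hP
    have : Q = P := Subsingleton.elim _ _
    rw [← this]
    exact hQ (Subgroup.mem_zpowers g)

/-- Let G and H be finite groups with the same order type: for every m they have the same number of elements of order m. If G is nilpotent then so is H. -/
theorem result {G H : Type*} [Group G] [Finite G] [Group H] [Finite H] (hT : (∀ m : ℕ, Nat.card {g : G // orderOf g = m} = Nat.card {h : H // orderOf h = m})) (hG : Group.IsNilpotent G) :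
    Group.IsNilpotent H := by
  obtain ⟨e, he⟩ := exists_order_equiv hT
  have hcard : Nat.card G = Nat.card H := Nat.card_congr e
  have hGn := ((Group.isNilpotent_of_finite_tfae (G := G)).out 0 3).1 hG
  apply ((Group.isNilpotent_of_finite_tfae (G := H)).out 0 3).2
  intro p hp Q
  have := hp
  -- P a Sylow of G, normal
  obtain ⟨P⟩ : Nonempty (Sylow p G) := inferInstance
  have hPn := hGn p hp P
  -- the set of p-elements of H
  -- every p-element of H lies in Q
  have key : ∀ h : H, (∃ k, orderOf h = p ^ k) → h ∈ (Q : Subgroup H) := by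
    -- count
    classical
    -- injection from Q into p-elements of H, which are in bijection with P
    have hQP : Nat.card (Q : Subgroup H) = Nat.card (P : Subgroup G) := by
      rw [Sylow.card_eq_multiplicity, Sylow.card_eq_multiplicity, hcard]
    -- Let S = {h | ∃ k, orderOf h = p^k}; e.symm maps S bijectively onto P
    let S : Set H := {h | ∃ k, orderOf h = p ^ k}
    have hS : Nat.card S = Nat.card (P : Subgroup G) := by
      apply Nat.card_congr
      refine
        { toFun := fun h => ⟨e.symm h.1, ?_⟩
          invFun := fun g => ⟨e g.1, ?_⟩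
          left_inv := fun h => by simp
          right_inv := fun g => by simp }
      · rw [mem_sylow_iff_of_normal p P hPn]
        obtain ⟨k, hk⟩ := h.2
        refine ⟨k, ?_⟩
        rw [← he, Equiv.apply_symm_apply]; exact hk
      · obtain ⟨k, hk⟩ := (mem_sylow_iff_of_normal p P hPn g.1).1 g.2
        exact ⟨k, by rw [he]; exact hk⟩
    have hsub : ((Q : Subgroup H) : Set H) ⊆ S := by
      intro h hh
      obtain ⟨k, hk⟩ := (IsPGroup.iff_orderOf.1 Q.isPGroup') ⟨h, hh⟩
      exact ⟨k, by rwa [Subgroup.orderOf_mk] at hk⟩
    have heq : ((Q : Subgroup H) : Set H) = S := by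
      apply Set.eq_of_subset_of_ncard_le hsub
      · rw [← Nat.card_coe_set_eq, ← Nat.card_coe_set_eq, hS]
        exact le_of_eq hQP.symm
    intro h hh
    have : h ∈ S := hh
    rw [← heq] at this
    exact this
  -- Q is normal: conjugates of elements of Q are p-elements
  constructor
  intro n hn g
  apply key
  obtain ⟨k, hk⟩ := (IsPGroup.iff_orderOf.1 Q.isPGroup') ⟨n, hn⟩
  refine ⟨k, ?_⟩
  rw [Subgroup.orderOf_mk] at hk
  rw [← hk]
  have := orderOf_injective (MulAut.conj g).toMonoidHom (MulAut.conj g).injective n
  simpa [MulAut.conj_apply] using this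

end Cfsg.Agent.S3997
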