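import Cfsg.Statements.S3999
import Cfsg.Agent.Lib.Helper78.S3999Core
import Cfsg.Agent.Lib.Helper78.S3999Frob
import Cfsg.Agent.Lib.Helper78.S3999Hall
import Cfsg.Agent.Lib.Helper78.S3999NsPhi
import Cfsg.Agent.Lib.Helper71.FrobCompl
import Cfsg.Agent.Lib.Helper98.S3999FPelt
import Cfsg.Agent.Lib.Helper89.S3999GSylow
import Cfsg.Agent.Lib.Helper89.S3999GHall

set_option autoImplicit false
open Cfsg

namespace Cfsg.Agent.S3999

open Cfsg.Agent.Lib.Helper78.S3999

/-- the invariant separating solvable from non-solvable Frobenius complements -/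
def Phi (X : Type*) [Group X] : Prop :=
  (Nat.card X).factorization 5 = 1 ∧ Nat.card {x : X // orderOf x = 5} = 24

theorem solvable_iff_not_phi {L : Type*} [Group L] [Finite L] (H : Subgroup L)
    (hH : Cfsg.IsFrobeniusComplement H) : Group.IsSolvable H ↔ ¬ Phi H := by
  have hFC := Cfsg.Agent.Lib.Helper71.exists_frobeniusComplement_type0 H hH
  constructor
  · intro hs
    exact Cfsg.Agent.Lib.Helper78.S3999Hall.solvable_complement_not_phi hs hFC
  · intro hphi
    by_contra hns
    exact hphi (Cfsg.Agent.Lib.Helper78.S3999Ns.nonsolvable_complement_phi hns hFC)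

/-- no mixed elements transfer -/
theorem no_mixed_transfer {F G : Type*} [Group F] [Finite F] [Group G] [Finite G]
    (hT : ∀ m : ℕ, Nat.card {g : F // orderOf g = m} = Nat.card {h : G // orderOf h = m})
    (p q : ℕ) (hF : ∀ g : F, ¬ (p ∣ orderOf g ∧ q ∣ orderOf g)) (g : G) :
    ¬ (p ∣ orderOf g ∧ q ∣ orderOf g) := by
  intro hg
  have h := card_pred_eq_of_orderType hT (fun m => p ∣ m ∧ q ∣ m)
  have h0 : Nat.card {g : F // p ∣ orderOf g ∧ q ∣ orderOf g} = 0 := by
    have : IsEmpty {g : F // p ∣ orderOf g ∧ q ∣ orderOf g} := ⟨fun x => hF x.1 x.2⟩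
    exact Nat.card_of_isEmpty
  rw [h0] at h
  have : Nonempty {g : G // p ∣ orderOf g ∧ q ∣ orderOf g} := ⟨⟨g, hg⟩⟩
  have hpos : 0 < Nat.card {g : G // p ∣ orderOf g ∧ q ∣ orderOf g} := Nat.card_pos
  omega

/-- Let F be a finite Frobenius group (it has a Frobenius complement) and G a finite group with the same order type as F (for every m the same number of elements of order m). Then G is a Frobenius group; moreover G is solvable if and only if F is. -/
theorem result {F G : Type*} [Group F] [Finite F] [Group G] [Finite G] (hF : (∃ C : Subgroup F, Cfsg.IsFrobeniusComplement C)) (hT : (∀ m : ℕ, Nat.card {g : F // orderOf g = m} = Nat.card {h : G // orderOf h = m})) :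
    (∃ C : Subgroup G, Cfsg.IsFrobeniusComplement C) ∧ (Group.IsSolvable G ↔ Group.IsSolvable F) := by
  obtain ⟨C, hC⟩ := hF
  have hcard : Nat.card F = Nat.card G := card_eq_of_orderType hT
  obtain ⟨hcop, hnomix⟩ := frob_no_mixed C hC
  have hmul : Nat.card C * C.index = Nat.card F := Subgroup.card_mul_index C
  have hCpos : 0 < Nat.card C := Nat.card_pos
  have hnpos : 0 < C.index := Nat.pos_of_ne_zero Subgroup.index_ne_zero_of_finite
  have hn : C.index ∣ Nat.card G := by
    rw [← hcard, ← hmul]; exact dvd_mul_left _ _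
  have hdiv : Nat.card G / C.index = Nat.card C := by
    rw [← hcard, ← hmul]; exact Nat.mul_div_cancel _ hnpos
  have hcop' : (C.index).Coprime (Nat.card G / C.index) := by
    rw [hdiv]; exact hcop.symm
  -- Sylow subgroups for primes dividing the index are normal
  have hsyl : ∀ (p : ℕ) [Fact p.Prime], p ∣ C.index → ∀ P : Sylow p G, (P : Subgroup G).Normal := by
    intro p _ hp P
    apply Cfsg.Agent.Lib.Helper89.S3999.sylow_normal_of_card_pelements p _ P
    have h1 := Cfsg.Agent.Lib.Helper98.S3999.frob_card_pelements C hC p hp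
    have h2 := card_pred_eq_of_orderType hT (fun m => ∃ k : ℕ, m = p ^ k)
    rw [← h2, h1, hcard]
  obtain ⟨K, hKn, hKcard⟩ := Cfsg.Agent.Lib.Helper89.S3999.exists_normal_of_normal_sylows C.index hn hcop' hsyl
  have hKidx : K.index = Nat.card C := by
    have h1 : Nat.card K * K.index = Nat.card G := Subgroup.card_mul_index K
    rw [hKcard] at h1
    have h2 : C.index * K.index = C.index * Nat.card C := by
      rw [h1, ← hcard, ← hmul, mul_comm]
    exact Nat.eq_of_mul_eq_mul_left hnpos h2
  have hK1 : K ≠ ⊥ := by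
    intro h
    rw [h, Subgroup.card_bot] at hKcard
    exact hC.2.1 (Subgroup.index_eq_one.mp hKcard.symm)
  have hK2 : K ≠ ⊤ := by
    intro h
    rw [h, Subgroup.index_top] at hKidx
    exact hC.1 (Subgroup.card_eq_one.mp hKidx.symm)
  have hcopK : (Nat.card K).Coprime K.index := by
    rw [hKcard, hKidx]; exact hcop.symm
  have hmixG : ∀ (g : G) (p q : ℕ), p.Prime → q.Prime → p ∣ Nat.card K → q ∣ K.index →
      ¬ (p ∣ orderOf g ∧ q ∣ orderOf g) := by
    intro g p q hp hq hpK hqK
    rw [hKcard] at hpK
    rw [hKidx] at hqK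
    exact no_mixed_transfer hT p q (fun f => hnomix f p q hp hq hpK hqK) g
  obtain ⟨CG, hCG, hcompl⟩ := frobenius_of_normal_hall K hK1 hK2 hcopK hmixG
  refine ⟨⟨CG, hCG⟩, ?_⟩
  rw [frob_solvable_iff CG hCG, frob_solvable_iff C hC, solvable_iff_not_phi CG hCG,
    solvable_iff_not_phi C hC]
  have hCGcard : Nat.card CG = Nat.card C := by
    rw [← hcompl.symm.index_eq_card, hKidx]
  have hCGidx : CG.index = C.index := by
    have h1 : Nat.card CG * CG.index = Nat.card G := Subgroup.card_mul_index CG
    rw [hCGcard, ← hcard, ← hmul] at h1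
    exact Nat.eq_of_mul_eq_mul_left hCpos h1
  have hphi : Phi CG ↔ Phi C := by
    unfold Phi
    rw [hCGcard]
    constructor
    all_goals
      rintro ⟨h5, h24⟩
      refine ⟨h5, ?_⟩
      have h5dvd : 5 ∣ Nat.card C := by
        apply Nat.dvd_of_factorization_pos
        omega
      have h5cop : (5 : ℕ).Coprime C.index := by
        have h5p : (5 : ℕ).Prime := by norm_num
        rw [h5p.coprime_iff_not_dvd]
        intro h
        have : 5 ∣ Nat.gcd (Nat.card C) C.index := Nat.dvd_gcd h5dvd h
        rw [hcop] at this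
        omega
      have e1 := frob_card_orderOf C hC 5 (by norm_num) h5cop
      have e2 := frob_card_orderOf CG hCG 5 (by norm_num) (by rw [hCGidx]; exact h5cop)
      rw [hCGidx] at e2
      have e3 := hT 5
      rw [e1, e2] at e3
      have e4 := Nat.eq_of_mul_eq_mul_left hnpos e3
      omega
  rw [hphi]

end Cfsg.Agent.S3999
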