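-- S4001 (helper35): structure of 2-Frobenius groups
import Cfsg.Statements.S4001
import Cfsg.Agent.Lib.Helper35.FrobStructure
import Cfsg.Agent.S0038
import Cfsg.Agent.S0666
import Cfsg.Agent.Lib.Helper71.FrobCompl

set_option autoImplicit false
set_option linter.unusedSectionVars false
open Cfsg

namespace Cfsg.Agent.S4001

open Cfsg.Agent.Lib.Helper35
open scoped Pointwise

variable {G : Type*} [Group G] [Finite G]

/-- the data of a 2-Frobenius group -/
structure Data (H K : Subgroup G) [H.Normal] [K.Normal] where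
  C₀ : Subgroup ↥K
  D₀ : Subgroup (G ⧸ H)
  hlt : H < K
  hC₀ : IsFrobeniusComplement C₀
  hkerK : frobeniusKernel C₀ = (H.subgroupOf K : Set ↥K)
  hD₀ : IsFrobeniusComplement D₀
  hkerQ : frobeniusKernel D₀ = (K.map (QuotientGroup.mk' H) : Set (G ⧸ H))

namespace Data

variable {H K : Subgroup G} [hHn : H.Normal] [hKn : K.Normal] (d : Data H K)

/-- the map `K → G/H` -/
def ψ (_d : Data H K) : ↥K →* G ⧸ H := (QuotientGroup.mk' H).comp K.subtype

theorem ψ_apply (k : ↥K) : d.ψ k = QuotientGroup.mk' H (k : G) := rfl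

theorem ψ_eq_one_iff (k : ↥K) : d.ψ k = 1 ↔ k ∈ H.subgroupOf K := by
  rw [ψ_apply, Subgroup.mem_subgroupOf]
  exact QuotientGroup.eq_one_iff _

theorem ψ_mem (k : ↥K) : d.ψ k ∈ K.map (QuotientGroup.mk' H) :=
  Subgroup.mem_map_of_mem _ k.2

theorem dataK : (H.subgroupOf K).Normal ∧ Subgroup.IsComplement' (H.subgroupOf K) d.C₀ ∧
    Group.IsNilpotent ↥(H.subgroupOf K) ∧ H.subgroupOf K ≠ ⊥ ∧
    (∀ a ∈ d.C₀, a ≠ 1 → H.subgroupOf K ⊓ Subgroup.centralizer {a} = ⊥) ∧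
    (Nat.card d.C₀).Coprime (Nat.card ↥(H.subgroupOf K)) :=
  frobenius_data d.C₀ (H.subgroupOf K) d.hC₀ d.hkerK

theorem dataQ : (K.map (QuotientGroup.mk' H)).Normal ∧
    Subgroup.IsComplement' (K.map (QuotientGroup.mk' H)) d.D₀ ∧
    Group.IsNilpotent ↥(K.map (QuotientGroup.mk' H)) ∧ K.map (QuotientGroup.mk' H) ≠ ⊥ ∧
    (∀ a ∈ d.D₀, a ≠ 1 → K.map (QuotientGroup.mk' H) ⊓ Subgroup.centralizer {a} = ⊥) ∧
    (Nat.card d.D₀).Coprime (Nat.card ↥(K.map (QuotientGroup.mk' H))) :=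
  frobenius_data d.D₀ (K.map (QuotientGroup.mk' H)) d.hD₀ d.hkerQ

theorem ψ_inj_on {c : ↥K} (hc : c ∈ d.C₀) (h : d.ψ c = 1) : c = 1 := by
  have hdisj := d.dataK.2.1.disjoint
  rw [Subgroup.disjoint_def] at hdisj
  exact hdisj ((d.ψ_eq_one_iff c).mp h) hc

theorem ψ_surj_on {y : G ⧸ H} (hy : y ∈ K.map (QuotientGroup.mk' H)) : ∃ c ∈ d.C₀, d.ψ c = y := by
  obtain ⟨g, hg, rfl⟩ := hy
  have hc := d.dataK.2.1
  obtain ⟨⟨⟨n, hn⟩, ⟨c, hc'⟩⟩, hnc, -⟩ := hc.existsUnique (⟨g, hg⟩ : ↥K)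
  refine ⟨c, hc', ?_⟩
  have hnc' : n * c = ⟨g, hg⟩ := hnc
  have h1 : d.ψ n = 1 := (d.ψ_eq_one_iff n).mpr hn
  have h2 : d.ψ (n * c) = d.ψ ⟨g, hg⟩ := by rw [hnc']
  rw [map_mul, h1, one_mul] at h2
  rw [h2]; rfl

/-- the isomorphism `C₀ ≃* K/H` (as a subgroup of `G/H`) -/
noncomputable def e : d.C₀ ≃* ↥(K.map (QuotientGroup.mk' H)) :=
  MulEquiv.ofBijective
    ((d.ψ.comp d.C₀.subtype).codRestrict (K.map (QuotientGroup.mk' H)) (fun c => d.ψ_mem c))
    ⟨by
      rw [injective_iff_map_eq_one]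
      intro c hc
      have : d.ψ c = 1 := congrArg Subtype.val hc
      exact Subtype.ext (d.ψ_inj_on c.2 this),
     by
      rintro ⟨y, hy⟩
      obtain ⟨c, hc, hcy⟩ := d.ψ_surj_on hy
      exact ⟨⟨c, hc⟩, Subtype.ext hcy⟩⟩

theorem e_apply (c : d.C₀) : ((d.e c : ↥(K.map (QuotientGroup.mk' H))) : G ⧸ H) = d.ψ c := rfl

theorem card_C₀ : Nat.card d.C₀ = Nat.card ↥(K.map (QuotientGroup.mk' H)) :=
  Nat.card_congr d.e.toEquiv

theorem card_N (d : Data H K) : Nat.card ↥(H.subgroupOf K) = Nat.card H :=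
  Nat.card_congr (Subgroup.subgroupOfEquivOfLe (le_of_lt d.hlt)).toEquiv

theorem card_K : Nat.card K = Nat.card H * Nat.card d.C₀ := by
  rw [← d.card_N]; exact d.dataK.2.1.card_mul_card.symm

theorem card_Q : Nat.card (G ⧸ H) = Nat.card d.C₀ * Nat.card d.D₀ := by
  rw [d.card_C₀]; exact d.dataQ.2.1.card_mul_card.symm

theorem card_quot : Nat.card (↥K ⧸ H.subgroupOf K) = Nat.card d.C₀ := by
  have h1 := Subgroup.card_eq_card_quotient_mul_card_subgroup (H.subgroupOf K)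
  have h2 := d.dataK.2.1.card_mul_card
  rw [← h2, mul_comm] at h1
  have hpos : 0 < Nat.card ↥(H.subgroupOf K) := Nat.card_pos
  exact (Nat.eq_of_mul_eq_mul_right hpos h1).symm

theorem card_G : Nat.card G = Nat.card H * Nat.card d.C₀ * Nat.card d.D₀ := by
  rw [Subgroup.card_eq_card_quotient_mul_card_subgroup H, d.card_Q]; ring

theorem card_GK : Nat.card (G ⧸ K) = Nat.card d.D₀ := by
  have h1 := Subgroup.card_eq_card_quotient_mul_card_subgroup K
  rw [d.card_G, d.card_K] at h1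
  have hpos : 0 < Nat.card H * Nat.card d.C₀ := Nat.mul_pos Nat.card_pos Nat.card_pos
  have h2 : Nat.card d.D₀ * (Nat.card H * Nat.card d.C₀)
      = Nat.card (G ⧸ K) * (Nat.card H * Nat.card d.C₀) := by rw [← h1]; ring
  exact (Nat.eq_of_mul_eq_mul_right hpos h2).symm

/-- `K/H` has odd order -/
theorem odd_card_C₀ : Odd (Nat.card d.C₀) := by
  rw [← Nat.not_even_iff_odd, even_iff_two_dvd]
  intro h2
  have : Fact (Nat.Prime 2) := ⟨Nat.prime_two⟩
  obtain ⟨c, hc⟩ := exists_prime_orderOf_dvd_card' (G := d.C₀) 2 h2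
  have hc1 : c ≠ 1 := by
    intro h; rw [h, orderOf_one] at hc; omega
  have hc2 : c * c = 1 := by
    have := pow_orderOf_eq_one c
    rwa [hc, pow_two] at this
  -- the involution of `K/H`
  set t : G ⧸ H := d.ψ c with ht
  have htK : t ∈ K.map (QuotientGroup.mk' H) := d.ψ_mem c
  have ht1 : t ≠ 1 := by
    intro h
    apply hc1
    exact Subtype.ext (d.ψ_inj_on c.2 h)
  -- every involution of `K/H` equals `t`
  have huniq : ∀ s ∈ K.map (QuotientGroup.mk' H), s ≠ 1 → s * s = 1 → s = t := by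
    intro s hs hs1 hs2
    obtain ⟨c', hc', rfl⟩ := d.ψ_surj_on hs
    have h1 : c' ≠ 1 := by
      intro h; apply hs1; rw [h, map_one]
    have h2 : c' * c' = 1 := by
      apply d.ψ_inj_on (d.C₀.mul_mem hc' hc')
      rw [map_mul]; exact hs2
    have := Cfsg.Agent.S0036.invol_unique d.hC₀ hc' h1 h2 c.2
      (fun h => hc1 (Subtype.ext h)) (by exact_mod_cast congrArg Subtype.val hc2)
    rw [this]
  -- a non-identity element of `D₀` centralizes `t`
  obtain ⟨⟨x, hx⟩, hx1'⟩ := (Subgroup.ne_bot_iff_exists_ne_one).mp d.hD₀.1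
  have hx1 : x ≠ 1 := fun h => hx1' (Subtype.ext h)
  have hKbn := d.dataQ.1
  have hconj : x * t * x⁻¹ = t := by
    apply huniq
    · exact hKbn.conj_mem t htK x
    · intro h
      apply ht1
      calc t = x⁻¹ * (x * t * x⁻¹) * x := by group
        _ = 1 := by rw [h]; group
    · have htt : t * t = 1 := by
        have hcc : (c : ↥K) * (c : ↥K) = 1 := by exact_mod_cast congrArg Subtype.val hc2
        rw [ht, ← map_mul, hcc, map_one]
      calc x * t * x⁻¹ * (x * t * x⁻¹) = x * (t * t) * x⁻¹ := by group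
        _ = 1 := by rw [htt]; group
  have hmem : t ∈ K.map (QuotientGroup.mk' H) ⊓ Subgroup.centralizer {x} := by
    rw [Subgroup.mem_inf, Subgroup.mem_centralizer_singleton_iff]
    refine ⟨htK, ?_⟩
    calc t * x = x * t * x⁻¹ * x := by rw [hconj]
      _ = x * t := by group
  rw [d.dataQ.2.2.2.2.1 x hx hx1, Subgroup.mem_bot] at hmem
  exact ht1 hmem

theorem isCyclic_C₀ : IsCyclic d.C₀ := by
  have hnilKb := d.dataQ.2.2.1
  have hnil : Group.IsNilpotent d.C₀ := Group.nilpotent_of_mulEquiv d.e.symm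
  have := d.dataK.1
  exact isCyclic_of_nilpotent_odd_complement (H.subgroupOf K) d.C₀ d.dataK.2.1 d.dataK.2.2.2.1
    d.dataK.2.2.2.2.1 hnil d.odd_card_C₀

theorem isCyclic_Kb (d : Data H K) : IsCyclic ↥(K.map (QuotientGroup.mk' H)) := by
  have := d.isCyclic_C₀
  exact isCyclic_of_surjective d.e d.e.surjective

theorem isCyclic_D₀ : IsCyclic d.D₀ := by
  have hKbn := d.dataQ.1
  have hKbc := d.isCyclic_Kb
  have hfpf := d.dataQ.2.2.2.2.1
  have hK1 := d.dataQ.2.2.2.1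
  obtain ⟨n, hn1⟩ := (Subgroup.ne_bot_iff_exists_ne_one).mp hK1
  have hcomm : ∀ a b : d.D₀, a * b = b * a := by
    intro a b
    by_contra hab
    have hc1 : ((b : G ⧸ H) * a)⁻¹ * ((a : G ⧸ H) * b) ≠ 1 := by
      intro h
      apply hab
      apply Subtype.ext
      have : (a : G ⧸ H) * b = (b * a) * (((b : G ⧸ H) * a)⁻¹ * ((a : G ⧸ H) * b)) := by group
      rw [h, mul_one] at this
      exact this
    have hcD : ((b : G ⧸ H) * a)⁻¹ * ((a : G ⧸ H) * b) ∈ d.D₀ :=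
      d.D₀.mul_mem (d.D₀.inv_mem (d.D₀.mul_mem b.2 a.2)) (d.D₀.mul_mem a.2 b.2)
    have hcent : ∀ y ∈ K.map (QuotientGroup.mk' H),
        y ∈ Subgroup.centralizer {((b : G ⧸ H) * a)⁻¹ * ((a : G ⧸ H) * b)} := by
      intro y hy
      rw [Subgroup.mem_centralizer_singleton_iff]
      have h := conj_comm_of_cyclic_normal (K.map (QuotientGroup.mk' H)) (a : G ⧸ H) b hy
      symm
      calc ((b : G ⧸ H) * a)⁻¹ * ((a : G ⧸ H) * b) * y
          = ((b : G ⧸ H) * a)⁻¹ * (((a : G ⧸ H) * b) * y * ((a : G ⧸ H) * b)⁻¹) * ((a : G ⧸ H) * b) := by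
            group
        _ = ((b : G ⧸ H) * a)⁻¹ * (((b : G ⧸ H) * a) * y * ((b : G ⧸ H) * a)⁻¹) * ((a : G ⧸ H) * b) := by
            rw [h]
        _ = y * (((b : G ⧸ H) * a)⁻¹ * ((a : G ⧸ H) * b)) := by group
    have hmem : (n : G ⧸ H) ∈ K.map (QuotientGroup.mk' H) ⊓
        Subgroup.centralizer {((b : G ⧸ H) * a)⁻¹ * ((a : G ⧸ H) * b)} :=
      Subgroup.mem_inf.mpr ⟨n.2, hcent _ n.2⟩
    rw [hfpf _ hcD hc1, Subgroup.mem_bot] at hmem
    exact hn1 (Subtype.ext hmem)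
  have hsolv : Group.IsSolvable d.D₀ := Group.isSolvable_of_comm hcomm
  exact isCyclic_of_fpf (K.map (QuotientGroup.mk' H)) d.D₀ hK1 hfpf hsolv (Or.inl ⟨⟨hcomm⟩⟩)

/-- the canonical map `G/H → G/K` -/
def φ (d : Data H K) : G ⧸ H →* G ⧸ K :=
  QuotientGroup.map H K (MonoidHom.id G) (le_of_lt d.hlt)

theorem φ_mk (g : G) : d.φ (QuotientGroup.mk' H g) = QuotientGroup.mk' K g := rfl

theorem φ_eq_one_of_mem {y : G ⧸ H} (hy : y ∈ K.map (QuotientGroup.mk' H)) : d.φ y = 1 := by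
  obtain ⟨k, hk, rfl⟩ := hy
  rw [φ_mk]
  exact (QuotientGroup.eq_one_iff k).mpr hk

theorem φ_surj_on (x : G ⧸ K) : ∃ y ∈ d.D₀, d.φ y = x := by
  obtain ⟨g, rfl⟩ := QuotientGroup.mk'_surjective K x
  obtain ⟨⟨⟨n, hn⟩, ⟨y, hy⟩⟩, hny, -⟩ := d.dataQ.2.1.existsUnique (QuotientGroup.mk' H g)
  refine ⟨y, hy, ?_⟩
  have hny' : n * y = QuotientGroup.mk' H g := hny
  have h2 : d.φ (n * y) = d.φ (QuotientGroup.mk' H g) := by rw [hny']
  rw [map_mul, d.φ_eq_one_of_mem hn, one_mul, φ_mk] at h2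
  exact h2

theorem isCyclic_GK (d : Data H K) : IsCyclic (G ⧸ K) := by
  have := d.isCyclic_D₀
  refine isCyclic_of_surjective (d.φ.comp d.D₀.subtype) ?_
  intro x
  obtain ⟨y, hy, hyx⟩ := d.φ_surj_on x
  exact ⟨⟨y, hy⟩, hyx⟩

theorem isSolvable_G (d : Data H K) : Group.IsSolvable G := by
  have hGK : Group.IsSolvable (G ⧸ K) := by
    have := d.isCyclic_GK
    exact Group.isSolvable_of_comm (fun a b => by
      let _ := IsCyclic.commGroup (α := G ⧸ K); exact mul_comm a b)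
  have hKb : Group.IsSolvable ↥(K.map (QuotientGroup.mk' H)) := by
    have := d.isCyclic_Kb
    exact Group.isSolvable_of_comm (fun a b => by
      let _ := IsCyclic.commGroup (α := ↥(K.map (QuotientGroup.mk' H))); exact mul_comm a b)
  have hN : Group.IsSolvable ↥(H.subgroupOf K) := by
    have := d.dataK.2.2.1
    infer_instance
  have hK : Group.IsSolvable ↥K := by
    refine Group.isSolvable_of_ker_le_range (H.subgroupOf K).subtype
      (d.ψ.codRestrict (K.map (QuotientGroup.mk' H)) (fun c => d.ψ_mem c)) ?_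
    intro k hk
    rw [MonoidHom.mem_ker] at hk
    have hk' : d.ψ k = 1 := congrArg Subtype.val hk
    rw [Subgroup.range_subtype]
    exact (d.ψ_eq_one_iff k).mp hk'
  exact (Group.isSolvable_iff_subgroup_quotient K).mpr ⟨hK, hGK⟩

theorem coprime_C₀_H : (Nat.card d.C₀).Coprime (Nat.card H) := by
  rw [← d.card_N]; exact d.dataK.2.2.2.2.2

theorem coprime_C₀_D₀ : (Nat.card d.C₀).Coprime (Nat.card d.D₀) := by
  have := d.dataQ.2.2.2.2.2
  rw [← d.card_C₀] at this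
  exact this.symm

end Data

/-- transport of Frobenius kernels along isomorphisms -/
theorem mem_frobeniusKernel_map_equiv {X Y : Type*} [Group X] [Group Y] (e : X ≃* Y)
    (A : Subgroup X) (y : Y) :
    y ∈ frobeniusKernel (A.map e.toMonoidHom) ↔ e.symm y ∈ frobeniusKernel A := by
  have key : ∀ g : Y, y ∈ MulAut.conj g • A.map e.toMonoidHom ↔
      e.symm y ∈ MulAut.conj (e.symm g) • A := by
    intro g
    rw [mem_conj_smul_iff, mem_conj_smul_iff]
    constructor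
    · rintro ⟨a, ha, hag⟩
      have : a = (e.symm g)⁻¹ * e.symm y * e.symm g := by
        apply e.injective
        simp only [MulEquiv.coe_toMonoidHom] at hag
        simp [hag]
      rwa [← this]
    · intro h
      refine ⟨_, h, ?_⟩
      simp
  change (y = 1 ∨ ∀ g : Y, y ∉ MulAut.conj g • A.map e.toMonoidHom) ↔
    (e.symm y = 1 ∨ ∀ g : X, e.symm y ∉ MulAut.conj g • A)
  constructor
  · rintro (h | h)
    · left; rw [h, map_one]
    · right
      intro g hg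
      apply h (e g)
      rw [key]; simpa using hg
  · rintro (h | h)
    · left
      have := congrArg e h
      simpa using this
    · right
      intro g hg
      exact h (e.symm g) ((key g).mp hg)

namespace Data

variable {H K : Subgroup G} [hHn : H.Normal] [hKn : K.Normal] (d : Data H K)

/-- the complement `C₀` as a subgroup of `G` -/
def C (d : Data H K) : Subgroup G := d.C₀.map K.subtype

/-- the normalizer of `C`, a complement to `H` in `G` -/
def F (d : Data H K) : Subgroup G := Subgroup.normalizer (d.C : Set G)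

theorem mem_C {c : ↥K} (hc : c ∈ d.C₀) : (c : G) ∈ d.C := Subgroup.mem_map_of_mem K.subtype hc

theorem C_le_K : d.C ≤ K := by
  rintro _ ⟨c, -, rfl⟩
  exact c.2

theorem C_le_F : d.C ≤ d.F := Subgroup.le_normalizer

theorem F_inf_H {h : G} (hH : h ∈ H) (hF : h ∈ d.F) : h = 1 := by
  have hNn := d.dataK.1
  obtain ⟨c₀, hc₀1⟩ := (Subgroup.ne_bot_iff_exists_ne_one).mp d.hC₀.1
  have hmem : h * ((c₀ : ↥K) : G) * h⁻¹ ∈ d.C :=
    ((Subgroup.mem_normalizer_iff (H := d.C)).mp hF _).mp (d.mem_C c₀.2)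
  obtain ⟨c₁, hc₁, hc₁e⟩ := hmem
  have hK' : h ∈ K := (le_of_lt d.hlt) hH
  have hhN : (⟨h, hK'⟩ : ↥K) ∈ H.subgroupOf K := by rw [Subgroup.mem_subgroupOf]; exact hH
  have heq : c₁ = ⟨h, hK'⟩ * (c₀ : ↥K) * ⟨h, hK'⟩⁻¹ := Subtype.ext hc₁e
  have h1 : c₁ * (c₀ : ↥K)⁻¹ ∈ H.subgroupOf K := by
    have : c₁ * (c₀ : ↥K)⁻¹ = ⟨h, hK'⟩ * ((c₀ : ↥K) * ⟨h, hK'⟩⁻¹ * (c₀ : ↥K)⁻¹) := by
      rw [heq]; group
    rw [this]
    exact (H.subgroupOf K).mul_mem hhN (hNn.conj_mem _ ((H.subgroupOf K).inv_mem hhN) _)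
  have h2 : c₁ * (c₀ : ↥K)⁻¹ ∈ d.C₀ := d.C₀.mul_mem hc₁ (d.C₀.inv_mem c₀.2)
  have hdisj := d.dataK.2.1.disjoint
  rw [Subgroup.disjoint_def] at hdisj
  have h3 : c₁ = (c₀ : ↥K) := by
    have := hdisj h1 h2
    calc c₁ = c₁ * (c₀ : ↥K)⁻¹ * c₀ := by group
      _ = c₀ := by rw [this, one_mul]
  have hcent : (⟨h, hK'⟩ : ↥K) ∈ H.subgroupOf K ⊓ Subgroup.centralizer {(c₀ : ↥K)} := by
    rw [Subgroup.mem_inf, Subgroup.mem_centralizer_singleton_iff]
    refine ⟨hhN, ?_⟩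
    rw [h3] at heq
    symm
    calc (c₀ : ↥K) * ⟨h, hK'⟩ = ⟨h, hK'⟩ * (c₀ : ↥K) * ⟨h, hK'⟩⁻¹ * ⟨h, hK'⟩ := by rw [← heq]
      _ = ⟨h, hK'⟩ * (c₀ : ↥K) := by group
  rw [d.dataK.2.2.2.2.1 c₀ c₀.2 (fun h => hc₀1 (Subtype.ext h)), Subgroup.mem_bot] at hcent
  exact congrArg Subtype.val hcent

theorem exists_F_lift (g : G) : ∃ f ∈ d.F, QuotientGroup.mk' H f = QuotientGroup.mk' H g := by
  have hC₀' := Cfsg.Agent.Lib.Helper71.isFrobeniusComplement_map_equiv
    (MulAut.conjNormal g : MulAut ↥K) d.C₀ d.hC₀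
  obtain ⟨k, hk⟩ := Cfsg.Agent.S0038.result d.C₀ _ d.hC₀ hC₀'
  have hx : (k : G) * g ∈ d.F := by
    apply Subgroup.mem_normalizer_fintype
    rintro _ ⟨c, hc, rfl⟩
    have h1 : (MulAut.conjNormal g : MulAut ↥K) c ∈
        d.C₀.map (MulAut.conjNormal g : MulAut ↥K).toMonoidHom := Subgroup.mem_map_of_mem _ hc
    have h2 := Subgroup.smul_mem_pointwise_smul _ (MulAut.conj k) _ h1
    rw [hk] at h2
    have h3 : ((MulAut.conj k • (MulAut.conjNormal g : MulAut ↥K) c : ↥K) : G) =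
        (k : G) * g * (K.subtype c) * ((k : G) * g)⁻¹ := by
      simp only [MulAut.smul_def, MulAut.conj_apply, MulAut.conjNormal_apply,
        Subgroup.coe_mul, Subgroup.coe_inv, Subgroup.coe_subtype]
      group
    rw [← h3]
    exact d.mem_C h2
  obtain ⟨⟨⟨n, hn⟩, ⟨c, hc⟩⟩, hnc, -⟩ := d.dataK.2.1.existsUnique k
  have hnc' : n * c = k := hnc
  refine ⟨(c : G)⁻¹ * ((k : G) * g), d.F.mul_mem (d.F.inv_mem (d.C_le_F (d.mem_C hc))) hx, ?_⟩
  have hn' : QuotientGroup.mk' H (n : G) = 1 :=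
    (QuotientGroup.eq_one_iff _).mpr (Subgroup.mem_subgroupOf.mp hn)
  rw [← hnc']
  simp only [map_mul, map_inv, Subgroup.coe_mul, hn', one_mul]
  group

/-- `F ≃* G/H` -/
noncomputable def eF (d : Data H K) : ↥d.F ≃* G ⧸ H :=
  MulEquiv.ofBijective ((QuotientGroup.mk' H).comp d.F.subtype)
    ⟨by
      rw [injective_iff_map_eq_one]
      intro f hf
      have : (f : G) ∈ H := (QuotientGroup.eq_one_iff _).mp hf
      exact Subtype.ext (d.F_inf_H this f.2),
     by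
      intro y
      obtain ⟨g, rfl⟩ := QuotientGroup.mk'_surjective H y
      obtain ⟨f, hf, hfg⟩ := d.exists_F_lift g
      exact ⟨⟨f, hf⟩, hfg⟩⟩

theorem eF_apply (f : ↥d.F) : d.eF f = QuotientGroup.mk' H (f : G) := rfl

/-- the complement `D₀` transported to `F` -/
noncomputable def D₁ (d : Data H K) : Subgroup ↥d.F := d.D₀.map d.eF.symm.toMonoidHom

theorem hD₁ : IsFrobeniusComplement d.D₁ :=
  Cfsg.Agent.Lib.Helper71.isFrobeniusComplement_map_equiv d.eF.symm d.D₀ d.hD₀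

theorem mem_kernel_D₁ (f : ↥d.F) : f ∈ frobeniusKernel d.D₁ ↔ (f : G) ∈ K := by
  rw [D₁, mem_frobeniusKernel_map_equiv, MulEquiv.symm_symm, d.hkerQ, SetLike.mem_coe, eF_apply]
  constructor
  · rintro ⟨k, hk, hkf⟩
    have h1 : k⁻¹ * (f : G) ∈ H := QuotientGroup.eq.mp hkf
    have h2 : (f : G) = k * (k⁻¹ * (f : G)) := by group
    rw [h2]
    exact K.mul_mem hk ((le_of_lt d.hlt) h1)
  · intro h; exact Subgroup.mem_map_of_mem _ h

theorem card_kernel_D₁ : Nat.card (frobeniusKernel d.D₁) = Nat.card d.C₀ := by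
  have h1 : d.D₁.index = d.D₀.index := Subgroup.index_map_equiv d.D₀ d.eF.symm
  rw [(Cfsg.Agent.S0034.result d.D₁ d.hD₁).1, h1,
    ← (Cfsg.Agent.S0034.result d.D₀ d.hD₀).1, d.hkerQ, d.card_C₀]
  rfl

theorem card_D₁ : Nat.card d.D₁ = Nat.card d.D₀ :=
  Subgroup.card_map_of_injective d.eF.symm.injective

end Data

/-- forward direction of the prime graph statement -/
theorem forward {H K : Subgroup G} [H.Normal] [K.Normal] (d : Data H K) {p q : ℕ}
    (hp : p.Prime) (hq : q.Prime) {g : G}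
    (hg : orderOf g = p * q) (hpc : p ∣ Nat.card d.C₀) : q ∣ Nat.card d.C₀ := by
  by_contra hqc
  have hNn := d.dataK.1
  have hKbn := d.dataQ.1
  have hgp : orderOf (g ^ q) = p := by
    rw [orderOf_pow_of_dvd hq.ne_zero (hg ▸ dvd_mul_left q p), hg, Nat.mul_div_cancel _ hq.pos]
  have hgq : orderOf (g ^ p) = q := by
    rw [orderOf_pow_of_dvd hp.ne_zero (hg ▸ dvd_mul_right p q), hg,
      Nat.mul_div_cancel_left _ hp.pos]
  have hcomm : g ^ q * g ^ p = g ^ p * g ^ q := by rw [← pow_add, ← pow_add, add_comm]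
  have hpH : ¬ p ∣ Nat.card H := fun h =>
    hp.one_lt.ne' (Nat.eq_one_of_dvd_coprimes d.coprime_C₀_H hpc h)
  have hpD : ¬ p ∣ Nat.card d.D₀ := fun h =>
    hp.one_lt.ne' (Nat.eq_one_of_dvd_coprimes d.coprime_C₀_D₀ hpc h)
  have hgpH : g ^ q ∉ H := by
    intro h
    apply hpH
    have := Subgroup.orderOf_dvd_natCard H h
    rwa [hgp] at this
  have hgpK : g ^ q ∈ K := by
    have h1 : orderOf (QuotientGroup.mk' K (g ^ q)) ∣ p := hgp ▸ orderOf_map_dvd _ _
    have h2 : orderOf (QuotientGroup.mk' K (g ^ q)) ∣ Nat.card d.D₀ :=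
      d.card_GK ▸ orderOf_dvd_natCard _
    have h3 : orderOf (QuotientGroup.mk' K (g ^ q)) = 1 := by
      rcases (Nat.dvd_prime hp).mp h1 with h | h
      · exact h
      · rw [h] at h2; exact absurd h2 hpD
    rw [orderOf_eq_one_iff] at h3
    exact (QuotientGroup.eq_one_iff _).mp h3
  -- in `G/H`
  have hbp : QuotientGroup.mk' H (g ^ q) ∈ K.map (QuotientGroup.mk' H) :=
    Subgroup.mem_map_of_mem _ hgpK
  have hbp1 : QuotientGroup.mk' H (g ^ q) ≠ 1 := by
    intro h; exact hgpH ((QuotientGroup.eq_one_iff _).mp h)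
  have hbq : QuotientGroup.mk' H (g ^ p) ∈ K.map (QuotientGroup.mk' H) := by
    by_contra hnot
    have := not_commute_of_not_mem_kernel d.D₀ (K.map (QuotientGroup.mk' H)) d.hkerQ
      d.dataQ.2.2.2.2.1 hnot hbp hbp1
    apply this
    rw [← map_mul, ← map_mul, hcomm]
  have hbq1 : QuotientGroup.mk' H (g ^ p) = 1 := by
    have h1 : orderOf (QuotientGroup.mk' H (g ^ p)) ∣ q := hgq ▸ orderOf_map_dvd _ _
    have h2 : orderOf (QuotientGroup.mk' H (g ^ p)) ∣ Nat.card d.C₀ := by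
      rw [d.card_C₀]; exact Subgroup.orderOf_dvd_natCard _ hbq
    rcases (Nat.dvd_prime hq).mp h1 with h | h
    · exact orderOf_eq_one_iff.mp h
    · rw [h] at h2; exact absurd h2 hqc
  have hgqH : g ^ p ∈ H := (QuotientGroup.eq_one_iff _).mp hbq1
  have hgqK : g ^ p ∈ K := (le_of_lt d.hlt) hgqH
  have hx : (⟨g ^ q, hgpK⟩ : ↥K) ∉ H.subgroupOf K := by
    rw [Subgroup.mem_subgroupOf]; exact hgpH
  have hn : (⟨g ^ p, hgqK⟩ : ↥K) ∈ H.subgroupOf K := by
    rw [Subgroup.mem_subgroupOf]; exact hgqH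
  have hn1 : (⟨g ^ p, hgqK⟩ : ↥K) ≠ 1 := by
    intro h
    have h' : g ^ p = 1 := congrArg Subtype.val h
    rw [h', orderOf_one] at hgq
    exact hq.one_lt.ne hgq
  have := not_commute_of_not_mem_kernel d.C₀ (H.subgroupOf K) d.hkerK d.dataK.2.2.2.2.1 hx hn hn1
  exact this (Subtype.ext hcomm)

/-- in a finite nilpotent group there are elements of order `p * q` -/
theorem exists_orderOf_mul_of_nilpotent {X : Type*} [Group X] [Finite X] [Group.IsNilpotent X]
    {p q : ℕ} (hp : p.Prime) (hq : q.Prime) (hpq : p ≠ q) (hpX : p ∣ Nat.card X)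
    (hqX : q ∣ Nat.card X) : ∃ x : X, orderOf x = p * q := by
  have := Fact.mk hp
  have := Fact.mk hq
  obtain ⟨x, hx⟩ := exists_prime_orderOf_dvd_card' p hpX
  obtain ⟨y, hy⟩ := exists_prime_orderOf_dvd_card' q hqX
  have hxP : IsPGroup p (Subgroup.zpowers x) :=
    IsPGroup.of_card (n := 1) (by rw [Nat.card_zpowers, hx, pow_one])
  have hyQ : IsPGroup q (Subgroup.zpowers y) :=
    IsPGroup.of_card (n := 1) (by rw [Nat.card_zpowers, hy, pow_one])
  obtain ⟨P, hP⟩ := hxP.exists_le_sylow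
  obtain ⟨Q, hQ⟩ := hyQ.exists_le_sylow
  have hdisj : Disjoint (P : Subgroup X) (Q : Subgroup X) :=
    IsPGroup.disjoint_of_ne p q hpq _ _ P.isPGroup' Q.isPGroup'
  have hcomm : Commute x y :=
    Subgroup.commute_of_normal_of_disjoint _ _ inferInstance inferInstance hdisj x y
      (hP (Subgroup.mem_zpowers x)) (hQ (Subgroup.mem_zpowers y))
  refine ⟨x * y, ?_⟩
  rw [hcomm.orderOf_mul_eq_mul_orderOf_of_coprime
    (by rw [hx, hy]; exact (Nat.coprime_primes hp hq).mpr hpq), hx, hy]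

theorem exists_of_dvd_C₀ {H K : Subgroup G} [H.Normal] [K.Normal] (d : Data H K) {p q : ℕ}
    (hp : p.Prime) (hq : q.Prime) (hpq : p ≠ q) (hpc : p ∣ Nat.card d.C₀)
    (hqc : q ∣ Nat.card d.C₀) : ∃ g : G, orderOf g = p * q := by
  have := d.isCyclic_C₀
  obtain ⟨x, hx⟩ := IsCyclic.exists_ofOrder_eq_natCard (α := d.C₀)
  have hdvd : p * q ∣ orderOf x := by
    rw [hx]
    exact Nat.Coprime.mul_dvd_of_dvd_of_dvd ((Nat.coprime_primes hp hq).mpr hpq) hpc hqc
  refine ⟨(((x ^ (orderOf x / (p * q)) : d.C₀) : ↥K) : G), ?_⟩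
  rw [Subgroup.orderOf_coe, Subgroup.orderOf_coe]
  exact orderOf_pow_orderOf_div (orderOf_pos x).ne' hdvd

theorem exists_of_dvd_H {H K : Subgroup G} [H.Normal] [K.Normal] (d : Data H K) {p q : ℕ}
    (hp : p.Prime) (hq : q.Prime) (hpq : p ≠ q) (hpH : p ∣ Nat.card H)
    (hqH : q ∣ Nat.card H) : ∃ g : G, orderOf g = p * q := by
  have hnil : Group.IsNilpotent ↥H := by
    have := d.dataK.2.2.1
    exact Group.nilpotent_of_mulEquiv (Subgroup.subgroupOfEquivOfLe (le_of_lt d.hlt))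
  obtain ⟨x, hx⟩ := exists_orderOf_mul_of_nilpotent (X := ↥H) hp hq hpq hpH hqH
  exact ⟨(x : G), by rw [Subgroup.orderOf_coe, hx]⟩

theorem exists_of_dvd_D₀ {H K : Subgroup G} [H.Normal] [K.Normal] (d : Data H K) {p q : ℕ}
    (hp : p.Prime) (hq : q.Prime) (hpq : p ≠ q) (hpD : p ∣ Nat.card d.D₀)
    (hqD : q ∣ Nat.card d.D₀) : ∃ g : G, orderOf g = p * q := by
  have := d.isCyclic_D₀
  obtain ⟨x, hx⟩ := IsCyclic.exists_ofOrder_eq_natCard (α := d.D₀)
  obtain ⟨g, hgx⟩ := QuotientGroup.mk'_surjective H (x : G ⧸ H)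
  have hdvd : p * q ∣ orderOf g := by
    have h1 : p * q ∣ orderOf (x : G ⧸ H) := by
      rw [Subgroup.orderOf_coe, hx]
      exact Nat.Coprime.mul_dvd_of_dvd_of_dvd ((Nat.coprime_primes hp hq).mpr hpq) hpD hqD
    rw [← hgx] at h1
    exact h1.trans (orderOf_map_dvd _ _)
  exact ⟨g ^ (orderOf g / (p * q)), orderOf_pow_orderOf_div (orderOf_pos g).ne' hdvd⟩

theorem exists_of_dvd_H_D₀ {H K : Subgroup G} [H.Normal] [K.Normal] (d : Data H K) {p q : ℕ}
    (hp : p.Prime) (hq : q.Prime) (hpq : p ≠ q) (hpH : p ∣ Nat.card H)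
    (hqD : q ∣ Nat.card d.D₀) : ∃ g : G, orderOf g = p * q := by
  have := Fact.mk hp
  have := Fact.mk hq
  have hnil : Group.IsNilpotent ↥H := by
    have := d.dataK.2.2.1
    exact Group.nilpotent_of_mulEquiv (Subgroup.subgroupOfEquivOfLe (le_of_lt d.hlt))
  -- the Sylow `p`-subgroup of `H`, as a normal subgroup of `G`
  let P₀ : Sylow p ↥H := default
  have hP₀char : (P₀ : Subgroup ↥H).Characteristic := Sylow.characteristic_of_normal P₀ inferInstance
  let P : Subgroup G := (P₀ : Subgroup ↥H).map H.subtype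
  have hPn : P.Normal := ConjAct.normal_of_characteristic_of_normal
  have hPH : P ≤ H := Subgroup.map_subtype_le _
  have hPp : IsPGroup p P := P₀.isPGroup'.map H.subtype
  have hP1 : P ≠ ⊥ := by
    intro h
    have := (Subgroup.map_eq_bot_iff_of_injective _ H.subtype_injective).mp h
    exact P₀.ne_bot_of_dvd_card hpH this
  let V : Subgroup G := P ⊓ Subgroup.centralizer (P : Set G)
  have hVn : V.Normal := Subgroup.normal_inf_normal _ _
  have hVH : V ≤ H := inf_le_left.trans hPH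
  have hVab : IsMulCommutative V := by
    refine ⟨⟨fun a b => Subtype.ext ?_⟩⟩
    have ha : (a : G) ∈ P := a.2.1
    have hb : (b : G) ∈ Subgroup.centralizer (P : Set G) := b.2.2
    exact Subgroup.mem_centralizer_iff.mp hb _ ha
  have hV1 : V ≠ ⊥ := by
    have hnt : Nontrivial ↥P := (Subgroup.nontrivial_iff_ne_bot P).mpr hP1
    have hcn := hPp.center_nontrivial
    obtain ⟨z, hz⟩ := exists_ne (1 : ↥(Subgroup.center ↥P))
    intro hbot
    have hzV : ((z : ↥P) : G) ∈ V := by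
      refine ⟨(z : ↥P).2, ?_⟩
      change ((z : ↥P) : G) ∈ Subgroup.centralizer (P : Set G)
      rw [Subgroup.mem_centralizer_iff]
      intro h hh
      have := Subgroup.mem_center_iff.mp z.2 ⟨h, hh⟩
      exact congrArg Subtype.val this
    rw [hbot, Subgroup.mem_bot] at hzV
    apply hz
    apply Subtype.ext
    apply Subtype.ext
    exact hzV
  have hFV : d.F ≤ Subgroup.normalizer (V : Set G) := by
    rw [Subgroup.normalizer_eq_top]; exact le_top
  have hVp : IsPGroup p V := hPp.to_le inf_le_left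
  have hpC : ¬ p ∣ Nat.card d.C₀ := fun h =>
    hp.one_lt.ne' (Nat.eq_one_of_dvd_coprimes d.coprime_C₀_H h hpH)
  have hcop : (Nat.card V).Coprime (Nat.card (frobeniusKernel d.D₁)) := by
    rw [d.card_kernel_D₁]
    obtain ⟨n, hn⟩ := IsPGroup.iff_card.mp hVp
    rw [hn]
    exact Nat.Coprime.pow_left _ ((Nat.Prime.coprime_iff_not_dvd hp).mpr hpC)
  have hCK : V ⊓ Subgroup.centralizer (Subtype.val '' frobeniusKernel d.D₁ : Set G) = ⊥ := by
    rw [eq_bot_iff]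
    intro v hv
    rw [Subgroup.mem_bot]
    obtain ⟨hvV, hvc⟩ := hv
    obtain ⟨c₀, hc₀1⟩ := (Subgroup.ne_bot_iff_exists_ne_one).mp d.hC₀.1
    have hcF : ((c₀ : ↥K) : G) ∈ d.F := d.C_le_F (d.mem_C c₀.2)
    have hcker : (⟨((c₀ : ↥K) : G), hcF⟩ : ↥d.F) ∈ frobeniusKernel d.D₁ := by
      rw [d.mem_kernel_D₁]; exact (c₀ : ↥K).2
    have hcomm : ((c₀ : ↥K) : G) * v = v * ((c₀ : ↥K) : G) :=
      Subgroup.mem_centralizer_iff.mp hvc _ ⟨_, hcker, rfl⟩
    have hvH : v ∈ H := hVH hvV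
    have hvK : v ∈ K := (le_of_lt d.hlt) hvH
    have hmem : (⟨v, hvK⟩ : ↥K) ∈ H.subgroupOf K ⊓ Subgroup.centralizer {(c₀ : ↥K)} := by
      rw [Subgroup.mem_inf, Subgroup.mem_centralizer_singleton_iff, Subgroup.mem_subgroupOf]
      exact ⟨hvH, Subtype.ext hcomm.symm⟩
    rw [d.dataK.2.2.2.2.1 c₀ c₀.2 (fun h => hc₀1 (Subtype.ext h)), Subgroup.mem_bot] at hmem
    exact congrArg Subtype.val hmem
  have hres := Cfsg.Agent.S0666.result V d.F hVab hV1 hFV d.D₁ d.hD₁ hcop hCK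
  obtain ⟨⟨v, hvV, hvc⟩, hv1'⟩ := (Subgroup.ne_bot_iff_exists_ne_one).mp hres
  have hv1 : v ≠ 1 := fun h => hv1' (Subtype.ext h)
  -- an element of order `q` in `D₁`
  have hqD₁ : q ∣ Nat.card d.D₁ := by rw [d.card_D₁]; exact hqD
  obtain ⟨y, hy⟩ := exists_prime_orderOf_dvd_card' q hqD₁
  have hyG : orderOf (((y : ↥d.F) : G)) = q := by
    rw [Subgroup.orderOf_coe, Subgroup.orderOf_coe, hy]
  have hvy : Commute v (((y : ↥d.F) : G)) := by
    have : (((y : ↥d.F) : G)) ∈ ((d.D₁.map d.F.subtype : Subgroup G) : Set G) :=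
      Subgroup.mem_map_of_mem _ y.2
    exact (Subgroup.mem_centralizer_iff.mp hvc _ this).symm
  -- a power of `v` of order `p`
  have hpv : p ∣ orderOf v := by
    obtain ⟨k, hk⟩ := hVp ⟨v, hvV⟩
    have hk' : v ^ p ^ k = 1 := congrArg Subtype.val hk
    obtain ⟨j, -, hj⟩ := (Nat.dvd_prime_pow hp).mp (orderOf_dvd_of_pow_eq_one hk')
    rcases Nat.eq_zero_or_pos j with h0 | h0
    · rw [h0, pow_zero, orderOf_eq_one_iff] at hj
      exact absurd hj hv1
    · rw [hj]; exact dvd_pow_self p h0.ne'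
  have hv' : orderOf (v ^ (orderOf v / p)) = p :=
    orderOf_pow_orderOf_div (orderOf_pos v).ne' hpv
  have hcomm' : Commute (v ^ (orderOf v / p)) (((y : ↥d.F) : G)) := hvy.pow_left _
  refine ⟨v ^ (orderOf v / p) * (((y : ↥d.F) : G)), ?_⟩
  rw [hcomm'.orderOf_mul_eq_mul_orderOf_of_coprime
    (by rw [hv', hyG]; exact (Nat.coprime_primes hp hq).mpr hpq), hv', hyG]

/-- the prime graph statement -/
theorem prime_graph {H K : Subgroup G} [H.Normal] [K.Normal] (d : Data H K) (p q : ℕ)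
    (hp : p.Prime) (hq : q.Prime) (hpq : p ≠ q) (hpG : p ∣ Nat.card G) (hqG : q ∣ Nat.card G) :
    (∃ g : G, orderOf g = p * q) ↔ (p ∣ Nat.card d.C₀ ↔ q ∣ Nat.card d.C₀) := by
  constructor
  · rintro ⟨g, hg⟩
    exact ⟨fun h => forward d hp hq hg h, fun h => forward d hq hp (by rw [hg, mul_comm]) h⟩
  · intro hiff
    by_cases hpc : p ∣ Nat.card d.C₀
    · exact exists_of_dvd_C₀ d hp hq hpq hpc (hiff.mp hpc)
    · have hqc : ¬ q ∣ Nat.card d.C₀ := fun h => hpc (hiff.mpr h)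
      rw [d.card_G] at hpG hqG
      have hp' : p ∣ Nat.card H ∨ p ∣ Nat.card d.D₀ := by
        rcases (Nat.Prime.dvd_mul hp).mp hpG with h | h
        · rcases (Nat.Prime.dvd_mul hp).mp h with h | h
          · exact Or.inl h
          · exact absurd h hpc
        · exact Or.inr h
      have hq' : q ∣ Nat.card H ∨ q ∣ Nat.card d.D₀ := by
        rcases (Nat.Prime.dvd_mul hq).mp hqG with h | h
        · rcases (Nat.Prime.dvd_mul hq).mp h with h | h
          · exact Or.inl h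
          · exact absurd h hqc
        · exact Or.inr h
      by_cases hpH : p ∣ Nat.card H
      · by_cases hqH : q ∣ Nat.card H
        · exact exists_of_dvd_H d hp hq hpq hpH hqH
        · exact exists_of_dvd_H_D₀ d hp hq hpq hpH (hq'.resolve_left hqH)
      · by_cases hqH : q ∣ Nat.card H
        · obtain ⟨g, hg⟩ := exists_of_dvd_H_D₀ d hq hp hpq.symm hqH (hp'.resolve_left hpH)
          exact ⟨g, by rw [hg, mul_comm]⟩
        · exact exists_of_dvd_D₀ d hp hq hpq (hp'.resolve_left hpH) (hq'.resolve_left hqH)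

theorem result {G : Type*} [Group G] [Finite G] (H K : Subgroup G) [H.Normal] [K.Normal] (hlt : H < K)
    (hK : ∃ C : Subgroup ↥K, Cfsg.IsFrobeniusComplement C ∧ Cfsg.frobeniusKernel C = (H.subgroupOf K : Set ↥K))
    (hGH : ∃ C : Subgroup (G ⧸ H), Cfsg.IsFrobeniusComplement C ∧ Cfsg.frobeniusKernel C = (K.map (QuotientGroup.mk' H) : Set (G ⧸ H))) :
    Group.IsSolvable G ∧ Odd (Nat.card (↥K ⧸ H.subgroupOf K)) ∧
      Nat.Coprime (Nat.card (↥K ⧸ H.subgroupOf K)) (Nat.card ↥H * Nat.card (G ⧸ K)) ∧ IsCyclic (G ⧸ K) ∧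
      ∀ p q : ℕ, p.Prime → q.Prime → p ≠ q → p ∣ Nat.card G → q ∣ Nat.card G →
        ((∃ g : G, orderOf g = p * q) ↔ (p ∣ Nat.card (↥K ⧸ H.subgroupOf K) ↔ q ∣ Nat.card (↥K ⧸ H.subgroupOf K))) := by
  obtain ⟨C₀, hC₀, hkerK⟩ := hK
  obtain ⟨D₀, hD₀, hkerQ⟩ := hGH
  let d : Data H K := ⟨C₀, D₀, hlt, hC₀, hkerK, hD₀, hkerQ⟩
  refine ⟨d.isSolvable_G, ?_, ?_, d.isCyclic_GK, ?_⟩
  · rw [d.card_quot]; exact d.odd_card_C₀
  · rw [d.card_quot, d.card_GK]
    exact Nat.Coprime.mul_right d.coprime_C₀_H d.coprime_C₀_D₀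
  · intro p q hp hq hpq hpG hqG
    rw [d.card_quot]
    exact prime_graph d p q hp hq hpq hpG hqG

end Cfsg.Agent.S4001
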