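import Cfsg.Statements.S4002
import Cfsg.Agent.S3633
import Cfsg.Agent.Lib.Helper99.TwoPrimes

set_option autoImplicit false
open Cfsg

namespace Cfsg.Agent.S4002

open Cfsg.Agent.Lib.Helper99

/-- three primes `s < p < q ≤ n` with `n < s * p` -/
theorem exists_three_primes (n : ℕ) (hn : 7 ≤ n) :
    ∃ s p q : ℕ, s.Prime ∧ p.Prime ∧ q.Prime ∧ s < p ∧ p < q ∧ q ≤ n ∧ n < s * p := by
  rcases Nat.lt_or_ge n 11 with hlt | hge
  · exact ⟨3, 5, 7, by norm_num, by norm_num, by norm_num, by norm_num, by norm_num, hn, by omega⟩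
  · obtain ⟨p, q, hp, hq, hpq, hnp, hqn⟩ := exists_two_primes_half n hge
    obtain ⟨s, hs, hms, hsm⟩ := Nat.exists_prime_lt_and_le_two_mul (n / 4) (by omega)
    have h4s : n < 4 * s := by omega
    have hsp : s < p := by omega
    refine ⟨s, p, q, hs, hp, hq, hsp, hpq, hqn, ?_⟩
    nlinarith

/-- If the set of element orders of a finite group G is {1, 2, …, n} with n ≥ 7, then G is not solvable. -/
theorem result {G : Type*} [Group G] [Finite G] (n : ℕ) (hn : 7 ≤ n) (h : Set.range (orderOf : G → ℕ) = {k : ℕ | 1 ≤ k ∧ k ≤ n}) : ¬ Group.IsSolvable G := by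
  obtain ⟨s, p, q, hs, hp, hq, hsp, hpq, hqn, hnsp⟩ := exists_three_primes n hn
  have hmem : ∀ k : ℕ, 1 ≤ k → k ≤ n → ∃ g : G, orderOf g = k := by
    intro k h1 h2
    have : k ∈ Set.range (orderOf : G → ℕ) := by rw [h]; exact ⟨h1, h2⟩
    exact this
  have hle : ∀ g : G, orderOf g ≤ n := by
    intro g
    have : orderOf g ∈ Set.range (orderOf : G → ℕ) := ⟨g, rfl⟩
    rw [h] at this
    exact this.2
  have hdvd : ∀ k : ℕ, 1 ≤ k → k ≤ n → k ∣ Nat.card G := by
    intro k h1 h2
    obtain ⟨g, hg⟩ := hmem k h1 h2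
    rw [← hg]; exact orderOf_dvd_natCard g
  have hρ : 3 ≤ ({s, p, q} : Finset ℕ).card := by
    rw [Finset.card_insert_of_notMem, Finset.card_insert_of_notMem, Finset.card_singleton]
    · simp; omega
    · simp; omega
  have hs1 := hs.one_lt
  refine (Cfsg.Agent.S3633.result (G := G) {s, p, q} hρ ⟨?_, ?_⟩ ⊥ (by infer_instance)).2
  · intro r hr
    simp only [Finset.mem_insert, Finset.mem_singleton] at hr
    rcases hr with rfl | rfl | rfl
    · exact ⟨hs, hdvd _ (by omega) (by omega)⟩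
    · exact ⟨hp, hdvd _ (by omega) (by omega)⟩
    · exact ⟨hq, hdvd _ (by omega) (by omega)⟩
  · intro r hr t ht hrt ⟨x, hx⟩
    have hxle := hle x
    rw [hx] at hxle
    simp only [Finset.mem_insert, Finset.mem_singleton] at hr ht
    have h1 : s * p ≤ r * t := by
      rcases hr with e1 | e1 | e1 <;> rcases ht with e2 | e2 | e2 <;>
        first
        | exact absurd (e1.trans e2.symm) hrt
        | (rw [e1, e2]; try nlinarith [hsp, hpq, hs1])
    omega

end Cfsg.Agent.S4002
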