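import Cfsg.Statements.S4005
import Mathlib

set_option autoImplicit false
open Cfsg

namespace Cfsg.Agent.S4005

section basics

variable {G : Type*} [Group G]

/-- An element of order at most three is killed by `2` or by `3`. -/
theorem sq_or_cube_eq_one (hord : ∀ g : G, 1 ≤ orderOf g ∧ orderOf g ≤ 3) (g : G) :
    g ^ 2 = 1 ∨ g ^ 3 = 1 := by
  obtain ⟨h1, h3⟩ := hord g
  have : orderOf g = 1 ∨ orderOf g = 2 ∨ orderOf g = 3 := by omega
  rcases this with h | h | h
  · left; rw [orderOf_eq_one_iff.1 h, one_pow]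
  · left; rw [← h, pow_orderOf_eq_one]
  · right; rw [← h, pow_orderOf_eq_one]

/-- If all element orders are at most three, no element of order `3` commutes with an involution. -/
theorem no_six (hord : ∀ g : G, 1 ≤ orderOf g ∧ orderOf g ≤ 3) {c w : G} (hc : orderOf c = 3)
    (hw : orderOf w = 2) (hcw : Commute c w) : False := by
  have h := hcw.orderOf_mul_eq_mul_orderOf_of_coprime (by rw [hc, hw]; decide)
  rw [hc, hw] at h
  have := (hord (c * w)).2
  omega

/-- An element with `x ≠ 1`, `x ^ 2 ≠ 1` has order three. -/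
theorem orderOf_eq_three (hord : ∀ g : G, 1 ≤ orderOf g ∧ orderOf g ≤ 3) {x : G} (h1 : x ≠ 1)
    (h2 : x ^ 2 ≠ 1) : orderOf x = 3 := by
  obtain ⟨ha, hb⟩ := hord x
  have : orderOf x = 1 ∨ orderOf x = 2 ∨ orderOf x = 3 := by omega
  rcases this with h | h | h
  · exact absurd (orderOf_eq_one_iff.1 h) h1
  · exact absurd (by rw [← h, pow_orderOf_eq_one]) h2
  · exact h

/-- A non-trivial element with trivial square has order two. -/
theorem orderOf_eq_two {x : G} (h1 : x ≠ 1) (h2 : x ^ 2 = 1) : orderOf x = 2 :=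
  orderOf_eq_prime h2 h1

theorem inv_eq_self_of_sq {x : G} (h : x ^ 2 = 1) : x⁻¹ = x :=
  inv_eq_of_mul_eq_one_left (by rw [← pow_two]; exact h)

/-- Two involutions commute iff their product squares to one. -/
theorem commute_of_mul_sq {s t : G} (hs : s ^ 2 = 1) (ht : t ^ 2 = 1) (h : (s * t) ^ 2 = 1) :
    Commute s t := by
  have h1 : (s * t)⁻¹ = s * t := inv_eq_self_of_sq h
  rw [mul_inv_rev, inv_eq_self_of_sq hs, inv_eq_self_of_sq ht] at h1
  exact h1.symm

end basics

section caseA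

variable {G : Type*} [Group G]

/-- Key lemma of case A: an involution `t` which fails to commute with some involution `s` commutes with no
involution other than itself. -/
theorem caseA_key (hord : ∀ g : G, 1 ≤ orderOf g ∧ orderOf g ≤ 3) {s t a : G}
    (hs : s ^ 2 = 1) (ht : t ^ 2 = 1) (hst : ¬ Commute s t)
    (ha : a ^ 2 = 1) (ha1 : a ≠ 1) (hat : a ≠ t) (hcomm : Commute a t) : False := by
  have hsi := inv_eq_self_of_sq hs
  have hti := inv_eq_self_of_sq ht
  have hai := inv_eq_self_of_sq ha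
  obtain ⟨x, hx⟩ : ∃ x : G, x = s * t := ⟨_, rfl⟩
  have hx2 : x ^ 2 ≠ 1 := fun h => hst (commute_of_mul_sq hs ht (hx ▸ h))
  have hx1 : x ≠ 1 := fun h => hx2 (by rw [h, one_pow])
  have hxo : orderOf x = 3 := orderOf_eq_three hord hx1 hx2
  have hx3 : x ^ 3 = 1 := by rw [← hxo, pow_orderOf_eq_one]
  have hxinv : x⁻¹ = t * s := by rw [hx, mul_inv_rev, hsi, hti]
  have htx : t * x * t⁻¹ = x⁻¹ := by
    rw [hxinv, hx, hti, mul_assoc, mul_assoc, ← pow_two, ht, mul_one]
  by_cases hax : a * x * a⁻¹ = x⁻¹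
  · -- a t is an involution commuting with x
    have hb2 : (a * t) ^ 2 = 1 := by rw [hcomm.mul_pow, ha, ht, one_mul]
    have hb1 : a * t ≠ 1 := by
      intro h
      have : a = t⁻¹ := eq_inv_of_mul_eq_one_left h
      exact hat (this.trans hti)
    have hbx : Commute x (a * t) := by
      have h1 : (a * t) * x * (a * t)⁻¹ = x := by
        calc (a * t) * x * (a * t)⁻¹ = a * (t * x * t⁻¹) * a⁻¹ := by group
          _ = a * x⁻¹ * a⁻¹ := by rw [htx]
          _ = (a * x * a⁻¹)⁻¹ := by group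
          _ = x := by rw [hax, inv_inv]
      exact (mul_inv_eq_iff_eq_mul.1 h1).symm
    exact no_six hord hxo (orderOf_eq_two hb1 hb2) hbx
  · -- a x and a x⁻¹ have order three
    have hax2 : (a * x) ^ 2 ≠ 1 := by
      intro h
      apply hax
      have h1 : (a * x)⁻¹ = a * x := inv_eq_self_of_sq h
      rw [mul_inv_rev, hai] at h1
      -- x⁻¹ * a = a * x
      calc a * x * a⁻¹ = (x⁻¹ * a) * a⁻¹ := by rw [h1]
        _ = x⁻¹ := by group
    have hax1 : a * x ≠ 1 := by
      intro h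
      apply hx2
      have : x = a⁻¹ := eq_inv_of_mul_eq_one_right h
      rw [this, inv_pow, ha, inv_one]
    have haxi2 : (a * x⁻¹) ^ 2 ≠ 1 := by
      intro h
      apply hax
      have h1 : (a * x⁻¹)⁻¹ = a * x⁻¹ := inv_eq_self_of_sq h
      rw [mul_inv_rev, hai, inv_inv] at h1
      -- x * a = a * x⁻¹
      calc a * x * a⁻¹ = a * (x * a) * (a⁻¹ * a⁻¹) := by group
        _ = a * (a * x⁻¹) * (a⁻¹ * a⁻¹) := by rw [h1]
        _ = (a * a) * x⁻¹ * (a * a)⁻¹ := by group
        _ = x⁻¹ := by rw [← pow_two, ha]; group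
    have haxi1 : a * x⁻¹ ≠ 1 := by
      intro h
      apply hx2
      have : x⁻¹ = a⁻¹ := eq_inv_of_mul_eq_one_right h
      rw [inv_inj] at this
      rw [this, ha]
    have h3 : (a * x) ^ 3 = 1 := by
      rw [← orderOf_eq_three hord hax1 hax2, pow_orderOf_eq_one]
    have h3' : (a * x⁻¹) ^ 3 = 1 := by
      rw [← orderOf_eq_three hord haxi1 haxi2, pow_orderOf_eq_one]
    obtain ⟨a1, ha1d⟩ : ∃ a1 : G, a1 = x * a * x⁻¹ := ⟨_, rfl⟩
    obtain ⟨a2, ha2d⟩ : ∃ a2 : G, a2 = x⁻¹ * a * x := ⟨_, rfl⟩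
    -- a * a1 * a2 = 1 and a * a2 * a1 = 1
    have hxx : x * x = x⁻¹ := by
      have : x * x * x = 1 := by rw [← hx3]; simp [pow_succ]
      exact eq_inv_of_mul_eq_one_left this
    have e1 : a * a1 * a2 = 1 := by
      have : (a * x) ^ 3 = a * (x * a * x⁻¹) * (x * x * a * (x * x)⁻¹) * (x ^ 3) := by
        simp only [pow_succ, pow_zero, one_mul]; group
      rw [this, hx3, mul_one, hxx, inv_inv] at h3
      rw [ha1d, ha2d]; exact h3
    have hxixi : x⁻¹ * x⁻¹ = x := by
      rw [← mul_inv_rev, hxx, inv_inv]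
    have e2 : a * a2 * a1 = 1 := by
      have : (a * x⁻¹) ^ 3 = a * (x⁻¹ * a * x) * (x⁻¹ * x⁻¹ * a * (x⁻¹ * x⁻¹)⁻¹) * (x ^ 3)⁻¹ := by
        simp only [pow_succ, pow_zero, one_mul]; group
      rw [this, hx3, inv_one, mul_one, hxixi] at h3'
      rw [ha1d, ha2d]; exact h3'
    -- u = t * a1 has u^2 = a
    have hta : t * a * t⁻¹ = a := by
      rw [← hcomm.eq, mul_inv_cancel_right]
    have hta1 : t * a1 * t⁻¹ = a2 := by
      calc t * a1 * t⁻¹ = (t * x * t⁻¹) * (t * a * t⁻¹) * (t * x * t⁻¹)⁻¹ := by rw [ha1d]; group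
        _ = a2 := by rw [htx, hta, inv_inv, ha2d]
    have hu2 : (t * a1) ^ 2 = a := by
      have h21 : a2 * a1 = a := by
        have : a2 * a1 = a⁻¹ := by
          have h := e2
          rw [mul_assoc] at h
          exact eq_inv_of_mul_eq_one_right h
        rw [this, hai]
      calc (t * a1) ^ 2 = (t * a1 * t⁻¹) * (t * t) * a1 := by rw [pow_two]; group
        _ = a2 * a1 := by rw [hta1, ← pow_two, ht, mul_one]
        _ = a := h21
    have hu2' : (t * a1) ^ 2 ≠ 1 := by rw [hu2]; exact ha1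
    have hu1 : t * a1 ≠ 1 := fun h => hu2' (by rw [h, one_pow])
    have hu3 : (t * a1) ^ 3 = 1 := by
      rw [← orderOf_eq_three hord hu1 hu2', pow_orderOf_eq_one]
    have hu4 : (t * a1) ^ 4 = 1 := by
      have : (t * a1) ^ 4 = ((t * a1) ^ 2) ^ 2 := by rw [← pow_mul]
      rw [this, hu2, ha]
    apply hu1
    calc t * a1 = (t * a1) ^ 4 * ((t * a1) ^ 3)⁻¹ := by group
      _ = 1 := by rw [hu4, hu3, inv_one, mul_one]

/-- Case A: if two involutions do not commute, there is a normal elementary abelian `3`-subgroup of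
index `2`. -/
theorem caseA [Finite G] (hord : ∀ g : G, 1 ≤ orderOf g ∧ orderOf g ≤ 3) {s t : G}
    (hs : s ^ 2 = 1) (ht : t ^ 2 = 1) (hst : ¬ Commute s t) :
    ∃ N : Subgroup G, N.Normal ∧ Cfsg.IsElementaryAbelian 3 N ∧ N.index = 2 := by
  have : Fact (Nat.Prime 2) := ⟨Nat.prime_two⟩
  have ht1 : t ≠ 1 := by
    rintro rfl; exact hst (Commute.one_right s)
  have hto : orderOf t = 2 := orderOf_eq_two ht1 ht
  -- a Sylow 2-subgroup containing t
  have hZ : IsPGroup 2 (Subgroup.zpowers t) := by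
    apply IsPGroup.of_card (n := 1)
    rw [Nat.card_zpowers, hto, pow_one]
  obtain ⟨P, hP⟩ := hZ.exists_le_sylow
  have htP : t ∈ (P : Subgroup G) := hP (Subgroup.mem_zpowers t)
  -- elements of P square to one
  have hPsq : ∀ g : G, g ∈ (P : Subgroup G) → g ^ 2 = 1 := by
    intro g hg
    obtain ⟨k, hk⟩ := (IsPGroup.iff_orderOf.1 P.2) ⟨g, hg⟩
    rw [Subgroup.orderOf_mk] at hk
    have h3 := (hord g).2
    rw [hk] at h3
    have hk1 : k ≤ 1 := by
      by_contra hk1
      push Not at hk1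
      have : 2 ^ 2 ≤ 2 ^ k := Nat.pow_le_pow_right (by norm_num) hk1
      omega
    have : orderOf g ∣ 2 := by
      rw [hk]; exact (pow_dvd_pow 2 hk1).trans (by norm_num)
    exact orderOf_dvd_iff_pow_eq_one.1 this
  -- P = {1, t}
  have hPelts : ∀ g : G, g ∈ (P : Subgroup G) → g = 1 ∨ g = t := by
    intro g hg
    by_cases hg1 : g = 1
    · exact Or.inl hg1
    · right
      by_contra hgt
      have hgsq := hPsq g hg
      have hcomm : Commute g t :=
        commute_of_mul_sq hgsq ht (hPsq _ ((P : Subgroup G).mul_mem hg htP))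
      exact caseA_key hord hs ht hst hgsq hg1 hgt hcomm
  -- N(P) ≤ C(P)
  have hNC : Subgroup.normalizer ((P : Subgroup G) : Set G) ≤ Subgroup.centralizer ((P : Subgroup G) : Set G) := by
    intro n hn
    rw [Subgroup.mem_centralizer_iff]
    intro h hh
    rcases hPelts h hh with rfl | rfl
    · simp
    · have h1 : n * h * n⁻¹ ∈ (P : Subgroup G) := (Subgroup.mem_normalizer_iff.1 hn h).1 hh
      rcases hPelts _ h1 with h2 | h2
      · exfalso
        apply ht1
        have : h = n⁻¹ * (n * h * n⁻¹) * n := by group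
        rw [this, h2]; group
      · exact (mul_inv_eq_iff_eq_mul.1 h2).symm
  set K := (MonoidHom.transferSylow P hNC).ker with hK
  have hcompl : Subgroup.IsComplement' K (P : Subgroup G) := MonoidHom.ker_transferSylow_isComplement' P hNC
  have hKodd : ¬ 2 ∣ Nat.card K := MonoidHom.not_dvd_card_ker_transferSylow P hNC
  have hKn : K.Normal := MonoidHom.normal_ker _
  -- |P| = 2
  have hcardP : Nat.card (P : Subgroup G) = 2 := by
    rw [Nat.card_eq_two_iff]
    refine ⟨1, ⟨t, htP⟩, ?_, ?_⟩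
    · intro h
      exact ht1 (congrArg Subtype.val h).symm
    · ext ⟨g, hg⟩
      simp only [Set.mem_insert_iff, Set.mem_singleton_iff, Set.mem_univ, iff_true]
      rcases hPelts g hg with h | h
      · left; exact Subtype.ext h
      · right; exact Subtype.ext h
  have hKidx : K.index = 2 := by
    rw [hcompl.symm.index_eq_card, hcardP]
  -- elements of K have cube one
  have hKcube : ∀ k : G, k ∈ K → k ^ 3 = 1 := by
    intro k hk
    rcases sq_or_cube_eq_one hord k with h | h
    · by_cases hk1 : k = 1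
      · rw [hk1, one_pow]
      · exfalso
        apply hKodd
        have h2 : orderOf (⟨k, hk⟩ : K) = 2 := by
          rw [Subgroup.orderOf_mk]; exact orderOf_eq_two hk1 h
        rw [← h2]
        exact orderOf_dvd_natCard _
    · exact h
  -- K is commutative, via the fixed-point-free involution induced by t
  have hfpf : MonoidHom.FixedPointFree (MulAut.conjNormal t : MulAut K) := by
    intro k hk
    by_contra hk1
    have hk' : t * (k : G) * t⁻¹ = k := by
      have := congrArg Subtype.val hk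
      rwa [MulAut.conjNormal_apply] at this
    have hkG1 : (k : G) ≠ 1 := fun h => hk1 (Subtype.ext h)
    have hk2 : (k : G) ^ 2 ≠ 1 := by
      intro h2
      apply hkG1
      have h3 := hKcube k k.2
      calc (k : G) = (k : G) ^ 3 * ((k : G) ^ 2)⁻¹ := by group
        _ = 1 := by rw [h3, h2, inv_one, mul_one]
    have hko : orderOf (k : G) = 3 := orderOf_eq_three hord hkG1 hk2
    have hcomm : Commute (k : G) t := (mul_inv_eq_iff_eq_mul.1 hk').symm
    exact no_six hord hko hto hcomm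
  have hinvol : Function.Involutive (MulAut.conjNormal t : MulAut K) := by
    intro k
    apply Subtype.ext
    rw [MulAut.conjNormal_apply, MulAut.conjNormal_apply]
    calc t * (t * (k : G) * t⁻¹) * t⁻¹ = (t * t) * k * (t * t)⁻¹ := by group
      _ = k := by rw [← pow_two, ht]; group
  refine ⟨K, hKn, ⟨⟨⟨fun a b => (hfpf.commute_all_of_involutive hinvol a b).eq⟩⟩, hKcube⟩, hKidx⟩

end caseA

section caseB

variable {G : Type*} [Group G]

/-- The set of elements with trivial square; a subgroup when all such elements commute. -/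
def sqSubgroup (hinv : ∀ s t : G, s ^ 2 = 1 → t ^ 2 = 1 → Commute s t) : Subgroup G where
  carrier := {g | g ^ 2 = 1}
  one_mem' := one_pow 2
  mul_mem' := fun {a b} ha hb => by
    have ha' : a ^ 2 = 1 := ha
    have hb' : b ^ 2 = 1 := hb
    show (a * b) ^ 2 = 1
    rw [(hinv a b ha' hb').mul_pow, ha', hb', one_mul]
  inv_mem' := fun {a} ha => by
    have ha' : a ^ 2 = 1 := ha
    show a⁻¹ ^ 2 = 1
    rw [inv_pow, ha', inv_one]

theorem mem_sqSubgroup (hinv : ∀ s t : G, s ^ 2 = 1 → t ^ 2 = 1 → Commute s t) (g : G) :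
    g ∈ sqSubgroup hinv ↔ g ^ 2 = 1 := Iff.rfl

instance sqSubgroup_normal (hinv : ∀ s t : G, s ^ 2 = 1 → t ^ 2 = 1 → Commute s t) :
    (sqSubgroup hinv).Normal := by
  constructor
  intro n hn g
  rw [mem_sqSubgroup] at hn ⊢
  rw [conj_pow, hn]; group

instance sqSubgroup_comm (hinv : ∀ s t : G, s ^ 2 = 1 → t ^ 2 = 1 → Commute s t) :
    IsMulCommutative (sqSubgroup hinv) :=
  ⟨⟨fun a b => Subtype.ext (hinv a b a.2 b.2).eq⟩⟩

/-- For `c` of order three and `u` in the subgroup `T` of involutions, the "norm" `u · uᶜ · uᶜᶜ` is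
trivial. -/
theorem norm_eq_one (hord : ∀ g : G, 1 ≤ orderOf g ∧ orderOf g ≤ 3)
    (hinv : ∀ s t : G, s ^ 2 = 1 → t ^ 2 = 1 → Commute s t) {c : G} (hc : orderOf c = 3)
    (u : sqSubgroup hinv) :
    u * (MulAut.conjNormal c u) * (MulAut.conjNormal c (MulAut.conjNormal c u)) = 1 := by
  open scoped IsMulCommutative in
  set γ : MulAut (sqSubgroup hinv) := MulAut.conjNormal c with hγ
  have hc3 : c ^ 3 = 1 := by rw [← hc, pow_orderOf_eq_one]
  have hγ3 : γ (γ (γ u)) = u := by
    apply Subtype.ext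
    rw [hγ, MulAut.conjNormal_apply, MulAut.conjNormal_apply, MulAut.conjNormal_apply]
    have hccc : c * c * c = 1 := by rw [← hc3]; simp [pow_succ]
    calc c * (c * (c * (u : G) * c⁻¹) * c⁻¹) * c⁻¹ = (c * c * c) * u * (c * c * c)⁻¹ := by group
      _ = u := by rw [hccc]; group
  set w := u * γ u * γ (γ u) with hw
  have hγw : γ w = w := by
    rw [hw, map_mul, map_mul, hγ3]
    rw [mul_comm (γ u * γ (γ u)) u, mul_assoc]
  by_contra hw1
  have hwG : (w : G) ≠ 1 := fun h => hw1 (Subtype.ext h)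
  have hw2 : (w : G) ^ 2 = 1 := w.2
  have hcomm : Commute c (w : G) := by
    have := congrArg Subtype.val hγw
    rw [hγ, MulAut.conjNormal_apply] at this
    exact mul_inv_eq_iff_eq_mul.1 this
  exact no_six hord hc (orderOf_eq_two hwG hw2) hcomm

/-- If `a`, `b` are commuting elements of order three generating a group of order nine, then the
subgroup of involutions is trivial. -/
theorem sqSubgroup_trivial_of_rank_two (hord : ∀ g : G, 1 ≤ orderOf g ∧ orderOf g ≤ 3)
    (hinv : ∀ s t : G, s ^ 2 = 1 → t ^ 2 = 1 → Commute s t) {a b : G} (hab : Commute a b)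
    (ha : orderOf a = 3) (hb : orderOf b = 3) (h1 : a * b ≠ 1) (h2 : a * b ^ 2 ≠ 1)
    (v : sqSubgroup hinv) : v = 1 := by
  open scoped IsMulCommutative in
  have ha3 : a ^ 3 = 1 := by rw [← ha, pow_orderOf_eq_one]
  have hb3 : b ^ 3 = 1 := by rw [← hb, pow_orderOf_eq_one]
  have hab3 : orderOf (a * b) = 3 := by
    have : Fact (Nat.Prime 3) := ⟨Nat.prime_three⟩
    exact orderOf_eq_prime (by rw [hab.mul_pow, ha3, hb3, one_mul]) h1
  have hab23 : orderOf (a * b ^ 2) = 3 := by
    have : Fact (Nat.Prime 3) := ⟨Nat.prime_three⟩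
    refine orderOf_eq_prime ?_ h2
    rw [(hab.pow_right 2).mul_pow, ha3, ← pow_mul, mul_comm, pow_mul, hb3, one_pow, one_mul]
  set α : MulAut (sqSubgroup hinv) := MulAut.conjNormal a with hα
  set β : MulAut (sqSubgroup hinv) := MulAut.conjNormal b with hβ
  have hαβ : ∀ u, β (α u) = α (β u) := by
    intro u
    have : β * α = α * β := by rw [hα, hβ, ← map_mul, ← map_mul, hab.eq]
    exact DFunLike.congr_fun this u
  have hβ3 : ∀ u, β (β (β u)) = u := by
    intro u
    have : β * β * β = 1 := by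
      rw [hβ, ← map_mul, ← map_mul, ← pow_two, ← pow_succ, hb3, map_one]
    exact DFunLike.congr_fun this u
  have hmul : ∀ u, (MulAut.conjNormal (a * b) : MulAut (sqSubgroup hinv)) u = α (β u) := by
    intro u; rw [map_mul]; rfl
  have hmul2 : ∀ u, (MulAut.conjNormal (a * b ^ 2) : MulAut (sqSubgroup hinv)) u = α (β (β u)) := by
    intro u; rw [map_mul, pow_two, map_mul]; rfl
  have e1 := norm_eq_one hord hinv ha v
  have e2 := norm_eq_one hord hinv ha (β v)
  have e3 := norm_eq_one hord hinv ha (β (β v))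
  have e4 := norm_eq_one hord hinv hb v
  have e5 := norm_eq_one hord hinv hab3 v
  have e6 := norm_eq_one hord hinv hab23 v
  rw [← hα] at e1 e2 e3
  rw [← hβ] at e4
  rw [hmul, hmul] at e5
  rw [hmul2, hmul2] at e6
  -- normalize: push β inside
  have e5' : v * α (β v) * α (α (β (β v))) = 1 := by
    rw [hαβ (β v)] at e5; exact e5
  have e6' : v * α (β (β v)) * α (α (β v)) = 1 := by
    have : α (β (β (α (β (β v))))) = α (α (β v)) := by
      rw [hαβ (β (β v)), hαβ (β (β (β v))), hβ3]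
    rw [this] at e6; exact e6
  -- name the nine elements
  obtain ⟨t10, h10⟩ : ∃ t, t = α v := ⟨_, rfl⟩
  obtain ⟨t20, h20⟩ : ∃ t, t = α (α v) := ⟨_, rfl⟩
  obtain ⟨t01, h01⟩ : ∃ t, t = β v := ⟨_, rfl⟩
  obtain ⟨t11, h11⟩ : ∃ t, t = α (β v) := ⟨_, rfl⟩
  obtain ⟨t21, h21⟩ : ∃ t, t = α (α (β v)) := ⟨_, rfl⟩
  obtain ⟨t02, h02⟩ : ∃ t, t = β (β v) := ⟨_, rfl⟩
  obtain ⟨t12, h12⟩ : ∃ t, t = α (β (β v)) := ⟨_, rfl⟩
  obtain ⟨t22, h22⟩ : ∃ t, t = α (α (β (β v))) := ⟨_, rfl⟩
  rw [← h20, ← h10] at e1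
  rw [← h21, ← h11, ← h01] at e2
  rw [← h22, ← h12, ← h02] at e3
  rw [← h02, ← h01] at e4
  rw [← h22, ← h11] at e5'
  rw [← h21, ← h12] at e6'
  have hv3 : v ^ 3 = 1 := by
    calc v ^ 3 = v ^ 3 * ((v * t10 * t20) * (t01 * t11 * t21) * (t02 * t12 * t22)) := by
          rw [e1, e2, e3]; simp
      _ = (v * t10 * t20) * (v * t01 * t02) * (v * t11 * t22) * (v * t12 * t21) := by
          simp only [pow_succ, pow_zero, one_mul]; ac_rfl
      _ = 1 := by rw [e1, e4, e5', e6']; simp
  have hv2 : v ^ 2 = 1 := Subtype.ext v.2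
  calc v = v ^ 3 * (v ^ 2)⁻¹ := by group
    _ = 1 := by rw [hv3, hv2]; simp

/-- Case B: if all involutions commute, there is a normal elementary abelian `2`-subgroup of index
`3`. -/
theorem caseB [Finite G] (hord : ∀ g : G, 1 ≤ orderOf g ∧ orderOf g ≤ 3)
    (hinv : ∀ s t : G, s ^ 2 = 1 → t ^ 2 = 1 → Commute s t) {t x : G} (ht : orderOf t = 2)
    (hx : orderOf x = 3) :
    ∃ N : Subgroup G, N.Normal ∧ Cfsg.IsElementaryAbelian 2 N ∧ N.index = 3 := by
  have : Fact (Nat.Prime 3) := ⟨Nat.prime_three⟩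
  set T := sqSubgroup hinv with hT
  refine ⟨T, inferInstance, ⟨inferInstance, fun a ha => ha⟩, ?_⟩
  have ht2 : t ^ 2 = 1 := by rw [← ht, pow_orderOf_eq_one]
  have ht1 : t ≠ 1 := by
    rintro rfl; rw [orderOf_one] at ht; exact absurd ht (by decide)
  -- G ⧸ T is a 3-group
  have hq3 : ∀ q : G ⧸ T, q ^ 3 = 1 := by
    intro q
    obtain ⟨g, rfl⟩ := QuotientGroup.mk_surjective q
    rw [← QuotientGroup.mk_pow, QuotientGroup.eq_one_iff]
    rcases sq_or_cube_eq_one hord g with h | h
    · have : g ^ 3 = g := by rw [pow_succ, h, one_mul]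
      rw [this]; exact h
    · rw [h]; exact T.one_mem
  have hQ3 : IsPGroup 3 (G ⧸ T) := fun q => ⟨1, by rw [pow_one]; exact hq3 q⟩
  obtain ⟨c, hc⟩ := hQ3.exists_card_eq
  rw [← Subgroup.index_eq_card] at hc
  -- c ≠ 0
  have hc0 : c ≠ 0 := by
    rintro rfl
    rw [pow_zero, Subgroup.index_eq_one] at hc
    have hxT : x ∈ T := hc ▸ Subgroup.mem_top x
    have hx2 : x ^ 2 = 1 := hxT
    have : orderOf x ∣ 2 := orderOf_dvd_of_pow_eq_one hx2
    rw [hx] at this
    exact absurd this (by decide)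
  -- c < 2
  have hc2 : c < 2 := by
    by_contra hc2
    push Not at hc2
    have h9 : 3 ^ 2 ∣ Nat.card G := by
      rw [← Subgroup.card_mul_index T, hc]
      exact Dvd.dvd.mul_left (pow_dvd_pow 3 hc2) _
    obtain ⟨Q⟩ : Nonempty (Sylow 3 G) := inferInstance
    have h9Q : 3 ^ 2 ∣ Nat.card Q := Q.pow_dvd_card_of_pow_dvd_card h9
    have hcardQ : 9 ≤ Nat.card Q := Nat.le_of_dvd Nat.card_pos h9Q
    -- elements of Q have cube one
    have hQcube : ∀ g : G, g ∈ (Q : Subgroup G) → g ^ 3 = 1 := by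
      intro g hg
      obtain ⟨k, hk⟩ := (IsPGroup.iff_orderOf.1 Q.2) ⟨g, hg⟩
      rw [Subgroup.orderOf_mk] at hk
      have h3 := (hord g).2
      rw [hk] at h3
      have hk1 : k ≤ 1 := by
        by_contra hk1
        push Not at hk1
        have : 3 ^ 2 ≤ 3 ^ k := Nat.pow_le_pow_right (by norm_num) hk1
        omega
      have : orderOf g ∣ 3 := by
        rw [hk]; exact (pow_dvd_pow 3 hk1).trans (by norm_num)
      exact orderOf_dvd_iff_pow_eq_one.1 this
    have hQord : ∀ g : G, g ∈ (Q : Subgroup G) → g ≠ 1 → orderOf g = 3 :=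
      fun g hg hg1 => orderOf_eq_prime (hQcube g hg) hg1
    have hnt : Nontrivial (Q : Subgroup G) := by
      rw [← Finite.one_lt_card_iff_nontrivial]; omega
    have hcn : Nontrivial (Subgroup.center (Q : Subgroup G)) := IsPGroup.center_nontrivial Q.2
    obtain ⟨z, hz⟩ := exists_ne (1 : Subgroup.center (Q : Subgroup G))
    obtain ⟨zQ, hzQ⟩ : ∃ zQ : (Q : Subgroup G), zQ = (z : (Q : Subgroup G)) := ⟨_, rfl⟩
    have hzQ1 : zQ ≠ 1 := fun h => hz (Subtype.ext (hzQ ▸ h))
    have hzG1 : (zQ : G) ≠ 1 := fun h => hzQ1 (Subtype.ext h)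
    have ha : orderOf (zQ : G) = 3 := hQord _ zQ.2 hzG1
    have hZcard : Nat.card (Subgroup.zpowers zQ) = 3 := by
      rw [Nat.card_zpowers, ← Subgroup.orderOf_coe, ha]
    have hne_top : Subgroup.zpowers zQ ≠ ⊤ := by
      intro h
      rw [h, Subgroup.card_top] at hZcard
      omega
    obtain ⟨y, hy⟩ : ∃ y : (Q : Subgroup G), y ∉ Subgroup.zpowers zQ := by
      by_contra hcon
      push Not at hcon
      exact hne_top ((Subgroup.eq_top_iff' _).2 hcon)
    have hy1 : y ≠ 1 := by
      rintro rfl; exact hy (Subgroup.one_mem _)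
    have hyG1 : (y : G) ≠ 1 := fun h => hy1 (Subtype.ext h)
    have hb : orderOf (y : G) = 3 := hQord _ y.2 hyG1
    have hab : Commute (zQ : G) (y : G) := by
      have h1 : y * zQ = zQ * y := by
        rw [hzQ]; exact Subgroup.mem_center_iff.1 z.2 y
      exact (congrArg Subtype.val h1).symm
    have h1 : (zQ : G) * (y : G) ≠ 1 := by
      intro h
      apply hy
      have : y = zQ⁻¹ := by
        apply Subtype.ext
        rw [Subgroup.coe_inv]
        exact eq_inv_of_mul_eq_one_right h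
      rw [this]
      exact Subgroup.inv_mem _ (Subgroup.mem_zpowers zQ)
    have h2 : (zQ : G) * (y : G) ^ 2 ≠ 1 := by
      intro h
      apply hy
      have hy3 : (y : G) ^ 3 = 1 := hQcube _ y.2
      have hy2 : (y : G) ^ 2 = (y : G)⁻¹ := by
        apply eq_inv_of_mul_eq_one_left
        rw [← pow_succ]; exact hy3
      rw [hy2] at h
      have : y = zQ := by
        apply Subtype.ext
        exact (mul_inv_eq_one.1 h).symm
      rw [this]
      exact Subgroup.mem_zpowers zQ
    have htriv := sqSubgroup_trivial_of_rank_two hord hinv hab ha hb h1 h2 ⟨t, ht2⟩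
    exact ht1 (congrArg Subtype.val htriv)
  have hc1 : c = 1 := by omega
  rw [hc, hc1, pow_one]

end caseB

/-- A finite group whose set of element orders is exactly {1, 2, 3} has either a normal elementary abelian 3-subgroup of index 2 or a normal elementary abelian 2-subgroup of index 3. -/
theorem result {G : Type*} [Group G] [Finite G] (h : Set.range (orderOf : G → ℕ) = {k : ℕ | 1 ≤ k ∧ k ≤ 3}) :
    (∃ N : Subgroup G, N.Normal ∧ Cfsg.IsElementaryAbelian 3 N ∧ N.index = 2) ∨
      (∃ N : Subgroup G, N.Normal ∧ Cfsg.IsElementaryAbelian 2 N ∧ N.index = 3) := by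
  have hord : ∀ g : G, 1 ≤ orderOf g ∧ orderOf g ≤ 3 := by
    intro g
    have : orderOf g ∈ Set.range (orderOf : G → ℕ) := ⟨g, rfl⟩
    rw [h] at this
    exact this
  obtain ⟨t, ht⟩ : ∃ t : G, orderOf t = 2 := by
    have : (2 : ℕ) ∈ Set.range (orderOf : G → ℕ) := by rw [h]; exact ⟨by norm_num, by norm_num⟩
    exact this
  obtain ⟨x, hx⟩ : ∃ x : G, orderOf x = 3 := by
    have : (3 : ℕ) ∈ Set.range (orderOf : G → ℕ) := by rw [h]; exact ⟨by norm_num, by norm_num⟩
    exact this
  by_cases hinv : ∀ s t : G, s ^ 2 = 1 → t ^ 2 = 1 → Commute s t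
  · exact Or.inr (caseB hord hinv ht hx)
  · push Not at hinv
    obtain ⟨s, t', hs, ht', hst⟩ := hinv
    exact Or.inl (caseA hord hs ht' hst)

end Cfsg.Agent.S4005
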