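-- S4006 (helper66): groups with element orders exactly {1,2,3,4}.
-- Burnside + S3857 (Frobenius or 2-Frobenius), Neumann/Levi (class <= 2), S_3-lemma.
import Cfsg.Statements.S4006
import Cfsg.Agent.S0144
import Cfsg.Agent.S3857
import Cfsg.Agent.S4001
import Cfsg.Agent.Lib.Helper35.FrobStructure
import Cfsg.Agent.Lib.Helper66.Neumann

set_option autoImplicit false
open Cfsg
open scoped Pointwise

namespace Cfsg.Agent.S4006


section numbers

theorem pow_two_of_dvd {a b n : ℕ} (h : n ∣ 2 ^ a * 3 ^ b) (h3 : ¬ 3 ∣ n) : ∃ k, n = 2 ^ k := by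
  have hc : Nat.Coprime n (3 ^ b) :=
    Nat.Coprime.pow_right b ((Nat.Prime.coprime_iff_not_dvd Nat.prime_three).2 h3).symm
  have : n ∣ 2 ^ a := hc.dvd_of_dvd_mul_right h
  obtain ⟨k, -, hk⟩ := (Nat.dvd_prime_pow Nat.prime_two).1 this
  exact ⟨k, hk⟩

theorem pow_three_of_dvd {a b n : ℕ} (h : n ∣ 2 ^ a * 3 ^ b) (h2 : ¬ 2 ∣ n) : ∃ k, n = 3 ^ k := by
  have hc : Nat.Coprime n (2 ^ a) :=
    Nat.Coprime.pow_right a ((Nat.Prime.coprime_iff_not_dvd Nat.prime_two).2 h2).symm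
  have : n ∣ 3 ^ b := hc.dvd_of_dvd_mul_left h
  obtain ⟨k, -, hk⟩ := (Nat.dvd_prime_pow Nat.prime_three).1 this
  exact ⟨k, hk⟩

theorem exists_two_three (n : ℕ) (hn : n ≠ 0) (hp : ∀ p, p.Prime → p ∣ n → p = 2 ∨ p = 3) :
    ∃ a b, n = 2 ^ a * 3 ^ b := by
  obtain ⟨a, m, hm2, hnm⟩ := Nat.exists_eq_pow_mul_and_not_dvd hn 2 (by norm_num)
  have hm0 : m ≠ 0 := by rintro rfl; simp at hnm; exact hn hnm
  obtain ⟨b, m', hm3, hmm⟩ := Nat.exists_eq_pow_mul_and_not_dvd hm0 3 (by norm_num)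
  have hm1 : m' = 1 := by
    by_contra hne
    obtain ⟨p, hpp, hpd⟩ := Nat.exists_prime_and_dvd hne
    have hpm : p ∣ m := by rw [hmm]; exact Dvd.dvd.mul_left hpd _
    have hpn : p ∣ n := by rw [hnm]; exact Dvd.dvd.mul_left hpm _
    rcases hp p hpp hpn with rfl | rfl
    · exact hm2 hpm
    · exact hm3 hpd
  refine ⟨a, b, ?_⟩
  rw [hnm, hmm, hm1, mul_one]

end numbers

section perm3

variable {Q : Type*} [Group Q] [Finite Q]

omit [Finite Q] in
theorem mem_conj_smul_iff' {D : Subgroup Q} {g x : Q} :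
    x ∈ MulAut.conj g • D ↔ g⁻¹ * x * g ∈ D := by
  rw [Subgroup.mem_pointwise_smul_iff_inv_smul_mem]
  simp [MulAut.smul_def]

/-- a group of order 6 with a Frobenius complement of order 2 is `S_3` -/
theorem perm3_of_frobenius (D : Subgroup Q) (hD : IsFrobeniusComplement D)
    (hcard : Nat.card Q = 6) (hD2 : Nat.card D = 2) : Nonempty (Q ≃* Equiv.Perm (Fin 3)) := by
  classical
  have hidx : D.index = 3 := by
    have := D.card_mul_index
    rw [hcard, hD2] at this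
    omega
  let φ := MulAction.toPermHom Q (Q ⧸ D)
  have hker : φ.ker = ⊥ := by
    rw [← Subgroup.normalCore_eq_ker, eq_bot_iff]
    intro x hx
    obtain ⟨g, hg⟩ : ∃ g : Q, g ∉ D := by
      by_contra hcon
      exact hD.2.1 (eq_top_iff.2 fun g _ => by
        by_contra hg
        exact hcon ⟨g, hg⟩)
    have h1 : x ∈ D := by simpa using hx 1
    have h2 : x ∈ MulAut.conj g • D := by
      rw [mem_conj_smul_iff']
      have := hx g⁻¹
      simpa using this
    have := hD.2.2 g hg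
    rw [← this]
    exact ⟨h1, h2⟩
  have hinj : Function.Injective φ := (MonoidHom.ker_eq_bot_iff φ).1 hker
  have hc3 : Nat.card (Q ⧸ D) = 3 := hidx
  have e3 : (Q ⧸ D) ≃ Fin 3 := Finite.equivFinOfCardEq hc3
  have hcardP : Nat.card (Equiv.Perm (Q ⧸ D)) = 6 := by
    rw [Nat.card_congr (Equiv.permCongr e3), Nat.card_eq_fintype_card, Fintype.card_perm]
    simp [Nat.factorial]
  have hbij : Function.Bijective φ :=
    (Nat.bijective_iff_injective_and_card φ).2 ⟨hinj, by rw [hcard, hcardP]⟩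
  exact ⟨(MulEquiv.ofBijective φ hbij).trans (Equiv.permCongrHom e3)⟩

end perm3



section cosets

variable {G : Type*} [Group G]

theorem pow_mem_of_mul_pow {N : Subgroup G} [N.Normal] {c n : G} (hn : n ∈ N) (m : ℕ)
    (h : (c * n) ^ m = 1) : c ^ m ∈ N := by
  have h1 : ((c * n : G) : G ⧸ N) = (c : G ⧸ N) := by
    rw [QuotientGroup.mk_mul, (QuotientGroup.eq_one_iff n).2 hn, mul_one]
  have h2 : ((c ^ m : G) : G ⧸ N) = 1 := by
    rw [QuotientGroup.mk_pow, ← h1, ← QuotientGroup.mk_pow, h, QuotientGroup.mk_one]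
  exact (QuotientGroup.eq_one_iff _).1 h2

theorem pow_four_of_two_pow (hord : ∀ g : G, orderOf g ≤ 4) {x : G} (hx : ∃ k, x ^ (2 ^ k) = 1) :
    x ^ 4 = 1 := by
  obtain ⟨k, hk⟩ := hx
  have hd : orderOf x ∣ 2 ^ k := orderOf_dvd_of_pow_eq_one hk
  obtain ⟨j, -, hj⟩ := (Nat.dvd_prime_pow Nat.prime_two).1 hd
  have hle := hord x
  rw [hj] at hle
  have hj2 : j ≤ 2 := by
    by_contra hcon
    have : 3 ≤ j := by omega
    have : 2 ^ 3 ≤ 2 ^ j := Nat.pow_le_pow_right (by norm_num) this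
    omega
  have : orderOf x ∣ 4 := by
    rw [hj]
    exact pow_dvd_pow 2 hj2
  exact orderOf_dvd_iff_pow_eq_one.1 this

theorem pow_three_of_three_pow (hord : ∀ g : G, orderOf g ≤ 4) {x : G} (hx : ∃ k, x ^ (3 ^ k) = 1) :
    x ^ 3 = 1 := by
  obtain ⟨k, hk⟩ := hx
  have hd : orderOf x ∣ 3 ^ k := orderOf_dvd_of_pow_eq_one hk
  obtain ⟨j, -, hj⟩ := (Nat.dvd_prime_pow Nat.prime_three).1 hd
  have hle := hord x
  rw [hj] at hle
  have hj2 : j ≤ 1 := by
    by_contra hcon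
    have : 2 ≤ j := by omega
    have : 3 ^ 2 ≤ 3 ^ j := Nat.pow_le_pow_right (by norm_num) this
    omega
  have : orderOf x ∣ 3 := by
    rw [hj]
    exact pow_dvd_pow 3 hj2
  exact orderOf_dvd_iff_pow_eq_one.1 this

theorem cube_of_coset (hord : ∀ g : G, 1 ≤ orderOf g ∧ orderOf g ≤ 4) {N : Subgroup G} [N.Normal]
    {c : G} (hc : orderOf c = 3) (hcN : ∀ m : ℕ, c ^ m ∈ N → c ^ m = 1) {n : G} (hn : n ∈ N) :
    (c * n) ^ 3 = 1 := by
  have h1 := pow_mem_of_mul_pow hn (orderOf (c * n)) (pow_orderOf_eq_one _)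
  have h2 := hcN _ h1
  have h3 : 3 ∣ orderOf (c * n) := by rw [← hc]; exact orderOf_dvd_of_pow_eq_one h2
  obtain ⟨l1, l2⟩ := hord (c * n)
  have : orderOf (c * n) = 3 := by omega
  rw [← this]; exact pow_orderOf_eq_one _

theorem fourth_of_coset (hord : ∀ g : G, 1 ≤ orderOf g ∧ orderOf g ≤ 4) {N : Subgroup G} [N.Normal]
    {s : G} (hs : orderOf s = 2) (hsN : ∀ m : ℕ, s ^ m ∈ N → s ^ m = 1) {n : G} (hn : n ∈ N) :
    (s * n) ^ 4 = 1 := by
  have h1 := pow_mem_of_mul_pow hn (orderOf (s * n)) (pow_orderOf_eq_one _)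
  have h2 := hsN _ h1
  have h3 : 2 ∣ orderOf (s * n) := by rw [← hs]; exact orderOf_dvd_of_pow_eq_one h2
  obtain ⟨l1, l2⟩ := hord (s * n)
  have : orderOf (s * n) ∣ 4 := by
    have : orderOf (s * n) = 2 ∨ orderOf (s * n) = 4 := by omega
    rcases this with h | h <;> rw [h]
    norm_num
  exact orderOf_dvd_iff_pow_eq_one.1 this

end cosets



section compl

variable {G : Type*} [Group G]

/-- a complement of a normal subgroup is isomorphic to the quotient -/
noncomputable def complEquiv (N C : Subgroup G) [N.Normal] (hc : Subgroup.IsComplement' N C) :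
    C ≃* G ⧸ N :=
  MulEquiv.ofBijective ((QuotientGroup.mk' N).comp C.subtype)
    ⟨by
      rw [injective_iff_map_eq_one]
      intro c hcc
      have h1 : (c : G) ∈ N := (QuotientGroup.eq_one_iff _).1 hcc
      have hdisj := hc.disjoint
      rw [Subgroup.disjoint_def] at hdisj
      exact Subtype.ext (hdisj h1 c.2),
     by
      intro y
      obtain ⟨g, rfl⟩ := QuotientGroup.mk'_surjective N y
      obtain ⟨⟨⟨n, hn⟩, ⟨c, hcm⟩⟩, hnc, -⟩ := hc.existsUnique g
      have hnc' : n * c = g := hnc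
      refine ⟨⟨c, hcm⟩, ?_⟩
      show QuotientGroup.mk' N c = QuotientGroup.mk' N g
      have h1 : QuotientGroup.mk' N n = 1 := (QuotientGroup.eq_one_iff n).2 hn
      rw [← hnc', map_mul, h1, one_mul]⟩

theorem complEquiv_apply (N C : Subgroup G) [N.Normal] (hc : Subgroup.IsComplement' N C) (c : C) :
    complEquiv N C hc c = QuotientGroup.mk' N (c : G) := rfl

end compl


section caseF

variable {G : Type*} [Group G] [Finite G]

/-- the conclusion of S4006 -/
def Concl (G : Type*) [Group G] : Prop :=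
  ∃ (N : Subgroup G) (_ : N.Normal),
      (IsPGroup 2 ↥N ∧ Monoid.exponent ↥N = 4 ∧ Group.nilpotencyClass ↥N ≤ 2 ∧ N.index = 3) ∨
      (Cfsg.IsElementaryAbelian 2 N ∧ Nonempty (G ⧸ N ≃* Equiv.Perm (Fin 3))) ∨
      (Cfsg.IsElementaryAbelian 3 N ∧ ((IsCyclic (G ⧸ N) ∧ N.index = 4) ∨
        Nonempty (G ⧸ N ≃* QuaternionGroup 2)))

theorem case_F1 (hord : ∀ g : G, 1 ≤ orderOf g ∧ orderOf g ≤ 4) (g4 : G) (hg4 : orderOf g4 = 4)
    (N C : Subgroup G) [hNn : N.Normal] (hc : Subgroup.IsComplement' N C) (hN1 : N ≠ ⊥)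
    (hC1 : C ≠ ⊥)
    (hfpf : ∀ a ∈ C, a ≠ 1 → N ⊓ Subgroup.centralizer {a} = ⊥)
    (hN2 : IsPGroup 2 N) (hC3 : IsPGroup 3 C) : Concl G := by
  have hord' : ∀ g : G, orderOf g ≤ 4 := fun g => (hord g).2
  -- C is cyclic of order 3
  have hCnil : Group.IsNilpotent C := hC3.isNilpotent
  have hCodd : Odd (Nat.card C) := by
    obtain ⟨k, hk⟩ := (IsPGroup.iff_card).1 hC3
    rw [hk]; exact Odd.pow (by decide)
  have hCcyc : IsCyclic C :=
    Cfsg.Agent.Lib.Helper35.isCyclic_of_nilpotent_odd_complement N C hc hN1 hfpf hCnil hCodd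
  obtain ⟨c₀, hc₀⟩ := hCcyc.exists_generator
  have hoc₀ : orderOf c₀ = Nat.card C := orderOf_eq_card_of_forall_mem_zpowers hc₀
  have hc₀3 : (c₀ : G) ^ 3 = 1 := pow_three_of_three_pow hord' (by
    obtain ⟨k, hk⟩ := hC3 c₀
    exact ⟨k, by simpa using congrArg Subtype.val hk⟩)
  have hc₀1 : c₀ ≠ 1 := by
    intro h
    rw [h, orderOf_one] at hoc₀
    have : C = ⊥ := Subgroup.card_eq_one.1 hoc₀.symm
    exact hC1 this
  have hoc : orderOf (c₀ : G) = 3 := by
    have h1 : orderOf (c₀ : G) ∣ 3 := orderOf_dvd_of_pow_eq_one hc₀3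
    rcases (Nat.dvd_prime Nat.prime_three).1 h1 with h | h
    · exfalso
      rw [orderOf_eq_one_iff] at h
      exact hc₀1 (Subtype.ext h)
    · exact h
  have hcardC : Nat.card C = 3 := by
    rw [← hoc₀, ← hoc]; exact (Subgroup.orderOf_coe c₀).symm
  have hidx : N.index = 3 := by rw [hc.symm.index_eq_card, hcardC]
  -- elements of N
  have hN4 : ∀ n ∈ N, n ^ 4 = 1 := by
    intro n hn
    apply pow_four_of_two_pow hord'
    obtain ⟨k, hk⟩ := hN2 ⟨n, hn⟩
    exact ⟨k, by simpa using congrArg Subtype.val hk⟩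
  have hg4N : g4 ∈ N := by
    have h3 : g4 ^ 3 ∈ N := by
      have := N.pow_index_mem g4
      rwa [hidx] at this
    have h4 : g4 ^ 4 = 1 := by rw [← hg4]; exact pow_orderOf_eq_one g4
    have : g4 = g4 ^ 4 * (g4 ^ 3)⁻¹ := by group
    rw [this, h4, one_mul]
    exact N.inv_mem h3
  have hexp : Monoid.exponent N = 4 := by
    apply Nat.dvd_antisymm
    · apply Monoid.exponent_dvd_of_forall_pow_eq_one
      intro n
      exact Subtype.ext (by simpa using hN4 n n.2)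
    · have := Monoid.order_dvd_exponent (⟨g4, hg4N⟩ : N)
      rwa [← Subgroup.orderOf_coe, hg4] at this
  -- class ≤ 2
  have hdisj := hc.disjoint
  rw [Subgroup.disjoint_def] at hdisj
  have hcN : ∀ m : ℕ, (c₀ : G) ^ m ∈ N → (c₀ : G) ^ m = 1 := by
    intro m hm
    exact hdisj hm (C.pow_mem c₀.2 m)
  have hcls : Group.nilpotencyClass N ≤ 2 :=
    Cfsg.Agent.Lib.Helper66.nilpotencyClass_le_two_of_cube N hN2 (c₀ : G)
      (fun n hn => hNn.conj_mem n hn _) (fun n hn => cube_of_coset hord hoc hcN hn)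
  exact ⟨N, hNn, Or.inl ⟨hN2, hexp, hcls, hidx⟩⟩

end caseF

section caseF2

variable {G : Type*} [Group G] [Finite G]

theorem case_F2 (hord : ∀ g : G, 1 ≤ orderOf g ∧ orderOf g ≤ 4) (g4 : G) (hg4 : orderOf g4 = 4)
    (N C : Subgroup G) [hNn : N.Normal] (hC : IsFrobeniusComplement C)
    (hker : frobeniusKernel C = (N : Set G))
    (hc : Subgroup.IsComplement' N C) (hN1 : N ≠ ⊥)
    (hfpf : ∀ a ∈ C, a ≠ 1 → N ⊓ Subgroup.centralizer {a} = ⊥)
    (hN3 : IsPGroup 3 N) (hC2 : IsPGroup 2 C) : Concl G := by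
  have hord' : ∀ g : G, orderOf g ≤ 4 := fun g => (hord g).2
  have hC1 : C ≠ ⊥ := hC.1
  -- an involution in C
  have h2C : 2 ∣ Nat.card C := by
    obtain ⟨k, hk⟩ := (IsPGroup.iff_card).1 hC2
    have hk0 : k ≠ 0 := by
      rintro rfl
      rw [pow_zero] at hk
      exact hC1 (Subgroup.card_eq_one.1 hk)
    rw [hk]; exact dvd_pow_self 2 hk0
  have : Fact (Nat.Prime 2) := ⟨Nat.prime_two⟩
  obtain ⟨s, hs⟩ := exists_prime_orderOf_dvd_card' (G := C) 2 h2C
  have hs1 : (s : G) ≠ 1 := by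
    intro h
    have : s = 1 := Subtype.ext h
    rw [this, orderOf_one] at hs
    norm_num at hs
  have hs2 : (s : G) * s = 1 := by
    have : s ^ 2 = 1 := by rw [← hs]; exact pow_orderOf_eq_one s
    have := congrArg Subtype.val this
    simpa [pow_two] using this
  -- N is abelian
  have hinv : ∀ k ∈ N, (s : G) * k * (s : G)⁻¹ = k⁻¹ := by
    intro k hk
    exact Cfsg.Agent.S0036.invol_inverts hC s.2 hs1 hs2 (by rw [hker]; exact hk)
  have hNcomm : IsMulCommutative N := by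
    refine ⟨⟨fun x y => ?_⟩⟩
    apply Subtype.ext
    have hx := hinv x x.2
    have hy := hinv y y.2
    have hxy := hinv (x * y) (N.mul_mem x.2 y.2)
    have e : ((x : G) * y)⁻¹ = (x : G)⁻¹ * (y : G)⁻¹ := by
      rw [← hxy, ← hx, ← hy]; group
    have e2 : ((x : G) * y)⁻¹ = ((y : G) * x)⁻¹ := by rw [e, mul_inv_rev]
    exact inv_injective e2
  have hN3' : ∀ n ∈ N, n ^ 3 = 1 := by
    intro n hn
    apply pow_three_of_three_pow hord'
    obtain ⟨k, hk⟩ := hN3 ⟨n, hn⟩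
    exact ⟨k, by simpa using congrArg Subtype.val hk⟩
  have hEA : Cfsg.IsElementaryAbelian 3 N := ⟨hNcomm, hN3'⟩
  -- the quotient
  let e := complEquiv N C hc
  -- 4 divides |C|
  have hg4pow : g4 ^ 4 = 1 := by rw [← hg4]; exact pow_orderOf_eq_one g4
  have hq4 : orderOf (QuotientGroup.mk' N g4) = 2 ^ (1 + 1) := by
    apply orderOf_eq_prime_pow
    · intro h
      rw [pow_one, ← map_pow] at h
      have hm : g4 ^ 2 ∈ N := (QuotientGroup.eq_one_iff _).1 h
      have h6 : (g4 ^ 2) ^ 3 = 1 := hN3' _ hm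
      rw [← pow_mul] at h6
      have : orderOf g4 ∣ 2 * 3 := orderOf_dvd_of_pow_eq_one h6
      rw [hg4] at this
      norm_num at this
    · rw [← map_pow]
      have : (2 : ℕ) ^ (1 + 1) = 4 := by norm_num
      rw [this, hg4pow, map_one]
  have h4C : 4 ∣ Nat.card C := by
    rw [Nat.card_congr e.toEquiv]
    have := orderOf_dvd_natCard (QuotientGroup.mk' N g4)
    rwa [hq4] at this
  have hidxC : N.index = Nat.card C := hc.symm.index_eq_card
  -- cyclic case
  have hcyc : IsCyclic C → Concl G := by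
    intro hCcyc
    obtain ⟨z, hz⟩ := hCcyc.exists_generator
    have hoz : orderOf z = Nat.card C := orderOf_eq_card_of_forall_mem_zpowers hz
    have hle : Nat.card C ≤ 4 := by
      rw [← hoz, ← Subgroup.orderOf_coe]; exact hord' _
    have hpos : 0 < Nat.card C := Nat.card_pos
    have h4 : Nat.card C = 4 := by
      obtain ⟨m, hm⟩ := h4C
      rw [hm] at hle hpos ⊢
      have : m = 1 := by omega
      rw [this]
    have hcq : IsCyclic (G ⧸ N) := isCyclic_of_surjective e e.surjective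
    exact ⟨N, hNn, Or.inr (Or.inr ⟨hEA, Or.inl ⟨hcq, by rw [hidxC, h4]⟩⟩)⟩
  -- Sylow of C is C
  let P : Sylow 2 C := default
  have hPtop : (P : Subgroup C) = ⊤ :=
    (P.is_maximal' (IsPGroup.to_subgroup hC2 ⊤) le_top).symm
  let eP : (P : Subgroup C) ≃* C := (MulEquiv.subgroupCongr hPtop).trans Subgroup.topEquiv
  rcases Cfsg.Agent.S0040.result N C hc hN1 hfpf 2 P with hPc | ⟨n, ⟨eq⟩⟩
  · exact hcyc (isCyclic_of_surjective eP eP.surjective)
  · -- quaternion case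
    let eQ : C ≃* QuaternionGroup (2 ^ n) := eP.symm.trans eq
    have hz : orderOf (eQ.symm (QuaternionGroup.a 1)) = 2 * 2 ^ n := by
      rw [MulEquiv.orderOf_eq, QuaternionGroup.orderOf_a_one]
    have hle : 2 * 2 ^ n ≤ 4 := by
      rw [← hz, ← Subgroup.orderOf_coe]; exact hord' _
    have hn1 : n ≤ 1 := by
      by_contra hcon
      have : 2 ≤ n := by omega
      have : 2 ^ 2 ≤ 2 ^ n := Nat.pow_le_pow_right (by norm_num) this
      omega
    rcases Nat.le_one_iff_eq_zero_or_eq_one.1 hn1 with rfl | rfl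
    · -- QuaternionGroup 1 is cyclic
      have h1 : IsCyclic (QuaternionGroup (2 ^ 0)) := by
        rw [pow_zero]; exact QuaternionGroup.quaternionGroup_one_isCyclic
      exact hcyc (isCyclic_of_surjective eQ.symm eQ.symm.surjective)
    · have eQ' : C ≃* QuaternionGroup 2 := by
        have := eQ
        rwa [pow_one] at this
      exact ⟨N, hNn, Or.inr (Or.inr ⟨hEA, Or.inr ⟨e.symm.trans eQ'⟩⟩)⟩

end caseF2

section case2F

variable {G : Type*} [Group G] [Finite G]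

open Cfsg.Agent.S4001 in
theorem case_2F (hord : ∀ g : G, 1 ≤ orderOf g ∧ orderOf g ≤ 4) (a b : ℕ)
    (hcard : Nat.card G = 2 ^ a * 3 ^ b) (H K : Subgroup G) [hHn : H.Normal] [hKn : K.Normal]
    (d : Cfsg.Agent.S4001.Data H K) : Concl G := by
  have hord' : ∀ g : G, orderOf g ≤ 4 := fun g => (hord g).2
  -- |C₀| = 3
  have hdvdC : Nat.card d.C₀ ∣ 2 ^ a * 3 ^ b := by
    rw [← hcard, d.card_G]
    exact Dvd.dvd.mul_right (Dvd.intro_left _ rfl) _
  have hodd := d.odd_card_C₀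
  have h2C : ¬ 2 ∣ Nat.card d.C₀ := by
    rw [← even_iff_two_dvd, Nat.not_even_iff_odd]; exact hodd
  obtain ⟨k, hk⟩ := pow_three_of_dvd hdvdC h2C
  have hCcyc := d.isCyclic_C₀
  obtain ⟨c₀, hc₀⟩ := hCcyc.exists_generator
  have hoc₀ : orderOf c₀ = Nat.card d.C₀ := orderOf_eq_card_of_forall_mem_zpowers hc₀
  have hocG : orderOf (((c₀ : ↥K) : G)) = Nat.card d.C₀ := by
    rw [Subgroup.orderOf_coe, Subgroup.orderOf_coe, hoc₀]
  have hC₀1 : Nat.card d.C₀ ≠ 1 := by
    intro h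
    exact d.hC₀.1 (Subgroup.card_eq_one.1 h)
  have hcardC : Nat.card d.C₀ = 3 := by
    have hle : Nat.card d.C₀ ≤ 4 := by rw [← hocG]; exact hord' _
    rw [hk] at hle hC₀1 ⊢
    have hk1 : k ≤ 1 := by
      by_contra hcon
      have : 2 ≤ k := by omega
      have : 3 ^ 2 ≤ 3 ^ k := Nat.pow_le_pow_right (by norm_num) this
      omega
    rcases Nat.le_one_iff_eq_zero_or_eq_one.1 hk1 with rfl | rfl
    · exact absurd (pow_zero 3) hC₀1
    · norm_num
  set c : G := ((c₀ : ↥K) : G) with hcdef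
  have hoc : orderOf c = 3 := by rw [hocG, hcardC]
  have hcK : c ∈ K := (c₀ : ↥K).2
  have hcF : c ∈ d.F := d.C_le_F (d.mem_C c₀.2)
  -- H is a 2-group
  have hH2 : IsPGroup 2 H := by
    have hdvdH : Nat.card H ∣ 2 ^ a * 3 ^ b := by
      rw [← hcard]; exact Subgroup.card_subgroup_dvd_card H
    have h3H : ¬ 3 ∣ Nat.card H := by
      intro h3
      have hcop := d.coprime_C₀_H
      rw [hcardC] at hcop
      have := Nat.Coprime.eq_one_of_dvd hcop h3
      norm_num at this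
    obtain ⟨j, hj⟩ := pow_two_of_dvd hdvdH h3H
    have : Fact (Nat.Prime 2) := ⟨Nat.prime_two⟩
    exact IsPGroup.of_card hj
  have hH4 : ∀ h ∈ H, h ^ 4 = 1 := by
    intro h hh
    apply pow_four_of_two_pow hord'
    obtain ⟨k, hk⟩ := hH2 ⟨h, hh⟩
    exact ⟨k, by simpa using congrArg Subtype.val hk⟩
  -- |D₁| = 2, |F| = 6
  have hS := Cfsg.Agent.S0034.result d.D₁ d.hD₁
  have hidxD : d.D₁.index = 3 := by rw [← hS.1, d.card_kernel_D₁, hcardC]
  have hD₁1 : Nat.card d.D₁ ≠ 1 := by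
    intro h
    exact d.hD₁.1 (Subgroup.card_eq_one.1 h)
  have hD₁2 : Nat.card d.D₁ = 2 := by
    have hmod := hS.2
    rw [hidxD] at hmod
    have hpos : 0 < Nat.card d.D₁ := Nat.card_pos
    have hdvd : Nat.card d.D₁ ∣ 3 - 1 :=
      (Nat.modEq_iff_dvd' (by norm_num : 1 ≤ 3)).1 (show Nat.ModEq _ 1 3 from hmod.symm)
    have hle : Nat.card d.D₁ ≤ 2 := Nat.le_of_dvd (by norm_num) hdvd
    omega
  have hcardF : Nat.card d.F = 6 := by
    rw [← d.D₁.card_mul_index, hD₁2, hidxD]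
  obtain ⟨eS⟩ := perm3_of_frobenius d.D₁ d.hD₁ hcardF hD₁2
  -- elements outside K square to 1
  have hsq : ∀ f : ↥d.F, (f : G) ∉ K → (f : G) * f = 1 := by
    intro f hf
    have hnk : f ∉ frobeniusKernel d.D₁ := by rw [d.mem_kernel_D₁]; exact hf
    have : ¬ (f = 1 ∨ ∀ g : ↥d.F, f ∉ MulAut.conj g • d.D₁) := hnk
    rw [not_or] at this
    obtain ⟨-, h2⟩ := this
    rw [not_forall] at h2
    obtain ⟨g, hg⟩ := h2
    rw [not_not, mem_conj_smul_iff'] at hg
    have h3 : (⟨g⁻¹ * f * g, hg⟩ : ↥d.D₁) ^ 2 = 1 := by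
      rw [← hD₁2]; exact pow_card_eq_one'
    have h4 : (g⁻¹ * f * g) ^ 2 = 1 := by
      have := congrArg Subtype.val h3
      simpa using this
    have h5 : f ^ 2 = 1 := by
      have : f ^ 2 = g * (g⁻¹ * f * g) ^ 2 * g⁻¹ := by rw [pow_two, pow_two]; group
      rw [this, h4]; group
    have := congrArg Subtype.val h5
    simpa [pow_two] using this
  obtain ⟨t₁, ht₁⟩ := (Subgroup.ne_bot_iff_exists_ne_one).1 d.hD₁.1
  have ht₁K : (((t₁ : ↥d.F)) : G) ∉ K := by
    rw [← d.mem_kernel_D₁]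
    intro hk
    rcases hk with h | h
    · exact ht₁ (Subtype.ext h)
    · apply h 1
      rw [mem_conj_smul_iff']
      simp
  set t : G := ((t₁ : ↥d.F) : G) with htdef
  have htF : t ∈ d.F := (t₁ : ↥d.F).2
  have htcK : t * c ∉ K := by
    intro h
    apply ht₁K
    have : t = t * c * c⁻¹ := by group
    rw [this]
    exact K.mul_mem h (K.inv_mem hcK)
  have htcK' : t * c⁻¹ ∉ K := by
    intro h
    apply ht₁K
    have : t = t * c⁻¹ * c := by group
    rw [this]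
    exact K.mul_mem h hcK
  have ht2 : t * t = 1 := hsq (t₁ : ↥d.F) ht₁K
  have htc2 : t * c * (t * c) = 1 :=
    hsq ⟨t * c, d.F.mul_mem htF hcF⟩ htcK
  have htc2' : t * c⁻¹ * (t * c⁻¹) = 1 :=
    hsq ⟨t * c⁻¹, d.F.mul_mem htF (d.F.inv_mem hcF)⟩ htcK'
  -- powers in H ∩ F are trivial
  have hFH : ∀ s ∈ d.F, ∀ m : ℕ, s ^ m ∈ H → s ^ m = 1 :=
    fun s hs m hm => d.F_inf_H hm (d.F.pow_mem hs m)
  have ho2 : ∀ s : G, s ∉ K → s * s = 1 → orderOf s = 2 := by
    intro s hs hss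
    have : Fact (Nat.Prime 2) := ⟨Nat.prime_two⟩
    apply orderOf_eq_prime
    · rw [pow_two]; exact hss
    · intro h; rw [h] at hs; exact hs K.one_mem
  have h3 : ∀ h ∈ H, (c * h) ^ 3 = 1 := fun h hh => cube_of_coset hord hoc (hFH c hcF) hh
  have h4t : ∀ h ∈ H, (t * h) ^ 4 = 1 :=
    fun h hh => fourth_of_coset hord (ho2 t ht₁K ht2) (hFH t htF) hh
  have h4tc : ∀ h ∈ H, (t * c * h) ^ 4 = 1 :=
    fun h hh => fourth_of_coset hord (ho2 _ htcK htc2) (hFH _ (d.F.mul_mem htF hcF)) hh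
  have h4tc' : ∀ h ∈ H, (t * c⁻¹ * h) ^ 4 = 1 :=
    fun h hh => fourth_of_coset hord (ho2 _ htcK' htc2')
      (hFH _ (d.F.mul_mem htF (d.F.inv_mem hcF))) hh
  have hexp2 : ∀ h ∈ H, h ^ 2 = 1 :=
    Cfsg.Agent.Lib.Helper66.sq_eq_one_of_s3 H hH2 hH4 c t h3 ht2 htc2 htc2' h4t h4tc h4tc'
  have hHcomm : IsMulCommutative H := by
    refine ⟨⟨fun x y => ?_⟩⟩
    apply Subtype.ext
    have hx := hexp2 x x.2
    have hy := hexp2 y y.2
    have hxy := hexp2 (x * y) (H.mul_mem x.2 y.2)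
    rw [pow_two] at hx hy hxy
    have ix : (x : G)⁻¹ = x := inv_eq_of_mul_eq_one_left hx
    have iy : (y : G)⁻¹ = y := inv_eq_of_mul_eq_one_left hy
    have ixy : ((x : G) * y)⁻¹ = x * y := inv_eq_of_mul_eq_one_left hxy
    show (x : G) * y = y * x
    rw [← ixy, mul_inv_rev, ix, iy]
  exact ⟨H, hHn, Or.inr (Or.inl ⟨⟨hHcomm, hexp2⟩, ⟨d.eF.symm.trans eS⟩⟩)⟩

end case2F

/-- A finite group whose set of element orders is exactly {1, 2, 3, 4} has a normal subgroup N such that either N is a 2-group of exponent 4 and nilpotency class at most 2 with G/N of order 3, or N is an elementary abelian 2-group with G/N isomorphic to the symmetric group of degree 3, or N is an elementary abelian 3-group with G/N cyclic of order 4 or quaternion of order 8. -/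
theorem result {G : Type*} [Group G] [Finite G] (h : Set.range (orderOf : G → ℕ) = {k : ℕ | 1 ≤ k ∧ k ≤ 4}) :
    ∃ (N : Subgroup G) (_ : N.Normal),
      (IsPGroup 2 ↥N ∧ Monoid.exponent ↥N = 4 ∧ Group.nilpotencyClass ↥N ≤ 2 ∧ N.index = 3) ∨
      (Cfsg.IsElementaryAbelian 2 N ∧ Nonempty (G ⧸ N ≃* Equiv.Perm (Fin 3))) ∨
      (Cfsg.IsElementaryAbelian 3 N ∧ ((IsCyclic (G ⧸ N) ∧ N.index = 4) ∨ Nonempty (G ⧸ N ≃* QuaternionGroup 2))) := by
  show Concl G
  have hord : ∀ g : G, 1 ≤ orderOf g ∧ orderOf g ≤ 4 := by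
    intro g
    have : orderOf g ∈ Set.range (orderOf : G → ℕ) := ⟨g, rfl⟩
    rw [h] at this
    exact this
  have hex : ∀ k : ℕ, 1 ≤ k → k ≤ 4 → ∃ g : G, orderOf g = k := by
    intro k h1 h2
    have : k ∈ Set.range (orderOf : G → ℕ) := by rw [h]; exact ⟨h1, h2⟩
    exact this
  obtain ⟨g2, hg2⟩ := hex 2 (by norm_num) (by norm_num)
  obtain ⟨g3, hg3⟩ := hex 3 (by norm_num) (by norm_num)
  obtain ⟨g4, hg4⟩ := hex 4 (by norm_num) (by norm_num)
  have h2G : 2 ∣ Nat.card G := by rw [← hg2]; exact orderOf_dvd_natCard g2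
  have h3G : 3 ∣ Nat.card G := by rw [← hg3]; exact orderOf_dvd_natCard g3
  have hprimes : ∀ p : ℕ, p.Prime → p ∣ Nat.card G → p = 2 ∨ p = 3 := by
    intro p hp hpd
    have : Fact p.Prime := ⟨hp⟩
    obtain ⟨x, hx⟩ := exists_prime_orderOf_dvd_card' (G := G) p hpd
    have hle := (hord x).2
    rw [hx] at hle
    have h2 := hp.two_le
    interval_cases p
    · left; rfl
    · right; rfl
    · exfalso; revert hp; decide
  obtain ⟨a, b, hcard⟩ := exists_two_three (Nat.card G) Nat.card_pos.ne' hprimes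
  have hsol : Group.IsSolvable G :=
    Cfsg.Agent.S0144.result 2 3 a b Nat.prime_two Nat.prime_three hcard
  have hdisc : ∃ A : Set ℕ, (∃ a ∈ A, a.Prime ∧ a ∣ Nat.card G) ∧
      (∃ b ∉ A, b.Prime ∧ b ∣ Nat.card G) ∧
      ∀ a ∈ A, ∀ b ∉ A, a.Prime → b.Prime → a ∣ Nat.card G → b ∣ Nat.card G →
        ¬ ∃ g : G, orderOf g = a * b := by
    refine ⟨{2}, ⟨2, rfl, Nat.prime_two, h2G⟩, ⟨3, by simp, Nat.prime_three, h3G⟩, ?_⟩
    intro a' ha' b' hb' _ hb'p _ hb'd
    rw [Set.mem_singleton_iff] at ha' hb'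
    subst ha'
    rcases hprimes b' hb'p hb'd with rfl | rfl
    · exact absurd rfl hb'
    · rintro ⟨g, hg⟩
      have := (hord g).2
      rw [hg] at this
      norm_num at this
  rcases Cfsg.Agent.S3857.result hsol hdisc with ⟨C, hC⟩ | ⟨H, K, hHn, hKn, hlt, ⟨C₀, hC₀, hkerK⟩, ⟨D₀, hD₀, hkerQ⟩⟩
  · -- Frobenius case
    obtain ⟨N, hNk, -, -⟩ := Cfsg.Agent.S0035.result C hC
    obtain ⟨hNn, hc, -, hN1, hfpf, hcop⟩ :=
      Cfsg.Agent.Lib.Helper35.frobenius_data C N hC hNk.symm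
    have hmul : Nat.card N * Nat.card C = Nat.card G := hc.card_mul_card
    have hdN : Nat.card N ∣ 2 ^ a * 3 ^ b := by rw [← hcard, ← hmul]; exact Dvd.intro _ rfl
    have hdC : Nat.card C ∣ 2 ^ a * 3 ^ b := by rw [← hcard, ← hmul]; exact Dvd.intro_left _ rfl
    have hN1' : Nat.card N ≠ 1 := fun h => hN1 (Subgroup.card_eq_one.1 h)
    have hC1' : Nat.card C ≠ 1 := fun h => hC.1 (Subgroup.card_eq_one.1 h)
    have h2 : Fact (Nat.Prime 2) := ⟨Nat.prime_two⟩
    have h3 : Fact (Nat.Prime 3) := ⟨Nat.prime_three⟩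
    by_cases h2N : 2 ∣ Nat.card N
    · -- N is a 2-group, C a 3-group
      have h2C : ¬ 2 ∣ Nat.card C := by
        intro h2C
        have h' := Nat.dvd_gcd h2C h2N
        rw [hcop] at h'
        norm_num at h'
      obtain ⟨k, hk⟩ := pow_three_of_dvd hdC h2C
      have hk0 : k ≠ 0 := by rintro rfl; exact hC1' (by rw [hk, pow_zero])
      have h3C : 3 ∣ Nat.card C := by rw [hk]; exact dvd_pow_self 3 hk0
      have h3N : ¬ 3 ∣ Nat.card N := by
        intro h3N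
        have h' := Nat.dvd_gcd h3C h3N
        rw [hcop] at h'
        norm_num at h'
      obtain ⟨j, hj⟩ := pow_two_of_dvd hdN h3N
      exact case_F1 hord g4 hg4 N C hc hN1 hC.1 hfpf (IsPGroup.of_card hj) (IsPGroup.of_card hk)
    · -- N is a 3-group, C a 2-group
      obtain ⟨j, hj⟩ := pow_three_of_dvd hdN h2N
      have hj0 : j ≠ 0 := by rintro rfl; exact hN1' (by rw [hj, pow_zero])
      have h3N : 3 ∣ Nat.card N := by rw [hj]; exact dvd_pow_self 3 hj0
      have h3C : ¬ 3 ∣ Nat.card C := by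
        intro h3C
        have h' := Nat.dvd_gcd h3C h3N
        rw [hcop] at h'
        norm_num at h'
      obtain ⟨k, hk⟩ := pow_two_of_dvd hdC h3C
      exact case_F2 hord g4 hg4 N C hC hNk.symm hc hN1 hfpf (IsPGroup.of_card hj)
        (IsPGroup.of_card hk)
  · -- 2-Frobenius case
    exact case_2F hord a b hcard H K ⟨C₀, D₀, hlt, hC₀, hkerK, hD₀, hkerQ⟩

end Cfsg.Agent.S4006
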