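import Cfsg.Statements.S4010
import Cfsg.Agent.Lib.Helper87.LinRepCoprime

set_option autoImplicit false
open Cfsg

namespace Cfsg.Agent.S4010

/-- Let F be a field, n ≥ 1, and P a finite p-group (p a prime) admitting an injective homomorphism into the general linear group of degree n over F. Then the derived length of P is at most ⌊log₂ n⌋ + 1: that term of the derived series of P is trivial. -/
theorem result {P : Type*} [Group P] [Finite P] (p : ℕ) [Fact p.Prime] (hP : IsPGroup p P) (F : Type*) [Field F] (n : ℕ) (hn : 1 ≤ n) (ρ : P →* Matrix.GeneralLinearGroup (Fin n) F) (hρ : Function.Injective ρ) : derivedSeries P (Nat.log 2 n + 1) = ⊥ := by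
  classical
  let K := AlgebraicClosure F
  let φ : Matrix.GeneralLinearGroup (Fin n) F →* Matrix.GeneralLinearGroup (Fin n) K :=
    Matrix.GeneralLinearGroup.map (algebraMap F K)
  have hφ : Function.Injective φ := by
    intro A B hAB
    ext i j
    have h1 := congrArg (fun M : Matrix.GeneralLinearGroup (Fin n) K => M i j) hAB
    simp only [φ, Matrix.GeneralLinearGroup.map_apply] at h1
    exact (algebraMap F K).injective h1
  let ψ : Matrix.GeneralLinearGroup (Fin n) K ≃* LinearMap.GeneralLinearGroup K (Fin n → K) :=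
    Matrix.GeneralLinearGroup.toLin
  let θ : LinearMap.GeneralLinearGroup K (Fin n → K) ≃* ((Fin n → K) ≃ₗ[K] (Fin n → K)) :=
    LinearMap.GeneralLinearGroup.generalLinearEquiv K _
  let ρ₂ : P →* ((Fin n → K) ≃ₗ[K] (Fin n → K)) :=
    θ.toMonoidHom.comp (ψ.toMonoidHom.comp (φ.comp ρ))
  have hinj : Function.Injective ρ₂ :=
    θ.injective.comp (ψ.injective.comp (hφ.comp hρ))
  have hker : ρ₂.ker = ⊥ := (MonoidHom.ker_eq_bot_iff ρ₂).2 hinj
  have hfr : Module.finrank K (Fin n → K) = n := Module.finrank_fin_fun K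
  rw [eq_bot_iff, ← hker]
  by_cases hpK : (p : K) = 0
  · have := Cfsg.Agent.Lib.Helper87.LinRep.derivedSeries_le_ker_of_char hpK hP ρ₂
    rw [hfr] at this
    exact this
  · exact Cfsg.Agent.Lib.Helper87.LinRep.derivedSeries_le_ker_of_coprime hpK n P hP
      (Fin n → K) ρ₂ hfr

end Cfsg.Agent.S4010
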