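import Cfsg.Statements.S4013
import Mathlib

set_option autoImplicit false
open Cfsg

namespace Cfsg.Agent.S4013

/-- Let G be a finite p-group (p prime) and N < M normal subgroups of G such that for some g ∈ M ∖ N the conjugacy class of g is exactly M ∖ N. Then p = 2 and N has index 2 in M. -/
theorem result {G : Type*} [Group G] [Finite G] (p : ℕ) [Fact p.Prime] (hG : IsPGroup p G) (N M : Subgroup G) [N.Normal] [M.Normal] (hNM : N < M) (g : G) (hgM : g ∈ M) (hgN : g ∉ N) (hcl : {h : G | IsConj g h} = (M : Set G) \ (N : Set G)) : p = 2 ∧ N.relIndex M = 2 := by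
  classical
  have hp : p.Prime := Fact.out
  -- the class is an orbit of the conjugation action
  have horb : (MulAction.orbit (ConjAct G) g : Set G) = (M : Set G) \ N := by
    rw [← hcl]; ext h
    rw [ConjAct.mem_orbit_conjAct, isConj_comm]
    rfl
  have hGc : IsPGroup p (ConjAct G) := hG
  obtain ⟨c, hc⟩ := hGc.card_orbit g
  -- cardinality of the difference
  have hsub : (N : Set G) ⊆ (M : Set G) := fun x hx => hNM.le hx
  have hcard : Nat.card (MulAction.orbit (ConjAct G) g) = Nat.card M - Nat.card N := by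
    rw [horb]
    have := Set.ncard_sdiff hsub (Set.toFinite _)
    rw [Nat.card_coe_set_eq, this]; simp [← Nat.card_coe_set_eq]
  -- |M| = |N| * relIndex
  have hrel : N.relIndex M * Nat.card N = Nat.card M := by
    have h1 := Subgroup.relIndex_mul_relIndex (⊥ : Subgroup G) N M bot_le hNM.le
    simp only [Subgroup.relIndex_bot_left] at h1
    rw [mul_comm]; exact h1
  -- relIndex and card N are powers of p
  obtain ⟨b, hb⟩ := (hG.to_subgroup N).exists_card_eq
  have hrdvd : N.relIndex M ∣ Nat.card G := (Subgroup.relIndex_dvd_card N M).trans (Subgroup.card_subgroup_dvd_card M)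
  obtain ⟨n, hn⟩ := hG.exists_card_eq
  rw [hn] at hrdvd
  obtain ⟨a, -, ha⟩ := (Nat.dvd_prime_pow hp).1 hrdvd
  have hane : N.relIndex M ≠ 1 := by
    rw [Ne, Subgroup.relIndex_eq_one]; exact not_le_of_gt hNM
  have ha0 : a ≠ 0 := by
    rintro rfl; rw [pow_zero] at ha; exact hane ha
  -- p^b * (p^a - 1) = p^c
  have key : p ^ b * (p ^ a - 1) = p ^ c := by
    rw [← hc, hcard, ← hrel, ha, hb, Nat.mul_sub, mul_one, mul_comm]
  have hdvd : (p ^ a - 1) ∣ p ^ c := ⟨p ^ b, by rw [← key, mul_comm]⟩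
  obtain ⟨d, -, hd⟩ := (Nat.dvd_prime_pow hp).1 hdvd
  have hpa : 1 ≤ p ^ a := Nat.one_le_pow _ _ hp.pos
  have hd0 : d = 0 := by
    by_contra hd0
    have h1 : p ∣ p ^ a - 1 := hd ▸ dvd_pow_self p hd0
    have h2 : p ∣ p ^ a := dvd_pow_self p ha0
    have h3 : p ∣ 1 := by
      have := (Nat.dvd_sub h2 h1)
      rwa [Nat.sub_sub_self hpa] at this
    exact hp.one_lt.ne' (Nat.dvd_one.1 h3)
  subst hd0
  rw [pow_zero] at hd
  have hpa2 : p ^ a = 2 := by omega
  have hp2 : p = 2 := by
    have : p ∣ 2 := hpa2 ▸ dvd_pow_self p ha0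
    exact (Nat.prime_dvd_prime_iff_eq hp Nat.prime_two).1 this
  exact ⟨hp2, by rw [ha, hpa2]⟩

end Cfsg.Agent.S4013
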