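import Cfsg.Statements.S4014
import Mathlib

set_option autoImplicit false
set_option linter.unusedSectionVars false
open Cfsg

namespace Cfsg.Agent.S4014

universe u v

/-- If `Q' ≤ M` then `Q^(k+1) ≤ M^(k)`. -/
theorem derivedSeries_succ_le_map {Q : Type*} [Group Q] (M : Subgroup Q) (hM : commutator Q ≤ M)
    (k : ℕ) : derivedSeries Q (k + 1) ≤ (derivedSeries M k).map M.subtype := by
  induction k with
  | zero =>
    rw [derivedSeries_zero, ← MonoidHom.range_eq_map, Subgroup.range_subtype, derivedSeries_one]
    exact hM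
  | succ k ih =>
    rw [derivedSeries_succ, derivedSeries_succ (G := M) k, Subgroup.map_commutator]
    exact Subgroup.commutator_mono ih ih

/-- A maximal subgroup of a finite `p`-group is normal and contains the commutator subgroup. -/
theorem coatom_props {p : ℕ} [Fact p.Prime] {Q : Type*} [Group Q] [Finite Q] (hQ : IsPGroup p Q)
    (M : Subgroup Q) (hM : IsCoatom M) : M.Normal ∧ commutator Q ≤ M ∧ p ≤ M.index := by
  have hnil : Group.IsNilpotent Q := hQ.isNilpotent
  have hN : M.Normal := Subgroup.NormalizerCondition.normal_of_coatom M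
    Group.normalizerCondition_of_isNilpotent hM
  refine ⟨hN, ?_, ?_⟩
  · -- Q' ≤ M
    rcases subsingleton_or_nontrivial (Q ⧸ M) with hs | hnt
    · exfalso
      apply hM.1
      rw [eq_top_iff]
      intro g _
      rw [← QuotientGroup.eq_one_iff]
      exact Subsingleton.elim _ _
    · have hsol : Group.IsSolvable (Q ⧸ M) := inferInstance
      have hlt := Group.IsSolvable.commutator_lt_top_of_nontrivial (Q ⧸ M)
      set C := (commutator (Q ⧸ M)).comap (QuotientGroup.mk' M) with hC
      have hMC : M ≤ C := by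
        intro g hg
        rw [hC, Subgroup.mem_comap]
        have : QuotientGroup.mk' M g = 1 := (QuotientGroup.eq_one_iff g).mpr hg
        rw [this]
        exact Subgroup.one_mem _
      have hCtop : C ≠ ⊤ := by
        intro h
        apply ne_of_lt hlt
        rw [eq_top_iff]
        intro y _
        obtain ⟨g, rfl⟩ := QuotientGroup.mk_surjective y
        have : g ∈ C := by rw [h]; exact Subgroup.mem_top g
        exact this
      have hCM : C = M := by
        by_contra hne
        exact hCtop (hM.2 C (lt_of_le_of_ne hMC (Ne.symm hne)))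
      rw [← hCM, hC, ← Subgroup.map_le_iff_le_comap, commutator_def, Subgroup.map_commutator,
        commutator_def]
      exact Subgroup.commutator_mono le_top le_top
  · obtain ⟨n, hn⟩ := hQ.index M
    rcases Nat.eq_zero_or_pos n with h0 | h0
    · exfalso
      rw [h0, pow_zero, Subgroup.index_eq_one] at hn
      exact hM.1 hn
    · rw [hn]
      calc p = p ^ 1 := (pow_one p).symm
        _ ≤ p ^ n := Nat.pow_le_pow_right (Nat.Prime.pos Fact.out) h0

/-- Key induction: in a finite `p`-group acting with all orbits of size at most `p ^ k`, the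
`k`-th derived subgroup acts trivially. -/
theorem fix_of_derived (p : ℕ) [Fact p.Prime] (k : ℕ) :
    ∀ {Q : Type u} [Group Q] [Finite Q] (_ : IsPGroup p Q) {X : Type v} [MulAction Q X]
      (_ : ∀ x : X, (MulAction.stabilizer Q x).index ≤ p ^ k) (g : Q) (_ : g ∈ derivedSeries Q k)
      (x : X), g • x = x := by
  induction k with
  | zero =>
    intro Q _ _ hQ X _ hX g _ x
    have h1 : (MulAction.stabilizer Q x).index = 1 := by
      have := hX x
      have hpos : (MulAction.stabilizer Q x).index ≠ 0 := Subgroup.index_ne_zero_of_finite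
      rw [pow_zero] at this
      omega
    rw [Subgroup.index_eq_one] at h1
    have : g ∈ MulAction.stabilizer Q x := by rw [h1]; exact Subgroup.mem_top g
    exact this
  | succ k ih =>
    intro Q _ _ hQ X _ hX g hg x
    by_cases htop : MulAction.stabilizer Q x = ⊤
    · have : g ∈ MulAction.stabilizer Q x := by rw [htop]; exact Subgroup.mem_top g
      exact this
    · obtain ⟨M, hM, hxM⟩ :=
        (eq_top_or_exists_le_coatom (MulAction.stabilizer Q x)).resolve_left htop
      obtain ⟨hN, hcomm, hpidx⟩ := coatom_props hQ M hM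
      obtain ⟨m, hm, rfl⟩ := derivedSeries_succ_le_map M hcomm k hg
      have hMp : IsPGroup p M := hQ.to_subgroup M
      have key := ih (Q := M) hMp (X := MulAction.orbit Q x) ?_ m hm
        ⟨x, MulAction.mem_orbit_self x⟩
      · have := congrArg Subtype.val key
        exact this
      · intro y
        have hy : MulAction.stabilizer Q y.1 ≤ M := by
          obtain ⟨c, hc⟩ := y.2
          have hc : c • x = y.1 := hc
          intro h hh
          rw [MulAction.mem_stabilizer_iff] at hh
          have h1 : (c⁻¹ * h * c) ∈ MulAction.stabilizer Q x := by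
            rw [MulAction.mem_stabilizer_iff, mul_smul, mul_smul]
            rw [hc, hh, ← hc, inv_smul_smul]
          have h2 := hxM h1
          have h3 := hN.conj_mem _ h2 c
          simpa [mul_assoc] using h3
        have hstab : MulAction.stabilizer M y = (MulAction.stabilizer Q y.1).subgroupOf M := by
          ext m'
          rw [MulAction.mem_stabilizer_iff, Subgroup.mem_subgroupOf, MulAction.mem_stabilizer_iff,
            Subtype.ext_iff]
          rfl
        rw [hstab]
        have h1 := Subgroup.relIndex_mul_index hy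
        have h2 := hX y.1
        rw [← h1, pow_succ] at h2
        have h3 : (MulAction.stabilizer Q y.1).relIndex M * p ≤ p ^ k * p :=
          le_trans (Nat.mul_le_mul_left _ hpidx) h2
        exact Nat.le_of_mul_le_mul_right h3 (Nat.Prime.pos Fact.out)

theorem upper (p : ℕ) [Fact p.Prime] (n : ℕ) (P : Sylow p (Equiv.Perm (Fin n))) :
    derivedSeries ↥(P : Subgroup (Equiv.Perm (Fin n))) (Nat.log p n) = ⊥ := by
  rw [eq_bot_iff]
  intro g hg
  rw [Subgroup.mem_bot]
  have hp : p.Prime := Fact.out
  have hP : IsPGroup p ↥(P : Subgroup (Equiv.Perm (Fin n))) := P.isPGroup'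
  have key := fix_of_derived p (Nat.log p n) hP (X := Fin n) ?_ g hg
  · apply Subtype.ext
    apply Equiv.ext
    intro x
    exact key x
  · intro x
    obtain ⟨j, hj⟩ := hP.index (MulAction.stabilizer ↥(P : Subgroup (Equiv.Perm (Fin n))) x)
    rw [hj]
    apply Nat.pow_le_pow_right hp.pos
    have hle : p ^ j ≤ n := by
      rw [← hj, MulAction.index_stabilizer]
      calc (MulAction.orbit ↥(P : Subgroup (Equiv.Perm (Fin n))) x).ncard
          ≤ Nat.card (Fin n) := Set.ncard_le_card _
        _ = n := by simp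
    exact Nat.le_log_of_pow_le hp.one_lt hle

open RegularWreathProduct

section
variable {D Q : Type*} [Group D] [Group Q]
variable {P : Type*} [Group P] (j : P →* D ≀ᵣ Q)

/-- The left component, as a homomorphism on the kernel of the projection to `Q`. -/
def leftHom : ((rightHom : D ≀ᵣ Q →* Q).comp j).ker →* (Q → D) where
  toFun k := (j k).left
  map_one' := by simp
  map_mul' a b := by
    have ha : (j a).right = 1 := a.2
    simp [ha]

theorem derivedSeries_ne_bot_of_wreath
    (hsurj : ∀ s : D, ∃ c : P, (j c).right = 1 ∧ (j c).left 1 = s) (n : ℕ)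
    (hD : derivedSeries D n ≠ ⊥) : derivedSeries P n ≠ ⊥ := by
  intro hP
  apply hD
  set K := ((rightHom : D ≀ᵣ Q →* Q).comp j).ker with hK
  let π : K →* D := (Pi.evalMonoidHom (fun _ : Q => D) 1).comp (leftHom j)
  have hπ : Function.Surjective π := by
    intro s
    obtain ⟨c, hc1, hc2⟩ := hsurj s
    exact ⟨⟨c, hc1⟩, hc2⟩
  rw [← map_derivedSeries_eq hπ n]
  have h1 : (derivedSeries K n).map K.subtype ≤ derivedSeries P n :=
    map_derivedSeries_le_derivedSeries _ n
  rw [hP, le_bot_iff, Subgroup.map_eq_bot_iff_of_injective _ K.subtype_injective] at h1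
  rw [h1, Subgroup.map_bot]

theorem comm_elt [DecidableEq Q] (s : D) (σ : Q) (hσ : σ ≠ 1) :
    ((⟨Pi.mulSingle 1 s, 1⟩ : D ≀ᵣ Q) * inl σ * (⟨Pi.mulSingle 1 s, 1⟩ : D ≀ᵣ Q)⁻¹ * (inl σ)⁻¹).right = 1 ∧
    ((⟨Pi.mulSingle 1 s, 1⟩ : D ≀ᵣ Q) * inl σ * (⟨Pi.mulSingle 1 s, 1⟩ : D ≀ᵣ Q)⁻¹ * (inl σ)⁻¹).left 1 = s := by
  constructor
  · simp
  · have h1 : σ⁻¹ ≠ 1 := by simpa using hσ
    simp [Pi.mulSingle_apply, h1]

end

theorem derivedSeries_commutator_le (G : Type*) [Group G] (n : ℕ) :
    (derivedSeries (commutator G) n).map (commutator G).subtype ≤ derivedSeries G (n + 1) := by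
  induction n with
  | zero =>
    rw [derivedSeries_zero, ← MonoidHom.range_eq_map, Subgroup.range_subtype]
    exact le_of_eq (derivedSeries_one G).symm
  | succ n ih =>
    rw [derivedSeries_succ, Subgroup.map_commutator, derivedSeries_succ (G := G) (n + 1)]
    exact Subgroup.commutator_mono ih ih

/-- Wreathing with a nontrivial group raises the derived length. -/
theorem wreath_succ_ne_bot {S Q : Type*} [Group S] [Group Q] (hQ : ∃ σ : Q, σ ≠ 1) (d : ℕ)
    (hd : derivedSeries S d ≠ ⊥) : derivedSeries (S ≀ᵣ Q) (d + 1) ≠ ⊥ := by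
  classical
  obtain ⟨σ, hσ⟩ := hQ
  have key := derivedSeries_ne_bot_of_wreath
    (commutator (S ≀ᵣ Q)).subtype (by
      intro s
      obtain ⟨h1, h2⟩ := comm_elt (Q := Q) s σ hσ
      refine ⟨⟨_, ?_⟩, h1, h2⟩
      rw [commutator_def]
      have := Subgroup.commutator_mem_commutator
        (Subgroup.mem_top (⟨Pi.mulSingle 1 s, 1⟩ : S ≀ᵣ Q))
        (Subgroup.mem_top (inl σ : S ≀ᵣ Q))
      rwa [commutatorElement_def] at this) d hd
  intro h
  apply key
  have h1 := derivedSeries_commutator_le (S ≀ᵣ Q) d
  rw [h, le_bot_iff, Subgroup.map_eq_bot_iff_of_injective _ (Subgroup.subtype_injective _)] at h1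
  exact h1

theorem wreath_top_ne_bot {S Q : Type*} [Group S] [Group Q] (hQ : ∃ σ : Q, σ ≠ 1) :
    derivedSeries (S ≀ᵣ Q) 0 ≠ ⊥ := by
  rw [derivedSeries_zero]
  obtain ⟨σ, hσ⟩ := hQ
  intro h
  apply hσ
  have h1 : (inl σ : S ≀ᵣ Q) ∈ (⊤ : Subgroup (S ≀ᵣ Q)) := Subgroup.mem_top _
  rw [h, Subgroup.mem_bot] at h1
  have := congrArg RegularWreathProduct.right h1
  simpa using this

/-- The iterated wreath product `G ≀ ⋯ ≀ G` (`k + 1` factors) has derived length at least `k + 1`. -/
theorem iterated_ne_bot (G : Type) [Group G] (hG : ∃ σ : G, σ ≠ 1) (k : ℕ) :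
    derivedSeries (IteratedWreathProduct G (k + 1)) k ≠ ⊥ := by
  induction k with
  | zero =>
    exact wreath_top_ne_bot (S := IteratedWreathProduct G 0) (Q := G) hG
  | succ k ih =>
    exact wreath_succ_ne_bot (S := IteratedWreathProduct G (k + 1)) (Q := G) hG k ih

theorem lower (p : ℕ) [Fact p.Prime] (n : ℕ) (P : Sylow p (Equiv.Perm (Fin n)))
    (hk : 1 ≤ Nat.log p n) :
    derivedSeries ↥(P : Subgroup (Equiv.Perm (Fin n))) (Nat.log p n - 1) ≠ ⊥ := by
  classical
  have hp : p.Prime := Fact.out
  obtain ⟨k', hk'⟩ : ∃ k', Nat.log p n = k' + 1 := ⟨Nat.log p n - 1, by omega⟩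
  have hn0 : n ≠ 0 := by
    rintro rfl
    simp at hk
  have hcardG : Nat.card (Multiplicative (ZMod p)) = p := by
    rw [Nat.card_eq_fintype_card, Fintype.card_multiplicative, ZMod.card]
  have hcard : Fintype.card (Fin (k' + 1) → Multiplicative (ZMod p)) ≤ Fintype.card (Fin n) := by
    rw [Fintype.card_fun, Fintype.card_fin, Fintype.card_fin, Fintype.card_multiplicative,
      ZMod.card, ← hk']
    exact Nat.pow_log_le_self p hn0
  obtain ⟨ι⟩ := Function.Embedding.nonempty_of_card_le hcard
  let f : IteratedWreathProduct (Multiplicative (ZMod p)) (k' + 1) →* Equiv.Perm (Fin n) :=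
    (Equiv.Perm.viaEmbeddingHom ι).comp (iteratedWreathToPermHom (Multiplicative (ZMod p)) (k' + 1))
  have hf : Function.Injective f :=
    (Equiv.Perm.viaEmbeddingHom_injective ι).comp
      (iteratedWreathToPermHomInj (Multiplicative (ZMod p)) (k' + 1))
  have hW : IsPGroup p (IteratedWreathProduct (Multiplicative (ZMod p)) (k' + 1)) :=
    IsPGroup.of_card (by rw [IteratedWreathProduct.card, hcardG])
  have hR : IsPGroup p f.range := hW.of_surjective f.rangeRestrict f.rangeRestrict_surjective
  obtain ⟨P', hP'⟩ := hR.exists_le_sylow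
  let j : IteratedWreathProduct (Multiplicative (ZMod p)) (k' + 1) →*
      ↥(P : Subgroup (Equiv.Perm (Fin n))) :=
    ((P'.equiv P).toMonoidHom).comp ((Subgroup.inclusion hP').comp f.rangeRestrict)
  have hj : Function.Injective j := by
    intro a b hab
    have h1 := (P'.equiv P).injective hab
    have h2 := Subgroup.inclusion_injective hP' h1
    have h3 := congrArg Subtype.val h2
    exact hf h3
  intro hbot
  rw [hk', Nat.add_sub_cancel] at hbot
  have h1 := map_derivedSeries_le_derivedSeries j k'
  rw [hbot, le_bot_iff, Subgroup.map_eq_bot_iff_of_injective _ hj] at h1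
  refine iterated_ne_bot (Multiplicative (ZMod p)) ?_ k' h1
  exact exists_ne 1

/-- Let p be a prime, n ≥ 1, and P a Sylow p-subgroup of the symmetric group on n letters. Then the derived length of P is exactly k = ⌊log_p n⌋ (the largest k with p^k ≤ n): the k-th derived subgroup of P is trivial and, when k ≥ 1, the (k−1)-st is not. -/
theorem result (p : ℕ) [Fact p.Prime] (n : ℕ) (hn : 1 ≤ n) (P : Sylow p (Equiv.Perm (Fin n))) : derivedSeries ↥(P : Subgroup (Equiv.Perm (Fin n))) (Nat.log p n) = ⊥ ∧ (1 ≤ Nat.log p n → derivedSeries ↥(P : Subgroup (Equiv.Perm (Fin n))) (Nat.log p n - 1) ≠ ⊥) :=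
  ⟨upper p n P, lower p n P⟩

end Cfsg.Agent.S4014
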