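import Cfsg.Statements.S4015
import Mathlib
import Cfsg.Statements.S4015
import Cfsg.Agent.S4014
import Cfsg.Agent.Lib.Helper15.LinRepLogP
import Cfsg.Agent.Lib.Helper11.WreathRep
import Cfsg.Agent.Lib.Helper66.LinRepEmbGL
import Cfsg.Agent.Lib.Helper46.S4015Base

set_option autoImplicit false
open Cfsg

namespace Cfsg.Agent.S4015

open Cfsg.Agent.Lib.Helper11.WreathRep Cfsg.Agent.Lib.Helper66.LinRepEmb Cfsg.Agent.Lib.Helper46.S4015Base
open RegularWreathProduct

universe u

/-- One stage of the tower: a finite `p`-group of derived length `> j` acting faithfully on a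
space of dimension `d`. -/
structure Stage (p : ℕ) (F : Type u) [Field F] (d : ℕ) (j : ℕ) where
  Q : Type
  [grp : Group Q]
  [fin : Finite Q]
  U : Type u
  [acg : AddCommGroup U]
  [mod : Module F U]
  [fd : FiniteDimensional F U]
  pgrp : IsPGroup p Q
  ne_bot : derivedSeries Q j ≠ ⊥
  rank : Module.finrank F U = d
  ρ : Q →* (U ≃ₗ[F] U)
  inj : Function.Injective ρ

attribute [instance] Stage.grp Stage.fin Stage.acg Stage.mod Stage.fd

theorem card_mulZMod (p : ℕ) [Fact p.Prime] : Nat.card (Multiplicative (ZMod p)) = p := by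
  rw [Nat.card_eq_fintype_card, Fintype.card_multiplicative, ZMod.card]

theorem e_pos (p : ℕ) [Fact p.Prime] (q : ℕ) (hpq : ¬ p ∣ q) : 0 < orderOf (q : ZMod p) := by
  rw [orderOf_pos_iff, isOfFinOrder_iff_pow_eq_one]
  refine ⟨p - 1, Nat.sub_pos_of_lt (Fact.out : p.Prime).one_lt, ?_⟩
  apply ZMod.pow_card_sub_one_eq_one
  rw [Ne, ZMod.natCast_eq_zero_iff]
  exact hpq

theorem stage_zero (p : ℕ) [Fact p.Prime] (F : Type u) [Field F] [Fintype F]
    (q : ℕ) (hq : Fintype.card F = q) (hpq : ¬ p ∣ q) :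
    Nonempty (Stage p F (orderOf (q : ZMod p)) 0) := by
  obtain ⟨ρ, hρ⟩ := exists_faithful_cyclic_rep p F q hq hpq
  refine ⟨{ Q := Multiplicative (ZMod p), U := Fin (orderOf (q : ZMod p)) → F,
            pgrp := IsPGroup.of_card (n := 1) (by rw [card_mulZMod, pow_one]),
            ne_bot := ?_, rank := Module.finrank_fin_fun F, ρ := ρ, inj := hρ }⟩
  rw [derivedSeries_zero]
  intro h
  have h1 : Nat.card (⊤ : Subgroup (Multiplicative (ZMod p))) = 1 := by rw [h]; simp
  rw [Subgroup.card_top, card_mulZMod] at h1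
  exact (Fact.out : p.Prime).one_lt.ne' h1

theorem stage_succ (p : ℕ) [Fact p.Prime] (F : Type u) [Field F] (d j : ℕ) (hd : 0 < d)
    (s : Stage p F d j) : Nonempty (Stage p F (d * p) (j + 1)) := by
  have hnt : Nontrivial s.U := Module.finrank_pos_iff.1 (by rw [s.rank]; exact hd)
  obtain ⟨ρ', hρ'⟩ := exists_faithful_wreath_rep (C := Multiplicative (ZMod p)) s.ρ s.inj
  obtain ⟨a, ha⟩ := IsPGroup.iff_card.1 s.pgrp
  refine ⟨{ Q := s.Q ≀ᵣ Multiplicative (ZMod p), U := Multiplicative (ZMod p) → s.U,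
            pgrp := IsPGroup.of_card (n := a * p + 1) ?_,
            ne_bot := ?_, rank := ?_, ρ := ρ', inj := hρ' }⟩
  · rw [RegularWreathProduct.card, card_mulZMod, ha, ← pow_mul, pow_succ]
  · exact Cfsg.Agent.S4014.wreath_succ_ne_bot (S := s.Q) (Q := Multiplicative (ZMod p))
      (exists_ne 1) j s.ne_bot
  · rw [Module.finrank_pi_fintype]
    simp only [s.rank, Finset.sum_const, Finset.card_univ, smul_eq_mul]
    rw [Fintype.card_multiplicative, ZMod.card, mul_comm]

theorem stage_all (p : ℕ) [Fact p.Prime] (F : Type u) [Field F] [Fintype F]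
    (q : ℕ) (hq : Fintype.card F = q) (hpq : ¬ p ∣ q) (j : ℕ) :
    Nonempty (Stage p F (orderOf (q : ZMod p) * p ^ j) j) := by
  induction j with
  | zero => simpa using stage_zero p F q hq hpq
  | succ j ih =>
    obtain ⟨s⟩ := ih
    have hd : 0 < orderOf (q : ZMod p) * p ^ j :=
      Nat.mul_pos (e_pos p q hpq) (pow_pos (Fact.out : p.Prime).pos j)
    obtain ⟨s'⟩ := stage_succ p F _ j hd s
    rw [pow_succ, ← mul_assoc]
    exact ⟨s'⟩

theorem lower (p : ℕ) [Fact p.Prime] (F : Type u) [Field F] [Fintype F] (q : ℕ)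
    (hq : Fintype.card F = q) (hpq : ¬ p ∣ q) (n : ℕ) (hn : orderOf (q : ZMod p) ≤ n)
    (P : Sylow p (Matrix.GeneralLinearGroup (Fin n) F)) :
    derivedSeries ↥(P : Subgroup (Matrix.GeneralLinearGroup (Fin n) F))
      (Nat.log p (n / orderOf (q : ZMod p))) ≠ ⊥ := by
  classical
  have hp : p.Prime := Fact.out
  set e := orderOf (q : ZMod p) with he
  have hepos : 0 < e := e_pos p q hpq
  set k := Nat.log p (n / e) with hk
  obtain ⟨s⟩ := stage_all p F q hq hpq k
  have hw : n / e ≠ 0 := by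
    have : 1 ≤ n / e := (Nat.le_div_iff_mul_le hepos).2 (by simpa using hn)
    omega
  have hle : e * p ^ k ≤ n := by
    have h1 : p ^ k ≤ n / e := Nat.pow_log_le_self p hw
    calc e * p ^ k ≤ e * (n / e) := Nat.mul_le_mul_left _ h1
      _ ≤ n := Nat.mul_div_le n e
  obtain ⟨f, hf⟩ := exists_embedding_GL s.ρ s.inj n (by rw [s.rank]; exact hle)
  have hR : IsPGroup p f.range := s.pgrp.of_surjective f.rangeRestrict f.rangeRestrict_surjective
  obtain ⟨P', hP'⟩ := hR.exists_le_sylow
  let j : s.Q →* ↥(P : Subgroup (Matrix.GeneralLinearGroup (Fin n) F)) :=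
    ((P'.equiv P).toMonoidHom).comp ((Subgroup.inclusion hP').comp f.rangeRestrict)
  have hj : Function.Injective j := by
    intro a b hab
    have h1 := (P'.equiv P).injective hab
    have h2 := Subgroup.inclusion_injective hP' h1
    have h3 := congrArg Subtype.val h2
    exact hf h3
  intro hbot
  have h1 := map_derivedSeries_le_derivedSeries j k
  rw [hbot, le_bot_iff, Subgroup.map_eq_bot_iff_of_injective _ hj] at h1
  exact s.ne_bot h1

theorem upper (p : ℕ) [Fact p.Prime] (F : Type u) [Field F] [Fintype F] (q : ℕ)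
    (hF : Fintype.card F = q) (hpq : ¬ p ∣ q) (n : ℕ) (hen : orderOf (q : ZMod p) ≤ n)
    (P : Subgroup (Matrix.GeneralLinearGroup (Fin n) F)) (hP : IsPGroup p P) [Finite P] :
    derivedSeries ↥P (Nat.log p (n / orderOf (q : ZMod p)) + 1) = ⊥ := by
  classical
  set e := orderOf (q : ZMod p) with he
  let K := AlgebraicClosure F
  let φ : Matrix.GeneralLinearGroup (Fin n) F →* Matrix.GeneralLinearGroup (Fin n) K :=
    Matrix.GeneralLinearGroup.map (algebraMap F K)
  have hφ : Function.Injective φ := by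
    intro A B hAB
    ext i j
    have h1 := congrArg (fun M : Matrix.GeneralLinearGroup (Fin n) K => M i j) hAB
    simp only [φ, Matrix.GeneralLinearGroup.map_apply] at h1
    exact (algebraMap F K).injective h1
  let ψ : Matrix.GeneralLinearGroup (Fin n) K ≃* LinearMap.GeneralLinearGroup K (Fin n → K) :=
    Matrix.GeneralLinearGroup.toLin
  let θ : LinearMap.GeneralLinearGroup K (Fin n → K) ≃* ((Fin n → K) ≃ₗ[K] (Fin n → K)) :=
    LinearMap.GeneralLinearGroup.generalLinearEquiv K _
  let ρ₂ : ↥P →* ((Fin n → K) ≃ₗ[K] (Fin n → K)) :=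
    θ.toMonoidHom.comp (ψ.toMonoidHom.comp (φ.comp P.subtype))
  have hinj : Function.Injective ρ₂ :=
    θ.injective.comp (ψ.injective.comp (hφ.comp P.subtype_injective))
  have hker : ρ₂.ker = ⊥ := (MonoidHom.ker_eq_bot_iff ρ₂).2 hinj
  have hfr : Module.finrank K (Fin n → K) = n := Module.finrank_fin_fun K
  have hqF : (q : F) = 0 := by
    rw [← hF]; exact FiniteField.cast_card_eq_zero F
  have hpF : (p : F) ≠ 0 := by
    intro hp0
    have hcop : Nat.Coprime p q := (Nat.Prime.coprime_iff_not_dvd (Fact.out : p.Prime)).2 hpq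
    obtain ⟨a, b, hab⟩ := Nat.isCoprime_iff_coprime.2 hcop
    have := congrArg (Int.cast : ℤ → F) hab
    push_cast at this
    rw [hp0, hqF] at this
    simp at this
  have hpK : (p : K) ≠ 0 := by
    intro h
    apply hpF
    apply (algebraMap F K).injective
    rw [map_natCast, map_zero]
    exact h
  have hepos : 0 < e := e_pos p q hpq
  have hcoe : ∀ z : ↥P, ((ρ₂ z : (Fin n → K) ≃ₗ[K] (Fin n → K)) : (Fin n → K) →ₗ[K] (Fin n → K)) =
      Matrix.toLinAlgEquiv' (((z : Matrix.GeneralLinearGroup (Fin n) F) :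
        Matrix (Fin n) (Fin n) F).map (algebraMap F K)) := by
    intro z
    rfl
  have H : ∀ (z : ↥P) (ζ : K), ζ ≠ 1 → Module.finrank K (Module.End.eigenspace
      ((ρ₂ z : (Fin n → K) ≃ₗ[K] (Fin n → K)) : (Fin n → K) →ₗ[K] (Fin n → K)) ζ) ≤ n / e := by
    intro z ζ hζ
    obtain ⟨a, ha⟩ := hP z
    have hA : ((z : Matrix.GeneralLinearGroup (Fin n) F) : Matrix (Fin n) (Fin n) F) ^ (p ^ a)
        = 1 := by
      have := congrArg (fun g : ↥P => ((g : Matrix.GeneralLinearGroup (Fin n) F) :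
        Matrix (Fin n) (Fin n) F)) ha
      simpa using this
    have h1 := Cfsg.Agent.Lib.Helper87.LinRep.mul_finrank_eigenspace_le (K := K) p _ a hA ζ hζ
    rw [hF, ← he] at h1
    rw [hcoe]
    rw [Nat.le_div_iff_mul_le hepos, mul_comm]
    exact h1
  have := Cfsg.Agent.Lib.Helper15.LinRepLogP.derivedSeries_le_ker_of_eigen_bound_p hpK hP (n / e) n
    (Fin n → K) ρ₂ hfr H
  rw [eq_bot_iff, ← hker]
  exact this

/-- Let p be an odd prime, F a finite field with q elements where p does not divide q, and e the multiplicative order of q modulo p. Let n ≥ e and write w = ⌊n/e⌋ and k = ⌊log_p w⌋. Then a Sylow p-subgroup of GL(n, F) has derived length exactly k + 1: its (k+1)-st derived subgroup is trivial and its k-th is not. -/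
theorem result (p : ℕ) [Fact p.Prime] (hp : p ≠ 2) (F : Type*) [Field F] [Fintype F] (q : ℕ) (hq : Fintype.card F = q) (hpq : ¬ p ∣ q) (n : ℕ) (hn : orderOf (q : ZMod p) ≤ n) (P : Sylow p (Matrix.GeneralLinearGroup (Fin n) F)) : derivedSeries ↥(P : Subgroup (Matrix.GeneralLinearGroup (Fin n) F)) (Nat.log p (n / orderOf (q : ZMod p)) + 1) = ⊥ ∧ derivedSeries ↥(P : Subgroup (Matrix.GeneralLinearGroup (Fin n) F)) (Nat.log p (n / orderOf (q : ZMod p))) ≠ ⊥ := by
  exact ⟨upper p F q hq hpq n hn _ P.isPGroup', lower p F q hq hpq n hn P⟩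

end Cfsg.Agent.S4015
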