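import Cfsg.Statements.S4016
import Cfsg.Agent.Lib.Helper30.CycSylGraph

set_option autoImplicit false
open Cfsg

namespace Cfsg.Agent.S4016

open Cfsg.Agent.Lib.Helper30.CycSyl

universe u

/-- A minimal counterexample does not exist. -/
theorem mc_false {G : Type*} [Group G] [Finite G] {p : ℕ} [hp : Fact p.Prime] (X : MC G p) :
    False := by
  by_cases hK : ∃ y ∈ X.C, (orderOf y).Coprime p ∧ y ≠ 1
  · obtain ⟨F⟩ := X.exists_phantom hK
    exact F.false_of_phantom
  · push Not at hK
    exact X.case_K1 hK

/-- Without a normal `p`-complement, some `p'`-element normalizes but does not centralize `P`. -/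
theorem exists_h_of_not_npc {G : Type*} [Group G] [Finite G] {p : ℕ} [hp : Fact p.Prime]
    (P : Sylow p G) (hcyc : IsCyclic (P : Subgroup G)) (hn : ¬ Cfsg.HasNormalPComplement p G) :
    ∃ h ∈ Subgroup.normalizer ((P : Subgroup G) : Set G), (orderOf h).Coprime p ∧
      h ∉ Subgroup.centralizer ((P : Subgroup G) : Set G) := by
  by_contra hcon
  push Not at hcon
  apply hn
  apply Cfsg.Agent.Lib.Helper2.hasNormalPComplement_of_normalizer_le_centralizer P
  intro g hg
  obtain ⟨u, v, huv, hu, hv, hup, hvc⟩ := exists_parts p g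
  have hzN : Subgroup.zpowers g ≤ Subgroup.normalizer ((P : Subgroup G) : Set G) :=
    (Subgroup.zpowers_le).mpr hg
  have hPC : (P : Subgroup G) ≤ Subgroup.centralizer ((P : Subgroup G) : Set G) := by
    intro x hx
    rw [Subgroup.mem_centralizer_iff]
    intro y hy
    have hcm : IsMulCommutative (P : Subgroup G) := hcyc.isMulCommutative
    have := hcm.is_comm.comm ⟨y, hy⟩ ⟨x, hx⟩
    simpa using congrArg Subtype.val this
  have huP : u ∈ (P : Subgroup G) := by
    obtain ⟨k, hk⟩ := hup
    have hxo : orderOf u ∣ p ^ k := orderOf_dvd_of_pow_eq_one hk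
    obtain ⟨j, -, hj⟩ := (Nat.dvd_prime_pow hp.out).mp hxo
    have hpg : IsPGroup p (Subgroup.zpowers u) :=
      IsPGroup.of_card (n := j) (by rw [Nat.card_zpowers, hj])
    have h1 := hpg.inf_normalizer_sylow P
    have h2 : u ∈ Subgroup.zpowers u ⊓ Subgroup.normalizer ((P : Subgroup G) : Set G) :=
      ⟨Subgroup.mem_zpowers u, hzN hu⟩
    have h3 : u ∈ Subgroup.zpowers u ⊓ (P : Subgroup G) := by
      rw [← h1]; exact h2
    exact h3.2
  rw [← huv]
  exact Subgroup.mul_mem _ (hPC huP) (hcon v (hzN hv) hvc)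

theorem main_aux : ∀ (n : ℕ) (G : Type u) [Group G] [Finite G], Nat.card G = n →
    ∀ (p : ℕ) [Fact p.Prime] (P : Sylow p G), IsCyclic (P : Subgroup G) →
      (∀ H : Subgroup G, ¬ p ∣ Nat.card H → IsMulCommutative H) →
      Cfsg.HasNormalPComplement p G ∨ (P : Subgroup G).Normal := by
  intro n
  induction n using Nat.strong_induction_on with
  | _ n IH =>
    intro G _ _ hn p hp P hcyc hab
    by_contra hcon
    push Not at hcon
    obtain ⟨hnpc, hnn⟩ := hcon
    obtain ⟨h, hhN, hhc, hhC⟩ := exists_h_of_not_npc P hcyc hnpc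
    have hP1 : (P : Subgroup G) ≠ ⊥ := by
      intro hb
      apply hnn
      rw [hb]; infer_instance
    obtain ⟨x₀, hx₀, hx₀o⟩ := exists_orderOf_eq_of_ne_bot p P.isPGroup' hP1
    refine mc_false (⟨P, hcyc, hab, ?_, hnn, h, hhN, hhc, hhC, x₀, hx₀, hx₀o⟩ : MC G p)
    intro M hM hPM
    have hlt : Nat.card M < n := by
      rw [← hn]
      apply lt_of_le_of_ne (Subgroup.card_le_card_group M)
      intro heq
      exact hM (Subgroup.eq_top_of_card_eq M heq)
    have hcycM : IsCyclic ((P.subtype hPM : Sylow p M) : Subgroup M) := by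
      rw [Sylow.coe_subtype]
      exact (MulEquiv.isCyclic (Subgroup.subgroupOfEquivOfLe hPM)).mpr hcyc
    have habM : ∀ H : Subgroup M, ¬ p ∣ Nat.card H → IsMulCommutative H := by
      intro H hH
      have h1 : ¬ p ∣ Nat.card (H.map M.subtype) := by
        rw [Subgroup.card_map_of_injective M.subtype_injective]; exact hH
      have h2 := hab _ h1
      refine ⟨⟨fun a b => ?_⟩⟩
      have ha : (a : M).1 ∈ H.map M.subtype := ⟨a, a.2, rfl⟩
      have hb : (b : M).1 ∈ H.map M.subtype := ⟨b, b.2, rfl⟩
      have := h2.is_comm.comm ⟨_, ha⟩ ⟨_, hb⟩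
      have h3 : (a : M).1 * (b : M).1 = (b : M).1 * (a : M).1 := congrArg Subtype.val this
      apply Subtype.ext
      apply Subtype.ext
      simpa using h3
    rcases IH (Nat.card M) hlt M rfl p (P.subtype hPM) hcycM habM with hc | hc
    · left
      obtain ⟨K, hKn, hK⟩ :=
        Cfsg.Agent.Lib.Helper2.exists_normal_complement_of_hasNormalPComplement hc (P.subtype hPM)
      have hKc : (Nat.card K).Coprime p :=
        Cfsg.Agent.Lib.Helper34.card_coprime_of_isComplement' (P.subtype hPM) K hK
      obtain ⟨k, hk⟩ := (P.subtype hPM).isPGroup'.exists_card_eq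
      have hidx : K.index = p ^ k := by
        rw [← hk]; exact hK.symm.index_eq_card
      refine ⟨K.map M.subtype, Subgroup.map_subtype_le K, ?_, ?_, ?_, ?_⟩
      · have h1 := Subgroup.le_normalizer_map (H := K) M.subtype
        rw [Subgroup.normalizer_eq_top_iff.mpr hKn] at h1
        refine le_trans ?_ h1
        intro m hm
        exact ⟨⟨m, hm⟩, Subgroup.mem_top _, rfl⟩
      · rw [Subgroup.card_map_of_injective M.subtype_injective]
        intro hd
        exact hp.out.ne_one (Nat.Coprime.eq_one_of_dvd hKc.symm hd)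
      · intro y hy hyc
        have hyo : orderOf (⟨y, hy⟩ : M) = orderOf y := Subgroup.orderOf_mk y hy
        have hmem : (⟨y, hy⟩ : M) ∈ K := by
          apply mem_of_coprime_index K
          rw [hyo, hidx]
          exact Nat.Coprime.pow_right k hyc
        exact ⟨⟨y, hy⟩, hmem, rfl⟩
      · intro m hm
        obtain ⟨⟨⟨a, ha⟩, ⟨b, hb⟩⟩, hab'⟩ := (hK.existsUnique (⟨m, hm⟩ : M)).exists
        simp only at hab'
        have hb' : (b : G) ∈ (P : Subgroup G) := by
          have : b ∈ ((P.subtype hPM : Sylow p M) : Subgroup M) := hb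
          rw [Sylow.coe_subtype, Subgroup.mem_subgroupOf] at this
          exact this
        refine ⟨a, ⟨a, ha, rfl⟩, b, hb', ?_⟩
        have := congrArg Subtype.val hab'
        simpa using this.symm
    · right
      intro m hm
      apply mem_normalizer_of_conj_mem
      intro x hx
      have hxM : (⟨x, hPM hx⟩ : M) ∈ ((P.subtype hPM : Sylow p M) : Subgroup M) := by
        rw [Sylow.coe_subtype, Subgroup.mem_subgroupOf]; exact hx
      have := hc.conj_mem _ hxM ⟨m, hm⟩
      rw [Sylow.coe_subtype, Subgroup.mem_subgroupOf] at this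
      simpa using this

/-- Let G be a finite group and p a prime such that a Sylow p-subgroup P of G is cyclic and every subgroup of G of order prime to p is abelian. Then G has a normal p-complement or P is normal in G. -/
theorem result {G : Type*} [Group G] [Finite G] {p : ℕ}
    [Fact p.Prime] (P : Sylow p G) (hcyc : IsCyclic P)
    (hab : ∀ H : Subgroup G, ¬ p ∣ Nat.card H → IsMulCommutative H) :
    Cfsg.HasNormalPComplement p G ∨ (P : Subgroup G).Normal :=
  main_aux (Nat.card G) G rfl p P hcyc hab

end Cfsg.Agent.S4016
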