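import Cfsg.Statements.S4022
import Cfsg.Agent.S0043
import Cfsg.Agent.Lib.Helper67.ComplConj
import Cfsg.Agent.Lib.Helper54.Coprime

set_option autoImplicit false
open Cfsg

namespace Cfsg.Agent.S4022

open Pointwise
open Cfsg.Agent.Lib

universe u

/-- Subgroups of equal order are conjugate. -/
def EC (G : Type u) [Group G] : Prop :=
  ∀ H K : Subgroup G, Nat.card H = Nat.card K → ∃ g : G, MulAut.conj g • H = K

theorem smul_eq_map {G : Type u} [Group G] (g : G) (H : Subgroup G) :
    MulAut.conj g • H = H.map (MulAut.conj g).toMonoidHom := rfl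

theorem exists_minimal_normal {G : Type u} [Group G] [Finite G] [Nontrivial G] :
    ∃ N : Subgroup G, N.Normal ∧ N ≠ ⊥ ∧
      ∀ M : Subgroup G, M.Normal → M ≤ N → M = ⊥ ∨ M = N := by
  have hne : {M : Subgroup G | M.Normal ∧ M ≠ ⊥}.Nonempty := ⟨⊤, inferInstance, top_ne_bot⟩
  obtain ⟨N, ⟨hNn, hN⟩, hmin⟩ := wellFounded_lt.has_min _ hne
  refine ⟨N, hNn, hN, fun M hM hMN => ?_⟩
  by_contra hcon
  push Not at hcon
  exact hmin M ⟨hM, hcon.1⟩ (lt_of_le_of_ne hMN hcon.2)

/-- In a finite cyclic group, a subgroup of prime order `p` contains all `x` with `x ^ p = 1`. -/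
theorem cyc_unique {Q : Type u} [Group Q] [Finite Q] [IsCyclic Q] (p : ℕ) (hp : p.Prime)
    (N : Subgroup Q) (hN : Nat.card N = p) (x : Q) (hx : x ^ p = 1) : x ∈ N := by
  let _ : CommGroup Q := IsCyclic.commGroup
  have hle : N ≤ (powMonoidHom p : Q →* Q).ker := by
    intro n hn
    rw [MonoidHom.mem_ker, powMonoidHom_apply]
    have := pow_card_eq_one' (G := N) (x := ⟨n, hn⟩)
    rw [hN] at this
    exact congrArg Subtype.val this
  have hcard : Nat.card (powMonoidHom p : Q →* Q).ker ≤ Nat.card N := by
    rw [IsCyclic.card_powMonoidHom_ker, hN]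
    exact Nat.le_of_dvd hp.pos (Nat.gcd_dvd_right _ _)
  have heq := Subgroup.eq_of_le_of_card_ge hle hcard
  rw [heq, MonoidHom.mem_ker, powMonoidHom_apply]
  exact hx

theorem card_dvd_of_cyclic_exp {Q : Type u} [Group Q] [IsCyclic Q] (p : ℕ)
    (h : ∀ x : Q, x ^ p = 1) : Nat.card Q ∣ p := by
  rw [← IsCyclic.exponent_eq_card]
  exact Monoid.exponent_dvd_of_forall_pow_eq_one h

theorem map_conj_smul' {G G' : Type u} [Group G] [Group G'] (f : G →* G') (g : G) (H : Subgroup G) :
    (MulAut.conj g • H).map f = MulAut.conj (f g) • (H.map f) := by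
  rw [smul_eq_map, smul_eq_map, Subgroup.map_map, Subgroup.map_map]
  congr 1
  ext x
  simp

theorem normal_le_conj {G : Type u} [Group G] (N : Subgroup G) [hN : N.Normal] (g : G)
    {H : Subgroup G} (h : N ≤ H) : N ≤ MulAut.conj g • H := by
  intro n hn
  rw [Helper54.mem_conj_smul_iff]
  apply h
  have := hN.conj_mem n hn g⁻¹
  simpa using this

/-- Step A: a normal subgroup of prime order containing all elements of that order. -/
theorem stepA {G : Type u} [Group G] [Finite G] (N : Subgroup G) [N.Normal] (p : ℕ) (hp : p.Prime)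
    (hN : Nat.card N = p) (hall : ∀ x : G, orderOf x = p → x ∈ N)
    (hq : EC (G ⧸ N)) : EC G := by
  intro H K hHK
  have : Fact p.Prime := ⟨hp⟩
  have hle : ∀ L : Subgroup G, p ∣ Nat.card L → N ≤ L := by
    intro L hL
    obtain ⟨x, hx⟩ := exists_prime_orderOf_dvd_card' p hL
    have hx' : orderOf (x : G) = p := by rw [Subgroup.orderOf_coe]; exact hx
    have hxN : (x : G) ∈ N := hall _ hx'
    have h1 : Subgroup.zpowers (x : G) = N := by
      apply Subgroup.eq_of_le_of_card_ge
      · rwa [Subgroup.zpowers_le]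
      · rw [Nat.card_zpowers, hx', hN]
    rw [← h1, Subgroup.zpowers_le]
    exact x.2
  have hsolN : Group.IsSolvable N := by
    have : IsCyclic N := isCyclic_of_prime_card hN
    let _ : CommGroup N := IsCyclic.commGroup
    infer_instance
  by_cases hpH : p ∣ Nat.card H
  · have hNH : N ≤ H := hle H hpH
    have hNK : N ≤ K := hle K (hHK ▸ hpH)
    have hcardmap : ∀ L : Subgroup G, N ≤ L →
        Nat.card (L.map (QuotientGroup.mk' N)) * L.index = Nat.card (G ⧸ N) := by
      intro L hL
      rw [← Subgroup.index_map_eq L (QuotientGroup.mk'_surjective N)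
        (by rw [QuotientGroup.ker_mk']; exact hL)]
      exact Subgroup.card_mul_index _
    have hidx : H.index = K.index := by
      have h1 := H.card_mul_index
      have h2 := K.card_mul_index
      rw [← h2, hHK] at h1
      exact Nat.eq_of_mul_eq_mul_left Nat.card_pos h1
    have hc : Nat.card (H.map (QuotientGroup.mk' N)) = Nat.card (K.map (QuotientGroup.mk' N)) := by
      have h1 := hcardmap H hNH
      have h2 := hcardmap K hNK
      rw [← h2, hidx] at h1
      have hpos : 0 < K.index := Nat.pos_of_ne_zero (Subgroup.index_ne_zero_of_finite)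
      exact Nat.eq_of_mul_eq_mul_right hpos h1
    obtain ⟨g', hg'⟩ := hq _ _ hc
    obtain ⟨g, rfl⟩ := QuotientGroup.mk'_surjective N g'
    refine ⟨g, ?_⟩
    rw [← map_conj_smul'] at hg'
    have h3 := congrArg (Subgroup.comap (QuotientGroup.mk' N)) hg'
    rwa [Subgroup.comap_map_eq_self (by rw [QuotientGroup.ker_mk']; exact normal_le_conj N g hNH),
      Subgroup.comap_map_eq_self (by rw [QuotientGroup.ker_mk']; exact hNK)] at h3
  · have hpK : ¬ p ∣ Nat.card K := hHK ▸ hpH
    have hcardmap : ∀ L : Subgroup G, ¬ p ∣ Nat.card L →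
        Nat.card (L.map (QuotientGroup.mk' N)) = Nat.card L := by
      intro L hL
      have hinj : Function.Injective ((QuotientGroup.mk' N).comp L.subtype) := by
        rw [injective_iff_map_eq_one]
        intro x hx
        have hxN : (x : G) ∈ N := by
          have : (QuotientGroup.mk' N) (x : G) = 1 := hx
          rwa [← MonoidHom.mem_ker, QuotientGroup.ker_mk'] at this
        have hbot : N ⊓ L = ⊥ := by
          apply Disjoint.eq_bot
          apply Subgroup.disjoint_of_coprime_natCard
          rw [hN]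
          exact (Nat.Prime.coprime_iff_not_dvd hp).mpr hL
        have : (x : G) ∈ N ⊓ L := ⟨hxN, x.2⟩
        rw [hbot, Subgroup.mem_bot] at this
        exact Subtype.ext this
      have hrange : ((QuotientGroup.mk' N).comp L.subtype).range = L.map (QuotientGroup.mk' N) := by
        rw [MonoidHom.range_comp, Subgroup.range_subtype]
      rw [← hrange]
      exact (Nat.card_congr (MonoidHom.ofInjective hinj).toEquiv).symm
    have hc : Nat.card (H.map (QuotientGroup.mk' N)) = Nat.card (K.map (QuotientGroup.mk' N)) := by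
      rw [hcardmap H hpH, hcardmap K hpK, hHK]
    obtain ⟨g', hg'⟩ := hq _ _ hc
    obtain ⟨g, rfl⟩ := QuotientGroup.mk'_surjective N g'
    rw [← map_conj_smul'] at hg'
    have h3 := congrArg (Subgroup.comap (QuotientGroup.mk' N)) hg'
    rw [Subgroup.comap_map_eq, Subgroup.comap_map_eq, QuotientGroup.ker_mk'] at h3
    have hcH : (Nat.card N).Coprime (Nat.card (MulAut.conj g • H : Subgroup G)) := by
      rw [Helper54.card_conj_smul, hN]
      exact (Nat.Prime.coprime_iff_not_dvd hp).mpr hpH
    have hcK : (Nat.card N).Coprime (Nat.card K) := by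
      rw [hN]
      exact (Nat.Prime.coprime_iff_not_dvd hp).mpr hpK
    obtain ⟨m, -, hm⟩ := Helper67.exists_mem_conj_smul_eq_of_sup_eq h3 hcH hcK (Or.inl hsolN)
    refine ⟨m * g, ?_⟩
    rw [map_mul, mul_smul]
    exact hm


/-- Conjugating inside a subgroup `S` whose equal-order subgroups are conjugate. -/
theorem EC_sub {G : Type u} [Group G] (S : Subgroup G) (h : EC S) (U V : Subgroup G)
    (hU : U ≤ S) (hV : V ≤ S) (hc : Nat.card U = Nat.card V) :
    ∃ s ∈ S, MulAut.conj s • U = V := by
  have hc' : Nat.card (U.subgroupOf S) = Nat.card (V.subgroupOf S) := by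
    rw [Helper1.card_subgroupOf_of_le hU, Helper1.card_subgroupOf_of_le hV, hc]
  obtain ⟨s, hs⟩ := h _ _ hc'
  refine ⟨s, s.2, ?_⟩
  have h1 := congrArg (Subgroup.map S.subtype) hs
  rw [Helper54.map_conj_smul] at h1
  rwa [Subgroup.map_subgroupOf_eq_of_le hU, Subgroup.map_subgroupOf_eq_of_le hV] at h1

theorem conj_inf_abelian {G : Type u} [Group G] (N : Subgroup G)
    (hab : ∀ a ∈ N, ∀ b ∈ N, a * b = b * a) (m : G) (hm : m ∈ N) (H : Subgroup G) :
    (MulAut.conj m • H) ⊓ N = H ⊓ N := by
  ext x
  rw [Subgroup.mem_inf, Subgroup.mem_inf, Helper54.mem_conj_smul_iff]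
  constructor
  · rintro ⟨h1, h2⟩
    refine ⟨?_, h2⟩
    have : m⁻¹ * x * m = x := by
      rw [mul_assoc, hab x h2 m hm, ← mul_assoc, inv_mul_cancel, one_mul]
    rwa [this] at h1
  · rintro ⟨h1, h2⟩
    refine ⟨?_, h2⟩
    have : m⁻¹ * x * m = x := by
      rw [mul_assoc, hab x h2 m hm, ← mul_assoc, inv_mul_cancel, one_mul]
    rwa [this]

theorem stepB1 {G : Type u} [Group G] [Finite G] (N : Subgroup G) [N.Normal]
    (hab : ∀ a ∈ N, ∀ b ∈ N, a * b = b * a)
    (hcop : (Nat.card N).Coprime N.index) (T : Subgroup G) (hT : Subgroup.IsComplement' N T)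
    (H : Subgroup G) :
    ∃ m ∈ N, ∃ U : Subgroup G, U ≤ T ∧ U ≤ MulAut.conj m • H ∧
      Nat.card (H ⊓ N : Subgroup G) * Nat.card U = Nat.card H := by
  have hidx : N.relIndex H ∣ N.index := Subgroup.relIndex_dvd_index_of_normal N H
  have hcop1 : (Nat.card (N ⊓ H : Subgroup G)).Coprime (N.relIndex H) :=
    Nat.Coprime.coprime_dvd_left (Subgroup.card_dvd_of_le inf_le_left)
      (Nat.Coprime.coprime_dvd_right hidx hcop)
  have hHn : H ≤ Subgroup.normalizer (N : Set G) := by
    rw [Subgroup.normalizer_eq_top]; exact le_top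
  obtain ⟨B, hBH, hBcard⟩ := Helper54.exists_complement_rel H N hHn hcop1
  have hcopB : (Nat.card N).Coprime (Nat.card B) := by
    rw [hBcard]; exact Nat.Coprime.coprime_dvd_right hidx hcop
  have hcardT : Nat.card T = N.index := by
    have h1 := hT.card_mul_card
    have h2 := N.card_mul_index
    rw [← h2] at h1
    exact Nat.eq_of_mul_eq_mul_left Nat.card_pos h1
  set U : Subgroup G := T ⊓ (B ⊔ N) with hU
  have hsup : B ⊔ N = U ⊔ N := by
    apply le_antisymm
    · apply sup_le _ le_sup_right
      intro b hb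
      have hbm : b ∈ ((N ⊔ T : Subgroup G) : Set G) := by
        rw [hT.sup_eq_top]; trivial
      rw [Subgroup.normal_mul] at hbm
      obtain ⟨n, hn, t, ht, hnt⟩ := Set.mem_mul.mp hbm
      have htX : t ∈ B ⊔ N := by
        have : t = n⁻¹ * b := by rw [← hnt]; group
        rw [this]
        exact Subgroup.mul_mem _ (Subgroup.mem_sup_right (N.inv_mem hn)) (Subgroup.mem_sup_left hb)
      rw [← hnt]
      exact Subgroup.mul_mem _ (Subgroup.mem_sup_right hn) (Subgroup.mem_sup_left ⟨ht, htX⟩)
    · exact sup_le inf_le_right le_sup_right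
  have hcopU : (Nat.card N).Coprime (Nat.card U) := by
    apply Nat.Coprime.coprime_dvd_right _ hcop
    rw [← hcardT]
    exact Subgroup.card_dvd_of_le inf_le_left
  have hsolN : Group.IsSolvable N :=
    Group.isSolvable_of_comm (fun a b => Subtype.ext (hab a a.2 b b.2))
  obtain ⟨m, hm, hconj⟩ := Helper67.exists_mem_conj_smul_eq_of_sup_eq hsup hcopB hcopU (Or.inl hsolN)
  refine ⟨m, hm, U, inf_le_left, ?_, ?_⟩
  · rw [← hconj]; exact Helper54.conj_smul_le_conj_smul hBH
  · rw [← hconj, Helper54.card_conj_smul, hBcard, inf_comm]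
    have := Helper54.card_mul_relIndex (inf_le_right : N ⊓ H ≤ H)
    rwa [Subgroup.inf_relIndex_right] at this

/-- Step B: a normal abelian Hall subgroup with a complement all of whose subgroups satisfy `EC`. -/
theorem stepB {G : Type u} [Group G] [Finite G] (N : Subgroup G) [N.Normal]
    (hab : ∀ a ∈ N, ∀ b ∈ N, a * b = b * a)
    (hcop : (Nat.card N).Coprime N.index) (T : Subgroup G) (hT : Subgroup.IsComplement' N T)
    (hZ : ∀ S : Subgroup G, S ≤ T → EC S)
    (hN : ∀ A B : Subgroup G, A ≤ N → B ≤ N → Nat.card A = Nat.card B →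
      ∃ g : G, MulAut.conj g • A = B) : EC G := by
  intro H K hHK
  have key : ∀ L : Subgroup G, Nat.card (L ⊓ N : Subgroup G) = Nat.gcd (Nat.card L) (Nat.card N) := by
    intro L
    have h1 := Helper54.card_mul_relIndex (inf_le_right : N ⊓ L ≤ L)
    rw [Subgroup.inf_relIndex_right] at h1
    have hidx : N.relIndex L ∣ N.index := Subgroup.relIndex_dvd_index_of_normal N L
    have hc : (N.relIndex L).Coprime (Nat.card N) :=
      (Nat.Coprime.coprime_dvd_right hidx hcop).symm
    rw [← h1, Nat.Coprime.gcd_mul_right_cancel _ hc, inf_comm]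
    exact (Nat.gcd_eq_left (Subgroup.card_dvd_of_le inf_le_left)).symm
  have hinf : Nat.card (H ⊓ N : Subgroup G) = Nat.card (K ⊓ N : Subgroup G) := by
    rw [key, key, hHK]
  obtain ⟨g, hg⟩ := hN _ _ inf_le_right inf_le_right hinf
  set H₁ : Subgroup G := MulAut.conj g • H with hH₁
  have hH₁N : H₁ ⊓ N = K ⊓ N := by
    rw [← hg, Subgroup.smul_inf, Subgroup.Normal.conj_smul_eq_self g N]
  have hcH₁ : Nat.card H₁ = Nat.card H := Helper54.card_conj_smul g H
  obtain ⟨m1, hm1, U, hUT, hUH, hcU⟩ := stepB1 N hab hcop T hT H₁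
  obtain ⟨m2, hm2, V, hVT, hVK, hcV⟩ := stepB1 N hab hcop T hT K
  set H₂ : Subgroup G := MulAut.conj m1 • H₁ with hH₂
  set K₂ : Subgroup G := MulAut.conj m2 • K with hK₂
  have hH₂N : H₂ ⊓ N = K ⊓ N := by rw [hH₂, conj_inf_abelian N hab m1 hm1, hH₁N]
  have hK₂N : K₂ ⊓ N = K ⊓ N := by rw [hK₂, conj_inf_abelian N hab m2 hm2]
  have hUV : Nat.card U = Nat.card V := by
    rw [hH₁N, hcH₁, hHK, ← hcV] at hcU
    exact Nat.eq_of_mul_eq_mul_left Nat.card_pos hcU
  have hNT : N ⊓ T = ⊥ := (Subgroup.IsComplement'.disjoint hT).eq_bot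
  have hnorm : ∀ L : Subgroup G, L ≤ Subgroup.normalizer ((L ⊓ N : Subgroup G) : Set G) := by
    intro L
    apply Helper54.le_normalizer_inf Subgroup.le_normalizer
    rw [Subgroup.normalizer_eq_top]; exact le_top
  set S : Subgroup G := T ⊓ Subgroup.normalizer ((K ⊓ N : Subgroup G) : Set G) with hS
  have hUS : U ≤ S := by
    apply le_inf hUT
    rw [← hH₂N]
    exact hUH.trans (hnorm H₂)
  have hVS : V ≤ S := by
    apply le_inf hVT
    rw [← hK₂N]
    exact hVK.trans (hnorm K₂)
  obtain ⟨s, hsS, hs⟩ := EC_sub S (hZ S inf_le_left) U V hUS hVS hUV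
  have hdecomp : ∀ (L W : Subgroup G), L ⊓ N = K ⊓ N → W ≤ T → W ≤ L →
      Nat.card (K ⊓ N : Subgroup G) * Nat.card W = Nat.card L → L = (K ⊓ N) ⊔ W := by
    intro L W hLN hWT hWL hcard
    symm
    apply Subgroup.eq_of_le_of_card_ge
    · exact sup_le (hLN ▸ inf_le_left) hWL
    · have hdisj : (K ⊓ N) ⊓ W = ⊥ := by
        apply le_bot_iff.mp
        rw [← hNT]
        exact le_inf (inf_le_left.trans inf_le_right) (inf_le_right.trans hWT)
      have hWn : W ≤ Subgroup.normalizer ((K ⊓ N : Subgroup G) : Set G) := by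
        rw [← hLN]; exact hWL.trans (hnorm L)
      rw [Helper54.card_sup_of_le_normalizer hWn hdisj, hcard]
  have hH₂d : H₂ = (K ⊓ N) ⊔ U := by
    apply hdecomp H₂ U hH₂N hUT hUH
    rw [hH₂, Helper54.card_conj_smul, ← hH₁N]
    exact hcU
  have hK₂d : K₂ = (K ⊓ N) ⊔ V := by
    apply hdecomp K₂ V hK₂N hVT hVK
    rw [hK₂, Helper54.card_conj_smul]
    exact hcV
  have hsK : MulAut.conj s • (K ⊓ N) = K ⊓ N :=
    Helper54.mem_normalizer_iff_conj_smul.mp hsS.2
  have hfinal : MulAut.conj s • H₂ = K₂ := by
    rw [hH₂d, Subgroup.smul_sup, hsK, hs, ← hK₂d]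
  refine ⟨m2⁻¹ * s * m1 * g, ?_⟩
  rw [map_mul, map_mul, map_mul, mul_smul, mul_smul, mul_smul, ← hH₁, ← hH₂, hfinal, hK₂, map_inv,
    inv_smul_smul]


theorem normal_le_sylow {G : Type u} [Group G] [Finite G] {p : ℕ} [Fact p.Prime] (N : Subgroup G)
    [N.Normal] (hN : IsPGroup p N) (Q : Sylow p G) : N ≤ Q := by
  obtain ⟨P, hP⟩ := hN.exists_le_sylow
  obtain ⟨g, rfl⟩ := MulAction.exists_smul_eq G P Q
  rw [Sylow.coe_subgroup_smul, ← Subgroup.Normal.conj_smul_eq_self g N]
  exact Helper54.conj_smul_le_conj_smul hP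

theorem isPGroup_of_exp {G : Type u} [Group G] (N : Subgroup G) (p : ℕ)
    (hexp : ∀ x ∈ N, x ^ p = 1) : IsPGroup p N := by
  intro x
  refine ⟨1, ?_⟩
  rw [pow_one]
  exact Subtype.ext (by simpa using hexp x x.2)

theorem card_quot_lt {G : Type u} [Group G] [Finite G] (N : Subgroup G) [N.Normal] (hN : N ≠ ⊥) :
    Nat.card (G ⧸ N) < Nat.card G := by
  rw [N.card_eq_card_quotient_mul_card_subgroup]
  have h1 : 1 < Nat.card N := by
    rcases Nat.lt_or_ge 1 (Nat.card N) with h | h
    · exact h
    · exfalso
      have : Nat.card N = 1 := le_antisymm h Nat.card_pos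
      exact hN (Subgroup.card_eq_one.mp this)
  have h2 : 0 < Nat.card (G ⧸ N) := Nat.card_pos
  nlinarith

/-- Z-groups: subgroups of equal order are conjugate. -/
theorem zgroup_EC : ∀ (n : ℕ) (G : Type u) [Group G] [Finite G] [IsZGroup G],
    Nat.card G = n → EC G := by
  intro n
  induction n using Nat.strong_induction_on with
  | _ n ih =>
    intro G _ _ _ hn
    rcases subsingleton_or_nontrivial G with hs | hnt
    · intro H K _
      exact ⟨1, Subsingleton.elim _ _⟩
    · obtain ⟨N, hNn, hN, hmin⟩ := exists_minimal_normal (G := G)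
      obtain ⟨hNc, p, hp, hexp⟩ := S0043.result N hN hmin
      have : Fact p.Prime := ⟨hp⟩
      have hNp : IsPGroup p N := isPGroup_of_exp N p hexp
      have hcardN : Nat.card N = p := by
        obtain ⟨P, hNP⟩ := hNp.exists_le_sylow
        have hcyc : IsCyclic (N.subgroupOf P) := inferInstance
        have hd : Nat.card (N.subgroupOf P) ∣ p := by
          apply card_dvd_of_cyclic_exp p
          intro x
          apply Subtype.ext
          apply Subtype.ext
          have := hexp (x : P) (Subgroup.mem_subgroupOf.mp x.2)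
          simpa using this
        rw [Helper1.card_subgroupOf_of_le hNP] at hd
        rcases (Nat.dvd_prime hp).mp hd with h1 | h1
        · exact absurd (Subgroup.card_eq_one.mp h1) hN
        · exact h1
      have hall : ∀ x : G, orderOf x = p → x ∈ N := by
        intro x hx
        have hzp : IsPGroup p (Subgroup.zpowers x) :=
          IsPGroup.of_card (n := 1) (by rw [Nat.card_zpowers, hx, pow_one])
        obtain ⟨Q, hxQ⟩ := hzp.exists_le_sylow
        have hNQ : N ≤ Q := normal_le_sylow N hNp Q
        have hxQ' : x ∈ (Q : Subgroup G) := hxQ (Subgroup.mem_zpowers x)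
        have h1 := cyc_unique (Q := (Q : Subgroup G)) p hp (N.subgroupOf Q)
          (by rw [Helper1.card_subgroupOf_of_le hNQ, hcardN]) ⟨x, hxQ'⟩
          (by apply Subtype.ext; simp [← hx, pow_orderOf_eq_one])
        exact Subgroup.mem_subgroupOf.mp h1
      have hlt : Nat.card (G ⧸ N) < n := hn ▸ card_quot_lt N hN
      exact stepA N p hp hcardN hall (ih _ hlt (G ⧸ N) rfl)

theorem lift_pgroup {G : Type u} [Group G] [Finite G] (N : Subgroup G) [N.Normal] (p : ℕ)
    [Fact p.Prime] (H' : Subgroup (G ⧸ N)) (hH' : IsPGroup p H') :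
    ∃ H₀ : Subgroup G, IsPGroup p H₀ ∧ H₀.map (QuotientGroup.mk' N) = H' ∧
      Nat.card H₀ = p ^ ((Nat.card H' * Nat.card N).factorization p) := by
  set H : Subgroup G := H'.comap (QuotientGroup.mk' N) with hH
  obtain ⟨Q⟩ : Nonempty (Sylow p H) := inferInstance
  refine ⟨(Q : Subgroup H).map H.subtype, Q.isPGroup'.map _, ?_, ?_⟩
  · let f : H →* H' := (QuotientGroup.mk' N).subgroupComap H'
    have hf : Function.Surjective f :=
      (QuotientGroup.mk' N).subgroupComap_surjective_of_surjective H'
        (QuotientGroup.mk'_surjective N)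
    have h1 : ((Q : Subgroup H).map f).index ∣ (Q : Subgroup H).index :=
      Subgroup.index_map_dvd _ hf
    have h2 : ((Q : Subgroup H).map f).index ∣ Nat.card H' := Subgroup.index_dvd_card _
    obtain ⟨a, ha⟩ := IsPGroup.iff_card.mp hH'
    have h3 : ((Q : Subgroup H).map f).index = 1 := by
      have hc : ((Q : Subgroup H).index).Coprime (p ^ a) :=
        ((Nat.Prime.coprime_iff_not_dvd Fact.out).mpr Q.not_dvd_index).symm.pow_right a
      rw [ha] at h2
      exact Nat.Coprime.eq_one_of_dvd (hc.coprime_dvd_left h1) h2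
    have h4 : (Q : Subgroup H).map f = ⊤ := Subgroup.index_eq_one.mp h3
    rw [Subgroup.map_map]
    have h5 : (QuotientGroup.mk' N).comp H.subtype = H'.subtype.comp f := rfl
    rw [h5, ← Subgroup.map_map, h4, ← MonoidHom.range_eq_map, Subgroup.range_subtype]
  · rw [Subgroup.card_map_of_injective H.subtype_injective, Sylow.card_eq_multiplicity]
    congr 2
    have i1 : H.index = H'.index :=
      Subgroup.index_comap_of_surjective H' (QuotientGroup.mk'_surjective N)
    have c1 := H.card_mul_index
    have c2 := H'.card_mul_index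
    have c3 := N.card_eq_card_quotient_mul_card_subgroup
    rw [c3, ← c2, ← i1] at c1
    have hpos : 0 < H.index := Nat.pos_of_ne_zero Subgroup.index_ne_zero_of_finite
    have c4 : Nat.card H = Nat.card H' * Nat.card N := by
      apply Nat.eq_of_mul_eq_mul_right hpos
      rw [c1]; ring
    rw [c4]


theorem main : ∀ (n : ℕ) (G : Type u) [Group G] [Finite G] [Group.IsSolvable G], Nat.card G = n →
    (∀ p : ℕ, p.Prime → ∀ H K : Subgroup G, IsPGroup p H → IsPGroup p K →
      Nat.card H = Nat.card K → ∃ g : G, MulAut.conj g • H = K) →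
    ∀ r : ℕ, (∀ p : ℕ, p.Prime → p ≠ r → ∀ P : Sylow p G, IsCyclic P) → EC G := by
  intro n
  induction n using Nat.strong_induction_on with
  | _ n ih =>
    intro G _ _ _ hn hD r hcyc
    rcases subsingleton_or_nontrivial G with hs | hnt
    · intro H K _
      exact ⟨1, Subsingleton.elim _ _⟩
    · obtain ⟨N, hNn, hN, hmin⟩ := exists_minimal_normal (G := G)
      obtain ⟨hNc, p, hp, hexp⟩ := S0043.result N hN hmin
      have : Fact p.Prime := ⟨hp⟩
      have hNp : IsPGroup p N := isPGroup_of_exp N p hexp
      obtain ⟨y, hyN, hy1⟩ : ∃ y ∈ N, y ≠ 1 := by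
        by_contra hcon
        push Not at hcon
        exact hN ((Subgroup.eq_bot_iff_forall _).mpr hcon)
      have hyo : orderOf y = p := orderOf_eq_prime (hexp y hyN) hy1
      have hconjN : ∀ (g : G) (A : Subgroup G), A ≤ N → MulAut.conj g • A ≤ N := by
        intro g A hA
        have h1 := Helper54.conj_smul_le_conj_smul (g := g) hA
        rwa [Subgroup.Normal.conj_smul_eq_self g N] at h1
      have hall : ∀ x : G, orderOf x = p → x ∈ N := by
        intro x hx
        have h1 : IsPGroup p (Subgroup.zpowers x) :=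
          IsPGroup.of_card (n := 1) (by rw [Nat.card_zpowers, hx, pow_one])
        have h2 : IsPGroup p (Subgroup.zpowers y) :=
          IsPGroup.of_card (n := 1) (by rw [Nat.card_zpowers, hyo, pow_one])
        obtain ⟨g, hg⟩ := hD p hp _ _ h2 h1 (by rw [Nat.card_zpowers, Nat.card_zpowers, hx, hyo])
        have h3 := hconjN g _ ((Subgroup.zpowers_le).mpr hyN)
        rw [hg] at h3
        exact h3 (Subgroup.mem_zpowers x)
      have hlt : Nat.card (G ⧸ N) < n := hn ▸ card_quot_lt N hN
      by_cases hcard : Nat.card N = p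
      · refine stepA N p hp hcard hall (ih _ hlt (G ⧸ N) rfl ?_ r ?_)
        · intro q hq H' K' hH' hK' hc
          have : Fact q.Prime := ⟨hq⟩
          obtain ⟨H₀, hH₀, hH₀m, hH₀c⟩ := lift_pgroup N q H' hH'
          obtain ⟨K₀, hK₀, hK₀m, hK₀c⟩ := lift_pgroup N q K' hK'
          obtain ⟨g, hg⟩ := hD q hq H₀ K₀ hH₀ hK₀ (by rw [hH₀c, hK₀c, hc])
          refine ⟨QuotientGroup.mk' N g, ?_⟩
          rw [← hH₀m, ← map_conj_smul', hg, hK₀m]
        · intro q hq hqr P'
          have : Fact q.Prime := ⟨hq⟩
          obtain ⟨Q, rfl⟩ := Sylow.mapSurjective_surjective (QuotientGroup.mk'_surjective N) q P'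
          have := hcyc q hq hqr Q
          exact isCyclic_of_surjective _ ((QuotientGroup.mk' N).subgroupMap_surjective Q)
      · obtain ⟨k, hk⟩ := IsPGroup.iff_card.mp hNp
        have hk2 : 2 ≤ k := by
          rcases k with _ | _ | k
          · exfalso
            rw [pow_zero] at hk
            exact hN (Subgroup.card_eq_one.mp hk)
          · exfalso
            rw [zero_add, pow_one] at hk
            exact hcard hk
          · omega
        obtain ⟨E', hE'⟩ := Sylow.exists_subgroup_card_pow_prime (G := N) p (n := 2)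
          (by rw [hk]; exact pow_dvd_pow p hk2)
        set E : Subgroup G := E'.map N.subtype with hE
        have hEN : E ≤ N := Subgroup.map_subtype_le E'
        have hEc : Nat.card E = p ^ 2 := by
          rw [hE, Subgroup.card_map_of_injective N.subtype_injective]; exact hE'
        have hpel : ∀ x : G, (∃ j, orderOf x = p ^ j) → x ∈ N := by
          rintro x ⟨j, hj⟩
          rcases j with _ | _ | j
          · rw [pow_zero, orderOf_eq_one_iff] at hj
            rw [hj]; exact N.one_mem
          · rw [zero_add, pow_one] at hj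
            exact hall x hj
          · exfalso
            set y' := x ^ (p ^ j) with hy'def
            have hy' : orderOf y' = p ^ 2 := by
              rw [hy'def, orderOf_pow_of_dvd (pow_ne_zero _ hp.ne_zero)
                (by rw [hj]; exact pow_dvd_pow p (by omega)), hj]
              rw [show j + 1 + 1 = j + 2 by ring, pow_add,
                Nat.mul_div_cancel_left _ (pow_pos hp.pos j)]
            have h1 : IsPGroup p (Subgroup.zpowers y') :=
              IsPGroup.of_card (n := 2) (by rw [Nat.card_zpowers, hy'])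
            have h2 : IsPGroup p E := IsPGroup.of_card hEc
            obtain ⟨g, hg⟩ := hD p hp E _ h2 h1 (by rw [hEc, Nat.card_zpowers, hy'])
            have h3 := hconjN g E hEN
            rw [hg] at h3
            have hy'N : y' ∈ N := h3 (Subgroup.mem_zpowers y')
            have h4 : orderOf y' ∣ p := orderOf_dvd_of_pow_eq_one (hexp y' hy'N)
            rw [hy'] at h4
            have h5 := Nat.le_of_dvd hp.pos h4
            nlinarith [hp.two_le]
        obtain ⟨P, hNP⟩ := hNp.exists_le_sylow
        have hPN : (P : Subgroup G) ≤ N := by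
          intro x hx
          apply hpel
          obtain ⟨j, hj⟩ := P.isPGroup' ⟨x, hx⟩
          rw [exists_orderOf_eq_prime_pow_iff]
          refine ⟨j, ?_⟩
          have := congrArg Subtype.val hj
          simpa using this
        have hNeq : N = P := le_antisymm hNP hPN
        have hcop : (Nat.card N).Coprime N.index := by
          rw [hNeq]; exact P.card_coprime_index
        have hpr : p = r := by
          by_contra hne
          have hc := hcyc p hp hne P
          have hc' : IsCyclic N := by rw [hNeq]; exact hc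
          have hd : Nat.card N ∣ p := card_dvd_of_cyclic_exp p
            (fun x => Subtype.ext (by simpa using hexp x x.2))
          rw [hk] at hd
          have h5 := Nat.le_of_dvd hp.pos hd
          have h6 : p ^ 2 ≤ p ^ k := Nat.pow_le_pow_right hp.pos hk2
          nlinarith [hp.two_le]
        obtain ⟨T, hT⟩ := Subgroup.exists_right_complement'_of_coprime hcop
        have hcardT : Nat.card T = N.index := by
          have h1 := hT.card_mul_card
          have h2 := N.card_mul_index
          rw [← h2] at h1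
          exact Nat.eq_of_mul_eq_mul_left Nat.card_pos h1
        have hZ : ∀ S : Subgroup G, S ≤ T → EC S := by
          intro S hST
          have hcS : (Nat.card S).Coprime p := by
            have h1 : Nat.card S ∣ N.index := hcardT ▸ Subgroup.card_dvd_of_le hST
            have h2 : (N.index).Coprime (p ^ k) := hk ▸ hcop.symm
            have h3 : (N.index).Coprime p := by
              have := Nat.Coprime.coprime_dvd_right (dvd_pow_self p (by omega : k ≠ 0)) h2
              exact this
            exact Nat.Coprime.coprime_dvd_left h1 h3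
          have hZS : IsZGroup S := by
            rw [isZGroup_iff]
            intro q hq Q
            have : Fact q.Prime := ⟨hq⟩
            by_cases hqr : q = r
            · obtain ⟨j, hj⟩ := IsPGroup.iff_card.mp Q.isPGroup'
              have hQd : Nat.card Q ∣ Nat.card S := Subgroup.card_subgroup_dvd_card _
              have hone : Nat.card Q = 1 := by
                have hc1 : (Nat.card Q).Coprime q :=
                  Nat.Coprime.coprime_dvd_left hQd (by rw [hqr, ← hpr]; exact hcS)
                rw [hj] at hc1 ⊢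
                rcases j with _ | j
                · simp
                · exfalso
                  have h5 : q ∣ Nat.gcd (q ^ (j + 1)) q :=
                    Nat.dvd_gcd (dvd_pow_self q (Nat.succ_ne_zero j)) dvd_rfl
                  rw [Nat.Coprime.gcd_eq_one hc1] at h5
                  exact hq.one_lt.ne' (Nat.dvd_one.mp h5)
              have : Subsingleton Q := (Nat.card_eq_one_iff_unique.mp hone).1
              exact isCyclic_of_subsingleton
            · have hQ' : IsPGroup q ((Q : Subgroup S).map S.subtype) := Q.isPGroup'.map _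
              obtain ⟨R, hR⟩ := hQ'.exists_le_sylow
              have hRc := hcyc q hq hqr R
              have hc2 : IsCyclic ((Q : Subgroup S).map S.subtype) := Subgroup.isCyclic_of_le hR
              exact isCyclic_of_injective
                ((Subgroup.equivMapOfInjective (Q : Subgroup S) S.subtype
                  S.subtype_injective).toMonoidHom)
                (Subgroup.equivMapOfInjective (Q : Subgroup S) S.subtype
                  S.subtype_injective).injective
          exact zgroup_EC _ S rfl
        have hab : ∀ a ∈ N, ∀ b ∈ N, a * b = b * a := by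
          intro a ha b hb
          have := mul_comm' (⟨a, ha⟩ : N) ⟨b, hb⟩
          exact congrArg Subtype.val this
        exact stepB N hab hcop T hT hZ
          (fun A B hA hB hc => hD p hp A B (hNp.to_le hA) (hNp.to_le hB) hc)

/-- Let G be a finite solvable group in which, for every prime p, any two p-subgroups of the same order are conjugate, and suppose the Sylow p-subgroups of G are cyclic for all primes p with at most one exception. Then any two subgroups of G of the same order are conjugate. -/
theorem result {G : Type*} [Group G] [Finite G]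
    [Group.IsSolvable G] (hD : ∀ p : ℕ, p.Prime → ∀ H K : Subgroup G, IsPGroup p H → IsPGroup p K → Nat.card H = Nat.card K →
      ∃ g : G, K = H.map (MulAut.conj g).toMonoidHom)
    (r : ℕ) (hcyc : ∀ p : ℕ, p.Prime → p ≠ r → ∀ P : Sylow p G, IsCyclic P) :
    ∀ H K : Subgroup G, Nat.card H = Nat.card K → ∃ g : G, K = H.map (MulAut.conj g).toMonoidHom := by
  intro H K hHK
  have hD' : ∀ p : ℕ, p.Prime → ∀ H K : Subgroup G, IsPGroup p H → IsPGroup p K →
      Nat.card H = Nat.card K → ∃ g : G, MulAut.conj g • H = K := by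
    intro p hp H K hH hK hc
    obtain ⟨g, hg⟩ := hD p hp H K hH hK hc
    exact ⟨g, hg.symm⟩
  obtain ⟨g, hg⟩ := main _ G rfl hD' r hcyc H K hHK
  exact ⟨g, hg.symm⟩

end Cfsg.Agent.S4022
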