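import Cfsg.Statements.S4024
import Cfsg.Agent.S4023
import Cfsg.Agent.S4022
import Cfsg.Agent.S3744

set_option autoImplicit false
open Cfsg

namespace Cfsg.Agent.S4024

open Pointwise
open Cfsg.Agent.Lib

universe u

/-- All elements of order `p` lie in a normal subgroup of order divisible by `p`. -/
theorem mem_of_orderOf {G : Type u} [Group G] [Finite G] {p : ℕ} [Fact p.Prime]
    (hC : ∀ H K : Subgroup G, IsPGroup p H → IsPGroup p K → Nat.card H = Nat.card K →
      ∃ g : G, MulAut.conj g • H = K)
    (H : Subgroup G) [H.Normal] (hdiv : p ∣ Nat.card H) (x : G) (hx : orderOf x = p) : x ∈ H := by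
  obtain ⟨y, hy⟩ := exists_prime_orderOf_dvd_card' p hdiv
  have hy' : orderOf (y : G) = p := by rw [Subgroup.orderOf_coe]; exact hy
  have h1 : IsPGroup p (Subgroup.zpowers x) :=
    IsPGroup.of_card (n := 1) (by rw [Nat.card_zpowers, hx, pow_one])
  have h2 : IsPGroup p (Subgroup.zpowers (y : G)) :=
    IsPGroup.of_card (n := 1) (by rw [Nat.card_zpowers, hy', pow_one])
  obtain ⟨g, hg⟩ := hC _ _ h2 h1 (by rw [Nat.card_zpowers, Nat.card_zpowers, hx, hy'])
  have h3 : MulAut.conj g • Subgroup.zpowers (y : G) ≤ H := by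
    have := Helper54.conj_smul_le_conj_smul (g := g) ((Subgroup.zpowers_le).mpr y.2)
    rwa [Subgroup.Normal.conj_smul_eq_self g H] at this
  rw [hg] at h3
  exact h3 (Subgroup.mem_zpowers x)

/-- A Sylow `p`-subgroup of exponent `p` is abelian, in a group where equal-order `p`-subgroups are
conjugate and which has a normal `p`-solvable subgroup of order divisible by `p`. -/
theorem comm_of_exp : ∀ (n : ℕ) (G : Type u) [Group G] [Finite G] (p : ℕ) [Fact p.Prime],
    Nat.card G = n →
    (∀ H K : Subgroup G, IsPGroup p H → IsPGroup p K → Nat.card H = Nat.card K →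
      ∃ g : G, MulAut.conj g • H = K) →
    ∀ (P : Sylow p G), (∀ x ∈ (P : Subgroup G), x ^ p = 1) →
    ∀ (H : Subgroup G) [H.Normal], Cfsg.IsPSolvable p H → p ∣ Nat.card H →
    ∀ a ∈ (P : Subgroup G), ∀ b ∈ (P : Subgroup G), a * b = b * a := by
  intro n
  induction n using Nat.strong_induction_on with
  | _ n ih =>
    intro G _ _ p _ hn hC P hexp H _ hsolv hdiv a ha b hb
    have hp : p.Prime := Fact.out
    have hNT : Nontrivial H := by
      rw [← Finite.one_lt_card_iff_nontrivial]
      exact lt_of_lt_of_le hp.one_lt (Nat.le_of_dvd Nat.card_pos hdiv)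
    by_cases hK : pPrimeCore p H = ⊥
    · obtain ⟨M, hMn, hMne, hM⟩ := S3744.exists_normal_p_or_p' hsolv
      have hMp : IsPGroup p M := by
        rcases hM with h | h
        · exact h
        · exfalso
          have h1 := Helper97.le_pPrimeCore_of_normal hMn h
          rw [hK, le_bot_iff] at h1
          exact hMne h1
      have hQ0 : pCore p H ≠ ⊥ := by
        intro h0
        have h1 := Helper97.le_pCore_of_normal hMn hMp
        rw [h0, le_bot_iff] at h1
        exact hMne h1
      set Q : Subgroup G := (pCore p H).map H.subtype with hQ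
      have hQn : Q.Normal := inferInstance
      have hQp : IsPGroup p Q := (Helper97.isPGroup_pCore p H).map _
      have hQne : Q ≠ ⊥ := by
        intro h0
        apply hQ0
        rw [hQ] at h0
        exact (Subgroup.map_eq_bot_iff_of_injective _ H.subtype_injective).mp h0
      have hQdiv : p ∣ Nat.card Q := by
        obtain ⟨k, hk⟩ := IsPGroup.iff_card.mp hQp
        rcases k with _ | k
        · exfalso
          rw [pow_zero] at hk
          exact hQne (Subgroup.card_eq_one.mp hk)
        · rw [hk]; exact dvd_pow_self p (Nat.succ_ne_zero k)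
      have hallQ := mem_of_orderOf hC Q hQdiv
      have hPQ : (P : Subgroup G) ≤ Q := by
        intro x hx
        by_cases hx1 : x = 1
        · rw [hx1]; exact Q.one_mem
        · exact hallQ x (orderOf_eq_prime (hexp x hx) hx1)
      have hQP : Q ≤ P := S4022.normal_le_sylow Q hQp P
      have hPeq : (P : Subgroup G) = Q := le_antisymm hPQ hQP
      have hPn : (P : Subgroup G).Normal := hPeq ▸ hQn
      set Z : Subgroup G := (Subgroup.center (P : Subgroup G)).map (P : Subgroup G).subtype with hZ
      have hZn : Z.Normal := inferInstance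
      have hPnt : Nontrivial (P : Subgroup G) := by
        rw [← Finite.one_lt_card_iff_nontrivial]
        have h1 : p ∣ Nat.card (P : Subgroup G) := by
          rw [hPeq]; exact hQdiv
        exact lt_of_lt_of_le hp.one_lt (Nat.le_of_dvd Nat.card_pos h1)
      have hcn : Nontrivial (Subgroup.center (P : Subgroup G)) := P.isPGroup'.center_nontrivial
      obtain ⟨z, hz1⟩ := exists_ne (1 : Subgroup.center (P : Subgroup G))
      have hzZ : ((z : (P : Subgroup G)) : G) ∈ Z := ⟨z, z.2, rfl⟩
      have hz1' : ((z : (P : Subgroup G)) : G) ≠ 1 := by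
        intro h
        apply hz1
        apply Subtype.ext
        apply Subtype.ext
        exact h
      have hzo : orderOf ((z : (P : Subgroup G)) : G) = p :=
        orderOf_eq_prime (hexp _ (z : (P : Subgroup G)).2) hz1'
      have key : ∀ a ∈ (P : Subgroup G), a ∈ Z := by
        intro a ha
        by_cases ha1 : a = 1
        · rw [ha1]; exact Z.one_mem
        · have hao : orderOf a = p := orderOf_eq_prime (hexp a ha) ha1
          have h1 : IsPGroup p (Subgroup.zpowers a) :=
            IsPGroup.of_card (n := 1) (by rw [Nat.card_zpowers, hao, pow_one])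
          have h2 : IsPGroup p (Subgroup.zpowers ((z : (P : Subgroup G)) : G)) :=
            IsPGroup.of_card (n := 1) (by rw [Nat.card_zpowers, hzo, pow_one])
          obtain ⟨g, hg⟩ := hC _ _ h2 h1 (by rw [Nat.card_zpowers, Nat.card_zpowers, hao, hzo])
          have h3 : MulAut.conj g • Subgroup.zpowers ((z : (P : Subgroup G)) : G) ≤ Z := by
            have := Helper54.conj_smul_le_conj_smul (g := g) ((Subgroup.zpowers_le).mpr hzZ)
            rwa [Subgroup.Normal.conj_smul_eq_self g Z] at this
          rw [hg] at h3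
          exact h3 (Subgroup.mem_zpowers a)
      obtain ⟨a', ha', rfl⟩ := key a ha
      have h4 := (Subgroup.mem_center_iff.mp ha') ⟨b, hb⟩
      have h5 := congrArg Subtype.val h4
      simpa using h5.symm
    · set K : Subgroup G := (pPrimeCore p H).map H.subtype with hKdef
      have hKn : K.Normal := inferInstance
      have hKne : K ≠ ⊥ := by
        intro h0
        apply hK
        rw [hKdef] at h0
        exact (Subgroup.map_eq_bot_iff_of_injective _ H.subtype_injective).mp h0
      have hKcop : (Nat.card K).Coprime p := by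
        rw [hKdef, Subgroup.card_map_of_injective H.subtype_injective]
        exact Helper97.card_pPrimeCore_coprime p
      have hlt : Nat.card (G ⧸ K) < n := hn ▸ S4022.card_quot_lt K hKne
      have hC' : ∀ H' K' : Subgroup (G ⧸ K), IsPGroup p H' → IsPGroup p K' →
          Nat.card H' = Nat.card K' → ∃ g : G ⧸ K, MulAut.conj g • H' = K' := by
        intro H' K' hH' hK' hc
        obtain ⟨H₀, hH₀, hH₀m, hH₀c⟩ := S4022.lift_pgroup K p H' hH'
        obtain ⟨K₀, hK₀, hK₀m, hK₀c⟩ := S4022.lift_pgroup K p K' hK'
        obtain ⟨g, hg⟩ := hC H₀ K₀ hH₀ hK₀ (by rw [hH₀c, hK₀c, hc])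
        refine ⟨QuotientGroup.mk' K g, ?_⟩
        rw [← hH₀m, ← S4022.map_conj_smul', hg, hK₀m]
      set P' : Sylow p (G ⧸ K) := P.mapSurjective (QuotientGroup.mk'_surjective K) with hP'
      have hexp' : ∀ x ∈ (P' : Subgroup (G ⧸ K)), x ^ p = 1 := by
        rintro x ⟨y, hy, rfl⟩
        rw [← map_pow, hexp y hy, map_one]
      set H' : Subgroup (G ⧸ K) := H.map (QuotientGroup.mk' K) with hH'
      have hH'n : H'.Normal :=
        Subgroup.Normal.map inferInstance _ (QuotientGroup.mk'_surjective K)
      have hsolv' : Cfsg.IsPSolvable p H' :=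
        Helper76.IsPSolvable_of_surjective p ((QuotientGroup.mk' K).subgroupMap H)
          ((QuotientGroup.mk' K).subgroupMap_surjective H) hsolv
      have hdiv' : p ∣ Nat.card H' := by
        obtain ⟨y, hy⟩ := exists_prime_orderOf_dvd_card' p hdiv
        set y' : H' := (QuotientGroup.mk' K).subgroupMap H y with hy'
        have h1 : y' ^ p = 1 := by
          rw [hy', ← map_pow, ← hy, pow_orderOf_eq_one, map_one]
        have h2 : y' ≠ 1 := by
          intro h
          have h3 : (QuotientGroup.mk' K) (y : G) = 1 := congrArg Subtype.val h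
          rw [← MonoidHom.mem_ker, QuotientGroup.ker_mk'] at h3
          have h4 : orderOf (y : G) ∣ Nat.card K := by
            have := orderOf_dvd_natCard (⟨(y : G), h3⟩ : K)
            rwa [← Subgroup.orderOf_coe] at this
          rw [Subgroup.orderOf_coe, hy] at h4
          exact (Nat.Prime.coprime_iff_not_dvd hp).mp hKcop.symm h4
        have h3 : orderOf y' = p := orderOf_eq_prime h1 h2
        rw [← h3]
        exact orderOf_dvd_natCard y'
      have hab := ih _ hlt (G ⧸ K) p rfl hC' P' hexp' H' hsolv' hdiv'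
        (QuotientGroup.mk' K a) ⟨a, ha, rfl⟩ (QuotientGroup.mk' K b) ⟨b, hb, rfl⟩
      rw [← map_mul, ← map_mul] at hab
      have h1 : (b * a)⁻¹ * (a * b) ∈ K := QuotientGroup.eq.mp hab.symm
      have h2 : (b * a)⁻¹ * (a * b) ∈ (P : Subgroup G) :=
        Subgroup.mul_mem _ (Subgroup.inv_mem _ (Subgroup.mul_mem _ hb ha)) (Subgroup.mul_mem _ ha hb)
      have hdisj : K ⊓ (P : Subgroup G) = ⊥ := by
        apply Disjoint.eq_bot
        apply Subgroup.disjoint_of_coprime_natCard
        obtain ⟨k, hk⟩ := IsPGroup.iff_card.mp P.isPGroup'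
        rw [hk]
        exact Nat.Coprime.pow_right k hKcop
      have h3 : (b * a)⁻¹ * (a * b) ∈ K ⊓ (P : Subgroup G) := ⟨h1, h2⟩
      rw [hdisj, Subgroup.mem_bot] at h3
      have h4 : a * b = (b * a) * ((b * a)⁻¹ * (a * b)) := by group
      rw [h4, h3, mul_one]

/-- Let p be an odd prime and G a finite group in which any two p-subgroups of the same order are conjugate, with Sylow p-subgroup P. If H is a normal p-solvable subgroup of G whose order is divisible by p, then P is abelian, and either P ≤ H or P is cyclic. -/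
theorem result {G : Type*} [Group G] [Finite G]
    {p : ℕ} [Fact p.Prime] (hp : p ≠ 2) (hC : ∀ H K : Subgroup G, IsPGroup p H → IsPGroup p K → Nat.card H = Nat.card K →
      ∃ g : G, K = H.map (MulAut.conj g).toMonoidHom) (P : Sylow p G)
    (H : Subgroup G) [H.Normal] (hsolv : Cfsg.IsPSolvable p H) (hdiv : p ∣ Nat.card H) :
    IsMulCommutative P ∧ ((P : Subgroup G) ≤ H ∨ IsCyclic P) := by
  have hC' : ∀ H K : Subgroup G, IsPGroup p H → IsPGroup p K → Nat.card H = Nat.card K →
      ∃ g : G, MulAut.conj g • H = K := by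
    intro H K hH hK hc
    obtain ⟨g, hg⟩ := hC H K hH hK hc
    exact ⟨g, hg.symm⟩
  have hallH := mem_of_orderOf hC' H hdiv
  have hexpcase : (∀ x ∈ (P : Subgroup G), x ^ p = 1) →
      IsMulCommutative P ∧ (P : Subgroup G) ≤ H := by
    intro hexp
    refine ⟨⟨⟨fun a b => Subtype.ext
      (comm_of_exp _ G p rfl hC' P hexp H hsolv hdiv a a.2 b b.2)⟩⟩, ?_⟩
    intro x hx
    by_cases hx1 : x = 1
    · rw [hx1]; exact H.one_mem
    · exact hallH x (orderOf_eq_prime (hexp x hx) hx1)
  rcases S4023.result hC P with h | h | h | h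
  · exact ⟨inferInstance, Or.inr h⟩
  · obtain ⟨h1, h2⟩ := hexpcase h.2
    exact ⟨h1, Or.inl h2⟩
  · exact absurd h.1 hp
  · obtain ⟨_, hnc, _, hexp⟩ := h
    exfalso
    apply hnc
    refine (hexpcase (fun x hx => ?_)).1
    have h1 := Monoid.pow_exponent_eq_one (⟨x, hx⟩ : (P : Subgroup G))
    rw [hexp] at h1
    exact congrArg Subtype.val h1

end Cfsg.Agent.S4024
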