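import Cfsg.Statements.S4032
import Cfsg.Agent.Lib.Helper67.ComplConj

set_option autoImplicit false
open Cfsg

namespace Cfsg.Agent.S4032

open Cfsg.Agent.Lib.Helper67

/-- If `g x g⁻¹` is a power of `x` of the same order as `x`, then `g` normalizes `⟨x⟩`. -/
theorem mem_normalizer_zpowers_of_conj_eq_pow {G : Type*} [Group G] [Finite G] {g x : G} {j : ℕ}
    (h : g * x * g⁻¹ = x ^ j) : g ∈ Subgroup.normalizer ((Subgroup.zpowers x : Subgroup G) : Set G) := by
  rw [Subgroup.mem_normalizer_iff_map_conj_eq]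
  have h1 : (Subgroup.zpowers x).map (MulAut.conj g : G →* G) = Subgroup.zpowers (x ^ j) := by
    rw [MonoidHom.map_zpowers]
    congr 1
  rw [show (Subgroup.zpowers x).map (MulAut.conj g) = (Subgroup.zpowers x).map (MulAut.conj g : G →* G) from rfl, h1]
  apply Subgroup.eq_of_le_of_card_ge
  · rw [Subgroup.zpowers_le]; exact Subgroup.pow_mem _ (Subgroup.mem_zpowers x) j
  · rw [Nat.card_zpowers, Nat.card_zpowers, ← h]
    have hs : SemiconjBy g x (g * x * g⁻¹) := by unfold SemiconjBy; group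
    rw [hs.orderOf_eq]

/-- Let π be a set of primes and G a finite group in which N_G(⟨x⟩) = C_G(x) for every π-element x. If N is a normal subgroup of G whose order is divisible by no prime of π, then G/N has the same property: N_{G/N}(⟨y⟩) = C_{G/N}(y) for every π-element y of G/N. -/
theorem result {G : Type*} [Group G] [Finite G] (π : Set ℕ)
    (hirr : ∀ x : G, (∀ r : ℕ, r.Prime → r ∣ orderOf x → r ∈ π) →
      Subgroup.normalizer ((Subgroup.zpowers x : Subgroup G) : Set G) ≤ Subgroup.centralizer {x})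
    (N : Subgroup G) [N.Normal] (hN : ∀ r : ℕ, r.Prime → r ∣ Nat.card N → r ∉ π) :
    ∀ y : G ⧸ N, (∀ r : ℕ, r.Prime → r ∣ orderOf y → r ∈ π) →
      Subgroup.normalizer ((Subgroup.zpowers y : Subgroup (G ⧸ N)) : Set (G ⧸ N)) ≤ Subgroup.centralizer {y} := by
  intro y hy gbar hgbar
  set k := orderOf y with hk
  set ν := Nat.card N with hν
  have hcop : Nat.Coprime k ν := Nat.coprime_of_dvd fun r hr hrk hrν => hN r hr hrν (hy r hr hrk)
  obtain ⟨x0, rfl⟩ := QuotientGroup.mk_surjective y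
  obtain ⟨g, rfl⟩ := QuotientGroup.mk_surjective gbar
  obtain ⟨t, ht⟩ := exists_pow_eq_self_of_coprime (x := (QuotientGroup.mk x0 : G ⧸ N)) (n := ν) hcop.symm
  obtain ⟨x, hx⟩ : ∃ x : G, x = (x0 ^ ν) ^ t := ⟨_, rfl⟩
  have hxy : (QuotientGroup.mk x : G ⧸ N) = QuotientGroup.mk x0 := by
    rw [hx, QuotientGroup.mk_pow, QuotientGroup.mk_pow]; exact ht
  have hx0k : x0 ^ k ∈ N := by
    rw [← QuotientGroup.eq_one_iff, QuotientGroup.mk_pow, hk, pow_orderOf_eq_one]
  have hx0kν : (x0 ^ k) ^ ν = 1 := by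
    have := pow_card_eq_one' (G := N) (x := ⟨x0 ^ k, hx0k⟩)
    exact congrArg Subtype.val this
  have hxk : x ^ k = 1 := by
    have : x ^ k = ((x0 ^ k) ^ ν) ^ t := by
      rw [hx]; simp only [← pow_mul]; congr 1; ring
    rw [this, hx0kν, one_pow]
  have hordx : orderOf x = k := by
    apply Nat.dvd_antisymm (orderOf_dvd_of_pow_eq_one hxk)
    rw [hk, ← hxy]
    exact orderOf_map_dvd (QuotientGroup.mk' N) x
  have hxπ : ∀ r : ℕ, r.Prime → r ∣ orderOf x → r ∈ π := by rw [hordx]; exact hy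
  -- the conjugate of y by gbar is a power of y
  have h1 : (QuotientGroup.mk g : G ⧸ N) * QuotientGroup.mk x0 * (QuotientGroup.mk g)⁻¹ ∈
      Subgroup.zpowers (QuotientGroup.mk x0 : G ⧸ N) :=
    (Subgroup.mem_normalizer_iff.1 hgbar _).1 (Subgroup.mem_zpowers _)
  rw [← mem_powers_iff_mem_zpowers, Submonoid.mem_powers_iff] at h1
  obtain ⟨j, hj⟩ := h1
  obtain ⟨u, hu⟩ : ∃ u : G, u = g * x * g⁻¹ := ⟨_, rfl⟩
  obtain ⟨v, hv⟩ : ∃ v : G, v = x ^ j := ⟨_, rfl⟩
  have huv : (QuotientGroup.mk u : G ⧸ N) = QuotientGroup.mk v := by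
    rw [hu, hv, QuotientGroup.mk_mul, QuotientGroup.mk_mul, QuotientGroup.mk_inv, QuotientGroup.mk_pow,
      hxy, hj]
  have hordu : orderOf u = k := by
    have hs : SemiconjBy g x u := by unfold SemiconjBy; rw [hu]; group
    rw [← hs.orderOf_eq, hordx]
  have hordv : orderOf v ∣ k := by
    rw [← hordx, hv]; exact orderOf_pow_dvd j
  obtain ⟨m, hm, hmu⟩ := exists_mem_conj_eq_of_mk_eq (M := N) huv (by rw [hordu]; exact hcop)
    (hcop.coprime_dvd_left hordv)
  -- m * g normalizes ⟨x⟩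
  have hconj : (m * g) * x * (m * g)⁻¹ = x ^ j := by
    rw [← hv, ← hmu, hu]; group
  have hnorm := mem_normalizer_zpowers_of_conj_eq_pow hconj
  have hcent := hirr x hxπ hnorm
  have hcomm : x * (m * g) = (m * g) * x := Subgroup.mem_centralizer_iff.1 hcent x rfl
  -- push to the quotient
  rw [Subgroup.mem_centralizer_iff]
  intro h hh
  rw [Set.mem_singleton_iff] at hh
  subst hh
  have hmg : (QuotientGroup.mk (m * g) : G ⧸ N) = QuotientGroup.mk g := by
    rw [QuotientGroup.mk_mul, (QuotientGroup.eq_one_iff m).2 hm, one_mul]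
  rw [← hxy, ← hmg, ← QuotientGroup.mk_mul, ← QuotientGroup.mk_mul, hcomm]

end Cfsg.Agent.S4032
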