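import Cfsg.Statements.S4027
import Cfsg.Agent.Lib.Helper67.SylowTwoNormal
import Cfsg.Agent.S4032

set_option autoImplicit false
open Cfsg

namespace Cfsg.Agent.S4027

open Cfsg.Agent.Lib.Helper67

/-- An element of odd order whose square is trivial is trivial. -/
theorem eq_one_of_odd_of_inv_eq {G : Type*} [Group G] {w : G} (hodd : Odd (orderOf w))
    (h : w⁻¹ = w) : w = 1 := by
  have hsq : w ^ 2 = 1 := by
    rw [pow_two]; nth_rewrite 1 [← h]; exact inv_mul_cancel w
  have h2 : orderOf w ∣ 2 := orderOf_dvd_of_pow_eq_one hsq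
  rcases (Nat.dvd_prime Nat.prime_two).1 h2 with h1 | h1
  · exact orderOf_eq_one_iff.1 h1
  · rw [h1] at hodd; exact absurd hodd (by decide)

/-- Let G be a finite group in which every element x of odd order satisfies N_G(⟨x⟩) = C_G(x). Then the Sylow 2-subgroups of G are normal. -/
theorem result {G : Type*} [Group G] [Finite G]
    (hirr : ∀ x : G, (∀ r : ℕ, r.Prime → r ∣ orderOf x → r ≠ 2) →
      Subgroup.normalizer ((Subgroup.zpowers x : Subgroup G) : Set G) ≤ Subgroup.centralizer {x}) (P : Sylow 2 G) :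
    (P : Subgroup G).Normal := by
  refine sylow_two_normal_of_class
    (fun (H : Type _) [Group H] => ∀ x : H, (∀ r : ℕ, r.Prime → r ∣ orderOf x → r ≠ 2) →
      Subgroup.normalizer ((Subgroup.zpowers x : Subgroup H) : Set H) ≤ Subgroup.centralizer {x})
    ?_ ?_ (Nat.card G) G rfl hirr P
  · intro H _ _ E _ hE hH
    refine Cfsg.Agent.S4032.result {r : ℕ | r ≠ 2} hH E ?_
    intro r hr hdvd
    obtain ⟨k, hk⟩ := hE.exists_card_eq
    rw [hk] at hdvd
    have : r = 2 := (Nat.prime_dvd_prime_iff_eq hr Nat.prime_two).1 (hr.dvd_of_dvd_pow hdvd)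
    simp [this]
  · intro H _ _ hH s w _ hodd hsw
    have hw' : ∀ r : ℕ, r.Prime → r ∣ orderOf w → r ≠ 2 := by
      rintro r - hdvd rfl
      exact (Nat.not_even_iff_odd.2 hodd) (even_iff_two_dvd.2 hdvd)
    have hn := mem_normalizer_zpowers_of_conj_eq_inv hsw
    have hc := hH w hw' hn
    have hcomm : w * s = s * w := Subgroup.mem_centralizer_iff.1 hc w rfl
    apply eq_one_of_odd_of_inv_eq hodd
    rw [← hsw, ← hcomm, mul_inv_cancel_right]

end Cfsg.Agent.S4027
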