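import Cfsg.Statements.S4028

set_option autoImplicit false
open Cfsg
open scoped Pointwise

namespace Cfsg.Agent.S4028

/-- An element of a group lies in a subgroup as soon as two coprime powers of it do. -/
theorem mem_of_coprime_pow_mem {G : Type*} [Group G] (H : Subgroup G) (y : G) (a b : ℕ)
    (hcop : Nat.Coprime a b) (h1 : y ^ a ∈ H) (h2 : y ^ b ∈ H) : y ∈ H := by
  have hb := Nat.gcd_eq_gcd_ab a b
  rw [hcop.gcd_eq_one] at hb
  have : y = (y ^ a) ^ (Nat.gcdA a b) * (y ^ b) ^ (Nat.gcdB a b) := by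
    calc y = y ^ (((1 : ℕ) : ℤ)) := by simp
      _ = y ^ ((a : ℤ) * Nat.gcdA a b + (b : ℤ) * Nat.gcdB a b) := by rw [hb]
      _ = _ := by rw [zpow_add, zpow_mul, zpow_mul, zpow_natCast, zpow_natCast]
  rw [this]
  exact H.mul_mem (H.zpow_mem h1 _) (H.zpow_mem h2 _)

/-- If `j ^ m ≡ 1` modulo `2 ^ k` with `m` odd, then `j ≡ 1` modulo `2 ^ k`. -/
theorem modEq_one_of_pow_odd {j m k : ℕ} (hm : Odd m) (h : j ^ m ≡ 1 [MOD 2 ^ k]) :
    j ≡ 1 [MOD 2 ^ k] := by
  have hm0 : m ≠ 0 := by rintro rfl; simp at hm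
  have h1 : ((j : ZMod (2 ^ k)) ^ m) = 1 := by
    have := (ZMod.natCast_eq_natCast_iff _ _ _).2 h
    simpa using this
  set v : (ZMod (2 ^ k))ˣ := Units.ofPowEqOne _ m h1 hm0 with hv
  have hvm : v ^ m = 1 := Units.pow_ofPowEqOne h1 hm0
  have hvφ : v ^ Nat.totient (2 ^ k) = 1 := ZMod.pow_totient v
  have hcop : Nat.Coprime m (Nat.totient (2 ^ k)) := by
    rcases Nat.eq_zero_or_pos k with rfl | hk
    · simp
    · rw [Nat.totient_prime_pow Nat.prime_two hk]
      simp only [Nat.add_one_sub_one, mul_one]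
      exact Nat.Coprime.pow_right _ (Nat.coprime_two_right.2 hm)
  have hord : orderOf v = 1 :=
    Nat.eq_one_of_dvd_coprimes hcop (orderOf_dvd_of_pow_eq_one hvm) (orderOf_dvd_of_pow_eq_one hvφ)
  have hv1 : v = 1 := orderOf_eq_one_iff.1 hord
  have hj1 : (j : ZMod (2 ^ k)) = 1 := by
    have := congrArg Units.val hv1
    simpa [hv, Units.val_ofPowEqOne] using this
  apply (ZMod.natCast_eq_natCast_iff _ _ _).1
  simpa using hj1

/-- An element `u` of odd order normalizing the cyclic `2`-group `⟨x⟩` centralizes `x`. -/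
theorem commute_of_odd_of_mem_normalizer {G : Type*} [Group G] {x u : G} {k m : ℕ}
    (hx : orderOf x = 2 ^ k) (hm : Odd m) (hu : u ^ m = 1)
    (hun : u ∈ Subgroup.normalizer ((Subgroup.zpowers x : Subgroup G) : Set G)) : Commute u x := by
  have hxfin : IsOfFinOrder x := by
    rw [← orderOf_pos_iff, hx]; positivity
  have h1 : u * x * u⁻¹ ∈ Subgroup.zpowers x :=
    (Subgroup.mem_normalizer_iff.1 hun x).1 (Subgroup.mem_zpowers x)
  rw [← hxfin.mem_powers_iff_mem_zpowers, Submonoid.mem_powers_iff] at h1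
  obtain ⟨j, hj⟩ := h1
  have key : ∀ i : ℕ, u ^ i * x * (u ^ i)⁻¹ = x ^ (j ^ i) := by
    intro i
    induction i with
    | zero => simp
    | succ i ih =>
      calc u ^ (i + 1) * x * (u ^ (i + 1))⁻¹ = u * (u ^ i * x * (u ^ i)⁻¹) * u⁻¹ := by
            rw [pow_succ']; group
        _ = u * x ^ (j ^ i) * u⁻¹ := by rw [ih]
        _ = (u * x * u⁻¹) ^ (j ^ i) := by rw [conj_pow]
        _ = x ^ (j ^ (i + 1)) := by rw [← hj, ← pow_mul, pow_succ']
  have hm' := key m
  rw [hu, one_mul, inv_one, mul_one] at hm'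
  have hmod : j ^ m ≡ 1 [MOD 2 ^ k] := by
    rw [← hx]
    apply (hxfin.pow_eq_pow_iff_modEq).1
    rw [← hm', pow_one]
  have hj1 := modEq_one_of_pow_odd hm hmod
  rw [← hx] at hj1
  have : x ^ j = x ^ 1 := (hxfin.pow_eq_pow_iff_modEq).2 hj1
  rw [pow_one] at this
  rw [this] at hj
  unfold Commute SemiconjBy
  exact (mul_inv_eq_iff_eq_mul.1 hj.symm)

/-- Membership of `zpowers` in a subgroup versus in the ambient group. -/
theorem coe_mem_zpowers_iff {G : Type*} [Group G] {H : Subgroup G} (y h : H) :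
    (h : G) ∈ Subgroup.zpowers (y : G) ↔ h ∈ Subgroup.zpowers y := by
  rw [Subgroup.mem_zpowers_iff, Subgroup.mem_zpowers_iff]
  constructor
  · rintro ⟨k, hk⟩; exact ⟨k, Subtype.ext (by simpa using hk)⟩
  · rintro ⟨k, hk⟩; exact ⟨k, by rw [← hk]; simp⟩

/-- Normalizing `⟨y⟩` inside a subgroup `H` is the same as normalizing `⟨y⟩` in the ambient group,
for elements of `H`. -/
theorem coe_mem_normalizer_zpowers_iff {G : Type*} [Group G] {H : Subgroup G} (y g : H) :
    (g : G) ∈ Subgroup.normalizer ((Subgroup.zpowers (y : G) : Subgroup G) : Set G) ↔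
      g ∈ Subgroup.normalizer ((Subgroup.zpowers y : Subgroup H) : Set H) := by
  have hyH : Subgroup.zpowers (y : G) ≤ H := by
    rw [Subgroup.zpowers_le]; exact y.2
  constructor
  · intro hg
    rw [Subgroup.mem_normalizer_iff] at hg ⊢
    intro h
    rw [← coe_mem_zpowers_iff, ← coe_mem_zpowers_iff]
    exact hg h
  · intro hg
    rw [Subgroup.mem_normalizer_iff] at hg ⊢
    intro h
    constructor
    · intro hh
      have hhH : h ∈ H := hyH hh
      have := (hg ⟨h, hhH⟩).1 ((coe_mem_zpowers_iff y ⟨h, hhH⟩).1 hh)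
      exact (coe_mem_zpowers_iff y _).2 this
    · intro hh
      have h1 : (g : G) * h * (g : G)⁻¹ ∈ H := hyH hh
      have hhH : h ∈ H := by
        have : h = (g : G)⁻¹ * ((g : G) * h * (g : G)⁻¹) * (g : G) := by group
        rw [this]
        exact H.mul_mem (H.mul_mem (H.inv_mem g.2) h1) g.2
      have := (hg ⟨h, hhH⟩).2 ((coe_mem_zpowers_iff y (g * ⟨h, hhH⟩ * g⁻¹)).1 hh)
      exact (coe_mem_zpowers_iff y ⟨h, hhH⟩).2 this

/-- Conjugation transports normalizers of cyclic subgroups. -/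
theorem conj_mem_normalizer_zpowers {G : Type*} [Group G] {x g : G} (c : G)
    (hg : g ∈ Subgroup.normalizer ((Subgroup.zpowers x : Subgroup G) : Set G)) :
    c * g * c⁻¹ ∈ Subgroup.normalizer ((Subgroup.zpowers (c * x * c⁻¹) : Subgroup G) : Set G) := by
  have h1 := Subgroup.map_equiv_normalizer_eq (Subgroup.zpowers x) (MulAut.conj c)
  rw [MonoidHom.map_zpowers] at h1
  have h2 : (MulAut.conj c).toMonoidHom g ∈
      Subgroup.map (MulAut.conj c).toMonoidHom (Subgroup.normalizer ((Subgroup.zpowers x : Subgroup G) : Set G)) :=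
    Subgroup.mem_map_of_mem _ hg
  rw [h1] at h2
  simpa using h2

/-- Let G be a finite group with Sylow 2-subgroup P. Then N_G(⟨x⟩) = C_G(x) holds for every 2-element x of G if and only if N_P(⟨y⟩) = C_P(y) holds for every y ∈ P (computed inside P). -/
theorem result {G : Type*} [Group G] [Finite G] (P : Sylow 2 G) :
    (∀ x : G, (∀ r : ℕ, r.Prime → r ∣ orderOf x → r = 2) →
      Subgroup.normalizer ((Subgroup.zpowers x : Subgroup G) : Set G) ≤ Subgroup.centralizer {x}) ↔
    (∀ y : ↥(P : Subgroup G), Subgroup.normalizer ((Subgroup.zpowers y : Subgroup ↥(P : Subgroup G)) : Set ↥(P : Subgroup G)) ≤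
        Subgroup.centralizer {y}) := by
  constructor
  · intro hG y g hg
    have hy2 : ∀ r : ℕ, r.Prime → r ∣ orderOf (y : G) → r = 2 := by
      intro r hr hdvd
      obtain ⟨n, hn⟩ := (P.2).exists_card_eq
      have h1 : orderOf (y : G) ∣ 2 ^ n := by
        rw [← hn, Subgroup.orderOf_coe]
        exact orderOf_dvd_natCard y
      exact (Nat.prime_dvd_prime_iff_eq hr Nat.prime_two).1 (hr.dvd_of_dvd_pow (hdvd.trans h1))
    have hgG := (coe_mem_normalizer_zpowers_iff y g).2 hg
    have := hG (y : G) hy2 hgG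
    rw [Subgroup.mem_centralizer_iff] at this ⊢
    intro h hh
    rw [Set.mem_singleton_iff] at hh
    subst hh
    apply Subtype.ext
    simpa using this (h : G) rfl
  · intro hP x hx2 g hg
    have hx0 : orderOf x ≠ 0 := (orderOf_pos x).ne'
    have hxk : orderOf x = 2 ^ (orderOf x).primeFactorsList.length :=
      Nat.eq_prime_pow_of_unique_prime_dvd hx0 (fun {q} hq hd => hx2 q hq hd)
    set k := (orderOf x).primeFactorsList.length
    obtain ⟨a, m, hm, hgm⟩ := Nat.exists_eq_two_pow_mul_odd (orderOf_pos g).ne'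
    apply mem_of_coprime_pow_mem _ g (2 ^ a) m (Nat.Coprime.pow_left a (Nat.coprime_two_left.2 hm))
    · -- odd part
      have hu : (g ^ 2 ^ a) ^ m = 1 := by rw [← pow_mul, ← hgm, pow_orderOf_eq_one]
      have hun := Subgroup.pow_mem _ hg (2 ^ a)
      have hc := commute_of_odd_of_mem_normalizer hxk hm hu hun
      rw [Subgroup.mem_centralizer_iff]
      intro h hh
      rw [Set.mem_singleton_iff] at hh
      subst hh
      exact hc.eq.symm
    · -- 2-part
      set w := g ^ m with hw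
      have hwn : w ∈ Subgroup.normalizer ((Subgroup.zpowers x : Subgroup G) : Set G) := Subgroup.pow_mem _ hg m
      have hw2 : w ^ 2 ^ a = 1 := by rw [hw, ← pow_mul, mul_comm, ← hgm, pow_orderOf_eq_one]
      have hZw : IsPGroup 2 (Subgroup.zpowers w) := by
        rintro ⟨z, hz⟩
        obtain ⟨i, rfl⟩ := Subgroup.mem_zpowers_iff.1 hz
        refine ⟨a, Subtype.ext ?_⟩
        simp only [Subgroup.coe_pow, Subgroup.coe_one]
        rw [← zpow_natCast, ← zpow_mul, mul_comm, zpow_mul, zpow_natCast, hw2, one_zpow]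
      have hZx : IsPGroup 2 (Subgroup.zpowers x) := by
        rintro ⟨z, hz⟩
        obtain ⟨i, rfl⟩ := Subgroup.mem_zpowers_iff.1 hz
        refine ⟨k, Subtype.ext ?_⟩
        simp only [Subgroup.coe_pow, Subgroup.coe_one]
        rw [← zpow_natCast, ← zpow_mul, mul_comm, zpow_mul, zpow_natCast, ← hxk, pow_orderOf_eq_one, one_zpow]
      have hle : Subgroup.zpowers w ≤ Subgroup.normalizer ((Subgroup.zpowers x : Subgroup G) : Set G) := by
        rw [Subgroup.zpowers_le]; exact hwn
      have hT : IsPGroup 2 (Subgroup.zpowers w ⊔ Subgroup.zpowers x : Subgroup G) :=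
        hZw.to_sup_of_normal_right' hZx hle
      obtain ⟨Q, hQ⟩ := hT.exists_le_sylow
      obtain ⟨c, hc⟩ := MulAction.exists_smul_eq G Q P
      have hwQ : w ∈ (Q : Subgroup G) := hQ (Subgroup.mem_sup_left (Subgroup.mem_zpowers w))
      have hxQ : x ∈ (Q : Subgroup G) := hQ (Subgroup.mem_sup_right (Subgroup.mem_zpowers x))
      have hconj : ∀ z : G, z ∈ (Q : Subgroup G) → c * z * c⁻¹ ∈ (P : Subgroup G) := by
        intro z hz
        rw [← hc, Sylow.coe_subgroup_smul]
        exact ⟨z, hz, rfl⟩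
      set x' : (P : Subgroup G) := ⟨c * x * c⁻¹, hconj x hxQ⟩ with hx'
      set w' : (P : Subgroup G) := ⟨c * w * c⁻¹, hconj w hwQ⟩ with hw'
      have hw'n : (w' : G) ∈ Subgroup.normalizer ((Subgroup.zpowers (x' : G) : Subgroup G) : Set G) :=
        conj_mem_normalizer_zpowers c hwn
      have h3 := hP x' ((coe_mem_normalizer_zpowers_iff x' w').1 hw'n)
      rw [Subgroup.mem_centralizer_iff] at h3
      have h4 := congrArg Subtype.val (h3 x' rfl)
      simp only [Subgroup.coe_mul, hx', hw'] at h4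
      rw [Subgroup.mem_centralizer_iff]
      intro h hh
      rw [Set.mem_singleton_iff] at hh
      subst hh
      have h5 : c * (h * w) * c⁻¹ = c * (w * h) * c⁻¹ := by
        calc c * (h * w) * c⁻¹ = c * h * c⁻¹ * (c * w * c⁻¹) := by group
          _ = c * w * c⁻¹ * (c * h * c⁻¹) := h4
          _ = c * (w * h) * c⁻¹ := by group
      exact mul_left_cancel (mul_right_cancel h5)

end Cfsg.Agent.S4028
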