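import Cfsg.Statements.S4029
import Cfsg.Agent.Lib.Helper65.ClassCount
import Cfsg.Agent.S3883

set_option autoImplicit false
open Cfsg

namespace Cfsg.Agent.S4029

open Cfsg.Agent.Lib.Helper65

/-- Cauchy–Schwarz: if all squares lie in `Φ` then `|P|² ≤ |Φ| · #{(a, h) | a² = h²}`. -/
lemma card_sq_le {P : Type*} [Group P] [Finite P] (Φ : Subgroup P) (hΦ : ∀ x : P, x ^ 2 ∈ Φ) :
    Nat.card P ^ 2 ≤ Nat.card Φ * Nat.card {p : P × P // p.1 ^ 2 = p.2 ^ 2} := by
  classical
  have : Fintype P := Fintype.ofFinite P
  set s : Finset P := Finset.univ.image (fun a : P => a ^ 2) with hs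
  set r : P → ℕ := fun c => (Finset.univ.filter (fun a : P => a ^ 2 = c)).card with hr
  have h1 : ∑ c ∈ s, r c = Nat.card P := by
    rw [Nat.card_eq_fintype_card, ← Finset.card_univ]
    exact (Finset.card_eq_sum_card_image (fun a : P => a ^ 2) Finset.univ).symm
  have h2 : s.card ≤ Nat.card Φ := by
    rw [Nat.card_eq_fintype_card, ← Finset.card_univ]
    refine Finset.card_le_card_of_injOn (fun c => if h : c ∈ Φ then (⟨c, h⟩ : Φ) else 1)
      (fun _ _ => Finset.mem_coe.mpr (Finset.mem_univ _)) ?_
    intro c hc c' hc' hcc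
    have hc1 : c ∈ Φ := by
      obtain ⟨a, _, rfl⟩ := Finset.mem_image.mp hc
      exact hΦ a
    have hc2 : c' ∈ Φ := by
      obtain ⟨a, _, rfl⟩ := Finset.mem_image.mp hc'
      exact hΦ a
    simp only [dif_pos hc1, dif_pos hc2] at hcc
    exact congrArg Subtype.val hcc
  have h3 : Nat.card {p : P × P // p.1 ^ 2 = p.2 ^ 2} = ∑ c ∈ s, r c ^ 2 := by
    rw [Nat.card_eq_fintype_card, Fintype.card_subtype]
    rw [Finset.card_eq_sum_card_fiberwise (f := fun p : P × P => p.1 ^ 2) (t := s)
      (fun p _ => Finset.mem_image.mpr ⟨p.1, Finset.mem_univ _, rfl⟩)]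
    apply Finset.sum_congr rfl
    intro c _
    have : (Finset.univ.filter (fun p : P × P => p.1 ^ 2 = p.2 ^ 2)).filter (fun p => p.1 ^ 2 = c) =
        (Finset.univ.filter (fun a : P => a ^ 2 = c)) ×ˢ (Finset.univ.filter (fun a : P => a ^ 2 = c)) := by
      ext ⟨a, h⟩
      simp only [Finset.mem_filter, Finset.mem_univ, true_and, Finset.mem_product]
      constructor
      · rintro ⟨h1, h2⟩
        exact ⟨h2, by rw [← h1, h2]⟩
      · rintro ⟨h1, h2⟩
        exact ⟨by rw [h1, h2], h1⟩
    rw [this, Finset.card_product, sq]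
  have h4 := sq_sum_le_card_mul_sum_sq (s := s) (f := r)
  rw [h1] at h4
  rw [h3]
  calc Nat.card P ^ 2 ≤ s.card * ∑ c ∈ s, r c ^ 2 := h4
    _ ≤ Nat.card Φ * ∑ c ∈ s, r c ^ 2 := Nat.mul_le_mul_right _ h2


/-- Let P be a finite 2-group in which N_P(⟨y⟩) = C_P(y) for every y ∈ P. If s is the number of conjugacy classes of involutions of P, then #(P/Φ(P)) ≤ s + 1; in particular the subgroup generated by the involutions of P has order at least #(P/Φ(P)). -/
theorem result {P : Type*} [Group P] [Finite P] (hP : IsPGroup 2 P)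
    (hirr : ∀ y : P, Subgroup.normalizer ((Subgroup.zpowers y : Subgroup P) : Set P) ≤ Subgroup.centralizer {y}) :
    Nat.card (P ⧸ frattini P) ≤ Nat.card {c : ConjClasses P // ∃ y : P, ConjClasses.mk y = c ∧ orderOf y = 2} + 1 ∧
    Nat.card (P ⧸ frattini P) ≤ Nat.card (Subgroup.closure {y : P | orderOf y = 2}) := by
  classical
  have : Fact (Nat.Prime 2) := ⟨Nat.prime_two⟩
  set X : Set P := {g | g ^ 2 = 1} with hX
  have hXinv : ∀ c x : P, x ∈ X → c * x * c⁻¹ ∈ X := by
    intro c x hx
    show (c * x * c⁻¹) ^ 2 = 1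
    rw [conj_pow, show x ^ 2 = 1 from hx]
    group
  -- the pairs `(a, h)` with `a² = h²` are the pairs `(g, h)` with `g ∈ X` commuting with `h`
  have e1 : {p : P × P // p.1 ^ 2 = p.2 ^ 2} ≃ {p : P × P // p.1 ∈ X ∧ Commute p.1 p.2} :=
    { toFun := fun p => ⟨(p.1.1 * p.1.2⁻¹, p.1.2), by
        have h0 := p.2
        set a := p.1.1
        set h := p.1.2
        -- `g = a h⁻¹` satisfies `h⁻¹ g h = g⁻¹`
        have hg : h * (a * h⁻¹) * h⁻¹ = (a * h⁻¹)⁻¹ := by
          have : a * a = h * h := by rw [← sq, ← sq]; exact h0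
          apply eq_inv_of_mul_eq_one_right
          calc (a * h⁻¹) * (h * (a * h⁻¹) * h⁻¹) = (a * a) * h⁻¹ * h⁻¹ := by group
            _ = (h * h) * h⁻¹ * h⁻¹ := by rw [this]
            _ = 1 := by group
        have hnorm : h ∈ Subgroup.normalizer ((Subgroup.zpowers (a * h⁻¹) : Subgroup P) : Set P) := by
          rw [Subgroup.mem_normalizer_iff]
          intro n
          constructor
          · intro hn
            obtain ⟨k, rfl⟩ := Subgroup.mem_zpowers_iff.mp hn
            rw [← conj_zpow, hg]
            exact Subgroup.zpow_mem _ (Subgroup.inv_mem _ (Subgroup.mem_zpowers _)) k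
          · intro hn
            obtain ⟨k, hk⟩ := Subgroup.mem_zpowers_iff.mp hn
            have : n = h⁻¹ * (a * h⁻¹) ^ k * h := by rw [hk]; group
            rw [this]
            have hg' : h⁻¹ * (a * h⁻¹) * h = (a * h⁻¹)⁻¹ := by
              have := congrArg (fun t => h⁻¹ * t⁻¹ * h) hg
              simp only [inv_inv] at this
              rw [← this]
              group
            have : h⁻¹ * (a * h⁻¹) ^ k * h = (h⁻¹ * (a * h⁻¹) * h) ^ k := by
              have := conj_zpow (a := h⁻¹) (b := a * h⁻¹) (i := k)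
              rw [inv_inv] at this
              exact this.symm
            rw [this, hg']
            exact Subgroup.zpow_mem _ (Subgroup.inv_mem _ (Subgroup.mem_zpowers _)) k
        have hcen := hirr (a * h⁻¹) hnorm
        rw [Subgroup.mem_centralizer_singleton_iff] at hcen
        -- hcen : h * (a h⁻¹) = (a h⁻¹) * h   (or the reverse)
        have hcomm : Commute (a * h⁻¹) h := hcen.symm
        refine ⟨?_, hcomm⟩
        show (a * h⁻¹) ^ 2 = 1
        have h6 : h * (a * h⁻¹) * h⁻¹ = a * h⁻¹ := by
          rw [← hcomm.eq]; group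
        rw [h6] at hg
        rw [sq]
        nth_rewrite 1 [hg]
        group⟩
      invFun := fun p => ⟨(p.1.1 * p.1.2, p.1.2), by
        have h1 : p.1.1 ^ 2 = 1 := p.2.1
        show (p.1.1 * p.1.2) ^ 2 = p.1.2 ^ 2
        rw [p.2.2.mul_pow, h1, one_mul]⟩
      left_inv := fun p => by
        apply Subtype.ext
        apply Prod.ext
        · show p.1.1 * p.1.2⁻¹ * p.1.2 = p.1.1
          group
        · rfl
      right_inv := fun p => by
        apply Subtype.ext
        apply Prod.ext
        · show p.1.1 * p.1.2 * p.1.2⁻¹ = p.1.1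
          group
        · rfl }
  have hS := card_commPairs_of_conjInvariant X hXinv
  rw [← Nat.card_congr e1] at hS
  -- classes meeting `X`: the trivial class and the classes of involutions
  set T := {c : ConjClasses P // ∃ y : P, ConjClasses.mk y = c ∧ orderOf y = 2} with hT
  have hcl : Nat.card {C : ConjClasses P // ∃ x ∈ X, ConjClasses.mk x = C} ≤ Nat.card T + 1 := by
    rw [← Finite.card_option]
    refine Nat.card_le_card_of_injective
      (fun C => if h : ∃ y : P, ConjClasses.mk y = C.1 ∧ orderOf y = 2 then some ⟨C.1, h⟩ else none) ?_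
    intro C C' hCC
    by_cases h : ∃ y : P, ConjClasses.mk y = C.1 ∧ orderOf y = 2
    · by_cases h' : ∃ y : P, ConjClasses.mk y = C'.1 ∧ orderOf y = 2
      · simp only [dif_pos h, dif_pos h', Option.some.injEq] at hCC
        exact Subtype.ext (congrArg (fun t : T => t.1) hCC)
      · simp only [dif_pos h, dif_neg h'] at hCC
        exact absurd hCC (by simp)
    · by_cases h' : ∃ y : P, ConjClasses.mk y = C'.1 ∧ orderOf y = 2
      · simp only [dif_neg h, dif_pos h'] at hCC
        exact absurd hCC (by simp)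
      · -- both are the class of `1`
        have key : ∀ D : {C : ConjClasses P // ∃ x ∈ X, ConjClasses.mk x = C},
            (¬ ∃ y : P, ConjClasses.mk y = D.1 ∧ orderOf y = 2) → D.1 = ConjClasses.mk 1 := by
          rintro ⟨D, x, hx, rfl⟩ hD
          by_cases hx1 : x = 1
          · show ConjClasses.mk x = ConjClasses.mk 1
            rw [hx1]
          · exact absurd ⟨x, rfl, orderOf_eq_prime hx hx1⟩ hD
        exact Subtype.ext ((key C h).trans (key C' h').symm)
  have hΦ : ∀ x : P, x ^ 2 ∈ frattini P := fun x => Cfsg.Agent.S3883.pow_prime_mem_frattini' hP x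
  have hCS := card_sq_le (frattini P) hΦ
  rw [hS] at hCS
  have hPΦ : Nat.card P = Nat.card (P ⧸ frattini P) * Nat.card (frattini P) :=
    Subgroup.card_eq_card_quotient_mul_card_subgroup _
  have hmain : Nat.card (P ⧸ frattini P) ≤ Nat.card T + 1 := by
    have hPpos : 0 < Nat.card P := Nat.card_pos
    have hΦpos : 0 < Nat.card (frattini P) := Nat.card_pos
    have h1 : Nat.card P * Nat.card P ≤ Nat.card P * (Nat.card (frattini P) * (Nat.card T + 1)) := by
      calc Nat.card P * Nat.card P = Nat.card P ^ 2 := (sq _).symm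
        _ ≤ Nat.card (frattini P) *
            (Nat.card {C : ConjClasses P // ∃ x ∈ X, ConjClasses.mk x = C} * Nat.card P) := hCS
        _ ≤ Nat.card (frattini P) * ((Nat.card T + 1) * Nat.card P) :=
            Nat.mul_le_mul_left _ (Nat.mul_le_mul_right _ hcl)
        _ = Nat.card P * (Nat.card (frattini P) * (Nat.card T + 1)) := by ring
    have h2 : Nat.card P ≤ Nat.card (frattini P) * (Nat.card T + 1) := Nat.le_of_mul_le_mul_left h1 hPpos
    rw [hPΦ, mul_comm] at h2
    exact Nat.le_of_mul_le_mul_left h2 hΦpos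
  refine ⟨hmain, hmain.trans ?_⟩
  -- `s + 1 ≤ |⟨involutions⟩|`
  rw [← Finite.card_option]
  have hrep : ∀ c : T, ∃ y : P, ConjClasses.mk y = c.1 ∧ orderOf y = 2 := fun c => c.2
  choose y hy1 hy2 using hrep
  refine Nat.card_le_card_of_injective
    (fun o : Option T => match o with
      | none => (1 : ↥(Subgroup.closure {y : P | orderOf y = 2}))
      | some c => ⟨y c, Subgroup.subset_closure (hy2 c)⟩) ?_
  intro o o' hoo
  match o, o' with
  | none, none => rfl
  | none, some c =>
    exfalso
    have : (1 : P) = y c := congrArg Subtype.val hoo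
    have h2 := hy2 c
    rw [← this, orderOf_one] at h2
    omega
  | some c, none =>
    exfalso
    have : y c = (1 : P) := congrArg Subtype.val hoo
    have h2 := hy2 c
    rw [this, orderOf_one] at h2
    omega
  | some c, some c' =>
    have : y c = y c' := congrArg Subtype.val hoo
    congr 1
    apply Subtype.ext
    rw [← hy1 c, ← hy1 c', this]

end Cfsg.Agent.S4029
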