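import Cfsg.Statements.S4034
import Cfsg.Agent.S0143
import Cfsg.Agent.S0044
import Cfsg.Agent.Lib.Helper1.Fitting
import Cfsg.Agent.Lib.Helper97.Cores
import Cfsg.Agent.Lib.Helper96.WielandtHall

set_option autoImplicit false
set_option linter.style.haveILetI false
open Cfsg
open scoped Pointwise

namespace Cfsg.Agent.S4034

universe u

/-- The size of the conjugacy class is the index of the centralizer. -/
theorem ncard_carrier_eq_index {G : Type*} [Group G] (x : G) :
    (ConjClasses.mk x).carrier.ncard = (Subgroup.centralizer {x}).index := by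
  rw [← ConjAct.orbit_eq_carrier_conjClasses, ← MulAction.index_stabilizer,
    Subgroup.centralizer_eq_comap_stabilizer]
  exact (Subgroup.index_comap_of_surjective _ (ConjAct.toConjAct (G := G)).surjective).symm

/-- the working hypothesis, in centralizer form -/
def Hyp (p : ℕ) (G : Type*) [Group G] : Prop :=
  ∀ x : G, (orderOf x).Coprime p → ∃ k : ℕ, (Subgroup.centralizer ({x} : Set G)).index = p ^ k

/-- for `N` normal, `|N : C ∩ N|` divides `|G : C|` -/
theorem relIndex_dvd_index_of_normal_right {G : Type*} [Group G] [Finite G] (C N : Subgroup G)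
    [N.Normal] : C.relIndex N ∣ C.index := by
  have h1 : C.relIndex (C ⊔ N) ∣ C.index := Subgroup.relIndex_dvd_index_of_le le_sup_left
  suffices h : C.relIndex (C ⊔ N) = C.relIndex N by rw [← h]; exact h1
  have hN : N.relIndex (C ⊔ N) = N.relIndex C := Subgroup.relIndex_sup_right C N
  have e1 : Nat.card (C ⊓ N : Subgroup G) * C.relIndex N = Nat.card N := by
    have := Subgroup.relIndex_mul_relIndex ⊥ (C ⊓ N) N bot_le inf_le_right
    rwa [Subgroup.relIndex_bot_left, Subgroup.relIndex_bot_left, Subgroup.inf_relIndex_right] at this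
  have e2 : Nat.card (C ⊓ N : Subgroup G) * N.relIndex C = Nat.card C := by
    have := Subgroup.relIndex_mul_relIndex ⊥ (C ⊓ N) C bot_le inf_le_left
    rwa [Subgroup.relIndex_bot_left, Subgroup.relIndex_bot_left, Subgroup.inf_relIndex_left] at this
  have e3 : Nat.card N * N.relIndex (C ⊔ N) = Nat.card (C ⊔ N : Subgroup G) := by
    have := Subgroup.relIndex_mul_relIndex ⊥ N (C ⊔ N) bot_le le_sup_right
    rwa [Subgroup.relIndex_bot_left, Subgroup.relIndex_bot_left] at this
  have e4 : Nat.card C * C.relIndex (C ⊔ N) = Nat.card (C ⊔ N : Subgroup G) := by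
    have := Subgroup.relIndex_mul_relIndex ⊥ C (C ⊔ N) bot_le le_sup_left
    rwa [Subgroup.relIndex_bot_left, Subgroup.relIndex_bot_left] at this
  have hC : 0 < Nat.card C := Nat.card_pos
  have key : Nat.card C * C.relIndex (C ⊔ N) = Nat.card C * C.relIndex N := by
    rw [e4, ← e3, hN, ← e1, ← e2]; ring
  exact Nat.eq_of_mul_eq_mul_left hC key

theorem hyp_of_normal {p : ℕ} (hp : p.Prime) {G : Type*} [Group G] [Finite G] (N : Subgroup G)
    [N.Normal] (h : Hyp p G) : Hyp p N := by
  intro x hx
  have hx' : (orderOf (x : G)).Coprime p := by rwa [Subgroup.orderOf_coe]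
  obtain ⟨k, hk⟩ := h x hx'
  have hc : Subgroup.centralizer ({x} : Set N) =
      (Subgroup.centralizer ({(x : G)} : Set G)).subgroupOf N := by
    ext y
    simp only [Subgroup.mem_centralizer_singleton_iff, Subgroup.mem_subgroupOf]
    constructor
    · intro hy
      have := congrArg Subtype.val hy
      simpa using this
    · intro hy
      apply Subtype.ext
      simpa using hy
  have hd : (Subgroup.centralizer ({x} : Set N)).index ∣ p ^ k := by
    rw [hc, ← hk]
    exact relIndex_dvd_index_of_normal_right _ N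
  obtain ⟨j, -, hj⟩ := (Nat.dvd_prime_pow hp).mp hd
  exact ⟨j, hj⟩

theorem exists_lift_coprime {p : ℕ} (hp : p.Prime) {G : Type*} [Group G] [Finite G]
    (N : Subgroup G) [N.Normal] (y : G ⧸ N) (hy : (orderOf y).Coprime p) :
    ∃ x : G, (x : G ⧸ N) = y ∧ (orderOf x).Coprime p := by
  obtain ⟨x0, rfl⟩ := QuotientGroup.mk_surjective y
  obtain ⟨a, m, hm, hn⟩ := Nat.exists_eq_pow_mul_and_not_dvd (orderOf_pos x0).ne' p hp.ne_one
  have hcop : (orderOf (x0 : G ⧸ N)).Coprime (p ^ a) := hy.pow_right a
  let k := Nat.chineseRemainder hcop 1 0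
  refine ⟨x0 ^ (k : ℕ), ?_, ?_⟩
  · rw [QuotientGroup.mk_pow]
    have h1 : (k : ℕ) ≡ 1 [MOD orderOf (x0 : G ⧸ N)] := k.2.1
    have := pow_eq_pow_iff_modEq.mpr h1
    rw [this, pow_one]
  · have hk0 : p ^ a ∣ (k : ℕ) := (Nat.modEq_zero_iff_dvd).mp k.2.2
    obtain ⟨t, ht⟩ := hk0
    have h1 : (x0 ^ (k : ℕ)) ^ m = 1 := by
      rw [← pow_mul, ht]
      have : p ^ a * t * m = orderOf x0 * t := by rw [hn]; ring
      rw [this, pow_mul, pow_orderOf_eq_one, one_pow]
    have hdvd := orderOf_dvd_of_pow_eq_one h1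
    exact Nat.Coprime.coprime_dvd_left hdvd ((Nat.Prime.coprime_iff_not_dvd hp).mpr hm).symm

theorem hyp_quotient {p : ℕ} (hp : p.Prime) {G : Type*} [Group G] [Finite G] (N : Subgroup G)
    [N.Normal] (h : Hyp p G) : Hyp p (G ⧸ N) := by
  intro y hy
  obtain ⟨x, rfl, hx⟩ := exists_lift_coprime hp N y hy
  obtain ⟨k, hk⟩ := h x hx
  have hle : (Subgroup.centralizer ({x} : Set G)).map (QuotientGroup.mk' N) ≤
      Subgroup.centralizer ({(x : G ⧸ N)} : Set (G ⧸ N)) := by
    rintro _ ⟨c, hc, rfl⟩
    have hc : c ∈ Subgroup.centralizer ({x} : Set G) := hc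
    rw [Subgroup.mem_centralizer_singleton_iff] at hc ⊢
    show (c : G ⧸ N) * (x : G ⧸ N) = (x : G ⧸ N) * (c : G ⧸ N)
    rw [← QuotientGroup.mk_mul, ← QuotientGroup.mk_mul, hc]
  have h1 := Subgroup.index_dvd_of_le hle
  have h2 := Subgroup.index_map_dvd (Subgroup.centralizer ({x} : Set G))
    (QuotientGroup.mk'_surjective N)
  have h3 : (Subgroup.centralizer ({(x : G ⧸ N)} : Set (G ⧸ N))).index ∣ p ^ k := by
    rw [← hk]; exact h1.trans h2
  obtain ⟨j, -, hj⟩ := (Nat.dvd_prime_pow hp).mp h3
  exact ⟨j, hj⟩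

/-- a finite group without nontrivial `p'`-elements is a `p`-group -/
theorem isPGroup_of_no_coprime {p : ℕ} (hp : p.Prime) {G : Type*} [Group G] [Finite G]
    (h : ∀ x : G, (orderOf x).Coprime p → x = 1) : IsPGroup p G := by
  intro x
  obtain ⟨a, m, hm, hn⟩ := Nat.exists_eq_pow_mul_and_not_dvd (orderOf_pos x).ne' p hp.ne_one
  refine ⟨a, ?_⟩
  apply h
  rw [orderOf_pow_of_dvd (pow_ne_zero _ hp.ne_zero) (by rw [hn]; exact dvd_mul_right _ _), hn,
    Nat.mul_div_cancel_left _ (pow_pos hp.pos a)]
  exact ((Nat.Prime.coprime_iff_not_dvd hp).mpr hm).symm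

theorem solvable_of_hyp {p : ℕ} (hp : p.Prime) : ∀ n : ℕ, ∀ (G : Type u) [Group G] [Finite G],
    Nat.card G = n → Hyp p G → Group.IsSolvable G := by
  intro n
  induction n using Nat.strong_induction_on with
  | _ n ih =>
  intro G _ _ hn h
  haveI : Fact p.Prime := ⟨hp⟩
  by_cases hsimple : IsSimpleGroup G
  · by_cases hex : ∃ x : G, x ≠ 1 ∧ (orderOf x).Coprime p
    · obtain ⟨x, hx1, hx⟩ := hex
      obtain ⟨k, hk⟩ := h x hx
      have hprime := Cfsg.Agent.S0143.result p k hp x hx1 hk
      haveI : Fact (Nat.card G).Prime := ⟨hprime⟩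
      haveI : IsCyclic G := isCyclic_of_prime_card (α := G) rfl
      exact Group.isSolvable_of_comm (fun a b => (IsCyclic.commGroup (α := G)).mul_comm a b)
    · push Not at hex
      have hpg : IsPGroup p G := isPGroup_of_no_coprime hp (fun x hx => by
        by_contra hx1
        exact hex x hx1 hx)
      haveI := hpg.isNilpotent
      infer_instance
  · by_cases htriv : Subsingleton G
    · infer_instance
    · haveI : Nontrivial G := not_subsingleton_iff_nontrivial.mp htriv
      obtain ⟨N, hNn, hNbot, hNtop⟩ : ∃ N : Subgroup G, N.Normal ∧ N ≠ ⊥ ∧ N ≠ ⊤ := by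
        by_contra hcon
        push Not at hcon
        apply hsimple
        refine ⟨fun N hN => ?_⟩
        by_cases hb : N = ⊥
        · exact Or.inl hb
        · exact Or.inr (hcon N hN hb)
      haveI := hNn
      have hN_lt : Nat.card N < n := by
        rw [← hn]
        exact Cfsg.Agent.Lib.Helper96.card_lt_card_of_lt (lt_top_iff_ne_top.mpr hNtop) |>.trans_eq
          (by rw [Subgroup.card_top])
      have hQ_lt : Nat.card (G ⧸ N) < n := by
        rw [← hn, ← Subgroup.index_eq_card, ← Subgroup.card_mul_index N]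
        have h1 : 1 < Nat.card N := by
          rw [Subgroup.one_lt_card_iff_ne_bot]; exact hNbot
        have h2 : 0 < N.index := Nat.pos_of_ne_zero Subgroup.index_ne_zero_of_finite
        nlinarith
      haveI := ih _ hN_lt N rfl (hyp_of_normal hp N h)
      haveI := ih _ hQ_lt (G ⧸ N) rfl (hyp_quotient hp N h)
      exact Group.isSolvable_of_ker_le_range N.subtype (QuotientGroup.mk' N)
        (by rw [QuotientGroup.ker_mk', Subgroup.range_subtype])

/-- core-free case: the Fitting subgroup is the abelian normal `p`-complement -/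
theorem forward_core_free {p : ℕ} [Fact p.Prime] {G : Type u} [Group G] [Finite G]
    [Group.IsSolvable G] (hO : pCore p G = ⊥) (h : Hyp p G) :
    ∃ K : Subgroup G, K.Normal ∧ (∀ a ∈ K, ∀ b ∈ K, a * b = b * a) ∧ (Nat.card K).Coprime p ∧
      ∃ k : ℕ, K.index = p ^ k := by
  have hp : p.Prime := Fact.out
  set F := fittingSubgroup G with hF
  haveI hFn : F.Normal := Cfsg.Agent.Lib.Helper1.fittingSubgroup_normal
  have hFnil : Group.IsNilpotent F := Cfsg.Agent.Lib.Helper1.fittingSubgroup_isNilpotent
  have hCF : Subgroup.centralizer (F : Set G) ≤ F := Cfsg.Agent.S0044.result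
  -- `F` is a `p'`-group
  have hFp : (Nat.card F).Coprime p := by
    rw [Nat.coprime_comm, Nat.Prime.coprime_iff_not_dvd hp]
    intro hdvd
    obtain ⟨P⟩ : Nonempty (Sylow p F) := inferInstance
    have htfae := (Group.isNilpotent_of_finite_tfae (G := F)).out 0 3
    have hPn : (P : Subgroup F).Normal := htfae.mp hFnil p inferInstance P
    haveI := hPn
    haveI hPc : (P : Subgroup F).Characteristic := Sylow.characteristic_of_normal P hPn
    have hnG : ((P : Subgroup F).map F.subtype).Normal :=
      ConjAct.normal_of_characteristic_of_normal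
    have hpg : IsPGroup p ((P : Subgroup F).map F.subtype) := P.isPGroup'.map _
    have hle := Cfsg.Agent.Lib.Helper97.le_pCore_of_normal hnG hpg
    rw [hO, le_bot_iff] at hle
    have hPbot : (P : Subgroup F) = ⊥ :=
      (Subgroup.map_eq_bot_iff_of_injective _ F.subtype_injective).mp hle
    exact P.ne_bot_of_dvd_card hdvd hPbot
  have hcent : ∀ x : G, (orderOf x).Coprime p → F ≤ Subgroup.centralizer ({x} : Set G) := by
    intro x hx
    obtain ⟨k, hk⟩ := h x hx
    have h1 : (Subgroup.centralizer ({x} : Set G)).relIndex F ∣ p ^ k := by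
      rw [← hk]; exact relIndex_dvd_index_of_normal_right _ F
    have h2 : (Subgroup.centralizer ({x} : Set G)).relIndex F ∣ Nat.card F :=
      Subgroup.relIndex_dvd_card _ _
    have h3 : (Subgroup.centralizer ({x} : Set G)).relIndex F = 1 := by
      have hc : Nat.Coprime (p ^ k) (Nat.card F) := Nat.Coprime.pow_left k hFp.symm
      exact Nat.Coprime.eq_one_of_dvd (Nat.Coprime.coprime_dvd_left h1 hc) h2
    exact Subgroup.relIndex_eq_one.mp h3
  have hmemF : ∀ x : G, (orderOf x).Coprime p → x ∈ F := by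
    intro x hx
    apply hCF
    rw [Subgroup.mem_centralizer_iff]
    intro f hf
    have := hcent x hx hf
    rw [Subgroup.mem_centralizer_singleton_iff] at this
    exact this
  have hab : ∀ a ∈ F, ∀ b ∈ F, a * b = b * a := by
    intro a ha b hb
    have hoa : (orderOf a).Coprime p := by
      have h1 : orderOf a ∣ Nat.card F := by
        have := orderOf_dvd_natCard (⟨a, ha⟩ : F)
        rwa [← Subgroup.orderOf_coe] at this
      exact Nat.Coprime.coprime_dvd_left h1 hFp
    have := hcent a hoa hb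
    rw [Subgroup.mem_centralizer_singleton_iff] at this
    exact this.symm
  have hpg : IsPGroup p (G ⧸ F) := by
    intro g
    induction g using QuotientGroup.induction_on with
    | H x =>
      refine ⟨(orderOf x).factorization p, ?_⟩
      rw [← QuotientGroup.mk_pow, QuotientGroup.eq_one_iff]
      apply hmemF
      rw [orderOf_pow_of_dvd (pow_ne_zero _ hp.ne_zero) (Nat.ordProj_dvd _ _)]
      exact (Nat.coprime_ordCompl hp (orderOf_pos x).ne').symm
  obtain ⟨k, hk⟩ := hpg.exists_card_eq
  exact ⟨F, hFn, hab, hFp, k, by rw [Subgroup.index_eq_card, hk]⟩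

theorem forward {p : ℕ} (hp : p.Prime) {G : Type u} [Group G] [Finite G] (h : Hyp p G) :
    ∃ H : Subgroup G, IsMulCommutative H ∧ ¬ p ∣ Nat.card H ∧ ∃ k : ℕ, H.index = p ^ k := by
  haveI : Fact p.Prime := ⟨hp⟩
  haveI : Group.IsSolvable G := solvable_of_hyp hp _ G rfl h
  set O := pCore p G with hOdef
  haveI hOn : O.Normal := Cfsg.Agent.Lib.Helper97.pCore_normal p
  have hOp : IsPGroup p O := Cfsg.Agent.Lib.Helper97.isPGroup_pCore p G
  have hQ : Hyp p (G ⧸ O) := hyp_quotient hp O h
  obtain ⟨K, hKn, hKc, hKp, k, hKi⟩ :=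
    forward_core_free (Cfsg.Agent.Lib.Helper97.pCore_quotient_pCore p) hQ
  set π := QuotientGroup.mk' O with hπ
  have hπs : Function.Surjective π := QuotientGroup.mk'_surjective O
  set M := K.comap π with hM
  have hMi : M.index = p ^ k := by rw [hM, Subgroup.index_comap_of_surjective _ hπs, hKi]
  have hrel : O.relIndex M = Nat.card K := by
    have := Subgroup.relIndex_comap (⊥ : Subgroup (G ⧸ O)) π M
    rw [MonoidHom.comap_bot, QuotientGroup.ker_mk', Subgroup.relIndex_bot_left, hM,
      Subgroup.map_comap_eq_self_of_surjective hπs] at this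
    exact this
  set N0 := O.subgroupOf M with hN0
  haveI : N0.Normal := Subgroup.normal_subgroupOf
  have hN0p : IsPGroup p N0 := hOp.comap_subtype
  obtain ⟨a, ha⟩ := hN0p.exists_card_eq
  have hN0i : N0.index = Nat.card K := hrel
  have hcop : Nat.Coprime (Nat.card N0) N0.index := by
    rw [ha, hN0i]; exact Nat.Coprime.pow_left a hKp.symm
  obtain ⟨H', hH'⟩ := Subgroup.exists_right_complement'_of_coprime hcop
  -- key: the projection is injective on `H'`
  have hkey : ∀ x ∈ H'.map M.subtype, π x = 1 → x = 1 := by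
    rintro _ ⟨m, hm, rfl⟩ hx
    have hmO : (m : G) ∈ O := (QuotientGroup.eq_one_iff (m : G)).mp hx
    have hmN0 : m ∈ N0 := hmO
    have : m ∈ N0 ⊓ H' := ⟨hmN0, hm⟩
    rw [hH'.disjoint.eq_bot, Subgroup.mem_bot] at this
    rw [this]; rfl
  have hHK : ∀ x ∈ H'.map M.subtype, π x ∈ K := by
    rintro _ ⟨m, -, rfl⟩
    exact m.2
  refine ⟨H'.map M.subtype, ⟨⟨fun x y => ?_⟩⟩, ?_, a + k, ?_⟩
  · apply Subtype.ext
    have hxy : (x : G) * y * ((y : G) * x)⁻¹ ∈ H'.map M.subtype :=
      mul_mem (mul_mem x.2 y.2) (inv_mem (mul_mem y.2 x.2))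
    have h1 := hkey _ hxy (by
      rw [map_mul, map_inv, map_mul, map_mul, hKc _ (hHK _ x.2) _ (hHK _ y.2)]
      exact mul_inv_cancel _)
    show (x : G) * y = y * x
    exact mul_inv_eq_one.mp h1
  · have h1 : Nat.card (H'.map M.subtype) = Nat.card K := by
      rw [Subgroup.card_map_of_injective M.subtype_injective, ← hH'.symm.index_eq_card, hN0i]
    rw [h1, ← Nat.Prime.coprime_iff_not_dvd hp]
    exact hKp.symm
  · have hle : H'.map M.subtype ≤ M := Subgroup.map_subtype_le H'
    rw [← Subgroup.relIndex_mul_index hle, hMi, pow_add]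
    congr 1
    have : (H'.map M.subtype).subgroupOf M = H' :=
      Subgroup.comap_map_eq_self_of_injective M.subtype_injective H'
    rw [Subgroup.relIndex, this, hH'.index_eq_card, ha]

theorem backward {p : ℕ} (hp : p.Prime) {G : Type u} [Group G] [Finite G] (H : Subgroup G)
    (hHc : IsMulCommutative H) (hHp : ¬ p ∣ Nat.card H) (k : ℕ) (hk : H.index = p ^ k) :
    Hyp p G := by
  intro x hx
  have hnil : Group.IsNilpotent H := by
    letI : CommGroup H := { (inferInstance : Group H) with mul_comm := hHc.is_comm.comm }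
    exact CommGroup.isNilpotent
  have hHall : (Nat.card H).Coprime H.index := by
    rw [hk]; exact Nat.Coprime.pow_right k ((Nat.Prime.coprime_iff_not_dvd hp).mpr hHp).symm
  obtain ⟨g, hg⟩ := Cfsg.Agent.Lib.Helper96.wielandt_nilpotent_hall H hnil hHall _
    (Subgroup.zpowers x) rfl (by
      intro q hq hqd
      rw [Nat.card_zpowers] at hqd
      have hqp : q ≠ p := by
        rintro rfl
        exact (Nat.Prime.coprime_iff_not_dvd hq).mp hx.symm hqd
      have h1 : q ∣ Nat.card G := hqd.trans (orderOf_dvd_natCard x)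
      rw [← Subgroup.card_mul_index H, hk] at h1
      rcases (Nat.Prime.dvd_mul hq).mp h1 with h2 | h2
      · exact h2
      · exact absurd ((Nat.prime_dvd_prime_iff_eq hq hp).mp (hq.dvd_of_dvd_pow h2)) hqp)
  have hx_mem : x ∈ MulAut.conj g • H := hg (Subgroup.mem_zpowers x)
  have hle : MulAut.conj g • H ≤ Subgroup.centralizer {x} := by
    intro y hy
    rw [Subgroup.mem_centralizer_singleton_iff]
    obtain ⟨a, ha, rfl⟩ := Subgroup.mem_smul_pointwise_iff_exists _ _ _ |>.mp hx_mem
    obtain ⟨b, hb, rfl⟩ := Subgroup.mem_smul_pointwise_iff_exists _ _ _ |>.mp hy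
    have hab : a * b = b * a := congrArg Subtype.val (hHc.is_comm.comm ⟨a, ha⟩ ⟨b, hb⟩)
    simp only [MulAut.smul_def, MulAut.conj_apply]
    calc g * b * g⁻¹ * (g * a * g⁻¹) = g * (b * a) * g⁻¹ := by group
      _ = g * (a * b) * g⁻¹ := by rw [hab]
      _ = g * a * g⁻¹ * (g * b * g⁻¹) := by group
  have hidx : (MulAut.conj g • H : Subgroup G).index = H.index :=
    Subgroup.index_map_of_bijective (MulAction.bijective (MulAut.conj g)) H
  have hdvd : (Subgroup.centralizer ({x} : Set G)).index ∣ p ^ k := by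
    have := Subgroup.index_dvd_of_le hle
    rwa [hidx, hk] at this
  obtain ⟨j, -, hj⟩ := (Nat.dvd_prime_pow hp).mp hdvd
  exact ⟨j, hj⟩

/-- Let G be a finite group and p a prime. Every conjugacy class of p-regular elements of G (elements of order prime to p) has p-power size if and only if G has an abelian p-complement, i.e. an abelian subgroup of order prime to p and p-power index. -/
theorem result {G : Type*} [Group G] [Finite G] {p : ℕ} (hp : p.Prime) :
    (∀ x : G, (orderOf x).Coprime p → ∃ k : ℕ, (ConjClasses.mk x).carrier.ncard = p ^ k) ↔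
    (∃ H : Subgroup G, IsMulCommutative H ∧ ¬ p ∣ Nat.card H ∧ ∃ k : ℕ, H.index = p ^ k) := by
  constructor
  · intro h
    apply forward hp
    intro x hx
    obtain ⟨k, hk⟩ := h x hx
    exact ⟨k, by rw [← ncard_carrier_eq_index, hk]⟩
  · rintro ⟨H, hHc, hHp, k, hk⟩ x hx
    obtain ⟨j, hj⟩ := backward hp H hHc hHp k hk x hx
    exact ⟨j, by rw [ncard_carrier_eq_index, hj]⟩

end Cfsg.Agent.S4034
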