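import Cfsg.Statements.S4035
import Cfsg.Agent.Lib.Helper67.RealOdd

set_option autoImplicit false
open Cfsg
open scoped Pointwise

namespace Cfsg.Agent.S4035

open Cfsg.Agent.Lib.Helper67

/-- Membership in a conjugate subgroup, in elementwise form. -/
theorem mem_conj_smul_iff {G : Type*} [Group G] (M : Subgroup G) (c x : G) :
    x ∈ MulAut.conj c • M ↔ c⁻¹ * x * c ∈ M := by
  rw [Subgroup.mem_pointwise_smul_iff_inv_smul_mem]
  simp [MulAut.smul_def]

/-- In a finite group, the conjugates of a proper subgroup do not cover the group.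
(Proof as in `Cfsg.Agent.Lib.Helper73.exists_not_mem_conj_of_ne_top`.) -/
theorem exists_not_mem_conj_of_ne_top {G : Type*} [Group G] [Finite G] (M : Subgroup G)
    (hM : M ≠ ⊤) : ∃ g : G, ∀ c : G, g ∉ MulAut.conj c • M := by
  by_contra hcon
  push Not at hcon
  let f : (G ⧸ M) × M → G := fun qm => qm.1.out * (qm.2 : G) * (qm.1.out)⁻¹
  have hsurj : Function.Surjective f := by
    intro g
    obtain ⟨c, hc⟩ := hcon g
    rw [mem_conj_smul_iff] at hc
    have hout : c⁻¹ * (QuotientGroup.mk c : G ⧸ M).out ∈ M := by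
      have := QuotientGroup.mk_out_eq_mul M c
      obtain ⟨h, hh⟩ := this
      rw [hh]
      simp
    set d := (QuotientGroup.mk c : G ⧸ M).out with hd
    refine ⟨(QuotientGroup.mk c, ⟨d⁻¹ * g * d, ?_⟩), ?_⟩
    · have h1 : d⁻¹ * g * d = (c⁻¹ * d)⁻¹ * (c⁻¹ * g * c) * (c⁻¹ * d) := by group
      rw [h1]
      exact M.mul_mem (M.mul_mem (M.inv_mem hout) hc) hout
    · simp only [f]
      rw [← hd]
      group
  have hcard : Nat.card ((G ⧸ M) × M) ≤ Nat.card G := by
    rw [Nat.card_congr (Subgroup.groupEquivQuotientProdSubgroup (s := M))]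
  have hbij := hsurj.bijective_of_nat_card_le hcard
  have hsub : Subsingleton (G ⧸ M) := by
    constructor
    intro q₁ q₂
    have : f (q₁, 1) = f (q₂, 1) := by simp [f]
    have := hbij.1 this
    exact (Prod.mk.inj this).1
  apply hM
  rw [← Subgroup.index_eq_one, Subgroup.index, Nat.card_eq_one_iff_unique]
  exact ⟨hsub, ⟨QuotientGroup.mk 1⟩⟩

/-- An element of a group lies in a subgroup as soon as two coprime powers of it do. -/
theorem mem_of_coprime_pow_mem {G : Type*} [Group G] (H : Subgroup G) (y : G) (a b : ℕ)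
    (hcop : Nat.Coprime a b) (h1 : y ^ a ∈ H) (h2 : y ^ b ∈ H) : y ∈ H := by
  have hb := Nat.gcd_eq_gcd_ab a b
  rw [hcop.gcd_eq_one] at hb
  have : y = (y ^ a) ^ (Nat.gcdA a b) * (y ^ b) ^ (Nat.gcdB a b) := by
    calc y = y ^ (((1 : ℕ) : ℤ)) := by simp
      _ = y ^ ((a : ℤ) * Nat.gcdA a b + (b : ℤ) * Nat.gcdB a b) := by rw [hb]
      _ = _ := by rw [zpow_add, zpow_mul, zpow_mul, zpow_natCast, zpow_natCast]
  rw [this]
  exact H.mul_mem (H.zpow_mem h1 _) (H.zpow_mem h2 _)

/-- The size of the conjugacy class is the index of the centralizer. -/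
theorem ncard_carrier_eq_index {G : Type*} [Group G] (x : G) :
    (ConjClasses.mk x).carrier.ncard = (Subgroup.centralizer {x}).index := by
  rw [index_centralizer_eq_ncard_orbit, ConjAct.orbit_eq_carrier_conjClasses]

/-- If the centralizer `C` of `x` has index prime to `p`, then every `p`-element `y` of `C` lies in a Sylow
`p`-subgroup of `G` contained in `C`. -/
theorem exists_sylow_le_centralizer {G : Type*} [Group G] [Finite G] {p : ℕ} [Fact p.Prime] (x : G)
    (hx : ¬ p ∣ (Subgroup.centralizer {x}).index) (y : G) (hy : y ∈ Subgroup.centralizer {x})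
    (hyp : ∃ k : ℕ, y ^ p ^ k = 1) :
    ∃ Q : Sylow p G, (Q : Subgroup G) ≤ Subgroup.centralizer {x} ∧ y ∈ Q := by
  have hp : p.Prime := Fact.out
  set C := Subgroup.centralizer {x} with hC
  obtain ⟨k, hk⟩ := hyp
  let yC : C := ⟨y, hy⟩
  have hZ : IsPGroup p (Subgroup.zpowers yC) := by
    rintro ⟨z, hz⟩
    obtain ⟨j, rfl⟩ := Subgroup.mem_zpowers_iff.1 hz
    refine ⟨k, ?_⟩
    apply Subtype.ext
    apply Subtype.ext
    simp only [Subgroup.coe_pow, Subgroup.coe_zpow, Subgroup.coe_one, yC]
    rw [← zpow_natCast, ← zpow_mul, mul_comm, zpow_mul, zpow_natCast, hk, one_zpow]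
  obtain ⟨Q0, hQ0⟩ := hZ.exists_le_sylow
  have hcard : Nat.card ((Q0 : Subgroup C).map C.subtype) = p ^ (Nat.card G).factorization p := by
    rw [Subgroup.card_map_of_injective C.subtype_injective, Q0.card_eq_multiplicity]
    congr 1
    have hmul : Nat.card G = Nat.card C * C.index := (Subgroup.card_mul_index C).symm
    rw [hmul, Nat.factorization_mul Nat.card_pos.ne' (Subgroup.index_ne_zero_of_finite),
      Finsupp.add_apply, Nat.factorization_eq_zero_of_not_dvd hx, add_zero]
  refine ⟨Sylow.ofCard _ hcard, ?_, ?_⟩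
  · rw [Sylow.coe_ofCard]
    exact Subgroup.map_subtype_le _
  · show y ∈ ((Sylow.ofCard _ hcard : Sylow p G) : Subgroup G)
    rw [Sylow.coe_ofCard]
    exact ⟨yC, hQ0 (Subgroup.mem_zpowers yC), rfl⟩

/-- Let G be a finite group and p a prime such that p divides the size of no conjugacy class of p-regular elements (elements of order prime to p). Then G is the internal direct product of a Sylow p-subgroup P and a normal subgroup H of order prime to p: P is normal, P ⊓ H = 1 and PH = G. -/
theorem result {G : Type*} [Group G] [Finite G] {p : ℕ} [Fact p.Prime]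
    (h : ∀ x : G, (orderOf x).Coprime p → ¬ p ∣ (ConjClasses.mk x).carrier.ncard) (P : Sylow p G) :
    (P : Subgroup G).Normal ∧ ∃ H : Subgroup G, H.Normal ∧ ¬ p ∣ Nat.card H ∧
      (P : Subgroup G) ⊓ H = ⊥ ∧ (P : Subgroup G) ⊔ H = ⊤ := by
  have hp : p.Prime := Fact.out
  have h' : ∀ x : G, (orderOf x).Coprime p → ¬ p ∣ (Subgroup.centralizer {x}).index := by
    intro x hx; rw [← ncard_carrier_eq_index]; exact h x hx
  -- Step 1: every element normalizes some Sylow p-subgroup
  have hstep1 : ∀ g : G, ∃ Q : Sylow p G, g ∈ Subgroup.normalizer ((Q : Subgroup G) : Set G) := by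
    intro g
    obtain ⟨a, m, hm, hgm⟩ := Nat.exists_eq_pow_mul_and_not_dvd (orderOf_pos g).ne' p hp.ne_one
    set x := g ^ (p ^ a) with hxdef
    set y := g ^ m with hydef
    have hmpos : 0 < m := Nat.pos_of_ne_zero (by rintro rfl; simp at hm)
    have hxord : orderOf x = m := by
      rw [hxdef, orderOf_pow, hgm, Nat.gcd_mul_right_left, Nat.mul_div_cancel_left _ (pow_pos hp.pos a)]
    have hxcop : (orderOf x).Coprime p := by
      rw [hxord]; exact ((Nat.Prime.coprime_iff_not_dvd hp).2 hm).symm
    have hyC : y ∈ Subgroup.centralizer {x} := by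
      rw [Subgroup.mem_centralizer_iff]
      intro z hz
      rw [Set.mem_singleton_iff] at hz
      subst hz
      exact ((Commute.refl g).pow_pow _ _).eq
    have hyp : ∃ k : ℕ, y ^ p ^ k = 1 := ⟨a, by rw [hydef, ← pow_mul, mul_comm, ← hgm, pow_orderOf_eq_one]⟩
    obtain ⟨Q, hQC, hyQ⟩ := exists_sylow_le_centralizer x (h' x hxcop) y hyC hyp
    refine ⟨Q, ?_⟩
    apply mem_of_coprime_pow_mem _ g (p ^ a) m (Nat.Coprime.pow_left a ((Nat.Prime.coprime_iff_not_dvd hp).2 hm))
    · -- x centralizes Q
      rw [Subgroup.mem_normalizer_iff]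
      intro q
      have hcomm : ∀ q' : G, q' ∈ (Q : Subgroup G) → x * q' * x⁻¹ = q' := by
        intro q' hq'
        have := Subgroup.mem_centralizer_iff.1 (hQC hq') x rfl
        rw [this, mul_inv_cancel_right]
      constructor
      · intro hq; rw [hcomm q hq]; exact hq
      · intro hq
        have h2 := hcomm _ hq
        have h3 : x⁻¹ * (x * q * x⁻¹) * x = q := by group
        have : x * q * x⁻¹ = q := by
          have h4 : x * (x * q * x⁻¹) * x⁻¹ = x * q * x⁻¹ := h2
          have := congrArg (fun t => x⁻¹ * t * x) h4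
          beta_reduce at this
          rw [h3] at this
          have h5 : x⁻¹ * (x * (x * q * x⁻¹) * x⁻¹) * x = x * q * x⁻¹ := by group
          rw [h5] at this
          exact this
        rw [← this]; exact hq
    · exact Subgroup.le_normalizer hyQ
  -- Step 2: P is normal
  have hPn : (P : Subgroup G).Normal := by
    rw [← Subgroup.normalizer_eq_top_iff]
    by_contra hne
    obtain ⟨g, hg⟩ := exists_not_mem_conj_of_ne_top _ hne
    obtain ⟨Q, hQ⟩ := hstep1 g
    obtain ⟨c, hc⟩ := MulAction.exists_smul_eq G P Q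
    apply hg c
    rw [mem_conj_smul_iff]
    have hgQ : g • Q = Q := Sylow.smul_eq_iff_mem_normalizer.2 hQ
    refine Sylow.smul_eq_iff_mem_normalizer.1 ?_
    rw [mul_smul, mul_smul, hc, hgQ, ← hc, inv_smul_smul]
  refine ⟨hPn, ?_⟩
  -- Step 3: a complement
  obtain ⟨H, hH⟩ := Subgroup.exists_right_complement'_of_coprime (N := (P : Subgroup G)) P.card_coprime_index
  have hHcard : Nat.card H = (P : Subgroup G).index := (hH.symm.index_eq_card).symm
  have hpH : ¬ p ∣ Nat.card H := by rw [hHcard]; exact P.not_dvd_index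
  -- Step 4: H centralizes P
  have hcent : ∀ x : G, x ∈ H → ∀ u : G, u ∈ (P : Subgroup G) → u * x = x * u := by
    intro x hxH u hu
    have hxord : orderOf x ∣ Nat.card H := by
      have := orderOf_dvd_natCard (⟨x, hxH⟩ : H)
      rwa [Subgroup.orderOf_mk] at this
    have hxcop : (orderOf x).Coprime p := by
      apply Nat.Coprime.symm
      rw [Nat.Prime.coprime_iff_not_dvd hp]
      intro hd; exact hpH (hd.trans hxord)
    obtain ⟨Q, hQC, -⟩ := exists_sylow_le_centralizer x (h' x hxcop) 1 (Subgroup.one_mem _) ⟨0, by simp⟩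
    obtain ⟨c, hc⟩ := MulAction.exists_smul_eq G P Q
    have hQP : Q = P := by rw [← hc]; exact Sylow.smul_eq_of_normal
    have := hQC (hQP ▸ hu : u ∈ (Q : Subgroup G))
    exact (Subgroup.mem_centralizer_iff.1 this x rfl).symm
  -- Step 5: H is normal
  have hHn : H.Normal := by
    rw [← Subgroup.normalizer_eq_top_iff, eq_top_iff, ← hH.sup_eq_top]
    apply sup_le
    · intro u hu
      rw [Subgroup.mem_normalizer_iff]
      intro k
      constructor
      · intro hk
        rw [hcent k hk u hu, mul_inv_cancel_right]; exact hk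
      · intro hk
        have h1 := hcent _ hk u⁻¹ ((P : Subgroup G).inv_mem hu)
        have h2 : k = u⁻¹ * (u * k * u⁻¹) * u := by group
        rw [h2, h1]
        simpa using hk
    · exact Subgroup.le_normalizer
  exact ⟨H, hHn, hpH, hH.disjoint.eq_bot, hH.sup_eq_top⟩

end Cfsg.Agent.S4035
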