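import Cfsg.Statements.S4036

set_option autoImplicit false
open Cfsg

namespace Cfsg.Agent.S4036

/-- Let P be a finite abelian p-group and K a group of automorphisms of P (a subgroup of Aut P) whose order is divisible by p. If all non-identity elements of K have the same fixed-point subgroup on P, then K has no non-trivial normal subgroup of order prime to p. -/
theorem result {P : Type*} [CommGroup P] [Finite P] {p : ℕ}
    [Fact p.Prime] (hP : IsPGroup p P) (K : Subgroup (MulAut P)) (hK : p ∣ Nat.card K)
    (hfix : ∀ x y : MulAut P, x ∈ K → y ∈ K → x ≠ 1 → y ≠ 1 → ∀ v : P, x v = v ↔ y v = v) :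
    ∀ N : Subgroup ↥K, N.Normal → ¬ p ∣ Nat.card N → N = ⊥ := by
  classical
  intro N hNn hpN
  by_contra hne
  have hp : p.Prime := Fact.out
  have : Fintype N := Fintype.ofFinite N
  have : Fintype P := Fintype.ofFinite P
  -- a nonidentity element of N
  obtain ⟨n0, hn0N, hn01⟩ : ∃ n0 : K, n0 ∈ N ∧ n0 ≠ 1 := by
    by_contra hcon
    push Not at hcon
    exact hne ((Subgroup.eq_bot_iff_forall N).2 hcon)
  have hn01' : (n0 : MulAut P) ≠ 1 := fun h => hn01 (Subtype.ext h)
  -- an element of order p in K
  obtain ⟨a, ha⟩ := exists_prime_orderOf_dvd_card' (G := K) p hK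
  have ha1 : a ≠ 1 := by
    rintro rfl
    rw [orderOf_one] at ha
    exact hp.one_lt.ne ha
  have ha1' : (a : MulAut P) ≠ 1 := fun h => ha1 (Subtype.ext h)
  have hap : (a : MulAut P) ^ p = 1 := by
    have := pow_orderOf_eq_one a
    rw [ha] at this
    exact congrArg Subtype.val this
  -- the norm map
  let T : P →* P := ∏ k : N, ((k : K) : MulAut P).toMonoidHom
  have hT : ∀ v, T v = ∏ k : N, ((k : K) : MulAut P) v := by
    intro v
    simp [T, MonoidHom.finsetProd_apply]
  -- equivariance under K
  have hTg : ∀ g : K, ∀ v, (g : MulAut P) (T v) = T ((g : MulAut P) v) := by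
    intro g v
    rw [hT, hT, map_prod]
    let e : N ≃ N :=
      { toFun := fun k => ⟨g * k * g⁻¹, hNn.conj_mem k k.2 g⟩
        invFun := fun k => ⟨g⁻¹ * k * g, by simpa using hNn.conj_mem k k.2 g⁻¹⟩
        left_inv := fun k => by apply Subtype.ext; simp [mul_assoc]
        right_inv := fun k => by apply Subtype.ext; simp [mul_assoc] }
    refine Fintype.prod_equiv e _ _ (fun k => ?_)
    simp [e, MulAut.mul_apply]
  -- T v is fixed by N
  have hTfix : ∀ m : K, m ∈ N → ∀ v, (m : MulAut P) (T v) = T v := by
    intro m hm v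
    rw [hT, map_prod]
    let e : N ≃ N := Equiv.mulLeft (⟨m, hm⟩ : N)
    refine Fintype.prod_equiv e _ _ (fun k => ?_)
    simp [e, MulAut.mul_apply]
  -- on common fixed points, T is the |N|-th power
  have hTpow : ∀ v, (n0 : MulAut P) v = v → T v = v ^ Nat.card N := by
    intro v hv
    rw [hT]
    have : ∀ k : N, ((k : K) : MulAut P) v = v := by
      intro k
      by_cases hk : ((k : K) : MulAut P) = 1
      · rw [hk]; rfl
      · exact (hfix _ _ n0.2 (k : K).2 hn01' hk v).1 hv
    simp [this, Nat.card_eq_fintype_card]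
  -- the kernel
  set W := T.ker with hW
  have hWbot : W = ⊥ := by
    by_contra hWne
    have hWp : p ∣ Fintype.card W := by
      have hWpg : IsPGroup p W := hP.to_subgroup W
      obtain ⟨n, hn⟩ := hWpg.exists_card_eq
      have hn0 : n ≠ 0 := by
        rintro rfl
        rw [pow_zero] at hn
        exact hWne (Subgroup.card_eq_one.1 hn)
      rw [← Nat.card_eq_fintype_card, hn]
      exact dvd_pow_self p hn0
    -- the permutation of W induced by a
    have hmem : ∀ g : K, ∀ v : P, v ∈ W → (g : MulAut P) v ∈ W := by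
      intro g v hv
      rw [hW, MonoidHom.mem_ker] at hv ⊢
      rw [← hTg, hv, map_one]
    let σ : Equiv.Perm W :=
      { toFun := fun v => ⟨(a : MulAut P) v, hmem a v v.2⟩
        invFun := fun v => ⟨((a⁻¹ : K) : MulAut P) v, hmem a⁻¹ v v.2⟩
        left_inv := fun v => by apply Subtype.ext; simp
        right_inv := fun v => by apply Subtype.ext; simp }
    have hσpow : ∀ j : ℕ, ∀ v : W, ((σ ^ j) v : P) = ((a : MulAut P) ^ j) v := by
      intro j
      induction j with
      | zero => intro v; simp
      | succ j ih =>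
        intro v
        rw [pow_succ, Equiv.Perm.mul_apply, ih, pow_succ, MulAut.mul_apply]
        rfl
    have hσ : σ ^ p ^ 1 = 1 := by
      rw [pow_one]
      ext v
      rw [hσpow, hap]
      rfl
    have hσ1 : σ 1 = 1 := by
      apply Subtype.ext
      simp [σ]
    obtain ⟨b, hb, hb1⟩ := Equiv.Perm.exists_fixed_point_of_prime' hWp hσ hσ1
    -- b is fixed by a, hence by n0, so T b = b ^ |N|, but T b = 1
    have hab : (a : MulAut P) (b : P) = b := congrArg Subtype.val hb
    have hnb : (n0 : MulAut P) (b : P) = b := (hfix _ _ a.2 n0.2 ha1' hn01' b).1 hab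
    have hTb : T (b : P) = 1 := MonoidHom.mem_ker.1 b.2
    rw [hTpow b hnb] at hTb
    have hbord : orderOf (b : P) ∣ Nat.card N := orderOf_dvd_of_pow_eq_one hTb
    obtain ⟨j, hj⟩ := hP (b : P)
    have hbord' : orderOf (b : P) ∣ p ^ j := orderOf_dvd_of_pow_eq_one hj
    have hcop : Nat.Coprime (Nat.card N) (p ^ j) :=
      Nat.Coprime.pow_right j ((Nat.Prime.coprime_iff_not_dvd hp).2 hpN).symm
    have : orderOf (b : P) = 1 := Nat.eq_one_of_dvd_coprimes hcop hbord hbord'
    exact hb1 (Subtype.ext (orderOf_eq_one_iff.1 this))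
  -- T is injective, hence surjective
  have hTinj : Function.Injective T := (MonoidHom.ker_eq_bot_iff T).1 hWbot
  have hTsurj : Function.Surjective T := Finite.surjective_of_injective hTinj
  apply hn01'
  ext v
  obtain ⟨u, rfl⟩ := hTsurj v
  exact hTfix n0 hn0N u

end Cfsg.Agent.S4036
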