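import Cfsg.Statements.S4040
-- import your own Cfsg.Agent.* helpers here
import Cfsg.Agent.S0628
import Cfsg.Agent.S0132
import Cfsg.Agent.Lib.Helper54.Coprime
import Cfsg.Agent.Lib.Helper33.SylIn
import Cfsg.Agent.Lib.Helper97.Cores

set_option autoImplicit false
open Cfsg

namespace Cfsg.Agent.S4040

open Cfsg.Agent.Lib.Helper97

universe u

/-- The image of a maximal subgroup containing `N` in `G ⧸ N` is maximal. -/
theorem isCoatom_map_mk_of_le {G : Type*} [Group G] (N : Subgroup G) [N.Normal] (M : Subgroup G)
    (hM : IsCoatom M) (hNM : N ≤ M) : IsCoatom (M.map (QuotientGroup.mk' N)) := by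
  have hker : (QuotientGroup.mk' N).ker ≤ M := by rw [QuotientGroup.ker_mk']; exact hNM
  have hsurj := QuotientGroup.mk'_surjective N
  constructor
  · intro h
    apply hM.1
    have := congrArg (Subgroup.comap (QuotientGroup.mk' N)) h
    rwa [Subgroup.comap_map_eq_self hker, Subgroup.comap_top] at this
  · intro K hK
    have h1 : M ≤ K.comap (QuotientGroup.mk' N) := by
      rw [← Subgroup.comap_map_eq_self hker]
      exact Subgroup.comap_mono hK.le
    have h2 : M ≠ K.comap (QuotientGroup.mk' N) := by
      intro h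
      apply hK.ne
      rw [h, Subgroup.map_comap_eq_self_of_surjective hsurj]
    have h3 := hM.2 _ (lt_of_le_of_ne h1 h2)
    rw [← Subgroup.map_comap_eq_self_of_surjective hsurj K, h3,
      Subgroup.map_top_of_surjective _ hsurj]

/-- The normalizer of `T` normalizes every characteristic subgroup of `T`. -/
theorem normalizer_le_normalizer_map_of_characteristic {G : Type*} [Group G] (T : Subgroup G)
    (C : Subgroup ↥T) [hC : C.Characteristic] :
    Subgroup.normalizer (T : Set G) ≤
      Subgroup.normalizer ((C.map T.subtype : Subgroup G) : Set G) := by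
  have key : ∀ g ∈ Subgroup.normalizer (T : Set G), ∀ x ∈ C.map T.subtype,
      g * x * g⁻¹ ∈ C.map T.subtype := by
    rintro g hg _ ⟨x, hx, rfl⟩
    refine ⟨T.normalizerMonoidHom ⟨g, hg⟩ x, ?_, rfl⟩
    exact (SetLike.ext_iff.mp (hC.fixed (T.normalizerMonoidHom ⟨g, hg⟩)) x).mpr hx
  intro g hg
  rw [Subgroup.mem_normalizer_iff]
  intro x
  constructor
  · exact key g hg x
  · intro hx
    have := key g⁻¹ (inv_mem hg) _ hx
    simpa [mul_assoc] using this

/-- A normal subgroup `K` of order coprime to that of the solvable subgroup `A`, without proper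
nontrivial `A`-invariant subgroups, is a `q`-group, hence solvable. -/
theorem isSolvable_of_irreducible_coprime {G : Type*} [Group G] [Finite G] (A K : Subgroup G)
    [hKn : K.Normal] (hA : Group.IsSolvable ↥A) (hcop : (Nat.card A).Coprime (Nat.card K))
    (hirr : ∀ X : Subgroup G, X ≤ K → A ≤ Subgroup.normalizer (X : Set G) → X = ⊥ ∨ X = K) :
    Group.IsSolvable ↥K := by
  by_cases hKb : K = ⊥
  · have : Subsingleton ↥K := by rw [hKb]; infer_instance
    infer_instance
  have hAK : A ≤ Subgroup.normalizer (K : Set G) := by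
    rw [Subgroup.normalizer_eq_top_iff.mpr hKn]; exact le_top
  have hcard1 : Nat.card K ≠ 1 := fun h => hKb (Subgroup.eq_bot_of_card_eq K h)
  set q := (Nat.card K).minFac with hq
  have hqp : q.Prime := Nat.minFac_prime hcard1
  have : Fact q.Prime := ⟨hqp⟩
  have hqdvd : q ∣ Nat.card K := Nat.minFac_dvd _
  obtain ⟨P, hP⟩ := Cfsg.Agent.Lib.Helper54.exists_invariant_sylow A K hAK hcop (Or.inl hA) q
  have hXK : (P : Subgroup K).map K.subtype ≤ K := Subgroup.map_subtype_le _
  have hKq : IsPGroup q K := by
    rcases hirr _ hXK hP with h | h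
    · exfalso
      have h1 : (P : Subgroup K) = ⊥ :=
        (Subgroup.map_eq_bot_iff_of_injective _ K.subtype_injective).mp h
      exact P.ne_bot_of_dvd_card hqdvd h1
    · intro x
      have hx : (x : G) ∈ (P : Subgroup K).map K.subtype := by rw [h]; exact x.2
      obtain ⟨y, hy, hyx⟩ := hx
      have hyx' : y = x := Subtype.ext hyx
      rw [hyx'] at hy
      obtain ⟨k, hk⟩ := P.isPGroup' ⟨x, hy⟩
      refine ⟨k, ?_⟩
      have := congrArg Subtype.val hk
      simpa using this
  have hnilK : Group.IsNilpotent ↥K := hKq.isNilpotent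
  infer_instance

/-- A normal subgroup with `p`-power index contains a term of the derived series. -/
theorem exists_derivedSeries_le_of_hasNPC {G : Type*} [Group G] [Finite G] {p : ℕ} [Fact p.Prime]
    (h : HasNormalPComplement p G) : ∃ n : ℕ, derivedSeries G n ≤ pPrimeCore p G := by
  have hp : p.Prime := Fact.out
  obtain ⟨P, N, hNn, hcompl⟩ := h
  have hidxP : (P : Subgroup G).index = Nat.card N := hcompl.index_eq_card
  have hidxN : N.index = Nat.card P := hcompl.symm.index_eq_card
  have hNcop : (Nat.card N).Coprime p := by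
    rw [Nat.coprime_comm, Nat.Prime.coprime_iff_not_dvd hp, ← hidxP]
    exact P.not_dvd_index
  have hle : N ≤ pPrimeCore p G := le_pPrimeCore_of_normal hNn hNcop
  obtain ⟨k, hk⟩ := IsPGroup.iff_card.mp P.isPGroup'
  have hQ : IsPGroup p (G ⧸ N) := by
    apply IsPGroup.of_card (n := k)
    rw [← Subgroup.index_eq_card, hidxN, hk]
  have hnil : Group.IsNilpotent (G ⧸ N) := hQ.isNilpotent
  have hsolv : Group.IsSolvable (G ⧸ N) := inferInstance
  obtain ⟨n, hn⟩ := hsolv
  refine ⟨n, le_trans ?_ hle⟩
  have h1 := map_derivedSeries_le_derivedSeries (QuotientGroup.mk' N) n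
  rw [hn, le_bot_iff, Subgroup.map_eq_bot_iff, QuotientGroup.ker_mk'] at h1
  exact h1

/-- The core-free case. -/
theorem isSolvable_of_core_free {G : Type u} [Group G] [Finite G] (M : Subgroup G)
    (hmax : IsCoatom M) (hnil : Group.IsNilpotent ↥M) (hodd : Odd (Nat.card M))
    (hB : ∀ N : Subgroup G, N.Normal → N ≤ M → N = ⊥) : Group.IsSolvable G := by
  classical
  -- Step 1: normal `p`-complements for the primes dividing `|M|`
  have step1 : ∀ p ∈ (Nat.card M).primeFactors, ∃ n : ℕ, derivedSeries G n ≤ pPrimeCore p G := by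
    intro p hp
    have hpp : p.Prime := Nat.prime_of_mem_primeFactors hp
    have hpdvd : p ∣ Nat.card M := Nat.dvd_of_mem_primeFactors hp
    have : Fact p.Prime := ⟨hpp⟩
    have hp2 : p ≠ 2 := by
      rintro rfl
      exact (Nat.not_even_iff_odd.mpr hodd) (even_iff_two_dvd.mpr hpdvd)
    obtain ⟨P₀⟩ : Nonempty (Sylow p ↥M) := inferInstance
    have hP₀n : (P₀ : Subgroup ↥M).Normal := inferInstance
    set P : Subgroup G := (P₀ : Subgroup ↥M).map M.subtype with hPdef
    have hPM : P ≤ M := Subgroup.map_subtype_le _
    have hPp : IsPGroup p P := P₀.isPGroup'.map _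
    have hPne : P ≠ ⊥ := by
      intro h
      have h1 : (P₀ : Subgroup ↥M) = ⊥ :=
        (Subgroup.map_eq_bot_iff_of_injective _ M.subtype_injective).mp h
      exact P₀.ne_bot_of_dvd_card hpdvd h1
    have hMnP : M ≤ Subgroup.normalizer (P : Set G) := by
      have h1 := Subgroup.le_normalizer_map (H := (P₀ : Subgroup ↥M)) M.subtype
      rw [Subgroup.normalizer_eq_top_iff.mpr hP₀n, ← MonoidHom.range_eq_map,
        Subgroup.range_subtype] at h1
      exact h1
    have hNP : Subgroup.normalizer (P : Set G) = M := by
      rcases hmax.le_iff.mp hMnP with h | h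
      · exfalso
        exact hPne (hB P (Subgroup.normalizer_eq_top_iff.mp h) hPM)
      · exact h
    -- `P` is a Sylow subgroup of `G`
    obtain ⟨S, hPS⟩ := hPp.exists_le_sylow
    have hSP : (S : Subgroup G) = P := by
      by_contra hne
      obtain ⟨x, hx, hxP⟩ := Cfsg.Agent.Lib.Helper33.exists_mem_normalizer_not_mem S hPS
        (fun h => hne h.symm)
      have hxS : x ∈ (S : Subgroup G) := hx.1
      have hxM : x ∈ M := by rw [← hNP]; exact hx.2
      apply hxP
      -- `x` is a `p`-element of `M`
      have hzp : IsPGroup p (Subgroup.zpowers (⟨x, hxM⟩ : ↥M)) := by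
        obtain ⟨k, hk⟩ := S.isPGroup' ⟨x, hxS⟩
        have hk' : x ^ (p ^ k) = 1 := by
          have := congrArg Subtype.val hk
          simpa using this
        have hord : orderOf (⟨x, hxM⟩ : ↥M) ∣ p ^ k := by
          apply orderOf_dvd_of_pow_eq_one
          exact Subtype.ext (by simpa using hk')
        apply IsPGroup.of_card_dvd_pow (n := k)
        rw [Nat.card_zpowers]
        exact hord
      obtain ⟨Q₀, hQ₀⟩ := hzp.exists_le_sylow
      have huniq : Unique (Sylow p ↥M) := Sylow.unique_of_normal P₀ hP₀n
      have hQP : Q₀ = P₀ := Subsingleton.elim _ _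
      rw [hQP] at hQ₀
      exact ⟨⟨x, hxM⟩, hQ₀ (Subgroup.mem_zpowers _), rfl⟩
    -- the characteristic subgroup `W(S)`
    have hWchar : (stableNormalClosure p ↥(S : Subgroup G)).Characteristic :=
      (Cfsg.Agent.S0622.result S.isPGroup').1
    have hSne : (S : Subgroup G) ≠ ⊥ := by rw [hSP]; exact hPne
    have hSnt : Nontrivial ↥(S : Subgroup G) := (Subgroup.nontrivial_iff_ne_bot _).mpr hSne
    have hW0 : stableNormalClosure p ↥(S : Subgroup G) ≠ ⊥ :=
      (Cfsg.Agent.S0622.result S.isPGroup').2.2.2.1 hSnt
    set W : Subgroup G :=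
      (stableNormalClosure p ↥(S : Subgroup G)).map (S : Subgroup G).subtype with hWdef
    have hWne : W ≠ ⊥ := by
      intro h
      exact hW0 ((Subgroup.map_eq_bot_iff_of_injective _ (S : Subgroup G).subtype_injective).mp h)
    have hWM : W ≤ M := by
      refine le_trans (Subgroup.map_subtype_le _) ?_
      rw [hSP]; exact hPM
    have hMW : M ≤ Subgroup.normalizer (W : Set G) := by
      have h1 := normalizer_le_normalizer_map_of_characteristic (S : Subgroup G)
        (stableNormalClosure p ↥(S : Subgroup G))
      rw [hSP, hNP] at h1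
      rw [hSP] at hWdef
      rw [hWdef]
      exact h1
    have hNW : Subgroup.normalizer (W : Set G) = M := by
      rcases hmax.le_iff.mp hMW with h | h
      · exfalso
        exact hWne (hB W (Subgroup.normalizer_eq_top_iff.mp h) hWM)
      · exact h
    have hnpcM : HasNormalPComplement p ↥(Subgroup.normalizer (W : Set G)) := by
      rw [hNW]
      exact Cfsg.Agent.S0132.hasNormalPComplement_of_isNilpotent hnil
    have hnpc : HasNormalPComplement p G := Cfsg.Agent.S0628.result hp2 S hnpcM
    exact exists_derivedSeries_le_of_hasNPC hnpc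
  -- Step 2: the intersection `K` of the normal complements
  set K : Subgroup G := ⨅ p : {p // p ∈ (Nat.card M).primeFactors}, pPrimeCore p.1 G with hK
  have hKn : K.Normal := Subgroup.normal_iInf_normal fun p => inferInstance
  have hKder : ∃ n : ℕ, derivedSeries G n ≤ K := by
    choose f hf using step1
    refine ⟨Finset.univ.sup (fun p : {p // p ∈ (Nat.card M).primeFactors} => f p.1 p.2), ?_⟩
    rw [hK]
    refine le_iInf fun p => ?_
    refine le_trans (derivedSeries_antitone G ?_) (hf p.1 p.2)
    exact Finset.le_sup (f := fun p : {p // p ∈ (Nat.card M).primeFactors} => f p.1 p.2)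
      (Finset.mem_univ p)
  have hKcop : (Nat.card M).Coprime (Nat.card K) := by
    apply Nat.Coprime.symm
    apply Nat.coprime_of_dvd
    intro q hq hqK hqM
    have hqmem : q ∈ (Nat.card M).primeFactors :=
      Nat.mem_primeFactors.mpr ⟨hq, hqM, Nat.card_pos.ne'⟩
    have hle : K ≤ pPrimeCore q G := iInf_le (fun p : {p // p ∈ (Nat.card M).primeFactors} =>
      pPrimeCore p.1 G) ⟨q, hqmem⟩
    have h1 : Nat.card K ∣ Nat.card (pPrimeCore q G) := Subgroup.card_dvd_of_le hle
    have h2 : (Nat.card (pPrimeCore q G)).Coprime q := card_pPrimeCore_coprime q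
    exact (Nat.Prime.coprime_iff_not_dvd hq).mp h2.symm (dvd_trans hqK h1)
  have hQsolv : Group.IsSolvable (G ⧸ K) := by
    obtain ⟨n, hn⟩ := hKder
    refine ⟨⟨n, ?_⟩⟩
    rw [← map_derivedSeries_eq (QuotientGroup.mk'_surjective K) n, Subgroup.map_eq_bot_iff,
      QuotientGroup.ker_mk']
    exact hn
  -- Step 3: `K` is solvable
  have hKsolv : Group.IsSolvable ↥K := by
    have hMK : M ≤ K ⊔ M := le_sup_right
    rcases hmax.le_iff.mp hMK with h | h
    · -- `K M = G`
      have hdisj : K ⊓ M = ⊥ := (Subgroup.disjoint_of_coprime_natCard hKcop.symm).eq_bot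
      have hMnK : M ≤ Subgroup.normalizer (K : Set G) := by
        rw [Subgroup.normalizer_eq_top_iff.mpr hKn]; exact le_top
      have hMsolv : Group.IsSolvable ↥M := inferInstance
      apply isSolvable_of_irreducible_coprime M K hMsolv hKcop
      intro X hXK hMX
      have hXdisj : X ⊓ M = ⊥ := by
        rw [eq_bot_iff, ← hdisj]
        exact inf_le_inf_right _ hXK
      rcases hmax.le_iff.mp (le_sup_right : M ≤ X ⊔ M) with h' | h'
      · right
        have c1 := Cfsg.Agent.Lib.Helper54.card_sup_of_le_normalizer hMX hXdisj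
        have c2 := Cfsg.Agent.Lib.Helper54.card_sup_of_le_normalizer hMnK hdisj
        rw [h'] at c1
        rw [h] at c2
        have c3 : Nat.card X * Nat.card M = Nat.card K * Nat.card M := by rw [← c1, ← c2]
        have c4 : Nat.card X = Nat.card K := Nat.eq_of_mul_eq_mul_right Nat.card_pos c3
        exact Subgroup.eq_of_le_of_card_ge hXK c4.ge
      · left
        rw [eq_bot_iff, ← hXdisj]
        refine le_inf le_rfl ?_
        rw [← h']
        exact le_sup_left
    · -- `K ≤ M`
      have hKM : K ≤ M := by rw [← h]; exact le_sup_left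
      have hKb : K = ⊥ := hB K hKn hKM
      have : Subsingleton ↥K := by rw [hKb]; infer_instance
      infer_instance
  exact (Group.isSolvable_iff_subgroup_quotient K).mpr ⟨hKsolv, hQsolv⟩

/-- Thompson: a finite group with a nilpotent maximal subgroup of odd order is solvable. -/
theorem main : ∀ (n : ℕ) (G : Type u) [Group G] [Finite G] (_ : Nat.card G = n) (M : Subgroup G)
    (_ : IsCoatom M) (_ : Group.IsNilpotent ↥M) (_ : Odd (Nat.card M)), Group.IsSolvable G := by
  intro n
  induction n using Nat.strong_induction_on with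
  | _ n ih =>
    intro G _ _ hn M hmax hnil hodd
    by_cases hB : ∀ N : Subgroup G, N.Normal → N ≤ M → N = ⊥
    · exact isSolvable_of_core_free M hmax hnil hodd hB
    · push Not at hB
      obtain ⟨N, hNn, hNM, hNne⟩ := hB
      have hsurj := QuotientGroup.mk'_surjective N
      -- the quotient
      have hcard : Nat.card (G ⧸ N) < n := by
        rw [← hn, ← Subgroup.index_eq_card, ← Subgroup.card_mul_index N]
        have h1 : 1 < Nat.card N := (Subgroup.one_lt_card_iff_ne_bot N).mpr hNne
        have h2 : 0 < N.index := Nat.pos_of_ne_zero Subgroup.index_ne_zero_of_finite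
        nlinarith
      have hM' : IsCoatom (M.map (QuotientGroup.mk' N)) := isCoatom_map_mk_of_le N M hmax hNM
      have hsurjM : Function.Surjective ((QuotientGroup.mk' N).subgroupMap M) :=
        MonoidHom.subgroupMap_surjective _ _
      have hnil' : Group.IsNilpotent ↥(M.map (QuotientGroup.mk' N)) :=
        Group.nilpotent_of_surjective _ hsurjM
      have hodd' : Odd (Nat.card ↥(M.map (QuotientGroup.mk' N))) := by
        have hdvd : Nat.card ↥(M.map (QuotientGroup.mk' N)) ∣ Nat.card M :=
          Subgroup.card_dvd_of_surjective _ hsurjM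
        exact Odd.of_dvd_nat hodd hdvd
      have hQ : Group.IsSolvable (G ⧸ N) := ih _ hcard (G ⧸ N) rfl _ hM' hnil' hodd'
      have hNsolv : Group.IsSolvable ↥N := by
        have hinj : Function.Injective (Subgroup.inclusion hNM) := Subgroup.inclusion_injective hNM
        have : Group.IsSolvable ↥M := inferInstance
        exact Group.isSolvable_of_isSolvable_injective hinj
      exact (Group.isSolvable_iff_subgroup_quotient N).mpr ⟨hNsolv, hQ⟩

/-- A finite group possessing a maximal subgroup that is nilpotent of odd order is solvable. -/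
theorem result {G : Type*} [Group G] [Finite G]
    (M : Subgroup G) (hmax : IsCoatom M) (hnil : Group.IsNilpotent M) (hodd : Odd (Nat.card M)) :
    Group.IsSolvable G := by
  exact main _ G rfl M hmax hnil hodd

end Cfsg.Agent.S4040
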