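import Cfsg.Statements.S4043
import Mathlib
import Cfsg.Agent.Lib.Helper67.ComplConj

set_option autoImplicit false
open Cfsg

namespace Cfsg.Agent.S4043

open Pointwise

/-- Data extracted from `HasNormalPComplement` for a subgroup `A` of `G`: a `p'`-subgroup `K`
normalized by `A` and a `p`-subgroup `S` with `A = K S`. -/
theorem exists_data {G : Type*} [Group G] [Finite G] {p : ℕ} [Fact p.Prime] (A : Subgroup G)
    (hAp : Cfsg.HasNormalPComplement p A) :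
    ∃ K S : Subgroup G, K ≤ A ∧ S ≤ A ∧ (∀ a ∈ A, ∀ k ∈ K, a * k * a⁻¹ ∈ K) ∧
      (Nat.card K).Coprime p ∧ IsPGroup p S ∧ (∀ a ∈ A, ∃ k ∈ K, ∃ s ∈ S, a = k * s) := by
  obtain ⟨P, K, hKn, hKP⟩ := hAp
  refine ⟨K.map A.subtype, (P : Subgroup A).map A.subtype, ?_, ?_, ?_, ?_, ?_, ?_⟩
  · exact Subgroup.map_subtype_le K
  · exact Subgroup.map_subtype_le _
  · rintro a ha _ ⟨k, hk, rfl⟩
    exact ⟨⟨a, ha⟩ * k * ⟨a, ha⟩⁻¹, hKn.conj_mem k hk ⟨a, ha⟩, rfl⟩
  · rw [Subgroup.card_map_of_injective A.subtype_injective]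
    have h1 : Nat.card K = (P : Subgroup A).index := by
      rw [hKP.index_eq_card]
    rw [h1]
    exact (Nat.Prime.coprime_iff_not_dvd Fact.out).2 P.not_dvd_index |>.symm
  · exact P.2.map A.subtype
  · intro a ha
    obtain ⟨⟨k, s⟩, hks⟩ := hKP.2 ⟨a, ha⟩
    refine ⟨k, ⟨k, k.2, rfl⟩, s, ⟨s, s.2, rfl⟩, ?_⟩
    have := congrArg Subtype.val hks
    simpa using this.symm

theorem sup_normal {G : Type*} [Group G] (N A K : Subgroup G) [hNn : N.Normal]
    (hA : A.IsComplement' N)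
    (hnorm : ∀ a ∈ A, ∀ k ∈ K, a * k * a⁻¹ ∈ K) : (K ⊔ N).Normal := by
  constructor
  intro x hx g
  obtain ⟨⟨a, n⟩, han⟩ := hA.2 g
  have hg : g = (a : G) * (n : G) := han.symm
  have hconj : ∀ b : G, (∀ k ∈ K, b * k * b⁻¹ ∈ K ⊔ N) → ∀ y ∈ K ⊔ N, b * y * b⁻¹ ∈ K ⊔ N := by
    intro b hb y hy
    have hy' : y ∈ ((K ⊔ N : Subgroup G) : Set G) := hy
    rw [Subgroup.mul_normal] at hy'
    obtain ⟨k, hk, m, hm, rfl⟩ := Set.mem_mul.mp hy'
    have : b * (k * m) * b⁻¹ = (b * k * b⁻¹) * (b * m * b⁻¹) := by group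
    rw [this]
    exact Subgroup.mul_mem _ (hb k hk) (Subgroup.mem_sup_right (hNn.conj_mem m hm b))
  have h1 : (n : G) * x * (n : G)⁻¹ ∈ K ⊔ N :=
    Subgroup.mul_mem _ (Subgroup.mul_mem _ (Subgroup.mem_sup_right n.2) hx)
      (Subgroup.inv_mem _ (Subgroup.mem_sup_right n.2))
  have h2 := hconj a (fun k hk => Subgroup.mem_sup_left (hnorm a a.2 k hk)) _ h1
  have : g * x * g⁻¹ = (a : G) * ((n : G) * x * (n : G)⁻¹) * (a : G)⁻¹ := by rw [hg]; group
  rw [this]; exact h2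

/-- Elements of order prime to `p` lie in `K N`, since `G / K N` is a `p`-group. -/
theorem mem_sup_of_coprime {G : Type*} [Group G] [Finite G] {p : ℕ} [Fact p.Prime]
    (N A K S : Subgroup G) [hNn : N.Normal]
    (hA : A.IsComplement' N)
    (hnorm : ∀ a ∈ A, ∀ k ∈ K, a * k * a⁻¹ ∈ K) (hS : IsPGroup p S)
    (hKS : ∀ a ∈ A, ∃ k ∈ K, ∃ s ∈ S, a = k * s) (x : G) (hx : (orderOf x).Coprime p) :
    x ∈ K ⊔ N := by
  have : (K ⊔ N).Normal := sup_normal N A K hA hnorm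
  have hp : IsPGroup p (G ⧸ (K ⊔ N)) := by
    intro q
    obtain ⟨g, rfl⟩ := QuotientGroup.mk_surjective q
    obtain ⟨⟨a, n⟩, han⟩ := hA.2 g
    obtain ⟨k, hk, s, hs, hks⟩ := hKS a a.2
    obtain ⟨j, hj⟩ := hS ⟨s, hs⟩
    have hj' : s ^ p ^ j = 1 := by
      have := congrArg Subtype.val hj
      simpa using this
    refine ⟨j, ?_⟩
    have hg : g = k * s * n := by rw [← hks]; exact han.symm
    have hmk : (QuotientGroup.mk g : G ⧸ (K ⊔ N)) = QuotientGroup.mk s := by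
      rw [hg, QuotientGroup.mk_mul, QuotientGroup.mk_mul,
        (QuotientGroup.eq_one_iff k).2 (Subgroup.mem_sup_left hk),
        (QuotientGroup.eq_one_iff (n : G)).2 (Subgroup.mem_sup_right n.2), one_mul, mul_one]
    rw [hmk, ← QuotientGroup.mk_pow, hj', QuotientGroup.mk_one]
  obtain ⟨j, hj⟩ := hp (QuotientGroup.mk x)
  have h1 : orderOf (QuotientGroup.mk x : G ⧸ (K ⊔ N)) ∣ p ^ j := orderOf_dvd_of_pow_eq_one hj
  have h2 : orderOf (QuotientGroup.mk x : G ⧸ (K ⊔ N)) ∣ orderOf x :=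
    orderOf_map_dvd (QuotientGroup.mk' (K ⊔ N)) x
  have h3 : orderOf (QuotientGroup.mk x : G ⧸ (K ⊔ N)) = 1 :=
    Nat.eq_one_of_dvd_coprimes (hx.pow_right j) h2 h1
  rw [orderOf_eq_one_iff] at h3
  exact (QuotientGroup.eq_one_iff x).1 h3

/-- `C_N(K) = 1`: otherwise the `p`-group `S` has a nontrivial fixed point on `C_N(K)`, which is
then centralized by `A = K S`. -/
theorem centralizer_trivial {G : Type*} [Group G] [Finite G] {p : ℕ} [Fact p.Prime]
    (N A K S : Subgroup G)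
    [hNn : N.Normal] (hN : IsPGroup p N) (hSA : S ≤ A)
    (hnorm : ∀ a ∈ A, ∀ k ∈ K, a * k * a⁻¹ ∈ K) (hS : IsPGroup p S)
    (hKS : ∀ a ∈ A, ∃ k ∈ K, ∃ s ∈ S, a = k * s)
    (hC : ∀ n : G, n ∈ N → (∀ a : G, a ∈ A → a * n * a⁻¹ = n) → n = 1) :
    ∀ n ∈ N, (∀ k ∈ K, k * n * k⁻¹ = n) → n = 1 := by
  obtain ⟨C, hCdef⟩ : ∃ C : Subgroup G, C = N ⊓ Subgroup.centralizer (K : Set G) := ⟨_, rfl⟩
  have hCmem : ∀ c, c ∈ C ↔ c ∈ N ∧ ∀ k ∈ K, k * c * k⁻¹ = c := by
    intro c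
    rw [hCdef, Subgroup.mem_inf, Subgroup.mem_centralizer_iff]
    constructor
    · rintro ⟨h1, h2⟩
      refine ⟨h1, fun k hk => ?_⟩
      rw [h2 k hk, mul_inv_cancel_right]
    · rintro ⟨h1, h2⟩
      refine ⟨h1, fun k hk => ?_⟩
      have := h2 k hk
      calc k * c = (k * c * k⁻¹) * k := by group
        _ = c * k := by rw [this]
  have hSC : ∀ s ∈ S, ∀ c ∈ C, s * c * s⁻¹ ∈ C := by
    intro s hs c hc
    rw [hCmem] at hc ⊢
    refine ⟨hNn.conj_mem c hc.1 s, fun k hk => ?_⟩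
    have h1 : s⁻¹ * k * s⁻¹⁻¹ ∈ K := hnorm s⁻¹ (A.inv_mem (hSA hs)) k hk
    have h2 := hc.2 _ h1
    calc k * (s * c * s⁻¹) * k⁻¹
        = s * ((s⁻¹ * k * s⁻¹⁻¹) * c * (s⁻¹ * k * s⁻¹⁻¹)⁻¹) * s⁻¹ := by group
      _ = s * c * s⁻¹ := by rw [h2]
  let _ : MulAction S C :=
    { smul := fun s c => ⟨(s : G) * (c : G) * (s : G)⁻¹, hSC s s.2 c c.2⟩
      one_smul := fun c => by
        apply Subtype.ext
        show ((1 : S) : G) * (c : G) * ((1 : S) : G)⁻¹ = c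
        simp
      mul_smul := fun s t c => by
        apply Subtype.ext
        show ((s * t : S) : G) * (c : G) * ((s * t : S) : G)⁻¹ =
          (s : G) * ((t : G) * (c : G) * (t : G)⁻¹) * (s : G)⁻¹
        rw [Subgroup.coe_mul]; group }
  have hsmul : ∀ (s : S) (c : C), ((s • c : C) : G) = (s : G) * (c : G) * (s : G)⁻¹ :=
    fun _ _ => rfl
  intro n hnN hnK
  by_contra hn1
  have hnC : n ∈ C := (hCmem n).2 ⟨hnN, hnK⟩
  have hCp : IsPGroup p C := by
    rw [hCdef]; exact hN.to_le inf_le_left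
  have : Nontrivial C := ⟨⟨⟨n, hnC⟩, 1, fun h => hn1 (congrArg Subtype.val h)⟩⟩
  obtain ⟨j, hj0, hj⟩ := hCp.nontrivial_iff_card.1 inferInstance
  have hdvd : p ∣ Nat.card C := by rw [hj]; exact dvd_pow_self p hj0.ne'
  have hone : (1 : C) ∈ MulAction.fixedPoints S C := by
    intro s
    apply Subtype.ext
    rw [hsmul]; simp
  obtain ⟨b, hb, hb1⟩ := hS.exists_fixed_point_of_prime_dvd_card_of_fixed_point C hdvd hone
  have hbC := (hCmem b).1 b.2
  have hb1' : (b : G) = 1 := by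
    apply hC b hbC.1
    intro a ha
    obtain ⟨k, hk, s, hs, rfl⟩ := hKS a ha
    have h1 : s * (b : G) * s⁻¹ = b := by
      have := hb ⟨s, hs⟩
      have := congrArg Subtype.val this
      rwa [hsmul] at this
    calc k * s * (b : G) * (k * s)⁻¹ = k * (s * (b : G) * s⁻¹) * k⁻¹ := by group
      _ = b := by rw [h1, hbC.2 k hk]
  exact hb1 (Subtype.ext hb1'.symm)

/-- Let G be a finite group that is the semidirect product of a normal p-subgroup N by a subgroup A, and also of N by a subgroup A₁, where p is a prime and A and A₁ both have normal p-complements. If C_N(A) = C_N(A₁) = 1, then A₁ is conjugate to A by an element of N. -/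
theorem result {G : Type*} [Group G] [Finite G] {p : ℕ}
    [Fact p.Prime] (N : Subgroup G) [N.Normal] (hN : IsPGroup p N) (A A₁ : Subgroup G)
    (hA : A.IsComplement' N) (hA₁ : A₁.IsComplement' N)
    (hAp : Cfsg.HasNormalPComplement p A) (hA₁p : Cfsg.HasNormalPComplement p A₁)
    (hC : ∀ n : G, n ∈ N → (∀ a : G, a ∈ A → a * n * a⁻¹ = n) → n = 1)
    (hC₁ : ∀ n : G, n ∈ N → (∀ a : G, a ∈ A₁ → a * n * a⁻¹ = n) → n = 1) :
    ∃ n : G, n ∈ N ∧ A₁ = A.map (MulAut.conj n).toMonoidHom := by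
  have hNn : N.Normal := inferInstance
  obtain ⟨K, S, hKA, hSA, hnorm, hKcop, hS, hKS⟩ := exists_data A hAp
  obtain ⟨K₁, S₁, hKA₁, hSA₁, hnorm₁, hKcop₁, hS₁, hKS₁⟩ := exists_data A₁ hA₁p
  have hKord : ∀ (K : Subgroup G), (Nat.card K).Coprime p → ∀ x ∈ K, (orderOf x).Coprime p := by
    intro K hK x hx
    have h1 : orderOf x ∣ Nat.card K := by
      have := orderOf_dvd_natCard (⟨x, hx⟩ : K)
      rwa [Subgroup.orderOf_mk] at this
    exact hK.coprime_dvd_left h1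
  have hsup : K ⊔ N = K₁ ⊔ N := by
    apply le_antisymm
    · apply sup_le _ le_sup_right
      intro x hx
      exact mem_sup_of_coprime N A₁ K₁ S₁ hA₁ hnorm₁ hS₁ hKS₁ x (hKord K hKcop x hx)
    · apply sup_le _ le_sup_right
      intro x hx
      exact mem_sup_of_coprime N A K S hA hnorm hS hKS x (hKord K₁ hKcop₁ x hx)
  obtain ⟨e, he⟩ := IsPGroup.iff_card.1 hN
  have hNK : (Nat.card N).Coprime (Nat.card K) := by rw [he]; exact hKcop.symm.pow_left e
  have hNK₁ : (Nat.card N).Coprime (Nat.card K₁) := by rw [he]; exact hKcop₁.symm.pow_left e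
  have hnil : Group.IsNilpotent N := hN.isNilpotent
  obtain ⟨m, hm, hconj⟩ := Cfsg.Agent.Lib.Helper67.exists_mem_conj_smul_eq_of_sup_eq hsup hNK hNK₁
    (Or.inl inferInstance)
  refine ⟨m, hm, ?_⟩
  have hcent := centralizer_trivial N A K S hN hSA hnorm hS hKS hC
  have hdisj : ∀ x, x ∈ K → x ∈ N → x = 1 := by
    intro x hxK hxN
    have := hA.disjoint
    exact (Subgroup.disjoint_def.1 this) (hKA hxK) hxN
  -- every element of `m⁻¹ A₁ m` lies in `A`
  have hle : A₁ ≤ MulAut.conj m • A := by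
    intro x hx
    rw [Subgroup.mem_pointwise_smul_iff_inv_smul_mem, ← map_inv, MulAut.smul_def,
      MulAut.conj_apply, inv_inv]
    obtain ⟨y, hy⟩ : ∃ y : G, y = m⁻¹ * x * m := ⟨_, rfl⟩
    rw [← hy]
    -- y normalizes K
    have hyK : ∀ z : G, z ∈ A₁ → ∀ k ∈ K, (m⁻¹ * z * m) * k * (m⁻¹ * z * m)⁻¹ ∈ K := by
      intro z hz k hk
      have h1 : m * k * m⁻¹ ∈ K₁ := by
        rw [← hconj]
        exact (Subgroup.mem_smul_pointwise_iff_exists _ _ _).mpr ⟨k, hk, by simp [MulAut.smul_def]⟩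
      have h2 : z * (m * k * m⁻¹) * z⁻¹ ∈ K₁ := hnorm₁ z hz _ h1
      rw [← hconj] at h2
      obtain ⟨k', hk', hk'eq⟩ := (Subgroup.mem_smul_pointwise_iff_exists _ _ _).mp h2
      rw [MulAut.smul_def, MulAut.conj_apply] at hk'eq
      have : (m⁻¹ * z * m) * k * (m⁻¹ * z * m)⁻¹ = k' := by
        calc (m⁻¹ * z * m) * k * (m⁻¹ * z * m)⁻¹ = m⁻¹ * (z * (m * k * m⁻¹) * z⁻¹) * m := by group
          _ = m⁻¹ * (m * k' * m⁻¹) * m := by rw [hk'eq]
          _ = k' := by group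
      rw [this]; exact hk'
    obtain ⟨⟨a, n⟩, han⟩ := hA.2 y
    have han' : (a : G) * (n : G) = y := han
    -- n normalizes K
    have hnK : ∀ k ∈ K, (n : G) * k * (n : G)⁻¹ ∈ K := by
      intro k hk
      have h1 : y * k * y⁻¹ ∈ K := by rw [hy]; exact hyK x hx k hk
      have h2 := hnorm (a : G)⁻¹ (A.inv_mem a.2) _ h1
      have : (a : G)⁻¹ * (y * k * y⁻¹) * (a : G)⁻¹⁻¹ = (n : G) * k * (n : G)⁻¹ := by
        rw [← han']; group
      rwa [this] at h2
    -- so n centralizes K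
    have hnc : ∀ k ∈ K, k * (n : G) * k⁻¹ = n := by
      intro k hk
      have h1 : (n : G) * k⁻¹ * (n : G)⁻¹ ∈ K := hnK _ (K.inv_mem hk)
      have h2 : k * ((n : G) * k⁻¹ * (n : G)⁻¹) ∈ K := K.mul_mem hk h1
      have h3 : k * ((n : G) * k⁻¹ * (n : G)⁻¹) ∈ N := by
        have : k * ((n : G) * k⁻¹ * (n : G)⁻¹) = (k * (n : G) * k⁻¹) * (n : G)⁻¹ := by group
        rw [this]
        exact N.mul_mem (hNn.conj_mem n n.2 k) (N.inv_mem n.2)
      have h4 := hdisj _ h2 h3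
      calc k * (n : G) * k⁻¹ = (k * ((n : G) * k⁻¹ * (n : G)⁻¹)) * n := by group
        _ = n := by rw [h4, one_mul]
    have hn1 : (n : G) = 1 := hcent n n.2 hnc
    rw [← han', hn1, mul_one]
    exact a.2
  have hcard : Nat.card A₁ = Nat.card A := by
    have h1 := hA.card_mul_card
    have h2 := hA₁.card_mul_card
    have hpos : 0 < Nat.card N := Nat.card_pos
    exact Nat.eq_of_mul_eq_mul_right hpos (h2.trans h1.symm)
  have heq : A₁ = MulAut.conj m • A := by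
    apply Subgroup.eq_of_le_of_card_ge hle
    rw [Cfsg.Agent.Lib.Helper1.card_conj_smul, hcard]
  exact heq

end Cfsg.Agent.S4043
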