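import Cfsg.Statements.S4049
import Cfsg.Agent.Lib.Helper67.SylowTwoNormal
import Cfsg.Agent.Lib.Helper67.ComplConj

set_option autoImplicit false
open Cfsg

namespace Cfsg.Agent.S4049

open Cfsg.Agent.Lib.Helper67
open Cfsg.Agent.Lib
open Pointwise

/-- If `s ∈ N ∖ C` has its square in `C` (with `C ∩ N` normal in `N`), then `[N : C ∩ N]` is even. -/
theorem two_dvd_relIndex_of_sq_mem {G : Type*} [Group G] [Finite G] (C N : Subgroup G)
    [hn : (C.subgroupOf N).Normal] {s : G} (hsN : s ∈ N) (hsC : s ∉ C) (hs2 : s ^ 2 ∈ C) :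
    2 ∣ C.relIndex N := by
  rw [Subgroup.relIndex, Subgroup.index_eq_card]
  set q : N ⧸ C.subgroupOf N := QuotientGroup.mk ⟨s, hsN⟩ with hq
  have hq1 : q ≠ 1 := by
    intro h
    rw [hq, QuotientGroup.eq_one_iff, Subgroup.mem_subgroupOf] at h
    exact hsC h
  have hq2 : q ^ 2 = 1 := by
    rw [hq, ← QuotientGroup.mk_pow, QuotientGroup.eq_one_iff, Subgroup.mem_subgroupOf]
    exact hs2
  rw [← orderOf_eq_prime hq2 hq1]
  exact orderOf_dvd_natCard q

/-- If `[N : C ∩ N]` is even there is a `2`-element in `N ∖ C`. -/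
theorem exists_two_element_of_two_dvd_relIndex {G : Type*} [Group G] [Finite G] (C N : Subgroup G)
    [hn : (C.subgroupOf N).Normal] (h2 : 2 ∣ C.relIndex N) :
    ∃ g : G, g ∈ N ∧ g ∉ C ∧ ∃ a : ℕ, g ^ 2 ^ a = 1 := by
  have : Fact (Nat.Prime 2) := ⟨Nat.prime_two⟩
  rw [Subgroup.relIndex, Subgroup.index_eq_card] at h2
  obtain ⟨q, hq⟩ := exists_prime_orderOf_dvd_card' (G := N ⧸ C.subgroupOf N) 2 h2
  obtain ⟨n, rfl⟩ := QuotientGroup.mk_surjective q
  obtain ⟨a, m, hm, hnm⟩ := Nat.exists_eq_two_pow_mul_odd (orderOf_pos n).ne'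
  refine ⟨((n ^ m : N) : G), (n ^ m).2, ?_, a, ?_⟩
  · intro hC
    have h1 : (QuotientGroup.mk (n ^ m) : N ⧸ C.subgroupOf N) = 1 := by
      rw [QuotientGroup.eq_one_iff, Subgroup.mem_subgroupOf]; exact hC
    rw [QuotientGroup.mk_pow] at h1
    have h3 : orderOf (QuotientGroup.mk n : N ⧸ C.subgroupOf N) ∣ m := orderOf_dvd_of_pow_eq_one h1
    rw [hq] at h3
    exact (Nat.not_even_iff_odd.2 hm) (even_iff_two_dvd.2 h3)
  · have : (n ^ m) ^ 2 ^ a = 1 := by
      rw [← pow_mul, mul_comm, ← hnm, pow_orderOf_eq_one]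
    have := congrArg Subtype.val this
    simpa using this

/-- If `[N : C ∩ N]` is odd, every element of `N` has an odd power in `C`. -/
theorem exists_odd_pow_mem {G : Type*} [Group G] [Finite G] (C N : Subgroup G)
    [hn : (C.subgroupOf N).Normal] (h2 : ¬ 2 ∣ C.relIndex N) {g : G} (hg : g ∈ N) :
    ∃ d : ℕ, Odd d ∧ g ^ d ∈ C := by
  rw [Subgroup.relIndex, Subgroup.index_eq_card] at h2
  set q : N ⧸ C.subgroupOf N := QuotientGroup.mk ⟨g, hg⟩ with hq
  refine ⟨orderOf q, ?_, ?_⟩
  · rw [← Nat.not_even_iff_odd, even_iff_two_dvd]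
    intro h
    exact h2 (h.trans (orderOf_dvd_natCard q))
  · have h1 : q ^ orderOf q = 1 := pow_orderOf_eq_one q
    rw [hq, ← QuotientGroup.mk_pow, QuotientGroup.eq_one_iff, Subgroup.mem_subgroupOf] at h1
    simpa using h1

/-- A subgroup of odd order of `G ⧸ E`, `E` a normal `2`-subgroup, lifts to a subgroup of `G` of the
same order. -/
theorem exists_lift_of_odd {G : Type*} [Group G] [Finite G] (E : Subgroup G) [E.Normal]
    (hE : IsPGroup 2 E) (Hb : Subgroup (G ⧸ E)) (hodd : ¬ 2 ∣ Nat.card Hb) :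
    ∃ H0 : Subgroup G, H0.map (QuotientGroup.mk' E) = Hb ∧ Nat.card H0 = Nat.card Hb := by
  set f := QuotientGroup.mk' E with hf
  have hfs : Function.Surjective f := QuotientGroup.mk'_surjective E
  set L : Subgroup G := Hb.comap f with hL
  have hEL : E ≤ L := by
    intro e he
    rw [hL, Subgroup.mem_comap]
    have : f e = 1 := (QuotientGroup.eq_one_iff e).2 he
    rw [this]; exact Hb.one_mem
  obtain ⟨k, hk⟩ := hE.exists_card_eq
  have hcardE' : Nat.card (E.subgroupOf L) = 2 ^ k := by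
    rw [Helper1.card_subgroupOf_of_le hEL, hk]
  have hidx : (E.subgroupOf L).index = Nat.card Hb := by
    have h1 : f.ker.relIndex L = Nat.card (L.map f) := Subgroup.relIndex_ker L f
    rw [QuotientGroup.ker_mk', hL, Subgroup.map_comap_eq_self_of_surjective hfs] at h1
    exact h1
  have hcop : (Nat.card (E.subgroupOf L)).Coprime (E.subgroupOf L).index := by
    rw [hcardE', hidx]
    exact Nat.Coprime.pow_left k ((Nat.Prime.coprime_iff_not_dvd Nat.prime_two).2 hodd)
  obtain ⟨H0', hH0'⟩ := Subgroup.exists_right_complement'_of_coprime hcop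
  have hcard0' : Nat.card H0' = Nat.card Hb := by
    rw [← hidx]; exact (hH0'.symm.index_eq_card).symm
  set H0 : Subgroup G := H0'.map L.subtype with hH0
  have hcard0 : Nat.card H0 = Nat.card Hb := by
    rw [hH0, Subgroup.card_map_of_injective L.subtype_injective, hcard0']
  have hle : H0.map f ≤ Hb := by
    rw [Subgroup.map_le_iff_le_comap]
    intro x hx
    rw [hH0] at hx
    obtain ⟨y, -, rfl⟩ := hx
    exact y.2
  -- the restriction of `f` to `H0` is injective
  have hdisj : Disjoint H0 E := by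
    apply Subgroup.disjoint_of_coprime_natCard
    rw [hcard0, hk]
    exact (Nat.Coprime.pow_left k ((Nat.Prime.coprime_iff_not_dvd Nat.prime_two).2 hodd)).symm
  have hcardmap : Nat.card (H0.map f) = Nat.card H0 := by
    have hinj : Function.Injective (f.comp H0.subtype) := by
      rw [← MonoidHom.ker_eq_bot_iff, eq_bot_iff]
      intro x hx
      rw [MonoidHom.mem_ker, MonoidHom.comp_apply] at hx
      have hxE : (x : G) ∈ E := (QuotientGroup.eq_one_iff _).1 hx
      have := (Subgroup.disjoint_def.1 hdisj) x.2 hxE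
      rw [Subgroup.mem_bot]; exact Subtype.ext this
    have h1 : H0.map f = (f.comp H0.subtype).range := by
      rw [MonoidHom.range_comp, Subgroup.range_subtype]
    rw [h1]
    exact (Nat.card_congr (MonoidHom.ofInjective hinj).toEquiv).symm
  refine ⟨H0, ?_, hcard0⟩
  apply Subgroup.eq_of_le_of_card_ge hle
  rw [hcardmap, hcard0]

/-- The class of groups of S4049. -/
def OddHom (G : Type*) [Group G] : Prop :=
  ∀ H : Subgroup G, H ≠ ⊥ → ¬ 2 ∣ Nat.card ↥H →
    ¬ 2 ∣ (Subgroup.centralizer (H : Set G)).relIndex (Subgroup.normalizer (H : Set G))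

/-- `OddHom` passes to quotients by normal `2`-subgroups. -/
theorem oddHom_quotient {G : Type*} [Group G] [Finite G] (E : Subgroup G) [hEn : E.Normal]
    (hE : IsPGroup 2 E) (hG : OddHom G) : OddHom (G ⧸ E) := by
  intro Hb hHb hodd h2
  have : Fact (Nat.Prime 2) := ⟨Nat.prime_two⟩
  set f := QuotientGroup.mk' E with hf
  have hfs : Function.Surjective f := QuotientGroup.mk'_surjective E
  obtain ⟨gb, hgbN, hgbC, a, hgb2⟩ := exists_two_element_of_two_dvd_relIndex _ _ h2
  obtain ⟨H0, hH0map, hH0card⟩ := exists_lift_of_odd E hE Hb hodd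
  have hH0ne : H0 ≠ ⊥ := by
    rintro rfl
    apply hHb
    rw [← hH0map, Subgroup.map_bot]
  have hH0odd : ¬ 2 ∣ Nat.card H0 := by rw [hH0card]; exact hodd
  obtain ⟨g, rfl⟩ := hfs gb
  -- conjugate complement
  set K : Subgroup G := MulAut.conj g • H0 with hK
  have hgbH : MulAut.conj (f g) • Hb = Hb := by
    have := (Subgroup.mem_normalizer_iff_map_conj_eq).1 hgbN
    exact this
  have hsup : K ⊔ E = H0 ⊔ E := by
    have h1 : K.map f = Hb := by
      rw [hK, Helper1.map_conj_smul, hH0map, hgbH]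
    have h2 : (K.map f).comap f = K ⊔ E := by
      rw [Subgroup.comap_map_eq, QuotientGroup.ker_mk']
    have h3 : (H0.map f).comap f = H0 ⊔ E := by
      rw [Subgroup.comap_map_eq, QuotientGroup.ker_mk']
    rw [← h2, ← h3, h1, hH0map]
  obtain ⟨k, hk⟩ := hE.exists_card_eq
  have hcop0 : (Nat.card E).Coprime (Nat.card H0) := by
    rw [hk]; exact Nat.Coprime.pow_left k ((Nat.Prime.coprime_iff_not_dvd Nat.prime_two).2 hH0odd)
  have hcopK : (Nat.card E).Coprime (Nat.card K) := by
    rw [hK, Helper1.card_conj_smul]; exact hcop0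
  have : Group.IsNilpotent E := hE.isNilpotent
  obtain ⟨e, he, hconj⟩ := exists_mem_conj_smul_eq_of_sup_eq (M := E) hsup hcopK hcop0 (Or.inl inferInstance)
  rw [hK, Helper1.conj_smul_conj_smul] at hconj
  have hg'N : e * g ∈ Subgroup.normalizer (H0 : Set G) :=
    (Subgroup.mem_normalizer_iff_map_conj_eq).2 hconj
  have hfg' : f (e * g) = f g := by
    have he1 : f e = 1 := (QuotientGroup.eq_one_iff e).2 he
    rw [map_mul, he1, one_mul]
  obtain ⟨d, hd, hdC⟩ := exists_odd_pow_mem _ _ (hG H0 hH0ne hH0odd) hg'N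
  -- the image of (e g)^d centralizes Hb
  have hcent : (f g) ^ d ∈ Subgroup.centralizer (Hb : Set (G ⧸ E)) := by
    rw [Subgroup.mem_centralizer_iff]
    intro hb hhb
    rw [← hH0map] at hhb
    obtain ⟨h0, hh0, rfl⟩ := hhb
    have := Subgroup.mem_centralizer_iff.1 hdC h0 hh0
    rw [← hfg', ← map_pow, ← map_mul, ← map_mul, this]
  -- f g is a power of (f g)^d
  have hordg : orderOf (f g) ∣ 2 ^ a := orderOf_dvd_of_pow_eq_one hgb2
  have hcopd : Nat.Coprime d (orderOf (f g)) :=
    Nat.Coprime.coprime_dvd_right hordg (Nat.Coprime.pow_right a (Nat.coprime_two_right.2 hd))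
  obtain ⟨t, ht⟩ := exists_pow_eq_self_of_coprime hcopd
  apply hgbC
  rw [← ht]
  exact Subgroup.pow_mem _ hcent t

/-- Let G be a finite group such that N_G(H)/C_G(H) has odd order for every nontrivial subgroup H of odd order. Then the Sylow 2-subgroups of G are normal. -/
theorem result {G : Type*} [Group G] [Finite G]
    (hhom : ∀ H : Subgroup G, H ≠ ⊥ → ¬ 2 ∣ Nat.card ↥H →
        ¬ 2 ∣ (Subgroup.centralizer (H : Set G)).relIndex (Subgroup.normalizer (H : Set G))) (P : Sylow 2 G) :
    (P : Subgroup G).Normal := by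
  refine sylow_two_normal_of_class (fun (H : Type _) [Group H] => OddHom H)
    ?_ ?_ (Nat.card G) G rfl hhom P
  · intro H _ _ E _ hE hH
    exact oddHom_quotient E hE hH
  · intro H _ _ hH s w hs hodd hsw
    by_contra hw1
    have hZne : Subgroup.zpowers w ≠ ⊥ := by
      rw [Ne, Subgroup.zpowers_eq_bot]; exact hw1
    have hZodd : ¬ 2 ∣ Nat.card (Subgroup.zpowers w) := by
      rw [Nat.card_zpowers, ← even_iff_two_dvd, Nat.not_even_iff_odd]; exact hodd
    have hsN := mem_normalizer_zpowers_of_conj_eq_inv hsw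
    have hsC : s ∉ Subgroup.centralizer ((Subgroup.zpowers w : Subgroup H) : Set H) := by
      intro hc
      have hcomm : w * s = s * w := Subgroup.mem_centralizer_iff.1 hc w (Subgroup.mem_zpowers w)
      have hinv : w⁻¹ = w := by rw [← hsw, ← hcomm, mul_inv_cancel_right]
      have hsq : w ^ 2 = 1 := by
        rw [pow_two]; nth_rewrite 1 [← hinv]; exact inv_mul_cancel w
      have h2 : orderOf w ∣ 2 := orderOf_dvd_of_pow_eq_one hsq
      rcases (Nat.dvd_prime Nat.prime_two).1 h2 with h1 | h1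
      · exact hw1 (orderOf_eq_one_iff.1 h1)
      · rw [h1] at hodd; exact absurd hodd (by decide)
    have hs2C : s ^ 2 ∈ Subgroup.centralizer ((Subgroup.zpowers w : Subgroup H) : Set H) := by
      rw [hs]; exact Subgroup.one_mem _
    exact hH _ hZne hZodd (two_dvd_relIndex_of_sq_mem _ _ hsN hsC hs2C)

end Cfsg.Agent.S4049
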