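import Cfsg.Statements.S4050
import Mathlib
import Cfsg.Agent.Lib.Helper67.PiClosed2

set_option autoImplicit false
open Cfsg

namespace Cfsg.Agent.S4050

open Cfsg.Agent.Lib.Helper67

/-- Forward direction, homogeneity: in a `π`-closed group, `N(H)/C(H)` is a `π'`-group for every
`π'`-subgroup `H`. -/
theorem hom_of_closed {G : Type*} [Group G] [Finite G] (π : Set ℕ) (K : Subgroup G)
    (hK : ∀ x : G, x ∈ K ↔ ∀ p : ℕ, p.Prime → p ∣ orderOf x → p ∈ π)
    (H : Subgroup G) (hH : ∀ p : ℕ, p.Prime → p ∣ Nat.card ↥H → p ∉ π)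
    (p : ℕ) (hp : p.Prime)
    (hpd : p ∣ (Subgroup.centralizer (H : Set G)).relIndex (Subgroup.normalizer (H : Set G))) :
    p ∉ π := by
  intro hpπ
  obtain ⟨hKn, hKπ, hKidx⟩ := normal_hall_of_pi_subgroup π K hK
  have : Fact p.Prime := ⟨hp⟩
  obtain ⟨N, hN⟩ : ∃ N : Subgroup G, N = Subgroup.normalizer (H : Set G) := ⟨_, rfl⟩
  rw [← hN] at hpd
  have hnorm : ((Subgroup.centralizer (H : Set G)).subgroupOf N).Normal := by
    rw [hN]; infer_instance
  rw [Subgroup.relIndex, Subgroup.index_eq_card] at hpd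
  obtain ⟨c, hc⟩ := exists_prime_orderOf_dvd_card'
    (G := N ⧸ (Subgroup.centralizer (H : Set G)).subgroupOf N) p hpd
  obtain ⟨n, rfl⟩ := QuotientGroup.mk_surjective c
  obtain ⟨a, m, hm, hnm⟩ := Nat.exists_eq_pow_mul_and_not_dvd (orderOf_pos n).ne' p hp.ne_one
  -- y = n ^ m is a p-element
  have hy : (n ^ m) ^ (p ^ a) = 1 := by
    rw [← pow_mul, mul_comm, ← hnm, pow_orderOf_eq_one]
  have hyK : ((n ^ m : N) : G) ∈ K := by
    rw [hK]
    intro r hr hrd
    rw [Subgroup.orderOf_coe] at hrd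
    have h1 : r ∣ p ^ a := hrd.trans (orderOf_dvd_of_pow_eq_one hy)
    have := (Nat.prime_dvd_prime_iff_eq hr hp).1 (hr.dvd_of_dvd_pow h1)
    rw [this]; exact hpπ
  -- y centralizes H
  have hyC : ((n ^ m : N) : G) ∈ Subgroup.centralizer (H : Set G) := by
    rw [Subgroup.mem_centralizer_iff]
    intro h hh
    obtain ⟨y, hyd⟩ : ∃ y : G, y = ((n ^ m : N) : G) := ⟨_, rfl⟩
    rw [← hyd] at hyK ⊢
    have hyN : y ∈ Subgroup.normalizer (H : Set G) := by rw [hyd, ← hN]; exact (n ^ m).2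
    have h1 : y * h * y⁻¹ ∈ H := (Subgroup.mem_normalizer_iff.1 hyN h).1 hh
    have h2 : y * h * y⁻¹ * h⁻¹ ∈ H := H.mul_mem h1 (H.inv_mem hh)
    have h3 : y * h * y⁻¹ * h⁻¹ ∈ K := by
      have : y * h * y⁻¹ * h⁻¹ = y * (h * y⁻¹ * h⁻¹) := by group
      rw [this]
      exact K.mul_mem hyK (hKn.conj_mem _ (K.inv_mem hyK) h)
    -- K ⊓ H = ⊥
    have h4 : y * h * y⁻¹ * h⁻¹ = 1 := by
      by_contra hne
      rw [← orderOf_eq_one_iff] at hne
      obtain ⟨r, hr, hrd⟩ := Nat.exists_prime_and_dvd hne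
      have h5 : r ∈ π := (hK _).1 h3 r hr hrd
      have h6 : orderOf (y * h * y⁻¹ * h⁻¹) ∣ Nat.card H := by
        have := orderOf_dvd_natCard (⟨_, h2⟩ : H)
        rwa [Subgroup.orderOf_mk] at this
      exact hH r hr (hrd.trans h6) h5
    calc h * y = (y * h * y⁻¹ * h⁻¹)⁻¹ * (y * h) := by group
      _ = y * h := by rw [h4, inv_one, one_mul]
  have h1 : (QuotientGroup.mk n : N ⧸ (Subgroup.centralizer (H : Set G)).subgroupOf N) ^ m = 1 := by
    rw [← QuotientGroup.mk_pow, QuotientGroup.eq_one_iff, Subgroup.mem_subgroupOf]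
    exact hyC
  have h2 : p ∣ m := by rw [← hc]; exact orderOf_dvd_of_pow_eq_one h1
  exact hm h2

/-- Let π be a set of primes and G a finite group. The π-elements of G (elements whose order is divisible only by primes of π) form a subgroup if and only if G is π-separable (it has a chain of normal subgroups from 1 to G with each successive index divisible only by primes in π or only by primes outside π) and N_G(H)/C_G(H) is a π'-group for every nontrivial π'-subgroup H of G. -/
theorem result {G : Type*} [Group G] [Finite G] (π : Set ℕ)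
    (hπ : ∀ p ∈ π, p.Prime) :
    (∃ K : Subgroup G, ∀ x : G, x ∈ K ↔ ∀ p : ℕ, p.Prime → p ∣ orderOf x → p ∈ π) ↔
    ((∃ (n : ℕ) (H : Fin (n + 1) → Subgroup G), H 0 = ⊥ ∧ H (Fin.last n) = ⊤ ∧ Monotone H ∧ (∀ i, (H i).Normal) ∧
      ∀ i : Fin n, (∀ q : ℕ, q.Prime → q ∣ (H i.castSucc).relIndex (H i.succ) → q ∈ π) ∨
        (∀ q : ℕ, q.Prime → q ∣ (H i.castSucc).relIndex (H i.succ) → q ∉ π)) ∧
     (∀ H : Subgroup G, H ≠ ⊥ → (∀ p : ℕ, p.Prime → p ∣ Nat.card ↥H → p ∉ π) →
        ∀ p : ℕ, p.Prime → p ∣ (Subgroup.centralizer (H : Set G)).relIndex (Subgroup.normalizer (H : Set G)) → p ∉ π)) := by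
  constructor
  · rintro ⟨K, hK⟩
    obtain ⟨hKn, hKπ, hKidx⟩ := normal_hall_of_pi_subgroup π K hK
    refine ⟨⟨2, ![⊥, K, ⊤], rfl, rfl, ?_, ?_, ?_⟩, ?_⟩
    · intro i j hij
      fin_cases i <;> fin_cases j
      · exact le_refl _
      · exact bot_le
      · exact bot_le
      · exact absurd hij (by decide)
      · exact le_refl _
      · exact le_top
      · exact absurd hij (by decide)
      · exact absurd hij (by decide)
      · exact le_refl _
    · intro i
      fin_cases i
      · exact (inferInstance : (⊥ : Subgroup G).Normal)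
      · exact hKn
      · exact (inferInstance : (⊤ : Subgroup G).Normal)
    · intro i
      fin_cases i
      · left
        intro q hq hqd
        have : (⊥ : Subgroup G).relIndex K = Nat.card K := Subgroup.relIndex_bot_left K
        exact hKπ q hq (this ▸ hqd)
      · right
        intro q hq hqd
        have : K.relIndex ⊤ = K.index := Subgroup.relIndex_top_right K
        exact hKidx q hq (this ▸ hqd)
    · intro H _ hH p hp hpd
      exact hom_of_closed π K hK H hH p hp hpd
  · rintro ⟨⟨n, H, h0, hlast, hmono, hnormal, hfac⟩, hhom⟩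
    -- elementwise form of homogeneity
    have hcentG : ∀ U : Subgroup G, U ≠ ⊥ → (∀ p : ℕ, p.Prime → p ∣ Nat.card ↥U → p ∉ π) →
        ∀ x ∈ Subgroup.normalizer (U : Set G), (∀ p : ℕ, p.Prime → p ∣ orderOf x → p ∈ π) →
        x ∈ Subgroup.centralizer (U : Set G) :=
      fun U hU hUπ x hx hxπ => mem_centralizer_of_homogeneous π U (hhom U hU hUπ) x hx hxπ
    -- induction along the series
    have key : ∀ (k : ℕ) (hk : k < n + 1), ∃ D : Subgroup G, D.Normal ∧ D ≤ H ⟨k, hk⟩ ∧
        (∀ p : ℕ, p.Prime → p ∣ Nat.card D → p ∈ π) ∧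
        (∀ p : ℕ, p.Prime → p ∣ D.relIndex (H ⟨k, hk⟩) → p ∉ π) := by
      intro k
      induction k with
      | zero =>
        intro hk
        refine ⟨⊥, inferInstance, bot_le, ?_, ?_⟩
        · intro p hp hpd
          rw [Subgroup.card_bot] at hpd
          exact absurd (Nat.dvd_one.1 hpd) hp.ne_one
        · intro p hp hpd
          have h00 : H ⟨0, hk⟩ = ⊥ := h0
          rw [h00, Subgroup.relIndex_bot_left, Subgroup.card_bot] at hpd
          exact absurd (Nat.dvd_one.1 hpd) hp.ne_one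
      | succ k ih =>
        intro hk
        have hk' : k < n + 1 := by omega
        have hkn : k < n := by omega
        obtain ⟨D, hDn, hDle, hDπ, hDrel⟩ := ih hk'
        have hcs : (⟨k, hkn⟩ : Fin n).castSucc = ⟨k, hk'⟩ := rfl
        have hsu : (⟨k, hkn⟩ : Fin n).succ = ⟨k + 1, hk⟩ := rfl
        have hle : H ⟨k, hk'⟩ ≤ H ⟨k + 1, hk⟩ := hmono (by simp [Fin.le_def])
        rcases hfac ⟨k, hkn⟩ with hf | hf
        · rw [hcs, hsu] at hf
          have := hnormal ⟨k, hk'⟩
          have := hnormal ⟨k + 1, hk⟩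
          exact exists_normal_hall_rel π hcentG D (H ⟨k, hk'⟩) (H ⟨k + 1, hk⟩) hDle hle hDπ hDrel hf
        · rw [hcs, hsu] at hf
          refine ⟨D, hDn, hDle.trans hle, hDπ, ?_⟩
          intro p hp hpd
          rw [← Subgroup.relIndex_mul_relIndex D (H ⟨k, hk'⟩) (H ⟨k + 1, hk⟩) hDle hle] at hpd
          rcases (Nat.Prime.dvd_mul hp).1 hpd with h | h
          · exact hDrel p hp h
          · exact hf p hp h
    obtain ⟨D, hDn, _, hDπ, hDrel⟩ := key n (by omega)
    have hlast' : H ⟨n, by omega⟩ = ⊤ := hlast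
    rw [hlast', Subgroup.relIndex_top_right] at hDrel
    exact ⟨D, fun x => mem_iff_of_normal_hall π D hDπ hDrel x⟩

end Cfsg.Agent.S4050
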