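import Cfsg.Statements.S4051
import Mathlib
import Cfsg.Agent.Lib.Helper67.PiClosed

set_option autoImplicit false
open Cfsg

namespace Cfsg.Agent.S4051

open Cfsg.Agent.Lib.Helper67

/-- Let π be a set of primes and G a finite group such that N_G(H)/C_G(H) is a π'-group for every nontrivial π'-subgroup H of G. If K is a normal subgroup of G such that the π-elements of K form a subgroup and the π-elements of G/K form a subgroup, then the π-elements of G form a subgroup. -/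
theorem result {G : Type*} [Group G] [Finite G] (π : Set ℕ)
    (hπ : ∀ p ∈ π, p.Prime) (hhom : (∀ H : Subgroup G, H ≠ ⊥ → (∀ p : ℕ, p.Prime → p ∣ Nat.card ↥H → p ∉ π) →
        ∀ p : ℕ, p.Prime → p ∣ (Subgroup.centralizer (H : Set G)).relIndex (Subgroup.normalizer (H : Set G)) → p ∉ π))
    (K : Subgroup G) [K.Normal]
    (hK : ∃ L : Subgroup ↥K, ∀ x : ↥K, x ∈ L ↔ ∀ p : ℕ, p.Prime → p ∣ orderOf x → p ∈ π)
    (hQ : ∃ L : Subgroup (G ⧸ K), ∀ x : G ⧸ K, x ∈ L ↔ ∀ p : ℕ, p.Prime → p ∣ orderOf x → p ∈ π) :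
    (∃ K : Subgroup G, ∀ x : G, x ∈ K ↔ ∀ p : ℕ, p.Prime → p ∣ orderOf x → p ∈ π) := by
  have hKn : K.Normal := inferInstance
  obtain ⟨L₀, hL₀mem⟩ := hK
  obtain ⟨hL₀n, hL₀π, hL₀idx⟩ := normal_hall_of_pi_subgroup π L₀ hL₀mem
  obtain ⟨Mb, hMbmem⟩ := hQ
  obtain ⟨hMbn, hMbπ, hMbidx⟩ := normal_hall_of_pi_subgroup π Mb hMbmem
  -- L, normal in G
  obtain ⟨L, hL⟩ : ∃ L : Subgroup G, L = L₀.map K.subtype := ⟨_, rfl⟩
  have hLK : L ≤ K := hL ▸ Subgroup.map_subtype_le L₀
  have hLn : L.Normal := by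
    constructor
    intro x hx g
    rw [hL] at hx ⊢
    obtain ⟨k, hk, rfl⟩ := hx
    have hmem : g * (k : G) * g⁻¹ ∈ K := hKn.conj_mem k k.2 g
    refine ⟨⟨g * (k : G) * g⁻¹, hmem⟩, ?_, rfl⟩
    rw [SetLike.mem_coe, hL₀mem] at hk ⊢
    have hs : SemiconjBy g (k : G) (g * (k : G) * g⁻¹) := by unfold SemiconjBy; group
    have : orderOf (⟨g * (k : G) * g⁻¹, hmem⟩ : K) = orderOf k := by
      rw [← Subgroup.orderOf_coe, ← Subgroup.orderOf_coe k]
      exact hs.orderOf_eq.symm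
    rw [this]; exact hk
  have hLπ : ∀ p : ℕ, p.Prime → p ∣ Nat.card L → p ∈ π := by
    intro p hp hpd
    rw [hL, Subgroup.card_map_of_injective K.subtype_injective] at hpd
    exact hL₀π p hp hpd
  have hKL : ∀ p : ℕ, p.Prime → p ∣ L.relIndex K → p ∉ π := by
    intro p hp hpd
    have : L.relIndex K = L₀.index := by
      rw [Subgroup.relIndex, hL]
      show ((L₀.map K.subtype).comap K.subtype).index = _
      rw [Subgroup.comap_map_eq_self_of_injective K.subtype_injective]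
    rw [this] at hpd
    exact hL₀idx p hp hpd
  -- M, the preimage of the normal Hall subgroup of G ⧸ K
  obtain ⟨f, hf⟩ : ∃ f : G →* G ⧸ K, f = QuotientGroup.mk' K := ⟨_, rfl⟩
  have hfs : Function.Surjective f := hf ▸ QuotientGroup.mk'_surjective K
  have hker : f.ker = K := hf ▸ QuotientGroup.ker_mk' K
  obtain ⟨M, hM⟩ : ∃ M : Subgroup G, M = Mb.comap f := ⟨_, rfl⟩
  have hMn : M.Normal := hM ▸ hMbn.comap f
  have hKM : K ≤ M := by
    intro g hg
    rw [hM, Subgroup.mem_comap]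
    have : f g = 1 := by rw [← MonoidHom.mem_ker, hker]; exact hg
    rw [this]; exact Mb.one_mem
  have hmap : M.map f = Mb := by
    rw [hM]; exact Subgroup.map_comap_eq_self_of_surjective hfs Mb
  have hMK : ∀ p : ℕ, p.Prime → p ∣ K.relIndex M → p ∈ π := by
    intro p hp hpd
    have h := Subgroup.relIndex_comap (⊥ : Subgroup (G ⧸ K)) f M
    have h0 : (⊥ : Subgroup (G ⧸ K)).comap f = K := by rw [MonoidHom.comap_bot, hker]
    rw [hmap, Subgroup.relIndex_bot_left, h0] at h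
    rw [h] at hpd
    exact hMbπ p hp hpd
  have hGM : ∀ p : ℕ, p.Prime → p ∣ M.index → p ∉ π := by
    intro p hp hpd
    rw [hM, Subgroup.index_comap_of_surjective _ hfs] at hpd
    exact hMbidx p hp hpd
  obtain ⟨D, hDn, hDπ, hDidx⟩ :=
    exists_normal_hall_of_homogeneous π hhom L K M hLK hKM hLπ hKL hMK hGM
  exact ⟨D, fun x => mem_iff_of_normal_hall π D hDπ hDidx x⟩

end Cfsg.Agent.S4051
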