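import Cfsg.Statements.S4056

set_option autoImplicit false
open Cfsg

namespace Cfsg.Agent.S4056

/-- If `y * x = z * x * y` with `z` commuting with `x` and `y`, then `y^n * x = z^n * x * y^n`.
(As in `Cfsg.Agent.Lib.Helper24.pow_mul_of_central_comm`.) -/
theorem pow_mul_of_central_comm {G : Type*} [Group G] (x y z : G) (hz : y * x = z * x * y)
    (hzy : Commute z y) (n : ℕ) : y ^ n * x = z ^ n * x * y ^ n := by
  induction n with
  | zero => simp
  | succ n ih =>
    have h1 : Commute (z ^ n) y := hzy.pow_left n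
    calc y ^ (n + 1) * x = y * (y ^ n * x) := by rw [pow_succ', mul_assoc]
      _ = y * (z ^ n * x * y ^ n) := by rw [ih]
      _ = (y * z ^ n) * x * y ^ n := by simp only [mul_assoc]
      _ = (z ^ n * y) * x * y ^ n := by rw [h1.eq]
      _ = z ^ n * (y * x) * y ^ n := by simp only [mul_assoc]
      _ = z ^ n * (z * x * y) * y ^ n := by rw [hz]
      _ = z ^ (n + 1) * x * y ^ (n + 1) := by
        rw [pow_succ, pow_succ']; simp only [mul_assoc]

/-- Class two power formula: `(x y)^n = x^n y^n z^(n choose 2)` where `y x = z x y`, `z` central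
for `x, y`. (As in `Cfsg.Agent.Lib.Helper24.mul_pow_of_central_comm`.) -/
theorem mul_pow_of_central_comm {G : Type*} [Group G] (x y z : G) (hz : y * x = z * x * y)
    (hzx : Commute z x) (hzy : Commute z y) (n : ℕ) :
    (x * y) ^ n = x ^ n * y ^ n * z ^ (n.choose 2) := by
  induction n with
  | zero => simp
  | succ n ih =>
    have h1 := pow_mul_of_central_comm x y z hz hzy n
    have hzxn : Commute (z ^ n) (x ^ n) := (hzx.pow_left n).pow_right n
    have hc1 : Commute (z ^ (n.choose 2)) x := hzx.pow_left _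
    have hc2 : Commute (z ^ (n.choose 2)) y := hzy.pow_left _
    have hc3 : Commute (z ^ (n.choose 2)) (x * y) := hc1.mul_right hc2
    have hc4 : Commute (z ^ n) (x ^ (n+1)) := (hzx.pow_left n).pow_right _
    have hc5 : Commute (z ^ n) (y ^ (n+1)) := (hzy.pow_left n).pow_right _
    have hch : (n + 1).choose 2 = n + n.choose 2 := by
      rw [Nat.choose_succ_succ, Nat.choose_one_right]
    calc (x * y) ^ (n + 1) = (x * y) ^ n * (x * y) := pow_succ _ _
      _ = x ^ n * y ^ n * z ^ (n.choose 2) * (x * y) := by rw [ih]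
      _ = x ^ n * y ^ n * ((x * y) * z ^ (n.choose 2)) := by rw [mul_assoc, hc3.eq]
      _ = x ^ n * (y ^ n * x) * y * z ^ (n.choose 2) := by simp only [mul_assoc]
      _ = x ^ n * (z ^ n * x * y ^ n) * y * z ^ (n.choose 2) := by rw [h1]
      _ = (x ^ n * z ^ n) * x * y ^ n * y * z ^ (n.choose 2) := by simp only [mul_assoc]
      _ = (z ^ n * x ^ n) * x * y ^ n * y * z ^ (n.choose 2) := by rw [hzxn.eq]
      _ = z ^ n * (x ^ (n + 1) * y ^ (n + 1)) * z ^ (n.choose 2) := by
        rw [pow_succ, pow_succ]; simp only [mul_assoc]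
      _ = (x ^ (n + 1) * y ^ (n + 1)) * z ^ n * z ^ (n.choose 2) := by
        rw [(hc4.mul_right hc5).eq]
      _ = x ^ (n + 1) * y ^ (n + 1) * z ^ ((n + 1).choose 2) := by
        rw [hch, pow_add z]; simp only [mul_assoc]

/-- In a finite group, the Frattini subgroup lies in every normal subgroup containing all squares. -/
theorem frattini_le_of_sq_mem {G : Type*} [Group G] [Finite G] (N : Subgroup G) [hN : N.Normal]
    (hsq : ∀ x : G, x ^ 2 ∈ N) : frattini G ≤ N := by
  -- commutators lie in N
  have hcomm : ∀ a b : G, a * b * a⁻¹ * b⁻¹ ∈ N := by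
    intro a b
    have : a * b * a⁻¹ * b⁻¹ = (a * b) ^ 2 * (b⁻¹ * (a⁻¹) ^ 2 * b⁻¹⁻¹) * (b⁻¹) ^ 2 := by
      simp only [pow_two]; group
    rw [this]
    exact N.mul_mem (N.mul_mem (hsq _) (hN.conj_mem _ (hsq _) _)) (hsq _)
  -- subgroups containing N are normal
  have hnormal : ∀ M : Subgroup G, N ≤ M → ∀ m ∈ M, ∀ g : G, g * m * g⁻¹ ∈ M := by
    intro M hNM m hm g
    have : g * m * g⁻¹ = (g * m * g⁻¹ * m⁻¹) * m := by group
    rw [this]
    exact M.mul_mem (hNM (hcomm g m)) hm
  intro x hx
  by_contra hxN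
  obtain ⟨M, hNM, hMmax⟩ := Finite.exists_le_maximal (p := fun M : Subgroup G => N ≤ M ∧ x ∉ M) (a := N)
    ⟨le_refl N, hxN⟩
  obtain ⟨⟨hNM', hxM⟩, hmax⟩ := hMmax
  have hcoatom : IsCoatom M := by
    refine ⟨fun h => hxM (h ▸ Subgroup.mem_top x), ?_⟩
    intro L hML
    have hxL : x ∈ L := by
      by_contra hxL
      exact (not_le_of_gt hML) (hmax ⟨hNM'.trans hML.le, hxL⟩ hML.le)
    rw [eq_top_iff]
    intro y _
    by_cases hyM : y ∈ M
    · exact hML.le hyM
    · -- the subgroup M ∪ yM
      let S : Subgroup G :=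
        { carrier := {g | g ∈ M ∨ y⁻¹ * g ∈ M}
          one_mem' := Or.inl M.one_mem
          mul_mem' := by
            rintro g₁ g₂ (h₁ | h₁) (h₂ | h₂)
            · exact Or.inl (M.mul_mem h₁ h₂)
            · right
              have : y⁻¹ * (g₁ * g₂) = (y⁻¹ * g₁ * y⁻¹⁻¹) * (y⁻¹ * g₂) := by group
              rw [this]
              exact M.mul_mem (hnormal M hNM' g₁ h₁ y⁻¹) h₂
            · right
              have : y⁻¹ * (g₁ * g₂) = (y⁻¹ * g₁) * g₂ := by group
              rw [this]
              exact M.mul_mem h₁ h₂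
            · left
              have : g₁ * g₂ = y ^ 2 * (y⁻¹ * (y⁻¹ * g₁) * y⁻¹⁻¹) * (y⁻¹ * g₂) := by
                simp only [pow_two]; group
              rw [this]
              exact M.mul_mem (M.mul_mem (hNM' (hsq y)) (hnormal M hNM' _ h₁ y⁻¹)) h₂
          inv_mem' := by
            rintro g (h | h)
            · exact Or.inl (M.inv_mem h)
            · right
              have : y⁻¹ * g⁻¹ = (y⁻¹ * (y⁻¹ * g)⁻¹ * y⁻¹⁻¹) * (y ^ 2)⁻¹ := by
                simp only [pow_two]; group
              rw [this]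
              exact M.mul_mem (hnormal M hNM' _ (M.inv_mem h) y⁻¹) (M.inv_mem (hNM' (hsq y))) }
      have hMS : M ≤ S := fun g hg => Or.inl hg
      have hyS : y ∈ S := Or.inr (by simp [M.one_mem])
      have hxS : x ∈ S := by
        by_contra hxS
        have := hmax ⟨hNM'.trans hMS, hxS⟩ hMS
        exact hyM (this hyS)
      rcases hxS with h | h
      · exact absurd h hxM
      · have : y = x * (y⁻¹ * x)⁻¹ := by group
        rw [this]
        exact L.mul_mem hxL (L.inv_mem (hML.le h))
  exact hxM (frattini_le_coatom hcoatom hx)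

/-- In a finite 2-group of nilpotency class at most 2 and exponent dividing 4, the Frattini subgroup lies in the centre and is elementary abelian. -/
theorem result {P : Type*} [Group P] [Finite P] (hP : IsPGroup 2 P)
    (hcl : Group.nilpotencyClass P ≤ 2) (hexp : Monoid.exponent P ∣ 4) :
    frattini P ≤ Subgroup.center P ∧ Cfsg.IsElementaryAbelian 2 (frattini P) := by
  have : Fact (Nat.Prime 2) := ⟨Nat.prime_two⟩
  have : Group.IsNilpotent P := hP.isNilpotent
  have h4 : ∀ x : P, x ^ 4 = 1 := Monoid.exponent_dvd_iff_forall_pow_eq_one.1 hexp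
  -- commutators are central
  have hZ2 : Subgroup.upperCentralSeries P 2 = ⊤ := Subgroup.upperCentralSeries_eq_top_iff_nilpotencyClass_le.2 hcl
  have hcc : ∀ x y : P, x * y * x⁻¹ * y⁻¹ ∈ Subgroup.center P := by
    intro x y
    have hx : x ∈ Subgroup.upperCentralSeries P (1 + 1) := by rw [hZ2]; exact Subgroup.mem_top x
    have := (Subgroup.mem_upperCentralSeries_succ_iff.1 hx) y
    rwa [Subgroup.upperCentralSeries_one] at this
  -- commutators have order at most 2
  have hc2 : ∀ x y : P, (y * x * y⁻¹ * x⁻¹) ^ 2 = 1 := by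
    intro x y
    set d := y * x * y⁻¹ * x⁻¹ with hd
    have hdc : d ∈ Subgroup.center P := hcc y x
    have hdx : Commute d x := (Subgroup.mem_center_iff.1 hdc x).symm
    have hdy : Commute d y := (Subgroup.mem_center_iff.1 hdc y).symm
    have hz : y * x = d * x * y := by rw [hd]; group
    have h := mul_pow_of_central_comm x y d hz hdx hdy 4
    rw [h4, h4, h4, one_mul, one_mul] at h
    have h6 : d ^ 6 = 1 := by
      have : Nat.choose 4 2 = 6 := by decide
      rw [this] at h; exact h.symm
    calc d ^ 2 = d ^ 6 * (d ^ 4)⁻¹ := by group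
      _ = 1 := by rw [h6, h4, inv_one, mul_one]
  -- squares are central
  have hsqc : ∀ x : P, x ^ 2 ∈ Subgroup.center P := by
    intro x
    rw [Subgroup.mem_center_iff]
    intro y
    set d := x * y * x⁻¹ * y⁻¹ with hd
    have hdc : d ∈ Subgroup.center P := hcc x y
    have hdx : Commute d x := (Subgroup.mem_center_iff.1 hdc x).symm
    have hz : x * y = d * y * x := by rw [hd]; group
    have h := pow_mul_of_central_comm y x d hz hdx 2
    rw [hc2 y x, one_mul] at h
    exact h.symm
  -- the subgroup of central elements of order at most two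
  let N : Subgroup P :=
    { carrier := {z | z ∈ Subgroup.center P ∧ z ^ 2 = 1}
      one_mem' := ⟨Subgroup.one_mem _, one_pow 2⟩
      mul_mem' := by
        rintro a b ⟨ha, ha2⟩ ⟨hb, hb2⟩
        refine ⟨Subgroup.mul_mem _ ha hb, ?_⟩
        have hab : Commute a b := (Subgroup.mem_center_iff.1 ha b).symm
        rw [hab.mul_pow, ha2, hb2, one_mul]
      inv_mem' := by
        rintro a ⟨ha, ha2⟩
        exact ⟨Subgroup.inv_mem _ ha, by rw [inv_pow, ha2, inv_one]⟩ }
  have hNn : N.Normal := by
    constructor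
    intro n hn g
    have hcomm : g * n = n * g := (Subgroup.mem_center_iff.1 hn.1 g)
    have : g * n * g⁻¹ = n := by rw [hcomm, mul_inv_cancel_right]
    rw [this]; exact hn
  have hsqN : ∀ x : P, x ^ 2 ∈ N := fun x => ⟨hsqc x, by rw [← pow_mul]; exact h4 x⟩
  have hle : frattini P ≤ N := frattini_le_of_sq_mem N hsqN
  refine ⟨fun z hz => (hle hz).1, ?_, fun a ha => (hle ha).2⟩
  constructor
  constructor
  rintro ⟨a, ha⟩ ⟨b, hb⟩
  apply Subtype.ext
  show a * b = b * a
  exact (Subgroup.mem_center_iff.1 (hle hb).1 a)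

end Cfsg.Agent.S4056
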