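import Cfsg.Statements.S4058
import Mathlib
import Cfsg.Agent.Lib.Helper68.FSNu
import Cfsg.Agent.Lib.Helper81.Gallagher
-- import your own Cfsg.Agent.* helpers here

set_option autoImplicit false
set_option linter.unusedSectionVars false
open Cfsg

namespace Cfsg.Agent.S4058

open Cfsg.Agent.Lib.Helper68.FSNu Cfsg.Agent.Lib.Helper78 Cfsg.Agent.Lib.Helper77 Cfsg.Agent.Lib.Helper74
open scoped ComplexConjugate

/-- Sums of an invariant function over a finite set with a group action: divisibility orbit by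
orbit. -/
theorem dvd_sum_of_orbit {E X : Type*} [Group E] [MulAction E X] [Fintype X] (f : X → ℤ)
    (hf : ∀ (e : E) (x : X), f (e • x) = f x) (m : ℤ)
    (h : ∀ x : X, m ∣ ((MulAction.orbit E x).ncard : ℤ) * f x) : m ∣ ∑ x, f x := by
  classical
  rw [Finset.sum_partition (MulAction.orbitRel E X)]
  apply Finset.dvd_sum
  intro c _
  obtain ⟨x, rfl⟩ := Quotient.exists_rep c
  have h1 : ∀ y ∈ Finset.univ.filter (fun y : X => (⟦y⟧ : Quotient (MulAction.orbitRel E X)) = ⟦x⟧),
      f y = f x := by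
    intro y hy
    rw [Finset.mem_filter] at hy
    have : y ∈ MulAction.orbit E x := by
      have := Quotient.exact hy.2
      exact this
    obtain ⟨e, rfl⟩ := this
    exact hf e x
  rw [Finset.sum_congr rfl h1, Finset.sum_const, nsmul_eq_mul]
  have h2 : (Finset.univ.filter (fun y : X => (⟦y⟧ : Quotient (MulAction.orbitRel E X)) = ⟦x⟧)).card
      = (MulAction.orbit E x).ncard := by
    rw [Set.ncard_eq_toFinset_card']
    congr 1
    ext y
    simp only [Finset.mem_filter, Finset.mem_univ, true_and, Set.mem_toFinset]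
    constructor
    · intro hy
      exact Quotient.exact hy
    · intro hy
      exact Quotient.sound hy
  rw [h2]
  exact h x

section

variable {G : Type*} [Group G] [Fintype G]

/-- The group of linear characters with values `±1`. -/
def realHoms (G : Type*) [Group G] : Subgroup (G →* ℂˣ) where
  carrier := {φ | ∀ g, φ g ^ 2 = 1}
  one_mem' := by intro g; simp
  mul_mem' := by
    intro a b ha hb g
    rw [MonoidHom.mul_apply, mul_pow, ha g, hb g, one_mul]
  inv_mem' := by
    intro a ha g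
    rw [MonoidHom.inv_apply, inv_pow, ha g, inv_one]

theorem mem_realHoms {φ : G →* ℂˣ} : φ ∈ realHoms G ↔ ∀ g, φ g ^ 2 = 1 := Iff.rfl

/-- Twisting an irreducible character by a real linear character. -/
noncomputable instance : MulAction (realHoms G) (IrrCharacter G) where
  smul φ χ := ⟨fun g => ((φ.1 g : ℂˣ) : ℂ) * χ.1 g,
    Cfsg.Agent.Lib.Helper81.isIrrCharacter_monoidHom_mul φ.1 χ.2⟩
  one_smul χ := by
    apply Subtype.ext
    funext g
    change (((1 : realHoms G).1 g : ℂˣ) : ℂ) * χ.1 g = χ.1 g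
    simp
  mul_smul φ ψ χ := by
    apply Subtype.ext
    funext g
    change (((φ * ψ).1 g : ℂˣ) : ℂ) * χ.1 g = ((φ.1 g : ℂˣ) : ℂ) * (((ψ.1 g : ℂˣ) : ℂ) * χ.1 g)
    simp [mul_assoc]

theorem smul_apply (φ : realHoms G) (χ : IrrCharacter G) (g : G) :
    ((φ • χ : IrrCharacter G) : G → ℂ) g = ((φ.1 g : ℂˣ) : ℂ) * (χ : G → ℂ) g := rfl

theorem charDegree_smul (φ : realHoms G) (χ : IrrCharacter G) :
    charDegree ((φ • χ : IrrCharacter G) : G → ℂ) = charDegree (χ : G → ℂ) := by
  unfold charDegree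
  rw [smul_apply, map_one]
  simp

theorem νz_smul (φ : realHoms G) (χ : IrrCharacter G) : νz (φ • χ) = νz χ := by
  have h : fsν (φ • χ) = fsν χ := by
    unfold fsν
    congr 1
    apply Finset.sum_congr rfl
    intro s _
    rw [smul_apply, map_mul, ← sq, φ.2 s]
    simp
  unfold νz
  rw [h]

/-- Evaluation of a real linear character as a complex number. -/
noncomputable def ev (φ : realHoms G) (g : G) : ℂ := ((φ.1 g : ℂˣ) : ℂ)

theorem ev_mul (φ ψ : realHoms G) (g : G) : ev (φ * ψ) g = ev φ g * ev ψ g := by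
  unfold ev
  simp

theorem ev_one (g : G) : ev (1 : realHoms G) g = 1 := by
  unfold ev
  simp

theorem ev_mul_right (φ : realHoms G) (g h : G) : ev φ (g * h) = ev φ g * ev φ h := by
  unfold ev
  simp

theorem ev_cases (φ : realHoms G) (g : G) : ev φ g = 1 ∨ ev φ g = -1 := by
  have h := φ.2 g
  have h2 : ev φ g * ev φ g = 1 := by
    unfold ev
    rw [← Units.val_mul, ← sq, h, Units.val_one]
  exact mul_self_eq_one_iff.mp h2

theorem ev_eq_one_iff (φ : realHoms G) : (∀ g, ev φ g = 1) ↔ φ = 1 := by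
  constructor
  · intro h
    apply Subtype.ext
    ext g
    have := h g
    unfold ev at this
    simpa using this
  · rintro rfl g
    exact ev_one g

theorem sum_ev (φ : realHoms G) :
    ∑ g : G, ev φ g = if φ = 1 then (Fintype.card G : ℂ) else 0 := by
  split_ifs with h
  · rw [h]
    simp [ev_one]
  · have h2 : ¬ ∀ g, ev φ g = 1 := fun h3 => h ((ev_eq_one_iff φ).mp h3)
    push Not at h2
    obtain ⟨g₀, hg₀⟩ := h2
    have h3 : ∑ g : G, ev φ g = ev φ g₀ * ∑ g : G, ev φ g := by
      rw [Finset.mul_sum]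
      rw [← Equiv.sum_comp (Equiv.mulLeft g₀) (fun g => ev φ g)]
      apply Finset.sum_congr rfl
      intro g _
      simp [ev_mul_right]
    have h4 : (1 - ev φ g₀) * ∑ g : G, ev φ g = 0 := by
      rw [sub_mul, one_mul, ← h3, sub_self]
    rcases mul_eq_zero.mp h4 with h5 | h5
    · exact absurd (sub_eq_zero.mp h5).symm hg₀
    · exact h5

theorem sum_normSq (χ : IrrCharacter G) :
    ∑ g : G, Complex.normSq ((χ : G → ℂ) g) = (Fintype.card G : ℝ) := by
  have h := classInner_irr_self χ.2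
  unfold classInner at h
  have hG : (Nat.card G : ℂ) ≠ 0 := by
    rw [Nat.card_eq_fintype_card]
    exact_mod_cast Fintype.card_ne_zero
  have h2 : ∑ g : G, (χ : G → ℂ) g * conj ((χ : G → ℂ) g) = (Nat.card G : ℂ) := by
    rw [inv_mul_eq_iff_eq_mul₀ hG, mul_one] at h
    exact h
  have h3 : ((∑ g : G, Complex.normSq ((χ : G → ℂ) g) : ℝ) : ℂ) = (Nat.card G : ℂ) := by
    rw [← h2]
    push_cast
    apply Finset.sum_congr rfl
    intro g _
    rw [Complex.mul_conj]
  rw [Nat.card_eq_fintype_card] at h3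
  exact_mod_cast h3

theorem card_stabilizer_le [Finite (realHoms G)] (χ : IrrCharacter G) :
    Nat.card (MulAction.stabilizer (realHoms G) χ) ≤ (charDegree (χ : G → ℂ)) ^ 2 := by
  classical
  have : Fintype (MulAction.stabilizer (realHoms G) χ) := Fintype.ofFinite _
  set S := MulAction.stabilizer (realHoms G) χ with hS
  set n : ℕ := Fintype.card S with hn
  have hnpos : 0 < n := Fintype.card_pos
  set d : ℕ := charDegree (χ : G → ℂ) with hd
  -- (a) elements of the stabilizer fix the values of χ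
  have ha : ∀ (φ : S) (g : G), ev φ.1 g * (χ : G → ℂ) g = (χ : G → ℂ) g := by
    intro φ g
    have h1 : (φ.1 • χ : IrrCharacter G) = χ := φ.2
    have h2 := congrArg (fun ψ : IrrCharacter G => (ψ : G → ℂ) g) h1
    exact h2
  set ψ : G → ℂ := fun g => ∑ φ : S, ev φ.1 g with hψ
  have hc : ∀ g, ψ g * (χ : G → ℂ) g = (n : ℂ) * (χ : G → ℂ) g := by
    intro g
    rw [hψ]
    simp only
    rw [Finset.sum_mul, Finset.sum_congr rfl (fun φ _ => ha φ g), Finset.sum_const,
      Finset.card_univ, nsmul_eq_mul]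
  have hdcases : ∀ g, ψ g = (n : ℂ) ∨ ψ g = 0 := by
    intro g
    by_cases h : ∀ φ : S, ev φ.1 g = 1
    · left
      rw [hψ]
      simp only
      rw [Finset.sum_congr rfl (fun φ _ => h φ)]
      simp [hn]
    · right
      push Not at h
      obtain ⟨φ₀, hφ₀⟩ := h
      have h1 : ψ g = ev φ₀.1 g * ψ g := by
        rw [hψ]
        simp only
        rw [Finset.mul_sum, ← Equiv.sum_comp (Equiv.mulLeft φ₀) (fun φ : S => ev φ.1 g)]
        apply Finset.sum_congr rfl
        intro φ _
        simp only [Equiv.coe_mulLeft]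
        rw [Subgroup.coe_mul, ev_mul]
      have h2 : (1 - ev φ₀.1 g) * ψ g = 0 := by
        rw [sub_mul, one_mul, ← h1, sub_self]
      rcases mul_eq_zero.mp h2 with h3 | h3
      · exact absurd (sub_eq_zero.mp h3).symm hφ₀
      · exact h3
  have hsum : ∑ g : G, ψ g = (Fintype.card G : ℂ) := by
    rw [hψ]
    simp only
    rw [Finset.sum_comm]
    rw [Finset.sum_congr rfl (fun φ _ => sum_ev (φ : S).1)]
    have : ∀ φ : S, (if (φ : S).1 = 1 then (Fintype.card G : ℂ) else 0)
        = if φ = 1 then (Fintype.card G : ℂ) else 0 := by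
      intro φ
      have : ((φ : S).1 = 1) ↔ φ = 1 := by
        constructor
        · intro h; exact Subtype.ext h
        · intro h; rw [h]; rfl
      simp only [this]
    rw [Finset.sum_congr rfl (fun φ _ => this φ)]
    simp
  -- pointwise inequality
  have hpt : ∀ g, Complex.normSq ((χ : G → ℂ) g) * (n : ℝ) ≤ (d : ℝ) ^ 2 * (ψ g).re := by
    intro g
    rcases hdcases g with h | h
    · rw [h]
      have h1 := Cfsg.Agent.Lib.Helper80.norm_char_le (IsIrrCharacter.isCharacter χ.2) g
      have h2 : Complex.normSq ((χ : G → ℂ) g) ≤ (d : ℝ) ^ 2 := by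
        rw [Complex.normSq_eq_norm_sq]
        exact pow_le_pow_left₀ (norm_nonneg _) h1 2
      simp only [Complex.natCast_re]
      exact mul_le_mul_of_nonneg_right h2 (Nat.cast_nonneg n)
    · have h1 := hc g
      rw [h, zero_mul] at h1
      have h2 : (χ : G → ℂ) g = 0 := by
        rcases mul_eq_zero.mp h1.symm with h3 | h3
        · exfalso
          have : (n : ℂ) ≠ 0 := by exact_mod_cast hnpos.ne'
          exact this h3
        · exact h3
      rw [h2, h]
      simp
  have htot : (Fintype.card G : ℝ) * (n : ℝ) ≤ (d : ℝ) ^ 2 * (Fintype.card G : ℝ) := by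
    calc (Fintype.card G : ℝ) * (n : ℝ)
        = ∑ g : G, Complex.normSq ((χ : G → ℂ) g) * (n : ℝ) := by
          rw [← Finset.sum_mul, sum_normSq]
      _ ≤ ∑ g : G, (d : ℝ) ^ 2 * (ψ g).re := Finset.sum_le_sum (fun g _ => hpt g)
      _ = (d : ℝ) ^ 2 * (∑ g : G, ψ g).re := by
          rw [← Finset.mul_sum, Complex.re_sum]
      _ = (d : ℝ) ^ 2 * (Fintype.card G : ℝ) := by
          rw [hsum]
          simp
  have hGpos : (0 : ℝ) < (Fintype.card G : ℝ) := by exact_mod_cast Fintype.card_pos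
  have hfinal : (n : ℝ) ≤ (d : ℝ) ^ 2 := by
    have : (Fintype.card G : ℝ) * (n : ℝ) ≤ (Fintype.card G : ℝ) * (d : ℝ) ^ 2 := by
      rw [mul_comm (Fintype.card G : ℝ) ((d : ℝ) ^ 2)]
      exact htot
    exact le_of_mul_le_mul_left this hGpos
  rw [Nat.card_eq_fintype_card]
  exact_mod_cast hfinal

end

/-- Let G be a finite 2-group with #(G/Φ(G)) ≥ 2^(2k+1). Then the number of elements x of G with x² = 1 is divisible by 2^(k+1). -/
theorem result {G : Type*} [Group G] [Finite G] (hG : IsPGroup 2 G) (k : ℕ)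
    (hgen : 2 ^ (2 * k + 1) ≤ Nat.card (G ⧸ frattini G)) :
    2 ^ (k + 1) ∣ Nat.card {x : G // x ^ 2 = 1} := by
  classical
  have := Fintype.ofFinite G
  have : Fact (Nat.Prime 2) := ⟨Nat.prime_two⟩
  have hEcard : Nat.card (realHoms G) = (frattini G).index := card_realHom hG
  obtain ⟨N, hN⟩ := IsPGroup.iff_card.mp hG
  obtain ⟨d, hd⟩ : ∃ d, (frattini G).index = 2 ^ d := by
    have h1 : (frattini G).index ∣ 2 ^ N := hN ▸ Subgroup.index_dvd_card _
    obtain ⟨d, -, hd⟩ := (Nat.dvd_prime_pow Nat.prime_two).mp h1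
    exact ⟨d, hd⟩
  have hd2 : 2 * k + 1 ≤ d := by
    rw [← Subgroup.index_eq_card, hd] at hgen
    exact (Nat.pow_le_pow_iff_right (by norm_num)).mp hgen
  have : Finite (realHoms G) := Nat.finite_of_card_ne_zero (by rw [hEcard, hd]; positivity)
  have hcount := card_sqrt_one_eq_sum (G := G)
  have hsame : Nat.card {x : G // x ^ 2 = 1} = Nat.card {s : G // s * s = 1} :=
    Nat.card_congr (Equiv.subtypeEquivRight (fun x => by rw [sq]))
  rw [hsame, ← Int.natCast_dvd_natCast, hcount]
  push_cast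
  apply dvd_sum_of_orbit (E := realHoms G)
    (f := fun χ : IrrCharacter G => νz χ * ((charDegree (χ : G → ℂ) : ℕ) : ℤ))
  · intro φ χ
    rw [νz_smul, charDegree_smul]
  · intro χ
    have h1 : (MulAction.orbit (realHoms G) χ).ncard *
        Nat.card (MulAction.stabilizer (realHoms G) χ) = 2 ^ d := by
      rw [← MulAction.index_stabilizer, Subgroup.index_mul_card, hEcard, hd]
    have h2 := card_stabilizer_le χ
    obtain ⟨a, ha⟩ : ∃ a, charDegree (χ : G → ℂ) = 2 ^ a := by
      have h3 := Cfsg.Agent.Lib.Helper79.irr_charDegree_dvd_card χ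
      rw [hN] at h3
      obtain ⟨a, -, ha⟩ := (Nat.dvd_prime_pow Nat.prime_two).mp h3
      exact ⟨a, ha⟩
    obtain ⟨s, hs⟩ : ∃ s, Nat.card (MulAction.stabilizer (realHoms G) χ) = 2 ^ s := by
      have h3 : Nat.card (MulAction.stabilizer (realHoms G) χ) ∣ 2 ^ d := ⟨_, by rw [← h1, mul_comm]⟩
      obtain ⟨s, -, hs⟩ := (Nat.dvd_prime_pow Nat.prime_two).mp h3
      exact ⟨s, hs⟩
    obtain ⟨o, ho⟩ : ∃ o, (MulAction.orbit (realHoms G) χ).ncard = 2 ^ o := by
      have h3 : (MulAction.orbit (realHoms G) χ).ncard ∣ 2 ^ d := ⟨_, h1.symm⟩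
      obtain ⟨o, -, ho⟩ := (Nat.dvd_prime_pow Nat.prime_two).mp h3
      exact ⟨o, ho⟩
    rw [ho, hs, ← pow_add] at h1
    have hos : o + s = d := Nat.pow_right_injective (le_refl 2) h1
    rw [hs, ha, ← pow_mul] at h2
    have hs2 : s ≤ a * 2 := (Nat.pow_le_pow_iff_right (by norm_num)).mp h2
    have hexp : k + 1 ≤ o + a := by omega
    rw [ho, ha]
    have h4 : (2 : ℤ) ^ (k + 1) ∣ ((2 ^ o : ℕ) : ℤ) * ((2 ^ a : ℕ) : ℤ) := by
      push_cast
      rw [← pow_add]
      exact pow_dvd_pow 2 hexp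
    have h5 : ((2 ^ o : ℕ) : ℤ) * (νz χ * ((2 ^ a : ℕ) : ℤ)) =
        νz χ * (((2 ^ o : ℕ) : ℤ) * ((2 ^ a : ℕ) : ℤ)) := by ring
    rw [h5]
    exact Dvd.dvd.mul_left h4 _

end Cfsg.Agent.S4058
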