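import Cfsg.Statements.S4059
import Cfsg.Agent.Lib.Helper67.RealOdd

set_option autoImplicit false
open Cfsg

namespace Cfsg.Agent.S4059

open Cfsg.Agent.Lib.Helper67

/-- If `c` inverts `z` then `c` maps `z⁻¹` to `z`. -/
theorem inverts_inv {G : Type*} [Group G] {c z : G} (h : c * z * c⁻¹ = z⁻¹) : c * z⁻¹ * c⁻¹ = z := by
  calc c * z⁻¹ * c⁻¹ = (c * z * c⁻¹)⁻¹ := by group
    _ = z := by rw [h, inv_inv]

/-- If `c` inverts `z` then every odd power of `c` inverts `z`. -/
theorem odd_pow_inverts {G : Type*} [Group G] {c z : G} (h : c * z * c⁻¹ = z⁻¹) {l : ℕ} (hl : Odd l) :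
    c ^ l * z * (c ^ l)⁻¹ = z⁻¹ := by
  obtain ⟨j, rfl⟩ := hl
  have h2 : Commute (c ^ 2) z := by
    have : c ^ 2 * z * (c ^ 2)⁻¹ = z := by
      have h' : c * z⁻¹ * c⁻¹ = z := inverts_inv h
      calc c ^ 2 * z * (c ^ 2)⁻¹ = c * (c * z * c⁻¹) * c⁻¹ := by
            rw [pow_two, mul_inv_rev]; simp only [mul_assoc]
        _ = z := by rw [h, h']
    exact mul_inv_eq_iff_eq_mul.1 this
  have h3 : Commute ((c ^ 2) ^ j) z⁻¹ := (h2.pow_left j).inv_right
  calc c ^ (2 * j + 1) * z * (c ^ (2 * j + 1))⁻¹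
      = (c ^ 2) ^ j * (c * z * c⁻¹) * ((c ^ 2) ^ j)⁻¹ := by
        rw [pow_succ, pow_mul, mul_inv_rev]; simp only [mul_assoc]
    _ = z⁻¹ := by rw [h, h3.eq, mul_inv_cancel_right]

/-- An element of a group lies in a subgroup as soon as two coprime powers of it do. -/
theorem mem_of_parts_mem {G : Type*} [Group G] (H : Subgroup G) (y : G) (a m : ℕ) (hm : Odd m)
    (h1 : y ^ (2 ^ a) ∈ H) (h2 : y ^ m ∈ H) : y ∈ H := by
  have hcop : Nat.Coprime (2 ^ a) m := Nat.Coprime.pow_left a (Nat.coprime_two_left.2 hm)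
  have hb := Nat.gcd_eq_gcd_ab (2 ^ a) m
  rw [hcop.gcd_eq_one] at hb
  have : y = (y ^ (2 ^ a)) ^ (Nat.gcdA (2 ^ a) m) * (y ^ m) ^ (Nat.gcdB (2 ^ a) m) := by
    calc y = y ^ (((1 : ℕ) : ℤ)) := by simp
      _ = y ^ (((2 ^ a : ℕ) : ℤ) * Nat.gcdA (2 ^ a) m + (m : ℤ) * Nat.gcdB (2 ^ a) m) := by rw [hb]
      _ = _ := by rw [zpow_add, zpow_mul, zpow_mul, zpow_natCast, zpow_natCast]
  rw [this]
  exact H.mul_mem (H.zpow_mem h1 _) (H.zpow_mem h2 _)

/-- Let G be a finite group in which every element is conjugate to its inverse. Then: every non-identity element commuting with all elements of some Sylow 2-subgroup is an involution; the centre of G is an elementary abelian 2-group; the commutator quotient G/G' is an elementary abelian 2-group; and G is generated by its 2-elements. -/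
theorem result {G : Type*} [Group G] [Finite G] (hamb : ∀ x : G, IsConj x x⁻¹) :
    (∀ (S : Sylow 2 G) (x : G), x ∈ Subgroup.centralizer ((S : Subgroup G) : Set G) → x ≠ 1 → orderOf x = 2) ∧
    (∀ z : G, z ∈ Subgroup.center G → z ^ 2 = 1) ∧
    (∀ x : G, x ^ 2 ∈ commutator G) ∧
    Subgroup.closure {x : G | ∃ k : ℕ, orderOf x = 2 ^ k} = ⊤ := by
  refine ⟨?_, ?_, ?_, ?_⟩
  · intro S x hx hx1
    have hS : (S : Subgroup G) ≤ Subgroup.centralizer {x} := by
      intro s hs
      rw [Subgroup.mem_centralizer_iff]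
      intro h hh
      rw [Set.mem_singleton_iff] at hh
      subst hh
      exact (Subgroup.mem_centralizer_iff.1 hx s hs).symm
    have hinv := inv_eq_self_of_sylow_le_centralizer S x hS (hamb x)
    have hsq : x ^ 2 = 1 := by
      rw [pow_two]; nth_rewrite 1 [← hinv]; exact inv_mul_cancel x
    exact orderOf_eq_prime hsq hx1
  · intro z hz
    obtain ⟨c, hc⟩ := isConj_iff.1 (hamb z)
    have hcz : c * z = z * c := (Subgroup.mem_center_iff.1 hz) c
    have : z⁻¹ = z := by rw [← hc, hcz, mul_inv_cancel_right]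
    rw [pow_two]; nth_rewrite 1 [← this]; exact inv_mul_cancel z
  · intro x
    obtain ⟨c, hc⟩ := isConj_iff.1 (hamb x)
    have hx : c * x⁻¹ * c⁻¹ = x := inverts_inv hc
    have hcomm : x ^ 2 = x * c * x⁻¹ * c⁻¹ := by
      rw [pow_two]
      nth_rewrite 2 [← hx]; simp only [mul_assoc]
    rw [hcomm, commutator_def]
    exact Subgroup.commutator_mem_commutator (Subgroup.mem_top x) (Subgroup.mem_top c)
  · rw [eq_top_iff]
    intro y _
    set T : Set G := {x : G | ∃ k : ℕ, orderOf x = 2 ^ k} with hT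
    set H := Subgroup.closure T with hH
    have hTH : ∀ g : G, (∃ k : ℕ, orderOf g = 2 ^ k) → g ∈ H := fun g hg => Subgroup.subset_closure hg
    -- decompose the order of y
    have hy0 : orderOf y ≠ 0 := (orderOf_pos y).ne'
    obtain ⟨a, m, hm, hym⟩ := Nat.exists_eq_two_pow_mul_odd hy0
    have hmpos : 0 < m := hm.pos
    apply mem_of_parts_mem H y a m hm
    · -- odd part
      set z := y ^ (2 ^ a) with hz
      have hzm : z ^ m = 1 := by
        rw [hz, ← pow_mul, ← hym, pow_orderOf_eq_one]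
      obtain ⟨c, hc⟩ := isConj_iff.1 (hamb z)
      have hc0 : orderOf c ≠ 0 := (orderOf_pos c).ne'
      obtain ⟨b, l, hl, hcl⟩ := Nat.exists_eq_two_pow_mul_odd hc0
      have hlpos : 0 < l := hl.pos
      set h := c ^ l with hh
      have hhz : h * z * h⁻¹ = z⁻¹ := odd_pow_inverts hc hl
      have hho : orderOf h = 2 ^ b := by
        rw [hh, orderOf_pow, hcl, Nat.gcd_mul_left_left, Nat.mul_div_cancel _ hlpos]
      have hhH : h ∈ H := hTH h ⟨b, hho⟩
      have hh' : z * h⁻¹ * z⁻¹ ∈ H := by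
        apply hTH; refine ⟨b, ?_⟩
        have hs : SemiconjBy z h⁻¹ (z * h⁻¹ * z⁻¹) := by
          unfold SemiconjBy; group
        rw [← hs.orderOf_eq, orderOf_inv, hho]
      have hz2 : (z ^ 2)⁻¹ ∈ H := by
        have : (z ^ 2)⁻¹ = h * (z * h⁻¹ * z⁻¹) := by
          rw [pow_two, mul_inv_rev]; nth_rewrite 1 [← hhz]; group
        rw [this]; exact H.mul_mem hhH hh'
      have hz2' : z ^ 2 ∈ H := by simpa using H.inv_mem hz2
      -- z = (z^2)^((m+1)/2)
      obtain ⟨j, rfl⟩ := hm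
      have : z = (z ^ 2) ^ (j + 1) := by
        rw [← pow_mul]
        have : 2 * (j + 1) = (2 * j + 1) + 1 := by ring
        rw [this, pow_succ, hzm, one_mul]
      rw [this]; exact H.pow_mem hz2' _
    · apply hTH
      refine ⟨a, ?_⟩
      rw [orderOf_pow, hym, Nat.gcd_mul_left_left, Nat.mul_div_cancel _ hmpos]

end Cfsg.Agent.S4059
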