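import Cfsg.Statements.S4060
import Cfsg.Agent.Lib.Helper67.RealOdd

set_option autoImplicit false
open Cfsg

namespace Cfsg.Agent.S4060

open Cfsg.Agent.Lib.Helper67

/-- Key step: if `x` is real of odd order, normalizes the Sylow `2`-subgroup `S`, and lies in the normal
subgroup `K`, then `x` lies in the commutator subgroup `⁅K, K⁆`. -/
theorem mem_commutator_of_mem {G : Type*} [Group G] [Finite G] (S : Sylow 2 G) (x : G)
    (hodd : Odd (orderOf x)) (hnorm : x ∈ Subgroup.normalizer ((S : Subgroup G) : Set G))
    (hreal : IsConj x x⁻¹) (K : Subgroup G) [hK : K.Normal] (hxK : x ∈ K) : x ∈ ⁅K, K⁆ := by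
  set D : Subgroup G := ⁅K, K⁆ with hD
  have : D.Normal := Subgroup.commutator_normal K K
  let π : G →* G ⧸ D := QuotientGroup.mk' D
  have hπ : Function.Surjective π := QuotientGroup.mk'_surjective D
  -- images of elements of K commute
  have hKcomm : ∀ u v : G, u ∈ K → v ∈ K → Commute (π u) (π v) := by
    intro u v hu hv
    have hmem : u * v * u⁻¹ * v⁻¹ ∈ D := Subgroup.commutator_mem_commutator hu hv
    have h1 : π (u * v * u⁻¹ * v⁻¹) = 1 := (QuotientGroup.eq_one_iff _).2 hmem
    simp only [map_mul, map_inv] at h1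
    unfold Commute SemiconjBy
    have h2 := mul_inv_eq_one.1 h1
    exact mul_inv_eq_iff_eq_mul.1 h2
  set n := Nat.card (S : Subgroup G) with hn
  -- n is a power of two, so coprime to the order of π x
  have hordπ : orderOf (π x) ∣ orderOf x := orderOf_map_dvd π x
  have hoddπ : Odd (orderOf (π x)) := by
    obtain ⟨k, hk⟩ := hordπ
    rw [hk] at hodd
    exact (Nat.odd_mul.1 hodd).1
  have hncop : Nat.Coprime n (orderOf (π x)) := by
    obtain ⟨a, ha⟩ := (S.2).exists_card_eq
    rw [hn, ha]
    exact Nat.Coprime.pow_left a (Nat.coprime_two_left.2 hoddπ)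
  -- π x commutes with π s for all s ∈ S
  have hcent : ∀ s : G, s ∈ (S : Subgroup G) → Commute (π x) (π s) := by
    intro s hs
    set w := s * x⁻¹ * s⁻¹ with hw
    have hwK : w ∈ K := hK.conj_mem _ (K.inv_mem hxK) s
    have hcS : x * w ∈ (S : Subgroup G) := by
      have h1 : x * s * x⁻¹ ∈ (S : Subgroup G) := (Subgroup.mem_normalizer_iff.1 hnorm s).1 hs
      have : x * w = (x * s * x⁻¹) * s⁻¹ := by rw [hw]; group
      rw [this]
      exact (S : Subgroup G).mul_mem h1 ((S : Subgroup G).inv_mem hs)
    have hcn : (x * w) ^ n = 1 := by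
      have := pow_card_eq_one' (G := (S : Subgroup G)) (x := ⟨x * w, hcS⟩)
      exact congrArg Subtype.val this
    have h1 : (π x) ^ n * (π w) ^ n = 1 := by
      rw [← (hKcomm x w hxK hwK).mul_pow, ← map_mul, ← map_pow, hcn, map_one]
    have hwn : (π w) ^ n = π s * ((π x) ^ n)⁻¹ * (π s)⁻¹ := by
      rw [hw]
      simp only [map_mul, map_inv]
      rw [conj_pow, inv_pow]
    rw [hwn] at h1
    have h2 : Commute ((π x) ^ n) (π s) := by
      unfold Commute SemiconjBy
      have h3 : (π x) ^ n * π s * ((π x) ^ n)⁻¹ * (π s)⁻¹ = 1 := by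
        rw [← h1]; simp only [mul_assoc]
      exact mul_inv_eq_iff_eq_mul.1 (mul_inv_eq_one.1 h3)
    obtain ⟨m, hm⟩ := exists_pow_eq_self_of_coprime hncop
    rw [← hm]
    exact h2.pow_left m
  -- hence the centralizer of π x has odd index
  have hle : (S : Subgroup G) ≤ (Subgroup.centralizer {π x}).comap π := by
    intro s hs
    rw [Subgroup.mem_comap, Subgroup.mem_centralizer_iff]
    intro h hh
    rw [Set.mem_singleton_iff] at hh
    subst hh
    exact (hcent s hs).eq
  have hidx : ¬ 2 ∣ (Subgroup.centralizer {π x}).index := by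
    rw [← Subgroup.index_comap_of_surjective _ hπ]
    intro h2
    exact S.not_dvd_index (h2.trans (Subgroup.index_dvd_of_le hle))
  -- π x is real
  have hrealπ : IsConj (π x) (π x)⁻¹ := by
    obtain ⟨c, hc⟩ := isConj_iff.1 hreal
    exact isConj_iff.2 ⟨π c, by rw [← map_inv, ← map_inv, ← map_mul, ← map_mul, hc]⟩
  have hinv := inv_eq_self_of_odd_index_centralizer (π x) hidx hrealπ
  have hsq : (π x) ^ 2 = 1 := by
    rw [pow_two]; nth_rewrite 1 [← hinv]; exact inv_mul_cancel _
  have hone : π x = 1 := by
    have h2 : orderOf (π x) ∣ 2 := orderOf_dvd_of_pow_eq_one hsq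
    have h1 : orderOf (π x) = 1 := by
      rcases (Nat.dvd_prime Nat.prime_two).1 h2 with h | h
      · exact h
      · rw [h] at hoddπ; exact absurd hoddπ (by decide)
    exact orderOf_eq_one_iff.1 h1
  exact (QuotientGroup.eq_one_iff x).1 hone

/-- Let G be a finite solvable group with Sylow 2-subgroup S, and let x ≠ 1 be an element of odd order normalizing S. Then x is not conjugate to its inverse in G. -/
theorem result {G : Type*} [Group G] [Finite G] [Group.IsSolvable G]
    (S : Sylow 2 G) (x : G) (hx : x ≠ 1) (hodd : Odd (orderOf x))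
    (hnorm : x ∈ Subgroup.normalizer ((S : Subgroup G) : Set G)) : ¬ IsConj x x⁻¹ := by
  intro hreal
  have hall : ∀ i : ℕ, x ∈ derivedSeries G i := by
    intro i
    induction i with
    | zero => rw [derivedSeries_zero]; exact Subgroup.mem_top x
    | succ i ih =>
      rw [derivedSeries_succ]
      have := derivedSeries_normal G i
      exact mem_commutator_of_mem S x hodd hnorm hreal (derivedSeries G i) ih
  obtain ⟨n, hn⟩ := (Group.isSolvable_def G).1 inferInstance
  have := hall n
  rw [hn, Subgroup.mem_bot] at this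
  exact hx this

end Cfsg.Agent.S4060
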