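import Cfsg.Statements.S4065
import Mathlib

set_option autoImplicit false
open Cfsg

namespace Cfsg.Agent.S4065

/-- In a group where commuting with a fixed non-identity element is transitive (a CA-group), every
element centralizer is a TI-subset. -/
theorem ti_of_CA {G : Type*} [Group G]
    (hCA : ∀ y a b : G, y ≠ 1 → Commute a y → Commute b y → Commute a b) (x : G) :
    Cfsg.IsTISubset (Subgroup.centralizer ({x} : Set G) : Set G) := by
  intro g hg y hy hgy
  by_contra hy1
  apply hg
  rw [SetLike.mem_coe, Subgroup.mem_centralizer_singleton_iff] at hy hgy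
  have hxy : Commute x y := hy.symm
  by_cases hx1 : x = 1
  · subst hx1
    rw [Subgroup.mem_normalizer_iff]
    intro h
    simp [Subgroup.mem_centralizer_singleton_iff]
  have hy'1 : g * y * g⁻¹ ≠ 1 := by
    intro h
    apply hy1
    have : y = g⁻¹ * (g * y * g⁻¹) * g := by group
    rw [this, h]; group
  have hxy' : Commute x (g * y * g⁻¹) := hgy.symm
  -- C(y) = C(x) and C(g y g⁻¹) = C(x)
  have key1 : ∀ h : G, Commute h x ↔ Commute h y := by
    intro h
    constructor
    · intro hh
      exact hCA x h y hx1 hh hxy.symm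
    · intro hh
      exact hCA y h x hy1 hh hxy
  have key2 : ∀ h : G, Commute h x ↔ Commute h (g * y * g⁻¹) := by
    intro h
    constructor
    · intro hh
      exact hCA x h _ hx1 hh hxy'.symm
    · intro hh
      exact hCA _ h x hy'1 hh hxy'
  rw [Subgroup.mem_normalizer_iff]
  intro h
  rw [Subgroup.mem_centralizer_singleton_iff, Subgroup.mem_centralizer_singleton_iff]
  show Commute h x ↔ Commute (g * h * g⁻¹) x
  rw [key1 h, key2 (g * h * g⁻¹)]
  constructor
  · intro hh
    show g * h * g⁻¹ * (g * y * g⁻¹) = g * y * g⁻¹ * (g * h * g⁻¹)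
    have e1 : g * h * g⁻¹ * (g * y * g⁻¹) = g * (h * y) * g⁻¹ := by group
    have e2 : g * y * g⁻¹ * (g * h * g⁻¹) = g * (y * h) * g⁻¹ := by group
    rw [e1, e2, hh.eq]
  · intro hh
    show h * y = y * h
    have e1 : h * y = g⁻¹ * (g * h * g⁻¹ * (g * y * g⁻¹)) * g := by group
    have e2 : y * h = g⁻¹ * (g * y * g⁻¹ * (g * h * g⁻¹)) * g := by group
    rw [e1, e2, hh.eq]

theorem scalar_comm {F : Type*} [Field F] (y1 y2 y3 y4 a1 a2 a3 a4 b1 b2 b3 b4 : F)
    (hY : ¬ (y2 = 0 ∧ y3 = 0 ∧ y1 = y4))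
    (hA00 : a1 * y1 + a2 * y3 = y1 * a1 + y2 * a3)
    (hA01 : a1 * y2 + a2 * y4 = y1 * a2 + y2 * a4)
    (hA10 : a3 * y1 + a4 * y3 = y3 * a1 + y4 * a3)
    (hB00 : b1 * y1 + b2 * y3 = y1 * b1 + y2 * b3)
    (hB01 : b1 * y2 + b2 * y4 = y1 * b2 + y2 * b4)
    (hB10 : b3 * y1 + b4 * y3 = y3 * b1 + y4 * b3) :
    a1 * b1 + a2 * b3 = b1 * a1 + b2 * a3 ∧ a1 * b2 + a2 * b4 = b1 * a2 + b2 * a4 ∧
    a3 * b1 + a4 * b3 = b3 * a1 + b4 * a3 ∧ a3 * b2 + a4 * b4 = b3 * a2 + b4 * a4 := by
  by_cases h1 : y2 = 0
  · by_cases h2 : y3 = 0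
    · have h3 : y1 - y4 ≠ 0 := by
        intro h
        exact hY ⟨h1, h2, sub_eq_zero.mp h⟩
      have a2z : a2 = 0 := by
        have : a2 * (y1 - y4) = 0 := by
          rw [h1] at hA01; linear_combination -hA01
        exact (mul_eq_zero.mp this).resolve_right h3
      have a3z : a3 = 0 := by
        have : a3 * (y1 - y4) = 0 := by
          rw [h2] at hA10; linear_combination hA10
        exact (mul_eq_zero.mp this).resolve_right h3
      have b2z : b2 = 0 := by
        have : b2 * (y1 - y4) = 0 := by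
          rw [h1] at hB01; linear_combination -hB01
        exact (mul_eq_zero.mp this).resolve_right h3
      have b3z : b3 = 0 := by
        have : b3 * (y1 - y4) = 0 := by
          rw [h2] at hB10; linear_combination hB10
        exact (mul_eq_zero.mp this).resolve_right h3
      subst a2z a3z b2z b3z
      refine ⟨by ring, by ring, by ring, by ring⟩
    · have e2 : a2 = a3 * y2 / y3 := by
        field_simp; linear_combination hA00
      have e1 : a1 = a4 + a3 * (y1 - y4) / y3 := by
        field_simp; linear_combination -hA10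
      have f2 : b2 = b3 * y2 / y3 := by
        field_simp; linear_combination hB00
      have f1 : b1 = b4 + b3 * (y1 - y4) / y3 := by
        field_simp; linear_combination -hB10
      subst e2 e1 f2 f1
      refine ⟨by field_simp; try ring, by field_simp; try ring, by field_simp; try ring, by field_simp; try ring⟩
  · have e3 : a3 = a2 * y3 / y2 := by
      field_simp; linear_combination -hA00
    have e4 : a4 = a1 + a2 * (y4 - y1) / y2 := by
      field_simp; linear_combination -hA01
    have f3 : b3 = b2 * y3 / y2 := by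
      field_simp; linear_combination -hB00
    have f4 : b4 = b1 + b2 * (y4 - y1) / y2 := by
      field_simp; linear_combination -hB01
    subst e3 e4 f3 f4
    refine ⟨by field_simp; try ring, by field_simp; try ring, by field_simp; try ring, by field_simp; try ring⟩

/-- Two matrices commuting with a non-scalar `2 × 2` matrix over a field commute. -/
theorem comm_of_comm_nonscalar {F : Type*} [Field F] (Y A B : Matrix (Fin 2) (Fin 2) F)
    (hY : ¬ (Y 0 1 = 0 ∧ Y 1 0 = 0 ∧ Y 0 0 = Y 1 1)) (hA : A * Y = Y * A) (hB : B * Y = Y * B) :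
    A * B = B * A := by
  have hA00 := congrFun (congrFun hA 0) 0
  have hA01 := congrFun (congrFun hA 0) 1
  have hA10 := congrFun (congrFun hA 1) 0
  have hB00 := congrFun (congrFun hB 0) 0
  have hB01 := congrFun (congrFun hB 0) 1
  have hB10 := congrFun (congrFun hB 1) 0
  simp only [Matrix.mul_apply, Fin.sum_univ_two] at hA00 hA01 hA10 hB00 hB01 hB10
  obtain ⟨g00, g01, g10, g11⟩ := scalar_comm (Y 0 0) (Y 0 1) (Y 1 0) (Y 1 1) (A 0 0) (A 0 1) (A 1 0)
    (A 1 1) (B 0 0) (B 0 1) (B 1 0) (B 1 1) hY hA00 hA01 hA10 hB00 hB01 hB10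
  ext i j
  fin_cases i <;> fin_cases j
  · simpa [Matrix.mul_apply, Fin.sum_univ_two] using g00
  · simpa [Matrix.mul_apply, Fin.sum_univ_two] using g01
  · simpa [Matrix.mul_apply, Fin.sum_univ_two] using g10
  · simpa [Matrix.mul_apply, Fin.sum_univ_two] using g11


theorem eq_one_of_sq_eq_one {F : Type*} [Field F] [CharP F 2] (r : F) (hr : r ^ 2 = 1) : r = 1 := by
  have h2 : (2 : F) = 0 := CharTwo.two_eq_zero
  have : (r - 1) ^ 2 = 0 := by linear_combination hr + (1 - r) * h2
  have := pow_eq_zero_iff (two_ne_zero) |>.mp this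
  exact sub_eq_zero.mp this

theorem mk_injective {F : Type*} [Field F] [CharP F 2]
    (a b : Matrix.SpecialLinearGroup (Fin 2) F)
    (h : (QuotientGroup.mk a : Matrix.ProjectiveSpecialLinearGroup (Fin 2) F) = QuotientGroup.mk b) :
    a = b := by
  have h1 : a⁻¹ * b ∈ Subgroup.center (Matrix.SpecialLinearGroup (Fin 2) F) := QuotientGroup.eq.mp h
  rw [Matrix.SpecialLinearGroup.mem_center_iff] at h1
  obtain ⟨r, hr, hrs⟩ := h1
  rw [Fintype.card_fin] at hr
  have hr1 := eq_one_of_sq_eq_one r hr
  rw [hr1, map_one] at hrs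
  have h2 : a⁻¹ * b = 1 := by
    apply Subtype.ext
    rw [← hrs]; rfl
  calc a = a * (a⁻¹ * b) := by rw [h2, mul_one]
    _ = b := by group

theorem nonscalar_of_ne_one {F : Type*} [Field F] [CharP F 2]
    (y : Matrix.SpecialLinearGroup (Fin 2) F) (hy : y ≠ 1) :
    ¬ ((y : Matrix (Fin 2) (Fin 2) F) 0 1 = 0 ∧ (y : Matrix (Fin 2) (Fin 2) F) 1 0 = 0 ∧
      (y : Matrix (Fin 2) (Fin 2) F) 0 0 = (y : Matrix (Fin 2) (Fin 2) F) 1 1) := by
  rintro ⟨h1, h2, h3⟩
  apply hy
  have hdet : (y : Matrix (Fin 2) (Fin 2) F).det = 1 := y.2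
  rw [Matrix.det_fin_two, h1, h2, ← h3] at hdet
  have hr : ((y : Matrix (Fin 2) (Fin 2) F) 0 0) ^ 2 = 1 := by linear_combination hdet
  have hr1 := eq_one_of_sq_eq_one _ hr
  apply Subtype.ext
  ext i j
  fin_cases i <;> fin_cases j
  · simpa using hr1
  · simpa using h1
  · simpa using h2
  · simpa using (h3 ▸ hr1 : (y : Matrix (Fin 2) (Fin 2) F) 1 1 = 1)

theorem psl_CA {F : Type*} [Field F] [CharP F 2]
    (y a b : Matrix.ProjectiveSpecialLinearGroup (Fin 2) F) (hy : y ≠ 1)
    (hay : Commute a y) (hby : Commute b y) : Commute a b := by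
  induction y using QuotientGroup.induction_on with
  | H y =>
  induction a using QuotientGroup.induction_on with
  | H a =>
  induction b using QuotientGroup.induction_on with
  | H b =>
  have hy' : y ≠ 1 := by
    rintro rfl
    exact hy rfl
  have hay' : a * y = y * a := mk_injective _ _ hay
  have hby' : b * y = y * b := mk_injective _ _ hby
  have hA : (a : Matrix (Fin 2) (Fin 2) F) * (y : Matrix (Fin 2) (Fin 2) F)
      = (y : Matrix (Fin 2) (Fin 2) F) * (a : Matrix (Fin 2) (Fin 2) F) := by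
    rw [← Matrix.SpecialLinearGroup.coe_mul, ← Matrix.SpecialLinearGroup.coe_mul, hay']
  have hB : (b : Matrix (Fin 2) (Fin 2) F) * (y : Matrix (Fin 2) (Fin 2) F)
      = (y : Matrix (Fin 2) (Fin 2) F) * (b : Matrix (Fin 2) (Fin 2) F) := by
    rw [← Matrix.SpecialLinearGroup.coe_mul, ← Matrix.SpecialLinearGroup.coe_mul, hby']
  have hAB := comm_of_comm_nonscalar _ _ _ (nonscalar_of_ne_one y hy') hA hB
  have : a * b = b * a := by
    apply Subtype.ext
    rw [Matrix.SpecialLinearGroup.coe_mul, Matrix.SpecialLinearGroup.coe_mul, hAB]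
  show (QuotientGroup.mk a : Matrix.ProjectiveSpecialLinearGroup (Fin 2) F) * QuotientGroup.mk b
    = QuotientGroup.mk b * QuotientGroup.mk a
  rw [← QuotientGroup.mk_mul, ← QuotientGroup.mk_mul, this]

/-- Let F be a finite field with 2ⁿ elements, n ≥ 2. In PSL₂(F) the centralizer of every element meets each of its conjugates by elements outside its normalizer trivially. -/
theorem result (n : ℕ) (hn : 2 ≤ n)
    (x : Matrix.ProjectiveSpecialLinearGroup (Fin 2) (GaloisField 2 n)) :
    Cfsg.IsTISubset (Subgroup.centralizer ({x} : Set (Matrix.ProjectiveSpecialLinearGroup (Fin 2) (GaloisField 2 n))) :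
      Set (Matrix.ProjectiveSpecialLinearGroup (Fin 2) (GaloisField 2 n))) := by
  exact ti_of_CA (fun y a b hy hay hby => psl_CA y a b hy hay hby) x

end Cfsg.Agent.S4065
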