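import Cfsg.Statements.S4066
-- import your own Cfsg.Agent.* helpers here

set_option autoImplicit false
open Cfsg

namespace Cfsg.Agent.S4066


variable {G : Type*} [Group G]

theorem mem_smul_sylow' {p : ℕ} (g x : G) (P : Sylow p G) :
    x ∈ ((g • P : Sylow p G) : Subgroup G) ↔ g⁻¹ * x * g ∈ (P : Subgroup G) := by
  rw [Sylow.coe_subgroup_smul, Subgroup.mem_pointwise_smul_iff_inv_smul_mem]
  simp [MulAut.smul_def]

/-- The `p`-part of the centre of the centralizer of `a`. -/
def zcp (p : ℕ) (a : G) : Subgroup G where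
  carrier := {x | x ∈ Subgroup.centralizer ({a} : Set G) ∧
    x ∈ Subgroup.centralizer (Subgroup.centralizer ({a} : Set G) : Set G) ∧ ∃ k : ℕ, x ^ p ^ k = 1}
  one_mem' := ⟨one_mem _, one_mem _, 0, by simp⟩
  mul_mem' := by
    rintro x y ⟨hx1, hx2, kx, hkx⟩ ⟨hy1, hy2, ky, hky⟩
    refine ⟨mul_mem hx1 hy1, mul_mem hx2 hy2, kx + ky, ?_⟩
    have hc : Commute x y := ((Subgroup.mem_centralizer_iff.mp hx2) y hy1).symm
    rw [hc.mul_pow, pow_add, pow_mul, hkx, one_pow, mul_comm (p ^ kx), pow_mul, hky, one_pow,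
      mul_one]
  inv_mem' := by
    rintro x ⟨hx1, hx2, kx, hkx⟩
    exact ⟨inv_mem hx1, inv_mem hx2, kx, by rw [inv_pow, hkx, inv_one]⟩

theorem mem_zcp {p : ℕ} {a x : G} : x ∈ zcp p a ↔ x ∈ Subgroup.centralizer ({a} : Set G) ∧
    x ∈ Subgroup.centralizer (Subgroup.centralizer ({a} : Set G) : Set G) ∧ ∃ k : ℕ, x ^ p ^ k = 1 :=
  Iff.rfl

theorem isPGroup_zcp (p : ℕ) (a : G) : IsPGroup p (zcp p a) := by
  rintro ⟨x, hx1, hx2, k, hk⟩
  exact ⟨k, Subtype.ext (by simpa using hk)⟩

theorem conj_mem_zcp {p : ℕ} {a t x : G}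
    (ht : t ∈ Subgroup.normalizer (Subgroup.centralizer ({a} : Set G) : Set G))
    (hx : x ∈ zcp p a) : t * x * t⁻¹ ∈ zcp p a := by
  obtain ⟨hx1, hx2, k, hk⟩ := hx
  refine ⟨(Subgroup.mem_normalizer_iff.mp ht x).mp hx1, ?_, k, ?_⟩
  · rw [Subgroup.mem_centralizer_iff]
    intro y hy
    have hy' : t⁻¹ * y * t ∈ Subgroup.centralizer ({a} : Set G) := by
      have := (Subgroup.mem_normalizer_iff.mp ht (t⁻¹ * y * t)).mpr
      apply this
      simpa [mul_assoc] using hy
    have hc := (Subgroup.mem_centralizer_iff.mp hx2) _ hy'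
    calc y * (t * x * t⁻¹) = t * ((t⁻¹ * y * t) * x) * t⁻¹ := by group
      _ = t * (x * (t⁻¹ * y * t)) * t⁻¹ := by rw [hc]
      _ = t * x * t⁻¹ * y := by group
  · rw [conj_pow, hk]; group

/-- Let G be a finite group in which the centralizer of every element meets each of its conjugates by elements outside its normalizer trivially. Then any two distinct Sylow p-subgroups of G, for any prime p, intersect trivially. -/
theorem result {G : Type*} [Group G] [Finite G] (hTI : ∀ x : G, Cfsg.IsTISubset (Subgroup.centralizer ({x} : Set G) : Set G))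
    {p : ℕ} [Fact p.Prime] (P Q : Sylow p G) (hPQ : P ≠ Q) : (P : Subgroup G) ⊓ (Q : Subgroup G) = ⊥ := by
  by_contra hne
  obtain ⟨⟨d, hd⟩, hd1⟩ := (Subgroup.ne_bot_iff_exists_ne_one).mp hne
  have hd1' : d ≠ 1 := fun h => hd1 (Subtype.ext h)
  have hdP : d ∈ (P : Subgroup G) := hd.1
  have hdQ : d ∈ (Q : Subgroup G) := hd.2
  -- P is a nontrivial p-group: nontrivial centre
  have hnt : Nontrivial (P : Subgroup G) := ⟨⟨⟨d, hdP⟩, 1, fun h => hd1' (congrArg Subtype.val h)⟩⟩
  have hcnt : Nontrivial (Subgroup.center (P : Subgroup G)) := IsPGroup.center_nontrivial P.2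
  obtain ⟨⟨z, hzc⟩, hz1⟩ := exists_ne (1 : Subgroup.center (P : Subgroup G))
  have hz1' : (z : G) ≠ 1 := fun h => hz1 (Subtype.ext (Subtype.ext h))
  have hzP : ∀ u ∈ (P : Subgroup G), u * (z : G) = (z : G) * u := by
    intro u hu
    have := (Subgroup.mem_center_iff.mp hzc) ⟨u, hu⟩
    exact congrArg Subtype.val this
  -- conjugating element
  obtain ⟨g, hg⟩ := MulAction.exists_smul_eq G P Q
  have hQmem : ∀ x, x ∈ (Q : Subgroup G) ↔ g⁻¹ * x * g ∈ (P : Subgroup G) := by
    intro x; rw [← hg]; exact mem_smul_sylow' g x P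
  -- g normalizes C(z)
  have hgN : g ∈ Subgroup.normalizer (Subgroup.centralizer ({(z : G)} : Set G) : Set G) := by
    by_contra hgn
    have hx : g⁻¹ * d * g ∈ Subgroup.centralizer ({(z : G)} : Set G) := by
      rw [Subgroup.mem_centralizer_iff]
      intro h hh
      rw [Set.mem_singleton_iff] at hh
      subst hh
      exact (hzP _ ((hQmem d).mp hdQ)).symm
    have hx' : g * (g⁻¹ * d * g) * g⁻¹ ∈ (Subgroup.centralizer ({(z : G)} : Set G) : Set G) := by
      have : g * (g⁻¹ * d * g) * g⁻¹ = d := by group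
      rw [this]
      show d ∈ Subgroup.centralizer ({(z : G)} : Set G)
      rw [Subgroup.mem_centralizer_iff]
      intro h hh
      rw [Set.mem_singleton_iff] at hh
      subst hh
      exact (hzP _ hdP).symm
    have := hTI z g hgn _ hx hx'
    apply hd1'
    have h2 : d = g * (g⁻¹ * d * g) * g⁻¹ := by group
    rw [h2, this]; group
  -- z commutes with Q
  have hzQ : ∀ u ∈ (Q : Subgroup G), u * (z : G) = (z : G) * u := by
    intro u hu
    have h1 : g⁻¹ * u * g ∈ Subgroup.centralizer ({(z : G)} : Set G) := by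
      rw [Subgroup.mem_centralizer_iff]
      intro h hh
      rw [Set.mem_singleton_iff] at hh
      subst hh
      exact (hzP _ ((hQmem u).mp hu)).symm
    have h2 := (Subgroup.mem_normalizer_iff.mp hgN _).mp h1
    have h3 : g * (g⁻¹ * u * g) * g⁻¹ = u := by group
    rw [h3, Subgroup.mem_centralizer_iff] at h2
    exact (h2 z rfl).symm
  -- every element commuting with z normalizes C(a) for a ∈ P
  have hnorm : ∀ a ∈ (P : Subgroup G), ∀ t : G, t * (z : G) = (z : G) * t →
      t ∈ Subgroup.normalizer (Subgroup.centralizer ({a} : Set G) : Set G) := by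
    intro a ha t htz
    by_contra htn
    have hza : (z : G) ∈ Subgroup.centralizer ({a} : Set G) := by
      rw [Subgroup.mem_centralizer_iff]
      intro h hh
      rw [Set.mem_singleton_iff] at hh
      subst hh
      exact hzP _ ha
    have hza' : t * (z : G) * t⁻¹ ∈ (Subgroup.centralizer ({a} : Set G) : Set G) := by
      have : t * (z : G) * t⁻¹ = z := by rw [htz]; group
      rw [this]; exact hza
    exact hz1' (hTI a t htn _ hza hza')
  -- P ≤ Q
  have hle : (P : Subgroup G) ≤ (Q : Subgroup G) := by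
    intro a ha
    have hQN : (Q : Subgroup G) ≤ Subgroup.normalizer ((zcp p a : Subgroup G) : Set G) := by
      intro t ht
      have htN := hnorm a ha t (hzQ t ht)
      have htN' := hnorm a ha t⁻¹ (by
        have := hzQ t ht
        calc t⁻¹ * (z : G) = t⁻¹ * ((z : G) * t) * t⁻¹ := by group
          _ = t⁻¹ * (t * (z : G)) * t⁻¹ := by rw [this]
          _ = (z : G) * t⁻¹ := by group)
      rw [Subgroup.mem_normalizer_iff]
      intro x
      constructor
      · intro hx; exact conj_mem_zcp htN hx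
      · intro hx
        have := conj_mem_zcp (p := p) htN' hx
        have h3 : t⁻¹ * (t * x * t⁻¹) * t⁻¹⁻¹ = x := by group
        rwa [h3] at this
    have hsup := IsPGroup.to_sup_of_normal_right' Q.2 (isPGroup_zcp p a) hQN
    have heq := Q.is_maximal' hsup le_sup_left
    have haN : a ∈ zcp p a := by
      refine ⟨?_, ?_, ?_⟩
      · rw [Subgroup.mem_centralizer_iff]
        intro h hh
        rw [Set.mem_singleton_iff] at hh
        subst hh; rfl
      · rw [Subgroup.mem_centralizer_iff]
        intro y hy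
        exact ((Subgroup.mem_centralizer_iff.mp hy) a rfl).symm
      · obtain ⟨k, hk⟩ := P.2 ⟨a, ha⟩
        exact ⟨k, by simpa using congrArg Subtype.val hk⟩
    rw [← heq]
    exact (le_sup_right : zcp p a ≤ _) haN
  exact hPQ (Sylow.ext (P.is_maximal' Q.2 hle).symm)

end Cfsg.Agent.S4066
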