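import Cfsg.Statements.S4067
import Mathlib
import Cfsg.Agent.Lib.Helper68.OrbitCount
import Cfsg.Agent.Lib.Helper68.ClassNumberBound
import Cfsg.Agent.Lib.Helper68.LMCount
-- import your own Cfsg.Agent.* helpers here

set_option autoImplicit false
open Cfsg

namespace Cfsg.Agent.S4067

open Cfsg.Agent.Lib.Helper68 Cfsg.Agent.Lib.Helper68.LM
open scoped commutatorElement

/-- Case (2a). -/
theorem case2a {G : Type*} [Group G] [Finite G] (h : C2 G) {ω : G}
    (hω : ω ∈ Subgroup.center G) (hωp : ω ^ (Nat.card G).minFac = 1)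
    (hωn : ω ∉ commutator G) :
    Nat.card (MulAction.orbitRel.Quotient (MulAut G) G) * (Nat.card G).minFac ≤ Nat.card G := by
  classical
  let _ := Fintype.ofFinite G
  set p := (Nat.card G).minFac with hp
  have hp2 : 2 ≤ p := h.hpr.two_le
  have hp1 : 1 ≤ p ^ 2 := Nat.one_le_pow _ _ (by omega)
  let w : G → ℕ := fun y => 1 + (if y ∈ Subgroup.center G then p ^ 2 - 1 else 0)
  have hw : ∀ y, p ^ 2 ≤ Nat.card (MulAction.orbit (MulAut G) y) * w y := by
    intro y
    by_cases hy : y ∈ Subgroup.center G
    · have hpos : 0 < Nat.card (MulAction.orbit (MulAut G) y) :=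
        Nat.card_pos_iff.mpr ⟨⟨y, MulAction.mem_orbit_self y⟩, Set.toFinite _⟩
      have hwy : w y = p ^ 2 := by
        change 1 + (if y ∈ Subgroup.center G then p ^ 2 - 1 else 0) = p ^ 2
        rw [if_pos hy]; omega
      rw [hwy]
      exact Nat.le_mul_of_pos_left _ hpos
    · have hwy : w y = 1 := by
        change 1 + (if y ∈ Subgroup.center G then p ^ 2 - 1 else 0) = 1
        rw [if_neg hy]
      rw [hwy, mul_one]
      exact h.orbit_ge_of_omega hω hωp hωn hy
  have h1 := card_orbits_mul_le_sum (A := MulAut G) w (p ^ 2) hw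
  have hsum : ∑ y, w y = Nat.card G + (p ^ 2 - 1) * Nat.card (Subgroup.center G) := by
    change ∑ y : G, (1 + (if y ∈ Subgroup.center G then p ^ 2 - 1 else 0)) = _
    rw [Finset.sum_add_distrib, sum_indicator_subgroup, Finset.sum_const, Finset.card_univ,
      smul_eq_mul, mul_one]
    simp only [Nat.card_eq_fintype_card]
  rw [hsum] at h1
  exact arith2a p _ _ _ hp2 h1 h.card_center_mul_sq_le

/-- Case (2b). -/
theorem case2b {G : Type*} [Group G] [Finite G] (h : C2 G)
    (hΩ : ∀ z ∈ Subgroup.center G, z ^ (Nat.card G).minFac = 1 → z ∈ commutator G) :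
    Nat.card (MulAction.orbitRel.Quotient (MulAut G) G) * (Nat.card G).minFac ≤ Nat.card G := by
  classical
  let _ := Fintype.ofFinite G
  obtain ⟨x, c, hx, hc, hc1, hxp⟩ := h.exists_good hΩ
  set p := (Nat.card G).minFac with hp
  have hp2 : 2 ≤ p := h.hpr.two_le
  have hpp : p ≤ p ^ 2 := by nlinarith
  let w : G → ℕ := fun y => 1 + (if y ∈ (cmR h.hcen x).ker then p - 1 else 0)
    + (if y ∈ Subgroup.center G then p ^ 2 - p else 0)
  have hw : ∀ y, p ^ 2 ≤ Nat.card (MulAction.orbit (MulAut G) y) * w y := by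
    intro y
    by_cases hy : y ∈ Subgroup.center G
    · have hpos : 0 < Nat.card (MulAction.orbit (MulAut G) y) :=
        Nat.card_pos_iff.mpr ⟨⟨y, MulAction.mem_orbit_self y⟩, Set.toFinite _⟩
      have hyk : y ∈ (cmR h.hcen x).ker := by
        rw [MonoidHom.mem_ker, cmR_apply, commutatorElement_eq_one_iff_commute]
        exact (Subgroup.mem_center_iff.mp hy x).symm
      have hwy : w y = p ^ 2 := by
        change 1 + (if y ∈ (cmR h.hcen x).ker then p - 1 else 0)
          + (if y ∈ Subgroup.center G then p ^ 2 - p else 0) = p ^ 2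
        rw [if_pos hy, if_pos hyk]; omega
      rw [hwy]
      exact Nat.le_mul_of_pos_left _ hpos
    · by_cases hyk : y ∈ (cmR h.hcen x).ker
      · have hwy : w y = p := by
          change 1 + (if y ∈ (cmR h.hcen x).ker then p - 1 else 0)
            + (if y ∈ Subgroup.center G then p ^ 2 - p else 0) = p
          rw [if_neg hy, if_pos hyk]; omega
        rw [hwy, sq]
        exact Nat.mul_le_mul_right _ (h.orbit_ge_p hy)
      · have hwy : w y = 1 := by
          change 1 + (if y ∈ (cmR h.hcen x).ker then p - 1 else 0)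
            + (if y ∈ Subgroup.center G then p ^ 2 - p else 0) = 1
          rw [if_neg hy, if_neg hyk]
        rw [hwy, mul_one]
        have hyx : ⁅y, x⁆ ≠ 1 := fun h' => hyk h'
        exact h.orbit_ge_of_good hc hc1 hxp hyx
  have h1 := card_orbits_mul_le_sum (A := MulAut G) w (p ^ 2) hw
  have hsum : ∑ y, w y = Nat.card G + (p - 1) * Nat.card (cmR h.hcen x).ker
      + (p ^ 2 - p) * Nat.card (Subgroup.center G) := by
    change ∑ y : G, (1 + (if y ∈ (cmR h.hcen x).ker then p - 1 else 0)
          + (if y ∈ Subgroup.center G then p ^ 2 - p else 0)) = _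
    rw [Finset.sum_add_distrib, Finset.sum_add_distrib, sum_indicator_subgroup,
      sum_indicator_subgroup, Finset.sum_const, Finset.card_univ,
      smul_eq_mul, mul_one]
    simp only [Nat.card_eq_fintype_card]
  rw [hsum] at h1
  exact arith2b p _ _ _ _ hp2 h1 (h.card_ker_cmR hx) h.card_center_mul_sq_le

/-- Let G be a finite non-abelian group and p the least prime dividing its order. Then the automorphism group of G has at most #G/p orbits on G. -/
theorem result {G : Type*} [Group G] [Finite G] (hna : ¬ IsMulCommutative G) :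
    Nat.card (MulAction.orbitRel.Quotient (MulAut G) G) ≤ Nat.card G / (Nat.card G).minFac := by
  classical
  have hna' : ∃ a b : G, a * b ≠ b * a := by
    by_contra hall
    push Not at hall
    exact hna ⟨⟨hall⟩⟩
  have hn1 : Nat.card G ≠ 1 := by
    intro h1
    obtain ⟨a, b, hab⟩ := hna'
    have : Subsingleton G := (Nat.card_eq_one_iff_unique.mp h1).1
    exact hab (Subsingleton.elim _ _)
  have hpr : (Nat.card G).minFac.Prime := Nat.minFac_prime hn1
  have hG'1 : Nat.card (commutator G) ≠ 1 := by
    intro h1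
    rw [Subgroup.card_eq_one] at h1
    obtain ⟨a, b, hab⟩ := hna'
    apply hab
    have : ⁅a, b⁆ ∈ commutator G := comm_mem_commutator a b
    rw [h1, Subgroup.mem_bot, commutatorElement_eq_one_iff_commute] at this
    exact this.eq
  have hG'0 : 0 < Nat.card (commutator G) := Nat.card_pos
  have hG'p : (Nat.card G).minFac ≤ Nat.card (commutator G) :=
    Nat.minFac_le_of_dvd (by omega) (Subgroup.card_subgroup_dvd_card _)
  rcases hG'p.lt_or_eq with hlt | heq
  · exact card_autOrbits_le_card_conjClasses.trans (card_conjClasses_le_div_minFac hlt)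
  · have h : C2 G := ⟨hpr, heq.symm⟩
    rw [Nat.le_div_iff_mul_le hpr.pos]
    by_cases hΩ : ∀ z ∈ Subgroup.center G, z ^ (Nat.card G).minFac = 1 → z ∈ commutator G
    · exact case2b h hΩ
    · push Not at hΩ
      obtain ⟨ω, hω, hωp, hωn⟩ := hΩ
      exact case2a h hω hωp hωn

end Cfsg.Agent.S4067
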