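import Cfsg.Statements.S4071
import Cfsg.Agent.Lib.Helper47.PClosed
import Cfsg.Agent.S0055
import Mathlib

set_option autoImplicit false
open Cfsg

namespace Cfsg.Agent.S4071

open scoped Pointwise



/-- (⇐) direction -/
theorem backward {G : Type*} [Group G] [Finite G] (x : G) (A : Subgroup G) (p : ℕ) (hp : p.Prime)
    (hAn : A.Normal) (hAc : IsMulCommutative A) (hxo : ∃ k : ℕ, orderOf x = p ^ k)
    (hcompl : (Subgroup.zpowers x).IsComplement' A) (hxp : x ^ p ∈ Subgroup.center G)
    (hfpf : ∀ a : G, a ∈ A → a ≠ 1 → x * a * x⁻¹ ≠ a)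
    (H : Subgroup G) (hH : ¬ IsMulCommutative H) : Subgroup.normalizer (H : Set G) = H := by
  have hAcomm : ∀ a ∈ A, ∀ b ∈ A, a * b = b * a := fun a ha b hb => by
    have := hAc.is_comm.comm ⟨a, ha⟩ ⟨b, hb⟩
    exact congrArg Subtype.val this
  -- decomposition g = x^i * a
  have hdec : ∀ g : G, ∃ i : ℤ, ∃ a ∈ A, g = x ^ i * a := by
    intro g
    obtain ⟨⟨⟨z, hz⟩, ⟨a, ha⟩⟩, h1, -⟩ := Subgroup.IsComplement.existsUnique hcompl g
    obtain ⟨i, rfl⟩ := hz
    exact ⟨i, a, ha, h1.symm⟩
  -- x^(p*j) is central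
  have hcen : ∀ j : ℤ, ∀ g : G, (x ^ p) ^ j * g = g * (x ^ p) ^ j := by
    intro j g
    have : (x ^ p) ^ j ∈ Subgroup.center G := zpow_mem hxp j
    exact (Subgroup.mem_center_iff.mp this g).symm
  -- some element of H has exponent prime to p
  have hex : ∃ h ∈ H, ∃ i : ℤ, ∃ a ∈ A, h = x ^ i * a ∧ ¬ (p : ℤ) ∣ i := by
    by_contra hcon
    push Not at hcon
    apply hH
    refine ⟨⟨fun u v => ?_⟩⟩
    obtain ⟨i, a, ha, hu⟩ := hdec u
    obtain ⟨j, b, hb, hv⟩ := hdec v
    obtain ⟨i', rfl⟩ := hcon u u.2 i a ha hu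
    obtain ⟨j', rfl⟩ := hcon v v.2 j b hb hv
    apply Subtype.ext
    simp only [Subgroup.coe_mul]
    rw [hu, hv, zpow_mul, zpow_mul, zpow_natCast]
    have e1 := hcen i' 
    have e2 := hcen j'
    calc (x ^ p) ^ i' * a * ((x ^ p) ^ j' * b) = (x ^ p) ^ i' * (a * (x ^ p) ^ j') * b := by group
      _ = (x ^ p) ^ i' * ((x ^ p) ^ j' * a) * b := by rw [e2 a]
      _ = ((x ^ p) ^ i' * (x ^ p) ^ j') * (a * b) := by group
      _ = ((x ^ p) ^ j' * (x ^ p) ^ i') * (b * a) := by rw [hAcomm a ha b hb, e1 ((x ^ p) ^ j')]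
      _ = (x ^ p) ^ j' * ((x ^ p) ^ i' * b) * a := by group
      _ = (x ^ p) ^ j' * (b * (x ^ p) ^ i') * a := by rw [e1 b]
      _ = (x ^ p) ^ j' * b * ((x ^ p) ^ i' * a) := by group
  obtain ⟨h, hhH, i, a0, ha0, hh, hpi⟩ := hex
  -- conjugation by `h` is fixed-point-free on `A`
  have hcop : IsCoprime (p : ℤ) i :=
    (Prime.coprime_iff_not_dvd (Nat.prime_iff_prime_int.mp hp)).mpr hpi
  have hfix : ∀ a ∈ A, h * a * h⁻¹ = a → a = 1 := by
    intro a ha hfa
    by_contra ha1
    apply hfpf a ha ha1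
    -- x^i commutes with a
    have h1 : x ^ i * a * (x ^ i)⁻¹ = a := by
      have e : h * a * h⁻¹ = x ^ i * (a0 * a * a0⁻¹) * (x ^ i)⁻¹ := by rw [hh]; group
      rw [e] at hfa
      have e2 : a0 * a * a0⁻¹ = a := by rw [hAcomm a0 ha0 a ha]; group
      rwa [e2] at hfa
    have hc1 : Commute (x ^ i) a := by
      have : x ^ i * a = a * x ^ i := by
        calc x ^ i * a = (x ^ i * a * (x ^ i)⁻¹) * x ^ i := by group
          _ = a * x ^ i := by rw [h1]
      exact this
    obtain ⟨u, v, huv⟩ := hcop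
    have hx : x = (x ^ p) ^ u * (x ^ i) ^ v := by
      rw [← zpow_natCast x p, ← zpow_mul, ← zpow_mul, ← zpow_add, mul_comm (p : ℤ) u, mul_comm i v, huv,
        zpow_one]
    have hc2 : Commute ((x ^ p) ^ u) a := (hcen u a)
    have hc3 : Commute x a := by
      rw [hx]
      exact hc2.mul_left (hc1.zpow_left v)
    calc x * a * x⁻¹ = a * x * x⁻¹ := by rw [hc3.eq]
      _ = a := by group
  -- G = H A
  have hHA : H ⊔ A = ⊤ := by
    obtain ⟨k, hk⟩ := hxo
    have hcop2 : IsCoprime ((p : ℤ) ^ k) i := IsCoprime.pow_left hcop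
    obtain ⟨u, v, huv⟩ := hcop2
    have hx : x = (x ^ i) ^ v := by
      have e : x = (x ^ (p ^ k)) ^ u * (x ^ i) ^ v := by
        rw [← zpow_natCast x (p ^ k), ← zpow_mul, ← zpow_mul, ← zpow_add]
        push_cast
        rw [mul_comm ((p : ℤ) ^ k) u, mul_comm i v, huv, zpow_one]
      rw [← hk, pow_orderOf_eq_one, one_zpow, one_mul] at e
      exact e
    have hxi : x ^ i ∈ H ⊔ A := by
      have : x ^ i = h * a0⁻¹ := by rw [hh]; group
      rw [this]
      exact mul_mem (Subgroup.mem_sup_left hhH) (Subgroup.mem_sup_right (inv_mem ha0))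
    have hxm : x ∈ H ⊔ A := by rw [hx]; exact zpow_mem hxi v
    rw [eq_top_iff]
    intro g _
    obtain ⟨j, a, ha, rfl⟩ := hdec g
    exact mul_mem (zpow_mem hxm j) (Subgroup.mem_sup_right ha)
  -- injectivity of a ↦ a⁻¹ * (h a h⁻¹) on A
  have hinj : ∀ a ∈ A, ∀ b ∈ A, a⁻¹ * (h * a * h⁻¹) = b⁻¹ * (h * b * h⁻¹) → a = b := by
    intro a ha b hb hab
    have hba : b * a⁻¹ ∈ A := mul_mem hb (inv_mem ha)
    have hca : h * a * h⁻¹ ∈ A := hAn.conj_mem a ha h
    have hcb : h * b * h⁻¹ ∈ A := hAn.conj_mem b hb h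
    have h1 : h * (b * a⁻¹) * h⁻¹ = b * a⁻¹ := by
      have e1 : h * (b * a⁻¹) * h⁻¹ = (h * b * h⁻¹) * (h * a * h⁻¹)⁻¹ := by group
      have e2 : h * b * h⁻¹ = b * (a⁻¹ * (h * a * h⁻¹)) := by rw [hab]; group
      rw [e1, e2]
      have e3 : b * (a⁻¹ * (h * a * h⁻¹)) * (h * a * h⁻¹)⁻¹ = b * a⁻¹ := by group
      exact e3
    have := hfix _ hba h1
    exact (mul_inv_eq_one.mp this).symm
  apply le_antisymm _ Subgroup.le_normalizer
  intro g hg
  -- g = h1 * a1
  have hg' : g ∈ H ⊔ A := by rw [hHA]; trivial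
  have hmul : (↑(H ⊔ A) : Set G) = (H : Set G) * (A : Set G) := Subgroup.mul_normal H A
  have hg'' : g ∈ (H : Set G) * (A : Set G) := by rw [← hmul]; exact hg'
  obtain ⟨h1, hh1, a1, ha1, rfl⟩ := hg''
  have ha1N : a1 ∈ Subgroup.normalizer (H : Set G) := by
    have : a1 = h1⁻¹ * (h1 * a1) := by group
    rw [this]
    exact mul_mem (inv_mem (Subgroup.le_normalizer hh1)) hg
  -- a1⁻¹ (h a1 h⁻¹) ∈ H ⊓ A
  have hkey : a1⁻¹ * (h * a1 * h⁻¹) ∈ H := by
    have h2 : a1⁻¹ * h * a1 ∈ H := by
      have := (Subgroup.mem_normalizer_iff.mp (inv_mem ha1N) h).mp hhH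
      simpa using this
    have e : a1⁻¹ * (h * a1 * h⁻¹) = (a1⁻¹ * h * a1) * h⁻¹ := by group
    rw [e]
    exact mul_mem h2 (inv_mem hhH)
  have hkeyA : a1⁻¹ * (h * a1 * h⁻¹) ∈ A := mul_mem (inv_mem ha1) (hAn.conj_mem a1 ha1 h)
  -- the map on B = H ⊓ A is a bijection
  let f : (H ⊓ A : Subgroup G) → (H ⊓ A : Subgroup G) := fun b =>
    ⟨(b : G)⁻¹ * (h * b * h⁻¹), Subgroup.mem_inf.mpr
      ⟨mul_mem (inv_mem (Subgroup.mem_inf.mp b.2).1)
        (mul_mem (mul_mem hhH (Subgroup.mem_inf.mp b.2).1) (inv_mem hhH)),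
       mul_mem (inv_mem (Subgroup.mem_inf.mp b.2).2) (hAn.conj_mem _ (Subgroup.mem_inf.mp b.2).2 h)⟩⟩
  have hfinj : Function.Injective f := by
    intro b c hbc
    have := congrArg Subtype.val hbc
    exact Subtype.ext (hinj _ (Subgroup.mem_inf.mp b.2).2 _ (Subgroup.mem_inf.mp c.2).2 this)
  have hfsurj : Function.Surjective f := Finite.injective_iff_surjective.mp hfinj
  obtain ⟨b, hb⟩ := hfsurj ⟨a1⁻¹ * (h * a1 * h⁻¹), Subgroup.mem_inf.mpr ⟨hkey, hkeyA⟩⟩
  have hb' : (b : G)⁻¹ * (h * b * h⁻¹) = a1⁻¹ * (h * a1 * h⁻¹) := congrArg Subtype.val hb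
  have hba1 : (b : G) = a1 := hinj _ (Subgroup.mem_inf.mp b.2).2 _ ha1 hb'
  have ha1H : a1 ∈ H := by rw [← hba1]; exact (Subgroup.mem_inf.mp b.2).1
  exact mul_mem hh1 ha1H



/-- structure obtained in the forward direction, first part -/
theorem forward_setup {G : Type*} [Group G] [Finite G] [Group.IsSolvable G] (hnn : ¬ Group.IsNilpotent G)
    (hS : ∀ H : Subgroup G, ¬ IsMulCommutative H → Subgroup.normalizer (H : Set G) = H) :
    ∃ (p : ℕ) (_ : Fact p.Prime) (P : Sylow p G) (A : Subgroup G), ¬ (P : Subgroup G).Normal ∧ A.Normal ∧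
      IsMulCommutative A ∧ A ⊔ (P : Subgroup G) = ⊤ ∧ (∀ a ∈ A, (orderOf a).Coprime p) := by
  have hS' : ∀ H : Subgroup G, Subgroup.normalizer (H : Set G) ≠ H → IsMulCommutative H := by
    intro H h
    by_contra hc
    exact h (hS H hc)
  have hSn : ∀ H : Subgroup G, H.Normal → H ≠ ⊤ → IsMulCommutative H := by
    intro H hH hne
    apply hS'
    rw [Subgroup.normalizer_eq_top]
    exact fun h => hne h.symm
  have hntr : Nontrivial G := by
    by_contra h
    rw [not_nontrivial_iff_subsingleton] at h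
    exact hnn inferInstance
  -- a non-normal Sylow subgroup
  have h1 : ¬ ∀ (p : ℕ) (_hp : Fact p.Prime) (P : Sylow p G), (P : Subgroup G).Normal := by
    intro h
    exact hnn (((Group.isNilpotent_of_finite_tfae (G := G)).out 3 0).mp h)
  push Not at h1
  obtain ⟨p, hpF, P, hPn⟩ := h1
  -- the commutator subgroup is abelian
  have hDlt : commutator G < ⊤ := Group.IsSolvable.commutator_lt_top_of_nontrivial G
  have hDn : (commutator G).Normal := inferInstance
  have hDc : IsMulCommutative (commutator G) := hSn _ hDn hDlt.ne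
  -- D ⊔ P = ⊤
  have hDP : commutator G ⊔ (P : Subgroup G) = ⊤ := by
    by_contra hne
    have hNn : (commutator G ⊔ (P : Subgroup G)).Normal := Subgroup.Normal.of_commutator_le (h := le_sup_left)
    have hNc : IsMulCommutative (commutator G ⊔ (P : Subgroup G) : Subgroup G) := hSn _ hNn hne
    apply hPn
    -- P is a Sylow subgroup of the abelian normal subgroup N, hence characteristic in it
    have hPN : (P : Subgroup G) ≤ commutator G ⊔ (P : Subgroup G) := le_sup_right
    let P' : Sylow p (commutator G ⊔ (P : Subgroup G) : Subgroup G) := P.subtype hPN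
    have hP'n : (P' : Subgroup (commutator G ⊔ (P : Subgroup G) : Subgroup G)).Normal := by
      constructor
      intro n hn g
      have : g * n * g⁻¹ = n := by
        rw [hNc.is_comm.comm g n]; group
      rw [this]; exact hn
    have hP'c : (P' : Subgroup (commutator G ⊔ (P : Subgroup G) : Subgroup G)).Characteristic :=
      Sylow.characteristic_of_normal P' hP'n
    have := ConjAct.normal_of_characteristic_of_normal (H := commutator G ⊔ (P : Subgroup G))
      (K := (P' : Subgroup (commutator G ⊔ (P : Subgroup G) : Subgroup G)))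
    have e : (P' : Subgroup (commutator G ⊔ (P : Subgroup G) : Subgroup G)).map
        (commutator G ⊔ (P : Subgroup G)).subtype = (P : Subgroup G) := by
      rw [Sylow.coe_subtype]
      exact Subgroup.map_subgroupOf_eq_of_le hPN
    rw [e] at this
    exact this
  -- A = O^p(G)
  have hAn : (pResidual p G).Normal := Cfsg.Agent.Lib.Helper47.pResidual_normal p G
  have hAD : pResidual p G ≤ commutator G := by
    unfold pResidual
    rw [Subgroup.closure_le]
    intro g hg
    have hg' : g ∈ commutator G ⊔ (P : Subgroup G) := by rw [hDP]; trivial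
    exact Cfsg.Agent.Lib.Helper47.mem_of_coprime_of_mem_sup P.isPGroup' hg' hg
  have hAcomm : ∀ a ∈ pResidual p G, ∀ b ∈ pResidual p G, a * b = b * a := by
    intro a ha b hb
    have := hDc.is_comm.comm ⟨a, hAD ha⟩ ⟨b, hAD hb⟩
    exact congrArg Subtype.val this
  have hAc : IsMulCommutative (pResidual p G) :=
    ⟨⟨fun a b => Subtype.ext (hAcomm a a.2 b b.2)⟩⟩
  have hAP : pResidual p G ⊔ (P : Subgroup G) = ⊤ := Cfsg.Agent.Lib.Helper47.pResidual_sup_sylow P
  -- all elements of A are p'-elements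
  have hAord : ∀ a ∈ pResidual p G, (orderOf a).Coprime p := by
    intro a ha
    have ha' := ha
    unfold pResidual at ha'
    induction ha' using Subgroup.closure_induction with
    | mem y hy => exact hy
    | one => rw [orderOf_one]; exact Nat.coprime_one_left p
    | mul y z hy hz ihy ihz =>
      have hy' : y ∈ pResidual p G := hy
      have hz' : z ∈ pResidual p G := hz
      have hc : Commute y z := hAcomm y hy' z hz'
      have hd := hc.orderOf_mul_dvd_lcm
      have : (Nat.lcm (orderOf y) (orderOf z)).Coprime p := by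
        apply Nat.Coprime.coprime_dvd_left (Nat.lcm_dvd_mul _ _)
        exact Nat.Coprime.mul_left (ihy hy') (ihz hz')
      exact Nat.Coprime.coprime_dvd_left hd this
    | inv y hy ih =>
      rw [orderOf_inv]
      exact ih hy
  exact ⟨p, hpF, P, pResidual p G, hPn, hAn, hAc, hAP, hAord⟩



/-- normalizing two subgroups normalizes their join -/
theorem mem_normalizer_sup {G : Type*} [Group G] {A Z : Subgroup G} {y : G}
    (hA : y ∈ Subgroup.normalizer (A : Set G)) (hZ : y ∈ Subgroup.normalizer (Z : Set G)) :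
    y ∈ Subgroup.normalizer ((A ⊔ Z : Subgroup G) : Set G) := by
  rw [Subgroup.mem_normalizer_iff_map_conj_eq] at hA hZ ⊢
  rw [Subgroup.map_sup, hA, hZ]

theorem forward_main {G : Type*} [Group G] [Finite G]
    (hS : ∀ H : Subgroup G, ¬ IsMulCommutative H → Subgroup.normalizer (H : Set G) = H)
    (p : ℕ) [hpF : Fact p.Prime] (P : Sylow p G) (A : Subgroup G) (hPn : ¬ (P : Subgroup G).Normal)
    (hAn : A.Normal) (hAc : IsMulCommutative A) (hAP : A ⊔ (P : Subgroup G) = ⊤)
    (hAord : ∀ a ∈ A, (orderOf a).Coprime p) :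
    ∃ x : G, (∃ k : ℕ, orderOf x = p ^ k) ∧ ¬ p ∣ Nat.card A ∧ (Subgroup.zpowers x).IsComplement' A ∧
      x ^ p ∈ Subgroup.center G ∧ ∀ a : G, a ∈ A → a ≠ 1 → x * a * x⁻¹ ≠ a := by
  have hp : p.Prime := hpF.out
  have hAcomm : ∀ a ∈ A, ∀ b ∈ A, a * b = b * a := fun a ha b hb => by
    have := hAc.is_comm.comm ⟨a, ha⟩ ⟨b, hb⟩
    exact congrArg Subtype.val this
  -- (a) A ⊓ P = ⊥
  have hAPbot : A ⊓ (P : Subgroup G) = ⊥ := by
    rw [eq_bot_iff]
    intro g hg
    obtain ⟨hgA, hgP⟩ := Subgroup.mem_inf.mp hg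
    rw [Subgroup.mem_bot]
    obtain ⟨k, hk⟩ := P.isPGroup' ⟨g, hgP⟩
    have hk' : g ^ p ^ k = 1 := by
      have := congrArg Subtype.val hk
      simpa using this
    have h1 : orderOf g ∣ p ^ k := orderOf_dvd_of_pow_eq_one hk'
    have h2 : (orderOf g).Coprime (p ^ k) := Nat.Coprime.pow_right k (hAord g hgA)
    have h3 : orderOf g = 1 := Nat.Coprime.eq_one_of_dvd h2 h1
    exact orderOf_eq_one_iff.mp h3
  -- (b)
  have hnotdvd : ¬ p ∣ Nat.card A := by
    intro hd
    obtain ⟨a, ha⟩ := exists_prime_orderOf_dvd_card' p hd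
    have h1 := hAord (a : G) a.2
    rw [Subgroup.orderOf_coe, ha] at h1
    exact hp.one_lt.ne' ((Nat.coprime_self p).mp h1)
  -- (c) a non-commuting pair
  have hex : ∃ x ∈ (P : Subgroup G), ∃ a ∈ A, x * a ≠ a * x := by
    by_contra hcon
    push Not at hcon
    apply hPn
    rw [← Subgroup.normalizer_eq_top_iff, eq_top_iff, ← hAP]
    apply sup_le
    · intro a ha
      rw [Subgroup.mem_normalizer_iff]
      intro y
      constructor
      · intro hy
        have := hcon y hy a ha
        have e : a * y * a⁻¹ = y := by rw [← this]; group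
        rw [e]; exact hy
      · intro hy
        have := hcon _ hy a ha
        -- (a y a⁻¹) a = a (a y a⁻¹) ⇒ y = a y a⁻¹
        have e : y = a * y * a⁻¹ := by
          have e1 : a * y * a⁻¹ * a = a * (a * y * a⁻¹) := this
          have e2 : a * y = a * (a * y * a⁻¹) := by rw [← e1]; group
          exact mul_left_cancel e2
        rw [e]; exact hy
    · exact Subgroup.le_normalizer
  obtain ⟨x, hxP, a, haA, hxa⟩ := hex
  have hZP : Subgroup.zpowers x ≤ (P : Subgroup G) := by rw [Subgroup.zpowers_le]; exact hxP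
  -- (e) intersection lemma
  have hint : ∀ Y : Subgroup G, Y ≤ (P : Subgroup G) → (A ⊔ Y) ⊓ (P : Subgroup G) ≤ Y := by
    intro Y hY g hg
    obtain ⟨hg1, hg2⟩ := Subgroup.mem_inf.mp hg
    have hmul : (↑(A ⊔ Y) : Set G) = (A : Set G) * (Y : Set G) := Subgroup.normal_mul A Y
    have hg1' : g ∈ (A : Set G) * (Y : Set G) := by rw [← hmul]; exact hg1
    obtain ⟨a', ha', y, hy, hay⟩ := hg1'
    have hay' : a' * y = g := hay
    have : a' ∈ A ⊓ (P : Subgroup G) := by
      refine Subgroup.mem_inf.mpr ⟨ha', ?_⟩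
      have e : a' = g * y⁻¹ := by rw [← hay']; group
      rw [e]
      exact mul_mem hg2 (inv_mem (hY hy))
    rw [hAPbot, Subgroup.mem_bot] at this
    rw [← hay', this, one_mul]
    exact hy
  -- (d) K = A ⊔ Z is nonabelian
  have hKna : ∀ Y : Subgroup G, x ∈ Y → ¬ IsMulCommutative (A ⊔ Y : Subgroup G) := by
    intro Y hxY hc
    apply hxa
    have := hc.is_comm.comm ⟨x, Subgroup.mem_sup_right hxY⟩ ⟨a, Subgroup.mem_sup_left haA⟩
    exact congrArg Subtype.val this
  have hKN := hS _ (hKna (Subgroup.zpowers x) (Subgroup.mem_zpowers x))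
  -- (f) P = Z
  have hPZ : (P : Subgroup G) ≤ Subgroup.zpowers x := by
    have hnil : Group.IsNilpotent (P : Subgroup G) := P.isPGroup'.isNilpotent
    have hNC : NormalizerCondition (P : Subgroup G) := Group.normalizerCondition_of_isNilpotent
    by_contra hnle
    have hQ : (Subgroup.zpowers x).subgroupOf (P : Subgroup G) < ⊤ := by
      rw [lt_top_iff_ne_top]
      intro h
      apply hnle
      rw [Subgroup.subgroupOf_eq_top] at h
      exact h
    have hlt := hNC _ hQ
    obtain ⟨y, hyN, hyQ⟩ := SetLike.exists_of_lt hlt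
    have hyZ : (y : G) ∈ Subgroup.normalizer ((Subgroup.zpowers x : Subgroup G) : Set G) := by
      rw [Subgroup.mem_normalizer_iff]
      intro g
      rw [Subgroup.mem_normalizer_iff] at hyN
      constructor
      · intro hg
        have hgP : g ∈ (P : Subgroup G) := hZP hg
        have := (hyN ⟨g, hgP⟩).mp (by rw [Subgroup.mem_subgroupOf]; exact hg)
        rw [Subgroup.mem_subgroupOf] at this
        simpa using this
      · intro hg
        have hgP : g ∈ (P : Subgroup G) := by
          have h1 : (y : G) * g * (y : G)⁻¹ ∈ (P : Subgroup G) := hZP hg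
          have e : g = (y : G)⁻¹ * ((y : G) * g * (y : G)⁻¹) * (y : G) := by group
          rw [e]
          exact mul_mem (mul_mem (inv_mem y.2) h1) y.2
        have := (hyN ⟨g, hgP⟩).mpr (by rw [Subgroup.mem_subgroupOf]; simpa using hg)
        rw [Subgroup.mem_subgroupOf] at this
        exact this
    have hyA : (y : G) ∈ Subgroup.normalizer ((A : Subgroup G) : Set G) := by
      rw [Subgroup.normalizer_eq_top]; trivial
    have hyK := mem_normalizer_sup hyA hyZ
    rw [hKN] at hyK
    have := hint _ hZP (Subgroup.mem_inf.mpr ⟨hyK, y.2⟩)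
    exact hyQ (by rw [Subgroup.mem_subgroupOf]; exact this)
  have hPeq : (P : Subgroup G) = Subgroup.zpowers x := le_antisymm hPZ hZP
  -- (g)
  have hord : ∃ k : ℕ, orderOf x = p ^ k := by
    obtain ⟨k, hk⟩ := IsPGroup.iff_card.mp P.isPGroup'
    refine ⟨k, ?_⟩
    rw [← Nat.card_zpowers, ← hPeq, hk]
  have hx1 : x ≠ 1 := by
    intro h
    apply hxa
    rw [h, one_mul, mul_one]
  -- (h) complement
  have hAZ : A ⊔ Subgroup.zpowers x = ⊤ := by rw [← hPeq]; exact hAP
  have hcompl : (Subgroup.zpowers x).IsComplement' A := by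
    apply Subgroup.isComplement'_of_disjoint_and_mul_eq_univ
    · rw [disjoint_iff, inf_comm, ← hPeq]; exact hAPbot
    · have hmul : (↑(Subgroup.zpowers x ⊔ A) : Set G) = (Subgroup.zpowers x : Set G) * (A : Set G) :=
        Subgroup.mul_normal (Subgroup.zpowers x) A
      rw [← hmul, sup_comm, hAZ]
      rfl
  -- everything commuting with A and x is central
  have hcentral : ∀ c : G, (∀ b ∈ A, c * b = b * c) → c * x = x * c → c ∈ Subgroup.center G := by
    intro c hcA hcx
    have h1 : A ⊔ Subgroup.zpowers x ≤ Subgroup.centralizer {c} := by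
      apply sup_le
      · intro b hb
        rw [Subgroup.mem_centralizer_iff]
        intro z hz
        rw [Set.mem_singleton_iff] at hz
        subst hz
        exact hcA b hb
      · rw [Subgroup.zpowers_le, Subgroup.mem_centralizer_iff]
        intro z hz
        rw [Set.mem_singleton_iff] at hz
        subst hz
        exact hcx
    rw [hAZ] at h1
    rw [Subgroup.mem_center_iff]
    intro g
    have := h1 (Subgroup.mem_top g)
    rw [Subgroup.mem_centralizer_iff] at this
    exact (this c (Set.mem_singleton c)).symm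
  -- (i) x ^ p central
  have hxpc : x ^ p ∈ Subgroup.center G := by
    apply hcentral
    · by_contra hcon
      push Not at hcon
      obtain ⟨b, hbA, hb⟩ := hcon
      have hK'na : ¬ IsMulCommutative (A ⊔ Subgroup.zpowers (x ^ p) : Subgroup G) := by
        intro hc
        apply hb
        have := hc.is_comm.comm ⟨x ^ p, Subgroup.mem_sup_right (Subgroup.mem_zpowers _)⟩
          ⟨b, Subgroup.mem_sup_left hbA⟩
        exact congrArg Subtype.val this
      have hK'N := hS _ hK'na
      have hxN : x ∈ Subgroup.normalizer ((A ⊔ Subgroup.zpowers (x ^ p) : Subgroup G) : Set G) := by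
        apply mem_normalizer_sup
        · rw [Subgroup.normalizer_eq_top]; trivial
        · rw [Subgroup.mem_normalizer_iff]
          intro g
          have hcomm : ∀ z ∈ Subgroup.zpowers (x ^ p), x * z * x⁻¹ = z := by
            rintro _ ⟨j, rfl⟩
            have : Commute x ((x ^ p) ^ j) := ((Commute.refl x).pow_right p).zpow_right j
            rw [this.eq]; group
          constructor
          · intro hg; rw [hcomm g hg]; exact hg
          · intro hg
            have := hcomm _ hg
            have e : g = x * g * x⁻¹ := by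
              have e1 : x * (x * g * x⁻¹) * x⁻¹ = x * g * x⁻¹ := this
              have e2 : x * (x * g * x⁻¹) = x * g := by
                calc x * (x * g * x⁻¹) = (x * (x * g * x⁻¹) * x⁻¹) * x := by group
                  _ = x * g * x⁻¹ * x := by rw [e1]
                  _ = x * g := by group
              exact (mul_left_cancel e2).symm
            rw [e]; exact hg
      rw [hK'N] at hxN
      have hle : Subgroup.zpowers (x ^ p) ≤ (P : Subgroup G) := by
        rw [Subgroup.zpowers_le]; exact pow_mem hxP p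
      have hxmem := hint _ hle (Subgroup.mem_inf.mpr ⟨hxN, hxP⟩)
      -- x ∈ zpowers (x^p) is impossible
      obtain ⟨k, hk⟩ := hord
      have hk0 : k ≠ 0 := by
        intro h0
        rw [h0, pow_zero] at hk
        exact hx1 (orderOf_eq_one_iff.mp hk)
      have hle2 : Subgroup.zpowers x ≤ Subgroup.zpowers (x ^ p) := by
        rw [Subgroup.zpowers_le]; exact hxmem
      have hc := Subgroup.card_le_of_le hle2
      rw [Nat.card_zpowers, Nat.card_zpowers, orderOf_pow, hk] at hc
      have hg : (p ^ k).gcd p = p := Nat.gcd_eq_right (dvd_pow_self p hk0)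
      rw [hg] at hc
      have h1 : p ^ k / p < p ^ k := Nat.div_lt_self (pow_pos hp.pos k) hp.one_lt
      omega
    · exact ((Commute.refl x).pow_left p).eq
  refine ⟨x, hord, hnotdvd, hcompl, hxpc, ?_⟩
  -- (j) fixed-point-freeness
  intro c hcA hc1 hcx
  have hcx' : c * x = x * c := by
    calc c * x = (x * c * x⁻¹) * x := by rw [hcx]
      _ = x * c := by group
  have hccen : c ∈ Subgroup.center G := hcentral c (fun b hb => hAcomm c hcA b hb) hcx'
  -- coprime decomposition
  have hZN : Subgroup.zpowers x ≤ Subgroup.normalizer ((A : Subgroup G) : Set G) := by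
    rw [Subgroup.normalizer_eq_top]; exact le_top
  have hcop : (Nat.card (Subgroup.zpowers x)).Coprime (Nat.card A) := by
    obtain ⟨k, hk⟩ := hord
    rw [Nat.card_zpowers, hk]
    exact Nat.Coprime.pow_left k ((Nat.Prime.coprime_iff_not_dvd hp).mpr hnotdvd)
  obtain ⟨h55, -⟩ := Cfsg.Agent.S0055.result (Subgroup.zpowers x) A hZN hcop
  -- b = ⁅a, x⁆
  have hbN : a * x * a⁻¹ * x⁻¹ ∈ (⁅A, Subgroup.zpowers x⁆ : Subgroup G) :=
    Subgroup.commutator_mem_commutator haA (Subgroup.mem_zpowers x)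
  have hNA : (⁅A, Subgroup.zpowers x⁆ : Subgroup G) ≤ A := Subgroup.commutator_le_left A _
  have hb1 : a * x * a⁻¹ * x⁻¹ ≠ 1 := by
    intro h
    apply hxa
    have : a * x = x * a := by
      calc a * x = (a * x * a⁻¹ * x⁻¹) * x * a := by group
        _ = x * a := by rw [h, one_mul]
    exact this.symm
  have hbx : x * (a * x * a⁻¹ * x⁻¹) ≠ (a * x * a⁻¹ * x⁻¹) * x := by
    intro h
    apply hb1
    have hmem : a * x * a⁻¹ * x⁻¹ ∈ (A ⊓ Subgroup.centralizer ((Subgroup.zpowers x : Subgroup G) : Set G)) ⊓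
        ⁅A, Subgroup.zpowers x⁆ := by
      refine Subgroup.mem_inf.mpr ⟨Subgroup.mem_inf.mpr ⟨hNA hbN, ?_⟩, hbN⟩
      rw [Subgroup.mem_centralizer_iff]
      rintro _ ⟨j, rfl⟩
      exact ((Commute.zpow_left (show Commute x (a * x * a⁻¹ * x⁻¹) from h) j).eq)
    rw [h55, Subgroup.mem_bot] at hmem
    exact hmem
  have hHna : ¬ IsMulCommutative (⁅A, Subgroup.zpowers x⁆ ⊔ Subgroup.zpowers x : Subgroup G) := by
    intro hc
    apply hbx
    have := hc.is_comm.comm ⟨x, Subgroup.mem_sup_right (Subgroup.mem_zpowers x)⟩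
      ⟨a * x * a⁻¹ * x⁻¹, Subgroup.mem_sup_left hbN⟩
    exact congrArg Subtype.val this
  have hHN := hS _ hHna
  have hcH : c ∈ (⁅A, Subgroup.zpowers x⁆ ⊔ Subgroup.zpowers x : Subgroup G) := by
    rw [← hHN, Subgroup.mem_normalizer_iff]
    intro g
    have e : c * g * c⁻¹ = g := by
      rw [← (Subgroup.mem_center_iff.mp hccen g)]; group
    rw [e]
  -- ⁅A, Z⁆ is normal
  have hNn : (⁅A, Subgroup.zpowers x⁆ : Subgroup G).Normal := by
    rw [← Subgroup.normalizer_eq_top_iff, eq_top_iff, ← hAZ]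
    apply sup_le
    · intro a' ha'
      rw [Subgroup.mem_normalizer_iff]
      intro g
      constructor
      · intro hg
        have e : a' * g * a'⁻¹ = g := by rw [hAcomm a' ha' g (hNA hg)]; group
        rw [e]; exact hg
      · intro hg
        have hgA : g ∈ A := by
          have h1 := hNA hg
          have e : g = a'⁻¹ * (a' * g * a'⁻¹) * a' := by group
          rw [e]
          exact mul_mem (mul_mem (inv_mem ha') h1) ha'
        have e : a' * g * a'⁻¹ = g := by rw [hAcomm a' ha' g hgA]; group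
        rw [e] at hg; exact hg
    · apply le_trans _ (Cfsg.Agent.Lib.Helper47.normalizer_inf_normalizer_le_normalizer_commutator A
        (Subgroup.zpowers x))
      apply le_inf hZN Subgroup.le_normalizer
  have hmul : (↑(⁅A, Subgroup.zpowers x⁆ ⊔ Subgroup.zpowers x : Subgroup G) : Set G) =
      ((⁅A, Subgroup.zpowers x⁆ : Subgroup G) : Set G) * (Subgroup.zpowers x : Set G) :=
    Subgroup.normal_mul _ _
  have hcH' : c ∈ ((⁅A, Subgroup.zpowers x⁆ : Subgroup G) : Set G) * (Subgroup.zpowers x : Set G) := by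
    rw [← hmul]; exact hcH
  obtain ⟨n, hn, z, hz, hnz0⟩ := hcH'
  have hnz : n * z = c := hnz0
  have hz1 : z = 1 := by
    have : z ∈ A ⊓ (P : Subgroup G) := by
      refine Subgroup.mem_inf.mpr ⟨?_, hZP hz⟩
      have e : z = n⁻¹ * c := by rw [← hnz]; group
      rw [e]
      exact mul_mem (inv_mem (hNA hn)) hcA
    rw [hAPbot, Subgroup.mem_bot] at this
    exact this
  have hcn : c = n := by rw [← hnz, hz1, mul_one]
  have hmem : c ∈ (A ⊓ Subgroup.centralizer ((Subgroup.zpowers x : Subgroup G) : Set G)) ⊓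
      ⁅A, Subgroup.zpowers x⁆ := by
    refine Subgroup.mem_inf.mpr ⟨Subgroup.mem_inf.mpr ⟨hcA, ?_⟩, hcn ▸ hn⟩
    rw [Subgroup.mem_centralizer_iff]
    intro z' _
    exact (Subgroup.mem_center_iff.mp hccen z')
  rw [h55, Subgroup.mem_bot] at hmem
  exact hc1 hmem

/-- Let G be a finite solvable non-nilpotent group. Every non-abelian subgroup of G is self-normalizing if and only if G is a semidirect product ⟨x⟩ ⋉ A in which ⟨x⟩ is a p-group for some prime p, A is a normal abelian subgroup of order prime to p, x^p is central in G, and x acts fixed-point-freely on A (no non-identity element of A commutes with x). -/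
theorem result {G : Type*} [Group G] [Finite G]
    [Group.IsSolvable G] (hnn : ¬ Group.IsNilpotent G) :
    (∀ H : Subgroup G, ¬ IsMulCommutative H → Subgroup.normalizer (H : Set G) = H) ↔
    ∃ (x : G) (A : Subgroup G) (p : ℕ), p.Prime ∧ A.Normal ∧ IsMulCommutative A ∧ (∃ k : ℕ, orderOf x = p ^ k) ∧
      ¬ p ∣ Nat.card A ∧ (Subgroup.zpowers x).IsComplement' A ∧ x ^ p ∈ Subgroup.center G ∧
      ∀ a : G, a ∈ A → a ≠ 1 → x * a * x⁻¹ ≠ a := by
  constructor
  · intro hS
    obtain ⟨p, hpF, P, A, hPn, hAn, hAc, hAP, hAord⟩ := forward_setup hnn hS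
    obtain ⟨x, hord, hnd, hcompl, hxp, hfpf⟩ := forward_main hS p P A hPn hAn hAc hAP hAord
    exact ⟨x, A, p, hpF.out, hAn, hAc, hord, hnd, hcompl, hxp, hfpf⟩
  · rintro ⟨x, A, p, hp, hAn, hAc, hord, -, hcompl, hxp, hfpf⟩ H hH
    exact backward x A p hp hAn hAc hord hcompl hxp hfpf H hH

end Cfsg.Agent.S4071
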