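import Cfsg.Statements.S4072
import Mathlib
import Cfsg.Agent.S0012

set_option autoImplicit false
open Cfsg

namespace Cfsg.Agent.S4072

universe u

open scoped commutatorElement

/-- Commutativity of a subgroup, unfolded. -/
theorem isMulComm_iff {G : Type*} [Group G] (H : Subgroup G) :
    IsMulCommutative H ↔ ∀ x ∈ H, ∀ y ∈ H, x * y = y * x := by
  constructor
  · intro h x hx y hy
    have := h.is_comm.comm (⟨x, hx⟩ : H) ⟨y, hy⟩
    exact congrArg Subtype.val this
  · intro h
    exact ⟨⟨fun a b => Subtype.ext (h a a.2 b b.2)⟩⟩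

/-- The property: every non-abelian subgroup is self-normalizing. -/
def SN (G : Type*) [Group G] : Prop :=
  ∀ H : Subgroup G, ¬ IsMulCommutative H → Subgroup.normalizer (H : Set G) = H

theorem sn_quotient {G : Type*} [Group G] (hS : SN G) (N : Subgroup G) [N.Normal] :
    SN (G ⧸ N) := by
  intro H hH
  have hsurj : Function.Surjective (QuotientGroup.mk' N) := QuotientGroup.mk'_surjective N
  have h1 : ¬ IsMulCommutative (H.comap (QuotientGroup.mk' N)) := by
    intro hc
    apply hH
    rw [isMulComm_iff] at hc ⊢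
    intro a ha b hb
    obtain ⟨x, rfl⟩ := hsurj a
    obtain ⟨y, rfl⟩ := hsurj b
    have := hc x ha y hb
    rw [← map_mul, ← map_mul, this]
  have h2 := hS _ h1
  have h3 := Subgroup.comap_normalizer_eq_of_surjective H hsurj
  rw [h2] at h3
  exact Subgroup.comap_injective hsurj h3

/-- Burnside's transfer theorem in a non-solvable simple group. -/
theorem burnside_simple {Q : Type*} [Group Q] [Finite Q] [IsSimpleGroup Q]
    (hns : ¬ Group.IsSolvable Q) {q : ℕ} [Fact q.Prime] (S : Sylow q Q)
    (hS : Subgroup.normalizer ((S : Subgroup Q) : Set Q) ≤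
      Subgroup.centralizer ((S : Subgroup Q) : Set Q)) : (S : Subgroup Q) = ⊥ := by
  have hc := MonoidHom.ker_transferSylow_isComplement' S hS
  have hker : (MonoidHom.transferSylow S hS).ker.Normal := inferInstance
  have hcard := hc.card_mul_card
  rcases hker.eq_bot_or_eq_top with h | h
  · exfalso
    apply hns
    rw [h, Subgroup.card_bot, one_mul] at hcard
    obtain ⟨n, hn⟩ := IsPGroup.iff_card.mp S.2
    have hQ : IsPGroup q Q := IsPGroup.of_card (hcard.symm.trans hn)
    haveI := hQ.isNilpotent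
    infer_instance
  · rw [h, Subgroup.card_top] at hcard
    have h1 : Nat.card (S : Subgroup Q) = 1 := by
      have hpos : 0 < Nat.card Q := Nat.card_pos
      nlinarith [Nat.eq_of_mul_eq_mul_left hpos (by rw [hcard, mul_one] :
        Nat.card Q * Nat.card (S : Subgroup Q) = Nat.card Q * 1)]
    exact Subgroup.card_eq_one.mp h1

/-- A minimal non-abelian `p`-group has derived subgroup of order `p`, generated by a central
element. -/
theorem mna {P : Type*} [Group P] [Finite P] {p : ℕ} [Fact p.Prime] (hP : IsPGroup p P)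
    (a b : P) (hab : a * b ≠ b * a)
    (hmin : ∀ H : Subgroup P, H ≠ ⊤ → ∀ x ∈ H, ∀ y ∈ H, x * y = y * x) :
    ∃ c : P, c ∈ Subgroup.center P ∧ c ^ p = 1 ∧ commutator P ≤ Subgroup.zpowers c := by
  haveI := hP.isNilpotent
  have hnc : NormalizerCondition P := Group.normalizerCondition_of_isNilpotent
  -- maximal subgroups containing a and b
  have hza : Subgroup.zpowers a ≠ ⊤ := by
    intro h
    apply hab
    have ha : a ∈ Subgroup.zpowers a := Subgroup.mem_zpowers a
    have hb : b ∈ Subgroup.zpowers a := h ▸ Subgroup.mem_top b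
    obtain ⟨k, rfl⟩ := Subgroup.mem_zpowers_iff.mp hb
    exact (Commute.self_zpow a k).eq
  have hzb : Subgroup.zpowers b ≠ ⊤ := by
    intro h
    apply hab
    have ha : a ∈ Subgroup.zpowers b := h ▸ Subgroup.mem_top a
    obtain ⟨k, rfl⟩ := Subgroup.mem_zpowers_iff.mp ha
    exact (Commute.zpow_self b k).eq
  obtain ⟨Ma, hMa, haMa⟩ := (eq_top_or_exists_le_coatom (Subgroup.zpowers a)).resolve_left hza
  obtain ⟨Mb, hMb, hbMb⟩ := (eq_top_or_exists_le_coatom (Subgroup.zpowers b)).resolve_left hzb
  have haM : a ∈ Ma := haMa (Subgroup.mem_zpowers a)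
  have hbM : b ∈ Mb := hbMb (Subgroup.mem_zpowers b)
  haveI hMan : Ma.Normal := Subgroup.NormalizerCondition.normal_of_coatom Ma hnc hMa
  haveI hMbn : Mb.Normal := Subgroup.NormalizerCondition.normal_of_coatom Mb hnc hMb
  have hbMa : b ∉ Ma := fun h => hab (hmin Ma hMa.1 a haM b h)
  have hsup : Ma ⊔ Mb = ⊤ := by
    by_contra h
    have h1 : Ma < Ma ⊔ Mb := by
      refine lt_of_le_of_ne le_sup_left ?_
      intro h2
      exact hbMa (h2 ▸ (le_sup_right : Mb ≤ Ma ⊔ Mb) hbM)
    exact h (hMa.2 _ h1)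
  set c : P := a * b * a⁻¹ * b⁻¹ with hc
  have hcMa : c ∈ Ma := by
    have h1 : b * a⁻¹ * b⁻¹ ∈ Ma := hMan.conj_mem _ (Ma.inv_mem haM) b
    have h2 : c = a * (b * a⁻¹ * b⁻¹) := by rw [hc]; group
    rw [h2]; exact Ma.mul_mem haM h1
  have hcMb : c ∈ Mb := by
    have h1 : a * b * a⁻¹ ∈ Mb := hMbn.conj_mem _ hbM a
    rw [hc]; exact Mb.mul_mem h1 (Mb.inv_mem hbM)
  have hcent : c ∈ Subgroup.center P := by
    rw [Subgroup.mem_center_iff]
    intro g
    have hg : g ∈ Ma ⊔ Mb := hsup ▸ Subgroup.mem_top g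
    have hle : Ma ⊔ Mb ≤ Subgroup.centralizer ({c} : Set P) := by
      refine sup_le ?_ ?_
      · intro x hx
        rw [Subgroup.mem_centralizer_iff]
        intro y hy
        rw [Set.mem_singleton_iff.mp hy]
        exact hmin Ma hMa.1 c hcMa x hx
      · intro x hx
        rw [Subgroup.mem_centralizer_iff]
        intro y hy
        rw [Set.mem_singleton_iff.mp hy]
        exact hmin Mb hMb.1 c hcMb x hx
    have := hle hg
    rw [Subgroup.mem_centralizer_iff] at this
    exact (this c rfl).symm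
  refine ⟨c, hcent, ?_, ?_⟩
  · -- c ^ p = [a^p, b] = 1
    have hcomm : ∀ g : P, g * c = c * g := fun g => (Subgroup.mem_center_iff.mp hcent g)
    have hpow : ∀ n : ℕ, a ^ n * b * (a ^ n)⁻¹ * b⁻¹ = c ^ n := by
      intro n
      induction n with
      | zero => simp
      | succ n ih =>
        have h1 : a ^ (n + 1) * b * (a ^ (n + 1))⁻¹ * b⁻¹ =
            a * (a ^ n * b * (a ^ n)⁻¹ * b⁻¹) * a⁻¹ * (a * b * a⁻¹ * b⁻¹) := by
          rw [pow_succ']; group
        rw [h1, ih, ← hc, pow_succ]
        have h2 : a * c ^ n * a⁻¹ = c ^ n := by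
          have : a * c ^ n = c ^ n * a := by
            have hcn : c ^ n ∈ Subgroup.center P := Subgroup.pow_mem _ hcent n
            exact Subgroup.mem_center_iff.mp hcn a
          rw [this, mul_inv_cancel_right]
        rw [h2]
    have hap : a ^ p ∈ Mb := by
      have h1 := (Cfsg.Agent.S0012.result p hP).2 a
      exact frattini_le_coatom hMb h1
    have h2 := hmin Mb hMb.1 (a ^ p) hap b hbM
    rw [← hpow p, h2]
    group
  · -- commutator P ≤ zpowers c : the quotient is commutative
    have hZn : (Subgroup.zpowers c).Normal := by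
      constructor
      intro x hx g
      obtain ⟨k, rfl⟩ := Subgroup.mem_zpowers_iff.mp hx
      have hck : c ^ k ∈ Subgroup.center P := Subgroup.zpow_mem _ hcent k
      have : g * c ^ k = c ^ k * g := Subgroup.mem_center_iff.mp hck g
      rw [this, mul_inv_cancel_right]
      exact Subgroup.zpow_mem _ (Subgroup.mem_zpowers c) k
    have hgen : Subgroup.closure ({a, b} : Set P) = ⊤ := by
      by_contra h
      exact hab (hmin _ h a (Subgroup.subset_closure (by simp)) b (Subgroup.subset_closure (by simp)))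
    let π := QuotientGroup.mk' (Subgroup.zpowers c)
    have hπab : π a * π b = π b * π a := by
      rw [← map_mul, ← map_mul]
      apply (QuotientGroup.eq).mpr
      have : (a * b)⁻¹ * (b * a) = (b⁻¹ * a⁻¹ * b * a) := by group
      rw [this]
      -- b⁻¹ a⁻¹ b a = conj of c⁻¹ ... ; it equals c⁻¹ conjugated, hence in zpowers c
      have h3 : b⁻¹ * a⁻¹ * b * a = (b⁻¹ * a⁻¹) * c⁻¹ * (b⁻¹ * a⁻¹)⁻¹ := by rw [hc]; group
      rw [h3]
      exact hZn.conj_mem _ (Subgroup.inv_mem _ (Subgroup.mem_zpowers c)) _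
    have hcl : Subgroup.closure ({π a, π b} : Set (P ⧸ Subgroup.zpowers c)) = ⊤ := by
      have := congrArg (Subgroup.map π) hgen
      rw [MonoidHom.map_closure, Subgroup.map_top_of_surjective π (QuotientGroup.mk'_surjective _)] at this
      rw [← this]
      congr 1
      ext x
      simp [Set.image_insert_eq]
    have hcommQ : ∀ u v : P ⧸ Subgroup.zpowers c, u * v = v * u := by
      have hk : ∀ x ∈ ({π a, π b} : Set (P ⧸ Subgroup.zpowers c)),
          ∀ y ∈ ({π a, π b} : Set (P ⧸ Subgroup.zpowers c)), x * y = y * x := by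
        intro x hx y hy
        simp only [Set.mem_insert_iff, Set.mem_singleton_iff] at hx hy
        rcases hx with rfl | rfl <;> rcases hy with rfl | rfl
        · rfl
        · exact hπab
        · exact hπab.symm
        · rfl
      letI := Subgroup.closureCommGroupOfComm hk
      intro u v
      have hu : u ∈ Subgroup.closure ({π a, π b} : Set (P ⧸ Subgroup.zpowers c)) :=
        hcl ▸ Subgroup.mem_top u
      have hv : v ∈ Subgroup.closure ({π a, π b} : Set (P ⧸ Subgroup.zpowers c)) :=
        hcl ▸ Subgroup.mem_top v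
      have := mul_comm (⟨u, hu⟩ : Subgroup.closure ({π a, π b} : Set (P ⧸ Subgroup.zpowers c)))
        ⟨v, hv⟩
      exact congrArg Subtype.val this
    rw [commutator_def, Subgroup.commutator_le]
    intro x _ y _
    have h4 : π ⁅x, y⁆ = 1 := by
      rw [map_commutatorElement, commutatorElement_def, hcommQ (π x) (π y)]
      group
    exact (QuotientGroup.eq_one_iff _).mp h4

theorem main : ∀ (n : ℕ) (G : Type u) [Group G] [Finite G], Nat.card G = n → SN G →
    ¬ Group.IsSolvable G → IsSimpleGroup G := by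
  intro n
  induction n using Nat.strong_induction_on with
  | _ n ih =>
  intro G _ _ hn hS hns
  -- every normal subgroup other than ⊤ is abelian
  have habel : ∀ K : Subgroup G, K.Normal → K ≠ ⊤ → ∀ x ∈ K, ∀ y ∈ K, x * y = y * x := by
    intro K hK hKtop
    by_contra hna
    have h1 : ¬ IsMulCommutative K := by rw [isMulComm_iff]; exact hna
    have h2 := hS K h1
    rw [Subgroup.normalizer_eq_top] at h2
    exact hKtop h2.symm
  -- quotients by proper nontrivial normal subgroups are simple and not solvable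
  have key : ∀ K : Subgroup G, ∀ hK : K.Normal, K ≠ ⊥ → K ≠ ⊤ →
      IsSimpleGroup (G ⧸ K) ∧ ¬ Group.IsSolvable (G ⧸ K) := by
    intro K hK hKbot hKtop
    have hnsQ : ¬ Group.IsSolvable (G ⧸ K) := by
      intro hsol
      apply hns
      haveI : Group.IsSolvable K :=
        Group.isSolvable_of_comm (fun a b => Subtype.ext (habel K hK hKtop a a.2 b b.2))
      exact Group.isSolvable_of_ker_le_range K.subtype (QuotientGroup.mk' K)
        (by rw [QuotientGroup.ker_mk', Subgroup.range_subtype])
    refine ⟨?_, hnsQ⟩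
    have hcard : Nat.card (G ⧸ K) < n := by
      rw [← hn, Subgroup.card_eq_card_quotient_mul_card_subgroup K]
      have h1 : 1 < Nat.card K := K.one_lt_card_iff_ne_bot.mpr hKbot
      have h2 : 0 < Nat.card (G ⧸ K) := Nat.card_pos
      nlinarith
    exact ih _ hcard (G ⧸ K) rfl (sn_quotient hS K) hnsQ
  haveI : Nontrivial G := by
    by_contra h
    rw [not_nontrivial_iff_subsingleton] at h
    exact hns (Group.isSolvable_of_comm (fun a b => Subsingleton.elim _ _))
  refine ⟨fun N hN => ?_⟩
  by_contra hcon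
  push Not at hcon
  obtain ⟨hNbot, hNtop⟩ := hcon
  -- G is perfect
  have hperf : commutator G = ⊤ := by
    by_contra h
    apply hns
    have hab := habel (commutator G) inferInstance h
    rw [Group.isSolvable_def]
    refine ⟨2, ?_⟩
    rw [derivedSeries_succ, derivedSeries_one, Subgroup.commutator_eq_bot_iff_le_centralizer]
    intro x hx
    rw [Subgroup.mem_centralizer_iff]
    intro y hy
    exact hab y hy x hx
  -- Step F: N is central
  obtain ⟨hQs, hQns⟩ := key N hN hNbot hNtop
  haveI := hQs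
  have hq : (Nat.card (G ⧸ N)).minFac.Prime :=
    Nat.minFac_prime (Finite.one_lt_card (α := G ⧸ N)).ne'
  haveI : Fact (Nat.card (G ⧸ N)).minFac.Prime := ⟨hq⟩
  obtain ⟨S⟩ : Nonempty (Sylow (Nat.card (G ⧸ N)).minFac (G ⧸ N)) := inferInstance
  have hSbot : (S : Subgroup (G ⧸ N)) ≠ ⊥ := S.ne_bot_of_dvd_card (Nat.minFac_dvd _)
  haveI : Nontrivial (S : Subgroup (G ⧸ N)) := (Subgroup.nontrivial_iff_ne_bot _).mpr hSbot
  haveI := IsPGroup.center_nontrivial S.2
  obtain ⟨⟨xb, hxbc⟩, hxb1⟩ := exists_ne (1 : Subgroup.center (S : Subgroup (G ⧸ N)))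
  have hxb1' : (xb : G ⧸ N) ≠ 1 := by
    intro h
    apply hxb1
    apply Subtype.ext
    apply Subtype.ext
    exact h
  have hxbcomm : ∀ s ∈ (S : Subgroup (G ⧸ N)), s * (xb : G ⧸ N) = (xb : G ⧸ N) * s := by
    intro s hs
    have := Subgroup.mem_center_iff.mp hxbc ⟨s, hs⟩
    exact congrArg Subtype.val this
  have hsurj : Function.Surjective (QuotientGroup.mk' N) := QuotientGroup.mk'_surjective N
  have hHab : ∀ u ∈ (Subgroup.zpowers (xb : G ⧸ N)).comap (QuotientGroup.mk' N),
      ∀ v ∈ (Subgroup.zpowers (xb : G ⧸ N)).comap (QuotientGroup.mk' N), u * v = v * u := by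
    by_contra hna
    have h1 : ¬ IsMulCommutative ((Subgroup.zpowers (xb : G ⧸ N)).comap (QuotientGroup.mk' N)) := by
      rw [isMulComm_iff]; exact hna
    have h2 := hS _ h1
    have h3 := Subgroup.comap_normalizer_eq_of_surjective (Subgroup.zpowers (xb : G ⧸ N)) hsurj
    rw [h2] at h3
    have h4 : Subgroup.normalizer ((Subgroup.zpowers (xb : G ⧸ N) : Subgroup (G ⧸ N)) : Set (G ⧸ N)) =
        Subgroup.zpowers (xb : G ⧸ N) := Subgroup.comap_injective hsurj h3
    have h5 : (S : Subgroup (G ⧸ N)) ≤ Subgroup.zpowers (xb : G ⧸ N) := by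
      rw [← h4]
      intro s hs
      rw [Subgroup.mem_normalizer_iff]
      intro h
      have hcs : ∀ k : ℤ, s * (xb : G ⧸ N) ^ k * s⁻¹ = (xb : G ⧸ N) ^ k := by
        intro k
        have : Commute s ((xb : G ⧸ N) ^ k) := (show Commute s (xb : G ⧸ N) from hxbcomm s hs).zpow_right k
        rw [this.eq, mul_inv_cancel_right]
      constructor
      · intro hh
        obtain ⟨k, rfl⟩ := Subgroup.mem_zpowers_iff.mp hh
        rw [hcs k]
        exact Subgroup.zpow_mem _ (Subgroup.mem_zpowers _) k
      · intro hh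
        obtain ⟨k, hk⟩ := Subgroup.mem_zpowers_iff.mp hh
        have : h = (xb : G ⧸ N) ^ k := by
          have h6 : h = s⁻¹ * (s * h * s⁻¹) * s := by group
          rw [h6, ← hk]
          have h7 := hcs k
          calc s⁻¹ * (xb : G ⧸ N) ^ k * s = s⁻¹ * (s * (xb : G ⧸ N) ^ k * s⁻¹) * s := by rw [h7]
            _ = (xb : G ⧸ N) ^ k := by group
        rw [this]
        exact Subgroup.zpow_mem _ (Subgroup.mem_zpowers _) k
    have h6 : Subgroup.zpowers (xb : G ⧸ N) ≤ (S : Subgroup (G ⧸ N)) := by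
      rw [Subgroup.zpowers_le]
      exact xb.2
    have h7 : (S : Subgroup (G ⧸ N)) = Subgroup.zpowers (xb : G ⧸ N) := le_antisymm h5 h6
    have hnc : Subgroup.normalizer ((S : Subgroup (G ⧸ N)) : Set (G ⧸ N)) ≤
        Subgroup.centralizer ((S : Subgroup (G ⧸ N)) : Set (G ⧸ N)) := by
      rw [h7, h4]
      intro g hg
      rw [Subgroup.mem_centralizer_iff]
      intro y hy
      obtain ⟨k, rfl⟩ := Subgroup.mem_zpowers_iff.mp hg
      obtain ⟨l, rfl⟩ := Subgroup.mem_zpowers_iff.mp hy
      exact ((Commute.refl (xb : G ⧸ N)).zpow_zpow l k).eq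
    exact hSbot (burnside_simple hQns S hnc)
  obtain ⟨x, hx⟩ := hsurj (xb : G ⧸ N)
  have hxH : x ∈ (Subgroup.zpowers (xb : G ⧸ N)).comap (QuotientGroup.mk' N) := by
    rw [Subgroup.mem_comap, hx]
    exact Subgroup.mem_zpowers _
  have hNH : N ≤ (Subgroup.zpowers (xb : G ⧸ N)).comap (QuotientGroup.mk' N) := by
    intro n hn
    rw [Subgroup.mem_comap]
    have : QuotientGroup.mk' N n = 1 := (QuotientGroup.eq_one_iff n).mpr hn
    rw [this]
    exact Subgroup.one_mem _
  have hxC : x ∈ Subgroup.centralizer (N : Set G) := by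
    rw [Subgroup.mem_centralizer_iff]
    intro n hn
    exact hHab n (hNH hn) x hxH
  have hCtop : Subgroup.centralizer (N : Set G) = ⊤ := by
    haveI : (Subgroup.centralizer (N : Set G)).Normal := Subgroup.normal_centralizer
    have hmapn : ((Subgroup.centralizer (N : Set G)).map (QuotientGroup.mk' N)).Normal :=
      Subgroup.Normal.map inferInstance _ hsurj
    rcases hmapn.eq_bot_or_eq_top with h | h
    · exfalso
      have h1 : QuotientGroup.mk' N x ∈ (Subgroup.centralizer (N : Set G)).map (QuotientGroup.mk' N) :=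
        Subgroup.mem_map_of_mem _ hxC
      rw [h, Subgroup.mem_bot, hx] at h1
      exact hxb1' h1
    · have h2 := congrArg (Subgroup.comap (QuotientGroup.mk' N)) h
      rw [Subgroup.comap_map_eq, QuotientGroup.ker_mk', Subgroup.comap_top] at h2
      have hNC : N ≤ Subgroup.centralizer (N : Set G) := by
        intro n hn
        rw [Subgroup.mem_centralizer_iff]
        intro m hm
        exact habel N hN hNtop m hm n hn
      rwa [sup_eq_left.mpr hNC] at h2
  have hNcent : ∀ n ∈ N, ∀ g : G, g * n = n * g := by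
    intro n hn g
    have hg : g ∈ Subgroup.centralizer (N : Set G) := hCtop ▸ Subgroup.mem_top g
    rw [Subgroup.mem_centralizer_iff] at hg
    exact (hg n hn).symm
  -- Step H: a central element z of prime order p
  have hp : (Nat.card N).minFac.Prime := Nat.minFac_prime (N.one_lt_card_iff_ne_bot.mpr hNbot).ne'
  haveI : Fact (Nat.card N).minFac.Prime := ⟨hp⟩
  set p := (Nat.card N).minFac with hpdef
  obtain ⟨⟨z, hzN⟩, hzord⟩ := exists_prime_orderOf_dvd_card' (G := N) p (Nat.minFac_dvd (Nat.card N))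
  have hzo : orderOf z = p := by
    rw [← hzord]; exact (Subgroup.orderOf_coe (⟨z, hzN⟩ : N))
  have hz1 : z ≠ 1 := by
    intro h
    rw [h, orderOf_one] at hzo
    exact hp.one_lt.ne' hzo.symm
  have hzc : ∀ g : G, g * z = z * g := hNcent z hzN
  have hzkc : ∀ (k : ℤ) (g : G), g * z ^ k = z ^ k * g := by
    intro k g
    exact ((show Commute g z from hzc g).zpow_right k).eq
  have hZn : (Subgroup.zpowers z).Normal := by
    constructor
    intro y hy g
    obtain ⟨k, rfl⟩ := Subgroup.mem_zpowers_iff.mp hy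
    rw [hzkc k g, mul_inv_cancel_right]
    exact Subgroup.zpow_mem _ (Subgroup.mem_zpowers z) k
  have hZbot : Subgroup.zpowers z ≠ ⊥ := by
    intro h
    exact hz1 (Subgroup.zpowers_eq_bot.mp h)
  have hZtop : Subgroup.zpowers z ≠ ⊤ := by
    intro h
    apply hns
    apply Group.isSolvable_of_comm
    intro a b
    have ha : a ∈ Subgroup.zpowers z := h ▸ Subgroup.mem_top a
    have hb : b ∈ Subgroup.zpowers z := h ▸ Subgroup.mem_top b
    obtain ⟨k, rfl⟩ := Subgroup.mem_zpowers_iff.mp ha
    obtain ⟨l, rfl⟩ := Subgroup.mem_zpowers_iff.mp hb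
    exact ((Commute.refl z).zpow_zpow k l).eq
  obtain ⟨hZs, hZns⟩ := key (Subgroup.zpowers z) hZn hZbot hZtop
  have hZp : IsPGroup p (Subgroup.zpowers z) := by
    apply IsPGroup.of_card (n := 1)
    rw [Nat.card_zpowers, hzo, pow_one]
  obtain ⟨P, hZP⟩ := hZp.exists_le_sylow
  have hzP : z ∈ (P : Subgroup G) := hZP (Subgroup.mem_zpowers z)
  -- Step I: z lies in the derived subgroup of P
  have hkeyT : ∀ (k : ℕ) (g₀ : G), g₀⁻¹ * z ^ k * g₀ ∈ (P : Subgroup G) →
      g₀⁻¹ * z ^ k * g₀ = z ^ k := by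
    intro k g₀ _
    have := hzkc (k : ℤ) g₀⁻¹
    rw [zpow_natCast] at this
    rw [this, inv_mul_cancel_right]
  have hT := MonoidHom.transfer_eq_pow (Abelianization.of : (P : Subgroup G) →* Abelianization (P : Subgroup G)) z hkeyT
  have hT1 : MonoidHom.transfer (Abelianization.of : (P : Subgroup G) →* Abelianization (P : Subgroup G)) z = 1 := by
    have h1 : z ∈ commutator G := hperf ▸ Subgroup.mem_top z
    exact (Abelianization.commutator_subset_ker _) h1
  rw [hT1] at hT
  have hmem : (⟨z ^ (P : Subgroup G).index, MonoidHom.transfer_eq_pow_aux z hkeyT⟩ : (P : Subgroup G)) ∈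
      commutator (P : Subgroup G) := by
    rw [← Abelianization.ker_of]
    exact hT.symm
  have hzP' : (⟨z, hzP⟩ : (P : Subgroup G)) ∈ commutator (P : Subgroup G) := by
    have hcop : Nat.Coprime (P : Subgroup G).index p :=
      ((Nat.Prime.coprime_iff_not_dvd hp).mpr P.not_dvd_index).symm
    obtain ⟨m, -, hm⟩ := Nat.exists_mul_mod_eq_one_of_coprime hcop hp.one_lt
    have h1 := Subgroup.pow_mem _ hmem m
    have h2 : (⟨z ^ (P : Subgroup G).index, MonoidHom.transfer_eq_pow_aux z hkeyT⟩ : (P : Subgroup G)) ^ m =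
        ⟨z, hzP⟩ := by
      apply Subtype.ext
      rw [Subgroup.coe_pow]
      change (z ^ (P : Subgroup G).index) ^ m = z
      rw [← pow_mul, ← pow_mod_orderOf, hzo, hm, pow_one]
    rwa [h2] at h1
  -- Step J: P is minimal non-abelian and self-normalizing
  have hz'1 : (⟨z, hzP⟩ : (P : Subgroup G)) ≠ 1 := by
    intro h
    exact hz1 (congrArg Subtype.val h)
  obtain ⟨a, b, hab⟩ : ∃ a b : (P : Subgroup G), a * b ≠ b * a := by
    by_contra h
    push Not at h
    have h1 : commutator (P : Subgroup G) = ⊥ := by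
      rw [commutator_def, Subgroup.commutator_eq_bot_iff_le_centralizer]
      intro x _
      rw [Subgroup.mem_centralizer_iff]
      intro y _
      exact h y x
    rw [h1, Subgroup.mem_bot] at hzP'
    exact hz'1 hzP'
  have hPna : ¬ IsMulCommutative (P : Subgroup G) := by
    rw [isMulComm_iff]
    intro h
    exact hab (Subtype.ext (h a a.2 b b.2))
  have hPN : Subgroup.normalizer ((P : Subgroup G) : Set G) = P := hS _ hPna
  have hmin : ∀ H : Subgroup (P : Subgroup G), H ≠ ⊤ → ∀ x ∈ H, ∀ y ∈ H, x * y = y * x := by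
    intro H hH
    by_contra hna
    have hR : ¬ IsMulCommutative (H.map (P : Subgroup G).subtype) := by
      rw [isMulComm_iff]
      intro h
      apply hna
      intro x hx y hy
      apply Subtype.ext
      exact h x (Subgroup.mem_map_of_mem _ hx) y (Subgroup.mem_map_of_mem _ hy)
    have hRN := hS _ hR
    haveI := (P.2).isNilpotent
    have hnc : NormalizerCondition (P : Subgroup G) := Group.normalizerCondition_of_isNilpotent
    obtain ⟨g, hgN, hgH⟩ := SetLike.exists_of_lt (hnc H (lt_top_iff_ne_top.mpr hH))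
    rw [Subgroup.mem_normalizer_iff] at hgN
    have hgR : (g : G) ∈ Subgroup.normalizer ((H.map (P : Subgroup G).subtype : Subgroup G) : Set G) := by
      rw [Subgroup.mem_normalizer_iff]
      intro r
      constructor
      · rintro ⟨h, hh, rfl⟩
        exact ⟨g * h * g⁻¹, (hgN h).mp hh, rfl⟩
      · rintro ⟨h', hh', hh'eq⟩
        refine ⟨g⁻¹ * h' * g, ?_, ?_⟩
        · apply (hgN _).mpr
          have : g * (g⁻¹ * h' * g) * g⁻¹ = h' := by group
          rw [this]; exact hh'
        · have h1 : ((P : Subgroup G).subtype (g⁻¹ * h' * g)) = (g : G)⁻¹ * (h' : G) * (g : G) := by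
            simp
          rw [h1]
          have h2 : ((P : Subgroup G).subtype h') = (g : G) * r * (g : G)⁻¹ := hh'eq
          have h3 : (h' : G) = (g : G) * r * (g : G)⁻¹ := h2
          rw [h3]; group
    rw [hRN] at hgR
    obtain ⟨h, hh, hheq⟩ := hgR
    have : h = g := Subtype.ext hheq
    exact hgH (this ▸ hh)
  -- Step K: the derived subgroup of P is generated by z
  obtain ⟨c, hcc, hcp, hcle⟩ := mna P.2 a b hab hmin
  have hle1 : Subgroup.zpowers (⟨z, hzP⟩ : (P : Subgroup G)) ≤ Subgroup.zpowers c := by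
    rw [Subgroup.zpowers_le]
    exact hcle hzP'
  have hzo' : orderOf (⟨z, hzP⟩ : (P : Subgroup G)) = p := by
    exact (Subgroup.orderOf_coe (⟨z, hzP⟩ : (P : Subgroup G))).symm.trans hzo
  have hco : orderOf c ∣ p := orderOf_dvd_of_pow_eq_one hcp
  have hcard : Nat.card (Subgroup.zpowers c) ≤ Nat.card (Subgroup.zpowers (⟨z, hzP⟩ : (P : Subgroup G))) := by
    rw [Nat.card_zpowers, Nat.card_zpowers, hzo']
    exact Nat.le_of_dvd hp.pos hco
  have heq : Subgroup.zpowers (⟨z, hzP⟩ : (P : Subgroup G)) = Subgroup.zpowers c :=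
    Subgroup.eq_of_le_of_card_ge hle1 hcard
  have hder : ∀ w ∈ commutator (P : Subgroup G), (w : G) ∈ Subgroup.zpowers z := by
    intro w hw
    have h1 := hcle hw
    rw [← heq] at h1
    obtain ⟨k, rfl⟩ := Subgroup.mem_zpowers_iff.mp h1
    rw [Subgroup.coe_zpow]
    exact Subgroup.zpow_mem _ (Subgroup.mem_zpowers z) k
  -- Step L: Burnside in G ⧸ ⟨z⟩
  haveI := hZs
  have hsurjZ : Function.Surjective (QuotientGroup.mk' (Subgroup.zpowers z)) :=
    QuotientGroup.mk'_surjective _
  have hPbab : ∀ u ∈ (P.mapSurjective hsurjZ : Subgroup (G ⧸ Subgroup.zpowers z)),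
      ∀ v ∈ (P.mapSurjective hsurjZ : Subgroup (G ⧸ Subgroup.zpowers z)), u * v = v * u := by
    intro u hu v hv
    rw [Sylow.coe_mapSurjective] at hu hv
    obtain ⟨x, hx, rfl⟩ := hu
    obtain ⟨y, hy, rfl⟩ := hv
    rw [← map_mul, ← map_mul]
    apply (QuotientGroup.eq).mpr
    have h1 : (x * y)⁻¹ * (y * x) = ((⁅(⟨y, hy⟩ : (P : Subgroup G))⁻¹, (⟨x, hx⟩ : (P : Subgroup G))⁻¹⁆ :
        (P : Subgroup G)) : G) := by
      rw [commutatorElement_def]
      simp only [Subgroup.coe_mul, Subgroup.coe_inv, inv_inv]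
      group
    rw [h1]
    apply hder
    rw [commutator_def]
    exact Subgroup.commutator_mem_commutator (Subgroup.mem_top _) (Subgroup.mem_top _)
  have hcomapP : ((P.mapSurjective hsurjZ : Subgroup (G ⧸ Subgroup.zpowers z))).comap
      (QuotientGroup.mk' (Subgroup.zpowers z)) = P := by
    rw [Sylow.coe_mapSurjective, Subgroup.comap_map_eq, QuotientGroup.ker_mk', sup_eq_left.mpr hZP]
  have hnorm : Subgroup.normalizer ((P.mapSurjective hsurjZ : Subgroup (G ⧸ Subgroup.zpowers z)) :
      Set (G ⧸ Subgroup.zpowers z)) ≤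
      Subgroup.centralizer ((P.mapSurjective hsurjZ : Subgroup (G ⧸ Subgroup.zpowers z)) :
        Set (G ⧸ Subgroup.zpowers z)) := by
    intro gb hgb
    obtain ⟨g, rfl⟩ := hsurjZ gb
    have h1 : g ∈ (Subgroup.normalizer ((P.mapSurjective hsurjZ : Subgroup (G ⧸ Subgroup.zpowers z)) :
        Set (G ⧸ Subgroup.zpowers z))).comap (QuotientGroup.mk' (Subgroup.zpowers z)) := hgb
    rw [Subgroup.comap_normalizer_eq_of_surjective _ hsurjZ, hcomapP, hPN] at h1
    have h2 : QuotientGroup.mk' (Subgroup.zpowers z) g ∈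
        (P.mapSurjective hsurjZ : Subgroup (G ⧸ Subgroup.zpowers z)) := by
      rw [Sylow.coe_mapSurjective]
      exact Subgroup.mem_map_of_mem _ h1
    rw [Subgroup.mem_centralizer_iff]
    intro v hv
    exact hPbab v hv _ h2
  have hbot := burnside_simple hZns (P.mapSurjective hsurjZ) hnorm
  rw [Sylow.coe_mapSurjective, (Subgroup.map_eq_bot_iff _), QuotientGroup.ker_mk'] at hbot
  apply hab
  apply Subtype.ext
  obtain ⟨k, hk⟩ := Subgroup.mem_zpowers_iff.mp (hbot a.2)
  obtain ⟨l, hl⟩ := Subgroup.mem_zpowers_iff.mp (hbot b.2)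
  rw [Subgroup.coe_mul, Subgroup.coe_mul, ← hk, ← hl]
  exact ((Commute.refl z).zpow_zpow k l).eq

/-- A finite group in which every non-abelian subgroup is self-normalizing is solvable or simple. -/
theorem result {G : Type*} [Group G] [Finite G] (hS : ∀ H : Subgroup G, ¬ IsMulCommutative H → Subgroup.normalizer (H : Set G) = H) :
    Group.IsSolvable G ∨ IsSimpleGroup G := by
  by_cases h : Group.IsSolvable G
  · exact Or.inl h
  · exact Or.inr (main (Nat.card G) G rfl hS h)

end Cfsg.Agent.S4072
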