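import Cfsg.Statements.S4074
import Mathlib

set_option autoImplicit false
open Cfsg
open DihedralGroup

namespace Cfsg.Agent.S4074

/-- for even `n`, the index-2 "even" dihedral subgroup -/
def evenSub (n : ℕ) (h2 : 2 ∣ n) : Subgroup (DihedralGroup n) where
  carrier := {g | match g with
    | r i => ZMod.castHom h2 (ZMod 2) i = 0
    | sr i => ZMod.castHom h2 (ZMod 2) i = 0}
  one_mem' := by
    show (match (1 : DihedralGroup n) with
      | r i => ZMod.castHom h2 (ZMod 2) i = 0
      | sr i => ZMod.castHom h2 (ZMod 2) i = 0)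
    rw [one_def]; simp
  mul_mem' := by
    intro a b ha hb
    cases a with
    | r i =>
      cases b with
      | r j =>
        simp only [Set.mem_ofPred_eq, r_mul_r, map_add] at ha hb ⊢
        rw [ha, hb, add_zero]
      | sr j =>
        simp only [Set.mem_ofPred_eq, r_mul_sr, map_sub] at ha hb ⊢
        rw [ha, hb, sub_zero]
    | sr i =>
      cases b with
      | r j =>
        simp only [Set.mem_ofPred_eq, sr_mul_r, map_add] at ha hb ⊢
        rw [ha, hb, add_zero]
      | sr j =>
        simp only [Set.mem_ofPred_eq, sr_mul_sr, map_sub] at ha hb ⊢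
        rw [ha, hb, sub_zero]
  inv_mem' := by
    intro a ha
    cases a with
    | r i =>
      simp only [Set.mem_ofPred_eq, inv_r, map_neg] at ha ⊢
      rw [ha, neg_zero]
    | sr i =>
      simp only [Set.mem_ofPred_eq, inv_sr] at ha ⊢
      exact ha

theorem r_mem_evenSub (n : ℕ) (h2 : 2 ∣ n) (i : ZMod n) :
    r i ∈ evenSub n h2 ↔ ZMod.castHom h2 (ZMod 2) i = 0 := Iff.rfl

theorem sr_mem_evenSub (n : ℕ) (h2 : 2 ∣ n) (i : ZMod n) :
    sr i ∈ evenSub n h2 ↔ ZMod.castHom h2 (ZMod 2) i = 0 := Iff.rfl


theorem comm_of_isMulCommutative {G : Type*} [Group G] (H : Subgroup G) (h : IsMulCommutative H)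
    (a b : G) (ha : a ∈ H) (hb : b ∈ H) : a * b = b * a := by
  have := h.is_comm.comm (⟨a, ha⟩ : H) ⟨b, hb⟩
  exact congrArg Subtype.val this

/-- Part A: for even `n > 2`, `n ≠ 4`, the property fails. -/
theorem partA (n : ℕ) (hn : 2 < n) (h2 : 2 ∣ n) (h4 : n ≠ 4) :
    ¬ (∀ H : Subgroup (DihedralGroup n), ¬ IsMulCommutative H →
      Subgroup.normalizer (H : Set (DihedralGroup n)) = H) := by
  intro hall
  have hna : ¬ IsMulCommutative (evenSub n h2) := by
    intro hc
    have h1 : (r 2 : DihedralGroup n) ∈ evenSub n h2 := by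
      rw [r_mem_evenSub, map_ofNat]; decide
    have h0 : (sr 0 : DihedralGroup n) ∈ evenSub n h2 := by
      rw [sr_mem_evenSub, map_zero]
    have := comm_of_isMulCommutative _ hc _ _ h1 h0
    rw [r_mul_sr, sr_mul_r] at this
    have h3 : (0 : ZMod n) - 2 = 0 + 2 := by
      injection this
    have h5 : ((4 : ℕ) : ZMod n) = 0 := by
      have : (4 : ZMod n) = 0 := by linear_combination -h3
      exact_mod_cast this
    rw [ZMod.natCast_eq_zero_iff] at h5
    have := Nat.le_of_dvd (by norm_num) h5
    interval_cases n <;> omega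
  have hnorm := hall _ hna
  have hr1 : (r 1 : DihedralGroup n) ∉ evenSub n h2 := by
    rw [r_mem_evenSub, map_one]; decide
  apply hr1
  rw [← hnorm, Subgroup.mem_normalizer_iff]
  intro h
  cases h with
  | r i =>
    rw [inv_r, r_mul_r, r_mul_r]
    show r i ∈ evenSub n h2 ↔ r (1 + i + -1) ∈ evenSub n h2
    rw [r_mem_evenSub, r_mem_evenSub]
    have : (1 : ZMod n) + i + -1 = i := by ring
    rw [this]
  | sr i =>
    rw [inv_r, r_mul_sr, sr_mul_r]
    show sr i ∈ evenSub n h2 ↔ sr (i - 1 + -1) ∈ evenSub n h2
    rw [sr_mem_evenSub, sr_mem_evenSub, map_add, map_sub, map_neg, map_one]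
    have h11 : ∀ z : ZMod 2, z - 1 + -1 = z := by decide
    rw [h11]

/-- Part C: for odd `n`, any subgroup containing a reflection is self-normalizing. -/
theorem partC (n : ℕ) (hodd : Odd n) (H : Subgroup (DihedralGroup n)) (hH : ¬ IsMulCommutative H) :
    Subgroup.normalizer (H : Set (DihedralGroup n)) = H := by
  -- H contains a reflection
  have hrefl : ∃ a : ZMod n, sr a ∈ H := by
    by_contra hno
    push Not at hno
    apply hH
    refine ⟨⟨fun x y => ?_⟩⟩
    obtain ⟨x, hx⟩ := x
    obtain ⟨y, hy⟩ := y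
    apply Subtype.ext
    show x * y = y * x
    cases x with
    | sr i => exact absurd hx (hno i)
    | r i =>
      cases y with
      | sr j => exact absurd hy (hno j)
      | r j => rw [r_mul_r, r_mul_r, add_comm]
  obtain ⟨a, ha⟩ := hrefl
  obtain ⟨m, hm⟩ := hodd
  -- rotations in the normalizer lie in H
  have hrot : ∀ j : ZMod n, r j ∈ Subgroup.normalizer (H : Set (DihedralGroup n)) → r j ∈ H := by
    intro j hj
    rw [Subgroup.mem_normalizer_iff] at hj
    have h1 := (hj (sr a)).mp ha
    rw [inv_r, r_mul_sr, sr_mul_r] at h1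
    have h2 := H.mul_mem ha h1
    rw [sr_mul_sr] at h2
    have h3 := H.pow_mem h2 m
    rw [r_pow] at h3
    have : (a - j + -j - a) * (m : ZMod n) = j := by
      have hn0 : ((2 * m + 1 : ℕ) : ZMod n) = 0 := by
        rw [← hm]; exact ZMod.natCast_self n
      push_cast at hn0
      linear_combination (-j) * hn0
    rwa [this] at h3
  apply le_antisymm _ Subgroup.le_normalizer
  intro g hg
  cases g with
  | r j => exact hrot j hg
  | sr j =>
    have h1 : sr j * sr a ∈ Subgroup.normalizer (H : Set (DihedralGroup n)) :=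
      Subgroup.mul_mem _ hg (Subgroup.le_normalizer ha)
    rw [sr_mul_sr] at h1
    have h2 := hrot _ h1
    have h3 := H.mul_mem h2 ha
    rw [r_mul_sr] at h3
    have : a - (a - j) = j := by ring
    rwa [this] at h3

/-- Part B: `n = 4`. -/
theorem partB (H : Subgroup (DihedralGroup 4)) (hH : ¬ IsMulCommutative H) :
    Subgroup.normalizer (H : Set (DihedralGroup 4)) = H := by
  have hcard : Nat.card H ∣ 8 := by
    have := Subgroup.card_subgroup_dvd_card H
    rwa [DihedralGroup.nat_card] at this
  have htop : H = ⊤ := by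
    by_contra hne
    apply hH
    have hlt : Nat.card H ≠ 8 := by
      intro h8
      apply hne
      apply Subgroup.eq_top_of_card_eq
      rw [h8, DihedralGroup.nat_card]
    have hmem : Nat.card H ∈ Nat.divisors 8 := Nat.mem_divisors.mpr ⟨hcard, by norm_num⟩
    have hdiv : Nat.divisors 8 = {1, 2, 4, 8} := by decide
    rw [hdiv] at hmem
    simp only [Finset.mem_insert, Finset.mem_singleton] at hmem
    rcases hmem with h | h | h | h
    · have : Subsingleton H := (Nat.card_eq_one_iff_unique.mp h).1
      exact ⟨⟨fun x y => Subsingleton.elim _ _⟩⟩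
    · have : Fact (Nat.Prime 2) := ⟨Nat.prime_two⟩
      have hc : IsCyclic H := isCyclic_of_prime_card h
      exact ⟨⟨fun x y => (IsCyclic.commGroup (α := H)).mul_comm x y⟩⟩
    · have : Fact (Nat.Prime 2) := ⟨Nat.prime_two⟩
      exact IsPGroup.isMulCommutative_of_card_eq_prime_sq (p := 2) (by rw [h]; norm_num)
    · exact absurd h hlt
  subst htop
  exact top_le_iff.mp Subgroup.le_normalizer

/-- For n > 2, every non-abelian subgroup of the dihedral group of order 2n is self-normalizing if and only if n = 4 or n is odd. -/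
theorem result (n : ℕ) (hn : 2 < n) :
    (∀ H : Subgroup (DihedralGroup n), ¬ IsMulCommutative H → Subgroup.normalizer (H : Set (DihedralGroup n)) = H) ↔
    (n = 4 ∨ Odd n) := by
  constructor
  · intro hall
    by_contra hcon
    push Not at hcon
    obtain ⟨h4, hodd⟩ := hcon
    have h2 : 2 ∣ n := by
      rcases Nat.even_or_odd n with h | h
      · exact h.two_dvd
      · exact absurd h hodd
    exact partA n hn h2 h4 hall
  · rintro (rfl | hodd)
    · exact partB
    · exact partC n hodd

end Cfsg.Agent.S4074
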