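import Cfsg.Statements.S4075
import Mathlib

set_option autoImplicit false
open Cfsg

namespace Cfsg.Agent.S4075

theorem comm_of_mulEquiv {A B : Type*} [Mul A] [Mul B] (e : A ≃* B) (h : IsMulCommutative A) :
    IsMulCommutative B := by
  refine ⟨⟨fun x y => ?_⟩⟩
  have := h.is_comm.comm (e.symm x) (e.symm y)
  have h2 := congrArg e this
  simpa using h2

/-- Let G be a finite nilpotent group. Every non-abelian subgroup of G is self-normalizing if and only if G is abelian or G is a minimal non-abelian p-group for some prime p (non-abelian of prime-power order with every proper subgroup abelian). -/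
theorem result {G : Type*} [Group G] [Finite G]
    [Group.IsNilpotent G] :
    (∀ H : Subgroup G, ¬ IsMulCommutative H → Subgroup.normalizer (H : Set G) = H) ↔
    (IsMulCommutative G ∨ (IsPrimePow (Nat.card G) ∧ ¬ IsMulCommutative G ∧ ∀ H : Subgroup G, H ≠ ⊤ → IsMulCommutative H)) := by
  constructor
  · intro h
    by_cases hG : IsMulCommutative G
    · exact Or.inl hG
    · right
      have hproper : ∀ H : Subgroup G, H ≠ ⊤ → IsMulCommutative H := by
        intro H hH
        by_contra hna
        have h1 := h H hna
        have h2 := Group.normalizerCondition_of_isNilpotent (G := G) H (lt_top_iff_ne_top.mpr hH)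
        rw [h1] at h2
        exact lt_irrefl _ h2
      refine ⟨?_, hG, hproper⟩
      -- some Sylow subgroup is non-abelian
      have hex : ∃ (p : ℕ) (_ : Fact p.Prime) (P : Sylow p G), ¬ IsMulCommutative (P : Subgroup G) := by
        by_contra hall
        push Not at hall
        have h5 := (Group.isNilpotent_of_finite_tfae (G := G)).out 0 4
        obtain ⟨e⟩ := h5.mp inferInstance
        apply hG
        refine comm_of_mulEquiv e ⟨⟨fun x y => ?_⟩⟩
        funext p P
        have : Fact (p : ℕ).Prime := ⟨Nat.prime_of_mem_primeFactors p.2⟩
        have := (hall p inferInstance P).is_comm.comm (x p P) (y p P)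
        simpa using this
      obtain ⟨p, hp, P, hP⟩ := hex
      have hPtop : (P : Subgroup G) = ⊤ := by
        by_contra hne
        exact hP (hproper _ hne)
      obtain ⟨n, hn⟩ := IsPGroup.iff_card.mp P.isPGroup'
      have hcard : Nat.card G = p ^ n := by
        rw [← hn, hPtop, Subgroup.card_top]
      rw [hcard]
      have hn0 : n ≠ 0 := by
        rintro rfl
        apply hG
        have : Nat.card G = 1 := by simpa using hcard
        have hs : Subsingleton G := (Nat.card_eq_one_iff_unique.mp this).1
        exact ⟨⟨fun x y => Subsingleton.elim _ _⟩⟩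
      exact hp.out.isPrimePow.pow hn0
  · rintro (hG | ⟨-, hG, hproper⟩) H hH
    · exfalso
      apply hH
      exact ⟨⟨fun x y => Subtype.ext (by simpa using hG.is_comm.comm (x : G) (y : G))⟩⟩
    · have : H = ⊤ := by
        by_contra hne
        exact hH (hproper H hne)
      subst this
      exact top_le_iff.mp Subgroup.le_normalizer

end Cfsg.Agent.S4075
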