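import Cfsg.Statements.S4079
import Cfsg.Agent.Lib.Helper2.MetaAutSdp
import Cfsg.Agent.Lib.Helper25.S4079Fwd
import Cfsg.Agent.Lib.Helper66.S4079Bwd
import Cfsg.Agent.Lib.Helper55.S4079Struct

set_option autoImplicit false
open Cfsg

namespace Cfsg.Agent.S4079

open Cfsg.Agent.Lib.Helper2.MetaAut

/-- Let p be an odd prime and L a finite metacyclic p-group with no cyclic subgroup of index p, and let a be an automorphism of L of order p. Then a moves some element of order p of L if and only if p = 3 and the semidirect product L ⋊ ⟨a⟩ (of order 3·#L) has maximal class, i.e. nilpotency class m where #L = 3^m. -/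
theorem result {L : Type*} [Group L] [Finite L] {p : ℕ} [Fact p.Prime]
    (hp : p ≠ 2) (hL : IsPGroup p L) (hmc : Cfsg.IsMetacyclic L) (hnc : ∀ C : Subgroup L, IsCyclic C → C.index ≠ p)
    (a : MulAut L) (ha : orderOf a = p) (m : ℕ) (hm : Nat.card L = p ^ m) :
    (∃ x : L, orderOf x = p ∧ a x ≠ x) ↔
    (p = 3 ∧ Group.nilpotencyClass (SemidirectProduct L ↥(Subgroup.zpowers a) (Subgroup.zpowers a).subtype) = m) := by
  have hpp : p.Prime := Fact.out
  have hnt : Nontrivial L := by
    by_contra hnt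
    rw [not_nontrivial_iff_subsingleton] at hnt
    have ha1 : a = 1 := by
      ext x
      exact Subsingleton.elim _ _
    rw [ha1, orderOf_one] at ha
    exact hpp.ne_one ha.symm
  obtain ⟨E, T, hE, hT, hEc, hTc, hET, hpow, hsurj⟩ :=
    Cfsg.Agent.Lib.Helper55.S4079Struct.meta_struct hp hL hmc hnc hnt
  have hm4 : 4 ≤ m := by
    have h := Subgroup.card_subgroup_dvd_card T
    rw [hTc, hm] at h
    exact (Nat.pow_dvd_pow_iff_le_right hpp.one_lt).mp h
  constructor
  · rintro ⟨x, hx, hax⟩
    have hxp : x ^ p = 1 := by rw [← hx]; exact pow_orderOf_eq_one x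
    have hap : a ^ p = 1 := by rw [← ha]; exact pow_orderOf_eq_one a
    obtain ⟨h3, hfix⟩ :=
      Cfsg.Agent.Lib.Helper25.S4079Fwd.fwd hp hL E T hE hT hEc hET hpow hsurj a hap x hxp hax
    refine ⟨h3, ?_⟩
    exact sdp_class_of_fix a ha m hm (by rw [hfix, h3])
  · rintro ⟨h3, hcl⟩
    subst h3
    by_contra hno
    push Not at hno
    have hfix : ∀ x ∈ E, a x = x := by
      intro x hxE
      by_cases hx1 : x = 1
      · rw [hx1, map_one]
      · apply hno
        exact orderOf_eq_prime ((hE x).mp hxE) hx1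
    refine Cfsg.Agent.Lib.Helper66.S4079Bwd.bwd hL hmc m hm hm4 E (by simpa using hE)
      (by rw [hEc]; norm_num) a hfix ?_ ?_
    · intro C₁ C₂ h₁ h₂ ha₁ ha₂ hc₁ hc₂
      exact sdp_unique a ha m hm hcl 2 (by omega) C₁ C₂ h₁ h₂ ha₁ ha₂ (by rw [hc₁]; norm_num) (by rw [hc₂]; norm_num)
    · intro C hC hCa
      exact sdp_center a ha m hm (by omega) hcl C hC hCa

end Cfsg.Agent.S4079
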