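import Cfsg.Statements.S4080
import Mathlib

set_option autoImplicit false
open Cfsg

namespace Cfsg.Agent.S4080


/-- a nilpotent `2 × 2` matrix over a field squares to zero -/
theorem sq_eq_zero_of_pow_eq_zero {F : Type*} [Field F] (M : Matrix (Fin 2) (Fin 2) F) (k : ℕ)
    (hk : M ^ (k + 1) = 0) : M * M = 0 := by
  have hdet : M.det = 0 := by
    have := congrArg Matrix.det hk
    rw [Matrix.det_pow, Matrix.det_zero] at this
    exact (pow_eq_zero_iff (Nat.succ_ne_zero k)).mp this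
  rw [Matrix.det_fin_two] at hdet
  have hsq : M * M = (M 0 0 + M 1 1) • M := by
    ext i j
    fin_cases i <;> fin_cases j <;>
      simp only [Matrix.mul_apply, Fin.sum_univ_two, Matrix.smul_apply, smul_eq_mul, Fin.zero_eta,
        Fin.mk_one, Fin.isValue] <;>
      first | ring1 | linear_combination -hdet
  have hpow : ∀ j : ℕ, M ^ (j + 1) = (M 0 0 + M 1 1) ^ j • M := by
    intro j
    induction j with
    | zero => simp
    | succ j ih =>
      rw [pow_succ, ih, Matrix.smul_mul, hsq, smul_smul, ← pow_succ]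
  rw [hpow k] at hk
  rcases smul_eq_zero.mp hk with h | h
  · rw [hsq]
    by_cases hk0 : k = 0
    · subst hk0
      simp at h
    · rw [(pow_eq_zero_iff hk0).mp h, zero_smul]
  · rw [h, mul_zero]

theorem exists_mul_of_castHom_eq_zero (p : ℕ) [Fact p.Prime] (z : ZMod (p ^ 2))
    (hz : ZMod.castHom (dvd_pow_self p two_ne_zero) (ZMod p) z = 0) :
    ∃ w : ZMod (p ^ 2), z = (p : ZMod (p ^ 2)) * w := by
  have hp : p.Prime := Fact.out
  have : NeZero (p ^ 2) := ⟨pow_ne_zero 2 hp.ne_zero⟩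
  rw [ZMod.castHom_apply, ZMod.cast_eq_val, ZMod.natCast_eq_zero_iff] at hz
  obtain ⟨k, hk⟩ := hz
  refine ⟨(k : ZMod (p ^ 2)), ?_⟩
  rw [← ZMod.natCast_zmod_val z, hk]
  push_cast
  rfl

theorem exists_mul_of_mul_eq_zero (p : ℕ) [Fact p.Prime] (z : ZMod (p ^ 2))
    (hz : (p : ZMod (p ^ 2)) * z = 0) :
    ∃ w : ZMod (p ^ 2), z = (p : ZMod (p ^ 2)) * w := by
  have hp : p.Prime := Fact.out
  have : NeZero (p ^ 2) := ⟨pow_ne_zero 2 hp.ne_zero⟩
  rw [← ZMod.natCast_zmod_val z, ← Nat.cast_mul, ZMod.natCast_eq_zero_iff] at hz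
  have h1 : p ∣ z.val := by
    have hz' : p * p ∣ p * z.val := by rw [← pow_two]; exact hz
    exact Nat.dvd_of_mul_dvd_mul_left hp.pos hz'
  obtain ⟨k, hk⟩ := h1
  refine ⟨(k : ZMod (p ^ 2)), ?_⟩
  rw [← ZMod.natCast_zmod_val z, hk]
  push_cast
  rfl

theorem p_sq_eq_zero (p : ℕ) : (p : ZMod (p ^ 2)) * (p : ZMod (p ^ 2)) = 0 := by
  rw [← Nat.cast_mul, ← pow_two, ZMod.natCast_self]


theorem pow_eq_pow_mul_sq {R : Type*} [Monoid R] (N : R) (m : ℕ) (hm : 2 ≤ m) :
    N ^ m = N ^ (m - 2) * (N * N) := by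
  obtain ⟨k, rfl⟩ : ∃ k, m = k + 2 := ⟨m - 2, by omega⟩
  rw [Nat.add_sub_cancel, pow_add, pow_two]

theorem pow_eq_zero_of_four_le {R : Type*} [MonoidWithZero R] (N : R)
    (h6 : (N * N) * (N * N) = 0) (m : ℕ) (hm : 4 ≤ m) : N ^ m = 0 := by
  obtain ⟨k, rfl⟩ : ∃ k, m = k + 2 + 2 := ⟨m - 4, by omega⟩
  rw [pow_add, pow_add, pow_two, mul_assoc, h6, mul_zero]

theorem sq_eq_zero_of_pow_eq_zero' {F : Type*} [Field F] (M : Matrix (Fin 2) (Fin 2) F) (k : ℕ)
    (hk0 : 0 < k) (hk : M ^ k = 0) : M * M = 0 := by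
  obtain ⟨j, rfl⟩ : ∃ j, k = j + 1 := ⟨k - 1, by omega⟩
  exact sq_eq_zero_of_pow_eq_zero M j hk


/-- main matrix lemma -/
theorem smul_sub_one_eq_zero (p : ℕ) [Fact p.Prime] (hp3 : 3 < p)
    (A : Matrix (Fin 2) (Fin 2) (ZMod (p ^ 2))) (hA : A ^ p = 1) :
    (p : ZMod (p ^ 2)) • (A - 1) = 0 := by
  have hp : p.Prime := Fact.out
  set N := A - 1 with hN
  have hAN : A = N + 1 := by rw [hN]; abel
  -- reduction mod p
  let ρ : Matrix (Fin 2) (Fin 2) (ZMod (p ^ 2)) →+* Matrix (Fin 2) (Fin 2) (ZMod p) :=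
    (ZMod.castHom (dvd_pow_self p two_ne_zero) (ZMod p)).mapMatrix
  have h1 : (ρ N + 1) ^ p = 1 := by
    have := congrArg ρ hA
    rw [map_pow, hAN, map_add, map_one] at this
    exact this
  have h2 : ρ N ^ p = 0 := by
    have hc : Commute (ρ N) 1 := Commute.one_right _
    rw [add_pow_char_of_commute _ hc, one_pow] at h1
    exact add_eq_right.mp h1
  have h3 : ρ N * ρ N = 0 := by
    exact sq_eq_zero_of_pow_eq_zero' _ p hp.pos h2
  -- entries of N² are multiples of p
  have h4 : ∀ i j, ∃ w : ZMod (p ^ 2), (N * N) i j = (p : ZMod (p ^ 2)) * w := by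
    intro i j
    apply exists_mul_of_castHom_eq_zero
    have := congrFun (congrFun h3 i) j
    rw [← map_mul] at this
    simpa [ρ, RingHom.mapMatrix_apply, Matrix.map_apply] using this
  have hpp := p_sq_eq_zero p
  -- p • N² = 0
  have h5 : (p : ZMod (p ^ 2)) • (N * N) = 0 := by
    ext i j
    obtain ⟨w, hw⟩ := h4 i j
    rw [Matrix.smul_apply, hw, smul_eq_mul, ← mul_assoc, hpp, zero_mul]
    rfl
  -- N² * N² = 0
  have h6 : (N * N) * (N * N) = 0 := by
    ext i j
    rw [Matrix.mul_apply]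
    apply Finset.sum_eq_zero
    intro k _
    obtain ⟨w, hw⟩ := h4 i k
    obtain ⟨w', hw'⟩ := h4 k j
    rw [hw, hw']
    have : (p : ZMod (p ^ 2)) * w * ((p : ZMod (p ^ 2)) * w') =
        ((p : ZMod (p ^ 2)) * (p : ZMod (p ^ 2))) * (w * w') := by ring
    rw [this, hpp, zero_mul]
  -- binomial expansion
  have hbin := (Commute.one_right N).add_pow p
  rw [← hAN, hA] at hbin
  have hterm : ∀ m ∈ Finset.range (p + 1), m ∉ ({0, 1} : Finset ℕ) →
      N ^ m * 1 ^ (p - m) * ((p.choose m : ℕ) : Matrix (Fin 2) (Fin 2) (ZMod (p ^ 2))) = 0 := by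
    intro m hm hm01
    rw [Finset.mem_range] at hm
    simp only [Finset.mem_insert, Finset.mem_singleton, not_or] at hm01
    have hm2 : 2 ≤ m := by omega
    rw [one_pow, mul_one]
    by_cases hmp : m = p
    · rw [pow_eq_zero_of_four_le N h6 m (by omega), zero_mul]
    · have hlt : m < p := by omega
      obtain ⟨c, hc⟩ := hp.dvd_choose_self (by omega) hlt
      rw [hc, Nat.cast_mul, pow_eq_pow_mul_sq N m hm2]
      have e : (N ^ (m - 2) * (N * N)) * ((p : Matrix (Fin 2) (Fin 2) (ZMod (p ^ 2))) * (c : Matrix (Fin 2) (Fin 2) (ZMod (p ^ 2))))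
          = N ^ (m - 2) * ((p : ZMod (p ^ 2)) • (N * N)) * (c : Matrix (Fin 2) (Fin 2) (ZMod (p ^ 2))) := by
        have hpc : (p : Matrix (Fin 2) (Fin 2) (ZMod (p ^ 2))) = (p : ZMod (p ^ 2)) • (1 : Matrix (Fin 2) (Fin 2) (ZMod (p ^ 2))) := by
          rw [Nat.cast_smul_eq_nsmul, nsmul_eq_mul, mul_one]
        rw [hpc]
        simp only [Matrix.smul_mul, Matrix.mul_smul, one_mul, mul_assoc]
      rw [e, h5, mul_zero, zero_mul]
  have hsub : ({0, 1} : Finset ℕ) ⊆ Finset.range (p + 1) := by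
    intro m hm
    simp only [Finset.mem_insert, Finset.mem_singleton] at hm
    rw [Finset.mem_range]
    omega
  rw [← Finset.sum_subset hsub hterm, Finset.sum_pair (by norm_num)] at hbin
  simp only [pow_zero, Nat.sub_zero, one_pow, mul_one, Nat.choose_zero_right, Nat.cast_one,
    pow_one, Nat.choose_one_right] at hbin
  -- hbin : 1 = 1 + N * p
  have h7 : N * (p : Matrix (Fin 2) (Fin 2) (ZMod (p ^ 2))) = 0 := by
    have := hbin
    rw [eq_comm, add_eq_left] at this
    exact this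
  ext i j
  have := congrFun (congrFun h7 i) j
  simp only [Matrix.smul_apply, smul_eq_mul, Matrix.zero_apply] at this ⊢
  rw [← this]
  have hpc : (p : Matrix (Fin 2) (Fin 2) (ZMod (p ^ 2))) = Matrix.diagonal (fun _ => (p : ZMod (p ^ 2))) := by
    ext i j
    simp [Matrix.diagonal_apply, Matrix.natCast_apply]
  rw [hpc, Matrix.mul_diagonal, mul_comm]

/-- endomorphism version -/
theorem end_smul_sub_one_eq_zero (p : ℕ) [Fact p.Prime] (hp3 : 3 < p)
    (F : Module.End (ZMod (p ^ 2)) (ZMod (p ^ 2) × ZMod (p ^ 2))) (hF : F ^ p = 1) :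
    (p : ZMod (p ^ 2)) • (F - 1) = 0 := by
  let e := LinearMap.toMatrixAlgEquiv (Module.Basis.finTwoProd (ZMod (p ^ 2)))
  have h1 : e F ^ p = 1 := by rw [← map_pow, hF, map_one]
  have h2 := smul_sub_one_eq_zero p hp3 (e F) h1
  apply e.injective
  rw [map_smul, map_sub, map_one, h2, map_zero]

/-- Let p > 3 be a prime and L the direct product of two cyclic groups of order p². Every automorphism of L of order p fixes every element of order p of L. -/
theorem result {p : ℕ} [Fact p.Prime] (hp : 3 < p)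
    (a : MulAut (Multiplicative (ZMod (p ^ 2) × ZMod (p ^ 2)))) (ha : orderOf a = p)
    (x : Multiplicative (ZMod (p ^ 2) × ZMod (p ^ 2))) (hx : orderOf x = p) : a x = x := by
  have hpp : p.Prime := Fact.out
  let f : (ZMod (p ^ 2) × ZMod (p ^ 2)) →+ (ZMod (p ^ 2) × ZMod (p ^ 2)) :=
    AddMonoidHom.toMultiplicative.symm a.toMonoidHom
  have hf : ∀ v, f v = Multiplicative.toAdd (a (Multiplicative.ofAdd v)) := fun v => rfl
  let F : Module.End (ZMod (p ^ 2)) (ZMod (p ^ 2) × ZMod (p ^ 2)) := f.toZModLinearMap (p ^ 2)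
  have hFf : ∀ v, F v = Multiplicative.toAdd (a (Multiplicative.ofAdd v)) := fun v => rfl
  have hpow : ∀ (k : ℕ) v, (F ^ k) v = Multiplicative.toAdd ((a ^ k) (Multiplicative.ofAdd v)) := by
    intro k
    induction k with
    | zero => intro v; simp
    | succ k ih =>
      intro v
      rw [pow_succ F k, Module.End.mul_apply, ih, hFf, pow_succ a k, MulAut.mul_apply, ofAdd_toAdd]
  have hF : F ^ p = 1 := by
    refine LinearMap.ext fun v => ?_
    have hap : a ^ p = 1 := by
      have := pow_orderOf_eq_one a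
      rwa [ha] at this
    rw [hpow, hap, MulAut.one_apply, toAdd_ofAdd, Module.End.one_apply]
  have h1 := end_smul_sub_one_eq_zero p hp F hF
  -- x = p • y
  have hx1 : x ^ p = 1 := by
    have := pow_orderOf_eq_one x
    rwa [hx] at this
  have hx2 : (p : ZMod (p ^ 2)) • Multiplicative.toAdd x = 0 := by
    have := congrArg Multiplicative.toAdd hx1
    rw [toAdd_pow, toAdd_one] at this
    rw [Nat.cast_smul_eq_nsmul]
    exact this
  obtain ⟨w1, hw1⟩ := exists_mul_of_mul_eq_zero p (Multiplicative.toAdd x).1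
    (by simpa using congrArg Prod.fst hx2)
  obtain ⟨w2, hw2⟩ := exists_mul_of_mul_eq_zero p (Multiplicative.toAdd x).2
    (by simpa using congrArg Prod.snd hx2)
  have hxy : Multiplicative.toAdd x = (p : ZMod (p ^ 2)) • ((w1, w2) : ZMod (p ^ 2) × ZMod (p ^ 2)) := by
    ext
    · simpa using hw1
    · simpa using hw2
  have h2 : F (Multiplicative.toAdd x) = Multiplicative.toAdd x := by
    have := LinearMap.congr_fun h1 (w1, w2)
    rw [LinearMap.smul_apply, LinearMap.sub_apply, Module.End.one_apply, smul_sub, LinearMap.zero_apply,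
      sub_eq_zero, ← map_smul, ← hxy] at this
    exact this
  rw [hFf, ofAdd_toAdd] at h2
  exact Multiplicative.toAdd.injective h2

end Cfsg.Agent.S4080
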