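import Cfsg.Statements.S4083
import Mathlib
import Cfsg.Agent.S3864
import Cfsg.Agent.S0228
import Cfsg.Agent.Lib.Helper73.QuatIso

set_option autoImplicit false
open Cfsg

namespace Cfsg.Agent.S4083

open Cfsg.Agent.S1255 Cfsg.Agent.S0514 Cfsg.Agent.S3864 Cfsg.Agent.Lib.Helper91

variable {G : Type*} [Group G]

/-- Data extracted from a subgroup `H` with a normal Sylow 2-subgroup `S₀` and cyclic quotient:
`c` is an element of odd order whose image generates `H / S₀`. -/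
structure Data (H S₀ : Subgroup G) (c : G) (m' : ℕ) : Prop where
  le : S₀ ≤ H
  norm : ∀ h ∈ H, ∀ s ∈ S₀, h * s * h⁻¹ ∈ S₀
  two : ∀ s ∈ S₀, ∃ k : ℕ, s ^ (2 ^ k) = 1
  all2 : ∀ x ∈ H, (∃ k : ℕ, x ^ (2 ^ k) = 1) → x ∈ S₀
  cH : c ∈ H
  odd : Odd m'
  cpow : c ^ m' = 1
  dec : ∀ h ∈ H, ∃ s ∈ S₀, ∃ i : ℕ, h = s * c ^ i

theorem coprime_two_pow_orderOf {c : G} {m' : ℕ} (hodd : Odd m') (hc : c ^ m' = 1) (k : ℕ) :
    (2 ^ k).Coprime (orderOf c) := by
  have hdvd : orderOf c ∣ m' := orderOf_dvd_of_pow_eq_one hc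
  have ho : Odd (orderOf c) := hodd.of_dvd_nat hdvd
  exact Nat.Coprime.pow_left k ho.coprime_two_left

theorem coprime_odd_orderOf {s : G} {m' k : ℕ} (hodd : Odd m') (hs : s ^ (2 ^ k) = 1) :
    m'.Coprime (orderOf s) := by
  have hdvd : orderOf s ∣ 2 ^ k := orderOf_dvd_of_pow_eq_one hs
  exact Nat.Coprime.coprime_dvd_right hdvd (Nat.Coprime.pow_right k hodd.coprime_two_right)

/-- An element of odd order in a 2-group is trivial. -/
theorem eq_one_of_odd_of_two {c : G} {m' k : ℕ} (hodd : Odd m') (hc : c ^ m' = 1)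
    (hk : c ^ (2 ^ k) = 1) : c = 1 := by
  have h1 : orderOf c ∣ m' := orderOf_dvd_of_pow_eq_one hc
  have h2 : orderOf c ∣ 2 ^ k := orderOf_dvd_of_pow_eq_one hk
  have hcop : Nat.Coprime m' (2 ^ k) := Nat.Coprime.pow_right k hodd.coprime_two_right
  have : orderOf c ∣ 1 := by
    have := Nat.dvd_gcd h1 h2
    rwa [hcop] at this
  exact orderOf_eq_one_iff.mp (Nat.dvd_one.mp this)

/-- The cyclic case: if `S₀` is cyclic and centralized by `c`, then `H` is cyclic. -/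
theorem cyclic_case {H S₀ : Subgroup G} {c : G} {m' : ℕ} (d : Data H S₀ c m') (s₀ : G)
    (hs₀ : s₀ ∈ S₀) (hgen : ∀ s ∈ S₀, s ∈ Subgroup.zpowers s₀) (hcs : c * s₀ * c⁻¹ = s₀) :
    IsCyclic ↥H := by
  have hcomm : Commute s₀ c := by
    have : c * s₀ = s₀ * c := by
      calc c * s₀ = (c * s₀ * c⁻¹) * c := by group
        _ = s₀ * c := by rw [hcs]
    exact this.symm
  obtain ⟨k, hk⟩ := d.two s₀ hs₀
  set x := s₀ * c with hx
  have hs₀x : s₀ ∈ Subgroup.zpowers x := by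
    have h1 : x ^ m' = s₀ ^ m' := by rw [hx, hcomm.mul_pow, d.cpow, mul_one]
    obtain ⟨u, hu⟩ := exists_pow_eq_self_of_coprime (coprime_odd_orderOf (s := s₀) d.odd hk)
    rw [← hu, ← h1]
    exact Subgroup.pow_mem _ (Subgroup.pow_mem _ (Subgroup.mem_zpowers x) _) _
  have hcx : c ∈ Subgroup.zpowers x := by
    have h1 : x ^ (2 ^ k) = c ^ (2 ^ k) := by rw [hx, hcomm.mul_pow, hk, one_mul]
    obtain ⟨u, hu⟩ := exists_pow_eq_self_of_coprime (coprime_two_pow_orderOf d.odd d.cpow k)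
    rw [← hu, ← h1]
    exact Subgroup.pow_mem _ (Subgroup.pow_mem _ (Subgroup.mem_zpowers x) _) _
  have hH : H = Subgroup.zpowers x := by
    apply le_antisymm
    · intro h hh
      obtain ⟨s, hs, i, rfl⟩ := d.dec h hh
      exact Subgroup.mul_mem _ (Subgroup.zpowers_le.mpr hs₀x (hgen s hs))
        (Subgroup.pow_mem _ hcx _)
    · exact Subgroup.zpowers_le.mpr (H.mul_mem (d.le hs₀) d.cH)
  rw [hH]
  exact Subgroup.isCyclic_zpowers x

/-- If `c = 1` then `H = S₀`. -/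
theorem eq_of_c_eq_one {H S₀ : Subgroup G} {c : G} {m' : ℕ} (d : Data H S₀ c m') (hc : c = 1) :
    H = S₀ := by
  apply le_antisymm
  · intro h hh
    obtain ⟨s, hs, i, rfl⟩ := d.dec h hh
    rw [hc, one_pow, mul_one]; exact hs
  · exact d.le

/-- Dihedral recognition inside a subgroup. -/
theorem dihedral_of_gens [Finite G] (D : Subgroup G) (ρ t : G) (hρ : ρ ∈ D) (ht : t ∈ D) (a : ℕ)
    (hρo : orderOf ρ = 2 ^ a) (htt : t * t = 1) (hinv : t * ρ * t⁻¹ = ρ⁻¹)
    (ht' : t ∉ Subgroup.zpowers ρ) (hcard : Nat.card D = 2 * 2 ^ a) :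
    Nonempty (↥D ≃* DihedralGroup (2 ^ a)) := by
  have h1 : (⟨ρ, hρ⟩ : D) ^ (2 ^ a) = 1 := by
    apply Subtype.ext
    rw [Subgroup.coe_pow, Subgroup.coe_one, ← hρo]
    exact pow_orderOf_eq_one ρ
  have h2 : (⟨t, ht⟩ : D) ^ 2 = 1 := by
    apply Subtype.ext
    rw [Subgroup.coe_pow, Subgroup.coe_one, pow_two]
    exact htt
  have h3 : (⟨t, ht⟩ : D) * ⟨ρ, hρ⟩ * (⟨t, ht⟩ : D)⁻¹ = (⟨ρ, hρ⟩ : D)⁻¹ := by
    apply Subtype.ext
    simp only [Subgroup.coe_mul, Subgroup.coe_inv]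
    exact hinv
  have ho : orderOf (⟨ρ, hρ⟩ : D) = 2 ^ a := by rw [Subgroup.orderOf_mk]; exact hρo
  have h4 : (⟨t, ht⟩ : D) ∉ Subgroup.zpowers (⟨ρ, hρ⟩ : D) := by
    rintro ⟨k, hk⟩
    apply ht'
    refine ⟨k, ?_⟩
    have := congrArg Subtype.val hk
    simpa using this
  have hgen := Cfsg.Agent.Lib.Helper73.zpowers_sup_zpowers_eq_top (⟨ρ, hρ⟩ : D) ⟨t, ht⟩
    (by rw [ho]; exact hcard) h4
  obtain ⟨e⟩ := Cfsg.Agent.Lib.Helper73.dihedral_equiv (⟨ρ, hρ⟩ : D) ⟨t, ht⟩ (2 ^ a)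
    (by positivity) h1 h2 h3 hgen hcard
  exact ⟨e.symm⟩

/-- An automorphism of order three of a Klein four-group has no non-identity fixed points. -/
theorem no_fixed (U : Subgroup G) (hU : IsKleinFour U) (x : G)
    (hxN : ∀ u ∈ U, x * u * x⁻¹ ∈ U) (hx3 : ∀ u ∈ U, x * (x * (x * u * x⁻¹) * x⁻¹) * x⁻¹ = u)
    (hxC : ∃ b₀ ∈ U, x * b₀ * x⁻¹ ≠ b₀) : ∀ a ∈ U, a ≠ 1 → x * a * x⁻¹ ≠ a := by
  have hsq : ∀ u ∈ U, u * u = 1 := fun u hu => Cfsg.Agent.Lib.Helper38.IsKleinFour_mul_self U hU hu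
  have hσinj : ∀ u v : G, x * u * x⁻¹ = x * v * x⁻¹ → u = v := by
    intro u v h
    have : u = x⁻¹ * (x * u * x⁻¹) * x := by group
    rw [this, h]; group
  have hσ1 : ∀ u : G, u ≠ 1 → x * u * x⁻¹ ≠ 1 := by
    intro u hu h
    apply hu
    apply hσinj
    rw [h]; group
  obtain ⟨b₀, hb₀U, hb₀⟩ := hxC
  intro a haU ha1 hfix
  have hb1 : b₀ ≠ 1 := by
    rintro rfl
    apply hb₀; group
  have hba : b₀ ≠ a := by
    rintro rfl
    exact hb₀ hfix
  have h1 : x * b₀ * x⁻¹ = a * b₀ := by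
    apply klein_third hU haU hb₀U (hxN _ hb₀U) ha1 hb1 (Ne.symm hba) (hσ1 _ hb1) _ hb₀
    intro h
    apply hba
    apply hσinj
    rw [h, hfix]
  have h2 : x * (x * b₀ * x⁻¹) * x⁻¹ = b₀ := by
    rw [h1]
    calc x * (a * b₀) * x⁻¹ = (x * a * x⁻¹) * (x * b₀ * x⁻¹) := by group
      _ = a * (a * b₀) := by rw [hfix, h1]
      _ = (a * a) * b₀ := by group
      _ = b₀ := by rw [hsq a haU, one_mul]
  have h3 := hx3 b₀ hb₀U
  rw [h2] at h3
  exact hb₀ h3

theorem refl_sq (P : Subgroup G) (m : ℕ) (e : P ≃* DihedralGroup m) {t : G} (ht : t ∈ P)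
    (htr : t ∉ rotS P m e) : t * t = 1 := by
  rw [mem_rotS P m e _ ht] at htr
  have h1 := not_rot_sq _ htr
  rw [← map_mul, ← map_one e] at h1
  exact congrArg Subtype.val (e.injective h1)

theorem refl_conj_rot (P : Subgroup G) (m : ℕ) (e : P ≃* DihedralGroup m) {t ρ : G} (ht : t ∈ P)
    (htr : t ∉ rotS P m e) (hρ : ρ ∈ rotS P m e) : t * ρ * t⁻¹ = ρ⁻¹ := by
  have hρP : ρ ∈ P := rotS_le P m e hρ
  rw [mem_rotS P m e _ ht] at htr
  rw [mem_rotS P m e _ hρP] at hρ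
  rw [← el_apply P m e t ht, ← el_apply P m e ρ hρP, el_conj, ← el_inv]
  congr 1
  rcases hy : e ⟨t, ht⟩ with i | i
  · exact absurd ⟨i, hy⟩ htr
  · obtain ⟨j, hj⟩ := hρ
    rw [hj, DihedralGroup.inv_sr, DihedralGroup.sr_mul_r, DihedralGroup.sr_mul_sr,
      DihedralGroup.inv_r]
    congr 1
    ring

theorem exists_gen_of_card_le_two [Finite G] (S₀ : Subgroup G) (h : Nat.card S₀ ≤ 2) :
    ∃ s₀ ∈ S₀, ∀ s ∈ S₀, s ∈ Subgroup.zpowers s₀ := by
  have hcyc : IsCyclic ↥S₀ := by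
    have hpos : 0 < Nat.card S₀ := Nat.card_pos
    rcases Nat.lt_or_ge (Nat.card S₀) 2 with h1 | h1
    · have : Nat.card S₀ = 1 := by omega
      have : Subsingleton ↥S₀ := (Nat.card_eq_one_iff_unique.mp this).1
      exact isCyclic_of_subsingleton
    · have : Nat.card S₀ = 2 := by omega
      have hf2 : Fact (Nat.Prime 2) := ⟨Nat.prime_two⟩
      exact isCyclic_of_prime_card this
  obtain ⟨g, hg⟩ := hcyc.exists_generator
  refine ⟨g.1, g.2, ?_⟩
  intro s hs
  obtain ⟨k, hk⟩ := hg ⟨s, hs⟩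
  refine ⟨k, ?_⟩
  have := congrArg Subtype.val hk
  simpa using this

theorem exists_gen_of_isCyclic (S₀ : Subgroup G) (hcyc : IsCyclic ↥S₀) :
    ∃ s₀ ∈ S₀, ∀ s ∈ S₀, s ∈ Subgroup.zpowers s₀ := by
  obtain ⟨g, hg⟩ := hcyc.exists_generator
  refine ⟨g.1, g.2, ?_⟩
  intro s hs
  obtain ⟨k, hk⟩ := hg ⟨s, hs⟩
  refine ⟨k, ?_⟩
  have := congrArg Subtype.val hk
  simpa using this

/-- A nontrivial element of `rotS` in a 2-subgroup forces the central involution to lie in it. -/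
theorem zz_mem_of_rot [Finite G] (P : Sylow 2 G) (m : ℕ) (hm : 2 ≤ m) (he : Even m)
    (e : (P : Subgroup G) ≃* DihedralGroup m) (S₀ : Subgroup G)
    (y : G) (hyS : y ∈ S₀) (hyr : y ∈ rotS (P : Subgroup G) m e) (hy1 : y ≠ 1)
    (hy2 : ∃ k : ℕ, y ^ (2 ^ k) = 1) : zz (P : Subgroup G) m e ∈ S₀ := by
  have hne : NeZero m := ⟨by omega⟩
  obtain ⟨k, hk⟩ := hy2
  obtain ⟨b, -, hyo⟩ := (Nat.dvd_prime_pow Nat.prime_two).mp (orderOf_dvd_of_pow_eq_one hk)
  have hb1 : b ≠ 0 := by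
    rintro rfl
    rw [pow_zero, orderOf_eq_one_iff] at hyo
    exact hy1 hyo
  obtain ⟨b', rfl⟩ := Nat.exists_eq_succ_of_ne_zero hb1
  have ho2 : orderOf (y ^ (2 ^ b')) = 2 := by
    apply orderOf_eq_prime
    · rw [← pow_mul, ← pow_succ, ← hyo]; exact pow_orderOf_eq_one y
    · apply pow_ne_one_of_lt_orderOf (by positivity)
      rw [hyo, pow_succ]
      have h0 : 0 < 2 ^ b' := by positivity
      omega
  have := rotS_involution_unique (P : Subgroup G) m e (Subgroup.pow_mem _ hyr _)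
    (zz_mem_rotS _ m e) ho2 (zz_orderOf _ m hm he e)
  rw [← this]; exact S₀.pow_mem hyS _

theorem dihedral_sub_case [Finite G] (P : Sylow 2 G) (m : ℕ) (hm : 2 ≤ m) (he : Even m)
    (e : (P : Subgroup G) ≃* DihedralGroup m) {H S₀ : Subgroup G} {c : G} {m' : ℕ}
    (d : Data H S₀ c m') (hSP : S₀ ≤ P)
    (hK : ∀ K : Subgroup G, K ≤ P → Nat.card K = 4 → (∀ k ∈ K, k ^ 2 = 1) →
      Subgroup.centralizer (K : Set G) = K)
    (hcent : ∀ q ∈ S₀, c * q * c⁻¹ = q) (t : G) (htS : t ∈ S₀)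
    (htr : t ∉ rotS (P : Subgroup G) m e)
    (y : G) (hyS : y ∈ S₀) (hyr : y ∈ rotS (P : Subgroup G) m e) (hy1 : y ≠ 1) :
    ∃ n : ℕ, Nonempty (↥H ≃* DihedralGroup (2 ^ n)) := by
  have hne : NeZero m := ⟨by omega⟩
  have hf2 : Fact (Nat.Prime 2) := ⟨Nat.prime_two⟩
  set z := zz (P : Subgroup G) m e with hz
  have hzS : z ∈ S₀ := zz_mem_of_rot P m hm he e S₀ y hyS hyr hy1 (d.two y hyS)
  have hzz : z * z = 1 := zz_mul_self _ m hm he e
  have hz1 : z ≠ 1 := zz_ne_one _ m hm he e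
  have htP : t ∈ (P : Subgroup G) := hSP htS
  have htt : t * t = 1 := refl_sq _ m e htP htr
  have ht1 : t ≠ 1 := by
    rintro rfl
    exact htr (Subgroup.one_mem _)
  have hzt : z * t = t * z := by
    have h1 := refl_conj_rot _ m e htP htr (zz_mem_rotS (P : Subgroup G) m e)
    have h2 : z⁻¹ = z := inv_eq_of_mul_eq_one_left hzz
    rw [h2] at h1
    calc z * t = (t * z * t⁻¹) * t := by rw [h1]
      _ = t * z := by group
  have hzt' : z ≠ t := by
    intro h
    rw [← h] at htr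
    exact htr (zz_mem_rotS _ m e)
  set K := Cfsg.Agent.Lib.Helper38.klein4 z t hzz htt hzt with hKdef
  have hKK : IsKleinFour K := Cfsg.Agent.Lib.Helper38.isKleinFour_klein4 z t hzz htt hzt hz1 ht1 hzt'
  have hKS : K ≤ S₀ := by
    intro x hx
    rw [hKdef, Cfsg.Agent.Lib.Helper38.mem_klein4] at hx
    rcases hx with rfl | rfl | rfl | rfl
    · exact S₀.one_mem
    · exact hzS
    · exact htS
    · exact S₀.mul_mem hzS htS
  have hKc := hK K (hKS.trans hSP) hKK.card_four (by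
    intro k hk
    rw [pow_two]
    exact Cfsg.Agent.Lib.Helper38.IsKleinFour_mul_self K hKK hk)
  have hcK : c ∈ K := by
    rw [← hKc, Subgroup.mem_centralizer_iff]
    intro k hk
    have := hcent k (hKS hk)
    calc k * c = (c * k * c⁻¹) * c := by rw [this]
      _ = c * k := by group
  have hc1 : c = 1 := by
    obtain ⟨k, hk⟩ := d.two c (hKS hcK)
    exact eq_one_of_odd_of_two d.odd d.cpow hk
  have hHS : H = S₀ := eq_of_c_eq_one d hc1
  -- generator of the rotation part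
  have hAcyc : IsCyclic ↥(S₀ ⊓ rotS (P : Subgroup G) m e) := by
    have := rotS_cyclic (P : Subgroup G) m e
    exact Subgroup.isCyclic_of_le (inf_le_right : S₀ ⊓ rotS (P : Subgroup G) m e ≤ rotS (P : Subgroup G) m e)
  obtain ⟨ρ, hρA, hρgen⟩ := exists_gen_of_isCyclic _ hAcyc
  have hAeq : S₀ ⊓ rotS (P : Subgroup G) m e = Subgroup.zpowers ρ :=
    le_antisymm (fun x hx => hρgen x hx) (Subgroup.zpowers_le.mpr hρA)
  obtain ⟨k, hk⟩ := d.two ρ hρA.1
  obtain ⟨a, -, hρo⟩ := (Nat.dvd_prime_pow Nat.prime_two).mp (orderOf_dvd_of_pow_eq_one hk)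
  have hrel : (Subgroup.zpowers ρ).relIndex S₀ = 2 := by
    rw [← hAeq, Subgroup.relIndex_eq_two_iff_exists_notMem_and']
    refine ⟨t, htS, fun h => htr h.2, ?_⟩
    intro b hb
    by_cases hbr : b ∈ rotS (P : Subgroup G) m e
    · right; exact ⟨hb, hbr⟩
    · left
      exact ⟨S₀.mul_mem htS hb, rotS_mul_mem _ m e htP (hSP hb) htr hbr⟩
  have hρS : Subgroup.zpowers ρ ≤ S₀ := Subgroup.zpowers_le.mpr hρA.1
  have hcard : Nat.card S₀ = 2 * 2 ^ a := by
    have h1 := Subgroup.card_mul_index ((Subgroup.zpowers ρ).subgroupOf S₀)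
    rw [card_subgroupOf_of_le hρS] at h1
    have h2 : ((Subgroup.zpowers ρ).subgroupOf S₀).index = 2 := hrel
    rw [h2, Nat.card_zpowers, hρo] at h1
    omega
  refine ⟨a, ?_⟩
  rw [hHS]
  exact dihedral_of_gens S₀ ρ t hρA.1 htS a hρo htt
    (refl_conj_rot _ m e htP htr hρA.2)
    (fun h => htr ((hAeq ▸ (inf_le_right : S₀ ⊓ rotS (P : Subgroup G) m e ≤ rotS (P : Subgroup G) m e)) h)) hcard

theorem klein_trivial_case [Finite G] {H S₀ : Subgroup G} (hHS : H = S₀)
    (hK4 : IsKleinFour S₀) : ∃ n : ℕ, Nonempty (↥H ≃* DihedralGroup (2 ^ n)) := by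
  obtain ⟨a, b, haU, hbU, ha1, hb1, hab1, hab, haab, hbab, hsq, hcomm, hall⟩ :=
    Cfsg.Agent.S0202.exists_fourData S₀
  refine ⟨1, ?_⟩
  rw [hHS]
  have ha2 : a ^ 2 = 1 := by rw [pow_two]; exact hsq a haU
  apply dihedral_of_gens S₀ a b haU hbU 1
  · rw [pow_one]; exact orderOf_two_of_sq ha1 (hsq a haU)
  · exact hsq b hbU
  · have h2 : a⁻¹ = a := inv_eq_of_mul_eq_one_left (hsq a haU)
    rw [h2, hcomm b hbU a haU]; group
  · rintro ⟨k, hk⟩
    simp only at hk
    rcases zpow_eq_one_or_self_of_sq ha2 k with h | h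
    · rw [h] at hk; exact hb1 hk.symm
    · rw [h] at hk; exact hab hk
  · rw [hK4.card_four]; norm_num

theorem a4_case [Finite G] {H S₀ : Subgroup G} {c : G} {m' : ℕ} (d : Data H S₀ c m')
    (hK4 : IsKleinFour S₀) (hcent : Subgroup.centralizer (S₀ : Set G) = S₀)
    (hnc : ¬ ∀ q ∈ S₀, c * q * c⁻¹ = q) : Nonempty (↥H ≃* alternatingGroup (Fin 4)) := by
  have hcN : c ∈ Subgroup.normalizer (S₀ : Set G) :=
    Subgroup.mem_normalizer_fintype (fun u hu => d.norm c d.cH u hu)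
  -- c ^ 6 centralizes S₀
  have h6C : c ^ 6 ∈ Subgroup.centralizer (S₀ : Set G) := by
    have hdvd := Cfsg.Agent.Lib.Helper20.QDF.relIndex_dvd_six S₀ hK4
    obtain ⟨k, hk⟩ := hdvd
    have hq : (QuotientGroup.mk (⟨c, hcN⟩ : Subgroup.normalizer (S₀ : Set G)) :
        Subgroup.normalizer (S₀ : Set G) ⧸
          (Subgroup.centralizer (S₀ : Set G)).subgroupOf (Subgroup.normalizer (S₀ : Set G))) ^ 6 = 1 := by
      rw [hk, pow_mul]
      have : (Subgroup.centralizer (S₀ : Set G)).relIndex (Subgroup.normalizer (S₀ : Set G)) =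
          Nat.card (Subgroup.normalizer (S₀ : Set G) ⧸
          (Subgroup.centralizer (S₀ : Set G)).subgroupOf (Subgroup.normalizer (S₀ : Set G))) := by
        rw [← Subgroup.index_eq_card]; rfl
      rw [this, pow_card_eq_one', one_pow]
    rw [← QuotientGroup.mk_pow, QuotientGroup.eq_one_iff] at hq
    exact hq
  have h6 : c ^ 6 = 1 := by
    rw [hcent] at h6C
    obtain ⟨k, hk⟩ := d.two _ h6C
    have h1 : (c ^ 6) ^ m' = 1 := by rw [← pow_mul, mul_comm, pow_mul, d.cpow, one_pow]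
    exact eq_one_of_odd_of_two d.odd h1 hk
  have h3 : c ^ 3 = 1 := by
    have hd6 : orderOf c ∣ 6 := orderOf_dvd_of_pow_eq_one h6
    have hdm : orderOf c ∣ m' := orderOf_dvd_of_pow_eq_one d.cpow
    have hodd : Odd (orderOf c) := d.odd.of_dvd_nat hdm
    have hd3 : orderOf c ∣ 3 := by
      have hle := Nat.le_of_dvd (by norm_num) hd6
      have hpos := orderOf_pos c
      interval_cases h : orderOf c
      · norm_num
      · exact absurd hodd (by decide)
      · norm_num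
      · norm_num at hd6
      · norm_num at hd6
      · exact absurd hodd (by decide)
    exact orderOf_dvd_iff_pow_eq_one.mp hd3
  have hx3 : ∀ u ∈ S₀, c * (c * (c * u * c⁻¹) * c⁻¹) * c⁻¹ = u := by
    intro u _
    have e3 : c * c * c = 1 := by rw [← h3, pow_succ, pow_two]
    calc c * (c * (c * u * c⁻¹) * c⁻¹) * c⁻¹ = (c * c * c) * u * (c * c * c)⁻¹ := by group
      _ = u := by rw [e3]; group
  have hxC : ∃ b₀ ∈ S₀, c * b₀ * c⁻¹ ≠ b₀ := by
    by_contra hcon
    apply hnc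
    intro q hq
    by_contra h
    exact hcon ⟨q, hq, h⟩
  have hfree := no_fixed S₀ hK4 c (fun u hu => d.norm c d.cH u hu) hx3 hxC
  have hc1 : c ≠ 1 := by
    rintro rfl
    obtain ⟨b₀, _, hb₀⟩ := hxC
    apply hb₀; group
  have hf3 : Fact (Nat.Prime 3) := ⟨Nat.prime_three⟩
  have hoc : orderOf c = 3 := orderOf_eq_prime h3 hc1
  -- the order of H
  have hcardH : Nat.card H = 12 := by
    have h4 : 4 ∣ Nat.card H := by
      rw [← hK4.card_four]; exact Subgroup.card_dvd_of_le d.le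
    have h3' : 3 ∣ Nat.card H := by
      rw [← hoc, ← Nat.card_zpowers]
      exact Subgroup.card_dvd_of_le (Subgroup.zpowers_le.mpr d.cH)
    have h12 : 12 ∣ Nat.card H :=
      (by norm_num : (12 : ℕ) = 4 * 3) ▸ Nat.Coprime.mul_dvd_of_dvd_of_dvd (by norm_num) h4 h3'
    have hle : Nat.card H ≤ 12 := by
      let f : S₀ × Fin 3 → H := fun p =>
        ⟨(p.1 : G) * c ^ (p.2 : ℕ), H.mul_mem (d.le p.1.2) (H.pow_mem d.cH _)⟩
      have hf : Function.Surjective f := by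
        rintro ⟨h, hh⟩
        obtain ⟨s, hs, i, rfl⟩ := d.dec h hh
        refine ⟨(⟨s, hs⟩, ⟨i % 3, Nat.mod_lt _ (by norm_num)⟩), ?_⟩
        apply Subtype.ext
        show s * c ^ (i % 3) = s * c ^ i
        rw [← pow_eq_pow_mod i h3]
      have := Nat.card_le_card_of_surjective f hf
      rw [Nat.card_prod, hK4.card_four, Nat.card_fin] at this
      exact this
    have hpos : 0 < Nat.card H := Nat.card_pos
    obtain ⟨k, hk⟩ := h12
    have : k = 1 := by nlinarith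
    rw [hk, this]
  apply Cfsg.Agent.S0228.result hcardH
  intro u hu2 hucen
  have huS : (u : G) ∈ S₀ := by
    apply d.all2 _ u.2
    refine ⟨1, ?_⟩
    rw [pow_one, ← hu2, ← Subgroup.orderOf_coe]
    exact pow_orderOf_eq_one _
  have hu1 : (u : G) ≠ 1 := by
    intro h
    have : u = 1 := Subtype.ext h
    rw [this, orderOf_one] at hu2
    norm_num at hu2
  have hcu := (Subgroup.mem_center_iff.mp hucen) ⟨c, d.cH⟩
  have hcu' : c * (u : G) = (u : G) * c := congrArg Subtype.val hcu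
  apply hfree _ huS hu1
  rw [hcu']; group

theorem dihedral_case [Finite G] (P : Sylow 2 G) (m : ℕ) (hm : 2 ≤ m) (he : Even m)
    (e : (P : Subgroup G) ≃* DihedralGroup m) {H S₀ : Subgroup G} {c : G} {m' : ℕ}
    (d : Data H S₀ c m') (hSP : S₀ ≤ P)
    (hK : ∀ K : Subgroup G, K ≤ P → Nat.card K = 4 → (∀ k ∈ K, k ^ 2 = 1) →
      Subgroup.centralizer (K : Set G) = K) :
    IsCyclic ↥H ∨ (∃ n : ℕ, Nonempty (↥H ≃* DihedralGroup (2 ^ n))) ∨
      Nonempty (↥H ≃* alternatingGroup (Fin 4)) := by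
  have hne : NeZero m := ⟨by omega⟩
  have hcQ : ∀ q ∈ S₀, c * q * c⁻¹ ∈ S₀ := fun q hq => d.norm c d.cH q hq
  rcases centralizes_or_exponent_two (P : Subgroup G) m e S₀ hSP d.two c m' d.odd d.cpow hcQ with
    hcent | ⟨hsq, c₁, hc₁, hhalf⟩
  · by_cases hrot : S₀ ≤ rotS (P : Subgroup G) m e
    · left
      have := rotS_cyclic (P : Subgroup G) m e
      obtain ⟨s₀, hs₀, hgen⟩ := exists_gen_of_isCyclic S₀ (Subgroup.isCyclic_of_le hrot)
      exact cyclic_case d s₀ hs₀ hgen (hcent s₀ hs₀)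
    · rw [SetLike.not_le_iff_exists] at hrot
      obtain ⟨t, htS, htr⟩ := hrot
      by_cases hbot : ∃ y ∈ S₀, y ∈ rotS (P : Subgroup G) m e ∧ y ≠ 1
      · obtain ⟨y, hyS, hyr, hy1⟩ := hbot
        right; left
        exact dihedral_sub_case P m hm he e d hSP hK hcent t htS htr y hyS hyr hy1
      · left
        have hgen : ∀ s ∈ S₀, s ∈ Subgroup.zpowers t := by
          intro s hs
          by_cases hsr : s ∈ rotS (P : Subgroup G) m e
          · have : s = 1 := by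
              by_contra h
              exact hbot ⟨s, hs, hsr, h⟩
            rw [this]; exact Subgroup.one_mem _
          · have h1 := rotS_mul_mem (P : Subgroup G) m e (hSP htS) (hSP hs) htr hsr
            have h2 : t * s = 1 := by
              by_contra h
              exact hbot ⟨t * s, S₀.mul_mem htS hs, h1, h⟩
            have h3 : s = t⁻¹ := (inv_eq_of_mul_eq_one_right h2).symm
            rw [h3]; exact Subgroup.inv_mem _ (Subgroup.mem_zpowers t)
        exact cyclic_case d t htS hgen (hcent t htS)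
  · rcases Cfsg.Agent.S1254.klein_or_small S₀ hsq c₁ hc₁ hhalf with h2 | h4
    · left
      obtain ⟨s₀, hs₀, hgen⟩ := exists_gen_of_card_le_two S₀ h2
      exact cyclic_case d s₀ hs₀ hgen
        (Cfsg.Agent.S1254.centralizes_of_card_le_two S₀ h2 c hcQ s₀ hs₀)
    · have hcentS := hK S₀ hSP h4.card_four (fun k hk => by rw [pow_two]; exact hsq k hk)
      by_cases hcc : ∀ q ∈ S₀, c * q * c⁻¹ = q
      · right; left
        have hcS : c ∈ S₀ := by
          rw [← hcentS, Subgroup.mem_centralizer_iff]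
          intro k hk
          have := hcc k hk
          calc k * c = (c * k * c⁻¹) * c := by rw [this]
            _ = c * k := by group
        have hc1 : c = 1 := by
          obtain ⟨k, hk⟩ := d.two c hcS
          exact eq_one_of_odd_of_two d.odd d.cpow hk
        exact klein_trivial_case (eq_of_c_eq_one d hc1) h4
      · right; right
        exact a4_case d h4 hcentS hcc

theorem cyclicP_case [Finite G] (P : Sylow 2 G) (hP : IsCyclic ↥(P : Subgroup G))
    {H S₀ : Subgroup G} {c : G} {m' : ℕ} (d : Data H S₀ c m') (hSP : S₀ ≤ P) : IsCyclic ↥H := by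
  obtain ⟨s₀, hs₀, hgen⟩ := exists_gen_of_isCyclic S₀ (Subgroup.isCyclic_of_le hSP)
  obtain ⟨k, hk⟩ := d.two s₀ hs₀
  obtain ⟨b, -, hb⟩ := (Nat.dvd_prime_pow Nat.prime_two).mp (orderOf_dvd_of_pow_eq_one hk)
  have := lemmaD c m' d.odd d.cpow b s₀ hb (hgen _ (d.norm c d.cH s₀ hs₀))
  exact cyclic_case d s₀ hs₀ hgen this

/-- Extraction of the data from a subgroup with normal Sylow 2-subgroup and cyclic quotient. -/
theorem exists_data [Finite G] (H : Subgroup G) (S : Sylow 2 ↥H)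
    (hSn : (S : Subgroup ↥H).Normal) (hcyc : IsCyclic (↥H ⧸ (S : Subgroup ↥H))) :
    ∃ (c : G) (m' : ℕ), Data H ((S : Subgroup ↥H).map H.subtype) c m' := by
  have hf2 : Fact (Nat.Prime 2) := ⟨Nat.prime_two⟩
  obtain ⟨q, hq⟩ := hcyc.exists_generator
  obtain ⟨h₀, rfl⟩ := QuotientGroup.mk_surjective q
  have ho0 : orderOf h₀ ≠ 0 := (orderOf_pos h₀).ne'
  obtain ⟨k, m', hm'odd, hkm⟩ := Nat.exists_eq_two_pow_mul_odd ho0
  set c' : ↥H := h₀ ^ (2 ^ k) with hc'
  have hc'pow : c' ^ m' = 1 := by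
    rw [hc', ← pow_mul, ← hkm]; exact pow_orderOf_eq_one h₀
  -- the quotient has odd order
  have hqodd : (2 ^ k).Coprime (orderOf (QuotientGroup.mk h₀ : ↥H ⧸ (S : Subgroup ↥H))) := by
    have hdvd : orderOf (QuotientGroup.mk h₀ : ↥H ⧸ (S : Subgroup ↥H)) ∣
        (S : Subgroup ↥H).index := by
      rw [Subgroup.index_eq_card]; exact orderOf_dvd_natCard _
    have hnd : ¬ 2 ∣ (S : Subgroup ↥H).index := S.not_dvd_index
    have h2 : Nat.Coprime 2 (orderOf (QuotientGroup.mk h₀ : ↥H ⧸ (S : Subgroup ↥H))) := by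
      rw [Nat.Prime.coprime_iff_not_dvd Nat.prime_two]
      exact fun h => hnd (dvd_trans h hdvd)
    exact Nat.Coprime.pow_left k h2
  obtain ⟨u, hu⟩ := exists_pow_eq_self_of_coprime hqodd
  refine ⟨(c' : G), m', ?_⟩
  refine ⟨Subgroup.map_subtype_le _, ?_, ?_, ?_, c'.2, hm'odd, ?_, ?_⟩
  · rintro h hh _ ⟨s', hs', rfl⟩
    refine ⟨(⟨h, hh⟩ : ↥H) * s' * (⟨h, hh⟩ : ↥H)⁻¹, hSn.conj_mem s' hs' _, ?_⟩
    simp
  · rintro _ ⟨s', hs', rfl⟩
    obtain ⟨j, hj⟩ := S.isPGroup' ⟨s', hs'⟩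
    refine ⟨j, ?_⟩
    have := congrArg Subtype.val hj
    have h2 := congrArg (H.subtype) this
    simpa using h2
  · intro x hx ⟨j, hj⟩
    have hx' : (⟨x, hx⟩ : ↥H) ^ (2 ^ j) = 1 := Subtype.ext (by simpa using hj)
    have hpg : IsPGroup 2 (Subgroup.zpowers (⟨x, hx⟩ : ↥H)) := by
      obtain ⟨b, -, hb⟩ := (Nat.dvd_prime_pow Nat.prime_two).mp (orderOf_dvd_of_pow_eq_one hx')
      apply IsPGroup.of_card (n := b)
      rw [Nat.card_zpowers, hb]
    obtain ⟨Q, hQ⟩ := hpg.exists_le_sylow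
    have huniq := Sylow.unique_of_normal S hSn
    have hQS : Q = S := Subsingleton.elim _ _
    rw [hQS] at hQ
    exact ⟨⟨x, hx⟩, hQ (Subgroup.mem_zpowers _), rfl⟩
  · have := congrArg Subtype.val hc'pow
    simpa using this
  · intro h hh
    have hmem := hq (QuotientGroup.mk (⟨h, hh⟩ : ↥H))
    rw [← (isOfFinOrder_of_finite _).mem_powers_iff_mem_zpowers] at hmem
    obtain ⟨n, hn⟩ := hmem
    simp only at hn
    -- mk h = (mk c')^(u n)
    have h1 : (QuotientGroup.mk (⟨h, hh⟩ : ↥H) : ↥H ⧸ (S : Subgroup ↥H)) =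
        QuotientGroup.mk (c' ^ (u * n)) := by
      rw [← hn, QuotientGroup.mk_pow, pow_mul, hc', QuotientGroup.mk_pow, hu]
    have h2 : (⟨h, hh⟩ : ↥H) * (c' ^ (u * n))⁻¹ ∈ (S : Subgroup ↥H) := by
      rw [← QuotientGroup.eq_one_iff, QuotientGroup.mk_mul, h1, QuotientGroup.mk_inv]
      exact mul_inv_cancel _
    refine ⟨_, ⟨_, h2, rfl⟩, u * n, ?_⟩
    simp

/-- the right-hand side property -/
def Phi (P : Subgroup G) : Prop :=
  IsCyclic ↥P ∨ ((∃ n : ℕ, 1 ≤ n ∧ Nonempty (↥P ≃* DihedralGroup (2 ^ n))) ∧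
    ∀ K : Subgroup G, K ≤ P → Nat.card K = 4 → (∀ k ∈ K, k ^ 2 = 1) →
      Subgroup.centralizer (K : Set G) = K)

theorem Phi_conj (P : Sylow 2 G) (g : G) (h : Phi (P : Subgroup G)) :
    Phi ((g • P : Sylow 2 G) : Subgroup G) := by
  have eqv : ↥(P : Subgroup G) ≃* ↥((g • P : Sylow 2 G) : Subgroup G) := Sylow.equivSMul P g
  rcases h with h | ⟨⟨n, hn, ⟨e⟩⟩, hK⟩
  · left; exact (MulEquiv.isCyclic eqv).mp h
  · right
    refine ⟨⟨n, hn, ⟨eqv.symm.trans e⟩⟩, ?_⟩
    intro K hKP hK4 hKexp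
    set K₀ : Subgroup G := K.map (MulAut.conj g⁻¹).toMonoidHom with hK₀
    have hmem : ∀ x, x ∈ K₀ ↔ g * x * g⁻¹ ∈ K := by
      intro x
      constructor
      · rintro ⟨k, hk, rfl⟩
        have : g * ((MulAut.conj g⁻¹).toMonoidHom k) * g⁻¹ = k := by
          simp only [MulEquiv.toMonoidHom_eq_coe, MonoidHom.coe_coe, MulAut.conj_apply]
          group
        rw [this]; exact hk
      · intro hx
        refine ⟨g * x * g⁻¹, hx, ?_⟩
        simp only [MulEquiv.toMonoidHom_eq_coe, MonoidHom.coe_coe, MulAut.conj_apply]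
        group
    have hK₀P : K₀ ≤ P := by
      intro x hx
      have h1 : g * x * g⁻¹ ∈ ((g • P : Sylow 2 G) : Subgroup G) := hKP ((hmem x).mp hx)
      rw [Sylow.coe_subgroup_smul, Subgroup.mem_smul_pointwise_iff_exists] at h1
      obtain ⟨p, hp, hpx⟩ := h1
      have h2 : g * p * g⁻¹ = g * x * g⁻¹ := by
        rw [← hpx]; simp [MulAut.smul_def, MulAut.conj_apply]
      have h3 : p = x := by
        have : p = g⁻¹ * (g * p * g⁻¹) * g := by group
        rw [this, h2]; group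
      rw [← h3]; exact hp
    have hcard : Nat.card K₀ = 4 := by
      rw [← hK4]
      exact Nat.card_congr
        (K.equivMapOfInjective _ (MulAut.conj g⁻¹).injective).symm.toEquiv
    have hexp : ∀ k ∈ K₀, k ^ 2 = 1 := by
      intro k hk
      have h1 := hKexp _ ((hmem k).mp hk)
      rw [conj_pow] at h1
      have : k ^ 2 = g⁻¹ * (g * k ^ 2 * g⁻¹) * g := by group
      rw [this, h1]; group
    have hC := hK K₀ hK₀P hcard hexp
    ext x
    constructor
    · intro hx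
      have h1 : g⁻¹ * x * g ∈ Subgroup.centralizer (K₀ : Set G) := by
        rw [Subgroup.mem_centralizer_iff]
        intro k hk
        have h2 := (Subgroup.mem_centralizer_iff.mp hx) _ ((hmem k).mp hk)
        calc k * (g⁻¹ * x * g) = g⁻¹ * ((g * k * g⁻¹) * x) * g := by group
          _ = g⁻¹ * (x * (g * k * g⁻¹)) * g := by rw [h2]
          _ = g⁻¹ * x * g * k := by group
      rw [hC, hmem] at h1
      have : g * (g⁻¹ * x * g) * g⁻¹ = x := by group
      rw [this] at h1; exact h1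
    · intro hx
      have h1 : g⁻¹ * x * g ∈ K₀ := by
        rw [hmem]
        have : g * (g⁻¹ * x * g) * g⁻¹ = x := by group
        rw [this]; exact hx
      rw [← hC, Subgroup.mem_centralizer_iff] at h1
      rw [Subgroup.mem_centralizer_iff]
      intro k hk
      have h2 := h1 (g⁻¹ * k * g) (by
        show g⁻¹ * k * g ∈ K₀
        rw [hmem]
        have : g * (g⁻¹ * k * g) * g⁻¹ = k := by group
        rw [this]; exact hk)
      calc k * x = g * ((g⁻¹ * k * g) * (g⁻¹ * x * g)) * g⁻¹ := by group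
        _ = g * ((g⁻¹ * x * g) * (g⁻¹ * k * g)) * g⁻¹ := by rw [h2]
        _ = x * k := by group

theorem backward [Finite G] (P : Sylow 2 G) (hΦ : Phi (P : Subgroup G)) (H : Subgroup G)
    (h1 : ∀ S : Sylow 2 ↥H, (S : Subgroup ↥H).Normal)
    (h2 : ∀ (S : Sylow 2 ↥H) [(S : Subgroup ↥H).Normal], IsCyclic (↥H ⧸ (S : Subgroup ↥H))) :
    IsCyclic H ∨ (∃ n : ℕ, Nonempty (H ≃* DihedralGroup (2 ^ n))) ∨
      Nonempty (H ≃* alternatingGroup (Fin 4)) := by
  have hf2 : Fact (Nat.Prime 2) := ⟨Nat.prime_two⟩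
  obtain ⟨S⟩ : Nonempty (Sylow 2 ↥H) := inferInstance
  have hSn := h1 S
  have hcyc := @h2 S hSn
  obtain ⟨c, m', d⟩ := exists_data H S hSn hcyc
  have hS₀p : IsPGroup 2 ((S : Subgroup ↥H).map H.subtype) := S.isPGroup'.map _
  obtain ⟨P', hP'⟩ := hS₀p.exists_le_sylow
  obtain ⟨g, hg⟩ := MulAction.exists_smul_eq G P P'
  have hΦ' : Phi (P' : Subgroup G) := hg ▸ Phi_conj P g hΦ
  rcases hΦ' with hc | ⟨⟨n, hn, ⟨e⟩⟩, hK⟩
  · left; exact cyclicP_case P' hc d hP'
  · have hm : 2 ≤ 2 ^ n := by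
      calc 2 = 2 ^ 1 := by norm_num
        _ ≤ 2 ^ n := Nat.pow_le_pow_right (by norm_num) hn
    have he : Even (2 ^ n) := by
      obtain ⟨k, rfl⟩ : ∃ k, n = k + 1 := ⟨n - 1, by omega⟩
      exact ⟨2 ^ k, by rw [pow_succ]; ring⟩
    exact dihedral_case P' (2 ^ n) hm he e d hP' hK


theorem sylow_top_of_isPGroup {H : Type*} [Group H] (hH : IsPGroup 2 H) (S : Sylow 2 H) :
    (S : Subgroup H) = ⊤ :=
  (S.is_maximal' (hH.to_subgroup ⊤) le_top).symm

theorem a4_not_comm : ¬ ∀ a b : alternatingGroup (Fin 4), a * b = b * a := by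
  decide

theorem trichotomy_of_isPGroup [Finite G]
    (hyp : ∀ H : Subgroup G, (∀ S : Sylow 2 ↥H, (S : Subgroup ↥H).Normal) →
        (∀ (S : Sylow 2 ↥H) [(S : Subgroup ↥H).Normal], IsCyclic (↥H ⧸ (S : Subgroup ↥H))) →
        IsCyclic H ∨ (∃ n : ℕ, Nonempty (H ≃* DihedralGroup (2 ^ n))) ∨
          Nonempty (H ≃* alternatingGroup (Fin 4)))
    (H : Subgroup G) (hH : IsPGroup 2 ↥H) :
    IsCyclic H ∨ (∃ n : ℕ, Nonempty (H ≃* DihedralGroup (2 ^ n))) := by
  have htop : ∀ S : Sylow 2 ↥H, (S : Subgroup ↥H) = ⊤ := fun S => sylow_top_of_isPGroup hH S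
  rcases hyp H (fun S => by rw [htop S]; infer_instance) (fun S _ => by
      have h1 : Nat.card (↥H ⧸ (S : Subgroup ↥H)) = 1 := by
        rw [← Subgroup.index_eq_card, htop S, Subgroup.index_top]
      have := (Nat.card_eq_one_iff_unique.mp h1).1
      exact isCyclic_of_subsingleton) with h | h | ⟨⟨e⟩⟩
  · exact Or.inl h
  · exact Or.inr h
  · exfalso
    have h12 : Nat.card ↥H = 12 := by
      rw [Nat.card_congr e.toEquiv, nat_card_alternatingGroup]
      simp [Nat.factorial]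
    obtain ⟨k, hk⟩ := IsPGroup.iff_card.mp hH
    rw [h12] at hk
    have h3 : 3 ∣ 2 ^ k := by rw [← hk]; norm_num
    have := Nat.Prime.dvd_of_dvd_pow Nat.prime_three h3
    omega

theorem centralizer_eq [Finite G]
    (hyp : ∀ H : Subgroup G, (∀ S : Sylow 2 ↥H, (S : Subgroup ↥H).Normal) →
        (∀ (S : Sylow 2 ↥H) [(S : Subgroup ↥H).Normal], IsCyclic (↥H ⧸ (S : Subgroup ↥H))) →
        IsCyclic H ∨ (∃ n : ℕ, Nonempty (H ≃* DihedralGroup (2 ^ n))) ∨
          Nonempty (H ≃* alternatingGroup (Fin 4)))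
    (K : Subgroup G) (hK4 : Nat.card K = 4) (hKexp : ∀ k ∈ K, k ^ 2 = 1) :
    Subgroup.centralizer (K : Set G) = K := by
  have hf2 : Fact (Nat.Prime 2) := ⟨Nat.prime_two⟩
  have hinv : ∀ a ∈ K, a⁻¹ = a := by
    intro a ha
    rw [inv_eq_iff_mul_eq_one, ← sq]; exact hKexp a ha
  have hKcomm : ∀ a ∈ K, ∀ b ∈ K, a * b = b * a := by
    intro a ha b hb
    calc a * b = (a * b)⁻¹ := (hinv _ (K.mul_mem ha hb)).symm
      _ = b⁻¹ * a⁻¹ := mul_inv_rev _ _
      _ = b * a := by rw [hinv a ha, hinv b hb]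
  apply le_antisymm
  · intro c hc
    rw [Subgroup.mem_centralizer_iff] at hc
    have hkc : ∀ k ∈ K, ∀ i : ℤ, Commute k (c ^ i) := fun k hk i =>
      (show Commute k c from hc k hk).zpow_right i
    set H : Subgroup G := Subgroup.closure ((K : Set G) ∪ {c}) with hH
    have hKH : K ≤ H := fun k hk => Subgroup.subset_closure (Or.inl hk)
    have hcH : c ∈ H := Subgroup.subset_closure (Or.inr rfl)
    have hrep : ∀ x ∈ H, ∃ k ∈ K, ∃ j : ℤ, x = k * c ^ j := by
      intro x hx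
      induction hx using Subgroup.closure_induction with
      | mem x hx =>
        rcases hx with hx | hx
        · exact ⟨x, hx, 0, by simp⟩
        · rw [Set.mem_singleton_iff] at hx
          exact ⟨1, K.one_mem, 1, by simp [hx]⟩
      | one => exact ⟨1, K.one_mem, 0, by simp⟩
      | mul x y _ _ hx hy =>
        obtain ⟨k, hk, i, rfl⟩ := hx
        obtain ⟨k', hk', j, rfl⟩ := hy
        refine ⟨k * k', K.mul_mem hk hk', i + j, ?_⟩
        have h1 : c ^ i * k' = k' * c ^ i := (hkc k' hk' i).eq.symm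
        calc k * c ^ i * (k' * c ^ j) = k * (c ^ i * k') * c ^ j := by group
          _ = k * (k' * c ^ i) * c ^ j := by rw [h1]
          _ = k * k' * c ^ (i + j) := by rw [zpow_add]; group
      | inv x _ hx =>
        obtain ⟨k, hk, i, rfl⟩ := hx
        refine ⟨k⁻¹, K.inv_mem hk, -i, ?_⟩
        have h1 : (c ^ i)⁻¹ * k⁻¹ = k⁻¹ * (c ^ i)⁻¹ :=
          ((hkc k hk i).inv_inv).eq.symm
        rw [mul_inv_rev, h1, zpow_neg]
    have hHcomm : ∀ x y : ↥H, x * y = y * x := by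
      rintro ⟨x, hx⟩ ⟨y, hy⟩
      obtain ⟨k, hk, i, rfl⟩ := hrep x hx
      obtain ⟨k', hk', j, rfl⟩ := hrep y hy
      apply Subtype.ext
      have hkk' : Commute k k' := hKcomm k hk k' hk'
      have hcc : Commute (c ^ i) (c ^ j) := (Commute.refl c).zpow_zpow i j
      exact ((hkk'.mul_right (hkc k hk j)).mul_left
        (((hkc k' hk' i).symm).mul_right hcc)).eq
    have hn : ∀ S : Sylow 2 ↥H, (S : Subgroup ↥H).Normal := fun S => ⟨fun n hn g => by
      have h1 : g * n * g⁻¹ = n := by rw [hHcomm g n, mul_inv_cancel_right]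
      rw [h1]; exact hn⟩
    have hcyc : ∀ (S : Sylow 2 ↥H) [(S : Subgroup ↥H).Normal],
        IsCyclic (↥H ⧸ (S : Subgroup ↥H)) := by
      intro S hSn
      have hKS : ∀ k (hk : k ∈ K), (⟨k, hKH hk⟩ : ↥H) ∈ (S : Subgroup ↥H) := by
        intro k hk
        have hpg : IsPGroup 2 (K.subgroupOf H) := by
          apply IsPGroup.of_card (n := 2)
          rw [Nat.card_congr (Subgroup.subgroupOfEquivOfLe hKH).toEquiv, hK4]; norm_num
        obtain ⟨Q, hQ⟩ := hpg.exists_le_sylow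
        have := Sylow.unique_of_normal S hSn
        have hQS : Q = S := Subsingleton.elim _ _
        rw [hQS] at hQ
        exact hQ (Subgroup.mem_subgroupOf.mpr hk)
      refine ⟨⟨QuotientGroup.mk ⟨c, hcH⟩, ?_⟩⟩
      intro q
      obtain ⟨⟨x, hx⟩, rfl⟩ := QuotientGroup.mk_surjective q
      obtain ⟨k, hk, j, rfl⟩ := hrep x hx
      refine ⟨j, ?_⟩
      show (QuotientGroup.mk ⟨c, hcH⟩ : ↥H ⧸ (S : Subgroup ↥H)) ^ j =
        QuotientGroup.mk ⟨k * c ^ j, hx⟩
      have h1 : (⟨k * c ^ j, hx⟩ : ↥H) = ⟨k, hKH hk⟩ * ⟨c, hcH⟩ ^ j := Subtype.ext (by simp)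
      rw [h1, QuotientGroup.mk_mul, (QuotientGroup.eq_one_iff _).mpr (hKS k hk), one_mul,
        QuotientGroup.mk_zpow]
    rcases hyp H hn hcyc with h | ⟨n, ⟨e⟩⟩ | ⟨⟨e⟩⟩
    · exfalso
      have hKc : IsCyclic ↥K := Subgroup.isCyclic_of_le hKH
      obtain ⟨g, hg⟩ := hKc.exists_generator
      have h4 : orderOf g = 4 := by
        rw [orderOf_eq_card_of_forall_mem_zpowers hg, hK4]
      have h2 : g ^ 2 = 1 := Subtype.ext (by simpa using hKexp g g.2)
      have := orderOf_dvd_of_pow_eq_one h2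
      rw [h4] at this
      omega
    · have hDcomm : ∀ a b : DihedralGroup (2 ^ n), a * b = b * a := by
        intro a b
        calc a * b = e (e.symm a * e.symm b) := by simp
          _ = e (e.symm b * e.symm a) := by rw [hHcomm]
          _ = b * a := by simp
      have h1 := hDcomm (DihedralGroup.r 1) (DihedralGroup.sr 0)
      rw [DihedralGroup.r_mul_sr, DihedralGroup.sr_mul_r, DihedralGroup.sr.injEq] at h1
      have h2 : ((2 : ℕ) : ZMod (2 ^ n)) = 0 := by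
        have : (1 : ZMod (2 ^ n)) + 1 = 0 := by
          calc (1 : ZMod (2 ^ n)) + 1 = (0 + 1) + 1 := by ring
            _ = (0 - 1) + 1 := by rw [← h1]
            _ = 0 := by ring
        rw [← this]; norm_num
      rw [ZMod.natCast_eq_zero_iff] at h2
      have hle : 2 ^ n ≤ 2 := Nat.le_of_dvd (by norm_num) h2
      have hcardH : Nat.card ↥H ≤ 4 := by
        rw [Nat.card_congr e.toEquiv, DihedralGroup.nat_card]; omega
      have hKeq : K = H := Subgroup.eq_of_le_of_card_ge hKH (by rw [hK4]; exact hcardH)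
      rw [hKeq]; exact hcH
    · exfalso
      apply a4_not_comm
      intro a b
      calc a * b = e (e.symm a * e.symm b) := by simp
        _ = e (e.symm b * e.symm a) := by rw [hHcomm]
        _ = b * a := by simp
  · intro k hk
    rw [Subgroup.mem_centralizer_iff]
    intro a ha
    exact hKcomm a ha k hk

theorem forward [Finite G] (P : Sylow 2 G)
    (hyp : ∀ H : Subgroup G, (∀ S : Sylow 2 ↥H, (S : Subgroup ↥H).Normal) →
        (∀ (S : Sylow 2 ↥H) [(S : Subgroup ↥H).Normal], IsCyclic (↥H ⧸ (S : Subgroup ↥H))) →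
        IsCyclic H ∨ (∃ n : ℕ, Nonempty (H ≃* DihedralGroup (2 ^ n))) ∨
          Nonempty (H ≃* alternatingGroup (Fin 4))) :
    Phi (P : Subgroup G) := by
  rcases trichotomy_of_isPGroup hyp P P.isPGroup' with h | ⟨n, ⟨e⟩⟩
  · exact Or.inl h
  · rcases Nat.eq_zero_or_pos n with rfl | hn
    · left
      have h2 : Nat.card ↥(P : Subgroup G) = 2 := by
        rw [Nat.card_congr e.toEquiv, DihedralGroup.nat_card]; norm_num
      have hf2 : Fact (Nat.Prime 2) := ⟨Nat.prime_two⟩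
      exact isCyclic_of_prime_card h2
    · right
      refine ⟨⟨n, hn, ⟨e⟩⟩, ?_⟩
      intro K _ hK4 hKexp
      exact centralizer_eq hyp K hK4 hKexp

/-- Let G be a finite group with Sylow 2-subgroup P. Every subgroup H of G whose Sylow 2-subgroup is normal in H with cyclic quotient is cyclic, dihedral of 2-power order, or isomorphic to the alternating group of degree 4, if and only if either P is cyclic, or P is dihedral (of order at least 4) and every elementary abelian subgroup K of order 4 of P satisfies C_G(K) = K. -/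
theorem result {G : Type*} [Group G] [Finite G] (P : Sylow 2 G) :
    (∀ H : Subgroup G, (∀ S : Sylow 2 ↥H, (S : Subgroup ↥H).Normal) →
        (∀ (S : Sylow 2 ↥H) [(S : Subgroup ↥H).Normal], IsCyclic (↥H ⧸ (S : Subgroup ↥H))) →
        IsCyclic H ∨ (∃ n : ℕ, Nonempty (H ≃* DihedralGroup (2 ^ n))) ∨ Nonempty (H ≃* alternatingGroup (Fin 4))) ↔
    (IsCyclic P ∨
      ((∃ n : ℕ, 1 ≤ n ∧ Nonempty ((P : Subgroup G) ≃* DihedralGroup (2 ^ n))) ∧
        ∀ K : Subgroup G, K ≤ P → Nat.card K = 4 → (∀ k ∈ K, k ^ 2 = 1) → Subgroup.centralizer (K : Set G) = K)) := by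
  constructor
  · intro hyp
    exact forward P hyp
  · intro hΦ H h1 h2
    exact backward P hΦ H h1 h2

end Cfsg.Agent.S4083
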