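import Cfsg.Statements.S4084
import Mathlib

set_option autoImplicit false
open Cfsg

namespace Cfsg.Agent.S4084

/-- double centralizer of an element -/
def T {G : Type*} [Group G] (x : G) : Subgroup G :=
  Subgroup.centralizer (Subgroup.centralizer ({x} : Set G) : Set G)

theorem mem_T {G : Type*} [Group G] (x y : G) :
    y ∈ T x ↔ ∀ s : G, Commute x s → Commute s y := by
  unfold T
  rw [Subgroup.mem_centralizer_iff]
  constructor
  · intro h s hs
    apply h s
    rw [SetLike.mem_coe, Subgroup.mem_centralizer_singleton_iff]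
    exact hs.eq.symm
  · intro h s hs
    rw [SetLike.mem_coe, Subgroup.mem_centralizer_singleton_iff] at hs
    exact h s hs.symm

theorem self_mem_T {G : Type*} [Group G] (x : G) : x ∈ T x := by
  rw [mem_T]
  intro s hs
  exact hs.symm

theorem T_comm {G : Type*} [Group G] (x : G) (a b : G) (ha : a ∈ T x) (hb : b ∈ T x) :
    Commute a b := by
  rw [mem_T] at ha hb
  -- a commutes with x (taking s = x in ha)
  have hxa : Commute x a := ha x (Commute.refl x)
  exact hb a hxa

theorem card_T_eq {G H : Type*} [Group G] [Group H] (e : G ≃ H)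
    (he : ∀ x y : G, Commute x y ↔ Commute (e x) (e y)) (g : G) :
    Nat.card (T g) = Nat.card (T (e g)) := by
  apply Nat.card_congr
  refine e.subtypeEquiv ?_
  intro y
  rw [mem_T, mem_T]
  constructor
  · intro h s hs
    obtain ⟨s', rfl⟩ := e.surjective s
    rw [← he] at hs ⊢
    exact h s' hs
  · intro h s hs
    rw [he] at hs ⊢
    exact h (e s) hs

theorem key {G H : Type*} [Group G] [Finite G] [Group H] [Finite H] (e : G ≃ H)
    (he : ∀ x y : G, Commute x y ↔ Commute (e x) (e y))
    {p q : ℕ} (hp : p.Prime) (hq : q.Prime) (hpq : p ≠ q) :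
    (∃ g : G, orderOf g = p * q) → (∃ h : H, orderOf h = p * q) := by
  rintro ⟨g, hg⟩
  have hdvd : p * q ∣ Nat.card (T (e g)) := by
    rw [← card_T_eq e he g, ← hg]
    have := orderOf_dvd_natCard (⟨g, self_mem_T g⟩ : T g)
    rwa [← Subgroup.orderOf_coe] at this
  haveI : Fact p.Prime := ⟨hp⟩
  haveI : Fact q.Prime := ⟨hq⟩
  obtain ⟨a, ha⟩ := exists_prime_orderOf_dvd_card' (G := T (e g)) p (Dvd.dvd.trans (Dvd.intro _ rfl) hdvd)
  obtain ⟨b, hb⟩ := exists_prime_orderOf_dvd_card' (G := T (e g)) q (Dvd.dvd.trans (Dvd.intro_left _ rfl) hdvd)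
  refine ⟨(a : H) * (b : H), ?_⟩
  have hc : Commute (a : H) (b : H) := T_comm (e g) a b a.2 b.2
  rw [← Subgroup.orderOf_coe] at ha hb
  rw [hc.orderOf_mul_eq_mul_orderOf_of_coprime, ha, hb]
  rw [ha, hb]
  exact (Nat.coprime_primes hp hq).mpr hpq

/-- Let G and H be finite groups whose commuting graphs are isomorphic: there is a bijection e : G → H with x, y commuting exactly when e(x), e(y) commute. Then G and H have the same prime graph: for distinct primes p, q, G has an element of order pq if and only if H does (and #G = #H, so the prime divisors agree). -/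
theorem result {G H : Type*} [Group G] [Finite G] [Group H] [Finite H] (e : G ≃ H)
    (he : ∀ x y : G, Commute x y ↔ Commute (e x) (e y))
    {p q : ℕ} (hp : p.Prime) (hq : q.Prime) (hpq : p ≠ q) :
    (∃ g : G, orderOf g = p * q) ↔ (∃ h : H, orderOf h = p * q) := by
  constructor
  · exact key e he hp hq hpq
  · apply key e.symm _ hp hq hpq
    intro x y
    rw [he]
    simp

end Cfsg.Agent.S4084
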