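import Cfsg.Statements.S4086
import Mathlib

set_option autoImplicit false
open Cfsg

namespace Cfsg.Agent.S4086

theorem pow_mem_zpowers_pow_of_gcd_dvd {G : Type*} [Group G] (g : G) (n a b : ℕ) (hg : g ^ n = 1)
    (h : Nat.gcd b n ∣ a) : g ^ a ∈ Subgroup.zpowers (g ^ b) := by
  have key : g ^ (Nat.gcd b n) ∈ Subgroup.zpowers (g ^ b) := by
    have h1 := Nat.gcd_eq_gcd_ab b n
    have h2 : g ^ ((Nat.gcd b n : ℕ) : ℤ) = (g ^ b) ^ (Nat.gcdA b n) := by
      rw [h1, zpow_add, zpow_mul, zpow_mul, zpow_natCast, zpow_natCast, hg, one_zpow, mul_one]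
    rw [zpow_natCast] at h2
    rw [h2]
    exact Subgroup.zpow_mem_zpowers _ _
  obtain ⟨t, rfl⟩ := h
  rw [pow_mul]
  exact Subgroup.pow_mem _ key _

theorem chain_of_prime_pow {G : Type*} [Group G] (g : G) (p k : ℕ) (hp : p.Prime)
    (hg : g ^ (p ^ k) = 1) (a b : ℕ) :
    g ^ a ∈ Subgroup.zpowers (g ^ b) ∨ g ^ b ∈ Subgroup.zpowers (g ^ a) := by
  obtain ⟨α, -, hα⟩ := (Nat.dvd_prime_pow hp).mp (Nat.gcd_dvd_right a (p ^ k))
  obtain ⟨β, -, hβ⟩ := (Nat.dvd_prime_pow hp).mp (Nat.gcd_dvd_right b (p ^ k))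
  rcases le_total β α with h | h
  · left
    apply pow_mem_zpowers_pow_of_gcd_dvd g (p ^ k) a b hg
    rw [hβ]
    exact (pow_dvd_pow p h).trans (hα ▸ Nat.gcd_dvd_left a (p ^ k))
  · right
    apply pow_mem_zpowers_pow_of_gcd_dvd g (p ^ k) b a hg
    rw [hα]
    exact (pow_dvd_pow p h).trans (hβ ▸ Nat.gcd_dvd_left b (p ^ k))

/-- For a finite group G the following are equivalent: every non-identity element has prime-power order; whenever two elements generate a cyclic subgroup, one of them is a power of the other (the enhanced power graph of G coincides with its power graph). -/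
theorem result {G : Type*} [Group G] [Finite G] :
    (∀ g : G, g ≠ 1 → IsPrimePow (orderOf g)) ↔
    (∀ x y : G, IsCyclic ↥(Subgroup.closure ({x, y} : Set G)) → (x ∈ Subgroup.zpowers y ∨ y ∈ Subgroup.zpowers x)) := by
  constructor
  · intro h x y hc
    obtain ⟨g, hg⟩ := (Subgroup.isCyclic_iff_exists_zpowers_eq_top _).mp hc
    have hx : x ∈ Subgroup.zpowers g := by
      rw [hg]; exact Subgroup.subset_closure (by simp)
    have hy : y ∈ Subgroup.zpowers g := by
      rw [hg]; exact Subgroup.subset_closure (by simp)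
    rw [← mem_powers_iff_mem_zpowers] at hx hy
    obtain ⟨a, rfl⟩ := hx
    obtain ⟨b, rfl⟩ := hy
    by_cases hg1 : g = 1
    · subst hg1
      left
      simp
    · obtain ⟨p, k, hp, -, hk⟩ := h g hg1
      have hgp : g ^ (p ^ k) = 1 := by rw [hk]; exact pow_orderOf_eq_one g
      exact chain_of_prime_pow g p k hp.nat_prime hgp a b
  · intro h g hg1
    by_contra hnpp
    have hn1 : orderOf g ≠ 1 := by
      intro h1; exact hg1 (orderOf_eq_one_iff.mp h1)
    have hn0 : orderOf g ≠ 0 := (orderOf_pos g).ne'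
    set n := orderOf g with hn
    -- pick a prime p dividing n
    obtain ⟨p, hp, hpn⟩ := Nat.exists_prime_and_dvd hn1
    set a := ordProj[p] n with ha
    set b := ordCompl[p] n with hb
    have hab : a * b = n := Nat.ordProj_mul_ordCompl_eq_self n p
    have hcop : Nat.Coprime a b := by
      have := Nat.coprime_ordCompl hp hn0
      exact Nat.Coprime.pow_left _ this
    have ha0 : 0 < a := Nat.ordProj_pos n p
    have hb0 : 0 < b := Nat.ordCompl_pos p hn0
    have ha1 : a ≠ 1 := by
      intro h1
      have : p ∣ a := by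
        rw [ha]
        exact dvd_pow_self p ((hp.factorization_pos_of_dvd hn0 hpn).ne')
      rw [h1] at this
      exact hp.one_lt.ne' (Nat.dvd_one.mp this)
    have hb1 : b ≠ 1 := by
      intro h1
      apply hnpp
      rw [← hab, h1, mul_one, ha]
      exact hp.isPrimePow.pow ((hp.factorization_pos_of_dvd hn0 hpn).ne')
    -- x = g^a has order b, y = g^b has order a
    have hox : orderOf (g ^ a) = b := by
      rw [orderOf_pow' g ha0.ne', ← hn, Nat.gcd_eq_right (Dvd.intro _ hab)]
    have hoy : orderOf (g ^ b) = a := by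
      rw [orderOf_pow' g hb0.ne', ← hn, Nat.gcd_eq_right (Dvd.intro_left _ hab)]
      exact Nat.div_eq_of_eq_mul_left hb0 hab.symm
    have hcyc : IsCyclic ↥(Subgroup.closure ({g ^ a, g ^ b} : Set G)) := by
      have hle : Subgroup.closure ({g ^ a, g ^ b} : Set G) ≤ Subgroup.zpowers g := by
        rw [Subgroup.closure_le]
        intro z hz
        rcases hz with rfl | rfl
        · exact Subgroup.pow_mem _ (Subgroup.mem_zpowers g) _
        · exact Subgroup.pow_mem _ (Subgroup.mem_zpowers g) _
      exact Subgroup.isCyclic_of_le hle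
    rcases h (g ^ a) (g ^ b) hcyc with h1 | h1
    · have := orderOf_dvd_of_mem_zpowers h1
      rw [hox, hoy] at this
      have := Nat.Coprime.eq_one_of_dvd hcop.symm this
      exact hb1 this
    · have := orderOf_dvd_of_mem_zpowers h1
      rw [hox, hoy] at this
      have := Nat.Coprime.eq_one_of_dvd hcop this
      exact ha1 this

end Cfsg.Agent.S4086
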