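import Cfsg.Statements.S4088
import Mathlib
import Cfsg.Agent.Lib.Helper68.Casolo
-- import your own Cfsg.Agent.* helpers here

set_option autoImplicit false
open Cfsg
open scoped Pointwise

namespace Cfsg.Agent.S4088

open Cfsg.Agent.Lib.Helper68.Subn Cfsg.Agent.Lib.Helper68.Casolo Cfsg.Agent.Lib.Helper72

/-- Counting `{x : H ≤ x P x⁻¹}` through the Sylow subgroups containing `H`. -/
theorem card_R_sylow {G : Type*} [Group G] [Finite G] (p : ℕ) [Fact p.Prime] (H : Subgroup G)
    (P : Sylow p G) :
    Nat.card {x : G // H ≤ MulAut.conj x • (P : Subgroup G)} =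
      Nat.card (Subgroup.normalizer ((P : Subgroup G) : Set G)) *
        Nat.card {Q : Sylow p G // H ≤ (Q : Subgroup G)} := by
  have := card_of_fibers (fun x : G => x • P) (fun x => H ≤ MulAut.conj x • (P : Subgroup G))
    {Q : Sylow p G | H ≤ (Q : Subgroup G)}
    (Nat.card (Subgroup.normalizer ((P : Subgroup G) : Set G)))
    (fun x hx => hx)
    (by
      intro Q hQ
      obtain ⟨x0, hx0⟩ := MulAction.exists_smul_eq G P Q
      apply card_coset_like _ _ x0
      intro x
      have key : (x0⁻¹ * x) • P = P ↔
          x0⁻¹ * x ∈ Subgroup.normalizer ((P : Subgroup G) : Set G) :=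
        Sylow.smul_eq_iff_mem_normalizer
      rw [← key, mul_smul]
      constructor
      · rintro ⟨h1, -⟩
        rw [h1, ← hx0, inv_smul_smul]
      · intro h
        have h1 : x • P = Q := by
          have h' : x • P = x0 • (x0⁻¹ • x • P) := by rw [smul_inv_smul]
          rw [h', h, hx0]
        refine ⟨h1, ?_⟩
        have h2 : MulAut.conj x • (P : Subgroup G) = ((x • P : Sylow p G) : Subgroup G) := rfl
        rw [h2, h1]
        exact hQ)
  exact this

/-- Counting `{y : y H y⁻¹ ≤ P}` through the conjugates of `H` inside `P`. -/
theorem card_R_conj {G : Type*} [Group G] [Finite G] (H P : Subgroup G) :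
    Nat.card {y : G // MulAut.conj y • H ≤ P} =
      Nat.card (Subgroup.normalizer (H : Set G)) *
        Nat.card {K : Subgroup G // K ≤ P ∧ ∃ g : G, K = H.map (MulAut.conj g).toMonoidHom} := by
  have := card_of_fibers (fun y : G => MulAut.conj y • H) (fun y => MulAut.conj y • H ≤ P)
    {K : Subgroup G | K ≤ P ∧ ∃ g : G, K = H.map (MulAut.conj g).toMonoidHom}
    (Nat.card (Subgroup.normalizer (H : Set G)))
    (fun y hy => ⟨hy, y, rfl⟩)
    (by
      rintro K ⟨hKP, g, rfl⟩
      apply card_coset_like _ _ g
      intro y
      have hK : H.map (MulAut.conj g).toMonoidHom = MulAut.conj g • H := rfl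
      rw [hK]
      constructor
      · rintro ⟨h1, -⟩
        apply mem_normalizer_of_conj_smul_le
        rw [map_mul, mul_smul, h1, ← mul_smul, map_inv, inv_mul_cancel, one_smul]
      · intro h
        have h1 : MulAut.conj y • H = MulAut.conj g • H := by
          have h2 := conj_smul_eq_of_mem_normalizer h
          have h3 : y = g * (g⁻¹ * y) := by group
          rw [h3, map_mul, mul_smul, h2]
        refine ⟨h1, ?_⟩
        rw [h1]
        exact hKP)
  exact this

/-- Let H be a p-subgroup of a finite group G and P a Sylow p-subgroup of G, with p dividing |G|. Then the number of elements g of G such that H is subnormal in the subgroup generated by H and g equals the number of Sylow p-subgroups of G containing H times the order of the normalizer of P, and also equals the number of G-conjugates of H contained in P times the order of the normalizer of H. -/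
theorem result {G : Type*} [Group G] [Finite G] (p : ℕ) [Fact p.Prime]
    (hp : p ∣ Nat.card G) (H : Subgroup G) (hH : IsPGroup p H) (P : Sylow p G) :
    Nat.card {g : G // ((H).subgroupOf (H ⊔ Subgroup.zpowers g)).IsSubnormal} =
        Nat.card {Q : Sylow p G // H ≤ (Q : Subgroup G)} * Nat.card (Subgroup.normalizer ((P : Subgroup G) : Set G)) ∧
    Nat.card {g : G // ((H).subgroupOf (H ⊔ Subgroup.zpowers g)).IsSubnormal} =
        Nat.card {K : Subgroup G // K ≤ (P : Subgroup G) ∧ ∃ g : G, K = H.map (MulAut.conj g).toMonoidHom} *
          Nat.card (Subgroup.normalizer (H : Set G)) := by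
  have h1 : Nat.card {g : G // ((H).subgroupOf (H ⊔ Subgroup.zpowers g)).IsSubnormal} =
      Nat.card {g : G // InSub p H g} := by
    apply Nat.card_congr
    apply Equiv.subtypeEquivRight
    intro g
    exact subn_iff hH g
  have h2 := casolo p H P
  have h3 := card_R_sylow p H P
  have h4 := card_R_conj H (P : Subgroup G)
  have h5 : Nat.card {x : G // H ≤ MulAut.conj x • (P : Subgroup G)} =
      Nat.card {y : G // MulAut.conj y • H ≤ (P : Subgroup G)} := by
    refine Nat.card_congr
      { toFun := fun x => ⟨x.1⁻¹, ?_⟩
        invFun := fun y => ⟨y.1⁻¹, ?_⟩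
        left_inv := fun x => by simp
        right_inv := fun y => by simp }
    · have := x.2
      rw [Subgroup.subset_pointwise_smul_iff, ← map_inv] at this
      exact this
    · have := y.2
      rw [Subgroup.subset_pointwise_smul_iff, ← map_inv, inv_inv]
      exact this
  refine ⟨by rw [h1, h2], ?_⟩
  rw [h1, h2, mul_comm, ← h3, h5, h4, mul_comm]

end Cfsg.Agent.S4088
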