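import Cfsg.Statements.S4089
import Cfsg.Agent.Lib.Helper72.Wielandt
import Cfsg.Agent.Lib.Helper47.Subnormal

set_option autoImplicit false
open Cfsg

namespace Cfsg.Agent.S4089

open Cfsg.Agent.Lib.Helper72 Cfsg.Agent.Lib.Helper47

variable {G : Type*} [Group G]

theorem isSubnormal_of_isNilpotent' {N : Type*} [Group N] [Finite N] [Group.IsNilpotent N]
    (H : Subgroup N) : H.IsSubnormal := by
  induction H using WellFoundedGT.induction with
  | ind H ih =>
    by_cases hH : H = ⊤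
    · rw [hH]; exact Subgroup.IsSubnormal.top
    · have h1 : H < Subgroup.normalizer (H : Set N) :=
        Group.normalizerCondition_of_isNilpotent H (lt_top_iff_ne_top.2 hH)
      exact Subgroup.IsSubnormal.step H _ h1.le (ih _ h1)
        (Subgroup.normal_subgroupOf_of_le_normalizer le_rfl)

/-- In a `p`-group every subgroup is (relatively) subnormal. -/
theorem relSN_of_isPGroup [Finite G] {p : ℕ} [Fact p.Prime] {H D : Subgroup G}
    (hD : IsPGroup p D) (hle : H ≤ D) : RelSN H D := by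
  have := hD.isNilpotent
  exact relSN_of_isSubnormal_subgroupOf hle (isSubnormal_of_isNilpotent' _)

theorem le_normalizer_inf {R K M : Subgroup G} (h1 : M ≤ Subgroup.normalizer (R : Set G))
    (h2 : M ≤ Subgroup.normalizer (K : Set G)) :
    M ≤ Subgroup.normalizer ((R ⊓ K : Subgroup G) : Set G) := by
  intro m hm
  have hR := Subgroup.mem_normalizer_iff.mp (h1 hm)
  have hK := Subgroup.mem_normalizer_iff.mp (h2 hm)
  rw [Subgroup.mem_normalizer_iff]
  intro y
  rw [Subgroup.mem_inf, Subgroup.mem_inf, ← hR y, ← hK y]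

/-- Lemma A: a relatively subnormal `p`-subgroup lies in `O_p`. -/
theorem le_pCoreOf_of_relSN [Finite G] {p : ℕ} [Fact p.Prime] {A K : Subgroup G}
    (h : RelSN A K) (hp : IsPGroup p A) : A ≤ Cfsg.pCoreOf p K := by
  have h1 : (A.subgroupOf K).IsSubnormal := h.isSubnormal_subgroupOf
  have h2 : IsPGroup p ↥(A.subgroupOf K) := hp.comap_subtype
  have h3 : A.subgroupOf K ≤ Cfsg.pCore p ↥K := le_pCore_of_isSubnormal_of_isPGroup h1 h2
  have h4 := Subgroup.map_mono (f := K.subtype) h3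
  rwa [Subgroup.map_subgroupOf_eq_of_le h.le] at h4

/-- Lemma B. -/
theorem relSN_of_le_normalizer_pgroup [Finite G] {p : ℕ} [Fact p.Prime] {H R K : Subgroup G}
    (hR : IsPGroup p R) (hHR : H ≤ R) (hHK : H ≤ K)
    (hK : K ≤ Subgroup.normalizer (R : Set G)) : RelSN H K := by
  have h1 : RelSN H (R ⊓ K) := relSN_of_isPGroup (hR.to_le inf_le_left) (le_inf hHR hHK)
  have h2 : RelSN (R ⊓ K) K :=
    RelSN.of_normal inf_le_right (le_normalizer_inf hK Subgroup.le_normalizer)
  exact h1.trans h2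

/-- Lemma C: radical closure. -/
theorem exists_radical [Finite G] {p : ℕ} [Fact p.Prime] :
    ∀ R : Subgroup G, IsPGroup p R → ∃ R' : Subgroup G, R ≤ R' ∧
      Cfsg.pCoreOf p (Subgroup.normalizer (R' : Set G)) = R' ∧
      Subgroup.normalizer (R : Set G) ≤ Subgroup.normalizer (R' : Set G) := by
  intro R
  induction R using WellFoundedGT.induction with
  | ind R ih =>
    intro hR
    have hle : R ≤ Cfsg.pCoreOf p (Subgroup.normalizer (R : Set G)) :=
      le_pCoreOf Subgroup.le_normalizer le_rfl hR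
    have hN : Subgroup.normalizer (R : Set G) ≤
        Subgroup.normalizer ((Cfsg.pCoreOf p (Subgroup.normalizer (R : Set G)) : Subgroup G) : Set G) :=
      Subgroup.le_normalizer.trans (normalizer_le_normalizer_pCoreOf p _)
    by_cases heq : Cfsg.pCoreOf p (Subgroup.normalizer (R : Set G)) = R
    · exact ⟨R, le_rfl, heq, le_rfl⟩
    · have hlt : R < Cfsg.pCoreOf p (Subgroup.normalizer (R : Set G)) :=
        lt_of_le_of_ne hle (Ne.symm heq)
      obtain ⟨R', h1, h2, h3⟩ := ih _ hlt (pCoreOf_isPGroup p _)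
      exact ⟨R', hle.trans h1, h2, hN.trans h3⟩

/-- Part 1, as an iff. -/
theorem mem_iff_exists_radical [Finite G] {p : ℕ} [Fact p.Prime] {H : Subgroup G}
    (hH : IsPGroup p H) (g : G) :
    RelSN H (H ⊔ Subgroup.zpowers g) ↔
      ∃ R : Subgroup G, H ≤ R ∧ Cfsg.pCoreOf p (Subgroup.normalizer (R : Set G)) = R ∧
        g ∈ Subgroup.normalizer (R : Set G) := by
  constructor
  · intro h
    have h1 : H ≤ Cfsg.pCoreOf p (H ⊔ Subgroup.zpowers g) := le_pCoreOf_of_relSN h hH
    obtain ⟨R', h2, h3, h4⟩ := exists_radical (p := p) _ (pCoreOf_isPGroup p (H ⊔ Subgroup.zpowers g))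
    refine ⟨R', h1.trans h2, h3, h4 ?_⟩
    apply normalizer_le_normalizer_pCoreOf p _
    apply Subgroup.le_normalizer
    exact (le_sup_right : Subgroup.zpowers g ≤ H ⊔ Subgroup.zpowers g) (Subgroup.mem_zpowers g)
  · rintro ⟨R, hHR, hrad, hg⟩
    have hR : IsPGroup p R := by rw [← hrad]; exact pCoreOf_isPGroup p _
    apply relSN_of_le_normalizer_pgroup hR hHR le_sup_left
    exact sup_le (hHR.trans Subgroup.le_normalizer) ((Subgroup.zpowers_le).mpr hg)

/-- Lemma D: a radical `p`-subgroup is the intersection of the Sylow subgroups containing it. -/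
theorem sInf_sylow_eq_of_radical [Finite G] {p : ℕ} [Fact p.Prime] {R : Subgroup G}
    (hrad : Cfsg.pCoreOf p (Subgroup.normalizer (R : Set G)) = R) :
    sInf {K : Subgroup G | ∃ Q : Sylow p G, R ≤ (Q : Subgroup G) ∧ K = (Q : Subgroup G)} = R := by
  have hR : IsPGroup p R := by rw [← hrad]; exact pCoreOf_isPGroup p _
  obtain ⟨Q₀, hQ₀⟩ := hR.exists_le_sylow
  have hRI : R ≤ sInf {K : Subgroup G | ∃ Q : Sylow p G, R ≤ (Q : Subgroup G) ∧ K = (Q : Subgroup G)} := by
    apply le_sInf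
    rintro K ⟨Q, hQ, rfl⟩
    exact hQ
  have hIQ₀ : sInf {K : Subgroup G | ∃ Q : Sylow p G, R ≤ (Q : Subgroup G) ∧ K = (Q : Subgroup G)} ≤
      (Q₀ : Subgroup G) := sInf_le ⟨Q₀, hQ₀, rfl⟩
  have hI : IsPGroup p ↥(sInf {K : Subgroup G | ∃ Q : Sylow p G, R ≤ (Q : Subgroup G) ∧ K = (Q : Subgroup G)}) :=
    Q₀.isPGroup'.to_le hIQ₀
  -- `N(R)` normalizes `I`
  have hNI : Subgroup.normalizer (R : Set G) ≤ Subgroup.normalizer
      ((sInf {K : Subgroup G | ∃ Q : Sylow p G, R ≤ (Q : Subgroup G) ∧ K = (Q : Subgroup G)} : Subgroup G) : Set G) := by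
    apply le_normalizer_of_conj_smul_le
    intro n hn
    apply le_sInf
    rintro K ⟨Q, hQ, rfl⟩
    rw [Subgroup.pointwise_smul_subset_iff]
    apply sInf_le
    refine ⟨n⁻¹ • Q, ?_, ?_⟩
    · rw [Sylow.coe_subgroup_smul, Subgroup.subset_pointwise_smul_iff, ← map_inv, inv_inv]
      rw [conj_smul_eq_of_mem_normalizer hn]
      exact hQ
    · rw [Sylow.coe_subgroup_smul, map_inv]
  -- `I ⊓ N(R) ≤ R`
  have hD : sInf {K : Subgroup G | ∃ Q : Sylow p G, R ≤ (Q : Subgroup G) ∧ K = (Q : Subgroup G)} ⊓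
      Subgroup.normalizer (R : Set G) ≤ R := by
    have := le_pCoreOf (p := p) (N := sInf {K : Subgroup G | ∃ Q : Sylow p G, R ≤ (Q : Subgroup G) ∧ K = (Q : Subgroup G)} ⊓
      Subgroup.normalizer (R : Set G)) (K := Subgroup.normalizer (R : Set G)) inf_le_right
      (le_normalizer_inf hNI Subgroup.le_normalizer) (hI.to_le inf_le_left)
    rwa [hrad] at this
  -- normalizers grow in the `p`-group `I`
  by_contra hne
  have hlt : R.subgroupOf (sInf {K : Subgroup G | ∃ Q : Sylow p G, R ≤ (Q : Subgroup G) ∧ K = (Q : Subgroup G)}) < ⊤ := by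
    rw [lt_top_iff_ne_top]
    intro htop
    rw [Subgroup.subgroupOf_eq_top] at htop
    exact hne (le_antisymm htop hRI)
  have := hI.isNilpotent
  have h1 := Group.normalizerCondition_of_isNilpotent _ hlt
  obtain ⟨x, hxN, hxR⟩ := SetLike.exists_of_lt h1
  rw [← Subgroup.subgroupOf_normalizer_eq hRI, Subgroup.mem_subgroupOf] at hxN
  rw [Subgroup.mem_subgroupOf] at hxR
  exact hxR (hD ⟨x.2, hxN⟩)

/-- Let G be a finite group, p a prime and H a p-subgroup of G. Then the set of elements g of G such that H is subnormal in the subgroup generated by H and g is the union of the normalizers N_G(R) over the subgroups R of G containing H with R = O_p(N_G(R)); and this set does not change when H is replaced by the intersection of all Sylow p-subgroups of G containing H. -/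
theorem result {G : Type*} [Group G] [Finite G] (p : ℕ) [Fact p.Prime]
    (H : Subgroup G) (hH : IsPGroup p H) :
    {g : G | ((H).subgroupOf (H ⊔ Subgroup.zpowers g)).IsSubnormal} =
      {g : G | ∃ R : Subgroup G, H ≤ R ∧ (Cfsg.pCore p (Subgroup.normalizer (R : Set G))).map (Subgroup.normalizer (R : Set G)).subtype = R ∧ g ∈ Subgroup.normalizer (R : Set G)} ∧
    ∀ g : G, (((H).subgroupOf (H ⊔ Subgroup.zpowers g)).IsSubnormal ↔
      (((sInf {K : Subgroup G | ∃ Q : Sylow p G, H ≤ (Q : Subgroup G) ∧ K = (Q : Subgroup G)})).subgroupOf ((sInf {K : Subgroup G | ∃ Q : Sylow p G, H ≤ (Q : Subgroup G) ∧ K = (Q : Subgroup G)}) ⊔ Subgroup.zpowers g)).IsSubnormal) := by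
  have key : ∀ (H' : Subgroup G), IsPGroup p H' → ∀ g : G,
      ((H').subgroupOf (H' ⊔ Subgroup.zpowers g)).IsSubnormal ↔
        ∃ R : Subgroup G, H' ≤ R ∧ Cfsg.pCoreOf p (Subgroup.normalizer (R : Set G)) = R ∧
          g ∈ Subgroup.normalizer (R : Set G) := by
    intro H' hH' g
    rw [← mem_iff_exists_radical hH' g, relSN_iff]
    exact ⟨fun h => ⟨le_sup_left, h⟩, fun h => h.2⟩
  refine ⟨?_, ?_⟩
  · ext g
    exact key H hH g
  · intro g
    obtain ⟨Q₀, hQ₀⟩ := hH.exists_le_sylow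
    have hI : IsPGroup p ↥(sInf {K : Subgroup G | ∃ Q : Sylow p G, H ≤ (Q : Subgroup G) ∧ K = (Q : Subgroup G)}) :=
      Q₀.isPGroup'.to_le (sInf_le ⟨Q₀, hQ₀, rfl⟩)
    have hHI : H ≤ sInf {K : Subgroup G | ∃ Q : Sylow p G, H ≤ (Q : Subgroup G) ∧ K = (Q : Subgroup G)} := by
      apply le_sInf
      rintro K ⟨Q, hQ, rfl⟩
      exact hQ
    rw [key H hH g, key _ hI g]
    constructor
    · rintro ⟨R, hHR, hrad, hg⟩
      refine ⟨R, ?_, hrad, hg⟩
      calc sInf {K : Subgroup G | ∃ Q : Sylow p G, H ≤ (Q : Subgroup G) ∧ K = (Q : Subgroup G)}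
          ≤ sInf {K : Subgroup G | ∃ Q : Sylow p G, R ≤ (Q : Subgroup G) ∧ K = (Q : Subgroup G)} := by
            apply sInf_le_sInf
            rintro K ⟨Q, hQ, rfl⟩
            exact ⟨Q, hHR.trans hQ, rfl⟩
        _ = R := sInf_sylow_eq_of_radical hrad
    · rintro ⟨R, hIR, hrad, hg⟩
      exact ⟨R, hHI.trans hIR, hrad, hg⟩

end Cfsg.Agent.S4089
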