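import Cfsg.Statements.S4090
import Mathlib
import Cfsg.Agent.Lib.Helper68.SubnQuot
-- import your own Cfsg.Agent.* helpers here

set_option autoImplicit false
open scoped BigOperators
open Cfsg

namespace Cfsg.Agent.S4090

open Cfsg.Agent.Lib.Helper68.Subn

universe u

/-- The factor attached to a section `B / A` of the chain. -/
noncomputable def fac {G : Type u} [Group G] (p : ℕ) (H A B : Subgroup G) : ℕ :=
  if (A.relIndex B).Coprime p then
    Nat.card {u : G // u ∈ B ∧ ∀ h ∈ H, h * u * h⁻¹ * u⁻¹ ∈ A} / Nat.card A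
  else 1

theorem mem_map_mk'_iff {G : Type u} [Group G] (N : Subgroup G) [N.Normal] {A : Subgroup G}
    (hA : N ≤ A) (x : G) : QuotientGroup.mk' N x ∈ A.map (QuotientGroup.mk' N) ↔ x ∈ A := by
  rw [← Subgroup.mem_comap, comap_map_of_le N hA]

theorem relIndex_map_mk' {G : Type u} [Group G] (N : Subgroup G) [N.Normal] {A : Subgroup G}
    (hA : N ≤ A) (B : Subgroup G) :
    (A.map (QuotientGroup.mk' N)).relIndex (B.map (QuotientGroup.mk' N)) = A.relIndex B := by
  rw [← Subgroup.relIndex_comap, comap_map_of_le N hA]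

theorem fac_quot {G : Type u} [Group G] [Finite G] (p : ℕ) (N : Subgroup G) [N.Normal]
    (H A B : Subgroup G) (hA : N ≤ A) (hB : N ≤ B) :
    fac p (H.map (QuotientGroup.mk' N)) (A.map (QuotientGroup.mk' N))
      (B.map (QuotientGroup.mk' N)) = fac p H A B := by
  unfold fac
  rw [relIndex_map_mk' N hA B]
  split_ifs with hc
  · have h1 := card_preimage_mk' N {ub : G ⧸ N | ub ∈ B.map (QuotientGroup.mk' N) ∧
      ∀ hb ∈ H.map (QuotientGroup.mk' N), hb * ub * hb⁻¹ * ub⁻¹ ∈ A.map (QuotientGroup.mk' N)}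
    have h2 : Nat.card {u : G // u ∈ B ∧ ∀ h ∈ H, h * u * h⁻¹ * u⁻¹ ∈ A} =
        Nat.card {g : G // QuotientGroup.mk' N g ∈ {ub : G ⧸ N | ub ∈ B.map (QuotientGroup.mk' N) ∧
      ∀ hb ∈ H.map (QuotientGroup.mk' N), hb * ub * hb⁻¹ * ub⁻¹ ∈ A.map (QuotientGroup.mk' N)}} := by
      apply Nat.card_congr
      apply Equiv.subtypeEquivRight
      intro u
      rw [Set.mem_setOf_eq, mem_map_mk'_iff N hB]
      constructor
      · rintro ⟨h3, h4⟩
        refine ⟨h3, ?_⟩
        rintro hb ⟨h, hh, rfl⟩
        have : QuotientGroup.mk' N h * QuotientGroup.mk' N u * (QuotientGroup.mk' N h)⁻¹ *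
            (QuotientGroup.mk' N u)⁻¹ = QuotientGroup.mk' N (h * u * h⁻¹ * u⁻¹) := by
          simp only [map_mul, map_inv]
        rw [this, mem_map_mk'_iff N hA]
        exact h4 h hh
      · rintro ⟨h3, h4⟩
        refine ⟨h3, ?_⟩
        intro h hh
        have h5 := h4 _ (Subgroup.mem_map_of_mem _ hh)
        have : QuotientGroup.mk' N h * QuotientGroup.mk' N u * (QuotientGroup.mk' N h)⁻¹ *
            (QuotientGroup.mk' N u)⁻¹ = QuotientGroup.mk' N (h * u * h⁻¹ * u⁻¹) := by
          simp only [map_mul, map_inv]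
        rw [this, mem_map_mk'_iff N hA] at h5
        exact h5
    rw [h2, h1, card_of_le N hA]
    exact (Nat.mul_div_mul_left _ _ Nat.card_pos).symm
  · rfl

theorem fac_bot_coprime {G : Type u} [Group G] [Finite G] (p : ℕ) (H N : Subgroup G)
    (hN : (Nat.card N).Coprime p) :
    fac p H ⊥ N = Nat.card (N ⊓ Subgroup.centralizer (H : Set G) : Subgroup G) := by
  unfold fac
  rw [Subgroup.relIndex_bot_left, if_pos hN, Subgroup.card_bot, Nat.div_one]
  apply Nat.card_congr
  apply Equiv.subtypeEquivRight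
  intro u
  rw [Subgroup.mem_inf, Subgroup.mem_centralizer_iff]
  constructor
  · rintro ⟨h1, h2⟩
    refine ⟨h1, ?_⟩
    intro h hh
    have h3 := h2 h hh
    rw [Subgroup.mem_bot] at h3
    have h4 : h * u = (h * u * h⁻¹ * u⁻¹) * (u * h) := by group
    rw [h4, h3, one_mul]
  · rintro ⟨h1, h2⟩
    refine ⟨h1, ?_⟩
    intro h hh
    rw [Subgroup.mem_bot, h2 h hh]
    group

theorem fac_bot_not_coprime {G : Type u} [Group G] (p : ℕ) (H N : Subgroup G)
    (hN : ¬ (Nat.card N).Coprime p) : fac p H ⊥ N = 1 := by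
  unfold fac
  rw [Subgroup.relIndex_bot_left, if_neg hN]

theorem main (p : ℕ) [Fact p.Prime] : ∀ (n : ℕ) (G : Type u) [Group G] [Finite G]
    (H : Subgroup G) (_ : IsPGroup p H) (M : Fin (n + 1) → Subgroup G) (_ : M 0 = ⊥)
    (_ : M (Fin.last n) = ⊤) (_ : Monotone M) (_ : ∀ i, (M i).Normal)
    (_ : ∀ i : Fin n, (∃ m : ℕ, (M i.castSucc).relIndex (M i.succ) = p ^ m) ∨
      ((M i.castSucc).relIndex (M i.succ)).Coprime p),
    Nat.card {g : G // InSub p H g} =
      p ^ (Nat.card G).factorization p * ∏ i : Fin n, fac p H (M i.castSucc) (M i.succ) := by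
  have hp : p.Prime := Fact.out
  intro n
  induction n with
  | zero =>
    intro G _ _ H hH M h0 hn hmono hnormal hfac
    have hbt : (⊥ : Subgroup G) = ⊤ := by
      rw [← h0, ← hn]; rfl
    have hsub : Subsingleton G := by
      rw [← Subgroup.subsingleton_iff, ← subsingleton_iff_bot_eq_top]
      exact hbt
    have hG1 : Nat.card G = 1 := Nat.card_of_subsingleton 1
    rw [hG1]
    simp only [Finset.univ_eq_empty, Finset.prod_empty, mul_one, Nat.factorization_one,
      Finsupp.coe_zero, Pi.zero_apply, pow_zero]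
    have : Unique {g : G // InSub p H g} :=
      { default := ⟨1, ⟨H, hH, le_rfl, Subgroup.one_mem _⟩⟩
        uniq := fun x => Subtype.ext (Subsingleton.elim _ _) }
    exact Nat.card_unique
  | succ n ih =>
    intro G _ _ H hH M h0 hn hmono hnormal hfac
    set N : Subgroup G := M 1 with hNdef
    haveI hNn : N.Normal := hnormal 1
    have hNle : ∀ i : Fin (n + 1), N ≤ M i.succ := by
      intro i
      apply hmono
      rw [← Fin.succ_zero_eq_one]
      exact Fin.succ_le_succ_iff.mpr (Fin.zero_le i)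
    let M' : Fin (n + 1) → Subgroup (G ⧸ N) := fun i => (M i.succ).map (QuotientGroup.mk' N)
    have h0' : M' 0 = ⊥ := by
      show (M (Fin.succ 0)).map (QuotientGroup.mk' N) = ⊥
      rw [Fin.succ_zero_eq_one]
      exact QuotientGroup.map_mk'_self N
    have hn' : M' (Fin.last n) = ⊤ := by
      show (M (Fin.last n).succ).map (QuotientGroup.mk' N) = ⊤
      rw [Fin.succ_last, hn]
      exact Subgroup.map_top_of_surjective _ (QuotientGroup.mk'_surjective N)
    have hmono' : Monotone M' := by
      intro i j hij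
      exact Subgroup.map_mono (hmono (Fin.succ_le_succ_iff.mpr hij))
    have hnormal' : ∀ i, (M' i).Normal := by
      intro i
      haveI := hnormal i.succ
      exact Subgroup.Normal.map inferInstance _ (QuotientGroup.mk'_surjective N)
    have hrel : ∀ i : Fin n, (M' i.castSucc).relIndex (M' i.succ) =
        (M i.succ.castSucc).relIndex (M i.succ.succ) := by
      intro i
      show ((M i.castSucc.succ).map (QuotientGroup.mk' N)).relIndex
        ((M i.succ.succ).map (QuotientGroup.mk' N)) = _
      rw [relIndex_map_mk' N (hNle _), Fin.succ_castSucc]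
    have hfac' : ∀ i : Fin n, (∃ m : ℕ, (M' i.castSucc).relIndex (M' i.succ) = p ^ m) ∨
        ((M' i.castSucc).relIndex (M' i.succ)).Coprime p := by
      intro i
      rw [hrel i]
      exact hfac i.succ
    have hIH := ih (G ⧸ N) (H.map (QuotientGroup.mk' N)) (hH.map _) M' h0' hn' hmono' hnormal' hfac'
    have hprod : ∏ i : Fin n, fac p (H.map (QuotientGroup.mk' N)) (M' i.castSucc) (M' i.succ) =
        ∏ i : Fin n, fac p H (M i.succ.castSucc) (M i.succ.succ) := by
      apply Finset.prod_congr rfl
      intro i _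
      show fac p (H.map (QuotientGroup.mk' N)) ((M i.castSucc.succ).map (QuotientGroup.mk' N))
        ((M i.succ.succ).map (QuotientGroup.mk' N)) = _
      rw [fac_quot p N H _ _ (hNle _) (hNle _), Fin.succ_castSucc]
    rw [hprod] at hIH
    rw [Fin.prod_univ_succ]
    have hM0 : M (Fin.castSucc 0) = ⊥ := by rw [Fin.castSucc_zero]; exact h0
    have hM1 : M (Fin.succ 0) = N := by rw [Fin.succ_zero_eq_one]
    rw [hM0, hM1]
    have hcardG : Nat.card G = Nat.card N * Nat.card (G ⧸ N) := by
      rw [Subgroup.card_eq_card_quotient_mul_card_subgroup N, mul_comm]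
    have hNpos : Nat.card N ≠ 0 := Nat.card_pos.ne'
    have hQpos : Nat.card (G ⧸ N) ≠ 0 := Nat.card_pos.ne'
    by_cases hc : (Nat.card N).Coprime p
    · rw [fac_bot_coprime p H N hc, card_inSub_of_coprime_normal N hc H hH, hIH, hcardG,
        Nat.factorization_mul hNpos hQpos]
      have : (Nat.card N).factorization p = 0 := by
        apply Nat.factorization_eq_zero_of_not_dvd
        intro hd
        exact hp.one_lt.ne' (Nat.Coprime.eq_one_of_dvd hc.symm hd)
      rw [Finsupp.add_apply, this, zero_add]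
      ring
    · rw [fac_bot_not_coprime p H N hc]
      have h00 := hfac 0
      rw [hM0, hM1, Subgroup.relIndex_bot_left] at h00
      obtain ⟨m, hm⟩ := h00.resolve_right hc
      have hNp : IsPGroup p N := IsPGroup.of_card hm
      rw [card_inSub_of_pgroup_normal N hNp H, hIH, hcardG, Nat.factorization_mul hNpos hQpos, hm,
        Finsupp.add_apply, Nat.Prime.factorization_pow hp, Finsupp.single_eq_same, pow_add]
      ring

/-- Let G be a finite p-solvable group, H a p-subgroup of G and P a Sylow p-subgroup, and fix a chain of normal subgroups 1 = M₀ ≤ M₁ ≤ ⋯ ≤ Mₙ = G of G each of whose factors is a p-group or a p'-group. Then the number of elements g of G such that H is subnormal in the subgroup generated by H and g equals the order of P times the product, over the factors Mᵢ₊₁/Mᵢ of order prime to p, of the order of the centralizer of H in Mᵢ₊₁/Mᵢ (counted as the number of u ∈ Mᵢ₊₁ with [h, u] ∈ Mᵢ for all h ∈ H, divided by the order of Mᵢ). -/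
theorem result {G : Type*} [Group G] [Finite G] (p : ℕ) [Fact p.Prime]
    (hG : Cfsg.IsPSolvable p G) (H : Subgroup G) (hH : IsPGroup p H) (P : Sylow p G)
    (n : ℕ) (M : Fin (n + 1) → Subgroup G) (h0 : M 0 = ⊥) (hn : M (Fin.last n) = ⊤) (hmono : Monotone M)
    (hnormal : ∀ i, (M i).Normal)
    (hfac : ∀ i : Fin n, (∃ m : ℕ, (M i.castSucc).relIndex (M i.succ) = p ^ m) ∨ ((M i.castSucc).relIndex (M i.succ)).Coprime p) :
    Nat.card {g : G // ((H).subgroupOf (H ⊔ Subgroup.zpowers g)).IsSubnormal} =
      Nat.card (P : Subgroup G) *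
        ∏ i : Fin n, (if ((M i.castSucc).relIndex (M i.succ)).Coprime p then
          Nat.card {u : G // u ∈ M i.succ ∧ ∀ h ∈ H, h * u * h⁻¹ * u⁻¹ ∈ M i.castSucc} / Nat.card (M i.castSucc)
          else 1) := by
  have h1 : Nat.card {g : G // ((H).subgroupOf (H ⊔ Subgroup.zpowers g)).IsSubnormal} =
      Nat.card {g : G // InSub p H g} := by
    apply Nat.card_congr
    apply Equiv.subtypeEquivRight
    intro g
    exact subn_iff hH g
  rw [h1, main p n G H hH M h0 hn hmono hnormal hfac, Sylow.card_eq_multiplicity]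
  rfl

end Cfsg.Agent.S4090
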