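import Cfsg.Statements.S4091
import Mathlib
import Cfsg.Agent.Lib.Helper68.CoprimeProd
import Cfsg.Agent.Lib.Helper68.Casolo
-- import your own Cfsg.Agent.* helpers here

set_option autoImplicit false
open scoped BigOperators
open Cfsg

namespace Cfsg.Agent.S4091

open Cfsg.Agent.Lib.Helper68.Subn Cfsg.Agent.Lib.Helper68.CopProd

universe u

theorem prod_comp_hom {A B : Type*} [Group A] [Group B] [Fintype A] [Fintype B] (f : A →* B)
    (hf : Function.Surjective f) (g : B → ℕ) :
    ∏ a : A, g (f a) = (∏ b : B, g b) ^ Nat.card f.ker := by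
  classical
  rw [Finset.prod_comp g f, Finset.image_univ_of_surjective hf, ← Finset.prod_pow]
  apply Finset.prod_congr rfl
  intro b _
  congr 1
  obtain ⟨a0, rfl⟩ := hf b
  rw [← Fintype.card_subtype, ← Nat.card_eq_fintype_card]
  exact card_coset_like f.ker (fun a => f a = f a0) a0 (fun a => by
    rw [MonoidHom.mem_ker, map_mul, map_inv, inv_mul_eq_one, eq_comm])

theorem card_eq_ker_mul {A B : Type*} [Group A] [Group B] [Finite A] (f : A →* B)
    (hf : Function.Surjective f) : Nat.card A = Nat.card f.ker * Nat.card B := by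
  rw [Subgroup.card_eq_card_quotient_mul_card_subgroup f.ker,
    Nat.card_congr (QuotientGroup.quotientKerEquivOfSurjective f hf).toEquiv, mul_comm]

theorem centralizer_zpowers {G : Type*} [Group G] (x : G) :
    Subgroup.centralizer (Subgroup.zpowers x : Set G) = Subgroup.centralizer {x} := by
  rw [Subgroup.zpowers_eq_closure, Subgroup.centralizer_closure]

/-- The number of elements subnormalizing `H`. -/
noncomputable def sn {G : Type u} [Group G] (p : ℕ) (H : Subgroup G) : ℕ :=
  Nat.card {g : G // InSub p H g}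

theorem sn_pos {G : Type u} [Group G] [Finite G] (p : ℕ) (H : Subgroup G) (hH : IsPGroup p H) :
    0 < sn p H := by
  unfold sn
  rw [Nat.card_pos_iff]
  exact ⟨⟨⟨1, ⟨H, hH, le_rfl, Subgroup.one_mem _⟩⟩⟩, inferInstance⟩

theorem claim (p : ℕ) [Fact p.Prime] : ∀ (n : ℕ) (G : Type u) [Group G] [Finite G]
    (P : Subgroup G) (_ : IsPGroup p P) [Fintype P] (M : Fin (n + 1) → Subgroup G) (_ : M 0 = ⊥)
    (_ : M (Fin.last n) = ⊤) (_ : Monotone M) (_ : ∀ i, (M i).Normal)
    (_ : ∀ i : Fin n, (∃ m : ℕ, (M i.castSucc).relIndex (M i.succ) = p ^ m) ∨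
      ((M i.castSucc).relIndex (M i.succ)).Coprime p),
    ∏ x : P, sn p (Subgroup.zpowers x.1) ^ p ≤
      Nat.card G ^ Nat.card P * sn p P ^ ((p - 1) * Nat.card P) := by
  classical
  have hp : p.Prime := Fact.out
  have hp1 : 1 + (p - 1) = p := by have := hp.one_lt; omega
  intro n
  induction n with
  | zero =>
    intro G _ _ P hP _ M h0 hn hmono hnormal hfac
    have hbt : (⊥ : Subgroup G) = ⊤ := by
      rw [← h0, ← hn]; rfl
    have hsub : Subsingleton G := by
      rw [← Subgroup.subsingleton_iff, ← subsingleton_iff_bot_eq_top]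
      exact hbt
    have h1 : ∀ H : Subgroup G, sn p H ≤ 1 := by
      intro H
      unfold sn
      have : Nat.card {g : G // InSub p H g} ≤ Nat.card G := Nat.card_le_card_of_injective _
        Subtype.val_injective
      rwa [Nat.card_of_subsingleton (1 : G)] at this
    calc ∏ x : P, sn p (Subgroup.zpowers x.1) ^ p ≤ ∏ x : P, 1 :=
          Finset.prod_le_prod' (fun x _ => pow_le_one' (h1 _) p)
      _ = 1 := Finset.prod_const_one
      _ ≤ _ := Nat.one_le_iff_ne_zero.mpr (mul_ne_zero (pow_ne_zero _ Nat.card_pos.ne')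
          (pow_ne_zero _ (sn_pos p P hP).ne'))
  | succ n ih =>
    intro G _ _ P hP _ M h0 hn hmono hnormal hfac
    set N : Subgroup G := M 1 with hNdef
    haveI hNn : N.Normal := hnormal 1
    have hNle : ∀ i : Fin (n + 1), N ≤ M i.succ := by
      intro i
      apply hmono
      rw [← Fin.succ_zero_eq_one]
      exact Fin.succ_le_succ_iff.mpr (Fin.zero_le i)
    let M' : Fin (n + 1) → Subgroup (G ⧸ N) := fun i => (M i.succ).map (QuotientGroup.mk' N)
    have h0' : M' 0 = ⊥ := by
      show (M (Fin.succ 0)).map (QuotientGroup.mk' N) = ⊥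
      rw [Fin.succ_zero_eq_one]
      exact QuotientGroup.map_mk'_self N
    have hn' : M' (Fin.last n) = ⊤ := by
      show (M (Fin.last n).succ).map (QuotientGroup.mk' N) = ⊤
      rw [Fin.succ_last, hn]
      exact Subgroup.map_top_of_surjective _ (QuotientGroup.mk'_surjective N)
    have hmono' : Monotone M' := by
      intro i j hij
      exact Subgroup.map_mono (hmono (Fin.succ_le_succ_iff.mpr hij))
    have hnormal' : ∀ i, (M' i).Normal := by
      intro i
      haveI := hnormal i.succ
      exact Subgroup.Normal.map inferInstance _ (QuotientGroup.mk'_surjective N)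
    have hrel : ∀ i : Fin n, (M' i.castSucc).relIndex (M' i.succ) =
        (M i.succ.castSucc).relIndex (M i.succ.succ) := by
      intro i
      show ((M i.castSucc.succ).map (QuotientGroup.mk' N)).relIndex
        ((M i.succ.succ).map (QuotientGroup.mk' N)) = _
      rw [← Subgroup.relIndex_comap, comap_map_of_le N (hNle _), Fin.succ_castSucc]
    have hfac' : ∀ i : Fin n, (∃ m : ℕ, (M' i.castSucc).relIndex (M' i.succ) = p ^ m) ∨
        ((M' i.castSucc).relIndex (M' i.succ)).Coprime p := by
      intro i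
      rw [hrel i]
      exact hfac i.succ
    set Pb : Subgroup (G ⧸ N) := P.map (QuotientGroup.mk' N) with hPb
    have hPbp : IsPGroup p Pb := hP.map _
    haveI : Fintype Pb := Fintype.ofFinite _
    have hIH := ih (G ⧸ N) Pb hPbp M' h0' hn' hmono' hnormal' hfac'
    -- the projection of `P`
    set πh : P →* Pb := (QuotientGroup.mk' N).subgroupMap P with hπh
    have hπs : Function.Surjective πh := (QuotientGroup.mk' N).subgroupMap_surjective P
    set k : ℕ := Nat.card πh.ker with hk
    have hPk : Nat.card P = k * Nat.card Pb := card_eq_ker_mul πh hπs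
    have hcomp := prod_comp_hom πh hπs (fun y : Pb => sn p (Subgroup.zpowers y.1) ^ p)
    have hzp : ∀ x : P, (Subgroup.zpowers x.1).map (QuotientGroup.mk' N) =
        Subgroup.zpowers (πh x).1 := by
      intro x
      rw [MonoidHom.map_zpowers]
      rfl
    have hbound : ∏ x : P, sn p (Subgroup.zpowers (πh x).1) ^ p ≤
        Nat.card (G ⧸ N) ^ Nat.card P * sn p Pb ^ ((p - 1) * Nat.card P) := by
      rw [hcomp]
      calc (∏ b : Pb, sn p (Subgroup.zpowers b.1) ^ p) ^ k
          ≤ (Nat.card (G ⧸ N) ^ Nat.card Pb * sn p Pb ^ ((p - 1) * Nat.card Pb)) ^ k :=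
            Nat.pow_le_pow_left hIH k
        _ = Nat.card (G ⧸ N) ^ Nat.card P * sn p Pb ^ ((p - 1) * Nat.card P) := by
            rw [mul_pow, ← pow_mul, ← pow_mul, hPk]
            ring
    have hM0 : M (Fin.castSucc 0) = ⊥ := by rw [Fin.castSucc_zero]; exact h0
    have hM1 : M (Fin.succ 0) = N := by rw [Fin.succ_zero_eq_one]
    have hcardG : Nat.card G = Nat.card N * Nat.card (G ⧸ N) := by
      rw [Subgroup.card_eq_card_quotient_mul_card_subgroup N, mul_comm]
    have hzpP : ∀ x : P, IsPGroup p (Subgroup.zpowers x.1) := fun x =>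
      hP.to_le (Subgroup.zpowers_le.mpr x.2)
    by_cases hc : (Nat.card N).Coprime p
    · have hPN : P ≤ Subgroup.normalizer (N : Set G) := by
        rw [Subgroup.normalizer_eq_top]; exact le_top
      have hCL := coprime_prod p P hP (Nat.card N) N le_rfl hc hPN
      have hx : ∀ x : P, sn p (Subgroup.zpowers x.1) =
          Nat.card (N ⊓ Subgroup.centralizer {x.1} : Subgroup G) *
            sn p (Subgroup.zpowers (πh x).1) := by
        intro x
        unfold sn
        rw [card_inSub_of_coprime_normal N hc _ (hzpP x), centralizer_zpowers, hzp]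
      have hPP : sn p P = Nat.card (N ⊓ Subgroup.centralizer (P : Set G) : Subgroup G) *
          sn p Pb := by
        unfold sn
        rw [card_inSub_of_coprime_normal N hc P hP]
      simp only [hx, mul_pow, Finset.prod_mul_distrib]
      rw [hPP, hcardG, mul_pow, mul_pow]
      calc _ ≤ (Nat.card N ^ Nat.card P *
              Nat.card (N ⊓ Subgroup.centralizer (P : Set G) : Subgroup G) ^
                ((p - 1) * Nat.card P)) *
            (Nat.card (G ⧸ N) ^ Nat.card P * sn p Pb ^ ((p - 1) * Nat.card P)) :=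
            Nat.mul_le_mul hCL hbound
        _ = _ := by ring
    · have h00 := hfac 0
      rw [hM0, hM1, Subgroup.relIndex_bot_left] at h00
      obtain ⟨m, hm⟩ := h00.resolve_right hc
      have hNp : IsPGroup p N := IsPGroup.of_card hm
      have hx : ∀ x : P, sn p (Subgroup.zpowers x.1) =
          Nat.card N * sn p (Subgroup.zpowers (πh x).1) := by
        intro x
        unfold sn
        rw [card_inSub_of_pgroup_normal N hNp, hzp]
      have hNp' : Nat.card N ^ p = Nat.card N * Nat.card N ^ (p - 1) := by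
        rw [← pow_succ', Nat.sub_add_cancel hp.one_lt.le]
      have hPP : sn p P = Nat.card N * sn p Pb := by
        unfold sn
        rw [card_inSub_of_pgroup_normal N hNp P]
      simp only [hx, mul_pow, Finset.prod_mul_distrib, Finset.prod_const, Finset.card_univ]
      rw [hPP, hcardG, mul_pow, mul_pow, ← Nat.card_eq_fintype_card]
      calc _ ≤ (Nat.card N ^ p) ^ Nat.card P *
            (Nat.card (G ⧸ N) ^ Nat.card P * sn p Pb ^ ((p - 1) * Nat.card P)) :=
            Nat.mul_le_mul_left _ hbound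
        _ = _ := by
            rw [hNp']
            ring

theorem amgm_nat {ι : Type*} (s : Finset ι) (lam : ι → ℕ) (hpos : ∀ j ∈ s, 0 < lam j) (u : ℕ)
    (hu : (u : ℝ) = ∑ j ∈ s, ((lam j : ℝ))⁻¹) :
    s.card ^ s.card ≤ (∏ j ∈ s, lam j) * u ^ s.card := by
  by_cases hs : s.card = 0
  · rw [Finset.card_eq_zero] at hs
    subst hs
    simp
  have hcpos : (0 : ℝ) < (s.card : ℝ) := by exact_mod_cast Nat.pos_of_ne_zero hs
  have h := Real.geom_mean_le_arith_mean s (fun _ => (1 : ℝ)) (fun j => ((lam j : ℝ))⁻¹)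
    (fun _ _ => zero_le_one) (by simpa using hcpos) (fun j _ => by positivity)
  simp only [Real.rpow_one, one_mul, Finset.sum_const, nsmul_eq_mul, mul_one] at h
  rw [← hu] at h
  set L : ℝ := ∏ j ∈ s, ((lam j : ℝ))⁻¹ with hLdef
  have hL0 : 0 ≤ L := Finset.prod_nonneg (fun j _ => by positivity)
  have h2 : L ≤ ((u : ℝ) / s.card) ^ s.card := by
    have := pow_le_pow_left₀ (Real.rpow_nonneg hL0 _) h s.card
    rwa [Real.rpow_inv_natCast_pow hL0 hs] at this
  have hL : L = (((∏ j ∈ s, lam j : ℕ) : ℝ))⁻¹ := by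
    rw [hLdef, Finset.prod_inv_distrib]
    push_cast
    rfl
  have hPi : (0 : ℝ) < ((∏ j ∈ s, lam j : ℕ) : ℝ) := by
    exact_mod_cast Finset.prod_pos hpos
  have hM : (0 : ℝ) < (s.card : ℝ) ^ s.card := by positivity
  rw [hL, div_pow] at h2
  have h3 : (s.card : ℝ) ^ s.card ≤ ((∏ j ∈ s, lam j : ℕ) : ℝ) * (u : ℝ) ^ s.card := by
    have h4 := mul_le_mul_of_nonneg_left h2 hPi.le
    rw [mul_inv_cancel₀ hPi.ne', ← mul_div_assoc, le_div_iff₀ hM, one_mul] at h4
    exact h4
  exact_mod_cast h3

/-- Let G be a finite p-solvable group, P a Sylow p-subgroup of G, u the number of p-elements of G (elements of p-power order, the identity included) and n the number of Sylow p-subgroups of G. Then u/#P ≥ n^((p−1)/p), stated as u^p ≥ #P^p · n^(p−1). -/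
theorem result {G : Type*} [Group G] [Finite G] (p : ℕ) [Fact p.Prime]
    (hG : Cfsg.IsPSolvable p G) (P : Sylow p G) :
    Nat.card (P : Subgroup G) ^ p * Nat.card (Sylow p G) ^ (p - 1) ≤ Nat.card {g : G // ∃ k : ℕ, orderOf g = p ^ k} ^ p := by
  classical
  have hp : p.Prime := Fact.out
  obtain ⟨n, M, h0, hn, hmono, hnormal, hfac⟩ := hG
  haveI : Fintype G := Fintype.ofFinite G
  haveI : Fintype (Sylow p G) := Fintype.ofFinite _
  set Nn : ℕ := Nat.card (Subgroup.normalizer ((P : Subgroup G) : Set G)) with hNn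
  set np : ℕ := Nat.card (Sylow p G) with hnp
  set m : ℕ := Nat.card (P : Subgroup G) with hm
  set lam : G → ℕ := fun g => Nat.card {Q : Sylow p G // Subgroup.zpowers g ≤ (Q : Subgroup G)}
    with hlam
  have hNnpos : 0 < Nn := Nat.card_pos
  have hnppos : 0 < np := Nat.card_pos
  have hmpos : 0 < m := Nat.card_pos
  have hcardG : Nat.card G = np * Nn := by
    have h1 := Subgroup.card_mul_index (Subgroup.normalizer ((P : Subgroup G) : Set G))
    have h2 : Nat.card (Sylow p G) = (Subgroup.normalizer ((P : Subgroup G) : Set G)).index :=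
      Sylow.card_eq_index_normalizer P
    rw [hnp, h2, hNn, mul_comm]
    exact h1.symm
  have hcardQ : ∀ Q : Sylow p G, Nat.card (Q : Subgroup G) = m := by
    intro Q
    rw [hm, Sylow.card_eq_multiplicity, Sylow.card_eq_multiplicity]
  -- (*) for each Sylow subgroup
  have hstar : ∀ Q : Sylow p G,
      ∏ g ∈ Finset.univ.filter (fun g : G => g ∈ (Q : Subgroup G)), lam g ^ p ≤ np ^ m := by
    intro Q
    haveI : Fintype (Q : Subgroup G) := Fintype.ofFinite _
    have h1 := claim p n G (Q : Subgroup G) Q.2 M h0 hn hmono hnormal hfac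
    have h2 : ∀ x : (Q : Subgroup G), sn p (Subgroup.zpowers x.1) = lam x.1 * Nn := by
      intro x
      unfold sn
      rw [Cfsg.Agent.Lib.Helper68.Casolo.casolo p _ P]
    have h3 : sn p (Q : Subgroup G) = Nn := by
      unfold sn
      rw [Cfsg.Agent.Lib.Helper68.Casolo.casolo p _ P]
      have : Nat.card {Q' : Sylow p G // (Q : Subgroup G) ≤ (Q' : Subgroup G)} = 1 := by
        haveI : Unique {Q' : Sylow p G // (Q : Subgroup G) ≤ (Q' : Subgroup G)} :=
          { default := ⟨Q, le_rfl⟩
            uniq := fun Q' => Subtype.ext (Sylow.ext (Q.3 Q'.1.2 Q'.2)) }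
        exact Nat.card_unique
      rw [this, one_mul]
    simp only [h2, mul_pow, Finset.prod_mul_distrib, Finset.prod_const, Finset.card_univ] at h1
    rw [h3, hcardG, hcardQ, ← Nat.card_eq_fintype_card, hcardQ, mul_pow] at h1
    have h4 : (∏ x : (Q : Subgroup G), lam x.1 ^ p) * (Nn ^ p) ^ m ≤ np ^ m * (Nn ^ p) ^ m := by
      calc _ ≤ np ^ m * Nn ^ m * Nn ^ ((p - 1) * m) := h1
        _ = np ^ m * (Nn ^ p) ^ m := by
          have : Nn ^ p = Nn * Nn ^ (p - 1) := by
            rw [← pow_succ', Nat.sub_add_cancel hp.one_lt.le]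
          rw [this]; ring
    have h5 := Nat.le_of_mul_le_mul_right h4 (pow_pos (pow_pos hNnpos p) m)
    rw [← Finset.prod_subtype (Finset.univ.filter (fun g : G => g ∈ (Q : Subgroup G)))
      (p := fun g => g ∈ (Q : Subgroup G)) (by simp) (fun g => lam g ^ p)] at h5
    exact h5
  -- the index set
  set I : Finset (Σ _ : Sylow p G, G) := (Finset.univ : Finset (Sylow p G)).sigma
    (fun Q => Finset.univ.filter (fun g : G => g ∈ (Q : Subgroup G))) with hI
  have hfilt_card : ∀ Q : Sylow p G,
      (Finset.univ.filter (fun g : G => g ∈ (Q : Subgroup G))).card = m := by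
    intro Q
    rw [← hcardQ Q, Nat.card_eq_fintype_card, Fintype.card_subtype]
  have hIcard : I.card = np * m := by
    rw [hI, Finset.card_sigma, Finset.sum_congr rfl (fun Q _ => hfilt_card Q), Finset.sum_const,
      Finset.card_univ, smul_eq_mul, hnp, Nat.card_eq_fintype_card]
  have hlam_pos : ∀ j ∈ I, 0 < lam j.2 := by
    intro j hj
    rw [hI, Finset.mem_sigma, Finset.mem_filter] at hj
    rw [hlam]
    show 0 < Nat.card _
    rw [Nat.card_pos_iff]
    exact ⟨⟨⟨j.1, Subgroup.zpowers_le.mpr hj.2.2⟩⟩, inferInstance⟩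
  have hprod : (∏ j ∈ I, lam j.2) ^ p ≤ np ^ I.card := by
    rw [← Finset.prod_pow, hI, Finset.prod_sigma, ← hI, hIcard, mul_comm np m, pow_mul]
    calc _ ≤ ∏ _Q : Sylow p G, np ^ m := Finset.prod_le_prod' (fun Q _ => hstar Q)
      _ = (np ^ m) ^ np := by
        rw [Finset.prod_const, Finset.card_univ, hnp, Nat.card_eq_fintype_card]
  -- the sum
  set u : ℕ := Nat.card {g : G // ∃ k : ℕ, orderOf g = p ^ k} with hu
  have hlam_iff : ∀ g : G, lam g ≠ 0 ↔ ∃ k : ℕ, orderOf g = p ^ k := by
    intro g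
    constructor
    · intro h
      have h1 : 0 < lam g := Nat.pos_of_ne_zero h
      rw [hlam] at h1
      have h1' : 0 < Nat.card {Q : Sylow p G // Subgroup.zpowers g ≤ (Q : Subgroup G)} := h1
      rw [Nat.card_pos_iff] at h1'
      obtain ⟨⟨⟨Q, hQ⟩⟩, _⟩ := h1'
      have hgQ : g ∈ (Q : Subgroup G) := Subgroup.zpowers_le.mp hQ
      obtain ⟨k, hk⟩ := Q.2 ⟨g, hgQ⟩
      have hk' : g ^ p ^ k = 1 := by
        have := congrArg Subtype.val hk
        simpa using this
      obtain ⟨j, _, hj⟩ := (Nat.dvd_prime_pow hp).mp (orderOf_dvd_of_pow_eq_one hk')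
      exact ⟨j, hj⟩
    · rintro ⟨k, hk⟩
      have h1 : IsPGroup p (Subgroup.zpowers g) := by
        apply IsPGroup.of_card (n := k)
        rw [Nat.card_zpowers, hk]
      obtain ⟨Q, hQ⟩ := h1.exists_le_sylow
      have : 0 < lam g := by
        show 0 < Nat.card _
        rw [Nat.card_pos_iff]
        exact ⟨⟨⟨Q, hQ⟩⟩, inferInstance⟩
      exact this.ne'
  have hlam_eq : ∀ g : G, (Finset.univ.filter (fun Q : Sylow p G => g ∈ (Q : Subgroup G))).card =
      lam g := by
    intro g
    show _ = Nat.card _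
    rw [Nat.card_eq_fintype_card, Fintype.card_subtype]
    congr 1
    ext Q
    simp only [Finset.mem_filter, Finset.mem_univ, true_and]
    exact Subgroup.zpowers_le.symm
  have hsum : (u : ℝ) = ∑ j ∈ I, ((lam j.2 : ℝ))⁻¹ := by
    rw [hI, Finset.sum_sigma]
    simp only [Finset.sum_filter]
    rw [Finset.sum_comm]
    have h1 : ∀ g : G, ∑ Q : Sylow p G, (if g ∈ (Q : Subgroup G) then ((lam g : ℝ))⁻¹ else 0) =
        if lam g ≠ 0 then 1 else 0 := by
      intro g
      rw [← Finset.sum_filter, Finset.sum_const, hlam_eq g, nsmul_eq_mul]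
      by_cases h : lam g = 0
      · simp [h]
      · rw [if_pos h]
        exact mul_inv_cancel₀ (Nat.cast_ne_zero.mpr h)
    rw [Finset.sum_congr rfl (fun g _ => h1 g), Finset.sum_boole, hu, Nat.card_eq_fintype_card,
      Fintype.card_subtype]
    congr 2
    ext g
    simp only [Finset.mem_filter, Finset.mem_univ, true_and]
    exact (hlam_iff g).symm
  have hAG := amgm_nat I (fun j => lam j.2) hlam_pos u hsum
  -- conclude
  have hIpos : I.card ≠ 0 := by rw [hIcard]; exact (Nat.mul_pos hnppos hmpos).ne'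
  have h6 : (I.card ^ p) ^ I.card ≤ (np * u ^ p) ^ I.card := by
    calc (I.card ^ p) ^ I.card = (I.card ^ I.card) ^ p := by ring
      _ ≤ ((∏ j ∈ I, lam j.2) * u ^ I.card) ^ p := Nat.pow_le_pow_left hAG p
      _ = (∏ j ∈ I, lam j.2) ^ p * (u ^ p) ^ I.card := by ring
      _ ≤ np ^ I.card * (u ^ p) ^ I.card := Nat.mul_le_mul_right _ hprod
      _ = (np * u ^ p) ^ I.card := by ring
  have h7 : I.card ^ p ≤ np * u ^ p := (Nat.pow_le_pow_iff_left hIpos).mp h6
  rw [hIcard, mul_pow] at h7
  have h8 : np ^ p = np * np ^ (p - 1) := by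
    rw [← pow_succ', Nat.sub_add_cancel hp.one_lt.le]
  rw [h8, mul_assoc] at h7
  have h9 := Nat.le_of_mul_le_mul_left h7 hnppos
  rw [mul_comm]
  exact h9

end Cfsg.Agent.S4091
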