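import Cfsg.Statements.S4092
import Mathlib

set_option autoImplicit false
open Cfsg
open scoped Pointwise

namespace Cfsg.Agent.S4092

theorem card_filter_mem {G : Type*} [Group G] [Fintype G] [DecidableEq G] (H : Subgroup G)
    [DecidablePred (· ∈ H)] : (Finset.univ.filter (· ∈ H)).card = Nat.card H := by
  rw [Nat.card_eq_fintype_card, Fintype.card_subtype]

/-- counting a "sunflower" of subgroups -/
theorem sunflower {G : Type*} [Group G] [Finite G] {ι : Type} [Fintype ι] (F : ι → Subgroup G)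
    (D : Subgroup G) (c : ℕ) (hc : ∀ i, Nat.card (F i) = c) (hD : ∀ i, D ≤ F i)
    (hpair : ∀ i j, i ≠ j → F i ⊓ F j = D) (U : Set G) (hU : ∀ i, (F i : Set G) ⊆ U) (hDU : (D : Set G) ⊆ U) :
    Nat.card D + Fintype.card ι * (c - Nat.card D) ≤ U.ncard := by
  classical
  have := Fintype.ofFinite G
  let Dset : Finset G := Finset.univ.filter (· ∈ D)
  let T : ι → Finset G := fun i => (Finset.univ.filter (· ∈ F i)) \ Dset
  have hDcard : Dset.card = Nat.card D := card_filter_mem D
  have hTcard : ∀ i, (T i).card = c - Nat.card D := by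
    intro i
    have hsub : Dset ⊆ Finset.univ.filter (· ∈ F i) := by
      intro g hg
      simp only [Dset, Finset.mem_filter, Finset.mem_univ, true_and] at hg ⊢
      exact hD i hg
    rw [Finset.card_sdiff_of_subset hsub, card_filter_mem, hc i, hDcard]
  have hdisjT : ∀ i ∈ (Finset.univ : Finset ι), ∀ j ∈ (Finset.univ : Finset ι),
      i ≠ j → Disjoint (T i) (T j) := by
    intro i _ j _ hij
    rw [Finset.disjoint_left]
    intro g hgi hgj
    simp only [T, Dset, Finset.mem_sdiff, Finset.mem_filter, Finset.mem_univ, true_and] at hgi hgj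
    have : g ∈ F i ⊓ F j := ⟨hgi.1, hgj.1⟩
    rw [hpair i j hij] at this
    exact hgi.2 this
  have hdisjD : Disjoint Dset (Finset.univ.biUnion T) := by
    rw [Finset.disjoint_left]
    intro g hg hg'
    rw [Finset.mem_biUnion] at hg'
    obtain ⟨i, -, hi⟩ := hg'
    simp only [T, Finset.mem_sdiff] at hi
    exact hi.2 hg
  have hsubU : Dset ∪ Finset.univ.biUnion T ⊆ U.toFinset := by
    intro g hg
    rw [Set.mem_toFinset]
    rw [Finset.mem_union] at hg
    rcases hg with hg | hg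
    · simp only [Dset, Finset.mem_filter, Finset.mem_univ, true_and] at hg
      exact hDU hg
    · rw [Finset.mem_biUnion] at hg
      obtain ⟨i, -, hi⟩ := hg
      simp only [T, Finset.mem_sdiff, Finset.mem_filter, Finset.mem_univ, true_and] at hi
      exact hU i hi.1
  have h1 := Finset.card_le_card hsubU
  rw [Finset.card_union_of_disjoint hdisjD, Finset.card_biUnion hdisjT, hDcard] at h1
  simp only [hTcard, Finset.sum_const, Finset.card_univ, smul_eq_mul] at h1
  rw [Set.ncard_eq_toFinset_card']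
  exact h1

/-- a `p`-element normalising a Sylow `p`-subgroup lies in it -/
theorem mem_of_mem_normalizer {G : Type*} [Group G] (p : ℕ) [Fact p.Prime] (P : Sylow p G)
    (x : G) (hx : IsPGroup p (Subgroup.zpowers x))
    (hn : x ∈ Subgroup.normalizer ((P : Subgroup G) : Set G)) : x ∈ P := by
  have hle : Subgroup.zpowers x ≤ Subgroup.normalizer ((P : Subgroup G) : Set G) :=
    Subgroup.zpowers_le.mpr hn
  have h1 : IsPGroup p (Subgroup.zpowers x ⊔ (P : Subgroup G) : Subgroup G) :=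
    hx.to_sup_of_normal_right' P.isPGroup' hle
  have h2 := P.is_maximal' h1 le_sup_right
  have : x ∈ Subgroup.zpowers x ⊔ (P : Subgroup G) :=
    (le_sup_left : Subgroup.zpowers x ≤ _) (Subgroup.mem_zpowers x)
  rw [h2] at this
  exact this


theorem smul_mem_iff {G : Type*} [Group G] (p : ℕ) (P : Sylow p G) (g y : G) :
    y ∈ g • P ↔ g⁻¹ * y * g ∈ P := by
  have : y ∈ g • P ↔ y ∈ (MulAut.conj g • (P : Subgroup G)) := by
    rw [← Sylow.coe_subgroup_smul]; rfl
  rw [this, Subgroup.mem_pointwise_smul_iff_inv_smul_mem]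
  simp only [MulAut.smul_def, ← map_inv, MulAut.conj_apply, inv_inv]
  rfl

/-- Let G be a finite group, p a prime and P a Sylow p-subgroup of G that is not normal in G. Then G has at least p·#P elements of p-power order (the identity included). -/
theorem result {G : Type*} [Group G] [Finite G] (p : ℕ) [Fact p.Prime]
    (P : Sylow p G) (hP : ¬ (P : Subgroup G).Normal) :
    p * Nat.card (P : Subgroup G) ≤ Nat.card {g : G // ∃ k : ℕ, orderOf g = p ^ k} := by
  classical
  have hpp : p.Prime := Fact.out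
  -- Step 1: another Sylow
  have hex : ∃ Q : Sylow p G, Q ≠ P := by
    by_contra h
    push Not at h
    have : Subsingleton (Sylow p G) := ⟨fun a b => (h a).trans (h b).symm⟩
    exact hP (Sylow.normal_of_subsingleton P)
  obtain ⟨Q₀, hQ₀⟩ := hex
  -- Step 2: maximal pair
  have := Fintype.ofFinite (Sylow p G)
  let S : Finset (Sylow p G × Sylow p G) := Finset.univ.filter (fun pq => pq.1 ≠ pq.2)
  have hS : S.Nonempty := ⟨(Q₀, P), by simp [S, hQ₀]⟩
  obtain ⟨⟨P₁, P₂⟩, hmem, hmax⟩ := Finset.exists_max_image S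
    (fun pq => Nat.card ((pq.1 : Subgroup G) ⊓ (pq.2 : Subgroup G) : Subgroup G)) hS
  have hne : P₁ ≠ P₂ := by simpa [S] using hmem
  set D : Subgroup G := (P₁ : Subgroup G) ⊓ (P₂ : Subgroup G) with hD
  have hmaxD : ∀ Q₁ Q₂ : Sylow p G, Q₁ ≠ Q₂ → D ≤ Q₁ → D ≤ Q₂ →
      (Q₁ : Subgroup G) ⊓ (Q₂ : Subgroup G) = D := by
    intro Q₁ Q₂ hQ h1 h2
    have hle : D ≤ (Q₁ : Subgroup G) ⊓ (Q₂ : Subgroup G) := le_inf h1 h2
    have hcard := hmax (Q₁, Q₂) (by simp [S, hQ])
    exact (Subgroup.eq_of_le_of_card_ge hle hcard).symm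
  have hDP₂ : ¬ (P₂ : Subgroup G) ≤ D := by
    intro hle
    have h1 : (P₂ : Subgroup G) ≤ P₁ := hle.trans inf_le_left
    have h2 := P₂.is_maximal' P₁.isPGroup' h1
    exact hne (Sylow.ext h2)
  -- Step 4: the element x
  have hnil : Group.IsNilpotent (P₂ : Subgroup G) := P₂.isPGroup'.isNilpotent
  have hlt : D.subgroupOf P₂ < ⊤ := by
    rw [lt_top_iff_ne_top, Ne, Subgroup.subgroupOf_eq_top]
    exact hDP₂
  have hnc := Group.normalizerCondition_of_isNilpotent (G := (P₂ : Subgroup G)) _ hlt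
  obtain ⟨x', hx'n, hx'D⟩ := SetLike.exists_of_lt hnc
  set x : G := (x' : G) with hx
  have hxP₂ : x ∈ (P₂ : Subgroup G) := x'.2
  have hxD : x ∉ D := fun h => hx'D (Subgroup.mem_subgroupOf.mpr h)
  rw [Subgroup.mem_normalizer_iff] at hx'n
  have hDP₂' : D ≤ P₂ := inf_le_right
  have hxn1 : ∀ d ∈ D, x⁻¹ * d * x ∈ D := by
    intro d hd
    have h1 := (hx'n (x'⁻¹ * ⟨d, hDP₂' hd⟩ * x')).mpr (by
      have : x' * (x'⁻¹ * ⟨d, hDP₂' hd⟩ * x') * x'⁻¹ = ⟨d, hDP₂' hd⟩ := by group
      rw [this]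
      exact Subgroup.mem_subgroupOf.mpr hd)
    exact Subgroup.mem_subgroupOf.mp h1
  have hxn : ∀ i : ℕ, ∀ d ∈ D, (x ^ i)⁻¹ * d * x ^ i ∈ D := by
    intro i
    induction i with
    | zero => intro d hd; simpa using hd
    | succ i ih =>
      intro d hd
      have h1 := ih _ (hxn1 d hd)
      have : (x ^ (i + 1))⁻¹ * d * x ^ (i + 1) = (x ^ i)⁻¹ * (x⁻¹ * d * x) * x ^ i := by
        rw [pow_succ']; group
      rw [this]; exact h1
  -- x is a p-element
  have hxp : ∀ i : ℕ, IsPGroup p (Subgroup.zpowers (x ^ i)) := by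
    intro i
    apply P₂.isPGroup'.to_le
    rw [Subgroup.zpowers_le]
    exact Subgroup.pow_mem _ hxP₂ i
  obtain ⟨a, ha⟩ := (IsPGroup.iff_orderOf.mp P₂.isPGroup') ⟨x, hxP₂⟩
  rw [Subgroup.orderOf_mk] at ha
  -- the family
  let F : Option (Fin p) → Sylow p G := fun o =>
    match o with
    | none => P₂
    | some i => (x ^ (i : ℕ)) • P₁
  have hFD : ∀ o, D ≤ (F o : Subgroup G) := by
    intro o
    cases o with
    | none => exact hDP₂'
    | some i =>
      intro d hd
      show d ∈ (x ^ (i : ℕ)) • P₁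
      rw [smul_mem_iff]
      exact (inf_le_left : D ≤ P₁) (hxn i d hd)
  have hkey : ∀ k : ℕ, 0 < k → k < p → (x ^ k) • P₁ ≠ P₁ := by
    intro k hk0 hkp hsm
    rw [Sylow.smul_eq_iff_mem_normalizer] at hsm
    have h1 : x ^ k ∈ P₁ := mem_of_mem_normalizer p P₁ (x ^ k) (hxp k) hsm
    have h2 : x ^ k ∈ D := ⟨h1, Subgroup.pow_mem _ hxP₂ k⟩
    have hcop : Nat.Coprime k (orderOf x) := by
      rw [ha]
      apply Nat.Coprime.pow_right
      exact ((Nat.Prime.coprime_iff_not_dvd hpp).mpr (Nat.not_dvd_of_pos_of_lt hk0 hkp)).symm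
    have h3 : x ∈ Subgroup.zpowers (x ^ k) := mem_zpowers_pow_iff.mpr hcop
    exact hxD ((Subgroup.zpowers_le.mpr h2) h3)
  have hFinj : ∀ o o', o ≠ o' → F o ≠ F o' := by
    have hsome_none : ∀ i : Fin p, (x ^ (i : ℕ)) • P₁ ≠ P₂ := by
      intro i h
      apply hne
      have h1 : (x ^ (i : ℕ))⁻¹ • ((x ^ (i : ℕ)) • P₁) = (x ^ (i : ℕ))⁻¹ • P₂ := by rw [h]
      rw [inv_smul_smul] at h1
      rw [h1, Sylow.smul_eq_iff_mem_normalizer]
      exact Subgroup.le_normalizer (P₂.inv_mem (Subgroup.pow_mem _ hxP₂ _))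
    have hsome_some : ∀ i j : Fin p, (i : ℕ) < (j : ℕ) →
        (x ^ (i : ℕ)) • P₁ ≠ (x ^ (j : ℕ)) • P₁ := by
      intro i j hij h
      obtain ⟨k, hk⟩ := Nat.exists_eq_add_of_lt hij
      have hk' : (j : ℕ) = (i : ℕ) + (k + 1) := by omega
      apply hkey (k + 1) (Nat.succ_pos k) (by have := j.2; omega)
      have h1 : (x ^ (i : ℕ))⁻¹ • ((x ^ (i : ℕ)) • P₁) = (x ^ (i : ℕ))⁻¹ • ((x ^ (j : ℕ)) • P₁) := by
        rw [h]
      rw [inv_smul_smul, smul_smul, hk', pow_add, inv_mul_cancel_left] at h1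
      exact h1.symm
    intro o o' hoo'
    cases o with
    | none =>
      cases o' with
      | none => exact absurd rfl hoo'
      | some j => exact (hsome_none j).symm
    | some i =>
      cases o' with
      | none => exact hsome_none i
      | some j =>
        have hij : (i : ℕ) ≠ (j : ℕ) := by
          intro h
          apply hoo'
          rw [Fin.ext h]
        rcases lt_or_gt_of_ne hij with h | h
        · exact hsome_some i j h
        · exact (hsome_some j i h).symm
  -- cardinalities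
  have hcardF : ∀ o, Nat.card (F o : Subgroup G) = Nat.card (P : Subgroup G) := by
    intro o
    rw [Sylow.card_eq_multiplicity, Sylow.card_eq_multiplicity]
  have hpD : p * Nat.card D ≤ Nat.card (P : Subgroup G) := by
    rw [← hcardF none]
    show p * Nat.card D ≤ Nat.card (P₂ : Subgroup G)
    have h1 : D.relIndex P₂ * Nat.card D = Nat.card (P₂ : Subgroup G) := by
      have h0 := (D.subgroupOf P₂).index_mul_card
      rw [Nat.card_congr (Subgroup.subgroupOfEquivOfLe hDP₂').toEquiv] at h0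
      exact h0
    have h2 : D.relIndex P₂ ≠ 1 := by
      intro h
      exact hDP₂ (Subgroup.relIndex_eq_one.mp h)
    obtain ⟨b, hb⟩ := IsPGroup.iff_card.mp P₂.isPGroup'
    have h3 : D.relIndex P₂ ∣ p ^ b := by
      rw [← hb, ← h1]; exact Dvd.intro _ rfl
    obtain ⟨j, -, hj⟩ := (Nat.dvd_prime_pow hpp).mp h3
    have hj0 : j ≠ 0 := by
      rintro rfl
      exact h2 (by simpa using hj)
    rw [← h1, hj]
    exact Nat.mul_le_mul_right _ (Nat.le_self_pow hj0 p)
  -- apply the sunflower count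
  have hsun := sunflower (fun o => (F o : Subgroup G)) D (Nat.card (P : Subgroup G)) hcardF hFD
    (fun o o' hoo' => hmaxD (F o) (F o') (hFinj o o' hoo') (hFD o) (hFD o'))
    {g : G | ∃ k : ℕ, orderOf g = p ^ k}
    (fun o g hg => by
      obtain ⟨k, hk⟩ := (IsPGroup.iff_orderOf.mp (F o).isPGroup') ⟨g, hg⟩
      rw [Subgroup.orderOf_mk] at hk
      exact ⟨k, hk⟩)
    (fun g hg => by
      obtain ⟨k, hk⟩ := (IsPGroup.iff_orderOf.mp P₂.isPGroup') ⟨g, hDP₂' hg⟩
      rw [Subgroup.orderOf_mk] at hk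
      exact ⟨k, hk⟩)
  rw [Fintype.card_option, Fintype.card_fin] at hsun
  have hle : Nat.card D ≤ Nat.card (P : Subgroup G) := by
    have : 1 * Nat.card D ≤ p * Nat.card D := Nat.mul_le_mul_right _ hpp.one_lt.le
    omega
  obtain ⟨e, he⟩ := Nat.exists_eq_add_of_le hle
  have hfin : p * Nat.card (P : Subgroup G) ≤ Nat.card D + (p + 1) * (Nat.card (P : Subgroup G) - Nat.card D) := by
    rw [he] at hpD ⊢
    rw [Nat.add_sub_cancel_left]
    nlinarith
  calc p * Nat.card (P : Subgroup G) ≤ _ := hfin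
    _ ≤ _ := hsun

end Cfsg.Agent.S4092
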