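import Cfsg.Statements.S4093
import Mathlib

set_option autoImplicit false
open Cfsg
open scoped BigOperators Pointwise

namespace Cfsg.Agent.S4093

/-- counting the range of a map out of a group whose fibres are the cosets of a subgroup -/
theorem card_range_mul {N X : Type*} [Group N] [Finite N] (φ : N → X) (K : Subgroup N)
    (h : ∀ n m, φ n = φ m ↔ n⁻¹ * m ∈ K) :
    Nat.card (Set.range φ) * Nat.card K = Nat.card N := by
  have hwd : ∀ a b : N, (QuotientGroup.leftRel K) a b →
      (⟨φ a, a, rfl⟩ : Set.range φ) = ⟨φ b, b, rfl⟩ := by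
    intro a b hab
    rw [QuotientGroup.leftRel_apply] at hab
    exact Subtype.ext ((h a b).mpr hab)
  let ψ : N ⧸ K → Set.range φ := Quotient.lift (fun n => (⟨φ n, n, rfl⟩ : Set.range φ)) hwd
  have hψ : Function.Bijective ψ := by
    constructor
    · intro a b hab
      induction a using QuotientGroup.induction_on with
      | H a =>
      induction b using QuotientGroup.induction_on with
      | H b =>
      have : φ a = φ b := congrArg Subtype.val hab
      exact QuotientGroup.eq.mpr ((h a b).mp this)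
    · rintro ⟨y, n, rfl⟩
      exact ⟨QuotientGroup.mk n, rfl⟩
  rw [← Nat.card_eq_of_bijective ψ hψ]
  exact (Subgroup.card_eq_card_quotient_mul_card_subgroup K).symm

theorem card_orbit {G : Type*} [Group G] [Finite G] (N : Subgroup G) (x : G) :
    Nat.card (Set.range (fun n : N => (n : G) * x * (n : G)⁻¹)) =
      Nat.card N / Nat.card ↥(N ⊓ Subgroup.centralizer ({x} : Set G)) := by
  have h1 := card_range_mul (fun n : N => (n : G) * x * (n : G)⁻¹)
    ((Subgroup.centralizer ({x} : Set G)).subgroupOf N) (by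
      intro n m
      rw [Subgroup.mem_subgroupOf, Subgroup.mem_centralizer_singleton_iff]
      simp only [Subgroup.coe_mul, Subgroup.coe_inv]
      constructor
      · intro h
        calc (n : G)⁻¹ * (m : G) * x = (n : G)⁻¹ * ((m : G) * x * (m : G)⁻¹) * (m : G) := by group
          _ = (n : G)⁻¹ * ((n : G) * x * (n : G)⁻¹) * (m : G) := by rw [h]
          _ = x * ((n : G)⁻¹ * (m : G)) := by group
      · intro h
        calc (n : G) * x * (n : G)⁻¹ = (n : G) * (x * ((n : G)⁻¹ * (m : G))) * (m : G)⁻¹ := by group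
          _ = (n : G) * ((n : G)⁻¹ * (m : G) * x) * (m : G)⁻¹ := by rw [h]
          _ = (m : G) * x * (m : G)⁻¹ := by group)
  have h2 : Nat.card ↥((Subgroup.centralizer ({x} : Set G)).subgroupOf N)
      = Nat.card ↥(N ⊓ Subgroup.centralizer ({x} : Set G)) := by
    rw [← Subgroup.inf_subgroupOf_left]
    exact Nat.card_congr (Subgroup.subgroupOfEquivOfLe inf_le_left).toEquiv
  rw [h2] at h1
  exact (Nat.div_eq_of_eq_mul_left Nat.card_pos h1.symm).symm

/-- Let G be a finite group with a normal subgroup N complementing a Sylow p-subgroup P (a normal p-complement). Then the number of elements of G of p-power order equals the sum over x ∈ P of the index of C_N(x) in N. -/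
theorem result {G : Type*} [Group G] [Finite G] (p : ℕ) [Fact p.Prime]
    (P : Sylow p G) (N : Subgroup G) [N.Normal] (hNP : N.IsComplement' (P : Subgroup G)) :
    Nat.card {g : G // ∃ k : ℕ, orderOf g = p ^ k} =
      ∑ᶠ x : (P : Subgroup G), Nat.card N / Nat.card ↥(N ⊓ Subgroup.centralizer ({(x : G)} : Set G)) := by
  classical
  have := Fintype.ofFinite (P : Subgroup G)
  rw [finsum_eq_sum_of_fintype]
  simp_rw [← card_orbit N]
  rw [← Nat.card_sigma]
  symm
  let Φ : (Σ x : (P : Subgroup G), Set.range (fun n : N => (n : G) * (x : G) * (n : G)⁻¹)) →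
      {g : G // ∃ k : ℕ, orderOf g = p ^ k} := fun xg =>
    ⟨xg.2.1, by
      obtain ⟨n, hn⟩ := xg.2.2
      obtain ⟨k, hk⟩ := (IsPGroup.iff_orderOf.mp P.isPGroup') xg.1
      refine ⟨k, ?_⟩
      have hn' : (n : G) * (xg.1 : G) * (n : G)⁻¹ = xg.2.1 := hn
      rw [← hn']
      have : (n : G) * (xg.1 : G) * (n : G)⁻¹ = MulAut.conj (n : G) (xg.1 : G) := by simp
      rw [this, MulEquiv.orderOf_eq, Subgroup.orderOf_coe, hk]⟩
  apply Nat.card_eq_of_bijective Φ
  have hdisj := hNP.disjoint
  constructor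
  · rintro ⟨x, g, n, hn⟩ ⟨x', g', n', hn'⟩ h
    have hg : g = g' := congrArg Subtype.val h
    subst hg
    have hxx' : x = x' := by
      -- x⁻¹ x' ∈ N ∩ P
      have hmem : (x : G)⁻¹ * (x' : G) ∈ N := by
        have hn1 : (n : G) * (x : G) * (n : G)⁻¹ = g := hn
        have hn1' : (n' : G) * (x' : G) * (n' : G)⁻¹ = g := hn'
        have hx : (x : G) = (n : G)⁻¹ * g * (n : G) := by rw [← hn1]; group
        have hx' : (x' : G) = (n' : G)⁻¹ * g * (n' : G) := by rw [← hn1']; group
        have e : (x : G)⁻¹ * (x' : G) =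
            (n : G)⁻¹ * (g⁻¹ * ((n : G) * (n' : G)⁻¹) * g⁻¹⁻¹) * (n' : G) := by
          rw [hx, hx']; group
        rw [e]
        apply N.mul_mem (N.mul_mem (N.inv_mem n.2) _) n'.2
        exact ‹N.Normal›.conj_mem _ (N.mul_mem n.2 (N.inv_mem n'.2)) g⁻¹
      have hmemP : (x : G)⁻¹ * (x' : G) ∈ (P : Subgroup G) :=
        (P : Subgroup G).mul_mem ((P : Subgroup G).inv_mem x.2) x'.2
      have h1 : (x : G)⁻¹ * (x' : G) = 1 := by
        have := Subgroup.disjoint_def.mp hdisj hmem hmemP
        exact this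
      apply Subtype.ext
      exact (inv_mul_eq_one.mp h1)
    subst hxx'
    rfl
  · rintro ⟨g, k, hk⟩
    -- g lies in a Sylow subgroup, conjugate to P by an element of N
    have hz : IsPGroup p (Subgroup.zpowers g) := by
      apply IsPGroup.of_card (n := k)
      rw [Nat.card_zpowers, hk]
    obtain ⟨Q, hQ⟩ := hz.exists_le_sylow
    obtain ⟨h, hh⟩ := MulAction.exists_smul_eq G P Q
    obtain ⟨⟨n, y⟩, hny⟩ := (hNP.existsUnique h).exists
    have hny' : (n : G) * (y : G) = h := hny
    have hgQ : g ∈ Q := hQ (Subgroup.mem_zpowers g)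
    have hgQ' : g ∈ (MulAut.conj h • (P : Subgroup G)) := by
      rw [← Sylow.coe_subgroup_smul, hh]; exact hgQ
    rw [Subgroup.mem_smul_pointwise_iff_exists] at hgQ'
    obtain ⟨k', hk'P, hk'g⟩ := hgQ'
    have hk'g' : h * k' * h⁻¹ = g := by
      rw [← hk'g]; simp [MulAut.smul_def]
    have hxP : (y : G) * k' * (y : G)⁻¹ ∈ (P : Subgroup G) :=
      (P : Subgroup G).mul_mem ((P : Subgroup G).mul_mem y.2 hk'P) ((P : Subgroup G).inv_mem y.2)
    refine ⟨⟨⟨(y : G) * k' * (y : G)⁻¹, hxP⟩, ⟨g, n, ?_⟩⟩, rfl⟩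
    show (n : G) * ((y : G) * k' * (y : G)⁻¹) * (n : G)⁻¹ = g
    rw [← hk'g', ← hny']; group

end Cfsg.Agent.S4093
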