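import Cfsg.Statements.S4097
import Cfsg.Agent.Lib.Helper74.FrobThm
import Cfsg.Agent.Lib.Helper74.FrobAux
import Cfsg.Agent.S0023
import Cfsg.Agent.Lib.Helper22.Solvable
-- import your own Cfsg.Agent.* helpers here

set_option autoImplicit false
open Cfsg

namespace Cfsg.Agent.S4097

open scoped Pointwise

universe u

/-- membership in a conjugate subgroup -/
lemma mem_conj_smul {G : Type*} [Group G] {g x : G} {H : Subgroup G} :
    x ∈ MulAut.conj g • H ↔ g⁻¹ * x * g ∈ H := by
  rw [Subgroup.mem_pointwise_smul_iff_inv_smul_mem]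
  simp [MulAut.smul_def]

/-- preimage of a solvable subgroup under a hom with commutative kernel is solvable -/
lemma isSolvable_comap_of_ker_comm {G H : Type*} [Group G] [Group H] (f : G →* H)
    (T : Subgroup H) (hT : Group.IsSolvable T)
    (hk : ∀ x ∈ f.ker, ∀ y ∈ f.ker, x * y = y * x) : Group.IsSolvable (T.comap f) := by
  let g : T.comap f →* T := f.subgroupComap T
  have hmem : ∀ x : g.ker, ((x : T.comap f) : G) ∈ f.ker := by
    intro x
    have h1 : g (x : T.comap f) = 1 := x.2
    have h2 : ((g (x : T.comap f) : T) : H) = 1 := by rw [h1]; rfl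
    exact h2
  have hker : Group.IsSolvable g.ker := by
    apply Group.isSolvable_of_comm
    intro x y
    apply Subtype.ext
    apply Subtype.ext
    exact hk _ (hmem x) _ (hmem y)
  exact Group.isSolvable_of_ker_le_range g.ker.subtype g (by rw [Subgroup.range_subtype])

theorem main : ∀ (n : ℕ) (G : Type u) [Group G] [Finite G], Nat.card G = n →
    ∀ (A : Subgroup G), Group.IsSolvable A →
    (∀ S : Subgroup G, A ≤ S → Group.IsSolvable S → ∀ a ∈ A, ∀ s ∈ S, a * s = s * a) →
    A ≤ Subgroup.center G := by
  intro n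
  induction n using Nat.strong_induction_on with
  | _ n ih =>
  intro G _ _ hn A hA hc
  by_contra hcon
  have hAab : ∀ a ∈ A, ∀ b ∈ A, a * b = b * a := fun a ha b hb => hc A le_rfl hA a ha b hb
  set C := Subgroup.centralizer (A : Set G) with hC
  have hAC : A ≤ C := fun a ha => Subgroup.mem_centralizer_iff.mpr (fun b hb => hAab b hb a ha)
  have hcentral_of : (∀ g : G, g ∈ C) → False := by
    intro h
    apply hcon
    intro a ha
    rw [Subgroup.mem_center_iff]
    intro g
    exact (Subgroup.mem_centralizer_iff.mp (h g) a ha).symm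
  have hCtop : C ≠ ⊤ := by
    intro h
    exact hcentral_of (fun g => h ▸ Subgroup.mem_top g)
  -- key: every proper subgroup containing A lies in C
  have key : ∀ H : Subgroup G, A ≤ H → H ≠ ⊤ → H ≤ C := by
    intro H hAH hH
    have hlt : Nat.card H < n := by
      rw [← hn]
      exact lt_of_le_of_ne (Subgroup.card_le_card_group H)
        (fun h => hH (Subgroup.eq_top_of_card_eq H h))
    have hsol : Group.IsSolvable (A.subgroupOf H) :=
      Group.isSolvable_of_isSolvable_injective (f := (Subgroup.subgroupOfEquivOfLe hAH).toMonoidHom)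
        (Subgroup.subgroupOfEquivOfLe hAH).injective
    have hcond : ∀ S : Subgroup H, A.subgroupOf H ≤ S → Group.IsSolvable S →
        ∀ a ∈ A.subgroupOf H, ∀ s ∈ S, a * s = s * a := by
      intro S hAS hS a ha s hs
      have hS' : Group.IsSolvable (S.map H.subtype) :=
        Group.isSolvable_of_surjective (f := (H.subtype.subgroupMap S))
          (H.subtype.subgroupMap_surjective S)
      have hAS' : A ≤ S.map H.subtype := by
        intro x hx
        exact ⟨⟨x, hAH hx⟩, hAS (show (⟨x, hAH hx⟩ : H) ∈ A.subgroupOf H from hx), rfl⟩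
      have := hc _ hAS' hS' a.1 ha s.1 ⟨s, hs, rfl⟩
      exact Subtype.ext this
    have hres := ih (Nat.card H) hlt H rfl (A.subgroupOf H) hsol hcond
    intro h hh
    rw [Subgroup.mem_centralizer_iff]
    intro a ha
    have h1 := hres (show (⟨a, hAH ha⟩ : H) ∈ A.subgroupOf H from ha)
    rw [Subgroup.mem_center_iff] at h1
    have h2 := h1 ⟨h, hh⟩
    exact (congrArg Subtype.val h2).symm
  set N := Subgroup.normalizer (C : Set G) with hN
  have hCN : C ≤ N := Subgroup.le_normalizer
  by_cases hNtop : N = ⊤
  · -- C is normal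
    have hCn : C.Normal := Subgroup.normalizer_eq_top_iff.mp hNtop
    set Zc : Subgroup G := C ⊓ Subgroup.centralizer (C : Set G) with hZc
    have : Zc.Normal := Subgroup.normal_inf_normal _ _
    have hAZc : A ≤ Zc := by
      intro a ha
      refine ⟨hAC ha, ?_⟩
      show a ∈ Subgroup.centralizer (C : Set G)
      rw [Subgroup.mem_centralizer_iff]
      intro c hc'
      exact (Subgroup.mem_centralizer_iff.mp hc' a ha).symm
    have hZcsol : Group.IsSolvable Zc := by
      apply Group.isSolvable_of_comm
      intro x y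
      apply Subtype.ext
      exact (Subgroup.mem_centralizer_iff.mp y.2.2 x.1 x.2.1)
    apply hcentral_of
    intro g
    have hgsol : Group.IsSolvable (Subgroup.zpowers g) := by
      apply Group.isSolvable_of_comm
      intro x y
      obtain ⟨i, hi⟩ := x.2
      obtain ⟨j, hj⟩ := y.2
      apply Subtype.ext
      show (x : G) * (y : G) = (y : G) * (x : G)
      rw [← hi, ← hj, ← zpow_add, ← zpow_add, add_comm]
    have hS : Group.IsSolvable (Zc ⊔ Subgroup.zpowers g : Subgroup G) :=
      Cfsg.Agent.Lib.Helper22.isSolvable_sup_of_le_normalizer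
        (by rw [Subgroup.normalizer_eq_top]; exact le_top) hZcsol hgsol
    rw [Subgroup.mem_centralizer_iff]
    intro a ha
    exact hc _ (hAZc.trans le_sup_left) hS a ha g
      (le_sup_right (a := Zc) (Subgroup.mem_zpowers g))
  · -- N = C
    have hNC : N ≤ C := key N (hAC.trans hCN) hNtop
    have hgen : ∀ g : G, g ∉ C → A ⊔ MulAut.conj g • A = ⊤ := by
      intro g hg
      by_contra hH
      have h1 : MulAut.conj g • A ≤ C := le_sup_right.trans (key _ le_sup_left hH)
      have h2 : A ≤ MulAut.conj g⁻¹ • C := by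
        intro a ha
        rw [mem_conj_smul]
        apply h1
        rw [mem_conj_smul]
        simpa [mul_assoc] using ha
      have h3 : MulAut.conj g⁻¹ • C ≠ ⊤ := by
        intro h
        apply hCtop
        rw [eq_top_iff]
        intro x _
        have : g⁻¹ * x * g ∈ MulAut.conj g⁻¹ • C := h ▸ Subgroup.mem_top _
        rw [mem_conj_smul] at this
        simpa [mul_assoc] using this
      have h4 : MulAut.conj g⁻¹ • C ≤ C := key _ h2 h3
      have h5 : MulAut.conj g⁻¹ • C = C := by
        apply Subgroup.eq_of_le_of_card_ge h4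
        exact le_of_eq (Nat.card_congr (Subgroup.equivSMul (MulAut.conj g⁻¹) C).toEquiv)
      have h6 : g⁻¹ ∈ N := by
        rw [hN, Subgroup.mem_normalizer_iff]
        intro x
        constructor
        · intro hx
          have : g⁻¹ * x * g⁻¹⁻¹ ∈ MulAut.conj g⁻¹ • C := by
            rw [mem_conj_smul]
            simpa [mul_assoc] using hx
          rwa [h5] at this
        · intro hx
          have : g⁻¹ * x * g⁻¹⁻¹ ∈ MulAut.conj g⁻¹ • C := by rwa [h5]
          rw [mem_conj_smul] at this
          simpa [mul_assoc] using this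
      exact hg (hNC (by simpa using N.inv_mem h6))
    set Z := Subgroup.center G with hZ
    have hZC : Z ≤ C := Subgroup.center_le_centralizer _
    have hTI : ∀ g : G, g ∉ C → C ⊓ MulAut.conj g • C ≤ Z := by
      intro g hg x hx
      have hA1 : A ≤ Subgroup.centralizer ({x} : Set G) := by
        intro a ha
        rw [Subgroup.mem_centralizer_singleton_iff]
        exact (Subgroup.mem_centralizer_iff.mp hx.1 a ha)
      have hA2 : MulAut.conj g • A ≤ Subgroup.centralizer ({x} : Set G) := by
        intro b hb
        rw [mem_conj_smul] at hb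
        have hx2 : x ∈ MulAut.conj g • C := hx.2
        rw [mem_conj_smul] at hx2
        have := Subgroup.mem_centralizer_iff.mp hx2 _ hb
        rw [Subgroup.mem_centralizer_singleton_iff]
        -- this : g⁻¹ * b * g * (g⁻¹ * x * g) = g⁻¹ * x * g * (g⁻¹ * b * g)
        have e : g * (g⁻¹ * b * g * (g⁻¹ * x * g)) * g⁻¹ = g * (g⁻¹ * x * g * (g⁻¹ * b * g)) * g⁻¹ := by
          rw [this]
        simpa [mul_assoc] using e
      have htop : (⊤ : Subgroup G) ≤ Subgroup.centralizer ({x} : Set G) := by
        rw [← hgen g hg]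
        exact sup_le hA1 hA2
      rw [hZ, Subgroup.mem_center_iff]
      intro y
      have := htop (Subgroup.mem_top y)
      rw [Subgroup.mem_centralizer_singleton_iff] at this
      exact this
    let π := QuotientGroup.mk' Z
    set Cb : Subgroup (G ⧸ Z) := C.map π with hCb
    have hF : Cfsg.IsFrobeniusComplement Cb := by
      refine ⟨?_, ?_, ?_⟩
      · intro h
        rw [hCb, Subgroup.map_eq_bot_iff, QuotientGroup.ker_mk'] at h
        exact hcon (hAC.trans h)
      · intro h
        apply hCtop
        have h1 : (C.map π).comap π = C ⊔ π.ker := Subgroup.comap_map_eq π C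
        rw [← hCb, h, Subgroup.comap_top, QuotientGroup.ker_mk', sup_eq_left.mpr hZC] at h1
        exact h1.symm
      · intro q hq
        obtain ⟨g, rfl⟩ := QuotientGroup.mk'_surjective Z q
        have hg : g ∉ C := fun hg => hq ⟨g, hg, rfl⟩
        rw [eq_bot_iff]
        intro x hx
        obtain ⟨c, hcC, rfl⟩ := hx.1
        have hx2 : π c ∈ MulAut.conj (π g) • Cb := hx.2
        rw [mem_conj_smul] at hx2
        obtain ⟨c', hc'C, hc'⟩ := hx2
        have hc'' : π c' = π (g⁻¹ * c * g) := by
          rw [hc']; simp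
        have hz : c'⁻¹ * (g⁻¹ * c * g) ∈ Z := by
          have := hc''
          rw [QuotientGroup.mk'_apply, QuotientGroup.mk'_apply, QuotientGroup.eq] at this
          exact this
        have hcg : g⁻¹ * c * g ∈ C := by
          have : g⁻¹ * c * g = c' * (c'⁻¹ * (g⁻¹ * c * g)) := by group
          rw [this]
          exact C.mul_mem hc'C (hZC hz)
        have hcZ : c ∈ Z := hTI g hg ⟨hcC, mem_conj_smul.mpr hcg⟩
        rw [Subgroup.mem_bot]
        exact (QuotientGroup.eq_one_iff c).mpr hcZ
    obtain ⟨K, hKset, hKn, hKC⟩ := Cfsg.Agent.Lib.Helper74.frobenius_theorem Cb hF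
    have := hKn
    have hcop : (Nat.card K).Coprime (Nat.card Cb) := by
      have h1 := Cfsg.Agent.Lib.Helper74.coprime_index_card_of_frobenius Cb hF
      rwa [hKC.index_eq_card] at h1
    set Ab : Subgroup (G ⧸ Z) := A.map π with hAb
    have hAbCb : Ab ≤ Cb := Subgroup.map_mono hAC
    have hcop' : (Nat.card Ab).Coprime (Nat.card K) :=
      (Nat.Coprime.coprime_dvd_right (Subgroup.card_dvd_of_le hAbCb) hcop).symm
    have hAbsol : Group.IsSolvable Ab :=
      Group.isSolvable_of_surjective (f := (π.subgroupMap A)) (π.subgroupMap_surjective A)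
    have hAbK : Ab ≤ Subgroup.normalizer (K : Set (G ⧸ Z)) := by
      rw [Subgroup.normalizer_eq_top]; exact le_top
    have hKbot : K ≠ ⊥ := by
      intro h
      apply hF.2.1
      have h1 := hKC.card_mul_card
      rw [h, Subgroup.card_bot, one_mul] at h1
      exact Subgroup.eq_top_of_card_eq _ h1
    have hK1 : Nat.card K ≠ 1 := fun h => hKbot (Subgroup.card_eq_one.mp h)
    obtain ⟨r, hr, hrK⟩ := Nat.exists_prime_and_dvd hK1
    have : Fact r.Prime := ⟨hr⟩
    obtain ⟨P, hP⟩ := Cfsg.Agent.S0023.result Ab K hAbK hcop' (Or.inl hAbsol) r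
    set Rb : Subgroup (G ⧸ Z) := (P : Subgroup K).map K.subtype with hRb
    have hRbsol : Group.IsSolvable Rb := by
      have hp : IsPGroup r Rb := P.isPGroup'.map K.subtype
      have := hp.isNilpotent
      infer_instance
    have hTbsol : Group.IsSolvable (Rb ⊔ Ab : Subgroup (G ⧸ Z)) :=
      Cfsg.Agent.Lib.Helper22.isSolvable_sup_of_le_normalizer hP hRbsol hAbsol
    have hTsol : Group.IsSolvable ((Rb ⊔ Ab : Subgroup (G ⧸ Z)).comap π) := by
      apply isSolvable_comap_of_ker_comm π _ hTbsol
      intro x hx y hy
      rw [QuotientGroup.ker_mk'] at hx hy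
      exact (Subgroup.mem_center_iff.mp hy x)
    have hAT : A ≤ (Rb ⊔ Ab : Subgroup (G ⧸ Z)).comap π := by
      intro a ha
      rw [Subgroup.mem_comap]
      exact le_sup_right (a := Rb) (Subgroup.mem_map_of_mem π ha)
    have hTC : (Rb ⊔ Ab : Subgroup (G ⧸ Z)).comap π ≤ C := by
      intro s hs
      rw [Subgroup.mem_centralizer_iff]
      intro a ha
      exact hc _ hAT hTsol a ha s hs
    have hRbCb : Rb ≤ Cb := by
      intro q hq
      obtain ⟨x, rfl⟩ := QuotientGroup.mk'_surjective Z q
      have : x ∈ (Rb ⊔ Ab : Subgroup (G ⧸ Z)).comap π := by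
        rw [Subgroup.mem_comap]
        exact le_sup_left (b := Ab) hq
      exact ⟨x, hTC this, rfl⟩
    have hRbK : Rb ≤ K := Subgroup.map_subtype_le _
    have hRbot : Rb = ⊥ := by
      rw [eq_bot_iff]
      exact (le_inf hRbK hRbCb).trans (le_of_eq hKC.disjoint.eq_bot)
    have hPbot : (P : Subgroup K) = ⊥ := by
      rw [hRb] at hRbot
      exact (Subgroup.map_eq_bot_iff_of_injective _ K.subtype_injective).mp hRbot
    exact P.ne_bot_of_dvd_card hrK hPbot

/-- Let A be a solvable subgroup of a finite group G such that A lies in the centre of every solvable subgroup of G containing A. Then A lies in the centre of G. -/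
theorem result {G : Type*} [Group G] [Finite G]
    (A : Subgroup G) (hA : Group.IsSolvable A)
    (hc : ∀ S : Subgroup G, A ≤ S → Group.IsSolvable S → ∀ a ∈ A, ∀ s ∈ S, a * s = s * a) : A ≤ Subgroup.center G := by
  exact main (Nat.card G) G rfl A hA hc

end Cfsg.Agent.S4097
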