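import Cfsg.Statements.S4106
import Mathlib

set_option autoImplicit false
open Cfsg

namespace Cfsg.Agent.S4106

universe u

/-- A conjugacy class all of whose element orders are `σ`-numbers. -/
def IsPiClass {X : Type*} [Group X] (σ : Set ℕ) (C : ConjClasses X) : Prop :=
  ∀ q : ℕ, q.Prime → (∃ g : X, ConjClasses.mk g = C ∧ q ∣ orderOf g) → q ∈ σ

theorem orderOf_eq_of_isConj {X : Type*} [Group X] {a b : X} (h : IsConj a b) :
    orderOf a = orderOf b := by
  obtain ⟨c, rfl⟩ := isConj_iff.mp h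
  have : c * a * c⁻¹ = MulAut.conj c a := by simp
  rw [this, MulEquiv.orderOf_eq]

theorem isPiClass_mk {X : Type*} [Group X] (σ : Set ℕ) (g : X) :
    IsPiClass σ (ConjClasses.mk g) ↔ ∀ q : ℕ, q.Prime → q ∣ orderOf g → q ∈ σ := by
  constructor
  · intro h q hq hqg
    exact h q hq ⟨g, rfl, hqg⟩
  · rintro h q hq ⟨g', hg', hqg'⟩
    have := orderOf_eq_of_isConj (ConjClasses.mk_eq_mk_iff_isConj.mp hg')
    rw [this] at hqg'
    exact h q hq hqg'

/-- the `σ`-part of `n` -/
def piPart (σ : Finset ℕ) (n : ℕ) : ℕ := ∏ p ∈ σ, p ^ n.factorization p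

theorem piPart_pos (σ : Finset ℕ) (hσ : ∀ p ∈ σ, p.Prime) (n : ℕ) : 0 < piPart σ n := by
  unfold piPart
  apply Finset.prod_pos
  intro p hp
  exact pow_pos (hσ p hp).pos _

theorem piPart_le_of_dvd (σ : Finset ℕ) (hσ : ∀ p ∈ σ, p.Prime) (a b : ℕ) (hb : b ≠ 0)
    (hab : a ∣ b) : piPart σ a ≤ piPart σ b := by
  have ha : a ≠ 0 := fun h => hb (by rw [h] at hab; exact zero_dvd_iff.mp hab)
  unfold piPart
  apply Finset.prod_le_prod
  · intro p _; exact Nat.zero_le _
  · intro p hp
    apply Nat.pow_le_pow_right (hσ p hp).pos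
    exact (Nat.factorization_le_iff_dvd ha hb).mpr hab p

/-- primary decomposition of an element w.r.t. a prime `p` -/
theorem exists_decomp {X : Type*} [Group X] [Finite X] (g : X) (p : ℕ) (hp : p.Prime) :
    ∃ a b : X, a * b = g ∧ Commute a b ∧ (∃ e, orderOf a = p ^ e) ∧ ¬ p ∣ orderOf b ∧
      orderOf b ∣ orderOf g := by
  have hn0 : orderOf g ≠ 0 := (orderOf_pos g).ne'
  set e := (orderOf g).factorization p with he
  set m' := ordCompl[p] (orderOf g) with hm'
  have hnm : p ^ e * m' = orderOf g := Nat.ordProj_mul_ordCompl_eq_self (orderOf g) p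
  have hcop : Nat.Coprime (p ^ e) m' := Nat.Coprime.pow_left _ (Nat.coprime_ordCompl hp hn0)
  have hbez := Nat.gcd_eq_gcd_ab (p ^ e) m'
  rw [hcop.gcd_eq_one] at hbez
  refine ⟨g ^ ((m' : ℤ) * Nat.gcdB (p ^ e) m'), g ^ (((p ^ e : ℕ) : ℤ) * Nat.gcdA (p ^ e) m'),
    ?_, Commute.zpow_zpow_self g _ _, ?_, ?_, ?_⟩
  · rw [← zpow_add]
    have : (m' : ℤ) * Nat.gcdB (p ^ e) m' + ((p ^ e : ℕ) : ℤ) * Nat.gcdA (p ^ e) m' = 1 := by
      rw [add_comm]; exact_mod_cast hbez.symm
    rw [this, zpow_one]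
  · have h1 : (g ^ ((m' : ℤ) * Nat.gcdB (p ^ e) m')) ^ (p ^ e) = 1 := by
      rw [← zpow_natCast, ← zpow_mul]
      have : (m' : ℤ) * Nat.gcdB (p ^ e) m' * ((p ^ e : ℕ) : ℤ)
          = ((orderOf g : ℕ) : ℤ) * Nat.gcdB (p ^ e) m' := by
        rw [← hnm]; push_cast; ring
      rw [this, zpow_mul, zpow_natCast, pow_orderOf_eq_one, one_zpow]
    obtain ⟨j, -, hj⟩ := (Nat.dvd_prime_pow hp).mp (orderOf_dvd_of_pow_eq_one h1)
    exact ⟨j, hj⟩
  · have h1 : (g ^ (((p ^ e : ℕ) : ℤ) * Nat.gcdA (p ^ e) m')) ^ m' = 1 := by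
      rw [← zpow_natCast, ← zpow_mul]
      have : ((p ^ e : ℕ) : ℤ) * Nat.gcdA (p ^ e) m' * (m' : ℤ)
          = ((orderOf g : ℕ) : ℤ) * Nat.gcdA (p ^ e) m' := by
        rw [← hnm]; push_cast; ring
      rw [this, zpow_mul, zpow_natCast, pow_orderOf_eq_one, one_zpow]
    intro hpb
    exact Nat.not_dvd_ordCompl hp hn0 (hpb.trans (orderOf_dvd_of_pow_eq_one h1))
  · exact orderOf_dvd_of_mem_zpowers (Subgroup.zpow_mem_zpowers g _)

/-- a `p`-element is conjugate into a given Sylow `p`-subgroup -/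
theorem exists_conj_mem_sylow {X : Type*} [Group X] [Finite X] (p : ℕ) [Fact p.Prime]
    (P : Sylow p X) (a : X) (e : ℕ) (ha : orderOf a = p ^ e) : ∃ u : X, u⁻¹ * a * u ∈ P := by
  have hp : IsPGroup p (Subgroup.zpowers a) := by
    apply IsPGroup.of_card (n := e)
    rw [Nat.card_zpowers, ha]
  have hnd : ¬ p ∣ Nat.card (X ⧸ (P : Subgroup X)) := P.not_dvd_index
  obtain ⟨c, hc⟩ := hp.nonempty_fixed_point_of_prime_not_dvd_card (X ⧸ (P : Subgroup X)) hnd
  induction c using QuotientGroup.induction_on with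
  | H g =>
    refine ⟨g, ?_⟩
    have h1 := hc ⟨a, Subgroup.mem_zpowers a⟩
    have h1' : (QuotientGroup.mk (a * g) : X ⧸ (P : Subgroup X)) = QuotientGroup.mk g := h1
    have h2 : (a * g)⁻¹ * g ∈ (P : Subgroup X) := QuotientGroup.eq.mp h1'
    have h3 := (P : Subgroup X).inv_mem h2
    have h4 : ((a * g)⁻¹ * g)⁻¹ = g⁻¹ * a * g := by group
    rwa [h4] at h3


theorem phi_mem {X : Type*} [Group X] [Finite X] (σ' : Finset ℕ) (p : ℕ) [Fact p.Prime]
    (P : Sylow p X) (x : (P : Subgroup X))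
    (D : ConjClasses (Subgroup.centralizer ({(x : X)} : Set X))) (hD : IsPiClass (σ' : Set ℕ) D) :
    IsPiClass ((insert p σ' : Finset ℕ) : Set ℕ)
      (ConjClasses.mk ((x : X) * ((Quotient.out D : Subgroup.centralizer ({(x : X)} : Set X)) : X))) := by
  rw [isPiClass_mk]
  intro q hq hqd
  set y' : Subgroup.centralizer ({(x : X)} : Set X) := Quotient.out D with hy'
  have hDy : ConjClasses.mk y' = D := Quotient.out_eq D
  have hcomm : Commute (x : X) (y' : X) := by
    have := y'.2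
    rw [Subgroup.mem_centralizer_singleton_iff] at this
    exact this.symm
  have h1 := hcomm.orderOf_mul_dvd_mul_orderOf
  have h2 := hqd.trans h1
  rcases (Nat.Prime.dvd_mul hq).mp h2 with h3 | h3
  · obtain ⟨k, hk⟩ := (IsPGroup.iff_orderOf.mp P.isPGroup') x
    rw [← Subgroup.orderOf_coe] at hk
    rw [hk] at h3
    have : q = p := (Nat.prime_dvd_prime_iff_eq hq Fact.out).mp (hq.dvd_of_dvd_pow h3)
    rw [this]
    simp
  · rw [Subgroup.orderOf_coe] at h3
    have : q ∈ (σ' : Set ℕ) := by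
      rw [← hDy, isPiClass_mk] at hD
      exact hD q hq h3
    simp only [Finset.coe_insert, Set.mem_insert_iff]
    exact Or.inr this

theorem phi_surj {X : Type*} [Group X] [Finite X] (σ' : Finset ℕ) (p : ℕ) [Fact p.Prime]
    (P : Sylow p X) (C : ConjClasses X)
    (hC : IsPiClass ((insert p σ' : Finset ℕ) : Set ℕ) C) :
    ∃ (x : (P : Subgroup X)) (D : ConjClasses (Subgroup.centralizer ({(x : X)} : Set X))),
      IsPiClass (σ' : Set ℕ) D ∧
      ConjClasses.mk ((x : X) * ((Quotient.out D : Subgroup.centralizer ({(x : X)} : Set X)) : X)) = C := by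
  obtain ⟨g, rfl⟩ := ConjClasses.exists_rep C
  rw [isPiClass_mk] at hC
  obtain ⟨a, b, hab, hcomm, ⟨e, hae⟩, hpb, hbg⟩ := exists_decomp g p Fact.out
  obtain ⟨u, hu⟩ := exists_conj_mem_sylow p P a e hae
  have hyc : u⁻¹ * b * u ∈ Subgroup.centralizer ({(u⁻¹ * a * u : X)} : Set X) := by
    rw [Subgroup.mem_centralizer_singleton_iff]
    have h1 : u⁻¹ * b * u * (u⁻¹ * a * u) = u⁻¹ * (b * a) * u := by group
    have h2 : u⁻¹ * a * u * (u⁻¹ * b * u) = u⁻¹ * (a * b) * u := by group
    rw [h1, h2, hcomm.eq]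
  refine ⟨⟨u⁻¹ * a * u, hu⟩, ConjClasses.mk ⟨u⁻¹ * b * u, hyc⟩, ?_, ?_⟩
  · rw [isPiClass_mk]
    intro q hq hqd
    rw [Subgroup.orderOf_mk] at hqd
    have hob : orderOf (u⁻¹ * b * u) = orderOf b := by
      have : u⁻¹ * b * u = MulAut.conj u⁻¹ b := by simp
      rw [this, MulEquiv.orderOf_eq]
    rw [hob] at hqd
    have h1 := hC q hq (hqd.trans hbg)
    simp only [Finset.coe_insert, Set.mem_insert_iff] at h1
    rcases h1 with h1 | h1
    · exfalso; rw [h1] at hqd; exact hpb hqd
    · exact h1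
  · set D : ConjClasses (Subgroup.centralizer ({(u⁻¹ * a * u : X)} : Set X)) :=
      ConjClasses.mk ⟨u⁻¹ * b * u, hyc⟩ with hD
    have hout : ConjClasses.mk (Quotient.out D) = D := Quotient.out_eq D
    rw [hD, ConjClasses.mk_eq_mk_iff_isConj, isConj_iff] at hout
    obtain ⟨c, hc⟩ := hout
    have hc' : (c : X) * ((Quotient.out D : Subgroup.centralizer ({(u⁻¹ * a * u : X)} : Set X)) : X) * (c : X)⁻¹
        = u⁻¹ * b * u := by
      have := congrArg Subtype.val hc
      simpa using this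
    have hcx : (c : X) * (u⁻¹ * a * u) = (u⁻¹ * a * u) * (c : X) := by
      have := c.2
      rw [Subgroup.mem_centralizer_singleton_iff] at this
      exact this
    rw [ConjClasses.mk_eq_mk_iff_isConj, isConj_iff]
    refine ⟨u * (c : X), ?_⟩
    show u * (c : X) * ((u⁻¹ * a * u) * ((Quotient.out D : Subgroup.centralizer ({(u⁻¹ * a * u : X)} : Set X)) : X)) * (u * (c : X))⁻¹ = g
    set y'' : X := ((Quotient.out D : Subgroup.centralizer ({(u⁻¹ * a * u : X)} : Set X)) : X) with hy''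
    calc u * (c : X) * ((u⁻¹ * a * u) * y'') * (u * (c : X))⁻¹
        = u * ((c : X) * (u⁻¹ * a * u)) * y'' * (c : X)⁻¹ * u⁻¹ := by group
      _ = u * ((u⁻¹ * a * u) * (c : X)) * y'' * (c : X)⁻¹ * u⁻¹ := by rw [hcx]
      _ = a * u * ((c : X) * y'' * (c : X)⁻¹) * u⁻¹ := by group
      _ = a * u * (u⁻¹ * b * u) * u⁻¹ := by rw [hc']
      _ = a * b := by group
      _ = g := hab

theorem card_piClasses_le (σ : Finset ℕ) (hσ : ∀ p ∈ σ, p.Prime) :
    ∀ (X : Type u) [Group X] [Finite X],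
      Nat.card {C : ConjClasses X // IsPiClass (σ : Set ℕ) C} ≤ piPart σ (Nat.card X) := by
  induction σ using Finset.induction_on with
  | empty =>
    intro X _ _
    have key : ∀ (E : ConjClasses X), IsPiClass ((∅ : Finset ℕ) : Set ℕ) E →
        E = ConjClasses.mk 1 := by
      intro E hE
      obtain ⟨g, rfl⟩ := ConjClasses.exists_rep E
      rw [isPiClass_mk] at hE
      have : orderOf g = 1 := by
        by_contra h
        obtain ⟨q, hq, hqg⟩ := Nat.exists_prime_and_dvd h
        have := hE q hq hqg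
        simp at this
      rw [orderOf_eq_one_iff.mp this]
    have hss : Subsingleton {C : ConjClasses X // IsPiClass ((∅ : Finset ℕ) : Set ℕ) C} := by
      constructor
      rintro ⟨C, hC⟩ ⟨D, hD⟩
      apply Subtype.ext
      show C = D
      rw [key C hC, key D hD]
    calc Nat.card {C : ConjClasses X // IsPiClass ((∅ : Finset ℕ) : Set ℕ) C} ≤ 1 :=
        Finite.card_le_one_iff_subsingleton.mpr hss
      _ = piPart ∅ (Nat.card X) := by simp [piPart]
  | insert p σ' hp ih =>
    intro X _ _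
    have hpP : p.Prime := hσ p (Finset.mem_insert_self _ _)
    have : Fact p.Prime := ⟨hpP⟩
    have hσ' : ∀ q ∈ σ', q.Prime := fun q hq => hσ q (Finset.mem_insert_of_mem hq)
    have ih' := ih hσ'
    let P : Sylow p X := default
    let Φ : (Σ x : (P : Subgroup X), {D : ConjClasses (Subgroup.centralizer ({(x : X)} : Set X)) //
        IsPiClass (σ' : Set ℕ) D}) →
        {C : ConjClasses X // IsPiClass ((insert p σ' : Finset ℕ) : Set ℕ) C} := fun xD =>
      ⟨ConjClasses.mk ((xD.1 : X) * ((Quotient.out xD.2.1 :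
        Subgroup.centralizer ({(xD.1 : X)} : Set X)) : X)), phi_mem σ' p P xD.1 xD.2.1 xD.2.2⟩
    have hΦ : Function.Surjective Φ := by
      rintro ⟨C, hC⟩
      obtain ⟨x, D, hD, hxD⟩ := phi_surj σ' p P C hC
      exact ⟨⟨x, ⟨D, hD⟩⟩, Subtype.ext hxD⟩
    have h1 := Nat.card_le_card_of_surjective Φ hΦ
    classical
    have := Fintype.ofFinite (P : Subgroup X)
    rw [Nat.card_sigma] at h1
    have h2 : ∀ x : (P : Subgroup X),
        Nat.card {D : ConjClasses (Subgroup.centralizer ({(x : X)} : Set X)) //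
          IsPiClass (σ' : Set ℕ) D} ≤ piPart σ' (Nat.card X) := by
      intro x
      refine (ih' (Subgroup.centralizer ({(x : X)} : Set X))).trans ?_
      exact piPart_le_of_dvd σ' hσ' _ _ Nat.card_pos.ne' (Subgroup.card_subgroup_dvd_card _)
    have h3 : ∑ x : (P : Subgroup X),
        Nat.card {D : ConjClasses (Subgroup.centralizer ({(x : X)} : Set X)) //
          IsPiClass (σ' : Set ℕ) D} ≤ ∑ _x : (P : Subgroup X), piPart σ' (Nat.card X) :=
      Finset.sum_le_sum (fun x _ => h2 x)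
    rw [Finset.sum_const, Finset.card_univ, smul_eq_mul, ← Nat.card_eq_fintype_card,
      P.card_eq_multiplicity] at h3
    calc Nat.card {C : ConjClasses X // IsPiClass ((insert p σ' : Finset ℕ) : Set ℕ) C}
        ≤ _ := h1
      _ ≤ p ^ (Nat.card X).factorization p * piPart σ' (Nat.card X) := h3
      _ = piPart (insert p σ') (Nat.card X) := by
        unfold piPart
        rw [Finset.prod_insert hp]


theorem piPart_dvd (σ : Finset ℕ) (hσ : ∀ p ∈ σ, p.Prime) (n m : ℕ)
    (h : ∀ p ∈ σ, p ^ n.factorization p ∣ m) : piPart σ n ∣ m := by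
  induction σ using Finset.induction_on with
  | empty => simp [piPart]
  | insert p s hp ih =>
    have hpP : p.Prime := hσ p (Finset.mem_insert_self _ _)
    have hs : ∀ q ∈ s, q.Prime := fun q hq => hσ q (Finset.mem_insert_of_mem hq)
    have ih' := ih hs (fun q hq => h q (Finset.mem_insert_of_mem hq))
    have : piPart (insert p s) n = p ^ n.factorization p * piPart s n := by
      unfold piPart; rw [Finset.prod_insert hp]
    rw [this]
    apply Nat.Coprime.mul_dvd_of_dvd_of_dvd _ (h p (Finset.mem_insert_self _ _)) ih'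
    unfold piPart
    apply Nat.Coprime.prod_right
    intro q hq
    apply Nat.Coprime.pow
    rw [Nat.coprime_primes hpP (hs q hq)]
    rintro rfl
    exact hp hq

/-- Let G be a finite group, π a set of primes and m the π-part of the order of G. Then the number of conjugacy classes of G consisting of π-elements (elements whose order is divisible only by primes in π) is at most m. -/
theorem result {G : Type*} [Group G] [Finite G]
    (π : Set ℕ) (hπ : ∀ q ∈ π, q.Prime)
    (m : ℕ) (hm : m ∣ Nat.card G) (hmπ : ∀ q : ℕ, q.Prime → q ∣ m → q ∈ π)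
    (hm' : ∀ q ∈ π, ¬ q ∣ Nat.card G / m) :
    Nat.card {C : ConjClasses G // ∀ q : ℕ, q.Prime → (∃ g : G, ConjClasses.mk g = C ∧ q ∣ orderOf g) → q ∈ π} ≤ m := by
  classical
  set σ : Finset ℕ := (Nat.card G).primeFactors.filter (· ∈ π) with hσdef
  have hσ : ∀ p ∈ σ, p.Prime := by
    intro p hp
    rw [hσdef, Finset.mem_filter] at hp
    exact Nat.prime_of_mem_primeFactors hp.1
  have hG0 : Nat.card G ≠ 0 := Nat.card_pos.ne'
  have hm0 : m ≠ 0 := fun h => hG0 (by rw [h] at hm; exact zero_dvd_iff.mp hm)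
  -- step 1
  have h1 : Nat.card {C : ConjClasses G // ∀ q : ℕ, q.Prime → (∃ g : G, ConjClasses.mk g = C ∧ q ∣ orderOf g) → q ∈ π}
      ≤ Nat.card {C : ConjClasses G // IsPiClass (σ : Set ℕ) C} := by
    apply Nat.card_le_card_of_injective
      (fun C => (⟨C.1, fun q hq hex => by
        have h := C.2 q hq hex
        obtain ⟨g, -, hqg⟩ := hex
        rw [hσdef]
        simp only [Finset.coe_filter, Set.mem_ofPred_eq]
        refine ⟨Nat.mem_primeFactors.mpr ⟨hq, hqg.trans (orderOf_dvd_natCard g), hG0⟩, h⟩⟩ :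
        {C : ConjClasses G // IsPiClass (σ : Set ℕ) C}))
    intro C D hCD
    apply Subtype.ext
    have := congrArg Subtype.val hCD
    exact this
  -- step 2
  have h2 : piPart σ (Nat.card G) ∣ m := by
    apply piPart_dvd σ hσ
    intro p hp
    rw [hσdef, Finset.mem_filter] at hp
    have hpP := Nat.prime_of_mem_primeFactors hp.1
    have hdiv : Nat.card G = m * (Nat.card G / m) := (Nat.mul_div_cancel' hm).symm
    have hq0 : Nat.card G / m ≠ 0 := by
      intro h; rw [h, mul_zero] at hdiv; exact hG0 hdiv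
    have hfac : (Nat.card G).factorization p = m.factorization p := by
      rw [hdiv, Nat.factorization_mul hm0 hq0, Finsupp.add_apply,
        Nat.factorization_eq_zero_of_not_dvd (hm' p hp.2), add_zero]
    rw [hfac]
    exact Nat.ordProj_dvd m p
  exact h1.trans ((card_piClasses_le σ hσ G).trans (Nat.le_of_dvd (Nat.pos_of_ne_zero hm0) h2))

end Cfsg.Agent.S4106
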