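import Cfsg.Statements.S4107
import Mathlib

set_option autoImplicit false
open Cfsg

namespace Cfsg.Agent.S4107

/-- A `p`-element outside `N`, obtained as a power of `x ∉ N`. -/
theorem exists_pelement_not_mem {G : Type*} [Group G] [Finite G] (N : Subgroup G) [N.Normal]
    (x : G) (hx : x ∉ N) :
    ∃ (p : ℕ) (_ : p.Prime) (m a : ℕ), x ^ m ∉ N ∧ orderOf (x ^ m) = p ^ a := by
  have hxbar : (QuotientGroup.mk x : G ⧸ N) ≠ 1 := by
    intro h
    exact hx ((QuotientGroup.eq_one_iff x).mp h)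
  have hne1 : orderOf (QuotientGroup.mk x : G ⧸ N) ≠ 1 := by
    intro h; exact hxbar (orderOf_eq_one_iff.mp h)
  obtain ⟨p, hp, hpd⟩ := Nat.exists_prime_and_dvd hne1
  have hn0 : orderOf x ≠ 0 := (orderOf_pos x).ne'
  refine ⟨p, hp, ordCompl[p] (orderOf x), (orderOf x).factorization p, ?_, ?_⟩
  · intro hmem
    have h1 : (QuotientGroup.mk x : G ⧸ N) ^ (ordCompl[p] (orderOf x)) = 1 := by
      rw [← QuotientGroup.mk_pow]
      exact (QuotientGroup.eq_one_iff _).mpr hmem
    have h2 := orderOf_dvd_of_pow_eq_one h1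
    exact Nat.not_dvd_ordCompl hp hn0 (hpd.trans h2)
  · rw [orderOf_pow_of_dvd (Nat.ordCompl_pos p hn0).ne' (Nat.ordCompl_dvd (orderOf x) p)]
    have := Nat.ordProj_mul_ordCompl_eq_self (orderOf x) p
    exact Nat.div_eq_of_eq_mul_left (Nat.ordCompl_pos p hn0) this.symm

/-- In a normal nilpotent subgroup, a `p`-element lies in a normal `p`-subgroup of `G`. -/
theorem exists_normal_pgroup {G : Type*} [Group G] [Finite G] (K : Subgroup G) [K.Normal]
    (hK : Group.IsNilpotent K) (p : ℕ) [Fact p.Prime] (y : G) (hyK : y ∈ K) (a : ℕ)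
    (hy : orderOf y = p ^ a) :
    ∃ R : Subgroup G, R.Normal ∧ IsPGroup p R ∧ y ∈ R := by
  have h4 := (Group.isNilpotent_of_finite_tfae (G := K)).out 0 3
  have hnorm := h4.mp hK
  let P : Sylow p K := default
  have hPn : (P : Subgroup K).Normal := hnorm p inferInstance P
  have := Sylow.unique_of_normal P hPn
  have : (P : Subgroup K).Characteristic := Sylow.characteristic_of_normal P hPn
  refine ⟨(P : Subgroup K).map K.subtype, inferInstance, P.isPGroup'.map _, ?_⟩
  have hz : IsPGroup p (Subgroup.zpowers (⟨y, hyK⟩ : K)) := by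
    rw [IsPGroup.iff_card]
    refine ⟨a, ?_⟩
    rw [Nat.card_zpowers, ← hy]
    exact Subgroup.orderOf_mk y hyK
  obtain ⟨Q, hQ⟩ := hz.exists_le_sylow
  have hQP : Q = P := Subsingleton.elim _ _
  rw [hQP] at hQ
  exact ⟨⟨y, hyK⟩, hQ (Subgroup.mem_zpowers _), rfl⟩

/-- Key step: if some `p`-element `y ∉ N` lies in a normal `p`-subgroup, then `N` is a `p`-group. -/
theorem isPGroup_of_pelement {G : Type*} [Group G] (N : Subgroup G) [N.Normal]
    (heq : ∀ x : G, x ∉ N → ∀ n ∈ N, orderOf (x * n) = orderOf x)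
    (p : ℕ) [Fact p.Prime] (y : G) (hyN : y ∉ N) (a : ℕ) (hy : orderOf y = p ^ a)
    (R : Subgroup G) [R.Normal] (hR : IsPGroup p R) (hyR : y ∈ R) : IsPGroup p N := by
  intro u
  have h1 : orderOf (y * (u : G)) = p ^ a := by rw [heq y hyN u u.2, hy]
  have h2 : (y * (u : G)) ^ (p ^ a) = 1 := by rw [← h1]; exact pow_orderOf_eq_one _
  have h3 : ((u : G)) ^ (p ^ a) ∈ R := by
    rw [← QuotientGroup.eq_one_iff, QuotientGroup.mk_pow]
    have : (QuotientGroup.mk (u : G) : G ⧸ R) = QuotientGroup.mk (y * (u : G)) := by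
      rw [QuotientGroup.mk_mul, (QuotientGroup.eq_one_iff y).mpr hyR, one_mul]
    rw [this, ← QuotientGroup.mk_pow, h2]
    rfl
  obtain ⟨b, hb⟩ := hR ⟨_, h3⟩
  refine ⟨a + b, ?_⟩
  apply Subtype.ext
  have hb' : (((u : G)) ^ (p ^ a)) ^ (p ^ b) = 1 := by
    have := congrArg Subtype.val hb
    simpa using this
  rw [Subgroup.coe_pow, pow_add, pow_mul, hb']
  rfl

/-- Elements of a normal `q`-subgroup commute with elements of a normal `p`-subgroup, `p ≠ q`. -/
theorem commute_of_normal_pgroups {G : Type*} [Group G] (N U : Subgroup G) [N.Normal] [U.Normal]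
    (p q : ℕ) [Fact p.Prime] [Fact q.Prime] (hpq : p ≠ q) (hN : IsPGroup p N) (hU : IsPGroup q U)
    (w n : G) (hw : w ∈ U) (hn : n ∈ N) : Commute w n := by
  have h1 : w * n * w⁻¹ * n⁻¹ ∈ U := by
    have : n * w⁻¹ * n⁻¹ ∈ U := ‹U.Normal›.conj_mem _ (U.inv_mem hw) n
    have := U.mul_mem hw this
    convert this using 1; group
  have h2 : w * n * w⁻¹ * n⁻¹ ∈ N := by
    have : w * n * w⁻¹ ∈ N := ‹N.Normal›.conj_mem _ hn w
    exact N.mul_mem this (N.inv_mem hn)
  obtain ⟨k, hk⟩ := (IsPGroup.iff_orderOf.mp hN) ⟨_, h2⟩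
  obtain ⟨l, hl⟩ := (IsPGroup.iff_orderOf.mp hU) ⟨_, h1⟩
  rw [Subgroup.orderOf_mk] at hk hl
  have hcop : Nat.Coprime (p ^ k) (q ^ l) :=
    Nat.Coprime.pow _ _ ((Nat.coprime_primes (Fact.out) (Fact.out)).mpr hpq)
  have h3 : orderOf (w * n * w⁻¹ * n⁻¹) = 1 := by
    have d1 : orderOf (w * n * w⁻¹ * n⁻¹) ∣ p ^ k := hk ▸ dvd_rfl
    have d2 : orderOf (w * n * w⁻¹ * n⁻¹) ∣ q ^ l := hl ▸ dvd_rfl
    exact Nat.eq_one_of_dvd_coprimes hcop d1 d2
  have h4 : w * n * w⁻¹ * n⁻¹ = 1 := orderOf_eq_one_iff.mp h3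
  show w * n = n * w
  calc w * n = (w * n * w⁻¹ * n⁻¹) * (n * w) := by group
    _ = n * w := by rw [h4, one_mul]

/-- With `N` a nontrivial `p`-group, every normal nilpotent subgroup is a `p`-group. -/
theorem isPGroup_of_normal_nilpotent {G : Type*} [Group G] [Finite G] (N : Subgroup G) [N.Normal]
    (hN1 : N ≠ ⊥)
    (heq : ∀ x : G, x ∉ N → ∀ n ∈ N, orderOf (x * n) = orderOf x)
    (p : ℕ) [Fact p.Prime] (hN : IsPGroup p N)
    (K : Subgroup G) [K.Normal] (hK : Group.IsNilpotent K) : IsPGroup p K := by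
  rw [IsPGroup.iff_orderOf]
  intro z
  by_contra hz
  have hz0 : orderOf z ≠ 0 := (orderOf_pos z).ne'
  -- there is a prime q ≠ p dividing orderOf z
  have hex : ∃ q : ℕ, q.Prime ∧ q ∣ orderOf z ∧ q ≠ p := by
    by_contra hall
    push Not at hall
    apply hz
    exact ⟨_, Nat.eq_prime_pow_of_unique_prime_dvd hz0 (fun {d} hd hdz => hall d hd hdz)⟩
  obtain ⟨q, hq, hqz, hqp⟩ := hex
  have : Fact q.Prime := ⟨hq⟩
  set w : K := z ^ (orderOf z / q) with hw
  have hwo : orderOf w = q := orderOf_pow_orderOf_div hz0 hqz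
  have hwo' : orderOf (w : G) = q ^ 1 := by rw [Subgroup.orderOf_coe, hwo, pow_one]
  obtain ⟨U, hUn, hUq, hwU⟩ := exists_normal_pgroup K hK q (w : G) w.2 1 hwo'
  obtain ⟨n, hnN⟩ := (Subgroup.ne_bot_iff_exists_ne_one).mp hN1
  have hnN' : (n : G) ∈ N := n.2
  have hn1' : (n : G) ≠ 1 := fun h => hnN (Subtype.ext h)
  have hwN : (w : G) ∉ N := by
    intro hmem
    obtain ⟨k, hk⟩ := (IsPGroup.iff_orderOf.mp hN) ⟨_, hmem⟩
    rw [Subgroup.orderOf_mk, hwo', pow_one] at hk
    have : q = p := by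
      have hk0 : k ≠ 0 := by
        rintro rfl
        rw [pow_zero] at hk
        exact hq.one_lt.ne' hk
      have : p ∣ q := hk ▸ dvd_pow_self p hk0
      exact ((Nat.prime_dvd_prime_iff_eq Fact.out hq).mp this).symm
    exact hqp this
  have hcomm : Commute (w : G) (n : G) :=
    commute_of_normal_pgroups N U p q (Ne.symm hqp) hN hUq (w : G) (n : G) hwU hnN'
  obtain ⟨k, hk⟩ := (IsPGroup.iff_orderOf.mp hN) n
  rw [← Subgroup.orderOf_coe] at hk
  have hcop : Nat.Coprime (orderOf (w : G)) (orderOf (n : G)) := by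
    rw [hwo', hk, pow_one]
    exact Nat.Coprime.pow_right _ ((Nat.coprime_primes hq Fact.out).mpr hqp)
  have h1 := hcomm.orderOf_mul_eq_mul_orderOf_of_coprime hcop
  rw [heq (w : G) hwN (n : G) hnN'] at h1
  have h2 : orderOf (n : G) = 1 := by
    have hpos : 0 < orderOf (w : G) := orderOf_pos _
    have : orderOf (w : G) * 1 = orderOf (w : G) * orderOf (n : G) := by rw [mul_one]; exact h1
    exact (Nat.eq_of_mul_eq_mul_left hpos this).symm
  exact hn1' (orderOf_eq_one_iff.mp h2)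

/-- Main dichotomy: if `F(G) ⊄ N`, then there is a prime `p` for which `N` is a `p`-group. -/
theorem exists_prime_isPGroup {G : Type*} [Group G] [Finite G] (N : Subgroup G) [N.Normal]
    (heq : ∀ x : G, x ∉ N → ∀ n ∈ N, orderOf (x * n) = orderOf x)
    (hF : ¬ Cfsg.fittingSubgroup G ≤ N) : ∃ (p : ℕ) (_ : Fact p.Prime), IsPGroup p N := by
  unfold Cfsg.fittingSubgroup at hF
  rw [sSup_le_iff] at hF
  push Not at hF
  obtain ⟨K, ⟨hKn, hKnil⟩, hKN⟩ := hF
  obtain ⟨x, hxK, hxN⟩ := SetLike.not_le_iff_exists.mp hKN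
  obtain ⟨p, hp, m, a, hyN, hy⟩ := exists_pelement_not_mem N x hxN
  have : Fact p.Prime := ⟨hp⟩
  have := hKn
  obtain ⟨R, hRn, hRp, hyR⟩ := exists_normal_pgroup K hKnil p (x ^ m) (K.pow_mem hxK m) a hy
  have := hRn
  exact ⟨p, inferInstance, isPGroup_of_pelement N heq p (x ^ m) hyN a hy R hRp hyR⟩

/-- Let G be a finite group and N a proper non-trivial normal subgroup such that for every x outside N all elements of the coset xN have the same order as x. Then N ≤ F(G) or F(G) ≤ N, where F(G) is the Fitting subgroup; and if N is properly contained in F(G) then F(G) has prime-power order. -/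
theorem result {G : Type*} [Group G] [Finite G] (N : Subgroup G) [N.Normal] (hN1 : N ≠ ⊥) (hN2 : N ≠ ⊤)
    (heq : ∀ x : G, x ∉ N → ∀ n ∈ N, orderOf (x * n) = orderOf x) :
    (N ≤ Cfsg.fittingSubgroup G ∨ Cfsg.fittingSubgroup G ≤ N) ∧
    (N < Cfsg.fittingSubgroup G → IsPrimePow (Nat.card (Cfsg.fittingSubgroup G))) := by
  constructor
  · by_cases hF : Cfsg.fittingSubgroup G ≤ N
    · exact Or.inr hF
    · left
      obtain ⟨p, hp, hNp⟩ := exists_prime_isPGroup N heq hF
      unfold Cfsg.fittingSubgroup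
      apply le_sSup
      exact ⟨inferInstance, hNp.isNilpotent⟩
  · intro hlt
    have hF : ¬ Cfsg.fittingSubgroup G ≤ N := not_le_of_gt hlt
    obtain ⟨p, hp, hNp⟩ := exists_prime_isPGroup N heq hF
    have hFp : IsPGroup p (Cfsg.fittingSubgroup G) := by
      unfold Cfsg.fittingSubgroup
      apply Sylow.sSup_of_normal
      · rintro K ⟨hKn, hKnil⟩
        have := hKn
        exact isPGroup_of_normal_nilpotent N hN1 heq p hNp K hKnil
      · rintro K ⟨hKn, -⟩
        exact hKn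
    obtain ⟨k, hk⟩ := IsPGroup.iff_card.mp hFp
    rw [hk]
    have hk0 : k ≠ 0 := by
      rintro rfl
      rw [pow_zero] at hk
      have hbot : Cfsg.fittingSubgroup G = ⊥ := Subgroup.card_eq_one.mp hk
      rw [hbot] at hlt
      exact not_lt_bot hlt
    exact hp.out.isPrimePow.pow hk0

end Cfsg.Agent.S4107
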