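import Cfsg.Statements.S4113
import Mathlib

set_option autoImplicit false
open Cfsg

namespace Cfsg.Agent.S4113

theorem exists_mul_of_sup_eq_top {G : Type*} [Group G] (H M : Subgroup G) [M.Normal]
    (hHM : H ⊔ M = ⊤) (g : G) : ∃ h ∈ H, ∃ m ∈ M, g = h * m := by
  have hg : g ∈ ((H ⊔ M : Subgroup G) : Set G) := by rw [hHM]; trivial
  rw [Subgroup.mul_normal] at hg
  obtain ⟨h, hh, m, hm, rfl⟩ := hg
  exact ⟨h, hh, m, hm, rfl⟩

theorem eq_one_of_mem_both {G : Type*} [Group G] (H M : Subgroup G) (hHM' : H ⊓ M = ⊥)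
    (z : G) (h1 : z ∈ H) (h2 : z ∈ M) : z = 1 := by
  have : z ∈ H ⊓ M := ⟨h1, h2⟩
  rw [hHM'] at this
  exact Subgroup.mem_bot.mp this

/-- forward direction, last part -/
theorem forward {G : Type*} [Group G] (N M : Subgroup G) [N.Normal] [M.Normal]
    (H : Subgroup G) (hHM : H ⊔ M = ⊤) (hHM' : H ⊓ M = ⊥)
    (hC : ∀ x ∈ M, x ≠ 1 → Subgroup.centralizer ({x} : Set G) ≤ N)
    (g : G) (hg : g ∉ H) : H ⊓ H.map (MulAut.conj g).toMonoidHom ≤ N := by
  rintro y ⟨hy1, hy2⟩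
  obtain ⟨k, hk, rfl⟩ := hy2
  obtain ⟨h, hh, m, hm, rfl⟩ := exists_mul_of_sup_eq_top H M hHM g
  have hm1 : m ≠ 1 := by
    rintro rfl
    apply hg
    simpa using hh
  simp only [MulEquiv.coe_toMonoidHom, MulAut.conj_apply] at hy1 ⊢
  -- y' = m k m⁻¹ ∈ H
  have hy' : m * k * m⁻¹ ∈ H := by
    have := H.mul_mem (H.mul_mem (H.inv_mem hh) hy1) hh
    convert this using 1
    group
  have hM : m * k * m⁻¹ * k⁻¹ ∈ M := by
    have : k * m⁻¹ * k⁻¹ ∈ M := ‹M.Normal›.conj_mem _ (M.inv_mem hm) k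
    have := M.mul_mem hm this
    convert this using 1
    group
  have hH : m * k * m⁻¹ * k⁻¹ ∈ H := H.mul_mem hy' (H.inv_mem hk)
  have h1 := eq_one_of_mem_both H M hHM' _ hH hM
  have hkm : k ∈ Subgroup.centralizer ({m} : Set G) := by
    rw [Subgroup.mem_centralizer_singleton_iff]
    have : m * k * m⁻¹ = k := by
      rw [mul_inv_eq_one] at h1
      exact h1
    calc k * m = m * k * m⁻¹ * m := by rw [this]
      _ = m * k := by group
  have hkN : k ∈ N := hC m hm hm1 hkm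
  exact ‹N.Normal›.conj_mem _ hkN _

/-- backward direction -/
theorem backward {G : Type*} [Group G] [Finite G] (N M : Subgroup G) [N.Normal] [M.Normal]
    (hMN : M ≤ N)
    (H : Subgroup G) (hHM : H ⊔ M = ⊤) (hHM' : H ⊓ M = ⊥)
    (hTI : ∀ g : G, g ∉ H → H ⊓ H.map (MulAut.conj g).toMonoidHom ≤ N)
    (x : G) (hx : x ∈ M) (hx1 : x ≠ 1) : Subgroup.centralizer ({x} : Set G) ≤ N := by
  intro c hc
  rw [Subgroup.mem_centralizer_singleton_iff] at hc
  by_contra hcN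
  obtain ⟨h, hh, m, hm, rfl⟩ := exists_mul_of_sup_eq_top H M hHM c
  have hhN : h ∉ N := by
    intro hhN
    exact hcN (N.mul_mem hhN (hMN hm))
  -- Claim A
  have claimA : ∀ u ∈ M, u * h = h * u → u = 1 := by
    intro u hu huh
    by_contra hu1
    have huH : u ∉ H := fun h' => hu1 (eq_one_of_mem_both H M hHM' u h' hu)
    apply hhN
    apply hTI u huH
    refine ⟨hh, h, hh, ?_⟩
    simp only [MulEquiv.coe_toMonoidHom, MulAut.conj_apply]
    rw [huh]; group
  -- Claim B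
  let φ : M → M := fun u => ⟨(u : G)⁻¹ * (h * u * h⁻¹),
    M.mul_mem (M.inv_mem u.2) (‹M.Normal›.conj_mem _ u.2 h)⟩
  have hinj : Function.Injective φ := by
    intro u v huv
    have huv' : (u : G)⁻¹ * (h * u * h⁻¹) = (v : G)⁻¹ * (h * v * h⁻¹) := congrArg Subtype.val huv
    have h2 : ((v : G) * (u : G)⁻¹) * h = h * ((v : G) * (u : G)⁻¹) := by
      have e1 : (v : G) * ((u : G)⁻¹ * (h * u * h⁻¹)) * h * (u : G)⁻¹
          = (v : G) * ((v : G)⁻¹ * (h * v * h⁻¹)) * h * (u : G)⁻¹ := by rw [huv']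
      calc ((v : G) * (u : G)⁻¹) * h = (v : G) * ((u : G)⁻¹ * (h * u * h⁻¹)) * h * (u : G)⁻¹ := by group
        _ = (v : G) * ((v : G)⁻¹ * (h * v * h⁻¹)) * h * (u : G)⁻¹ := e1
        _ = h * ((v : G) * (u : G)⁻¹) := by group
    have h3 := claimA _ (M.mul_mem v.2 (M.inv_mem u.2)) h2
    have : (v : G) = u := by
      rw [mul_inv_eq_one] at h3; exact h3
    exact Subtype.ext this.symm
  have hsurj : Function.Surjective φ := Finite.injective_iff_surjective.mp hinj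
  have hm' : h * m * h⁻¹ ∈ M := ‹M.Normal›.conj_mem _ hm h
  obtain ⟨u, hu⟩ := hsurj ⟨h * m * h⁻¹, hm'⟩
  have hu' : (u : G)⁻¹ * (h * u * h⁻¹) = h * m * h⁻¹ := congrArg Subtype.val hu
  have hc' : h * m = (u : G)⁻¹ * h * u := by
    calc h * m = (h * m * h⁻¹) * h := by group
      _ = (u : G)⁻¹ * (h * u * h⁻¹) * h := by rw [hu']
      _ = (u : G)⁻¹ * h * u := by group
  rw [hc'] at hc
  -- h commutes with u x u⁻¹
  have hcomm : ((u : G) * x * (u : G)⁻¹) * h = h * ((u : G) * x * (u : G)⁻¹) := by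
    have e1 : (u : G) * ((u : G)⁻¹ * h * u * x) * (u : G)⁻¹ = (u : G) * (x * ((u : G)⁻¹ * h * u)) * (u : G)⁻¹ := by
      rw [hc]
    calc ((u : G) * x * (u : G)⁻¹) * h = (u : G) * (x * ((u : G)⁻¹ * h * u)) * (u : G)⁻¹ := by group
      _ = (u : G) * ((u : G)⁻¹ * h * u * x) * (u : G)⁻¹ := e1.symm
      _ = h * ((u : G) * x * (u : G)⁻¹) := by group
  have h4 := claimA _ (‹M.Normal›.conj_mem _ hx u) hcomm
  apply hx1
  have : x = (u : G)⁻¹ * ((u : G) * x * (u : G)⁻¹) * u := by group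
  rw [this, h4]; group

/-- Let G be a finite group, M ≤ N non-trivial proper normal subgroups, and H a subgroup with HM = G and H ∩ M = 1. Then every element of G outside N acts fixed-point-freely on M (C_G(x) ≤ N for every x ∈ M, x ≠ 1) if and only if H ∩ gHg⁻¹ ≤ H ∩ N for every g outside H, with H proper and non-trivial and H ∩ N proper in H. -/
theorem result {G : Type*} [Group G] [Finite G] (N M : Subgroup G) [N.Normal] [M.Normal] (hMN : M ≤ N) (hM1 : M ≠ ⊥) (hN2 : N ≠ ⊤)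
    (H : Subgroup G) (hHM : H ⊔ M = ⊤) (hHM' : H ⊓ M = ⊥) :
    (∀ x ∈ M, x ≠ 1 → Subgroup.centralizer ({x} : Set G) ≤ N) ↔
      (H ≠ ⊥ ∧ H ≠ ⊤ ∧ H ⊓ N < H ∧ ∀ g : G, g ∉ H → H ⊓ H.map (MulAut.conj g).toMonoidHom ≤ N) := by
  constructor
  · intro hC
    refine ⟨?_, ?_, ?_, fun g hg => forward N M H hHM hHM' hC g hg⟩
    · rintro rfl
      apply hN2
      rw [bot_sup_eq] at hHM
      rw [hHM] at hMN
      exact top_le_iff.mp hMN
    · rintro rfl
      apply hM1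
      rwa [top_inf_eq] at hHM'
    · refine lt_of_le_of_ne inf_le_left ?_
      intro h
      apply hN2
      have hHN : H ≤ N := inf_eq_left.mp h
      have : H ⊔ M ≤ N := sup_le hHN hMN
      rw [hHM] at this
      exact top_le_iff.mp this
  · rintro ⟨-, -, -, hTI⟩ x hx hx1
    exact backward N M hMN H hHM hHM' hTI x hx hx1

end Cfsg.Agent.S4113
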