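import Cfsg.Statements.S4117
import Mathlib

set_option autoImplicit false
open Cfsg

namespace Cfsg.Agent.S4117

open scoped Pointwise


section
variable (G A : Type*) [Group G] [Group A] [MulDistribMulAction A G]

/-- the commutator subgroup `[G, A]` -/
def W : Subgroup G :=
  Subgroup.closure {y : G | ∃ (a : A) (g : G), y = g⁻¹ * a • g}

end

section
variable {G A : Type*} [Group G] [Group A] [MulDistribMulAction A G]

theorem gen_mem (a : A) (g : G) : g⁻¹ * a • g ∈ W G A :=
  Subgroup.subset_closure ⟨a, g, rfl⟩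

theorem smul_mem_W (a : A) {x : G} (hx : x ∈ W G A) : a • x ∈ W G A := by
  induction hx using Subgroup.closure_induction with
  | mem y hy =>
    obtain ⟨b, g, rfl⟩ := hy
    have e : a • (g⁻¹ * b • g) = (a • g)⁻¹ * (a * b * a⁻¹) • (a • g) := by
      simp [smul_mul', smul_inv', mul_smul]
    rw [e]
    exact gen_mem _ _
  | one => rw [smul_one]; exact one_mem _
  | mul x y _ _ hx hy => rw [smul_mul']; exact mul_mem hx hy
  | inv x _ hx => rw [smul_inv']; exact inv_mem hx

theorem W_normal : (W G A).Normal := by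
  constructor
  intro n hn x
  induction hn using Subgroup.closure_induction with
  | mem y hy =>
    obtain ⟨a, h, rfl⟩ := hy
    have e : x * (h⁻¹ * a • h) * x⁻¹ =
        ((h * x⁻¹)⁻¹ * a • (h * x⁻¹)) * ((x⁻¹)⁻¹ * a • x⁻¹)⁻¹ := by
      simp [smul_mul', smul_inv', mul_assoc]
    rw [e]
    exact mul_mem (gen_mem _ _) (inv_mem (gen_mem _ _))
  | one => simp
  | mul a b _ _ ha hb =>
    have e : x * (a * b) * x⁻¹ = (x * a * x⁻¹) * (x * b * x⁻¹) := by group
    rw [e]
    exact mul_mem ha hb
  | inv a _ ha =>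
    have e : x * a⁻¹ * x⁻¹ = (x * a * x⁻¹)⁻¹ := by group
    rw [e]
    exact inv_mem ha

/-- a characteristic subgroup is invariant under the action -/
theorem smul_mem_of_characteristic (D : Subgroup G) [hD : D.Characteristic] (a : A) {x : G}
    (hx : x ∈ D) : a • x ∈ D := by
  have h := Subgroup.characteristic_iff_map_le.mp hD (MulDistribMulAction.toMulEquiv G a)
  exact h (Subgroup.mem_map_of_mem _ hx)

/-- the restricted action on an invariant subgroup, as an endomorphism -/
def actHom (D : Subgroup G) (hD : ∀ (a : A) (x : G), x ∈ D → a • x ∈ D) (a : A) : D →* D :=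
  ((MulDistribMulAction.toMonoidHom G a).comp D.subtype).codRestrict D (fun x => hD a x x.2)

theorem coe_actHom (D : Subgroup G) (hD : ∀ (a : A) (x : G), x ∈ D → a • x ∈ D) (a : A) (x : D) :
    ((actHom D hD a x : D) : G) = a • (x : G) := rfl

/-- `[G, A]` centralizes any cyclic characteristic subgroup. -/
theorem W_le_centralizer (D : Subgroup G) [hD : D.Characteristic] [IsCyclic D] :
    W G A ≤ Subgroup.centralizer (D : Set G) := by
  have hinv : ∀ (a : A) (x : G), x ∈ D → a • x ∈ D := fun a x hx => smul_mem_of_characteristic D a hx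
  have hDn : D.Normal := inferInstance
  -- key: the action commutes with conjugation on D
  have key : ∀ (a : A) (g : G) (y : G), y ∈ D → a • (g * y * g⁻¹) = g * (a • y) * g⁻¹ := by
    intro a g y hy
    obtain ⟨m, hm⟩ := MonoidHom.map_cyclic (actHom D hinv a)
    obtain ⟨k, hk⟩ := MonoidHom.map_cyclic ((MulAut.conjNormal g : MulAut D).toMonoidHom)
    have h1 : actHom D hinv a ((MulAut.conjNormal g : MulAut D).toMonoidHom ⟨y, hy⟩) =
        (MulAut.conjNormal g : MulAut D).toMonoidHom (actHom D hinv a ⟨y, hy⟩) := by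
      rw [hm, hk, hk, hm, ← zpow_mul, ← zpow_mul, mul_comm]
    have h2 := congrArg (Subtype.val) h1
    simpa [coe_actHom, MulAut.conjNormal_apply] using h2
  rw [W, Subgroup.closure_le]
  rintro _ ⟨a, g, rfl⟩
  rw [SetLike.mem_coe, Subgroup.mem_centralizer_iff]
  intro z hz
  -- z = a • y with y = a⁻¹ • z
  have hy : a⁻¹ • z ∈ D := hinv a⁻¹ z hz
  have h := key a g (a⁻¹ • z) hy
  rw [smul_mul', smul_mul', smul_inv', smul_inv_smul] at h
  -- h : a • g * z * (a • g)⁻¹ = g * z * g⁻¹
  have h' : z * (a • g)⁻¹ = (a • g)⁻¹ * (g * z * g⁻¹) := by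
    rw [← h]; group
  calc z * (g⁻¹ * a • g) = g⁻¹ * (g * z * g⁻¹) * a • g := by group
    _ = g⁻¹ * (a • g * z * (a • g)⁻¹) * a • g := by rw [h]
    _ = g⁻¹ * a • g * z := by group

end

section
variable {G A : Type*} [Group G] [Finite G] [Group A] [MulDistribMulAction A G]

theorem W_comm [IsZGroup G] : IsMulCommutative (W G A) := by
  have : IsCyclic (commutator G) := IsZGroup.isCyclic_commutator G
  have hc : W G A ≤ Subgroup.centralizer (commutator G : Set G) := W_le_centralizer (commutator G)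
  let f : W G A →* Abelianization G := Abelianization.of.comp (W G A).subtype
  have hf : f.ker ≤ Subgroup.center (W G A) := by
    intro x hx
    rw [MonoidHom.mem_ker] at hx
    have hx' : (x : G) ∈ commutator G := by
      rw [← Abelianization.ker_of, MonoidHom.mem_ker]
      exact hx
    rw [Subgroup.mem_center_iff]
    intro y
    have := (Subgroup.mem_centralizer_iff.mp (hc y.2)) (x : G) hx'
    apply Subtype.ext
    simp only [Subgroup.coe_mul]
    exact this.symm
  exact f.isMulCommutative_of_isCyclic_of_ker_le_center hf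

theorem W_cyclic [IsZGroup G] : IsCyclic (W G A) := by
  have hcomm : IsMulCommutative (W G A) := W_comm
  have : Group.IsNilpotent (W G A) := by
    let _ : CommGroup (W G A) := { mul_comm := hcomm.is_comm.comm }
    exact CommGroup.isNilpotent
  infer_instance

end

section
variable {G A : Type*} [Group G] [Group A] [MulDistribMulAction A G]

/-- 1-cocycle averaging: if `A` acts trivially on `G/V` for an abelian invariant subgroup `V` of
order coprime to `|A|`, every coset `gV` contains a fixed point. -/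
theorem exists_fixed_mul [Finite A] (V : Subgroup G) [Finite V] (hcomm : IsMulCommutative V)
    (hinv : ∀ (a : A) (x : G), x ∈ V → a • x ∈ V)
    (hcop : (Nat.card V).Coprime (Nat.card A))
    (g : G) (hg : ∀ a : A, g⁻¹ * a • g ∈ V) :
    ∃ u ∈ V, ∀ a : A, a • (g * u) = g * u := by
  classical
  let _ := Fintype.ofFinite A
  let _ : CommGroup V := { mul_comm := hcomm.is_comm.comm }
  let w : A → V := fun a => ⟨g⁻¹ * a • g, hg a⟩
  let σ : A → (V →* V) := actHom V hinv
  have hcoc : ∀ a b : A, w (a * b) = w a * σ a (w b) := by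
    intro a b
    apply Subtype.ext
    simp [w, σ, coe_actHom, mul_smul, smul_mul', smul_inv', mul_assoc]
  let v : V := ∏ b, w b
  have h1 : ∀ a : A, v = w a ^ (Nat.card A) * σ a v := by
    intro a
    have e1 : ∏ b, w (a * b) = v := Equiv.prod_comp (Equiv.mulLeft a) w
    have e2 : ∏ b, w (a * b) = w a ^ (Nat.card A) * σ a v := by
      simp_rw [hcoc a]
      rw [Finset.prod_mul_distrib, Finset.prod_const, Finset.card_univ, map_prod,
        Nat.card_eq_fintype_card]
    exact e1.symm.trans e2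
  let u : V := (powCoprime hcop).symm v
  have hu : u ^ (Nat.card A) = v := (powCoprime hcop).apply_symm_apply v
  refine ⟨u, u.2, fun a => ?_⟩
  have h2 : w a * σ a u = u := by
    apply (powCoprime hcop).injective
    change (w a * σ a u) ^ (Nat.card A) = u ^ (Nat.card A)
    rw [mul_pow, ← map_pow, hu, ← h1 a]
  have h3 := congrArg (Subtype.val) h2
  simp only [Subgroup.coe_mul, coe_actHom, w, σ] at h3
  -- h3 : g⁻¹ * a • g * a • ↑u = ↑u
  rw [smul_mul']
  calc a • g * a • (u : G) = g * (g⁻¹ * a • g * a • (u : G)) := by group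
    _ = g * u := by rw [h3]

/-- the norm map kills `x * (a • x)⁻¹` and is `x ^ |A|` on fixed points -/
theorem eq_one_of_fixed_of_comm [Finite A] (V : Subgroup G) [Finite V] (hcomm : IsMulCommutative V)
    (hinv : ∀ (a : A) (x : G), x ∈ V → a • x ∈ V)
    (hcop : (Nat.card V).Coprime (Nat.card A))
    (hgen : ∀ x ∈ V, x ∈ Subgroup.closure {y : G | ∃ (a : A) (u : G), u ∈ V ∧ y = u * (a • u)⁻¹})
    (x : G) (hx : x ∈ V) (hfix : ∀ a : A, a • x = x) : x = 1 := by
  classical
  let _ := Fintype.ofFinite A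
  let _ : CommGroup V := { mul_comm := hcomm.is_comm.comm }
  let σ : A → (V →* V) := actHom V hinv
  let N : V →* V := ∏ a, σ a
  have hN : ∀ z : V, N z = ∏ a, σ a z := fun z => by simp [N]
  have hNσ : ∀ (b : A) (z : V), N (σ b z) = N z := by
    intro b z
    rw [hN, hN]
    have : ∀ a : A, σ a (σ b z) = σ (a * b) z := by
      intro a
      apply Subtype.ext
      simp [σ, coe_actHom, mul_smul]
    simp_rw [this]
    exact Equiv.prod_comp (Equiv.mulRight b) (fun a => σ a z)
  have hker : ∀ y ∈ Subgroup.closure {y : G | ∃ (a : A) (u : G), u ∈ V ∧ y = u * (a • u)⁻¹},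
      ∃ hy : y ∈ V, N ⟨y, hy⟩ = 1 := by
    intro y hy
    induction hy using Subgroup.closure_induction with
    | mem y h =>
      obtain ⟨a, u, hu, rfl⟩ := h
      have hy : u * (a • u)⁻¹ ∈ V := mul_mem hu (inv_mem (hinv a u hu))
      refine ⟨hy, ?_⟩
      have e : (⟨u * (a • u)⁻¹, hy⟩ : V) = ⟨u, hu⟩ * (σ a ⟨u, hu⟩)⁻¹ := by
        apply Subtype.ext
        simp [σ, coe_actHom]
      rw [e, map_mul, map_inv, hNσ, mul_inv_cancel]
    | one => exact ⟨one_mem _, map_one N⟩
    | mul y z _ _ ihy ihz =>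
      obtain ⟨hy, e1⟩ := ihy
      obtain ⟨hz, e2⟩ := ihz
      refine ⟨mul_mem hy hz, ?_⟩
      have e : (⟨y * z, mul_mem hy hz⟩ : V) = ⟨y, hy⟩ * ⟨z, hz⟩ := rfl
      rw [e, map_mul, e1, e2, one_mul]
    | inv y _ ih =>
      obtain ⟨hy, e1⟩ := ih
      refine ⟨inv_mem hy, ?_⟩
      have e : (⟨y⁻¹, inv_mem hy⟩ : V) = (⟨y, hy⟩ : V)⁻¹ := rfl
      rw [e, map_inv, e1, inv_one]
  obtain ⟨_, h1⟩ := hker x (hgen x hx)
  have h2 : N ⟨x, hx⟩ = (⟨x, hx⟩ : V) ^ (Nat.card A) := by
    rw [hN]
    have : ∀ a : A, σ a ⟨x, hx⟩ = ⟨x, hx⟩ := by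
      intro a
      apply Subtype.ext
      simp [σ, coe_actHom, hfix a]
    simp_rw [this]
    rw [Finset.prod_const, Finset.card_univ, Nat.card_eq_fintype_card]
  have h3 : (⟨x, hx⟩ : V) = 1 := by
    apply (powCoprime hcop).injective
    change (⟨x, hx⟩ : V) ^ (Nat.card A) = 1 ^ (Nat.card A)
    rw [← h2, h1, one_pow]
  exact congrArg Subtype.val h3

end

theorem mem_zpowers_of_cyclic {P : Type*} [Group P] [Finite P] [IsCyclic P] {p : ℕ} (hp : p.Prime)
    (x y : P) (hy : orderOf y = p) (hx : x ^ p = 1) : x ∈ Subgroup.zpowers y := by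
  classical
  let _ := Fintype.ofFinite P
  have h1 : (Finset.univ.filter (fun a : P => a ^ p = 1)).card ≤ p :=
    IsCyclic.card_pow_eq_one_le hp.pos
  have h2 : ((Subgroup.zpowers y : Set P).toFinset) ⊆ Finset.univ.filter (fun a : P => a ^ p = 1) := by
    intro t ht
    simp only [Set.mem_toFinset, SetLike.mem_coe] at ht
    obtain ⟨k, rfl⟩ := ht
    simp only [Finset.mem_filter, Finset.mem_univ, true_and]
    rw [← zpow_natCast, ← zpow_mul, mul_comm, zpow_mul, zpow_natCast, ← hy, pow_orderOf_eq_one,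
      one_zpow]
  have h3 : ((Subgroup.zpowers y : Set P).toFinset).card = p := by
    rw [Set.toFinset_card, ← Nat.card_eq_fintype_card]
    exact (Nat.card_zpowers y).trans hy
  have h4 := Finset.eq_of_subset_of_card_le h2 (by rw [h3]; exact h1)
  have : x ∈ Finset.univ.filter (fun a : P => a ^ p = 1) := by simp [hx]
  rw [← h4] at this
  simpa using this

theorem coprime_of_cyclic_sylow {G : Type*} [Group G] [Finite G]
    (hcyc : ∀ (p : ℕ) [Fact p.Prime] (P : Sylow p G), IsCyclic (P : Subgroup G))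
    (W C : Subgroup G) [hW : W.Normal] (hWC : ∀ x ∈ W, x ∈ C → x = 1) :
    (Nat.card C).Coprime (Nat.card W) := by
  by_contra h
  obtain ⟨p, hp, h1, h2⟩ := Nat.Prime.not_coprime_iff_dvd.mp h
  have : Fact p.Prime := ⟨hp⟩
  obtain ⟨x, hx⟩ := exists_prime_orderOf_dvd_card' p h1
  obtain ⟨y, hy⟩ := exists_prime_orderOf_dvd_card' p h2
  have hx' : orderOf (x : G) = p := by rw [Subgroup.orderOf_coe]; exact hx
  have hy' : orderOf (y : G) = p := by rw [Subgroup.orderOf_coe]; exact hy
  have hpx : IsPGroup p (Subgroup.zpowers (x : G)) :=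
    IsPGroup.of_card (n := 1) (by rw [Nat.card_zpowers, hx', pow_one])
  have hpy : IsPGroup p (Subgroup.zpowers (y : G)) :=
    IsPGroup.of_card (n := 1) (by rw [Nat.card_zpowers, hy', pow_one])
  obtain ⟨Q, hQ⟩ := hpx.exists_le_sylow
  obtain ⟨P, hP⟩ := hpy.exists_le_sylow
  obtain ⟨g, hg⟩ := MulAction.exists_smul_eq G Q P
  have hxQ : (x : G) ∈ (Q : Subgroup G) := hQ (Subgroup.mem_zpowers _)
  have hyP : (y : G) ∈ (P : Subgroup G) := hP (Subgroup.mem_zpowers _)
  have hx'P : g * (x : G) * g⁻¹ ∈ (P : Subgroup G) := by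
    rw [← hg, Sylow.coe_subgroup_smul]
    have := Subgroup.smul_mem_pointwise_smul (x : G) (MulAut.conj g) (Q : Subgroup G) hxQ
    simpa [MulAut.smul_def, MulAut.conj_apply] using this
  have hPc : IsCyclic (P : Subgroup G) := hcyc p P
  have hmem : (⟨g * (x : G) * g⁻¹, hx'P⟩ : (P : Subgroup G)) ∈
      Subgroup.zpowers (⟨(y : G), hyP⟩ : (P : Subgroup G)) := by
    apply mem_zpowers_of_cyclic hp
    · rw [Subgroup.orderOf_mk]; exact hy'
    · apply Subtype.ext
      simp only [Subgroup.coe_pow, Subgroup.coe_one]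
      rw [conj_pow, ← hx', pow_orderOf_eq_one, mul_one, mul_inv_cancel]
  obtain ⟨k, hk⟩ := hmem
  have hk' : (y : G) ^ k = g * (x : G) * g⁻¹ := by
    have := congrArg Subtype.val hk
    simpa using this
  have hW1 : g * (x : G) * g⁻¹ ∈ W := by
    rw [← hk']
    exact zpow_mem y.2 k
  have hW2 : (x : G) ∈ W := by
    have := hW.conj_mem _ hW1 g⁻¹
    simpa [mul_assoc] using this
  have := hWC _ hW2 x.2
  rw [this, orderOf_one] at hx'
  exact hp.one_lt.ne hx'

/-- Let A be a finite group acting on the finite group G by automorphisms with the orders of A and G coprime, and suppose every Sylow subgroup of G is cyclic. Then the fixed-point subgroup C_G(A) is a Hall subgroup of G (its order is coprime to its index), the subgroup [G, A] generated by the elements g⁻¹·a(g) is cyclic and normal with [G, A] ∩ C_G(A) = 1 and [G, A]·C_G(A) = G. -/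
theorem result {G A : Type*} [Group G] [Finite G] [Group A] [Finite A]
    [MulDistribMulAction A G] (hcop : (Nat.card A).Coprime (Nat.card G))
    (hcyc : ∀ (p : ℕ) [Fact p.Prime] (P : Sylow p G), IsCyclic (P : Subgroup G)) :
    (Nat.card (MulAction.fixedPoints A G : Set G)).Coprime (Nat.card G / Nat.card (MulAction.fixedPoints A G : Set G)) ∧
    IsCyclic (Subgroup.closure {y : G | ∃ (a : A) (g : G), y = g⁻¹ * a • g}) ∧
    (Subgroup.closure {y : G | ∃ (a : A) (g : G), y = g⁻¹ * a • g}).Normal ∧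
    (Subgroup.closure {y : G | ∃ (a : A) (g : G), y = g⁻¹ * a • g} : Set G) ∩ MulAction.fixedPoints A G = {1} ∧
    Subgroup.closure {y : G | ∃ (a : A) (g : G), y = g⁻¹ * a • g} ⊔ Subgroup.closure (MulAction.fixedPoints A G) = ⊤ := by
  have hZ : IsZGroup G := ⟨fun p hp P => by
    have : Fact p.Prime := ⟨hp⟩
    exact hcyc p P⟩
  have hWn : (W G A).Normal := W_normal
  have hWc : IsMulCommutative (W G A) := W_comm
  have hinv : ∀ (a : A) (x : G), x ∈ W G A → a • x ∈ W G A := fun a x hx => smul_mem_W a hx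
  have hcopW : (Nat.card (W G A)).Coprime (Nat.card A) :=
    Nat.Coprime.coprime_dvd_left (Subgroup.card_subgroup_dvd_card _) hcop.symm
  have hd : ∀ g : G, ∃ u ∈ W G A, ∀ a : A, a • (g * u) = g * u := fun g =>
    exists_fixed_mul (W G A) hWc hinv hcopW g (fun a => gen_mem a g)
  have hgen : ∀ x ∈ W G A,
      x ∈ Subgroup.closure {y : G | ∃ (a : A) (u : G), u ∈ W G A ∧ y = u * (a • u)⁻¹} := by
    have hle : W G A ≤
        Subgroup.closure {y : G | ∃ (a : A) (u : G), u ∈ W G A ∧ y = u * (a • u)⁻¹} := by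
      rw [W, Subgroup.closure_le]
      rintro _ ⟨a, g, rfl⟩
      obtain ⟨u, hu, hc⟩ := hd g
      apply Subgroup.subset_closure
      refine ⟨a, u, hu, ?_⟩
      have h := hc a
      rw [smul_mul'] at h
      calc g⁻¹ * a • g = g⁻¹ * (a • g * a • u) * (a • u)⁻¹ := by group
        _ = g⁻¹ * (g * u) * (a • u)⁻¹ := by rw [h]
        _ = u * (a • u)⁻¹ := by group
    exact fun x hx => hle hx
  have hWC : ∀ x ∈ W G A, x ∈ FixedPoints.subgroup A G → x = 1 := fun x hx hxC =>
    eq_one_of_fixed_of_comm (W G A) hWc hinv hcopW hgen x hx hxC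
  have hcl : Subgroup.closure (MulAction.fixedPoints A G) = FixedPoints.subgroup A G :=
    Subgroup.closure_eq (FixedPoints.subgroup A G)
  have hcompl : Subgroup.IsComplement' (FixedPoints.subgroup A G) (W G A) := by
    apply Subgroup.isComplement'_of_disjoint_and_mul_eq_univ
    · rw [Subgroup.disjoint_def]
      intro x hxC hxW
      exact hWC x hxW hxC
    · rw [Set.eq_univ_iff_forall]
      intro g
      obtain ⟨u, hu, hc⟩ := hd g
      exact ⟨g * u, hc, u⁻¹, inv_mem hu, by simp⟩
  have hcard : Nat.card (FixedPoints.subgroup A G) * Nat.card (W G A) = Nat.card G :=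
    hcompl.card_mul_card
  have hcop2 : (Nat.card (FixedPoints.subgroup A G)).Coprime (Nat.card (W G A)) :=
    coprime_of_cyclic_sylow hcyc (W G A) (FixedPoints.subgroup A G) hWC
  refine ⟨?_, W_cyclic, hWn, ?_, ?_⟩
  · change (Nat.card (FixedPoints.subgroup A G)).Coprime
      (Nat.card G / Nat.card (FixedPoints.subgroup A G))
    rw [← hcard, Nat.mul_div_cancel_left _ Nat.card_pos]
    exact hcop2
  · ext x
    constructor
    · rintro ⟨hxW, hxC⟩
      exact hWC x hxW hxC
    · intro hx
      rw [Set.mem_singleton_iff] at hx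
      subst hx
      exact ⟨one_mem (W G A), fun a => smul_one a⟩
  · rw [hcl, eq_top_iff]
    intro g _
    obtain ⟨u, hu, hc⟩ := hd g
    have hg : g = (g * u) * u⁻¹ := by group
    rw [hg, sup_comm]
    exact Subgroup.mul_mem_sup (show g * u ∈ FixedPoints.subgroup A G from hc) (inv_mem hu)

end Cfsg.Agent.S4117
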