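import Cfsg.Statements.S4134
import Cfsg.Agent.S4127
import Cfsg.Agent.S3986
import Cfsg.Agent.S0041

set_option autoImplicit false
open Cfsg

namespace Cfsg.Agent.S4134

set_option linter.unusedSectionVars false

section helpers

variable {G : Type*} [Group G]

theorem idx_eq_one_iff (x : G) :
    (Subgroup.centralizer ({x} : Set G)).index = 1 ↔ x ∈ Subgroup.center G := by
  rw [Subgroup.index_eq_one, Subgroup.centralizer_eq_top_iff_subset, Set.singleton_subset_iff]
  rfl

/-- an element all of whose prime-power-order powers lie in `H` lies in `H` -/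
theorem mem_of_primary_pow_mem [Finite G] (H : Subgroup G) (g : G)
    (h : ∀ (q k : ℕ) (z : G), q.Prime → z ∈ Subgroup.zpowers g → orderOf z = q ^ k → z ∈ H) :
    g ∈ H := by
  set Z := Subgroup.zpowers g with hZ
  have hKtop : H.subgroupOf Z = ⊤ := by
    apply Cfsg.Agent.S3986.eq_top_of_forall_primePow_mem
    intro q j z hq hzo
    rw [Subgroup.mem_subgroupOf]
    have hzo' : orderOf (z : G) = q ^ j := by rw [Subgroup.orderOf_coe]; exact hzo
    exact h q j z hq z.2 hzo'
  have hgK : (⟨g, Subgroup.mem_zpowers g⟩ : Z) ∈ H.subgroupOf Z := by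
    rw [hKtop]; exact Subgroup.mem_top _
  rw [Subgroup.mem_subgroupOf] at hgK
  exact hgK

/-- a bad pair: commuting noncentral elements of prime power orders for different primes -/
def Bad (G : Type*) [Group G] : Prop :=
  ∃ (x y : G) (s q k j : ℕ), s.Prime ∧ q.Prime ∧ s ≠ q ∧ orderOf x = s ^ k ∧ orderOf y = q ^ j ∧
    x ∉ Subgroup.center G ∧ y ∉ Subgroup.center G ∧ Commute x y

/-- B0 -/
theorem prime_dvd_relIndex [Finite G] (H : Subgroup G) (hZH : Subgroup.center G ≤ H) (x : G)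
    (hxH : x ∈ H) (hx : x ∉ Subgroup.center G) (s k : ℕ) (hs : s.Prime)
    (hxo : orderOf x = s ^ k) : s ∣ (Subgroup.center G).relIndex H := by
  set q : H ⧸ (Subgroup.center G).subgroupOf H := QuotientGroup.mk ⟨x, hxH⟩ with hq
  have hq1 : q ≠ 1 := by
    intro h1
    rw [hq, QuotientGroup.eq_one_iff, Subgroup.mem_subgroupOf] at h1
    exact hx h1
  have hqpow : q ^ (s ^ k) = 1 := by
    rw [hq, ← QuotientGroup.mk_pow, QuotientGroup.eq_one_iff, Subgroup.mem_subgroupOf]
    have : ((⟨x, hxH⟩ : H) ^ s ^ k : H) = 1 := by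
      apply Subtype.ext
      rw [Subgroup.coe_pow, Subgroup.coe_one, ← hxo]
      exact pow_orderOf_eq_one x
    rw [this]; exact Subgroup.one_mem _
  obtain ⟨i, hi, hoi⟩ := (Nat.dvd_prime_pow hs).mp (orderOf_dvd_of_pow_eq_one hqpow)
  have hi0 : i ≠ 0 := by
    rintro rfl
    rw [pow_zero, orderOf_eq_one_iff] at hoi
    exact hq1 hoi
  have h1 : s ∣ orderOf q := by rw [hoi]; exact dvd_pow_self s hi0
  have h2 : orderOf q ∣ Nat.card (H ⧸ (Subgroup.center G).subgroupOf H) := orderOf_dvd_natCard q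
  exact h1.trans h2

/-- (c): a noncentral element of a noncentral Sylow subgroup which is central modulo `Z(G)` in the
Sylow subgroup and whose `t`-th power is central. -/
theorem exists_z [Finite G] (t : ℕ) [Fact t.Prime] (T : Sylow t G)
    (hT : ¬ (T : Subgroup G) ≤ Subgroup.center G) :
    ∃ z ∈ (T : Subgroup G), z ∉ Subgroup.center G ∧
      (∀ u ∈ (T : Subgroup G), u * z * u⁻¹ * z⁻¹ ∈ Subgroup.center G) ∧
      z ^ t ∈ Subgroup.center G := by
  have ht : t.Prime := Fact.out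
  set Z' := (Subgroup.center G).subgroupOf (T : Subgroup G) with hZ'
  have hpg : IsPGroup t ((T : Subgroup G) ⧸ Z') := T.isPGroup'.to_quotient Z'
  have hnt : Nontrivial ((T : Subgroup G) ⧸ Z') := by
    rw [← not_subsingleton_iff_nontrivial]
    intro hsub
    apply hT
    intro x hx
    have : (QuotientGroup.mk (⟨x, hx⟩ : (T : Subgroup G)) : (T : Subgroup G) ⧸ Z') = 1 :=
      Subsingleton.elim _ _
    rw [QuotientGroup.eq_one_iff, hZ', Subgroup.mem_subgroupOf] at this
    exact this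
  have hcnt : Nontrivial (Subgroup.center ((T : Subgroup G) ⧸ Z')) := hpg.center_nontrivial
  have hdvdc : t ∣ Nat.card (Subgroup.center ((T : Subgroup G) ⧸ Z')) := by
    obtain ⟨e, he⟩ := IsPGroup.iff_card.mp (hpg.to_subgroup (Subgroup.center _))
    rw [he]
    have : e ≠ 0 := by
      rintro rfl
      rw [pow_zero] at he
      have := (Nat.card_eq_one_iff_unique.mp he).1
      exact not_subsingleton _ this
    exact dvd_pow_self t this
  obtain ⟨c, hc⟩ := exists_prime_orderOf_dvd_card' t hdvdc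
  obtain ⟨z, hz⟩ := QuotientGroup.mk_surjective (c : (T : Subgroup G) ⧸ Z')
  have hcne : c ≠ 1 := by
    intro h1
    rw [h1, orderOf_one] at hc
    exact ht.one_lt.ne hc
  refine ⟨(z : G), z.2, ?_, ?_, ?_⟩
  · intro hmem
    apply hcne
    apply Subtype.ext
    rw [← hz]
    exact (QuotientGroup.eq_one_iff z).mpr (Subgroup.mem_subgroupOf.mpr hmem)
  · intro u hu
    have hcc := c.2
    rw [Subgroup.mem_center_iff] at hcc
    have h1 := hcc (QuotientGroup.mk (⟨u, hu⟩ : (T : Subgroup G)))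
    rw [← hz] at h1
    have h2 : (QuotientGroup.mk ((⟨u, hu⟩ : (T : Subgroup G)) * z * (⟨u, hu⟩ : (T : Subgroup G))⁻¹ * z⁻¹) :
        (T : Subgroup G) ⧸ Z') = 1 := by
      simp only [QuotientGroup.mk_mul, QuotientGroup.mk_inv]
      rw [h1]; group
    rw [QuotientGroup.eq_one_iff, hZ', Subgroup.mem_subgroupOf] at h2
    simpa using h2
  · have h1 : c ^ t = 1 := by
      have := pow_orderOf_eq_one c
      rwa [hc] at this
    have h2 : (QuotientGroup.mk (z ^ t) : (T : Subgroup G) ⧸ Z') = 1 := by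
      rw [QuotientGroup.mk_pow, hz]
      have := congrArg Subtype.val h1
      simpa using this
    rw [QuotientGroup.eq_one_iff, hZ', Subgroup.mem_subgroupOf] at h2
    simpa using h2

/-- (d): conjugation by an element whose commutator with `z` is central preserves `C(z)`. -/
theorem conj_mem_centralizer_of_central_comm (z u c : G)
    (hu : u⁻¹ * z * u⁻¹⁻¹ * z⁻¹ ∈ Subgroup.center G)
    (hc : c ∈ Subgroup.centralizer ({z} : Set G)) :
    u * c * u⁻¹ ∈ Subgroup.centralizer ({z} : Set G) := by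
  rw [Subgroup.mem_centralizer_singleton_iff] at hc ⊢
  set ζ := u⁻¹ * z * u⁻¹⁻¹ * z⁻¹ with hζ
  have hζv : ∀ v : G, v * ζ = ζ * v := fun v => (Subgroup.mem_center_iff.mp hu) v
  have e1 : u⁻¹ * z * u = ζ * z := by rw [hζ]; group
  calc u * c * u⁻¹ * z = u * c * (u⁻¹ * z * u) * u⁻¹ := by group
    _ = u * c * (ζ * z) * u⁻¹ := by rw [e1]
    _ = u * (c * ζ) * z * u⁻¹ := by group
    _ = u * (ζ * c) * z * u⁻¹ := by rw [hζv c]
    _ = u * ζ * (c * z) * u⁻¹ := by group
    _ = u * ζ * (z * c) * u⁻¹ := by rw [hc]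
    _ = u * (ζ * z) * c * u⁻¹ := by group
    _ = u * (u⁻¹ * z * u) * c * u⁻¹ := by rw [e1]
    _ = z * (u * c * u⁻¹) := by group

/-- `u z u⁻¹ = ζ z` with `ζ` central -/
def CentralConj (z u ζ : G) : Prop := ζ ∈ Subgroup.center G ∧ u * z * u⁻¹ = ζ * z

theorem CentralConj.mk' (z u : G) (h : u * z * u⁻¹ * z⁻¹ ∈ Subgroup.center G) :
    CentralConj z u (u * z * u⁻¹ * z⁻¹) := ⟨h, by group⟩

theorem CentralConj.mul {z u v ζ ξ : G} (hu : CentralConj z u ζ) (hv : CentralConj z v ξ) :
    CentralConj z (u * v) (ζ * ξ) := by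
  refine ⟨Subgroup.mul_mem _ hu.1 hv.1, ?_⟩
  have hξ : ∀ w : G, w * ξ = ξ * w := fun w => (Subgroup.mem_center_iff.mp hv.1) w
  calc u * v * z * (u * v)⁻¹ = u * (v * z * v⁻¹) * u⁻¹ := by group
    _ = u * (ξ * z) * u⁻¹ := by rw [hv.2]
    _ = (u * ξ) * z * u⁻¹ := by group
    _ = (ξ * u) * z * u⁻¹ := by rw [hξ u]
    _ = ξ * (u * z * u⁻¹) := by group
    _ = ξ * (ζ * z) := by rw [hu.2]
    _ = (ξ * ζ) * z := by group
    _ = (ζ * ξ) * z := by rw [← hξ ζ]

theorem CentralConj.inv {z u ζ : G} (hu : CentralConj z u ζ) : CentralConj z u⁻¹ ζ⁻¹ := by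
  refine ⟨Subgroup.inv_mem _ hu.1, ?_⟩
  have hζ : ∀ w : G, w * ζ⁻¹ = ζ⁻¹ * w := fun w =>
    (Subgroup.mem_center_iff.mp (Subgroup.inv_mem _ hu.1)) w
  have h1 : z = ζ⁻¹ * (u * z * u⁻¹) := by rw [hu.2]; group
  calc u⁻¹ * z * u⁻¹⁻¹ = u⁻¹ * (ζ⁻¹ * (u * z * u⁻¹)) * u := by rw [← h1, inv_inv]
    _ = (u⁻¹ * ζ⁻¹) * u * z := by group
    _ = (ζ⁻¹ * u⁻¹) * u * z := by rw [hζ u⁻¹]
    _ = ζ⁻¹ * z := by group

theorem CentralConj.pow {z u ζ : G} (hu : CentralConj z u ζ) (i : ℕ) :
    CentralConj z (u ^ i) (ζ ^ i) := by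
  induction i with
  | zero => exact ⟨by simp, by simp⟩
  | succ i ih => rw [pow_succ, pow_succ]; exact ih.mul hu

theorem CentralConj.pow_eq_one {z u ζ : G} (hu : CentralConj z u ζ) (t : ℕ)
    (hz : z ^ t ∈ Subgroup.center G) : ζ ^ t = 1 := by
  have hζ : Commute ζ z := ((Subgroup.mem_center_iff.mp hu.1) z).symm
  have h1 : u * z ^ t * u⁻¹ = z ^ t := by
    rw [(Subgroup.mem_center_iff.mp hz) u]; group
  have h2 : u * z ^ t * u⁻¹ = (u * z * u⁻¹) ^ t := (conj_pow).symm
  rw [h2, hu.2, hζ.mul_pow] at h1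
  exact mul_eq_right.mp h1

theorem CentralConj.commute_of_eq_one {z u : G} (hu : CentralConj z u 1) : u * z = z * u := by
  have := hu.2
  rw [one_mul] at this
  calc u * z = (u * z * u⁻¹) * u := by group
    _ = z * u := by rw [this]

/-- the commutator of two elements whose commutators with `z` are central commutes with `z`. -/
theorem comm_commute_of_central (z a b : G)
    (ha : a * z * a⁻¹ * z⁻¹ ∈ Subgroup.center G) (hb : b * z * b⁻¹ * z⁻¹ ∈ Subgroup.center G) :
    (a * b * a⁻¹ * b⁻¹) * z = z * (a * b * a⁻¹ * b⁻¹) := by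
  have h1 := CentralConj.mk' z a ha
  have h2 := CentralConj.mk' z b hb
  set α := a * z * a⁻¹ * z⁻¹
  set β := b * z * b⁻¹ * z⁻¹
  have h3 := ((h1.mul h2).mul h1.inv).mul h2.inv
  have hαβ : β * α = α * β := (Subgroup.mem_center_iff.mp ha) β
  have e : α * β * α⁻¹ * β⁻¹ = 1 := by
    calc α * β * α⁻¹ * β⁻¹ = (α * β) * (β * α)⁻¹ := by group
      _ = 1 := by rw [hαβ, mul_inv_cancel]
  rw [e] at h3
  exact h3.commute_of_eq_one

/-- the `t`-th power of an element whose commutator with `z` is central commutes with `z` when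
`z ^ t` is central. -/
theorem pow_commute_of_central (z u : G) (t : ℕ)
    (hu : u * z * u⁻¹ * z⁻¹ ∈ Subgroup.center G) (hz : z ^ t ∈ Subgroup.center G) :
    u ^ t * z = z * u ^ t := by
  have h1 := CentralConj.mk' z u hu
  have h2 := h1.pow t
  rw [h1.pow_eq_one t hz] at h2
  exact h2.commute_of_eq_one

/-- An abelian-mod-`K` group `T` of exponent dividing `t` mod `K` acting by conjugation on a nontrivial
abelian subgroup `W`, with `K` acting trivially and every element outside `K` fixed-point-freely,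
satisfies `|T : K| ∣ t`. -/
theorem relIndex_dvd_of_fpf [Finite G] (T W : Subgroup G) (hW : W ≠ ⊥)
    (hWc : ∀ a ∈ W, ∀ b ∈ W, a * b = b * a)
    (hTW : ∀ u ∈ T, ∀ w ∈ W, u * w * u⁻¹ ∈ W)
    (K : Subgroup G) (hKT : K ≤ T) (hKW : ∀ k ∈ K, ∀ w ∈ W, k * w = w * k)
    (hcomm : ∀ a ∈ T, ∀ b ∈ T, a * b * a⁻¹ * b⁻¹ ∈ K)
    (hfpf : ∀ u ∈ T, u ∉ K → ∀ w ∈ W, u * w = w * u → w = 1)
    (t : ℕ) (hexp : ∀ u ∈ T, u ^ t ∈ K) : K.relIndex T ∣ t := by
  classical
  set K' := K.subgroupOf T with hK'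
  haveI hK'n : K'.Normal := by
    constructor
    intro k hk u
    rw [hK', Subgroup.mem_subgroupOf] at hk ⊢
    have h1 := hcomm (u : G) u.2 (k : G) (hKT hk)
    have e : ((u * k * u⁻¹ : T) : G) = ((u : G) * (k : G) * (u : G)⁻¹ * (k : G)⁻¹) * (k : G) := by
      simp only [Subgroup.coe_mul, Subgroup.coe_inv]; group
    rw [e]
    exact K.mul_mem h1 hk
  -- commutative group structure on the quotient
  letI : CommGroup (T ⧸ K') :=
    { (inferInstance : Group (T ⧸ K')) with
      mul_comm := by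
        intro a b
        obtain ⟨a, rfl⟩ := QuotientGroup.mk_surjective a
        obtain ⟨b, rfl⟩ := QuotientGroup.mk_surjective b
        rw [← QuotientGroup.mk_mul, ← QuotientGroup.mk_mul, QuotientGroup.eq]
        rw [hK', Subgroup.mem_subgroupOf]
        have h1 := hcomm ((b : G)⁻¹) (T.inv_mem b.2) ((a : G)⁻¹) (T.inv_mem a.2)
        have e : (((a * b)⁻¹ * (b * a) : T) : G) =
            (b : G)⁻¹ * (a : G)⁻¹ * ((b : G)⁻¹)⁻¹ * ((a : G)⁻¹)⁻¹ := by
          simp only [Subgroup.coe_mul, Subgroup.coe_inv]; group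
        rw [e]; exact h1 }
  haveI : Finite (T ⧸ K') := inferInstance
  -- the action
  let φ₀ : T →* MulAut W :=
    { toFun := fun u =>
        { toFun := fun w => ⟨(u : G) * (w : G) * (u : G)⁻¹, hTW u u.2 w w.2⟩
          invFun := fun w => ⟨(u : G)⁻¹ * (w : G) * ((u : G)⁻¹)⁻¹,
            hTW _ (T.inv_mem u.2) w w.2⟩
          left_inv := fun w => by apply Subtype.ext; simp only []; group
          right_inv := fun w => by apply Subtype.ext; simp only []; group
          map_mul' := fun w w' => by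
            apply Subtype.ext
            simp only [Subgroup.coe_mul]; group }
      map_one' := by
        ext w
        simp
      map_mul' := fun u u' => by
        ext w
        simp only [Subgroup.coe_mul, MulAut.mul_apply, MulEquiv.coe_mk, Equiv.coe_fn_mk]
        group }
  have hφ₀ : ∀ (u : T) (w : W), ((φ₀ u w : W) : G) = (u : G) * (w : G) * (u : G)⁻¹ := fun _ _ => rfl
  have hker : K' ≤ φ₀.ker := by
    intro k hk
    rw [MonoidHom.mem_ker]
    ext w
    rw [hφ₀, MulAut.one_apply]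
    rw [hK', Subgroup.mem_subgroupOf] at hk
    rw [hKW (k : G) hk w w.2]; group
  let φ₁ : T ⧸ K' →* MulAut W := QuotientGroup.lift K' φ₀ hker
  letI : CommGroup W :=
    { (inferInstance : Group W) with
      mul_comm := fun a b => Subtype.ext (hWc a a.2 b b.2) }
  let toEnd : MulAut W →* Module.End ℤ (Additive W) :=
    { toFun := fun σ => (MonoidHom.toAdditive σ.toMonoidHom).toIntLinearMap
      map_one' := by ext m; rfl
      map_mul' := fun σ τ => by ext m; rfl }
  let ρ : T ⧸ K' →* Module.End ℤ (Additive W) := toEnd.comp φ₁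
  have hnt : Nontrivial (Additive W) := by
    have : Nontrivial W := (Subgroup.nontrivial_iff_ne_bot W).mpr hW
    infer_instance
  have hcyc : IsCyclic (T ⧸ K') := by
    apply Cfsg.Agent.S0041.cyclic_of_comm ρ
    intro b hb m hm
    induction m using Additive.rec with
    | ofMul v =>
      obtain ⟨x, rfl⟩ := QuotientGroup.mk_surjective b
      have hxK : (x : G) ∉ K := by
        intro hx
        apply hb
        exact (QuotientGroup.eq_one_iff x).mpr (Subgroup.mem_subgroupOf.mpr hx)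
      have h0 : ρ (QuotientGroup.mk x) (Additive.ofMul v) = Additive.ofMul (φ₀ x v) := rfl
      rw [h0] at hm
      have h2 : φ₀ x v = v := Additive.ofMul.injective hm
      have h3 := congrArg Subtype.val h2
      rw [hφ₀] at h3
      have h4 : (v : G) = 1 := hfpf x x.2 hxK v v.2 (by
        calc (x : G) * v = ((x : G) * v * (x : G)⁻¹) * x := by group
          _ = v * x := by rw [h3])
      have : v = 1 := Subtype.ext h4
      rw [this]; rfl
  -- exponent
  have hexp' : ∀ a : T ⧸ K', a ^ t = 1 := by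
    intro a
    obtain ⟨a, rfl⟩ := QuotientGroup.mk_surjective a
    rw [← QuotientGroup.mk_pow, QuotientGroup.eq_one_iff, hK', Subgroup.mem_subgroupOf,
      Subgroup.coe_pow]
    exact hexp a a.2
  have h1 : Monoid.exponent (T ⧸ K') ∣ t := Monoid.exponent_dvd_of_forall_pow_eq_one hexp'
  have h2 : Monoid.exponent (T ⧸ K') = Nat.card (T ⧸ K') := IsCyclic.exponent_eq_card
  rw [h2] at h1
  exact h1

/-- abstract form of (e) -/
theorem relIndex_dvd_prime [Finite G] (t : ℕ) (T : Subgroup G) (z : G)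
    (hzc : ∀ u ∈ T, u * z * u⁻¹ * z⁻¹ ∈ Subgroup.center G)
    (hzt : z ^ t ∈ Subgroup.center G)
    (hCab : ∀ a ∈ Subgroup.centralizer ({z} : Set G), ∀ b ∈ Subgroup.centralizer ({z} : Set G),
      a * b = b * a)
    (hCmax : ∀ c ∈ Subgroup.centralizer ({z} : Set G), c ∉ Subgroup.center G →
      ∀ a : G, a * c = c * a → a ∈ Subgroup.centralizer ({z} : Set G))
    (v : G) (hvC : v ∈ Subgroup.centralizer ({z} : Set G)) (hvZ : v ∉ Subgroup.center G)
    (hvt : (orderOf v).Coprime t) :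
    (T ⊓ Subgroup.centralizer ({z} : Set G)).relIndex T ∣ t := by
  classical
  set C := Subgroup.centralizer ({z} : Set G) with hC
  by_cases hTC : T ≤ C
  · have : (T ⊓ C).relIndex T = 1 := by
      rw [Subgroup.relIndex_eq_one]; exact le_inf le_rfl hTC
    rw [this]; exact one_dvd t
  obtain ⟨u₀, hu₀T, hu₀C⟩ := Set.not_subset.mp hTC
  have hTconj : ∀ u ∈ T, ∀ c ∈ C, u * c * u⁻¹ ∈ C := by
    intro u hu c hc
    exact conj_mem_centralizer_of_central_comm z u c (hzc u⁻¹ (T.inv_mem hu)) hc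
  set m := orderOf v with hm
  -- R₀
  let R₀ : Subgroup G :=
    { carrier := {c | c ∈ C ∧ c ^ m = 1}
      one_mem' := ⟨C.one_mem, one_pow m⟩
      mul_mem' := by
        rintro a b ⟨ha, ha'⟩ ⟨hb, hb'⟩
        refine ⟨C.mul_mem ha hb, ?_⟩
        rw [(show Commute a b from hCab a ha b hb).mul_pow, ha', hb', one_mul]
      inv_mem' := by
        rintro a ⟨ha, ha'⟩
        exact ⟨C.inv_mem ha, by rw [inv_pow, ha', inv_one]⟩ }
  have hR₀mem : ∀ c : G, c ∈ R₀ ↔ c ∈ C ∧ c ^ m = 1 := fun c => Iff.rfl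
  have hR₀C : R₀ ≤ C := fun c hc => hc.1
  have hR₀conj : ∀ u ∈ T, ∀ c ∈ R₀, u * c * u⁻¹ ∈ R₀ := by
    intro u hu c hc
    refine ⟨hTconj u hu c hc.1, ?_⟩
    rw [conj_pow, hc.2]; group
  have hvR₀ : v ∈ R₀ := ⟨hvC, pow_orderOf_eq_one v⟩
  -- W
  let W : Subgroup G :=
    { carrier := {d | ∃ w ∈ R₀, d = u₀ * w * u₀⁻¹ * w⁻¹}
      one_mem' := ⟨1, R₀.one_mem, by group⟩
      mul_mem' := by
        rintro d d' ⟨w, hw, rfl⟩ ⟨w', hw', rfl⟩
        refine ⟨w * w', R₀.mul_mem hw hw', ?_⟩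
        have hA : u₀ * w * u₀⁻¹ ∈ C := hR₀C (hR₀conj u₀ hu₀T w hw)
        have hA' : u₀ * w' * u₀⁻¹ ∈ C := hR₀C (hR₀conj u₀ hu₀T w' hw')
        have hB : w⁻¹ ∈ C := C.inv_mem (hR₀C hw)
        have hB' : w'⁻¹ ∈ C := C.inv_mem (hR₀C hw')
        have e1 : w⁻¹ * (u₀ * w' * u₀⁻¹ * w'⁻¹) = (u₀ * w' * u₀⁻¹ * w'⁻¹) * w⁻¹ :=
          hCab _ hB _ (C.mul_mem hA' hB')
        calc u₀ * w * u₀⁻¹ * w⁻¹ * (u₀ * w' * u₀⁻¹ * w'⁻¹)
            = u₀ * w * u₀⁻¹ * (w⁻¹ * (u₀ * w' * u₀⁻¹ * w'⁻¹)) := by group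
          _ = u₀ * w * u₀⁻¹ * ((u₀ * w' * u₀⁻¹ * w'⁻¹) * w⁻¹) := by rw [e1]
          _ = u₀ * (w * w') * u₀⁻¹ * (w * w')⁻¹ := by group
      inv_mem' := by
        rintro d ⟨w, hw, rfl⟩
        refine ⟨w⁻¹, R₀.inv_mem hw, ?_⟩
        have hA : u₀ * w⁻¹ * u₀⁻¹ ∈ C := hR₀C (hR₀conj u₀ hu₀T w⁻¹ (R₀.inv_mem hw))
        have hB : w ∈ C := hR₀C hw
        have e1 : w * (u₀ * w⁻¹ * u₀⁻¹) = (u₀ * w⁻¹ * u₀⁻¹) * w := hCab _ hB _ hA
        calc (u₀ * w * u₀⁻¹ * w⁻¹)⁻¹ = w * (u₀ * w⁻¹ * u₀⁻¹) := by group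
          _ = (u₀ * w⁻¹ * u₀⁻¹) * w := e1
          _ = u₀ * w⁻¹ * u₀⁻¹ * w⁻¹⁻¹ := by group }
  have hWmem : ∀ d : G, d ∈ W ↔ ∃ w ∈ R₀, d = u₀ * w * u₀⁻¹ * w⁻¹ := fun d => Iff.rfl
  have hWR₀ : W ≤ R₀ := by
    rintro d ⟨w, hw, rfl⟩
    exact R₀.mul_mem (hR₀conj u₀ hu₀T w hw) (R₀.inv_mem hw)
  have hWC : W ≤ C := hWR₀.trans hR₀C
  set K := T ⊓ C with hK
  have hcommK : ∀ a ∈ T, ∀ b ∈ T, a * b * a⁻¹ * b⁻¹ ∈ K := by
    intro a ha b hb
    refine ⟨T.mul_mem (T.mul_mem (T.mul_mem ha hb) (T.inv_mem ha)) (T.inv_mem hb), ?_⟩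
    show a * b * a⁻¹ * b⁻¹ ∈ Subgroup.centralizer ({z} : Set G)
    rw [Subgroup.mem_centralizer_singleton_iff]
    exact comm_commute_of_central z a b (hzc a ha) (hzc b hb)
  have hexpK : ∀ u ∈ T, u ^ t ∈ K := by
    intro u hu
    refine ⟨T.pow_mem hu t, ?_⟩
    show u ^ t ∈ Subgroup.centralizer ({z} : Set G)
    rw [Subgroup.mem_centralizer_singleton_iff]
    exact pow_commute_of_central z u t (hzc u hu) hzt
  apply relIndex_dvd_of_fpf T W ?_ ?_ ?_ K inf_le_left ?_ hcommK ?_ t hexpK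
  · -- W ≠ ⊥
    intro hbot
    have hd : u₀ * v * u₀⁻¹ * v⁻¹ ∈ W := ⟨v, hvR₀, rfl⟩
    rw [hbot, Subgroup.mem_bot] at hd
    have hcomm : u₀ * v = v * u₀ := by
      calc u₀ * v = (u₀ * v * u₀⁻¹ * v⁻¹) * v * u₀ := by group
        _ = v * u₀ := by rw [hd, one_mul]
    exact hu₀C (hCmax v hvC hvZ u₀ hcomm)
  · intro a ha b hb
    exact hCab a (hWC ha) b (hWC hb)
  · -- T normalizes W
    rintro a ha d ⟨w, hw, rfl⟩
    refine ⟨a * w * a⁻¹, hR₀conj a ha w hw, ?_⟩
    set w' := a * w * a⁻¹ with hw'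
    have hw'C : u₀ * w' * u₀⁻¹ ∈ C := hR₀C (hR₀conj u₀ hu₀T w' (hR₀conj a ha w hw))
    have hk : a * u₀ * a⁻¹ * u₀⁻¹ ∈ C := (hcommK a ha u₀ hu₀T).2
    have e1 : (a * u₀ * a⁻¹ * u₀⁻¹) * (u₀ * w' * u₀⁻¹) =
        (u₀ * w' * u₀⁻¹) * (a * u₀ * a⁻¹ * u₀⁻¹) := hCab _ hk _ hw'C
    calc a * (u₀ * w * u₀⁻¹ * w⁻¹) * a⁻¹
        = (a * u₀ * a⁻¹ * u₀⁻¹) * (u₀ * (a * w * a⁻¹) * u₀⁻¹) * (a * u₀ * a⁻¹ * u₀⁻¹)⁻¹ *
            (a * w * a⁻¹)⁻¹ := by group
      _ = (u₀ * w' * u₀⁻¹) * (a * u₀ * a⁻¹ * u₀⁻¹) * (a * u₀ * a⁻¹ * u₀⁻¹)⁻¹ * w'⁻¹ := by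
          rw [← hw', e1]
      _ = u₀ * w' * u₀⁻¹ * w'⁻¹ := by group
  · intro k hk w hw
    exact hCab k hk.2 w (hWC hw)
  · -- fpf
    intro a ha haK d hd had
    have haC : a ∉ C := fun h => haK ⟨ha, h⟩
    have hdC : d ∈ C := hWC hd
    have hdZ : d ∈ Subgroup.center G := by
      by_contra hdZ
      exact haC (hCmax d hdC hdZ a had)
    obtain ⟨w, hw, hdw⟩ := hd
    have hcc : CentralConj w u₀ d := ⟨hdZ, by rw [hdw]; group⟩
    have hcc' := hcc.pow t
    have hu₀t : u₀ ^ t ∈ C := (hexpK u₀ hu₀T).2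
    have e2 : u₀ ^ t * w = w * u₀ ^ t := hCab _ hu₀t _ (hR₀C hw)
    have e3 : u₀ ^ t * w * (u₀ ^ t)⁻¹ = w := by rw [e2]; group
    have hdt : d ^ t = 1 := by
      have := hcc'.2
      rw [e3] at this
      exact (mul_eq_right.mp this.symm)
    have hdm : d ^ m = 1 := (hWR₀ ⟨w, hw, hdw⟩).2
    have h1 : orderOf d ∣ t := orderOf_dvd_of_pow_eq_one hdt
    have h2 : orderOf d ∣ m := orderOf_dvd_of_pow_eq_one hdm
    have h3 : orderOf d = 1 := Nat.eq_one_of_dvd_coprimes hvt h2 h1
    exact orderOf_eq_one_iff.mp h3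

/-- the `q`-torsion part of an abelian subgroup -/
def qPart (C : Subgroup G) (hCab : ∀ a ∈ C, ∀ b ∈ C, a * b = b * a) (q : ℕ) : Subgroup G where
  carrier := {c | c ∈ C ∧ ∃ k : ℕ, c ^ (q ^ k) = 1}
  one_mem' := ⟨C.one_mem, 0, one_pow _⟩
  mul_mem' := by
    rintro a b ⟨ha, k, hk⟩ ⟨hb, l, hl⟩
    refine ⟨C.mul_mem ha hb, k + l, ?_⟩
    have hcomm : Commute a b := hCab a ha b hb
    rw [hcomm.mul_pow, pow_add, pow_mul, hk, one_pow, mul_comm (q ^ k), pow_mul, hl, one_pow,
      mul_one]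
  inv_mem' := by
    rintro a ⟨ha, k, hk⟩
    exact ⟨C.inv_mem ha, k, by rw [inv_pow, hk, inv_one]⟩

theorem mem_qPart (C : Subgroup G) (hCab : ∀ a ∈ C, ∀ b ∈ C, a * b = b * a) (q : ℕ) (c : G) :
    c ∈ qPart C hCab q ↔ c ∈ C ∧ ∃ k : ℕ, c ^ (q ^ k) = 1 := Iff.rfl

theorem isPGroup_qPart (C : Subgroup G) (hCab : ∀ a ∈ C, ∀ b ∈ C, a * b = b * a) (q : ℕ) :
    IsPGroup q (qPart C hCab q) := by
  rintro ⟨c, hc, k, hk⟩
  exact ⟨k, Subtype.ext hk⟩

theorem ncard_qPart_diff [Finite G] (C : Subgroup G) (hCab : ∀ a ∈ C, ∀ b ∈ C, a * b = b * a)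
    (q : ℕ) [Fact q.Prime] (hZC : Subgroup.center G ≤ C)
    (hfac : ((Subgroup.center G).relIndex C).factorization q = 1)
    (v : G) (hv : v ∈ qPart C hCab q) (hvZ : v ∉ Subgroup.center G) :
    ∃ b : ℕ, (((qPart C hCab q : Subgroup G) : Set G) \ (Subgroup.center G : Set G)).ncard =
      q ^ b * (q - 1) := by
  have hq : q.Prime := Fact.out
  set Cq := qPart C hCab q with hCq
  set Z := Subgroup.center G with hZ
  have hCqC : Cq ≤ C := fun c hc => hc.1
  have hCqp : IsPGroup q Cq := isPGroup_qPart C hCab q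
  set Zq := Cq ⊓ Z with hZq
  have hZqCq : Zq ≤ Cq := inf_le_left
  have hZqp : IsPGroup q Zq := hCqp.to_le hZqCq
  obtain ⟨a, ha⟩ := IsPGroup.iff_card.mp hCqp
  obtain ⟨b, hb⟩ := IsPGroup.iff_card.mp hZqp
  have hmul : Nat.card Zq * Zq.relIndex Cq = Nat.card Cq := by
    have := Subgroup.relIndex_mul_relIndex ⊥ Zq Cq bot_le hZqCq
    rwa [Subgroup.relIndex_bot_left, Subgroup.relIndex_bot_left] at this
  have hrel1 : Zq.relIndex Cq = Z.relIndex Cq := by
    rw [hZq, Subgroup.inf_relIndex_left]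
  have hrel2 : Z.relIndex Cq ∣ Z.relIndex C := by
    rw [← Subgroup.relIndex_sup_right (H := Cq) (K := Z)]
    have h1 : Z ≤ Cq ⊔ Z := le_sup_right
    have h2 : Cq ⊔ Z ≤ C := sup_le hCqC hZC
    exact Dvd.intro _ (Subgroup.relIndex_mul_relIndex Z (Cq ⊔ Z) C h1 h2)
  have hrel3 : Z.relIndex Cq ∣ q ^ a := by
    rw [← ha, ← hrel1]; exact Dvd.intro_left _ hmul
  obtain ⟨d, hda, hd⟩ := (Nat.dvd_prime_pow hq).mp hrel3
  have hm0 : Z.relIndex C ≠ 0 := by
    intro h0; rw [h0] at hfac; simp at hfac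
  have hd1 : d ≤ 1 := by
    rw [← hfac]
    apply (hq.pow_dvd_iff_le_factorization hm0).mp
    rw [← hd]; exact hrel2
  have hd0 : d ≠ 0 := by
    rintro rfl
    rw [pow_zero, Subgroup.relIndex_eq_one] at hd
    exact hvZ (hd hv)
  have hd' : d = 1 := by omega
  rw [hd', pow_one] at hd
  rw [hrel1, hd, hb] at hmul
  refine ⟨b, ?_⟩
  have hset : ((Cq : Set G) \ (Z : Set G)) = (Cq : Set G) \ (Zq : Set G) := by
    ext g
    simp only [Set.mem_sdiff, SetLike.mem_coe, hZq, Subgroup.mem_inf]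
    tauto
  rw [hset, Set.ncard_sdiff (by exact_mod_cast hZqCq) (Set.toFinite _)]
  have e1 : ((Cq : Set G)).ncard = Nat.card Cq := by rw [← Nat.card_coe_set_eq]; rfl
  have e2 : ((Zq : Set G)).ncard = Nat.card Zq := by rw [← Nat.card_coe_set_eq]; rfl
  rw [e1, e2, ← hmul, hb, Nat.mul_sub, mul_one]

theorem prime_dvd_ncard_of_fpf [Finite G] (S : Set G) (u : G) (p : ℕ) [Fact p.Prime]
    (hmap : ∀ s ∈ S, u * s * u⁻¹ ∈ S) (hpow : ∀ s ∈ S, u ^ p * s = s * u ^ p)
    (hfpf : ∀ s ∈ S, u * s * u⁻¹ ≠ s) : p ∣ S.ncard := by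
  classical
  letI : Fintype S := Fintype.ofFinite S
  let f : Function.End S := fun s => ⟨u * s.1 * u⁻¹, hmap s.1 s.2⟩
  have hiter : ∀ (k : ℕ) (s : S), ((f ^ k) s).1 = u ^ k * s.1 * (u ^ k)⁻¹ := by
    intro k
    induction k with
    | zero =>
      intro s
      rw [pow_zero, pow_zero, inv_one, mul_one, one_mul]
      rfl
    | succ k ih =>
      intro s
      have e : (f ^ (k + 1)) s = (f ^ k) (f s) := by
        rw [pow_succ]; rfl
      rw [e, ih]
      show u ^ k * (u * s.1 * u⁻¹) * (u ^ k)⁻¹ = _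
      rw [pow_succ]; group
  have hf : f ^ p ^ 1 = 1 := by
    rw [pow_one]
    funext s
    apply Subtype.ext
    rw [hiter, hpow s.1 s.2]
    show s.1 * u ^ p * (u ^ p)⁻¹ = s.1
    group
  have hmod := Equiv.Perm.card_fixedPoints_modEq hf
  have hfix : Fintype.card (Function.fixedPoints f) = 0 := by
    rw [Fintype.card_eq_zero_iff]
    constructor
    rintro ⟨s, hs⟩
    exact hfpf s.1 s.2 (congrArg Subtype.val hs)
  rw [hfix] at hmod
  have : p ∣ Fintype.card S := (Nat.modEq_zero_iff_dvd).mp hmod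
  rwa [← Nat.card_eq_fintype_card, Nat.card_coe_set_eq] at this

section two
variable [Finite G] (n : ℕ) (hn : 1 < n)
  (h : ∀ x : G, (Subgroup.centralizer ({x} : Set G)).index = 1 ∨
    (Subgroup.centralizer ({x} : Set G)).index = n)
include hn h

theorem idx_of_not_mem {x : G} (hx : x ∉ Subgroup.center G) :
    (Subgroup.centralizer ({x} : Set G)).index = n := by
  rcases h x with h1 | h1
  · exact absurd ((idx_eq_one_iff x).mp h1) hx
  · exact h1

/-- L1 -/
theorem eq_of_le {x y : G} (hx : x ∉ Subgroup.center G) (hy : y ∉ Subgroup.center G)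
    (hle : Subgroup.centralizer ({x} : Set G) ≤ Subgroup.centralizer ({y} : Set G)) :
    Subgroup.centralizer ({x} : Set G) = Subgroup.centralizer ({y} : Set G) := by
  have h1 := Subgroup.relIndex_mul_index hle
  rw [idx_of_not_mem n hn h hx, idx_of_not_mem n hn h hy] at h1
  have h2 : (Subgroup.centralizer ({x} : Set G)).relIndex (Subgroup.centralizer ({y} : Set G)) = 1 := by
    have hn0 : 0 < n := by omega
    exact Nat.eq_of_mul_eq_mul_right hn0 (by rw [h1, one_mul])
  exact le_antisymm hle (Subgroup.relIndex_eq_one.mp h2)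

/-- L2 -/
theorem le_of_coprime {x : G} (hx : x ∉ Subgroup.center G) (s k : ℕ)
    (hxo : orderOf x = s ^ k) (y : G) (hxy : Commute x y) (hy : (orderOf y).Coprime s) :
    Subgroup.centralizer ({x} : Set G) ≤ Subgroup.centralizer ({y} : Set G) := by
  have hcop : (orderOf x).Coprime (orderOf y) := by
    rw [hxo]; exact (Nat.Coprime.pow_right k hy).symm
  have hc := Cfsg.Agent.S4127.centralizer_mul_of_coprime x y hxy hcop
  have hxy' : x * y ∉ Subgroup.center G := by
    intro hmem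
    have : Subgroup.centralizer ({x * y} : Set G) = ⊤ := by
      rw [Subgroup.centralizer_eq_top_iff_subset, Set.singleton_subset_iff]; exact hmem
    rw [hc] at this
    have h2 : Subgroup.centralizer ({x} : Set G) = ⊤ := by
      rw [eq_top_iff, ← this]; exact inf_le_left
    rw [Subgroup.centralizer_eq_top_iff_subset, Set.singleton_subset_iff] at h2
    exact hx h2
  have hle : Subgroup.centralizer ({x * y} : Set G) ≤ Subgroup.centralizer ({x} : Set G) := by
    rw [hc]; exact inf_le_left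
  have heq := eq_of_le n hn h hxy' hx hle
  rw [hc] at heq
  rw [← heq]; exact inf_le_right

/-- L3 -/
theorem abelian_of_bad {x y : G} (hx : x ∉ Subgroup.center G) (hy : y ∉ Subgroup.center G)
    (s q k j : ℕ) (hs : s.Prime) (hq : q.Prime) (hsq : s ≠ q)
    (hxo : orderOf x = s ^ k) (hyo : orderOf y = q ^ j) (hxy : Commute x y) :
    Subgroup.centralizer ({x} : Set G) = Subgroup.centralizer ({y} : Set G) ∧
      ∀ a ∈ Subgroup.centralizer ({x} : Set G), ∀ b ∈ Subgroup.centralizer ({x} : Set G),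
        a * b = b * a := by
  have hcop : (q ^ j).Coprime s := Nat.Coprime.pow_left j ((Nat.coprime_primes hq hs).mpr hsq.symm)
  have hcop' : (s ^ k).Coprime q := Nat.Coprime.pow_left k ((Nat.coprime_primes hs hq).mpr hsq)
  have h1 := le_of_coprime n hn h hx s k hxo y hxy (by rw [hyo]; exact hcop)
  have h2 := le_of_coprime n hn h hy q j hyo x hxy.symm (by rw [hxo]; exact hcop')
  have heq := le_antisymm h1 h2
  refine ⟨heq, ?_⟩
  intro a ha b hb
  -- a ∈ center of C
  have key : ∀ c ∈ Subgroup.centralizer ({x} : Set G),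
      Subgroup.centralizer ({x} : Set G) ≤ Subgroup.centralizer ({c} : Set G) := by
    intro c hc
    have hmem : c ∈ Subgroup.centralizer ((Subgroup.centralizer ({x} : Set G) : Subgroup G) : Set G) := by
      apply mem_of_primary_pow_mem
      intro r i z hr hz hzo
      have hzC : z ∈ Subgroup.centralizer ({x} : Set G) :=
        (Subgroup.zpowers_le.mpr hc) hz
      have hzx : Commute x z := (Subgroup.mem_centralizer_singleton_iff.mp hzC).symm
      rw [Subgroup.mem_centralizer_iff]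
      by_cases hrs : r = s
      · -- r ≠ q
        have hrq : r ≠ q := by rw [hrs]; exact hsq
        have hzy : Commute y z := by
          rw [heq] at hzC
          exact (Subgroup.mem_centralizer_singleton_iff.mp hzC).symm
        have hcz : (orderOf z).Coprime q := by
          rw [hzo]; exact Nat.Coprime.pow_left i ((Nat.coprime_primes hr hq).mpr hrq)
        have := le_of_coprime n hn h hy q j hyo z hzy hcz
        intro u hu
        rw [heq] at hu
        exact Subgroup.mem_centralizer_singleton_iff.mp (this hu)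
      · have hcz : (orderOf z).Coprime s := by
          rw [hzo]; exact Nat.Coprime.pow_left i ((Nat.coprime_primes hr hs).mpr hrs)
        have := le_of_coprime n hn h hx s k hxo z hzx hcz
        intro u hu
        exact Subgroup.mem_centralizer_singleton_iff.mp (this hu)
    intro u hu
    rw [Subgroup.mem_centralizer_singleton_iff]
    exact (Subgroup.mem_centralizer_iff.mp hmem) u hu
  exact (Subgroup.mem_centralizer_singleton_iff.mp (key a ha hb)).symm

theorem center_le_centralizer (x : G) :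
    Subgroup.center G ≤ Subgroup.centralizer ({x} : Set G) := Subgroup.center_le_centralizer _

/-- A1: a noncentral `p`-element `x` whose centralizer contains no noncentral primary `p'`-element
has `|C(x) : Z|` a nontrivial power of `p`. -/
theorem relIndex_pow_of_no_partner (p : ℕ) [Fact p.Prime] {x : G} (hx : x ∉ Subgroup.center G)
    (hpart : ∀ (q j : ℕ) (y : G), q.Prime → q ≠ p → orderOf y = q ^ j → Commute x y →
      y ∈ Subgroup.center G) :
    ∃ i : ℕ, 1 ≤ i ∧
      (Subgroup.center G).relIndex (Subgroup.centralizer ({x} : Set G)) = p ^ i := by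
  have hp : p.Prime := Fact.out
  set C := Subgroup.centralizer ({x} : Set G) with hC
  have hZC : Subgroup.center G ≤ C := Subgroup.center_le_centralizer _
  haveI : ((Subgroup.center G).subgroupOf C).Normal := inferInstance
  have hpg : IsPGroup p (C ⧸ (Subgroup.center G).subgroupOf C) := by
    intro cq
    obtain ⟨c, rfl⟩ := QuotientGroup.mk_surjective cq
    obtain ⟨k', m, hm, hkm⟩ := Nat.exists_eq_pow_mul_and_not_dvd (orderOf_pos (c : G)).ne' p
      hp.ne_one
    refine ⟨k', ?_⟩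
    rw [← QuotientGroup.mk_pow, QuotientGroup.eq_one_iff, Subgroup.mem_subgroupOf]
    rw [Subgroup.coe_pow]
    have hord : ((c : G) ^ p ^ k') ^ m = 1 := by
      rw [← pow_mul, ← hkm, pow_orderOf_eq_one]
    apply mem_of_primary_pow_mem
    intro q j z hq hz hzo
    have hzC : z ∈ C := by
      have : (c : G) ^ p ^ k' ∈ C := C.pow_mem c.2 _
      exact (Subgroup.zpowers_le.mpr this) hz
    have hzx : Commute x z := (Subgroup.mem_centralizer_singleton_iff.mp hzC).symm
    by_cases hqp : q = p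
    · -- then j = 0
      have hdvd : orderOf z ∣ m :=
        (orderOf_dvd_of_mem_zpowers hz).trans (orderOf_dvd_of_pow_eq_one hord)
      have hj0 : j = 0 := by
        by_contra hne
        have : p ∣ m := by
          refine dvd_trans ?_ hdvd
          rw [hzo, hqp]; exact dvd_pow_self p hne
        exact hm this
      rw [hj0, pow_zero, orderOf_eq_one_iff] at hzo
      rw [hzo]; exact Subgroup.one_mem _
    · exact hpart q j z hq hqp hzo hzx
  obtain ⟨i, hi⟩ := IsPGroup.iff_card.mp hpg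
  have hidx : (Subgroup.center G).relIndex C = p ^ i := by
    rw [← hi]; rfl
  refine ⟨i, ?_, hidx⟩
  by_contra hi0
  have : i = 0 := by omega
  rw [this, pow_zero, Subgroup.relIndex_eq_one] at hidx
  exact hx (hidx (Subgroup.mem_centralizer_singleton_iff.mpr rfl))

/-- A2 -/
theorem relIndex_mul_n {x : G} (hx : x ∉ Subgroup.center G) :
    (Subgroup.center G).relIndex (Subgroup.centralizer ({x} : Set G)) * n =
      (Subgroup.center G).index := by
  have := Subgroup.relIndex_mul_index (Subgroup.center_le_centralizer ({x} : Set G))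
  rwa [idx_of_not_mem n hn h hx] at this

theorem exists_noncentral_primary (hex : ∃ x : G, (Subgroup.centralizer ({x} : Set G)).index = n) :
    ∃ (x : G) (p k : ℕ), p.Prime ∧ orderOf x = p ^ k ∧ x ∉ Subgroup.center G := by
  by_contra hcon
  push_neg at hcon
  have htop : Subgroup.center G = ⊤ := by
    apply Cfsg.Agent.S3986.eq_top_of_forall_primePow_mem
    intro q k g hq hg
    exact hcon g q k hq hg
  obtain ⟨x, hx⟩ := hex
  have : (Subgroup.centralizer ({x} : Set G)).index = 1 := by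
    rw [idx_eq_one_iff, htop]; exact Subgroup.mem_top _
  omega

theorem star_of_not_bad (hex : ∃ x : G, (Subgroup.centralizer ({x} : Set G)).index = n)
    (hnb : ¬ Bad G) :
    ∃ p : ℕ, p.Prime ∧ ∀ (q j : ℕ) (y : G), q.Prime → q ≠ p → orderOf y = q ^ j →
      y ∈ Subgroup.center G := by
  obtain ⟨x, p, k, hp, hxo, hx⟩ := exists_noncentral_primary n hn h hex
  refine ⟨p, hp, ?_⟩
  intro q j y hq hqp hyo
  by_contra hy
  haveI : Fact p.Prime := ⟨hp⟩
  haveI : Fact q.Prime := ⟨hq⟩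
  have hn0 : 0 < n := by omega
  obtain ⟨i, hi1, hi⟩ := relIndex_pow_of_no_partner n hn h p hx (by
    intro r l z hr hrp hzo hxz
    by_contra hz
    exact hnb ⟨x, z, p, r, k, l, hp, hr, hrp.symm, hxo, hzo, hx, hz, hxz⟩)
  obtain ⟨i', hi1', hi'⟩ := relIndex_pow_of_no_partner n hn h q hy (by
    intro r l z hr hrq hzo hyz
    by_contra hz
    exact hnb ⟨y, z, q, r, j, l, hq, hr, hrq.symm, hyo, hzo, hy, hz, hyz⟩)
  have e1 := relIndex_mul_n n hn h hx
  have e2 := relIndex_mul_n n hn h hy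
  rw [hi] at e1
  rw [hi'] at e2
  have e3 : p ^ i = q ^ i' := Nat.eq_of_mul_eq_mul_right hn0 (e1.trans e2.symm)
  have h1 : p ∣ q ^ i' := by rw [← e3]; exact dvd_pow_self p (by omega)
  have h2 : p ∣ q := hp.dvd_of_dvd_pow h1
  exact hqp ((Nat.prime_dvd_prime_iff_eq hp hq).mp h2).symm

omit hn h in
/-- E1 -/
theorem pprime_central (p : ℕ) [Fact p.Prime]
    (hstar : ∀ (q j : ℕ) (y : G), q.Prime → q ≠ p → orderOf y = q ^ j → y ∈ Subgroup.center G)
    (g : G) (hg : (orderOf g).Coprime p) : g ∈ Subgroup.center G := by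
  have hp : p.Prime := Fact.out
  apply mem_of_primary_pow_mem
  intro q j z hq hz hzo
  by_cases hqp : q = p
  · have hdvd : orderOf z ∣ orderOf g := orderOf_dvd_of_mem_zpowers hz
    have hj0 : j = 0 := by
      by_contra hne
      have : p ∣ orderOf g := by
        refine dvd_trans ?_ hdvd
        rw [hzo, hqp]; exact dvd_pow_self p hne
      have h1 := Nat.Coprime.eq_one_of_dvd hg.symm this
      exact hp.one_lt.ne' h1
    rw [hj0, pow_zero, orderOf_eq_one_iff] at hzo
    rw [hzo]; exact Subgroup.one_mem _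
  · exact hstar q j z hq hqp hzo

omit hn h in
/-- E2 -/
theorem isPGroup_quotient_center (p : ℕ) [Fact p.Prime]
    (hstar : ∀ (q j : ℕ) (y : G), q.Prime → q ≠ p → orderOf y = q ^ j → y ∈ Subgroup.center G) :
    IsPGroup p (G ⧸ Subgroup.center G) := by
  have hp : p.Prime := Fact.out
  intro gq
  obtain ⟨g, rfl⟩ := QuotientGroup.mk_surjective gq
  obtain ⟨k', m, hm, hkm⟩ := Nat.exists_eq_pow_mul_and_not_dvd (orderOf_pos g).ne' p hp.ne_one
  refine ⟨k', ?_⟩
  rw [← QuotientGroup.mk_pow, QuotientGroup.eq_one_iff]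
  apply pprime_central p hstar
  have hord : (g ^ p ^ k') ^ m = 1 := by rw [← pow_mul, ← hkm, pow_orderOf_eq_one]
  have h2 : orderOf (g ^ p ^ k') ∣ m := orderOf_dvd_of_pow_eq_one hord
  exact Nat.Coprime.coprime_dvd_left h2 ((Nat.Prime.coprime_iff_not_dvd hp).mpr hm).symm

/-- Part II: an abelian normal subgroup containing all `p`-th powers -/
theorem exists_abelian_normal (p : ℕ) [Fact p.Prime] (g₀ : G) (hg₀ : g₀ ∉ Subgroup.center G)
    (hg₀c : ∀ u : G, g₀ * u * g₀⁻¹ * u⁻¹ ∈ Subgroup.center G)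
    (hg₀p : g₀ ^ p ∈ Subgroup.center G) :
    ∃ A : Subgroup G, A.Normal ∧ (∀ a ∈ A, ∀ b ∈ A, a * b = b * a) ∧ ∀ u : G, u ^ p ∈ A := by
  set K := Subgroup.centralizer ({g₀} : Set G) with hK
  have hcenter : ∀ z ∈ Subgroup.center G, ∀ u : G, z * u = u * z := fun z hz u =>
    ((Subgroup.mem_center_iff.mp hz) u).symm
  -- K is normal
  have hKconj : ∀ t : G, ∀ u ∈ K, t * u * t⁻¹ ∈ K := by
    intro t u hu
    rw [hK, Subgroup.mem_centralizer_singleton_iff] at hu ⊢
    -- t⁻¹ g₀ t = ζ g₀ with ζ central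
    set ζ := g₀ * t * g₀⁻¹ * t⁻¹ with hζ
    have hζc := hg₀c t
    have e1 : g₀ * t = ζ * t * g₀ := by rw [hζ]; group
    have hζu : ∀ v : G, ζ * v = v * ζ := hcenter ζ hζc
    -- goal: t u t⁻¹ g₀ = g₀ t u t⁻¹
    have e2 : t⁻¹ * g₀ = g₀ * t⁻¹ * ζ := by
      have : g₀ * t⁻¹ * ζ = g₀ * t⁻¹ * (g₀ * t * g₀⁻¹ * t⁻¹) := by rw [hζ]
      have h3 : t⁻¹ * ζ = ζ * t⁻¹ := (hζu t⁻¹).symm
      calc t⁻¹ * g₀ = t⁻¹ * (g₀ * t) * t⁻¹ := by group
        _ = t⁻¹ * (ζ * t * g₀) * t⁻¹ := by rw [e1]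
        _ = (t⁻¹ * ζ) * t * g₀ * t⁻¹ := by group
        _ = (ζ * t⁻¹) * t * g₀ * t⁻¹ := by rw [h3]
        _ = ζ * (g₀ * t⁻¹) := by group
        _ = g₀ * t⁻¹ * ζ := hζu _
    calc t * u * t⁻¹ * g₀ = t * u * (t⁻¹ * g₀) := by group
      _ = t * u * (g₀ * t⁻¹ * ζ) := by rw [e2]
      _ = t * (u * g₀) * t⁻¹ * ζ := by group
      _ = t * (g₀ * u) * t⁻¹ * ζ := by rw [hu]
      _ = ζ * (t * g₀ * u * t⁻¹) := by rw [hζu]; group
      _ = (ζ * t * g₀) * u * t⁻¹ := by group
      _ = g₀ * t * u * t⁻¹ := by rw [← e1]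
      _ = g₀ * (t * u * t⁻¹) := by group
  set A := K ⊓ Subgroup.centralizer (K : Set G) with hA
  have hAn : A.Normal := by
    constructor
    intro a ha t
    rw [hA, Subgroup.mem_inf] at ha ⊢
    refine ⟨hKconj t a ha.1, ?_⟩
    rw [Subgroup.mem_centralizer_iff]
    intro v hv
    have hv' : t⁻¹ * v * t⁻¹⁻¹ ∈ K := hKconj t⁻¹ v hv
    rw [inv_inv] at hv'
    have := (Subgroup.mem_centralizer_iff.mp ha.2) _ hv'
    calc v * (t * a * t⁻¹) = t * ((t⁻¹ * v * t) * a) * t⁻¹ := by group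
      _ = t * (a * (t⁻¹ * v * t)) * t⁻¹ := by rw [this]
      _ = t * a * t⁻¹ * v := by group
  refine ⟨A, hAn, ?_, ?_⟩
  · intro a ha b hb
    rw [hA, Subgroup.mem_inf] at ha hb
    exact ((Subgroup.mem_centralizer_iff.mp hb.2) a ha.1)
  · intro u
    by_cases hup : u ^ p ∈ Subgroup.center G
    · rw [hA, Subgroup.mem_inf]
      refine ⟨?_, ?_⟩
      · rw [hK, Subgroup.mem_centralizer_singleton_iff]; exact hcenter _ hup g₀
      · rw [Subgroup.mem_centralizer_iff]; intro v _; exact (hcenter _ hup v).symm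
    · -- u ^ p ∉ Z
      have hu : u ∉ Subgroup.center G := fun hu => hup (Subgroup.pow_mem _ hu p)
      have hCle : Subgroup.centralizer ({u} : Set G) ≤ Subgroup.centralizer ({u ^ p} : Set G) := by
        intro c hc
        rw [Subgroup.mem_centralizer_singleton_iff] at hc ⊢
        exact ((show Commute c u from hc).pow_right p).eq
      have hCeq := eq_of_le n hn h hu hup hCle
      -- ζ = [g₀,u], ζ^p = 1
      set ζ := g₀ * u * g₀⁻¹ * u⁻¹ with hζ
      have hζc := hg₀c u
      have hζv : ∀ v : G, ζ * v = v * ζ := hcenter ζ hζc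
      have hconj : g₀ * u * g₀⁻¹ = ζ * u := by rw [hζ]; group
      have hpow1 : ∀ i : ℕ, g₀ ^ i * u * (g₀ ^ i)⁻¹ = ζ ^ i * u := by
        intro i
        induction i with
        | zero => simp
        | succ i ih =>
          calc g₀ ^ (i + 1) * u * (g₀ ^ (i + 1))⁻¹ = g₀ * (g₀ ^ i * u * (g₀ ^ i)⁻¹) * g₀⁻¹ := by
                rw [pow_succ']; group
            _ = g₀ * (ζ ^ i * u) * g₀⁻¹ := by rw [ih]
            _ = (g₀ * ζ ^ i) * u * g₀⁻¹ := by group
            _ = (ζ ^ i * g₀) * u * g₀⁻¹ := by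
                rw [((show Commute ζ g₀ from hζv g₀).pow_left i).eq]
            _ = ζ ^ i * (g₀ * u * g₀⁻¹) := by group
            _ = ζ ^ i * (ζ * u) := by rw [hconj]
            _ = ζ ^ (i + 1) * u := by rw [pow_succ]; group
      have hζp : ζ ^ p = 1 := by
        have h1 := hpow1 p
        have h2 : g₀ ^ p * u * (g₀ ^ p)⁻¹ = u := by
          rw [hcenter _ hg₀p u]; group
        rw [h2] at h1
        exact (mul_eq_right.mp h1.symm)
      -- g₀ commutes with u^p
      have hg₀up : g₀ * u ^ p * g₀⁻¹ = u ^ p := by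
        have : g₀ * u ^ p * g₀⁻¹ = (g₀ * u * g₀⁻¹) ^ p := (conj_pow).symm
        rw [this, hconj, ((show Commute ζ u from hζv u)).mul_pow, hζp, one_mul]
      have hg₀mem : g₀ ∈ Subgroup.centralizer ({u ^ p} : Set G) := by
        rw [Subgroup.mem_centralizer_singleton_iff]
        calc g₀ * u ^ p = (g₀ * u ^ p * g₀⁻¹) * g₀ := by group
          _ = u ^ p * g₀ := by rw [hg₀up]
      rw [← hCeq, Subgroup.mem_centralizer_singleton_iff] at hg₀mem
      have hcomm : Commute g₀ u := hg₀mem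
      -- C(g₀ u) ≤ C(u)
      have hpw : (g₀ * u) ^ p = g₀ ^ p * u ^ p := hcomm.mul_pow p
      have hle2 : Subgroup.centralizer ({g₀ * u} : Set G) ≤ Subgroup.centralizer ({u} : Set G) := by
        rw [hCeq]
        intro c hc
        rw [Subgroup.mem_centralizer_singleton_iff] at hc ⊢
        have h1 : c * (g₀ * u) ^ p = (g₀ * u) ^ p * c :=
          ((show Commute c (g₀ * u) from hc).pow_right p).eq
        rw [hpw] at h1
        have h2 : c * g₀ ^ p = g₀ ^ p * c := (hcenter _ hg₀p c).symm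
        calc c * u ^ p = (g₀ ^ p)⁻¹ * (g₀ ^ p * c) * u ^ p := by group
          _ = (g₀ ^ p)⁻¹ * (c * g₀ ^ p) * u ^ p := by rw [h2]
          _ = (g₀ ^ p)⁻¹ * (c * (g₀ ^ p * u ^ p)) := by group
          _ = (g₀ ^ p)⁻¹ * (g₀ ^ p * u ^ p * c) := by rw [h1]
          _ = u ^ p * c := by group
      have hg₀u : g₀ * u ∉ Subgroup.center G := by
        intro hmem
        have : Subgroup.centralizer ({g₀ * u} : Set G) = ⊤ := by
          rw [Subgroup.centralizer_eq_top_iff_subset, Set.singleton_subset_iff]; exact hmem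
        rw [this, top_le_iff, Subgroup.centralizer_eq_top_iff_subset,
          Set.singleton_subset_iff] at hle2
        exact hu hle2
      have heq2 := eq_of_le n hn h hg₀u hu hle2
      -- C(u) ≤ K
      have hle3 : Subgroup.centralizer ({u} : Set G) ≤ K := by
        intro c hc
        have hc2 : c ∈ Subgroup.centralizer ({g₀ * u} : Set G) := by rw [heq2]; exact hc
        rw [Subgroup.mem_centralizer_singleton_iff] at hc hc2 ⊢
        calc c * g₀ = c * (g₀ * u) * u⁻¹ := by group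
          _ = g₀ * u * c * u⁻¹ := by rw [hc2]
          _ = g₀ * (u * c) * u⁻¹ := by group
          _ = g₀ * (c * u) * u⁻¹ := by rw [hc]
          _ = g₀ * c := by group
      have heq3 := eq_of_le n hn h hu hg₀ hle3
      have huA : u ∈ A := by
        rw [hA, Subgroup.mem_inf]
        refine ⟨?_, ?_⟩
        · rw [hK, Subgroup.mem_centralizer_singleton_iff]; exact hcomm.symm.eq
        · rw [Subgroup.mem_centralizer_iff]
          intro v hv
          have hv' : v ∈ Subgroup.centralizer ({u} : Set G) := by rw [heq3]; exact hv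
          exact Subgroup.mem_centralizer_singleton_iff.mp hv' 
      exact A.pow_mem huA p

theorem endgame (hex : ∃ x : G, (Subgroup.centralizer ({x} : Set G)).index = n)
    (p : ℕ) [hpf : Fact p.Prime]
    (hstar : ∀ (q j : ℕ) (y : G), q.Prime → q ≠ p → orderOf y = q ^ j → y ∈ Subgroup.center G) :
    ∃ a : ℕ, n = p ^ a ∧ ∀ P : Sylow p G, (P : Subgroup G).Normal ∧
      (∃ N : Subgroup G, N.Normal ∧ N.IsComplement' (P : Subgroup G) ∧ IsMulCommutative N ∧
        ∀ x ∈ N, ∀ y ∈ (P : Subgroup G), x * y = y * x) ∧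
      ∃ A : Subgroup (P : Subgroup G), A.Normal ∧ IsMulCommutative A ∧
        ∀ y : (P : Subgroup G), y ^ p ∈ A := by
  have hp : p.Prime := Fact.out
  have hpg := isPGroup_quotient_center p hstar
  haveI hnilq : Group.IsNilpotent (G ⧸ Subgroup.center G) := hpg.isNilpotent
  haveI hnil : Group.IsNilpotent G := Group.of_quotient_center_nilpotent hnilq
  obtain ⟨x₀, hx₀⟩ := hex
  have hx₀Z : x₀ ∉ Subgroup.center G := by
    intro hmem
    have := (idx_eq_one_iff x₀).mpr hmem
    omega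
  -- complement data for each Sylow
  have hcompl : ∀ P : Sylow p G, (P : Subgroup G).Normal ∧
      ∃ N : Subgroup G, N ≤ Subgroup.center G ∧ N.IsComplement' (P : Subgroup G) := by
    intro P
    haveI hPn : (P : Subgroup G).Normal := inferInstance
    refine ⟨hPn, ?_⟩
    obtain ⟨H, hH⟩ := Subgroup.exists_right_complement'_of_coprime
      (N := (P : Subgroup G)) P.card_coprime_index
    refine ⟨H, ?_, hH.symm⟩
    intro g hg
    apply pprime_central p hstar
    have hcard : Nat.card H = (P : Subgroup G).index := by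
      have := hH.symm.index_eq_card
      exact this.symm
    have hdvd : orderOf g ∣ Nat.card H := by
      have := orderOf_dvd_natCard (⟨g, hg⟩ : H)
      rwa [Subgroup.orderOf_mk] at this
    rw [hcard] at hdvd
    apply Nat.Coprime.coprime_dvd_left hdvd
    rw [Nat.coprime_comm, hp.coprime_iff_not_dvd]
    exact P.not_dvd_index
  -- n is a power of p
  obtain ⟨P₀⟩ : Nonempty (Sylow p G) := inferInstance
  obtain ⟨_, N₀, hN₀Z, hN₀c⟩ := hcompl P₀
  have hn_pow : ∃ a : ℕ, n = p ^ a := by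
    have hle : N₀ ≤ Subgroup.centralizer ({x₀} : Set G) :=
      hN₀Z.trans (Subgroup.center_le_centralizer _)
    have hdvd : (Subgroup.centralizer ({x₀} : Set G)).index ∣ N₀.index :=
      Subgroup.index_dvd_of_le hle
    have hidx : N₀.index = Nat.card (P₀ : Subgroup G) := by
      have := hN₀c.symm.index_eq_card
      exact this
    obtain ⟨e, he⟩ := IsPGroup.iff_card.mp P₀.isPGroup'
    rw [hx₀, hidx, he] at hdvd
    obtain ⟨a, _, ha⟩ := (Nat.dvd_prime_pow hp).mp hdvd
    exact ⟨a, ha⟩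
  obtain ⟨a, ha⟩ := hn_pow
  -- g₀
  have hnt : Nontrivial (G ⧸ Subgroup.center G) := by
    rw [← not_subsingleton_iff_nontrivial]
    intro hsub
    apply hx₀Z
    rw [← QuotientGroup.eq_one_iff]
    exact Subsingleton.elim _ _
  have hcnt : Nontrivial (Subgroup.center (G ⧸ Subgroup.center G)) := hpg.center_nontrivial
  have hdvdc : p ∣ Nat.card (Subgroup.center (G ⧸ Subgroup.center G)) := by
    obtain ⟨e, he⟩ := IsPGroup.iff_card.mp (hpg.to_subgroup (Subgroup.center (G ⧸ Subgroup.center G)))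
    rw [he]
    have : e ≠ 0 := by
      rintro rfl
      rw [pow_zero] at he
      have := (Nat.card_eq_one_iff_unique.mp he).1
      exact not_subsingleton _ this
    exact dvd_pow_self p this
  obtain ⟨c, hc⟩ := exists_prime_orderOf_dvd_card' p hdvdc
  obtain ⟨g₀, hg₀⟩ := QuotientGroup.mk_surjective (c : G ⧸ Subgroup.center G)
  have hcne : c ≠ 1 := by
    intro h1
    rw [h1, orderOf_one] at hc
    exact hp.one_lt.ne hc
  have hg₀Z : g₀ ∉ Subgroup.center G := by
    intro hmem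
    apply hcne
    apply Subtype.ext
    rw [← hg₀]
    exact (QuotientGroup.eq_one_iff g₀).mpr hmem
  have hg₀c : ∀ u : G, g₀ * u * g₀⁻¹ * u⁻¹ ∈ Subgroup.center G := by
    intro u
    rw [← QuotientGroup.eq_one_iff]
    have hcc := c.2
    rw [Subgroup.mem_center_iff] at hcc
    have := hcc (u : G ⧸ Subgroup.center G)
    rw [← hg₀] at this
    simp only [QuotientGroup.mk_mul, QuotientGroup.mk_inv]
    rw [← this]; group
  have hg₀p : g₀ ^ p ∈ Subgroup.center G := by
    rw [← QuotientGroup.eq_one_iff, QuotientGroup.mk_pow, hg₀]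
    have : c ^ p = 1 := by rw [← hc]; exact pow_orderOf_eq_one c
    have := congrArg Subtype.val this
    simpa using this
  obtain ⟨A, hAn, hAc, hAp⟩ := exists_abelian_normal n hn h p g₀ hg₀Z hg₀c hg₀p
  refine ⟨a, ha, ?_⟩
  intro P
  obtain ⟨hPn, N, hNZ, hNc⟩ := hcompl P
  refine ⟨hPn, ⟨N, ?_, hNc, ?_, ?_⟩, ?_⟩
  · constructor
    intro x hx g
    have := (Subgroup.mem_center_iff.mp (hNZ hx)) g
    have e : g * x * g⁻¹ = x := by rw [this]; group
    rw [e]; exact hx
  · refine ⟨⟨?_⟩⟩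
    rintro ⟨x, hx⟩ ⟨y, hy⟩
    apply Subtype.ext
    exact ((Subgroup.mem_center_iff.mp (hNZ hx)) y).symm
  · intro x hx y _
    exact ((Subgroup.mem_center_iff.mp (hNZ hx)) y).symm
  · refine ⟨A.subgroupOf (P : Subgroup G), ?_, ?_, ?_⟩
    · exact hAn.subgroupOf _
    · refine ⟨⟨?_⟩⟩
      rintro ⟨x, hx⟩ ⟨y, hy⟩
      apply Subtype.ext
      apply Subtype.ext
      exact hAc _ hx _ hy
    · intro y
      rw [Subgroup.mem_subgroupOf, Subgroup.coe_pow]
      exact hAp _

/-- B1 -/
theorem exists_partner (hbad : Bad G) {u : G} (hu : u ∉ Subgroup.center G) (t k : ℕ)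
    (ht : t.Prime) (huo : orderOf u = t ^ k) :
    ∃ (r j : ℕ) (v : G), r.Prime ∧ r ≠ t ∧ orderOf v = r ^ j ∧ v ∉ Subgroup.center G ∧
      Commute u v := by
  by_contra hcon
  push_neg at hcon
  haveI : Fact t.Prime := ⟨ht⟩
  have hn0 : 0 < n := by omega
  obtain ⟨i, _, hi⟩ := relIndex_pow_of_no_partner n hn h t hu (by
    intro r j v hr hrt hvo huv
    by_contra hv
    exact hcon r j v hr hrt hvo hv huv)
  obtain ⟨x, y, s, q, k', j', hs, hq, hsq, hxo, hyo, hx, hy, hxy⟩ := hbad
  have e1 := relIndex_mul_n n hn h hu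
  have e2 := relIndex_mul_n n hn h hx
  rw [hi] at e1
  have e3 : (Subgroup.center G).relIndex (Subgroup.centralizer ({x} : Set G)) = t ^ i :=
    Nat.eq_of_mul_eq_mul_right hn0 (e2.trans e1.symm)
  have hZC : Subgroup.center G ≤ Subgroup.centralizer ({x} : Set G) :=
    Subgroup.center_le_centralizer _
  have h1 := prime_dvd_relIndex _ hZC x (Subgroup.mem_centralizer_singleton_iff.mpr rfl) hx s k' hs hxo
  have h2 := prime_dvd_relIndex _ hZC y
    (Subgroup.mem_centralizer_singleton_iff.mpr hxy.symm.eq) hy q j' hq hyo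
  rw [e3] at h1 h2
  have hst : s = t := (Nat.prime_dvd_prime_iff_eq hs ht).mp (hs.dvd_of_dvd_pow h1)
  have hqt : q = t := (Nat.prime_dvd_prime_iff_eq hq ht).mp (hq.dvd_of_dvd_pow h2)
  exact hsq (hst.trans hqt.symm)

/-- S1 -/
theorem prime_dvd_n (t : ℕ) [Fact t.Prime] {w : G} (hw : w ∉ Subgroup.center G) (k : ℕ)
    (hwo : orderOf w = t ^ k) : t ∣ n := by
  have ht : t.Prime := Fact.out
  by_contra htn
  have hidx : ∀ y : G, ¬ t ∣ (Subgroup.centralizer ({y} : Set G)).index := by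
    intro y hdvd
    rcases h y with h1 | h1
    · rw [h1] at hdvd; exact ht.one_lt.ne' (Nat.dvd_one.mp hdvd)
    · rw [h1] at hdvd; exact htn hdvd
  obtain ⟨S⟩ : Nonempty (Sylow t G) := inferInstance
  obtain ⟨hSn, hcomm⟩ := Cfsg.Agent.S4127.camina t (fun y _ => hidx y) S
  haveI : Unique (Sylow t G) := Sylow.unique_of_normal S hSn
  have hmemS : ∀ (g : G) (j : ℕ), orderOf g = t ^ j → g ∈ (S : Subgroup G) := by
    intro g j hg
    have hzp : IsPGroup t (Subgroup.zpowers g) := by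
      apply IsPGroup.of_card (n := j); rw [Nat.card_zpowers, hg]
    obtain ⟨S', hS'⟩ := hzp.exists_le_sylow
    have : S' = S := Subsingleton.elim _ _
    rw [this] at hS'
    exact hS' (Subgroup.mem_zpowers g)
  have hSle : ∀ x : G, x ∈ Subgroup.centralizer ((S : Subgroup G) : Set G) := by
    intro x
    obtain ⟨g, c, hc, rfl⟩ := Cfsg.Agent.S4160.exists_conj_mem_centralizer S x (hidx x)
    rw [Subgroup.mem_centralizer_iff] at hc ⊢
    intro u hu
    have hu' : g⁻¹ * u * g⁻¹⁻¹ ∈ (S : Subgroup G) := hSn.conj_mem u hu g⁻¹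
    rw [inv_inv] at hu'
    have := hc _ hu'
    calc u * (g * c * g⁻¹) = g * ((g⁻¹ * u * g) * c) * g⁻¹ := by group
      _ = g * (c * (g⁻¹ * u * g)) * g⁻¹ := by rw [this]
      _ = g * c * g⁻¹ * u := by group
  apply hw
  rw [Subgroup.mem_center_iff]
  intro g
  exact (Subgroup.mem_centralizer_iff.mp (hSle g)) w (hmemS w k hwo) |>.symm

/-- D -/
theorem exists_noncentral_in_centralizer {u : G} (hu : u ∉ Subgroup.center G) (r : ℕ)
    [Fact r.Prime] {w : G} (hw : w ∉ Subgroup.center G) (j : ℕ) (hwo : orderOf w = r ^ j) :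
    ∃ v, v ∈ Subgroup.centralizer ({u} : Set G) ∧ v ∉ Subgroup.center G ∧
      ∃ i, orderOf v = r ^ i := by
  have hr : r.Prime := Fact.out
  by_contra hcon
  push_neg at hcon
  set Cu := Subgroup.centralizer ({u} : Set G) with hCu
  set Cw := Subgroup.centralizer ({w} : Set G) with hCw
  obtain ⟨Ru⟩ : Nonempty (Sylow r Cu) := inferInstance
  set R' := (Ru : Subgroup Cu).map Cu.subtype with hR'
  have hR'card : Nat.card R' = r ^ (Nat.card Cu).factorization r := by
    rw [hR', Subgroup.card_map_of_injective Cu.subtype_injective]   -- card of map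
    exact Ru.card_eq_multiplicity
  have hR'Z : R' ≤ Subgroup.center G := by
    rintro _ ⟨v, hv, rfl⟩
    by_contra hvZ
    obtain ⟨i, hi⟩ := (IsPGroup.iff_orderOf.mp Ru.isPGroup') ⟨v, hv⟩
    rw [Subgroup.orderOf_mk] at hi
    have := hcon (v : G) v.2 hvZ i
    apply this
    rw [← hi, Subgroup.orderOf_coe]
  -- cardinalities
  have hcardeq : Nat.card Cu = Nat.card Cw := by
    have h1 := Cu.card_mul_index
    have h2 := Cw.card_mul_index
    rw [hCu, idx_of_not_mem n hn h hu] at h1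
    rw [hCw, idx_of_not_mem n hn h hw] at h2
    have hn0 : 0 < n := by omega
    exact Nat.eq_of_mul_eq_mul_right hn0 (h1.trans h2.symm)
  -- H = R' ⊔ zpowers w
  have hR'p : IsPGroup r R' := by
    rw [hR']; exact Ru.isPGroup'.map _
  have hzp : IsPGroup r (Subgroup.zpowers w) := by
    apply IsPGroup.of_card (n := j); rw [Nat.card_zpowers, hwo]
  haveI hR'n : R'.Normal := by
    constructor
    intro x hx g
    have := (Subgroup.mem_center_iff.mp (hR'Z hx)) g
    have e : g * x * g⁻¹ = x := by rw [this]; group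
    rw [e]; exact hx
  set H := Subgroup.zpowers w ⊔ R' with hH
  have hHp : IsPGroup r H := IsPGroup.to_sup_of_normal_right hzp hR'p
  have hHle : H ≤ Cw := by
    rw [hH, sup_le_iff]
    refine ⟨?_, hR'Z.trans (Subgroup.center_le_centralizer _)⟩
    rw [Subgroup.zpowers_le]; exact Subgroup.mem_centralizer_singleton_iff.mpr rfl
  obtain ⟨e, he⟩ := IsPGroup.iff_card.mp hHp
  have hdvd : r ^ e ∣ Nat.card Cw := by
    rw [← he]; exact Subgroup.card_dvd_of_le hHle
  have hele : e ≤ (Nat.card Cw).factorization r :=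
    (hr.pow_dvd_iff_le_factorization Nat.card_pos.ne').mp hdvd
  have hlt : Nat.card R' < Nat.card H := by
    have hle : R' ≤ H := le_sup_right
    have hne : R' ≠ H := by
      intro heq
      have : w ∈ R' := by rw [heq]; exact (le_sup_left : Subgroup.zpowers w ≤ H) (Subgroup.mem_zpowers w)
      exact hw (hR'Z this)
    have hlt' : R' < H := lt_of_le_of_ne hle hne
    have h3 := Set.ncard_lt_ncard (show (R' : Set G) ⊂ (H : Set G) from hlt') (Set.toFinite _)
    have e1 : ((R' : Set G)).ncard = Nat.card R' := by rw [← Nat.card_coe_set_eq]; rfl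
    have e2 : ((H : Set G)).ncard = Nat.card H := by rw [← Nat.card_coe_set_eq]; rfl
    rwa [e1, e2] at h3
  rw [hR'card, he, hcardeq] at hlt
  have := Nat.pow_le_pow_right hr.pos hele
  omega

/-- component facts: the centralizer of a noncentral primary element is abelian and is the
centralizer of each of its noncentral elements -/
theorem component (hbad : Bad G) {z : G} (hz : z ∉ Subgroup.center G) (t k : ℕ)
    (ht : t.Prime) (hzo : orderOf z = t ^ k) :
    (∀ a ∈ Subgroup.centralizer ({z} : Set G), ∀ b ∈ Subgroup.centralizer ({z} : Set G),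
      a * b = b * a) ∧
    (∀ c ∈ Subgroup.centralizer ({z} : Set G), c ∉ Subgroup.center G →
      ∀ a : G, a * c = c * a → a ∈ Subgroup.centralizer ({z} : Set G)) := by
  obtain ⟨r, j, v, hr, hrt, hvo, hv, hzv⟩ := exists_partner n hn h hbad hz t k ht hzo
  obtain ⟨_, hab⟩ := abelian_of_bad n hn h hz hv t r k j ht hr hrt.symm hzo hvo hzv
  refine ⟨hab, ?_⟩
  intro c hc hcZ a hac
  have hle : Subgroup.centralizer ({z} : Set G) ≤ Subgroup.centralizer ({c} : Set G) := by
    intro b hb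
    rw [Subgroup.mem_centralizer_singleton_iff]
    exact hab b hb c hc
  have heq := eq_of_le n hn h hz hcZ hle
  rw [heq, Subgroup.mem_centralizer_singleton_iff]
  exact hac

/-- VT -/
theorem prime_data (hbad : Bad G) (t : ℕ) [Fact t.Prime] {w : G} (hw : w ∉ Subgroup.center G)
    (k : ℕ) (hwo : orderOf w = t ^ k) :
    n.factorization t = 1 ∧ ∃ z u : G, z ∉ Subgroup.center G ∧ (∃ k' : ℕ, orderOf z = t ^ k') ∧
      u ∉ Subgroup.centralizer ({z} : Set G) ∧ u ^ t ∈ Subgroup.centralizer ({z} : Set G) ∧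
      ∀ c ∈ Subgroup.centralizer ({z} : Set G), u * c * u⁻¹ ∈ Subgroup.centralizer ({z} : Set G) := by
  have ht : t.Prime := Fact.out
  have hn0 : n ≠ 0 := by omega
  -- Sylow containing w
  have hzp : IsPGroup t (Subgroup.zpowers w) := by
    apply IsPGroup.of_card (n := k); rw [Nat.card_zpowers, hwo]
  obtain ⟨T, hT⟩ := hzp.exists_le_sylow
  have hwT : w ∈ (T : Subgroup G) := hT (Subgroup.mem_zpowers w)
  have hTZ : ¬ (T : Subgroup G) ≤ Subgroup.center G := fun hle => hw (hle hwT)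
  obtain ⟨z, hzT, hzZ, hzc, hzt⟩ := exists_z t T hTZ
  obtain ⟨k', hk'⟩ := (IsPGroup.iff_orderOf.mp T.isPGroup') ⟨z, hzT⟩
  rw [Subgroup.orderOf_mk] at hk'
  obtain ⟨hCab, hCmax⟩ := component n hn h hbad hzZ t k' ht hk'
  obtain ⟨r, j, v, hr, hrt, hvo, hv, hzv⟩ := exists_partner n hn h hbad hzZ t k' ht hk'
  set C := Subgroup.centralizer ({z} : Set G) with hC
  have hvC : v ∈ C := Subgroup.mem_centralizer_singleton_iff.mpr hzv.symm.eq
  have hvt : (orderOf v).Coprime t := by
    rw [hvo]; exact Nat.Coprime.pow_left j ((Nat.coprime_primes hr ht).mpr hrt)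
  have hrel := relIndex_dvd_prime t (T : Subgroup G) z hzc hzt hCab hCmax v hvC hv hvt
  have htn : t ∣ n := prime_dvd_n n hn h t hw k hwo
  -- cardinalities
  set K := (T : Subgroup G) ⊓ C with hK
  have hKT : K ≤ (T : Subgroup G) := inf_le_left
  have hKC : K ≤ C := inf_le_right
  have hKp : IsPGroup t K := T.isPGroup'.to_le hKT
  obtain ⟨e, he⟩ := IsPGroup.iff_card.mp hKp
  have hTcard : Nat.card (T : Subgroup G) = t ^ (Nat.card G).factorization t :=
    T.card_eq_multiplicity
  have hmul : Nat.card K * K.relIndex (T : Subgroup G) = Nat.card (T : Subgroup G) := by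
    have := Subgroup.relIndex_mul_relIndex ⊥ K (T : Subgroup G) bot_le hKT
    rwa [Subgroup.relIndex_bot_left, Subgroup.relIndex_bot_left] at this
  have hCcard : Nat.card C * n = Nat.card G := by
    have := C.card_mul_index
    rwa [hC, idx_of_not_mem n hn h hzZ] at this
  have hCpos : Nat.card C ≠ 0 := Nat.card_pos.ne'
  have hfac : (Nat.card G).factorization t = (Nat.card C).factorization t + n.factorization t := by
    rw [← hCcard, Nat.factorization_mul hCpos hn0]; rfl
  have hele : e ≤ (Nat.card C).factorization t := by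
    apply (ht.pow_dvd_iff_le_factorization hCpos).mp
    rw [← he]; exact Subgroup.card_dvd_of_le hKC
  have hn1 : 1 ≤ n.factorization t :=
    (ht.dvd_iff_one_le_factorization hn0).mp htn
  -- relIndex is 1 or t
  have hrelcases : K.relIndex (T : Subgroup G) = 1 ∨ K.relIndex (T : Subgroup G) = t :=
    (Nat.dvd_prime ht).mp hrel
  have hfact1 : n.factorization t = 1 := by
    rcases hrelcases with h1 | h1
    · rw [h1, mul_one, he, hTcard] at hmul
      have := Nat.pow_right_injective ht.two_le hmul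
      omega
    · rw [h1, he, hTcard, ← pow_succ] at hmul
      have := Nat.pow_right_injective ht.two_le hmul
      omega
  refine ⟨hfact1, ?_⟩
  have hTC : ¬ (T : Subgroup G) ≤ C := by
    intro hle
    have hKeq : K = (T : Subgroup G) := inf_eq_left.mpr hle
    have h1 : K.relIndex (T : Subgroup G) = 1 := by rw [hKeq]; exact Subgroup.relIndex_self _
    rw [h1, mul_one, he, hTcard] at hmul
    have := Nat.pow_right_injective ht.two_le hmul
    omega
  obtain ⟨u, huT, huC⟩ := SetLike.not_le_iff_exists.mp hTC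
  refine ⟨z, u, hzZ, ⟨k', hk'⟩, huC, ?_, ?_⟩
  · rw [Subgroup.mem_centralizer_singleton_iff]
    exact pow_commute_of_central z u t (hzc u huT) hzt
  · intro c hc
    have hu' : u⁻¹ ∈ (T : Subgroup G) := inv_mem huT
    exact conj_mem_centralizer_of_central_comm z u c (hzc u⁻¹ hu') hc

theorem exists_noncentral_of_dvd {x : G} (hx : x ∉ Subgroup.center G) (t : ℕ) [Fact t.Prime]
    (htn : t ∣ n) :
    ∃ (w : G) (k : ℕ), w ∉ Subgroup.center G ∧ orderOf w = t ^ k := by
  by_contra hcon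
  push Not at hcon
  obtain ⟨T⟩ : Nonempty (Sylow t G) := inferInstance
  have hTZ : (T : Subgroup G) ≤ Subgroup.center G := by
    intro g hg
    by_contra hgZ
    obtain ⟨k, hk⟩ := (IsPGroup.iff_orderOf.mp T.isPGroup') ⟨g, hg⟩
    rw [Subgroup.orderOf_mk] at hk
    exact hcon g k hgZ hk
  have h1 : (Subgroup.center G).index ∣ (T : Subgroup G).index := Subgroup.index_dvd_of_le hTZ
  have h2 := relIndex_mul_n n hn h hx
  have h3 : n ∣ (Subgroup.center G).index := Dvd.intro_left _ h2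
  exact T.not_dvd_index (htn.trans (h3.trans h1))

/-- (cn) -/
theorem relIndex_eq_n (hbad : Bad G) {z : G} (hz : z ∉ Subgroup.center G) (t k : ℕ)
    (ht : t.Prime) (hzo : orderOf z = t ^ k) :
    (Subgroup.center G).relIndex (Subgroup.centralizer ({z} : Set G)) = n := by
  have hn0 : n ≠ 0 := by omega
  obtain ⟨hCab, hCmax⟩ := component n hn h hbad hz t k ht hzo
  set C := Subgroup.centralizer ({z} : Set G) with hC
  have hZC : Subgroup.center G ≤ C := Subgroup.center_le_centralizer _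
  have hmul := relIndex_mul_n n hn h hz
  have hc0 : (Subgroup.center G).relIndex C ≠ 0 := by
    intro h0
    rw [h0, zero_mul] at hmul
    exact (Subgroup.index_ne_zero_of_finite) hmul.symm
  -- upper bound
  have hle : (Subgroup.center G).relIndex C ≤ n := by
    have hCtop : C ≠ ⊤ := by
      intro htop
      apply hz
      rw [Subgroup.mem_center_iff]
      intro g
      have : g ∈ C := by rw [htop]; trivial
      exact (Subgroup.mem_centralizer_singleton_iff.mp this)
    obtain ⟨u, huC⟩ : ∃ u : G, u ∉ C := by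
      by_contra hall
      push Not at hall
      exact hCtop (eq_top_iff.mpr fun g _ => hall g)
    have huZ : u ∉ Subgroup.center G := fun hu => huC (hZC hu)
    have hinf : Subgroup.centralizer ({u} : Set G) ⊓ C = Subgroup.center G := by
      apply le_antisymm
      · intro g ⟨hgu, hgC⟩
        by_contra hgZ
        apply huC
        apply hCmax g hgC hgZ u
        exact (Subgroup.mem_centralizer_singleton_iff.mp hgu).symm
      · exact le_inf (Subgroup.center_le_centralizer _) hZC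
    rw [← hinf, Subgroup.inf_relIndex_right]
    have h1 : (Subgroup.centralizer ({u} : Set G)).relIndex C ≤
        (Subgroup.centralizer ({u} : Set G)).relIndex ⊤ := by
      apply Subgroup.relIndex_le_of_le_right le_top
      rw [Subgroup.relIndex_top_right]
      exact Subgroup.index_ne_zero_of_finite
    rwa [Subgroup.relIndex_top_right, idx_of_not_mem n hn h huZ] at h1
  -- divisibility
  have hdvd : n ∣ (Subgroup.center G).relIndex C := by
    rw [← Nat.factorization_le_iff_dvd hn0 hc0]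
    intro r
    by_cases hr : r.Prime
    · by_cases hrn : r ∣ n
      · have : Fact r.Prime := ⟨hr⟩
        obtain ⟨w, j, hw, hwo⟩ := exists_noncentral_of_dvd n hn h hz r hrn
        obtain ⟨h1, -⟩ := prime_data n hn h hbad r hw j hwo
        obtain ⟨v, hvC, hvZ, i, hvo⟩ := exists_noncentral_in_centralizer n hn h hz r hw j hwo
        have h2 := prime_dvd_relIndex C hZC v hvC hvZ r i hr hvo
        rw [h1]
        exact (hr.dvd_iff_one_le_factorization hc0).mp h2
      · rw [Nat.factorization_eq_zero_of_not_dvd hrn]; exact Nat.zero_le _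
    · rw [Nat.factorization_eq_zero_of_not_prime _ hr]; exact Nat.zero_le _
  exact le_antisymm hle (Nat.le_of_dvd (Nat.pos_of_ne_zero hc0) hdvd)

/-- (G4') -/
theorem prime_dvd_pred (hbad : Bad G) (p q : ℕ) [Fact p.Prime] [Fact q.Prime] (hpq : p ≠ q)
    {wp : G} (hwp : wp ∉ Subgroup.center G) (kp : ℕ) (hwpo : orderOf wp = p ^ kp)
    {wq : G} (hwq : wq ∉ Subgroup.center G) (kq : ℕ) (hwqo : orderOf wq = q ^ kq) :
    p ∣ q - 1 := by
  have hp : p.Prime := Fact.out
  have hq : q.Prime := Fact.out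
  obtain ⟨-, z, u, hzZ, ⟨k', hzo⟩, huC, hupC, hnorm⟩ := prime_data n hn h hbad p hwp kp hwpo
  obtain ⟨hq1, -⟩ := prime_data n hn h hbad q hwq kq hwqo
  obtain ⟨hCab, hCmax⟩ := component n hn h hbad hzZ p k' hp hzo
  have hcn := relIndex_eq_n n hn h hbad hzZ p k' hp hzo
  obtain ⟨v, hvC, hvZ, i, hvo⟩ := exists_noncentral_in_centralizer n hn h hzZ q hwq kq hwqo
  set C := Subgroup.centralizer ({z} : Set G) with hC
  have hZC : Subgroup.center G ≤ C := Subgroup.center_le_centralizer _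
  have hvq : v ∈ qPart C hCab q := ⟨hvC, i, by rw [← hvo]; exact pow_orderOf_eq_one v⟩
  obtain ⟨b, hb⟩ := ncard_qPart_diff C hCab q hZC (by rw [hcn]; exact hq1) v hvq hvZ
  have hdvd : p ∣ (((qPart C hCab q : Subgroup G) : Set G) \ (Subgroup.center G : Set G)).ncard := by
    apply prime_dvd_ncard_of_fpf _ u p
    · rintro s ⟨⟨hsC, k, hk⟩, hsZ⟩
      refine ⟨⟨hnorm s hsC, k, ?_⟩, ?_⟩
      · rw [conj_pow, hk]; group
      · intro hcon
        apply hsZ
        have := (Subgroup.center G).normal_of_characteristic.conj_mem _ hcon u⁻¹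
        have e : u⁻¹ * (u * s * u⁻¹) * u⁻¹⁻¹ = s := by group
        rw [e] at this
        exact this
    · rintro s ⟨⟨hsC, -⟩, -⟩
      exact hCab _ hupC _ hsC
    · rintro s ⟨⟨hsC, -⟩, hsZ⟩ hcon
      apply huC
      apply hCmax s hsC hsZ u
      calc u * s = (u * s * u⁻¹) * u := by group
        _ = s * u := by rw [hcon]
  rw [hb] at hdvd
  rcases (Nat.Prime.dvd_mul hp).mp hdvd with h1 | h1
  · exact absurd ((Nat.prime_dvd_prime_iff_eq hp hq).mp (hp.dvd_of_dvd_pow h1)) hpq
  · exact h1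

theorem not_bad (hbad : Bad G) : False := by
  obtain ⟨x, y, s, q, k, j, hs, hq, hsq, hxo, hyo, hx, hy, -⟩ := id hbad
  haveI : Fact s.Prime := ⟨hs⟩
  haveI : Fact q.Prime := ⟨hq⟩
  have h1 := prime_dvd_pred n hn h hbad s q hsq hx k hxo hy j hyo
  have h2 := prime_dvd_pred n hn h hbad q s hsq.symm hy j hyo hx k hxo
  have hs2 := hs.two_le
  have hq2 := hq.two_le
  have h3 := Nat.le_of_dvd (by omega) h1
  have h4 := Nat.le_of_dvd (by omega) h2
  omega

end two

end helpers


/-- Let G be a finite group whose conjugacy classes have exactly two sizes, 1 and n > 1. Then n is a power of a prime p and G is the direct product of a p-group and an abelian group of order prime to p: its Sylow p-subgroup P is normal with an abelian normal complement centralizing it; moreover P has an abelian normal subgroup A with P/A of exponent dividing p. -/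
theorem result {G : Type*} [Group G] [Finite G] (n : ℕ) (hn : 1 < n)
    (h : ∀ x : G, (Subgroup.centralizer ({x} : Set G)).index = 1 ∨ (Subgroup.centralizer ({x} : Set G)).index = n) (hex : ∃ x : G, (Subgroup.centralizer ({x} : Set G)).index = n) :
    ∃ (p : ℕ) (_ : Fact p.Prime) (a : ℕ), n = p ^ a ∧ ∀ P : Sylow p G, (P : Subgroup G).Normal ∧
      (∃ N : Subgroup G, N.Normal ∧ N.IsComplement' (P : Subgroup G) ∧ IsMulCommutative N ∧
        ∀ x ∈ N, ∀ y ∈ (P : Subgroup G), x * y = y * x) ∧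
      ∃ A : Subgroup (P : Subgroup G), A.Normal ∧ IsMulCommutative A ∧ ∀ y : (P : Subgroup G), y ^ p ∈ A := by
  by_cases hbad : Bad G
  · exact (not_bad n hn h hbad).elim
  · obtain ⟨p, hp, hstar⟩ := star_of_not_bad n hn h hex hbad
    have hpf : Fact p.Prime := ⟨hp⟩
    exact ⟨p, hpf, endgame n hn h hex p hstar⟩

end Cfsg.Agent.S4134
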