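import Cfsg.Statements.S4138
import Cfsg.Agent.S4127
import Cfsg.Agent.S4134
import Cfsg.Agent.Lib.Helper9.CoprimeIndex
import Cfsg.Agent.Lib.Helper30.ClassGraphC
import Cfsg.Agent.Lib.Helper34.RelCMFrob

set_option autoImplicit false
open Cfsg

namespace Cfsg.Agent.S4138

set_option linter.unusedSectionVars false
set_option linter.unusedVariables false

-- ===== part A1 =====
section generic

variable {G : Type*} [Group G]

theorem centralizer_le_pow (g : G) (k : ℕ) :
    Subgroup.centralizer ({g} : Set G) ≤ Subgroup.centralizer ({g ^ k} : Set G) := by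
  intro c hc
  rw [Subgroup.mem_centralizer_singleton_iff] at hc ⊢
  exact ((Commute.pow_right (show Commute c g from hc) k)).eq

theorem centralizer_le_of_mem_zpowers {g w : G} (hw : w ∈ Subgroup.zpowers g) :
    Subgroup.centralizer ({g} : Set G) ≤ Subgroup.centralizer ({w} : Set G) := by
  obtain ⟨k, rfl⟩ := hw
  intro c hc
  rw [Subgroup.mem_centralizer_singleton_iff] at hc ⊢
  exact ((Commute.zpow_right (show Commute c g from hc) k)).eq

/-- equal index and ≤ gives equality -/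
theorem eq_of_le_of_index_eq [Finite G] {H K : Subgroup G} (hle : H ≤ K) (h : H.index = K.index) :
    H = K := by
  have h1 := Subgroup.relIndex_mul_index hle
  rw [h] at h1
  have hK : 0 < K.index := Nat.pos_of_ne_zero Subgroup.index_ne_zero_of_finite
  have h2 : H.relIndex K = 1 := Nat.eq_of_mul_eq_mul_right hK (by rw [h1, one_mul])
  exact le_antisymm hle (Subgroup.relIndex_eq_one.mp h2)

/-- splitting an element into its `q`-part and `q'`-part -/
theorem qsplit [Finite G] (q : ℕ) (hq : q.Prime) (g : G) :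
    ∃ g₁ ∈ Subgroup.zpowers g, ∃ g₂ ∈ Subgroup.zpowers g, g = g₁ * g₂ ∧
      (∃ k : ℕ, g₁ ^ (q ^ k) = 1) ∧ ¬ q ∣ orderOf g₂ := by
  set o := orderOf g with ho
  have ho0 : o ≠ 0 := (orderOf_pos g).ne'
  set k := o.factorization q with hk
  set r := o / q ^ k with hr
  have hor : q ^ k * r = o := Nat.ordProj_mul_ordCompl_eq_self o q
  have hqr : ¬ q ∣ r := Nat.not_dvd_ordCompl hq ho0
  have hcop : Nat.Coprime (q ^ k) r := Nat.Coprime.pow_left k ((Nat.Prime.coprime_iff_not_dvd hq).mpr hqr)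
  obtain ⟨a, b, hab⟩ := (Nat.isCoprime_iff_coprime.mpr hcop)
  refine ⟨g ^ (b * (r : ℤ)), ⟨_, rfl⟩, g ^ (a * ((q ^ k : ℕ) : ℤ)), ⟨_, rfl⟩, ?_, ⟨k, ?_⟩, ?_⟩
  · rw [← zpow_add, add_comm, hab, zpow_one]
  · rw [← zpow_natCast, ← zpow_mul]
    have : b * (r : ℤ) * ((q ^ k : ℕ) : ℤ) = (o : ℤ) * b := by
      rw [← hor]; push_cast; ring
    rw [this, zpow_mul, zpow_natCast, ho, pow_orderOf_eq_one, one_zpow]
  · intro hdvd
    apply hqr
    apply hdvd.trans
    apply orderOf_dvd_of_pow_eq_one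
    rw [← zpow_natCast, ← zpow_mul]
    have : a * ((q ^ k : ℕ) : ℤ) * (r : ℤ) = (o : ℤ) * a := by
      rw [← hor]; push_cast; ring
    rw [this, zpow_mul, zpow_natCast, ho, pow_orderOf_eq_one, one_zpow]

/-- Sylow arithmetic: if all `q`-elements of `C` lie in `D` then `v_q |G:D| ≤ v_q |G:C|` -/
theorem sylAr [Finite G] (C D : Subgroup G) (q : ℕ) (hq : q.Prime)
    (h : ∀ g ∈ C, (∃ k : ℕ, g ^ (q ^ k) = 1) → g ∈ D) :
    (D.index).factorization q ≤ (C.index).factorization q := by
  have : Fact q.Prime := ⟨hq⟩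
  obtain ⟨Q⟩ : Nonempty (Sylow q C) := inferInstance
  have hQD : (Q : Subgroup C).map C.subtype ≤ D := by
    rintro _ ⟨c, hc, rfl⟩
    apply h _ c.2
    obtain ⟨k, hk⟩ := Q.isPGroup' ⟨c, hc⟩
    refine ⟨k, ?_⟩
    have := congrArg (fun z : (Q : Subgroup C) => ((z : C) : G)) hk
    simpa using this
  have hcard : Nat.card ((Q : Subgroup C).map C.subtype) = q ^ (Nat.card C).factorization q := by
    rw [Subgroup.card_map_of_injective C.subtype_injective, Sylow.card_eq_multiplicity]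
  have h1 : q ^ (Nat.card C).factorization q ∣ Nat.card D := by
    rw [← hcard]; exact Subgroup.card_dvd_of_le hQD
  have hD0 : Nat.card D ≠ 0 := Nat.card_pos.ne'
  have hC0 : Nat.card C ≠ 0 := Nat.card_pos.ne'
  have h2 : (Nat.card C).factorization q ≤ (Nat.card D).factorization q :=
    (Nat.Prime.pow_dvd_iff_le_factorization hq hD0).mp h1
  have h3 : Nat.card C * C.index = Nat.card D * D.index := by
    rw [Subgroup.card_mul_index, Subgroup.card_mul_index]
  have h4 := congrArg (fun t => t.factorization q) h3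
  rw [Nat.factorization_mul hC0 Subgroup.index_ne_zero_of_finite,
    Nat.factorization_mul hD0 Subgroup.index_ne_zero_of_finite] at h4
  simp only [Finsupp.coe_add, Pi.add_apply] at h4
  omega

/-- an element outside a normal subgroup has a prime-power-order power outside it -/
theorem exists_qpow_not_mem [Finite G] (K : Subgroup G) [K.Normal] (b : G) (hb : b ∉ K) :
    ∃ q : ℕ, q.Prime ∧ q ∣ K.index ∧ ∃ k j : ℕ, b ^ k ∉ K ∧ (b ^ k) ^ (q ^ j) = 1 := by
  set bb : G ⧸ K := (b : G ⧸ K) with hbb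
  have hbb1 : bb ≠ 1 := by
    intro h1
    apply hb
    exact (QuotientGroup.eq_one_iff b).mp h1
  have ho1 : orderOf bb ≠ 1 := by
    intro h1; exact hbb1 (orderOf_eq_one_iff.mp h1)
  set q := (orderOf bb).minFac with hq
  have hqp : q.Prime := Nat.minFac_prime ho1
  have hqo : q ∣ orderOf bb := Nat.minFac_dvd _
  have hon : orderOf bb ∣ K.index := by
    rw [Subgroup.index_eq_card]; exact orderOf_dvd_natCard bb
  set o := orderOf b with ho
  have ho0 : o ≠ 0 := (orderOf_pos b).ne'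
  set j := o.factorization q with hj
  set r := o / q ^ j with hr
  have hor : q ^ j * r = o := Nat.ordProj_mul_ordCompl_eq_self o q
  have hqr : ¬ q ∣ r := Nat.not_dvd_ordCompl hqp ho0
  refine ⟨q, hqp, hqo.trans hon, r, j, ?_, ?_⟩
  · intro hmem
    apply hqr
    apply hqo.trans
    apply orderOf_dvd_of_pow_eq_one
    have : bb ^ r = ((b ^ r : G) : G ⧸ K) := rfl
    rw [this]
    exact (QuotientGroup.eq_one_iff _).mpr hmem
  · rw [← pow_mul, mul_comm, hor, ho, pow_orderOf_eq_one]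

/-- orbit bound: if all `B`-conjugates of `t` lie in a finite set `Ω` then `|B : C_B(t)| ≤ |Ω|` -/
theorem relIndex_centralizer_le [Finite G] (B : Subgroup G) (t : G) (Ω : Set G)
    (h : ∀ g ∈ B, g * t * g⁻¹ ∈ Ω) :
    (Subgroup.centralizer ({t} : Set G)).relIndex B ≤ Ω.ncard := by
  rw [Subgroup.relIndex, Subgroup.index, ← Nat.card_coe_set_eq]
  let f : (B ⧸ (Subgroup.centralizer ({t} : Set G)).subgroupOf B) → Ω :=
    Quotient.lift (fun g : B => (⟨(g : G) * t * (g : G)⁻¹, h g g.2⟩ : Ω)) (by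
      intro a b hab
      have hab' : a⁻¹ * b ∈ (Subgroup.centralizer ({t} : Set G)).subgroupOf B :=
        QuotientGroup.leftRel_apply.mp hab
      rw [Subgroup.mem_subgroupOf, Subgroup.mem_centralizer_singleton_iff] at hab'
      apply Subtype.ext
      simp only
      have h1 : ((a⁻¹ * b : B) : G) = (a : G)⁻¹ * (b : G) := by simp
      rw [h1] at hab'
      calc (a : G) * t * (a : G)⁻¹ = (a : G) * (t * ((a : G)⁻¹ * (b : G))) * (b : G)⁻¹ := by group
        _ = (a : G) * (((a : G)⁻¹ * (b : G)) * t) * (b : G)⁻¹ := by rw [hab']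
        _ = (b : G) * t * (b : G)⁻¹ := by group)
  apply Nat.card_le_card_of_injective f
  intro a b
  induction a using Quotient.inductionOn with | _ a => ?_
  induction b using Quotient.inductionOn with | _ b => ?_
  intro hab
  have h1 : (a : G) * t * (a : G)⁻¹ = (b : G) * t * (b : G)⁻¹ := congrArg Subtype.val hab
  apply Quotient.sound
  apply QuotientGroup.leftRel_apply.mpr
  rw [Subgroup.mem_subgroupOf, Subgroup.mem_centralizer_singleton_iff]
  have h2 : ((a⁻¹ * b : B) : G) = (a : G)⁻¹ * (b : G) := by simp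
  rw [h2]
  calc (a : G)⁻¹ * (b : G) * t = (a : G)⁻¹ * ((b : G) * t * (b : G)⁻¹) * (b : G) := by group
    _ = (a : G)⁻¹ * ((a : G) * t * (a : G)⁻¹) * (b : G) := by rw [h1]
    _ = t * ((a : G)⁻¹ * (b : G)) := by group

end generic

-- ===== part A2 =====
open Cfsg.Agent.Lib.Helper30.CG

section coprimeact

variable {G : Type*} [Group G]

/-- the `r`-torsion of an abelian subgroup -/
def torsionIn (L : Subgroup G) (hL : ∀ a ∈ L, ∀ b ∈ L, a * b = b * a) (r : ℕ) : Subgroup G where
  carrier := {l | l ∈ L ∧ l ^ r = 1}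
  one_mem' := ⟨L.one_mem, one_pow r⟩
  mul_mem' := by
    rintro a b ⟨ha, ha'⟩ ⟨hb, hb'⟩
    refine ⟨L.mul_mem ha hb, ?_⟩
    rw [(show Commute a b from hL a ha b hb).mul_pow, ha', hb', one_mul]
  inv_mem' := by
    rintro a ⟨ha, ha'⟩
    exact ⟨L.inv_mem ha, by rw [inv_pow, ha', inv_one]⟩

theorem mem_torsionIn {L : Subgroup G} {hL : ∀ a ∈ L, ∀ b ∈ L, a * b = b * a} {r : ℕ} {l : G} :
    l ∈ torsionIn L hL r ↔ l ∈ L ∧ l ^ r = 1 := Iff.rfl

theorem torsionIn_le (L : Subgroup G) (hL : ∀ a ∈ L, ∀ b ∈ L, a * b = b * a) (r : ℕ) :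
    torsionIn L hL r ≤ L := fun _ h => h.1

theorem torsionIn_normal (L : Subgroup G) [hn : L.Normal] (hL : ∀ a ∈ L, ∀ b ∈ L, a * b = b * a)
    (r : ℕ) : (torsionIn L hL r).Normal := by
  constructor
  rintro l ⟨hl, hl'⟩ g
  refine ⟨hn.conj_mem l hl g, ?_⟩
  rw [conj_pow, hl']; group

theorem card_torsionIn_coprime [Finite G] (L : Subgroup G) (hL : ∀ a ∈ L, ∀ b ∈ L, a * b = b * a)
    (r : ℕ) (q : ℕ) (hq : q.Prime) (hqr : ¬ q ∣ r) :
    (Nat.card (torsionIn L hL r)).Coprime q := by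
  rw [Nat.coprime_comm, Nat.Prime.coprime_iff_not_dvd hq]
  intro hdvd
  have : Fact q.Prime := ⟨hq⟩
  obtain ⟨w, hw⟩ := exists_prime_orderOf_dvd_card' q hdvd
  apply hqr
  rw [← hw]
  apply orderOf_dvd_of_pow_eq_one
  have h1 : ((w : G)) ^ r = 1 := w.2.2
  exact Subtype.ext (by simpa using h1)

/-- the key count for a coprime automorphism of an abelian normal subgroup -/
theorem coprime_act [Finite G] (N : Subgroup G) [hn : N.Normal]
    (hc : ∀ a ∈ N, ∀ b ∈ N, a * b = b * a) (u : G)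
    (hcop : (orderOf u).Coprime (Nat.card N)) (x₀ : G) (hx₀ : x₀ ∈ N)
    (hNx : N ≤ Subgroup.centralizer ({x₀} : Set G)) (hux : u * x₀ ≠ x₀ * u) :
    ∃ c ∈ N, u * c = c * u ∧
      (Subgroup.centralizer ({x₀} : Set G)).index <
        (Subgroup.centralizer ({u} : Set G) ⊓ Subgroup.centralizer ({c} : Set G)).index := by
  classical
  set T := VS N hc u with hT
  let φ : N →* N := MonoidHom.mk' (fun v => ⟨(v : G) * u * (v : G)⁻¹ * u⁻¹, psi_mem N u v.2⟩) (by
    intro a b
    apply Subtype.ext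
    exact psi_mul N hc u a.2 b.2)
  have hφ : ∀ v : N, ((φ v : N) : G) = (v : G) * u * (v : G)⁻¹ * u⁻¹ := fun v => rfl
  have hker : φ.ker = (Subgroup.centralizer ({u} : Set G)).subgroupOf N := by
    ext v
    rw [MonoidHom.mem_ker, Subgroup.mem_subgroupOf, Subgroup.mem_centralizer_singleton_iff]
    constructor
    · intro h1
      have h2 : (v : G) * u * (v : G)⁻¹ * u⁻¹ = 1 := by rw [← hφ, h1]; rfl
      rw [mul_inv_eq_one, mul_inv_eq_iff_eq_mul] at h2
      exact h2
    · intro h1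
      apply Subtype.ext
      rw [hφ, h1]
      simp
  have hrange : φ.range.map N.subtype = T := by
    ext w
    constructor
    · rintro ⟨_, ⟨v, rfl⟩, rfl⟩
      exact ⟨v, v.2, rfl⟩
    · rintro ⟨v, hv, rfl⟩
      exact ⟨φ ⟨v, hv⟩, ⟨⟨v, hv⟩, rfl⟩, rfl⟩
  have hcardT : Nat.card φ.range = Nat.card T := by
    rw [← hrange, Subgroup.card_map_of_injective N.subtype_injective]
  have hdisj : Disjoint φ.ker φ.range := by
    rw [Subgroup.disjoint_def]
    intro w hwk hwr
    have h1 : (w : G) ∈ T := by rw [← hrange]; exact ⟨w, hwr, rfl⟩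
    rw [hker, Subgroup.mem_subgroupOf, Subgroup.mem_centralizer_singleton_iff] at hwk
    have := VS_cent hc u hcop h1 hwk
    exact Subtype.ext this
  have hcompl : Subgroup.IsComplement' φ.ker φ.range := by
    apply Subgroup.isComplement'_of_card_mul_and_disjoint _ hdisj
    rw [← Subgroup.index_ker, Subgroup.card_mul_index]
  obtain ⟨⟨⟨c, hck⟩, ⟨t, htr⟩⟩, hct, -⟩ := hcompl.existsUnique (⟨x₀, hx₀⟩ : N)
  simp only at hct
  have hct' : (c : G) * (t : G) = x₀ := congrArg Subtype.val hct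
  have hcu : (c : G) * u = u * (c : G) := by
    have hck' : c ∈ φ.ker := hck
    rw [hker, Subgroup.mem_subgroupOf, Subgroup.mem_centralizer_singleton_iff] at hck'
    exact hck'
  have htT : (t : G) ∈ T := by rw [← hrange]; exact ⟨t, htr, rfl⟩
  have ht1 : (t : G) ≠ 1 := by
    intro h1
    apply hux
    rw [← hct', h1, mul_one]
    exact hcu.symm
  refine ⟨c, c.2, hcu.symm, ?_⟩
  set B := Subgroup.centralizer ({u} : Set G) ⊓ Subgroup.centralizer ({(c : G)} : Set G) with hB
  set Ω : Set G := (T : Set G) \ {1} with hΩ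
  have hTn : (T : Set G).ncard = Nat.card T := (Nat.card_coe_set_eq (T : Set G)).symm
  have hΩcard : Ω.ncard = Nat.card T - 1 := by
    rw [hΩ, Set.ncard_sdiff_singleton_of_mem (show (1 : G) ∈ (T : Set G) from T.one_mem), hTn]
  have hconj : ∀ g ∈ B, g * (t : G) * g⁻¹ ∈ Ω := by
    intro g hg
    rw [hB, Subgroup.mem_inf, Subgroup.mem_centralizer_singleton_iff] at hg
    refine ⟨?_, ?_⟩
    · obtain ⟨v, hv, hvt⟩ := htT
      refine ⟨g * v * g⁻¹, hn.conj_mem v hv g, ?_⟩
      rw [← hvt]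
      have hgu : g * u = u * g := hg.1
      have hu' : g * u * g⁻¹ = u := by rw [hgu]; group
      calc g * v * g⁻¹ * u * (g * v * g⁻¹)⁻¹ * u⁻¹
          = g * v * g⁻¹ * (g * u * g⁻¹) * (g * v * g⁻¹)⁻¹ * (g * u * g⁻¹)⁻¹ := by rw [hu']
        _ = g * (v * u * v⁻¹ * u⁻¹) * g⁻¹ := by group
    · intro h1
      apply ht1
      have h2 : g * (t : G) * g⁻¹ = 1 := h1
      have : (t : G) = g⁻¹ * (g * (t : G) * g⁻¹) * g := by group
      rw [this, h2]; group
  have h1 := relIndex_centralizer_le B (t : G) Ω hconj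
  rw [hΩcard] at h1
  -- (B ⊓ C(t)).index = C(t).relIndex B * B.index
  have h2 : (Subgroup.centralizer ({(t : G)} : Set G)).relIndex B * B.index =
      (B ⊓ Subgroup.centralizer ({(t : G)} : Set G)).index := by
    rw [← Subgroup.inf_relIndex_left, Subgroup.relIndex_mul_index inf_le_left]
  set E := Subgroup.centralizer ({u} : Set G) ⊓ Subgroup.centralizer ({x₀} : Set G) with hE
  have h3 : B ⊓ Subgroup.centralizer ({(t : G)} : Set G) ≤ E := by
    intro g hg
    rw [hB, Subgroup.mem_inf, Subgroup.mem_inf, Subgroup.mem_centralizer_singleton_iff,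
      Subgroup.mem_centralizer_singleton_iff, Subgroup.mem_centralizer_singleton_iff] at hg
    rw [hE, Subgroup.mem_inf, Subgroup.mem_centralizer_singleton_iff,
      Subgroup.mem_centralizer_singleton_iff]
    refine ⟨hg.1.1, ?_⟩
    rw [← hct', ← mul_assoc, hg.1.2, mul_assoc, hg.2, mul_assoc]
  have h4 : E.index ∣ (B ⊓ Subgroup.centralizer ({(t : G)} : Set G)).index :=
    Subgroup.index_dvd_of_le h3
  have h5 : (Subgroup.centralizer ({u} : Set G)).relIndex (Subgroup.centralizer ({x₀} : Set G)) *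
      (Subgroup.centralizer ({x₀} : Set G)).index = E.index := by
    rw [← Subgroup.inf_relIndex_right, Subgroup.relIndex_mul_index inf_le_right]
  have h6 : (Subgroup.centralizer ({u} : Set G)).relIndex N ≤
      (Subgroup.centralizer ({u} : Set G)).relIndex (Subgroup.centralizer ({x₀} : Set G)) :=
    Subgroup.relIndex_le_of_le_right hNx (by
      rw [Subgroup.relIndex]; exact Subgroup.index_ne_zero_of_finite)
  have h7 : (Subgroup.centralizer ({u} : Set G)).relIndex N = Nat.card T := by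
    rw [Subgroup.relIndex, ← hker, Subgroup.index_ker, hcardT]
  have hT2 : 2 ≤ Nat.card T := by
    have : Set.Nontrivial (T : Set G) := ⟨t, htT, 1, T.one_mem, ht1⟩
    have h8 := Set.one_lt_ncard_iff_nontrivial.mpr this
    rw [hTn] at h8
    omega
  have hB0 : 0 < B.index := Nat.pos_of_ne_zero Subgroup.index_ne_zero_of_finite
  have hx0 : 0 < (Subgroup.centralizer ({x₀} : Set G)).index :=
    Nat.pos_of_ne_zero Subgroup.index_ne_zero_of_finite
  have hE0 : 0 < (B ⊓ Subgroup.centralizer ({(t : G)} : Set G)).index :=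
    Nat.pos_of_ne_zero Subgroup.index_ne_zero_of_finite
  have h8 : E.index ≤ (B ⊓ Subgroup.centralizer ({(t : G)} : Set G)).index :=
    Nat.le_of_dvd hE0 h4
  -- |T| * n₀ ≤ E.index ≤ (|T| - 1) * B.index
  have h9 : Nat.card T * (Subgroup.centralizer ({x₀} : Set G)).index ≤ E.index := by
    rw [← h5, ← h7]
    exact Nat.mul_le_mul_right _ h6
  have h10 : (B ⊓ Subgroup.centralizer ({(t : G)} : Set G)).index ≤ (Nat.card T - 1) * B.index := by
    rw [← h2]
    exact Nat.mul_le_mul_right _ h1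
  by_contra hlt
  push Not at hlt
  have h11 : (Nat.card T - 1) * B.index ≤
      (Nat.card T - 1) * (Subgroup.centralizer ({x₀} : Set G)).index :=
    Nat.mul_le_mul_left _ hlt
  have h12 : Nat.card T * (Subgroup.centralizer ({x₀} : Set G)).index ≤
      (Nat.card T - 1) * (Subgroup.centralizer ({x₀} : Set G)).index := by
    calc _ ≤ E.index := h9
      _ ≤ _ := h8
      _ ≤ _ := h10
      _ ≤ _ := h11
  have h13 : Nat.card T ≤ Nat.card T - 1 := Nat.le_of_mul_le_mul_right h12 hx0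
  omega

end coprimeact

-- ===== part B1 =====
open Cfsg.Agent.Lib.Helper30.CG

section sec1

/-- the hypotheses -/
structure BH (G : Type*) [Group G] (m n : ℕ) : Prop where
  hmn : n < m
  hn : 1 < n
  hcop : m.Coprime n
  htop : ∀ z : G, cs z ≤ m
  hsecond : ∀ z : G, cs z < m → cs z ≤ n
  hexm : ∃ y : G, cs y = m

/-- elements of class size coprime to `m` -/
def NN (G : Type*) [Group G] (m : ℕ) : Set G := {a | (cs a).Coprime m}

variable {G : Type*} [Group G] [Finite G] {m n : ℕ}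

theorem mem_NN {a : G} : a ∈ NN G m ↔ (cs a).Coprime m := Iff.rfl

theorem BH.lt_of_mem_NN (h : BH G m n) {a : G} (ha : a ∈ NN G m) : cs a < m := by
  have h1 := h.htop a
  rcases Nat.lt_or_ge (cs a) m with h2 | h2
  · exact h2
  · exfalso
    have h3 : cs a = m := le_antisymm h1 h2
    have h4 : (cs a).Coprime m := ha
    rw [h3, Nat.coprime_self] at h4
    have := h.hmn; have := h.hn
    omega

theorem BH.cs_mul_of_mem_NN (h : BH G m n) {a b : G} (ha : a ∈ NN G m) (hb : cs b = m) :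
    cs (b * a) = m := by
  have hcop : (cs a).Coprime (cs b) := by rw [hb]; exact ha
  have hsub : (fun y => y * a) '' cl b ⊆ cl (b * a) := by
    rintro _ ⟨y, ⟨c, rfl⟩, rfl⟩
    have := conj_mul_conj_mem_cl a b hcop c 1
    simpa using this
  have hle : cs b ≤ cs (b * a) := by
    rw [← ncard_cl b, ← ncard_cl (b * a), ← Set.ncard_image_of_injective _ (mul_left_injective a)]
    exact Set.ncard_le_ncard hsub (Set.toFinite _)
  have := h.htop (b * a)
  omega

theorem BH.small (h : BH G m n) {b : G} (hb : cs b = m) : Small (NN G m) b := by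
  refine ⟨?_, ?_, ?_⟩
  · intro a ha; rw [hb]; exact ha
  · intro a ha; rw [hb]; exact h.lt_of_mem_NN ha
  · intro a ha
    right
    rw [h.cs_mul_of_mem_NN ha hb]
    exact (mem_NN.mp ha).symm

/-- the abelian normal subgroup generated by `NN` -/
abbrev LL (G : Type*) [Group G] (m : ℕ) : Subgroup G := KA (NN G m)

/-- `[LL, G]` -/
abbrev SS (G : Type*) [Group G] (m : ℕ) : Subgroup G := NA (NN G m)

theorem BH.LL_comm (h : BH G m n) {a b : G} (ha : a ∈ LL G m) (hb : b ∈ LL G m) :
    a * b = b * a := by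
  obtain ⟨y, hy⟩ := h.hexm
  exact (h.small hy).KA_comm ha hb

theorem BH.card_SS_dvd (h : BH G m n) : Nat.card (SS G m) ∣ m := by
  obtain ⟨y, hy⟩ := h.hexm
  have := (h.small hy).card_NA_dvd
  rwa [hy] at this

theorem BH.SS_comm_LL (h : BH G m n) {u k : G} (hu : u ∈ SS G m) (hk : k ∈ LL G m) :
    u * k = k * u := by
  obtain ⟨y, hy⟩ := h.hexm
  exact (h.small hy).NA_comm_KA hu hk

theorem mem_LL_of_mem_NN {a : G} (ha : a ∈ NN G m) : a ∈ LL G m := sub_KA ha

theorem center_le_LL : Subgroup.center G ≤ LL G m := by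
  intro z hz
  apply mem_LL_of_mem_NN
  rw [mem_NN, (cs_eq_one_iff z).mpr hz]
  exact Nat.coprime_one_left m

theorem BH.cs_mul_LL (h : BH G m n) {l b : G} (hl : l ∈ LL G m) (hb : cs b = m) :
    cs (b * l) = m := by
  set MM : Set G := {b | cs b = m} with hMM
  have hnorm : (rstab MM).Normal := by
    apply rstab_normal
    intro g x hx
    show cs (g * x * g⁻¹) = m
    rw [cs_conj]; exact hx
  have hle : LL G m ≤ rstab MM := by
    apply Subgroup.normalClosure_le_normal
    intro a ha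
    apply mem_rstab_of_forall
    intro x hx
    exact h.cs_mul_of_mem_NN ha hx
  exact (mem_rstab.mp (hle hl) b).mpr hb

theorem BH.cs_mul_LL' (h : BH G m n) {l b : G} (hl : l ∈ LL G m) (hb : cs b = m) :
    cs (l * b) = m := by
  have h1 : cs (l * b * l⁻¹) = m := by rw [cs_conj]; exact hb
  have h2 := h.cs_mul_LL hl h1
  have : l * b * l⁻¹ * l = l * b := by group
  rwa [this] at h2

theorem BH.one_lt_m (h : BH G m n) : 1 < m := lt_trans h.hn h.hmn

theorem BH.cs_lt_of_mem_LL (h : BH G m n) {l : G} (hl : l ∈ LL G m) : cs l < m := by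
  rcases Nat.lt_or_ge (cs l) m with h2 | h2
  · exact h2
  · exfalso
    have h3 : cs l = m := le_antisymm (h.htop l) h2
    have h4 := h.cs_mul_LL ((LL G m).inv_mem hl) h3
    rw [mul_inv_cancel, cs_one] at h4
    have := h.one_lt_m
    omega

theorem BH.cs_le_of_mem_LL (h : BH G m n) {l : G} (hl : l ∈ LL G m) : cs l ≤ n :=
  h.hsecond l (h.cs_lt_of_mem_LL hl)

/-- elements of `NN` of order coprime to `m` are central -/
theorem BH.central_of_coprime (h : BH G m n) {a : G} (ha : a ∈ NN G m)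
    (hco : (orderOf a).Coprime m) : a ∈ Subgroup.center G := by
  rw [Subgroup.mem_center_iff]
  intro g
  have haL : a ∈ LL G m := mem_LL_of_mem_NN ha
  have hw : a * g * a⁻¹ * g⁻¹ ∈ SS G m := (comm_mem_NA haL g).1
  have hcop : (orderOf a).Coprime (Nat.card (SS G m)) :=
    Nat.Coprime.coprime_dvd_right h.card_SS_dvd hco
  have h1 := pow_trick (SS G m) a g _ hw hcop (by group) (h.SS_comm_LL hw haL).symm
  have h2 : a * g = g * a := by
    have : a * g = (a * g * a⁻¹ * g⁻¹) * (g * a) := by group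
    rw [this, h1, one_mul]
  exact h2.symm

end sec1

-- ===== part B2 =====
open Cfsg.Agent.Lib.Helper30.CG

section sec2

variable {G : Type*} [Group G] [Finite G] {m n : ℕ}

theorem cs_le_cs_mul (b c : G) (hcop : (cs b).Coprime (cs c)) : cs c ≤ cs (c * b) := by
  have hsub : (fun y => y * b) '' cl c ⊆ cl (c * b) := by
    rintro _ ⟨y, ⟨a, rfl⟩, rfl⟩
    have := conj_mul_conj_mem_cl b c hcop a 1
    simpa using this
  rw [← ncard_cl c, ← ncard_cl (c * b), ← Set.ncard_image_of_injective _ (mul_left_injective b)]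
  exact Set.ncard_le_ncard hsub (Set.toFinite _)

theorem cs_dvd_of_le {a b : G}
    (hle : Subgroup.centralizer ({a} : Set G) ≤ Subgroup.centralizer ({b} : Set G)) :
    cs b ∣ cs a := Subgroup.index_dvd_of_le hle

theorem cs_eq_of_eq {a b : G}
    (he : Subgroup.centralizer ({a} : Set G) = Subgroup.centralizer ({b} : Set G)) :
    cs a = cs b := by unfold cs; rw [he]

theorem centralizer_central_mul {z d : G} (hz : z ∈ Subgroup.center G) :
    Subgroup.centralizer ({z * d} : Set G) = Subgroup.centralizer ({d} : Set G) := by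
  ext g
  rw [Subgroup.mem_centralizer_singleton_iff, Subgroup.mem_centralizer_singleton_iff]
  have hzg : g * z = z * g := (Subgroup.mem_center_iff.mp hz g)
  constructor
  · intro h1
    have : z * (g * d) = z * (d * g) := by
      calc z * (g * d) = g * (z * d) := by rw [← mul_assoc, ← hzg, mul_assoc]
        _ = z * d * g := h1
        _ = z * (d * g) := mul_assoc _ _ _
    exact mul_left_cancel this
  · intro h1
    calc g * (z * d) = z * (g * d) := by rw [← mul_assoc, hzg, mul_assoc]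
      _ = z * (d * g) := by rw [h1]
      _ = z * d * g := (mul_assoc _ _ _).symm

theorem BH.not_dvd_m (h : BH G m n) {q : ℕ} (hq : q.Prime) (hqn : q ∣ n) : ¬ q ∣ m := by
  intro hqm
  have := Nat.dvd_gcd hqm hqn
  rw [h.hcop] at this
  exact hq.one_lt.ne' (Nat.dvd_one.mp this)

theorem BH.n_mem_NN (h : BH G m n) {a : G} (ha : cs a ∣ n) : a ∈ NN G m :=
  Nat.Coprime.coprime_dvd_left ha h.hcop.symm

/-- E2 -/
theorem BH.cent_le_of_coprime_m (h : BH G m n) {b w : G} (hb : cs b = m) (hbw : Commute b w)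
    (hco : (orderOf b).Coprime (orderOf w)) :
    Subgroup.centralizer ({b} : Set G) ≤ Subgroup.centralizer ({w} : Set G) := by
  have hc := Cfsg.Agent.S4127.centralizer_mul_of_coprime b w hbw hco
  have hle : Subgroup.centralizer ({b * w} : Set G) ≤ Subgroup.centralizer ({b} : Set G) := by
    rw [hc]; exact inf_le_left
  have h1 : cs b ∣ cs (b * w) := cs_dvd_of_le hle
  have h2 : cs (b * w) = cs b := by
    have h3 := h.htop (b * w)
    have h4 := Nat.le_of_dvd (cs_pos _) h1
    omega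
  have h5 := eq_of_le_of_index_eq hle h2
  rw [← h5, hc]; exact inf_le_right

/-- E3 -/
theorem BH.cent_le_of_coprime_n (h : BH G m n) {a w : G} (ha : cs a = n) (haw : Commute a w)
    (hco : (orderOf a).Coprime (orderOf w)) :
    Subgroup.centralizer ({a} : Set G) ≤ Subgroup.centralizer ({w} : Set G) := by
  have hc := Cfsg.Agent.S4127.centralizer_mul_of_coprime a w haw hco
  have hle : Subgroup.centralizer ({a * w} : Set G) ≤ Subgroup.centralizer ({a} : Set G) := by
    rw [hc]; exact inf_le_left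
  have h1 : cs a ∣ cs (a * w) := cs_dvd_of_le hle
  have h2 : cs (a * w) = cs a := by
    have h3 := h.htop (a * w)
    have h4 := Nat.le_of_dvd (cs_pos _) h1
    rcases Nat.lt_or_ge (cs (a * w)) m with h6 | h6
    · have := h.hsecond _ h6
      omega
    · exfalso
      have h7 : cs (a * w) = m := le_antisymm h3 h6
      rw [h7, ha] at h1
      have h8 := Nat.dvd_gcd h1 (dvd_refl n)
      rw [h.hcop] at h8
      have := h.hn
      have := Nat.dvd_one.mp h8
      omega
  have h5 := eq_of_le_of_index_eq hle h2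
  rw [← h5, hc]; exact inf_le_right

theorem coprime_of_qelt {q : ℕ} (hq : q.Prime) {w c : G} {k : ℕ} (hwk : w ^ (q ^ k) = 1)
    (hc : ¬ q ∣ orderOf c) : (orderOf c).Coprime (orderOf w) := by
  have h1 : orderOf w ∣ q ^ k := orderOf_dvd_of_pow_eq_one hwk
  have h2 : (orderOf c).Coprime q := ((Nat.Prime.coprime_iff_not_dvd hq).mpr hc).symm
  exact Nat.Coprime.coprime_dvd_right h1 (Nat.Coprime.pow_right k h2)

theorem BH.qelt_NN_central (h : BH G m n) {q : ℕ} (hq : q.Prime) (hqm : ¬ q ∣ m) {a : G}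
    (ha : a ∈ NN G m) {k : ℕ} (hak : a ^ (q ^ k) = 1) : a ∈ Subgroup.center G := by
  apply h.central_of_coprime ha
  exact (Nat.Coprime.pow_left k ((Nat.Prime.coprime_iff_not_dvd hq).mpr hqm)).coprime_dvd_left
    (orderOf_dvd_of_pow_eq_one hak)

variable {x : G}

theorem BH.x_mem_NN (h : BH G m n) (hx : cs x = n) : x ∈ NN G m :=
  h.n_mem_NN (by rw [hx])

theorem BH.x_mem_LL (h : BH G m n) (hx : cs x = n) : x ∈ LL G m :=
  mem_LL_of_mem_NN (h.x_mem_NN hx)

theorem BH.LL_le_Cx (h : BH G m n) (hx : cs x = n) :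
    LL G m ≤ Subgroup.centralizer ({x} : Set G) := by
  intro l hl
  rw [Subgroup.mem_centralizer_singleton_iff]
  exact h.LL_comm hl (h.x_mem_LL hx)

theorem BH.exists_qfree_x (h : BH G m n) (hx : cs x = n) {q : ℕ} (hq : q.Prime) (hqm : ¬ q ∣ m) :
    ∃ x₀ : G, Subgroup.centralizer ({x₀} : Set G) = Subgroup.centralizer ({x} : Set G) ∧
      ¬ q ∣ orderOf x₀ := by
  obtain ⟨x₁, hx₁, x₂, hx₂, hxx, ⟨k, hk⟩, hx₂q⟩ := qsplit q hq x
  have h1 : x₁ ∈ NN G m := by
    apply h.n_mem_NN
    rw [← hx]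
    exact cs_dvd_of_le (centralizer_le_of_mem_zpowers hx₁)
  have h2 : x₁ ∈ Subgroup.center G := h.qelt_NN_central hq hqm h1 hk
  refine ⟨x₂, ?_, hx₂q⟩
  rw [hxx, centralizer_central_mul h2]

/-- Step 5' -/
theorem BH.qelt_Cx_central (h : BH G m n) (hx : cs x = n) {q : ℕ} (hq : q.Prime) (hqm : ¬ q ∣ m)
    {w : G} (hw : w ∈ Subgroup.centralizer ({x} : Set G)) {k : ℕ} (hwk : w ^ (q ^ k) = 1) :
    w ∈ Subgroup.center G := by
  obtain ⟨x₀, hx₀, hx₀q⟩ := h.exists_qfree_x hx hq hqm
  have hcs : cs x₀ = n := by rw [cs_eq_of_eq hx₀, hx]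
  rw [← hx₀, Subgroup.mem_centralizer_singleton_iff] at hw
  have hcomm : Commute x₀ w := hw.symm
  have hle := h.cent_le_of_coprime_n hcs hcomm (coprime_of_qelt hq hwk hx₀q)
  have h1 : w ∈ NN G m := by
    apply h.n_mem_NN
    rw [← hcs]
    exact cs_dvd_of_le hle
  exact h.qelt_NN_central hq hqm h1 hwk

theorem BH.exists_qfree (h : BH G m n) (hx : cs x = n) {q : ℕ} (hq : q.Prime) (hqm : ¬ q ∣ m)
    {d : G} (hd : d ∈ Subgroup.centralizer ({x} : Set G)) :
    ∃ z ∈ Subgroup.center G, ∃ d₂ ∈ Subgroup.centralizer ({x} : Set G),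
      d = z * d₂ ∧ ¬ q ∣ orderOf d₂ ∧ d₂ ∈ Subgroup.zpowers d := by
  obtain ⟨d₁, hd₁, d₂, hd₂, hdd, ⟨k, hk⟩, hd₂q⟩ := qsplit q hq d
  have hzp : Subgroup.zpowers d ≤ Subgroup.centralizer ({x} : Set G) := by
    rw [Subgroup.zpowers_le]; exact hd
  exact ⟨d₁, h.qelt_Cx_central hx hq hqm (hzp hd₁) hk, d₂, hzp hd₂, hdd, hd₂q, hd₂⟩

/-- Step 4 -/
theorem BH.cs_ne_m_of_mem_Cx (h : BH G m n) (hx : cs x = n) {c : G}
    (hc : c ∈ Subgroup.centralizer ({x} : Set G)) : cs c ≠ m := by
  intro hcm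
  have hn1 : n ≠ 1 := by have := h.hn; omega
  set q := n.minFac with hqdef
  have hq : q.Prime := Nat.minFac_prime hn1
  have hqn : q ∣ n := Nat.minFac_dvd n
  have hqm : ¬ q ∣ m := h.not_dvd_m hq hqn
  obtain ⟨z, hz, c₂, hc₂, hcc, hc₂q, -⟩ := h.exists_qfree hx hq hqm hc
  have hcent : Subgroup.centralizer ({c} : Set G) = Subgroup.centralizer ({c₂} : Set G) := by
    rw [hcc, centralizer_central_mul hz]
  have hc₂m : cs c₂ = m := by rw [← cs_eq_of_eq hcent]; exact hcm
  have hxc₂ : x ∈ Subgroup.centralizer ({c₂} : Set G) := by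
    rw [Subgroup.mem_centralizer_singleton_iff] at hc₂ ⊢
    exact hc₂.symm
  have hsyl := sylAr (Subgroup.centralizer ({c₂} : Set G)) (Subgroup.centralizer ({x} : Set G)) q hq
    (by
      rintro g hg ⟨k, hk⟩
      have hcomm : Commute c₂ g := by
        rw [Subgroup.mem_centralizer_singleton_iff] at hg
        exact hg.symm
      have hle := h.cent_le_of_coprime_m hc₂m hcomm (coprime_of_qelt hq hk hc₂q)
      have := hle hxc₂
      rw [Subgroup.mem_centralizer_singleton_iff] at this ⊢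
      exact this.symm)
  have h1 : (Subgroup.centralizer ({x} : Set G)).index = n := hx
  have h2 : (Subgroup.centralizer ({c₂} : Set G)).index = m := hc₂m
  rw [h1, h2, Nat.factorization_eq_zero_of_not_dvd hqm] at hsyl
  have hn0 : n ≠ 0 := by have := h.hn; omega
  have := Nat.Prime.factorization_pos_of_dvd hq hn0 hqn
  omega

theorem BH.cs_le_n_of_mem_Cx (h : BH G m n) (hx : cs x = n) {c : G}
    (hc : c ∈ Subgroup.centralizer ({x} : Set G)) : cs c ≤ n := by
  apply h.hsecond
  have := h.htop c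
  have := h.cs_ne_m_of_mem_Cx hx hc
  omega

/-- (★') -/
theorem BH.mem_LL_of_coprime_n (h : BH G m n) (hx : cs x = n) {d : G}
    (hd : d ∈ Subgroup.centralizer ({x} : Set G)) (hco : (cs d).Coprime n) : d ∈ LL G m := by
  have h1 : n ≤ cs (x * d) := by
    have := cs_le_cs_mul d x (by rw [hx]; exact hco)
    rwa [hx] at this
  have hxd : x * d ∈ Subgroup.centralizer ({x} : Set G) :=
    Subgroup.mul_mem _ (Subgroup.mem_centralizer_singleton_iff.mpr rfl) hd
  have h2 := h.cs_le_n_of_mem_Cx hx hxd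
  have h3 : cs (x * d) = n := le_antisymm h2 h1
  have h4 : x * d ∈ LL G m := mem_LL_of_mem_NN (h.n_mem_NN (by rw [h3]))
  have h5 := (LL G m).mul_mem ((LL G m).inv_mem (h.x_mem_LL hx)) h4
  rwa [inv_mul_cancel_left] at h5

end sec2

-- ===== part B3 =====
open Cfsg.Agent.Lib.Helper30.CG

section sec3

variable {G : Type*} [Group G] [Finite G] {m n : ℕ} {x : G}

/-- Lemma G' -/
theorem BH.cs_eq_m_of_qelt (h : BH G m n) (hx : cs x = n) {q : ℕ} (hq : q.Prime) (hqm : ¬ q ∣ m)
    {u : G} {k : ℕ} (huk : u ^ (q ^ k) = 1) (hu : u ∉ Subgroup.centralizer ({x} : Set G)) :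
    cs u = m := by
  obtain ⟨x₀, hx₀, hx₀q⟩ := h.exists_qfree_x hx hq hqm
  have hcs₀ : cs x₀ = n := by rw [cs_eq_of_eq hx₀, hx]
  have hx₀L : x₀ ∈ LL G m := h.x_mem_LL hcs₀
  have hL : ∀ a ∈ LL G m, ∀ b ∈ LL G m, a * b = b * a := fun a ha b hb => h.LL_comm ha hb
  set N := torsionIn (LL G m) hL (orderOf x₀) with hN
  have hNn : N.Normal := torsionIn_normal _ hL _
  have hx₀N : x₀ ∈ N := ⟨hx₀L, pow_orderOf_eq_one x₀⟩
  have hNL : N ≤ LL G m := torsionIn_le _ hL _
  have hc : ∀ a ∈ N, ∀ b ∈ N, a * b = b * a := fun a ha b hb => hL a (hNL ha) b (hNL hb)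
  have hcardq : (Nat.card N).Coprime q := card_torsionIn_coprime _ hL _ q hq hx₀q
  have hcop : (orderOf u).Coprime (Nat.card N) :=
    (Nat.Coprime.pow_right k hcardq).symm.coprime_dvd_left (orderOf_dvd_of_pow_eq_one huk)
  have hNx : N ≤ Subgroup.centralizer ({x₀} : Set G) := by
    rw [hx₀]; exact hNL.trans (h.LL_le_Cx hx)
  have hux : u * x₀ ≠ x₀ * u := by
    intro h1
    apply hu
    rw [← hx₀, Subgroup.mem_centralizer_singleton_iff]
    exact h1
  obtain ⟨c, hcN, huc, hlt⟩ := coprime_act N hc u hcop x₀ hx₀N hNx hux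
  have hcoc : (orderOf u).Coprime (orderOf c) :=
    Nat.Coprime.coprime_dvd_right (Subgroup.orderOf_dvd_natCard N hcN) hcop
  have hcent := Cfsg.Agent.S4127.centralizer_mul_of_coprime u c huc hcoc
  have h1 : n < cs (u * c) := by
    have : cs (u * c) = (Subgroup.centralizer ({u} : Set G) ⊓
        Subgroup.centralizer ({c} : Set G)).index := by unfold cs; rw [hcent]
    rw [this, ← hcs₀]
    exact hlt
  have h2 : cs (u * c) = m := by
    rcases Nat.lt_or_ge (cs (u * c)) m with h3 | h3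
    · have := h.hsecond _ h3; omega
    · exact le_antisymm (h.htop _) h3
  have h3 := h.cs_mul_LL ((LL G m).inv_mem (hNL hcN)) h2
  rwa [mul_inv_cancel_right] at h3

/-- Step 10 -/
theorem BH.Cx_le_LL (h : BH G m n) (hx : cs x = n) :
    Subgroup.centralizer ({x} : Set G) ≤ LL G m := by
  intro d hd
  by_cases hex : ∃ q : ℕ, q.Prime ∧ ¬ q ∣ m ∧ ∃ (u : G) (k : ℕ), u ^ (q ^ k) = 1 ∧
      u ∉ Subgroup.center G ∧ Commute d u
  · obtain ⟨q, hq, hqm, u, k, huk, huZ, hdu⟩ := hex
    have huC : u ∉ Subgroup.centralizer ({x} : Set G) :=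
      fun hmem => huZ (h.qelt_Cx_central hx hq hqm hmem huk)
    have hum : cs u = m := h.cs_eq_m_of_qelt hx hq hqm huk huC
    obtain ⟨z, hz, d₂, hd₂, hdd, hd₂q, hd₂z⟩ := h.exists_qfree hx hq hqm hd
    have hud₂ : Commute u d₂ := by
      have h1 : u ∈ Subgroup.centralizer ({d} : Set G) := by
        rw [Subgroup.mem_centralizer_singleton_iff]; exact hdu.symm.eq
      have h2 := centralizer_le_of_mem_zpowers hd₂z h1
      rw [Subgroup.mem_centralizer_singleton_iff] at h2
      exact h2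
    have hle := h.cent_le_of_coprime_m hum hud₂ (coprime_of_qelt hq huk hd₂q).symm
    have h3 : cs d₂ ∣ m := by rw [← hum]; exact cs_dvd_of_le hle
    have h4 : d₂ ∈ LL G m :=
      h.mem_LL_of_coprime_n hx hd₂ (Nat.Coprime.coprime_dvd_left h3 h.hcop)
    rw [hdd]
    exact (LL G m).mul_mem (center_le_LL hz) h4
  · push Not at hex
    have hn0 : n ≠ 0 := by have := h.hn; omega
    have hcs0 : cs d ≠ 0 := (cs_pos d).ne'
    have hdvd : n ∣ cs d := by
      rw [← Nat.factorization_prime_le_iff_dvd hn0 hcs0]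
      intro p hp
      by_cases hpn : p ∣ n
      · have hpm : ¬ p ∣ m := h.not_dvd_m hp hpn
        have hsyl := sylAr (Subgroup.centralizer ({d} : Set G))
          (Subgroup.centralizer ({x} : Set G)) p hp (by
            rintro g hg ⟨k, hk⟩
            have hdg : Commute d g := by
              rw [Subgroup.mem_centralizer_singleton_iff] at hg
              exact hg.symm
            by_contra hgx
            have hgZ : g ∉ Subgroup.center G :=
              fun hmem => hgx (Subgroup.center_le_centralizer _ hmem)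
            exact hgZ (by
              by_contra hgZ'
              exact (hex p hp hpm g k hk hgZ') hdg))
        have h1 : (Subgroup.centralizer ({x} : Set G)).index = n := hx
        rw [h1] at hsyl
        exact hsyl
      · rw [Nat.factorization_eq_zero_of_not_dvd hpn]
        exact Nat.zero_le _
    have h1 := Nat.le_of_dvd (cs_pos d) hdvd
    have h2 := h.cs_le_n_of_mem_Cx hx hd
    have h3 : cs d = n := le_antisymm h2 h1
    exact mem_LL_of_mem_NN (h.n_mem_NN (by rw [h3]))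

theorem BH.Cx_eq_LL (h : BH G m n) (hx : cs x = n) :
    Subgroup.centralizer ({x} : Set G) = LL G m :=
  le_antisymm (h.Cx_le_LL hx) (h.LL_le_Cx hx)

theorem BH.Cx_normal (h : BH G m n) (hx : cs x = n) :
    (Subgroup.centralizer ({x} : Set G)).Normal := by
  rw [h.Cx_eq_LL hx]; infer_instance

theorem BH.Cx_comm (h : BH G m n) (hx : cs x = n) {a b : G}
    (ha : a ∈ Subgroup.centralizer ({x} : Set G)) (hb : b ∈ Subgroup.centralizer ({x} : Set G)) :
    a * b = b * a := by
  rw [h.Cx_eq_LL hx] at ha hb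
  exact h.LL_comm ha hb

/-- (PP) -/
theorem BH.exists_qelt_not_mem (h : BH G m n) (hx : cs x = n) {b : G}
    (hb : b ∉ Subgroup.centralizer ({x} : Set G)) :
    ∃ q : ℕ, q.Prime ∧ ¬ q ∣ m ∧ ∃ k j : ℕ, b ^ k ∉ Subgroup.centralizer ({x} : Set G) ∧
      (b ^ k) ^ (q ^ j) = 1 := by
  have := h.Cx_normal hx
  obtain ⟨q, hq, hqn, k, j, h1, h2⟩ := exists_qpow_not_mem (Subgroup.centralizer ({x} : Set G)) b hb
  have hidx : (Subgroup.centralizer ({x} : Set G)).index = n := hx
  rw [hidx] at hqn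
  exact ⟨q, hq, h.not_dvd_m hq hqn, k, j, h1, h2⟩

/-- P2 -/
theorem BH.cs_eq_m_of_not_mem (h : BH G m n) (hx : cs x = n) {b : G}
    (hb : b ∉ Subgroup.centralizer ({x} : Set G)) : cs b = m := by
  obtain ⟨q, hq, hqm, k, j, h1, h2⟩ := h.exists_qelt_not_mem hx hb
  have h3 := h.cs_eq_m_of_qelt hx hq hqm h2 h1
  have h4 : cs (b ^ k) ∣ cs b := cs_dvd_of_le (centralizer_le_pow b k)
  rw [h3] at h4
  have := Nat.le_of_dvd (cs_pos b) h4
  exact le_antisymm (h.htop b) this

/-- (K') -/
theorem BH.central_of_commute_qelt (h : BH G m n) (hx : cs x = n) {q : ℕ} (hq : q.Prime)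
    (hqm : ¬ q ∣ m) {u : G} {k : ℕ} (huk : u ^ (q ^ k) = 1)
    (hu : u ∉ Subgroup.centralizer ({x} : Set G)) {d : G}
    (hd : d ∈ Subgroup.centralizer ({x} : Set G)) (hdu : Commute d u) :
    d ∈ Subgroup.center G := by
  have hum : cs u = m := h.cs_eq_m_of_qelt hx hq hqm huk hu
  obtain ⟨z, hz, d₂, hd₂, hdd, hd₂q, hd₂z⟩ := h.exists_qfree hx hq hqm hd
  have hud₂ : Commute u d₂ := by
    have h1 : u ∈ Subgroup.centralizer ({d} : Set G) := by
      rw [Subgroup.mem_centralizer_singleton_iff]; exact hdu.symm.eq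
    have h2 := centralizer_le_of_mem_zpowers hd₂z h1
    rw [Subgroup.mem_centralizer_singleton_iff] at h2
    exact h2
  have hle := h.cent_le_of_coprime_m hum hud₂ (coprime_of_qelt hq huk hd₂q).symm
  have hd₂Z : d₂ ∈ Subgroup.center G := by
    rw [Subgroup.mem_center_iff]
    intro g
    have hcop : (Subgroup.centralizer ({x} : Set G)).index.Coprime
        (Subgroup.centralizer ({u} : Set G)).index := by
      have e1 : (Subgroup.centralizer ({x} : Set G)).index = n := hx
      have e2 : (Subgroup.centralizer ({u} : Set G)).index = m := hum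
      rw [e1, e2]; exact h.hcop.symm
    obtain ⟨a, ha, b, hb, rfl⟩ := Cfsg.Agent.Lib.Helper9.exists_mul_of_coprime_index _ _ hcop g
    have h1 : a * d₂ = d₂ * a := h.Cx_comm hx ha hd₂
    have h2 : b * d₂ = d₂ * b := by
      have := hle hb
      rw [Subgroup.mem_centralizer_singleton_iff] at this
      exact this
    rw [mul_assoc, h2, ← mul_assoc, h1, mul_assoc]
  rw [hdd]
  exact Subgroup.mul_mem _ hz hd₂Z

/-- (K) -/
theorem BH.central_of_commute (h : BH G m n) (hx : cs x = n) {b : G}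
    (hb : b ∉ Subgroup.centralizer ({x} : Set G)) {d : G}
    (hd : d ∈ Subgroup.centralizer ({x} : Set G)) (hdb : Commute d b) :
    d ∈ Subgroup.center G := by
  obtain ⟨q, hq, hqm, k, j, h1, h2⟩ := h.exists_qelt_not_mem hx hb
  exact h.central_of_commute_qelt hx hq hqm h2 h1 hd (hdb.pow_right k)

end sec3

-- ===== part B4 =====
open Cfsg.Agent.Lib.Helper30.CG
open Cfsg.Agent.S4134 (CentralConj)

section sec4

variable {G : Type*} [Group G] [Finite G] {m n : ℕ} {x y : G}

theorem BH.y_not_mem_Cx (h : BH G m n) (hx : cs x = n) (hy : cs y = m) :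
    y ∉ Subgroup.centralizer ({x} : Set G) := fun hmem => h.cs_ne_m_of_mem_Cx hx hmem hy

/-- T3 -/
theorem BH.Cx_inf_Cy (h : BH G m n) (hx : cs x = n) (hy : cs y = m) :
    Subgroup.centralizer ({x} : Set G) ⊓ Subgroup.centralizer ({y} : Set G) =
      Subgroup.center G := by
  apply le_antisymm
  · intro d hd
    rw [Subgroup.mem_inf] at hd
    have hdy : Commute d y := by
      have := hd.2
      rw [Subgroup.mem_centralizer_singleton_iff] at this
      exact this
    exact h.central_of_commute hx (h.y_not_mem_Cx hx hy) hd.1 hdy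
  · exact le_inf (Subgroup.center_le_centralizer _) (Subgroup.center_le_centralizer _)

theorem BH.coprime_idx (h : BH G m n) (hx : cs x = n) {u : G} (hu : cs u = m) :
    (Subgroup.centralizer ({x} : Set G)).index.Coprime
      (Subgroup.centralizer ({u} : Set G)).index := by
  have e1 : (Subgroup.centralizer ({x} : Set G)).index = n := hx
  have e2 : (Subgroup.centralizer ({u} : Set G)).index = m := hu
  rw [e1, e2]; exact h.hcop.symm

/-- a `q`-element of `C(y)` outside `C(x)` is central in `C(y)` -/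
theorem BH.Cy_le_of_qelt (h : BH G m n) (hx : cs x = n) (hy : cs y = m) {q : ℕ} (hq : q.Prime)
    (hqm : ¬ q ∣ m) {u : G} {j : ℕ} (huj : u ^ (q ^ j) = 1)
    (hu : u ∉ Subgroup.centralizer ({x} : Set G))
    (huy : u ∈ Subgroup.centralizer ({y} : Set G)) :
    Subgroup.centralizer ({y} : Set G) ≤ Subgroup.centralizer ({u} : Set G) := by
  have hum : cs u = m := h.cs_eq_m_of_qelt hx hq hqm huj hu
  have hnorm := h.Cx_normal hx
  intro v hv
  rw [Subgroup.mem_centralizer_singleton_iff]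
  obtain ⟨d, hd, c, hc, rfl⟩ := Cfsg.Agent.Lib.Helper9.exists_mul_of_coprime_index _ _
    (h.coprime_idx hx hum) v
  obtain ⟨z, hz, d₂, hd₂, hdd, hd₂q, -⟩ := h.exists_qfree hx hq hqm hd
  have hcu : c * u = u * c := by
    rw [Subgroup.mem_centralizer_singleton_iff] at hc; exact hc
  have hzu : z * u = u * z := (Subgroup.mem_center_iff.mp hz u).symm
  set w := d₂ * u * d₂⁻¹ * u⁻¹ with hw
  -- w ∈ Cx
  have hwx : w ∈ Subgroup.centralizer ({x} : Set G) := by
    have h1 : u * d₂⁻¹ * u⁻¹ ∈ Subgroup.centralizer ({x} : Set G) :=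
      hnorm.conj_mem _ (Subgroup.inv_mem _ hd₂) u
    have h2 := Subgroup.mul_mem _ hd₂ h1
    have : d₂ * (u * d₂⁻¹ * u⁻¹) = w := by rw [hw]; group
    rwa [this] at h2
  -- (d*c) u (d*c)⁻¹ = w u
  have hconj : (d * c) * u * (d * c)⁻¹ = w * u := by
    have h1 : c * u * c⁻¹ = u := by rw [hcu]; group
    have h2 : z * u * z⁻¹ = u := by rw [hzu]; group
    calc (d * c) * u * (d * c)⁻¹ = d * (c * u * c⁻¹) * d⁻¹ := by group
      _ = d * u * d⁻¹ := by rw [h1]
      _ = z * d₂ * u * (z * d₂)⁻¹ := by rw [hdd]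
      _ = d₂ * (z * u * z⁻¹) * d₂⁻¹ := by
        have hzd : z * d₂ = d₂ * z := (Subgroup.mem_center_iff.mp hz d₂).symm
        rw [hzd]; group
      _ = d₂ * u * d₂⁻¹ := by rw [h2]
      _ = w * u := by rw [hw]; group
  -- w ∈ Cy
  have hwy : w ∈ Subgroup.centralizer ({y} : Set G) := by
    have h1 : (d * c) * u * (d * c)⁻¹ ∈ Subgroup.centralizer ({y} : Set G) :=
      Subgroup.mul_mem _ (Subgroup.mul_mem _ hv huy) (Subgroup.inv_mem _ hv)
    have h2 := Subgroup.mul_mem _ h1 (Subgroup.inv_mem _ huy)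
    rwa [hconj, mul_inv_cancel_right] at h2
  have hwZ : w ∈ Subgroup.center G := by
    rw [← h.Cx_inf_Cy hx hy]; exact ⟨hwx, hwy⟩
  have hCC : CentralConj u d₂ w := ⟨hwZ, by rw [hw]; group⟩
  have hw1 : w ^ (q ^ j) = 1 :=
    hCC.pow_eq_one (q ^ j) (by rw [huj]; exact Subgroup.one_mem _)
  have hw2 : w ^ (orderOf d₂) = 1 := by
    have h1 := hCC.pow (orderOf d₂)
    rw [pow_orderOf_eq_one] at h1
    have h2 := h1.2
    rw [one_mul, inv_one, mul_one] at h2
    exact (mul_eq_right.mp h2.symm)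
  have hw3 : w = 1 := by
    have h1 : (orderOf d₂).Coprime (orderOf w) := coprime_of_qelt hq hw1 hd₂q
    have h2 : orderOf w ∣ orderOf d₂ := orderOf_dvd_of_pow_eq_one hw2
    exact orderOf_eq_one_iff.mp (Nat.Coprime.eq_one_of_dvd h1.symm h2)
  rw [hw3, one_mul] at hconj
  calc d * c * u = ((d * c) * u * (d * c)⁻¹) * (d * c) := by group
    _ = u * (d * c) := by rw [hconj]

/-- `C(y)` is abelian -/
theorem BH.Cy_comm (h : BH G m n) (hx : cs x = n) (hy : cs y = m) {u v : G}
    (hu : u ∈ Subgroup.centralizer ({y} : Set G)) (hv : v ∈ Subgroup.centralizer ({y} : Set G)) :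
    u * v = v * u := by
  by_cases hux : u ∈ Subgroup.centralizer ({x} : Set G)
  · have : u ∈ Subgroup.center G := by rw [← h.Cx_inf_Cy hx hy]; exact ⟨hux, hu⟩
    exact (Subgroup.mem_center_iff.mp this v).symm
  · obtain ⟨q, hq, hqm, k, j, h1, h2⟩ := h.exists_qelt_not_mem hx hux
    have hu₁y : u ^ k ∈ Subgroup.centralizer ({y} : Set G) := Subgroup.pow_mem _ hu k
    have hle := h.Cy_le_of_qelt hx hy hq hqm h2 h1 hu₁y
    have hu₁m : cs (u ^ k) = m := h.cs_eq_m_of_qelt hx hq hqm h2 h1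
    have heq : Subgroup.centralizer ({y} : Set G) = Subgroup.centralizer ({u ^ k} : Set G) :=
      eq_of_le_of_index_eq hle (by
        have e1 : (Subgroup.centralizer ({y} : Set G)).index = m := hy
        have e2 : (Subgroup.centralizer ({u ^ k} : Set G)).index = m := hu₁m
        rw [e1, e2])
    have hum : cs u = m := h.cs_eq_m_of_not_mem hx hux
    have hle2 : Subgroup.centralizer ({u} : Set G) ≤ Subgroup.centralizer ({y} : Set G) := by
      rw [heq]; exact centralizer_le_pow u k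
    have heq2 : Subgroup.centralizer ({u} : Set G) = Subgroup.centralizer ({y} : Set G) :=
      eq_of_le_of_index_eq hle2 (by
        have e1 : (Subgroup.centralizer ({y} : Set G)).index = m := hy
        have e2 : (Subgroup.centralizer ({u} : Set G)).index = m := hum
        rw [e1, e2])
    rw [← heq2, Subgroup.mem_centralizer_singleton_iff] at hv
    exact hv.symm

/-- (F) -/
theorem BH.central_of_comm_central (h : BH G m n) (hx : cs x = n) (hy : cs y = m) {c d : G}
    (hc : c ∈ Subgroup.centralizer ({y} : Set G)) (hcZ : c ∉ Subgroup.center G)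
    (hd : d ∈ Subgroup.centralizer ({x} : Set G))
    (hcd : c * d * c⁻¹ * d⁻¹ ∈ Subgroup.center G) : d ∈ Subgroup.center G := by
  have hcx : c ∉ Subgroup.centralizer ({x} : Set G) := by
    intro hmem
    apply hcZ
    rw [← h.Cx_inf_Cy hx hy]; exact ⟨hmem, hc⟩
  obtain ⟨q, hq, hqm, k, j, h1, h2⟩ := h.exists_qelt_not_mem hx hcx
  obtain ⟨z, hz, d₂, hd₂, hdd, hd₂q, -⟩ := h.exists_qfree hx hq hqm hd
  have hcd₂ : c * d₂ * c⁻¹ * d₂⁻¹ ∈ Subgroup.center G := by
    have hzc : z * c = c * z := (Subgroup.mem_center_iff.mp hz c).symm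
    have hzd : z * d₂ = d₂ * z := (Subgroup.mem_center_iff.mp hz d₂).symm
    have : c * d * c⁻¹ * d⁻¹ = c * d₂ * c⁻¹ * d₂⁻¹ := by
      rw [hdd]
      calc c * (z * d₂) * c⁻¹ * (z * d₂)⁻¹ = (c * z) * d₂ * c⁻¹ * (d₂⁻¹ * z⁻¹) := by group
        _ = (z * c) * d₂ * c⁻¹ * (d₂⁻¹ * z⁻¹) := by rw [hzc]
        _ = z * (c * d₂ * c⁻¹ * d₂⁻¹) * z⁻¹ := by group
        _ = (c * d₂ * c⁻¹ * d₂⁻¹) * z * z⁻¹ := by
          rw [(Subgroup.mem_center_iff.mp hz (c * d₂ * c⁻¹ * d₂⁻¹))]
        _ = c * d₂ * c⁻¹ * d₂⁻¹ := by group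
    rwa [this] at hcd
  have hCC := (CentralConj.mk' d₂ c hcd₂).pow k
  set ξ := (c * d₂ * c⁻¹ * d₂⁻¹) ^ k with hξ
  have hξ1 : ξ ^ (orderOf d₂) = 1 :=
    hCC.pow_eq_one (orderOf d₂) (by rw [pow_orderOf_eq_one]; exact Subgroup.one_mem _)
  have hξ2 : ξ ^ (q ^ j) = 1 := by
    have h3 := hCC.pow (q ^ j)
    rw [h2] at h3
    have h4 := h3.2
    rw [one_mul, inv_one, mul_one] at h4
    exact (mul_eq_right.mp h4.symm)
  have hξ3 : ξ = 1 := by
    have h3 : (orderOf d₂).Coprime (orderOf ξ) := coprime_of_qelt hq hξ2 hd₂q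
    have h4 : orderOf ξ ∣ orderOf d₂ := orderOf_dvd_of_pow_eq_one hξ1
    exact orderOf_eq_one_iff.mp (Nat.Coprime.eq_one_of_dvd h3.symm h4)
  rw [hξ3] at hCC
  have hcomm : Commute d₂ (c ^ k) := (hCC.commute_of_eq_one).symm
  have hd₂Z := h.central_of_commute_qelt hx hq hqm h2 h1 hd₂ hcomm
  rw [hdd]
  exact Subgroup.mul_mem _ hz hd₂Z

end sec4

-- ===== part B5 =====
open Cfsg.Agent.Lib.Helper30.CG
open Cfsg.Agent.S4134 (CentralConj)
open scoped Pointwise

section sec5

variable {G : Type*} [Group G] [Finite G] {m n : ℕ} {x y : G}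

theorem BH.frobenius (h : BH G m n) (hx : cs x = n) (hy : cs y = m) :
    Cfsg.IsFrobeniusComplement
      ((Subgroup.centralizer ({y} : Set G)).map (QuotientGroup.mk' (Subgroup.center G))) ∧
    Cfsg.frobeniusKernel
      ((Subgroup.centralizer ({y} : Set G)).map (QuotientGroup.mk' (Subgroup.center G))) =
      ((Subgroup.centralizer ({x} : Set G)).map (QuotientGroup.mk' (Subgroup.center G)) :
        Set (G ⧸ Subgroup.center G)) := by
  set Z := Subgroup.center G with hZ
  set π := QuotientGroup.mk' Z with hπ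
  set Cx := Subgroup.centralizer ({x} : Set G) with hCx
  set Cy := Subgroup.centralizer ({y} : Set G) with hCy
  set K := Cx.map π with hK
  set H := Cy.map π with hH
  have hπs : Function.Surjective π := QuotientGroup.mk'_surjective Z
  have hker : ∀ g : G, π g = 1 ↔ g ∈ Z := fun g => QuotientGroup.eq_one_iff g
  have hCxn : Cx.Normal := h.Cx_normal hx
  have hKn : K.Normal := Subgroup.Normal.map hCxn π hπs
  have hZx : Z ≤ Cx := Subgroup.center_le_centralizer _
  have hZy : Z ≤ Cy := Subgroup.center_le_centralizer _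
  have hinf : Cx ⊓ Cy = Z := h.Cx_inf_Cy hx hy
  -- membership in images
  have hmemK : ∀ g : G, π g ∈ K → g ∈ Cx := by
    rintro g ⟨d, hd, hdg⟩
    have h1 : π (d⁻¹ * g) = 1 := by rw [map_mul, map_inv, hdg, inv_mul_cancel]
    have h2 := hZx ((hker _).mp h1)
    have := Cx.mul_mem hd h2
    rwa [mul_inv_cancel_left] at this
  have hmemH : ∀ g : G, π g ∈ H → g ∈ Cy := by
    rintro g ⟨d, hd, hdg⟩
    have h1 : π (d⁻¹ * g) = 1 := by rw [map_mul, map_inv, hdg, inv_mul_cancel]
    have h2 := hZy ((hker _).mp h1)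
    have := Cy.mul_mem hd h2
    rwa [mul_inv_cancel_left] at this
  have hKC0 : ∀ g ∈ K, g ∈ H → g = 1 := by
    intro g hgK hgH
    obtain ⟨g', rfl⟩ := hπs g
    rw [hker, ← hinf]
    exact ⟨hmemK g' hgK, hmemH g' hgH⟩
  have hprod : ∀ g ∈ (⊤ : Subgroup (G ⧸ Z)), ∃ k ∈ K, ∃ c ∈ H, g = k * c := by
    intro g _
    obtain ⟨g', rfl⟩ := hπs g
    obtain ⟨a, ha, b, hb, rfl⟩ := Cfsg.Agent.Lib.Helper9.exists_mul_of_coprime_index _ _
      (h.coprime_idx hx hy) g'
    exact ⟨π a, ⟨a, ha, rfl⟩, π b, ⟨b, hb, rfl⟩, map_mul π a b⟩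
  have hfpf : ∀ k ∈ K, ∀ c ∈ H, c ≠ 1 → k * c = c * k → k = 1 := by
    intro k hk c hc hc1 hkc
    obtain ⟨d, rfl⟩ := hπs k
    obtain ⟨c', rfl⟩ := hπs c
    have hd : d ∈ Cx := hmemK d hk
    have hc' : c' ∈ Cy := hmemH c' hc
    have hc'Z : c' ∉ Z := fun hmem => hc1 ((hker _).mpr hmem)
    have hcomm : c' * d * c'⁻¹ * d⁻¹ ∈ Z := by
      rw [← hker, map_mul, map_mul, map_mul, map_inv, map_inv, ← hkc]
      group
    rw [hker]
    exact h.central_of_comm_central hx hy hc' hc'Z hd hcomm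
  have hF2 := Cfsg.Agent.Lib.Helper34.frob_conj_inter (N := (⊤ : Subgroup (G ⧸ Z))) hKn hKC0 hprod hfpf
  have hF3 := Cfsg.Agent.Lib.Helper34.frob_exists_conj (N := (⊤ : Subgroup (G ⧸ Z))) hKn hprod hfpf
  refine ⟨⟨?_, ?_, ?_⟩, ?_⟩
  · intro hbot
    have h1 : π y ∈ H := ⟨y, Subgroup.mem_centralizer_singleton_iff.mpr rfl, rfl⟩
    rw [hbot, Subgroup.mem_bot, hker] at h1
    have h2 : cs y = 1 := (cs_eq_one_iff y).mpr h1
    have := h.one_lt_m
    omega
  · intro htop
    have h1 : π x ∈ H := by rw [htop]; exact Subgroup.mem_top _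
    have h2 : x ∈ Cy := hmemH x h1
    have h3 : x ∈ Z := by
      rw [← hinf]; exact ⟨Subgroup.mem_centralizer_singleton_iff.mpr rfl, h2⟩
    have h4 : cs x = 1 := (cs_eq_one_iff x).mpr h3
    have := h.hn
    omega
  · intro g hg
    rw [eq_bot_iff]
    intro w hw
    rw [Subgroup.mem_inf, Cfsg.Agent.Lib.Helper34.mem_conj_smul_iff] at hw
    rw [Subgroup.mem_bot]
    have hgC : g⁻¹ ∉ H := by
      intro h1
      apply hg
      have := H.inv_mem h1
      rwa [inv_inv] at this
    apply hF2 g⁻¹ (Subgroup.mem_top _) hgC w hw.1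
    rw [inv_inv]
    exact hw.2
  · ext w
    rw [SetLike.mem_coe]
    constructor
    · rintro (hw1 | hw)
      · rw [hw1]; exact K.one_mem
      · by_contra hwK
        obtain ⟨g, hg, c, hc, hgc⟩ := hF3 w (Subgroup.mem_top _) hwK
        apply hw g
        rw [Cfsg.Agent.Lib.Helper34.mem_conj_smul_iff, hgc]
        have : g⁻¹ * (g * c * g⁻¹) * g = c := by group
        rw [this]
        exact hc
    · intro hw
      by_cases hw1 : w = 1
      · exact Or.inl hw1
      · right
        intro g hg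
        rw [Cfsg.Agent.Lib.Helper34.mem_conj_smul_iff] at hg
        have h1 : g⁻¹ * w * g ∈ K := by
          have := hKn.conj_mem w hw g⁻¹
          rwa [inv_inv] at this
        have h2 := hKC0 _ h1 hg
        apply hw1
        have : w = g * (g⁻¹ * w * g) * g⁻¹ := by group
        rw [this, h2]; group

end sec5


/-- Let G be a finite group whose two largest conjugacy class sizes m > n > 1 are coprime, and let x, y ∈ G have classes of sizes n and m respectively. Then C_G(x) and C_G(y) are abelian, and G/Z(G) is a Frobenius group with kernel C_G(x)/Z(G) and complement C_G(y)/Z(G). -/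
theorem result {G : Type*} [Group G] [Finite G] (m n : ℕ) (hmn : n < m) (hn : 1 < n)
    (hcop : m.Coprime n) (htop : ∀ z : G, (Subgroup.centralizer ({z} : Set G)).index ≤ m) (hsecond : ∀ z : G, (Subgroup.centralizer ({z} : Set G)).index < m → (Subgroup.centralizer ({z} : Set G)).index ≤ n)
    (x y : G) (hx : (Subgroup.centralizer ({x} : Set G)).index = n) (hy : (Subgroup.centralizer ({y} : Set G)).index = m) :
    IsMulCommutative (Subgroup.centralizer ({x} : Set G)) ∧ IsMulCommutative (Subgroup.centralizer ({y} : Set G)) ∧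
    Cfsg.IsFrobeniusComplement ((Subgroup.centralizer ({y} : Set G)).map (QuotientGroup.mk' (Subgroup.center G))) ∧
    Cfsg.frobeniusKernel ((Subgroup.centralizer ({y} : Set G)).map (QuotientGroup.mk' (Subgroup.center G))) =
      ((Subgroup.centralizer ({x} : Set G)).map (QuotientGroup.mk' (Subgroup.center G)) : Set (G ⧸ Subgroup.center G)) := by
  have h : BH G m n := ⟨hmn, hn, hcop, htop, hsecond, ⟨y, hy⟩⟩
  have hx' : cs x = n := hx
  have hy' : cs y = m := hy
  exact ⟨⟨⟨fun a b => Subtype.ext (h.Cx_comm hx' a.2 b.2)⟩⟩,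
    ⟨⟨fun a b => Subtype.ext (h.Cy_comm hx' hy' a.2 b.2)⟩⟩, h.frobenius hx' hy'⟩

end Cfsg.Agent.S4138
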