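import Mathlib
import Cfsg.Statements.S4139

set_option autoImplicit false
set_option linter.style.haveILetI false
set_option linter.unusedSectionVars false
open Cfsg

namespace Cfsg.Agent.S4139

open Finset

/-- class size of an element -/
noncomputable def cs {X : Type*} [Group X] (x : X) : ℕ := Nat.card (ConjClasses.mk x).carrier

theorem cs_mul_card_centralizer {X : Type*} [Group X] [Finite X] (x : X) :
    cs x * Nat.card (Subgroup.centralizer ({x} : Set X)) = Nat.card X := by
  classical
  have := Fintype.ofFinite X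
  rw [cs, Subgroup.nat_card_centralizer_nat_card_stabilizer, Nat.card_eq_fintype_card,
    Nat.card_eq_fintype_card, Nat.card_eq_fintype_card, ConjClasses.card_carrier]
  apply Nat.div_mul_cancel
  rw [← Nat.card_eq_fintype_card, ← Nat.card_eq_fintype_card]
  exact Subgroup.card_subgroup_dvd_card _

theorem cs_eq_index {X : Type*} [Group X] [Finite X] (x : X) :
    cs x = (Subgroup.centralizer ({x} : Set X)).index := by
  have h1 := cs_mul_card_centralizer x
  have h2 := Subgroup.index_mul_card (Subgroup.centralizer ({x} : Set X))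
  have hpos : 0 < Nat.card (Subgroup.centralizer ({x} : Set X)) := Nat.card_pos
  exact Nat.eq_of_mul_eq_mul_right hpos (h1.trans h2.symm)

section stats

variable {X : Type*} [Group X]

theorem cs_pos [Finite X] (x : X) : 0 < cs x := by
  rw [cs]
  haveI : Nonempty (ConjClasses.mk x).carrier := ⟨⟨x, ConjClasses.mem_carrier_mk⟩⟩
  exact Nat.card_pos

theorem cs_le [Finite X] (x : X) : cs x ≤ Nat.card X := by
  rw [cs]
  exact Finite.card_subtype_le _

theorem cs_eq_one_iff [Finite X] (x : X) : cs x = 1 ↔ x ∈ Subgroup.center X := by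
  rw [cs_eq_index, Subgroup.index_eq_one, Subgroup.centralizer_eq_top_iff_subset,
    Set.singleton_subset_iff]
  rfl

/-- the basic statistic lemma: sums of a function of the class size over the group -/
theorem sum_cs [Fintype X] [Fintype (ConjClasses X)] (F : ℕ → ℕ) :
    ∑ x : X, F (cs x) = ∑ C : ConjClasses X, Nat.card C.carrier * F (Nat.card C.carrier) := by
  classical
  rw [← Finset.sum_fiberwise_of_maps_to (s := (Finset.univ : Finset X))
    (t := (Finset.univ : Finset (ConjClasses X))) (g := ConjClasses.mk)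
    (fun x _ => Finset.mem_univ _)]
  apply Finset.sum_congr rfl
  intro C _
  have h1 : ∀ x ∈ Finset.univ.filter (fun x : X => ConjClasses.mk x = C),
      F (cs x) = F (Nat.card C.carrier) := by
    intro x hx
    rw [Finset.mem_filter] at hx
    rw [cs, hx.2]
  rw [Finset.sum_congr rfl h1, Finset.sum_const, smul_eq_mul]
  congr 1
  rw [Nat.card_eq_fintype_card, Fintype.card_subtype]
  congr 1
  ext x
  simp [ConjClasses.mem_carrier_iff_mk_eq]

end stats

/-- elements whose class size is a power of `p` -/
def Tp (X : Type*) [Group X] (p : ℕ) : Set X := {x | ∃ k : ℕ, cs x = p ^ k}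

section quot

variable {X : Type*} [Group X] [Finite X] (p : ℕ) [hp : Fact p.Prime]
  (N : Subgroup X) [N.Normal] (hNc : N ≤ Subgroup.center X) (hNp : Nat.card N = p)

omit [Finite X] hp in
include hNc in
/-- the commutator homomorphism `g ↦ g x g⁻¹ x⁻¹` on the preimage of the centralizer -/
theorem comm_mul (x g h : X) (hh : h * x * h⁻¹ * x⁻¹ ∈ N) :
    (g * h) * x * (g * h)⁻¹ * x⁻¹ = (g * x * g⁻¹ * x⁻¹) * (h * x * h⁻¹ * x⁻¹) := by
  have hc := Subgroup.mem_center_iff.1 (hNc hh)
  -- n := h x h⁻¹ x⁻¹ is central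
  have e1 : h * x * h⁻¹ = (h * x * h⁻¹ * x⁻¹) * x := by group
  calc (g * h) * x * (g * h)⁻¹ * x⁻¹ = g * (h * x * h⁻¹) * g⁻¹ * x⁻¹ := by group
    _ = g * ((h * x * h⁻¹ * x⁻¹) * x) * g⁻¹ * x⁻¹ := by rw [← e1]
    _ = (g * (h * x * h⁻¹ * x⁻¹)) * x * g⁻¹ * x⁻¹ := by group
    _ = ((h * x * h⁻¹ * x⁻¹) * g) * x * g⁻¹ * x⁻¹ := by rw [hc g]
    _ = (h * x * h⁻¹ * x⁻¹) * (g * x * g⁻¹ * x⁻¹) := by group
    _ = (g * x * g⁻¹ * x⁻¹) * (h * x * h⁻¹ * x⁻¹) := (hc _).symm

omit [Finite X] hp in
theorem mem_comap_centralizer_iff (x g : X) :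
    g ∈ (Subgroup.centralizer ({(QuotientGroup.mk' N x)} : Set (X ⧸ N))).comap (QuotientGroup.mk' N)
      ↔ g * x * g⁻¹ * x⁻¹ ∈ N := by
  rw [Subgroup.mem_comap, Subgroup.mem_centralizer_iff]
  simp only [Set.mem_singleton_iff, forall_eq]
  rw [← QuotientGroup.eq_one_iff (N := N) (g * x * g⁻¹ * x⁻¹)]
  simp only [QuotientGroup.mk'_apply, QuotientGroup.mk_mul, QuotientGroup.mk_inv]
  constructor
  · intro h
    rw [← h]; group
  · intro h
    have := congrArg (fun t => t * ((x : X ⧸ N) * (g : X ⧸ N))) h
    simp only [one_mul] at this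
    rw [← this]; group

include hNc in
omit [Finite X] hp in
/-- the commutator hom -/
theorem exists_commHom (x : X) :
    ∃ φ : ((Subgroup.centralizer ({(QuotientGroup.mk' N x)} : Set (X ⧸ N))).comap
      (QuotientGroup.mk' N)) →* N, ∀ g, ((φ g : N) : X) = (g : X) * x * (g : X)⁻¹ * x⁻¹ := by
  refine ⟨MonoidHom.mk' (fun g => ⟨(g : X) * x * (g : X)⁻¹ * x⁻¹,
    (mem_comap_centralizer_iff N x g).1 g.2⟩) ?_, fun g => rfl⟩
  intro g h
  apply Subtype.ext
  exact comm_mul N hNc x g h ((mem_comap_centralizer_iff N x h).1 h.2)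

include hNc hNp in
theorem cs_quot_iff (x : X) :
    (∃ k : ℕ, cs x = p ^ k) ↔ (∃ k : ℕ, cs (QuotientGroup.mk' N x) = p ^ k) := by
  have hpp := hp.out
  rw [cs_eq_index, cs_eq_index]
  set C := Subgroup.centralizer ({x} : Set X) with hC
  set Cb := Subgroup.centralizer ({(QuotientGroup.mk' N x)} : Set (X ⧸ N)) with hCb
  set D := Cb.comap (QuotientGroup.mk' N) with hD
  have hsurj : Function.Surjective (QuotientGroup.mk' N) := QuotientGroup.mk'_surjective N
  have hDidx : D.index = Cb.index := Subgroup.index_comap_of_surjective Cb hsurj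
  have hCD : C ≤ D := by
    intro g hg
    rw [hD, mem_comap_centralizer_iff]
    have : x * g = g * x := by
      have := Subgroup.mem_centralizer_iff.1 hg x (Set.mem_singleton x)
      exact this
    have e : g * x * g⁻¹ * x⁻¹ = 1 := by
      rw [← this]; group
    rw [e]; exact N.one_mem
  have hmul : C.relIndex D * D.index = C.index := Subgroup.relIndex_mul_index hCD
  -- the relative index divides p
  obtain ⟨φ, hφ⟩ := exists_commHom N hNc x
  have hker : φ.ker = C.subgroupOf D := by
    ext g
    rw [MonoidHom.mem_ker, Subgroup.mem_subgroupOf]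
    constructor
    · intro h
      have h1 : (g : X) * x * (g : X)⁻¹ * x⁻¹ = 1 := by
        rw [← hφ g, h]; rfl
      rw [hC, Subgroup.mem_centralizer_iff]
      intro y hy
      rw [Set.mem_singleton_iff] at hy
      subst hy
      have := congrArg (fun t => t * (y * (g : X))) h1
      simp only [one_mul] at this
      rw [← this]; group
    · intro h
      apply Subtype.ext
      rw [hφ g]
      have : x * (g : X) = (g : X) * x :=
        Subgroup.mem_centralizer_iff.1 h x (Set.mem_singleton x)
      show (g : X) * x * (g : X)⁻¹ * x⁻¹ = 1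
      rw [← this]; group
  have hrel : C.relIndex D ∣ p := by
    rw [Subgroup.relIndex, ← hker, Subgroup.index_ker, ← hNp]
    exact Subgroup.card_subgroup_dvd_card φ.range
  constructor
  · rintro ⟨k, hk⟩
    have : Cb.index ∣ p ^ k := by
      rw [← hk, ← hmul, hDidx]; exact dvd_mul_left _ _
    obtain ⟨j, _, hj⟩ := (Nat.dvd_prime_pow hpp).1 this
    exact ⟨j, hj⟩
  · rintro ⟨k, hk⟩
    rcases (Nat.dvd_prime hpp).1 hrel with h1 | h1
    · exact ⟨k, by rw [← hmul, h1, one_mul, hDidx, hk]⟩
    · exact ⟨k + 1, by rw [← hmul, h1, hDidx, hk, pow_succ, mul_comm]⟩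

end quot

section quot2

variable {X : Type*} [Group X] (N : Subgroup X) [N.Normal]

/-- the preimage of a set in the quotient has `|N|` times as many elements -/
noncomputable def preimageEquiv (S : Set (X ⧸ N)) :
    {x : X // (QuotientGroup.mk' N x) ∈ S} ≃ S × N where
  toFun x := (⟨QuotientGroup.mk' N x.1, x.2⟩,
    ⟨(QuotientGroup.mk' N x.1).out⁻¹ * x.1, by
      rw [← QuotientGroup.eq]
      exact QuotientGroup.out_eq' _⟩)
  invFun sn := ⟨sn.1.1.out * (sn.2 : X), by
    have : QuotientGroup.mk' N (sn.1.1.out * (sn.2 : X)) = sn.1.1 := by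
      show ((sn.1.1.out * (sn.2 : X) : X) : X ⧸ N) = sn.1.1
      rw [QuotientGroup.mk_mul_of_mem _ sn.2.2]
      exact QuotientGroup.out_eq' _
    rw [this]; exact sn.1.2⟩
  left_inv x := by
    apply Subtype.ext
    show (QuotientGroup.mk' N x.1).out * ((QuotientGroup.mk' N x.1).out⁻¹ * x.1) = x.1
    group
  right_inv sn := by
    have h1 : QuotientGroup.mk' N (sn.1.1.out * (sn.2 : X)) = sn.1.1 := by
      show ((sn.1.1.out * (sn.2 : X) : X) : X ⧸ N) = sn.1.1
      rw [QuotientGroup.mk_mul_of_mem _ sn.2.2]
      exact QuotientGroup.out_eq' _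
    apply Prod.ext
    · apply Subtype.ext
      exact h1
    · apply Subtype.ext
      show (QuotientGroup.mk' N (sn.1.1.out * (sn.2 : X))).out⁻¹ * (sn.1.1.out * (sn.2 : X)) = sn.2
      rw [h1]; group

theorem card_preimage [Finite X] (S : Set (X ⧸ N)) :
    Nat.card {x : X // (QuotientGroup.mk' N x) ∈ S} = Nat.card N * Nat.card S := by
  rw [Nat.card_congr (preimageEquiv N S), Nat.card_prod, mul_comm]

end quot2

section quot3

variable {X : Type*} [Group X] [Finite X] (p : ℕ) [hp : Fact p.Prime]
  (N : Subgroup X) [N.Normal] (hNc : N ≤ Subgroup.center X) (hNp : Nat.card N = p)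

include hNc hNp in
/-- (A3) -/
theorem card_Tp_quot : Nat.card (Tp X p) = p * Nat.card (Tp (X ⧸ N) p) := by
  have h0 := card_preimage N (Tp (X ⧸ N) p)
  rw [hNp] at h0
  rw [← h0]
  apply Nat.card_congr
  apply Equiv.subtypeEquivRight
  intro x
  exact cs_quot_iff p N hNc hNp x

include hNp in
omit hp in
/-- (A1) -/
theorem card_quot : Nat.card X = Nat.card (X ⧸ N) * p := by
  rw [← hNp]; exact Subgroup.card_eq_card_quotient_mul_card_subgroup N

include hNc hNp in
/-- elements mapping into the centre of the quotient have central `p`-th powers -/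
theorem pow_mem_center (y : X)
    (hy : QuotientGroup.mk' N y ∈ Subgroup.center (X ⧸ N)) : y ^ p ∈ Subgroup.center X := by
  rw [Subgroup.mem_center_iff]
  intro g
  -- n := y g y⁻¹ g⁻¹ ∈ N
  have hn : y * g * y⁻¹ * g⁻¹ ∈ N := by
    rw [← QuotientGroup.eq_one_iff]
    have h1 := Subgroup.mem_center_iff.1 hy (QuotientGroup.mk' N g)
    simp only [QuotientGroup.mk'_apply] at h1
    simp only [QuotientGroup.mk_mul, QuotientGroup.mk_inv]
    rw [← h1]; group
  set n := y * g * y⁻¹ * g⁻¹ with hndef
  have hnc := Subgroup.mem_center_iff.1 (hNc hn)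
  have hnp : n ^ p = 1 := by
    have := pow_card_eq_one' (G := N) (x := ⟨n, hn⟩)
    rw [hNp] at this
    exact congrArg Subtype.val this
  have key : ∀ k : ℕ, y ^ k * g * (y ^ k)⁻¹ = n ^ k * g := by
    intro k
    induction k with
    | zero => simp
    | succ k ih =>
      have hnkc : ∀ t : X, t * n ^ k = n ^ k * t := by
        intro t
        have : Commute t n := (hnc t)
        exact (this.pow_right k)
      calc y ^ (k + 1) * g * (y ^ (k + 1))⁻¹ = y * (y ^ k * g * (y ^ k)⁻¹) * y⁻¹ := by
            rw [pow_succ']; group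
        _ = y * (n ^ k * g) * y⁻¹ := by rw [ih]
        _ = (y * n ^ k) * g * y⁻¹ := by group
        _ = (n ^ k * y) * g * y⁻¹ := by rw [hnkc y]
        _ = n ^ k * (y * g * y⁻¹ * g⁻¹) * g := by group
        _ = n ^ (k + 1) * g := by rw [← hndef, pow_succ]
  have h2 := key p
  rw [hnp, one_mul] at h2
  calc g * y ^ p = (y ^ p * g * (y ^ p)⁻¹) * y ^ p := by rw [h2]
    _ = y ^ p * g := by group

include hNc hNp in
/-- (A2) -/
theorem ordCompl_center_quot :
    ordCompl[p] (Nat.card (Subgroup.center (X ⧸ N))) = ordCompl[p] (Nat.card (Subgroup.center X)) := by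
  have hpp := hp.out
  set Zb := Subgroup.center (X ⧸ N) with hZb
  set Y := Zb.comap (QuotientGroup.mk' N) with hY
  have hsurj : Function.Surjective (QuotientGroup.mk' N) := QuotientGroup.mk'_surjective N
  -- card Y = card Zb * p
  have hYcard : Nat.card Y = Nat.card Zb * p := by
    have h1 : Nat.card Y * Y.index = Nat.card X := Subgroup.card_mul_index Y
    have h2 : Y.index = Zb.index := Subgroup.index_comap_of_surjective Zb hsurj
    have h3 : Nat.card Zb * Zb.index = Nat.card (X ⧸ N) := Subgroup.card_mul_index Zb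
    have h4 := card_quot p N hNp
    have hpos : 0 < Zb.index := Nat.pos_of_ne_zero Subgroup.index_ne_zero_of_finite
    apply Nat.eq_of_mul_eq_mul_right hpos
    rw [← h2, h1, h4, ← h3, h2]; ring
  -- centre ≤ Y
  have hZY : Subgroup.center X ≤ Y := by
    intro z hz
    rw [hY, Subgroup.mem_comap, hZb, Subgroup.mem_center_iff]
    intro gb
    obtain ⟨g, rfl⟩ := hsurj gb
    rw [← map_mul, ← map_mul, Subgroup.mem_center_iff.1 hz g]
  -- the quotient is a p-group
  have hPG : IsPGroup p (Y ⧸ (Subgroup.center X).subgroupOf Y) := by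
    intro q
    refine ⟨1, ?_⟩
    induction q using QuotientGroup.induction_on with
    | H y =>
      rw [pow_one, ← QuotientGroup.mk_pow, QuotientGroup.eq_one_iff, Subgroup.mem_subgroupOf]
      exact pow_mem_center p N hNc hNp y.1 y.2
  obtain ⟨k, hk⟩ := hPG.exists_card_eq
  have hrel : (Subgroup.center X).relIndex Y = p ^ k := by
    rw [Subgroup.relIndex, Subgroup.index_eq_card, hk]
  have hcard : Nat.card (Subgroup.center X) * p ^ k = Nat.card Y := by
    rw [← hrel, Subgroup.relIndex,
      ← Nat.card_congr (Subgroup.subgroupOfEquivOfLe hZY).toEquiv]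
    exact Subgroup.card_mul_index _
  have h5 : ordCompl[p] (Nat.card Zb * p) = ordCompl[p] (Nat.card (Subgroup.center X) * p ^ k) := by
    rw [← hYcard, hcard]
  rw [Nat.ordCompl_mul, Nat.ordCompl_mul, Nat.ordCompl_self_pow hpp] at h5
  have h6 : ordCompl[p] p = 1 := by
    have := Nat.ordCompl_self_pow (k := 1) hpp
    rwa [pow_one] at this
  rw [h6, mul_one, mul_one] at h5
  exact h5

end quot3

/-- the counting property -/
def Phi (X : Type*) [Group X] (p : ℕ) : Prop :=
  Nat.card (Tp X p) = ordProj[p] (Nat.card X) * ordCompl[p] (Nat.card (Subgroup.center X))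

section count

variable {X : Type*} [Group X] [Finite X]

/-- counting elements by a predicate on the class size -/
theorem card_cs_pred [Fintype (ConjClasses X)] (Q : ℕ → Prop) [DecidablePred Q] :
    Nat.card {x : X // Q (cs x)} =
      ∑ C : ConjClasses X, Nat.card C.carrier * (if Q (Nat.card C.carrier) then 1 else 0) := by
  classical
  have := Fintype.ofFinite X
  rw [← sum_cs (fun k => if Q k then 1 else 0), Nat.card_eq_fintype_card, Fintype.card_subtype,
    Finset.card_filter]

theorem card_center_eq [Fintype (ConjClasses X)] :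
    Nat.card (Subgroup.center X) =
      ∑ C : ConjClasses X, Nat.card C.carrier * (if Nat.card C.carrier = 1 then 1 else 0) := by
  rw [← card_cs_pred (fun k => k = 1)]
  apply Nat.card_congr
  apply Equiv.subtypeEquivRight
  intro x
  exact (cs_eq_one_iff x).symm

theorem card_univ_eq [Fintype (ConjClasses X)] :
    Nat.card X = ∑ C : ConjClasses X, Nat.card C.carrier := by
  classical
  have := Fintype.ofFinite X
  have h := sum_cs (X := X) (fun _ => 1)
  simp only [Finset.sum_const, Finset.card_univ, smul_eq_mul, mul_one] at h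
  rw [Nat.card_eq_fintype_card, h]

open Classical in
theorem card_Tp_eq [Fintype (ConjClasses X)] (p : ℕ) :
    Nat.card (Tp X p) = ∑ C : ConjClasses X,
      Nat.card C.carrier * (if ∃ j : ℕ, Nat.card C.carrier = p ^ j then 1 else 0) := by
  classical
  rw [← card_cs_pred (fun k => ∃ j : ℕ, k = p ^ j)]
  rfl

/-- (B) -/
theorem card_Tp_modEq (p : ℕ) [hp : Fact p.Prime] :
    Nat.card (Tp X p) ≡ Nat.card (Subgroup.center X) [MOD p] := by
  classical
  have : Fintype (ConjClasses X) := Fintype.ofFinite _
  rw [card_Tp_eq, card_center_eq]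
  apply Nat.ModEq.sum
  intro C _
  set k := Nat.card C.carrier with hk
  by_cases h : ∃ j : ℕ, k = p ^ j
  · obtain ⟨j, hj⟩ := h
    rcases Nat.eq_zero_or_pos j with rfl | hjpos
    · rw [pow_zero] at hj
      rw [if_pos ⟨0, by rw [hj, pow_zero]⟩, if_pos hj]
    · have hk1 : k ≠ 1 := by
        rw [hj]
        exact (Nat.one_lt_pow hjpos.ne' hp.out.one_lt).ne'
      rw [if_pos ⟨j, hj⟩, if_neg hk1, mul_one, mul_zero, hj]
      exact (Nat.modEq_zero_iff_dvd.2 (dvd_pow_self p hjpos.ne'))
  · have hk1 : k ≠ 1 := by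
      intro h1
      exact h ⟨0, by rw [h1, pow_zero]⟩
    rw [if_neg h, if_neg hk1]

end count

section induct

variable {X : Type*} [Group X] [Finite X] (p : ℕ) [hp : Fact p.Prime]
  (N : Subgroup X) [N.Normal] (hNc : N ≤ Subgroup.center X) (hNp : Nat.card N = p)

include hNc hNp in
/-- (C2) -/
theorem phi_quot_iff : Phi X p ↔ Phi (X ⧸ N) p := by
  have hpp := hp.out
  unfold Phi
  rw [card_Tp_quot p N hNc hNp, ordCompl_center_quot p N hNc hNp, card_quot p N hNp,
    Nat.ordProj_mul p Nat.card_pos.ne' hpp.ne_zero]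
  have h1 : ordProj[p] p = p := by
    have := Nat.ordProj_self_pow (k := 1) hpp
    rwa [pow_one] at this
  rw [h1]
  constructor
  · intro h
    apply Nat.eq_of_mul_eq_mul_left hpp.pos
    rw [h]; ring
  · intro h
    rw [h]; ring

omit hp in
include hNp in
theorem card_comap_mk' (K : Subgroup (X ⧸ N)) :
    Nat.card (K.comap (QuotientGroup.mk' N)) = Nat.card K * p := by
  have hsurj : Function.Surjective (QuotientGroup.mk' N) := QuotientGroup.mk'_surjective N
  have h1 : Nat.card (K.comap (QuotientGroup.mk' N)) * (K.comap (QuotientGroup.mk' N)).index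
      = Nat.card X := Subgroup.card_mul_index _
  have h2 : (K.comap (QuotientGroup.mk' N)).index = K.index :=
    Subgroup.index_comap_of_surjective K hsurj
  have h3 : Nat.card K * K.index = Nat.card (X ⧸ N) := Subgroup.card_mul_index K
  have h4 := card_quot p N hNp
  have hpos : 0 < K.index := Nat.pos_of_ne_zero Subgroup.index_ne_zero_of_finite
  apply Nat.eq_of_mul_eq_mul_right hpos
  rw [← h2, h1, h4, ← h3, h2]; ring

end induct

/-- (C1) -/
theorem exists_central_of_phi {X : Type*} [Group X] [Finite X] (p : ℕ) [hp : Fact p.Prime]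
    (hphi : Phi X p) (hdvd : p ∣ Nat.card X) :
    ∃ z : X, z ∈ Subgroup.center X ∧ orderOf z = p := by
  have hpp := hp.out
  have h1 := card_Tp_modEq (X := X) p
  rw [hphi] at h1
  have h2 : p ∣ ordProj[p] (Nat.card X) :=
    dvd_pow_self p (hpp.factorization_pos_of_dvd Nat.card_pos.ne' hdvd).ne'
  have h3 : p ∣ Nat.card (Subgroup.center X) := by
    have : (ordProj[p] (Nat.card X) * ordCompl[p] (Nat.card (Subgroup.center X))) ≡ 0 [MOD p] :=
      Nat.modEq_zero_iff_dvd.2 (Dvd.dvd.mul_right h2 _)
    exact Nat.modEq_zero_iff_dvd.1 (h1.symm.trans this)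
  obtain ⟨z, hz⟩ := exists_prime_orderOf_dvd_card' p h3
  exact ⟨z.1, z.2, by rw [← hz]; exact (Subgroup.orderOf_coe z)⟩

/-- (C3) -/
theorem exists_normal_of_phi (p : ℕ) [hp : Fact p.Prime] :
    ∀ n : ℕ, ∀ (X : Type*) [Group X] [Finite X], Nat.card X = n → Phi X p →
      ∃ Q : Subgroup X, Q.Normal ∧ Nat.card Q = ordProj[p] (Nat.card X) := by
  have hpp := hp.out
  intro n
  induction n using Nat.strong_induction_on with
  | _ n ih =>
    intro X _ _ hcard hphi
    by_cases hdvd : p ∣ Nat.card X
    · obtain ⟨z, hzc, hzo⟩ := exists_central_of_phi p hphi hdvd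
      set N := Subgroup.zpowers z with hN
      have hNc : N ≤ Subgroup.center X := (Subgroup.zpowers_le).2 hzc
      have hNp : Nat.card N = p := by rw [hN, Nat.card_zpowers, hzo]
      haveI : N.Normal := ⟨fun a ha g => by
        have := Subgroup.mem_center_iff.1 (hNc ha) g
        have e : g * a * g⁻¹ = a := by rw [this]; group
        rw [e]; exact ha⟩
      have hq := card_quot p N hNp
      have hlt : Nat.card (X ⧸ N) < n := by
        rw [← hcard, hq]
        have : 0 < Nat.card (X ⧸ N) := Nat.card_pos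
        have := hpp.two_le
        nlinarith
      have hphi' := (phi_quot_iff p N hNc hNp).1 hphi
      obtain ⟨Qb, hQn, hQc⟩ := ih _ hlt (X ⧸ N) rfl hphi'
      refine ⟨Qb.comap (QuotientGroup.mk' N), hQn.comap _, ?_⟩
      rw [card_comap_mk' p N hNp, hQc, hq, Nat.ordProj_mul p Nat.card_pos.ne' hpp.ne_zero]
      have h1 : ordProj[p] p = p := by
        have := Nat.ordProj_self_pow (k := 1) hpp
        rwa [pow_one] at this
      rw [h1]
    · refine ⟨⊥, inferInstance, ?_⟩
      rw [Subgroup.card_bot, Nat.factorization_eq_zero_of_not_dvd hdvd, pow_zero]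

/-- (C4a) a nilpotent group of order divisible by `p` has a central element of order `p` -/
theorem exists_central_of_nilpotent {X : Type*} [Group X] [Finite X] [Group.IsNilpotent X]
    (p : ℕ) [hp : Fact p.Prime] (hdvd : p ∣ Nat.card X) :
    ∃ z : X, z ∈ Subgroup.center X ∧ orderOf z = p := by
  have hpp := hp.out
  obtain ⟨P⟩ := (inferInstance : Nonempty (Sylow p X))
  haveI hPn : (P : Subgroup X).Normal := inferInstance
  have hPcard : Nat.card P = p ^ (Nat.card X).factorization p := P.card_eq_multiplicity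
  have hfac : 0 < (Nat.card X).factorization p :=
    hpp.factorization_pos_of_dvd Nat.card_pos.ne' hdvd
  haveI : Nontrivial P := by
    rw [← Finite.one_lt_card_iff_nontrivial, hPcard]
    exact Nat.one_lt_pow hfac.ne' hpp.one_lt
  haveI : Nontrivial (Subgroup.center P) := IsPGroup.center_nontrivial P.isPGroup'
  have hZP : IsPGroup p (Subgroup.center P) := P.isPGroup'.to_subgroup _
  obtain ⟨k, hk⟩ := hZP.exists_card_eq
  have hk0 : k ≠ 0 := by
    rintro rfl
    have : 1 < Nat.card (Subgroup.center P) := Finite.one_lt_card_iff_nontrivial.2 inferInstance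
    rw [hk, pow_zero] at this
    exact lt_irrefl _ this
  have hpZ : p ∣ Nat.card (Subgroup.center P) := by rw [hk]; exact dvd_pow_self p hk0
  obtain ⟨z0, hz0⟩ := exists_prime_orderOf_dvd_card' p hpZ
  refine ⟨((z0 : P) : X), ?_, ?_⟩
  · -- centrality
    have hcent : ∀ (q : ℕ) [Fact q.Prime] (Q : Sylow q X),
        (Q : Subgroup X) ≤ Subgroup.centralizer ({((z0 : P) : X)} : Set X) := by
      intro q hq Q y hy
      rw [Subgroup.mem_centralizer_iff]
      intro w hw
      rw [Set.mem_singleton_iff] at hw
      subst hw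
      by_cases hqp : q = p
      · subst hqp
        haveI := Sylow.unique_of_normal P hPn
        have hQP : Q = P := Subsingleton.elim _ _
        rw [hQP] at hy
        have := Subgroup.mem_center_iff.1 z0.2 ⟨y, hy⟩
        exact (congrArg Subtype.val this).symm
      · haveI hQn : (Q : Subgroup X).Normal := inferInstance
        have hdis : Disjoint (P : Subgroup X) (Q : Subgroup X) :=
          IsPGroup.disjoint_of_ne p q (Ne.symm hqp) _ _ P.isPGroup' Q.isPGroup'
        exact Subgroup.commute_of_normal_of_disjoint _ _ hPn hQn hdis _ _ (z0 : P).2 hy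
    have hidx : (Subgroup.centralizer ({((z0 : P) : X)} : Set X)).index = 1 := by
      rw [Nat.eq_one_iff_not_exists_prime_dvd]
      intro q hq hqd
      haveI : Fact q.Prime := ⟨hq⟩
      obtain ⟨Q⟩ := (inferInstance : Nonempty (Sylow q X))
      exact Q.not_dvd_index (hqd.trans (Subgroup.index_dvd_of_le (hcent q Q)))
    rw [Subgroup.index_eq_one, Subgroup.centralizer_eq_top_iff_subset,
      Set.singleton_subset_iff] at hidx
    exact hidx
  · rw [Subgroup.orderOf_coe, Subgroup.orderOf_coe, hz0]

/-- (C4) nilpotent groups have the counting property -/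
theorem phi_of_nilpotent (p : ℕ) [hp : Fact p.Prime] :
    ∀ n : ℕ, ∀ (X : Type*) [Group X] [Finite X] [Group.IsNilpotent X], Nat.card X = n →
      Phi X p := by
  have hpp := hp.out
  intro n
  induction n using Nat.strong_induction_on with
  | _ n ih =>
    intro X _ _ _ hcard
    by_cases hdvd : p ∣ Nat.card X
    · obtain ⟨z, hzc, hzo⟩ := exists_central_of_nilpotent p hdvd
      set N := Subgroup.zpowers z with hN
      have hNc : N ≤ Subgroup.center X := (Subgroup.zpowers_le).2 hzc
      have hNp : Nat.card N = p := by rw [hN, Nat.card_zpowers, hzo]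
      haveI : N.Normal := ⟨fun a ha g => by
        have := Subgroup.mem_center_iff.1 (hNc ha) g
        have e : g * a * g⁻¹ = a := by rw [this]; group
        rw [e]; exact ha⟩
      have hq := card_quot p N hNp
      have hlt : Nat.card (X ⧸ N) < n := by
        rw [← hcard, hq]
        have : 0 < Nat.card (X ⧸ N) := Nat.card_pos
        have := hpp.two_le
        nlinarith
      exact (phi_quot_iff p N hNc hNp).2 (ih _ hlt (X ⧸ N) rfl)
    · -- p ∤ |X|
      unfold Phi
      have hTZ : Tp X p = (Subgroup.center X : Set X) := by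
        ext x
        constructor
        · rintro ⟨k, hk⟩
          have h1 : cs x ∣ Nat.card X := by
            rw [cs_eq_index]; exact Subgroup.index_dvd_card _
          have hk0 : k = 0 := by
            by_contra hk0
            apply hdvd
            exact (dvd_pow_self p hk0).trans (hk ▸ h1)
          rw [hk0, pow_zero] at hk
          exact (cs_eq_one_iff x).1 hk
        · intro hx
          exact ⟨0, by rw [pow_zero]; exact (cs_eq_one_iff x).2 hx⟩
      rw [hTZ, Nat.factorization_eq_zero_of_not_dvd hdvd, pow_zero, one_mul]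
      have hZ : ¬ p ∣ Nat.card (Subgroup.center X) := fun h =>
        hdvd (h.trans (Subgroup.card_subgroup_dvd_card _))
      rw [Nat.factorization_eq_zero_of_not_dvd hZ, pow_zero, Nat.div_one]
      rfl

theorem sum_classes (X : Type*) [Group X] [Finite X] [Fintype (ConjClasses X)] (Ψ : ℕ → ℕ)
    (M : ℕ) (hM : Nat.card X ≤ M) :
    ∑ C : ConjClasses X, Ψ (Nat.card C.carrier) =
      ∑ k ∈ Finset.range (M + 1),
        Nat.card {C : ConjClasses X // Nat.card C.carrier = k} * Ψ k := by
  classical
  rw [← Finset.sum_fiberwise_of_maps_to (s := (Finset.univ : Finset (ConjClasses X)))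
    (t := Finset.range (M + 1)) (g := fun C => Nat.card C.carrier)]
  · apply Finset.sum_congr rfl
    intro k _
    have h1 : ∀ C ∈ Finset.univ.filter (fun C : ConjClasses X => Nat.card C.carrier = k),
        Ψ (Nat.card C.carrier) = Ψ k := by
      intro C hC
      rw [Finset.mem_filter] at hC
      rw [hC.2]
    rw [Finset.sum_congr rfl h1, Finset.sum_const, smul_eq_mul, Nat.card_eq_fintype_card,
      Fintype.card_subtype]
  · intro C _
    rw [Finset.mem_range]
    have : Nat.card C.carrier ≤ Nat.card X := Finite.card_subtype_le _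
    omega

/-- (D) any class-size statistic agrees -/
theorem stat_eq {G H : Type*} [Group G] [Finite G] [Group H] [Finite H]
    [Fintype (ConjClasses G)] [Fintype (ConjClasses H)]
    (h : ∀ k : ℕ, Nat.card {C : ConjClasses G // Nat.card C.carrier = k} =
      Nat.card {C : ConjClasses H // Nat.card C.carrier = k}) (Ψ : ℕ → ℕ) :
    ∑ C : ConjClasses G, Ψ (Nat.card C.carrier) = ∑ C : ConjClasses H, Ψ (Nat.card C.carrier) := by
  rw [sum_classes G Ψ (Nat.card G + Nat.card H) (Nat.le_add_right _ _),
    sum_classes H Ψ (Nat.card G + Nat.card H) (Nat.le_add_left _ _)]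
  apply Finset.sum_congr rfl
  intro k _
  rw [h k]

theorem result {G H : Type*} [Group G] [Finite G] [Group H] [Finite H]
    (hH : Group.IsNilpotent H)
    (h : ∀ k : ℕ, Nat.card {C : ConjClasses G // Nat.card C.carrier = k} = Nat.card {C : ConjClasses H // Nat.card C.carrier = k}) :
    Group.IsNilpotent G := by
  classical
  haveI : Fintype (ConjClasses G) := Fintype.ofFinite _
  haveI : Fintype (ConjClasses H) := Fintype.ofFinite _
  have hcard : Nat.card G = Nat.card H := by
    rw [card_univ_eq, card_univ_eq]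
    exact stat_eq h (fun k => k)
  have hcenter : Nat.card (Subgroup.center G) = Nat.card (Subgroup.center H) := by
    rw [card_center_eq, card_center_eq]
    exact stat_eq h (fun k => k * (if k = 1 then 1 else 0))
  have hTp : ∀ p : ℕ, Nat.card (Tp G p) = Nat.card (Tp H p) := by
    intro p
    rw [card_Tp_eq, card_Tp_eq]
    exact stat_eq h (fun k => k * (if ∃ j : ℕ, k = p ^ j then 1 else 0))
  have hphi : ∀ (p : ℕ) [Fact p.Prime], Phi G p := by
    intro p _
    have := phi_of_nilpotent p _ H rfl
    unfold Phi at this ⊢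
    rw [hTp p, hcard, hcenter]
    exact this
  apply ((Group.isNilpotent_of_finite_tfae (G := G)).out 0 3).2
  intro p hp P
  obtain ⟨Q, hQn, hQc⟩ := exists_normal_of_phi p _ G rfl (hphi p)
  let Q' : Sylow p G := Sylow.ofCard Q hQc
  have hQ'n : (Q' : Subgroup G).Normal := by
    rw [Sylow.coe_ofCard]; exact hQn
  haveI := Sylow.unique_of_normal Q' hQ'n
  have : P = Q' := Subsingleton.elim _ _
  rw [this]; exact hQ'n

end Cfsg.Agent.S4139
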