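import Cfsg.Statements.S4142
-- import your own Cfsg.Agent.* helpers here

set_option autoImplicit false
open Cfsg

namespace Cfsg.Agent.S4142


section

variable {G : Type*} [Group G] [Finite G] (N : Subgroup G) [N.Normal]

/-- preimage of the centralizer of the image of `g` in `G ⧸ N` -/
def preC (g : G) : Subgroup G :=
  (Subgroup.centralizer ({(QuotientGroup.mk g : G ⧸ N)} : Set (G ⧸ N))).comap (QuotientGroup.mk' N)

theorem mem_preC (g x : G) : x ∈ preC N g ↔ g⁻¹ * (x * g * x⁻¹) ∈ N := by
  unfold preC
  rw [Subgroup.mem_comap, Subgroup.mem_centralizer_singleton_iff]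
  rw [QuotientGroup.mk'_apply, ← QuotientGroup.mk_mul, ← QuotientGroup.mk_mul, QuotientGroup.eq]
  constructor
  · intro h
    have h2 := Subgroup.Normal.conj_mem (inferInstance : N.Normal) _ (N.inv_mem h) x
    have : x * ((x * g)⁻¹ * (g * x))⁻¹ * x⁻¹ = g⁻¹ * (x * g * x⁻¹) := by group
    rw [this] at h2
    exact h2
  · intro h
    have h2 := Subgroup.Normal.conj_mem (inferInstance : N.Normal) _ h x⁻¹
    have : x⁻¹ * (g⁻¹ * (x * g * x⁻¹)) * x⁻¹⁻¹ = ((x * g)⁻¹ * (g * x))⁻¹ := by group
    rw [this] at h2
    exact N.inv_mem_iff.mp h2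

theorem centralizer_le_preC (g : G) : Subgroup.centralizer ({g} : Set G) ≤ preC N g := by
  intro x hx
  rw [Subgroup.mem_centralizer_singleton_iff] at hx
  rw [mem_preC, hx]
  simp

theorem card_preC (g : G) : Nat.card (preC N g) = Nat.card N *
    Nat.card (Subgroup.centralizer ({(QuotientGroup.mk g : G ⧸ N)} : Set (G ⧸ N))) := by
  set Cb := Subgroup.centralizer ({(QuotientGroup.mk g : G ⧸ N)} : Set (G ⧸ N)) with hCb
  have h1 : (preC N g).index = Cb.index :=
    Subgroup.index_comap_of_surjective _ (QuotientGroup.mk'_surjective N)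
  have h2 := Subgroup.card_mul_index (preC N g)
  have h3 := Subgroup.card_mul_index Cb
  have h4 := Subgroup.card_eq_card_quotient_mul_card_subgroup N
  have h5 : Cb.index ≠ 0 := Subgroup.index_ne_zero_of_finite
  have h6 : Nat.card (preC N g) * Cb.index = (Nat.card N * Nat.card Cb) * Cb.index := by
    rw [← h1, h2, h4, ← h3, h1]; ring
  exact Nat.eq_of_mul_eq_mul_right (Nat.pos_of_ne_zero h5) h6

/-- The conjugation orbit of `g` under `preC N g`. -/
def orb (g : G) : Set G := {y | ∃ d ∈ preC N g, d * g * d⁻¹ = y}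

theorem orb_subset (g : G) : orb N g ⊆ {y | g⁻¹ * y ∈ N} := by
  rintro y ⟨d, hd, rfl⟩
  exact (mem_preC N g d).mp hd

theorem ncard_coset (g : G) : ({y | g⁻¹ * y ∈ N} : Set G).ncard = Nat.card N := by
  have : ({y | g⁻¹ * y ∈ N} : Set G) = (fun n : G => g * n) '' (N : Set G) := by
    ext y
    simp only [Set.mem_ofPred_eq, Set.mem_image, SetLike.mem_coe]
    constructor
    · intro h; exact ⟨g⁻¹ * y, h, by group⟩
    · rintro ⟨n, hn, rfl⟩; simpa using hn
  rw [this, Set.ncard_image_of_injective _ (mul_right_injective g)]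
  rfl

theorem ncard_orb (g : G) :
    (orb N g).ncard * Nat.card (Subgroup.centralizer ({g} : Set G)) = Nat.card (preC N g) := by
  classical
  let D := preC N g
  let _ : MulAction D G := MulAction.compHom G ((MulAut.conj : G →* MulAut G).comp D.subtype)
  have hsmul : ∀ (d : D) (y : G), d • y = (d : G) * y * (d : G)⁻¹ := fun d y => rfl
  have horb : MulAction.orbit D g = orb N g := by
    ext y
    constructor
    · rintro ⟨d, rfl⟩
      exact ⟨d, d.2, rfl⟩
    · rintro ⟨d, hd, rfl⟩
      exact ⟨⟨d, hd⟩, rfl⟩
  have hstab : MulAction.stabilizer D g = (Subgroup.centralizer ({g} : Set G)).subgroupOf D := by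
    ext d
    rw [MulAction.mem_stabilizer_iff, Subgroup.mem_subgroupOf, Subgroup.mem_centralizer_singleton_iff,
      hsmul]
    constructor
    · intro h
      calc (d : G) * g = (d : G) * g * (d : G)⁻¹ * d := by group
        _ = g * d := by rw [h]
    · intro h
      rw [h]; group
  have h1 := MulAction.index_stabilizer D g
  have h2 := Subgroup.card_mul_index (MulAction.stabilizer D g)
  rw [h1, horb, hstab] at h2
  have h3 : Nat.card ((Subgroup.centralizer ({g} : Set G)).subgroupOf D) =
      Nat.card (Subgroup.centralizer ({g} : Set G)) :=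
    Nat.card_congr (Subgroup.subgroupOfEquivOfLe (centralizer_le_preC N g)).toEquiv
  rw [h3] at h2
  rw [mul_comm]; exact h2

/-- The pointwise equivalence. -/
theorem pointwise (g : G) :
    (∀ n ∈ N, ∃ x : G, x * g * x⁻¹ = g * n) ↔
      Nat.card (Subgroup.centralizer ({g} : Set G)) =
        Nat.card (Subgroup.centralizer ({(QuotientGroup.mk g : G ⧸ N)} : Set (G ⧸ N))) := by
  have hC : 0 < Nat.card (Subgroup.centralizer ({g} : Set G)) := Nat.card_pos
  have hN : 0 < Nat.card N := Nat.card_pos
  have hfin : ({y | g⁻¹ * y ∈ N} : Set G).Finite := Set.toFinite _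
  constructor
  · intro h
    have hEq : orb N g = {y | g⁻¹ * y ∈ N} := by
      apply Set.Subset.antisymm (orb_subset N g)
      intro y hy
      obtain ⟨x, hx⟩ := h (g⁻¹ * y) hy
      refine ⟨x, ?_, ?_⟩
      · rw [mem_preC, hx]; simpa using hy
      · rw [hx]; group
    have h1 := ncard_orb N g
    rw [hEq, ncard_coset, card_preC] at h1
    exact Nat.eq_of_mul_eq_mul_left hN h1
  · intro h n hn
    have h1 := ncard_orb N g
    rw [card_preC, ← h] at h1
    have h2 : (orb N g).ncard = Nat.card N := Nat.eq_of_mul_eq_mul_right hC h1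
    have hEq : orb N g = {y | g⁻¹ * y ∈ N} := by
      apply Set.eq_of_subset_of_ncard_le (orb_subset N g) _ hfin
      rw [h2, ncard_coset]
    have : g * n ∈ orb N g := by
      rw [hEq]; simpa using hn
    obtain ⟨d, _, hd⟩ := this
    exact ⟨d, hd⟩

end

/-- Let G be a finite group and N a normal subgroup. Then the conjugacy class of every element g outside N is a union of cosets of N (gn is conjugate to g for all n ∈ N) if and only if for every g outside N the centralizer of g in G has the same order as the centralizer of gN in G/N. -/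
theorem result {G : Type*} [Group G] [Finite G] (N : Subgroup G) [N.Normal] :
    (∀ g : G, g ∉ N → ∀ n ∈ N, ∃ x : G, x * g * x⁻¹ = g * n) ↔
      ∀ g : G, g ∉ N → Nat.card (Subgroup.centralizer ({g} : Set G)) =
        Nat.card (Subgroup.centralizer ({(QuotientGroup.mk g : G ⧸ N)} : Set (G ⧸ N))) := by
  constructor
  · intro h g hg
    exact (pointwise N g).mp (h g hg)
  · intro h g hg
    exact (pointwise N g).mpr (h g hg)

end Cfsg.Agent.S4142
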