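import Cfsg.Statements.S4150
import Cfsg.Agent.Lib.Helper92.ThreePrimes
import Cfsg.Agent.Lib.Helper92.TwoCycMain

set_option autoImplicit false
open Cfsg

namespace Cfsg.Agent.S4150

open Cfsg.Agent.Lib.Helper92.TwoCyc

/-- Let m ≥ 5. Then there are primes p < q with m/2 ≤ p and q ≤ m such that any two elements x, y of the alternating group of degree m with x of order p and y of order q generate a subgroup isomorphic to an alternating group of some degree d ≥ 5. -/
theorem result (m : ℕ) (hm : 5 ≤ m) :
    ∃ p q : ℕ, p.Prime ∧ q.Prime ∧ m ≤ 2 * p ∧ p < q ∧ q ≤ m ∧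
      ∀ x y : alternatingGroup (Fin m), orderOf x = p → orderOf y = q →
        ∃ d : ℕ, 5 ≤ d ∧ Nonempty (Subgroup.closure ({x, y} : Set (alternatingGroup (Fin m))) ≃* alternatingGroup (Fin d)) := by
  by_cases h6 : m ≤ 6
  · refine ⟨3, 5, by norm_num, by norm_num, by omega, by norm_num, by omega, ?_⟩
    apply main_pq m 3 5 (by norm_num) (by norm_num) hm (by omega) (by norm_num) (by omega)
    intro c d hc hcd hqd hdm
    unfold Ok
    omega
  by_cases h10 : m ≤ 10
  · refine ⟨5, 7, by norm_num, by norm_num, by omega, by norm_num, by omega, ?_⟩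
    apply main_pq m 5 7 (by norm_num) (by norm_num) hm (by omega) (by norm_num) (by omega)
    intro c d hc hcd hqd hdm
    unfold Ok
    omega
  by_cases h14 : m ≤ 14
  · refine ⟨7, 11, by norm_num, by norm_num, by omega, by norm_num, by omega, ?_⟩
    apply main_pq m 7 11 (by norm_num) (by norm_num) hm (by omega) (by norm_num) (by omega)
    intro c d hc hcd hqd hdm
    unfold Ok
    omega
  by_cases h16 : m ≤ 16
  · refine ⟨11, 13, by norm_num, by norm_num, by omega, by norm_num, by omega, ?_⟩
    apply main_pq m 11 13 (by norm_num) (by norm_num) hm (by omega) (by norm_num) (by omega)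
    intro c d hc hcd hqd hdm
    unfold Ok
    omega
  by_cases h17 : m ≤ 17
  · refine ⟨13, 17, by norm_num, by norm_num, by omega, by norm_num, by omega, ?_⟩
    apply main_pq m 13 17 (by norm_num) (by norm_num) hm (by omega) (by norm_num) (by omega)
    intro c d hc hcd hqd hdm
    unfold Ok
    omega
  · obtain ⟨p, q, hp, hq, hnp, hpq, hq2⟩ :=
      Cfsg.Agent.Lib.Helper92.ThreePrimes.exists_two_primes (m / 2) (by omega)
    refine ⟨p, q, hp, hq, by omega, by omega, by omega, ?_⟩
    apply main_pq m p q hp hq hm (by omega) (by omega) (by omega)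
    intro c d hc hcd hqd hdm
    unfold Ok
    omega

end Cfsg.Agent.S4150
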