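import Cfsg.Statements.S4151
import Cfsg.Agent.Lib.Helper62.TIHallSepA
import Cfsg.Agent.Lib.Helper62.TIHallSepB
import Cfsg.Agent.S0026

set_option autoImplicit false
open Cfsg

namespace Cfsg.Agent.S4151

/-- Let G be a finite group and H a non-normal subgroup meeting each of its conjugates by elements outside N_G(H) trivially, with the order of H coprime to its index in N_G(H), such that G is π-separable for π the set of primes dividing the order of H (G has a chain of normal subgroups from 1 to G each of whose factors has order divisible only by primes dividing the order of H or coprime to it). Suppose a Sylow 2-subgroup of H is abelian and Q is a complement of H in N_G(H). Then C_H(Q), the subgroup of elements of H commuting with Q, has order coprime to its index in G and has a normal complement in G. -/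
theorem result {G : Type*} [Group G] [Finite G] (H : Subgroup G)
    (hTI : Cfsg.IsTISubset (H : Set G)) (hnn : ¬ H.Normal)
    (hHall : (Nat.card H).Coprime (H.subgroupOf (Subgroup.normalizer (H : Set G))).index)
    (hsep : ∃ (n : ℕ) (M : Fin (n + 1) → Subgroup G), M 0 = ⊥ ∧ M (Fin.last n) = ⊤ ∧ Monotone M ∧ (∀ i, (M i).Normal) ∧
      ∀ i : Fin n, (∀ q : ℕ, q.Prime → q ∣ (M i.castSucc).relIndex (M i.succ) → q ∣ Nat.card H) ∨
        ((M i.castSucc).relIndex (M i.succ)).Coprime (Nat.card H))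
    (h2 : ∀ P : Sylow 2 H, IsMulCommutative (P : Subgroup H))
    (Q : Subgroup G) (hQ : Q ≤ Subgroup.normalizer (H : Set G)) (hQH : Q ⊓ H = ⊥) (hQH' : Q ⊔ H = Subgroup.normalizer (H : Set G)) :
    (Nat.card ↥(H ⊓ Subgroup.centralizer (Q : Set G))).Coprime (H ⊓ Subgroup.centralizer (Q : Set G)).index ∧
    ∃ N : Subgroup G, N.Normal ∧ N.IsComplement' (H ⊓ Subgroup.centralizer (Q : Set G)) := by
  classical
  obtain ⟨n, M, hM0, hMlast, hmono, hMn, hfac⟩ := hsep
  have hHne : H ≠ ⊥ := by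
    rintro rfl
    exact hnn inferInstance
  have hnc : ¬ (Nat.card G).Coprime (Nat.card H) := by
    intro hc
    have h1 : Nat.card H = 1 :=
      Nat.Coprime.eq_one_of_dvd hc.symm (Subgroup.card_subgroup_dvd_card H)
    exact hHne (Subgroup.card_eq_one.mp h1)
  obtain ⟨K, L, hKn, hLn, hKL, hK, hr1, hr⟩ :=
    Cfsg.Agent.Lib.Helper62.TIHallSepB.exists_section H hnc n M hM0 hMlast hmono hMn hfac
  have hKN := Cfsg.Agent.Lib.Helper62.TIHallSepB.sup_normalizer_eq_top hTI hHall hLn hr1 hr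
  haveI hZ : IsZGroup H :=
    Cfsg.Agent.Lib.Helper62.TIHallSepB.isZGroup_of_ti hTI hnn hKn hK hKN h2
  have hsolv : Group.IsSolvable H := inferInstance
  -- `|Q|` is the index of `H` in its normalizer
  have hidx : (H.subgroupOf (Subgroup.normalizer (H : Set G))).index = Nat.card Q := by
    have h1 := (H.subgroupOf (Subgroup.normalizer (H : Set G))).card_mul_index
    rw [Cfsg.Agent.Lib.Helper62.TIHallSepB.card_subgroupOf_of_le' Subgroup.le_normalizer] at h1
    have h3 : Nat.card (H ⊔ Q : Subgroup G) = Nat.card H * Nat.card Q :=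
      Cfsg.Agent.Lib.Helper54.card_sup_of_le_normalizer hQ (by rw [inf_comm]; exact hQH)
    rw [sup_comm, hQH'] at h3
    exact Nat.eq_of_mul_eq_mul_left Nat.card_pos (h1.trans h3)
  have hcopQ : (Nat.card Q).Coprime (Nat.card H) := by rw [← hidx]; exact hHall.symm
  have hC := Cfsg.Agent.Lib.Helper62.TIHallSepA.coprime_centralizer_commutator H Q hQ hcopQ
  have h26 := Cfsg.Agent.S0026.result Q H hQ hcopQ (Or.inr hsolv)
  have hRH : ⁅H, Q⁆ ≤ H := Cfsg.Agent.Lib.Helper62.TIHallSepA.commutator_le_of_le_normalizer hQ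
  have hHR := Cfsg.Agent.Lib.Helper62.TIHallSepA.le_normalizer_commutator_left H Q
  have hQR := Cfsg.Agent.Lib.Helper62.TIHallSepA.le_normalizer_commutator_right H Q
  -- `H` normalizes `Q ⊔ ⁅H, Q⁆`
  have hHL : H ≤ Subgroup.normalizer ((Q ⊔ ⁅H, Q⁆ : Subgroup G) : Set G) := by
    apply Cfsg.Agent.Lib.Helper62.TIHallSepA.le_normalizer_of_forall_conj_mem
    intro h hh x hx
    have hle : Q ⊔ ⁅H, Q⁆ ≤ (Q ⊔ ⁅H, Q⁆).comap (MulAut.conj h).toMonoidHom := by
      apply sup_le
      · intro q hq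
        rw [Subgroup.mem_comap]
        have e : (MulAut.conj h).toMonoidHom q = (h * q * h⁻¹ * q⁻¹) * q := by
          simp only [MulEquiv.coe_toMonoidHom, MulAut.conj_apply]
          group
        rw [e]
        exact Subgroup.mul_mem _
          (Subgroup.mem_sup_right (Subgroup.commutator_mem_commutator hh hq))
          (Subgroup.mem_sup_left hq)
      · intro r hr'
        rw [Subgroup.mem_comap]
        have h1 := Cfsg.Agent.Lib.Helper62.TIHallSepA.conj_mem_commutator_left hh hr'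
        exact Subgroup.mem_sup_right (by simpa [MulAut.conj_apply] using h1)
    have h1 := hle hx
    rw [Subgroup.mem_comap] at h1
    simpa [MulAut.conj_apply] using h1
  have hQL : Q ≤ Subgroup.normalizer ((Q ⊔ ⁅H, Q⁆ : Subgroup G) : Set G) :=
    Cfsg.Agent.Lib.Helper62.TIHallSepA.le_normalizer_sup Subgroup.le_normalizer hQR
  have hNL : Subgroup.normalizer (H : Set G) ≤
      Subgroup.normalizer ((Q ⊔ ⁅H, Q⁆ : Subgroup G) : Set G) :=
    hQH'.ge.trans (sup_le hQL hHL)
  haveI := hKn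
  have htopK : Subgroup.normalizer (K : Set G) = ⊤ := Subgroup.normalizer_eq_top K
  have hNM : Subgroup.normalizer (H : Set G) ≤
      Subgroup.normalizer (((Q ⊔ ⁅H, Q⁆) ⊔ K : Subgroup G) : Set G) :=
    Cfsg.Agent.Lib.Helper62.TIHallSepA.le_normalizer_sup hNL (by rw [htopK]; exact le_top)
  have hMnormal : ((Q ⊔ ⁅H, Q⁆) ⊔ K : Subgroup G).Normal := by
    rw [← Subgroup.normalizer_eq_top_iff, eq_top_iff, ← hKN]
    exact sup_le (le_sup_right.trans Subgroup.le_normalizer) hNM
  -- the product is everything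
  have hHle : H ≤ ((Q ⊔ ⁅H, Q⁆) ⊔ K) ⊔ (H ⊓ Subgroup.centralizer (Q : Set G)) :=
    h26.ge.trans (sup_le ((le_sup_right.trans le_sup_left).trans le_sup_left) le_sup_right)
  have hsup : ((Q ⊔ ⁅H, Q⁆) ⊔ K) ⊔ (H ⊓ Subgroup.centralizer (Q : Set G)) = ⊤ := by
    rw [eq_top_iff, ← hKN]
    apply sup_le (le_sup_right.trans le_sup_left)
    exact hQH'.ge.trans (sup_le ((le_sup_left.trans le_sup_left).trans le_sup_left) hHle)
  -- coprimality
  have hdvd0 : Nat.card ↥(H ⊓ Subgroup.centralizer (Q : Set G)) ∣ Nat.card H :=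
    Subgroup.card_dvd_of_le inf_le_left
  have hcopK0 : (Nat.card K).Coprime (Nat.card ↥(H ⊓ Subgroup.centralizer (Q : Set G))) :=
    Nat.Coprime.coprime_dvd_right hdvd0 hK
  have hcopQ0 : (Nat.card Q).Coprime (Nat.card ↥(H ⊓ Subgroup.centralizer (Q : Set G))) :=
    Nat.Coprime.coprime_dvd_right hdvd0 hcopQ
  have hcopL : (Nat.card (Q ⊔ ⁅H, Q⁆ : Subgroup G)).Coprime
      (Nat.card ↥(H ⊓ Subgroup.centralizer (Q : Set G))) :=
    Cfsg.Agent.Lib.Helper62.TIHallSepA.coprime_card_sup hQR hcopQ0 hC.symm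
  have hcopM : (Nat.card ((Q ⊔ ⁅H, Q⁆) ⊔ K : Subgroup G)).Coprime
      (Nat.card ↥(H ⊓ Subgroup.centralizer (Q : Set G))) :=
    Cfsg.Agent.Lib.Helper62.TIHallSepA.coprime_card_sup (by rw [htopK]; exact le_top)
      hcopL hcopK0
  have hdisj : ((Q ⊔ ⁅H, Q⁆) ⊔ K) ⊓ (H ⊓ Subgroup.centralizer (Q : Set G)) = ⊥ :=
    (Subgroup.disjoint_of_coprime_natCard hcopM).eq_bot
  have hcardM : Nat.card ((Q ⊔ ⁅H, Q⁆) ⊔ K : Subgroup G) *
      Nat.card ↥(H ⊓ Subgroup.centralizer (Q : Set G)) = Nat.card G := by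
    have hnorm : H ⊓ Subgroup.centralizer (Q : Set G) ≤
        Subgroup.normalizer (((Q ⊔ ⁅H, Q⁆) ⊔ K : Subgroup G) : Set G) := by
      rw [Subgroup.normalizer_eq_top_iff.mpr hMnormal]; exact le_top
    have h1 := Cfsg.Agent.Lib.Helper54.card_sup_of_le_normalizer hnorm hdisj
    rw [hsup, Subgroup.card_top] at h1
    exact h1.symm
  have hcompl : ((Q ⊔ ⁅H, Q⁆) ⊔ K : Subgroup G).IsComplement'
      (H ⊓ Subgroup.centralizer (Q : Set G)) :=
    Subgroup.isComplement'_of_coprime hcardM hcopM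
  refine ⟨?_, _, hMnormal, hcompl⟩
  rw [hcompl.index_eq_card]
  exact hcopM.symm

end Cfsg.Agent.S4151
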