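import Cfsg.Statements.S4153
-- import your own Cfsg.Agent.* helpers here

set_option autoImplicit false
open Cfsg

namespace Cfsg.Agent.S4153


theorem orderOf_conj' {G : Type*} [Group G] (x y : G) : orderOf (y * x * y⁻¹) = orderOf x := by
  have := orderOf_injective (MulAut.conj y).toMonoidHom (MulAut.conj y).injective x
  simpa using this

theorem mem_smul_sylow {G : Type*} [Group G] (p : ℕ) [Fact p.Prime] (P : Sylow p G) (g x : G) :
    x ∈ g • P ↔ g⁻¹ * x * g ∈ P := by
  rw [Sylow.smul_def]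
  change x ∈ ((MulAut.conj g • P : Sylow p G) : Subgroup G) ↔ _
  rw [Sylow.pointwise_smul_def, Subgroup.mem_pointwise_smul_iff_inv_smul_mem]
  simp only [MulAut.smul_def, MulAut.conj_inv_apply]
  exact Iff.rfl

section

variable {G : Type*} [Group G] [Finite G] (p : ℕ) [Fact p.Prime] (N : Subgroup G) [N.Normal]
  (P : Sylow p G)

/-- the quotient map restricted to `P` -/
abbrev psi : (P : Subgroup G) →* G ⧸ N := (QuotientGroup.mk' N).comp (P : Subgroup G).subtype

theorem card_P_eq (Pbar : Sylow p (G ⧸ N)) :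
    Nat.card (P : Subgroup G) = Nat.card (Pbar : Subgroup (G ⧸ N)) * Nat.card (psi p N P).ker := by
  have h1 := Subgroup.card_eq_card_quotient_mul_card_subgroup (psi p N P).ker
  have h2 : Nat.card ((P : Subgroup G) ⧸ (psi p N P).ker) = Nat.card (psi p N P).range :=
    Nat.card_congr (QuotientGroup.quotientKerEquivRange (psi p N P)).toEquiv
  have h3 : (psi p N P).range = (P : Subgroup G).map (QuotientGroup.mk' N) := by
    rw [psi, MonoidHom.range_comp, Subgroup.range_subtype]
  have hsurj : Function.Surjective (QuotientGroup.mk' N) := QuotientGroup.mk'_surjective N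
  have h4 : Nat.card ((P : Subgroup G).map (QuotientGroup.mk' N)) = Nat.card (Pbar : Subgroup (G ⧸ N)) := by
    have e1 := Sylow.card_eq_multiplicity (P.mapSurjective hsurj)
    have e2 := Sylow.card_eq_multiplicity Pbar
    rw [Sylow.coe_mapSurjective] at e1
    rw [e1, e2]
  rw [h1, h2, h3, h4]

theorem pelem_of_mem (x : G) (hx : x ∈ P) : ∃ k : ℕ, orderOf x = p ^ k := by
  obtain ⟨k, hk⟩ := (IsPGroup.iff_orderOf.mp P.2) ⟨x, hx⟩
  exact ⟨k, by rw [← hk, Subgroup.orderOf_mk]⟩

/-- every `p`-element of the quotient is a conjugate of the image of an element of `P` -/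
theorem exists_lift (xb : G ⧸ N) (hxb : ∃ k : ℕ, orderOf xb = p ^ k) :
    ∃ (y u : G), u ∈ P ∧ (QuotientGroup.mk (y * u * y⁻¹) : G ⧸ N) = xb := by
  have hsurj : Function.Surjective (QuotientGroup.mk' N) := QuotientGroup.mk'_surjective N
  have hpg : IsPGroup p (Subgroup.zpowers xb) := by
    obtain ⟨k, hk⟩ := hxb
    apply IsPGroup.of_card (n := k)
    rw [Nat.card_zpowers, hk]
  obtain ⟨Q, hQ⟩ := hpg.exists_le_sylow
  obtain ⟨gb, hgb⟩ := MulAction.exists_smul_eq (G ⧸ N) (P.mapSurjective hsurj) Q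
  have hx : xb ∈ gb • (P.mapSurjective hsurj) := by
    rw [hgb]; exact hQ (Subgroup.mem_zpowers xb)
  rw [mem_smul_sylow] at hx
  have hx' : gb⁻¹ * xb * gb ∈ (P : Subgroup G).map (QuotientGroup.mk' N) := hx
  obtain ⟨u, hu, hu'⟩ := hx'
  obtain ⟨y, rfl⟩ := hsurj gb
  refine ⟨y, u, hu, ?_⟩
  rw [QuotientGroup.mk_mul, QuotientGroup.mk_mul, QuotientGroup.mk_inv]
  have : (QuotientGroup.mk u : G ⧸ N) = (QuotientGroup.mk' N y)⁻¹ * xb * (QuotientGroup.mk' N y) := hu'
  rw [this]
  simp only [QuotientGroup.mk'_apply]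
  group

/-- The type of `p`-elements. -/
abbrev PEl (H : Type*) [Group H] : Type _ := {g : H // ∃ k : ℕ, orderOf g = p ^ k}

theorem card_le : Nat.card (PEl p (G ⧸ N)) * Nat.card (psi p N P).ker ≤ Nat.card (PEl p G) := by
  classical
  rw [← Nat.card_prod]
  choose y u hu hyu using exists_lift p N P
  let f : PEl p (G ⧸ N) × (psi p N P).ker → PEl p G := fun q =>
    ⟨y q.1.1 q.1.2 * (u q.1.1 q.1.2 * ((q.2 : (P : Subgroup G)) : G)) * (y q.1.1 q.1.2)⁻¹, by
      rw [orderOf_conj']
      exact pelem_of_mem p P _ ((P : Subgroup G).mul_mem (hu q.1.1 q.1.2) (q.2 : (P : Subgroup G)).2)⟩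
  have hmk : ∀ q, (QuotientGroup.mk (f q).1 : G ⧸ N) = q.1.1 := by
    intro q
    have hq : (QuotientGroup.mk (((q.2 : (P : Subgroup G)) : G)) : G ⧸ N) = 1 := by
      have := q.2.2
      rw [MonoidHom.mem_ker] at this
      exact this
    have := hyu q.1.1 q.1.2
    simp only [f]
    rw [QuotientGroup.mk_mul, QuotientGroup.mk_mul, QuotientGroup.mk_mul, hq, mul_one,
      ← QuotientGroup.mk_mul, ← QuotientGroup.mk_mul]
    exact this
  apply Nat.card_le_card_of_injective f
  intro q q' h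
  have h1 : q.1 = q'.1 := by
    apply Subtype.ext
    rw [← hmk q, ← hmk q', h]
  have h2 : q.2 = q'.2 := by
    have h3 := congrArg Subtype.val h
    simp only [f] at h3
    rw [← h1] at h3
    have h4 := mul_left_cancel (mul_left_cancel (mul_right_cancel h3))
    exact Subtype.ext (Subtype.ext h4)
  exact Prod.ext h1 h2

theorem pelem_mem_of_central (n : G) (hn : n ∈ Subgroup.center G) (hpn : ∃ k : ℕ, orderOf n = p ^ k) :
    n ∈ P := by
  have hpg : IsPGroup p (Subgroup.zpowers n) := by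
    obtain ⟨k, hk⟩ := hpn
    apply IsPGroup.of_card (n := k)
    rw [Nat.card_zpowers, hk]
  obtain ⟨Q, hQ⟩ := hpg.exists_le_sylow
  obtain ⟨g, hg⟩ := MulAction.exists_smul_eq G P Q
  have hx : n ∈ g • P := by
    rw [hg]; exact hQ (Subgroup.mem_zpowers n)
  rw [mem_smul_sylow] at hx
  have : g⁻¹ * n * g = n := by
    rw [Subgroup.mem_center_iff] at hn
    rw [mul_assoc, ← hn g]; group
  rwa [this] at hx

theorem card_ge (hN : N ≤ Subgroup.center G) :
    Nat.card (PEl p G) ≤ Nat.card (PEl p (G ⧸ N)) * Nat.card (psi p N P).ker := by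
  classical
  rw [← Nat.card_prod]
  choose y u hu hyu using exists_lift p N P
  -- a section by p-elements
  let sec : PEl p (G ⧸ N) → G := fun q => y q.1 q.2 * u q.1 q.2 * (y q.1 q.2)⁻¹
  have hsec_p : ∀ q, ∃ k : ℕ, orderOf (sec q) = p ^ k := fun q => by
    simp only [sec]; rw [orderOf_conj']; exact pelem_of_mem p P _ (hu q.1 q.2)
  have hsec_mk : ∀ q : PEl p (G ⧸ N), (QuotientGroup.mk (sec q) : G ⧸ N) = q.1 := fun q => hyu q.1 q.2
  -- the image of a p-element is a p-element
  have himg : ∀ x : PEl p G, ∃ k : ℕ, orderOf (QuotientGroup.mk x.1 : G ⧸ N) = p ^ k := by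
    intro x
    obtain ⟨k, hk⟩ := x.2
    have := orderOf_map_dvd (QuotientGroup.mk' N) x.1
    rw [hk] at this
    obtain ⟨m, _, hm⟩ := (Nat.dvd_prime_pow (Fact.out : p.Prime)).mp this
    exact ⟨m, hm⟩
  let bar : PEl p G → PEl p (G ⧸ N) := fun x => ⟨QuotientGroup.mk x.1, himg x⟩
  -- the difference
  have hdiffN : ∀ x : PEl p G, (sec (bar x))⁻¹ * x.1 ∈ N := by
    intro x
    rw [← QuotientGroup.eq]
    exact hsec_mk (bar x)
  have hdiffP : ∀ x : PEl p G, (sec (bar x))⁻¹ * x.1 ∈ P := by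
    intro x
    apply pelem_mem_of_central p P _ (hN (hdiffN x))
    -- commuting p-elements
    have hc : Commute (sec (bar x))⁻¹ x.1 := by
      have hz := hN (hdiffN x)
      rw [Subgroup.mem_center_iff] at hz
      have h1 : Commute ((sec (bar x))⁻¹ * x.1) (sec (bar x)) := (hz _).symm
      have h2 : Commute ((sec (bar x))⁻¹ * x.1) (sec (bar x))⁻¹ := h1.inv_right
      have h3 : Commute ((sec (bar x))⁻¹) ((sec (bar x))⁻¹ * x.1) := h2.symm
      have h4 : Commute ((sec (bar x))⁻¹) ((sec (bar x)) * ((sec (bar x))⁻¹ * x.1)) :=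
        (Commute.refl _).inv_left.mul_right h3 |>.symm.symm
      simpa using h4
    obtain ⟨k1, hk1⟩ := hsec_p (bar x)
    obtain ⟨k2, hk2⟩ := x.2
    have hpow : ((sec (bar x))⁻¹ * x.1) ^ (p ^ (k1 + k2)) = 1 := by
      have hs : (sec (bar x)) ^ (p ^ (k1 + k2)) = 1 := by
        apply orderOf_dvd_iff_pow_eq_one.mp
        rw [hk1]; exact pow_dvd_pow p (Nat.le_add_right k1 k2)
      have hx : x.1 ^ (p ^ (k1 + k2)) = 1 := by
        apply orderOf_dvd_iff_pow_eq_one.mp
        rw [hk2]; exact pow_dvd_pow p (Nat.le_add_left k2 k1)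
      rw [hc.mul_pow, inv_pow, hs, hx, inv_one, one_mul]
    have := orderOf_dvd_of_pow_eq_one hpow
    obtain ⟨m, _, hm⟩ := (Nat.dvd_prime_pow (Fact.out : p.Prime)).mp this
    exact ⟨m, hm⟩
  let f : PEl p G → PEl p (G ⧸ N) × (psi p N P).ker := fun x =>
    (bar x, ⟨⟨(sec (bar x))⁻¹ * x.1, hdiffP x⟩, by
      rw [MonoidHom.mem_ker]
      change (QuotientGroup.mk ((sec (bar x))⁻¹ * x.1) : G ⧸ N) = 1
      rw [QuotientGroup.eq_one_iff]; exact hdiffN x⟩)
  apply Nat.card_le_card_of_injective f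
  intro x x' h
  have h1 : bar x = bar x' := congrArg Prod.fst h
  have h2 := congrArg (fun q => ((q.2 : (P : Subgroup G)) : G)) h
  simp only [f] at h2
  rw [h1] at h2
  exact Subtype.ext (mul_left_cancel h2)

end

/-- Let G be a finite group, p a prime, N a normal subgroup, P a Sylow p-subgroup of G and P̄ a Sylow p-subgroup of G/N. Count the elements of p-power order, the identity included. Then (number of such elements of G/N)/#P̄ ≤ (number of such elements of G)/#P, stated as a cross-multiplied inequality, with equality when N is central. -/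
theorem result {G : Type*} [Group G] [Finite G] (p : ℕ) [Fact p.Prime] (N : Subgroup G) [N.Normal]
    (P : Sylow p G) (Pbar : Sylow p (G ⧸ N)) :
    Nat.card {g : (G ⧸ N) // ∃ k : ℕ, orderOf g = p ^ k} * Nat.card (P : Subgroup G) ≤ Nat.card {g : G // ∃ k : ℕ, orderOf g = p ^ k} * Nat.card (Pbar : Subgroup (G ⧸ N)) ∧
    (N ≤ Subgroup.center G → Nat.card {g : (G ⧸ N) // ∃ k : ℕ, orderOf g = p ^ k} * Nat.card (P : Subgroup G) = Nat.card {g : G // ∃ k : ℕ, orderOf g = p ^ k} * Nat.card (Pbar : Subgroup (G ⧸ N))) := by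
  have h1 := card_P_eq p N P Pbar
  have h2 := card_le p N P
  refine ⟨?_, ?_⟩
  · rw [h1]
    calc Nat.card {g : (G ⧸ N) // ∃ k : ℕ, orderOf g = p ^ k} *
          (Nat.card (Pbar : Subgroup (G ⧸ N)) * Nat.card (psi p N P).ker)
        = (Nat.card (PEl p (G ⧸ N)) * Nat.card (psi p N P).ker) * Nat.card (Pbar : Subgroup (G ⧸ N)) := by
          ring
      _ ≤ Nat.card (PEl p G) * Nat.card (Pbar : Subgroup (G ⧸ N)) := Nat.mul_le_mul_right _ h2
  · intro hN
    have h3 := card_ge p N P hN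
    have h4 : Nat.card (PEl p G) = Nat.card (PEl p (G ⧸ N)) * Nat.card (psi p N P).ker :=
      le_antisymm h3 h2
    rw [h1]
    change Nat.card (PEl p (G ⧸ N)) * _ = Nat.card (PEl p G) * _
    rw [h4]; ring

end Cfsg.Agent.S4153
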