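import Cfsg.Statements.S4154
-- import your own Cfsg.Agent.* helpers here

set_option autoImplicit false
open Cfsg

namespace Cfsg.Agent.S4154


/-- The subgroup of elements whose coset mod `N` is fixed by `α`. -/
def fixMod {G : Type*} [Group G] (α : MulAut G) (N : Subgroup G) [N.Normal]
    (_hN : ∀ n ∈ N, α n ∈ N) : Subgroup G where
  carrier := {x | x⁻¹ * α x ∈ N}
  one_mem' := by simp
  mul_mem' := by
    intro x y hx hy
    change _ ∈ N at hx hy ⊢
    have h1 : y⁻¹ * (x⁻¹ * α x) * y⁻¹⁻¹ ∈ N := Subgroup.Normal.conj_mem inferInstance _ hx _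
    have h2 := N.mul_mem h1 hy
    have : (x * y)⁻¹ * α (x * y) = y⁻¹ * (x⁻¹ * α x) * y⁻¹⁻¹ * (y⁻¹ * α y) := by
      rw [map_mul]; group
    rw [this]; exact h2
  inv_mem' := by
    intro x hx
    change _ ∈ N at hx ⊢
    have h1 : x * (x⁻¹ * α x) * x⁻¹ ∈ N := Subgroup.Normal.conj_mem inferInstance _ hx _
    have h2 := N.inv_mem h1
    have : x⁻¹⁻¹ * α x⁻¹ = (x * (x⁻¹ * α x) * x⁻¹)⁻¹ := by
      rw [map_inv]; group
    rw [this]; exact h2

theorem mem_fixMod {G : Type*} [Group G] (α : MulAut G) (N : Subgroup G) [N.Normal]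
    (hN : ∀ n ∈ N, α n ∈ N) (x : G) : x ∈ fixMod α N hN ↔ x⁻¹ * α x ∈ N := Iff.rfl

theorem le_fixMod {G : Type*} [Group G] (α : MulAut G) (N : Subgroup G) [N.Normal]
    (hN : ∀ n ∈ N, α n ∈ N) : N ≤ fixMod α N hN := by
  intro n hn
  rw [mem_fixMod]
  exact N.mul_mem (N.inv_mem hn) (hN n hn)

/-- Let G be a finite group and α an automorphism of G such that every element of G is the product of an element fixed by α and an element of the form g⁻¹α(g). If N is a normal α-invariant subgroup, then the automorphism ᾱ induced on G/N has the same property, and every coset fixed by ᾱ contains an element fixed by α (so the fixed points of ᾱ are the images of the fixed points of α). -/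
theorem result {G : Type*} [Group G] [Finite G] (α : MulAut G)
    (hccp : ∀ x : G, ∃ c g : G, α c = c ∧ x = c * (g⁻¹ * α g))
    (N : Subgroup G) [N.Normal] (hN : ∀ n ∈ N, α n ∈ N) :
    (∀ x : G, ∃ c g : G, c⁻¹ * α c ∈ N ∧ x⁻¹ * (c * (g⁻¹ * α g)) ∈ N) ∧
    (∀ x : G, x⁻¹ * α x ∈ N → ∃ c : G, α c = c ∧ c⁻¹ * x ∈ N) := by
  classical
  refine ⟨?_, ?_⟩
  · intro x
    obtain ⟨c, g, hc, hx⟩ := hccp x
    refine ⟨c, g, ?_, ?_⟩
    · rw [hc]; simp
    · rw [← hx]; simp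
  · set D := fixMod α N hN with hD
    -- the map hD ↦ (α h * h⁻¹) D on left cosets of D
    have hwd : ∀ a b : G, QuotientGroup.leftRel D a b →
        QuotientGroup.leftRel D (α a * a⁻¹) (α b * b⁻¹) := by
      intro a b hab
      rw [QuotientGroup.leftRel_apply] at hab ⊢
      -- d = a⁻¹ b ∈ D
      have hd : (a⁻¹ * b)⁻¹ * α (a⁻¹ * b) ∈ N := hab
      apply le_fixMod α N hN
      -- (α a a⁻¹)⁻¹ (α b b⁻¹) = a (α(a⁻¹ b) (a⁻¹ b)⁻¹) a⁻¹ ... conj of element of N
      have h1 : (a⁻¹ * b) * ((a⁻¹ * b)⁻¹ * α (a⁻¹ * b)) * (a⁻¹ * b)⁻¹ ∈ N :=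
        Subgroup.Normal.conj_mem inferInstance _ hd _
      have h2 : a * ((a⁻¹ * b) * ((a⁻¹ * b)⁻¹ * α (a⁻¹ * b)) * (a⁻¹ * b)⁻¹) * a⁻¹ ∈ N :=
        Subgroup.Normal.conj_mem inferInstance _ h1 _
      have : (α a * a⁻¹)⁻¹ * (α b * b⁻¹) =
          a * ((a⁻¹ * b) * ((a⁻¹ * b)⁻¹ * α (a⁻¹ * b)) * (a⁻¹ * b)⁻¹) * a⁻¹ := by
        simp only [map_mul, map_inv]; group
      rw [this]; exact h2
    let Ψ : G ⧸ D → G ⧸ D := Quotient.map' (fun h => α h * h⁻¹) hwd
    have hsurj : Function.Surjective Ψ := by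
      intro y
      induction y using QuotientGroup.induction_on with
      | H y =>
        obtain ⟨c, g, hc, hy⟩ := hccp y⁻¹
        refine ⟨QuotientGroup.mk g⁻¹, ?_⟩
        change (QuotientGroup.mk (α g⁻¹ * g⁻¹⁻¹) : G ⧸ D) = QuotientGroup.mk y
        rw [QuotientGroup.eq]
        have hcD : c ∈ D := by
          rw [hD, mem_fixMod, hc]; simp
        have : (α g⁻¹ * g⁻¹⁻¹)⁻¹ * y = c⁻¹ := by
          have hy' : y = (c * (g⁻¹ * α g))⁻¹ := by rw [← hy]; simp
          rw [hy']; simp only [map_inv]; group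
        rw [this]
        exact D.inv_mem hcD
    have hinj : Function.Injective Ψ := Finite.injective_iff_surjective.mpr hsurj
    intro x hx
    obtain ⟨c, g, hc, hxe⟩ := hccp x
    refine ⟨c, hc, ?_⟩
    have hcD : c ∈ D := by
      rw [hD, mem_fixMod, hc]; simp
    have hxD : x ∈ D := hx
    have hφ : g⁻¹ * α g ∈ D := by
      have : g⁻¹ * α g = c⁻¹ * x := by rw [hxe]; group
      rw [this]; exact D.mul_mem (D.inv_mem hcD) hxD
    -- Ψ (g⁻¹ D) = D = Ψ (1 D)
    have h1 : Ψ (QuotientGroup.mk g⁻¹) = Ψ (QuotientGroup.mk 1) := by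
      change (QuotientGroup.mk (α g⁻¹ * g⁻¹⁻¹) : G ⧸ D) = QuotientGroup.mk (α 1 * 1⁻¹)
      rw [QuotientGroup.eq]
      have : (α g⁻¹ * g⁻¹⁻¹)⁻¹ * (α 1 * 1⁻¹) = g⁻¹ * α g := by
        simp only [map_inv, map_one]; group
      rw [this]; exact hφ
    have h2 := hinj h1
    rw [QuotientGroup.eq] at h2
    have hgD : g ∈ D := by
      have : g⁻¹⁻¹ * 1 = g := by group
      rw [this] at h2; exact h2
    have : c⁻¹ * x = g⁻¹ * α g := by rw [hxe]; group
    rw [this]
    exact hgD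

end Cfsg.Agent.S4154
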