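import Cfsg.Statements.S4155
import Cfsg.Agent.S0041
import Cfsg.Agent.S0015
import Cfsg.Agent.Lib.Helper51.UniqueOrderP
import Cfsg.Agent.Lib.Helper35.FrobSylow

set_option autoImplicit false
open Cfsg

namespace Cfsg.Agent.S4155

open scoped IsMulCommutative in
/-- A commutative subgroup of `G ⧸ N` all of whose nonidentity elements act fixed-point-freely
on a nontrivial abelian normal subgroup `V` centralised by `N` is cyclic. -/
theorem isCyclic_of_fpf_quotient {G : Type*} [Group G] [Finite G] (N V : Subgroup G) [N.Normal]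
    [hVn : V.Normal] [IsMulCommutative V] (hV : V ≠ ⊥) (hNV : ∀ n ∈ N, ∀ v ∈ V, n * v = v * n)
    (B : Subgroup (G ⧸ N)) [IsMulCommutative B]
    (hfpf : ∀ x : G, (x : G ⧸ N) ∈ B → x ∉ N → ∀ v ∈ V, x * v = v * x → v = 1) :
    IsCyclic B := by
  let φ₀ : G →* MulAut V := MulAut.conjNormal
  have hker : N ≤ φ₀.ker := by
    intro n hn
    rw [MonoidHom.mem_ker]
    ext v
    simp only [φ₀, MulAut.conjNormal_apply, MulAut.one_apply]
    rw [hNV n hn v v.2, mul_inv_cancel_right]
  let φ₁ : G ⧸ N →* MulAut V := QuotientGroup.lift N φ₀ hker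
  let toEnd : MulAut V →* Module.End ℤ (Additive V) :=
    { toFun := fun σ => (MonoidHom.toAdditive σ.toMonoidHom).toIntLinearMap
      map_one' := by ext m; rfl
      map_mul' := fun σ τ => by ext m; rfl }
  let ρ : B →* Module.End ℤ (Additive V) := toEnd.comp (φ₁.comp B.subtype)
  have hnt : Nontrivial (Additive V) := by
    have : Nontrivial V := (Subgroup.nontrivial_iff_ne_bot V).mpr hV
    infer_instance
  apply Cfsg.Agent.S0041.cyclic_of_comm ρ
  intro b hb m hm
  induction m using Additive.rec with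
  | ofMul v =>
    obtain ⟨x, hx⟩ := QuotientGroup.mk_surjective (b : G ⧸ N)
    have hxB : (x : G ⧸ N) ∈ B := hx ▸ b.2
    have hxN : x ∉ N := by
      intro h
      apply hb
      apply Subtype.ext
      rw [← hx]; exact (QuotientGroup.eq_one_iff x).mpr h
    have h0 : ρ b (Additive.ofMul v) = Additive.ofMul (φ₀ x v) := by
      show Additive.ofMul (φ₁ (b : G ⧸ N) v) = _
      rw [← hx]
      rfl
    have h1 : x * v * x⁻¹ = v := by
      rw [h0] at hm
      have h2 : φ₀ x v = v := Additive.ofMul.injective hm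
      have h3 := congrArg Subtype.val h2
      simpa [φ₀, MulAut.conjNormal_apply] using h3
    have h4 : (v : G) = 1 := hfpf x hxB hxN v v.2 (by
      calc x * v = (x * v * x⁻¹) * x := by group
        _ = v * x := by rw [h1])
    have : v = 1 := Subtype.ext h4
    rw [this]; rfl


/-- If every commutative subgroup of the `p`-subgroup `P` is cyclic, then `P` has at most one
subgroup of order `p`. -/
theorem unique_subgroup_of_order_p_of_comm_cyclic {G : Type*} [Group G] [Finite G]
    (p : ℕ) [hp : Fact p.Prime] (P : Subgroup G) (hP : IsPGroup p P)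
    (hcyc : ∀ B : Subgroup G, B ≤ P → IsMulCommutative B → IsCyclic B)
    (C₁ C₂ : Subgroup P) (h1 : Nat.card C₁ = p) (h2 : Nat.card C₂ = p) : C₁ = C₂ := by
  set ι : P →* G := P.subtype with hι
  have hinj : Function.Injective ι := Subgroup.subtype_injective P
  have hιH : ∀ x : P, ι x ∈ P := fun x => x.2
  have hPnt : Nontrivial P := by
    have : 1 < Nat.card C₁ := h1 ▸ hp.out.one_lt
    have : Nontrivial C₁ := Finite.one_lt_card_iff_nontrivial.mp this
    obtain ⟨c, hc⟩ := exists_ne (1 : C₁)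
    exact ⟨⟨(c : P), 1, fun h => hc (Subtype.ext h)⟩⟩
  have hcnt : Nontrivial (Subgroup.center P) := hP.center_nontrivial
  have hpc : p ∣ Nat.card (Subgroup.center P) := by
    obtain ⟨n, hn0, hn⟩ := (hP.to_subgroup (Subgroup.center P)).nontrivial_iff_card.mp hcnt
    rw [hn]
    exact dvd_pow_self p (Nat.pos_iff_ne_zero.mp hn0)
  obtain ⟨z, hz⟩ := exists_prime_orderOf_dvd_card' p hpc
  have hzord : orderOf (ι (z : P)) = p := by
    rw [orderOf_injective ι hinj, Subgroup.orderOf_coe, hz]
  suffices key : ∀ C : Subgroup P, Nat.card C = p → C.map ι = Subgroup.zpowers (ι (z : P)) by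
    apply Subgroup.map_injective hinj
    rw [key C₁ h1, key C₂ h2]
  intro C hC
  have hCnt : Nontrivial C := by
    apply Finite.one_lt_card_iff_nontrivial.mp
    rw [hC]; exact hp.out.one_lt
  obtain ⟨c, hc⟩ := exists_ne (1 : C)
  have hc1 : (c : P) ≠ 1 := fun h => hc (Subtype.ext h)
  have hcord : orderOf (c : P) = p := by
    have hd : orderOf (c : P) ∣ p := hC ▸ Subgroup.orderOf_dvd_natCard C c.2
    rcases (Nat.dvd_prime hp.out).mp hd with h | h
    · exact absurd (orderOf_eq_one_iff.mp h) hc1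
    · exact h
  have hCeq : Subgroup.zpowers (c : P) = C := by
    apply Subgroup.eq_of_le_of_card_ge
    · rw [Subgroup.zpowers_le]; exact c.2
    · rw [Nat.card_zpowers, hcord, hC]
  have hcGord : orderOf (ι (c : P)) = p := by
    rw [orderOf_injective ι hinj, hcord]
  have hcomm : ι (z : P) * ι (c : P) = ι (c : P) * ι (z : P) := by
    rw [← map_mul, ← map_mul]
    congr 1
    exact ((Subgroup.mem_center_iff.mp z.2) (c : P)).symm
  set B : Subgroup G := Subgroup.closure ({ι (z : P), ι (c : P)} : Set G) with hB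
  have hBcomm : IsMulCommutative B := Cfsg.Agent.Lib.Helper35.isMulCommutative_closure_pair hcomm
  have hBH : B ≤ P := by
    rw [hB, Subgroup.closure_le]
    intro x hx
    rcases hx with rfl | rfl
    · exact hιH _
    · exact hιH _
  have hBcyc : IsCyclic B := hcyc B hBH hBcomm
  have hzB : Subgroup.zpowers (ι (z : P)) ≤ B := by
    rw [Subgroup.zpowers_le]
    exact Subgroup.subset_closure (Set.mem_insert _ _)
  have hcB : Subgroup.zpowers (ι (c : P)) ≤ B := by
    rw [Subgroup.zpowers_le]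
    exact Subgroup.subset_closure (Set.mem_insert_of_mem _ rfl)
  have heq := Cfsg.Agent.Lib.Helper35.eq_of_card_eq_of_le_isCyclic hBcyc hcB hzB
    (by rw [Nat.card_zpowers, Nat.card_zpowers, hcGord, hzord])
  rw [← hCeq, MonoidHom.map_zpowers, heq]


variable {G : Type*} [Group G]

/-- the core use of the equal-order hypothesis -/
theorem eq_one_of_commute (N : Subgroup G)
    (heq : ∀ x : G, x ∉ N → ∀ n ∈ N, orderOf (x * n) = orderOf x)
    (q r : ℕ) (hq : q.Prime) (hr : r.Prime) (hqr : r ≠ q) (y w : G) (hy : y ∉ N) (e : ℕ)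
    (hye : y ^ (q ^ e) = 1) (hw : w ∈ N) (s : ℕ) (hws : w ^ (r ^ s) = 1) (hc : y * w = w * y) :
    w = 1 := by
  have h1 := heq y hy w hw
  have hoy : orderOf y ∣ q ^ e := orderOf_dvd_of_pow_eq_one hye
  have how : orderOf w ∣ r ^ s := orderOf_dvd_of_pow_eq_one hws
  have hcop : (orderOf y).Coprime (orderOf w) :=
    Nat.Coprime.coprime_dvd_left hoy (Nat.Coprime.coprime_dvd_right how
      (Nat.Coprime.pow _ _ ((Nat.coprime_primes hq hr).mpr hqr.symm)))
  have h2 := (show Commute y w from hc).orderOf_mul_eq_mul_orderOf_of_coprime hcop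
  rw [h1] at h2
  have hpos : 0 < orderOf y := by
    apply Nat.pos_of_ne_zero
    intro h0
    rw [h0, Nat.zero_dvd] at hoy
    exact (pow_pos hq.pos e).ne' hoy
  have : orderOf w = 1 := Nat.eq_of_mul_eq_mul_left hpos (by rw [mul_one]; exact h2.symm)
  exact orderOf_eq_one_iff.mp this

/-- from an element outside `N` which is a `q`-element modulo `N`, extract a `q`-element outside `N` -/
theorem exists_pow_notMem [Finite G] (N : Subgroup G) [N.Normal] (q : ℕ) (hq : q.Prime) (x : G)
    (hx : x ∉ N) (k : ℕ) (hk : x ^ (q ^ k) ∈ N) :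
    ∃ j e : ℕ, x ^ j ∉ N ∧ (x ^ j) ^ (q ^ e) = 1 := by
  have ho : orderOf x ≠ 0 := (orderOf_pos x).ne'
  refine ⟨orderOf x / q ^ (orderOf x).factorization q, (orderOf x).factorization q, ?_, ?_⟩
  · intro hmem
    apply hx
    rw [← QuotientGroup.eq_one_iff] at hmem hk ⊢
    rw [QuotientGroup.mk_pow] at hmem hk
    have h1 := orderOf_dvd_of_pow_eq_one hmem
    have h2 := orderOf_dvd_of_pow_eq_one hk
    have hcop : (orderOf x / q ^ (orderOf x).factorization q).Coprime (q ^ k) := by
      apply Nat.Coprime.pow_right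
      rw [Nat.coprime_comm, hq.coprime_iff_not_dvd]
      exact Nat.not_dvd_ordCompl hq ho
    exact orderOf_eq_one_iff.mp (Nat.eq_one_of_dvd_coprimes hcop h1 h2)
  · rw [← pow_mul, mul_comm, Nat.ordProj_mul_ordCompl_eq_self]
    exact pow_orderOf_eq_one x

/-- from an element outside `N`, extract an element of prime-power order outside `N` -/
theorem exists_prime_pow_notMem [Finite G] (N : Subgroup G) [N.Normal] (x : G) (hx : x ∉ N) :
    ∃ q : ℕ, q.Prime ∧ ∃ i e : ℕ, x ^ i ∉ N ∧ (x ^ i) ^ (q ^ e) = 1 := by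
  set xb : G ⧸ N := (x : G ⧸ N) with hxb
  have hne : orderOf xb ≠ 1 := by
    intro h
    rw [orderOf_eq_one_iff, hxb, QuotientGroup.eq_one_iff] at h
    exact hx h
  have hpos : 0 < orderOf xb := orderOf_pos xb
  set q := (orderOf xb).minFac with hqdef
  have hq : q.Prime := Nat.minFac_prime hne
  have hqd : q ∣ orderOf xb := Nat.minFac_dvd _
  set t := orderOf xb / q with ht
  have htq : t * q = orderOf xb := Nat.div_mul_cancel hqd
  have htpos : 0 < t := by
    rcases Nat.eq_zero_or_pos t with h | h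
    · rw [h, zero_mul] at htq; omega
    · exact h
  have htlt : t < orderOf xb := by
    have := hq.one_lt
    nlinarith
  have h1 : x ^ t ∉ N := by
    intro hmem
    rw [← QuotientGroup.eq_one_iff, QuotientGroup.mk_pow] at hmem
    exact pow_ne_one_of_lt_orderOf htpos.ne' htlt hmem
  have h2 : (x ^ t) ^ (q ^ 1) ∈ N := by
    rw [pow_one, ← pow_mul, htq, ← QuotientGroup.eq_one_iff, QuotientGroup.mk_pow]
    exact pow_orderOf_eq_one xb
  obtain ⟨j, e, hj, hje⟩ := exists_pow_notMem N q hq (x ^ t) h1 1 h2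
  exact ⟨q, hq, t * j, e, by rwa [pow_mul], by rwa [pow_mul]⟩

/-- the Sylow `q`-subgroup of a normal nilpotent subgroup, as a normal subgroup of `G` -/
theorem exists_normal_sylow_of_nilpotent [Finite G] (M : Subgroup G) [M.Normal]
    (hM : Group.IsNilpotent M) (q : ℕ) [Fact q.Prime] :
    ∃ S : Subgroup G, S.Normal ∧ IsPGroup q S ∧ S ≤ M ∧
      (∀ y ∈ M, ∀ e : ℕ, y ^ (q ^ e) = 1 → y ∈ S) ∧
      (q ∣ Nat.card M → ∃ z ∈ S, (∀ n ∈ M, n * z = z * n) ∧ z ≠ 1) := by
  haveI := hM
  let P : Sylow q M := default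
  have hPn : (P : Subgroup M).Normal := inferInstance
  haveI : (P : Subgroup M).Characteristic := Sylow.characteristic_of_normal P hPn
  refine ⟨(P : Subgroup M).map M.subtype, inferInstance, P.isPGroup'.map M.subtype,
    Subgroup.map_subtype_le _, ?_, ?_⟩
  · intro y hy e hye
    have hzp : IsPGroup q (Subgroup.zpowers (⟨y, hy⟩ : M)) := by
      rintro ⟨g, hg⟩
      obtain ⟨i, rfl⟩ := Subgroup.mem_zpowers_iff.mp hg
      refine ⟨e, Subtype.ext ?_⟩
      apply Subtype.ext
      simp only [Subgroup.coe_pow, Subgroup.coe_zpow, Subgroup.coe_one]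
      rw [← zpow_natCast, ← zpow_mul, mul_comm, zpow_mul, zpow_natCast, hye, one_zpow]
    obtain ⟨Q', hQ'⟩ := hzp.exists_le_sylow
    haveI : Unique (Sylow q M) := Sylow.unique_of_normal P hPn
    have hQP : Q' = P := Subsingleton.elim _ _
    rw [hQP] at hQ'
    exact ⟨⟨y, hy⟩, hQ' (Subgroup.mem_zpowers _), rfl⟩
  · intro hdvd
    have hne : (P : Subgroup M) ≠ ⊥ := P.ne_bot_of_dvd_card hdvd
    obtain ⟨x, hxP, hxc, hx1⟩ := Cfsg.Agent.S0015.exists_mem_center_of_normal (P : Subgroup M) hne
    refine ⟨(x : G), ⟨x, hxP, rfl⟩, ?_, ?_⟩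
    · intro n hn
      have := Subgroup.mem_center_iff.mp hxc ⟨n, hn⟩
      exact congrArg Subtype.val this
    · intro h
      exact hx1 (Subtype.ext h)



/-- Let G be a finite group and N a proper non-trivial normal nilpotent subgroup whose order is not a prime power, such that for every x outside N all elements of the coset xN have the same order as x. Then N is the Fitting subgroup of G, and for every prime q every Sylow q-subgroup of G/N is cyclic or generalized quaternion. -/
theorem result {G : Type*} [Group G] [Finite G] (N : Subgroup G) [N.Normal] (hN1 : N ≠ ⊥) (hN2 : N ≠ ⊤)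
    (heq : ∀ x : G, x ∉ N → ∀ n ∈ N, orderOf (x * n) = orderOf x)
    (hnil : Group.IsNilpotent N) (hnpp : ¬ IsPrimePow (Nat.card N)) :
    N = Cfsg.fittingSubgroup G ∧
    ∀ (q : ℕ) [Fact q.Prime] (Q : Sylow q (G ⧸ N)), IsCyclic (Q : Subgroup (G ⧸ N)) ∨ ∃ n : ℕ, Nonempty ((Q : Subgroup (G ⧸ N)) ≃* QuaternionGroup (2 ^ n)) := by
  haveI := hnil
  have hprime : ∀ q : ℕ, q.Prime → ∃ r : ℕ, r.Prime ∧ r ≠ q ∧ r ∣ Nat.card N := by
    intro q hq
    by_contra hcon
    push Not at hcon
    apply hnpp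
    have h0 : Nat.card N ≠ 0 := Nat.card_pos.ne'
    have h1 : Nat.card N = q ^ (Nat.card N).primeFactorsList.length :=
      Nat.eq_prime_pow_of_unique_prime_dvd h0 (fun {d} hd hdvd => by
        by_contra hne
        exact hcon d hd hne hdvd)
    rw [h1]
    refine ⟨q, _, hq.prime, ?_, rfl⟩
    rcases Nat.eq_zero_or_pos (Nat.card N).primeFactorsList.length with hz | hz
    · rw [hz, pow_zero] at h1
      exact absurd (Subgroup.card_eq_one.mp h1) hN1
    · exact hz
  have core := eq_one_of_commute N heq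
  constructor
  · apply le_antisymm
    · exact le_sSup ⟨inferInstance, hnil⟩
    · apply sSup_le
      rintro M ⟨hMn, hMnil⟩
      by_contra hMN
      obtain ⟨x, hxM, hxN⟩ := SetLike.not_le_iff_exists.mp hMN
      obtain ⟨q, hq, i, e, hyN, hye⟩ := exists_prime_pow_notMem N x hxN
      haveI := Fact.mk hq
      obtain ⟨r, hr, hrq, hrN⟩ := hprime q hq
      haveI := Fact.mk hr
      obtain ⟨S, hSn, hSq, hSM, hSmem, -⟩ := exists_normal_sylow_of_nilpotent M hMnil q
      obtain ⟨R, hRn, hRr, hRN, -, hRne⟩ := exists_normal_sylow_of_nilpotent N hnil r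
      obtain ⟨w, hwR, hwc, hw1⟩ := hRne hrN
      have hyS : x ^ i ∈ S := hSmem _ (M.pow_mem hxM i) e hye
      have hdisj : Disjoint S R := IsPGroup.disjoint_of_ne q r hrq.symm S R hSq hRr
      have hcomm : Commute (x ^ i) w :=
        Subgroup.commute_of_normal_of_disjoint S R hSn hRn hdisj _ _ hyS hwR
      obtain ⟨s, hs⟩ := hRr ⟨w, hwR⟩
      exact hw1 (core q r hq hr hrq (x ^ i) w hyN e hye (hRN hwR) s (congrArg Subtype.val hs)
        hcomm.eq)
  · intro q _ Q
    have hq : q.Prime := Fact.out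
    obtain ⟨r, hr, hrq, hrN⟩ := hprime q hq
    haveI := Fact.mk hr
    obtain ⟨R, hRn, hRr, hRN, -, hRne⟩ := exists_normal_sylow_of_nilpotent N hnil r
    obtain ⟨z, hzR, hzc, hz1⟩ := hRne hrN
    haveI := hRn
    set V : Subgroup G := R ⊓ Subgroup.centralizer (N : Set G) with hV
    haveI : V.Normal := by rw [hV]; infer_instance
    have hVN : V ≤ N := inf_le_left.trans hRN
    have hNV : ∀ n ∈ N, ∀ v ∈ V, n * v = v * n := fun n hn v hv =>
      (Subgroup.mem_centralizer_iff.mp hv.2) n hn
    haveI hVcomm : IsMulCommutative V :=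
      ⟨⟨fun a b => Subtype.ext ((hNV b (hVN b.2) a a.2).symm)⟩⟩
    have hVbot : V ≠ ⊥ := by
      intro h
      have hzV : z ∈ V := ⟨hzR, Subgroup.mem_centralizer_iff.mpr hzc⟩
      rw [h, Subgroup.mem_bot] at hzV
      exact hz1 hzV
    have hcyc : ∀ B : Subgroup (G ⧸ N), B ≤ Q → IsMulCommutative B → IsCyclic B := by
      intro B hBQ hBc
      haveI := hBc
      apply isCyclic_of_fpf_quotient N V hVbot hNV B
      intro x hxB hxN v hv hxv
      obtain ⟨k, hk⟩ := Q.isPGroup' ⟨(x : G ⧸ N), hBQ hxB⟩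
      have hk' : x ^ (q ^ k) ∈ N := by
        have := congrArg Subtype.val hk
        rw [← QuotientGroup.eq_one_iff, QuotientGroup.mk_pow]
        simpa using this
      obtain ⟨j, e, hjN, hje⟩ := exists_pow_notMem N q hq x hxN k hk'
      obtain ⟨s, hs⟩ := hRr ⟨v, hv.1⟩
      have hcomm : x ^ j * v = v * x ^ j := ((show Commute x v from hxv).pow_left j).eq
      exact core q r hq hr hrq (x ^ j) v hjN e hje (hVN hv) s (congrArg Subtype.val hs) hcomm
    have huniq := unique_subgroup_of_order_p_of_comm_cyclic q (Q : Subgroup (G ⧸ N)) Q.isPGroup' hcyc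
    rcases Cfsg.Agent.Lib.Helper51.cyclic_or_quaternion_of_uniqueOrderP q Q.isPGroup' huniq with
      h | ⟨-, h⟩
    · exact Or.inl h
    · exact Or.inr h

end Cfsg.Agent.S4155
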