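import Cfsg.Statements.S4156
-- import your own Cfsg.Agent.* helpers here

set_option autoImplicit false
open Cfsg

namespace Cfsg.Agent.S4156


open Matrix

/-- matrix of `σ` on the deleted permutation module in the basis `e_i - e_last` -/
def delMat (F : Type*) [Field F] (n : ℕ) (σ : Equiv.Perm (Fin (n+1))) : Matrix (Fin n) (Fin n) F :=
  Matrix.of fun j i => (if Fin.castSucc j = σ (Fin.castSucc i) then (1:F) else 0) -
    (if Fin.castSucc j = σ (Fin.last n) then 1 else 0)

theorem delMat_apply (F : Type*) [Field F] (n : ℕ) (σ : Equiv.Perm (Fin (n+1))) (j i : Fin n) :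
    delMat F n σ j i = (if Fin.castSucc j = σ (Fin.castSucc i) then (1:F) else 0) -
    (if Fin.castSucc j = σ (Fin.last n) then 1 else 0) := rfl

theorem delMat_one (F : Type*) [Field F] (n : ℕ) : delMat F n 1 = 1 := by
  ext j i
  rw [delMat_apply, Matrix.one_apply]
  have h1 : Fin.castSucc j ≠ Fin.last n := (Fin.castSucc_lt_last j).ne
  simp [h1, Fin.castSucc_inj]

theorem delMat_mul (F : Type*) [Field F] (n : ℕ) (σ τ : Equiv.Perm (Fin (n+1))) :
    delMat F n (σ * τ) = delMat F n σ * delMat F n τ := by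
  ext j i
  rw [Matrix.mul_apply]
  simp only [delMat_apply, Equiv.Perm.coe_mul, Function.comp_apply]
  -- extend the sum to all of Fin (n+1)
  set g : Fin (n+1) → F := fun a =>
    ((if Fin.castSucc j = σ a then (1:F) else 0) - (if Fin.castSucc j = σ (Fin.last n) then 1 else 0)) *
    ((if a = τ (Fin.castSucc i) then (1:F) else 0) - (if a = τ (Fin.last n) then 1 else 0)) with hg
  have h1 : ∑ k : Fin n, g (Fin.castSucc k) = ∑ a : Fin (n+1), g a := by
    rw [Fin.sum_univ_castSucc]
    have : g (Fin.last n) = 0 := by simp [hg]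
    rw [this, add_zero]
  change _ = ∑ k : Fin n, g (Fin.castSucc k)
  rw [h1]
  simp only [hg, mul_sub, sub_mul, Finset.sum_sub_distrib]
  have e1 : ∀ (c : F) (x : Fin (n+1)), ∑ a : Fin (n+1), c * (if a = x then (1:F) else 0) = c := by
    intro c x; simp
  have e2 : ∀ (x : Fin (n+1)), ∑ a : Fin (n+1),
      (if Fin.castSucc j = σ a then (1:F) else 0) * (if a = x then (1:F) else 0) =
      if Fin.castSucc j = σ x then 1 else 0 := by
    intro x
    rw [Finset.sum_eq_single x]
    · simp
    · intro b _ hb; simp [hb]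
    · intro h; exact absurd (Finset.mem_univ x) h
  rw [e1, e1, e2, e2]
  exact (sub_sub_sub_cancel_right _ _ _).symm


/-- The deleted-permutation representation as a monoid hom into matrices. -/
def delHom (F : Type*) [Field F] (n : ℕ) : Equiv.Perm (Fin (n+1)) →* Matrix (Fin n) (Fin n) F where
  toFun := delMat F n
  map_one' := delMat_one F n
  map_mul' := delMat_mul F n

theorem det_eq_one (F : Type*) [Field F] (n : ℕ) (hn : 5 ≤ n) (σ : alternatingGroup (Fin (n+1))) :
    (delMat F n σ.1).det = 1 := by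
  let d : alternatingGroup (Fin (n+1)) →* F :=
    (Matrix.detMonoidHom).comp ((delHom F n).comp (alternatingGroup (Fin (n+1))).subtype)
  have hcomm : commutator (alternatingGroup (Fin (n+1))) = ⊤ :=
    commutator_alternatingGroup_eq_top (by simp; omega)
  have hker : commutator (alternatingGroup (Fin (n+1))) ≤ (d.toHomUnits).ker :=
    Abelianization.commutator_subset_ker _
  have hσ : σ ∈ (d.toHomUnits).ker := hker (by rw [hcomm]; trivial)
  rw [MonoidHom.mem_ker] at hσ
  have h2 : ((d.toHomUnits σ : Fˣ) : F) = d σ := MonoidHom.coe_toHomUnits d σ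
  rw [hσ] at h2
  exact h2.symm

/-- The representation of the alternating group in `SL_n`. -/
def slHom (F : Type*) [Field F] (n : ℕ) (hn : 5 ≤ n) :
    alternatingGroup (Fin (n+1)) →* Matrix.SpecialLinearGroup (Fin n) F where
  toFun σ := ⟨delMat F n σ.1, det_eq_one F n hn σ⟩
  map_one' := Subtype.ext (delMat_one F n)
  map_mul' σ τ := Subtype.ext (delMat_mul F n σ.1 τ.1)

theorem exists_ne_one (F : Type*) [Field F] (n : ℕ) (hn : 5 ≤ n) :
    ∃ σ : alternatingGroup (Fin (n+1)), delMat F n σ.1 ≠ 1 := by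
  let a0 : Fin (n+1) := ⟨0, by omega⟩
  let a1 : Fin (n+1) := ⟨1, by omega⟩
  let a2 : Fin (n+1) := ⟨2, by omega⟩
  have h01 : a0 ≠ a1 := by simp [a0, a1, Fin.ext_iff]
  have h12 : a1 ≠ a2 := by simp [a1, a2, Fin.ext_iff]
  have h02 : a0 ≠ a2 := by simp [a0, a2, Fin.ext_iff]
  have hl0 : Fin.last n ≠ a0 := by simp [a0, Fin.ext_iff]; omega
  have hl1 : Fin.last n ≠ a1 := by simp [a1, Fin.ext_iff]; omega
  have hl2 : Fin.last n ≠ a2 := by simp [a2, Fin.ext_iff]; omega
  let σ : Equiv.Perm (Fin (n+1)) := Equiv.swap a0 a1 * Equiv.swap a1 a2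
  have hσ : σ ∈ alternatingGroup (Fin (n+1)) := by
    rw [Equiv.Perm.mem_alternatingGroup, map_mul, Equiv.Perm.sign_swap h01, Equiv.Perm.sign_swap h12]
    rfl
  refine ⟨⟨σ, hσ⟩, fun h => ?_⟩
  have h1 := congrFun (congrFun h ⟨1, by omega⟩) ⟨0, by omega⟩
  rw [delMat_apply, Matrix.one_apply] at h1
  have e1 : σ (Fin.castSucc (⟨0, by omega⟩ : Fin n)) = a1 := by
    change σ a0 = a1
    simp only [σ, Equiv.Perm.coe_mul, Function.comp_apply]
    rw [Equiv.swap_apply_of_ne_of_ne h01 h02, Equiv.swap_apply_left]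
  have e2 : σ (Fin.last n) = Fin.last n := by
    simp only [σ, Equiv.Perm.coe_mul, Function.comp_apply]
    rw [Equiv.swap_apply_of_ne_of_ne hl1 hl2, Equiv.swap_apply_of_ne_of_ne hl0 hl1]
  have e3 : Fin.castSucc (⟨1, by omega⟩ : Fin n) = a1 := rfl
  rw [e1, e2, e3] at h1
  have e4 : a1 ≠ Fin.last n := fun h => hl1 h.symm
  have e5 : (⟨1, by omega⟩ : Fin n) ≠ ⟨0, by omega⟩ := by simp [Fin.ext_iff]
  simp [e4, e5] at h1

/-- Let n ≥ 5 and F a finite field. Then the projective special linear group PSL_n(F) contains a subgroup isomorphic to the alternating group of degree n + 1. -/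
theorem result (n : ℕ) (hn : 5 ≤ n) (F : Type*) [Field F] [Finite F] :
    ∃ f : alternatingGroup (Fin (n + 1)) →* Matrix.ProjectiveSpecialLinearGroup (Fin n) F, Function.Injective f := by
  classical
  let Z := Subgroup.center (Matrix.SpecialLinearGroup (Fin n) F)
  let f : alternatingGroup (Fin (n + 1)) →* Matrix.ProjectiveSpecialLinearGroup (Fin n) F :=
    (QuotientGroup.mk' Z).comp (slHom F n hn)
  refine ⟨f, ?_⟩
  have hsimple : IsSimpleGroup (alternatingGroup (Fin (n+1))) :=
    alternatingGroup.isSimpleGroup (by simp; omega)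
  rw [← MonoidHom.ker_eq_bot_iff]
  rcases (MonoidHom.normal_ker f).eq_bot_or_eq_top with h | h
  · exact h
  · exfalso
    -- the image of slHom is central, so slHom kills the commutator subgroup = everything
    have hcentral : ∀ σ : alternatingGroup (Fin (n+1)), slHom F n hn σ ∈ Z := by
      intro σ
      have : σ ∈ f.ker := by rw [h]; trivial
      rw [MonoidHom.mem_ker] at this
      exact (QuotientGroup.eq_one_iff _).mp this
    have hcomm : commutator (alternatingGroup (Fin (n+1))) = ⊤ :=
      commutator_alternatingGroup_eq_top (by simp; omega)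
    have hker : commutator (alternatingGroup (Fin (n+1))) ≤ (slHom F n hn).ker := by
      rw [commutator_eq_closure, Subgroup.closure_le]
      rintro x ⟨a, b, rfl⟩
      rw [SetLike.mem_coe, MonoidHom.mem_ker, map_commutatorElement, commutatorElement_eq_one_iff_mul_comm]
      exact (Subgroup.mem_center_iff.mp (hcentral a) _).symm
    obtain ⟨σ, hσ⟩ := exists_ne_one F n hn
    apply hσ
    have : σ ∈ (slHom F n hn).ker := hker (by rw [hcomm]; trivial)
    rw [MonoidHom.mem_ker] at this
    exact congrArg Subtype.val this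

end Cfsg.Agent.S4156
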