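import Cfsg.Statements.S4157
import Cfsg.Agent.Lib.Helper72.KulG
import Cfsg.Agent.Lib.Helper72.KulI
import Cfsg.Agent.Lib.Helper72.KulJ
import Cfsg.Agent.Lib.Helper72.KulK

set_option autoImplicit false
open Cfsg

namespace Cfsg.Agent.S4157

/-- Let G be a finite p-group of order p^m that is not cyclic and, when p = 2, not of maximal class (nilpotency class m − 1). Then for every 1 ≤ k < m the number of subgroups of G of order p^k is congruent to 1 + p modulo p². -/
theorem result {G : Type*} [Group G] [Finite G] {p : ℕ} [Fact p.Prime] (m : ℕ)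
    (hG : Nat.card G = p ^ m) (hnc : ¬ IsCyclic G) (h2 : p = 2 → Group.nilpotencyClass G ≠ m - 1)
    (k : ℕ) (hk1 : 1 ≤ k) (hk2 : k < m) :
    Nat.card {H : Subgroup G // Nat.card H = p ^ k} ≡ 1 + p [MOD p ^ 2] := by
  have hp : p.Prime := Fact.out
  have hP : IsPGroup p G := IsPGroup.of_card hG
  have hdvd : p ^ (k + 1) ∣ Nat.card G := by rw [hG]; exact pow_dvd_pow p (by omega)
  show Cfsg.Agent.Lib.Helper72.kulN G (p ^ k) ≡ 1 + p [MOD p ^ 2]
  have key : p ∣ Cfsg.Agent.Lib.Helper72.kulCyc G (p ^ (k + 1)) →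
      Cfsg.Agent.Lib.Helper72.kulN G (p ^ k) ≡ 1 + p [MOD p ^ 2] := by
    rintro ⟨t, ht⟩
    have hmain := Cfsg.Agent.Lib.Helper72.kul_main_congr (G := G) p k hp hdvd
    obtain ⟨u, hu⟩ := hmain.symm.dvd
    have ht' : (Cfsg.Agent.Lib.Helper72.kulCyc G (p ^ (k + 1)) : ℤ) = (p : ℤ) * (t : ℤ) := by
      exact_mod_cast ht
    apply Int.natCast_modEq_iff.mp
    rw [Int.modEq_iff_dvd]
    refine ⟨(t : ℤ) - u, ?_⟩
    push_cast
    linear_combination -hu + (p : ℤ) * ht'
  by_cases hp2 : p = 2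
  · subst hp2
    have hcl := h2 rfl
    obtain ⟨R, hRn, hRcard, hexp⟩ := Cfsg.Agent.Lib.Helper72.kul_exists_normal_four m hG hnc hcl
    rcases Nat.lt_or_ge k 2 with hk | hk
    · -- `k = 1`: count involutions
      have hk' : k = 1 := by omega
      subst hk'
      have h4 := Cfsg.Agent.Lib.Helper72.kul_four_dvd_card_sq_eq_one m hG R hRcard hexp hcl
      rw [Cfsg.Agent.Lib.Helper72.kul_card_sq_eq_one,
        Cfsg.Agent.Lib.Helper72.kul_card_orderOf_eq 2] at h4
      have hcyc : Cfsg.Agent.Lib.Helper72.kulN G (2 ^ 1) = Cfsg.Agent.Lib.Helper72.kulCyc G 2 := by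
        unfold Cfsg.Agent.Lib.Helper72.kulN Cfsg.Agent.Lib.Helper72.kulCyc
        apply Nat.card_congr
        exact Equiv.subtypeEquivRight (fun U =>
          ⟨fun h => ⟨by simpa using h, isCyclic_of_prime_card (p := 2) (by simpa using h)⟩,
            fun h => by simpa using h.1⟩)
      rw [hcyc]
      have htot : Nat.totient 2 = 1 := by decide
      rw [htot, mul_one] at h4
      show _ % _ = _ % _
      omega
    · have h := Cfsg.Agent.Lib.Helper72.kul_miller_two hP R hRcard hexp (k - 2)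
      rw [show k - 2 + 3 = k + 1 by omega] at h
      exact key h
  · have h := Cfsg.Agent.Lib.Helper72.kul_miller hp2 hP hnc (k - 1)
    rw [show k - 1 + 2 = k + 1 by omega] at h
    exact key h

end Cfsg.Agent.S4157
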