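import Cfsg.Statements.S4163
-- import your own Cfsg.Agent.* helpers here

set_option autoImplicit false
open Cfsg

namespace Cfsg.Agent.S4163
open scoped commutatorElement

variable {G : Type*} [Group G]

/-- conjugation orbit of `g` under a subgroup `D` -/
def orb (D : Subgroup G) (g : G) : Set G := {y | ∃ d ∈ D, d * g * d⁻¹ = y}

theorem ncard_orb [Finite G] (D : Subgroup G) (g : G) :
    (orb D g).ncard = (Subgroup.centralizer ({g} : Set G)).relIndex D := by
  classical
  let _ : MulAction D G := MulAction.compHom G ((MulAut.conj : G →* MulAut G).comp D.subtype)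
  have hsmul : ∀ (d : D) (y : G), d • y = (d : G) * y * (d : G)⁻¹ := fun d y => rfl
  have horb : MulAction.orbit D g = orb D g := by
    ext y
    constructor
    · rintro ⟨d, rfl⟩
      exact ⟨d, d.2, rfl⟩
    · rintro ⟨d, hd, rfl⟩
      exact ⟨⟨d, hd⟩, rfl⟩
  have hstab : MulAction.stabilizer D g = (Subgroup.centralizer ({g} : Set G)).subgroupOf D := by
    ext d
    rw [MulAction.mem_stabilizer_iff, Subgroup.mem_subgroupOf, Subgroup.mem_centralizer_singleton_iff,
      hsmul]
    constructor
    · intro h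
      calc (d : G) * g = (d : G) * g * (d : G)⁻¹ * d := by group
        _ = g * d := by rw [h]
    · intro h
      rw [h]; group
  have h1 := MulAction.index_stabilizer D g
  rw [horb, hstab] at h1
  exact h1.symm

theorem card_eq_card_inf_mul_relIndex [Finite G] (H K : Subgroup G) :
    Nat.card K = Nat.card (H ⊓ K : Subgroup G) * H.relIndex K := by
  have h := Subgroup.relIndex_mul_relIndex (H := (⊥ : Subgroup G)) (K := H ⊓ K) (L := K) bot_le
    inf_le_right
  rw [Subgroup.relIndex_bot_left, Subgroup.relIndex_bot_left, Subgroup.inf_relIndex_right] at h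
  exact h.symm


/-- Isaacs: if `K` is an abelian normal subgroup and `x` lies in a noncentral class of minimal
size `m`, then `[K, x] ≤ Z(G)`. -/
theorem commutator_mem_center [Finite G] (K : Subgroup G) [hK : K.Normal]
    (hKc : ∀ a ∈ K, ∀ b ∈ K, a * b = b * a) (m : ℕ)
    (hmin : ∀ g : G, 1 < (Subgroup.centralizer ({g} : Set G)).index →
      m ≤ (Subgroup.centralizer ({g} : Set G)).index)
    (x : G) (hx : (Subgroup.centralizer ({x} : Set G)).index = m) (k : G) (hk : k ∈ K) :
    ⁅k, x⁆ ∈ Subgroup.center G := by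
  by_contra hd
  set d := ⁅k, x⁆ with hddef
  set Cx := Subgroup.centralizer ({x} : Set G) with hCx
  set Cd := Subgroup.centralizer ({d} : Set G) with hCd
  have hdK : d ∈ K := by
    rw [hddef, commutatorElement_def]
    have : k * x * k⁻¹ * x⁻¹ = k * (x * k⁻¹ * x⁻¹) := by group
    rw [this]
    exact K.mul_mem hk (hK.conj_mem _ (K.inv_mem hk) x)
  have hd1 : d ≠ 1 := fun h => hd (h ▸ Subgroup.one_mem _)
  have hKCd : K ≤ Cd := by
    intro a ha
    rw [hCd, Subgroup.mem_centralizer_singleton_iff]
    exact hKc a ha d hdK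
  have hidx : 1 < Cd.index := by
    have hne : Cd ≠ ⊤ := by
      intro htop
      apply hd
      rw [Subgroup.mem_center_iff]
      intro g
      have : g ∈ Cd := htop ▸ Subgroup.mem_top g
      rw [hCd, Subgroup.mem_centralizer_singleton_iff] at this
      exact this
    have h0 : Cd.index ≠ 0 := Subgroup.index_ne_zero_of_finite
    have h1 : Cd.index ≠ 1 := fun h => hne (Subgroup.index_eq_one.mp h)
    omega
  have hm : m ≤ Cd.index := hmin d hidx
  have hcard1 : Nat.card Cd ≤ Nat.card Cx := by
    have e1 := Cx.card_mul_index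
    have e2 := Cd.card_mul_index
    rw [hx] at e1
    by_contra hlt
    push Not at hlt
    have : Nat.card Cx * m < Nat.card Cd * Cd.index := by
      calc Nat.card Cx * m ≤ Nat.card Cx * Cd.index := Nat.mul_le_mul_left _ hm
        _ < Nat.card Cd * Cd.index := Nat.mul_lt_mul_of_pos_right hlt (by omega)
    omega
  have h1 : (orb Cx d).ncard = Cd.relIndex Cx := ncard_orb Cx d
  have h2 : (orb K x).ncard = Cx.relIndex K := ncard_orb K x
  have hsub : (fun y => y * x) '' (orb Cx d) ⊆ orb K x \ {x} := by
    rintro _ ⟨_, ⟨c, hc, rfl⟩, rfl⟩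
    have hcx : c * x = x * c := Subgroup.mem_centralizer_singleton_iff.mp hc
    have hcx' : c⁻¹ * x = x * c⁻¹ := by
      calc c⁻¹ * x = c⁻¹ * (x * c) * c⁻¹ := by group
        _ = c⁻¹ * (c * x) * c⁻¹ := by rw [hcx]
        _ = x * c⁻¹ := by group
    refine ⟨⟨c * k * c⁻¹, hK.conj_mem k hk c, ?_⟩, ?_⟩
    · rw [hddef, commutatorElement_def]
      calc c * k * c⁻¹ * x * (c * k * c⁻¹)⁻¹ = c * k * (c⁻¹ * x) * c * k⁻¹ * c⁻¹ := by group
        _ = c * k * (x * c⁻¹) * c * k⁻¹ * c⁻¹ := by rw [hcx']
        _ = c * (k * x * k⁻¹ * x⁻¹) * (x * c⁻¹) := by group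
        _ = c * (k * x * k⁻¹ * x⁻¹) * (c⁻¹ * x) := by rw [hcx']
        _ = c * (k * x * k⁻¹ * x⁻¹) * c⁻¹ * x := by group
    · intro h
      rw [Set.mem_singleton_iff] at h
      have h : c * d * c⁻¹ * x = x := h
      apply hd1
      have : c * d * c⁻¹ = 1 := by
        calc c * d * c⁻¹ = c * d * c⁻¹ * x * x⁻¹ := by group
          _ = x * x⁻¹ := by rw [h]
          _ = 1 := by group
      calc d = c⁻¹ * (c * d * c⁻¹) * c := by group
        _ = 1 := by rw [this]; group
  have hxmem : x ∈ orb K x := ⟨1, K.one_mem, by group⟩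
  have hlt : Cd.relIndex Cx < Cx.relIndex K := by
    rw [← h1, ← h2]
    have hfin : (orb K x).Finite := Set.toFinite _
    calc (orb Cx d).ncard = ((fun y => y * x) '' (orb Cx d)).ncard :=
          (Set.ncard_image_of_injective _ (mul_left_injective x)).symm
      _ ≤ (orb K x \ {x}).ncard := Set.ncard_le_ncard hsub (hfin.subset Set.sdiff_subset)
      _ < (orb K x).ncard := Set.ncard_sdiff_singleton_lt_of_mem hxmem hfin
  have hle : Cx.relIndex K ≤ Cx.relIndex Cd :=
    Subgroup.relIndex_le_of_le_right hKCd (fun h0 => by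
      have := Subgroup.relIndex_dvd_card Cx Cd
      rw [h0, Nat.zero_dvd] at this
      exact Nat.card_pos.ne' this)
  have e1 := card_eq_card_inf_mul_relIndex Cd Cx
  have e2 := card_eq_card_inf_mul_relIndex Cx Cd
  rw [inf_comm] at e1
  have hpos : 0 < Nat.card (Cx ⊓ Cd : Subgroup G) := Nat.card_pos
  have : Nat.card Cx < Nat.card Cd := by
    rw [e1, e2]
    exact Nat.mul_lt_mul_of_pos_left (lt_of_lt_of_le hlt hle) hpos
  omega


/-- If four-fold commutators of elements of `M` vanish in `G`, then `M` has class at most 3. -/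
theorem upperCentralSeries_three_eq_top (M : Subgroup G)
    (h : ∀ x ∈ M, ∀ y ∈ M, ∀ z ∈ M, ⁅⁅x, y⁆, z⁆ ∈ Subgroup.center G) :
    Subgroup.upperCentralSeries ↥M 3 = ⊤ := by
  rw [eq_top_iff]
  intro u _
  rw [Subgroup.mem_upperCentralSeries_succ_iff]
  intro y
  rw [Subgroup.mem_upperCentralSeries_succ_iff]
  intro z
  rw [Subgroup.upperCentralSeries_one, Subgroup.mem_center_iff]
  intro w
  apply Subtype.ext
  have hc := h u u.2 y y.2 z z.2
  have := Subgroup.mem_center_iff.mp hc (w : G)
  simpa [commutatorElement_def] using this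

theorem main [Finite G] (A : Subgroup G) [hAn : A.Normal] (hA : IsMulCommutative A)
    (hCA : Subgroup.centralizer (A : Set G) = A) (m : ℕ)
    (hmin : ∀ g : G, 1 < (Subgroup.centralizer ({g} : Set G)).index →
      m ≤ (Subgroup.centralizer ({g} : Set G)).index) :
    ∀ x ∈ Subgroup.closure {x : G | (Subgroup.centralizer ({x} : Set G)).index = 1 ∨
        (Subgroup.centralizer ({x} : Set G)).index = m},
      ∀ y ∈ Subgroup.closure {x : G | (Subgroup.centralizer ({x} : Set G)).index = 1 ∨
        (Subgroup.centralizer ({x} : Set G)).index = m},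
      ∀ z ∈ Subgroup.closure {x : G | (Subgroup.centralizer ({x} : Set G)).index = 1 ∨
        (Subgroup.centralizer ({x} : Set G)).index = m},
      ⁅⁅x, y⁆, z⁆ ∈ Subgroup.center G := by
  set M := Subgroup.closure {x : G | (Subgroup.centralizer ({x} : Set G)).index = 1 ∨
        (Subgroup.centralizer ({x} : Set G)).index = m} with hM
  have hAc : ∀ a ∈ A, ∀ b ∈ A, a * b = b * a := fun a ha b hb =>
    congrArg Subtype.val (hA.is_comm.comm ⟨a, ha⟩ ⟨b, hb⟩)
  -- (b)
  have hb : ∀ g ∈ M, ∀ a ∈ A, ⁅a, g⁆ ∈ Subgroup.center G := by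
    intro g hg
    induction hg using Subgroup.closure_induction with
    | mem x hx =>
      intro a ha
      rcases hx with hx | hx
      · have hxc : x ∈ Subgroup.center G := by
          rw [Subgroup.index_eq_one] at hx
          rw [Subgroup.mem_center_iff]
          intro g
          have : g ∈ Subgroup.centralizer ({x} : Set G) := hx ▸ Subgroup.mem_top g
          exact Subgroup.mem_centralizer_singleton_iff.mp this
        have : ⁅a, x⁆ = 1 := by
          rw [commutatorElement_eq_one_iff_mul_comm]
          exact Subgroup.mem_center_iff.mp hxc a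
        rw [this]; exact Subgroup.one_mem _
      · exact commutator_mem_center A hAc m hmin x hx a ha
    | one =>
      intro a _
      rw [commutatorElement_one_right]; exact Subgroup.one_mem _
    | mul g h _ _ ihg ihh =>
      intro a ha
      have e : ⁅a, g * h⁆ = ⁅a, g⁆ * (g * ⁅a, h⁆ * g⁻¹) := by
        simp only [commutatorElement_def]; group
      rw [e]
      have hz := ihh a ha
      have : g * ⁅a, h⁆ * g⁻¹ = ⁅a, h⁆ := by
        rw [Subgroup.mem_center_iff.mp hz g, mul_inv_cancel_right]
      rw [this]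
      exact Subgroup.mul_mem _ (ihg a ha) hz
    | inv g _ ihg =>
      intro a ha
      have e : ⁅a, g⁻¹⁆ = g⁻¹ * ⁅a, g⁆⁻¹ * g := by
        simp only [commutatorElement_def]; group
      rw [e]
      have hz := Subgroup.inv_mem _ (ihg a ha)
      have : g⁻¹ * ⁅a, g⁆⁻¹ * g = ⁅a, g⁆⁻¹ := by
        rw [mul_assoc, ← Subgroup.mem_center_iff.mp hz g, inv_mul_cancel_left]
      rw [this]; exact hz
  have hAM : ⁅A, M⁆ ≤ Subgroup.center G := by
    rw [Subgroup.commutator_le]
    intro a ha g hg
    exact hb g hg a ha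
  have hcen : Subgroup.center G ≤ Subgroup.centralizer (M : Set G) := by
    rw [← Subgroup.centralizer_univ]
    exact Subgroup.centralizer_le (Set.subset_univ _)
  have h2 : ⁅⁅A, M⁆, M⁆ = ⊥ := by
    rw [Subgroup.commutator_eq_bot_iff_le_centralizer]
    exact hAM.trans hcen
  have h1 : ⁅⁅M, A⁆, M⁆ = ⊥ := by rw [Subgroup.commutator_comm M A]; exact h2
  have h3 : ⁅⁅M, M⁆, A⁆ = ⊥ := Subgroup.commutator_commutator_eq_bot_of_rotate h1 h2
  have hMMA : ⁅M, M⁆ ≤ A := by
    rw [Subgroup.commutator_eq_bot_iff_le_centralizer, hCA] at h3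
    exact h3
  intro x hx y hy z hz
  have : ⁅⁅x, y⁆, z⁆ ∈ ⁅A, M⁆ :=
    Subgroup.commutator_mem_commutator (hMMA (Subgroup.commutator_mem_commutator hx hy)) hz
  exact hAM this



/-- Let G be a finite group with a normal abelian subgroup A satisfying C_G(A) = A. Suppose some conjugacy class of G has size greater than 1, let m be the smallest such size, and let M be the subgroup generated by the elements whose class has size 1 or m. Then M is nilpotent of class at most 3. -/
theorem result {G : Type*} [Group G] [Finite G]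
    (A : Subgroup G) [A.Normal] (hA : IsMulCommutative A) (hCA : Subgroup.centralizer (A : Set G) = A)
    (m : ℕ) (hm1 : 1 < m) (hm : ∃ x : G, (Subgroup.centralizer ({x} : Set G)).index = m) (hmin : ∀ x : G, 1 < (Subgroup.centralizer ({x} : Set G)).index → m ≤ (Subgroup.centralizer ({x} : Set G)).index) :
    Subgroup.upperCentralSeries ↥(Subgroup.closure {x : G | (Subgroup.centralizer ({x} : Set G)).index = 1 ∨ (Subgroup.centralizer ({x} : Set G)).index = m}) 3 = ⊤ := by
  exact upperCentralSeries_three_eq_top _ (main A hA hCA m hmin)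

end Cfsg.Agent.S4163
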