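import Cfsg.Statements.S4168
-- import your own Cfsg.Agent.* helpers here

set_option autoImplicit false
open Cfsg

namespace Cfsg.Agent.S4168

/-- Let L be a finite quasisimple group (perfect with L/Z(L) simple). Then every prime dividing the order of the centre Z(L) also divides the order of L/Z(L). -/
theorem result {L : Type*} [Group L] [Finite L] (hL : Cfsg.IsQuasisimple L)
    (p : ℕ) (hp : p.Prime) (hdiv : p ∣ Nat.card (Subgroup.center L)) : p ∣ (Subgroup.center L).index := by
  classical
  obtain ⟨hperf, _⟩ := hL
  -- an element of order p in the centre
  have : Fact p.Prime := ⟨hp⟩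
  obtain ⟨z, hz⟩ := exists_prime_orderOf_dvd_card' p hdiv
  -- the transfer into the centre is trivial since L is perfect
  have htriv : ∀ g : L, MonoidHom.transferCenterPow L g = 1 := by
    intro g
    have hg : g ∈ commutator L := Group.IsPerfect.mem_commutator
    have hker : commutator L ≤ (MonoidHom.transferCenterPow L).ker := by
      rw [commutator_eq_closure, Subgroup.closure_le]
      rintro x ⟨a, b, rfl⟩
      have hcomm : ∀ u v : Subgroup.center L, u * v = v * u := fun u v =>
        Subtype.ext (Subgroup.mem_center_iff.mp u.2 v).symm
      rw [SetLike.mem_coe, MonoidHom.mem_ker, commutatorElement_def, map_mul, map_mul, map_mul, map_inv,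
        map_inv, hcomm (MonoidHom.transferCenterPow L a) (MonoidHom.transferCenterPow L b)]
      group
    exact hker hg
  have h1 : (z : L) ^ (Subgroup.center L).index = 1 := by
    have := htriv (z : L)
    have h2 := MonoidHom.transferCenterPow_apply (G := L) (z : L)
    rw [this] at h2
    simpa using h2.symm
  have h3 : orderOf (z : L) = p := by
    rw [Subgroup.orderOf_coe]; exact hz
  rw [← h3]
  exact orderOf_dvd_of_pow_eq_one h1

end Cfsg.Agent.S4168
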