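import Cfsg.Statements.S4169
import Cfsg.Agent.S0015
import Cfsg.Agent.S4163

set_option autoImplicit false
open Cfsg

namespace Cfsg.Agent.S4169
open scoped commutatorElement

/-- A finite `p`-group has a normal abelian subgroup equal to its own centralizer. -/
theorem exists_normal_abelian_self_centralizing {P : Type*} [Group P] [Finite P] {p : ℕ}
    [Fact p.Prime] (hP : IsPGroup p P) :
    ∃ A : Subgroup P, A.Normal ∧ IsMulCommutative A ∧ Subgroup.centralizer (A : Set P) = A := by
  classical
  let 𝒜 : Set (Subgroup P) := {A | A.Normal ∧ IsMulCommutative A}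
  have hfin : 𝒜.Finite := Set.toFinite _
  have hne : 𝒜.Nonempty := ⟨⊥, inferInstance, inferInstance⟩
  obtain ⟨A, ⟨hAn, hAc⟩, hmax⟩ := Set.exists_max_image 𝒜 (fun A => Nat.card A) hfin hne
  refine ⟨A, hAn, hAc, ?_⟩
  haveI := hAn
  have hAC : A ≤ Subgroup.centralizer (A : Set P) := by
    intro a ha b hb
    exact congrArg Subtype.val (hAc.is_comm.comm ⟨b, hb⟩ ⟨a, ha⟩)
  by_contra hne'
  set C := Subgroup.centralizer (A : Set P) with hC
  haveI : C.Normal := by rw [hC]; infer_instance
  let f := QuotientGroup.mk' A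
  have hCbar : C.map f ≠ ⊥ := by
    intro h
    have hCA : C ≤ A := by
      intro c hc
      have : f c ∈ C.map f := Subgroup.mem_map_of_mem f hc
      rw [h, Subgroup.mem_bot] at this
      exact (QuotientGroup.eq_one_iff c).mp this
    exact hne' (le_antisymm hCA hAC)
  haveI : (C.map f).Normal := Subgroup.Normal.map inferInstance f (QuotientGroup.mk'_surjective A)
  haveI : Group.IsNilpotent (P ⧸ A) := (hP.to_quotient A).isNilpotent
  obtain ⟨xb, hxC, hxZ, hx1⟩ := Cfsg.Agent.S0015.exists_mem_center_of_normal (C.map f) hCbar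
  obtain ⟨x, hxC', rfl⟩ := hxC
  set B : Subgroup P := (Subgroup.zpowers (f x)).comap f with hB
  have hxA : x ∉ A := fun h => hx1 ((QuotientGroup.eq_one_iff x).mpr h)
  have hxB : x ∈ B := Subgroup.mem_zpowers (f x)
  have hAB : A ≤ B := by
    intro a ha
    show f a ∈ Subgroup.zpowers (f x)
    have : f a = 1 := (QuotientGroup.eq_one_iff a).mpr ha
    rw [this]; exact Subgroup.one_mem _
  have hBn : B.Normal := by
    have : (Subgroup.zpowers (f x)).Normal := by
      constructor
      intro n hn g
      have hnZ : n ∈ Subgroup.center (P ⧸ A) := by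
        obtain ⟨i, rfl⟩ := Subgroup.mem_zpowers_iff.mp hn
        exact Subgroup.zpow_mem _ hxZ i
      rw [Subgroup.mem_center_iff.mp hnZ g, mul_inv_cancel_right]
      exact hn
    exact this.comap f
  have hcomm : ∀ a ∈ A, Commute a x := fun a ha => hxC' a ha
  have hdecomp : ∀ g ∈ B, ∃ (i : ℤ) (a : P), a ∈ A ∧ g = x ^ i * a := by
    intro g hg
    obtain ⟨i, hi⟩ := Subgroup.mem_zpowers_iff.mp hg
    refine ⟨i, (x ^ i)⁻¹ * g, ?_, by group⟩
    rw [← QuotientGroup.eq]
    show f (x ^ i) = f g
    rw [map_zpow]; exact hi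
  have hBc : IsMulCommutative B := by
    refine ⟨⟨fun g h => Subtype.ext ?_⟩⟩
    obtain ⟨i, a, ha, hg⟩ := hdecomp g g.2
    obtain ⟨j, b, hb, hh⟩ := hdecomp h h.2
    show (g : P) * h = h * g
    rw [hg, hh]
    have h1 : Commute a (x ^ j) := (hcomm a ha).zpow_right j
    have h2 : Commute b (x ^ i) := (hcomm b hb).zpow_right i
    have h3 : a * b = b * a := congrArg Subtype.val (hAc.is_comm.comm ⟨a, ha⟩ ⟨b, hb⟩)
    calc x ^ i * a * (x ^ j * b) = x ^ i * (a * x ^ j) * b := by group
      _ = x ^ i * (x ^ j * a) * b := by rw [h1.eq]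
      _ = x ^ j * x ^ i * (a * b) := by rw [← mul_assoc (x ^ i), ← zpow_add, add_comm, zpow_add]; group
      _ = x ^ j * x ^ i * (b * a) := by rw [h3]
      _ = x ^ j * (x ^ i * b) * a := by group
      _ = x ^ j * (b * x ^ i) * a := by rw [h2.eq]
      _ = x ^ j * b * (x ^ i * a) := by group
  have hle : Nat.card B ≤ Nat.card A := hmax B ⟨hBn, hBc⟩
  have : A = B := Subgroup.eq_of_le_of_card_ge hAB hle
  exact hxA (this ▸ hxB)

theorem ucs_three_eq_top {G : Type*} [Group G]
    (h : ∀ x y z : G, ⁅⁅x, y⁆, z⁆ ∈ Subgroup.center G) :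
    Subgroup.upperCentralSeries G 3 = ⊤ := by
  rw [eq_top_iff]
  intro u _
  rw [Subgroup.mem_upperCentralSeries_succ_iff]
  intro y
  rw [Subgroup.mem_upperCentralSeries_succ_iff]
  intro z
  rw [Subgroup.upperCentralSeries_one]
  exact h u y z



/-- Let P be a finite p-group whose conjugacy classes have exactly two sizes (1 and one other value). Then P has nilpotency class at most 3. -/
theorem result {P : Type*} [Group P] [Finite P] {p : ℕ} [Fact p.Prime] (hP : IsPGroup p P)
    (m : ℕ) (hm : 1 < m) (h : ∀ x : P, (Subgroup.centralizer ({x} : Set P)).index = 1 ∨ (Subgroup.centralizer ({x} : Set P)).index = m) :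
    upperCentralSeries P 3 = ⊤ := by
  obtain ⟨A, hAn, hAc, hCA⟩ := exists_normal_abelian_self_centralizing hP
  haveI := hAn
  have hmin : ∀ g : P, 1 < (Subgroup.centralizer ({g} : Set P)).index →
      m ≤ (Subgroup.centralizer ({g} : Set P)).index := by
    intro g hg
    rcases h g with h1 | h1 <;> omega
  have key := Cfsg.Agent.S4163.main A hAc hCA m hmin
  have hall : ∀ x : P, x ∈ Subgroup.closure {x : P | (Subgroup.centralizer ({x} : Set P)).index = 1 ∨
      (Subgroup.centralizer ({x} : Set P)).index = m} := fun x => Subgroup.subset_closure (h x)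
  exact ucs_three_eq_top (fun x y z => key x (hall x) y (hall y) z (hall z))

end Cfsg.Agent.S4169
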