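import Cfsg.Statements.S4172
import Cfsg.Agent.S0081
import Cfsg.Agent.S0012
import Cfsg.Agent.S0051
import Cfsg.Agent.Lib.Helper22.PPrimeCore
import Cfsg.Agent.Lib.Helper22.PConstrained
import Cfsg.Agent.Lib.Helper22.FStar
import Cfsg.Agent.Lib.Helper22.Components
import Cfsg.Agent.Lib.Helper46.Ambient
import Cfsg.Agent.Lib.Helper21.Components
import Cfsg.Agent.Lib.Helper21.GenFitting
import Cfsg.Agent.Lib.Helper21.Quasisimple
import Cfsg.Agent.Lib.Helper21.AxB
import Cfsg.Agent.Lib.Helper29.Iso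
import Cfsg.Agent.Lib.Helper84.PResidualAux

set_option autoImplicit false
open Cfsg

namespace Cfsg.Agent.S4172

set_option linter.unusedSectionVars false
set_option linter.unusedVariables false
set_option linter.style.haveILetI false

section helpers

open scoped commutatorElement

section pgroup
variable {Q : Type*} [Group Q] [Finite Q] {p : ℕ} [Fact p.Prime]

theorem eq_of_le_of_index_eq' {H K : Subgroup Q} (h : H ≤ K) (hi : H.index = K.index) : H = K := by
  have h1 := Subgroup.relIndex_mul_index h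
  have hK : K.index ≠ 0 := Subgroup.index_ne_zero_of_finite
  rw [hi] at h1
  have h2 : H.relIndex K = 1 := by
    have : H.relIndex K * K.index = 1 * K.index := by rw [h1, one_mul]
    exact Nat.eq_of_mul_eq_mul_right (Nat.pos_of_ne_zero hK) this
  exact le_antisymm h (Subgroup.relIndex_eq_one.mp h2)

/-- If `Φ(Q)` has index `p²` and `A ≰ Φ(Q)`, then `Q = A⟨t⟩` for some `t`. -/
theorem exists_sup_zpowers_eq_top (hgen : (frattini Q).index = p ^ 2) (A : Subgroup Q)
    (hA : ¬ A ≤ frattini Q) : ∃ t : Q, A ⊔ Subgroup.zpowers t = ⊤ := by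
  have hp : p.Prime := Fact.out
  set B : Subgroup Q := A ⊔ frattini Q with hB
  have hΦB : frattini Q ≤ B := le_sup_right
  have hBidx : B.index ∣ p ^ 2 := hgen ▸ Subgroup.index_dvd_of_le hΦB
  have hBne : B.index ≠ p ^ 2 := by
    intro h
    have : frattini Q = B := eq_of_le_of_index_eq' hΦB (by rw [hgen, h])
    apply hA
    rw [this]
    exact le_sup_left
  have hBp : B.index ∣ p := by
    obtain ⟨k, hk, hk2⟩ := (Nat.dvd_prime_pow hp).mp hBidx
    interval_cases k
    · rw [hk2]; simp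
    · rw [hk2]; simp
    · exact absurd hk2 hBne
  by_cases hBtop : B = ⊤
  · refine ⟨1, ?_⟩
    have : A = ⊤ := frattini_nongenerating hBtop
    rw [this]; simp
  · obtain ⟨t, -, ht⟩ := SetLike.exists_of_lt (lt_top_iff_ne_top.mpr hBtop)
    refine ⟨t, ?_⟩
    have hlt : B < B ⊔ Subgroup.zpowers t := by
      refine lt_of_le_of_ne le_sup_left ?_
      intro h
      apply ht
      rw [h]
      exact Subgroup.mem_sup_right (Subgroup.mem_zpowers t)
    have hidx1 : B.index = p := by
      rcases (Nat.dvd_prime hp).mp hBp with h | h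
      · exact absurd (Subgroup.index_eq_one.mp h) hBtop
      · exact h
    have hidx2 : (B ⊔ Subgroup.zpowers t).index ∣ p := hidx1 ▸ Subgroup.index_dvd_of_le hlt.le
    have htop : B ⊔ Subgroup.zpowers t = ⊤ := by
      rcases (Nat.dvd_prime hp).mp hidx2 with h | h
      · exact Subgroup.index_eq_one.mp h
      · exact absurd (eq_of_le_of_index_eq' hlt.le (by rw [hidx1, h])) hlt.ne
    apply frattini_nongenerating
    rw [← htop, hB]
    ac_rfl

/-- If `A ⊴ Q` and `Q = A⟨t⟩` then every element is `a * t ^ i`. -/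
theorem exists_mul_zpow_of_sup_zpowers (A : Subgroup Q) [A.Normal] {t : Q}
    (ht : A ⊔ Subgroup.zpowers t = ⊤) (x : Q) : ∃ a ∈ A, ∃ i : ℤ, x = a * t ^ i := by
  have hx : x ∈ A ⊔ Subgroup.zpowers t := by rw [ht]; exact Subgroup.mem_top x
  rw [← SetLike.mem_coe, Subgroup.normal_mul] at hx
  obtain ⟨a, ha, y, hy, rfl⟩ := hx
  obtain ⟨i, rfl⟩ := Subgroup.mem_zpowers_iff.mp hy
  exact ⟨a, ha, i, rfl⟩

/-- If `A ⊴ Q` and `Q = A⟨t⟩` then `Q' ≤ A`. -/
theorem commutator_le_of_sup_zpowers (A : Subgroup Q) [hn : A.Normal] {t : Q}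
    (ht : A ⊔ Subgroup.zpowers t = ⊤) : commutator Q ≤ A := by
  rw [← Subgroup.Normal.quotient_commutative_iff_commutator_le]
  have key : ∀ x : Q, ∃ i : ℤ, (QuotientGroup.mk' A x) = (QuotientGroup.mk' A t) ^ i := by
    intro x
    obtain ⟨a, ha, i, rfl⟩ := exists_mul_zpow_of_sup_zpowers A ht x
    refine ⟨i, ?_⟩
    have h1 : QuotientGroup.mk' A a = 1 := (QuotientGroup.eq_one_iff a).mpr ha
    rw [map_mul, map_zpow, h1, one_mul]
  constructor
  constructor
  intro x y
  obtain ⟨x, rfl⟩ := QuotientGroup.mk'_surjective A x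
  obtain ⟨y, rfl⟩ := QuotientGroup.mk'_surjective A y
  obtain ⟨i, hi⟩ := key x
  obtain ⟨j, hj⟩ := key y
  rw [hi, hj]
  exact (Commute.refl _).zpow_zpow i j |>.eq

/-- **Lemma B.** Two normal subgroups of `Q` with trivial intersection, neither contained in
`Φ(Q)`: then `Q` is commutative. -/
theorem commutator_eq_bot_of_two_normal (hgen : (frattini Q).index = p ^ 2) (A₁ A₂ : Subgroup Q)
    [A₁.Normal] [A₂.Normal] (h : A₁ ⊓ A₂ = ⊥) (h₁ : ¬ A₁ ≤ frattini Q)
    (h₂ : ¬ A₂ ≤ frattini Q) : commutator Q = ⊥ := by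
  obtain ⟨t₁, ht₁⟩ := exists_sup_zpowers_eq_top hgen A₁ h₁
  obtain ⟨t₂, ht₂⟩ := exists_sup_zpowers_eq_top hgen A₂ h₂
  have := le_inf (commutator_le_of_sup_zpowers A₁ ht₁) (commutator_le_of_sup_zpowers A₂ ht₂)
  rw [h] at this
  exact le_bot_iff.mp this

end pgroup

section transfer
variable {E : Type*} [Group E] [Finite E] {p : ℕ} [Fact p.Prime]

/-- Transfer: a central element of a perfect group lying in a Sylow `p`-subgroup `S` lies in
`S'`. -/
theorem mem_commutator_of_central_of_perfect (hperf : commutator E = ⊤) (S : Subgroup E)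
    (hS : IsPGroup p S) (hidx : ¬ p ∣ S.index) {z : E} (hzS : z ∈ S)
    (hzc : ∀ g : E, g * z = z * g) : z ∈ ⁅S, S⁆ := by
  have hp : p.Prime := Fact.out
  let φ : ↥S →* Abelianization ↥S := Abelianization.of
  have key : ∀ (k : ℕ) (g₀ : E), g₀⁻¹ * z ^ k * g₀ ∈ S → g₀⁻¹ * z ^ k * g₀ = z ^ k := by
    intro k g₀ _
    have h1 : g₀ * z ^ k = z ^ k * g₀ := by
      have : Commute g₀ z := hzc g₀
      exact (this.pow_right k).eq
    calc g₀⁻¹ * z ^ k * g₀ = g₀⁻¹ * (z ^ k * g₀) := by group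
      _ = g₀⁻¹ * (g₀ * z ^ k) := by rw [h1]
      _ = z ^ k := by group
  have hT := MonoidHom.transfer_eq_pow φ z key
  have hker : MonoidHom.transfer φ z = 1 := by
    have h1 : z ∈ commutator E := by rw [hperf]; exact Subgroup.mem_top z
    exact MonoidHom.mem_ker.mp (Abelianization.commutator_subset_ker _ h1)
  rw [hker] at hT
  have h2 : (⟨z ^ S.index, MonoidHom.transfer_eq_pow_aux z key⟩ : ↥S) ∈ commutator ↥S := by
    rw [← Abelianization.ker_of]
    exact MonoidHom.mem_ker.mpr hT.symm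
  have h3 : z ^ S.index ∈ ⁅S, S⁆ := by
    rw [← Subgroup.map_subtype_commutator]
    exact ⟨_, h2, rfl⟩
  -- `z` is a power of `z ^ S.index`
  have hord : (S.index).Coprime (orderOf z) := by
    obtain ⟨k, hk⟩ := hS ⟨z, hzS⟩
    have hk' : z ^ p ^ k = 1 := congrArg Subtype.val hk
    have h4 : orderOf z ∣ p ^ k := orderOf_dvd_of_pow_eq_one hk'
    have h5 : (S.index).Coprime (p ^ k) :=
      Nat.Coprime.pow_right k ((Nat.Prime.coprime_iff_not_dvd hp).mpr hidx).symm
    exact Nat.Coprime.coprime_dvd_right h4 h5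
  obtain ⟨m, hm⟩ := exists_pow_eq_self_of_coprime hord
  rw [← hm]
  exact Subgroup.pow_mem _ h3 m

end transfer

section main
variable {G : Type*} [Group G] [Finite G] {p : ℕ} [Fact p.Prime] (P : Sylow p G)

/-- **Lemma T.** A nontrivial normal subgroup of `G` does not meet `P` inside `Φ(P)`. -/
theorem not_inf_le_frattini (hcore : Cfsg.pPrimeCore p G = ⊥)
    (hfrat : ((frattini ↥(P : Subgroup G)).map (P : Subgroup G).subtype).normalCore = ⊥)
    (K : Subgroup G) [hKn : K.Normal] (hK : K ≠ ⊥) :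
    ¬ K ⊓ (P : Subgroup G) ≤ (frattini ↥(P : Subgroup G)).map (P : Subgroup G).subtype := by
  intro h
  obtain ⟨Q, M, hMn, hMQ⟩ := Cfsg.Agent.S0081.result P K h
  have hidx : (Q : Subgroup K).index = Nat.card M := hMQ.index_eq_card
  have hcop : (Nat.card (M.map K.subtype)).Coprime p := by
    rw [Subgroup.card_map_of_injective K.subtype_injective, ← hidx]
    have hp : p.Prime := Fact.out
    exact ((Nat.Prime.coprime_iff_not_dvd hp).mpr Q.not_dvd_index).symm
  have hsub : (M.map K.subtype).IsSubnormal :=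
    Subgroup.IsSubnormal.trans' hMn.isSubnormal hKn.isSubnormal
  have hM : M.map K.subtype ≤ ⊥ := hcore ▸
    Cfsg.Agent.Lib.Helper22.le_pPrimeCore_of_isSubnormal_of_coprime p hsub hcop
  have hM' : M = ⊥ := by
    rw [le_bot_iff] at hM
    exact (Subgroup.map_eq_bot_iff_of_injective M K.subtype_injective).mp hM
  have hQtop : (Q : Subgroup K) = ⊤ := by
    rw [← Subgroup.index_eq_one, hidx, hM']
    simp
  have hKp : IsPGroup p K := by
    have := Q.isPGroup'
    rw [hQtop] at this
    exact IsPGroup.of_equiv this Subgroup.topEquiv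
  have hKP : K ≤ (P : Subgroup G) := hKp.le_sylow_of_normal P
  have hKΦ : K ≤ (frattini ↥(P : Subgroup G)).map (P : Subgroup G).subtype :=
    le_trans (le_inf le_rfl hKP) h
  have := Subgroup.normal_le_normalCore.mpr hKΦ
  rw [hfrat] at this
  exact hK (le_bot_iff.mp this)

theorem isMulCommutative_of_commutator_eq_bot {X : Type*} [Group X] (h : commutator X = ⊥) :
    IsMulCommutative X := by
  constructor
  constructor
  intro a b
  have : ⁅a, b⁆ ∈ commutator X := Subgroup.commutator_mem_commutator (Subgroup.mem_top a) (Subgroup.mem_top b)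
  rw [h, Subgroup.mem_bot] at this
  exact commutatorElement_eq_one_iff_mul_comm.mp this

/-- A subgroup `A` of `G`, normalized by `P`, with `A ∩ P ≰ Φ(P)`: then `A.subgroupOf P ≰ Φ(P)`. -/
theorem subgroupOf_not_le_frattini {A : Subgroup G}
    (hA : ¬ A ⊓ (P : Subgroup G) ≤ (frattini ↥(P : Subgroup G)).map (P : Subgroup G).subtype) :
    ¬ A.subgroupOf (P : Subgroup G) ≤ frattini ↥(P : Subgroup G) := by
  intro h
  apply hA
  rw [← Subgroup.subgroupOf_map_subtype]
  exact Subgroup.map_mono h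

/-- Two subgroups normalized by `P`, with trivial intersection, both meeting `P` outside `Φ(P)`:
impossible. -/
theorem false_of_two_normalized (hna : ¬ IsMulCommutative ↥(P : Subgroup G))
    (hgen : (frattini ↥(P : Subgroup G)).index = p ^ 2) {A₁ A₂ : Subgroup G}
    (hn₁ : (P : Subgroup G) ≤ Subgroup.normalizer (A₁ : Set G))
    (hn₂ : (P : Subgroup G) ≤ Subgroup.normalizer (A₂ : Set G))
    (h : A₁ ⊓ A₂ = ⊥)
    (h₁ : ¬ A₁ ⊓ (P : Subgroup G) ≤ (frattini ↥(P : Subgroup G)).map (P : Subgroup G).subtype)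
    (h₂ : ¬ A₂ ⊓ (P : Subgroup G) ≤ (frattini ↥(P : Subgroup G)).map (P : Subgroup G).subtype) :
    False := by
  have i₁ : (A₁.subgroupOf (P : Subgroup G)).Normal := by
    constructor
    intro a ha g
    have := hn₁ g.2
    rw [Subgroup.mem_normalizer_iff] at this
    exact (this a).mp ha
  have i₂ : (A₂.subgroupOf (P : Subgroup G)).Normal := by
    constructor
    intro a ha g
    have := hn₂ g.2
    rw [Subgroup.mem_normalizer_iff] at this
    exact (this a).mp ha
  have hinf : A₁.subgroupOf (P : Subgroup G) ⊓ A₂.subgroupOf (P : Subgroup G) = ⊥ := by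
    rw [eq_bot_iff]
    intro x hx
    have hx' : (x : G) ∈ A₁ ⊓ A₂ := ⟨hx.1, hx.2⟩
    rw [h, Subgroup.mem_bot] at hx'
    exact Subgroup.mem_bot.mpr (Subtype.ext hx')
  exact hna (isMulCommutative_of_commutator_eq_bot
    (commutator_eq_bot_of_two_normal hgen _ _ hinf (subgroupOf_not_le_frattini P h₁)
      (subgroupOf_not_le_frattini P h₂)))

/-- **Step 1.** `G` has a unique minimal normal subgroup. -/
theorem exists_min_normal (hna : ¬ IsMulCommutative ↥(P : Subgroup G))
    (hgen : (frattini ↥(P : Subgroup G)).index = p ^ 2) (hcore : Cfsg.pPrimeCore p G = ⊥)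
    (hfrat : ((frattini ↥(P : Subgroup G)).map (P : Subgroup G).subtype).normalCore = ⊥) :
    ∃ N : Subgroup G, N.Normal ∧ N ≠ ⊥ ∧ ∀ K : Subgroup G, K.Normal → K ≠ ⊥ → N ≤ K := by
  have hpair : ∀ K₁ K₂ : Subgroup G, K₁.Normal → K₂.Normal → K₁ ≠ ⊥ → K₂ ≠ ⊥ → K₁ ⊓ K₂ ≠ ⊥ := by
    intro K₁ K₂ hn₁ hn₂ h₁ h₂ h
    exact false_of_two_normalized P hna hgen
      (le_trans le_top (Subgroup.normalizer_eq_top_iff.mpr hn₁).ge)
      (le_trans le_top (Subgroup.normalizer_eq_top_iff.mpr hn₂).ge) h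
      (not_inf_le_frattini P hcore hfrat K₁ h₁) (not_inf_le_frattini P hcore hfrat K₂ h₂)
  have htop : (⊤ : Subgroup G) ≠ ⊥ := by
    intro h
    apply hna
    constructor
    constructor
    intro a b
    have ha : (a : G) ∈ (⊤ : Subgroup G) := Subgroup.mem_top _
    have hb : (b : G) ∈ (⊤ : Subgroup G) := Subgroup.mem_top _
    rw [h, Subgroup.mem_bot] at ha hb
    have ha' : a = 1 := Subtype.ext ha
    have hb' : b = 1 := Subtype.ext hb
    rw [ha', hb']
  obtain ⟨N, ⟨hNn, hN⟩, hmin⟩ := exists_minimal_of_wellFoundedLT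
    (fun K : Subgroup G => K.Normal ∧ K ≠ ⊥) ⟨⊤, inferInstance, htop⟩
  refine ⟨N, hNn, hN, ?_⟩
  intro K hKn hK
  have h1 : (N ⊓ K).Normal := Subgroup.normal_inf_normal N K
  have h2 : N ⊓ K ≠ ⊥ := hpair N K hNn hKn hN hK
  have h3 : N ≤ N ⊓ K := hmin ⟨h1, h2⟩ inf_le_left
  exact le_trans h3 inf_le_right

theorem eq_bot_of_normal_of_le_frattini
    (hfrat : ((frattini ↥(P : Subgroup G)).map (P : Subgroup G).subtype).normalCore = ⊥)
    {K : Subgroup G} (hKn : K.Normal)
    (hK : K ≤ (frattini ↥(P : Subgroup G)).map (P : Subgroup G).subtype) : K = ⊥ := by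
  have := Subgroup.normal_le_normalCore.mpr hK
  rw [hfrat] at this
  exact le_bot_iff.mp this

theorem commutator_sylow_le_frattini :
    ⁅(P : Subgroup G), (P : Subgroup G)⁆ ≤
      (frattini ↥(P : Subgroup G)).map (P : Subgroup G).subtype := by
  rw [← Subgroup.map_subtype_commutator]
  exact Subgroup.map_mono (Cfsg.Agent.S0012.result p P.isPGroup').1

theorem pow_mem_frattini_of_mem_sylow {x : G} (hx : x ∈ (P : Subgroup G)) :
    x ^ p ∈ (frattini ↥(P : Subgroup G)).map (P : Subgroup G).subtype :=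
  ⟨⟨x, hx⟩ ^ p, (Cfsg.Agent.S0012.result p P.isPGroup').2 ⟨x, hx⟩, rfl⟩

theorem fitting_le_sylow (hcore : Cfsg.pPrimeCore p G = ⊥) : fittingSubgroup G ≤ (P : Subgroup G) := by
  rw [Cfsg.Agent.Lib.Helper22.fittingSubgroup_eq_pCore_of_pPrimeCore_eq_bot p hcore]
  exact Cfsg.Agent.Lib.Helper46.pCore_le_sylow P

/-- A normal subgroup of `G` inside `P` is elementary abelian. -/
theorem normal_le_sylow_elementary
    (hfrat : ((frattini ↥(P : Subgroup G)).map (P : Subgroup G).subtype).normalCore = ⊥)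
    {F : Subgroup G} (hFn : F.Normal) (hFP : F ≤ (P : Subgroup G)) :
    (∀ a ∈ F, ∀ b ∈ F, a * b = b * a) ∧ ∀ a ∈ F, a ^ p = 1 := by
  constructor
  · have h1 : ⁅F, F⁆ = ⊥ := by
      apply eq_bot_of_normal_of_le_frattini P hfrat (Subgroup.commutator_normal F F)
      exact le_trans (Subgroup.commutator_mono hFP hFP) (commutator_sylow_le_frattini P)
    intro a ha b hb
    have : ⁅a, b⁆ ∈ ⁅F, F⁆ := Subgroup.commutator_mem_commutator ha hb
    rw [h1, Subgroup.mem_bot] at this
    exact commutatorElement_eq_one_iff_mul_comm.mp this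
  · set K : Subgroup G := Subgroup.closure {x | ∃ f ∈ F, x = f ^ p} with hK
    have hKn : K.Normal := by
      rw [← Subgroup.normalizer_eq_top_iff, eq_top_iff, hK, Subgroup.le_normalizer_closure_iff]
      rintro h - _ ⟨f, hf, rfl⟩
      apply Subgroup.subset_closure
      refine ⟨h * f * h⁻¹, hFn.conj_mem f hf h, ?_⟩
      rw [conj_pow]
    have hKΦ : K ≤ (frattini ↥(P : Subgroup G)).map (P : Subgroup G).subtype := by
      rw [hK, Subgroup.closure_le]
      rintro _ ⟨f, hf, rfl⟩
      exact pow_mem_frattini_of_mem_sylow P (hFP hf)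
    have hKbot := eq_bot_of_normal_of_le_frattini P hfrat hKn hKΦ
    intro a ha
    have : a ^ p ∈ K := Subgroup.subset_closure ⟨a, ha, rfl⟩
    rw [hKbot, Subgroup.mem_bot] at this
    exact this

/-- Abelian case: the layer is trivial. -/
theorem layer_eq_bot_of_abelian_min (hcore : Cfsg.pPrimeCore p G = ⊥)
    (hfrat : ((frattini ↥(P : Subgroup G)).map (P : Subgroup G).subtype).normalCore = ⊥)
    (N : Subgroup G) (hNn : N.Normal) (hN : N ≠ ⊥)
    (hmin : ∀ K : Subgroup G, K.Normal → K ≠ ⊥ → N ≤ K) (hNF : N ≤ fittingSubgroup G) :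
    layer G = ⊥ := by
  by_contra hE
  have hEn : (layer G).Normal := Cfsg.Agent.Lib.Helper29.layer_normal G
  have hNE : N ≤ layer G := hmin _ hEn hE
  have hNP : N ≤ (P : Subgroup G) := le_trans hNF (fitting_le_sylow P hcore)
  have hc : ⁅layer G, N⁆ = ⊥ := le_bot_iff.mp (le_trans (Subgroup.commutator_mono le_rfl hNF)
    (Cfsg.Agent.Lib.Helper21.layer_commutator_fittingSubgroup_eq_bot).le)
  obtain ⟨T, hT⟩ := Cfsg.Agent.Lib.Helper84.exists_sylow_subgroupOf_normal (layer G) P
  have hperf : commutator ↥(layer G) = ⊤ :=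
    (Subgroup.isPerfect_iff.mpr Cfsg.Agent.Lib.Helper22.layer_commutator_self).commutator_eq_top
  have hcent : layer G ≤ Subgroup.centralizer (N : Set G) :=
    Subgroup.commutator_eq_bot_iff_le_centralizer.mp hc
  have hNPP : N ≤ ⁅(P : Subgroup G), (P : Subgroup G)⁆ := by
    intro z hz
    have hzE := hNE hz
    have h1 := mem_commutator_of_central_of_perfect hperf (T : Subgroup (layer G)) T.isPGroup'
      T.not_dvd_index (z := ⟨z, hzE⟩) (by rw [hT]; exact hNP hz)
      (by
        intro g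
        apply Subtype.ext
        exact ((Subgroup.mem_centralizer_iff.mp (hcent g.2)) z hz).symm)
    rw [hT] at h1
    have h2 : (⁅(P : Subgroup G).subgroupOf (layer G), (P : Subgroup G).subgroupOf (layer G)⁆).map
        (layer G).subtype ≤ ⁅(P : Subgroup G), (P : Subgroup G)⁆ := by
      rw [Subgroup.map_commutator, Subgroup.subgroupOf_map_subtype]
      exact Subgroup.commutator_mono inf_le_left inf_le_left
    exact h2 ⟨_, h1, rfl⟩
  exact hN (eq_bot_of_normal_of_le_frattini P hfrat hNn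
    (le_trans hNPP (commutator_sylow_le_frattini P)))

/-- The decomposition `P = (N ∩ P)⟨t⟩`. -/
theorem exists_decomp (hgen : (frattini ↥(P : Subgroup G)).index = p ^ 2)
    (hcore : Cfsg.pPrimeCore p G = ⊥)
    (hfrat : ((frattini ↥(P : Subgroup G)).map (P : Subgroup G).subtype).normalCore = ⊥)
    (N : Subgroup G) (hNn : N.Normal) (hN : N ≠ ⊥) :
    ∃ t ∈ (P : Subgroup G), ∀ x ∈ (P : Subgroup G), ∃ a ∈ N, ∃ i : ℤ, x = a * t ^ i := by
  have hN' : ¬ N.subgroupOf (P : Subgroup G) ≤ frattini ↥(P : Subgroup G) :=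
    subgroupOf_not_le_frattini P (not_inf_le_frattini P hcore hfrat N hN)
  obtain ⟨t, ht⟩ := exists_sup_zpowers_eq_top hgen _ hN'
  refine ⟨t, t.2, ?_⟩
  intro x hx
  obtain ⟨a, ha, i, hi⟩ := exists_mul_zpow_of_sup_zpowers _ ht ⟨x, hx⟩
  refine ⟨a, ha, i, ?_⟩
  have := congrArg Subtype.val hi
  simpa using this

/-- Abelian case: `F(G) ≤ N`. -/
theorem fitting_le_of_abelian_min
    (hgen : (frattini ↥(P : Subgroup G)).index = p ^ 2) (hcore : Cfsg.pPrimeCore p G = ⊥)
    (hfrat : ((frattini ↥(P : Subgroup G)).map (P : Subgroup G).subtype).normalCore = ⊥)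
    (N : Subgroup G) (hNn : N.Normal) (hN : N ≠ ⊥)
    (hmin : ∀ K : Subgroup G, K.Normal → K ≠ ⊥ → N ≤ K) (hNF : N ≤ fittingSubgroup G) :
    fittingSubgroup G ≤ N := by
  have hp : p.Prime := Fact.out
  by_contra hFN
  obtain ⟨f, hfF, hfN⟩ := SetLike.not_le_iff_exists.mp hFN
  set F := fittingSubgroup G with hF
  have hFn : F.Normal := Cfsg.Agent.Lib.Helper29.fittingSubgroup_normal G
  have hFP : F ≤ (P : Subgroup G) := fitting_le_sylow P hcore
  obtain ⟨hFcomm, hFexp⟩ := normal_le_sylow_elementary P hfrat hFn hFP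
  have hNP : N ≤ (P : Subgroup G) := hNF.trans hFP
  obtain ⟨t, htP, hdec⟩ := exists_decomp P hgen hcore hfrat N hNn hN
  obtain ⟨a, ha, i, hi⟩ := hdec f (hFP hfF)
  have hwF : t ^ i ∈ F := by
    have : t ^ i = a⁻¹ * f := by rw [hi]; group
    rw [this]; exact F.mul_mem (F.inv_mem (hNF ha)) hfF
  have hwN : t ^ i ∉ N := fun h => hfN (hi ▸ N.mul_mem ha h)
  -- `⟨t⟩ ∩ F` has order dividing `p`
  have hCcyc : IsCyclic ↥(Subgroup.zpowers t ⊓ F) := Subgroup.isCyclic_of_le inf_le_left
  have hCcard : Nat.card ↥(Subgroup.zpowers t ⊓ F) ∣ p := by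
    rw [← IsCyclic.exponent_eq_card]
    apply Monoid.exponent_dvd_of_forall_pow_eq_one
    intro c
    apply Subtype.ext
    simpa using hFexp c.1 c.2.2
  have hM : Subgroup.zpowers t ⊓ N = ⊥ := by
    by_contra hM
    have hMC : Subgroup.zpowers t ⊓ N ≤ Subgroup.zpowers t ⊓ F := inf_le_inf_left _ hNF
    have h1 : Nat.card ↥(Subgroup.zpowers t ⊓ N) ∣ Nat.card ↥(Subgroup.zpowers t ⊓ F) :=
      Subgroup.card_dvd_of_le hMC
    have h2 : Nat.card ↥(Subgroup.zpowers t ⊓ N) ≠ 1 := by
      rwa [Ne, Subgroup.card_eq_one]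
    have h3 : Nat.card ↥(Subgroup.zpowers t ⊓ N) = p := by
      rcases (Nat.dvd_prime hp).mp (h1.trans hCcard) with h | h
      · exact absurd h h2
      · exact h
    have h4 : Nat.card ↥(Subgroup.zpowers t ⊓ F) = p := by
      rcases (Nat.dvd_prime hp).mp hCcard with h | h
      · rw [h] at h1; exact absurd (Nat.dvd_one.mp h1) h2
      · exact h
    have h5 : Subgroup.zpowers t ⊓ N = Subgroup.zpowers t ⊓ F :=
      Subgroup.eq_of_le_of_card_ge hMC (by rw [h3, h4])
    have : t ^ i ∈ Subgroup.zpowers t ⊓ F :=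
      ⟨Subgroup.zpow_mem _ (Subgroup.mem_zpowers _) i, hwF⟩
    rw [← h5] at this
    exact hwN this.2
  -- Gaschütz
  haveI : IsMulCommutative ↥N :=
    ⟨⟨fun a b => Subtype.ext (hFcomm a (hNF a.2) b (hNF b.2))⟩⟩
  have hcop : (Nat.card N).Coprime (P : Subgroup G).index :=
    Nat.Coprime.coprime_dvd_left (Subgroup.card_dvd_of_le hNP) P.card_coprime_index
  have hKA : N ⊔ Subgroup.zpowers t = (P : Subgroup G) := by
    apply le_antisymm (sup_le hNP ((Subgroup.zpowers_le).mpr htP))
    intro x hx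
    obtain ⟨a, ha, i, rfl⟩ := hdec x hx
    exact Subgroup.mul_mem _ (Subgroup.mem_sup_left ha)
      (Subgroup.mem_sup_right (Subgroup.zpow_mem _ (Subgroup.mem_zpowers _) i))
  obtain ⟨H, hH⟩ := Cfsg.Agent.S0051.result N (P : Subgroup G) hNP hcop (Subgroup.zpowers t)
    ((Subgroup.zpowers_le).mpr htP) hM hKA
  have hdecG : ∀ g : G, ∃ n ∈ N, ∃ h ∈ H, g = n * h := by
    intro g
    have hg : g ∈ N ⊔ H := by rw [hH.sup_eq_top]; exact Subgroup.mem_top g
    rw [← SetLike.mem_coe, Subgroup.normal_mul] at hg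
    obtain ⟨n, hn, h, hh, rfl⟩ := hg
    exact ⟨n, hn, h, hh, rfl⟩
  have hDne : F ⊓ H ≠ ⊥ := by
    intro hD
    obtain ⟨n, hn, h, hh, hfnh⟩ := hdecG f
    have hhF : h ∈ F := by
      have : h = n⁻¹ * f := by rw [hfnh]; group
      rw [this]; exact F.mul_mem (F.inv_mem (hNF hn)) hfF
    have : h ∈ F ⊓ H := ⟨hhF, hh⟩
    rw [hD, Subgroup.mem_bot] at this
    rw [this, mul_one] at hfnh
    exact hfN (hfnh ▸ hn)
  have hDn : (F ⊓ H).Normal := by
    constructor
    intro d hd g
    obtain ⟨n, hn, h, hh, rfl⟩ := hdecG g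
    have h1 : h * d * h⁻¹ ∈ F ⊓ H :=
      ⟨hFn.conj_mem d hd.1 h, H.mul_mem (H.mul_mem hh hd.2) (H.inv_mem hh)⟩
    have h2 : n * (h * d * h⁻¹) = (h * d * h⁻¹) * n := hFcomm _ (hNF hn) _ h1.1
    have h3 : n * h * d * (n * h)⁻¹ = h * d * h⁻¹ := by
      calc n * h * d * (n * h)⁻¹ = (n * (h * d * h⁻¹)) * n⁻¹ := by group
        _ = h * d * h⁻¹ := by rw [h2]; group
    rw [h3]
    exact h1
  have hND : N ≤ F ⊓ H := hmin _ hDn hDne
  have hNH : N ≤ H := hND.trans inf_le_right
  have := hH.disjoint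
  rw [disjoint_iff, inf_of_le_left hNH] at this
  exact hN this

/-- A normal subgroup contained in its own centralizer lies in the Fitting subgroup. -/
theorem le_fitting_of_le_centralizer {N : Subgroup G} (hNn : N.Normal)
    (h : N ≤ Subgroup.centralizer (N : Set G)) : N ≤ fittingSubgroup G := by
  apply Cfsg.Agent.Lib.Helper21.le_fittingSubgroup_of_normal_nilpotent hNn
  have : IsMulCommutative ↥N := by
    refine ⟨⟨fun a b => ?_⟩⟩
    apply Subtype.ext
    exact ((Subgroup.mem_centralizer_iff.mp (h a.2)) b b.2).symm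
  let _ : CommGroup ↥N := { (inferInstance : Group ↥N) with mul_comm := this.is_comm.comm }
  exact CommGroup.isNilpotent

/-- **Part 1.** -/
theorem part_one (hna : ¬ IsMulCommutative ↥(P : Subgroup G))
    (hgen : (frattini ↥(P : Subgroup G)).index = p ^ 2) (hcore : Cfsg.pPrimeCore p G = ⊥)
    (hfrat : ((frattini ↥(P : Subgroup G)).map (P : Subgroup G).subtype).normalCore = ⊥)
    (hFn : (generalizedFittingSubgroup G).Normal) :
    generalizedFittingSubgroup G ≠ ⊥ ∧
      ∀ K : Subgroup G, K.Normal → K ≠ ⊥ → generalizedFittingSubgroup G ≤ K := by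
  obtain ⟨N, hNn, hN, hmin⟩ := exists_min_normal P hna hgen hcore hfrat
  have hne : generalizedFittingSubgroup G ≠ ⊥ := by
    intro h
    have h1 := Cfsg.Agent.Lib.Helper21.centralizer_generalizedFittingSubgroup_le (G := G)
    rw [h] at h1
    apply hN
    rw [eq_bot_iff]
    intro x _
    apply h1
    rw [Subgroup.mem_centralizer_iff]
    intro y hy
    have : y = 1 := hy
    rw [this, one_mul, mul_one]
  have hNFs : N ≤ generalizedFittingSubgroup G := hmin _ hFn hne
  have hFsN : generalizedFittingSubgroup G ≤ N := by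
    unfold generalizedFittingSubgroup
    by_cases hab : N ≤ fittingSubgroup G
    · rw [layer_eq_bot_of_abelian_min P hcore hfrat N hNn hN hmin hab, bot_sup_eq]
      exact fitting_le_of_abelian_min P hgen hcore hfrat N hNn hN hmin hab
    · have hF : fittingSubgroup G = ⊥ := by
        by_contra hF
        exact hab (hmin _ (Cfsg.Agent.Lib.Helper29.fittingSubgroup_normal G) hF)
      rw [hF, sup_bot_eq]
      unfold layer
      apply sSup_le
      intro L hL
      rcases Cfsg.Agent.Lib.Helper21.component_le_or_commutator_eq_bot_of_normal hL hNn with h | h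
      · exact h
      · exfalso
        have hLC : L ≤ Subgroup.centralizer (N : Set G) :=
          Subgroup.commutator_eq_bot_iff_le_centralizer.mp h
        have hCn : (Subgroup.centralizer (N : Set G)).Normal := Subgroup.normal_centralizer
        have hCne : Subgroup.centralizer (N : Set G) ≠ ⊥ := by
          intro hC
          rw [hC, le_bot_iff] at hLC
          exact Cfsg.Agent.Lib.Helper22.component_ne_bot hL hLC
        exact hab (le_fitting_of_le_centralizer hNn (hmin _ hCn hCne))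
  refine ⟨hne, fun K hKn hK => hFsN.trans (hmin K hKn hK)⟩

/-- **Part 2.** -/
theorem part_two (hgen : (frattini ↥(P : Subgroup G)).index = p ^ 2)
    (hcore : Cfsg.pPrimeCore p G = ⊥)
    (hfrat : ((frattini ↥(P : Subgroup G)).map (P : Subgroup G).subtype).normalCore = ⊥)
    (N : Subgroup G) [hNn : N.Normal] (hN : N ≠ ⊥) :
    IsCyclic ↥((P : Subgroup G).map (QuotientGroup.mk' N)) := by
  obtain ⟨t, htP, hdec⟩ := exists_decomp P hgen hcore hfrat N hNn hN
  refine ⟨⟨⟨QuotientGroup.mk' N t, Subgroup.mem_map_of_mem _ htP⟩, fun y => ?_⟩⟩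
  obtain ⟨y, x, hx, rfl⟩ := y
  obtain ⟨a, ha, i, rfl⟩ := hdec x hx
  refine ⟨i, ?_⟩
  apply Subtype.ext
  have h1 : QuotientGroup.mk' N a = 1 := (QuotientGroup.eq_one_iff a).mpr ha
  simp only [Subgroup.coe_zpow, map_mul, map_zpow, h1, one_mul]

/-- Tate's theorem for a `p'`-generated subgroup `A` normalized by `P`: if `A ∩ P ≤ Φ(P)` then
`A` is a `p'`-group. -/
theorem coprime_card_of_inf_le_frattini (A : Subgroup G)
    (hPA : (P : Subgroup G) ≤ Subgroup.normalizer (A : Set G))
    (hgenA : A ≤ Subgroup.closure {k : G | k ∈ A ∧ (orderOf k).Coprime p})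
    (h : A ⊓ (P : Subgroup G) ≤ (frattini ↥(P : Subgroup G)).map (P : Subgroup G).subtype) :
    (Nat.card A).Coprime p := by
  have hp : p.Prime := Fact.out
  set H : Subgroup G := Subgroup.normalizer (A : Set G) with hH
  have hAH : A ≤ H := Subgroup.le_normalizer
  have hAn : (A.subgroupOf H).Normal := Subgroup.normal_in_normalizer
  have h' : A.subgroupOf H ⊓ ((P.subtype hPA : Sylow p ↥H) : Subgroup ↥H) ≤
      (frattini ↥((P.subtype hPA : Sylow p ↥H) : Subgroup ↥H)).map
        ((P.subtype hPA : Sylow p ↥H) : Subgroup ↥H).subtype := by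
    intro x hx
    have hx1 : (x : G) ∈ A := hx.1
    have hx2 : (x : G) ∈ (P : Subgroup G) := hx.2
    obtain ⟨y, hy, hyx⟩ := h ⟨hx1, hx2⟩
    let φ : ↥(P : Subgroup G) →* ↥((P : Subgroup G).subgroupOf H) :=
      (Subgroup.inclusion hPA).codRestrict _ (fun y => y.2)
    have hφ : Function.Surjective φ := by
      intro z
      exact ⟨⟨((z : ↥H) : G), z.2⟩, rfl⟩
    have h1 := frattini_le_comap_frattini_of_surjective hφ hy
    refine ⟨φ y, h1, ?_⟩
    exact Subtype.ext hyx
  obtain ⟨Q, M, hMn, hMQ⟩ := Cfsg.Agent.S0081.result (P.subtype hPA) (A.subgroupOf H) h'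
  -- every `p'`-element of `A` lies in `M`
  have hidx : M.index = Nat.card (Q : Subgroup ↥(A.subgroupOf H)) := hMQ.symm.index_eq_card
  have hAM : A ≤ (M.map (A.subgroupOf H).subtype).map H.subtype := by
    refine hgenA.trans ?_
    rw [Subgroup.closure_le]
    rintro k ⟨hkA, hk⟩
    let k' : ↥(A.subgroupOf H) := ⟨⟨k, hAH hkA⟩, hkA⟩
    have hord : orderOf k' = orderOf k := by
      rw [← Subgroup.orderOf_coe, ← Subgroup.orderOf_coe]
    have hkM : k' ∈ M := by
      rw [← QuotientGroup.eq_one_iff, ← orderOf_eq_one_iff]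
      have h1 : orderOf (k' : ↥(A.subgroupOf H) ⧸ M) ∣ orderOf k' :=
        orderOf_map_dvd (QuotientGroup.mk' M) k'
      have h2 : orderOf (k' : ↥(A.subgroupOf H) ⧸ M) ∣ Nat.card (↥(A.subgroupOf H) ⧸ M) :=
        orderOf_dvd_natCard _
      rw [← Subgroup.index_eq_card, hidx] at h2
      obtain ⟨n, hn⟩ := IsPGroup.iff_card.mp Q.isPGroup'
      rw [hn] at h2
      rw [hord] at h1
      have h3 : (orderOf (k' : ↥(A.subgroupOf H) ⧸ M)).Coprime (p ^ n) :=
        Nat.Coprime.pow_right n (Nat.Coprime.coprime_dvd_left h1 hk)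
      exact Nat.Coprime.eq_one_of_dvd h3 h2
    exact ⟨⟨k, hAH hkA⟩, ⟨k', hkM, rfl⟩, rfl⟩
  have hcard : Nat.card ↥((M.map (A.subgroupOf H).subtype).map H.subtype) = Nat.card M := by
    rw [Subgroup.card_map_of_injective H.subtype_injective,
      Subgroup.card_map_of_injective (A.subgroupOf H).subtype_injective]
  have hM : Nat.card M = (Q : Subgroup ↥(A.subgroupOf H)).index := hMQ.index_eq_card.symm
  have hdvd : Nat.card A ∣ (Q : Subgroup ↥(A.subgroupOf H)).index := by
    rw [← hM, ← hcard]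
    exact Subgroup.card_dvd_of_le hAM
  exact Nat.Coprime.coprime_dvd_left hdvd
    ((Nat.Prime.coprime_iff_not_dvd hp).mpr Q.not_dvd_index).symm

omit [Finite G] [Fact p.Prime] in
theorem le_normalizer_of_map_conj_le {H A : Subgroup G}
    (h : ∀ y ∈ H, A.map (MulAut.conj y).toMonoidHom ≤ A) :
    H ≤ Subgroup.normalizer (A : Set G) := by
  intro y hy
  rw [Subgroup.mem_normalizer_iff]
  intro n
  constructor
  · intro hn
    exact h y hy ⟨n, hn, rfl⟩
  · intro hn
    have := h y⁻¹ (H.inv_mem hy) ⟨y * n * y⁻¹, hn, rfl⟩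
    simpa [mul_assoc] using this

omit [Finite G] [Fact p.Prime] in
theorem map_conj_map_conj (K : Subgroup G) (x y : G) :
    (K.map (MulAut.conj x).toMonoidHom).map (MulAut.conj y).toMonoidHom =
      K.map (MulAut.conj (y * x)).toMonoidHom := by
  rw [Subgroup.map_map]
  congr 1
  ext g
  simp [mul_assoc]

omit [Finite G] [Fact p.Prime] in
theorem map_conj_one (K : Subgroup G) : K.map (MulAut.conj (1 : G)).toMonoidHom = K := by
  ext g
  simp

theorem sSup_le_closure_coprime (S : Set (Subgroup G)) (h : ∀ K ∈ S, ⁅K, K⁆ = K) :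
    sSup S ≤ Subgroup.closure {k : G | k ∈ sSup S ∧ (orderOf k).Coprime p} := by
  apply sSup_le
  intro K hK
  have h1 := Cfsg.Agent.Lib.Helper21.isPPrimeGenerated_of_perfect (p := p) (h K hK)
  unfold Cfsg.Agent.Lib.Helper21.IsPPrimeGenerated at h1
  refine h1.trans (Subgroup.closure_mono ?_)
  rintro k ⟨hk, hc⟩
  exact ⟨le_sSup hK hk, hc⟩

/-- A component inside a subgroup of order prime to `p`: impossible when `O_{p'}(G) = 1`. -/
theorem false_of_component_le_coprime (hcore : Cfsg.pPrimeCore p G = ⊥) {K A : Subgroup G}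
    (hK : IsComponent K) (hKA : K ≤ A) (hA : (Nat.card A).Coprime p) : False := by
  have h1 : (Nat.card K).Coprime p := Nat.Coprime.coprime_dvd_left (Subgroup.card_dvd_of_le hKA) hA
  have h2 := Cfsg.Agent.Lib.Helper22.le_pPrimeCore_of_isSubnormal_of_coprime p hK.1 h1
  rw [hcore, le_bot_iff] at h2
  exact Cfsg.Agent.Lib.Helper22.component_ne_bot hK h2

/-- **Part 3.** -/
theorem part_three (hna : ¬ IsMulCommutative ↥(P : Subgroup G))
    (hgen : (frattini ↥(P : Subgroup G)).index = p ^ 2) (hcore : Cfsg.pPrimeCore p G = ⊥)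
    (hFn : (generalizedFittingSubgroup G).Normal)
    (hmin : ∀ K : Subgroup G, K.Normal → K ≠ ⊥ → generalizedFittingSubgroup G ≤ K)
    (hnc : ¬ IsMulCommutative ↥(generalizedFittingSubgroup G))
    (K L : Subgroup G) (hK : IsComponent K) (hL : IsComponent L) :
    ∃ x ∈ (P : Subgroup G), L = K.map (MulAut.conj x).toMonoidHom := by
  by_contra hcon
  set 𝒪 : Set (Subgroup G) :=
    {K' | ∃ x ∈ (P : Subgroup G), K' = K.map (MulAut.conj x).toMonoidHom} with h𝒪
  set 𝒬 : Set (Subgroup G) := {L' | IsComponent L' ∧ L' ∉ 𝒪} with h𝒬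
  have hL𝒬 : L ∈ 𝒬 := ⟨hL, hcon⟩
  have hK𝒪 : K ∈ 𝒪 := ⟨1, Subgroup.one_mem _, (map_conj_one K).symm⟩
  have h𝒪comp : ∀ K' ∈ 𝒪, IsComponent K' := by
    rintro _ ⟨x, -, rfl⟩
    exact Cfsg.Agent.Lib.Helper21.isComponent_map_conj hK x
  have h𝒪P : ∀ y ∈ (P : Subgroup G), ∀ K' ∈ 𝒪, K'.map (MulAut.conj y).toMonoidHom ∈ 𝒪 := by
    rintro y hy _ ⟨x, hx, rfl⟩
    exact ⟨y * x, Subgroup.mul_mem _ hy hx, map_conj_map_conj K x y⟩
  have h𝒬P : ∀ y ∈ (P : Subgroup G), ∀ L' ∈ 𝒬, L'.map (MulAut.conj y).toMonoidHom ∈ 𝒬 := by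
    rintro y hy L' ⟨hL'c, hL'⟩
    refine ⟨Cfsg.Agent.Lib.Helper21.isComponent_map_conj hL'c y, ?_⟩
    rintro ⟨x, hx, hxe⟩
    apply hL'
    refine ⟨y⁻¹ * x, Subgroup.mul_mem _ (Subgroup.inv_mem _ hy) hx, ?_⟩
    rw [← map_conj_map_conj, ← hxe, map_conj_map_conj, inv_mul_cancel, map_conj_one]
  set N₁ : Subgroup G := sSup 𝒪 with hN₁
  set N₂ : Subgroup G := sSup 𝒬 with hN₂
  have hn₁ : (P : Subgroup G) ≤ Subgroup.normalizer (N₁ : Set G) := by
    apply le_normalizer_of_map_conj_le
    intro y hy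
    rw [Subgroup.map_le_iff_le_comap]
    apply sSup_le
    intro K' hK'
    rw [← Subgroup.map_le_iff_le_comap]
    exact le_sSup (h𝒪P y hy K' hK')
  have hn₂ : (P : Subgroup G) ≤ Subgroup.normalizer (N₂ : Set G) := by
    apply le_normalizer_of_map_conj_le
    intro y hy
    rw [Subgroup.map_le_iff_le_comap]
    apply sSup_le
    intro L' hL'
    rw [← Subgroup.map_le_iff_le_comap]
    exact le_sSup (h𝒬P y hy L' hL')
  have hcomm : N₁ ≤ Subgroup.centralizer (N₂ : Set G) := by
    apply sSup_le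
    intro K' hK'
    rw [Subgroup.le_centralizer_iff]
    apply sSup_le
    intro L' hL'
    rw [← Subgroup.commutator_eq_bot_iff_le_centralizer]
    apply Cfsg.Agent.Lib.Helper21.component_commutator_eq_bot_of_ne hL'.1 (h𝒪comp K' hK')
    rintro rfl
    exact hL'.2 hK'
  have hcomm' : N₂ ≤ Subgroup.centralizer (N₁ : Set G) := Subgroup.le_centralizer_iff.mp hcomm
  have hlayer : layer G ≤ N₁ ⊔ N₂ := by
    unfold layer
    apply sSup_le
    intro C hC
    by_cases hCO : C ∈ 𝒪
    · exact (le_sSup hCO).trans le_sup_left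
    · exact (le_sSup (show C ∈ 𝒬 from ⟨hC, hCO⟩)).trans le_sup_right
  have hN₁layer : N₁ ≤ layer G := by
    apply sSup_le
    intro K' hK'
    exact Cfsg.Agent.Lib.Helper21.component_le_layer (h𝒪comp K' hK')
  have hEn : (layer G).Normal := Cfsg.Agent.Lib.Helper29.layer_normal G
  have hZ : layer G ⊓ Subgroup.centralizer (layer G : Set G) = ⊥ := by
    by_contra hZ
    have hZn : (layer G ⊓ Subgroup.centralizer (layer G : Set G)).Normal :=
      Subgroup.normal_inf_normal _ _
    have h1 := hmin _ hZn hZ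
    have h2 : generalizedFittingSubgroup G = layer G :=
      le_antisymm (h1.trans inf_le_left) le_sup_left
    apply hnc
    refine ⟨⟨fun a b => ?_⟩⟩
    apply Subtype.ext
    have ha : (a : G) ∈ Subgroup.centralizer (layer G : Set G) := (h1.trans inf_le_right) a.2
    have hb : (b : G) ∈ layer G := h2 ▸ b.2
    exact ((Subgroup.mem_centralizer_iff.mp ha) b hb).symm
  have hinf : N₁ ⊓ N₂ = ⊥ := by
    rw [eq_bot_iff, ← hZ]
    intro x hx
    refine ⟨hN₁layer hx.1, ?_⟩
    have h1 : Subgroup.zpowers x ≤ Subgroup.centralizer (N₁ : Set G) :=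
      (Subgroup.zpowers_le.mpr hx.2).trans hcomm'
    have h2 : Subgroup.zpowers x ≤ Subgroup.centralizer (N₂ : Set G) :=
      (Subgroup.zpowers_le.mpr hx.1).trans hcomm
    rw [Subgroup.le_centralizer_iff] at h1 h2
    have h3 : layer G ≤ Subgroup.centralizer (Subgroup.zpowers x : Set G) :=
      hlayer.trans (sup_le h1 h2)
    rw [Subgroup.le_centralizer_iff] at h3
    exact h3 (Subgroup.mem_zpowers x)
  have hT₁ : ¬ N₁ ⊓ (P : Subgroup G) ≤
      (frattini ↥(P : Subgroup G)).map (P : Subgroup G).subtype := by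
    intro h
    have h1 := coprime_card_of_inf_le_frattini P N₁ hn₁ (sSup_le_closure_coprime 𝒪
      (fun K' hK' => Cfsg.Agent.Lib.Helper22.component_commutator_self (h𝒪comp K' hK'))) h
    exact false_of_component_le_coprime hcore hK (le_sSup hK𝒪) h1
  have hT₂ : ¬ N₂ ⊓ (P : Subgroup G) ≤
      (frattini ↥(P : Subgroup G)).map (P : Subgroup G).subtype := by
    intro h
    have h1 := coprime_card_of_inf_le_frattini P N₂ hn₂ (sSup_le_closure_coprime 𝒬
      (fun L' hL' => Cfsg.Agent.Lib.Helper22.component_commutator_self hL'.1)) h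
    exact false_of_component_le_coprime hcore hL (le_sSup hL𝒬) h1
  exact false_of_two_normalized P hna hgen hn₁ hn₂ hinf hT₁ hT₂

end main

end helpers


/-- Let p be a prime and G a finite group with a non-commutative Sylow p-subgroup P whose Frattini subgroup has index p² in P (P is generated by two elements). Suppose G has no nontrivial normal subgroup of order prime to p and the Frattini subgroup of P contains no nontrivial normal subgroup of G. Then the generalized Fitting subgroup F*(G) is the unique minimal normal subgroup of G, the image of P in G/F*(G) is cyclic, and if F*(G) is not commutative then P permutes the components of G transitively by conjugation. -/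
theorem result {G : Type*} [Group G] [Finite G] (p : ℕ) [Fact p.Prime] (P : Sylow p G) (hna : ¬ IsMulCommutative (P : Subgroup G)) (hgen : (frattini ↥(P : Subgroup G)).index = p ^ 2) (hcore : Cfsg.pPrimeCore p G = ⊥) (hfrat : ((frattini ↥(P : Subgroup G)).map (P : Subgroup G).subtype).normalCore = ⊥) [hFn : (Cfsg.generalizedFittingSubgroup G).Normal] :
    (Cfsg.generalizedFittingSubgroup G ≠ ⊥ ∧ ∀ K : Subgroup G, K.Normal → K ≠ ⊥ → Cfsg.generalizedFittingSubgroup G ≤ K) ∧
      IsCyclic ↥((P : Subgroup G).map (QuotientGroup.mk' (Cfsg.generalizedFittingSubgroup G))) ∧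
      (¬ IsMulCommutative (Cfsg.generalizedFittingSubgroup G) → ∀ K L : Subgroup G, Cfsg.IsComponent K → Cfsg.IsComponent L → ∃ x ∈ (P : Subgroup G), L = K.map (MulAut.conj x).toMonoidHom) := by
  have h1 := part_one P hna hgen hcore hfrat hFn
  exact ⟨h1, part_two P hgen hcore hfrat (Cfsg.generalizedFittingSubgroup G) h1.1,
    fun hnc K L hK hL => part_three P hna hgen hcore hFn h1.2 hnc K L hK hL⟩

end Cfsg.Agent.S4172
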