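import Cfsg.Statements.S4178
-- import your own Cfsg.Agent.* helpers here

set_option autoImplicit false
open Cfsg

namespace Cfsg.Agent.S4178


theorem index_le_of_map {G Y : Type*} [Group G] [Finite Y] (S : Subgroup G) (y0 : Y) (f : G → Y)
    (hne : ∀ g, f g ≠ y0) (hinj : ∀ g₁ g₂, f g₁ = f g₂ → g₁⁻¹ * g₂ ∈ S) :
    S.index ≤ Nat.card Y - 1 := by
  classical
  let F : G ⧸ S → {y : Y // y ≠ y0} := fun q => ⟨f q.out, hne _⟩
  have hF : Function.Injective F := by
    intro q₁ q₂ h
    have h' : f q₁.out = f q₂.out := congrArg Subtype.val h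
    have := hinj _ _ h'
    rw [← QuotientGroup.out_eq' q₁, ← QuotientGroup.out_eq' q₂]
    exact QuotientGroup.eq.mpr this
  have h1 : Nat.card (G ⧸ S) ≤ Nat.card {y : Y // y ≠ y0} := Nat.card_le_card_of_injective F hF
  have h2 : Nat.card {y : Y // y ≠ y0} = Nat.card Y - 1 := by
    have := Fintype.ofFinite Y
    rw [Nat.card_eq_fintype_card, Nat.card_eq_fintype_card]
    exact Set.card_ne_eq y0
  rw [Subgroup.index_eq_card]; omega

/-- A linear automorphism fixing a coset `x + W` (with `x ∉ W`) of an invariant subspace fixes a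
nonzero vector. -/
theorem exists_fixed_of_fix_coset {F V : Type*} [Field F] [AddCommGroup V] [Module F V]
    [FiniteDimensional F V] (g : V ≃ₗ[F] V) (W : Submodule F V) (hW : ∀ w ∈ W, g w ∈ W)
    (x : V) (hx : x ∉ W) (hgx : g x - x ∈ W) : ∃ v : V, v ≠ 0 ∧ g v = v := by
  classical
  set U : Submodule F V := W ⊔ Submodule.span F {x} with hU
  let φ : V →ₗ[F] V := (g : V →ₗ[F] V) - LinearMap.id
  have hφU : ∀ u ∈ U, φ u ∈ W := by
    intro u hu
    rw [hU, Submodule.mem_sup] at hu
    obtain ⟨w, hw, y, hy, rfl⟩ := hu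
    obtain ⟨c, rfl⟩ := Submodule.mem_span_singleton.mp hy
    have h1 : φ w ∈ W := by
      change g w - w ∈ W
      exact W.sub_mem (hW w hw) hw
    have h2 : φ (c • x) ∈ W := by
      rw [map_smul]
      exact W.smul_mem c hgx
    rw [map_add]
    exact W.add_mem h1 h2
  let ψ : U →ₗ[F] W := φ.restrict hφU
  have hlt : W < U := by
    refine lt_of_le_of_ne le_sup_left ?_
    intro h
    apply hx
    rw [h, hU]
    exact Submodule.mem_sup_right (Submodule.mem_span_singleton_self x)
  have hfr : Module.finrank F W < Module.finrank F U := Submodule.finrank_lt_finrank_of_lt hlt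
  have hninj : ¬ Function.Injective ψ := by
    intro hinj
    have := LinearMap.finrank_le_finrank_of_injective hinj
    omega
  rw [← LinearMap.ker_eq_bot] at hninj
  obtain ⟨u, hu, hu0⟩ := Submodule.exists_mem_ne_zero_of_ne_bot hninj
  refine ⟨(u : V), fun h => hu0 (Subtype.ext h), ?_⟩
  have h1 : ψ u = 0 := hu
  have h2 : φ (u : V) = 0 := by
    have := congrArg Subtype.val h1
    simpa [ψ, LinearMap.restrict_apply] using this
  have h3 : g (u : V) - (u : V) = 0 := h2
  exact sub_eq_zero.mp h3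

theorem real_bound (q d e n : ℕ) (hq : 1 ≤ q) (he : 2 * e ≤ d) (hn : n ≤ q ^ e - 1) :
    (n : ℝ) ≤ Real.sqrt ((q : ℝ) ^ d) - 1 := by
  have hqe : 1 ≤ q ^ e := Nat.one_le_pow _ _ hq
  have h1 : (n : ℝ) ≤ (q : ℝ) ^ e - 1 := by
    have : ((q ^ e - 1 : ℕ) : ℝ) = (q : ℝ) ^ e - 1 := by
      rw [Nat.cast_sub hqe]; simp
    rw [← this]; exact_mod_cast hn
  have h2 : (q : ℝ) ^ e ≤ Real.sqrt ((q : ℝ) ^ d) := by
    apply Real.le_sqrt_of_sq_le
    rw [← pow_mul]
    apply pow_le_pow_right₀
    · exact_mod_cast hq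
    · omega
  linarith

/-- Let F be a finite field with q elements, V a non-zero finite-dimensional F-space of dimension d, H a group of invertible linear maps of V, and R the subgroup of H generated by the elements of H that fix some non-zero vector (have eigenvalue 1). Then the index of R in H is at most q^d − 1; and if H leaves invariant some proper non-zero subspace, the index is at most q^(d/2) − 1. -/
theorem result {F V : Type*} [Field F] [Fintype F] [AddCommGroup V] [Module F V] [FiniteDimensional F V] [Nontrivial V]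
    (H : Subgroup (V ≃ₗ[F] V)) :
    (Subgroup.closure {h : ↥H | ∃ v : V, v ≠ 0 ∧ (h : V ≃ₗ[F] V) v = v}).index ≤ Fintype.card F ^ Module.finrank F V - 1 ∧
    ((∃ W : Submodule F V, W ≠ ⊥ ∧ W ≠ ⊤ ∧ ∀ h ∈ H, ∀ w ∈ W, h w ∈ W) →
      ((Subgroup.closure {h : ↥H | ∃ v : V, v ≠ 0 ∧ (h : V ≃ₗ[F] V) v = v}).index : ℝ) ≤ Real.sqrt ((Fintype.card F : ℝ) ^ Module.finrank F V) - 1) := by
  classical
  set R := Subgroup.closure {h : ↥H | ∃ v : V, v ≠ 0 ∧ (h : V ≃ₗ[F] V) v = v} with hR
  have : Finite V := Module.finite_of_finite F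
  have hfixR : ∀ h : ↥H, (∃ v : V, v ≠ 0 ∧ (h : V ≃ₗ[F] V) v = v) → h ∈ R :=
    fun h hh => Subgroup.subset_closure hh
  have hcardF : Nat.card F = Fintype.card F := Nat.card_eq_fintype_card
  have hq : 1 ≤ Fintype.card F := Fintype.card_pos
  -- general bound: for x with all h x in a finite-dimensional home
  have key : ∀ (x : V), x ≠ 0 → ∀ g₁ g₂ : ↥H, (g₁ : V ≃ₗ[F] V) x = (g₂ : V ≃ₗ[F] V) x →
      g₁⁻¹ * g₂ ∈ R := by
    intro x hx g₁ g₂ h
    apply hfixR
    refine ⟨x, hx, ?_⟩
    change (g₁ : V ≃ₗ[F] V)⁻¹ ((g₂ : V ≃ₗ[F] V) x) = x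
    rw [← h]
    exact (g₁ : V ≃ₗ[F] V).symm_apply_apply x
  refine ⟨?_, ?_⟩
  · obtain ⟨x, hx⟩ := exists_ne (0 : V)
    have h1 := index_le_of_map R (0 : V) (fun h : ↥H => (h : V ≃ₗ[F] V) x)
      (fun g => by simpa using hx) (key x hx)
    rw [Module.natCard_eq_pow_finrank (K := F) (V := V), hcardF] at h1
    exact h1
  · rintro ⟨W, hWbot, hWtop, hWinv⟩
    by_cases hcase : 2 * Module.finrank F W ≤ Module.finrank F V
    · -- use a nonzero vector of W
      obtain ⟨x, hxW, hx⟩ := Submodule.exists_mem_ne_zero_of_ne_bot hWbot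
      have h1 := index_le_of_map R (0 : W) (fun h : ↥H => (⟨(h : V ≃ₗ[F] V) x, hWinv h h.2 x hxW⟩ : W))
        (fun g => by
          intro h0
          have := congrArg Subtype.val h0
          simp at this
          exact hx this)
        (fun g₁ g₂ h => key x hx g₁ g₂ (congrArg Subtype.val h))
      rw [Module.natCard_eq_pow_finrank (K := F) (V := W), hcardF] at h1
      exact real_bound _ _ _ _ hq hcase h1
    · -- use the quotient V ⧸ W
      obtain ⟨x, hxW⟩ : ∃ x : V, x ∉ W := by
        by_contra hcon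
        exact hWtop (eq_top_iff.mpr fun v _ => by
          by_contra hv
          exact hcon ⟨v, hv⟩)
      have hinvmem : ∀ h : ↥H, ∀ w : V, (h : V ≃ₗ[F] V) w ∈ W → w ∈ W := by
        intro h w hw
        have := hWinv (h⁻¹ : ↥H) (h⁻¹ : ↥H).2 _ hw
        have h2 : ((h⁻¹ : ↥H) : V ≃ₗ[F] V) ((h : V ≃ₗ[F] V) w) = w :=
          (h : V ≃ₗ[F] V).symm_apply_apply w
        rwa [h2] at this
      have : Finite (V ⧸ W) :=
        Finite.of_surjective (Submodule.Quotient.mk (p := W)) (Submodule.Quotient.mk_surjective W)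
      have h1 := index_le_of_map R (0 : V ⧸ W)
        (fun h : ↥H => (Submodule.Quotient.mk ((h : V ≃ₗ[F] V) x) : V ⧸ W))
        (fun g => by
          intro h0
          rw [Submodule.Quotient.mk_eq_zero] at h0
          exact hxW (hinvmem g x h0))
        (fun g₁ g₂ h => by
          rw [Submodule.Quotient.eq] at h
          apply hfixR
          -- g = g₁⁻¹ g₂ fixes the coset x + W
          have hg : ((g₁⁻¹ * g₂ : ↥H) : V ≃ₗ[F] V) x - x ∈ W := by
            apply hinvmem g₁
            have : (g₁ : V ≃ₗ[F] V) (((g₁⁻¹ * g₂ : ↥H) : V ≃ₗ[F] V) x - x) =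
                (g₂ : V ≃ₗ[F] V) x - (g₁ : V ≃ₗ[F] V) x := by
              rw [map_sub]
              congr 1
              change (g₁ : V ≃ₗ[F] V) ((g₁ : V ≃ₗ[F] V)⁻¹ ((g₂ : V ≃ₗ[F] V) x)) = _
              exact (g₁ : V ≃ₗ[F] V).apply_symm_apply _
            rw [this]
            have := W.neg_mem h
            simpa using this
          exact exists_fixed_of_fix_coset _ W (fun w hw => hWinv _ (g₁⁻¹ * g₂ : ↥H).2 w hw) x hxW hg)
      rw [Module.natCard_eq_pow_finrank (K := F) (V := V ⧸ W), hcardF] at h1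
      have hdim := Submodule.finrank_quotient_add_finrank W
      exact real_bound _ _ _ _ hq (by omega) h1

end Cfsg.Agent.S4178
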