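import Cfsg.Statements.S4182
-- import your own Cfsg.Agent.* helpers here

set_option autoImplicit false
open Cfsg

namespace Cfsg.Agent.S4182


open Pointwise

universe u v

section basics

variable {G : Type u} [Group G]

/-- `g` is a `p`-element. -/
def IsPEl (p : ℕ) (g : G) : Prop := ∃ k : ℕ, orderOf g = p ^ k

/-- the subgroup generated by the `p`-elements of `H` -/
def pGen (p : ℕ) (H : Subgroup G) : Subgroup G := Subgroup.closure {g | g ∈ H ∧ IsPEl p g}

theorem pGen_le (p : ℕ) (H : Subgroup G) : pGen p H ≤ H :=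
  (Subgroup.closure_le _).mpr (fun _ hg => hg.1)

theorem pGen_mono (p : ℕ) {H H' : Subgroup G} (h : H ≤ H') : pGen p H ≤ pGen p H' :=
  Subgroup.closure_mono (fun _ hg => ⟨h hg.1, hg.2⟩)

theorem mem_pGen (p : ℕ) {H : Subgroup G} {g : G} (hg : g ∈ H) (hp : IsPEl p g) : g ∈ pGen p H :=
  Subgroup.subset_closure ⟨hg, hp⟩

theorem pGen_pGen (p : ℕ) (H : Subgroup G) : pGen p (pGen p H) = pGen p H :=
  le_antisymm (pGen_le p _)
    ((Subgroup.closure_le _).mpr fun _ hg => mem_pGen p (mem_pGen p hg.1 hg.2) hg.2)

theorem isPEl_conj_smul (p : ℕ) (a : MulAut G) (x : G) : IsPEl p (a • x) ↔ IsPEl p x := by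
  unfold IsPEl
  have : orderOf (a • x) = orderOf x := by
    rw [MulAut.smul_def]
    exact orderOf_injective a.toMonoidHom a.injective x
  rw [this]

theorem pGen_smul (p : ℕ) (a : MulAut G) (H : Subgroup G) : pGen p (a • H) = a • pGen p H := by
  unfold pGen
  rw [Subgroup.smul_closure]
  congr 1
  ext y
  rw [Set.mem_smul_set_iff_inv_smul_mem]
  simp only [Set.mem_ofPred_eq]
  rw [Subgroup.mem_pointwise_smul_iff_inv_smul_mem, isPEl_conj_smul]

theorem smul_eq_top_iff (a : MulAut G) (H : Subgroup G) : a • H = ⊤ ↔ H = ⊤ := by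
  constructor
  · intro h
    rw [eq_top_iff] at h ⊢
    intro x _
    have := h (Subgroup.mem_top (a • x))
    rwa [Subgroup.smul_mem_pointwise_smul_iff] at this
  · rintro rfl
    rw [eq_top_iff]
    intro x _
    rw [Subgroup.mem_pointwise_smul_iff_inv_smul_mem]
    trivial

/-- proper subgroups generated by their `p`-elements -/
def PP (p : ℕ) (M : Subgroup G) : Prop := M ≠ ⊤ ∧ pGen p M = M

theorem PP_smul (p : ℕ) (a : MulAut G) {M : Subgroup G} (h : PP p M) : PP p (a • M) := by
  refine ⟨fun h' => h.1 ((smul_eq_top_iff a M).mp h'), ?_⟩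
  rw [pGen_smul, h.2]

theorem maximal_smul (p : ℕ) (a : MulAut G) {M : Subgroup G} (h : Maximal (PP p) M) :
    Maximal (PP p) (a • M) := by
  refine ⟨PP_smul p a h.1, ?_⟩
  intro M' hM' hle
  have h1 : M ≤ a⁻¹ • M' := by
    rw [← Subgroup.pointwise_smul_le_pointwise_smul_iff (a := a), smul_inv_smul]
    exact hle
  have h2 := h.2 (PP_smul p a⁻¹ hM') h1
  rw [← Subgroup.pointwise_smul_le_pointwise_smul_iff (a := a), smul_inv_smul] at h2
  exact h2

theorem PP_pGen (p : ℕ) {K : Subgroup G} (hK : K ≠ ⊤) : PP p (pGen p K) :=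
  ⟨fun h => hK (eq_top_iff.mpr (h ▸ pGen_le p K)), pGen_pGen p K⟩

/-- A group generated by `p`-elements, seen as a subgroup `M` with `pGen p M = M`. -/
theorem closure_pEl_subtype (p : ℕ) (M : Subgroup G) (hM : pGen p M = M) :
    Subgroup.closure {g : M | ∃ k : ℕ, orderOf g = p ^ k} = ⊤ := by
  apply Subgroup.map_injective M.subtype_injective
  rw [MonoidHom.map_closure, ← MonoidHom.range_eq_map, Subgroup.range_subtype]
  conv_rhs => rw [← hM]
  unfold pGen
  congr 1
  ext y
  simp only [Set.mem_image, Set.mem_ofPred_eq, Subgroup.coe_subtype, Subtype.exists, exists_and_right,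
    exists_eq_right, IsPEl]
  constructor
  · rintro ⟨hy, k, hk⟩
    exact ⟨hy, k, by rw [← hk, Subgroup.orderOf_mk]⟩
  · rintro ⟨hy, k, hk⟩
    exact ⟨hy, k, by rw [← hk, Subgroup.orderOf_mk]⟩

end basics


/-- A finite `p`-group is not the union of at most `p` proper subgroups. -/
theorem pgroup_cover {P : Type*} [Group P] [Finite P] {p : ℕ} [Fact p.Prime] (hP : IsPGroup p P)
    {κ : Type*} [Fintype κ] (H : κ → Subgroup P) (hH : ∀ i, H i ≠ ⊤)
    (hcov : ∀ g : P, ∃ i, g ∈ H i) : p + 1 ≤ Fintype.card κ := by
  classical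
  have hp : p.Prime := Fact.out
  have := Fintype.ofFinite P
  by_contra hlt
  have hr : Fintype.card κ ≤ p := by omega
  obtain ⟨n, hn⟩ := IsPGroup.iff_card.mp hP
  obtain ⟨i0, _⟩ := hcov 1
  -- each H i has order at most p^(n-1), and n ≥ 1
  have hn1 : 1 ≤ n := by
    by_contra h0
    have h0' : n = 0 := by omega
    rw [h0', pow_zero] at hn
    apply hH i0
    have : Subsingleton P := (Nat.card_eq_one_iff_unique.mp hn).1
    exact Subsingleton.elim _ _
  have hcard : ∀ i, Nat.card (H i) ≤ p ^ (n - 1) := by
    intro i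
    have hdvd : Nat.card (H i) ∣ p ^ n := hn ▸ Subgroup.card_subgroup_dvd_card (H i)
    obtain ⟨m, hm, hm'⟩ := (Nat.dvd_prime_pow hp).mp hdvd
    have hmn : m ≠ n := by
      intro h
      apply hH i
      apply Subgroup.eq_top_of_card_eq
      rw [hm', h, hn]
    rw [hm']
    exact Nat.pow_le_pow_right hp.pos (by omega)
  -- count the non-identity elements
  let S : κ → Finset P := fun i => Finset.univ.filter (fun g => g ∈ H i ∧ g ≠ 1)
  have hS : ∀ i, (S i).card + 1 = Nat.card (H i) := by
    intro i
    have h1 : Nat.card (H i) = (Finset.univ.filter (fun g => g ∈ H i)).card := by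
      rw [Nat.card_eq_fintype_card, Fintype.card_subtype]
    have h2 : Finset.univ.filter (fun g => g ∈ H i) = insert 1 (S i) := by
      ext g
      simp only [Finset.mem_filter, Finset.mem_univ, true_and, Finset.mem_insert, S]
      constructor
      · intro hg
        by_cases h : g = 1
        · left; exact h
        · right; exact ⟨hg, h⟩
      · rintro (rfl | ⟨hg, _⟩)
        · exact (H i).one_mem
        · exact hg
    rw [h1, h2, Finset.card_insert_of_notMem]
    simp [S]
  have hsub : Finset.univ.filter (fun g : P => g ≠ 1) ⊆ Finset.univ.biUnion S := by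
    intro g hg
    rw [Finset.mem_filter] at hg
    obtain ⟨i, hi⟩ := hcov g
    rw [Finset.mem_biUnion]
    exact ⟨i, Finset.mem_univ _, by simp [S, hi, hg.2]⟩
  have hle1 : (Finset.univ.filter (fun g : P => g ≠ 1)).card ≤ ∑ i, (S i).card :=
    (Finset.card_le_card hsub).trans Finset.card_biUnion_le
  have hne : (Finset.univ.filter (fun g : P => g ≠ 1)).card + 1 = p ^ n := by
    rw [← hn, Nat.card_eq_fintype_card]
    have : Finset.univ = insert (1 : P) (Finset.univ.filter (fun g : P => g ≠ 1)) := by
      ext g
      simp only [Finset.mem_univ, Finset.mem_insert, Finset.mem_filter, true_and, true_iff]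
      exact em _
    rw [← Finset.card_univ]
    conv_rhs => rw [this]
    rw [Finset.card_insert_of_notMem]
    simp
  have hle2 : ∑ i, (S i).card ≤ Fintype.card κ * (p ^ (n - 1) - 1) := by
    rw [← Finset.card_univ, ← smul_eq_mul, ← Finset.sum_const]
    apply Finset.sum_le_sum
    intro i _
    have := hS i
    have := hcard i
    omega
  have hle3 : Fintype.card κ * (p ^ (n - 1) - 1) ≤ p * (p ^ (n - 1) - 1) :=
    Nat.mul_le_mul_right _ hr
  have hpn : p * p ^ (n - 1) = p ^ n := by
    rw [← pow_succ']; congr 1; omega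
  have h1 : 1 ≤ p ^ (n - 1) := Nat.one_le_pow _ _ hp.pos
  have hp2 : 2 ≤ p := hp.two_le
  have : p * (p ^ (n - 1) - 1) = p ^ n - p := by
    rw [Nat.mul_sub, hpn, mul_one]
  have hpn' : p ≤ p ^ n := by
    calc p = p ^ 1 := (pow_one p).symm
      _ ≤ p ^ n := Nat.pow_le_pow_right hp.pos hn1
  omega


section main

variable {G : Type u} [Group G] [Finite G]

/-- If a `p`-element `x` lies in a maximal `M₀` and does not normalize the maximal `M`, there are
at least `p + 1` maximal subgroups. -/
theorem card_maximal_ge (p : ℕ) [Fact p.Prime] (x : G) (hx : IsPEl p x)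
    (M₀ M : Subgroup G) (hM₀ : Maximal (PP p) M₀) (hM : Maximal (PP p) M) (hxM₀ : x ∈ M₀)
    (hne : MulAut.conj x • M ≠ M) :
    p + 1 ≤ Nat.card {M : Subgroup G // Maximal (PP p) M} := by
  classical
  have hp : p.Prime := Fact.out
  -- powers of x fix M₀
  have hfix0 : ∀ j : ℕ, MulAut.conj (x ^ j) • M₀ = M₀ := fun j =>
    Subgroup.conj_smul_eq_self_of_mem (M₀.pow_mem hxM₀ j)
  have hMne : M ≠ M₀ := by
    rintro rfl
    exact hne (by simpa using hfix0 1)
  -- if x^d normalizes M with 0 < d < p then x does
  have hd : ∀ d : ℕ, 0 < d → d < p → MulAut.conj (x ^ d) • M ≠ M := by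
    intro d hd0 hdp hdM
    apply hne
    obtain ⟨k, hk⟩ := hx
    have hcop : d.Coprime (orderOf x) := by
      rw [hk]
      apply Nat.Coprime.pow_right
      exact ((Nat.Prime.coprime_iff_not_dvd hp).mpr (Nat.not_dvd_of_pos_of_lt hd0 hdp)).symm
    obtain ⟨m, hm⟩ := exists_pow_eq_self_of_coprime hcop
    have : ∀ m : ℕ, MulAut.conj ((x ^ d) ^ m) • M = M := by
      intro m
      induction m with
      | zero => simp
      | succ m ih => rw [pow_succ, map_mul, mul_smul, hdM, ih]
    rw [← hm]
    exact this m
  let F : Fin (p + 1) → {M : Subgroup G // Maximal (PP p) M} := fun j =>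
    Fin.cases ⟨M₀, hM₀⟩ (fun i : Fin p => ⟨MulAut.conj (x ^ (i : ℕ)) • M, maximal_smul p _ hM⟩) j
  have hF : Function.Injective F := by
    intro a b hab
    induction a using Fin.cases with
    | zero =>
      induction b using Fin.cases with
      | zero => rfl
      | succ j =>
        exfalso
        have h1 : M₀ = MulAut.conj (x ^ (j : ℕ)) • M := congrArg Subtype.val hab
        apply hMne
        have h2 : MulAut.conj (x ^ (j : ℕ)) • M = MulAut.conj (x ^ (j : ℕ)) • M₀ := by
          rw [← h1, hfix0]
        exact smul_left_cancel _ h2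
    | succ i =>
      induction b using Fin.cases with
      | zero =>
        exfalso
        have h1 : MulAut.conj (x ^ (i : ℕ)) • M = M₀ := congrArg Subtype.val hab
        apply hMne
        have h2 : MulAut.conj (x ^ (i : ℕ)) • M = MulAut.conj (x ^ (i : ℕ)) • M₀ := by
          rw [h1, hfix0]
        exact smul_left_cancel _ h2
      | succ j =>
        have h1 : MulAut.conj (x ^ (i : ℕ)) • M = MulAut.conj (x ^ (j : ℕ)) • M :=
          congrArg Subtype.val hab
        congr 1
        by_contra hij
        -- wlog i < j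
        have key : ∀ a b : ℕ, a < b → b < p →
            MulAut.conj (x ^ a) • M = MulAut.conj (x ^ b) • M → False := by
          intro a b hab hb h
          apply hd (b - a) (by omega) (by omega)
          have : x ^ b = x ^ a * x ^ (b - a) := by rw [← pow_add]; congr 1; omega
          rw [this, map_mul, mul_smul] at h
          exact (smul_left_cancel _ h).symm
        rcases lt_or_gt_of_ne (fun h => hij (Fin.ext h)) with h | h
        · exact key i j h j.2 h1
        · exact key j i h i.2 h1.symm
  have := Nat.card_le_card_of_injective F hF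
  simpa using this


/-- The main induction. -/
theorem main (p : ℕ) [Fact p.Prime] : ∀ (n : ℕ) (G : Type u) [Group G] [Finite G], Nat.card G = n →
    Subgroup.closure {g : G | ∃ k : ℕ, orderOf g = p ^ k} = ⊤ →
    ∀ (ι : Type v) [Fintype ι] (K : ι → Subgroup G), (∀ i, K i ≠ ⊤) →
    (∀ g : G, (∃ k : ℕ, orderOf g = p ^ k) → ∃ i, g ∈ K i) → p + 1 ≤ Fintype.card ι := by
  intro n
  induction n using Nat.strong_induction_on with
  | _ n ih =>
    intro G _ _ hn hgen ι _ K hK hcov
    classical
    by_contra hlt
    have hr : Fintype.card ι ≤ p := by omega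
    -- Step 1: every proper p-generated subgroup lies in some K i
    have step1 : ∀ M : Subgroup G, PP p M → ∃ i, M ≤ K i := by
      intro M hM
      by_contra hcon
      have hcon' : ∀ i, ¬ M ≤ K i := fun i h => hcon ⟨i, h⟩
      have hcardM : Nat.card M < n := by
        rw [← hn]
        by_contra hge
        exact hM.1 (Subgroup.eq_top_of_le_card M (by omega))
      have hgenM := closure_pEl_subtype p M hM.2
      have := ih (Nat.card M) hcardM M rfl hgenM ι (fun i => (K i).subgroupOf M)
        (fun i h => hcon' i (Subgroup.subgroupOf_eq_top.mp h))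
        (fun g hg => by
          obtain ⟨k, hk⟩ := hg
          obtain ⟨i, hi⟩ := hcov g ⟨k, by rw [← hk, Subgroup.orderOf_coe]⟩
          exact ⟨i, hi⟩)
      omega
    -- maximal proper p-generated subgroups
    have hMsub : ∀ M : Subgroup G, Maximal (PP p) M → ∃ i, M = pGen p (K i) := by
      intro M hM
      obtain ⟨i, hi⟩ := step1 M hM.1
      refine ⟨i, le_antisymm ?_ ?_⟩
      · rw [← hM.1.2]; exact pGen_mono p hi
      · apply hM.2 (PP_pGen p (hK i))
        rw [← hM.1.2]; exact pGen_mono p hi
    have hcardM : Nat.card {M : Subgroup G // Maximal (PP p) M} ≤ p := by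
      choose f hf using hMsub
      have hinj : Function.Injective (fun M : {M : Subgroup G // Maximal (PP p) M} => f M.1 M.2) := by
        intro M M' h
        apply Subtype.ext
        rw [hf M.1 M.2, hf M'.1 M'.2]
        simp only at h
        rw [h]
      have := Nat.card_le_card_of_injective _ hinj
      have h2 : Nat.card ι = Fintype.card ι := Nat.card_eq_fintype_card
      omega
    have hcovM : ∀ x : G, IsPEl p x → ∃ M : Subgroup G, Maximal (PP p) M ∧ x ∈ M := by
      intro x hx
      obtain ⟨i, hi⟩ := hcov x hx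
      obtain ⟨M, hle, hM⟩ := Finite.exists_le_maximal (PP_pGen p (hK i))
      exact ⟨M, hM, hle (mem_pGen p hi hx)⟩
    -- Step 3: all maximal ones are normal
    have hnormal : ∀ M : Subgroup G, Maximal (PP p) M → M.Normal := by
      intro M hM
      have hfix : ∀ x : G, IsPEl p x → MulAut.conj x • M = M := by
        intro x hx
        by_contra hne
        obtain ⟨M₀, hM₀, hxM₀⟩ := hcovM x hx
        have := card_maximal_ge p x hx M₀ M hM₀ hM hxM₀ hne
        omega
      -- the normalizer contains all p-elements
      have hnorm : ∀ g : G, MulAut.conj g • M = M := by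
        intro g
        have hg : g ∈ Subgroup.closure {g : G | ∃ k : ℕ, orderOf g = p ^ k} := by
          rw [hgen]; trivial
        induction hg using Subgroup.closure_induction with
        | mem x hx => exact hfix x hx
        | one => simp
        | mul x y _ _ hx hy => rw [map_mul, mul_smul, hy, hx]
        | inv x _ hx =>
          rw [map_inv]
          exact inv_smul_eq_iff.mpr hx.symm
      constructor
      intro m hm g
      have h1 : MulAut.conj g • m ∈ MulAut.conj g • M := Subgroup.smul_mem_pointwise_smul m _ M hm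
      rw [hnorm g] at h1
      simpa [MulAut.smul_def] using h1
    -- Step 5: a Sylow p-subgroup is covered by at most p proper subgroups
    obtain ⟨P⟩ : Nonempty (Sylow p G) := inferInstance
    have hPnot : ∀ M : Subgroup G, Maximal (PP p) M → ¬ (P : Subgroup G) ≤ M := by
      intro M hM hPM
      have := hnormal M hM
      apply hM.1.1
      rw [eq_top_iff, ← hgen, Subgroup.closure_le]
      rintro x ⟨k, hk⟩
      -- x lies in a conjugate of P
      have hpg : IsPGroup p (Subgroup.zpowers x) := by
        apply IsPGroup.of_card (n := k)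
        rw [Nat.card_zpowers, hk]
      obtain ⟨Q, hQ⟩ := hpg.exists_le_sylow
      obtain ⟨g, hg⟩ := MulAction.exists_smul_eq G P Q
      have hxQ : x ∈ (Q : Subgroup G) := hQ (Subgroup.mem_zpowers x)
      rw [← hg, Sylow.smul_def] at hxQ
      have hxQ' : x ∈ MulAut.conj g • (P : Subgroup G) := hxQ
      have hle : MulAut.conj g • (P : Subgroup G) ≤ MulAut.conj g • M :=
        Subgroup.pointwise_smul_le_pointwise_smul_iff.mpr hPM
      have hMg : MulAut.conj g • M = M := Subgroup.Normal.conj_smul_eq_self g M
      rw [hMg] at hle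
      exact hle hxQ'
    have := Fintype.ofFinite {M : Subgroup G // Maximal (PP p) M}
    have hfinal := pgroup_cover (p := p) P.2
      (fun M : {M : Subgroup G // Maximal (PP p) M} => (M.1).subgroupOf (P : Subgroup G))
      (fun M h => hPnot M.1 M.2 (Subgroup.subgroupOf_eq_top.mp h))
      (fun g => by
        obtain ⟨k, hk⟩ := (IsPGroup.iff_orderOf.mp P.2) g
        obtain ⟨M, hM, hgM⟩ := hcovM (g : G) ⟨k, by rw [← hk, Subgroup.orderOf_coe]⟩
        exact ⟨⟨M, hM⟩, hgM⟩)
    rw [← Nat.card_eq_fintype_card] at hfinal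
    omega

end main


/-- Let p be a prime and G a finite group generated by its p-elements. If a finite family of proper subgroups of G covers the set of p-elements of G (every element of p-power order lies in one of them), then the family has at least p + 1 members. -/
theorem result {G : Type*} [Group G] [Finite G] (p : ℕ) [Fact p.Prime] (hgen : Subgroup.closure {g : G | ∃ k : ℕ, orderOf g = p ^ k} = ⊤)
    {ι : Type*} [Fintype ι] (K : ι → Subgroup G) (hK : ∀ i, K i ≠ ⊤)
    (hcov : ∀ g : G, (∃ k : ℕ, orderOf g = p ^ k) → ∃ i, g ∈ K i) :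
    p + 1 ≤ Fintype.card ι := by
  exact main p (Nat.card G) G rfl hgen ι K hK hcov

end Cfsg.Agent.S4182
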