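import Cfsg.Statements.S4186
-- import your own Cfsg.Agent.* helpers here
import Mathlib

set_option autoImplicit false
open Cfsg

namespace Cfsg.Agent.S4186

/-- Let T and X be subgroups of a group with T a finite 2-group normalizing X but not centralizing it. Then some element of T inverts some non-identity element of X under conjugation. -/
theorem result {G : Type*} [Group G] (T X : Subgroup G) [Finite ↥T] (hT : IsPGroup 2 ↥T) (hTN : T ≤ Subgroup.normalizer (X : Set G)) (hTC : ¬ T ≤ Subgroup.centralizer (X : Set G)) : ∃ t ∈ T, ∃ x ∈ X, x ≠ 1 ∧ t * x * t⁻¹ = x⁻¹ := by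
  classical
  -- pick t ∈ T not centralizing X
  obtain ⟨t, htT, htC⟩ := SetLike.not_le_iff_exists.mp hTC
  -- t has 2-power order
  obtain ⟨k, hk⟩ := hT ⟨t, htT⟩
  have hk' : t ^ 2 ^ k = 1 := by
    have := congrArg Subtype.val hk
    simpa using this
  -- minimal j with t^(2^j) centralizing X
  have hex : ∃ j, t ^ 2 ^ j ∈ Subgroup.centralizer (X : Set G) := ⟨k, by rw [hk']; exact one_mem _⟩
  set j := Nat.find hex with hj
  have hjspec : t ^ 2 ^ j ∈ Subgroup.centralizer (X : Set G) := Nat.find_spec hex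
  have hj0 : j ≠ 0 := by
    intro h0
    rw [h0] at hjspec
    simp at hjspec
    exact htC hjspec
  obtain ⟨i, hi⟩ := Nat.exists_eq_succ_of_ne_zero hj0
  have hsnot : t ^ 2 ^ i ∉ Subgroup.centralizer (X : Set G) := by
    apply Nat.find_min hex
    omega
  set s := t ^ 2 ^ i with hs
  have hsT : s ∈ T := T.pow_mem htT _
  have hs2 : s ^ 2 ∈ Subgroup.centralizer (X : Set G) := by
    have : s ^ 2 = t ^ 2 ^ j := by
      rw [hs, ← pow_mul, hi, pow_succ]
    rw [this]; exact hjspec
  -- get x ∈ X not commuting with s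
  rw [Subgroup.mem_centralizer_iff] at hsnot
  push Not at hsnot
  obtain ⟨x, hxX, hxs⟩ := hsnot
  have hxX' : x ∈ X := hxX
  have hsN : s ∈ Subgroup.normalizer (X : Set G) := hTN hsT
  have hsx : s * x * s⁻¹ ∈ X := (Subgroup.mem_normalizer_iff.mp hsN x).mp hxX'
  refine ⟨s, hsT, x⁻¹ * (s * x * s⁻¹), X.mul_mem (X.inv_mem hxX') hsx, ?_, ?_⟩
  · intro h1
    apply hxs
    have : s * x * s⁻¹ = x := by
      have := congrArg (fun z => x * z) h1
      simpa using this
    calc x * s = (s * x * s⁻¹) * s := by rw [this]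
      _ = s * x := by group
  · have hcomm : x * s ^ 2 = s ^ 2 * x := (Subgroup.mem_centralizer_iff.mp hs2) x hxX
    have hcomm' : s * s * x = x * s * s := by
      rw [pow_two] at hcomm
      rw [mul_assoc x, hcomm]
    calc s * (x⁻¹ * (s * x * s⁻¹)) * s⁻¹ = s * x⁻¹ * s⁻¹ * (s * s * x) * s⁻¹ * s⁻¹ := by group
      _ = s * x⁻¹ * s⁻¹ * (x * s * s) * s⁻¹ * s⁻¹ := by rw [hcomm']
      _ = (x⁻¹ * (s * x * s⁻¹))⁻¹ := by group

end Cfsg.Agent.S4186
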