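import Cfsg.Statements.S4188
-- import your own Cfsg.Agent.* helpers here
import Cfsg.Agent.Lib.Helper70.FratAction

set_option autoImplicit false
open Cfsg

namespace Cfsg.Agent.S4188

/-- Let G be a finite group that is the semidirect product of a normal abelian subgroup N of odd order by a 2-subgroup P, and suppose N is the unique minimal normal subgroup of G. Then the index of the Frattini subgroup of P in P is at most #N − 1. -/
theorem result {G : Type*} [Group G] [Finite G] (N P : Subgroup G) (hN : N.Normal) (hNab : IsMulCommutative ↥N) (hNodd : Odd (Nat.card ↥N)) (hP : IsPGroup 2 ↥P) (hdisj : N ⊓ P = ⊥) (hprod : N ⊔ P = ⊤) (hmin : N ≠ ⊥ ∧ ∀ M : Subgroup G, M.Normal → M ≠ ⊥ → N ≤ M) : (frattini ↥P).index ≤ Nat.card ↥N - 1 := by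
  classical
  obtain ⟨hN1, hNmin⟩ := hmin
  have hNn : N.Normal := hN
  -- a prime divisor of `|N|`
  have hcardne : Nat.card N ≠ 1 := by
    rw [Ne, Subgroup.card_eq_one]; exact hN1
  obtain ⟨q, hqp, hqd⟩ := Nat.exists_prime_and_dvd hcardne
  have hqF : Fact q.Prime := ⟨hqp⟩
  have hq2 : q ≠ 2 := by
    rintro rfl
    exact (Nat.not_even_iff_odd.mpr hNodd) (even_iff_two_dvd.mpr hqd)
  have hcommN : ∀ x ∈ N, ∀ y ∈ N, x * y = y * x := by
    intro x hx y hy
    have := hNab.is_comm.comm (⟨x, hx⟩ : N) ⟨y, hy⟩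
    exact congrArg Subtype.val this
  -- `N` has exponent `q`
  let Ωq : Subgroup G :=
    { carrier := {x | x ∈ N ∧ x ^ q = 1}
      mul_mem' := by
        rintro x y ⟨hx, hxq⟩ ⟨hy, hyq⟩
        refine ⟨N.mul_mem hx hy, ?_⟩
        rw [Commute.mul_pow (hcommN x hx y hy), hxq, hyq, one_mul]
      one_mem' := ⟨N.one_mem, one_pow q⟩
      inv_mem' := by
        rintro x ⟨hx, hxq⟩
        exact ⟨N.inv_mem hx, by rw [inv_pow, hxq, inv_one]⟩ }
  have hΩn : Ωq.Normal := by
    constructor
    rintro n ⟨hn, hnq⟩ g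
    refine ⟨hNn.conj_mem n hn g, ?_⟩
    rw [conj_pow, hnq, mul_one, mul_inv_cancel]
  have hΩne : Ωq ≠ ⊥ := by
    obtain ⟨x, hx⟩ := exists_prime_orderOf_dvd_card' (G := N) q hqd
    intro h
    have hmem : (x : G) ∈ Ωq := by
      refine ⟨x.2, ?_⟩
      have := pow_orderOf_eq_one x
      rw [hx] at this
      exact_mod_cast congrArg Subtype.val this
    rw [h, Subgroup.mem_bot] at hmem
    have : x = 1 := Subtype.ext hmem
    rw [this, orderOf_one] at hx
    exact hqp.one_lt.ne hx
  have hexp : ∀ x ∈ N, x ^ q = 1 := fun x hx => (hNmin Ωq hΩn hΩne hx).2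
  -- the kernel of the action of `P` on `N` is trivial
  set D : Subgroup G := P ⊓ Subgroup.centralizer (N : Set G) with hDdef
  have hDc : ∀ d ∈ D, ∀ n ∈ N, n * d = d * n := fun d hd n hn =>
    Subgroup.mem_centralizer_iff.mp hd.2 n hn
  have hconjN : ∀ n ∈ N, ∀ d ∈ D, n * d * n⁻¹ = d := by
    intro n hn d hd
    rw [hDc d hd n hn, mul_inv_cancel_right]
  have hconjP : ∀ p ∈ P, ∀ d ∈ D, p * d * p⁻¹ ∈ D := by
    intro p hp d hd
    refine Subgroup.mem_inf.mpr ⟨P.mul_mem (P.mul_mem hp hd.1) (P.inv_mem hp), ?_⟩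
    rw [Subgroup.mem_centralizer_iff]
    intro n hn
    have hn' : p⁻¹ * n * p ∈ N := by
      have := hNn.conj_mem n hn p⁻¹
      simpa using this
    have := hDc d hd _ hn'
    calc n * (p * d * p⁻¹) = p * ((p⁻¹ * n * p) * d) * p⁻¹ := by group
      _ = p * (d * (p⁻¹ * n * p)) * p⁻¹ := by rw [this]
      _ = p * d * p⁻¹ * n := by group
  have hDn : D.Normal := by
    rw [← Subgroup.normalizer_eq_top_iff, eq_top_iff, ← hprod, sup_le_iff]
    constructor
    · intro n hn
      rw [Subgroup.mem_normalizer_iff]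
      intro d
      constructor
      · intro hd
        rw [hconjN n hn d hd]; exact hd
      · intro hd
        have h1 := hconjN n⁻¹ (N.inv_mem hn) _ hd
        have h2 : n⁻¹ * (n * d * n⁻¹) * n⁻¹⁻¹ = d := by group
        rw [h2] at h1
        rw [h1]; exact hd
    · intro p hp
      rw [Subgroup.mem_normalizer_iff]
      intro d
      constructor
      · exact hconjP p hp d
      · intro hd
        have h1 := hconjP p⁻¹ (P.inv_mem hp) _ hd
        have h2 : p⁻¹ * (p * d * p⁻¹) * p⁻¹⁻¹ = d := by group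
        rwa [h2] at h1
  have hD : D = ⊥ := by
    by_contra hne
    have h1 : N ≤ D := hNmin D hDn hne
    have h2 : N ≤ N ⊓ P := le_inf le_rfl (h1.trans inf_le_left)
    rw [hdisj] at h2
    exact hN1 (le_bot_iff.mp h2)
  -- set up the abstract theorem
  let _ : CommGroup ↥N := { (inferInstance : Group ↥N) with mul_comm := hNab.is_comm.comm }
  let φ : ↥P →* MulAut ↥N := (MulAut.conjNormal (H := N)).comp P.subtype
  have hφ : Function.Injective φ := by
    rw [injective_iff_map_eq_one]
    intro g hg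
    have hgD : (g : G) ∈ D := by
      refine Subgroup.mem_inf.mpr ⟨g.2, ?_⟩
      rw [Subgroup.mem_centralizer_iff]
      intro n hn
      have h1 : (φ g) ⟨n, hn⟩ = ⟨n, hn⟩ := by rw [hg]; rfl
      have h2 := congrArg Subtype.val h1
      have h3 : (g : G) * n * (g : G)⁻¹ = n := h2
      calc n * (g : G) = ((g : G) * n * (g : G)⁻¹) * (g : G) := by rw [h3]
        _ = (g : G) * n := by group
    rw [hD, Subgroup.mem_bot] at hgD
    exact Subtype.ext hgD
  have hexp' : ∀ v : ↥N, v ^ q = 1 := fun v => Subtype.ext (by simpa using hexp v v.2)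
  have hnt : Nontrivial ↥N := (Subgroup.nontrivial_iff_ne_bot N).mpr hN1
  exact Cfsg.Agent.Lib.Helper70.FratAction.frattini_index_le_card_sub_one q hq2 hexp' φ hφ hP hnt

end Cfsg.Agent.S4188
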