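import Cfsg.Statements.S4189
import Cfsg.Agent.Lib.Helper73.MaximalClass
import Cfsg.Agent.Lib.Helper73.QuatIso

set_option autoImplicit false
open Cfsg

namespace Cfsg.Agent.S4189

open Cfsg.Agent.Lib.Helper73

theorem sq_mul_zpow {P : Type*} [Group P] (a b : P) (i : ℤ) :
    (b * a ^ i) ^ 2 = (b * a * b⁻¹) ^ i * b ^ 2 * a ^ i := by
  rw [conj_zpow, pow_two, pow_two]; group

/-- Let P be a finite non-abelian 2-group whose commutator subgroup has index 4 and whose automorphism group is not a 2-group (some automorphism has order that is not a power of 2). Then P is isomorphic to the quaternion group of order 8. -/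
theorem result {P : Type*} [Group P] [Finite P] (hP : IsPGroup 2 P) (hna : ¬ IsMulCommutative P) (h4 : (commutator P).index = 4) (haut : ¬ IsPGroup 2 (MulAut P)) : Nonempty (P ≃* QuaternionGroup 2) := by
  have hcomm : ∃ x y : P, x * y ≠ y * x := by
    by_contra h
    push Not at h
    exact hna ⟨⟨h⟩⟩
  obtain ⟨m, hcard, a, b, ha, hb, hcases⟩ := index_commutator_four_cases hP hcomm h4
  have hcard2 : Nat.card P = 2 * orderOf a := by rw [hcard, ha]; ring
  have hidx2 : (Subgroup.zpowers a).index = 2 := by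
    have h1 := Subgroup.index_mul_card (Subgroup.zpowers a)
    rw [Nat.card_zpowers, hcard2] at h1
    exact Nat.eq_of_mul_eq_mul_right (orderOf_pos a) h1
  have hapow : a ^ (2 ^ (m + 2)) = 1 := by rw [← ha]; exact pow_orderOf_eq_one a
  have hout : ∀ g : P, g ∉ Subgroup.zpowers a → ∃ i : ℤ, g = b * a ^ i := by
    intro g hg
    have h1 : b⁻¹ * g ∈ Subgroup.zpowers a := by
      rw [Subgroup.mul_mem_iff_of_index_two hidx2]
      constructor
      · intro h; exact absurd (by simpa using inv_mem h) hb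
      · intro h; exact absurd h hg
    obtain ⟨j, hj⟩ := Subgroup.mem_zpowers_iff.mp h1
    exact ⟨j, by rw [hj, mul_inv_cancel_left]⟩
  have hkey : (∀ g : P, g ∉ Subgroup.zpowers a → g ^ (2 ^ (m + 1)) = 1) → IsPGroup 2 (MulAut P) := by
    intro hg
    apply isPGroup_two_mulAut_of_invariant a b (m + 1) ha hcard2 hb
    intro σ
    by_contra hσ
    have h1 := hg _ hσ
    have h2 : orderOf (σ a) = 2 ^ (m + 2) := by rw [MulEquiv.orderOf_eq, ha]
    have h3 := orderOf_dvd_of_pow_eq_one h1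
    rw [h2] at h3
    have := (Nat.pow_dvd_pow_iff_le_right (by norm_num : 1 < 2)).mp h3
    omega
  rcases hcases with ⟨hb2, hc⟩ | ⟨hb2, hc⟩ | ⟨hm1, hb2, hc⟩
  · -- dihedral
    exfalso
    apply haut
    apply hkey
    intro g hg
    obtain ⟨i, rfl⟩ := hout g hg
    have h1 : (b * a ^ i) ^ 2 = 1 := by
      rw [sq_mul_zpow, hc, hb2, mul_one, inv_zpow, inv_mul_cancel]
    rw [pow_succ', pow_mul, h1, one_pow]
  · -- quaternion
    have h1 : ∀ i : ℤ, (b * a ^ i) ^ 2 = a ^ (2 ^ (m + 1)) := by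
      intro i
      rw [sq_mul_zpow, hc, hb2, inv_zpow, ← zpow_natCast a (2 ^ (m + 1)), ← zpow_neg, ← zpow_add,
        ← zpow_add]
      congr 1; ring
    have h2 : ∀ i : ℤ, (b * a ^ i) ^ 4 = 1 := by
      intro i
      rw [show 4 = 2 * 2 by norm_num, pow_mul, h1, ← pow_mul]
      rw [show 2 ^ (m + 1) * 2 = 2 ^ (m + 2) by ring, hapow]
    rcases Nat.eq_zero_or_pos m with rfl | hm
    · -- Q8
      have hgen := zpowers_sup_zpowers_eq_top a b hcard2 hb
      obtain ⟨e⟩ := quaternion_equiv a b 2 (by norm_num) (by simpa using hapow) (by simpa using hb2) hc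
        hgen (by rw [hcard]; norm_num)
      exact ⟨e.symm⟩
    · exfalso
      apply haut
      apply hkey
      intro g hg
      obtain ⟨i, rfl⟩ := hout g hg
      obtain ⟨t, rfl⟩ : ∃ t, m = t + 1 := ⟨m - 1, by omega⟩
      rw [show 2 ^ (t + 1 + 1) = 4 * 2 ^ t by ring, pow_mul, h2, one_pow]
  · -- semidihedral
    exfalso
    apply haut
    apply hkey
    intro g hg
    obtain ⟨i, rfl⟩ := hout g hg
    have h1 : (b * a ^ i) ^ 2 = a ^ ((2 ^ (m + 1) : ℕ) * i) := by
      rw [sq_mul_zpow, hc, hb2, mul_one, ← zpow_natCast a (2 ^ (m + 1) - 1), ← zpow_mul, ← zpow_add]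
      congr 1
      have : 1 ≤ 2 ^ (m + 1) := Nat.one_le_two_pow
      push_cast [Nat.cast_sub this]
      ring
    have h2 : (b * a ^ i) ^ 4 = 1 := by
      rw [show 4 = 2 * 2 by norm_num, pow_mul, h1, ← zpow_natCast, ← zpow_mul]
      have : ((2 ^ (m + 1) : ℕ) : ℤ) * i * ((2 : ℕ) : ℤ) = ((2 ^ (m + 2) : ℕ) : ℤ) * i := by
        push_cast; ring
      rw [this, zpow_mul, zpow_natCast, hapow, one_zpow]
    obtain ⟨t, rfl⟩ : ∃ t, m = t + 1 := ⟨m - 1, by omega⟩
    rw [show 2 ^ (t + 1 + 1) = 4 * 2 ^ t by ring, pow_mul, h2, one_pow]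

end Cfsg.Agent.S4189
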