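import Mathlib
import Cfsg.Statements.S4193
import Cfsg.Agent.S3861
import Cfsg.Agent.S3862
import Cfsg.Agent.S3863
import Cfsg.Agent.S0205

set_option autoImplicit false
open Cfsg

namespace Cfsg.Agent.S4193

open scoped Pointwise

/-- a finite group with a normal `2`-complement is solvable (Feit–Thompson). -/
theorem solvable_of_hasNormalPComplement {G : Type*} [Group G] [Finite G]
    (h : Cfsg.HasNormalPComplement 2 G) : Group.IsSolvable G := by
  obtain ⟨P, N, hN, hc⟩ := h
  haveI := hN
  have hcard : Nat.card N * Nat.card (P : Subgroup G) = Nat.card G := hc.card_mul_card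
  have hidx : (P : Subgroup G).index * Nat.card (P : Subgroup G) = Nat.card G :=
    (P : Subgroup G).index_mul_card
  have hPpos : 0 < Nat.card (P : Subgroup G) := Nat.card_pos
  have hNidx : Nat.card N = (P : Subgroup G).index :=
    Nat.eq_of_mul_eq_mul_right hPpos (hcard.trans hidx.symm)
  have hodd : Odd (Nat.card N) := by
    rw [hNidx, ← Nat.not_even_iff_odd, even_iff_two_dvd]
    exact P.not_dvd_index
  have hNs : Group.IsSolvable N := Cfsg.Agent.S0205.result hodd
  have hq : IsPGroup 2 (G ⧸ N) := by
    obtain ⟨k, hk⟩ := IsPGroup.iff_card.mp P.isPGroup'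
    apply IsPGroup.of_card (n := k)
    have h1 : N.index * Nat.card N = Nat.card G := N.index_mul_card
    have hNpos : 0 < Nat.card N := Nat.card_pos
    have h2 : N.index = Nat.card (P : Subgroup G) := by
      apply Nat.eq_of_mul_eq_mul_right hNpos
      rw [h1, ← hcard, mul_comm]
    rw [← Subgroup.index_eq_card, h2, hk]
  have hQs : Group.IsSolvable (G ⧸ N) := by
    have := hq.isNilpotent
    infer_instance
  exact Group.isSolvable_of_ker_le_range N.subtype (QuotientGroup.mk' N) (by simp)

/-- a finite group with a normal Sylow `2`-subgroup is solvable (Feit–Thompson). -/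
theorem solvable_of_normal_sylow {G : Type*} [Group G] [Finite G] (S : Sylow 2 G)
    (hS : (S : Subgroup G).Normal) : Group.IsSolvable G := by
  haveI := hS
  have hSs : Group.IsSolvable (S : Subgroup G) := by
    have := S.isPGroup'.isNilpotent
    infer_instance
  have hodd : Odd (Nat.card (G ⧸ (S : Subgroup G))) := by
    rw [← Subgroup.index_eq_card, ← Nat.not_even_iff_odd, even_iff_two_dvd]
    exact S.not_dvd_index
  have hQs : Group.IsSolvable (G ⧸ (S : Subgroup G)) := Cfsg.Agent.S0205.result hodd
  exact Group.isSolvable_of_ker_le_range (S : Subgroup G).subtype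
    (QuotientGroup.mk' (S : Subgroup G)) (by simp)

/-- conjugation formula -/
theorem conj_inv_formula {G : Type*} [Group G] (c t x : G) (htx : t * x * t⁻¹ = x⁻¹) :
    (c * t * c⁻¹) * (c * x * c⁻¹) * (c * t * c⁻¹)⁻¹ = (c * x * c⁻¹)⁻¹ := by
  have : (c * t * c⁻¹) * (c * x * c⁻¹) * (c * t * c⁻¹)⁻¹ = c * (t * x * t⁻¹) * c⁻¹ := by group
  rw [this, htx]; group

/-- Under the hypotheses with `a ≠ 0`, every real `2`-element is central. -/
theorem real_two_central {G : Type*} [Group G] [Finite G] (a : ℕ) (ha : a ≠ 0)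
    (h : ∀ x : G, IsConj x x⁻¹ → x ∉ Subgroup.center G →
      ((Subgroup.centralizer ({x} : Set G)).index).factorization 2 = a)
    (S : Sylow 2 G)
    (hS : ∀ s : ↥(S : Subgroup G), IsConj s s⁻¹ → s ∈ Subgroup.center ↥(S : Subgroup G))
    (x : G) (hx2 : ∃ j : ℕ, orderOf x = 2 ^ j) (hx : IsConj x x⁻¹) :
    x ∈ Subgroup.center G := by
  obtain ⟨⟨t, ⟨i, hti⟩, htx⟩, -, -⟩ := Cfsg.Agent.S3863.result x hx
  obtain ⟨j, hxj⟩ := hx2
  have hX : IsPGroup 2 (Subgroup.zpowers x) := by
    apply IsPGroup.of_card (n := j); rw [Nat.card_zpowers, hxj]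
  have hT : IsPGroup 2 (Subgroup.zpowers t) := by
    apply IsPGroup.of_card (n := i); rw [Nat.card_zpowers, hti]
  have htx' : t⁻¹ * x * t = x⁻¹ := by
    have h1 : x = t⁻¹ * x⁻¹ * t := by rw [← htx]; group
    have h2 : x⁻¹ = (t⁻¹ * x⁻¹ * t)⁻¹ := congrArg (·⁻¹) h1
    rw [h2]; group
  have hnorm : Subgroup.zpowers t ≤
      Subgroup.normalizer ((Subgroup.zpowers x : Subgroup G) : Set G) := by
    rw [Subgroup.zpowers_le, Subgroup.mem_normalizer_iff]
    intro y
    constructor
    · rintro ⟨n, rfl⟩
      refine ⟨-n, ?_⟩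
      have : t * x ^ n * t⁻¹ = (t * x * t⁻¹) ^ n := by
        simpa using (map_zpow (MulAut.conj t) x n)
      rw [this, htx]; simp
    · rintro ⟨n, hn⟩
      refine ⟨-n, ?_⟩
      have h1 : y = t⁻¹ * x ^ n * t := by
        simp only at hn
        rw [hn]; group
      have : t⁻¹ * x ^ n * t = (t⁻¹ * x * t) ^ n := by
        simpa using (map_zpow (MulAut.conj t⁻¹) x n)
      simp only
      rw [h1, this, htx']; simp
  have hD : IsPGroup 2 (Subgroup.zpowers x ⊔ Subgroup.zpowers t : Subgroup G) :=
    hX.to_sup_of_normal_left' hT hnorm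
  obtain ⟨Q, hQ⟩ := hD.exists_le_sylow
  obtain ⟨c, hc⟩ := MulAction.exists_smul_eq G Q S
  have hSQ : (S : Subgroup G) = MulAut.conj c • (Q : Subgroup G) := by
    rw [← hc, Sylow.coe_subgroup_smul]
  have hmem : ∀ y ∈ (Q : Subgroup G), c * y * c⁻¹ ∈ (S : Subgroup G) := by
    intro y hy
    rw [hSQ]
    have := Subgroup.smul_mem_pointwise_smul y (MulAut.conj c) (Q : Subgroup G) hy
    simp only [MulAut.smul_def, MulAut.conj_apply] at this
    exact this
  have hxQ : x ∈ (Q : Subgroup G) :=
    hQ (Subgroup.mem_sup_left (Subgroup.mem_zpowers x))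
  have htQ : t ∈ (Q : Subgroup G) :=
    hQ (Subgroup.mem_sup_right (Subgroup.mem_zpowers t))
  have hx'S := hmem x hxQ
  have ht'S := hmem t htQ
  have hconj := conj_inv_formula c t x htx
  have hrealS : IsConj (⟨c * x * c⁻¹, hx'S⟩ : ↥(S : Subgroup G))
      (⟨c * x * c⁻¹, hx'S⟩ : ↥(S : Subgroup G))⁻¹ := by
    rw [isConj_iff]
    exact ⟨⟨c * t * c⁻¹, ht'S⟩, Subtype.ext (by simpa using hconj)⟩
  have hcenS := hS _ hrealS
  have hle : (S : Subgroup G) ≤ Subgroup.centralizer ({c * x * c⁻¹} : Set G) := by
    intro s hs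
    rw [Subgroup.mem_centralizer_singleton_iff]
    have := Subgroup.mem_center_iff.mp hcenS ⟨s, hs⟩
    exact congrArg Subtype.val this
  have hndvd : ¬ 2 ∣ (Subgroup.centralizer ({c * x * c⁻¹} : Set G)).index := by
    intro hdvd
    exact S.not_dvd_index (hdvd.trans (Subgroup.index_dvd_of_le hle))
  have hrealG : IsConj (c * x * c⁻¹) (c * x * c⁻¹)⁻¹ := by
    rw [isConj_iff]
    exact ⟨c * t * c⁻¹, hconj⟩
  have hx'c : c * x * c⁻¹ ∈ Subgroup.center G := by
    by_contra hnc
    have := h _ hrealG hnc
    rw [Nat.factorization_eq_zero_of_not_dvd hndvd] at this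
    exact ha this.symm
  have := (Subgroup.center G).normal_of_characteristic.conj_mem _ hx'c c⁻¹
  simpa [mul_assoc] using this

/-- Let G be a finite group in which the conjugacy classes of all non-central real elements (elements conjugate to their inverses) have sizes with the same 2-part, and suppose G has a Sylow 2-subgroup S such that every element of S that is conjugate in S to its inverse lies in the centre of S. Then G is solvable and the subgroup generated by the 2-elements of G (the smallest normal subgroup of odd index) has a normal 2-complement. -/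
theorem result {G : Type*} [Group G] [Finite G] (a : ℕ) (h : ∀ x : G, IsConj x x⁻¹ → x ∉ Subgroup.center G → ((Subgroup.centralizer ({x} : Set G)).index).factorization 2 = a) (S : Sylow 2 G) (hS : ∀ s : ↥(S : Subgroup G), IsConj s s⁻¹ → s ∈ Subgroup.center ↥(S : Subgroup G)) : Group.IsSolvable G ∧ Cfsg.HasNormalPComplement 2 ↥(Subgroup.closure {g : G | ∃ k : ℕ, orderOf g = 2 ^ k}) := by
  by_cases ha : a = 0
  · subst ha
    -- every real element squares to one
    have hsq : ∀ x : G, IsConj x x⁻¹ → x ^ 2 = 1 := by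
      intro x hx
      by_cases hxc : x ∈ Subgroup.center G
      · obtain ⟨c, hc⟩ := isConj_iff.mp hx
        have h1 : c * x = x * c := Subgroup.mem_center_iff.mp hxc c
        have h2 : x = x⁻¹ := by
          rw [← hc, h1]; group
        rw [pow_two]
        nth_rewrite 2 [h2]
        group
      · have hf := h x hx hxc
        have hodd : Odd (Subgroup.centralizer ({x} : Set G)).index := by
          rw [← Nat.not_even_iff_odd, even_iff_two_dvd]
          intro hdvd
          have hne : (Subgroup.centralizer ({x} : Set G)).index ≠ 0 :=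
            Subgroup.index_ne_zero_of_finite
          have := (Nat.Prime.dvd_iff_one_le_factorization Nat.prime_two hne).mp hdvd
          omega
        exact (Cfsg.Agent.S3863.result x hx).2.1 hodd
    have hnormal : (S : Subgroup G).Normal := by
      rw [← Cfsg.Agent.S3861.result S]
      intro x hx1 hodd hreal
      have hdvd : orderOf x ∣ 2 := orderOf_dvd_of_pow_eq_one (hsq x hreal)
      have h1 : orderOf x = 1 := by
        rcases (Nat.dvd_prime Nat.prime_two).mp hdvd with h1 | h2
        · exact h1
        · rw [h2] at hodd; exact absurd hodd (by decide)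
      exact hx1 (orderOf_eq_one_iff.mp h1)
    refine ⟨solvable_of_normal_sylow S hnormal, ?_⟩
    -- the closure of the 2-elements lies in S
    have hKS : Subgroup.closure {g : G | ∃ k : ℕ, orderOf g = 2 ^ k} ≤ (S : Subgroup G) := by
      rw [Subgroup.closure_le]
      rintro g ⟨k, hk⟩
      have hg : IsPGroup 2 (Subgroup.zpowers g) := by
        apply IsPGroup.of_card (n := k); rw [Nat.card_zpowers, hk]
      obtain ⟨Q, hQ⟩ := hg.exists_le_sylow
      obtain ⟨c, hc⟩ := MulAction.exists_smul_eq G S Q
      haveI := hnormal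
      rw [Sylow.smul_eq_of_normal] at hc
      rw [hc]
      exact hQ (Subgroup.mem_zpowers g)
    have hK2 : IsPGroup 2 ↥(Subgroup.closure {g : G | ∃ k : ℕ, orderOf g = 2 ^ k}) :=
      S.isPGroup'.to_le hKS
    obtain ⟨P⟩ : Nonempty (Sylow 2 ↥(Subgroup.closure {g : G | ∃ k : ℕ, orderOf g = 2 ^ k})) :=
      inferInstance
    have hPtop : (P : Subgroup ↥(Subgroup.closure {g : G | ∃ k : ℕ, orderOf g = 2 ^ k})) = ⊤ := by
      have htop : IsPGroup 2 ↥(⊤ : Subgroup ↥(Subgroup.closure {g : G | ∃ k : ℕ, orderOf g = 2 ^ k})) :=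
        hK2.to_subgroup ⊤
      exact (P.is_maximal' htop le_top).symm
    refine ⟨P, ⊥, inferInstance, ?_⟩
    rw [hPtop]
    exact Subgroup.isComplement'_bot_top
  · have hcen := real_two_central a ha h S hS
    have hG : Cfsg.HasNormalPComplement 2 G := Cfsg.Agent.S3862.result hcen
    refine ⟨solvable_of_hasNormalPComplement hG, ?_⟩
    apply Cfsg.Agent.S3862.result
    intro x hx2 hx
    have h1 : (x : G) ∈ Subgroup.center G := by
      apply hcen
      · obtain ⟨j, hj⟩ := hx2
        exact ⟨j, by rw [Subgroup.orderOf_coe, hj]⟩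
      · have := (Subgroup.closure {g : G | ∃ k : ℕ, orderOf g = 2 ^ k}).subtype.map_isConj hx
        simpa using this
    rw [Subgroup.mem_center_iff] at h1 ⊢
    intro g
    exact Subtype.ext (h1 g)

end Cfsg.Agent.S4193
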