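import Cfsg.Statements.S4195
-- import your own Cfsg.Agent.* helpers here
import Mathlib

set_option autoImplicit false
open Cfsg
open scoped Pointwise

namespace Cfsg.Agent.S4195

/-- if `g` inverts `x` then `g^2` commutes with `x`. -/
theorem sq_commute {G : Type*} [Group G] {g x : G} (hg : g * x * g⁻¹ = x⁻¹) :
    Commute (g ^ 2) x := by
  have h1 : g * x⁻¹ * g⁻¹ = x := by
    have : (g * x * g⁻¹)⁻¹ = x := by rw [hg, inv_inv]
    calc g * x⁻¹ * g⁻¹ = (g * x * g⁻¹)⁻¹ := by group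
      _ = x := this
  have h2 : g * g * x * (g * g)⁻¹ = x := by
    calc g * g * x * (g * g)⁻¹ = g * (g * x * g⁻¹) * g⁻¹ := by group
      _ = g * x⁻¹ * g⁻¹ := by rw [hg]
      _ = x := h1
  show g ^ 2 * x = x * g ^ 2
  rw [pow_two]
  calc g * g * x = (g * g * x * (g * g)⁻¹) * (g * g) := by group
    _ = x * (g * g) := by rw [h2]

/-- if `g` inverts `x` then any odd power of `g` inverts `x`. -/
theorem odd_pow_inverts {G : Type*} [Group G] {g x : G} (hg : g * x * g⁻¹ = x⁻¹) {m : ℕ} (hm : Odd m) :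
    g ^ m * x * (g ^ m)⁻¹ = x⁻¹ := by
  obtain ⟨k, rfl⟩ := hm
  have hc : Commute ((g ^ 2) ^ k) x := (sq_commute hg).pow_left k
  have hc' : (g ^ 2) ^ k * x = x * (g ^ 2) ^ k := hc
  have e : g ^ (2 * k + 1) = g * (g ^ 2) ^ k := by
    rw [← pow_mul, pow_succ']
  rw [e]
  calc g * (g ^ 2) ^ k * x * (g * (g ^ 2) ^ k)⁻¹
      = g * ((g ^ 2) ^ k * x) * ((g ^ 2) ^ k)⁻¹ * g⁻¹ := by group
    _ = g * (x * (g ^ 2) ^ k) * ((g ^ 2) ^ k)⁻¹ * g⁻¹ := by rw [hc']
    _ = g * x * g⁻¹ := by group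
    _ = x⁻¹ := hg

/-- an element inverting `x` normalizes the centralizer of `x`. -/
theorem mem_normalizer_centralizer {G : Type*} [Group G] {h x : G} (hh : h * x * h⁻¹ = x⁻¹) :
    h ∈ Subgroup.normalizer ((Subgroup.centralizer ({x} : Set G) : Subgroup G) : Set G) := by
  rw [Subgroup.mem_normalizer_iff]
  intro y
  simp only [Subgroup.mem_centralizer_iff, Set.mem_singleton_iff, forall_eq]
  have hx : x = h⁻¹ * x⁻¹ * h := by rw [← hh]; group
  have hx' : x⁻¹ = h⁻¹ * x * h := by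
    have := congrArg (fun z => z⁻¹) hx
    simp only [mul_inv_rev, inv_inv] at this
    rw [this]; group
  constructor
  · intro hy
    -- x * y = y * x
    have hy' : x⁻¹ * y = y * x⁻¹ := by
      calc x⁻¹ * y = x⁻¹ * (y * x) * x⁻¹ := by group
        _ = x⁻¹ * (x * y) * x⁻¹ := by rw [hy]
        _ = y * x⁻¹ := by group
    calc x * (h * y * h⁻¹) = h * ((h⁻¹ * x * h) * y) * h⁻¹ := by group
      _ = h * (x⁻¹ * y) * h⁻¹ := by rw [← hx']
      _ = h * (y * x⁻¹) * h⁻¹ := by rw [hy']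
      _ = h * (y * (h⁻¹ * x * h)) * h⁻¹ := by rw [← hx']
      _ = h * y * h⁻¹ * x := by group
  · intro hy
    have hy' : x⁻¹ * y = y * x⁻¹ := by
      calc x⁻¹ * y = h⁻¹ * (x * (h * y * h⁻¹)) * h := by rw [hx']; group
        _ = h⁻¹ * (h * y * h⁻¹ * x) * h := by rw [hy]
        _ = y * (h⁻¹ * x * h) := by group
        _ = y * x⁻¹ := by rw [← hx']
    calc x * y = x * (y * x⁻¹) * x := by group
      _ = x * (x⁻¹ * y) * x := by rw [hy']
      _ = y * x := by group

/-- Let x be a non-identity element of a finite group G whose centralizer contains a Sylow 2-subgroup of G. If x is conjugate to its inverse, then x has order 2. -/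
theorem result {G : Type*} [Group G] [Finite G] (x : G) (hx : x ≠ 1) (P : Sylow 2 G) (hP : (P : Subgroup G) ≤ Subgroup.centralizer ({x} : Set G)) (hreal : IsConj x x⁻¹) : orderOf x = 2 := by
  classical
  have : Fact (Nat.Prime 2) := ⟨Nat.prime_two⟩
  obtain ⟨g, hg⟩ := isConj_iff.mp hreal
  -- decompose the order of g
  have hgo : orderOf g ≠ 0 := (orderOf_pos g).ne'
  obtain ⟨a, m, hm, hgam⟩ := Nat.exists_eq_two_pow_mul_odd hgo
  set h := g ^ m with hh
  have hinv : h * x * h⁻¹ = x⁻¹ := odd_pow_inverts hg hm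
  have hpow : h ^ 2 ^ a = 1 := by
    rw [hh, ← pow_mul, mul_comm, ← hgam, pow_orderOf_eq_one]
  -- the normalizer of the centralizer
  set C := Subgroup.centralizer ({x} : Set G) with hC
  set N := Subgroup.normalizer (C : Set G) with hN
  have hCN : C ≤ N := Subgroup.le_normalizer
  have hhN : h ∈ N := mem_normalizer_centralizer hinv
  let P' : Sylow 2 N := P.subtype (hP.trans hCN)
  let h' : N := ⟨h, hhN⟩
  have hpow' : h' ^ 2 ^ a = 1 := by
    apply Subtype.ext
    simpa using hpow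
  have hpg : IsPGroup 2 (Subgroup.zpowers h') := by
    intro y
    obtain ⟨y, k, rfl⟩ := y
    refine ⟨a, ?_⟩
    apply Subtype.ext
    simp only [Subgroup.coe_pow, Subgroup.coe_one]
    rw [← zpow_natCast, ← zpow_mul, mul_comm, zpow_mul, zpow_natCast, hpow', one_zpow]
  obtain ⟨Q, hQ⟩ := hpg.exists_le_sylow
  obtain ⟨n, hn⟩ := MulAction.exists_smul_eq N P' Q
  have hmemQ : h' ∈ Q := hQ (Subgroup.mem_zpowers h')
  rw [← hn, Sylow.smul_def] at hmemQ
  have hmem2 : h' ∈ MulAut.conj n • (P' : Subgroup N) := hmemQ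
  rw [Subgroup.mem_pointwise_smul_iff_inv_smul_mem] at hmem2
  have hmem3 : n⁻¹ * h' * n ∈ (P' : Subgroup N) := by
    simpa [MulAut.smul_def] using hmem2
  have hmem4 : ((n⁻¹ * h' * n : N) : G) ∈ (P : Subgroup G) := by
    have := hmem3
    rw [Sylow.coe_subtype, Subgroup.mem_subgroupOf] at this
    exact this
  have hmem5 : (n : G)⁻¹ * h * n ∈ C := by
    have := hP hmem4
    simpa using this
  have hmem6 : h ∈ C := by
    have hnN : (n : G) ∈ N := n.2
    have := (Subgroup.mem_normalizer_iff.mp hnN ((n : G)⁻¹ * h * n)).mp hmem5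
    have e : (n : G) * ((n : G)⁻¹ * h * n) * (n : G)⁻¹ = h := by group
    rwa [e] at this
  have hcomm : x * h = h * x := by
    rw [hC, Subgroup.mem_centralizer_iff] at hmem6
    exact hmem6 x rfl
  have hxx : x = x⁻¹ := by
    calc x = h * x * h⁻¹ := by rw [← hcomm]; group
      _ = x⁻¹ := hinv
  have hx2 : x ^ 2 = 1 := by
    rw [pow_two]
    nth_rewrite 2 [hxx]
    exact mul_inv_cancel x
  exact orderOf_eq_prime hx2 hx

end Cfsg.Agent.S4195
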