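import Cfsg.Statements.S4196
-- import your own Cfsg.Agent.* helpers here
import Cfsg.Agent.S4195
import Mathlib

set_option autoImplicit false
open Cfsg
open scoped Pointwise

namespace Cfsg.Agent.S4196

/-- an element of 2-power order lies in a conjugate of any given Sylow 2-subgroup -/
theorem exists_conj_mem {G : Type*} [Group G] [Finite G] (P : Sylow 2 G) (x : G) (k : ℕ)
    (hk : orderOf x = 2 ^ k) : ∃ g : G, g⁻¹ * x * g ∈ (P : Subgroup G) := by
  have : Fact (Nat.Prime 2) := ⟨Nat.prime_two⟩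
  have hpg : IsPGroup 2 (Subgroup.zpowers x) := by
    intro y
    obtain ⟨y, j, rfl⟩ := y
    refine ⟨k, ?_⟩
    apply Subtype.ext
    simp only [Subgroup.coe_pow, Subgroup.coe_one]
    rw [← zpow_natCast, ← zpow_mul, mul_comm, zpow_mul, zpow_natCast, ← hk, pow_orderOf_eq_one,
      one_zpow]
  obtain ⟨Q, hQ⟩ := hpg.exists_le_sylow
  obtain ⟨n, hn⟩ := MulAction.exists_smul_eq G P Q
  have hmemQ : x ∈ Q := hQ (Subgroup.mem_zpowers x)
  rw [← hn, Sylow.smul_def] at hmemQ
  have hmem2 : x ∈ MulAut.conj n • (P : Subgroup G) := hmemQ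
  rw [Subgroup.mem_pointwise_smul_iff_inv_smul_mem] at hmem2
  refine ⟨n, ?_⟩
  simpa [MulAut.smul_def] using hmem2

/-- A finite group G has elementary abelian Sylow 2-subgroups (commutative with every element squaring to the identity) if and only if every 2-element of G has a Sylow 2-subgroup in its centralizer and is conjugate to its inverse. -/
theorem result {G : Type*} [Group G] [Finite G] (P : Sylow 2 G) :
    (IsMulCommutative (P : Subgroup G) ∧ ∀ x ∈ (P : Subgroup G), x ^ 2 = 1) ↔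
      ∀ x : G, (∃ k : ℕ, orderOf x = 2 ^ k) → (∃ Q : Sylow 2 G, (Q : Subgroup G) ≤ Subgroup.centralizer ({x} : Set G)) ∧ IsConj x x⁻¹ := by
  classical
  have : Fact (Nat.Prime 2) := ⟨Nat.prime_two⟩
  constructor
  · rintro ⟨hcomm, hsq⟩ x ⟨k, hk⟩
    obtain ⟨g, hg⟩ := exists_conj_mem P x k hk
    have hcomm' : ∀ a b : (P : Subgroup G), a * b = b * a := isMulCommutative_iff.mp hcomm
    constructor
    · refine ⟨g • P, ?_⟩
      intro q hq
      rw [Sylow.smul_def] at hq
      have hq2 : q ∈ MulAut.conj g • (P : Subgroup G) := hq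
      rw [Subgroup.mem_pointwise_smul_iff_inv_smul_mem] at hq2
      have hq3 : g⁻¹ * q * g ∈ (P : Subgroup G) := by
        simpa [MulAut.smul_def] using hq2
      rw [Subgroup.mem_centralizer_iff]
      intro y hy
      rw [Set.mem_singleton_iff] at hy
      subst hy
      have := hcomm' ⟨g⁻¹ * y * g, hg⟩ ⟨g⁻¹ * q * g, hq3⟩
      have h2 : (g⁻¹ * y * g) * (g⁻¹ * q * g) = (g⁻¹ * q * g) * (g⁻¹ * y * g) := by
        simpa using congrArg Subtype.val this
      calc y * q = g * ((g⁻¹ * y * g) * (g⁻¹ * q * g)) * g⁻¹ := by group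
        _ = g * ((g⁻¹ * q * g) * (g⁻¹ * y * g)) * g⁻¹ := by rw [h2]
        _ = q * y := by group
    · have h1 : (g⁻¹ * x * g) ^ 2 = 1 := hsq _ hg
      have h2 : x * x = 1 := by
        rw [pow_two] at h1
        calc x * x = g * ((g⁻¹ * x * g) * (g⁻¹ * x * g)) * g⁻¹ := by group
          _ = 1 := by rw [h1]; group
      have h3 : x⁻¹ = x := inv_eq_of_mul_eq_one_left h2
      rw [h3]
  · intro h
    have hsq : ∀ x ∈ (P : Subgroup G), x ^ 2 = 1 := by
      intro x hx
      by_cases hx1 : x = 1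
      · rw [hx1, one_pow]
      · obtain ⟨k, hk⟩ := (IsPGroup.iff_orderOf.mp P.isPGroup') ⟨x, hx⟩
        have hk' : orderOf x = 2 ^ k := by
          rw [← hk]; exact (Subgroup.orderOf_mk x hx).symm
        obtain ⟨⟨Q, hQ⟩, hreal⟩ := h x ⟨k, hk'⟩
        have := Cfsg.Agent.S4195.result x hx1 Q hQ hreal
        rw [← this, pow_orderOf_eq_one]
    refine ⟨?_, hsq⟩
    rw [isMulCommutative_iff]
    rintro ⟨a, ha⟩ ⟨b, hb⟩
    apply Subtype.ext
    show a * b = b * a
    have ha2 : a * a = 1 := by rw [← pow_two]; exact hsq a ha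
    have hb2 : b * b = 1 := by rw [← pow_two]; exact hsq b hb
    have hab2 : (a * b) * (a * b) = 1 := by
      rw [← pow_two]; exact hsq _ ((P : Subgroup G).mul_mem ha hb)
    calc a * b = a * ((a * b) * (a * b)) * b := by rw [hab2]; group
      _ = (a * a) * b * a * (b * b) := by group
      _ = b * a := by rw [ha2, hb2]; group

end Cfsg.Agent.S4196
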