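import Cfsg.Statements.S4200
-- import your own Cfsg.Agent.* helpers here
import Cfsg.Agent.Lib.Helper70.CommPairs
import Mathlib

set_option autoImplicit false
open Cfsg
open Cfsg.Agent.Lib.Helper70

namespace Cfsg.Agent.S4200

section
open scoped Classical
variable {X : Type*} [Group X] [Fintype X]

omit [Fintype X] in
theorem cc_mono (x : X) {S T : Finset X} (h : S ⊆ T) : cc x S ≤ cc x T := by
  unfold cc
  exact Finset.card_le_card (Finset.filter_subset_filter _ h)

/-- `Σ_{x ∈ X} c(x, X) ≤ m² Σ_{y ∈ Y} c(y, Y)`, strict if `Y` is not normal -/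
theorem sum_le (Y : Subgroup X) :
    ∑ x : X, cc x Finset.univ ≤ Y.index * (Y.index * ∑ y ∈ subF Y, cc y (subF Y)) := by
  calc ∑ x : X, cc x Finset.univ ≤ ∑ x : X, Y.index * cc x (subF Y) :=
        Finset.sum_le_sum (fun x _ => cc_univ_le Y x)
    _ = Y.index * ∑ x : X, cc x (subF Y) := by rw [Finset.mul_sum]
    _ = Y.index * ∑ y ∈ subF Y, cc y Finset.univ := by rw [sum_cc_comm]
    _ ≤ Y.index * ∑ y ∈ subF Y, Y.index * cc y (subF Y) :=
        Nat.mul_le_mul_left _ (Finset.sum_le_sum (fun x _ => cc_univ_le Y x))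
    _ = Y.index * (Y.index * ∑ y ∈ subF Y, cc y (subF Y)) := by rw [← Finset.mul_sum]

theorem sum_lt (Y : Subgroup X) (hY : ¬ Y.Normal) :
    ∑ x : X, cc x Finset.univ < Y.index * (Y.index * ∑ y ∈ subF Y, cc y (subF Y)) := by
  have hm : 0 < Y.index := Nat.pos_of_ne_zero Subgroup.index_ne_zero_of_finite
  -- find y ∈ Y and g with g y g⁻¹ ∉ Y
  have : ∃ y ∈ Y, ∃ g : X, g * y * g⁻¹ ∉ Y := by
    by_contra hcon
    push Not at hcon
    exact hY ⟨fun n hn g => hcon n hn g⟩
  obtain ⟨y, hy, g, hg⟩ := this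
  have hstrict : cc y Finset.univ < Y.index * cc y (subF Y) := by
    apply cc_univ_lt Y y hy g⁻¹
    intro z hz hcomm
    rw [inv_inv] at hz
    apply hg
    have hz' : y * z = z * y := hcomm.eq
    have : g * y * g⁻¹ = (g * z) * y * (g * z)⁻¹ := by
      calc g * y * g⁻¹ = g * (y * z) * z⁻¹ * g⁻¹ := by group
        _ = g * (z * y) * z⁻¹ * g⁻¹ := by rw [hz']
        _ = (g * z) * y * (g * z)⁻¹ := by group
    rw [this]
    exact Y.mul_mem (Y.mul_mem hz hy) (Y.inv_mem hz)
  calc ∑ x : X, cc x Finset.univ ≤ ∑ x : X, Y.index * cc x (subF Y) :=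
        Finset.sum_le_sum (fun x _ => cc_univ_le Y x)
    _ = Y.index * ∑ x : X, cc x (subF Y) := by rw [Finset.mul_sum]
    _ = Y.index * ∑ y ∈ subF Y, cc y Finset.univ := by rw [sum_cc_comm]
    _ < Y.index * ∑ y ∈ subF Y, Y.index * cc y (subF Y) := by
        apply Nat.mul_lt_mul_of_pos_left _ hm
        apply Finset.sum_lt_sum (fun x _ => cc_univ_le Y x)
        exact ⟨y, (mem_subF Y y).mpr hy, hstrict⟩
    _ = Y.index * (Y.index * ∑ y ∈ subF Y, cc y (subF Y)) := by rw [← Finset.mul_sum]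

theorem sum_sub_le (Y : Subgroup X) :
    ∑ y ∈ subF Y, cc y (subF Y) ≤ ∑ x : X, cc x Finset.univ := by
  calc ∑ y ∈ subF Y, cc y (subF Y) ≤ ∑ y ∈ subF Y, cc y Finset.univ :=
        Finset.sum_le_sum (fun x _ => cc_mono x (Finset.subset_univ _))
    _ ≤ ∑ x : X, cc x Finset.univ :=
        Finset.sum_le_sum_of_subset (Finset.subset_univ _)

end

/-- Let Y be a subgroup of the finite group X, of index m. Then the numbers of conjugacy classes satisfy k(Y) ≤ m·k(X) and k(X) ≤ m·k(Y), and the second inequality is strict unless Y is normal in X. -/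
theorem result {X : Type*} [Group X] [Finite X] (Y : Subgroup X) : Nat.card (ConjClasses Y) ≤ Y.index * Nat.card (ConjClasses X) ∧ Nat.card (ConjClasses X) ≤ Y.index * Nat.card (ConjClasses Y) ∧ (¬ Y.Normal → Nat.card (ConjClasses X) < Y.index * Nat.card (ConjClasses Y)) := by
  classical
  have := Fintype.ofFinite X
  have hX := card_conjClasses_mul_card_eq_sum (X := X)
  have hY := card_conjClasses_subgroup_mul_card_eq_sum Y
  have hidx : Nat.card Y * Y.index = Nat.card X := Y.card_mul_index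
  have hYpos : 0 < Nat.card Y := Nat.card_pos
  have hm : 0 < Y.index := Nat.pos_of_ne_zero Subgroup.index_ne_zero_of_finite
  set kX := Nat.card (ConjClasses X)
  set kY := Nat.card (ConjClasses Y)
  set m := Y.index
  set nY := Nat.card Y
  refine ⟨?_, ?_, ?_⟩
  · -- kY * nY ≤ kX * (nY * m)
    have h1 : kY * nY ≤ kX * Nat.card X := by
      rw [hX, hY]; exact sum_sub_le Y
    rw [← hidx] at h1
    have h2 : kY * nY ≤ (m * kX) * nY := by
      calc kY * nY ≤ kX * (nY * m) := h1
        _ = (m * kX) * nY := by ring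
    exact Nat.le_of_mul_le_mul_right h2 hYpos
  · have h1 : kX * Nat.card X ≤ m * (m * (kY * nY)) := by
      rw [hX, hY]; exact sum_le Y
    rw [← hidx] at h1
    have h2 : kX * (nY * m) ≤ (m * kY) * (nY * m) := by
      calc kX * (nY * m) ≤ m * (m * (kY * nY)) := h1
        _ = (m * kY) * (nY * m) := by ring
    exact Nat.le_of_mul_le_mul_right h2 (Nat.mul_pos hYpos hm)
  · intro hnn
    have h1 : kX * Nat.card X < m * (m * (kY * nY)) := by
      rw [hX, hY]; exact sum_lt Y hnn
    rw [← hidx] at h1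
    have h2 : kX * (nY * m) < (m * kY) * (nY * m) := by
      calc kX * (nY * m) < m * (m * (kY * nY)) := h1
        _ = (m * kY) * (nY * m) := by ring
    exact Nat.lt_of_mul_lt_mul_right h2

end Cfsg.Agent.S4200
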