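import Cfsg.Statements.S4201
-- import your own Cfsg.Agent.* helpers here
import Cfsg.Agent.Lib.Helper70.CommPairs
import Mathlib

set_option autoImplicit false
open Cfsg
open Cfsg.Agent.Lib.Helper70

namespace Cfsg.Agent.S4201

section
open scoped Classical
variable {X : Type*} [Group X] [Fintype X]

/-- the number of commuting pairs in `aN × bN` is at most the number of commuting pairs of `N`. -/
theorem fiber_le (N : Subgroup X) (a b : X) :
    ∑ x ∈ cosetF N a, cc x (cosetF N b) ≤ ∑ n ∈ subF N, cc n (subF N) := by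
  calc ∑ x ∈ cosetF N a, cc x (cosetF N b) ≤ ∑ x ∈ cosetF N a, cc x (subF N) :=
        Finset.sum_le_sum (fun x _ => cc_cosetF_le N x b)
    _ = ∑ n ∈ subF N, cc n (cosetF N a) := sum_cc_comm _ _
    _ ≤ ∑ n ∈ subF N, cc n (subF N) :=
        Finset.sum_le_sum (fun x _ => cc_cosetF_le N x a)

theorem commPairs_le (N : Subgroup X) [N.Normal] :
    (Finset.univ.filter (fun p : X × X => Commute p.1 p.2)).card ≤
      (Finset.univ.filter (fun p : (X ⧸ N) × (X ⧸ N) => Commute p.1 p.2)).card *
        ∑ n ∈ subF N, cc n (subF N) := by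
  rw [Finset.card_eq_sum_card_fiberwise
    (f := fun p : X × X => ((QuotientGroup.mk p.1 : X ⧸ N), (QuotientGroup.mk p.2 : X ⧸ N)))
    (t := Finset.univ.filter (fun p : (X ⧸ N) × (X ⧸ N) => Commute p.1 p.2))]
  · rw [← smul_eq_mul, ← Finset.sum_const]
    apply Finset.sum_le_sum
    rintro ⟨qa, qb⟩ _
    refine le_trans (le_of_eq ?_) (fiber_le N qa.out qb.out)
    rw [← card_filter_product_eq_sum_cc]
    congr 1
    ext ⟨x, y⟩
    simp only [Finset.mem_filter, Finset.mem_univ, true_and, Finset.mem_product, mem_cosetF,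
      Prod.mk.injEq]
    have hx : (QuotientGroup.mk x : X ⧸ N) = qa ↔ qa.out⁻¹ * x ∈ N := by
      rw [← QuotientGroup.eq, QuotientGroup.out_eq']
      exact eq_comm
    have hy : (QuotientGroup.mk y : X ⧸ N) = qb ↔ qb.out⁻¹ * y ∈ N := by
      rw [← QuotientGroup.eq, QuotientGroup.out_eq']
      exact eq_comm
    rw [hx, hy]
    tauto
  · intro p hp
    have hp' := Finset.mem_coe.mp hp
    rw [Finset.mem_filter] at hp'
    apply Finset.mem_coe.mpr
    rw [Finset.mem_filter]
    refine ⟨Finset.mem_univ _, ?_⟩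
    show (QuotientGroup.mk p.1 : X ⧸ N) * QuotientGroup.mk p.2 = QuotientGroup.mk p.2 * QuotientGroup.mk p.1
    rw [← QuotientGroup.mk_mul, ← QuotientGroup.mk_mul, hp'.2.eq]

end

/-- If N is a normal subgroup of the finite group X then k(X) ≤ k(N)·k(X ⧸ N), where k denotes the number of conjugacy classes. -/
theorem result {X : Type*} [Group X] [Finite X] (N : Subgroup X) [N.Normal] : Nat.card (ConjClasses X) ≤ Nat.card (ConjClasses N) * Nat.card (ConjClasses (X ⧸ N)) := by
  classical
  have := Fintype.ofFinite X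
  have hX := card_comm_eq_card_conjClasses_mul_card X
  have hQ := card_comm_eq_card_conjClasses_mul_card (X ⧸ N)
  have hN := card_conjClasses_subgroup_mul_card_eq_sum N
  have hidx : Nat.card N * N.index = Nat.card X := N.card_mul_index
  have hXpos : 0 < Nat.card X := Nat.card_pos
  have key := commPairs_le N
  rw [Nat.card_eq_fintype_card, Fintype.card_subtype] at hX hQ
  rw [hX, hQ, ← hN] at key
  have hidx' : N.index = Nat.card (X ⧸ N) := rfl
  rw [← hidx'] at key
  have h2 : Nat.card (ConjClasses X) * Nat.card X ≤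
      (Nat.card (ConjClasses N) * Nat.card (ConjClasses (X ⧸ N))) * Nat.card X := by
    calc Nat.card (ConjClasses X) * Nat.card X
        ≤ Nat.card (ConjClasses (X ⧸ N)) * N.index * (Nat.card (ConjClasses N) * Nat.card N) := key
      _ = (Nat.card (ConjClasses N) * Nat.card (ConjClasses (X ⧸ N))) * (Nat.card N * N.index) := by
          ring
      _ = _ := by rw [hidx]
  exact Nat.le_of_mul_le_mul_right h2 hXpos

end Cfsg.Agent.S4201
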