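import Cfsg.Statements.S4204
-- import your own Cfsg.Agent.* helpers here
import Mathlib

set_option autoImplicit false
open Cfsg

namespace Cfsg.Agent.S4204

variable {G : Type*} [Group G]

/-- `⁅A, B⁆ ≤ N` iff the image of `A` centralizes the image of `B` in `G ⧸ N`. -/
theorem comm_le_iff (A B N : Subgroup G) [N.Normal] :
    ⁅A, B⁆ ≤ N ↔ A.map (QuotientGroup.mk' N) ≤
      Subgroup.centralizer ((B.map (QuotientGroup.mk' N) : Subgroup (G ⧸ N)) : Set (G ⧸ N)) := by
  rw [← Subgroup.commutator_eq_bot_iff_le_centralizer, ← Subgroup.map_commutator,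
    Subgroup.map_eq_bot_iff, QuotientGroup.ker_mk']

theorem comm_iSup_le {ι : Sort*} (A : ι → Subgroup G) (B N : Subgroup G) [N.Normal]
    (h : ∀ i, ⁅A i, B⁆ ≤ N) : ⁅⨆ i, A i, B⁆ ≤ N := by
  rw [comm_le_iff, Subgroup.map_iSup, iSup_le_iff]
  intro i
  exact (comm_le_iff _ _ _).mp (h i)

theorem comm_sup_right_le (A B₁ B₂ N : Subgroup G) [N.Normal]
    (h₁ : ⁅A, B₁⁆ ≤ N) (h₂ : ⁅A, B₂⁆ ≤ N) : ⁅A, B₁ ⊔ B₂⁆ ≤ N := by
  rw [Subgroup.commutator_comm] at h₁ h₂ ⊢
  rw [comm_le_iff, Subgroup.map_sup, sup_le_iff]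
  exact ⟨(comm_le_iff _ _ _).mp h₁, (comm_le_iff _ _ _).mp h₂⟩

theorem lcs_normal (H : Subgroup G) [H.Normal] (n : ℕ) : (H.lowerCentralSeries n).Normal := by
  induction n with
  | zero => simpa using (inferInstance : H.Normal)
  | succ n ih =>
    rw [Subgroup.lowerCentralSeries_succ]
    exact Subgroup.commutator_normal (H.lowerCentralSeries n) H

/-- `Γ H 0 = ⊤`, `Γ H (a+1) = H.lowerCentralSeries a`. -/
def Gam (H : Subgroup G) : ℕ → Subgroup G
  | 0 => ⊤
  | a + 1 => H.lowerCentralSeries a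

theorem Gam_normal (H : Subgroup G) [H.Normal] (a : ℕ) : (Gam H a).Normal := by
  cases a with
  | zero => exact Subgroup.normal_top
  | succ a => exact lcs_normal H a

theorem comm_Gam_le (H : Subgroup G) [H.Normal] (a : ℕ) : ⁅Gam H a, H⁆ ≤ Gam H (a + 1) := by
  cases a with
  | zero =>
    show ⁅(⊤ : Subgroup G), H⁆ ≤ H.lowerCentralSeries 0
    rw [Subgroup.lowerCentralSeries_zero]
    exact Subgroup.commutator_le_right _ _
  | succ a =>
    show ⁅H.lowerCentralSeries a, H⁆ ≤ H.lowerCentralSeries (a + 1)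
    rw [Subgroup.lowerCentralSeries_succ]

/-- the bound subgroup -/
def Tn (H K : Subgroup G) (n : ℕ) : Subgroup G :=
  ⨆ (p : ℕ × ℕ) (_ : p.1 + p.2 = n + 1), Gam H p.1 ⊓ Gam K p.2

theorem Tn_normal (H K : Subgroup G) [H.Normal] [K.Normal] (n : ℕ) : (Tn H K n).Normal := by
  unfold Tn
  have : ∀ p : ℕ × ℕ, (⨆ (_ : p.1 + p.2 = n + 1), Gam H p.1 ⊓ Gam K p.2).Normal := by
    intro p
    have h1 := Gam_normal H p.1
    have h2 := Gam_normal K p.2
    have : ∀ _ : p.1 + p.2 = n + 1, (Gam H p.1 ⊓ Gam K p.2).Normal := fun _ => inferInstance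
    exact Subgroup.iSup_normal _
  exact Subgroup.iSup_normal _

theorem lcs_sup_le (H K : Subgroup G) [H.Normal] [K.Normal] (n : ℕ) :
    (H ⊔ K).lowerCentralSeries n ≤ Tn H K n := by
  induction n with
  | zero =>
    rw [Subgroup.lowerCentralSeries_zero]
    apply sup_le
    · refine le_trans ?_ (le_iSup₂ (f := fun (p : ℕ × ℕ) (_ : p.1 + p.2 = 0 + 1) =>
        Gam H p.1 ⊓ Gam K p.2) (1, 0) (by simp))
      show H ≤ H.lowerCentralSeries 0 ⊓ ⊤
      simp
    · refine le_trans ?_ (le_iSup₂ (f := fun (p : ℕ × ℕ) (_ : p.1 + p.2 = 0 + 1) =>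
        Gam H p.1 ⊓ Gam K p.2) (0, 1) (by simp))
      show K ≤ ⊤ ⊓ K.lowerCentralSeries 0
      simp
  | succ n ih =>
    rw [Subgroup.lowerCentralSeries_succ]
    refine le_trans (Subgroup.commutator_mono ih le_rfl) ?_
    have hT := Tn_normal H K (n + 1)
    unfold Tn at hT ⊢
    apply comm_iSup_le
    intro p
    apply comm_iSup_le
    intro hp
    have h1 := Gam_normal H p.1
    have h2 := Gam_normal K p.2
    apply comm_sup_right_le
    · -- commutator with H
      refine le_trans ?_ (le_iSup₂ (f := fun (q : ℕ × ℕ) (_ : q.1 + q.2 = n + 1 + 1) =>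
        Gam H q.1 ⊓ Gam K q.2) (p.1 + 1, p.2) (by simp; omega))
      apply le_inf
      · exact (Subgroup.commutator_mono inf_le_left le_rfl).trans (comm_Gam_le H p.1)
      · exact (Subgroup.commutator_mono inf_le_right le_rfl).trans (Subgroup.commutator_le_left _ _)
    · refine le_trans ?_ (le_iSup₂ (f := fun (q : ℕ × ℕ) (_ : q.1 + q.2 = n + 1 + 1) =>
        Gam H q.1 ⊓ Gam K q.2) (p.1, p.2 + 1) (by simp; omega))
      apply le_inf
      · exact (Subgroup.commutator_mono inf_le_left le_rfl).trans (Subgroup.commutator_le_left _ _)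
      · exact (Subgroup.commutator_mono inf_le_right le_rfl).trans (comm_Gam_le K p.2)

theorem Gam_eq_bot (H : Subgroup G) (c a : ℕ) (hH : H.lowerCentralSeries c = ⊥) (ha : c + 1 ≤ a) :
    Gam H a = ⊥ := by
  obtain ⟨a', rfl⟩ : ∃ a', a = a' + 1 := ⟨a - 1, by omega⟩
  show H.lowerCentralSeries a' = ⊥
  rw [eq_bot_iff, ← hH]
  exact H.lowerCentralSeries_antitone (by omega)

/-- If `H` and `K` are normal subgroups of a finite group with `H` nilpotent of class at most `c` and `K` nilpotent of class at most `d` (the terms with index `c`, respectively `d`, of their lower central series are trivial, indices starting at `0`), then `HK` is nilpotent of class at most `c + d`. -/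
theorem result {G : Type*} [Group G] [Finite G] (H K : Subgroup G) [H.Normal] [K.Normal] (c d : ℕ) (hH : H.lowerCentralSeries c = ⊥) (hK : K.lowerCentralSeries d = ⊥) : (H ⊔ K).lowerCentralSeries (c + d) = ⊥ := by
  rw [eq_bot_iff]
  refine (lcs_sup_le H K (c + d)).trans ?_
  unfold Tn
  apply iSup₂_le
  intro p hp
  by_cases h : c + 1 ≤ p.1
  · rw [Gam_eq_bot H c p.1 hH h]; simp
  · rw [Gam_eq_bot K d p.2 hK (by omega)]; simp

end Cfsg.Agent.S4204
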