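import Cfsg.Statements.S4208
-- import your own Cfsg.Agent.* helpers here
import Cfsg.Agent.Lib.Helper70.GenTuplesCount
import Cfsg.Agent.S0012
import Cfsg.Agent.S4207
import Mathlib

set_option autoImplicit false
open Cfsg
open Cfsg.Agent.Lib.Helper70

namespace Cfsg.Agent.S4208

/-- Let `P` be a group of order `p^n` whose Frattini subgroup has index `p^r`. Then the order of the automorphism group of `P` divides `p^(r(n-r)) · (p^r - 1)(p^r - p) ⋯ (p^r - p^(r-1))`. -/
theorem result {P : Type*} [Group P] [Finite P] {p n r : ℕ} [Fact p.Prime] (hP : Nat.card P = p ^ n) (hr : (frattini P).index = p ^ r) : Nat.card (MulAut P) ∣ p ^ (r * (n - r)) * ∏ i ∈ Finset.range r, (p ^ r - p ^ i) := by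
  have hG : IsPGroup p P := IsPGroup.of_card hP
  obtain ⟨h1, h2⟩ := Cfsg.Agent.S0012.result p hG
  have hc : IsMulCommutative (P ⧸ frattini P) :=
    Subgroup.Normal.quotient_commutative_iff_commutator_le.mpr h1
  have hcomm' : ∀ a b : P ⧸ frattini P, a * b = b * a := fun a b => hc.is_comm.comm a b
  have hexp' : ∀ x : P ⧸ frattini P, x ^ p = 1 := by
    intro x
    induction x using QuotientGroup.induction_on with
    | H g =>
      rw [← QuotientGroup.mk_pow, QuotientGroup.eq_one_iff]
      exact h2 g
  have hcardQ : Nat.card (P ⧸ frattini P) = p ^ r := hr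
  have hcount := card_genTuples_elemab p r hcomm' hexp' hcardQ
  have hdvd := card_mulAut_dvd_card_genTuples (P := P) (Fin r)
  obtain ⟨_, hΦ⟩ := Cfsg.Agent.S4207.card_frattini hP hr
  rw [Nat.card_congr (genTuplesEquiv P (Fin r)), Nat.card_prod, hcount, Nat.card_fun, Nat.card_fin,
    hΦ, ← pow_mul, mul_comm (n - r) r, mul_comm] at hdvd
  exact hdvd

end Cfsg.Agent.S4208
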