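import Cfsg.Statements.S4211
import Cfsg.Agent.Lib.Helper35.QuaternionRecog
-- import your own Cfsg.Agent.* helpers here

set_option autoImplicit false
open Cfsg

namespace Cfsg.Agent.S4211

section pow

variable {H : Type*} [Group H]

/-- If `y z = e z y` with `e` commuting with `z` and `y`, then `yⁿ z = eⁿ z yⁿ`. -/
theorem pow_mul_comm_of {y z e : H} (h : y * z = e * z * y) (hey : Commute e y)
    (n : ℕ) : y ^ n * z = e ^ n * z * y ^ n := by
  induction n with
  | zero => simp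
  | succ n ih =>
    calc y ^ (n + 1) * z = y ^ n * (y * z) := by rw [pow_succ, mul_assoc]
      _ = y ^ n * (e * z * y) := by rw [h]
      _ = e * (y ^ n * z) * y := by
          rw [mul_assoc e z y, ← mul_assoc (y ^ n) e, ← (hey.pow_right n).eq]
          simp only [mul_assoc]
      _ = e * (e ^ n * z * y ^ n) * y := by rw [ih]
      _ = e ^ (n + 1) * z * y ^ (n + 1) := by
          rw [pow_succ' e, pow_succ y]; simp only [mul_assoc]

/-- The power formula in a class-2 situation: `(z y)ⁿ = e^(n choose 2) zⁿ yⁿ`. -/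
theorem mul_pow_of {y z e : H} (h : y * z = e * z * y) (hez : Commute e z) (hey : Commute e y)
    (n : ℕ) : (z * y) ^ n = e ^ (n.choose 2) * z ^ n * y ^ n := by
  induction n with
  | zero => simp
  | succ n ih =>
    have h1 := pow_mul_comm_of h hey n
    have hc : (n + 1).choose 2 = n.choose 2 + n := by
      rw [Nat.choose_succ_succ' n 1, Nat.choose_one_right, add_comm]
    calc (z * y) ^ (n + 1) = (z * y) ^ n * (z * y) := pow_succ _ _
      _ = e ^ (n.choose 2) * z ^ n * y ^ n * (z * y) := by rw [ih]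
      _ = e ^ (n.choose 2) * z ^ n * (y ^ n * z) * y := by simp only [mul_assoc]
      _ = e ^ (n.choose 2) * z ^ n * (e ^ n * z * y ^ n) * y := by rw [h1]
      _ = e ^ (n.choose 2) * e ^ n * (z ^ n * z) * (y ^ n * y) := by
          have := (hez.pow_left n).pow_right n
          -- move `e ^ n` past `z ^ n`
          have h2 : z ^ n * (e ^ n * z * y ^ n) = e ^ n * (z ^ n * z) * y ^ n := by
            rw [← mul_assoc, ← mul_assoc, ← this.eq]; simp only [mul_assoc]
          calc e ^ (n.choose 2) * z ^ n * (e ^ n * z * y ^ n) * y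
              = e ^ (n.choose 2) * (z ^ n * (e ^ n * z * y ^ n)) * y := by simp only [mul_assoc]
            _ = e ^ (n.choose 2) * (e ^ n * (z ^ n * z) * y ^ n) * y := by rw [h2]
            _ = _ := by simp only [mul_assoc]
      _ = e ^ ((n + 1).choose 2) * z ^ (n + 1) * y ^ (n + 1) := by
          rw [hc, pow_add, ← pow_succ z, ← pow_succ y]

end pow

section key

variable {H : Type*} [Group H] [Finite H]

omit [Finite H] in
/-- `x^n y = c^n y x^n` when `x y = c y x` and `c` commutes with `x`, `y`. -/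
theorem pow_comm_rel {x y c : H} (h : x * y = c * y * x) (hcx : Commute c x) (n : ℕ) :
    x ^ n * y = c ^ n * y * x ^ n :=
  pow_mul_comm_of h hcx n

/-- In a cyclic group of order `p^(a+1)` an element of order `p` lies in `⟨x^(p^a)⟩`. -/
theorem mem_zpowers_pow_of_orderOf {x c : H} {p a : ℕ} (hp : p.Prime)
    (hx : orderOf x = p ^ (a + 1)) (hc : c ∈ Subgroup.zpowers x) (hcp : c ^ p = 1) :
    c ∈ Subgroup.zpowers (x ^ p ^ a) := by
  rw [← mem_powers_iff_mem_zpowers] at hc
  obtain ⟨i, rfl⟩ := hc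
  rw [← pow_mul, ← orderOf_dvd_iff_pow_eq_one, hx, pow_succ] at hcp
  have h1 : p ^ a ∣ i := by
    have := Nat.dvd_of_mul_dvd_mul_right hp.pos hcp
    exact this
  obtain ⟨j, rfl⟩ := h1
  change x ^ (p ^ a * j) ∈ _
  rw [pow_mul]
  exact Subgroup.pow_mem _ (Subgroup.mem_zpowers _) _

theorem dedekind_min_pair
    (hn : ∀ g z : H, g * z * g⁻¹ ∈ Subgroup.zpowers z)
    (x y : H) (hxy : x * y ≠ y * x)
    (hmin : ∀ x' y' : H, x' * y' ≠ y' * x' → orderOf x + orderOf y ≤ orderOf x' + orderOf y')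
    (hle : orderOf y ≤ orderOf x) :
    orderOf x = 4 ∧ orderOf y = 4 ∧ x ^ 2 = y ^ 2 ∧ y * x * y⁻¹ = x⁻¹ := by
  -- the commutator
  set c : H := x * y * x⁻¹ * y⁻¹ with hc
  have hc1 : c ≠ 1 := by
    intro h1
    apply hxy
    have : x * y = c * y * x := by rw [hc]; group
    rw [this, h1, one_mul]
  have hcx : c ∈ Subgroup.zpowers x := by
    have h1 : y * x⁻¹ * y⁻¹ ∈ Subgroup.zpowers x := by
      have := hn y x⁻¹
      rwa [Subgroup.zpowers_inv] at this
    have : c = x * (y * x⁻¹ * y⁻¹) := by rw [hc]; group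
    rw [this]
    exact mul_mem (Subgroup.mem_zpowers x) h1
  have hcy : c ∈ Subgroup.zpowers y := by
    have h1 : x * y * x⁻¹ ∈ Subgroup.zpowers y := hn x y
    rw [hc]
    exact mul_mem h1 (inv_mem (Subgroup.mem_zpowers y))
  have hcommx : Commute c x := by
    obtain ⟨i, hi⟩ := Subgroup.mem_zpowers_iff.mp hcx
    rw [← hi]
    exact (Commute.refl x).zpow_left i
  have hcommy : Commute c y := by
    obtain ⟨i, hi⟩ := Subgroup.mem_zpowers_iff.mp hcy
    rw [← hi]
    exact (Commute.refl y).zpow_left i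
  have hrel : x * y = c * y * x := by rw [hc]; group
  -- the symmetric relation `y x = c⁻¹ x y`
  have hrel' : y * x = c⁻¹ * x * y := by
    rw [mul_assoc, hrel]; group
  have hxpos : 0 < orderOf x := orderOf_pos x
  have hypos : 0 < orderOf y := orderOf_pos y
  -- primes dividing `orderOf x` or `orderOf y` equal `orderOf c`
  have hprime_x : ∀ q : ℕ, q.Prime → q ∣ orderOf x → orderOf c = q := by
    intro q hq hqx
    have hcomm : x ^ q * y = y * x ^ q := by
      by_contra hne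
      have h1 := hmin (x ^ q) y hne
      have h2 : orderOf (x ^ q) = orderOf x / q := orderOf_pow_of_dvd hq.ne_zero hqx
      have h3 : orderOf x / q < orderOf x := Nat.div_lt_self hxpos hq.one_lt
      omega
    have h4 := pow_comm_rel hrel hcommx q
    rw [hcomm] at h4
    have h5 : c ^ q = 1 := by
      rw [mul_assoc] at h4
      exact (mul_eq_right.mp h4.symm)
    have h6 : orderOf c ∣ q := orderOf_dvd_of_pow_eq_one h5
    rcases (Nat.dvd_prime hq).mp h6 with h7 | h7
    · exact absurd (orderOf_eq_one_iff.mp h7) hc1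
    · exact h7
  have hprime_y : ∀ q : ℕ, q.Prime → q ∣ orderOf y → orderOf c = q := by
    intro q hq hqy
    have hcomm : y ^ q * x = x * y ^ q := by
      by_contra hne
      have h1 := hmin x (y ^ q) (fun h => hne h.symm)
      have h2 : orderOf (y ^ q) = orderOf y / q := orderOf_pow_of_dvd hq.ne_zero hqy
      have h3 : orderOf y / q < orderOf y := Nat.div_lt_self hypos hq.one_lt
      omega
    have h4 := pow_comm_rel hrel' (hcommy.inv_left) q
    rw [hcomm] at h4
    have h5 : (c⁻¹) ^ q = 1 := by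
      rw [mul_assoc] at h4
      exact (mul_eq_right.mp h4.symm)
    have h5' : c ^ q = 1 := by
      rw [inv_pow, inv_eq_one] at h5; exact h5
    have h6 : orderOf c ∣ q := orderOf_dvd_of_pow_eq_one h5'
    rcases (Nat.dvd_prime hq).mp h6 with h7 | h7
    · exact absurd (orderOf_eq_one_iff.mp h7) hc1
    · exact h7
  have hx1 : orderOf x ≠ 1 := by
    intro h1
    rw [orderOf_eq_one_iff] at h1
    apply hxy; rw [h1]; simp
  have hy1 : orderOf y ≠ 1 := by
    intro h1
    rw [orderOf_eq_one_iff] at h1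
    apply hxy; rw [h1]; simp
  obtain ⟨p, hp, hpx⟩ := Nat.exists_prime_and_dvd hx1
  have hcp : orderOf c = p := hprime_x p hp hpx
  have hcpow : c ^ p = 1 := by rw [← hcp]; exact pow_orderOf_eq_one c
  have hxpow : orderOf x = p ^ (orderOf x).primeFactorsList.length :=
    Nat.eq_prime_pow_of_unique_prime_dvd hxpos.ne' (fun {d} hd hdx => by
      rw [← hprime_x d hd hdx, hcp])
  have hypow : orderOf y = p ^ (orderOf y).primeFactorsList.length :=
    Nat.eq_prime_pow_of_unique_prime_dvd hypos.ne' (fun {d} hd hdy => by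
      rw [← hprime_y d hd hdy, hcp])
  -- exponents
  obtain ⟨a, ha⟩ : ∃ a, (orderOf x).primeFactorsList.length = a + 1 := by
    rcases Nat.eq_zero_or_pos (orderOf x).primeFactorsList.length with h0 | h0
    · rw [h0, pow_zero] at hxpow; exact absurd hxpow hx1
    · exact ⟨_, (Nat.succ_pred_eq_of_pos h0).symm⟩
  obtain ⟨b, hb⟩ : ∃ b, (orderOf y).primeFactorsList.length = b + 1 := by
    rcases Nat.eq_zero_or_pos (orderOf y).primeFactorsList.length with h0 | h0
    · rw [h0, pow_zero] at hypow; exact absurd hypow hy1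
    · exact ⟨_, (Nat.succ_pred_eq_of_pos h0).symm⟩
  rw [ha] at hxpow
  rw [hb] at hypow
  have hba : b ≤ a := by
    rw [hxpow, hypow] at hle
    have := (Nat.pow_le_pow_iff_right hp.one_lt).mp hle
    omega
  -- `c` generates the subgroups of order `p`
  have hcxa : c ∈ Subgroup.zpowers (x ^ p ^ a) := mem_zpowers_pow_of_orderOf hp hxpow hcx hcpow
  have hcyb : c ∈ Subgroup.zpowers (y ^ p ^ b) := mem_zpowers_pow_of_orderOf hp hypow hcy hcpow
  have hoxa : orderOf (x ^ p ^ a) = p := by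
    rw [orderOf_pow_of_dvd (pow_ne_zero _ hp.ne_zero) (by rw [hxpow]; exact pow_dvd_pow p (by omega)),
      hxpow, pow_succ, Nat.mul_div_cancel_left _ (pow_pos hp.pos a)]
  have hoyb : orderOf (y ^ p ^ b) = p := by
    rw [orderOf_pow_of_dvd (pow_ne_zero _ hp.ne_zero) (by rw [hypow]; exact pow_dvd_pow p (by omega)),
      hypow, pow_succ, Nat.mul_div_cancel_left _ (pow_pos hp.pos b)]
  have hzx : Subgroup.zpowers c = Subgroup.zpowers (x ^ p ^ a) := by
    apply Subgroup.eq_of_le_of_card_ge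
    · rw [Subgroup.zpowers_le]; exact hcxa
    · rw [Nat.card_zpowers, Nat.card_zpowers, hoxa, hcp]
  have hzy : Subgroup.zpowers c = Subgroup.zpowers (y ^ p ^ b) := by
    apply Subgroup.eq_of_le_of_card_ge
    · rw [Subgroup.zpowers_le]; exact hcyb
    · rw [Nat.card_zpowers, Nat.card_zpowers, hoyb, hcp]
  -- `b ≥ 1`
  have hb1 : 1 ≤ b := by
    by_contra hb0
    have hb0' : b = 0 := by omega
    rw [hb0', pow_zero, pow_one] at hzy
    have h1 : y ∈ Subgroup.zpowers c := by rw [hzy]; exact Subgroup.mem_zpowers y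
    have h2 : y ∈ Subgroup.zpowers x := (Subgroup.zpowers_le.mpr hcx) h1
    obtain ⟨i, hi⟩ := Subgroup.mem_zpowers_iff.mp h2
    apply hxy
    rw [← hi]
    exact ((Commute.refl x).zpow_right i).eq
  -- the element `y₁ = x^k y`
  have hyinv : (y ^ p ^ b)⁻¹ ∈ Subgroup.zpowers (x ^ p ^ a) := by
    rw [← hzx, hzy]; exact inv_mem (Subgroup.mem_zpowers _)
  rw [← mem_powers_iff_mem_zpowers] at hyinv
  obtain ⟨t, ht⟩ := hyinv
  change (x ^ p ^ a) ^ t = (y ^ p ^ b)⁻¹ at ht
  set k : ℕ := t * p ^ (a - b) with hk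
  have hkrel := pow_comm_rel hrel hcommx k
  have hyz : y * x ^ k = (c ^ k)⁻¹ * x ^ k * y := by
    rw [mul_assoc, hkrel]; group
  have hez : Commute (c ^ k)⁻¹ (x ^ k) := ((hcommx.pow_left k).pow_right k).inv_left
  have hey : Commute (c ^ k)⁻¹ y := (hcommy.pow_left k).inv_left
  have hformula := mul_pow_of hyz hez hey (p ^ b)
  have hzn : (x ^ k) ^ p ^ b = (y ^ p ^ b)⁻¹ := by
    rw [← ht, ← pow_mul, ← pow_mul, hk]
    congr 1
    have : p ^ (a - b) * p ^ b = p ^ a := by rw [← pow_add]; congr 1; omega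
    rw [mul_assoc, this, mul_comm]
  rw [hzn, mul_assoc, inv_mul_cancel, mul_one, inv_pow, ← pow_mul] at hformula
  -- unless `p = 2` and `a = 1`, `p ∣ k * (p^b choose 2)`
  have hmain : p = 2 ∧ a = 1 := by
    by_contra hcon
    have hdvd : p ∣ k * (p ^ b).choose 2 := by
      have h2c : 2 * (p ^ b).choose 2 = p ^ b * (p ^ b - 1) := by
        rw [Nat.choose_two_right, Nat.mul_div_cancel' (Nat.even_mul_pred_self _).two_dvd]
      by_cases hp2 : p = 2
      · have ha2 : 2 ≤ a := by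
          rcases Nat.lt_or_ge a 2 with h | h
          · exact absurd ⟨hp2, by omega⟩ hcon
          · exact h
        rcases Nat.lt_or_ge b a with hlt | hge
        · apply Dvd.dvd.mul_right
          rw [hk]
          apply Dvd.dvd.mul_left
          exact dvd_pow_self p (by omega)
        · have hab : a = b := by omega
          apply Dvd.dvd.mul_left
          subst hp2
          have h4 : 4 ∣ 2 ^ b * (2 ^ b - 1) := by
            apply Dvd.dvd.mul_right
            have : (4 : ℕ) = 2 ^ 2 := by norm_num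
            rw [this]
            exact pow_dvd_pow 2 (by omega)
          rw [← h2c] at h4
          omega
      · apply Dvd.dvd.mul_left
        have h1 : p ∣ 2 * (p ^ b).choose 2 := by
          rw [h2c]
          exact Dvd.dvd.mul_right (dvd_pow_self p (by omega)) _
        have hcop : Nat.Coprime p 2 := (Nat.coprime_primes hp Nat.prime_two).mpr hp2
        exact hcop.dvd_of_dvd_mul_left h1
    -- then `y₁ ^ (p^b) = 1`
    have hone : (x ^ k * y) ^ p ^ b = 1 := by
      rw [hformula, inv_eq_one, ← orderOf_dvd_iff_pow_eq_one, hcp]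
      exact hdvd
    have hord : orderOf (x ^ k * y) ≤ p ^ b :=
      Nat.le_of_dvd (pow_pos hp.pos b) (orderOf_dvd_of_pow_eq_one hone)
    have hnc : x * (x ^ k * y) ≠ x ^ k * y * x := by
      intro h
      apply hxy
      have h1 : x ^ k * (x * y) = x ^ k * (y * x) := by
        rw [← mul_assoc, ← pow_succ, pow_succ', mul_assoc, h, mul_assoc]
      exact mul_left_cancel h1
    have := hmin x (x ^ k * y) hnc
    have hlt : p ^ b < orderOf y := by
      rw [hypow]; exact Nat.pow_lt_pow_right hp.one_lt (by omega)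
    omega
  obtain ⟨hp2, ha1⟩ := hmain
  have hb1' : b = 1 := by omega
  subst hp2 ha1 hb1'
  have hox : orderOf x = 4 := by rw [hxpow]; norm_num
  have hoy : orderOf y = 4 := by rw [hypow]; norm_num
  -- `c = x²` and `c = y²`
  have hcx2 : c = x ^ 2 := by
    have h1 : c ∈ Subgroup.zpowers (x ^ 2) := by simpa using hcxa
    rw [← mem_powers_iff_mem_zpowers] at h1
    obtain ⟨i, hi⟩ := h1
    change (x ^ 2) ^ i = c at hi
    have h2 : (x ^ 2) ^ 2 = 1 := by
      have h4 : x ^ 4 = 1 := by rw [← hox]; exact pow_orderOf_eq_one x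
      rw [← pow_mul]; exact h4
    rcases Nat.even_or_odd' i with ⟨j, hj | hj⟩
    · exfalso; apply hc1
      rw [← hi, hj, pow_mul, h2, one_pow]
    · rw [← hi, hj, pow_succ, pow_mul, h2, one_pow, one_mul]
  have hcy2 : c = y ^ 2 := by
    have h1 : c ∈ Subgroup.zpowers (y ^ 2) := by simpa using hcyb
    rw [← mem_powers_iff_mem_zpowers] at h1
    obtain ⟨i, hi⟩ := h1
    change (y ^ 2) ^ i = c at hi
    have h2 : (y ^ 2) ^ 2 = 1 := by
      have h4 : y ^ 4 = 1 := by rw [← hoy]; exact pow_orderOf_eq_one y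
      rw [← pow_mul]; exact h4
    rcases Nat.even_or_odd' i with ⟨j, hj | hj⟩
    · exfalso; apply hc1
      rw [← hi, hj, pow_mul, h2, one_pow]
    · rw [← hi, hj, pow_succ, pow_mul, h2, one_pow, one_mul]
  refine ⟨hox, hoy, by rw [← hcx2, hcy2], ?_⟩
  -- `y x y⁻¹ = x⁻¹`
  have h1 : x * y * x⁻¹ * y⁻¹ = x ^ 2 := by rw [← hcx2]
  have h2 : y * x⁻¹ * y⁻¹ = x := by
    have : y * x⁻¹ * y⁻¹ = x⁻¹ * (x * y * x⁻¹ * y⁻¹) := by group
    rw [this, h1]; group
  have h3 : y * x * y⁻¹ = (y * x⁻¹ * y⁻¹)⁻¹ := by group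
  rw [h3, h2]

end key

theorem exists_quaternion_pair {H : Type*} [Group H] [Finite H]
    (hn : ∀ g z : H, g * z * g⁻¹ ∈ Subgroup.zpowers z)
    (hna : ∃ x y : H, x * y ≠ y * x) :
    ∃ x y : H, orderOf x = 4 ∧ orderOf y = 4 ∧ x ^ 2 = y ^ 2 ∧ y * x * y⁻¹ = x⁻¹ := by
  classical
  have hex : ∃ n : ℕ, ∃ x y : H, x * y ≠ y * x ∧ orderOf x + orderOf y = n := by
    obtain ⟨x, y, h⟩ := hna
    exact ⟨_, x, y, h, rfl⟩
  obtain ⟨x, y, hxy, hsum⟩ := Nat.find_spec hex
  have hmin : ∀ x' y' : H, x' * y' ≠ y' * x' →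
      orderOf x + orderOf y ≤ orderOf x' + orderOf y' := by
    intro x' y' h
    rw [hsum]
    exact Nat.find_min' hex ⟨x', y', h, rfl⟩
  rcases le_total (orderOf y) (orderOf x) with hle | hle
  · exact ⟨x, y, dedekind_min_pair hn x y hxy hmin hle⟩
  · refine ⟨y, x, dedekind_min_pair hn y x (fun h => hxy h.symm) ?_ hle⟩
    intro x' y' h
    rw [add_comm]
    exact hmin x' y' h

section main

variable {G : Type*} [Group G] [Finite G]

theorem zpowers_four_cases {w z : G} (hw : w ^ 4 = 1) (hz : z ∈ Subgroup.zpowers w) :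
    z = 1 ∨ z = w ∨ z = w ^ 2 ∨ z = w ^ 3 := by
  rw [← mem_powers_iff_mem_zpowers] at hz
  obtain ⟨i, rfl⟩ := hz
  change w ^ i = 1 ∨ w ^ i = w ∨ w ^ i = w ^ 2 ∨ w ^ i = w ^ 3
  have h : w ^ i = w ^ (i % 4) := by
    conv_lhs => rw [← Nat.mod_add_div i 4, pow_add, pow_mul, hw, one_pow, mul_one]
  rw [h]
  have : i % 4 < 4 := Nat.mod_lt _ (by norm_num)
  interval_cases (i % 4) <;> simp

theorem conj_eq_or (hn : ∀ g z : G, g * z * g⁻¹ ∈ Subgroup.zpowers z) {x : G}
    (hx : orderOf x = 4) (g : G) : g * x * g⁻¹ = x ∨ g * x * g⁻¹ = x⁻¹ := by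
  have hx4 : x ^ 4 = 1 := by rw [← hx]; exact pow_orderOf_eq_one x
  have hx2 : x ^ 2 ≠ 1 := by
    intro h
    have := orderOf_dvd_of_pow_eq_one h
    rw [hx] at this
    omega
  rcases zpowers_four_cases hx4 (hn g x) with h | h | h | h
  · exfalso
    have : x = 1 := by
      have : x = g⁻¹ * (g * x * g⁻¹) * g := by group
      rw [this, h]; group
    rw [this] at hx2; simp at hx2
  · exact Or.inl h
  · exfalso
    apply hx2
    have h1 : (g * x * g⁻¹) ^ 2 = 1 := by rw [h, ← pow_mul]; exact hx4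
    have h2 : (g * x * g⁻¹) ^ 2 = g * x ^ 2 * g⁻¹ := conj_pow
    rw [h2] at h1
    have : x ^ 2 = g⁻¹ * (g * x ^ 2 * g⁻¹) * g := by group
    rw [this, h1]; group
  · right
    rw [h]
    have : x ^ 3 * x = 1 := by rw [← pow_succ]; exact hx4
    exact eq_inv_of_mul_eq_one_left this

/-- The subgroup of `n`-torsion elements of a subgroup with pairwise commuting elements. -/
def torsionIn (C : Subgroup G) (hC : ∀ u ∈ C, ∀ v ∈ C, u * v = v * u) (n : ℕ) : Subgroup G where
  carrier := {g | g ∈ C ∧ g ^ n = 1}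
  mul_mem' := by
    rintro a b ⟨ha, ha'⟩ ⟨hb, hb'⟩
    refine ⟨mul_mem ha hb, ?_⟩
    have : Commute a b := hC a ha b hb
    rw [this.mul_pow, ha', hb', one_mul]
  one_mem' := ⟨one_mem _, one_pow _⟩
  inv_mem' := by
    rintro a ⟨ha, ha'⟩
    exact ⟨inv_mem ha, by rw [inv_pow, ha', inv_one]⟩

omit [Finite G] in
theorem mem_torsionIn {C : Subgroup G} {hC : ∀ u ∈ C, ∀ v ∈ C, u * v = v * u} {n : ℕ} {g : G} :
    g ∈ torsionIn C hC n ↔ g ∈ C ∧ g ^ n = 1 := Iff.rfl

theorem q8_invol : ∀ q : QuaternionGroup 2, q ^ 2 = 1 → q = 1 ∨ q = QuaternionGroup.a 2 := by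
  decide

/-- Data of a quaternion pair. -/
structure QPair (x y : G) : Prop where
  hox : orderOf x = 4
  hoy : orderOf y = 4
  h2 : x ^ 2 = y ^ 2
  hyx : y * x * y⁻¹ = x⁻¹

namespace QPair

variable {x y : G} (h : QPair x y)
include h

omit [Finite G] in
theorem x4 : x ^ 4 = 1 := by rw [← h.hox]; exact pow_orderOf_eq_one x

omit [Finite G] in
theorem y4 : y ^ 4 = 1 := by rw [← h.hoy]; exact pow_orderOf_eq_one y

omit [Finite G] in
theorem x2_ne : x ^ 2 ≠ 1 := by
  intro h'
  have := orderOf_dvd_of_pow_eq_one h'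
  rw [h.hox] at this
  omega

omit [Finite G] in
theorem y2_ne : y ^ 2 ≠ 1 := by
  rw [← h.h2]; exact h.x2_ne

omit [Finite G] in
theorem xy : x * y * x⁻¹ = y⁻¹ := by
  have h1 : y * x = x⁻¹ * y := by
    have : y * x = (y * x * y⁻¹) * y := by group
    rw [this, h.hyx]
  have h2 : x * y * x = y := by
    rw [mul_assoc, h1]; group
  have h3 : x * y * x⁻¹ = (x * y * x) * (x ^ 2)⁻¹ := by group
  rw [h3, h2, h.h2]; group

omit [Finite G] in
theorem ncomm : x * y ≠ y * x := by
  intro h'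
  have h1 : y * x * y⁻¹ = x := by rw [← h']; group
  rw [h.hyx] at h1
  apply h.x2_ne
  rw [pow_two]
  nth_rewrite 2 [← h1]
  exact mul_inv_cancel x

omit [Finite G] h in
theorem mem_centralizer_iff {g : G} :
    g ∈ Subgroup.centralizer ({x, y} : Set G) ↔ x * g = g * x ∧ y * g = g * y := by
  simp [Subgroup.mem_centralizer_iff]

/-- `G = Q C`. -/
theorem exists_mul (hn : ∀ g z : G, g * z * g⁻¹ ∈ Subgroup.zpowers z) (g : G) :
    ∃ q ∈ Subgroup.zpowers y ⊔ Subgroup.zpowers x,
      ∃ c ∈ Subgroup.centralizer ({x, y} : Set G), g = q * c := by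
  have hxQ : x ∈ Subgroup.zpowers y ⊔ Subgroup.zpowers x :=
    Subgroup.mem_sup_right (Subgroup.mem_zpowers x)
  have hyQ : y ∈ Subgroup.zpowers y ⊔ Subgroup.zpowers x :=
    Subgroup.mem_sup_left (Subgroup.mem_zpowers y)
  -- first fix `x`
  obtain ⟨q1, hq1, hq1x⟩ : ∃ q1 ∈ Subgroup.zpowers y ⊔ Subgroup.zpowers x,
      (q1⁻¹ * g) * x * (q1⁻¹ * g)⁻¹ = x := by
    rcases conj_eq_or hn h.hox g with h' | h'
    · exact ⟨1, one_mem _, by simpa using h'⟩
    · refine ⟨y, hyQ, ?_⟩
      have : (y⁻¹ * g) * x * (y⁻¹ * g)⁻¹ = y⁻¹ * (g * x * g⁻¹) * y := by group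
      rw [this, h', ← h.hyx]; group
  rcases conj_eq_or hn h.hoy (q1⁻¹ * g) with h' | h'
  · refine ⟨q1, hq1, q1⁻¹ * g, ?_, by group⟩
    rw [QPair.mem_centralizer_iff]
    constructor
    · have := hq1x
      rw [mul_inv_eq_iff_eq_mul] at this
      exact this.symm
    · have := h'
      rw [mul_inv_eq_iff_eq_mul] at this
      exact this.symm
  · refine ⟨q1 * x, mul_mem hq1 hxQ, x⁻¹ * (q1⁻¹ * g), ?_, by group⟩
    rw [QPair.mem_centralizer_iff]
    constructor
    · have h1 : (x⁻¹ * (q1⁻¹ * g)) * x * (x⁻¹ * (q1⁻¹ * g))⁻¹ = x := by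
        have : (x⁻¹ * (q1⁻¹ * g)) * x * (x⁻¹ * (q1⁻¹ * g))⁻¹
            = x⁻¹ * ((q1⁻¹ * g) * x * (q1⁻¹ * g)⁻¹) * x := by group
        rw [this, hq1x]; group
      rw [mul_inv_eq_iff_eq_mul] at h1
      exact h1.symm
    · have h1 : (x⁻¹ * (q1⁻¹ * g)) * y * (x⁻¹ * (q1⁻¹ * g))⁻¹ = y := by
        have : (x⁻¹ * (q1⁻¹ * g)) * y * (x⁻¹ * (q1⁻¹ * g))⁻¹
            = x⁻¹ * ((q1⁻¹ * g) * y * (q1⁻¹ * g)⁻¹) * x := by group
        rw [this, h', ← h.xy]; group
      rw [mul_inv_eq_iff_eq_mul] at h1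
      exact h1.symm

/-- The centralizer of `Q` has no element of order `4`. -/
theorem no_order_four (hn : ∀ g z : G, g * z * g⁻¹ ∈ Subgroup.zpowers z) {g : G}
    (hg : g ∈ Subgroup.centralizer ({x, y} : Set G)) : orderOf g ≠ 4 := by
  intro hog
  rw [QPair.mem_centralizer_iff] at hg
  obtain ⟨hgx, hgy⟩ := hg
  have hg4 : g ^ 4 = 1 := by rw [← hog]; exact pow_orderOf_eq_one g
  have hg2 : g ^ 2 ≠ 1 := by
    intro h'
    have := orderOf_dvd_of_pow_eq_one h'
    rw [hog] at this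
    omega
  have hcomm : Commute g y := hgy.symm
  have hw4 : (g * y) ^ 4 = 1 := by rw [hcomm.mul_pow, hg4, h.y4, one_mul]
  have hconj : x * (g * y) * x⁻¹ = g * y⁻¹ := by
    have : x * (g * y) * x⁻¹ = (x * g) * y * x⁻¹ := by group
    rw [this, hgx, ← h.xy]; group
  have hmem := hn x (g * y)
  rw [hconj] at hmem
  have hy3 : y ^ 3 = y⁻¹ := by
    have : y ^ 3 * y = 1 := by rw [← pow_succ]; exact h.y4
    exact eq_inv_of_mul_eq_one_left this
  rcases zpowers_four_cases hw4 hmem with h' | h' | h' | h'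
  · -- `g = y`
    have : g = y := by rw [mul_inv_eq_one] at h'; exact h'
    rw [this] at hgx
    exact h.ncomm hgx
  · -- `y⁻¹ = y`
    have h1 : y⁻¹ = y := mul_left_cancel h'
    apply h.y2_ne
    rw [pow_two]
    nth_rewrite 1 [← h1]
    exact inv_mul_cancel y
  · -- `g = y`
    rw [hcomm.mul_pow] at h'
    have h1 : g = y⁻¹ * (y ^ 2)⁻¹ := by
      calc g = g⁻¹ * (g ^ 2 * y ^ 2) * (y ^ 2)⁻¹ := by group
        _ = g⁻¹ * (g * y⁻¹) * (y ^ 2)⁻¹ := by rw [h']
        _ = y⁻¹ * (y ^ 2)⁻¹ := by group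
    have h2 : y⁻¹ * (y ^ 2)⁻¹ = y := by
      have : y⁻¹ * (y ^ 2)⁻¹ = (y ^ 3)⁻¹ := by group
      rw [this, hy3, inv_inv]
    rw [h2] at h1
    rw [h1] at hgx
    exact h.ncomm hgx
  · -- `g² = 1`
    rw [hcomm.mul_pow, hy3] at h'
    apply hg2
    calc g ^ 2 = g⁻¹ * (g ^ 3 * y⁻¹) * y := by group
      _ = g⁻¹ * (g * y⁻¹) * y := by rw [h']
      _ = 1 := by group

/-- The centralizer of `Q` is abelian. -/
theorem centralizer_comm (hn : ∀ g z : G, g * z * g⁻¹ ∈ Subgroup.zpowers z) :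
    ∀ u ∈ Subgroup.centralizer ({x, y} : Set G), ∀ v ∈ Subgroup.centralizer ({x, y} : Set G),
      u * v = v * u := by
  by_contra hcon
  push Not at hcon
  obtain ⟨u, hu, v, hv, huv⟩ := hcon
  have hnC : ∀ g z : ↥(Subgroup.centralizer ({x, y} : Set G)),
      g * z * g⁻¹ ∈ Subgroup.zpowers z := by
    intro g z
    obtain ⟨i, hi⟩ := Subgroup.mem_zpowers_iff.mp (hn (g : G) (z : G))
    refine Subgroup.mem_zpowers_iff.mpr ⟨i, Subtype.ext ?_⟩
    simp [hi]
  obtain ⟨x', -, hx', -⟩ := exists_quaternion_pair hnC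
    ⟨⟨u, hu⟩, ⟨v, hv⟩, fun h' => huv (congrArg Subtype.val h')⟩
  refine h.no_order_four hn x'.2 ?_
  rw [Subgroup.orderOf_coe]
  exact hx'

end QPair

end main

/-- A finite non-abelian group in which every subgroup is normal is the internal direct product of a subgroup isomorphic to the quaternion group of order `8`, an elementary abelian `2`-subgroup and an abelian subgroup of odd order. -/
theorem result {G : Type*} [Group G] [Finite G] (hna : ¬ IsMulCommutative G) (hn : ∀ H : Subgroup G, H.Normal) : ∃ Q E A : Subgroup G, Nonempty (Q ≃* QuaternionGroup 2) ∧ Cfsg.IsElementaryAbelian 2 E ∧ IsMulCommutative A ∧ Odd (Nat.card A) ∧ E ⊓ A = ⊥ ∧ Q ⊓ (E ⊔ A) = ⊥ ∧ Q ⊔ (E ⊔ A) = ⊤ := by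
  classical
  have hn' : ∀ g z : G, g * z * g⁻¹ ∈ Subgroup.zpowers z := fun g z =>
    (hn (Subgroup.zpowers z)).conj_mem z (Subgroup.mem_zpowers z) g
  have hna' : ∃ x y : G, x * y ≠ y * x := by
    by_contra h
    push Not at h
    exact hna ⟨⟨h⟩⟩
  obtain ⟨x, y, hox, hoy, hx2y2, hyx⟩ := exists_quaternion_pair hn' hna'
  have hq : QPair x y := ⟨hox, hoy, hx2y2, hyx⟩
  set Q : Subgroup G := Subgroup.zpowers y ⊔ Subgroup.zpowers x with hQ
  set C : Subgroup G := Subgroup.centralizer ({x, y} : Set G) with hCdef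
  have hC : ∀ u ∈ C, ∀ v ∈ C, u * v = v * u := hq.centralizer_comm hn'
  obtain ⟨c, hc⟩ : ∃ c : G, c = x ^ 2 := ⟨_, rfl⟩
  have hc1 : c ≠ 1 := by rw [hc]; exact hq.x2_ne
  have hcc : c * c = 1 := by rw [hc, ← pow_add]; exact hq.x4
  have hxQ : x ∈ Q := Subgroup.mem_sup_right (Subgroup.mem_zpowers x)
  have hyQ : y ∈ Q := Subgroup.mem_sup_left (Subgroup.mem_zpowers y)
  have hcQ : c ∈ Q := by rw [hc]; exact pow_mem hxQ 2
  have hcC : c ∈ C := by
    rw [hCdef, QPair.mem_centralizer_iff]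
    constructor
    · rw [hc, ← pow_succ', ← pow_succ]
    · rw [hc, hx2y2, ← pow_succ', ← pow_succ]
  -- numbers
  set m : ℕ := ordCompl[2] (Nat.card G) with hm
  set e : ℕ := (Nat.card G).factorization 2 with he
  have hcard : 2 ^ e * m = Nat.card G := Nat.ordProj_mul_ordCompl_eq_self _ _
  have hm2 : ¬ 2 ∣ m := Nat.not_dvd_ordCompl Nat.prime_two Nat.card_pos.ne'
  obtain ⟨k, hk⟩ : ∃ k, m = 2 * k + 1 := by
    have : Odd m := Nat.odd_iff.mpr (by omega)
    exact this
  -- every element of `C` has order dividing `2 m`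
  have hK : ∀ g ∈ C, g ^ (2 * m) = 1 := by
    intro g hg
    have h1 : (g ^ m) ^ (2 ^ e) = 1 := by
      rw [← pow_mul, mul_comm, hcard]; exact pow_card_eq_one'
    obtain ⟨j, -, hj⟩ := (Nat.dvd_prime_pow Nat.prime_two).mp (orderOf_dvd_of_pow_eq_one h1)
    have hj1 : j ≤ 1 := by
      by_contra hj2
      push Not at hj2
      have h4 : orderOf ((g ^ m) ^ (2 ^ (j - 2))) = 4 := by
        rw [orderOf_pow_of_dvd (pow_ne_zero _ two_ne_zero)
          (by rw [hj]; exact pow_dvd_pow 2 (by omega)), hj, Nat.pow_div (by omega) (by norm_num)]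
        have : j - (j - 2) = 2 := by omega
        rw [this]
      exact hq.no_order_four hn' (pow_mem (pow_mem hg m) _) h4
    have h2 : (g ^ m) ^ 2 = 1 := by
      rw [← orderOf_dvd_iff_pow_eq_one, hj]
      interval_cases j <;> norm_num
    rw [mul_comm, pow_mul]; exact h2
  set A : Subgroup G := torsionIn C hC m with hA
  set T : Subgroup G := torsionIn C hC 2 with hT
  have hcT : c ∈ T := ⟨hcC, by rw [hc, ← pow_mul]; exact hq.x4⟩
  -- choose `E`
  obtain ⟨E, -, hE⟩ := Finite.exists_le_maximal (α := Subgroup G)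
    (p := fun S => S ≤ T ∧ c ∉ S) (a := ⊥) ⟨bot_le, by rw [Subgroup.mem_bot]; exact hc1⟩
  obtain ⟨⟨hET, hcE⟩, hEmax⟩ := hE
  have hE_or : ∀ t ∈ T, t ∈ E ∨ c * t ∈ E := by
    intro t ht
    by_contra hcon
    push Not at hcon
    obtain ⟨htE, hctE⟩ := hcon
    have ht2 : t ^ 2 = 1 := (mem_torsionIn.mp ht).2
    have hE'T : E ⊔ Subgroup.zpowers t ≤ T :=
      sup_le hET (by rw [Subgroup.zpowers_le]; exact ht)
    have hcE' : c ∈ E ⊔ Subgroup.zpowers t := by
      by_contra hcE'
      have := hEmax ⟨hE'T, hcE'⟩ le_sup_left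
      exact htE (this (Subgroup.mem_sup_right (Subgroup.mem_zpowers t)))
    rw [Subgroup.mem_sup_of_normal_right (ht := hn _)] at hcE'
    obtain ⟨a, ha, b, hb, hab⟩ := hcE'
    have ht4 : t ^ 4 = 1 := by
      have : t ^ 4 = (t ^ 2) ^ 2 := by rw [← pow_mul]
      rw [this, ht2, one_pow]
    have ht3 : t ^ 3 = t := by rw [pow_succ, ht2, one_mul]
    have hb' : b = 1 ∨ b = t := by
      rcases zpowers_four_cases ht4 hb with h | h | h | h
      · exact Or.inl h
      · exact Or.inr h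
      · exact Or.inl (h.trans ht2)
      · exact Or.inr (h.trans ht3)
    rcases hb' with hb1 | hbt
    · rw [hb1, mul_one] at hab; rw [← hab] at hcE; exact hcE ha
    · apply hctE
      rw [← hab, hbt, mul_assoc, ← pow_two, ht2, mul_one]
      exact ha
  have hEel : Cfsg.IsElementaryAbelian 2 E :=
    ⟨⟨⟨fun a b => Subtype.ext (hC a (hET a.2).1 b (hET b.2).1)⟩⟩, fun a ha => (hET ha).2⟩
  have hAcomm : IsMulCommutative A :=
    ⟨⟨fun a b => Subtype.ext (hC a a.2.1 b b.2.1)⟩⟩
  have hAodd : Odd (Nat.card A) := by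
    by_contra hcon
    rw [Nat.not_odd_iff_even] at hcon
    have h2 : 2 ∣ Nat.card A := hcon.two_dvd
    have _ : Fact (Nat.Prime 2) := ⟨Nat.prime_two⟩
    obtain ⟨a, ha⟩ := exists_prime_orderOf_dvd_card' 2 h2
    have h1 : (a : G) ^ m = 1 := a.2.2
    have h3 : orderOf (a : G) ∣ m := orderOf_dvd_of_pow_eq_one h1
    rw [Subgroup.orderOf_coe, ha] at h3
    exact hm2 h3
  have hEA : E ⊓ A = ⊥ := by
    rw [eq_bot_iff]
    rintro g ⟨hgE, hgA⟩
    rw [Subgroup.mem_bot]
    have h2 : g ^ 2 = 1 := (hET hgE).2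
    have h3 : g ^ m = 1 := (mem_torsionIn.mp hgA).2
    rw [hk, pow_succ, pow_mul, h2, one_pow, one_mul] at h3
    exact h3
  have hQiso : Nonempty (Q ≃* QuaternionGroup 2) := by
    let α : Q := ⟨x, hxQ⟩
    let β : Q := ⟨y, hyQ⟩
    have hmemz : ∀ q : Q, (q : G) ∈ Subgroup.zpowers x → q ∈ Subgroup.zpowers α := by
      intro q hq'
      obtain ⟨i, hi⟩ := Subgroup.mem_zpowers_iff.mp hq'
      exact Subgroup.mem_zpowers_iff.mpr ⟨i, Subtype.ext (by simp [α, hi])⟩
    have hmemz' : ∀ q : Q, q ∈ Subgroup.zpowers α → (q : G) ∈ Subgroup.zpowers x := by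
      intro q hq'
      obtain ⟨i, hi⟩ := Subgroup.mem_zpowers_iff.mp hq'
      exact Subgroup.mem_zpowers_iff.mpr ⟨i, by rw [← hi]; simp [α]⟩
    refine Cfsg.Agent.Lib.Helper35.nonempty_mulEquiv_quaternionGroup 2 α β ?_ ?_ ?_ ?_ ?_
    · rw [← Subgroup.orderOf_coe]; exact hox
    · apply Subtype.ext
      simp only [Subgroup.coe_mul, Subgroup.coe_pow, α, β]
      rw [hx2y2, pow_two]
    · apply Subtype.ext
      simp only [Subgroup.coe_mul, Subgroup.coe_inv, α, β]
      exact hyx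
    · intro hβ
      have h1 : y ∈ Subgroup.zpowers x := hmemz' β hβ
      obtain ⟨i, hi⟩ := Subgroup.mem_zpowers_iff.mp h1
      apply hq.ncomm
      rw [← hi]
      exact ((Commute.refl x).zpow_right i).eq
    · intro q
      have hqQ : (q : G) ∈ Subgroup.zpowers y ⊔ Subgroup.zpowers x := q.2
      rw [Subgroup.mem_sup_of_normal_right (ht := hn _)] at hqQ
      obtain ⟨a, ha, b, hb, hab⟩ := hqQ
      have hx2z : x ^ 2 ∈ Subgroup.zpowers x := pow_mem (Subgroup.mem_zpowers x) 2
      rcases zpowers_four_cases hq.y4 ha with h | h | h | h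
      · left; apply hmemz; rw [← hab, h, one_mul]; exact hb
      · right; apply hmemz
        simp only [Subgroup.coe_mul, Subgroup.coe_inv, β]
        rw [← hab, h, inv_mul_cancel_left]; exact hb
      · left; apply hmemz; rw [← hab, h, ← hx2y2]; exact mul_mem hx2z hb
      · right; apply hmemz
        simp only [Subgroup.coe_mul, Subgroup.coe_inv, β]
        rw [← hab, h]
        have : y⁻¹ * (y ^ 3 * b) = x ^ 2 * b := by rw [hx2y2]; group
        rw [this]; exact mul_mem hx2z hb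
  obtain ⟨φ⟩ := hQiso
  have hcardQ : Nat.card Q = 8 := by
    rw [Nat.card_congr φ.toEquiv, Nat.card_eq_fintype_card, QuaternionGroup.card]
  have hinvol : ∀ g ∈ Q, g ^ 2 = 1 → g = 1 ∨ g = c := by
    intro g hg hg2
    have key : ∀ q : Q, q ^ 2 = 1 → φ q = 1 ∨ φ q = QuaternionGroup.a 2 := by
      intro q hq2
      apply q8_invol
      rw [← map_pow, hq2, map_one]
    have hcφ : φ ⟨c, hcQ⟩ = QuaternionGroup.a 2 := by
      rcases key ⟨c, hcQ⟩ (Subtype.ext (by simp [pow_two, hcc])) with h | h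
      · exfalso; apply hc1
        have := φ.injective (h.trans (map_one φ).symm)
        exact congrArg Subtype.val this
      · exact h
    rcases key ⟨g, hg⟩ (Subtype.ext (by simpa using hg2)) with h | h
    · left
      have := φ.injective (h.trans (map_one φ).symm)
      exact congrArg Subtype.val this
    · right
      have := φ.injective (h.trans hcφ.symm)
      exact congrArg Subtype.val this
  have hQEA : Q ⊓ (E ⊔ A) = ⊥ := by
    rw [eq_bot_iff]
    rintro g ⟨hgQ, hgEA⟩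
    rw [Subgroup.mem_bot]
    have hgEA : g ∈ E ⊔ A := hgEA
    rw [Subgroup.mem_sup_of_normal_right (ht := hn _)] at hgEA
    obtain ⟨a, ha, b, hb, hab⟩ := hgEA
    have ha2 : a ^ 2 = 1 := (hET ha).2
    have haC : a ∈ C := (hET ha).1
    have hbC : b ∈ C := hb.1
    have hbm : b ^ m = 1 := hb.2
    have hcomm : Commute a b := hC a haC b hbC
    have hg8 : g ^ 8 = 1 := by
      have := pow_card_eq_one' (x := (⟨g, hgQ⟩ : Q))
      rw [hcardQ] at this
      have := congrArg Subtype.val this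
      simpa using this
    have hb8 : b ^ 8 = 1 := by
      rw [← hab, hcomm.mul_pow] at hg8
      have : a ^ 8 = 1 := by
        have : a ^ 8 = (a ^ 2) ^ 4 := by rw [← pow_mul]
        rw [this, ha2, one_pow]
      rwa [this, one_mul] at hg8
    have hb1 : b = 1 := by
      have h1 : orderOf b ∣ 8 := orderOf_dvd_of_pow_eq_one hb8
      have h2 : orderOf b ∣ m := orderOf_dvd_of_pow_eq_one hbm
      have hcop : Nat.Coprime 8 m := by
        have : Nat.Coprime 2 m := (Nat.Prime.coprime_iff_not_dvd Nat.prime_two).mpr hm2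
        exact Nat.Coprime.pow_left 3 this
      have := Nat.eq_one_of_dvd_coprimes hcop h1 h2
      exact orderOf_eq_one_iff.mp this
    rw [hb1, mul_one] at hab
    rw [← hab]
    rcases hinvol a (hab ▸ hgQ) ha2 with h | h
    · exact h
    · exfalso; rw [h] at ha; exact hcE ha
  have htop : Q ⊔ (E ⊔ A) = ⊤ := by
    rw [eq_top_iff]
    intro g _
    obtain ⟨q, hqQ, h', hh'C, rfl⟩ := hq.exists_mul hn' g
    have h2m : h' ^ (2 * m) = 1 := hK h' hh'C
    have htT : h' ^ m ∈ T := ⟨pow_mem hh'C m, by rw [← pow_mul, mul_comm]; exact h2m⟩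
    have haA : h' ^ (m + 1) ∈ A := by
      refine ⟨pow_mem hh'C _, ?_⟩
      rw [← pow_mul]
      have : (m + 1) * m = (2 * m) * (k + 1) := by rw [hk]; ring
      rw [this, pow_mul, h2m, one_pow]
    have hdec : h' ^ m * h' ^ (m + 1) = h' := by
      rw [← pow_add]
      have : m + (m + 1) = 2 * m + 1 := by ring
      rw [this, pow_succ, h2m, one_mul]
    rcases hE_or _ htT with ht | ht
    · have : q * h' = q * (h' ^ m * h' ^ (m + 1)) := by rw [hdec]
      rw [this]
      exact mul_mem (Subgroup.mem_sup_left hqQ)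
        (Subgroup.mem_sup_right (mul_mem (Subgroup.mem_sup_left ht) (Subgroup.mem_sup_right haA)))
    · have : q * h' = (q * c) * ((c * h' ^ m) * h' ^ (m + 1)) := by
        have h1 : (q * c) * ((c * h' ^ m) * h' ^ (m + 1))
            = q * (c * c) * (h' ^ m * h' ^ (m + 1)) := by group
        rw [h1, hcc, mul_one, hdec]
      rw [this]
      exact mul_mem (Subgroup.mem_sup_left (mul_mem hqQ hcQ))
        (Subgroup.mem_sup_right (mul_mem (Subgroup.mem_sup_left ht) (Subgroup.mem_sup_right haA)))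
  exact ⟨Q, E, A, ⟨φ⟩, hEel, hAcomm, hAodd, hEA, hQEA, htop⟩

end Cfsg.Agent.S4211
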