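import Cfsg.Statements.S4214
import Cfsg.Agent.Lib.Helper1.SystemNormalizer
import Cfsg.Agent.Lib.Helper1.MinimalNormal
import Cfsg.Agent.Lib.Helper96.Schmidt
import Cfsg.Agent.Lib.Helper71.SylowNumber
-- import your own Cfsg.Agent.* helpers here

set_option autoImplicit false
open Cfsg

namespace Cfsg.Agent.S4214

open scoped Pointwise

universe u

/-- An admissible factor. -/
def Atom (G : Type u) [Group G] (m x : ℕ) : Prop :=
  (∃ q e : ℕ, q.Prime ∧ x = q ^ e) ∧
  (∃ K L : Subgroup G, K.Normal ∧ L.Normal ∧ K < L ∧
    (∀ M : Subgroup G, M.Normal → K ≤ M → M ≤ L → M = K ∨ M = L) ∧ x ∣ K.relIndex L) ∧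
  (∃ q : ℕ, q.Prime ∧ q ∣ m ∧ x ≡ 1 [MOD q])

/-- A product of admissible factors. -/
def GoodNum (G : Type u) [Group G] (m t : ℕ) : Prop :=
  ∃ l : List ℕ, l.prod = t ∧ ∀ x ∈ l, Atom G m x

theorem goodNum_one {G : Type u} [Group G] (m : ℕ) : GoodNum G m 1 :=
  ⟨[], rfl, by simp⟩

theorem GoodNum.mul {G : Type u} [Group G] {m a b : ℕ} (h1 : GoodNum G m a)
    (h2 : GoodNum G m b) : GoodNum G m (a * b) := by
  obtain ⟨l1, hl1, h1⟩ := h1
  obtain ⟨l2, hl2, h2⟩ := h2
  refine ⟨l1 ++ l2, by rw [List.prod_append, hl1, hl2], ?_⟩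
  intro x hx
  rcases List.mem_append.mp hx with h | h
  · exact h1 x h
  · exact h2 x h

/-- Admissible factors of a quotient are admissible for the group. -/
theorem Atom.lift {G : Type u} [Group G] (N : Subgroup G) [N.Normal] {m' m x : ℕ}
    (hm : m' ∣ m) (h : Atom (G ⧸ N) m' x) : Atom G m x := by
  obtain ⟨hpp, ⟨K, L, hK, hL, hKL, hmin, hdvd⟩, ⟨q, hq, hqm, hmod⟩⟩ := h
  have hsurj : Function.Surjective (QuotientGroup.mk' N) := QuotientGroup.mk'_surjective N
  refine ⟨hpp, ⟨K.comap (QuotientGroup.mk' N), L.comap (QuotientGroup.mk' N), hK.comap _,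
    hL.comap _, (Subgroup.comap_lt_comap_of_surjective hsurj).mpr hKL, ?_, ?_⟩,
    ⟨q, hq, hqm.trans hm, hmod⟩⟩
  · intro M hM hKM hML
    have hNM : (QuotientGroup.mk' N).ker ≤ M := by
      refine le_trans ?_ hKM
      intro x hx
      rw [Subgroup.mem_comap, MonoidHom.mem_ker.mp hx]
      exact one_mem _
    have h1 : K ≤ M.map (QuotientGroup.mk' N) := by
      have := Subgroup.map_mono (f := QuotientGroup.mk' N) hKM
      rwa [Subgroup.map_comap_eq_self_of_surjective hsurj] at this
    have h2 : M.map (QuotientGroup.mk' N) ≤ L := by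
      have := Subgroup.map_mono (f := QuotientGroup.mk' N) hML
      rwa [Subgroup.map_comap_eq_self_of_surjective hsurj] at this
    have hMn : (M.map (QuotientGroup.mk' N)).Normal := hM.map _ hsurj
    rcases hmin _ hMn h1 h2 with h | h
    · left; rw [← h, Subgroup.comap_map_eq_self hNM]
    · right; rw [← h, Subgroup.comap_map_eq_self hNM]
  · rw [Subgroup.relIndex_comap, Subgroup.map_comap_eq_self_of_surjective hsurj]
    exact hdvd

theorem GoodNum.lift {G : Type u} [Group G] (N : Subgroup G) [N.Normal] {m' m t : ℕ}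
    (hm : m' ∣ m) (h : GoodNum (G ⧸ N) m' t) : GoodNum G m t := by
  obtain ⟨l, hl, h⟩ := h
  exact ⟨l, hl, fun x hx => Atom.lift N hm (h x hx)⟩

section chain

variable {G : Type u} [Group G]

/-- Conjugation by an element normalising `A` preserves the centraliser of `A`. -/
theorem conj_mem_centralizer {A : Subgroup G} {g x : G}
    (hg : g ∈ Subgroup.normalizer (A : Set G)) (hx : x ∈ Subgroup.centralizer (A : Set G)) :
    g * x * g⁻¹ ∈ Subgroup.centralizer (A : Set G) := by
  rw [Subgroup.mem_centralizer_iff] at hx ⊢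
  intro a ha
  have ha' : g⁻¹ * a * g ∈ A := by
    have := (Subgroup.mem_normalizer_iff.mp (inv_mem hg) a).mp ha
    simpa using this
  have h1 := hx _ ha'
  calc a * (g * x * g⁻¹) = g * ((g⁻¹ * a * g) * x) * g⁻¹ := by group
    _ = g * (x * (g⁻¹ * a * g)) * g⁻¹ := by rw [h1]
    _ = g * x * g⁻¹ * a := by group

theorem le_normalizer_inf_centralizer (N : Subgroup G) [N.Normal] (A : Subgroup G) :
    Subgroup.normalizer (A : Set G) ≤
      Subgroup.normalizer ((N ⊓ Subgroup.centralizer (A : Set G) : Subgroup G) : Set G) := by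
  intro g hg
  rw [Subgroup.mem_normalizer_iff]
  intro x
  constructor
  · rintro ⟨hxN, hxC⟩
    exact ⟨Subgroup.Normal.conj_mem inferInstance x hxN g, conj_mem_centralizer hg hxC⟩
  · rintro ⟨hxN, hxC⟩
    have h1 := Subgroup.Normal.conj_mem (inferInstance : N.Normal) _ hxN g⁻¹
    have h2 := conj_mem_centralizer (inv_mem hg) hxC
    have e : g⁻¹ * (g * x * g⁻¹) * g⁻¹⁻¹ = x := by group
    rw [e] at h1 h2
    exact ⟨h1, h2⟩

theorem centralizer_sup (A B : Subgroup G) :
    Subgroup.centralizer ((A ⊔ B : Subgroup G) : Set G) =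
      Subgroup.centralizer (A : Set G) ⊓ Subgroup.centralizer (B : Set G) := by
  apply le_antisymm
  · exact le_inf (Subgroup.centralizer_le (le_sup_left : A ≤ A ⊔ B))
      (Subgroup.centralizer_le (le_sup_right : B ≤ A ⊔ B))
  · intro x hx
    have h1 : Subgroup.zpowers x ≤ Subgroup.centralizer (A : Set G) := by
      rw [Subgroup.zpowers_le]; exact hx.1
    have h2 : Subgroup.zpowers x ≤ Subgroup.centralizer (B : Set G) := by
      rw [Subgroup.zpowers_le]; exact hx.2
    have h3 : A ⊔ B ≤ Subgroup.centralizer ((Subgroup.zpowers x : Subgroup G) : Set G) :=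
      sup_le (Subgroup.le_centralizer_iff.mp h1) (Subgroup.le_centralizer_iff.mp h2)
    exact (Subgroup.le_centralizer_iff.mp h3) (Subgroup.mem_zpowers x)

variable [Finite G]

/-- Factorisation of `|N : C_N(H)|` along a normal series of the solvable group `H`. -/
theorem chain_factor (N : Subgroup G) [N.Normal] (r : ℕ) (hr : r.Prime) (hN : IsPGroup r N) :
    ∀ (c : ℕ) (H : Subgroup G), Nat.card H = c → Group.IsSolvable H → ¬ r ∣ Nat.card H →
      ∃ l : List ℕ,
        l.prod * Nat.card (N ⊓ Subgroup.centralizer (H : Set G) : Subgroup G) = Nat.card N ∧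
        ∀ x ∈ l, (∃ e : ℕ, x = r ^ e) ∧ ∃ q : ℕ, q.Prime ∧ q ∣ Nat.card H ∧ x ≡ 1 [MOD q] := by
  intro c
  induction c using Nat.strong_induction_on with
  | _ c ih =>
    intro H hc hsol hrH
    by_cases hH : H = ⊥
    · subst hH
      refine ⟨[], ?_, by simp⟩
      have : N ⊓ Subgroup.centralizer (((⊥ : Subgroup G)) : Set G) = N := by
        apply inf_of_le_left
        intro x _
        rw [Subgroup.mem_centralizer_iff]
        intro h hh
        rw [Subgroup.mem_bot.mp hh]; simp
      rw [this]; simp
    · have hnt : Nontrivial H := (Subgroup.nontrivial_iff_ne_bot H).mpr hH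
      obtain ⟨M, hMn, hMp⟩ := Cfsg.Agent.Lib.Helper96.exists_normal_prime_index (G := H)
      set q := M.index with hq
      have hqF : Fact q.Prime := ⟨hMp⟩
      set H₁ : Subgroup G := M.map H.subtype with hH₁
      have hH₁H : H₁ ≤ H := Subgroup.map_subtype_le M
      have hcardH₁ : Nat.card H₁ = Nat.card M :=
        Subgroup.card_map_of_injective (Subgroup.subtype_injective H)
      have hcardmul : Nat.card H₁ * q = Nat.card H := by
        rw [hcardH₁, hq]; exact M.card_mul_index
      have hHnorm : H ≤ Subgroup.normalizer (H₁ : Set G) := by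
        have h1 := Subgroup.le_normalizer_map (H := M) H.subtype
        rw [Subgroup.normalizer_eq_top, ← MonoidHom.range_eq_map, Subgroup.range_subtype] at h1
        exact h1
      have hsol₁ : Group.IsSolvable H₁ :=
        Cfsg.Agent.Lib.Helper1.isSolvable_subgroup_of_le hH₁H
      have hrH₁ : ¬ r ∣ Nat.card H₁ := fun h => hrH (h.trans (Subgroup.card_dvd_of_le hH₁H))
      have hlt : Nat.card H₁ < c := by
        rw [← hc, ← hcardmul]
        exact lt_mul_of_one_lt_right Nat.card_pos hMp.one_lt
      obtain ⟨l₁, hl₁, hl₁'⟩ := ih _ hlt H₁ rfl hsol₁ hrH₁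
      -- a Sylow `q`-subgroup of `H`
      obtain ⟨P⟩ : Nonempty (Sylow q H) := inferInstance
      set Q : Subgroup G := (P : Subgroup H).map H.subtype with hQ
      have hQq : IsPGroup q Q := P.2.map _
      have hQH : Q ≤ H := Subgroup.map_subtype_le _
      have hQcard : Nat.card Q = q ^ (Nat.card H).factorization q :=
        Cfsg.Agent.Lib.Helper54.card_map_sylow H P
      have hQH₁ : ¬ Q ≤ H₁ := by
        intro hle
        have h1 : q ^ (Nat.card H).factorization q ∣ Nat.card H₁ := by
          rw [← hQcard]; exact Subgroup.card_dvd_of_le hle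
        have h2 : q ^ ((Nat.card H).factorization q + 1) ∣ Nat.card H := by
          have h3 := Nat.mul_dvd_mul_right h1 q
          rw [hcardmul] at h3
          rwa [pow_succ]
        exact Nat.pow_succ_factorization_not_dvd Nat.card_pos.ne' hMp h2
      have hsup : H₁ ⊔ Q = H := by
        apply le_antisymm (sup_le hH₁H hQH)
        have hrel : H₁.relIndex H = q := by
          have h1 : Nat.card H₁ * H₁.relIndex H = Nat.card H :=
            Cfsg.Agent.Lib.Helper71.card_mul_relIndex_of_le hH₁H
          rw [← hcardmul] at h1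
          exact Nat.eq_of_mul_eq_mul_left Nat.card_pos h1
        have h2 := Subgroup.relIndex_mul_relIndex H₁ (H₁ ⊔ Q) H le_sup_left (sup_le hH₁H hQH)
        rw [hrel] at h2
        have h3 : H₁.relIndex (H₁ ⊔ Q) ∣ q := Dvd.intro _ h2
        rcases (Nat.dvd_prime hMp).mp h3 with h4 | h4
        · exfalso
          exact hQH₁ (le_sup_right.trans (Subgroup.relIndex_eq_one.mp h4))
        · rw [h4] at h2
          have h5 : (H₁ ⊔ Q).relIndex H = 1 := by
            have : q * (H₁ ⊔ Q).relIndex H = q * 1 := by rw [h2, mul_one]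
            exact Nat.eq_of_mul_eq_mul_left hMp.pos this
          exact Subgroup.relIndex_eq_one.mp h5
      -- the fixed point congruence
      set R : Subgroup G := N ⊓ Subgroup.centralizer (H₁ : Set G) with hR
      have hQR : Q ≤ Subgroup.normalizer (R : Set G) :=
        (hQH.trans hHnorm).trans (le_normalizer_inf_centralizer N H₁)
      have hmod := Cfsg.Agent.Lib.Helper71.card_modEq_card_inf_centralizer Q R hQq hQR
      have hRQ : R ⊓ Subgroup.centralizer (Q : Set G) =
          N ⊓ Subgroup.centralizer (H : Set G) := by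
        rw [hR, inf_assoc, ← centralizer_sup, hsup]
      rw [hRQ] at hmod
      -- orders
      have hle : N ⊓ Subgroup.centralizer (H : Set G) ≤ R :=
        inf_le_inf_left N (Subgroup.centralizer_le hH₁H)
      obtain ⟨k, hk⟩ := Subgroup.card_dvd_of_le hle
      have hrF : Fact r.Prime := ⟨hr⟩
      obtain ⟨a, ha⟩ := hN.exists_card_eq
      have hRdvd : Nat.card R ∣ r ^ a := by
        rw [← ha]; exact Subgroup.card_dvd_of_le inf_le_left
      have hkdvd : k ∣ r ^ a := (Dvd.intro_left _ hk.symm).trans hRdvd
      obtain ⟨e, -, he⟩ := (Nat.dvd_prime_pow hr).mp hkdvd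
      have hcdvd : Nat.card (N ⊓ Subgroup.centralizer (H : Set G) : Subgroup G) ∣ r ^ a :=
        (Dvd.intro _ hk.symm).trans hRdvd
      obtain ⟨e', -, he'⟩ := (Nat.dvd_prime_pow hr).mp hcdvd
      have hqr : q ≠ r := by
        intro h
        apply hrH
        rw [← h, ← hcardmul]
        exact Dvd.intro_left _ rfl
      have hcop : Nat.gcd q (Nat.card (N ⊓ Subgroup.centralizer (H : Set G) : Subgroup G)) = 1 := by
        rw [he']
        exact Nat.Coprime.pow_right _ ((Nat.coprime_primes hMp hr).mpr hqr)
      have hk1 : k ≡ 1 [MOD q] := by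
        apply Nat.ModEq.cancel_left_of_coprime hcop
        rw [mul_one, ← hk]
        exact hmod
      refine ⟨k :: l₁, ?_, ?_⟩
      · rw [List.prod_cons, ← hl₁, hk]; ring
      · intro x hx
        rcases List.mem_cons.mp hx with rfl | hx
        · exact ⟨⟨e, he⟩, q, hMp, Dvd.intro_left _ hcardmul, hk1⟩
        · obtain ⟨h1, q', hq', hq'd, hq'm⟩ := hl₁' x hx
          exact ⟨h1, q', hq', hq'd.trans (Subgroup.card_dvd_of_le hH₁H), hq'm⟩

end chain

/-- The main induction: `|G : N_G(H)|` is a product of admissible factors. -/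
theorem main_aux : ∀ (c : ℕ) (G : Type u) [Group G] [Finite G] [Group.IsSolvable G] (m n : ℕ),
    Nat.card G = c → c = m * n → m.Coprime n → ∀ H : Subgroup G, Nat.card H = m →
    GoodNum G m (Subgroup.normalizer (H : Set G)).index := by
  intro c
  induction c using Nat.strong_induction_on with
  | _ c ih =>
    intro G _ _ _ m n hGc hc hmn H hH
    have hG : Nat.card G = m * n := hGc.trans hc
    by_cases hnt : Nontrivial G
    · obtain ⟨r, N, hr, hNn, hN1, hNp, hNab, hNexp, hNmin⟩ :=
        Cfsg.Agent.Lib.Helper1.exists_normal_pSubgroup_of_isSolvable (G := G)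
      have hrF : Fact r.Prime := ⟨hr⟩
      obtain ⟨a, ha⟩ := hNp.exists_card_eq
      have ha0 : a ≠ 0 := by
        intro h0
        rw [h0, pow_zero] at ha
        exact hN1 (Subgroup.card_eq_one.mp ha)
      have hrN : r ∣ Nat.card N := by rw [ha]; exact dvd_pow_self r ha0
      have hrG : r ∣ m * n := by
        rw [← hG]; exact hrN.trans (Subgroup.card_subgroup_dvd_card N)
      have hsurj : Function.Surjective (QuotientGroup.mk' N) := QuotientGroup.mk'_surjective N
      have hquot : Nat.card N * Nat.card (G ⧸ N) = Nat.card G :=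
        Cfsg.Agent.Lib.Helper1.card_quotient_mul_card N
      have hlt : Nat.card (G ⧸ N) < c := by
        rw [← hGc]; exact Cfsg.Agent.Lib.Helper1.card_quotient_lt N hN1
      have hNpos : 0 < Nat.card N := Nat.card_pos
      have hindex : H.index = n := Cfsg.Agent.Lib.Helper1.index_eq_of_card_mul hG hH
      rcases (Nat.Prime.dvd_mul hr).mp hrG with hrm | hrn
      · -- `r ∣ m`: `N ≤ H`
        have hrn : ¬ r ∣ n := fun h => by
          have := Nat.dvd_gcd hrm h
          rw [hmn.gcd_eq_one] at this
          exact hr.one_lt.ne' (Nat.dvd_one.mp this)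
        have hNH : N ≤ H :=
          Cfsg.Agent.Lib.Helper1.normal_pSubgroup_le_of_not_dvd_index hNp (by rwa [hindex])
        have hcardH := Cfsg.Agent.Lib.Helper1.card_eq_card_mul_card_map_of_le hNH
        set Hbar := H.map (QuotientGroup.mk' N) with hHbar
        have hm' : Nat.card Hbar ∣ m := by rw [← hH, hcardH]; exact Dvd.intro_left _ rfl
        have hcardq : Nat.card (G ⧸ N) = Nat.card Hbar * n := by
          have h1 : Nat.card N * Nat.card (G ⧸ N) = Nat.card N * (Nat.card Hbar * n) := by
            rw [hquot, hG, ← hH, hcardH]; ring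
          exact Nat.eq_of_mul_eq_mul_left hNpos h1
        have hcop' : (Nat.card Hbar).Coprime n := Nat.Coprime.coprime_dvd_left hm' hmn
        have hIH := ih _ hlt (G ⧸ N) (Nat.card Hbar) n rfl hcardq hcop' Hbar rfl
        have hnorm : Subgroup.normalizer (H : Set G) =
            (Subgroup.normalizer (Hbar : Set (G ⧸ N))).comap (QuotientGroup.mk' N) := by
          rw [Subgroup.comap_normalizer_eq_of_surjective _ hsurj, hHbar,
            Subgroup.comap_map_eq, QuotientGroup.ker_mk', sup_of_le_left hNH]
        rw [hnorm, Subgroup.index_comap_of_surjective _ hsurj]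
        exact hIH.lift N hm'
      · -- `r ∣ n`
        have hrm : ¬ r ∣ m := fun h => by
          have := Nat.dvd_gcd h hrn
          rw [hmn.gcd_eq_one] at this
          exact hr.one_lt.ne' (Nat.dvd_one.mp this)
        have hcopN : (Nat.card N).Coprime m := by
          rw [ha]
          exact Nat.Coprime.pow_left a ((Nat.Prime.coprime_iff_not_dvd hr).mpr hrm)
        have hcopNH : (Nat.card N).Coprime (Nat.card H) := by rwa [hH]
        set Hbar := H.map (QuotientGroup.mk' N) with hHbar
        have hcardHbar : Nat.card Hbar = m := by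
          rw [hHbar, Cfsg.Agent.Lib.Helper1.card_map_mk'_of_coprime hcopNH, hH]
        have hNn' : Nat.card N ∣ n := by
          have h1 : Nat.card N ∣ m * n := by
            rw [← hG]; exact Subgroup.card_subgroup_dvd_card N
          exact hcopN.dvd_of_dvd_mul_left h1
        obtain ⟨n', hn'⟩ := hNn'
        have hcardq : Nat.card (G ⧸ N) = m * n' := by
          have h1 : Nat.card N * Nat.card (G ⧸ N) = Nat.card N * (m * n') := by
            rw [hquot, hG, hn']; ring
          exact Nat.eq_of_mul_eq_mul_left hNpos h1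
        have hcop' : m.Coprime n' :=
          Nat.Coprime.coprime_dvd_right (Dvd.intro_left _ hn'.symm) hmn
        have hIH := ih _ hlt (G ⧸ N) m n' rfl hcardq hcop' Hbar hcardHbar
        -- normalisers
        have hnorm : Subgroup.normalizer ((H ⊔ N : Subgroup G) : Set G) =
            (Subgroup.normalizer (Hbar : Set (G ⧸ N))).comap (QuotientGroup.mk' N) := by
          rw [Subgroup.comap_normalizer_eq_of_surjective _ hsurj, hHbar,
            Subgroup.comap_map_eq, QuotientGroup.ker_mk']
        have hrelN : H.relIndex (H ⊔ N) ∣ Nat.card N := by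
          rw [Cfsg.Agent.Lib.Helper1.relIndex_sup_of_normal]
          exact Subgroup.relIndex_dvd_card H N
        have hfrat := Cfsg.Agent.Lib.Helper1.normalizer_sup_normal_of_hall H N
          (Nat.Coprime.coprime_dvd_right hrelN hcopNH.symm)
        set A := Subgroup.normalizer (H : Set G) with hA
        have hidx : A.index = A.relIndex N * (Subgroup.normalizer (Hbar : Set (G ⧸ N))).index := by
          have h1 : A ≤ A ⊔ N := le_sup_left
          have h2 := Subgroup.relIndex_mul_index h1
          rw [Cfsg.Agent.Lib.Helper71.relIndex_sup_self_of_normal, ← hfrat, hnorm,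
            Subgroup.index_comap_of_surjective _ hsurj] at h2
          exact h2.symm
        -- the local factor
        have hdisj : N ⊓ H = ⊥ := (Subgroup.disjoint_of_coprime_natCard hcopNH).eq_bot
        have hHN : H ≤ Subgroup.normalizer (N : Set G) := by
          rw [Subgroup.normalizer_eq_top]; exact le_top
        have hAN : A ⊓ N = N ⊓ Subgroup.centralizer (H : Set G) := by
          apply le_antisymm
          · refine le_inf inf_le_right ?_
            rw [inf_comm]
            exact Cfsg.Agent.Lib.Helper54.inf_normalizer_le_centralizer hHN hdisj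
          · rw [inf_comm]
            exact inf_le_inf_right N (Subgroup.centralizer_le_normalizer _)
        have hsolH : Group.IsSolvable H := inferInstance
        obtain ⟨l, hl, hl'⟩ := chain_factor N r hr hNp m H hH hsolH (by rwa [hH])
        have hcardAN : Nat.card (A ⊓ N : Subgroup G) * A.relIndex N = Nat.card N := by
          have := Cfsg.Agent.Lib.Helper71.card_mul_relIndex_of_le (inf_le_right : A ⊓ N ≤ N)
          rwa [Subgroup.inf_relIndex_right] at this
        have hlprod : l.prod = A.relIndex N := by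
          rw [← hAN] at hl
          have h1 : Nat.card (A ⊓ N : Subgroup G) * l.prod =
              Nat.card (A ⊓ N : Subgroup G) * A.relIndex N := by
            rw [hcardAN, mul_comm, hl]
          exact Nat.eq_of_mul_eq_mul_left Nat.card_pos h1
        have hgood : GoodNum G m (A.relIndex N) := by
          refine ⟨l, hlprod, ?_⟩
          intro x hx
          obtain ⟨⟨e, he⟩, q, hq, hqd, hqm⟩ := hl' x hx
          refine ⟨⟨r, e, hr, he⟩, ⟨⊥, N, inferInstance, hNn, bot_lt_iff_ne_bot.mpr hN1, ?_, ?_⟩,
            ⟨q, hq, by rwa [hH] at hqd, hqm⟩⟩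
          · intro M hM _ hMN
            exact hNmin M hM hMN
          · rw [Subgroup.relIndex_bot_left]
            have h1 : x ∣ A.relIndex N := by rw [← hlprod]; exact List.dvd_prod hx
            exact h1.trans (Subgroup.relIndex_dvd_card A N)
        rw [hidx]
        exact hgood.mul (hIH.lift N dvd_rfl)
    · -- trivial group
      rw [not_nontrivial_iff_subsingleton] at hnt
      have : Subgroup.normalizer (H : Set G) = ⊤ := Subsingleton.elim _ _
      rw [this, Subgroup.index_top]
      exact goodNum_one m

/-- The number of Hall subgroups is the index of the normaliser of one of them. -/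
theorem card_hall_eq_index {G : Type u} [Group G] [Finite G] [Group.IsSolvable G] (m n : ℕ)
    (hG : Nat.card G = m * n) (hmn : m.Coprime n) (H : Subgroup G) (hH : Nat.card H = m) :
    Nat.card {K : Subgroup G // Nat.card K = m} = (Subgroup.normalizer (H : Set G)).index := by
  let _ : MulAction G (Subgroup G) :=
    MulAction.compHom (Subgroup G) (MulAut.conj : G →* MulAut G)
  have hsmul : ∀ (g : G) (K : Subgroup G), g • K = MulAut.conj g • K := fun _ _ => rfl
  have hstab : MulAction.stabilizer G H = Subgroup.normalizer (H : Set G) := by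
    ext g
    rw [MulAction.mem_stabilizer_iff, hsmul,
      Cfsg.Agent.Lib.Helper1.mem_normalizer_iff_conj_smul_eq]
  have horb : MulAction.orbit G H = {K : Subgroup G | Nat.card K = m} := by
    ext K
    constructor
    · rintro ⟨g, rfl⟩
      change Nat.card (MulAut.conj g • H : Subgroup G) = m
      have h2 : Nat.card (MulAut.conj g • H : Subgroup G) = Nat.card H :=
        Subgroup.card_map_of_injective (f := (MulAut.conj g).toMonoidHom)
          (MulAut.conj g).injective
      rw [h2, hH]
    · intro hK
      obtain ⟨g, hg⟩ := Cfsg.Agent.Lib.Helper1.hall_conj m n hG hmn H K hH hK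
      exact ⟨g, hg⟩
  have h1 := MulAction.index_stabilizer G H
  rw [hstab, horb] at h1
  rw [h1]
  exact Nat.card_coe_set_eq _

/-- In a finite solvable group the number of Hall subgroups of a given order `m` is a product of prime powers, each dividing a chief factor order and each congruent to `1` modulo a prime divisor of `m`. -/
theorem result {G : Type*} [Group G] [Finite G] [Group.IsSolvable G] (m n : ℕ) (hG : Nat.card G = m * n) (hmn : Nat.Coprime m n) : ∃ (k : ℕ) (f : Fin k → ℕ), Nat.card {H : Subgroup G // Nat.card H = m} = ∏ i, f i ∧ ∀ i, (∃ q e : ℕ, q.Prime ∧ f i = q ^ e) ∧ (∃ K L : Subgroup G, K.Normal ∧ L.Normal ∧ K < L ∧ (∀ M : Subgroup G, M.Normal → K ≤ M → M ≤ L → M = K ∨ M = L) ∧ f i ∣ K.relIndex L) ∧ (∃ q : ℕ, q.Prime ∧ q ∣ m ∧ f i ≡ 1 [MOD q]) := by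
  obtain ⟨H, hH⟩ := Cfsg.Agent.Lib.Helper1.hall_exists m n hG hmn
  obtain ⟨l, hl, hl'⟩ := main_aux (Nat.card G) G m n rfl hG hmn H hH
  refine ⟨l.length, fun i => l[i], ?_, ?_⟩
  · rw [card_hall_eq_index m n hG hmn H hH, ← hl]
    exact (Fin.prod_univ_getElem l).symm
  · intro i
    exact hl' _ (List.getElem_mem _)

end Cfsg.Agent.S4214
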