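import Cfsg.Statements.S4250
import Cfsg.Agent.S2012
import Mathlib.GroupTheory.Focal
-- import your own Cfsg.Agent.* helpers here

set_option autoImplicit false
open Cfsg

namespace Cfsg.Agent.S4250

open scoped commutatorElement

/-- Commutators `⁅a, y⁆` with `a ∈ H` and `y` normalising `H` lie in `H`. -/
theorem comm_mem_of_mem_normalizer {G : Type*} [Group G] (H : Subgroup G) {a y : G}
    (ha : a ∈ H) (hy : y ∈ Subgroup.normalizer (H : Set G)) : ⁅a, y⁆ ∈ H := by
  rw [commutatorElement_def, mul_assoc, mul_assoc]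
  refine mul_mem ha ?_
  rw [← mul_assoc]
  exact (Subgroup.mem_normalizer_iff.mp hy a⁻¹).mp (inv_mem ha)

/-- `⁅H, K⁆ ≤ H` when `K ≤ N(H)`. -/
theorem commutator_le_left_of_le_normalizer {G : Type*} [Group G] (H K : Subgroup G)
    (hK : K ≤ Subgroup.normalizer (H : Set G)) : ⁅H, K⁆ ≤ H := by
  rw [Subgroup.commutator_le]
  intro a ha y hy
  exact comm_mem_of_mem_normalizer H ha (hK hy)

/-- Let P be a Sylow p-subgroup of a finite group G. Call an intersection H = P ∩ Q with a Sylow p-subgroup Q tame when N_P(H) and N_Q(H) are Sylow p-subgroups of N_G(H). Then P ∩ G′ is generated by [P, N_G(P)] together with the commutator subgroups [P ∩ Q, ⟨x⟩] for all tame intersections P ∩ Q and all p-elements x of N_G(P ∩ Q). -/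
theorem result {G : Type*} [Group G] [Finite G] (p : ℕ) [Fact p.Prime] (P : Sylow p G) :
    (P : Subgroup G) ⊓ commutator G =
      ⁅(P : Subgroup G), Subgroup.normalizer ((P : Subgroup G) : Set G)⁆ ⊔
        ⨆ (Q : Sylow p G) (_ : (¬ p ∣ ((P : Subgroup G) ⊓ Subgroup.normalizer (((P : Subgroup G) ⊓ (Q : Subgroup G) : Subgroup G) : Set G)).relIndex (Subgroup.normalizer (((P : Subgroup G) ⊓ (Q : Subgroup G) : Subgroup G) : Set G)) ∧ ¬ p ∣ ((Q : Subgroup G) ⊓ Subgroup.normalizer (((P : Subgroup G) ⊓ (Q : Subgroup G) : Subgroup G) : Set G)).relIndex (Subgroup.normalizer (((P : Subgroup G) ⊓ (Q : Subgroup G) : Subgroup G) : Set G))))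
          (x : G) (_ : x ∈ Subgroup.normalizer (((P : Subgroup G) ⊓ (Q : Subgroup G) : Subgroup G) : Set G) ∧ ∃ k : ℕ, orderOf x = p ^ k),
          ⁅(P : Subgroup G) ⊓ (Q : Subgroup G), Subgroup.zpowers x⁆ := by
  classical
  apply le_antisymm
  · -- `≤`: focal subgroup theorem + Alperin
    rw [inf_comm, Subgroup.commutator_inf_eq_focalSubgroup, Subgroup.focalSubgroup_def,
      Subgroup.closure_le]
    rintro g ⟨hgP, x, hxP, u, rfl⟩
    have hux : u * x * u⁻¹ ∈ (P : Subgroup G) := by
      have : u * x * u⁻¹ = (x⁻¹ * ⁅x, u⁆)⁻¹ := by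
        rw [commutatorElement_def]; group
      rw [this]; exact inv_mem (mul_mem (inv_mem hxP) hgP)
    obtain ⟨n, Q, xs, hprod, hall, h0, hi⟩ :=
      Cfsg.Agent.S2012.result P {x} u⁻¹ (Set.singleton_subset_iff.mpr hxP)
        (by
          rw [Set.image_singleton, Set.singleton_subset_iff, inv_inv]
          exact hux)
    -- the right-hand side
    set R : Subgroup G := ⁅(P : Subgroup G), Subgroup.normalizer ((P : Subgroup G) : Set G)⁆ ⊔
        ⨆ (Q : Sylow p G) (_ : (¬ p ∣ ((P : Subgroup G) ⊓ Subgroup.normalizer (((P : Subgroup G) ⊓ (Q : Subgroup G) : Subgroup G) : Set G)).relIndex (Subgroup.normalizer (((P : Subgroup G) ⊓ (Q : Subgroup G) : Subgroup G) : Set G)) ∧ ¬ p ∣ ((Q : Subgroup G) ⊓ Subgroup.normalizer (((P : Subgroup G) ⊓ (Q : Subgroup G) : Subgroup G) : Set G)).relIndex (Subgroup.normalizer (((P : Subgroup G) ⊓ (Q : Subgroup G) : Subgroup G) : Set G))))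
          (x : G) (_ : x ∈ Subgroup.normalizer (((P : Subgroup G) ⊓ (Q : Subgroup G) : Subgroup G) : Set G) ∧ ∃ k : ℕ, orderOf x = p ^ k),
          ⁅(P : Subgroup G) ⊓ (Q : Subgroup G), Subgroup.zpowers x⁆ with hR
    -- partial products
    set L : List G := List.ofFn xs with hL
    have hlen : L.length = n := by simp [hL]
    -- the conjugates `a i = (pr i)⁻¹ x (pr i)` lie in `P ⊓ Q i`
    have hmem : ∀ i : Fin n, ((L.take i.val).prod)⁻¹ * x * (L.take i.val).prod ∈
        (P : Subgroup G) ⊓ (Q i : Subgroup G) := by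
      rintro ⟨i, hi'⟩
      cases i with
      | zero =>
        have := h0 hi' (Set.mem_singleton x)
        simp only [List.take_zero, List.prod_nil, inv_one, one_mul, mul_one]
        exact this
      | succ j =>
        have := hi ⟨j, by omega⟩ hi' ⟨x, Set.mem_singleton x, rfl⟩
        exact this
    -- each step is in `R`
    have hstep : ∀ i : Fin n, ⁅((L.take i.val).prod)⁻¹ * x * (L.take i.val).prod, (xs i)⁻¹⁆ ∈ R := by
      intro i
      obtain ⟨hN, ht1, ht2, hQP | ⟨k, hk⟩⟩ := hall i
      · -- `Q i = P`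
        have hPP : (P : Subgroup G) ⊓ (Q i : Subgroup G) = (P : Subgroup G) := by
          rw [hQP, inf_idem]
        have h1 := hmem i
        rw [hPP] at h1 hN
        exact (le_sup_left : _ ≤ R) (Subgroup.commutator_mem_commutator h1 (inv_mem hN))
      · refine (le_sup_right : _ ≤ R) ?_
        refine Subgroup.mem_iSup_of_mem (Q i) ?_
        refine Subgroup.mem_iSup_of_mem ⟨ht1, ht2⟩ ?_
        refine Subgroup.mem_iSup_of_mem (xs i) ?_
        refine Subgroup.mem_iSup_of_mem ⟨hN, k, hk⟩ ?_
        exact Subgroup.commutator_mem_commutator (hmem i)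
          (inv_mem (Subgroup.mem_zpowers (xs i)))
    -- telescoping
    have htel : ∀ i : ℕ, i ≤ n → x * (((L.take i).prod)⁻¹ * x * (L.take i).prod)⁻¹ ∈ R := by
      intro i
      induction i with
      | zero => intro _; simp
      | succ j ih =>
        intro hj
        have hj' : j < L.length := by omega
        have h1 := ih (by omega)
        have h2 := hstep ⟨j, by omega⟩
        have hget : L[j] = xs ⟨j, by omega⟩ := by simp [hL]
        rw [List.prod_take_succ L j hj', hget]
        have := mul_mem h1 h2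
        convert this using 1
        rw [commutatorElement_def]
        group
    have := htel n le_rfl
    rw [← hlen, List.take_length, hprod] at this
    have heq : ⁅x, u⁆ = x * (u⁻¹⁻¹ * x * u⁻¹)⁻¹ := by
      rw [commutatorElement_def]; group
    rw [heq]
    exact this
  · -- `≥`
    refine sup_le (le_inf ?_ ?_) (iSup_le fun Q => iSup_le fun _ => iSup_le fun y => iSup_le
      fun hy => le_inf ?_ ?_)
    · exact commutator_le_left_of_le_normalizer _ _ le_rfl
    · exact Subgroup.commutator_mono le_top le_top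
    · refine (commutator_le_left_of_le_normalizer _ _ ?_).trans inf_le_left
      rw [Subgroup.zpowers_le]
      exact hy.1
    · exact Subgroup.commutator_mono le_top le_top

end Cfsg.Agent.S4250
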