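import Cfsg.Statements.S4216
import Cfsg.Agent.S4250
import Cfsg.Agent.Lib.Helper34.SylowConj
-- import your own Cfsg.Agent.* helpers here

set_option autoImplicit false
open Cfsg

namespace Cfsg.Agent.S4216

open Cfsg.Agent.Lib.Helper34
open scoped commutatorElement

/-- a `p`-element of `K` lies in a `K`-conjugate of any `p`-subgroup of `K` of index prime to `p` -/
theorem exists_conj_mem {G : Type*} [Group G] [Finite G] {p : ℕ} [Fact p.Prime]
    (K R : Subgroup G) (hR : IsPGroup p R) (_hRK : R ≤ K) (hind : ¬ p ∣ R.relIndex K)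
    (x : G) (hx : x ∈ K) (k : ℕ) (hk : orderOf x = p ^ k) :
    ∃ n ∈ K, n⁻¹ * x * n ∈ R := by
  have hS : IsPGroup p (R.subgroupOf K) := hR.comap_subtype
  let S : Sylow p K := hS.toSylow (by rw [← Subgroup.relIndex]; exact hind)
  have hx' : IsPGroup p (Subgroup.zpowers (⟨x, hx⟩ : K)) := by
    apply IsPGroup.of_card (n := k)
    rw [Nat.card_zpowers, Subgroup.orderOf_mk, hk]
  obtain ⟨T, hT⟩ := hx'.exists_le_sylow
  obtain ⟨n, hn⟩ := MulAction.exists_smul_eq K S T
  have h1 : (⟨x, hx⟩ : K) ∈ ((n • S : Sylow p K) : Subgroup K) := by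
    rw [hn]
    exact hT (Subgroup.mem_zpowers _)
  rw [mem_sylow_smul_iff] at h1
  refine ⟨n, n.2, ?_⟩
  have h2 : n⁻¹ * (⟨x, hx⟩ : K) * n ∈ R.subgroupOf K := h1
  rw [Subgroup.mem_subgroupOf] at h2
  simpa using h2

theorem result {G : Type*} [Group G] [Finite G] {p : ℕ} [Fact p.Prime] (P : Sylow p G) : (P : Subgroup G) ⊓ commutator G = ((P : Subgroup G) ⊓ ⁅Subgroup.normalizer ((P : Subgroup G) : Set G), Subgroup.normalizer ((P : Subgroup G) : Set G)⁆) ⊔ ⨆ z : G, (P : Subgroup G) ⊓ (⁅(P : Subgroup G), (P : Subgroup G)⁆).map (MulAut.conj z).toMonoidHom := by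
  apply le_antisymm
  · rw [Cfsg.Agent.S4250.result p P]
    apply sup_le
    · apply le_sup_of_le_left
      apply le_inf
      · rw [Subgroup.commutator_le]
        intro a ha n hn
        rw [commutatorElement_def]
        have h1 : n * a⁻¹ * n⁻¹ ∈ (P : Subgroup G) :=
          (Subgroup.mem_normalizer_iff.mp hn a⁻¹).mp (inv_mem ha)
        have h2 : a * n * a⁻¹ * n⁻¹ = a * (n * a⁻¹ * n⁻¹) := by group
        rw [h2]
        exact mul_mem ha h1
      · exact Subgroup.commutator_mono Subgroup.le_normalizer le_rfl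
    · apply iSup_le
      intro Q
      apply iSup_le
      rintro ⟨htP, -⟩
      apply iSup_le
      intro x
      apply iSup_le
      rintro ⟨hxN, k, hk⟩
      apply le_sup_of_le_right
      -- conjugate x into P ⊓ N(H) inside N(H)
      obtain ⟨n, hnN, hn⟩ := exists_conj_mem
        (Subgroup.normalizer (((P : Subgroup G) ⊓ (Q : Subgroup G) : Subgroup G) : Set G))
        ((P : Subgroup G) ⊓
          Subgroup.normalizer (((P : Subgroup G) ⊓ (Q : Subgroup G) : Subgroup G) : Set G))
        (P.isPGroup'.to_le inf_le_left) inf_le_right htP x hxN k hk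
      refine le_trans ?_ (le_iSup _ n)
      rw [Subgroup.commutator_le]
      intro h hh y hy
      have hxP : ∀ y ∈ Subgroup.zpowers x, n⁻¹ * y * n ∈ (P : Subgroup G) := by
        intro y hy
        obtain ⟨m, rfl⟩ := Subgroup.mem_zpowers_iff.mp hy
        have : n⁻¹ * x ^ m * n = (n⁻¹ * x * n) ^ m := by
          have h0 := conj_zpow (a := n⁻¹) (b := x) (i := m)
          rw [inv_inv] at h0
          exact h0.symm
        rw [this]
        exact zpow_mem (Subgroup.mem_inf.mp hn).1 m
      have hyN : y ∈ Subgroup.normalizer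
          (((P : Subgroup G) ⊓ (Q : Subgroup G) : Subgroup G) : Set G) :=
        (Subgroup.zpowers_le.mpr hxN) hy
      have hhP : n⁻¹ * h * n ∈ (P : Subgroup G) := by
        have h1 : n⁻¹ ∈ Subgroup.normalizer
            (((P : Subgroup G) ⊓ (Q : Subgroup G) : Subgroup G) : Set G) := inv_mem hnN
        have h2 := (Subgroup.mem_normalizer_iff.mp h1 h).mp hh
        rw [inv_inv] at h2
        exact (Subgroup.mem_inf.mp h2).1
      refine Subgroup.mem_inf.mpr ⟨?_, ?_⟩
      · -- ⁅h, y⁆ ∈ H ≤ P
        rw [commutatorElement_def]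
        have h1 : y * h⁻¹ * y⁻¹ ∈ ((P : Subgroup G) ⊓ (Q : Subgroup G) : Subgroup G) :=
          (Subgroup.mem_normalizer_iff.mp hyN h⁻¹).mp (inv_mem hh)
        have h2 : h * y * h⁻¹ * y⁻¹ = h * (y * h⁻¹ * y⁻¹) := by group
        rw [h2]
        exact (Subgroup.mem_inf.mp (mul_mem hh h1)).1
      · rw [mem_map_conj_iff]
        have h3 : n⁻¹ * ⁅h, y⁆ * n = ⁅n⁻¹ * h * n, n⁻¹ * y * n⁆ := by
          simp only [commutatorElement_def]
          group
        rw [h3]
        exact Subgroup.commutator_mem_commutator hhP (hxP y hy)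
  · apply sup_le
    · exact inf_le_inf_left _ (Subgroup.commutator_mono le_top le_top)
    · apply iSup_le
      intro z
      apply inf_le_inf_left
      intro g hg
      rw [mem_map_conj_iff] at hg
      have h1 : z⁻¹ * g * z ∈ commutator G :=
        (Subgroup.commutator_mono le_top le_top : ⁅(P : Subgroup G), (P : Subgroup G)⁆ ≤ commutator G) hg
      have h2 : (commutator G).Normal := inferInstance
      have h3 := h2.conj_mem _ h1 z
      have h4 : z * (z⁻¹ * g * z) * z⁻¹ = g := by group
      rwa [h4] at h3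

end Cfsg.Agent.S4216
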