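import Cfsg.Statements.S4218
-- import your own Cfsg.Agent.* helpers here
import Cfsg.Agent.Lib.Helper70.FrattiniFaithful
import Cfsg.Agent.Lib.Helper76.PCore
import Mathlib

set_option autoImplicit false
open Cfsg
open Cfsg.Agent.Lib.Helper70

namespace Cfsg.Agent.S4218

/-- the Frattini subgroup is invariant under isomorphisms -/
theorem mem_frattini_iff_of_equiv {A B : Type*} [Group A] [Group B] (e : A ≃* B) (x : A) :
    x ∈ frattini A ↔ e x ∈ frattini B := by
  constructor
  · intro hx
    exact frattini_le_comap_frattini_of_surjective (φ := e.toMonoidHom) e.surjective hx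
  · intro hx
    have := frattini_le_comap_frattini_of_surjective (φ := e.symm.toMonoidHom) e.symm.surjective hx
    simpa using this

theorem mk_mem_frattini_iff {A B : Type*} [Group A] [Group B] (φ : A →* B)
    (hφ : Function.Surjective φ) (K : Subgroup A) [K.Normal] (hK : K = φ.ker) (x : A) :
    (QuotientGroup.mk' K x ∈ frattini (A ⧸ K)) ↔ φ x ∈ frattini B := by
  let e : A ⧸ K ≃* B :=
    (QuotientGroup.quotientMulEquivOfEq hK).trans (QuotientGroup.quotientKerEquivOfSurjective φ hφ)
  have he : e (QuotientGroup.mk' K x) = φ x := rfl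
  rw [mem_frattini_iff_of_equiv e, he]

/-- Let `G` be a finite `p`-solvable group, `N₀ = O_{p'}(G)`, `P₁ = O_{p',p}(G)`, and let `F ≤ P₁` be the preimage of the Frattini subgroup of `P₁/N₀`. Then an element `g` of `G` induces the identity on `P₁/F` by conjugation (that is, `g x g⁻¹ x⁻¹ ∈ F` for all `x ∈ P₁`) if and only if `g ∈ P₁`: the group `G/P₁` acts faithfully on `P₁/F`. -/
theorem result {G : Type*} [Group G] [Finite G] {p : ℕ} [Fact p.Prime] (hG : Cfsg.IsPSolvable p G) (g : G) : (∀ x ∈ Cfsg.pPrimePCore p G, g * x * g⁻¹ * x⁻¹ ∈ ((frattini (↥(Cfsg.pPrimePCore p G) ⧸ (Cfsg.pPrimeCore p G).subgroupOf (Cfsg.pPrimePCore p G))).comap (QuotientGroup.mk' ((Cfsg.pPrimeCore p G).subgroupOf (Cfsg.pPrimePCore p G)))).map (Cfsg.pPrimePCore p G).subtype) ↔ g ∈ Cfsg.pPrimePCore p G := by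
  set N₀ := Cfsg.pPrimeCore p G with hN₀
  set π := QuotientGroup.mk' N₀ with hπ
  have hπs : Function.Surjective π := QuotientGroup.mk'_surjective N₀
  set R := Cfsg.pCore p (G ⧸ N₀) with hR
  have hP₁ : Cfsg.pPrimePCore p G = R.comap π := rfl
  -- facts in the quotient
  have hsolv : Cfsg.IsPSolvable p (G ⧸ N₀) :=
    Cfsg.Agent.Lib.Helper76.IsPSolvable_of_surjective p π hπs hG
  have hcore : ∀ N : Subgroup (G ⧸ N₀), N.Normal → (Nat.card N).Coprime p → N = ⊥ :=
    fun N hN hc => Cfsg.Agent.Lib.Helper76.quotient_pPrimeCore_core_trivial p N hN hc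
  have hcent : Subgroup.centralizer (R : Set (G ⧸ N₀)) ≤ R :=
    Cfsg.Agent.Lib.Helper76.centralizer_pCore_le p hsolv hcore
  have hRp : IsPGroup p R := Cfsg.Agent.Lib.Helper76.pCore_isPGroup p
  have hmax : ∀ N : Subgroup (G ⧸ N₀), N.Normal → IsPGroup p N → N ≤ R :=
    fun N hN hp => Cfsg.Agent.Lib.Helper76.le_pCore p N hN hp
  have hEq : trivOnFrattiniQuot R = R :=
    le_antisymm (trivOnFrattiniQuot_le R hRp hcent hmax) (le_trivOnFrattiniQuot R hRp)
  -- description of F
  set P₁ := Cfsg.pPrimePCore p G with hP₁def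
  set ψ : ↥P₁ →* ↥R := π.subgroupComap R with hψ
  have hψs : Function.Surjective ψ := π.subgroupComap_surjective_of_surjective R hπs
  have hker : N₀.subgroupOf P₁ = ψ.ker := by
    ext x
    rw [Subgroup.mem_subgroupOf, MonoidHom.mem_ker]
    constructor
    · intro hx
      apply Subtype.ext
      show π (x : G) = 1
      rw [hπ, QuotientGroup.mk'_apply, QuotientGroup.eq_one_iff]
      exact hx
    · intro hx
      have : π (x : G) = 1 := congrArg Subtype.val hx
      rwa [hπ, QuotientGroup.mk'_apply, QuotientGroup.eq_one_iff] at this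
  have hF : ∀ y : G, y ∈ ((frattini (↥P₁ ⧸ N₀.subgroupOf P₁)).comap
      (QuotientGroup.mk' (N₀.subgroupOf P₁))).map P₁.subtype ↔ π y ∈ frattiniIn R := by
    intro y
    constructor
    · rintro ⟨x, hx, rfl⟩
      rw [SetLike.mem_coe, Subgroup.mem_comap, mk_mem_frattini_iff ψ hψs _ hker] at hx
      exact ⟨ψ x, hx, rfl⟩
    · rintro ⟨z, hz, hzy⟩
      have hyP : y ∈ P₁ := by
        show π y ∈ R
        rw [← hzy]; exact z.2
      refine ⟨⟨y, hyP⟩, ?_, rfl⟩
      rw [SetLike.mem_coe, Subgroup.mem_comap, mk_mem_frattini_iff ψ hψs _ hker]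
      have : ψ ⟨y, hyP⟩ = z := by
        apply Subtype.ext
        exact hzy.symm
      rw [this]
      exact hz
  -- main equivalence
  have hgoal : g ∈ P₁ ↔ π g ∈ trivOnFrattiniQuot R := by
    rw [hEq]; rfl
  rw [hgoal, mem_trivOnFrattiniQuot]
  constructor
  · intro h r hr
    obtain ⟨x, rfl⟩ := hπs r
    have hx : x ∈ P₁ := hr
    have := (hF _).mp (h x hx)
    simpa using this
  · intro h x hx
    rw [hF]
    have := h (π x) hx
    simpa using this

end Cfsg.Agent.S4218
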