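import Mathlib
import Cfsg.Statements.S4221
import Cfsg.Agent.S0415
import Cfsg.Agent.Lib.Helper8.OddFourFaithful

set_option autoImplicit false
open Cfsg

namespace Cfsg.Agent.S4221

open MulAction Cfsg.Agent.Lib.Helper8.OddFour

/-- order of a `4`-transitive group -/
theorem card_eq_descFactorial_mul {G α : Type*} [Group G] [MulAction G α] [Fintype α]
    [IsMultiplyPretransitive G α 4] (x : Fin 4 ↪ α) :
    Nat.card G = (Fintype.card α).descFactorial 4 * Nat.card (stabilizer G x) := by
  have h1 := Subgroup.card_eq_card_quotient_mul_card_subgroup (stabilizer G x)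
  have h2 : Nat.card (orbit G x) = Nat.card (G ⧸ stabilizer G x) :=
    Nat.card_congr (orbitEquivQuotientStabilizer G x)
  have h3 : Nat.card (orbit G x) = (Fintype.card α).descFactorial 4 := by
    rw [orbit_eq_univ G x, Nat.card_congr (Equiv.Set.univ _), Nat.card_eq_fintype_card,
      Fintype.card_embedding_eq, Fintype.card_fin]
  rw [h1, ← h2, h3]

/-- `x ^ 3 = h`, `h` odd, `h ∣ 5040` forces `h = 1` -/
theorem eq_one_of_cube {x h : ℕ} (hx : x * x * x = h) (hodd : Odd h) (hd : h ∣ 5040) : h = 1 := by
  have hle : h ≤ 5040 := Nat.le_of_dvd (by norm_num) hd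
  have hx17 : x ≤ 17 := by
    by_contra hcon
    have h18 : 18 ≤ x := by omega
    have h2 : 18 * 18 * 18 ≤ x * x * x := Nat.mul_le_mul (Nat.mul_le_mul h18 h18) h18
    omega
  obtain ⟨k, hk⟩ := hodd
  obtain ⟨m, hm⟩ := hd
  subst hx
  interval_cases x <;> omega

theorem arith_full {c h idx D : ℕ} (hc : c = D * h) (hi : idx * c = D) (hD : 0 < D) : idx = 1 := by
  subst hc
  have h1 : idx * h = 1 := by
    have : D * (idx * h) = D * 1 := by
      calc D * (idx * h) = idx * (D * h) := by ring
        _ = D := hi
        _ = D * 1 := (mul_one D).symm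
    exact Nat.eq_of_mul_eq_mul_left hD this
  exact Nat.eq_one_of_mul_eq_one_right h1

theorem arith_six {c h idx : ℕ} (hc : c = 360 * h) (hi : idx * c = 720) (hodd : Odd h) :
    idx = 2 := by
  subst hc
  obtain ⟨k, rfl⟩ := hodd
  have hidx : 1 ≤ idx := by
    rcases Nat.eq_zero_or_pos idx with h0 | h0
    · subst h0; simp at hi
    · exact h0
  have hk : k = 0 := by
    by_contra hk
    have : 1 ≤ k := Nat.one_le_iff_ne_zero.2 hk
    nlinarith
  subst hk
  omega

theorem arith_seven {c h idx : ℕ} (hc : c = 840 * h) (hi : idx * c = 5040) (hodd : Odd h) :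
    h = 1 ∨ idx = 2 := by
  subst hc
  obtain ⟨k, rfl⟩ := hodd
  have hidx : 1 ≤ idx := by
    rcases Nat.eq_zero_or_pos idx with h0 | h0
    · subst h0; simp at hi
    · exact h0
  have hk : k ≤ 2 := by
    by_contra hk
    have : 3 ≤ k := by omega
    nlinarith
  interval_cases k
  · left; rfl
  · right; omega
  · exfalso; omega

section generic

variable {G α : Type*} [Group G] [MulAction G α] [Fintype α] [DecidableEq α]
  [IsMultiplyPretransitive G α 4]

/-- degree at least `8`: degree `11` and order `7920` -/
theorem big_case [Finite G] [FaithfulSMul G α] (x : Fin 4 ↪ α)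
    (hodd : Odd (Nat.card (stabilizer G x)))
    (hdvd : Nat.card G ∣ (Fintype.card α).factorial) (hn8 : 8 ≤ Fintype.card α) :
    Fintype.card α = 11 ∧ Nat.card G = 7920 := by
  have hodd' : ∀ z : Fin 4 ↪ α, Odd (Nat.card (stabilizer G z)) := by
    intro z
    rw [card_stabilizer_eq z x]
    exact hodd
  have hcard := card_eq_descFactorial_mul (G := G) x
  obtain ⟨P⟩ := exists_epair hodd' x
  obtain ⟨h11, hX, hf, hf3, x0, hx0⟩ := main_count hodd' P hn8
  have hbot := P.stab_inf_CE_eq_bot hodd' hX hf hf3
  rw [hbot, Subgroup.card_bot, one_pow, mul_one] at hx0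
  refine ⟨h11, ?_⟩
  rw [h11] at hcard hdvd
  have e1 : Nat.descFactorial 11 4 = 7920 := by decide
  have e2 : Nat.factorial 11 = 7920 * 5040 := by decide
  rw [e1] at hcard
  have h5040 : Nat.card (stabilizer G x) ∣ 5040 := by
    rw [hcard, e2] at hdvd
    exact Nat.dvd_of_mul_dvd_mul_left (by norm_num) hdvd
  have h1 : Nat.card (stabilizer G x) = 1 := eq_one_of_cube hx0 hodd h5040
  rw [hcard, h1]

omit [DecidableEq α] in
/-- data for the small cases -/
theorem small_data (x : Fin 4 ↪ α) (hodd : Odd (Nat.card (stabilizer G x))) :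
    ∃ h : ℕ, Odd h ∧ Nat.card G = (Fintype.card α).descFactorial 4 * h ∧
      (h = 1 → ∀ z : Fin 4 ↪ α, stabilizer G z = ⊥) := by
  refine ⟨Nat.card (stabilizer G x), hodd, card_eq_descFactorial_mul x, ?_⟩
  intro h1 z
  apply (Subgroup.card_eq_one).1
  rw [card_stabilizer_eq z x, h1]

end generic

/-- Let `G` be a `4`-fold transitive permutation group on a finite set of `n` points in which the pointwise stabilizer of some four distinct points has odd order. Then `n = 4` or `n = 5` with `G` the full symmetric group, or `n = 6` or `n = 7` with `G` the alternating group, or `n = 11` and `G` has order `7920`. -/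
theorem result {α : Type*} [Fintype α] [DecidableEq α] (G : Subgroup (Equiv.Perm α)) (hG : MulAction.IsMultiplyPretransitive G α 4) (x : Fin 4 ↪ α) (hodd : Odd (Nat.card (MulAction.stabilizer G x))) : ((Fintype.card α = 4 ∨ Fintype.card α = 5) ∧ G = ⊤) ∨ ((Fintype.card α = 6 ∨ Fintype.card α = 7) ∧ G = alternatingGroup α) ∨ (Fintype.card α = 11 ∧ Nat.card G = 7920) := by
  classical
  have := hG
  have hdvd : Nat.card ↥G ∣ (Fintype.card α).factorial := by
    have := Subgroup.card_subgroup_dvd_card G
    rwa [Nat.card_eq_fintype_card (α := Equiv.Perm α), Fintype.card_perm] at this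
  have hidx := Subgroup.index_mul_card G
  rw [Nat.card_eq_fintype_card (α := Equiv.Perm α), Fintype.card_perm] at hidx
  have hn4 : 4 ≤ Fintype.card α := by
    simpa using Fintype.card_le_of_embedding x
  by_cases hn8 : 8 ≤ Fintype.card α
  · right; right
    exact big_case (G := ↥G) x hodd hdvd hn8
  · obtain ⟨h, hhodd, hcard, hsharp⟩ := small_data (G := ↥G) x hodd
    have hcases : Fintype.card α = 4 ∨ Fintype.card α = 5 ∨ Fintype.card α = 6 ∨
        Fintype.card α = 7 := by omega
    rcases hcases with h4 | h5 | h6 | h7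
    · left
      refine ⟨Or.inl h4, ?_⟩
      rw [h4] at hcard hidx
      have e1 : Nat.descFactorial 4 4 = 24 := by decide
      have e2 : Nat.factorial 4 = 24 := by decide
      rw [e1] at hcard
      rw [e2] at hidx
      exact Subgroup.index_eq_one.1 (arith_full hcard hidx (by norm_num))
    · left
      refine ⟨Or.inr h5, ?_⟩
      rw [h5] at hcard hidx
      have e1 : Nat.descFactorial 5 4 = 120 := by decide
      have e2 : Nat.factorial 5 = 120 := by decide
      rw [e1] at hcard
      rw [e2] at hidx
      exact Subgroup.index_eq_one.1 (arith_full hcard hidx (by norm_num))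
    · right; left
      refine ⟨Or.inl h6, ?_⟩
      rw [h6] at hcard hidx
      have e1 : Nat.descFactorial 6 4 = 360 := by decide
      have e2 : Nat.factorial 6 = 720 := by decide
      rw [e1] at hcard
      rw [e2] at hidx
      exact Equiv.Perm.eq_alternatingGroup_of_index_eq_two (arith_six hcard hidx hhodd)
    · rw [h7] at hcard hidx
      have e1 : Nat.descFactorial 7 4 = 840 := by decide
      have e2 : Nat.factorial 7 = 5040 := by decide
      rw [e1] at hcard
      rw [e2] at hidx
      rcases arith_seven hcard hidx hhodd with h1 | hi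
      · exfalso
        have := Cfsg.Agent.S0415.result G hn4 (hsharp h1)
        omega
      · right; left
        exact ⟨Or.inr h7, Equiv.Perm.eq_alternatingGroup_of_index_eq_two hi⟩

end Cfsg.Agent.S4221
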