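import Cfsg.Statements.S4224
-- import your own Cfsg.Agent.* helpers here
import Cfsg.Agent.Lib.Helper70.RegularP
import Mathlib

set_option autoImplicit false
open Cfsg

namespace Cfsg.Agent.S4224

/-- In a regular `p`-group, for all elements `a`, `b` and every power `q = p^k`: `a^q` commutes with `b` if and only if the commutator `a⁻¹b⁻¹ab` has `q`-th power equal to `1`. -/
theorem result {G : Type*} [Group G] [Finite G] {p : ℕ} [Fact p.Prime] (hG : Cfsg.IsRegularPGroup p G) (a b : G) (k : ℕ) : a ^ p ^ k * b = b * a ^ p ^ k ↔ (a⁻¹ * b⁻¹ * a * b) ^ p ^ k = 1 := by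
  have key := Cfsg.Agent.Lib.Helper70.regular_pow_eq_iff hG (b⁻¹ * a * b) a k
  have e1 : (b⁻¹ * a * b) ^ p ^ k = b⁻¹ * a ^ p ^ k * b := by
    have e : b⁻¹ * a * b = b⁻¹ * a * b⁻¹⁻¹ := by rw [inv_inv]
    rw [e, conj_pow, inv_inv]
  have e2 : b⁻¹ * a * b * a⁻¹ = a * (a⁻¹ * b⁻¹ * a * b) * a⁻¹ := by group
  rw [e1, e2, conj_pow] at key
  constructor
  · intro h
    have h1 : b⁻¹ * a ^ p ^ k * b = a ^ p ^ k := by
      rw [mul_assoc, h, ← mul_assoc, inv_mul_cancel, one_mul]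
    have h2 := key.mp h1
    have : (a⁻¹ * b⁻¹ * a * b) ^ p ^ k = a⁻¹ * (a * (a⁻¹ * b⁻¹ * a * b) ^ p ^ k * a⁻¹) * a := by
      group
    rw [this, h2]; group
  · intro h
    have h1 : b⁻¹ * a ^ p ^ k * b = a ^ p ^ k := by
      apply key.mpr
      rw [h]; group
    calc a ^ p ^ k * b = b * (b⁻¹ * a ^ p ^ k * b) := by group
      _ = b * a ^ p ^ k := by rw [h1]

end Cfsg.Agent.S4224
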