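import Cfsg.Statements.S4227
-- import your own Cfsg.Agent.* helpers here
import Cfsg.Agent.Lib.Helper70.Exp6
import Cfsg.Agent.S0144
import Mathlib

set_option autoImplicit false
set_option linter.style.haveILetI false
open Cfsg

namespace Cfsg.Agent.S4227

open Cfsg.Agent.Lib.Helper70

/-- A finite group of exponent dividing `6` is solvable (Burnside's `p^a q^b` theorem). -/
theorem isSolvable_of_exp_six {G : Type*} [Group G] [Finite G] (h : ∀ x : G, x ^ 6 = 1) :
    Group.IsSolvable G := by
  have hprime : ∀ r : ℕ, r.Prime → r ∣ Nat.card G → r = 2 ∨ r = 3 := by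
    intro r hr hdvd
    haveI : Fact r.Prime := ⟨hr⟩
    obtain ⟨x, hx⟩ := exists_prime_orderOf_dvd_card' r hdvd
    have h6 : r ∣ 6 := by rw [← hx]; exact orderOf_dvd_of_pow_eq_one (h x)
    have h6' : r ∣ 2 * 3 := h6
    rcases (Nat.Prime.dvd_mul hr).mp h6' with h2 | h3
    · exact Or.inl ((Nat.prime_dvd_prime_iff_eq hr Nat.prime_two).mp h2)
    · exact Or.inr ((Nat.prime_dvd_prime_iff_eq hr Nat.prime_three).mp h3)
  have hne : Nat.card G ≠ 0 := Nat.card_pos.ne'
  obtain ⟨a, m, hm, hcard⟩ := Nat.exists_eq_two_pow_mul_odd hne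
  have hm0 : m ≠ 0 := by
    intro h0
    rw [h0] at hm
    exact (Nat.not_odd_iff_even.mpr (by decide)) hm
  have hm3 : m = 3 ^ m.primeFactorsList.length := by
    apply Nat.eq_prime_pow_of_unique_prime_dvd hm0
    intro d hd hdm
    have hdG : d ∣ Nat.card G := by rw [hcard]; exact hdm.mul_left _
    rcases hprime d hd hdG with h2 | h3
    · exfalso
      rw [h2] at hdm
      exact (Nat.not_even_iff_odd.mpr hm) (even_iff_two_dvd.mpr hdm)
    · exact h3
  rw [hm3] at hcard
  exact Cfsg.Agent.S0144.result 2 3 a _ Nat.prime_two Nat.prime_three hcard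

/-- A finite group in which every element has order dividing `6` has `2`-length at most `1` and `3`-length at most `1`. -/
theorem result {G : Type*} [Group G] [Finite G] (h : ∀ x : G, x ^ 6 = 1) : Cfsg.PLengthLE 2 1 G ∧ Cfsg.PLengthLE 3 1 G := by
  haveI hsolv : Group.IsSolvable G := isSolvable_of_exp_six h
  haveI : Fact (Nat.Prime 2) := ⟨Nat.prime_two⟩
  haveI : Fact (Nat.Prime 3) := ⟨Nat.prime_three⟩
  have hq : ∀ (N : Subgroup G) [N.Normal], ∀ x : G ⧸ N, x ^ 6 = 1 := by
    intro N _ x
    obtain ⟨g, rfl⟩ := QuotientGroup.mk_surjective x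
    rw [← QuotientGroup.mk_pow, h]
    rfl
  constructor
  · apply pLengthLE_one_of_normal_sylow 2
    exact normal_sylow_two (hq _) (pPrimeCore_quot_upperPSeries_one 2)
  · apply pLengthLE_one_of_normal_sylow 3
    exact normal_sylow_three (hq _) (pPrimeCore_quot_upperPSeries_one 3)

end Cfsg.Agent.S4227
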