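import Cfsg.Statements.S4230
-- import your own Cfsg.Agent.* helpers here
import Mathlib

set_option autoImplicit false
open Cfsg

namespace Cfsg.Agent.S4230

open Polynomial

/-- reduction of the evaluation mod `p` -/
theorem dvd_eval_iff (p q f : ℕ) :
    ((p : ℤ) ∣ (cyclotomic f ℤ).eval (q : ℤ)) ↔ (cyclotomic f (ZMod p)).eval (q : ZMod p) = 0 := by
  rw [← ZMod.intCast_zmod_eq_zero_iff_dvd, ← map_cyclotomic_int f (ZMod p)]
  have : ((q : ℕ) : ZMod p) = (Int.castRingHom (ZMod p)) (q : ℤ) := by simp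
  rw [this, eval_map_apply]
  simp

theorem order_facts (p q : ℕ) (hp : p.Prime) (hpq : ¬ p ∣ q) :
    0 < orderOf (q : ZMod p) ∧ ¬ p ∣ orderOf (q : ZMod p) := by
  have : Fact p.Prime := ⟨hp⟩
  have hq0 : (q : ZMod p) ≠ 0 := by
    rw [Ne, ZMod.natCast_eq_zero_iff]; exact hpq
  have h1 : (q : ZMod p) ^ (p - 1) = 1 := ZMod.pow_card_sub_one_eq_one hq0
  have hdvd : orderOf (q : ZMod p) ∣ p - 1 := orderOf_dvd_of_pow_eq_one h1
  have hp1 : 0 < p - 1 := Nat.sub_pos_of_lt hp.one_lt
  have hpos : 0 < orderOf (q : ZMod p) := Nat.pos_of_dvd_of_pos hdvd hp1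
  refine ⟨hpos, ?_⟩
  intro h
  have := Nat.le_of_dvd hp1 (h.trans hdvd)
  omega

theorem eval_zero_iff (p q m j : ℕ) (hp : p.Prime) (hm : ¬ p ∣ m) :
    (cyclotomic (p ^ j * m) (ZMod p)).eval (q : ZMod p) = 0 ↔ orderOf (q : ZMod p) = m := by
  have : Fact p.Prime := ⟨hp⟩
  have hmne : NeZero ((m : ℕ) : ZMod p) := ⟨by
    rw [Ne, ZMod.natCast_eq_zero_iff]; exact hm⟩
  have base : (cyclotomic m (ZMod p)).eval (q : ZMod p) = 0 ↔ orderOf (q : ZMod p) = m := by
    have := isRoot_cyclotomic_iff (n := m) (R := ZMod p) (μ := (q : ZMod p))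
    rw [IsRoot.def] at this
    rw [this]
    constructor
    · intro h; exact h.eq_orderOf.symm
    · intro h; rw [← h]; exact IsPrimitiveRoot.orderOf _
  rcases Nat.eq_zero_or_pos j with hj | hj
  · subst hj
    simpa using base
  · rw [cyclotomic_mul_prime_pow_eq (ZMod p) hm hj, eval_pow, pow_eq_zero_iff, base]
    have : p ^ (j - 1) < p ^ j := Nat.pow_lt_pow_right hp.one_lt (by omega)
    omega

/-- Let p be an odd prime, q a natural number not divisible by p, and e the multiplicative order of q modulo p. For a natural number f, p divides the value at q of the f-th cyclotomic polynomial if and only if f = e·p^j for some j ≥ 0. -/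
theorem result (p q f : ℕ) (hp : p.Prime) (hp2 : p ≠ 2) (hpq : ¬ p ∣ q) :
    ((p : ℤ) ∣ (Polynomial.cyclotomic f ℤ).eval (q : ℤ)) ↔ ∃ j : ℕ, f = orderOf (q : ZMod p) * p ^ j := by
  have : Fact p.Prime := ⟨hp⟩
  obtain ⟨hepos, hediv⟩ := order_facts p q hp hpq
  rw [dvd_eval_iff]
  rcases Nat.eq_zero_or_pos f with hf | hf
  · subst hf
    rw [cyclotomic_zero]
    simp only [eval_one, one_ne_zero, false_iff]
    rintro ⟨j, hj⟩
    have : 0 < orderOf (q : ZMod p) * p ^ j := Nat.mul_pos hepos (pow_pos hp.pos j)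
    omega
  · obtain ⟨j, m, hm, hfm⟩ := Nat.exists_eq_pow_mul_and_not_dvd hf.ne' p hp.ne_one
    rw [hfm, eval_zero_iff p q m j hp hm]
    constructor
    · intro h
      exact ⟨j, by rw [h, mul_comm]⟩
    · rintro ⟨j', hj'⟩
      set e := orderOf (q : ZMod p) with he
      -- p^j * m = e * p^j'
      rcases lt_trichotomy j j' with hlt | heq | hgt
      · exfalso
        obtain ⟨d, rfl⟩ : ∃ d, j' = j + d + 1 := ⟨j' - j - 1, by omega⟩
        have : p ^ j * m = p ^ j * (e * p ^ d * p) := by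
          rw [hj']; ring
        have := Nat.eq_of_mul_eq_mul_left (pow_pos hp.pos j) this
        exact hm ⟨e * p ^ d, by rw [this]; ring⟩
      · subst heq
        have : p ^ j * m = p ^ j * e := by rw [hj']; ring
        exact (Nat.eq_of_mul_eq_mul_left (pow_pos hp.pos j) this).symm
      · exfalso
        obtain ⟨d, rfl⟩ : ∃ d, j = j' + d + 1 := ⟨j - j' - 1, by omega⟩
        have : p ^ j' * (m * p ^ d * p) = p ^ j' * e := by
          rw [← mul_comm e, ← hj']; ring
        have := Nat.eq_of_mul_eq_mul_left (pow_pos hp.pos j') this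
        exact hediv ⟨m * p ^ d, by rw [← this]; ring⟩

end Cfsg.Agent.S4230
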