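import Cfsg.Statements.S4231
import Cfsg.Agent.Lib.Helper99.AltAut

set_option autoImplicit false
open Cfsg

namespace Cfsg.Agent.S4231

open Cfsg.Agent.Lib.Helper99 Equiv

/-- a noncommutative Sylow `r`-subgroup (`r` odd) of a group of automorphisms of `A_n` forces
`r^2 ≤ n` -/
theorem sq_le_of_not_comm (n : ℕ) (hn : 5 ≤ n) (G : Subgroup (MulAut (alternatingGroup (Fin n))))
    (r : ℕ) [hr : Fact r.Prime] (hr2 : r ≠ 2) (P : Sylow r G)
    (hP : ¬ IsMulCommutative (P : Subgroup G)) : r ^ 2 ≤ n := by
  by_contra hlt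
  rw [not_le] at hlt
  apply hP
  let c : Perm (Fin n) →* MulAut (alternatingGroup (Fin n)) := MulAut.conjNormal
  have hcinj : Function.Injective c :=
    Cfsg.Agent.S2119.conjNormal_injective (by rw [Fintype.card_fin]; omega)
  -- the image R of P in Aut
  let R : Subgroup (MulAut (alternatingGroup (Fin n))) := (P : Subgroup G).map G.subtype
  have hR : IsPGroup r R := P.isPGroup'.map G.subtype
  have hRle : R ≤ c.range := by
    intro f hf
    apply mem_range_conjNormal_of_prime_pow hn hr.out hr2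
    obtain ⟨k, hk⟩ := hR ⟨f, hf⟩
    have h1 : f ^ r ^ k = 1 := by
      have := congrArg Subtype.val hk
      simpa using this
    obtain ⟨j, -, hj⟩ := (Nat.dvd_prime_pow hr.out).mp (orderOf_dvd_of_pow_eq_one h1)
    exact ⟨j, hj⟩
  let S : Subgroup (Perm (Fin n)) := R.comap c
  have hS : IsPGroup r S := hR.comap_of_injective c hcinj
  refine ⟨⟨fun a b => ?_⟩⟩
  have ha : ((a : G) : MulAut (alternatingGroup (Fin n))) ∈ R := ⟨a, a.2, rfl⟩
  have hb : ((b : G) : MulAut (alternatingGroup (Fin n))) ∈ R := ⟨b, b.2, rfl⟩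
  obtain ⟨x, hx⟩ := hRle ha
  obtain ⟨y, hy⟩ := hRle hb
  have hxS : x ∈ S := by show c x ∈ R; rw [hx]; exact ha
  have hyS : y ∈ S := by show c y ∈ R; rw [hy]; exact hb
  have hxy := comm_of_isPGroup_perm hr.out hlt S hS x y hxS hyS
  apply Subtype.ext
  apply Subtype.ext
  show ((a : G) : MulAut (alternatingGroup (Fin n))) * ((b : G) : MulAut (alternatingGroup (Fin n)))
    = ((b : G) : MulAut (alternatingGroup (Fin n))) * ((a : G) : MulAut (alternatingGroup (Fin n)))
  rw [← hx, ← hy, ← map_mul, ← map_mul, hxy]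

/-- an element of `A_n` of order `m` gives an element of `G` of order `m` -/
theorem exists_orderOf_of_alt (n : ℕ) (hn : 5 ≤ n) (G : Subgroup (MulAut (alternatingGroup (Fin n))))
    (hG : (MulAut.conj : alternatingGroup (Fin n) →* MulAut (alternatingGroup (Fin n))).range ≤ G)
    (m : ℕ) (h : ∃ σ : alternatingGroup (Fin n), orderOf σ = m) : ∃ g : G, orderOf g = m := by
  obtain ⟨σ, hσ⟩ := h
  refine ⟨⟨MulAut.conj σ, hG ⟨σ, rfl⟩⟩, ?_⟩
  rw [← Subgroup.orderOf_coe]
  show orderOf (MulAut.conj σ) = m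
  rw [orderOf_injective _ (conj_alt_injective (by omega)) σ, hσ]

/-- Let n ≥ 5 and let G be a group of automorphisms of the alternating group of degree n containing all inner automorphisms. If p ≠ q are primes and G has no element of order pq, then every Sylow p-subgroup of G is abelian or every Sylow q-subgroup of G is abelian. -/
theorem result (n : ℕ) (hn : 5 ≤ n) (G : Subgroup (MulAut (alternatingGroup (Fin n))))
    (hG : (MulAut.conj : alternatingGroup (Fin n) →* MulAut (alternatingGroup (Fin n))).range ≤ G)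
    (p q : ℕ) [Fact p.Prime] [Fact q.Prime] (hpq : p ≠ q) (h : ∀ g : G, orderOf g ≠ p * q) :
    (∀ P : Sylow p G, IsMulCommutative (P : Subgroup G)) ∨ (∀ Q : Sylow q G, IsMulCommutative (Q : Subgroup G)) := by
  have hp : p.Prime := Fact.out
  have hq : q.Prime := Fact.out
  by_contra hcon
  rw [not_or] at hcon
  obtain ⟨h1, h2⟩ := hcon
  push Not at h1 h2
  obtain ⟨P, hP⟩ := h1
  obtain ⟨Q, hQ⟩ := h2
  have key : ∃ σ : alternatingGroup (Fin n), orderOf σ = p * q := by
    by_cases hp2 : p = 2
    · have hq2 : q ≠ 2 := fun h => hpq (hp2.trans h.symm)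
      have hqn := sq_le_of_not_comm n hn G q hq2 Q hQ
      have hq3 : 3 ≤ q := by have := hq.two_le; omega
      rw [hp2]
      exact exists_orderOf_alt_two hq hq2 (by nlinarith)
    · have hpn := sq_le_of_not_comm n hn G p hp2 P hP
      have hp3 : 3 ≤ p := by have := hp.two_le; omega
      by_cases hq2 : q = 2
      · rw [hq2, mul_comm]
        exact exists_orderOf_alt_two hp hp2 (by nlinarith)
      · have hqn := sq_le_of_not_comm n hn G q hq2 Q hQ
        have hq3 : 3 ≤ q := by have := hq.two_le; omega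
        exact exists_orderOf_alt_odd hp hq hpq hp2 hq2 (by nlinarith)
  obtain ⟨g, hg⟩ := exists_orderOf_of_alt n hn G hG (p * q) key
  exact h g hg

end Cfsg.Agent.S4231
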