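import Mathlib
import Cfsg.Statements.S4234
import Cfsg.Agent.Lib.Helper14.Order1092D
import Cfsg.Agent.Lib.Helper14.Order1092E
import Cfsg.Agent.Lib.Helper53.SL2Unipotent
-- import your own Cfsg.Agent.* helpers here

set_option autoImplicit false
open Cfsg

namespace Cfsg.Agent.S4234

open Cfsg.Agent.Lib.Helper14

theorem two_ne_zero_thirteen : (2 : ZMod 13) ≠ 0 := by decide

/-- the case `K ≅ SL₂(13)` -/
theorem sl_case {K : Type*} [Group K] [Finite K]
    (e : K ≃* Matrix.SpecialLinearGroup (Fin 2) (ZMod 13)) (J : Subgroup K) (hJ : ¬ J.Normal) :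
    IsCoatom (Subgroup.normalizer (J : Set K)) := by
  set π : K →* Matrix.ProjectiveSpecialLinearGroup (Fin 2) (ZMod 13) :=
    (QuotientGroup.mk' (Subgroup.center (Matrix.SpecialLinearGroup (Fin 2) (ZMod 13)))).comp
      e.toMonoidHom with hπ
  have hsurj : Function.Surjective π := by
    intro y
    obtain ⟨g, rfl⟩ := QuotientGroup.mk'_surjective _ y
    exact ⟨e.symm g, by simp [hπ]⟩
  have hker : π.ker = (Subgroup.center (Matrix.SpecialLinearGroup (Fin 2) (ZMod 13))).map
      e.symm.toMonoidHom := by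
    ext k
    rw [MonoidHom.mem_ker, Subgroup.mem_map]
    constructor
    · intro h
      refine ⟨e k, ?_, by simp⟩
      have : (QuotientGroup.mk' _) (e k) = 1 := h
      rwa [← MonoidHom.mem_ker, QuotientGroup.ker_mk'] at this
    · rintro ⟨g, hg, rfl⟩
      show (QuotientGroup.mk' _) (e (e.symm g)) = 1
      rw [MulEquiv.apply_symm_apply, ← MonoidHom.mem_ker, QuotientGroup.ker_mk']
      exact hg
  have hcardZ : Nat.card (Subgroup.center (Matrix.SpecialLinearGroup (Fin 2) (ZMod 13))) = 2 := by
    rw [card_center_SL2_eq_gcd, ZMod.card]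
    norm_num
  have hcard : Nat.card π.ker = 2 := by
    rw [hker, Subgroup.card_map_of_injective (f := e.symm.toMonoidHom) e.symm.injective, hcardZ]
  -- the central involution
  obtain ⟨⟨z, hzZ⟩, hz1, -⟩ := (Nat.card_eq_two_iff' (1 : π.ker)).mp hcard
  have hz1' : z ≠ 1 := fun h => hz1 (Subtype.ext h)
  have hzz : z * z = 1 := by
    have : (⟨z, hzZ⟩ : π.ker) ^ 2 = 1 := by
      have h := pow_card_eq_one' (G := π.ker) (x := ⟨z, hzZ⟩)
      rwa [hcard] at h
    rw [pow_two] at this
    exact congrArg Subtype.val this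
  have hinv : ∀ x : K, x * x = 1 → x ∈ π.ker := by
    intro x hx
    by_cases hx1 : x = 1
    · rw [hx1]; exact π.ker.one_mem
    · have h1 : e x * e x = 1 := by rw [← map_mul, hx, map_one]
      have h2 : e z * e z = 1 := by rw [← map_mul, hzz, map_one]
      have h3 : e x ≠ 1 := fun h => hx1 ((MulEquiv.map_eq_one_iff e).mp h)
      have h4 : e z ≠ 1 := fun h => hz1' ((MulEquiv.map_eq_one_iff e).mp h)
      have := Cfsg.Agent.Lib.Helper53.sq_eq_one_unique two_ne_zero_thirteen _ _ h1 h3 h2 h4
      rw [e.injective this]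
      exact hzZ
  exact isCoatom_normalizer_of_central_ext h1092_psl2_thirteen π hsurj hcard hinv J hJ

/-- the case `K ≅ PSL₂(13)` -/
theorem psl_case {K : Type*} [Group K] [Finite K]
    (e : K ≃* Matrix.ProjectiveSpecialLinearGroup (Fin 2) (ZMod 13)) (J : Subgroup K)
    (hJ : ¬ J.Normal) : IsCoatom (Subgroup.normalizer (J : Set K)) := by
  apply (h1092_psl2_thirteen.of_mulEquiv e).isCoatom_normalizer
  · rintro rfl
    exact hJ inferInstance
  · rintro rfl
    exact hJ inferInstance


/-- Let K be isomorphic to PSL(2, 13) or to SL(2, 13) and let S be a finite abelian group of order coprime to the order of K. Then in the direct product K × S every subgroup that is not normal has a normalizer that is a maximal subgroup. -/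
theorem result {K S : Type*} [Group K] [CommGroup S] [Finite K] [Finite S]
    (hK : Nonempty (K ≃* Matrix.ProjectiveSpecialLinearGroup (Fin 2) (ZMod 13)) ∨
      Nonempty (K ≃* Matrix.SpecialLinearGroup (Fin 2) (ZMod 13)))
    (hKS : (Nat.card K).Coprime (Nat.card S)) (H : Subgroup (K × S)) (hH : ¬ H.Normal) :
    IsCoatom (Subgroup.normalizer (H : Set (K × S))) := by
  apply isCoatom_normalizer_prod hKS _ H hH
  rcases hK with ⟨⟨e⟩⟩ | ⟨⟨e⟩⟩
  · exact fun J hJ => psl_case e J hJ
  · exact fun J hJ => sl_case e J hJ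

end Cfsg.Agent.S4234
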