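import Cfsg.Statements.S4236
import Cfsg.Agent.S4303
import Cfsg.Agent.Lib.Helper96.SylowTwoPPlusOne

set_option autoImplicit false
open Cfsg

namespace Cfsg.Agent.S4236

/-- No finite simple group has exactly `35` Sylow `17`-subgroups. -/
theorem simple_aux {S : Type*} [Group S] [Finite S] [IsSimpleGroup S] :
    Nat.card (Sylow 17 S) ≠ 35 := by
  intro h35
  have : Fact (Nat.Prime 17) := ⟨by norm_num⟩
  have hfact : ¬ 17 ^ 3 ∣ (2 * 17 + 1).factorial := by
    norm_num [Nat.factorial]
  obtain ⟨e, he1, hed, heG, hodd⟩ :=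
    Cfsg.Agent.Lib.Helper96.SylowTwoPPlusOne.exists_dvd_pred_of_simple (G := S) (p := 17)
      (by norm_num) hfact (by rw [h35])
  have h2 : ¬ 2 ∣ e := fun h =>
    (Nat.not_even_iff_odd.2 hodd) (even_iff_two_dvd.2 (h.trans heG))
  have hed' : e ∣ 2 ^ 4 := by
    have : (17 - 1 : ℕ) = 2 ^ 4 := by norm_num
    rwa [this] at hed
  obtain ⟨m, -, rfl⟩ := (Nat.dvd_prime_pow Nat.prime_two).1 hed'
  rcases Nat.eq_zero_or_pos m with hm | hm
  · subst hm
    exact he1 (pow_zero 2)
  · exact h2 (dvd_pow_self 2 hm.ne')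

/-- No finite group has exactly 35 Sylow 17-subgroups. -/
theorem result {G : Type*} [Group G] [Finite G] : Nat.card (Sylow 17 G) ≠ 35 := by
  intro h35
  have : Fact (Nat.Prime 17) := ⟨by norm_num⟩
  obtain ⟨l, hprod, hl⟩ := Cfsg.Agent.S4303.result (G := G) 17
  rw [h35] at hprod
  -- every entry of `l` is `1` or `35`, and is congruent to `1` mod `17`
  have hmem : ∀ m ∈ l, m = 1 := by
    intro m hm
    have hdvd : m ∣ 35 := hprod ▸ List.dvd_prod hm
    have hle : m ≤ 35 := Nat.le_of_dvd (by norm_num) hdvd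
    have hmod : m % 17 = 1 := by
      rcases hl m hm with ⟨-, h⟩ | ⟨S, _, _, hS, rfl⟩
      · exact h
      · exact card_sylow_modEq_one 17 S
    have h135 : m = 1 ∨ m = 35 := by
      interval_cases m <;> simp_all
    rcases h135 with h | h
    · exact h
    · exfalso
      subst h
      rcases hl 35 hm with ⟨hpp, -⟩ | ⟨S, _, _, hS, hS35⟩
      · rw [isPrimePow_iff_unique_prime_dvd] at hpp
        obtain ⟨q, -, hq⟩ := hpp
        have h5 := hq 5 ⟨by norm_num, by norm_num⟩
        have h7 := hq 7 ⟨by norm_num, by norm_num⟩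
        omega
      · exact simple_aux (S := S) hS35.symm
  have h1 : l.prod = 1 := List.prod_eq_one hmem
  omega

end Cfsg.Agent.S4236
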