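import Cfsg.Statements.S4238
-- import your own Cfsg.Agent.* helpers here
import Cfsg.Agent.S0071
import Cfsg.Agent.Lib.Helper70.PNilpSection
import Mathlib

set_option autoImplicit false
set_option linter.style.haveILetI false
open Cfsg

namespace Cfsg.Agent.S4238

open Cfsg.Agent.Lib.Helper70

/-- A finite `p`-group has an element whose order is the exponent. -/
theorem exists_orderOf_eq_exponent_of_pgroup {K : Type*} [Group K] [Finite K] {p : ℕ}
    [hp : Fact p.Prime] (hK : IsPGroup p K) : ∃ k : K, orderOf k = Monoid.exponent K := by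
  obtain ⟨k, hk⟩ := Finite.exists_max (fun k : K => orderOf k)
  refine ⟨k, Nat.dvd_antisymm (Monoid.order_dvd_exponent k) ?_⟩
  rw [Monoid.exponent_dvd_iff_forall_pow_eq_one]
  intro x
  rw [IsPGroup.iff_orderOf] at hK
  obtain ⟨a, ha⟩ := hK x
  obtain ⟨b, hb⟩ := hK k
  have hle : p ^ a ≤ p ^ b := by rw [← ha, ← hb]; exact hk x
  have hab : a ≤ b := (Nat.pow_le_pow_iff_right hp.out.one_lt).mp hle
  rw [← orderOf_dvd_iff_pow_eq_one, ha, hb]
  exact pow_dvd_pow p hab

theorem forward {G : Type*} [Group G] [Finite G] (p : ℕ) [hp : Fact p.Prime]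
    (h : Cfsg.HasNormalPComplement p G) (H : Subgroup G) (N : Subgroup H) [N.Normal]
    (hcore : Cfsg.pPrimeCore p (H ⧸ N) = ⊥) :
    ∃ k : H ⧸ N, orderOf k = Monoid.exponent (H ⧸ N) := by
  obtain ⟨P, M, hMn, hMc⟩ := h
  apply exists_orderOf_eq_exponent_of_pgroup (p := p)
  haveI := hMn
  have hGM : IsPGroup p (G ⧸ M) := by
    obtain ⟨n, hn⟩ := P.2.exists_card_eq
    apply IsPGroup.of_card (n := n)
    rw [← Subgroup.index_eq_card, hMc.symm.index_eq_card]
    exact hn
  have hMcard : (Nat.card M).Coprime p := by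
    rw [← hMc.index_eq_card]
    exact ((Nat.Prime.coprime_iff_not_dvd hp.out).mpr P.not_dvd_index).symm
  set L : Subgroup (H ⧸ N) := (M.subgroupOf H).map (QuotientGroup.mk' N) with hL
  have hLn : L.Normal := by
    haveI : (M.subgroupOf H).Normal := inferInstance
    exact Subgroup.Normal.map inferInstance _ (QuotientGroup.mk'_surjective N)
  have hLc : (Nat.card L).Coprime p := by
    have h1 : Nat.card L ∣ Nat.card (M.subgroupOf H) := Subgroup.card_map_dvd _ _
    have h2 : Nat.card (M.subgroupOf H) ∣ Nat.card M := by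
      rw [← Subgroup.comap_subtype]
      exact Subgroup.card_comap_dvd_of_injective M H.subtype H.subtype_injective
    exact Nat.Coprime.coprime_dvd_left (h1.trans h2) hMcard
  have hLbot : L = ⊥ := by
    have : L ≤ Cfsg.pPrimeCore p (H ⧸ N) := le_sSup ⟨hLn, hLc⟩
    rw [hcore] at this
    exact le_bot_iff.mp this
  have hle : M.subgroupOf H ≤ N := by
    intro x hx
    have : QuotientGroup.mk' N x ∈ L := Subgroup.mem_map_of_mem _ hx
    rw [hLbot, Subgroup.mem_bot] at this
    exact (QuotientGroup.eq_one_iff x).mp this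
  intro k
  obtain ⟨x, rfl⟩ := QuotientGroup.mk_surjective k
  obtain ⟨n, hn⟩ := hGM ((x : G) : G ⧸ M)
  refine ⟨n, ?_⟩
  rw [← QuotientGroup.mk_pow, QuotientGroup.eq_one_iff]
  apply hle
  rw [Subgroup.mem_subgroupOf]
  rw [← QuotientGroup.mk_pow, QuotientGroup.eq_one_iff] at hn
  simpa using hn

/-- A `p`-subgroup `Q` and a `p'`-element `g` normalizing but not centralizing it. -/
def Bad {G : Type*} [Group G] (p : ℕ) (Q : Subgroup G) (g : G) : Prop :=
  IsPGroup p Q ∧ g ∈ Subgroup.normalizer (Q : Set G) ∧ (orderOf g).Coprime p ∧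
    g ∉ Subgroup.centralizer (Q : Set G)

theorem exists_minimal_bad {G : Type*} [Group G] (p : ℕ) (h : ∃ (Q : Subgroup G) (g : G), Bad p Q g) :
    ∃ (Q : Subgroup G) (g : G), Bad p Q g ∧
      (∀ (Q' : Subgroup G) (g' : G), Bad p Q' g' → Nat.card Q ≤ Nat.card Q') ∧
      (∀ g' : G, Bad p Q g' → orderOf g ≤ orderOf g') := by
  set S1 : Set ℕ := {n | ∃ (Q : Subgroup G) (g : G), Bad p Q g ∧ Nat.card Q = n} with hS1
  have hS1ne : S1.Nonempty := by
    obtain ⟨Q, g, hB⟩ := h
    exact ⟨Nat.card Q, Q, g, hB, rfl⟩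
  obtain ⟨Q, g₁, hB₁, hQcard⟩ := Nat.sInf_mem hS1ne
  set S2 : Set ℕ := {m | ∃ g : G, Bad p Q g ∧ orderOf g = m} with hS2
  have hS2ne : S2.Nonempty := ⟨orderOf g₁, g₁, hB₁, rfl⟩
  obtain ⟨g, hB, hgord⟩ := Nat.sInf_mem hS2ne
  refine ⟨Q, g, hB, ?_, ?_⟩
  · intro Q' g' hB'
    rw [hQcard]
    exact Nat.sInf_le ⟨Q', g', hB', rfl⟩
  · intro g' hB'
    rw [hgord]
    exact Nat.sInf_le ⟨g', hB', rfl⟩

theorem backward {G : Type*} [Group G] [Finite G] (p : ℕ) [hp : Fact p.Prime]
    (hsec : ∀ (H : Subgroup G) (N : Subgroup H) [N.Normal], Cfsg.pPrimeCore p (H ⧸ N) = ⊥ →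
        ∃ k : H ⧸ N, orderOf k = Monoid.exponent (H ⧸ N)) :
    Cfsg.HasNormalPComplement p G := by
  by_contra hno
  have P : Sylow p G := default
  have h1 : ¬ ∃ N : Subgroup G, N.Normal ∧ N.IsComplement' (P : Subgroup G) :=
    fun ⟨N, hN⟩ => hno ⟨P, N, hN⟩
  rw [Cfsg.Agent.S0071.result P] at h1
  push Not at h1
  obtain ⟨Q₀, hQ₀P, g₀, hg₀N, hg₀c, hg₀C⟩ := h1
  have hbad : ∃ (Q : Subgroup G) (g : G), Bad p Q g :=
    ⟨Q₀, g₀, P.2.to_le hQ₀P, hg₀N, hg₀c, hg₀C⟩
  obtain ⟨Q, g, ⟨hQ, hgN, hgc, hgC⟩, hminQ, hming⟩ := exists_minimal_bad p hbad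
  -- the subgroup `H = Q ⟨g⟩`
  set Hs : Subgroup G := Q ⊔ Subgroup.zpowers g with hHs
  have hQle : Q ≤ Hs := le_sup_left
  have hgHs : g ∈ Hs := (le_sup_right : Subgroup.zpowers g ≤ Hs) (Subgroup.mem_zpowers g)
  have hHsN : Hs ≤ Subgroup.normalizer (Q : Set G) :=
    sup_le Subgroup.le_normalizer ((Subgroup.zpowers_le).mpr hgN)
  set QH : Subgroup Hs := Q.subgroupOf Hs with hQH
  set gH : Hs := ⟨g, hgHs⟩ with hgH
  have hg1 : orderOf g ≠ 1 := by
    intro h
    rw [orderOf_eq_one_iff] at h
    apply hgC
    rw [h]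
    exact Subgroup.one_mem _
  set q := (orderOf g).minFac with hq
  have hqprime : q.Prime := Nat.minFac_prime hg1
  have hqdvd : q ∣ orderOf g := Nat.minFac_dvd _
  -- `g` centralizes `x ∈ Q` in the form we need
  have hcentr_iff : ∀ (a : G), a ∈ Subgroup.centralizer (Q : Set G) ↔ ∀ x ∈ Q, a * x * a⁻¹ = x := by
    intro a
    rw [Subgroup.mem_centralizer_iff]
    constructor
    · intro h x hx
      rw [mul_inv_eq_iff_eq_mul]
      exact (h x hx).symm
    · intro h x hx
      have := h x hx
      rw [mul_inv_eq_iff_eq_mul] at this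
      exact this.symm
  have D : MinData p QH gH q := by
    refine
      { normal := Subgroup.normal_subgroupOf_of_le_normalizer hHsN
        pgroup := ?_
        pprime := hp.out
        cop := ?_
        top := ?_
        nc := ?_
        min := ?_
        qprime := hqprime
        qne := ?_
        powq := ?_ }
    · rw [hQH, ← Subgroup.comap_subtype]
      exact hQ.comap_subtype
    · rw [hgH, Subgroup.orderOf_mk]
      exact hgc
    · apply Subgroup.map_injective Hs.subtype_injective
      rw [Subgroup.map_sup, hQH, Subgroup.map_subgroupOf_eq_of_le hQle, MonoidHom.map_zpowers,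
        ← MonoidHom.range_eq_map, Subgroup.range_subtype]
      rfl
    · intro h
      apply hgC
      rw [hcentr_iff]
      intro x hx
      have := h ⟨x, hQle hx⟩ (by rw [hQH, Subgroup.mem_subgroupOf]; exact hx)
      have := congrArg Subtype.val this
      simpa using this
    · intro Q' hlt hinv x hx
      set Q'' : Subgroup G := Q'.map Hs.subtype with hQ''
      have hcard'' : Nat.card Q'' = Nat.card Q' :=
        Subgroup.card_map_of_injective Hs.subtype_injective
      have hcardQH : Nat.card QH = Nat.card Q := by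
        rw [← Subgroup.card_map_of_injective Hs.subtype_injective, hQH,
          Subgroup.map_subgroupOf_eq_of_le hQle]
      have hcardlt : Nat.card Q' < Nat.card QH := by
        rcases Nat.lt_or_ge (Nat.card Q') (Nat.card QH) with h | h
        · exact h
        · exact absurd (Subgroup.eq_of_le_of_card_ge hlt.le h) hlt.ne
      have hcen : g ∈ Subgroup.centralizer (Q'' : Set G) := by
        by_contra hnc
        have hB : Bad p Q'' g := by
          refine ⟨?_, ?_, hgc, hnc⟩
          · have : IsPGroup p Q' := by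
              have h1 : IsPGroup p QH := by
                rw [hQH, ← Subgroup.comap_subtype]; exact hQ.comap_subtype
              exact h1.to_le hlt.le
            exact this.map _
          · rw [Subgroup.mem_normalizer_iff]
            intro y
            constructor
            · rintro ⟨y', hy', rfl⟩
              refine ⟨gH * y' * gH⁻¹, (hinv y').mp hy', ?_⟩
              simp [hgH]
            · rintro ⟨z, hz, hzy⟩
              have hz' : gH⁻¹ * z * gH ∈ Q' := by
                rw [hinv]
                have : gH * (gH⁻¹ * z * gH) * gH⁻¹ = z := by group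
                rw [this]; exact hz
              refine ⟨gH⁻¹ * z * gH, hz', ?_⟩
              have : (Hs.subtype z : G) = g * y * g⁻¹ := hzy
              simp only [map_mul, map_inv, this, hgH, Subgroup.subtype_apply]
              group
        have := hminQ Q'' g hB
        omega
      rw [Subgroup.mem_centralizer_iff] at hcen
      have h2 := hcen (x : G) ⟨x, hx, rfl⟩
      apply Subtype.ext
      have : (g : G) * (x : G) * g⁻¹ = x := by rw [← h2]; group
      simpa [hgH] using this
    · intro h
      rw [h] at hqdvd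
      have := Nat.Coprime.eq_one_of_dvd hgc.symm hqdvd
      exact hp.out.one_lt.ne' this
    · have hcen : g ^ q ∈ Subgroup.centralizer (Q : Set G) := by
        by_contra hnc
        have hB : Bad p Q (g ^ q) := by
          refine ⟨hQ, Subgroup.pow_mem _ hgN q, ?_, hnc⟩
          exact Nat.Coprime.coprime_dvd_left (orderOf_pow_dvd q) hgc
        have h1 := hming _ hB
        rw [orderOf_pow_of_dvd hqprime.ne_zero hqdvd] at h1
        have h2 : orderOf g / q < orderOf g :=
          Nat.div_lt_self (orderOf_pos g) hqprime.one_lt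
        omega
      rw [hcentr_iff] at hcen
      intro x hx
      rw [hQH, Subgroup.mem_subgroupOf] at hx
      apply Subtype.ext
      have := hcen _ hx
      simpa [hgH] using this
  obtain ⟨N, hN, hcore, hnoel⟩ := D.exists_bad_section
  haveI := hN
  exact hnoel (hsec Hs N hcore)

/-- Let G be a finite group and p a prime. Then G has a normal p-complement if and only if every section K = H/N of G (N a normal subgroup of a subgroup H) whose largest normal subgroup of order prime to p is trivial contains an element whose order equals the exponent of K. -/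
theorem result {G : Type*} [Group G] [Finite G] (p : ℕ) [Fact p.Prime] :
    Cfsg.HasNormalPComplement p G ↔
      ∀ (H : Subgroup G) (N : Subgroup H) [N.Normal], Cfsg.pPrimeCore p (H ⧸ N) = ⊥ →
        ∃ k : H ⧸ N, orderOf k = Monoid.exponent (H ⧸ N) := by
  constructor
  · intro h H N _ hcore
    exact forward p h H N hcore
  · intro h
    exact backward p h

end Cfsg.Agent.S4238
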