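import Cfsg.Statements.S4242
-- import your own Cfsg.Agent.* helpers here
import Cfsg.Agent.Lib.Helper70.MaxNilp
import Mathlib

set_option autoImplicit false
set_option linter.style.haveILetI false
open Cfsg

namespace Cfsg.Agent.S4242

open Cfsg.Agent.Lib.Helper70

/-- Let G be a finite group and p a prime dividing its order. Every maximal subgroup of G of order divisible by p is nilpotent if and only if G is nilpotent, or G is a minimal non-nilpotent group, or G is the internal direct product of a normal subgroup of order p and a normal minimal non-nilpotent subgroup of order prime to p. -/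
theorem result {G : Type*} [Group G] [Finite G] (p : ℕ) (hp : p.Prime) (hpG : p ∣ Nat.card G) :
    (∀ M : Subgroup G, IsCoatom M → p ∣ Nat.card M → Group.IsNilpotent M) ↔
      (Group.IsNilpotent G ∨ Cfsg.IsMinimalNonNilpotent G ∨
        ∃ Z K : Subgroup G, Z.Normal ∧ K.Normal ∧ Z ⊓ K = ⊥ ∧ Z ⊔ K = ⊤ ∧ Nat.card Z = p ∧
          Cfsg.IsMinimalNonNilpotent K ∧ ¬ p ∣ Nat.card K) := by
  haveI : Fact p.Prime := ⟨hp⟩
  constructor
  · intro h
    have hmn : MaxNilp p G := h
    by_cases hnil : Group.IsNilpotent G
    · exact Or.inl hnil
    by_cases hmin : Cfsg.IsMinimalNonNilpotent G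
    · exact Or.inr (Or.inl hmin)
    right; right
    obtain ⟨M, hM, hMn⟩ := exists_coatom_not_nilpotent hmin hnil
    have hpM : ¬ p ∣ Nat.card M := fun hd => hMn (h M hM hd)
    have P : Sylow p G := default
    have hPne : (P : Subgroup G) ≠ ⊥ := by
      intro h0
      have hcard : Nat.card (P : Subgroup G) = 1 := by rw [h0]; exact Subgroup.card_bot
      have hnd := P.not_dvd_index
      apply hnd
      have h1 : (P : Subgroup G).index * Nat.card (P : Subgroup G) = Nat.card G :=
        (P : Subgroup G).index_mul_card
      rw [hcard, mul_one] at h1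
      rw [h1]
      exact hpG
    by_cases hPn : (P : Subgroup G).Normal
    · exact caseB hmn P hPn hPne M hM hMn hpM
    · exact (caseA_false hmn P hPn M hM hMn hpM).elim
  · rintro (hnil | hmin | ⟨Z, K, hZn, hKn, hinf, hsup, hZ, hK, hpK⟩)
    · intro M _ _
      haveI := hnil
      infer_instance
    · intro M hM _
      exact hmin.2 M hM.1
    · exact maxNilp_of_prod Z K hZn hKn hinf hsup hZ hK hpK

end Cfsg.Agent.S4242
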