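import Cfsg.Statements.S4244
-- import your own Cfsg.Agent.* helpers here
import Mathlib

set_option autoImplicit false
open Cfsg

namespace Cfsg.Agent.S4244

/-- For a normal subgroup `N` of a finite group and any subgroup `K`, `|N : N ∩ K|` divides `|G : K|`. -/
theorem relIndex_normal_dvd_index {G : Type*} [Group G] [Finite G] (N K : Subgroup G) [N.Normal] :
    K.relIndex N ∣ K.index := by
  have hJ : K.relIndex (K ⊔ N) ∣ K.index := Subgroup.relIndex_dvd_index_of_le le_sup_left
  suffices h : K.relIndex N = K.relIndex (K ⊔ N) by rw [h]; exact hJ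
  have a : Nat.card K * K.relIndex (K ⊔ N) = Nat.card (K ⊔ N : Subgroup G) := by
    have := Subgroup.relIndex_mul_relIndex (⊥ : Subgroup G) K (K ⊔ N) bot_le le_sup_left
    simpa [Subgroup.relIndex_bot_left] using this
  have b : Nat.card N * N.relIndex (K ⊔ N) = Nat.card (K ⊔ N : Subgroup G) := by
    have := Subgroup.relIndex_mul_relIndex (⊥ : Subgroup G) N (K ⊔ N) bot_le le_sup_right
    simpa [Subgroup.relIndex_bot_left] using this
  have b' : N.relIndex (K ⊔ N) = N.relIndex K := Subgroup.relIndex_sup_right K N
  have c : Nat.card (N ⊓ K : Subgroup G) * N.relIndex K = Nat.card K := by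
    have := Subgroup.relIndex_mul_relIndex (⊥ : Subgroup G) (N ⊓ K) K bot_le inf_le_right
    simpa [Subgroup.relIndex_bot_left, Subgroup.inf_relIndex_right] using this
  have d : Nat.card (N ⊓ K : Subgroup G) * K.relIndex N = Nat.card N := by
    have := Subgroup.relIndex_mul_relIndex (⊥ : Subgroup G) (N ⊓ K) N bot_le inf_le_left
    simpa [Subgroup.relIndex_bot_left, Subgroup.inf_relIndex_left] using this
  have hc : 0 < Nat.card (N ⊓ K : Subgroup G) := Nat.card_pos
  have hy : 0 < N.relIndex K := by
    rcases Nat.eq_zero_or_pos (N.relIndex K) with h | h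
    · rw [h, mul_zero] at c
      exact absurd c.symm (Nat.card_pos).ne'
    · exact h
  rw [b'] at b
  -- c * y * z = c * x * y
  have e : Nat.card (N ⊓ K : Subgroup G) * N.relIndex K * K.relIndex (K ⊔ N)
      = Nat.card (N ⊓ K : Subgroup G) * K.relIndex N * N.relIndex K := by
    rw [c, d, a, b]
  have e' : (Nat.card (N ⊓ K : Subgroup G) * N.relIndex K) * K.relIndex (K ⊔ N)
      = (Nat.card (N ⊓ K : Subgroup G) * N.relIndex K) * K.relIndex N := by
    rw [e]; ring
  exact (Nat.eq_of_mul_eq_mul_left (Nat.mul_pos hc hy) e').symm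

theorem aux {G : Type*} [Group G] [Finite G] (H : Subgroup G) (hH : H.IsSubnormal) :
    ∀ K : Subgroup G, K.relIndex H ∣ K.index := by
  induction hH with
  | top => intro K; rw [Subgroup.relIndex_top_right]
  | step H L hle hL hN ih =>
    intro K
    refine dvd_trans ?_ (ih K)
    have := @relIndex_normal_dvd_index L _ _ (H.subgroupOf L) (K.subgroupOf L) hN
    rw [Subgroup.relIndex_subgroupOf hle] at this
    exact this

/-- Let H be a subnormal subgroup of a finite group G. Then for every subgroup K of G the index of H ∩ K in H divides the index of K in G. -/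
theorem result {G : Type*} [Group G] [Finite G] (H : Subgroup G) (hH : H.IsSubnormal) (K : Subgroup G) :
    (H ⊓ K).relIndex H ∣ K.index := by
  rw [Subgroup.inf_relIndex_left]
  exact aux H hH K

end Cfsg.Agent.S4244
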