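import Cfsg.Statements.S4249
import Cfsg.Agent.S4155
import Cfsg.Agent.S3946

set_option autoImplicit false
open Cfsg

namespace Cfsg.Agent.S4249

/-- Kegel's theorem (S3946), as a hypothesis for now. -/
def KegelStmt.{u} : Prop :=
  ∀ {G : Type u} [Group G] [Finite G] (α : MulAut G), (orderOf α).Prime →
    (∀ x : G, (((List.range (orderOf α)).map (fun i : ℕ => (α ^ i) x)).prod = 1)) → Group.IsNilpotent G

theorem prod_conj_range {G : Type*} [Group G] (x h : G) (n : ℕ) :
    ((List.range n).map (fun i : ℕ => x ^ i * h * (x ^ i)⁻¹)).prod = (h * x) ^ n * (x ^ n)⁻¹ := by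
  induction n with
  | zero => simp
  | succ n ih =>
    rw [List.range_succ, List.map_append, List.prod_append, ih]
    simp only [List.map_cons, List.map_nil, List.prod_cons, List.prod_nil, mul_one]
    rw [pow_succ (h * x), pow_succ x]
    group

theorem main.{u} (kegel : KegelStmt.{u}) {G : Type u} [Group G] [Finite G] (p : ℕ) (hp : p.Prime) (hG : ¬ IsPGroup p G)
    (hH : Subgroup.closure {g : G | g ^ p ≠ 1} ≠ ⊤) :
    Group.IsNilpotent (Subgroup.closure {g : G | g ^ p ≠ 1}) ∧ (Subgroup.closure {g : G | g ^ p ≠ 1}).index = p := by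
  have := Fact.mk hp
  set H := Subgroup.closure {g : G | g ^ p ≠ 1} with hHdef
  -- H is normal
  have hnorm : H.Normal := by
    constructor
    intro n hn g
    have hle : H.map (MulAut.conj g).toMonoidHom ≤ H := by
      rw [hHdef, MonoidHom.map_closure, Subgroup.closure_le]
      rintro _ ⟨s, hs, rfl⟩
      apply Subgroup.subset_closure
      show (g * s * g⁻¹) ^ p ≠ 1
      intro h1
      apply hs
      rw [conj_pow] at h1
      have : s ^ p = g⁻¹ * (g * s ^ p * g⁻¹) * g := by group
      rw [this, h1]; group
    exact hle ⟨n, hn, rfl⟩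
  have hout : ∀ g : G, g ∉ H → g ^ p = 1 := by
    intro g hg
    by_contra h
    exact hg (Subgroup.subset_closure h)
  obtain ⟨x, hx⟩ : ∃ x, x ∉ H := by
    by_contra h
    push Not at h
    exact hH ((Subgroup.eq_top_iff' H).mpr h)
  have hxp : x ^ p = 1 := hout x hx
  -- nilpotency via Kegel
  have hnil : Group.IsNilpotent H := by
    let α : MulAut H := MulAut.conjNormal x
    have hαpow : ∀ i : ℕ, α ^ i = MulAut.conjNormal (x ^ i) := fun i => (map_pow _ _ _).symm
    have hαp : α ^ p = 1 := by rw [hαpow, hxp, map_one]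
    have hα1 : α ≠ 1 := by
      intro h1
      apply hG
      have hcomm : ∀ h ∈ H, x * h = h * x := by
        intro h hh
        have h2 : ((α ⟨h, hh⟩ : H) : G) = h := by rw [h1]; rfl
        rw [MulAut.conjNormal_apply] at h2
        calc x * h = (x * h * x⁻¹) * x := by group
          _ = h * x := by rw [h2]
      have hall : ∀ g : G, g ^ p = 1 := by
        intro g
        by_cases hg : g ∈ H
        · have h2 : x * g ∉ H := fun h3 => hx (by simpa using H.mul_mem h3 (H.inv_mem hg))
          have h3 := hout _ h2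
          rw [(show Commute x g from hcomm g hg).mul_pow, hxp, one_mul] at h3
          exact h3
        · exact hout g hg
      intro g
      exact ⟨1, by rw [pow_one]; exact hall g⟩
    have hord : orderOf α = p := orderOf_eq_prime hαp hα1
    apply kegel α (by rw [hord]; exact hp)
    intro h
    rw [hord]
    apply Subtype.ext
    rw [Subgroup.val_list_prod, List.map_map]
    have hfun : (Subtype.val ∘ fun i : ℕ => (α ^ i) h) = fun i : ℕ => x ^ i * (h : G) * (x ^ i)⁻¹ := by
      funext i
      simp only [Function.comp, hαpow, MulAut.conjNormal_apply]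
    rw [hfun, prod_conj_range, hxp, inv_one, mul_one]
    have h2 : (h : G) * x ∉ H := fun h3 => hx (by simpa using H.mul_mem (H.inv_mem h.2) h3)
    exact hout _ h2
  refine ⟨hnil, ?_⟩
  -- the quotient has exponent p
  have hQp : ∀ q : G ⧸ H, q ^ p = 1 := by
    intro q
    obtain ⟨g, rfl⟩ := QuotientGroup.mk_surjective q
    rw [← QuotientGroup.mk_pow]
    by_cases hg : g ∈ H
    · exact (QuotientGroup.eq_one_iff _).mpr (H.pow_mem hg p)
    · rw [hout g hg]; rfl
  have hQ : IsPGroup p (G ⧸ H) := fun q => ⟨1, by rw [pow_one]; exact hQp q⟩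
  obtain ⟨k, hk⟩ := IsPGroup.iff_card.mp hQ
  have hidx : H.index = p ^ k := by rw [Subgroup.index_eq_card]; exact hk
  rcases Nat.lt_or_ge k 2 with hk2 | hk2
  · interval_cases k
    · exfalso
      exact hH (Subgroup.index_eq_one.mp (by simpa using hidx))
    · simpa using hidx
  · exfalso
    -- H is not a p-group
    have hHnp : ¬ IsPGroup p H := by
      intro hHp
      apply hG
      obtain ⟨a, ha⟩ := IsPGroup.iff_card.mp hHp
      apply IsPGroup.of_card (n := a + k)
      rw [← Subgroup.card_mul_index H, ha, hidx, pow_add]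
    -- a prime q ≠ p dividing |H|
    obtain ⟨q, hq, hqp, hqd⟩ : ∃ q : ℕ, q.Prime ∧ q ≠ p ∧ q ∣ Nat.card H := by
      by_contra hcon
      push Not at hcon
      apply hHnp
      have h0 : Nat.card H ≠ 0 := Nat.card_pos.ne'
      have h1 : Nat.card H = p ^ (Nat.card H).primeFactorsList.length :=
        Nat.eq_prime_pow_of_unique_prime_dvd h0 (fun {d} hd hdd => by
          by_contra hne
          exact hcon d hd hne hdd)
      exact IsPGroup.of_card h1
    have := Fact.mk hq
    obtain ⟨S, hSn, hSq, hSle, -, hz⟩ :=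
      Cfsg.Agent.S4155.exists_normal_sylow_of_nilpotent H hnil q
    obtain ⟨z, hzS, hzc, hz1⟩ := hz hqd
    have := hSn
    let V : Subgroup G := S ⊓ Subgroup.centralizer (H : Set G)
    have hVn : V.Normal := inferInstance
    have hVc : IsMulCommutative V := by
      refine ⟨⟨fun a b => ?_⟩⟩
      apply Subtype.ext
      have ha : (a : G) ∈ H := hSle a.2.1
      have hb := Subgroup.mem_centralizer_iff.mp b.2.2 (a : G) ha
      exact hb
    have hV : V ≠ ⊥ := by
      intro h
      apply hz1
      have : z ∈ V := ⟨hzS, Subgroup.mem_centralizer_iff.mpr fun n hn => hzc n hn⟩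
      rw [h] at this
      exact Subgroup.mem_bot.mp this
    have hNV : ∀ n ∈ H, ∀ v ∈ V, n * v = v * n := fun n hn v hv =>
      Subgroup.mem_centralizer_iff.mp hv.2 n hn
    -- a subgroup of order p^2 in the quotient
    obtain ⟨B, hB⟩ := Sylow.exists_subgroup_card_pow_prime (G := G ⧸ H) p (n := 2)
      (by rw [hk]; exact pow_dvd_pow p hk2)
    have hBc : IsMulCommutative B := IsPGroup.isMulCommutative_of_card_eq_prime_sq (p := p) hB
    have hcyc : IsCyclic B := by
      apply Cfsg.Agent.S4155.isCyclic_of_fpf_quotient H V hV hNV B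
      intro y _ hy v hv hc
      have hvH : v ∈ H := hSle hv.1
      have h2 : v * y ∉ H := fun h3 => hy (by simpa using H.mul_mem (H.inv_mem hvH) h3)
      have h3 := hout _ h2
      rw [(show Commute v y from hc.symm).mul_pow, hout y hy, mul_one] at h3
      obtain ⟨e, he⟩ := hSq ⟨v, hv.1⟩
      have he' : v ^ (q ^ e) = 1 := by
        have := congrArg Subtype.val he
        simpa using this
      have hcop : Nat.Coprime p (q ^ e) :=
        Nat.Coprime.pow_right _ ((Nat.coprime_primes hp hq).mpr hqp.symm)
      exact orderOf_eq_one_iff.mp (Nat.eq_one_of_dvd_coprimes hcop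
        (orderOf_dvd_of_pow_eq_one h3) (orderOf_dvd_of_pow_eq_one he'))
    obtain ⟨b, hb⟩ := hcyc.exists_generator
    have hob : orderOf b = Nat.card B := orderOf_eq_card_of_forall_mem_zpowers hb
    have hbp : b ^ p = 1 := by
      apply Subtype.ext
      simpa using hQp (b : G ⧸ H)
    have hdvd : p ^ 2 ∣ p := by
      rw [← hB, ← hob]
      exact orderOf_dvd_of_pow_eq_one hbp
    have hle := Nat.le_of_dvd hp.pos hdvd
    have := hp.one_lt
    nlinarith

/-- Let G be a finite group and p a prime such that G is not a p-group, and suppose the Hughes subgroup H_p(G), generated by all elements g with g^p ≠ 1, is a proper subgroup. Then H_p(G) is nilpotent and has index p in G. -/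
theorem result {G : Type*} [Group G] [Finite G] (p : ℕ) (hp : p.Prime) (hG : ¬ IsPGroup p G)
    (hH : Subgroup.closure {g : G | g ^ p ≠ 1} ≠ ⊤) :
    Group.IsNilpotent (Subgroup.closure {g : G | g ^ p ≠ 1}) ∧ (Subgroup.closure {g : G | g ^ p ≠ 1}).index = p := by
  exact main (fun α hα hs => Cfsg.Agent.S3946.result α hα hs) p hp hG hH

end Cfsg.Agent.S4249
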