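import Cfsg.Statements.S4255
import Cfsg.Agent.Lib.Helper30.ClassGraphB
-- import your own Cfsg.Agent.* helpers here

set_option autoImplicit false
open Cfsg

namespace Cfsg.Agent.S4255

open Cfsg.Agent.Lib.Helper30.CG
open scoped Pointwise

/-- the structure theorem under the oriented hypotheses -/
theorem main {G : Type*} [Group G] [Finite G] {S : Set ℕ} (h : Hyp G S) :
    ∃ H : Subgroup (G ⧸ Subgroup.center G), Cfsg.IsFrobeniusComplement H ∧ IsMulCommutative H ∧
      ∀ x ∈ Cfsg.frobeniusKernel H, ∀ y ∈ Cfsg.frobeniusKernel H, x * y = y * x := by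
  obtain ⟨d, hd⟩ := h.exists_d
  have hZH : Subgroup.center G ≤ Subgroup.centralizer ({d} : Set G) :=
    fun z hz => mem_centralizer_singleton.mpr ((Subgroup.mem_center_iff.mp hz) d)
  have hmem : ∀ x : G, (QuotientGroup.mk' (Subgroup.center G)) x ∈
      (Subgroup.centralizer ({d} : Set G)).map (QuotientGroup.mk' (Subgroup.center G)) ↔
      x ∈ Subgroup.centralizer ({d} : Set G) := by
    intro x
    constructor
    · rintro ⟨y, hy, hyx⟩
      have h1 : y⁻¹ * x ∈ Subgroup.center G := QuotientGroup.eq.mp hyx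
      have h2 := mul_mem hy (hZH h1)
      rwa [mul_inv_cancel_left] at h2
    · intro hx; exact ⟨x, hx, rfl⟩
  have hZK : ∀ x : G, x ∈ Subgroup.center G → x ∈ KS G S := by
    intro x hx
    apply AS_sub_KS
    rw [(cs_eq_one_iff x).mpr hx]; exact PiNum.one S
  have hN : (NS G S).Normal := inferInstance
  refine ⟨(Subgroup.centralizer ({d} : Set G)).map (QuotientGroup.mk' (Subgroup.center G)),
    ?_, ?_, ?_⟩
  · unfold Cfsg.IsFrobeniusComplement
    refine ⟨?_, ?_, ?_⟩
    · intro hbot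
      have h1 : (QuotientGroup.mk' (Subgroup.center G)) d ∈
          (Subgroup.centralizer ({d} : Set G)).map (QuotientGroup.mk' (Subgroup.center G)) :=
        ⟨d, mem_centralizer_singleton.mpr rfl, rfl⟩
      rw [hbot, Subgroup.mem_bot, QuotientGroup.mk'_apply, QuotientGroup.eq_one_iff] at h1
      exact hd.notMem (hZK d h1)
    · intro htop
      obtain ⟨b, hbN, hb1⟩ := h.exists_ne_one
      have h1 : (QuotientGroup.mk' (Subgroup.center G)) b ∈
          (Subgroup.centralizer ({d} : Set G)).map (QuotientGroup.mk' (Subgroup.center G)) :=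
        htop ▸ Subgroup.mem_top _
      rw [hmem] at h1
      exact hb1 (hd.cent b hbN h1)
    · intro gq hgq
      obtain ⟨g, rfl⟩ := QuotientGroup.mk'_surjective (Subgroup.center G) gq
      rw [hmem] at hgq
      rw [eq_bot_iff]
      intro xq hxq
      rw [Subgroup.mem_inf] at hxq
      obtain ⟨hx1, hx2⟩ := hxq
      obtain ⟨x, rfl⟩ := QuotientGroup.mk'_surjective (Subgroup.center G) xq
      rw [hmem] at hx1
      rw [Cfsg.Agent.Lib.Helper73.mem_conj_smul_iff, ← map_inv, ← map_mul,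
        ← map_mul, hmem] at hx2
      obtain ⟨u, hu, a, ha, rfl⟩ := hd.decomp g
      have hu1 : u ≠ 1 := by
        rintro rfl
        exact hgq (by simpa using ha)
      have h3 : u⁻¹ * x * u ∈ Subgroup.centralizer ({d} : Set G) := by
        have h31 := mul_mem (mul_mem ha hx2) (inv_mem ha)
        have e : a * ((u * a)⁻¹ * x * (u * a)) * a⁻¹ = u⁻¹ * x * u := by group
        rwa [e] at h31
      have h4 : x⁻¹ * (u⁻¹ * x * u) ∈ Subgroup.centralizer ({d} : Set G) :=
        mul_mem (inv_mem hx1) h3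
      have h5 : x⁻¹ * (u⁻¹ * x * u) ∈ NS G S := by
        have h51 : x⁻¹ * u⁻¹ * x ∈ NS G S := by
          have := hN.conj_mem _ ((NS G S).inv_mem hu) x⁻¹
          rwa [inv_inv] at this
        have h52 := mul_mem h51 hu
        have e : x⁻¹ * u⁻¹ * x * u = x⁻¹ * (u⁻¹ * x * u) := by group
        rwa [e] at h52
      have h6 := hd.cent _ h5 h4
      have h7 : u * x = x * u := by
        have h71 : u⁻¹ * x * u = x := by
          rw [inv_mul_eq_one] at h6
          exact h6.symm
        calc u * x = u * (u⁻¹ * x * u) := by rw [h71]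
          _ = x * u := by group
      have hxK : x ∈ KS G S := by
        by_contra hxK
        exact hu1 (h.cent_of_not_mem hd hx1 hxK u hu h7)
      have hxZ := h.central_of_comm hd hxK hx1
      rw [Subgroup.mem_bot, QuotientGroup.mk'_apply, QuotientGroup.eq_one_iff]
      exact hxZ
  · have : IsMulCommutative (Subgroup.centralizer ({d} : Set G)) :=
      IsMulCommutative.of_setLike_mul_comm (fun x hx y hy => h.H_comm hd hx hy)
    exact Subgroup.map_isMulCommutative _ _
  · have hker : ∀ xq ∈ Cfsg.frobeniusKernel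
        ((Subgroup.centralizer ({d} : Set G)).map (QuotientGroup.mk' (Subgroup.center G))),
        ∃ x ∈ KS G S, (QuotientGroup.mk' (Subgroup.center G)) x = xq := by
      intro xq hxq
      obtain ⟨x, rfl⟩ := QuotientGroup.mk'_surjective (Subgroup.center G) xq
      by_cases hxK : x ∈ KS G S
      · exact ⟨x, hxK, rfl⟩
      · exfalso
        obtain ⟨u, hu, a, ha, rfl⟩ := hd.decomp x
        have haK : a ∉ KS G S := fun haK => hxK (mul_mem (NS_le_KS hu) haK)
        obtain ⟨m, hm, hmu⟩ := surj_comm (NS G S) a (h.cent_of_not_mem hd ha haK) u hu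
        have hconj : u * a = m * a * m⁻¹ := by rw [← hmu]; group
        simp only [Cfsg.frobeniusKernel, Set.mem_setOf_eq] at hxq
        rcases hxq with h1 | h1
        · rw [QuotientGroup.mk'_apply, QuotientGroup.eq_one_iff] at h1
          exact hxK (hZK _ h1)
        · apply h1 ((QuotientGroup.mk' (Subgroup.center G)) m)
          rw [Cfsg.Agent.Lib.Helper73.mem_conj_smul_iff, ← map_inv, ← map_mul, ← map_mul, hmem,
            hconj]
          have e : m⁻¹ * (m * a * m⁻¹) * m = a := by group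
          rw [e]; exact ha
    intro x hx y hy
    obtain ⟨x', hx', rfl⟩ := hker x hx
    obtain ⟨y', hy', rfl⟩ := hker y hy
    rw [← map_mul, ← map_mul, h.K_comm hx' hy']

/-- one of the two orientations satisfies the oriented hypotheses -/
theorem hyp_of {G : Type*} [Group G] [Finite G] (S : Set ℕ)
    (hS : ∃ p ∈ S, (p.Prime ∧ ∃ g : G, p ∣ (Subgroup.centralizer ({g} : Set G)).index))
    (hS' : ∃ q ∉ S, (q.Prime ∧ ∃ g : G, q ∣ (Subgroup.centralizer ({g} : Set G)).index))
    (hdisc : ∀ p q : ℕ, (p.Prime ∧ ∃ g : G, p ∣ (Subgroup.centralizer ({g} : Set G)).index) →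
      (q.Prime ∧ ∃ g : G, q ∣ (Subgroup.centralizer ({g} : Set G)).index) → p ∈ S → q ∉ S →
      ¬ (∃ g : G, p * q ∣ (Subgroup.centralizer ({g} : Set G)).index)) :
    Hyp G S ∨ Hyp G Sᶜ := by
  have hD : ∀ g : G, PiNum S (cs g) ∨ PiNum Sᶜ (cs g) := by
    intro g
    by_contra hcon
    push Not at hcon
    obtain ⟨h1, h2⟩ := hcon
    unfold PiNum at h1 h2
    push Not at h1 h2
    obtain ⟨q, hq, hqg, hqS⟩ := h1
    obtain ⟨p, hp, hpg, hpS⟩ := h2
    have hpS' : p ∈ S := by simpa using hpS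
    have hpq : p ≠ q := by rintro rfl; exact hqS hpS'
    have hdvd : p * q ∣ cs g :=
      ((Nat.coprime_primes hp hq).mpr hpq).mul_dvd_of_dvd_of_dvd hpg hqg
    exact hdisc p q ⟨hp, g, hpg⟩ ⟨hq, g, hqg⟩ hpS' hqS ⟨g, hdvd⟩
  obtain ⟨p, hpS, hp, g₁, hpg⟩ := hS
  obtain ⟨q, hqS, hq, g₂, hqg⟩ := hS'
  have hne1 : Nonempty {b : G // PiNum S (cs b)} := ⟨⟨1, by rw [cs_one]; exact PiNum.one S⟩⟩
  have hne2 : Nonempty {b : G // PiNum Sᶜ (cs b)} := ⟨⟨1, by rw [cs_one]; exact PiNum.one _⟩⟩
  obtain ⟨⟨b₀, hb₀S⟩, hb₀max⟩ := Finite.exists_max (fun b : {b : G // PiNum S (cs b)} => cs b.1)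
  obtain ⟨⟨c₀, hc₀S⟩, hc₀max⟩ := Finite.exists_max (fun b : {b : G // PiNum Sᶜ (cs b)} => cs b.1)
  have hg₁ : PiNum S (cs g₁) := (hD g₁).resolve_right (fun hh => hh p hp hpg hpS)
  have hg₂ : PiNum Sᶜ (cs g₂) := (hD g₂).resolve_left (fun hh => hqS (hh q hq hqg))
  have hb₀2 : 2 ≤ cs b₀ := by
    have h1 : cs g₁ ≤ cs b₀ := hb₀max ⟨g₁, hg₁⟩
    have h2 : p ≤ cs g₁ := Nat.le_of_dvd (cs_pos g₁) hpg
    have := hp.two_le
    omega
  have hc₀2 : 2 ≤ cs c₀ := by
    have h1 : cs g₂ ≤ cs c₀ := hc₀max ⟨g₂, hg₂⟩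
    have h2 : q ≤ cs g₂ := Nat.le_of_dvd (cs_pos g₂) hqg
    have := hq.two_le
    omega
  have hcop : (cs b₀).Coprime (cs c₀) := PiNum.coprime hb₀S hc₀S
  have hne : cs b₀ ≠ cs c₀ := by
    intro heq
    rw [heq, Nat.coprime_self] at hcop
    omega
  rcases Nat.lt_or_gt_of_ne hne with hlt | hgt
  · left
    exact ⟨hD, ⟨c₀, hc₀S, fun b hb => lt_of_le_of_lt (hb₀max ⟨b, hb⟩) hlt⟩,
      ⟨g₁, p, hpS, hp, hpg⟩⟩
  · right
    refine ⟨fun g => ?_, ⟨b₀, ?_, fun c hc => lt_of_le_of_lt (hc₀max ⟨c, hc⟩) hgt⟩,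
      ⟨g₂, q, hqS, hq, hqg⟩⟩
    · rw [compl_compl]; exact (hD g).symm
    · rw [compl_compl]; exact hb₀S

/-- Let G be a finite group. Call a prime a vertex if it divides some conjugacy class size of G, and two distinct vertices adjacent if their product divides some class size. Suppose this graph is disconnected: the vertices split into two nonempty parts with no vertex of one part adjacent to a vertex of the other. Then G/Z(G) is a Frobenius group with abelian Frobenius complement and with a Frobenius kernel all of whose elements commute. -/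
theorem result {G : Type*} [Group G] [Finite G] (S : Set ℕ) (hS : ∃ p ∈ S, (p.Prime ∧ ∃ g : G, p ∣ (Subgroup.centralizer ({g} : Set G)).index)) (hS' : ∃ q ∉ S, (q.Prime ∧ ∃ g : G, q ∣ (Subgroup.centralizer ({g} : Set G)).index))
    (hdisc : ∀ p q : ℕ, (p.Prime ∧ ∃ g : G, p ∣ (Subgroup.centralizer ({g} : Set G)).index) → (q.Prime ∧ ∃ g : G, q ∣ (Subgroup.centralizer ({g} : Set G)).index) → p ∈ S → q ∉ S → ¬ (∃ g : G, p * q ∣ (Subgroup.centralizer ({g} : Set G)).index)) :
    ∃ H : Subgroup (G ⧸ Subgroup.center G), Cfsg.IsFrobeniusComplement H ∧ IsMulCommutative H ∧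
      ∀ x ∈ Cfsg.frobeniusKernel H, ∀ y ∈ Cfsg.frobeniusKernel H, x * y = y * x := by
  rcases hyp_of S hS hS' hdisc with h | h
  · exact main h
  · exact main h

end Cfsg.Agent.S4255
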