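import Cfsg.Statements.S4257
import Cfsg.Agent.Lib.Helper30.ClassGraphC

set_option autoImplicit false
open Cfsg

namespace Cfsg.Agent.S4257

open Cfsg.Agent.Lib.Helper30.CG

/-- one orientation: if the largest class with size divisible by `p` is smaller than some class with
size divisible by `q`, the closed neighbourhood of `p` is a union of components -/
theorem oriented {G : Type*} [Group G] [Finite G]
    (hconn : ∀ S : Set ℕ, (∃ p ∈ S, (p.Prime ∧ ∃ g : G, p ∣ cs g)) →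
      (∃ q ∉ S, (q.Prime ∧ ∃ g : G, q ∣ cs g)) →
      ∃ p q : ℕ, (p.Prime ∧ ∃ g : G, p ∣ cs g) ∧ (q.Prime ∧ ∃ g : G, q ∣ cs g) ∧ p ∈ S ∧ q ∉ S ∧
        (∃ g : G, p * q ∣ cs g))
    {p q : ℕ} (hp : p.Prime) (hq : q.Prime)
    (H4 : ∀ s t : ℕ, s.Prime → t.Prime → (∃ x : G, p ∣ cs x ∧ s ∣ cs x) →
      (∃ y : G, q ∣ cs y ∧ t ∣ cs y) → s ≠ t ∧ ∀ g : G, ¬ (s * t ∣ cs g))
    {x₁ : G} (hx₁ : p ∣ cs x₁) {y₀ : G} (hy₀ : q ∣ cs y₀)
    (hmax : ∀ x : G, p ∣ cs x → cs x < cs y₀) : False := by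
  have : Fact p.Prime := ⟨hp⟩
  set S : Set ℕ := {s | s.Prime ∧ ∃ x : G, p ∣ cs x ∧ s ∣ cs x} with hS
  have hpS : p ∈ S := ⟨hp, x₁, hx₁, hx₁⟩
  have hqS : q ∉ S := by
    rintro ⟨_, x, hpx, hqx⟩
    exact (H4 q q hq hq ⟨x, hpx, hqx⟩ ⟨y₀, hy₀, hy₀⟩).1 rfl
  obtain ⟨a, r, ⟨ha, _⟩, ⟨hr, _⟩, haS, hrS, g, hg⟩ :=
    hconn S ⟨p, hpS, hp, x₁, hx₁⟩ ⟨q, hqS, hq, y₀, hy₀⟩
  have hag : a ∣ cs g := (dvd_mul_right a r).trans hg
  have hrg : r ∣ cs g := (dvd_mul_left r a).trans hg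
  obtain ⟨w, hpw, hrw⟩ := nbhd_closed H4 hx₁ hy₀ hmax ha haS.2 hag hrg
  exact hrS ⟨hr, w, hpw, hrw⟩

/-- Let G be a finite group. Call a prime a vertex if it divides some conjugacy class size of G, and two distinct vertices adjacent if their product divides some class size. If this graph is connected, then its diameter is at most 3: any two distinct vertices p and q are adjacent, or joined through one or two intermediate vertices. -/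
theorem result {G : Type*} [Group G] [Finite G]
    (hconn : ∀ S : Set ℕ, (∃ p ∈ S, (p.Prime ∧ ∃ g : G, p ∣ (Subgroup.centralizer ({g} : Set G)).index)) → (∃ q ∉ S, (q.Prime ∧ ∃ g : G, q ∣ (Subgroup.centralizer ({g} : Set G)).index)) →
      ∃ p q : ℕ, (p.Prime ∧ ∃ g : G, p ∣ (Subgroup.centralizer ({g} : Set G)).index) ∧ (q.Prime ∧ ∃ g : G, q ∣ (Subgroup.centralizer ({g} : Set G)).index) ∧ p ∈ S ∧ q ∉ S ∧ (∃ g : G, p * q ∣ (Subgroup.centralizer ({g} : Set G)).index))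
    (p q : ℕ) (hp : (p.Prime ∧ ∃ g : G, p ∣ (Subgroup.centralizer ({g} : Set G)).index)) (hq : (q.Prime ∧ ∃ g : G, q ∣ (Subgroup.centralizer ({g} : Set G)).index)) (hpq : p ≠ q) :
    (∃ g : G, p * q ∣ (Subgroup.centralizer ({g} : Set G)).index) ∨ (∃ r : ℕ, (r.Prime ∧ ∃ g : G, r ∣ (Subgroup.centralizer ({g} : Set G)).index) ∧ r ≠ p ∧ r ≠ q ∧ (∃ g : G, p * r ∣ (Subgroup.centralizer ({g} : Set G)).index) ∧ (∃ g : G, r * q ∣ (Subgroup.centralizer ({g} : Set G)).index)) ∨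
      (∃ r s : ℕ, (r.Prime ∧ ∃ g : G, r ∣ (Subgroup.centralizer ({g} : Set G)).index) ∧ (s.Prime ∧ ∃ g : G, s ∣ (Subgroup.centralizer ({g} : Set G)).index) ∧ r ≠ p ∧ s ≠ q ∧ r ≠ s ∧ r ≠ q ∧ s ≠ p ∧
        (∃ g : G, p * r ∣ (Subgroup.centralizer ({g} : Set G)).index) ∧ (∃ g : G, r * s ∣ (Subgroup.centralizer ({g} : Set G)).index) ∧ (∃ g : G, s * q ∣ (Subgroup.centralizer ({g} : Set G)).index)) := by
  by_contra hcon
  have h1 : ∀ g : G, ¬ p * q ∣ cs g := fun g hg => hcon (Or.inl ⟨g, hg⟩)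
  have h2 : ∀ r : ℕ, r.Prime → r ≠ p → r ≠ q → ∀ g₁ g₂ : G, p * r ∣ cs g₁ → r * q ∣ cs g₂ → False := by
    intro r hr hrp hrq g₁ g₂ hg₁ hg₂
    exact hcon (Or.inr (Or.inl ⟨r, ⟨hr, g₁, (dvd_mul_left r p).trans hg₁⟩, hrp, hrq,
      ⟨g₁, hg₁⟩, ⟨g₂, hg₂⟩⟩))
  have h3 : ∀ r s : ℕ, r.Prime → s.Prime → r ≠ p → s ≠ q → r ≠ s → r ≠ q → s ≠ p →
      ∀ g₁ g₂ g₃ : G, p * r ∣ cs g₁ → r * s ∣ cs g₂ → s * q ∣ cs g₃ → False := by
    intro r s hr hs hrp hsq hrs hrq hsp g₁ g₂ g₃ hg₁ hg₂ hg₃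
    exact hcon (Or.inr (Or.inr ⟨r, s, ⟨hr, g₁, (dvd_mul_left r p).trans hg₁⟩,
      ⟨hs, g₃, (dvd_mul_right s q).trans hg₃⟩, hrp, hsq, hrs, hrq, hsp,
      ⟨g₁, hg₁⟩, ⟨g₂, hg₂⟩, ⟨g₃, hg₃⟩⟩))
  obtain ⟨hpp, xp, hxp⟩ := hp
  obtain ⟨hqp, yq, hyq⟩ := hq
  have hmul : ∀ {a b m : ℕ}, a.Prime → b.Prime → a ≠ b → a ∣ m → b ∣ m → a * b ∣ m :=
    fun ha hb hab h1 h2 => ((Nat.coprime_primes ha hb).mpr hab).mul_dvd_of_dvd_of_dvd h1 h2
  have H4 : ∀ s t : ℕ, s.Prime → t.Prime → (∃ x : G, p ∣ cs x ∧ s ∣ cs x) →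
      (∃ y : G, q ∣ cs y ∧ t ∣ cs y) → s ≠ t ∧ ∀ g : G, ¬ (s * t ∣ cs g) := by
    rintro s t hs ht ⟨x, hpx, hsx⟩ ⟨y, hqy, hty⟩
    by_cases hsp : s = p
    · subst hsp
      by_cases htq : t = q
      · subst htq
        exact ⟨hpq, h1⟩
      · have hts : t ≠ s := by
          rintro rfl
          exact h1 y (hmul hs hqp hpq hty hqy)
        refine ⟨hts.symm, fun g hg => ?_⟩
        exact h2 t ht hts htq g y hg (hmul ht hqp htq hty hqy)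
    · have hsq : s ≠ q := by
        rintro rfl
        exact h1 x (hmul hpp hs hpq hpx hsx)
      have hps : p * s ∣ cs x := hmul hpp hs (Ne.symm hsp) hpx hsx
      by_cases htq : t = q
      · subst htq
        exact ⟨hsq, fun g hg => h2 s hs hsp hsq x g hps hg⟩
      · have htp : t ≠ p := by
          rintro rfl
          exact h1 y (hmul ht hqp hpq hty hqy)
        have htq' : t * q ∣ cs y := hmul ht hqp htq hty hqy
        have hst : s ≠ t := by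
          rintro rfl
          exact h2 s hs hsp hsq x y hps htq'
        exact ⟨hst, fun g hg => h3 s t hs ht hsp htq hst hsq htp x g y hps hg htq'⟩
  -- maxima
  have hne1 : Nonempty {x : G // p ∣ cs x} := ⟨⟨xp, hxp⟩⟩
  have hne2 : Nonempty {y : G // q ∣ cs y} := ⟨⟨yq, hyq⟩⟩
  obtain ⟨⟨x₀, hx₀⟩, hx₀max⟩ := Finite.exists_max (fun x : {x : G // p ∣ cs x} => cs x.1)
  obtain ⟨⟨y₀, hy₀⟩, hy₀max⟩ := Finite.exists_max (fun y : {y : G // q ∣ cs y} => cs y.1)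
  have hcop : (cs x₀).Coprime (cs y₀) := by
    apply Nat.coprime_of_dvd
    intro s hs hsx hsy
    exact (H4 s s hs hs ⟨x₀, hx₀, hsx⟩ ⟨y₀, hy₀, hsy⟩).1 rfl
  have hx₀2 : 2 ≤ cs x₀ := by
    have h2 : p ≤ cs x₀ := Nat.le_of_dvd (cs_pos x₀) hx₀
    have := hpp.two_le
    omega
  have hne : cs x₀ ≠ cs y₀ := by
    intro heq
    rw [heq, Nat.coprime_self] at hcop
    omega
  rcases Nat.lt_or_gt_of_ne hne with hlt | hgt
  · exact oriented hconn hpp hqp H4 hx₀ hy₀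
      (fun x hx => lt_of_le_of_lt (hx₀max ⟨x, hx⟩) hlt)
  · have H4' : ∀ s t : ℕ, s.Prime → t.Prime → (∃ x : G, q ∣ cs x ∧ s ∣ cs x) →
        (∃ y : G, p ∣ cs y ∧ t ∣ cs y) → s ≠ t ∧ ∀ g : G, ¬ (s * t ∣ cs g) := by
      intro s t hs ht hx hy
      have := H4 t s ht hs hy hx
      refine ⟨this.1.symm, fun g hg => this.2 g ?_⟩
      rwa [mul_comm]
    exact oriented hconn hqp hpp H4' hy₀ hx₀
      (fun y hy => lt_of_le_of_lt (hy₀max ⟨y, hy⟩) hgt)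

end Cfsg.Agent.S4257
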