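import Cfsg.Statements.S4261
import Cfsg.Agent.Lib.Helper71.MaxSolvable

set_option autoImplicit false
open Cfsg

namespace Cfsg.Agent.S4261

open Cfsg.Agent.Lib.Helper71

/-- Elements of order coprime to the index lie in the normal core. -/
theorem mem_normalCore_of_coprime {G : Type*} [Group G] [Finite G] (M : Subgroup G)
    (hexp : ∀ x : G, x ^ M.index ∈ M) (g : G) (hg : (M.index).Coprime (orderOf g)) :
    g ∈ M.normalCore := by
  intro x
  have hord : orderOf (x * g * x⁻¹) = orderOf g := by
    have := MulEquiv.orderOf_eq (MulAut.conj x) g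
    rwa [MulAut.conj_apply] at this
  have hcop : (M.index).Coprime (orderOf (x * g * x⁻¹)) := by rw [hord]; exact hg
  obtain ⟨m, hm⟩ := exists_pow_eq_self_of_coprime hcop
  rw [← hm]
  exact M.pow_mem (hexp _) m

/-- Let M be a maximal subgroup of a finite solvable group G such that x^[G : M] lies in M for every x in G. Then M is normal in G. -/
theorem result {G : Type*} [Group G] [Finite G] (hG : Group.IsSolvable G) (M : Subgroup G) (hM : IsCoatom M)
    (hexp : ∀ x : G, x ^ M.index ∈ M) : M.Normal := by
  obtain ⟨p, k, hp, hk⟩ := index_eq_prime_pow_of_isCoatom M hM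
  have : Fact p.Prime := ⟨hp⟩
  set N := M.normalCore with hN
  have hNM : N ≤ M := Subgroup.normalCore_le M
  have hQ : IsPGroup p (G ⧸ N) := by
    intro q
    induction q using QuotientGroup.induction_on with
    | H g =>
    have hn0 : orderOf g ≠ 0 := (orderOf_pos g).ne'
    obtain ⟨a, m, hpm, hnm⟩ := Nat.exists_eq_pow_mul_and_not_dvd hn0 p hp.ne_one
    refine ⟨a, ?_⟩
    rw [← QuotientGroup.mk_pow, QuotientGroup.eq_one_iff]
    apply mem_normalCore_of_coprime M hexp
    have hm0 : m ≠ 0 := by
      rintro rfl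
      rw [mul_zero] at hnm
      exact hn0 hnm
    have hord : orderOf (g ^ p ^ a) = m := by
      rw [orderOf_pow, hnm, Nat.gcd_mul_right_left,
        Nat.mul_div_cancel_left _ (Nat.pos_of_ne_zero (pow_ne_zero _ hp.ne_zero))]
    rw [hord, hk]
    exact Nat.Coprime.pow_left k ((Nat.Prime.coprime_iff_not_dvd hp).mpr hpm)
  have hco := isCoatom_map_mk' N M hM hNM
  have hnil : Group.IsNilpotent (G ⧸ N) := hQ.isNilpotent
  have hnorm : (M.map (QuotientGroup.mk' N)).Normal :=
    Subgroup.NormalizerCondition.normal_of_coatom _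
      (Group.normalizerCondition_of_isNilpotent (G := G ⧸ N)) hco
  have hker : (QuotientGroup.mk' N).ker ≤ M := by rw [QuotientGroup.ker_mk']; exact hNM
  have := hnorm.comap (QuotientGroup.mk' N)
  rwa [Subgroup.comap_map_eq_self hker] at this

end Cfsg.Agent.S4261
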