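import Cfsg.Statements.S4263
import Cfsg.Agent.Lib.Helper71.Fitting

set_option autoImplicit false
open Cfsg

namespace Cfsg.Agent.S4263

open Cfsg.Agent.Lib.Helper71

variable {G : Type*} [Group G] [Finite G]

/-- The intersection of all Sylow `p`-subgroups lies in the Fitting subgroup. -/
theorem iInf_sylow_le_fitting (p : ℕ) [hp : Fact p.Prime] :
    (⨅ P : Sylow p G, (P : Subgroup G)) ≤ Cfsg.fittingSubgroup G := by
  apply le_sSup
  refine ⟨?_, ?_⟩
  · constructor
    intro n hn g
    rw [Subgroup.mem_iInf] at hn ⊢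
    intro P
    have h := hn (g⁻¹ • P)
    rw [Sylow.coe_subgroup_smul, Subgroup.mem_pointwise_smul_iff_inv_smul_mem] at h
    simpa using h
  · obtain ⟨P⟩ : Nonempty (Sylow p G) := inferInstance
    have hle : (⨅ P : Sylow p G, (P : Subgroup G)) ≤ P := iInf_le _ P
    have : IsPGroup p (⨅ P : Sylow p G, (P : Subgroup G) : Subgroup G) := P.2.to_le hle
    exact this.isNilpotent

theorem result_aux (x : G) (hx : ∀ H : Subgroup G, x ^ H.index ∈ H) :
    x ∈ Cfsg.fittingSubgroup G := by
  induction' h : orderOf x using Nat.strong_induction_on with n ih generalizing x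
  by_cases hn : n = 1
  · rw [hn, orderOf_eq_one_iff] at h
    rw [h]; exact one_mem _
  · have hn0 : n ≠ 0 := by
      rw [← h]; exact (orderOf_pos x).ne'
    set p := n.minFac with hp
    have hpp : p.Prime := Nat.minFac_prime hn
    have : Fact p.Prime := ⟨hpp⟩
    obtain ⟨a, m, hpm, hnm⟩ := Nat.exists_eq_pow_mul_and_not_dvd hn0 p hpp.ne_one
    have hm0 : m ≠ 0 := by
      rintro rfl; simp at hnm; exact hn0 hnm
    have hpa0 : p ^ a ≠ 0 := pow_ne_zero _ hpp.ne_zero
    have ha : a ≠ 0 := by
      rintro rfl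
      have : p ∣ n := Nat.minFac_dvd n
      rw [hnm] at this
      simp at this
      exact hpm this
    have hcop : Nat.Coprime m (p ^ a) :=
      (Nat.Coprime.pow_left a ((Nat.Prime.coprime_iff_not_dvd hpp).mpr hpm)).symm
    -- the p-part
    have hy_ord : orderOf (x ^ m) = p ^ a := by
      rw [orderOf_pow, h, hnm, Nat.gcd_mul_left_left, Nat.mul_div_cancel _ (Nat.pos_of_ne_zero hm0)]
    have hz_ord : orderOf (x ^ (p ^ a)) = m := by
      rw [orderOf_pow, h, hnm, Nat.gcd_mul_right_left, Nat.mul_div_cancel_left _ (Nat.pos_of_ne_zero hpa0)]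
    have hy : x ^ m ∈ Cfsg.fittingSubgroup G := by
      apply iInf_sylow_le_fitting p
      rw [Subgroup.mem_iInf]
      intro P
      have h1 : (x ^ m) ^ (P : Subgroup G).index ∈ (P : Subgroup G) := by
        rw [← pow_mul, mul_comm, pow_mul]
        exact Subgroup.pow_mem _ (hx _) _
      have h2 : Nat.Coprime (P : Subgroup G).index (orderOf (x ^ m)) := by
        rw [hy_ord]
        exact Nat.Coprime.pow_right a
          ((Nat.Prime.coprime_iff_not_dvd hpp).mpr P.not_dvd_index).symm
      obtain ⟨k, hk⟩ := exists_pow_eq_self_of_coprime h2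
      rw [← hk]
      exact Subgroup.pow_mem _ h1 _
    have hz : x ^ (p ^ a) ∈ Cfsg.fittingSubgroup G := by
      apply ih m ?_ (x ^ (p ^ a)) ?_ hz_ord
      · rw [hnm]
        have : 1 < p ^ a := Nat.one_lt_pow ha hpp.one_lt
        nlinarith [Nat.pos_of_ne_zero hm0]
      · intro H
        rw [← pow_mul, mul_comm, pow_mul]
        exact Subgroup.pow_mem _ (hx _) _
    have hb := Nat.gcd_eq_gcd_ab m (p ^ a)
    rw [hcop.gcd_eq_one] at hb
    have : x = (x ^ m) ^ (Nat.gcdA m (p ^ a)) * (x ^ (p ^ a)) ^ (Nat.gcdB m (p ^ a)) := by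
      rw [← zpow_natCast, ← zpow_natCast, ← zpow_mul, ← zpow_mul, ← zpow_add]
      push_cast at hb ⊢
      rw [← hb]; simp
    rw [this]
    exact mul_mem (Subgroup.zpow_mem _ hy _) (Subgroup.zpow_mem _ hz _)

/-- Let G be a finite group. An element x lies in the Fitting subgroup F(G) if and only if, for every subgroup H of G, the power x^[G : H] lies in H. -/
theorem result {G : Type*} [Group G] [Finite G] (x : G) :
    x ∈ Cfsg.fittingSubgroup G ↔ ∀ H : Subgroup G, x ^ H.index ∈ H := by
  constructor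
  · intro hx H
    exact pow_index_mem_of_mem_normal_nilpotent _ fittingSubgroup_isNilpotent hx H
  · exact result_aux x

end Cfsg.Agent.S4263
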