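import Cfsg.Statements.S4269

set_option autoImplicit false
open Cfsg
open scoped commutatorElement

namespace Cfsg.Agent.S4269

variable {G : Type*} [Group G]

/-- The conjugate `g H g⁻¹`. -/
abbrev cj (g : G) (H : Subgroup G) : Subgroup G := H.map (MulAut.conj g).toMonoidHom

theorem mem_cj {g x : G} {H : Subgroup G} : x ∈ cj g H ↔ g⁻¹ * x * g ∈ H := by
  constructor
  · rintro ⟨y, hy, rfl⟩
    simpa [mul_assoc] using hy
  · intro h
    exact ⟨g⁻¹ * x * g, h, by simp [mul_assoc]⟩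

theorem cj_mul (a b : G) (H : Subgroup G) : cj (a * b) H = cj a (cj b H) := by
  ext x
  simp only [mem_cj]
  rw [mul_inv_rev]
  simp only [mul_assoc]

theorem cj_of_mem {h : G} {H : Subgroup G} (hh : h ∈ H) : cj h H = H := by
  ext x
  rw [mem_cj]
  constructor
  · intro hx
    have := H.mul_mem (H.mul_mem hh hx) (H.inv_mem hh)
    simpa [mul_assoc] using this
  · intro hx
    exact H.mul_mem (H.mul_mem (H.inv_mem hh) hx) hh

theorem cj_eq_self_iff {g : G} {H : Subgroup G} :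
    cj g H = H ↔ g ∈ Subgroup.normalizer (H : Set G) := by
  rw [Subgroup.mem_normalizer_iff]
  constructor
  · intro h x
    constructor
    · intro hx
      have : g * x * g⁻¹ ∈ cj g H := by rw [mem_cj]; simpa [mul_assoc] using hx
      rw [h] at this
      exact this
    · intro hx
      have hx' : g * x * g⁻¹ ∈ cj g H := by rw [h]; exact hx
      rw [mem_cj] at hx'
      simpa [mul_assoc] using hx'
  · intro h
    ext x
    rw [mem_cj]
    have := h (g⁻¹ * x * g)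
    rw [this]
    simp [mul_assoc]

/-- If `H` normalizes `W`, every element of `W ⊔ H` is a product `w * h`. -/
theorem exists_mul_of_mem_sup {W H : Subgroup G} (hn : ∀ h ∈ H, ∀ w ∈ W, h * w * h⁻¹ ∈ W)
    {x : G} (hx : x ∈ W ⊔ H) : ∃ w ∈ W, ∃ h ∈ H, x = w * h := by
  let T : Subgroup G :=
    { carrier := {x | ∃ w ∈ W, ∃ h ∈ H, x = w * h}
      one_mem' := ⟨1, W.one_mem, 1, H.one_mem, by simp⟩
      mul_mem' := by
        rintro _ _ ⟨w, hw, h, hh, rfl⟩ ⟨w', hw', h', hh', rfl⟩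
        refine ⟨w * (h * w' * h⁻¹), W.mul_mem hw (hn h hh w' hw'), h * h', H.mul_mem hh hh', ?_⟩
        group
      inv_mem' := by
        rintro _ ⟨w, hw, h, hh, rfl⟩
        refine ⟨h⁻¹ * w⁻¹ * h⁻¹⁻¹, hn h⁻¹ (H.inv_mem hh) w⁻¹ (W.inv_mem hw), h⁻¹, H.inv_mem hh, ?_⟩
        group }
  have h1 : W ≤ T := fun w hw => ⟨w, hw, 1, H.one_mem, by simp⟩
  have h2 : H ≤ T := fun h hh => ⟨1, W.one_mem, h, hh, by simp⟩
  exact (sup_le h1 h2) hx

theorem cj_one (H : Subgroup G) : cj 1 H = H := by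
  ext x; simp

theorem forward (H : Subgroup G) (hP : Cfsg.IsPronormal H) (U : Subgroup G)
    (hU : ∀ h ∈ H, cj h U = U) :
    U = (U ⊓ Subgroup.normalizer (H : Set G)) ⊔ ⁅H, U⁆ := by
  have hinv : ∀ h ∈ H, ∀ u ∈ U, h * u * h⁻¹ ∈ U := by
    intro h hh u hu
    have : h * u * h⁻¹ ∈ cj h U := by rw [mem_cj]; simpa [mul_assoc] using hu
    rwa [hU h hh] at this
  have hW : ⁅H, U⁆ ≤ U := by
    rw [Subgroup.commutator_le]
    intro h hh u hu
    rw [commutatorElement_def]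
    exact U.mul_mem (hinv h hh u hu) (U.inv_mem hu)
  apply le_antisymm
  · intro u hu
    obtain ⟨x, hx, hxe⟩ := hP u
    have hle : H ⊔ cj u H ≤ ⁅H, U⁆ ⊔ H := by
      refine sup_le le_sup_right ?_
      intro y hy
      rw [mem_cj] at hy
      have hy2 : y = ⁅u, u⁻¹ * y * u⁆ * (u⁻¹ * y * u) := by
        rw [commutatorElement_def]; group
      rw [hy2]
      refine mul_mem (Subgroup.mem_sup_left ?_) (Subgroup.mem_sup_right hy)
      rw [Subgroup.commutator_comm]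
      exact Subgroup.commutator_mem_commutator hu hy
    have hn : ∀ h ∈ H, ∀ w ∈ ⁅H, U⁆, h * w * h⁻¹ ∈ ⁅H, U⁆ := by
      intro h hh w hw
      have e : cj h ⁅H, U⁆ = ⁅H, U⁆ := by
        have h1 : cj h ⁅H, U⁆ = ⁅cj h H, cj h U⁆ := Subgroup.map_commutator _ _ _
        rw [h1, cj_of_mem hh, hU h hh]
      rw [← e, mem_cj]
      simpa [mul_assoc] using hw
    obtain ⟨w, hw, h, hh, rfl⟩ := exists_mul_of_mem_sup hn (hle hx)
    change cj u H = cj (w * h) H at hxe
    rw [cj_mul, cj_of_mem hh] at hxe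
    have hn' : w⁻¹ * u ∈ Subgroup.normalizer (H : Set G) := by
      rw [← cj_eq_self_iff, cj_mul, hxe, ← cj_mul, inv_mul_cancel, cj_one]
    have hu2 : u = w * (w⁻¹ * u) := by group
    rw [hu2]
    exact mul_mem (Subgroup.mem_sup_right hw)
      (Subgroup.mem_sup_left ⟨U.mul_mem (U.inv_mem (hW hw)) hu, hn'⟩)
  · exact sup_le inf_le_left hW

theorem backward (V : Subgroup G) [hVn : V.Normal] (hV : IsMulCommutative ↥V) (H : Subgroup G)
    (hHV : H ⊔ V = ⊤)
    (hc : ∀ U : Subgroup G, U ≤ V → (∀ h ∈ H, cj h U = U) →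
      U = (U ⊓ Subgroup.normalizer (H : Set G)) ⊔ ⁅H, U⁆) :
    Cfsg.IsPronormal H := by
  have hcomm : ∀ a ∈ V, ∀ b ∈ V, a * b = b * a := by
    intro a ha b hb
    have := hV.is_comm.comm (⟨a, ha⟩ : V) ⟨b, hb⟩
    exact congrArg Subtype.val this
  have hcV : ∀ (g : G), ∀ u ∈ V, ⁅g, u⁆ ∈ V := by
    intro g u hu
    rw [commutatorElement_def]
    exact V.mul_mem (hVn.conj_mem u hu g) (V.inv_mem hu)
  intro g
  have hg : g ∈ V ⊔ H := by rw [sup_comm, hHV]; trivial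
  obtain ⟨v, hv, h, hh, rfl⟩ := exists_mul_of_mem_sup (W := V) (H := H)
    (fun h _ w hw => hVn.conj_mem w hw h) hg
  have e1 : cj (v * h) H = cj v H := by rw [cj_mul, cj_of_mem hh]
  change ∃ x ∈ H ⊔ cj (v * h) H, cj (v * h) H = cj x H
  rw [e1]
  let S : Set G := {y | ∃ k ∈ H, y = k * v * k⁻¹}
  let U := Subgroup.closure S
  have hUV : U ≤ V := by
    rw [Subgroup.closure_le]
    rintro y ⟨k, -, rfl⟩
    exact hVn.conj_mem v hv k
  have hUinv : ∀ h ∈ H, cj h U = U := by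
    intro h hh
    change (Subgroup.closure S).map (MulAut.conj h).toMonoidHom = Subgroup.closure S
    rw [MonoidHom.map_closure]
    congr 1
    ext y
    constructor
    · rintro ⟨z, ⟨k, hk, rfl⟩, rfl⟩
      refine ⟨h * k, H.mul_mem hh hk, ?_⟩
      simp [MulAut.conj_apply, mul_assoc]
    · rintro ⟨k, hk, rfl⟩
      refine ⟨h⁻¹ * k * v * (h⁻¹ * k)⁻¹, ⟨h⁻¹ * k, H.mul_mem (H.inv_mem hh) hk, rfl⟩, ?_⟩
      simp [MulAut.conj_apply, mul_assoc]
  have hvU : v ∈ U := Subgroup.subset_closure ⟨1, H.one_mem, by simp⟩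
  have hdec := hc U hUV hUinv
  have hWU : ⁅H, U⁆ ≤ V := by
    rw [Subgroup.commutator_le]
    intro k _ u hu
    exact hcV k u (hUV hu)
  have hv2 : v ∈ ⁅H, U⁆ ⊔ (U ⊓ Subgroup.normalizer (H : Set G)) := by
    rw [sup_comm, ← hdec]; exact hvU
  obtain ⟨w, hw, n, hn, hvwn⟩ := exists_mul_of_mem_sup (W := ⁅H, U⁆)
    (H := U ⊓ Subgroup.normalizer (H : Set G))
    (fun n hn w hw => by
      have h1 : n * w * n⁻¹ = w := by
        rw [hcomm n (hUV hn.1) w (hWU hw)]; group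
      rw [h1]; exact hw) hv2
  refine ⟨w, ?_, by rw [hvwn, cj_mul, cj_eq_self_iff.mpr hn.2]⟩
  -- ⁅H, U⁆ ≤ H ⊔ cj v H
  suffices hsuff : ⁅H, U⁆ ≤ H ⊔ cj v H from hsuff hw
  rw [Subgroup.commutator_le]
  intro k hk u hu
  induction hu using Subgroup.closure_induction with
  | mem x hx =>
    obtain ⟨k', hk', rfl⟩ := hx
    have h1 : ⁅k, k' * v * k'⁻¹⁆ = k' * (⁅k'⁻¹ * k * k', v⁆) * k'⁻¹ := by
      simp only [commutatorElement_def]; group
    rw [h1]
    have hk'J : k' ∈ H ⊔ cj v H := Subgroup.mem_sup_left hk'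
    refine mul_mem (mul_mem hk'J ?_) (inv_mem hk'J)
    have hk2 : k'⁻¹ * k * k' ∈ H := H.mul_mem (H.mul_mem (H.inv_mem hk') hk) hk'
    have h2 : ⁅k'⁻¹ * k * k', v⁆ = (k'⁻¹ * k * k') * (v * (k'⁻¹ * k * k')⁻¹ * v⁻¹) := by
      simp only [commutatorElement_def]; group
    rw [h2]
    refine mul_mem (Subgroup.mem_sup_left hk2) (Subgroup.mem_sup_right ?_)
    rw [mem_cj]
    have : v⁻¹ * (v * (k'⁻¹ * k * k')⁻¹ * v⁻¹) * v = (k'⁻¹ * k * k')⁻¹ := by group
    rw [this]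
    exact H.inv_mem hk2
  | one => simp
  | mul x y hx hy ihx ihy =>
    have h1 : ⁅k, x * y⁆ = ⁅k, x⁆ * ⁅k, y⁆ := by
      rw [commutatorElement_mul_right_eq_mul_conj]
      have hxV : x ∈ V := hUV hx
      have hyV : ⁅k, y⁆ ∈ V := hcV k y (hUV hy)
      rw [mul_assoc ⁅k, x⁆, hcomm x hxV _ hyV]
      group
    rw [h1]
    exact mul_mem ihx ihy
  | inv x hx ih =>
    have h1 : ⁅k, x⁻¹⁆ = (⁅k, x⁆)⁻¹ := by
      rw [commutatorElement_inv_right, commutatorElement_inv]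
      have hxV : x⁻¹ ∈ V := V.inv_mem (hUV hx)
      have hyV : ⁅x, k⁆ ∈ V := by
        rw [← commutatorElement_inv]; exact V.inv_mem (hcV k x (hUV hx))
      rw [hcomm x⁻¹ hxV _ hyV]
      group
    rw [h1]
    exact inv_mem ih

/-- Let G be a finite group, V an abelian normal subgroup and H a subgroup with HV = G. Then H is pronormal in G if and only if every H-invariant subgroup U of V satisfies U = N_U(H)·[H, U]. -/
theorem result {G : Type*} [Group G] [Finite G]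
    (V : Subgroup G) [V.Normal] (hV : IsMulCommutative ↥V) (H : Subgroup G) (hHV : H ⊔ V = ⊤) :
    Cfsg.IsPronormal H ↔
      ∀ U : Subgroup G, U ≤ V → (∀ h ∈ H, U.map (MulAut.conj h).toMonoidHom = U) →
        U = (U ⊓ Subgroup.normalizer (H : Set G)) ⊔ ⁅H, U⁆ := by
  constructor
  · intro hP U _ hU
    exact forward H hP U hU
  · intro hc
    exact backward V hV H hHV hc

end Cfsg.Agent.S4269
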