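import Cfsg.Statements.S4275

set_option autoImplicit false
open Cfsg

namespace Cfsg.Agent.S4275

/-- Let G be a transitive group of permutations of a finite set Ω, let o ∈ Ω, and let α be an automorphism of G. Then α is induced by conjugation by a permutation of Ω normalizing G if and only if the image under α of the stabilizer of o fixes some point of Ω. -/
theorem result {Ω : Type*} [Fintype Ω] (G : Subgroup (Equiv.Perm Ω)) (htr : MulAction.IsPretransitive G Ω) (o : Ω) (α : G ≃* G) : (∃ σ : Equiv.Perm Ω, σ ∈ Subgroup.normalizer (G : Set (Equiv.Perm Ω)) ∧ ∀ g : G, ((α g : G) : Equiv.Perm Ω) = σ * (g : Equiv.Perm Ω) * σ⁻¹) ↔ ∃ ω : Ω, ∀ g ∈ (MulAction.stabilizer G o).map α.toMonoidHom, g • ω = ω := by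
  classical
  have hsmul : ∀ (g : G) (x : Ω), g • x = (g : Equiv.Perm Ω) x := fun g x => rfl
  constructor
  · rintro ⟨σ, -, hσ⟩
    refine ⟨σ o, ?_⟩
    rintro g ⟨h, hh, rfl⟩
    rw [SetLike.mem_coe, MulAction.mem_stabilizer_iff, hsmul] at hh
    rw [hsmul]
    simp only [MulEquiv.coe_toMonoidHom]
    rw [hσ h]
    simp [hh]
  · rintro ⟨ω, hω⟩
    -- α (G_o) = G_ω
    have hle : (MulAction.stabilizer G o).map α.toMonoidHom ≤ MulAction.stabilizer G ω := by
      intro g hg
      rw [MulAction.mem_stabilizer_iff]
      exact hω g hg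
    have hcard : Nat.card (MulAction.stabilizer G ω) ≤
        Nat.card ((MulAction.stabilizer G o).map α.toMonoidHom) := by
      rw [Subgroup.card_map_of_injective α.injective]
      obtain ⟨k, hk⟩ := MulAction.exists_smul_eq G o ω
      rw [← hk, MulAction.stabilizer_smul_eq_stabilizer_map_conj,
        Subgroup.card_map_of_injective (MulAut.conj k).injective]
    have heq : (MulAction.stabilizer G o).map α.toMonoidHom = MulAction.stabilizer G ω :=
      Subgroup.eq_of_le_of_card_ge hle hcard
    have hiff : ∀ h : G, α h • ω = ω ↔ h • o = o := by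
      intro h
      rw [← MulAction.mem_stabilizer_iff, ← heq, ← MulAction.mem_stabilizer_iff]
      constructor
      · rintro ⟨h', hh', hh⟩
        have : h' = h := α.injective hh
        rwa [← this]
      · intro hh
        exact ⟨h, hh, rfl⟩
    -- define σ
    let f : Ω → Ω := fun x => α (Classical.choose (MulAction.exists_smul_eq G o x)) • ω
    have hf : ∀ g : G, f (g • o) = α g • ω := by
      intro g
      have hc := Classical.choose_spec (MulAction.exists_smul_eq G o (g • o))
      set c := Classical.choose (MulAction.exists_smul_eq G o (g • o)) with hcdef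
      change α c • ω = α g • ω
      have h1 : (c⁻¹ * g) • o = o := by
        rw [mul_smul, inv_smul_eq_iff, hc]
      have h2 := (hiff (c⁻¹ * g)).mpr h1
      rw [map_mul, map_inv, mul_smul, inv_smul_eq_iff] at h2
      exact h2.symm
    have hinj : Function.Injective f := by
      intro x y hxy
      obtain ⟨g, rfl⟩ := MulAction.exists_smul_eq G o x
      obtain ⟨g', rfl⟩ := MulAction.exists_smul_eq G o y
      rw [hf, hf] at hxy
      have h1 : α (g'⁻¹ * g) • ω = ω := by
        rw [map_mul, map_inv, mul_smul, inv_smul_eq_iff, hxy]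
      have h2 := (hiff _).mp h1
      rw [mul_smul, inv_smul_eq_iff] at h2
      exact h2
    have hbij : Function.Bijective f := Finite.injective_iff_bijective.mp hinj
    let σ : Equiv.Perm Ω := Equiv.ofBijective f hbij
    have hσf : ∀ x, σ x = f x := fun x => rfl
    have hconj : ∀ g : G, ((α g : G) : Equiv.Perm Ω) = σ * (g : Equiv.Perm Ω) * σ⁻¹ := by
      intro g
      rw [eq_mul_inv_iff_mul_eq]
      ext x
      obtain ⟨h, rfl⟩ := MulAction.exists_smul_eq G o x
      simp only [Equiv.Perm.coe_mul, Function.comp_apply]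
      rw [hσf, hσf, hf, ← hsmul, ← hsmul, ← mul_smul g h o, hf, map_mul, mul_smul]

    refine ⟨σ, ?_, hconj⟩
    rw [Subgroup.mem_normalizer_iff]
    intro n
    constructor
    · intro hn
      have := hconj ⟨n, hn⟩
      change σ * n * σ⁻¹ ∈ G
      rw [← this]
      exact (α ⟨n, hn⟩).2
    · intro hn
      obtain ⟨n', hn'⟩ := α.surjective ⟨σ * n * σ⁻¹, hn⟩
      have h1 := hconj n'
      rw [hn'] at h1
      simp only at h1
      have h2 : n = (n' : Equiv.Perm Ω) := by
        have := congrArg (fun t => σ⁻¹ * t * σ) h1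
        simpa [mul_assoc] using this
      rw [h2]
      exact n'.2

end Cfsg.Agent.S4275
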