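import Cfsg.Statements.S4276
-- import your own Cfsg.Agent.* helpers here

set_option autoImplicit false
open Cfsg

namespace Cfsg.Agent.S4276

set_option linter.unusedSectionVars false
set_option linter.unusedVariables false

/-! ### Arithmetic core -/

theorem isSquare_of_pow_odd (D C j : ℕ) (hD : 0 < D) (h : C ^ 2 = D ^ (2 * j + 1)) :
    ∃ s : ℕ, D = s ^ 2 := by
  have h1 : (D ^ j) ^ 2 ∣ C ^ 2 := by
    rw [h, ← pow_mul, pow_succ]
    exact Dvd.intro _ (by ring_nf)
  have h2 : D ^ j ∣ C := (Nat.pow_dvd_pow_iff (by norm_num)).mp h1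
  obtain ⟨s, hs⟩ := h2
  refine ⟨s, ?_⟩
  have h3 : D ^ (2 * j) * D = D ^ (2 * j) * s ^ 2 := by
    have : D ^ (2 * j + 1) = D ^ (2 * j) * D := pow_succ _ _
    rw [← this, ← h, hs]; ring
  exact Nat.eq_of_mul_eq_mul_left (pow_pos hD _) h3

theorem arith_core (n k lam a c : ℤ) (m : ℕ) (hm : Odd m)
    (hk2 : 2 ≤ k) (hkn : k ≤ n - 2)
    (hcop : IsCoprime k n)
    (hlam : k + (n - 1) * lam = k ^ 2)
    (hc : c ^ 2 = (k - lam) ^ m)
    (hrow : k ^ m = n * a + c) : False := by
  obtain ⟨j, rfl⟩ := hm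
  set d := k - lam with hd
  have h1 : d * (n - 1) = k * (n - k) := by
    rw [hd]; linear_combination (-1 : ℤ) * hlam
  have hn1 : 0 < n - 1 := by linarith
  have hdpos : 0 < d := by
    have h2 : 0 < d * (n - 1) := by rw [h1]; apply mul_pos <;> linarith
    by_contra hneg
    rw [not_lt] at hneg
    have : d * (n - 1) ≤ 0 := mul_nonpos_of_nonpos_of_nonneg hneg hn1.le
    linarith
  -- d is a perfect square
  obtain ⟨s0, hs0⟩ : ∃ s : ℕ, d.natAbs = s ^ 2 := by
    apply isSquare_of_pow_odd d.natAbs c.natAbs j (Int.natAbs_pos.mpr hdpos.ne')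
    have := congrArg Int.natAbs hc
    rw [Int.natAbs_pow, Int.natAbs_pow] at this
    exact this
  set s : ℤ := (s0 : ℤ) with hs
  have hds : d = s ^ 2 := by
    have : (d.natAbs : ℤ) = d := Int.natAbs_of_nonneg hdpos.le
    rw [← this, hs0, hs]; push_cast; ring
  have hs0' : 0 ≤ s := by rw [hs]; exact Int.natCast_nonneg _
  have hspos : 0 < s := by
    rcases hs0'.lt_or_eq with h | h
    · exact h
    · rw [← h] at hds; simp at hds; omega
  -- bounds
  have hsk : s < k := by
    have h3 : s ^ 2 * (n - 1) < k * (n - 1) := by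
      rw [← hds, h1]
      apply mul_lt_mul_of_pos_left <;> linarith
    have h4 : s ^ 2 < k := lt_of_mul_lt_mul_right h3 hn1.le
    nlinarith
  have hsnk : s < n - k := by
    have h3 : s ^ 2 * (n - 1) < (n - k) * (n - 1) := by
      rw [← hds, h1, mul_comm]
      apply mul_lt_mul_of_pos_left <;> linarith
    have h4 : s ^ 2 < n - k := lt_of_mul_lt_mul_right h3 hn1.le
    nlinarith
  -- congruences
  have hdk : n ∣ d - k ^ 2 := ⟨-lam, by rw [hd]; linear_combination hlam⟩
  have hdj : n ∣ d ^ j - (k ^ 2) ^ j := dvd_trans hdk (sub_dvd_pow_sub_pow _ _ _)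
  have hcs : c = s ^ (2 * j + 1) ∨ c = - s ^ (2 * j + 1) := by
    apply sq_eq_sq_iff_eq_or_eq_neg.mp
    rw [hc, hds]; ring
  have hsm : s ^ (2 * j + 1) = s * d ^ j := by rw [hds]; ring
  have hcopj : IsCoprime (k ^ (2 * j)) n := IsCoprime.pow_left hcop
  rcases hcs with hcs | hcs
  · have h5 : n ∣ k ^ (2 * j) * (k - s) := by
      have e : k ^ (2 * j) * (k - s) = n * a + s * (d ^ j - (k ^ 2) ^ j) := by
        have : k ^ (2 * j + 1) = n * a + s * d ^ j := by rw [hrow, hcs, hsm]
        have e2 : k ^ (2 * j + 1) = k ^ (2 * j) * k := pow_succ _ _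
        have e3 : (k ^ 2) ^ j = k ^ (2 * j) := by rw [pow_mul]
        rw [e3]; linear_combination this - e2
      rw [e]
      exact dvd_add (dvd_mul_right _ _) (dvd_mul_of_dvd_right hdj _)
    have h6 : n ∣ k - s := hcopj.symm.dvd_of_dvd_mul_left h5
    have h7 : k - s = 0 := Int.eq_zero_of_abs_lt_dvd h6 (by rw [abs_lt]; constructor <;> linarith)
    linarith
  · have h5 : n ∣ k ^ (2 * j) * (k + s) := by
      have e : k ^ (2 * j) * (k + s) = n * a - s * (d ^ j - (k ^ 2) ^ j) := by
        have : k ^ (2 * j + 1) = n * a - s * d ^ j := by rw [hrow, hcs, hsm]; ring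
        have e2 : k ^ (2 * j + 1) = k ^ (2 * j) * k := pow_succ _ _
        have e3 : (k ^ 2) ^ j = k ^ (2 * j) := by rw [pow_mul]
        rw [e3]; linear_combination this - e2
      rw [e]
      exact dvd_sub (dvd_mul_right _ _) (dvd_mul_of_dvd_right hdj _)
    have h6 : n ∣ k + s := hcopj.symm.dvd_of_dvd_mul_left h5
    have h7 : k + s = 0 := Int.eq_zero_of_abs_lt_dvd h6 (by rw [abs_lt]; constructor <;> linarith)
    linarith

/-! ### Matrix core -/

section MatrixCore

variable {Ω : Type*} [Fintype Ω] [DecidableEq Ω]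

/-- the all-ones matrix -/
def allOnes (Ω : Type*) : Matrix Ω Ω ℤ := Matrix.of fun _ _ => (1 : ℤ)

theorem allOnes_apply (x y : Ω) : allOnes Ω x y = 1 := rfl

theorem allOnes_transpose : (allOnes Ω).transpose = allOnes Ω := by
  ext x y; simp [allOnes]

theorem mul_allOnes_apply (M : Matrix Ω Ω ℤ) (x y : Ω) : (M * allOnes Ω) x y = ∑ z, M x z := by
  simp [Matrix.mul_apply, allOnes_apply]

theorem allOnes_mul_apply (M : Matrix Ω Ω ℤ) (x y : Ω) : (allOnes Ω * M) x y = ∑ z, M z y := by
  simp [Matrix.mul_apply, allOnes_apply]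

theorem allOnes_mul_allOnes : allOnes Ω * allOnes Ω = (Fintype.card Ω : ℤ) • allOnes Ω := by
  ext x y
  rw [mul_allOnes_apply]
  simp [allOnes_apply]

theorem matrix_core (A : Matrix Ω Ω ℤ) (k lam a c : ℤ) (m : ℕ)
    (x₀ x₁ : Ω) (hx : x₀ ≠ x₁)
    (hrow : ∀ x, ∑ y, A x y = k)
    (hAAt : A * A.transpose = (k - lam) • (1 : Matrix Ω Ω ℤ) + lam • allOnes Ω)
    (hpow : A ^ m = a • allOnes Ω + c • (1 : Matrix Ω Ω ℤ)) :
    c ^ 2 = (k - lam) ^ m ∧ k ^ m = (Fintype.card Ω : ℤ) * a + c := by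
  have hAJ : A * allOnes Ω = k • allOnes Ω := by
    ext x y; rw [mul_allOnes_apply, hrow]; simp [allOnes_apply]
  have hAjJ : ∀ j : ℕ, A ^ j * allOnes Ω = k ^ j • allOnes Ω := by
    intro j
    induction j with
    | zero => simp
    | succ j ih =>
      rw [pow_succ, Matrix.mul_assoc, hAJ, Matrix.mul_smul, ih, smul_smul, pow_succ, mul_comm]
  have hJAjt : ∀ j : ℕ, allOnes Ω * (A ^ j).transpose = k ^ j • allOnes Ω := by
    intro j
    have := congrArg Matrix.transpose (hAjJ j)
    rw [Matrix.transpose_mul, allOnes_transpose, Matrix.transpose_smul, allOnes_transpose] at this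
    exact this
  have hind : ∀ j : ℕ, ∃ β : ℤ, A ^ j * (A ^ j).transpose
      = (k - lam) ^ j • (1 : Matrix Ω Ω ℤ) + β • allOnes Ω := by
    intro j
    induction j with
    | zero => exact ⟨0, by simp⟩
    | succ j ih =>
      obtain ⟨β, hβ⟩ := ih
      refine ⟨(k - lam) * β + lam * k ^ j * k ^ j, ?_⟩
      have e1 : A ^ (j + 1) * (A ^ (j + 1)).transpose
          = A ^ j * (A * A.transpose) * (A ^ j).transpose := by
        rw [pow_succ, Matrix.transpose_mul]
        simp only [Matrix.mul_assoc]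
      rw [e1, hAAt, Matrix.mul_add, Matrix.add_mul, Matrix.mul_smul, Matrix.mul_one,
        Matrix.smul_mul, hβ, Matrix.mul_smul, Matrix.smul_mul, hAjJ j, Matrix.smul_mul,
        hJAjt j]
      rw [smul_add, smul_smul, smul_smul, smul_smul, smul_smul, add_assoc, ← add_smul, pow_succ]
      congr 2; ring
  constructor
  · obtain ⟨β, hβ⟩ := hind m
    have hM : A ^ m * (A ^ m).transpose
        = c ^ 2 • (1 : Matrix Ω Ω ℤ)
          + (a * a * (Fintype.card Ω : ℤ) + 2 * a * c) • allOnes Ω := by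
      rw [hpow, Matrix.transpose_add, Matrix.transpose_smul, Matrix.transpose_smul,
        allOnes_transpose, Matrix.transpose_one]
      rw [Matrix.add_mul, Matrix.mul_add, Matrix.mul_add]
      simp only [Matrix.smul_mul, Matrix.mul_smul, Matrix.mul_one, Matrix.one_mul,
        allOnes_mul_allOnes, smul_smul]
      ext x y
      simp only [Matrix.add_apply, Matrix.smul_apply, smul_eq_mul]
      ring
    have h00 := congrFun (congrFun (hM.symm.trans hβ) x₀) x₀
    have h01 := congrFun (congrFun (hM.symm.trans hβ) x₀) x₁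
    simp only [Matrix.add_apply, Matrix.smul_apply, smul_eq_mul, Matrix.one_apply_eq,
      Matrix.one_apply_ne hx, allOnes_apply, mul_one, mul_zero, zero_add] at h00 h01
    linarith
  · have h1 := hAjJ m
    rw [hpow, Matrix.add_mul, Matrix.smul_mul, Matrix.smul_mul, Matrix.one_mul,
      allOnes_mul_allOnes, smul_smul, ← add_smul] at h1
    have h2 := congrFun (congrFun h1 x₀) x₀
    simp only [Matrix.smul_apply, allOnes_apply, smul_eq_mul, mul_one] at h2
    linarith

end MatrixCore

/-! ### The incidence matrix of the design -/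

section Action

variable {Ω : Type*} [Fintype Ω] [DecidableEq Ω] (G : Subgroup (Equiv.Perm Ω))
  (o : Ω) (α : MulAut G) (B : Set Ω)

/-- incidence between the point `x` and the block attached to the point `y` -/
def Inc (x y : Ω) : Prop := ∃ g : G, g • o = y ∧ (α g)⁻¹ • x ∈ B

theorem inc_iff (hB : ∀ c : G, c • o = o → ∀ z, (α c) • z ∈ B ↔ z ∈ B) (g : G) (x : Ω) :
    Inc G o α B x (g • o) ↔ (α g)⁻¹ • x ∈ B := by
  constructor
  · rintro ⟨g', hg', h⟩
    have hc : (g⁻¹ * g') • o = o := by rw [mul_smul, hg', inv_smul_smul]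
    have := (hB _ hc ((α g')⁻¹ • x)).mpr h
    rw [← mul_smul, map_mul, map_inv, mul_assoc, mul_inv_cancel, mul_one] at this
    exact this
  · intro h; exact ⟨g, rfl, h⟩

theorem inc_equiv (hT : ∀ y : Ω, ∃ g : G, g • o = y)
    (hB : ∀ c : G, c • o = o → ∀ z, (α c) • z ∈ B ↔ z ∈ B) (h : G) (x y : Ω) :
    Inc G o α B ((α h) • x) (h • y) ↔ Inc G o α B x y := by
  obtain ⟨g, rfl⟩ := hT y
  rw [← mul_smul, inc_iff G o α B hB, inc_iff G o α B hB, map_mul, mul_inv_rev, ← mul_smul,
    mul_assoc, inv_mul_cancel, mul_one]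

open Classical in
/-- the incidence matrix -/
noncomputable def incMat : Matrix Ω Ω ℤ :=
  Matrix.of fun x y => if Inc G o α B x y then (1 : ℤ) else 0

open Classical in
theorem incMat_apply (x y : Ω) :
    incMat G o α B x y = if Inc G o α B x y then (1 : ℤ) else 0 := rfl

theorem incMat_equiv (hT : ∀ y : Ω, ∃ g : G, g • o = y)
    (hB : ∀ c : G, c • o = o → ∀ z, (α c) • z ∈ B ↔ z ∈ B) (h : G) (x y : Ω) :
    incMat G o α B ((α h) • x) (h • y) = incMat G o α B x y := by
  classical
  rw [incMat_apply, incMat_apply]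
  simp only [inc_equiv G o α B hT hB]

theorem incMat_sq (x y : Ω) :
    incMat G o α B x y * incMat G o α B x y = incMat G o α B x y := by
  classical
  rw [incMat_apply]
  split_ifs <;> simp

open Classical in
theorem incMat_col (hT : ∀ y : Ω, ∃ g : G, g • o = y)
    (hB : ∀ c : G, c • o = o → ∀ z, (α c) • z ∈ B ↔ z ∈ B) (y : Ω) :
    ∑ x, incMat G o α B x y = ((Finset.univ.filter (· ∈ B)).card : ℤ) := by
  obtain ⟨g, rfl⟩ := hT y
  have h1 : ∀ x, incMat G o α B x (g • o) =
      (fun z => if z ∈ B then (1 : ℤ) else 0) (MulAction.toPerm ((α g)⁻¹) x) := by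
    intro x
    rw [incMat_apply]
    simp only [inc_iff G o α B hB, MulAction.toPerm_apply]
  simp only [h1]
  rw [Equiv.sum_comp (MulAction.toPerm ((α g)⁻¹)) (fun z => if z ∈ B then (1 : ℤ) else 0)]
  rw [Finset.sum_boole]

/-- equivariance property of a matrix with respect to an automorphism -/
def PEq (β : MulAut G) (M : Matrix Ω Ω ℤ) : Prop :=
  ∀ (h : G) (x y : Ω), M ((β h) • x) (h • y) = M x y

theorem PEq_mul (β γ : MulAut G) (M N : Matrix Ω Ω ℤ) (hM : PEq G β M) (hN : PEq G γ N) :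
    PEq G (β * γ) (M * N) := by
  intro h x z
  rw [Matrix.mul_apply, Matrix.mul_apply, ← Equiv.sum_comp (MulAction.toPerm (γ h))]
  apply Finset.sum_congr rfl
  intro y _
  simp only [MulAction.toPerm_apply]
  rw [MulAut.mul_apply, hM (γ h) x y, hN h y z]

theorem PEq_one : PEq G 1 (1 : Matrix Ω Ω ℤ) := by
  intro h x y
  show (1 : Matrix Ω Ω ℤ) (h • x) (h • y) = (1 : Matrix Ω Ω ℤ) x y
  by_cases hxy : x = y
  · subst hxy; simp
  · rw [Matrix.one_apply_ne hxy, Matrix.one_apply_ne]
    intro h'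
    exact hxy (smul_left_cancel h h')

theorem PEq_pow (M : Matrix Ω Ω ℤ) (hM : PEq G α M) (j : ℕ) : PEq G (α ^ j) (M ^ j) := by
  induction j with
  | zero => simpa using PEq_one G
  | succ j ih =>
    rw [pow_succ, pow_succ]
    exact PEq_mul G _ _ _ _ ih hM

end Action

/-! ### The key contradiction -/

open Classical in
theorem key {Ω : Type*} [Fintype Ω] [DecidableEq Ω] (G : Subgroup (Equiv.Perm Ω))
    (h2 : MulAction.IsMultiplyPretransitive G Ω 2) (o : Ω) (α : MulAut G)
    (hα : Odd (orderOf α)) (B : Set Ω)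
    (hB : ∀ c : G, c • o = o → ∀ z, (α c) • z ∈ B ↔ z ∈ B)
    (hcop : Nat.Coprime (Finset.univ.filter (· ∈ B)).card (Fintype.card Ω))
    (hk2 : 2 ≤ (Finset.univ.filter (· ∈ B)).card)
    (hkn : (Finset.univ.filter (· ∈ B)).card + 2 ≤ Fintype.card Ω) : False := by
  set kN := (Finset.univ.filter (· ∈ B)).card with hkN
  set k : ℤ := (kN : ℤ) with hkdef
  set n : ℤ := (Fintype.card Ω : ℤ) with hndef
  have hpt : MulAction.IsPretransitive G Ω := MulAction.isPretransitive_of_is_two_pretransitive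
  have hT : ∀ y : Ω, ∃ g : G, g • o = y := fun y => MulAction.exists_smul_eq G o y
  have h2' : ∀ (a b c d : Ω), a ≠ b → c ≠ d → ∃ g : G, g • a = c ∧ g • b = d :=
    fun a b c d h h' => MulAction.is_two_pretransitive_iff.mp h2 h h'
  obtain ⟨x₀, x₁, hx⟩ : ∃ x₀ x₁ : Ω, x₀ ≠ x₁ :=
    Fintype.exists_pair_of_one_lt_card (by omega)
  set f : Ω → Ω → ℤ := fun x y => incMat G o α B x y with hf
  have hAeq : ∀ (h : G) (x y : Ω), f ((α h) • x) (h • y) = f x y :=
    fun h x y => incMat_equiv G o α B hT hB h x y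
  have hcol : ∀ y, ∑ x, f x y = k := incMat_col G o α B hT hB
  have hfsq : ∀ x y, f x y * f x y = f x y := fun x y => incMat_sq G o α B x y
  have hsurj : ∀ g : G, ∃ h : G, α h = g := fun g => ⟨α⁻¹ g, MulAut.apply_inv_self _ α g⟩
  have hrow_inv : ∀ (g : G) (x : Ω), ∑ y, f (g • x) y = ∑ y, f x y := by
    intro g x
    obtain ⟨h, rfl⟩ := hsurj g
    rw [← Equiv.sum_comp (MulAction.toPerm h)]
    apply Finset.sum_congr rfl
    intro y _
    exact hAeq h x y
  have hrow_const : ∀ x, ∑ y, f x y = ∑ y, f x₀ y := by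
    intro x
    obtain ⟨g, hg⟩ := MulAction.exists_smul_eq G x₀ x
    rw [← hg, hrow_inv]
  have hnpos : 0 < n := by rw [hndef]; exact_mod_cast (by omega : 0 < Fintype.card Ω)
  have hrow : ∀ x, ∑ y, f x y = k := by
    have htot : ∑ x, ∑ y, f x y = n * k := by
      rw [Finset.sum_comm, Finset.sum_congr rfl (fun y _ => hcol y)]
      simp [hndef]
    have htot' : ∑ x, ∑ y, f x y = n * ∑ y, f x₀ y := by
      rw [Finset.sum_congr rfl (fun x _ => hrow_const x)]
      simp [hndef]
    intro x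
    rw [hrow_const x]
    have := htot'.symm.trans htot
    exact mul_left_cancel₀ hnpos.ne' this
  -- entries of A Aᵀ
  have hE_inv : ∀ (g : G) (x x' : Ω),
      ∑ y, f (g • x) y * f (g • x') y = ∑ y, f x y * f x' y := by
    intro g x x'
    obtain ⟨h, rfl⟩ := hsurj g
    rw [← Equiv.sum_comp (MulAction.toPerm h)]
    apply Finset.sum_congr rfl
    intro y _
    simp only [MulAction.toPerm_apply]
    rw [hAeq h x y, hAeq h x' y]
  have hE_diag : ∀ x, ∑ y, f x y * f x y = k := by
    intro x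
    rw [Finset.sum_congr rfl (fun y _ => hfsq x y)]
    exact hrow x
  set lam : ℤ := ∑ y, f x₀ y * f x₁ y with hlamdef
  have hE_off : ∀ x x', x ≠ x' → ∑ y, f x y * f x' y = lam := by
    intro x x' hxx'
    obtain ⟨g, hg1, hg2⟩ := h2' _ _ _ _ hx hxx'
    rw [← hg1, ← hg2, hE_inv]
  have hAAt : incMat G o α B * (incMat G o α B).transpose
      = (k - lam) • (1 : Matrix Ω Ω ℤ) + lam • allOnes Ω := by
    ext x x'
    rw [Matrix.mul_apply]
    simp only [Matrix.transpose_apply, Matrix.add_apply, Matrix.smul_apply, smul_eq_mul,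
      allOnes_apply, mul_one]
    show ∑ y, f x y * f x' y = _
    by_cases hxx' : x = x'
    · subst hxx'
      rw [hE_diag, Matrix.one_apply_eq]; ring
    · rw [hE_off x x' hxx', Matrix.one_apply_ne hxx']; ring
  have hlam : k + (n - 1) * lam = k ^ 2 := by
    have e1 : ∑ x', ∑ y, f x₀ y * f x' y = k * k := by
      rw [Finset.sum_comm]
      have : ∀ y, ∑ x', f x₀ y * f x' y = f x₀ y * k := by
        intro y; rw [← Finset.mul_sum, hcol]
      rw [Finset.sum_congr rfl (fun y _ => this y), ← Finset.sum_mul, hrow]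
    have e2 : ∑ x', ∑ y, f x₀ y * f x' y = n * lam + (k - lam) := by
      have : ∀ x', ∑ y, f x₀ y * f x' y = lam + (if x' = x₀ then (k - lam) else 0) := by
        intro x'
        by_cases h : x' = x₀
        · subst h; rw [hE_diag]; simp
        · rw [hE_off x₀ x' (Ne.symm h)]; simp [h]
      rw [Finset.sum_congr rfl (fun x' _ => this x'), Finset.sum_add_distrib]
      simp [hndef]
    have := e1.symm.trans e2
    linear_combination -this
  -- the power of A
  set m := orderOf α with hm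
  have hPm : ∀ (h : G) (x y : Ω),
      (incMat G o α B ^ m) (h • x) (h • y) = (incMat G o α B ^ m) x y := by
    have := PEq_pow G α (incMat G o α B) (incMat_equiv G o α B hT hB) m
    rw [hm, pow_orderOf_eq_one] at this
    intro h x y
    exact this h x y
  have hpow : incMat G o α B ^ m = ((incMat G o α B ^ m) x₀ x₁) • allOnes Ω
      + ((incMat G o α B ^ m) x₀ x₀ - (incMat G o α B ^ m) x₀ x₁) • (1 : Matrix Ω Ω ℤ) := by
    ext x y
    simp only [Matrix.add_apply, Matrix.smul_apply, smul_eq_mul, allOnes_apply, mul_one]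
    by_cases hxy : x = y
    · subst hxy
      obtain ⟨g, hg⟩ := MulAction.exists_smul_eq G x₀ x
      rw [Matrix.one_apply_eq, ← hg, hPm]; ring
    · obtain ⟨g, hg1, hg2⟩ := h2' _ _ _ _ hx hxy
      rw [Matrix.one_apply_ne hxy, ← hg1, ← hg2, hPm]; ring
  obtain ⟨hc, hr⟩ := matrix_core (incMat G o α B) k lam _ _ m x₀ x₁ hx hrow hAAt hpow
  refine arith_core n k lam _ _ m hα ?_ ?_ ?_ hlam hc hr
  · rw [hkdef]; exact_mod_cast hk2
  · rw [hkdef, hndef]; omega
  · rw [hkdef, hndef]; exact Nat.isCoprime_iff_coprime.mpr hcop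

/-! ### Construction of the permutation from a fixed point -/

theorem sigma_of_fixed {Ω : Type*} [Fintype Ω] (G : Subgroup (Equiv.Perm Ω))
    [hpt : MulAction.IsPretransitive G Ω] (o : Ω) (α : MulAut G) (ω' : Ω)
    (hfix : ∀ c : G, c • o = o → (α c) • ω' = ω') :
    ∃ σ : Equiv.Perm Ω, σ ∈ Subgroup.normalizer (G : Set (Equiv.Perm Ω)) ∧
      ∀ g : G, ((α g : G) : Equiv.Perm Ω) = σ * (g : Equiv.Perm Ω) * σ⁻¹ := by
  classical
  have hT : ∀ y : Ω, ∃ g : G, g • o = y := fun y => MulAction.exists_smul_eq G o y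
  have hwd : ∀ g g' : G, g • o = g' • o → (α g) • ω' = (α g') • ω' := by
    intro g g' h
    have hc : (g'⁻¹ * g) • o = o := by rw [mul_smul, h, inv_smul_smul]
    have := hfix _ hc
    rw [map_mul, map_inv, mul_smul, inv_smul_eq_iff] at this
    exact this
  choose gy hgy using hT
  set σf : Ω → Ω := fun y => (α (gy y)) • ω' with hσf
  have hσ : ∀ g : G, σf (g • o) = (α g) • ω' := fun g => hwd _ _ (hgy (g • o))
  have hσeq : ∀ (h : G) (y : Ω), σf (h • y) = (α h) • σf y := by
    intro h y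
    obtain ⟨g, rfl⟩ := MulAction.exists_smul_eq G o y
    rw [← mul_smul, hσ, hσ, map_mul, mul_smul]
  have hsurj : Function.Surjective σf := by
    intro z
    obtain ⟨g', hg'⟩ := MulAction.exists_smul_eq G ω' z
    refine ⟨(α⁻¹ g') • o, ?_⟩
    rw [hσ, MulAut.apply_inv_self, hg']
  have hbij : Function.Bijective σf := ⟨Finite.injective_iff_surjective.mpr hsurj, hsurj⟩
  set σ : Equiv.Perm Ω := Equiv.ofBijective σf hbij with hσdef
  have hσapp : ∀ y, σ y = σf y := fun y => rfl
  have hconj : ∀ g : G, ((α g : G) : Equiv.Perm Ω) = σ * (g : Equiv.Perm Ω) * σ⁻¹ := by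
    intro g
    ext z
    simp only [Equiv.Perm.coe_mul, Function.comp_apply]
    have h1 := hσeq g (σ⁻¹ z)
    have h0 : σf (σ⁻¹ z) = z := by rw [← hσapp]; simp
    rw [h0] at h1
    exact h1.symm
  refine ⟨σ, ?_, hconj⟩
  rw [Subgroup.mem_normalizer_iff]
  intro h
  constructor
  · intro hh
    have := hconj ⟨h, hh⟩
    rw [← this]
    exact (α ⟨h, hh⟩).2
  · intro hh
    set g'' : G := α⁻¹ ⟨σ * h * σ⁻¹, hh⟩ with hg''
    have h1 := hconj g''
    rw [hg'', MulAut.apply_inv_self] at h1
    have h2 : h = (α⁻¹ ⟨σ * h * σ⁻¹, hh⟩ : G) := by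
      have h3 : σ * h * σ⁻¹ = σ * ((α⁻¹ ⟨σ * h * σ⁻¹, hh⟩ : G) : Equiv.Perm Ω) * σ⁻¹ := h1
      exact mul_left_cancel (mul_right_cancel h3)
    rw [h2]
    exact (α⁻¹ ⟨σ * h * σ⁻¹, hh⟩ : G).2

/-- Let G be a doubly transitive group of permutations of a finite set Ω of size n, let o ∈ Ω, and let α be an automorphism of G of odd order. Suppose that the image under α of the stabilizer of o has an orbit on Ω whose length k is coprime to n. Then α is induced by conjugation by a permutation of Ω normalizing G, and k = 1 or k = n − 1. -/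
theorem result {Ω : Type*} [Fintype Ω] (G : Subgroup (Equiv.Perm Ω)) (h2 : MulAction.IsMultiplyPretransitive G Ω 2) (o : Ω) (α : MulAut G) (hα : Odd (orderOf α)) (ω : Ω) (hk : (Nat.card (MulAction.orbit ((MulAction.stabilizer G o).map α.toMonoidHom) ω)).Coprime (Fintype.card Ω)) : (∃ σ : Equiv.Perm Ω, σ ∈ Subgroup.normalizer (G : Set (Equiv.Perm Ω)) ∧ ∀ g : G, ((α g : G) : Equiv.Perm Ω) = σ * (g : Equiv.Perm Ω) * σ⁻¹) ∧ (Nat.card (MulAction.orbit ((MulAction.stabilizer G o).map α.toMonoidHom) ω) = 1 ∨ Nat.card (MulAction.orbit ((MulAction.stabilizer G o).map α.toMonoidHom) ω) = Fintype.card Ω - 1) := by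
  classical
  set K := (MulAction.stabilizer G o).map α.toMonoidHom with hK
  set B : Set Ω := MulAction.orbit K ω with hBdef
  have hpt : MulAction.IsPretransitive G Ω := MulAction.isPretransitive_of_is_two_pretransitive
  have hB : ∀ c : G, c • o = o → ∀ z, (α c) • z ∈ B ↔ z ∈ B := by
    intro c hc z
    have hcK : α c ∈ K := Subgroup.mem_map_of_mem α.toMonoidHom (MulAction.mem_stabilizer_iff.mpr hc)
    have e : (α c) • z = (⟨α c, hcK⟩ : K) • z := rfl
    rw [e, hBdef, ← MulAction.orbit_eq_iff, MulAction.orbit_smul, MulAction.orbit_eq_iff]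
  have hcard : Nat.card B = (Finset.univ.filter (· ∈ B)).card :=
    Nat.subtype_card _ (by simp)
  rw [hcard] at hk ⊢
  set k := (Finset.univ.filter (· ∈ B)).card with hkdef
  have hωB : ω ∈ B := MulAction.mem_orbit_self ω
  have hk1 : 1 ≤ k := Finset.card_pos.mpr ⟨ω, by simp [hωB]⟩
  have hkn : k ≤ Fintype.card Ω := by
    rw [hkdef, ← Finset.card_univ]; exact Finset.card_le_card (Finset.filter_subset _ _)
  -- the orbit length
  have hlen : k = 1 ∨ k = Fintype.card Ω - 1 := by
    by_contra hne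
    rw [not_or] at hne
    rcases Nat.lt_or_ge k (Fintype.card Ω) with hlt | hge
    · exact key G h2 o α hα B hB hk (by omega) (by omega)
    · have hkn' : k = Fintype.card Ω := le_antisymm hkn hge
      rw [hkn', Nat.coprime_self] at hk
      omega
  refine ⟨?_, hlen⟩
  -- a fixed point
  obtain ⟨ω', hfix⟩ : ∃ ω' : Ω, ∀ c : G, c • o = o → (α c) • ω' = ω' := by
    by_cases h1 : k = 1
    · refine ⟨ω, fun c hc => ?_⟩
      have hmem : (α c) • ω ∈ B := (hB c hc ω).mpr hωB
      have hle : (Finset.univ.filter (· ∈ B)).card ≤ 1 := by rw [← hkdef, h1]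
      rw [Finset.card_le_one] at hle
      exact hle _ (by simp [hmem]) _ (by simp [hωB])
    · have h2' : k = Fintype.card Ω - 1 := hlen.resolve_left h1
      have hcompl : (Finset.univ.filter (· ∉ B)).card = 1 := by
        have := Finset.card_filter_add_card_filter_not (s := (Finset.univ : Finset Ω))
          (fun x => x ∈ B)
        rw [Finset.card_univ] at this
        omega
      obtain ⟨ω', hω'⟩ := Finset.card_eq_one.mp hcompl
      have hω'B : ω' ∉ B := by
        have : ω' ∈ Finset.univ.filter (· ∉ B) := by rw [hω']; simp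
        simpa using this
      refine ⟨ω', fun c hc => ?_⟩
      have hnm : (α c) • ω' ∉ B := fun h => hω'B ((hB c hc ω').mp h)
      have : (α c) • ω' ∈ Finset.univ.filter (· ∉ B) := by simp [hnm]
      rw [hω'] at this
      simpa using this
  exact sigma_of_fixed G o α ω' hfix

end Cfsg.Agent.S4276
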