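import Cfsg.Statements.S4282
import Cfsg.Agent.Lib.Helper63.QGroupIrrDim
import Cfsg.Agent.Lib.Helper63.HHCritLA
import Cfsg.Agent.Lib.Helper63.HHCritGp

set_option autoImplicit false
open Cfsg

namespace Cfsg.Agent.S4282

open Cfsg.Agent.Lib.Helper63 Module

/-- The fixed-point-freeness needed for the free module lemma. -/
theorem fpf_aux {G : Type*} [Group G] [Finite G] (p q : ℕ) [hp : Fact p.Prime] [hq : Fact q.Prime]
    (hpq : p ≠ q) (Q : Subgroup G) [Q.Normal] (hQ : IsPGroup q Q) (x : G)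
    (hx : IsPGroup p (Subgroup.zpowers x))
    (hC : ∀ y ∈ Subgroup.zpowers x, y ≠ 1 → Subgroup.centralizer ({y} : Set G) =
      Subgroup.zpowers x ⊔ Subgroup.center G) :
    ∀ h ∈ Subgroup.zpowers x, h ≠ 1 → ∀ g ∈ Q,
      (h * g * h⁻¹)⁻¹ * g ∈ Subgroup.center G → g ∈ Subgroup.center G := by
  intro h hh hh1 g hg hz
  obtain ⟨k, hk⟩ := IsPGroup.iff_card.mp hx
  have hcop : ∀ j : ℕ, Nat.Coprime (p ^ k) (q ^ j) :=
    fun j => Nat.Coprime.pow _ _ ((Nat.coprime_primes hp.out hq.out).mpr hpq)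
  -- order facts
  have hpowH : ∀ y ∈ Subgroup.zpowers x, y ^ (p ^ k) = 1 := by
    intro y hy
    have := pow_card_eq_one' (G := Subgroup.zpowers x) (x := ⟨y, hy⟩)
    rw [hk] at this
    exact congrArg Subtype.val this
  have hpowQ : ∀ y ∈ Q, ∃ j : ℕ, y ^ (q ^ j) = 1 := by
    intro y hy
    obtain ⟨j, hj⟩ := hQ ⟨y, hy⟩
    exact ⟨j, congrArg Subtype.val hj⟩
  set z : G := ((h * g * h⁻¹)⁻¹ * g)⁻¹ with hzdef
  have hzc : z ∈ Subgroup.center G := Subgroup.inv_mem _ hz
  have hzQ : z ∈ Q := by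
    rw [hzdef]
    refine Subgroup.inv_mem _ (Subgroup.mul_mem _ (Subgroup.inv_mem _ ?_) hg)
    exact ‹Q.Normal›.conj_mem g hg h
  have hconj : h * g * h⁻¹ = g * z := by rw [hzdef]; group
  have hzcomm : ∀ y : G, y * z = z * y := fun y => Subgroup.mem_center_iff.mp hzc y
  have hiter : ∀ n : ℕ, h ^ n * g * (h ^ n)⁻¹ = g * z ^ n := by
    intro n
    induction n with
    | zero => simp
    | succ n ih =>
      have hzn : ∀ y : G, y * z ^ n = z ^ n * y := fun y =>
        Subgroup.mem_center_iff.mp (Subgroup.pow_mem _ hzc n) y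
      calc h ^ (n + 1) * g * (h ^ (n + 1))⁻¹ = h * (h ^ n * g * (h ^ n)⁻¹) * h⁻¹ := by
            rw [pow_succ']; group
        _ = h * g * (z ^ n * h⁻¹) := by rw [ih]; group
        _ = h * g * (h⁻¹ * z ^ n) := by rw [hzn]
        _ = (h * g * h⁻¹) * z ^ n := by group
        _ = g * z ^ (n + 1) := by rw [hconj, pow_succ', mul_assoc]
  have hz1 : z = 1 := by
    have h1 := hiter (p ^ k)
    rw [hpowH h hh, one_mul, inv_one, mul_one] at h1
    have h2 : z ^ (p ^ k) = 1 := by
      have := congrArg (fun t => g⁻¹ * t) h1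
      simpa using this.symm
    obtain ⟨j, hj⟩ := hpowQ z hzQ
    have hd : orderOf z ∣ Nat.gcd (p ^ k) (q ^ j) :=
      Nat.dvd_gcd (orderOf_dvd_of_pow_eq_one h2) (orderOf_dvd_of_pow_eq_one hj)
    rw [hcop j] at hd
    exact orderOf_eq_one_iff.mp (Nat.dvd_one.mp hd)
  -- `g` centralises `h`
  have hgc : g ∈ Subgroup.centralizer ({h} : Set G) := by
    rw [Subgroup.mem_centralizer_singleton_iff]
    rw [hz1, mul_one] at hconj
    calc g * h = h * g * h⁻¹ * h := by rw [hconj]
      _ = h * g := by group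
  rw [hC h hh hh1] at hgc
  have hgc' : g ∈ ((Subgroup.zpowers x ⊔ Subgroup.center G : Subgroup G) : Set G) := hgc
  rw [Subgroup.mul_normal] at hgc'
  obtain ⟨a, ha, c, hc, hac⟩ := hgc'
  have hcomm : Commute a c := Subgroup.mem_center_iff.mp hc a
  have hgP : g ^ (p ^ k) ∈ Subgroup.center G := by
    rw [← hac, hcomm.mul_pow, hpowH a ha, one_mul]
    exact Subgroup.pow_mem _ hc _
  obtain ⟨j, hj⟩ := hpowQ g hg
  have hcop' : Nat.Coprime (p ^ k) (orderOf g) :=
    Nat.Coprime.coprime_dvd_right (orderOf_dvd_of_pow_eq_one hj) (hcop j)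
  obtain ⟨m, hm⟩ := exists_pow_eq_self_of_coprime hcop'
  rw [← hm]
  exact Subgroup.pow_mem _ hgP m

/-- Every endomorphism commuting with `ρ x` is a scalar modulo the image of a power of
`ρ x - 1`. -/
theorem key {G : Type*} [Group G] [Finite G] (p q : ℕ) [hp : Fact p.Prime] [hq : Fact q.Prime]
    (hpq : p ≠ q) (Q : Subgroup G) [Q.Normal] (hQ : IsPGroup q Q) (x : G)
    (hx : IsPGroup p (Subgroup.zpowers x))
    (hC : ∀ y ∈ Subgroup.zpowers x, y ≠ 1 → Subgroup.centralizer ({y} : Set G) =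
      Subgroup.zpowers x ⊔ Subgroup.center G)
    {K : Type*} [Field K] [IsAlgClosed K] [CharP K p] {V : Type*} [AddCommGroup V] [Module K V]
    [FiniteDimensional K V] [Nontrivial V] (ρ : Representation K G V)
    (hirr : ∀ W : Submodule K V, (∀ g ∈ Q, Submodule.map (ρ g) W ≤ W) → W = ⊥ ∨ W = ⊤)
    (s : ℕ) (hs1 : 1 ≤ s) (hs : (ρ x - 1) ^ s = 0)
    (φ : Module.End K V) (hφ : φ * ρ x = ρ x * φ) :
    ∃ c : K, ∀ v, (φ - c • (1 : Module.End K V)) v ∈
      LinearMap.range ((ρ x - 1) ^ (Nat.card (Subgroup.zpowers x) - 1 - (s - 1))) := by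
  classical
  set σ : Representation K G (Module.End K V) := Representation.linHom ρ ρ with hσdef
  have hσ : ∀ g (ψ : Module.End K V), σ g ψ = ρ g * ψ * ρ g⁻¹ := by
    intro g ψ
    rw [hσdef, Representation.linHom_apply]
    rfl
  have hirrQ : ∀ W : Submodule K V,
      (∀ g : Q, W.map ((ρ.comp Q.subtype : Representation K Q V) g) ≤ W) → W = ⊥ ∨ W = ⊤ :=
    fun W hW => hirr W (fun g hg => hW ⟨g, hg⟩)
  -- central elements act trivially on `End V`
  have hZ : ∀ z ∈ Subgroup.center G, σ z = 1 := by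
    intro z hz
    obtain ⟨c, hc⟩ := QGroupIrrDim.schur_scalar (ρ.comp Q.subtype : Representation K Q V) hirrQ
      (ρ z) (fun g => by
        show ρ (g : G) * ρ z = ρ z * ρ (g : G)
        rw [← map_mul, ← map_mul, Subgroup.mem_center_iff.mp hz (g : G)])
    refine LinearMap.ext fun ψ => ?_
    have hcomm : ρ z * ψ = ψ * ρ z := by
      rw [hc, smul_mul_assoc, one_mul, mul_smul_comm, mul_one]
    rw [hσ, hcomm, mul_assoc, ← map_mul, mul_inv_cancel, map_one, mul_one]
    rfl
  have : Group.IsNilpotent ↥Q := hQ.isNilpotent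
  have hQK : (Nat.card ↥Q : K) ≠ 0 := by
    obtain ⟨m, hm⟩ := IsPGroup.iff_card.mp hQ
    rw [hm, Nat.cast_pow]
    apply pow_ne_zero
    intro h0
    have := (CharP.cast_eq_zero_iff K p q).mp h0
    exact hpq ((Nat.prime_dvd_prime_iff_eq hp.out hq.out).mp this)
  have hfix : σ x φ = φ := by
    rw [hσ, ← hφ, mul_assoc, ← map_mul, mul_inv_cancel, map_one, mul_one]
  obtain ⟨m₀, w, hm₀, hdec⟩ := HHCritGp.exists_fixed_add_norm Q hQK x
    (fpf_aux p q hpq Q hQ x hx hC) σ hZ φ hfix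
  obtain ⟨c, hc⟩ := QGroupIrrDim.schur_scalar (ρ.comp Q.subtype : Representation K Q V) hirrQ m₀
    (fun g => by
      have h1 := hm₀ (g : G) g.2
      rw [hσ] at h1
      show ρ (g : G) * m₀ = m₀ * ρ (g : G)
      calc ρ (g : G) * m₀ = ρ (g : G) * m₀ * ρ (g : G)⁻¹ * ρ (g : G) := by
            rw [mul_assoc _ (ρ (g : G)⁻¹), ← map_mul, inv_mul_cancel, map_one, mul_one]
        _ = m₀ * ρ (g : G) := by rw [h1])
  refine ⟨c, ?_⟩
  obtain ⟨k, hk⟩ := IsPGroup.iff_card.mp hx
  have hord : orderOf x = p ^ k := by rw [← Nat.card_zpowers, hk]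
  rw [← LinearMap.sum_apply, hord, HHCritLA.geom_sum_eq_sub_one_pow K p (σ x) k] at hdec
  have hu : ρ x = 1 + (ρ x - 1) := by abel
  have h1 : ρ x * ρ x⁻¹ = 1 := by rw [← map_mul, mul_inv_cancel, map_one]
  have h2 : ρ x⁻¹ * ρ x = 1 := by rw [← map_mul, inv_mul_cancel, map_one]
  have hN : (ρ x - 1) ^ ((s - 1) + 1) = 0 := by rw [Nat.sub_add_cancel hs1]; exact hs
  have hshift := HHCritLA.shift_pow (ρ x - 1) (s - 1) hN (ρ x) (ρ x⁻¹) hu h1 h2 (σ x - 1)
    (fun ψ => by rw [LinearMap.sub_apply, hσ, Module.End.one_apply]) (p ^ k - 1) w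
  intro v
  have h3 := hshift 0 v
  rw [pow_zero, Module.End.one_apply, zero_add] at h3
  have e : φ - c • (1 : Module.End K V) = ((σ x - 1) ^ (p ^ k - 1)) w := by
    rw [hdec, hc]; abel
  rw [e, hk]
  exact h3

/-- A critical case behind the Hall–Higman theorem. Let p ≠ q be primes and G a finite group generated by a normal q-subgroup Q and a cyclic p-subgroup generated by x, such that the centralizer of every non-identity element of that cyclic subgroup is its product with the centre of G. Let K be an algebraically closed field of characteristic p and ρ a faithful representation of G on a nonzero finite-dimensional K-space whose restriction to Q is irreducible. If s is the least exponent with (ρ(x) − 1)^s = 0, then |⟨x⟩| − 1 ≤ s ≤ |⟨x⟩|; and if s = |⟨x⟩| − 1 then |⟨x⟩| − 1 is a power of q and Q is non-abelian. -/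
theorem result {G : Type*} [Group G] [Finite G] (p q : ℕ) [Fact p.Prime] [Fact q.Prime] (hpq : p ≠ q) (Q : Subgroup G) [Q.Normal] (hQ : IsPGroup q Q) (x : G) (hx : IsPGroup p (Subgroup.zpowers x)) (hgen : Q ⊔ Subgroup.zpowers x = ⊤) (hC : ∀ y ∈ Subgroup.zpowers x, y ≠ 1 → Subgroup.centralizer ({y} : Set G) = Subgroup.zpowers x ⊔ Subgroup.center G) {K : Type*} [Field K] [IsAlgClosed K] [CharP K p] {V : Type*} [AddCommGroup V] [Module K V] [FiniteDimensional K V] [Nontrivial V] (ρ : Representation K G V) (hfaith : Function.Injective ρ) (hirr : ∀ W : Submodule K V, (∀ g ∈ Q, Submodule.map (ρ g) W ≤ W) → W = ⊥ ∨ W = ⊤) (s : ℕ) (hs : (ρ x - 1) ^ s = 0) (hmin : ∀ k < s, (ρ x - 1) ^ k ≠ 0) : Nat.card (Subgroup.zpowers x) - 1 ≤ s ∧ s ≤ Nat.card (Subgroup.zpowers x) ∧ (s = Nat.card (Subgroup.zpowers x) - 1 → (∃ b : ℕ, Nat.card (Subgroup.zpowers x) - 1 = q ^ b) ∧ ¬ IsMulCommutative Q) := by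
  have hone : (1 : Module.End K V) ≠ 0 := one_ne_zero
  have hs1 : 1 ≤ s := by
    by_contra h0
    push Not at h0
    have : s = 0 := by omega
    rw [this, pow_zero] at hs
    exact hone hs
  obtain ⟨k, hk⟩ := IsPGroup.iff_card.mp hx
  have hord : orderOf x = p ^ k := by rw [← Nat.card_zpowers, hk]
  -- `(ρ x - 1) ^ P = 0`
  have hNP : (ρ x - 1) ^ (p ^ k) = 0 := by
    have hpoly : (Polynomial.X - 1 : Polynomial K) ^ (p ^ k) = Polynomial.X ^ (p ^ k) - 1 := by
      rw [sub_pow_char_pow, one_pow]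
    have := congrArg (Polynomial.aeval (ρ x)) hpoly
    simp only [map_pow, map_sub, Polynomial.aeval_X, map_one] at this
    rw [this, ← map_pow, ← hord, pow_orderOf_eq_one, map_one, sub_self]
  have hsP : s ≤ Nat.card (Subgroup.zpowers x) := by
    by_contra hlt
    push Not at hlt
    rw [hk] at hlt
    exact hmin _ hlt hNP
  have hx1 : ρ x - 1 = 0 → Nat.card (Subgroup.zpowers x) = 1 := by
    intro h0
    have h1 : ρ x = ρ 1 := by rw [map_one]; exact sub_eq_zero.mp h0
    have h2 : x = 1 := hfaith h1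
    rw [h2, Nat.card_zpowers, orderOf_one]
  have hcommN : ∀ φ : Module.End K V, φ * (ρ x - 1) = (ρ x - 1) * φ → φ * ρ x = ρ x * φ := by
    intro φ h
    have : ρ x = (ρ x - 1) + 1 := by abel
    rw [this, mul_add, add_mul, h, mul_one, one_mul]
  have hkey := fun φ hφ => key p q hpq Q hQ x hx hC ρ hirr s hs1 hs φ (hcommN φ hφ)
  refine ⟨?_, hsP, ?_⟩
  · by_contra hlt
    push Not at hlt
    have hN : ρ x - 1 ≠ 0 := by
      intro h0
      have := hx1 h0
      omega
    refine HHCritLA.false_of_small_index (ρ x - 1) s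
      (Nat.card (Subgroup.zpowers x) - 1 - (s - 1)) hs hmin hN (by omega) ?_
    exact hkey (ρ x - 1) rfl
  · intro hsP1
    have hd : Nat.card (Subgroup.zpowers x) - 1 - (s - 1) = 1 := by omega
    have hfin : finrank K V = s := by
      refine HHCritLA.finrank_eq_of_boundary (ρ x - 1) s hs hmin ?_
      intro φ hφ
      obtain ⟨c, hc⟩ := hkey φ hφ
      refine ⟨c, fun v => ?_⟩
      have := hc v
      rwa [hd, pow_one] at this
    have hirrQ : ∀ W : Submodule K V,
        (∀ g : Q, W.map ((ρ.comp Q.subtype : Representation K Q V) g) ≤ W) → W = ⊥ ∨ W = ⊤ :=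
      fun W hW => hirr W (fun g hg => hW ⟨g, hg⟩)
    constructor
    · obtain ⟨b, hb⟩ := QGroupIrrDim.finrank_eq_prime_pow q hQ
        (ρ.comp Q.subtype : Representation K Q V) hirrQ
      exact ⟨b, by rw [← hsP1, ← hfin, hb]⟩
    · intro hab
      have hsc : ∀ g : Q, ∃ c : K, (ρ.comp Q.subtype : Representation K Q V) g = c • 1 := by
        intro g
        refine QGroupIrrDim.schur_scalar (ρ.comp Q.subtype : Representation K Q V) hirrQ _
          (fun g' => ?_)
        show ρ (g' : G) * ρ (g : G) = ρ (g : G) * ρ (g' : G)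
        rw [← map_mul, ← map_mul, ← Subgroup.coe_mul, ← Subgroup.coe_mul, hab.is_comm.comm g' g]
      have h1 := QGroupIrrDim.finrank_eq_one_of_scalar (ρ.comp Q.subtype : Representation K Q V)
        hirrQ hsc
      rw [hfin] at h1
      have h0 : ρ x - 1 = 0 := by rw [h1, pow_one] at hs; exact hs
      have := hx1 h0
      omega

end Cfsg.Agent.S4282
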