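import Cfsg.Statements.S4283
import Cfsg.Agent.S0034

set_option autoImplicit false
open Cfsg
open scoped Pointwise

namespace Cfsg.Agent.S4283

variable {G : Type*} [Group G]

theorem mem_centralizer_singleton_iff (x g : G) :
    g ∈ Subgroup.centralizer ({x} : Set G) ↔ x * g = g * x := by
  rw [Subgroup.mem_centralizer_iff]
  simp

theorem index_centralizer_conj (a x : G) :
    (Subgroup.centralizer ({a * x * a⁻¹} : Set G)).index =
      (Subgroup.centralizer ({x} : Set G)).index := by
  have h : Subgroup.centralizer ({a * x * a⁻¹} : Set G) =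
      (Subgroup.centralizer ({x} : Set G)).map ((MulAut.conj a : G ≃* G) : G →* G) := by
    ext g
    rw [Subgroup.mem_map, mem_centralizer_singleton_iff]
    constructor
    · intro hg
      refine ⟨a⁻¹ * g * a, ?_, by simp [MulAut.conj_apply, mul_assoc]⟩
      rw [mem_centralizer_singleton_iff]
      have h1 : x * (a⁻¹ * g * a) = a⁻¹ * (a * x * a⁻¹ * g) * a := by group
      have h2 : a⁻¹ * g * a * x = a⁻¹ * (g * (a * x * a⁻¹)) * a := by group
      rw [h1, h2, hg]
    · rintro ⟨k, hk, rfl⟩
      rw [mem_centralizer_singleton_iff] at hk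
      change a * x * a⁻¹ * (a * k * a⁻¹) = (a * k * a⁻¹) * (a * x * a⁻¹)
      have h1 : a * x * a⁻¹ * (a * k * a⁻¹) = a * (x * k) * a⁻¹ := by group
      have h2 : a * k * a⁻¹ * (a * x * a⁻¹) = a * (k * x) * a⁻¹ := by group
      rw [h1, h2, hk]
  rw [h, Subgroup.index_map_equiv]

/-- Let G be a finite group with centre Z ... -/
theorem result {G : Type*} [Group G] [Finite G] (K H : Subgroup G) (hZK : Subgroup.center G ≤ K) (hZH : Subgroup.center G ≤ H) (hK : IsMulCommutative K) (hH : IsMulCommutative H) (hFrob : Cfsg.IsFrobeniusComplement (H.map (QuotientGroup.mk' (Subgroup.center G)))) (hker : Cfsg.frobeniusKernel (H.map (QuotientGroup.mk' (Subgroup.center G))) = (K.map (QuotientGroup.mk' (Subgroup.center G)) : Set (G ⧸ Subgroup.center G))) : Set.range (fun x : G => (Subgroup.centralizer ({x} : Set G)).index) = ({1, K.index, H.index} : Set ℕ) ∧ K.index.Coprime H.index := by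
  set Z := Subgroup.center G with hZ
  set π := QuotientGroup.mk' Z with hπ
  set Hb := H.map π with hHb
  have hπsurj : Function.Surjective π := QuotientGroup.mk'_surjective Z
  have hker_π : π.ker = Z := QuotientGroup.ker_mk' Z
  have L3 : ∀ x : G, π x = 1 ↔ x ∈ Z := by
    intro x; rw [← MonoidHom.mem_ker, hker_π]
  have L1 : ∀ x : G, π x ∈ Hb ↔ x ∈ H := by
    intro x
    constructor
    · rintro ⟨h, hh, hhx⟩
      have : h⁻¹ * x ∈ Z := by
        rw [← L3, map_mul, map_inv, hhx, inv_mul_cancel]
      have h2 : x = h * (h⁻¹ * x) := by group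
      rw [h2]
      exact H.mul_mem hh (hZH this)
    · intro hx; exact ⟨x, hx, rfl⟩
  have L2 : ∀ x : G, π x ∈ K.map π ↔ x ∈ K := by
    intro x
    constructor
    · rintro ⟨h, hh, hhx⟩
      have : h⁻¹ * x ∈ Z := by
        rw [← L3, map_mul, map_inv, hhx, inv_mul_cancel]
      have h2 : x = h * (h⁻¹ * x) := by group
      rw [h2]
      exact K.mul_mem hh (hZK this)
    · intro hx; exact ⟨x, hx, rfl⟩
  have Lker : ∀ x : G, π x ∈ Cfsg.frobeniusKernel Hb ↔ x ∈ K := by
    intro x
    rw [hker]
    exact L2 x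
  -- Frobenius centralizer property
  have L4 : ∀ (y c a : G ⧸ Z), y ≠ 1 → y ∈ MulAut.conj a • Hb → c * y = y * c →
      c ∈ MulAut.conj a • Hb := by
    intro y c a hy hya hc
    have h2 : y ∈ MulAut.conj (c * a) • Hb := by
      rw [Cfsg.Agent.S0034.mem_conj_smul_iff] at hya ⊢
      have : (c * a)⁻¹ * y * (c * a) = a⁻¹ * y * a := by
        have : c⁻¹ * y * c = y := by rw [mul_assoc, ← hc]; group
        calc (c * a)⁻¹ * y * (c * a) = a⁻¹ * (c⁻¹ * y * c) * a := by group
          _ = a⁻¹ * y * a := by rw [this]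
      rw [this]; exact hya
    have := Cfsg.Agent.S0034.ti hFrob hy hya h2
    rw [Cfsg.Agent.S0034.mem_conj_smul_iff]
    have h3 : a⁻¹ * c * a = a⁻¹ * (c * a) := by group
    rw [h3]; exact this
  -- centralizers
  have CK : ∀ x : G, x ∈ K → x ∉ Z → Subgroup.centralizer ({x} : Set G) = K := by
    intro x hxK hxZ
    apply le_antisymm
    · intro g hg
      rw [mem_centralizer_singleton_iff] at hg
      by_contra hgK
      have h1 : π g ∉ Cfsg.frobeniusKernel Hb := fun h => hgK ((Lker g).mp h)
      simp only [Cfsg.frobeniusKernel, Set.mem_ofPred_eq, not_or, not_forall, not_not] at h1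
      obtain ⟨hg1, a, hga⟩ := h1
      have h2 : π x ∈ MulAut.conj a • Hb := by
        apply L4 (π g) (π x) a hg1 hga
        rw [← map_mul, ← map_mul, hg]
      have h3 : π x ∈ Cfsg.frobeniusKernel Hb := (Lker x).mpr hxK
      simp only [Cfsg.frobeniusKernel, Set.mem_ofPred_eq] at h3
      rcases h3 with h3 | h3
      · exact hxZ ((L3 x).mp h3)
      · exact h3 a h2
    · intro g hg
      rw [mem_centralizer_singleton_iff]
      have := hK.is_comm.comm (⟨x, hxK⟩ : K) ⟨g, hg⟩
      exact congrArg Subtype.val this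
  have CH : ∀ x : G, x ∈ H → x ∉ Z → Subgroup.centralizer ({x} : Set G) = H := by
    intro x hxH hxZ
    apply le_antisymm
    · intro g hg
      rw [mem_centralizer_singleton_iff] at hg
      have hx1 : π x ≠ 1 := fun h => hxZ ((L3 x).mp h)
      have hxa : π x ∈ MulAut.conj (1 : G ⧸ Z) • Hb := by
        rw [map_one, one_smul]; exact (L1 x).mpr hxH
      have := L4 (π x) (π g) 1 hx1 hxa (by rw [← map_mul, ← map_mul, hg])
      rw [map_one, one_smul] at this
      exact (L1 g).mp this
    · intro g hg
      rw [mem_centralizer_singleton_iff]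
      have := hH.is_comm.comm (⟨x, hxH⟩ : H) ⟨g, hg⟩
      exact congrArg Subtype.val this
  -- the index of every centralizer
  have hidx : ∀ x : G, (Subgroup.centralizer ({x} : Set G)).index = 1 ∨
      (Subgroup.centralizer ({x} : Set G)).index = K.index ∨
      (Subgroup.centralizer ({x} : Set G)).index = H.index := by
    intro x
    by_cases hxZ : x ∈ Z
    · left
      rw [Subgroup.index_eq_one, eq_top_iff]
      intro g _
      rw [mem_centralizer_singleton_iff]
      exact (Subgroup.mem_center_iff.mp hxZ g).symm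
    · by_cases hxK : x ∈ K
      · right; left; rw [CK x hxK hxZ]
      · right; right
        have h1 : π x ∉ Cfsg.frobeniusKernel Hb := fun h => hxK ((Lker x).mp h)
        simp only [Cfsg.frobeniusKernel, Set.mem_ofPred_eq, not_or, not_forall, not_not] at h1
        obtain ⟨hx1, a, hxa⟩ := h1
        obtain ⟨a', rfl⟩ := hπsurj a
        rw [Cfsg.Agent.S0034.mem_conj_smul_iff, ← map_inv, ← map_mul, ← map_mul, L1] at hxa
        have hnz : a'⁻¹ * x * a' ∉ Z := by
          intro h
          apply hxZ
          have h2 : x = a' * (a'⁻¹ * x * a') * a'⁻¹ := by group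
          rw [h2]
          have hn : Z.Normal := inferInstance
          exact hn.conj_mem _ h a'
        have h2 : x = a' * (a'⁻¹ * x * a') * a'⁻¹ := by group
        rw [h2, index_centralizer_conj, CH _ hxa hnz]
  -- counting
  obtain ⟨hcardker, hmod⟩ := Cfsg.Agent.S0034.result Hb hFrob
  have hHbidx : Hb.index = H.index :=
    Subgroup.index_map_eq _ hπsurj (by rw [hker_π]; exact hZH)
  have hKbidx : (K.map π).index = K.index :=
    Subgroup.index_map_eq _ hπsurj (by rw [hker_π]; exact hZK)
  have hKbcard : Nat.card (K.map π) = Hb.index := by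
    rw [← hcardker, hker]; rfl
  have hprod1 : Nat.card (K.map π) * (K.map π).index = Nat.card (G ⧸ Z) :=
    Subgroup.card_mul_index _
  have hprod2 : Nat.card Hb * Hb.index = Nat.card (G ⧸ Z) := Subgroup.card_mul_index _
  have hidxpos : 0 < Hb.index := Nat.pos_of_ne_zero Subgroup.index_ne_zero_of_finite
  have hKidx : K.index = Nat.card Hb := by
    rw [← hKbidx]
    have : Hb.index * (K.map π).index = Hb.index * Nat.card Hb := by
      rw [← hKbcard, hprod1, hKbcard, mul_comm, hprod2]
    exact Nat.eq_of_mul_eq_mul_left hidxpos this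
  have hcop : K.index.Coprime H.index := by
    rw [hKidx, ← hHbidx]
    have : Nat.gcd (Nat.card Hb) Hb.index = Nat.gcd (Nat.card Hb) 1 := by
      rw [Nat.gcd_comm, Nat.gcd_comm _ 1]
      exact Nat.ModEq.gcd_eq hmod
    rw [Nat.Coprime, this, Nat.gcd_one_right]
  refine ⟨?_, hcop⟩
  ext n
  simp only [Set.mem_range, Set.mem_insert_iff, Set.mem_singleton_iff]
  constructor
  · rintro ⟨x, rfl⟩
    exact hidx x
  · rintro (h | h | h)
    · refine ⟨1, ?_⟩
      rw [h, Subgroup.index_eq_one, eq_top_iff]
      intro g _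
      rw [mem_centralizer_singleton_iff]; simp
    · -- an element of K outside Z
      have h1 : 1 < Nat.card (K.map π) := by
        rw [hKbcard, hHbidx, ← hHbidx]
        exact Subgroup.one_lt_index_of_ne_top hFrob.2.1
      obtain ⟨y, hy⟩ := (Subgroup.one_lt_card_iff_ne_bot _).mp h1 |> fun hne => by
        rw [Ne, Subgroup.eq_bot_iff_forall] at hne
        push Not at hne
        exact hne
      obtain ⟨hyK, hy1⟩ := hy
      obtain ⟨x, hxK, rfl⟩ := hyK
      refine ⟨x, ?_⟩
      rw [h, CK x hxK (fun hz => hy1 ((L3 x).mpr hz))]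
    · have hne := hFrob.1
      rw [Ne, Subgroup.eq_bot_iff_forall] at hne
      push Not at hne
      obtain ⟨y, hyH, hy1⟩ := hne
      obtain ⟨x, hxH, rfl⟩ := hyH
      refine ⟨x, ?_⟩
      rw [h, CH x hxH (fun hz => hy1 ((L3 x).mpr hz))]

end Cfsg.Agent.S4283
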