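import Cfsg.Statements.S4292
import Cfsg.Agent.Lib.Helper66.NormIdealRep
import Cfsg.Agent.Lib.Helper71.FrobCompl

set_option autoImplicit false
open Cfsg

namespace Cfsg.Agent.S4292

open Cfsg.Agent.Lib.Helper66.NormIdeal

/-- A finite nontrivial group acting freely by automorphisms on a finite nontrivial group is a
Frobenius complement. -/
theorem frobeniusComplement_of_free_mulAut {K : Type*} {N : Type*} [Group K] [Finite K]
    [Nontrivial K] [Group N] [Finite N] [Nontrivial N] (φ : K →* MulAut N)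
    (hfree : ∀ k : K, k ≠ 1 → ∀ n : N, φ k n = n → n = 1) :
    ∃ (L : Type) (_ : Group L) (_ : Finite L) (H : Subgroup L),
      Cfsg.IsFrobeniusComplement H ∧ Nonempty (K ≃* H) := by
  have hF : Cfsg.IsFrobeniusComplement (SemidirectProduct.inr : K →* N ⋊[φ] K).range := by
    apply Cfsg.Agent.Lib.Helper71.isFrobeniusComplement_inr_range
    intro k n hn
    by_cases hk : k = 1
    · exact Or.inl hk
    · exact Or.inr (hfree k hk n hn)
  have hfin : Finite (N ⋊[φ] K) :=
    Finite.of_equiv _ (SemidirectProduct.equivProd (φ := φ)).symm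
  obtain ⟨L, iG, iF, H, hH, ⟨e⟩⟩ :=
    Cfsg.Agent.Lib.Helper71.exists_frobeniusComplement_type0 _ hF
  refine ⟨L, iG, iF, H, hH, ⟨?_⟩⟩
  exact (MonoidHom.ofInjective (SemidirectProduct.inr_injective (φ := φ))).trans e

/-- A subgroup-like restriction: if `G` is a Frobenius complement and `K` embeds in `G`, with `K`
nontrivial, then `K` is a Frobenius complement. -/
theorem frobeniusComplement_of_injective {G K : Type*} [Group G] [Finite G] [Group K] [Finite K]
    [Nontrivial K] (f : K →* G) (hf : Function.Injective f)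
    (hFC : ∃ (L : Type) (_ : Group L) (_ : Finite L) (H : Subgroup L),
      Cfsg.IsFrobeniusComplement H ∧ Nonempty (G ≃* H)) :
    ∃ (L : Type) (_ : Group L) (_ : Finite L) (H : Subgroup L),
      Cfsg.IsFrobeniusComplement H ∧ Nonempty (K ≃* H) := by
  obtain ⟨N, _, _, _, φ, -, hfree⟩ := exists_fpf_hom_of_frobeniusComplement hFC
  apply frobeniusComplement_of_free_mulAut (φ.comp f)
  intro k hk n hn
  apply hfree (f k) _ n hn
  intro h
  exact hk (hf (h.trans (map_one f).symm))

/-- In a Frobenius complement two commuting "independent" elements of the same prime order cannot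
exist: coprimality of the factors of a direct product. -/
theorem coprime_of_frobeniusComplement_prod {A B : Type*} [Group A] [Finite A] [Group B] [Finite B]
    (hFC : ∃ (L : Type) (_ : Group L) (_ : Finite L) (H : Subgroup L),
      Cfsg.IsFrobeniusComplement H ∧ Nonempty ((A × B) ≃* H)) :
    (Nat.card A).Coprime (Nat.card B) := by
  by_contra hnc
  obtain ⟨r, hr, hrA, hrB⟩ := Nat.Prime.not_coprime_iff_dvd.mp hnc
  haveI : Fact r.Prime := ⟨hr⟩
  obtain ⟨a, ha⟩ := exists_prime_orderOf_dvd_card' r hrA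
  obtain ⟨b, hb⟩ := exists_prime_orderOf_dvd_card' r hrB
  have ha1 : a ≠ 1 := by
    rintro rfl; rw [orderOf_one] at ha; exact hr.one_lt.ne ha
  obtain ⟨L, _, _, H, hH, ⟨e⟩⟩ := hFC
  obtain ⟨N, hNker, -, -⟩ := Cfsg.Agent.S0035.result H hH
  obtain ⟨hNn, -, -, hN1, hfpf, -⟩ := Cfsg.Agent.Lib.Helper35.frobenius_data H N hH hNker.symm
  set P : Subgroup H := (Subgroup.prod (Subgroup.zpowers a) (Subgroup.zpowers b)).map e.toMonoidHom
    with hP
  have hPp : IsPGroup r P := by
    rintro ⟨x, hx⟩
    obtain ⟨u, hu, rfl⟩ := hx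
    refine ⟨1, ?_⟩
    apply Subtype.ext
    rw [Subgroup.coe_pow, Subgroup.coe_one, pow_one]
    show (e.toMonoidHom u) ^ r = 1
    rw [← map_pow]
    obtain ⟨⟨i, hi⟩, ⟨j, hj⟩⟩ := hu
    have hu' : u = (a ^ i, b ^ j) := Prod.ext hi.symm hj.symm
    have : u ^ r = 1 := by
      rw [hu']
      ext
      · show (a ^ i) ^ r = 1
        rw [← zpow_natCast, ← zpow_mul, mul_comm, zpow_mul, zpow_natCast, ← ha, pow_orderOf_eq_one,
          one_zpow]
      · show (b ^ j) ^ r = 1
        rw [← zpow_natCast, ← zpow_mul, mul_comm, zpow_mul, zpow_natCast, ← hb, pow_orderOf_eq_one,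
          one_zpow]
    rw [this, map_one]
  have hxP : e.toMonoidHom (a, 1) ∈ P :=
    ⟨(a, 1), ⟨Subgroup.mem_zpowers a, Subgroup.one_mem _⟩, rfl⟩
  have hyP : e.toMonoidHom (1, b) ∈ P :=
    ⟨(1, b), ⟨Subgroup.one_mem _, Subgroup.mem_zpowers b⟩, rfl⟩
  set x : P := ⟨e.toMonoidHom (a, 1), hxP⟩ with hx
  set y : P := ⟨e.toMonoidHom (1, b), hyP⟩ with hy
  have hordx : orderOf x = r := by
    have h1 : orderOf x = orderOf (e.toMonoidHom (a, 1)) := (Subgroup.orderOf_coe x).symm
    rw [h1, orderOf_injective e.toMonoidHom e.injective, Prod.orderOf_mk, orderOf_one, ha]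
    simp
  have hordy : orderOf y = r := by
    have h1 : orderOf y = orderOf (e.toMonoidHom (1, b)) := (Subgroup.orderOf_coe y).symm
    rw [h1, orderOf_injective e.toMonoidHom e.injective, Prod.orderOf_mk, orderOf_one, hb]
    simp
  have hC := Cfsg.Agent.Lib.Helper35.unique_subgroup_of_order_p_of_fpf N H hN1 hfpf r P hPp
    (Subgroup.zpowers x) (Subgroup.zpowers y) (by rw [Nat.card_zpowers, hordx])
    (by rw [Nat.card_zpowers, hordy])
  have hmem : x ∈ Subgroup.zpowers y := hC ▸ Subgroup.mem_zpowers x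
  obtain ⟨j, hj⟩ := hmem
  have h2 : (e.toMonoidHom (1, b)) ^ j = e.toMonoidHom (a, 1) := by
    have := congrArg (fun z : P => (z : H)) hj
    simpa [hx, hy] using this
  rw [← map_zpow] at h2
  have h3 := e.injective h2
  have h4 := congrArg Prod.fst h3
  simp at h4
  exact ha1 h4.symm

section product

variable {k : Type*} [Field k] {A B : Type*} [Group A] [Group B]
  {V W : Type*} [AddCommGroup V] [Module k V] [AddCommGroup W] [Module k W]

/-- The action of `A × B` on `Hom(W, V)`: `(a, b) • φ = a ∘ φ ∘ b⁻¹`. -/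
noncomputable def homRep (ρ : A →* Module.End k V) (σ : B →* Module.End k W) :
    A × B →* Module.End k (W →ₗ[k] V) where
  toFun g :=
    { toFun := fun φ => (ρ g.1) ∘ₗ φ ∘ₗ (σ g.2⁻¹)
      map_add' := by
        intro φ ψ
        ext w
        simp
      map_smul' := by
        intro c φ
        ext w
        simp }
  map_one' := by
    ext φ w
    simp
  map_mul' := by
    intro g h
    ext φ w
    simp [mul_inv_rev]

@[simp] theorem homRep_apply (ρ : A →* Module.End k V) (σ : B →* Module.End k W) (g : A × B)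
    (φ : W →ₗ[k] V) (w : W) : homRep ρ σ g φ w = ρ g.1 (φ (σ g.2⁻¹ w)) := rfl

theorem homRep_free [Finite A] [Finite B] [Finite W]
    (hcop : (Nat.card A).Coprime (Nat.card B))
    (ρ : A →* Module.End k V) (σ : B →* Module.End k W)
    (hρ : ∀ a : A, a ≠ 1 → ∀ v : V, ρ a v = v → v = 0)
    (hσ : ∀ b : B, b ≠ 1 → ∀ w : W, σ b w = w → w = 0)
    (g : A × B) (hg : g ≠ 1) (φ : W →ₗ[k] V) (hφ : homRep ρ σ g φ = φ) : φ = 0 := by
  by_cases ha : g.1 = 1
  · -- then `g.2 ≠ 1`
    have hb : g.2⁻¹ ≠ 1 := by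
      intro h
      apply hg
      ext
      · exact ha
      · simpa using h
    have hfix : ∀ w : W, φ (σ g.2⁻¹ w) = φ w := by
      intro w
      have := congrArg (fun ψ : W →ₗ[k] V => ψ w) hφ
      simpa [ha] using this
    -- `σ g.2⁻¹ - 1` is injective hence surjective
    have hinj : Function.Injective ⇑(σ g.2⁻¹ - 1) := by
      rw [← LinearMap.ker_eq_bot, LinearMap.ker_eq_bot']
      intro w hw
      apply hσ _ hb w
      have : σ g.2⁻¹ w - w = 0 := by simpa using hw
      exact sub_eq_zero.mp this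
    have hsurj : Function.Surjective ⇑(σ g.2⁻¹ - 1) := Finite.surjective_of_injective hinj
    ext w
    obtain ⟨w', rfl⟩ := hsurj w
    simp [hfix]
  · -- `g.1 ≠ 1`: use the power `|B|`
    set n := Nat.card B with hn
    have hpow : ∀ m : ℕ, homRep ρ σ (g ^ m) φ = φ := by
      intro m
      induction m with
      | zero => simp
      | succ m ih => rw [pow_succ, map_mul, Module.End.mul_apply, hφ, ih]
    have h1 := hpow n
    have hbn : g.2 ^ n = 1 := by rw [hn]; exact pow_card_eq_one'
    have han : g.1 ^ n ≠ 1 := by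
      intro h
      apply ha
      have h2 : orderOf g.1 ∣ n := orderOf_dvd_of_pow_eq_one h
      have h3 : orderOf g.1 ∣ Nat.card A := orderOf_dvd_natCard _
      have : orderOf g.1 = 1 := Nat.eq_one_of_dvd_coprimes hcop h3 h2
      exact orderOf_eq_one_iff.mp this
    ext w
    apply hρ _ han
    have h5 : ρ (g ^ n).1 (φ (σ (g ^ n).2⁻¹ w)) = φ w := by
      have := congrArg (fun ψ : W →ₗ[k] V => ψ w) h1
      rwa [homRep_apply] at this
    rw [Prod.pow_fst, Prod.pow_snd, hbn, inv_one, map_one] at h5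
    simpa using h5

end product

/-- A direct product of two Frobenius complements of coprime orders is a Frobenius complement. -/
theorem frobeniusComplement_prod {A B : Type*} [Group A] [Finite A] [Nontrivial A] [Group B]
    [Finite B] [Nontrivial B]
    (hA : ∃ (L : Type) (_ : Group L) (_ : Finite L) (H : Subgroup L),
      Cfsg.IsFrobeniusComplement H ∧ Nonempty (A ≃* H))
    (hB : ∃ (L : Type) (_ : Group L) (_ : Finite L) (H : Subgroup L),
      Cfsg.IsFrobeniusComplement H ∧ Nonempty (B ≃* H))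
    (hcop : (Nat.card A).Coprime (Nat.card B)) :
    ∃ (L : Type) (_ : Group L) (_ : Finite L) (H : Subgroup L),
      Cfsg.IsFrobeniusComplement H ∧ Nonempty ((A × B) ≃* H) := by
  have hZA := natCast_notMem_normIdeal_int_of_frobeniusComplement hA
  have hZB := natCast_notMem_normIdeal_int_of_frobeniusComplement hB
  obtain ⟨ℓ, hℓge, hℓ⟩ := Nat.exists_infinite_primes (Nat.card A * Nat.card B + 1)
  haveI : Fact ℓ.Prime := ⟨hℓ⟩
  have hApos : 0 < Nat.card A := Nat.card_pos
  have hBpos : 0 < Nat.card B := Nat.card_pos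
  have hℓA : ¬ ℓ ∣ Nat.card A := by
    apply Nat.not_dvd_of_pos_of_lt hApos
    have : Nat.card A ≤ Nat.card A * Nat.card B := Nat.le_mul_of_pos_right _ hBpos
    omega
  have hℓB : ¬ ℓ ∣ Nat.card B := by
    apply Nat.not_dvd_of_pos_of_lt hBpos
    have : Nat.card B ≤ Nat.card A * Nat.card B := Nat.le_mul_of_pos_left _ hApos
    omega
  haveI : NeZero (Nat.card A : ZMod ℓ) := ⟨by rw [Ne, ZMod.natCast_eq_zero_iff]; exact hℓA⟩
  haveI : NeZero (Nat.card B : ZMod ℓ) := ⟨by rw [Ne, ZMod.natCast_eq_zero_iff]; exact hℓB⟩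
  have h1A := one_notMem_normIdeal_zmod ℓ hZA
  have h1B := one_notMem_normIdeal_zmod ℓ hZB
  haveI := nontrivial_annSub h1A
  haveI := nontrivial_annSub h1B
  haveI : Finite (MonoidAlgebra (ZMod ℓ) A) := Module.finite_of_finite (ZMod ℓ)
  haveI : Finite (MonoidAlgebra (ZMod ℓ) B) := Module.finite_of_finite (ZMod ℓ)
  haveI : Finite (annSub (ZMod ℓ) A) := Subtype.finite
  haveI : Finite (annSub (ZMod ℓ) B) := Subtype.finite
  haveI : Finite (annSub (ZMod ℓ) B →ₗ[ZMod ℓ] annSub (ZMod ℓ) A) :=
    Finite.of_injective (fun f => (f : annSub (ZMod ℓ) B → annSub (ZMod ℓ) A))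
      DFunLike.coe_injective
  letI : DistribMulAction (A × B) (annSub (ZMod ℓ) B →ₗ[ZMod ℓ] annSub (ZMod ℓ) A) :=
    DistribMulAction.compHom _ (homRep (annRep (ZMod ℓ) A) (annRep (ZMod ℓ) B))
  apply Cfsg.Agent.Lib.Helper71.exists_frobeniusComplement_of_free_action (K := A × B)
    (M := annSub (ZMod ℓ) B →ₗ[ZMod ℓ] annSub (ZMod ℓ) A)
  intro g φ h
  by_cases hg : g = 1
  · exact Or.inl hg
  · right
    exact homRep_free hcop _ _ (fun a ha v hv => annRep_free ha v hv)
      (fun b hb w hw => annRep_free hb w hw) g hg φ h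

/-- Let A and B be nontrivial finite groups. Then the direct product A × B occurs as a Frobenius complement if and only if A and B both occur as Frobenius complements and the orders of A and B are coprime. -/
theorem result {A B : Type*} [Group A] [Finite A] [Nontrivial A] [Group B] [Finite B] [Nontrivial B] :
    (∃ (L : Type) (_ : Group L) (_ : Finite L) (H : Subgroup L), Cfsg.IsFrobeniusComplement H ∧ Nonempty ((A × B) ≃* H)) ↔
    ((∃ (L : Type) (_ : Group L) (_ : Finite L) (H : Subgroup L), Cfsg.IsFrobeniusComplement H ∧ Nonempty (A ≃* H)) ∧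
     (∃ (L : Type) (_ : Group L) (_ : Finite L) (H : Subgroup L), Cfsg.IsFrobeniusComplement H ∧ Nonempty (B ≃* H)) ∧
     (Nat.card A).Coprime (Nat.card B)) := by
  constructor
  · intro hFC
    exact ⟨frobeniusComplement_of_injective (MonoidHom.inl A B) (fun x y h => by simpa using congrArg Prod.fst h) hFC,
      frobeniusComplement_of_injective (MonoidHom.inr A B) (fun x y h => by simpa using congrArg Prod.snd h) hFC,
      coprime_of_frobeniusComplement_prod hFC⟩
  · rintro ⟨hA, hB, hcop⟩
    exact frobeniusComplement_prod hA hB hcop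

end Cfsg.Agent.S4292
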