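import Cfsg.Statements.S4293
import Cfsg.Agent.Lib.Helper71.FrobCompl

set_option autoImplicit false
open Cfsg

namespace Cfsg.Agent.S4293

variable {D : Type*} [DivisionRing D] (H : Subgroup Dˣ)


/-- The ℤ-span of `H` inside `D`. -/
def spanO : Submodule ℤ D := Submodule.span ℤ (Set.range fun h : H => ((h : Dˣ) : D))

theorem mul_mem_spanO (h : H) {x : D} (hx : x ∈ spanO H) : ((h : Dˣ) : D) * x ∈ spanO H := by
  induction hx using Submodule.span_induction with
  | mem x hx =>
    obtain ⟨h', rfl⟩ := hx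
    exact Submodule.subset_span ⟨h * h', by simp⟩
  | zero => simp
  | add x y _ _ hx hy => rw [mul_add]; exact add_mem hx hy
  | smul a x _ hx => rw [mul_smul_comm]; exact Submodule.smul_mem _ _ hx

/-- Left multiplication by `h` on the span. -/
def lam (h : H) : spanO H →ₗ[ℤ] spanO H :=
  (LinearMap.mulLeft ℤ (((h : Dˣ) : D))).restrict (fun _ hx => mul_mem_spanO H h hx)

theorem lam_apply (h : H) (x : spanO H) : ((lam H h x : spanO H) : D) = ((h : Dˣ) : D) * (x : D) := rfl

/-- `p • O`. -/
def pO (p : ℕ) : Submodule ℤ (spanO H) :=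
  LinearMap.range ((p : ℤ) • (LinearMap.id : spanO H →ₗ[ℤ] spanO H))

theorem mem_pO (p : ℕ) (x : spanO H) : x ∈ pO H p ↔ ∃ y : spanO H, (p : ℤ) • y = x := by
  simp [pO, LinearMap.mem_range]

theorem lam_pO_le (p : ℕ) (h : H) : pO H p ≤ (pO H p).comap (lam H h) := by
  intro x hx
  rw [Submodule.mem_comap, mem_pO]
  rw [mem_pO] at hx
  obtain ⟨y, rfl⟩ := hx
  exact ⟨lam H h y, by rw [map_smul]⟩

/-- The quotient module `O / pO`. -/
abbrev Mq (p : ℕ) := spanO H ⧸ pO H p

/-- The action of `h` on `O / pO`. -/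
def act (p : ℕ) (h : H) : Mq H p →ₗ[ℤ] Mq H p :=
  Submodule.mapQ _ _ (lam H h) (lam_pO_le H p h)

theorem act_mk (p : ℕ) (h : H) (x : spanO H) :
    act H p h (Submodule.Quotient.mk x) = Submodule.Quotient.mk (lam H h x) := rfl

theorem lam_one : lam H 1 = LinearMap.id := by
  ext x
  simp [lam_apply]

theorem lam_mul (h h' : H) : lam H (h * h') = (lam H h).comp (lam H h') := by
  ext x
  simp [lam_apply, mul_assoc]

@[instance_reducible]
noncomputable def distribMulActionMq (p : ℕ) : DistribMulAction H (Mq H p) where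
  smul h q := act H p h q
  one_smul q := by
    induction q using Submodule.Quotient.induction_on with
    | H x =>
    change act H p 1 _ = _
    rw [act_mk, lam_one]; rfl
  mul_smul h h' q := by
    induction q using Submodule.Quotient.induction_on with
    | H x =>
    change act H p (h * h') _ = act H p h (act H p h' _)
    rw [act_mk, act_mk, act_mk, lam_mul]; rfl
  smul_zero h := map_zero _
  smul_add h q q' := map_add _ _ _

section Facts

variable {H}

theorem p_smul_eq_zero (p : ℕ) (q : Mq H p) : (p : ℤ) • q = 0 := by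
  induction q using Submodule.Quotient.induction_on with
  | H x =>
  rw [← Submodule.Quotient.mk_smul, Submodule.Quotient.mk_eq_zero, mem_pO]
  exact ⟨x, rfl⟩

theorem geom_sum_eq_zero (h : H) (hh : h ≠ 1) :
    ∑ j ∈ Finset.range (orderOf h), (((h : Dˣ) : D)) ^ j = 0 := by
  have h1 := mul_geom_sum (((h : Dˣ) : D)) (orderOf h)
  have h2 : (((h : Dˣ) : D)) ^ orderOf h = 1 := by
    have := pow_orderOf_eq_one h
    have h3 : (((h ^ orderOf h : H) : Dˣ) : D) = 1 := by rw [this]; rfl
    rw [← h3]
    push_cast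
    rfl
  rw [h2, sub_self] at h1
  rcases mul_eq_zero.mp h1 with h3 | h3
  · exfalso
    apply hh
    have : (((h : Dˣ) : D)) = 1 := sub_eq_zero.mp h3
    exact Subtype.ext (Units.ext this)
  · exact h3

theorem act_pow_mk (p : ℕ) (h : H) (j : ℕ) (x : spanO H) :
    act H p (h ^ j) (Submodule.Quotient.mk x) =
      Submodule.Quotient.mk ⟨(((h : Dˣ) : D)) ^ j * (x : D), by
        have := mul_mem_spanO H (h ^ j) x.2
        simpa using this⟩ := by
  rw [act_mk]
  congr 1

theorem sum_act_pow_eq_zero (p : ℕ) (h : H) (hh : h ≠ 1) (q : Mq H p) :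
    ∑ j ∈ Finset.range (orderOf h), act H p (h ^ j) q = 0 := by
  induction q using Submodule.Quotient.induction_on with
  | H x =>
  simp_rw [act_pow_mk]
  have hsum : ∀ (s : Finset ℕ) (f : ℕ → spanO H),
      ∑ j ∈ s, (Submodule.Quotient.mk (f j) : Mq H p) = Submodule.Quotient.mk (∑ j ∈ s, f j) := by
    intro s f
    exact (map_sum (Submodule.mkQ (pO H p)) f s).symm
  rw [hsum, Submodule.Quotient.mk_eq_zero]
  convert Submodule.zero_mem _
  ext
  simp only [Submodule.coe_sum, ZeroMemClass.coe_zero]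
  rw [← Finset.sum_mul, geom_sum_eq_zero h hh, zero_mul]

theorem free_of_coprime (p : ℕ) (h : H) (hh : h ≠ 1) (hcop : (orderOf h).Coprime p)
    (q : Mq H p) (hq : act H p h q = q) : q = 0 := by
  have hpow : ∀ j : ℕ, act H p (h ^ j) q = q := by
    intro j
    induction j with
    | zero =>
      induction q using Submodule.Quotient.induction_on with
      | H x => rw [pow_zero, act_mk, lam_one]; rfl
    | succ j ih =>
      induction q using Submodule.Quotient.induction_on with
      | H x =>
        rw [pow_succ, act_mk, lam_mul]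
        rw [act_mk] at hq ih
        change Submodule.Quotient.mk (lam H (h ^ j) (lam H h x)) = _
        rw [← act_mk, hq, act_mk, ih]
  have h1 := sum_act_pow_eq_zero p h hh q
  simp_rw [hpow] at h1
  rw [Finset.sum_const, Finset.card_range] at h1
  have h2 := p_smul_eq_zero p q
  -- Bezout
  have hb := Nat.gcd_eq_gcd_ab (orderOf h) p
  rw [hcop.gcd_eq_one] at hb
  have : q = ((orderOf h : ℤ) * Nat.gcdA (orderOf h) p + (p : ℤ) * Nat.gcdB (orderOf h) p) • q := by
    rw [← hb]; simp
  rw [this, add_smul, mul_comm, mul_smul, mul_comm, mul_smul, h2, smul_zero, add_zero]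
  rw [natCast_zsmul, h1, smul_zero]

end Facts

section Fin

variable {H}

theorem one_mem_spanO : (1 : D) ∈ spanO H :=
  Submodule.subset_span ⟨1, by simp⟩

theorem finite_Mq [Finite H] (p : ℕ) (hp : p ≠ 0) : Finite (Mq H p) := by
  have : Module.Finite ℤ (spanO H) := Module.Finite.span_of_finite ℤ (Set.finite_range _)
  apply Module.finite_of_fg_torsion
  intro q
  refine ⟨⟨(p : ℤ), ?_⟩, p_smul_eq_zero p q⟩
  rw [mem_nonZeroDivisors_iff_ne_zero]
  exact_mod_cast hp

theorem nontrivial_Mq_of_charP (p : ℕ) [CharP D p] : Nontrivial (Mq H p) := by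
  refine ⟨Submodule.Quotient.mk ⟨1, one_mem_spanO⟩, 0, ?_⟩
  rw [Ne, Submodule.Quotient.mk_eq_zero, mem_pO]
  rintro ⟨y, hy⟩
  have h1 := congrArg (fun z : spanO H => (z : D)) hy
  simp only [Submodule.coe_smul] at h1
  rw [zsmul_eq_mul] at h1
  have h2 : ((p : ℤ) : D) = 0 := by
    rw [Int.cast_natCast]; exact CharP.cast_eq_zero D p
  rw [h2, zero_mul] at h1
  exact zero_ne_one h1

theorem nontrivial_Mq_of_charZero [Finite H] [CharZero D] (p : ℕ) (hp : 2 ≤ p) :
    Nontrivial (Mq H p) := by
  have : Module.Finite ℤ (spanO H) := Module.Finite.span_of_finite ℤ (Set.finite_range _)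
  have : Module.Free ℤ (spanO H) := inferInstance
  have hnt : Nontrivial (spanO H) := by
    refine ⟨⟨1, one_mem_spanO⟩, 0, ?_⟩
    intro h
    have := congrArg (fun z : spanO H => (z : D)) h
    simp at this
  let b := Module.Free.chooseBasis ℤ (spanO H)
  obtain ⟨i⟩ := b.index_nonempty
  refine ⟨Submodule.Quotient.mk (b i), 0, ?_⟩
  rw [Ne, Submodule.Quotient.mk_eq_zero, mem_pO]
  rintro ⟨y, hy⟩
  have h1 := congrArg (b.coord i) hy
  rw [map_smul, Module.Basis.coord_apply, Module.Basis.coord_apply, Module.Basis.repr_self,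
    Finsupp.single_eq_same, smul_eq_mul] at h1
  have h2 : (p : ℤ) ∣ 1 := ⟨_, h1.symm⟩
  have h3 := Int.natAbs_dvd_natAbs.mpr h2
  simp at h3
  omega

end Fin

section Main

theorem coprime_orderOf_char [Finite H] (c : ℕ) [hc : CharP D c] (hprime : c.Prime) (h : H) :
    (orderOf h).Coprime c := by
  have : Fact c.Prime := ⟨hprime⟩
  rw [Nat.coprime_comm, Nat.Prime.coprime_iff_not_dvd hprime]
  intro hdvd
  have h0 : orderOf h ≠ 0 := (orderOf_pos h).ne'
  have hg := orderOf_pow_orderOf_div h0 hdvd
  set g := h ^ (orderOf h / c) with hgdef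
  have h1 : (((g : Dˣ) : D)) ^ c = 1 := by
    have := pow_orderOf_eq_one g
    rw [hg] at this
    have h3 : (((g ^ c : H) : Dˣ) : D) = 1 := by rw [this]; rfl
    rw [← h3]
    push_cast
    rfl
  have h2 : ((((g : Dˣ) : D)) - 1) ^ c = 0 := by
    rw [sub_pow_char_of_commute c (Commute.one_right _), h1, one_pow, sub_self]
  have h3 : (((g : Dˣ) : D)) = 1 := sub_eq_zero.mp (pow_eq_zero_iff hprime.ne_zero |>.mp h2)
  have h4 : g = 1 := Subtype.ext (Units.ext h3)
  rw [h4, orderOf_one] at hg
  exact hprime.one_lt.ne hg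

end Main

/-- A nontrivial finite subgroup of the multiplicative group of a division ring occurs as a Frobenius complement of some finite Frobenius group. -/
theorem result {D : Type*} [DivisionRing D] (H : Subgroup Dˣ) [Finite H] (hH : H ≠ ⊥) :
    ∃ (L : Type) (_ : Group L) (_ : Finite L) (C : Subgroup L), Cfsg.IsFrobeniusComplement C ∧ Nonempty (H ≃* C) := by
  have hHnt : Nontrivial H := (Subgroup.nontrivial_iff_ne_bot H).mpr hH
  obtain ⟨c, hc⟩ := CharP.exists D
  have key : ∃ p : ℕ, p ≠ 0 ∧ Nontrivial (Mq H p) ∧ ∀ h : H, (orderOf h).Coprime p := by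
    rcases CharP.char_is_prime_or_zero D c with hprime | hzero
    · exact ⟨c, hprime.ne_zero, nontrivial_Mq_of_charP c, coprime_orderOf_char H c hprime⟩
    · subst hzero
      have : CharZero D := CharP.charP_to_charZero D
      obtain ⟨p, hp1, hp2⟩ := Nat.exists_infinite_primes (Nat.card H + 1)
      refine ⟨p, hp2.ne_zero, nontrivial_Mq_of_charZero p hp2.two_le, ?_⟩
      intro h
      have h1 : orderOf h ∣ Nat.card H := orderOf_dvd_natCard h
      have h2 : orderOf h ≤ Nat.card H := Nat.le_of_dvd Nat.card_pos h1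
      rw [Nat.coprime_comm, Nat.Prime.coprime_iff_not_dvd hp2]
      intro hdvd
      have := Nat.le_of_dvd (orderOf_pos h) hdvd
      omega
  obtain ⟨p, hp0, hnt, hcop⟩ := key
  have hfin : Finite (Mq H p) := finite_Mq p hp0
  let _ : DistribMulAction H (Mq H p) := distribMulActionMq H p
  have hsmul : ∀ (h : H) (q : Mq H p), h • q = act H p h q := fun _ _ => rfl
  have hfree : ∀ k : H, ∀ m : Mq H p, k • m = m → k = 1 ∨ m = 0 := by
    intro k m hm
    by_cases hk : k = 1
    · exact Or.inl hk
    · right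
      rw [hsmul] at hm
      exact free_of_coprime p k hk (hcop k) m hm
  exact Cfsg.Agent.Lib.Helper71.exists_frobeniusComplement_of_free_action (K := H) (M := Mq H p) hfree

end Cfsg.Agent.S4293
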