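-- S4296 (helper35): Frobenius complement with a noncyclic Sylow subgroup: the kernel has odd square order
import Cfsg.Statements.S4296
import Cfsg.Agent.S0035
import Cfsg.Agent.S0036
import Cfsg.Agent.S0039
import Cfsg.Agent.S0040
import Cfsg.Agent.Lib.Helper35.QuatSquare

set_option autoImplicit false
open Cfsg

namespace Cfsg.Agent.S4296

open QuaternionGroup in
/-- quaternion relations inside `QuaternionGroup (2^n)`, `n ≥ 1` -/
lemma exists_quaternion_elements (n : ℕ) (hn : 1 ≤ n) :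
    ∃ i j : QuaternionGroup (2 ^ n), i * i = j * j ∧ i * i ≠ 1 ∧ (i * i) * (i * i) = 1 ∧
      i * j * i = j := by
  obtain ⟨k, rfl⟩ : ∃ k, n = k + 1 := ⟨n - 1, by omega⟩
  have h2 : ((2 ^ k : ℕ) : ZMod (2 * 2 ^ (k + 1))) + ((2 ^ k : ℕ) : ZMod (2 * 2 ^ (k + 1)))
      = ((2 ^ (k + 1) : ℕ) : ZMod (2 * 2 ^ (k + 1))) := by
    rw [← Nat.cast_add]; congr 1; ring
  have h4 : ((2 ^ (k + 1) : ℕ) : ZMod (2 * 2 ^ (k + 1))) + ((2 ^ (k + 1) : ℕ) : ZMod (2 * 2 ^ (k + 1)))
      = 0 := by
    rw [← Nat.cast_add]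
    have : 2 ^ (k + 1) + 2 ^ (k + 1) = 2 * 2 ^ (k + 1) := by ring
    rw [this]; exact ZMod.natCast_self _
  have hne : ((2 ^ (k + 1) : ℕ) : ZMod (2 * 2 ^ (k + 1))) ≠ 0 := by
    intro h
    rw [ZMod.natCast_eq_zero_iff] at h
    have : 0 < 2 ^ (k + 1) := by positivity
    have := Nat.le_of_dvd this h
    omega
  refine ⟨a ((2 ^ k : ℕ) : ZMod (2 * 2 ^ (k + 1))), xa 0, ?_, ?_, ?_, ?_⟩
  · rw [a_mul_a, xa_mul_xa, h2]; simp
  · rw [a_mul_a, h2, one_def]
    intro h
    exact hne (a.inj h)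
  · rw [a_mul_a, a_mul_a, h2, h4, a_zero]
  · rw [a_mul_xa, xa_mul_a]; simp

/-- the kernel of a Frobenius group whose complement contains a quaternion group of order 8 has odd square
order -/
theorem kernel_odd_square {L : Type*} [Group L] [Finite L] (H N : Subgroup L)
    (hF : IsFrobeniusComplement H) (hNset : (N : Set L) = frobeniusKernel H) [hNn : N.Normal]
    (hNc : Subgroup.IsComplement' N H) {I J : L} (hI : I ∈ H) (hIJ : I * I = J * J)
    (hT1 : I * I ≠ 1) (hT2 : (I * I) * (I * I) = 1) (hrel : I * J * I = J) :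
    Odd (Nat.card N) ∧ IsSquare (Nat.card N) := by
  have hN1 : N ≠ ⊥ := by
    intro h
    rw [h, Subgroup.isComplement'_bot_left] at hNc
    exact hF.2.1 hNc
  have hfpf := (Cfsg.Agent.S0039.result N H hNc hN1 hF.1).mp hF
  set T := I * I with hTdef
  have hT : T ∈ H := H.mul_mem hI hI
  have hTinv : T⁻¹ = T := inv_eq_of_mul_eq_one_left hT2
  have hinv : ∀ k ∈ N, T * k * T⁻¹ = k⁻¹ := by
    intro k hk
    have hk' : k ∈ (N : Set L) := hk
    rw [hNset] at hk'
    exact Cfsg.Agent.S0036.invol_inverts hF hT hT1 hT2 hk'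
  have hcomm : ∀ x ∈ N, ∀ y ∈ N, x * y = y * x := by
    intro x hx y hy
    have h1 := hinv (x * y) (N.mul_mem hx hy)
    have h2 : T * (x * y) * T⁻¹ = (T * x * T⁻¹) * (T * y * T⁻¹) := by group
    rw [h2, hinv x hx, hinv y hy, ← mul_inv_rev] at h1
    exact (inv_injective h1).symm
  -- oddness
  have hodd : Odd (Nat.card N) := by
    rw [← Nat.not_even_iff_odd, even_iff_two_dvd]
    intro h2
    have : Fact (Nat.Prime 2) := ⟨Nat.prime_two⟩
    obtain ⟨x, hx⟩ := exists_prime_orderOf_dvd_card' (G := N) 2 h2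
    have hx2 : (x : L) * (x : L) = 1 := by
      have := pow_orderOf_eq_one x
      rw [hx, pow_two] at this
      exact_mod_cast congrArg Subtype.val this
    have hxinv : (x : L)⁻¹ = x := inv_eq_of_mul_eq_one_left hx2
    have hmem : (x : L) ∈ N ⊓ Subgroup.centralizer {T} := by
      rw [Subgroup.mem_inf]
      refine ⟨x.2, ?_⟩
      rw [Subgroup.mem_centralizer_singleton_iff]
      have := hinv x x.2
      rw [hxinv] at this
      calc (x : L) * T = (T * x * T⁻¹)⁻¹⁻¹ * T := by rw [this, inv_inv]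
        _ = T * x := by group
    rw [hfpf T hT hT1, Subgroup.mem_bot] at hmem
    have hx1 : x = 1 := Subtype.ext hmem
    rw [hx1, orderOf_one] at hx
    omega
  refine ⟨hodd, ?_⟩
  -- the quaternion action
  let _ : CommGroup N :=
    { (inferInstance : Group N) with mul_comm := fun x y => Subtype.ext (hcomm x x.2 y y.2) }
  let α : N →* N := (MulAut.conjNormal I : MulAut N).toMonoidHom
  let β : N →* N := (MulAut.conjNormal J : MulAut N).toMonoidHom
  have hα : ∀ x : N, ((α x : N) : L) = I * x * I⁻¹ := fun x => MulAut.conjNormal_apply I x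
  have hβ : ∀ x : N, ((β x : N) : L) = J * x * J⁻¹ := fun x => MulAut.conjNormal_apply J x
  have hTJ : J * J = T := hIJ.symm
  apply Cfsg.Agent.Lib.Helper35.isSquare_card_of_quaternion_action α β
  · intro x
    apply Subtype.ext
    rw [hα, hα, Subgroup.coe_inv, ← hinv x x.2, hTdef]
    group
  · intro x
    apply Subtype.ext
    rw [hβ, hβ, Subgroup.coe_inv, ← hinv x x.2, ← hTJ]
    group
  · intro x
    apply Subtype.ext
    rw [hβ, hα, Subgroup.coe_inv, hα, hβ]
    have hy : I * (J * x * J⁻¹) * I⁻¹ ∈ N :=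
      hNn.conj_mem _ (hNn.conj_mem _ x.2 J) I
    rw [← hinv _ hy]
    -- J I = T⁻¹ I J
    have hJI : J * I = T⁻¹ * (I * J) := by
      rw [hTdef]
      calc J * I = I⁻¹ * (I * J * I) := by group
        _ = I⁻¹ * J := by rw [hrel]
        _ = (I * I)⁻¹ * (I * J) := by group
    calc J * (I * ↑x * I⁻¹) * J⁻¹ = (J * I) * x * (J * I)⁻¹ := by group
      _ = (T⁻¹ * (I * J)) * x * (T⁻¹ * (I * J))⁻¹ := by rw [hJI]
      _ = T⁻¹ * (I * (J * x * J⁻¹) * I⁻¹) * T⁻¹⁻¹ := by group
      _ = T * (I * (J * x * J⁻¹) * I⁻¹) * T⁻¹ := by rw [inv_inv, hTinv]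
  · exact hodd

/-- Let H be a Frobenius complement in a finite group, and suppose some Sylow subgroup of H is not cyclic. Then the number of elements of the Frobenius kernel (the identity together with the elements lying in no conjugate of H) is an odd perfect square. -/
theorem result {L : Type*} [Group L] [Finite L] (H : Subgroup L) (hF : Cfsg.IsFrobeniusComplement H)
    (hZ : ∃ (p : ℕ) (_ : Fact p.Prime) (P : Sylow p H), ¬ IsCyclic P) :
    Odd (Nat.card (Cfsg.frobeniusKernel H)) ∧ IsSquare (Nat.card (Cfsg.frobeniusKernel H)) := by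
  obtain ⟨N, hNset, hNn, hNc⟩ := Cfsg.Agent.S0035.result H hF
  obtain ⟨p, hp, P, hPnc⟩ := hZ
  have hN1 : N ≠ ⊥ := by
    intro h
    rw [h, Subgroup.isComplement'_bot_left] at hNc
    exact hF.2.1 hNc
  have hfpf := (Cfsg.Agent.S0039.result N H hNc hN1 hF.1).mp hF
  rcases Cfsg.Agent.S0040.result N H hNc hN1 hfpf p P with hc | ⟨n, ⟨e⟩⟩
  · exact absurd hc hPnc
  have hn : 1 ≤ n := by
    by_contra h
    have h0 : n = 0 := by omega
    subst h0
    apply hPnc
    have : IsCyclic (QuaternionGroup (2 ^ 0)) := by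
      rw [pow_zero]; exact QuaternionGroup.quaternionGroup_one_isCyclic
    exact isCyclic_of_surjective e.symm e.symm.surjective
  obtain ⟨i, j, h1, h2, h3, h4⟩ := exists_quaternion_elements n hn
  let ι : QuaternionGroup (2 ^ n) →* L :=
    (H.subtype.comp (P : Subgroup H).subtype).comp e.symm.toMonoidHom
  have hιinj : Function.Injective ι := by
    intro x y hxy
    apply e.symm.injective
    apply Subtype.ext
    apply Subtype.ext
    exact hxy
  have hιH : ∀ x, ι x ∈ H := fun x => ((e.symm x : (P : Subgroup H)) : H).2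
  have key := kernel_odd_square H N hF hNset hNc (I := ι i) (J := ι j) (hιH i)
    (by rw [← map_mul, ← map_mul, h1])
    (by
      rw [← map_mul]
      intro h
      exact h2 (hιinj (h.trans (map_one ι).symm)))
    (by rw [← map_mul, ← map_mul, h3, map_one])
    (by rw [← map_mul, ← map_mul, h4])
  have hcard : Nat.card (Cfsg.frobeniusKernel H) = Nat.card N := by rw [← hNset]; rfl
  rw [hcard]
  exact key

end Cfsg.Agent.S4296
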