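-- S4295 (helper35): kernels of Frobenius groups with complement Q8 have exactly the odd square orders > 1
import Cfsg.Statements.S4295
import Cfsg.Agent.S4296
import Cfsg.Agent.S0034
import Cfsg.Agent.Lib.Helper71.FrobCompl

set_option autoImplicit false
open Cfsg

namespace Cfsg.Agent.S4295

open QuaternionGroup

/-! ### a homomorphism from `Q8` into a ring with quaternion units -/

def cc (k : ZMod (2 * 2)) : ℤ := match k.val with | 0 => 1 | 1 => 0 | 2 => -1 | _ => 0
def dd (k : ZMod (2 * 2)) : ℤ := match k.val with | 0 => 0 | 1 => 1 | 2 => 0 | _ => -1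

theorem cc_add : ∀ i j : ZMod (2 * 2), cc (i + j) = cc i * cc j - dd i * dd j := by decide
theorem dd_add : ∀ i j : ZMod (2 * 2), dd (i + j) = cc i * dd j + dd i * cc j := by decide
theorem cc_sub : ∀ i j : ZMod (2 * 2), cc (j - i) = cc i * cc j + dd i * dd j := by decide
theorem dd_sub : ∀ i j : ZMod (2 * 2), dd (j - i) = cc i * dd j - dd i * cc j := by decide
theorem cc_two : ∀ i j : ZMod (2 * 2),
    cc (((2 : ℕ) : ZMod (2 * 2)) + j - i) = -(cc i * cc j + dd i * dd j) := by decide
theorem dd_two : ∀ i j : ZMod (2 * 2),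
    dd (((2 : ℕ) : ZMod (2 * 2)) + j - i) = -(cc i * dd j - dd i * cc j) := by decide
theorem cc_zero : cc 0 = 1 := by decide
theorem dd_zero : dd 0 = 0 := by decide
theorem cc_two' : cc 2 = -1 := by decide
theorem dd_two' : dd 2 = 0 := by decide

theorem quat_sq : ∀ g : QuaternionGroup 2, g = 1 ∨ g = a 2 ∨ g * g = a 2 := by decide

section hom

variable {E : Type*} [Ring E] (I J : E)

/-- the map `Q8 → E` -/
def quatFun : QuaternionGroup 2 → E
  | .a k => cc k • (1 : E) + dd k • I
  | .xa k => J * (cc k • (1 : E) + dd k • I)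

variable {I J}

theorem quatFun_mul (hI : I * I = -1) (hJ : J * J = -1) (hIJ : I * J = -(J * I))
    (g h : QuaternionGroup 2) : quatFun I J (g * h) = quatFun I J g * quatFun I J h := by
  have hIJI : I * (J * I) = J := by
    rw [← mul_assoc, hIJ, neg_mul, mul_assoc, hI]; simp
  have hJJI : J * (J * I) = -I := by
    rw [← mul_assoc, hJ]; simp
  rcases g with i | i <;> rcases h with j | j
  · simp only [QuaternionGroup.a_mul_a, quatFun, cc_add, dd_add, add_mul, mul_add, smul_mul_smul_comm,
      one_mul, mul_one, hI]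
    module
  · simp only [QuaternionGroup.a_mul_xa, quatFun, cc_sub, dd_sub, add_mul, mul_add, smul_mul_assoc,
      mul_smul_comm, one_mul, mul_one, hIJ, hIJI, smul_add, smul_smul]
    module
  · simp only [QuaternionGroup.xa_mul_a, quatFun, cc_add, dd_add, add_mul, mul_add, smul_mul_assoc,
      mul_smul_comm, mul_one, hI, smul_add, smul_smul, mul_assoc, mul_neg, smul_neg]
    module
  · simp only [QuaternionGroup.xa_mul_xa, quatFun, cc_two, dd_two, add_mul, mul_add, smul_mul_assoc,
      mul_smul_comm, mul_one, hJ, hJJI, hIJ, hIJI, smul_add, smul_smul, mul_assoc, mul_neg,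
      smul_neg, neg_mul]
    module

theorem quatFun_one : quatFun I J 1 = 1 := by
  rw [QuaternionGroup.one_def]
  simp [quatFun, cc_zero, dd_zero]

theorem quatFun_a_two : quatFun I J (a 2) = -1 := by
  simp [quatFun, cc_two', dd_two']

/-- the homomorphism `Q8 →* E` -/
def quatHom (hI : I * I = -1) (hJ : J * J = -1) (hIJ : I * J = -(J * I)) : QuaternionGroup 2 →* E where
  toFun := quatFun I J
  map_one' := quatFun_one
  map_mul' := quatFun_mul hI hJ hIJ

theorem quatHom_apply (hI : I * I = -1) (hJ : J * J = -1) (hIJ : I * J = -(J * I))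
    (g : QuaternionGroup 2) : quatHom hI hJ hIJ g = quatFun I J g := rfl

end hom

/-! ### free actions of `Q8` -/

/-- the predicate: there is a free action of `Q8` on an abelian group of order `s * s` -/
def HasFreeAction (s : ℕ) : Prop :=
  ∃ (M : Type) (_ : AddCommGroup M) (_ : Finite M) (_ : DistribMulAction (QuaternionGroup 2) M),
    (∀ (k : QuaternionGroup 2) (m : M), k • m = m → k = 1 ∨ m = 0) ∧ Nat.card M = s * s

theorem hasFreeAction_prime (r : ℕ) (hr : r.Prime) (hr2 : r ≠ 2) : HasFreeAction r := by
  have : Fact r.Prime := ⟨hr⟩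
  obtain ⟨x, y, hxy⟩ := ZMod.sq_add_sq r (-1)
  have hxy' : x * x + y * y = -1 := by rw [← hxy]; ring
  let I : Matrix (Fin 2) (Fin 2) (ZMod r) := !![x, y; y, -x]
  let J : Matrix (Fin 2) (Fin 2) (ZMod r) := !![0, -1; 1, 0]
  have hI : I * I = -1 := by
    ext i j
    fin_cases i <;> fin_cases j <;> simp [I, Matrix.mul_apply, Fin.sum_univ_two] <;>
      first | linear_combination hxy' | ring
  have hJ : J * J = -1 := by
    ext i j
    fin_cases i <;> fin_cases j <;> simp [J, Matrix.mul_apply, Fin.sum_univ_two]
  have hIJ : I * J = -(J * I) := by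
    ext i j
    fin_cases i <;> fin_cases j <;> simp [I, J, Matrix.mul_apply, Fin.sum_univ_two]
  let φ := quatHom hI hJ hIJ
  let inst : DistribMulAction (QuaternionGroup 2) (Fin 2 → ZMod r) :=
    DistribMulAction.compHom (Fin 2 → ZMod r) φ
  have hsmul : ∀ (g : QuaternionGroup 2) (v : Fin 2 → ZMod r), g • v = (φ g) • v := fun _ _ => rfl
  have h2 : ∀ v : Fin 2 → ZMod r, -v = v → v = 0 := by
    intro v hv
    have h2ne : (2 : ZMod r) ≠ 0 := by
      intro h
      have h' : ((2 : ℕ) : ZMod r) = 0 := by exact_mod_cast h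
      rw [ZMod.natCast_eq_zero_iff] at h'
      exact hr2 ((Nat.prime_dvd_prime_iff_eq hr Nat.prime_two).mp h')
    funext i
    have hi : -(v i) = v i := congrFun hv i
    have : 2 * v i = 0 := by linear_combination -hi
    rcases mul_eq_zero.mp this with h | h
    · exact absurd h h2ne
    · exact h
  have hneg : ∀ v : Fin 2 → ZMod r, (φ (a 2)) • v = -v := by
    intro v
    rw [quatHom_apply, quatFun_a_two, neg_smul, one_smul]
  refine ⟨Fin 2 → ZMod r, inferInstance, inferInstance, inst, ?_, ?_⟩
  · intro g v hgv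
    rw [hsmul] at hgv
    rcases quat_sq g with h | h | h
    · exact Or.inl h
    · right
      apply h2
      rw [← hneg, ← h]; exact hgv
    · right
      apply h2
      rw [← hneg, ← h, map_mul, mul_smul, hgv, hgv]
  · rw [Nat.card_fun, Nat.card_zmod, Nat.card_fin, pow_two]

theorem hasFreeAction_one : HasFreeAction 1 :=
  ⟨PUnit, inferInstance, inferInstance, inferInstance, fun _ _ _ => Or.inr (Subsingleton.elim _ _),
    by simp⟩

theorem hasFreeAction_mul {s t : ℕ} (hs : HasFreeAction s) (ht : HasFreeAction t) :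
    HasFreeAction (s * t) := by
  obtain ⟨M₁, i1, i2, i3, hf1, hc1⟩ := hs
  obtain ⟨M₂, j1, j2, j3, hf2, hc2⟩ := ht
  refine ⟨M₁ × M₂, inferInstance, inferInstance, inferInstance, ?_, ?_⟩
  · rintro k ⟨m₁, m₂⟩ h
    have h1 : k • m₁ = m₁ := congrArg Prod.fst h
    have h2 : k • m₂ = m₂ := congrArg Prod.snd h
    rcases hf1 k m₁ h1 with hk | hm1
    · exact Or.inl hk
    · rcases hf2 k m₂ h2 with hk | hm2
      · exact Or.inl hk
      · right; rw [hm1, hm2]; rfl
  · rw [Nat.card_prod, hc1, hc2]; ring

theorem hasFreeAction_of_odd : ∀ s : ℕ, Odd s → HasFreeAction s := by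
  intro s
  induction s using Nat.recOnMul with
  | zero => intro h; exact absurd h (by decide)
  | one => intro _; exact hasFreeAction_one
  | prime p hp =>
    intro h
    apply hasFreeAction_prime p hp
    rintro rfl
    exact absurd h (by decide)
  | mul a b iha ihb =>
    intro h
    rw [Nat.odd_mul] at h
    exact hasFreeAction_mul (iha h.1) (ihb h.2)

/-! ### the main statement -/

theorem quat_rel : (a 1 : QuaternionGroup 2) * a 1 = xa 0 * xa 0 ∧ (a 1 : QuaternionGroup 2) * a 1 ≠ 1 ∧
    ((a 1 : QuaternionGroup 2) * a 1) * (a 1 * a 1) = 1 ∧ (a 1 : QuaternionGroup 2) * xa 0 * a 1 = xa 0 := by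
  decide

/-- For a natural number m the following are equivalent: (a) some finite group has a Frobenius complement isomorphic to the quaternion group of order 8 whose Frobenius kernel (the identity together with the elements lying in no conjugate of the complement) has exactly m elements; (b) m is an odd perfect square greater than 1. -/
theorem result (m : ℕ) :
    (∃ (L : Type) (_ : Group L) (_ : Finite L) (H : Subgroup L), Cfsg.IsFrobeniusComplement H ∧
        Nonempty (H ≃* QuaternionGroup 2) ∧ Nat.card (Cfsg.frobeniusKernel H) = m) ↔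
    (Odd m ∧ IsSquare m ∧ 1 < m) := by
  constructor
  · rintro ⟨L, iG, iF, H, hF, ⟨e⟩, hm⟩
    obtain ⟨N, hNset, hNn, hNc⟩ := Cfsg.Agent.S0035.result H hF
    have hN1 : N ≠ ⊥ := by
      intro h
      rw [h, Subgroup.isComplement'_bot_left] at hNc
      exact hF.2.1 hNc
    obtain ⟨h1, h2, h3, h4⟩ := quat_rel
    let ι : QuaternionGroup 2 →* L := H.subtype.comp e.symm.toMonoidHom
    have hιinj : Function.Injective ι := by
      intro x y hxy
      apply e.symm.injective
      apply Subtype.ext
      exact hxy
    have hιH : ∀ x, ι x ∈ H := fun x => (e.symm x).2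
    have key := Cfsg.Agent.S4296.kernel_odd_square H N hF hNset hNc (I := ι (a 1)) (J := ι (xa 0))
      (hιH _)
      (by rw [← map_mul, ← map_mul, h1])
      (by
        rw [← map_mul]
        intro h
        exact h2 (hιinj (h.trans (map_one ι).symm)))
      (by rw [← map_mul, ← map_mul, h3, map_one])
      (by rw [← map_mul, ← map_mul, h4])
    have hcard : Nat.card (Cfsg.frobeniusKernel H) = Nat.card N := by rw [← hNset]; rfl
    rw [← hm, hcard]
    exact ⟨key.1, key.2, N.one_lt_card_iff_ne_bot.mpr hN1⟩
  · rintro ⟨hodd, ⟨s, rfl⟩, hlt⟩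
    have hsodd : Odd s := (Nat.odd_mul.mp hodd).1
    obtain ⟨M, i1, i2, i3, hfree, hcard⟩ := hasFreeAction_of_odd s hsodd
    have hMnt : Nontrivial M := by
      rw [← Finite.one_lt_card_iff_nontrivial, hcard]; exact hlt
    have hKnt : Nontrivial (QuaternionGroup 2) := inferInstance
    let φ : QuaternionGroup 2 →* MulAut (Multiplicative M) :=
      (MulAutMultiplicative M).symm.toMonoidHom.comp (DistribMulAction.toAddAut (QuaternionGroup 2) M)
    have hφ : ∀ k n, φ k n = Multiplicative.ofAdd (k • Multiplicative.toAdd n) := fun k n => rfl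
    have hF : Cfsg.IsFrobeniusComplement
        (SemidirectProduct.inr : QuaternionGroup 2 →* Multiplicative M ⋊[φ] QuaternionGroup 2).range := by
      apply Cfsg.Agent.Lib.Helper71.isFrobeniusComplement_inr_range
      intro k n hn
      rcases hfree k (Multiplicative.toAdd n) (by
        rw [hφ] at hn
        exact congrArg Multiplicative.toAdd hn) with h | h
      · exact Or.inl h
      · right
        exact Multiplicative.toAdd.injective h
    have hfin : Finite (Multiplicative M ⋊[φ] QuaternionGroup 2) :=
      Finite.of_equiv _ (SemidirectProduct.equivProd (φ := φ)).symm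
    let eH : QuaternionGroup 2 ≃*
        (SemidirectProduct.inr : QuaternionGroup 2 →* Multiplicative M ⋊[φ] QuaternionGroup 2).range :=
      MonoidHom.ofInjective (SemidirectProduct.inr_injective (φ := φ))
    refine ⟨Multiplicative M ⋊[φ] QuaternionGroup 2, inferInstance, hfin, _, hF, ⟨eH.symm⟩, ?_⟩
    rw [(Cfsg.Agent.S0034.result _ hF).1]
    have hL : Nat.card (Multiplicative M ⋊[φ] QuaternionGroup 2) = (s * s) * Nat.card (QuaternionGroup 2) := by
      rw [Nat.card_congr (SemidirectProduct.equivProd (φ := φ)), Nat.card_prod, ← hcard]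
      rfl
    have hH : Nat.card (SemidirectProduct.inr :
        QuaternionGroup 2 →* Multiplicative M ⋊[φ] QuaternionGroup 2).range = Nat.card (QuaternionGroup 2) :=
      (Nat.card_congr eH.toEquiv).symm
    have hmul := Subgroup.card_mul_index (SemidirectProduct.inr :
        QuaternionGroup 2 →* Multiplicative M ⋊[φ] QuaternionGroup 2).range
    rw [hL, hH, mul_comm] at hmul
    have hKpos : 0 < Nat.card (QuaternionGroup 2) := Nat.card_pos
    exact Nat.eq_of_mul_eq_mul_right hKpos hmul

end Cfsg.Agent.S4295
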