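import Cfsg.Statements.S4297
import Cfsg.Agent.Lib.Helper71.FrobCompl

set_option autoImplicit false
open Cfsg

namespace Cfsg.Agent.S4297

open Cfsg.Agent.Lib.Helper71 QuaternionGroup

variable {n : ℕ} {R : Type*} [CommRing R]

/-- Character data on `ZMod (2n)` with values in a commutative ring. -/
structure CharData (n : ℕ) (R : Type*) [CommRing R] where
  c : ZMod (2 * n) → R
  c' : ZMod (2 * n) → R
  c_zero : c 0 = 1
  c'_zero : c' 0 = 1
  c_add : ∀ i j, c (i + j) = c i * c j
  c'_add : ∀ i j, c' (i + j) = c' i * c' j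
  c_mul_c' : ∀ i, c i * c' i = 1
  c_n : c (n : ZMod (2 * n)) = -1

namespace CharData

variable (χ : CharData n R)

theorem c'_n : χ.c' (n : ZMod (2 * n)) = -1 := by
  have h := χ.c_mul_c' (n : ZMod (2 * n))
  rw [χ.c_n] at h
  linear_combination -h

theorem c_sub (i j : ZMod (2 * n)) : χ.c (j - i) = χ.c j * χ.c' i := by
  have h1 : χ.c (j - i + i) = χ.c (j - i) * χ.c i := χ.c_add _ _
  rw [sub_add_cancel] at h1
  have h2 := χ.c_mul_c' i
  linear_combination (-χ.c' i) * h1 - χ.c (j - i) * h2

theorem c'_sub (i j : ZMod (2 * n)) : χ.c' (j - i) = χ.c' j * χ.c i := by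
  have h1 : χ.c' (j - i + i) = χ.c' (j - i) * χ.c' i := χ.c'_add _ _
  rw [sub_add_cancel] at h1
  have h2 := χ.c_mul_c' i
  linear_combination (-χ.c i) * h1 - χ.c' (j - i) * h2

/-- The action of the dicyclic group on `R × R`. -/
def act : QuaternionGroup n → R × R → R × R
  | a i, p => (χ.c i * p.1, χ.c' i * p.2)
  | xa i, p => (-(χ.c' i * p.2), χ.c i * p.1)

theorem act_one (p : R × R) : χ.act 1 p = p := by
  rw [one_def]
  simp [act, χ.c_zero, χ.c'_zero]

theorem act_mul (g h : QuaternionGroup n) (p : R × R) : χ.act (g * h) p = χ.act g (χ.act h p) := by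
  rcases g with i | i <;> rcases h with j | j
  · simp only [a_mul_a, act, χ.c_add, χ.c'_add]
    ext <;> simp <;> ring
  · simp only [a_mul_xa, act, χ.c_sub, χ.c'_sub]
    ext <;> simp <;> ring
  · simp only [xa_mul_a, act, χ.c_add, χ.c'_add]
    ext <;> simp <;> ring
  · simp only [xa_mul_xa, act, χ.c_sub, χ.c'_sub, χ.c_add, χ.c'_add, χ.c_n, χ.c'_n]
    ext <;> simp <;> ring

theorem act_add (g : QuaternionGroup n) (p p' : R × R) : χ.act g (p + p') = χ.act g p + χ.act g p' := by
  rcases g with i | i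
  · simp only [act]; ext <;> simp <;> ring
  · simp only [act]; ext <;> simp <;> ring

theorem act_zero (g : QuaternionGroup n) : χ.act g (0 : R × R) = 0 := by
  rcases g with i | i <;> simp [act]

end CharData

/-- Character data from a unit of order `2n` in a field. -/
noncomputable def charDataOfUnit {F : Type*} [Field F] (hn : 1 ≤ n) (u : Fˣ) (hu : orderOf u = 2 * n) :
    CharData n F :=
  have : NeZero (2 * n) := ⟨by omega⟩
  have hu1 : u ^ (2 * n) = 1 := by rw [← hu]; exact pow_orderOf_eq_one u
  have hu2 : u⁻¹ ^ (2 * n) = 1 := by rw [inv_pow, hu1, inv_one]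
  { c := fun i => ((u ^ i.val : Fˣ) : F)
    c' := fun i => ((u⁻¹ ^ i.val : Fˣ) : F)
    c_zero := by simp
    c'_zero := by simp
    c_add := by
      intro i j
      rw [← Units.val_mul, ← pow_add, ZMod.val_add, ← pow_eq_pow_mod _ hu1]
    c'_add := by
      intro i j
      rw [← Units.val_mul, ← pow_add, ZMod.val_add, ← pow_eq_pow_mod _ hu2]
    c_mul_c' := by
      intro i
      rw [← Units.val_mul, ← mul_pow, mul_inv_cancel, one_pow, Units.val_one]
    c_n := by
      have hval : ((n : ℕ) : ZMod (2 * n)).val = n := ZMod.val_natCast_of_lt (by omega)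
      rw [hval]
      have h1 : ((u ^ n : Fˣ) : F) ^ 2 = 1 := by
        rw [← Units.val_pow_eq_pow_val, ← pow_mul, mul_comm, hu1, Units.val_one]
      have h2 : ((u ^ n : Fˣ) : F) ≠ 1 := by
        intro h
        have h3 : u ^ n = 1 := Units.ext h
        have h4 := orderOf_dvd_of_pow_eq_one h3
        rw [hu] at h4
        have := Nat.le_of_dvd (by omega) h4
        omega
      rw [sq] at h1
      rcases mul_self_eq_one_iff.mp h1 with h | h
      · exact absurd h h2
      · exact h }

theorem charDataOfUnit_c_ne_one {F : Type*} [Field F] (hn : 1 ≤ n) (u : Fˣ) (hu : orderOf u = 2 * n)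
    (i : ZMod (2 * n)) (hi : i ≠ 0) : (charDataOfUnit hn u hu).c i ≠ 1 := by
  have : NeZero (2 * n) := ⟨by omega⟩
  intro h
  apply hi
  have h3 : u ^ i.val = 1 := Units.ext h
  have h4 := orderOf_dvd_of_pow_eq_one h3
  rw [hu] at h4
  have h5 : i.val < 2 * n := ZMod.val_lt i
  have h6 : i.val = 0 := Nat.eq_zero_of_dvd_of_lt h4 h5
  exact (ZMod.val_eq_zero i).mp h6

/-- For every n ≥ 2 the dicyclic group of order 4n occurs as a Frobenius complement. -/
theorem result (n : ℕ) (hn : 2 ≤ n) :
    ∃ (L : Type) (_ : Group L) (_ : Finite L) (H : Subgroup L), Cfsg.IsFrobeniusComplement H ∧ Nonempty (H ≃* QuaternionGroup n) := by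
  have hn1 : 1 ≤ n := by omega
  have : NeZero n := ⟨by omega⟩
  obtain ⟨q, hq, -, hqn⟩ := Nat.exists_prime_gt_modEq_one (k := 2 * n) 0 (by omega)
  have : Fact q.Prime := ⟨hq⟩
  have hdvd : 2 * n ∣ q - 1 := (Nat.modEq_iff_dvd' hq.one_lt.le).mp hqn.symm
  have hcard : Nat.card (ZMod q)ˣ = q - 1 := by
    rw [Nat.card_eq_fintype_card, ZMod.card_units]
  obtain ⟨g, hg⟩ := IsCyclic.exists_generator (α := (ZMod q)ˣ)
  have hgord : orderOf g = q - 1 := by
    rw [orderOf_eq_card_of_forall_mem_zpowers hg, hcard]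
  obtain ⟨d, hd⟩ := hdvd
  have hq1 : 0 < q - 1 := by have := hq.one_lt; omega
  have hd0 : d ≠ 0 := by rintro rfl; simp at hd; omega
  set u := g ^ d with hu
  have huord : orderOf u = 2 * n := by
    rw [hu, orderOf_pow, hgord, hd, Nat.gcd_mul_left_left, Nat.mul_div_cancel _ (Nat.pos_of_ne_zero hd0)]
  have hq5 : 5 ≤ q := by
    have : 2 * n ≤ q - 1 := Nat.le_of_dvd hq1 ⟨d, hd⟩
    omega
  have h2ne : (2 : ZMod q) ≠ 0 := by
    intro h
    have h' : ((2 : ℕ) : ZMod q) = 0 := by exact_mod_cast h
    rw [ZMod.natCast_eq_zero_iff] at h'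
    have := Nat.le_of_dvd (by norm_num) h'
    omega
  let χ := charDataOfUnit hn1 u huord
  let _ : DistribMulAction (QuaternionGroup n) (ZMod q × ZMod q) :=
    { smul := χ.act
      one_smul := χ.act_one
      mul_smul := χ.act_mul
      smul_zero := χ.act_zero
      smul_add := χ.act_add }
  have hsmul : ∀ (k : QuaternionGroup n) (p : ZMod q × ZMod q), k • p = χ.act k p := fun _ _ => rfl
  have hfree : ∀ k : QuaternionGroup n, ∀ m : ZMod q × ZMod q, k • m = m → k = 1 ∨ m = 0 := by
    rintro (i | i) ⟨x, y⟩ hm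
    · rw [hsmul] at hm
      simp only [CharData.act, Prod.mk.injEq] at hm
      by_cases hi : i = 0
      · left; rw [hi]; rfl
      · right
        have hc : χ.c i ≠ 1 := charDataOfUnit_c_ne_one hn1 u huord i hi
        have hc' : χ.c' i ≠ 1 := by
          intro h
          have := χ.c_mul_c' i
          rw [h, mul_one] at this
          exact hc this
        have hx : x = 0 := by
          have : (χ.c i - 1) * x = 0 := by rw [sub_mul, hm.1]; ring
          rcases mul_eq_zero.mp this with h | h
          · exact absurd (sub_eq_zero.mp h) hc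
          · exact h
        have hy : y = 0 := by
          have : (χ.c' i - 1) * y = 0 := by rw [sub_mul, hm.2]; ring
          rcases mul_eq_zero.mp this with h | h
          · exact absurd (sub_eq_zero.mp h) hc'
          · exact h
        rw [hx, hy]; rfl
    · right
      rw [hsmul] at hm
      simp only [CharData.act, Prod.mk.injEq] at hm
      obtain ⟨h1, h2⟩ := hm
      have h3 := χ.c_mul_c' i
      have hx : 2 * x = 0 := by
        linear_combination (-1 : ZMod q) * h1 + χ.c' i * h2 - x * h3
      have hx0 : x = 0 := by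
        rcases mul_eq_zero.mp hx with h | h
        · exact absurd h h2ne
        · exact h
      have hy0 : y = 0 := by rw [← h2, hx0, mul_zero]
      rw [hx0, hy0]; rfl
  have : Nontrivial (QuaternionGroup n) := by
    refine ⟨a 0, a 1, ?_⟩
    intro h
    have h' : (0 : ZMod (2 * n)) = 1 := by injection h
    have : Fact (1 < 2 * n) := ⟨by omega⟩
    exact zero_ne_one h'
  have : Finite (QuaternionGroup n) := inferInstance
  obtain ⟨L, iG, iF, H, hH, ⟨e⟩⟩ :=
    exists_frobeniusComplement_of_free_action (K := QuaternionGroup n) (M := ZMod q × ZMod q) hfree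
  exact ⟨L, iG, iF, H, hH, ⟨e.symm⟩⟩

end Cfsg.Agent.S4297
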