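import Cfsg.Statements.S4298
import Cfsg.Agent.Lib.Helper71.FrobCompl

set_option autoImplicit false
open Cfsg

namespace Cfsg.Agent.S4298

open Cfsg.Agent.Lib.Helper71

/-- Table of an embedding `SL(2,3) → SL(2,5)`, indexed by `27a + 9b + 3c + d`. -/
def tab : List (ℕ × ℕ × ℕ × ℕ) := [(0, 0, 0, 0), (0, 0, 0, 0), (0, 0, 0, 0), (0, 0, 0, 0), (0, 0, 0, 0), (0, 0, 0, 0), (0, 0, 0, 0), (0, 0, 0, 0), (0, 0, 0, 0), (0, 0, 0, 0), (0, 0, 0, 0), (0, 0, 0, 0), (0, 0, 0, 0), (0, 0, 0, 0), (0, 0, 0, 0), (0, 4, 1, 0), (2, 4, 3, 4), (3, 2, 1, 1), (0, 0, 0, 0), (0, 0, 0, 0), (0, 0, 0, 0), (0, 1, 4, 0), (2, 3, 4, 4), (3, 1, 2, 1), (0, 0, 0, 0), (0, 0, 0, 0), (0, 0, 0, 0), (0, 0, 0, 0), (1, 0, 0, 1), (0, 0, 0, 0), (0, 0, 0, 0), (1, 2, 1, 3), (0, 0, 0, 0), (0, 0, 0, 0), (3, 3, 4, 1), (0, 0, 0, 0), (0, 0, 0, 0), (1, 1, 2, 3), (0, 0, 0, 0), (0, 0, 0, 0), (0, 0, 0, 0), (0,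 2, 2, 0), (4, 2, 1, 2), (0, 0, 0, 0), (0, 0, 0, 0), (0, 0, 0, 0), (3, 4, 3, 1), (0, 0, 0, 0), (4, 1, 2, 2), (0, 0, 0, 0), (0, 0, 0, 0), (0, 0, 0, 0), (0, 0, 0, 0), (3, 0, 0, 2), (0, 0, 0, 0), (0, 0, 0, 0), (4, 0, 0, 4), (0, 0, 0, 0), (0, 0, 0, 0), (2, 2, 1, 4), (0, 0, 0, 0), (0, 0, 0, 0), (4, 3, 4, 2), (0, 0, 0, 0), (0, 0, 0, 0), (2, 1, 2, 4), (0, 0, 0, 0), (2, 0, 0, 3), (0, 0, 0, 0), (1, 4, 3, 3), (0, 0, 0, 0), (0, 0, 0, 0), (0, 0, 0, 0), (0, 0, 0, 0), (4, 4, 3, 2), (1, 3, 4, 3), (0, 0, 0, 0), (0, 0, 0, 0), (0, 0, 0, 0), (0, 3, 3, 0), (0, 0, 0, 0)]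

/-- The embedding on entries. -/
def T (a b c d : ZMod 3) : ZMod 5 × ZMod 5 × ZMod 5 × ZMod 5 :=
  let e := tab.getD (a.val * 27 + b.val * 9 + c.val * 3 + d.val) (0, 0, 0, 0)
  ((e.1 : ZMod 5), (e.2.1 : ZMod 5), (e.2.2.1 : ZMod 5), (e.2.2.2 : ZMod 5))

/-- 2x2 matrix multiplication on 4-tuples. -/
def mm (s t : ZMod 5 × ZMod 5 × ZMod 5 × ZMod 5) : ZMod 5 × ZMod 5 × ZMod 5 × ZMod 5 :=
  (s.1 * t.1 + s.2.1 * t.2.2.1, s.1 * t.2.1 + s.2.1 * t.2.2.2,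
   s.2.2.1 * t.1 + s.2.2.2 * t.2.2.1, s.2.2.1 * t.2.1 + s.2.2.2 * t.2.2.2)

/-- Apply a 4-tuple (as a 2x2 matrix) to a vector. -/
def ap (s : ZMod 5 × ZMod 5 × ZMod 5 × ZMod 5) (p : ZMod 5 × ZMod 5) : ZMod 5 × ZMod 5 :=
  (s.1 * p.1 + s.2.1 * p.2, s.2.2.1 * p.1 + s.2.2.2 * p.2)

theorem ap_mm (s t : ZMod 5 × ZMod 5 × ZMod 5 × ZMod 5) (p : ZMod 5 × ZMod 5) :
    ap (mm s t) p = ap s (ap t p) := by
  simp only [ap, mm]
  ext <;> ring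

set_option maxRecDepth 100000 in
theorem T_mul : ∀ a b c d a' b' c' d' : ZMod 3, a * d - b * c = 1 → a' * d' - b' * c' = 1 →
    T (a * a' + b * c') (a * b' + b * d') (c * a' + d * c') (c * b' + d * d') =
      mm (T a b c d) (T a' b' c' d') := by
  decide

theorem T_one : T 1 0 0 1 = (1, 0, 0, 1) := by decide

set_option maxRecDepth 100000 in
theorem T_free : ∀ a b c d : ZMod 3, a * d - b * c = 1 → ¬ (a = 1 ∧ b = 0 ∧ c = 0 ∧ d = 1) →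
    ∀ x y : ZMod 5, ap (T a b c d) (x, y) = (x, y) → x = 0 ∧ y = 0 := by
  decide

/-- The action of `SL(2,3)` on `F₅²`. -/
def act (A : Matrix.SpecialLinearGroup (Fin 2) (ZMod 3)) (p : ZMod 5 × ZMod 5) : ZMod 5 × ZMod 5 :=
  ap (T (A 0 0) (A 0 1) (A 1 0) (A 1 1)) p

theorem det_eq (A : Matrix.SpecialLinearGroup (Fin 2) (ZMod 3)) :
    A 0 0 * A 1 1 - A 0 1 * A 1 0 = 1 := by
  have := A.2
  rw [Matrix.det_fin_two] at this
  exact this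

theorem act_one (p : ZMod 5 × ZMod 5) : act 1 p = p := by
  simp only [act, Matrix.SpecialLinearGroup.coe_one, Matrix.one_apply_eq]
  have h01 : (1 : Matrix (Fin 2) (Fin 2) (ZMod 3)) 0 1 = 0 := by simp
  have h10 : (1 : Matrix (Fin 2) (Fin 2) (ZMod 3)) 1 0 = 0 := by simp
  rw [h01, h10, T_one]
  simp [ap]

theorem act_mul (A B : Matrix.SpecialLinearGroup (Fin 2) (ZMod 3)) (p : ZMod 5 × ZMod 5) :
    act (A * B) p = act A (act B p) := by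
  simp only [act, Matrix.SpecialLinearGroup.coe_mul, Matrix.mul_apply, Fin.sum_univ_two]
  rw [T_mul _ _ _ _ _ _ _ _ (det_eq A) (det_eq B), ap_mm]

theorem act_add (A : Matrix.SpecialLinearGroup (Fin 2) (ZMod 3)) (p p' : ZMod 5 × ZMod 5) :
    act A (p + p') = act A p + act A p' := by
  simp only [act, ap]
  ext <;> simp <;> ring

theorem act_zero (A : Matrix.SpecialLinearGroup (Fin 2) (ZMod 3)) : act A 0 = 0 := by
  simp [act, ap]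

/-- The group SL(2,3) of order 24 (the binary tetrahedral group) occurs as a Frobenius complement of some finite Frobenius group. -/
theorem result :
    ∃ (L : Type) (_ : Group L) (_ : Finite L) (H : Subgroup L), Cfsg.IsFrobeniusComplement H ∧ Nonempty (H ≃* Matrix.SpecialLinearGroup (Fin 2) (ZMod 3)) := by
  let _ : DistribMulAction (Matrix.SpecialLinearGroup (Fin 2) (ZMod 3)) (ZMod 5 × ZMod 5) :=
    { smul := act
      one_smul := act_one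
      mul_smul := act_mul
      smul_zero := act_zero
      smul_add := act_add }
  have hsmul : ∀ (k : Matrix.SpecialLinearGroup (Fin 2) (ZMod 3)) (p : ZMod 5 × ZMod 5),
      k • p = act k p := fun _ _ => rfl
  have hfree : ∀ k : Matrix.SpecialLinearGroup (Fin 2) (ZMod 3), ∀ m : ZMod 5 × ZMod 5,
      k • m = m → k = 1 ∨ m = 0 := by
    rintro A ⟨x, y⟩ hm
    rw [hsmul] at hm
    by_cases hA : A 0 0 = 1 ∧ A 0 1 = 0 ∧ A 1 0 = 0 ∧ A 1 1 = 1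
    · left
      ext i j
      fin_cases i <;> fin_cases j <;> simp [hA.1, hA.2.1, hA.2.2.1, hA.2.2.2]
    · right
      obtain ⟨hx, hy⟩ := T_free _ _ _ _ (det_eq A) hA x y hm
      rw [hx, hy]; rfl
  have : Nontrivial (Matrix.SpecialLinearGroup (Fin 2) (ZMod 3)) := by
    refine ⟨⟨!![1, 1; 0, 1], by simp [Matrix.det_fin_two]⟩, 1, ?_⟩
    intro h
    have := congrArg (fun A : Matrix.SpecialLinearGroup (Fin 2) (ZMod 3) => A 0 1) h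
    simp at this
  have : Finite (Matrix.SpecialLinearGroup (Fin 2) (ZMod 3)) := Subtype.finite
  have : Fact (Nat.Prime 5) := ⟨by norm_num⟩
  obtain ⟨L, iG, iF, H, hH, ⟨e⟩⟩ :=
    exists_frobeniusComplement_of_free_action (K := Matrix.SpecialLinearGroup (Fin 2) (ZMod 3))
      (M := ZMod 5 × ZMod 5) hfree
  exact ⟨L, iG, iF, H, hH, ⟨e.symm⟩⟩

end Cfsg.Agent.S4298
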