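import Cfsg.Statements.S4299
import Cfsg.Agent.Lib.Helper71.FrobCompl

set_option autoImplicit false
open Cfsg

namespace Cfsg.Agent.S4299

open Cfsg.Agent.Lib.Helper71

/-- Every nontrivial finite cyclic group occurs as a Frobenius complement of some finite Frobenius group. -/
theorem result {C : Type*} [Group C] [Finite C] [IsCyclic C] [Nontrivial C] :
    ∃ (L : Type) (_ : Group L) (_ : Finite L) (H : Subgroup L), Cfsg.IsFrobeniusComplement H ∧ Nonempty (C ≃* H) := by
  set n := Nat.card C with hn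
  have hn1 : 1 < n := Finite.one_lt_card
  obtain ⟨q, hq, -, hqn⟩ := Nat.exists_prime_gt_modEq_one (k := n) 0 (by omega)
  have : Fact q.Prime := ⟨hq⟩
  have hdvd : n ∣ q - 1 := (Nat.modEq_iff_dvd' hq.one_lt.le).mp hqn.symm
  have hcard : Nat.card (ZMod q)ˣ = q - 1 := by
    rw [Nat.card_eq_fintype_card, ZMod.card_units]
  obtain ⟨g, hg⟩ := IsCyclic.exists_generator (α := (ZMod q)ˣ)
  have hgord : orderOf g = q - 1 := by
    rw [orderOf_eq_card_of_forall_mem_zpowers hg, hcard]
  obtain ⟨d, hd⟩ := hdvd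
  have hq1 : 0 < q - 1 := by have := hq.one_lt; omega
  have hd0 : d ≠ 0 := by rintro rfl; simp at hd; omega
  set u := g ^ d with hu
  have huord : orderOf u = n := by
    rw [hu, orderOf_pow, hgord, hd, Nat.gcd_mul_left_left, Nat.mul_div_cancel _ (Nat.pos_of_ne_zero hd0)]
  let K := Subgroup.zpowers u
  have hKcard : Nat.card K = n := by rw [Nat.card_zpowers, huord]
  have e1 : C ≃* K := mulEquivOfCyclicCardEq (by rw [hKcard])
  have : Nontrivial K := e1.symm.toEquiv.nontrivial
  have hfree : ∀ k : K, ∀ m : ZMod q, k • m = m → k = 1 ∨ m = 0 := by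
    rintro ⟨k, hk⟩ m hm
    change (k : ZMod q) * m = m at hm
    have h2 : ((k : ZMod q) - 1) * m = 0 := by rw [sub_mul, hm]; simp
    rcases mul_eq_zero.mp h2 with h | h
    · left
      have : (k : ZMod q) = 1 := sub_eq_zero.mp h
      exact Subtype.ext (Units.ext this)
    · exact Or.inr h
  obtain ⟨L, iG, iF, H, hH, ⟨e⟩⟩ := exists_frobeniusComplement_of_free_action (K := K) (M := ZMod q) hfree
  exact ⟨L, iG, iF, H, hH, ⟨e1.trans e⟩⟩

end Cfsg.Agent.S4299
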