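import Cfsg.Statements.S4300

set_option autoImplicit false
open Cfsg

namespace Cfsg.Agent.S4300

/-- Let G act faithfully and primitively on a set X, and suppose the stabilizer of some point is a simple group. Then either G is simple, or G has a normal subgroup, neither trivial nor the whole group, that acts regularly on X (transitively with trivial point stabilizers). -/
theorem result {G : Type*} [Group G] {X : Type*} [MulAction G X] [FaithfulSMul G X]
    (hprim : MulAction.IsPreprimitive G X) (x : X) (hsimple : IsSimpleGroup (MulAction.stabilizer G x)) :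
    IsSimpleGroup G ∨ ∃ N : Subgroup G, N.Normal ∧ N ≠ ⊥ ∧ N ≠ ⊤ ∧
      MulAction.IsPretransitive N X ∧ ∀ y : X, MulAction.stabilizer N y = ⊥ := by
  by_cases hS : IsSimpleGroup G
  · exact Or.inl hS
  right
  set S := MulAction.stabilizer G x with hSdef
  -- G is nontrivial
  have hSnt : Nontrivial S := hsimple.toNontrivial
  have hGnt : Nontrivial G := by
    obtain ⟨a, b, hab⟩ := hSnt
    exact ⟨a.1, b.1, fun h => hab (Subtype.ext h)⟩
  -- X is nontrivial
  have hXnt : Nontrivial X := by
    by_contra hX
    rw [not_nontrivial_iff_subsingleton] at hX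
    obtain ⟨a, b, hab⟩ := hGnt
    apply hab
    apply FaithfulSMul.eq_of_smul_eq_smul (α := X)
    intro y
    exact Subsingleton.elim _ _
  -- a proper nontrivial normal subgroup
  obtain ⟨N, hNn, hNbot, hNtop⟩ : ∃ N : Subgroup G, N.Normal ∧ N ≠ ⊥ ∧ N ≠ ⊤ := by
    by_contra hcon
    push Not at hcon
    apply hS
    refine ⟨fun N hN => ?_⟩
    by_cases h : N = ⊥
    · exact Or.inl h
    · exact Or.inr (hcon N hN h)
  refine ⟨N, hNn, hNbot, hNtop, ?_⟩
  have hfix : MulAction.fixedPoints N X ≠ Set.univ := by
    intro h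
    apply hNbot
    rw [Subgroup.eq_bot_iff_forall]
    intro n hn
    apply FaithfulSMul.eq_of_smul_eq_smul (α := X)
    intro y
    rw [one_smul]
    have : y ∈ MulAction.fixedPoints N X := by rw [h]; trivial
    exact this ⟨n, hn⟩
  have htrans : MulAction.IsPretransitive N X :=
    MulAction.IsQuasiPreprimitive.isPretransitive_of_normal hfix
  refine ⟨htrans, ?_⟩
  have hnorm : (N.subgroupOf S).Normal := inferInstance
  rcases hnorm.eq_bot_or_eq_top with h | h
  · -- N ∩ S = ⊥
    intro y
    obtain ⟨g, rfl⟩ := MulAction.exists_smul_eq G x y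
    rw [Subgroup.eq_bot_iff_forall]
    rintro ⟨n, hn⟩ hny
    rw [MulAction.mem_stabilizer_iff] at hny
    have h1 : g⁻¹ * n * g ∈ S := by
      rw [hSdef, MulAction.mem_stabilizer_iff, mul_smul, mul_smul, inv_smul_eq_iff]
      exact hny
    have h2 : g⁻¹ * n * g ∈ N := by
      have := hNn.conj_mem n hn g⁻¹
      simpa using this
    have h3 : (⟨g⁻¹ * n * g, h1⟩ : S) ∈ N.subgroupOf S := by
      rw [Subgroup.mem_subgroupOf]; exact h2
    rw [h, Subgroup.mem_bot] at h3
    have h4 : g⁻¹ * n * g = 1 := congrArg Subtype.val h3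
    have h5 : n = 1 := by
      have : n = g * (g⁻¹ * n * g) * g⁻¹ := by group
      rw [this, h4]; group
    exact Subtype.ext h5
  · -- S ≤ N
    exfalso
    rw [Subgroup.subgroupOf_eq_top] at h
    have hco : IsCoatom S := MulAction.IsPreprimitive.isCoatom_stabilizer_of_isPreprimitive (G := G) x
    have hNS : N = S := by
      by_contra hne
      exact hNtop (hco.2 N (lt_of_le_of_ne h (Ne.symm hne)))
    obtain ⟨y, hy⟩ := exists_ne x
    obtain ⟨⟨n, hn⟩, hny⟩ := MulAction.exists_smul_eq N x y
    rw [hNS] at hn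
    apply hy
    rw [← hny]
    exact hn

end Cfsg.Agent.S4300
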