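import Cfsg.Statements.S4301
import Mathlib.GroupTheory.GroupAction.MultipleTransitivity
import Mathlib.SetTheory.Cardinal.Embedding

set_option autoImplicit false
open Cfsg

namespace Cfsg.Agent.S4301

/-- One-point extension of a multiply transitive group. Let X be a set and G a group of permutations of Option X (the set X with one extra point ∗ = none) all of whose elements fix ∗, such that G is k-transitive on the points of X for some k ≥ 2, X having at least k points. Suppose a permutation h of Option X and an element g of G satisfy: h interchanges ∗ with a point x of X and fixes a point y of X; g interchanges x and y; (g h)³ and h² lie in G; and for every f in G fixing x, the product h f h lies in G and fixes x. Then an element of the group generated by G and h fixes ∗ exactly when it lies in G, and that group acts (k+1)-transitively on Option X. -/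
theorem result {X : Type*} (G : Subgroup (Equiv.Perm (Option X))) (hfix : ∀ f ∈ G, f none = none)
    (k : ℕ) (hk : 2 ≤ k) (hkX : Nonempty (Fin k ↪ X))
    (htrans : ∀ a b : Fin k ↪ X, ∃ f ∈ G, ∀ i, f (some (a i)) = some (b i))
    (h g : Equiv.Perm (Option X)) (hg : g ∈ G) (x y : X)
    (h1 : h none = some x) (h2 : h (some x) = none) (h3 : h (some y) = some y)
    (h4 : g (some x) = some y) (h5 : g (some y) = some x)
    (h6 : (g * h) ^ 3 ∈ G) (h7 : h ^ 2 ∈ G)
    (h8 : ∀ f ∈ G, f (some x) = some x → h * f * h ∈ G ∧ (h * f * h) (some x) = some x) :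
    (∀ f ∈ Subgroup.closure ((G : Set (Equiv.Perm (Option X))) ∪ {h}), f none = none ↔ f ∈ G) ∧
      MulAction.IsMultiplyPretransitive (Subgroup.closure ((G : Set (Equiv.Perm (Option X))) ∪ {h})) (Option X) (k + 1) := by
  classical
  have hxy : x ≠ y := by
    rintro rfl
    rw [h2] at h3
    exact (Option.some_ne_none x h3.symm).elim
  -- `k ≤ |X|`
  have hkcard : (k : ℕ∞) ≤ ENat.card X := by
    obtain ⟨e⟩ := hkX
    have := ENat.card_le_card_of_injective e.injective
    simpa using this
  -- 2-transitivity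
  have T2 : ∀ u v u' v' : X, u ≠ v → u' ≠ v' →
      ∃ f ∈ G, f (some u) = some u' ∧ f (some v) = some v' := by
    intro u v u' v' huv huv'
    let e₂ : Fin 2 ↪ X := ⟨![u, v], by
      intro i j hij
      fin_cases i <;> fin_cases j <;> simp_all⟩
    let e₂' : Fin 2 ↪ X := ⟨![u', v'], by
      intro i j hij
      fin_cases i <;> fin_cases j <;> simp_all⟩
    obtain ⟨e, he⟩ := Fin.Embedding.restrictSurjective_of_le_ENatCard hk hkcard e₂
    obtain ⟨e', he'⟩ := Fin.Embedding.restrictSurjective_of_le_ENatCard hk hkcard e₂'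
    obtain ⟨f, hf, hfe⟩ := htrans e e'
    refine ⟨f, hf, ?_, ?_⟩
    · have h0 := congrArg (fun t => t 0) he
      have h0' := congrArg (fun t => t 0) he'
      simp only [Function.Embedding.trans_apply, Fin.castLEEmb_apply] at h0 h0'
      have := hfe (Fin.castLE hk 0)
      rw [h0, h0'] at this
      exact this
    · have h0 := congrArg (fun t => t 1) he
      have h0' := congrArg (fun t => t 1) he'
      simp only [Function.Embedding.trans_apply, Fin.castLEEmb_apply] at h0 h0'
      have := hfe (Fin.castLE hk 1)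
      rw [h0, h0'] at this
      exact this
  -- transitivity on `X`
  have T1 : ∀ w w' : X, ∃ f ∈ G, f (some w) = some w' := by
    intro w w'
    by_cases hww : w = w'
    · exact ⟨1, G.one_mem, by rw [hww]; rfl⟩
    · obtain ⟨f, hf, hf1, -⟩ := T2 w w' w' w hww (Ne.symm hww)
      exact ⟨f, hf, hf1⟩
  -- double coset decomposition of `G` with respect to the stabiliser of `x`
  have hdc : ∀ f ∈ G, f (some x) ≠ some x →
      ∃ a ∈ G, ∃ b ∈ G, a (some x) = some x ∧ b (some x) = some x ∧ f = a * g * b := by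
    intro f hf hfx
    have hfn : f (some x) ≠ none := by
      intro h0
      have h1 := hfix f hf
      rw [← h1] at h0
      exact Option.some_ne_none x (f.injective h0)
    obtain ⟨z, hz⟩ := Option.ne_none_iff_exists'.mp hfn
    have hzx : x ≠ z := by
      rintro rfl
      exact hfx hz
    obtain ⟨a, ha, hax, hay⟩ := T2 x y x z hxy hzx
    refine ⟨a, ha, g⁻¹ * a⁻¹ * f, G.mul_mem (G.mul_mem (G.inv_mem hg) (G.inv_mem ha)) hf, hax,
      ?_, by group⟩
    simp only [Equiv.Perm.coe_mul, Function.comp_apply]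
    rw [hz, Equiv.Perm.inv_eq_iff_eq.mpr hay.symm, Equiv.Perm.inv_eq_iff_eq.mpr h4.symm]
  -- the set `G ∪ G h G`
  let InM : Equiv.Perm (Option X) → Prop :=
    fun m => m ∈ G ∨ ∃ a ∈ G, ∃ b ∈ G, m = a * h * b
  have hGM : ∀ m ∈ G, InM m := fun m hm => Or.inl hm
  -- `h G h ⊆ M`
  have hkey : ∀ f ∈ G, InM (h * f * h) := by
    intro f hf
    by_cases hfx : f (some x) = some x
    · exact Or.inl (h8 f hf hfx).1
    · obtain ⟨a, ha, b, hb, hax, hbx, rfl⟩ := hdc f hf hfx
      right
      have e3 : (g * h) ^ 3 = g * h * (g * h) * (g * h) := by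
        rw [pow_succ, pow_succ, pow_one]
      have e2 : h ^ 2 = h * h := pow_two h
      refine ⟨(h * a * h) * (h ^ 2)⁻¹ * g⁻¹ * (g * h) ^ 3, ?_,
        (h ^ 2)⁻¹ * g⁻¹ * (h ^ 2)⁻¹ * (h * b * h), ?_, by rw [e3, e2]; group⟩
      · exact G.mul_mem (G.mul_mem (G.mul_mem (h8 a ha hax).1 (G.inv_mem h7)) (G.inv_mem hg)) h6
      · exact G.mul_mem (G.mul_mem (G.mul_mem (G.inv_mem h7) (G.inv_mem hg)) (G.inv_mem h7))
          (h8 b hb hbx).1
  have hmul : ∀ m₁ m₂, InM m₁ → InM m₂ → InM (m₁ * m₂) := by
    rintro m₁ m₂ (h₁ | ⟨a, ha, b, hb, rfl⟩) (h₂ | ⟨a', ha', b', hb', rfl⟩)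
    · exact Or.inl (G.mul_mem h₁ h₂)
    · exact Or.inr ⟨m₁ * a', G.mul_mem h₁ ha', b', hb', by group⟩
    · exact Or.inr ⟨a, ha, b * m₂, G.mul_mem hb h₂, by group⟩
    · rcases hkey (b * a') (G.mul_mem hb ha') with h₃ | ⟨A, hA, B, hB, hAB⟩
      · left
        have : a * h * b * (a' * h * b') = a * (h * (b * a') * h) * b' := by group
        rw [this]
        exact G.mul_mem (G.mul_mem ha h₃) hb'
      · right
        refine ⟨a * A, G.mul_mem ha hA, B * b', G.mul_mem hB hb', ?_⟩
        have : a * h * b * (a' * h * b') = a * (h * (b * a') * h) * b' := by group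
        rw [this, hAB]; group
  have hinv : ∀ m, InM m → InM m⁻¹ := by
    rintro m (h₁ | ⟨a, ha, b, hb, rfl⟩)
    · exact Or.inl (G.inv_mem h₁)
    · exact Or.inr ⟨b⁻¹, G.inv_mem hb, (h ^ 2)⁻¹ * a⁻¹, G.mul_mem (G.inv_mem h7) (G.inv_mem ha),
        by rw [pow_two]; group⟩
  let M : Subgroup (Equiv.Perm (Option X)) :=
    { carrier := {m | InM m}
      one_mem' := Or.inl G.one_mem
      mul_mem' := fun {a b} ha hb => hmul a b ha hb
      inv_mem' := fun {a} ha => hinv a ha }
  have hle : Subgroup.closure ((G : Set (Equiv.Perm (Option X))) ∪ {h}) ≤ M := by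
    rw [Subgroup.closure_le]
    rintro m (hm | hm)
    · exact Or.inl hm
    · rw [Set.mem_singleton_iff] at hm
      exact Or.inr ⟨1, G.one_mem, 1, G.one_mem, by rw [hm]; group⟩
  have hGle : G ≤ Subgroup.closure ((G : Set (Equiv.Perm (Option X))) ∪ {h}) :=
    fun m hm => Subgroup.subset_closure (Or.inl hm)
  have hh : h ∈ Subgroup.closure ((G : Set (Equiv.Perm (Option X))) ∪ {h}) :=
    Subgroup.subset_closure (Or.inr rfl)
  refine ⟨?_, ?_⟩
  · intro f hf
    refine ⟨fun hfn => ?_, fun hfG => hfix f hfG⟩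
    rcases hle hf with h₁ | ⟨a, ha, b, hb, rfl⟩
    · exact h₁
    · exfalso
      simp only [Equiv.Perm.coe_mul, Function.comp_apply] at hfn
      rw [hfix b hb, h1] at hfn
      have h0 := hfix a ha
      rw [← h0] at hfn
      exact Option.some_ne_none x (a.injective hfn)
  · -- normal form for an embedding
    have hnorm : ∀ a : Fin (k + 1) ↪ Option X,
        ∃ m ∈ Subgroup.closure ((G : Set (Equiv.Perm (Option X))) ∪ {h}), ∃ t : Fin k ↪ X,
          m (a 0) = none ∧ ∀ i : Fin k, m (a i.succ) = some (t i) := by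
      intro a
      obtain ⟨m, hm, hm0⟩ : ∃ m ∈ Subgroup.closure ((G : Set (Equiv.Perm (Option X))) ∪ {h}),
          m (a 0) = none := by
        rcases hz : a 0 with _ | w
        · exact ⟨1, Subgroup.one_mem _, rfl⟩
        · obtain ⟨f, hf, hfw⟩ := T1 w x
          refine ⟨h * f, Subgroup.mul_mem _ hh (hGle hf), ?_⟩
          simp only [Equiv.Perm.coe_mul, Function.comp_apply]
          rw [hfw, h2]
      have hsome : ∀ i : Fin k, ∃ w : X, m (a i.succ) = some w := by
        intro i
        apply Option.ne_none_iff_exists'.mp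
        intro h0
        rw [← hm0] at h0
        have := a.injective (m.injective h0)
        exact Fin.succ_ne_zero i this
      choose t ht using hsome
      refine ⟨m, hm, ⟨t, ?_⟩, hm0, ht⟩
      intro i j hij
      have : m (a i.succ) = m (a j.succ) := by rw [ht i, ht j, hij]
      exact Fin.succ_injective _ (a.injective (m.injective this))
    refine ⟨fun a b => ?_⟩
    obtain ⟨ma, hma, ta, ha0, hat⟩ := hnorm a
    obtain ⟨mb, hmb, tb, hb0, hbt⟩ := hnorm b
    obtain ⟨f, hf, hft⟩ := htrans ta tb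
    refine ⟨⟨mb⁻¹ * f * ma, Subgroup.mul_mem _ (Subgroup.mul_mem _ (Subgroup.inv_mem _ hmb)
      (hGle hf)) hma⟩, ?_⟩
    ext i : 1
    rw [Function.Embedding.smul_apply, Subgroup.mk_smul, Equiv.Perm.smul_def]
    simp only [Equiv.Perm.coe_mul, Function.comp_apply]
    refine Fin.cases ?_ (fun j => ?_) i
    · rw [ha0, hfix f hf, Equiv.Perm.inv_eq_iff_eq, hb0]
    · rw [hat j, hft j, Equiv.Perm.inv_eq_iff_eq, hbt j]

end Cfsg.Agent.S4301
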