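import Mathlib
import Cfsg.Statements.S4304
import Cfsg.Agent.S4303
import Cfsg.Agent.Lib.Helper38.SylNum

set_option autoImplicit false
open Cfsg

namespace Cfsg.Agent.S4304

open Subgroup Cfsg.Agent.Lib.Helper17 Cfsg.Agent.Lib.Helper38.SylNum

/-- A Sylow subgroup of prime order `q` whose normalizer has order coprime to `q - 1` after
removing... : if `gcd (|N(R)|, q - 1) = 1` then `N(R) ≤ C(R)`. -/
theorem normalizer_le_centralizer_of_coprime {S : Type*} [Group S] [Finite S] {q : ℕ}
    [hq : Fact q.Prime] (R : Sylow q S) (hR : Nat.card (R : Subgroup S) = q)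
    (hcop : Nat.Coprime (Nat.card (normalizer ((R : Subgroup S) : Set S))) (q - 1)) :
    normalizer ((R : Subgroup S) : Set S) ≤ centralizer ((R : Subgroup S) : Set S) := by
  have h1 := relIndex_centralizer_normalizer_dvd_card_mulAut (R : Subgroup S)
  have : IsCyclic ↥(R : Subgroup S) := isCyclic_of_prime_card hR
  rw [IsCyclic.card_mulAut, hR, Nat.totient_prime hq.out] at h1
  have h2 : (centralizer ((R : Subgroup S) : Set S)).relIndex
      (normalizer ((R : Subgroup S) : Set S)) ∣
      Nat.card (normalizer ((R : Subgroup S) : Set S)) := relIndex_dvd_card _ _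
  exact relIndex_eq_one.1 (Nat.eq_one_of_dvd_coprimes hcop h2 h1)

/-- No finite simple group has exactly 15 Sylow 7-subgroups. -/
theorem simple_case {S : Type*} [Group S] [Finite S] [IsSimpleGroup S] :
    Nat.card (Sylow 7 S) ≠ 15 := by
  intro h15
  have : Fact (Nat.Prime 7) := ⟨by norm_num⟩
  obtain ⟨P, e, hP, he, hN, hG, hNC⟩ :=
    structure_of_card_sylow (G := S) (p := 7) (by norm_num) (by rw [h15])
  have he6 : e ∣ 6 := he
  have hele : e ≤ 6 := Nat.le_of_dvd (by norm_num) he6
  have h7 : 7 ∣ Nat.card S := by rw [hG]; exact ⟨15 * e, by ring⟩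
  have hnp : ¬ (Nat.card S).Prime := by
    intro hpr
    have := (Nat.prime_dvd_prime_iff_eq (by norm_num : Nat.Prime 7) hpr).1 h7
    rw [hG] at this
    omega
  have hnc : ¬ IsMulCommutative S := not_comm_of_simple_of_not_prime hnp
  have he0 : 1 ≤ e := by
    rcases Nat.eq_zero_or_pos e with h0 | h0
    · subst h0; simp at he6
    · exact h0
  interval_cases e
  · -- e = 1
    exact not_normalizer_le_centralizer_of_simple hnc P h7 (hNC rfl)
  · -- e = 2, |S| = 210
    have : Fact (Nat.Prime 2) := ⟨Nat.prime_two⟩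
    obtain ⟨T⟩ := (Sylow.nonempty : Nonempty (Sylow 2 S))
    have hcard : Nat.card S = 2 ^ 1 * 105 := by rw [hG]; norm_num
    have hT : Nat.card (T : Subgroup S) = 2 := by
      have := sylow_card_of_card_eq T hcard (by norm_num)
      simpa using this
    have h2 : 2 ∣ Nat.card S := by rw [hcard]; exact ⟨105, by ring⟩
    have hmin : (Nat.card S).minFac = 2 := (Nat.minFac_eq_two_iff _).2 h2
    have hcyc : IsCyclic ↥(T : Subgroup S) := isCyclic_of_prime_card hT
    exact not_normalizer_le_centralizer_of_simple hnc T h2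
      (IsCyclic.normalizer_le_centralizer hmin hcyc)
  · -- e = 3, |S| = 315
    have : Fact (Nat.Prime 5) := ⟨by norm_num⟩
    obtain ⟨R⟩ := (Sylow.nonempty : Nonempty (Sylow 5 S))
    have hcard : Nat.card S = 5 ^ 1 * 63 := by rw [hG]; norm_num
    have hR : Nat.card (R : Subgroup S) = 5 := by
      have := sylow_card_of_card_eq R hcard (by norm_num)
      simpa using this
    have h5 : 5 ∣ Nat.card S := by rw [hcard]; exact ⟨63, by ring⟩
    have hd : Nat.card (Sylow 5 S) ∣ 63 := card_sylow_dvd_of_card_eq hcard (by norm_num)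
    have hm : Nat.card (Sylow 5 S) ≡ 1 [MOD 5] := card_sylow_modEq_one 5 S
    have hne1 : Nat.card (Sylow 5 S) ≠ 1 :=
      card_sylow_ne_one_of_simple hcard (by norm_num) (by norm_num) (by norm_num)
    have hmul := card_sylow_mul_card_normalizer R
    have hle : Nat.card (Sylow 5 S) ≤ 63 := Nat.le_of_dvd (by norm_num) hd
    have h21 : Nat.card (Sylow 5 S) = 21 := by
      unfold Nat.ModEq at hm
      interval_cases hk : Nat.card (Sylow 5 S) <;> omega
    rw [h21, hcard] at hmul
    have hNR : Nat.card (normalizer ((R : Subgroup S) : Set S)) = 15 := by omega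
    apply not_normalizer_le_centralizer_of_simple hnc R h5
    apply normalizer_le_centralizer_of_coprime R hR
    rw [hNR]; decide
  · -- e = 4 impossible
    omega
  · omega
  · -- e = 6, |S| = 630
    have : Fact (Nat.Prime 2) := ⟨Nat.prime_two⟩
    obtain ⟨T⟩ := (Sylow.nonempty : Nonempty (Sylow 2 S))
    have hcard : Nat.card S = 2 ^ 1 * 315 := by rw [hG]; norm_num
    have hT : Nat.card (T : Subgroup S) = 2 := by
      have := sylow_card_of_card_eq T hcard (by norm_num)
      simpa using this
    have h2 : 2 ∣ Nat.card S := by rw [hcard]; exact ⟨315, by ring⟩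
    have hmin : (Nat.card S).minFac = 2 := (Nat.minFac_eq_two_iff _).2 h2
    have hcyc : IsCyclic ↥(T : Subgroup S) := isCyclic_of_prime_card hT
    exact not_normalizer_le_centralizer_of_simple hnc T h2
      (IsCyclic.normalizer_le_centralizer hmin hcyc)

/-- No finite group has exactly 15 Sylow 7-subgroups. -/
theorem result {G : Type*} [Group G] [Finite G] : Nat.card (Sylow 7 G) ≠ 15 := by
  intro h
  have : Fact (Nat.Prime 7) := ⟨by norm_num⟩
  obtain ⟨l, hl, hm⟩ := Cfsg.Agent.S4303.result (G := G) 7
  have hall : ∀ m ∈ l, m = 1 := by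
    intro m hml
    have hdvd : m ∣ 15 := by rw [← h, ← hl]; exact List.dvd_prod hml
    have hle : m ≤ 15 := Nat.le_of_dvd (by norm_num) hdvd
    rcases hm m hml with ⟨hpp, hmod⟩ | ⟨S, _, _, hS, hmS⟩
    · exfalso
      have h115 : m = 1 ∨ m = 15 := by
        interval_cases m <;> omega
      rcases h115 with rfl | rfl
      · exact not_isPrimePow_one hpp
      · obtain ⟨q, k, hq, hk, hqk⟩ := hpp
        have hq' : Nat.Prime q := hq.nat_prime
        have h3 : 3 ∣ q ^ k := by rw [hqk]; norm_num
        have h5 : 5 ∣ q ^ k := by rw [hqk]; norm_num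
        have e3 := (Nat.prime_dvd_prime_iff_eq (by norm_num) hq').1 ((by norm_num : Nat.Prime 3).dvd_of_dvd_pow h3)
        have e5 := (Nat.prime_dvd_prime_iff_eq (by norm_num) hq').1 ((by norm_num : Nat.Prime 5).dvd_of_dvd_pow h5)
        omega
    · have hmod : m ≡ 1 [MOD 7] := by rw [hmS]; exact card_sylow_modEq_one 7 S
      have hne : m ≠ 15 := by rw [hmS]; exact simple_case
      unfold Nat.ModEq at hmod
      interval_cases m <;> omega
  rw [List.prod_eq_one hall] at hl
  omega

end Cfsg.Agent.S4304
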