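import Cfsg.Statements.S4309
-- import your own Cfsg.Agent.* helpers here

set_option autoImplicit false
open Cfsg

namespace Cfsg.Agent.S4309

/-- For `A` normal, `|A : H ∩ A| = |HA : H|`. -/
theorem relIndex_sup_of_normal {G : Type*} [Group G] [Finite G] (H A : Subgroup G) [A.Normal] :
    H.relIndex (H ⊔ A) = H.relIndex A := by
  have h1 : A.relIndex (H ⊔ A) = A.relIndex H := Subgroup.relIndex_sup_right H A
  have e1 := Subgroup.relIndex_mul_relIndex ⊥ A (H ⊔ A) bot_le le_sup_right
  have e2 := Subgroup.relIndex_mul_relIndex ⊥ H (H ⊔ A) bot_le le_sup_left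
  have e3 := Subgroup.relIndex_mul_relIndex ⊥ (H ⊓ A) A bot_le inf_le_right
  have e4 := Subgroup.relIndex_mul_relIndex ⊥ (H ⊓ A) H bot_le inf_le_left
  rw [Subgroup.inf_relIndex_right] at e3
  rw [Subgroup.inf_relIndex_left] at e4
  rw [h1] at e1
  have hpos : 0 < (⊥ : Subgroup G).relIndex H := by
    rw [Subgroup.relIndex_bot_left]; exact Nat.card_pos
  apply Nat.eq_of_mul_eq_mul_left hpos
  rw [e2, ← e1, ← e3, ← e4]
  ring

theorem relIndex_dvd_index_of_normal_right {G : Type*} [Group G] [Finite G] (H A : Subgroup G)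
    [A.Normal] : H.relIndex A ∣ H.index := by
  rw [← relIndex_sup_of_normal H A]
  exact Subgroup.relIndex_dvd_index_of_le le_sup_left

/-- Let `π` be a set of primes, `G` a finite group with a Hall `π`-subgroup `H` (every prime divisor of the order of `H` lies in `π` and no prime of `π` divides its index), and `A` a normal subgroup of `G`. Then `H ∩ A` is a Hall `π`-subgroup of `A` and the image of `H` in `G/A` is a Hall `π`-subgroup of `G/A`. -/
theorem result {G : Type*} [Group G] [Finite G] (π : Set ℕ)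
    (H A : Subgroup G) [A.Normal] (hH : Cfsg.IsPiHall π H) :
    Cfsg.IsPiHall π ((H ⊓ A).subgroupOf A) ∧ Cfsg.IsPiHall π (H.map (QuotientGroup.mk' A)) := by
  obtain ⟨h1, h2⟩ := hH
  refine ⟨⟨?_, ?_⟩, ⟨?_, ?_⟩⟩
  · intro p hp hdvd
    apply h1 p hp
    have e : Nat.card ((H ⊓ A).subgroupOf A) = Nat.card (H ⊓ A : Subgroup G) :=
      Nat.card_congr (Subgroup.subgroupOfEquivOfLe inf_le_right).toEquiv
    rw [e] at hdvd
    exact hdvd.trans (Subgroup.card_dvd_of_le inf_le_left)
  · intro p hp hpπ hdvd
    apply h2 p hp hpπ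
    have e : ((H ⊓ A).subgroupOf A).index = H.relIndex A := by
      change (H ⊓ A).relIndex A = _
      exact Subgroup.inf_relIndex_right H A
    rw [e] at hdvd
    exact hdvd.trans (relIndex_dvd_index_of_normal_right H A)
  · intro p hp hdvd
    exact h1 p hp (hdvd.trans (Subgroup.card_map_dvd H _))
  · intro p hp hpπ hdvd
    apply h2 p hp hpπ
    exact hdvd.trans (Subgroup.index_map_dvd H (QuotientGroup.mk'_surjective A))

end Cfsg.Agent.S4309
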