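import Cfsg.Statements.S4314
-- import your own Cfsg.Agent.* helpers here

set_option autoImplicit false
open Cfsg

namespace Cfsg.Agent.S4314

open Subgroup

/-- class sizes in a homomorphic image divide class sizes in the source. -/
theorem index_centralizer_map_dvd {G G' : Type*} [Group G] [Group G'] (f : G →* G')
    (hf : Function.Surjective f) (g : G) :
    (centralizer ({f g} : Set G')).index ∣ (centralizer ({g} : Set G)).index := by
  have h1 : (centralizer ({g} : Set G)).map f ≤ centralizer ({f g} : Set G') := by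
    rintro _ ⟨h, hh, rfl⟩
    rw [SetLike.mem_coe] at hh
    rw [mem_centralizer_singleton_iff] at hh ⊢
    rw [← map_mul, ← map_mul, hh]
  exact (index_dvd_of_le h1).trans (index_map_dvd _ hf)

/-- In a group embedded in the symmetric group of prime degree `p`, an element of order `p`
is self-centralizing. -/
theorem mem_zpowers_of_commute_of_perm {H Ω : Type*} [Group H] [Fintype Ω] [DecidableEq Ω]
    (φ : H →* Equiv.Perm Ω) (hφ : Function.Injective φ) (hΩ : (Fintype.card Ω).Prime)
    (u z : H) (hu : orderOf u = Fintype.card Ω) (hz : z * u = u * z) : z ∈ zpowers u := by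
  set σ := φ u with hσ
  set τ := φ z with hτ
  have hoσ : orderOf σ = Fintype.card Ω := by rw [hσ, orderOf_injective φ hφ u, hu]
  have hcyc : σ.IsCycle := Equiv.Perm.isCycle_of_prime_order'' hΩ hoσ
  have hsupp : σ.support = Finset.univ := by
    apply Finset.eq_univ_of_card
    rw [← hcyc.orderOf, hoσ]
  have hmove : ∀ ω : Ω, σ ω ≠ ω := by
    intro ω
    rw [← Equiv.Perm.mem_support, hsupp]; exact Finset.mem_univ _
  have hcomm : τ * σ = σ * τ := by rw [hσ, hτ, ← map_mul, ← map_mul, hz]
  have hne : Nonempty Ω := by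
    rw [← Fintype.card_pos_iff]; exact hΩ.pos
  obtain ⟨ω0⟩ := hne
  obtain ⟨i, hi⟩ := hcyc.exists_zpow_eq (hmove ω0) (hmove (τ ω0))
  -- `ρ = σ^{-i} τ` fixes everything
  have hcomm' : ∀ j : ℤ, τ * σ ^ j = σ ^ j * τ := by
    intro j
    exact (Commute.zpow_right (show Commute τ σ from hcomm) j)
  have hτeq : τ = σ ^ i := by
    apply Equiv.ext
    intro ω
    obtain ⟨j, hj⟩ := hcyc.exists_zpow_eq (hmove ω0) (hmove ω)
    rw [← hj]
    have h1 : τ ((σ ^ j) ω0) = (σ ^ j) (τ ω0) := by
      have := congrArg (fun f : Equiv.Perm Ω => f ω0) (hcomm' j)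
      simpa [Equiv.Perm.mul_apply] using this
    rw [h1, ← hi, ← Equiv.Perm.mul_apply, ← Equiv.Perm.mul_apply, ← zpow_add, ← zpow_add, add_comm]
  have h2 : φ z = φ (u ^ i) := by rw [map_zpow]; exact hτeq
  exact ⟨i, (hφ h2).symm⟩

/-- a group whose order is `1` or a prime is commutative -/
theorem comm_of_card_one_or_prime {H : Type*} [Group H] (h : Nat.card H = 1 ∨ (Nat.card H).Prime)
    (a b : H) : a * b = b * a := by
  rcases h with h1 | hp
  · have : Subsingleton H := (Nat.card_eq_one_iff_unique.mp h1).1
    exact Subsingleton.elim _ _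
  · have : Fact (Nat.card H).Prime := ⟨hp⟩
    have hc : IsCyclic H := isCyclic_of_prime_card rfl
    have hcm : IsMulCommutative H := IsCyclic.isMulCommutative
    exact hcm.is_comm.comm a b

/-- Case 1: all element centralizers are normal. -/
theorem ucs_two_eq_top_of_normal {G : Type*} [Group G] [Finite G]
    (h : ∀ x : G, (centralizer ({x} : Set G)).index = 1 ∨ ((centralizer ({x} : Set G)).index).Prime)
    (hn : ∀ x : G, (centralizer ({x} : Set G)).Normal) : Subgroup.upperCentralSeries G 2 = ⊤ := by
  have hcomm : ∀ a b x : G, a * b * a⁻¹ * b⁻¹ ∈ centralizer ({x} : Set G) := by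
    intro a b x
    have := hn x
    rw [← QuotientGroup.eq_one_iff]
    have hc := comm_of_card_one_or_prime (H := G ⧸ centralizer ({x} : Set G)) (h x)
      (QuotientGroup.mk a) (QuotientGroup.mk b)
    rw [QuotientGroup.mk_mul, QuotientGroup.mk_mul, QuotientGroup.mk_mul, QuotientGroup.mk_inv,
      QuotientGroup.mk_inv, hc, mul_inv_cancel_right, mul_inv_cancel]
  rw [eq_top_iff]
  intro y _
  have h2 : (2 : ℕ) = 1 + 1 := rfl
  rw [h2, Subgroup.mem_upperCentralSeries_succ_iff]
  intro g
  rw [Subgroup.upperCentralSeries_one, mem_center_iff]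
  intro x
  have h3 := hcomm y g x
  rw [mem_centralizer_singleton_iff] at h3
  rw [commutatorElement_def]
  exact h3.symm

theorem transport_center {G : Type*} [Group G] (K : Subgroup G) [K.Normal] (hK : K = center G)
    (p q : ℕ) (hcard : Nat.card (G ⧸ K) = p * q) (hab : ¬ ∀ a b : G ⧸ K, a * b = b * a) :
    Nat.card (G ⧸ center G) = p * q ∧ ¬ IsMulCommutative (G ⧸ center G) := by
  subst hK
  exact ⟨hcard, fun h => hab (fun a b => h.is_comm.comm a b)⟩

theorem dvd_prime_mul_prime {p q i : ℕ} (hp : p.Prime) (hq : q.Prime) (hi : i ∣ p * q) :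
    i = 1 ∨ i = p ∨ i = q ∨ i = p * q := by
  by_cases hpi : p ∣ i
  · obtain ⟨j, rfl⟩ := hpi
    have hj : j ∣ q := Nat.dvd_of_mul_dvd_mul_left hp.pos hi
    rcases (Nat.dvd_prime hq).mp hj with rfl | rfl
    · right; left; simp
    · right; right; right; rfl
  · have hcop : Nat.Coprime i p := (Nat.Prime.coprime_iff_not_dvd hp).mpr hpi |>.symm
    have hj : i ∣ q := hcop.dvd_of_dvd_mul_left hi
    rcases (Nat.dvd_prime hq).mp hj with rfl | rfl
    · left; rfl
    · right; right; left; rfl

theorem case_two_aux {G : Type*} [Group G] [Finite G]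
    (h : ∀ x : G, (centralizer ({x} : Set G)).index = 1 ∨ ((centralizer ({x} : Set G)).index).Prime)
    (C : Subgroup G) (hCp : C.index.Prime) (hCn : ¬ C.Normal)
    (K : Subgroup G) [hKn : K.Normal] (hKC : K ≤ C) (hZK : center G ≤ K)
    (φ : G ⧸ K →* Equiv.Perm (G ⧸ C)) (hφ : Function.Injective φ) :
    ∃ p q : ℕ, p.Prime ∧ q.Prime ∧ p ≠ q ∧ Nat.card (G ⧸ center G) = p * q ∧
      ¬ IsMulCommutative (G ⧸ center G) := by
  classical
  have := Fintype.ofFinite (G ⧸ C)
  have hΩcard : Fintype.card (G ⧸ C) = C.index := by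
    rw [← Nat.card_eq_fintype_card]; rfl
  set p := C.index with hp
  have : Fact p.Prime := ⟨hCp⟩
  have hf : Function.Surjective (QuotientGroup.mk' K) := QuotientGroup.mk'_surjective K
  -- (1) the quotient is not commutative
  have hab : ¬ ∀ a b : G ⧸ K, a * b = b * a := by
    intro hcomm
    apply hCn
    refine ⟨fun c hc g => ?_⟩
    have h1 : g * c * g⁻¹ * c⁻¹ ∈ K := by
      rw [← QuotientGroup.eq_one_iff]
      rw [QuotientGroup.mk_mul, QuotientGroup.mk_mul, QuotientGroup.mk_mul, QuotientGroup.mk_inv,
        QuotientGroup.mk_inv, hcomm (QuotientGroup.mk g) (QuotientGroup.mk c), mul_inv_cancel_right,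
        mul_inv_cancel]
    have h2 := C.mul_mem (hKC h1) hc
    simpa using h2
  -- (2),(3) an element of order `p`
  have hpdvd : p ∣ Nat.card (G ⧸ K) := by
    change C.index ∣ K.index
    exact index_dvd_of_le hKC
  obtain ⟨u, hu⟩ := exists_prime_orderOf_dvd_card' p hpdvd
  -- (4)
  have hcent : centralizer ({u} : Set (G ⧸ K)) = zpowers u := by
    ext z
    rw [mem_centralizer_singleton_iff]
    constructor
    · intro hz
      exact mem_zpowers_of_commute_of_perm φ hφ (hΩcard ▸ hCp) u z (by rw [hu, hΩcard]) hz
    · rintro ⟨i, rfl⟩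
      change u ^ i * u = u * u ^ i
      exact ((Commute.refl u).zpow_left i).eq
  -- (5)
  have hclass : ∀ y : G ⧸ K, (centralizer ({y} : Set (G ⧸ K))).index = 1 ∨
      ((centralizer ({y} : Set (G ⧸ K))).index).Prime := by
    intro y
    obtain ⟨g, rfl⟩ := hf y
    have hd := index_centralizer_map_dvd (QuotientGroup.mk' K) hf g
    rcases h g with h1 | hpr
    · left; rw [h1] at hd; exact Nat.dvd_one.mp hd
    · rcases (Nat.dvd_prime hpr).mp hd with h2 | h2
      · left; exact h2
      · right; rw [h2]; exact hpr
  -- (6)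
  have hucard : Nat.card (zpowers u) = p := by rw [Nat.card_zpowers, hu]
  have hq : ((centralizer ({u} : Set (G ⧸ K))).index).Prime := by
    rcases hclass u with h1 | h1
    · exfalso
      apply hab
      rw [index_eq_one, hcent] at h1
      intro a b
      have ha : a ∈ zpowers u := h1 ▸ mem_top a
      have hb : b ∈ zpowers u := h1 ▸ mem_top b
      obtain ⟨i, rfl⟩ := ha
      obtain ⟨j, rfl⟩ := hb
      rw [← zpow_add, ← zpow_add, add_comm]
    · exact h1
  set q := (centralizer ({u} : Set (G ⧸ K))).index with hqdef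
  have hcard : Nat.card (G ⧸ K) = p * q := by
    rw [← card_mul_index (centralizer ({u} : Set (G ⧸ K))), hcent, hucard, hqdef, hcent]
  -- (7)
  have hpq : p ≠ q := by
    intro hpq
    apply hab
    have hc : IsMulCommutative (G ⧸ K) :=
      IsPGroup.isMulCommutative_of_card_eq_prime_sq (p := p) (by rw [hcard, ← hpq, sq])
    exact fun a b => hc.is_comm.comm a b
  -- (8)
  have hcenter : center (G ⧸ K) = ⊥ := by
    by_contra hne
    apply hab
    have h1 : Nat.card (center (G ⧸ K)) * (center (G ⧸ K)).index = p * q := by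
      rw [card_mul_index, hcard]
    have hc1 : Nat.card (center (G ⧸ K)) ≠ 1 := fun h => hne (card_eq_one.mp h)
    have hi : (center (G ⧸ K)).index = 1 ∨ ((center (G ⧸ K)).index).Prime := by
      rcases dvd_prime_mul_prime hCp hq (Dvd.intro_left _ h1) with h2 | h2 | h2 | h2
      · left; exact h2
      · right; rw [h2]; exact hCp
      · right; rw [h2]; exact hq
      · exfalso
        rw [h2] at h1
        have hpos : 0 < p * q := Nat.mul_pos hCp.pos hq.pos
        exact hc1 (Nat.eq_of_mul_eq_mul_right hpos (by rw [h1, one_mul]))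
    have hcyc : IsCyclic ((G ⧸ K) ⧸ center (G ⧸ K)) := by
      rcases hi with h2 | h2
      · have : Subsingleton ((G ⧸ K) ⧸ center (G ⧸ K)) := (Nat.card_eq_one_iff_unique.mp h2).1
        infer_instance
      · have : Fact (Nat.card ((G ⧸ K) ⧸ center (G ⧸ K))).Prime := ⟨h2⟩
        exact isCyclic_of_prime_card rfl
    have := isMulCommutative_of_isCyclic_quotient_center_self (G ⧸ K)
    exact fun a b => this.is_comm.comm a b
  -- (9)
  have hKcent : ∀ g : G, g ∉ K → K ≤ centralizer ({g} : Set G) := by
    intro g hg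
    set H := centralizer ({g} : Set G) with hH
    have hgbar : (QuotientGroup.mk' K g) ∉ center (G ⧸ K) := by
      rw [hcenter, mem_bot]
      intro h1
      exact hg ((QuotientGroup.eq_one_iff g).mp h1)
    have hZne : (centralizer ({QuotientGroup.mk' K g} : Set (G ⧸ K))).index ≠ 1 := by
      intro h1
      apply hgbar
      rw [index_eq_one] at h1
      rw [mem_center_iff]
      intro a
      have ha : a ∈ centralizer ({QuotientGroup.mk' K g} : Set (G ⧸ K)) := h1 ▸ mem_top a
      exact (mem_centralizer_singleton_iff.mp ha)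
    have hd := index_centralizer_map_dvd (QuotientGroup.mk' K) hf g
    have hHpr : H.index.Prime := by
      rcases h g with h1 | h1
      · exfalso; rw [h1] at hd; exact hZne (Nat.dvd_one.mp hd)
      · exact h1
    have hZeq : (centralizer ({QuotientGroup.mk' K g} : Set (G ⧸ K))).index = H.index :=
      ((Nat.dvd_prime hHpr).mp hd).resolve_left hZne
    have h1 : (H.map (QuotientGroup.mk' K)) ≤ centralizer ({QuotientGroup.mk' K g} : Set (G ⧸ K)) := by
      rintro _ ⟨a, ha, rfl⟩
      rw [SetLike.mem_coe, mem_centralizer_singleton_iff] at ha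
      rw [mem_centralizer_singleton_iff, ← map_mul, ← map_mul, ha]
    have h2 : H.index ∣ (H.map (QuotientGroup.mk' K)).index := hZeq ▸ index_dvd_of_le h1
    have h3 : (H.map (QuotientGroup.mk' K)).index = H.index :=
      Nat.dvd_antisymm (index_map_dvd H hf) h2
    rw [index_map, QuotientGroup.ker_mk', (QuotientGroup.mk' K).range_eq_top_of_surjective hf,
      index_top, mul_one] at h3
    have h4 := relIndex_mul_index (le_sup_left : H ≤ H ⊔ K)
    rw [h3] at h4
    have h5 : H.relIndex (H ⊔ K) = 1 :=
      Nat.eq_of_mul_eq_mul_right hHpr.pos (by rw [h4, one_mul])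
    exact le_sup_right.trans (relIndex_eq_one.mp h5)
  -- (10)
  have hKtop : ∃ g0 : G, g0 ∉ K := by
    by_contra hcon
    push Not at hcon
    apply hab
    intro a b
    obtain ⟨a, rfl⟩ := hf a
    obtain ⟨b, rfl⟩ := hf b
    have ha : QuotientGroup.mk' K a = 1 := (QuotientGroup.eq_one_iff a).mpr (hcon a)
    have hb : QuotientGroup.mk' K b = 1 := (QuotientGroup.eq_one_iff b).mpr (hcon b)
    rw [ha, hb]
  obtain ⟨g0, hg0⟩ := hKtop
  have hKZ : K ≤ center G := by
    intro k hk
    rw [mem_center_iff]
    intro g
    by_cases hg : g ∈ K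
    · have hgg0 : g * g0 ∉ K := by
        intro h1
        apply hg0
        have := K.mul_mem (K.inv_mem hg) h1
        simpa using this
      have e1 : k * g0 = g0 * k := mem_centralizer_singleton_iff.mp (hKcent g0 hg0 hk)
      have e2 : k * (g * g0) = g * g0 * k := mem_centralizer_singleton_iff.mp (hKcent _ hgg0 hk)
      have e3 : g * k * g0 = k * g * g0 := by
        rw [mul_assoc g k g0, e1, ← mul_assoc, ← e2, mul_assoc]
      exact mul_right_cancel e3
    · exact (mem_centralizer_singleton_iff.mp (hKcent g hg hk)).symm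
  have hK : K = center G := le_antisymm hKZ hZK
  obtain ⟨h1, h2⟩ := transport_center K hK p q hcard hab
  exact ⟨p, q, hCp, hq, hpq, h1, h2⟩

/-- Let `G` be a finite group every conjugacy class of which has size 1 or a prime. Then either `G` is nilpotent of class at most 2, or `G/Z(G)` is a non-abelian group of order `pq` for distinct primes `p, q` (a Frobenius group of order `pq`). -/
theorem result {G : Type*} [Group G] [Finite G]
    (h : ∀ x : G, (Subgroup.centralizer ({x} : Set G)).index = 1 ∨ ((Subgroup.centralizer ({x} : Set G)).index).Prime) :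
    Subgroup.upperCentralSeries G 2 = ⊤ ∨
      ∃ p q : ℕ, p.Prime ∧ q.Prime ∧ p ≠ q ∧ Nat.card (G ⧸ Subgroup.center G) = p * q ∧ ¬ IsMulCommutative (G ⧸ Subgroup.center G) := by
  by_cases hall : ∀ x : G, (centralizer ({x} : Set G)).Normal
  · left
    exact ucs_two_eq_top_of_normal h hall
  · right
    push Not at hall
    obtain ⟨x, hx⟩ := hall
    set C := centralizer ({x} : Set G) with hC
    have hCp : C.index.Prime := by
      rcases h x with h1 | hp
      · exfalso
        apply hx
        rw [index_eq_one] at h1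
        rw [hC, h1]
        infer_instance
      · exact hp
    have hKC : (MulAction.toPermHom G (G ⧸ C)).ker ≤ C := by
      intro k hk
      rw [MonoidHom.mem_ker] at hk
      have h1 := congrArg (fun f : Equiv.Perm (G ⧸ C) => f (QuotientGroup.mk 1 : G ⧸ C)) hk
      simp only [MulAction.toPermHom_apply, MulAction.toPerm_apply, Equiv.Perm.one_apply] at h1
      rw [MulAction.Quotient.smul_mk, smul_eq_mul, mul_one, QuotientGroup.eq] at h1
      have := C.inv_mem h1
      simpa using this
    have hZK : center G ≤ (MulAction.toPermHom G (G ⧸ C)).ker := by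
      intro z hz
      rw [MonoidHom.mem_ker]
      apply Equiv.ext
      intro c
      induction c using QuotientGroup.induction_on with
      | H g =>
        simp only [MulAction.toPermHom_apply, MulAction.toPerm_apply, Equiv.Perm.one_apply]
        rw [MulAction.Quotient.smul_mk, smul_eq_mul, QuotientGroup.eq]
        have hzC : z ∈ C := by
          rw [hC, mem_centralizer_singleton_iff]
          exact (mem_center_iff.mp hz x).symm
        have e : (z * g)⁻¹ * g = z⁻¹ := by
          rw [← mem_center_iff.mp hz g]; group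
        rw [e]
        exact C.inv_mem hzC
    exact case_two_aux h C hCp hx (MulAction.toPermHom G (G ⧸ C)).ker hKC hZK
      (QuotientGroup.kerLift (MulAction.toPermHom G (G ⧸ C)))
      (QuotientGroup.kerLift_injective (MulAction.toPermHom G (G ⧸ C)))

end Cfsg.Agent.S4314
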