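import Cfsg.Statements.S4320
import Mathlib

set_option autoImplicit false
set_option linter.unusedSectionVars false
open Cfsg

namespace Cfsg.Agent.S4320

open scoped commutatorElement

universe u v

section defs

variable (G : Type u) [Group G] {M : Type v} [CommGroup M]

/-- A section of the projection `G → G / G'`. -/
noncomputable def sec : Abelianization G → G := fun x => Quotient.out x

theorem of_sec (x : Abelianization G) : Abelianization.of (sec G x) = x :=
  QuotientGroup.out_eq' x

theorem cc_mem (g : G) (x : Abelianization G) :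
    (sec G x)⁻¹ * g * sec G ((Abelianization.of g)⁻¹ * x) ∈ commutator G := by
  rw [← Abelianization.ker_of G, MonoidHom.mem_ker]
  simp only [map_mul, map_inv, of_sec]
  group

/-- The Kaloujnine-Krasner cocycle. -/
noncomputable def cc (g : G) (x : Abelianization G) : ↥(commutator G) :=
  ⟨(sec G x)⁻¹ * g * sec G ((Abelianization.of g)⁻¹ * x), cc_mem G g x⟩

theorem cc_mul (g g' : G) (x : Abelianization G) :
    cc G (g * g') x = cc G g x * cc G g' ((Abelianization.of g)⁻¹ * x) := by
  apply Subtype.ext
  simp only [cc, Subgroup.coe_mul, map_mul, mul_inv_rev]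
  rw [show (Abelianization.of g')⁻¹ * (Abelianization.of g)⁻¹ * x =
    (Abelianization.of g')⁻¹ * ((Abelianization.of g)⁻¹ * x) from mul_assoc _ _ _]
  group

end defs

section transfer

variable {G : Type u} [Group G] [Finite G] {M : Type v} [CommGroup M]
  (φ : ↥(commutator G) →* M)

theorem transfer_eq_prod [Fintype (Abelianization G)] (g : G) :
    MonoidHom.transfer φ g = ∏ x : Abelianization G, φ (cc G g x) := by
  obtain ⟨f, hf⟩ : ∃ f : G ⧸ commutator G → G, ∀ q, f q = sec G q := ⟨fun q => sec G q, fun _ => rfl⟩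
  have hT : ∀ q : G ⧸ commutator G, ((f q : G) : G ⧸ commutator G) = q :=
    fun q => (hf q).symm ▸ QuotientGroup.out_eq' q
  rw [MonoidHom.transfer_def φ
    ⟨Set.range f, Subgroup.isComplement_range_left hT⟩ g]
  unfold Subgroup.leftTransversals.diff
  simp only
  refine @Fintype.prod_equiv (G ⧸ commutator G) (Abelianization G) M
    (commutator G).fintypeQuotientOfFiniteIndex _ _ (Equiv.refl _) _ _ (fun x => ?_)
  refine congrArg φ (Subtype.ext ?_)
  simp only [cc]
  rw [Subgroup.smul_apply_eq_smul_apply_inv_smul,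
    Subgroup.IsComplement.leftQuotientEquiv_apply hT,
    Subgroup.IsComplement.leftQuotientEquiv_apply hT, smul_eq_mul, mul_assoc, hf, hf]
  have h1 : ∀ x' : G ⧸ commutator G, (g⁻¹ • x' : G ⧸ commutator G) =
      ((Abelianization.of g)⁻¹ * (id x' : Abelianization G) : Abelianization G) := by
    intro x'
    induction x' using QuotientGroup.induction_on with
    | H y => rfl
  rw [h1 x]
  rfl

end transfer

section derivation

variable (G : Type u) [Group G] {M : Type v} [CommGroup M]
  (φ : ↥(commutator G) →* M)

/-- The module of functions `G / G' → M` (additively). -/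
abbrev PP (G : Type u) [Group G] (M : Type v) [CommGroup M] : Type (max u v) :=
  Abelianization G → Additive M

/-- The left regular action on functions. -/
def shift (M : Type v) [CommGroup M] : Abelianization G →* Module.End ℤ (PP G M) where
  toFun y :=
    { toFun := fun κ x => κ (y⁻¹ * x)
      map_add' := fun _ _ => rfl
      map_smul' := fun _ _ => rfl }
  map_one' := by
    ext κ x
    simp
  map_mul' y y' := by
    ext κ x
    simp [mul_assoc]

theorem shift_apply (y : Abelianization G) (κ : PP G M) (x : Abelianization G) :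
    shift G M y κ x = κ (y⁻¹ * x) := rfl

/-- The group ring of `G / G'`. -/
abbrev RR (G : Type u) [Group G] : Type u := MonoidAlgebra ℤ (Abelianization G)

/-- The action of the group ring on functions. -/
noncomputable def rho (M : Type v) [CommGroup M] : RR G →ₐ[ℤ] Module.End ℤ (PP G M) :=
  MonoidAlgebra.lift ℤ (Module.End ℤ (PP G M)) (Abelianization G) (shift G M)

theorem rho_of (y : Abelianization G) :
    rho G M (MonoidAlgebra.of ℤ (Abelianization G) y) = shift G M y := by
  unfold rho
  rw [MonoidAlgebra.lift_of]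

/-- The derivation `G → Map(G / G', M)`. -/
noncomputable def dd (g : G) : PP G M := fun x => Additive.ofMul (φ (cc G g x))

theorem dd_mul (g g' : G) :
    dd G φ (g * g') = dd G φ g + shift G M (Abelianization.of g) (dd G φ g') := by
  funext x
  simp only [dd, Pi.add_apply, shift_apply, cc_mul, map_mul, ofMul_mul]

theorem dd_one : dd G φ 1 = 0 := by
  have h := dd_mul G φ 1 1
  simp only [mul_one, map_one] at h
  have h2 : dd G φ 1 + dd G φ 1 = dd G φ 1 + 0 := by rw [add_zero]; exact h.symm
  exact add_left_cancel h2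

theorem dd_inv (g : G) :
    dd G φ g⁻¹ = - shift G M (Abelianization.of g)⁻¹ (dd G φ g) := by
  have h := dd_mul G φ g⁻¹ g
  rw [inv_mul_cancel, dd_one, map_inv] at h
  exact eq_neg_of_add_eq_zero_left h.symm

theorem dd_commutator (a b : G) :
    dd G φ ⁅a, b⁆ = dd G φ a + shift G M (Abelianization.of a) (dd G φ b)
      - shift G M (Abelianization.of b) (dd G φ a) - dd G φ b := by
  rw [commutatorElement_def, dd_mul, dd_mul, dd_mul, dd_inv, dd_inv]
  simp only [map_neg]
  rw [← Module.End.mul_apply, ← Module.End.mul_apply, ← (shift G M).map_mul,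
    ← (shift G M).map_mul]
  have h1 : Abelianization.of (a * b) * (Abelianization.of a)⁻¹ = Abelianization.of b := by
    rw [map_mul, mul_comm (Abelianization.of a), mul_inv_cancel_right]
  have h2 : Abelianization.of (a * b * a⁻¹) * (Abelianization.of b)⁻¹ = 1 := by
    rw [map_mul, map_inv, h1, mul_inv_cancel]
  rw [h2, h1, map_one, Module.End.one_apply]
  abel

theorem dd_pow (g : G) (n : ℕ) :
    dd G φ (g ^ n) = ∑ k ∈ Finset.range n, shift G M (Abelianization.of g ^ k) (dd G φ g) := by
  induction n with
  | zero => simp [dd_one]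
  | succ n ih =>
    rw [pow_succ, dd_mul, ih, Finset.sum_range_succ, map_pow]

theorem dd_pow' (g : G) (n : ℕ) :
    dd G φ (g ^ n) = rho G M (∑ k ∈ Finset.range n,
      MonoidAlgebra.of ℤ (Abelianization G) (Abelianization.of g) ^ k) (dd G φ g) := by
  rw [dd_pow, map_sum, LinearMap.sum_apply]
  refine Finset.sum_congr rfl (fun k _ => ?_)
  rw [← (MonoidAlgebra.of ℤ (Abelianization G)).map_pow, rho_of]

theorem dd_of_mem_commutator_mul (a a' : G) (ha : a ∈ commutator G) :
    dd G φ (a * a') = dd G φ a + dd G φ a' := by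
  rw [dd_mul]
  have : Abelianization.of a = 1 := by
    rw [← MonoidHom.mem_ker, Abelianization.ker_of]; exact ha
  rw [this, map_one, Module.End.one_apply]

theorem dd_of_mem_commutator_inv (a : G) (ha : a ∈ commutator G) :
    dd G φ a⁻¹ = - dd G φ a := by
  rw [dd_inv]
  have : Abelianization.of a = 1 := by
    rw [← MonoidHom.mem_ker, Abelianization.ker_of]; exact ha
  rw [this, inv_one, map_one, Module.End.one_apply]

end derivation

section tracking

variable (G : Type u) [Group G] {M : Type v} [CommGroup M]
  (φ : ↥(commutator G) →* M) {J : Type*} [Fintype J] [DecidableEq J] (gen : J → G)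

/-- Evaluation of a formal combination of the `d (gen j)`. -/
noncomputable def ev (v : J → RR G) : PP G M := ∑ j, rho G M (v j) (dd G φ (gen j))

/-- The "boundary" of a formal combination. -/
noncomputable def bd (v : J → RR G) : RR G :=
  ∑ j, v j * (MonoidAlgebra.of ℤ (Abelianization G) (Abelianization.of (gen j)) - 1)

theorem ev_zero : ev G φ gen (0 : J → RR G) = 0 := by
  simp [ev]

theorem ev_add (v w : J → RR G) : ev G φ gen (v + w) = ev G φ gen v + ev G φ gen w := by
  simp [ev, Finset.sum_add_distrib]

theorem ev_neg (v : J → RR G) : ev G φ gen (-v) = - ev G φ gen v := by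
  simp [ev]

theorem ev_sub (v w : J → RR G) : ev G φ gen (v - w) = ev G φ gen v - ev G φ gen w := by
  simp [ev, Finset.sum_sub_distrib]

theorem ev_smul (r : RR G) (v : J → RR G) :
    ev G φ gen (fun j => r * v j) = rho G M r (ev G φ gen v) := by
  simp [ev, map_sum, Module.End.mul_apply]

theorem ev_single (j : J) (r : RR G) :
    ev G φ gen (Pi.single j r) = rho G M r (dd G φ (gen j)) := by
  unfold ev
  rw [Finset.sum_eq_single j]
  · rw [Pi.single_eq_same]
  · intro i _ hij
    rw [Pi.single_eq_of_ne hij, map_zero, LinearMap.zero_apply]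
  · intro h; exact absurd (Finset.mem_univ j) h

theorem bd_zero : bd G gen (0 : J → RR G) = 0 := by
  simp [bd]

theorem bd_add (v w : J → RR G) : bd G gen (v + w) = bd G gen v + bd G gen w := by
  simp [bd, Finset.sum_add_distrib, add_mul]

theorem bd_neg (v : J → RR G) : bd G gen (-v) = - bd G gen v := by
  simp [bd]

theorem bd_sub (v w : J → RR G) : bd G gen (v - w) = bd G gen v - bd G gen w := by
  simp [bd, Finset.sum_sub_distrib, sub_mul]

theorem bd_smul (r : RR G) (v : J → RR G) :
    bd G gen (fun j => r * v j) = r * bd G gen v := by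
  simp [bd, Finset.mul_sum, mul_assoc]

theorem bd_single (j : J) (r : RR G) :
    bd G gen (Pi.single j r) =
      r * (MonoidAlgebra.of ℤ (Abelianization G) (Abelianization.of (gen j)) - 1) := by
  unfold bd
  rw [Finset.sum_eq_single j]
  · rw [Pi.single_eq_same]
  · intro i _ hij
    rw [Pi.single_eq_of_ne hij, zero_mul]
  · intro h; exact absurd (Finset.mem_univ j) h

/-- Every element of the subgroup generated by the `gen j` has a tracked representation. -/
theorem track_closure (g : G) (hg : g ∈ Subgroup.closure (Set.range gen)) :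
    ∃ v : J → RR G, ev G φ gen v = dd G φ g ∧
      bd G gen v = MonoidAlgebra.of ℤ (Abelianization G) (Abelianization.of g) - 1 := by
  induction hg using Subgroup.closure_induction with
  | mem x hx =>
    obtain ⟨j, rfl⟩ := hx
    refine ⟨Pi.single j 1, ?_, ?_⟩
    · rw [ev_single, map_one, Module.End.one_apply]
    · rw [bd_single, one_mul]
  | one =>
    refine ⟨0, ?_, ?_⟩
    · rw [ev_zero, dd_one]
    · rw [bd_zero, map_one, map_one, sub_self]
  | mul x y _ _ hx hy =>
    obtain ⟨v, hv1, hv2⟩ := hx
    obtain ⟨w, hw1, hw2⟩ := hy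
    refine ⟨v + fun j => MonoidAlgebra.of ℤ (Abelianization G) (Abelianization.of x) * w j,
      ?_, ?_⟩
    · rw [ev_add, ev_smul, hv1, hw1, dd_mul, rho_of]
    · rw [bd_add, bd_smul, hv2, hw2, map_mul, map_mul]
      ring
  | inv x _ hx =>
    obtain ⟨v, hv1, hv2⟩ := hx
    refine ⟨- fun j => MonoidAlgebra.of ℤ (Abelianization G) ((Abelianization.of x)⁻¹) * v j,
      ?_, ?_⟩
    · rw [ev_neg, ev_smul, hv1, dd_inv, rho_of]
    · rw [bd_neg, bd_smul, hv2, map_inv (Abelianization.of (G := G)) x, mul_sub, mul_one,
        ← map_mul, inv_mul_cancel, map_one]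
      ring

/-- The augmentation map. -/
noncomputable def aug (G : Type u) [Group G] : RR G →ₐ[ℤ] ℤ :=
  MonoidAlgebra.lift ℤ ℤ (Abelianization G) 1

theorem aug_of (y : Abelianization G) :
    aug G (MonoidAlgebra.of ℤ (Abelianization G) y) = 1 := by
  unfold aug
  rw [MonoidAlgebra.lift_of]
  rfl

/-- Elements of the commutator subgroup have tracked representations with vanishing boundary and
augmentation. -/
theorem track_commutator (hgen : Subgroup.closure (Set.range gen) = ⊤) (a : G)
    (ha : a ∈ commutator G) :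
    ∃ v : J → RR G, ev G φ gen v = dd G φ a ∧ bd G gen v = 0 ∧ ∀ j, aug G (v j) = 0 := by
  rw [commutator_eq_closure] at ha
  induction ha using Subgroup.closure_induction with
  | mem x hx =>
    obtain ⟨a, b, rfl⟩ := hx
    obtain ⟨v, hv1, hv2⟩ := track_closure G φ gen a (by rw [hgen]; exact Subgroup.mem_top a)
    obtain ⟨w, hw1, hw2⟩ := track_closure G φ gen b (by rw [hgen]; exact Subgroup.mem_top b)
    refine ⟨v + (fun j => MonoidAlgebra.of ℤ (Abelianization G) (Abelianization.of a) * w j)
      - (fun j => MonoidAlgebra.of ℤ (Abelianization G) (Abelianization.of b) * v j) - w,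
      ?_, ?_, ?_⟩
    · rw [ev_sub, ev_sub, ev_add, ev_smul, ev_smul, hv1, hw1, dd_commutator, rho_of, rho_of]
    · rw [bd_sub, bd_sub, bd_add, bd_smul, bd_smul, hv2, hw2]
      ring
    · intro j
      simp only [Pi.sub_apply, Pi.add_apply, map_sub, map_add, map_mul, aug_of]
      ring
  | one =>
    refine ⟨0, ?_, ?_, ?_⟩
    · rw [ev_zero, dd_one]
    · rw [bd_zero]
    · intro j; simp
  | mul x y hx _ ihx ihy =>
    obtain ⟨v, hv1, hv2, hv3⟩ := ihx
    obtain ⟨w, hw1, hw2, hw3⟩ := ihy
    rw [← commutator_eq_closure] at hx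
    refine ⟨v + w, ?_, ?_, ?_⟩
    · rw [ev_add, hv1, hw1, dd_of_mem_commutator_mul G φ x y hx]
    · rw [bd_add, hv2, hw2, add_zero]
    · intro j; simp [hv3 j, hw3 j]
  | inv x hx ihx =>
    obtain ⟨v, hv1, hv2, hv3⟩ := ihx
    rw [← commutator_eq_closure] at hx
    refine ⟨-v, ?_, ?_, ?_⟩
    · rw [ev_neg, hv1, dd_of_mem_commutator_inv G φ x hx]
    · rw [bd_neg, hv2, neg_zero]
    · intro j; simp [hv3 j]

end tracking

section cramer

theorem cramer_mod {R : Type*} [CommRing R] {P : Type*} [AddCommGroup P]
    (ρ : R →+* Module.End ℤ P) {J : Type*} [Fintype J] [DecidableEq J]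
    (B : Matrix J J R) (w : J → P) (h : ∀ j, ∑ i, ρ (B j i) (w i) = 0) (k : J) :
    ρ B.det (w k) = 0 := by
  have h1 : ∀ i, (B.det • (1 : Matrix J J R)) k i = ∑ j, B.adjugate k j * B j i := by
    intro i
    rw [← Matrix.adjugate_mul, Matrix.mul_apply]
  have h2 : ρ B.det (w k) = ∑ i, ρ ((B.det • (1 : Matrix J J R)) k i) (w i) := by
    rw [Finset.sum_eq_single k]
    · simp
    · intro i _ hik
      simp [Matrix.one_apply_ne' hik]
    · intro h; exact absurd (Finset.mem_univ k) h
  rw [h2]
  simp_rw [h1, map_sum, map_mul, LinearMap.sum_apply, Module.End.mul_apply]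
  rw [Finset.sum_comm]
  simp_rw [← map_sum, h]
  simp

theorem cramer_ring {R : Type*} [CommRing R] {J : Type*} [Fintype J] [DecidableEq J]
    (B : Matrix J J R) (w : J → R) (h : ∀ j, ∑ i, B j i * w i = 0) (k : J) :
    B.det * w k = 0 := by
  have h0 : B.mulVec w = 0 := by
    funext j
    simpa [Matrix.mulVec, dotProduct] using h j
  have h1 : (B.adjugate * B).mulVec w = 0 := by
    rw [← Matrix.mulVec_mulVec, h0, Matrix.mulVec_zero]
  rw [Matrix.adjugate_mul, Matrix.smul_mulVec, Matrix.one_mulVec] at h1
  have := congrFun h1 k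
  simpa using this

end cramer

section groupring

variable (G : Type u) [Group G] {M : Type v} [CommGroup M]

theorem coeff_const (r : RR G) (S : Set (Abelianization G)) (hS : Subgroup.closure S = ⊤)
    (h : ∀ y ∈ S, MonoidAlgebra.of ℤ (Abelianization G) y * r = r) (x : Abelianization G) :
    r.coeff x = r.coeff 1 := by
  have hK : ∀ y : Abelianization G, MonoidAlgebra.of ℤ (Abelianization G) y * r = r := by
    intro y
    have hy : y ∈ Subgroup.closure S := by rw [hS]; exact Subgroup.mem_top y
    induction hy using Subgroup.closure_induction with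
    | mem y hy => exact h y hy
    | one => rw [map_one, one_mul]
    | mul y z _ _ hy hz => rw [map_mul, mul_assoc, hz, hy]
    | inv y _ hy =>
      calc MonoidAlgebra.of ℤ (Abelianization G) y⁻¹ * r
          = MonoidAlgebra.of ℤ (Abelianization G) y⁻¹ *
              (MonoidAlgebra.of ℤ (Abelianization G) y * r) := by rw [hy]
        _ = r := by rw [← mul_assoc, ← map_mul, inv_mul_cancel, map_one, one_mul]
  have h1 := congrArg (fun f => f.coeff x) (hK x)
  simp only [MonoidAlgebra.of_apply, MonoidAlgebra.coeff_single_mul_apply, inv_mul_cancel,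
    one_mul] at h1
  exact h1.symm

theorem aug_eq_sum [Fintype (Abelianization G)] (r : RR G) :
    aug G r = ∑ x : Abelianization G, r.coeff x := by
  unfold aug
  rw [MonoidAlgebra.lift_apply, Finsupp.sum_fintype]
  · simp
  · intro i; simp

theorem rho_apply [Fintype (Abelianization G)] (r : RR G) (κ : PP G M) (x : Abelianization G) :
    rho G M r κ x = ∑ y : Abelianization G, r.coeff y • κ (y⁻¹ * x) := by
  unfold rho
  rw [MonoidAlgebra.lift_apply, Finsupp.sum_fintype]
  · simp only [LinearMap.sum_apply, LinearMap.smul_apply, Finset.sum_apply, Pi.smul_apply,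
      shift_apply]
  · intro i; simp

end groupring

section key

variable {G : Type u} [Group G] [Finite G] {M : Type v} [CommGroup M]
  (φ : ↥(commutator G) →* M)

theorem key {J : Type*} [Fintype J] [DecidableEq J] (gen : J → G) (e : J → ℕ)
    (hgen : Subgroup.closure (Set.range gen) = ⊤)
    (hpow : ∀ j, gen j ^ e j ∈ commutator G)
    (hprod : ∏ j, e j = Nat.card (Abelianization G)) :
    MonoidHom.transfer φ = 1 := by
  classical
  haveI : Fintype (Abelianization G) := Fintype.ofFinite _
  choose v hv1 hv2 hv3 using fun j => track_commutator G φ gen hgen (gen j ^ e j) (hpow j)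
  obtain ⟨Nj, hNj⟩ : ∃ Nj : J → RR G, ∀ j, Nj j = ∑ k ∈ Finset.range (e j),
      MonoidAlgebra.of ℤ (Abelianization G) (Abelianization.of (gen j)) ^ k := ⟨_, fun _ => rfl⟩
  obtain ⟨B, hB⟩ : ∃ B : Matrix J J (RR G), ∀ j i, B j i =
      ((Pi.single j (Nj j) - v j : J → RR G)) i :=
    ⟨fun j i => ((Pi.single j (Nj j) - v j : J → RR G)) i, fun _ _ => rfl⟩
  have hB1 : ∀ j, ∑ i, rho G M (B j i) (dd G φ (gen i)) = 0 := by
    intro j
    have h1 : ∑ i, rho G M (B j i) (dd G φ (gen i)) =
        ev G φ gen (Pi.single j (Nj j) - v j) := by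
      unfold ev
      refine Finset.sum_congr rfl (fun i _ => ?_)
      rw [hB]
    rw [h1, ev_sub, ev_single, hv1, dd_pow', hNj, sub_self]
  have hB2 : ∀ j, ∑ i, B j i *
      (MonoidAlgebra.of ℤ (Abelianization G) (Abelianization.of (gen i)) - 1) = 0 := by
    intro j
    have h1 : ∑ i, B j i *
        (MonoidAlgebra.of ℤ (Abelianization G) (Abelianization.of (gen i)) - 1) =
        bd G gen (Pi.single j (Nj j) - v j) := by
      unfold bd
      refine Finset.sum_congr rfl (fun i _ => ?_)
      rw [hB]
    rw [h1, bd_sub, bd_single, hv2, sub_zero, hNj, geom_sum_mul,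
      ← (MonoidAlgebra.of ℤ (Abelianization G)).map_pow, ← map_pow]
    have h2 : Abelianization.of (gen j ^ e j) = 1 := by
      rw [← MonoidHom.mem_ker, Abelianization.ker_of]; exact hpow j
    rw [h2, map_one, sub_self]
  have hdet1 : ∀ k, rho G M B.det (dd G φ (gen k)) = 0 :=
    cramer_mod (rho G M : RR G →+* Module.End ℤ (PP G M)) B _ hB1
  have hdet2 : ∀ k, B.det *
      (MonoidAlgebra.of ℤ (Abelianization G) (Abelianization.of (gen k)) - 1) = 0 :=
    cramer_ring B _ hB2
  have hconst : ∀ x, B.det.coeff x = B.det.coeff 1 := by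
    apply coeff_const G B.det (Set.range (fun j => Abelianization.of (gen j)))
    · have h1 := congrArg (Subgroup.map (Abelianization.of (G := G))) hgen
      rw [MonoidHom.map_closure, Subgroup.map_top_of_surjective] at h1
      · rw [← h1, ← Set.range_comp]; rfl
      · exact QuotientGroup.mk_surjective
    · rintro _ ⟨k, rfl⟩
      have h1 := hdet2 k
      rw [mul_sub, mul_one, sub_eq_zero, mul_comm] at h1
      exact h1
  have haug : aug G B.det = (Nat.card (Abelianization G) : ℤ) := by
    rw [AlgHom.map_det]
    have h1 : (aug G).mapMatrix B = Matrix.diagonal (fun j => (e j : ℤ)) := by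
      ext j i
      rw [AlgHom.mapMatrix_apply, Matrix.map_apply, hB, Pi.sub_apply, map_sub, hv3, sub_zero]
      by_cases hji : i = j
      · subst hji
        rw [Pi.single_eq_same, Matrix.diagonal_apply_eq, hNj, map_sum]
        simp only [map_pow, aug_of, one_pow, Finset.sum_const, Finset.card_range, nsmul_eq_mul,
          mul_one]
      · rw [Pi.single_eq_of_ne hji, map_zero, Matrix.diagonal_apply_ne _ (Ne.symm hji)]
    rw [h1, Matrix.det_diagonal, ← hprod]
    push_cast
    rfl
  have hone : B.det.coeff 1 = 1 := by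
    rw [aug_eq_sum] at haug
    simp_rw [hconst] at haug
    rw [Finset.sum_const, Finset.card_univ, nsmul_eq_mul, ← Nat.card_eq_fintype_card] at haug
    have hpos : (Nat.card (Abelianization G) : ℤ) ≠ 0 := by exact_mod_cast Nat.card_pos.ne'
    exact mul_left_cancel₀ hpos (by rw [haug, mul_one])
  apply MonoidHom.eq_of_eqOn_dense hgen
  rintro _ ⟨k, rfl⟩
  rw [MonoidHom.one_apply, transfer_eq_prod]
  have h1 := congrFun (hdet1 k) 1
  rw [rho_apply] at h1
  simp_rw [hconst, hone, one_smul, mul_one] at h1
  rw [Pi.zero_apply] at h1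
  have h2 : ∑ y : Abelianization G, dd G φ (gen k) y⁻¹ = ∑ y, dd G φ (gen k) y :=
    Equiv.sum_comp (Equiv.inv (Abelianization G)) _
  rw [h2] at h1
  unfold dd at h1
  rw [← ofMul_prod] at h1
  exact h1

end key

section final

variable {G : Type u} [Group G] [Finite G] {M : Type v} [CommGroup M]
  (φ : ↥(commutator G) →* M)

/-- The transfer of a finite group into any abelian quotient of its commutator subgroup is
trivial. -/
theorem transfer_commutator_eq_one : MonoidHom.transfer φ = 1 := by
  classical
  obtain ⟨ι, hι, n, hn, ⟨ψ⟩⟩ :=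
    CommGroup.equiv_prod_multiplicative_zmod_of_finite (Abelianization G)
  haveI : Fintype ι := hι
  haveI : Fintype ↥(commutator G) := Fintype.ofFinite _
  obtain ⟨xx, hxx⟩ : ∃ xx : ι → Abelianization G, ∀ i,
      xx i = ψ.symm (Pi.mulSingle i (Multiplicative.ofAdd (1 : ZMod (n i)))) := ⟨_, fun _ => rfl⟩
  obtain ⟨gen, hgen1, hgen2⟩ : ∃ gen : ι ⊕ ↥(commutator G) → G,
      (∀ i, gen (Sum.inl i) = sec G (xx i)) ∧ (∀ a, gen (Sum.inr a) = (a : G)) :=
    ⟨Sum.elim (fun i => sec G (xx i)) (fun a => (a : G)), fun _ => rfl, fun _ => rfl⟩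
  obtain ⟨e, he1, he2⟩ : ∃ e : ι ⊕ ↥(commutator G) → ℕ,
      (∀ i, e (Sum.inl i) = n i) ∧ (∀ a, e (Sum.inr a) = 1) :=
    ⟨Sum.elim n (fun _ => 1), fun _ => rfl, fun _ => rfl⟩
  have hxpow : ∀ i, xx i ^ n i = 1 := by
    intro i
    rw [hxx, ← map_pow]
    have h1 : (Pi.mulSingle i (Multiplicative.ofAdd (1 : ZMod (n i))) :
        (i : ι) → Multiplicative (ZMod (n i))) ^ n i = 1 := by
      have h2 : (Pi.mulSingle i (Multiplicative.ofAdd (1 : ZMod (n i))) :
          (i : ι) → Multiplicative (ZMod (n i))) =
          MonoidHom.mulSingle (fun i => Multiplicative (ZMod (n i))) i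
            (Multiplicative.ofAdd (1 : ZMod (n i))) := rfl
      rw [h2, ← map_pow, ← ofAdd_nsmul, nsmul_eq_mul, mul_one, ZMod.natCast_self, ofAdd_zero,
        map_one]
    rw [h1, map_one]
  apply key φ gen e
  · -- generation
    obtain ⟨K, hK⟩ : ∃ K : Subgroup G, K = Subgroup.closure (Set.range gen) := ⟨_, rfl⟩
    rw [← hK]
    have hcK : commutator G ≤ K := by
      intro a ha
      rw [hK]
      apply Subgroup.subset_closure
      exact ⟨Sum.inr ⟨a, ha⟩, hgen2 _⟩
    have hxK : ∀ i, xx i ∈ K.map (Abelianization.of (G := G)) := by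
      intro i
      refine ⟨gen (Sum.inl i), ?_, ?_⟩
      · rw [hK]; exact Subgroup.subset_closure ⟨_, rfl⟩
      · rw [hgen1, of_sec]
    have hall : ∀ y : (i : ι) → Multiplicative (ZMod (n i)),
        y ∈ (K.map (Abelianization.of (G := G))).comap ψ.symm.toMonoidHom := by
      intro y
      apply Subgroup.pi_mem_of_mulSingle_mem
      intro i
      rw [Subgroup.mem_comap]
      have h1 : Pi.mulSingle i (y i) =
          (Pi.mulSingle i (Multiplicative.ofAdd (1 : ZMod (n i))) :
            (i : ι) → Multiplicative (ZMod (n i))) ^ (ZMod.cast (Multiplicative.toAdd (y i)) : ℤ) := by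
        have h2 : ∀ z : Multiplicative (ZMod (n i)),
            (Pi.mulSingle i z : (i : ι) → Multiplicative (ZMod (n i))) =
            MonoidHom.mulSingle (fun i => Multiplicative (ZMod (n i))) i z := fun _ => rfl
        rw [h2, h2, ← map_zpow, ← ofAdd_zsmul, zsmul_eq_mul, mul_one, ZMod.intCast_zmod_cast]
        rfl
      rw [h1]
      simp only [MulEquiv.toMonoidHom_eq_coe, MonoidHom.coe_coe, map_zpow]
      rw [← hxx]
      exact Subgroup.zpow_mem _ (hxK i) _
    rw [eq_top_iff]
    intro g _
    have h1 := hall (ψ (Abelianization.of g))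
    rw [Subgroup.mem_comap] at h1
    simp only [MulEquiv.toMonoidHom_eq_coe, MonoidHom.coe_coe, MulEquiv.symm_apply_apply] at h1
    obtain ⟨k, hk, hkg⟩ := h1
    have h2 : k⁻¹ * g ∈ commutator G := by
      rw [← Abelianization.ker_of G, MonoidHom.mem_ker, map_mul, map_inv, hkg, inv_mul_cancel]
    have h3 : g = k * (k⁻¹ * g) := by group
    rw [h3]
    exact Subgroup.mul_mem _ hk (hcK h2)
  · -- powers
    rintro (i | a)
    · rw [hgen1, he1, ← Abelianization.ker_of G, MonoidHom.mem_ker, map_pow, of_sec, hxpow]
    · rw [hgen2, he2, pow_one]; exact a.2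
  · -- product of the exponents
    rw [Fintype.prod_sum_type]
    simp only [he1, he2, Finset.prod_const_one, mul_one]
    rw [Nat.card_congr ψ.toEquiv, Nat.card_pi]
    refine Finset.prod_congr rfl (fun i _ => ?_)
    rw [Nat.card_congr (Multiplicative.toAdd), Nat.card_zmod]

end final

/-- The Principal Ideal Theorem of class field theory in its group-theoretic form: for every finite group `G`, the transfer homomorphism from `G` into the abelianization `G'/G''` of its derived subgroup `G'` is the trivial homomorphism. -/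
theorem result {G : Type*} [Group G] [Finite G] :
    MonoidHom.transfer (Abelianization.of : ↥(commutator G) →* Abelianization ↥(commutator G)) =
      (1 : G →* Abelianization ↥(commutator G)) := by
  exact transfer_commutator_eq_one _

end Cfsg.Agent.S4320
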