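import Cfsg.Statements.S4321
import Cfsg.Agent.Lib.Helper30.ClassGraphA
import Cfsg.Agent.S4160
import Cfsg.Agent.S4035
import Cfsg.Agent.S0022
import Cfsg.Agent.S0058
-- import your own Cfsg.Agent.* helpers here

set_option autoImplicit false
open Cfsg

namespace Cfsg.Agent.S4321

open Cfsg.Agent.Lib.Helper30.CG
open scoped commutatorElement

variable {G : Type*} [Group G]

/-! ### basic facts on class sizes and powers -/

theorem cs_dvd_of_mem_zpowers {g u : G} (h : u ∈ Subgroup.zpowers g) : cs u ∣ cs g := by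
  apply Subgroup.index_dvd_of_le
  intro z hz
  rw [mem_centralizer_singleton] at hz ⊢
  obtain ⟨k, rfl⟩ := h
  have hc : Commute g z := hz
  exact (hc.zpow_left k).eq

theorem commute_of_mem_zpowers {g u v : G} (hu : u ∈ Subgroup.zpowers g)
    (hv : v ∈ Subgroup.zpowers g) : u * v = v * u := by
  obtain ⟨i, rfl⟩ := hu
  obtain ⟨j, rfl⟩ := hv
  exact ((Commute.refl g).zpow_zpow i j).eq

/-- `u` is a `p`-element -/
def IsP (p : ℕ) (u : G) : Prop := ∃ k : ℕ, u ^ p ^ k = 1

theorem IsP.orderOf_dvd {p : ℕ} {u : G} (h : IsP p u) : ∃ k : ℕ, orderOf u ∣ p ^ k := by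
  obtain ⟨k, hk⟩ := h
  exact ⟨k, orderOf_dvd_of_pow_eq_one hk⟩

theorem IsP.dvd_orderOf {p : ℕ} (hp : p.Prime) {u : G} (h : IsP p u) (h1 : u ≠ 1) :
    p ∣ orderOf u := by
  obtain ⟨k, hk⟩ := h.orderOf_dvd
  obtain ⟨j, _, hj⟩ := (Nat.dvd_prime_pow hp).mp hk
  rcases Nat.eq_zero_or_pos j with rfl | hjpos
  · rw [pow_zero, orderOf_eq_one_iff] at hj
    exact absurd hj h1
  · rw [hj]
    exact dvd_pow_self p hjpos.ne'

theorem IsP.coprime {p : ℕ} (hp : p.Prime) {u : G} (h : IsP p u) {m : ℕ} (hm : ¬ p ∣ m) :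
    (orderOf u).Coprime m := by
  obtain ⟨k, hk⟩ := h.orderOf_dvd
  exact (Nat.Coprime.pow_left k ((Nat.Prime.coprime_iff_not_dvd hp).mpr hm)).coprime_dvd_left hk

theorem IsP.mul {p : ℕ} {u v : G} (hu : IsP p u) (hv : IsP p v) (hc : u * v = v * u) :
    IsP p (u * v) := by
  obtain ⟨k, hk⟩ := hu
  obtain ⟨l, hl⟩ := hv
  refine ⟨k + l, ?_⟩
  have hc' : Commute u v := hc
  rw [hc'.mul_pow, pow_add, pow_mul, hk, one_pow, mul_comm (p ^ k), pow_mul, hl, one_pow, one_mul]

theorem IsP.inv {p : ℕ} {u : G} (hu : IsP p u) : IsP p u⁻¹ := by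
  obtain ⟨k, hk⟩ := hu
  exact ⟨k, by rw [inv_pow, hk, inv_one]⟩

theorem IsP.conj {p : ℕ} {u : G} (hu : IsP p u) (g : G) : IsP p (g * u * g⁻¹) := by
  obtain ⟨k, hk⟩ := hu
  exact ⟨k, by rw [conj_pow, hk, mul_one, mul_inv_cancel]⟩

theorem IsP.of_mem_sylow {p : ℕ} (P : Sylow p G) {d : G} (hd : d ∈ (P : Subgroup G)) : IsP p d := by
  obtain ⟨j, hj⟩ := P.isPGroup' ⟨d, hd⟩
  exact ⟨j, by simpa using congrArg Subtype.val hj⟩

/-- splitting an element into its `q`-part and `q'`-part -/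
theorem qsplit [Finite G] (q : ℕ) (hq : q.Prime) (g : G) :
    ∃ g₁ ∈ Subgroup.zpowers g, ∃ g₂ ∈ Subgroup.zpowers g, g = g₁ * g₂ ∧
      IsP q g₁ ∧ ¬ q ∣ orderOf g₂ := by
  set o := orderOf g with ho
  have ho0 : o ≠ 0 := (orderOf_pos g).ne'
  set k := o.factorization q with hk
  set r := o / q ^ k with hr
  have hor : q ^ k * r = o := Nat.ordProj_mul_ordCompl_eq_self o q
  have hqr : ¬ q ∣ r := Nat.not_dvd_ordCompl hq ho0
  have hcop : Nat.Coprime (q ^ k) r := Nat.Coprime.pow_left k ((Nat.Prime.coprime_iff_not_dvd hq).mpr hqr)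
  obtain ⟨a, b, hab⟩ := (Nat.isCoprime_iff_coprime.mpr hcop)
  refine ⟨g ^ (b * (r : ℤ)), ⟨_, rfl⟩, g ^ (a * ((q ^ k : ℕ) : ℤ)), ⟨_, rfl⟩, ?_, ⟨k, ?_⟩, ?_⟩
  · rw [← zpow_add, add_comm, hab, zpow_one]
  · rw [← zpow_natCast, ← zpow_mul]
    have : b * (r : ℤ) * ((q ^ k : ℕ) : ℤ) = (o : ℤ) * b := by
      rw [← hor]; push_cast; ring
    rw [this, zpow_mul, zpow_natCast, ho, pow_orderOf_eq_one, one_zpow]
  · intro hdvd
    apply hqr
    apply hdvd.trans
    apply orderOf_dvd_of_pow_eq_one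
    rw [← zpow_natCast, ← zpow_mul]
    have : a * ((q ^ k : ℕ) : ℤ) * (r : ℤ) = (o : ℤ) * a := by
      rw [← hor]; push_cast; ring
    rw [this, zpow_mul, zpow_natCast, ho, pow_orderOf_eq_one, one_zpow]

/-- for commuting elements of coprime orders, the centralizer of the product is the intersection -/
theorem centralizer_mul_le {u v : G} (hc : u * v = v * u) (hcop : (orderOf u).Coprime (orderOf v)) :
    Subgroup.centralizer ({u * v} : Set G) ≤
      Subgroup.centralizer ({u} : Set G) ⊓ Subgroup.centralizer ({v} : Set G) := by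
  have hc' : Commute u v := hc
  have hu : u ∈ Subgroup.zpowers (u * v) := by
    obtain ⟨m, hm⟩ := exists_pow_eq_self_of_coprime hcop.symm (x := u)
    refine ⟨((orderOf v * m : ℕ) : ℤ), ?_⟩
    show (u * v) ^ ((orderOf v * m : ℕ) : ℤ) = u
    rw [zpow_natCast, pow_mul, hc'.mul_pow, pow_orderOf_eq_one, mul_one]
    exact hm
  have hv : v ∈ Subgroup.zpowers (u * v) := by
    obtain ⟨m, hm⟩ := exists_pow_eq_self_of_coprime hcop (x := v)
    refine ⟨((orderOf u * m : ℕ) : ℤ), ?_⟩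
    show (u * v) ^ ((orderOf u * m : ℕ) : ℤ) = v
    rw [zpow_natCast, pow_mul, hc'.mul_pow, pow_orderOf_eq_one, one_mul]
    exact hm
  intro z hz
  rw [mem_centralizer_singleton] at hz
  have hz' : Commute (u * v) z := hz
  rw [Subgroup.mem_inf, mem_centralizer_singleton, mem_centralizer_singleton]
  constructor
  · obtain ⟨k, hk⟩ := hu
    rw [← hk]; exact (hz'.zpow_left k).eq
  · obtain ⟨k, hk⟩ := hv
    rw [← hk]; exact (hz'.zpow_left k).eq

theorem cs_dvd_mul_left {u v : G} (hc : u * v = v * u) (hcop : (orderOf u).Coprime (orderOf v)) :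
    cs u ∣ cs (u * v) :=
  Subgroup.index_dvd_of_le ((centralizer_mul_le hc hcop).trans inf_le_left)

theorem cs_dvd_mul_right {u v : G} (hc : u * v = v * u) (hcop : (orderOf u).Coprime (orderOf v)) :
    cs v ∣ cs (u * v) :=
  Subgroup.index_dvd_of_le ((centralizer_mul_le hc hcop).trans inf_le_right)

theorem dvd_orderOf_mul {p : ℕ} {u v : G} (hc : u * v = v * u)
    (hcop : (orderOf u).Coprime (orderOf v)) (hu : p ∣ orderOf u) : p ∣ orderOf (u * v) := by
  have hc' : Commute u v := hc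
  rw [hc'.orderOf_mul_eq_mul_orderOf_of_coprime hcop]
  exact hu.mul_right _

/-! ### the key lemma on products of classes of coprime size -/

theorem key1 [Finite G] (a b : G) (hab : a * b = b * a) (hcop : (cs a).Coprime (cs b))
    (h2 : (cs (a * b)).Coprime (cs b)) :
    (∀ g, g * b * g⁻¹ * b⁻¹ ∈ rstab (cl a)) ∧
      (∀ g, (g * b * g⁻¹) * b = b * (g * b * g⁻¹)) := by
  have hsub : (fun y => y * b) '' cl a ⊆ cl (a * b) := by
    rintro _ ⟨y, ⟨h, rfl⟩, rfl⟩
    have := conj_mul_conj_mem_cl b a hcop.symm h 1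
    simpa using this
  have hle : cs a ≤ cs (a * b) := by
    rw [← ncard_cl a, ← ncard_cl (a * b), ← Set.ncard_image_of_injective _ (mul_left_injective b)]
    exact Set.ncard_le_ncard hsub (Set.toFinite _)
  have hdvd := cs_mul_dvd b a hcop.symm
  have heq : cs (a * b) = cs a := by
    have h1 : cs (a * b) ∣ cs a := h2.dvd_of_dvd_mul_right hdvd
    have h3 := Nat.le_of_dvd (cs_pos a) h1
    omega
  have himg : (fun y => y * b) '' cl a = cl (a * b) := by
    apply Set.eq_of_subset_of_ncard_le hsub _ (Set.toFinite _)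
    rw [Set.ncard_image_of_injective _ (mul_left_injective b), ncard_cl, ncard_cl, heq]
  constructor
  · intro g
    apply mem_rstab_of_forall
    rintro _ ⟨h, rfl⟩
    have h1 := conj_mul_conj_mem_cl b a hcop.symm h g
    rw [← himg] at h1
    obtain ⟨y, hy, hyb⟩ := h1
    have : h * a * h⁻¹ * (g * b * g⁻¹ * b⁻¹) = y := by
      have hyb' : y * b = h * a * h⁻¹ * (g * b * g⁻¹) := hyb
      rw [eq_comm, ← mul_inv_eq_iff_eq_mul] at hyb'
      rw [← hyb']
      group
    rw [this]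
    exact hy
  · intro g
    -- `g b g⁻¹` commutes with `a`
    have h1 : (g * b * g⁻¹) * a = a * (g * b * g⁻¹) := by
      obtain ⟨u, hu, v, hv, huv⟩ := Cfsg.Agent.Lib.Helper9.exists_mul_of_coprime_index
        (Subgroup.centralizer ({a} : Set G)) (Subgroup.centralizer ({b} : Set G)) hcop g
      rw [mem_centralizer_singleton] at hu hv
      have hv' : v * b * v⁻¹ = b := by rw [← hv]; group
      have hg : g * b * g⁻¹ = u * b * u⁻¹ := by
        rw [huv]
        calc u * v * b * (u * v)⁻¹ = u * (v * b * v⁻¹) * u⁻¹ := by group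
          _ = u * b * u⁻¹ := by rw [hv']
      have hu' : u⁻¹ * a = a * u⁻¹ := by
        calc u⁻¹ * a = u⁻¹ * (a * u) * u⁻¹ := by group
          _ = u⁻¹ * (u * a) * u⁻¹ := by rw [hu]
          _ = a * u⁻¹ := by group
      rw [hg]
      calc u * b * u⁻¹ * a = u * b * (u⁻¹ * a) := by group
        _ = u * b * (a * u⁻¹) := by rw [hu']
        _ = u * (b * a) * u⁻¹ := by group
        _ = u * (a * b) * u⁻¹ := by rw [hab]
        _ = (u * a) * b * u⁻¹ := by group
        _ = (a * u) * b * u⁻¹ := by rw [hu]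
        _ = a * (u * b * u⁻¹) := by group
    -- `g b g⁻¹` commutes with `a * b`
    have h3 : (g * b * g⁻¹) * (a * b) = (a * b) * (g * b * g⁻¹) := by
      obtain ⟨u, hu, v, hv, huv⟩ := Cfsg.Agent.Lib.Helper9.exists_mul_of_coprime_index
        (Subgroup.centralizer ({a * b} : Set G)) (Subgroup.centralizer ({b} : Set G)) h2 g
      rw [mem_centralizer_singleton] at hu hv
      have hv' : v * b * v⁻¹ = b := by rw [← hv]; group
      have hg : g * b * g⁻¹ = u * b * u⁻¹ := by
        rw [huv]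
        calc u * v * b * (u * v)⁻¹ = u * (v * b * v⁻¹) * u⁻¹ := by group
          _ = u * b * u⁻¹ := by rw [hv']
      have hu' : u⁻¹ * (a * b) = (a * b) * u⁻¹ := by
        calc u⁻¹ * (a * b) = u⁻¹ * ((a * b) * u) * u⁻¹ := by group
          _ = u⁻¹ * (u * (a * b)) * u⁻¹ := by rw [hu]
          _ = (a * b) * u⁻¹ := by group
      have hbc : b * (a * b) = (a * b) * b := by
        rw [← mul_assoc, ← hab]
      rw [hg]
      calc u * b * u⁻¹ * (a * b) = u * b * (u⁻¹ * (a * b)) := by group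
        _ = u * b * ((a * b) * u⁻¹) := by rw [hu']
        _ = u * (b * (a * b)) * u⁻¹ := by group
        _ = u * ((a * b) * b) * u⁻¹ := by rw [hbc]
        _ = (u * (a * b)) * b * u⁻¹ := by group
        _ = ((a * b) * u) * b * u⁻¹ := by rw [hu]
        _ = (a * b) * (u * b * u⁻¹) := by group
    -- hence with `b = a⁻¹ (a b)`
    set b' := g * b * g⁻¹ with hb'
    have h1' : b' * a⁻¹ = a⁻¹ * b' := by
      calc b' * a⁻¹ = a⁻¹ * (a * b') * a⁻¹ := by group
        _ = a⁻¹ * (b' * a) * a⁻¹ := by rw [h1]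
        _ = a⁻¹ * b' := by group
    calc b' * b = b' * a⁻¹ * (a * b) := by group
      _ = a⁻¹ * b' * (a * b) := by rw [h1']
      _ = a⁻¹ * (b' * (a * b)) := by group
      _ = a⁻¹ * ((a * b) * b') := by rw [h3]
      _ = b * b' := by group

/-- in the situation of `key1`, a `p`-element `b` whose partner has `p'` class size is central -/
theorem central_of_key1 [Finite G] {p : ℕ} (hp : p.Prime) (a b : G) (hab : a * b = b * a)
    (hcop : (cs a).Coprime (cs b)) (h2 : (cs (a * b)).Coprime (cs b)) (hb : IsP p b)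
    (hpa : ¬ p ∣ cs a) : b ∈ Subgroup.center G := by
  obtain ⟨h1, h3⟩ := key1 a b hab hcop h2
  rw [Subgroup.mem_center_iff]
  intro g
  have hk : IsP p (g * b * g⁻¹ * b⁻¹) := by
    apply (hb.conj g).mul hb.inv
    have := h3 g
    calc g * b * g⁻¹ * b⁻¹ = b⁻¹ * (b * (g * b * g⁻¹)) * b⁻¹ := by group
      _ = b⁻¹ * ((g * b * g⁻¹) * b) * b⁻¹ := by rw [this]
      _ = b⁻¹ * (g * b * g⁻¹) := by group
  have hord : orderOf (g * b * g⁻¹ * b⁻¹) ∣ cs a := by
    have h4 : orderOf (g * b * g⁻¹ * b⁻¹) ∣ Nat.card (rstab (cl a)) :=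
      Subgroup.orderOf_dvd_natCard _ (h1 g)
    have h5 := card_rstab_dvd (cl a)
    rw [ncard_cl] at h5
    exact h4.trans h5
  have h6 : orderOf (g * b * g⁻¹ * b⁻¹) = 1 :=
    Nat.eq_one_of_dvd_coprimes (hk.coprime hp hpa) dvd_rfl hord
  rw [orderOf_eq_one_iff, mul_inv_eq_one, mul_inv_eq_iff_eq_mul] at h6
  exact h6

/-- nontrivial `p`-elements are not central when `p ∤ |Z(G)|` -/
theorem not_mem_center [Finite G] {p : ℕ} (hp : p.Prime)
    (hZ : ¬ p ∣ Nat.card ↥(Subgroup.center G)) {b : G} (hb : IsP p b) (hb1 : b ≠ 1) :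
    b ∉ Subgroup.center G := by
  intro hbc
  apply hZ
  exact (hb.dvd_orderOf hp hb1).trans (Subgroup.orderOf_dvd_natCard _ hbc)

/-! ### the graph -/

/-- the vertex/edge relation of the `p`-singular class-size graph -/
def E (p : ℕ) (G : Type*) [Group G] (a b : ℕ) : Prop :=
  ∃ x : G, p ∣ orderOf x ∧ a ∣ cs x ∧ b ∣ cs x

/-- joined by a walk with at most three edges -/
def Conn3 (p : ℕ) (G : Type*) [Group G] (r s : ℕ) : Prop :=
  ∃ t u : ℕ, t.Prime ∧ u.Prime ∧ E p G r t ∧ E p G t u ∧ E p G u s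

theorem E.symm {p : ℕ} {a b : ℕ} (h : E p G a b) : E p G b a := by
  obtain ⟨x, h1, h2, h3⟩ := h
  exact ⟨x, h1, h3, h2⟩

theorem Conn3.symm {p : ℕ} {r s : ℕ} (h : Conn3 p G r s) : Conn3 p G s r := by
  obtain ⟨t, u, ht, hu, h1, h2, h3⟩ := h
  exact ⟨u, t, hu, ht, h3.symm, h2.symm, h1.symm⟩

theorem E.vertex {p : ℕ} {a b : ℕ} (h : E p G a b) :
    ∃ x : G, p ∣ orderOf x ∧ a ∣ (Subgroup.centralizer ({x} : Set G)).index := by
  obtain ⟨x, h1, h2, _⟩ := h
  exact ⟨x, h1, h2⟩

theorem E.edge {p : ℕ} {a b : ℕ} (h : E p G a b) (ha : a.Prime) (hb : b.Prime) (hab : a ≠ b) :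
    ∃ x : G, p ∣ orderOf x ∧ a * b ∣ (Subgroup.centralizer ({x} : Set G)).index := by
  obtain ⟨x, h1, h2, h3⟩ := h
  exact ⟨x, h1, ((Nat.coprime_primes ha hb).mpr hab).mul_dvd_of_dvd_of_dvd h2 h3⟩

theorem finish {p r s : ℕ} (hr : r.Prime) (hs : s.Prime) (hrs : r ≠ s) (h : Conn3 p G r s) :
    (∃ x : G, p ∣ orderOf x ∧ r * s ∣ (Subgroup.centralizer ({x} : Set G)).index) ∨ (∃ t : ℕ, (t.Prime ∧ ∃ x : G, p ∣ orderOf x ∧ t ∣ (Subgroup.centralizer ({x} : Set G)).index) ∧ t ≠ r ∧ t ≠ s ∧ (∃ x : G, p ∣ orderOf x ∧ r * t ∣ (Subgroup.centralizer ({x} : Set G)).index) ∧ (∃ x : G, p ∣ orderOf x ∧ t * s ∣ (Subgroup.centralizer ({x} : Set G)).index)) ∨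
      (∃ t u : ℕ, (t.Prime ∧ ∃ x : G, p ∣ orderOf x ∧ t ∣ (Subgroup.centralizer ({x} : Set G)).index) ∧ (u.Prime ∧ ∃ x : G, p ∣ orderOf x ∧ u ∣ (Subgroup.centralizer ({x} : Set G)).index) ∧ t ≠ r ∧ u ≠ s ∧ t ≠ u ∧ (∃ x : G, p ∣ orderOf x ∧ r * t ∣ (Subgroup.centralizer ({x} : Set G)).index) ∧ (∃ x : G, p ∣ orderOf x ∧ t * u ∣ (Subgroup.centralizer ({x} : Set G)).index) ∧ (∃ x : G, p ∣ orderOf x ∧ u * s ∣ (Subgroup.centralizer ({x} : Set G)).index)) := by
  obtain ⟨t, u, ht, hu, h1, h2, h3⟩ := h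
  -- a path of length two through a prime `v`
  have two : ∀ v : ℕ, v.Prime → v ≠ r → v ≠ s → E p G r v → E p G v s →
      (∃ t : ℕ, (t.Prime ∧ ∃ x : G, p ∣ orderOf x ∧ t ∣ (Subgroup.centralizer ({x} : Set G)).index) ∧ t ≠ r ∧ t ≠ s ∧ (∃ x : G, p ∣ orderOf x ∧ r * t ∣ (Subgroup.centralizer ({x} : Set G)).index) ∧ (∃ x : G, p ∣ orderOf x ∧ t * s ∣ (Subgroup.centralizer ({x} : Set G)).index)) := by
    intro v hv hvr hvs e1 e2
    exact ⟨v, ⟨hv, e2.vertex⟩, hvr, hvs, e1.edge hr hv (Ne.symm hvr), e2.edge hv hs hvs⟩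
  by_cases htr : t = r
  · subst htr
    by_cases hus : u = s
    · subst hus
      exact Or.inl (h2.edge hr hs hrs)
    · by_cases hur : u = t
      · subst hur
        exact Or.inl (h3.edge hr hs hrs)
      · exact Or.inr (Or.inl (two u hu hur hus h2 h3))
  · by_cases hts : t = s
    · subst hts
      exact Or.inl (h1.edge hr hs hrs)
    · by_cases hus : u = s
      · subst hus
        exact Or.inr (Or.inl (two t ht htr hts h1 h2))
      · by_cases hut : u = t
        · subst hut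
          exact Or.inr (Or.inl (two u hu htr hts h1 h3))
        · by_cases hur : u = r
          · subst hur
            exact Or.inl (h3.edge hr hs hrs)
          · refine Or.inr (Or.inr ⟨t, u, ⟨ht, h2.vertex⟩, ⟨hu, h3.vertex⟩, htr, hus, Ne.symm hut,
              h1.edge hr ht (Ne.symm htr), h2.edge ht hu (Ne.symm hut), h3.edge hu hs hus⟩)

/-! ### the direct decomposition of `C_G(a)` (via S4035) -/

theorem lemmaS [Finite G] {p : ℕ} [hpf : Fact p.Prime] (P : Sylow p G) (a : G)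
    (haC : ∀ d ∈ (P : Subgroup G), d * a = a * d) (ha : IsP p a)
    (hβ : ∀ g : G, a * g = g * a → ¬ p ∣ orderOf g → ¬ p ∣ cs (a * g)) :
    ∃ H : Set G, (∀ h ∈ H, ¬ p ∣ orderOf h ∧ a * h = h * a ∧
        ∀ d ∈ (P : Subgroup G), d * h = h * d) ∧
      (∀ u : G, a * u = u * a → ∃ d ∈ (P : Subgroup G), ∃ h ∈ H, u = d * h) := by
  have hp : p.Prime := hpf.out
  set C := Subgroup.centralizer ({a} : Set G) with hC
  have hPC : (P : Subgroup G) ≤ C := by
    intro d hd
    rw [hC, mem_centralizer_singleton]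
    exact (haC d hd).symm
  let P' : Sylow p C := P.subtype hPC
  have hyp : ∀ g : C, (orderOf g).Coprime p → ¬ p ∣ (ConjClasses.mk g).carrier.ncard := by
    intro g hg hdvd
    rw [Cfsg.Agent.S4035.ncard_carrier_eq_index] at hdvd
    have hg' : ¬ p ∣ orderOf (g : G) := by
      rw [Subgroup.orderOf_coe]
      exact (Nat.Prime.coprime_iff_not_dvd hp).mp hg.symm
    have hcomm : a * (g : G) = (g : G) * a := mem_centralizer_singleton.mp g.2
    apply hβ g hcomm hg'
    have e1 : Subgroup.centralizer ({g} : Set ↥C) =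
        (Subgroup.centralizer ({(g : G)} : Set G)).subgroupOf C := by
      ext z
      rw [mem_centralizer_singleton, Subgroup.mem_subgroupOf, mem_centralizer_singleton]
      exact ⟨fun h => congrArg Subtype.val h, fun h => Subtype.ext h⟩
    rw [e1] at hdvd
    have hle : Subgroup.centralizer ({a * (g : G)} : Set G) ≤
        C ⊓ Subgroup.centralizer ({(g : G)} : Set G) :=
      centralizer_mul_le hcomm (ha.coprime hp hg')
    have h1 : (C ⊓ Subgroup.centralizer ({(g : G)} : Set G)).index ∣ cs (a * (g : G)) :=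
      Subgroup.index_dvd_of_le hle
    have h2 := Subgroup.relIndex_mul_index
      (inf_le_left : C ⊓ Subgroup.centralizer ({(g : G)} : Set G) ≤ C)
    rw [Subgroup.inf_relIndex_left] at h2
    have h3 : (Subgroup.centralizer ({(g : G)} : Set G)).relIndex C ∣
        (C ⊓ Subgroup.centralizer ({(g : G)} : Set G)).index := Dvd.intro _ h2
    exact hdvd.trans (h3.trans h1)
  obtain ⟨hPn, H', hH'n, hH'card, hdisj, hsup⟩ := Cfsg.Agent.S4035.result hyp P'
  refine ⟨(fun h : C => (h : G)) '' (H' : Set C), ?_, ?_⟩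
  · rintro _ ⟨h', hh', rfl⟩
    refine ⟨?_, mem_centralizer_singleton.mp h'.2, ?_⟩
    · show ¬ p ∣ orderOf (h' : G)
      rw [Subgroup.orderOf_coe]
      intro hd
      exact hH'card (hd.trans (Subgroup.orderOf_dvd_natCard _ hh'))
    · intro d hd
      have hd' : (⟨d, hPC hd⟩ : C) ∈ (P' : Subgroup C) := by
        rw [Sylow.coe_subtype]
        exact Subgroup.mem_subgroupOf.mpr hd
      have := Subgroup.commute_of_normal_of_disjoint _ _ hPn hH'n (disjoint_iff.mpr hdisj) _ _ hd' hh'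
      exact congrArg Subtype.val this.eq
  · intro u hu
    have hu' : (⟨u, mem_centralizer_singleton.mpr hu⟩ : C) ∈ (P' : Subgroup C) ⊔ H' := by
      rw [hsup]; exact Subgroup.mem_top _
    have := hH'n
    rw [Subgroup.mem_sup_of_normal_right] at hu'
    obtain ⟨y, hy, z, hz, hyz⟩ := hu'
    rw [Sylow.coe_subtype, Subgroup.mem_subgroupOf] at hy
    exact ⟨y, hy, z, ⟨z, hz, rfl⟩, (congrArg Subtype.val hyz).symm⟩

/-! ### auxiliary lemmas for the final contradiction -/

theorem exists_conj_mem_sylow [Finite G] {p : ℕ} [hpf : Fact p.Prime] (P : Sylow p G) {d : G}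
    (hd : IsP p d) : ∃ g : G, g * d * g⁻¹ ∈ (P : Subgroup G) := by
  have hp : p.Prime := hpf.out
  have hpg : IsPGroup p (Subgroup.zpowers d) := by
    obtain ⟨k, hk⟩ := hd.orderOf_dvd
    obtain ⟨j, _, hj⟩ := (Nat.dvd_prime_pow hp).mp hk
    exact IsPGroup.of_card (n := j) (by rw [Nat.card_zpowers, hj])
  obtain ⟨Q, hQ⟩ := hpg.exists_le_sylow
  obtain ⟨g, hg⟩ := MulAction.exists_smul_eq G Q P
  refine ⟨g, ?_⟩
  rw [← hg, Cfsg.Agent.Lib.Helper34.mem_sylow_smul_iff]
  have : g⁻¹ * (g * d * g⁻¹) * g = d := by group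
  rw [this]
  exact hQ (Subgroup.mem_zpowers d)

/-- a `p`-element centralizing a Sylow `p`-subgroup lies in it -/
theorem mem_sylow_of_centralizes [Finite G] {p : ℕ} [hpf : Fact p.Prime] (P : Sylow p G) {a : G}
    (ha : IsP p a) (haC : ∀ d ∈ (P : Subgroup G), d * a = a * d) : a ∈ (P : Subgroup G) := by
  have hp : p.Prime := hpf.out
  have hpg : IsPGroup p (Subgroup.zpowers a) := by
    obtain ⟨k, hk⟩ := ha.orderOf_dvd
    obtain ⟨j, _, hj⟩ := (Nat.dvd_prime_pow hp).mp hk
    exact IsPGroup.of_card (n := j) (by rw [Nat.card_zpowers, hj])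
  have hnorm : Subgroup.zpowers a ≤ Subgroup.normalizer ((P : Subgroup G) : Set G) := by
    rw [Subgroup.zpowers_le]
    rw [Subgroup.mem_normalizer_iff]
    intro h
    have key : ∀ e : G, e ∈ (P : Subgroup G) → a * e * a⁻¹ = e := by
      intro e he
      rw [← haC e he]; group
    constructor
    · intro hh
      rw [key h hh]; exact hh
    · intro hh
      have h1 : a⁻¹ * (a * h * a⁻¹) * a ∈ (P : Subgroup G) := by
        have h2 : a⁻¹ * (a * h * a⁻¹) * a = a * h * a⁻¹ := by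
          have := key _ hh
          calc a⁻¹ * (a * h * a⁻¹) * a = a⁻¹ * (a * (a * h * a⁻¹) * a⁻¹) * a := by rw [this]
            _ = a * h * a⁻¹ := by group
        rw [h2]; exact hh
      have h3 : a⁻¹ * (a * h * a⁻¹) * a = h := by group
      rwa [h3] at h1
  have hsup : IsPGroup p (Subgroup.zpowers a ⊔ (P : Subgroup G) : Subgroup G) :=
    hpg.to_sup_of_normal_right' P.isPGroup' hnorm
  have heq := P.is_maximal' hsup le_sup_right
  rw [← heq]
  exact (le_sup_left : Subgroup.zpowers a ≤ _) (Subgroup.mem_zpowers a)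

/-- conjugates of elements centralizing `T` commute with a normal subgroup `S ≤ T` -/
theorem comm_of_conj_centralizer {S T : Subgroup G} [hS : S.Normal] (hST : S ≤ T) {c g : G}
    (hc : c ∈ Subgroup.centralizer (T : Set G)) {n : G} (hn : n ∈ S) :
    n * (g * c * g⁻¹) = (g * c * g⁻¹) * n := by
  have hn' : g⁻¹ * n * g ∈ S := by
    have := hS.conj_mem n hn g⁻¹
    simpa using this
  have h1 : (g⁻¹ * n * g) * c = c * (g⁻¹ * n * g) := (Subgroup.mem_centralizer_iff.mp hc) _ (hST hn')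
  calc n * (g * c * g⁻¹) = g * ((g⁻¹ * n * g) * c) * g⁻¹ := by group
    _ = g * (c * (g⁻¹ * n * g)) * g⁻¹ := by rw [h1]
    _ = (g * c * g⁻¹) * n := by group

theorem commElem_mul_left (x z y : G) (hz : z * y = y * z) : ⁅x * z, y⁆ = ⁅x, y⁆ := by
  rw [commutatorElement_def, commutatorElement_def]
  calc x * z * y * (x * z)⁻¹ * y⁻¹ = x * (z * y) * z⁻¹ * x⁻¹ * y⁻¹ := by group
    _ = x * (y * z) * z⁻¹ * x⁻¹ * y⁻¹ := by rw [hz]
    _ = x * y * x⁻¹ * y⁻¹ := by group

theorem commElem_mul_right (x y z : G) (hz : z * x = x * z) : ⁅x, y * z⁆ = ⁅x, y⁆ := by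
  rw [commutatorElement_def, commutatorElement_def]
  have hz' : z * x⁻¹ = x⁻¹ * z := by
    calc z * x⁻¹ = x⁻¹ * (x * z) * x⁻¹ := by group
      _ = x⁻¹ * (z * x) * x⁻¹ := by rw [hz]
      _ = x⁻¹ * z := by group
  calc x * (y * z) * x⁻¹ * (y * z)⁻¹ = x * y * (z * x⁻¹) * z⁻¹ * y⁻¹ := by group
    _ = x * y * (x⁻¹ * z) * z⁻¹ * y⁻¹ := by rw [hz']
    _ = x * y * x⁻¹ * y⁻¹ := by group

/-- a subgroup of a `p`-group supplementing the derived subgroup is everything -/
theorem frattini_lemma [Finite G] {p : ℕ} [Fact p.Prime] (P : Sylow p G) (X : Subgroup G)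
    (hXP : X ≤ (P : Subgroup G))
    (h : (P : Subgroup G) ≤ X ⊔ ⁅(P : Subgroup G), (P : Subgroup G)⁆) : (P : Subgroup G) ≤ X := by
  have hsup : X.subgroupOf (P : Subgroup G) ⊔ commutator ↥(P : Subgroup G) = ⊤ := by
    apply Subgroup.map_injective (P : Subgroup G).subtype_injective
    rw [Subgroup.map_sup, Subgroup.map_subgroupOf_eq_of_le hXP, Subgroup.map_subtype_commutator,
      ← MonoidHom.range_eq_map, Subgroup.range_subtype]
    apply le_antisymm _ h
    exact sup_le hXP (Subgroup.commutator_le.mpr fun g₁ h₁ g₂ h₂ => by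
      rw [commutatorElement_def]
      exact mul_mem (mul_mem (mul_mem h₁ h₂) (inv_mem h₁)) (inv_mem h₂))
  have htop := Cfsg.Agent.S0058.eq_top_of_sup_commutator_eq_top P.isPGroup' _ hsup
  intro d hd
  have : (⟨d, hd⟩ : ↥(P : Subgroup G)) ∈ X.subgroupOf (P : Subgroup G) := by
    rw [htop]; exact Subgroup.mem_top _
  exact Subgroup.mem_subgroupOf.mp this

/-- if `d k d⁻¹ = w k` with `w` commuting with `d`, then `w ^ |d| = 1` -/
theorem pow_trick (N : Subgroup G) (d k w : G) (hw : w ∈ N)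
    (hcop : (orderOf d).Coprime (Nat.card N)) (h1 : d * k * d⁻¹ = w * k) (h2 : d * w = w * d) :
    w = 1 := by
  have key : ∀ m : ℕ, d ^ m * k * (d ^ m)⁻¹ = w ^ m * k := by
    intro m
    induction m with
    | zero => simp
    | succ m ih =>
      have hc : d * w ^ m = w ^ m * d := (Commute.pow_right (show Commute d w from h2) m).eq
      calc d ^ (m + 1) * k * (d ^ (m + 1))⁻¹
          = d * (d ^ m * k * (d ^ m)⁻¹) * d⁻¹ := by
            rw [pow_succ', mul_inv_rev]; simp only [mul_assoc]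
        _ = d * (w ^ m * k) * d⁻¹ := by rw [ih]
        _ = (d * w ^ m) * k * d⁻¹ := by simp only [mul_assoc]
        _ = w ^ m * (d * k * d⁻¹) := by rw [hc]; simp only [mul_assoc]
        _ = w ^ m * (w * k) := by rw [h1]
        _ = w ^ (m + 1) * k := by rw [pow_succ, mul_assoc]
  have h3 := key (orderOf d)
  rw [pow_orderOf_eq_one, inv_one, mul_one, one_mul] at h3
  have h3' : w ^ orderOf d = 1 := by
    have := congrArg (· * k⁻¹) h3
    simp only [mul_inv_cancel, mul_inv_cancel_right] at this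
    exact this.symm
  have h4 : orderOf w ∣ orderOf d := orderOf_dvd_of_pow_eq_one h3'
  have h5 : orderOf w ∣ Nat.card N := Subgroup.orderOf_dvd_natCard _ hw
  exact orderOf_eq_one_iff.mp (Nat.eq_one_of_dvd_coprimes hcop h4 h5)

/-! ### the final contradiction -/

theorem lemmaQ [Finite G] {p : ℕ} [hpf : Fact p.Prime] (hZ : ¬ p ∣ Nat.card ↥(Subgroup.center G))
    (P : Sylow p G) (a : G) (haP : a ∈ (P : Subgroup G))
    (haC : ∀ d ∈ (P : Subgroup G), d * a = a * d) (ha : a ∉ Subgroup.center G)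
    (hC : ∀ u : G, a * u = u * a → ∃ d ∈ (P : Subgroup G), ∃ h ∈ Subgroup.center G, u = d * h)
    (H1 : ∀ d : G, IsP p d → p ∣ cs d → (cs d).Coprime (cs a))
    (hb : ∃ b : G, IsP p b ∧ p ∣ cs b) : False := by
  have hp : p.Prime := hpf.out
  -- Q1: classes of non-`p`-central elements of `P` are `P`-classes
  have Q1 : ∀ d ∈ (P : Subgroup G), p ∣ cs d → ∀ g : G,
      ∃ u ∈ (P : Subgroup G), g * d * g⁻¹ = u * d * u⁻¹ := by
    intro d hd hpd g
    have hcop := H1 d (IsP.of_mem_sylow P hd) hpd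
    obtain ⟨u₀, hu₀, v, hv, huv⟩ := Cfsg.Agent.Lib.Helper9.exists_mul_of_coprime_index
      (Subgroup.centralizer ({a} : Set G)) (Subgroup.centralizer ({d} : Set G)) hcop.symm g
    rw [mem_centralizer_singleton] at hu₀ hv
    obtain ⟨u, hu, h, hh, rfl⟩ := hC u₀ hu₀
    refine ⟨u, hu, ?_⟩
    have hv' : v * d * v⁻¹ = d := by rw [← hv]; group
    have hh' : h * d * h⁻¹ = d := by
      rw [Subgroup.mem_center_iff] at hh
      rw [← hh d]; group
    calc g * d * g⁻¹ = u * h * (v * d * v⁻¹) * h⁻¹ * u⁻¹ := by rw [huv]; group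
      _ = u * (h * d * h⁻¹) * u⁻¹ := by rw [hv']; group
      _ = u * d * u⁻¹ := by rw [hh']
  -- Q2: non-`p`-central `p`-elements lie in `P`
  have Q2 : ∀ d : G, IsP p d → p ∣ cs d → d ∈ (P : Subgroup G) := by
    intro d hd hpd
    obtain ⟨g, hg⟩ := exists_conj_mem_sylow P hd
    have hpd' : p ∣ cs (g * d * g⁻¹) := by rw [cs_conj]; exact hpd
    obtain ⟨u, hu, hgu⟩ := Q1 _ hg hpd' g⁻¹
    have : d = u * (g * d * g⁻¹) * u⁻¹ := by rw [← hgu]; group
    rw [this]
    exact mul_mem (mul_mem hu hg) (inv_mem hu)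
  -- Q3: `P` is normal
  have hPn : (P : Subgroup G).Normal := by
    set Bset : Set G := {d | IsP p d ∧ p ∣ cs d} with hBset
    set N := Subgroup.normalClosure Bset with hN
    have hNP : N ≤ (P : Subgroup G) := by
      rw [hN, Subgroup.normalClosure, Subgroup.closure_le]
      intro x hx
      rw [Group.mem_conjugatesOfSet_iff] at hx
      obtain ⟨b, hbB, hbx⟩ := hx
      rw [isConj_iff] at hbx
      obtain ⟨c, rfl⟩ := hbx
      exact Q2 _ (hbB.1.conj c) (by rw [cs_conj]; exact hbB.2)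
    have hBN : ∀ d, IsP p d → p ∣ cs d → d ∈ N := fun d h1 h2 =>
      Subgroup.subset_normalClosure (show d ∈ Bset from ⟨h1, h2⟩)
    have hcentN : ∀ d ∈ (P : Subgroup G), ¬ p ∣ cs d → d ∈ Subgroup.centralizer (N : Set G) := by
      intro d _ hnp
      obtain ⟨g, c, hc, rfl⟩ := Cfsg.Agent.S4160.exists_conj_mem_centralizer P d hnp
      rw [Subgroup.mem_centralizer_iff]
      intro n hn
      exact comm_of_conj_centralizer hNP hc hn
    have hor : (P : Subgroup G) ≤ N ∨ (P : Subgroup G) ≤ Subgroup.centralizer (N : Set G) := by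
      by_contra hcon
      rw [not_or] at hcon
      obtain ⟨x, hxP, hxN⟩ := SetLike.not_le_iff_exists.mp hcon.1
      obtain ⟨y, hyP, hyC⟩ := SetLike.not_le_iff_exists.mp hcon.2
      have hxC : x ∈ Subgroup.centralizer (N : Set G) := by
        apply hcentN x hxP
        intro hpx
        exact hxN (hBN x (IsP.of_mem_sylow P hxP) hpx)
      have hyN : y ∈ N := by
        by_contra hyN
        apply hyC
        apply hcentN y hyP
        intro hpy
        exact hyN (hBN y (IsP.of_mem_sylow P hyP) hpy)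
      have hxy : x * y ∈ (P : Subgroup G) := mul_mem hxP hyP
      by_cases hpxy : p ∣ cs (x * y)
      · apply hxN
        have := mul_mem (hBN _ (IsP.of_mem_sylow P hxy) hpxy) (inv_mem hyN)
        simpa using this
      · apply hyC
        have := mul_mem (inv_mem hxC) (hcentN _ hxy hpxy)
        simpa using this
    rcases hor with h | h
    · have : (P : Subgroup G) = N := le_antisymm h hNP
      rw [this]
      infer_instance
    · exfalso
      obtain ⟨b, hbP', hpb⟩ := hb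
      have hbN := hBN b hbP' hpb
      have hle : (P : Subgroup G) ≤ Subgroup.centralizer ({b} : Set G) := by
        intro d hd
        rw [mem_centralizer_singleton]
        exact (Subgroup.mem_centralizer_iff.mp (h hd)) b hbN
      exact P.not_dvd_index (hpb.trans (Subgroup.index_dvd_of_le hle))
  -- Q4: elements of `P` are non-`p`-central or central in `P`
  have Q4 : ∀ d ∈ (P : Subgroup G), p ∣ cs d ∨ ∀ e ∈ (P : Subgroup G), e * d = d * e := by
    intro d _
    by_cases hpd : p ∣ cs d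
    · exact Or.inl hpd
    · right
      obtain ⟨g, c, hc, rfl⟩ := Cfsg.Agent.S4160.exists_conj_mem_centralizer P d hpd
      intro e he
      exact comm_of_conj_centralizer le_rfl hc he
  -- the complement
  obtain ⟨K, hK⟩ := Subgroup.exists_right_complement'_of_coprime (N := (P : Subgroup G))
    P.card_coprime_index
  have hKcard : Nat.card K = (P : Subgroup G).index := hK.symm.index_eq_card.symm
  have hcopKP : (Nat.card K).Coprime (Nat.card (P : Subgroup G)) := by
    rw [hKcard]; exact P.card_coprime_index.symm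
  have hKp : ∀ k ∈ K, ¬ p ∣ orderOf k := by
    intro k hk hpk
    have h1 : p ∣ (P : Subgroup G).index := by
      rw [← hKcard]; exact hpk.trans (Subgroup.orderOf_dvd_natCard _ hk)
    exact P.not_dvd_index h1
  -- the relevant normal subgroups
  set ZP : Subgroup G := (P : Subgroup G) ⊓ Subgroup.centralizer ((P : Subgroup G) : Set G) with hZP
  set DP : Subgroup G := ⁅(P : Subgroup G), (P : Subgroup G)⁆ with hDP
  have hZPn : ZP.Normal := by rw [hZP]; infer_instance
  have hDPn : DP.Normal := by rw [hDP]; infer_instance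
  have hMn : (DP ⊔ ZP).Normal := inferInstance
  have hDPP : DP ≤ (P : Subgroup G) := Subgroup.commutator_le_left _ _
  have hMP : DP ⊔ ZP ≤ (P : Subgroup G) := sup_le hDPP inf_le_left
  have mem_ZP : ∀ d ∈ (P : Subgroup G), (∀ e ∈ (P : Subgroup G), e * d = d * e) → d ∈ ZP := by
    intro d hd h
    exact ⟨hd, Subgroup.mem_centralizer_iff.mpr h⟩
  -- Q5
  have hfix : ∀ d ∈ (P : Subgroup G), ∀ g : G, g * d * g⁻¹ * d⁻¹ ∈ DP ⊔ ZP := by
    intro d hd g
    rcases Q4 d hd with hpd | hcent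
    · obtain ⟨u, hu, hgu⟩ := Q1 d hd hpd g
      rw [hgu]
      apply Subgroup.mem_sup_left
      have := Subgroup.commutator_mem_commutator hu hd
      rwa [commutatorElement_def] at this
    · apply Subgroup.mem_sup_right
      have hdZ : d ∈ ZP := mem_ZP d hd hcent
      exact mul_mem (hZPn.conj_mem d hdZ g) (inv_mem hdZ)
  -- coprime action: fixed points cover `P / (DP ⊔ ZP)`
  have hsolv : Group.IsSolvable ↥(P : Subgroup G) := by
    have : Group.IsNilpotent ↥(P : Subgroup G) := P.isPGroup'.isNilpotent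
    infer_instance
  have hS : ∀ d ∈ (P : Subgroup G),
      ∃ c ∈ (P : Subgroup G) ⊓ Subgroup.centralizer (K : Set G), d⁻¹ * c ∈ DP ⊔ ZP := by
    intro d hd
    refine Cfsg.Agent.S0022.result K (P : Subgroup G) ?_ hcopKP (Or.inr hsolv) (DP ⊔ ZP) hMP ?_ ?_
      d hd (fun k _ => hfix d hd k)
    · rw [Subgroup.normalizer_eq_top]; exact le_top
    · rw [Subgroup.normalizer_eq_top]; exact le_top
    · rw [Subgroup.normalizer_eq_top]; exact le_top
  set CPK : Subgroup G := (P : Subgroup G) ⊓ Subgroup.centralizer (K : Set G) with hCPK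
  -- Q6
  have hX : (P : Subgroup G) ≤ CPK ⊔ ZP := by
    apply frattini_lemma P (CPK ⊔ ZP) (sup_le inf_le_left inf_le_left)
    intro d hd
    obtain ⟨c, hc, hm⟩ := hS d hd
    have hd' : d = c * (d⁻¹ * c)⁻¹ := by group
    rw [hd']
    apply mul_mem
    · exact (le_sup_left : CPK ⊔ ZP ≤ _) ((le_sup_left : CPK ≤ _) hc)
    · apply inv_mem
      have hle : DP ⊔ ZP ≤ CPK ⊔ ZP ⊔ DP :=
        sup_le le_sup_right ((le_sup_right : ZP ≤ CPK ⊔ ZP).trans le_sup_left)
      exact hle hm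
  have hdecomp : ∀ d ∈ (P : Subgroup G), ∃ c ∈ CPK, ∃ z ∈ ZP, c * z = d := fun d hd =>
    Subgroup.mem_sup_of_normal_right.mp (hX hd)
  -- Q7
  have Q7 : DP ≤ Subgroup.centralizer (K : Set G) := by
    rw [hDP, Subgroup.commutator_le]
    intro g₁ h₁ g₂ h₂
    obtain ⟨c₁, hc₁, z₁, hz₁, rfl⟩ := hdecomp g₁ h₁
    obtain ⟨c₂, hc₂, z₂, hz₂, rfl⟩ := hdecomp g₂ h₂
    have e1 : ⁅c₁ * z₁, c₂ * z₂⁆ = ⁅c₁, c₂ * z₂⁆ := by
      apply commElem_mul_left
      exact ((Subgroup.mem_centralizer_iff.mp hz₁.2) _ h₂).symm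
    have e2 : ⁅c₁, c₂ * z₂⁆ = ⁅c₁, c₂⁆ := by
      apply commElem_mul_right
      exact ((Subgroup.mem_centralizer_iff.mp hz₂.2) _ hc₁.1).symm
    rw [e1, e2, commutatorElement_def]
    exact mul_mem (mul_mem (mul_mem hc₁.2 hc₂.2) (inv_mem hc₁.2)) (inv_mem hc₂.2)
  -- Q8
  have Q8 : ∀ z ∈ ZP, ∀ k ∈ K, k * z = z * k := by
    intro z hz k hk
    by_cases hsub : CPK ≤ ZP
    · exfalso
      have hPZ : (P : Subgroup G) ≤ ZP := hX.trans (sup_le hsub le_rfl)
      obtain ⟨b, hbP', hpb⟩ := hb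
      have hbP := Q2 b hbP' hpb
      have hle : (P : Subgroup G) ≤ Subgroup.centralizer ({b} : Set G) := by
        intro d hd
        rw [mem_centralizer_singleton]
        exact (Subgroup.mem_centralizer_iff.mp (hPZ hd).2) b hbP
      exact P.not_dvd_index (hpb.trans (Subgroup.index_dvd_of_le hle))
    · obtain ⟨d₀, hd₀, hd₀Z⟩ := SetLike.not_le_iff_exists.mp hsub
      set w := k * z * k⁻¹ * z⁻¹ with hw
      have hwZ : w ∈ ZP := mul_mem (hZPn.conj_mem z hz k) (inv_mem hz)
      have he : d₀ * z ∈ (P : Subgroup G) := mul_mem hd₀.1 hz.1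
      have heZ : d₀ * z ∉ ZP := fun h => hd₀Z (by
        have := mul_mem h (inv_mem hz)
        simpa using this)
      have hpe : p ∣ cs (d₀ * z) := by
        rcases Q4 _ he with h | h
        · exact h
        · exact absurd (mem_ZP _ he h) heZ
      obtain ⟨u, hu, hku⟩ := Q1 _ he hpe k
      have hkd : k * d₀ = d₀ * k := (Subgroup.mem_centralizer_iff.mp hd₀.2) k hk
      have huz : u * z = z * u := (Subgroup.mem_centralizer_iff.mp hz.2) u hu
      have hwD : w ∈ DP := by
        have h1 : k * z * k⁻¹ = d₀⁻¹ * (k * (d₀ * z) * k⁻¹) := by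
          calc k * z * k⁻¹ = d₀⁻¹ * (d₀ * k) * z * k⁻¹ := by group
            _ = d₀⁻¹ * (k * d₀) * z * k⁻¹ := by rw [hkd]
            _ = d₀⁻¹ * (k * (d₀ * z) * k⁻¹) := by group
        have h2 : u * (d₀ * z) * u⁻¹ = u * d₀ * u⁻¹ * z := by
          have huz' : z * u⁻¹ = u⁻¹ * z := by
            calc z * u⁻¹ = u⁻¹ * (u * z) * u⁻¹ := by group
              _ = u⁻¹ * (z * u) * u⁻¹ := by rw [huz]
              _ = u⁻¹ * z := by group
          calc u * (d₀ * z) * u⁻¹ = u * d₀ * (z * u⁻¹) := by group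
            _ = u * d₀ * (u⁻¹ * z) := by rw [huz']
            _ = u * d₀ * u⁻¹ * z := by group
        have h3 : w = ⁅d₀⁻¹, u⁆ := by
          rw [commutatorElement_def, hw, h1, hku, h2]
          group
        rw [h3]
        exact Subgroup.commutator_mem_commutator (inv_mem hd₀.1) hu
      have hkw : k * w = w * k := (Subgroup.mem_centralizer_iff.mp (Q7 hwD)) k hk
      have hcopk : (orderOf k).Coprime (Nat.card (P : Subgroup G)) :=
        hcopKP.coprime_dvd_left (Subgroup.orderOf_dvd_natCard _ hk)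
      have hw1 : w = 1 := pow_trick (P : Subgroup G) k z w hwZ.1 hcopk (by rw [hw]; group) hkw
      rw [hw, mul_inv_eq_one, mul_inv_eq_iff_eq_mul] at hw1
      exact hw1
  -- `K` is central
  have haZ : a ∈ ZP := mem_ZP a haP haC
  have hKc : ∀ k ∈ K, k ∈ Subgroup.center G := by
    intro k hk
    have hka : a * k = k * a := (Q8 a haZ k hk).symm
    obtain ⟨d, hd, h, hh, hkdh⟩ := hC k hka
    have hd1 : d = 1 := by
      have hdk : d = k * h⁻¹ := by rw [hkdh]; group
      have hcomm : Commute k h⁻¹ := by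
        have := (Subgroup.mem_center_iff.mp (inv_mem hh)) k
        exact this
      have hpow : d ^ (orderOf k * orderOf h) = 1 := by
        rw [hdk, hcomm.mul_pow, pow_mul, pow_orderOf_eq_one, one_pow, mul_comm (orderOf k),
          pow_mul, inv_pow, pow_orderOf_eq_one, inv_one, one_pow, one_mul]
      have h1 : orderOf d ∣ orderOf k * orderOf h := orderOf_dvd_of_pow_eq_one hpow
      have hnot : ¬ p ∣ orderOf k * orderOf h := by
        intro hdvd
        rcases (Nat.Prime.dvd_mul hp).mp hdvd with h2 | h2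
        · exact hKp k hk h2
        · exact hZ (h2.trans (Subgroup.orderOf_dvd_natCard _ hh))
      have h2 : (orderOf d).Coprime (orderOf k * orderOf h) :=
        (IsP.of_mem_sylow P hd).coprime hp hnot
      exact orderOf_eq_one_iff.mp (Nat.eq_one_of_dvd_coprimes h2 dvd_rfl h1)
    rw [hkdh, hd1, one_mul]
    exact hh
  -- hence `a` is central
  apply ha
  rw [Subgroup.mem_center_iff]
  intro g
  obtain ⟨⟨⟨d, hd⟩, ⟨k, hk⟩⟩, hdk⟩ := hK.2 g
  have hdk' : d * k = g := hdk
  rw [← hdk']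
  have h1 := haC d hd
  have h2 := (Subgroup.mem_center_iff.mp (hKc k hk)) a
  calc d * k * a = d * (k * a) := by group
    _ = d * (a * k) := by rw [h2]
    _ = (d * a) * k := by group
    _ = (a * d) * k := by rw [h1]
    _ = a * (d * k) := by group

/-! ### assembling the argument -/

theorem cs_one' : cs (1 : G) = 1 := (cs_eq_one_iff 1).mpr (Subgroup.one_mem _)

theorem orderOf_conj' (g c : G) : orderOf (g * c * g⁻¹) = orderOf c := by
  have := (MulAut.conj g).orderOf_eq c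
  rwa [MulAut.conj_apply] at this

theorem lemmaB [Finite G] {p : ℕ} [hpf : Fact p.Prime] (hZ : ¬ p ∣ Nat.card ↥(Subgroup.center G))
    (P : Sylow p G) (a b : G) (haP : a ∈ (P : Subgroup G))
    (haC : ∀ d ∈ (P : Subgroup G), d * a = a * d) (ha1 : a ≠ 1)
    (hbP : b ∈ (P : Subgroup G)) (hb1 : b ≠ 1) (hcop : (cs a).Coprime (cs b))
    {r s : ℕ} (hra : r ∣ cs a) (hbs : ∀ u : ℕ, u ∣ cs b → E p G u s) : Conn3 p G r s := by
  have hp : p.Prime := hpf.out
  have haI : IsP p a := IsP.of_mem_sylow P haP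
  have hbI : IsP p b := IsP.of_mem_sylow P hbP
  have hab : a * b = b * a := (haC b hbP).symm
  have hoa : p ∣ orderOf a := haI.dvd_orderOf hp ha1
  have hanc : a ∉ Subgroup.center G := not_mem_center hp hZ haI ha1
  have hbnc : b ∉ Subgroup.center G := not_mem_center hp hZ hbI hb1
  have hpa : ¬ p ∣ cs a := by
    have hle : (P : Subgroup G) ≤ Subgroup.centralizer ({a} : Set G) :=
      fun d hd => mem_centralizer_singleton.mpr (haC d hd).symm
    exact fun h => P.not_dvd_index (h.trans (Subgroup.index_dvd_of_le hle))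
  have hcI : IsP p (a * b) := haI.mul hbI hab
  have Era : ∀ t, t ∣ cs a → E p G r t := fun t ht => ⟨a, hoa, hra, ht⟩
  by_cases h1 : (cs (a * b)).Coprime (cs b)
  · exact absurd (central_of_key1 hp a b hab hcop h1 hbI hpa) hbnc
  by_cases h2 : (cs (a * b)).Coprime (cs a)
  swap
  · -- both gcds nontrivial
    obtain ⟨t, ht, htc, hta⟩ := Nat.Prime.not_coprime_iff_dvd.mp h2
    obtain ⟨u, hu, huc, hub⟩ := Nat.Prime.not_coprime_iff_dvd.mp h1
    have hc1 : a * b ≠ 1 := by
      intro h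
      rw [h, cs_one'] at htc
      exact ht.one_lt.ne' (Nat.dvd_one.mp htc)
    exact ⟨t, u, ht, hu, Era t hta, ⟨a * b, hcI.dvd_orderOf hp hc1, htc, huc⟩, hbs u hub⟩
  · have hba : b * a = a * b := hab.symm
    have h2' : (cs (b * a)).Coprime (cs a) := by rw [hba]; exact h2
    obtain ⟨k1, k2⟩ := key1 b a hba hcop.symm h2'
    have hpb : p ∣ cs b := by
      have : ∃ g : G, g * a ≠ a * g := by
        by_contra hcon
        push Not at hcon
        exact hanc (Subgroup.mem_center_iff.mpr hcon)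
      obtain ⟨g, hg⟩ := this
      set k := g * a * g⁻¹ * a⁻¹ with hk
      have hk1 : k ≠ 1 := by
        intro h
        apply hg
        rw [hk, mul_inv_eq_one, mul_inv_eq_iff_eq_mul] at h
        exact h
      have hkI : IsP p k := by
        apply (haI.conj g).mul haI.inv
        have := k2 g
        calc g * a * g⁻¹ * a⁻¹ = a⁻¹ * (a * (g * a * g⁻¹)) * a⁻¹ := by group
          _ = a⁻¹ * ((g * a * g⁻¹) * a) * a⁻¹ := by rw [this]
          _ = a⁻¹ * (g * a * g⁻¹) := by group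
      have h4 : orderOf k ∣ Nat.card (rstab (cl b)) := Subgroup.orderOf_dvd_natCard _ (k1 g)
      have h5 := card_rstab_dvd (cl b)
      rw [ncard_cl] at h5
      exact (hkI.dvd_orderOf hp hk1).trans (h4.trans h5)
    have Eps : E p G p s := hbs p hpb
    by_cases hα : ∃ g : G, a * g = g * a ∧ ¬ p ∣ orderOf g ∧ p ∣ cs (a * g)
    · obtain ⟨g, hag, hog, hpg⟩ := hα
      have hco : (orderOf a).Coprime (orderOf g) := haI.coprime hp hog
      have hz : p ∣ orderOf (a * g) := dvd_orderOf_mul hag hco hoa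
      have hrz : r ∣ cs (a * g) := hra.trans (cs_dvd_mul_left hag hco)
      exact ⟨p, p, hp, hp, ⟨a * g, hz, hrz, hpg⟩, ⟨a * g, hz, hpg, hpg⟩, Eps⟩
    · push Not at hα
      obtain ⟨H, hH1, hH2⟩ := lemmaS P a haC haI (fun g h1 h2 => hα g h1 h2)
      by_cases hHc : ∃ h ∈ H, h ∉ Subgroup.center G
      · obtain ⟨h, hh, hhc⟩ := hHc
        obtain ⟨hoh, hah, hPh⟩ := hH1 h hh
        have hcs1 : cs h ≠ 1 := fun e => hhc ((cs_eq_one_iff h).mp e)
        obtain ⟨t, ht, hth⟩ := Nat.exists_prime_and_dvd hcs1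
        have hco : (orderOf a).Coprime (orderOf h) := haI.coprime hp hoh
        have hcob : (orderOf b).Coprime (orderOf h) := hbI.coprime hp hoh
        have hbh : b * h = h * b := hPh b hbP
        have hob : p ∣ orderOf b := hbI.dvd_orderOf hp hb1
        exact ⟨t, p, ht, hp,
          ⟨a * h, dvd_orderOf_mul hah hco hoa, hra.trans (cs_dvd_mul_left hah hco),
            hth.trans (cs_dvd_mul_right hah hco)⟩,
          ⟨b * h, dvd_orderOf_mul hbh hcob hob, hth.trans (cs_dvd_mul_right hbh hcob),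
            hpb.trans (cs_dvd_mul_left hbh hcob)⟩, Eps⟩
      · push Not at hHc
        by_cases hd : ∃ d : G, IsP p d ∧ p ∣ cs d ∧ ¬ (cs d).Coprime (cs a)
        · obtain ⟨d, hdI, hpd, hnc⟩ := hd
          obtain ⟨t, ht, htd, hta⟩ := Nat.Prime.not_coprime_iff_dvd.mp hnc
          have hd1 : d ≠ 1 := by
            intro h
            rw [h, cs_one'] at hpd
            exact hp.one_lt.ne' (Nat.dvd_one.mp hpd)
          exact ⟨t, p, ht, hp, Era t hta, ⟨d, hdI.dvd_orderOf hp hd1, htd, hpd⟩, Eps⟩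
        · push Not at hd
          exfalso
          apply lemmaQ hZ P a haP haC hanc ?_ (fun d h1 h2 => hd d h1 h2) ⟨b, hbI, hpb⟩
          intro u hu
          obtain ⟨d, hd', h, hh, rfl⟩ := hH2 u hu
          exact ⟨d, hd', h, hHc h hh, rfl⟩

theorem core [Finite G] {p : ℕ} [hpf : Fact p.Prime] (hZ : ¬ p ∣ Nat.card ↥(Subgroup.center G))
    (P : Sylow p G) (x y b : G) (hxP : ∀ d ∈ (P : Subgroup G), d * x = x * d)
    (hox : p ∣ orderOf x) {r s : ℕ} (hrx : r ∣ cs x) (hoy : p ∣ orderOf y) (hsy : s ∣ cs y)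
    (hcop : (cs x).Coprime (cs y)) (hby : b ∈ Subgroup.zpowers y) (hbP : b ∈ (P : Subgroup G))
    (hb1 : b ≠ 1) : Conn3 p G r s := by
  have hp : p.Prime := hpf.out
  obtain ⟨a, haz, x', hx'z, hxax, haI, hox'⟩ := qsplit p hp x
  have ha1 : a ≠ 1 := by
    intro h
    rw [h, one_mul] at hxax
    rw [← hxax] at hox'
    exact hox' hox
  have hzC : ∀ u ∈ Subgroup.zpowers x, ∀ d ∈ (P : Subgroup G), d * u = u * d := by
    intro u hu d hd
    obtain ⟨k, rfl⟩ := hu
    exact ((show Commute d x from hxP d hd).zpow_right k).eq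
  have haC := hzC a haz
  have haP : a ∈ (P : Subgroup G) := mem_sylow_of_centralizes P haI haC
  have hbI : IsP p b := IsP.of_mem_sylow P hbP
  have hcsb : cs b ∣ cs y := cs_dvd_of_mem_zpowers hby
  have hbs : ∀ u : ℕ, u ∣ cs b → E p G u s := fun u hu => ⟨y, hoy, hu.trans hcsb, hsy⟩
  by_cases hx'c : x' ∈ Subgroup.center G
  · have hcsa : cs a = cs x := by
      apply Nat.dvd_antisymm (cs_dvd_of_mem_zpowers haz)
      apply Subgroup.index_dvd_of_le
      intro z hz
      rw [mem_centralizer_singleton] at hz ⊢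
      rw [Subgroup.mem_center_iff] at hx'c
      have hgoal : a * x' * z = z * (a * x') := by
        calc a * x' * z = a * (x' * z) := by group
          _ = a * (z * x') := by rw [hx'c z]
          _ = (a * z) * x' := by group
          _ = (z * a) * x' := by rw [hz]
          _ = z * (a * x') := by group
      rw [hxax]
      exact hgoal
    have hcop' : (cs a).Coprime (cs b) := by
      rw [hcsa]; exact hcop.coprime_dvd_right hcsb
    exact lemmaB hZ P a b haP haC ha1 hbP hb1 hcop' (by rw [hcsa]; exact hrx) hbs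
  · have hx'C := hzC x' hx'z
    have hbx' : x' * b = b * x' := (hx'C b hbP).symm
    have hco : (orderOf x').Coprime (orderOf b) := (hbI.coprime hp hox').symm
    have hcs1 : cs x' ≠ 1 := fun e => hx'c ((cs_eq_one_iff x').mp e)
    obtain ⟨t, ht, htx'⟩ := Nat.exists_prime_and_dvd hcs1
    have hbnc : b ∉ Subgroup.center G := not_mem_center hp hZ hbI hb1
    have hcsb1 : cs b ≠ 1 := fun e => hbnc ((cs_eq_one_iff b).mp e)
    obtain ⟨u, hu, hub⟩ := Nat.exists_prime_and_dvd hcsb1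
    have hob : p ∣ orderOf b := hbI.dvd_orderOf hp hb1
    have how : p ∣ orderOf (x' * b) := by
      rw [hbx']; exact dvd_orderOf_mul hbx'.symm hco.symm hob
    exact ⟨t, u, ht, hu, ⟨x, hox, hrx, htx'.trans (cs_dvd_of_mem_zpowers hx'z)⟩,
      ⟨x' * b, how, htx'.trans (cs_dvd_mul_left hbx' hco), hub.trans (cs_dvd_mul_right hbx' hco)⟩,
      hbs u hub⟩

theorem main_aux [Finite G] {p : ℕ} [hpf : Fact p.Prime]
    (hZ : ¬ p ∣ Nat.card ↥(Subgroup.center G)) (x y : G) (hox : p ∣ orderOf x) {r s : ℕ}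
    (hrx : r ∣ cs x) (hoy : p ∣ orderOf y) (hsy : s ∣ cs y) (hcop : (cs x).Coprime (cs y))
    (hpx : ¬ p ∣ cs x) : Conn3 p G r s := by
  have hp : p.Prime := hpf.out
  obtain ⟨b, hbz, y', hy'z, hyby, hbI, hoy'⟩ := qsplit p hp y
  have hb1 : b ≠ 1 := by
    intro h
    rw [h, one_mul] at hyby
    rw [← hyby] at hoy'
    exact hoy' hoy
  have hpg : IsPGroup p (Subgroup.zpowers b) := by
    obtain ⟨k, hk⟩ := hbI.orderOf_dvd
    obtain ⟨j, _, hj⟩ := (Nat.dvd_prime_pow hp).mp hk
    exact IsPGroup.of_card (n := j) (by rw [Nat.card_zpowers, hj])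
  obtain ⟨P, hP⟩ := hpg.exists_le_sylow
  have hbP : b ∈ (P : Subgroup G) := hP (Subgroup.mem_zpowers b)
  obtain ⟨g, c, hc, hxg⟩ := Cfsg.Agent.S4160.exists_conj_mem_centralizer P x hpx
  have hoc : p ∣ orderOf c := by
    rw [← orderOf_conj' g c, ← hxg]; exact hox
  have hcsc : cs c = cs x := by
    rw [hxg, cs_conj]
  have hcP : ∀ d ∈ (P : Subgroup G), d * c = c * d := fun d hd =>
    (Subgroup.mem_centralizer_iff.mp hc) d hd
  exact core hZ P c y b hcP hoc (by rw [hcsc]; exact hrx) hoy hsy (by rw [hcsc]; exact hcop)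
    hbz hbP hb1

theorem main [Finite G] {p : ℕ} [hpf : Fact p.Prime]
    (hZ : ¬ p ∣ Nat.card ↥(Subgroup.center G)) (x y : G) (hox : p ∣ orderOf x) {r s : ℕ}
    (hrx : r ∣ cs x) (hoy : p ∣ orderOf y) (hsy : s ∣ cs y) : Conn3 p G r s := by
  have hp : p.Prime := hpf.out
  by_cases hcop : (cs x).Coprime (cs y)
  · by_cases hpx : p ∣ cs x
    · have hpy : ¬ p ∣ cs y := fun h =>
        hp.one_lt.ne' (Nat.eq_one_of_dvd_coprimes hcop hpx h)
      exact (main_aux hZ y x hoy hsy hox hrx hcop.symm hpy).symm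
    · exact main_aux hZ x y hox hrx hoy hsy hcop hpx
  · obtain ⟨t, ht, htx, hty⟩ := Nat.Prime.not_coprime_iff_dvd.mp hcop
    exact ⟨t, t, ht, ht, ⟨x, hox, hrx, htx⟩, ⟨x, hox, htx, htx⟩, ⟨y, hoy, hty, hsy⟩⟩

/-- Let `G` be a finite group and `p` a prime not dividing the order of the centre of `G`. Consider the primes dividing the size of some conjugacy class of a `p`-singular element (an element of order divisible by `p`), two of them adjacent when their product divides such a class size. Then any two distinct such primes are joined by a path with at most 3 edges (the graph is connected of diameter at most 3). -/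
theorem result {G : Type*} [Group G] [Finite G] (p : ℕ) [Fact p.Prime]
    (hZ : ¬ p ∣ Nat.card ↥(Subgroup.center G)) (r s : ℕ) (hr : (r.Prime ∧ ∃ x : G, p ∣ orderOf x ∧ r ∣ (Subgroup.centralizer ({x} : Set G)).index)) (hs : (s.Prime ∧ ∃ x : G, p ∣ orderOf x ∧ s ∣ (Subgroup.centralizer ({x} : Set G)).index)) (hrs : r ≠ s) :
    (∃ x : G, p ∣ orderOf x ∧ r * s ∣ (Subgroup.centralizer ({x} : Set G)).index) ∨ (∃ t : ℕ, (t.Prime ∧ ∃ x : G, p ∣ orderOf x ∧ t ∣ (Subgroup.centralizer ({x} : Set G)).index) ∧ t ≠ r ∧ t ≠ s ∧ (∃ x : G, p ∣ orderOf x ∧ r * t ∣ (Subgroup.centralizer ({x} : Set G)).index) ∧ (∃ x : G, p ∣ orderOf x ∧ t * s ∣ (Subgroup.centralizer ({x} : Set G)).index)) ∨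
      (∃ t u : ℕ, (t.Prime ∧ ∃ x : G, p ∣ orderOf x ∧ t ∣ (Subgroup.centralizer ({x} : Set G)).index) ∧ (u.Prime ∧ ∃ x : G, p ∣ orderOf x ∧ u ∣ (Subgroup.centralizer ({x} : Set G)).index) ∧ t ≠ r ∧ u ≠ s ∧ t ≠ u ∧ (∃ x : G, p ∣ orderOf x ∧ r * t ∣ (Subgroup.centralizer ({x} : Set G)).index) ∧ (∃ x : G, p ∣ orderOf x ∧ t * u ∣ (Subgroup.centralizer ({x} : Set G)).index) ∧ (∃ x : G, p ∣ orderOf x ∧ u * s ∣ (Subgroup.centralizer ({x} : Set G)).index)) := by
  obtain ⟨hrp, x, hox, hrx⟩ := hr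
  obtain ⟨hsp, y, hoy, hsy⟩ := hs
  exact finish hrp hsp hrs (main hZ x y hox hrx hoy hsy)

end Cfsg.Agent.S4321
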