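import Cfsg.Statements.S4325
import Cfsg.Agent.Lib.Helper72.SwapColoring

set_option autoImplicit false
open Cfsg

namespace Cfsg.Agent.S4325

open Cfsg.Agent.Lib.Helper72

/-- Let r be a prime and m a natural number with m + 1 < r, and let π be a set of primes containing every prime below r but not r itself. Then in the symmetric group of degree r any m transpositions generate a π-subgroup, while O_π of the symmetric group is trivial. (So no bound on the number of conjugates that works for all π exists in the π-radical analogue of the Baer–Suzuki Theorem.) -/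
theorem result (r m : ℕ) (hr : r.Prime)
    (hm : m + 1 < r) (π : Set ℕ) (hπ : ∀ q : ℕ, q.Prime → q < r → q ∈ π) (hrπ : r ∉ π)
    (t : Fin m → Equiv.Perm (Fin r)) (ht : ∀ i, (t i).IsSwap) :
    Cfsg.IsPiSubgroup π (Subgroup.closure (Set.range t)) ∧ Cfsg.piCore π (Equiv.Perm (Fin r)) = ⊥ := by
  have : Fact r.Prime := ⟨hr⟩
  constructor
  · obtain ⟨c, hc1, hc2⟩ := exists_swap_coloring m t ht
    rw [Fintype.card_fin] at hc2
    have hcard : 1 < (Finset.univ.image c).card := by omega
    obtain ⟨y0, hy0, y1, hy1, hne⟩ := Finset.one_lt_card.mp hcard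
    rw [Finset.mem_image] at hy0 hy1
    obtain ⟨x0, -, rfl⟩ := hy0
    obtain ⟨x1, -, rfl⟩ := hy1
    have hinv : ∀ g ∈ Subgroup.closure (Set.range t), ∀ x, c (g x) = c x := by
      intro g hg x
      apply coloring_invariant_of_mem_closure c (Set.range t) _ hg x
      rintro σ ⟨i, rfl⟩ x
      exact hc1 i x
    intro q hq hqdvd
    have hqr : q ≤ r := by
      have h1 : q ∣ Nat.card (Equiv.Perm (Fin r)) := hqdvd.trans (Subgroup.card_subgroup_dvd_card _)
      rw [Nat.card_eq_fintype_card, Fintype.card_perm, Fintype.card_fin] at h1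
      exact (Nat.Prime.dvd_factorial hq).mp h1
    rcases lt_or_eq_of_le hqr with hlt | heq
    · exact hπ q hq hlt
    · exfalso
      subst heq
      obtain ⟨σ, hσ⟩ := exists_prime_orderOf_dvd_card' q hqdvd
      have hσ' : orderOf (σ : Equiv.Perm (Fin q)) = q := by
        rw [Subgroup.orderOf_coe]; exact hσ
      have hcyc : (σ : Equiv.Perm (Fin q)).IsCycle := by
        apply Equiv.Perm.isCycle_of_prime_order'' (by rw [Fintype.card_fin]; exact hq)
        rw [hσ', Fintype.card_fin]
      have hsupp : (σ : Equiv.Perm (Fin q)).support = Finset.univ := by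
        apply Finset.eq_univ_of_card
        rw [← hcyc.orderOf, hσ', Fintype.card_fin]
      have h0 : (σ : Equiv.Perm (Fin q)) x0 ≠ x0 := by
        rw [← Equiv.Perm.mem_support, hsupp]; exact Finset.mem_univ _
      have h1 : (σ : Equiv.Perm (Fin q)) x1 ≠ x1 := by
        rw [← Equiv.Perm.mem_support, hsupp]; exact Finset.mem_univ _
      obtain ⟨i, hi⟩ := hcyc.exists_zpow_eq h0 h1
      apply hne
      rw [← hi]
      exact (hinv _ (Subgroup.zpow_mem _ σ.2 i) x0).symm
  · unfold Cfsg.piCore
    rw [sSup_eq_bot]
    rintro N ⟨hN, hNπ⟩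
    by_contra hne
    have := hN
    have h1 := card_dvd_card_of_normal_ne_bot N hne
    rw [Fintype.card_fin] at h1
    exact hrπ (hNπ r hr h1)

end Cfsg.Agent.S4325
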