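import Cfsg.Statements.S4326
-- import your own Cfsg.Agent.* helpers here

set_option autoImplicit false
open Pointwise
open Cfsg

namespace Cfsg.Agent.S4326

/-- A `p^n`-th root of the identity on a finite set of size divisible by `p` having a fixed point has
another fixed point. -/
theorem exists_other_fixed {α : Type*} [Finite α] (p n : ℕ) [Fact p.Prime] (f : α → α)
    (hf : f^[p ^ n] = id) (hp : p ∣ Nat.card α) (a : α) (ha : f a = a) :
    ∃ b, b ≠ a ∧ f b = b := by
  classical
  have := Fintype.ofFinite α
  let F : Function.End α := f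
  have hpow : ∀ m : ℕ, (F ^ m : Function.End α) = (f^[m] : α → α) := by
    intro m
    induction m with
    | zero => rfl
    | succ m ih => rw [pow_succ', ih, Function.iterate_succ']; rfl
  have h1 : F ^ p ^ n = 1 := by rw [hpow, hf]; rfl
  have h := Equiv.Perm.card_fixedPoints_modEq (p := p) (n := n) h1
  rw [Nat.card_eq_fintype_card] at hp
  have h2 : p ∣ Fintype.card (Function.fixedPoints F) :=
    (Nat.modEq_zero_iff_dvd.mp (h.symm.trans (Nat.modEq_zero_iff_dvd.mpr hp)))
  have ha' : a ∈ Function.fixedPoints F := ha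
  have h3 : 1 < Fintype.card (Function.fixedPoints F) := by
    have hpos : 0 < Fintype.card (Function.fixedPoints F) :=
      Fintype.card_pos_iff.mpr ⟨⟨a, ha'⟩⟩
    have := Nat.le_of_dvd hpos h2
    have hp2 : 2 ≤ p := (Fact.out : p.Prime).two_le
    omega
  obtain ⟨b, hb⟩ := Fintype.exists_ne_of_one_lt_card h3 ⟨a, ha'⟩
  exact ⟨b.1, fun h => hb (Subtype.ext h), b.2⟩

/-- the map induced on left cosets of `M` by an automorphism stabilising `M`. -/
def quotMap {G : Type*} [Group G] (x : MulAut G) (M : Subgroup G) (h : ∀ g, g ∈ M → x g ∈ M) :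
    G ⧸ M → G ⧸ M :=
  Quotient.map' x (by
    intro a b hab
    rw [QuotientGroup.leftRel_apply] at hab ⊢
    have := h _ hab
    simpa using this)

theorem quotMap_mk {G : Type*} [Group G] (x : MulAut G) (M : Subgroup G)
    (h : ∀ g, g ∈ M → x g ∈ M) (g : G) :
    quotMap x M h (QuotientGroup.mk g) = QuotientGroup.mk (x g) := rfl

theorem quotMap_iterate {G : Type*} [Group G] (x : MulAut G) (M : Subgroup G)
    (h : ∀ g, g ∈ M → x g ∈ M) (n : ℕ) (g : G) :
    (quotMap x M h)^[n] (QuotientGroup.mk g) = QuotientGroup.mk ((x ^ n) g) := by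
  induction n generalizing g with
  | zero => simp
  | succ n ih =>
    rw [Function.iterate_succ_apply, quotMap_mk, ih, pow_succ]
    rfl

/-- Let G be a finite group, p a prime, x an automorphism of G of p-power order and M the subgroup of fixed points of x. Suppose that p divides the index of M and that either M is self-normalizing or M has trivial center. Then some conjugate of M is mapped onto itself by x but is not fixed elementwise by x. -/
theorem result {G : Type*} [Group G] [Finite G]
    (p : ℕ) [Fact p.Prime] (x : MulAut G) (hx : ∃ k : ℕ, orderOf x = p ^ k) (M : Subgroup G)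
    (hM : ∀ g : G, g ∈ M ↔ x g = g) (hp : p ∣ M.index)
    (hself : Subgroup.normalizer (M : Set G) = M ∨ Subgroup.center M = ⊥) :
    ∃ g : G, (∀ y ∈ MulAut.conj g • M, x y ∈ MulAut.conj g • M) ∧ ∃ y ∈ MulAut.conj g • M, x y ≠ y := by
  obtain ⟨k, hk⟩ := hx
  have hxM : ∀ g, g ∈ M → x g ∈ M := fun g hg => by rw [(hM g).mp hg]; exact hg
  have hxk : x ^ (p ^ k) = 1 := by rw [← hk]; exact pow_orderOf_eq_one x
  -- Step 1: a coset `gM ≠ M` fixed by `x`.
  have hiter : (quotMap x M hxM)^[p ^ k] = id := by
    funext c
    induction c using QuotientGroup.induction_on with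
    | H g => rw [quotMap_iterate, hxk]; rfl
  have hfix1 : quotMap x M hxM (QuotientGroup.mk (1 : G)) = QuotientGroup.mk (1 : G) := by
    rw [quotMap_mk, map_one]
  obtain ⟨c, hc1, hc2⟩ := exists_other_fixed p k (quotMap x M hxM) hiter hp _ hfix1
  induction c using QuotientGroup.induction_on with
  | H g =>
  rw [quotMap_mk] at hc2
  have hgM : g ∉ M := by
    intro hg
    apply hc1
    rw [QuotientGroup.eq]
    simpa using hg
  have hm0 : g⁻¹ * x g ∈ M := by
    have := QuotientGroup.eq.mp hc2.symm
    exact this
  -- Step 2: `g` does not normalise `M`.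
  have hgN : g ∉ Subgroup.normalizer (M : Set G) := by
    rcases hself with h | h
    · rw [h]; exact hgM
    · intro hgN
      apply hgM
      rw [hM]
      -- c = x g * g⁻¹ centralises M and lies in M
      have hcM : x g * g⁻¹ ∈ M := by
        have := (Subgroup.mem_normalizer_iff.mp hgN (g⁻¹ * x g)).mp hm0
        simpa [mul_assoc] using this
      have hcent : (⟨x g * g⁻¹, hcM⟩ : M) ∈ Subgroup.center M := by
        rw [Subgroup.mem_center_iff]
        intro m
        apply Subtype.ext
        change (m : G) * (x g * g⁻¹) = x g * g⁻¹ * m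
        -- g⁻¹ m g ∈ M is fixed by x
        have h1 : g⁻¹ * m * g ∈ M := by
          have hginv : g⁻¹ ∈ Subgroup.normalizer (M : Set G) := Subgroup.inv_mem _ hgN
          have := (Subgroup.mem_normalizer_iff.mp hginv m).mp m.2
          simpa using this
        have h2 : x (g⁻¹ * m * g) = g⁻¹ * m * g := (hM _).mp h1
        have h3 : x (m : G) = m := (hM _).mp m.2
        rw [map_mul, map_mul, map_inv, h3] at h2
        -- (x g)⁻¹ * m * x g = g⁻¹ * m * g
        have h4 : (m : G) * x g * g⁻¹ = x g * g⁻¹ * m := by
          have : (m : G) * x g = x g * (g⁻¹ * m * g) := by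
            rw [← h2]; group
          rw [this]; group
        rw [← mul_assoc]; exact h4
      rw [h, Subgroup.mem_bot] at hcent
      have h5 : x g * g⁻¹ = 1 := congrArg Subtype.val hcent
      exact mul_inv_eq_one.mp h5
  -- Step 3
  refine ⟨g, ?_, ?_⟩
  · intro y hy
    rw [Subgroup.mem_pointwise_smul_iff_inv_smul_mem] at hy ⊢
    have hy' : g⁻¹ * y * g ∈ M := by simpa using hy
    have h1 : x (g⁻¹ * y * g) = g⁻¹ * y * g := (hM _).mp hy'
    have h2 : g⁻¹ * x y * g = (g⁻¹ * x g) * (g⁻¹ * y * g) * (g⁻¹ * x g)⁻¹ := by
      rw [← h1, map_mul, map_mul, map_inv]; group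
    have h3 : g⁻¹ * x y * g ∈ M := by
      rw [h2]; exact M.mul_mem (M.mul_mem hm0 hy') (M.inv_mem hm0)
    simpa using h3
  · by_contra hcon
    push Not at hcon
    apply hgN
    -- conj g maps M into M
    have hsub : ∀ m ∈ M, g * m * g⁻¹ ∈ M := by
      intro m hm
      rw [hM]
      apply hcon
      rw [Subgroup.mem_pointwise_smul_iff_inv_smul_mem]
      simpa [mul_assoc] using hm
    let φ : M → M := fun m => ⟨g * m * g⁻¹, hsub m m.2⟩
    have hφi : Function.Injective φ := by
      intro a b hab
      have := congrArg Subtype.val hab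
      apply Subtype.ext
      simpa [φ] using this
    have hφs : Function.Surjective φ := Finite.surjective_of_injective hφi
    rw [Subgroup.mem_normalizer_iff]
    intro h
    constructor
    · exact hsub h
    · intro hh
      obtain ⟨m, hm⟩ := hφs ⟨g * h * g⁻¹, hh⟩
      have := congrArg Subtype.val hm
      have h6 : (m : G) = h := by simpa [φ] using this
      rw [← h6]; exact m.2

end Cfsg.Agent.S4326
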