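import Cfsg.Statements.S4331
import Cfsg.Agent.Lib.Helper1.PCore

set_option autoImplicit false
open Cfsg

namespace Cfsg.Agent.S4331

/-- The semidihedral group of order 16: `r i = r^i`, `sr i = s * r^i`, with `s r s = r^3`. -/
inductive SD16 : Type
  | r : ZMod 8 → SD16
  | sr : ZMod 8 → SD16
  deriving DecidableEq, Fintype

namespace SD16

def mul : SD16 → SD16 → SD16
  | r i, r j => r (i + j)
  | r i, sr j => sr (3 * i + j)
  | sr i, r j => sr (i + j)
  | sr i, sr j => r (3 * i + j)

def inv : SD16 → SD16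
  | r i => r (-i)
  | sr i => sr (5 * i)

instance : Mul SD16 := ⟨mul⟩
instance : One SD16 := ⟨r 0⟩
instance : Inv SD16 := ⟨inv⟩

theorem mul_assoc' : ∀ a b c : SD16, a * b * c = a * (b * c) := by decide
theorem one_mul' : ∀ a : SD16, 1 * a = a := by decide
theorem mul_one' : ∀ a : SD16, a * 1 = a := by decide
theorem inv_mul_cancel' : ∀ a : SD16, a⁻¹ * a = 1 := by decide

instance : Group SD16 where
  mul_assoc := mul_assoc'
  one_mul := one_mul'
  mul_one := mul_one'
  inv_mul_cancel := inv_mul_cancel'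

end SD16

/-- multiplication by `1 + i` on `F_9 = F_3[i]`. -/
def rot (v : ZMod 3 × ZMod 3) : ZMod 3 × ZMod 3 := (v.1 - v.2, v.1 + v.2)

/-- the Frobenius automorphism of `F_9`. -/
def refl (v : ZMod 3 × ZMod 3) : ZMod 3 × ZMod 3 := (v.1, -v.2)

def act : SD16 → ZMod 3 × ZMod 3 → ZMod 3 × ZMod 3
  | SD16.r i, v => rot^[i.val] v
  | SD16.sr i, v => refl (rot^[i.val] v)

theorem act_add : ∀ (h : SD16) (v w : ZMod 3 × ZMod 3), act h (v + w) = act h v + act h w := by
  decide

theorem act_mul : ∀ (h k : SD16) (v : ZMod 3 × ZMod 3), act (h * k) v = act h (act k v) := by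
  decide

theorem act_one : ∀ v : ZMod 3 × ZMod 3, act 1 v = v := by decide

theorem act_zero : ∀ h : SD16, act h 0 = 0 := by decide

/-- The group `3^2 : SD_16 = AΓL_1(9)` of order 144. -/
structure G144 where
  v : ZMod 3 × ZMod 3
  h : SD16
  deriving DecidableEq, Fintype

namespace G144

instance : Mul G144 := ⟨fun a b => ⟨a.v + act a.h b.v, a.h * b.h⟩⟩
instance : One G144 := ⟨⟨0, 1⟩⟩
instance : Inv G144 := ⟨fun a => ⟨act a.h⁻¹ (-a.v), a.h⁻¹⟩⟩

theorem mul_def (a b : G144) : a * b = ⟨a.v + act a.h b.v, a.h * b.h⟩ := rfl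
theorem one_def : (1 : G144) = ⟨0, 1⟩ := rfl
theorem inv_def (a : G144) : a⁻¹ = ⟨act a.h⁻¹ (-a.v), a.h⁻¹⟩ := rfl

instance : Group G144 where
  mul_assoc a b c := by
    simp only [mul_def, act_add, act_mul, add_assoc, mul_assoc]
  one_mul a := by
    simp only [mul_def, one_def, act_one, zero_add, one_mul]
  mul_one a := by
    simp only [mul_def, one_def, act_zero, add_zero, mul_one]
  inv_mul_cancel a := by
    simp only [mul_def, one_def, inv_def, ← act_add, neg_add_cancel, act_zero, inv_mul_cancel]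

end G144

/-- the involution `a = (0, s)` -/
def a0 : G144 := ⟨0, SD16.sr 0⟩

/-- a translation not commuting with `a0` -/
def t0 : G144 := ⟨(0, 1), 1⟩

set_option maxRecDepth 100000 in
theorem classes_good : ∀ c : G144, ∃ x : G144,
    (a0 * (x * c * x⁻¹) = (x * c * x⁻¹) * a0 ∨ (x * c * x⁻¹).v = 0) := by
  decide

theorem isSubnormal_of_isNilpotent {N : Type*} [Group N] [Finite N] [Group.IsNilpotent N]
    (H : Subgroup N) : H.IsSubnormal := by
  induction H using WellFoundedGT.induction with
  | ind H ih =>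
    by_cases hH : H = ⊤
    · rw [hH]; exact Subgroup.IsSubnormal.top
    · have h1 : H < Subgroup.normalizer (H : Set N) :=
        Group.normalizerCondition_of_isNilpotent H (lt_top_iff_ne_top.2 hH)
      exact Subgroup.IsSubnormal.step H _ h1.le (ih _ h1)
        (Subgroup.normal_subgroupOf_of_le_normalizer le_rfl)

theorem normal_zpowers_of_commute {G : Type*} [Group G] {x y : G} (h : Commute x y) :
    ((Subgroup.zpowers x).subgroupOf (Subgroup.zpowers x ⊔ Subgroup.zpowers y)).Normal := by
  apply Subgroup.normal_subgroupOf_of_le_normalizer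
  refine sup_le Subgroup.le_normalizer ?_
  rw [Subgroup.zpowers_le]
  apply Subgroup.centralizer_le_normalizer
  rw [Subgroup.mem_centralizer_iff]
  intro g hg
  obtain ⟨k, rfl⟩ := Subgroup.mem_zpowers_iff.mp hg
  exact (h.zpow_left k).eq

/-- projection onto the complement -/
def proj : G144 →* SD16 where
  toFun g := g.h
  map_one' := rfl
  map_mul' _ _ := rfl

theorem card_SD16 : Nat.card SD16 = 2 ^ 4 := by
  rw [Nat.card_eq_fintype_card]; decide

theorem isSolvable_G144 : Group.IsSolvable G144 := by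
  have h1 : Group.IsSolvable SD16 := by
    have := (IsPGroup.of_card card_SD16).isNilpotent
    infer_instance
  have h2 : Group.IsSolvable ↥proj.ker := by
    apply Group.isSolvable_of_comm
    rintro ⟨x, hx⟩ ⟨y, hy⟩
    apply Subtype.ext
    have hx' : x.h = 1 := hx
    have hy' : y.h = 1 := hy
    show x * y = y * x
    simp only [G144.mul_def, hx', hy', act_one, add_comm]
  exact Group.isSolvable_of_ker_le_range proj.ker.subtype proj (by simp)

/-- the complement `{(0, h)}`, a Sylow 2-subgroup -/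
def compl : Subgroup G144 where
  carrier := {g | g.v = 0}
  mul_mem' := by
    intro x y hx hy
    have hx' : x.v = 0 := hx
    have hy' : y.v = 0 := hy
    show (x * y).v = 0
    simp only [G144.mul_def, hx', hy', act_zero, add_zero]
  one_mem' := rfl
  inv_mem' := by
    intro x hx
    have hx' : x.v = 0 := hx
    show (x⁻¹).v = 0
    simp only [G144.inv_def, hx', neg_zero, act_zero]

theorem mem_compl {g : G144} : g ∈ compl ↔ g.v = 0 := Iff.rfl

def complEquiv : ↥compl ≃ SD16 where
  toFun g := g.1.h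
  invFun h := ⟨⟨0, h⟩, rfl⟩
  left_inv := by
    rintro ⟨⟨v, h⟩, hv⟩
    have hv' : v = 0 := hv
    subst hv'
    rfl
  right_inv _ := rfl

theorem isPGroup_compl : IsPGroup 2 ↥compl := by
  apply IsPGroup.of_card (n := 4)
  rw [Nat.card_congr complEquiv, card_SD16]

theorem a0_sq : a0 * a0 = 1 := by decide
theorem a0_ne_one : a0 ≠ 1 := by decide

theorem orderOf_a0 : orderOf a0 = 2 :=
  orderOf_eq_prime (by rw [pow_two]; exact a0_sq) a0_ne_one

/-- `b0 = a0 * (t0 a0 t0⁻¹)` has order 3. -/
theorem b0_cube : (a0 * (t0 * a0 * t0⁻¹)) ^ 3 = 1 := by decide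
theorem b0_ne_one : a0 * (t0 * a0 * t0⁻¹) ≠ 1 := by decide

theorem orderOf_b0 : orderOf (a0 * (t0 * a0 * t0⁻¹)) = 3 :=
  orderOf_eq_prime b0_cube b0_ne_one

/-- There is a finite solvable group G with a subgroup A of order 2 such that every conjugacy class of G contains an element g for which A is subnormal in the subgroup generated by A and g, and yet A is not contained in O_2(G). (So the corresponding criteria for odd primes fail at the prime 2, even for solvable groups.) -/
theorem result :
    ∃ (G : Type) (_ : Group G) (_ : Finite G) (A : Subgroup G), Group.IsSolvable G ∧ Nat.card A = 2 ∧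
      (∀ c : G, ∃ g : G, IsConj c g ∧ (A.subgroupOf (A ⊔ Subgroup.zpowers g)).IsSubnormal) ∧
      ¬ A ≤ Cfsg.pCore 2 G := by
  refine ⟨G144, inferInstance, inferInstance, Subgroup.zpowers a0, isSolvable_G144, ?_, ?_, ?_⟩
  · rw [Nat.card_zpowers, orderOf_a0]
  · intro c
    obtain ⟨x, hx⟩ := classes_good c
    refine ⟨x * c * x⁻¹, isConj_iff.mpr ⟨x, rfl⟩, ?_⟩
    rcases hx with hx | hx
    · exact (normal_zpowers_of_commute (show Commute a0 (x * c * x⁻¹) from hx)).isSubnormal
    · have ha : a0 ∈ compl := rfl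
      have hg : x * c * x⁻¹ ∈ compl := hx
      have hle : Subgroup.zpowers a0 ⊔ Subgroup.zpowers (x * c * x⁻¹) ≤ compl :=
        sup_le ((Subgroup.zpowers_le).mpr ha) ((Subgroup.zpowers_le).mpr hg)
      have hp : IsPGroup 2 ↥(Subgroup.zpowers a0 ⊔ Subgroup.zpowers (x * c * x⁻¹)) :=
        isPGroup_compl.to_le hle
      have := hp.isNilpotent
      exact isSubnormal_of_isNilpotent _
  · intro hle
    have ha : a0 ∈ Cfsg.pCore 2 G144 := hle (Subgroup.mem_zpowers a0)
    have hn : (Cfsg.pCore 2 G144).Normal := Cfsg.Agent.Lib.Helper1.pCore_normal 2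
    have hb : a0 * (t0 * a0 * t0⁻¹) ∈ Cfsg.pCore 2 G144 :=
      (Cfsg.pCore 2 G144).mul_mem ha (hn.conj_mem a0 ha t0)
    have hp : IsPGroup 2 ↥(Cfsg.pCore 2 G144) := Cfsg.Agent.Lib.Helper1.pCore_isPGroup 2
    obtain ⟨k, hk⟩ := hp ⟨_, hb⟩
    have hk' : (a0 * (t0 * a0 * t0⁻¹)) ^ (2 ^ k) = 1 := by
      have := congrArg Subtype.val hk
      simpa using this
    have hdvd : 3 ∣ 2 ^ k := by
      rw [← orderOf_b0]; exact orderOf_dvd_of_pow_eq_one hk'
    have h3 : 3 ∣ 2 := Nat.Prime.dvd_of_dvd_pow Nat.prime_three hdvd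
    omega

end Cfsg.Agent.S4331
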