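import Cfsg.Statements.S4332
import Cfsg.Agent.Lib.Helper72.SwapColoring

set_option autoImplicit false
open Pointwise
open Cfsg

namespace Cfsg.Agent.S4332

open Equiv Equiv.Perm

theorem swap_mul_swap_rotate {α : Type*} [DecidableEq α] {a b d : α} (had : a ≠ d)
    (hbd : b ≠ d) : swap b d * swap b a = swap a b * swap a d := by
  have h := Equiv.swap_apply_apply (swap a b) a d
  rw [swap_apply_left, swap_apply_of_ne_of_ne had.symm hbd.symm] at h
  rw [h, swap_comm b a]
  simp [mul_assoc]

theorem conj_swap_mul_swap (c : Perm (Fin 8)) (x y z : Fin 8) :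
    c * (swap x y * swap x z) * c⁻¹ = swap (c x) (c y) * swap (c x) (c z) := by
  rw [swap_apply_apply, swap_apply_apply]; group

theorem exists_of_indep (c : Perm (Fin 8)) {x y z : Fin 8} (hxy : x ≠ y) (hxz : x ≠ z)
    (hyz : y ≠ z) (h1 : c x ≠ x) (h2 : c x ≠ y) (h3 : c x ≠ z) (h4 : c y ≠ x) (h5 : c y ≠ y)
    (h6 : c y ≠ z) (h7 : c z ≠ x) (h8 : c z ≠ y) (h9 : c z ≠ z) :
    ∃ τ : Perm (Fin 8), τ.IsThreeCycle ∧ Commute τ (c * τ * c⁻¹) := by
  refine ⟨swap x y * swap x z, isThreeCycle_swap_mul_swap_same hxy hxz hyz, ?_⟩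
  rw [conj_swap_mul_swap]
  have i1 : c x ≠ c y := c.injective.ne hxy
  have i2 : c x ≠ c z := c.injective.ne hxz
  have i3 : c y ≠ c z := c.injective.ne hyz
  apply Disjoint.commute
  apply Disjoint.mul_left <;> apply Disjoint.mul_right <;> apply disjoint_swap_swap <;>
    simp [*, Ne.symm]

theorem key (c : Perm (Fin 8)) :
    ∃ τ : Perm (Fin 8), τ.IsThreeCycle ∧ Commute τ (c * τ * c⁻¹) := by
  by_cases hF : 2 < c.supportᶜ.card
  · obtain ⟨x, hx, y, hy, z, hz, hxy, hxz, hyz⟩ := Finset.two_lt_card.mp hF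
    rw [Finset.mem_compl, notMem_support] at hx hy hz
    refine ⟨swap x y * swap x z, isThreeCycle_swap_mul_swap_same hxy hxz hyz, ?_⟩
    rw [conj_swap_mul_swap, hx, hy, hz]
  · have hS : 6 ≤ c.support.card := by
      have h1 : c.supportᶜ.card = 8 - c.support.card := by
        rw [Finset.card_compl, Fintype.card_fin]
      have h2 : c.support.card ≤ 8 := by simpa using Finset.card_le_univ c.support
      omega
    by_cases hB : ∃ x, c x ≠ x ∧ c (c (c x)) = x
    · obtain ⟨x, hx1, hx3⟩ := hB
      have hab : x ≠ c x := Ne.symm hx1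
      have had : x ≠ c (c x) := by
        intro h
        apply hx1
        rw [← h] at hx3
        exact hx3
      have hbd : c x ≠ c (c x) := c.injective.ne hab
      refine ⟨swap x (c x) * swap x (c (c x)), isThreeCycle_swap_mul_swap_same hab had hbd, ?_⟩
      rw [conj_swap_mul_swap, hx3, swap_mul_swap_rotate had hbd]
    · by_cases hC : ∃ x, c x ≠ x ∧ c (c x) ≠ x ∧ c (c (c x)) ≠ x
      · obtain ⟨x, hx1, hx2, hx3⟩ := hC
        have hU : ({c⁻¹ x, x, c x, c (c x), c (c (c x))} : Finset (Fin 8)).card < c.support.card :=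
          lt_of_le_of_lt Finset.card_le_five (by omega)
        obtain ⟨z, hzS, hzU⟩ := Finset.exists_mem_notMem_of_card_lt_card hU
        simp only [Finset.mem_insert, Finset.mem_singleton, not_or] at hzU
        obtain ⟨hz0, hz1, hz2, hz3, hz4⟩ := hzU
        rw [mem_support] at hzS
        have hz0' : c z ≠ x := by
          intro h
          apply hz0
          rw [← h]; simp
        refine exists_of_indep c (x := x) (y := c (c x)) (z := z) (Ne.symm hx2) (Ne.symm hz1) (Ne.symm hz3)
          hx1 ?_ (Ne.symm hz2) hx3 ?_ (Ne.symm hz4) hz0' ?_ hzS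
        · exact c.injective.ne (Ne.symm hx1)
        · exact c.injective.ne (c.injective.ne hx1)
        · exact c.injective.ne hz2
      · have hinv : ∀ x, c x ≠ x → c (c x) = x := by
          intro x hx1
          by_contra hx2
          exact hB ⟨x, hx1, by
            by_contra hx3
            exact hC ⟨x, hx1, hx2, hx3⟩⟩
        have hpos : 0 < c.support.card := by omega
        obtain ⟨x, hxS⟩ := Finset.card_pos.mp hpos
        rw [mem_support] at hxS
        have hU1 : ({x, c x} : Finset (Fin 8)).card < c.support.card :=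
          lt_of_le_of_lt Finset.card_le_two (by omega)
        obtain ⟨y, hyS, hyU⟩ := Finset.exists_mem_notMem_of_card_lt_card hU1
        simp only [Finset.mem_insert, Finset.mem_singleton, not_or] at hyU
        obtain ⟨hy0, hy1⟩ := hyU
        rw [mem_support] at hyS
        have hU2 : ({x, c x, y, c y} : Finset (Fin 8)).card < c.support.card :=
          lt_of_le_of_lt Finset.card_le_four (by omega)
        obtain ⟨z, hzS, hzU⟩ := Finset.exists_mem_notMem_of_card_lt_card hU2
        simp only [Finset.mem_insert, Finset.mem_singleton, not_or] at hzU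
        obtain ⟨hz0, hz1, hz2, hz3⟩ := hzU
        rw [mem_support] at hzS
        refine exists_of_indep c (x := x) (y := y) (z := z) (Ne.symm hy0) (Ne.symm hz0) (Ne.symm hz2)
          hxS (Ne.symm hy1) (Ne.symm hz1) ?_ hyS (Ne.symm hz3) ?_ ?_ hzS
        · intro h
          apply hy1
          rw [← hinv y hyS, h]
        · intro h
          apply hz1
          rw [← hinv z hzS, h]
        · intro h
          apply hz3
          rw [← hinv z hzS, h]

theorem normal_zpowers_of_commute {G : Type*} [Group G] {x y : G} (h : Commute x y) :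
    ((Subgroup.zpowers x).subgroupOf (Subgroup.zpowers x ⊔ Subgroup.zpowers y)).Normal := by
  apply Subgroup.normal_subgroupOf_of_le_normalizer
  refine sup_le Subgroup.le_normalizer ?_
  rw [Subgroup.zpowers_le]
  apply Subgroup.centralizer_le_normalizer
  rw [Subgroup.mem_centralizer_iff]
  intro g hg
  obtain ⟨k, rfl⟩ := Subgroup.mem_zpowers_iff.mp hg
  exact (h.zpow_left k).eq

/-- In the symmetric group of degree 8, let A be the subgroup generated by a 3-cycle. Then every conjugacy class contains an element g for which A is subnormal in the subgroup generated by A and its conjugate by g, although O_3 of the symmetric group of degree 8 is trivial. -/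
theorem result
    (σ : Equiv.Perm (Fin 8)) (hσ : σ.IsThreeCycle) :
    (∀ c : Equiv.Perm (Fin 8), ∃ g : Equiv.Perm (Fin 8), IsConj c g ∧
      ((Subgroup.zpowers σ).subgroupOf (Subgroup.zpowers σ ⊔ MulAut.conj g • Subgroup.zpowers σ)).IsSubnormal) ∧
    Cfsg.pCore 3 (Equiv.Perm (Fin 8)) = ⊥ := by
  refine ⟨?_, ?_⟩
  · intro c
    obtain ⟨τ, hτ, hcomm⟩ := key c
    have hconj : IsConj τ σ := by
      rw [isConj_iff_cycleType_eq, hτ.cycleType, hσ.cycleType]
    obtain ⟨π, hπ⟩ := isConj_iff.mp hconj
    refine ⟨π * c * π⁻¹, isConj_iff.mpr ⟨π, rfl⟩, ?_⟩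
    have hsmul : MulAut.conj (π * c * π⁻¹) • Subgroup.zpowers σ =
        Subgroup.zpowers ((π * c * π⁻¹) * σ * (π * c * π⁻¹)⁻¹) := by
      change (Subgroup.zpowers σ).map ((MulAut.conj (π * c * π⁻¹)).toMonoidHom) = _
      rw [MonoidHom.map_zpowers]
      rfl
    rw [hsmul]
    apply Subgroup.Normal.isSubnormal
    apply normal_zpowers_of_commute
    rw [← hπ]
    have h1 : π * c * π⁻¹ * (π * τ * π⁻¹) * (π * c * π⁻¹)⁻¹ = π * (c * τ * c⁻¹) * π⁻¹ := by group
    rw [h1]
    exact (Commute.conj_iff π).mpr hcomm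
  · unfold Cfsg.pCore
    rw [sSup_eq_bot]
    rintro N ⟨hN, hNp⟩
    by_contra hne
    have := hN
    have h1 := Cfsg.Agent.Lib.Helper72.card_dvd_card_of_normal_ne_bot N hne
    rw [Fintype.card_fin] at h1
    obtain ⟨k, hk⟩ := IsPGroup.iff_card.mp hNp
    rw [hk] at h1
    have h2 : 2 ∣ 3 ^ k := dvd_trans (by norm_num) h1
    have h3 : 2 ∣ 3 := Nat.Prime.dvd_of_dvd_pow Nat.prime_two h2
    omega

end Cfsg.Agent.S4332
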