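import Cfsg.Statements.S4334
import Cfsg.Agent.Lib.Helper96.HallDirect

set_option autoImplicit false
open Cfsg
open scoped Pointwise

namespace Cfsg.Agent.S4334

open Cfsg.Agent.Lib.Helper96

/-- a Hall subgroup is a maximal `π`-subgroup -/
theorem maximal_of_hall {G : Type*} [Group G] [Finite G] (τ : Set ℕ) (Ht : Subgroup G)
    (ht : Cfsg.IsPiSubgroup τ Ht) (hall : ∀ p : ℕ, p.Prime → p ∈ τ → ¬ p ∣ Ht.index) :
    Maximal (Cfsg.IsPiSubgroup τ) Ht := by
  refine ⟨ht, ?_⟩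
  intro K hK hle
  have h1 : Ht.relIndex K = 1 := by
    rw [Nat.eq_one_iff_not_exists_prime_dvd]
    intro p hp hpd
    have h2 : p ∣ Nat.card K := hpd.trans (Subgroup.relIndex_dvd_card Ht K)
    exact hall p hp (hK p hp h2) (hpd.trans (Subgroup.relIndex_dvd_index_of_le hle))
  exact Subgroup.relIndex_eq_one.mp h1

/-- Let σ and τ be disjoint sets of primes with union π. Suppose a finite group G has a Hall π-subgroup H which is the direct product of a nilpotent σ-subgroup and a τ-subgroup (two elementwise-commuting subgroups generating H), and that the maximal τ-subgroups of G are pairwise conjugate. Then the maximal π-subgroups of G are pairwise conjugate. -/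
theorem result {G : Type*} [Group G] [Finite G]
    (σ τ π : Set ℕ) (hπ : π = σ ∪ τ) (hd : Disjoint σ τ) (H Hs Ht : Subgroup G) (hH : Cfsg.IsPiHall π H)
    (hs : Cfsg.IsPiSubgroup σ Hs) (ht : Cfsg.IsPiSubgroup τ Ht) (hsn : Group.IsNilpotent Hs)
    (hjoin : Hs ⊔ Ht = H) (hcomm : ∀ a ∈ Hs, ∀ b ∈ Ht, a * b = b * a) (hD : Cfsg.IsDPiGroup τ G) :
    Cfsg.IsDPiGroup π G := by
  subst hπ
  have hHsH : Hs ≤ H := hjoin ▸ le_sup_left
  have hHtH : Ht ≤ H := hjoin ▸ le_sup_right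
  have hHtN : Ht ≤ Subgroup.normalizer (Hs : Set G) := by
    refine le_trans ?_ (Subgroup.centralizer_le_normalizer _)
    intro b hb
    rw [Subgroup.mem_centralizer_iff]
    intro a ha
    exact hcomm a ha b hb
  have hcard : Nat.card H ∣ Nat.card Hs * Nat.card Ht := by
    rw [← hjoin]
    exact Cfsg.Agent.Lib.Helper22.card_sup_dvd_mul_of_le_normalizer hHtN
  have hrel_s : Hs.relIndex H ∣ Nat.card Ht := by
    rw [← Cfsg.Agent.Lib.Helper54.card_mul_relIndex hHsH] at hcard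
    exact Nat.dvd_of_mul_dvd_mul_left Nat.card_pos hcard
  have hrel_t : Ht.relIndex H ∣ Nat.card Hs := by
    rw [← Cfsg.Agent.Lib.Helper54.card_mul_relIndex hHtH, mul_comm (Nat.card Hs)] at hcard
    exact Nat.dvd_of_mul_dvd_mul_left Nat.card_pos hcard
  have hallσ : ∀ p : ℕ, p.Prime → p ∈ σ → ¬ p ∣ Hs.index := by
    intro p hp hpσ hdvd
    rw [← Subgroup.relIndex_mul_index hHsH] at hdvd
    rcases (Nat.Prime.dvd_mul hp).mp hdvd with h1 | h1
    · exact (Set.disjoint_left.mp hd) hpσ (ht p hp (h1.trans hrel_s))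
    · exact hH.2 p hp (Or.inl hpσ) h1
  have hallτ : ∀ p : ℕ, p.Prime → p ∈ τ → ¬ p ∣ Ht.index := by
    intro p hp hpτ hdvd
    rw [← Subgroup.relIndex_mul_index hHtH] at hdvd
    rcases (Nat.Prime.dvd_mul hp).mp hdvd with h1 | h1
    · exact (Set.disjoint_left.mp hd) (hs p hp (h1.trans hrel_t)) hpτ
    · exact hH.2 p hp (Or.inr hpτ) h1
  have hHtmax := maximal_of_hall τ Ht ht hallτ
  have hdτ : ∀ T : Subgroup G, Cfsg.IsPiSubgroup τ T → ∃ g : G, T ≤ MulAut.conj g • Ht := by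
    intro T hT
    obtain ⟨T₁, hTT₁, hT₁⟩ := Finite.exists_le_maximal (p := Cfsg.IsPiSubgroup τ) hT
    obtain ⟨g, hg⟩ := hD Ht T₁ hHtmax hT₁
    exact ⟨g, hTT₁.trans (le_of_eq hg)⟩
  have hpair : HallPair σ τ Hs Ht :=
    { comm := hcomm, nil := hsn, sσ := hs, tτ := ht, hallσ := hallσ, hallτ := hallτ, disj := hd,
      dτ := hdτ }
  -- every maximal `π`-subgroup is a conjugate of `H`
  have hHπ : Cfsg.IsPiSubgroup (σ ∪ τ) H := hH.1
  have key : ∀ K : Subgroup G, Maximal (Cfsg.IsPiSubgroup (σ ∪ τ)) K →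
      ∃ g : G, K = MulAut.conj g • H := by
    intro K hK
    obtain ⟨g, hg⟩ := hpair.exists_le_conj K hK.1
    rw [hjoin] at hg
    refine ⟨g, le_antisymm hg (hK.2 ?_ hg)⟩
    intro p hp hpd
    rw [card_conj_smul] at hpd
    exact hHπ p hp hpd
  intro K₁ K₂ hK₁ hK₂
  obtain ⟨g₁, hg₁⟩ := key K₁ hK₁
  obtain ⟨g₂, hg₂⟩ := key K₂ hK₂
  refine ⟨g₂ * g₁⁻¹, ?_⟩
  rw [hg₁, hg₂]
  ext x
  have h1 : x ∈ (MulAut.conj g₁ • H).map (MulAut.conj (g₂ * g₁⁻¹)).toMonoidHom ↔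
      x ∈ MulAut.conj (g₂ * g₁⁻¹) • (MulAut.conj g₁ • H) := Iff.rfl
  rw [h1, mem_conj_smul_iff, mem_conj_smul_iff, mem_conj_smul_iff]
  have h2 : g₁⁻¹ * ((g₂ * g₁⁻¹)⁻¹ * x * (g₂ * g₁⁻¹)) * g₁ = g₂⁻¹ * x * g₂ := by group
  rw [h2]

end Cfsg.Agent.S4334
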