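import Cfsg.Statements.S4337
import Cfsg.Agent.Lib.Helper72.SwapColoring
import Cfsg.Agent.Lib.Helper72.PermSolvable

set_option autoImplicit false
open Cfsg

namespace Cfsg.Agent.S4337

open Cfsg.Agent.Lib.Helper72

/-- In a finite symmetric group, any three transpositions generate a solvable subgroup. -/
theorem result (n : ℕ) (a b c : Equiv.Perm (Fin n))
    (ha : a.IsSwap) (hb : b.IsSwap) (hc : c.IsSwap) :
    Group.IsSolvable (Subgroup.closure ({a, b, c} : Set (Equiv.Perm (Fin n)))) := by
  have ht : ∀ i : Fin 3, ((![a, b, c] : Fin 3 → Equiv.Perm (Fin n)) i).IsSwap := by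
    intro i
    fin_cases i
    · exact ha
    · exact hb
    · exact hc
  obtain ⟨col, hcol1, hcol2⟩ := exists_swap_coloring 3 ![a, b, c] ht
  have hfib : ∀ y : Fin n, (Finset.univ.filter (fun x => col x = y)).card ≤ 4 :=
    fun y => card_fiber_le_of_many_colors col 3 hcol2 y
  have hinv : ∀ σ ∈ Subgroup.closure ({a, b, c} : Set (Equiv.Perm (Fin n))), ∀ x, col (σ x) = col x := by
    intro σ hσ x
    apply coloring_invariant_of_mem_closure col _ _ hσ x
    intro τ hτ x
    rcases hτ with rfl | rfl | rfl
    · exact hcol1 0 x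
    · exact hcol1 1 x
    · exact hcol1 2 x
  exact isSolvable_of_preserves_coloring col hfib _ hinv

end Cfsg.Agent.S4337
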