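import Cfsg.Statements.S4341
import Cfsg.Agent.Lib.Helper72.SylowCount

set_option autoImplicit false
open Cfsg

namespace Cfsg.Agent.S4341

open Cfsg.Agent.Lib.Helper72 Subgroup

/-- Let K be a normal subgroup of a finite group G, p a prime and P a Sylow p-subgroup of G; let N be the normalizer of P ∩ K inside the subgroup PK. Then the number of Sylow p-subgroups of G equals the product of the numbers of Sylow p-subgroups of G/K, of K, and of N/(P ∩ K). (The normality of P ∩ K in N, which always holds, is assumed as a hypothesis so that the quotient can be formed.) -/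
theorem result {G : Type*} [Group G] [Finite G]
    (p : ℕ) [Fact p.Prime] (K : Subgroup G) [K.Normal] (P : Sylow p G) (N : Subgroup G)
    (hN : N = ((P : Subgroup G) ⊔ K) ⊓ Subgroup.normalizer (((P : Subgroup G) ⊓ K : Subgroup G) : Set G))
    [hn : (((P : Subgroup G) ⊓ K).subgroupOf N).Normal] :
    Nat.card (Sylow p G) =
      Nat.card (Sylow p (G ⧸ K)) * Nat.card (Sylow p K) * Nat.card (Sylow p (N ⧸ ((P : Subgroup G) ⊓ K).subgroupOf N)) := by
  set A := normalizer ((P : Subgroup G) : Set G) with hA
  set L := (P : Subgroup G) ⊔ K with hL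
  set Q := (P : Subgroup G) ⊓ K with hQ
  set C := normalizer (Q : Set G) with hC
  have hAC : A ≤ C := by
    have h1 : A ⊓ normalizer (K : Set G) ≤ C := inf_normalizer_le_normalizer_inf
    rw [normalizer_eq_top, inf_top_eq] at h1
    exact h1
  have hPC : (P : Subgroup G) ≤ C := le_normalizer.trans hAC
  have hNL : N ≤ L := by rw [hN]; exact inf_le_left
  have hPN : (P : Subgroup G) ≤ N := by rw [hN]; exact le_inf le_sup_left hPC
  have hKL : K ≤ L := le_sup_right
  have hQp : IsPGroup p Q := P.2.to_le inf_le_left
  -- I1, I2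
  have I1 : Nat.card (Sylow p G) = A.index := Sylow.card_eq_index_normalizer P
  have I2 := card_sylow_quotient_eq_index P K
  -- I3
  have I3 : Nat.card (Sylow p K) = C.relIndex K := by
    apply card_sylow_subgroup_eq_relIndex Q K inf_le_right hQp
    intro hdvd
    rw [hQ, inf_relIndex_right, ← relIndex_sup_of_normal_right] at hdvd
    exact P.not_dvd_index (hdvd.trans (relIndex_dvd_index_of_le le_sup_left))
  -- I4
  have I4 : Nat.card (Sylow p (N ⧸ Q.subgroupOf N)) = A.relIndex N := by
    have hQN : IsPGroup p (Q.subgroupOf N) := hQp.comap_subtype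
    exact (card_sylow_quotient_of_isPGroup (Q.subgroupOf N) hQN).trans
      (card_sylow_subgroup_eq_relIndex' P N hPN)
  rw [I1, I2, I3, I4, index_normalizer_sylow_eq_mul P K, mul_assoc]
  congr 1
  -- `A.relIndex L = C.relIndex K * A.relIndex N`
  have hle : A ⊓ L ≤ N := by
    rw [hN]; exact le_inf inf_le_right (inf_le_left.trans hAC)
  have h1 := relIndex_mul_relIndex (A ⊓ L) N L hle hNL
  rw [inf_relIndex_right] at h1
  have h2 : (A ⊓ L).relIndex N = A.relIndex N := by
    rw [← inf_relIndex_right (A ⊓ L) N, inf_assoc, inf_of_le_right hNL, inf_relIndex_right]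
  have h3 : N.relIndex L = C.relIndex K := by
    rw [hN, inf_relIndex_left]
    have hsup : (C ⊓ L) ⊔ K = L := by
      apply le_antisymm
      · exact sup_le inf_le_right hKL
      · rw [hL]
        exact sup_le (le_sup_of_le_left (le_inf hPC le_sup_left)) le_sup_right
    have h4 := relIndex_sup_of_normal_right (C ⊓ L) K
    rw [hsup, inf_relIndex_right] at h4
    rw [h4, ← inf_relIndex_right (C ⊓ L) K, inf_assoc, inf_of_le_right hKL, inf_relIndex_right]
  rw [← h1, h2, h3, mul_comm]

end Cfsg.Agent.S4341
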