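import Cfsg.Statements.S4342
-- import your own Cfsg.Agent.* helpers here

set_option autoImplicit false
open Cfsg

namespace Cfsg.Agent.S4342

open scoped Pointwise

/-- Quotienting by the centre does not change the number of Sylow `p`-subgroups. -/
theorem card_sylow_quotient_center {K : Type*} [Group K] [Finite K] (p : ℕ) [Fact p.Prime] :
    Nat.card (Sylow p (K ⧸ Subgroup.center K)) = Nat.card (Sylow p K) := by
  have hf : Function.Surjective (QuotientGroup.mk' (Subgroup.center K)) :=
    QuotientGroup.mk'_surjective _
  symm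
  apply Nat.card_congr
  refine Equiv.ofBijective (Sylow.mapSurjective hf) ⟨?_, Sylow.mapSurjective_surjective hf p⟩
  intro P Q hPQ
  have h1 : (P : Subgroup K).map (QuotientGroup.mk' (Subgroup.center K)) =
      (Q : Subgroup K).map (QuotientGroup.mk' (Subgroup.center K)) := by
    have := congrArg Sylow.toSubgroup hPQ
    simpa using this
  have h2 : (P : Subgroup K) ⊔ Subgroup.center K = (Q : Subgroup K) ⊔ Subgroup.center K := by
    have := congrArg (Subgroup.comap (QuotientGroup.mk' (Subgroup.center K))) h1
    rw [Subgroup.comap_map_eq, Subgroup.comap_map_eq, QuotientGroup.ker_mk'] at this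
    exact this
  set M : Subgroup K := (P : Subgroup K) ⊔ Subgroup.center K with hM
  have hPM : (P : Subgroup K) ≤ M := le_sup_left
  have hQM : (Q : Subgroup K) ≤ M := by rw [h2]; exact le_sup_left
  have hn : ((P.subtype hPM : Sylow p M) : Subgroup M).Normal := by
    rw [Sylow.coe_subtype]
    apply Subgroup.normal_subgroupOf_of_le_normalizer
    exact sup_le Subgroup.le_normalizer (Subgroup.center_le_normalizer _)
  obtain ⟨c, hc⟩ := MulAction.exists_smul_eq M (P.subtype hPM) (Q.subtype hQM)
  rw [Sylow.smul_eq_of_normal] at hc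
  exact Sylow.subtype_injective hc

/-- A normal subgroup of index prime to `p` has the same number of Sylow `p`-subgroups. -/
theorem card_sylow_of_normal_of_not_dvd_index {G : Type*} [Group G] [Finite G] (p : ℕ)
    [Fact p.Prime] (H : Subgroup G) [H.Normal] (hp : ¬ p ∣ H.index) :
    Nat.card (Sylow p H) = Nat.card (Sylow p G) := by
  have hidx : ∀ Q : Sylow p H, ¬ p ∣ ((Q : Subgroup H).map H.subtype).index := by
    intro Q
    rw [Subgroup.index_map_subtype]
    exact Nat.Prime.not_dvd_mul Fact.out Q.not_dvd_index hp
  let f : Sylow p H → Sylow p G := fun Q => (Q.2.map H.subtype).toSylow (hidx Q)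
  have hf_coe : ∀ Q : Sylow p H, ((f Q : Sylow p G) : Subgroup G) = (Q : Subgroup H).map H.subtype :=
    fun Q => rfl
  apply Nat.card_congr
  refine Equiv.ofBijective f ⟨?_, ?_⟩
  · intro Q1 Q2 h
    have h' : (Q1 : Subgroup H).map H.subtype = (Q2 : Subgroup H).map H.subtype := by
      rw [← hf_coe, ← hf_coe, h]
    exact Sylow.ext (Subgroup.map_injective H.subtype_injective h')
  · intro P
    have hPH : (P : Subgroup G) ≤ H := by
      obtain ⟨Q0⟩ : Nonempty (Sylow p H) := inferInstance
      obtain ⟨g, hg⟩ := MulAction.exists_smul_eq G (f Q0) P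
      rw [← hg]
      intro y hy
      change y ∈ MulAut.conj g • ((f Q0 : Sylow p G) : Subgroup G) at hy
      rw [Subgroup.mem_pointwise_smul_iff_inv_smul_mem, hf_coe] at hy
      have h1 : g⁻¹ * y * g ∈ H := by
        have : (MulAut.conj g)⁻¹ • y ∈ H := Subgroup.map_subtype_le _ hy
        simpa using this
      have h2 := ‹H.Normal›.conj_mem _ h1 g
      simpa [mul_assoc] using h2
    refine ⟨P.subtype hPH, ?_⟩
    apply Sylow.ext
    rw [hf_coe, Sylow.coe_subtype, Subgroup.subgroupOf_map_subtype, inf_of_le_left hPH]

/-- Let H be a normal subgroup of a finite group G and p a prime not dividing the index of H. Then the number of Sylow p-subgroups of H/Z(H) equals the number of Sylow p-subgroups of G. -/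
theorem result {G : Type*} [Group G] [Finite G]
    (p : ℕ) [Fact p.Prime] (H : Subgroup G) [H.Normal] (hp : ¬ p ∣ H.index) :
    Nat.card (Sylow p (H ⧸ Subgroup.center H)) = Nat.card (Sylow p G) := by
  rw [card_sylow_quotient_center, card_sylow_of_normal_of_not_dvd_index p H hp]

end Cfsg.Agent.S4342
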