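import Cfsg.Statements.S4343
-- import your own Cfsg.Agent.* helpers here

set_option autoImplicit false
open Cfsg

namespace Cfsg.Agent.S4343

open Subgroup
open scoped Pointwise

variable {S : Type*} [Group S] [Finite S] {p : ℕ} [Fact p.Prime]

omit [Finite S] [Fact p.Prime] in
/-- size of the orbit of the Sylow subgroup `R` under conjugation by the Sylow subgroup `T`. -/
theorem ncard_orbit_eq (T R : Sylow p S) :
    (MulAction.orbit (T : Subgroup S) R).ncard = ((T : Subgroup S) ⊓ R).relIndex T := by
  rw [← MulAction.index_stabilizer]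
  have h1 : MulAction.stabilizer (T : Subgroup S) R =
      (normalizer ((R : Subgroup S) : Set S)).subgroupOf T := by
    ext x
    rw [MulAction.mem_stabilizer_iff, Subgroup.mem_subgroupOf]
    exact Sylow.smul_eq_iff_mem_normalizer
  rw [h1]
  change (normalizer ((R : Subgroup S) : Set S)).relIndex T = _
  rw [← inf_relIndex_right, inf_comm]
  exact congrArg (fun H : Subgroup S => H.relIndex T) (T.2.inf_normalizer_sylow R)

/-- L1 -/
theorem relIndex_inf_eq (hn : Nat.card (Sylow p S) < p ^ 2) (T R : Sylow p S) (hTR : T ≠ R) :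
    ((T : Subgroup S) ⊓ R).relIndex T = p := by
  have hp : p.Prime := Fact.out
  have h1 : ((T : Subgroup S) ⊓ R).relIndex T < p ^ 2 := by
    rw [← ncard_orbit_eq]
    exact lt_of_le_of_lt (Set.ncard_le_card _) hn
  obtain ⟨k, hk⟩ := T.2.exists_card_eq
  have h2 : ((T : Subgroup S) ⊓ R).relIndex T ∣ p ^ k := hk ▸ relIndex_dvd_card _ _
  obtain ⟨j, -, hj⟩ := (Nat.dvd_prime_pow hp).mp h2
  rw [hj] at h1 ⊢
  have hj2 : j < 2 := (Nat.pow_lt_pow_iff_right hp.one_lt).mp h1
  have hj0 : j ≠ 0 := by
    rintro rfl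
    rw [pow_zero, relIndex_eq_one] at hj
    apply hTR
    have hle : (T : Subgroup S) ≤ R := hj.trans inf_le_right
    exact (Sylow.ext (T.3 R.2 hle)).symm
  have : j = 1 := by omega
  rw [this, pow_one]

/-- L2 -/
theorem le_normalizer_inf (hn : Nat.card (Sylow p S) < p ^ 2) (T R : Sylow p S) (hTR : T ≠ R) :
    (T : Subgroup S) ≤ normalizer (((T : Subgroup S) ⊓ R : Subgroup S) : Set S) := by
  have hp : p.Prime := Fact.out
  rw [← normal_subgroupOf_iff_le_normalizer inf_le_left]
  apply normal_of_index_eq_minFac_card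
  change ((T : Subgroup S) ⊓ R).relIndex T = _
  rw [relIndex_inf_eq hn T R hTR]
  obtain ⟨k, hk⟩ := T.2.exists_card_eq
  have hk0 : k ≠ 0 := by
    rintro rfl
    have h1 := relIndex_dvd_card ((T : Subgroup S) ⊓ R) T
    rw [relIndex_inf_eq hn T R hTR, hk, pow_zero] at h1
    exact hp.one_lt.ne' (Nat.dvd_one.mp h1)
  rw [hk, Nat.pow_minFac hk0, hp.minFac_eq]

/-- L2' -/
theorem inf_smul_eq (hn : Nat.card (Sylow p S) < p ^ 2) (T R : Sylow p S) (hTR : T ≠ R)
    (x : S) (hx : x ∈ T) : (T : Subgroup S) ⊓ ((x • R : Sylow p S) : Subgroup S) = (T : Subgroup S) ⊓ R := by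
  have hN := le_normalizer_inf hn T R hTR hx
  have hN' : x⁻¹ ∈ normalizer (((T : Subgroup S) ⊓ R : Subgroup S) : Set S) := Subgroup.inv_mem _ hN
  ext y
  change y ∈ (T : Subgroup S) ∧ y ∈ MulAut.conj x • (R : Subgroup S) ↔ _
  rw [Subgroup.mem_pointwise_smul_iff_inv_smul_mem]
  have e1 : (MulAut.conj x)⁻¹ • y = x⁻¹ * y * x := by simp
  rw [e1]
  have h2 := mem_normalizer_iff.mp hN' y
  rw [inv_inv] at h2
  rw [h2, Subgroup.mem_inf]
  constructor
  · rintro ⟨hy, hyR⟩
    exact ⟨T.1.mul_mem (T.1.mul_mem (T.1.inv_mem hx) hy) hx, hyR⟩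
  · rintro ⟨hy, hyR⟩
    refine ⟨?_, hyR⟩
    have := T.1.mul_mem (T.1.mul_mem hx hy) (T.1.inv_mem hx)
    simpa [mul_assoc] using this

/-- Two subgroups of `P` with the same nonzero index in `P`, one inside the other, coincide. -/
theorem eq_of_le_of_relIndex_eq {H1 H2 P : Subgroup S} (h12 : H1 ≤ H2) (h2 : H2 ≤ P)
    (h : H1.relIndex P = H2.relIndex P) : H1 = H2 := by
  have h3 := relIndex_mul_relIndex H1 H2 P h12 h2
  have h4 : H2.relIndex P ≠ 0 := by
    change (H2.subgroupOf P).index ≠ 0
    exact Subgroup.index_ne_zero_of_finite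
  have h5 : H1.relIndex H2 = 1 := by
    rw [h] at h3
    exact Nat.eq_of_mul_eq_mul_right (Nat.pos_of_ne_zero h4) (by rw [h3, one_mul])
  exact le_antisymm h12 (relIndex_eq_one.mp h5)

/-- a finite nonabelian simple group has more than one Sylow `p`-subgroup when `p ∣ |S|`. -/
theorem exists_ne_sylow [IsSimpleGroup S] (hS : ¬ IsMulCommutative S) (hp : p ∣ Nat.card S)
    (P : Sylow p S) : ∃ Q : Sylow p S, Q ≠ P := by
  by_contra hcon
  push Not at hcon
  have hPn : (P : Subgroup S).Normal := by
    rw [← normalizer_eq_top_iff, eq_top_iff]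
    intro g _
    exact Sylow.smul_eq_iff_mem_normalizer.mp (hcon _)
  rcases hPn.eq_bot_or_eq_top with h | h
  · exact P.ne_bot_of_dvd_card hp h
  · have hSp : IsPGroup p S := by
      intro g
      obtain ⟨k, hk⟩ := P.2 ⟨g, h ▸ mem_top g⟩
      exact ⟨k, by simpa using congrArg Subtype.val hk⟩
    have hc : Nontrivial (center S) := hSp.center_nontrivial
    have hcne : center S ≠ ⊥ := by
      intro hbot
      obtain ⟨a, b, hab⟩ := hc
      apply hab
      have ha : (a : S) ∈ (⊥ : Subgroup S) := hbot ▸ a.2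
      have hb : (b : S) ∈ (⊥ : Subgroup S) := hbot ▸ b.2
      rw [mem_bot] at ha hb
      exact Subtype.ext (ha.trans hb.symm)
    have hctop : center S = ⊤ :=
      ((inferInstance : (center S).Normal).eq_bot_or_eq_top).resolve_left hcne
    apply hS
    refine ⟨⟨fun a b => ?_⟩⟩
    have hb : b ∈ center S := hctop ▸ mem_top b
    exact (mem_center_iff.mp hb a)

/-- Let S be a finite non-abelian simple group and p a prime dividing its order. If S has fewer than p² Sylow p-subgroups, then its Sylow p-subgroups have order p. -/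
theorem result {S : Type*} [Group S] [Finite S]
    [IsSimpleGroup S] (hS : ¬ IsMulCommutative S) (p : ℕ) [Fact p.Prime] (hp : p ∣ Nat.card S)
    (hn : Nat.card (Sylow p S) < p ^ 2) (P : Sylow p S) : Nat.card P = p := by
  classical
  have hpp : p.Prime := Fact.out
  obtain ⟨Q, hQP⟩ := exists_ne_sylow hS hp P
  have hPQ : P ≠ Q := fun h => hQP h.symm
  set D := (P : Subgroup S) ⊓ Q with hD
  have hDP : D.relIndex P = p := relIndex_inf_eq hn P Q hPQ
  -- every Sylow subgroup containing `D` meets it with index `p`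
  have hXidx : ∀ R : Sylow p S, D ≤ R → D.relIndex R = p := by
    intro R hDR
    by_cases hRP : R = P
    · rw [hRP]; exact hDP
    · have hPR : P ≠ R := fun h => hRP h.symm
      have h1 : D = (P : Subgroup S) ⊓ R := by
        apply eq_of_le_of_relIndex_eq (P := (P : Subgroup S)) (le_inf inf_le_left hDR) inf_le_left
        rw [hDP, relIndex_inf_eq hn P R hPR]
      rw [h1, inf_comm]
      exact relIndex_inf_eq hn R P hRP
  -- Step 3
  have hDall : ∀ T : Sylow p S, D ≤ T := by
    intro T
    by_contra hDT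
    have := Fintype.ofFinite (Sylow p S)
    let X : Finset (Sylow p S) := Finset.univ.filter (fun R => D ≤ (R : Subgroup S))
    have hXmem : ∀ R, R ∈ X ↔ D ≤ (R : Subgroup S) := by
      intro R; simp [X]
    -- `X` has at least `p + 1` elements
    have hXcard : p + 1 ≤ X.card := by
      let O : Finset (Sylow p S) := (Set.toFinite (MulAction.orbit (P : Subgroup S) Q)).toFinset
      have hOcard : O.card = p := by
        rw [← Set.ncard_eq_toFinset_card, ncard_orbit_eq, ← hD, hDP]
      have hOX : O ⊆ X := by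
        intro R hR
        rw [Set.Finite.mem_toFinset] at hR
        obtain ⟨x, rfl⟩ := hR
        rw [hXmem]
        have := inf_smul_eq hn P Q hPQ (x : S) x.2
        change D ≤ (((x : S) • Q : Sylow p S) : Subgroup S)
        rw [hD, ← this]
        exact inf_le_right
      have hPO : P ∉ O := by
        intro hPO
        rw [Set.Finite.mem_toFinset] at hPO
        obtain ⟨x, hx⟩ := hPO
        have h1 := inf_smul_eq hn P Q hPQ (x : S) x.2
        have h2 : ((x : S) • Q : Sylow p S) = P := hx
        rw [h2, inf_idem, ← hD] at h1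
        rw [← h1, relIndex_self] at hDP
        exact hpp.one_lt.ne hDP
      have hPX : P ∈ X := by rw [hXmem]; exact inf_le_left
      have h3 : insert P O ⊆ X := Finset.insert_subset hPX hOX
      have h4 := Finset.card_le_card h3
      rw [Finset.card_insert_of_notMem hPO, hOcard] at h4
      exact h4
    -- orbits under `T`
    let Z : Sylow p S → Finset (Sylow p S) :=
      fun R => (Set.toFinite (MulAction.orbit (T : Subgroup S) R)).toFinset
    have hRT : ∀ R ∈ X, T ≠ R := by
      intro R hR hTR
      rw [hXmem] at hR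
      exact hDT (hTR ▸ hR)
    have hZcard : ∀ R ∈ X, (Z R).card = p := by
      intro R hR
      change (Set.toFinite (MulAction.orbit (T : Subgroup S) R)).toFinset.card = p
      rw [← Set.ncard_eq_toFinset_card, ncard_orbit_eq, relIndex_inf_eq hn T R (hRT R hR)]
    have hZinf : ∀ R ∈ X, ∀ U ∈ Z R, (T : Subgroup S) ⊓ U = (T : Subgroup S) ⊓ R := by
      intro R hR U hU
      change U ∈ (Set.toFinite (MulAction.orbit (T : Subgroup S) R)).toFinset at hU
      rw [Set.Finite.mem_toFinset] at hU
      obtain ⟨x, rfl⟩ := hU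
      exact inf_smul_eq hn T R (hRT R hR) (x : S) x.2
    have hdisj : (X : Set (Sylow p S)).PairwiseDisjoint Z := by
      intro R hR R' hR' hne
      rw [Function.onFun, Finset.disjoint_left]
      intro U hU hU'
      have hR1 : D ≤ (R : Subgroup S) := (hXmem R).mp hR
      have hR1' : D ≤ (R' : Subgroup S) := (hXmem R').mp hR'
      have e1 := hZinf R hR U hU
      have e2 := hZinf R' hR' U hU'
      -- `R ⊓ R' = D`
      have h5 : D = (R : Subgroup S) ⊓ R' := by
        apply eq_of_le_of_relIndex_eq (P := (R : Subgroup S)) (le_inf hR1 hR1') inf_le_left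
        rw [hXidx R hR1, relIndex_inf_eq hn R R' hne]
      -- `E = T ⊓ R ≤ D`
      have h6 : (T : Subgroup S) ⊓ R ≤ D := by
        rw [h5]
        refine le_inf inf_le_right ?_
        rw [← e1, e2]
        exact inf_le_right
      have h7 : (T : Subgroup S) ⊓ R = D := by
        apply eq_of_le_of_relIndex_eq (P := (R : Subgroup S)) h6 hR1
        rw [hXidx R hR1, inf_comm]
        exact relIndex_inf_eq hn R T (fun h => hRT R hR h.symm)
      apply hDT
      rw [← h7]
      exact inf_le_left
    have hcount : (X.biUnion Z).card = X.card * p := by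
      rw [Finset.card_biUnion hdisj, Finset.sum_const_nat hZcard]
    have hle : (X.biUnion Z).card ≤ Fintype.card (Sylow p S) := Finset.card_le_univ _
    rw [← Nat.card_eq_fintype_card, hcount] at hle
    have : (p + 1) * p ≤ X.card * p := Nat.mul_le_mul_right p hXcard
    nlinarith
  -- Step 4
  have hDcore : D ≤ (P : Subgroup S).normalCore := by
    intro d hd b
    have h1 : d ∈ ((b⁻¹ • P : Sylow p S) : Subgroup S) := hDall _ hd
    change d ∈ MulAut.conj b⁻¹ • (P : Subgroup S) at h1
    rw [Subgroup.mem_pointwise_smul_iff_inv_smul_mem] at h1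
    simpa using h1
  have hcore : (P : Subgroup S).normalCore = ⊥ := by
    rcases (Subgroup.normalCore_normal (P : Subgroup S)).eq_bot_or_eq_top with h | h
    · exact h
    · exfalso
      have hPtop : (P : Subgroup S) = ⊤ := top_le_iff.mp (h ▸ Subgroup.normalCore_le _)
      apply hQP
      apply Sylow.ext
      have hle : (Q : Subgroup S) ≤ P := hPtop ▸ le_top
      exact (Q.3 P.2 hle).symm
  have hDbot : D = ⊥ := le_bot_iff.mp (hcore ▸ hDcore)
  rw [hDbot, relIndex_bot_left] at hDP
  exact hDP

end Cfsg.Agent.S4343
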