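import Cfsg.Statements.S4344
-- import your own Cfsg.Agent.* helpers here

set_option autoImplicit false
open Cfsg
open scoped Pointwise

namespace Cfsg.Agent.S4344

/-- In a subgroup `C` that is commutative, two Sylow `p`-subgroups of the ambient group lying in `C`
coincide. -/
theorem sylow_eq_of_le_comm {S : Type*} [Group S] [Finite S] (p : ℕ) [Fact p.Prime]
    (C : Subgroup S) (hC : ∀ a ∈ C, ∀ b ∈ C, a * b = b * a) (P Q : Sylow p S)
    (hP : (P : Subgroup S) ≤ C) (hQ : (Q : Subgroup S) ≤ C) : P = Q := by
  have hn : ∀ H : Subgroup C, H.Normal := by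
    intro H
    refine ⟨fun n hn g => ?_⟩
    have : g * n * g⁻¹ = n := by
      have h1 : g * n = n * g := Subtype.ext (hC g g.2 n n.2)
      rw [h1, mul_inv_cancel_right]
    rwa [this]
  have hPn : ((P.subtype hP : Sylow p C) : Subgroup C).Normal := hn _
  obtain ⟨c, hc⟩ := MulAction.exists_smul_eq C (P.subtype hP) (Q.subtype hQ)
  rw [Sylow.smul_eq_of_normal] at hc
  exact Sylow.subtype_injective hc

/-- Let S be a finite non-abelian simple group, M a maximal subgroup of S and C a cyclic normal subgroup of M. If a Sylow p-subgroup P of S (for a prime p dividing the order of S) is contained in C, then the number of Sylow p-subgroups of S equals the index of M. -/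
theorem result {S : Type*} [Group S] [Finite S]
    [IsSimpleGroup S] (hS : ¬ IsMulCommutative S) (p : ℕ) [Fact p.Prime] (hp : p ∣ Nat.card S)
    (M : Subgroup S) (hM : IsCoatom M) (C : Subgroup S) (hCM : C ≤ M) (hCn : (C.subgroupOf M).Normal)
    (hC : IsCyclic C) (P : Sylow p S) (hP : (P : Subgroup S) ≤ C) :
    Nat.card (Sylow p S) = M.index := by
  -- `C` is commutative
  have hCc : ∀ a ∈ C, ∀ b ∈ C, a * b = b * a := by
    intro a ha b hb
    have hc : IsMulCommutative C := IsCyclic.isMulCommutative
    have := hc.is_comm.comm ⟨a, ha⟩ ⟨b, hb⟩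
    exact congrArg Subtype.val this
  -- `M` normalizes `P`
  have hMN : M ≤ Subgroup.normalizer (P : Set S) := by
    intro m hm
    rw [← Sylow.smul_eq_iff_mem_normalizer]
    symm
    apply sylow_eq_of_le_comm p C hCc P (m • P) hP
    intro y hy
    change y ∈ MulAut.conj m • (P : Subgroup S) at hy
    rw [Subgroup.mem_pointwise_smul_iff_inv_smul_mem] at hy
    have hy' : m⁻¹ * y * m ∈ C := hP (by simpa using hy)
    have h1 : (⟨m, hm⟩ : M) * ⟨m⁻¹ * y * m, hCM hy'⟩ * (⟨m, hm⟩ : M)⁻¹ ∈ C.subgroupOf M :=
      hCn.conj_mem _ (by simpa [Subgroup.mem_subgroupOf] using hy') _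
    rw [Subgroup.mem_subgroupOf] at h1
    simpa [mul_assoc] using h1
  -- the normalizer is not everything
  have hne : Subgroup.normalizer ((P : Subgroup S) : Set S) ≠ ⊤ := by
    intro htop
    have hPn : (P : Subgroup S).Normal := Subgroup.normalizer_eq_top_iff.mp htop
    rcases hPn.eq_bot_or_eq_top with h | h
    · exact P.ne_bot_of_dvd_card hp h
    · apply hS
      refine ⟨⟨fun a b => ?_⟩⟩
      exact hCc a (hP (h ▸ Subgroup.mem_top a)) b (hP (h ▸ Subgroup.mem_top b))
  have heq : Subgroup.normalizer ((P : Subgroup S) : Set S) = M := by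
    by_contra hcon
    exact hne (hM.2 _ (lt_of_le_of_ne hMN (Ne.symm hcon)))
  rw [Sylow.card_eq_index_normalizer P]
  exact congrArg Subgroup.index heq

end Cfsg.Agent.S4344
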