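import Cfsg.Statements.S4345
import Cfsg.Agent.Lib.Helper72.SylowCount
import Cfsg.Agent.Lib.Helper72.SolvableNormal

set_option autoImplicit false
open Cfsg

namespace Cfsg.Agent.S4345

open Cfsg.Agent.Lib.Helper72 Subgroup

universe u

/-- every prime-power part of `n` is `≡ 1` modulo `p`. -/
def Phi (p n : ℕ) : Prop := ∀ ℓ : ℕ, ℓ.Prime → ℓ ^ n.factorization ℓ ≡ 1 [MOD p]

theorem Phi_one (p : ℕ) : Phi p 1 := by
  intro ℓ _
  simp [Nat.ModEq]

theorem Phi_mul {p a b : ℕ} (ha : a ≠ 0) (hb : b ≠ 0) (h1 : Phi p a) (h2 : Phi p b) :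
    Phi p (a * b) := by
  intro ℓ hℓ
  rw [Nat.factorization_mul ha hb, Finsupp.add_apply, pow_add]
  simpa using (h1 ℓ hℓ).mul (h2 ℓ hℓ)

theorem Phi_prime_pow {p q k : ℕ} (hq : q.Prime) (h : q ^ k ≡ 1 [MOD p]) : Phi p (q ^ k) := by
  intro ℓ hℓ
  rw [hq.factorization_pow, Finsupp.single_apply]
  split_ifs with hql
  · subst hql; exact h
  · rw [pow_zero]

theorem main (p : ℕ) [Fact p.Prime] : ∀ n : ℕ, ∀ (G : Type u) [Group G] [Finite G],
    Group.IsSolvable G → Nat.card G = n → Phi p (Nat.card (Sylow p G)) := by
  intro n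
  induction n using Nat.strong_induction_on with
  | _ n ih =>
    intro G _ _ hG hn
    by_cases htriv : Subsingleton G
    · have hsub : Subsingleton (Sylow p G) := by
        refine ⟨fun S T => Sylow.ext ?_⟩
        exact Subsingleton.elim _ _
      have h1 : Nat.card (Sylow p G) = 1 := Nat.card_unique
      rw [h1]; exact Phi_one p
    · have hnt : Nontrivial G := not_subsingleton_iff_nontrivial.mp htriv
      obtain ⟨q, hq, K, hKn, hK, hKq⟩ := exists_normal_pgroup_of_solvable hG
      obtain ⟨P⟩ : Nonempty (Sylow p G) := inferInstance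
      have e1 : Nat.card (Sylow p G) = Nat.card (Sylow p (G ⧸ K)) *
          (normalizer ((P : Subgroup G) : Set G)).relIndex ((P : Subgroup G) ⊔ K) := by
        rw [card_sylow_quotient_eq_index P K]
        exact (Sylow.card_eq_index_normalizer P).trans (index_normalizer_sylow_eq_mul P K)
      have hL : Nat.card (Sylow p ((P : Subgroup G) ⊔ K : Subgroup G)) =
          (normalizer ((P : Subgroup G) : Set G)).relIndex ((P : Subgroup G) ⊔ K) :=
        card_sylow_subgroup_eq_relIndex' P _ le_sup_left
      rw [e1]
      apply Phi_mul Nat.card_pos.ne' (by rw [← hL]; exact Nat.card_pos.ne')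
      · -- induction hypothesis for `G ⧸ K`
        have hlt : Nat.card (G ⧸ K) < n := by
          have h1 : K.index * Nat.card K = Nat.card G := K.index_mul_card
          have h2 : 1 < Nat.card K := K.one_lt_card_iff_ne_bot.mpr hK
          have h3 : 0 < K.index := Nat.pos_of_ne_zero K.index_ne_zero_of_finite
          rw [← hn, ← h1]
          change K.index < _
          nlinarith
        exact ih _ hlt (G ⧸ K) inferInstance rfl
      · -- the second factor is a power of `q` congruent to `1`
        set A := normalizer ((P : Subgroup G) : Set G) with hA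
        set L := (P : Subgroup G) ⊔ K with hLdef
        have hKL : K ≤ L := le_sup_right
        have hsup : (A ⊓ L) ⊔ K = L := by
          apply le_antisymm
          · exact sup_le inf_le_right hKL
          · exact sup_le (le_sup_of_le_left (le_inf le_normalizer le_sup_left)) le_sup_right
        have h4 := relIndex_sup_of_normal_right (A ⊓ L) K
        rw [hsup, inf_relIndex_right] at h4
        have h5 : A.relIndex L = A.relIndex K := by
          rw [h4, ← inf_relIndex_right (A ⊓ L) K, inf_assoc, inf_of_le_right hKL,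
            inf_relIndex_right]
        have h6 : A.relIndex L ∣ Nat.card K := h5 ▸ relIndex_dvd_card A K
        have : Fact q.Prime := ⟨hq⟩
        obtain ⟨k, hk⟩ := hKq.exists_card_eq
        rw [hk] at h6
        obtain ⟨j, -, hj⟩ := (Nat.dvd_prime_pow hq).mp h6
        rw [hj]
        apply Phi_prime_pow hq
        rw [← hj, ← hL]
        exact card_sylow_modEq_one p _

/-- Let G be a finite solvable group and p, ℓ primes. Then the largest power of ℓ dividing the number of Sylow p-subgroups of G is congruent to 1 modulo p. -/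
theorem result {G : Type*} [Group G] [Finite G]
    (hG : Group.IsSolvable G) (p ℓ : ℕ) [Fact p.Prime] (hℓ : ℓ.Prime) :
    ℓ ^ (Nat.card (Sylow p G)).factorization ℓ ≡ 1 [MOD p] :=
  main p _ G hG rfl ℓ hℓ

end Cfsg.Agent.S4345
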