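import Cfsg.Statements.S4346
import Mathlib
import Cfsg.Agent.Lib.Helper41.N22.Defs
import Cfsg.Agent.Lib.Helper41.N22.TwoTrans
import Cfsg.Agent.Lib.Helper41.N22.PartB
import Cfsg.Agent.Lib.Helper41.N22.Stab
import Cfsg.Agent.Lib.Helper41.N22.C42Main
import Cfsg.Agent.Lib.Helper41.N22.Transfer
import Cfsg.Agent.Lib.Helper6.N22APrim
import Cfsg.Agent.Lib.Helper6.N22ACore
import Cfsg.Agent.Lib.Helper6.N22ANine
import Cfsg.Agent.Lib.Helper47.N22A
import Cfsg.Agent.Lib.Helper73.N22SylQ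
import Cfsg.Agent.Lib.Helper77.N22BY
import Cfsg.Agent.Lib.Helper11.N22BNC11

set_option autoImplicit false
open Cfsg

namespace Cfsg.Agent.S4346

open Cfsg.Agent.Lib.Helper41.N22 in
/-- Part B: the permutation data are contradictory -/
theorem false_of_permData {Ω : Type*} [Finite Ω] {H : Subgroup (Equiv.Perm Ω)} {α : Ω}
    {x : Equiv.Perm Ω} (hD : PermData H α x) : False := by
  have h42 := card_centralizer_dvd hD
  have hstab := card_stabilizer_dvd hD h42
  have hcases := card_cases hD hstab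
  have hy := Cfsg.Agent.Lib.Helper77.N22.exists_seven hD
  have hone : ∀ w ∈ H, orderOf w = 3 ∨ orderOf w = 7 → ∃ γ : Ω, ∀ ω, w ω = ω ↔ ω = γ :=
    fun w hw how => fix_unique hD hcases
      (fun q hqp hq u hu hou β hfix w hw how =>
        Cfsg.Agent.Lib.Helper73.N22.fix_unique_of_sylow_prime H q hqp hq u hu hou β hfix w hw how) hy w hw how
  exact false_of_cases hcases
    (fun g w hg hw hog how hn => Cfsg.Agent.Lib.Helper11.N22.not_normalize_eleven hD hone g w hg hw hog how hn)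

/-- No finite group has exactly 22 Sylow 3-subgroups. -/
theorem result {G : Type*} [Group G] [Finite G] : Nat.card (Sylow 3 G) ≠ 22 := by
  intro h22
  have hprim := Cfsg.Agent.Lib.Helper6.N22.isPreprimitive_sylow h22
  have h2t := Cfsg.Agent.Lib.Helper41.N22.two_trans h22 hprim
  have hidx := fun P Q hPQ =>
    Cfsg.Agent.Lib.Helper47.N22.card_eq_three_mul_card_inf h22 h2t P Q hPQ
  have hcore := fun P Q R hPQ =>
    Cfsg.Agent.Lib.Helper6.N22.inf_le_sylow h22 h2t hidx P Q R hPQ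
  obtain ⟨H, α, x, hD⟩ := Cfsg.Agent.Lib.Helper41.N22.exists_permData_aux h22 h2t hcore
    (fun P Q hPQ p₀ hP hQ R =>
      Cfsg.Agent.Lib.Helper47.N22.smul_eq_iff_of_mem_diff hidx hcore P Q hPQ p₀ hP hQ R)
    (fun P Q hPQ p₀ hP => Cfsg.Agent.Lib.Helper47.N22.cube_mem_inf hidx P Q hPQ p₀ hP)
    (fun P Q hPQ p₀ hP hQ g hg =>
      Cfsg.Agent.Lib.Helper47.N22.conj_mem_cases hidx hcore P Q hPQ p₀ hP hQ g hg)
    (fun P Q hPQ => Cfsg.Agent.Lib.Helper6.N22.not_nine_dvd_card_range hidx hcore P Q hPQ)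
  exact false_of_permData hD

end Cfsg.Agent.S4346
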