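import Cfsg.Statements.S4347
-- import your own Cfsg.Agent.* helpers here

set_option autoImplicit false
open Cfsg
open scoped Pointwise

namespace Cfsg.Agent.S4347

/-- an element of `p`-power order lies in some Sylow `p`-subgroup -/
theorem exists_sylow_mem {G : Type*} [Group G] (p : ℕ) [Fact p.Prime] (x : G)
    (hx : ∃ k : ℕ, orderOf x = p ^ k) : ∃ P : Sylow p G, x ∈ P := by
  obtain ⟨k, hk⟩ := hx
  have hP : IsPGroup p (Subgroup.zpowers x) := by
    apply IsPGroup.of_card (n := k)
    rw [Nat.card_zpowers, hk]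
  obtain ⟨Q, hQ⟩ := hP.exists_le_sylow
  exact ⟨Q, hQ (Subgroup.mem_zpowers x)⟩

/-- Let G be a finite group and p a prime. Say a Sylow p-subgroup Q is redundant when every element of p-power order lies in some Sylow p-subgroup other than Q. Then G has no redundant Sylow p-subgroup if and only if some element of p-power order lies in exactly one Sylow p-subgroup. -/
theorem result {G : Type*} [Group G] [Finite G]
    (p : ℕ) [Fact p.Prime] :
    (¬ ∃ Q : Sylow p G, ∀ x : G, (∃ k : ℕ, orderOf x = p ^ k) → ∃ P : Sylow p G, P ≠ Q ∧ x ∈ P) ↔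
      ∃ x : G, (∃ k : ℕ, orderOf x = p ^ k) ∧ ∃! P : Sylow p G, x ∈ P := by
  constructor
  · intro h
    push Not at h
    obtain ⟨Q⟩ : Nonempty (Sylow p G) := inferInstance
    obtain ⟨x, hx, hQ⟩ := h Q
    obtain ⟨P, hP⟩ := exists_sylow_mem p x hx
    have hPQ : P = Q := by
      by_contra hne
      exact hQ P hne hP
    refine ⟨x, hx, Q, hPQ ▸ hP, ?_⟩
    intro P' hP'
    by_contra hne
    exact hQ P' hne hP'
  · rintro ⟨x, hx, P, hxP, huniq⟩ ⟨Q, hQ⟩
    obtain ⟨g, rfl⟩ := MulAction.exists_smul_eq G P Q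
    have hx' : ∃ k : ℕ, orderOf (g * x * g⁻¹) = p ^ k := by
      obtain ⟨k, hk⟩ := hx
      refine ⟨k, ?_⟩
      rw [← hk]
      have := orderOf_injective (MulAut.conj g).toMonoidHom (MulAut.conj g).injective x
      simpa using this
    obtain ⟨P', hne, hmem⟩ := hQ (g * x * g⁻¹) hx'
    apply hne
    have h1 : x ∈ g⁻¹ • P' := by
      change x ∈ MulAut.conj g⁻¹ • (P' : Subgroup G)
      rw [Subgroup.mem_pointwise_smul_iff_inv_smul_mem]
      have : (MulAut.conj g⁻¹)⁻¹ • x = g * x * g⁻¹ := by simp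
      rw [this]
      exact hmem
    have h2 : g⁻¹ • P' = P := huniq _ h1
    rw [← h2, smul_inv_smul]

end Cfsg.Agent.S4347
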