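import Cfsg.Statements.S4348
-- import your own Cfsg.Agent.* helpers here

set_option autoImplicit false
open Cfsg

namespace Cfsg.Agent.S4348

/-- `O_p(G)` lies in every Sylow `p`-subgroup. -/
theorem pCore_le_sylow {G : Type*} [Group G] (p : ℕ) [Fact p.Prime] (Q : Sylow p G) :
    Cfsg.pCore p G ≤ (Q : Subgroup G) := by
  unfold Cfsg.pCore
  apply sSup_le
  rintro N ⟨hN, hNp⟩
  exact hNp.le_sylow_of_normal Q

/-- Let G be a finite group, p a prime and P a Sylow p-subgroup of G, and let O_p(G) be the largest normal p-subgroup of G. If P/O_p(G) is cyclic, then some element of p-power order of G lies in exactly one Sylow p-subgroup. -/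
theorem result {G : Type*} [Group G] [Finite G]
    (p : ℕ) [Fact p.Prime] (P : Sylow p G)
    [hn : ((Cfsg.pCore p G).subgroupOf (P : Subgroup G)).Normal]
    (hc : IsCyclic ((P : Subgroup G) ⧸ (Cfsg.pCore p G).subgroupOf (P : Subgroup G))) :
    ∃ x : G, (∃ k : ℕ, orderOf x = p ^ k) ∧ ∃! Q : Sylow p G, x ∈ Q := by
  obtain ⟨g, hg⟩ := hc.exists_generator
  obtain ⟨x', rfl⟩ := QuotientGroup.mk_surjective g
  refine ⟨(x' : G), ?_, P, x'.2, ?_⟩
  · obtain ⟨k, hk⟩ := P.isPGroup' x'
    have h1 : (x' : G) ^ (p ^ k) = 1 := by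
      have := congrArg Subtype.val hk
      simpa using this
    have h2 : orderOf (x' : G) ∣ p ^ k := orderOf_dvd_of_pow_eq_one h1
    obtain ⟨j, -, hj⟩ := (Nat.dvd_prime_pow Fact.out).mp h2
    exact ⟨j, hj⟩
  · intro Q hQ
    have hPQ : (P : Subgroup G) ≤ (Q : Subgroup G) := by
      intro y hy
      obtain ⟨n, hn'⟩ := Subgroup.mem_zpowers_iff.mp (hg (QuotientGroup.mk ⟨y, hy⟩))
      have h3 : ((x' ^ n : (P : Subgroup G)) : (P : Subgroup G) ⧸ (Cfsg.pCore p G).subgroupOf (P : Subgroup G))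
          = QuotientGroup.mk ⟨y, hy⟩ := by
        rw [← hn']; rfl
      rw [QuotientGroup.eq] at h3
      rw [Subgroup.mem_subgroupOf] at h3
      have h4 : ((x' : G) ^ n)⁻¹ * y ∈ (Q : Subgroup G) := pCore_le_sylow p Q (by simpa using h3)
      have h5 : (x' : G) ^ n ∈ (Q : Subgroup G) := Subgroup.zpow_mem _ hQ n
      have := Subgroup.mul_mem _ h5 h4
      simpa using this
    exact Sylow.ext (P.3 Q.2 hPQ)

end Cfsg.Agent.S4348
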