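import Cfsg.Statements.S4354
import Cfsg.Agent.Lib.Helper72.PClassSize

set_option autoImplicit false
open Cfsg

namespace Cfsg.Agent.S4354

/-- Let G be a finite group and p a prime such that the Sylow p-subgroups of G are non-abelian while every element of p-power order has conjugacy class size prime to p, and suppose no nontrivial proper normal subgroup N of G has this property and no quotient G/N by such an N has it. Then G is simple. -/
theorem result {G : Type*} [Group G] [Finite G]
    (p : ℕ) [Fact p.Prime] (h : ((∃ P : Sylow p G, ¬ IsMulCommutative P) ∧ ∀ x : G, (∃ k : ℕ, orderOf x = p ^ k) → ¬ p ∣ (Subgroup.centralizer ({x} : Set G)).index))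
    (hmin : ∀ (N : Subgroup G) [N.Normal], N ≠ ⊥ → N ≠ ⊤ →
      ¬ ((∃ P : Sylow p N, ¬ IsMulCommutative P) ∧ ∀ x : N, (∃ k : ℕ, orderOf x = p ^ k) → ¬ p ∣ (Subgroup.centralizer ({x} : Set N)).index) ∧
      ¬ ((∃ P : Sylow p (G ⧸ N), ¬ IsMulCommutative P) ∧ ∀ x : (G ⧸ N), (∃ k : ℕ, orderOf x = p ^ k) → ¬ p ∣ (Subgroup.centralizer ({x} : Set (G ⧸ N))).index)) :
    IsSimpleGroup G := by
  classical
  obtain ⟨⟨P, hP⟩, hcl⟩ := h
  have hnt : Nontrivial G := by
    by_contra hnt
    rw [not_nontrivial_iff_subsingleton] at hnt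
    apply hP
    rw [isMulCommutative_iff]
    intro a b
    exact Subsingleton.elim _ _
  refine { exists_pair_ne := hnt.exists_pair_ne, eq_bot_or_eq_top_of_normal := ?_ }
  intro N hN
  by_contra hcon
  rw [not_or] at hcon
  obtain ⟨h1, h2⟩ := hmin N hcon.1 hcon.2
  apply hP
  apply Cfsg.Agent.Lib.Helper72.pcs_sylow_comm N hcl
  · intro A
    by_contra hA
    apply h1
    refine ⟨⟨A, hA⟩, ?_⟩
    intro x hx
    apply Cfsg.Agent.Lib.Helper72.pcs_sub N x
    apply hcl
    obtain ⟨k, hk⟩ := hx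
    exact ⟨k, by rw [Subgroup.orderOf_coe, hk]⟩
  · intro B
    by_contra hB
    apply h2
    refine ⟨⟨B, hB⟩, ?_⟩
    intro y hy
    exact Cfsg.Agent.Lib.Helper72.pcs_quot N hcl y hy

end Cfsg.Agent.S4354
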