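import Mathlib
import Cfsg.Statements.S4357
import Cfsg.Agent.Lib.Helper41.RedundantSylowQuot
import Cfsg.Agent.Lib.Helper41.SL2SylowTwoTori
import Cfsg.Agent.Lib.Helper46.SL2
-- import your own Cfsg.Agent.* helpers here

set_option autoImplicit false
open Cfsg

namespace Cfsg.Agent.S4357

open Cfsg.Agent.Lib.Helper41

section aux

variable {F : Type*} [Field F] [Fintype F]

/-- in the defining characteristic the Sylow subgroups are TI, hence not redundant -/
theorem not_redundant_char (p : ℕ) [Fact p.Prime] [CharP F p]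
    (Q : Sylow p (Matrix.SpecialLinearGroup (Fin 2) F)) : ¬ IsRedundantSylow Q := by
  classical
  have hU : IsPGroup p (Cfsg.Agent.Lib.Helper46.upperU F) := Cfsg.Agent.Lib.Helper46.upperU_isPGroup p
  obtain ⟨Q₀, hQ₀⟩ := hU.exists_le_sylow
  obtain ⟨g, hg⟩ := Cfsg.Agent.Lib.Helper46.exists_conj_le_upperU (p := p)
    (Q₀ : Subgroup (Matrix.SpecialLinearGroup (Fin 2) F)) Q₀.isPGroup'
  have hcard : Nat.card (Q₀ : Subgroup (Matrix.SpecialLinearGroup (Fin 2) F))
      ≤ Nat.card (Cfsg.Agent.Lib.Helper46.upperU F) := by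
    apply Nat.card_le_card_of_injective
      (fun A : (Q₀ : Subgroup (Matrix.SpecialLinearGroup (Fin 2) F)) =>
        (⟨g⁻¹ * A * g, hg A A.2⟩ : Cfsg.Agent.Lib.Helper46.upperU F))
    intro A B hAB
    have h1 : g⁻¹ * (A : Matrix.SpecialLinearGroup (Fin 2) F) * g = g⁻¹ * B * g :=
      congrArg Subtype.val hAB
    apply Subtype.ext
    exact mul_left_cancel (mul_right_cancel h1)
  have hUQ : Cfsg.Agent.Lib.Helper46.upperU F = (Q₀ : Subgroup (Matrix.SpecialLinearGroup (Fin 2) F)) :=
    Subgroup.eq_of_le_of_card_ge hQ₀ hcard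
  have hx1 : (Cfsg.Agent.Lib.Helper46.uMat (1 : F)) ^ (p ^ 1) = 1 := by
    rw [pow_one, Cfsg.Agent.Lib.Helper46.uMat_nsmul, nsmul_eq_mul, CharP.cast_eq_zero, zero_mul,
      Cfsg.Agent.Lib.Helper46.uMat_zero]
  apply not_isRedundantSylow_of_unique (Q₀ := Q₀) (x := Cfsg.Agent.Lib.Helper46.uMat (1 : F))
    (exists_orderOf_eq_pow_of_pow_eq_one hx1) _ Q
  intro P hP
  obtain ⟨g', hg'⟩ := Cfsg.Agent.Lib.Helper46.exists_conj_le_upperU (p := p)
    (P : Subgroup (Matrix.SpecialLinearGroup (Fin 2) F)) P.isPGroup'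
  have h1 := hg' _ hP
  rw [Cfsg.Agent.Lib.Helper46.mem_upperU_iff] at h1
  have hγ : (g' : Matrix (Fin 2) (Fin 2) F) 1 0 = 0 := by
    have h2 := h1.2
    rw [mul_apply_10, mul_apply_10, mul_apply_11, inv_apply_10, inv_apply_11] at h2
    simp only [Cfsg.Agent.Lib.Helper46.uMat_coe, Matrix.of_apply, Matrix.cons_val', Matrix.cons_val_zero,
      Matrix.cons_val_one, Matrix.cons_val_fin_one] at h2
    have h3 : (g' : Matrix (Fin 2) (Fin 2) F) 1 0 * (g' : Matrix (Fin 2) (Fin 2) F) 1 0 = 0 := by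
      linear_combination -h2
    exact mul_self_eq_zero.mp h3
  have hdet := sl2_det g'
  rw [hγ, mul_zero, sub_zero] at hdet
  have hα : (g' : Matrix (Fin 2) (Fin 2) F) 0 0 ≠ 0 := left_ne_zero_of_mul_eq_one hdet
  apply Sylow.ext
  apply Subgroup.eq_of_le_of_card_ge
  · intro A hA
    rw [← hUQ, Cfsg.Agent.Lib.Helper46.mem_upperU_iff]
    have h2 := hg' A hA
    rw [Cfsg.Agent.Lib.Helper46.mem_upperU_iff] at h2
    obtain ⟨h00, h10⟩ := h2
    rw [mul_apply_10, mul_apply_10, mul_apply_11, inv_apply_10, inv_apply_11, hγ] at h10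
    rw [mul_apply_00, mul_apply_00, mul_apply_01, inv_apply_00, inv_apply_01, hγ] at h00
    have hA10 : (A : Matrix (Fin 2) (Fin 2) F) 1 0 = 0 := by
      have h3 : (g' : Matrix (Fin 2) (Fin 2) F) 0 0 * (g' : Matrix (Fin 2) (Fin 2) F) 0 0
          * (A : Matrix (Fin 2) (Fin 2) F) 1 0 = 0 := by
        linear_combination h10
      rcases mul_eq_zero.mp h3 with h4 | h4
      · exact absurd (mul_self_eq_zero.mp h4) hα
      · exact h4
    refine ⟨?_, hA10⟩
    rw [hA10] at h00
    linear_combination h00 - (A : Matrix (Fin 2) (Fin 2) F) 0 0 * hdet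
  · rw [Sylow.card_eq_multiplicity, Sylow.card_eq_multiplicity]

/-- an element of order `q - 1` -/
theorem exists_orderOf_eq_card_sub_one :
    ∃ Y : Matrix.SpecialLinearGroup (Fin 2) F, orderOf Y = Fintype.card F - 1 := by
  have := isCyclic_diagSub (F := F)
  obtain ⟨g₀, hg₀⟩ := IsCyclic.exists_generator (α := diagSub F)
  refine ⟨(g₀ : Matrix.SpecialLinearGroup (Fin 2) F), ?_⟩
  rw [Subgroup.orderOf_coe, orderOf_eq_card_of_forall_mem_zpowers hg₀, card_diagSub]

/-- odd `p` prime to `q`: cyclic Sylow subgroups -/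
theorem not_redundant_odd (p : ℕ) [Fact p.Prime] (hp2 : p ≠ 2) (hpq : ¬ p ∣ Fintype.card F)
    (Q : Sylow p (Matrix.SpecialLinearGroup (Fin 2) F)) : ¬ IsRedundantSylow Q := by
  have hp := (Fact.out : p.Prime)
  have hq : 2 ≤ Fintype.card F := Fintype.one_lt_card
  set n := (Nat.card (Matrix.SpecialLinearGroup (Fin 2) F)).factorization p with hn
  have hdvd : p ^ n ∣ Nat.card (Matrix.SpecialLinearGroup (Fin 2) F) := Nat.ordProj_dvd _ _
  rw [card_sl2_eq] at hdvd
  have hcop : Nat.Coprime (p ^ n) (Fintype.card F) :=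
    Nat.Coprime.pow_left n ((Nat.Prime.coprime_iff_not_dvd hp).mpr hpq)
  have hdvd2 := hcop.dvd_of_dvd_mul_left hdvd
  by_cases h1 : p ∣ Fintype.card F + 1
  · have h2 : ¬ p ∣ Fintype.card F - 1 := by
      intro h2
      have h3 : p ∣ (Fintype.card F + 1) - (Fintype.card F - 1) := Nat.dvd_sub h1 h2
      have h4 : (Fintype.card F + 1) - (Fintype.card F - 1) = 2 := by omega
      rw [h4] at h3
      exact hp2 ((Nat.prime_dvd_prime_iff_eq hp Nat.prime_two).mp h3)
    have hcop2 : Nat.Coprime (p ^ n) (Fintype.card F - 1) :=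
      Nat.Coprime.pow_left n ((Nat.Prime.coprime_iff_not_dvd hp).mpr h2)
    have hdvd3 := hcop2.dvd_of_dvd_mul_right hdvd2
    obtain ⟨Y, hY⟩ := exists_orderOf_eq_card_add_one (F := F)
    exact not_isRedundantSylow_of_dvd_orderOf Y (by rw [hY]; exact hdvd3) Q
  · have hcop2 : Nat.Coprime (p ^ n) (Fintype.card F + 1) :=
      Nat.Coprime.pow_left n ((Nat.Prime.coprime_iff_not_dvd hp).mpr h1)
    have hdvd3 := hcop2.dvd_of_dvd_mul_left hdvd2
    obtain ⟨Y, hY⟩ := exists_orderOf_eq_card_sub_one (F := F)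
    exact not_isRedundantSylow_of_dvd_orderOf Y (by rw [hY]; exact hdvd3) Q

/-- `q` even means `q` is a power of 2 -/
theorem exists_eq_two_pow_of_even (h : 2 ∣ Fintype.card F) : ∃ k : ℕ, Fintype.card F = 2 ^ k := by
  have h1 : ringChar F = 2 := FiniteField.even_card_iff_char_two.mpr (Nat.mod_eq_zero_of_dvd h)
  have : CharP F 2 := by rw [← h1]; exact ringChar.charP F
  obtain ⟨n, -, hn⟩ := FiniteField.card F 2
  exact ⟨n, hn⟩

theorem two_ne_zero_of_odd (h : ¬ 2 ∣ Fintype.card F) : (2 : F) ≠ 0 := by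
  intro h2
  apply h
  have h1 : ringChar F = 2 := by
    have h3 : ((2 : ℕ) : F) = 0 := by exact_mod_cast h2
    have h4 := (ringChar.spec F 2).mp h3
    have := (Nat.prime_dvd_prime_iff_eq (CharP.char_is_prime F (ringChar F)) Nat.prime_two).mp h4
    exact this
  exact Nat.dvd_of_mod_eq_zero (FiniteField.even_card_iff_char_two.mp h1)

end aux

/-- Let F be a finite field with q elements, p a prime and G = SL(2, F). Say a Sylow p-subgroup Q of G is redundant when every element of p-power order lies in some Sylow p-subgroup other than Q. Then G has a redundant Sylow p-subgroup if and only if p = 2 and q is not of any of the forms 2ᵏ - 1, 2ᵏ, 2ᵏ + 1. -/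
theorem result {F : Type*} [Field F] [Fintype F] (p : ℕ) [Fact p.Prime] :
    (∃ Q : Sylow p (Matrix.SpecialLinearGroup (Fin 2) F), ∀ x : Matrix.SpecialLinearGroup (Fin 2) F,
        (∃ k : ℕ, orderOf x = p ^ k) → ∃ P : Sylow p (Matrix.SpecialLinearGroup (Fin 2) F), P ≠ Q ∧ x ∈ P) ↔
      (p = 2 ∧ (¬ ∃ k : ℕ, Fintype.card F + 1 = 2 ^ k) ∧ (¬ ∃ k : ℕ, Fintype.card F = 2 ^ k) ∧
        ¬ ∃ k : ℕ, Fintype.card F = 2 ^ k + 1) := by
  have hp := (Fact.out : p.Prime)
  have hq : 2 ≤ Fintype.card F := Fintype.one_lt_card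
  constructor
  · rintro ⟨Q, hQ⟩
    have hQ' : IsRedundantSylow Q := hQ
    by_cases hpq : p ∣ Fintype.card F
    · exfalso
      have : CharP F p := by
        have h1 := ringChar.charP F
        obtain ⟨n, hr, hn⟩ := FiniteField.card F (ringChar F)
        rw [hn] at hpq
        have h2 := (Nat.prime_dvd_prime_iff_eq hp hr).mp (hp.dvd_of_dvd_pow hpq)
        rw [h2]
        exact h1
      exact not_redundant_char p Q hQ'
    by_cases hp2 : p = 2
    · subst hp2
      have h2 : (2 : F) ≠ 0 := two_ne_zero_of_odd hpq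
      obtain ⟨t, ht⟩ := exists_nonsplit_trace (F := F)
      have hplus : ¬ ∃ k : ℕ, Fintype.card F + 1 = 2 ^ k := by
        rintro ⟨k, hk⟩
        have hk2 : 2 ≤ k := by
          by_contra hlt
          have : k = 0 ∨ k = 1 := by omega
          rcases this with rfl | rfl <;> omega
        obtain ⟨j, rfl⟩ := Nat.exists_eq_add_of_le hk2
        have h4 : Fintype.card F % 4 = 3 := by
          rw [pow_add] at hk
          omega
        exact (dicyclicTorus_nsTorus h2 h4 ht).not_isRedundantSylow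
          (by rw [card_nsTorus ht, hk]) Q hQ'
      refine ⟨rfl, hplus, ?_, ?_⟩
      · rintro ⟨k, hk⟩
        apply hpq
        rw [hk]
        have : k ≠ 0 := by
          rintro rfl
          omega
        exact dvd_pow_self 2 this
      · rintro ⟨k, hk⟩
        have hk2 : 2 ≤ k := by
          by_contra hlt
          have : k = 0 ∨ k = 1 := by omega
          rcases this with rfl | rfl
          · apply hpq
            rw [hk]
            norm_num
          · exact hplus ⟨2, by rw [hk]; norm_num⟩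
        obtain ⟨j, rfl⟩ := Nat.exists_eq_add_of_le hk2
        have h4 : Fintype.card F % 4 = 1 := by
          rw [pow_add] at hk
          omega
        exact (dicyclicTorus_diagSub h2 h4).not_isRedundantSylow
          (k := 2 + j) (by rw [card_diagSub, hk]; omega) Q hQ'
    · exact absurd hQ' (not_redundant_odd p hp2 hpq Q)
  · rintro ⟨rfl, hplus, hpow, hminus⟩
    have hodd : ¬ 2 ∣ Fintype.card F := fun h => hpow (exists_eq_two_pow_of_even h)
    have h2 : (2 : F) ≠ 0 := two_ne_zero_of_odd hodd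
    obtain ⟨Q⟩ := (inferInstance : Nonempty (Sylow 2 (Matrix.SpecialLinearGroup (Fin 2) F)))
    refine ⟨Q, ?_⟩
    show IsRedundantSylow Q
    have h4 : Fintype.card F % 4 = 1 ∨ Fintype.card F % 4 = 3 := by omega
    rcases h4 with h4 | h4
    · apply (dicyclicTorus_diagSub h2 h4).isRedundantSylow
      rintro ⟨k, hk⟩
      rw [card_diagSub] at hk
      exact hminus ⟨k, by omega⟩
    · obtain ⟨t, ht⟩ := exists_nonsplit_trace (F := F)
      apply (dicyclicTorus_nsTorus h2 h4 ht).isRedundantSylow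
      rintro ⟨k, hk⟩
      rw [card_nsTorus ht] at hk
      exact hplus ⟨k, hk⟩

end Cfsg.Agent.S4357
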