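import Mathlib
import Cfsg.Statements.S4356
import Cfsg.Agent.S4357
-- import your own Cfsg.Agent.* helpers here

set_option autoImplicit false
open Cfsg

namespace Cfsg.Agent.S4356

open Cfsg.Agent.Lib.Helper41

theorem isPGroup_center {F : Type*} [Field F] :
    IsPGroup 2 (Subgroup.center (Matrix.SpecialLinearGroup (Fin 2) F)) := by
  rintro ⟨ζ, hζ⟩
  refine ⟨1, ?_⟩
  apply Subtype.ext
  rw [pow_one]
  show ζ ^ 2 = 1
  apply Subtype.ext
  rw [Matrix.SpecialLinearGroup.coe_pow, Matrix.SpecialLinearGroup.coe_one]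
  rcases (mem_center_iff_pm ζ).mp hζ with h | h
  · rw [h, one_pow]
  · rw [h, neg_one_sq]

/-- Let F be a finite field with q elements, p a prime and G = PSL(2, F). Say a Sylow p-subgroup Q of G is redundant when every element of p-power order lies in some Sylow p-subgroup other than Q. Then G has a redundant Sylow p-subgroup if and only if p = 2 and q is not of any of the forms 2ᵏ - 1, 2ᵏ, 2ᵏ + 1. -/
theorem result {F : Type*} [Field F] [Fintype F] (p : ℕ) [Fact p.Prime] :
    (∃ Q : Sylow p (Matrix.ProjectiveSpecialLinearGroup (Fin 2) F), ∀ x : Matrix.ProjectiveSpecialLinearGroup (Fin 2) F,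
        (∃ k : ℕ, orderOf x = p ^ k) → ∃ P : Sylow p (Matrix.ProjectiveSpecialLinearGroup (Fin 2) F), P ≠ Q ∧ x ∈ P) ↔
      (p = 2 ∧ (¬ ∃ k : ℕ, Fintype.card F + 1 = 2 ^ k) ∧ (¬ ∃ k : ℕ, Fintype.card F = 2 ^ k) ∧
        ¬ ∃ k : ℕ, Fintype.card F = 2 ^ k + 1) := by
  classical
  have hp := (Fact.out : p.Prime)
  rw [← Cfsg.Agent.S4357.result (F := F) p]
  have hf : Function.Surjective
      (QuotientGroup.mk' (Subgroup.center (Matrix.SpecialLinearGroup (Fin 2) F))) :=
    QuotientGroup.mk'_surjective _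
  have hker2 : IsPGroup 2
      (QuotientGroup.mk' (Subgroup.center (Matrix.SpecialLinearGroup (Fin 2) F))).ker := by
    rw [QuotientGroup.ker_mk']
    exact isPGroup_center
  constructor
  · rintro ⟨Qb, hQb⟩
    have hQb' : IsRedundantSylow (G := Matrix.SpecialLinearGroup (Fin 2) F ⧸
        Subgroup.center (Matrix.SpecialLinearGroup (Fin 2) F)) Qb := hQb
    obtain ⟨Q⟩ := (inferInstance : Nonempty (Sylow p (Matrix.SpecialLinearGroup (Fin 2) F)))
    refine ⟨Q, ?_⟩
    show IsRedundantSylow Q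
    by_cases hp2 : p = 2
    · subst hp2
      exact hQb'.of_surjective_of_isPGroup _ hf hker2 Q
    · apply hQb'.of_surjective_of_coprime _ hf _ _ Q
      · rw [QuotientGroup.ker_mk']
      · obtain ⟨j, hj⟩ := IsPGroup.iff_card.mp hker2
        rw [hj]
        apply Nat.Coprime.pow_left
        exact (Nat.coprime_primes Nat.prime_two hp).mpr (fun h => hp2 h.symm)
  · rintro ⟨Q, hQ⟩
    have hQ' : IsRedundantSylow Q := hQ
    have hp2 : p = 2 := ((Cfsg.Agent.S4357.result (F := F) p).mp ⟨Q, hQ⟩).1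
    subst hp2
    obtain ⟨Qb⟩ := (inferInstance : Nonempty (Sylow 2 (Matrix.SpecialLinearGroup (Fin 2) F ⧸
        Subgroup.center (Matrix.SpecialLinearGroup (Fin 2) F))))
    exact ⟨Qb, hQ'.map_of_isPGroup _ hf hker2 Qb⟩

end Cfsg.Agent.S4356
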