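import Cfsg.Statements.S4365
-- import your own Cfsg.Agent.* helpers here

set_option autoImplicit false
open Cfsg

namespace Cfsg.Agent.S4365

open Subgroup

variable {P : Type*} [Group P]

theorem mem_cent_iff {g c : P} : c ∈ centralizer ({g} : Set P) ↔ c * g = g * c :=
  mem_centralizer_singleton_iff

theorem cent_le_cent_pow (g : P) (n : ℕ) :
    centralizer ({g} : Set P) ≤ centralizer ({g ^ n} : Set P) := by
  intro c hc
  rw [mem_cent_iff] at hc ⊢
  exact ((show Commute c g from hc).pow_right n).eq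

theorem cent_mul_central (g z : P) (hz : z ∈ center P) :
    centralizer ({g * z} : Set P) = centralizer ({g} : Set P) := by
  ext c
  rw [mem_cent_iff, mem_cent_iff]
  have hzc : c * z = z * c := (mem_center_iff.mp hz c)
  constructor
  · intro h
    have h1 : c * g * z = g * c * z := by
      rw [mul_assoc g c z, hzc, ← mul_assoc g z c, ← h, mul_assoc]
    exact mul_right_cancel h1
  · intro h
    rw [← mul_assoc, h, mul_assoc, hzc, ← mul_assoc]

theorem index_cent_eq_one_iff (g : P) :
    (centralizer ({g} : Set P)).index = 1 ↔ g ∈ center P := by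
  rw [index_eq_one, mem_center_iff]
  constructor
  · intro h c
    have hc : c ∈ centralizer ({g} : Set P) := h ▸ mem_top c
    exact mem_cent_iff.mp hc
  · intro h
    rw [eq_top_iff]
    intro c _
    exact mem_cent_iff.mpr (h c)

theorem eq_of_le_of_index_eq [Finite P] {H K : Subgroup P} (hle : H ≤ K) (h : H.index = K.index) :
    H = K := by
  have h1 := relIndex_mul_index hle
  have h2 : K.index ≠ 0 := index_ne_zero_of_finite
  have h3 : H.relIndex K = 1 := by
    rw [h] at h1
    exact Nat.eq_of_mul_eq_mul_right (Nat.pos_of_ne_zero h2) (by rw [h1, one_mul])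
  exact le_antisymm hle (relIndex_eq_one.mp h3)

theorem cent_eq_of_le [Finite P] {N : ℕ}
    (hidx : ∀ g : P, g ∉ center P → (centralizer ({g} : Set P)).index = N)
    {u v : P} (hu : u ∉ center P) (hv : v ∉ center P)
    (hle : centralizer ({u} : Set P) ≤ centralizer ({v} : Set P)) :
    centralizer ({u} : Set P) = centralizer ({v} : Set P) :=
  eq_of_le_of_index_eq hle ((hidx u hu).trans (hidx v hv).symm)

/-- Core lemma: if `u, v` commute modulo the centre, `v ^ m` is central and `u ^ m` is not, then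
`C(u) ≤ C(v)`. -/
theorem cent_le_of_comm_mod_center [Finite P] {N : ℕ}
    (hidx : ∀ g : P, g ∉ center P → (centralizer ({g} : Set P)).index = N)
    {u v : P} (huv : u * v * u⁻¹ * v⁻¹ ∈ center P) (m : ℕ) (hvm : v ^ m ∈ center P)
    (hum : u ^ m ∉ center P) :
    centralizer ({u} : Set P) ≤ centralizer ({v} : Set P) := by
  have hcomm : Commute (QuotientGroup.mk u : P ⧸ center P) (QuotientGroup.mk v) := by
    have h1 : ((QuotientGroup.mk (u * v * u⁻¹ * v⁻¹) : P ⧸ center P)) = 1 :=
      (QuotientGroup.eq_one_iff _).mpr huv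
    simp only [QuotientGroup.mk_mul, QuotientGroup.mk_inv] at h1
    have h2 := mul_inv_eq_one.mp h1
    exact mul_inv_eq_iff_eq_mul.mp h2
  have h2 : (QuotientGroup.mk ((u * v) ^ m) : P ⧸ center P) = QuotientGroup.mk (u ^ m) := by
    rw [QuotientGroup.mk_pow, QuotientGroup.mk_mul, hcomm.mul_pow, ← QuotientGroup.mk_pow,
      ← QuotientGroup.mk_pow, (QuotientGroup.eq_one_iff _).mpr hvm, mul_one]
  have hz' : (u ^ m)⁻¹ * (u * v) ^ m ∈ center P := QuotientGroup.eq.mp h2.symm
  have huvm : (u * v) ^ m = u ^ m * ((u ^ m)⁻¹ * (u * v) ^ m) := by group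
  have hu : u ∉ center P := fun h => hum ((center P).pow_mem h m)
  have hCum : centralizer ({u ^ m} : Set P) = centralizer ({u} : Set P) :=
    (cent_eq_of_le hidx hu hum (cent_le_cent_pow u m)).symm
  have hCuvm : centralizer ({(u * v) ^ m} : Set P) = centralizer ({u} : Set P) := by
    rw [huvm, cent_mul_central _ _ hz', hCum]
  have huvm' : (u * v) ^ m ∉ center P := by
    intro h
    apply hum
    have e : u ^ m = (u * v) ^ m * ((u ^ m)⁻¹ * (u * v) ^ m)⁻¹ := by group
    rw [e]
    exact (center P).mul_mem h ((center P).inv_mem hz')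
  have huv' : u * v ∉ center P := fun h => huvm' ((center P).pow_mem h m)
  have hle : centralizer ({u * v} : Set P) ≤ centralizer ({u} : Set P) :=
    hCuvm ▸ cent_le_cent_pow (u * v) m
  have heq : centralizer ({u * v} : Set P) = centralizer ({u} : Set P) :=
    cent_eq_of_le hidx huv' hu hle
  intro c hc
  have hc' : c ∈ centralizer ({u * v} : Set P) := heq ▸ hc
  rw [mem_cent_iff] at hc hc' ⊢
  have h3 : u * (c * v) = u * (v * c) := by
    rw [← mul_assoc, ← hc, mul_assoc, hc', mul_assoc]
  exact mul_left_cancel h3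

/-- Step (2a): if `x ^ p` is not central, every non-central element of `C(x)` has centralizer
`C(x)`. -/
theorem cent_eq_of_mem_cent [Finite P] (p : ℕ) [Fact p.Prime] (hP : IsPGroup p P) {N : ℕ}
    (hidx : ∀ g : P, g ∉ center P → (centralizer ({g} : Set P)).index = N)
    {x : P} (hxp : x ^ p ∉ center P) {y : P} (hy : y ∈ centralizer ({x} : Set P))
    (hyZ : y ∉ center P) :
    centralizer ({y} : Set P) = centralizer ({x} : Set P) := by
  have hpp : p.Prime := Fact.out
  have hx : x ∉ center P := fun h => hxp ((center P).pow_mem h p)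
  have hCxp : centralizer ({x ^ p} : Set P) = centralizer ({x} : Set P) :=
    (cent_eq_of_le hidx hx hxp (cent_le_cent_pow x p)).symm
  have hPbar : IsPGroup p (P ⧸ center P) := hP.to_quotient _
  obtain ⟨f, hf⟩ := (IsPGroup.iff_orderOf.mp hPbar) (QuotientGroup.mk y)
  have hpow_iff : ∀ k : ℕ, y ^ k ∈ center P ↔ p ^ f ∣ k := by
    intro k
    rw [← QuotientGroup.eq_one_iff, QuotientGroup.mk_pow, ← hf, orderOf_dvd_iff_pow_eq_one]
  have hyn : y ^ (p ^ f) ∈ center P := (hpow_iff _).mpr dvd_rfl
  have hf0 : f ≠ 0 := by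
    rintro rfl
    apply hyZ
    have := (hpow_iff 1).mpr (by simp)
    simpa using this
  have hyx : y * x = x * y := mem_cent_iff.mp hy
  by_cases hxn : x ^ (p ^ f) ∈ center P
  · obtain ⟨f', rfl⟩ := Nat.exists_eq_succ_of_ne_zero hf0
    have h1 : y ^ (p ^ f') ∉ center P := by
      rw [hpow_iff]
      intro hdvd
      have h4 : p ^ (f' + 1) ≤ p ^ f' := Nat.le_of_dvd (pow_pos hpp.pos f') hdvd
      have h5 : p ^ f' < p ^ (f' + 1) := Nat.pow_lt_pow_right hpp.one_lt (Nat.lt_succ_self f')
      omega
    have h2 : (x ^ p) ^ (p ^ f') ∈ center P := by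
      rw [← pow_mul, ← pow_succ']; exact hxn
    have h3 : y * x ^ p * y⁻¹ * (x ^ p)⁻¹ ∈ center P := by
      have hc : Commute y (x ^ p) := (show Commute y x from hyx).pow_right p
      rw [hc.eq, mul_inv_cancel_right, mul_inv_cancel]
      exact (center P).one_mem
    have h4 := cent_le_of_comm_mod_center hidx h3 (p ^ f') h2 h1
    rw [hCxp] at h4
    exact cent_eq_of_le hidx hyZ hx h4
  · have h3 : x * y * x⁻¹ * y⁻¹ ∈ center P := by
      rw [← hyx, mul_inv_cancel_right, mul_inv_cancel]
      exact (center P).one_mem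
    have h4 := cent_le_of_comm_mod_center hidx h3 (p ^ f) hyn hxn
    exact (cent_eq_of_le hidx hx hyZ h4).symm

theorem conj_pow_eq {h x z0 : P} (hz0 : z0 ∈ center P) (hconj : h * x * h⁻¹ = x * z0) (j : ℕ) :
    h ^ j * x * (h ^ j)⁻¹ = x * z0 ^ j := by
  induction j with
  | zero => simp
  | succ j ih =>
    have hzc : ∀ g : P, g * z0 ^ j = z0 ^ j * g :=
      fun g => (mem_center_iff.mp ((center P).pow_mem hz0 j) g)
    calc h ^ (j + 1) * x * (h ^ (j + 1))⁻¹
        = h * (h ^ j * x * (h ^ j)⁻¹) * h⁻¹ := by rw [pow_succ']; group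
      _ = h * (x * z0 ^ j) * h⁻¹ := by rw [ih]
      _ = (h * x * h⁻¹) * (h * z0 ^ j * h⁻¹) := by group
      _ = x * z0 * z0 ^ j := by rw [hconj, hzc h, mul_inv_cancel_right]
      _ = x * z0 ^ (j + 1) := by rw [pow_succ', mul_assoc]

/-- Step (2b*): an element conjugating `x` into `x Z` some `p`-power of which centralizes `x`
centralizes `x` (when `x ^ p` is not central). -/
theorem mem_cent_of_conj_mem [Finite P] (p : ℕ) [Fact p.Prime] {N : ℕ}
    (hidx : ∀ g : P, g ∉ center P → (centralizer ({g} : Set P)).index = N)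
    {x : P} (hxp : x ^ p ∉ center P) :
    ∀ (k : ℕ) (h : P), x⁻¹ * (h * x * h⁻¹) ∈ center P →
      h ^ (p ^ k) ∈ centralizer ({x} : Set P) → h ∈ centralizer ({x} : Set P) := by
  have hx : x ∉ center P := fun h => hxp ((center P).pow_mem h p)
  have hCxp : centralizer ({x ^ p} : Set P) = centralizer ({x} : Set P) :=
    (cent_eq_of_le hidx hx hxp (cent_le_cent_pow x p)).symm
  intro k
  induction k with
  | zero =>
    intro h _ hh
    simpa using hh
  | succ k ih =>
    intro h hz0 hh
    set z0 := x⁻¹ * (h * x * h⁻¹) with hz0def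
    have hconj : h * x * h⁻¹ = x * z0 := by rw [hz0def]; group
    have hpow := conj_pow_eq hz0 hconj p
    -- `h ^ p` satisfies the hypotheses
    have h1 : x⁻¹ * (h ^ p * x * (h ^ p)⁻¹) ∈ center P := by
      rw [hpow, inv_mul_cancel_left]
      exact (center P).pow_mem hz0 p
    have h2 : (h ^ p) ^ (p ^ k) ∈ centralizer ({x} : Set P) := by
      rw [← pow_mul, ← pow_succ']; exact hh
    have h3 : h ^ p ∈ centralizer ({x} : Set P) := ih (h ^ p) h1 h2
    -- hence `z0 ^ p = 1`
    have h4 : z0 ^ p = 1 := by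
      have e1 : h ^ p * x * (h ^ p)⁻¹ = x := by
        rw [mem_cent_iff.mp h3, mul_inv_cancel_right]
      rw [hpow] at e1
      exact mul_left_cancel (e1.trans (mul_one x).symm)
    -- `h` centralizes `x ^ p`
    have h5 : h * x ^ p * h⁻¹ = x ^ p := by
      rw [← conj_pow, hconj]
      have hc : Commute x z0 := (mem_center_iff.mp hz0 x)
      rw [hc.mul_pow, h4, mul_one]
    have h6 : h ∈ centralizer ({x ^ p} : Set P) := by
      rw [mem_cent_iff]
      exact mul_inv_eq_iff_eq_mul.mp h5
    rw [hCxp] at h6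
    exact h6

/-- an element whose image in `P ⧸ Z(P)` is central conjugates every element into its `Z`-coset. -/
theorem inv_mul_conj_mem_center {z : P} (hz : (QuotientGroup.mk z : P ⧸ center P) ∈ center (P ⧸ center P))
    (g : P) : g⁻¹ * (z * g * z⁻¹) ∈ center P := by
  rw [← QuotientGroup.eq_one_iff]
  have hcomm := mem_center_iff.mp hz (QuotientGroup.mk g)
  rw [QuotientGroup.mk_mul, QuotientGroup.mk_mul, QuotientGroup.mk_mul, QuotientGroup.mk_inv,
    QuotientGroup.mk_inv, ← hcomm, mul_inv_cancel_right, inv_mul_cancel]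

theorem inv_mul_conj_mem_center' {z : P} (hz : (QuotientGroup.mk z : P ⧸ center P) ∈ center (P ⧸ center P))
    (g : P) : z⁻¹ * (g⁻¹ * z * g) ∈ center P := by
  rw [← QuotientGroup.eq_one_iff]
  have hcomm := mem_center_iff.mp hz (QuotientGroup.mk g)
  rw [QuotientGroup.mk_mul, QuotientGroup.mk_mul, QuotientGroup.mk_mul, QuotientGroup.mk_inv,
    QuotientGroup.mk_inv, mul_assoc (QuotientGroup.mk g)⁻¹, ← hcomm, inv_mul_cancel_left,
    inv_mul_cancel]

/-- the centralizer of an element that is central modulo the centre is normal. -/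
theorem cent_normal_of_central_mod {z : P}
    (hz : (QuotientGroup.mk z : P ⧸ center P) ∈ center (P ⧸ center P)) :
    (centralizer ({z} : Set P)).Normal := by
  refine ⟨fun c hc g => ?_⟩
  rw [mem_cent_iff] at hc ⊢
  set z1 := z⁻¹ * (g⁻¹ * z * g) with hz1
  have hz1Z : z1 ∈ center P := inv_mul_conj_mem_center' hz g
  have e1 : g⁻¹ * z * g = z * z1 := by rw [hz1, mul_inv_cancel_left]
  have hz1c : c * z1 = z1 * c := mem_center_iff.mp hz1Z c
  calc g * c * g⁻¹ * z = g * c * (g⁻¹ * z * g) * g⁻¹ := by group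
    _ = g * c * (z * z1) * g⁻¹ := by rw [e1]
    _ = g * (c * z) * z1 * g⁻¹ := by group
    _ = g * (z * c) * z1 * g⁻¹ := by rw [hc]
    _ = g * z * (c * z1) * g⁻¹ := by group
    _ = g * z * (z1 * c) * g⁻¹ := by rw [hz1c]
    _ = g * (z * z1) * c * g⁻¹ := by group
    _ = g * (g⁻¹ * z * g) * c * g⁻¹ := by rw [e1]
    _ = z * (g * c * g⁻¹) := by group

/-- Let P be a finite p-group whose conjugacy class sizes are exactly 1 and pᵃ for some a ≥ 1. Then every element of P has its p-th power in the center of P (P/Z(P) has exponent p). -/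
theorem result {P : Type*} [Group P] [Finite P] (p : ℕ) [Fact p.Prime]
    (hP : IsPGroup p P) (a : ℕ) (ha : 1 ≤ a)
    (hcs : {k : ℕ | ∃ x : P, (Subgroup.centralizer ({x} : Set P)).index = k} = {1, p ^ a}) (x : P) :
    x ^ p ∈ Subgroup.center P := by
  by_contra hxp
  have hidx : ∀ g : P, g ∉ center P → (centralizer ({g} : Set P)).index = p ^ a := by
    intro g hg
    have h1 : (centralizer ({g} : Set P)).index ∈
        {k : ℕ | ∃ x : P, (centralizer ({x} : Set P)).index = k} := ⟨g, rfl⟩
    rw [hcs] at h1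
    rcases h1 with h1 | h1
    · exact absurd ((index_cent_eq_one_iff g).mp h1) hg
    · exact h1
  have hx : x ∉ center P := fun h => hxp ((center P).pow_mem h p)
  set C := centralizer ({x} : Set P) with hC
  have hxC : x ∈ C := mem_cent_iff.mpr rfl
  -- (B)
  have hB : ∀ h : P, x⁻¹ * (h * x * h⁻¹) ∈ center P → h ∈ C := by
    intro h hh
    obtain ⟨k, hk⟩ := hP h
    exact mem_cent_of_conj_mem p hidx hxp k h hh (by rw [hk]; exact one_mem _)
  -- (D)
  have hnt : Nontrivial (P ⧸ center P) :=
    ⟨⟨QuotientGroup.mk x, 1, fun h => hx ((QuotientGroup.eq_one_iff x).mp h)⟩⟩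
  have hcn : Nontrivial (center (P ⧸ center P)) := (hP.to_quotient (center P)).center_nontrivial
  obtain ⟨⟨c, hc⟩, hc1⟩ := exists_ne (1 : center (P ⧸ center P))
  obtain ⟨z, rfl⟩ := QuotientGroup.mk_surjective c
  have hzZ : z ∉ center P :=
    fun h => hc1 (Subtype.ext ((QuotientGroup.eq_one_iff z).mpr h))
  have hzC : z ∈ C := hB z (inv_mul_conj_mem_center hc x)
  have hCz : centralizer ({z} : Set P) = C := cent_eq_of_mem_cent p hP hidx hxp hzC hzZ
  have hCn : C.Normal := hCz ▸ cent_normal_of_central_mod hc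
  -- (E)
  have hCtop : ∃ y, y ∉ C := by
    by_contra hcon
    push Not at hcon
    apply hx
    rw [mem_center_iff]
    intro g
    exact mem_cent_iff.mp (hcon g)
  obtain ⟨y, hy⟩ := hCtop
  have hZC : ∀ g : P, center P ≤ centralizer ({g} : Set P) := by
    intro g c hc
    rw [mem_cent_iff]
    exact (mem_center_iff.mp hc g).symm
  have hyZ : y ∉ center P := fun h => hy (hZC x h)
  have hinf : C ⊓ centralizer ({y} : Set P) = center P := by
    apply le_antisymm
    · rintro c ⟨hc1, hc2⟩
      by_contra hcZ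
      have h1 := cent_eq_of_mem_cent p hP hidx hxp hc1 hcZ
      apply hy
      rw [hC, ← h1, mem_cent_iff]
      exact (mem_cent_iff.mp hc2).symm
    · exact le_inf (hZC x) (hZC y)
  have hcard : Nat.card (centralizer ({y} : Set P)) = Nat.card C := by
    have h1 := card_mul_index (centralizer ({y} : Set P))
    have h2 := card_mul_index C
    rw [hidx y hyZ] at h1
    rw [hC, hidx x hx] at h2
    have hpos : 0 < p ^ a := pow_pos (Fact.out : p.Prime).pos a
    exact Nat.eq_of_mul_eq_mul_right hpos (h1.trans h2.symm)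
  have hrel1 : (center P).relIndex (centralizer ({y} : Set P)) =
      C.relIndex (centralizer ({y} : Set P)) := by
    rw [← hinf, inf_relIndex_right]
  have hdvd : C.relIndex (centralizer ({y} : Set P)) ∣ C.index :=
    relIndex_dvd_index_of_normal C _
  have hrel2 : (center P).relIndex C = (center P).relIndex (centralizer ({y} : Set P)) := by
    have e1 := relIndex_mul_relIndex ⊥ (center P) C bot_le (hZC x)
    have e2 := relIndex_mul_relIndex ⊥ (center P) (centralizer ({y} : Set P)) bot_le (hZC y)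
    rw [relIndex_bot_left, relIndex_bot_left] at e1 e2
    rw [← hcard, ← e2] at e1
    exact Nat.eq_of_mul_eq_mul_left Nat.card_pos e1
  have hle : Nat.card (C.map (QuotientGroup.mk' (center P))) ≤ Nat.card (P ⧸ C) := by
    rw [← relIndex_ker C (QuotientGroup.mk' (center P)), QuotientGroup.ker_mk', hrel2, hrel1]
    exact Nat.le_of_dvd (Nat.pos_of_ne_zero index_ne_zero_of_finite) hdvd
  -- (F)
  let f : P ⧸ C → ↥(C.map (QuotientGroup.mk' (center P))) :=
    Quotient.lift (fun g : P => (⟨QuotientGroup.mk' (center P) (g * x * g⁻¹),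
      mem_map_of_mem _ (hCn.conj_mem x hxC g)⟩ : ↥(C.map (QuotientGroup.mk' (center P)))))
      (by
        intro g1 g2 hg
        have hg' : g1⁻¹ * g2 ∈ C := QuotientGroup.leftRel_apply.mp hg
        apply Subtype.ext
        change QuotientGroup.mk' (center P) (g1 * x * g1⁻¹) =
          QuotientGroup.mk' (center P) (g2 * x * g2⁻¹)
        have e : g2 * x * g2⁻¹ = g1 * x * g1⁻¹ := by
          have h1 : g1⁻¹ * g2 * x = x * (g1⁻¹ * g2) := mem_cent_iff.mp hg'
          have h2 : g2 * x * g2⁻¹ = g1 * (g1⁻¹ * g2 * x) * (g1⁻¹ * g2)⁻¹ * g1⁻¹ := by group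
          rw [h2, h1]; group
        rw [e])
  have hf_mk : ∀ g : P, ((f (QuotientGroup.mk g) : ↥(C.map (QuotientGroup.mk' (center P)))) :
      P ⧸ center P) = QuotientGroup.mk' (center P) (g * x * g⁻¹) := fun g => rfl
  by_cases hinj : Function.Injective f
  · have hbij := hinj.bijective_of_nat_card_le hle
    obtain ⟨q, hq⟩ := hbij.2 1
    induction q using QuotientGroup.induction_on with
    | H g =>
      have h1 := congrArg Subtype.val hq
      rw [hf_mk] at h1
      have h2 : g * x * g⁻¹ ∈ center P := (QuotientGroup.eq_one_iff _).mp h1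
      apply hx
      have h3 := (inferInstance : (center P).Normal).conj_mem _ h2 g⁻¹
      simpa [mul_assoc] using h3
  · rw [Function.Injective] at hinj
    push Not at hinj
    obtain ⟨q1, q2, hq, hne⟩ := hinj
    induction q1 using QuotientGroup.induction_on with
    | H g1 =>
    induction q2 using QuotientGroup.induction_on with
    | H g2 =>
      have h1 := congrArg Subtype.val hq
      rw [hf_mk, hf_mk] at h1
      have h2 : (g1 * x * g1⁻¹)⁻¹ * (g2 * x * g2⁻¹) ∈ center P := QuotientGroup.eq.mp h1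
      have h3 : g1⁻¹ * g2 ∉ C := by
        intro h
        apply hne
        exact QuotientGroup.eq.mpr h
      apply h3
      apply hB
      have h4 := (inferInstance : (center P).Normal).conj_mem _ h2 g1⁻¹
      have e : x⁻¹ * (g1⁻¹ * g2 * x * (g1⁻¹ * g2)⁻¹) =
          g1⁻¹ * ((g1 * x * g1⁻¹)⁻¹ * (g2 * x * g2⁻¹)) * g1⁻¹⁻¹ := by group
      rw [e]
      exact h4

end Cfsg.Agent.S4365
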