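import Cfsg.Statements.S4370
import Cfsg.Agent.Lib.Helper73.QuatCentralizer
import Cfsg.Agent.Lib.Helper65.NilpBasic
import Cfsg.Agent.Lib.Helper51.UniqueOrderP

set_option autoImplicit false
open Cfsg

namespace Cfsg.Agent.S4370

open Cfsg.Agent.Lib.Helper73

/-- In a cyclic subgroup, two elements of the same prime order generate the same subgroup. -/
theorem mem_zpowers_of_orderOf_eq_prime {G : Type*} [Group G] [Finite G] (C : Subgroup G)
    [IsCyclic C] {p : ℕ} (hp : p.Prime) {u z : G} (hu : u ∈ C) (hz : z ∈ C)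
    (hou : orderOf u = p) (hoz : orderOf z = p) : z ∈ Subgroup.zpowers u := by
  classical
  have : Fintype C := Fintype.ofFinite C
  have hcard := IsCyclic.card_pow_eq_one_le (α := C) hp.pos
  let u' : C := ⟨u, hu⟩
  let z' : C := ⟨z, hz⟩
  have hu' : orderOf u' = p := by rw [← hou]; exact Subgroup.orderOf_mk u hu
  have hz' : orderOf z' = p := by rw [← hoz]; exact Subgroup.orderOf_mk z hz
  let S : Finset C := (Finset.range p).image (fun i => u' ^ i)
  have hS : S.card = p := by
    rw [Finset.card_image_of_injOn, Finset.card_range]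
    intro i hi j hj hij
    have := pow_injOn_Iio_orderOf (x := u')
    apply this
    · rw [hu']; simpa using hi
    · rw [hu']; simpa using hj
    · exact hij
  have hST : S ⊆ Finset.univ.filter (fun a : C => a ^ p = 1) := by
    intro w hw
    obtain ⟨i, _, rfl⟩ := Finset.mem_image.mp hw
    rw [Finset.mem_filter]
    refine ⟨Finset.mem_univ _, ?_⟩
    rw [← pow_mul, mul_comm, pow_mul, ← hu', pow_orderOf_eq_one, one_pow]
  have hEq : S = Finset.univ.filter (fun a : C => a ^ p = 1) :=
    Finset.eq_of_subset_of_card_le hST (by rw [hS]; exact hcard)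
  have hz'T : z' ∈ Finset.univ.filter (fun a : C => a ^ p = 1) := by
    rw [Finset.mem_filter]
    exact ⟨Finset.mem_univ _, by rw [← hz', pow_orderOf_eq_one]⟩
  rw [← hEq] at hz'T
  obtain ⟨i, _, hi⟩ := Finset.mem_image.mp hz'T
  refine ⟨(i : ℤ), ?_⟩
  have := congrArg Subtype.val hi
  simpa using this

/-- Key structural step: a nilpotent group whose noncentral centralizers are cyclic has the shape
`P × H` with `P` generalized quaternion and `H` cyclic of odd order. -/
theorem forward {G : Type*} [Group G] [Finite G] (hG : Group.IsNilpotent G)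
    (hna : ¬ IsMulCommutative G)
    (hc : ∀ x : G, x ∉ Subgroup.center G → IsCyclic (Subgroup.centralizer ({x} : Set G))) :
    ∃ (k m : ℕ), 1 ≤ k ∧ Odd m ∧
      Nonempty (G ≃* QuaternionGroup (2 ^ k) × Multiplicative (ZMod m)) := by
  obtain ⟨φ⟩ := (Group.isNilpotent_of_finite_tfae (G := G)).out 0 4 |>.mp hG
  have hnormal := (Group.isNilpotent_of_finite_tfae (G := G)).out 0 3 |>.mp hG
  have hex : ∃ (p : ℕ) (_ : p.Prime) (P : Sylow p G), ∃ x ∈ P, ∃ y ∈ P, x * y ≠ y * x := by
    by_contra hcon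
    push Not at hcon
    apply hna
    refine ⟨⟨fun a b => ?_⟩⟩
    rw [← φ.symm.injective.eq_iff, map_mul, map_mul]
    funext q Q
    have hq := Nat.prime_of_mem_primeFactors q.2
    have := hcon q hq Q _ (φ.symm a q Q).2 _ (φ.symm b q Q).2
    exact Subtype.ext this
  obtain ⟨p, hp, P, x, hxP, y, hyP, hxy⟩ := hex
  have hfact : Fact p.Prime := ⟨hp⟩
  have hPn : (P : Subgroup G).Normal := hnormal p hfact P
  have hxc : x ∉ Subgroup.center G := by
    intro h
    rw [Subgroup.mem_center_iff] at h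
    exact hxy (h y).symm
  have hCx := hc x hxc
  -- orders of elements of P
  have hPord : ∀ g ∈ P, ∃ k, orderOf g = p ^ k := by
    intro g hg
    obtain ⟨k, hk⟩ := (IsPGroup.iff_orderOf.mp P.2) ⟨g, hg⟩
    exact ⟨k, by rw [← hk]; exact (Subgroup.orderOf_mk g hg).symm⟩
  -- elements of order coprime to p commute with elements of P
  have hcop : ∀ g : G, (orderOf g).Coprime p → ∀ w ∈ P, g * w = w * g := by
    intro g hg w hw
    obtain ⟨k, hk⟩ := hPord w hw
    exact Cfsg.Agent.Lib.Helper65.commute_of_coprime_orderOf g w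
      (by rw [hk]; exact Nat.Coprime.pow_right k hg)
  -- a central element of order p in P
  have hznt : ∃ z ∈ P, orderOf z = p ∧ ∀ w ∈ P, z * w = w * z := by
    have hPG : IsPGroup p ↥(P : Subgroup G) := P.2
    haveI : Nontrivial ↥(P : Subgroup G) := by
      refine ⟨⟨⟨x, hxP⟩, ⟨y, hyP⟩, ?_⟩⟩
      intro h
      have h' : x = y := congrArg Subtype.val h
      exact hxy (by rw [h'])
    haveI := hPG.center_nontrivial
    have hZG : IsPGroup p ↥(Subgroup.center ↥(P : Subgroup G)) := hPG.to_subgroup _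
    obtain ⟨n, hn⟩ := IsPGroup.iff_card.mp hZG
    have hn0 : n ≠ 0 := by
      rintro rfl
      rw [pow_zero] at hn
      have := (Nat.card_eq_one_iff_unique.mp hn).1
      exact not_subsingleton _ this
    have hdvd : p ∣ Nat.card ↥(Subgroup.center ↥(P : Subgroup G)) := by
      rw [hn]; exact dvd_pow_self p hn0
    obtain ⟨z, hz⟩ := exists_prime_orderOf_dvd_card' p hdvd
    refine ⟨((z : ↥(P : Subgroup G)) : G), (z : ↥(P : Subgroup G)).2, ?_, ?_⟩
    · rw [Subgroup.orderOf_coe, Subgroup.orderOf_coe]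
      exact hz
    · intro w hw
      have := Subgroup.mem_center_iff.mp z.2 ⟨w, hw⟩
      have := congrArg Subtype.val this
      exact this.symm
  obtain ⟨z, hzP, hzo, hzc⟩ := hznt
  -- every element of order p of P lies in ⟨z⟩
  have huz : ∀ u ∈ P, orderOf u = p → u ∈ Subgroup.zpowers z := by
    intro u huP huo
    by_cases huc : u ∈ Subgroup.center G
    · haveI := hCx
      apply mem_zpowers_of_orderOf_eq_prime (Subgroup.centralizer ({x} : Set G)) hp _ _ hzo huo
      · rw [Subgroup.mem_centralizer_singleton_iff]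
        exact (hzc x hxP)
      · rw [Subgroup.mem_centralizer_singleton_iff]
        exact (Subgroup.mem_center_iff.mp huc x).symm
    · haveI := hc u huc
      apply mem_zpowers_of_orderOf_eq_prime (Subgroup.centralizer ({u} : Set G)) hp _ _ hzo huo
      · rw [Subgroup.mem_centralizer_singleton_iff]
        exact (hzc u huP)
      · rw [Subgroup.mem_centralizer_singleton_iff]
  have huniq : ∀ H K : Subgroup ↥(P : Subgroup G), Nat.card H = p → Nat.card K = p → H = K := by
    have key : ∀ H : Subgroup ↥(P : Subgroup G), Nat.card H = p →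
        H = Subgroup.zpowers (⟨z, hzP⟩ : ↥(P : Subgroup G)) := by
      intro H hH
      apply Subgroup.eq_of_le_of_card_ge
      · intro g hg
        by_cases hg1 : g = 1
        · rw [hg1]; exact one_mem _
        · have hgo : orderOf g = p := by
            have h1 : orderOf (⟨g, hg⟩ : H) ∣ Nat.card H := orderOf_dvd_natCard _
            rw [hH] at h1
            have h2 : orderOf (⟨g, hg⟩ : H) = orderOf g := Subgroup.orderOf_mk g hg
            rw [h2] at h1
            rcases (Nat.dvd_prime hp).mp h1 with h | h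
            · exact absurd (orderOf_eq_one_iff.mp h) hg1
            · exact h
          have hgo' : orderOf (g : G) = p := by rw [Subgroup.orderOf_coe]; exact hgo
          obtain ⟨i, hi⟩ := huz g g.2 hgo'
          refine ⟨i, ?_⟩
          apply Subtype.ext
          simpa using hi
      · rw [Nat.card_zpowers, hH]
        have : orderOf (⟨z, hzP⟩ : ↥(P : Subgroup G)) = orderOf z := Subgroup.orderOf_mk z hzP
        rw [this, hzo]
    intro H K hH hK
    rw [key H hH, key K hK]
  have hstruct := Cfsg.Agent.Lib.Helper51.cyclic_or_quaternion_of_uniqueOrderP p P.2 huniq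
  have hPnc : ¬ IsCyclic ↥(P : Subgroup G) := by
    intro hcyc
    have := hcyc.commGroup.mul_comm (⟨x, hxP⟩ : ↥(P : Subgroup G)) ⟨y, hyP⟩
    exact hxy (congrArg Subtype.val this)
  rcases hstruct with hcyc | ⟨hp2, n, ⟨eQ⟩⟩
  · exact absurd hcyc hPnc
  subst hp2
  have hn1 : 1 ≤ n := by
    by_contra h0
    have hn0 : n = 0 := by omega
    subst hn0
    apply hPnc
    have : IsCyclic (QuaternionGroup (2 ^ 0)) := by
      rw [pow_zero]; exact QuaternionGroup.quaternionGroup_one_isCyclic
    exact isCyclic_of_surjective eQ.symm eQ.symm.surjective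
  haveI := hPn
  -- sizes
  have hNm : Nat.card ↥(P : Subgroup G) * (P : Subgroup G).index = Nat.card G :=
    Subgroup.card_mul_index _
  have hcopNm : (Nat.card ↥(P : Subgroup G)).Coprime (P : Subgroup G).index := P.card_coprime_index
  have hm₀odd : Odd (P : Subgroup G).index := by
    rw [← Nat.not_even_iff_odd, even_iff_two_dvd]
    exact P.not_dvd_index
  obtain ⟨A, B, hAB⟩ : ∃ A B : ℤ,
      (Nat.card ↥(P : Subgroup G) : ℤ) * A + ((P : Subgroup G).index : ℤ) * B = 1 := by
    have := Nat.isCoprime_iff_coprime.mpr hcopNm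
    obtain ⟨a, b, hab⟩ := this
    exact ⟨a, b, by rw [← hab]; ring⟩
  have hcop2 : ∀ g : G, g ^ (P : Subgroup G).index = 1 → (orderOf g).Coprime 2 := by
    intro g hg
    have h1 := orderOf_dvd_of_pow_eq_one hg
    have h2 : Odd (orderOf g) := Odd.of_dvd_nat hm₀odd h1
    exact Nat.Coprime.symm (Nat.coprime_two_left.mpr h2)
  have hE1 : ∀ g : G, g ^ (P : Subgroup G).index ∈ (P : Subgroup G) := by
    intro g
    rw [← QuotientGroup.eq_one_iff, QuotientGroup.mk_pow, Subgroup.index_eq_card]
    exact pow_card_eq_one'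
  obtain ⟨c, hcgen⟩ := hCx.exists_generator
  have hE2 : ∀ g : G, g ^ Nat.card ↥(P : Subgroup G) ∈
      Subgroup.zpowers ((c : G) ^ Nat.card ↥(P : Subgroup G)) := by
    intro g
    have h1 : (g ^ Nat.card ↥(P : Subgroup G)) ^ (P : Subgroup G).index = 1 := by
      rw [← pow_mul, hNm]; exact pow_card_eq_one'
    have h2 : g ^ Nat.card ↥(P : Subgroup G) ∈ Subgroup.centralizer ({x} : Set G) := by
      rw [Subgroup.mem_centralizer_singleton_iff]
      exact (hcop _ (hcop2 _ h1) x hxP)
    obtain ⟨t, ht⟩ := Subgroup.mem_zpowers_iff.mp (hcgen ⟨_, h2⟩)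
    have ht' : (c : G) ^ t = g ^ Nat.card ↥(P : Subgroup G) := by
      have := congrArg Subtype.val ht
      simpa using this
    refine ⟨t * A, ?_⟩
    show ((c : G) ^ Nat.card ↥(P : Subgroup G)) ^ (t * A) = g ^ Nat.card ↥(P : Subgroup G)
    have h3 : ((c : G) ^ t) ^ ((P : Subgroup G).index : ℤ) = 1 := by
      rw [ht', zpow_natCast]; exact h1
    calc ((c : G) ^ Nat.card ↥(P : Subgroup G)) ^ (t * A)
        = ((c : G) ^ t) ^ ((Nat.card ↥(P : Subgroup G) : ℤ) * A) := by
          rw [← zpow_natCast, ← zpow_mul, ← zpow_mul]; congr 1; ring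
      _ = ((c : G) ^ t) ^ ((Nat.card ↥(P : Subgroup G) : ℤ) * A) *
            (((c : G) ^ t) ^ ((P : Subgroup G).index : ℤ)) ^ B := by rw [h3, one_zpow, mul_one]
      _ = ((c : G) ^ t) ^ ((Nat.card ↥(P : Subgroup G) : ℤ) * A + ((P : Subgroup G).index : ℤ) * B) := by
          rw [zpow_add, zpow_mul _ ((P : Subgroup G).index : ℤ) B]
      _ = g ^ Nat.card ↥(P : Subgroup G) := by rw [hAB, zpow_one, ht']
  -- the odd part
  have hHpow : ∀ b ∈ Subgroup.zpowers ((c : G) ^ Nat.card ↥(P : Subgroup G)),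
      b ^ (P : Subgroup G).index = 1 := by
    intro b hb
    obtain ⟨i, rfl⟩ := Subgroup.mem_zpowers_iff.mp hb
    rw [← zpow_natCast, ← zpow_mul, mul_comm, zpow_mul, zpow_natCast, ← pow_mul, hNm,
      pow_card_eq_one', one_zpow]
  have hPpow : ∀ w ∈ (P : Subgroup G), w ^ Nat.card ↥(P : Subgroup G) = 1 := by
    intro w hw
    have := pow_card_eq_one' (G := ↥(P : Subgroup G)) (x := ⟨w, hw⟩)
    exact congrArg Subtype.val this
  have hcomm : ∀ (w : ↥(P : Subgroup G))
      (b : ↥(Subgroup.zpowers ((c : G) ^ Nat.card ↥(P : Subgroup G)))),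
      Commute ((P : Subgroup G).subtype w)
        ((Subgroup.zpowers ((c : G) ^ Nat.card ↥(P : Subgroup G))).subtype b) := by
    intro w b
    exact (hcop b.1 (hcop2 _ (hHpow b.1 b.2)) w.1 w.2).symm
  let f : ↥(P : Subgroup G) × ↥(Subgroup.zpowers ((c : G) ^ Nat.card ↥(P : Subgroup G))) →* G :=
    MonoidHom.noncommCoprod _ _ hcomm
  have hf : ∀ w b, f (w, b) = (w : G) * (b : G) := fun w b => rfl
  have hdecomp : ∀ g : G, g = (g ^ (P : Subgroup G).index) ^ B *
      (g ^ Nat.card ↥(P : Subgroup G)) ^ A := by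
    intro g
    calc g = g ^ ((Nat.card ↥(P : Subgroup G) : ℤ) * A + ((P : Subgroup G).index : ℤ) * B) := by
          rw [hAB, zpow_one]
      _ = (g ^ (P : Subgroup G).index) ^ B * (g ^ Nat.card ↥(P : Subgroup G)) ^ A := by
          rw [add_comm, zpow_add, zpow_mul, zpow_mul, zpow_natCast, zpow_natCast]
  have hfinj : Function.Injective f := by
    rw [injective_iff_map_eq_one]
    rintro ⟨w, b⟩ hwb
    rw [hf] at hwb
    have h1 : (w : G) = (b : G)⁻¹ := eq_inv_of_mul_eq_one_left hwb
    have h2 : (w : G) ^ (P : Subgroup G).index = 1 := by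
      rw [h1, inv_pow, hHpow b.1 b.2, inv_one]
    have h3 : (w : G) ^ Nat.card ↥(P : Subgroup G) = 1 := hPpow w.1 w.2
    have h4 : (w : G) = 1 := by
      rw [hdecomp (w : G), h2, h3, one_zpow, one_zpow, one_mul]
    have h5 : (b : G) = 1 := by rw [h4, one_mul] at hwb; exact hwb
    ext
    · simpa using h4
    · simpa using h5
  have hfsurj : Function.Surjective f := by
    intro g
    refine ⟨(⟨(g ^ (P : Subgroup G).index) ^ B, zpow_mem (hE1 g) B⟩,
      ⟨(g ^ Nat.card ↥(P : Subgroup G)) ^ A, zpow_mem (hE2 g) A⟩), ?_⟩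
    rw [hf]
    exact (hdecomp g).symm
  let e1 : ↥(P : Subgroup G) × ↥(Subgroup.zpowers ((c : G) ^ Nat.card ↥(P : Subgroup G))) ≃* G :=
    MulEquiv.ofBijective f ⟨hfinj, hfsurj⟩
  have hcycH : IsCyclic ↥(Subgroup.zpowers ((c : G) ^ Nat.card ↥(P : Subgroup G))) := inferInstance
  refine ⟨n, Nat.card ↥(Subgroup.zpowers ((c : G) ^ Nat.card ↥(P : Subgroup G))), hn1, ?_, ?_⟩
  · rw [Nat.card_zpowers]
    exact Odd.of_dvd_nat hm₀odd (orderOf_dvd_of_pow_eq_one (hHpow _ (Subgroup.mem_zpowers _)))
  · exact ⟨e1.symm.trans (MulEquiv.prodCongr eQ (zmodCyclicMulEquiv hcycH).symm)⟩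

/-- Centralizers of noncentral elements in `Q × C_m`, `m` odd, lie in a cyclic subgroup. -/
theorem backward_prod (k m : ℕ) (hm : Odd m)
    (w : QuaternionGroup (2 ^ k) × Multiplicative (ZMod m)) (hw : ∃ v, w * v ≠ v * w) :
    ∃ g : QuaternionGroup (2 ^ k) × Multiplicative (ZMod m),
      ∀ y, y * w = w * y → y ∈ Subgroup.zpowers g := by
  haveI : NeZero m := ⟨fun h => by rw [h] at hm; exact Nat.not_odd_zero hm⟩
  obtain ⟨v, hv⟩ := hw
  have hq : ∃ v₁, w.1 * v₁ ≠ v₁ * w.1 := by
    refine ⟨v.1, ?_⟩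
    intro h
    apply hv
    ext
    · exact h
    · exact mul_comm w.2 v.2
  obtain ⟨g₀, hg₀⟩ := quaternion_centralizer_le_zpowers w.1 hq
  let z₀ : Multiplicative (ZMod m) := Multiplicative.ofAdd 1
  have hz₀ : orderOf z₀ = m := by
    rw [orderOf_ofAdd_eq_addOrderOf, ZMod.addOrderOf_one]
  have hg₀ord : orderOf g₀ ∣ 2 ^ (k + 2) := by
    have h1 : Nat.card (QuaternionGroup (2 ^ k)) = 2 ^ (k + 2) := by
      rw [Nat.card_eq_fintype_card, QuaternionGroup.card]; ring
    rw [← h1]; exact orderOf_dvd_natCard g₀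
  have hcop : (orderOf g₀).Coprime m := by
    have h2 : (2 ^ (k + 2)).Coprime m :=
      Nat.Coprime.pow_left _ (Nat.coprime_two_left.mpr hm)
    exact Nat.Coprime.coprime_dvd_left hg₀ord h2
  refine ⟨(g₀, z₀), ?_⟩
  intro y hy
  have hy1 : y.1 * w.1 = w.1 * y.1 := congrArg Prod.fst hy
  have h1 := hg₀ y.1 hy1
  rw [← mem_powers_iff_mem_zpowers] at h1
  obtain ⟨s, hs⟩ := h1
  have hs' : g₀ ^ s = y.1 := hs
  have h2 : ∃ r : ℕ, z₀ ^ r = y.2 := by
    refine ⟨(Multiplicative.toAdd y.2).val, ?_⟩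
    show Multiplicative.ofAdd (1 : ZMod m) ^ (Multiplicative.toAdd y.2).val = y.2
    rw [← ofAdd_nsmul, nsmul_eq_mul, mul_one, ZMod.natCast_zmod_val]
    rfl
  obtain ⟨r, hr⟩ := h2
  obtain ⟨t, ht1, ht2⟩ := Nat.chineseRemainder hcop s r
  refine ⟨(t : ℤ), ?_⟩
  show (g₀, z₀) ^ ((t : ℕ) : ℤ) = y
  rw [zpow_natCast]
  ext
  · show g₀ ^ t = y.1
    rw [← hs']
    exact pow_eq_pow_iff_modEq.mpr ht1
  · show z₀ ^ t = y.2
    rw [← hr]
    apply pow_eq_pow_iff_modEq.mpr
    rw [hz₀]; exact ht2

/-- Let G be a finite non-abelian nilpotent group. Then the centralizer of every non-central element of G is cyclic if and only if G is isomorphic to the direct product of a generalized quaternion group and a cyclic group of odd order. -/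
theorem result {G : Type*} [Group G] [Finite G] (hG : Group.IsNilpotent G)
    (hna : ¬ IsMulCommutative G) :
    (∀ x : G, x ∉ Subgroup.center G → IsCyclic (Subgroup.centralizer ({x} : Set G))) ↔
      ∃ (k m : ℕ), 1 ≤ k ∧ Odd m ∧ Nonempty (G ≃* QuaternionGroup (2 ^ k) × Multiplicative (ZMod m)) := by
  constructor
  · exact forward hG hna
  · rintro ⟨k, m, _, hm, ⟨e⟩⟩ x hx
    have hw : ∃ v, e x * v ≠ v * e x := by
      by_contra hcon
      push Not at hcon
      apply hx
      rw [Subgroup.mem_center_iff]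
      intro g
      have := hcon (e g)
      rw [← map_mul, ← map_mul] at this
      exact (e.injective this).symm
    obtain ⟨g, hg⟩ := backward_prod k m hm (e x) hw
    have hle : Subgroup.centralizer ({x} : Set G) ≤ Subgroup.zpowers (e.symm g) := by
      intro y hy
      rw [Subgroup.mem_centralizer_singleton_iff] at hy
      have h1 : e y * e x = e x * e y := by rw [← map_mul, ← map_mul, hy]
      obtain ⟨i, hi⟩ := Subgroup.mem_zpowers_iff.mp (hg (e y) h1)
      refine ⟨i, ?_⟩
      show e.symm g ^ i = y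
      rw [← map_zpow, hi, MulEquiv.symm_apply_apply]
    exact Subgroup.isCyclic_of_le hle

end Cfsg.Agent.S4370
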