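import Cfsg.Statements.S4377
-- import your own Cfsg.Agent.* helpers here

set_option autoImplicit false
open Cfsg

namespace Cfsg.Agent.S4377

/-- The number of solutions of `g ^ n = 1` is the sum over `d ∣ n` of the number of elements of
order `d`. -/
theorem card_pow_eq_one_eq_sum {G : Type*} [Group G] [Finite G] (n : ℕ) (hn : n ≠ 0) :
    Nat.card {g : G // g ^ n = 1} = ∑ d ∈ n.divisors, Nat.card {g : G // orderOf g = d} := by
  classical
  let _ : Fintype G := Fintype.ofFinite G
  simp only [Nat.card_eq_fintype_card, Fintype.card_subtype]
  rw [Finset.card_eq_sum_card_fiberwise (f := fun g : G => orderOf g) (t := n.divisors)]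
  · apply Finset.sum_congr rfl
    intro d hd
    congr 1
    ext x
    simp only [Finset.mem_filter, Finset.mem_univ, true_and, and_iff_right_iff_imp]
    intro hx
    rw [← orderOf_dvd_iff_pow_eq_one, hx]
    exact Nat.dvd_of_mem_divisors hd
  · intro x hx
    simp only [Finset.coe_filter, Finset.mem_univ, true_and, Set.mem_ofPred_eq] at hx
    simp only [Finset.mem_coe, Nat.mem_divisors]
    exact ⟨orderOf_dvd_of_pow_eq_one hx, hn⟩

theorem card_orderOf_eq_zero {G : Type*} [Group G] [Finite G] :
    Nat.card {g : G // orderOf g = 0} = 0 := by
  have : IsEmpty {g : G // orderOf g = 0} := by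
    constructor
    rintro ⟨g, hg⟩
    exact (orderOf_pos g).ne' hg
  exact Nat.card_of_isEmpty

theorem card_pow_card_mul {G : Type*} [Group G] [Finite G] (k : ℕ) :
    Nat.card {g : G // g ^ (Nat.card G * k) = 1} = Nat.card G := by
  have : ∀ g : G, g ^ (Nat.card G * k) = 1 := by
    intro g
    rw [pow_mul, pow_card_eq_one', one_pow]
  exact Nat.card_congr (Equiv.subtypeUnivEquiv this)

theorem card_pow_zero {G : Type*} [Group G] [Finite G] :
    Nat.card {g : G // g ^ 0 = 1} = Nat.card G := by
  exact Nat.card_congr (Equiv.subtypeUnivEquiv (fun g => pow_zero g))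

/-- Two finite groups have the same number of elements of each order if and only if, for every n, they have the same number of elements g with gⁿ = 1. -/
theorem result {G H : Type*} [Group G] [Finite G] [Group H] [Finite H] :
    (∀ n : ℕ, Nat.card {g : G // orderOf g = n} = Nat.card {h : H // orderOf h = n}) ↔
      ∀ n : ℕ, Nat.card {g : G // g ^ n = 1} = Nat.card {h : H // h ^ n = 1} := by
  constructor
  · intro ha
    have hpos : ∀ n : ℕ, n ≠ 0 →
        Nat.card {g : G // g ^ n = 1} = Nat.card {h : H // h ^ n = 1} := by
      intro n hn
      rw [card_pow_eq_one_eq_sum n hn, card_pow_eq_one_eq_sum n hn]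
      exact Finset.sum_congr rfl (fun d _ => ha d)
    intro n
    by_cases hn : n = 0
    · subst hn
      rw [card_pow_zero, card_pow_zero]
      have hG : 0 < Nat.card G := Nat.card_pos
      have hH : 0 < Nat.card H := Nat.card_pos
      have h1 := hpos (Nat.card G * Nat.card H) (Nat.mul_ne_zero hG.ne' hH.ne')
      rw [card_pow_card_mul] at h1
      rw [mul_comm, card_pow_card_mul] at h1
      exact h1
    · exact hpos n hn
  · intro hb n
    induction n using Nat.strong_induction_on with
    | _ n ih =>
      by_cases hn : n = 0
      · subst hn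
        rw [card_orderOf_eq_zero, card_orderOf_eq_zero]
      · have h1 := hb n
        rw [card_pow_eq_one_eq_sum n hn, card_pow_eq_one_eq_sum n hn,
          ← Nat.cons_self_properDivisors hn, Finset.sum_cons, Finset.sum_cons] at h1
        have h2 : ∑ d ∈ n.properDivisors, Nat.card {g : G // orderOf g = d}
            = ∑ d ∈ n.properDivisors, Nat.card {h : H // orderOf h = d} := by
          apply Finset.sum_congr rfl
          intro d hd
          exact ih d (Nat.mem_properDivisors.1 hd).2
        omega

end Cfsg.Agent.S4377
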