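import Cfsg.Statements.S4376
import Mathlib
import Cfsg.Agent.Lib.Helper20.OrderTypeA
import Cfsg.Agent.Lib.Helper20.OrderTypeB
import Cfsg.Agent.Lib.Helper20.OrderTypeC
import Cfsg.Agent.Lib.Helper20.OrderTypeD
import Cfsg.Agent.S4377
import Cfsg.Agent.S0144
import Cfsg.Agent.S0249

set_option autoImplicit false
open Cfsg

namespace Cfsg.Agent.S4376

open Cfsg.Agent.Lib.Helper20.OT

set_option maxRecDepth 100000

/-- sign on `S4` -/
abbrev sS4 : Equiv.Perm (Fin 4) →* ℤˣ := Equiv.Perm.sign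

theorem tot_fib {X Y : Type*} [Group X] [Group Y] [Finite X] [Finite Y] (σ : X →* ℤˣ) (τ : Y →* ℤˣ)
    (n : ℕ) : tot ↥(Fib σ τ) n = cnt σ 1 n * cnt τ 1 n + cnt σ (-1) n * cnt τ (-1) n := by
  rw [tot_eq_cnt (fibSign σ τ), cnt_fib, cnt_fib]

theorem tot_C2 (n : ℕ) : tot ℤˣ n = cnt (MonoidHom.id ℤˣ) 1 n + cnt (MonoidHom.id ℤˣ) (-1) n :=
  tot_eq_cnt _ _
theorem tot_C4 (n : ℕ) : tot (Multiplicative (ZMod 4)) n = cnt sgn4 1 n + cnt sgn4 (-1) n :=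
  tot_eq_cnt _ _
theorem tot_D3 (n : ℕ) : tot (DihedralGroup 3) n = cnt (sgnD 3) 1 n + cnt (sgnD 3) (-1) n :=
  tot_eq_cnt _ _
theorem tot_D4 (n : ℕ) : tot (DihedralGroup 4) n = cnt (sgnD 4) 1 n + cnt (sgnD 4) (-1) n :=
  tot_eq_cnt _ _
theorem tot_D7 (n : ℕ) : tot (DihedralGroup 7) n = cnt (sgnD 7) 1 n + cnt (sgnD 7) (-1) n :=
  tot_eq_cnt _ _
theorem tot_S4 (n : ℕ) : tot (Equiv.Perm (Fin 4)) n = cnt sS4 1 n + cnt sS4 (-1) n :=
  tot_eq_cnt _ _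

/-- the solvable part of the non-solvable group -/
abbrev HR : Type :=
  ℤˣ × (Fin 7 → Multiplicative (ZMod 4)) × (Fin 3 → DihedralGroup 3) ×
  DihedralGroup 4 × (Fin 3 → ↥(sS4).ker) × (Fin 6 → DihedralGroup 7) × (Fin 4 → ↥sgn42.ker) ×
  (Fin 3 → ↥(Fib (sgnD 3) (sgnD 3))) × (Fin 5 → ↥(Fib (sgnD 4) (sgnD 7))) ×
  (Fin 3 → ↥(Fib sgnV (sgnD 7))) × (Fin 3 → ↥(Fib (fibSign (sgnD 3) (sgnD 7)) sS4)) ×
  (Fin 4 → ↥(Fib (fibSign sgn4 (sgnD 7)) sgn42))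

/-- the non-solvable group -/
abbrev HH : Type := (Fin 3 → SL32) × HR

/-- the solvable group -/
abbrev GG : Type :=
  ↥(sgnD 7).ker × (Fin 3 → Equiv.Perm (Fin 4)) × (Fin 3 → BB) × (Fin 5 → ↥(Fib sgn4 (sgnD 7))) ×
  (Fin 3 → ↥(Fib (sgnD 3) sS4)) × (Fin 6 → ↥(Fib sgn4 sgn42)) × (Fin 2 → ↥(Fib (sgnD 7) (sgnD 7))) ×
  (Fin 2 → ↥(Fib (sgnD 7) sgn42)) × (Fin 3 → ↥(Fib (fibSign (sgnD 3) (sgnD 3)) (sgnD 7))) ×
  (Fin 3 → ↥(Fib (pmSign sgnV (sgnD 3)) (sgnD 7))) × (Fin 3 → ↥(Fib (pmSign sgnV (sgnD 4)) (sgnD 7)))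

set_option synthInstance.maxSize 2000 in
set_option synthInstance.maxHeartbeats 400000 in
instance finite_HR : Finite HR := inferInstance

set_option synthInstance.maxSize 2000 in
set_option synthInstance.maxHeartbeats 400000 in
instance finite_HH : Finite HH := inferInstance

set_option synthInstance.maxSize 2000 in
set_option synthInstance.maxHeartbeats 400000 in
instance finite_GG : Finite GG := inferInstance

theorem solv_D3 : Group.IsSolvable (DihedralGroup 3) :=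
  Cfsg.Agent.S0144.result 2 3 1 1 Nat.prime_two Nat.prime_three (by rw [DihedralGroup.nat_card]; norm_num)
theorem solv_D7 : Group.IsSolvable (DihedralGroup 7) :=
  Cfsg.Agent.S0144.result 2 7 1 1 Nat.prime_two (by norm_num) (by rw [DihedralGroup.nat_card]; norm_num)
theorem solv_D4 : Group.IsSolvable (DihedralGroup 4) :=
  Cfsg.Agent.S0144.result 2 3 3 0 Nat.prime_two Nat.prime_three (by rw [DihedralGroup.nat_card]; norm_num)
theorem solv_S4 : Group.IsSolvable (Equiv.Perm (Fin 4)) :=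
  Cfsg.Agent.S0144.result 2 3 3 1 Nat.prime_two Nat.prime_three (by
    rw [Nat.card_eq_fintype_card, Fintype.card_perm, Fintype.card_fin]; rfl)

theorem solv_GG : Group.IsSolvable GG := by
  have := solv_D3
  have := solv_D7
  have := solv_D4
  have := solv_S4
  have : ∀ (k : ℕ) (X : Type) [Group X] [Group.IsSolvable X], Group.IsSolvable (Fin k → X) :=
    fun k X _ _ => isSolvable_pi k X
  infer_instance

theorem not_solvable_SL32 : ¬ Group.IsSolvable SL32 := by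
  intro hs
  have hsimple : IsSimpleGroup (Matrix.ProjectiveSpecialLinearGroup (Fin 3) (ZMod 2)) :=
    Cfsg.Agent.S0249.result 3 le_rfl
  have hq : Group.IsSolvable (Matrix.ProjectiveSpecialLinearGroup (Fin 3) (ZMod 2)) := by
    unfold Matrix.ProjectiveSpecialLinearGroup
    infer_instance
  have hcomm := (IsSimpleGroup.comm_iff_isSolvable
    (G := Matrix.ProjectiveSpecialLinearGroup (Fin 3) (ZMod 2))).2 hq
  let a : SL32 := ⟨!![1, 1, 0; 0, 1, 0; 0, 0, 1], by decide⟩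
  let b : SL32 := ⟨!![1, 0, 0; 1, 1, 0; 0, 0, 1], by decide⟩
  have h := hcomm (QuotientGroup.mk a) (QuotientGroup.mk b)
  rw [← QuotientGroup.mk_mul, ← QuotientGroup.mk_mul, QuotientGroup.eq] at h
  rw [Subgroup.mem_center_iff] at h
  have h2 := h a
  revert h2
  decide

theorem not_solv_HH : ¬ Group.IsSolvable HH := by
  intro hs
  have h1 : Group.IsSolvable (Fin 3 → SL32) :=
    Group.isSolvable_of_surjective (f := MonoidHom.fst (Fin 3 → SL32) HR) (fun x => ⟨(x, 1), rfl⟩)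
  have h2 : Group.IsSolvable SL32 :=
    Group.isSolvable_of_surjective (f := Pi.evalMonoidHom (fun _ : Fin 3 => SL32) 0)
      (fun x => ⟨fun _ => x, rfl⟩)
  exact not_solvable_SL32 h2

theorem exp_HH : ∀ x : HH, x ^ 84 = 1 := by
  repeat' first
    | apply exp_prod
    | apply exp_pi
    | apply exp_subgroup
    | exact exp_S
    | exact exp_C2
    | exact exp_C4
    | exact exp_D3
    | exact exp_D7
    | exact exp_D4
    | exact exp_S4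
    | exact exp_F42

theorem exp_GG : ∀ x : GG, x ^ 84 = 1 := by
  repeat' first
    | apply exp_prod
    | apply exp_pi
    | apply exp_subgroup
    | exact exp_C2
    | exact exp_C4
    | exact exp_D3
    | exact exp_D7
    | exact exp_D4
    | exact exp_S4
    | exact exp_F42
    | exact exp_B

theorem divisors_84 : Nat.divisors 84 = {1, 2, 3, 4, 6, 7, 12, 14, 21, 28, 42, 84} := by decide

theorem tot_eq_of_dvd (m : ℕ) (hm : m ∣ 84) : tot GG m = tot HH m := by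
  have h : m ∈ Nat.divisors 84 := Nat.mem_divisors.2 ⟨hm, by norm_num⟩
  rw [divisors_84] at h
  simp only [Finset.mem_insert, Finset.mem_singleton] at h
  rcases h with hm | hm | hm | hm | hm | hm | hm | hm | hm | hm | hm | hm
  · subst hm
    simp only [tot_prod, tot_pi, tot_ker, tot_fib, cnt_fib, cnt_pm, neg_neg, tot_C2, tot_C4, tot_D3, tot_D4,
      tot_D7, tot_S4, v_C2_p_1, v_C2_m_1, v_C4_p_1, v_C4_m_1, v_D3_p_1, v_D3_m_1, v_D7_p_1, v_D7_m_1, v_D4_p_1, v_D4_m_1, v_DV_p_1, v_DV_m_1, v_S4_p_1, v_S4_m_1, v_F42_p_1, v_F42_m_1, v_B_1, v_S_1]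
    norm_num
  · subst hm
    simp only [tot_prod, tot_pi, tot_ker, tot_fib, cnt_fib, cnt_pm, neg_neg, tot_C2, tot_C4, tot_D3, tot_D4,
      tot_D7, tot_S4, v_C2_p_2, v_C2_m_2, v_C4_p_2, v_C4_m_2, v_D3_p_2, v_D3_m_2, v_D7_p_2, v_D7_m_2, v_D4_p_2, v_D4_m_2, v_DV_p_2, v_DV_m_2, v_S4_p_2, v_S4_m_2, v_F42_p_2, v_F42_m_2, v_B_2, v_S_2]
    norm_num
  · subst hm
    simp only [tot_prod, tot_pi, tot_ker, tot_fib, cnt_fib, cnt_pm, neg_neg, tot_C2, tot_C4, tot_D3, tot_D4,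
      tot_D7, tot_S4, v_C2_p_3, v_C2_m_3, v_C4_p_3, v_C4_m_3, v_D3_p_3, v_D3_m_3, v_D7_p_3, v_D7_m_3, v_D4_p_3, v_D4_m_3, v_DV_p_3, v_DV_m_3, v_S4_p_3, v_S4_m_3, v_F42_p_3, v_F42_m_3, v_B_3, v_S_3]
    norm_num
  · subst hm
    simp only [tot_prod, tot_pi, tot_ker, tot_fib, cnt_fib, cnt_pm, neg_neg, tot_C2, tot_C4, tot_D3, tot_D4,
      tot_D7, tot_S4, v_C2_p_4, v_C2_m_4, v_C4_p_4, v_C4_m_4, v_D3_p_4, v_D3_m_4, v_D7_p_4, v_D7_m_4, v_D4_p_4, v_D4_m_4, v_DV_p_4, v_DV_m_4, v_S4_p_4, v_S4_m_4, v_F42_p_4, v_F42_m_4, v_B_4, v_S_4]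
    norm_num
  · subst hm
    simp only [tot_prod, tot_pi, tot_ker, tot_fib, cnt_fib, cnt_pm, neg_neg, tot_C2, tot_C4, tot_D3, tot_D4,
      tot_D7, tot_S4, v_C2_p_6, v_C2_m_6, v_C4_p_6, v_C4_m_6, v_D3_p_6, v_D3_m_6, v_D7_p_6, v_D7_m_6, v_D4_p_6, v_D4_m_6, v_DV_p_6, v_DV_m_6, v_S4_p_6, v_S4_m_6, v_F42_p_6, v_F42_m_6, v_B_6, v_S_6]
    norm_num
  · subst hm
    simp only [tot_prod, tot_pi, tot_ker, tot_fib, cnt_fib, cnt_pm, neg_neg, tot_C2, tot_C4, tot_D3, tot_D4,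
      tot_D7, tot_S4, v_C2_p_7, v_C2_m_7, v_C4_p_7, v_C4_m_7, v_D3_p_7, v_D3_m_7, v_D7_p_7, v_D7_m_7, v_D4_p_7, v_D4_m_7, v_DV_p_7, v_DV_m_7, v_S4_p_7, v_S4_m_7, v_F42_p_7, v_F42_m_7, v_B_7, v_S_7]
    norm_num
  · subst hm
    simp only [tot_prod, tot_pi, tot_ker, tot_fib, cnt_fib, cnt_pm, neg_neg, tot_C2, tot_C4, tot_D3, tot_D4,
      tot_D7, tot_S4, v_C2_p_12, v_C2_m_12, v_C4_p_12, v_C4_m_12, v_D3_p_12, v_D3_m_12, v_D7_p_12, v_D7_m_12, v_D4_p_12, v_D4_m_12, v_DV_p_12, v_DV_m_12, v_S4_p_12, v_S4_m_12, v_F42_p_12, v_F42_m_12, v_B_12, v_S_12]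
    norm_num
  · subst hm
    simp only [tot_prod, tot_pi, tot_ker, tot_fib, cnt_fib, cnt_pm, neg_neg, tot_C2, tot_C4, tot_D3, tot_D4,
      tot_D7, tot_S4, v_C2_p_14, v_C2_m_14, v_C4_p_14, v_C4_m_14, v_D3_p_14, v_D3_m_14, v_D7_p_14, v_D7_m_14, v_D4_p_14, v_D4_m_14, v_DV_p_14, v_DV_m_14, v_S4_p_14, v_S4_m_14, v_F42_p_14, v_F42_m_14, v_B_14, v_S_14]
    norm_num
  · subst hm
    simp only [tot_prod, tot_pi, tot_ker, tot_fib, cnt_fib, cnt_pm, neg_neg, tot_C2, tot_C4, tot_D3, tot_D4,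
      tot_D7, tot_S4, v_C2_p_21, v_C2_m_21, v_C4_p_21, v_C4_m_21, v_D3_p_21, v_D3_m_21, v_D7_p_21, v_D7_m_21, v_D4_p_21, v_D4_m_21, v_DV_p_21, v_DV_m_21, v_S4_p_21, v_S4_m_21, v_F42_p_21, v_F42_m_21, v_B_21, v_S_21]
    norm_num
  · subst hm
    simp only [tot_prod, tot_pi, tot_ker, tot_fib, cnt_fib, cnt_pm, neg_neg, tot_C2, tot_C4, tot_D3, tot_D4,
      tot_D7, tot_S4, v_C2_p_28, v_C2_m_28, v_C4_p_28, v_C4_m_28, v_D3_p_28, v_D3_m_28, v_D7_p_28, v_D7_m_28, v_D4_p_28, v_D4_m_28, v_DV_p_28, v_DV_m_28, v_S4_p_28, v_S4_m_28, v_F42_p_28, v_F42_m_28, v_B_28, v_S_28]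
    norm_num
  · subst hm
    simp only [tot_prod, tot_pi, tot_ker, tot_fib, cnt_fib, cnt_pm, neg_neg, tot_C2, tot_C4, tot_D3, tot_D4,
      tot_D7, tot_S4, v_C2_p_42, v_C2_m_42, v_C4_p_42, v_C4_m_42, v_D3_p_42, v_D3_m_42, v_D7_p_42, v_D7_m_42, v_D4_p_42, v_D4_m_42, v_DV_p_42, v_DV_m_42, v_S4_p_42, v_S4_m_42, v_F42_p_42, v_F42_m_42, v_B_42, v_S_42]
    norm_num
  · subst hm
    simp only [tot_prod, tot_pi, tot_ker, tot_fib, cnt_fib, cnt_pm, neg_neg, tot_C2, tot_C4, tot_D3, tot_D4,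
      tot_D7, tot_S4, v_C2_p_84, v_C2_m_84, v_C4_p_84, v_C4_m_84, v_D3_p_84, v_D3_m_84, v_D7_p_84, v_D7_m_84, v_D4_p_84, v_D4_m_84, v_DV_p_84, v_DV_m_84, v_S4_p_84, v_S4_m_84, v_F42_p_84, v_F42_m_84, v_B_84, v_S_84]
    norm_num

theorem tot_eq (n : ℕ) : tot GG n = tot HH n := by
  rw [tot_gcd 84 exp_GG n, tot_gcd 84 exp_HH n]
  exact tot_eq_of_dvd _ (Nat.gcd_dvd_right n 84)

/-- There are finite groups G and H having the same number of elements of each order (the same order type) with G solvable and H not solvable. -/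
theorem result :
    ∃ (G : Type) (_ : Group G) (_ : Finite G) (H : Type) (_ : Group H) (_ : Finite H),
      Group.IsSolvable G ∧ ¬ Group.IsSolvable H ∧ ∀ n : ℕ, Nat.card {g : G // orderOf g = n} = Nat.card {h : H // orderOf h = n} := by
  refine ⟨GG, inferInstance, inferInstance, HH, inferInstance, inferInstance, solv_GG, not_solv_HH, ?_⟩
  exact (Cfsg.Agent.S4377.result (G := GG) (H := HH)).2 tot_eq

end Cfsg.Agent.S4376
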