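import Cfsg.Statements.S4379
import Cfsg.Agent.Lib.Helper63.MaxPNilE

set_option autoImplicit false
open Cfsg

namespace Cfsg.Agent.S4379

/-- Let p be an odd prime and G a finite p-solvable group in which every maximal subgroup either has a normal p-complement or has prime index. Then G has a chain of normal subgroups 1 ≤ A ≤ B ≤ C ≤ D ≤ G in which A, C/B and G/D have order prime to p and B/A and D/C are p-groups (so the p-length of G is at most 2). -/
theorem result {G : Type*} [Group G] [Finite G]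
    (p : ℕ) [Fact p.Prime] (hp : p ≠ 2) (hG : Cfsg.IsPSolvable p G)
    (hmax : ∀ M : Subgroup G, IsCoatom M → (∃ K : Subgroup ↥M, K.Normal ∧ ¬ p ∣ Nat.card K ∧ ∃ k : ℕ, K.index = p ^ k) ∨ (M.index).Prime) :
    ∃ A B C D : Subgroup G, A.Normal ∧ B.Normal ∧ C.Normal ∧ D.Normal ∧ A ≤ B ∧ B ≤ C ∧ C ≤ D ∧ ¬ p ∣ Nat.card A ∧
      (∃ k : ℕ, A.relIndex B = p ^ k) ∧ ¬ p ∣ B.relIndex C ∧ (∃ k : ℕ, C.relIndex D = p ^ k) ∧ ¬ p ∣ D.index := by
  have hpp : p.Prime := Fact.out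
  obtain ⟨A, B, C, D, hA, hB, hC, hD, hAB, hBC, hCD, hAc, hBp, hCc, hDp, hpow⟩ :=
    Cfsg.Agent.Lib.Helper63.MaxPNil.chain_of_maxHyp p (Or.inl hG) hmax
  refine ⟨A, B, C, D, hA, hB, hC, hD, hAB, hBC, hCD, ?_, hBp, ?_, hDp, ?_⟩
  · exact (Nat.Prime.coprime_iff_not_dvd hpp).1 hAc.symm
  · exact (Nat.Prime.coprime_iff_not_dvd hpp).1 hCc.symm
  · intro hdvd
    haveI := hD
    have hdvd' : p ∣ Nat.card (G ⧸ D) := hdvd
    obtain ⟨x, hx⟩ := exists_prime_orderOf_dvd_card' p hdvd'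
    obtain ⟨g, rfl⟩ := QuotientGroup.mk'_surjective D x
    have h1 : (QuotientGroup.mk' D g) ^ (p - 1) = 1 := by
      rw [← map_pow, QuotientGroup.mk'_apply, QuotientGroup.eq_one_iff]
      exact hpow g
    have h2 : p ∣ p - 1 := by
      have := orderOf_dvd_of_pow_eq_one h1
      rwa [hx] at this
    have h3 : 2 ≤ p := hpp.two_le
    have h4 : p ≤ p - 1 := Nat.le_of_dvd (by omega) h2
    omega

end Cfsg.Agent.S4379
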