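import Cfsg.Statements.S4381
import Mathlib
import Cfsg.Agent.Lib.Helper24.Maschke
import Cfsg.Agent.Lib.Helper24.InvSylow
import Cfsg.Agent.Lib.Helper24.RankTwo
import Cfsg.Agent.S0012
-- import your own Cfsg.Agent.* helpers here

set_option autoImplicit false
open Pointwise
open Cfsg

namespace Cfsg.Agent.S4381

open Cfsg.Agent.Lib.Helper24
open scoped commutatorElement

section
variable (A : Type*) {G : Type*} [Group A] [Group G] [MulDistribMulAction A G]

/-- `L` is `A`-invariant. -/
def Inv (L : Subgroup G) : Prop := ∀ a : A, ∀ x ∈ L, a • x ∈ L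

/-- `M` is a maximal `A`-invariant subgroup. -/
def MaxInv (M : Subgroup G) : Prop :=
  M ≠ ⊤ ∧ Inv A M ∧ ∀ L : Subgroup G, M < L → Inv A L → L = ⊤

variable {A}

theorem inv_iff {M : Subgroup G} (hM : Inv A M) (a : A) (x : G) : a • x ∈ M ↔ x ∈ M := by
  constructor
  · intro h
    have := hM a⁻¹ _ h
    rwa [inv_smul_smul] at this
  · exact hM a x

theorem inv_frattini : Inv A (frattini G) := by
  intro a x hx
  have hchar : (frattini G).Characteristic := inferInstance
  exact Subgroup.characteristic_iff_map_le.mp hchar (MulDistribMulAction.toMulEquiv G a)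
    (Subgroup.mem_map_of_mem _ hx)

theorem inv_sup {L₁ L₂ : Subgroup G} (h₁ : Inv A L₁) (h₂ : Inv A L₂) : Inv A (L₁ ⊔ L₂) := by
  intro a x hx
  have hle : L₁ ⊔ L₂ ≤ (L₁ ⊔ L₂).comap (MulDistribMulAction.toMonoidHom G a) := by
    apply sup_le
    · intro y hy
      exact (le_sup_left : L₁ ≤ L₁ ⊔ L₂) (h₁ a y hy)
    · intro y hy
      exact (le_sup_right : L₂ ≤ L₁ ⊔ L₂) (h₂ a y hy)
  exact hle hx

theorem inv_normalizer {M : Subgroup G} (hM : Inv A M) :
    Inv A (Subgroup.normalizer (M : Set G)) := by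
  intro a x hx
  rw [Subgroup.mem_normalizer_iff] at hx ⊢
  intro m
  have e : a • x * m * (a • x)⁻¹ = a • (x * (a⁻¹ • m) * x⁻¹) := by
    rw [smul_mul', smul_mul', smul_inv', smul_inv_smul]
  rw [e, inv_iff hM, ← hx, inv_iff hM]

theorem exists_maxInv_ge [Finite G] {L : Subgroup G} (hL : Inv A L) (hne : L ≠ ⊤) :
    ∃ M : Subgroup G, MaxInv A M ∧ L ≤ M := by
  obtain ⟨M, hLM, hM⟩ := Set.Finite.exists_le_maximal
    (s := {M : Subgroup G | Inv A M ∧ M ≠ ⊤}) (Set.toFinite _) (a := L) ⟨hL, hne⟩
  refine ⟨M, ⟨hM.prop.2, hM.prop.1, ?_⟩, hLM⟩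
  intro L' hlt hL'
  by_contra hne'
  exact absurd (hM.le_of_ge ⟨hL', hne'⟩ hlt.le) (not_le_of_gt hlt)

/-- If `A` leaves invariant no subgroup strictly between `Φ(G)` and `G`, the only maximal
`A`-invariant subgroup is `Φ(G)`. -/
theorem maxInv_iff_of_irr [Finite G]
    (hirr : ∀ L : Subgroup G, frattini G < L → Inv A L → L = ⊤) (M : Subgroup G) :
    MaxInv A M ↔ (M = frattini G ∧ M ≠ ⊤) := by
  constructor
  · rintro ⟨hne, hinv, hmax⟩
    refine ⟨?_, hne⟩
    have h1 : M ⊔ frattini G ≠ ⊤ := fun h => hne (frattini_nongenerating h)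
    have h2 : frattini G ≤ M := by
      by_contra hnle
      have hlt : M < M ⊔ frattini G := by
        refine lt_of_le_of_ne le_sup_left ?_
        intro heq
        apply hnle
        rw [heq]
        exact le_sup_right
      exact h1 (hmax _ hlt (inv_sup hinv inv_frattini))
    by_contra hne2
    have hlt : frattini G < M := lt_of_le_of_ne h2 (Ne.symm hne2)
    exact hne (hirr M hlt hinv)
  · rintro ⟨rfl, hne⟩
    exact ⟨hne, inv_frattini, hirr⟩

end

/-- Let the finite group A act by automorphisms on the finite group G with the orders of A and G coprime, and assume that A or G is solvable. Call a proper A-invariant subgroup of G maximal A-invariant when no A-invariant subgroup lies strictly between it and G. Then all maximal A-invariant subgroups of G are conjugate under elements of the fixed-point subgroup C_G(A) if and only if G is a p-group for some prime p and A leaves invariant no subgroup strictly between the Frattini subgroup of G and G. In that case, if G is nontrivial, the Frattini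 subgroup is the only maximal A-invariant subgroup (a trivial G has none). -/
theorem result {A G : Type*} [Group A] [Finite A]
    [Group G] [Finite G] [MulDistribMulAction A G] (hcop : (Nat.card A).Coprime (Nat.card G)) (hsol : Group.IsSolvable A ∨ Group.IsSolvable G) :
    ((∀ M N : Subgroup G, (M ≠ ⊤ ∧ (∀ a : A, ∀ x ∈ M, a • x ∈ M) ∧ ∀ L : Subgroup G, M < L → (∀ a : A, ∀ x ∈ L, a • x ∈ L) → L = ⊤) → (N ≠ ⊤ ∧ (∀ a : A, ∀ x ∈ N, a • x ∈ N) ∧ ∀ L : Subgroup G, N < L → (∀ a : A, ∀ x ∈ L, a • x ∈ L) → L = ⊤) →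
        ∃ c : G, (∀ a : A, a • c = c) ∧ N = MulAut.conj c • M) ↔
      ((∃ p : ℕ, p.Prime ∧ IsPGroup p G) ∧ ∀ L : Subgroup G, frattini G < L → (∀ a : A, ∀ x ∈ L, a • x ∈ L) → L = ⊤)) ∧
    (((∃ p : ℕ, p.Prime ∧ IsPGroup p G) ∧ ∀ L : Subgroup G, frattini G < L → (∀ a : A, ∀ x ∈ L, a • x ∈ L) → L = ⊤) →
      ∀ M : Subgroup G, (M ≠ ⊤ ∧ (∀ a : A, ∀ x ∈ M, a • x ∈ M) ∧ ∀ L : Subgroup G, M < L → (∀ a : A, ∀ x ∈ L, a • x ∈ L) → L = ⊤) ↔ (M = frattini G ∧ M ≠ ⊤)) := by
  have key : ∀ M : Subgroup G, (M ≠ ⊤ ∧ (∀ a : A, ∀ x ∈ M, a • x ∈ M) ∧ ∀ L : Subgroup G, M < L →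
      (∀ a : A, ∀ x ∈ L, a • x ∈ L) → L = ⊤) ↔ MaxInv A M := fun M => Iff.rfl
  refine ⟨⟨?_, ?_⟩, ?_⟩
  · -- conjugacy implies `p`-group and irreducibility
    intro hconj
    have hconj' : ∀ M N : Subgroup G, MaxInv A M → MaxInv A N →
        ∃ c : G, (∀ a : A, a • c = c) ∧ N = MulAut.conj c • M := hconj
    -- `G` is a `p`-group
    have hpgroup : ∃ p : ℕ, p.Prime ∧ IsPGroup p G := by
      by_contra hnp
      have hnq : ∀ (q : ℕ) [Fact q.Prime] (P : Sylow q G), (P : Subgroup G) ≠ ⊤ := by
        intro q hq P hP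
        apply hnp
        refine ⟨q, hq.out, ?_⟩
        have h1 : IsPGroup q (⊤ : Subgroup G) := hP ▸ P.isPGroup'
        exact h1.of_equiv Subgroup.topEquiv
      have hcard1 : Nat.card G ≠ 1 := by
        intro h1
        apply hnp
        exact ⟨2, Nat.prime_two, IsPGroup.of_card (n := 0) (by rw [h1, pow_zero])⟩
      have hp0 : (Nat.card G).minFac.Prime := Nat.minFac_prime hcard1
      have : Fact (Nat.card G).minFac.Prime := ⟨hp0⟩
      obtain ⟨P₀, hP₀⟩ := exists_invariant_sylow_action hcop hsol (Nat.card G).minFac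
      obtain ⟨M₀, hM₀, hPM₀⟩ := exists_maxInv_ge (A := A) hP₀ (hnq _ P₀)
      have hdvd : Nat.card G ∣ Nat.card M₀ := by
        rw [← Nat.factorization_prime_le_iff_dvd Nat.card_pos.ne' Nat.card_pos.ne']
        intro q hq
        have : Fact q.Prime := ⟨hq⟩
        obtain ⟨P, hP⟩ := exists_invariant_sylow_action hcop hsol q
        obtain ⟨M, hM, hPM⟩ := exists_maxInv_ge (A := A) hP (hnq _ P)
        obtain ⟨c, -, hc⟩ := hconj' M₀ M hM₀ hM
        have hcardM : Nat.card M = Nat.card M₀ := by
          rw [hc]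
          exact (Nat.card_congr (Subgroup.equivSMul (MulAut.conj c) M₀).toEquiv).symm
        have h1 : q ^ (Nat.card G).factorization q ∣ Nat.card M₀ := by
          rw [← hcardM, ← P.card_eq_multiplicity]
          exact Subgroup.card_dvd_of_le hPM
        exact (hq.pow_dvd_iff_le_factorization Nat.card_pos.ne').mp h1
      have hle : Nat.card M₀ ≤ Nat.card G := Subgroup.card_le_card_group M₀
      have heq : Nat.card M₀ = Nat.card G :=
        le_antisymm hle (Nat.le_of_dvd Nat.card_pos hdvd)
      exact hM₀.1 (Subgroup.eq_top_of_card_eq M₀ heq)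
    refine ⟨hpgroup, ?_⟩
    obtain ⟨p, hpp, hG⟩ := hpgroup
    have : Fact p.Prime := ⟨hpp⟩
    intro L hΦL hL
    by_contra hLtop
    obtain ⟨M₁, hM₁, hLM₁⟩ := exists_maxInv_ge (A := A) hL hLtop
    have hΦM₁ : frattini G ≤ M₁ := hΦL.le.trans hLM₁
    -- `M₁` is normal
    have hnil : Group.IsNilpotent G := hG.isNilpotent
    have hM₁n : M₁.Normal := by
      rw [← Subgroup.normalizer_eq_top_iff]
      have hlt : M₁ < Subgroup.normalizer (M₁ : Set G) :=
        Group.normalizerCondition_of_isNilpotent M₁ (lt_top_iff_ne_top.mpr hM₁.1)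
      exact hM₁.2.2 _ hlt (inv_normalizer hM₁.2.1)
    -- hence it is the unique maximal invariant subgroup
    have huniq : ∀ N : Subgroup G, MaxInv A N → N = M₁ := by
      intro N hN
      obtain ⟨c, -, hc⟩ := hconj' M₁ N hM₁ hN
      rw [hc]
      exact Subgroup.Normal.conj_smul_eq_self c M₁
    have hall : ∀ L' : Subgroup G, Inv A L' → L' ≠ ⊤ → L' ≤ M₁ := by
      intro L' hL' hne
      obtain ⟨N, hN, hLN⟩ := exists_maxInv_ge (A := A) hL' hne
      rw [huniq N hN] at hLN
      exact hLN
    -- the Frattini quotient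
    obtain ⟨hcomm, hpow⟩ := Cfsg.Agent.S0012.result p hG
    let φ : A →* MulAut G := MulDistribMulAction.toMulAut A G
    have hφ : ∀ (a : A) (x : G), φ a x = a • x := fun a x => rfl
    have hΦinv : ∀ a : A, ∀ n ∈ frattini G, φ a n ∈ frattini G := fun a n hn => inv_frattini a n hn
    let ψ : A →* MulAut (G ⧸ frattini G) := quotAut (frattini G) φ hΦinv
    have hcommV : ∀ x y : G ⧸ frattini G, x * y = y * x := by
      intro x y
      induction x using QuotientGroup.induction_on with
      | H a =>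
        induction y using QuotientGroup.induction_on with
        | H b =>
          rw [← QuotientGroup.mk_mul, ← QuotientGroup.mk_mul, QuotientGroup.eq]
          have e : (a * b)⁻¹ * (b * a) = ⁅b⁻¹, a⁻¹⁆ := by rw [commutatorElement_def]; group
          rw [e]
          apply hcomm
          rw [commutator_def]
          exact Subgroup.commutator_mem_commutator (Subgroup.mem_top _) (Subgroup.mem_top _)
    have hexpV : ∀ x : G ⧸ frattini G, x ^ p = 1 := by
      intro x
      induction x using QuotientGroup.induction_on with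
      | H a =>
        rw [← QuotientGroup.mk_pow, QuotientGroup.eq_one_iff]
        exact hpow a
    have hcopA : (Nat.card A).Coprime p := by
      by_cases h1 : Nat.card G = 1
      · -- trivial group: `L` cannot be proper
        exfalso
        have : Subsingleton G := (Nat.card_eq_one_iff_unique.mp h1).1
        exact hLtop (Subsingleton.elim _ _)
      · obtain ⟨k, hk⟩ := hG.exists_card_eq
        have hk0 : k ≠ 0 := by
          rintro rfl
          exact h1 (by rw [hk, pow_zero])
        rw [hk] at hcop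
        exact (Nat.coprime_pow_right_iff (Nat.pos_of_ne_zero hk0) _ _).mp hcop
    let U : Subgroup (G ⧸ frattini G) := M₁.map (QuotientGroup.mk' (frattini G))
    have hU : ∀ a, ∀ u ∈ U, ψ a u ∈ U := by
      rintro a _ ⟨m, hm, rfl⟩
      exact ⟨a • m, hM₁.2.1 a m hm, rfl⟩
    obtain ⟨U', hU'inv, hUU'bot, hUU'top⟩ :=
      exists_invariant_compl p hcommV hexpV ψ hcopA U hU
    have hL'inv : Inv A (U'.comap (QuotientGroup.mk' (frattini G))) := by
      intro a x hx
      exact hU'inv a _ hx
    have hmemU : ∀ g : G, (QuotientGroup.mk g : G ⧸ frattini G) ∈ U → g ∈ M₁ := by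
      rintro g ⟨m, hm, hmg⟩
      have h1 : m⁻¹ * g ∈ frattini G := QuotientGroup.eq.mp hmg
      have h2 := M₁.mul_mem hm (hΦM₁ h1)
      rwa [mul_inv_cancel_left] at h2
    by_cases hL'top : U'.comap (QuotientGroup.mk' (frattini G)) = ⊤
    · -- then `U' = ⊤`, so `U = ⊥` and `M₁ ≤ Φ(G)`
      have hU'top : U' = ⊤ := by
        rw [eq_top_iff]
        intro v _
        induction v using QuotientGroup.induction_on with
        | H x =>
          have : x ∈ U'.comap (QuotientGroup.mk' (frattini G)) := by rw [hL'top]; trivial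
          exact this
      rw [hU'top, inf_top_eq] at hUU'bot
      have hM₁Φ : M₁ ≤ frattini G := by
        intro m hm
        have h1 : (QuotientGroup.mk m : G ⧸ frattini G) ∈ U := ⟨m, hm, rfl⟩
        rw [hUU'bot, Subgroup.mem_bot, QuotientGroup.eq_one_iff] at h1
        exact h1
      exact absurd (hLM₁.trans hM₁Φ) (not_le_of_gt hΦL)
    · have hL'M₁ := hall _ hL'inv hL'top
      have hU'U : U' ≤ U := by
        intro v hv
        induction v using QuotientGroup.induction_on with
        | H x => exact ⟨x, hL'M₁ hv, rfl⟩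
      have hU'bot : U' = ⊥ := by
        rw [← hUU'bot]
        exact (inf_eq_right.mpr hU'U).symm
      rw [hU'bot, sup_bot_eq] at hUU'top
      apply hM₁.1
      rw [eq_top_iff]
      intro g _
      apply hmemU
      rw [hUU'top]
      trivial
  · -- the converse
    rintro ⟨-, hirr⟩ M N hM hN
    have hM' := (maxInv_iff_of_irr (A := A) hirr M).mp hM
    have hN' := (maxInv_iff_of_irr (A := A) hirr N).mp hN
    refine ⟨1, fun a => smul_one a, ?_⟩
    rw [hM'.1, hN'.1, map_one, one_smul]
  · rintro ⟨-, hirr⟩ M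
    exact maxInv_iff_of_irr (A := A) hirr M

end Cfsg.Agent.S4381
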