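import Cfsg.Statements.S4383
import Cfsg.Agent.Lib.Helper88.PazderskiB

set_option autoImplicit false
open Pointwise
open Cfsg
namespace Cfsg.Agent.S4383

open Cfsg.Agent.Lib.Helper88.Pazderski in
/-- A finite group with exactly two conjugacy classes of maximal subgroups is solvable and its order has exactly two prime divisors. -/
theorem result {G : Type*} [Group G] [Finite G]
    (M₁ M₂ : Subgroup G) (h1 : IsCoatom M₁) (h2 : IsCoatom M₂) (hne : ∀ g : G, M₂ ≠ MulAut.conj g • M₁)
    (hall : ∀ M : Subgroup G, IsCoatom M → ∃ g : G, M = MulAut.conj g • M₁ ∨ M = MulAut.conj g • M₂) :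
    Group.IsSolvable G ∧ (Nat.card G).primeFactors.card = 2 := by
  by_cases hn1 : M₁.Normal
  · haveI := hn1
    refine case_one M₁ M₂ h1 h2 ?_ ?_
    · have := hne 1
      rwa [cj_one] at this
    · intro M hM
      obtain ⟨g, h | h⟩ := hall M hM
      · left
        rw [h, Subgroup.Normal.conj_smul_eq_self]
      · exact Or.inr ⟨g, h⟩
  · by_cases hn2 : M₂.Normal
    · haveI := hn2
      refine case_one M₂ M₁ h2 h1 ?_ ?_
      · have := hne 1
        rw [cj_one] at this
        exact this.symm
      · intro M hM
        obtain ⟨g, h | h⟩ := hall M hM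
        · exact Or.inr ⟨g, h⟩
        · left
          rw [h, Subgroup.Normal.conj_smul_eq_self]
    · exact (case_two M₁ M₂ h1 hall hn1 hn2).elim

end Cfsg.Agent.S4383
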