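import Cfsg.Statements.S4387
import Cfsg.Agent.Lib.Helper73.ConjUnion

set_option autoImplicit false
open Cfsg
open Pointwise

namespace Cfsg.Agent.S4387

open Cfsg.Agent.Lib.Helper73

/-- Let G be a non-trivial finite group in which any two maximal subgroups are conjugate. Then G is cyclic of prime-power order. -/
theorem result {G : Type*} [Group G] [Finite G] [Nontrivial G]
    (h : ∀ M N : Subgroup G, IsCoatom M → IsCoatom N → ∃ g : G, N = MulAut.conj g • M) :
    IsCyclic G ∧ IsPrimePow (Nat.card G) := by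
  classical
  -- existence of a maximal subgroup
  have hbt : (⊥ : Subgroup G) ≠ ⊤ := bot_ne_top
  obtain ⟨M, hM, -⟩ := (eq_top_or_exists_le_coatom (⊥ : Subgroup G)).resolve_left hbt
  -- G is cyclic
  have hcyc : IsCyclic G := by
    by_contra hnc
    obtain ⟨g, hg⟩ := exists_not_mem_conj_of_ne_top M hM.1
    have hz : Subgroup.zpowers g ≠ ⊤ := by
      intro htop
      apply hnc
      exact ⟨⟨g, fun x => by
        have : x ∈ Subgroup.zpowers g := by rw [htop]; trivial
        exact this⟩⟩
    obtain ⟨N, hN, hgN⟩ := (eq_top_or_exists_le_coatom (Subgroup.zpowers g)).resolve_left hz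
    obtain ⟨c, hc⟩ := h M N hM hN
    apply hg c
    rw [← hc]
    exact hgN (Subgroup.mem_zpowers g)
  refine ⟨hcyc, ?_⟩
  -- uniqueness of the maximal subgroup
  have hcomm : ∀ a b : G, a * b = b * a := by
    intro a b
    exact (IsCyclic.commGroup (α := G)).mul_comm a b
  have huniq : ∀ N : Subgroup G, IsCoatom N → N = M := by
    intro N hN
    obtain ⟨c, hc⟩ := h M N hM hN
    rw [hc]
    ext x
    rw [mem_conj_smul_iff]
    have : c⁻¹ * x * c = x := by rw [hcomm c⁻¹ x, mul_assoc, inv_mul_cancel, mul_one]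
    rw [this]
  have hle : ∀ K : Subgroup G, K ≠ ⊤ → K ≤ M := by
    intro K hK
    obtain ⟨N, hN, hKN⟩ := (eq_top_or_exists_le_coatom K).resolve_left hK
    rw [← huniq N hN]
    exact hKN
  obtain ⟨g, hg⟩ := hcyc.exists_generator
  have hordg : orderOf g = Nat.card G := orderOf_eq_card_of_forall_mem_zpowers hg
  have hcard1 : Nat.card G ≠ 1 := by
    intro h1
    have := (Nat.card_eq_one_iff_unique.1 h1).1
    exact not_subsingleton G this
  have hpos : 0 < Nat.card G := Nat.card_pos
  -- for each prime p dividing |G|, g ^ p ∈ M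
  have hpow : ∀ p : ℕ, p.Prime → p ∣ Nat.card G → g ^ p ∈ M := by
    intro p hp hpd
    apply hle (Subgroup.zpowers (g ^ p)) _ (Subgroup.mem_zpowers _)
    intro htop
    have hc : Nat.card (Subgroup.zpowers (g ^ p)) = Nat.card G := by
      rw [htop, Subgroup.card_top]
    rw [Nat.card_zpowers, orderOf_pow' g hp.ne_zero, hordg, Nat.gcd_eq_right hpd] at hc
    have h2 : Nat.card G / p < Nat.card G := Nat.div_lt_self hpos hp.one_lt
    omega
  rw [isPrimePow_iff_unique_prime_dvd]
  obtain ⟨p, hp, hpd⟩ := Nat.exists_prime_and_dvd hcard1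
  refine ⟨p, ⟨hp, hpd⟩, ?_⟩
  rintro q ⟨hq, hqd⟩
  by_contra hne
  have hcop : Nat.Coprime p q := (Nat.coprime_primes hp hq).2 (fun h => hne h.symm)
  have hgM : g ∈ M := by
    have h1 : g ^ (Nat.gcd p q : ℤ) ∈ M := by
      rw [Nat.gcd_eq_gcd_ab, zpow_add, zpow_mul, zpow_mul]
      apply M.mul_mem
      · apply M.zpow_mem
        simpa using hpow p hp hpd
      · apply M.zpow_mem
        simpa using hpow q hq hqd
    rw [hcop] at h1
    simpa using h1
  apply hM.1
  rw [eq_top_iff]
  intro x _
  obtain ⟨k, rfl⟩ := Subgroup.mem_zpowers_iff.1 (hg x)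
  exact M.zpow_mem hgM k

end Cfsg.Agent.S4387
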