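-- Statement S4394 (row 4394): Sylow subgroups of Schmidt-kernel type force p-length one.
import Cfsg.Statements.S4394
import Cfsg.Agent.Lib.Helper1.SchmidtKernel
import Cfsg.Agent.Lib.Helper1.SchmidtKernelX
import Cfsg.Agent.Lib.Helper1.SchmidtPLen
import Cfsg.Agent.Lib.Helper1.SchmidtHH
import Cfsg.Agent.Lib.Helper63.PLen
import Cfsg.Agent.Lib.Helper63.PLen2

set_option autoImplicit false
open Cfsg

namespace Cfsg.Agent.S4394

open Cfsg.Agent.Lib.Helper1.SchmidtKernel

/-- Let X be a finite minimal non-nilpotent group (not nilpotent, every proper subgroup nilpotent) with a nontrivial normal Sylow p-subgroup P. If G is a finite p-solvable group whose Sylow p-subgroups are isomorphic to P, then G has p-length at most 1. -/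
theorem result {G X : Type*} [Group G] [Finite G] [Group X] [Finite X] (p : ℕ) [Fact p.Prime]
    (hX : Cfsg.IsMinimalNonNilpotent X) (P : Sylow p X) (hPn : (P : Subgroup X).Normal) (hP1 : (P : Subgroup X) ≠ ⊥)
    (hG : Cfsg.IsPSolvable p G) (Q : Sylow p G) (hQ : Nonempty (↥(Q : Subgroup G) ≃* ↥(P : Subgroup X))) : Cfsg.PLengthLE p 1 G := by
  classical
  have hpp : p.Prime := Fact.out
  obtain ⟨e⟩ := hQ
  obtain ⟨α, q, D⟩ := exists_autData hX P hPn hP1
  have hRn : (pPrimeCore p G).Normal := inferInstance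
  have hRcop : (Nat.card (pPrimeCore p G)).Coprime p :=
    Cfsg.Agent.Lib.Helper76.pPrimeCore_coprime p
  have hπs : Function.Surjective (QuotientGroup.mk' (pPrimeCore p G)) :=
    QuotientGroup.mk'_surjective _
  have hsolq : IsPSolvable p (G ⧸ pPrimeCore p G) :=
    Cfsg.Agent.Lib.Helper76.IsPSolvable_of_surjective p (QuotientGroup.mk' (pPrimeCore p G))
      hπs hG
  have hcoreq := Cfsg.Agent.Lib.Helper76.quotient_pPrimeCore_core_trivial (G := G) p
  -- the image Sylow subgroup
  obtain ⟨Qb, hQb⟩ : ∃ Qb : Sylow p (G ⧸ pPrimeCore p G),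
      (Qb : Subgroup (G ⧸ pPrimeCore p G)) = (Q : Subgroup G).map (QuotientGroup.mk' (pPrimeCore p G)) :=
    ⟨Q.mapSurjective hπs, Sylow.coe_mapSurjective _ _⟩
  have hQbR : (Qb : Subgroup (G ⧸ pPrimeCore p G)) ≤ pCore p (G ⧸ pPrimeCore p G) := by
    rcases D.abelian_or_sk with hab | hsk
    · -- abelian Sylow subgroups: `Q̄ ≤ C(O_p) ≤ O_p`
      have hQab : ∀ a b : ↥(Q : Subgroup G), a * b = b * a := by
        intro a b
        apply e.injective
        rw [map_mul, map_mul]
        exact hab _ _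
      have hcent := Cfsg.Agent.Lib.Helper76.centralizer_pCore_le p hsolq hcoreq
      intro x hx
      apply hcent
      rw [Subgroup.mem_centralizer_iff]
      intro y hy
      have hyQ : y ∈ (Qb : Subgroup (G ⧸ pPrimeCore p G)) :=
        Cfsg.Agent.Lib.Helper1.pCore_le_sylow p Qb hy
      rw [hQb] at hx hyQ
      obtain ⟨a, ha, rfl⟩ := hx
      obtain ⟨b, hb, rfl⟩ := hyQ
      have h := congrArg Subtype.val (hQab ⟨b, hb⟩ ⟨a, ha⟩)
      simp only [Subgroup.coe_mul] at h
      rw [← map_mul, ← map_mul, h]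
    · -- Schmidt kernels
      have hskQ : SK p ↥(Q : Subgroup G) := hsk.of_equiv e.symm
      have hinj : Function.Injective ((QuotientGroup.mk' (pPrimeCore p G)).subgroupMap (Q : Subgroup G)) := by
        rw [injective_iff_map_eq_one]
        intro x hx
        have hx' : (QuotientGroup.mk' (pPrimeCore p G)) x.1 = 1 := congrArg Subtype.val hx
        have hxR : x.1 ∈ pPrimeCore p G := (QuotientGroup.eq_one_iff x.1).mp hx'
        obtain ⟨m, hm⟩ := Q.isPGroup' x
        have h1 : x.1 ^ (p ^ m) = 1 := by simpa using congrArg Subtype.val hm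
        have h2 : x.1 ^ Nat.card (pPrimeCore p G) = 1 := by
          have h := pow_card_eq_one' (G := ↥(pPrimeCore p G)) (x := ⟨x.1, hxR⟩)
          have h' := congrArg Subtype.val h
          simp only [Subgroup.coe_pow, Subgroup.coe_one] at h'
          exact h'
        exact Subtype.ext (eq_one_of_pow_pow_of_coprime hpp h1 h2 hRcop)
      have hskQb : SK p ↥(Qb : Subgroup (G ⧸ pPrimeCore p G)) := by
        rw [hQb]
        exact hskQ.of_equiv (MulEquiv.ofBijective _
          ⟨hinj, (QuotientGroup.mk' (pPrimeCore p G)).subgroupMap_surjective (Q : Subgroup G)⟩)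
      by_cases hp5 : 5 ≤ p
      · apply sylow_le_pCore_of_class_two hp5 hsolq hcoreq Qb
        intro x hx y hy z hz
        exact congrArg Subtype.val (hskQb.cc ⟨x, hx⟩ ⟨y, hy⟩ ⟨z, hz⟩)
      · have hp23 : p = 2 ∨ p = 3 := by
          have h2 := hpp.two_le
          have h4 : p ≠ 4 := by
            rintro rfl
            norm_num at hpp
          omega
        have hn := sylow_normal_of_sk hp23 hsolq hcoreq Qb hskQb
        exact Cfsg.Agent.Lib.Helper1.le_pCore hn Qb.isPGroup'
  have hmain : ¬ p ∣ (pCore p (G ⧸ pPrimeCore p G)).index := by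
    intro h
    exact Qb.not_dvd_index (h.trans (Subgroup.index_dvd_of_le hQbR))
  have hq : PLengthLE p 1 (G ⧸ pPrimeCore p G) := by
    have h1 : PLengthLE p 1 (pCore p (G ⧸ pPrimeCore p G)) :=
      Cfsg.Agent.Lib.Helper63.PLengthLE.one_of_isPGroup (Cfsg.Agent.Lib.Helper76.pCore_isPGroup p)
    have h0 : PLengthLE p 0 ((G ⧸ pPrimeCore p G) ⧸ pCore p (G ⧸ pPrimeCore p G)) := by
      apply Cfsg.Agent.Lib.Helper63.PLengthLE.zero_of_coprime
      rw [← Subgroup.index_eq_card]
      exact (Nat.Prime.coprime_iff_not_dvd hpp).2 hmain |>.symm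
    exact Cfsg.Agent.Lib.Helper63.PLengthLE.extension (pCore p (G ⧸ pPrimeCore p G)) h1 h0
  have h0 : PLengthLE p 0 (pPrimeCore p G) :=
    Cfsg.Agent.Lib.Helper63.PLengthLE.zero_of_coprime hRcop
  have := Cfsg.Agent.Lib.Helper63.PLengthLE.extension (pPrimeCore p G) h0 hq
  simpa using this

end Cfsg.Agent.S4394
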