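import Cfsg.Statements.S4396
import Cfsg.Agent.Lib.Helper2.FrobFree
-- import your own Cfsg.Agent.* helpers here

set_option autoImplicit false
open Cfsg

namespace Cfsg.Agent.S4396

open scoped Pointwise

/-- Let the finite group A act faithfully and linearly on a finite-dimensional vector space V over a field k, and suppose A is a Frobenius group with nilpotent kernel F (every Frobenius kernel is nilpotent) and complement H such that F fixes no nonzero vector. Then V is free as a module for H: there is a subspace W with V the direct sum of the translates hW, h ∈ H. (No assumption on the characteristic of k.) -/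
theorem result {k V A : Type*} [Field k] [AddCommGroup V] [Module k V] [FiniteDimensional k V] [Group A] [Finite A] [DecidableEq A]
    (ρ : Representation k A V) (hρ : Function.Injective ρ)
    (Fk Hc : Subgroup A) [Fk.Normal] (hHc : Cfsg.IsFrobeniusComplement Hc) (hker : Cfsg.frobeniusKernel Hc = (Fk : Set A)) (hnil : Group.IsNilpotent ↥Fk)
    (hCF : ∀ v : V, (∀ f ∈ Fk, ρ f v = v) → v = 0) :
    ∃ W : Submodule k V, DirectSum.IsInternal (fun h : ↥Hc => W.map (ρ (h : A))) := by
  let φ : ↥Hc →* MulAut ↥Fk := (MulAut.conjNormal (H := Fk)).comp Hc.subtype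
  have hφ : ∀ (h : ↥Hc) (f : ↥Fk), ((φ h f : ↥Fk) : A) = (h : A) * f * (h : A)⁻¹ :=
    fun h f => MulAut.conjNormal_apply (h : A) f
  have hfpf : ∀ h : ↥Hc, h ≠ 1 → ∀ f : ↥Fk, φ h f = f → f = 1 := by
    intro h hh f hf
    by_contra hf1
    have hfA : (f : A) ≠ 1 := fun h0 => hf1 (Subtype.ext h0)
    have hcomm : (h : A) * f * (h : A)⁻¹ = f := by
      rw [← hφ]; exact congrArg Subtype.val hf
    -- `f` lies in no conjugate of `Hc`
    have hfk : (f : A) ∈ Cfsg.frobeniusKernel Hc := by rw [hker]; exact f.2
    rcases hfk with h1 | h2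
    · exact hfA h1
    · have hfH : (f : A) ∉ Hc := by
        intro hmem
        apply h2 1
        rw [map_one, one_smul]
        exact hmem
      have hbot := hHc.2.2 (f : A) hfH
      have hmem : (h : A) ∈ Hc ⊓ (MulAut.conj (f : A) • Hc) := by
        refine ⟨h.2, ?_⟩
        show (h : A) ∈ MulAut.conj (f : A) • Hc
        rw [Subgroup.mem_smul_pointwise_iff_exists]
        refine ⟨h, h.2, ?_⟩
        rw [MulAut.smul_def, MulAut.conj_apply]
        -- `f * h * f⁻¹ = h`
        have : (f : A) * h = h * f := by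
          calc (f : A) * h = (h : A) * f * (h : A)⁻¹ * h := by rw [hcomm]
            _ = h * f := by group
        rw [this, mul_inv_cancel_right]
      rw [hbot, Subgroup.mem_bot] at hmem
      exact hh (Subtype.ext hmem)
  let ρF : Representation k ↥Fk V := ρ.comp Fk.subtype
  let ρH : Representation k ↥Hc V := ρ.comp Hc.subtype
  have hcompat : ∀ (h : ↥Hc) (f : ↥Fk) (v : V), ρH h (ρF f v) = ρF (φ h f) (ρH h v) := by
    intro h f v
    show ρ (h : A) (ρ (f : A) v) = ρ ((φ h f : ↥Fk) : A) (ρ (h : A) v)
    rw [hφ, ← Module.End.mul_apply, ← Module.End.mul_apply, ← map_mul, ← map_mul,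
      inv_mul_cancel_right]
  have hfix : ∀ v : V, (∀ f : ↥Fk, ρF f v = v) → v = 0 := by
    intro v hv
    exact hCF v fun f hf => hv ⟨f, hf⟩
  obtain ⟨W, hi, hs⟩ :=
    Cfsg.Agent.Lib.Helper2.FrobFree.nilpotent_free φ hfpf ρF ρH hcompat hfix
  exact ⟨W, DirectSum.isInternal_submodule_of_iSupIndep_of_iSup_eq_top hi hs⟩

end Cfsg.Agent.S4396
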