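import Cfsg.Statements.S4397
import Mathlib
import Cfsg.Agent.Lib.Helper73.TwoGroup
import Cfsg.Agent.Lib.Helper73.SectionalRank
import Cfsg.Agent.Lib.Helper73.MetacyclicTwo
-- import your own Cfsg.Agent.* helpers here

set_option autoImplicit false
open Cfsg

namespace Cfsg.Agent.S4397

open Cfsg.Agent.Lib.Helper73
open scoped commutatorElement

universe u

/-- Existence of a central involution, lying in the commutator subgroup when the group is not
commutative. -/
theorem exists_central_involution {S : Type u} [Group S] [Finite S] [Nontrivial S]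
    (h2 : IsPGroup 2 S) :
    ∃ z : S, z ≠ 1 ∧ z ^ 2 = 1 ∧ (∀ x, x * z = z * x) ∧
      ((∃ x y : S, x * y ≠ y * x) → z ∈ commutator S) := by
  classical
  have hF2 : Fact (Nat.Prime 2) := ⟨Nat.prime_two⟩
  -- an involution inside any nontrivial central-containing normal subgroup
  have key : ∀ z₀ : S, z₀ ≠ 1 → ∃ j : ℕ, (z₀ ^ (2 ^ j)) ≠ 1 ∧ (z₀ ^ (2 ^ j)) ^ 2 = 1 := by
    intro z₀ hz₀
    obtain ⟨l, hl⟩ := (IsPGroup.iff_orderOf.1 h2) z₀
    have hl0 : l ≠ 0 := by
      intro h
      rw [h, pow_zero, orderOf_eq_one_iff] at hl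
      exact hz₀ hl
    obtain ⟨j, rfl⟩ : ∃ j, l = j + 1 := ⟨l - 1, by omega⟩
    refine ⟨j, ?_, ?_⟩
    · apply pow_ne_one_of_lt_orderOf (by positivity)
      rw [hl]; exact Nat.pow_lt_pow_right (by norm_num) (Nat.lt_succ_self j)
    · rw [← pow_mul, ← pow_succ, ← hl, pow_orderOf_eq_one]
  by_cases hab : ∃ x y : S, x * y ≠ y * x
  · have hne : commutator S ≠ ⊥ := by
      intro h
      obtain ⟨x, y, hxy⟩ := hab
      apply hxy
      have : ⁅x, y⁆ ∈ commutator S := Subgroup.commutator_mem_commutator (Subgroup.mem_top x)
        (Subgroup.mem_top y)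
      rw [h, Subgroup.mem_bot, commutatorElement_eq_one_iff_mul_comm] at this
      exact this
    obtain ⟨z₀, hz₀N, hz₀1, hz₀c⟩ := exists_ne_one_mem_center_of_normal' h2 (commutator S) hne
    obtain ⟨j, hj1, hj2⟩ := key z₀ hz₀1
    refine ⟨z₀ ^ (2 ^ j), hj1, hj2, ?_, fun _ => Subgroup.pow_mem _ hz₀N _⟩
    intro x
    exact Subgroup.mem_center_iff.1 (Subgroup.pow_mem _ hz₀c _) x
  · push Not at hab
    obtain ⟨z₀, hz₀⟩ := exists_ne (1 : S)
    obtain ⟨j, hj1, hj2⟩ := key z₀ hz₀
    exact ⟨z₀ ^ (2 ^ j), hj1, hj2, fun x => hab x _, fun h => by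
      obtain ⟨x, y, hxy⟩ := h
      exact absurd (hab x y) hxy⟩

/-- The inductive statement. -/
theorem aux (n : ℕ) : ∀ (S : Type u) [Group S] [Finite S], Nat.card S = n → IsPGroup 2 S →
    SectionalPRankLE 2 2 S → IsMetacyclic S := by
  induction n using Nat.strong_induction_on with
  | _ n ih =>
  intro S _ _ hn h2 hr
  classical
  have hF2 : Fact (Nat.Prime 2) := ⟨Nat.prime_two⟩
  rcases subsingleton_or_nontrivial S with hsub | hnt
  · refine ⟨⊤, inferInstance, ?_, ?_⟩
    · exact isCyclic_of_subsingleton
    · exact isCyclic_of_subsingleton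
  have hrk : PRankLE 2 2 S := pRankLE_of_sectional 2 2 hr
  obtain ⟨z, hz1, hz2, hzc, hzcomm⟩ := exists_central_involution h2
  have hzn : (Subgroup.zpowers z).Normal := zpowers_normal_of_central z hzc
  have hwc : ∀ w ∈ Subgroup.zpowers z, ∀ s : S, Commute s w := by
    intro w hw s
    rcases mem_zpowers_of_sq_eq_one z w hz2 hw with rfl | rfl
    · exact Commute.one_right s
    · exact hzc s
  -- the quotient
  have hcz : Nat.card ↥(Subgroup.zpowers z) = 2 := by
    rw [Nat.card_zpowers]; exact orderOf_eq_prime hz2 hz1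
  have hcardQ : Nat.card (S ⧸ Subgroup.zpowers z) < n := by
    have := Subgroup.card_eq_card_quotient_mul_card_subgroup (Subgroup.zpowers z)
    rw [hcz, hn] at this
    have hpos : 0 < Nat.card (S ⧸ Subgroup.zpowers z) := Nat.card_pos
    omega
  obtain ⟨Nbar, hNn, hNc, hQc⟩ := ih _ hcardQ (S ⧸ Subgroup.zpowers z) rfl (h2.to_quotient _)
    (sectionalPRankLE_of_surjective 2 2 (QuotientGroup.mk' _) (QuotientGroup.mk'_surjective _) hr)
  obtain ⟨g, hg⟩ := isCyclic_iff_exists_zpowers_eq_top.1 hNc
  obtain ⟨a, ha⟩ := QuotientGroup.mk'_surjective (Subgroup.zpowers z) (g : S ⧸ Subgroup.zpowers z)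
  obtain ⟨q, hq⟩ := isCyclic_iff_exists_zpowers_eq_top.1 hQc
  obtain ⟨q', hq'⟩ := QuotientGroup.mk'_surjective Nbar q
  obtain ⟨b, hb⟩ := QuotientGroup.mk'_surjective (Subgroup.zpowers z) q'
  -- membership in the preimage `A` of `Nbar`
  have hA : ∀ x : S, QuotientGroup.mk' (Subgroup.zpowers z) x ∈ Nbar →
      ∃ j : ℤ, (a ^ j)⁻¹ * x ∈ Subgroup.zpowers z := by
    intro x hx
    have hmem : (⟨QuotientGroup.mk' (Subgroup.zpowers z) x, hx⟩ : ↥Nbar) ∈ Subgroup.zpowers g := by
      rw [hg]; trivial
    obtain ⟨j, hj⟩ := Subgroup.mem_zpowers_iff.1 hmem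
    refine ⟨j, ?_⟩
    have e : QuotientGroup.mk' (Subgroup.zpowers z) (a ^ j) =
        QuotientGroup.mk' (Subgroup.zpowers z) x := by
      rw [map_zpow, ha]
      have := congrArg Subtype.val hj
      simpa using this
    exact (QuotientGroup.eq).1 e
  have hdec : ∀ s : S, ∃ i : ℤ, QuotientGroup.mk' (Subgroup.zpowers z) ((b ^ i)⁻¹ * s) ∈ Nbar := by
    intro s
    have hmem : QuotientGroup.mk' Nbar (QuotientGroup.mk' (Subgroup.zpowers z) s) ∈
        Subgroup.zpowers q := by rw [hq]; trivial
    obtain ⟨i, hi⟩ := Subgroup.mem_zpowers_iff.1 hmem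
    refine ⟨i, ?_⟩
    have e : QuotientGroup.mk' Nbar (QuotientGroup.mk' (Subgroup.zpowers z) (b ^ i)) =
        QuotientGroup.mk' Nbar (QuotientGroup.mk' (Subgroup.zpowers z) s) := by
      rw [map_zpow, map_zpow, hb, hq', hi]
    have := (QuotientGroup.eq).1 e
    rw [map_mul, map_inv]
    exact this
  have haC : a ∈ Subgroup.closure ({a, b, z} : Set S) := Subgroup.subset_closure (by simp)
  have hbC : b ∈ Subgroup.closure ({a, b, z} : Set S) := Subgroup.subset_closure (by simp)
  have hzC : z ∈ Subgroup.closure ({a, b, z} : Set S) := Subgroup.subset_closure (by simp)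
  have hgen : Subgroup.closure ({a, b, z} : Set S) = ⊤ := by
    rw [eq_top_iff]
    intro s _
    obtain ⟨i, hi⟩ := hdec s
    obtain ⟨j, hj⟩ := hA _ hi
    have : s = b ^ i * (a ^ j * ((a ^ j)⁻¹ * ((b ^ i)⁻¹ * s))) := by group
    rw [this]
    exact Subgroup.mul_mem _ (Subgroup.zpow_mem _ hbC i)
      (Subgroup.mul_mem _ (Subgroup.zpow_mem _ haC j) (Subgroup.zpowers_le.2 hzC hj))
  have haA : QuotientGroup.mk' (Subgroup.zpowers z) a ∈ Nbar := by rw [ha]; exact g.2
  by_cases hza : z ∈ Subgroup.zpowers a
  · -- the preimage of `Nbar` is `⟨a⟩`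
    have hAeq : ∀ x, x ∈ Subgroup.zpowers a ↔ QuotientGroup.mk' (Subgroup.zpowers z) x ∈ Nbar := by
      intro x
      constructor
      · intro hx
        obtain ⟨j, rfl⟩ := Subgroup.mem_zpowers_iff.1 hx
        rw [map_zpow]; exact Subgroup.zpow_mem _ haA j
      · intro hx
        obtain ⟨j, hj⟩ := hA x hx
        have : x = a ^ j * ((a ^ j)⁻¹ * x) := by group
        rw [this]
        exact Subgroup.mul_mem _ (Subgroup.zpow_mem _ (Subgroup.mem_zpowers a) j)
          (Subgroup.zpowers_le.2 hza hj)
    have hN : (Subgroup.zpowers a).Normal := ⟨fun n hn s => by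
      rw [hAeq] at hn ⊢
      rw [map_mul, map_mul, map_inv]
      exact hNn.conj_mem _ hn _⟩
    refine ⟨Subgroup.zpowers a, hN, inferInstance, ?_⟩
    rw [isCyclic_iff_exists_zpowers_eq_top]
    refine ⟨QuotientGroup.mk' _ b, ?_⟩
    rw [eq_top_iff]
    intro y _
    obtain ⟨s, rfl⟩ := QuotientGroup.mk'_surjective _ y
    obtain ⟨i, hi⟩ := hdec s
    rw [← hAeq] at hi
    rw [Subgroup.mem_zpowers_iff]
    refine ⟨i, ?_⟩
    rw [← map_zpow]
    exact (QuotientGroup.eq).2 hi
  · -- `z ∉ ⟨a⟩`
    have hcomm : ∀ x y : S, x * y * x⁻¹ * y⁻¹ ∈ Subgroup.zpowers z := by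
      by_cases hab : ∃ x y : S, x * y ≠ y * x
      · have hzS' := hzcomm hab
        -- `A` is abelian
        have hAcomm : ∀ x y : S, QuotientGroup.mk' (Subgroup.zpowers z) x ∈ Nbar →
            QuotientGroup.mk' (Subgroup.zpowers z) y ∈ Nbar → Commute x y := by
          intro x y hx hy
          obtain ⟨j, hj⟩ := hA x hx
          obtain ⟨j', hj'⟩ := hA y hy
          have ex : x = a ^ j * ((a ^ j)⁻¹ * x) := by group
          have ey : y = a ^ j' * ((a ^ j')⁻¹ * y) := by group
          rw [ex, ey]
          have h1 : Commute (a ^ j) (a ^ j') := Commute.zpow_zpow_self a j j'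
          have h2' : Commute (a ^ j) ((a ^ j')⁻¹ * y) := hwc _ hj' _
          have h3 : Commute ((a ^ j)⁻¹ * x) (a ^ j') := (hwc _ hj _).symm
          have h4 : Commute ((a ^ j)⁻¹ * x) ((a ^ j')⁻¹ * y) := hwc _ hj' _
          exact (h1.mul_right h2').mul_left (h3.mul_right h4)
        obtain ⟨c, hc⟩ : ∃ c, c = b * a * b⁻¹ * a⁻¹ := ⟨_, rfl⟩
        have hcA : QuotientGroup.mk' (Subgroup.zpowers z) c ∈ Nbar := by
          rw [hc, map_mul, map_mul, map_inv]
          exact Subgroup.mul_mem _ (hNn.conj_mem _ haA _) (Subgroup.inv_mem _ haA)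
        have hca : Commute c a := hAcomm c a hcA haA
        -- commutators with `b`
        have hbx : ∀ x : S, QuotientGroup.mk' (Subgroup.zpowers z) x ∈ Nbar →
            b * x * b⁻¹ * x⁻¹ ∈ Subgroup.zpowers c := by
          intro x hx
          obtain ⟨j, hj⟩ := hA x hx
          have e1 : b * a * b⁻¹ = c * a := by rw [hc]; group
          have e2 : b * a ^ j * b⁻¹ = c ^ j * a ^ j := by
            rw [← conj_zpow, e1, hca.mul_zpow]
          have hbw : b * ((a ^ j)⁻¹ * x) * b⁻¹ = (a ^ j)⁻¹ * x := by
            rw [(hwc _ hj b).eq, mul_inv_cancel_right]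
          have e3 : b * x * b⁻¹ * x⁻¹ = c ^ j := by
            calc b * x * b⁻¹ * x⁻¹
                = (b * a ^ j * b⁻¹) * (b * ((a ^ j)⁻¹ * x) * b⁻¹) * x⁻¹ := by group
              _ = c ^ j * a ^ j * ((a ^ j)⁻¹ * x) * x⁻¹ := by rw [e2, hbw]
              _ = c ^ j := by group
          rw [e3]
          exact Subgroup.zpow_mem _ (Subgroup.mem_zpowers c) j
        -- `⟨c⟩` is normal
        have hKn : (Subgroup.zpowers c).Normal := by
          rw [← Subgroup.normalizer_eq_top_iff, eq_top_iff, ← hgen, Subgroup.closure_le]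
          intro s hs
          simp only [Set.mem_insert_iff, Set.mem_singleton_iff] at hs
          apply Subgroup.mem_normalizer_fintype
          intro n hn
          obtain ⟨t, rfl⟩ := Subgroup.mem_zpowers_iff.1 hn
          have hctA : QuotientGroup.mk' (Subgroup.zpowers z) (c ^ t) ∈ Nbar := by
            rw [map_zpow]; exact Subgroup.zpow_mem _ hcA t
          rcases hs with hs | hs | hs
          · rw [hs, (hAcomm a (c ^ t) haA hctA).eq, mul_inv_cancel_right]
            exact hn
          · rw [hs, ← conj_zpow]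
            apply Subgroup.zpow_mem
            have : b * c * b⁻¹ = (b * c * b⁻¹ * c⁻¹) * c := by group
            rw [this]
            exact Subgroup.mul_mem _ (hbx c hcA) (Subgroup.mem_zpowers c)
          · rw [hs, ← hzc (c ^ t), mul_inv_cancel_right]
            exact hn
        -- the quotient by `⟨c⟩` is commutative
        have hK : ∀ x y : S, x * y * x⁻¹ * y⁻¹ ∈ Subgroup.zpowers c := by
          have hT : ∀ x ∈ ({QuotientGroup.mk' (Subgroup.zpowers c) a,
              QuotientGroup.mk' (Subgroup.zpowers c) b,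
              QuotientGroup.mk' (Subgroup.zpowers c) z} : Set (S ⧸ Subgroup.zpowers c)),
              ∀ y ∈ ({QuotientGroup.mk' (Subgroup.zpowers c) a,
              QuotientGroup.mk' (Subgroup.zpowers c) b,
              QuotientGroup.mk' (Subgroup.zpowers c) z} : Set (S ⧸ Subgroup.zpowers c)),
              x * y = y * x := by
            have hc1 : QuotientGroup.mk' (Subgroup.zpowers c) c = 1 :=
              (QuotientGroup.eq_one_iff c).2 (Subgroup.mem_zpowers c)
            have hba : QuotientGroup.mk' (Subgroup.zpowers c) b *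
                QuotientGroup.mk' (Subgroup.zpowers c) a =
                QuotientGroup.mk' (Subgroup.zpowers c) a *
                QuotientGroup.mk' (Subgroup.zpowers c) b := by
              have : b * a = c * (a * b) := by rw [hc]; group
              rw [← map_mul, this, map_mul, hc1, one_mul, map_mul]
            have hza' : ∀ s : S, QuotientGroup.mk' (Subgroup.zpowers c) s *
                QuotientGroup.mk' (Subgroup.zpowers c) z =
                QuotientGroup.mk' (Subgroup.zpowers c) z *
                QuotientGroup.mk' (Subgroup.zpowers c) s := by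
              intro s
              rw [← map_mul, ← map_mul, hzc s]
            intro x hx y hy
            simp only [Set.mem_insert_iff, Set.mem_singleton_iff] at hx hy
            rcases hx with rfl | rfl | rfl <;> rcases hy with rfl | rfl | rfl
            · rfl
            · exact hba.symm
            · exact hza' a
            · exact hba
            · rfl
            · exact hza' b
            · exact (hza' a).symm
            · exact (hza' b).symm
            · rfl
          have hcl : Subgroup.closure ({QuotientGroup.mk' (Subgroup.zpowers c) a,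
              QuotientGroup.mk' (Subgroup.zpowers c) b,
              QuotientGroup.mk' (Subgroup.zpowers c) z} : Set (S ⧸ Subgroup.zpowers c)) = ⊤ := by
            have := MonoidHom.map_closure (QuotientGroup.mk' (Subgroup.zpowers c))
              ({a, b, z} : Set S)
            rw [hgen, Subgroup.map_top_of_surjective _ (QuotientGroup.mk'_surjective _),
              Set.image_insert_eq, Set.image_insert_eq, Set.image_singleton] at this
            exact this.symm
          have hcomQ := Subgroup.isMulCommutative_closure hT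
          have hQcomm : ∀ x y : S ⧸ Subgroup.zpowers c, x * y = y * x := by
            intro x y
            have hx : x ∈ Subgroup.closure ({QuotientGroup.mk' (Subgroup.zpowers c) a,
              QuotientGroup.mk' (Subgroup.zpowers c) b,
              QuotientGroup.mk' (Subgroup.zpowers c) z} : Set (S ⧸ Subgroup.zpowers c)) := by
              rw [hcl]; trivial
            have hy : y ∈ Subgroup.closure ({QuotientGroup.mk' (Subgroup.zpowers c) a,
              QuotientGroup.mk' (Subgroup.zpowers c) b,
              QuotientGroup.mk' (Subgroup.zpowers c) z} : Set (S ⧸ Subgroup.zpowers c)) := by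
              rw [hcl]; trivial
            have := hcomQ.is_comm.comm ⟨x, hx⟩ ⟨y, hy⟩
            exact congrArg Subtype.val this
          intro x y
          rw [← QuotientGroup.eq_one_iff, ← QuotientGroup.mk'_apply, map_mul, map_mul, map_mul, map_inv, map_inv,
            hQcomm (QuotientGroup.mk' _ x) (QuotientGroup.mk' _ y)]
          group
        -- `z ∈ ⟨c⟩`
        have hzK : z ∈ Subgroup.zpowers c := by
          have hle : commutator S ≤ Subgroup.zpowers c := by
            rw [commutator_eq_closure, Subgroup.closure_le]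
            rintro _ ⟨x, y, rfl⟩
            exact hK x y
          exact hle hzS'
        -- hence `c ∈ ⟨z⟩`
        have hcz' : c ∈ Subgroup.zpowers z := by
          obtain ⟨j, hj⟩ := hA c hcA
          obtain ⟨t, ht⟩ := Subgroup.mem_zpowers_iff.1 hzK
          have hcw : c = a ^ j * ((a ^ j)⁻¹ * c) := by group
          have hw2 : ((a ^ j)⁻¹ * c) ^ 2 = 1 := by
            rcases mem_zpowers_of_sq_eq_one z _ hz2 hj with h | h
            · rw [h, one_pow]
            · rw [h, hz2]
          have hc2 : c ^ 2 = (a ^ j) ^ 2 := by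
            have hcm : Commute (a ^ j) ((a ^ j)⁻¹ * c) := hwc _ hj _
            calc c ^ 2 = (a ^ j * ((a ^ j)⁻¹ * c)) ^ 2 := by rw [← hcw]
              _ = (a ^ j) ^ 2 * ((a ^ j)⁻¹ * c) ^ 2 := hcm.mul_pow 2
              _ = (a ^ j) ^ 2 := by rw [hw2, mul_one]
          have hc2a : c ^ 2 ∈ Subgroup.zpowers a := by
            rw [hc2]
            exact Subgroup.pow_mem _ (Subgroup.zpow_mem _ (Subgroup.mem_zpowers a) j) 2
          rcases Int.even_or_odd t with ⟨r, hr⟩ | ⟨r, hr⟩
          · exfalso
            apply hza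
            rw [← ht, hr, ← two_mul, zpow_mul, zpow_ofNat]
            exact Subgroup.zpow_mem _ hc2a r
          · -- `t = 2 r + 1`
            have e1 : z = (c ^ 2) ^ r * c := by
              rw [← ht, hr, zpow_add, zpow_mul, zpow_ofNat, zpow_one]
            have e2 : (a ^ j) ^ (2 * r + 1) = z * ((a ^ j)⁻¹ * c)⁻¹ := by
              rw [e1, hc2]
              have : ((a ^ j) ^ 2) ^ r = (a ^ j) ^ (2 * r) := by
                rw [zpow_mul, zpow_ofNat]
              rw [this, zpow_add, zpow_one]
              group
            have e3 : (a ^ j) ^ (2 * r + 1) ∈ Subgroup.zpowers z := by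
              rw [e2]
              exact Subgroup.mul_mem _ (Subgroup.mem_zpowers z) (Subgroup.inv_mem _ hj)
            rcases mem_zpowers_of_sq_eq_one z _ hz2 e3 with h | h
            · -- `a ^ j = 1`
              have haj : a ^ j = 1 := by
                obtain ⟨l, hl⟩ := (IsPGroup.iff_orderOf.1 h2) (a ^ j)
                have hdvd : (orderOf (a ^ j) : ℤ) ∣ 2 * r + 1 := orderOf_dvd_iff_zpow_eq_one.2 h
                rw [hl] at hdvd
                have hl0 : l = 0 := by
                  by_contra hne
                  obtain ⟨l', rfl⟩ : ∃ l', l = l' + 1 := ⟨l - 1, by omega⟩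
                  have h2dvd : (2 : ℤ) ∣ 2 * r + 1 := by
                    refine dvd_trans ?_ hdvd
                    rw [pow_succ]; push_cast
                    exact Dvd.intro_left _ rfl
                  omega
                rw [hl0, pow_zero, orderOf_eq_one_iff] at hl
                exact hl
              rw [haj, inv_one, one_mul] at hj
              exact hj
            · exfalso
              apply hza
              rw [← h]
              exact Subgroup.zpow_mem _ (Subgroup.zpow_mem _ (Subgroup.mem_zpowers a) j) _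
        intro x y
        exact Subgroup.zpowers_le.2 hcz' (hK x y)
      · push Not at hab
        intro x y
        rw [hab x y]
        simp
    exact metacyclic_of_commutator_mem_zpowers h2 hrk z hz1 hz2 hzc hcomm a b hgen

/-- A finite 2-group of sectional 2-rank at most 2 (every section has no elementary abelian subgroup of order 8) is metacyclic: it has a cyclic normal subgroup with cyclic quotient. -/
theorem result {S : Type*} [Group S] [Finite S] (h2 : IsPGroup 2 S) (hr : Cfsg.SectionalPRankLE 2 2 S) : Cfsg.IsMetacyclic S := by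
  exact aux (Nat.card S) S rfl h2 hr

end Cfsg.Agent.S4397
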