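import Cfsg.Statements.S4398
import Cfsg.Agent.Lib.Helper73.Suzuki
import Cfsg.Agent.Lib.Helper73.MaxClassIndex
import Cfsg.Agent.Lib.Helper73.MaximalClass
import Cfsg.Agent.Lib.Helper73.QuatIso

set_option autoImplicit false
open Cfsg

namespace Cfsg.Agent.S4398

open Cfsg.Agent.Lib.Helper73

/-- Abstract form: a subgroup `H` of order 8 with a central involution `z` containing all squares
and generating the center is self-centralizing in a 2-group of sectional rank ≤ 2. -/
theorem centralizer_le_of_sectional {S : Type*} [Group S] [Finite S] (h2 : IsPGroup 2 S)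
    (hr : Cfsg.SectionalPRankLE 2 2 S) (H : Subgroup S) (z : S) (hzH : z ∈ H) (hz1 : z ≠ 1)
    (hzc : ∀ h ∈ H, h * z = z * h) (hsq : ∀ h ∈ H, h * h = 1 ∨ h * h = z)
    (hcen : ∀ h ∈ H, (∀ h' ∈ H, h * h' = h' * h) → h = 1 ∨ h = z)
    (hcard : Nat.card H = 8) : Subgroup.centralizer (H : Set S) ≤ H := by
  by_contra hcon
  have hne : {g : S | g ∈ Subgroup.centralizer (H : Set S) ∧ g ∉ H}.Nonempty := by
    by_contra h
    apply hcon
    intro g hg
    by_contra hgH
    exact h ⟨g, hg, hgH⟩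
  obtain ⟨g, ⟨hgC, hgH⟩, hmin⟩ := WellFounded.has_min (measure (orderOf : S → ℕ)).wf _ hne
  have hzz : z * z = 1 := by
    rcases hsq z hzH with h | h
    · exact h
    · exfalso; apply hz1
      have : z * z = z * 1 := by rw [h, mul_one]
      exact mul_left_cancel this
  have hgcomm : ∀ h ∈ H, h * g = g * h := Subgroup.mem_centralizer_iff.mp hgC
  -- g^2 ∈ H
  have hg2H : g * g ∈ H := by
    by_contra hn
    have hg2C : g * g ∈ Subgroup.centralizer (H : Set S) := mul_mem hgC hgC
    have := hmin (g * g) ⟨hg2C, hn⟩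
    apply this
    show orderOf (g * g) < orderOf g
    have hg1 : g ≠ 1 := by rintro rfl; exact hgH (one_mem _)
    obtain ⟨t, ht⟩ := (IsPGroup.iff_orderOf.mp h2) g
    have ht0 : t ≠ 0 := by
      rintro rfl
      rw [pow_zero, orderOf_eq_one_iff] at ht
      exact hg1 ht
    have hdvd : 2 ∣ orderOf g := by rw [ht]; exact dvd_pow_self 2 ht0
    have := orderOf_pow_of_dvd (x := g) (n := 2) (by norm_num) hdvd
    rw [← pow_two, this]
    exact Nat.div_lt_self (orderOf_pos g) (by norm_num)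
  have hg2 : g * g = 1 ∨ g * g = z := by
    apply hcen _ hg2H
    intro h' hh'
    have := hgcomm h' hh'
    calc g * g * h' = g * (g * h') := by group
      _ = g * (h' * g) := by rw [this]
      _ = (g * h') * g := by group
      _ = (h' * g) * g := by rw [this]
      _ = h' * (g * g) := by group
  have hgi : ∀ (i : ℤ), ∀ h ∈ H, h * g ^ i = g ^ i * h := by
    intro i h hh
    have hc : Commute h g := hgcomm h hh
    exact (hc.zpow_right i).eq
  let T : Subgroup S :=
    { carrier := {t | ∃ h ∈ H, ∃ i : ℤ, t = h * g ^ i}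
      mul_mem' := by
        rintro _ _ ⟨h, hh, i, rfl⟩ ⟨h', hh', j, rfl⟩
        refine ⟨h * h', mul_mem hh hh', i + j, ?_⟩
        rw [zpow_add]
        calc h * g ^ i * (h' * g ^ j) = h * (g ^ i * h') * g ^ j := by group
          _ = h * (h' * g ^ i) * g ^ j := by rw [hgi i h' hh']
          _ = h * h' * (g ^ i * g ^ j) := by group
      one_mem' := ⟨1, one_mem _, 0, by simp⟩
      inv_mem' := by
        rintro _ ⟨h, hh, i, rfl⟩
        refine ⟨h⁻¹, inv_mem hh, -i, ?_⟩
        rw [mul_inv_rev, ← zpow_neg]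
        exact (hgi (-i) h⁻¹ (inv_mem hh)).symm }
  have hHT : H ≤ T := fun h hh => ⟨h, hh, 0, by simp⟩
  have hgT : g ∈ T := ⟨1, one_mem _, 1, by simp⟩
  have hTsq : ∀ t ∈ T, t * t = 1 ∨ t * t = z := by
    rintro _ ⟨h, hh, i, rfl⟩
    have h1 : h * g ^ i * (h * g ^ i) = (h * h) * (g * g) ^ i := by
      calc h * g ^ i * (h * g ^ i) = h * (g ^ i * h) * g ^ i := by group
        _ = h * (h * g ^ i) * g ^ i := by rw [hgi i h hh]
        _ = (h * h) * (g ^ i * g ^ i) := by group
        _ = (h * h) * (g * g) ^ i := by rw [(Commute.refl g).mul_zpow]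
    rw [h1]
    have h2 : (g * g) ^ i = 1 ∨ (g * g) ^ i = z := by
      rcases hg2 with h | h
      · left; rw [h, one_zpow]
      · rw [h]
        rcases Int.even_or_odd i with ⟨k, rfl⟩ | ⟨k, rfl⟩
        · left; rw [← two_mul, zpow_mul, zpow_two, hzz, one_zpow]
        · right; rw [zpow_add, zpow_mul, zpow_two, hzz, one_zpow, one_mul, zpow_one]
    rcases hsq h hh with h3 | h3 <;> rcases h2 with h4 | h4 <;> rw [h3, h4]
    · left; simp
    · right; simp
    · right; simp
    · left; exact hzz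
  have hzT : ∀ t ∈ T, t * z = z * t := by
    rintro _ ⟨h, hh, i, rfl⟩
    have h1 := hgi i z hzH
    calc h * g ^ i * z = h * (g ^ i * z) := by group
      _ = h * (z * g ^ i) := by rw [h1]
      _ = (h * z) * g ^ i := by group
      _ = (z * h) * g ^ i := by rw [hzc h hh]
      _ = z * (h * g ^ i) := by group
  have hzo : orderOf z = 2 := orderOf_eq_prime (by rw [pow_two]; exact hzz) hz1
  have hNT : Subgroup.zpowers z ≤ T := by
    rw [Subgroup.zpowers_le]; exact hHT hzH
  have hNnormal : ((Subgroup.zpowers z).subgroupOf T).Normal := by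
    constructor
    intro n hn t
    rw [Subgroup.mem_subgroupOf] at hn ⊢
    obtain ⟨k, hk⟩ := Subgroup.mem_zpowers_iff.mp hn
    have h1 : (t : S) * z ^ k = z ^ k * (t : S) := by
      have hc : Commute (t : S) z := hzT t t.2
      exact (hc.zpow_right k).eq
    have h2 : ((t * n * t⁻¹ : T) : S) = (n : S) := by
      show (t : S) * (n : S) * (t : S)⁻¹ = (n : S)
      rw [← hk, h1]; group
    rw [h2]; exact hn
  have hsec := hr T ((Subgroup.zpowers z).subgroupOf T)
  have hexp : ∀ a : T ⧸ (Subgroup.zpowers z).subgroupOf T, a ^ 2 = 1 := by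
    intro a
    obtain ⟨t, rfl⟩ := QuotientGroup.mk_surjective a
    rw [← QuotientGroup.mk_pow, QuotientGroup.eq_one_iff, Subgroup.mem_subgroupOf]
    show ((t : S)) ^ 2 ∈ Subgroup.zpowers z
    rw [pow_two]
    rcases hTsq t t.2 with h | h
    · rw [h]; exact one_mem _
    · rw [h]; exact Subgroup.mem_zpowers z
  have hcommQ : ∀ a b : T ⧸ (Subgroup.zpowers z).subgroupOf T, a * b = b * a := by
    intro a b
    have ha := hexp a
    have hb := hexp b
    have hab := hexp (a * b)
    rw [pow_two] at ha hb hab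
    have ha' : a⁻¹ = a := inv_eq_of_mul_eq_one_left ha
    have hb' : b⁻¹ = b := inv_eq_of_mul_eq_one_left hb
    have hab' : (a * b)⁻¹ = a * b := inv_eq_of_mul_eq_one_left hab
    rw [mul_inv_rev, ha', hb'] at hab'
    exact hab'.symm
  have hle4 := hsec ⊤ ⟨⟨fun a b => Subtype.ext (hcommQ a.1 b.1)⟩⟩ (fun a _ => hexp a)
  rw [Subgroup.card_top] at hle4
  -- but the quotient has at least 8 elements
  have hNcard : Nat.card ((Subgroup.zpowers z).subgroupOf T) = 2 := by
    rw [Nat.card_congr (Subgroup.subgroupOfEquivOfLe hNT).toEquiv, Nat.card_zpowers, hzo]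
  have hTcard := Subgroup.card_eq_card_quotient_mul_card_subgroup
    ((Subgroup.zpowers z).subgroupOf T)
  rw [hNcard] at hTcard
  have hdvd : 8 ∣ Nat.card T := by rw [← hcard]; exact Subgroup.card_dvd_of_le hHT
  have hTne : Nat.card T ≠ 8 := by
    intro h8
    have := Subgroup.eq_of_le_of_card_ge hHT (by rw [hcard, h8])
    exact hgH (by rw [this]; exact hgT)
  have hTpos : 0 < Nat.card T := Nat.card_pos
  obtain ⟨k, hk⟩ := hdvd
  have hk2 : 2 ≤ k := by
    by_contra hlt
    have : k = 0 ∨ k = 1 := by omega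
    rcases this with rfl | rfl
    · omega
    · omega
  omega

/-- Transport the abstract data along an isomorphism `H ≃* Q`. -/
theorem data_of_equiv {S : Type*} [Group S] (H : Subgroup S) {Q : Type*} [Group Q] (e : H ≃* Q)
    (ζ : Q) (d1 : ∀ x : Q, x * ζ = ζ * x) (d2 : ∀ x : Q, x * x = 1 ∨ x * x = ζ)
    (d3 : ∀ x : Q, (∀ y, x * y = y * x) → x = 1 ∨ x = ζ) (u v : Q) (d4 : u * v ≠ v * u)
    (d5 : ζ ≠ 1) (d6 : Nat.card Q = 8) :
    ∃ z : S, z ∈ H ∧ z ≠ 1 ∧ (∀ h ∈ H, h * z = z * h) ∧ (∀ h ∈ H, h * h = 1 ∨ h * h = z) ∧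
      (∀ h ∈ H, (∀ h' ∈ H, h * h' = h' * h) → h = 1 ∨ h = z) ∧ Nat.card H = 8 ∧
      ∃ b₁ ∈ H, ∃ b₂ ∈ H, b₁ * b₂ ≠ b₂ * b₁ := by
  refine ⟨((e.symm ζ : H) : S), (e.symm ζ).2, ?_, ?_, ?_, ?_, ?_, ?_⟩
  · intro h
    have h1 : (e.symm ζ : H) = 1 := Subtype.ext h
    apply d5
    have := congrArg e h1
    simpa using this
  · intro h hh
    have h1 : (⟨h, hh⟩ : H) * e.symm ζ = e.symm ζ * ⟨h, hh⟩ := by
      apply e.injective
      rw [map_mul, map_mul, MulEquiv.apply_symm_apply]
      exact d1 _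
    exact congrArg Subtype.val h1
  · intro h hh
    rcases d2 (e ⟨h, hh⟩) with h1 | h1
    · left
      have h2 : (⟨h, hh⟩ : H) * ⟨h, hh⟩ = 1 := by
        apply e.injective
        rw [map_mul, map_one]; exact h1
      exact congrArg Subtype.val h2
    · right
      have h2 : (⟨h, hh⟩ : H) * ⟨h, hh⟩ = e.symm ζ := by
        apply e.injective
        rw [map_mul, MulEquiv.apply_symm_apply]; exact h1
      exact congrArg Subtype.val h2
  · intro h hh hall
    have h0 : ∀ y : Q, e ⟨h, hh⟩ * y = y * e ⟨h, hh⟩ := by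
      intro y
      have h1 := hall (e.symm y : H) (e.symm y).2
      have h2 : (⟨h, hh⟩ : H) * e.symm y = e.symm y * ⟨h, hh⟩ := Subtype.ext h1
      have := congrArg e h2
      simpa using this
    rcases d3 _ h0 with h1 | h1
    · left
      have h2 : (⟨h, hh⟩ : H) = 1 := by
        apply e.injective; rw [map_one]; exact h1
      exact congrArg Subtype.val h2
    · right
      have h2 : (⟨h, hh⟩ : H) = e.symm ζ := by
        apply e.injective; rw [MulEquiv.apply_symm_apply]; exact h1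
      exact congrArg Subtype.val h2
  · rw [Nat.card_congr e.toEquiv, d6]
  · refine ⟨(e.symm u : H), (e.symm u).2, (e.symm v : H), (e.symm v).2, ?_⟩
    intro h
    apply d4
    have h2 : (e.symm u : H) * e.symm v = e.symm v * e.symm u := Subtype.ext h
    have := congrArg e h2
    simpa using this

/-- Let S be a finite 2-group of sectional 2-rank at most 2 that contains a subgroup isomorphic to the dihedral group of order 8 or to the quaternion group of order 8. Then S is dihedral of order at least 8, semidihedral of order at least 16 (order 2^(k+4) with an element a of order 2^(k+3) and an involution b with b a b⁻¹ = a^(2^(k+2)−1)), or generalized quaternion of order at least 8. -/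
theorem result {S : Type*} [Group S] [Finite S] (h2 : IsPGroup 2 S) (hr : Cfsg.SectionalPRankLE 2 2 S)
    (hsub : ∃ H : Subgroup S, Nonempty (↥H ≃* DihedralGroup 4) ∨ Nonempty (↥H ≃* QuaternionGroup 2)) :
    ((∃ k : ℕ, Nonempty (S ≃* DihedralGroup (2 ^ (k + 2)))) ∨
      (∃ k : ℕ, Nat.card S = 2 ^ (k + 4) ∧ ∃ a b : S, orderOf a = 2 ^ (k + 3) ∧ orderOf b = 2 ∧ b * a * b⁻¹ = a ^ (2 ^ (k + 2) - 1)) ∨
      (∃ k : ℕ, Nonempty (S ≃* QuaternionGroup (2 ^ (k + 1))))) := by
  obtain ⟨H, hH⟩ := hsub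
  have hdata : ∃ z : S, z ∈ H ∧ z ≠ 1 ∧ (∀ h ∈ H, h * z = z * h) ∧
      (∀ h ∈ H, h * h = 1 ∨ h * h = z) ∧
      (∀ h ∈ H, (∀ h' ∈ H, h * h' = h' * h) → h = 1 ∨ h = z) ∧ Nat.card H = 8 ∧
      ∃ b₁ ∈ H, ∃ b₂ ∈ H, b₁ * b₂ ≠ b₂ * b₁ := by
    rcases hH with ⟨⟨e⟩⟩ | ⟨⟨e⟩⟩
    · exact data_of_equiv H e (DihedralGroup.r 2 : DihedralGroup 4) (by decide) (by decide)
        (by decide) (DihedralGroup.r 1) (DihedralGroup.sr 0) (by decide) (by decide)
        (by rw [DihedralGroup.nat_card])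
    · exact data_of_equiv H e (QuaternionGroup.a 2 : QuaternionGroup 2) (by decide) (by decide)
        (by decide) (QuaternionGroup.a 1) (QuaternionGroup.xa 0) (by decide) (by decide)
        (by rw [Nat.card_eq_fintype_card, QuaternionGroup.card])
  obtain ⟨z, hzH, hz1, hzc, hsq, hcen, hcard, b₁, hb₁, b₂, hb₂, hne⟩ := hdata
  have hCH := centralizer_le_of_sectional h2 hr H z hzH hz1 hzc hsq hcen hcard
  obtain ⟨n, hn⟩ := h2.exists_card_eq
  have hcl := maximal_class_of_nonabelian_cube (p := 2) n hn H (by rw [hcard]; norm_num)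
    ⟨b₁, hb₁, b₂, hb₂, hne⟩ hCH
  have hn3 : 3 ≤ n := by
    have h1 : Nat.card H ≤ Nat.card S := Subgroup.card_le_card_group H
    rw [hcard, hn] at h1
    by_contra hlt
    push Not at hlt
    have : (2 : ℕ) ^ n ≤ 2 ^ 2 := Nat.pow_le_pow_right (by norm_num) (by omega)
    omega
  have hidx := index_commutator_of_maximal_class (p := 2) n S hn (by omega) hcl
  have hidx4 : (commutator S).index = 4 := by rw [hidx]; norm_num
  obtain ⟨m, hSc, a, b, ha, hb, hcases⟩ := index_commutator_four_cases h2 ⟨b₁, b₂, hne⟩ hidx4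
  have hcard2 : Nat.card S = 2 * orderOf a := by rw [hSc, ha]; ring
  have hgen := zpowers_sup_zpowers_eq_top a b hcard2 hb
  have hapow : a ^ (2 ^ (m + 2)) = 1 := by rw [← ha]; exact pow_orderOf_eq_one a
  rcases hcases with ⟨hb2, hc⟩ | ⟨hb2, hc⟩ | ⟨hm1, hb2, hc⟩
  · left
    obtain ⟨e⟩ := dihedral_equiv a b (2 ^ (m + 2)) (by positivity) hapow hb2 hc hgen
      (by rw [hSc]; ring)
    exact ⟨m, ⟨e.symm⟩⟩
  · right; right
    obtain ⟨e⟩ := quaternion_equiv a b (2 ^ (m + 1)) (by positivity)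
      (by rw [← pow_succ']; exact hapow) hb2 hc hgen (by rw [hSc]; ring)
    exact ⟨m, ⟨e.symm⟩⟩
  · right; left
    obtain ⟨k, rfl⟩ : ∃ k, m = k + 1 := ⟨m - 1, by omega⟩
    refine ⟨k, by rw [hSc], a, b, by rw [ha], ?_, ?_⟩
    · apply orderOf_eq_prime hb2
      rintro rfl
      exact hb (one_mem _)
    · rw [hc]

end Cfsg.Agent.S4398
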