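import Cfsg.Statements.S4399
import Cfsg.Agent.Lib.Helper73.Taussky
import Cfsg.Agent.S0646

set_option autoImplicit false
open Cfsg

namespace Cfsg.Agent.S4399

open Cfsg.Agent.Lib.Helper73 in
/-- Let S be a finite 2-group whose commutator quotient S/[S,S] is a Klein four-group (order 4 and exponent 2). Then S itself has order 4, or S is dihedral of order at least 8, semidihedral of order at least 16 (order 2^(k+4) with an element a of order 2^(k+3) and an involution b with b a b⁻¹ = a^(2^(k+2)−1)), or generalized quaternion of order at least 8. -/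
theorem result {S : Type*} [Group S] [Finite S] (h2 : IsPGroup 2 S) (hab : Nat.card (Abelianization S) = 4)
    (hexp : ∀ x : Abelianization S, x ^ 2 = 1) :
    Nat.card S = 4 ∨
    ((∃ k : ℕ, Nonempty (S ≃* DihedralGroup (2 ^ (k + 2)))) ∨
      (∃ k : ℕ, Nat.card S = 2 ^ (k + 4) ∧ ∃ a b : S, orderOf a = 2 ^ (k + 3) ∧ orderOf b = 2 ∧ b * a * b⁻¹ = a ^ (2 ^ (k + 2) - 1)) ∨
      (∃ k : ℕ, Nonempty (S ≃* QuaternionGroup (2 ^ (k + 1))))) := by
  have hidx : (commutator S).index = 4 := hab
  by_cases hcomm : ∀ x y : S, x * y = y * x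
  · left
    rw [commutator_eq_bot_of_comm hcomm, Subgroup.index_bot] at hidx
    exact hidx
  · right
    push Not at hcomm
    obtain ⟨n, hn⟩ := h2.exists_card_eq
    obtain ⟨a₀, ha₀⟩ := exists_orderOf_of_index_commutator_four n S hn hcomm hidx
    have hn3 : 3 ≤ n := by
      have hne := commutator_ne_bot_of_not_comm hcomm
      have h1 := Subgroup.index_mul_card (commutator S)
      rw [hidx, hn] at h1
      have h3 : 2 ≤ Nat.card (commutator S) := by
        by_contra hlt
        push Not at hlt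
        exact hne (Subgroup.eq_bot_of_card_le _ (by omega))
      by_contra hlt
      push Not at hlt
      have : (2 : ℕ) ^ n ≤ 2 ^ 2 := Nat.pow_le_pow_right (by norm_num) (by omega)
      omega
    have hCi : (Subgroup.zpowers a₀).index = 2 := by
      have h1 := Subgroup.index_mul_card (Subgroup.zpowers a₀)
      rw [Nat.card_zpowers, hn, ← ha₀] at h1
      exact Nat.eq_of_mul_eq_mul_right (orderOf_pos _) h1
    obtain ⟨a, b, ha, hb, hcases⟩ :=
      Cfsg.Agent.S0646.result n hn3 hn (Subgroup.zpowers a₀) inferInstance hCi hcomm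
    obtain ⟨m, rfl⟩ : ∃ m, n = m + 3 := ⟨n - 3, by omega⟩
    have ha' : orderOf a = 2 ^ (m + 2) := by rw [ha]; rfl
    have hcard2 : Nat.card S = 2 * orderOf a := by rw [hn, ha']; ring
    have hgen := zpowers_sup_zpowers_eq_top a b hcard2 hb
    have hapow : a ^ (2 ^ (m + 2)) = 1 := by rw [← ha']; exact pow_orderOf_eq_one a
    rcases hcases with ⟨hb2, hc⟩ | ⟨hb2, hc⟩ | ⟨h4, hb2, hc⟩ | ⟨h4, hb2, hc⟩
    · -- dihedral
      left
      refine ⟨m, ?_⟩
      obtain ⟨e⟩ := dihedral_equiv a b (2 ^ (m + 2)) (by positivity) hapow hb2 hc hgen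
        (by rw [hn]; ring)
      exact ⟨e.symm⟩
    · -- quaternion
      right; right
      refine ⟨m, ?_⟩
      have e1 : 2 ^ (m + 3 - 2) = 2 ^ (m + 1) := by rw [show m + 3 - 2 = m + 1 by omega]
      rw [e1] at hb2
      obtain ⟨e⟩ := quaternion_equiv a b (2 ^ (m + 1)) (by positivity)
        (by rw [show 2 * 2 ^ (m + 1) = 2 ^ (m + 2) by ring]; exact hapow) hb2 hc hgen
        (by rw [hn]; ring)
      exact ⟨e.symm⟩
    · -- modular: impossible
      exfalso
      have e1 : 2 ^ (m + 3 - 2) = 2 ^ (m + 1) := by rw [show m + 3 - 2 = m + 1 by omega]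
      rw [e1] at hc
      have hconj : b * a * b⁻¹ = a ^ ((1 + 2 ^ (m + 1) : ℕ) : ℤ) * (1 : S) ^ (0 : ℤ) := by
        rw [zpow_zero, mul_one, zpow_natCast, hc]
      have hgen' : Subgroup.closure {a, 1, b} = ⊤ := by
        rw [eq_top_iff, ← hgen, sup_le_iff]
        constructor
        · rw [Subgroup.zpowers_le]; exact Subgroup.subset_closure (by simp)
        · rw [Subgroup.zpowers_le]; exact Subgroup.subset_closure (by simp)
      have hle := commutator_le_zpowers_of_conj a 1 b _ 0 (fun x => by rw [one_mul, mul_one]) hconj hgen'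
      set c := a * b * a⁻¹ * b⁻¹ with hcdef
      have hc2 : c ^ 2 = 1 := by
        have hc' : c = a * (a ^ (1 + 2 ^ (m + 1)))⁻¹ := by rw [← hc, hcdef]; group
        have hcm : Commute a (a ^ (1 + 2 ^ (m + 1)))⁻¹ := (Commute.pow_right (Commute.refl a) _).inv_right
        rw [hc', hcm.mul_pow, inv_pow, ← pow_mul]
        have : (1 + 2 ^ (m + 1)) * 2 = 2 + 2 ^ (m + 2) := by ring
        rw [this, pow_add, hapow, mul_one, mul_inv_cancel]
      have h5 : Nat.card (commutator S) ∣ 2 := by
        have h6 := Subgroup.card_dvd_of_le hle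
        rw [Nat.card_zpowers] at h6
        exact h6.trans (orderOf_dvd_of_pow_eq_one hc2)
      have h7 := Subgroup.index_mul_card (commutator S)
      rw [hidx, hn] at h7
      have h8 : Nat.card (commutator S) ≤ 2 := Nat.le_of_dvd (by norm_num) h5
      have h9 : (2 : ℕ) ^ 4 ≤ 2 ^ (m + 3) := Nat.pow_le_pow_right (by norm_num) h4
      omega
    · -- semidihedral
      right; left
      obtain ⟨k, rfl⟩ : ∃ k, m = k + 1 := ⟨m - 1, by omega⟩
      refine ⟨k, by rw [hn], a, b, by rw [ha'], ?_, ?_⟩
      · apply orderOf_eq_prime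
        · exact hb2
        · intro h; apply hb; rw [h]; exact one_mem _
      · rw [hc, show k + 1 + 3 - 2 = k + 2 by omega]

end Cfsg.Agent.S4399
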