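import Cfsg.Statements.S4400
import Mathlib
import Cfsg.Agent.Lib.Helper73.TwoGroup
-- import your own Cfsg.Agent.* helpers here

set_option autoImplicit false
open Cfsg

namespace Cfsg.Agent.S4400

open Cfsg.Agent.Lib.Helper73

/-- An element of `P` commuting with all of `P` lies in the (image of the) centre of `P`. -/
theorem mem_center_map_of_central {S : Type*} [Group S] (P : Subgroup S) (z : S) (hzP : z ∈ P)
    (hz : ∀ x ∈ P, x * z = z * x) : z ∈ (Subgroup.center ↥P).map P.subtype := by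
  exact Subgroup.mem_map.2 ⟨⟨z, hzP⟩,
    Subgroup.mem_center_iff.2 (fun g => Subtype.ext (hz g g.2)), rfl⟩

/-- Elements of `N ⊔ H` for `N` normal are products. -/
theorem mem_normal_sup_iff {G : Type*} [Group G] (N H : Subgroup G) [N.Normal] (x : G) :
    x ∈ N ⊔ H ↔ ∃ n ∈ N, ∃ h ∈ H, n * h = x := by
  rw [← SetLike.mem_coe, Subgroup.normal_mul, Set.mem_mul]
  simp


/-- Let S be a finite 2-group of sectional 2-rank at most 4, and let P and Q be normal non-abelian subgroups of S whose centres have order 2 and are different. Then P and Q commute elementwise and intersect trivially, and PQ contains its own centralizer in S. -/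
theorem result {S : Type*} [Group S] [Finite S] (h2 : IsPGroup 2 S) (hr : Cfsg.SectionalPRankLE 2 4 S)
    (P Q : Subgroup S) [P.Normal] [Q.Normal] (hP : ¬ IsMulCommutative ↥P) (hQ : ¬ IsMulCommutative ↥Q)
    (hZP : Nat.card ↥(Subgroup.center ↥P) = 2) (hZQ : Nat.card ↥(Subgroup.center ↥Q) = 2)
    (hne : (Subgroup.center ↥P).map P.subtype ≠ (Subgroup.center ↥Q).map Q.subtype) :
    ⁅P, Q⁆ = ⊥ ∧ P ⊓ Q = ⊥ ∧ Subgroup.centralizer ((P ⊔ Q : Subgroup S) : Set S) ≤ P ⊔ Q := by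
  classical
  have hF2 : Fact (Nat.Prime 2) := ⟨Nat.prime_two⟩
  have hZPc : Nat.card ((Subgroup.center ↥P).map P.subtype) = 2 := by
    rw [Subgroup.card_subtype]; exact hZP
  have hZQc : Nat.card ((Subgroup.center ↥Q).map Q.subtype) = 2 := by
    rw [Subgroup.card_subtype]; exact hZQ
  -- Part 1: P ⊓ Q = ⊥
  have hinf : P ⊓ Q = ⊥ := by
    by_contra hne'
    obtain ⟨z, hzN, hz1, hzc⟩ := exists_ne_one_mem_center_of_normal' h2 (P ⊓ Q) hne'
    have hzP : z ∈ (Subgroup.center ↥P).map P.subtype :=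
      mem_center_map_of_central P z hzN.1 (fun x _ => Subgroup.mem_center_iff.1 hzc x)
    have hzQ : z ∈ (Subgroup.center ↥Q).map Q.subtype :=
      mem_center_map_of_central Q z hzN.2 (fun x _ => Subgroup.mem_center_iff.1 hzc x)
    exact hne (subgroup_eq_of_card_two _ _ hZPc hZQc z hzP hzQ hz1)
  -- Part 2
  have hcomm : ⁅P, Q⁆ = ⊥ := by
    rw [eq_bot_iff, ← hinf]
    exact Subgroup.commutator_le_inf P Q
  refine ⟨hcomm, hinf, ?_⟩
  have hPQ : ∀ x ∈ P, ∀ y ∈ Q, x * y = y * x := by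
    intro x hx y hy
    have h := (Subgroup.commutator_eq_bot_iff_le_centralizer.1 hcomm) hx
    exact (Subgroup.mem_centralizer_iff.1 h y hy).symm
  -- Part 3
  by_contra hcon
  obtain ⟨c0, hc0C, hc0D⟩ := SetLike.not_le_iff_exists.1 hcon
  -- replace c0 by a power c with c ∉ D, c ^ 2 ∈ D
  obtain ⟨c, hcC, hcD, hc2⟩ : ∃ c : S, c ∈ Subgroup.centralizer ((P ⊔ Q : Subgroup S) : Set S) ∧
      c ∉ P ⊔ Q ∧ c ^ 2 ∈ P ⊔ Q := by
    obtain ⟨k, hk⟩ := h2 c0
    have hex : ∃ k, c0 ^ (2 ^ k) ∈ P ⊔ Q := ⟨k, by rw [hk]; exact Subgroup.one_mem _⟩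
    have hj : c0 ^ 2 ^ (Nat.find hex) ∈ P ⊔ Q := Nat.find_spec hex
    have hj0 : Nat.find hex ≠ 0 := by
      intro h
      rw [h] at hj
      simp only [pow_zero, pow_one] at hj
      exact hc0D hj
    obtain ⟨i, hi⟩ := Nat.exists_eq_succ_of_ne_zero hj0
    refine ⟨c0 ^ 2 ^ i, Subgroup.pow_mem _ hc0C _, ?_, ?_⟩
    · exact Nat.find_min hex (by omega : i < Nat.find hex)
    · rw [← pow_mul, ← pow_succ, ← Nat.succ_eq_add_one, ← hi]
      exact hj
  have hcD' : ∀ d ∈ P ⊔ Q, d * c = c * d := fun d hd => Subgroup.mem_centralizer_iff.1 hcC d hd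
  -- the normal subgroup N
  have hNP : sqSub P ≤ P := sqSub_le P
  have hNQ : sqSub Q ≤ Q := sqSub_le Q
  have hZPN : (Subgroup.center ↥P).map P.subtype ≤ sqSub P := center_map_le_sqSub h2 P hP hZP
  have hZQN : (Subgroup.center ↥Q).map Q.subtype ≤ sqSub Q := center_map_le_sqSub h2 Q hQ hZQ
  -- c ^ 2 ∈ N
  have hc2N : c ^ 2 ∈ sqSub P ⊔ sqSub Q := by
    obtain ⟨x, hx, y, hy, hxy⟩ := (mem_sup_normal_iff P Q _).1 hc2
    have hc2cent : ∀ d ∈ P ⊔ Q, d * (x * y) = (x * y) * d := by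
      intro d hd
      rw [hxy]
      have h1 : Commute d c := hcD' d hd
      exact (Commute.pow_right h1 2).eq
    have hxZ : x ∈ (Subgroup.center ↥P).map P.subtype := by
      apply mem_center_map_of_central P x hx
      intro p hp
      have h1 := hc2cent p (Subgroup.mem_sup_left hp)
      have h2' : y * p = p * y := (hPQ p hp y hy).symm
      -- p * (x * y) = x * y * p = x * (p * y)
      have h3 : p * x * y = x * p * y := by
        calc p * x * y = p * (x * y) := by rw [mul_assoc]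
          _ = x * y * p := h1
          _ = x * (y * p) := by rw [mul_assoc]
          _ = x * (p * y) := by rw [h2']
          _ = x * p * y := by rw [mul_assoc]
      exact mul_right_cancel h3
    have hyZ : y ∈ (Subgroup.center ↥Q).map Q.subtype := by
      apply mem_center_map_of_central Q y hy
      intro q hq
      have h1 := hc2cent q (Subgroup.mem_sup_right hq)
      have h2' : q * x = x * q := (hPQ x hx q hq).symm
      have h3 : x * (q * y) = x * (y * q) := by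
        calc x * (q * y) = x * q * y := by rw [mul_assoc]
          _ = q * x * y := by rw [h2']
          _ = q * (x * y) := by rw [mul_assoc]
          _ = x * y * q := h1
          _ = x * (y * q) := by rw [mul_assoc]
      exact mul_left_cancel h3
    rw [← hxy]
    exact Subgroup.mul_mem _ (Subgroup.mem_sup_left (hZPN hxZ)) (Subgroup.mem_sup_right (hZQN hyZ))
  -- the subgroup T
  have hT2 : ∀ t ∈ (P ⊔ Q) ⊔ Subgroup.zpowers c, t ^ 2 ∈ sqSub P ⊔ sqSub Q := by
    intro t ht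
    obtain ⟨d, hd, e, he, rfl⟩ := (mem_normal_sup_iff (P ⊔ Q) (Subgroup.zpowers c) t).1 ht
    obtain ⟨x, hx, y, hy, rfl⟩ := (mem_sup_normal_iff P Q d).1 hd
    obtain ⟨i, rfl⟩ := Subgroup.mem_zpowers_iff.1 he
    have hce : ∀ d' ∈ P ⊔ Q, Commute d' (c ^ i) := by
      intro d' hd'
      exact (Commute.zpow_right (hcD' d' hd') i)
    have h1 : Commute (x * y) (c ^ i) := hce _ hd
    have h2' : Commute x y := hPQ x hx y hy
    rw [h1.mul_pow, h2'.mul_pow]
    have h3 : (c ^ i) ^ 2 = (c ^ 2) ^ i := by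
      rw [← zpow_natCast (c ^ i) 2, ← zpow_mul, mul_comm, zpow_mul, zpow_natCast]
    rw [h3]
    refine Subgroup.mul_mem _ (Subgroup.mul_mem _ ?_ ?_) (Subgroup.zpow_mem _ hc2N i)
    · exact Subgroup.mem_sup_left (sq_mem_sqSub P x hx)
    · exact Subgroup.mem_sup_right (sq_mem_sqSub Q y hy)
  -- index computation
  have hN_le_D : sqSub P ⊔ sqSub Q ≤ P ⊔ Q := sup_le_sup hNP hNQ
  have hD_le_T : P ⊔ Q ≤ (P ⊔ Q) ⊔ Subgroup.zpowers c := le_sup_left
  have hinfP : (sqSub P ⊔ sqSub Q) ⊓ P = sqSub P := by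
    apply le_antisymm
    · rintro g ⟨hgN, hgP⟩
      obtain ⟨a, ha, b, hb, rfl⟩ := (mem_sup_normal_iff (sqSub P) (sqSub Q) g).1 hgN
      have hbP : b ∈ P := by
        have : b = a⁻¹ * (a * b) := by group
        rw [this]
        exact P.mul_mem (P.inv_mem (hNP ha)) hgP
      have hb1 : b ∈ P ⊓ Q := ⟨hbP, hNQ hb⟩
      rw [hinf] at hb1
      rw [Subgroup.mem_bot.1 hb1, mul_one]
      exact ha
    · exact le_inf le_sup_left hNP
  have hinfQ : (P ⊔ sqSub Q) ⊓ Q = sqSub Q := by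
    apply le_antisymm
    · rintro g ⟨hgN, hgQ⟩
      obtain ⟨a, ha, b, hb, rfl⟩ := (mem_sup_normal_iff P (sqSub Q) g).1 hgN
      have haQ : a ∈ Q := by
        have : a = (a * b) * b⁻¹ := by group
        rw [this]
        exact Q.mul_mem hgQ (Q.inv_mem (hNQ hb))
      have ha1 : a ∈ P ⊓ Q := ⟨ha, haQ⟩
      rw [hinf] at ha1
      rw [Subgroup.mem_bot.1 ha1, one_mul]
      exact hb
    · exact le_inf le_sup_right hNQ
  have hr1 : 2 < (sqSub P ⊔ sqSub Q).relIndex (P ⊔ sqSub Q) := by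
    have e1 : P ⊔ sqSub Q = P ⊔ (sqSub P ⊔ sqSub Q) := by
      rw [← sup_assoc, sup_eq_left.2 hNP]
    rw [e1, Subgroup.relIndex_sup_right, ← Subgroup.inf_relIndex_right, hinfP]
    exact two_lt_relIndex_sqSub h2 P hP
  have hr2 : 2 < (P ⊔ sqSub Q).relIndex (P ⊔ Q) := by
    have e1 : P ⊔ Q = Q ⊔ (P ⊔ sqSub Q) := by
      rw [sup_comm Q, sup_assoc, sup_eq_right.2 hNQ]
    rw [e1, Subgroup.relIndex_sup_right, ← Subgroup.inf_relIndex_right, hinfQ]
    exact two_lt_relIndex_sqSub h2 Q hQ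
  have hr3 : 2 ≤ (P ⊔ Q).relIndex ((P ⊔ Q) ⊔ Subgroup.zpowers c) := by
    have h0 : (P ⊔ Q).relIndex ((P ⊔ Q) ⊔ Subgroup.zpowers c) ≠ 0 := by
      unfold Subgroup.relIndex
      exact Subgroup.index_ne_zero_of_finite
    have h1 : (P ⊔ Q).relIndex ((P ⊔ Q) ⊔ Subgroup.zpowers c) ≠ 1 := by
      intro h
      rw [Subgroup.relIndex_eq_one] at h
      exact hcD (h (Subgroup.mem_sup_right (Subgroup.mem_zpowers c)))
    omega
  have hidx : 16 < (sqSub P ⊔ sqSub Q).relIndex ((P ⊔ Q) ⊔ Subgroup.zpowers c) := by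
    have e1 := Subgroup.relIndex_mul_relIndex (sqSub P ⊔ sqSub Q) (P ⊔ Q)
      ((P ⊔ Q) ⊔ Subgroup.zpowers c) hN_le_D hD_le_T
    have e2 := Subgroup.relIndex_mul_relIndex (sqSub P ⊔ sqSub Q) (P ⊔ sqSub Q) (P ⊔ Q)
      (sup_le_sup_right hNP _) (sup_le_sup_left hNQ _)
    rw [← e1, ← e2]
    nlinarith
  -- contradiction with the sectional rank
  have hrank := hr ((P ⊔ Q) ⊔ Subgroup.zpowers c)
    ((sqSub P ⊔ sqSub Q).subgroupOf ((P ⊔ Q) ⊔ Subgroup.zpowers c))
  have hexp : ∀ a : ↥((P ⊔ Q) ⊔ Subgroup.zpowers c) ⧸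
      (sqSub P ⊔ sqSub Q).subgroupOf ((P ⊔ Q) ⊔ Subgroup.zpowers c), a ^ 2 = 1 := by
    intro a
    induction a using QuotientGroup.induction_on with
    | H t =>
      rw [← QuotientGroup.mk_pow, QuotientGroup.eq_one_iff, Subgroup.mem_subgroupOf]
      simpa using hT2 t t.2
  have hcard := hrank ⊤ ⟨⟨fun a b => Subtype.ext (comm_of_sq_eq_one hexp a b)⟩⟩
    (fun a _ => hexp a)
  rw [Subgroup.card_top] at hcard
  have : Nat.card (↥((P ⊔ Q) ⊔ Subgroup.zpowers c) ⧸
      (sqSub P ⊔ sqSub Q).subgroupOf ((P ⊔ Q) ⊔ Subgroup.zpowers c))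
      = (sqSub P ⊔ sqSub Q).relIndex ((P ⊔ Q) ⊔ Subgroup.zpowers c) := rfl
  rw [this] at hcard
  norm_num at hcard
  omega

end Cfsg.Agent.S4400
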