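import Cfsg.Statements.S4401
import Mathlib
import Cfsg.Agent.S4400
import Cfsg.Agent.Lib.Helper73.TwoGroup
import Cfsg.Agent.Lib.Helper73.SectionalRank
-- import your own Cfsg.Agent.* helpers here

set_option autoImplicit false
open Cfsg

namespace Cfsg.Agent.S4401

open Cfsg.Agent.Lib.Helper73

/-- Membership in the image in `S` of the centre of a subgroup `K`. -/
theorem mem_center_map_iff {S : Type*} [Group S] (K : Subgroup S) (c : S) :
    c ∈ (Subgroup.center ↥K).map K.subtype ↔ c ∈ K ∧ ∀ a ∈ K, a * c = c * a := by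
  constructor
  · rintro ⟨⟨c', hc'K⟩, hc', rfl⟩
    refine ⟨hc'K, fun a ha => ?_⟩
    have := Subgroup.mem_center_iff.1 hc' ⟨a, ha⟩
    exact congrArg Subtype.val this
  · rintro ⟨hcK, hc⟩
    exact S4400.mem_center_map_of_central K c hcK hc

/-- `S4400` relative to a subgroup `S₀` normalizing `P` and `Q`, in elementwise form. -/
theorem rel {S : Type*} [Group S] [Finite S] (h2 : IsPGroup 2 S) (hr : SectionalPRankLE 2 4 S)
    (S₀ P Q : Subgroup S) (hPle : P ≤ S₀) (hQle : Q ≤ S₀)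
    (hPn : ∀ s ∈ S₀, ∀ a ∈ P, s * a * s⁻¹ ∈ P) (hQn : ∀ s ∈ S₀, ∀ a ∈ Q, s * a * s⁻¹ ∈ Q)
    (hP : ¬ IsMulCommutative ↥P) (hQ : ¬ IsMulCommutative ↥Q)
    (hZP : Nat.card ↥(Subgroup.center ↥P) = 2) (hZQ : Nat.card ↥(Subgroup.center ↥Q) = 2)
    (z : S) (hzP : z ∈ (Subgroup.center ↥P).map P.subtype)
    (hzQ : z ∉ (Subgroup.center ↥Q).map Q.subtype) :
    (∀ a ∈ P, ∀ b ∈ Q, a * b = b * a) ∧ P ⊓ Q = ⊥ ∧
    ∀ t ∈ S₀, (∀ a ∈ P, t * a = a * t) → (∀ b ∈ Q, t * b = b * t) →
      ∃ a ∈ P, ∃ b ∈ Q, t = a * b := by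
  classical
  have hPnorm : (P.subgroupOf S₀).Normal := ⟨fun a ha s => by
    rw [Subgroup.mem_subgroupOf] at ha ⊢
    simpa using hPn s s.2 a ha⟩
  have hQnorm : (Q.subgroupOf S₀).Normal := ⟨fun a ha s => by
    rw [Subgroup.mem_subgroupOf] at ha ⊢
    simpa using hQn s s.2 a ha⟩
  have hP' : ¬ IsMulCommutative ↥(P.subgroupOf S₀) := by
    intro h
    apply hP
    refine ⟨⟨fun a b => ?_⟩⟩
    have := h.is_comm.comm ((Subgroup.subgroupOfEquivOfLe hPle).symm a)
      ((Subgroup.subgroupOfEquivOfLe hPle).symm b)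
    apply (Subgroup.subgroupOfEquivOfLe hPle).symm.injective
    simpa using this
  have hQ' : ¬ IsMulCommutative ↥(Q.subgroupOf S₀) := by
    intro h
    apply hQ
    refine ⟨⟨fun a b => ?_⟩⟩
    have := h.is_comm.comm ((Subgroup.subgroupOfEquivOfLe hQle).symm a)
      ((Subgroup.subgroupOfEquivOfLe hQle).symm b)
    apply (Subgroup.subgroupOfEquivOfLe hQle).symm.injective
    simpa using this
  have hZP' : Nat.card ↥(Subgroup.center ↥(P.subgroupOf S₀)) = 2 := by
    rw [Nat.card_congr (Subgroup.centerCongr (Subgroup.subgroupOfEquivOfLe hPle)).toEquiv]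
    exact hZP
  have hZQ' : Nat.card ↥(Subgroup.center ↥(Q.subgroupOf S₀)) = 2 := by
    rw [Nat.card_congr (Subgroup.centerCongr (Subgroup.subgroupOfEquivOfLe hQle)).toEquiv]
    exact hZQ
  have hne : (Subgroup.center ↥(P.subgroupOf S₀)).map (P.subgroupOf S₀).subtype ≠
      (Subgroup.center ↥(Q.subgroupOf S₀)).map (Q.subgroupOf S₀).subtype := by
    intro heq
    apply hzQ
    rw [mem_center_map_iff] at hzP ⊢
    have hz0 : z ∈ S₀ := hPle hzP.1
    have h1 : (⟨z, hz0⟩ : ↥S₀) ∈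
        (Subgroup.center ↥(P.subgroupOf S₀)).map (P.subgroupOf S₀).subtype := by
      rw [mem_center_map_iff]
      refine ⟨Subgroup.mem_subgroupOf.2 hzP.1, fun a ha => ?_⟩
      apply Subtype.ext
      exact hzP.2 a (Subgroup.mem_subgroupOf.1 ha)
    rw [heq, mem_center_map_iff] at h1
    refine ⟨Subgroup.mem_subgroupOf.1 h1.1, fun a ha => ?_⟩
    have := h1.2 ⟨a, hQle ha⟩ (Subgroup.mem_subgroupOf.2 ha)
    exact congrArg Subtype.val this
  obtain ⟨h1, h2', h3⟩ := S4400.result (h2.to_subgroup S₀)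
    (sectionalPRankLE_subgroup 2 4 hr S₀)
    (P.subgroupOf S₀) (Q.subgroupOf S₀) hP' hQ' hZP' hZQ' hne
  have hcomm : ∀ a ∈ P, ∀ b ∈ Q, a * b = b * a := by
    intro a ha b hb
    have ha' : (⟨a, hPle ha⟩ : ↥S₀) ∈ P.subgroupOf S₀ := Subgroup.mem_subgroupOf.2 ha
    have hb' : (⟨b, hQle hb⟩ : ↥S₀) ∈ Q.subgroupOf S₀ := Subgroup.mem_subgroupOf.2 hb
    have h := (Subgroup.commutator_eq_bot_iff_le_centralizer.1 h1) ha'
    have := (Subgroup.mem_centralizer_iff.1 h _ hb').symm
    exact congrArg Subtype.val this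
  refine ⟨hcomm, ?_, ?_⟩
  · rw [eq_bot_iff]
    rintro g ⟨hgP, hgQ⟩
    have : (⟨g, hPle hgP⟩ : ↥S₀) ∈ P.subgroupOf S₀ ⊓ Q.subgroupOf S₀ :=
      ⟨Subgroup.mem_subgroupOf.2 hgP, Subgroup.mem_subgroupOf.2 hgQ⟩
    rw [h2', Subgroup.mem_bot] at this
    rw [Subgroup.mem_bot]
    exact congrArg Subtype.val this
  · intro t ht htP htQ
    have hle : P.subgroupOf S₀ ⊔ Q.subgroupOf S₀ ≤
        Subgroup.centralizer ({(⟨t, ht⟩ : ↥S₀)} : Set ↥S₀) := by
      rw [sup_le_iff]
      constructor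
      · intro a ha
        rw [Subgroup.mem_centralizer_singleton_iff]
        apply Subtype.ext
        exact (htP a (Subgroup.mem_subgroupOf.1 ha)).symm
      · intro b hb
        rw [Subgroup.mem_centralizer_singleton_iff]
        apply Subtype.ext
        exact (htQ b (Subgroup.mem_subgroupOf.1 hb)).symm
    have htc : (⟨t, ht⟩ : ↥S₀) ∈ Subgroup.centralizer
        ((P.subgroupOf S₀ ⊔ Q.subgroupOf S₀ : Subgroup ↥S₀) : Set ↥S₀) := by
      rw [Subgroup.mem_centralizer_iff]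
      intro d hd
      exact Subgroup.mem_centralizer_singleton_iff.1 (hle hd)
    obtain ⟨a, ha, b, hb, hab⟩ := (mem_sup_normal_iff _ _ _).1 (h3 htc)
    refine ⟨a, Subgroup.mem_subgroupOf.1 ha, b, Subgroup.mem_subgroupOf.1 hb, ?_⟩
    have := congrArg Subtype.val hab
    simpa using this.symm

/-- The conjugates `g P g⁻¹` and `h P h⁻¹` (`g, h` normalizing `S₀`, `g⁻¹ h ∉ S₀`) commute, meet
trivially, and their product contains its centralizer in `S₀`. -/
theorem pair {S : Type*} [Group S] [Finite S] (h2 : IsPGroup 2 S) (hr : SectionalPRankLE 2 4 S)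
    (P S₀ : Subgroup S) (hP : ¬ IsMulCommutative ↥P)
    (hZP : Nat.card ↥(Subgroup.center ↥P) = 2) (hPle : P ≤ S₀)
    (hPn : ∀ s ∈ S₀, ∀ a ∈ P, s * a * s⁻¹ ∈ P)
    (z : S) (hzP : z ∈ P) (hz1 : z ≠ 1) (hzc : ∀ a ∈ P, a * z = z * a)
    (hZ : ∀ c ∈ P, (∀ a ∈ P, a * c = c * a) → c = 1 ∨ c = z)
    (hS₀ : ∀ s, s ∈ S₀ ↔ s * z = z * s)
    (g h : S) (hg : g ∈ Subgroup.normalizer (S₀ : Set S))
    (hh : h ∈ Subgroup.normalizer (S₀ : Set S)) (hgh : g⁻¹ * h ∉ S₀) :
    (∀ a ∈ P, ∀ b ∈ P, (g * a * g⁻¹) * (h * b * h⁻¹) = (h * b * h⁻¹) * (g * a * g⁻¹)) ∧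
    (∀ a ∈ P, ∀ b ∈ P, g * a * g⁻¹ = h * b * h⁻¹ → a = 1) ∧
    (∀ t ∈ S₀, (∀ a ∈ P, t * (g * a * g⁻¹) = (g * a * g⁻¹) * t) →
      (∀ b ∈ P, t * (h * b * h⁻¹) = (h * b * h⁻¹) * t) →
      ∃ a ∈ P, ∃ b ∈ P, t = (g * a * g⁻¹) * (h * b * h⁻¹)) := by
  classical
  have hmem : ∀ k y : S, y ∈ P.map (MulAut.conj k).toMonoidHom ↔ ∃ a ∈ P, k * a * k⁻¹ = y := by
    intro k y
    rw [Subgroup.mem_map]
    rfl
  have hA : ∀ k ∈ Subgroup.normalizer (S₀ : Set S), P.map (MulAut.conj k).toMonoidHom ≤ S₀ := by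
    intro k hk y hy
    obtain ⟨a, ha, rfl⟩ := (hmem k y).1 hy
    exact (Subgroup.mem_normalizer_iff.1 hk a).1 (hPle ha)
  have hB : ∀ k ∈ Subgroup.normalizer (S₀ : Set S), ∀ s ∈ S₀,
      ∀ y ∈ P.map (MulAut.conj k).toMonoidHom, s * y * s⁻¹ ∈ P.map (MulAut.conj k).toMonoidHom := by
    intro k hk s hs y hy
    obtain ⟨a, ha, rfl⟩ := (hmem k y).1 hy
    have hs' : k⁻¹ * s * k ∈ S₀ := by
      have := (Subgroup.mem_normalizer_iff.1 (inv_mem hk) s).1 hs
      simpa using this
    rw [hmem]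
    refine ⟨(k⁻¹ * s * k) * a * (k⁻¹ * s * k)⁻¹, hPn _ hs' a ha, ?_⟩
    group
  have hC : ∀ k : S, ¬ IsMulCommutative ↥(P.map (MulAut.conj k).toMonoidHom) := by
    intro k hcomm
    apply hP
    refine ⟨⟨fun a b => ?_⟩⟩
    have := hcomm.is_comm.comm ((P.equivMapOfInjective _ (MulAut.conj k).injective) a)
      ((P.equivMapOfInjective _ (MulAut.conj k).injective) b)
    rw [← map_mul, ← map_mul] at this
    exact (P.equivMapOfInjective _ (MulAut.conj k).injective).injective this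
  have hD : ∀ k : S, Nat.card ↥(Subgroup.center ↥(P.map (MulAut.conj k).toMonoidHom)) = 2 := by
    intro k
    rw [← Nat.card_congr (Subgroup.centerCongr
      (P.equivMapOfInjective _ (MulAut.conj k).injective)).toEquiv]
    exact hZP
  have hE : ∀ k : S, k * z * k⁻¹ ∈ (Subgroup.center ↥(P.map (MulAut.conj k).toMonoidHom)).map
      (P.map (MulAut.conj k).toMonoidHom).subtype := by
    intro k
    rw [mem_center_map_iff]
    refine ⟨(hmem k _).2 ⟨z, hzP, rfl⟩, ?_⟩
    intro y hy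
    obtain ⟨a, ha, rfl⟩ := (hmem k y).1 hy
    have e1 : k * a * k⁻¹ * (k * z * k⁻¹) = k * (a * z) * k⁻¹ := by group
    have e2 : k * z * k⁻¹ * (k * a * k⁻¹) = k * (z * a) * k⁻¹ := by group
    rw [e1, e2, hzc a ha]
  have hF : g * z * g⁻¹ ∉ (Subgroup.center ↥(P.map (MulAut.conj h).toMonoidHom)).map
      (P.map (MulAut.conj h).toMonoidHom).subtype := by
    intro hcon
    rw [mem_center_map_iff] at hcon
    obtain ⟨hc1, hc2⟩ := hcon
    obtain ⟨c, hc, hceq⟩ := (hmem h _).1 hc1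
    have hcc : ∀ a ∈ P, a * c = c * a := by
      intro a ha
      have := hc2 (h * a * h⁻¹) ((hmem h _).2 ⟨a, ha, rfl⟩)
      rw [← hceq] at this
      have e1 : a * c = h⁻¹ * (h * a * h⁻¹ * (h * c * h⁻¹)) * h := by group
      have e2 : c * a = h⁻¹ * (h * c * h⁻¹ * (h * a * h⁻¹)) * h := by group
      rw [e1, e2, this]
    rcases hZ c hc hcc with hc1' | hcz
    · apply hz1
      rw [hc1'] at hceq
      have : z = g⁻¹ * (g * z * g⁻¹) * g := by group
      rw [this, ← hceq]
      group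
    · apply hgh
      rw [hcz] at hceq
      rw [hS₀]
      have e1 : g⁻¹ * h * z = g⁻¹ * (h * z * h⁻¹) * h := by group
      rw [e1, hceq]
      group
  obtain ⟨h1, h2', h3⟩ := rel h2 hr S₀ (P.map (MulAut.conj g).toMonoidHom)
    (P.map (MulAut.conj h).toMonoidHom) (hA g hg) (hA h hh) (hB g hg) (hB h hh) (hC g) (hC h)
    (hD g) (hD h) (g * z * g⁻¹) (hE g) hF
  refine ⟨?_, ?_, ?_⟩
  · intro a ha b hb
    exact h1 _ ((hmem g _).2 ⟨a, ha, rfl⟩) _ ((hmem h _).2 ⟨b, hb, rfl⟩)
  · intro a ha b hb hab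
    have hmem' : g * a * g⁻¹ ∈ P.map (MulAut.conj g).toMonoidHom ⊓
        P.map (MulAut.conj h).toMonoidHom :=
      ⟨(hmem g _).2 ⟨a, ha, rfl⟩, (hmem h _).2 ⟨b, hb, hab.symm⟩⟩
    rw [h2', Subgroup.mem_bot] at hmem'
    have : a = g⁻¹ * (g * a * g⁻¹) * g := by group
    rw [this, hmem']
    group
  · intro t ht htg hth
    obtain ⟨a', ha', b', hb', hab⟩ := h3 t ht
      (fun y hy => by
        obtain ⟨a, ha, rfl⟩ := (hmem g y).1 hy
        exact htg a ha)
      (fun y hy => by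
        obtain ⟨b, hb, rfl⟩ := (hmem h y).1 hy
        exact hth b hb)
    obtain ⟨a, ha, rfl⟩ := (hmem g a').1 ha'
    obtain ⟨b, hb, rfl⟩ := (hmem h b').1 hb'
    exact ⟨a, ha, b, hb, hab⟩

/-- Let S be a finite 2-group of sectional 2-rank at most 4 and P a proper non-abelian subgroup whose centre has order 2. Let S₀ be the centralizer in S of Z(P) and suppose P is normal in S₀. Then either S₀ = S, or P has sectional 2-rank at most 2 and S₀ has index 2 in S. -/
theorem result {S : Type*} [Group S] [Finite S] (h2 : IsPGroup 2 S) (hr : Cfsg.SectionalPRankLE 2 4 S)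
    (P : Subgroup S) (hPlt : P ≠ ⊤) (hP : ¬ IsMulCommutative ↥P) (hZP : Nat.card ↥(Subgroup.center ↥P) = 2)
    (S₀ : Subgroup S) (hS₀ : S₀ = Subgroup.centralizer (((Subgroup.center ↥P).map P.subtype : Subgroup S) : Set S))
    (hPn : ∀ s ∈ S₀, ∀ x ∈ P, s * x * s⁻¹ ∈ P) :
    S₀ = ⊤ ∨ (Cfsg.SectionalPRankLE 2 2 ↥P ∧ S₀.index = 2) := by
  classical
  have hF2 : Fact (Nat.Prime 2) := ⟨Nat.prime_two⟩
  by_cases hS₀top : S₀ = ⊤
  · exact Or.inl hS₀top
  right
  -- the centre `Z` and its generator `z`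
  have hZc : Nat.card ((Subgroup.center ↥P).map P.subtype) = 2 := by
    rw [Subgroup.card_subtype]; exact hZP
  obtain ⟨z, hzZ, hz1⟩ : ∃ z ∈ (Subgroup.center ↥P).map P.subtype, z ≠ 1 := by
    have hne : (Subgroup.center ↥P).map P.subtype ≠ ⊥ := by
      intro h
      rw [h] at hZc
      simp at hZc
    obtain ⟨⟨z, hz⟩, hz1⟩ := (Subgroup.ne_bot_iff_exists_ne_one).1 hne
    exact ⟨z, hz, fun h => hz1 (Subtype.ext h)⟩
  have hZall : ∀ c ∈ (Subgroup.center ↥P).map P.subtype, c = 1 ∨ c = z := by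
    intro c hc
    obtain ⟨y, hy, huniq⟩ := (Nat.card_eq_two_iff' (1 : ↥((Subgroup.center ↥P).map P.subtype))).1 hZc
    by_cases hc1 : c = 1
    · exact Or.inl hc1
    · right
      have e1 : (⟨c, hc⟩ : ↥((Subgroup.center ↥P).map P.subtype)) = y :=
        huniq _ (fun h => hc1 (congrArg Subtype.val h))
      have e2 : (⟨z, hzZ⟩ : ↥((Subgroup.center ↥P).map P.subtype)) = y :=
        huniq _ (fun h => hz1 (congrArg Subtype.val h))
      exact congrArg Subtype.val (e1.trans e2.symm)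
  have hzP : z ∈ P := ((mem_center_map_iff P z).1 hzZ).1
  have hzc : ∀ a ∈ P, a * z = z * a := ((mem_center_map_iff P z).1 hzZ).2
  have hZ : ∀ c ∈ P, (∀ a ∈ P, a * c = c * a) → c = 1 ∨ c = z :=
    fun c hc hcc => hZall c ((mem_center_map_iff P c).2 ⟨hc, hcc⟩)
  have hS₀mem : ∀ s, s ∈ S₀ ↔ s * z = z * s := by
    intro s
    rw [hS₀, Subgroup.mem_centralizer_iff]
    constructor
    · intro h
      exact (h z hzZ).symm
    · intro h c hc
      rcases hZall c hc with rfl | rfl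
      · simp
      · exact h.symm
  have hPle : P ≤ S₀ := fun a ha => (hS₀mem a).2 (hzc a ha)
  have hzS₀ : z ∈ S₀ := hPle hzP
  have hzz : z * z = 1 := by
    rcases hZall (z * z) (Subgroup.mul_mem _ hzZ hzZ) with h | h
    · exact h
    · exact absurd (mul_left_cancel (h.trans (mul_one z).symm)) hz1
  -- the normalizer of `S₀`
  have hnil : Group.IsNilpotent S := h2.isNilpotent
  have hNC : NormalizerCondition S := Group.normalizerCondition_of_isNilpotent
  obtain ⟨x, hxN, hxS₀⟩ := SetLike.exists_of_lt (hNC S₀ (lt_top_iff_ne_top.2 hS₀top))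
  have hpair := pair h2 hr P S₀ hP hZP hPle hPn z hzP hz1 hzc hZ hS₀mem
  obtain ⟨hc1x, hi1x, hcent1x⟩ := hpair 1 x (Subgroup.one_mem _) hxN (by simpa using hxS₀)
  simp only [one_mul, inv_one, mul_one] at hc1x hi1x hcent1x
  -- the rank of `P`
  have hrank : SectionalPRankLE 2 2 ↥P := by
    have hr' : SectionalPRankLE 2 (2 * 2) S := hr
    refine sectionalPRankLE_half_of_commute 2 2 hr' P (P.map (MulAut.conj x).toMonoidHom)
      (P.equivMapOfInjective _ (MulAut.conj x).injective) ?_ ?_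
    · rintro a ha b ⟨b', hb', rfl⟩
      exact hc1x a ha b' hb'
    · rw [eq_bot_iff]
      rintro g ⟨hgP, ⟨b, hb, hbg⟩⟩
      rw [Subgroup.mem_bot]
      exact hi1x g hgP b hb hbg.symm
  refine ⟨hrank, ?_⟩
  -- cosets of `S₀` in its normalizer
  have hcoset : ∀ y ∈ Subgroup.normalizer (S₀ : Set S), y ∈ S₀ ∨ y * x⁻¹ ∈ S₀ := by
    intro y hy
    by_contra hcon
    push Not at hcon
    obtain ⟨hy1, hy2⟩ := hcon
    have hxy : x⁻¹ * y ∉ S₀ := by
      intro h
      apply hy2
      have := (Subgroup.mem_normalizer_iff.1 hxN (x⁻¹ * y)).1 h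
      have e : x * (x⁻¹ * y) * x⁻¹ = y * x⁻¹ := by group
      rwa [e] at this
    obtain ⟨hc1y, -, -⟩ := hpair 1 y (Subgroup.one_mem _) hy (by simpa using hy1)
    obtain ⟨hcxy, -, -⟩ := hpair x y hxN hy hxy
    simp only [one_mul, inv_one, mul_one] at hc1y
    apply hP
    refine ⟨⟨fun a b => ?_⟩⟩
    have hyS₀ : ∀ b ∈ P, y * b * y⁻¹ ∈ S₀ :=
      fun b hb => (Subgroup.mem_normalizer_iff.1 hy b).1 (hPle hb)
    obtain ⟨a1, ha1, b1, hb1, hdec⟩ := hcent1x (y * a * y⁻¹) (hyS₀ a a.2)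
      (fun c hc => (hc1y c hc a a.2).symm) (fun c hc => (hcxy c hc a a.2).symm)
    have e1 : (y * b * y⁻¹) * a1 = a1 * (y * b * y⁻¹) := (hc1y a1 ha1 b b.2).symm
    have e2 : (y * b * y⁻¹) * (x * b1 * x⁻¹) = (x * b1 * x⁻¹) * (y * b * y⁻¹) :=
      (hcxy b1 hb1 b b.2).symm
    have e3 : (y * a * y⁻¹) * (y * b * y⁻¹) = (y * b * y⁻¹) * (y * a * y⁻¹) := by
      rw [hdec]
      calc a1 * (x * b1 * x⁻¹) * (y * b * y⁻¹) = a1 * ((x * b1 * x⁻¹) * (y * b * y⁻¹)) :=
            mul_assoc _ _ _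
        _ = a1 * ((y * b * y⁻¹) * (x * b1 * x⁻¹)) := by rw [e2]
        _ = (a1 * (y * b * y⁻¹)) * (x * b1 * x⁻¹) := (mul_assoc _ _ _).symm
        _ = ((y * b * y⁻¹) * a1) * (x * b1 * x⁻¹) := by rw [e1]
        _ = (y * b * y⁻¹) * (a1 * (x * b1 * x⁻¹)) := mul_assoc _ _ _
    apply Subtype.ext
    have h1 : (a : S) * b = y⁻¹ * ((y * a * y⁻¹) * (y * b * y⁻¹)) * y := by group
    have h2' : (b : S) * a = y⁻¹ * ((y * b * y⁻¹) * (y * a * y⁻¹)) * y := by group
    rw [Subgroup.coe_mul, Subgroup.coe_mul, h1, h2', e3]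
  -- facts about `z' = x z x⁻¹`
  have hx2 : x * x ∈ S₀ := by
    rcases hcoset (x * x) (Subgroup.mul_mem _ hxN hxN) with h | h
    · exact h
    · exfalso
      apply hxS₀
      have e : x * x * x⁻¹ = x := by group
      rwa [e] at h
  obtain ⟨z', hz'⟩ : ∃ z', z' = x * z * x⁻¹ := ⟨_, rfl⟩
  have hz'c : ∀ s ∈ S₀, s * z' = z' * s := by
    intro s hs
    have hs' : x⁻¹ * s * x ∈ S₀ := by
      have := (Subgroup.mem_normalizer_iff.1 (inv_mem hxN) s).1 hs
      simpa using this
    have e := (hS₀mem _).1 hs'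
    calc s * z' = x * (x⁻¹ * s * x * z) * x⁻¹ := by rw [hz']; group
      _ = x * (z * (x⁻¹ * s * x)) * x⁻¹ := by rw [e]
      _ = z' * s := by rw [hz']; group
  have hxz' : x * z' * x⁻¹ = z := by
    have e := (hS₀mem _).1 hx2
    calc x * z' * x⁻¹ = (x * x * z) * (x * x)⁻¹ := by rw [hz']; group
      _ = z * (x * x) * (x * x)⁻¹ := by rw [e]
      _ = z := by group
  have hz'ne : z' ≠ z := by
    intro h
    apply hxS₀
    rw [hS₀mem]
    calc x * z = z' * x := by rw [hz']; group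
      _ = z * x := by rw [h]
  obtain ⟨u, hu⟩ : ∃ u, u = z * z' := ⟨_, rfl⟩
  have hzz' : Commute z z' := hz'c z hzS₀
  have hun : ∀ n ∈ Subgroup.normalizer (S₀ : Set S), Commute n u := by
    have hxu : Commute x u := by
      show x * u = u * x
      calc x * u = (x * z * x⁻¹) * (x * z' * x⁻¹) * x := by rw [hu]; group
        _ = z' * z * x := by rw [hxz', ← hz']
        _ = u * x := by rw [hu, hzz'.eq]
    have hsu : ∀ s ∈ S₀, Commute s u := by
      intro s hs
      have e1 : Commute s z := (hS₀mem s).1 hs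
      have e2 : Commute s z' := hz'c s hs
      rw [hu]
      exact e1.mul_right e2
    intro n hn
    rcases hcoset n hn with h | h
    · exact hsu n h
    · have e := (hsu _ h).mul_left hxu
      have e' : n * x⁻¹ * x = n := by group
      rwa [e'] at e
  have hu1 : u ≠ 1 := by
    intro h
    apply hz'ne
    rw [hu] at h
    have : z' = z⁻¹ := eq_inv_of_mul_eq_one_right h
    rw [this]
    exact inv_eq_of_mul_eq_one_left hzz
  have hconjz : ∀ n ∈ Subgroup.normalizer (S₀ : Set S), n * z * n⁻¹ = z ∨ n * z * n⁻¹ = z * u := by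
    intro n hn
    rcases hcoset n hn with h | h
    · left
      have e := (hS₀mem n).1 h
      rw [e]
      group
    · right
      have e := hz'c _ h
      have e2 : z * u = z' := by
        rw [hu, ← mul_assoc, hzz, one_mul]
      rw [e2]
      calc n * z * n⁻¹ = (n * x⁻¹ * z') * (n * x⁻¹)⁻¹ := by rw [hz']; group
        _ = z' * (n * x⁻¹) * (n * x⁻¹)⁻¹ := by rw [e]
        _ = z' := by group
  -- the normalizer of `S₀` is everything
  have hNtop : Subgroup.normalizer (S₀ : Set S) = ⊤ := by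
    by_contra hNne
    obtain ⟨w, hwNN, hwN⟩ := SetLike.exists_of_lt (hNC _ (lt_top_iff_ne_top.2 hNne))
    have hwconj : ∀ n ∈ Subgroup.normalizer (S₀ : Set S),
        w⁻¹ * n * w ∈ Subgroup.normalizer (S₀ : Set S) := by
      intro n hn
      have := (Subgroup.mem_normalizer_iff.1 (inv_mem hwNN) n).1 hn
      simpa using this
    have hwconj' : ∀ n ∈ Subgroup.normalizer (S₀ : Set S),
        w * n * w⁻¹ ∈ Subgroup.normalizer (S₀ : Set S) :=
      fun n hn => (Subgroup.mem_normalizer_iff.1 hwNN n).1 hn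
    obtain ⟨t, ht⟩ : ∃ t, t = w * z * w⁻¹ := ⟨_, rfl⟩
    obtain ⟨u', hu'⟩ : ∃ u', u' = w * u * w⁻¹ := ⟨_, rfl⟩
    have hS₀N : S₀ ≤ Subgroup.normalizer (S₀ : Set S) := Subgroup.le_normalizer
    have hzN : z ∈ Subgroup.normalizer (S₀ : Set S) := hS₀N hzS₀
    have htN : t ∈ Subgroup.normalizer (S₀ : Set S) := ht ▸ hwconj' z hzN
    have hu'c : ∀ n ∈ Subgroup.normalizer (S₀ : Set S), Commute n u' := by
      intro n hn
      have e := (hun _ (hwconj n hn)).eq
      show n * u' = u' * n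
      calc n * u' = w * ((w⁻¹ * n * w) * u) * w⁻¹ := by rw [hu']; group
        _ = w * (u * (w⁻¹ * n * w)) * w⁻¹ := by rw [e]
        _ = u' * n := by rw [hu']; group
    have hu'1 : u' ≠ 1 := by
      intro h
      apply hu1
      have : u = w⁻¹ * u' * w := by rw [hu']; group
      rw [this, h]
      group
    have hu'P : u' ∉ P := by
      intro h
      have hcc : ∀ a ∈ P, a * u' = u' * a := fun a ha => (hu'c a (hS₀N (hPle ha))).eq
      rcases hZ u' h hcc with h1 | h1
      · exact hu'1 h1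
      · apply hxS₀
        rw [hS₀mem]
        have := (hu'c x hxN).eq
        rwa [h1] at this
    have hu'Px : ∀ b ∈ P, u' ≠ x * b * x⁻¹ := by
      intro b hb h
      apply hu'P
      have e := (hu'c x hxN).eq
      have e1 : b = x⁻¹ * u' * x := by rw [h]; group
      have e2 : b = u' := by
        rw [e1]
        calc x⁻¹ * u' * x = x⁻¹ * (u' * x) := by group
          _ = x⁻¹ * (x * u') := by rw [e]
          _ = u' := by group
      rwa [← e2]
    have htconj : ∀ n ∈ Subgroup.normalizer (S₀ : Set S),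
        n * t * n⁻¹ = t ∨ n * t * n⁻¹ = t * u' := by
      intro n hn
      have e : n * t * n⁻¹ = w * ((w⁻¹ * n * w) * z * (w⁻¹ * n * w)⁻¹) * w⁻¹ := by
        rw [ht]; group
      rcases hconjz _ (hwconj n hn) with h | h
      · left
        rw [e, h, ht]
      · right
        rw [e, h, ht, hu']
        group
    by_cases htS₀ : t ∈ S₀
    · -- Case A: `t ∈ S₀`
      have htP : ∀ a ∈ P, t * a = a * t := by
        intro a ha
        rcases htconj a (hS₀N (hPle ha)) with h | h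
        · exact (mul_inv_eq_iff_eq_mul.1 h).symm
        · exfalso
          apply hu'P
          have e : u' = (t⁻¹ * a * t⁻¹⁻¹) * a⁻¹ := by
            have : u' = t⁻¹ * (a * t * a⁻¹) := by rw [h]; group
            rw [this]; group
          rw [e]
          exact P.mul_mem (hPn _ (inv_mem htS₀) a ha) (P.inv_mem ha)
      have htPx : ∀ b ∈ P, t * (x * b * x⁻¹) = (x * b * x⁻¹) * t := by
        intro b hb
        have hbS₀ : x * b * x⁻¹ ∈ S₀ := (Subgroup.mem_normalizer_iff.1 hxN b).1 (hPle hb)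
        rcases htconj _ (hS₀N hbS₀) with h | h
        · exact (mul_inv_eq_iff_eq_mul.1 h).symm
        · exfalso
          have hs : x⁻¹ * t⁻¹ * x ∈ S₀ := by
            have := (Subgroup.mem_normalizer_iff.1 (inv_mem hxN) t⁻¹).1 (inv_mem htS₀)
            simpa using this
          apply hu'Px (((x⁻¹ * t⁻¹ * x) * b * (x⁻¹ * t⁻¹ * x)⁻¹) * b⁻¹)
            (P.mul_mem (hPn _ hs b hb) (P.inv_mem hb))
          have : u' = t⁻¹ * ((x * b * x⁻¹) * t * (x * b * x⁻¹)⁻¹) := by rw [h]; group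
          rw [this]; group
      obtain ⟨a, ha, b, hb, hdec⟩ := hcent1x t htS₀ htP htPx
      have haZ : a = 1 ∨ a = z := by
        apply hZ a ha
        intro c hc
        have hct : Commute c t := (htP c hc).symm
        have hcy : Commute c (x * b * x⁻¹) := hc1x c hc b hb
        have ea : a = t * (x * b * x⁻¹)⁻¹ := by rw [hdec]; group
        rw [ea]
        exact (hct.mul_right hcy.inv_right).eq
      have hbZ : b = 1 ∨ b = z := by
        apply hZ b hb
        intro c hc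
        have hct : Commute (x * c * x⁻¹) t := (htPx c hc).symm
        have hca : Commute (x * c * x⁻¹) a := (hc1x a ha c hc).symm
        have ey : x * b * x⁻¹ = a⁻¹ * t := by rw [hdec]; group
        have hcy : Commute (x * c * x⁻¹) (x * b * x⁻¹) := by
          rw [ey]
          exact hca.inv_right.mul_right hct
        have e1 : c * b = x⁻¹ * ((x * c * x⁻¹) * (x * b * x⁻¹)) * x := by group
        have e2 : b * c = x⁻¹ * ((x * b * x⁻¹) * (x * c * x⁻¹)) * x := by group
        rw [e1, e2, hcy.eq]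
      have htc : ∀ s ∈ S₀, Commute s t := by
        intro s hs
        have h1 : Commute s a := by
          rcases haZ with h | h
          · rw [h]; exact Commute.one_right s
          · rw [h]; exact (hS₀mem s).1 hs
        have h2' : Commute s (x * b * x⁻¹) := by
          rcases hbZ with h | h
          · rw [h]
            have : x * 1 * x⁻¹ = 1 := by group
            rw [this]; exact Commute.one_right s
          · rw [h, ← hz']; exact hz'c s hs
        rw [hdec]
        exact h1.mul_right h2'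
      apply hwN
      have hwinv : w⁻¹ ∈ Subgroup.normalizer (S₀ : Set S) := by
        apply Subgroup.mem_normalizer_fintype
        intro s hs
        have hs' : s ∈ S₀ := hs
        show w⁻¹ * s * w⁻¹⁻¹ ∈ S₀
        rw [inv_inv, hS₀mem]
        have e := (htc s hs').eq
        calc w⁻¹ * s * w * z = w⁻¹ * (s * t) * w := by rw [ht]; group
          _ = w⁻¹ * (t * s) * w := by rw [e]
          _ = z * (w⁻¹ * s * w) := by rw [ht]; group
      have := inv_mem hwinv
      rwa [inv_inv] at this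
    · -- Case B: `t ∉ S₀`
      have hts : t * x⁻¹ ∈ S₀ := by
        rcases hcoset t htN with h | h
        · exact absurd h htS₀
        · exact h
      have hs' : x⁻¹ * (t * x⁻¹) * x ∈ S₀ := by
        have := (Subgroup.mem_normalizer_iff.1 (inv_mem hxN) (t * x⁻¹)).1 hts
        simpa using this
      have hall : ∀ a ∈ P, a = 1 ∨ a = z := by
        intro a ha
        have hbP : (x⁻¹ * (t * x⁻¹) * x) * a * (x⁻¹ * (t * x⁻¹) * x)⁻¹ ∈ P := hPn _ hs' a ha
        have hb_eq : x * ((x⁻¹ * (t * x⁻¹) * x) * a * (x⁻¹ * (t * x⁻¹) * x)⁻¹) * x⁻¹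
            = t * a * t⁻¹ := by group
        rcases htconj a (hS₀N (hPle ha)) with h | h
        · left
          apply hi1x a ha _ hbP
          rw [hb_eq]
          have e := mul_inv_eq_iff_eq_mul.1 h
          calc a = a * t * t⁻¹ := by group
            _ = t * a * t⁻¹ := by rw [e]
        · apply hZ a ha
          intro c hc
          have hcu : Commute c u' := hu'c c (hS₀N (hPle hc))
          have hcy : Commute c (t * a * t⁻¹) := by
            rw [← hb_eq]
            exact hc1x c hc _ hbP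
          have htu : Commute t u' := hu'c t htN
          have ea : a = u' * (t * a * t⁻¹) := by
            have e1 : u' = t⁻¹ * (a * t * a⁻¹) := by rw [h]; group
            have e2 : t * u' = u' * t := htu.eq
            have e3 : a * t * a⁻¹ = u' * t := by rw [h, e2]
            calc a = (a * t * a⁻¹) * a * t⁻¹ := by group
              _ = u' * t * a * t⁻¹ := by rw [e3]
              _ = u' * (t * a * t⁻¹) := by group
          rw [ea]
          exact (hcu.mul_right hcy).eq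
      apply hP
      refine ⟨⟨fun a b => ?_⟩⟩
      apply Subtype.ext
      rw [Subgroup.coe_mul, Subgroup.coe_mul]
      rcases hall a a.2 with h | h
      · rw [h, one_mul, mul_one]
      · rw [h]
        exact (hzc b b.2).symm
  -- conclusion
  rw [Subgroup.index_eq_two_iff]
  refine ⟨x⁻¹, fun b => ?_⟩
  have hbN : b ∈ Subgroup.normalizer (S₀ : Set S) := by rw [hNtop]; exact Subgroup.mem_top b
  by_cases hb : b ∈ S₀
  · right
    refine ⟨hb, fun h => hxS₀ ?_⟩
    have : x = (b * x⁻¹)⁻¹ * b := by group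
    rw [this]
    exact S₀.mul_mem (S₀.inv_mem h) hb
  · left
    rcases hcoset b hbN with h | h
    · exact absurd h hb
    · exact ⟨h, hb⟩

end Cfsg.Agent.S4401
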