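import Mathlib
import Cfsg.Statements.S4405
import Cfsg.Agent.S4413
import Cfsg.Agent.Lib.Helper1.PCore

set_option autoImplicit false
open Cfsg

namespace Cfsg.Agent.S4405

open Cfsg.Agent.S4413

section PermLemma

variable {Ω : Type*} [Finite Ω]

/-- A permutation of order five on five points is a five-cycle: no fixed points, transitive. -/
theorem five_cycle (hΩ : Nat.card Ω = 5) (c : Equiv.Perm Ω) (hc5 : c ^ 5 = 1) (hc1 : c ≠ 1) :
    (∀ A, c A ≠ A) ∧ ∀ A B, ∃ i : ℤ, (c ^ i) A = B := by
  classical
  haveI : Fintype Ω := Fintype.ofFinite Ω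
  have : Fact (Nat.Prime 5) := ⟨by norm_num⟩
  have hord : orderOf c = 5 := orderOf_eq_prime hc5 hc1
  have hprime : (orderOf c).Prime := by rw [hord]; norm_num
  obtain ⟨n, hn⟩ := Equiv.Perm.cycleType_prime_order hprime
  rw [hord] at hn
  have hsum : c.cycleType.sum = c.support.card := Equiv.Perm.sum_cycleType c
  rw [hn, Multiset.sum_replicate, smul_eq_mul] at hsum
  have hle : c.support.card ≤ Fintype.card Ω := Finset.card_le_univ _
  rw [← Nat.card_eq_fintype_card, hΩ] at hle
  have hn0 : n = 0 := by omega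
  subst hn0
  have hsupp : c.support = Finset.univ := by
    apply Finset.eq_univ_of_card
    rw [← Nat.card_eq_fintype_card, hΩ]; omega
  have hmoved : ∀ A, c A ≠ A := by
    intro A
    have : A ∈ c.support := by rw [hsupp]; exact Finset.mem_univ _
    exact Equiv.Perm.mem_support.mp this
  have hcyc : c.IsCycle := by
    rw [← Equiv.Perm.card_cycleType_eq_one, hn]; simp
  refine ⟨hmoved, fun A B => ?_⟩
  exact hcyc.sameCycle (hmoved A) (hmoved B)

theorem fixed_unique (hΩ : Nat.card Ω = 5) (c s : Equiv.Perm Ω) (hc5 : c ^ 5 = 1) (hc1 : c ≠ 1)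
    (hs1 : s ≠ 1) (hn : s * c * s⁻¹ ∈ Subgroup.zpowers c) (A B : Ω) (hA : s A = A)
    (hB : s B = B) : A = B := by
  obtain ⟨k, hk⟩ := Subgroup.mem_zpowers_iff.mp hn
  obtain ⟨hmoved, htrans⟩ := five_cycle hΩ c hc5 hc1
  have : Fact (Nat.Prime 5) := ⟨by norm_num⟩
  have hord : orderOf c = 5 := orderOf_eq_prime hc5 hc1
  -- a power of `c` fixing a point is trivial
  have hpow : ∀ (m : ℤ) (X : Ω), (c ^ m) X = X → c ^ m = 1 := by
    intro m X hX
    by_contra hne
    have h5 : (c ^ m) ^ 5 = 1 := by
      rw [← zpow_natCast, ← zpow_mul, mul_comm, zpow_mul, zpow_natCast, hc5, one_zpow]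
    exact (five_cycle hΩ (c ^ m) h5 hne).1 X hX
  have hconj : ∀ i : ℤ, s * c ^ i * s⁻¹ = c ^ (k * i) := by
    intro i
    rw [zpow_mul, hk, conj_zpow]
  have hact : ∀ (i : ℤ), s ((c ^ i) A) = (c ^ (k * i)) A := by
    intro i
    rw [← hconj i]
    simp only [Equiv.Perm.mul_apply]
    have : s⁻¹ A = A := by
      rw [Equiv.Perm.inv_eq_iff_eq]; exact hA.symm
    rw [this]
  obtain ⟨i, hi⟩ := htrans A B
  have h1 : (c ^ (k * i)) A = (c ^ i) A := by
    rw [← hact i, hi, hB]
  have h2 : (c ^ (-i + k * i)) A = A := by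
    rw [zpow_add, Equiv.Perm.mul_apply, h1, ← Equiv.Perm.mul_apply, ← zpow_add]
    simp
  have h3 := hpow _ A h2
  have h4 : (orderOf c : ℤ) ∣ (-i + k * i) := orderOf_dvd_iff_zpow_eq_one.mpr h3
  rw [hord] at h4
  have h5 : (5 : ℤ) ∣ (k - 1) * i := by
    have : (k - 1) * i = -i + k * i := by ring
    rw [this]; exact_mod_cast h4
  have hp5 : Prime (5 : ℤ) := by norm_num
  rcases hp5.dvd_or_dvd h5 with h6 | h6
  · -- `s` commutes with `c`, hence is trivial
    exfalso
    apply hs1
    have hck : c ^ k = c := by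
      have : c ^ (k - 1) = 1 := by
        apply orderOf_dvd_iff_zpow_eq_one.mp
        rw [hord]; exact_mod_cast h6
      have h7 : c ^ k = c ^ (k - 1) * c := by
        rw [← zpow_add_one]; congr 1; ring
      rw [h7, this, one_mul]
    have hcomm : s * c = c * s := by
      have : s * c * s⁻¹ = c := by rw [← hk, hck]
      calc s * c = (s * c * s⁻¹) * s := by group
        _ = c * s := by rw [this]
    have hcommi : ∀ j : ℤ, s * c ^ j = c ^ j * s := by
      intro j
      have : Commute s c := hcomm
      exact (this.zpow_right j)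
    ext X
    obtain ⟨j, hj⟩ := htrans A X
    rw [← hj, ← Equiv.Perm.mul_apply, hcommi j, Equiv.Perm.mul_apply, hA]
    simp
  · have : c ^ i = 1 := by
      apply orderOf_dvd_iff_zpow_eq_one.mp
      rw [hord]; exact_mod_cast h6
    rw [this] at hi
    simpa using hi

end PermLemma


section FixedPoints

variable {P : Type*} [Group P] [Finite P] {z : P}

/-- Noncentral involutions anticommuting with an element `x` of order four lie in two singular
points. -/
theorem anti_cases (h : ES P z)
    (hminus : ∀ A : Subgroup P, Cfsg.IsElementaryAbelian 2 A → Nat.card ↥A ≤ 4)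
    {x w v : P} (hxx : x * x = z)
    (hw : w * w = 1) (hw1 : w ≠ 1) (hwz : w ≠ z) (hxw : x * w = z * (w * x))
    (hv : v * v = 1) (hv1 : v ≠ 1) (hvz : v ≠ z) (hxv : x * v = z * (v * x)) :
    v = w ∨ v = w * z ∨ v = x * w ∨ v = x * w * z := by
  have hyy : (x * w) * (x * w) = 1 := by
    rw [h.sq_mul_anti hw hxw, hxx, h.zz]
  have hy1 : x * w ≠ 1 := by
    intro h'
    have hxw' : x = w := by
      have : x * w = w * w := by rw [h', hw]
      exact mul_right_cancel this
    rw [hxw', hw] at hxx
    exact h.z1 hxx.symm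
  have hyz : x * w ≠ z := by
    intro h'
    -- x = z * w
    have hxw' : x = z * w := by
      have : x * w = (z * w) * w := by rw [h', mul_assoc, hw, mul_one]
      exact mul_right_cancel this
    have : x * x = 1 := by
      rw [hxw', h.zc', ← mul_assoc, ← mul_assoc, h.zz, one_mul, hw]
    rw [this] at hxx
    exact h.z1 hxx.symm
  rcases h.comm w v with hc | hc
  · rcases eq_or_of_commute h hminus hw hw1 hwz hv hv1 hvz hc with h' | h'
    · exact Or.inl h'
    · exact Or.inr (Or.inl h')
  · -- v commutes with x * w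
    have hwx : w * x = z * (x * w) := h.comm_symm hxw
    have hvx : v * x = z * (x * v) := h.comm_symm hxv
    have hvw : v * w = z * (w * v) := h.comm_symm hc
    have hcomm : (x * w) * v = v * (x * w) := by
      calc (x * w) * v = x * (w * v) := mul_assoc _ _ _
        _ = x * (z * (v * w)) := by rw [hc]
        _ = z * ((x * v) * w) := by rw [h.zc', mul_assoc]
        _ = z * ((z * (v * x)) * w) := by rw [hxv]
        _ = v * (x * w) := by simp only [mul_assoc, h.zz']
    rcases eq_or_of_commute h hminus hyy hy1 hyz hv hv1 hvz hcomm with h' | h'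
    · exact Or.inr (Or.inr (Or.inl h'))
    · exact Or.inr (Or.inr (Or.inr h'))

omit [Finite P] in
theorem aut_z (h : ES P z) (t : MulAut P) : t z = z := by
  have hc : ∀ y : P, y * t z = t z * y := by
    intro y
    have : y = t (t.symm y) := (t.apply_symm_apply y).symm
    rw [this, ← map_mul, ← map_mul, h.zc]
  rcases h.cent _ hc with h' | h'
  · exfalso
    apply h.z1
    have : t z = t 1 := by rw [h', map_one]
    exact t.injective this
  · exact h'

/-- An involutory automorphism with at most one fixed singular point fixes no element of order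
four. -/
theorem fixed_sq (h : ES P z) (h32 : Nat.card P = 32)
    (hminus : ∀ A : Subgroup P, Cfsg.IsElementaryAbelian 2 A → Nat.card ↥A ≤ 4)
    (t : MulAut P) (htt : ∀ x, t (t x) = x)
    (hfix : ∀ A B : Sig P, t • A = A → t • B = B → A = B)
    (x : P) (hx : t x = x) : x * x = 1 := by
  rcases h.sq x with hxx | hxx
  · exact hxx
  exfalso
  have htz : t z = z := aut_z h t
  have hx1 : x ≠ 1 := by
    intro h'; rw [h', one_mul] at hxx; exact h.z1 hxx.symm
  have hxz : x ≠ z := by
    intro h'; rw [h', h.zz] at hxx; exact h.z1 hxx.symm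
  -- a noncentral involution not commuting with x
  obtain ⟨w, hw, hw1, hwz, hxw0⟩ : ∃ w : P, w * w = 1 ∧ w ≠ 1 ∧ w ≠ z ∧ x * w ≠ w * x := by
    by_contra hcon
    push Not at hcon
    have hle : Subgroup.closure {x : P | x * x = 1 ∧ x ≠ 1 ∧ x ≠ z} ≤
        Subgroup.centralizer {x} := by
      rw [Subgroup.closure_le]
      intro w hw
      rw [SetLike.mem_coe, Subgroup.mem_centralizer_singleton_iff]
      exact (hcon w hw.1 hw.2.1 hw.2.2).symm
    rw [closure_invol h h32 hminus] at hle
    have hcen : ∀ y : P, y * x = x * y := by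
      intro y
      have := hle (Subgroup.mem_top y)
      rwa [Subgroup.mem_centralizer_singleton_iff] at this
    rcases h.cent x hcen with h' | h'
    exacts [hx1 h', hxz h']
  have hxw : x * w = z * (w * x) := h.anti_of_ne hxw0
  have hwx : w * x = z * (x * w) := h.comm_symm hxw
  have hyy : (x * w) * (x * w) = 1 := by
    rw [h.sq_mul_anti hw hxw, hxx, h.zz]
  have hy1 : x * w ≠ 1 := by
    intro h'
    have hxw' : x = w := by
      have : x * w = w * w := by rw [h', hw]
      exact mul_right_cancel this
    rw [hxw', hw] at hxx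
    exact h.z1 hxx.symm
  have hyz : x * w ≠ z := by
    intro h'
    have hxw' : x = z * w := by
      have : x * w = (z * w) * w := by rw [h', mul_assoc, hw, mul_one]
      exact mul_right_cancel this
    have : x * x = 1 := by
      rw [hxw', h.zc', ← mul_assoc, ← mul_assoc, h.zz, one_mul, hw]
    rw [this] at hxx
    exact h.z1 hxx.symm
  -- y := x * w anticommutes with x
  have hxy : x * (x * w) = z * ((x * w) * x) := by
    rw [mul_assoc, hwx, h.zc', h.zz']
  set W := fourSig h w hw hw1 hwz with hWdef
  set Y := fourSig h (x * w) hyy hy1 hyz with hYdef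
  have hwW : w ∈ W.1 := self_mem_fourSig h w hw hw1 hwz
  have hyY : x * w ∈ Y.1 := self_mem_fourSig h (x * w) hyy hy1 hyz
  have hWY : W ≠ Y := by
    intro h'
    have : x * w ∈ W.1 := by rw [h']; exact hyY
    rcases (sig_mem_iff h W hwW hw1 hwz (x * w)).mp this with h'' | h'' | h'' | h''
    · exact hy1 h''
    · exact hyz h''
    · apply hx1
      have : x * w = 1 * w := by rw [h'', one_mul]
      exact mul_right_cancel this
    · apply hxz
      have : x * w = z * w := by rw [h'', h.zc]
      exact mul_right_cancel this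
  -- images of involutions anticommuting with x
  have himg : ∀ v : P, v * v = 1 → v ≠ 1 → v ≠ z → x * v = z * (v * x) →
      t v = w ∨ t v = w * z ∨ t v = x * w ∨ t v = x * w * z := by
    intro v hv hv1 hvz hxv
    apply anti_cases h hminus hxx hw hw1 hwz hxw
    · rw [← map_mul, hv, map_one]
    · intro h'
      apply hv1
      have : t v = t 1 := by rw [h', map_one]
      exact t.injective this
    · intro h'
      apply hvz
      have : t v = t z := by rw [h', htz]
      exact t.injective this
    · have := congrArg t hxv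
      rw [map_mul, map_mul, map_mul, hx, htz] at this
      exact this
  have hsmulW : ∀ v : P, v ∈ W.1 → v ≠ 1 → v ≠ z → ∀ B : Sig P, t v ∈ B.1 → t • W = B := by
    intro v hvW hv1 hvz B hB
    have hm := apply_mem_smul t W hvW
    refine sig_ext h hm hB ?_ ?_
    · intro h'
      apply hv1
      have : t v = t 1 := by rw [h', map_one]
      exact t.injective this
    · intro h'
      apply hvz
      have : t v = t z := by rw [h', htz]
      exact t.injective this
  have hsmulY : ∀ v : P, v ∈ Y.1 → v ≠ 1 → v ≠ z → ∀ B : Sig P, t v ∈ B.1 → t • Y = B := by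
    intro v hvY hv1 hvz B hB
    have hm := apply_mem_smul t Y hvY
    refine sig_ext h hm hB ?_ ?_
    · intro h'
      apply hv1
      have : t v = t 1 := by rw [h', map_one]
      exact t.injective this
    · intro h'
      apply hvz
      have : t v = t z := by rw [h', htz]
      exact t.injective this
  have hzW : z ∈ W.1 := z_mem_sig h W
  have hzY : z ∈ Y.1 := z_mem_sig h Y
  have hzx : z * x ≠ x := by
    intro h'
    apply h.z1
    have : z * x = 1 * x := by rw [h', one_mul]
    exact mul_right_cancel this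
  -- x = (x * w) * w
  have hxyw : x = (x * w) * w := by rw [mul_assoc, hw, mul_one]
  have hwy : w * (x * w) = z * x := by
    rw [← mul_assoc, hwx, mul_assoc, mul_assoc, hw, mul_one]
  rcases himg w hw hw1 hwz hxw with h1 | h1 | h1 | h1
  · -- t fixes W
    have hW : t • W = W := hsmulW w hwW hw1 hwz W (by rw [h1]; exact hwW)
    rcases himg (x * w) hyy hy1 hyz hxy with h2 | h2 | h2 | h2
    · have : t • Y = W := hsmulY _ hyY hy1 hyz W (by rw [h2]; exact hwW)
      have hinj : Y = W := by
        have := this.trans hW.symm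
        exact MulAction.injective t this
      exact hWY hinj.symm
    · have : t • Y = W := hsmulY _ hyY hy1 hyz W (by rw [h2]; exact mul_mem hwW hzW)
      have hinj : Y = W := by
        have := this.trans hW.symm
        exact MulAction.injective t this
      exact hWY hinj.symm
    · have : t • Y = Y := hsmulY _ hyY hy1 hyz Y (by rw [h2]; exact hyY)
      exact hWY (hfix W Y hW this)
    · have : t • Y = Y := hsmulY _ hyY hy1 hyz Y (by rw [h2]; exact mul_mem hyY hzY)
      exact hWY (hfix W Y hW this)
  · have hW : t • W = W := hsmulW w hwW hw1 hwz W (by rw [h1]; exact mul_mem hwW hzW)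
    rcases himg (x * w) hyy hy1 hyz hxy with h2 | h2 | h2 | h2
    · have : t • Y = W := hsmulY _ hyY hy1 hyz W (by rw [h2]; exact hwW)
      have hinj : Y = W := by
        have := this.trans hW.symm
        exact MulAction.injective t this
      exact hWY hinj.symm
    · have : t • Y = W := hsmulY _ hyY hy1 hyz W (by rw [h2]; exact mul_mem hwW hzW)
      have hinj : Y = W := by
        have := this.trans hW.symm
        exact MulAction.injective t this
      exact hWY hinj.symm
    · have : t • Y = Y := hsmulY _ hyY hy1 hyz Y (by rw [h2]; exact hyY)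
      exact hWY (hfix W Y hW this)
    · have : t • Y = Y := hsmulY _ hyY hy1 hyz Y (by rw [h2]; exact mul_mem hyY hzY)
      exact hWY (hfix W Y hW this)
  · -- t w = x * w, so t (x * w) = w and t x = w * (x * w) = z * x
    have h2 : t (x * w) = w := by rw [← h1, htt]
    apply hzx
    have : t x = z * x := by
      conv_lhs => rw [hxyw]
      rw [map_mul, h2, h1, hwy]
    rw [← this, hx]
  · have h2 : t (x * w) = w * z := by
      have h3 : t (x * w * z) = w := by rw [← h1, htt]
      rw [map_mul, htz] at h3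
      calc t (x * w) = t (x * w) * z * z := by rw [mul_assoc, h.zz, mul_one]
        _ = w * z := by rw [h3]
    apply hzx
    have : t x = z * x := by
      conv_lhs => rw [hxyw]
      rw [map_mul, h2, h1]
      calc w * z * (x * w * z) = (w * (x * w)) * (z * z) := by
            simp only [mul_assoc, h.zc', h.zc]
        _ = z * x := by rw [h.zz, mul_one, hwy]
    rw [← this, hx]

theorem fixed_cases (h : ES P z) (h32 : Nat.card P = 32)
    (hminus : ∀ A : Subgroup P, Cfsg.IsElementaryAbelian 2 A → Nat.card ↥A ≤ 4)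
    (t : MulAut P) (htt : ∀ x, t (t x) = x)
    (hfix : ∀ A B : Sig P, t • A = A → t • B = B → A = B)
    {e : P} (he : t e = e) (hee : e * e = 1) (he1 : e ≠ 1) (hez : e ≠ z) (x : P) (hx : t x = x) :
    x = 1 ∨ x = z ∨ x = e ∨ x = e * z := by
  have hxx := fixed_sq h h32 hminus t htt hfix x hx
  by_cases hx1 : x = 1
  · exact Or.inl hx1
  by_cases hxz : x = z
  · exact Or.inr (Or.inl hxz)
  right; right
  set E := fourSig h e hee he1 hez
  set X := fourSig h x hxx hx1 hxz
  have heE : e ∈ E.1 := self_mem_fourSig h e hee he1 hez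
  have hxX : x ∈ X.1 := self_mem_fourSig h x hxx hx1 hxz
  have hE : t • E = E := by
    have := apply_mem_smul t E heE
    rw [he] at this
    exact sig_ext h this heE he1 hez
  have hX : t • X = X := by
    have := apply_mem_smul t X hxX
    rw [hx] at this
    exact sig_ext h this hxX hx1 hxz
  have hEX := hfix E X hE hX
  have : x ∈ E.1 := by rw [hEX]; exact hxX
  rcases (sig_mem_iff h E heE he1 hez x).mp this with h' | h' | h' | h'
  · exact absurd h' hx1
  · exact absurd h' hxz
  · exact Or.inl h'
  · exact Or.inr h'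

end FixedPoints


section Centralizer

theorem nat_aux1 (n : ℕ) (h : n ∣ 20) (h5 : ¬ 5 ∣ n) : n = 2 ^ 0 ∨ n = 2 ^ 1 ∨ n = 2 ^ 2 := by
  have hle : n ≤ 20 := Nat.le_of_dvd (by norm_num) h
  interval_cases n <;> revert h h5 <;> decide

theorem nat_aux2 (n : ℕ) (h : n ∣ 20) (hmod : n % 5 = 1) : n = 1 := by
  have hle : n ≤ 20 := Nat.le_of_dvd (by norm_num) h
  interval_cases n <;> revert h hmod <;> decide

variable {G : Type*} [Group G] [Finite G]

/-- `C_G(O_2(G)) ≤ O_2(G)` in our situation. -/
theorem centralizer_le (hG : Nat.card G = 320) (hHF : Cfsg.pCore 2 G = Cfsg.fittingSubgroup G)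
    (h32 : Nat.card ↥(Cfsg.pCore 2 G) = 32)
    (hZ : Nat.card ↥(Cfsg.pCore 2 G ⊓ Subgroup.centralizer (Cfsg.pCore 2 G : Set G)) ≤ 2) :
    Subgroup.centralizer (Cfsg.pCore 2 G : Set G) ≤ Cfsg.pCore 2 G := by
  classical
  set H := Cfsg.pCore 2 G with hHdef
  haveI hHn : H.Normal := Cfsg.Agent.Lib.Helper1.pCore_normal 2
  set C := Subgroup.centralizer (H : Set G) with hCdef
  haveI hCn : C.Normal := inferInstance
  have hidx : H.index = 10 := by
    have := Subgroup.card_mul_index H
    rw [h32, hG] at this
    omega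
  have hrel : H.relIndex C ∣ 10 := by
    rw [← hidx]; exact Subgroup.relIndex_dvd_index_of_normal H C
  have hmul : Nat.card ↥(H ⊓ C) * H.relIndex C = Nat.card C := by
    have := Subgroup.relIndex_mul_relIndex (H := ⊥) (K := H ⊓ C) (L := C) bot_le inf_le_right
    rwa [Subgroup.relIndex_bot_left, Subgroup.relIndex_bot_left, Subgroup.inf_relIndex_right]
      at this
  have hpos : 0 < Nat.card ↥(H ⊓ C) := Nat.card_pos
  have hC20 : Nat.card C ∣ 20 := by
    rw [← hmul]
    have h1 : Nat.card ↥(H ⊓ C) ∣ 2 := by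
      have : Nat.card ↥(H ⊓ C) = 1 ∨ Nat.card ↥(H ⊓ C) = 2 := by omega
      rcases this with h | h <;> rw [h] <;> norm_num
    calc Nat.card ↥(H ⊓ C) * H.relIndex C ∣ 2 * 10 := Nat.mul_dvd_mul h1 hrel
      _ = 20 := by norm_num
  -- 5 does not divide |C|
  have h5 : ¬ 5 ∣ Nat.card C := by
    intro h5
    haveI : Fact (Nat.Prime 5) := ⟨by norm_num⟩
    have P5 : Sylow 5 C := default
    have hn : Nat.card (Sylow 5 C) ∣ 20 :=
      ((Sylow.card_dvd_index P5).trans (Subgroup.index_dvd_card _)).trans hC20
    have hmod : Nat.card (Sylow 5 C) ≡ 1 [MOD 5] := card_sylow_modEq_one 5 C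
    have hone : Nat.card (Sylow 5 C) = 1 := nat_aux2 _ hn hmod
    haveI : Subsingleton (Sylow 5 C) := (Nat.card_eq_one_iff_unique.mp hone).1
    haveI hPn : (P5 : Subgroup C).Normal := Sylow.normal_of_subsingleton P5
    haveI hPc : (P5 : Subgroup C).Characteristic := Sylow.characteristic_of_normal P5 hPn
    have hKn : ((P5 : Subgroup C).map C.subtype).Normal :=
      ConjAct.normal_of_characteristic_of_normal
    set K := (P5 : Subgroup C).map C.subtype with hKdef
    have hKcard : Nat.card K = Nat.card (P5 : Subgroup C) :=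
      Subgroup.card_map_of_injective C.subtype_injective
    have hKp : IsPGroup 5 K := by
      obtain ⟨k, hk⟩ := (IsPGroup.iff_card).mp P5.isPGroup'
      exact IsPGroup.of_card (n := k) (by rw [hKcard]; exact hk)
    have hKnil : Group.IsNilpotent K := hKp.isNilpotent
    have hKH : K ≤ H := by
      rw [hHF]
      exact Cfsg.Agent.Lib.Helper1.le_fittingSubgroup hKn hKnil
    have hdvd : Nat.card K ∣ 32 := by
      rw [← h32]; exact Subgroup.card_dvd_of_le hKH
    have h5K : 5 ∣ Nat.card K := by
      rw [hKcard]; exact P5.dvd_card_of_dvd_card h5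
    have : 5 ∣ 32 := h5K.trans hdvd
    omega
  have hCp : IsPGroup 2 C := by
    rcases nat_aux1 _ hC20 h5 with h | h | h
    · exact IsPGroup.of_card h
    · exact IsPGroup.of_card h
    · exact IsPGroup.of_card h
  exact Cfsg.Agent.Lib.Helper1.le_pCore hCn hCp

end Centralizer


/-- Let G be a finite group of order 320 = 64·5 whose largest normal 2-subgroup H = O₂(G) equals the Fitting subgroup F(G) and is extraspecial of order 32 containing no elementary abelian subgroup of order 8 (so H is the central product of a quaternion group and a dihedral group of order 8). If T is an involution of G outside H whose centralizer in H contains an elementary abelian subgroup of order 4, then C_H(T) itself is elementary abelian of order 4. -/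
theorem result {G : Type*} [Group G] [Finite G]
    (hG : Nat.card G = 320) (hHF : Cfsg.pCore 2 G = Cfsg.fittingSubgroup G)
    (hex : Cfsg.IsExtraspecial 2 ↥(Cfsg.pCore 2 G)) (h32 : Nat.card ↥(Cfsg.pCore 2 G) = 32)
    (hminus : ∀ A : Subgroup G, A ≤ Cfsg.pCore 2 G → Cfsg.IsElementaryAbelian 2 A → Nat.card ↥A ≤ 4)
    (T : G) (hT : orderOf T = 2) (hTH : T ∉ Cfsg.pCore 2 G)
    (V : Subgroup G) (hV : V ≤ Cfsg.pCore 2 G ⊓ Subgroup.centralizer ({T} : Set G)) (hV4 : Nat.card ↥V = 4) (hVe : Cfsg.IsElementaryAbelian 2 V) :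
    Nat.card ↥(Cfsg.pCore 2 G ⊓ Subgroup.centralizer ({T} : Set G)) = 4 ∧
      Cfsg.IsElementaryAbelian 2 (Cfsg.pCore 2 G ⊓ Subgroup.centralizer ({T} : Set G)) := by
  classical
  have hL1 : Nat.card ↥(Cfsg.pCore 2 G ⊓ Subgroup.centralizer (Cfsg.pCore 2 G : Set G)) ≤ 2 →
      Subgroup.centralizer (Cfsg.pCore 2 G : Set G) ≤ Cfsg.pCore 2 G :=
    centralizer_le hG hHF h32
  set H := Cfsg.pCore 2 G with hHdef
  haveI hHn : H.Normal := Cfsg.Agent.Lib.Helper1.pCore_normal 2
  obtain ⟨z, hES⟩ := exists_ES hex
  have hcenter : Nat.card (Subgroup.center ↥H) = 2 := hex.2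
  -- transfer `hminus`
  have hminus' : ∀ A : Subgroup ↥H, Cfsg.IsElementaryAbelian 2 A → Nat.card ↥A ≤ 4 := by
    intro A hA
    have hle : A.map H.subtype ≤ H := by
      rintro _ ⟨a, _, rfl⟩; exact a.2
    have hel : Cfsg.IsElementaryAbelian 2 (A.map H.subtype) := by
      haveI := hA.1
      refine ⟨inferInstance, ?_⟩
      rintro _ ⟨a, ha, rfl⟩
      have := hA.2 a ha
      rw [← map_pow, this, map_one]
    have := hminus _ hle hel
    rwa [Subgroup.card_map_of_injective H.subtype_injective] at this
  -- the centralizer of `H` lies in `H`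
  have hZ : Nat.card ↥(H ⊓ Subgroup.centralizer (H : Set G)) ≤ 2 := by
    have : Nat.card ↥(H ⊓ Subgroup.centralizer (H : Set G)) ≤
        ({1, (z : G)} : Finset G).card := by
      apply card_le_finset
      intro a ha
      have haH : a ∈ H := ha.1
      have hc : ∀ y : ↥H, y * ⟨a, haH⟩ = ⟨a, haH⟩ * y := by
        intro y
        apply Subtype.ext
        exact (Subgroup.mem_centralizer_iff.mp ha.2) y.1 y.2
      rcases hES.cent _ hc with h' | h'
      · have : a = 1 := congrArg Subtype.val h'
        simp [this]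
      · have : a = z.1 := congrArg Subtype.val h'
        simp [this]
    exact this.trans Finset.card_le_two
  have hCH := hL1 hZ
  let κ : G →* MulAut ↥H := MulAut.conjNormal
  have hκ : ∀ (y : G) (x : ↥H), ((κ y x : ↥H) : G) = y * x * y⁻¹ :=
    fun y x => MulAut.conjNormal_apply y x
  have hker : ∀ y : G, (∀ A : Sig ↥H, κ y • A = A) → y ∈ H := by
    intro y hy
    obtain ⟨q, hq⟩ := mem_range_conj_of_fix hES h32 hminus' hcenter (κ y) hy
    have hmem : (q : G)⁻¹ * y ∈ Subgroup.centralizer (H : Set G) := by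
      rw [Subgroup.mem_centralizer_iff]
      intro x hx
      have h1 : ((MulAut.conj q) ⟨x, hx⟩ : ↥H) = κ y ⟨x, hx⟩ := by rw [hq]
      have h2 := congrArg Subtype.val h1
      rw [hκ, MulAut.conj_apply] at h2
      simp only [Subgroup.coe_mul, Subgroup.coe_inv] at h2
      calc x * ((q : G)⁻¹ * y) = (q : G)⁻¹ * ((q : G) * x * (q : G)⁻¹) * y := by group
        _ = (q : G)⁻¹ * (y * x * y⁻¹) * y := by rw [h2]
        _ = (q : G)⁻¹ * y * x := by group
    have h3 := hCH hmem
    have hq' : (q : G) ∈ H := q.2
    have : y = (q : G) * ((q : G)⁻¹ * y) := by group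
    rw [this]; exact mul_mem hq' h3
  let π : G →* Equiv.Perm (Sig ↥H) := (MulAction.toPermHom (MulAut ↥H) (Sig ↥H)).comp κ
  have hπ : ∀ (y : G) (A : Sig ↥H), π y A = κ y • A := fun y A => rfl
  have hπ1 : ∀ y : G, π y = 1 → y ∈ H := by
    intro y hy
    apply hker
    intro A
    rw [← hπ, hy]; rfl
  have hHπ : ∀ y ∈ H, π y = 1 := by
    intro y hy
    apply Equiv.Perm.ext
    intro A
    rw [hπ]
    have : κ y = MulAut.conj (⟨y, hy⟩ : ↥H) := by
      ext x
      rw [hκ, MulAut.conj_apply]; rfl
    rw [this, inner_smul hES]; rfl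
  have : Fact (Nat.Prime 5) := ⟨by norm_num⟩
  obtain ⟨g, hg⟩ := exists_prime_orderOf_dvd_card' (G := G) 5 (by rw [hG]; norm_num)
  have hgH : g ∉ H := by
    intro hgH
    have := Subgroup.orderOf_dvd_natCard H hgH
    rw [hg, h32] at this
    omega
  have hΩ := card_sig hES h32 hminus'
  haveI : Finite (Sig ↥H) := Nat.finite_of_card_ne_zero (by omega)
  have hc5 : (π g) ^ 5 = 1 := by rw [← map_pow, ← hg, pow_orderOf_eq_one, map_one]
  have hc1 : π g ≠ 1 := fun h => hgH (hπ1 g h)
  have hs1 : π T ≠ 1 := fun h => hTH (hπ1 T h)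
  -- `H ⊔ ⟨g⟩` has index at most two
  set N := H ⊔ Subgroup.zpowers g with hN
  have hHN : H ≤ N := le_sup_left
  have hgN : g ∈ N := (le_sup_right : Subgroup.zpowers g ≤ N) (Subgroup.mem_zpowers g)
  have h32N : 32 ∣ Nat.card N := by rw [← h32]; exact Subgroup.card_dvd_of_le hHN
  have h5N : 5 ∣ Nat.card N := by rw [← hg]; exact Subgroup.orderOf_dvd_natCard N hgN
  have h160 : 160 ∣ Nat.card N := by
    have hcop : Nat.Coprime 32 5 := by norm_num
    exact hcop.mul_dvd_of_dvd_of_dvd h32N h5N
  have hidx := Subgroup.card_mul_index N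
  rw [hG] at hidx
  have hTg : T * g * T⁻¹ ∈ N := by
    obtain ⟨m, hm⟩ := h160
    have hi : N.index ∣ 2 := by
      rw [hm] at hidx
      have : m * N.index = 2 := by
        have h' : 160 * (m * N.index) = 160 * 2 := by rw [← mul_assoc, hidx]
        exact Nat.eq_of_mul_eq_mul_left (by norm_num) h'
      exact Dvd.intro_left m this
    rcases (Nat.dvd_prime Nat.prime_two).mp hi with hi | hi
    · rw [Subgroup.index_eq_one] at hi; rw [hi]; exact Subgroup.mem_top _
    · have hNn : N.Normal := Subgroup.normal_of_index_eq_two hi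
      exact hNn.conj_mem g hgN T
  have hNle : N ≤ (Subgroup.zpowers (π g)).comap π := by
    apply sup_le
    · intro y hy
      rw [Subgroup.mem_comap, hHπ y hy]; exact one_mem _
    · rw [Subgroup.zpowers_le, Subgroup.mem_comap]; exact Subgroup.mem_zpowers _
  have hn : π T * π g * (π T)⁻¹ ∈ Subgroup.zpowers (π g) := by
    have := hNle hTg
    rw [Subgroup.mem_comap, map_mul, map_mul, map_inv] at this
    exact this
  have hfix : ∀ A B : Sig ↥H, κ T • A = A → κ T • B = B → A = B := by
    intro A B hA hB
    exact fixed_unique hΩ (π g) (π T) hc5 hc1 hs1 hn A B hA hB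
  have hTT : T * T = 1 := by rw [← pow_two, ← hT, pow_orderOf_eq_one]
  have htt : ∀ x : ↥H, κ T (κ T x) = x := by
    intro x
    have : κ T * κ T = 1 := by rw [← map_mul, hTT, map_one]
    calc κ T (κ T x) = (κ T * κ T) x := rfl
      _ = x := by rw [this]; rfl
  obtain ⟨e, heV, he1, hez⟩ : ∃ e ∈ V, e ≠ 1 ∧ e ≠ (z : G) := by
    by_contra hcon
    push Not at hcon
    have : Nat.card V ≤ ({1, (z : G)} : Finset G).card := by
      apply card_le_finset
      intro a ha
      simp only [Finset.mem_insert, Finset.mem_singleton]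
      by_cases ha1 : a = 1
      · exact Or.inl ha1
      · exact Or.inr (hcon a ha ha1)
    have h2 : ({1, (z : G)} : Finset G).card ≤ 2 := Finset.card_le_two
    omega
  have heHC := hV heV
  have heH : e ∈ H := heHC.1
  have heT : e * T = T * e := Subgroup.mem_centralizer_singleton_iff.mp heHC.2
  have hee : e * e = 1 := by rw [← pow_two]; exact hVe.2 e heV
  have hfixed : ∀ (a : G) (ha : a ∈ H), a * T = T * a → κ T ⟨a, ha⟩ = ⟨a, ha⟩ := by
    intro a ha hc
    apply Subtype.ext
    rw [hκ]
    show T * a * T⁻¹ = a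
    rw [← hc, mul_assoc, mul_inv_cancel, mul_one]
  have hmain : ∀ a ∈ H ⊓ Subgroup.centralizer ({T} : Set G),
      a ∈ ({1, (z : G), e, e * z} : Finset G) := by
    intro a ha
    have haH : a ∈ H := ha.1
    have haT := Subgroup.mem_centralizer_singleton_iff.mp ha.2
    have := fixed_cases hES h32 hminus' (κ T) htt hfix (e := ⟨e, heH⟩) (hfixed e heH heT)
      (Subtype.ext hee) (fun h => he1 (congrArg Subtype.val h))
      (fun h => hez (congrArg Subtype.val h)) ⟨a, haH⟩ (hfixed a haH haT)
    simp only [Finset.mem_insert, Finset.mem_singleton]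
    rcases this with h' | h' | h' | h'
    · exact Or.inl (congrArg Subtype.val h')
    · exact Or.inr (Or.inl (congrArg Subtype.val h'))
    · exact Or.inr (Or.inr (Or.inl (congrArg Subtype.val h')))
    · exact Or.inr (Or.inr (Or.inr (congrArg Subtype.val h')))
  have hcard : Nat.card ↥(H ⊓ Subgroup.centralizer ({T} : Set G)) ≤ 4 :=
    (card_le_finset _ _ hmain).trans Finset.card_le_four
  have hEq : V = H ⊓ Subgroup.centralizer ({T} : Set G) :=
    Subgroup.eq_of_le_of_card_ge hV (by rw [hV4]; exact hcard)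
  rw [← hEq]
  exact ⟨hV4, hVe⟩

end Cfsg.Agent.S4405
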