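import Cfsg.Statements.S4406
import Mathlib
-- import your own Cfsg.Agent.* helpers here

set_option autoImplicit false
open Cfsg

namespace Cfsg.Agent.S4406

open Pointwise

/-- The alternating group of degree four. -/
abbrev A4 := alternatingGroup (Fin 4)

set_option maxRecDepth 100000 in
theorem pow_four_A4 : ∀ g : A4, g ^ 4 = 1 → g ^ 2 = 1 := by decide

set_option maxRecDepth 100000 in
theorem pow_twelve_A4 : ∀ g : A4, g ^ 12 = 1 := by decide

/-- conjugation type "forward" -/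
def Fwd (a x y : A4) : Prop := a * x * a⁻¹ = y ∧ a * y * a⁻¹ = x * y

/-- conjugation type "reverse" -/
def Rev (a x y : A4) : Prop := a * x * a⁻¹ = x * y ∧ a * y * a⁻¹ = x

instance decFwd (a x y : A4) : Decidable (Fwd a x y) := by unfold Fwd; infer_instance
instance decRev (a x y : A4) : Decidable (Rev a x y) := by unfold Rev; infer_instance

set_option synthInstance.maxSize 2000 in
set_option maxRecDepth 1000000 in
theorem type_A4 : ∀ a x y : A4, a ^ 3 = 1 → a ≠ 1 → x ^ 2 = 1 → y ^ 2 = 1 → x ≠ 1 → y ≠ 1 → x ≠ y →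
    (Fwd a x y ∧ Rev a⁻¹ x y) ∨ (Rev a x y ∧ Fwd a⁻¹ x y) := by decide

/-- membership in the four-element set `{1, x, y, x * y}` -/
def InFour (x y g : A4) : Prop := g = 1 ∨ g = x ∨ g = y ∨ g = x * y

instance decInFour (x y g : A4) : Decidable (InFour x y g) := by unfold InFour; infer_instance

set_option synthInstance.maxSize 2000 in
set_option maxRecDepth 1000000 in
theorem four_A4' : ∀ x y g : A4, x ^ 2 = 1 → y ^ 2 = 1 → g ^ 2 = 1 → x ≠ 1 → y ≠ 1 → x ≠ y →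
    InFour x y g := by decide

theorem four_A4 (x y g : A4) (hx : x ^ 2 = 1) (hy : y ^ 2 = 1) (hg : g ^ 2 = 1) (hx1 : x ≠ 1)
    (hy1 : y ≠ 1) (hxy : x ≠ y) : g = 1 ∨ g = x ∨ g = y ∨ g = x * y :=
  four_A4' x y g hx hy hg hx1 hy1 hxy

theorem sq_eq_one_of_two_pow (g : A4) (k : ℕ) (h : g ^ (2 ^ k) = 1) : g ^ 2 = 1 := by
  apply pow_four_A4
  have h1 : orderOf g ∣ 2 ^ k := orderOf_dvd_of_pow_eq_one h
  have h2 : orderOf g ∣ 4 * 3 := orderOf_dvd_of_pow_eq_one (pow_twelve_A4 g)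
  have hc : Nat.Coprime (orderOf g) 3 :=
    Nat.Coprime.coprime_dvd_left h1 (Nat.Coprime.pow_left k (by norm_num))
  exact orderOf_dvd_iff_pow_eq_one.1 (Nat.Coprime.dvd_of_dvd_mul_right hc h2)

/-- a fixed element of order three -/
def c3 : A4 := ⟨Equiv.swap (0 : Fin 4) 1 * Equiv.swap 1 2, by
  rw [Equiv.Perm.mem_alternatingGroup]; decide⟩

theorem c3_pow : c3 ^ 3 = 1 := by decide
theorem c3_ne : c3 ≠ 1 := by decide

theorem isPGroup_zpowers_of_pow_three {P : Type*} [Group P] (t : P) (h3 : t ^ 3 = 1) (hne : t ≠ 1) :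
    IsPGroup 3 (Subgroup.zpowers t) := by
  have : Fact (Nat.Prime 3) := ⟨Nat.prime_three⟩
  apply IsPGroup.of_card (n := 1)
  rw [Nat.card_zpowers, pow_one]
  exact orderOf_eq_prime h3 hne

/-- Every Sylow 3-subgroup of `A4 × A4` contains a conjugate of any given element of order 3. -/
theorem exists_conj_mem_sylow (Q : Sylow 3 (A4 × A4)) (t : A4 × A4) (h3 : t ^ 3 = 1) (hne : t ≠ 1) :
    ∃ g : A4 × A4, g * t * g⁻¹ ∈ (Q : Subgroup (A4 × A4)) := by
  have : Fact (Nat.Prime 3) := ⟨Nat.prime_three⟩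
  obtain ⟨Q', hQ'⟩ := (isPGroup_zpowers_of_pow_three t h3 hne).exists_le_sylow
  obtain ⟨g, hg⟩ := MulAction.exists_smul_eq (A4 × A4) Q' Q
  refine ⟨g, ?_⟩
  rw [← hg, Sylow.coe_subgroup_smul]
  have : g * t * g⁻¹ = MulAut.conj g • t := by simp [MulAut.smul_def]
  rw [this]
  exact Subgroup.smul_mem_pointwise_smul _ _ _ (hQ' (Subgroup.mem_zpowers t))

theorem exists_left (Q : Sylow 3 (A4 × A4)) :
    ∃ a : A4, a ^ 3 = 1 ∧ a ≠ 1 ∧ ((a, 1) : A4 × A4) ∈ (Q : Subgroup (A4 × A4)) := by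
  obtain ⟨g, hg⟩ := exists_conj_mem_sylow Q (c3, 1) (by decide) (by decide)
  refine ⟨g.1 * c3 * g.1⁻¹, ?_, ?_, ?_⟩
  · rw [conj_pow, c3_pow, mul_one, mul_inv_cancel]
  · intro h
    apply c3_ne
    have : c3 = g.1⁻¹ * (g.1 * c3 * g.1⁻¹) * g.1 := by group
    rw [this, h]; group
  · have : g * (c3, 1) * g⁻¹ = (g.1 * c3 * g.1⁻¹, 1) := by
      ext <;> simp
    rw [← this]; exact hg

theorem exists_right (Q : Sylow 3 (A4 × A4)) :
    ∃ b : A4, b ^ 3 = 1 ∧ b ≠ 1 ∧ ((1, b) : A4 × A4) ∈ (Q : Subgroup (A4 × A4)) := by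
  obtain ⟨g, hg⟩ := exists_conj_mem_sylow Q (1, c3) (by decide) (by decide)
  refine ⟨g.2 * c3 * g.2⁻¹, ?_, ?_, ?_⟩
  · rw [conj_pow, c3_pow, mul_one, mul_inv_cancel]
  · intro h
    apply c3_ne
    have : c3 = g.2⁻¹ * (g.2 * c3 * g.2⁻¹) * g.2 := by group
    rw [this, h]; group
  · have : g * (1, c3) * g⁻¹ = (1, g.2 * c3 * g.2⁻¹) := by
      ext <;> simp
    rw [← this]; exact hg

/-- The main combinatorial step: given `(a,1), (1,b) ∈ Q` of order three and a "graph" four-group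
`B`, one of `(a,b)`, `(a,b⁻¹)` normalizes `B`. -/
theorem exists_normalizing (B : Subgroup (A4 × A4))
    (hsq : ∀ g ∈ B, g.1 ^ 2 = 1 ∧ g.2 ^ 2 = 1)
    (h1 : ∀ g ∈ B, g.2 = 1 → g = 1) (h2 : ∀ g ∈ B, g.1 = 1 → g = 1)
    (x y : A4 × A4) (hx : x ∈ B) (hy : y ∈ B) (hx1 : x ≠ 1) (hy1 : y ≠ 1) (hxy : x ≠ y)
    (a b : A4) (ha3 : a ^ 3 = 1) (ha : a ≠ 1) (hb3 : b ^ 3 = 1) (hb : b ≠ 1) :
    ∃ b' : A4, (b' = b ∨ b' = b⁻¹) ∧ ∀ g ∈ B, ((a, b') : A4 × A4) * g * ((a, b') : A4 × A4)⁻¹ ∈ B := by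
  have hx1' : x.1 ≠ 1 := fun h => hx1 (h2 x hx h)
  have hx2' : x.2 ≠ 1 := fun h => hx1 (h1 x hx h)
  have hy1' : y.1 ≠ 1 := fun h => hy1 (h2 y hy h)
  have hy2' : y.2 ≠ 1 := fun h => hy1 (h1 y hy h)
  have hne1 : x.1 ≠ y.1 := by
    intro h
    apply hxy
    have hm : x⁻¹ * y ∈ B := B.mul_mem (B.inv_mem hx) hy
    have : x⁻¹ * y = 1 := h2 _ hm (by simp [h])
    exact inv_mul_eq_one.1 this
  have hne2 : x.2 ≠ y.2 := by
    intro h
    apply hxy
    have hm : x⁻¹ * y ∈ B := B.mul_mem (B.inv_mem hx) hy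
    have : x⁻¹ * y = 1 := h1 _ hm (by simp [h])
    exact inv_mul_eq_one.1 this
  -- every element of B is one of 1, x, y, x * y
  have hB : ∀ g ∈ B, g = 1 ∨ g = x ∨ g = y ∨ g = x * y := by
    intro g hg
    rcases four_A4 x.1 y.1 g.1 (hsq x hx).1 (hsq y hy).1 (hsq g hg).1 hx1' hy1' hne1 with h | h | h | h
    · exact Or.inl (h2 g hg h)
    · right; left
      have hm : x⁻¹ * g ∈ B := B.mul_mem (B.inv_mem hx) hg
      have : x⁻¹ * g = 1 := h2 _ hm (by simp [h])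
      exact (inv_mul_eq_one.1 this).symm
    · right; right; left
      have hm : y⁻¹ * g ∈ B := B.mul_mem (B.inv_mem hy) hg
      have : y⁻¹ * g = 1 := h2 _ hm (by simp [h])
      exact (inv_mul_eq_one.1 this).symm
    · right; right; right
      have hm : (x * y)⁻¹ * g ∈ B := B.mul_mem (B.inv_mem (B.mul_mem hx hy)) hg
      have : (x * y)⁻¹ * g = 1 := h2 _ hm (by simp [h])
      exact (inv_mul_eq_one.1 this).symm
  -- it suffices to control the conjugates of x and y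
  have key : ∀ r : A4 × A4, r * x * r⁻¹ ∈ B → r * y * r⁻¹ ∈ B → ∀ g ∈ B, r * g * r⁻¹ ∈ B := by
    intro r hrx hry g hg
    rcases hB g hg with h | h | h | h
    · rw [h]; simp [B.one_mem]
    · rw [h]; exact hrx
    · rw [h]; exact hry
    · rw [h]
      have : r * (x * y) * r⁻¹ = (r * x * r⁻¹) * (r * y * r⁻¹) := by group
      rw [this]; exact B.mul_mem hrx hry
  have hbi3 : b⁻¹ ^ 3 = 1 := by rw [inv_pow, hb3, inv_one]
  have hbi : b⁻¹ ≠ 1 := by simpa using hb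
  have hxymem : x * y ∈ B := B.mul_mem hx hy
  rcases type_A4 a x.1 y.1 ha3 ha (hsq x hx).1 (hsq y hy).1 hx1' hy1' hne1 with ⟨hA, -⟩ | ⟨hA, -⟩
  · -- a is forward on the first coordinates
    rcases type_A4 b x.2 y.2 hb3 hb (hsq x hx).2 (hsq y hy).2 hx2' hy2' hne2 with ⟨hBf, -⟩ | ⟨-, hBf⟩
    · refine ⟨b, Or.inl rfl, key _ ?_ ?_⟩
      · have : ((a, b) : A4 × A4) * x * ((a, b) : A4 × A4)⁻¹ = y := by
          exact Prod.ext (by simpa using hA.1) (by simpa using hBf.1)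
        rw [this]; exact hy
      · have : ((a, b) : A4 × A4) * y * ((a, b) : A4 × A4)⁻¹ = x * y := by
          exact Prod.ext (by simpa using hA.2) (by simpa using hBf.2)
        rw [this]; exact hxymem
    · refine ⟨b⁻¹, Or.inr rfl, key _ ?_ ?_⟩
      · have : ((a, b⁻¹) : A4 × A4) * x * ((a, b⁻¹) : A4 × A4)⁻¹ = y := by
          exact Prod.ext (by simpa using hA.1) (by simpa using hBf.1)
        rw [this]; exact hy
      · have : ((a, b⁻¹) : A4 × A4) * y * ((a, b⁻¹) : A4 × A4)⁻¹ = x * y := by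
          exact Prod.ext (by simpa using hA.2) (by simpa using hBf.2)
        rw [this]; exact hxymem
  · -- a is reverse on the first coordinates
    rcases type_A4 b x.2 y.2 hb3 hb (hsq x hx).2 (hsq y hy).2 hx2' hy2' hne2 with ⟨-, hBr⟩ | ⟨hBr, -⟩
    · refine ⟨b⁻¹, Or.inr rfl, key _ ?_ ?_⟩
      · have : ((a, b⁻¹) : A4 × A4) * x * ((a, b⁻¹) : A4 × A4)⁻¹ = x * y := by
          exact Prod.ext (by simpa using hA.1) (by simpa using hBr.1)
        rw [this]; exact hxymem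
      · have : ((a, b⁻¹) : A4 × A4) * y * ((a, b⁻¹) : A4 × A4)⁻¹ = x := by
          exact Prod.ext (by simpa using hA.2) (by simpa using hBr.2)
        rw [this]; exact hx
    · refine ⟨b, Or.inl rfl, key _ ?_ ?_⟩
      · have : ((a, b) : A4 × A4) * x * ((a, b) : A4 × A4)⁻¹ = x * y := by
          exact Prod.ext (by simpa using hA.1) (by simpa using hBr.1)
        rw [this]; exact hxymem
      · have : ((a, b) : A4 × A4) * y * ((a, b) : A4 × A4)⁻¹ = x := by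
          exact Prod.ext (by simpa using hA.2) (by simpa using hBr.2)
        rw [this]; exact hx

/-- In the direct product P = A₄ × A₄, let X be the Sylow 2-subgroup, X₁ and X₂ its intersections with the two direct factors, Q a Sylow 3-subgroup and Q₁, Q₂ its intersections with the two factors. Then every subgroup B of X of order 4 either meets X₁ or X₂ nontrivially, or is normalized by one of the two subgroups of Q of order 3 other than Q₁ and Q₂. -/
theorem result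
    (X : Sylow 2 (↥(alternatingGroup (Fin 4)) × ↥(alternatingGroup (Fin 4))))
    (Q : Sylow 3 (↥(alternatingGroup (Fin 4)) × ↥(alternatingGroup (Fin 4))))
    (B : Subgroup (↥(alternatingGroup (Fin 4)) × ↥(alternatingGroup (Fin 4)))) (hBX : B ≤ (X : Subgroup _)) (hB4 : Nat.card ↥B = 4) :
    B ⊓ ((X : Subgroup _) ⊓ Subgroup.prod ⊤ ⊥) ≠ ⊥ ∨ B ⊓ ((X : Subgroup _) ⊓ Subgroup.prod ⊥ ⊤) ≠ ⊥ ∨
      ∃ R : Subgroup (↥(alternatingGroup (Fin 4)) × ↥(alternatingGroup (Fin 4))), R ≤ (Q : Subgroup _) ∧ Nat.card ↥R = 3 ∧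
        R ≠ (Q : Subgroup _) ⊓ Subgroup.prod ⊤ ⊥ ∧ R ≠ (Q : Subgroup _) ⊓ Subgroup.prod ⊥ ⊤ ∧ R ≤ Subgroup.normalizer (B : Set _) := by
  by_cases h1 : B ⊓ ((X : Subgroup _) ⊓ Subgroup.prod ⊤ ⊥) = ⊥
  swap
  · exact Or.inl h1
  by_cases h2 : B ⊓ ((X : Subgroup _) ⊓ Subgroup.prod ⊥ ⊤) = ⊥
  swap
  · exact Or.inr (Or.inl h2)
  right; right
  have h1' : ∀ g ∈ B, g.2 = 1 → g = 1 := by
    intro g hg hg2
    have : g ∈ B ⊓ ((X : Subgroup _) ⊓ Subgroup.prod ⊤ ⊥) :=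
      Subgroup.mem_inf.2 ⟨hg, Subgroup.mem_inf.2 ⟨hBX hg,
        Subgroup.mem_prod.2 ⟨Subgroup.mem_top _, Subgroup.mem_bot.2 hg2⟩⟩⟩
    rw [h1] at this
    exact Subgroup.mem_bot.1 this
  have h2' : ∀ g ∈ B, g.1 = 1 → g = 1 := by
    intro g hg hg1
    have : g ∈ B ⊓ ((X : Subgroup _) ⊓ Subgroup.prod ⊥ ⊤) :=
      Subgroup.mem_inf.2 ⟨hg, Subgroup.mem_inf.2 ⟨hBX hg,
        Subgroup.mem_prod.2 ⟨Subgroup.mem_bot.2 hg1, Subgroup.mem_top _⟩⟩⟩
    rw [h2] at this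
    exact Subgroup.mem_bot.1 this
  have hsq : ∀ g ∈ B, g.1 ^ 2 = 1 ∧ g.2 ^ 2 = 1 := by
    intro g hg
    obtain ⟨k, hk⟩ := X.isPGroup' ⟨g, hBX hg⟩
    have hk' : g ^ (2 ^ k) = 1 := by
      have := congrArg Subtype.val hk
      simpa using this
    constructor
    · apply sq_eq_one_of_two_pow _ k
      have := congrArg Prod.fst hk'
      simpa using this
    · apply sq_eq_one_of_two_pow _ k
      have := congrArg Prod.snd hk'
      simpa using this
  -- pick x, y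
  have hnc : (B : Set (A4 × A4)).ncard = 4 := by
    rw [← Nat.card_coe_set_eq]; exact hB4
  obtain ⟨x, hx, hx1⟩ : ∃ x ∈ (B : Set (A4 × A4)), x ∉ ({1} : Set (A4 × A4)) := by
    refine Set.exists_mem_notMem_of_ncard_lt_ncard ?_ (Set.toFinite _)
    rw [hnc, Set.ncard_singleton]; norm_num
  obtain ⟨y, hy, hy1⟩ : ∃ y ∈ (B : Set (A4 × A4)), y ∉ ({1, x} : Set (A4 × A4)) := by
    refine Set.exists_mem_notMem_of_ncard_lt_ncard ?_ (Set.toFinite _)
    rw [hnc]
    calc ({1, x} : Set (A4 × A4)).ncard ≤ ({x} : Set (A4 × A4)).ncard + 1 := Set.ncard_insert_le _ _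
      _ = 2 := by rw [Set.ncard_singleton]
      _ < 4 := by norm_num
  have hx1' : x ≠ 1 := by simpa using hx1
  have hy1' : y ≠ 1 := by
    intro h; apply hy1; simp [h]
  have hxy : x ≠ y := by
    intro h; apply hy1; simp [h]
  obtain ⟨a, ha3, ha, haQ⟩ := exists_left Q
  obtain ⟨b, hb3, hb, hbQ⟩ := exists_right Q
  obtain ⟨b', hb', hnorm⟩ := exists_normalizing B hsq h1' h2' x y hx hy hx1' hy1' hxy a b ha3 ha hb3 hb
  have hb'3 : b' ^ 3 = 1 := by
    rcases hb' with h | h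
    · rw [h]; exact hb3
    · rw [h, inv_pow, hb3, inv_one]
  have hb'1 : b' ≠ 1 := by
    rcases hb' with h | h
    · rw [h]; exact hb
    · rw [h]; simpa using hb
  have hb'Q : ((1, b') : A4 × A4) ∈ (Q : Subgroup (A4 × A4)) := by
    rcases hb' with h | h
    · rw [h]; exact hbQ
    · rw [h]
      have : ((1, b⁻¹) : A4 × A4) = ((1, b) : A4 × A4)⁻¹ := by ext <;> simp
      rw [this]; exact Subgroup.inv_mem _ hbQ
  have hrQ : ((a, b') : A4 × A4) ∈ (Q : Subgroup (A4 × A4)) := by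
    have : ((a, b') : A4 × A4) = (a, 1) * (1, b') := by ext <;> simp
    rw [this]; exact Subgroup.mul_mem _ haQ hb'Q
  have hr3 : ((a, b') : A4 × A4) ^ 3 = 1 := by
    exact Prod.ext (by simpa using ha3) (by simpa using hb'3)
  have hrne : ((a, b') : A4 × A4) ≠ 1 := by
    intro h
    exact ha (congrArg Prod.fst h)
  refine ⟨Subgroup.zpowers ((a, b') : A4 × A4), ?_, ?_, ?_, ?_, ?_⟩
  · rw [Subgroup.zpowers_le]; exact hrQ
  · rw [Nat.card_zpowers]
    have : Fact (Nat.Prime 3) := ⟨Nat.prime_three⟩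
    exact orderOf_eq_prime hr3 hrne
  · intro h
    have hm : ((a, b') : A4 × A4) ∈ Subgroup.zpowers ((a, b') : A4 × A4) := Subgroup.mem_zpowers _
    rw [h] at hm
    have := (Subgroup.mem_prod.1 hm.2).2
    exact hb'1 (Subgroup.mem_bot.1 this)
  · intro h
    have hm : ((a, b') : A4 × A4) ∈ Subgroup.zpowers ((a, b') : A4 × A4) := Subgroup.mem_zpowers _
    rw [h] at hm
    have := (Subgroup.mem_prod.1 hm.2).1
    exact ha (Subgroup.mem_bot.1 this)
  · rw [Subgroup.zpowers_le]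
    have : Finite (B : Set (A4 × A4)) := inferInstanceAs (Finite B)
    exact Subgroup.mem_normalizer_fintype (fun n hn => hnorm n hn)

end Cfsg.Agent.S4406
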