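import Cfsg.Statements.S4407
import Mathlib

set_option autoImplicit false
open Cfsg

namespace Cfsg.Agent.S4407

open DihedralGroup

/-- internal structure of the dihedral group of order 8 around a non-central involution -/
theorem d8_struct : ∀ s : DihedralGroup 4, s * s = 1 → s ≠ 1 → s ≠ r 2 →
    ∃ t : DihedralGroup 4, t * t = 1 ∧ t * s * t⁻¹ = s * r 2 ∧ t ≠ 1 ∧ t ≠ r 2 ∧ t ≠ s ∧
      t ≠ s * r 2 ∧
      ∀ x : DihedralGroup 4, x = 1 ∨ x = r 2 ∨ x = s ∨ x = s * r 2 ∨ x = t ∨ x = t * r 2 ∨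
        x = t * s ∨ x = t * s * r 2 := by decide

theorem d8_center : ∀ x : DihedralGroup 4, x * r 2 = r 2 * x := by decide

section Grp

variable {S : Type*} [Group S]

theorem mem_zpowers_three {a x : S} (ha3 : a ^ 3 = 1) (hx : x ∈ Subgroup.zpowers a) :
    x = 1 ∨ x = a ∨ x = a⁻¹ := by
  obtain ⟨n, rfl⟩ := Subgroup.mem_zpowers_iff.mp hx
  have h3 : a ^ (3 : ℤ) = 1 := by exact_mod_cast ha3
  rw [zpow_eq_zpow_emod n h3]
  have h0 : 0 ≤ n % 3 := Int.emod_nonneg _ (by norm_num)
  have h1 : n % 3 < 3 := Int.emod_lt_of_pos _ (by norm_num)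
  have hinv : a⁻¹ = a ^ (2 : ℤ) := by
    rw [inv_eq_iff_mul_eq_one]
    rw [← h3]; group
  interval_cases h : n % 3
  · left; simp
  · right; left; simp
  · right; right; rw [hinv]

theorem closure_pair_eq [Finite S] (A : Subgroup S) (hA9 : Nat.card A = 9) {a b : S} (ha : a ∈ A) (hb : b ∈ A)
    (ha1 : a ≠ 1) (ha3 : a ^ 3 = 1) (hb' : b ∉ Subgroup.zpowers a) :
    Subgroup.closure {a, b} = A := by
  set H := Subgroup.closure ({a, b} : Set S) with hH
  have hHA : H ≤ A := by
    rw [hH, Subgroup.closure_le]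
    intro x hx
    rcases hx with rfl | rfl
    · exact ha
    · exact hb
  have haH : a ∈ H := Subgroup.subset_closure (by simp)
  have hbH : b ∈ H := Subgroup.subset_closure (by simp)
  have hzH : Subgroup.zpowers a ≤ H := by
    rw [Subgroup.zpowers_le]; exact haH
  have hcz : Nat.card (Subgroup.zpowers a) = 3 := by
    rw [Nat.card_zpowers]
    exact orderOf_eq_prime ha3 ha1
  have hd1 : Nat.card H ∣ 9 := hA9 ▸ Subgroup.card_dvd_of_le hHA
  have hd2 : 3 ∣ Nat.card H := hcz ▸ Subgroup.card_dvd_of_le hzH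
  have hne : Nat.card H ≠ 3 := by
    intro h3
    have : Subgroup.zpowers a = H :=
      Subgroup.eq_of_le_of_card_ge hzH (by rw [hcz, h3])
    exact hb' (this ▸ hbH)
  have h9 : Nat.card H = 9 := by
    have h39 : (9 : ℕ) = 3 ^ 2 := by norm_num
    rw [h39] at hd1
    obtain ⟨k, hk, hk'⟩ := (Nat.dvd_prime_pow Nat.prime_three).mp hd1
    interval_cases k
    · rw [hk'] at hd2; norm_num at hd2
    · exact absurd hk' hne
    · rw [hk']; norm_num
  exact Subgroup.eq_of_le_of_card_ge hHA (by rw [h9, hA9])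


/-- The group-theoretic configuration: `A` elementary abelian of order 9, `X` dihedral of order 8
acting faithfully on `A`, `z` the central involution of `X`. -/
structure Cfg (A X : Subgroup S) (z : S) : Prop where
  comm : ∀ a ∈ A, ∀ b ∈ A, a * b = b * a
  exp3 : ∀ a ∈ A, a ^ 3 = 1
  card9 : Nat.card A = 9
  norm : ∀ x : S, ∀ a ∈ A, x * a * x⁻¹ ∈ A
  faith : ∀ x ∈ X, (∀ a ∈ A, x * a * x⁻¹ = a) → x = 1
  zX : z ∈ X
  z1 : z ≠ 1
  z2 : z * z = 1
  zc : ∀ x ∈ X, x * z = z * x
  ex_s : ∃ s ∈ X, s * s = 1 ∧ s ≠ 1 ∧ s ≠ z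
  ex_r : ∃ r ∈ X, r * r = z
  struct : ∀ s ∈ X, s * s = 1 → s ≠ 1 → s ≠ z →
    ∃ t ∈ X, t * t = 1 ∧ t * s * t⁻¹ = s * z ∧ t ≠ 1 ∧ t ≠ z ∧ t ≠ s ∧ t ≠ s * z ∧
      ∀ x ∈ X, x = 1 ∨ x = z ∨ x = s ∨ x = s * z ∨ x = t ∨ x = t * z ∨ x = t * s ∨ x = t * s * z

theorem eq_one_of_sq_of_cube {a : S} (h2 : a * a = 1) (h3 : a ^ 3 = 1) : a = 1 := by
  have : a ^ 3 = a * a * a := by rw [pow_succ, pow_two]
  rw [this, h2, one_mul] at h3
  exact h3

theorem eq_one_of_eq_inv_of_cube {a : S} (h : a = a⁻¹) (h3 : a ^ 3 = 1) : a = 1 := by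
  apply eq_one_of_sq_of_cube _ h3
  nth_rewrite 1 [h]
  group

variable [Finite S] {A X : Subgroup S} {z : S}

/-- the central involution inverts `A` -/
theorem Cfg.zinv (h : Cfg A X z) : ∀ a ∈ A, z * a * z⁻¹ = a⁻¹ := by
  obtain ⟨r, hrX, hr⟩ := h.ex_r
  have hzinv : z⁻¹ = z := inv_eq_of_mul_eq_one_left h.z2
  -- an element not centralized
  have hex : ∃ a0 ∈ A, z * a0 * z⁻¹ ≠ a0 := by
    by_contra hcon
    push Not at hcon
    exact h.z1 (h.faith z h.zX hcon)
  obtain ⟨a0, ha0, hne⟩ := hex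
  set b0 := z * a0 * z⁻¹ with hb0
  have hb0A : b0 ∈ A := h.norm z a0 ha0
  set d := a0 * b0⁻¹ with hd
  have hdA : d ∈ A := A.mul_mem ha0 (A.inv_mem hb0A)
  have hd1 : d ≠ 1 := by
    intro h1
    apply hne
    have : a0 = b0 := by
      rw [hd, mul_inv_eq_one] at h1
      exact h1
    exact this.symm
  have hzb0 : z * b0 * z⁻¹ = a0 := by
    rw [hb0, hzinv]
    calc z * (z * a0 * z) * z = (z * z) * a0 * (z * z) := by group
      _ = a0 := by rw [h.z2]; group
  have hzd : z * d * z⁻¹ = d⁻¹ := by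
    have e1 : z * d * z⁻¹ = (z * a0 * z⁻¹) * (z * b0 * z⁻¹)⁻¹ := by rw [hd]; group
    rw [e1, hzb0, ← hb0, hd, mul_inv_rev, inv_inv]
  -- the subgroup of inverted elements
  let I : Subgroup S :=
    { carrier := {a | a ∈ A ∧ z * a * z⁻¹ = a⁻¹}
      mul_mem' := by
        rintro a b ⟨haA, ha⟩ ⟨hbA, hb⟩
        refine ⟨A.mul_mem haA hbA, ?_⟩
        have e1 : z * (a * b) * z⁻¹ = (z * a * z⁻¹) * (z * b * z⁻¹) := by group
        rw [e1, ha, hb, mul_inv_rev]
        exact h.comm _ (A.inv_mem haA) _ (A.inv_mem hbA)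
      one_mem' := ⟨A.one_mem, by simp⟩
      inv_mem' := by
        rintro a ⟨haA, ha⟩
        refine ⟨A.inv_mem haA, ?_⟩
        have e1 : z * a⁻¹ * z⁻¹ = (z * a * z⁻¹)⁻¹ := by group
        rw [e1, ha] }
  have hdI : d ∈ I := ⟨hdA, hzd⟩
  set d' := r * d * r⁻¹ with hd'
  have hd'A : d' ∈ A := h.norm r d hdA
  have hrz : r * z = z * r := h.zc r hrX
  have hd'I : d' ∈ I := by
    refine ⟨hd'A, ?_⟩
    have e1 : z * d' * z⁻¹ = r * (z * d * z⁻¹) * r⁻¹ := by
      rw [hd']
      have : z * (r * d * r⁻¹) * z⁻¹ = (z * r) * d * (z * r)⁻¹ := by group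
      rw [this, ← hrz]; group
    rw [e1, hzd, hd']; group
  have hd3 : d ^ 3 = 1 := h.exp3 d hdA
  by_cases hmem : d' ∈ Subgroup.zpowers d
  · exfalso
    have hzd2 : z * d * z⁻¹ = d := by
      have e1 : z * d * z⁻¹ = r * d' * r⁻¹ := by rw [← hr, hd']; group
      rcases mem_zpowers_three hd3 hmem with h1 | h1 | h1
      · exfalso
        apply hd1
        have : d = r⁻¹ * d' * r := by rw [hd']; group
        rw [this, h1]; group
      · rw [e1, h1, ← hd', h1]
      · rw [e1, h1]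
        have : r * d⁻¹ * r⁻¹ = (r * d * r⁻¹)⁻¹ := by group
        rw [this, ← hd', h1, inv_inv]
    apply hd1
    apply eq_one_of_eq_inv_of_cube _ hd3
    exact hzd2.symm.trans hzd
  · have hcl := closure_pair_eq A h.card9 hdA hd'A hd1 hd3 hmem
    have hle : Subgroup.closure {d, d'} ≤ I := by
      rw [Subgroup.closure_le]
      intro x hx
      rcases hx with rfl | rfl
      · exact hdI
      · exact hd'I
    intro a ha
    rw [← hcl] at ha
    exact (hle ha).2

/-- an involution of `X` other than `z` fixes a nontrivial element of `A` -/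
theorem Cfg.fix_of_invol (h : Cfg A X z) {s : S} (hsX : s ∈ X) (hs2 : s * s = 1) (hsz : s ≠ z) :
    ∃ c ∈ A, c ≠ 1 ∧ s * c * s⁻¹ = c := by
  by_contra hcon
  push Not at hcon
  have hsinv : s⁻¹ = s := inv_eq_of_mul_eq_one_left hs2
  have hzinv : z⁻¹ = z := inv_eq_of_mul_eq_one_left h.z2
  have hinv : ∀ a ∈ A, s * a * s⁻¹ = a⁻¹ := by
    intro a ha
    have hbA : s * a * s⁻¹ ∈ A := h.norm s a ha
    have hbA' : s * a * s ∈ A := by rw [hsinv] at hbA; exact hbA
    have hfix : s * (a * (s * a * s⁻¹)) * s⁻¹ = a * (s * a * s⁻¹) := by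
      rw [hsinv]
      calc s * (a * (s * a * s)) * s = (s * a * s) * a * (s * s) := by group
        _ = (s * a * s) * a := by rw [hs2, mul_one]
        _ = a * (s * a * s) := h.comm _ hbA' _ ha
    have := hcon _ (A.mul_mem ha hbA)
    by_contra hne
    exact this (fun h1 => hne (eq_inv_of_mul_eq_one_right h1)) hfix
  have hsz1 : s * z = 1 := by
    apply h.faith _ (X.mul_mem hsX h.zX)
    intro a ha
    have e1 : s * z * a * (s * z)⁻¹ = s * (z * a * z⁻¹) * s⁻¹ := by group
    rw [e1, h.zinv a ha, hinv _ (A.inv_mem ha), inv_inv]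
  apply hsz
  rw [← hzinv]
  exact eq_inv_of_mul_eq_one_left hsz1


/-- `k` is a nontrivial element of `A` centralized by a non-central involution of `X` -/
def Good (A X : Subgroup S) (z k : S) : Prop :=
  k ∈ A ∧ k ≠ 1 ∧ ∃ s ∈ X, s * s = 1 ∧ s ≠ 1 ∧ s ≠ z ∧ s * k * s⁻¹ = k

theorem Cfg.eq_one_of_fix_fix (h : Cfg A X z) {s d : S} (hd : d ∈ A)
    (h1 : s * d * s⁻¹ = d) (h2 : (s * z) * d * (s * z)⁻¹ = d) : d = 1 := by
  apply eq_one_of_eq_inv_of_cube _ (h.exp3 d hd)
  have e1 : (s * z) * d * (s * z)⁻¹ = s * (z * d * z⁻¹) * s⁻¹ := by group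
  rw [e1, h.zinv d hd] at h2
  have e2 : s * d⁻¹ * s⁻¹ = (s * d * s⁻¹)⁻¹ := by group
  rw [e2, h1] at h2
  exact h2.symm

theorem Cfg.candidates (h : Cfg A X z) :
    ∃ c d : S, c ≠ d ∧ c ∈ A ∧ d ∈ A ∧ Good A X z c ∧ Good A X z d ∧ Good A X z (c * d) := by
  obtain ⟨s, hsX, hs2, hs1, hsz⟩ := h.ex_s
  obtain ⟨c, hcA, hc1, hsc⟩ := h.fix_of_invol hsX hs2 hsz
  obtain ⟨t, htX, ht2, hts, ht1, htz, -, -, -⟩ := h.struct s hsX hs2 hs1 hsz
  have htinv : t⁻¹ = t := inv_eq_of_mul_eq_one_left ht2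
  have hzinv : z⁻¹ = z := inv_eq_of_mul_eq_one_left h.z2
  set d := t * c * t⁻¹ with hd
  have hdA : d ∈ A := h.norm t c hcA
  have hd1 : d ≠ 1 := by
    intro h1
    apply hc1
    have : c = t⁻¹ * d * t := by rw [hd]; group
    rw [this, h1]; group
  have hszd : (s * z) * d * (s * z)⁻¹ = d := by
    rw [← hts, hd]
    have : t * s * t⁻¹ * (t * c * t⁻¹) * (t * s * t⁻¹)⁻¹ = t * (s * c * s⁻¹) * t⁻¹ := by group
    rw [this, hsc]
  have htd : t * d * t⁻¹ = c := by
    rw [hd, htinv]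
    calc t * (t * c * t) * t = (t * t) * c * (t * t) := by group
      _ = c := by rw [ht2]; group
  have hsz2 : (s * z) * (s * z) = 1 := by
    have : s * z * (s * z) = s * (z * s) * z := by group
    rw [this, ← h.zc s hsX]
    have : s * (s * z) * z = (s * s) * (z * z) := by group
    rw [this, hs2, h.z2, one_mul]
  have hsz1 : s * z ≠ 1 := by
    intro h1
    apply hsz
    rw [← hzinv]
    exact eq_inv_of_mul_eq_one_left h1
  have hszz : s * z ≠ z := by
    intro h1
    apply hs1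
    exact mul_eq_right.mp h1
  have hcd : c ≠ d := by
    intro hcd
    apply hd1
    apply h.eq_one_of_fix_fix hdA _ hszd
    rw [← hcd]; exact hsc
  have hcd1 : c * d ≠ 1 := by
    intro hcd1
    apply hd1
    apply h.eq_one_of_fix_fix hdA _ hszd
    have : d = c⁻¹ := eq_inv_of_mul_eq_one_right hcd1
    rw [this]
    have : s * c⁻¹ * s⁻¹ = (s * c * s⁻¹)⁻¹ := by group
    rw [this, hsc]
  refine ⟨c, d, hcd, hcA, hdA, ⟨hcA, hc1, s, hsX, hs2, hs1, hsz, hsc⟩,
    ⟨hdA, hd1, s * z, X.mul_mem hsX h.zX, hsz2, hsz1, hszz, hszd⟩,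
    ⟨A.mul_mem hcA hdA, hcd1, t, htX, ht2, ht1, htz, ?_⟩⟩
  have : t * (c * d) * t⁻¹ = (t * c * t⁻¹) * (t * d * t⁻¹) := by group
  rw [this, htd, ← hd]
  exact h.comm d hdA c hcA

/-- local data around a good element `k` -/
structure Loc (A X : Subgroup S) (z k s t k₂ : S) : Prop where
  kA : k ∈ A
  k1 : k ≠ 1
  sX : s ∈ X
  s2 : s * s = 1
  s1 : s ≠ 1
  sz : s ≠ z
  sk : s * k * s⁻¹ = k
  tX : t ∈ X
  t2 : t * t = 1
  ts : t * s * t⁻¹ = s * z
  tne : t ≠ 1 ∧ t ≠ z ∧ t ≠ s ∧ t ≠ s * z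
  list : ∀ x ∈ X, x = 1 ∨ x = z ∨ x = s ∨ x = s * z ∨ x = t ∨ x = t * z ∨ x = t * s ∨
    x = t * s * z
  tk : t * k * t⁻¹ ∉ Subgroup.zpowers k
  k2A : k₂ ∈ A
  k21 : k₂ ≠ 1
  sk2 : s * k₂ * s⁻¹ = k₂⁻¹
  k2n : k₂ ∉ Subgroup.zpowers k

theorem Cfg.loc (h : Cfg A X z) {k : S} (hk : Good A X z k) : ∃ s t k₂, Loc A X z k s t k₂ := by
  obtain ⟨hkA, hk1, s, hsX, hs2, hs1, hsz, hsk⟩ := hk
  obtain ⟨t, htX, ht2, hts, ht1, htz, hts1, htsz, hlist⟩ := h.struct s hsX hs2 hs1 hsz
  have htinv : t⁻¹ = t := inv_eq_of_mul_eq_one_left ht2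
  have hsinv : s⁻¹ = s := inv_eq_of_mul_eq_one_left hs2
  have hzinv : z⁻¹ = z := inv_eq_of_mul_eq_one_left h.z2
  have hk3 : k ^ 3 = 1 := h.exp3 k hkA
  have hzk : z * k * z⁻¹ = k⁻¹ := h.zinv k hkA
  have hzs : s * z = z * s := h.zc s hsX
  have hzt : t * z = z * t := h.zc t htX
  -- `(t s)^2 = z`
  have htsts : (t * s) * (t * s) = z := by
    have e1 : (t * s) * (t * s) = (t * s * t⁻¹) * (t * t) * s := by group
    rw [e1, hts, ht2, mul_one, hzs]
    have : z * s * s = z * (s * s) := by group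
    rw [this, hs2, mul_one]
  -- no element `y` with `y * y = z` centralizes `k`
  have hno : ∀ y : S, y * y = z → y * k * y⁻¹ ≠ k := by
    intro y hy hyk
    apply hk1
    apply eq_one_of_eq_inv_of_cube _ hk3
    have e1 : z * k * z⁻¹ = y * (y * k * y⁻¹) * y⁻¹ := by rw [← hy]; group
    rw [← hzk, e1, hyk, hyk]
  have htk : t * k * t⁻¹ ∉ Subgroup.zpowers k := by
    intro hmem
    rcases mem_zpowers_three hk3 hmem with h1 | h1 | h1
    · apply hk1
      have : k = t⁻¹ * (t * k * t⁻¹) * t := by group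
      rw [this, h1]; group
    · apply hno (t * s) htsts
      have : t * s * k * (t * s)⁻¹ = t * (s * k * s⁻¹) * t⁻¹ := by group
      rw [this, hsk, h1]
    · apply hno (t * z * s)
      · have e1 : t * z * s * (t * z * s) = t * (z * s) * t * (z * s) := by group
        rw [e1, ← hzs]
        have e2 : t * (s * z) * t * (s * z) = (t * s) * (z * t) * s * z := by group
        rw [e2, ← hzt]
        have e3 : t * s * (t * z) * s * z = (t * s) * (t * (z * s)) * z := by group
        rw [e3, ← hzs]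
        have e4 : t * s * (t * (s * z)) * z = ((t * s) * (t * s)) * (z * z) := by group
        rw [e4, htsts, h.z2, mul_one]
      · have : t * z * s * k * (t * z * s)⁻¹ = t * (z * (s * k * s⁻¹) * z⁻¹) * t⁻¹ := by group
        rw [this, hsk, hzk]
        have : t * k⁻¹ * t⁻¹ = (t * k * t⁻¹)⁻¹ := by group
        rw [this, h1, inv_inv]
  -- an element not centralized by `s`
  have hex : ∃ a0 ∈ A, s * a0 * s⁻¹ ≠ a0 := by
    by_contra hcon
    push Not at hcon
    exact hs1 (h.faith s hsX hcon)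
  obtain ⟨a0, ha0, hne⟩ := hex
  set b0 := s * a0 * s⁻¹ with hb0
  have hb0A : b0 ∈ A := h.norm s a0 ha0
  set k₂ := a0 * b0⁻¹ with hk₂
  have hk₂A : k₂ ∈ A := A.mul_mem ha0 (A.inv_mem hb0A)
  have hk₂1 : k₂ ≠ 1 := by
    intro h1
    apply hne
    rw [hk₂, mul_inv_eq_one] at h1
    exact h1.symm
  have hsb0 : s * b0 * s⁻¹ = a0 := by
    rw [hb0, hsinv]
    calc s * (s * a0 * s) * s = (s * s) * a0 * (s * s) := by group
      _ = a0 := by rw [hs2]; group
  have hsk₂ : s * k₂ * s⁻¹ = k₂⁻¹ := by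
    have e1 : s * k₂ * s⁻¹ = (s * a0 * s⁻¹) * (s * b0 * s⁻¹)⁻¹ := by rw [hk₂]; group
    rw [e1, hsb0, ← hb0, hk₂, mul_inv_rev, inv_inv]
  have hk₂n : k₂ ∉ Subgroup.zpowers k := by
    intro hmem
    apply hk₂1
    apply eq_one_of_eq_inv_of_cube _ (h.exp3 k₂ hk₂A)
    rw [← hsk₂]
    obtain ⟨n, hn⟩ := Subgroup.mem_zpowers_iff.mp hmem
    rw [← hn]
    have : s * k ^ n * s⁻¹ = (s * k * s⁻¹) ^ n := by
      rw [← MulAut.conj_apply, ← MulAut.conj_apply, map_zpow]
    rw [this, hsk]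
  exact ⟨s, t, k₂, ⟨hkA, hk1, hsX, hs2, hs1, hsz, hsk, htX, ht2, hts, ⟨ht1, htz, hts1, htsz⟩, hlist,
    htk, hk₂A, hk₂1, hsk₂, hk₂n⟩⟩

end Grp

section Mod

variable {S : Type*} [Group S] {M : Type*} [AddCommGroup M] [Module (ZMod 2) M]
  (ρ : Representation (ZMod 2) S M)

theorem rho_mul (g h : S) (m : M) : ρ (g * h) m = ρ g (ρ h m) := by rw [map_mul]; rfl

theorem rho_one (m : M) : ρ 1 m = m := by rw [map_one]; rfl

theorem rho_inv_cancel (g : S) (m : M) : ρ g⁻¹ (ρ g m) = m := by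
  rw [← rho_mul, inv_mul_cancel, rho_one]

theorem rho_cancel_inv (g : S) (m : M) : ρ g (ρ g⁻¹ m) = m := by
  rw [← rho_mul, mul_inv_cancel, rho_one]

omit [Group S] in
theorem add_self_zero (m : M) : m + m = 0 := by
  rw [← two_smul (ZMod 2) m]
  have : (2 : ZMod 2) = 0 := by decide
  rw [this, zero_smul]

omit [Group S] in
theorem eq_of_add_zero {x y : M} (h : x + y = 0) : x = y := by
  have : x = x + (y + y) := by rw [add_self_zero, add_zero]
  rw [this, ← add_assoc, h, zero_add]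

omit [Group S] in
theorem add_eq_zero_of_eq {x y : M} (h : x = y) : x + y = 0 := by
  rw [h, add_self_zero]

/-- the stabilizer of a vector -/
def fixer (m : M) : Subgroup S where
  carrier := {g | ρ g m = m}
  mul_mem' := by
    intro a b ha hb
    show ρ (a * b) m = m
    rw [rho_mul, hb, ha]
  one_mem' := rho_one ρ m
  inv_mem' := by
    intro a ha
    show ρ a⁻¹ m = m
    have := rho_inv_cancel ρ a m
    rw [ha] at this
    exact this

theorem mem_fixer {m : M} {g : S} : g ∈ fixer ρ m ↔ ρ g m = m := Iff.rfl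

/-- the stabilizer of a subspace -/
def stab (N : Submodule (ZMod 2) M) : Subgroup S where
  carrier := {g | ∀ m, ρ g m ∈ N ↔ m ∈ N}
  mul_mem' := by
    intro a b ha hb m
    rw [rho_mul, ha, hb]
  one_mem' := by
    intro m
    rw [rho_one]
  inv_mem' := by
    intro a ha m
    have := ha (ρ a⁻¹ m)
    rw [rho_cancel_inv] at this
    exact this.symm

theorem mem_stab {N : Submodule (ZMod 2) M} {g : S} : g ∈ stab ρ N ↔ ∀ m, ρ g m ∈ N ↔ m ∈ N :=
  Iff.rfl

theorem stab_of_sq {N : Submodule (ZMod 2) M} {g : S} (hg : g * g = 1)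
    (h : ∀ m ∈ N, ρ g m ∈ N) : g ∈ stab ρ N := by
  intro m
  refine ⟨fun hm => ?_, h m⟩
  have := h _ hm
  rw [← rho_mul, hg, rho_one] at this
  exact this

theorem stab_of_cube {N : Submodule (ZMod 2) M} {g : S} (hg : g ^ 3 = 1)
    (h : ∀ m ∈ N, ρ g m ∈ N) : g ∈ stab ρ N := by
  intro m
  refine ⟨fun hm => ?_, h m⟩
  have := h _ (h _ hm)
  rw [← rho_mul, ← rho_mul] at this
  have e : g * g * g = g ^ 3 := by rw [pow_succ, pow_two]
  rw [e, hg, rho_one] at this
  exact this

/-- averaging over an involution -/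
theorem avg_invol (W : Submodule (ZMod 2) M) {g : S} (hg : g * g = 1)
    (hW : ∀ m ∈ W, ρ g m ∈ W) {v : M} (hv : v ∈ W) (hv0 : v ≠ 0) :
    ∃ v' ∈ W, v' ≠ 0 ∧ ρ g v' = v' := by
  by_cases h : v + ρ g v = 0
  · exact ⟨v, hv, hv0, (eq_of_add_zero h).symm⟩
  · refine ⟨v + ρ g v, W.add_mem hv (hW v hv), h, ?_⟩
    rw [map_add, ← rho_mul, hg, rho_one, add_comm]

/-- some element among `a, b, ab` has a nonzero fixed vector -/
theorem exists_fixed [Nontrivial M] (hfaith : Function.Injective ρ) {a b : S} (hab : a * b = b * a)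
    (ha3 : a ^ 3 = 1) (hb3 : b ^ 3 = 1) (hne : a ≠ b) :
    ∃ g, (g = a ∨ g = b ∨ g = a * b) ∧ ∃ m : M, m ≠ 0 ∧ ρ g m = m := by
  by_contra hcon
  push Not at hcon
  have key : ∀ g : S, (g = a ∨ g = b ∨ g = a * b) → g ^ 3 = 1 → ∀ m, ρ g (ρ g m) = m + ρ g m := by
    intro g hg hg3 m
    have hfix : ρ g (m + ρ g m + ρ g (ρ g m)) = m + ρ g m + ρ g (ρ g m) := by
      rw [map_add, map_add]
      have : ρ g (ρ g (ρ g m)) = m := by
        rw [← rho_mul, ← rho_mul]
        have e : g * g * g = g ^ 3 := by rw [pow_succ, pow_two]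
        rw [e, hg3, rho_one]
      rw [this]; abel
    have h0 : m + ρ g m + ρ g (ρ g m) = 0 := by
      by_contra h0
      exact hcon g hg _ h0 hfix
    exact (eq_of_add_zero h0).symm
  have hab3 : (a * b) ^ 3 = 1 := by
    rw [(Commute.mul_pow hab 3 : (a * b) ^ 3 = a ^ 3 * b ^ 3), ha3, hb3, one_mul]
  have ka := key a (Or.inl rfl) ha3
  have kb := key b (Or.inr (Or.inl rfl)) hb3
  have kab := key (a * b) (Or.inr (Or.inr rfl)) hab3
  apply hne
  apply hfaith
  apply LinearMap.ext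
  intro m
  have h1 := kab m
  have hc : ∀ x, ρ b (ρ a x) = ρ a (ρ b x) := by
    intro x
    rw [← rho_mul, ← rho_mul, hab]
  have e1 : ρ (a * b) (ρ (a * b) m) = m + ρ b m + ρ a m + ρ a (ρ b m) := by
    rw [rho_mul ρ a b m, rho_mul ρ a b, hc, ka, kb, map_add]
    abel
  rw [e1, rho_mul ρ a b m] at h1
  have h2 : ρ a m + ρ b m = (m + ρ b m + ρ a m + ρ a (ρ b m)) - (m + ρ a (ρ b m)) := by abel
  rw [h1, sub_self] at h2
  exact eq_of_add_zero h2

end Mod


section Main

variable {S : Type*} [Group S] {M : Type*} [AddCommGroup M] [Module (ZMod 2) M]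
  (ρ : Representation (ZMod 2) S M)

/-- the fixed subspace of a group element -/
def fixSub (g : S) : Submodule (ZMod 2) M := LinearMap.eqLocus (ρ g) LinearMap.id

theorem mem_fixSub {g : S} {m : M} : m ∈ fixSub ρ g ↔ ρ g m = m := by
  unfold fixSub
  rw [LinearMap.mem_eqLocus]
  rfl

theorem conj_fix {g x : S} {m : M} (h : ρ g m = m) : ρ (x * g * x⁻¹) (ρ x m) = ρ x m := by
  rw [← rho_mul]
  have : x * g * x⁻¹ * x = x * g := by group
  rw [this, rho_mul, h]

omit [Group S] in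
theorem span_pair_inv (f : M →ₗ[ZMod 2] M) {w u : M} (hw : f w ∈ Submodule.span (ZMod 2) {w, u})
    (hu : f u ∈ Submodule.span (ZMod 2) {w, u}) :
    ∀ m ∈ Submodule.span (ZMod 2) {w, u}, f m ∈ Submodule.span (ZMod 2) {w, u} := by
  intro m hm
  have : (Submodule.span (ZMod 2) {w, u}).map f ≤ Submodule.span (ZMod 2) {w, u} := by
    rw [Submodule.map_span_le]
    intro x hx
    rcases hx with rfl | rfl
    · exact hw
    · exact hu
  exact this (Submodule.mem_map_of_mem hm)

omit [Group S] in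
theorem pair_indep {w u : M} (hw : w ≠ 0) (hu : u ≠ 0) (hwu : u ≠ w) {a b : ZMod 2}
    (h : a • w + b • u = 0) : a = 0 ∧ b = 0 := by
  have h01 : ∀ c : ZMod 2, c = 0 ∨ c = 1 := by decide
  rcases h01 a with rfl | rfl <;> rcases h01 b with rfl | rfl
  · exact ⟨rfl, rfl⟩
  · exfalso; apply hu; simpa using h
  · exfalso; apply hw; simpa using h
  · exfalso; apply hwu
    have h' : w + u = 0 := by simpa using h
    exact (eq_of_add_zero h').symm

end Main

section Main2

variable {S : Type*} [Group S] [Finite S] {M : Type*} [AddCommGroup M] [Module (ZMod 2) M]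
  (ρ : Representation (ZMod 2) S M)

/-- the vectors `w`, `u` and their transformation rules -/
structure Vecs {A X : Subgroup S} {z k s t k₂ : S} (w u : M) : Prop where
  w0 : w ≠ 0
  kw : ρ k w = w
  zw : ρ z w = w
  sw : ρ s w = w
  uw : u = ρ k₂ w
  ku : ρ k u = u
  k2u : ρ k₂ u = w + u
  zu : ρ z u = w + u
  su : ρ s u = w + u
  u0 : u ≠ 0
  uw' : u ≠ w

theorem exists_vecs {A X : Subgroup S} {z k s t k₂ : S} (h : Cfg A X z) (l : Loc A X z k s t k₂)
    (hfixA : ∀ m : M, (∀ a ∈ A, ρ a m = m) → m = 0)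
    {m0 : M} (hm0 : m0 ≠ 0) (hkm0 : ρ k m0 = m0) :
    ∃ w u : M, Vecs (A := A) (X := X) (z := z) (k := k) (s := s) (t := t) (k₂ := k₂) ρ w u := by
  have hsinv : s⁻¹ = s := inv_eq_of_mul_eq_one_left l.s2
  have hzinv : z⁻¹ = z := inv_eq_of_mul_eq_one_left h.z2
  have hk3 : k ^ 3 = 1 := h.exp3 k l.kA
  have hk23 : k₂ ^ 3 = 1 := h.exp3 k₂ l.k2A
  have hzk : z * k * z⁻¹ = k⁻¹ := h.zinv k l.kA
  have hzk2 : z * k₂ * z⁻¹ = k₂⁻¹ := h.zinv k₂ l.k2A
  have hzs : s * z = z * s := h.zc s l.sX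
  have hkk2 : k * k₂ = k₂ * k := h.comm k l.kA k₂ l.k2A
  have hclos : Subgroup.closure {k, k₂} = A :=
    closure_pair_eq A h.card9 l.kA l.k2A l.k1 hk3 l.k2n
  -- vectors fixed by `k` and `k₂` vanish
  have hfix2 : ∀ m : M, ρ k m = m → ρ k₂ m = m → m = 0 := by
    intro m h1 h2
    apply hfixA
    intro a ha
    have hle : Subgroup.closure {k, k₂} ≤ fixer ρ m := by
      rw [Subgroup.closure_le]
      intro x hx
      rcases hx with rfl | rfl
      · exact h1
      · exact h2
    rw [← hclos] at ha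
    exact hle ha
  -- the fixed space of `k` is invariant under `z`, `s`
  have hW1z : ∀ m ∈ fixSub ρ k, ρ z m ∈ fixSub ρ k := by
    intro m hm
    rw [mem_fixSub] at hm ⊢
    have h1 : ρ k⁻¹ (ρ z m) = ρ z m := by
      have := conj_fix ρ (x := z) hm
      rwa [hzk] at this
    have h2 := (fixer ρ (ρ z m)).inv_mem (show k⁻¹ ∈ fixer ρ (ρ z m) from h1)
    rw [inv_inv] at h2
    exact h2
  have hW1s : ∀ m ∈ fixSub ρ k, ρ s m ∈ fixSub ρ k := by
    intro m hm
    rw [mem_fixSub] at hm ⊢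
    have := conj_fix ρ (x := s) hm
    rwa [l.sk] at this
  obtain ⟨v1, hv1W, hv10, hzv1⟩ := avg_invol ρ (fixSub ρ k) h.z2 hW1z
    ((mem_fixSub ρ).mpr hkm0) hm0
  -- second averaging
  have hW2s : ∀ m ∈ fixSub ρ k ⊓ fixSub ρ z, ρ s m ∈ fixSub ρ k ⊓ fixSub ρ z := by
    intro m hm
    obtain ⟨hm1, hm2'⟩ := Submodule.mem_inf.mp hm
    refine Submodule.mem_inf.mpr ⟨hW1s m hm1, ?_⟩
    have hm2 := (mem_fixSub ρ).mp hm2'
    rw [mem_fixSub, ← rho_mul, ← hzs, rho_mul, hm2]
  obtain ⟨w, hwW, hw0, hsw⟩ := avg_invol ρ (fixSub ρ k ⊓ fixSub ρ z) l.s2 hW2s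
    (Submodule.mem_inf.mpr ⟨hv1W, (mem_fixSub ρ).mpr hzv1⟩) hv10
  have hkw : ρ k w = w := (mem_fixSub ρ).mp (Submodule.mem_inf.mp hwW).1
  have hzw : ρ z w = w := (mem_fixSub ρ).mp (Submodule.mem_inf.mp hwW).2
  set u := ρ k₂ w with hu
  have hku : ρ k u = u := by
    rw [hu, ← rho_mul, hkk2, rho_mul, hkw]
  have hk2uu : ρ k₂ (ρ k₂ u) = w := by
    rw [hu, ← rho_mul, ← rho_mul]
    have e : k₂ * k₂ * k₂ = k₂ ^ 3 := by rw [pow_succ, pow_two]
    rw [e, hk23, rho_one]
  have hk2u : ρ k₂ u = w + u := by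
    have hx0 : w + u + ρ k₂ u = 0 := by
      apply hfix2
      · rw [map_add, map_add, hkw, hku, ← rho_mul, hkk2, rho_mul, hku]
      · rw [map_add, map_add, hk2uu, ← hu]; abel
    exact (eq_of_add_zero hx0).symm
  -- `k₂⁻¹` acts as `k₂ k₂`
  have hk2inv : k₂⁻¹ = k₂ * k₂ := by
    rw [inv_eq_iff_mul_eq_one]
    have e : k₂ * (k₂ * k₂) = k₂ ^ 3 := by rw [pow_succ, pow_two, mul_assoc]
    rw [e, hk23]
  have hinvw : ρ k₂⁻¹ w = w + u := by
    rw [hk2inv, rho_mul, ← hu, hk2u]
  have hzu : ρ z u = w + u := by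
    have e : z * k₂ = k₂⁻¹ * z := by rw [← hzk2]; group
    rw [hu, ← rho_mul, e, rho_mul, hzw, hinvw]
  have hsu : ρ s u = w + u := by
    have e : s * k₂ = k₂⁻¹ * s := by rw [← l.sk2]; group
    rw [hu, ← rho_mul, e, rho_mul, hsw, hinvw]
  have hu0 : u ≠ 0 := by
    intro h0
    apply hw0
    have := rho_inv_cancel ρ k₂ w
    rw [← hu, h0, map_zero] at this
    exact this.symm
  have huw : u ≠ w := by
    intro h1
    exact hw0 (hfix2 w hkw (hu ▸ h1))
  exact ⟨w, u, ⟨hw0, hkw, hzw, hsw, hu, hku, hk2u, hzu, hsu, hu0, huw⟩⟩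

end Main2

section Main3

variable {S : Type*} [Group S] [Finite S] {M : Type*} [AddCommGroup M] [Module (ZMod 2) M]
  (ρ : Representation (ZMod 2) S M)

theorem decomp {A X : Subgroup S} {z k s t k₂ : S} (h : Cfg A X z) (l : Loc A X z k s t k₂)
    (hAX : A ⊔ X = ⊤)
    (hirr : ∀ N : Submodule (ZMod 2) M, (∀ s : S, ∀ m ∈ N, ρ s m ∈ N) → N = ⊥ ∨ N = ⊤)
    (hfixA : ∀ m : M, (∀ a ∈ A, ρ a m = m) → m = 0) {w u : M}
    (v : Vecs (A := A) (X := X) (z := z) (k := k) (s := s) (t := t) (k₂ := k₂) ρ w u) :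
    Submodule.span (ZMod 2) {w, u} ⊔ (Submodule.span (ZMod 2) {w, u}).map (ρ t) = ⊤ ∧
    Submodule.span (ZMod 2) {w, u} ⊓ (Submodule.span (ZMod 2) {w, u}).map (ρ t) = ⊥ := by
  have hsinv : s⁻¹ = s := inv_eq_of_mul_eq_one_left l.s2
  have htinv : t⁻¹ = t := inv_eq_of_mul_eq_one_left l.t2
  have hk3 : k ^ 3 = 1 := h.exp3 k l.kA
  have hk23 : k₂ ^ 3 = 1 := h.exp3 k₂ l.k2A
  have hzt : t * z = z * t := h.zc t l.tX
  have hclos : Subgroup.closure {k, k₂} = A :=
    closure_pair_eq A h.card9 l.kA l.k2A l.k1 hk3 l.k2n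
  set U := Submodule.span (ZMod 2) ({w, u} : Set M) with hU
  have hwU : w ∈ U := Submodule.subset_span (by simp)
  have huU : u ∈ U := Submodule.subset_span (by simp)
  have hwuU : w + u ∈ U := U.add_mem hwU huU
  -- `U` is stable under `k, k₂, z, s`
  have hkU : k ∈ stab ρ U := stab_of_cube ρ hk3
    (span_pair_inv (ρ k) (by rw [v.kw]; exact hwU) (by rw [v.ku]; exact huU))
  have hk2U : k₂ ∈ stab ρ U := stab_of_cube ρ hk23
    (span_pair_inv (ρ k₂) (by rw [← v.uw]; exact huU) (by rw [v.k2u]; exact hwuU))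
  have hzU : z ∈ stab ρ U := stab_of_sq ρ h.z2
    (span_pair_inv (ρ z) (by rw [v.zw]; exact hwU) (by rw [v.zu]; exact hwuU))
  have hsU : s ∈ stab ρ U := stab_of_sq ρ l.s2
    (span_pair_inv (ρ s) (by rw [v.sw]; exact hwU) (by rw [v.su]; exact hwuU))
  have hAU : A ≤ stab ρ U := by
    rw [← hclos, Subgroup.closure_le]
    intro x hx
    rcases hx with rfl | rfl
    · exact hkU
    · exact hk2U
  have hUk : ∀ x ∈ U, ρ k x = x := by
    intro x hx
    have hle : U ≤ fixSub ρ k := by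
      rw [hU, Submodule.span_le]
      intro y hy
      rcases hy with rfl | rfl
      · exact (mem_fixSub ρ).mpr v.kw
      · exact (mem_fixSub ρ).mpr v.ku
    exact (mem_fixSub ρ).mp (hle hx)
  set T := U.map (ρ t) with hT
  set N := U ⊔ T with hN
  have hUN : U ≤ N := le_sup_left
  have hTN : T ≤ N := le_sup_right
  -- invariance of `N`
  have hst : s * t = t * (s * z) := by
    have := l.ts
    rw [htinv] at this
    calc s * t = (t * t) * s * t := by rw [l.t2, one_mul]
      _ = t * (t * s * t) := by group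
      _ = t * (s * z) := by rw [this]
  have inv_of : ∀ g : S, (∀ x ∈ U, ρ g x ∈ N) → (∀ y ∈ U, ρ g (ρ t y) ∈ N) → ∀ m ∈ N, ρ g m ∈ N := by
    intro g h1 h2 m hm
    obtain ⟨x, hx, y', hy', rfl⟩ := Submodule.mem_sup.mp hm
    obtain ⟨y, hy, rfl⟩ := Submodule.mem_map.mp hy'
    rw [map_add]
    exact N.add_mem (h1 x hx) (h2 y hy)
  have hAN : A ≤ stab ρ N := by
    intro a ha
    apply stab_of_cube ρ (h.exp3 a ha)
    apply inv_of
    · intro x hx
      exact hUN (((mem_stab ρ).mp (hAU ha) x).mpr hx)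
    · intro y hy
      have ha' : t⁻¹ * a * t⁻¹⁻¹ ∈ A := h.norm t⁻¹ a ha
      have e : a * t = t * (t⁻¹ * a * t⁻¹⁻¹) := by group
      rw [← rho_mul, e, rho_mul]
      exact hTN (Submodule.mem_map_of_mem (((mem_stab ρ).mp (hAU ha') y).mpr hy))
  have hzN : z ∈ stab ρ N := by
    apply stab_of_sq ρ h.z2
    apply inv_of
    · intro x hx
      exact hUN (((mem_stab ρ).mp hzU x).mpr hx)
    · intro y hy
      rw [← rho_mul, ← hzt, rho_mul]
      exact hTN (Submodule.mem_map_of_mem (((mem_stab ρ).mp hzU y).mpr hy))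
  have hsN : s ∈ stab ρ N := by
    apply stab_of_sq ρ l.s2
    apply inv_of
    · intro x hx
      exact hUN (((mem_stab ρ).mp hsU x).mpr hx)
    · intro y hy
      rw [← rho_mul, hst, rho_mul, rho_mul]
      apply hTN
      apply Submodule.mem_map_of_mem
      exact ((mem_stab ρ).mp hsU _).mpr (((mem_stab ρ).mp hzU y).mpr hy)
  have htN : t ∈ stab ρ N := by
    apply stab_of_sq ρ l.t2
    apply inv_of
    · intro x hx
      exact hTN (Submodule.mem_map_of_mem hx)
    · intro y hy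
      rw [← rho_mul, l.t2, rho_one]
      exact hUN hy
  have hXN : X ≤ stab ρ N := by
    intro x hx
    have hm : ∀ {a b : S}, a ∈ stab ρ N → b ∈ stab ρ N → a * b ∈ stab ρ N :=
      fun ha hb => (stab ρ N).mul_mem ha hb
    rcases l.list x hx with rfl | rfl | rfl | rfl | rfl | rfl | rfl | rfl
    · exact (stab ρ N).one_mem
    · exact hzN
    · exact hsN
    · exact hm hsN hzN
    · exact htN
    · exact hm htN hzN
    · exact hm htN hsN
    · exact hm (hm htN hsN) hzN
  have htop : (⊤ : Subgroup S) ≤ stab ρ N := by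
    rw [← hAX]
    exact sup_le hAN hXN
  have hNtop : N = ⊤ := by
    rcases hirr N (fun g m hm => ((mem_stab ρ).mp (htop (Subgroup.mem_top g)) m).mpr hm) with h0 | h1
    · exfalso
      apply v.w0
      have : w ∈ N := hUN hwU
      rw [h0] at this
      exact (Submodule.mem_bot _).mp this
    · exact h1
  refine ⟨hNtop, ?_⟩
  -- trivial intersection
  rw [eq_bot_iff]
  intro x hx
  obtain ⟨hxU, hxT⟩ := Submodule.mem_inf.mp hx
  obtain ⟨y, hy, rfl⟩ := Submodule.mem_map.mp hxT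
  rw [Submodule.mem_bot]
  have hk' : t * k * t⁻¹ ∈ A := h.norm t k l.kA
  have hclos' : Subgroup.closure {k, t * k * t⁻¹} = A :=
    closure_pair_eq A h.card9 l.kA hk' l.k1 hk3 l.tk
  apply hfixA
  intro a ha
  have hle : Subgroup.closure {k, t * k * t⁻¹} ≤ fixer ρ (ρ t y) := by
    rw [Subgroup.closure_le]
    intro g hg
    rcases hg with rfl | rfl
    · exact hUk _ hxU
    · exact conj_fix ρ (hUk y hy)
  rw [← hclos'] at ha
  exact hle ha

end Main3

section Main4

variable {S : Type*} [Group S] {M : Type*} [AddCommGroup M] [Module (ZMod 2) M]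
  (ρ : Representation (ZMod 2) S M)

theorem card_sixteen [Finite M] {t : S} (ht2 : t * t = 1) {w u : M} (hw0 : w ≠ 0) (hu0 : u ≠ 0)
    (huw : u ≠ w)
    (htop : Submodule.span (ZMod 2) {w, u} ⊔ (Submodule.span (ZMod 2) {w, u}).map (ρ t) = ⊤)
    (hbot : Submodule.span (ZMod 2) {w, u} ⊓ (Submodule.span (ZMod 2) {w, u}).map (ρ t) = ⊥) :
    Nat.card M = 16 := by
  set U := Submodule.span (ZMod 2) ({w, u} : Set M) with hU
  have hwU : w ∈ U := Submodule.subset_span (by simp)
  have huU : u ∈ U := Submodule.subset_span (by simp)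
  let v : Fin 4 → M := ![w, u, ρ t w, ρ t u]
  have hli : LinearIndependent (ZMod 2) v := by
    rw [Fintype.linearIndependent_iff]
    intro g hg
    rw [Fin.sum_univ_four] at hg
    have hg' : g 0 • w + g 1 • u + g 2 • ρ t w + g 3 • ρ t u = 0 := hg
    obtain ⟨x, hx⟩ : ∃ x, x = g 0 • w + g 1 • u := ⟨_, rfl⟩
    obtain ⟨y, hy⟩ : ∃ y, y = g 2 • w + g 3 • u := ⟨_, rfl⟩
    have hxU : x ∈ U := hx ▸ U.add_mem (U.smul_mem _ hwU) (U.smul_mem _ huU)
    have hyU : y ∈ U := hy ▸ U.add_mem (U.smul_mem _ hwU) (U.smul_mem _ huU)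
    have hty : ρ t y = g 2 • ρ t w + g 3 • ρ t u := by
      rw [hy, map_add, map_smul, map_smul]
    have hsum : x + ρ t y = 0 := by
      rw [hty, hx, ← add_assoc]; exact hg'
    have hxy : x = ρ t y := eq_of_add_zero hsum
    have hx0 : x = 0 := by
      have : x ∈ U ⊓ U.map (ρ t) :=
        Submodule.mem_inf.mpr ⟨hxU, hxy ▸ Submodule.mem_map_of_mem hyU⟩
      rw [hbot] at this
      exact (Submodule.mem_bot _).mp this
    have hy0 : y = 0 := by
      have h1 : ρ t (ρ t y) = y := by rw [← rho_mul, ht2, rho_one]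
      rw [← h1, ← hxy, hx0, map_zero]
    obtain ⟨h0, h1⟩ := pair_indep hw0 hu0 huw (hx ▸ hx0)
    obtain ⟨h2, h3⟩ := pair_indep hw0 hu0 huw (hy ▸ hy0)
    intro i
    fin_cases i
    · exact h0
    · exact h1
    · exact h2
    · exact h3
  have hsp : ⊤ ≤ Submodule.span (ZMod 2) (Set.range v) := by
    rw [← htop]
    apply sup_le
    · rw [hU, Submodule.span_le]
      intro m hm
      rcases hm with rfl | rfl
      · exact Submodule.subset_span ⟨0, rfl⟩
      · exact Submodule.subset_span ⟨1, rfl⟩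
    · rw [hU, Submodule.map_span_le]
      intro m hm
      rcases hm with rfl | rfl
      · exact Submodule.subset_span ⟨2, rfl⟩
      · exact Submodule.subset_span ⟨3, rfl⟩
  let b := Module.Basis.mk hli hsp
  have hfr : Module.finrank (ZMod 2) M = 4 := by
    rw [Module.finrank_eq_card_basis b]
    simp
  rw [Module.natCard_eq_pow_finrank (K := ZMod 2) (V := M), hfr, Nat.card_zmod]
  norm_num

end Main4

section Main5

variable {S : Type*} [Group S] {M : Type*} [AddCommGroup M] [Module (ZMod 2) M]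
  (ρ : Representation (ZMod 2) S M)

omit [Group S] in
theorem swap_eq {a b c d : M} (h : a + b = c + d) : a + d = c + b := by
  have h1 : a + d = (a + b) + (b + d) := by
    have : (a + b) + (b + d) = a + d + (b + b) := by abel
    rw [this, add_self_zero, add_zero]
  have h2 : (c + d) + (b + d) = c + b + (d + d) := by abel
  rw [h1, h, h2, add_self_zero, add_zero]

omit [Group S] in
theorem swap_trick (f : M →ₗ[ZMod 2] M) {U : Submodule (ZMod 2) M} (hbot : U ⊓ U.map f = ⊥)
    {x y : M} (hx : x ∈ U) (hy : y ∈ U) (h : f x + y = x + f y) : x = y := by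
  have h1 : f x + f y = x + y := swap_eq h
  have h2 : x + y ∈ U ⊓ U.map f := by
    refine Submodule.mem_inf.mpr ⟨U.add_mem hx hy, ?_⟩
    rw [← h1, ← map_add]
    exact Submodule.mem_map_of_mem (U.add_mem hx hy)
  rw [hbot] at h2
  exact eq_of_add_zero ((Submodule.mem_bot _).mp h2)

theorem fix_B2 {z t : S} (ht2 : t * t = 1) (hzt : t * z = z * t) {w u : M} (hw0 : w ≠ 0)
    (hzw : ρ z w = w) (hzu : ρ z u = w + u)
    (htop : Submodule.span (ZMod 2) {w, u} ⊔ (Submodule.span (ZMod 2) {w, u}).map (ρ t) = ⊤)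
    (hbot : Submodule.span (ZMod 2) {w, u} ⊓ (Submodule.span (ZMod 2) {w, u}).map (ρ t) = ⊥)
    (m : M) (htm : ρ t m = m) (hzm : ρ z m = m) : m = 0 ∨ m = w + ρ t w := by
  set U := Submodule.span (ZMod 2) ({w, u} : Set M) with hU
  have hwU : w ∈ U := Submodule.subset_span (by simp)
  have huU : u ∈ U := Submodule.subset_span (by simp)
  have hzU : ∀ x ∈ U, ρ z x ∈ U :=
    span_pair_inv (ρ z) (by rw [hzw]; exact hwU) (by rw [hzu]; exact U.add_mem hwU huU)
  have hmem : m ∈ U ⊔ U.map (ρ t) := by rw [htop]; trivial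
  obtain ⟨x, hx, y', hy', rfl⟩ := Submodule.mem_sup.mp hmem
  obtain ⟨y, hy, rfl⟩ := Submodule.mem_map.mp hy'
  have htt : ∀ m : M, ρ t (ρ t m) = m := fun m => by rw [← rho_mul, ht2, rho_one]
  have hxy : x = y := by
    apply swap_trick (ρ t) hbot hx hy
    rw [map_add, htt] at htm
    exact htm
  subst hxy
  have hzx : ρ z x = x := by
    apply swap_trick (ρ t) hbot (hzU x hx) hx
    rw [map_add, ← rho_mul, ← hzt, rho_mul] at hzm
    have := swap_eq hzm
    rw [add_comm]
    rw [this, add_comm]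
  obtain ⟨a, b, rfl⟩ := Submodule.mem_span_pair.mp hx
  have hb : b = 0 := by
    rw [map_add, map_smul, map_smul, hzw, hzu, smul_add] at hzx
    have h1 : b • w = 0 := by
      have : a • w + (b • w + b • u) = (a • w + b • u) + b • w := by abel
      rw [this] at hzx
      exact add_eq_left.mp hzx
    rcases smul_eq_zero.mp h1 with h2 | h2
    · exact h2
    · exact absurd h2 hw0
  subst hb
  have h01 : ∀ c : ZMod 2, c = 0 ∨ c = 1 := by decide
  rcases h01 a with rfl | rfl
  · left; simp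
  · right; simp

end Main5

section Main6

open DihedralGroup

variable {S : Type*} [Group S] [Finite S]

theorem mk_cfg (A : Subgroup S) [A.Normal] (hAc : ∀ a ∈ A, ∀ b ∈ A, a * b = b * a)
    (hA3 : ∀ a ∈ A, a ^ 3 = 1) (hA9 : Nat.card ↥A = 9)
    (hAC : Subgroup.centralizer (A : Set S) = A) (X : Subgroup S) (e : ↥X ≃* DihedralGroup 4) :
    ∃ z : S, Cfg A X z := by
  let ι : DihedralGroup 4 →* S := X.subtype.comp e.symm.toMonoidHom
  have hιX : ∀ d, ι d ∈ X := fun d => (e.symm d).2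
  have hιinj : Function.Injective ι := by
    intro d1 d2 h12
    have : (e.symm d1 : ↥X) = e.symm d2 := Subtype.ext h12
    exact e.symm.injective this
  have hιsurj : ∀ x ∈ X, ∃ d, ι d = x := by
    intro x hx
    refine ⟨e ⟨x, hx⟩, ?_⟩
    show ((e.symm (e ⟨x, hx⟩) : ↥X) : S) = x
    rw [MulEquiv.symm_apply_apply]
  have hX8 : Nat.card ↥X = 8 := by
    rw [Nat.card_congr e.toEquiv, DihedralGroup.nat_card]
  refine ⟨ι (r 2), ⟨hAc, hA3, hA9, fun x a ha => ‹A.Normal›.conj_mem a ha x, ?_, hιX _, ?_, ?_, ?_, ?_,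
    ?_, ?_⟩⟩
  · -- faithful
    intro x hx hcen
    have hxA : x ∈ A := by
      rw [← hAC, Subgroup.mem_centralizer_iff]
      intro a ha
      have := hcen a ha
      rw [mul_inv_eq_iff_eq_mul] at this
      exact this.symm
    have h3 : x ^ 3 = 1 := hA3 x hxA
    have h8 : x ^ 8 = 1 := by
      have := pow_card_eq_one' (G := ↥X) (x := ⟨x, hx⟩)
      rw [hX8] at this
      exact congrArg Subtype.val this
    have h9 : x ^ 9 = 1 := by
      have : x ^ 9 = (x ^ 3) ^ 3 := by rw [← pow_mul]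
      rw [this, h3, one_pow]
    have : x ^ 9 = x ^ 8 * x := pow_succ x 8
    rw [h9, h8, one_mul] at this
    exact this.symm
  · intro h1
    have : ι (r 2) = ι 1 := by rw [h1, map_one]
    exact absurd (hιinj this) (by decide)
  · rw [← map_mul]
    have : (r 2 : DihedralGroup 4) * r 2 = 1 := by decide
    rw [this, map_one]
  · intro x hx
    obtain ⟨d, rfl⟩ := hιsurj x hx
    rw [← map_mul, ← map_mul, d8_center]
  · refine ⟨ι (sr 0), hιX _, ?_, ?_, ?_⟩
    · rw [← map_mul]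
      have : (sr 0 : DihedralGroup 4) * sr 0 = 1 := by decide
      rw [this, map_one]
    · intro h1
      have : ι (sr 0) = ι 1 := by rw [h1, map_one]
      exact absurd (hιinj this) (by decide)
    · intro h1
      exact absurd (hιinj h1) (by decide)
  · refine ⟨ι (r 1), hιX _, ?_⟩
    rw [← map_mul]
    have : (r 1 : DihedralGroup 4) * r 1 = r 2 := by decide
    rw [this]
  · intro s hs hs2 hs1 hsz
    obtain ⟨d, rfl⟩ := hιsurj s hs
    have hd2 : d * d = 1 := by
      apply hιinj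
      rw [map_mul, map_one]; exact hs2
    have hd1 : d ≠ 1 := by
      intro h1; apply hs1; rw [h1, map_one]
    have hdz : d ≠ r 2 := by
      intro h1; apply hsz; rw [h1]
    obtain ⟨t0, ht2, hts, ht1, htz, htd, htdz, hlist⟩ := d8_struct d hd2 hd1 hdz
    refine ⟨ι t0, hιX _, ?_, ?_, ?_, ?_, ?_, ?_, ?_⟩
    · rw [← map_mul, ht2, map_one]
    · rw [← map_inv, ← map_mul, ← map_mul, hts, map_mul]
    · intro h1; apply ht1; apply hιinj; rw [h1, map_one]
    · intro h1; exact htz (hιinj h1)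
    · intro h1; exact htd (hιinj h1)
    · intro h1; apply htdz; apply hιinj; rw [h1, map_mul]
    · intro x hx
      obtain ⟨d', rfl⟩ := hιsurj x hx
      rcases hlist d' with h1 | h1 | h1 | h1 | h1 | h1 | h1 | h1
      · left; rw [h1, map_one]
      · right; left; rw [h1]
      · right; right; left; rw [h1]
      · right; right; right; left; rw [h1, map_mul]
      · right; right; right; right; left; rw [h1]
      · right; right; right; right; right; left; rw [h1, map_mul]
      · right; right; right; right; right; right; left; rw [h1, map_mul]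
      · right; right; right; right; right; right; right; rw [h1, map_mul, map_mul]

end Main6

section Main7

variable {S : Type*} [Group S] [Finite S] {A X : Subgroup S} {z k s t k₂ : S}

omit [Finite S] in
theorem Loc.st (l : Loc A X z k s t k₂) : s * t = t * (s * z) := by
  have htinv : t⁻¹ = t := inv_eq_of_mul_eq_one_left l.t2
  have := l.ts
  rw [htinv] at this
  calc s * t = (t * t) * s * t := by rw [l.t2, one_mul]
    _ = t * (t * s * t) := by group
    _ = t * (s * z) := by rw [this]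

omit [Finite S] in
theorem Loc.tsts (h : Cfg A X z) (l : Loc A X z k s t k₂) : (t * s) * (t * s) = z := by
  have hzs : s * z = z * s := h.zc s l.sX
  have e1 : (t * s) * (t * s) = (t * s * t⁻¹) * (t * t) * s := by group
  rw [e1, l.ts, l.t2, mul_one, hzs]
  have : z * s * s = z * (s * s) := by group
  rw [this, l.s2, mul_one]

omit [Finite S] in
theorem Loc.not_comm (h : Cfg A X z) (l : Loc A X z k s t k₂) : t * s ≠ s * t := by
  intro hc
  apply h.z1
  have : t * s * t⁻¹ = s := by rw [hc]; group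
  rw [l.ts] at this
  exact mul_eq_left.mp this

/-- membership in the second four-group -/
theorem Loc.mem_B2 (h : Cfg A X z) (l : Loc A X z k s t k₂) (x : S) :
    x ∈ X ⊓ Subgroup.centralizer {t} ↔ x = 1 ∨ x = z ∨ x = t ∨ x = t * z := by
  set C := Subgroup.centralizer ({t} : Set S) with hC
  have hmemC : ∀ y : S, y ∈ C ↔ t * y = y * t := by
    intro y
    rw [hC, Subgroup.mem_centralizer_iff]
    simp
  have hzC : z ∈ C := (hmemC z).mpr (h.zc t l.tX)
  have htC : t ∈ C := (hmemC t).mpr rfl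
  have hsC : s ∉ C := fun hs => l.not_comm h ((hmemC s).mp hs)
  constructor
  · rintro ⟨hxX, hxC⟩
    rcases l.list x hxX with rfl | rfl | rfl | rfl | rfl | rfl | rfl | rfl
    · exact Or.inl rfl
    · exact Or.inr (Or.inl rfl)
    · exact absurd hxC hsC
    · exact absurd ((C.mul_mem_cancel_right hzC).mp hxC) hsC
    · exact Or.inr (Or.inr (Or.inl rfl))
    · exact Or.inr (Or.inr (Or.inr rfl))
    · exact absurd ((C.mul_mem_cancel_left htC).mp hxC) hsC
    · exact absurd ((C.mul_mem_cancel_left htC).mp ((C.mul_mem_cancel_right hzC).mp hxC)) hsC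
  · rintro (rfl | rfl | rfl | rfl)
    · exact Subgroup.one_mem _
    · exact ⟨h.zX, hzC⟩
    · exact ⟨l.tX, htC⟩
    · exact ⟨X.mul_mem l.tX h.zX, C.mul_mem htC hzC⟩

theorem Loc.card_B2 (h : Cfg A X z) (l : Loc A X z k s t k₂) :
    Nat.card ↥(X ⊓ Subgroup.centralizer {t}) = 4 := by
  have hzinv : z⁻¹ = z := inv_eq_of_mul_eq_one_left h.z2
  have hset : ((X ⊓ Subgroup.centralizer {t} : Subgroup S) : Set S) = {1, z, t, t * z} := by
    ext x
    rw [SetLike.mem_coe, l.mem_B2 h]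
    simp
  have h1 : Nat.card ↥(X ⊓ Subgroup.centralizer {t}) =
      ((X ⊓ Subgroup.centralizer {t} : Subgroup S) : Set S).ncard := Nat.card_coe_set_eq _
  rw [h1, hset]
  have htz1 : t * z ≠ 1 := by
    intro h1
    apply l.tne.2.1
    rw [← hzinv]
    exact eq_inv_of_mul_eq_one_left h1
  have htzz : t * z ≠ z := by
    intro h1
    exact l.tne.1 (mul_eq_right.mp h1)
  have htzt : t * z ≠ t := by
    intro h1
    exact h.z1 (mul_eq_left.mp h1)
  rw [Set.ncard_insert_of_notMem, Set.ncard_insert_of_notMem, Set.ncard_insert_of_notMem,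
    Set.ncard_singleton]
  · simp only [Set.mem_singleton_iff]
    exact fun h => htzt h.symm
  · simp only [Set.mem_insert_iff, Set.mem_singleton_iff, not_or]
    exact ⟨fun h => l.tne.2.1 h.symm, fun h => htzz h.symm⟩
  · simp only [Set.mem_insert_iff, Set.mem_singleton_iff, not_or]
    exact ⟨fun h' => h.z1 h'.symm, fun h' => l.tne.1 h'.symm, fun h' => htz1 h'.symm⟩

end Main7

/-- Let S be a finite group with a normal elementary abelian subgroup A of order 9 that is self-centralizing (C_S(A) = A), and a dihedral subgroup X of order 8 with S = AX. Let M be a finite-dimensional module for S over the field with two elements that is faithful and irreducible. Then M has 16 elements, and X contains exactly one subgroup B of order 4 and exponent 2 whose fixed points on M form a subspace with exactly 2 elements (equivalently, M is free of rank one over the group algebra of B). -/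
theorem result {S : Type*} [Group S] [Finite S]
    (A : Subgroup S) [A.Normal] (hA : Cfsg.IsElementaryAbelian 3 A) (hA9 : Nat.card ↥A = 9)
    (hAC : Subgroup.centralizer (A : Set S) = A) (X : Subgroup S) (hX : Nonempty (↥X ≃* DihedralGroup 4)) (hAX : A ⊔ X = ⊤)
    {M : Type*} [AddCommGroup M] [Module (ZMod 2) M] [Finite M] (ρ : Representation (ZMod 2) S M)
    (hfaith : Function.Injective ρ)
    (hirr : ∀ N : Submodule (ZMod 2) M, (∀ s : S, ∀ m ∈ N, ρ s m ∈ N) → N = ⊥ ∨ N = ⊤) (hM : Nontrivial M) :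
    Nat.card M = 16 ∧
      ∃! B : Subgroup S, B ≤ X ∧ Nat.card ↥B = 4 ∧ (∀ b ∈ B, b ^ 2 = 1) ∧
        Nat.card {m : M // ∀ b ∈ B, ρ b m = m} = 2 := by
  obtain ⟨e⟩ := hX
  have hAc : ∀ a ∈ A, ∀ b ∈ A, a * b = b * a := by
    intro a ha b hb
    have := hA.1.is_comm.comm ⟨a, ha⟩ ⟨b, hb⟩
    exact congrArg Subtype.val this
  obtain ⟨z, h⟩ := mk_cfg A hAc hA.2 hA9 hAC X e
  obtain ⟨c, d, hcd, hcA, hdA, gc, gd, gcd⟩ := h.candidates
  -- `C_M(A) = 0`
  have hfixA : ∀ m : M, (∀ a ∈ A, ρ a m = m) → m = 0 := by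
    let N0 : Submodule (ZMod 2) M :=
      { carrier := {m | ∀ a ∈ A, ρ a m = m}
        add_mem' := by
          intro x y hx hy a ha
          rw [map_add, hx a ha, hy a ha]
        zero_mem' := by
          intro a _
          exact map_zero _
        smul_mem' := by
          intro r x hx a ha
          rw [map_smul, hx a ha] }
    have hinv : ∀ g : S, ∀ m ∈ N0, ρ g m ∈ N0 := by
      intro g m hm a ha
      have ha' : g⁻¹ * a * g⁻¹⁻¹ ∈ A := h.norm g⁻¹ a ha
      have := conj_fix ρ (x := g) (hm _ ha')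
      have e1 : g * (g⁻¹ * a * g⁻¹⁻¹) * g⁻¹ = a := by group
      rwa [e1] at this
    intro m hm
    rcases hirr N0 hinv with h0 | h1
    · have : m ∈ N0 := hm
      rw [h0] at this
      exact (Submodule.mem_bot _).mp this
    · exfalso
      apply gc.2.1
      apply hfaith
      apply LinearMap.ext
      intro x
      have hx : x ∈ N0 := by rw [h1]; trivial
      rw [hx c hcA, rho_one]
  obtain ⟨k, hk, m0, hm0, hkm0⟩ := exists_fixed ρ hfaith (h.comm c hcA d hdA) (h.exp3 c hcA)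
    (h.exp3 d hdA) hcd
  have hgood : Good A X z k := by
    rcases hk with rfl | rfl | rfl
    · exact gc
    · exact gd
    · exact gcd
  obtain ⟨s, t, k₂, l⟩ := h.loc hgood
  obtain ⟨w, u, v⟩ := exists_vecs ρ h l hfixA hm0 hkm0
  obtain ⟨htop, hbot⟩ := decomp ρ h l hAX hirr hfixA v
  refine ⟨card_sixteen ρ l.t2 v.w0 v.u0 v.uw' htop hbot, ?_⟩
  have hzt : t * z = z * t := h.zc t l.tX
  have hzs : s * z = z * s := h.zc s l.sX
  have htt : ∀ m : M, ρ t (ρ t m) = m := fun m => by rw [← rho_mul, l.t2, rho_one]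
  have hztw : ρ z (ρ t w) = ρ t w := by rw [← rho_mul, ← hzt, rho_mul, v.zw]
  have hstw : ρ s (ρ t w) = ρ t w := by
    rw [← rho_mul, l.st, rho_mul, rho_mul, v.zw, v.sw]
  have hwtw : w ≠ ρ t w := by
    intro heq
    apply v.w0
    have hwU : w ∈ Submodule.span (ZMod 2) ({w, u} : Set M) := Submodule.subset_span (by simp)
    have : w ∈ Submodule.span (ZMod 2) ({w, u} : Set M) ⊓
        (Submodule.span (ZMod 2) ({w, u} : Set M)).map (ρ t) :=
      Submodule.mem_inf.mpr ⟨hwU, Submodule.mem_map.mpr ⟨w, hwU, heq.symm⟩⟩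
    rw [hbot] at this
    exact (Submodule.mem_bot _).mp this
  have htw0 : ρ t w ≠ 0 := by
    intro h0
    apply v.w0
    rw [← htt w, h0, map_zero]
  have hsum0 : w + ρ t w ≠ 0 := fun h0 => hwtw (eq_of_add_zero h0)
  refine ⟨X ⊓ Subgroup.centralizer {t}, ⟨inf_le_left, l.card_B2 h, ?_, ?_⟩, ?_⟩
  · -- exponent two
    intro b hb
    rw [pow_two]
    rcases (l.mem_B2 h b).mp hb with rfl | rfl | rfl | rfl
    · exact one_mul 1
    · exact h.z2
    · exact l.t2
    · have : t * z * (t * z) = t * (z * t) * z := by group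
      rw [this, ← hzt]
      have : t * (t * z) * z = (t * t) * (z * z) := by group
      rw [this, l.t2, h.z2, one_mul]
  · -- two fixed points
    have hfix0 : ∀ b ∈ X ⊓ Subgroup.centralizer {t}, ρ b (0 : M) = 0 := fun b _ => map_zero _
    have hfix1 : ∀ b ∈ X ⊓ Subgroup.centralizer {t}, ρ b (w + ρ t w) = w + ρ t w := by
      intro b hb
      rcases (l.mem_B2 h b).mp hb with rfl | rfl | rfl | rfl
      · exact rho_one ρ _
      · rw [map_add, v.zw, hztw]
      · rw [map_add, htt, add_comm]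
      · rw [rho_mul, map_add, v.zw, hztw, map_add, htt, add_comm]
    rw [Nat.card_eq_two_iff]
    refine ⟨⟨0, hfix0⟩, ⟨w + ρ t w, hfix1⟩, ?_, ?_⟩
    · intro heq
      exact hsum0 (congrArg Subtype.val heq).symm
    · rw [Set.eq_univ_iff_forall]
      rintro ⟨m, hm⟩
      have h1 := hm t ((l.mem_B2 h t).mpr (Or.inr (Or.inr (Or.inl rfl))))
      have h2 := hm z ((l.mem_B2 h z).mpr (Or.inr (Or.inl rfl)))
      rcases fix_B2 ρ l.t2 hzt v.w0 v.zw v.zu htop hbot m h1 h2 with h0 | h0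
      · left; exact Subtype.ext h0
      · right; exact Subtype.ext h0
  · -- uniqueness
    rintro B ⟨hBX, hB4, hBexp, hBfix⟩
    have hBcomm : ∀ a ∈ B, ∀ b ∈ B, a * b = b * a := by
      intro a ha b hb
      have h1 := hBexp a ha
      have h2 := hBexp b hb
      have h3 := hBexp (a * b) (B.mul_mem ha hb)
      rw [pow_two] at h1 h2 h3
      calc a * b = a * (a * b * (a * b)) * b := by rw [h3, mul_one]
        _ = (a * a) * (b * a) * (b * b) := by group
        _ = b * a := by rw [h1, h2, one_mul, mul_one]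
    by_cases P : ∀ b ∈ B, b = 1 ∨ b = z ∨ b = s ∨ b = s * z
    · exfalso
      have hfixw : ∀ b ∈ B, ρ b w = w := by
        intro b hb
        rcases P b hb with rfl | rfl | rfl | rfl
        · exact rho_one ρ _
        · exact v.zw
        · exact v.sw
        · rw [rho_mul, v.zw, v.sw]
      have hfixtw : ∀ b ∈ B, ρ b (ρ t w) = ρ t w := by
        intro b hb
        rcases P b hb with rfl | rfl | rfl | rfl
        · exact rho_one ρ _
        · exact hztw
        · exact hstw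
        · rw [rho_mul, hztw, hstw]
      have hfix0 : ∀ b ∈ B, ρ b (0 : M) = 0 := fun b _ => map_zero _
      obtain ⟨y, -, hy⟩ := (Nat.card_eq_two_iff' (⟨0, hfix0⟩ : {m : M // ∀ b ∈ B, ρ b m = m})).mp hBfix
      have e1 := hy ⟨w, hfixw⟩ (fun heq => v.w0 (congrArg Subtype.val heq))
      have e2 := hy ⟨ρ t w, hfixtw⟩ (fun heq => htw0 (congrArg Subtype.val heq))
      exact hwtw (congrArg Subtype.val (e1.trans e2.symm))
    · push Not at P
      obtain ⟨b0, hb0B, hb01, hb0z, hb0s, hb0sz⟩ := P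
      have hb0sq : b0 * b0 = 1 := by rw [← pow_two]; exact hBexp b0 hb0B
      -- `b0` is `t` or `t * z`
      have hb0 : b0 = t ∨ b0 = t * z := by
        rcases l.list b0 (hBX hb0B) with h1 | h1 | h1 | h1 | h1 | h1 | h1 | h1
        · exact absurd h1 hb01
        · exact absurd h1 hb0z
        · exact absurd h1 hb0s
        · exact absurd h1 hb0sz
        · exact Or.inl h1
        · exact Or.inr h1
        · exfalso
          rw [h1, l.tsts h] at hb0sq
          exact h.z1 hb0sq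
        · exfalso
          rw [h1] at hb0sq
          have e1 : t * s * z * (t * s * z) = (t * s) * (z * (t * s)) * z := by group
          rw [e1, ← h.zc (t * s) (X.mul_mem l.tX l.sX)] at hb0sq
          have e2 : t * s * (t * s * z) * z = ((t * s) * (t * s)) * (z * z) := by group
          rw [e2, l.tsts h, h.z2, mul_one] at hb0sq
          exact h.z1 hb0sq
      have hle : B ≤ X ⊓ Subgroup.centralizer {t} := by
        intro b hb
        refine Subgroup.mem_inf.mpr ⟨hBX hb, ?_⟩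
        rw [Subgroup.mem_centralizer_iff]
        intro y hy
        rw [Set.mem_singleton_iff] at hy
        subst hy
        rcases hb0 with h1 | h1
        · rw [← h1]; exact (hBcomm b hb b0 hb0B).symm
        · have hc := hBcomm b hb b0 hb0B
          rw [h1] at hc
          have hbz : b * z = z * b := h.zc b (hBX hb)
          have e1 : y * b = (y * z * b) * z := by
            have : y * z * b * z = y * (z * b) * z := by group
            rw [this, ← hbz]
            have : y * (b * z) * z = y * b * (z * z) := by group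
            rw [this, h.z2, mul_one]
          rw [e1, ← hc]
          have : b * (y * z) * z = b * y * (z * z) := by group
          rw [this, h.z2, mul_one]
      exact Subgroup.eq_of_le_of_card_ge hle (by rw [hB4, l.card_B2 h])

end Cfsg.Agent.S4407
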