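import Cfsg.Statements.S4408
import Cfsg.Agent.Lib.Helper35.InvolEigen
import Cfsg.Agent.Lib.Helper71.Fitting
import Cfsg.Agent.S0044

set_option autoImplicit false
open Cfsg

namespace Cfsg.Agent.S4408

open Cfsg.Agent.Lib.Helper35

/-- Let S be a finite solvable group whose Fitting subgroup F(S) has odd order, and let I be an elementary abelian 2-subgroup of S of order 2ⁿ with n ≥ 1. Then F(S) contains subgroups A₁, …, Aₙ of prime order, each normalized by I, pairwise commuting and generating a subgroup A of order |A₁|⋯|Aₙ| (their internal direct product), such that no non-identity element of I centralizes A. -/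
theorem result {S : Type*} [Group S] [Finite S]
    [Group.IsSolvable S] (hF : Odd (Nat.card ↥(Cfsg.fittingSubgroup S)))
    (I : Subgroup S) (hI : Cfsg.IsElementaryAbelian 2 I) (n : ℕ) (hn : 1 ≤ n) (hIn : Nat.card ↥I = 2 ^ n) :
    ∃ f : Fin n → Subgroup S, (∀ i, (Nat.card ↥(f i)).Prime) ∧ (∀ i, f i ≤ Cfsg.fittingSubgroup S) ∧
      (∀ i, I ≤ Subgroup.normalizer ((f i) : Set S)) ∧ (∀ i j, i ≠ j → ∀ a ∈ f i, ∀ b ∈ f j, a * b = b * a) ∧
      Nat.card ↥(⨆ i, f i) = ∏ i, Nat.card ↥(f i) ∧ I ⊓ Subgroup.centralizer ((⨆ i, f i : Subgroup S) : Set S) = ⊥ := by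
  have hFn : (Cfsg.fittingSubgroup S).Normal := Cfsg.Agent.Lib.Helper71.fittingSubgroup_normal
  have hFnil : Group.IsNilpotent ↥(Cfsg.fittingSubgroup S) :=
    Cfsg.Agent.Lib.Helper71.fittingSubgroup_isNilpotent
  obtain ⟨hIc, hI2⟩ := hI
  have hJc : ∀ g h : ↥I, g * h = h * g := fun g h => hIc.is_comm.comm g h
  have hJ2 : ∀ g : ↥I, g * g = 1 := by
    intro g
    apply Subtype.ext
    have := hI2 g g.2
    rw [pow_two] at this
    exact this
  let κ : ↥I →* MulAut ↥(Cfsg.fittingSubgroup S) :=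
    (MulAut.conjNormal (H := Cfsg.fittingSubgroup S)).comp I.subtype
  have hκapp : ∀ (g : ↥I) (x : ↥(Cfsg.fittingSubgroup S)),
      ((κ g x : ↥(Cfsg.fittingSubgroup S)) : S) = (g : S) * x * (g : S)⁻¹ := fun g x => rfl
  have hκinj : Function.Injective κ := by
    rw [injective_iff_map_eq_one]
    intro g hg
    have hgc : (g : S) ∈ Subgroup.centralizer (Cfsg.fittingSubgroup S : Set S) := by
      rw [Subgroup.mem_centralizer_iff]
      intro x hx
      have h1 : ((κ g ⟨x, hx⟩ : ↥(Cfsg.fittingSubgroup S)) : S) = x := by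
        rw [hg]; rfl
      rw [hκapp] at h1
      have h2 : (g : S) * x = x * g := by
        have := congrArg (· * (g : S)) h1
        simpa [mul_assoc] using this
      exact h2.symm
    have hgF : (g : S) ∈ Cfsg.fittingSubgroup S := Cfsg.Agent.S0044.result hgc
    have h4 : (g : S) * (g : S) = 1 := congrArg Subtype.val (hJ2 g)
    have h3 : (⟨(g : S), hgF⟩ : ↥(Cfsg.fittingSubgroup S)) = 1 :=
      eq_one_of_mul_self_of_odd hF (Subtype.ext h4)
    have h5 : (g : S) = 1 := congrArg Subtype.val h3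
    exact Subtype.ext h5
  obtain ⟨a, hap, haeig, hacomm, hacard, hafix⟩ :=
    exists_eigen_family hFnil hF hJc hJ2 κ hκinj n hIn
  have hzp : ∀ i, Subgroup.zpowers ((a i : ↥(Cfsg.fittingSubgroup S)) : S) =
      (Subgroup.zpowers (a i)).map (Cfsg.fittingSubgroup S).subtype := by
    intro i
    rw [MonoidHom.map_zpowers]
    rfl
  have hcardz : ∀ i, Nat.card ↥(Subgroup.zpowers ((a i : ↥(Cfsg.fittingSubgroup S)) : S)) =
      orderOf (a i) := by
    intro i
    rw [Nat.card_zpowers, Subgroup.orderOf_coe]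
  have hconj : ∀ (g : S) (hg : g ∈ I) (i : Fin n),
      g * (a i : S) * g⁻¹ = (a i : S) ∨ g * (a i : S) * g⁻¹ = ((a i : S))⁻¹ := by
    intro g hg i
    rcases haeig i ⟨g, hg⟩ with h | h
    · left
      have := congrArg Subtype.val h
      rw [hκapp] at this
      exact this
    · right
      have := congrArg Subtype.val h
      rw [hκapp] at this
      exact this
  refine ⟨fun i => Subgroup.zpowers ((a i : ↥(Cfsg.fittingSubgroup S)) : S), ?_, ?_, ?_, ?_, ?_, ?_⟩
  · intro i
    rw [hcardz]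
    exact hap i
  · intro i
    exact (Subgroup.zpowers_le).2 (a i).2
  · intro i g hg
    apply Subgroup.mem_normalizer_fintype
    intro x hx
    obtain ⟨k, rfl⟩ := Subgroup.mem_zpowers_iff.1 hx
    have h1 : g * (a i : S) ^ k * g⁻¹ = (g * (a i : S) * g⁻¹) ^ k := by
      rw [conj_zpow]
    rw [SetLike.mem_coe, h1]
    rcases hconj g hg i with h | h
    · rw [h]
      exact Subgroup.zpow_mem _ (Subgroup.mem_zpowers _) k
    · rw [h]
      exact Subgroup.zpow_mem _ (Subgroup.inv_mem _ (Subgroup.mem_zpowers _)) k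
  · intro i j _ x hx y hy
    obtain ⟨k, rfl⟩ := Subgroup.mem_zpowers_iff.1 hx
    obtain ⟨l, rfl⟩ := Subgroup.mem_zpowers_iff.1 hy
    have hc : Commute ((a i : ↥(Cfsg.fittingSubgroup S)) : S) (a j : S) := by
      have := congrArg Subtype.val (hacomm i j)
      exact this
    exact (hc.zpow_zpow k l).eq
  · have hsup : (⨆ i, Subgroup.zpowers ((a i : ↥(Cfsg.fittingSubgroup S)) : S)) =
        (⨆ i, Subgroup.zpowers (a i)).map (Cfsg.fittingSubgroup S).subtype := by
      rw [Subgroup.map_iSup]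
      exact iSup_congr hzp
    rw [hsup, Subgroup.card_map_of_injective (Subgroup.subtype_injective _), hacard]
    exact Finset.prod_congr rfl (fun i _ => (hcardz i).symm)
  · rw [eq_bot_iff]
    rintro g ⟨hgI, hgc⟩
    rw [Subgroup.mem_bot]
    have h1 : (⟨g, hgI⟩ : ↥I) = 1 := by
      apply hafix
      intro i
      apply Subtype.ext
      rw [hκapp]
      have hmem : ((a i : ↥(Cfsg.fittingSubgroup S)) : S) ∈
          (⨆ i, Subgroup.zpowers ((a i : ↥(Cfsg.fittingSubgroup S)) : S)) :=
        (le_iSup (fun i => Subgroup.zpowers ((a i : ↥(Cfsg.fittingSubgroup S)) : S)) i)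
          (Subgroup.mem_zpowers _)
      have h2 := (Subgroup.mem_centralizer_iff.1 hgc) _ hmem
      show g * (a i : S) * g⁻¹ = (a i : S)
      rw [← h2, mul_inv_cancel_right]
    exact congrArg Subtype.val h1

end Cfsg.Agent.S4408
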