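import Cfsg.Statements.S4409
import Cfsg.Agent.Lib.Helper73.NoAb8Amb3
-- import your own Cfsg.Agent.* helpers here

set_option autoImplicit false
open Cfsg

namespace Cfsg.Agent.S4409

open Cfsg.Agent.Lib.Helper73 Subgroup

theorem le_normalizer_of_conj_mem {S : Type*} [Group S] (K Y : Subgroup S)
    (h : ∀ k ∈ K, ∀ y ∈ Y, k * y * k⁻¹ ∈ Y) : K ≤ normalizer (Y : Set S) := by
  intro k hk
  rw [mem_normalizer_iff]
  intro y
  constructor
  · intro hy
    exact h k hk y hy
  · intro hy
    have := h k⁻¹ (K.inv_mem hk) _ hy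
    simpa [mul_assoc] using this

/-- Let S be a finite solvable group with O_{2'}(S) = 1 that contains a non-cyclic abelian subgroup of order 8, while no proper subgroup of S of 2-power index contains one. Then a Sylow 2-subgroup X of S is normal in S, and one of the following holds: X is abelian; X is extraspecial of order at least 32; X has a generalized quaternion subgroup X₀ of index 2 with X = X₀·C_X(X₀); or X is special with centre of order 4. -/
theorem result {S : Type*} [Group S] [Finite S]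
    [Group.IsSolvable S] (hO : Cfsg.pPrimeCore 2 S = ⊥)
    (h8 : ∃ A : Subgroup S, IsMulCommutative ↥A ∧ ¬ IsCyclic ↥A ∧ Nat.card ↥A = 8)
    (hmin : ∀ R : Subgroup S, R ≠ ⊤ → (∃ k : ℕ, R.index = 2 ^ k) →
      ¬ ∃ A : Subgroup S, A ≤ R ∧ IsMulCommutative ↥A ∧ ¬ IsCyclic ↥A ∧ Nat.card ↥A = 8)
    (X : Sylow 2 S) :
    (X : Subgroup S).Normal ∧
      (IsMulCommutative ↥X ∨
        (Cfsg.IsExtraspecial 2 ↥X ∧ 32 ≤ Nat.card ↥X) ∨
        (∃ (X₀ : Subgroup S) (k : ℕ), X₀ ≤ (X : Subgroup S) ∧ X₀.relIndex (X : Subgroup S) = 2 ∧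
          Nonempty (↥X₀ ≃* QuaternionGroup (2 ^ (k + 1))) ∧ X₀ ⊔ ((X : Subgroup S) ⊓ Subgroup.centralizer (X₀ : Set S)) = (X : Subgroup S)) ∨
        (Cfsg.IsSpecial 2 ↥X ∧ Nat.card ↥(Subgroup.center ↥X) = 4)) := by
  have : Fact (Nat.Prime 2) := ⟨Nat.prime_two⟩
  have hXT := sylow_eq_pCore hO h8 hmin X
  have hXn : (X : Subgroup S).Normal := hXT ▸ Cfsg.Agent.Lib.Helper55.pCore_normal' 2
  refine ⟨hXn, ?_⟩
  obtain ⟨K, hK, hKodd⟩ := exists_hall_two_compl X
  let φ : S →* MulAut ↥(X : Subgroup S) := MulAut.conjNormal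
  have hφ : ∀ (k : S) (x : ↥(X : Subgroup S)), ((φ k) x : S) = k * x * k⁻¹ := fun k x =>
    MulAut.conjNormal_apply k x
  obtain ⟨𝒦, h𝒦⟩ : ∃ 𝒦 : Subgroup (MulAut ↥(X : Subgroup S)), 𝒦 = K.map φ := ⟨_, rfl⟩
  have hs : MinSetup ↥(X : Subgroup S) 𝒦 := by
    refine ⟨X.2, ?_, ?_, ?_⟩
    · have hdvd : Nat.card 𝒦 ∣ Nat.card K := by rw [h𝒦]; exact Subgroup.card_map_dvd K φ
      exact Odd.of_dvd_nat hKodd hdvd
    · obtain ⟨A, hAc, hAnc, hA8⟩ := h8
      have hA2 : IsPGroup 2 A := isPGroup_two_of_card_eight A hA8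
      have hAX : A ≤ X := by
        have h1 : IsPGroup 2 (A ⊔ (X : Subgroup S) : Subgroup S) :=
          IsPGroup.to_sup_of_normal_right hA2 X.2
        have h2 := X.3 h1 le_sup_right
        rw [← h2]
        exact le_sup_left
      have e := Subgroup.subgroupOfEquivOfLe hAX
      refine ⟨A.subgroupOf X, ?_, ?_, ?_⟩
      · apply isMulCommutative_of_forall
        intro x hx y hy
        apply Subtype.ext
        exact comm_of_isMulCommutative hAc x (mem_subgroupOf.mp hx) y (mem_subgroupOf.mp hy)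
      · intro h
        exact hAnc (isCyclic_of_surjective e e.surjective)
      · rw [← hA8]
        exact Nat.card_congr e.toEquiv
    · intro Y hY hYinv B hBY hBc hB8
      by_contra hBnc
      obtain ⟨Y', hY'⟩ : ∃ Y' : Subgroup S, Y' = Y.map (X : Subgroup S).subtype := ⟨_, rfl⟩
      have hY'X : Y' ≤ X := hY' ▸ Subgroup.map_subtype_le Y
      have hKY : K ≤ normalizer (Y' : Set S) := by
        apply le_normalizer_of_conj_mem
        intro k hk y hy
        rw [hY'] at hy ⊢
        obtain ⟨y0, hy0, rfl⟩ := hy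
        have h1 : φ k ∈ 𝒦 := by rw [h𝒦]; exact Subgroup.mem_map_of_mem φ hk
        have h2 := hYinv (φ k) h1 y0 hy0
        refine ⟨(φ k) y0, h2, ?_⟩
        exact hφ k y0
      have hne : Y' ≠ X := by
        intro h
        apply hY
        rw [eq_top_iff]
        intro x _
        have h1 : (x : S) ∈ Y' := by rw [h]; exact x.2
        rw [hY'] at h1
        obtain ⟨y0, hy0, hy1⟩ := h1
        have : y0 = x := Subtype.ext hy1
        rw [← this]; exact hy0
      obtain ⟨hRtop, hRidx⟩ := sup_hall_index X K hK Y' hY'X hKY hne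
      apply hmin (Y' ⊔ K) hRtop hRidx
      obtain ⟨h1, h2, h3⟩ := map_subtype_props (X : Subgroup S) B hBc hBnc hB8
      refine ⟨B.map (X : Subgroup S).subtype, ?_, h1, h2, h3⟩
      rw [hY']
      exact (Subgroup.map_mono hBY).trans le_sup_left
  rcases hs.core with h | h | ⟨N, a, b, hidx, hQ, hsup⟩ | h
  · left
    exact ⟨⟨fun x y => h x y⟩⟩
  · right; left; exact h
  · right; right; left
    refine ⟨N.map (X : Subgroup S).subtype, 0, Subgroup.map_subtype_le N, ?_, ?_, ?_⟩
    · have h1 : (N.map (X : Subgroup S).subtype).subgroupOf (X : Subgroup S) = N :=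
        Subgroup.comap_map_eq_self_of_injective (X : Subgroup S).subtype_injective N
      show ((N.map (X : Subgroup S).subtype).subgroupOf (X : Subgroup S)).index = 2
      rw [h1, hidx]
    · have e1 := Subgroup.equivMapOfInjective N (X : Subgroup S).subtype
        (X : Subgroup S).subtype_injective
      obtain ⟨e2⟩ := hQ.toPair.equiv
      have h2 : (2 : ℕ) ^ (0 + 1) = 2 := by norm_num
      rw [h2]
      exact ⟨e1.symm.trans e2.symm⟩
    · apply le_antisymm
      · apply sup_le (Subgroup.map_subtype_le N) inf_le_left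
      · intro x hx
        have h1 : (⟨x, hx⟩ : ↥(X : Subgroup S)) ∈ N ⊔ centralizer (N : Set ↥(X : Subgroup S)) := by
          rw [hsup]; exact mem_top _
        have hNn : N.Normal := Subgroup.normal_of_index_eq_two hidx
        rw [sup_comm, mem_sup_normal_iff] at h1
        obtain ⟨c, hc, n, hn, hcn⟩ := h1
        have hx' : x = (c : S) * (n : S) := by
          have := congrArg Subtype.val hcn
          exact this.symm
        rw [hx']
        apply Subgroup.mul_mem
        · apply (le_sup_right : _ ≤ N.map (X : Subgroup S).subtype ⊔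
            ((X : Subgroup S) ⊓ centralizer ((N.map (X : Subgroup S).subtype : Subgroup S) : Set S)))
          refine Subgroup.mem_inf.mpr ⟨c.2, ?_⟩
          rw [mem_centralizer_iff]
          rintro _ ⟨n', hn', rfl⟩
          have := mem_centralizer_iff.mp hc n' hn'
          exact congrArg Subtype.val this
        · apply (le_sup_left : N.map (X : Subgroup S).subtype ≤ _)
          exact Subgroup.mem_map_of_mem _ hn
  · right; right; right; exact h

end Cfsg.Agent.S4409
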