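import Cfsg.Statements.S4410
import Cfsg.Agent.S0044
import Cfsg.Agent.Lib.Helper1.PCore
import Cfsg.Agent.Lib.Helper1.Fitting
import Cfsg.Agent.Lib.Helper35.TvF2

set_option autoImplicit false
open Cfsg

namespace Cfsg.Agent.S4410

open Cfsg.Agent.Lib.Helper35

/-- If `O₂(G) = 1` then the Fitting subgroup of the finite group `G` has odd order. -/
theorem odd_card_fitting {G : Type*} [Group G] [Finite G] (h : Cfsg.pCore 2 G = ⊥) :
    Odd (Nat.card (Cfsg.fittingSubgroup G)) := by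
  have : Fact (Nat.Prime 2) := ⟨Nat.prime_two⟩
  set F := Cfsg.fittingSubgroup G with hF
  have hFn : F.Normal := Cfsg.Agent.Lib.Helper1.fittingSubgroup_normal
  have : Group.IsNilpotent ↥F := Cfsg.Agent.Lib.Helper1.fittingSubgroup_isNilpotent
  rw [← Nat.not_even_iff_odd]
  intro hev
  have hdvd : 2 ∣ Nat.card ↥F := even_iff_two_dvd.mp hev
  let Q : Sylow 2 ↥F := default
  have hQne : (Q : Subgroup ↥F) ≠ ⊥ := Q.ne_bot_of_dvd_card hdvd
  have : (Q : Subgroup ↥F).Normal := inferInstance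
  have : (Q : Subgroup ↥F).Characteristic := Q.characteristic_of_normal inferInstance
  have hn : ((Q : Subgroup ↥F).map F.subtype).Normal := inferInstance
  have hp : IsPGroup 2 ↥((Q : Subgroup ↥F).map F.subtype) := Q.2.map F.subtype
  have hle : (Q : Subgroup ↥F).map F.subtype ≤ Cfsg.pCore 2 G :=
    Cfsg.Agent.Lib.Helper1.le_pCore hn hp
  rw [h, le_bot_iff, Subgroup.map_eq_bot_iff_of_injective _ F.subtype_injective] at hle
  exact hQne hle

theorem result
    {V : Type*} [AddCommGroup V] [Module (ZMod 2) V] [Finite V]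
    (S : Subgroup (V ≃ₗ[ZMod 2] V)) (hS : Group.IsSolvable ↥S) (hO2 : Cfsg.pCore 2 ↥S = ⊥)
    (P : V ≃ₗ[ZMod 2] V) (hPS : P ∈ S) (hP4 : orderOf P = 4)
    (hcub : ((P : V →ₗ[ZMod 2] V) - LinearMap.id) ^ 3 = 0) :
    4 ≤ Nat.card ↥(LinearMap.range (((P : V →ₗ[ZMod 2] V) - LinearMap.id) ^ 2)) := by
  classical
  by_contra hlt
  rw [not_le] at hlt
  have : Finite (V ≃ₗ[ZMod 2] V) :=
    Finite.of_injective (fun e => (e : V → V)) DFunLike.coe_injective
  -- the homomorphism to the endomorphism ring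
  let φ : ↥S →* Module.End (ZMod 2) V :=
    (LinearEquiv.automorphismGroup.toLinearMapMonoidHom).comp S.subtype
  have hφ : ∀ x : ↥S, φ x = ((x : V ≃ₗ[ZMod 2] V) : V →ₗ[ZMod 2] V) := fun x => rfl
  have hφinj : Function.Injective φ := by
    intro x y hxy
    apply Subtype.ext
    exact LinearEquiv.toLinearMap_injective hxy
  have hφinv : ∀ x : ↥S, φ x * φ x⁻¹ = 1 ∧ φ x⁻¹ * φ x = 1 := by
    intro x
    constructor
    · rw [← map_mul, mul_inv_cancel, map_one]
    · rw [← map_mul, inv_mul_cancel, map_one]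
  -- the element `P` and its square `t`
  let P' : ↥S := ⟨P, hPS⟩
  have hP'4 : P' ^ 4 = 1 := by
    apply Subtype.ext
    rw [Subgroup.coe_pow, Subgroup.coe_one, ← hP4]
    exact pow_orderOf_eq_one P
  have hP'2 : P' ^ 2 ≠ 1 := by
    intro h
    have h' : P ^ 2 = 1 := by
      have := congrArg Subtype.val h
      rwa [Subgroup.coe_pow, Subgroup.coe_one] at this
    exact pow_ne_one_of_lt_orderOf (by norm_num) (by rw [hP4]; norm_num) h'
  set t : ↥S := P' ^ 2 with ht
  have htt : t * t = 1 := by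
    rw [ht, ← pow_add]; exact hP'4
  have htinv : t⁻¹ = t := inv_eq_of_mul_eq_one_right htt
  have htP : t * P' = P' * t := by
    rw [ht, ← pow_succ, ← pow_succ']
  -- `t` is a transvection
  have hL : ((P : V →ₗ[ZMod 2] V) - LinearMap.id) ^ 2 = φ t - 1 := by
    have e1 : φ t = (P : V →ₗ[ZMod 2] V) * (P : V →ₗ[ZMod 2] V) := by
      rw [ht, pow_two, map_mul]; rfl
    have e2 : (LinearMap.id : V →ₗ[ZMod 2] V) = 1 := rfl
    rw [e1, e2]
    have : ((P : V →ₗ[ZMod 2] V) - 1) ^ 2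
        = (P : V →ₗ[ZMod 2] V) * (P : V →ₗ[ZMod 2] V) + 1
          - ((P : V →ₗ[ZMod 2] V) + (P : V →ₗ[ZMod 2] V)) := by noncomm_ring
    rw [this, end_add_self, sub_zero]
    have h1 : (1 : Module.End (ZMod 2) V) = -1 := by
      rw [eq_neg_iff_add_eq_zero]; exact end_add_self 1
    rw [sub_eq_add_neg, ← h1]
  rw [hL] at hlt
  have hfr : Module.finrank (ZMod 2) ↥(LinearMap.range (φ t - 1)) ≤ 1 := by
    have : Fintype ↥(LinearMap.range (φ t - 1)) := Fintype.ofFinite _
    have hc := Module.card_eq_pow_finrank (K := ZMod 2) (V := ↥(LinearMap.range (φ t - 1)))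
    rw [Nat.card_eq_fintype_card, hc, ZMod.card] at hlt
    by_contra hgt
    rw [not_le] at hgt
    have : 2 ^ 2 ≤ 2 ^ Module.finrank (ZMod 2) ↥(LinearMap.range (φ t - 1)) :=
      Nat.pow_le_pow_right (by norm_num) hgt
    omega
  obtain ⟨a', ha'⟩ := finrank_le_one_iff.mp hfr
  have hrange : ∀ v, (φ t - 1) v = 0 ∨ (φ t - 1) v = (a' : V) := by
    intro v
    obtain ⟨c, hc⟩ := ha' ⟨(φ t - 1) v, LinearMap.mem_range_self _ v⟩
    have hc' : c • (a' : V) = (φ t - 1) v := by
      have := congrArg Subtype.val hc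
      simpa using this
    have hall : ∀ c : ZMod 2, c = 0 ∨ c = 1 := by decide
    rcases hall c with rfl | rfl
    · left; rw [← hc', zero_smul]
    · right; rw [← hc', one_smul]
  have ha0 : (a' : V) ≠ 0 := by
    intro h0
    apply hP'2
    apply hφinj
    rw [map_one]
    have : φ t - 1 = 0 := by
      ext v
      rcases hrange v with h | h
      · rw [h]; rfl
      · rw [h, h0]; rfl
    exact sub_eq_zero.mp this
  have htv : IsTv (φ t) (a' : V) := ⟨by rw [← map_mul, htt, map_one], ha0, hrange⟩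
  -- the Fitting subgroup
  set F := Cfsg.fittingSubgroup ↥S with hF
  have hFn : F.Normal := Cfsg.Agent.Lib.Helper1.fittingSubgroup_normal
  have hFodd : Odd (Nat.card ↥F) := odd_card_fitting hO2
  have hCF : Subgroup.centralizer (F : Set ↥S) ≤ F := Cfsg.Agent.S0044.result
  set m := Nat.card ↥F with hm
  have hpowF : ∀ x : ↥S, x ∈ F → x ^ m = 1 := by
    intro x hx
    have := pow_card_eq_one' (G := ↥F) (x := ⟨x, hx⟩)
    have := congrArg Subtype.val this
    rwa [Subgroup.coe_pow, Subgroup.coe_one] at this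
  have hφpow : ∀ x : ↥S, x ∈ F → φ x ^ m = 1 := by
    intro x hx
    rw [← map_pow, hpowF x hx, map_one]
  -- `t` is not in `F`
  have htF : t ∉ F := by
    intro h
    apply hP'2
    have h2 : t ^ 2 = 1 := by rw [pow_two]; exact htt
    exact eq_one_of_pow_two_pow_of_odd t 1 m (by simpa using h2) hFodd (hpowF t h)
  -- some `y ∈ F` does not commute with `t`
  have hex : ∃ y ∈ F, y * t ≠ t * y := by
    by_contra hno
    push Not at hno
    apply htF
    apply hCF
    rw [Subgroup.mem_centralizer_iff]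
    intro y hy
    exact hno y hy
  obtain ⟨y, hyF, hyt⟩ := hex
  set s : ↥S := y * t * y⁻¹ with hs
  have hst : s ≠ t := by
    intro h
    apply hyt
    calc y * t = (y * t * y⁻¹) * y := by group
      _ = t * y := by rw [← hs, h]
  have hss : s * s = 1 := by
    rw [hs]
    calc y * t * y⁻¹ * (y * t * y⁻¹) = y * (t * t) * y⁻¹ := by group
      _ = 1 := by rw [htt]; group
  -- the set `T`
  let T : ↥S → Prop := fun x => x * x = 1 ∧ (∃ a, IsTv (φ x) a) ∧ x * t ∈ F
  have hTt : T t := ⟨htt, ⟨_, htv⟩, by rw [htt]; exact F.one_mem⟩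
  have hTs : T s := by
    refine ⟨hss, ⟨φ y (a' : V), ?_⟩, ?_⟩
    · have := htv.conj (φ y) (φ y⁻¹) (hφinv y).1 (hφinv y).2
      rwa [← map_mul, ← map_mul] at this
    · have e : s * t = y * (t * y⁻¹ * t⁻¹) := by rw [hs, htinv]; group
      rw [e]
      exact F.mul_mem hyF (hFn.conj_mem _ (F.inv_mem hyF) t)
  have hTmul : ∀ x₁ x₂ : ↥S, T x₁ → T x₂ → x₁ * x₂ ∈ F := by
    intro x₁ x₂ h₁ h₂
    have hx2inv : x₂⁻¹ = x₂ := inv_eq_of_mul_eq_one_right h₂.1
    have e : x₁ * x₂ = (x₁ * t) * (x₂ * t)⁻¹ := by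
      rw [mul_inv_rev, htinv, hx2inv, mul_assoc, ← mul_assoc t t, htt, one_mul]
    rw [e]
    exact F.mul_mem h₁.2.2 (F.inv_mem h₂.2.2)
  have hTconj : ∀ x₁ x₂ : ↥S, T x₁ → T x₂ → T (x₁ * x₂ * x₁) := by
    intro x₁ x₂ h₁ h₂
    obtain ⟨a₂, ha₂⟩ := h₂.2.1
    have hx1inv : x₁⁻¹ = x₁ := inv_eq_of_mul_eq_one_right h₁.1
    refine ⟨?_, ⟨φ x₁ a₂, ?_⟩, ?_⟩
    · calc x₁ * x₂ * x₁ * (x₁ * x₂ * x₁) = x₁ * x₂ * (x₁ * x₁) * x₂ * x₁ := by group
        _ = x₁ * (x₂ * x₂) * x₁ := by rw [h₁.1]; group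
        _ = 1 := by rw [h₂.1, mul_one, h₁.1]
    · have := ha₂.conj (φ x₁) (φ x₁⁻¹) (hφinv x₁).1 (hφinv x₁).2
      rw [hx1inv] at this
      rwa [← map_mul, ← map_mul] at this
    · have e : x₁ * x₂ * x₁ * t = (x₁ * x₂) * (x₁ * t) := by group
      rw [e]
      exact F.mul_mem (hTmul x₁ x₂ h₁ h₂) h₁.2.2
  -- every element of `T` is one of `t`, `s`, `t s t`
  have hT3 : ∀ x : ↥S, T x → x = t ∨ x = s ∨ x = t * s * t := by
    intro x hx
    by_cases h1 : x = t
    · exact Or.inl h1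
    by_cases h2 : x = s
    · exact Or.inr (Or.inl h2)
    right; right
    obtain ⟨a₃, ha₃⟩ := hx.2.1
    obtain ⟨a₂, ha₂⟩ := hTs.2.1
    apply hφinj
    rw [map_mul, map_mul]
    refine IsTv.triple htv ha₂ ha₃ (fun h => hst (hφinj h).symm) (fun h => h1 (hφinj h))
      (fun h => h2 (hφinj h)) m hFodd ?_ ?_ ?_ ?_
    · rw [← map_mul]; exact hφpow _ (hTmul t s hTt hTs)
    · rw [← map_mul]; exact hφpow _ (hTmul x t hx hTt)
    · rw [← map_mul]; exact hφpow _ (hTmul x s hx hTs)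
    · rw [← map_mul, ← map_mul, ← map_mul]
      exact hφpow _ (hTmul x _ hx (hTconj t s hTt hTs))
  -- `t s t ≠ s`
  have hcomm : t * s * t ≠ s := by
    intro h
    apply hst
    have h2 : (s * t) ^ 2 = 1 := by
      rw [pow_two]
      calc s * t * (s * t) = s * (t * s * t) := by group
        _ = 1 := by rw [h, hss]
    have h1 : s * t = 1 :=
      eq_one_of_pow_two_pow_of_odd (s * t) 1 m (by simpa using h2) hFodd
        (hpowF _ (hTmul s t hTs hTt))
    calc s = s * (t * t) := by rw [htt, mul_one]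
      _ = (s * t) * t := (mul_assoc s t t).symm
      _ = t := by rw [h1, one_mul]
  -- the conjugate of `s` by `P'`
  set q : ↥S := P' * s * P'⁻¹ with hq
  have hTq : T q := by
    obtain ⟨a₂, ha₂⟩ := hTs.2.1
    refine ⟨?_, ⟨φ P' a₂, ?_⟩, ?_⟩
    · rw [hq]
      calc P' * s * P'⁻¹ * (P' * s * P'⁻¹) = P' * (s * s) * P'⁻¹ := by group
        _ = 1 := by rw [hss]; group
    · have := ha₂.conj (φ P') (φ P'⁻¹) (hφinv P').1 (hφinv P').2
      rwa [← map_mul, ← map_mul] at this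
    · have e : q * t = P' * (s * t) * P'⁻¹ := by
        rw [hq]
        have : P'⁻¹ * t = t * P'⁻¹ := by
          rw [inv_mul_eq_iff_eq_mul, ← mul_assoc, ← htP, mul_assoc, mul_inv_cancel, mul_one]
        calc P' * s * P'⁻¹ * t = P' * s * (P'⁻¹ * t) := by group
          _ = P' * s * (t * P'⁻¹) := by rw [this]
          _ = P' * (s * t) * P'⁻¹ := by group
      rw [e]
      exact hFn.conj_mem _ hTs.2.2 P'
  have hqq : P' * q * P'⁻¹ = t * s * t := by
    rw [hq]
    calc P' * (P' * s * P'⁻¹) * P'⁻¹ = (P' ^ 2) * s * (P' ^ 2)⁻¹ := by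
          rw [pow_two, mul_inv_rev]; simp only [mul_assoc]
      _ = t * s * t := by rw [← ht, htinv]
  rcases hT3 q hTq with h | h | h
  · -- `q = t`
    apply hst
    have : s = P'⁻¹ * q * P' := by rw [hq]; group
    rw [this, h, mul_assoc, htP, ← mul_assoc, inv_mul_cancel, one_mul]
  · -- `q = s`
    apply hcomm
    rw [← hqq, h, ← hq, h]
  · -- `q = t s t`
    apply hcomm
    rw [← hqq, h]
    have : P' * (t * s * t) * P'⁻¹ = t * (P' * s * P'⁻¹) * t := by
      have h1 : P'⁻¹ * t = t * P'⁻¹ := by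
        rw [inv_mul_eq_iff_eq_mul, ← mul_assoc, ← htP, mul_assoc, mul_inv_cancel, mul_one]
      calc P' * (t * s * t) * P'⁻¹ = (P' * t) * s * (t * P'⁻¹) := by group
        _ = (t * P') * s * (P'⁻¹ * t) := by rw [htP, h1]
        _ = t * (P' * s * P'⁻¹) * t := by group
    rw [this, ← hq, h]
    calc t * (t * s * t) * t = (t * t) * s * (t * t) := by group
      _ = s := by rw [htt, one_mul, mul_one]

end Cfsg.Agent.S4410
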