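import Cfsg.Statements.S4412
import Cfsg.Agent.Lib.Helper35.InvolEigen
import Cfsg.Agent.Lib.Helper35.InvolAut
import Cfsg.Agent.Lib.Helper35.FpfCyclic

set_option autoImplicit false
open Cfsg

namespace Cfsg.Agent.S4412

open Cfsg.Agent.Lib.Helper35


def uT (i : Fin 3) : Fin 3 → ℤˣ := Pi.mulSingle i (-1)
def ut (k : Fin 3) : Fin 3 → ℤˣ := fun j => if j = k then 1 else -1
def uz : Fin 3 → ℤˣ := fun _ => -1

theorem cases8' : ∀ u : Fin 3 → ℤˣ, u = 1 ∨ (∃ i, u = uT i) ∨ (∃ k, u = ut k) ∨ u = uz := by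
  decide

theorem uT_apply : ∀ i j : Fin 3, uT i j = if j = i then -1 else 1 := by decide
theorem ut_apply : ∀ k j : Fin 3, ut k j = if j = k then 1 else -1 := by decide
theorem ut_eq_mul : ∀ k : Fin 3, ∃ i j : Fin 3, i ≠ j ∧ i ≠ k ∧ j ≠ k ∧ ut k = uT i * uT j := by decide
theorem exists_two_others : ∀ i : Fin 3, ∃ j j' : Fin 3, j ≠ j' ∧ j ≠ i ∧ j' ≠ i := by decide
theorem u_mul_self : ∀ u : Fin 3 → ℤˣ, u * u = 1 := by decide
theorem ut_mul : ut 0 * ut 1 = ut 2 ∧ ut 0 * ut 2 = ut 1 ∧ ut 1 * ut 0 = ut 2 ∧ ut 1 * ut 2 = ut 0 ∧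
    ut 2 * ut 0 = ut 1 ∧ ut 2 * ut 1 = ut 0 := by decide
theorem uz_mul_ut : ∀ k : Fin 3, uz * ut k = uT k := by decide
theorem uT_injective : ∀ i j : Fin 3, uT i = uT j → i = j := by decide

theorem rearr {G : Type*} [Group G] (hc : ∀ x y : G, x * y = y * x) :
    (∀ a b c d : G, b * a * d⁻¹ * c⁻¹ = a * b * c⁻¹ * d⁻¹) ∧
    (∀ a b c d : G, c * d⁻¹ * a * b⁻¹ = a * b⁻¹ * c * d⁻¹) ∧
    (∀ a b c d : G, d * c⁻¹ * b⁻¹ * a = a * b⁻¹ * c⁻¹ * d) ∧
    (∀ a b c d : G, b * a * d * c = a * b * c * d) ∧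
    (∀ a b c d : G, c * d * a * b = a * b * c * d) := by
  let _ : CommGroup G := { (inferInstance : Group G) with mul_comm := hc }
  have h1 : ∀ x y z w : Additive G, y + x + -w + -z = x + y + -z + -w := by intros; abel
  have h2 : ∀ x y z w : Additive G, z + -w + x + -y = x + -y + z + -w := by intros; abel
  have h3 : ∀ x y z w : Additive G, w + -z + -y + x = x + -y + -z + w := by intros; abel
  have h4 : ∀ x y z w : Additive G, y + x + w + z = x + y + z + w := by intros; abel
  have h5 : ∀ x y z w : Additive G, z + w + x + y = x + y + z + w := by intros; abel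
  exact ⟨fun a b c d => h1 (Additive.ofMul a) (Additive.ofMul b) (Additive.ofMul c) (Additive.ofMul d),
    fun a b c d => h2 (Additive.ofMul a) (Additive.ofMul b) (Additive.ofMul c) (Additive.ofMul d),
    fun a b c d => h3 (Additive.ofMul a) (Additive.ofMul b) (Additive.ofMul c) (Additive.ofMul d),
    fun a b c d => h4 (Additive.ofMul a) (Additive.ofMul b) (Additive.ofMul c) (Additive.ofMul d),
    fun a b c d => h5 (Additive.ofMul a) (Additive.ofMul b) (Additive.ofMul c) (Additive.ofMul d)⟩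

theorem cases8 : ∀ u : Fin 3 → ℤˣ, u = 1 ∨ (∃ i, u = Pi.mulSingle i (-1)) ∨
    (∃ k, u = fun j => if j = k then 1 else -1) ∨ u = fun _ => -1 := by
  decide

theorem units_cases (u : ℤˣ) : u = 1 ∨ u = -1 := Int.units_eq_one_or u

/-- the structural core: existence of the "coordinate system" -/
theorem core
    {P : Type*} [Group P] [Finite P] (p : ℕ) (hp : p.Prime) (hp2 : p ≠ 2) (hP : IsPGroup p P)
    (I : Subgroup (MulAut P)) (hI : Cfsg.IsElementaryAbelian 2 I) (hI8 : Nat.card ↥I = 8) :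
    ∃ (a : Fin 3 → P) (E : (Fin 3 → ℤˣ) →* MulAut P),
      (∀ i, orderOf (a i) = p) ∧ (∀ i, a i ≠ (a i)⁻¹) ∧
      (∀ g, g ∈ I ↔ ∃ u, E u = g) ∧ Function.Injective E ∧
      (∀ u i, E u (a i) = (a i) ^ ((u i : ℤˣ) : ℤ)) ∧
      Nat.card (⨆ i, Subgroup.zpowers (a i) : Subgroup P) = p ^ 3 := by
  classical
  have : Fact p.Prime := ⟨hp⟩
  have hodd : Odd (Nat.card P) := by
    obtain ⟨n, hn⟩ := IsPGroup.iff_card.mp hP
    rw [hn]
    exact (hp.odd_of_ne_two hp2).pow
  have hnil : Group.IsNilpotent P := hP.isNilpotent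
  have : Finite ↥I := Nat.finite_of_card_ne_zero (by rw [hI8]; norm_num)
  have hJc : ∀ g h : ↥I, g * h = h * g := fun g h => hI.1.is_comm.comm g h
  have hJ2 : ∀ g : ↥I, g * g = 1 := by
    intro g
    apply Subtype.ext
    have := hI.2 g g.2
    rw [pow_two] at this
    exact this
  obtain ⟨a, haprime, heig, -, hcard, hfaith⟩ :=
    exists_eigen_family hnil hodd hJc hJ2 I.subtype I.subtype_injective 3 (by rw [hI8]; norm_num)
  have hord : ∀ i, orderOf (a i) = p := by
    intro i
    obtain ⟨n, hn⟩ := IsPGroup.iff_card.mp hP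
    have h1 : orderOf (a i) ∣ p ^ n := hn ▸ orderOf_dvd_natCard (a i)
    exact (Nat.prime_dvd_prime_iff_eq (haprime i) hp).mp ((haprime i).dvd_of_dvd_pow h1)
  have hne : ∀ i, a i ≠ (a i)⁻¹ := by
    intro i h
    have h1 : a i * a i = 1 := by
      nth_rewrite 2 [h]; exact mul_inv_cancel _
    have h2 := eq_one_of_mul_self_of_odd hodd h1
    have h3 := hord i
    rw [h2, orderOf_one] at h3
    exact hp.one_lt.ne h3
  -- the characters
  let χ : Fin 3 → ↥I → ℤˣ := fun i g => if (g : MulAut P) (a i) = a i then 1 else -1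
  have hχ : ∀ i (g : ↥I), (g : MulAut P) (a i) = (a i) ^ ((χ i g : ℤˣ) : ℤ) := by
    intro i g
    by_cases h : (g : MulAut P) (a i) = a i
    · simp only [χ, if_pos h]
      simpa using h
    · simp only [χ, if_neg h]
      rcases heig i g with h' | h'
      · exact absurd h' h
      · simpa using h'
  have hpow_inj : ∀ i (u v : ℤˣ), (a i) ^ ((u : ℤˣ) : ℤ) = (a i) ^ ((v : ℤˣ) : ℤ) → u = v := by
    intro i u v h
    rcases units_cases u with rfl | rfl <;> rcases units_cases v with rfl | rfl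
    · rfl
    · exfalso; apply hne i; simpa using h
    · exfalso; apply hne i; simpa using h.symm
    · rfl
  have hχmul : ∀ i (g h : ↥I), χ i (g * h) = χ i g * χ i h := by
    intro i g h
    apply hpow_inj i
    rw [← hχ i (g * h)]
    have : ((g * h : ↥I) : MulAut P) (a i) = (g : MulAut P) ((h : MulAut P) (a i)) := rfl
    rw [this, hχ i h, map_zpow, hχ i g, ← zpow_mul]
    push_cast
    rfl
  let s : ↥I →* (Fin 3 → ℤˣ) :=
    { toFun := fun g i => χ i g
      map_one' := by
        funext i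
        simp [χ]
      map_mul' := by
        intro g h
        funext i
        exact hχmul i g h }
  have hsinj : Function.Injective s := by
    rw [injective_iff_map_eq_one]
    intro g hg
    apply hfaith
    intro i
    have h1 : χ i g = 1 := congrFun hg i
    have := hχ i g
    rw [h1] at this
    simpa using this
  have hsbij : Function.Bijective s := by
    apply hsinj.bijective_of_nat_card_le
    rw [hI8]
    simp
  let e : ↥I ≃* (Fin 3 → ℤˣ) := MulEquiv.ofBijective s hsbij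
  refine ⟨a, I.subtype.comp e.symm.toMonoidHom, hord, hne, ?_, ?_, ?_, ?_⟩
  · intro g
    constructor
    · intro hg
      exact ⟨e ⟨g, hg⟩, by simp⟩
    · rintro ⟨u, rfl⟩
      exact (e.symm u).2
  · exact I.subtype_injective.comp e.symm.injective
  · intro u i
    have h1 := hχ i (e.symm u)
    have h2 : χ i (e.symm u) = u i := by
      have : e (e.symm u) = u := e.apply_symm_apply u
      exact congrFun this i
    rw [h2] at h1
    exact h1
  · rw [hcard]
    simp [hord]

theorem result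
    {P : Type*} [Group P] [Finite P] (p : ℕ) (hp : p.Prime) (hp2 : p ≠ 2) (hP : IsPGroup p P)
    (I : Subgroup (MulAut P)) (hI : Cfsg.IsElementaryAbelian 2 I) (hI8 : Nat.card ↥I = 8)
    (I₀ : Subgroup (MulAut P)) (hI₀ : I₀ < I)
    (hdisj : ∀ T ∈ I₀, T ≠ 1 → ∃ g : P, ∀ x : P, (T x = x ↔ x ∈ Subgroup.zpowers g))
    (hprod : ∀ T ∈ I, ∀ T' ∈ I, T ≠ 1 → T' ≠ 1 → (¬ ∃ g : P, ∀ x : P, (T x = x ↔ x ∈ Subgroup.zpowers g)) →
      (¬ ∃ g : P, ∀ x : P, (T' x = x ↔ x ∈ Subgroup.zpowers g)) → T * T' ∈ I₀) :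
    IsMulCommutative P ∧ (∃ a b c : P, Subgroup.closure {a, b, c} = ⊤) ∧ (¬ ∃ a b : P, Subgroup.closure {a, b} = ⊤) ∧
      Nat.card {T : MulAut P // T ∈ I ∧ T ≠ 1 ∧ ¬ ∃ g : P, ∀ x : P, (T x = x ↔ x ∈ Subgroup.zpowers g)} = 3 ∧
      Subgroup.closure {T : MulAut P | T ∈ I ∧ T ≠ 1 ∧ ¬ ∃ g : P, ∀ x : P, (T x = x ↔ x ∈ Subgroup.zpowers g)} = I ∧
      (I₀ : Set (MulAut P)) = {S : MulAut P | ∃ T T' : MulAut P, T ∈ I ∧ T' ∈ I ∧ T ≠ 1 ∧ T' ≠ 1 ∧
        (¬ ∃ g : P, ∀ x : P, (T x = x ↔ x ∈ Subgroup.zpowers g)) ∧ (¬ ∃ g : P, ∀ x : P, (T' x = x ↔ x ∈ Subgroup.zpowers g)) ∧ S = T * T'} := by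
  classical
  have : Fact p.Prime := ⟨hp⟩
  obtain ⟨a, E, hord, hne, hIE, hEinj, hEact, hAcard⟩ := core p hp hp2 hP I hI hI8
  have hoddP : Odd (Nat.card P) := by
    obtain ⟨n, hn⟩ := IsPGroup.iff_card.mp hP
    rw [hn]
    exact (hp.odd_of_ne_two hp2).pow
  have hEmem : ∀ u, E u ∈ I := fun u => (hIE _).mpr ⟨u, rfl⟩
  have hEE : ∀ u v x, E u (E v x) = E (u * v) x := by
    intro u v x
    rw [map_mul]; rfl
  have hEsq : ∀ u x, E u (E u x) = x := by
    intro u x
    rw [hEE, u_mul_self, map_one]; rfl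
  have hEcomm : ∀ u v x, E u (E v x) = E v (E u x) := by
    intro u v x
    rw [hEE, hEE, mul_comm]
  have hone : ∀ i, (a i) ^ (((1 : ℤˣ) : ℤˣ) : ℤ) = a i := by intro i; simp
  have hneg : ∀ i, (a i) ^ (((-1 : ℤˣ) : ℤˣ) : ℤ) = (a i)⁻¹ := by intro i; simp
  -- Step A: the three broad elements
  have hTne : ∀ i, E (uT i) ≠ 1 := by
    intro i h
    have h1 := hEact (uT i) i
    rw [h, uT_apply, if_pos rfl, hneg] at h1
    exact hne i h1
  have haux : ∀ j j' : Fin 3, j ≠ j' → ∀ g : P, a j ∈ Subgroup.zpowers g →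
      a j' ∈ Subgroup.zpowers g → False := by
    intro j j' hjj' g hj hj'
    have hcyc : IsCyclic ↥(Subgroup.zpowers g) := inferInstance
    have heq : Subgroup.zpowers (a j) = Subgroup.zpowers (a j') := by
      apply eq_of_card_eq_of_le_isCyclic hcyc ((Subgroup.zpowers_le).mpr hj)
        ((Subgroup.zpowers_le).mpr hj')
      rw [Nat.card_zpowers, Nat.card_zpowers, hord, hord]
    have hmem : a j' ∈ Subgroup.zpowers (a j) := by
      rw [heq]; exact Subgroup.mem_zpowers _
    obtain ⟨n, hn⟩ := Subgroup.mem_zpowers_iff.mp hmem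
    have h1 : E (uT j) (a j') = a j' := by
      rw [hEact, uT_apply, if_neg (Ne.symm hjj'), hone]
    have h2 : E (uT j) (a j') = (a j')⁻¹ := by
      rw [← hn, map_zpow, hEact, uT_apply, if_pos rfl, hneg, inv_zpow]
    rw [h1] at h2
    exact hne j' h2
  have hTbroad : ∀ i, ¬ ∃ g : P, ∀ x : P, (E (uT i) x = x ↔ x ∈ Subgroup.zpowers g) := by
    rintro i ⟨g, hg⟩
    obtain ⟨j, j', hjj', hji, hj'i⟩ := exists_two_others i
    apply haux j j' hjj' g
    · rw [← hg, hEact, uT_apply, if_neg hji, hone]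
    · rw [← hg, hEact, uT_apply, if_neg hj'i, hone]
  -- Step B: the three elements of `I₀`
  have htI0 : ∀ k, E (ut k) ∈ I₀ := by
    intro k
    obtain ⟨i, j, -, -, -, h⟩ := ut_eq_mul k
    rw [h, map_mul]
    exact hprod _ (hEmem _) _ (hEmem _) (hTne i) (hTne j) (hTbroad i) (hTbroad j)
  have htne : ∀ k, E (ut k) ≠ 1 := by
    intro k h
    obtain ⟨j, j', -, hjk, -⟩ := exists_two_others k
    have h1 := hEact (ut k) j
    rw [h, ut_apply, if_neg hjk, hneg] at h1
    exact hne j h1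
  choose c hc using fun k => hdisj (E (ut k)) (htI0 k) (htne k)
  have hak : ∀ k, a k ∈ Subgroup.zpowers (c k) := by
    intro k
    rw [← hc, hEact, ut_apply, if_pos rfl, hone]
  -- Step E: the action on the cyclic groups
  have hEc : ∀ u k, ∀ x ∈ Subgroup.zpowers (c k), E u x = x ^ ((u k : ℤˣ) : ℤ) := by
    intro u k x hx
    have hmem : E u (c k) ∈ Subgroup.zpowers (c k) := by
      rw [← hc, hEcomm, (hc k (c k)).mpr (Subgroup.mem_zpowers _)]
    obtain ⟨e', he'⟩ := (IsPGroup.iff_orderOf.mp hP) (c k)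
    have hcases := eq_or_eq_inv_of_invol_of_cyclic hp hp2 (c k) e' he' (E u).toMonoidHom
      (hEsq u (c k)) hmem
    obtain ⟨n, hn⟩ := Subgroup.mem_zpowers_iff.mp (hak k)
    obtain ⟨m, hm⟩ := Subgroup.mem_zpowers_iff.mp hx
    rcases hcases with h | h
    · have h' : E u (c k) = c k := h
      have h1 : E u (a k) = a k := by rw [← hn, map_zpow, h']
      rw [hEact] at h1
      have huk : u k = 1 := by
        rcases units_cases (u k) with h2 | h2
        · exact h2
        · exfalso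
          rw [h2, hneg] at h1
          exact hne k h1.symm
      rw [huk, ← hm, map_zpow, h']
      simp
    · have h' : E u (c k) = (c k)⁻¹ := h
      have h1 : E u (a k) = (a k)⁻¹ := by rw [← hn, map_zpow, h', inv_zpow]
      rw [hEact] at h1
      have huk : u k = -1 := by
        rcases units_cases (u k) with h2 | h2
        · exfalso
          rw [h2, hone] at h1
          exact hne k h1
        · exact h2
      rw [huk, ← hm, map_zpow, h']
      simp
  -- Step F: `z` is fixed-point-free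
  have hzfpf : ∀ x, E uz x = x → x = 1 := by
    intro v hv
    by_contra hv1
    let D : Subgroup P := (E uz).toMonoidHom.eqLocus (MonoidHom.id P)
    have hD : ∀ x, x ∈ D ↔ E uz x = x := fun x => Iff.rfl
    have hvD : v ∈ D := (hD v).mpr hv
    have hex : ∃ k, ∃ w ∈ D, w ≠ 1 ∧ E (ut k) w = w := by
      by_contra hno
      push Not at hno
      have hinv : ∀ k, ∀ x ∈ D, E (ut k) x = x⁻¹ := by
        intro k
        apply inv_of_fpf D (E (ut k)).toMonoidHom
        · intro x hx
          rw [hD] at hx ⊢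
          change E uz (E (ut k) x) = E (ut k) x
          rw [hEcomm, hx]
        · intro x _
          exact hEsq (ut k) x
        · intro x hx hfix
          by_contra hx1
          exact hno k x hx hx1 hfix
      apply hno 2 v hvD hv1
      rw [← ut_mul.1, ← hEE, hinv 1 v hvD, map_inv, hinv 0 v hvD, inv_inv]
    obtain ⟨k, w, hwD, hw1, hwk⟩ := hex
    have hwc : w ∈ Subgroup.zpowers (c k) := (hc k w).mp hwk
    have h1 := hEc uz k w hwc
    rw [(hD w).mp hwD] at h1
    have h2 : w = w⁻¹ := by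
      have : ((uz k : ℤˣ) : ℤ) = -1 := rfl
      rw [this] at h1
      simpa using h1
    apply hw1
    apply eq_one_of_mul_self_of_odd hoddP
    nth_rewrite 2 [h2]
    exact mul_inv_cancel w
  have hzinv : ∀ x, E uz x = x⁻¹ := by
    intro x
    apply inv_of_fpf ⊤ (E uz).toMonoidHom (fun _ _ => Subgroup.mem_top _)
      (fun x _ => hEsq uz x) (fun x _ h => hzfpf x h) x (Subgroup.mem_top _)
  have hcommP : ∀ x y : P, x * y = y * x := by
    intro x y
    have h1 : E uz (x * y) = (x * y)⁻¹ := hzinv _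
    rw [map_mul, hzinv, hzinv, mul_inv_rev] at h1
    have h2 := congrArg (fun w => w⁻¹) h1
    simp only [mul_inv_rev, inv_inv] at h2
    exact h2.symm
  -- Step G: generation by `c 0`, `c 1`, `c 2`
  obtain ⟨r1, r2, r3, r4, r5⟩ := rearr hcommP
  obtain ⟨m01, m02, m10, m12, m20, m21⟩ := ut_mul
  have hgen : Subgroup.closure {c 0, c 1, c 2} = (⊤ : Subgroup P) := by
    rw [eq_top_iff]
    intro x _
    set b := E (ut 0) x with hb
    set c' := E (ut 1) x with hc'
    set d := E (ut 2) x with hd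
    have e00 : E (ut 0) b = x := hEsq _ _
    have e01 : E (ut 0) c' = d := by rw [hc', hEE, m01]
    have e02 : E (ut 0) d = c' := by rw [hd, hEE, m02]
    have e10 : E (ut 1) b = d := by rw [hb, hEE, m10]
    have e11 : E (ut 1) c' = x := hEsq _ _
    have e12 : E (ut 1) d = b := by rw [hd, hEE, m12]
    have e20 : E (ut 2) b = c' := by rw [hb, hEE, m20]
    have e21 : E (ut 2) c' = b := by rw [hc', hEE, m21]
    have e22 : E (ut 2) d = x := hEsq _ _
    have hw1 : x * b * c'⁻¹ * d⁻¹ ∈ Subgroup.zpowers (c 0) := by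
      rw [← hc]
      simp only [map_mul, map_inv]
      rw [← hb, e00, e01, e02]
      exact r1 _ _ _ _
    have hw2 : x * b⁻¹ * c' * d⁻¹ ∈ Subgroup.zpowers (c 1) := by
      rw [← hc]
      simp only [map_mul, map_inv]
      rw [← hc', e10, e11, e12]
      exact r2 _ _ _ _
    have hw3 : x * b⁻¹ * c'⁻¹ * d ∈ Subgroup.zpowers (c 2) := by
      rw [← hc]
      simp only [map_mul, map_inv]
      rw [← hd, e20, e21, e22]
      exact r3 _ _ _ _
    have hw0a : x * b * c' * d ∈ Subgroup.zpowers (c 0) := by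
      rw [← hc]
      simp only [map_mul]
      rw [← hb, e00, e01, e02]
      exact r4 _ _ _ _
    have hw0b : x * b * c' * d ∈ Subgroup.zpowers (c 1) := by
      rw [← hc]
      simp only [map_mul]
      rw [← hc', e10, e11, e12]
      exact r5 _ _ _ _
    have hw0 : x * b * c' * d = 1 := by
      have h1 := hEc (uT 0) 0 _ hw0a
      have h2 := hEc (uT 0) 1 _ hw0b
      rw [h1] at h2
      have e1 : ((uT 0 0 : ℤˣ) : ℤ) = -1 := rfl
      have e2 : ((uT 0 1 : ℤˣ) : ℤ) = 1 := rfl
      rw [e1, e2, zpow_neg_one, zpow_one] at h2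
      apply eq_one_of_mul_self_of_odd hoddP
      nth_rewrite 2 [← h2]
      exact mul_inv_cancel _
    have h4 : x ^ 4 ∈ Subgroup.closure {c 0, c 1, c 2} := by
      rw [← four_split hcommP x b c' d, hw0, one_mul]
      have hsub : ∀ k : Fin 3, Subgroup.zpowers (c k) ≤ Subgroup.closure {c 0, c 1, c 2} := by
        intro k
        rw [Subgroup.zpowers_le]
        apply Subgroup.subset_closure
        fin_cases k <;> simp
      exact Subgroup.mul_mem _ (Subgroup.mul_mem _ (hsub 0 hw1) (hsub 1 hw2)) (hsub 2 hw3)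
    have hcop : Nat.Coprime 4 (orderOf x) := by
      have ho : Odd (orderOf x) := Odd.of_dvd_nat hoddP (orderOf_dvd_natCard x)
      exact Nat.Coprime.pow_left 2 (Nat.coprime_two_left.mpr ho)
    obtain ⟨m, hm⟩ := exists_pow_eq_self_of_coprime hcop
    rw [← hm]
    exact Subgroup.pow_mem _ h4 m
  -- Step H: not two-generated
  have hnot2 : ¬ ∃ a b : P, Subgroup.closure {a, b} = ⊤ := by
    apply not_two_generated hcommP p hp (⨆ i, Subgroup.zpowers (a i)) _ hAcard.ge
    intro x hx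
    refine Subgroup.iSup_induction (fun i => Subgroup.zpowers (a i)) (C := fun x => x ^ p = 1) hx
      ?_ (one_pow p) ?_
    · intro i y hy
      obtain ⟨n, rfl⟩ := Subgroup.mem_zpowers_iff.mp hy
      rw [← zpow_natCast, ← zpow_mul, mul_comm, zpow_mul, zpow_natCast, ← hord i, pow_orderOf_eq_one,
        one_zpow]
    · intro y y' hy hy'
      rw [(show Commute y y' from hcommP y y').mul_pow, hy, hy', one_mul]
  -- Step I: classification of the broad elements
  have hbroad : ∀ T : MulAut P, (T ∈ I ∧ T ≠ 1 ∧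
      ¬ ∃ g : P, ∀ x : P, (T x = x ↔ x ∈ Subgroup.zpowers g)) ↔ ∃ i, T = E (uT i) := by
    intro T
    constructor
    · rintro ⟨hTI, hT1, hTc⟩
      obtain ⟨u, rfl⟩ := (hIE T).mp hTI
      rcases cases8' u with rfl | ⟨i, rfl⟩ | ⟨k, rfl⟩ | rfl
      · exact absurd (map_one E) hT1
      · exact ⟨i, rfl⟩
      · exact absurd (hdisj _ (htI0 k) (htne k)) hTc
      · exfalso
        apply hTc
        refine ⟨1, fun x => ?_⟩
        rw [Subgroup.zpowers_one_eq_bot, Subgroup.mem_bot]
        constructor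
        · exact hzfpf x
        · rintro rfl; exact map_one _
    · rintro ⟨i, rfl⟩
      exact ⟨hEmem _, hTne i, hTbroad i⟩
  refine ⟨⟨⟨hcommP⟩⟩, ⟨c 0, c 1, c 2, hgen⟩, hnot2, ?_, ?_, ?_⟩
  · -- exactly three broad elements
    have hset : {T : MulAut P | T ∈ I ∧ T ≠ 1 ∧
        ¬ ∃ g : P, ∀ x : P, (T x = x ↔ x ∈ Subgroup.zpowers g)} = {E (uT 0), E (uT 1), E (uT 2)} := by
      ext T
      rw [Set.mem_ofPred_eq, hbroad T]
      constructor
      · rintro ⟨i, rfl⟩
        fin_cases i <;> simp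
      · intro h
        simp only [Set.mem_insert_iff, Set.mem_singleton_iff] at h
        rcases h with h | h | h
        · exact ⟨0, h⟩
        · exact ⟨1, h⟩
        · exact ⟨2, h⟩
    have hcard3 : ({E (uT 0), E (uT 1), E (uT 2)} : Set (MulAut P)).ncard = 3 := by
      rw [Set.ncard_eq_three]
      refine ⟨_, _, _, ?_, ?_, ?_, rfl⟩
      · intro h; exact absurd (uT_injective _ _ (hEinj h)) (by decide)
      · intro h; exact absurd (uT_injective _ _ (hEinj h)) (by decide)
      · intro h; exact absurd (uT_injective _ _ (hEinj h)) (by decide)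
    rw [← hcard3, ← hset]
    exact Nat.card_coe_set_eq _
  · -- the broad elements generate `I`
    apply le_antisymm
    · rw [Subgroup.closure_le]
      intro T hT
      exact hT.1
    · intro g hg
      obtain ⟨u, rfl⟩ := (hIE g).mp hg
      have hfac : ∀ i, E (Pi.mulSingle i (u i)) ∈ Subgroup.closure {T : MulAut P | T ∈ I ∧ T ≠ 1 ∧
          ¬ ∃ g : P, ∀ x : P, (T x = x ↔ x ∈ Subgroup.zpowers g)} := by
        intro i
        rcases units_cases (u i) with h | h
        · rw [h, Pi.mulSingle_one, map_one]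
          exact Subgroup.one_mem _
        · rw [h]
          apply Subgroup.subset_closure
          exact (hbroad _).mpr ⟨i, rfl⟩
      have hu : u = Pi.mulSingle 0 (u 0) * Pi.mulSingle 1 (u 1) * Pi.mulSingle 2 (u 2) := by
        rw [← Fin.prod_univ_three (fun i => Pi.mulSingle i (u i)), Finset.univ_prod_mulSingle]
      rw [hu, map_mul, map_mul]
      exact Subgroup.mul_mem _ (Subgroup.mul_mem _ (hfac 0) (hfac 1)) (hfac 2)
  · -- `I₀` is the set of products of two broad elements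
    ext S
    constructor
    · intro hS
      have hSI : S ∈ I := hI₀.le hS
      obtain ⟨u, rfl⟩ := (hIE S).mp hSI
      rcases cases8' u with rfl | ⟨i, rfl⟩ | ⟨k, rfl⟩ | rfl
      · refine ⟨E (uT 0), E (uT 0), hEmem _, hEmem _, hTne 0, hTne 0, hTbroad 0, hTbroad 0, ?_⟩
        rw [← map_mul, u_mul_self]
      · exact absurd (hdisj _ hS (hTne i)) (hTbroad i)
      · obtain ⟨i, j, -, -, -, h⟩ := ut_eq_mul k
        refine ⟨E (uT i), E (uT j), hEmem _, hEmem _, hTne i, hTne j, hTbroad i, hTbroad j, ?_⟩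
        rw [← map_mul, h]
      · exfalso
        have h0 : E (uT 0) ∈ I₀ := by
          rw [← uz_mul_ut 0, map_mul]
          exact I₀.mul_mem hS (htI0 0)
        exact absurd (hdisj _ h0 (hTne 0)) (hTbroad 0)
    · rintro ⟨T, T', hT, hT', hT1, hT'1, hTc, hT'c, rfl⟩
      exact hprod T hT T' hT' hT1 hT'1 hTc hT'c

end Cfsg.Agent.S4412
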