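import Cfsg.Statements.S4417
import Cfsg.Agent.Lib.Helper87.LinRepEigen

set_option autoImplicit false
open Cfsg

namespace Cfsg.Agent.S4417

/-- Let F be a field with q elements, p a prime not dividing q, and e the multiplicative order of q modulo p; assume e ≤ n. Then every p-subgroup of GL_n(F) has derived length at most ⌊log₂(n/e)⌋ + 1: that term of its derived series is trivial (n/e is the integer quotient). -/
theorem result {F : Type*} [Field F] [Fintype F] (q : ℕ) (hF : Fintype.card F = q) (p : ℕ) [Fact p.Prime] (hpq : ¬ p ∣ q) (n e : ℕ) (he : e = orderOf (q : ZMod p)) (hen : e ≤ n) (P : Subgroup (GL (Fin n) F)) (hP : IsPGroup p P) : derivedSeries ↥P (Nat.log 2 (n / e) + 1) = ⊥ := by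
  classical
  let K := AlgebraicClosure F
  let φ : Matrix.GeneralLinearGroup (Fin n) F →* Matrix.GeneralLinearGroup (Fin n) K :=
    Matrix.GeneralLinearGroup.map (algebraMap F K)
  have hφ : Function.Injective φ := by
    intro A B hAB
    ext i j
    have h1 := congrArg (fun M : Matrix.GeneralLinearGroup (Fin n) K => M i j) hAB
    simp only [φ, Matrix.GeneralLinearGroup.map_apply] at h1
    exact (algebraMap F K).injective h1
  let ψ : Matrix.GeneralLinearGroup (Fin n) K ≃* LinearMap.GeneralLinearGroup K (Fin n → K) :=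
    Matrix.GeneralLinearGroup.toLin
  let θ : LinearMap.GeneralLinearGroup K (Fin n → K) ≃* ((Fin n → K) ≃ₗ[K] (Fin n → K)) :=
    LinearMap.GeneralLinearGroup.generalLinearEquiv K _
  let ρ₂ : ↥P →* ((Fin n → K) ≃ₗ[K] (Fin n → K)) :=
    θ.toMonoidHom.comp (ψ.toMonoidHom.comp (φ.comp P.subtype))
  have hinj : Function.Injective ρ₂ :=
    θ.injective.comp (ψ.injective.comp (hφ.comp P.subtype_injective))
  have hker : ρ₂.ker = ⊥ := (MonoidHom.ker_eq_bot_iff ρ₂).2 hinj
  have hfr : Module.finrank K (Fin n → K) = n := Module.finrank_fin_fun K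
  have hqF : (q : F) = 0 := by
    rw [← hF]; exact FiniteField.cast_card_eq_zero F
  have hpF : (p : F) ≠ 0 := by
    intro hp0
    have hcop : Nat.Coprime p q := (Nat.Prime.coprime_iff_not_dvd (Fact.out : p.Prime)).2 hpq
    obtain ⟨a, b, hab⟩ := Nat.isCoprime_iff_coprime.2 hcop
    have := congrArg (Int.cast : ℤ → F) hab
    push_cast at this
    rw [hp0, hqF] at this
    simp at this
  have hpK : (p : K) ≠ 0 := by
    intro h
    apply hpF
    apply (algebraMap F K).injective
    rw [map_natCast, map_zero]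
    exact h
  have hepos : 0 < e := by
    rw [he, orderOf_pos_iff, isOfFinOrder_iff_pow_eq_one]
    refine ⟨p - 1, Nat.sub_pos_of_lt (Fact.out : p.Prime).one_lt, ?_⟩
    apply ZMod.pow_card_sub_one_eq_one
    rw [Ne, ZMod.natCast_eq_zero_iff]
    exact hpq
  have hcoe : ∀ z : ↥P, ((ρ₂ z : (Fin n → K) ≃ₗ[K] (Fin n → K)) : (Fin n → K) →ₗ[K] (Fin n → K)) =
      Matrix.toLinAlgEquiv' (((z : Matrix.GeneralLinearGroup (Fin n) F) :
        Matrix (Fin n) (Fin n) F).map (algebraMap F K)) := by
    intro z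
    rfl
  have H : ∀ (z : ↥P) (ζ : K), ζ ≠ 1 → Module.finrank K (Module.End.eigenspace
      ((ρ₂ z : (Fin n → K) ≃ₗ[K] (Fin n → K)) : (Fin n → K) →ₗ[K] (Fin n → K)) ζ) ≤ n / e := by
    intro z ζ hζ
    obtain ⟨a, ha⟩ := hP z
    have hA : ((z : Matrix.GeneralLinearGroup (Fin n) F) : Matrix (Fin n) (Fin n) F) ^ (p ^ a)
        = 1 := by
      have := congrArg (fun g : ↥P => ((g : Matrix.GeneralLinearGroup (Fin n) F) :
        Matrix (Fin n) (Fin n) F)) ha
      simpa using this
    have h1 := Cfsg.Agent.Lib.Helper87.LinRep.mul_finrank_eigenspace_le (K := K) p _ a hA ζ hζ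
    rw [hF, ← he] at h1
    rw [hcoe]
    rw [Nat.le_div_iff_mul_le hepos, mul_comm]
    exact h1
  have := Cfsg.Agent.Lib.Helper87.LinRep.derivedSeries_le_ker_of_eigen_bound hpK hP (n / e) n
    (Fin n → K) ρ₂ hfr H
  rw [eq_bot_iff, ← hker]
  exact this

end Cfsg.Agent.S4417
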