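import Cfsg.Statements.S5212
import Cfsg.Agent.Lib.Helper84.Alperin
import Cfsg.Agent.Lib.Helper86.EssChain2
import Cfsg.Agent.Lib.Helper88.FusionEssential
import Cfsg.Agent.Lib.Helper20.DihQuatLift
import Cfsg.Agent.Lib.Helper73.MetaRank
import Cfsg.Agent.Lib.Helper73.WreathObstruction
import Cfsg.Agent.Lib.Helper73.HomocyclicSwap
import Cfsg.Agent.S1896
import Cfsg.Agent.S4398

set_option autoImplicit false
open Cfsg

namespace Cfsg.Agent.S5212

open Cfsg.Agent.Lib

/-- An element of 2-power order outside `P` has a power outside `P` whose square lies in `P`. -/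
theorem exists_sq_mem {Ω : Type*} [Group Ω] (N P : Subgroup Ω) (x : Ω) (hxN : x ∈ N) (hxP : x ∉ P)
    (hx : ∃ k : ℕ, x ^ (2 ^ k) = 1) : ∃ t ∈ N, t ∉ P ∧ t ^ 2 ∈ P := by
  classical
  have hex : ∃ k : ℕ, x ^ (2 ^ k) ∈ P := by
    obtain ⟨k, hk⟩ := hx
    exact ⟨k, hk ▸ P.one_mem⟩
  have hjs : x ^ (2 ^ Nat.find hex) ∈ P := Nat.find_spec hex
  have hj0 : Nat.find hex ≠ 0 := by
    intro h0
    rw [h0, pow_zero, pow_one] at hjs
    exact hxP hjs
  obtain ⟨m, hm⟩ := Nat.exists_eq_succ_of_ne_zero hj0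
  refine ⟨x ^ (2 ^ m), N.pow_mem hxN _, ?_, ?_⟩
  · exact Nat.find_min hex (by omega)
  · rw [← pow_mul, ← pow_succ, ← Nat.succ_eq_add_one, ← hm]; exact hjs

/-- The basis statement of `swap_basis`, transported to a subgroup of an ambient group with the
automorphism given by conjugation. -/
theorem swap_basis_subgroup {Ω : Type*} [Group Ω] (P : Subgroup Ω) [Finite P]
    (hPc : ∀ x ∈ P, ∀ y ∈ P, x * y = y * x) (n : ℕ)
    (hcard : Nat.card P = 2 ^ n * 2 ^ n) (hexp : ∀ x ∈ P, x ^ (2 ^ n) = 1)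
    (hidx : (frattini P).index = 4) (t : Ω) (ht : t ∈ Subgroup.normalizer (P : Set Ω))
    (ht2 : t ^ 2 ∈ P) (a : P) (ha : a⁻¹ * Helper87.conjAut P t ht a ∉ frattini P) :
    (∀ x ∈ P, ∃ i j : ℕ, i < 2 ^ n ∧ j < 2 ^ n ∧ x = (a : Ω) ^ i * (t * a * t⁻¹) ^ j) ∧
    (∀ i j i' j' : ℕ, i < 2 ^ n → j < 2 ^ n → i' < 2 ^ n → j' < 2 ^ n →
      (a : Ω) ^ i * (t * a * t⁻¹) ^ j = (a : Ω) ^ i' * (t * a * t⁻¹) ^ j' → i = i' ∧ j = j') := by
  classical
  let iC : CommGroup P :=
    { (inferInstance : Group P) with mul_comm := fun x y => Subtype.ext (hPc x x.2 y y.2) }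
  have hα2 : ∀ x : P, Helper87.conjAut P t ht (Helper87.conjAut P t ht x) = x := by
    intro x
    apply Subtype.ext
    show t * (t * (x : Ω) * t⁻¹) * t⁻¹ = x
    calc t * (t * (x : Ω) * t⁻¹) * t⁻¹ = t ^ 2 * x * (t ^ 2)⁻¹ := by
          rw [sq, mul_inv_rev]; simp only [mul_assoc]
      _ = x := by rw [hPc _ ht2 x x.2, mul_inv_cancel_right]
  have hbij := @Helper73.swap_basis P iC _ n hcard (fun x => Subtype.ext (hexp x x.2)) hidx
    (Helper87.conjAut P t ht) hα2 a ha
  constructor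
  · intro x hx
    obtain ⟨⟨i, j⟩, h⟩ := hbij.2 ⟨x, hx⟩
    refine ⟨i, j, i.2, j.2, ?_⟩
    have h' := congrArg Subtype.val h
    exact h'.symm
  · intro i j i' j' hi hj hi' hj' h
    have h' := @hbij.1 (⟨i, hi⟩, ⟨j, hj⟩) (⟨i', hi'⟩, ⟨j', hj'⟩) (Subtype.ext h)
    rw [Prod.ext_iff] at h'
    exact ⟨congrArg Fin.val h'.1, congrArg Fin.val h'.2⟩

/-- If `t ∉ P` with `t² ∈ P` swaps the basis `a, b = t a t⁻¹` of the abelian group `P`, then the coset `t P`
contains an involution `s` (acting on `P` as `t` does). -/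
theorem exists_swap_involution {Ω : Type*} [Group Ω] (S P : Subgroup Ω)
    (hPS : P ≤ S) (hPc : ∀ x ∈ P, ∀ y ∈ P, x * y = y * x) (t : Ω) (htS : t ∈ S) (htP : t ∉ P)
    (ht2 : t ^ 2 ∈ P) (htn : ∀ x ∈ P, t * x * t⁻¹ ∈ P) (n : ℕ) (a : Ω) (haP : a ∈ P)
    (hsurj : ∀ x ∈ P, ∃ i j : ℕ, i < 2 ^ n ∧ j < 2 ^ n ∧ x = a ^ i * (t * a * t⁻¹) ^ j)
    (hinj : ∀ i j i' j' : ℕ, i < 2 ^ n → j < 2 ^ n → i' < 2 ^ n → j' < 2 ^ n →
      a ^ i * (t * a * t⁻¹) ^ j = a ^ i' * (t * a * t⁻¹) ^ j' → i = i' ∧ j = j') :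
    ∃ s ∈ S, s ∉ P ∧ s ^ 2 = 1 ∧ ∀ x ∈ P, s * x * s⁻¹ = t * x * t⁻¹ := by
  obtain ⟨b, hb⟩ : ∃ b, b = t * a * t⁻¹ := ⟨_, rfl⟩
  rw [← hb] at hsurj hinj
  have hbP : b ∈ P := hb ▸ htn a haP
  have hab : Commute a b := hPc a haP b hbP
  have htb : t * b * t⁻¹ = a := by
    rw [hb]
    calc t * (t * a * t⁻¹) * t⁻¹ = t ^ 2 * a * (t ^ 2)⁻¹ := by
          rw [sq, mul_inv_rev]; simp only [mul_assoc]
      _ = a := by rw [hPc _ ht2 a haP, mul_inv_cancel_right]
  obtain ⟨i, j, hi, hj, hij⟩ := hsurj (t ^ 2) ht2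
  have hconj : t * (a ^ i * b ^ j) * t⁻¹ = a ^ j * b ^ i := by
    calc t * (a ^ i * b ^ j) * t⁻¹ = (t * a * t⁻¹) ^ i * (t * b * t⁻¹) ^ j := by
          rw [conj_pow, conj_pow]; simp only [mul_assoc, inv_mul_cancel_left]
      _ = b ^ i * a ^ j := by rw [← hb, htb]
      _ = a ^ j * b ^ i := ((hab.pow_pow j i).eq).symm
  have hfix : t * t ^ 2 * t⁻¹ = t ^ 2 := by
    rw [sq]; simp only [mul_assoc, mul_inv_cancel, mul_one]
  have hij' : i = j := by
    have h1 : a ^ i * b ^ j = a ^ j * b ^ i := by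
      calc a ^ i * b ^ j = t ^ 2 := hij.symm
        _ = t * t ^ 2 * t⁻¹ := hfix.symm
        _ = t * (a ^ i * b ^ j) * t⁻¹ := by rw [← hij]
        _ = a ^ j * b ^ i := hconj
    exact (hinj i j j i hi hj hj hi h1).1
  subst hij'
  obtain ⟨s, hs⟩ : ∃ s, s = t * (a ^ i)⁻¹ := ⟨_, rfl⟩
  have haiP : a ^ i ∈ P := P.pow_mem haP i
  have hc1 : t * (a ^ i)⁻¹ * t⁻¹ = (b ^ i)⁻¹ := by
    rw [hb, conj_pow]; simp only [mul_inv_rev, inv_inv, mul_assoc]
  have hs2 : s ^ 2 = 1 := by
    calc s ^ 2 = (t * (a ^ i)⁻¹ * t⁻¹) * t ^ 2 * (a ^ i)⁻¹ := by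
          rw [hs, sq, sq]; simp only [mul_assoc, inv_mul_cancel_left]
      _ = (b ^ i)⁻¹ * (a ^ i * b ^ i) * (a ^ i)⁻¹ := by rw [hc1, hij]
      _ = 1 := by rw [(hab.pow_pow i i).eq, inv_mul_cancel_left, mul_inv_cancel]
  have hsS : s ∈ S := by
    rw [hs]; exact S.mul_mem htS (S.inv_mem (hPS haiP))
  have hsP : s ∉ P := by
    intro h
    apply htP
    have : t = s * a ^ i := by rw [hs, inv_mul_cancel_right]
    rw [this]
    exact P.mul_mem h haiP
  refine ⟨s, hsS, hsP, hs2, ?_⟩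
  intro x hx
  have h1 : (a ^ i)⁻¹ * x * a ^ i = x := by
    rw [mul_assoc, hPc x hx (a ^ i) haiP, inv_mul_cancel_left]
  calc s * x * s⁻¹ = t * ((a ^ i)⁻¹ * x * a ^ i) * t⁻¹ := by
        rw [hs, mul_inv_rev, inv_inv]; simp only [mul_assoc]
    _ = t * x * t⁻¹ := by rw [h1]

/-- **The wreathed case.** `P = ⟨a⟩ × ⟨b⟩` homocyclic of exponent `2ⁿ ≥ 4`, and `t ∉ P` with `t² ∈ P`
swapping `a` and `b`: impossible in a group of sectional 2-rank at most 2. -/
theorem partB {Ω : Type*} [Group Ω] (S P : Subgroup Ω) [Finite S] (hr : SectionalPRankLE 2 2 S)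
    (hPS : P ≤ S) (hPc : ∀ x ∈ P, ∀ y ∈ P, x * y = y * x) (t : Ω) (htS : t ∈ S) (htP : t ∉ P)
    (ht2 : t ^ 2 ∈ P) (htn : ∀ x ∈ P, t * x * t⁻¹ ∈ P) (n : ℕ) (hn : 2 ≤ n) (a : Ω) (haP : a ∈ P)
    (hexp : ∀ x ∈ P, x ^ (2 ^ n) = 1)
    (hsurj : ∀ x ∈ P, ∃ i j : ℕ, i < 2 ^ n ∧ j < 2 ^ n ∧ x = a ^ i * (t * a * t⁻¹) ^ j)
    (hinj : ∀ i j i' j' : ℕ, i < 2 ^ n → j < 2 ^ n → i' < 2 ^ n → j' < 2 ^ n →
      a ^ i * (t * a * t⁻¹) ^ j = a ^ i' * (t * a * t⁻¹) ^ j' → i = i' ∧ j = j') : False := by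
  obtain ⟨s, hsS, hsP, hs2, hsconj⟩ :=
    exists_swap_involution S P hPS hPc t htS htP ht2 htn n a haP hsurj hinj
  obtain ⟨b, hb⟩ : ∃ b, b = t * a * t⁻¹ := ⟨_, rfl⟩
  rw [← hb] at hsurj hinj
  have hbP : b ∈ P := hb ▸ htn a haP
  have hab : Commute a b := hPc a haP b hbP
  have hpos : 0 < 2 ^ n := by positivity
  -- the elements of order 4
  obtain ⟨q, hq⟩ : ∃ q, q = 2 ^ (n - 2) := ⟨_, rfl⟩
  have hq4 : q * 4 = 2 ^ n := by
    rw [hq, show (4 : ℕ) = 2 ^ 2 by norm_num, ← pow_add]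
    congr 1; omega
  have hqpos : 0 < q := by rw [hq]; positivity
  have ha'P : a ^ q ∈ P := P.pow_mem haP q
  have ha'4 : (a ^ q) ^ 4 = 1 := by rw [← pow_mul, hq4]; exact hexp a haP
  have ha'2 : (a ^ q) ^ 2 ≠ 1 := by
    intro h
    rw [← pow_mul] at h
    have h1 : a ^ (q * 2) * b ^ 0 = a ^ 0 * b ^ 0 := by rw [h, pow_zero, pow_zero]
    have := (hinj (q * 2) 0 0 0 (by omega) hpos hpos hpos h1).1
    omega
  have hb' : s * a ^ q * s⁻¹ = b ^ q := by
    rw [hsconj _ ha'P, ← conj_pow, ← hb]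
  have hne1 : a ^ q ≠ b ^ q := by
    intro h
    have h1 : a ^ q * b ^ 0 = a ^ 0 * b ^ q := by rw [pow_zero, pow_zero, mul_one, one_mul, h]
    have := (hinj q 0 0 q (by omega) hpos hpos (by omega) h1).1
    omega
  have hne2 : a ^ q ≠ (b ^ q)⁻¹ := by
    intro h
    have h2 : (b ^ q)⁻¹ = b ^ (2 ^ n - q) := by
      rw [inv_eq_iff_mul_eq_one, ← pow_add]
      have : q + (2 ^ n - q) = 2 ^ n := by omega
      rw [this]; exact hexp b hbP
    have h1 : a ^ q * b ^ 0 = a ^ 0 * b ^ (2 ^ n - q) := by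
      rw [pow_zero, pow_zero, mul_one, one_mul, h, h2]
    have := (hinj q 0 0 (2 ^ n - q) (by omega) hpos hpos (by omega) h1).1
    omega
  refine Helper73.wreath_obstruction (G := ↥S) hr ⟨a ^ q, hPS ha'P⟩ ⟨s, hsS⟩ (P.subgroupOf S)
    (Subtype.ext ha'4) (fun h => ha'2 (congrArg Subtype.val h)) (Subtype.ext hs2) ?_ ?_ ?_ ?_ ?_ ?_
  · apply Subtype.ext
    show a ^ q * (s * a ^ q * s⁻¹) = s * a ^ q * s⁻¹ * a ^ q
    rw [hb']
    exact (hab.pow_pow q q).eq
  · intro h
    apply hne1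
    have h1 := congrArg Subtype.val h
    have h2 : a ^ q = s * a ^ q * s⁻¹ := h1
    rw [hb'] at h2
    exact h2
  · intro h
    apply hne2
    have h1 := congrArg Subtype.val h
    have h2 : a ^ q = (s * a ^ q * s⁻¹)⁻¹ := h1
    rw [hb'] at h2
    exact h2
  · exact Subgroup.mem_subgroupOf.2 ha'P
  · rw [Subgroup.mem_subgroupOf]
    show s * a ^ q * s⁻¹ ∈ P
    rw [hb']
    exact P.pow_mem hbP q
  · intro h
    exact hsP (Subgroup.mem_subgroupOf.1 h)

/-- **The four-group case.** An involution `s` and an involution `a` with `s a s⁻¹ ≠ a` commuting with `a`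
generate a dihedral group of order 8. -/
theorem partV4 {Ω : Type*} [Group Ω] (S : Subgroup Ω) (s : Ω) (hsS : s ∈ S) (hs2 : s ^ 2 = 1)
    (a : Ω) (haS : a ∈ S) (ha2 : a ^ 2 = 1) (hab : a * (s * a * s⁻¹) = (s * a * s⁻¹) * a)
    (hne : s * a * s⁻¹ ≠ a) : ∃ H : Subgroup S, Nonempty (H ≃* DihedralGroup 4) := by
  have hsinv : s⁻¹ = s := by rw [inv_eq_iff_mul_eq_one, ← sq, hs2]
  have hainv : a⁻¹ = a := by rw [inv_eq_iff_mul_eq_one, ← sq, ha2]
  rw [hsinv] at hab hne
  have hr2 : (s * a) ^ 2 = s * a * s * a := by rw [sq]; simp only [mul_assoc]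
  have hb2 : (s * a * s) ^ 2 = 1 := by
    calc (s * a * s) ^ 2 = s * (a * (s * s) * a) * s := by rw [sq]; simp only [mul_assoc]
      _ = 1 := by rw [← sq, hs2, mul_one, ← sq, ha2, mul_one, ← sq, hs2]
  have hr4 : (s * a) ^ 4 = 1 := by
    calc (s * a) ^ 4 = ((s * a) ^ 2) ^ 2 := by rw [← pow_mul]
      _ = (s * a * s * a) ^ 2 := by rw [hr2]
      _ = (s * a * s) ^ 2 * a ^ 2 := by
          rw [sq, sq, sq]
          calc s * a * s * a * (s * a * s * a) = s * a * s * (a * (s * a * s)) * a := by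
                simp only [mul_assoc]
            _ = s * a * s * ((s * a * s) * a) * a := by rw [hab]
            _ = s * a * s * (s * a * s) * (a * a) := by simp only [mul_assoc]
      _ = 1 := by rw [hb2, ha2, one_mul]
  have hr2ne : ¬ (s * a) ^ 2 ^ 1 = 1 := by
    rw [pow_one, hr2]
    intro h
    apply hne
    have : s * a * s = a⁻¹ := eq_inv_of_mul_eq_one_left h
    rw [this, hainv]
  have hord : orderOf (s * a) = 4 := by
    have := orderOf_eq_prime_pow (p := 2) (n := 1) hr2ne (by norm_num; exact hr4)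
    rw [this]; norm_num
  have hconj : a * (s * a) * a⁻¹ = (s * a)⁻¹ := by
    rw [mul_inv_rev, hainv, hsinv]
    calc a * (s * a) * a = a * s * (a * a) := by simp only [mul_assoc]
      _ = a * s := by rw [← sq, ha2, mul_one]
  have hnot : a ∉ Subgroup.zpowers (s * a) := by
    intro h
    obtain ⟨k, hk⟩ := Subgroup.mem_zpowers_iff.1 h
    have hc : Commute (s * a) a := by
      have hc' : Commute (s * a) ((s * a) ^ k) := (Commute.refl (s * a)).zpow_right k
      rw [hk] at hc'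
      exact hc'
    apply hne
    have h1 : s * a * a = a * (s * a) := hc.eq
    have h2 : s = a * s * a := by
      calc s = s * (a * a) := by rw [← sq, ha2, mul_one]
        _ = s * a * a := by simp only [mul_assoc]
        _ = a * (s * a) := h1
        _ = a * s * a := by simp only [mul_assoc]
    calc s * a * s = (a * s * a) * a * s := by rw [← h2]
      _ = a * s * (a * a) * s := by simp only [mul_assoc]
      _ = a * (s * s) := by rw [← sq, ha2, mul_one]; simp only [mul_assoc]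
      _ = a := by rw [← sq, hs2, mul_one]
  -- transfer to the group `↥S`
  set rS : S := ⟨s * a, S.mul_mem hsS haS⟩ with hrS
  set fS : S := ⟨a, haS⟩ with hfS
  have h1 : rS ^ 4 = 1 := Subtype.ext hr4
  have h2 : fS * fS = 1 := Subtype.ext (by show a * a = 1; rw [← sq, ha2])
  have h3 : fS * rS * fS⁻¹ = rS⁻¹ := Subtype.ext hconj
  have h4 : orderOf rS = 4 := by
    rw [← Subgroup.orderOf_coe]; exact hord
  have h5 : fS ∉ Subgroup.zpowers rS := by
    intro h
    apply hnot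
    obtain ⟨k, hk⟩ := Subgroup.mem_zpowers_iff.1 h
    refine Subgroup.mem_zpowers_iff.2 ⟨k, ?_⟩
    have := congrArg Subtype.val hk
    simpa using this
  have hinj := Helper20.dihHom_injective rS fS 4 h1 h2 h3 h4 h5
  exact ⟨(Helper20.dihHom rS fS 4 h1 h2 h3).range, ⟨(MonoidHom.ofInjective hinj).symm⟩⟩

/-- `C_{2ⁿ} × C_{2ⁿ}` as a product and as functions on `Fin 2`. -/
def prodEquivPiFinTwo (N : ℕ) :
    Multiplicative (ZMod N) × Multiplicative (ZMod N) ≃* Multiplicative (Fin 2 → ZMod N) where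
  toFun x := Multiplicative.ofAdd ![Multiplicative.toAdd x.1, Multiplicative.toAdd x.2]
  invFun f := (Multiplicative.ofAdd (Multiplicative.toAdd f 0), Multiplicative.ofAdd (Multiplicative.toAdd f 1))
  left_inv x := rfl
  right_inv f := by
    apply Multiplicative.toAdd.injective
    funext i
    fin_cases i <;> rfl
  map_mul' x y := by
    apply Multiplicative.toAdd.injective
    funext i
    fin_cases i <;> rfl

/-- A metacyclic 2-group without `D₈` and `Q₈` subgroups has no essential subgroups in any saturated fusion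
system over it. -/
theorem no_essential {Ω : Type*} [Group Ω] {S : Subgroup Ω} [Finite S] (hS : IsPGroup 2 S)
    (F : FusionSystem S) (hF : F.IsSaturated 2) (hm : IsMetacyclic S)
    (hno : ¬ ∃ H : Subgroup S, Nonempty (H ≃* DihedralGroup 4) ∨ Nonempty (H ≃* QuaternionGroup 2))
    (P : Subgroup Ω) (hP : F.IsEssential 2 P) : False := by
  classical
  have : Fact (Nat.Prime 2) := ⟨Nat.prime_two⟩
  have hPne : P ≠ S := Helper88.ne_top_of_essential F hF hP
  obtain ⟨hcen, hfn, hnorm, E, hE⟩ := hP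
  have hPS : P ≤ S := hcen.1
  have hCP : FusionSystem.centralizerIn S P ≤ P := hcen.2 P (Helper87.isConj_refl F hPS)
  have hPfin : Finite P := Helper87.finite_of_le hPS
  have hPp : IsPGroup 2 P := hS.to_le hPS
  have hr : SectionalPRankLE 2 2 S :=
    Helper73.sectionalPRankLE_two_of_isMetacyclic 2 (by norm_num) hm
  have hPm : IsMetacyclic P :=
    Helper24.isMetacyclic_of_injective (Subgroup.inclusion hPS) (Subgroup.inclusion_injective hPS) hm
  have hA : ¬ IsPGroup 2 (MulAut P) := by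
    intro h
    have h1 : IsPGroup 2 (F.autGroup P) := h.to_subgroup _
    have h2 : IsPGroup 2 (F.autGroup P ⧸ (Inn P).subgroupOf (F.autGroup P)) := h1.to_quotient _
    have h3 : (⊤ : Subgroup (F.autGroup P ⧸ (Inn P).subgroupOf (F.autGroup P))) = ⊥ :=
      Helper84.normal_pgroup_eq_bot hE ⊤ (h2.to_subgroup ⊤)
    have h4 := hE.1
    have h5 : Nat.card (F.autGroup P ⧸ (Inn P).subgroupOf (F.autGroup P)) = 1 := by
      rw [← Subgroup.card_top, h3, Subgroup.card_bot]
    rw [h5] at h4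
    exact absurd h4 (by norm_num)
  rcases Cfsg.Agent.S1896.result hPp hPm hA with ⟨⟨e⟩⟩ | ⟨n, ⟨e⟩⟩
  · exact hno ⟨P.subgroupOf S, Or.inr ⟨(Subgroup.subgroupOfEquivOfLe hPS).trans e⟩⟩
  · -- the homocyclic case
    have hc : ∀ x y : P, x * y = y * x := fun x y => e.injective (by rw [map_mul, map_mul, mul_comm])
    have hPc : ∀ x ∈ P, ∀ y ∈ P, x * y = y * x := fun x hx y hy =>
      congrArg Subtype.val (hc ⟨x, hx⟩ ⟨y, hy⟩)
    have hcz : Nat.card (Multiplicative (ZMod (2 ^ n))) = 2 ^ n :=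
      (Nat.card_congr Multiplicative.toAdd).trans (Nat.card_zmod _)
    have hcard : Nat.card P = 2 ^ n * 2 ^ n := by
      rw [Nat.card_congr e.toEquiv, Nat.card_prod, hcz]
    have hexpz : ∀ y : Multiplicative (ZMod (2 ^ n)), y ^ (2 ^ n) = 1 := fun y => by
      have := pow_card_eq_one' (x := y)
      rwa [hcz] at this
    have hexp : ∀ x ∈ P, x ^ (2 ^ n) = 1 := by
      intro x hx
      have h1 : (⟨x, hx⟩ : P) ^ (2 ^ n) = 1 := by
        apply e.injective
        rw [map_pow, map_one]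
        exact Prod.ext (hexpz _) (hexpz _)
      exact congrArg Subtype.val h1
    -- an element of the normalizer outside `P` with square in `P`
    obtain ⟨x, hxN, hxP⟩ := Helper87.exists_mem_normalizerIn_not_mem hS hPS hPne
    have hx2pow : ∃ k : ℕ, x ^ (2 ^ k) = 1 := by
      obtain ⟨k, hk⟩ := hS ⟨x, hxN.1⟩
      exact ⟨k, congrArg Subtype.val hk⟩
    obtain ⟨t, htN, htP, ht2⟩ := exists_sq_mem (FusionSystem.normalizerIn S P) P x hxN hxP hx2pow
    have htS : t ∈ S := htN.1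
    have htnorm : t ∈ Subgroup.normalizer (P : Set Ω) := htN.2
    have htn : ∀ y ∈ P, t * y * t⁻¹ ∈ P := fun y hy => (Subgroup.mem_normalizer_iff.1 htnorm y).1 hy
    have hαA : Helper87.conjAut P t htnorm ∈ F.autGroup P :=
      Helper87.autInducedBy_le_autGroup F hPS (Helper87.mem_autInducedBy_iff.2 ⟨t, htS, fun _ => rfl⟩)
    have hex : ∃ a : P, a⁻¹ * Helper87.conjAut P t htnorm a ∉ frattini P := by
      by_contra hcon
      push Not at hcon
      let iC : CommGroup P := { (inferInstance : Group P) with mul_comm := hc }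
      have h1 : Helper87.conjAut P t htnorm = 1 :=
        @Helper86.eq_one_of_trivial_mod_frattini P iC hPfin 2 _ hPp (F.autGroup P) hnorm E hE
          (Helper87.conjAut P t htnorm) hαA hcon
      apply htP
      apply hCP
      refine ⟨htS, ?_⟩
      show t ∈ Subgroup.centralizer (P : Set Ω)
      rw [Subgroup.mem_centralizer_iff]
      intro y hy
      have h2 := congrArg (fun f : MulAut P => ((f ⟨y, hy⟩ : P) : Ω)) h1
      have h3 : t * y * t⁻¹ = y := h2
      calc y * t = (t * y * t⁻¹) * t := by rw [h3]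
        _ = t * y := by rw [inv_mul_cancel_right]
    obtain ⟨a, ha⟩ := hex
    -- the Frattini quotient has order 4
    have hidx : (frattini P).index = 4 := by
      have hle : (frattini P).index ≤ 4 := by
        have hQm : IsMetacyclic (P ⧸ frattini P) :=
          Helper73.isMetacyclic_of_surjective (QuotientGroup.mk' (frattini P))
            (QuotientGroup.mk'_surjective _) hPm
        have hrk := Helper73.pRankLE_two_of_isMetacyclic 2 (by norm_num) hQm
        have h1 := hrk ⊤ ⟨⟨fun x y => by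
            apply Subtype.ext
            obtain ⟨x', hx'⟩ := QuotientGroup.mk_surjective x.1
            obtain ⟨y', hy'⟩ := QuotientGroup.mk_surjective y.1
            show x.1 * y.1 = y.1 * x.1
            rw [← hx', ← hy', ← QuotientGroup.mk_mul, ← QuotientGroup.mk_mul, hc x' y']⟩⟩
          (by
            intro x _
            obtain ⟨x', rfl⟩ := QuotientGroup.mk_surjective x
            rw [← QuotientGroup.mk_pow, QuotientGroup.eq_one_iff]
            exact (Cfsg.Agent.S0012.result 2 hPp).2 x')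
        rw [Subgroup.card_top] at h1
        rw [Subgroup.index_eq_card]
        exact h1
      have hdvd : (frattini P).index ∣ 2 ^ (n + n) := by
        rw [pow_add, ← hcard]; exact Subgroup.index_dvd_card _
      obtain ⟨k, -, hk⟩ := (Nat.dvd_prime_pow Nat.prime_two).1 hdvd
      have hk2 : k ≤ 2 := by
        by_contra h
        push Not at h
        have : 2 ^ 3 ≤ 2 ^ k := Nat.pow_le_pow_right (by norm_num) h
        omega
      interval_cases k
      · exfalso
        rw [pow_zero] at hk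
        have htop : frattini P = ⊤ := Subgroup.index_eq_one.mp hk
        apply ha
        rw [htop]; trivial
      · exfalso
        rw [pow_one] at hk
        exact Helper86.false_of_cyclic (Helper86.isCyclic_of_frattini_index_prime (p := 2) hk)
          (F.autGroup P) E hE
      · rw [hk]; norm_num
    obtain ⟨hsurj, hinj⟩ := swap_basis_subgroup P hPc n hcard hexp hidx t htnorm ht2 a ha
    have hn0 : n ≠ 0 := by
      intro h0
      have h1 : (frattini P).index ∣ Nat.card P := Subgroup.index_dvd_card _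
      rw [hidx, hcard, h0] at h1
      norm_num at h1
    by_cases hn2 : 2 ≤ n
    · exact partB S P hr hPS hPc t htS htP ht2 htn n hn2 a a.2 hexp hsurj hinj
    · have hn1 : n = 1 := by omega
      subst hn1
      obtain ⟨s, hsS, hsP, hs2, hsconj⟩ :=
        exists_swap_involution S P hPS hPc t htS htP ht2 htn 1 a a.2 hsurj hinj
      have ha2 : (a : Ω) ^ 2 = 1 := by
        have := hexp a a.2
        rwa [pow_one] at this
      have hbP : t * a * t⁻¹ ∈ P := htn a a.2
      obtain ⟨H, ⟨eH⟩⟩ := partV4 S s hsS hs2 a (hPS a.2) ha2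
        (by rw [hsconj a a.2]; exact hPc a a.2 _ hbP)
        (by
          rw [hsconj a a.2]
          intro h
          have h1 : (a : Ω) ^ 1 * (t * a * t⁻¹) ^ 0 = (a : Ω) ^ 0 * (t * a * t⁻¹) ^ 1 := by
            rw [pow_zero, pow_zero, pow_one, pow_one, mul_one, one_mul, h]
          have := (hinj 1 0 0 1 (by norm_num) (by norm_num) (by norm_num) (by norm_num) h1).1
          omega)
      exact hno ⟨H, Or.inl ⟨eH⟩⟩

/-- Let S be a finite metacyclic 2-group that is not homocyclic abelian (a direct product of cyclic groups of one common order), not dihedral, not semidihedral and not generalized quaternion. Then every saturated fusion system over S is the inner fusion system of S. -/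
theorem result {Ω : Type*} [Group Ω] {S : Subgroup Ω} [Finite S] (hS : IsPGroup 2 S) (F : Cfsg.FusionSystem S) (hF : F.IsSaturated 2) (hm : Cfsg.IsMetacyclic ↥S) (hh : ¬ ∃ n k : ℕ, Nonempty (↥S ≃* Multiplicative (Fin k → ZMod (2 ^ n)))) (hd : ¬ ∃ m : ℕ, Nonempty (↥S ≃* DihedralGroup m)) (hq : ¬ ∃ m : ℕ, Nonempty (↥S ≃* QuaternionGroup m)) (hsd : ¬ Cfsg.IsQuasiDihedral ↥S) : ∀ P : Subgroup Ω, F.Hom P = (Cfsg.innerFusionSystem S).Hom P := by
  classical
  have : Fact (Nat.Prime 2) := ⟨Nat.prime_two⟩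
  have hr : SectionalPRankLE 2 2 S :=
    Helper73.sectionalPRankLE_two_of_isMetacyclic 2 (by norm_num) hm
  have hno : ¬ ∃ H : Subgroup S, Nonempty (H ≃* DihedralGroup 4) ∨ Nonempty (H ≃* QuaternionGroup 2) := by
    intro h
    rcases Cfsg.Agent.S4398.result hS hr h with ⟨k, h1⟩ | ⟨k, hc, a, b, ha, hb, hab⟩ | ⟨k, h1⟩
    · exact hd ⟨_, h1⟩
    · apply hsd
      refine ⟨k + 3, by omega, ?_, a, b, ha, hb, ?_⟩
      · rw [hc]
      · rw [hab]
        congr 2
    · exact hq ⟨_, h1⟩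
  intro P
  apply Set.Subset.antisymm _ (Helper87.inner_hom_subset F P)
  refine Helper84.alperin_goldschmidt F (innerFusionSystem S) hS hF ?_ P
  rintro R (hRS | hess)
  · subst hRS
    -- `R` is fully automized
    obtain ⟨Q, hSQ, hQa, -⟩ := hF R le_rfl
    have hQS : Q = R := by
      have hQle : Q ≤ R := hQa.1
      have : Nat.card R ≤ Nat.card Q := le_of_eq (Helper87.IsConj_card_eq hSQ)
      exact Subgroup.eq_of_le_of_card_ge hQle this
    rw [hQS] at hQa
    have hAut : IsPGroup 2 (MulAut R) := by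
      by_contra hA
      rcases Cfsg.Agent.S1896.result hS hm hA with ⟨⟨e⟩⟩ | ⟨n, ⟨e⟩⟩
      · exact hq ⟨2, ⟨e⟩⟩
      · exact hh ⟨n, 2, ⟨e.trans (prodEquivPiFinTwo (2 ^ n))⟩⟩
    have hp : IsPGroup 2 (F.autGroup R) := hAut.to_subgroup _
    exact le_trans (Helper87.autGroup_le_autInducedBy_of_isPGroup F hQa hp)
      (Helper87.autInducedBy_le_autGroup (innerFusionSystem R) le_rfl)
  · exact absurd hess (fun h => no_essential hS F hF hm hno R h)

end Cfsg.Agent.S5212
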