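import Cfsg.Statements.S4418
import Cfsg.Agent.S0205
import Cfsg.Agent.S0949
import Cfsg.Agent.S0082
import Cfsg.Agent.S0219
import Cfsg.Agent.S0079
import Cfsg.Agent.S5212
import Cfsg.Agent.S5076
import Cfsg.Agent.Lib.Helper96.MetaSylTwoD
-- helper96: uses the Odd Order Theorem (S0205), Brauer's theorem on homocyclic Sylow 2-subgroups
-- (S0949), S0082 + S0219 (cyclic Sylow 2-subgroups), S0079 (normal complements of nilpotent Hall
-- subgroups) and S5212 + S5076 (saturated fusion systems on metacyclic 2-groups are inner outside a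
-- short list).

set_option autoImplicit false
open Cfsg

namespace Cfsg.Agent.S4418

/-- Let G be a finite group whose Sylow 2-subgroup S is metacyclic via a cyclic normal subgroup N of S with S/N cyclic of order greater than 2. Then G is soluble. -/
theorem result {G : Type*} [Group G] [Finite G] (S : Sylow 2 G) (N : Subgroup ↥(S : Subgroup G)) [hN : N.Normal] (hNc : IsCyclic N) (hQc : IsCyclic (↥(S : Subgroup G) ⧸ N)) (hQ : 2 < Nat.card (↥(S : Subgroup G) ⧸ N)) : Group.IsSolvable G := by
  refine Cfsg.Agent.Lib.Helper96.MetaSylTwo.main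
    (fun H _ _ hodd => Cfsg.Agent.S0205.result hodd)
    (fun H _ _ P m hm e hO => Cfsg.Agent.S0949.result P m hm e hO)
    (fun H _ _ P hP => Cfsg.Agent.S0082.result P hP)
    (fun H _ _ heven T hT => Cfsg.Agent.S0219.result heven T hT)
    S N hNc hQc hQ ?_ ?_
  · refine Cfsg.Agent.S0079.result (S : Subgroup G) (S.isPGroup'.isNilpotent) ?_
    obtain ⟨n, hn⟩ := IsPGroup.iff_card.mp S.isPGroup'
    rw [hn]
    exact Nat.Coprime.pow_left _ ((Nat.Prime.coprime_iff_not_dvd Nat.prime_two).mpr S.not_dvd_index)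
  · intro hh hd hq hsd
    exact Cfsg.Agent.S5212.result S.isPGroup' _ (Cfsg.Agent.S5076.result 2 S)
      ⟨N, hN, hNc, hQc⟩ hh hd hq hsd

end Cfsg.Agent.S4418
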