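import Cfsg.Statements.S4419
import Cfsg.Agent.Lib.Helper2.FusionComplement
import Cfsg.Agent.Lib.Helper54.PCores
import Cfsg.Agent.Lib.Helper55.TransferEval

set_option autoImplicit false
open Cfsg

namespace Cfsg.Agent.S4419

variable {G : Type*} [Group G]

/-- A subgroup of a metacyclic group is a product of two cyclic groups. -/
theorem exists_two_gens (S : Subgroup G) (hS : Cfsg.IsMetacyclic ↥S) (Q : Subgroup G)
    (hQS : Q ≤ S) : ∃ a ∈ Q, ∃ b ∈ Q, ∀ u ∈ Q, ∃ i j : ℤ, u = b ^ j * a ^ i := by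
  obtain ⟨N, hNn, hNc, hSNc⟩ := hS
  have := hNn
  have := hNc
  have := hSNc
  set Q' : Subgroup ↥S := Q.subgroupOf S with hQ'
  have : IsCyclic ↥(Q' ⊓ N) :=
    isCyclic_of_injective (Subgroup.inclusion (inf_le_right : Q' ⊓ N ≤ N))
      (Subgroup.inclusion_injective _)
  obtain ⟨⟨a, ha⟩, hagen⟩ := IsCyclic.exists_generator (α := ↥(Q' ⊓ N))
  have : IsCyclic ↥(Q'.map (QuotientGroup.mk' N)) := inferInstance
  obtain ⟨⟨y, hy⟩, hygen⟩ := IsCyclic.exists_generator (α := ↥(Q'.map (QuotientGroup.mk' N)))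
  obtain ⟨b, hb, rfl⟩ := hy
  refine ⟨(a : G), ?_, (b : G), ?_, ?_⟩
  · exact (Subgroup.mem_subgroupOf.mp (Subgroup.mem_inf.mp ha).1)
  · exact Subgroup.mem_subgroupOf.mp hb
  · intro u hu
    have huS : u ∈ S := hQS hu
    have hu' : (⟨u, huS⟩ : ↥S) ∈ Q' := Subgroup.mem_subgroupOf.mpr hu
    have h1 := hygen ⟨QuotientGroup.mk' N ⟨u, huS⟩, Subgroup.mem_map_of_mem _ hu'⟩
    obtain ⟨j, hj⟩ := Subgroup.mem_zpowers_iff.mp h1
    have hj' : (QuotientGroup.mk' N b) ^ j = QuotientGroup.mk' N ⟨u, huS⟩ := by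
      have := congrArg Subtype.val hj
      simpa using this
    have h2 : (b ^ j)⁻¹ * ⟨u, huS⟩ ∈ N := by
      rw [← QuotientGroup.eq]
      have h0 : ((b ^ j : ↥S) : ↥S ⧸ N) = (QuotientGroup.mk' N b) ^ j := by simp
      rw [h0, hj']
      rfl
    have h3 : (b ^ j)⁻¹ * ⟨u, huS⟩ ∈ Q' ⊓ N :=
      Subgroup.mem_inf.mpr ⟨Q'.mul_mem (Q'.inv_mem (Q'.zpow_mem hb j)) hu', h2⟩
    have h4 := hagen ⟨_, h3⟩
    obtain ⟨i, hi⟩ := Subgroup.mem_zpowers_iff.mp h4
    have hi' : a ^ i = (b ^ j)⁻¹ * ⟨u, huS⟩ := by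
      have := congrArg Subtype.val hi
      simpa using this
    refine ⟨i, j, ?_⟩
    have h5 : (⟨u, huS⟩ : ↥S) = b ^ j * a ^ i := by rw [hi']; group
    have := congrArg Subtype.val h5
    simpa using this


/-- the subgroup generated by the `p`-th powers of `Q` -/
def pws (p : ℕ) (Q : Subgroup G) : Subgroup G := Subgroup.closure {y | ∃ u ∈ Q, y = u ^ p}

theorem pws_le (p : ℕ) (Q : Subgroup G) : pws p Q ≤ Q := by
  unfold pws
  rw [Subgroup.closure_le]
  rintro y ⟨u, hu, rfl⟩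
  exact Q.pow_mem hu p

theorem pws_conj (p : ℕ) (Q : Subgroup G) (a : G) (ha : ∀ y ∈ Q, a⁻¹ * y * a ∈ Q) :
    ∀ t ∈ pws p Q, a⁻¹ * t * a ∈ pws p Q := by
  intro t ht
  have hle : pws p Q ≤ (pws p Q).comap (MulAut.conj a⁻¹).toMonoidHom := by
    unfold pws
    rw [Subgroup.closure_le]
    rintro y ⟨u, hu, rfl⟩
    show (MulAut.conj a⁻¹) (u ^ p) ∈ Subgroup.closure {y | ∃ u ∈ Q, y = u ^ p}
    rw [MulAut.conj_apply, inv_inv]
    have h1 : a⁻¹ * u ^ p * a = (a⁻¹ * u * a) ^ p := by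
      have := conj_pow (a := a⁻¹) (b := u) (i := p)
      rw [inv_inv] at this
      exact this.symm
    rw [h1]
    exact Subgroup.subset_closure ⟨_, ha u hu, rfl⟩
  have := hle ht
  simpa [MulAut.conj_apply] using this

theorem pws_ne [Finite G] (p : ℕ) [Fact p.Prime] (Q : Subgroup G) (hQ : IsPGroup p Q)
    (hne : Q ≠ ⊥) : pws p Q ≠ Q := by
  have hp : p.Prime := Fact.out
  obtain ⟨k, hk⟩ := IsPGroup.iff_card.mp hQ
  have hk0 : k ≠ 0 := by
    rintro rfl
    rw [pow_zero] at hk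
    exact hne (Subgroup.card_eq_one.mp hk)
  obtain ⟨K, hK⟩ := Sylow.exists_subgroup_card_pow_prime (G := Q) p (n := k - 1)
    (by rw [hk]; exact pow_dvd_pow p (Nat.sub_le k 1))
  have hidx : K.index = p := by
    have h1 := K.index_mul_card
    rw [hK, hk] at h1
    have h2 : p ^ k = p * p ^ (k - 1) := by
      rw [← pow_succ']; congr 1; omega
    rw [h2] at h1
    exact Nat.eq_of_mul_eq_mul_right (pow_pos hp.pos _) h1
  have hKn : K.Normal := by
    apply Subgroup.normal_of_index_eq_minFac_card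
    rw [hidx, hk, hp.pow_minFac hk0]
  have hpow : ∀ u : Q, u ^ p ∈ K := by
    intro u
    rw [← QuotientGroup.eq_one_iff, QuotientGroup.mk_pow]
    have hc : Nat.card (↥Q ⧸ K) = p := hidx
    have := pow_card_eq_one' (G := ↥Q ⧸ K) (x := (u : ↥Q ⧸ K))
    rwa [hc] at this
  intro heq
  have hle : pws p Q ≤ K.map Q.subtype := by
    unfold pws
    rw [Subgroup.closure_le]
    rintro y ⟨u, hu, rfl⟩
    exact ⟨⟨u, hu⟩ ^ p, hpow _, rfl⟩
  rw [heq] at hle
  have hcard : Nat.card (K.map Q.subtype) = p ^ (k - 1) := by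
    rw [Subgroup.card_map_of_injective Q.subtype_injective, hK]
  have h3 := Subgroup.card_le_of_le hle
  rw [hcard, hk] at h3
  have h4 : p ^ (k - 1) < p ^ k := Nat.pow_lt_pow_right hp.one_lt (by omega)
  omega

theorem card_le_of_two_gens [Finite G] (p : ℕ) [Fact p.Prime] (Q : Subgroup G) (a b : G)
    (ha : a ∈ Q) (hb : b ∈ Q) (hgen : ∀ u ∈ Q, ∃ i j : ℤ, u = b ^ j * a ^ i) :
    Nat.card Q ≤ p ^ 2 * Nat.card (pws p Q) := by
  have hp : p.Prime := Fact.out
  have hpz : (p : ℤ) ≠ 0 := by exact_mod_cast hp.ne_zero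
  have hppos : (0 : ℤ) < p := by exact_mod_cast hp.pos
  have key : ∀ u : Q, ∃ t : Fin p × Fin p × ↥(pws p Q),
      (u : G) = b ^ (t.1 : ℕ) * a ^ (t.2.1 : ℕ) * (t.2.2 : G) := by
    intro u
    obtain ⟨i, j, hu⟩ := hgen u u.2
    obtain ⟨i0, hi0⟩ : ∃ n : ℕ, (n : ℤ) = i % p :=
      ⟨(i % p).toNat, Int.toNat_of_nonneg (Int.emod_nonneg i hpz)⟩
    obtain ⟨j0, hj0⟩ : ∃ n : ℕ, (n : ℤ) = j % p :=
      ⟨(j % p).toNat, Int.toNat_of_nonneg (Int.emod_nonneg j hpz)⟩
    have hi0lt : i0 < p := by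
      have := Int.emod_lt_of_pos i hppos
      rw [← hi0] at this
      exact_mod_cast this
    have hj0lt : j0 < p := by
      have := Int.emod_lt_of_pos j hppos
      rw [← hj0] at this
      exact_mod_cast this
    have hi : i = i0 + p * (i / p) := by rw [hi0]; exact (Int.emod_add_mul_ediv i p).symm
    have hj : j = j0 + p * (j / p) := by rw [hj0]; exact (Int.emod_add_mul_ediv j p).symm
    have hbp : (b ^ p) ^ (j / p) ∈ pws p Q :=
      (pws p Q).zpow_mem (Subgroup.subset_closure ⟨b, hb, rfl⟩) _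
    have hap : (a ^ p) ^ (i / p) ∈ pws p Q :=
      (pws p Q).zpow_mem (Subgroup.subset_closure ⟨a, ha, rfl⟩) _
    have hconj : (a ^ i0)⁻¹ * (b ^ p) ^ (j / p) * a ^ i0 ∈ pws p Q := by
      apply pws_conj p Q (a ^ i0) _ _ hbp
      intro y hy
      exact Q.mul_mem (Q.mul_mem (Q.inv_mem (Q.pow_mem ha _)) hy) (Q.pow_mem ha _)
    refine ⟨(⟨j0, hj0lt⟩, ⟨i0, hi0lt⟩,
      ⟨(a ^ i0)⁻¹ * (b ^ p) ^ (j / p) * a ^ i0 * (a ^ p) ^ (i / p),
        (pws p Q).mul_mem hconj hap⟩), ?_⟩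
    show (u : G) = b ^ j0 * a ^ i0 * ((a ^ i0)⁻¹ * (b ^ p) ^ (j / p) * a ^ i0 * (a ^ p) ^ (i / p))
    have hbj : b ^ j = b ^ j0 * (b ^ p) ^ (j / p) := by
      conv_lhs => rw [hj]
      rw [zpow_add, zpow_mul, zpow_natCast, zpow_natCast]
    have hai : a ^ i = a ^ i0 * (a ^ p) ^ (i / p) := by
      conv_lhs => rw [hi]
      rw [zpow_add, zpow_mul, zpow_natCast, zpow_natCast]
    rw [hu, hbj, hai]
    group
  choose φ hφ using key
  have hinj : Function.Injective φ := by
    intro u u' h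
    apply Subtype.ext
    rw [hφ u, hφ u', h]
  have h1 := Nat.card_le_card_of_injective φ hinj
  have h2 : Nat.card (Fin p × Fin p × ↥(pws p Q)) = p ^ 2 * Nat.card (pws p Q) := by
    rw [Nat.card_prod, Nat.card_prod, Nat.card_fin]; ring
  rw [h2] at h1
  exact h1


section main
variable [Finite G]

theorem main_ind (p : ℕ) [Fact p.Prime] (S : Sylow p G)
    (hS : Cfsg.IsMetacyclic ↥(S : Subgroup G))
    (hcop : Nat.Coprime (pPrimePCore p G).index (p ^ 2 - 1)) :
    ∀ n : ℕ, ∀ m : ℕ, ∀ (Q : Subgroup G) (g : G), Nat.card Q = n → orderOf g = m →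
      Q ≤ (S : Subgroup G) → (∀ y ∈ Q, g⁻¹ * y * g ∈ Q) → (orderOf g).Coprime p →
      g ∈ Subgroup.centralizer (Q : Set G) := by
  have hp : p.Prime := Fact.out
  intro n
  induction n using Nat.strong_induction_on with
  | _ n ihn =>
  intro m
  induction m using Nat.strong_induction_on with
  | _ m ihm =>
  intro Q g hQn hgm hQS hgQ hgp
  by_contra hcon
  have hQ2 : IsPGroup p Q := S.2.to_le hQS
  -- invariance under powers
  have hpowQ : ∀ k : ℕ, ∀ y ∈ Q, (g ^ k)⁻¹ * y * g ^ k ∈ Q := by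
    intro k
    induction k with
    | zero => intro y hy; simpa using hy
    | succ k ihk =>
      intro y hy
      have : (g ^ (k + 1))⁻¹ * y * g ^ (k + 1) = g⁻¹ * ((g ^ k)⁻¹ * y * g ^ k) * g := by
        rw [pow_succ g k]; group
      rw [this]
      exact hgQ _ (ihk y hy)
  have hgQ' : ∀ y ∈ Q, g * y * g⁻¹ ∈ Q := by
    intro y hy
    have hpos : 0 < orderOf g := orderOf_pos g
    have h1 := hpowQ (orderOf g - 1) y hy
    have h2 : g ^ (orderOf g - 1) = g⁻¹ := by
      have : g ^ (orderOf g - 1) * g = 1 := by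
        rw [← pow_succ, Nat.sub_add_cancel hpos, pow_orderOf_eq_one]
      exact eq_inv_of_mul_eq_one_left this
    rw [h2, inv_inv] at h1
    exact h1
  -- the prime r
  have hord1 : orderOf g ≠ 1 := by
    intro h1
    rw [orderOf_eq_one_iff] at h1
    apply hcon; rw [h1]; exact Subgroup.one_mem _
  set r := (orderOf g).minFac with hr_def
  have hr : r.Prime := Nat.minFac_prime hord1
  have hrdvd : r ∣ orderOf g := Nat.minFac_dvd _
  have hrp : Nat.Coprime r p := Nat.Coprime.coprime_dvd_left hrdvd hgp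
  have hgr : g ^ r ∈ Subgroup.centralizer (Q : Set G) := by
    have hlt : orderOf (g ^ r) < m := by
      rw [orderOf_pow_of_dvd hr.ne_zero hrdvd, ← hgm]
      exact Nat.div_lt_self (orderOf_pos g) hr.one_lt
    exact ihm _ hlt Q (g ^ r) hQn rfl hQS (hpowQ r)
      (Nat.Coprime.coprime_dvd_left (orderOf_pow_dvd r) hgp)
  -- Q is nontrivial
  have hQne : Q ≠ ⊥ := by
    rintro rfl
    apply hcon
    rw [Subgroup.mem_centralizer_iff]
    intro h hh
    have : h = 1 := Subgroup.mem_bot.mp hh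
    rw [this]; simp
  -- the power subgroup is centralized by g
  have hFQ : pws p Q ≤ Q := pws_le p Q
  have hFne : pws p Q ≠ Q := pws_ne p Q hQ2 hQne
  have hFlt : Nat.card (pws p Q) < n := by
    rw [← hQn]
    have hle := Subgroup.card_le_of_le hFQ
    rcases lt_or_eq_of_le hle with h1 | h1
    · exact h1
    · exact absurd (Subgroup.eq_of_le_of_card_ge hFQ h1.ge) hFne
  have hFg : g ∈ Subgroup.centralizer (pws p Q : Set G) :=
    ihn _ hFlt (orderOf g) (pws p Q) g rfl rfl (hFQ.trans hQS) (pws_conj p Q g hgQ) hgp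
  -- C = C_Q(g)
  set C : Subgroup G := Q ⊓ Subgroup.centralizer {g} with hC
  have hCQ : C ≤ Q := inf_le_left
  have hFC : pws p Q ≤ C := by
    intro t ht
    refine Subgroup.mem_inf.mpr ⟨hFQ ht, ?_⟩
    rw [Subgroup.mem_centralizer_singleton_iff]
    exact Subgroup.mem_centralizer_iff.mp hFg t ht
  have hCne : C ≠ Q := by
    intro h
    apply hcon
    rw [Subgroup.mem_centralizer_iff]
    intro u hu
    have : u ∈ C := by rw [h]; exact hu
    exact Subgroup.mem_centralizer_singleton_iff.mp (Subgroup.mem_inf.mp this).2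
  -- counting fixed points
  have hmod : Nat.card Q ≡ Nat.card C [MOD r] := by
    let σ : Equiv.Perm ↥Q :=
      { toFun := fun u => ⟨g * u * g⁻¹, hgQ' u u.2⟩
        invFun := fun u => ⟨g⁻¹ * u * g, hgQ u u.2⟩
        left_inv := fun u => by apply Subtype.ext; show g⁻¹ * (g * u * g⁻¹) * g = u; group
        right_inv := fun u => by apply Subtype.ext; show g * (g⁻¹ * u * g) * g⁻¹ = u; group }
    have hσ1 : ∀ u : ↥Q, ((σ u : ↥Q) : G) = g * u * g⁻¹ := fun u => rfl
    have hσpow : ∀ k : ℕ, ∀ u : ↥Q, (((σ ^ k) u : ↥Q) : G) = g ^ k * u * (g ^ k)⁻¹ := by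
      intro k
      induction k with
      | zero => intro u; simp
      | succ k ihk =>
        intro u
        rw [pow_succ' σ k, Equiv.Perm.mul_apply, hσ1, ihk u, pow_succ' g k]
        group
    have hσr : σ ^ r = 1 := by
      ext u
      rw [hσpow r u, Equiv.Perm.one_apply]
      have h1 := Subgroup.mem_centralizer_iff.mp hgr u u.2
      rw [← h1]; group
    let H : Subgroup (Equiv.Perm ↥Q) := Subgroup.zpowers σ
    have hH : IsPGroup r H := by
      rintro ⟨h, hh⟩
      obtain ⟨j, rfl⟩ := Subgroup.mem_zpowers_iff.mp hh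
      refine ⟨1, ?_⟩
      apply Subtype.ext
      show (σ ^ j) ^ r ^ 1 = 1
      rw [pow_one, ← zpow_natCast, ← zpow_mul, mul_comm, zpow_mul, zpow_natCast, hσr, one_zpow]
    have : Fact r.Prime := ⟨hr⟩
    have h1 := hH.card_modEq_card_fixedPoints ↥Q
    have h2 : Nat.card (MulAction.fixedPoints H ↥Q) = Nat.card C := by
      apply Nat.card_eq_of_bijective
        (fun x : MulAction.fixedPoints H ↥Q => (⟨((x : ↥Q) : G), by
          refine Subgroup.mem_inf.mpr ⟨(x : ↥Q).2, ?_⟩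
          rw [Subgroup.mem_centralizer_singleton_iff]
          have hx := x.2 (⟨σ, Subgroup.mem_zpowers σ⟩ : H)
          have hx' : σ (x : ↥Q) = (x : ↥Q) := hx
          have hx'' := congrArg Subtype.val hx'
          rw [hσ1] at hx''
          calc ((x : ↥Q) : G) * g = (g * (x : ↥Q) * g⁻¹) * g := by rw [hx'']
            _ = g * (x : ↥Q) := by group⟩ : ↥C))
      constructor
      · intro x y hxy
        apply Subtype.ext
        apply Subtype.ext
        exact congrArg (fun z : ↥C => (z : G)) hxy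
      · rintro ⟨c, hc⟩
        obtain ⟨hcQ, hcg⟩ := Subgroup.mem_inf.mp hc
        rw [Subgroup.mem_centralizer_singleton_iff] at hcg
        have hfix : σ ⟨c, hcQ⟩ = ⟨c, hcQ⟩ := by
          apply Subtype.ext
          rw [hσ1]
          show g * c * g⁻¹ = c
          rw [← hcg]; group
        refine ⟨⟨⟨c, hcQ⟩, ?_⟩, rfl⟩
        rintro ⟨h, hh⟩
        obtain ⟨j, rfl⟩ := Subgroup.mem_zpowers_iff.mp hh
        exact Equiv.Perm.zpow_apply_eq_self_of_apply_eq_self hfix j
    rw [h2] at h1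
    exact h1
  -- orders
  obtain ⟨a, ha⟩ := IsPGroup.iff_card.mp hQ2
  obtain ⟨c, hc⟩ := IsPGroup.iff_card.mp (hQ2.to_le hCQ)
  have hca : c < a := by
    have hle := Subgroup.card_le_of_le hCQ
    have hlt : Nat.card C < Nat.card Q := by
      rcases lt_or_eq_of_le hle with h1 | h1
      · exact h1
      · exact absurd (Subgroup.eq_of_le_of_card_ge hCQ h1.ge) hCne
    rw [ha, hc] at hlt
    exact (Nat.pow_lt_pow_iff_right hp.one_lt).mp hlt
  obtain ⟨a0, hQa, hQb⟩ : ∃ a0 ∈ Q, ∃ b0 ∈ Q, ∀ u ∈ Q, ∃ i j : ℤ, u = b0 ^ j * a0 ^ i :=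
    exists_two_gens (S : Subgroup G) hS Q hQS
  obtain ⟨b0, hb0, hgen⟩ := hQb
  have hbound := card_le_of_two_gens p Q a0 b0 hQa hb0 hgen
  have hac : a ≤ c + 2 := by
    have h1 : Nat.card (pws p Q) ≤ Nat.card C := Subgroup.card_le_of_le hFC
    have h2 : p ^ a ≤ p ^ (c + 2) := by
      calc p ^ a = Nat.card Q := ha.symm
        _ ≤ p ^ 2 * Nat.card (pws p Q) := hbound
        _ ≤ p ^ 2 * Nat.card C := Nat.mul_le_mul_left _ h1
        _ = p ^ (c + 2) := by rw [hc]; ring
    exact (Nat.pow_le_pow_iff_right hp.one_lt).mp h2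
  -- r divides p^2 - 1
  have hrdiv : r ∣ p ^ 2 - 1 := by
    rw [ha, hc] at hmod
    have h1 : r ∣ p ^ a - p ^ c :=
      (Nat.modEq_iff_dvd' (Nat.pow_le_pow_right hp.pos hca.le)).mp hmod.symm
    have h2 : p ^ a - p ^ c = p ^ c * (p ^ (a - c) - 1) := by
      rw [Nat.mul_sub, mul_one, ← pow_add]; congr 2; omega
    rw [h2] at h1
    have h3 : r ∣ p ^ (a - c) - 1 :=
      (Nat.Coprime.pow_right c hrp).dvd_of_dvd_mul_left h1
    have h4 : a - c = 1 ∨ a - c = 2 := by omega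
    rcases h4 with h4 | h4
    · rw [h4, pow_one] at h3
      have h5 : p ^ 2 - 1 = (p - 1) * (p + 1) := by
        obtain ⟨q, rfl⟩ : ∃ q, p = q + 1 := ⟨p - 1, by have := hp.pos; omega⟩
        simp only [Nat.add_sub_cancel]
        have : (q + 1) ^ 2 = q * (q + 1 + 1) + 1 := by ring
        rw [this, Nat.add_sub_cancel]
      rw [h5]
      exact Dvd.dvd.mul_right h3 _
    · rw [h4] at h3; exact h3
  -- r divides the index of O_{p',p}
  have hrL : r ∣ (pPrimePCore p G).index := by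
    let gbar : G ⧸ pPrimePCore p G := (g : G ⧸ pPrimePCore p G)
    set mm := orderOf gbar with hmm
    have hmdvd : mm ∣ (pPrimePCore p G).index := by
      have := orderOf_dvd_natCard gbar
      exact this
    have hgmL : g ^ mm ∈ pPrimePCore p G := by
      rw [← QuotientGroup.eq_one_iff, QuotientGroup.mk_pow]
      exact pow_orderOf_eq_one gbar
    have hgmK : g ^ mm ∈ pPrimeCore p G :=
      Cfsg.Agent.Lib.Helper54.mem_pPrimeCore_of_coprime p hgmL
        (Nat.Coprime.coprime_dvd_left (orderOf_pow_dvd mm) hgp)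
    have hKn : (pPrimeCore p G).Normal := inferInstance
    have hgmC : g ^ mm ∈ Subgroup.centralizer (Q : Set G) := by
      rw [Subgroup.mem_centralizer_iff]
      intro u hu
      -- c = u⁻¹ (g^mm)⁻¹ u g^mm ∈ Q ∩ K
      have hcQ : u⁻¹ * ((g ^ mm)⁻¹ * u * g ^ mm) ∈ Q := Q.mul_mem (Q.inv_mem hu) (hpowQ mm u hu)
      have hcK : u⁻¹ * ((g ^ mm)⁻¹ * u * g ^ mm) ∈ pPrimeCore p G := by
        have h1 : u⁻¹ * (g ^ mm)⁻¹ * u⁻¹⁻¹ ∈ pPrimeCore p G :=
          hKn.conj_mem _ ((pPrimeCore p G).inv_mem hgmK) u⁻¹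
        have h2 : u⁻¹ * ((g ^ mm)⁻¹ * u * g ^ mm) = (u⁻¹ * (g ^ mm)⁻¹ * u⁻¹⁻¹) * g ^ mm := by group
        rw [h2]
        exact (pPrimeCore p G).mul_mem h1 hgmK
      have hc1 : u⁻¹ * ((g ^ mm)⁻¹ * u * g ^ mm) = 1 := by
        have hcopc := Cfsg.Agent.Lib.Helper54.orderOf_coprime_of_mem_pPrimeCore p hcK
        obtain ⟨k, hk⟩ := hQ2 ⟨_, hcQ⟩
        have hk' : (u⁻¹ * ((g ^ mm)⁻¹ * u * g ^ mm)) ^ p ^ k = 1 := by
          have := congrArg Subtype.val hk
          simpa using this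
        have hdvd : orderOf (u⁻¹ * ((g ^ mm)⁻¹ * u * g ^ mm)) ∣ p ^ k :=
          orderOf_dvd_of_pow_eq_one hk'
        have h1 : orderOf (u⁻¹ * ((g ^ mm)⁻¹ * u * g ^ mm)) ∣ Nat.gcd (orderOf (u⁻¹ * ((g ^ mm)⁻¹ * u * g ^ mm))) (p ^ k) :=
          Nat.dvd_gcd dvd_rfl hdvd
        rw [Nat.Coprime.pow_right k hcopc, Nat.dvd_one] at h1
        exact orderOf_eq_one_iff.mp h1
      calc u * g ^ mm = g ^ mm * (g ^ mm)⁻¹ * u * g ^ mm := by group
        _ = g ^ mm * (u * (u⁻¹ * ((g ^ mm)⁻¹ * u * g ^ mm))) := by group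
        _ = g ^ mm * u := by rw [hc1, mul_one]
    -- r ∣ mm
    refine Dvd.dvd.trans ?_ hmdvd
    by_contra hnd
    have hcopr : Nat.Coprime mm r := ((Nat.Prime.coprime_iff_not_dvd hr).mpr hnd).symm
    obtain ⟨b, -, hb⟩ := Nat.exists_mul_mod_eq_one_of_coprime hcopr hr.one_lt
    -- mm * b = r * q + 1
    have hdecomp : mm * b = r * (mm * b / r) + 1 := by
      have := Nat.div_add_mod (mm * b) r
      rw [hb] at this
      exact this.symm
    apply hcon
    have h1 : g ^ (mm * b) ∈ Subgroup.centralizer (Q : Set G) := by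
      rw [pow_mul]; exact Subgroup.pow_mem _ hgmC b
    have h2 : g ^ (r * (mm * b / r)) ∈ Subgroup.centralizer (Q : Set G) := by
      rw [pow_mul]; exact Subgroup.pow_mem _ hgr _
    have h3 : g = (g ^ (r * (mm * b / r)))⁻¹ * g ^ (mm * b) := by
      rw [hdecomp, pow_succ]
      rw [← hdecomp]
      group
    rw [h3]
    exact Subgroup.mul_mem _ (Subgroup.inv_mem _ h2) h1
  have hr1 : r ∣ Nat.gcd (pPrimePCore p G).index (p ^ 2 - 1) := Nat.dvd_gcd hrL hrdiv
  rw [hcop, Nat.dvd_one] at hr1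
  exact hr.one_lt.ne' hr1

end main

/-- Let p be a prime and G a finite group whose Sylow p-subgroups are metacyclic (a cyclic normal subgroup with cyclic quotient). Then G has a normal p-complement if and only if the order of G/O_{p′,p}(G) is coprime to p² − 1. -/
theorem result {G : Type*} [Group G] [Finite G] (p : ℕ) [Fact p.Prime] (S : Sylow p G) (hS : Cfsg.IsMetacyclic ↥(S : Subgroup G)) : Cfsg.HasNormalPComplement p G ↔ Nat.Coprime (Nat.card (G ⧸ Cfsg.pPrimePCore p G)) (p ^ 2 - 1) := by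
  have hp : p.Prime := Fact.out
  constructor
  · rintro ⟨P', N, hN, hcompl⟩
    have hcardmul : Nat.card N * Nat.card (P' : Subgroup G) = Nat.card G := hcompl.card_mul_card
    obtain ⟨k, hk⟩ := IsPGroup.iff_card.mp P'.2
    have hNcop : (Nat.card N).Coprime p := by
      have h1 : ¬ p ∣ (P' : Subgroup G).index := P'.not_dvd_index
      have h2 := (P' : Subgroup G).index_mul_card
      have h3 : (P' : Subgroup G).index = Nat.card N := by
        rw [← hcardmul] at h2
        exact Nat.eq_of_mul_eq_mul_right Nat.card_pos h2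
      rw [h3] at h1
      exact ((Nat.Prime.coprime_iff_not_dvd hp).mpr h1).symm
    have hNK : N ≤ pPrimeCore p G := Cfsg.Agent.Lib.Helper76.le_pPrimeCore p N hN hNcop
    have hNidx : N.index = p ^ k := by
      have h2 := N.index_mul_card
      rw [← hcardmul, mul_comm] at h2
      have h3 := Nat.eq_of_mul_eq_mul_left Nat.card_pos h2
      rw [h3]; exact hk
    have htop : (⊤ : Subgroup G) ≤ pPrimePCore p G := by
      apply Cfsg.Agent.Lib.Helper54.le_pPrimePCore p Subgroup.normal_top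
      intro g _
      refine ⟨k, hNK ?_⟩
      have := hN
      rw [← QuotientGroup.eq_one_iff, QuotientGroup.mk_pow]
      have hc : Nat.card (G ⧸ N) = p ^ k := hNidx
      have h4 := pow_card_eq_one' (G := G ⧸ N) (x := (g : G ⧸ N))
      rwa [hc] at h4
    have htop' : pPrimePCore p G = ⊤ := top_le_iff.mp htop
    show Nat.Coprime (pPrimePCore p G).index _
    rw [htop', Subgroup.index_top]
    exact Nat.coprime_one_left _
  · intro hcop
    have hcop' : Nat.Coprime (pPrimePCore p G).index (p ^ 2 - 1) := hcop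
    apply Cfsg.Agent.Lib.Helper2.hasNormalPComplement_of_coprimeCentralizes
    apply Cfsg.Agent.Lib.Helper2.coprimeCentralizes_of_forall_le_sylow S
    intro Q hQS g hgN hgp
    refine main_ind p S hS hcop' _ _ Q g rfl rfl hQS (fun y hy => ?_) hgp
    have h1 := (Subgroup.mem_normalizer_iff.mp (inv_mem hgN) y).mp hy
    rwa [inv_inv] at h1

end Cfsg.Agent.S4419
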