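import Cfsg.Statements.S4420
-- import your own Cfsg.Agent.* helpers here

set_option autoImplicit false
open Cfsg

namespace Cfsg.Agent.S4420

/-- An element outside `A` inverts every element of `A`. -/
theorem inverts_of_not_mem {H : Type*} [Group H] (A : Subgroup H)
    (hD : ∀ x : H, x ∉ A → x ^ 2 = 1) (t : H) (ht : t ∉ A) (a : H) (ha : a ∈ A) :
    t * a * t⁻¹ = a⁻¹ := by
  have hta : t * a ∉ A := by
    intro h
    apply ht
    have : t = (t * a) * a⁻¹ := by group
    rw [this]
    exact A.mul_mem h (A.inv_mem ha)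
  have h1 : (t * a) ^ 2 = 1 := hD _ hta
  have h2 : t ^ 2 = 1 := hD _ ht
  have h3 : t⁻¹ = t := by
    rw [inv_eq_iff_mul_eq_one, ← sq, h2]
  rw [h3]
  rw [sq] at h1
  -- t a t a = 1
  have : t * a * t = a⁻¹ := by
    rw [eq_inv_iff_mul_eq_one]
    simpa [mul_assoc] using h1
  exact this

/-- Exponent two implies commutative. -/
theorem comm_of_sq_eq_one {H : Type*} [Group H] (h : ∀ x : H, x ^ 2 = 1) (a b : H) :
    a * b = b * a := by
  have ha : a⁻¹ = a := by rw [inv_eq_iff_mul_eq_one, ← sq, h]
  have hb : b⁻¹ = b := by rw [inv_eq_iff_mul_eq_one, ← sq, h]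
  have hab : (a * b)⁻¹ = a * b := by rw [inv_eq_iff_mul_eq_one, ← sq, h]
  rw [mul_inv_rev, ha, hb] at hab
  exact hab.symm

/-- Structure of groups in which every element outside some proper subgroup has square 1. Let H be a finite group with a proper subgroup A such that every element outside A has square 1. Then H has an abelian normal subgroup B of index 2 such that every element outside B is an involution inverting every element of B; and if H is not an elementary abelian 2-group, B is the only abelian normal subgroup of index 2 with this property. -/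
theorem result {H : Type*} [Group H] [Finite H] (A : Subgroup H) (hA : A ≠ ⊤) (hD : ∀ x : H, x ∉ A → x ^ 2 = 1) :
    ∃ B : Subgroup H, B.Normal ∧ IsMulCommutative ↥B ∧ B.index = 2 ∧
      (∀ x : H, x ∉ B → x ^ 2 = 1 ∧ ∀ b ∈ B, x * b * x⁻¹ = b⁻¹) ∧
      (¬ (IsMulCommutative H ∧ ∀ x : H, x ^ 2 = 1) →
        ∀ B' : Subgroup H, B'.Normal → IsMulCommutative ↥B' → B'.index = 2 →
          (∀ x : H, x ∉ B' → x ^ 2 = 1 ∧ ∀ b ∈ B', x * b * x⁻¹ = b⁻¹) → B' = B) := by
  classical
  -- pick t ∉ A
  obtain ⟨t, ht⟩ : ∃ t : H, t ∉ A := by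
    by_contra hcon
    push Not at hcon
    exact hA (eq_top_iff.2 (fun x _ => hcon x))
  by_cases hexp : ∀ x : H, x ^ 2 = 1
  · -- H has exponent 2: elementary abelian
    have hcomm : ∀ a b : H, a * b = b * a := comm_of_sq_eq_one hexp
    have hp : IsPGroup 2 H := by
      intro x
      exact ⟨1, by simpa using hexp x⟩
    obtain ⟨k, hk⟩ := IsPGroup.iff_card.1 hp
    have hk0 : k ≠ 0 := by
      rintro rfl
      rw [pow_zero] at hk
      have hsub := (Nat.card_eq_one_iff_unique.1 hk).1
      apply ht
      have : t = 1 := Subsingleton.elim _ _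
      rw [this]
      exact A.one_mem
    have : Fact (Nat.Prime 2) := ⟨Nat.prime_two⟩
    obtain ⟨B, hB⟩ := Sylow.exists_subgroup_card_pow_prime (G := H) 2 (n := k - 1)
      (by rw [hk]; exact pow_dvd_pow 2 (Nat.sub_le k 1))
    have hidx : B.index = 2 := by
      have h1 := B.card_mul_index
      rw [hB, hk] at h1
      have h2 : (2 : ℕ) ^ k = 2 ^ (k - 1) * 2 := by
        rw [← pow_succ]
        congr 1
        omega
      rw [h2] at h1
      exact Nat.eq_of_mul_eq_mul_left (by positivity) h1
    refine ⟨B, Subgroup.normal_of_index_eq_two hidx, ?_, hidx, ?_, ?_⟩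
    · exact isMulCommutative_iff.2 (fun a b => Subtype.ext (hcomm a b))
    · intro x _
      refine ⟨hexp x, fun b _ => ?_⟩
      have hb : b⁻¹ = b := by rw [inv_eq_iff_mul_eq_one, ← sq, hexp]
      rw [hb, hcomm x b, mul_assoc, mul_inv_cancel, mul_one]
    · intro hne
      exact absurd ⟨isMulCommutative_iff.2 hcomm, hexp⟩ hne
  · -- some element x0 has x0 ^ 2 ≠ 1
    push Not at hexp
    obtain ⟨x0, hx0⟩ := hexp
    have hx0A : x0 ∈ A := by
      by_contra h
      exact hx0 (hD x0 h)
    have hinv := inverts_of_not_mem A hD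
    -- A is abelian
    have hAcomm : ∀ a ∈ A, ∀ b ∈ A, a * b = b * a := by
      intro a ha b hb
      have h1 := hinv t ht (a * b) (A.mul_mem ha hb)
      have h2 := hinv t ht a ha
      have h3 := hinv t ht b hb
      have h4 : t * (a * b) * t⁻¹ = (t * a * t⁻¹) * (t * b * t⁻¹) := by group
      rw [h4, h2, h3, mul_inv_rev] at h1
      -- a⁻¹ * b⁻¹ = b⁻¹ * a⁻¹
      have := congrArg (fun z => z⁻¹) h1
      simp only [mul_inv_rev, inv_inv] at this
      exact this.symm
    -- index two
    have hidx : A.index = 2 := by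
      rw [Subgroup.index_eq_two_iff]
      refine ⟨t, fun b => ?_⟩
      by_cases hb : b ∈ A
      · refine Or.inr ⟨hb, ?_⟩
        intro h
        apply ht
        have : t = b⁻¹ * (b * t) := by group
        rw [this]
        exact A.mul_mem (A.inv_mem hb) h
      · refine Or.inl ⟨?_, hb⟩
        by_contra hbt
        apply hx0
        have h1 := hinv (b * t) hbt x0 hx0A
        have h2 := hinv t ht x0 hx0A
        have h3 := hinv b hb x0⁻¹ (A.inv_mem hx0A)
        have h4 : b * t * x0 * (b * t)⁻¹ = b * (t * x0 * t⁻¹) * b⁻¹ := by group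
        rw [h4, h2, h3, inv_inv] at h1
        -- x0 = x0⁻¹
        rw [sq]
        exact mul_eq_one_iff_eq_inv.2 h1
    refine ⟨A, Subgroup.normal_of_index_eq_two hidx, ?_, hidx, ?_, ?_⟩
    · exact isMulCommutative_iff.2 (fun a b => Subtype.ext (hAcomm a a.2 b b.2))
    · intro x hx
      exact ⟨hD x hx, fun b hb => hinv x hx b hb⟩
    · intro _ B' _ hB'comm _ hB'
      have hB'c : ∀ a ∈ B', ∀ b ∈ B', a * b = b * a := by
        intro a ha b hb
        have := (isMulCommutative_iff.1 hB'comm) ⟨a, ha⟩ ⟨b, hb⟩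
        exact congrArg Subtype.val this
      have hx0B' : x0 ∈ B' := by
        by_contra h
        exact hx0 (hB' x0 h).1
      apply le_antisymm
      · intro b hb
        by_contra hbA
        apply hx0
        have h1 := hinv b hbA x0 hx0A
        have h2 : b * x0 * b⁻¹ = x0 := by
          rw [hB'c b hb x0 hx0B', mul_assoc, mul_inv_cancel, mul_one]
        rw [h2] at h1
        rw [sq]
        exact mul_eq_one_iff_eq_inv.2 h1
      · intro a ha
        by_contra haB'
        apply hx0
        have h1 := (hB' a haB').2 x0 hx0B'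
        have h2 : a * x0 * a⁻¹ = x0 := by
          rw [hAcomm a ha x0 hx0A, mul_assoc, mul_inv_cancel, mul_one]
        rw [h2] at h1
        rw [sq]
        exact mul_eq_one_iff_eq_inv.2 h1

end Cfsg.Agent.S4420
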