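import Mathlib
import Cfsg.Statements.S4429
import Cfsg.Agent.Lib.Helper14.M11F
import Cfsg.Agent.Lib.Helper14.BrauerSCC
import Cfsg.Agent.Lib.Helper14.M11Deg
import Cfsg.Agent.Lib.Helper77.Linear
-- import your own Cfsg.Agent.* helpers here

set_option autoImplicit false
open Cfsg

namespace Cfsg.Agent.S4429

attribute [local instance] Cfsg.Agent.Lib.Helper14.M11.fact11 Cfsg.Agent.Lib.Helper14.M11.fact5

open Cfsg.Agent.Lib.Helper14 Cfsg.Agent.Lib.Helper14.DegCount Cfsg.Agent.Lib.Helper14.BrauerSC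
  Cfsg.Agent.Lib.Helper17 Subgroup

section prep

variable {G : Type*} [Group G] [Finite G] [IsSimpleGroup G]

theorem relIndex11 (hc : Nat.card G = 7920) (P : Sylow 11 G) :
    (centralizer ((P : Subgroup G) : Set G)).relIndex (normalizer ((P : Subgroup G) : Set G)) = 5 := by
  have h := card_mul_relIndex_of_le
    (Subgroup.centralizer_le_normalizer (s := ((P : Subgroup G) : Set G)))
  rw [M11.card_centralizer_sylow11 hc P, M11.card_normalizer_sylow11 hc P] at h
  omega

theorem card_centralizer_sylow5 (hc : Nat.card G = 7920) (Y : Sylow 5 G) :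
    Nat.card (centralizer ((Y : Subgroup G) : Set G)) = 5 := by
  rcases M11.card_centralizer_sylow5 hc Y with h | h
  · exact h
  · exact (M11.case_two_false hc Y h).elim

theorem relIndex5 (hc : Nat.card G = 7920) (P : Sylow 5 G) :
    (centralizer ((P : Subgroup G) : Set G)).relIndex (normalizer ((P : Subgroup G) : Set G)) = 4 := by
  have h := card_mul_relIndex_of_le
    (Subgroup.centralizer_le_normalizer (s := ((P : Subgroup G) : Set G)))
  rw [card_centralizer_sylow5 hc P, M11.card_normalizer_sylow5 hc P] at h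
  omega

theorem commutator_eq_top (hc : Nat.card G = 7920) : _root_.commutator G = ⊤ := by
  rw [_root_.commutator_def]
  rcases (Subgroup.commutator_normal (⊤ : Subgroup G) ⊤).eq_bot_or_eq_top with h | h
  · exfalso
    apply M11.not_comm hc
    refine ⟨⟨fun a b => ?_⟩⟩
    have hab : a * b * a⁻¹ * b⁻¹ ∈ ⁅(⊤ : Subgroup G), ⊤⁆ :=
      Subgroup.commutator_mem_commutator (Subgroup.mem_top a) (Subgroup.mem_top b)
    rw [h, Subgroup.mem_bot] at hab
    calc a * b = (a * b * a⁻¹ * b⁻¹) * (b * a) := by group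
      _ = b * a := by rw [hab, one_mul]
  · exact h

open Classical in
theorem cnt_one (hc : Nat.card G = 7920) :
    cnt (fun χ : IrrCharacter G => charDegree χ.1) 1 = 1 := by
  rw [← natCard_subtype_eq_cnt]
  have h1 := Cfsg.Agent.Lib.Helper77.card_linear_characters (G := G)
  rw [commutator_eq_top hc, Subgroup.index_top] at h1
  have h2 : Nat.card {χ : IrrCharacter G // charDegree χ.1 = 1} =
      Nat.card {χ : IrrCharacter G // (χ : G → ℂ) 1 = 1} := by
    apply Nat.card_congr
    apply Equiv.subtypeEquivRight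
    intro χ
    rw [Cfsg.Agent.Lib.Helper79.irr_apply_one_eq_charDegree χ]
    exact (Nat.cast_eq_one (R := ℂ)).symm
  rw [h2, h1]

end prep


/-- Let G be a simple group of order 7920. Then G has exactly ten irreducible complex characters, and their degrees, listed with multiplicity, are 1, 10, 10, 10, 11, 16, 16, 44, 45, 55: for every natural number n, the number of irreducible characters of degree n is 1 if n ∈ {1, 11, 44, 45, 55}, 3 if n = 10, 2 if n = 16, and 0 otherwise. -/
theorem result {G : Type*} [Group G] [Finite G] [IsSimpleGroup G] (hG : Nat.card G = 7920) : Nat.card (Cfsg.IrrCharacter G) = 10 ∧ ∀ n : ℕ, Nat.card {χ : Cfsg.IrrCharacter G // Cfsg.charDegree (χ : G → ℂ) = n} = (if n = 1 ∨ n = 11 ∨ n = 44 ∨ n = 45 ∨ n = 55 then 1 else if n = 10 then 3 else if n = 16 then 2 else 0) := by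
  classical
  have : Fintype G := Fintype.ofFinite G
  set d : IrrCharacter G → ℕ := fun χ => charDegree χ.1 with hd
  -- sum of squares and divisibility
  have hsq : ∑ χ, d χ ^ 2 = 7920 := by
    rw [← hG]; exact Cfsg.Agent.Lib.Helper78.sum_irr_charDegree_sq
  have hDl : ∀ χ, d χ ∈ Dl := by
    intro χ
    apply mem_Dl
    · rw [← hG]; exact Cfsg.Agent.Lib.Helper79.irr_charDegree_dvd_card χ
    · have := Finset.single_le_sum (f := fun χ => d χ ^ 2) (fun _ _ => Nat.zero_le _)
        (Finset.mem_univ χ)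
      rw [hsq] at this
      simpa [sq] using this
  have hlin : cnt d 1 = 1 := cnt_one hG
  -- Brauer data for p = 11
  obtain ⟨X, Y, s, ε, hXY, hXc, hYc, -, hmem, hXprop, -, hε, hYdeg, hYeq, hdeg⟩ :=
    brauer_package (G := G) (p := 11) (by norm_num) (default : Sylow 11 G)
      (M11.card_sylow11_sub hG _) (fun Q => M11.card_centralizer_sylow11 hG Q) 5
      (relIndex11 hG _)
  -- Brauer data for p = 5
  obtain ⟨X5, Y5, s5, ε5, hXY5, hXc5, hYc5, -, hmem5, hXprop5, -, hε5, hYdeg5, -, -⟩ :=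
    brauer_package (G := G) (p := 5) (by norm_num) (default : Sylow 5 G)
      (M11.card_sylow5_sub hG _) (fun Q => card_centralizer_sylow5 hG Q) 4
      (relIndex5 hG _)
  have hYc' : Y.card = 2 := by rw [hYc]
  have hYc5' : Y5.card = 1 := by rw [hYc5]
  -- residues
  have resX : ∀ χ ∈ X, d χ % 11 = 1 ∨ d χ % 11 = 10 := by
    intro χ hχ
    obtain ⟨hs, hmod⟩ := hXprop χ hχ
    unfold Int.ModEq at hmod
    have : ((d χ : ℕ) : ℤ) % ((11 : ℕ) : ℤ) = s χ % ((11 : ℕ) : ℤ) := hmod
    rcases hs with h | h <;> rw [h] at this <;> omega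
  have resY : ∀ χ ∈ Y, (ε = 1 ∧ d χ % 11 = 5) ∨ (ε = -1 ∧ d χ % 11 = 6) := by
    intro χ hχ
    have hmod := hYdeg χ hχ
    unfold Int.ModEq at hmod
    have : ((d χ : ℕ) : ℤ) % ((11 : ℕ) : ℤ) = (ε * ((5 : ℕ) : ℤ)) % ((11 : ℕ) : ℤ) := hmod
    rcases hε with h | h <;> rw [h] at this
    · left; refine ⟨h, ?_⟩; omega
    · right; refine ⟨h, ?_⟩; omega
  have resX5 : ∀ χ ∈ X5, d χ % 5 = 1 ∨ d χ % 5 = 4 := by
    intro χ hχ
    obtain ⟨hs, hmod⟩ := hXprop5 χ hχ
    unfold Int.ModEq at hmod
    have : ((d χ : ℕ) : ℤ) % ((5 : ℕ) : ℤ) = s5 χ % ((5 : ℕ) : ℤ) := hmod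
    rcases hs with h | h <;> rw [h] at this <;> omega
  have resY5 : ∀ χ ∈ Y5, d χ % 5 = 1 ∨ d χ % 5 = 4 := by
    intro χ hχ
    have hmod := hYdeg5 χ hχ
    unfold Int.ModEq at hmod
    have : ((d χ : ℕ) : ℤ) % ((5 : ℕ) : ℤ) = (ε5 * ((4 : ℕ) : ℤ)) % ((5 : ℕ) : ℤ) := hmod
    rcases hε5 with h | h <;> rw [h] at this <;> omega
  -- the facts on filters
  have h5a : (Finset.univ.filter (fun χ => ¬ 5 ∣ d χ)).card = 5 := by
    have : Finset.univ.filter (fun χ => ¬ 5 ∣ d χ) = X5 ∪ Y5 := by
      ext χ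
      simp only [Finset.mem_filter, Finset.mem_univ, true_and, Finset.mem_union]
      exact hmem5 χ
    rw [this, Finset.card_union_of_disjoint hXY5, hXc5, hYc5']
  have h5b : ∀ χ, ¬ 5 ∣ d χ → d χ % 5 = 1 ∨ d χ % 5 = 4 := by
    intro χ hχ
    rcases (hmem5 χ).1 hχ with h | h
    · exact resX5 χ h
    · exact resY5 χ h
  have hXfilter : Finset.univ.filter (fun χ => d χ % 11 = 1 ∨ d χ % 11 = 10) = X := by
    ext χ
    simp only [Finset.mem_filter, Finset.mem_univ, true_and]
    constructor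
    · intro h
      have hnd : ¬ 11 ∣ d χ := by omega
      rcases (hmem χ).1 hnd with h' | h'
      · exact h'
      · rcases resY χ h' with h'' | h'' <;> omega
    · exact resX χ
  have hYfilter : Finset.univ.filter (fun χ => d χ % 11 = 5 ∨ d χ % 11 = 6) = Y := by
    ext χ
    simp only [Finset.mem_filter, Finset.mem_univ, true_and]
    constructor
    · intro h
      have hnd : ¬ 11 ∣ d χ := by omega
      rcases (hmem χ).1 hnd with h' | h'
      · rcases resX χ h' with h'' | h'' <;> omega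
      · exact h'
    · intro h
      rcases resY χ h with h'' | h''
      · exact Or.inl h''.2
      · exact Or.inr h''.2
  have hX : (Finset.univ.filter (fun χ => d χ % 11 = 1 ∨ d χ % 11 = 10)).card = 5 := by
    rw [hXfilter, hXc]
  have hY : (Finset.univ.filter (fun χ => d χ % 11 = 5 ∨ d χ % 11 = 6)).card = 2 := by
    rw [hYfilter, hYc']
  have ho : ∀ χ, ¬ 11 ∣ d χ →
      d χ % 11 = 1 ∨ d χ % 11 = 10 ∨ d χ % 11 = 5 ∨ d χ % 11 = 6 := by
    intro χ hχ
    rcases (hmem χ).1 hχ with h | h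
    · rcases resX χ h with h' | h'
      · exact Or.inl h'
      · exact Or.inr (Or.inl h')
    · rcases resY χ h with h' | h'
      · exact Or.inr (Or.inr (Or.inl h'.2))
      · exact Or.inr (Or.inr (Or.inr h'.2))
  -- the exceptional degree
  obtain ⟨θ, hθ⟩ : Y.Nonempty := by
    rw [← Finset.card_pos, hYc']; norm_num
  have hm11 : d θ % 11 = 5 ∨ d θ % 11 = 6 := by
    rcases resY θ hθ with h | h
    · exact Or.inl h.2
    · exact Or.inr h.2
  have hm2 : 2 ≤ cnt d (d θ) := by
    rw [← hYc']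
    apply Finset.card_le_card
    intro χ hχ
    simp only [Finset.mem_filter, Finset.mem_univ, true_and]
    exact hYeq χ hχ θ hθ
  have hdeg' : (if d θ % 11 = 5 then ((d θ : ℕ) : ℤ) else -((d θ : ℕ) : ℤ)) = ∑ χ, wX (d χ) := by
    have h1 := hdeg θ hθ
    have h2 : ∑ χ ∈ X, s χ * ((d χ : ℕ) : ℤ) = ∑ χ, wX (d χ) := by
      rw [← Finset.sum_subset (Finset.subset_univ X)]
      · apply Finset.sum_congr rfl
        intro χ hχ
        obtain ⟨hs, hmod⟩ := hXprop χ hχ
        unfold Int.ModEq at hmod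
        have hmod' : ((d χ : ℕ) : ℤ) % ((11 : ℕ) : ℤ) = s χ % ((11 : ℕ) : ℤ) := hmod
        unfold wX
        rcases hs with h | h <;> rw [h] at hmod' ⊢
        · have : d χ % 11 = 1 := by omega
          rw [if_pos this]; ring
        · have : d χ % 11 = 10 := by omega
          rw [if_neg (by omega), if_pos this]; ring
      · intro χ _ hχ
        rw [← hXfilter] at hχ
        simp only [Finset.mem_filter, Finset.mem_univ, true_and, not_or] at hχ
        unfold wX
        rw [if_neg hχ.1, if_neg hχ.2]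
    rw [← h2, ← h1]
    rcases resY θ hθ with h | h
    · rw [if_pos h.2, h.1]; ring
    · rw [if_neg (by omega), h.1]; ring
  have h := cnt_eq_tgt_of_facts d hDl hsq hlin h5a h5b hX hY ho (d θ) (hDl θ) hm11 hm2 hdeg'
  refine ⟨?_, ?_⟩
  · rw [Nat.card_eq_fintype_card]
    exact card_eq_ten d hDl h
  · intro n
    have h1 : Nat.card {χ : Cfsg.IrrCharacter G // Cfsg.charDegree (χ : G → ℂ) = n} = cnt d n :=
      natCard_subtype_eq_cnt d n
    rw [h1, cnt_eq_tgt d hDl h n]
    rfl

end Cfsg.Agent.S4429
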