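import Cfsg.Statements.S4444
import Cfsg.Agent.S4911
import Cfsg.Agent.Lib.Helper81.CoprimeChar
import Cfsg.Agent.Lib.Helper81.GlaubermanRel
import Cfsg.Agent.Lib.Helper81.GlaubermanBij
import Cfsg.Agent.Lib.Helper81.GlaubermanSign
import Cfsg.Agent.Lib.Helper81.IrrTransport

set_option autoImplicit false
open Cfsg

namespace Cfsg.Agent.S4444

open Cfsg.Agent.Lib.Helper81

/-- The four assertions of the Glauberman correspondence for a relation `R χ β m`
("the multiplicity of `β` in `χ` restricted is `m`") that is transported from `GlaubRel`. -/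
theorem four_parts {X Y Z : Type*} (inv : X → Prop) (p : ℕ) (M : X → Y → ℕ → Prop)
    (T : Y → Z) (T' : Z → Y) (hT : ∀ y, T' (T y) = y) (hT' : ∀ z, T (T' z) = z)
    (Rel : X → Z → Prop)
    (hM : ∀ x y, (∃ m : ℕ, M x y m ∧ ¬ p ∣ m) ↔ Rel x (T y))
    (h1 : ∀ x, inv x → ∃! z, Rel x z)
    (h2 : ∀ x, inv x → ∀ y m, M x y m → ¬ p ∣ m → ((m : ℤ) ≡ 1 [ZMOD p] ∨ (m : ℤ) ≡ -1 [ZMOD p]))
    (h3 : ∀ x x', inv x → inv x' → ∀ z, Rel x z → Rel x' z → x = x')
    (h4 : ∀ z, ∃ x, inv x ∧ Rel x z) :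
    (∀ x, inv x → ∃! y, ∃ m : ℕ, M x y m ∧ ¬ p ∣ m) ∧
    (∀ x, inv x → ∀ y m, M x y m → ¬ p ∣ m → ((m : ℤ) ≡ 1 [ZMOD p] ∨ (m : ℤ) ≡ -1 [ZMOD p])) ∧
    (∀ x x', inv x → inv x' → ∀ y m m', M x y m → ¬ p ∣ m → M x' y m' → ¬ p ∣ m' → x = x') ∧
    (∀ y, ∃ x, inv x ∧ ∃ m : ℕ, M x y m ∧ ¬ p ∣ m) := by
  refine ⟨?_, h2, ?_, ?_⟩
  · intro x hx
    obtain ⟨z, hz, hzu⟩ := h1 x hx
    refine ⟨T' z, (hM x (T' z)).mpr (by rw [hT']; exact hz), ?_⟩
    intro y hy
    have := hzu (T y) ((hM x y).mp hy)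
    rw [← this, hT]
  · intro x x' hx hx' y m m' hm hpm hm' hpm'
    exact h3 x x' hx hx' (T y) ((hM x y).mp ⟨m, hm, hpm⟩) ((hM x' y).mp ⟨m', hm', hpm'⟩)
  · intro y
    obtain ⟨x, hx, hr⟩ := h4 (T y)
    exact ⟨x, hx, (hM x y).mpr hr⟩

/-- The Glauberman correspondence for a p-group of operators. Inside a finite group Γ let S normalise G with the orders of G and S coprime, S a p-group, and let C = G ⊓ C(S) be the fixed points. Call an irreducible character χ of G S-invariant when χ(s g s⁻¹) = χ(g) for s ∈ S, g ∈ G. Then: (i) for every S-invariant χ there is exactly one irreducible character β of C whose multiplicity [χ_C, β] in the restriction of χ is not divisible by p; (ii) that multiplicity is ≡ 1 or ≡ −1 (mod p); (iii) distinct S-invariant χ give distinct β; (iv) every irreducible character of C arises in this way. So χ ↦ β is a bijection from the S-invariant irreducible characters of G onto the irreducible characters of C. -/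
theorem result {Γ : Type*} [Group Γ] [Fintype Γ] (G S : Subgroup Γ) [Fintype G] (hnorm : ∀ s ∈ S, ∀ g ∈ G, s * g * s⁻¹ ∈ G) (hcop : (Nat.card G).Coprime (Nat.card S)) (p : ℕ) (hp : p.Prime) (hS : IsPGroup p S) (C : Subgroup Γ) [Fintype C] (hC : C = G ⊓ Subgroup.centralizer (S : Set Γ)) (hCG : C ≤ G) : (∀ χ : Cfsg.IrrCharacter G, (∀ s ∈ S, ∀ g g' : G, (g' : Γ) = s * g * s⁻¹ → (χ : G → ℂ) g' = (χ : G → ℂ) g) → ∃! β : Cfsg.IrrCharacter C, ∃ m : ℕ, Cfsg.classInner (fun c : C => (χ : G → ℂ) ⟨c, hCG c.2⟩) (β : C → ℂ) = (m : ℂ) ∧ ¬ p ∣ m) ∧ (∀ χ : Cfsg.IrrCharacter G, (∀ s ∈ S, ∀ g g' : G, (g' : Γ) = s * g * s⁻¹ → (χ : G → ℂ) g' = (χ : G → ℂ) g) → ∀ β : Cfsg.IrrCharacter C, ∀ m : ℕ, Cfsg.classInner (fun c : C => (χ : G → ℂ) ⟨c, hCG c.2⟩) (β : C → ℂ) = (m : ℂ) → ¬ p ∣ m → ((m : ℤ) ≡ 1 [ZMOD p] ∨ (m : ℤ) ≡ -1 [ZMOD p])) ∧ (∀ χ χ' : Cfsg.IrrCharacter G, (∀ s ∈ S, ∀ g g' : G, (g' : Γ) = s * g * s⁻¹ → (χ : G → ℂ) g' = (χ : G → ℂ) g) → (∀ s ∈ S, ∀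 g g' : G, (g' : Γ) = s * g * s⁻¹ → (χ' : G → ℂ) g' = (χ' : G → ℂ) g) → ∀ β : Cfsg.IrrCharacter C, ∀ m m' : ℕ, Cfsg.classInner (fun c : C => (χ : G → ℂ) ⟨c, hCG c.2⟩) (β : C → ℂ) = (m : ℂ) → ¬ p ∣ m → Cfsg.classInner (fun c : C => (χ' : G → ℂ) ⟨c, hCG c.2⟩) (β : C → ℂ) = (m' : ℂ) → ¬ p ∣ m' → χ = χ') ∧ (∀ β : Cfsg.IrrCharacter C, ∃ χ : Cfsg.IrrCharacter G, (∀ s ∈ S, ∀ g g' : G, (g' : Γ) = s * g * s⁻¹ → (χ : G → ℂ) g' = (χ : G → ℂ) g) ∧ ∃ m : ℕ, Cfsg.classInner (fun c : C => (χ : G → ℂ) ⟨c, hCG c.2⟩) (β : C → ℂ) = (m : ℂ) ∧ ¬ p ∣ m) := by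
  classical
  have : Fact p.Prime := ⟨hp⟩
  by_cases hpS : p ∣ Nat.card S
  · -- main case: `p ∤ |G|`
    have hpG : ¬ p ∣ Nat.card G := by
      intro h
      have := Nat.dvd_gcd h hpS
      rw [hcop.gcd_eq_one] at this
      exact hp.one_lt.ne' (Nat.dvd_one.mp this)
    have hPK : S ≤ Subgroup.normalizer (G : Set Γ) := by
      intro s hs
      rw [Subgroup.mem_normalizer_iff]
      intro h
      constructor
      · intro hh
        exact hnorm s hs h hh
      · intro hh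
        have := hnorm s⁻¹ (S.inv_mem hs) _ hh
        have e : s⁻¹ * (s * h * s⁻¹) * s⁻¹⁻¹ = h := by group
        rwa [e] at this
    have hirr : ∀ χ : IrrCharacter G,
        (∀ s ∈ S, ∀ g g' : G, (g' : Γ) = s * g * s⁻¹ → (χ : G → ℂ) g' = (χ : G → ℂ) g) ↔
        ∀ (x : S) (k : G), (χ : G → ℂ) (Cfsg.Agent.S4911.normAct S G hPK x k) = (χ : G → ℂ) k := by
      intro χ
      constructor
      · intro h x k
        exact h x x.2 k _ rfl
      · intro h s hs g g' hg'
        have : g' = Cfsg.Agent.S4911.normAct S G hPK ⟨s, hs⟩ g := Subtype.ext hg'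
        rw [this]
        exact h ⟨s, hs⟩ g
    -- the isomorphism `C ≃* fixSub`
    have hmemC : ∀ c : Γ, c ∈ C ↔ c ∈ G ∧ ∀ s ∈ S, s * c * s⁻¹ = c := by
      intro c
      rw [hC, Subgroup.mem_inf, Subgroup.mem_centralizer_iff]
      constructor
      · rintro ⟨h1, h2⟩
        refine ⟨h1, fun s hs => ?_⟩
        rw [h2 s hs]; group
      · rintro ⟨h1, h2⟩
        refine ⟨h1, fun s hs => ?_⟩
        have := h2 s hs
        calc s * c = s * c * s⁻¹ * s := by group
          _ = c * s := by rw [this]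
    let e : C ≃* fixSub (Cfsg.Agent.S4911.normAct S G hPK) :=
      { toFun := fun c => ⟨⟨c, hCG c.2⟩, fun x => Subtype.ext (((hmemC c).mp c.2).2 x x.2)⟩
        invFun := fun d => ⟨((d : G) : Γ), (hmemC _).mpr ⟨(d : G).2, fun s hs =>
          congrArg Subtype.val (d.2 ⟨s, hs⟩)⟩⟩
        left_inv := fun c => rfl
        right_inv := fun d => rfl
        map_mul' := fun a b => rfl }
    have := Fintype.ofFinite (fixSub (Cfsg.Agent.S4911.normAct S G hPK))
    have hkey : ∀ (χ : IrrCharacter G) (β : IrrCharacter C),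
        classInner (fun c : C => (χ : G → ℂ) ⟨c, hCG c.2⟩) (β : C → ℂ) =
        classInner (fun d : fixSub (Cfsg.Agent.S4911.normAct S G hPK) => (χ : G → ℂ) d)
          (irrTransport e β : _ → ℂ) := by
      intro χ β
      exact classInner_irrTransport e
        (fun d : fixSub (Cfsg.Agent.S4911.normAct S G hPK) => (χ : G → ℂ) d) β
    refine four_parts
      (fun χ : IrrCharacter G => ∀ s ∈ S, ∀ g g' : G, (g' : Γ) = s * g * s⁻¹ →
        (χ : G → ℂ) g' = (χ : G → ℂ) g) p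
      (fun (χ : IrrCharacter G) (β : IrrCharacter C) (m : ℕ) =>
        Cfsg.classInner (fun c : C => (χ : G → ℂ) ⟨c, hCG c.2⟩) (β : C → ℂ) = (m : ℂ))
      (irrTransport e) (irrTransport e.symm) (irrTransport_symm_irrTransport e)
      (irrTransport_irrTransport_symm e)
      (GlaubRel (Cfsg.Agent.S4911.normAct S G hPK) p)
      ?_ ?_ ?_ ?_ ?_
    · intro χ β
      unfold GlaubRel
      simp only [hkey]
    · intro χ hχ
      exact existsUnique_glaubRel _ p hS hpG χ ((hirr χ).mp hχ)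
    · intro χ hχ β m hm hpm
      rw [hkey] at hm
      exact glaubRel_modEq_one_or_neg_one _ p hS hpG χ ((hirr χ).mp hχ) _ m hm hpm
    · intro χ χ' hχ hχ' γ h h'
      exact glaubRel_injective _ p hS hpG χ χ' ((hirr χ).mp hχ) ((hirr χ').mp hχ') γ h h'
    · intro γ
      obtain ⟨χ, hχ, hr⟩ := exists_glaubRel _ p hS hpG γ
      exact ⟨χ, (hirr χ).mpr hχ, hr⟩
  · -- trivial case: `S = ⊥`, `C = G`
    have hS1 : Nat.card S = 1 := by
      obtain ⟨k, hk⟩ := hS.exists_card_eq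
      rcases Nat.eq_zero_or_pos k with h0 | h0
      · rw [hk, h0, pow_zero]
      · exfalso
        apply hpS
        rw [hk]
        exact dvd_pow_self p h0.ne'
    have hSbot : S = ⊥ := Subgroup.card_eq_one.mp hS1
    have hCG' : G ≤ C := by
      intro g hg
      rw [hC, Subgroup.mem_inf, Subgroup.mem_centralizer_iff]
      refine ⟨hg, fun s hs => ?_⟩
      rw [hSbot] at hs
      have : s = 1 := by simpa using hs
      rw [this, one_mul, mul_one]
    let e : C ≃* G :=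
      { toFun := fun c => ⟨c, hCG c.2⟩
        invFun := fun g => ⟨g, hCG' g.2⟩
        left_inv := fun c => rfl
        right_inv := fun g => rfl
        map_mul' := fun a b => rfl }
    have hkey : ∀ (χ : IrrCharacter G) (β : IrrCharacter C),
        classInner (fun c : C => (χ : G → ℂ) ⟨c, hCG c.2⟩) (β : C → ℂ) =
        if χ = irrTransport e β then 1 else 0 := by
      intro χ β
      have h1 := classInner_irrTransport e (χ : G → ℂ) β
      have h2 := Cfsg.Agent.Lib.Helper78.classInner_irr χ.2 (irrTransport e β).2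
      have h3 : (fun c : C => (χ : G → ℂ) ⟨c, hCG c.2⟩) = fun c : C => (χ : G → ℂ) (e c) := rfl
      rw [h3, h1, h2]
      by_cases h : χ = irrTransport e β
      · rw [if_pos h, if_pos (by rw [← h])]
      · rw [if_neg h, if_neg (fun h' => h (Subtype.ext h'))]
    have hm01 : ∀ (χ : IrrCharacter G) (β : IrrCharacter C) (m : ℕ),
        classInner (fun c : C => (χ : G → ℂ) ⟨c, hCG c.2⟩) (β : C → ℂ) = (m : ℂ) → ¬ p ∣ m →
        m = 1 ∧ χ = irrTransport e β := by
      intro χ β m hm hpm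
      rw [hkey] at hm
      by_cases h : χ = irrTransport e β
      · rw [if_pos h] at hm
        refine ⟨?_, h⟩
        exact_mod_cast hm.symm
      · rw [if_neg h] at hm
        exfalso
        apply hpm
        have : m = 0 := by exact_mod_cast hm.symm
        rw [this]
        exact dvd_zero p
    refine ⟨?_, ?_, ?_, ?_⟩
    · intro χ _
      refine ⟨irrTransport e.symm χ, ⟨1, ?_, ?_⟩, ?_⟩
      · rw [hkey, if_pos (irrTransport_irrTransport_symm e χ).symm]
        simp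
      · intro h
        exact hp.one_lt.ne' (Nat.dvd_one.mp h)
      · rintro β ⟨m, hm, hpm⟩
        have := (hm01 χ β m hm hpm).2
        rw [this, irrTransport_symm_irrTransport]
    · intro χ _ β m hm hpm
      left
      rw [(hm01 χ β m hm hpm).1]
      rfl
    · intro χ χ' _ _ β m m' hm hpm hm' hpm'
      rw [(hm01 χ β m hm hpm).2, (hm01 χ' β m' hm' hpm').2]
    · intro β
      refine ⟨irrTransport e β, ?_, 1, ?_, ?_⟩
      · intro s hs g g' hg'
        rw [hSbot] at hs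
        have hs1 : s = 1 := by simpa using hs
        have : g' = g := by
          apply Subtype.ext
          rw [hg', hs1]
          group
        rw [this]
      · rw [hkey, if_pos rfl]
        simp
      · intro h
        exact hp.one_lt.ne' (Nat.dvd_one.mp h)

end Cfsg.Agent.S4444
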