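import Cfsg.Statements.S4445
import Cfsg.Agent.S4911
import Cfsg.Agent.Lib.Helper81.CoprimeChar
import Cfsg.Agent.Lib.Helper81.GlaubermanSolvable

set_option autoImplicit false
open Cfsg

namespace Cfsg.Agent.S4445

open Cfsg.Agent.Lib.Helper81

/-- Inside a finite group Γ let the solvable subgroup S normalise G with the orders of G and S coprime. Then the number of S-invariant irreducible characters of G (χ(s g s⁻¹) = χ(g) for all s ∈ S, g ∈ G) equals the number of conjugacy classes of G mapped to themselves by conjugation by every element of S. -/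
theorem result {Γ : Type*} [Group Γ] [Fintype Γ] (G S : Subgroup Γ) [Fintype G] (hnorm : ∀ s ∈ S, ∀ g ∈ G, s * g * s⁻¹ ∈ G) (hcop : (Nat.card G).Coprime (Nat.card S)) (hsolv : Group.IsSolvable S) : Nat.card {χ : Cfsg.IrrCharacter G // (∀ s ∈ S, ∀ g g' : G, (g' : Γ) = s * g * s⁻¹ → (χ : G → ℂ) g' = (χ : G → ℂ) g)} = Nat.card {K : ConjClasses G // ∀ s ∈ S, ∀ g g' : G, (g' : Γ) = s * g * s⁻¹ → ConjClasses.mk g = K → ConjClasses.mk g' = K} := by
  classical
  have hPK : S ≤ Subgroup.normalizer (G : Set Γ) := by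
    intro s hs
    rw [Subgroup.mem_normalizer_iff]
    intro h
    constructor
    · intro hh
      exact hnorm s hs h hh
    · intro hh
      have := hnorm s⁻¹ (S.inv_mem hs) _ hh
      have e : s⁻¹ * (s * h * s⁻¹) * s⁻¹⁻¹ = h := by group
      rwa [e] at this
  have hirr : ∀ χ : IrrCharacter G,
      (∀ s ∈ S, ∀ g g' : G, (g' : Γ) = s * g * s⁻¹ → (χ : G → ℂ) g' = (χ : G → ℂ) g) ↔
      ∀ (x : S) (k : G), (χ : G → ℂ) (Cfsg.Agent.S4911.normAct S G hPK x k) = (χ : G → ℂ) k := by
    intro χ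
    constructor
    · intro h x k
      exact h x x.2 k _ rfl
    · intro h s hs g g' hg'
      have : g' = Cfsg.Agent.S4911.normAct S G hPK ⟨s, hs⟩ g := Subtype.ext hg'
      rw [this]
      exact h ⟨s, hs⟩ g
  have hcls : ∀ c : ConjClasses G,
      (∀ s ∈ S, ∀ g g' : G, (g' : Γ) = s * g * s⁻¹ → ConjClasses.mk g = c →
        ConjClasses.mk g' = c) ↔
      ∀ x : S, ConjClasses.map (Cfsg.Agent.S4911.normAct S G hPK x).toMonoidHom c = c := by
    intro c
    constructor
    · intro h x
      obtain ⟨g, rfl⟩ := ConjClasses.mk_surjective c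
      exact h x x.2 g _ rfl rfl
    · intro h s hs g g' hg' hgc
      have e : g' = Cfsg.Agent.S4911.normAct S G hPK ⟨s, hs⟩ g := Subtype.ext hg'
      have h1 := h ⟨s, hs⟩
      rw [← hgc] at h1 ⊢
      rw [e]
      exact h1
  rw [Nat.card_congr (Equiv.subtypeEquivRight hirr),
    Nat.card_congr (Equiv.subtypeEquivRight hcls)]
  exact card_invIrr_eq_card_invClass_of_isSolvable (Cfsg.Agent.S4911.normAct S G hPK) hsolv hcop

end Cfsg.Agent.S4445
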