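import Mathlib
import Cfsg.Statements.S4446
import Cfsg.Agent.S4911
import Cfsg.Agent.Lib.Helper81.GlaubermanCyclic3
import Cfsg.Agent.Lib.Helper81.GlaubermanFix

set_option autoImplicit false
open Cfsg

namespace Cfsg.Agent.S4446

open Cfsg.Agent.Lib.Helper81

/-- Let the finite group Γ be generated by a normal subgroup G and a cyclic subgroup S of coprime orders, C = G ⊓ C(S), and let χ be an S-invariant irreducible character of G with canonical extension χ̂ to Γ (the extension whose determinantal order is coprime to the order of S). Then there are exactly one irreducible character β of C and one sign ε such that χ̂(c s) = ε β(c) for every c ∈ C and every generator s of S; this β is a constituent of the restriction of χ to C; distinct S-invariant χ give distinct β; and every irreducible character of C arises in this way. -/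
theorem result {Γ : Type*} [Group Γ] [Fintype Γ] (G S : Subgroup Γ) [Fintype G] (hnorm : ∀ s ∈ S, ∀ g ∈ G, s * g * s⁻¹ ∈ G) (hcop : (Nat.card G).Coprime (Nat.card S)) (htop : G ⊔ S = ⊤) (hcyc : IsCyclic S) (C : Subgroup Γ) [Fintype C] (hC : C = G ⊓ Subgroup.centralizer (S : Set Γ)) (hCG : C ≤ G) : (∀ (χ : Cfsg.IrrCharacter G) (χh : Cfsg.IrrCharacter Γ), (∀ s ∈ S, ∀ g g' : G, (g' : Γ) = s * g * s⁻¹ → (χ : G → ℂ) g' = (χ : G → ℂ) g) → (∀ g : G, (χh : Γ → ℂ) g = (χ : G → ℂ) g) → (Cfsg.detOrder (χh : Γ → ℂ)).Coprime (Nat.card S) → (∃! βε : Cfsg.IrrCharacter C × ℤ, (βε.2 = 1 ∨ βε.2 = -1) ∧ ∀ c : C, ∀ s : Γ, Subgroup.zpowers s = S → (χh : Γ → ℂ) ((c : Γ) * s) = (βε.2 : ℂ) * (βε.1 : C → ℂ) c) ∧ ∀ β : Cfsg.IrrCharacter C, ∀ ε : ℤ, (ε = 1 ∨ ε = -1) → (∀ c : C, ∀ s : Γ, Subgroup.zpowers s = S → (χh : Γ → ℂ) ((c : Γ) * s) = (ε : ℂ) * (β : C → ℂ) c) → Cfsg.classInner (fun c : C => (χ : G → ℂ) ⟨c, hCG c.2⟩)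 (β : C → ℂ) ≠ 0) ∧ (∀ (χ χ' : Cfsg.IrrCharacter G) (χh χh' : Cfsg.IrrCharacter Γ), (∀ s ∈ S, ∀ g g' : G, (g' : Γ) = s * g * s⁻¹ → (χ : G → ℂ) g' = (χ : G → ℂ) g) → (∀ s ∈ S, ∀ g g' : G, (g' : Γ) = s * g * s⁻¹ → (χ' : G → ℂ) g' = (χ' : G → ℂ) g) → (∀ g : G, (χh : Γ → ℂ) g = (χ : G → ℂ) g) → (∀ g : G, (χh' : Γ → ℂ) g = (χ' : G → ℂ) g) → (Cfsg.detOrder (χh : Γ → ℂ)).Coprime (Nat.card S) → (Cfsg.detOrder (χh' : Γ → ℂ)).Coprime (Nat.card S) → ∀ β : Cfsg.IrrCharacter C, ∀ ε ε' : ℤ, (ε = 1 ∨ ε = -1) → (ε' = 1 ∨ ε' = -1) → (∀ c : C, ∀ s : Γ, Subgroup.zpowers s = S → (χh : Γ → ℂ) ((c : Γ) * s) = (ε : ℂ) * (β : C → ℂ) c) → (∀ c : C, ∀ s : Γ, Subgroup.zpowers s = S → (χh' : Γ → ℂ) ((c : Γ) * s) = (ε' : ℂ) * (β : C → ℂ) c) → χ = χ') ∧ (∀ β : Cfsg.IrrCharacter C, ∃ (χ : Cfsg.IrrCharacter G) (χh : Cfsg.IrrCharacter Γ) (ε : ℤ), (∀ s ∈ S, ∀ g g' : G, (g' : Γ) = s * g * s⁻¹ → (χ : G → ℂ) g' = (χ : G → ℂ) g) ∧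 (∀ g : G, (χh : Γ → ℂ) g = (χ : G → ℂ) g) ∧ (Cfsg.detOrder (χh : Γ → ℂ)).Coprime (Nat.card S) ∧ (ε = 1 ∨ ε = -1) ∧ ∀ c : C, ∀ s : Γ, Subgroup.zpowers s = S → (χh : Γ → ℂ) ((c : Γ) * s) = (ε : ℂ) * (β : C → ℂ) c) := by
  classical
  -- `G` is normal
  have hPK : S ≤ Subgroup.normalizer (G : Set Γ) := by
    intro s hs
    rw [Subgroup.mem_normalizer_iff]
    intro h
    constructor
    · intro hh
      exact hnorm s hs h hh
    · intro hh
      have := hnorm s⁻¹ (S.inv_mem hs) _ hh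
      have e : s⁻¹ * (s * h * s⁻¹) * s⁻¹⁻¹ = h := by group
      rwa [e] at this
  have hGn : G.Normal := by
    rw [← Subgroup.normalizer_eq_top_iff]
    apply top_le_iff.1
    rw [← htop]
    exact sup_le Subgroup.le_normalizer hPK
  -- a generator
  obtain ⟨g0, hg0⟩ := hcyc.exists_generator
  have hs₀ : Subgroup.zpowers (g0 : Γ) = S := by
    apply le_antisymm
    · rw [Subgroup.zpowers_le]
      exact g0.2
    · intro x hx
      obtain ⟨k, hk⟩ := Subgroup.mem_zpowers_iff.1 (hg0 ⟨x, hx⟩)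
      rw [Subgroup.mem_zpowers_iff]
      refine ⟨k, ?_⟩
      have := congrArg Subtype.val hk
      simpa using this
  have hord : ∀ s : Γ, Subgroup.zpowers s = S → orderOf s = Nat.card S := by
    intro s hs
    rw [← hs, Nat.card_zpowers]
  have hidxS : G.index = Nat.card S := index_eq_card_of_sup_eq_top G S hcop htop
  have hCs : ∀ s : Γ, Subgroup.zpowers s = S → ∀ c ∈ C, c * s = s * c := by
    intro s hs c hc
    rw [hC, Subgroup.mem_inf, Subgroup.mem_centralizer_iff] at hc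
    have hsS : s ∈ S := hs ▸ Subgroup.mem_zpowers s
    exact (hc.2 s hsS).symm
  have hCmax : ∀ s : Γ, Subgroup.zpowers s = S → ∀ g ∈ G, g * s = s * g → g ∈ C := by
    intro s hs g hg hgs
    rw [hC, Subgroup.mem_inf, Subgroup.mem_centralizer_iff]
    refine ⟨hg, ?_⟩
    intro x hx
    rw [← hs] at hx
    obtain ⟨k, rfl⟩ := Subgroup.mem_zpowers_iff.1 hx
    have hcomm : Commute g s := hgs
    exact (hcomm.zpow_right k).symm
  have hcop₀ : (Nat.card G).Coprime (orderOf (g0 : Γ)) := by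
    rw [hord _ hs₀]; exact hcop
  have hidx₀ : G.index = orderOf (g0 : Γ) := by
    rw [hord _ hs₀]; exact hidxS
  -- the main existence statement
  have hmain : ∀ (χ : Cfsg.IrrCharacter G) (χh : Cfsg.IrrCharacter Γ),
      (∀ g : G, (χh : Γ → ℂ) g = (χ : G → ℂ) g) →
      (Cfsg.detOrder (χh : Γ → ℂ)).Coprime (Nat.card S) →
      IsIrrCharacter G (fun g : G => (χh : Γ → ℂ) g) ∧
      ∃ (β : Cfsg.IrrCharacter C) (ε : ℤ), (ε = 1 ∨ ε = -1) ∧
        (∀ c : C, ∀ s : Γ, Subgroup.zpowers s = S →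
          (χh : Γ → ℂ) ((c : Γ) * s) = (ε : ℂ) * (β : C → ℂ) c) ∧
        Cfsg.classInner (fun c : C => (χ : G → ℂ) ⟨c, hCG c.2⟩) (β : C → ℂ) ≠ 0 := by
    intro χ χh hext hdet
    have hres : IsIrrCharacter G (fun g : G => (χh : Γ → ℂ) g) := by
      have : (fun g : G => (χh : Γ → ℂ) g) = (χ : G → ℂ) := funext hext
      rw [this]
      exact χ.2
    have hdet₀ : Nat.Coprime (orderOf (g0 : Γ)) (Cfsg.detOrder (χh : Γ → ℂ)) := by
      rw [hord _ hs₀]; exact hdet.symm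
    refine ⟨hres, ?_⟩
    obtain ⟨β, ε, hε, hval, hconst⟩ := exists_irr_sign G (g0 : Γ) C hcop₀ hidx₀ hCG
      (hCs _ hs₀) (hCmax _ hs₀) (χh : Γ → ℂ) χh.2 hres hdet₀
    refine ⟨β, ε, hε, ?_, ?_⟩
    · intro c s hs
      obtain ⟨j, hj, rfl⟩ := exists_pow_eq_of_zpowers_eq s (g0 : Γ) (hs.trans hs₀.symm)
      rw [coset_pow_eq G (g0 : Γ) C hcop₀ hidx₀ hCG (hCs _ hs₀) (χh : Γ → ℂ) χh.2 hres hdet₀ j hj c]
      exact hval c
    · have : (fun c : C => (χ : G → ℂ) ⟨c, hCG c.2⟩) = (fun c : C => (χh : Γ → ℂ) (c : Γ)) := by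
        funext c
        exact (hext ⟨c, hCG c.2⟩).symm
      rw [this]
      exact hconst
  -- injectivity
  have hpart2 : ∀ (χ χ' : Cfsg.IrrCharacter G) (χh χh' : Cfsg.IrrCharacter Γ),
      (∀ g : G, (χh : Γ → ℂ) g = (χ : G → ℂ) g) → (∀ g : G, (χh' : Γ → ℂ) g = (χ' : G → ℂ) g) →
      (Cfsg.detOrder (χh : Γ → ℂ)).Coprime (Nat.card S) →
      (Cfsg.detOrder (χh' : Γ → ℂ)).Coprime (Nat.card S) →
      ∀ β : Cfsg.IrrCharacter C, ∀ ε ε' : ℤ, (ε = 1 ∨ ε = -1) → (ε' = 1 ∨ ε' = -1) →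
      (∀ c : C, ∀ s : Γ, Subgroup.zpowers s = S →
        (χh : Γ → ℂ) ((c : Γ) * s) = (ε : ℂ) * (β : C → ℂ) c) →
      (∀ c : C, ∀ s : Γ, Subgroup.zpowers s = S →
        (χh' : Γ → ℂ) ((c : Γ) * s) = (ε' : ℂ) * (β : C → ℂ) c) → χ = χ' := by
    intro χ χ' χh χh' hext hext' hdet hdet' β ε ε' hε hε' hval hval'
    have hres := (hmain χ χh hext hdet).1
    have hres' := (hmain χ' χh' hext' hdet').1
    have key := res_eq_of_same_image G (g0 : Γ) C hcop₀ hCG (hCs _ hs₀) (hCmax _ hs₀)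
      (χh : Γ → ℂ) (χh' : Γ → ℂ) χh.2 χh'.2 hres hres' β ε ε' hε hε'
      (fun c => hval c _ hs₀) (fun c => hval' c _ hs₀)
    apply Subtype.ext
    funext g
    rw [← hext g, ← hext' g]
    exact congrFun key g
  refine ⟨?_, ?_, ?_⟩
  · -- part (i)
    intro χ χh _ hext hdet
    obtain ⟨-, β, ε, hε, hval, hconst⟩ := hmain χ χh hext hdet
    have huniq : ∀ (β' : Cfsg.IrrCharacter C) (ε' : ℤ), (ε' = 1 ∨ ε' = -1) →
        (∀ c : C, ∀ s : Γ, Subgroup.zpowers s = S →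
          (χh : Γ → ℂ) ((c : Γ) * s) = (ε' : ℂ) * (β' : C → ℂ) c) → β' = β ∧ ε' = ε := by
      intro β' ε' _ hval'
      apply irr_sign_unique β' β ε' ε hε
      intro c
      rw [← hval' c _ hs₀, ← hval c _ hs₀]
    refine ⟨⟨(β, ε), ⟨hε, hval⟩, ?_⟩, ?_⟩
    · rintro ⟨β', ε'⟩ ⟨hε', hval'⟩
      obtain ⟨h1, h2⟩ := huniq β' ε' hε' hval'
      exact Prod.ext h1 h2
    · intro β' ε' hε' hval'
      obtain ⟨h1, -⟩ := huniq β' ε' hε' hval'
      rw [h1]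
      exact hconst
  · -- part (ii)
    intro χ χ' χh χh' _ _ hext hext' hdet hdet' β ε ε' hε hε' hval hval'
    exact hpart2 χ χ' χh χh' hext hext' hdet hdet' β ε ε' hε hε' hval hval'
  · -- part (iii)
    -- existence of canonical extensions
    have hcopidx : (Nat.card G).Coprime G.index := by rw [hidxS]; exact hcop
    have hex : ∀ d : {χ : Cfsg.IrrCharacter G // ∀ s ∈ S, ∀ g g' : G, (g' : Γ) = s * g * s⁻¹ →
        (χ : G → ℂ) g' = (χ : G → ℂ) g}, ∃ β : Cfsg.IrrCharacter C,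
        ∃ (χh : Cfsg.IrrCharacter Γ) (ε : ℤ), (∀ g : G, (χh : Γ → ℂ) g = (d.1 : G → ℂ) g) ∧
          (Cfsg.detOrder (χh : Γ → ℂ)).Coprime (Nat.card S) ∧ (ε = 1 ∨ ε = -1) ∧
          ∀ c : C, ∀ s : Γ, Subgroup.zpowers s = S →
            (χh : Γ → ℂ) ((c : Γ) * s) = (ε : ℂ) * (β : C → ℂ) c := by
      rintro ⟨χ, hinv⟩
      have hcfχ : IsClassFunction G (χ : G → ℂ) :=
        Cfsg.Agent.Lib.Helper78.isClassFunction_irr χ
      have hinvΓ : ∀ (γ : Γ) (n : G), (χ : G → ℂ) ⟨γ * n * γ⁻¹, hGn.conj_mem (n : Γ) n.2 γ⟩ =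
          (χ : G → ℂ) n := by
        intro γ n
        have hγ : γ ∈ ((G ⊔ S : Subgroup Γ) : Set Γ) := by
          rw [htop]; exact Set.mem_univ _
        rw [Subgroup.normal_mul] at hγ
        obtain ⟨g, hg, x, hx, rfl⟩ := Set.mem_mul.1 hγ
        let m : G := ⟨x * n * x⁻¹, hnorm x hx n n.2⟩
        have h1 : (⟨g * x * n * (g * x)⁻¹, hGn.conj_mem (n : Γ) n.2 (g * x)⟩ : G) =
            ⟨g, hg⟩ * m * ⟨g, hg⟩⁻¹ := by
          apply Subtype.ext
          simp only [m, Subgroup.coe_mul, Subgroup.coe_inv]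
          group
        rw [h1, hcfχ m ⟨g, hg⟩]
        exact hinv x hx n m rfl
      obtain ⟨χh, hχh, hext, hdet⟩ := exists_canonical_extension G hcopidx (χ : G → ℂ) χ.2 hinvΓ
      have hdet' : (Cfsg.detOrder χh).Coprime (Nat.card S) := by
        rw [← hidxS]; exact hdet.symm
      obtain ⟨-, β, ε, hε, hval, -⟩ := hmain χ ⟨χh, hχh⟩ hext hdet'
      exact ⟨β, ⟨χh, hχh⟩, ε, hext, hdet', hε, hval⟩
    choose Φ hΦ using hex
    have hinj : Function.Injective Φ := by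
      intro d d' hdd'
      obtain ⟨χh, ε, h1, h2, h3, h4⟩ := hΦ d
      obtain ⟨χh', ε', h1', h2', h3', h4'⟩ := hΦ d'
      rw [← hdd'] at h4'
      apply Subtype.ext
      exact hpart2 d.1 d'.1 χh χh' h1 h1' h2 h2' (Φ d) ε ε' h3 h3' h4 h4'
    -- the count
    have hirr : ∀ χ : IrrCharacter G,
        (∀ s ∈ S, ∀ g g' : G, (g' : Γ) = s * g * s⁻¹ → (χ : G → ℂ) g' = (χ : G → ℂ) g) ↔
        ∀ (x : S) (k : G), (χ : G → ℂ) (Cfsg.Agent.S4911.normAct S G hPK x k) = (χ : G → ℂ) k := by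
      intro χ
      constructor
      · intro h x k
        exact h x x.2 k _ rfl
      · intro h s hs g g' hg'
        have : g' = Cfsg.Agent.S4911.normAct S G hPK ⟨s, hs⟩ g := Subtype.ext hg'
        rw [this]
        exact h ⟨s, hs⟩ g
    have hmemC : ∀ c : Γ, c ∈ C ↔ c ∈ G ∧ ∀ s ∈ S, s * c * s⁻¹ = c := by
      intro c
      rw [hC, Subgroup.mem_inf, Subgroup.mem_centralizer_iff]
      constructor
      · rintro ⟨h1, h2⟩
        refine ⟨h1, fun s hs => ?_⟩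
        rw [h2 s hs]; group
      · rintro ⟨h1, h2⟩
        refine ⟨h1, fun s hs => ?_⟩
        have := h2 s hs
        calc s * c = s * c * s⁻¹ * s := by group
          _ = c * s := by rw [this]
    let e : C ≃* fixSub (Cfsg.Agent.S4911.normAct S G hPK) :=
      { toFun := fun c => ⟨⟨c, hCG c.2⟩, fun x => Subtype.ext (((hmemC c).mp c.2).2 x x.2)⟩
        invFun := fun d => ⟨((d : G) : Γ), (hmemC _).mpr ⟨(d : G).2, fun s hs =>
          congrArg Subtype.val (d.2 ⟨s, hs⟩)⟩⟩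
        left_inv := fun c => rfl
        right_inv := fun d => rfl
        map_mul' := fun a b => rfl }
    have hsolv : Group.IsSolvable S := Group.isSolvable_of_comm (fun a b => mul_comm' a b)
    have hcard : Nat.card (Cfsg.IrrCharacter C) ≤
        Nat.card {χ : Cfsg.IrrCharacter G // ∀ s ∈ S, ∀ g g' : G, (g' : Γ) = s * g * s⁻¹ →
          (χ : G → ℂ) g' = (χ : G → ℂ) g} := by
      rw [Nat.card_congr (Equiv.subtypeEquivRight hirr)]
      have h1 := card_invIrr_eq_card_irr_fixSub_of_isSolvable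
        (Cfsg.Agent.S4911.normAct S G hPK) hsolv hcop
      have h2 := card_irrCharacter_congr e
      rw [h2]
      exact h1.ge
    have hbij := hinj.bijective_of_nat_card_le hcard
    intro β
    obtain ⟨d, rfl⟩ := hbij.2 β
    obtain ⟨χh, ε, h1, h2, h3, h4⟩ := hΦ d
    exact ⟨d.1, χh, ε, d.2, h1, h2, h3, h4⟩

end Cfsg.Agent.S4446
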