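import Cfsg.Statements.S4447
import Cfsg.Agent.Lib.Helper79.GlaubermanChar

set_option autoImplicit false
open Cfsg
open Cfsg.Agent.Lib.Helper79 Cfsg.Agent.Lib.Helper81 Cfsg.Agent.Lib.Helper75 Cfsg.Agent.Lib.Helper78

namespace Cfsg.Agent.S4447

/-- Inside a finite group Γ let S normalise G and also normalise a normal subgroup N of G, with the order of S coprime to the index of N in G and S or G/N solvable. Then for every S-invariant irreducible character χ of G, the restriction of χ to N has an S-invariant irreducible constituent. -/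
theorem result {Γ : Type*} [Group Γ] [Fintype Γ] (G S N : Subgroup Γ) [Fintype G] [Fintype N] (hnorm : ∀ s ∈ S, ∀ g ∈ G, s * g * s⁻¹ ∈ G) (hNG : N ≤ G) [hNn : (N.subgroupOf G).Normal] (hNS : ∀ s ∈ S, ∀ n ∈ N, s * n * s⁻¹ ∈ N) (hcop : (N.relIndex G).Coprime (Nat.card S)) (hsolv : Group.IsSolvable S ∨ Group.IsSolvable (G ⧸ N.subgroupOf G)) (χ : Cfsg.IrrCharacter G) (hinv : (∀ s ∈ S, ∀ g g' : G, (g' : Γ) = s * g * s⁻¹ → (χ : G → ℂ) g' = (χ : G → ℂ) g)) : ∃ θ : Cfsg.IrrCharacter N, Cfsg.classInner (fun n : N => (χ : G → ℂ) ⟨n, hNG n.2⟩) (θ : N → ℂ) ≠ 0 ∧ (∀ s ∈ S, ∀ g g' : N, (g' : Γ) = s * g * s⁻¹ → (θ : N → ℂ) g' = (θ : N → ℂ) g) := by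
  classical
  have hGN : ∀ g ∈ G, ∀ n ∈ N, g * n * g⁻¹ ∈ N := conj_mem_of_normal_subgroupOf hNG hNn
  have hGG : ∀ g ∈ G, ∀ x ∈ G, g * x * g⁻¹ ∈ G :=
    fun g hg x hx => G.mul_mem (G.mul_mem hg hx) (G.inv_mem hg)
  have hLNle : G ⊔ S ≤ Subgroup.normalizer (N : Set Γ) :=
    sup_le (le_normalizer_of_conj hGN) (le_normalizer_of_conj hNS)
  have hLGle : G ⊔ S ≤ Subgroup.normalizer (G : Set Γ) :=
    sup_le (le_normalizer_of_conj hGG) (le_normalizer_of_conj hnorm)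
  have hLN : ∀ k ∈ G ⊔ S, ∀ n ∈ N, k * n * k⁻¹ ∈ N := conj_of_le_normalizer hLNle
  let _ : MulAction ↥(G ⊔ S) (IrrCharacter N) := normIrrAction N (G ⊔ S) hLN
  have hsmul : ∀ (k : ↥(G ⊔ S)) (θ : IrrCharacter N) (n : N),
      ((k • θ : IrrCharacter N) : N → ℂ) n =
        (θ : N → ℂ) ⟨(k : Γ)⁻¹ * n * k, inv_conj_mem hLN k.2 n.2⟩ := fun k θ n => rfl
  have hN'n : (N.subgroupOf (G ⊔ S)).Normal := Subgroup.normal_subgroupOf_of_le_normalizer hLNle
  have hG'n : (G.subgroupOf (G ⊔ S)).Normal := Subgroup.normal_subgroupOf_of_le_normalizer hLGle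
  have hNG' : N.subgroupOf (G ⊔ S) ≤ G.subgroupOf (G ⊔ S) := fun x hx => hNG hx
  have hGS' : G.subgroupOf (G ⊔ S) ⊔ S.subgroupOf (G ⊔ S) = ⊤ := by
    rw [← Subgroup.subgroupOf_sup le_sup_left le_sup_right, Subgroup.subgroupOf_self]
  have hcop' : ((N.subgroupOf (G ⊔ S)).relIndex (G.subgroupOf (G ⊔ S))).Coprime
      (Nat.card (S.subgroupOf (G ⊔ S))) := by
    rw [Subgroup.relIndex_subgroupOf le_sup_left,
      Nat.card_congr (Subgroup.subgroupOfEquivOfLe (le_sup_right : S ≤ G ⊔ S)).toEquiv]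
    exact hcop
  have hsolv' : Group.IsSolvable (S.subgroupOf (G ⊔ S)) ∨
      Group.IsSolvable ((G.subgroupOf (G ⊔ S)).map
        (QuotientGroup.mk' (N.subgroupOf (G ⊔ S)))) := by
    rcases hsolv with h | h
    · left
      have := h
      exact Group.isSolvable_of_isSolvable_injective
        (f := (Subgroup.subgroupOfEquivOfLe (le_sup_right : S ≤ G ⊔ S)).toMonoidHom)
        (Subgroup.subgroupOfEquivOfLe (le_sup_right : S ≤ G ⊔ S)).injective
    · right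
      exact isSolvable_map_mk' G N (G ⊔ S) le_sup_left h
  -- the restriction of χ to N
  set f : N → ℂ := fun n : N => (χ : G → ℂ) ⟨n, hNG n.2⟩ with hf
  have hfchar : IsCharacter N f := isCharacter_comp (IsIrrCharacter.isCharacter χ.2)
    (Subgroup.inclusion hNG)
  -- a constituent
  obtain ⟨θ₀, hθ₀⟩ : ∃ θ : IrrCharacter N, classInner f (θ : N → ℂ) ≠ 0 := by
    by_contra h
    push Not at h
    have h0 := eq_zero_of_forall_classInner_irr_eq_zero (IsCharacter.isClassFunction hfchar) h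
    have h1 := congrFun h0 1
    exact IsIrrCharacter.apply_one_ne_zero χ.2 h1
  -- invariance of `f`
  have hχcl : IsClassFunction G (χ : G → ℂ) := isClassFunction_irr χ
  have hfG : ∀ k : ↥(G ⊔ S), (k : Γ) ∈ G → ∀ n : N,
      f ⟨(k : Γ)⁻¹ * n * k, inv_conj_mem hLN k.2 n.2⟩ = f n := by
    intro k hk n
    have h := hχcl ⟨n, hNG n.2⟩ (⟨(k : Γ), hk⟩⁻¹ : G)
    rw [hf]
    show (χ : G → ℂ) _ = (χ : G → ℂ) _
    rw [← h]
    apply congrArg
    apply Subtype.ext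
    simp
  have hfS : ∀ k : ↥(G ⊔ S), (k : Γ) ∈ S → ∀ n : N,
      f ⟨(k : Γ)⁻¹ * n * k, inv_conj_mem hLN k.2 n.2⟩ = f n := by
    intro k hk n
    rw [hf]
    show (χ : G → ℂ) _ = (χ : G → ℂ) _
    symm
    apply hinv (k : Γ) hk
    show (n : Γ) = k * ((k : Γ)⁻¹ * n * k) * (k : Γ)⁻¹
    group
  have hconstG : ∀ k : ↥(G ⊔ S), (k : Γ) ∈ G → ∀ θ : IrrCharacter N,
      classInner f ((k • θ : IrrCharacter N) : N → ℂ) = classInner f (θ : N → ℂ) :=
    fun k hk θ => classInner_normIrrAction N (G ⊔ S) hLN k f (hfG k hk) θ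
  have hconstS : ∀ k : ↥(G ⊔ S), (k : Γ) ∈ S → ∀ θ : IrrCharacter N,
      classInner f ((k • θ : IrrCharacter N) : N → ℂ) = classInner f (θ : N → ℂ) :=
    fun k hk θ => classInner_normIrrAction N (G ⊔ S) hLN k f (hfS k hk) θ
  -- hypotheses of Glauberman's lemma
  have hNα : ∀ n ∈ N.subgroupOf (G ⊔ S), n • θ₀ = θ₀ :=
    fun n hn => normIrrAction_of_mem N (G ⊔ S) hLN n hn θ₀
  have hS : ∀ s ∈ S.subgroupOf (G ⊔ S), ∃ g ∈ G.subgroupOf (G ⊔ S), g • θ₀ = s • θ₀ := by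
    intro s hs
    have hc : classInner f ((s • θ₀ : IrrCharacter N) : N → ℂ) ≠ 0 := by
      rw [hconstS s hs]; exact hθ₀
    obtain ⟨g, hg, hgeq⟩ := clifford_conj_sub G N hNG χ θ₀ (s • θ₀) hθ₀ hc
    refine ⟨⟨g, Subgroup.mem_sup_left hg⟩⁻¹, (G.subgroupOf (G ⊔ S)).inv_mem hg, ?_⟩
    apply Subtype.ext
    funext n
    rw [hsmul]
    have h1 := hgeq n ⟨g * n * g⁻¹, hGN g hg n n.2⟩ rfl
    rw [h1]
    apply congrArg
    apply Subtype.ext
    simp
  obtain ⟨g, hg, hfix⟩ := glauberman_fixed_point (N.subgroupOf (G ⊔ S)) (G.subgroupOf (G ⊔ S))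
    (S.subgroupOf (G ⊔ S)) hNG' hGS' hcop' hsolv' θ₀ hNα hS
  refine ⟨g • θ₀, ?_, ?_⟩
  · rw [hconstG g hg]; exact hθ₀
  · intro s hs n n' hn'
    have h1 := hfix (⟨s, Subgroup.mem_sup_right hs⟩⁻¹)
      ((S.subgroupOf (G ⊔ S)).inv_mem (show (⟨s, Subgroup.mem_sup_right hs⟩ : ↥(G ⊔ S)) ∈
        S.subgroupOf (G ⊔ S) from hs))
    have h2 := congrArg (fun θ : IrrCharacter N => (θ : N → ℂ) n) h1
    beta_reduce at h2
    rw [hsmul] at h2
    rw [← h2]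
    apply congrArg
    apply Subtype.ext
    rw [hn']
    simp

end Cfsg.Agent.S4447
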