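import Mathlib
import Cfsg.Statements.S4451
import Cfsg.Agent.S4446
import Cfsg.Agent.Lib.Helper81.GlaubermanFpf

set_option autoImplicit false
open Cfsg

namespace Cfsg.Agent.S4451

open Cfsg.Agent.Lib.Helper81

/-- Let the finite group Γ be generated by a normal subgroup G and a cyclic subgroup S of coprime orders such that every non-identity element of S has the same centraliser C = G ⊓ C(S) in G. Let χ be an S-invariant irreducible character of G, χ̂ its canonical extension to Γ (determinantal order coprime to the order of S), and β the irreducible character of C with χ̂(c s) = ε₀ β(c) for c ∈ C and generators s of S (ε₀ = ±1). Then there are a sign ε = ±1, which may differ from ε₀, and a linear character μ of S with μ² = 1, such that: (a) χ̂(c x) = ε β(c) μ(x) for all c ∈ C and all x ∈ S other than 1; (b) the restriction of χ to C equals |S|·ϑ + ε β for some character ϑ of C or ϑ = 0; (c) |S| divides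 χ(1) − ε β(1). -/
theorem result {Γ : Type*} [Group Γ] [Fintype Γ] (G S : Subgroup Γ) [Fintype G] (hnorm : ∀ s ∈ S, ∀ g ∈ G, s * g * s⁻¹ ∈ G) (hcop : (Nat.card G).Coprime (Nat.card S)) (htop : G ⊔ S = ⊤) (hcyc : IsCyclic S) (C : Subgroup Γ) [Fintype C] (hC : C = G ⊓ Subgroup.centralizer (S : Set Γ)) (hCG : C ≤ G) (hfpf : ∀ x ∈ S, x ≠ 1 → G ⊓ Subgroup.centralizer ({x} : Set Γ) = C) (χ : Cfsg.IrrCharacter G) (hinv : (∀ s ∈ S, ∀ g g' : G, (g' : Γ) = s * g * s⁻¹ → (χ : G → ℂ) g' = (χ : G → ℂ) g)) (χh : Cfsg.IrrCharacter Γ) (hext : (∀ g : G, (χh : Γ → ℂ) g = (χ : G → ℂ) g)) (hdet : (Cfsg.detOrder (χh : Γ → ℂ)).Coprime (Nat.card S)) (β : Cfsg.IrrCharacter C) (ε₀ : ℤ) (hε₀ : ε₀ = 1 ∨ ε₀ = -1) (hβ : ∀ c : C, ∀ s : Γ, Subgroup.zpowers s = S → (χh : Γ → ℂ) ((c : Γ) * s) = (ε₀ : ℂ) * (β : C → ℂ) c) : ∃ ε : ℤ, (ε = 1 ∨ ε = -1) ∧ (∃ μ : S → ℂ, Cfsg.IsCharacter S μ ∧ μ 1 = 1 ∧ (∀ x : S, μ x * μ x = 1) ∧ ∀ c : C, ∀ x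 : S, x ≠ 1 → (χh : Γ → ℂ) ((c : Γ) * x) = (ε : ℂ) * (β : C → ℂ) c * μ x) ∧ (∃ ϑ : C → ℂ, Cfsg.IsCharacter C ϑ ∧ (fun c : C => (χ : G → ℂ) ⟨c, hCG c.2⟩) = fun c => (Nat.card S : ℂ) * ϑ c + (ε : ℂ) * (β : C → ℂ) c) ∧ (Nat.card S : ℤ) ∣ (Cfsg.charDegree (χ : G → ℂ) : ℤ) - ε * (Cfsg.charDegree (β : C → ℂ) : ℤ) := by
  classical
  -- `G` is normal
  have hPK : S ≤ Subgroup.normalizer (G : Set Γ) := by
    intro s hs
    rw [Subgroup.mem_normalizer_iff]
    intro h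
    constructor
    · intro hh
      exact hnorm s hs h hh
    · intro hh
      have := hnorm s⁻¹ (S.inv_mem hs) _ hh
      have e : s⁻¹ * (s * h * s⁻¹) * s⁻¹⁻¹ = h := by group
      rwa [e] at this
  have hGn : G.Normal := by
    rw [← Subgroup.normalizer_eq_top_iff]
    apply top_le_iff.1
    rw [← htop]
    exact sup_le Subgroup.le_normalizer hPK
  -- a generator
  obtain ⟨g0, hg0⟩ := hcyc.exists_generator
  have hs₀ : Subgroup.zpowers (g0 : Γ) = S := by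
    apply le_antisymm
    · rw [Subgroup.zpowers_le]
      exact g0.2
    · intro x hx
      obtain ⟨k, hk⟩ := Subgroup.mem_zpowers_iff.1 (hg0 ⟨x, hx⟩)
      rw [Subgroup.mem_zpowers_iff]
      refine ⟨k, ?_⟩
      have := congrArg Subtype.val hk
      simpa using this
  have hidxS : G.index = Nat.card S := index_eq_card_of_sup_eq_top G S hcop htop
  have hSc : ∀ x y : S, x * y = y * x := fun a b => mul_comm' a b
  have hCS : ∀ c ∈ C, ∀ x ∈ S, c * x = x * c := by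
    intro c hc x hx
    rw [hC, Subgroup.mem_inf, Subgroup.mem_centralizer_iff] at hc
    exact (hc.2 x hx).symm
  have hCmax : ∀ x ∈ S, x ≠ 1 → ∀ g ∈ G, g * x = x * g → g ∈ C := by
    intro x hx hx1 g hg hgx
    rw [← hfpf x hx hx1, Subgroup.mem_inf, Subgroup.mem_centralizer_iff]
    refine ⟨hg, ?_⟩
    intro y hy
    rw [Set.mem_singleton_iff] at hy
    rw [hy]
    exact hgx.symm
  have hres : IsIrrCharacter G (fun g : G => (χh : Γ → ℂ) g) := by
    have : (fun g : G => (χh : Γ → ℂ) g) = (χ : G → ℂ) := funext hext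
    rw [this]
    exact χ.2
  have hconst : Cfsg.classInner (fun c : C => (χ : G → ℂ) ⟨c, hCG c.2⟩) (β : C → ℂ) ≠ 0 :=
    ((Cfsg.Agent.S4446.result G S hnorm hcop htop hcyc C hC hCG).1 χ χh hinv hext hdet).2 β ε₀
      hε₀ hβ
  have hm : classInner (fun c : C => (χh : Γ → ℂ) (c : Γ)) (β : C → ℂ) ≠ 0 := by
    have : (fun c : C => (χ : G → ℂ) ⟨c, hCG c.2⟩) = (fun c : C => (χh : Γ → ℂ) (c : Γ)) := by
      funext c
      exact (hext ⟨c, hCG c.2⟩).symm
    rw [← this]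
    exact hconst
  -- divisibility from the decomposition
  have hdiv : ∀ (ε : ℤ) (ϑ : C → ℂ), IsCharacter C ϑ →
      ((fun c : C => (χ : G → ℂ) ⟨c, hCG c.2⟩) =
        fun c => (Nat.card S : ℂ) * ϑ c + (ε : ℂ) * (β : C → ℂ) c) →
      (Nat.card S : ℤ) ∣ (Cfsg.charDegree (χ : G → ℂ) : ℤ) - ε * (Cfsg.charDegree (β : C → ℂ) : ℤ) := by
    intro ε ϑ hϑ heq
    obtain ⟨d, hd⟩ := Cfsg.Agent.Lib.Helper80.char_one_eq_natCast hϑ
    have h1 := congrFun heq 1
    beta_reduce at h1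
    have h2 : (⟨((1 : C) : Γ), hCG (1 : C).2⟩ : G) = 1 := rfl
    rw [h2, hd, Cfsg.Agent.Lib.Helper80.char_one_eq_charDegree
        (Cfsg.Agent.Lib.Helper78.IsIrrCharacter.isCharacter χ.2),
      Cfsg.Agent.Lib.Helper80.char_one_eq_charDegree
        (Cfsg.Agent.Lib.Helper78.IsIrrCharacter.isCharacter β.2)] at h1
    refine ⟨(d : ℤ), ?_⟩
    have : (((Cfsg.charDegree (χ : G → ℂ) : ℤ) - ε * (Cfsg.charDegree (β : C → ℂ) : ℤ) : ℤ) : ℂ) =
        (((Nat.card S : ℤ) * (d : ℤ) : ℤ) : ℂ) := by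
      push_cast
      rw [h1]
      ring
    exact_mod_cast this
  by_cases htriv : ∀ x : S, x = 1
  · -- trivial `S`
    have hSbot : S = ⊥ := by
      rw [Subgroup.eq_bot_iff_forall]
      intro x hx
      exact congrArg Subtype.val (htriv ⟨x, hx⟩)
    have hz : Subgroup.zpowers (1 : Γ) = S := by
      rw [hSbot]
      exact Subgroup.zpowers_one_eq_bot
    have hb : (fun c : C => (χ : G → ℂ) ⟨c, hCG c.2⟩) =
        fun c => (Nat.card S : ℂ) * (0 : C → ℂ) c + (ε₀ : ℂ) * (β : C → ℂ) c := by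
      funext c
      have := hβ c 1 hz
      rw [mul_one] at this
      rw [← hext ⟨c, hCG c.2⟩]
      simp only [Pi.zero_apply, mul_zero, zero_add]
      exact this
    refine ⟨ε₀, hε₀, ⟨fun _ => 1, ?_, rfl, fun x => one_mul 1, ?_⟩,
      ⟨0, Cfsg.Agent.Lib.Helper78.isCharacter_zero, hb⟩,
      hdiv ε₀ 0 Cfsg.Agent.Lib.Helper78.isCharacter_zero hb⟩
    · exact Cfsg.Agent.Lib.Helper78.IsIrrCharacter.isCharacter
        Cfsg.Agent.Lib.Helper78.isIrrCharacter_one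
    · intro c x hx
      exact absurd (htriv x) hx
  · -- nontrivial `S`
    push Not at htriv
    obtain ⟨x₁, hx₁⟩ := htriv
    have hg0ne : g0 ≠ 1 := by
      intro h
      apply hx₁
      obtain ⟨k, hk⟩ := Subgroup.mem_zpowers_iff.1 (hg0 x₁)
      rw [← hk, h, one_zpow]
    obtain ⟨ε, μ, ϑ, hε, hμc, hμ1, hμsq, hval, hϑ, hχC⟩ := fpf_structure G S C (Nat.card S) rfl
      hcop hidxS hSc hCG hCS hCmax (χh : Γ → ℂ) χh.2 hres hdet.symm β ε₀ hε₀ g0 hg0ne
      (fun c => hβ c _ hs₀) hm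
    have hb : (fun c : C => (χ : G → ℂ) ⟨c, hCG c.2⟩) =
        fun c => (Nat.card S : ℂ) * ϑ c + (ε : ℂ) * (β : C → ℂ) c := by
      funext c
      rw [← hext ⟨c, hCG c.2⟩]
      exact hχC c
    exact ⟨ε, hε, ⟨μ, hμc, hμ1, hμsq, hval⟩, ⟨ϑ, hϑ, hb⟩, hdiv ε ϑ hϑ hb⟩

end Cfsg.Agent.S4451
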