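import Cfsg.Statements.S4452
import Cfsg.Agent.S4911
import Cfsg.Agent.Lib.Helper81.GlaubermanP
import Cfsg.Agent.Lib.Helper81.GlaubermanFix
import Cfsg.Agent.Lib.Helper81.CoprimeComplement

set_option autoImplicit false
open Cfsg

namespace Cfsg.Agent.S4452

open Cfsg.Agent.Lib.Helper81

/-- Let the finite group G be the product of a normal subgroup K and a solvable subgroup H of coprime orders, and let N = N_G(H). Then the number of irreducible characters of G of degree coprime to the order of H equals the number of irreducible characters of N of degree coprime to the order of H. (The two sets are in fact in a canonical bijection; only the equality of their sizes is stated here.) -/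
theorem result {G : Type*} [Group G] [Finite G] (K H : Subgroup G) [K.Normal] (hKH : K ⊔ H = ⊤) (hcop : (Nat.card K).Coprime (Nat.card H)) (hsolv : Group.IsSolvable H) : Nat.card {χ : Cfsg.IrrCharacter G // (Cfsg.charDegree (χ : G → ℂ)).Coprime (Nat.card H)} = Nat.card {η : Cfsg.IrrCharacter (Subgroup.normalizer (H : Set G)) // (Cfsg.charDegree (η : Subgroup.normalizer (H : Set G) → ℂ)).Coprime (Nat.card H)} := by
  classical
  -- `K` and `H` are complements
  have hdisj : K ⊓ H = ⊥ := disjoint_iff.mp (Subgroup.disjoint_of_coprime_natCard hcop)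
  have hc : K.IsComplement' H := by
    apply Subgroup.isComplement'_of_disjoint_and_mul_eq_univ (disjoint_iff.mpr hdisj)
    rw [← Subgroup.normal_mul, hKH, Subgroup.coe_top]
  have hHK : H ≤ Subgroup.normalizer (K : Set G) := by
    rw [Subgroup.normalizer_eq_top]
    exact le_top
  rw [card_irr_coprime_of_isComplement' K H hc hcop hsolv hHK]
  -- the normaliser
  set N : Subgroup G := Subgroup.normalizer (H : Set G) with hN
  have hHN : H ≤ N := Subgroup.le_normalizer
  let eH : H.subgroupOf N ≃* H := Subgroup.subgroupOfEquivOfLe hHN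
  have hcardH : Nat.card (H.subgroupOf N) = Nat.card H := Nat.card_congr eH.toEquiv
  have hsolvN : Group.IsSolvable (H.subgroupOf N) := by
    have := hsolv
    exact Group.isSolvable_of_isSolvable_injective (f := eH.toMonoidHom) eH.injective
  have hcardK : Nat.card (K.subgroupOf N) ∣ Nat.card K := by
    let f : K.subgroupOf N →* K :=
      { toFun := fun x => ⟨((x : N) : G), x.2⟩
        map_one' := rfl
        map_mul' := fun a b => rfl }
    apply Subgroup.card_dvd_of_injective f
    intro a b hab
    apply Subtype.ext
    apply Subtype.ext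
    exact congrArg (fun y : K => (y : G)) hab
  have hcopN : (Nat.card (K.subgroupOf N)).Coprime (Nat.card (H.subgroupOf N)) := by
    rw [hcardH]
    exact Nat.Coprime.coprime_dvd_left hcardK hcop
  have hcN : (K.subgroupOf N).IsComplement' (H.subgroupOf N) := by
    apply Subgroup.isComplement'_of_disjoint_and_mul_eq_univ
    · rw [disjoint_iff]
      ext x
      simp only [Subgroup.mem_inf, Subgroup.mem_subgroupOf, Subgroup.mem_bot]
      constructor
      · rintro ⟨h1, h2⟩
        have : (x : G) ∈ K ⊓ H := ⟨h1, h2⟩
        rw [hdisj, Subgroup.mem_bot] at this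
        exact Subtype.ext this
      · rintro rfl
        exact ⟨K.one_mem, H.one_mem⟩
    · rw [Set.eq_univ_iff_forall]
      intro n
      obtain ⟨⟨k₀, x⟩, hkx⟩ := hc.2 (n : G)
      simp only at hkx
      have hxN : (x : G) ∈ N := hHN x.2
      have hkN : (k₀ : G) ∈ N := by
        have : (k₀ : G) = (n : G) * (x : G)⁻¹ := by rw [← hkx]; group
        rw [this]
        exact N.mul_mem n.2 (N.inv_mem hxN)
      refine ⟨⟨(k₀ : G), hkN⟩, ?_, ⟨(x : G), hxN⟩, ?_, ?_⟩
      · exact k₀.2
      · exact x.2
      · exact Subtype.ext hkx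
  have hHKN : H.subgroupOf N ≤ Subgroup.normalizer ((K.subgroupOf N : Subgroup N) : Set N) := by
    rw [Subgroup.normalizer_eq_top]
    exact le_top
  have h2 := card_irr_coprime_of_isComplement' (K.subgroupOf N) (H.subgroupOf N) hcN hcopN hsolvN
    hHKN
  rw [hcardH] at h2
  rw [h2, Nat.card_congr (MulEquiv.monoidHomCongrLeftEquiv eH)]
  congr 1
  -- the two fixed subgroups are isomorphic
  apply card_irrCharacter_congr
  have hcomm : ∀ g : G, g ∈ K → (∀ x ∈ H, x * g * x⁻¹ = g) → g ∈ N := by
    intro g _ hg
    rw [hN, Subgroup.mem_normalizer_iff]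
    intro h
    have hgh : ∀ x ∈ H, g * x * g⁻¹ = x := by
      intro x hx
      have := hg x hx
      calc g * x * g⁻¹ = (x * g * x⁻¹) * x * g⁻¹ := by rw [this]
        _ = x := by group
    constructor
    · intro hh
      rw [hgh h hh]
      exact hh
    · intro hh
      have h1 : g * (g * h * g⁻¹) * g⁻¹ = g * h * g⁻¹ := hgh _ hh
      have key : g * h * g⁻¹ = h := by
        calc g * h * g⁻¹ = g⁻¹ * (g * (g * h * g⁻¹) * g⁻¹) * g := by group
          _ = g⁻¹ * (g * h * g⁻¹) * g := by rw [h1]
          _ = h := by group
      rw [key] at hh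
      exact hh
  exact
    { toFun := fun c => ⟨⟨⟨((c : K) : G), hcomm _ (c : K).2 (fun x hx =>
          congrArg Subtype.val (c.2 ⟨x, hx⟩))⟩, (c : K).2⟩, fun x => by
        apply Subtype.ext
        apply Subtype.ext
        show (((x : N) : G)) * ((c : K) : G) * (((x : N) : G))⁻¹ = ((c : K) : G)
        have := congrArg Subtype.val (c.2 ⟨((x : N) : G), x.2⟩)
        exact this⟩
      invFun := fun d => ⟨⟨(((d : K.subgroupOf N) : N) : G), (d : K.subgroupOf N).2⟩, fun x => by
        apply Subtype.ext
        show (x : G) * (((d : K.subgroupOf N) : N) : G) * (x : G)⁻¹ =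
          (((d : K.subgroupOf N) : N) : G)
        have := d.2 ⟨⟨(x : G), hHN x.2⟩, x.2⟩
        have := congrArg (fun y : K.subgroupOf N => ((y : N) : G)) this
        exact this⟩
      left_inv := fun c => rfl
      right_inv := fun d => rfl
      map_mul' := fun a b => rfl }

end Cfsg.Agent.S4452
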