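import Cfsg.Statements.S4455
import Cfsg.Agent.Lib.Helper80.PResidualExt
import Cfsg.Agent.Lib.Helper47.PClosed
import Cfsg.Agent.Lib.Helper81.IrrTwist

set_option autoImplicit false
open Cfsg

namespace Cfsg.Agent.S4455

/-- Fix a prime p and a finite group G. Let s be the sum of χ(1)² over the irreducible characters χ of G whose degree is not divisible by p and whose determinantal order o(χ) is not divisible by p. Then the order of O^p(G), the subgroup generated by the elements of order prime to p, is congruent to s modulo p. -/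
theorem result {G : Type*} [Group G] [Finite G] (p : ℕ) (hp : p.Prime) : (Nat.card (Cfsg.pResidual p G) : ℤ) ≡ (∑ᶠ χ ∈ {χ : Cfsg.IrrCharacter G | ¬ p ∣ Cfsg.charDegree (χ : G → ℂ) ∧ ¬ p ∣ Cfsg.detOrder (χ : G → ℂ)}, (Cfsg.charDegree (χ : G → ℂ) : ℤ) ^ 2) [ZMOD p] := by
  classical
  have hpF : Fact p.Prime := ⟨hp⟩
  let _ : Fintype G := Fintype.ofFinite G
  set N : Subgroup G := Cfsg.pResidual p G with hNdef
  have hNn : N.Normal := Cfsg.Agent.Lib.Helper47.pResidual_normal p G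
  have hQ : IsPGroup p (G ⧸ N) :=
    Cfsg.Agent.Lib.Helper47.isPGroup_quotient_pResidual p G N le_rfl
  have hNres : Cfsg.pResidual p ↥N = ⊤ := Cfsg.Agent.Lib.Helper84.pResidual_pResidual_eq_top p G
  let _ : Fintype N := Fintype.ofFinite N
  let P : Sylow p G := default
  let act : MulAction G (Cfsg.IrrCharacter N) := Cfsg.Agent.Lib.Helper81.conjIrrMulAction N
  have hsmul : ∀ (g : G) (ψ : Cfsg.IrrCharacter N) (n : N),
      ((g • ψ : Cfsg.IrrCharacter N) : N → ℂ) n = (ψ : N → ℂ) (MulAut.conjNormal g⁻¹ n) :=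
    fun g ψ n => rfl
  have hdegsmul : ∀ (g : G) (ψ : Cfsg.IrrCharacter N),
      Cfsg.charDegree ((g • ψ : Cfsg.IrrCharacter N) : N → ℂ) = Cfsg.charDegree (ψ : N → ℂ) := by
    intro g ψ
    unfold Cfsg.charDegree
    rw [hsmul, map_one]
  -- step 1: orbit counting
  have h1 : Nat.card N = ∑ ψ : Cfsg.IrrCharacter N, Cfsg.charDegree (ψ : N → ℂ) ^ 2 :=
    (Cfsg.Agent.Lib.Helper78.sum_irr_charDegree_sq (G := N)).symm
  have h2 := Cfsg.Agent.Lib.Helper80.sum_modEq_sum_fixed (p := p) (P := (P : Subgroup G)) P.2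
    (X := Cfsg.IrrCharacter N) (fun ψ => Cfsg.charDegree (ψ : N → ℂ) ^ 2)
    (fun x ψ => by
      show Cfsg.charDegree (((x : G) • ψ : Cfsg.IrrCharacter N) : N → ℂ) ^ 2 = _
      rw [hdegsmul])
  set Fix : Finset (Cfsg.IrrCharacter N) :=
    Finset.univ.filter (fun ψ : Cfsg.IrrCharacter N => ∀ x : (P : Subgroup G), x • ψ = ψ) with hFix
  set B : Finset (Cfsg.IrrCharacter N) :=
    Fix.filter (fun ψ => ¬ p ∣ Cfsg.charDegree (ψ : N → ℂ)) with hB
  have h3 : (∑ ψ ∈ Fix, Cfsg.charDegree (ψ : N → ℂ) ^ 2) ≡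
      (∑ ψ ∈ B, Cfsg.charDegree (ψ : N → ℂ) ^ 2) [MOD p] := by
    have hsplit := Finset.sum_filter_add_sum_filter_not Fix
      (fun ψ : Cfsg.IrrCharacter N => ¬ p ∣ Cfsg.charDegree (ψ : N → ℂ))
      (fun ψ : Cfsg.IrrCharacter N => Cfsg.charDegree (ψ : N → ℂ) ^ 2)
    rw [← hsplit]
    have h4 : (∑ ψ ∈ Fix.filter (fun ψ : Cfsg.IrrCharacter N =>
        ¬ ¬ p ∣ Cfsg.charDegree (ψ : N → ℂ)), Cfsg.charDegree (ψ : N → ℂ) ^ 2) ≡ 0 [MOD p] := by
      rw [Nat.modEq_zero_iff_dvd]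
      apply Finset.dvd_sum
      intro ψ hψ
      have := (Finset.mem_filter.mp hψ).2
      rw [not_not] at this
      exact dvd_pow this two_ne_zero
    have := Nat.ModEq.add_left (∑ ψ ∈ B, Cfsg.charDegree (ψ : N → ℂ) ^ 2) h4
    rwa [add_zero] at this
  -- step 2: the bijection
  set A : Finset (Cfsg.IrrCharacter G) :=
    Finset.univ.filter (fun χ : Cfsg.IrrCharacter G =>
      ¬ p ∣ Cfsg.charDegree (χ : G → ℂ) ∧ ¬ p ∣ Cfsg.detOrder (χ : G → ℂ)) with hA
  have hAset : {χ : Cfsg.IrrCharacter G | ¬ p ∣ Cfsg.charDegree (χ : G → ℂ) ∧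
      ¬ p ∣ Cfsg.detOrder (χ : G → ℂ)} = (A : Set (Cfsg.IrrCharacter G)) := by
    ext χ
    simp [hA]
  have hsup : N ⊔ (P : Subgroup G) = ⊤ := Cfsg.Agent.Lib.Helper47.pResidual_sup_sylow P
  have hGinv : ∀ ψ ∈ Fix, ∀ (g : G) (n : N),
      (ψ : N → ℂ) ⟨g * n * g⁻¹, hNn.conj_mem n n.2 g⟩ = (ψ : N → ℂ) n := by
    intro ψ hψ g n
    have hψP : ∀ x : (P : Subgroup G), x • ψ = ψ := (Finset.mem_filter.mp hψ).2
    have hstab : MulAction.stabilizer G ψ = ⊤ := by
      rw [eq_top_iff, ← hsup]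
      apply sup_le
      · intro m hm
        rw [MulAction.mem_stabilizer_iff]
        apply Subtype.ext
        funext n'
        rw [hsmul]
        have hcl := Cfsg.Agent.Lib.Helper78.IsCharacter.isClassFunction
          (Cfsg.Agent.Lib.Helper78.IsIrrCharacter.isCharacter ψ.2)
        have h5 := hcl n' (⟨m, hm⟩ : N)⁻¹
        rw [← h5]
        congr 1
      · intro x hx
        rw [MulAction.mem_stabilizer_iff]
        exact hψP ⟨x, hx⟩
    have hg : g⁻¹ ∈ MulAction.stabilizer G ψ := by rw [hstab]; trivial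
    rw [MulAction.mem_stabilizer_iff] at hg
    have h6 := congrFun (congrArg Subtype.val hg) n
    rw [hsmul, inv_inv] at h6
    rw [← h6]
    congr 1
  have h5 : (∑ χ ∈ A, Cfsg.charDegree (χ : G → ℂ) ^ 2) =
      ∑ ψ ∈ B, Cfsg.charDegree (ψ : N → ℂ) ^ 2 := by
    refine Finset.sum_bij
      (fun χ hχ => (⟨fun n : N => (χ : G → ℂ) n,
        Cfsg.Agent.Lib.Helper80.res_irr_of_not_dvd p N hQ hNres χ.2
          (Finset.mem_filter.mp hχ).2.1⟩ : Cfsg.IrrCharacter N)) ?_ ?_ ?_ ?_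
    · intro χ hχ
      rw [hB, Finset.mem_filter, hFix, Finset.mem_filter]
      refine ⟨⟨Finset.mem_univ _, ?_⟩, (Finset.mem_filter.mp hχ).2.1⟩
      intro x
      apply Subtype.ext
      funext n
      show (((x : G) • (⟨fun n : N => (χ : G → ℂ) n, _⟩ : Cfsg.IrrCharacter N) :
        Cfsg.IrrCharacter N) : N → ℂ) n = _
      rw [hsmul]
      show (χ : G → ℂ) ((MulAut.conjNormal (x : G)⁻¹ n : N) : G) = (χ : G → ℂ) n
      rw [MulAut.conjNormal_apply]
      exact Cfsg.Agent.Lib.Helper78.IsCharacter.isClassFunction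
        (Cfsg.Agent.Lib.Helper78.IsIrrCharacter.isCharacter χ.2) n (x : G)⁻¹
    · intro χ₁ hχ₁ χ₂ hχ₂ heq
      have hχ₁' := (Finset.mem_filter.mp hχ₁).2
      have hχ₂' := (Finset.mem_filter.mp hχ₂).2
      apply Subtype.ext
      have hres : ∀ n : N, (χ₁ : G → ℂ) n = (χ₂ : G → ℂ) n := fun n =>
        congrFun (congrArg Subtype.val heq) n
      exact Cfsg.Agent.Lib.Helper80.ext_pprime_unique p N hQ hNres χ₂.2 χ₁.2
        (Cfsg.Agent.Lib.Helper80.res_irr_of_not_dvd p N hQ hNres χ₂.2 hχ₂'.1) hres hχ₂'.1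
        hχ₂'.2 hχ₁'.2
    · intro ψ hψ
      rw [hB, Finset.mem_filter] at hψ
      obtain ⟨χ, hχ, hres, hdet⟩ := Cfsg.Agent.Lib.Helper80.exists_ext_pprime p N hQ hNres ψ.2
        (hGinv ψ hψ.1) hψ.2
      have hdegeq : Cfsg.charDegree χ = Cfsg.charDegree (ψ : N → ℂ) := by
        unfold Cfsg.charDegree
        rw [← hres 1]
        rfl
      refine ⟨⟨χ, hχ⟩, ?_, ?_⟩
      · rw [hA, Finset.mem_filter]
        exact ⟨Finset.mem_univ _, by rw [hdegeq]; exact hψ.2, hdet⟩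
      · apply Subtype.ext
        funext n
        exact hres n
    · intro χ hχ
      rfl
  -- assemble
  rw [hAset, finsum_mem_coe_finset]
  have h6 : (Nat.card N) ≡ (∑ χ ∈ A, Cfsg.charDegree (χ : G → ℂ) ^ 2) [MOD p] := by
    rw [h1, h5]
    exact h2.trans h3
  have h7 := (Int.natCast_modEq_iff).mpr h6
  push_cast at h7
  exact h7

end Cfsg.Agent.S4455
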