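-- Statement S4460 (Isaacs 12.15: three character degrees => G''' = 1), by helper80
-- (modules: helper26 [TAK3] [QUOT], helper96 [MAB] [COP-F], helper49 [PCOMP]).
import Cfsg.Statements.S4460
import Cfsg.Agent.Lib.Helper80.ThreeDeg.Coprime
import Cfsg.Agent.Lib.Helper49.ThreeDegPCompFinal

set_option autoImplicit false
open Cfsg

namespace Cfsg.Agent.S4460

open Cfsg.Agent.Lib Cfsg.Agent.Lib.Helper80.ThreeDeg

universe u

/-- all character degrees in `{1, m, n}` forces `G''' = 1` (strong induction on `|G|`). -/
theorem three_deg_aux : ∀ (k : ℕ) (G : Type u) [Group G] [Fintype G], Nat.card G = k →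
    ∀ m n : ℕ, (∀ χ : IrrCharacter G, charDegree (χ : G → ℂ) = 1 ∨
      charDegree (χ : G → ℂ) = m ∨ charDegree (χ : G → ℂ) = n) →
    derivedSeries G 3 = ⊥ := by
  intro k
  induction k using Nat.strong_induction_on with
  | _ k IH =>
  intro G _ _ hk m n hcd
  classical
  -- reduction to two degrees
  have htwo : ∀ f : ℕ, (∀ χ : IrrCharacter G, charDegree (χ : G → ℂ) = 1 ∨
      charDegree (χ : G → ℂ) = f) → derivedSeries G 3 = ⊥ := fun f hf =>
    derivedSeries_three_eq_bot_of_two (derivedSeries_two_eq_bot_of_cd_sub f hf)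
  by_cases hexm : ∃ χ : IrrCharacter G, charDegree (χ : G → ℂ) = m
  swap
  · push Not at hexm
    apply htwo n
    intro χ
    rcases hcd χ with h | h | h
    · exact Or.inl h
    · exact absurd h (hexm χ)
    · exact Or.inr h
  by_cases hexn : ∃ χ : IrrCharacter G, charDegree (χ : G → ℂ) = n
  swap
  · push Not at hexn
    apply htwo m
    intro χ
    rcases hcd χ with h | h | h
    · exact Or.inl h
    · exact Or.inr h
    · exact absurd h (hexn χ)
  by_cases hm1 : m = 1
  · apply htwo n
    intro χ
    rcases hcd χ with h | h | h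
    · exact Or.inl h
    · exact Or.inl (h.trans hm1)
    · exact Or.inr h
  by_cases hn1 : n = 1
  · apply htwo m
    intro χ
    rcases hcd χ with h | h | h
    · exact Or.inl h
    · exact Or.inr h
    · exact Or.inl (h.trans hn1)
  by_cases hmn : m = n
  · apply htwo m
    intro χ
    rcases hcd χ with h | h | h
    · exact Or.inl h
    · exact Or.inr h
    · exact Or.inr (h.trans hmn.symm)
  have hmpos : 1 < m := by
    obtain ⟨χ, hχ⟩ := hexm
    have := Helper78.IsIrrCharacter.charDegree_pos χ.2
    omega
  have hnpos : 1 < n := by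
    obtain ⟨χ, hχ⟩ := hexn
    have := Helper78.IsIrrCharacter.charDegree_pos χ.2
    omega
  by_cases hcop : Nat.Coprime m n
  · rcases lt_or_gt_of_ne hmn with hlt | hgt
    · exact three_deg_coprime m n hmpos hlt hcop hcd hexm hexn
    · exact three_deg_coprime n m hnpos hgt hcop.symm
        (fun χ => by rcases hcd χ with h | h | h <;> tauto) hexn hexm
  · -- a common prime divisor
    have hg : Nat.gcd m n ≠ 1 := hcop
    have hp : (Nat.gcd m n).minFac.Prime := Nat.minFac_prime hg
    have hpm : (Nat.gcd m n).minFac ∣ m := (Nat.minFac_dvd _).trans (Nat.gcd_dvd_left m n)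
    have hpn : (Nat.gcd m n).minFac ∣ n := (Nat.minFac_dvd _).trans (Nat.gcd_dvd_right m n)
    apply Helper49.ThreeDeg.three_deg_of_prime_dvd m n _ hp hpm hpn hcd
    intro H hH m' n' hcd'
    let _ : Fintype H := Fintype.ofFinite H
    have hlt : Nat.card H < k := by
      rw [← hk]
      apply lt_of_le_of_ne (Subgroup.card_le_card_group H)
      intro h
      exact hH ((Subgroup.card_eq_iff_eq_top H).mp h)
    exact IH (Nat.card H) hlt H rfl m' n' hcd'

/-- A finite group with exactly three distinct irreducible character degrees is solvable of derived length at most 3: its third derived subgroup is trivial. -/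
theorem result {G : Type*} [Group G] [Finite G] (hcd : Nat.card {n : ℕ // ∃ χ : Cfsg.IrrCharacter G, Cfsg.charDegree (χ : G → ℂ) = n} = 3) : derivedSeries G 3 = ⊥ := by
  classical
  let _ : Fintype G := Fintype.ofFinite G
  set S : Set ℕ := {d : ℕ | ∃ χ : Cfsg.IrrCharacter G, Cfsg.charDegree (χ : G → ℂ) = d} with hS
  have hcard : S.ncard = 3 := by
    rw [← Nat.card_coe_set_eq]
    exact hcd
  obtain ⟨x, y, z, -, -, -, hxyz⟩ := Set.ncard_eq_three.mp hcard
  have hmem : ∀ χ : IrrCharacter G, charDegree (χ : G → ℂ) = x ∨ charDegree (χ : G → ℂ) = y ∨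
      charDegree (χ : G → ℂ) = z := by
    intro χ
    have h1 : charDegree (χ : G → ℂ) ∈ S := ⟨χ, rfl⟩
    rw [hxyz] at h1
    simpa using h1
  -- the trivial character
  set triv : IrrCharacter G := ⟨fun _ => 1, Helper78.isIrrCharacter_one⟩ with htriv
  have hdt : charDegree (triv : G → ℂ) = 1 := by
    apply Helper80.charDegree_natCast
    simp [htriv]
  rcases hmem triv with h | h | h
  · rw [hdt] at h
    apply three_deg_aux (Nat.card G) G rfl y z
    intro χ
    rcases hmem χ with h' | h' | h'
    · exact Or.inl (h'.trans h.symm)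
    · exact Or.inr (Or.inl h')
    · exact Or.inr (Or.inr h')
  · rw [hdt] at h
    apply three_deg_aux (Nat.card G) G rfl x z
    intro χ
    rcases hmem χ with h' | h' | h'
    · exact Or.inr (Or.inl h')
    · exact Or.inl (h'.trans h.symm)
    · exact Or.inr (Or.inr h')
  · rw [hdt] at h
    apply three_deg_aux (Nat.card G) G rfl x y
    intro χ
    rcases hmem χ with h' | h' | h'
    · exact Or.inr (Or.inl h')
    · exact Or.inr (Or.inr h')
    · exact Or.inl (h'.trans h.symm)

end Cfsg.Agent.S4460
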