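import Cfsg.Statements.S4468
import Cfsg.Agent.Lib.Helper15.HHApply
import Cfsg.Agent.Lib.Helper76.PCore

set_option autoImplicit false
open Cfsg

namespace Cfsg.Agent.S4468

open Cfsg.Agent.Lib.Helper15 Cfsg.Agent.Lib.Helper76

/-- In a `p`-solvable group with abelian Sylow `p`-subgroup `P`, the product `O_{p'}(G) P` is
normal; if moreover `P` centralizes `O_{p'}(G)`, then `P` is normal. -/
theorem normal_of_centralizes {G : Type*} [Group G] [Finite G] (p : ℕ) [hp : Fact p.Prime]
    (hsolv : IsPSolvable p G) (P : Sylow p G)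
    (hab : ∀ x ∈ (P : Subgroup G), ∀ y ∈ (P : Subgroup G), x * y = y * x)
    (hcent : ∀ x ∈ (P : Subgroup G), ∀ a ∈ pPrimeCore p G, x * a = a * x) :
    (P : Subgroup G).Normal := by
  have hNn : (pPrimeCore p G).Normal := inferInstance
  set N := pPrimeCore p G with hN
  set π := QuotientGroup.mk' N with hπ
  have hsurj : Function.Surjective π := QuotientGroup.mk'_surjective N
  have hsolv' : IsPSolvable p (G ⧸ N) := IsPSolvable_of_surjective p π hsurj hsolv
  have hcore : ∀ M : Subgroup (G ⧸ N), M.Normal → (Nat.card M).Coprime p → M = ⊥ :=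
    fun M hM hc => quotient_pPrimeCore_core_trivial p M hM hc
  have hcen := centralizer_pCore_le p hsolv' hcore
  have hle : pCore p (G ⧸ N) ≤ (P.mapSurjective hsurj : Sylow p (G ⧸ N)) := pCore_le_sylow p _
  -- the image of `P` is `O_p(G/N)`
  have himg : ∀ x ∈ (P : Subgroup G), π x ∈ pCore p (G ⧸ N) := by
    intro x hx
    apply hcen
    rw [Subgroup.mem_centralizer_iff]
    intro y hy
    have hy' := hle hy
    rw [Sylow.coe_mapSurjective] at hy'
    obtain ⟨y₀, hy₀, rfl⟩ := hy'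
    rw [← map_mul, ← map_mul, hab y₀ hy₀ x hx]
  have hNcop : (Nat.card N).Coprime p := pPrimeCore_coprime p
  constructor
  intro x hx g
  -- `g x g⁻¹ = y a` with `y ∈ P`, `a ∈ N`
  have h1 : π (g * x * g⁻¹) ∈ pCore p (G ⧸ N) := by
    rw [map_mul, map_mul, map_inv]
    exact (inferInstance : (pCore p (G ⧸ N)).Normal).conj_mem _ (himg x hx) _
  have h2 := hle h1
  rw [Sylow.coe_mapSurjective] at h2
  obtain ⟨y, hy, hyx⟩ := h2
  have ha : y⁻¹ * (g * x * g⁻¹) ∈ N := by
    rw [← QuotientGroup.eq]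
    exact hyx
  set a := y⁻¹ * (g * x * g⁻¹) with hadef
  have hcomm : y * a = a * y := hcent y hy a ha
  have hgx : g * x * g⁻¹ = y * a := by rw [hadef]; group
  -- orders
  obtain ⟨k₁, hk₁⟩ := P.isPGroup' ⟨x, hx⟩
  obtain ⟨k₂, hk₂⟩ := P.isPGroup' ⟨y, hy⟩
  have hx1 : x ^ p ^ k₁ = 1 := by
    have := congrArg Subtype.val hk₁
    simpa using this
  have hy1 : y ^ p ^ k₂ = 1 := by
    have := congrArg Subtype.val hk₂
    simpa using this
  have hpow : (y * a) ^ (p ^ k₁ * p ^ k₂) = 1 := by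
    rw [← hgx, conj_pow, pow_mul, hx1, one_pow]
    group
  have hcm : Commute y a := hcomm
  rw [hcm.mul_pow, mul_comm (p ^ k₁) (p ^ k₂), pow_mul y, hy1, one_pow, one_mul] at hpow
  -- `a` has order coprime to `p`
  have ha1 : a = 1 := by
    have h3 : orderOf a ∣ p ^ k₂ * p ^ k₁ := orderOf_dvd_of_pow_eq_one hpow
    have h4 : orderOf a ∣ Nat.card N := by
      have := orderOf_dvd_natCard (⟨a, ha⟩ : N)
      rwa [Subgroup.orderOf_mk] at this
    have hc : Nat.Coprime (p ^ k₂ * p ^ k₁) (Nat.card N) := by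
      rw [← pow_add]
      exact Nat.Coprime.pow_left _ hNcop.symm
    have := Nat.eq_one_of_dvd_coprimes hc h3 h4
    exact orderOf_eq_one_iff.mp this
  rw [hgx, ha1, mul_one]
  exact hy

/-- Let the finite p-solvable group G have a faithful character χ of degree n ≤ p − 1 and suppose that a Sylow p-subgroup of G is not normal. Then n = p − 1, n is a power of 2, and χ is irreducible. -/
theorem result {G : Type*} [Group G] [Finite G] (χ : G → ℂ) (hχ : Cfsg.IsCharacter G χ) (hfaith : ∀ g : G, χ g = χ 1 → g = 1) (n : ℕ) (hn : Cfsg.charDegree χ = n) (p : ℕ) (hp : p.Prime) (hsolv : Cfsg.IsPSolvable p G) (hnp : n + 1 ≤ p) (P : Sylow p G) (hP : ¬ (P : Subgroup G).Normal) : n + 1 = p ∧ (∃ k : ℕ, n = 2 ^ k) ∧ Cfsg.IsIrrCharacter G χ := by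
  have : Fact p.Prime := ⟨hp⟩
  have hab := sylow_abelian_of_faithful_small hχ hfaith (by omega) (P : Subgroup G) P.isPGroup'
  have hnc : ¬ ∀ x ∈ (P : Subgroup G), ∀ a ∈ pPrimeCore p G, x * a = a * x :=
    fun h => hP (normal_of_centralizes p hsolv P hab h)
  push Not at hnc
  obtain ⟨x, hx, a, ha, hxa⟩ := hnc
  obtain ⟨m, hm⟩ := P.isPGroup' ⟨x, hx⟩
  have hx1 : x ^ p ^ m = 1 := by
    have := congrArg Subtype.val hm
    simpa using this
  have := faithful_degree_of_p_element_on_p'_normal (pPrimeCore p G) (pPrimeCore_coprime p) x m hx1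
    ⟨a, ha, hxa⟩ hχ hfaith (by omega)
  rw [hn] at this
  exact this

end Cfsg.Agent.S4468
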