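import Cfsg.Statements.S4473
import Cfsg.Agent.Lib.Helper3.CharValues
import Cfsg.Agent.Lib.Helper80.CharComplete
import Cfsg.Agent.Lib.Helper76.CharBasic
import Cfsg.Agent.Lib.Helper59.DiagTwo
import Cfsg.Agent.Lib.Helper59.PolyhedralArith

set_option autoImplicit false
set_option linter.unusedSectionVars false
open Cfsg

namespace Cfsg.Agent.S4473

open Module Cfsg.Agent.Lib.Helper59

section Setup

variable {G : Type*} [Group G] [Fintype G]
  (ρ : Representation ℂ G (Fin 2 → ℂ))

theorem rho_mul (a b : G) : ρ (a * b) = ρ a * ρ b := map_mul ρ a b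

theorem rho_injective_apply (t : G) : Function.Injective (ρ t) := by
  intro v w h
  have := congrArg (ρ t⁻¹) h
  rwa [← Module.End.mul_apply, ← Module.End.mul_apply, ← map_mul, inv_mul_cancel, map_one,
    Module.End.one_apply, Module.End.one_apply] at this

variable (hinj : Function.Injective ρ)
include hinj

theorem mem_center_of_scalar (g : G) (c : ℂ) (hc : ρ g = c • (1 : Module.End ℂ (Fin 2 → ℂ))) :
    g ∈ Subgroup.center G := by
  rw [Subgroup.mem_center_iff]
  intro h
  apply hinj
  rw [map_mul, map_mul, hc]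
  simp

theorem scalar_of_mem_center [ρ.IsIrreducible] (g : G) (hg : g ∈ Subgroup.center G) :
    ∃ c : ℂ, ρ g = c • (1 : Module.End ℂ (Fin 2 → ℂ)) := by
  apply Cfsg.Agent.Lib.Helper80.exists_eq_smul_one_of_comm ρ (ρ g)
  intro h
  rw [Subgroup.mem_center_iff] at hg
  have := congrArg ρ (hg h)
  rw [map_mul, map_mul] at this
  exact this.symm

theorem exists_basis (g : G) (hg : g ∉ Subgroup.center G) :
    ∃ (b : Basis (Fin 2) ℂ (Fin 2 → ℂ)) (μ : Fin 2 → ℂ),
      (∀ i, ρ g (b i) = μ i • b i) ∧ μ 0 ≠ μ 1 := by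
  obtain ⟨b', μ', hb', -⟩ := Cfsg.Agent.Lib.Helper3.exists_eigenbasis ρ g
  have hfr : finrank ℂ (Fin 2 → ℂ) = 2 := by simp
  let e : Fin (finrank ℂ (Fin 2 → ℂ)) ≃ Fin 2 := finCongr hfr
  refine ⟨b'.reindex e, fun i => μ' (e.symm i), ?_, ?_⟩
  · intro i
    simp only [Basis.reindex_apply]
    exact hb' _
  · intro hμ
    apply hg
    apply mem_center_of_scalar ρ hinj g (μ' (e.symm 0))
    apply (b'.reindex e).ext
    intro i
    simp only [Basis.reindex_apply, LinearMap.smul_apply, Module.End.one_apply]
    rw [hb']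
    fin_cases i
    · rfl
    · have hμ' : μ' (e.symm 0) = μ' (e.symm 1) := hμ
      simp only [Fin.mk_one]
      rw [hμ']

theorem isDiag_of_comm (g : G) (b : Basis (Fin 2) ℂ (Fin 2 → ℂ)) (μ : Fin 2 → ℂ)
    (hb : ∀ i, ρ g (b i) = μ i • b i) (hμ : μ 0 ≠ μ 1) (h : G) (hh : h * g = g * h) :
    IsDiagB b (ρ h) := by
  apply isDiagB_of_commute b (ρ g) (ρ h) μ hb hμ
  rw [← map_mul, ← map_mul, hh]

theorem comm_of_diag (b : Basis (Fin 2) ℂ (Fin 2 → ℂ)) (h k : G) (hh : IsDiagB b (ρ h))
    (hk : IsDiagB b (ρ k)) : h * k = k * h := by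
  apply hinj
  rw [map_mul, map_mul]
  exact hh.commute hk

theorem centralizer_comm (g : G) (hg : g ∉ Subgroup.center G) (h k : G)
    (hh : h ∈ Subgroup.centralizer ({g} : Set G)) (hk : k ∈ Subgroup.centralizer ({g} : Set G)) :
    h * k = k * h := by
  obtain ⟨b, μ, hb, hμ⟩ := exists_basis ρ hinj g hg
  rw [Subgroup.mem_centralizer_iff] at hh hk
  have h1 := hh g rfl
  have h2 := hk g rfl
  exact comm_of_diag ρ hinj b h k (isDiag_of_comm ρ hinj g b μ hb hμ h h1.symm)
    (isDiag_of_comm ρ hinj g b μ hb hμ k h2.symm)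

theorem centralizer_eq (g y : G) (hg : g ∉ Subgroup.center G) (hy : y ∉ Subgroup.center G)
    (hyg : y ∈ Subgroup.centralizer ({g} : Set G)) :
    Subgroup.centralizer ({y} : Set G) = Subgroup.centralizer ({g} : Set G) := by
  have hgy : g ∈ Subgroup.centralizer ({y} : Set G) := by
    rw [Subgroup.mem_centralizer_iff] at hyg ⊢
    intro z hz
    rw [Set.mem_singleton_iff] at hz
    subst hz
    exact (hyg g rfl).symm
  have hyy : y ∈ Subgroup.centralizer ({y} : Set G) := by
    rw [Subgroup.mem_centralizer_iff]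
    intro z hz
    rw [Set.mem_singleton_iff] at hz
    subst hz
    rfl
  have hgg : g ∈ Subgroup.centralizer ({g} : Set G) := by
    rw [Subgroup.mem_centralizer_iff]
    intro z hz
    rw [Set.mem_singleton_iff] at hz
    subst hz
    rfl
  ext t
  constructor
  · intro ht
    have := centralizer_comm ρ hinj y hy t g ht hgy
    rw [Subgroup.mem_centralizer_iff]
    intro z hz
    rw [Set.mem_singleton_iff] at hz
    subst hz
    exact this.symm
  · intro ht
    have := centralizer_comm ρ hinj g hg t y ht hyg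
    rw [Subgroup.mem_centralizer_iff]
    intro z hz
    rw [Set.mem_singleton_iff] at hz
    subst hz
    exact this.symm

theorem mem_centralizer_of_diag (g : G) (b : Basis (Fin 2) ℂ (Fin 2 → ℂ)) (μ : Fin 2 → ℂ)
    (hb : ∀ i, ρ g (b i) = μ i • b i) (t : G) (ht : IsDiagB b (ρ t)) :
    t ∈ Subgroup.centralizer ({g} : Set G) := by
  rw [Subgroup.mem_centralizer_iff]
  intro z hz
  rw [Set.mem_singleton_iff] at hz
  subst hz
  exact comm_of_diag ρ hinj b z t (IsDiagB.of_eig hb) ht

theorem normalizer_cases (g : G) (b : Basis (Fin 2) ℂ (Fin 2 → ℂ)) (μ : Fin 2 → ℂ)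
    (hb : ∀ i, ρ g (b i) = μ i • b i) (hμ : μ 0 ≠ μ 1) (t : G)
    (ht : t ∈ Subgroup.normalizer (Subgroup.centralizer ({g} : Set G) : Set G)) :
    IsDiagB b (ρ t) ∨ IsAntiB b (ρ t) := by
  apply isDiagB_or_isAntiB b (ρ g) (ρ t) μ hb hμ (rho_injective_apply ρ t)
  intro i
  -- y = t⁻¹ g t ∈ centralizer {g}
  have hgg : g ∈ Subgroup.centralizer ({g} : Set G) := by
    rw [Subgroup.mem_centralizer_iff]
    intro z hz
    rw [Set.mem_singleton_iff] at hz
    subst hz
    rfl
  have ht' : t⁻¹ ∈ Subgroup.normalizer (Subgroup.centralizer ({g} : Set G) : Set G) :=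
    inv_mem ht
  rw [Subgroup.mem_normalizer_iff] at ht'
  have hy : t⁻¹ * g * t⁻¹⁻¹ ∈ Subgroup.centralizer ({g} : Set G) := (ht' g).mp hgg
  rw [inv_inv] at hy
  have hyd : IsDiagB b (ρ (t⁻¹ * g * t)) := by
    rw [Subgroup.mem_centralizer_iff] at hy
    exact isDiag_of_comm ρ hinj g b μ hb hμ _ (hy g rfl).symm
  obtain ⟨d, hd⟩ := hyd i
  refine ⟨d, ?_⟩
  have h1 : ρ g * ρ t = ρ t * ρ (t⁻¹ * g * t) := by
    rw [← map_mul, ← map_mul]
    congr 1
    group
  rw [← Module.End.mul_apply, h1, Module.End.mul_apply, hd, map_smul]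

end Setup


section Count

variable {G : Type*} [Group G] [Fintype G]
  (ρ : Representation ℂ G (Fin 2 → ℂ)) (hinj : Function.Injective ρ)
include hinj

theorem card_normalizer (g : G) (hg : g ∉ Subgroup.center G) :
    Nat.card (Subgroup.normalizer (Subgroup.centralizer ({g} : Set G) : Set G)) =
        Nat.card (Subgroup.centralizer ({g} : Set G)) ∨
      Nat.card (Subgroup.normalizer (Subgroup.centralizer ({g} : Set G) : Set G)) =
        2 * Nat.card (Subgroup.centralizer ({g} : Set G)) := by
  obtain ⟨b, μ, hb, hμ⟩ := exists_basis ρ hinj g hg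
  set A := Subgroup.centralizer ({g} : Set G) with hA
  set N := Subgroup.normalizer (A : Set G) with hN
  have hAN : A ≤ N := Subgroup.le_normalizer
  have hcard : Nat.card (A.subgroupOf N) = Nat.card A :=
    Nat.card_congr (Subgroup.subgroupOfEquivOfLe hAN).toEquiv
  have hidx := Subgroup.card_mul_index (A.subgroupOf N)
  rw [hcard] at hidx
  by_cases hall : ∀ t ∈ N, t ∈ A
  · left
    have : A.subgroupOf N = ⊤ := by
      rw [Subgroup.eq_top_iff']
      intro t
      rw [Subgroup.mem_subgroupOf]
      exact hall t t.2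
    rw [this, Subgroup.index_top, mul_one] at hidx
    exact hidx.symm
  · right
    push Not at hall
    obtain ⟨a, haN, haA⟩ := hall
    have hanti : ∀ t ∈ N, t ∉ A → IsAntiB b (ρ t) := by
      intro t htN htA
      rcases normalizer_cases ρ hinj g b μ hb hμ t htN with h | h
      · exact absurd (mem_centralizer_of_diag ρ hinj g b μ hb t h) htA
      · exact h
    have h2 : (A.subgroupOf N).index = 2 := by
      rw [Subgroup.index_eq_two_iff]
      refine ⟨⟨a, haN⟩, fun t => ?_⟩
      rw [Subgroup.mem_subgroupOf, Subgroup.mem_subgroupOf]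
      by_cases htA : (t : G) ∈ A
      · refine Or.inr ⟨htA, fun hta => haA ?_⟩
        have : (a : G) = (t : G)⁻¹ * ((t : G) * a) := by group
        rw [this]
        exact mul_mem (inv_mem htA) hta
      · refine Or.inl ⟨?_, htA⟩
        have h1 := (hanti t t.2 htA).mul (hanti a haN haA)
        rw [← map_mul] at h1
        exact mem_centralizer_of_diag ρ hinj g b μ hb _ h1
    rw [h2] at hidx
    rw [← hidx, mul_comm]

end Count

/-- the maximal abelian subgroups: centralizers of noncentral elements -/
def MaxAb (G : Type*) [Group G] : Type _ :=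
  {A : Subgroup G // ∃ x : G, x ∉ Subgroup.center G ∧ A = Subgroup.centralizer ({x} : Set G)}

theorem map_conj_centralizer {G : Type*} [Group G] (g x : G) :
    (Subgroup.centralizer ({x} : Set G)).map (MulAut.conj g).toMonoidHom =
      Subgroup.centralizer ({g * x * g⁻¹} : Set G) := by
  ext y
  rw [Subgroup.mem_map]
  constructor
  · rintro ⟨t, ht, rfl⟩
    rw [Subgroup.mem_centralizer_iff] at ht ⊢
    intro z hz
    rw [Set.mem_singleton_iff] at hz
    subst hz
    have := ht x rfl
    simp only [MulEquiv.coe_toMonoidHom, MulAut.conj_apply]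
    calc g * x * g⁻¹ * (g * t * g⁻¹) = g * (x * t) * g⁻¹ := by group
      _ = g * (t * x) * g⁻¹ := by rw [this]
      _ = g * t * g⁻¹ * (g * x * g⁻¹) := by group
  · intro hy
    rw [Subgroup.mem_centralizer_iff] at hy
    have h1 := hy _ rfl
    refine ⟨g⁻¹ * y * g, ?_, ?_⟩
    · rw [Subgroup.mem_centralizer_iff]
      intro z hz
      rw [Set.mem_singleton_iff] at hz
      subst hz
      calc z * (g⁻¹ * y * g) = g⁻¹ * (g * z * g⁻¹ * y) * g := by group
        _ = g⁻¹ * (y * (g * z * g⁻¹)) * g := by rw [h1]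
        _ = g⁻¹ * y * g * z := by group
    · simp only [MulEquiv.coe_toMonoidHom, MulAut.conj_apply]
      group

theorem conj_not_mem_center {G : Type*} [Group G] (g x : G) (hx : x ∉ Subgroup.center G) :
    g * x * g⁻¹ ∉ Subgroup.center G := by
  intro h
  apply hx
  have := (inferInstance : (Subgroup.center G).Normal).conj_mem _ h g⁻¹
  simpa [mul_assoc] using this

instance {G : Type*} [Group G] : MulAction G (MaxAb G) where
  smul g A := ⟨A.1.map (MulAut.conj g).toMonoidHom, by
    obtain ⟨x, hx, hA⟩ := A.2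
    exact ⟨g * x * g⁻¹, conj_not_mem_center g x hx, by rw [hA, map_conj_centralizer]⟩⟩
  one_smul A := by
    apply Subtype.ext
    change A.1.map (MulAut.conj (1 : G)).toMonoidHom = A.1
    rw [map_one]
    exact Subgroup.map_id _
  mul_smul g h A := by
    apply Subtype.ext
    change A.1.map (MulAut.conj (g * h)).toMonoidHom =
      (A.1.map (MulAut.conj h).toMonoidHom).map (MulAut.conj g).toMonoidHom
    rw [Subgroup.map_map, map_mul]
    rfl

theorem MaxAb.smul_val {G : Type*} [Group G] (g : G) (A : MaxAb G) :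
    (g • A).1 = A.1.map (MulAut.conj g).toMonoidHom := rfl

theorem MaxAb.stabilizer_eq {G : Type*} [Group G] (A : MaxAb G) :
    MulAction.stabilizer G A = Subgroup.normalizer (A.1 : Set G) := by
  ext g
  rw [MulAction.mem_stabilizer_iff, Subgroup.mem_normalizer_iff]
  constructor
  · intro h
    have h' : A.1.map (MulAut.conj g).toMonoidHom = A.1 := congrArg Subtype.val h
    intro t
    constructor
    · intro ht
      rw [← h']
      exact Subgroup.mem_map.mpr ⟨t, ht, rfl⟩
    · intro ht
      rw [← h'] at ht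
      obtain ⟨s, hs, hst⟩ := Subgroup.mem_map.mp ht
      simp only [MulEquiv.coe_toMonoidHom, MulAut.conj_apply] at hst
      have : s = t := by
        have := congrArg (fun u => g⁻¹ * u * g) hst
        simpa [mul_assoc] using this
      rwa [← this]
  · intro h
    apply Subtype.ext
    change A.1.map (MulAut.conj g).toMonoidHom = A.1
    ext y
    rw [Subgroup.mem_map]
    constructor
    · rintro ⟨t, ht, rfl⟩
      simp only [MulEquiv.coe_toMonoidHom, MulAut.conj_apply]
      exact (h t).mp ht
    · intro hy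
      refine ⟨g⁻¹ * y * g, ?_, ?_⟩
      · rw [h]
        have : g * (g⁻¹ * y * g) * g⁻¹ = y := by group
        rwa [this]
      · simp only [MulEquiv.coe_toMonoidHom, MulAut.conj_apply]
        group

theorem MaxAb.card_smul {G : Type*} [Group G] (g : G) (A : MaxAb G) :
    Nat.card (g • A).1 = Nat.card A.1 := by
  rw [MaxAb.smul_val]
  exact (Nat.card_congr (Subgroup.equivMapOfInjective A.1 (MulAut.conj g).toMonoidHom
    (MulAut.conj g).injective).toEquiv).symm

/-- sum of an invariant function over a finite `G`-set, grouped by orbits -/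
theorem sum_eq_sum_orbits {G X : Type*} [Group G] [MulAction G X] [Fintype X]
    [Fintype (MulAction.orbitRel.Quotient G X)] (w : X → ℕ) (hw : ∀ (g : G) (x : X), w (g • x) = w x) :
    ∑ x, w x = ∑ q : MulAction.orbitRel.Quotient G X,
      Nat.card (MulAction.orbit G q.out) * w q.out := by
  classical
  have e := MulAction.selfEquivSigmaOrbits G X
  have : ∀ q : MulAction.orbitRel.Quotient G X, Fintype (MulAction.orbit G q.out) :=
    fun q => Fintype.ofFinite _
  rw [← Fintype.sum_equiv (MulAction.selfEquivSigmaOrbits G X).symm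
    (fun y => w ((MulAction.selfEquivSigmaOrbits G X).symm y)) w (fun y => rfl)]
  rw [Fintype.sum_sigma]
  refine Finset.sum_congr rfl fun q _ => ?_
  have hconst : ∀ y : MulAction.orbit G q.out,
      w ((MulAction.selfEquivSigmaOrbits G X).symm ⟨q, y⟩) = w q.out := by
    intro y
    have h1 : (MulAction.selfEquivSigmaOrbits G X).symm ⟨q, y⟩ = y.1 := by
      rfl
    rw [h1]
    obtain ⟨g, hg⟩ := y.2
    rw [← hg]
    exact hw g _
  rw [Finset.sum_congr rfl (fun y _ => hconst y), Finset.sum_const, Finset.card_univ,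
    smul_eq_mul, Nat.card_eq_fintype_card]

instance {G : Type*} [Group G] [Finite G] : Finite (MaxAb G) := by
  unfold MaxAb; infer_instance

theorem card_filter_mem {G : Type*} [Group G] [Fintype G] [DecidableEq G] (H : Subgroup G)
    [DecidablePred (· ∈ H)] :
    (Finset.univ.filter (· ∈ H)).card = Nat.card H := by
  rw [Nat.card_eq_fintype_card, Fintype.card_subtype]

section Count2

variable {G : Type*} [Group G] [Fintype G]
  (ρ : Representation ℂ G (Fin 2 → ℂ)) (hinj : Function.Injective ρ)
include hinj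

theorem self_mem_centralizer (x : G) : x ∈ Subgroup.centralizer ({x} : Set G) := by
  rw [Subgroup.mem_centralizer_iff]
  intro z hz
  rw [Set.mem_singleton_iff] at hz
  subst hz
  rfl

theorem card_sub_eq_sum [Fintype (MaxAb G)] :
    Nat.card G - Nat.card (Subgroup.center G) =
      ∑ A : MaxAb G, (Nat.card A.1 - Nat.card (Subgroup.center G)) := by
  classical
  set Z := Subgroup.center G with hZ
  let S : Finset G := Finset.univ.filter (· ∉ Z)
  let f : G → Subgroup G := fun x => Subgroup.centralizer ({x} : Set G)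
  have hS : S.card = Nat.card G - Nat.card Z := by
    have h1 := Finset.card_filter_add_card_filter_not (s := (Finset.univ : Finset G))
      (p := (· ∈ Z))
    rw [card_filter_mem Z, Finset.card_univ, ← Nat.card_eq_fintype_card] at h1
    change _ + S.card = _ at h1
    omega
  have h1 : S.card = ∑ B ∈ S.image f, (S.filter (fun x => f x = B)).card :=
    Finset.card_eq_sum_card_image f S
  have hmem : ∀ B : Subgroup G, B ∈ S.image f ↔
      ∃ x : G, x ∉ Subgroup.center G ∧ B = Subgroup.centralizer ({x} : Set G) := by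
    intro B
    rw [Finset.mem_image]
    constructor
    · rintro ⟨x, hx, rfl⟩
      exact ⟨x, (Finset.mem_filter.mp hx).2, rfl⟩
    · rintro ⟨x, hx, rfl⟩
      exact ⟨x, Finset.mem_filter.mpr ⟨Finset.mem_univ _, hx⟩, rfl⟩
  let inst2 : Fintype {B : Subgroup G // ∃ x : G, x ∉ Subgroup.center G ∧
      B = Subgroup.centralizer ({x} : Set G)} := (inferInstance : Fintype (MaxAb G))
  have h2 := Finset.sum_subtype (F := inst2) (S.image f) hmem (fun B => (S.filter (fun x => f x = B)).card)
  have h3 : ∀ A : MaxAb G, (S.filter (fun x => f x = A.1)).card = Nat.card A.1 - Nat.card Z := by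
    intro A
    obtain ⟨x, hx, hA⟩ := A.2
    have hfil : S.filter (fun y => f y = A.1) =
        (Finset.univ.filter (· ∈ A.1)) \ (Finset.univ.filter (· ∈ Z)) := by
      ext y
      simp only [Finset.mem_filter, Finset.mem_univ, true_and, Finset.mem_sdiff, S, f]
      constructor
      · rintro ⟨hyZ, hyA⟩
        refine ⟨?_, hyZ⟩
        rw [← hyA]
        exact self_mem_centralizer ρ hinj y
      · rintro ⟨hyA, hyZ⟩
        refine ⟨hyZ, ?_⟩
        rw [hA] at hyA ⊢
        exact centralizer_eq ρ hinj x y hx hyZ hyA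
    rw [hfil, Finset.card_sdiff_of_subset, card_filter_mem, card_filter_mem]
    intro y hy
    simp only [Finset.mem_filter, Finset.mem_univ, true_and] at hy ⊢
    rw [hA]
    exact Subgroup.center_le_centralizer _ hy
  rw [← hS, h1, h2]
  refine Fintype.sum_equiv (Equiv.refl _) _ _ (fun A => ?_)
  exact h3 A

theorem center_le_maxAb (A : MaxAb G) : Subgroup.center G ≤ A.1 := by
  obtain ⟨x, hx, hA⟩ := A.2
  rw [hA]
  exact Subgroup.center_le_centralizer _

theorem card_center_lt (A : MaxAb G) : Nat.card (Subgroup.center G) < Nat.card A.1 := by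
  obtain ⟨x, hx, hA⟩ := A.2
  by_contra hcon
  push Not at hcon
  have := Subgroup.eq_of_le_of_card_ge (center_le_maxAb ρ hinj A) hcon
  apply hx
  rw [this, hA]
  exact self_mem_centralizer ρ hinj x

theorem card_normalizer_maxAb (A : MaxAb G) :
    Nat.card (Subgroup.normalizer (A.1 : Set G)) = Nat.card A.1 ∨
      Nat.card (Subgroup.normalizer (A.1 : Set G)) = 2 * Nat.card A.1 := by
  obtain ⟨x, hx, hA⟩ := A.2
  rw [hA]
  exact card_normalizer ρ hinj x hx

end Count2

section Induced

variable {G : Type*} [Group G] [Fintype G]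

theorem extendByZero_mem (H : Subgroup G) (θ : H → ℂ) (u : G) (hu : u ∈ H) :
    extendByZero H θ u = θ ⟨u, hu⟩ := by
  unfold extendByZero
  exact Subtype.val_injective.extend_apply θ 0 ⟨u, hu⟩

theorem extendByZero_not_mem (H : Subgroup G) (θ : H → ℂ) (u : G) (hu : u ∉ H) :
    extendByZero H θ u = 0 := by
  unfold extendByZero
  rw [Function.extend_apply']
  · rfl
  · rintro ⟨a, rfl⟩
    exact hu a.2

theorem isDiagB_apply_eq {V : Type*} [AddCommGroup V] [Module ℂ V] {b : Basis (Fin 2) ℂ V}
    {T : Module.End ℂ V} (hT : IsDiagB b T) (i : Fin 2) :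
    T (b i) = b.repr (T (b i)) i • b i := by
  obtain ⟨c, hc⟩ := hT i
  rw [hc]
  simp

theorem trace_eq_repr {V : Type*} [AddCommGroup V] [Module ℂ V] (b : Basis (Fin 2) ℂ V)
    (T : Module.End ℂ V) :
    LinearMap.trace ℂ V T = b.repr (T (b 0)) 0 + b.repr (T (b 1)) 1 := by
  rw [LinearMap.trace_eq_matrix_trace ℂ b T, Matrix.trace, Fin.sum_univ_two]
  simp [Matrix.diag, LinearMap.toMatrix_apply]

variable (ρ : Representation ℂ G (Fin 2 → ℂ)) (hinj : Function.Injective ρ)
include hinj

theorem exists_induced (x : G) (hx : x ∉ Subgroup.center G)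
    (h2 : 2 * Nat.card (Subgroup.centralizer ({x} : Set G)) = Nat.card G) :
    ∃ θ : (Subgroup.centralizer ({x} : Set G)) → ℂ,
      IsCharacter (Subgroup.centralizer ({x} : Set G)) θ ∧
        ρ.character = indFun (Subgroup.centralizer ({x} : Set G)) θ := by
  classical
  obtain ⟨b, μ, hb, hμ⟩ := exists_basis ρ hinj x hx
  set A := Subgroup.centralizer ({x} : Set G) with hA
  have hdiag : ∀ t ∈ A, IsDiagB b (ρ t) := by
    intro t ht
    rw [hA, Subgroup.mem_centralizer_iff] at ht
    exact isDiag_of_comm ρ hinj x b μ hb hμ t (ht x rfl).symm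
  have hApos : 0 < Nat.card A := Nat.card_pos
  have hidx : A.index = 2 := by
    have := Subgroup.card_mul_index A
    rw [← h2] at this
    have h3 : Nat.card A * A.index = Nat.card A * 2 := by rw [this]; ring
    exact Nat.eq_of_mul_eq_mul_left hApos h3
  have hnorm : A.Normal := Subgroup.normal_of_index_eq_two hidx
  have hanti : ∀ t, t ∉ A → IsAntiB b (ρ t) := by
    intro t ht
    have htN : t ∈ Subgroup.normalizer (A : Set G) := by
      rw [Subgroup.normalizer_eq_top_iff.mpr hnorm]; trivial
    rcases normalizer_cases ρ hinj x b μ hb hμ t htN with h | h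
    · exact absurd (mem_centralizer_of_diag ρ hinj x b μ hb t h) ht
    · exact h
  let lam : G → ℂ := fun t => b.repr (ρ t (b 0)) 0
  let lam1 : G → ℂ := fun t => b.repr (ρ t (b 1)) 1
  have hchar : ∀ t, ρ.character t = lam t + lam1 t := fun t => trace_eq_repr b (ρ t)
  have hlam : ∀ t ∈ A, ρ t (b 0) = lam t • b 0 := fun t ht => isDiagB_apply_eq (hdiag t ht) 0
  have hlam1 : ∀ t ∈ A, ρ t (b 1) = lam1 t • b 1 := fun t ht => isDiagB_apply_eq (hdiag t ht) 1
  have hlam_one : lam 1 = 1 := by
    simp only [lam, map_one, Module.End.one_apply, Basis.repr_self, Finsupp.single_eq_same]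
  have hlam_mul : ∀ s ∈ A, ∀ t ∈ A, lam (s * t) = lam s * lam t := by
    intro s hs t ht
    simp only [lam]
    rw [map_mul, Module.End.mul_apply, hlam t ht, map_smul, hlam s hs, smul_smul]
    simp [mul_comm]
  -- the linear character as a representation
  let σ : Representation ℂ A (Fin 1 → ℂ) :=
    { toFun := fun t => lam t.1 • (1 : Module.End ℂ (Fin 1 → ℂ))
      map_one' := by simp [hlam_one]
      map_mul' := by
        intro s t
        rw [Subgroup.coe_mul, hlam_mul s.1 s.2 t.1 t.2]
        ext v
        simp [mul_smul]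
        ring }
  refine ⟨fun t => lam t.1, ⟨1, σ, ?_⟩, ?_⟩
  · funext t
    change LinearMap.trace ℂ (Fin 1 → ℂ) (lam t.1 • (1 : Module.End ℂ (Fin 1 → ℂ))) = lam t.1
    rw [map_smul, LinearMap.trace_one]
    simp
  · funext y
    unfold indFun
    by_cases hy : y ∈ A
    · -- y ∈ A
      have hterm : ∀ t : G, extendByZero A (fun t => lam t.1) (t⁻¹ * y * t) =
          if t ∈ A then lam y else lam1 y := by
        intro t
        have hu : t⁻¹ * y * t ∈ A := by
          have := hnorm.conj_mem y hy t⁻¹
          rwa [inv_inv] at this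
        rw [extendByZero_mem A _ _ hu]
        by_cases ht : t ∈ A
        · rw [if_pos ht]
          have hc := centralizer_comm ρ hinj x hx y t hy ht
          have : t⁻¹ * y * t = y := by rw [mul_assoc, hc, ← mul_assoc, inv_mul_cancel, one_mul]
          simp only [this]
        · rw [if_neg ht]
          obtain ⟨⟨c, hc⟩, -⟩ := hanti t ht
          have h1 : ρ t (ρ (t⁻¹ * y * t) (b 0)) = ρ t (lam1 y • b 0) := by
            rw [← Module.End.mul_apply, ← map_mul]
            have : t * (t⁻¹ * y * t) = y * t := by group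
            rw [this, map_mul, Module.End.mul_apply, hc, map_smul, hlam1 y hy, map_smul, hc,
              smul_smul, smul_smul, mul_comm]
          have h2 := rho_injective_apply ρ t h1
          change b.repr (ρ (t⁻¹ * y * t) (b 0)) 0 = lam1 y
          rw [h2]
          simp
      rw [Finset.sum_congr rfl (fun t _ => hterm t), Finset.sum_ite, Finset.sum_const,
        Finset.sum_const, card_filter_mem A]
      have hcard2 : (Finset.univ.filter (fun t : G => ¬ t ∈ A)).card = Nat.card A := by
        have := Finset.card_filter_add_card_filter_not (s := (Finset.univ : Finset G))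
          (p := (· ∈ A))
        rw [card_filter_mem A, Finset.card_univ, ← Nat.card_eq_fintype_card] at this
        omega
      rw [hcard2, hchar y]
      have hne : (Nat.card A : ℂ) ≠ 0 := by exact_mod_cast hApos.ne'
      simp only [nsmul_eq_mul]
      field_simp
    · -- y ∉ A
      have hterm : ∀ t : G, extendByZero A (fun t => lam t.1) (t⁻¹ * y * t) = 0 := by
        intro t
        apply extendByZero_not_mem
        intro hu
        apply hy
        have := hnorm.conj_mem _ hu t
        have h3 : t * (t⁻¹ * y * t) * t⁻¹ = y := by group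
        rwa [h3] at this
      rw [Finset.sum_congr rfl (fun t _ => hterm t), Finset.sum_const_zero, mul_zero, hchar y]
      obtain ⟨⟨c, hc⟩, ⟨c', hc'⟩⟩ := hanti y hy
      simp only [lam, lam1, hc, hc', map_smul, Basis.repr_self, Finsupp.smul_apply,
        smul_eq_mul]
      rw [Finsupp.single_apply, Finsupp.single_apply]
      simp

end Induced

/-- Let the finite group G have a faithful irreducible character χ of degree 2 that is primitive: χ is not induced from a character of any proper subgroup. Then the centre of G has index 12, 24 or 60. -/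
theorem result {G : Type*} [Group G] [Fintype G] (χ : Cfsg.IrrCharacter G) (hfaith : ∀ g : G, (χ : G → ℂ) g = (χ : G → ℂ) 1 → g = 1) (h2 : Cfsg.charDegree (χ : G → ℂ) = 2) (hprim : ∀ H : Subgroup G, H ≠ ⊤ → ∀ θ : H → ℂ, Cfsg.IsCharacter H θ → (χ : G → ℂ) ≠ Cfsg.indFun H θ) : (Subgroup.center G).index = 12 ∨ (Subgroup.center G).index = 24 ∨ (Subgroup.center G).index = 60 := by
  classical
  obtain ⟨n, ρ, hirr, hχ⟩ := χ.2
  have hn : n = 2 := by
    rw [← hχ, Cfsg.Agent.Lib.Helper76.charDegree_character] at h2
    exact h2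
  subst hn
  have := hirr
  -- faithfulness
  have hfr : (finrank ℂ (Fin 2 → ℂ) : ℂ) = ρ.character 1 := by
    symm
    rw [Cfsg.Agent.Lib.Helper3.character_eq_finrank_iff, map_one]
    rfl
  have hinj : Function.Injective ρ := by
    intro a b hab
    have h1 : ρ (a * b⁻¹) = LinearMap.id := by
      rw [map_mul, hab, ← map_mul, mul_inv_cancel, map_one]
      rfl
    rw [← Cfsg.Agent.Lib.Helper3.character_eq_finrank_iff, hfr, hχ] at h1
    have := hfaith _ h1
    exact mul_inv_eq_one.mp this
  -- notation
  set Z := Subgroup.center G with hZ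
  set z := Nat.card Z with hz
  set g := Z.index with hg
  have hzg : z * g = Nat.card G := Subgroup.card_mul_index Z
  have hzpos : 0 < z := Nat.card_pos
  -- G is not abelian
  have hg2 : 2 ≤ g := by
    by_contra hcon
    push Not at hcon
    have hgpos : 0 < g := Nat.pos_of_ne_zero (Subgroup.index_ne_zero_of_finite)
    have hg1 : g = 1 := by omega
    have htop : Z = ⊤ := Subgroup.index_eq_one.mp hg1
    have hcomm : ∀ a b : G, a * b = b * a := by
      intro a b
      have ha : a ∈ Z := by rw [htop]; trivial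
      exact ((Subgroup.mem_center_iff.mp ha) b).symm
    have hc : IsMulCommutative G := ⟨⟨hcomm⟩⟩
    have := Representation.IsIrreducible.finrank_eq_one_of_isMulCommutative ρ
    simp at this
  have : Fintype (MaxAb G) := Fintype.ofFinite _
  have : Fintype (MulAction.orbitRel.Quotient G (MaxAb G)) := Fintype.ofFinite _
  -- data
  let o : MulAction.orbitRel.Quotient G (MaxAb G) → ℕ := fun q => Nat.card (MulAction.orbit G q.out)
  let a : MulAction.orbitRel.Quotient G (MaxAb G) → ℕ := fun q => Nat.card q.out.1 / z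
  let nn : MulAction.orbitRel.Quotient G (MaxAb G) → ℕ :=
    fun q => Nat.card (Subgroup.normalizer (q.out.1 : Set G)) / Nat.card q.out.1
  have hA_card : ∀ A : MaxAb G, ∃ k, 2 ≤ k ∧ Nat.card A.1 = z * k := by
    intro A
    obtain ⟨k, hk⟩ := Subgroup.card_dvd_of_le (center_le_maxAb ρ hinj A)
    have hk' : Nat.card A.1 = z * k := hk
    have hlt : z < Nat.card A.1 := card_center_lt ρ hinj A
    refine ⟨k, ?_, hk'⟩
    by_contra hcon
    push Not at hcon
    have : z * k ≤ z * 1 := Nat.mul_le_mul_left _ (by omega)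
    omega
  have ha_eq : ∀ q, Nat.card q.out.1 = z * a q := by
    intro q
    obtain ⟨k, _, hk⟩ := hA_card q.out
    simp only [a]
    rw [hk, Nat.mul_div_cancel_left _ hzpos]
  have ha : ∀ q, 2 ≤ a q := by
    intro q
    obtain ⟨k, hk2, hk⟩ := hA_card q.out
    simp only [a]
    rw [hk, Nat.mul_div_cancel_left _ hzpos]
    exact hk2
  have hApos : ∀ A : MaxAb G, 0 < Nat.card A.1 := fun A => Nat.card_pos
  have hn_eq : ∀ q, Nat.card (Subgroup.normalizer (q.out.1 : Set G)) = nn q * Nat.card q.out.1 ∧
      (nn q = 1 ∨ nn q = 2) := by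
    intro q
    rcases card_normalizer_maxAb ρ hinj q.out with h | h
    · simp only [nn]
      rw [h, Nat.div_self (hApos _)]
      exact ⟨by ring, Or.inl rfl⟩
    · simp only [nn]
      rw [h, Nat.mul_div_cancel _ (hApos _)]
      exact ⟨rfl, Or.inr rfl⟩
  have horb : ∀ A : MaxAb G, Nat.card (MulAction.orbit G A) *
      Nat.card (Subgroup.normalizer (A.1 : Set G)) = Nat.card G := by
    intro A
    rw [← MaxAb.stabilizer_eq A, ← Nat.card_prod]
    exact Nat.card_congr (MulAction.orbitProdStabilizerEquivGroup G A)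
  have ho : ∀ q, o q * nn q * a q = g := by
    intro q
    have h1 := horb q.out
    rw [(hn_eq q).1, ha_eq q, ← hzg] at h1
    have h3 : z * (o q * nn q * a q) = z * g := by
      rw [← h1]; simp only [o]; ring
    exact Nat.eq_of_mul_eq_mul_left hzpos h3
  have hsum : ∑ q, o q * (a q - 1) = g - 1 := by
    have h1 := card_sub_eq_sum ρ hinj
    rw [sum_eq_sum_orbits (G := G) (fun A : MaxAb G => Nat.card A.1 - Nat.card (Subgroup.center G))
      (fun t A => by rw [MaxAb.card_smul])] at h1
    have h3 : z * ∑ q, o q * (a q - 1) = z * (g - 1) := by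
      rw [Finset.mul_sum, Nat.mul_sub, mul_one, hzg]
      rw [h1]
      refine Finset.sum_congr rfl fun q _ => ?_
      rw [ha_eq q]
      simp only [o]
      rw [← hz, Nat.mul_sub, Nat.mul_sub, mul_one]
      ring_nf
      rw [Nat.mul_sub]
      ring_nf
    exact Nat.eq_of_mul_eq_mul_left hzpos h3
  rcases polyhedral_arith g o a nn hg2 ha (fun q => (hn_eq q).2) ho hsum with h | h | h | ⟨q, h | h⟩
  · exact Or.inl h
  · exact Or.inr (Or.inl h)
  · exact Or.inr (Or.inr h)
  · -- a q = g : impossible
    exfalso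
    obtain ⟨x, hx, hA⟩ := q.out.2
    have hcard : Nat.card q.out.1 = Nat.card G := by rw [ha_eq q, h, hzg]
    have htop : q.out.1 = ⊤ := (Subgroup.card_eq_iff_eq_top _).mp hcard
    apply hx
    rw [Subgroup.mem_center_iff]
    intro y
    have hy : y ∈ Subgroup.centralizer ({x} : Set G) := by rw [← hA, htop]; trivial
    rw [Subgroup.mem_centralizer_iff] at hy
    exact (hy x rfl).symm
  · -- 2 * a q = g : imprimitive
    exfalso
    obtain ⟨x, hx, hA⟩ := q.out.2
    have hcard : 2 * Nat.card q.out.1 = Nat.card G := by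
      rw [ha_eq q, ← hzg, ← h]; ring
    rw [hA] at hcard
    obtain ⟨θ, hθ, hind⟩ := exists_induced ρ hinj x hx hcard
    refine hprim (Subgroup.centralizer ({x} : Set G)) ?_ θ hθ ?_
    · intro htop
      rw [htop, Subgroup.card_top] at hcard
      have : 0 < Nat.card G := Nat.card_pos
      omega
    · rw [← hχ]; exact hind

end Cfsg.Agent.S4473
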