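import Cfsg.Statements.S4474
import Cfsg.Agent.Lib.Helper74.FSRealRep

set_option autoImplicit false
open Cfsg

namespace Cfsg.Agent.S4474

/-- Let χ be an irreducible character of the finite group G. Then the Frobenius–Schur indicator of χ (the average over s ∈ G of χ(s²)) equals 1 if and only if χ is afforded by a real representation: there is a representation of G on a real coordinate space whose trace function, viewed in ℂ, is χ. -/
theorem result {G : Type*} [Group G] [Fintype G] (χ : Cfsg.IrrCharacter G) : ((Nat.card G : ℂ)⁻¹ * ∑ s : G, (χ : G → ℂ) (s * s)) = 1 ↔ ∃ (n : ℕ) (ρ : Representation ℝ G (Fin n → ℝ)), ∀ g : G, ((LinearMap.trace ℝ (Fin n → ℝ) (ρ g) : ℝ) : ℂ) = (χ : G → ℂ) g := by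
  obtain ⟨χf, n, ρ, hirr, hχ⟩ := χ
  have := hirr
  have hν : ((Nat.card G : ℂ)⁻¹ * ∑ s : G, χf (s * s)) = Cfsg.Agent.Lib.Helper74.fsInd ρ := by
    rw [Cfsg.Agent.Lib.Helper74.fsInd_eq_sum_character, hχ, Nat.card_eq_fintype_card]
  show ((Nat.card G : ℂ)⁻¹ * ∑ s : G, χf (s * s)) = 1 ↔ _
  rw [hν]
  constructor
  · intro h
    obtain ⟨ρr, hρr⟩ := Cfsg.Agent.Lib.Helper74.exists_real_rep_of_fsInd_eq_one ρ h
    refine ⟨n, ρr, fun g => ?_⟩
    rw [hρr g]
    exact congrFun hχ g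
  · rintro ⟨m, ρr, hρr⟩
    apply Cfsg.Agent.Lib.Helper74.fsInd_eq_one_of_real_rep ρ ρr
    intro g
    rw [hρr g]
    exact (congrFun hχ g).symm

end Cfsg.Agent.S4474
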