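import Cfsg.Statements.S4476
import Cfsg.Agent.Lib.Helper74.BrauerFowler

set_option autoImplicit false
open Cfsg

namespace Cfsg.Agent.S4476

/-- Let G be a finite group of even order g with exactly t involutions, and put α = (g − 1)/t (a rational number). Then (a) some non-identity element x of G has at most α² conjugates; and (b) some non-principal real-valued irreducible character of G has degree at most α. -/
theorem result {G : Type*} [Group G] [Fintype G] (heven : Even (Nat.card G)) (t : ℕ) (ht : Nat.card {x : G // orderOf x = 2} = t) : (∃ x : G, x ≠ 1 ∧ ((Subgroup.centralizer ({x} : Set G)).index : ℚ) ≤ (((Nat.card G : ℚ) - 1) / t) ^ 2) ∧ ∃ χ : Cfsg.IrrCharacter G, (χ : G → ℂ) ≠ (fun _ => 1) ∧ (∀ g : G, ((χ : G → ℂ) g).im = 0) ∧ (Cfsg.charDegree (χ : G → ℂ) : ℚ) ≤ ((Nat.card G : ℚ) - 1) / t := by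
  subst ht
  -- there is an involution
  have htpos : 0 < Nat.card {x : G // orderOf x = 2} := by
    have h2 : 2 ∣ Nat.card G := even_iff_two_dvd.mp heven
    have : Fact (Nat.Prime 2) := ⟨Nat.prime_two⟩
    obtain ⟨x, hx⟩ := exists_prime_orderOf_dvd_card' (G := G) 2 h2
    exact Nat.card_pos_iff.mpr ⟨⟨⟨x, hx⟩⟩, inferInstance⟩
  constructor
  · obtain ⟨x, hx1, hx⟩ := Cfsg.Agent.Lib.Helper74.exists_class_size_le (G := G) htpos
    refine ⟨x, hx1, ?_⟩
    have h : (((Subgroup.centralizer ({x} : Set G)).index : ℚ) : ℝ) ≤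
        (((((Nat.card G : ℚ) - 1) / (Nat.card {x : G // orderOf x = 2} : ℚ)) ^ 2 : ℚ) : ℝ) := by
      push_cast
      exact hx
    exact_mod_cast h
  · obtain ⟨χ, hχ, hd⟩ := Cfsg.Agent.Lib.Helper74.exists_real_irr_degree_le (G := G) htpos
    rw [Cfsg.Agent.Lib.Helper74.mem_realNonprincipal] at hχ
    refine ⟨χ, hχ.1, hχ.2, ?_⟩
    have h : ((Cfsg.charDegree (χ : G → ℂ) : ℚ) : ℝ) ≤
        ((((Nat.card G : ℚ) - 1) / (Nat.card {x : G // orderOf x = 2} : ℚ) : ℚ) : ℝ) := by
      push_cast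
      exact hd
    exact_mod_cast h

end Cfsg.Agent.S4476
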