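import Cfsg.Statements.S4480
-- import your own Cfsg.Agent.* helpers here

import Mathlib
import Cfsg.Agent.S0925
import Cfsg.Agent.S4479
import Cfsg.Agent.Lib.Helper74.InvolCols
import Cfsg.Agent.Lib.Helper74.KleinCount
import Cfsg.Agent.Lib.Helper74.KleinNoComplement
import Cfsg.Agent.Lib.Helper74.OrderFormulaB
import Cfsg.Agent.Lib.Helper74.PrincipalSMT
import Cfsg.Agent.Lib.Helper74.FSCount
import Cfsg.Agent.Lib.Helper74.FSOdd
import Cfsg.Agent.Lib.Helper78.BlockSums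
import Cfsg.Agent.Lib.Helper79.Schur
import Cfsg.Agent.Lib.Helper79.Integrality
import Cfsg.Agent.Lib.Helper71.KFTwist
import Cfsg.Agent.Lib.Helper71.KFArith

set_option autoImplicit false
open Cfsg

namespace Cfsg.Agent.S4480

open Cfsg.Agent.Lib.Helper74 Cfsg.Agent.Lib.Helper78 Cfsg.Agent.Lib.Helper81 Cfsg.Agent.Lib.Helper71
open scoped ComplexConjugate

/-- Same setting as the Klein-four order formula: G of order 4·g₀ (g₀ odd) with no normal 2-complement, P a Sylow 2-subgroup, J an involution of P, M over 2, principal 2-block {1, χ₁, χ₂, χ₃} with χ_i(J) = ε_i = ±1. Suppose ε₁ε₂ε₃ = −1 and ε₃ = −1, and put q = x₃ = χ₃(1). Then there is a natural number m with 4·c(J) = m·c(P)·(q + 1), and the order of G equals (m³·c(P)/4)·(q³ − q)/2, that is 8·#G = m³·c(P)·(q³ − q). -/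
theorem result {G : Type*} [Group G] [Finite G] (M : Ideal Cfsg.AlgInt) (hM : Cfsg.IsPModular 2 M) (g₀ : ℕ) (hg₀ : Odd g₀) (hG : Nat.card G = 4 * g₀) (hnc : ¬ ∃ N : Subgroup G, N.Normal ∧ Nat.card N = g₀) (P : Sylow 2 G) (J : G) (hJ : J ∈ (P : Subgroup G)) (hJ2 : orderOf J = 2) (χ₁ χ₂ χ₃ : Cfsg.IrrCharacter G) (ε₁ ε₂ ε₃ : ℤ) (hB : Cfsg.principalBlock M G = {χ : Cfsg.IrrCharacter G | (χ : G → ℂ) = (fun _ => 1) ∨ χ = χ₁ ∨ χ = χ₂ ∨ χ = χ₃}) (hdist : (χ₁ : G → ℂ) ≠ (fun _ => 1) ∧ (χ₂ : G → ℂ) ≠ (fun _ => 1) ∧ (χ₃ : G → ℂ) ≠ (fun _ => 1) ∧ χ₁ ≠ χ₂ ∧ χ₁ ≠ χ₃ ∧ χ₂ ≠ χ₃) (hε : (ε₁ = 1 ∨ ε₁ = -1) ∧ (ε₂ = 1 ∨ ε₂ = -1) ∧ (ε₃ = 1 ∨ ε₃ = -1)) (hval : (χ₁ : G → ℂ) J = ε₁ ∧ (χ₂ : G → ℂ) J = ε₂ ∧ (χ₃ : G → ℂ) J = ε₃) (hprod : ε₁ * ε₂ * ε₃ = -1) (hε₃ : ε₃ = -1) : ∃ m : ℕ, 4 * Nat.card (Subgroup.centralizer ({J} : Set G)) = m * Nat.card (Subgroup.centralizer ((P : Subgroup G) : Set G)) * (Cfsg.charDegree (χ₃ : G → ℂ) + 1) ∧ 8 * Nat.card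 G = m ^ 3 * Nat.card (Subgroup.centralizer ((P : Subgroup G) : Set G)) * (Cfsg.charDegree (χ₃ : G → ℂ) ^ 3 - Cfsg.charDegree (χ₃ : G → ℂ)) := by
  classical
  have : Fact (Nat.Prime 2) := ⟨Nat.prime_two⟩
  have : Fintype G := Fintype.ofFinite G
  obtain ⟨hPK, hone⟩ := isKleinFour_and_one_class_of_no_complement g₀ hg₀ hG hnc P
  have hform := Cfsg.Agent.S4479.result M hM g₀ hg₀ hG hnc P J hJ hJ2 χ₁ χ₂ χ₃ ε₁ ε₂ ε₃ hB hdist hε
    hval
  obtain ⟨hJJ, hJ1⟩ := mul_self_of_orderOf_two hJ2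
  have hJ2' : ∃ k : ℕ, orderOf J = 2 ^ k := ⟨1, by rw [hJ2, pow_one]⟩
  have hB0 : IsPBlock M (principalBlock M G) := isPBlock_principalBlock G M
  obtain ⟨hε₁, hε₂, hε₃'⟩ := hε
  obtain ⟨hv₁, hv₂, hv₃⟩ := hval
  obtain ⟨hd₁, hd₂, hd₃, hd₁₂, hd₁₃, hd₂₃⟩ := hdist
  -- the principal block as a finset
  set χ₀ : IrrCharacter G := ⟨fun _ => 1, isIrrCharacter_one⟩ with hχ₀
  have h01 : χ₀ ≠ χ₁ := fun h => hd₁ (by rw [← h])
  have h02 : χ₀ ≠ χ₂ := fun h => hd₂ (by rw [← h])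
  have h03 : χ₀ ≠ χ₃ := fun h => hd₃ (by rw [← h])
  have hs : Finset.univ.filter (fun χ : IrrCharacter G => χ ∈ principalBlock M G) =
      {χ₀, χ₁, χ₂, χ₃} := by
    ext χ
    simp only [Finset.mem_filter, Finset.mem_univ, true_and, Finset.mem_insert,
      Finset.mem_singleton]
    rw [hB]
    simp only [Set.mem_ofPred_eq]
    constructor
    · rintro (h | h | h | h)
      · left; exact Subtype.ext h
      · right; left; exact h
      · right; right; left; exact h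
      · right; right; right; exact h
    · rintro (h | h | h | h)
      · left; rw [h]
      · right; left; exact h
      · right; right; left; exact h
      · right; right; right; exact h
  have hsum4 : ∀ f : IrrCharacter G → ℂ,
      ∑ χ ∈ Finset.univ.filter (fun χ : IrrCharacter G => χ ∈ principalBlock M G), f χ =
        f χ₀ + (f χ₁ + (f χ₂ + f χ₃)) := by
    intro f
    rw [hs, Finset.sum_insert, Finset.sum_insert, Finset.sum_insert, Finset.sum_singleton]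
    · simp only [Finset.mem_singleton]; exact hd₂₃
    · simp only [Finset.mem_insert, Finset.mem_singleton, not_or]; exact ⟨hd₁₂, hd₁₃⟩
    · simp only [Finset.mem_insert, Finset.mem_singleton, not_or]; exact ⟨h01, h02, h03⟩
  have hmemB : ∀ χ : IrrCharacter G, χ ∈ principalBlock M G →
      χ = χ₀ ∨ χ = χ₁ ∨ χ = χ₂ ∨ χ = χ₃ := by
    intro χ hχ
    have : χ ∈ Finset.univ.filter (fun χ : IrrCharacter G => χ ∈ principalBlock M G) := by
      simp only [Finset.mem_filter, Finset.mem_univ, true_and]; exact hχ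
    rw [hs] at this
    simpa using this
  have hB1 : χ₁ ∈ principalBlock M G := by
    rw [hB]; right; left; rfl
  have hB3 : χ₃ ∈ principalBlock M G := by
    rw [hB]; right; right; right; rfl
  -- degrees
  have hdeg : ∀ χ : IrrCharacter G, (χ : G → ℂ) 1 = (charDegree (χ : G → ℂ) : ℂ) :=
    fun χ => IsCharacter.apply_one_eq_charDegree (IsIrrCharacter.isCharacter χ.2)
  have hdposN : ∀ χ : IrrCharacter G, 0 < charDegree (χ : G → ℂ) :=
    fun χ => IsIrrCharacter.charDegree_pos χ.2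
  have hdeg0 : charDegree (χ₀ : G → ℂ) = 1 := by
    have := hdeg χ₀
    have h1 : (χ₀ : G → ℂ) 1 = 1 := rfl
    rw [h1] at this
    exact_mod_cast this.symm
  -- the relation `1 + ∑ εᵢ xᵢ = 0`
  have hrel : (1 : ℂ) + ((ε₁ : ℂ) * (charDegree (χ₁ : G → ℂ) : ℂ) +
      ((ε₂ : ℂ) * (charDegree (χ₂ : G → ℂ) : ℂ) + (ε₃ : ℂ) * (charDegree (χ₃ : G → ℂ) : ℂ))) = 0 := by
    have h := (Cfsg.Agent.S0925.result (G := G) 2 M hM).2 J 1 J 1
      (isPPart_self one_lt_two hJ2')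
      (isPPart_self one_lt_two ⟨0, by rw [orderOf_one, pow_zero]⟩)
      (fun hc => hJ1 (isConj_one_left.mp hc)) (principalBlock M G) hB0
    rw [finsum_mem_eq_sum_filter_univ, hsum4] at h
    rw [inv_one, hdeg χ₀, hdeg χ₁, hdeg χ₂, hdeg χ₃, hdeg0, hv₁, hv₂, hv₃] at h
    simpa using h
  -- the signs
  have hε12 : ε₁ = 1 ∧ ε₂ = 1 := by
    rw [hε₃] at hprod
    rcases hε₁ with h1 | h1 <;> rcases hε₂ with h2 | h2
    · exact ⟨h1, h2⟩
    · rw [h1, h2] at hprod; norm_num at hprod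
    · rw [h1, h2] at hprod; norm_num at hprod
    · exfalso
      rw [h1, h2, hε₃] at hrel
      have h3 : ((charDegree (χ₁ : G → ℂ) + charDegree (χ₂ : G → ℂ) +
          charDegree (χ₃ : G → ℂ) : ℕ) : ℂ) = ((1 : ℕ) : ℂ) := by
        push_cast
        push_cast at hrel
        linear_combination -hrel
      have h4 : charDegree (χ₁ : G → ℂ) + charDegree (χ₂ : G → ℂ) +
          charDegree (χ₃ : G → ℂ) = 1 := by exact_mod_cast h3
      have := hdposN χ₁
      have := hdposN χ₂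
      have := hdposN χ₃
      omega
  obtain ⟨hε₁1, hε₂1⟩ := hε12
  rw [hε₁1] at hv₁
  rw [hε₂1] at hv₂
  rw [hε₃] at hv₃
  have hv₁' : (χ₁ : G → ℂ) J = 1 := by rw [hv₁]; norm_num
  have hv₂' : (χ₂ : G → ℂ) J = 1 := by rw [hv₂]; norm_num
  have hv₃' : (χ₃ : G → ℂ) J = -1 := by rw [hv₃]; norm_num
  have hx3 : charDegree (χ₃ : G → ℂ) = charDegree (χ₁ : G → ℂ) + charDegree (χ₂ : G → ℂ) + 1 := by
    rw [hε₁1, hε₂1, hε₃] at hrel
    have h3 : ((charDegree (χ₃ : G → ℂ) : ℕ) : ℂ) =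
        ((charDegree (χ₁ : G → ℂ) + charDegree (χ₂ : G → ℂ) + 1 : ℕ) : ℂ) := by
      push_cast
      push_cast at hrel
      linear_combination -hrel
    exact_mod_cast h3
  -- parity of the degrees
  have hodd : ∀ χ : IrrCharacter G, ((χ : G → ℂ) J = 1 ∨ (χ : G → ℂ) J = -1) →
      Odd (charDegree (χ : G → ℂ)) := by
    intro χ hχ
    obtain ⟨m, hm⟩ := kf_invol_parity χ hJ1 hJJ
    rw [hdeg χ] at hm
    rcases hχ with h | h
    · rw [h] at hm
      have h3 : ((charDegree (χ : G → ℂ) + 1 : ℕ) : ℂ) = ((2 * m : ℕ) : ℂ) := by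
        push_cast; exact hm
      have h4 : charDegree (χ : G → ℂ) + 1 = 2 * m := by exact_mod_cast h3
      exact ⟨m - 1, by omega⟩
    · rw [h] at hm
      have h3 : ((charDegree (χ : G → ℂ) : ℕ) : ℂ) = ((2 * m + 1 : ℕ) : ℂ) := by
        push_cast; linear_combination hm
      have h4 : charDegree (χ : G → ℂ) = 2 * m + 1 := by exact_mod_cast h3
      exact ⟨m, h4⟩
  -- indicators
  have hfsrfl : ∀ χ : IrrCharacter G, fsIndicator (χ : G → ℂ) = fsIndFun (χ : G → ℂ) :=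
    fun _ => rfl
  have hν01 : ∀ χ : IrrCharacter G, ((χ : G → ℂ) J = 1 ∨ (χ : G → ℂ) J = -1) →
      fsIndicator (χ : G → ℂ) = 0 ∨ fsIndicator (χ : G → ℂ) = 1 := by
    intro χ hχ
    by_cases h0 : fsIndFun (χ : G → ℂ) = 0
    · left; rw [hfsrfl, h0]
    · right
      have hreal := im_eq_zero_of_fsIndFun_ne_zero χ h0
      have := fs_eq_one_of_real_of_odd_degree (χ : G → ℂ) χ.2 hreal
        (charDegree (χ : G → ℂ)) (hdeg χ) (hodd χ hχ)
      exact this
  -- the twisted Frobenius–Schur relation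
  have hfs := kf_sum_fs hM P hPK J hJ hJ2
  rw [hsum4] at hfs
  have hν0 : fsIndicator ((χ₀ : IrrCharacter G) : G → ℂ) = 1 := fsIndicator_one
  have hχ₀J : (χ₀ : G → ℂ) J = 1 := rfl
  rw [hν0, hχ₀J, hv₁', hv₂', hv₃'] at hfs
  -- χ₃ is real
  have hconjB : ∀ χ : IrrCharacter G, χ ∈ principalBlock M G →
      (⟨fun g => conj ((χ : G → ℂ) g), isIrrCharacter_conj χ.2⟩ : IrrCharacter G) = χ₀ ∨
      (⟨fun g => conj ((χ : G → ℂ) g), isIrrCharacter_conj χ.2⟩ : IrrCharacter G) = χ₁ ∨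
      (⟨fun g => conj ((χ : G → ℂ) g), isIrrCharacter_conj χ.2⟩ : IrrCharacter G) = χ₂ ∨
      (⟨fun g => conj ((χ : G → ℂ) g), isIrrCharacter_conj χ.2⟩ : IrrCharacter G) = χ₃ :=
    fun χ hχ => hmemB _ (conj_mem_principalBlock χ hχ)
  have hval_of_eq : ∀ (χ ψ : IrrCharacter G),
      (⟨fun g => conj ((χ : G → ℂ) g), isIrrCharacter_conj χ.2⟩ : IrrCharacter G) = ψ →
      ∀ g, conj ((χ : G → ℂ) g) = (ψ : G → ℂ) g := by
    intro χ ψ h g
    rw [← h]
  have hreal3 : ∀ g : G, ((χ₃ : G → ℂ) g).im = 0 := by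
    have hJval : conj ((χ₃ : G → ℂ) J) = -1 := by rw [hv₃']; simp
    rcases hconjB χ₃ hB3 with h | h | h | h
    · exfalso
      have := hval_of_eq χ₃ χ₀ h J
      rw [hJval, hχ₀J] at this
      norm_num at this
    · exfalso
      have := hval_of_eq χ₃ χ₁ h J
      rw [hJval, hv₁'] at this
      norm_num at this
    · exfalso
      have := hval_of_eq χ₃ χ₂ h J
      rw [hJval, hv₂'] at this
      norm_num at this
    · intro g
      exact Complex.conj_eq_iff_im.mp (hval_of_eq χ₃ χ₃ h g)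
  have hν3 : fsIndicator (χ₃ : G → ℂ) = 1 :=
    fs_eq_one_of_real_of_odd_degree (χ₃ : G → ℂ) χ₃.2 hreal3
      (charDegree (χ₃ : G → ℂ)) (hdeg χ₃) (hodd χ₃ (Or.inr hv₃'))
  rw [hν3] at hfs
  have hν1 : fsIndicator (χ₁ : G → ℂ) = 0 := by
    rcases hν01 χ₁ (Or.inl hv₁') with h | h
    · exact h
    · exfalso
      rcases hν01 χ₂ (Or.inl hv₂') with h' | h'
      · rw [h, h'] at hfs; norm_num at hfs
      · rw [h, h'] at hfs; norm_num at hfs
  -- χ₁ is not real, so its conjugate is χ₂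
  have hx12 : charDegree (χ₂ : G → ℂ) = charDegree (χ₁ : G → ℂ) := by
    obtain ⟨s, hs⟩ := (fsIndFun_eq_zero_iff χ₁).mp (by rw [← hfsrfl]; exact hν1)
    have hJval : conj ((χ₁ : G → ℂ) J) = 1 := by rw [hv₁']; simp
    rcases hconjB χ₁ hB1 with h | h | h | h
    · exfalso
      have := hval_of_eq χ₁ χ₀ h s
      have h1 : (χ₀ : G → ℂ) s = 1 := rfl
      rw [h1] at this
      have h2 : (χ₁ : G → ℂ) s = 1 := by
        have := congrArg conj this
        simpa using this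
      rw [h2] at hs
      simp at hs
    · exfalso
      exact hs (Complex.conj_eq_iff_im.mp (hval_of_eq χ₁ χ₁ h s))
    · have := hval_of_eq χ₁ χ₂ h 1
      rw [hdeg χ₁, hdeg χ₂, Complex.conj_natCast] at this
      exact_mod_cast this.symm
    · exfalso
      have := hval_of_eq χ₁ χ₃ h J
      rw [hJval, hv₃'] at this
      norm_num at this
  -- notation
  set r := charDegree (χ₁ : G → ℂ) with hr
  set q := charDegree (χ₃ : G → ℂ) with hq
  rw [hx12] at hx3
  have hq' : q = 2 * r + 1 := by omega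
  have hrpos : 0 < r := hdposN χ₁
  set cJ := Nat.card (Subgroup.centralizer ({J} : Set G)) with hcJ
  set cP := Nat.card (Subgroup.centralizer ((P : Subgroup G) : Set G)) with hcP
  have hcJpos : 0 < cJ := Nat.card_pos
  have hcPpos : 0 < cP := Nat.card_pos
  -- divisibility from integrality of central characters
  have hidx : (Subgroup.centralizer ({J} : Set G)).index * cJ = Nat.card G := by
    rw [mul_comm]; exact (Subgroup.centralizer ({J} : Set G)).card_mul_index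
  have hrdvd : r ∣ (Subgroup.centralizer ({J} : Set G)).index := by
    have h := Cfsg.Agent.Lib.Helper79.isIntegral_centralChar χ₁ J
    unfold centralChar at h
    rw [hv₁', mul_one, hdeg χ₁] at h
    exact Cfsg.Agent.Lib.Helper79.dvd_of_isIntegral_div hrpos.ne' h
  have hqdvd : q ∣ (Subgroup.centralizer ({J} : Set G)).index := by
    have h := Cfsg.Agent.Lib.Helper79.isIntegral_centralChar χ₃ J
    unfold centralChar at h
    rw [hv₃', hdeg χ₃] at h
    have h2 : IsIntegral ℤ (((Subgroup.centralizer ({J} : Set G)).index : ℂ) / (q : ℂ)) := by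
      have := h.neg
      have e : -(((Subgroup.centralizer ({J} : Set G)).index : ℂ) * -1 / (q : ℂ)) =
          ((Subgroup.centralizer ({J} : Set G)).index : ℂ) / (q : ℂ) := by ring
      rw [e] at this
      exact this
    exact Cfsg.Agent.Lib.Helper79.dvd_of_isIntegral_div (hdposN χ₃).ne' h2
  have hcop : Nat.Coprime q r := by
    rw [hq']
    have : Nat.Coprime (r * 2 + 1) r := by
      rw [Nat.coprime_mul_left_add_left]
      exact Nat.coprime_one_left r
    rwa [mul_comm] at this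
  have hdiv : q * r * cJ ∣ Nat.card G := by
    rw [← hidx]
    exact Nat.mul_dvd_mul_right (Nat.Coprime.mul_dvd_of_dvd_of_dvd hcop hqdvd hrdvd) cJ
  -- the order formula
  have hA : Nat.card G * (r + 1) ^ 2 * cP ^ 2 = 4 * r * q * cJ ^ 3 := by
    rw [hx12, hε₁1, hε₂1, hε₃] at hform
    have hrq : (r : ℚ) ≠ 0 := by exact_mod_cast hrpos.ne'
    have hr1q : ((r : ℚ) + 1) ≠ 0 := by positivity
    have hcPq : (cP : ℚ) ≠ 0 := by exact_mod_cast hcPpos.ne'
    have hqq : (q : ℚ) = 2 * r + 1 := by exact_mod_cast hq'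
    have h1 : (Nat.card G : ℚ) * ((r : ℚ) + 1) ^ 2 * (cP : ℚ) ^ 2 = 4 * r * q * (cJ : ℚ) ^ 3 := by
      rw [hform]
      push_cast
      rw [hqq]
      field_simp
      ring
    exact_mod_cast h1
  exact kf_arith (Nat.card G) cJ cP q r hq' hrpos hcJpos hcPpos hA hdiv

end Cfsg.Agent.S4480
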