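import Cfsg.Statements.S4482
import Cfsg.Agent.S4481
import Cfsg.Agent.Lib.Helper46.DihOrdDefs
import Cfsg.Agent.Lib.Helper77.DihOrdEval
import Cfsg.Agent.Lib.Helper77.DihOrdCpc
import Cfsg.Agent.Lib.Helper55.DihOrdDih
import Cfsg.Agent.Lib.Helper55.DihOrdInv
import Cfsg.Agent.Lib.Helper76.DihOrdCS
import Cfsg.Agent.Lib.Helper76.DihOrdEqui
import Cfsg.Agent.Lib.Helper14.DihOrdTable
import Cfsg.Agent.Lib.Helper44.DihOrdLoc

set_option autoImplicit false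
set_option maxHeartbeats 1600000
open Cfsg

namespace Cfsg.Agent.S4482

open Cfsg.Agent.Lib.Helper46.DihOrd Cfsg.Agent.Lib.Helper74 Cfsg.Agent.Lib.Helper78
open scoped ComplexConjugate

/-- An order formula for groups with dihedral Sylow 2-subgroups and one class of involutions (Brauer). -/
theorem result {G : Type*} [Group G] [Finite G] (M : Ideal Cfsg.AlgInt) (hM : Cfsg.IsPModular 2 M) (n : ℕ) (hn : 3 ≤ n) (P : Sylow 2 G) (σ τ : G) (hσ : σ ∈ (P : Subgroup G)) (hτ : τ ∈ (P : Subgroup G)) (hσo : orderOf σ = 2 ^ (n - 1)) (hτo : orderOf τ = 2) (hrel : τ * σ * τ⁻¹ = σ⁻¹) (hgen : Subgroup.closure ({σ, τ} : Set G) = (P : Subgroup G)) (hconj : IsConj (σ ^ (2 ^ (n - 2))) τ ∧ IsConj (σ ^ (2 ^ (n - 2))) (σ * τ)) (χ₁ : Cfsg.IrrCharacter G) (hχ₁ : χ₁ ∈ Cfsg.principalBlock M G) (h1 : (χ₁ : G → ℂ) ≠ (fun _ => 1)) (δ₁ : ℤ) (hδ₁ : δ₁ = 1 ∨ δ₁ = -1) (hval : ∀ l :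 ℕ, 0 < l → l < 2 ^ (n - 1) → (χ₁ : G → ℂ) (σ ^ l) = δ₁) : (Cfsg.charDegree (χ₁ : G → ℂ) : ℤ) ≠ δ₁ ∧ (Nat.card G : ℚ) * ((Cfsg.charDegree (χ₁ : G → ℂ) : ℚ) - δ₁) ^ 2 = 2 * (Cfsg.charDegree (χ₁ : G → ℂ) : ℚ) * ((Cfsg.charDegree (χ₁ : G → ℂ) : ℚ) + δ₁) * (Nat.card (Subgroup.centralizer ({σ ^ (2 ^ (n - 2))} : Set G)) : ℚ) ^ 3 * (1 / (Nat.card (Subgroup.centralizer ({σ ^ (2 ^ (n - 2)), τ} : Set G)) : ℚ) + 1 / (Nat.card (Subgroup.centralizer ({σ ^ (2 ^ (n - 2)), σ * τ} : Set G)) : ℚ)) ^ 2 := by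
  classical
  have : Fact (Nat.Prime 2) := ⟨Nat.prime_two⟩
  have : Fintype G := Fintype.ofFinite G
  have hctx : Ctx n P σ τ := ⟨hn, hσ, hτ, hσo, hτo, hrel, hgen, hconj⟩
  change (Cfsg.charDegree (χ₁ : G → ℂ) : ℤ) ≠ δ₁ ∧ (Nat.card G : ℚ) * ((Cfsg.charDegree (χ₁ : G → ℂ) : ℚ) - δ₁) ^ 2 = 2 * (Cfsg.charDegree (χ₁ : G → ℂ) : ℚ) * ((Cfsg.charDegree (χ₁ : G → ℂ) : ℚ) + δ₁) * (Nat.card (Subgroup.centralizer ({zz n σ} : Set G)) : ℚ) ^ 3 * (1 / (Nat.card (Subgroup.centralizer ({zz n σ, τ} : Set G)) : ℚ) + 1 / (Nat.card (Subgroup.centralizer ({zz n σ, σ * τ} : Set G)) : ℚ)) ^ 2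
  obtain ⟨hcardP, hPelts, hzcent, hzo, hτσ, hiso⟩ := Cfsg.Agent.Lib.Helper55.DihOrd.dih_facts hctx
  obtain ⟨hPC, hKn, hKodd, hCcard, hCprod, hKidx⟩ := Cfsg.Agent.Lib.Helper76.DihOrd.cz_facts hctx
  obtain ⟨hSidx, hKσ⟩ := Cfsg.Agent.Lib.Helper76.DihOrd.cs_facts hctx
  -- the root of unity
  have h2n : (2 : ℕ) ^ (n - 1) ≠ 0 := pow_ne_zero _ two_ne_zero
  set ζ : ℂ := Complex.exp (2 * Real.pi * Complex.I / ((2 ^ (n - 1) : ℕ) : ℂ)) with hζdef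
  have hζ : IsPrimitiveRoot ζ (2 ^ (n - 1)) := Complex.isPrimitiveRoot_exp _ h2n
  obtain ⟨-, c₁, c₂, c₃, c', e₁, e₂, e₃, he₁, he₂, he₃, hinj, hc1, hc2, hc3, h12, h13, h23, hc',
    hB, htab, hodd⟩ := Cfsg.Agent.S4481.result M hM n hn P hiso σ hσ hσo ζ hζ
  have hdeg : ∀ j : Fin (2 ^ (n - 2) - 1),
      1 + e₁ * (c₁ : G → ℂ) 1 = -e₂ * (c₂ : G → ℂ) 1 - e₃ * (c₃ : G → ℂ) 1 ∧
      1 + e₁ * (c₁ : G → ℂ) 1 = e₁ * (c' j : G → ℂ) 1 := by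
    intro j
    exact hodd 1 (by rw [orderOf_one]; exact odd_one) j
  obtain ⟨hfδ, hT⟩ := Cfsg.Agent.Lib.Helper14.DihOrd.table_sum (M := M) n hn σ ζ hζ c₁ c₂ c₃ c' e₁ e₂ e₃ he₁ he₂ he₃ hinj hc1 hc2
    hc3 h12 h13 h23 hc' hB htab hdeg χ₁ hχ₁ h1 δ₁ hδ₁ hval
  -- abbreviations
  set z := zz n σ with hz
  set C := Subgroup.centralizer ({z} : Set G) with hC
  set K := centralizerPPrimeCore 2 z with hK
  set f : ℂ := (charDegree (χ₁ : G → ℂ) : ℂ) with hf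
  set d : ℂ := (δ₁ : ℂ) with hd
  set c1 := Nat.card (Subgroup.centralizer ({z, τ} : Set G)) with hc1def
  set c2 := Nat.card (Subgroup.centralizer ({z, σ * τ} : Set G)) with hc2def
  -- the two evaluations
  have hzpow : ∃ k : ℕ, orderOf z = 2 ^ k := ⟨1, by rw [hzo, pow_one]⟩
  have hσpow : ∃ k : ℕ, orderOf σ = 2 ^ k := ⟨n - 1, hσo⟩
  have hEz := Cfsg.Agent.Lib.Helper77.DihOrdEval.eval_block_count hM z z hzpow ⟨n, hKidx⟩
  have hEs := Cfsg.Agent.Lib.Helper77.DihOrdEval.eval_block_count hM z σ hσpow ⟨n - 1, hSidx⟩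
  rw [Cfsg.Agent.Lib.Helper77.DihOrdCpc.sum_conjProdCount_eq] at hEz hEs
  -- involution pairs
  have hfilt : ∀ (u : G) (N : Subgroup G),
      (Finset.univ.filter (fun uv : G × G => IsConj z uv.1 ∧ IsConj z uv.2 ∧
        u⁻¹ * (uv.1 * uv.2) ∈ N)) =
      (Finset.univ.filter (fun uv : G × G => IsInvPair uv ∧ u⁻¹ * (uv.1 * uv.2) ∈ N)) := by
    intro u N
    apply Finset.filter_congr
    intro uv _
    rw [Cfsg.Agent.Lib.Helper55.DihOrd.isConj_zz_iff hctx, Cfsg.Agent.Lib.Helper55.DihOrd.isConj_zz_iff hctx]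
    unfold IsInvPair
    constructor
    · rintro ⟨⟨a1, a2⟩, ⟨a3, a4⟩, a5⟩
      exact ⟨⟨a1, a2, a3, a4⟩, a5⟩
    · rintro ⟨⟨a1, a2, a3, a4⟩, a5⟩
      exact ⟨⟨a1, a2⟩, ⟨a3, a4⟩, a5⟩
  rw [hfilt] at hEz hEs
  -- the local context
  have hloc : LocCtx n σ τ C K := by
    refine ⟨hn, hσo, hτo, hrel, rfl, hPC hσ, hPC hτ, ?_, hKn, hKodd, hCcard, ?_⟩
    · intro k hk
      obtain ⟨k', _, rfl⟩ := Subgroup.mem_map.mp hk
      exact k'.2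
    · intro g hg
      obtain ⟨k, hk, q, hq, rfl⟩ := hCprod g hg
      obtain ⟨i, hi | hi⟩ := hPelts q hq
      · exact ⟨k, hk, i, Or.inl (by rw [hi])⟩
      · exact ⟨k, hk, i, Or.inr (by rw [hi])⟩
  have hNz := Cfsg.Agent.Lib.Helper44.DihOrd.loc_count_z hloc
  have hNa := Cfsg.Agent.Lib.Helper44.DihOrd.loc_count_a hloc
  have hNe := Cfsg.Agent.Lib.Helper76.DihOrd.loc_equi hloc
  rw [hKσ] at hEs
  -- cast everything to ℂ
  set Nz := (Finset.univ.filter (fun uv : G × G => IsInvPair uv ∧ z⁻¹ * (uv.1 * uv.2) ∈ K)).card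
    with hNzdef
  set Na := (Finset.univ.filter (fun uv : G × G => IsInvPair uv ∧ σ⁻¹ * (uv.1 * uv.2) ∈ K)).card
    with hNadef
  set Ne := (Finset.univ.filter (fun uv : G × G => IsInvPair uv ∧
      σ⁻¹ * (uv.1 * uv.2) ∈ K ⊓ Subgroup.centralizer ({σ} : Set G))).card with hNedef
  set Tz := ∑ χ ∈ Finset.univ.filter (fun χ : IrrCharacter G => χ ∈ principalBlock M G),
        conj ((χ : G → ℂ) z * (χ : G → ℂ) z / (χ : G → ℂ) 1) * (χ : G → ℂ) z with hTz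
  set Ts := ∑ χ ∈ Finset.univ.filter (fun χ : IrrCharacter G => χ ∈ principalBlock M G),
        conj ((χ : G → ℂ) z * (χ : G → ℂ) z / (χ : G → ℂ) 1) * (χ : G → ℂ) σ with hTs
  have hKpos : (Nat.card K : ℂ) ≠ 0 := by exact_mod_cast (Nat.card_pos (α := K)).ne'
  have hKsσpos : (Nat.card ↥(K ⊓ Subgroup.centralizer ({σ} : Set G)) : ℂ) ≠ 0 := by
    exact_mod_cast (Nat.card_pos (α := ↥(K ⊓ Subgroup.centralizer ({σ} : Set G)))).ne'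
  have hc1pos : (c1 : ℂ) ≠ 0 := by
    exact_mod_cast (Nat.card_pos (α := Subgroup.centralizer ({z, τ} : Set G))).ne'
  have hc2pos : (c2 : ℂ) ≠ 0 := by
    exact_mod_cast (Nat.card_pos (α := Subgroup.centralizer ({z, σ * τ} : Set G))).ne'
  have hCpos : (Nat.card C : ℂ) ≠ 0 := by exact_mod_cast (Nat.card_pos (α := C)).ne'
  have hGpos : (Nat.card G : ℂ) ≠ 0 := by exact_mod_cast (Nat.card_pos (α := G)).ne'
  have hNz' : (Nz : ℂ) * ((c1 : ℂ) ^ 2 * (c2 : ℂ) ^ 2) =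
      4 * (Nat.card K : ℂ) * (Nat.card C : ℂ) * ((c1 : ℂ) ^ 2 + (c2 : ℂ) ^ 2) := by
    exact_mod_cast hNz
  have hNa' : (Na : ℂ) * ((c1 : ℂ) * (c2 : ℂ)) = 8 * (Nat.card K : ℂ) * (Nat.card C : ℂ) := by
    exact_mod_cast hNa
  have hNe' : (Ne : ℂ) * (Nat.card K : ℂ) =
      (Na : ℂ) * (Nat.card ↥(K ⊓ Subgroup.centralizer ({σ} : Set G)) : ℂ) := by
    exact_mod_cast hNe
  -- (I) and (III)
  have hI : (Nat.card G : ℂ) * Tz * ((c1 : ℂ) ^ 2 * (c2 : ℂ) ^ 2) =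
      4 * (Nat.card C : ℂ) ^ 3 * ((c1 : ℂ) ^ 2 + (c2 : ℂ) ^ 2) := by
    rw [hEz]
    field_simp
    linear_combination (Nat.card C : ℂ) ^ 2 * hNz'
  have hIII : (Nat.card G : ℂ) * Ts * ((c1 : ℂ) * (c2 : ℂ)) = 8 * (Nat.card C : ℂ) ^ 3 := by
    rw [hEs]
    have h3 : (Ne : ℂ) = (Na : ℂ) * (Nat.card ↥(K ⊓ Subgroup.centralizer ({σ} : Set G)) : ℂ) /
        (Nat.card K : ℂ) := by
      field_simp
      exact hNe'
    rw [h3]
    field_simp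
    linear_combination (Nat.card C : ℂ) ^ 2 * hNa'
  -- positivity of the degree
  have hfpos : 0 < charDegree (χ₁ : G → ℂ) := IsIrrCharacter.charDegree_pos χ₁.2
  have hf0 : f ≠ 0 := by
    rw [hf]; exact_mod_cast hfpos.ne'
  have hmain : (Nat.card G : ℂ) * (f - d) ^ 2 * ((c1 : ℂ) * (c2 : ℂ)) ^ 2 =
      2 * f * (f + d) * (Nat.card C : ℂ) ^ 3 * ((c1 : ℂ) + (c2 : ℂ)) ^ 2 := by
    have hT' : Tz + Ts = 2 * (f - d) ^ 2 / (f * (f + d)) := hT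
    have hsum : (Nat.card G : ℂ) * (Tz + Ts) * ((c1 : ℂ) ^ 2 * (c2 : ℂ) ^ 2) =
        4 * (Nat.card C : ℂ) ^ 3 * ((c1 : ℂ) + (c2 : ℂ)) ^ 2 := by
      linear_combination hI + (c1 : ℂ) * (c2 : ℂ) * hIII
    rw [hT'] at hsum
    field_simp at hsum
    linear_combination (1 / 2 : ℂ) * hsum
  have hc12pos : ((c1 : ℂ) + (c2 : ℂ)) ≠ 0 := by
    have h0 : 0 < c1 + c2 := by
      have := Nat.card_pos (α := Subgroup.centralizer ({z, τ} : Set G))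
      omega
    have : ((c1 + c2 : ℕ) : ℂ) ≠ 0 := by exact_mod_cast h0.ne'
    simpa using this
  constructor
  · intro heq
    have hfd : f - d = 0 := by
      rw [hf, hd]
      have : ((charDegree (χ₁ : G → ℂ) : ℤ) : ℂ) = ((δ₁ : ℤ) : ℂ) := by rw [heq]
      rw [sub_eq_zero]
      exact_mod_cast this
    rw [hfd] at hmain
    have hne : 2 * f * (f + d) * (Nat.card C : ℂ) ^ 3 * ((c1 : ℂ) + (c2 : ℂ)) ^ 2 ≠ 0 := by
      apply mul_ne_zero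
      · apply mul_ne_zero
        · apply mul_ne_zero
          · exact mul_ne_zero two_ne_zero hf0
          · exact hfδ
        · exact pow_ne_zero _ hCpos
      · exact pow_ne_zero _ hc12pos
    apply hne
    rw [← hmain]
    ring
  · have hc1q : (c1 : ℚ) ≠ 0 := by
      exact_mod_cast (Nat.card_pos (α := Subgroup.centralizer ({z, τ} : Set G))).ne'
    have hc2q : (c2 : ℚ) ≠ 0 := by
      exact_mod_cast (Nat.card_pos (α := Subgroup.centralizer ({z, σ * τ} : Set G))).ne'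
    have hQ : (Nat.card G : ℚ) * ((charDegree (χ₁ : G → ℂ) : ℚ) - δ₁) ^ 2 *
        ((c1 : ℚ) * (c2 : ℚ)) ^ 2 =
        2 * (charDegree (χ₁ : G → ℂ) : ℚ) * ((charDegree (χ₁ : G → ℂ) : ℚ) + δ₁) *
          (Nat.card C : ℚ) ^ 3 * ((c1 : ℚ) + (c2 : ℚ)) ^ 2 := by
      have hinj : Function.Injective ((↑) : ℚ → ℂ) := Rat.cast_injective
      apply hinj
      push_cast
      exact hmain
    field_simp
    linear_combination hQ

end Cfsg.Agent.S4482
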