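import Cfsg.Statements.S4490
import Cfsg.Agent.Lib.Helper78.BlockCount
import Cfsg.Agent.Lib.Helper82.BlockInflation
import Cfsg.Agent.Lib.Helper81.IrrTwist
import Cfsg.Agent.Lib.Helper16.Induced

set_option autoImplicit false
open Cfsg

namespace Cfsg.Agent.S4490

set_option linter.style.haveILetI false

open Cfsg.Agent.Lib.Helper16 Cfsg.Agent.Lib.Helper78 Cfsg.Agent.Lib.Helper82
open scoped ComplexConjugate

section Aux

variable {G : Type*} [Group G]

theorem centralizer_inv (g : G) :
    Subgroup.centralizer ({g⁻¹} : Set G) = Subgroup.centralizer ({g} : Set G) := by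
  ext x
  rw [Subgroup.mem_centralizer_singleton_iff, Subgroup.mem_centralizer_singleton_iff]
  constructor
  · intro h
    symm
    calc g * x = g * (x * g⁻¹) * g := by group
      _ = g * (g⁻¹ * x) * g := by rw [h]
      _ = x * g := by group
  · intro h
    symm
    calc g⁻¹ * x = g⁻¹ * (x * g) * g⁻¹ := by group
      _ = g⁻¹ * (g * x) * g⁻¹ := by rw [h]
      _ = x * g⁻¹ := by group

/-- the inverse class -/
noncomputable def cinv (c : ConjClasses G) : ConjClasses G := ConjClasses.mk (Quotient.out c)⁻¹

theorem isConj_out_mk (g : G) : IsConj (Quotient.out (ConjClasses.mk g)) g :=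
  ConjClasses.mk_eq_mk_iff_isConj.mp (Quotient.out_eq (ConjClasses.mk g))

theorem isConj_inv_inv {g h : G} (hc : IsConj g h) : IsConj g⁻¹ h⁻¹ := by
  obtain ⟨x, hx⟩ := isConj_iff.mp hc
  exact isConj_iff.mpr ⟨x, by rw [← hx]; group⟩

theorem cinv_mk (g : G) : cinv (ConjClasses.mk g) = ConjClasses.mk g⁻¹ := by
  unfold cinv
  exact ConjClasses.mk_eq_mk_iff_isConj.mpr (isConj_inv_inv (isConj_out_mk g))

theorem cinv_cinv (c : ConjClasses G) : cinv (cinv c) = c := by
  conv_lhs => rw [cinv, cinv]
  have := cinv_mk (Quotient.out c)⁻¹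
  unfold cinv at this
  rw [this, inv_inv]
  exact Quotient.out_eq c

theorem cinv_eq_one_iff (c : ConjClasses G) : cinv c = ConjClasses.mk 1 ↔ c = ConjClasses.mk 1 := by
  constructor
  · intro h
    have := congrArg cinv h
    rwa [cinv_cinv, cinv_mk, inv_one] at this
  · rintro rfl
    rw [cinv_mk, inv_one]

/-- a real class of odd size consisting of elements of odd order is trivial -/
theorem eq_one_of_real_odd [Fintype G] (g : G) (hreal : IsConj g g⁻¹) (hord : ¬ 2 ∣ orderOf g)
    (hidx : ¬ 2 ∣ (Subgroup.centralizer ({g} : Set G)).index) : g = 1 := by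
  classical
  -- the involution on the class
  let K := {x : G // x ∈ Cfsg.Agent.Lib.Helper79.conjFinset g}
  have hcardK : Fintype.card K = (Subgroup.centralizer ({g} : Set G)).index := by
    rw [Fintype.card_coe, Cfsg.Agent.Lib.Helper79.card_conjFinset]
  let σfun : K → K := fun x => ⟨x.1⁻¹, by
    have hx := Cfsg.Agent.Lib.Helper79.mem_conjFinset.mp x.2
    exact Cfsg.Agent.Lib.Helper79.mem_conjFinset.mpr (hreal.trans (isConj_inv_inv hx))⟩
  have hinv : Function.Involutive σfun := fun x => Subtype.ext (inv_inv x.1)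
  let σ : Equiv.Perm K := hinv.toPerm
  have hσ : σ ^ 2 ^ 1 = 1 := by
    ext x
    simp [σ, pow_two, hinv x]
  haveI : Fact (Nat.Prime 2) := ⟨Nat.prime_two⟩
  obtain ⟨x, hx⟩ := Equiv.Perm.exists_fixed_point_of_prime (p := 2) (n := 1)
    (by rw [hcardK]; exact hidx) hσ
  have hx1 : x.1⁻¹ = x.1 := congrArg Subtype.val hx
  have hxc : IsConj g x.1 := Cfsg.Agent.Lib.Helper79.mem_conjFinset.mp x.2
  have hx2 : x.1 ^ 2 = 1 := by
    rw [pow_two]
    nth_rewrite 1 [← hx1]
    exact inv_mul_cancel _
  have hox : orderOf x.1 = orderOf g := by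
    obtain ⟨c, hc⟩ := isConj_iff.mp hxc
    have hsc : SemiconjBy c g x.1 := by
      unfold SemiconjBy
      rw [← hc]; group
    exact (hsc.orderOf_eq c).symm
  have hd : orderOf x.1 ∣ 2 := orderOf_dvd_of_pow_eq_one hx2
  have hx1' : x.1 = 1 := by
    rcases (Nat.dvd_prime Nat.prime_two).mp hd with h | h
    · exact orderOf_eq_one_iff.mp h
    · exfalso; apply hord; rw [← hox, h]
  rw [hx1'] at hxc
  exact (isConj_one_left.mp hxc)

open Classical in
theorem key [Fintype G] {M : Ideal AlgInt} (hM : IsPModular 2 M) {B : Set (IrrCharacter G)}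
    (hB : IsPBlock M B) (hBreal : ∀ g, blockCoeff B g⁻¹ = blockCoeff B g) (χ : IrrCharacter G)
    (hχreal : ∀ g, MemLocalIdeal M (centralChar (χ : G → ℂ) g⁻¹ - centralChar (χ : G → ℂ) g))
    (hodd : ∀ g, ¬ MemLocalIdeal M (centralChar (χ : G → ℂ) g) →
      ¬ 2 ∣ (Subgroup.centralizer ({g} : Set G)).index) :
    MemLocalIdeal M (∑ c : ConjClasses G, blockCoeff B (Quotient.out c) *
      centralChar (χ : G → ℂ) (Quotient.out c) - blockCoeff B 1) := by
  classical
  haveI : Fact (Nat.Prime 2) := ⟨Nat.prime_two⟩
  haveI hMp := isPModular_isPrime hM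
  have hMtop : M ≠ ⊤ := hMp.ne_top
  let S := localSubring M
  let res := IsLocalRing.residue S
  have hωR : ∀ g : G, MemLocalRing M (centralChar (χ : G → ℂ) g) := fun g =>
    memLocalRing_of_isIntegral hMtop (Cfsg.Agent.Lib.Helper79.isIntegral_centralChar χ g)
  -- the function on group elements
  let F : G → ℂ := fun g => blockCoeff B g * centralChar (χ : G → ℂ) g
  have hFR : ∀ g, MemLocalRing M (F g) := fun g =>
    memLocalRing_mul (blockCoeff_memLocalRing hB g) (hωR g)
  have hFconj : ∀ g h : G, IsConj g h → F g = F h := by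
    intro g h hc
    obtain ⟨x, rfl⟩ := isConj_iff.mp hc
    show blockCoeff B g * _ = blockCoeff B (x * g * x⁻¹) * _
    rw [isClassFunction_blockCoeff B g x, centralChar_conj]
  let fS : ConjClasses G → S := fun c => ⟨F (Quotient.out c), hFR _⟩
  have hres_iff : ∀ z : S, res z = 0 ↔ MemLocalIdeal M (z : ℂ) := by
    intro z
    rw [IsLocalRing.residue_eq_zero_iff, maximalIdeal_localSubring, mem_localIdeal]
  have h2 : res (2 : S) = 0 := by
    rw [hres_iff]
    have := memLocalIdeal_p hM
    exact_mod_cast this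
  -- invariance under inversion modulo the ideal
  have hFinv : ∀ g : G, MemLocalIdeal M (F g⁻¹ - F g) := by
    intro g
    show MemLocalIdeal M (blockCoeff B g⁻¹ * _ - blockCoeff B g * _)
    rw [hBreal, ← mul_sub]
    exact memLocalIdeal_mul_left (blockCoeff_memLocalRing hB g) (hχreal g)
  have hres_cinv : ∀ c : ConjClasses G, res (fS (cinv c)) = res (fS c) := by
    intro c
    rw [← sub_eq_zero, ← map_sub, hres_iff]
    show MemLocalIdeal M (F (Quotient.out (cinv c)) - F (Quotient.out c))
    have : F (Quotient.out (cinv c)) = F (Quotient.out c)⁻¹ := hFconj _ _ (isConj_out_mk _)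
    rw [this]
    exact hFinv _
  have hsum0 : ∑ c ∈ Finset.univ.erase (ConjClasses.mk (1 : G)), res (fS c) = 0 := by
    apply Finset.sum_involution (fun c _ => cinv c)
    · intro c _
      rw [hres_cinv, ← two_mul, ← map_ofNat res 2, h2, zero_mul]
    · intro c hc hne heq
      have hc1 : c ≠ ConjClasses.mk 1 := (Finset.mem_erase.mp hc).1
      apply hc1
      set g := Quotient.out c with hg
      have hgc : ConjClasses.mk g = c := Quotient.out_eq c
      have hnot : ¬ MemLocalIdeal M (F g) := fun h => hne ((hres_iff _).mpr h)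
      have ha : ¬ MemLocalIdeal M (blockCoeff B g) := fun h =>
        hnot (memLocalIdeal_mul_right h (hωR g))
      have hw : ¬ MemLocalIdeal M (centralChar (χ : G → ℂ) g) := fun h =>
        hnot (memLocalIdeal_mul_left (blockCoeff_memLocalRing hB g) h)
      have hreg : ¬ 2 ∣ orderOf g := by
        intro hdiv
        apply ha
        rw [blockCoeff_eq_zero_of_pSingular hM hB g hdiv]
        exact memLocalIdeal_zero hMtop
      have hreal : IsConj g g⁻¹ := by
        have : cinv (ConjClasses.mk g) = ConjClasses.mk g := by rw [hgc]; exact heq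
        rw [cinv_mk] at this
        exact (ConjClasses.mk_eq_mk_iff_isConj.mp this).symm
      have := eq_one_of_real_odd g hreal hreg (hodd g hw)
      rw [← hgc, this]
    · intro c hc
      rw [Finset.mem_erase] at hc ⊢
      refine ⟨fun h => hc.1 ((cinv_eq_one_iff c).mp h), Finset.mem_univ _⟩
    · intro c _
      exact cinv_cinv c
  have hsum : res (∑ c : ConjClasses G, fS c) = res (fS (ConjClasses.mk 1)) := by
    rw [map_sum, ← Finset.add_sum_erase _ _ (Finset.mem_univ (ConjClasses.mk (1 : G))), hsum0,
      add_zero]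
  rw [← sub_eq_zero, ← map_sub, hres_iff] at hsum
  have e1 : ((∑ c : ConjClasses G, fS c - fS (ConjClasses.mk 1) : S) : ℂ) =
      ∑ c : ConjClasses G, blockCoeff B (Quotient.out c) *
      centralChar (χ : G → ℂ) (Quotient.out c) - blockCoeff B 1 := by
    have h1 : F (Quotient.out (ConjClasses.mk (1 : G))) = F 1 := hFconj _ _ (isConj_out_mk 1)
    have h2 : F 1 = blockCoeff B 1 := by
      show blockCoeff B 1 * centralChar (χ : G → ℂ) 1 = _
      have hne : (χ : G → ℂ) 1 ≠ 0 := IsIrrCharacter.apply_one_ne_zero χ.2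
      have : centralChar (χ : G → ℂ) 1 = 1 := by
        unfold centralChar
        have hc : Subgroup.centralizer ({1} : Set G) = ⊤ := by
          ext x; simp [Subgroup.mem_centralizer_singleton_iff]
        rw [hc, Subgroup.index_top, Nat.cast_one, one_mul, div_self hne]
      rw [this, mul_one]
    push_cast
    simp only [fS]
    rw [h1, h2]
  rw [e1] at hsum
  exact hsum

/-- The complex conjugate irreducible character. -/
noncomputable def cbar (χ : IrrCharacter G) : IrrCharacter G :=
  ⟨fun g => conj ((χ : G → ℂ) g), Cfsg.Agent.Lib.Helper81.isIrrCharacter_conj χ.2⟩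

theorem cbar_cbar (χ : IrrCharacter G) : cbar (cbar χ) = χ := by
  apply Subtype.ext
  funext g
  simp [cbar]

theorem apply_one_real [Finite G] (χ : IrrCharacter G) : conj ((χ : G → ℂ) 1) = (χ : G → ℂ) 1 := by
  rw [IsCharacter.apply_one_eq_charDegree (IsIrrCharacter.isCharacter χ.2)]
  exact Complex.conj_natCast _

theorem centralChar_cbar [Finite G] (χ : IrrCharacter G) (g : G) :
    centralChar (cbar χ : G → ℂ) g = centralChar (χ : G → ℂ) g⁻¹ := by
  unfold centralChar
  rw [centralizer_inv]
  show _ * conj ((χ : G → ℂ) g) / conj ((χ : G → ℂ) 1) = _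
  rw [apply_one_real, IsCharacter.inv (IsIrrCharacter.isCharacter χ.2)]

theorem blockCoeff_inv_of_real [Fintype G] (B : Set (IrrCharacter G))
    (hreal : ∀ χ ∈ B, cbar χ ∈ B) (g : G) : blockCoeff B g⁻¹ = blockCoeff B g := by
  classical
  rw [blockCoeff_eq_sum, blockCoeff_eq_sum]
  congr 1
  apply Finset.sum_nbij' cbar cbar
  · intro χ hχ
    rw [Finset.mem_filter] at hχ ⊢
    exact ⟨Finset.mem_univ _, hreal χ hχ.2⟩
  · intro χ hχ
    rw [Finset.mem_filter] at hχ ⊢
    exact ⟨Finset.mem_univ _, hreal χ hχ.2⟩
  · intro χ _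
    exact cbar_cbar χ
  · intro χ _
    exact cbar_cbar χ
  · intro χ _
    show _ = conj ((χ : G → ℂ) 1) * conj (conj ((χ : G → ℂ) g))
    rw [apply_one_real, IsCharacter.inv (IsIrrCharacter.isCharacter χ.2)]

end Aux

/-- Let G be a finite group and M a maximal ideal of the algebraic integers containing 2. Every 2-block B of G whose defect groups are the Sylow 2-subgroups of G (a block of full defect) and which is not the principal block is different from its complex-conjugate block, the block formed by the complex conjugates of the members of B. -/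
theorem result {G : Type*} [Group G] [Finite G] (M : Ideal Cfsg.AlgInt) (hM : Cfsg.IsPModular 2 M) (B : Set (Cfsg.IrrCharacter G)) (hB : Cfsg.IsPBlock M B) (P : Sylow 2 G) (hfull : Cfsg.IsDefectGroup 2 M B (P : Subgroup G)) (hnp : B ≠ Cfsg.principalBlock M G) : {ψ : Cfsg.IrrCharacter G | ∃ χ ∈ B, (ψ : G → ℂ) = fun g => (starRingEnd ℂ) ((χ : G → ℂ) g)} ≠ B := by
  classical
  haveI : Fintype G := Fintype.ofFinite G
  haveI : Fact (Nat.Prime 2) := ⟨Nat.prime_two⟩
  haveI hMp := isPModular_isPrime hM
  have hMtop : M ≠ ⊤ := hMp.ne_top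
  intro hconj
  -- `B` is closed under complex conjugation
  have hreal : ∀ χ ∈ B, cbar χ ∈ B := by
    intro χ hχ
    rw [← hconj]
    exact ⟨χ, hχ, rfl⟩
  have hBreal := blockCoeff_inv_of_real B hreal
  -- full defect
  have hdef : blockDefect 2 B = (Nat.card G).factorization 2 := by
    have h1 := card_defectGroup hM hB hfull
    have h2 : Nat.card (P : Subgroup G) = 2 ^ (Nat.card G).factorization 2 :=
      Sylow.card_eq_multiplicity P
    rw [h2] at h1
    exact (Nat.pow_right_injective (le_refl 2) h1).symm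
  -- a member of `B`
  obtain ⟨χ₁, hχ₁⟩ := IsPBlock_nonempty hMtop hB
  have hk1 := key hM hB hBreal χ₁
    (fun g => by
      rw [← centralChar_cbar]
      exact sameBlock_of_mem hB (hreal χ₁ hχ₁) hχ₁ g)
    (fun g hg => by
      have h1 := blockDefect_le_factorization_card_centralizer hM hB hχ₁ hg
      rw [hdef] at h1
      set C := Subgroup.centralizer ({g} : Set G) with hC
      have hmul : Nat.card C * C.index = Nat.card G := Subgroup.card_mul_index C
      have hC0 : Nat.card C ≠ 0 := Nat.card_pos.ne'
      have hidx0 : C.index ≠ 0 := Subgroup.index_ne_zero_of_finite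
      have hfac : (Nat.card G).factorization 2 =
          (Nat.card C).factorization 2 + C.index.factorization 2 := by
        rw [← hmul, Nat.factorization_mul hC0 hidx0]
        rfl
      have h0 : C.index.factorization 2 = 0 := by omega
      intro hdvd
      have := (Nat.Prime.dvd_iff_one_le_factorization Nat.prime_two hidx0).mp hdvd
      omega)
  rw [sum_conjClasses_blockCoeff_mul_centralChar B hχ₁] at hk1
  -- the principal character
  let χ₀ : IrrCharacter G := ⟨fun _ => 1, isIrrCharacter_one⟩
  have hχ₀ : χ₀ ∉ B := by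
    intro h
    apply hnp
    rw [IsPBlock_eq_blockOf hB h]
    rfl
  have hk0 := key hM hB hBreal χ₀
    (fun g => by
      have : centralChar (χ₀ : G → ℂ) g⁻¹ = centralChar (χ₀ : G → ℂ) g := by
        unfold centralChar
        rw [centralizer_inv]
      rw [this, sub_self]
      exact memLocalIdeal_zero hMtop)
    (fun g hg hdvd => by
      apply hg
      have : centralChar (χ₀ : G → ℂ) g =
          (((Subgroup.centralizer ({g} : Set G)).index : ℕ) : ℂ) := by
        unfold centralChar
        show _ * (1 : ℂ) / 1 = _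
        rw [mul_one, div_one]
      rw [this]
      exact (memLocalIdeal_natCast_iff hM _).mpr hdvd)
  rw [sum_conjClasses_blockCoeff_mul_centralChar_of_not_mem B hχ₀, zero_sub] at hk0
  -- contradiction
  have h1 : MemLocalIdeal M (1 : ℂ) := by
    have := memLocalIdeal_sub hk1 hk0
    have e : (1 : ℂ) - blockCoeff B 1 - -blockCoeff B 1 = 1 := by ring
    rwa [e] at this
  exact one_not_memLocalIdeal h1

end Cfsg.Agent.S4490
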