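import Cfsg.Statements.S4493
import Cfsg.Agent.Lib.Helper80.ItoMichler
import Cfsg.Agent.Lib.Helper75.Ito
import Cfsg.Agent.Lib.Helper72.SolvableNormal

set_option autoImplicit false
open Cfsg

namespace Cfsg.Agent.S4493

/-- Let G be a finite solvable group and p a prime. Then G has a normal abelian Sylow p-subgroup if and only if no irreducible character degree of G is divisible by p. -/
theorem result {G : Type*} [Group G] [Finite G] (hsolv : Group.IsSolvable G) (p : ℕ) (hp : p.Prime) : (∃ P : Subgroup G, P.Normal ∧ (∀ x ∈ P, ∀ y ∈ P, x * y = y * x) ∧ IsPGroup p P ∧ ¬ p ∣ P.index) ↔ ∀ χ : Cfsg.IrrCharacter G, ¬ p ∣ Cfsg.charDegree (χ : G → ℂ) := by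
  classical
  have hpF : Fact p.Prime := ⟨hp⟩
  let _ : Fintype G := Fintype.ofFinite G
  constructor
  · rintro ⟨P, hPn, hab, -, hidx⟩ χ hdvd
    exact hidx (dvd_trans hdvd (Cfsg.Agent.Lib.Helper75.ito P hab (χ : G → ℂ) χ.2))
  · intro h
    refine Cfsg.Agent.Lib.Helper80.ito_michler_aux p (fun H _ => Group.IsSolvable H)
      ?_ ?_ ?_ (Nat.card G) G rfl hsolv h
    · intro H _ _ N _ hH
      exact inferInstance
    · intro H _ _ K hH
      exact inferInstance
    · intro H _ _ _ hH
      obtain ⟨q, hq, K, hKn, hK1, hKq⟩ := Cfsg.Agent.Lib.Helper72.exists_normal_pgroup_of_solvable hH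
      refine ⟨K, hKn, hK1, ?_⟩
      by_cases hqp : q = p
      · left
        rw [← hqp]
        exact hKq
      · right
        have := Fact.mk hq
        obtain ⟨k, hk⟩ := IsPGroup.iff_card.mp hKq
        rw [hk]
        exact Nat.Coprime.pow_left k ((Nat.coprime_primes hq hp).mpr hqp)

end Cfsg.Agent.S4493
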