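import Cfsg.Statements.S4495
import Cfsg.Agent.Lib.Helper75.SelfCent
-- import your own Cfsg.Agent.* helpers here

set_option autoImplicit false
open Cfsg

namespace Cfsg.Agent.S4495

/-- Let the finite group G contain an element x of prime order p with C_G(x) = ⟨x⟩, and let t be the number of conjugacy classes of elements of order p. If t ≠ p − 1 then the commutator subgroup has index at most (p − 1)/t; if t = p − 1 it has index exactly p. -/
theorem result {G : Type*} [Group G] [Finite G] (p : ℕ) (hp : p.Prime) (x : G) (hx : orderOf x = p) (hC : Subgroup.centralizer ({x} : Set G) = Subgroup.zpowers x) (t : ℕ) (ht : Nat.card {C : ConjClasses G // ∃ g ∈ C.carrier, orderOf g = p} = t) : (t ≠ p - 1 → (commutator G).index * t ≤ p - 1) ∧ (t = p - 1 → (commutator G).index = p) := by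
  have : Fact p.Prime := ⟨hp⟩
  have hte : t * Cfsg.Agent.Lib.Helper75.scE x = p - 1 := by
    rw [← ht]; exact Cfsg.Agent.Lib.Helper75.sc_card_classes_mul hx hC
  have hp1 : 0 < p - 1 := by have := hp.two_le; omega
  constructor
  · intro hne
    have he : Cfsg.Agent.Lib.Helper75.scE x ≠ 1 := by
      intro h; rw [h, mul_one] at hte; exact hne hte
    have hxG : x ∈ commutator G := by
      by_contra h
      exact he (Cfsg.Agent.Lib.Helper75.scE_eq_one_of_not_mem hx hC h)
    have hdvd := Cfsg.Agent.Lib.Helper75.sc_index_dvd_of_mem hx hC (commutator G) hxG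
    have hle : (commutator G).index ≤ Cfsg.Agent.Lib.Helper75.scE x :=
      Nat.le_of_dvd (Cfsg.Agent.Lib.Helper75.scE_pos x) hdvd
    calc (commutator G).index * t ≤ Cfsg.Agent.Lib.Helper75.scE x * t := Nat.mul_le_mul_right t hle
      _ = p - 1 := by rw [mul_comm]; exact hte
  · intro heq
    have he : Cfsg.Agent.Lib.Helper75.scE x = 1 := by
      rw [heq] at hte
      have : (p - 1) * Cfsg.Agent.Lib.Helper75.scE x = (p - 1) * 1 := by rw [hte, mul_one]
      exact Nat.eq_of_mul_eq_mul_left hp1 this
    exact (Cfsg.Agent.Lib.Helper75.sc_commutator_of_scE_eq_one hx hC he).1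

end Cfsg.Agent.S4495
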