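import Cfsg.Statements.S4499
import Cfsg.Agent.S4426
import Cfsg.Agent.Lib.Helper26.IrrFacts

set_option autoImplicit false
open Cfsg
open Cfsg.Agent.Lib.Helper79 Cfsg.Agent.Lib.Helper16 Cfsg.Agent.Lib.Helper78
open scoped ComplexConjugate

namespace Cfsg.Agent.S4499

/-- Let G be a finite group whose order has p-part p^a (a ≥ 1), and fix a maximal ideal M of the algebraic integers containing p. If the degree of one irreducible character of a p-block B is divisible by p^(a−1), then the degree of every irreducible character in B is divisible by p^(a−1) (so B has defect at most 1). -/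
theorem result {G : Type*} [Group G] [Finite G] (p : ℕ) [Fact p.Prime] (M : Ideal Cfsg.AlgInt) (hM : Cfsg.IsPModular p M) (hpa : p ∣ Nat.card G) (B : Set (Cfsg.IrrCharacter G)) (hB : Cfsg.IsPBlock M B) (χ : Cfsg.IrrCharacter G) (hχ : χ ∈ B) (hdiv : p ^ ((Nat.card G).factorization p - 1) ∣ Cfsg.charDegree (χ : G → ℂ)) (ψ : Cfsg.IrrCharacter G) (hψ : ψ ∈ B) : p ^ ((Nat.card G).factorization p - 1) ∣ Cfsg.charDegree (ψ : G → ℂ) := by
  classical
  have : Fintype G := Fintype.ofFinite G
  have hp : p.Prime := Fact.out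
  set a := (Nat.card G).factorization p with ha
  set b := (charDegree (χ : G → ℂ)).factorization p with hb
  have hχpos : 0 < charDegree (χ : G → ℂ) := irr_charDegree_pos χ
  have hab : a - 1 ≤ b := (Nat.Prime.pow_dvd_iff_le_factorization hp hχpos.ne').mp hdiv
  have hba : b ≤ a := by
    have h1 := irr_charDegree_dvd_card χ
    exact (Nat.factorization_le_iff_dvd hχpos.ne' Nat.card_pos.ne').mpr h1 p
  have htld : (fun x : G => if p ∣ orderOf x then (0 : ℂ) else
      ((p ^ (Nat.card G).factorization p : ℕ) : ℂ) * (χ : G → ℂ) x) = tld p (χ : G → ℂ) := rfl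
  -- integer coefficients
  obtain ⟨c, hcB, hsum⟩ := Cfsg.Agent.S4424.result p M hM B hB χ hχ
  rw [htld] at hsum
  have hsum' : tld p (χ : G → ℂ) =
      fun x => ∑ ψ : IrrCharacter G, (c ψ : ℂ) * (ψ : G → ℂ) x := by
    rw [hsum]
    funext x
    exact finsum_eq_sum_of_fintype _
  have hc : classInner (tld p (χ : G → ℂ)) (χ : G → ℂ) = (c χ : ℂ) := by
    rw [hsum', classInner_sum_int]
  set n : ℤ := c χ with hn
  have hdvd : ((p : ℤ) ^ b) ∣ n := by
    have h := Cfsg.Agent.Lib.Helper74.pow_factorization_dvd_classInner_pReg hp χ χ n hc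
    simpa using h
  -- the real sums
  set R : ℝ := ∑ g : G, if p ∣ orderOf g then (0 : ℝ) else Complex.normSq ((χ : G → ℂ) g) with hR
  set T : ℝ := ∑ g : G, Complex.normSq ((χ : G → ℂ) g) with hT
  have hcardpos : (0 : ℝ) < (Nat.card G : ℝ) := by exact_mod_cast Nat.card_pos
  have hTeq : T = (Nat.card G : ℝ) := by
    have h1 := classInner_irr_self χ.2
    unfold classInner at h1
    have h2 : (∑ g : G, (χ : G → ℂ) g * conj ((χ : G → ℂ) g)) = ((T : ℝ) : ℂ) := by
      rw [hT]
      push_cast
      apply Finset.sum_congr rfl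
      intro g _
      rw [Complex.mul_conj]
    rw [h2] at h1
    have hne : (Nat.card G : ℂ) ≠ 0 := by exact_mod_cast Nat.card_pos.ne'
    have h3 : ((T : ℝ) : ℂ) = (Nat.card G : ℂ) := by
      field_simp at h1
      exact h1
    exact_mod_cast h3
  have hneq : (n : ℝ) * (Nat.card G : ℝ) = (p : ℝ) ^ a * R := by
    have h1 := hc
    unfold classInner at h1
    have h2 : (∑ g : G, tld p (χ : G → ℂ) g * conj ((χ : G → ℂ) g)) =
        (((p : ℝ) ^ a * R : ℝ) : ℂ) := by
      rw [hR, Finset.mul_sum]
      push_cast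
      apply Finset.sum_congr rfl
      intro g _
      unfold tld
      split_ifs
      · simp
      · rw [mul_assoc, Complex.mul_conj]
        push_cast
        rfl
    rw [h2] at h1
    have hne : (Nat.card G : ℂ) ≠ 0 := by exact_mod_cast Nat.card_pos.ne'
    have h3 : (((p : ℝ) ^ a * R : ℝ) : ℂ) = ((n : ℝ) : ℂ) * (Nat.card G : ℂ) := by
      push_cast
      push_cast at h1
      field_simp at h1
      rw [h1, mul_comm]
    have h4 : (((p : ℝ) ^ a * R : ℝ) : ℂ) = (((n : ℝ) * (Nat.card G : ℝ) : ℝ) : ℂ) := by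
      rw [h3]; push_cast; rfl
    exact_mod_cast h4.symm
  have hRle : R ≤ T := by
    rw [hR, hT]
    apply Finset.sum_le_sum
    intro g _
    split_ifs
    · exact Complex.normSq_nonneg _
    · exact le_refl _
  have hRpos : 0 < R := by
    rw [hR]
    have h1 : (0 : ℝ) < (if p ∣ orderOf (1 : G) then (0 : ℝ) else Complex.normSq ((χ : G → ℂ) 1)) := by
      rw [if_neg (by rw [orderOf_one]; exact hp.one_lt.ne' ∘ Nat.dvd_one.mp)]
      rw [Complex.normSq_pos, irr_apply_one_eq_charDegree]
      exact_mod_cast hχpos.ne'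
    refine lt_of_lt_of_le h1 ?_
    apply Finset.single_le_sum (f := fun g : G => if p ∣ orderOf g then (0 : ℝ) else
      Complex.normSq ((χ : G → ℂ) g)) _ (Finset.mem_univ (1 : G))
    intro g _
    show (0 : ℝ) ≤ if p ∣ orderOf g then (0 : ℝ) else Complex.normSq ((χ : G → ℂ) g)
    split_ifs
    · exact le_refl _
    · exact Complex.normSq_nonneg _
  have hppos : (0 : ℝ) < (p : ℝ) ^ a := by
    have : (0 : ℝ) < (p : ℝ) := by exact_mod_cast hp.pos
    positivity
  have hnpos : 0 < n := by
    have h1 : (0 : ℝ) < (n : ℝ) * (Nat.card G : ℝ) := by rw [hneq]; positivity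
    have h2 : (0 : ℝ) < (n : ℝ) := by
      by_contra hcon
      push Not at hcon
      have : (n : ℝ) * (Nat.card G : ℝ) ≤ 0 := mul_nonpos_of_nonpos_of_nonneg hcon hcardpos.le
      linarith
    exact_mod_cast h2
  have hnle : n ≤ (p : ℤ) ^ a := by
    have h1 : (n : ℝ) * (Nat.card G : ℝ) ≤ (p : ℝ) ^ a * (Nat.card G : ℝ) := by
      rw [hneq, ← hTeq]
      exact mul_le_mul_of_nonneg_left hRle hppos.le
    have h2 : (n : ℝ) ≤ (p : ℝ) ^ a := le_of_mul_le_mul_right h1 hcardpos
    exact_mod_cast h2
  have hvanish : n = (p : ℤ) ^ a → ∀ g : G, p ∣ orderOf g → (χ : G → ℂ) g = 0 := by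
    intro hnp g hg
    have h1 : R = T := by
      have h2 : (p : ℝ) ^ a * R = (p : ℝ) ^ a * T := by
        rw [← hneq, hTeq, hnp]
        push_cast
        rfl
      exact mul_left_cancel₀ hppos.ne' h2
    by_contra hne
    have hlt : R < T := by
      rw [hR, hT]
      apply Finset.sum_lt_sum
      · intro g _
        split_ifs
        · exact Complex.normSq_nonneg _
        · exact le_refl _
      · refine ⟨g, Finset.mem_univ g, ?_⟩
        rw [if_pos hg]
        exact Complex.normSq_pos.mpr hne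
    linarith
  -- the exact valuation
  have hnot : ¬ ((p : ℤ) ^ (b + 1)) ∣ n := by
    intro hdvd1
    have hle1 : (p : ℤ) ^ (b + 1) ≤ n := Int.le_of_dvd hnpos hdvd1
    have hle2 : (p : ℤ) ^ (b + 1) ≤ (p : ℤ) ^ a := le_trans hle1 hnle
    have hba1 : b + 1 ≤ a := by
      have h1 : (p : ℤ) ^ (b + 1) ≤ (p : ℤ) ^ a := hle2
      have h2 : p ^ (b + 1) ≤ p ^ a := by exact_mod_cast h1
      exact (Nat.pow_le_pow_iff_right hp.one_lt).mp h2
    have hba2 : b + 1 = a := by omega
    rw [hba2] at hdvd1
    have hnp : n = (p : ℤ) ^ a := by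
      obtain ⟨k, hk⟩ := hdvd1
      have hk1 : 0 < k := by
        by_contra hcon
        push Not at hcon
        have : (p : ℤ) ^ a * k ≤ 0 := by
          apply mul_nonpos_of_nonneg_of_nonpos _ hcon
          positivity
        omega
      have hk2 : k ≤ 1 := by
        by_contra hcon
        push Not at hcon
        have hpp : (0 : ℤ) < (p : ℤ) ^ a := by
          have : (0 : ℤ) < (p : ℤ) := by exact_mod_cast hp.pos
          positivity
        have : (p : ℤ) ^ a * 2 ≤ (p : ℤ) ^ a * k := by
          apply mul_le_mul_of_nonneg_left _ hpp.le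
          omega
        omega
      have hk3 : k = 1 := by omega
      rw [hk, hk3, mul_one]
    have hv := hvanish hnp
    apply (Cfsg.Agent.S4425.result p χ).2
    have hfun : (fun x : G => if p ∣ orderOf x then (0 : ℂ) else
        ((p ^ (Nat.card G).factorization p : ℕ) : ℂ) /
          ((p ^ ((Cfsg.charDegree (χ : G → ℂ)).factorization p + 1) : ℕ) : ℂ) *
          (χ : G → ℂ) x) = (χ : G → ℂ) := by
      funext x
      split_ifs with hx
      · exact (hv x hx).symm
      · rw [← hb, hba2, ← ha]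
        have hpc : ((p ^ a : ℕ) : ℂ) ≠ 0 := by
          exact_mod_cast (pow_pos hp.pos a).ne'
        rw [div_self hpc, one_mul]
    rw [hfun]
    exact Cfsg.Agent.Lib.Helper26.isGeneralizedCharacter_of_isCharacter
      (Cfsg.Agent.Lib.Helper80.isCharacter_of_isIrr χ.2)
  obtain ⟨hn0, hval⟩ := (ne_zero_and_padicValInt_eq_iff p b n hdvd).mpr hnot
  -- height zero
  have hh : blockHeight p B (χ : G → ℂ) = 0 := by
    apply (Cfsg.Agent.S4426.result p M hM B hB χ hχ).1.mpr
    refine ⟨χ, hχ, n, ?_, hn0, hval⟩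
    rw [htld]
    convert hc
  unfold blockHeight at hh
  have hle : b ≤ sInf ((fun ψ : IrrCharacter G => (charDegree (ψ : G → ℂ)).factorization p) '' B) :=
    Nat.sub_eq_zero_iff_le.mp hh
  have hle2 : sInf ((fun ψ : IrrCharacter G => (charDegree (ψ : G → ℂ)).factorization p) '' B) ≤
      (charDegree (ψ : G → ℂ)).factorization p := Nat.sInf_le ⟨ψ, hψ, rfl⟩
  have hψpos : 0 < charDegree (ψ : G → ℂ) := irr_charDegree_pos ψ
  apply (Nat.Prime.pow_dvd_iff_le_factorization hp hψpos.ne').mpr
  omega

end Cfsg.Agent.S4499
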