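import Cfsg.Statements.S4506
import Cfsg.Agent.Lib.Helper76.PConjCore

set_option autoImplicit false
open Cfsg

namespace Cfsg.Agent.S4506

/-- Let G be a finite group, p a prime, p^a the p-part of the order of G and g′ its p′-part. Call two irreducible characters p-conjugate when one is obtained from the other by applying a field automorphism of ℂ that fixes the g′-th roots of unity, and let r be the number of characters p-conjugate to the irreducible character χ (χ included). Then the exponent of p in r·χ(1) is at most a; and if p^a divides r·χ(1) then p^a already divides χ(1). -/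
theorem result {G : Type*} [Group G] [Finite G] (p : ℕ) (hp : p.Prime) (χ : Cfsg.IrrCharacter G) (r : ℕ) (hr : Nat.card {ψ : Cfsg.IrrCharacter G // ∃ σ : ℂ ≃+* ℂ, σ (Complex.exp (2 * Real.pi * Complex.I / ((Nat.card G / p ^ (Nat.card G).factorization p) : ℕ))) = Complex.exp (2 * Real.pi * Complex.I / ((Nat.card G / p ^ (Nat.card G).factorization p) : ℕ)) ∧ (ψ : G → ℂ) = fun g => σ ((χ : G → ℂ) g)} = r) : (r * Cfsg.charDegree (χ : G → ℂ)).factorization p ≤ (Nat.card G).factorization p ∧ (p ^ (Nat.card G).factorization p ∣ r * Cfsg.charDegree (χ : G → ℂ) → p ^ (Nat.card G).factorization p ∣ Cfsg.charDegree (χ : G → ℂ)) := by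
  classical
  haveI : Fintype G := Fintype.ofFinite G
  haveI : Fintype (Cfsg.IrrCharacter G) := Fintype.ofFinite _
  set g' := Nat.card G / p ^ (Nat.card G).factorization p with hg'
  have hqdvd : p ^ (Nat.card G).factorization p ∣ Nat.card G := Nat.ordProj_dvd _ _
  have hcard : Nat.card G = g' * p ^ (Nat.card G).factorization p :=
    (Nat.div_mul_cancel hqdvd).symm
  have hg'pos : 0 < g' := by
    rcases Nat.eq_zero_or_pos g' with h | h
    · rw [h, zero_mul] at hcard
      exact absurd hcard (Nat.card_pos (α := G)).ne'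
    · exact h
  let O : Finset (Cfsg.IrrCharacter G) := Finset.univ.filter fun ψ =>
    ∃ σ : ℂ ≃+* ℂ, σ (Complex.exp (2 * Real.pi * Complex.I / (g' : ℕ))) =
      Complex.exp (2 * Real.pi * Complex.I / (g' : ℕ)) ∧
      (ψ : G → ℂ) = fun g => σ ((χ : G → ℂ) g)
  have hOcard : O.card = r := by
    rw [← hr, Nat.card_eq_fintype_card, Fintype.card_subtype]
  have hχO : χ ∈ O := by
    rw [Finset.mem_filter]
    exact ⟨Finset.mem_univ _, RingEquiv.refl ℂ, rfl, rfl⟩
  have hO : ∀ ψ ∈ O, ∀ x : G, ¬ p ∣ orderOf x → (ψ : G → ℂ) x = (χ : G → ℂ) x := by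
    intro ψ hψ x hx
    rw [Finset.mem_filter] at hψ
    obtain ⟨_, σ, hσ, hψσ⟩ := hψ
    rw [hψσ]
    obtain ⟨n, ρ, _, hρ⟩ := χ.2
    rw [← hρ]
    apply Cfsg.Agent.Lib.Helper76.ringEquiv_apply_character_eq ρ g' hg'pos σ hσ x
    have h1 : orderOf x ∣ g' * p ^ (Nat.card G).factorization p := hcard ▸ orderOf_dvd_natCard x
    have h2 : Nat.Coprime (orderOf x) (p ^ (Nat.card G).factorization p) :=
      Nat.Coprime.pow_right _ ((Nat.Prime.coprime_iff_not_dvd hp).mpr hx).symm
    exact orderOf_dvd_iff_pow_eq_one.mp (h2.dvd_of_dvd_mul_right h1)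
  have hσ' : ∀ ψ ∈ O, ∃ σ : ℂ ≃+* ℂ, ∀ x, (ψ : G → ℂ) x = σ ((χ : G → ℂ) x) := by
    intro ψ hψ
    rw [Finset.mem_filter] at hψ
    obtain ⟨_, σ, _, hψσ⟩ := hψ
    exact ⟨σ, fun x => congrFun hψσ x⟩
  have := Cfsg.Agent.Lib.Helper76.pconj_core hp χ O hχO hO hσ'
  rw [hOcard] at this
  exact this

end Cfsg.Agent.S4506
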