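import Cfsg.Statements.S4508
-- import your own Cfsg.Agent.* helpers here
import Cfsg.Agent.Lib.Helper71.SCGroup
import Cfsg.Agent.Lib.Helper71.SCCount
import Cfsg.Agent.Lib.Helper71.SCGen
import Cfsg.Agent.Lib.Helper71.SCDet
import Cfsg.Agent.Lib.Helper71.SCTwo
import Cfsg.Agent.Lib.Helper71.SCVanish

set_option autoImplicit false
open Cfsg

namespace Cfsg.Agent.S4508

open Cfsg.Agent.Lib.Helper71 Cfsg.Agent.Lib.Helper78

/-- Let the finite group G contain an element x of prime order p with C_G(x) = ⟨x⟩, and let t be the number of conjugacy classes of elements of order p. If G has an irreducible character of degree p − 1, then t is even or the commutator subgroup has even index. -/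
theorem result {G : Type*} [Group G] [Finite G] (p : ℕ) (hp : p.Prime) (x : G) (hx : orderOf x = p) (hC : Subgroup.centralizer ({x} : Set G) = Subgroup.zpowers x) (t : ℕ) (ht : Nat.card {C : ConjClasses G // ∃ g ∈ C.carrier, orderOf g = p} = t) (χ : Cfsg.IrrCharacter G) (hχ : Cfsg.charDegree (χ : G → ℂ) + 1 = p) : Even t ∨ Even (commutator G).index := by
  classical
  haveI : Fact p.Prime := ⟨hp⟩
  letI : Fintype G := Fintype.ofFinite G
  by_cases hpar : Even t
  · exact Or.inl hpar
  right
  rw [Nat.not_even_iff_odd] at hpar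
  by_cases hp2 : p = 2
  · subst hp2
    exact scp_two_even_index hx hC
  have hp3 : 3 ≤ p := by
    have := hp.two_le
    omega
  -- the counting identity
  have hcount : t * ((Subgroup.zpowers x).subgroupOf
      (Subgroup.normalizer ((Subgroup.zpowers x : Subgroup G) : Set G))).index = p - 1 := by
    rw [← ht]
    exact scp_count hx hC
  set e := ((Subgroup.zpowers x).subgroupOf
      (Subgroup.normalizer ((Subgroup.zpowers x : Subgroup G) : Set G))).index with he
  have hpodd : Odd p := hp.odd_of_ne_two hp2
  have heven : Even e := by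
    have h1 : Even (t * e) := by
      rw [hcount]
      obtain ⟨m, hm⟩ := hpodd
      exact ⟨m, by omega⟩
    rcases Nat.even_mul.mp h1 with h | h
    · exact absurd h (Nat.not_even_iff_odd.mpr hpar)
    · exact h
  have he0 : e ≠ 0 := by
    intro h
    rw [h, mul_zero] at hcount
    omega
  have he2 : 2 ≤ e := by
    obtain ⟨m, hm⟩ := heven
    omega
  -- the T.I. set-up
  have hTI := scp_TI hp hx
  have hCK := scp_centralizer_le hp hx hC
  have hab := scp_comm (x := x)
  have hcard : Nat.card (Subgroup.zpowers x) = p := by rw [Nat.card_zpowers, hx]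
  have hlt : Subgroup.zpowers x <
      Subgroup.normalizer ((Subgroup.zpowers x : Subgroup G) : Set G) := by
    apply lt_of_le_of_ne Subgroup.le_normalizer
    intro h
    have h1 : ((Subgroup.zpowers x).subgroupOf
      (Subgroup.normalizer ((Subgroup.zpowers x : Subgroup G) : Set G))) = ⊤ := by
      rw [Subgroup.subgroupOf_eq_top]
      exact h.symm.le
    rw [he, h1, Subgroup.index_top] at he2
    omega
  -- the element `y`
  obtain ⟨y, hyN, hy⟩ := scp_exists_generator hx hC
  have hord : orderOf y = e := scp_orderOf_generator hp hx hC he2 hy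
  haveI : Fintype ↥(Subgroup.normalizer ((Subgroup.zpowers x : Subgroup G) : Set G)) :=
    Fintype.ofFinite _
  have hvan : ∀ j : ℕ, ¬ e ∣ j → (χ : G → ℂ) (y ^ j) = 0 := by
    intro j hj
    have hyj : y ^ j ∉ Subgroup.zpowers x := fun h => hj ((hy j).mp h)
    exact scm_vanish hTI hlt hCK hab hp3 hcard χ.2 hχ ⟨y ^ j, Subgroup.pow_mem _ hyN j⟩ hyj
  have hdeg : (χ : G → ℂ) 1 = ((t * e : ℕ) : ℂ) := by
    rw [IsCharacter.apply_one_eq_charDegree (IsIrrCharacter.isCharacter χ.2), hcount]
    congr 1
    omega
  have hdet := scd_detChar_eq_neg_one (IsIrrCharacter.isCharacter χ.2) y e t heven hpar hord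
    hdeg hvan
  exact scd_even_index (IsIrrCharacter.isCharacter χ.2) y hdet

end Cfsg.Agent.S4508
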