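import Cfsg.Statements.S4509
import Cfsg.Agent.Lib.Helper75.SelfCent3

set_option autoImplicit false
open Cfsg

namespace Cfsg.Agent.S4509

/-- Let the finite group G contain an element x of prime order p with C_G(x) = ⟨x⟩; let t be the number of conjugacy classes of elements of order p and 1 + n·p the number of subgroups of order p. Then G has a normal subgroup of order 1 + n·p if and only if either t = p − 1, or t < p − 1 and G″ ≠ G′. Moreover, if t = p − 1 then G′ has order 1 + n·p and G/G′ is cyclic of order p; and if t < p − 1 and G″ ≠ G′ then G″ has order 1 + n·p and G′ has order p·(1 + n·p). -/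
theorem result {G : Type*} [Group G] [Finite G] (p : ℕ) (hp : p.Prime) (x : G) (hx : orderOf x = p) (hC : Subgroup.centralizer ({x} : Set G) = Subgroup.zpowers x) (t : ℕ) (ht : Nat.card {C : ConjClasses G // ∃ g ∈ C.carrier, orderOf g = p} = t) (n : ℕ) (hn : Nat.card {H : Subgroup G // Nat.card H = p} = 1 + n * p) : ((∃ S : Subgroup G, S.Normal ∧ Nat.card S = 1 + n * p) ↔ (t = p - 1 ∨ (t < p - 1 ∧ derivedSeries G 2 ≠ derivedSeries G 1))) ∧ (t = p - 1 → Nat.card (commutator G) = 1 + n * p ∧ IsCyclic (G ⧸ commutator G) ∧ (commutator G).index = p) ∧ (t < p - 1 → derivedSeries G 2 ≠ derivedSeries G 1 → Nat.card (derivedSeries G 2) = 1 + n * p ∧ Nat.card (commutator G) = p * (1 + n * p)) := by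
  have : Fact p.Prime := ⟨hp⟩
  have hte : t * Cfsg.Agent.Lib.Helper75.scE x = p - 1 := by
    rw [← ht]; exact Cfsg.Agent.Lib.Helper75.sc_card_classes_mul hx hC
  have hp1 : 0 < p - 1 := by have := hp.two_le; omega
  have hν : (Cfsg.Agent.Lib.Helper75.scN x).index = 1 + n * p := by
    rw [← hn]; exact (Cfsg.Agent.Lib.Helper75.sc_card_subgroups hx hC).symm
  have hepos := Cfsg.Agent.Lib.Helper75.scE_pos x
  -- t = p - 1 ↔ e = 1
  have he_of_t : t = p - 1 → Cfsg.Agent.Lib.Helper75.scE x = 1 := by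
    intro heq
    rw [heq] at hte
    have : (p - 1) * Cfsg.Agent.Lib.Helper75.scE x = (p - 1) * 1 := by rw [hte, mul_one]
    exact Nat.eq_of_mul_eq_mul_left hp1 this
  have he_of_lt : t < p - 1 → Cfsg.Agent.Lib.Helper75.scE x ≠ 1 := by
    intro hlt h'
    rw [h', mul_one] at hte
    omega
  have ht_of_e : Cfsg.Agent.Lib.Helper75.scE x = 1 → t = p - 1 := by
    intro h'; rw [h', mul_one] at hte; exact hte
  have hlt_of_e : Cfsg.Agent.Lib.Helper75.scE x ≠ 1 → t < p - 1 := by
    intro h'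
    have h2 : 2 ≤ Cfsg.Agent.Lib.Helper75.scE x := by omega
    have htpos : 0 < t := by
      rcases Nat.eq_zero_or_pos t with h0 | h0
      · rw [h0, zero_mul] at hte; omega
      · exact h0
    nlinarith
  have hndvd : ¬ p ∣ 1 + n * p := by
    intro h
    have h1 : p ∣ 1 := (Nat.dvd_add_left (Dvd.intro_left n rfl)).mp h
    exact hp.one_lt.ne' (Nat.dvd_one.mp h1)
  refine ⟨⟨?_, ?_⟩, ?_, ?_⟩
  · rintro ⟨S, hSn, hScard⟩
    by_cases he : Cfsg.Agent.Lib.Helper75.scE x = 1
    · exact Or.inl (ht_of_e he)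
    · right
      refine ⟨hlt_of_e he, ?_⟩
      have hS : ¬ p ∣ Nat.card S := by rw [hScard]; exact hndvd
      exact Cfsg.Agent.Lib.Helper75.sc_caseA hx hC he S hS (by rw [hScard, hν])
  · rintro (heq | ⟨hlt, hne⟩)
    · refine ⟨commutator G, inferInstance, ?_⟩
      rw [(Cfsg.Agent.Lib.Helper75.sc_caseB hx hC (he_of_t heq)).1, hν]
    · refine ⟨derivedSeries G 2, derivedSeries_normal G 2, ?_⟩
      rw [(Cfsg.Agent.Lib.Helper75.sc_caseC hx hC (he_of_lt hlt) hne).1, hν]
  · intro heq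
    obtain ⟨h1, h2, h3⟩ := Cfsg.Agent.Lib.Helper75.sc_caseB hx hC (he_of_t heq)
    exact ⟨by rw [h1, hν], h2, h3⟩
  · intro hlt hne
    obtain ⟨h1, h2⟩ := Cfsg.Agent.Lib.Helper75.sc_caseC hx hC (he_of_lt hlt) hne
    exact ⟨by rw [h1, hν], by rw [h2, hν]⟩

end Cfsg.Agent.S4509
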