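import Cfsg.Statements.S4512
import Cfsg.Agent.S0947
import Cfsg.Agent.S0948
import Cfsg.Agent.Lib.Helper74.SingularCount
import Cfsg.Agent.Lib.Helper74.BlockRankSing
import Cfsg.Agent.Lib.Helper74.PrincipalNorm
import Cfsg.Agent.Lib.Helper74.PrincipalSMT

set_option autoImplicit false
open Cfsg

namespace Cfsg.Agent.S4512

open Cfsg.Agent.Lib.Helper74 Cfsg.Agent.Lib.Helper78
open scoped ComplexConjugate

/-- If G is a finite group with a Sylow 2-subgroup that is a Klein four-group and a single conjugacy class of involutions, then its principal 2-block (relative to a maximal ideal M of the algebraic integers containing 2) has 2-regular rank 3: the restrictions of its irreducible characters to the elements of odd order span a space of dimension 3 (it has three irreducible Brauer characters). -/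
theorem result {G : Type*} [Group G] [Finite G] (M : Ideal Cfsg.AlgInt) (hM : Cfsg.IsPModular 2 M) (P : Sylow 2 G)
    (hP : Nat.card P = 4) (hexp : ∀ x : P, x * x = 1)
    (hone : ∀ s t : G, orderOf s = 2 → orderOf t = 2 → IsConj s t) :
    Cfsg.blockRank 2 (Cfsg.principalBlock M G) = 3 := by
  classical
  have : Fintype G := Fintype.ofFinite G
  have hMp : M.IsPrime := hM.2.1.isPrime
  -- `P` is a Klein four group
  have hK : IsKleinFour (P : Subgroup G) := by
    refine ⟨hP, ?_⟩
    have h1 : Monoid.exponent (P : Subgroup G) ∣ 2 :=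
      Monoid.exponent_dvd_of_forall_pow_eq_one (fun x => by rw [sq]; exact hexp x)
    rcases (Nat.dvd_prime Nat.prime_two).mp h1 with h | h
    · exfalso
      have hsub : Subsingleton (P : Subgroup G) := Monoid.exp_eq_one_iff.mp h
      have : Nat.card (P : Subgroup G) = 1 := Nat.card_unique
      have h4 : Nat.card (P : Subgroup G) = 4 := hP
      omega
    · exact h
  obtain ⟨ζ₂, ζ₃, ζ₄, ε, hε, h21, h31, h23, h24, h34, hB, hval, _, _, _, _⟩ :=
    Cfsg.Agent.S0948.result M hM P hK hone
  -- an involution
  obtain ⟨z, hzP, hz1⟩ : ∃ z ∈ (P : Subgroup G), z ≠ 1 := by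
    have h4 : Nat.card (P : Subgroup G) = 4 := hP
    have hnt : Nontrivial (P : Subgroup G) := by
      rw [← Finite.one_lt_card_iff_nontrivial, h4]
      norm_num
    obtain ⟨a, ha⟩ := exists_ne (1 : (P : Subgroup G))
    exact ⟨a, a.2, fun e => ha (Subtype.ext e)⟩
  have hz2 : orderOf z = 2 := by
    have := hexp ⟨z, hzP⟩
    have hzz : z * z = 1 := congrArg Subtype.val this
    exact orderOf_eq_prime (by rw [sq]; exact hzz) hz1
  set χ₁ : IrrCharacter G := ⟨fun _ => 1, isIrrCharacter_one⟩ with hχ₁
  have h41 : ζ₄ ≠ χ₁ := by
    intro h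
    have h1 := (hval z hz2).2.2
    rw [h, hχ₁] at h1
    norm_num at h1
  have h21' : ζ₂ ≠ χ₁ := fun h => h21 (by rw [h])
  have h31' : ζ₃ ≠ χ₁ := fun h => h31 (by rw [h])
  have hFs : Finset.univ.filter (fun χ : IrrCharacter G => χ ∈ principalBlock M G) =
      {χ₁, ζ₂, ζ₃, ζ₄} := by
    ext χ
    simp only [Finset.mem_filter, Finset.mem_univ, true_and, Finset.mem_insert,
      Finset.mem_singleton]
    rw [hB]
    simp only [Set.mem_ofPred_eq]
    constructor
    · rintro (h | h | h | h)
      · left; exact Subtype.ext h
      · right; left; exact h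
      · right; right; left; exact h
      · right; right; right; exact h
    · rintro (h | h | h | h)
      · left; rw [h]
      · right; left; exact h
      · right; right; left; exact h
      · right; right; right; exact h
  have hcardF : (Finset.univ.filter (fun χ : IrrCharacter G => χ ∈ principalBlock M G)).card = 4 := by
    rw [hFs]
    rw [Finset.card_insert_of_notMem, Finset.card_insert_of_notMem, Finset.card_insert_of_notMem,
      Finset.card_singleton]
    · simp only [Finset.mem_singleton]; exact h34
    · simp only [Finset.mem_insert, Finset.mem_singleton]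
      rintro (h | h)
      · exact h23 h
      · exact h24 h
    · simp only [Finset.mem_insert, Finset.mem_singleton]
      rintro (h | h | h)
      · exact h21' h.symm
      · exact h31' h.symm
      · exact h41 h.symm
  -- the norm sums at the `2`-singular elements
  have hsing : ∀ x : G, 2 ∣ orderOf x →
      ∑ χ ∈ Finset.univ.filter (fun χ : IrrCharacter G => χ ∈ principalBlock M G),
        (χ : G → ℂ) x * conj ((χ : G → ℂ) x) = 4 := by
    intro x hx
    obtain ⟨u, y, huy, hc, hu, hy⟩ := exists_isPPart 2 x
    have hu1 : u ≠ 1 := by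
      rintro rfl
      rw [one_mul] at huy
      rw [huy] at hy
      exact hy hx
    obtain ⟨hu2, Q, hQ, huQ⟩ := orderOf_eq_two_of_klein P hK hu1 hu
    obtain ⟨k, hk⟩ := exists_index_pPrimeCore_centralizer_of_klein Q hQ u huQ hu1
    have hfac := factorization_card_centralizer_of_klein Q hQ u huQ
    have hyC : y ∈ Subgroup.centralizer ({u} : Set G) :=
      Subgroup.mem_centralizer_singleton_iff.mpr hc.eq.symm
    have h947 := (Cfsg.Agent.S0947.result 2 M hM u ⟨1, by rw [hu2, pow_one]⟩ hu1
      (⟨y, hyC⟩ : Subgroup.centralizer ({u} : Set G))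
      (by rw [Subgroup.orderOf_mk]; exact hy)).2 ⟨k, hk⟩
    rw [hfac] at h947
    simp only [huy] at h947
    have h2 := ofReal_finsum_mem_norm_sq (principalBlock M G) (fun ζ => (ζ : G → ℂ) x)
    rw [← h2, h947]
    norm_num
  have hmain := card_mul_blockRank_eq_sub hM (isPBlock_principalBlock G M)
  rw [Finset.sum_congr rfl (fun x hx => hsing x (by
    simpa only [Finset.mem_filter, Finset.mem_univ, true_and] using hx)), hcardF,
    Finset.sum_const, nsmul_eq_mul] at hmain
  have hcount := four_mul_card_singular_of_klein P hK hone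
  have hG : (Nat.card G : ℂ) ≠ 0 := by exact_mod_cast (Nat.card_pos (α := G)).ne'
  have h4 : ((Finset.univ.filter (fun x : G => 2 ∣ orderOf x)).card : ℂ) * 4 = (Nat.card G : ℂ) := by
    rw [← hcount]
    push_cast
    ring
  rw [h4] at hmain
  have h3 : (Nat.card G : ℂ) * (blockRank 2 (principalBlock M G) : ℂ) = (Nat.card G : ℂ) * 3 := by
    rw [hmain]
    push_cast
    ring
  have h5 := mul_left_cancel₀ hG h3
  exact_mod_cast h5

end Cfsg.Agent.S4512
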