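import Cfsg.Statements.S4513
import Cfsg.Agent.Lib.Helper79.DefectOne
import Cfsg.Agent.Lib.Helper79.BlockAux
import Cfsg.Agent.Lib.Helper78.BrauerCount
import Cfsg.Agent.Lib.Helper78.DefectOrder
import Cfsg.Agent.S4511
import Cfsg.Agent.S0931
import Cfsg.Agent.S0917
import Cfsg.Agent.S0958

set_option autoImplicit false
open Cfsg
open Cfsg.Agent.Lib.Helper79 Cfsg.Agent.Lib.Helper16 Cfsg.Agent.Lib.Helper78
open scoped ComplexConjugate

namespace Cfsg.Agent.S4513

/-- Blocks of defect one for p = 2. Let M be a maximal ideal of the algebraic integers containing 2, B a 2-block of the finite group G whose defect group is the subgroup generated by an involution x, C = C_G(x), b a block of C inducing B and θ a member of b taking the same value at x as at 1 (there is exactly one). Then B consists of exactly two irreducible characters, which agree on every element of odd order, and they can be labelled χ₁, χ₂ with signs ε₁, ε₂ = ±1, ε₁ε₂ = −1, such that χᵢ(x y) = εᵢ θ(y) for every element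 y of C of odd order. -/
theorem result {G : Type*} [Group G] [Finite G] (M : Ideal Cfsg.AlgInt) (hM : Cfsg.IsPModular 2 M) (x : G) (hx : orderOf x = 2)
    (B : Set (Cfsg.IrrCharacter G)) (hB : Cfsg.IsPBlock M B) (hBD : Cfsg.IsDefectGroup 2 M B (Subgroup.zpowers x))
    (b : Set (Cfsg.IrrCharacter ↥(Subgroup.centralizer ({x} : Set G)))) (hb : Cfsg.IsInducedBlock M (Subgroup.centralizer ({x} : Set G)) b B)
    (θ : Cfsg.IrrCharacter ↥(Subgroup.centralizer ({x} : Set G))) (hθ : θ ∈ b)
    (hθx : ∀ z : ↥(Subgroup.centralizer ({x} : Set G)), (z : G) = x → (θ : ↥(Subgroup.centralizer ({x} : Set G)) → ℂ) z = (θ : ↥(Subgroup.centralizer ({x} : Set G)) → ℂ) 1) :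
    Nat.card B = 2 ∧ (∀ χ ∈ B, ∀ ψ ∈ B, ∀ g : G, ¬ 2 ∣ orderOf g → (χ : G → ℂ) g = (ψ : G → ℂ) g) ∧
      ∃ χ₁ ∈ B, ∃ χ₂ ∈ B, χ₁ ≠ χ₂ ∧ ∃ ε₁ ε₂ : ℤ, (ε₁ = 1 ∨ ε₁ = -1) ∧ (ε₂ = 1 ∨ ε₂ = -1) ∧ ε₁ * ε₂ = -1 ∧
        ∀ y : ↥(Subgroup.centralizer ({x} : Set G)), ¬ 2 ∣ orderOf y →
          (χ₁ : G → ℂ) (x * y) = (ε₁ : ℂ) * (θ : ↥(Subgroup.centralizer ({x} : Set G)) → ℂ) y ∧ (χ₂ : G → ℂ) (x * y) = (ε₂ : ℂ) * (θ : ↥(Subgroup.centralizer ({x} : Set G)) → ℂ) y := by
  classical
  have : Fintype G := Fintype.ofFinite G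
  have hF2 : Fact (Nat.Prime 2) := Nat.fact_prime_two
  have hMp : M.IsPrime := isPModular_isPrime hM
  have hMtop : M ≠ ⊤ := hMp.ne_top
  have : Fintype (Subgroup.centralizer ({x} : Set G)) := Fintype.ofFinite _
  have hbblock : IsPBlock M b := hb.1
  have hx2 : ∃ k : ℕ, orderOf x = 2 ^ k := ⟨1, by rw [hx, pow_one]⟩
  -- the defect of `B`
  have hdB : blockDefect 2 B = 1 := by
    have h1 : Nat.card (Subgroup.zpowers x) = 2 ^ blockDefect 2 B := card_defectGroup hM hB hBD
    rw [Nat.card_zpowers, hx] at h1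
    have h2 : (2 : ℕ) ^ 1 = 2 ^ blockDefect 2 B := by rw [pow_one]; exact h1
    exact (Nat.pow_right_injective (le_refl 2) h2).symm
  obtain ⟨χ₁, χ₂, hne12, hBeq, hreg, hsing⟩ := two_block_defect_one hM hB hdB
  -- the defect of `b`
  have hdb : blockDefect 2 b = 1 := by
    have h0 : blockDefect 2 b ≠ 0 := by
      intro h
      have := (Cfsg.Agent.S0931.result 2 M hM _ b B hb).mp h
      omega
    have h1 : blockDefect 2 b ≤ 1 := by
      obtain ⟨g, hg⟩ := exists_isDefectClass (M := M) hbblock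
      obtain ⟨P⟩ : Nonempty (Sylow 2 (Subgroup.centralizer ({g} : Set
        (Subgroup.centralizer ({x} : Set G))))) := inferInstance
      have hD : IsDefectGroup 2 M b ((P : Subgroup _).map (Subgroup.centralizer ({g} : Set
          (Subgroup.centralizer ({x} : Set G)))).subtype) := ⟨g, hg, P, rfl⟩
      have hc1 := card_defectGroup hM hbblock hD
      obtain ⟨E, hE, hle⟩ := Cfsg.Agent.S0917.result 2 M hM _ b hbblock B hB hb _ hD
      have hc2 := card_defectGroup hM hB hE
      rw [hdB, pow_one] at hc2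
      have hc3 := Subgroup.card_le_of_le hle
      rw [Subgroup.card_map_of_injective (Subgroup.subtype_injective _), hc1, hc2] at hc3
      by_contra hcon
      push Not at hcon
      have : 2 ^ 2 ≤ 2 ^ blockDefect 2 b := Nat.pow_le_pow_right (by norm_num) hcon
      omega
    omega
  obtain ⟨θ₁, θ₂, hneθ, hbeq, hregθ, hsingθ⟩ := two_block_defect_one hM hbblock hdb
  obtain ⟨θ', hθθ', hbeq', hregθ'⟩ : ∃ θ' : IrrCharacter (Subgroup.centralizer ({x} : Set G)),
      θ ≠ θ' ∧ b = {θ, θ'} ∧ ∀ y : Subgroup.centralizer ({x} : Set G), ¬ 2 ∣ orderOf y →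
        (θ' : Subgroup.centralizer ({x} : Set G) → ℂ) y =
          (θ : Subgroup.centralizer ({x} : Set G) → ℂ) y := by
    have hθ' := hθ
    rw [hbeq] at hθ'
    rcases hθ' with rfl | rfl
    · exact ⟨θ₂, hneθ, hbeq, fun y hy => (hregθ y hy).symm⟩
    · exact ⟨θ₁, hneθ.symm, by rw [hbeq, Set.pair_comm], fun y hy => hregθ y hy⟩
  -- cardinality of `B`
  have hcardB : Nat.card B = 2 := by
    rw [hBeq, Nat.card_coe_set_eq, Set.ncard_pair hne12]
  -- uniqueness of `b`
  have huniq : ∀ b' : Set (IrrCharacter (Subgroup.centralizer ({x} : Set G))),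
      IsInducedBlock M (Subgroup.centralizer ({x} : Set G)) b' B → b' = b := by
    intro b' hb'
    by_contra hbb'
    obtain ⟨X, hxX, h1X, hX, hXrep⟩ := exists_pElement_reps 2 x hx2
    have hcount := Cfsg.Agent.S4511.result 2 M hM B hB X hX hXrep
    rw [hcardB] at hcount
    have hx1 : x ≠ 1 := by
      intro h
      rw [h, orderOf_one] at hx
      omega
    have hsub : ({1, x} : Finset G) ⊆ X := by
      intro i hi
      rw [Finset.mem_insert, Finset.mem_singleton] at hi
      rcases hi with rfl | rfl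
      · exact h1X
      · exact hxX
    have hlow := Finset.sum_le_sum_of_subset (f := fun x' : G =>
      ∑ᶠ b'' ∈ {b'' : Set (IrrCharacter (Subgroup.centralizer ({x'} : Set G))) |
        IsInducedBlock M (Subgroup.centralizer ({x'} : Set G)) b'' B}, blockRank 2 b'') hsub
    rw [Finset.sum_pair hx1.symm] at hlow
    -- the term at `x`
    have hfx : 2 ≤ ∑ᶠ b'' ∈ {b'' : Set (IrrCharacter (Subgroup.centralizer ({x} : Set G))) |
        IsInducedBlock M (Subgroup.centralizer ({x} : Set G)) b'' B}, blockRank 2 b'' := by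
      have h1 := add_le_finsum_mem_of_ne (Set.toFinite {b'' : Set (IrrCharacter
        (Subgroup.centralizer ({x} : Set G))) |
        IsInducedBlock M (Subgroup.centralizer ({x} : Set G)) b'' B}) (fun b'' => blockRank 2 b'')
        (a := b') (b := b) hb' hb hbb'
      have h2 : 1 ≤ blockRank 2 b' :=
        one_le_blockRank 2 (IsPBlock_nonempty hMtop hb'.1)
      have h3 : 1 ≤ blockRank 2 b := one_le_blockRank 2 ⟨θ, hθ⟩
      omega
    -- the term at `1`
    have hf1 : 1 ≤ ∑ᶠ b'' ∈ {b'' : Set (IrrCharacter (Subgroup.centralizer ({(1 : G)} : Set G))) |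
        IsInducedBlock M (Subgroup.centralizer ({(1 : G)} : Set G)) b'' B}, blockRank 2 b'' := by
      have hex : ∃ b₁ : Set (IrrCharacter (Subgroup.centralizer ({(1 : G)} : Set G))),
          IsInducedBlock M (Subgroup.centralizer ({(1 : G)} : Set G)) b₁ B := by
        apply (Cfsg.Agent.S0958.result 2 M hM ⊥ (Subgroup.centralizer ({(1 : G)} : Set G))
          (IsPGroup.of_bot) ?_ ?_ B hB).mpr
        · exact ⟨_, hBD, 1, by rw [Subgroup.map_bot]; exact bot_le⟩
        · rw [Subgroup.coe_bot]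
          simp
        · intro g _
          rw [Subgroup.mem_normalizer_iff]
          intro n
          simp only [Subgroup.mem_bot]
          exact conj_eq_one_iff.symm
      obtain ⟨b₁, hb₁⟩ := hex
      have h1 := le_finsum_mem (Set.toFinite {b'' : Set (IrrCharacter
        (Subgroup.centralizer ({(1 : G)} : Set G))) |
        IsInducedBlock M (Subgroup.centralizer ({(1 : G)} : Set G)) b'' B})
        (fun b'' => blockRank 2 b'') (a := b₁) hb₁
      have h2 : 1 ≤ blockRank 2 b₁ := one_le_blockRank 2 (IsPBlock_nonempty hMtop hb₁.1)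
      omega
    omega
  have hind : inducingSet M (Subgroup.centralizer ({x} : Set G)) B = b := by
    ext ξ
    unfold inducingSet
    simp only [Set.mem_ofPred_eq]
    constructor
    · intro h
      rw [← huniq _ h]
      exact self_mem_blockOf hMtop ξ
    · intro h
      rw [← IsPBlock_eq_blockOf hbblock h]
      exact hb
  -- the values on the section of `x`
  set c : IrrCharacter G → ℂ := fun χ =>
    classInner (fun d : Subgroup.centralizer ({x} : Set G) => (χ : G → ℂ) (x * (d : G)))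
      (θ : Subgroup.centralizer ({x} : Set G) → ℂ) +
    classInner (fun d : Subgroup.centralizer ({x} : Set G) => (χ : G → ℂ) (x * (d : G)))
      (θ' : Subgroup.centralizer ({x} : Set G) → ℂ) with hc
  have hval : ∀ χ ∈ B, ∀ y : Subgroup.centralizer ({x} : Set G), ¬ 2 ∣ orderOf y →
      (χ : G → ℂ) (x * (y : G)) = c χ * (θ : Subgroup.centralizer ({x} : Set G) → ℂ) y := by
    intro χ hχ y hy
    have h1 := blockPart_inducingSet_irr hM x hx2 hB χ y hy
    rw [if_pos hχ, hind, blockPart_apply] at h1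
    rw [← h1]
    have h2 : ∀ (inst : DecidablePred (fun ξ : IrrCharacter (Subgroup.centralizer ({x} : Set G)) =>
        ξ ∈ b)), @Finset.filter _ (fun ξ => ξ ∈ b) inst Finset.univ = {θ, θ'} := by
      intro inst
      ext ξ
      rw [Finset.mem_filter, hbeq']
      simp
    rw [h2, Finset.sum_pair hθθ', hregθ' y hy, hc]
    ring
  -- `c χ₁ + c χ₂ = 0`
  have hθ1 : (θ : Subgroup.centralizer ({x} : Set G) → ℂ) 1 ≠ 0 := irr_apply_one_ne_zero θ
  have h1reg : ¬ 2 ∣ orderOf (1 : Subgroup.centralizer ({x} : Set G)) := by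
    rw [orderOf_one]; norm_num
  have hχ₁B : χ₁ ∈ B := by rw [hBeq]; exact Set.mem_insert _ _
  have hχ₂B : χ₂ ∈ B := by rw [hBeq]; exact Set.mem_insert_of_mem _ rfl
  have hvx : ∀ χ ∈ B, (χ : G → ℂ) x = c χ * (θ : Subgroup.centralizer ({x} : Set G) → ℂ) 1 := by
    intro χ hχ
    have := hval χ hχ 1 h1reg
    simpa using this
  have hcsum : c χ₁ + c χ₂ = 0 := by
    have h1 := hsing x (by rw [hx])
    rw [hvx χ₁ hχ₁B, hvx χ₂ hχ₂B, ← add_mul] at h1
    exact (mul_eq_zero.mp h1).resolve_right hθ1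
  -- the norm
  have hnorm : c χ₁ * conj (c χ₁) = 1 := by
    have h1 := sum_block_norm_section hM x hx2 hB (1 : Subgroup.centralizer ({x} : Set G)) h1reg
    rw [hind] at h1
    unfold blockKernel at h1
    have h2 : ∀ (inst : DecidablePred (fun ξ : IrrCharacter (Subgroup.centralizer ({x} : Set G)) =>
        ξ ∈ b)), @Finset.filter _ (fun ξ => ξ ∈ b) inst Finset.univ = {θ, θ'} := by
      intro inst
      ext ξ
      rw [Finset.mem_filter, hbeq']
      simp
    have h3 : ∀ (inst : DecidablePred (fun χ : IrrCharacter G => χ ∈ B)),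
        @Finset.filter _ (fun χ => χ ∈ B) inst Finset.univ = {χ₁, χ₂} := by
      intro inst
      ext ξ
      rw [Finset.mem_filter, hBeq]
      simp
    rw [h2, h3, Finset.sum_pair hne12, Finset.sum_pair hθθ', hregθ' 1 h1reg] at h1
    simp only [OneMemClass.coe_one, mul_one] at h1
    rw [hvx χ₁ hχ₁B, hvx χ₂ hχ₂B] at h1
    have hc2 : c χ₂ = -c χ₁ := by linear_combination hcsum
    rw [hc2] at h1
    have hθc : (θ : Subgroup.centralizer ({x} : Set G) → ℂ) 1 *
        conj ((θ : Subgroup.centralizer ({x} : Set G) → ℂ) 1) ≠ 0 := by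
      apply mul_ne_zero hθ1
      rw [Ne, map_eq_zero]
      exact hθ1
    have h4 : (c χ₁ * conj (c χ₁)) * ((θ : Subgroup.centralizer ({x} : Set G) → ℂ) 1 *
        conj ((θ : Subgroup.centralizer ({x} : Set G) → ℂ) 1)) =
        1 * ((θ : Subgroup.centralizer ({x} : Set G) → ℂ) 1 *
        conj ((θ : Subgroup.centralizer ({x} : Set G) → ℂ) 1)) := by
      simp only [map_mul, map_neg] at h1
      linear_combination (1 / 2 : ℂ) * h1
    exact mul_right_cancel₀ hθc h4
  -- `c χ₁` is real
  have hreal : conj (c χ₁) = c χ₁ := by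
    have h1 : conj ((χ₁ : G → ℂ) x) = (χ₁ : G → ℂ) x := by
      have h2 := IsCharacter.inv (IsIrrCharacter.isCharacter χ₁.2) x
      have h3 : x⁻¹ = x := by
        have : x ^ 2 = 1 := by rw [← hx]; exact pow_orderOf_eq_one x
        rw [inv_eq_iff_mul_eq_one, ← sq, this]
      rw [h3] at h2
      exact h2.symm
    have hθreal : conj ((θ : Subgroup.centralizer ({x} : Set G) → ℂ) 1) =
        (θ : Subgroup.centralizer ({x} : Set G) → ℂ) 1 := by
      rw [irr_apply_one_eq_charDegree, Complex.conj_natCast]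
    rw [hvx χ₁ hχ₁B, map_mul, hθreal] at h1
    exact mul_right_cancel₀ hθ1 h1
  have hc1 : c χ₁ = 1 ∨ c χ₁ = -1 := by
    rw [hreal] at hnorm
    have : (c χ₁ - 1) * (c χ₁ + 1) = 0 := by linear_combination hnorm
    rcases mul_eq_zero.mp this with h | h
    · left; linear_combination h
    · right; linear_combination h
  have hc2 : c χ₂ = -c χ₁ := by linear_combination hcsum
  refine ⟨hcardB, ?_, ?_⟩
  · intro χ hχ ψ hψ g hg
    rw [hBeq] at hχ hψ
    rcases hχ with rfl | rfl <;> rcases hψ with rfl | rfl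
    · rfl
    · exact hreg g hg
    · exact (hreg g hg).symm
    · rfl
  · refine ⟨χ₁, hχ₁B, χ₂, hχ₂B, hne12, ?_⟩
    rcases hc1 with h | h
    · refine ⟨1, -1, Or.inl rfl, Or.inr rfl, by norm_num, ?_⟩
      intro y hy
      rw [hval χ₁ hχ₁B y hy, hval χ₂ hχ₂B y hy, hc2, h]
      push_cast
      exact ⟨rfl, rfl⟩
    · refine ⟨-1, 1, Or.inr rfl, Or.inl rfl, by norm_num, ?_⟩
      intro y hy
      rw [hval χ₁ hχ₁B y hy, hval χ₂ hχ₂B y hy, hc2, h]
      push_cast
      refine ⟨rfl, ?_⟩
      ring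

end Cfsg.Agent.S4513
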