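import Cfsg.Statements.S4521
import Cfsg.Agent.Lib.Helper16.NormalSub
import Cfsg.Agent.Lib.Helper82.BlockInflation
import Cfsg.Agent.Lib.Helper78.CharOrtho
import Cfsg.Agent.S4691

set_option autoImplicit false
open Cfsg

namespace Cfsg.Agent.S4521

open Cfsg.Agent.Lib Cfsg.Agent.Lib.Helper16 Cfsg.Agent.Lib.Helper78
open MonoidAlgebra
open scoped ComplexConjugate

section

variable {G : Type*} [Group G]

theorem orderOf_conj_eq (c u : G) : orderOf (c * u * c⁻¹) = orderOf u := by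
  have := orderOf_injective (MulAut.conj c).toMonoidHom (MulAut.conj c).injective u
  simpa [MulAut.conj_apply] using this

/-- If `U₂` centralizes `U₁` and together they generate `G`, then `U₁` is normal. -/
theorem normal_of_comm (U₁ U₂ : Subgroup G) (hcomm : ∀ u ∈ U₁, ∀ v ∈ U₂, u * v = v * u)
    (hgen : U₁ ⊔ U₂ = ⊤) : U₁.Normal := by
  rw [← Subgroup.normalizer_eq_top_iff, eq_top_iff, ← hgen]
  apply sup_le Subgroup.le_normalizer
  intro v hv
  rw [Subgroup.mem_normalizer_iff]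
  intro u
  constructor
  · intro hu
    have : v * u * v⁻¹ = u := by rw [← hcomm u hu v hv, mul_inv_cancel_right]
    rwa [this]
  · intro hu
    have h1 : v⁻¹ * (v * u * v⁻¹) * v = u := by group
    have h2 : v⁻¹ * (v * u * v⁻¹) * v = v * u * v⁻¹ := by
      have := hcomm _ hu v⁻¹ (inv_mem hv)
      rw [← this, inv_mul_cancel_right]
    rw [← h1, h2]
    exact hu

/-- Every element is a product of an element of `U₁` and one of `U₂`. -/
theorem exists_mul_of_comm (U₁ U₂ : Subgroup G) (hcomm : ∀ u ∈ U₁, ∀ v ∈ U₂, u * v = v * u)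
    (hgen : U₁ ⊔ U₂ = ⊤) (g : G) : ∃ a ∈ U₁, ∃ b ∈ U₂, g = a * b := by
  have := normal_of_comm U₁ U₂ hcomm hgen
  have hg : g ∈ ((U₁ ⊔ U₂ : Subgroup G) : Set G) := by rw [hgen]; trivial
  rw [Subgroup.normal_mul] at hg
  obtain ⟨a, ha, b, hb, rfl⟩ := Set.mem_mul.mp hg
  exact ⟨a, ha, b, hb, rfl⟩

/-- `G`-conjugation on `U₁` is realised inside `U₁`. -/
theorem conj_eq_of_comm (U₁ U₂ : Subgroup G) (hcomm : ∀ u ∈ U₁, ∀ v ∈ U₂, u * v = v * u)
    (hgen : U₁ ⊔ U₂ = ⊤) (g : G) (u : G) (hu : u ∈ U₁) :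
    ∃ a ∈ U₁, g * u * g⁻¹ = a * u * a⁻¹ := by
  obtain ⟨a, ha, b, hb, rfl⟩ := exists_mul_of_comm U₁ U₂ hcomm hgen g
  refine ⟨a, ha, ?_⟩
  have : b * u * b⁻¹ = u := by rw [← hcomm u hu b hb, mul_inv_cancel_right]
  calc a * b * u * (a * b)⁻¹ = a * (b * u * b⁻¹) * a⁻¹ := by group
    _ = a * u * a⁻¹ := by rw [this]

end

section

variable {G : Type*} [Group G] [Fintype G]

/-- When `G`-conjugation on the normal subgroup `N` is realised inside `N`, the central characters
of `χ ∈ Irr(G)` and of a constituent of its restriction to `N` agree on `N`. -/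
theorem centralChar_eq_of_over (N : Subgroup G) [hN : N.Normal] [Fintype N]
    (hconj : ∀ g : G, ∀ u ∈ N, ∃ a ∈ N, g * u * g⁻¹ = a * u * a⁻¹)
    (χ : IrrCharacter G) (θ : IrrCharacter N)
    (hθ : classInner (fun n : N => (χ : G → ℂ) n) (θ : N → ℂ) ≠ 0) (u : N) :
    centralChar (χ : G → ℂ) (u : G) = centralChar (θ : N → ℂ) u := by
  classical
  have hsupp : ∀ g : G, g ∉ N → (classSum (u : G)).coeff g = 0 := by
    intro g hg
    rw [coeff_classSum, if_neg]
    intro hc
    apply hg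
    obtain ⟨c, hc⟩ := isConj_iff.mp hc
    rw [← hc]
    exact hN.conj_mem _ u.2 c
  have h1 := omega_eq_omega_resAlg_of_support N (classSum_mem_center (u : G)) hsupp χ θ hθ
  have h2 : resAlg N (classSum (u : G)) = classSum u := by
    ext h
    rw [coeff_resAlg, coeff_classSum, coeff_classSum]
    have : IsConj (u : G) (h : G) ↔ IsConj u h := by
      constructor
      · intro hc
        obtain ⟨c, hc⟩ := isConj_iff.mp hc
        obtain ⟨a, ha, hac⟩ := hconj c u u.2
        rw [isConj_iff]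
        refine ⟨⟨a, ha⟩, Subtype.ext ?_⟩
        show a * (u : G) * a⁻¹ = h
        rw [← hac, hc]
      · intro hc
        obtain ⟨c, hc⟩ := isConj_iff.mp hc
        rw [isConj_iff]
        exact ⟨c, congrArg Subtype.val hc⟩
    simp only [this]
  rw [h2, omega_classSum_irr, omega_classSum_irr] at h1
  exact h1

variable {p : ℕ} [Fact p.Prime]

/-- The product of the class sums of `u₁ ∈ U₁` (a `p`-regular element) and `u₂ ∈ U₂` is the class
sum of `u₁ u₂`, when `U₁ ∩ U₂` is a `p`-group. -/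
theorem classSum_mul_classSum (U₁ U₂ : Subgroup G) (hcomm : ∀ u ∈ U₁, ∀ v ∈ U₂, u * v = v * u)
    (hgen : U₁ ⊔ U₂ = ⊤) (hZ : IsPGroup p ↥(U₁ ⊓ U₂)) {u₁ u₂ : G} (h₁ : u₁ ∈ U₁) (h₂ : u₂ ∈ U₂)
    (hreg : ¬ p ∣ orderOf u₁) :
    classSum u₁ * classSum u₂ = classSum (u₁ * u₂) := by
  classical
  have hn1 := normal_of_comm U₁ U₂ hcomm hgen
  have hn2 := normal_of_comm U₂ U₁ (fun u hu v hv => (hcomm v hv u hu).symm)
    (by rw [sup_comm]; exact hgen)
  ext g
  rw [coeff_mul_eq_sum, coeff_classSum]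
  simp only [coeff_classSum]
  by_cases hg : IsConj (u₁ * u₂) g
  · rw [if_pos hg]
    obtain ⟨c, hc⟩ := isConj_iff.mp hg
    rw [Finset.sum_eq_single (c * u₁ * c⁻¹, c * u₂ * c⁻¹)]
    · rw [if_pos (isConj_iff.mpr ⟨c, rfl⟩), if_pos (isConj_iff.mpr ⟨c, rfl⟩), one_mul]
    · rintro ⟨x, y⟩ hxy hne
      rw [Finset.mem_filter] at hxy
      have hxy' : x * y = g := hxy.2
      by_cases hx : IsConj u₁ x
      · by_cases hy : IsConj u₂ y
        · exfalso
          apply hne
          obtain ⟨d, hd⟩ := isConj_iff.mp hx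
          obtain ⟨e, he⟩ := isConj_iff.mp hy
          have hxU : x ∈ U₁ := by rw [← hd]; exact hn1.conj_mem _ h₁ d
          have hyU : y ∈ U₂ := by rw [← he]; exact hn2.conj_mem _ h₂ e
          have hx'U : c * u₁ * c⁻¹ ∈ U₁ := hn1.conj_mem _ h₁ c
          have hy'U : c * u₂ * c⁻¹ ∈ U₂ := hn2.conj_mem _ h₂ c
          -- z = x'⁻¹ x = y' y⁻¹
          set x' := c * u₁ * c⁻¹ with hx'
          set y' := c * u₂ * c⁻¹ with hy'
          have hprod : x' * y' = x * y := by
            rw [hxy', ← hc, hx', hy']; group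
          set z := x'⁻¹ * x with hz
          have hz1 : z ∈ U₁ := mul_mem (inv_mem hx'U) hxU
          have hz2 : z = y' * y⁻¹ := by
            rw [hz]
            have : x = x' * y' * y⁻¹ := by rw [hprod, mul_inv_cancel_right]
            rw [this]; group
          have hz2' : z ∈ U₂ := by rw [hz2]; exact mul_mem hy'U (inv_mem hyU)
          have hxz : x = x' * z := by rw [hz, mul_inv_cancel_left]
          have hcz : Commute x' z := hcomm x' hx'U z hz2'
          have hox : orderOf x = orderOf u₁ := by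
            rw [← hd]
            exact orderOf_conj_eq _ _
          have hox' : orderOf x' = orderOf u₁ := by
            rw [hx']
            exact orderOf_conj_eq _ _
          have hzn : z ^ orderOf u₁ = 1 := by
            have h3 : x ^ orderOf u₁ = 1 := by rw [← hox]; exact pow_orderOf_eq_one x
            have h4 : x' ^ orderOf u₁ = 1 := by rw [← hox']; exact pow_orderOf_eq_one x'
            rw [hxz, hcz.mul_pow, h4, one_mul] at h3
            exact h3
          obtain ⟨k, hk⟩ := hZ ⟨z, Subgroup.mem_inf.mpr ⟨hz1, hz2'⟩⟩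
          have hk' : z ^ p ^ k = 1 := congrArg Subtype.val hk
          have hcop : (orderOf u₁).Coprime (p ^ k) :=
            Nat.Coprime.pow_right k ((Nat.Prime.coprime_iff_not_dvd Fact.out).mpr hreg).symm
          have hz1' : z = 1 := by
            have h5 : orderOf z ∣ Nat.gcd (orderOf u₁) (p ^ k) :=
              Nat.dvd_gcd (orderOf_dvd_of_pow_eq_one hzn) (orderOf_dvd_of_pow_eq_one hk')
            rw [hcop, Nat.dvd_one, orderOf_eq_one_iff] at h5
            exact h5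
          have hxx : x = x' := by rw [hxz, hz1', mul_one]
          have hyy : y = y' := by
            have := hprod
            rw [hxx] at this
            exact (mul_left_cancel this).symm
          rw [hxx, hyy]
        · rw [if_neg hy, mul_zero]
      · rw [if_neg hx, zero_mul]
    · intro h
      exfalso
      apply h
      rw [Finset.mem_filter]
      refine ⟨Finset.mem_univ _, ?_⟩
      show c * u₁ * c⁻¹ * (c * u₂ * c⁻¹) = g
      rw [← hc]; group
  · rw [if_neg hg]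
    apply Finset.sum_eq_zero
    rintro ⟨x, y⟩ hxy
    rw [Finset.mem_filter] at hxy
    have hxy' : x * y = g := hxy.2
    by_cases hx : IsConj u₁ x
    · by_cases hy : IsConj u₂ y
      · exfalso
        apply hg
        obtain ⟨d, hd⟩ := isConj_iff.mp hx
        obtain ⟨e, he⟩ := isConj_iff.mp hy
        obtain ⟨a, ha, hda⟩ := conj_eq_of_comm U₁ U₂ hcomm hgen d u₁ h₁
        obtain ⟨b, hb, heb⟩ := conj_eq_of_comm U₂ U₁ (fun u hu v hv => (hcomm v hv u hu).symm)
          (by rw [sup_comm]; exact hgen) e u₂ h₂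
        rw [isConj_iff]
        refine ⟨a * b, ?_⟩
        rw [← hxy', ← hd, ← he, hda, heb]
        have hab : a * b = b * a := hcomm a ha b hb
        have hau : a * u₂ = u₂ * a := hcomm a ha u₂ h₂
        have hbu : u₁ * b = b * u₁ := hcomm u₁ h₁ b hb
        have hab' : a⁻¹ * b = b * a⁻¹ := hcomm a⁻¹ (inv_mem ha) b hb
        have hau' : a⁻¹ * u₂ = u₂ * a⁻¹ := hcomm a⁻¹ (inv_mem ha) u₂ h₂
        have hab'' : a⁻¹ * b⁻¹ = b⁻¹ * a⁻¹ := hcomm a⁻¹ (inv_mem ha) b⁻¹ (inv_mem hb)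
        calc a * b * (u₁ * u₂) * (a * b)⁻¹ = a * (b * u₁) * u₂ * b⁻¹ * a⁻¹ := by group
          _ = a * (u₁ * b) * u₂ * b⁻¹ * a⁻¹ := by rw [hbu]
          _ = a * u₁ * (b * u₂ * b⁻¹) * a⁻¹ := by group
          _ = a * u₁ * (a⁻¹ * (b * u₂ * b⁻¹)) := by
              have : a⁻¹ * (b * u₂ * b⁻¹) = (b * u₂ * b⁻¹) * a⁻¹ :=
                hcomm a⁻¹ (inv_mem ha) _ (mul_mem (mul_mem hb h₂) (inv_mem hb))
              rw [this]; group
          _ = a * u₁ * a⁻¹ * (b * u₂ * b⁻¹) := by group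
      · rw [if_neg hy, mul_zero]
    · rw [if_neg hx, zero_mul]

end

/-- Let the finite group G be generated by subgroups U₁ and U₂ that commute elementwise and whose intersection is a p-group, and let M be a maximal ideal of the algebraic integers containing the prime p. If the irreducible character χ of G has the irreducible constituents ψ₁ on U₁ and ψ₂ on U₂, then χ lies in the principal block of G if and only if ψ₁ and ψ₂ lie in the principal blocks of U₁ and U₂. -/
theorem result {G : Type*} [Group G] [Fintype G] (p : ℕ) [Fact p.Prime] (M : Ideal Cfsg.AlgInt) (hM : Cfsg.IsPModular p M) (U₁ U₂ : Subgroup G) [Fintype U₁] [Fintype U₂] (hcomm : ∀ u ∈ U₁, ∀ v ∈ U₂, u * v = v * u) (hgen : U₁ ⊔ U₂ = ⊤) (hZ : IsPGroup p ↥(U₁ ⊓ U₂)) (χ : Cfsg.IrrCharacter G) (ψ₁ : Cfsg.IrrCharacter U₁) (ψ₂ : Cfsg.IrrCharacter U₂) (h₁ : Cfsg.classInner (fun u : U₁ => (χ : G → ℂ) u) (ψ₁ : U₁ → ℂ) ≠ 0) (h₂ : Cfsg.classInner (fun u : U₂ => (χ : G → ℂ) u) (ψ₂ : U₂ → ℂ)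 ≠ 0) : χ ∈ Cfsg.principalBlock M G ↔ (ψ₁ ∈ Cfsg.principalBlock M U₁ ∧ ψ₂ ∈ Cfsg.principalBlock M U₂) := by
  classical
  have hMp : M.IsPrime := isPModular_isPrime hM
  have hMt : M ≠ ⊤ := hMp.ne_top
  have hp : p.Prime := Fact.out
  have hcomm' : ∀ u ∈ U₂, ∀ v ∈ U₁, u * v = v * u := fun u hu v hv => (hcomm v hv u hu).symm
  have hgen' : U₂ ⊔ U₁ = ⊤ := by rw [sup_comm]; exact hgen
  have hn1 : U₁.Normal := normal_of_comm U₁ U₂ hcomm hgen
  have hn2 : U₂.Normal := normal_of_comm U₂ U₁ hcomm' hgen'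
  have hconj1 := conj_eq_of_comm U₁ U₂ hcomm hgen
  have hconj2 := conj_eq_of_comm U₂ U₁ hcomm' hgen'
  have e1 : ∀ u : U₁, centralChar (χ : G → ℂ) (u : G) = centralChar (ψ₁ : U₁ → ℂ) u :=
    centralChar_eq_of_over U₁ (fun g u hu => hconj1 g u hu) χ ψ₁ h₁
  have e2 : ∀ u : U₂, centralChar (χ : G → ℂ) (u : G) = centralChar (ψ₂ : U₂ → ℂ) u :=
    centralChar_eq_of_over U₂ (fun g u hu => hconj2 g u hu) χ ψ₂ h₂
  have o1 : ∀ u : U₁, centralChar (fun _ : G => (1 : ℂ)) (u : G) =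
      centralChar (fun _ : U₁ => (1 : ℂ)) u := by
    intro u
    have hne : classInner (fun n : U₁ => ((Cfsg.Agent.S4691.oneIrr G : IrrCharacter G) : G → ℂ) n)
        ((Cfsg.Agent.S4691.oneIrr U₁ : IrrCharacter U₁) : U₁ → ℂ) ≠ 0 := by
      have : classInner ((Cfsg.Agent.S4691.oneIrr U₁ : IrrCharacter U₁) : U₁ → ℂ)
          ((Cfsg.Agent.S4691.oneIrr U₁ : IrrCharacter U₁) : U₁ → ℂ) = 1 :=
        classInner_irr_self (Cfsg.Agent.S4691.oneIrr U₁).2
      intro h0
      have h0' : classInner ((Cfsg.Agent.S4691.oneIrr U₁ : IrrCharacter U₁) : U₁ → ℂ)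
          ((Cfsg.Agent.S4691.oneIrr U₁ : IrrCharacter U₁) : U₁ → ℂ) = 0 := h0
      rw [this] at h0'
      exact one_ne_zero h0'
    exact centralChar_eq_of_over U₁ (fun g u hu => hconj1 g u hu) (Cfsg.Agent.S4691.oneIrr G)
      (Cfsg.Agent.S4691.oneIrr U₁) hne u
  have o2 : ∀ u : U₂, centralChar (fun _ : G => (1 : ℂ)) (u : G) =
      centralChar (fun _ : U₂ => (1 : ℂ)) u := by
    intro u
    have hne : classInner (fun n : U₂ => ((Cfsg.Agent.S4691.oneIrr G : IrrCharacter G) : G → ℂ) n)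
        ((Cfsg.Agent.S4691.oneIrr U₂ : IrrCharacter U₂) : U₂ → ℂ) ≠ 0 := by
      have : classInner ((Cfsg.Agent.S4691.oneIrr U₂ : IrrCharacter U₂) : U₂ → ℂ)
          ((Cfsg.Agent.S4691.oneIrr U₂ : IrrCharacter U₂) : U₂ → ℂ) = 1 :=
        classInner_irr_self (Cfsg.Agent.S4691.oneIrr U₂).2
      intro h0
      have h0' : classInner ((Cfsg.Agent.S4691.oneIrr U₂ : IrrCharacter U₂) : U₂ → ℂ)
          ((Cfsg.Agent.S4691.oneIrr U₂ : IrrCharacter U₂) : U₂ → ℂ) = 0 := h0
      rw [this] at h0'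
      exact one_ne_zero h0'
    exact centralChar_eq_of_over U₂ (fun g u hu => hconj2 g u hu) (Cfsg.Agent.S4691.oneIrr G)
      (Cfsg.Agent.S4691.oneIrr U₂) hne u
  constructor
  · intro h
    have h' : SameBlock M (fun _ : G => (1 : ℂ)) (χ : G → ℂ) := h
    refine ⟨?_, ?_⟩
    · show SameBlock M (fun _ : U₁ => (1 : ℂ)) (ψ₁ : U₁ → ℂ)
      intro u
      rw [← o1 u, ← e1 u]
      exact h' u
    · show SameBlock M (fun _ : U₂ => (1 : ℂ)) (ψ₂ : U₂ → ℂ)
      intro u
      rw [← o2 u, ← e2 u]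
      exact h' u
  · rintro ⟨hb1, hb2⟩
    have hb1' : SameBlock M (fun _ : U₁ => (1 : ℂ)) (ψ₁ : U₁ → ℂ) := hb1
    have hb2' : SameBlock M (fun _ : U₂ => (1 : ℂ)) (ψ₂ : U₂ → ℂ) := hb2
    show SameBlock M ((Cfsg.Agent.S4691.oneIrr G : IrrCharacter G) : G → ℂ) (χ : G → ℂ)
    rw [Helper82.sameBlock_iff_pRegular hM]
    intro g hg
    -- decompose `g = u₁ u₂` with `u₁` a `p`-regular element
    obtain ⟨a, ha, b, hb, hgab⟩ := exists_mul_of_comm U₁ U₂ hcomm hgen g
    set q := p ^ (Nat.card G).factorization p with hq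
    have hcop : q.Coprime (orderOf g) :=
      Nat.Coprime.pow_left _ ((Nat.Prime.coprime_iff_not_dvd hp).mpr hg)
    obtain ⟨t, ht⟩ := exists_pow_eq_self_of_coprime hcop
    have hab : Commute a b := hcomm a ha b hb
    have hg2 : g = a ^ (q * t) * b ^ (q * t) := by
      rw [← hab.mul_pow, ← hgab, pow_mul, ht]
    have hu1 : a ^ (q * t) ∈ U₁ := pow_mem ha _
    have hu2 : b ^ (q * t) ∈ U₂ := pow_mem hb _
    have hreg : ¬ p ∣ orderOf (a ^ (q * t)) := by
      have hcard : q * (Nat.card G / q) = Nat.card G := Nat.ordProj_mul_ordCompl_eq_self _ p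
      have h1 : (a ^ (q * t)) ^ (Nat.card G / q) = 1 := by
        rw [← pow_mul, mul_right_comm, hcard, pow_mul, pow_card_eq_one', one_pow]
      have h2 : orderOf (a ^ (q * t)) ∣ Nat.card G / q := orderOf_dvd_of_pow_eq_one h1
      intro h3
      exact Nat.not_dvd_ordCompl hp Nat.card_pos.ne' (h3.trans h2)
    have L := classSum_mul_classSum U₁ U₂ hcomm hgen hZ hu1 hu2 hreg
    have mulχ : ∀ φ : IrrCharacter G, centralChar (φ : G → ℂ) g =
        centralChar (φ : G → ℂ) (a ^ (q * t)) * centralChar (φ : G → ℂ) (b ^ (q * t)) := by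
      intro φ
      rw [hg2, ← omega_classSum_irr, ← L, omega_mul φ (classSum_mem_center _),
        omega_classSum_irr, omega_classSum_irr]
    rw [mulχ, mulχ χ]
    have ea := e1 ⟨a ^ (q * t), hu1⟩
    have eb := e2 ⟨b ^ (q * t), hu2⟩
    have oa := o1 ⟨a ^ (q * t), hu1⟩
    have ob := o2 ⟨b ^ (q * t), hu2⟩
    have da := hb1' ⟨a ^ (q * t), hu1⟩
    have db := hb2' ⟨b ^ (q * t), hu2⟩
    rw [← oa, ← ea] at da
    rw [← ob, ← eb] at db
    have hr1 : MemLocalRing M (centralChar ((Cfsg.Agent.S4691.oneIrr G : IrrCharacter G) : G → ℂ)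
        (a ^ (q * t))) :=
      memLocalRing_of_isIntegral hMt (Helper79.isIntegral_centralChar _ _)
    have hr2 : MemLocalRing M (centralChar (χ : G → ℂ) (b ^ (q * t))) :=
      memLocalRing_of_isIntegral hMt (Helper79.isIntegral_centralChar _ _)
    have hsplit : centralChar ((Cfsg.Agent.S4691.oneIrr G : IrrCharacter G) : G → ℂ) (a ^ (q * t)) *
        centralChar ((Cfsg.Agent.S4691.oneIrr G : IrrCharacter G) : G → ℂ) (b ^ (q * t)) -
        centralChar (χ : G → ℂ) (a ^ (q * t)) * centralChar (χ : G → ℂ) (b ^ (q * t)) =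
        centralChar ((Cfsg.Agent.S4691.oneIrr G : IrrCharacter G) : G → ℂ) (a ^ (q * t)) *
          (centralChar (fun _ : G => (1 : ℂ)) (b ^ (q * t)) -
            centralChar (χ : G → ℂ) (b ^ (q * t))) +
        (centralChar (fun _ : G => (1 : ℂ)) (a ^ (q * t)) -
            centralChar (χ : G → ℂ) (a ^ (q * t))) * centralChar (χ : G → ℂ) (b ^ (q * t)) := by
      show centralChar (fun _ : G => (1 : ℂ)) (a ^ (q * t)) *
        centralChar (fun _ : G => (1 : ℂ)) (b ^ (q * t)) -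
        centralChar (χ : G → ℂ) (a ^ (q * t)) * centralChar (χ : G → ℂ) (b ^ (q * t)) =
        centralChar (fun _ : G => (1 : ℂ)) (a ^ (q * t)) *
          (centralChar (fun _ : G => (1 : ℂ)) (b ^ (q * t)) -
            centralChar (χ : G → ℂ) (b ^ (q * t))) +
        (centralChar (fun _ : G => (1 : ℂ)) (a ^ (q * t)) -
            centralChar (χ : G → ℂ) (a ^ (q * t))) * centralChar (χ : G → ℂ) (b ^ (q * t))
      ring
    rw [hsplit]
    exact memLocalIdeal_add (memLocalIdeal_mul_left hr1 db) (memLocalIdeal_mul_right da hr2)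

end Cfsg.Agent.S4521
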