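import Cfsg.Statements.S4540
import Cfsg.Agent.Lib.Helper75.MajorSubMainTwo

set_option autoImplicit false
open Cfsg

namespace Cfsg.Agent.S4540

/-- Let B be a 2-block of the finite group G (relative to a maximal ideal M of the algebraic integers containing 2) of defect d with defect group D. Let z be an element of D commuting with every element of D, and let b be a block of the centralizer C of z with defect group D that induces B (a major subsection (z, b)). If b has 2-regular rank at most three, then 3·k(B) ≤ 3·k₀(B) + 2·Σ 2 ^ h(χ), where k(B) is the number of members of B, k₀(B) the number of members of height zero, and the sum runs over the members χ of B of positive height h(χ); this bound is at most 3·2 ^ d, so in particular B contains at most 2 ^ d irreducible characters. -/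
theorem result {G : Type*} [Group G] [Finite G] (M : Ideal Cfsg.AlgInt) (hM : Cfsg.IsPModular 2 M) (B : Set (Cfsg.IrrCharacter G)) (hB : Cfsg.IsPBlock M B) (D : Subgroup G) (hD : Cfsg.IsDefectGroup 2 M B D) (z : G) (hzD : z ∈ D) (hzc : ∀ d ∈ D, d * z = z * d) (b : Set (Cfsg.IrrCharacter ↥(Subgroup.centralizer ({z} : Set G)))) (hb : Cfsg.IsInducedBlock M (Subgroup.centralizer ({z} : Set G)) b B) (hbD : Cfsg.IsDefectGroup 2 M b (D.subgroupOf (Subgroup.centralizer ({z} : Set G)))) (hl : Cfsg.blockRank 2 b ≤ 3) : 3 * Nat.card B ≤ 3 * Nat.card {χ : Cfsg.IrrCharacter G // χ ∈ B ∧ Cfsg.blockHeight 2 B (χ : G → ℂ) = 0} + 2 * (∑ᶠ χ ∈ {χ : Cfsg.IrrCharacter G | χ ∈ B ∧ 1 ≤ Cfsg.blockHeight 2 B (χ : G → ℂ)}, 2 ^ Cfsg.blockHeight 2 B (χ : G → ℂ)) ∧ 3 * Nat.card {χ : Cfsg.IrrCharacter G // χ ∈ B ∧ Cfsg.blockHeight 2 B (χ : G → ℂ) = 0} + 2 * (∑ᶠ χ ∈ {χ : Cfsg.IrrCharacter G | χ ∈ B ∧ 1 ≤ Cfsg.blockHeight 2 B (χ : G → ℂ)}, 2 ^ Cfsg.blockHeight 2 B (χ : G → ℂ)) ≤ 3 * 2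 ^ Cfsg.blockDefect 2 B := by
  classical
  have hp : Nat.Prime 2 := Nat.prime_two
  have : Fintype G := Fintype.ofFinite G
  have : Fintype ↥(Subgroup.centralizer ({z} : Set G)) := Fintype.ofFinite _
  have hH : ∀ g : G, g ∈ Subgroup.centralizer ({z} : Set G) ↔ Commute z g := by
    intro g
    rw [Subgroup.mem_centralizer_iff]
    constructor
    · intro h
      exact h z (Set.mem_singleton z)
    · intro h x hx
      rw [Set.mem_singleton_iff] at hx
      rw [hx]
      exact h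
  have hcardD := Cfsg.Agent.Lib.Helper78.card_defectGroup hM hB hD
  have hy : ∃ k : ℕ, orderOf z = 2 ^ k := by
    have h1 : orderOf z ∣ 2 ^ Cfsg.blockDefect 2 B := by
      rw [← hcardD]
      exact Subgroup.orderOf_dvd_natCard D hzD
    obtain ⟨k, -, hk⟩ := (Nat.dvd_prime_pow hp).mp h1
    exact ⟨k, hk⟩
  have hDle : D ≤ Subgroup.centralizer ({z} : Set G) := by
    intro d hd
    rw [hH]
    exact (hzc d hd).symm
  have hbd : Cfsg.blockDefect 2 b = Cfsg.blockDefect 2 B := by
    have h1 := Cfsg.Agent.Lib.Helper78.card_defectGroup hM hb.1 hbD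
    rw [Nat.card_congr (Subgroup.subgroupOfEquivOfLe hDle).toEquiv, hcardD] at h1
    exact (Nat.pow_right_injective hp.two_le h1).symm
  have key := Cfsg.Agent.Lib.Helper75.sum_heightWeight_le_of_major_subsection hM B z hy
    (Subgroup.centralizer ({z} : Set G)) hH b hb hbd hl
  set sB := Finset.univ.filter (fun χ : Cfsg.IrrCharacter G => χ ∈ B) with hsB
  have hsum := Cfsg.Agent.Lib.Helper75.sum_heightWeight_eq sB
    (fun χ : Cfsg.IrrCharacter G => Cfsg.blockHeight 2 B (χ : G → ℂ))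
  have hle := Cfsg.Agent.Lib.Helper75.three_mul_card_le_sum_heightWeight sB
    (fun χ : Cfsg.IrrCharacter G => Cfsg.blockHeight 2 B (χ : G → ℂ))
  have hc1 : Nat.card B = sB.card := by
    rw [Nat.card_eq_fintype_card, hsB, ← Fintype.card_subtype]
  have hc2 : Nat.card {χ : Cfsg.IrrCharacter G // χ ∈ B ∧ Cfsg.blockHeight 2 B (χ : G → ℂ) = 0} =
      (sB.filter (fun χ : Cfsg.IrrCharacter G => Cfsg.blockHeight 2 B (χ : G → ℂ) = 0)).card := by
    rw [Nat.card_eq_fintype_card, hsB, Finset.filter_filter, Fintype.card_subtype]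
  have hc3 : (∑ᶠ χ ∈ {χ : Cfsg.IrrCharacter G | χ ∈ B ∧ 1 ≤ Cfsg.blockHeight 2 B (χ : G → ℂ)},
      2 ^ Cfsg.blockHeight 2 B (χ : G → ℂ)) =
      ∑ χ ∈ sB.filter (fun χ : Cfsg.IrrCharacter G => 1 ≤ Cfsg.blockHeight 2 B (χ : G → ℂ)),
        2 ^ Cfsg.blockHeight 2 B (χ : G → ℂ) := by
    rw [hsB, Finset.filter_filter]
    apply finsum_mem_eq_sum_of_inter_support_eq
    ext χ
    simp
  rw [hc1, hc2, hc3]
  rw [hsum] at key hle
  exact ⟨hle, key⟩

end Cfsg.Agent.S4540
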