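import Cfsg.Statements.S4550
import Cfsg.Agent.Lib.Helper75.GaloisPow
import Cfsg.Agent.Lib.Helper78.WBO
import Cfsg.Agent.Lib.Helper76.Galois
import Cfsg.Agent.Lib.Helper76.CharBasic

set_option autoImplicit false
open Cfsg

namespace Cfsg.Agent.S4550

open Cfsg.Agent.Lib.Helper76 Cfsg.Agent.Lib.Helper75 Cfsg.Agent.Lib.Helper78
open scoped ComplexConjugate

section

variable {G : Type*} [Group G] [Finite G]

omit [Finite G] in
/-- `C_G(g^k) = C_G(g)` for `k` coprime to the order of `g`. -/
theorem centralizer_pow_eq (g : G) (k : ℕ) (hk : k.Coprime (orderOf g)) :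
    Subgroup.centralizer ({g ^ k} : Set G) = Subgroup.centralizer ({g} : Set G) := by
  obtain ⟨m, hm⟩ := exists_pow_eq_self_of_coprime hk
  ext x
  simp only [Subgroup.mem_centralizer_iff, Set.mem_singleton_iff, forall_eq]
  constructor
  · intro h
    have : Commute (g ^ k) x := h
    have h2 : Commute ((g ^ k) ^ m) x := this.pow_left m
    rw [hm] at h2
    exact h2
  · intro h
    have : Commute g x := h
    exact this.pow_left k

omit [Finite G] in
/-- the central character of a twisted function. -/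
theorem centralChar_pow (χ : G → ℂ) (k : ℕ) (hk : k.Coprime (Nat.card G)) (g : G) :
    centralChar (fun x => χ (x ^ k)) g = centralChar χ (g ^ k) := by
  have hk' : k.Coprime (orderOf g) := Nat.Coprime.coprime_dvd_right (orderOf_dvd_natCard g) hk
  unfold centralChar
  rw [centralizer_pow_eq g k hk']
  simp only [one_pow]

omit [Finite G] in
/-- the twist by a power map coprime to `|G|` preserves the principal block. -/
theorem sameBlock_one_pow (M : Ideal Cfsg.AlgInt) (χ : G → ℂ) (k : ℕ)
    (hk : k.Coprime (Nat.card G)) (h : SameBlock M (fun _ : G => (1 : ℂ)) χ) :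
    SameBlock M (fun _ : G => (1 : ℂ)) (fun x => χ (x ^ k)) := by
  intro g
  have h1 := h (g ^ k)
  rw [← centralChar_pow χ k hk g] at h1
  have h2 := centralChar_pow (fun _ : G => (1 : ℂ)) k hk g
  rw [← h2] at h1
  exact h1

omit [Finite G] in
/-- the values of an irreducible character at `1` and at an involution. -/
theorem irr_involution (χ : Cfsg.IrrCharacter G) (t : G) (ht : t ^ 2 = 1) :
    ∃ d b : ℕ, (χ : G → ℂ) 1 = d ∧ (χ : G → ℂ) t = (d : ℂ) - 2 * b ∧
      charDegree (χ : G → ℂ) = d := by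
  classical
  obtain ⟨n, ρ, _, hρ⟩ := χ.2
  obtain ⟨μ, hμ, hk⟩ := exists_character_pow_eq_sum ρ t 2 (by norm_num) ht
  have hfr : Module.finrank ℂ (Fin n → ℂ) = n := by simp
  have hμ' : ∀ i, μ i = 1 ∨ μ i = -1 := by
    intro i
    have h0 : (μ i - 1) * (μ i + 1) = 0 := by
      have := hμ i
      linear_combination this
    rcases mul_eq_zero.mp h0 with h | h
    · exact Or.inl (sub_eq_zero.mp h)
    · exact Or.inr (eq_neg_of_add_eq_zero_left h)
  have hc : ((Finset.univ : Finset (Fin (Module.finrank ℂ (Fin n → ℂ)))).card : ℂ) = n := by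
    simp
  refine ⟨n, (Finset.univ.filter fun i => μ i = -1).card, ?_, ?_, ?_⟩
  · rw [← hρ, character_one]
  · have h1 := hk 1
    rw [pow_one] at h1
    rw [← hρ, h1]
    have h2 : ∀ i, μ i ^ 1 = 1 - 2 * (if μ i = -1 then (1 : ℂ) else 0) := by
      intro i
      rcases hμ' i with h | h
      · rw [h]; norm_num
      · rw [h]; norm_num
    rw [Finset.sum_congr rfl fun i _ => h2 i, Finset.sum_sub_distrib, ← Finset.mul_sum,
      Finset.sum_boole, Finset.sum_const, nsmul_eq_mul, mul_one, hc]
  · rw [← hρ]; exact charDegree_character n ρ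

end

/-- Let G be a finite group of even order and M a maximal ideal of the algebraic integers containing 2. Let k be a natural number with g ^ k = g ^ 3 for every 2-element g and g ^ k = g for every element g of odd order (such k exist); an irreducible character χ is unchanged by g ↦ g ^ k exactly when it is fixed by the field automorphism that cubes the 2-power roots of unity and fixes the roots of unity of odd order. Then the number of members χ of the principal 2-block of odd degree with χ (g ^ k) = χ g for all g is even. -/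
theorem result {G : Type*} [Group G] [Finite G] (M : Ideal Cfsg.AlgInt) (hM : Cfsg.IsPModular 2 M) (hev : Even (Nat.card G)) (k : ℕ) (hk₁ : ∀ g : G, (∃ j : ℕ, orderOf g = 2 ^ j) → g ^ k = g ^ 3) (hk₂ : ∀ g : G, Odd (orderOf g) → g ^ k = g) : Even (Nat.card {χ : Cfsg.IrrCharacter G // χ ∈ Cfsg.principalBlock M G ∧ Odd (Cfsg.charDegree (χ : G → ℂ)) ∧ ∀ g : G, (χ : G → ℂ) (g ^ k) = (χ : G → ℂ) g}) := by
  classical
  have : Fintype G := Fintype.ofFinite G
  have hfact : Fact (Nat.Prime 2) := ⟨Nat.prime_two⟩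
  have h2card : 2 ∣ Nat.card G := hev.two_dvd
  -- `k` is coprime to `|G|`
  have hkcop : k.Coprime (Nat.card G) := by
    refine Nat.coprime_of_dvd ?_
    intro r hr hrk hrG
    have : Fact r.Prime := ⟨hr⟩
    obtain ⟨g, hg⟩ := exists_prime_orderOf_dvd_card' r hrG
    have hgk : g ^ k = 1 := by
      rw [← orderOf_dvd_iff_pow_eq_one, hg]; exact hrk
    have hg1 : g ≠ 1 := by
      intro h1; rw [h1, orderOf_one] at hg; exact hr.one_lt.ne hg
    rcases hr.eq_two_or_odd' with h2 | hodd
    · have h3 := hk₁ g ⟨1, by rw [hg, h2, pow_one]⟩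
      rw [hgk] at h3
      have hg2 : g ^ 2 = 1 := by rw [← h2, ← hg]; exact pow_orderOf_eq_one g
      apply hg1
      have : g ^ 3 = g := by rw [pow_succ, hg2, one_mul]
      rw [← this, ← h3]
    · have h3 := hk₂ g (by rw [hg]; exact hodd)
      rw [hgk] at h3
      exact hg1 h3.symm
  -- an involution
  obtain ⟨t, ht⟩ := exists_prime_orderOf_dvd_card' 2 h2card
  have ht2 : t ^ 2 = 1 := by rw [← ht]; exact pow_orderOf_eq_one t
  -- weak block orthogonality at `(1, t)`
  have hB : IsPBlock M (Cfsg.principalBlock M G) :=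
    ⟨⟨fun _ => 1, isIrrCharacter_one⟩, rfl⟩
  have hwbo := weak_block_orthogonality_sum hM hB (1 : G) t (by simp) (by rw [ht])
  -- degrees and values at `t`
  choose d b hd1 hdt hdeg using fun χ : Cfsg.IrrCharacter G => irr_involution χ t ht2
  set S : Finset (Cfsg.IrrCharacter G) :=
    Finset.univ.filter (fun χ : Cfsg.IrrCharacter G => χ ∈ Cfsg.principalBlock M G) with hS
  have hsumZ : (∑ χ ∈ S, ((d χ : ℤ) - 2 * b χ) * d χ) = 0 := by
    have : ((∑ χ ∈ S, ((d χ : ℤ) - 2 * b χ) * d χ : ℤ) : ℂ) = 0 := by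
      push_cast
      rw [← hwbo]
      refine Finset.sum_congr hS fun χ _ => ?_
      rw [hdt χ, hd1 χ, Complex.conj_natCast]
    exact_mod_cast this
  have hevsum : Even (∑ χ ∈ S, d χ * d χ) := by
    have h1 : ((∑ χ ∈ S, d χ * d χ : ℕ) : ℤ) = 2 * ∑ χ ∈ S, ((b χ : ℤ) * d χ) := by
      have h2 : (∑ χ ∈ S, ((d χ : ℤ) - 2 * b χ) * d χ) =
          (∑ χ ∈ S, (d χ : ℤ) * d χ) - 2 * ∑ χ ∈ S, ((b χ : ℤ) * d χ) := by
        rw [Finset.mul_sum, ← Finset.sum_sub_distrib]
        refine Finset.sum_congr rfl fun χ _ => ?_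
        ring
      rw [h2] at hsumZ
      push_cast
      linarith
    have h3 : Even ((∑ χ ∈ S, d χ * d χ : ℕ) : ℤ) := ⟨∑ χ ∈ S, ((b χ : ℤ) * d χ), by rw [h1]; ring⟩
    exact_mod_cast h3
  rw [Finset.even_sum_iff_even_card_odd] at hevsum
  -- the set `X` of odd degree characters in the principal block
  let X := {χ : Cfsg.IrrCharacter G // χ ∈ Cfsg.principalBlock M G ∧
    Odd (Cfsg.charDegree (χ : G → ℂ))}
  have hXcard : Even (Fintype.card X) := by
    have : Fintype.card X = (S.filter fun χ => Odd (d χ * d χ)).card := by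
      rw [Fintype.card_subtype]
      congr 1
      ext χ
      simp only [hS, Finset.mem_filter, Finset.mem_univ, true_and, hdeg χ, Nat.odd_mul, and_self]
    rw [this]; exact hevsum
  -- the twist
  let tw : Cfsg.IrrCharacter G → Cfsg.IrrCharacter G := fun χ =>
    ⟨fun g => (χ : G → ℂ) (g ^ k), isIrrCharacter_pow χ.2 k hkcop⟩
  have htwdeg : ∀ χ, Cfsg.charDegree ((tw χ : Cfsg.IrrCharacter G) : G → ℂ) =
      Cfsg.charDegree (χ : G → ℂ) := by
    intro χ
    unfold Cfsg.charDegree
    simp only [tw, one_pow]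
  let f : Function.End X := fun χ =>
    ⟨tw χ.1, sameBlock_one_pow M _ k hkcop χ.2.1, by rw [htwdeg]; exact χ.2.2⟩
  -- iterates of the twist
  have hiter : ∀ (j : ℕ) (χ : X) (g : G),
      (((f ^ j) χ : X).1 : G → ℂ) g = ((χ.1 : Cfsg.IrrCharacter G) : G → ℂ) (g ^ k ^ j) := by
    intro j
    induction j with
    | zero => intro χ g; rw [pow_zero, pow_zero, pow_one]; rfl
    | succ j ih =>
      intro χ g
      rw [pow_succ']
      change (((f ^ j) χ : X).1 : G → ℂ) (g ^ k) = _
      rw [ih χ (g ^ k), ← pow_mul, ← pow_succ']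
  -- the power map has `2`-power order
  have hpowmap : ∀ g : G, g ^ k ^ 2 ^ Nat.card G = g := by
    intro g
    obtain ⟨s, m, hm, hn⟩ := Nat.exists_eq_two_pow_mul_odd (orderOf_pos g).ne'
    have hkodd : Nat.Coprime k 2 := by
      exact Nat.Coprime.coprime_dvd_right h2card hkcop
    -- `k ≡ 1 [MOD m]`
    have hb : (g ^ 2 ^ s) ^ k = g ^ 2 ^ s := by
      apply hk₂
      have : orderOf (g ^ 2 ^ s) = m := by
        rw [orderOf_pow' g (pow_ne_zero _ two_ne_zero), hn,
          Nat.gcd_eq_right (Dvd.intro _ rfl), Nat.mul_div_cancel_left _ (pow_pos two_pos s)]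
      rw [this]; exact hm
    have hkm : k ≡ 1 [MOD m] := by
      have h1 : (g ^ 2 ^ s) ^ k = (g ^ 2 ^ s) ^ 1 := by rw [hb, pow_one]
      rw [pow_eq_pow_iff_modEq] at h1
      have : orderOf (g ^ 2 ^ s) = m := by
        rw [orderOf_pow' g (pow_ne_zero _ two_ne_zero), hn,
          Nat.gcd_eq_right (Dvd.intro _ rfl), Nat.mul_div_cancel_left _ (pow_pos two_pos s)]
      rwa [this] at h1
    have h1m : k ^ 2 ^ Nat.card G ≡ 1 [MOD m] := by
      have := hkm.pow (2 ^ Nat.card G)
      rwa [one_pow] at this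
    -- modulo `2 ^ s`
    have h12 : k ^ 2 ^ Nat.card G ≡ 1 [MOD 2 ^ s] := by
      rcases Nat.eq_zero_or_pos s with rfl | hs
      · rw [pow_zero]; exact Nat.modEq_one
      have hcop : Nat.Coprime k (2 ^ s) := Nat.Coprime.pow_right s hkodd
      have h1 := Nat.ModEq.pow_totient hcop
      rw [Nat.totient_prime_pow Nat.prime_two hs] at h1
      have hle : s - 1 ≤ Nat.card G := by
        have h2 : 2 ^ s ≤ orderOf g := by
          rw [hn]; exact Nat.le_mul_of_pos_right _ hm.pos
        have h3 : orderOf g ≤ Nat.card G := orderOf_le_card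
        have h4 : s < 2 ^ s := Nat.lt_two_pow_self
        omega
      obtain ⟨c, hc⟩ : 2 ^ (s - 1) * (2 - 1) ∣ 2 ^ Nat.card G := by
        rw [Nat.mul_one]; exact pow_dvd_pow 2 hle
      rw [hc, pow_mul]
      have := h1.pow c
      rwa [one_pow] at this
    have hmod : k ^ 2 ^ Nat.card G ≡ 1 [MOD orderOf g] := by
      rw [hn]
      have hcop2 : Nat.Coprime (2 ^ s) m := Nat.Coprime.pow_left s (Nat.coprime_two_left.mpr hm)
      exact (Nat.modEq_and_modEq_iff_modEq_mul hcop2).mp ⟨h12, h1m⟩
    conv_rhs => rw [← pow_one g]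
    rw [pow_eq_pow_iff_modEq]
    exact hmod
  have hf : f ^ 2 ^ Nat.card G = 1 := by
    funext χ
    apply Subtype.ext
    apply Subtype.ext
    funext g
    rw [hiter, hpowmap]
    rfl
  have hmod := Equiv.Perm.card_fixedPoints_modEq (p := 2) (n := Nat.card G) hf
  have hfixeven : Even (Fintype.card (Function.fixedPoints f)) := by
    rw [Nat.even_iff] at hXcard ⊢
    rw [← hmod, hXcard]
  -- identify the fixed points with the set in the statement
  have hequiv : Nat.card {χ : Cfsg.IrrCharacter G // χ ∈ Cfsg.principalBlock M G ∧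
      Odd (Cfsg.charDegree (χ : G → ℂ)) ∧ ∀ g : G, (χ : G → ℂ) (g ^ k) = (χ : G → ℂ) g} =
      Fintype.card (Function.fixedPoints f) := by
    rw [← Nat.card_eq_fintype_card]
    refine Nat.card_congr ?_
    refine
      { toFun := fun χ => ⟨⟨χ.1, χ.2.1, χ.2.2.1⟩, ?_⟩
        invFun := fun χ => ⟨χ.1.1, χ.1.2.1, χ.1.2.2, ?_⟩
        left_inv := fun χ => rfl
        right_inv := fun χ => rfl }
    · show f _ = _
      apply Subtype.ext
      apply Subtype.ext
      funext g
      exact χ.2.2.2 g
    · intro g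
      have h1 : f χ.1 = χ.1 := χ.2
      have h2 := congrArg (fun z : X => ((z.1 : Cfsg.IrrCharacter G) : G → ℂ) g) h1
      exact h2
  rw [hequiv]
  exact hfixeven

end Cfsg.Agent.S4550
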