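import Cfsg.Statements.S4560
import Cfsg.Agent.Lib.Helper35.PermCharTwoH
import Cfsg.Agent.Lib.Helper35.PermCharTwoI
import Cfsg.Agent.S0157

set_option autoImplicit false
open Cfsg

namespace Cfsg.Agent.S4560

open MulAction Equiv Cfsg.Agent.Lib.Helper35.PermCharTwo

theorem perm_four (n : ℕ) : IsMultiplyPretransitive (Perm (Fin n)) (Fin n) 4 :=
  Equiv.Perm.isMultiplyPretransitive (Fin n) 4

theorem alt_four (n : ℕ) (hn : 7 ≤ n) :
    IsMultiplyPretransitive (alternatingGroup (Fin n)) (Fin n) 4 := by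
  have h := alternatingGroup.isMultiplyPretransitive (Fin n)
  have hc : Nat.card (Fin n) = n := by simp
  exact isMultiplyPretransitive_of_le (n := Nat.card (Fin n) - 2) (by rw [hc]; omega)
    (by rw [hc]; omega)

/-- The core: an even permutation without 2-cycles and with at most three fixed points is a zero
of an irreducible character of `A_n` extending to `S_n`. -/
theorem exists_of_elt (n : ℕ) (hn : 7 ≤ n) (x : Perm (Fin n)) (hs : x ∈ alternatingGroup (Fin n))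
    (hno : ∀ i, x (x i) = i → x i = i) (r : ℕ) (hr : Nat.card {i : Fin n // x i = i} = r)
    (hr3 : r ≤ 3) :
    ∃ χ : Cfsg.IrrCharacter (alternatingGroup (Fin n)),
      (χ : alternatingGroup (Fin n) → ℂ) ⟨x, hs⟩ = 0 ∧
      ∃ ψ : Cfsg.IrrCharacter (Equiv.Perm (Fin n)), ∀ y : alternatingGroup (Fin n),
        (ψ : Equiv.Perm (Fin n) → ℂ) y = (χ : alternatingGroup (Fin n) → ℂ) y := by
  have hc : 4 ≤ Nat.card (Fin n) := by simp; omega
  have hA := alt_four n hn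
  have hP := perm_four n
  have hfix : Nat.card (fixedBy (Fin n) (⟨x, hs⟩ : alternatingGroup (Fin n))) = r := hr
  have hno' : ∀ a : Fin n, (⟨x, hs⟩ : alternatingGroup (Fin n)) •
      (⟨x, hs⟩ : alternatingGroup (Fin n)) • a = a →
      (⟨x, hs⟩ : alternatingGroup (Fin n)) • a = a := hno
  by_cases h03 : r = 0 ∨ r = 3
  · refine ⟨⟨chi2 (alternatingGroup (Fin n)) (Fin n), isIrrCharacter_chi2 hA hc⟩, ?_,
      ⟨chi2 (Perm (Fin n)) (Fin n), isIrrCharacter_chi2 hP hc⟩, fun y => rfl⟩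
    apply chi2_eq_zero _ hno'
    rw [hfix]; exact h03
  · have h12 : r = 1 ∨ r = 2 := by omega
    refine ⟨⟨chi3 (alternatingGroup (Fin n)) (Fin n), isIrrCharacter_chi3 hA hc⟩, ?_,
      ⟨chi3 (Perm (Fin n)) (Fin n), isIrrCharacter_chi3 hP hc⟩, fun y => rfl⟩
    apply chi3_eq_zero _ hno'
    rw [hfix]; exact h12

/-- the type carrying the 2-element -/
abbrev Y2 (e b : ℕ) : Type := (Fin e × Fin 8) ⊕ (Fin b × Fin 4)

/-- product of `e` 8-cycles and `b` 4-cycles -/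
def y2 (e b : ℕ) : Perm (Y2 e b) :=
  Perm.sumCongr (prodCongrRight (fun _ : Fin e => finRotate 8))
    (prodCongrRight (fun _ : Fin b => finRotate 4))

theorem free_y2 (e b : ℕ) : Free (y2 e b) :=
  free_sumCongr _ _ (free_prodCongrRight _ free_rot8) (free_prodCongrRight _ free_rot4)

theorem y2_pow (e b : ℕ) : (y2 e b) ^ 8 = 1 := by
  unfold y2
  rw [sumCongr_pow, prodCongrRight_pow, prodCongrRight_pow, rot8_pow, rot4_pow]
  ext a <;> rcases a with ⟨a, c⟩ | ⟨a, c⟩ <;> simp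

theorem sign_y2 (e b : ℕ) : Perm.sign (y2 e b) = (-1) ^ e * (-1) ^ b := by
  unfold y2
  rw [Perm.sign_sumCongr, Perm.sign_prodCongrRight, Perm.sign_prodCongrRight]
  have h8 : Perm.sign (finRotate 8) = -1 := by decide
  have h4 : Perm.sign (finRotate 4) = -1 := by decide
  simp [h8, h4]

/-- the type carrying the 3-element -/
abbrev Y3 (m : ℕ) : Type := Fin m × Fin 3

/-- product of `m` 3-cycles -/
def y3 (m : ℕ) : Perm (Y3 m) := prodCongrRight (fun _ : Fin m => finRotate 3)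

theorem free_y3 (m : ℕ) : Free (y3 m) := free_prodCongrRight _ free_rot3

theorem y3_pow (m : ℕ) : (y3 m) ^ 3 = 1 := by
  unfold y3
  rw [prodCongrRight_pow, rot3_pow]
  ext ⟨a, c⟩ <;> simp

theorem sign_y3 (m : ℕ) : Perm.sign (y3 m) = 1 := by
  unfold y3
  rw [Perm.sign_prodCongrRight]
  have h3 : Perm.sign (finRotate 3) = 1 := by decide
  simp [h3]


theorem two_part_general (n : ℕ) (hn : 8 ≤ n) :
    ∃ χ : Cfsg.IrrCharacter (alternatingGroup (Fin n)),
      (∃ x : alternatingGroup (Fin n), (∃ j : ℕ, orderOf x = 2 ^ j) ∧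
        (χ : alternatingGroup (Fin n) → ℂ) x = 0) ∧
      ∃ ψ : Cfsg.IrrCharacter (Equiv.Perm (Fin n)), ∀ x : alternatingGroup (Fin n),
        (ψ : Equiv.Perm (Fin n) → ℂ) x = (χ : alternatingGroup (Fin n) → ℂ) x := by
  -- parameters
  obtain ⟨r, e, b, hr3, hsum, hev⟩ : ∃ r e b : ℕ, r ≤ 3 ∧ r + (e * 8 + b * 4) = n ∧ Even (e + b) := by
    rcases Nat.even_or_odd (n / 4) with hm | hm
    · refine ⟨n % 4, 0, n / 4, by omega, by omega, ?_⟩
      simpa using hm
    · refine ⟨n % 4, 1, n / 4 - 2, by omega, ?_, ?_⟩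
      · have : 2 ≤ n / 4 := by omega
        omega
      · obtain ⟨k, hk⟩ := hm
        have : 2 ≤ n / 4 := by omega
        exact ⟨k, by omega⟩
  have hcard : Fintype.card (Fin r ⊕ Y2 e b) = n := by
    simp [Y2]
    omega
  let eqv : Fin r ⊕ Y2 e b ≃ Fin n := Fintype.equivFinOfCardEq hcard
  let x0 : Perm (Fin n) := mkElt eqv (y2 e b)
  have hs : x0 ∈ alternatingGroup (Fin n) := by
    rw [Equiv.Perm.mem_alternatingGroup, mkElt_sign, sign_y2, ← pow_add]
    exact Even.neg_one_pow hev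
  obtain ⟨χ, hχ0, ψ, hψ⟩ := exists_of_elt n (by omega) x0 hs
    (mkElt_no_two_cycle eqv (y2 e b) (free_y2 e b)) r
    (mkElt_card_fixed eqv (y2 e b) (free_y2 e b)) hr3
  refine ⟨χ, ⟨⟨x0, hs⟩, ?_, hχ0⟩, ψ, hψ⟩
  have h8 : x0 ^ 8 = 1 := mkElt_pow eqv (y2 e b) 8 (y2_pow e b)
  have hdvd : orderOf x0 ∣ 2 ^ 3 := orderOf_dvd_of_pow_eq_one h8
  obtain ⟨j, -, hj⟩ := (Nat.dvd_prime_pow Nat.prime_two).mp hdvd
  exact ⟨j, by rw [Subgroup.orderOf_mk]; exact hj⟩

theorem three_part (n : ℕ) (hn : 7 ≤ n) :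
    ∃ χ : Cfsg.IrrCharacter (alternatingGroup (Fin n)),
      (∃ y : alternatingGroup (Fin n), orderOf y = 3 ∧
        (χ : alternatingGroup (Fin n) → ℂ) y = 0) ∧
      ∃ ψ : Cfsg.IrrCharacter (Equiv.Perm (Fin n)), ∀ x : alternatingGroup (Fin n),
        (ψ : Equiv.Perm (Fin n) → ℂ) x = (χ : alternatingGroup (Fin n) → ℂ) x := by
  have hm : 2 ≤ n / 3 := by omega
  have hcard : Fintype.card (Fin (n % 3) ⊕ Y3 (n / 3)) = n := by
    simp [Y3]
    omega
  let eqv : Fin (n % 3) ⊕ Y3 (n / 3) ≃ Fin n := Fintype.equivFinOfCardEq hcard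
  let x0 : Perm (Fin n) := mkElt eqv (y3 (n / 3))
  have hs : x0 ∈ alternatingGroup (Fin n) := by
    rw [Equiv.Perm.mem_alternatingGroup, mkElt_sign, sign_y3]
  obtain ⟨χ, hχ0, ψ, hψ⟩ := exists_of_elt n hn x0 hs
    (mkElt_no_two_cycle eqv (y3 (n / 3)) (free_y3 _)) (n % 3)
    (mkElt_card_fixed eqv (y3 (n / 3)) (free_y3 _)) (by omega)
  refine ⟨χ, ⟨⟨x0, hs⟩, ?_, hχ0⟩, ψ, hψ⟩
  have h3 : x0 ^ 3 = 1 := mkElt_pow eqv (y3 (n / 3)) 3 (y3_pow _)
  have : Nonempty (Y3 (n / 3)) := ⟨(⟨0, by omega⟩, 0)⟩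
  have hne : x0 ≠ 1 := mkElt_ne_one eqv (y3 (n / 3)) (free_y3 _)
  have : Fact (Nat.Prime 3) := ⟨Nat.prime_three⟩
  rw [Subgroup.orderOf_mk]
  exact orderOf_eq_prime h3 hne

/-- The element `(0 1)(2 3 4 5)` of `S_7`. -/
def x7 : Perm (Fin 7) := swap 0 1 * (swap 2 3 * swap 3 4 * swap 4 5)

theorem two_part_seven :
    ∃ χ : Cfsg.IrrCharacter (alternatingGroup (Fin 7)),
      (∃ x : alternatingGroup (Fin 7), (∃ j : ℕ, orderOf x = 2 ^ j) ∧
        (χ : alternatingGroup (Fin 7) → ℂ) x = 0) ∧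
      ∃ ψ : Cfsg.IrrCharacter (Equiv.Perm (Fin 7)), ∀ x : alternatingGroup (Fin 7),
        (ψ : Equiv.Perm (Fin 7) → ℂ) x = (χ : alternatingGroup (Fin 7) → ℂ) x := by
  have hc : 4 ≤ Nat.card (Fin 7) := by simp
  have hA4 := alt_four 7 le_rfl
  have hP4 := perm_four 7
  have hA2 : IsMultiplyPretransitive (alternatingGroup (Fin 7)) (Fin 7) 2 :=
    isMultiplyPretransitive_of_le (n := 4) (by norm_num) hc
  have hP2 : IsMultiplyPretransitive (Perm (Fin 7)) (Fin 7) 2 :=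
    isMultiplyPretransitive_of_le (n := 4) (by norm_num) hc
  have hA1 : IsPretransitive (alternatingGroup (Fin 7)) (Fin 7) :=
    is_one_pretransitive_iff.mp (isMultiplyPretransitive_of_le (n := 4) (by norm_num) hc)
  have hP1 : IsPretransitive (Perm (Fin 7)) (Fin 7) :=
    is_one_pretransitive_iff.mp (isMultiplyPretransitive_of_le (n := 4) (by norm_num) hc)
  have hc2 : 2 ≤ Nat.card (Fin 7) := by simp
  have hirrA := (Cfsg.Agent.S0157.result (G := alternatingGroup (Fin 7)) (Fin 7) hc2).mpr hA2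
  have hirrP := (Cfsg.Agent.S0157.result (G := Perm (Fin 7)) (Fin 7) hc2).mpr hP2
  have hs : x7 ∈ alternatingGroup (Fin 7) := by
    rw [Equiv.Perm.mem_alternatingGroup]
    decide
  refine ⟨⟨_, hirrA⟩, ⟨⟨x7, hs⟩, ?_, ?_⟩, ⟨_, hirrP⟩, fun y => rfl⟩
  · have h4 : x7 ^ 4 = 1 := by decide
    have hdvd : orderOf x7 ∣ 2 ^ 2 := orderOf_dvd_of_pow_eq_one h4
    obtain ⟨j, -, hj⟩ := (Nat.dvd_prime_pow Nat.prime_two).mp hdvd
    exact ⟨j, by rw [Subgroup.orderOf_mk]; exact hj⟩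
  · show ((Nat.card (fixedBy (Fin 7) (⟨x7, hs⟩ : alternatingGroup (Fin 7))) : ℂ) - 1 = 0)
    have h1 : Nat.card (fixedBy (Fin 7) (⟨x7, hs⟩ : alternatingGroup (Fin 7))) = 1 := by
      show Nat.card {i : Fin 7 // x7 i = i} = 1
      rw [Nat.card_eq_fintype_card]
      decide
    rw [h1]
    norm_num

/-- For n ≥ 7 the alternating group on n letters has an irreducible character that vanishes at some 2-element and is the restriction of an irreducible character of the symmetric group, and an irreducible character that vanishes at some element of order 3 and is the restriction of an irreducible character of the symmetric group. -/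
theorem result (n : ℕ) (hn : 7 ≤ n) : (∃ χ : Cfsg.IrrCharacter (alternatingGroup (Fin n)), (∃ x : alternatingGroup (Fin n), (∃ j : ℕ, orderOf x = 2 ^ j) ∧ (χ : alternatingGroup (Fin n) → ℂ) x = 0) ∧ ∃ ψ : Cfsg.IrrCharacter (Equiv.Perm (Fin n)), ∀ x : alternatingGroup (Fin n), (ψ : Equiv.Perm (Fin n) → ℂ) x = (χ : alternatingGroup (Fin n) → ℂ) x) ∧ (∃ χ : Cfsg.IrrCharacter (alternatingGroup (Fin n)), (∃ y : alternatingGroup (Fin n), orderOf y = 3 ∧ (χ : alternatingGroup (Fin n) → ℂ) y = 0) ∧ ∃ ψ : Cfsg.IrrCharacter (Equiv.Perm (Fin n)), ∀ x : alternatingGroup (Fin n), (ψ : Equiv.Perm (Fin n) → ℂ) x = (χ : alternatingGroup (Fin n) → ℂ) x) := by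
  refine ⟨?_, three_part n hn⟩
  rcases Nat.lt_or_ge n 8 with h | h
  · have h7 : n = 7 := by omega
    subst h7
    exact two_part_seven
  · exact two_part_general n h

end Cfsg.Agent.S4560
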