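import Cfsg.Statements.S4563
import Mathlib
import Cfsg.Agent.S0006
import Cfsg.Agent.Lib.Helper81.RamifiedComplement
import Cfsg.Agent.Lib.Helper81.RamifiedSylow
import Cfsg.Agent.Lib.Helper81.RamifiedInduced

set_option autoImplicit false
open Cfsg
open Cfsg.Agent.Lib.Helper81 Cfsg.Agent.Lib.Helper75 Cfsg.Agent.Lib.Helper78

namespace Cfsg.Agent.S4563

/-- Let χ be an irreducible character of the finite group H that is fully ramified over the normal subgroup Z: the restriction of χ to Z is e times an irreducible character of Z with e ^ 2 equal to the index of Z. If K is a proper normal subgroup of H containing Z and χ is induced from a character of K, then H/K is solvable; in particular, if K is solvable then so is H. -/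
theorem result {H : Type*} [Group H] [Fintype H] (Z : Subgroup H) [Z.Normal] (χ : Cfsg.IrrCharacter H) (hfr : ∃ (θ : Cfsg.IrrCharacter ↥Z) (e : ℕ), e ^ 2 = Z.index ∧ ∀ z : ↥Z, (χ : H → ℂ) z = (e : ℂ) * (θ : ↥Z → ℂ) z) (K : Subgroup H) [K.Normal] [Fintype K] (hZK : Z ≤ K) (hK : K ≠ ⊤) (φ : ↥K → ℂ) (hφ : Cfsg.IsCharacter ↥K φ) (hind : Cfsg.indFun K φ = (χ : H → ℂ)) : Group.IsSolvable (H ⧸ K) ∧ (Group.IsSolvable ↥K → Group.IsSolvable H) := by
  classical
  obtain ⟨θ, e, he, hval⟩ := hfr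
  have : Fintype Z := Fintype.ofFinite Z
  have hres : (fun z : Z => (χ : H → ℂ) z) = (e : ℂ) • (θ : Z → ℂ) := by
    funext z
    rw [Pi.smul_apply, smul_eq_mul]
    exact hval z
  obtain ⟨-, hinv⟩ := ramified_a_to_b Z χ.2 θ.2 e hres he
  have hsolv : Group.IsSolvable (H ⧸ K) := by
    apply Cfsg.Agent.S0006.result
    intro p hp
    have : Fact p.Prime := ⟨hp⟩
    obtain ⟨S, a, b, hZS, hSZ, hHS, hKS, hfrat⟩ := exists_sylow_section Z K hZK p
    have : Fintype S := Fintype.ofFinite S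
    have : Fintype (Z.subgroupOf S) := Fintype.ofFinite _
    have : Fintype (K.subgroupOf S) := Fintype.ofFinite _
    obtain ⟨ψ, d, hψ, hresψ, hd⟩ := exists_ramified_sylow Z χ.2 θ.2 e hres he p S hZS a hSZ hHS
    have hψ1 : ψ 1 ≠ 0 := IsIrrCharacter.apply_one_ne_zero hψ
    have hα : IsCharacter (K.subgroupOf S) (fun n : K.subgroupOf S => ψ n) :=
      isCharacter_res _ (IsIrrCharacter.isCharacter hψ)
    obtain ⟨ζ, hζ⟩ := exists_irr_constituent hα hψ1
    have he₀ := classInner_res_eq_one_of_induced Z K hZK χ.2 θ.2 e hres he hφ hind p S hZS a b hSZ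
      hKS hHS hψ d hresψ hd ζ.2 hζ
    exact exists_index_of_section Z K hZK θ.2 hinv p S hZS b hKS hHS hfrat hψ d hresψ hd ζ.2 he₀
  refine ⟨hsolv, ?_⟩
  intro hKsolv
  exact Group.isSolvable_of_ker_le_range K.subtype (QuotientGroup.mk' K) (by
    intro x hx
    rw [MonoidHom.mem_ker] at hx
    have h1 : (x : H ⧸ K) = 1 := hx
    rw [QuotientGroup.eq_one_iff] at h1
    exact ⟨⟨x, h1⟩, rfl⟩)

end Cfsg.Agent.S4563
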