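import Cfsg.Statements.S4564
import Mathlib
import Cfsg.Agent.Lib.Helper81.RamifiedComplement
import Cfsg.Agent.Lib.Helper81.RamifiedSylow
import Cfsg.Agent.Lib.Helper81.CyclicSection

set_option autoImplicit false
open Cfsg
open Cfsg.Agent.Lib.Helper81 Cfsg.Agent.Lib.Helper75 Cfsg.Agent.Lib.Helper78

namespace Cfsg.Agent.S4564

/-- Let χ be an irreducible character of the finite group H that is fully ramified over the normal subgroup Z: the restriction of χ to Z is e times an irreducible character of Z with e ^ 2 equal to the index of Z. Let K be a normal subgroup of H containing Z and P a cyclic Sylow p-subgroup of H/K. Then P has a complement in H/K: a subgroup meeting P trivially whose product with P is the whole group. -/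
theorem result {H : Type*} [Group H] [Finite H] (Z : Subgroup H) [Z.Normal] (χ : Cfsg.IrrCharacter H) (hfr : ∃ (θ : Cfsg.IrrCharacter ↥Z) (e : ℕ), e ^ 2 = Z.index ∧ ∀ z : ↥Z, (χ : H → ℂ) z = (e : ℂ) * (θ : ↥Z → ℂ) z) (K : Subgroup H) [K.Normal] (hZK : Z ≤ K) (p : ℕ) [Fact p.Prime] (P : Sylow p (H ⧸ K)) (hcyc : IsCyclic P) : ∃ M : Subgroup (H ⧸ K), M.IsComplement' (P : Subgroup (H ⧸ K)) := by
  classical
  obtain ⟨θ, e, he, hval⟩ := hfr
  haveI : Fintype H := Fintype.ofFinite H
  haveI : Fintype Z := Fintype.ofFinite Z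
  have hres : (fun z : Z => (χ : H → ℂ) z) = (e : ℂ) • (θ : Z → ℂ) := by
    funext z
    rw [Pi.smul_apply, smul_eq_mul]
    exact hval z
  obtain ⟨-, hinv⟩ := ramified_a_to_b Z χ.2 θ.2 e hres he
  obtain ⟨S, a, b, hZS, hSZ, hHS, hKS, hfrat⟩ := exists_sylow_section Z K hZK p
  haveI : Fintype S := Fintype.ofFinite S
  haveI : Fintype (Z.subgroupOf S) := Fintype.ofFinite _
  haveI : Fintype (K.subgroupOf S) := Fintype.ofFinite _
  obtain ⟨ψ, d, hψ, hresψ, hd⟩ := exists_ramified_sylow Z χ.2 θ.2 e hres he p S hZS a hSZ hHS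
  have hψ1 : ψ 1 ≠ 0 := IsIrrCharacter.apply_one_ne_zero hψ
  have hα : IsCharacter (K.subgroupOf S) (fun n : K.subgroupOf S => ψ n) :=
    isCharacter_res _ (IsIrrCharacter.isCharacter hψ)
  obtain ⟨ζ, hζ⟩ := exists_irr_constituent hα hψ1
  have hcycS := isCyclic_section_of_sylow K S p P hcyc b hKS
  have he₀ := classInner_res_eq_one_of_cyclic (K.subgroupOf S) hcycS hψ ζ.2 hζ
  obtain ⟨M, hM⟩ := exists_index_of_section Z K hZK θ.2 hinv p S hZS b hKS hHS hfrat hψ d hresψ hd
    ζ.2 he₀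
  exact ⟨M, exists_complement_of_index p P M hM⟩

end Cfsg.Agent.S4564
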