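import Cfsg.Statements.S4566
import Cfsg.Agent.Lib.Helper76.Central
import Cfsg.Agent.Lib.Helper76.Galois

set_option autoImplicit false
open Cfsg

namespace Cfsg.Agent.S4566


open Cfsg.Agent.Lib.Helper76

theorem finrank_fin_fun_complex (n : ℕ) : Module.finrank ℂ (Fin n → ℂ) = n := by simp

/-- Let N be a central subgroup of the finite group G, ψ a faithful irreducible (hence degree-one) character of N, and χ an irreducible character of G whose restriction to N contains ψ. If g ∈ G and some x ∈ G has commutator x⁻¹ g⁻¹ x g in N but different from 1, then χ g = 0. -/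
theorem result {G : Type*} [Group G] [Fintype G] (N : Subgroup G) [Fintype N] (hN : N ≤ Subgroup.center G) (ψ : Cfsg.IrrCharacter ↥N) (hfaith : ∀ n : ↥N, (ψ : ↥N → ℂ) n = (ψ : ↥N → ℂ) 1 → n = 1) (χ : Cfsg.IrrCharacter G) (hover : Cfsg.classInner (fun n : ↥N => (χ : G → ℂ) n) (ψ : ↥N → ℂ) ≠ 0) (g x : G) (hcomm : x⁻¹ * g⁻¹ * x * g ∈ N) (hne : x⁻¹ * g⁻¹ * x * g ≠ 1) : (χ : G → ℂ) g = 0 := by
  classical
  obtain ⟨χf, n, ρ, hirr, rfl⟩ := χ
  obtain ⟨ψf, m, σ, hirrσ, rfl⟩ := ψ
  simp only at hfaith hover ⊢
  have := hirr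
  have := hirrσ
  have hn : (n : ℂ) ≠ 0 := by
    have := finrank_ne_zero_of_irr ρ
    rw [finrank_fin_fun_complex] at this
    exact_mod_cast this
  have hm : (m : ℂ) ≠ 0 := by
    have := finrank_ne_zero_of_irr σ
    rw [finrank_fin_fun_complex] at this
    exact_mod_cast this
  -- (L1)
  have L1 : ∀ z : G, z ∈ N → ∀ h : G,
      ρ.character (z * h) = ρ.character z / (n : ℂ) * ρ.character h := by
    intro z hz h
    have := character_central_mul ρ z (hN hz) h
    rwa [finrank_fin_fun_complex] at this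
  -- (M1)
  have M1 : ∀ z w : N, σ.character (z * w) = σ.character z / (m : ℂ) * σ.character w := by
    intro z w
    have hz : z ∈ Subgroup.center N := by
      rw [Subgroup.mem_center_iff]
      intro y
      apply Subtype.ext
      have := Subgroup.mem_center_iff.mp (hN z.2) (y : G)
      simpa using this
    have := character_central_mul σ z hz w
    rwa [finrank_fin_fun_complex] at this
  have hρ1 : ρ.character 1 = (n : ℂ) := by
    rw [Representation.char_one, finrank_fin_fun_complex]
  have hσ1 : σ.character 1 = (m : ℂ) := by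
    rw [Representation.char_one, finrank_fin_fun_complex]
  set c : N := ⟨x⁻¹ * g⁻¹ * x * g, hcomm⟩ with hc
  have hc1 : c ≠ 1 := by
    intro h
    apply hne
    have := congrArg Subtype.val h
    simpa [hc] using this
  -- the sum
  set θ : N → ℂ := fun z => ρ.character (z : G) * σ.character z⁻¹ with hθ
  set κ : ℂ := (ρ.character (c : G) / (n : ℂ)) * (σ.character c⁻¹ / (m : ℂ)) with hκ
  have hNcomm : ∀ a b : N, a * b = b * a := by
    intro a b
    apply Subtype.ext
    have := Subgroup.mem_center_iff.mp (hN a.2) (b : G)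
    simpa using this.symm
  have hθc : ∀ z : N, θ (c * z) = κ * θ z := by
    intro z
    simp only [hθ, hκ]
    rw [Subgroup.coe_mul, L1 (c : G) c.2, mul_inv_rev, hNcomm z⁻¹ c⁻¹, M1]
    ring
  have hsum : ∑ z : N, θ z ≠ 0 := by
    intro h0
    apply hover
    unfold Cfsg.classInner
    have : ∀ z : N, ρ.character (z : G) * (starRingEnd ℂ) (σ.character z) = θ z := by
      intro z
      simp only [hθ]
      rw [character_inv_eq_conj]
    simp_rw [this, h0, mul_zero]
  have hκ1 : κ = 1 := by
    have h1 : ∑ z : N, θ z = κ * ∑ z : N, θ z := by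
      rw [Finset.mul_sum, ← Equiv.sum_comp (Equiv.mulLeft c) θ]
      exact Finset.sum_congr rfl fun z _ => hθc z
    have h2 : (1 - κ) * ∑ z : N, θ z = 0 := by rw [sub_mul, one_mul, ← h1, sub_self]
    rcases mul_eq_zero.mp h2 with h | h
    · exact (sub_eq_zero.mp h).symm
    · exact absurd h hsum
  -- products of inverse values
  have hρinv : ρ.character (c : G) / (n : ℂ) * (ρ.character ((c : G)⁻¹) / (n : ℂ)) = 1 := by
    have := L1 (c : G) c.2 ((c : G)⁻¹)
    rw [mul_inv_cancel, hρ1] at this
    field_simp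
    rw [div_mul_eq_mul_div, eq_div_iff hn] at this
    rw [← this]; ring
  have hσinv : σ.character c / (m : ℂ) * (σ.character c⁻¹ / (m : ℂ)) = 1 := by
    have := M1 c c⁻¹
    rw [mul_inv_cancel, hσ1] at this
    field_simp
    rw [div_mul_eq_mul_div, eq_div_iff hm] at this
    rw [← this]; ring
  -- χ(c⁻¹)/n ≠ 1
  have hne1 : ρ.character ((c : G)⁻¹) / (n : ℂ) ≠ 1 := by
    intro h1
    rw [h1, mul_one] at hρinv
    rw [hκ, hρinv, one_mul] at hκ1
    rw [hκ1, mul_one] at hσinv
    apply hc1
    apply hfaith c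
    rw [hσ1]
    field_simp at hσinv
    exact hσinv
  -- conclusion
  have hconj : x⁻¹ * g * x = (c : G)⁻¹ * g := by
    have hcent := Subgroup.mem_center_iff.mp (hN (N.inv_mem c.2)) g
    rw [← hcent]
    simp only [hc]
    group
  have h1 : ρ.character g = ρ.character ((c : G)⁻¹) / (n : ℂ) * ρ.character g := by
    have h2 := Representation.char_conj ρ g x⁻¹
    rw [inv_inv, hconj, L1 _ (N.inv_mem c.2)] at h2
    exact h2.symm
  have h3 : (1 - ρ.character ((c : G)⁻¹) / (n : ℂ)) * ρ.character g = 0 := by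
    rw [sub_mul, one_mul, ← h1, sub_self]
  rcases mul_eq_zero.mp h3 with h | h
  · exact absurd (sub_eq_zero.mp h).symm hne1
  · exact h

end Cfsg.Agent.S4566
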