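import Cfsg.Statements.S4567
import Cfsg.Agent.Lib.Helper76.Central
import Cfsg.Agent.Lib.Helper76.Galois
import Cfsg.Agent.Lib.Helper3.IrrBasis

set_option autoImplicit false
set_option linter.unusedSectionVars false
open Cfsg

namespace Cfsg.Agent.S4567

open Cfsg.Agent.Lib.Helper76 Cfsg.Agent.Lib.Helper3
open scoped ComplexConjugate

theorem finrank_fin_fun_complex' (n : ℕ) : Module.finrank ℂ (Fin n → ℂ) = n := by simp

section part0

variable {G : Type*} [Group G] [Fintype G] (N : Subgroup G) [Fintype N]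

/-- An irreducible character of a central (hence abelian) subgroup is a homomorphism to the unit
circle. -/
theorem psi_facts (hN : N ≤ Subgroup.center G) (ψ : Cfsg.IrrCharacter ↥N) :
    (ψ : N → ℂ) 1 = 1 ∧ (∀ z w : N, (ψ : N → ℂ) (z * w) = (ψ : N → ℂ) z * (ψ : N → ℂ) w) ∧
      (∀ z : N, (ψ : N → ℂ) z⁻¹ = conj ((ψ : N → ℂ) z)) := by
  obtain ⟨ψf, m, σ, hirrσ, rfl⟩ := ψ
  have := hirrσ
  have hNcomm : ∀ a b : N, a * b = b * a := by
    intro a b
    apply Subtype.ext
    have := Subgroup.mem_center_iff.mp (hN a.2) (b : G)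
    simpa using this.symm
  have hcommInst : IsMulCommutative N := ⟨⟨hNcomm⟩⟩
  have hm : m = 1 := by
    have := Representation.IsIrreducible.finrank_eq_one_of_isMulCommutative σ
    rwa [finrank_fin_fun_complex'] at this
  subst hm
  have hσ1 : σ.character 1 = 1 := by
    rw [Representation.char_one, finrank_fin_fun_complex']; simp
  refine ⟨hσ1, ?_, fun z => character_inv_eq_conj σ z⟩
  intro z w
  have hz : z ∈ Subgroup.center N := by
    rw [Subgroup.mem_center_iff]
    intro y
    exact hNcomm y z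
  have := character_central_mul σ z hz w
  rw [finrank_fin_fun_complex'] at this
  simpa using this

end part0

section part1

variable {G : Type*} [Group G] [Fintype G] (N : Subgroup G) [Fintype N] (μ : N → ℂ)

/-- The space of class functions `f` with `f (z g) = μ z f g` for `z ∈ N`. -/
def W : Submodule ℂ (G → ℂ) where
  carrier := {f | Cfsg.IsClassFunction G f ∧ ∀ (z : N) (g : G), f (z * g) = μ z * f g}
  add_mem' := by
    rintro f₁ f₂ ⟨h1, h1'⟩ ⟨h2, h2'⟩
    refine ⟨isClassFunction_add h1 h2, fun z g => ?_⟩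
    simp only [Pi.add_apply, h1' z g, h2' z g]; ring
  zero_mem' := ⟨isClassFunction_zero, fun z g => by simp⟩
  smul_mem' := by
    rintro a f ⟨h1, h1'⟩
    refine ⟨isClassFunction_smul a h1, fun z g => ?_⟩
    simp only [Pi.smul_apply, smul_eq_mul, h1' z g]; ring

theorem mem_W {f : G → ℂ} : f ∈ W N μ ↔
    Cfsg.IsClassFunction G f ∧ ∀ (z : N) (g : G), f (z * g) = μ z * f g := Iff.rfl

variable (hN : N ≤ Subgroup.center G) (hμ1 : μ 1 = 1)
  (hμmul : ∀ z w : N, μ (z * w) = μ z * μ w) (hμinv : ∀ z : N, μ z⁻¹ = conj (μ z))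

include hμ1 hμmul in
theorem mu_mul_inv (z : N) : μ z * μ z⁻¹ = 1 := by
  rw [← hμmul, mul_inv_cancel, hμ1]

include hμ1 hμmul hμinv in
theorem mu_mul_conj (z : N) : μ z * conj (μ z) = 1 := by
  rw [← hμinv, mu_mul_inv N μ hμ1 hμmul]

include hN hμ1 hμmul hμinv in
/-- An irreducible character lies over `μ` iff it belongs to `W`. -/
theorem irr_mem_W_iff (χ : Cfsg.IrrCharacter G) :
    (χ : G → ℂ) ∈ W N μ ↔ Cfsg.classInner (fun n : N => (χ : G → ℂ) n) μ ≠ 0 := by
  classical
  obtain ⟨χf, n, ρ, hirr, rfl⟩ := χ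
  have := hirr
  simp only
  have hn : (n : ℂ) ≠ 0 := by
    have := finrank_ne_zero_of_irr ρ
    rw [finrank_fin_fun_complex'] at this
    exact_mod_cast this
  have L1 : ∀ z : G, z ∈ N → ∀ h : G,
      ρ.character (z * h) = ρ.character z / (n : ℂ) * ρ.character h := by
    intro z hz h
    have := character_central_mul ρ z (hN hz) h
    rwa [finrank_fin_fun_complex'] at this
  have hρ1 : ρ.character 1 = (n : ℂ) := by
    rw [Representation.char_one, finrank_fin_fun_complex']
  have hNpos : (Nat.card N : ℂ) ≠ 0 := by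
    have : Nat.card N ≠ 0 := Nat.card_pos.ne'
    exact_mod_cast this
  constructor
  · rintro ⟨-, h2⟩
    have h3 : ∀ z : N, ρ.character (z : G) = μ z * (n : ℂ) := by
      intro z
      have := h2 z 1
      rwa [mul_one, hρ1] at this
    unfold Cfsg.classInner
    have h4 : ∀ z : N, ρ.character (z : G) * conj (μ z) = (n : ℂ) := by
      intro z
      rw [h3 z, mul_comm (μ z), mul_assoc, mu_mul_conj N μ hμ1 hμmul hμinv, mul_one]
    simp_rw [h4]
    rw [Finset.sum_const, Finset.card_univ, nsmul_eq_mul, ← Nat.card_eq_fintype_card]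
    exact mul_ne_zero (inv_ne_zero hNpos) (mul_ne_zero hNpos hn)
  · intro hover
    refine ⟨IsIrrCharacter.isClassFunction ⟨n, ρ, hirr, rfl⟩, ?_⟩
    -- shift argument
    set θ : N → ℂ := fun z => ρ.character (z : G) * conj (μ z) with hθ
    have hsum : ∑ z : N, θ z ≠ 0 := by
      intro h0
      apply hover
      unfold Cfsg.classInner
      rw [h0, mul_zero]
    have key : ∀ c : N, ρ.character (c : G) / (n : ℂ) = μ c := by
      intro c
      set κ : ℂ := (ρ.character (c : G) / (n : ℂ)) * conj (μ c) with hκ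
      have hθc : ∀ z : N, θ (c * z) = κ * θ z := by
        intro z
        simp only [hθ, hκ]
        rw [Subgroup.coe_mul, L1 (c : G) c.2, hμmul, map_mul]
        ring
      have h1 : ∑ z : N, θ z = κ * ∑ z : N, θ z := by
        rw [Finset.mul_sum, ← Equiv.sum_comp (Equiv.mulLeft c) θ]
        exact Finset.sum_congr rfl fun z _ => hθc z
      have h2 : (1 - κ) * ∑ z : N, θ z = 0 := by rw [sub_mul, one_mul, ← h1, sub_self]
      have hκ1 : κ = 1 := by
        rcases mul_eq_zero.mp h2 with h | h
        · exact (sub_eq_zero.mp h).symm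
        · exact absurd h hsum
      have h3 := mu_mul_conj N μ hμ1 hμmul hμinv c
      calc ρ.character (c : G) / (n : ℂ)
          = ρ.character (c : G) / (n : ℂ) * (μ c * conj (μ c)) := by rw [h3, mul_one]
        _ = κ * μ c := by rw [hκ]; ring
        _ = μ c := by rw [hκ1, one_mul]
    intro z g
    rw [L1 (z : G) z.2, key z]

include hN in
/-- A class function in `W` is orthogonal to the irreducible characters outside `W`. -/
theorem classInner_eq_zero_of_not_mem (f : G → ℂ) (hf : f ∈ W N μ) (χ : Cfsg.IrrCharacter G)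
    (hχ : (χ : G → ℂ) ∉ W N μ) : Cfsg.classInner f (χ : G → ℂ) = 0 := by
  classical
  obtain ⟨χf, n, ρ, hirr, rfl⟩ := χ
  have := hirr
  simp only at hχ ⊢
  have hn : (n : ℂ) ≠ 0 := by
    have := finrank_ne_zero_of_irr ρ
    rw [finrank_fin_fun_complex'] at this
    exact_mod_cast this
  have L1 : ∀ z : G, z ∈ N → ∀ h : G,
      ρ.character (z * h) = ρ.character z / (n : ℂ) * ρ.character h := by
    intro z hz h
    have := character_central_mul ρ z (hN hz) h
    rwa [finrank_fin_fun_complex'] at this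
  have hρ1 : ρ.character 1 = (n : ℂ) := by
    rw [Representation.char_one, finrank_fin_fun_complex']
  -- some `z` with `χ z / n ≠ μ z`
  have hex : ∃ z : N, ρ.character (z : G) / (n : ℂ) ≠ μ z := by
    by_contra hall
    push Not at hall
    apply hχ
    refine ⟨IsIrrCharacter.isClassFunction ⟨n, ρ, hirr, rfl⟩, fun z g => ?_⟩
    rw [L1 (z : G) z.2, hall z]
  obtain ⟨z, hz⟩ := hex
  set lam : ℂ := ρ.character (z : G) / (n : ℂ) with hlam
  have hlamconj : lam * conj lam = 1 := by
    have h1 := L1 (z : G) z.2 ((z : G)⁻¹)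
    rw [mul_inv_cancel, hρ1, character_inv_eq_conj] at h1
    have h2 : conj lam = conj (ρ.character (z : G)) / (n : ℂ) := by
      rw [hlam, map_div₀, Complex.conj_natCast]
    rw [h2, ← hlam] at *
    field_simp
    field_simp at h1
    exact h1.symm
  have hshift : Cfsg.classInner f ρ.character = (μ z * conj lam) * Cfsg.classInner f ρ.character := by
    unfold Cfsg.classInner
    have h1 : ∑ g : G, f g * conj (ρ.character g) =
        (μ z * conj lam) * ∑ g : G, f g * conj (ρ.character g) := by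
      conv_lhs => rw [← Equiv.sum_comp (Equiv.mulLeft (z : G))
        (fun g => f g * conj (ρ.character g))]
      simp only [Equiv.coe_mulLeft]
      rw [Finset.mul_sum]
      refine Finset.sum_congr rfl fun g _ => ?_
      rw [hf.2 z g, L1 (z : G) z.2, map_mul, ← hlam]
      ring
    conv_lhs => rw [h1]
    ring
  have hne : μ z * conj lam ≠ 1 := by
    intro h1
    apply hz
    calc lam = lam * (μ z * conj lam) := by rw [h1, mul_one]
      _ = μ z * (lam * conj lam) := by ring
      _ = μ z := by rw [hlamconj, mul_one]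
  have h2 : (1 - μ z * conj lam) * Cfsg.classInner f ρ.character = 0 := by
    rw [sub_mul, one_mul, ← hshift, sub_self]
  rcases mul_eq_zero.mp h2 with h | h
  · exact absurd (sub_eq_zero.mp h).symm hne
  · exact h

include hN in
theorem finrank_W : Module.finrank ℂ (W N μ) =
    Nat.card {χ : Cfsg.IrrCharacter G // (χ : G → ℂ) ∈ W N μ} := by
  classical
  have : Fintype (Cfsg.IrrCharacter G) := Fintype.ofFinite _
  set v : {χ : Cfsg.IrrCharacter G // (χ : G → ℂ) ∈ W N μ} → (G → ℂ) := fun χ => (χ.1 : G → ℂ)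
    with hv
  have hli : LinearIndependent ℂ v :=
    (linearIndependent_irrCharacter (G := G)).comp Subtype.val Subtype.val_injective
  have hspan : Submodule.span ℂ (Set.range v) = W N μ := by
    apply le_antisymm
    · rw [Submodule.span_le]
      rintro _ ⟨χ, rfl⟩
      exact χ.2
    · intro f hf
      have hexp := classFunction_expansion f hf.1
      rw [hexp]
      refine Submodule.sum_mem _ fun χ _ => ?_
      by_cases hχ : (χ : G → ℂ) ∈ W N μ
      · exact Submodule.smul_mem _ _ (Submodule.subset_span ⟨⟨χ, hχ⟩, rfl⟩)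
      · rw [classInner_eq_zero_of_not_mem N μ hN f hf χ hχ, zero_smul]
        exact Submodule.zero_mem _
  have h1 : Module.finrank ℂ (W N μ) = Module.finrank ℂ (Submodule.span ℂ (Set.range v)) := by
    rw [hspan]
  rw [h1, finrank_span_eq_card hli, Nat.card_eq_fintype_card]

end part1

section part3

variable {G : Type*} [Group G] [Fintype G] (N : Subgroup G) [N.Normal] [Fintype N] (μ : N → ℂ)

/-- `g` is special: every `x` whose commutator with `g` lies in `N` commutes with `g`. -/
def Good (g : G) : Prop := ∀ x : G, x⁻¹ * g⁻¹ * x * g ∈ N → x * g = g * x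

/-- the conjugacy classes of `G ⧸ N` consisting of special cosets. -/
abbrev GoodClasses : Type _ :=
  {C : ConjClasses (G ⧸ N) // ∃ g : G, ConjClasses.mk (g : G ⧸ N) = C ∧ Good N g}

variable (hN : N ≤ Subgroup.center G) (hμ1 : μ 1 = 1)
  (hμmul : ∀ z w : N, μ (z * w) = μ z * μ w) (hμfaith : ∀ z : N, μ z = 1 → z = 1)

include hN hμfaith in
/-- a function in `W` vanishes at the non-special elements. -/
theorem eq_zero_of_not_good (f : G → ℂ) (hf : f ∈ W N μ) (g : G) (hg : ¬ Good N g) : f g = 0 := by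
  unfold Good at hg
  push Not at hg
  obtain ⟨x, hxN, hxg⟩ := hg
  set c : N := ⟨x⁻¹ * g⁻¹ * x * g, hxN⟩ with hc
  have hc1 : c⁻¹ ≠ 1 := by
    intro h
    apply hxg
    have h' : c = 1 := inv_eq_one.mp h
    have := congrArg Subtype.val h'
    simp only [hc, Subgroup.coe_one] at this
    have h2 : x⁻¹ * g⁻¹ * x * g = 1 := this
    calc x * g = g * x * (x⁻¹ * g⁻¹ * x * g) := by group
      _ = g * x := by rw [h2, mul_one]
  have hconj : x⁻¹ * g * x⁻¹⁻¹ = ((c⁻¹ : N) : G) * g := by
    have hcent := Subgroup.mem_center_iff.mp (hN (N.inv_mem c.2)) g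
    rw [Subgroup.coe_inv, ← hcent]
    simp only [hc]
    group
  have h1 : f g = μ c⁻¹ * f g := by
    have h2 := hf.1 g x⁻¹
    rw [hconj, hf.2] at h2
    exact h2.symm
  have h3 : (1 - μ c⁻¹) * f g = 0 := by rw [sub_mul, one_mul, ← h1, sub_self]
  rcases mul_eq_zero.mp h3 with h | h
  · exact absurd (hμfaith _ (sub_eq_zero.mp h).symm) hc1
  · exact h

/-- conjugate cosets: unwinding equality in `ConjClasses (G ⧸ N)`. -/
theorem exists_conj_of_mk_eq (g r : G)
    (h : ConjClasses.mk (g : G ⧸ N) = ConjClasses.mk (r : G ⧸ N)) :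
    ∃ (x : G) (z : N), x * g * x⁻¹ = (z : G) * r := by
  rw [ConjClasses.mk_eq_mk_iff_isConj, isConj_iff] at h
  obtain ⟨c, hc⟩ := h
  obtain ⟨x, rfl⟩ := QuotientGroup.mk_surjective c
  have h1 : ((x * g * x⁻¹ : G) : G ⧸ N) = (r : G ⧸ N) := by
    simpa using hc
  rw [QuotientGroup.eq] at h1
  refine ⟨x, ⟨(x * g * x⁻¹) * r⁻¹, ?_⟩, ?_⟩
  · have : (x * g * x⁻¹) * r⁻¹ = (x * g * x⁻¹) * ((x * g * x⁻¹)⁻¹ * r)⁻¹ * (x * g * x⁻¹)⁻¹ := by
      group
    rw [this]
    exact Subgroup.Normal.conj_mem inferInstance _ (N.inv_mem h1) _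
  · simp

/-- a chosen special representative of a special class. -/
noncomputable def rep (C : GoodClasses N) : G := Classical.choose C.2

theorem rep_spec (C : GoodClasses N) :
    ConjClasses.mk ((rep N C : G) : G ⧸ N) = C.1 ∧ Good N (rep N C) := Classical.choose_spec C.2

/-- evaluation at the chosen representatives. -/
noncomputable def Φ : W N μ →ₗ[ℂ] (GoodClasses N → ℂ) where
  toFun f := fun C => (f : G → ℂ) (rep N C)
  map_add' f₁ f₂ := by ext C; simp
  map_smul' a f := by ext C; simp

include hN hμfaith in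
theorem Φ_injective : Function.Injective (Φ N μ) := by
  rw [← LinearMap.ker_eq_bot, LinearMap.ker_eq_bot']
  rintro ⟨f, hf⟩ h0
  apply Subtype.ext
  change f = 0
  funext g
  by_cases hg : Good N g
  · set C : GoodClasses N := ⟨ConjClasses.mk (g : G ⧸ N), g, rfl, hg⟩ with hC
    have h1 : f (rep N C) = 0 := congrFun h0 C
    obtain ⟨x, z, hxz⟩ := exists_conj_of_mk_eq N g (rep N C) (rep_spec N C).1.symm
    have h2 := hf.1 g x
    rw [hxz, hf.2, h1, mul_zero] at h2
    exact h2.symm
  · exact eq_zero_of_not_good N μ hN hμfaith f hf g hg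

/-- the function in `W` supported on the classes above `r`. -/
noncomputable def fC (r : G) : G → ℂ := by
  classical exact fun g => ∑ z : N, if IsConj ((z : G) * g) r then μ z⁻¹ else 0

include hN hμ1 hμmul in
theorem fC_mem (r : G) : fC N μ r ∈ W N μ := by
  classical
  have hinv : ∀ w : N, μ w * μ w⁻¹ = 1 := fun w => by rw [← hμmul, mul_inv_cancel, hμ1]
  constructor
  · intro g h
    unfold fC
    refine Finset.sum_congr rfl fun z _ => ?_
    have : (z : G) * (h * g * h⁻¹) = h * ((z : G) * g) * h⁻¹ := by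
      have hcent := Subgroup.mem_center_iff.mp (hN z.2) h
      calc (z : G) * (h * g * h⁻¹) = ((z : G) * h) * g * h⁻¹ := by group
        _ = (h * (z : G)) * g * h⁻¹ := by rw [hcent]
        _ = h * ((z : G) * g) * h⁻¹ := by group
    rw [this]
    have hiff : IsConj (h * ((z : G) * g) * h⁻¹) r ↔ IsConj ((z : G) * g) r := by
      constructor
      · intro hc
        exact (isConj_iff.mpr ⟨h, rfl⟩ : IsConj ((z : G) * g) (h * ((z : G) * g) * h⁻¹)).trans hc
      · intro hc
        exact (isConj_iff.mpr ⟨h, rfl⟩ : IsConj ((z : G) * g) (h * ((z : G) * g) * h⁻¹)).symm.trans hc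
    simp only [hiff]
  · intro w g
    unfold fC
    rw [Finset.mul_sum]
    symm
    refine Fintype.sum_equiv (Equiv.mulRight w⁻¹) _ _ fun z => ?_
    change μ w * (if IsConj ((z : G) * g) r then μ z⁻¹ else 0) =
      if IsConj (((z * w⁻¹ : N) : G) * ((w : G) * g)) r then μ (z * w⁻¹)⁻¹ else 0
    have h1 : ((z * w⁻¹ : N) : G) * ((w : G) * g) = (z : G) * g := by
      simp only [Subgroup.coe_mul, Subgroup.coe_inv]; group
    by_cases hc : IsConj ((z : G) * g) r
    · have hc' : IsConj (((z * w⁻¹ : N) : G) * ((w : G) * g)) r := by rw [h1]; exact hc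
      rw [if_pos hc, if_pos hc', mul_inv_rev, inv_inv, hμmul]
    · have hc' : ¬ IsConj (((z * w⁻¹ : N) : G) * ((w : G) * g)) r := by rw [h1]; exact hc
      rw [if_neg hc, if_neg hc', mul_zero]

open Classical in
include hN hμ1 in
theorem fC_rep (C C' : GoodClasses N) :
    fC N μ (rep N C) (rep N C') = if C' = C then 1 else 0 := by
  unfold fC
  by_cases hCC : C' = C
  · subst hCC
    rw [if_pos rfl]
    set r := rep N C' with hr
    have hgood : Good N r := (rep_spec N C').2
    rw [Finset.sum_eq_single (1 : N)]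
    · have : IsConj (((1 : N) : G) * r) r := by
        rw [Subgroup.coe_one, one_mul]
      rw [if_pos this, inv_one, hμ1]
    · intro z _ hz1
      rw [if_neg]
      intro hconj
      apply hz1
      obtain ⟨y, hy⟩ := isConj_iff.mp hconj
      have hcent := Subgroup.mem_center_iff.mp (hN z.2)
      have h1 : y * r * y⁻¹ = (z : G)⁻¹ * r := by
        have : y * ((z : G) * r) * y⁻¹ = (z : G) * (y * r * y⁻¹) := by
          calc y * ((z : G) * r) * y⁻¹ = (y * (z : G)) * r * y⁻¹ := by group
            _ = ((z : G) * y) * r * y⁻¹ := by rw [hcent y]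
            _ = (z : G) * (y * r * y⁻¹) := by group
        rw [this] at hy
        calc y * r * y⁻¹ = (z : G)⁻¹ * ((z : G) * (y * r * y⁻¹)) := by group
          _ = (z : G)⁻¹ * r := by rw [hy]
      have h2 : (y⁻¹)⁻¹ * r⁻¹ * y⁻¹ * r ∈ N := by
        have : (y⁻¹)⁻¹ * r⁻¹ * y⁻¹ * r = (y * r * y⁻¹)⁻¹ * r := by group
        rw [this, h1]
        have : ((z : G)⁻¹ * r)⁻¹ * r = r⁻¹ * (z : G) * r := by group
        rw [this]
        have : r⁻¹ * (z : G) * r = (z : G) := by
          calc r⁻¹ * (z : G) * r = r⁻¹ * ((z : G) * r) := by group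
            _ = r⁻¹ * (r * (z : G)) := by rw [hcent r]
            _ = (z : G) := by group
        rw [this]; exact z.2
      have h3 := hgood y⁻¹ h2
      have h4 : y * r * y⁻¹ = r := by
        calc y * r * y⁻¹ = y * (r * y⁻¹) := by group
          _ = y * (y⁻¹ * r) := by rw [h3]
          _ = r := by group
      rw [h4] at h1
      have h5 : (z : G) = 1 := by
        have : (z : G)⁻¹ = 1 := by
          calc (z : G)⁻¹ = ((z : G)⁻¹ * r) * r⁻¹ := by group
            _ = r * r⁻¹ := by rw [← h1]
            _ = 1 := by group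
        exact inv_eq_one.mp this
      exact Subtype.ext h5
    · intro h; exact absurd (Finset.mem_univ _) h
  · rw [if_neg hCC]
    apply Finset.sum_eq_zero
    intro z _
    rw [if_neg]
    intro hconj
    apply hCC
    apply Subtype.ext
    rw [← (rep_spec N C').1, ← (rep_spec N C).1, ConjClasses.mk_eq_mk_iff_isConj]
    have h1 : IsConj (((z : G) * rep N C' : G) : G ⧸ N) ((rep N C : G) : G ⧸ N) :=
      (QuotientGroup.mk' N).map_isConj hconj
    have h2 : (((z : G) * rep N C' : G) : G ⧸ N) = ((rep N C' : G) : G ⧸ N) := by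
      rw [QuotientGroup.mk_mul, (QuotientGroup.eq_one_iff (z : G)).mpr z.2, one_mul]
    rw [h2] at h1
    exact h1

include hN hμ1 hμmul in
theorem Φ_surjective : Function.Surjective (Φ N μ) := by
  classical
  have : Fintype (GoodClasses N) := Fintype.ofFinite _
  intro v
  refine ⟨∑ C : GoodClasses N, v C • ⟨fC N μ (rep N C), fC_mem N μ hN hμ1 hμmul _⟩, ?_⟩
  funext C'
  rw [map_sum]
  simp only [map_smul, Finset.sum_apply, Pi.smul_apply, smul_eq_mul]
  have : ∀ C : GoodClasses N,
      (Φ N μ ⟨fC N μ (rep N C), fC_mem N μ hN hμ1 hμmul _⟩) C' = if C' = C then 1 else 0 :=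
    fun C => fC_rep N μ hN hμ1 C C'
  simp_rw [this]
  simp

include hN hμ1 hμmul hμfaith in
theorem finrank_W_eq_card_good : Module.finrank ℂ (W N μ) = Nat.card (GoodClasses N) := by
  classical
  have : Fintype (GoodClasses N) := Fintype.ofFinite _
  have e : W N μ ≃ₗ[ℂ] (GoodClasses N → ℂ) :=
    LinearEquiv.ofBijective (Φ N μ)
      ⟨Φ_injective N μ hN hμfaith, Φ_surjective N μ hN hμ1 hμmul⟩
  rw [e.finrank_eq, Module.finrank_pi, Nat.card_eq_fintype_card]

end part3

/-- Let N be a central subgroup of the finite group G and ψ a faithful irreducible (hence degree-one) character of N. Call a coset g N special when every x ∈ G whose commutator x⁻¹ g⁻¹ x g lies in N actually commutes with g (this depends only on the coset). Then the number of irreducible characters of G whose restriction to N contains ψ equals the number of conjugacy classes of G/N consisting of special cosets. -/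
theorem result {G : Type*} [Group G] [Fintype G] (N : Subgroup G) [N.Normal] [Fintype N] (hN : N ≤ Subgroup.center G) (ψ : Cfsg.IrrCharacter ↥N) (hfaith : ∀ n : ↥N, (ψ : ↥N → ℂ) n = (ψ : ↥N → ℂ) 1 → n = 1) : Nat.card {χ : Cfsg.IrrCharacter G // Cfsg.classInner (fun n : ↥N => (χ : G → ℂ) n) (ψ : ↥N → ℂ) ≠ 0} = Nat.card {C : ConjClasses (G ⧸ N) // ∃ g : G, ConjClasses.mk (g : G ⧸ N) = C ∧ ∀ x : G, x⁻¹ * g⁻¹ * x * g ∈ N → x * g = g * x} := by
  obtain ⟨hψ1, hψmul, hψinv⟩ := psi_facts N hN ψ
  have hμfaith : ∀ z : N, (ψ : N → ℂ) z = 1 → z = 1 := fun z hz => hfaith z (by rw [hz, hψ1])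
  have h1 : Nat.card {χ : Cfsg.IrrCharacter G //
      Cfsg.classInner (fun n : ↥N => (χ : G → ℂ) n) (ψ : ↥N → ℂ) ≠ 0} =
      Nat.card {χ : Cfsg.IrrCharacter G // (χ : G → ℂ) ∈ W N (ψ : N → ℂ)} :=
    Nat.card_congr (Equiv.subtypeEquivRight
      (fun χ => (irr_mem_W_iff N (ψ : N → ℂ) hN hψ1 hψmul hψinv χ).symm))
  rw [h1, ← finrank_W N (ψ : N → ℂ) hN,
    finrank_W_eq_card_good N (ψ : N → ℂ) hN hψ1 hψmul hμfaith]
  rfl

end Cfsg.Agent.S4567
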