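import Cfsg.Statements.S4571
import Cfsg.Agent.Lib.Helper82.RankQuotient
import Cfsg.Agent.Lib.Helper82.BlockInflation
import Cfsg.Agent.S0941

set_option autoImplicit false
open Cfsg

namespace Cfsg.Agent.S4571

set_option linter.style.haveILetI false

open Cfsg.Agent.Lib.Helper16 Cfsg.Agent.Lib.Helper78 Cfsg.Agent.Lib.Helper82 Cfsg.Agent.Lib.Helper77

/-- Let Q be a normal p-subgroup of the finite group G with G = Q·C_G(Q), and M a maximal ideal of the algebraic integers containing p. Then the principal p-blocks of G and of G/Q have the same p-regular rank (the same number of irreducible Brauer characters). -/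
theorem result {G : Type*} [Group G] [Finite G] (p : ℕ) [Fact p.Prime] (M : Ideal Cfsg.AlgInt) (hM : Cfsg.IsPModular p M) (Q : Subgroup G) [Q.Normal] (hQ : IsPGroup p Q) (hsup : Q ⊔ Subgroup.centralizer (Q : Set G) = ⊤) : Cfsg.blockRank p (Cfsg.principalBlock M G) = Cfsg.blockRank p (Cfsg.principalBlock M (G ⧸ Q)) := by
  classical
  have hp : p.Prime := Fact.out
  haveI : Fintype G := Fintype.ofFinite G
  haveI : Fintype (G ⧸ Q) := Fintype.ofFinite _
  haveI hMp := isPModular_isPrime hM
  have hMtop : M ≠ ⊤ := hMp.ne_top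
  -- the centralizer has `p`-power index
  have hC : ∃ k : ℕ, (Subgroup.centralizer (Q : Set G)).index = p ^ k := by
    haveI hCn : (Subgroup.centralizer (Q : Set G)).Normal := Subgroup.normal_centralizer
    have h1 : (Subgroup.centralizer (Q : Set G)).index =
        (Subgroup.centralizer (Q : Set G)).relIndex Q := by
      rw [← Subgroup.relIndex_top_right, ← hsup, Subgroup.relIndex_sup_right]
    obtain ⟨n, hn⟩ := IsPGroup.iff_card.mp hQ
    have h2 : (Subgroup.centralizer (Q : Set G)).relIndex Q ∣ p ^ n := by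
      rw [← hn]
      exact Subgroup.index_dvd_card _
    obtain ⟨k, _, hk⟩ := (Nat.dvd_prime_pow hp).mp h2
    exact ⟨k, by rw [h1, hk]⟩
  have hB : IsPBlock M (principalBlock M G) :=
    isPBlock_blockOf (⟨fun _ => 1, isIrrCharacter_one⟩ : IrrCharacter G)
  rw [blockRank_eq_blockRank_quotient p Q hM hQ hC hB]
  congr 1
  ext ψ
  have hS0941 := (Cfsg.Agent.S0941.result p M hM Q hQ hC).1
    (⟨fun _ => 1, isIrrCharacter_one⟩ : IrrCharacter (G ⧸ Q)) ψ
  rw [Set.mem_ofPred_eq, mem_principalBlock_iff, mem_principalBlock_iff]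
  exact hS0941.symm

end Cfsg.Agent.S4571
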