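import Cfsg.Statements.S4573
import Cfsg.Agent.Lib.Helper3.WreathMGroup
import Cfsg.Agent.Lib.Helper96.Schmidt

set_option autoImplicit false
universe u
open Cfsg

namespace Cfsg.Agent.S4573


open Cfsg.Agent.Lib.Helper3.MGroup Cfsg.Agent.Lib.Helper3.Wreath in
/-- every finite solvable group embeds in an M-group (Dade), by induction on the order via
the Kaloujnine–Krasner embedding -/
theorem embed_aux : ∀ (n : ℕ) (G : Type u) [Group G] [Finite G], Nat.card G = n →
    Group.IsSolvable G →
    ∃ (M : Type u) (_ : Group M) (_ : Fintype M), IsMGroup M ∧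
      ∃ f : G →* M, Function.Injective f := by
  intro n
  induction n using Nat.strong_induction_on with
  | _ n ih =>
  intro G _ _ hn hsolv
  by_cases hnt : Nontrivial G
  · obtain ⟨N, hNn, hNp⟩ := Cfsg.Agent.Lib.Helper96.exists_normal_prime_index (G := G)
    have hlt : Nat.card N < n := by
      rw [← hn, ← Subgroup.card_mul_index N]
      have h1 : 1 < N.index := hNp.one_lt
      have h2 : 0 < Nat.card N := Nat.card_pos
      nlinarith
    have hNsolv : Group.IsSolvable N := inferInstance
    obtain ⟨M₀, instG, instF, hM₀, f₀, hf₀⟩ := ih (Nat.card N) hlt N rfl hNsolv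
    have : Fintype (G ⧸ N) := Fintype.ofFinite _
    have : Fintype (M₀ ≀ᵣ (G ⧸ N)) := Fintype.ofFinite _
    have hp : (Nat.card (G ⧸ N)).Prime := by
      rw [← Subgroup.index_eq_card]
      exact hNp
    refine ⟨M₀ ≀ᵣ (G ⧸ N), inferInstance, inferInstance, isMGroup_wreath hp hM₀,
      (mapLeft f₀).comp (kk N), ?_⟩
    exact (mapLeft_injective hf₀).comp (kk_injective N)
  · have hsub : Subsingleton G := not_nontrivial_iff_subsingleton.mp hnt
    have : Fintype G := Fintype.ofFinite _
    have : IsMulCommutative G := ⟨⟨fun a b => Subsingleton.elim _ _⟩⟩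
    exact ⟨G, inferInstance, inferInstance, isMGroup_of_comm G, MonoidHom.id G,
      Function.injective_id⟩

/-- Every finite solvable group is isomorphic to a subgroup of a finite M-group, a group each of whose irreducible characters is induced from a homomorphism of some subgroup into ℂˣ. -/
theorem result {G : Type u} [Group G] [Finite G] (hsolv : Group.IsSolvable G) : ∃ (M : Type u) (_ : Group M) (_ : Fintype M), (∀ χ : M → ℂ, Cfsg.IsIrrCharacter M χ → (∃ (H : Subgroup M) (lam : ↥H →* ℂˣ), χ = Cfsg.indFun H (fun h => (lam h : ℂ)))) ∧ ∃ f : G →* M, Function.Injective f := by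
  obtain ⟨M, instG, instF, hM, f, hf⟩ := embed_aux (Nat.card G) G rfl hsolv
  exact ⟨M, instG, instF, hM, f, hf⟩

end Cfsg.Agent.S4573
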