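import Cfsg.Statements.S4575
import Cfsg.Agent.Lib.Helper16.DualSubMain

set_option autoImplicit false
open Cfsg

namespace Cfsg.Agent.S4575

/-- Let B be a 2-block of the finite group G (relative to a maximal ideal M of the algebraic integers containing 2) of defect d with defect group D. Let z be an element of D commuting with every element of D, and let b be a block of the centralizer of z with defect group D that induces B (a major subsection (z, b)). If the number of irreducible characters in B exceeds the 2-regular rank of b by at most three, then B contains at most 2 ^ d irreducible characters. -/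
theorem result {G : Type*} [Group G] [Finite G] (M : Ideal Cfsg.AlgInt) (hM : Cfsg.IsPModular 2 M) (B : Set (Cfsg.IrrCharacter G)) (hB : Cfsg.IsPBlock M B) (D : Subgroup G) (hD : Cfsg.IsDefectGroup 2 M B D) (z : G) (hzD : z ∈ D) (hzc : ∀ d ∈ D, d * z = z * d) (b : Set (Cfsg.IrrCharacter ↥(Subgroup.centralizer ({z} : Set G)))) (hb : Cfsg.IsInducedBlock M (Subgroup.centralizer ({z} : Set G)) b B) (hbD : Cfsg.IsDefectGroup 2 M b (D.subgroupOf (Subgroup.centralizer ({z} : Set G)))) (h : Nat.card B ≤ Cfsg.blockRank 2 b + 3) : Nat.card B ≤ 2 ^ Cfsg.blockDefect 2 B := by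
  classical
  have hp : (2 : ℕ).Prime := Nat.prime_two
  have : Fintype G := Fintype.ofFinite G
  have : Fintype ↥(Subgroup.centralizer ({z} : Set G)) := Fintype.ofFinite _
  have hH : ∀ g : G, g ∈ Subgroup.centralizer ({z} : Set G) ↔ Commute z g := by
    intro g
    rw [Subgroup.mem_centralizer_iff]
    constructor
    · intro h
      exact h z (Set.mem_singleton z)
    · intro h x hx
      rw [Set.mem_singleton_iff] at hx
      rw [hx]
      exact h
  have hcardD := Cfsg.Agent.Lib.Helper78.card_defectGroup hM hB hD
  have hy : ∃ k : ℕ, orderOf z = 2 ^ k := by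
    have h1 : orderOf z ∣ 2 ^ Cfsg.blockDefect 2 B := by
      rw [← hcardD]
      exact Subgroup.orderOf_dvd_natCard D hzD
    obtain ⟨k, -, hk⟩ := (Nat.dvd_prime_pow hp).mp h1
    exact ⟨k, hk⟩
  have hDle : D ≤ Subgroup.centralizer ({z} : Set G) := by
    intro d hd
    rw [hH]
    exact (hzc d hd).symm
  have hbd : Cfsg.blockDefect 2 b = Cfsg.blockDefect 2 B := by
    have h1 := Cfsg.Agent.Lib.Helper78.card_defectGroup hM hb.1 hbD
    rw [Nat.card_congr (Subgroup.subgroupOfEquivOfLe hDle).toEquiv, hcardD] at h1
    exact (Nat.pow_right_injective (le_refl 2) h1).symm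
  exact Cfsg.Agent.Lib.Helper16.card_le_pow_of_major_subsection_dual hM B z hy
    (Subgroup.centralizer ({z} : Set G)) hH b hb hbd h

end Cfsg.Agent.S4575
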