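import Cfsg.Statements.S4581
import Cfsg.Agent.S0012
import Cfsg.Agent.Lib.Helper68.FSNu
import Cfsg.Agent.Lib.Helper81.ORSelfNorm

set_option autoImplicit false
open Cfsg

namespace Cfsg.Agent.S4581

open Cfsg.Agent.Lib.Helper81.OddReal

/-- the number of linear characters of a finite group. -/
theorem card_hom_eq_index {X : Type*} [Group X] [Finite X] :
    Nat.card {μ : X →* ℂˣ // SFix false (fun q => ((μ q : ℂˣ) : ℂ))} = (commutator X).index := by
  rw [← Cfsg.Agent.Lib.Helper77.card_linear_characters,
    Nat.card_congr Cfsg.Agent.Lib.Helper77.linearCharEquiv]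
  exact Nat.card_congr (Equiv.subtypeUnivEquiv (fun μ hb => by simp at hb))

/-- the number of real linear characters of a finite `2`-group. -/
theorem card_real_hom_eq_index {X : Type*} [Group X] [Finite X] (hX : IsPGroup 2 X) :
    Nat.card {μ : X →* ℂˣ // SFix true (fun q => ((μ q : ℂˣ) : ℂ))} = (frattini X).index := by
  rw [← Cfsg.Agent.Lib.Helper68.FSNu.card_realHom hX]
  apply Nat.card_congr
  apply Equiv.subtypeEquivRight
  intro μ
  constructor
  · intro h g
    exact unit_sq_eq_one_of_real (μ g) (Nat.card_pos (α := X)).ne' (hom_pow_card μ g) (h rfl g)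
  · intro h _ g
    exact real_of_unit_sq_eq_one (μ g) (h g)

/-- Let G be a finite solvable group, P a Sylow 2-subgroup and N its normalizer. Then G and N have the same number of real-valued irreducible characters of odd degree; and every odd-degree irreducible character of G is real-valued exactly when the derived subgroup of P equals the Frattini subgroup of P and P is its own normalizer in G. -/
theorem result {G : Type*} [Group G] [Finite G] [Group.IsSolvable G] (P : Sylow 2 G) :
    Nat.card {χ : Cfsg.IrrCharacter G // (∀ g : G, ((χ : G → ℂ) g).im = 0) ∧ Odd (Cfsg.charDegree (χ : G → ℂ))} =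
      Nat.card {ψ : Cfsg.IrrCharacter (Subgroup.normalizer ((P : Subgroup G) : Set G)) // (∀ g, ((ψ : Subgroup.normalizer ((P : Subgroup G) : Set G) → ℂ) g).im = 0) ∧ Odd (Cfsg.charDegree (ψ : Subgroup.normalizer ((P : Subgroup G) : Set G) → ℂ))} ∧
    ((∀ χ : Cfsg.IrrCharacter G, Odd (Cfsg.charDegree (χ : G → ℂ)) → ∀ g : G, ((χ : G → ℂ) g).im = 0) ↔
      (commutator (P : Subgroup G) = frattini (P : Subgroup G) ∧ Subgroup.normalizer ((P : Subgroup G) : Set G) = (P : Subgroup G))) := by
  have hp : Fact (Nat.Prime 2) := ⟨Nat.prime_two⟩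
  have hQ : IsPGroup 2 (P : Subgroup G) := P.isPGroup'
  have hι : Function.Injective ((P : Subgroup G).subtype) := Subtype.coe_injective
  have hrange : ((P : Subgroup G).subtype).range = (P : Subgroup G) := Subgroup.range_subtype _
  have hoddP : Odd (P : Subgroup G).index := by
    have h1 := P.not_dvd_index
    exact Nat.odd_iff.mpr (Nat.two_dvd_ne_zero.mp h1)
  have hoddι : Odd ((P : Subgroup G).subtype).range.index := by rw [hrange]; exact hoddP
  refine ⟨real_count_normalizer hQ _ hι (P : Subgroup G) hrange hoddP, ?_⟩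
  have hle : commutator (P : Subgroup G) ≤ frattini (P : Subgroup G) :=
    (Cfsg.Agent.S0012.result 2 hQ).1
  -- the inclusion of the real odd-degree characters in the odd-degree characters
  let f : {χ : IrrCharacter G // Odd (charDegree (χ : G → ℂ)) ∧ SFix true (χ : G → ℂ)} →
      {χ : IrrCharacter G // Odd (charDegree (χ : G → ℂ)) ∧ SFix false (χ : G → ℂ)} :=
    fun χ => ⟨χ.1, χ.2.1, fun hb => by simp at hb⟩
  have hf : Function.Injective f := fun a b hab =>
    Subtype.ext (congrArg (fun x : {χ : IrrCharacter G //
      Odd (charDegree (χ : G → ℂ)) ∧ SFix false (χ : G → ℂ)} => x.1) hab)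
  constructor
  · intro hall
    have hN := self_normalizing_of_all_real hQ _ hoddι hall
    have hNP : Subgroup.normalizer ((P : Subgroup G) : Set G) = (P : Subgroup G) := by
      apply le_antisymm _ Subgroup.le_normalizer
      rw [hrange] at hN
      exact hN
    refine ⟨?_, hNP⟩
    have c1 := count_self_normalizing false hQ _ hι hoddι hN
    have c2 := count_self_normalizing true hQ _ hι hoddι hN
    have e : Nat.card {χ : IrrCharacter G //
        Odd (charDegree (χ : G → ℂ)) ∧ SFix false (χ : G → ℂ)} =
        Nat.card {χ : IrrCharacter G // Odd (charDegree (χ : G → ℂ)) ∧ SFix true (χ : G → ℂ)} :=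
      Nat.card_congr (Equiv.subtypeEquivRight (fun χ =>
        ⟨fun h => ⟨h.1, fun _ => hall χ h.1⟩, fun h => ⟨h.1, fun hb => by simp at hb⟩⟩))
    rw [c1, c2, card_hom_eq_index, card_real_hom_eq_index hQ] at e
    -- equal indices
    have h1 := Subgroup.relIndex_mul_index hle
    rw [e] at h1
    have h0 : (frattini (P : Subgroup G)).index ≠ 0 := Subgroup.index_ne_zero_of_finite
    have h2 : (commutator (P : Subgroup G)).relIndex (frattini (P : Subgroup G)) = 1 := by
      have h3 : (commutator (P : Subgroup G)).relIndex (frattini (P : Subgroup G)) *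
          (frattini (P : Subgroup G)).index = 1 * (frattini (P : Subgroup G)).index := by
        rw [h1, one_mul]
      exact Nat.eq_of_mul_eq_mul_right (Nat.pos_of_ne_zero h0) h3
    exact le_antisymm hle (Subgroup.relIndex_eq_one.mp h2)
  · rintro ⟨hcomm, hNP⟩ χ hχ
    have hN : Subgroup.normalizer ((((P : Subgroup G).subtype).range : Subgroup G) : Set G) ≤
        ((P : Subgroup G).subtype).range := by
      rw [hrange, hNP]
    have c1 := count_self_normalizing false hQ _ hι hoddι hN
    have c2 := count_self_normalizing true hQ _ hι hoddι hN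
    rw [card_hom_eq_index, hcomm] at c1
    rw [card_real_hom_eq_index hQ] at c2
    have hbij := hf.bijective_of_nat_card_le (by rw [c1, c2])
    obtain ⟨χ', hχ'⟩ := hbij.2 ⟨χ, hχ, fun hb => by simp at hb⟩
    have h1 : χ'.1 = χ := congrArg (fun x : {χ : IrrCharacter G //
      Odd (charDegree (χ : G → ℂ)) ∧ SFix false (χ : G → ℂ)} => x.1) hχ'
    rw [← h1]
    exact χ'.2.2 rfl

end Cfsg.Agent.S4581
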