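import Cfsg.Statements.S4582
import Mathlib.GroupTheory.Transfer
import Mathlib.GroupTheory.Abelianization.Finite

set_option autoImplicit false
open Cfsg

namespace Cfsg.Agent.S4582

open scoped commutatorElement

/-- conjugation by elements of `G = P N` preserves squares modulo `P'`. -/
theorem key_conj {G : Type*} [Group G] (N P : Subgroup G) [N.Normal]
    (hsup : P ⊔ N = ⊤)
    (hQ : ∀ x ∈ P ⊓ N, x ^ 2 ∈ ⁅P, P⁆)
    (y : G) (hy : y ∈ P) (g : G) (hg : g⁻¹ * y * g ∈ P) :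
    (Abelianization.of (⟨g⁻¹ * y * g, hg⟩ : P)) ^ 2 = (Abelianization.of (⟨y, hy⟩ : P)) ^ 2 := by
  have hgtop : g ∈ P ⊔ N := by rw [hsup]; trivial
  obtain ⟨u, hu, n, hn, rfl⟩ := Subgroup.mem_sup_of_normal_right.mp hgtop
  -- y' = u⁻¹ y u
  have hy' : u⁻¹ * y * u ∈ P := P.mul_mem (P.mul_mem (P.inv_mem hu) hy) hu
  set y' : G := u⁻¹ * y * u with hy'def
  have hconj : (u * n)⁻¹ * y * (u * n) = y' * (y'⁻¹ * n⁻¹ * y' * n) := by
    rw [hy'def]; group
  have hcN : y'⁻¹ * n⁻¹ * y' * n ∈ N := by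
    have h1 : y'⁻¹ * n⁻¹ * y'⁻¹⁻¹ ∈ N := Subgroup.Normal.conj_mem inferInstance _ (N.inv_mem hn) _
    rw [inv_inv] at h1
    exact N.mul_mem h1 hn
  have hcP : y'⁻¹ * n⁻¹ * y' * n ∈ P := by
    have : y'⁻¹ * n⁻¹ * y' * n = y'⁻¹ * ((u * n)⁻¹ * y * (u * n)) := by rw [hconj]; group
    rw [this]
    exact P.mul_mem (P.inv_mem hy') hg
  have hc2 : (y'⁻¹ * n⁻¹ * y' * n) ^ 2 ∈ ⁅P, P⁆ := hQ _ ⟨hcP, hcN⟩
  have e1 : (⟨(u * n)⁻¹ * y * (u * n), hg⟩ : P) = ⟨y', hy'⟩ * ⟨y'⁻¹ * n⁻¹ * y' * n, hcP⟩ := by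
    apply Subtype.ext
    simpa using hconj
  have e2 : (⟨y', hy'⟩ : P) = (⟨u, hu⟩ : P)⁻¹ * ⟨y, hy⟩ * ⟨u, hu⟩ := by
    apply Subtype.ext
    simp [hy'def]
  have e3 : (Abelianization.of (⟨y'⁻¹ * n⁻¹ * y' * n, hcP⟩ : P)) ^ 2 = 1 := by
    rw [← map_pow, ← MonoidHom.mem_ker, Abelianization.ker_of]
    have : ((⟨y'⁻¹ * n⁻¹ * y' * n, hcP⟩ : P) ^ 2 : P) ∈ (⁅P, P⁆).subgroupOf P := by
      rw [Subgroup.mem_subgroupOf]
      simpa using hc2
    rw [← Subgroup.map_subtype_commutator] at this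
    rw [Subgroup.mem_subgroupOf] at this
    obtain ⟨w, hw, hw2⟩ := this
    have : w = (⟨y'⁻¹ * n⁻¹ * y' * n, hcP⟩ : P) ^ 2 := Subtype.ext hw2
    rw [← this]; exact hw
  rw [e1, map_mul, mul_pow, e3, mul_one, e2]
  simp [mul_comm]


theorem eq_one_of_odd_pow {A : Type*} [Group A] (a : A) (m k : ℕ) (hm : Odd m)
    (h1 : a ^ m = 1) (h2 : a ^ 2 ^ k = 1) : a = 1 := by
  have hcop : Nat.Coprime m (2 ^ k) :=
    Nat.Coprime.pow_right k (Nat.coprime_two_right.mpr hm)
  have h3 : orderOf a ∣ Nat.gcd m (2 ^ k) :=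
    Nat.dvd_gcd (orderOf_dvd_of_pow_eq_one h1) (orderOf_dvd_of_pow_eq_one h2)
  rw [hcop.gcd_eq_one, Nat.dvd_one] at h3
  exact orderOf_eq_one_iff.mp h3

/-- The core statement when `G = P N`. -/
theorem core {G : Type*} [Group G] [Finite G] (N P : Subgroup G) [N.Normal]
    (hsup : P ⊔ N = ⊤) (hidx : Odd P.index) (h2 : IsPGroup 2 P)
    (hP : ∀ x ∈ P, x ^ 2 ∈ (P ⊓ N) ⊔ ⁅P, P⁆)
    (hQ : ∀ x ∈ P ⊓ N, x ^ 2 ∈ ⁅P, P⁆)
    (hodd : Odd (Nat.card (Abelianization N))) :
    ∀ x ∈ P, x ^ 2 ∈ ⁅P, P⁆ := by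
  classical
  intro x hx
  set ϕ : P →* Abelianization P := Abelianization.of with hϕ
  set T : G →* Abelianization P := MonoidHom.transfer ϕ with hT
  have hA2 : IsPGroup 2 (Abelianization P) := h2.to_quotient _
  -- Step 1: T kills N
  have step1 : ∀ n ∈ N, T n = 1 := by
    intro n hn
    have h1 : (T n) ^ (Nat.card (Abelianization N)) = 1 := by
      have : T n = Abelianization.lift (T.comp N.subtype) (Abelianization.of ⟨n, hn⟩) := by
        simp
      rw [this, ← map_pow, pow_card_eq_one', map_one]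
    obtain ⟨k, hk⟩ := hA2 (T n)
    exact eq_one_of_odd_pow _ _ k hodd h1 hk
  -- Step 2: T kills P'
  have step2 : ∀ c ∈ ⁅P, P⁆, T c = 1 := by
    intro c hc
    have : c ∈ commutator G := Subgroup.commutator_mono le_top le_top hc
    exact Abelianization.commutator_subset_ker T this
  -- Step 2': T x ^ 2 = 1
  have step2' : T x ^ 2 = 1 := by
    rw [← map_pow]
    have hle : (P ⊓ N) ⊔ ⁅P, P⁆ ≤ T.ker := by
      apply sup_le
      · intro n hn; exact step1 n hn.2
      · intro c hc; exact step2 c hc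
    exact hle (hP x hx)
  -- Step 4: formula
  have step4 : T x ^ 2 = (ϕ ⟨x, hx⟩ ^ 2) ^ P.index := by
    have : Fintype (Quotient (MulAction.orbitRel (Subgroup.zpowers (x : G)) (G ⧸ P))) :=
      Fintype.ofFinite _
    rw [hT, MonoidHom.transfer_eq_prod_quotient_orbitRel_zpowers_quot ϕ x,
      Subgroup.index_eq_sum_minimalPeriod P x, ← Finset.prod_pow_eq_pow_sum, ← Finset.prod_pow]
    apply Finset.prod_congr rfl
    intro q _
    rw [key_conj N P hsup hQ (x ^ _) (P.pow_mem hx _) _ _]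
    have e : (⟨x ^ Function.minimalPeriod (fun x_1 => x • x_1) q.out, P.pow_mem hx _⟩ : P)
        = (⟨x, hx⟩ : P) ^ Function.minimalPeriod (fun x_1 => x • x_1) q.out := by
      apply Subtype.ext; simp
    rw [e, map_pow, ← pow_mul, ← pow_mul, mul_comm]
  rw [step4] at step2'
  -- conclude
  have h5 : ϕ ⟨x, hx⟩ ^ 2 = 1 := by
    obtain ⟨k, hk⟩ := hA2 (ϕ ⟨x, hx⟩ ^ 2)
    exact eq_one_of_odd_pow _ _ k hidx step2' hk
  rw [← map_pow, ← MonoidHom.mem_ker, hϕ, Abelianization.ker_of] at h5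
  rw [← Subgroup.map_subtype_commutator]
  exact ⟨_, h5, rfl⟩

theorem commutator_subgroupOf {G : Type*} [Group G] (P K : Subgroup G) (hPK : P ≤ K) :
    ⁅P.subgroupOf K, P.subgroupOf K⁆ = (⁅P, P⁆).subgroupOf K := by
  have h1 : (⁅P.subgroupOf K, P.subgroupOf K⁆).map K.subtype = ⁅P, P⁆ := by
    rw [Subgroup.map_commutator, Subgroup.map_subgroupOf_eq_of_le hPK]
  rw [← h1, ← Subgroup.comap_subtype (Subgroup.map _ _),
    Subgroup.comap_map_eq_self_of_injective K.subtype_injective]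

/-- Let N be a normal subgroup of the finite group G, P a Sylow 2-subgroup of G and Q = P ∩ N. Suppose that P/QP' and Q/Q' are elementary abelian (every square of an element of P lies in the subgroup generated by Q and the derived subgroup of P, and every square of an element of Q lies in the derived subgroup of Q), and that the commutator factor group N/N' has odd order. Then P/P' is elementary abelian. -/
theorem result {G : Type*} [Group G] [Finite G] (N : Subgroup G) [N.Normal] (P : Sylow 2 G)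
    (hP : ∀ x ∈ (P : Subgroup G), x ^ 2 ∈ ((P : Subgroup G) ⊓ N) ⊔ ⁅(P : Subgroup G), (P : Subgroup G)⁆)
    (hQ : ∀ x ∈ (P : Subgroup G) ⊓ N, x ^ 2 ∈ ⁅(P : Subgroup G) ⊓ N, (P : Subgroup G) ⊓ N⁆)
    (hodd : Odd (Nat.card (Abelianization N))) :
    ∀ x ∈ (P : Subgroup G), x ^ 2 ∈ ⁅(P : Subgroup G), (P : Subgroup G)⁆ := by
  intro x hx
  set K : Subgroup G := (P : Subgroup G) ⊔ N with hK
  have hPK : (P : Subgroup G) ≤ K := le_sup_left
  have hNK : N ≤ K := le_sup_right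
  have hcomm : ⁅(P : Subgroup G).subgroupOf K, (P : Subgroup G).subgroupOf K⁆
      = (⁅(P : Subgroup G), (P : Subgroup G)⁆).subgroupOf K := commutator_subgroupOf _ _ hPK
  have hcommK : ⁅(P : Subgroup G), (P : Subgroup G)⁆ ≤ K :=
    (Subgroup.commutator_le_self (P : Subgroup G)).trans hPK
  have key := core (G := K) (N.subgroupOf K) ((P : Subgroup G).subgroupOf K) ?_ ?_ ?_ ?_ ?_ ?_
      ⟨x, hPK hx⟩ (by rw [Subgroup.mem_subgroupOf]; exact hx)
  · rw [hcomm, Subgroup.mem_subgroupOf] at key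
    simpa using key
  · rw [← Subgroup.subgroupOf_sup hPK hNK, Subgroup.subgroupOf_self]
  · have h1 : ¬ 2 ∣ (P : Subgroup G).index := P.not_dvd_index
    have h2 : ((P : Subgroup G).subgroupOf K).index ∣ (P : Subgroup G).index := by
      rw [← Subgroup.relIndex_mul_index hPK]
      exact Dvd.intro _ rfl
    rw [← Nat.not_even_iff_odd, even_iff_two_dvd]
    exact fun h => h1 (h.trans h2)
  · exact P.2.comap_subtype
  · intro y hy
    rw [Subgroup.mem_subgroupOf] at hy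
    have := hP y hy
    have hinf : (P : Subgroup G).subgroupOf K ⊓ N.subgroupOf K
        = ((P : Subgroup G) ⊓ N).subgroupOf K := by
      ext z; simp [Subgroup.mem_subgroupOf]
    rw [hcomm, hinf, ← Subgroup.subgroupOf_sup (inf_le_left.trans hPK) hcommK,
      Subgroup.mem_subgroupOf]
    simpa using this
  · intro y hy
    rw [hcomm, Subgroup.mem_subgroupOf]
    have hy' : (y : G) ∈ (P : Subgroup G) ⊓ N := by
      simpa [Subgroup.mem_subgroupOf] using hy
    have := hQ y hy'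
    have hle : ⁅(P : Subgroup G) ⊓ N, (P : Subgroup G) ⊓ N⁆ ≤ ⁅(P : Subgroup G), (P : Subgroup G)⁆ :=
      Subgroup.commutator_mono inf_le_left inf_le_left
    simpa using hle this
  · have e : N.subgroupOf K ≃* N := Subgroup.subgroupOfEquivOfLe hNK
    rw [Nat.card_congr e.abelianizationCongr.toEquiv]
    exact hodd

end Cfsg.Agent.S4582
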