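import Cfsg.Statements.S4583
import Cfsg.Agent.Lib.Helper75.SylowOver4

set_option autoImplicit false
set_option linter.style.haveILetI false
open Cfsg

namespace Cfsg.Agent.S4583

/-- Let N be a normal subgroup of the finite group G, p a prime, M a maximal ideal of the algebraic integers containing p, and P a Sylow p-subgroup of G. Let θ be an irreducible character of N of degree prime to p lying in the principal p-block of N, and suppose θ extends to the subgroup NP (some irreducible character of NP restricts to θ). Then some irreducible character χ of G of degree prime to p in the principal p-block of G lies over θ (θ is a constituent of the restriction of χ to N). -/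
theorem result {G : Type*} [Group G] [Finite G] (N : Subgroup G) [N.Normal] (p : ℕ) [Fact p.Prime] (M : Ideal Cfsg.AlgInt) (hM : Cfsg.IsPModular p M) (P : Sylow p G)
    (θ : Cfsg.IrrCharacter N) (hθ : θ ∈ Cfsg.principalBlock M N) (hdeg : ¬ p ∣ Cfsg.charDegree (θ : N → ℂ))
    (hext : ∃ η : Cfsg.IrrCharacter ↥(N ⊔ (P : Subgroup G)), ∀ n : N, (η : ↥(N ⊔ (P : Subgroup G)) → ℂ) (Subgroup.inclusion le_sup_left n) = (θ : N → ℂ) n) :
    ∃ χ : Cfsg.IrrCharacter G, χ ∈ Cfsg.principalBlock M G ∧ ¬ p ∣ Cfsg.charDegree (χ : G → ℂ) ∧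
      haveI := Fintype.ofFinite N; Cfsg.classInner (fun n : N => (χ : G → ℂ) n) (θ : N → ℂ) ≠ 0 := by
  classical
  haveI : Fintype G := Fintype.ofFinite G
  haveI : Fintype N := Fintype.ofFinite N
  haveI : Fintype ↥(N ⊔ (P : Subgroup G)) := Fintype.ofFinite _
  obtain ⟨η, hη⟩ := hext
  have hηB : η ∈ Cfsg.principalBlock M ↥(N ⊔ (P : Subgroup G)) :=
    Cfsg.Agent.Lib.Helper75.extension_mem_principalBlock hM N (P : Subgroup G) P.isPGroup' θ hθ η hη
  have hdegη : ¬ p ∣ Cfsg.charDegree (η : ↥(N ⊔ (P : Subgroup G)) → ℂ) := by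
    have h1 := Cfsg.Agent.Lib.Helper79.irr_apply_one_eq_charDegree η
    have h2 := Cfsg.Agent.Lib.Helper79.irr_apply_one_eq_charDegree θ
    have h3 := hη 1
    rw [map_one] at h3
    rw [h1, h2] at h3
    have h4 : Cfsg.charDegree (η : ↥(N ⊔ (P : Subgroup G)) → ℂ) =
        Cfsg.charDegree (θ : N → ℂ) := by exact_mod_cast h3
    rw [h4]
    exact hdeg
  obtain ⟨χ, hχB, hχdeg, hχη⟩ := Cfsg.Agent.Lib.Helper75.exists_principal_over_of_sylow_le hM P
    (N ⊔ (P : Subgroup G)) le_sup_right η hηB hdegη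
  refine ⟨χ, hχB, hχdeg, ?_⟩
  have hθη : Cfsg.classInner (fun n : N => (η : ↥(N ⊔ (P : Subgroup G)) → ℂ)
      (Subgroup.inclusion le_sup_left n)) (θ : N → ℂ) ≠ 0 := by
    have : (fun n : N => (η : ↥(N ⊔ (P : Subgroup G)) → ℂ)
        (Subgroup.inclusion le_sup_left n)) = (θ : N → ℂ) := funext hη
    rw [this, Cfsg.Agent.Lib.Helper78.classInner_irr_self θ.2]
    exact one_ne_zero
  have key := Cfsg.Agent.Lib.Helper75.classInner_res_ne_zero_of_tower N (N ⊔ (P : Subgroup G))
    le_sup_left χ η θ hχη hθη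
  convert key

end Cfsg.Agent.S4583
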