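import Cfsg.Statements.S4584
import Cfsg.Agent.Lib.Helper76.SmallP

set_option autoImplicit false
open Cfsg

namespace Cfsg.Agent.S4584

open Subgroup Cfsg.Agent.Lib.Helper76

/-- Let p be a prime and P a group of order p^4. Then the derived subgroup P' has order p if and only if the centre Z(P) has index p^2 in P. -/
theorem result {P : Type*} [Group P] [Finite P] (p : ℕ) [Fact p.Prime] (hP : Nat.card P = p ^ 4) :
    Nat.card (commutator P) = p ↔ (Subgroup.center P).index = p ^ 2 := by
  have hp : p.Prime := Fact.out
  have hp0 : 0 < p := hp.pos
  have hPp : IsPGroup p P := IsPGroup.of_card hP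
  have hZidx : Nat.card (center P) * (center P).index = p ^ 4 := by
    rw [← hP]; exact Subgroup.card_mul_index _
  -- existence of a non-central element gives `a` with `a ∉ Z(P)`
  have hcentr_top : ∀ a : P, centralizer ({a} : Set P) = ⊤ → a ∈ center P := by
    intro a h
    rw [mem_center_iff]
    intro g
    have hg : g ∈ centralizer ({a} : Set P) := by rw [h]; exact mem_top g
    rw [mem_centralizer_iff] at hg
    exact (hg a rfl).symm
  constructor
  · intro h
    -- `P' ≤ Z(P)`
    have hle : commutator P ≤ center P :=
      Cfsg.Agent.Lib.Helper63.normal_card_prime_le_center hPp (commutator P) h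
    -- a non-central element
    have hex : ∃ a : P, a ∉ center P := by
      by_contra hcon
      have hall : ∀ a : P, a ∈ center P := fun a => by
        by_contra ha; exact hcon ⟨a, ha⟩
      have : commutator P = ⊥ := by
        rw [_root_.commutator_def, Subgroup.commutator_eq_bot_iff_le_centralizer]
        intro x _
        rw [mem_centralizer_iff]
        intro y _
        have := hall x
        rw [mem_center_iff] at this
        exact this y
      rw [this, Subgroup.card_bot] at h
      exact hp.one_lt.ne h
    obtain ⟨a, ha⟩ := hex
    have hidx : (centralizer ({a} : Set P)).index = p := by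
      have hd := index_centralizer_dvd_card_commutator hle a
      rw [h] at hd
      rcases (Nat.dvd_prime hp).mp hd with h1 | h1
      · exact absurd (hcentr_top a (Subgroup.index_eq_one.mp h1)) ha
      · exact h1
    have hkey := card_commutator_mul_card_center_of_index_eq_prime p hP a hidx
    rw [h] at hkey
    have hZ : Nat.card (center P) = p ^ 2 := by
      apply Nat.eq_of_mul_eq_mul_left hp0
      rw [hkey]; ring
    rw [hZ] at hZidx
    have hp2 : 0 < p ^ 2 := pow_pos hp0 2
    apply Nat.eq_of_mul_eq_mul_left hp2
    rw [hZidx]; ring
  · intro h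
    have hZ : Nat.card (center P) = p ^ 2 := by
      rw [h] at hZidx
      have hp2 : 0 < p ^ 2 := pow_pos hp0 2
      apply Nat.eq_of_mul_eq_mul_right hp2
      rw [hZidx]; ring
    have hex : ∃ a : P, a ∉ center P := by
      by_contra hcon
      have : center P = ⊤ := eq_top_iff.mpr fun a _ => by
        by_contra ha; exact hcon ⟨a, ha⟩
      rw [this, Subgroup.index_top] at h
      have : 1 < p ^ 2 := Nat.one_lt_pow (by norm_num) hp.one_lt
      omega
    obtain ⟨a, ha⟩ := hex
    -- `C(a) ⊇ Z(P)⟨a⟩` has order at least `p^3`
    have haA : a ∈ centralizer ({a} : Set P) := by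
      rw [mem_centralizer_iff]
      intro c hc
      rw [Set.mem_singleton_iff] at hc; subst hc; rfl
    have hZT : center P < center P ⊔ zpowers a := by
      refine lt_of_le_of_ne le_sup_left ?_
      intro he
      apply ha
      rw [he]
      exact le_sup_right (a := center P) (mem_zpowers a)
    have hTA : center P ⊔ zpowers a ≤ centralizer ({a} : Set P) := by
      refine sup_le (Subgroup.center_le_centralizer _) ?_
      rw [zpowers_le]; exact haA
    have h3 : p ^ 3 ∣ Nat.card (centralizer ({a} : Set P)) := by
      have h1 := p_mul_card_dvd_of_lt p hPp hZT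
      rw [hZ] at h1
      have h2 := Subgroup.card_dvd_of_le hTA
      have : p ^ 3 = p * p ^ 2 := by ring
      rw [this]
      exact dvd_trans h1 h2
    have hidx : (centralizer ({a} : Set P)).index = p := by
      obtain ⟨m, hm⟩ := h3
      have h1 := Subgroup.card_mul_index (centralizer ({a} : Set P))
      rw [hP, hm] at h1
      have h2 : m * (centralizer ({a} : Set P)).index = p := by
        have hp3 : 0 < p ^ 3 := pow_pos hp0 3
        apply Nat.eq_of_mul_eq_mul_left hp3
        rw [← mul_assoc, h1]; ring
      have hd : (centralizer ({a} : Set P)).index ∣ p := Dvd.intro_left m h2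
      rcases (Nat.dvd_prime hp).mp hd with h1 | h1
      · exact absurd (hcentr_top a (Subgroup.index_eq_one.mp h1)) ha
      · exact h1
    have hkey := card_commutator_mul_card_center_of_index_eq_prime p hP a hidx
    rw [hZ] at hkey
    have hp2 : 0 < p ^ 2 := pow_pos hp0 2
    apply Nat.eq_of_mul_eq_mul_right hp2
    rw [hkey]; ring

end Cfsg.Agent.S4584
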