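import Cfsg.Statements.S4585
import Cfsg.Agent.S4584

set_option autoImplicit false
open Cfsg

namespace Cfsg.Agent.S4585

open Subgroup Cfsg.Agent.Lib.Helper76
open scoped commutatorElement

/-- In a nilpotent group, `[H, G] < H` for every nontrivial normal subgroup `H`. -/
theorem commutator_top_lt {G : Type*} [Group G] [Group.IsNilpotent G] (H : Subgroup G) [H.Normal]
    (hH : H ≠ ⊥) : ⁅H, (⊤ : Subgroup G)⁆ < H := by
  refine lt_of_le_of_ne (Subgroup.commutator_le_left H ⊤) ?_
  intro he
  apply hH
  have hall : ∀ n, H ≤ (⊤ : Subgroup G).lowerCentralSeries n := by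
    intro n
    induction n with
    | zero => exact le_top
    | succ n ih =>
      rw [Subgroup.lowerCentralSeries_succ, ← he]
      exact Subgroup.commutator_mono ih le_rfl
  have := hall (Group.nilpotencyClass G)
  rw [Subgroup.lowerCentralSeries_nilpotencyClass] at this
  exact le_bot_iff.mp this

/-- In a nilpotent group, if `G/G'` has prime order then `G' = 1`. -/
theorem commutator_eq_bot_of_index_prime {G : Type*} [Group G] [Group.IsNilpotent G] (p : ℕ)
    [hp : Fact p.Prime] (h : (commutator G).index = p) : commutator G = ⊥ := by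
  by_contra hne
  set K : Subgroup G := ⁅commutator G, (⊤ : Subgroup G)⁆ with hK
  have hlt : K < commutator G := commutator_top_lt (commutator G) hne
  have hle : K ≤ (commutator G).comap (MonoidHom.id G) := by
    rw [Subgroup.comap_id]; exact hlt.le
  let f : G ⧸ K →* G ⧸ commutator G := QuotientGroup.map K (commutator G) (MonoidHom.id G) hle
  have hcyc : IsCyclic (G ⧸ commutator G) := by
    apply isCyclic_of_prime_card (p := p)
    rw [← Subgroup.index_eq_card]; exact h
  have hker : f.ker ≤ center (G ⧸ K) := by
    intro y hy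
    obtain ⟨x, rfl⟩ := QuotientGroup.mk_surjective y
    rw [MonoidHom.mem_ker] at hy
    have hx : x ∈ commutator G := by
      have : f (QuotientGroup.mk x) = QuotientGroup.mk x := rfl
      rw [this, QuotientGroup.eq_one_iff] at hy
      exact hy
    rw [mem_center_iff]
    intro z
    obtain ⟨g, rfl⟩ := QuotientGroup.mk_surjective z
    rw [← QuotientGroup.mk_mul, ← QuotientGroup.mk_mul, QuotientGroup.eq]
    have : (g * x)⁻¹ * (x * g) = ⁅x⁻¹, g⁻¹⁆ := by rw [commutatorElement_def]; group
    rw [this]
    exact Subgroup.commutator_mem_commutator (Subgroup.inv_mem _ hx) (mem_top _)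
  have hc := MonoidHom.isMulCommutative_of_isCyclic_of_ker_le_center f hker
  have : commutator G ≤ K := Subgroup.Normal.quotient_commutative_iff_commutator_le.mp hc
  exact absurd hlt (not_lt_of_ge this)

/-- Let p be a prime and P a group of order p^4. Then P' has index p^2 in P if and only if P has maximal nilpotency class, that is, nilpotency class exactly 3. -/
theorem result {P : Type*} [Group P] [Finite P] (p : ℕ) [Fact p.Prime] (hP : Nat.card P = p ^ 4) :
    (commutator P).index = p ^ 2 ↔ Group.nilpotencyClass P = 3 := by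
  have hp : p.Prime := Fact.out
  have hp0 : 0 < p := hp.pos
  have hp1 : 1 < p := hp.one_lt
  have hPp : IsPGroup p P := IsPGroup.of_card hP
  have hnil : Group.IsNilpotent P := hPp.isNilpotent
  have hidx : Nat.card (commutator P) * (commutator P).index = p ^ 4 := by
    rw [← hP]; exact Subgroup.card_mul_index _
  set L1 : Subgroup P := commutator P with hL1
  set L2 : Subgroup P := ⁅L1, (⊤ : Subgroup P)⁆ with hL2
  set L3 : Subgroup P := ⁅L2, (⊤ : Subgroup P)⁆ with hL3
  have hL2eq : (⊤ : Subgroup P).lowerCentralSeries 2 = L2 := rfl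
  have hL3eq : (⊤ : Subgroup P).lowerCentralSeries 3 = L3 := rfl
  have hclass : Group.nilpotencyClass P = 3 ↔ L3 = ⊥ ∧ L2 ≠ ⊥ := by
    rw [← hL2eq, ← hL3eq, Subgroup.lowerCentralSeries_eq_bot_iff_nilpotencyClass_le, Ne,
      Subgroup.lowerCentralSeries_eq_bot_iff_nilpotencyClass_le]
    omega
  rw [hclass]
  constructor
  · intro h
    have hcard1 : Nat.card L1 = p ^ 2 := by
      rw [h] at hidx
      have hp2 : 0 < p ^ 2 := pow_pos hp0 2
      apply Nat.eq_of_mul_eq_mul_right hp2
      rw [hidx]; ring
    have hL1ne : L1 ≠ ⊥ := by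
      intro he
      rw [he, Subgroup.card_bot] at hcard1
      have : 1 < p ^ 2 := Nat.one_lt_pow (by norm_num) hp1
      omega
    have hlt21 : L2 < L1 := commutator_top_lt L1 hL1ne
    have hcard2 : Nat.card L2 ∣ p := by
      have := p_mul_card_dvd_of_lt p hPp hlt21
      rw [hcard1, pow_two] at this
      exact Nat.dvd_of_mul_dvd_mul_left hp0 this
    have hL3 : L3 = ⊥ := by
      by_cases h2 : L2 = ⊥
      · rw [hL3, h2]; exact Subgroup.commutator_bot_left _
      · have hlt32 : L3 < L2 := commutator_top_lt L2 h2
        have h3 := p_mul_card_dvd_of_lt p hPp hlt32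
        have h4 : p * Nat.card L3 ∣ p := dvd_trans h3 hcard2
        have h5 : Nat.card L3 ∣ 1 := by
          apply Nat.dvd_of_mul_dvd_mul_left hp0
          rwa [mul_one]
        exact Subgroup.card_eq_one.mp (Nat.dvd_one.mp h5)
    refine ⟨hL3, ?_⟩
    intro h2
    -- class two: `P' ≤ Z(P)`
    have hle : L1 ≤ center P := by
      have := Subgroup.commutator_eq_bot_iff_le_centralizer.mp h2
      rwa [Subgroup.coe_top, Subgroup.centralizer_univ] at this
    have hZidx : (center P).index ∣ p ^ 2 := by
      have := Subgroup.relIndex_mul_index hle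
      rw [h] at this
      exact Dvd.intro_left _ this
    obtain ⟨k, hk, hkidx⟩ := (Nat.dvd_prime_pow hp).mp hZidx
    have hnc : ¬ (center P).index ∣ p := by
      intro hd
      have hcomm := commutative_of_index_center_dvd_prime p hd
      apply hL1ne
      rw [hL1, _root_.commutator_def, Subgroup.commutator_eq_bot_iff_le_centralizer]
      intro x _
      rw [mem_centralizer_iff]
      intro y _
      exact hcomm y x
    have hk2 : k = 2 := by
      interval_cases k
      · exfalso; apply hnc; rw [hkidx]; simp
      · exfalso; apply hnc; rw [hkidx]; simp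
      · rfl
    rw [hk2] at hkidx
    have := (Cfsg.Agent.S4584.result p hP).mpr hkidx
    rw [← hL1, hcard1] at this
    have : 1 < p := hp1
    nlinarith
  · rintro ⟨h3, h2⟩
    have hL1ne : L1 ≠ ⊥ := by
      intro he
      apply h2
      rw [hL2, he]; exact Subgroup.commutator_bot_left _
    have hlt21 : L2 < L1 := commutator_top_lt L1 hL1ne
    have hbot2 : (⊥ : Subgroup P) < L2 := bot_lt_iff_ne_bot.mpr h2
    have hd2 : p ∣ Nat.card L2 := by
      have := p_mul_card_dvd_of_lt p hPp hbot2
      rwa [Subgroup.card_bot, mul_one] at this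
    have hd1 : p ^ 2 ∣ Nat.card L1 := by
      have := p_mul_card_dvd_of_lt p hPp hlt21
      rw [pow_two]
      exact dvd_trans (Nat.mul_dvd_mul_left p hd2) this
    obtain ⟨m, hm⟩ := hd1
    rw [hm] at hidx
    have hm2 : m * L1.index = p ^ 2 := by
      have hp2 : 0 < p ^ 2 := pow_pos hp0 2
      apply Nat.eq_of_mul_eq_mul_left hp2
      rw [← mul_assoc, hidx]; ring
    have hdvd : L1.index ∣ p ^ 2 := Dvd.intro_left m hm2
    obtain ⟨k, hk, hkidx⟩ := (Nat.dvd_prime_pow hp).mp hdvd
    have hk2 : k = 2 := by
      interval_cases k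
      · exfalso
        rw [pow_zero, Subgroup.index_eq_one] at hkidx
        have htop : (⊤ : Subgroup P) ≠ ⊥ := by
          intro he
          have : Nat.card (⊤ : Subgroup P) = 1 := by rw [he, Subgroup.card_bot]
          rw [Subgroup.card_top, hP] at this
          have : 1 < p ^ 4 := Nat.one_lt_pow (by norm_num) hp1
          omega
        have := commutator_top_lt (⊤ : Subgroup P) htop
        rw [← _root_.commutator_def, ← hL1, hkidx] at this
        exact lt_irrefl _ this
      · exfalso
        rw [pow_one] at hkidx
        exact hL1ne (commutator_eq_bot_of_index_prime p hkidx)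
      · rfl
    rw [hkidx, hk2]

end Cfsg.Agent.S4585
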