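import Cfsg.Statements.S4586
import Cfsg.Agent.Lib.Helper76.CommHom

set_option autoImplicit false
open Cfsg

namespace Cfsg.Agent.S4586

open Subgroup Cfsg.Agent.Lib.Helper76
open scoped commutatorElement

theorem sup_zpowers_eq_top {P : Type*} [Group P] (p : ℕ) [hp : Fact p.Prime] (N : Subgroup P)
    (hN : N.index = p) (x : P) (hx : x ∉ N) : N ⊔ zpowers x = ⊤ := by
  have h1 : N ≤ N ⊔ zpowers x := le_sup_left
  have h2 := Subgroup.relIndex_mul_index h1
  rw [hN] at h2
  have h3 : (N ⊔ zpowers x).index ∣ p := Dvd.intro_left _ h2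
  rcases (Nat.dvd_prime hp.out).mp h3 with h | h
  · exact Subgroup.index_eq_one.mp h
  · exfalso
    rw [h] at h2
    have h4 : N.relIndex (N ⊔ zpowers x) = 1 := by
      have hp0 : 0 < p := hp.out.pos
      exact Nat.eq_of_mul_eq_mul_right hp0 (by rw [h2, one_mul])
    have h5 : N ⊔ zpowers x ≤ N := Subgroup.relIndex_eq_one.mp h4
    exact hx (h5 (le_sup_right (a := N) (mem_zpowers x)))

theorem key {P : Type*} [Group P] [Finite P] (p : ℕ) [hp : Fact p.Prime] (N : Subgroup P)
    [hNn : N.Normal] (hN : N.index = p) (x : P) (hx : x ∉ N) :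
    (commutator P).index * Nat.card (commutator N) =
      p * Nat.card {n : N // x * n * x⁻¹ * (n : P)⁻¹ ∈ (commutator N).map N.subtype} := by
  set M : Subgroup P := (commutator N).map N.subtype with hM
  have hMeq : M = ⁅N, N⁆ := Subgroup.map_subtype_commutator N
  have hMn : M.Normal := by rw [hMeq]; infer_instance
  have hMN : M ≤ N := by rw [hMeq]; exact Subgroup.commutator_le_self N
  have hMP : M ≤ commutator P := by
    rw [hMeq, _root_.commutator_def]; exact Subgroup.commutator_mono le_top le_top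
  let π : P →* P ⧸ M := QuotientGroup.mk' M
  have hπ : Function.Surjective π := QuotientGroup.mk'_surjective M
  have hker : π.ker = M := QuotientGroup.ker_mk' M
  have hNbar : (N.map π).Normal := Subgroup.Normal.map hNn π hπ
  have hA : ∀ a ∈ N.map π, ∀ b ∈ N.map π, a * b = b * a := by
    rintro _ ⟨n, hn, rfl⟩ _ ⟨m, hm, rfl⟩
    rw [← map_mul, ← map_mul]
    show (QuotientGroup.mk (n * m) : P ⧸ M) = QuotientGroup.mk (m * n)
    rw [QuotientGroup.eq, hMeq]
    have : (n * m)⁻¹ * (m * n) = ⁅m⁻¹, n⁻¹⁆ := by rw [commutatorElement_def]; group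
    rw [this]
    exact Subgroup.commutator_mem_commutator (N.inv_mem hm) (N.inv_mem hn)
  have hx' : N.map π ⊔ zpowers (π x) = ⊤ := by
    rw [← MonoidHom.map_zpowers, ← Subgroup.map_sup, sup_zpowers_eq_top p N hN x hx,
      ← MonoidHom.range_eq_map, MonoidHom.range_eq_top]
    exact hπ
  let ψ : N →* P ⧸ M := (commHom (N.map π) hA (π x)).comp (π.subgroupMap N)
  have hrange : ψ.range = commutator (P ⧸ M) := by
    rw [MonoidHom.range_comp, MonoidHom.range_eq_top.mpr (π.subgroupMap_surjective N),
      ← MonoidHom.range_eq_map, range_commHom _ hA _ hx']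
  have hkerψ : ∀ n : N, n ∈ ψ.ker ↔ x * n * x⁻¹ * (n : P)⁻¹ ∈ M := by
    intro n
    rw [MonoidHom.mem_ker]
    show π x * π n * (π x)⁻¹ * (π n)⁻¹ = 1 ↔ _
    rw [← map_inv, ← map_inv, ← map_mul, ← map_mul, ← map_mul]
    show (QuotientGroup.mk (x * n * x⁻¹ * (n : P)⁻¹) : P ⧸ M) = 1 ↔ _
    rw [QuotientGroup.eq_one_iff]
  have hcardker : Nat.card ψ.ker =
      Nat.card {n : N // x * n * x⁻¹ * (n : P)⁻¹ ∈ M} :=
    Nat.card_congr (Equiv.subtypeEquivRight hkerψ)
  -- numerics
  have e1 : Nat.card ψ.ker * Nat.card ψ.range = Nat.card N := by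
    rw [← Subgroup.index_ker]; exact Subgroup.card_mul_index _
  have e2 : Nat.card (commutator (P ⧸ M)) * (commutator (P ⧸ M)).index = Nat.card (P ⧸ M) :=
    Subgroup.card_mul_index _
  have e3 : (commutator (P ⧸ M)).index = (commutator P).index := by
    have : commutator (P ⧸ M) = (commutator P).map π := by
      rw [_root_.commutator_def, _root_.commutator_def, Subgroup.map_commutator, ← MonoidHom.range_eq_map,
        MonoidHom.range_eq_top.mpr hπ]
    rw [this]
    exact Subgroup.index_map_eq _ hπ (by rw [hker]; exact hMP)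
  have e4 : Nat.card M * Nat.card (P ⧸ M) = Nat.card P := by
    rw [← Subgroup.index_eq_card]; exact Subgroup.card_mul_index M
  have e5 : Nat.card N * p = Nat.card P := by
    rw [← hN]; exact Subgroup.card_mul_index N
  have e6 : Nat.card M = Nat.card (commutator N) := Subgroup.card_subtype N _
  rw [hrange] at e1
  rw [e3] at e2
  rw [← hcardker, ← e6]
  have hr : 0 < Nat.card (commutator (P ⧸ M)) := Nat.card_pos
  apply Nat.eq_of_mul_eq_mul_right hr
  calc (commutator P).index * Nat.card M * Nat.card (commutator (P ⧸ M))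
      = Nat.card M * (Nat.card (commutator (P ⧸ M)) * (commutator P).index) := by ring
    _ = Nat.card P := by rw [e2, e4]
    _ = Nat.card ψ.ker * Nat.card (commutator (P ⧸ M)) * p := by rw [e1, e5]
    _ = p * Nat.card ψ.ker * Nat.card (commutator (P ⧸ M)) := by ring

/-- Let p be a prime, P a finite p-group and N a normal subgroup of P of index p. For x ∈ P write c(x) for the number of elements n of N whose commutator x n x⁻¹ n⁻¹ lies in the derived subgroup N' (so c(x)/#N' is the order of the centralizer of x acting on N/N'). Then [P : P'] = p² if and only if c(x) = p·#N' for every x ∈ P outside N, and also if and only if c(x) = p·#N' for some x ∈ P outside N. -/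
theorem result {P : Type*} [Group P] [Finite P] (p : ℕ) [Fact p.Prime] (hP : IsPGroup p P) (N : Subgroup P) [N.Normal] (hN : N.index = p) :
    ((commutator P).index = p ^ 2 ↔ ∀ x : P, x ∉ N →
        Nat.card {n : N // x * n * x⁻¹ * (n : P)⁻¹ ∈ (commutator N).map N.subtype} = p * Nat.card (commutator N)) ∧
    ((commutator P).index = p ^ 2 ↔ ∃ x : P, x ∉ N ∧
        Nat.card {n : N // x * n * x⁻¹ * (n : P)⁻¹ ∈ (commutator N).map N.subtype} = p * Nat.card (commutator N)) := by
  have _ := hP
  have hp : p.Prime := Fact.out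
  have hp0 : 0 < p := hp.pos
  have hm : 0 < Nat.card (commutator N) := Nat.card_pos
  have hex : ∃ x : P, x ∉ N := by
    by_contra h
    have : N = ⊤ := eq_top_iff.mpr fun x _ => by
      by_contra hx; exact h ⟨x, hx⟩
    rw [this, Subgroup.index_top] at hN
    exact hp.one_lt.ne hN
  have hiff : ∀ x : P, x ∉ N → ((commutator P).index = p ^ 2 ↔
      Nat.card {n : N // x * n * x⁻¹ * (n : P)⁻¹ ∈ (commutator N).map N.subtype}
        = p * Nat.card (commutator N)) := by
    intro x hx
    have hk := key p N hN x hx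
    constructor
    · intro h
      rw [h] at hk
      apply Nat.eq_of_mul_eq_mul_left hp0
      rw [← hk]; ring
    · intro h
      rw [h] at hk
      apply Nat.eq_of_mul_eq_mul_right hm
      rw [hk]; ring
  refine ⟨⟨fun h x hx => (hiff x hx).mp h, fun h => ?_⟩, ⟨fun h => ?_, fun h => ?_⟩⟩
  · obtain ⟨x, hx⟩ := hex
    exact (hiff x hx).mpr (h x hx)
  · obtain ⟨x, hx⟩ := hex
    exact ⟨x, hx, (hiff x hx).mp h⟩
  · obtain ⟨x, hx, hc⟩ := h
    exact (hiff x hx).mpr hc

end Cfsg.Agent.S4586
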