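import Cfsg.Statements.S4591
import Cfsg.Agent.Lib.Helper80.PPrimeKer
import Cfsg.Agent.S0081
import Cfsg.Agent.Lib.Helper97.PStable2
import Cfsg.Agent.Lib.Helper34.NormalPComplement
import Cfsg.Agent.Lib.Helper34.PResidual

set_option autoImplicit false
open Cfsg

namespace Cfsg.Agent.S4591

open Cfsg.Agent.Lib
open scoped commutatorElement

/-- the intersection of the kernels of the irreducible characters of `p'`-degree -/
def pPrimeKer {G : Type*} [Group G] [Fintype G] (p : ℕ) : Subgroup G :=
  ⨅ χ : {χ : IrrCharacter G // ¬ p ∣ charDegree (χ : G → ℂ)},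
    Helper80.charKer ((χ : IrrCharacter G) : G → ℂ)
      (Helper78.IsIrrCharacter.isCharacter (χ : IrrCharacter G).2)

theorem mem_pPrimeKer {G : Type*} [Group G] [Fintype G] (p : ℕ) (g : G) :
    g ∈ pPrimeKer (G := G) p ↔ ∀ χ : IrrCharacter G, ¬ p ∣ charDegree (χ : G → ℂ) →
      (χ : G → ℂ) g = (χ : G → ℂ) 1 := by
  unfold pPrimeKer
  rw [Subgroup.mem_iInf]
  constructor
  · intro h χ hχ
    exact h ⟨χ, hχ⟩
  · intro h χ
    exact h χ.1 χ.2

theorem pPrimeKer_normal {G : Type*} [Group G] [Fintype G] (p : ℕ) :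
    (pPrimeKer (G := G) p).Normal := by
  unfold pPrimeKer
  exact Subgroup.normal_iInf_normal (fun χ => Helper80.charKer_normal _)

/-- the hard inclusion -/
theorem pPrimeKer_le {G : Type*} [Group G] [Fintype G] (p : ℕ) [hp : Fact p.Prime] (P : Sylow p G)
    (N : Subgroup G)
    (hmax : ∀ L : Subgroup G, L.Normal →
      L ⊓ Subgroup.centralizer ((P : Subgroup G) : Set G) = ⊥ → L ≤ N) :
    pPrimeKer (G := G) p ≤ N ⊔ ⁅(P : Subgroup G), (P : Subgroup G)⁆ := by
  classical
  set M : Subgroup G := pPrimeKer (G := G) p with hMdef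
  have hMn : M.Normal := pPrimeKer_normal p
  have hMP : M ⊓ (P : Subgroup G) ≤ ⁅(P : Subgroup G), (P : Subgroup G)⁆ := by
    intro x hx
    obtain ⟨hxM, hxP⟩ := Subgroup.mem_inf.mp hx
    exact Helper80.mem_commutator_of_forall_pprime p P x hxP ((mem_pPrimeKer p x).mp hxM)
  have hfr : M ⊓ (P : Subgroup G) ≤ (frattini P).map (P : Subgroup G).subtype :=
    le_trans hMP (Helper97.commutator_le_map_frattini P.isPGroup')
  have hcomp : HasNormalPComplement p M := Cfsg.Agent.S0081.result P M hfr
  have hcop : (Nat.card (pResidual p M)).Coprime p :=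
    Helper34.hasNormalPComplement_iff_pResidual_coprime.mp hcomp
  let K : Subgroup G := (pResidual p M).map M.subtype
  have hKmem : ∀ g : G, g ∈ K ↔ g ∈ M ∧ (orderOf g).Coprime p := by
    intro g
    constructor
    · rintro ⟨m, hm, rfl⟩
      refine ⟨m.2, ?_⟩
      have h1 : orderOf m ∣ Nat.card (pResidual p M) := Subgroup.orderOf_dvd_natCard _ hm
      have h2 : orderOf ((M.subtype m : G)) = orderOf m := Subgroup.orderOf_coe m
      rw [h2]
      exact Nat.Coprime.coprime_dvd_left h1 hcop
    · rintro ⟨hgM, hgo⟩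
      refine ⟨⟨g, hgM⟩, ?_, rfl⟩
      apply Subgroup.subset_closure
      show (orderOf (⟨g, hgM⟩ : M)).Coprime p
      rw [Subgroup.orderOf_mk]
      exact hgo
  have hKn : K.Normal := by
    constructor
    intro k hk g
    rw [hKmem] at hk ⊢
    refine ⟨hMn.conj_mem k hk.1 g, ?_⟩
    have h5 := orderOf_injective (MulAut.conj g).toMonoidHom (MulAut.conj g).injective k
    have h6 : (MulAut.conj g).toMonoidHom k = g * k * g⁻¹ := rfl
    rw [h6] at h5
    rw [h5]
    exact hk.2
  have hKC : K ⊓ Subgroup.centralizer ((P : Subgroup G) : Set G) = ⊥ := by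
    rw [eq_bot_iff]
    intro c hc
    rw [Subgroup.mem_bot]
    obtain ⟨hcK, hcC⟩ := Subgroup.mem_inf.mp hc
    by_contra hc1
    obtain ⟨hcM, hco⟩ := (hKmem c).mp hcK
    obtain ⟨χ, hχ, hne⟩ := Helper80.exists_pprime_ne_of_centralizes p P c hcC hco hc1
    exact hne ((mem_pPrimeKer p c).mp hcM χ hχ)
  have hKN : K ≤ N := hmax K hKn hKC
  -- `M = K (M ∩ P)`
  have hS : ¬ p ∣ ((P : Subgroup G).subgroupOf M).index := by
    intro hd
    apply P.not_dvd_index
    exact dvd_trans hd (Helper76.relIndex_dvd_index_of_normal_right (P : Subgroup G) M)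
  have htop := Helper34.pResidual_sup_eq_top p ((P : Subgroup G).subgroupOf M) hS
  intro m hm
  have h1 : (⟨m, hm⟩ : M) ∈ pResidual p M ⊔ (P : Subgroup G).subgroupOf M := by
    rw [htop]
    exact Subgroup.mem_top _
  have h2 : m ∈ (pResidual p M ⊔ (P : Subgroup G).subgroupOf M).map M.subtype :=
    ⟨⟨m, hm⟩, h1, rfl⟩
  rw [Subgroup.map_sup, Subgroup.subgroupOf_map_subtype] at h2
  have h3 : K ⊔ ((P : Subgroup G) ⊓ M) ≤ N ⊔ ⁅(P : Subgroup G), (P : Subgroup G)⁆ := by
    apply sup_le_sup hKN
    rw [inf_comm]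
    exact hMP
  exact h3 h2

/-- Let G be a finite group, p a prime and P a Sylow p-subgroup, and let N be the largest normal subgroup of G in which P has trivial centralizer (N is normal with C_N(P) = 1 and contains every normal subgroup with that property). Then the intersection of the kernels of the irreducible characters of G of degree prime to p is the normal core in G of the subgroup N·P' (P' the derived subgroup of P). In particular, when G has no nontrivial normal subgroup of order prime to p, that intersection is the normal core of P'. -/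
theorem result {G : Type*} [Group G] [Finite G] (p : ℕ) [Fact p.Prime] (P : Sylow p G) (N : Subgroup G) [N.Normal]
    (hN : N ⊓ Subgroup.centralizer ((P : Subgroup G) : Set G) = ⊥)
    (hmax : ∀ L : Subgroup G, L.Normal → L ⊓ Subgroup.centralizer ((P : Subgroup G) : Set G) = ⊥ → L ≤ N) :
    {g : G | ∀ χ : Cfsg.IrrCharacter G, ¬ p ∣ Cfsg.charDegree (χ : G → ℂ) → (χ : G → ℂ) g = (χ : G → ℂ) 1} =
      ((N ⊔ ⁅(P : Subgroup G), (P : Subgroup G)⁆).normalCore : Set G) := by
  classical
  let _ : Fintype G := Fintype.ofFinite G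
  let _ : Fintype (P : Subgroup G) := Fintype.ofFinite _
  apply Set.eq_of_subset_of_subset
  · intro g hg
    have hg' : g ∈ pPrimeKer (G := G) p := (mem_pPrimeKer p g).mpr hg
    have hn : (pPrimeKer (G := G) p).Normal := pPrimeKer_normal p
    exact (Subgroup.normal_le_normalCore.mpr (pPrimeKer_le p P N hmax)) hg'
  · intro l hl χ hχ
    obtain ⟨lam, hlam⟩ := Helper80.exists_linear_constituent p (P : Subgroup G) P.isPGroup' χ hχ
    have hnorm : ((N ⊔ ⁅(P : Subgroup G), (P : Subgroup G)⁆).normalCore).Normal :=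
      Subgroup.normalCore_normal _
    exact Helper80.le_ker_of_le_sup_commutator χ (P : Subgroup G) lam hlam N
      (fun k hk => Helper80.le_ker_of_fpf p P N hN χ hχ k hk) _ (Subgroup.normalCore_le _) l hl

end Cfsg.Agent.S4591
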