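import Cfsg.Statements.S4602
import Cfsg.Agent.Lib.Helper76.PCore

set_option autoImplicit false
open Cfsg

namespace Cfsg.Agent.S4602


open Cfsg.Agent.Lib.Helper76

/-- If `N ⊔ K = ⊤` with `K` normal, then the index of `N` divides the order of `K`. -/
theorem index_dvd_card_of_sup_eq_top {G : Type*} [Group G] [Finite G] (N K : Subgroup G)
    [K.Normal] (h : N ⊔ K = ⊤) : N.index ∣ Nat.card K := by
  have h1 : K.index = K.relIndex N := by
    rw [← Subgroup.relIndex_top_right, ← h, Subgroup.relIndex_sup_right]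
  have h2 : Nat.card K * K.index = Nat.card G := Subgroup.card_mul_index K
  have h3 : Nat.card N * N.index = Nat.card G := Subgroup.card_mul_index N
  have h4 : Nat.card (K.subgroupOf N) * K.relIndex N = Nat.card N := Subgroup.card_mul_index _
  have hpos : 0 < K.relIndex N := by
    rw [← h1]; exact Nat.pos_of_ne_zero Subgroup.index_ne_zero_of_finite
  refine ⟨Nat.card (K.subgroupOf N), ?_⟩
  have : Nat.card K * K.relIndex N = (N.index * Nat.card (K.subgroupOf N)) * K.relIndex N := by
    rw [← h1, h2, ← h3, ← h4, h1]; ring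
  exact Nat.eq_of_mul_eq_mul_right hpos this

theorem forward {G : Type*} [Group G] [Finite G] (p q : ℕ) [Fact p.Prime] [Fact q.Prime]
    (hpq : p ≠ q) (hsolv : Cfsg.IsPSolvable p G)
    (P : Sylow p G) (Q : Sylow q G)
    (hPQ : (P : Subgroup G) ≤ Subgroup.normalizer ((Q : Subgroup G) : Set G)) :
    ¬ q ∣ (Cfsg.pPrimeCore p G).index := by
  have hK : (pPrimeCore p G).Normal := inferInstance
  set K := pPrimeCore p G with hKdef
  set π := QuotientGroup.mk' K with hπ
  have hsurj : Function.Surjective π := QuotientGroup.mk'_surjective K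
  have hker : π.ker = K := QuotientGroup.ker_mk' K
  have hsolv' : IsPSolvable p (G ⧸ K) := IsPSolvable_of_surjective p π hsurj hsolv
  have hcore' : ∀ N : Subgroup (G ⧸ K), N.Normal → (Nat.card N).Coprime p → N = ⊥ :=
    fun N hN hc => quotient_pPrimeCore_core_trivial p N hN hc
  have hQbar : IsPGroup q ((Q : Subgroup G).map π) := Q.2.map π
  have hnorm : ((P.mapSurjective hsurj : Sylow p (G ⧸ K)) : Subgroup (G ⧸ K)) ≤
      Subgroup.normalizer (((Q : Subgroup G).map π : Subgroup (G ⧸ K)) : Set (G ⧸ K)) := by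
    rw [Sylow.coe_mapSurjective]
    calc (P : Subgroup G).map π ≤ (Subgroup.normalizer ((Q : Subgroup G) : Set G)).map π :=
          Subgroup.map_mono hPQ
      _ ≤ _ := Subgroup.le_normalizer_map π
  have hbot := eq_bot_of_sylow_le_normalizer p q hpq hsolv' hcore' (P.mapSurjective hsurj)
    ((Q : Subgroup G).map π) hQbar hnorm
  have hQK : (Q : Subgroup G) ≤ K := by
    rw [← hker]; exact (Subgroup.map_eq_bot_iff _).mp hbot
  intro hdvd
  exact Q.not_dvd_index (hdvd.trans (Subgroup.index_dvd_of_le hQK))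

theorem backward {G : Type*} [Group G] [Finite G] (p q : ℕ) [Fact p.Prime] [Fact q.Prime]
    (h : ¬ q ∣ (Cfsg.pPrimeCore p G).index) :
    ∃ (P : Sylow p G) (Q : Sylow q G),
      (P : Subgroup G) ≤ Subgroup.normalizer ((Q : Subgroup G) : Set G) := by
  have hK : (pPrimeCore p G).Normal := inferInstance
  set K := pPrimeCore p G with hKdef
  obtain ⟨Q⟩ : Nonempty (Sylow q G) := inferInstance
  -- `Q ≤ K`
  have hQK : (Q : Subgroup G) ≤ K := by
    rw [← Subgroup.relIndex_eq_one]
    have h1 : K.relIndex Q ∣ K.index := Subgroup.relIndex_dvd_index_of_normal K Q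
    have h2 : K.relIndex Q ∣ Nat.card Q := Subgroup.relIndex_dvd_card K Q
    obtain ⟨k, hk⟩ := IsPGroup.iff_card.mp Q.2
    rw [hk] at h2
    obtain ⟨j, _, hj⟩ := (Nat.dvd_prime_pow Fact.out).mp h2
    rcases Nat.eq_zero_or_pos j with rfl | hjpos
    · simpa using hj
    · exfalso
      apply h
      refine dvd_trans ?_ h1
      rw [hj]
      exact dvd_pow_self q hjpos.ne'
  have hsup : Subgroup.normalizer ((Q : Subgroup G) : Set G) ⊔ K = ⊤ :=
    Sylow.normalizer_sup_eq_top' Q hQK
  have hidx : ¬ p ∣ (Subgroup.normalizer ((Q : Subgroup G) : Set G)).index := by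
    intro hp
    have h1 := hp.trans (index_dvd_card_of_sup_eq_top _ K hsup)
    have h2 : (Nat.card K).Coprime p := pPrimeCore_coprime p
    have hp' : p.Prime := Fact.out
    exact hp'.one_lt.ne' (Nat.Coprime.eq_one_of_dvd h2.symm h1)
  set NQ := Subgroup.normalizer ((Q : Subgroup G) : Set G) with hNQ
  obtain ⟨P1⟩ : Nonempty (Sylow p NQ) := inferInstance
  have hP2 : IsPGroup p ((P1 : Subgroup NQ).map NQ.subtype) := P1.2.map _
  have hP2idx : ¬ p ∣ ((P1 : Subgroup NQ).map NQ.subtype).index := by
    rw [Subgroup.index_map_subtype]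
    exact Nat.Prime.not_dvd_mul Fact.out P1.not_dvd_index hidx
  refine ⟨hP2.toSylow hP2idx, Q, ?_⟩
  intro x hx
  have hx' : x ∈ (P1 : Subgroup NQ).map NQ.subtype := (IsPGroup.mem_toSylow hP2 hP2idx).mp hx
  exact Subgroup.map_subtype_le _ hx'

/-- Let G be a finite p-solvable group and q a prime different from p. Some Sylow p-subgroup of G normalizes some Sylow q-subgroup of G if and only if q does not divide the order of G/O_{p'}(G), the quotient by the largest normal subgroup of order prime to p. -/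
theorem result {G : Type*} [Group G] [Finite G] (p q : ℕ) [Fact p.Prime] [Fact q.Prime] (hpq : p ≠ q) (hsolv : Cfsg.IsPSolvable p G) :
    (∃ (P : Sylow p G) (Q : Sylow q G), (P : Subgroup G) ≤ Subgroup.normalizer ((Q : Subgroup G) : Set G)) ↔ ¬ q ∣ (Cfsg.pPrimeCore p G).index := by
  constructor
  · rintro ⟨P, Q, hPQ⟩
    exact forward p q hpq hsolv P Q hPQ
  · intro h
    exact backward p q h

end Cfsg.Agent.S4602
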