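import Cfsg.Statements.S4601
import Cfsg.Agent.S4602
import Cfsg.Agent.Lib.Helper76.SylowNorm

set_option autoImplicit false
open Cfsg

namespace Cfsg.Agent.S4601

open Subgroup Pointwise
open Cfsg.Agent.Lib.Helper76 Cfsg.Agent.Lib.Helper54

universe u

/-- The `p`-solvable case. -/
theorem caseP {G : Type*} [Group G] [Finite G] (p q : ℕ) [Fact p.Prime] [Fact q.Prime]
    (hpq : p ≠ q) (hsolv : Cfsg.IsPSolvable p G)
    (h : ∀ y : G, (∃ k : ℕ, orderOf y = q ^ k) →
      ¬ p ∣ (Subgroup.centralizer ({y} : Set G)).index) :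
    ∃ (P : Sylow p G) (Q : Sylow q G),
      (P : Subgroup G) ≤ Subgroup.normalizer ((Q : Subgroup G) : Set G) := by
  apply Cfsg.Agent.S4602.backward p q
  have hKn : (pPrimeCore p G).Normal := inferInstance
  set K := pPrimeCore p G with hKdef
  set π := QuotientGroup.mk' K with hπdef
  have hπ : Function.Surjective π := QuotientGroup.mk'_surjective K
  have hker : π.ker = K := QuotientGroup.ker_mk' K
  have hsolv' : Cfsg.IsPSolvable p (G ⧸ K) := IsPSolvable_of_surjective p π hπ hsolv
  have hcore : ∀ N : Subgroup (G ⧸ K), N.Normal → (Nat.card N).Coprime p → N = ⊥ :=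
    fun N hN hc => quotient_pPrimeCore_core_trivial p N hN hc
  have hHH := centralizer_pCore_le p hsolv' hcore
  obtain ⟨Q⟩ : Nonempty (Sylow q G) := inferInstance
  have hQK : (Q : Subgroup G) ≤ K := by
    intro y hy
    obtain ⟨k, hk⟩ := (IsPGroup.iff_orderOf.mp Q.2) ⟨y, hy⟩
    rw [Subgroup.orderOf_mk] at hk
    have hidx := h y ⟨k, hk⟩
    obtain ⟨S, hS⟩ := exists_sylow_le_of_not_dvd_index p _ hidx
    have hcoreS : pCore p (G ⧸ K) ≤ ((S.mapSurjective hπ : Sylow p (G ⧸ K)) : Subgroup (G ⧸ K)) :=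
      pCore_le_sylow p _
    rw [Sylow.coe_mapSurjective] at hcoreS
    have hcent : π y ∈ centralizer ((pCore p (G ⧸ K) : Subgroup (G ⧸ K)) : Set (G ⧸ K)) := by
      rw [mem_centralizer_iff]
      intro r hr
      obtain ⟨s, hs, rfl⟩ := hcoreS hr
      have hs' := hS hs
      rw [mem_centralizer_iff] at hs'
      rw [← map_mul, ← map_mul, hs' y rfl]
    have hmem : π y ∈ pCore p (G ⧸ K) := hHH hcent
    obtain ⟨a, ha⟩ := (IsPGroup.iff_orderOf.mp (pCore_isPGroup p)) ⟨π y, hmem⟩
    rw [Subgroup.orderOf_mk] at ha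
    have h1 : (π y) ^ q ^ k = 1 := by rw [← map_pow, ← hk, pow_orderOf_eq_one, map_one]
    have h2 : (π y) ^ p ^ a = 1 := by rw [← ha, pow_orderOf_eq_one]
    have hqp : (q ^ k).Coprime p := by
      apply Nat.Coprime.pow_left
      exact (Nat.coprime_primes Fact.out Fact.out).mpr (Ne.symm hpq)
    have h3 : π y = 1 := eq_one_of_pow_eq_one_of_coprime p (π y) (q ^ k) a hqp h1 h2
    rw [← hker]
    exact (MonoidHom.mem_ker).mpr h3
  intro hq
  exact Q.not_dvd_index (dvd_trans hq (Subgroup.index_dvd_of_le hQK))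

/-- The `q`-solvable case, by induction on the order. -/
theorem caseQ_aux (p q : ℕ) [Fact p.Prime] [Fact q.Prime] :
    ∀ n : ℕ, ∀ (G : Type u) [Group G] [Finite G], Nat.card G = n → Cfsg.IsPSolvable q G →
      (∀ y : G, (∃ k : ℕ, orderOf y = q ^ k) →
        ¬ p ∣ (Subgroup.centralizer ({y} : Set G)).index) →
      ∀ Q : Sylow q G, ¬ p ∣ (Subgroup.normalizer ((Q : Subgroup G) : Set G)).index := by
  have hp : p.Prime := Fact.out
  have hq : q.Prime := Fact.out
  intro n
  induction n using Nat.strong_induction_on with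
  | _ n ih =>
  intro G _ _ hcard hsolv h Q
  by_cases hnt : Nontrivial G
  swap
  · rw [not_nontrivial_iff_subsingleton] at hnt
    have : Subgroup.normalizer ((Q : Subgroup G) : Set G) = ⊤ := by
      rw [eq_top_iff]; intro x _
      rw [Subsingleton.elim x 1]; exact Subgroup.one_mem _
    rw [this, Subgroup.index_top]
    exact hp.one_lt.not_ge ∘ Nat.le_of_dvd one_pos
  obtain ⟨M, hMn, hMne, hMcase⟩ := exists_normal_of_isPSolvable q hsolv
  set π := QuotientGroup.mk' M with hπdef
  have hπ : Function.Surjective π := QuotientGroup.mk'_surjective M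
  have hker : π.ker = M := QuotientGroup.ker_mk' M
  have hlt : Nat.card (G ⧸ M) < n := by
    have e := Subgroup.card_eq_card_quotient_mul_card_subgroup M
    rw [hcard] at e
    have h1 : 1 < Nat.card M := (Subgroup.one_lt_card_iff_ne_bot M).mpr hMne
    have h2 : 0 < Nat.card (G ⧸ M) := Nat.card_pos
    rw [e]; nlinarith
  have hsolv' : Cfsg.IsPSolvable q (G ⧸ M) := IsPSolvable_of_surjective q π hπ hsolv
  have h' := classSize_hyp_of_surjective p q π hπ h
  have hIH := ih _ hlt (G ⧸ M) rfl hsolv' h' (Q.mapSurjective hπ)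
  set K := (Q : Subgroup G) ⊔ M with hK
  have hNK : Subgroup.normalizer (K : Set G) =
      (Subgroup.normalizer (((Q.mapSurjective hπ : Sylow q (G ⧸ M)) : Subgroup (G ⧸ M)) :
        Set (G ⧸ M))).comap π := by
    rw [Subgroup.comap_normalizer_eq_of_surjective _ hπ, Sylow.coe_mapSurjective,
      Subgroup.comap_map_eq, hker]
  have hidxNK : ¬ p ∣ (Subgroup.normalizer (K : Set G)).index := by
    rw [hNK, Subgroup.index_comap_of_surjective _ hπ]; exact hIH
  have hMNK : M ≤ Subgroup.normalizer (K : Set G) :=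
    le_trans (le_sup_right : M ≤ K) Subgroup.le_normalizer
  have hNQK : Subgroup.normalizer ((Q : Subgroup G) : Set G) ≤ Subgroup.normalizer (K : Set G) := by
    intro x hx
    rw [mem_normalizer_iff_conj_smul] at hx ⊢
    rw [hK, Subgroup.smul_sup, hx, Subgroup.Normal.conj_smul_eq_self x M]
  rcases hMcase with hMq | hMq'
  · have hMQ : M ≤ (Q : Subgroup G) := (le_pCore q M hMn hMq).trans (pCore_le_sylow q Q)
    have hKQ : K = (Q : Subgroup G) := sup_eq_left.mpr hMQ
    rw [hKQ] at hidxNK
    exact hidxNK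
  · -- the `q'` case
    obtain ⟨kq, hkq⟩ := IsPGroup.iff_card.mp Q.2
    have hQM : (Q : Subgroup G) ≤ Subgroup.normalizer (M : Set G) := by
      rw [Subgroup.normalizer_eq_top]; exact le_top
    have hcop : (Nat.card (Q : Subgroup G)).Coprime (Nat.card M) := by
      rw [hkq]; exact Nat.Coprime.pow_left kq hMq'.symm
    have hsolvQ : Group.IsSolvable (Q : Subgroup G) := by
      have := Q.2.isNilpotent
      infer_instance
    obtain ⟨S₀, hS⟩ := exists_invariant_sylow (Q : Subgroup G) M hQM hcop (Or.inl hsolvQ) p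
    set S := (S₀ : Subgroup M).map M.subtype with hSdef
    have hSM : S ≤ M := Subgroup.map_subtype_le _
    have hSC : S ≤ Subgroup.centralizer ((Q : Subgroup G) : Set G) := by
      intro s hs
      rw [mem_centralizer_iff]
      intro y hy
      obtain ⟨k, hk⟩ := (IsPGroup.iff_orderOf.mp Q.2) ⟨y, hy⟩
      rw [Subgroup.orderOf_mk] at hk
      have hyS : zpowers y ≤ Subgroup.normalizer (S : Set G) :=
        le_trans (by rw [zpowers_le]; exact hy) hS
      have := invariant_sylow_le_centralizer p q M hMq' y k hk (h y ⟨k, hk⟩) S₀ hyS hs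
      rw [mem_centralizer_iff] at this
      exact this y rfl
    have hSNQ : S ≤ Subgroup.normalizer ((Q : Subgroup G) : Set G) :=
      hSC.trans (Subgroup.centralizer_le_normalizer _)
    -- Frattini
    have hQK : (Q : Subgroup G) ≤ K := le_sup_left
    have hQ₀ : ((Q.subtype hQK : Sylow q K) : Subgroup K).map K.subtype = (Q : Subgroup G) := by
      rw [Sylow.coe_subtype, Subgroup.subgroupOf_map_subtype, inf_eq_left.mpr hQK]
    have hfrat : Subgroup.normalizer (K : Set G) ≤
        Subgroup.normalizer ((Q : Subgroup G) : Set G) ⊔ M := by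
      intro x hx
      obtain ⟨k, hk, hkx⟩ := frattini_rel K (Q.subtype hQK) x hx
      rw [hQ₀] at hkx
      have hk' : k ∈ Subgroup.normalizer ((Q : Subgroup G) : Set G) ⊔ M :=
        (sup_le_sup_right Subgroup.le_normalizer M) hk
      have e : x = k * (k⁻¹ * x) := by group
      rw [e]
      exact Subgroup.mul_mem _ hk' (le_sup_left (b := M) hkx)
    have hNKeq : Subgroup.normalizer (K : Set G) =
        Subgroup.normalizer ((Q : Subgroup G) : Set G) ⊔ M :=
      le_antisymm hfrat (sup_le hNQK hMNK)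
    have hrel : ¬ p ∣ (Subgroup.normalizer ((Q : Subgroup G) : Set G)).relIndex M := by
      intro hd
      have h1 : (Subgroup.normalizer ((Q : Subgroup G) : Set G) ⊓ M).relIndex M ∣ S.relIndex M :=
        Subgroup.relIndex_dvd_of_le_left M (le_inf hSNQ hSM)
      rw [Subgroup.inf_relIndex_right] at h1
      have h2 : S.relIndex M = (S₀ : Subgroup M).index := by
        rw [Subgroup.relIndex, hSdef, Subgroup.subgroupOf,
          Subgroup.comap_map_eq_self_of_injective (Subgroup.subtype_injective M)]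
      rw [h2] at h1
      exact S₀.not_dvd_index (dvd_trans hd h1)
    have hidx := Subgroup.relIndex_mul_index hNQK
    rw [hNKeq, relIndex_sup_of_normal, ← hNKeq] at hidx
    rw [← hidx]
    exact Nat.Prime.not_dvd_mul hp hrel hidxNK

/-- Let p and q be primes and G a finite group that is p-solvable or q-solvable, in which no q-element has conjugacy class size divisible by p. Then some Sylow p-subgroup of G normalizes some Sylow q-subgroup of G. -/
theorem result {G : Type*} [Group G] [Finite G] (p q : ℕ) [Fact p.Prime] [Fact q.Prime] (hsolv : Cfsg.IsPSolvable p G ∨ Cfsg.IsPSolvable q G)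
    (h : ∀ y : G, (∃ k : ℕ, orderOf y = q ^ k) → ¬ p ∣ (Subgroup.centralizer ({y} : Set G)).index) :
    ∃ (P : Sylow p G) (Q : Sylow q G), (P : Subgroup G) ≤ Subgroup.normalizer ((Q : Subgroup G) : Set G) := by
  by_cases hpq : p = q
  · subst hpq
    obtain ⟨P⟩ : Nonempty (Sylow p G) := inferInstance
    exact ⟨P, P, Subgroup.le_normalizer⟩
  rcases hsolv with hs | hs
  · exact caseP p q hpq hs h
  · obtain ⟨Q⟩ : Nonempty (Sylow q G) := inferInstance
    have := caseQ_aux p q (Nat.card G) G rfl hs h Q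
    obtain ⟨P, hP⟩ := exists_sylow_le_of_not_dvd_index p _ this
    exact ⟨P, Q, hP⟩

end Cfsg.Agent.S4601
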