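import Cfsg.Statements.S4604
import Cfsg.Agent.Lib.Helper76.ModP
import Cfsg.Agent.Lib.Helper76.PCore
import Cfsg.Agent.Lib.Helper3.ColOrth

set_option autoImplicit false
open Cfsg

namespace Cfsg.Agent.S4604

open Cfsg.Agent.Lib.Helper76 Cfsg.Agent.Lib.Helper3
open scoped ComplexConjugate

section

variable {G : Type*} [Group G] [Finite G]

/-- `χ(g)^(p^n) ≡ χ(g^(p^n))` modulo `p` for irreducible `χ`. -/
theorem irr_pow_sub (p : ℕ) (hp : p.Prime) (n : ℕ) (χ : Cfsg.IrrCharacter G) (g : G) :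
    ∃ γ : Cfsg.AlgInt, (χ : G → ℂ) g ^ p ^ n - (χ : G → ℂ) (g ^ p ^ n) = (p : ℂ) * (γ : ℂ) := by
  obtain ⟨d, ρ, _, hρ⟩ := χ.2
  rw [← hρ]
  exact character_pow_sub ρ p hp n g

/-- `x^q = x'^q` where `x'` is the `p'`-part of `x` and `q = |G|_p`. -/
theorem pow_eq_pow_pPrime_part (p : ℕ) [hp : Fact p.Prime] (x x' : G)
    (hx : (∃ k : ℕ, orderOf (x * x'⁻¹) = p ^ k) ∧ Commute (x * x'⁻¹) x' ∧ ¬ p ∣ orderOf x') :
    x ^ (p ^ (Nat.card G).factorization p) = x' ^ (p ^ (Nat.card G).factorization p) := by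
  obtain ⟨⟨k, hk⟩, hc, _⟩ := hx
  have hx' : x = (x * x'⁻¹) * x' := by group
  have hcard : Nat.card G ≠ 0 := Nat.card_pos.ne'
  have hdvd : p ^ k ∣ Nat.card G := by rw [← hk]; exact orderOf_dvd_natCard _
  have hle : k ≤ (Nat.card G).factorization p :=
    (hp.out.pow_dvd_iff_le_factorization hcard).mp hdvd
  have h1 : (x * x'⁻¹) ^ (p ^ (Nat.card G).factorization p) = 1 := by
    rw [← orderOf_dvd_iff_pow_eq_one, hk]
    exact pow_dvd_pow p hle
  conv_lhs => rw [hx']
  rw [hc.mul_pow, h1, one_mul]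

omit [Finite G] in
/-- if `w`, `v` are `p`-regular, `d` is a `p`-element commuting with `v` and `w ~ v d`, then `d = 1`. -/
theorem eq_one_of_isConj_mul (p : ℕ) [Fact p.Prime] (w v d : G)
    (hw : (orderOf w).Coprime p) (hv : (orderOf v).Coprime p) (hd : ∃ j : ℕ, orderOf d = p ^ j)
    (hvd : v * d = d * v) (hconj : IsConj w (v * d)) : d = 1 := by
  obtain ⟨j, hj⟩ := hd
  obtain ⟨c, hc⟩ := isConj_iff.mp hconj
  set N := orderOf w * orderOf v with hN
  have h1 : (v * d) ^ N = 1 := by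
    rw [← hc, conj_pow, hN, pow_mul, pow_orderOf_eq_one, one_pow, mul_one, mul_inv_cancel]
  have hcomm : Commute v d := hvd
  rw [hcomm.mul_pow] at h1
  have h2 : v ^ N = 1 := by rw [hN, mul_comm, pow_mul, pow_orderOf_eq_one, one_pow]
  rw [h2, one_mul] at h1
  have h3 : d ^ p ^ j = 1 := by rw [← hj]; exact pow_orderOf_eq_one d
  exact eq_one_of_pow_eq_one_of_coprime p d N j (Nat.Coprime.mul_left hw hv) h1 h3

/-- Two `p`-regular elements whose irreducible character values are all congruent modulo `p`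
are conjugate. -/
theorem isConj_of_forall_irr_sub (p : ℕ) [hp : Fact p.Prime] (u v : G)
    (hu : (orderOf u).Coprime p) (hv : (orderOf v).Coprime p)
    (hyp : ∀ χ : Cfsg.IrrCharacter G, ∃ γ : Cfsg.AlgInt,
      (χ : G → ℂ) u - (χ : G → ℂ) v = (p : ℂ) * (γ : ℂ)) : IsConj u v := by
  classical
  by_contra hne
  have : Fintype G := Fintype.ofFinite _
  have : Fintype (Cfsg.IrrCharacter G) := Fintype.ofFinite _
  set C := Subgroup.centralizer ({v} : Set G) with hC
  obtain ⟨D₀⟩ : Nonempty (Sylow p C) := inferInstance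
  set D : Subgroup G := (D₀ : Subgroup C).map C.subtype with hD
  have : Fintype D := Fintype.ofFinite _
  have hDC : D ≤ C := Subgroup.map_subtype_le _
  have hDcomm : ∀ d ∈ D, v * d = d * v := by
    intro d hd
    have := hDC hd
    rw [hC, Subgroup.mem_centralizer_iff] at this
    exact this v rfl
  have hDpg : IsPGroup p D := D₀.2.map _
  have hDp : ∀ d : D, ∃ j : ℕ, orderOf (d : G) = p ^ j := by
    intro d
    obtain ⟨j, hj⟩ := (IsPGroup.iff_orderOf.mp hDpg) d
    exact ⟨j, by rw [Subgroup.orderOf_coe]; exact hj⟩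
  set c : ℂ := (Fintype.card D : ℂ) with hc
  have hc0 : c ≠ 0 := by rw [hc]; exact_mod_cast Fintype.card_ne_zero
  have hcconj : conj c = c := by rw [hc]; exact Complex.conj_natCast _
  let a : Cfsg.IrrCharacter G → ℂ := fun χ => c⁻¹ * ∑ d : D, (χ : G → ℂ) (v * d)
  have ha : ∀ χ, IsIntegral ℤ (a χ) := by
    intro χ
    obtain ⟨n, ρ, _, hρ⟩ := χ.2
    simp only [a]
    rw [← hρ]
    exact isIntegral_avg_character ρ D v (orderOf v) (orderOf_pos v) (pow_orderOf_eq_one v) hDcomm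
  -- the sum identity
  have hsum : ∀ g : G, (orderOf g).Coprime p →
      ∑ χ : Cfsg.IrrCharacter G, (χ : G → ℂ) g * conj (a χ) =
        c⁻¹ * (if IsConj g v then (Nat.card (Subgroup.centralizer ({g} : Set G)) : ℂ) else 0) := by
    intro g hg
    have h1 : ∀ χ : Cfsg.IrrCharacter G, (χ : G → ℂ) g * conj (a χ) =
        c⁻¹ * ∑ d : D, (χ : G → ℂ) g * conj ((χ : G → ℂ) (v * d)) := by
      intro χ
      simp only [a]
      rw [map_mul, map_inv₀, hcconj, map_sum, Finset.mul_sum, Finset.mul_sum, Finset.mul_sum]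
      refine Finset.sum_congr rfl fun d _ => ?_
      ring
    rw [Finset.sum_congr rfl fun χ _ => h1 χ, ← Finset.mul_sum, Finset.sum_comm]
    congr 1
    have h2 : ∀ d : D, ∑ χ : Cfsg.IrrCharacter G, (χ : G → ℂ) g * conj ((χ : G → ℂ) (v * d)) =
        if d = 1 then
          (if IsConj g v then (Nat.card (Subgroup.centralizer ({g} : Set G)) : ℂ) else 0)
        else 0 := by
      intro d
      rw [column_orthogonality g (v * d)]
      by_cases hd1 : d = 1
      · rw [if_pos hd1, hd1, Subgroup.coe_one, mul_one]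
      · rw [if_neg hd1, if_neg]
        intro hcj
        apply hd1
        have := eq_one_of_isConj_mul p g v d hg hv (hDp d) (hDcomm d d.2) hcj
        exact Subtype.ext this
    rw [Finset.sum_congr rfl fun d _ => h2 d, Finset.sum_ite_eq' Finset.univ (1 : D)]
    simp
  have hU := hsum u hu
  have hV := hsum v hv
  rw [if_neg hne, mul_zero] at hU
  rw [if_pos (IsConj.refl v)] at hV
  -- the combination
  have hcomb : ∃ Γ : Cfsg.AlgInt, ∑ χ : Cfsg.IrrCharacter G,
      ((χ : G → ℂ) u - (χ : G → ℂ) v) * conj (a χ) = (p : ℂ) * (Γ : ℂ) := by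
    choose γ hγ using hyp
    have haconj : ∀ χ, IsIntegral ℤ (conj (a χ)) := fun χ => map_isIntegral_int _ (ha χ)
    refine ⟨∑ χ : Cfsg.IrrCharacter G, γ χ * ⟨conj (a χ), haconj χ⟩, ?_⟩
    push_cast
    rw [Finset.mul_sum]
    refine Finset.sum_congr rfl fun χ _ => ?_
    rw [hγ χ]; ring
  obtain ⟨Γ, hΓ⟩ := hcomb
  have hdiff : ∑ χ : Cfsg.IrrCharacter G, ((χ : G → ℂ) u - (χ : G → ℂ) v) * conj (a χ) =
      - (c⁻¹ * (Nat.card C : ℂ)) := by
    simp only [sub_mul]
    rw [Finset.sum_sub_distrib, hU, hV, zero_sub]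
  rw [hdiff] at hΓ
  -- `|C| = |D| * idx`
  have hcardD : Nat.card D = Nat.card (D₀ : Subgroup C) :=
    Subgroup.card_map_of_injective (Subgroup.subtype_injective C)
  have hcardC : Nat.card C = Nat.card D * (D₀ : Subgroup C).index := by
    rw [hcardD]; exact ((D₀ : Subgroup C).card_mul_index).symm
  have hcD : c = (Nat.card D : ℂ) := by rw [hc, Nat.card_eq_fintype_card]
  have hidx : (((D₀ : Subgroup C).index : ℕ) : ℂ) = (p : ℂ) * ((-Γ : Cfsg.AlgInt) : ℂ) := by
    have h1 : c⁻¹ * (Nat.card C : ℂ) = (((D₀ : Subgroup C).index : ℕ) : ℂ) := by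
      rw [hcardC, Nat.cast_mul, ← hcD]
      field_simp
    rw [← h1]
    push_cast
    linear_combination (-1 : ℂ) * hΓ
  exact D₀.not_dvd_index (dvd_of_natCast_eq_mul_algInt p _ hp.out.ne_zero _ hidx)

end

/-- Let G be a finite group, p a prime and p^a the p-part of the order of G. Let x, y ∈ G and let x′, y′ be their p-regular parts: x′ has order prime to p, commutes with x·x′⁻¹, and x·x′⁻¹ has p-power order (likewise for y). Then x′ and y′ are conjugate in G if and only if for every irreducible character χ of G the algebraic integer χ(x)^(p^a) − χ(y)^(p^a) is p times an algebraic integer. -/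
theorem result {G : Type*} [Group G] [Finite G] (p : ℕ) [Fact p.Prime] (x y x' y' : G)
    (hx : (∃ k : ℕ, orderOf (x * x'⁻¹) = p ^ k) ∧ Commute (x * x'⁻¹) x' ∧ ¬ p ∣ orderOf x')
    (hy : (∃ k : ℕ, orderOf (y * y'⁻¹) = p ^ k) ∧ Commute (y * y'⁻¹) y' ∧ ¬ p ∣ orderOf y') :
    IsConj x' y' ↔ ∀ χ : Cfsg.IrrCharacter G, ∃ γ : Cfsg.AlgInt,
      (χ : G → ℂ) x ^ (p ^ (Nat.card G).factorization p) - (χ : G → ℂ) y ^ (p ^ (Nat.card G).factorization p) = (p : ℂ) * (γ : ℂ) := by
  have hp : p.Prime := Fact.out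
  set q := p ^ (Nat.card G).factorization p with hq
  have hxq : x ^ q = x' ^ q := pow_eq_pow_pPrime_part p x x' hx
  have hyq : y ^ q = y' ^ q := pow_eq_pow_pPrime_part p y y' hy
  have hxreg : (orderOf (x ^ q)).Coprime p := by
    rw [hxq]
    have h1 : p.Coprime (orderOf x') := (Nat.Prime.coprime_iff_not_dvd hp).mpr hx.2.2
    exact Nat.Coprime.coprime_dvd_left (orderOf_pow_dvd q) h1.symm
  have hyreg : (orderOf (y ^ q)).Coprime p := by
    rw [hyq]
    have h1 : p.Coprime (orderOf y') := (Nat.Prime.coprime_iff_not_dvd hp).mpr hy.2.2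
    exact Nat.Coprime.coprime_dvd_left (orderOf_pow_dvd q) h1.symm
  constructor
  · intro hconj χ
    have hcq : IsConj (x ^ q) (y ^ q) := by rw [hxq, hyq]; exact hconj.pow q
    have heq : (χ : G → ℂ) (x ^ q) = (χ : G → ℂ) (y ^ q) :=
      isClassFunction_iff_isConj.mp (IsIrrCharacter.isClassFunction χ.2) _ _ hcq
    obtain ⟨γ₁, h1⟩ := irr_pow_sub p hp ((Nat.card G).factorization p) χ x
    obtain ⟨γ₂, h2⟩ := irr_pow_sub p hp ((Nat.card G).factorization p) χ y
    rw [← hq] at h1 h2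
    refine ⟨γ₁ - γ₂, ?_⟩
    push_cast
    rw [mul_sub, ← h1, ← h2, heq]
    ring
  · intro hall
    have hyp : ∀ χ : Cfsg.IrrCharacter G, ∃ γ : Cfsg.AlgInt,
        (χ : G → ℂ) (x ^ q) - (χ : G → ℂ) (y ^ q) = (p : ℂ) * (γ : ℂ) := by
      intro χ
      obtain ⟨γ₀, h0⟩ := hall χ
      obtain ⟨γ₁, h1⟩ := irr_pow_sub p hp ((Nat.card G).factorization p) χ x
      obtain ⟨γ₂, h2⟩ := irr_pow_sub p hp ((Nat.card G).factorization p) χ y
      rw [← hq] at h1 h2
      refine ⟨γ₀ - γ₁ + γ₂, ?_⟩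
      push_cast
      rw [mul_add, mul_sub, ← h0, ← h1, ← h2]
      ring
    have hcq : IsConj (x ^ q) (y ^ q) := isConj_of_forall_irr_sub p _ _ hxreg hyreg hyp
    rw [hxq, hyq] at hcq
    -- recover `x'`, `y'` as powers
    have hcop : Nat.Coprime q (orderOf x' * orderOf y') := by
      rw [hq]
      apply Nat.Coprime.pow_left
      exact Nat.Coprime.mul_right ((Nat.Prime.coprime_iff_not_dvd hp).mpr hx.2.2)
        ((Nat.Prime.coprime_iff_not_dvd hp).mpr hy.2.2)
    rcases Nat.lt_or_ge 1 (orderOf x' * orderOf y') with hn | hn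
    · obtain ⟨r, -, hr⟩ := Nat.exists_mul_mod_eq_one_of_coprime hcop hn
      have hmod : q * r ≡ 1 [MOD orderOf x' * orderOf y'] := by
        unfold Nat.ModEq
        rw [hr, Nat.mod_eq_of_lt hn]
      have hx1 : (x' ^ q) ^ r = x' := by
        rw [← pow_mul]
        conv_rhs => rw [← pow_one x']
        rw [pow_eq_pow_iff_modEq]
        exact hmod.of_dvd (Dvd.intro _ rfl)
      have hy1 : (y' ^ q) ^ r = y' := by
        rw [← pow_mul]
        conv_rhs => rw [← pow_one y']
        rw [pow_eq_pow_iff_modEq]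
        exact hmod.of_dvd (Dvd.intro_left _ rfl)
      have := hcq.pow r
      rwa [hx1, hy1] at this
    · have hpos : 0 < orderOf x' * orderOf y' := Nat.mul_pos (orderOf_pos _) (orderOf_pos _)
      have h1 : orderOf x' * orderOf y' = 1 := by omega
      have hx1 : orderOf x' = 1 := Nat.eq_one_of_mul_eq_one_right h1
      have hy1 : orderOf y' = 1 := Nat.eq_one_of_mul_eq_one_left h1
      rw [orderOf_eq_one_iff] at hx1 hy1
      rw [hx1, hy1]

end Cfsg.Agent.S4604
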