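import Cfsg.Statements.S4607
import Cfsg.Agent.Lib.Helper77.BrandtMain

set_option autoImplicit false
open Cfsg

namespace Cfsg.Agent.S4607

open Cfsg.Agent.Lib.Helper16 Cfsg.Agent.Lib.Helper78 Cfsg.Agent.Lib.Helper77.BrandtMain

/-- Let G be a finite group, p a prime, M a maximal ideal of the algebraic integers containing p, and B a p-block of G with defect group D. Then B contains exactly two irreducible characters if and only if D has order 2. -/
theorem result {G : Type*} [Group G] [Finite G] (p : ℕ) [Fact p.Prime] (M : Ideal Cfsg.AlgInt) (hM : Cfsg.IsPModular p M) (B : Set (Cfsg.IrrCharacter G)) (hB : Cfsg.IsPBlock M B) (D : Subgroup G) (hD : Cfsg.IsDefectGroup p M B D) : Nat.card B = 2 ↔ Nat.card D = 2 := by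
  classical
  have hfin : Fintype G := Fintype.ofFinite G
  have hp : p.Prime := Fact.out
  have hMp : M.IsPrime := isPModular_isPrime hM
  have hD' := Cfsg.Agent.S0908.result p M hM B hB D hD
  constructor
  · intro hcard
    obtain ⟨hp2, hdef⟩ := defect_of_card_two p hM hB hcard
    rw [hD', hdef, hp2, pow_one]
  · intro hcardD
    rw [hD'] at hcardD
    have hd0 : blockDefect p B ≠ 0 := by
      intro h
      rw [h, pow_zero] at hcardD
      omega
    have hp2 : p = 2 := by
      have h1 : p ∣ 2 := by
        rw [← hcardD]
        exact dvd_pow_self p hd0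
      exact (Nat.prime_dvd_prime_iff_eq hp Nat.prime_two).mp h1
    subst hp2
    have hd1 : blockDefect 2 B = 1 := by
      have h2 : 2 ^ blockDefect 2 B = 2 ^ 1 := by rw [hcardD, pow_one]
      exact Nat.pow_right_injective (le_refl 2) h2
    have hle := Cfsg.Agent.S4494.result 2 M hM B hB
    rw [hd1] at hle
    have hle2 : Nat.card B ≤ 2 := by omega
    have hfinB : Finite B := Set.toFinite B |>.to_subtype
    have hneB : Nonempty B := (IsPBlock_nonempty hMp.ne_top hB).to_subtype
    have hpos : 0 < Nat.card B := Nat.card_pos
    rcases Nat.lt_or_ge (Nat.card B) 2 with hlt | hge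
    · exfalso
      have h1 : Nat.card B = 1 := by omega
      obtain ⟨χ, hχ⟩ : ∃ χ : IrrCharacter G, B = {χ} := by
        obtain ⟨hsub, hne⟩ := Nat.card_eq_one_iff_unique.mp h1
        obtain ⟨χ⟩ := hne
        refine ⟨χ.1, ?_⟩
        ext ψ
        constructor
        · intro hψ
          have := hsub.elim ⟨ψ, hψ⟩ χ
          exact congrArg Subtype.val this
        · intro hψ
          rw [Set.mem_singleton_iff] at hψ
          rw [hψ]; exact χ.2
      have hrank : blockRank 2 B = 1 := by
        rw [hχ]; exact blockRank_singleton 2 χ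
      have := (blockRank_card_defect_zero hM hB).2.1.mpr ⟨h1, hrank⟩
      omega
    · omega

end Cfsg.Agent.S4607
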