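import Cfsg.Statements.S4611
import Cfsg.Agent.Lib.Helper77.FongPrincipal
import Cfsg.Agent.Lib.Helper78.CharOrtho

set_option autoImplicit false
open Cfsg

namespace Cfsg.Agent.S4611

open Cfsg.Agent.Lib Cfsg.Agent.Lib.Helper16 Cfsg.Agent.Lib.Helper77

section

variable {G : Type*} [Group G] [Finite G]

/-- An irreducible character that is constant is the principal character. -/
theorem eq_one_of_const (χ : IrrCharacter G) (h : ∀ g : G, (χ : G → ℂ) g = (χ : G → ℂ) 1) :
    (χ : G → ℂ) = fun _ => 1 := by
  classical
  have : Fintype G := Fintype.ofFinite G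
  by_contra hne
  have h1 := Helper78.classInner_irr_ne χ.2 (Helper78.isIrrCharacter_one (G := G)) hne
  unfold classInner at h1
  have h2 : ∑ g : G, (χ : G → ℂ) g * (starRingEnd ℂ) ((fun _ : G => (1 : ℂ)) g) =
      (Nat.card G : ℂ) * (χ : G → ℂ) 1 := by
    rw [Finset.sum_congr rfl (fun g _ => by rw [h g, map_one, mul_one] :
      ∀ g ∈ Finset.univ, (χ : G → ℂ) g * (starRingEnd ℂ) ((fun _ : G => (1 : ℂ)) g) =
        (χ : G → ℂ) 1)]
    rw [Finset.sum_const, Finset.card_univ, nsmul_eq_mul, Nat.card_eq_fintype_card]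
  rw [h2] at h1
  have hcard : (Nat.card G : ℂ) ≠ 0 := Nat.cast_ne_zero.mpr Nat.card_pos.ne'
  rw [← mul_assoc, inv_mul_cancel₀ hcard, one_mul] at h1
  have h3 := Helper78.classInner_irr_self χ.2
  unfold classInner at h3
  rw [Finset.sum_congr rfl (fun g _ => by rw [h g, h1, zero_mul] :
      ∀ g ∈ Finset.univ, (χ : G → ℂ) g * (starRingEnd ℂ) ((χ : G → ℂ) g) = 0)] at h3
  rw [Finset.sum_const_zero, mul_zero] at h3
  exact zero_ne_one h3

/-- A nontrivial finite group has a nonprincipal irreducible character. -/
theorem exists_irr_ne_one [Nontrivial G] : ∃ χ : IrrCharacter G, (χ : G → ℂ) ≠ fun _ => 1 := by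
  classical
  have : Fintype G := Fintype.ofFinite G
  by_contra hcon
  push Not at hcon
  have hsub : Subsingleton (IrrCharacter G) := by
    constructor
    intro a b
    apply Subtype.ext
    rw [hcon a, hcon b]
  have hfin : Finite (IrrCharacter G) := inferInstance
  have h1 : Nat.card (IrrCharacter G) ≤ 1 := Finite.card_le_one_iff_subsingleton.mpr hsub
  rw [Helper78.card_irrCharacter] at h1
  have h2 : Subsingleton (ConjClasses G) := Finite.card_le_one_iff_subsingleton.mp h1
  obtain ⟨g, hg⟩ := exists_ne (1 : G)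
  have h3 : ConjClasses.mk g = ConjClasses.mk 1 := Subsingleton.elim _ _
  rw [ConjClasses.mk_eq_mk_iff_isConj, isConj_one_left] at h3
  exact hg h3

end

/-- Let G be a finite solvable group and π a nonempty set of primes, each dividing the order of G; fix for each p in π a maximal ideal M p of the algebraic integers containing p. Then the only irreducible character lying in the principal p-block for every p in π is the principal character if and only if G is generated by the subgroups O_{p'}(G), p in π (the largest normal subgroups of order prime to p). -/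
theorem result {G : Type*} [Group G] [Finite G] [Group.IsSolvable G] (π : Set ℕ) (hπ : ∀ p ∈ π, p.Prime ∧ p ∣ Nat.card G) (hne : π.Nonempty) (M : ℕ → Ideal Cfsg.AlgInt) (hM : ∀ p ∈ π, Cfsg.IsPModular p (M p)) :
    (∀ χ : Cfsg.IrrCharacter G, (∀ p ∈ π, χ ∈ Cfsg.principalBlock (M p) G) → (χ : G → ℂ) = fun _ => 1) ↔
      ⨆ p ∈ π, Cfsg.pPrimeCore p G = ⊤ := by
  classical
  have hFong : ∀ p ∈ π, principalBlock (M p) G =
      {χ : IrrCharacter G | ∀ n ∈ pPrimeCore p G, (χ : G → ℂ) n = (χ : G → ℂ) 1} := by
    intro p hp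
    haveI : Fact p.Prime := ⟨(hπ p hp).1⟩
    exact principalBlock_eq_of_isPSolvable p (M p) (hM p hp)
      (isPSolvable_of_isSolvable p _ G rfl)
  constructor
  · intro h
    by_contra hK
    set K : Subgroup G := ⨆ p ∈ π, pPrimeCore p G with hKdef
    have hKn : K.Normal := by
      rw [hKdef]
      infer_instance
    have hnt : Nontrivial (G ⧸ K) := by
      rw [← Finite.one_lt_card_iff_nontrivial, ← Subgroup.index_eq_card]
      have h0 : K.index ≠ 0 := Subgroup.index_ne_zero_of_finite
      have h1 : K.index ≠ 1 := fun h1 => hK (Subgroup.index_eq_one.mp h1)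
      omega
    obtain ⟨ψ, hψ⟩ := exists_irr_ne_one (G := G ⧸ K)
    have h1 := h (inflate K ψ) (by
      intro p hp
      rw [hFong p hp]
      intro n hn
      apply inflate_apply_of_mem K ψ n
      exact (le_iSup₂ (f := fun p (_ : p ∈ π) => pPrimeCore p G) p hp) hn)
    apply hψ
    funext x
    obtain ⟨g, rfl⟩ := QuotientGroup.mk_surjective x
    have := congrFun h1 g
    rwa [inflate_apply] at this
  · intro h χ hχ
    obtain ⟨K, -, hK, -, -⟩ := exists_kernel (Helper78.IsIrrCharacter.isCharacter χ.2)
    have hle : (⨆ p ∈ π, pPrimeCore p G) ≤ K := by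
      apply iSup₂_le
      intro p hp n hn
      rw [hK]
      have := hχ p hp
      rw [hFong p hp] at this
      exact this n hn
    rw [h] at hle
    apply eq_one_of_const
    intro g
    exact (hK g).mp (hle (Subgroup.mem_top g))

end Cfsg.Agent.S4611
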