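import Cfsg.Statements.S4620
-- import your own Cfsg.Agent.* helpers here

set_option autoImplicit false
open scoped Pointwise
open Cfsg

namespace Cfsg.Agent.S4620

variable {H : Type*} [Group H]

/-- trivial intersection property -/
def TI (P : Subgroup H) : Prop :=
  ∀ g : H, g ∉ Subgroup.normalizer (P : Set H) → P ⊓ (MulAut.conj g • P) = ⊥

theorem mem_conj_smul_iff (g x : H) (P : Subgroup H) : x ∈ MulAut.conj g • P ↔ g⁻¹ * x * g ∈ P := by
  rw [Subgroup.mem_pointwise_smul_iff_inv_smul_mem]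
  simp [MulAut.smul_def, mul_assoc]

theorem TI_conj {P : Subgroup H} (hP : TI P) (h : H) : TI (MulAut.conj h • P) := by
  intro g hg
  have hg' : h⁻¹ * g * h ∉ Subgroup.normalizer (P : Set H) := by
    intro hn
    apply hg
    rw [Subgroup.mem_normalizer_iff] at hn ⊢
    intro x
    rw [mem_conj_smul_iff, mem_conj_smul_iff]
    have := hn (h⁻¹ * x * h)
    rw [this]
    have e : h⁻¹ * g * h * (h⁻¹ * x * h) * (h⁻¹ * g * h)⁻¹ = h⁻¹ * (g * x * g⁻¹) * h := by group
    rw [e]
  have := hP _ hg'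
  rw [eq_bot_iff] at this ⊢
  intro x hx
  rw [Subgroup.mem_bot]
  have hx1 : h⁻¹ * x * h ∈ P := (mem_conj_smul_iff h x P).mp hx.1
  have hx2 : h⁻¹ * x * h ∈ MulAut.conj (h⁻¹ * g * h) • P := by
    rw [mem_conj_smul_iff]
    have := (mem_conj_smul_iff g x _).mp hx.2
    rw [mem_conj_smul_iff] at this
    convert this using 1
    group
  have h1 : h⁻¹ * x * h = 1 := by
    have := this ⟨hx1, hx2⟩
    rwa [Subgroup.mem_bot] at this
  have : x = h * (h⁻¹ * x * h) * h⁻¹ := by group
  rw [this, h1]; group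

/-- Fact A: in a TI subgroup, an element conjugating a nontrivial element of P into P normalizes P -/
theorem mem_normalizer_of_TI {P : Subgroup H} (hP : TI P) {x c : H} (hx : x ∈ P) (hx1 : x ≠ 1)
    (hc : c * x * c⁻¹ ∈ P) : c ∈ Subgroup.normalizer (P : Set H) := by
  have hc' : c⁻¹ ∈ Subgroup.normalizer (P : Set H) := by
    by_contra hn
    have := hP c⁻¹ hn
    have hmem : x ∈ P ⊓ MulAut.conj c⁻¹ • P := by
      refine Subgroup.mem_inf.mpr ⟨hx, ?_⟩
      rw [mem_conj_smul_iff]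
      simpa using hc
    rw [this, Subgroup.mem_bot] at hmem
    exact hx1 hmem
  simpa using hc'

theorem mem_normalizer_of_TI_of_commute {P : Subgroup H} (hP : TI P) {x c : H} (hx : x ∈ P) (hx1 : x ≠ 1)
    (hc : Commute c x) : c ∈ Subgroup.normalizer (P : Set H) := by
  apply mem_normalizer_of_TI hP hx hx1
  rw [hc.eq, mul_inv_cancel_right]
  exact hx



/-- S is a nontrivial subgroup of N normalized by N -/
def NN (N S : Subgroup H) : Prop :=
  S ≤ N ∧ N ≤ Subgroup.normalizer (S : Set H) ∧ S ≠ ⊥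

/-- S is minimal among nontrivial subgroups of N normalized by N -/
def MinNN (N S : Subgroup H) : Prop :=
  NN N S ∧ ∀ T : Subgroup H, NN N T → T ≤ S → S ≤ T

theorem NN_conj {N S : Subgroup H} (hN : N.Normal) (hS : NN N S) (h : H) :
    NN N (MulAut.conj h • S) := by
  obtain ⟨h1, h2, h3⟩ := hS
  refine ⟨?_, ?_, ?_⟩
  · intro x hx
    rw [mem_conj_smul_iff] at hx
    have := hN.conj_mem _ (h1 hx) h
    convert this using 1
    group
  · intro n hn
    rw [Subgroup.mem_normalizer_iff]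
    intro x
    rw [mem_conj_smul_iff, mem_conj_smul_iff]
    have hn' : h⁻¹ * n * h ∈ N := by
      have := hN.conj_mem _ hn h⁻¹
      simpa using this
    have := (Subgroup.mem_normalizer_iff.mp (h2 hn')) (h⁻¹ * x * h)
    rw [this]
    have e : h⁻¹ * n * h * (h⁻¹ * x * h) * (h⁻¹ * n * h)⁻¹ = h⁻¹ * (n * x * n⁻¹) * h := by group
    rw [e]
  · intro hb
    apply h3
    rw [eq_bot_iff]
    intro x hx
    have : h * x * h⁻¹ ∈ MulAut.conj h • S := by
      rw [mem_conj_smul_iff]
      convert hx using 1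
      group
    rw [hb, Subgroup.mem_bot] at this
    rw [Subgroup.mem_bot]
    have e : x = h⁻¹ * (h * x * h⁻¹) * h := by group
    rw [e, this]; group

theorem conj_inv_conj_smul (h : H) (S : Subgroup H) :
    MulAut.conj h⁻¹ • (MulAut.conj h • S) = S := by
  rw [map_inv, inv_smul_smul]

theorem conj_conj_inv_smul (h : H) (S : Subgroup H) :
    MulAut.conj h • (MulAut.conj h⁻¹ • S) = S := by
  rw [map_inv, smul_inv_smul]

theorem MinNN_conj {N S : Subgroup H} (hN : N.Normal) (hS : MinNN N S) (h : H) :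
    MinNN N (MulAut.conj h • S) := by
  refine ⟨NN_conj hN hS.1 h, ?_⟩
  intro T hT hTS
  have h1 : NN N (MulAut.conj h⁻¹ • T) := NN_conj hN hT h⁻¹
  have h2 : MulAut.conj h⁻¹ • T ≤ S := by
    rw [← conj_inv_conj_smul h S]
    exact Subgroup.pointwise_smul_le_pointwise_smul_iff.mpr hTS
  have h3 := hS.2 _ h1 h2
  rw [← conj_conj_inv_smul h T]
  exact Subgroup.pointwise_smul_le_pointwise_smul_iff.mpr h3

theorem MinNN_inf_eq_bot {N S S₂ : Subgroup H} (hS : MinNN N S) (hS₂ : MinNN N S₂) (hne : S ≠ S₂) :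
    S ⊓ S₂ = ⊥ := by
  by_contra hb
  apply hne
  have hNN : NN N (S ⊓ S₂) := by
    refine ⟨inf_le_left.trans hS.1.1, ?_, hb⟩
    intro n hn
    rw [Subgroup.mem_normalizer_iff]
    intro x
    have h1 := Subgroup.mem_normalizer_iff.mp (hS.1.2.1 hn) x
    have h2 := Subgroup.mem_normalizer_iff.mp (hS₂.1.2.1 hn) x
    rw [Subgroup.mem_inf, Subgroup.mem_inf, h1, h2]
  have h1 := hS.2 _ hNN inf_le_left
  have h2 := hS₂.2 _ hNN inf_le_right
  exact le_antisymm (h1.trans inf_le_right) (h2.trans inf_le_left)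

theorem commute_of_normalize_of_disjoint {A B : Subgroup H}
    (hAB : A ≤ Subgroup.normalizer (B : Set H)) (hBA : B ≤ Subgroup.normalizer (A : Set H))
    (hdisj : A ⊓ B = ⊥) {a b : H} (ha : a ∈ A) (hb : b ∈ B) : Commute a b := by
  have h1 : a * b * a⁻¹ * b⁻¹ ∈ B := by
    apply B.mul_mem _ (B.inv_mem hb)
    exact (Subgroup.mem_normalizer_iff.mp (hAB ha) b).mp hb
  have h2 : a * b * a⁻¹ * b⁻¹ ∈ A := by
    have : a * b * a⁻¹ * b⁻¹ = a * (b * a⁻¹ * b⁻¹) := by group
    rw [this]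
    apply A.mul_mem ha
    exact (Subgroup.mem_normalizer_iff.mp (hBA hb) a⁻¹).mp (A.inv_mem ha)
  have h3 : a * b * a⁻¹ * b⁻¹ ∈ A ⊓ B := ⟨h2, h1⟩
  rw [hdisj, Subgroup.mem_bot] at h3
  show a * b = b * a
  have : a * b = (a * b * a⁻¹ * b⁻¹) * (b * a) := by group
  rw [this, h3, one_mul]


section PPrimeCore

variable {G : Type*} [Group G]

/-- A general principle: the join of an automorphism-invariant family of subgroups is
characteristic. (after Helper1's library) -/
theorem char_sSup_of_forall_map_mem (S : Set (Subgroup G))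
    (h : ∀ (φ : G ≃* G) (N : Subgroup G), N ∈ S → N.map φ.toMonoidHom ∈ S) :
    (sSup S).Characteristic := by
  rw [Subgroup.characteristic_iff_map_le]
  intro φ
  rw [Subgroup.map_le_iff_le_comap]
  refine sSup_le fun N hN => ?_
  rw [← Subgroup.map_le_iff_le_comap]
  exact le_sSup (h φ N hN)

theorem pPrimeCore_char (p : ℕ) : (pPrimeCore p G).Characteristic := by
  apply char_sSup_of_forall_map_mem
  rintro φ N ⟨hN, hp⟩
  refine ⟨hN.map _ φ.surjective, ?_⟩
  have : Nat.card (N.map φ.toMonoidHom) = Nat.card N :=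
    Subgroup.card_map_of_injective (f := φ.toMonoidHom) φ.injective
  rwa [this]

theorem card_sup_dvd_mul [Finite G] (A B : Subgroup G) [A.Normal] :
    Nat.card (A ⊔ B : Subgroup G) ∣ Nat.card A * Nat.card B := by
  have h1 : A.relIndex (A ⊔ B) = A.relIndex B := Subgroup.relIndex_sup_left B A
  have h2 : A.relIndex (A ⊔ B) * Nat.card A = Nat.card (A ⊔ B : Subgroup G) := by
    have := Subgroup.relIndex_mul_relIndex ⊥ A (A ⊔ B) bot_le le_sup_left
    rw [Subgroup.relIndex_bot_left, Subgroup.relIndex_bot_left] at this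
    rw [mul_comm]; exact this
  rw [← h2, h1, mul_comm]
  exact Nat.mul_dvd_mul_left _ (Subgroup.relIndex_dvd_card A B)

theorem sSup_ind_of_finite {α : Type*} [CompleteLattice α] [Finite α] (P : α → Prop)
    (hbot : P ⊥) (hsup : ∀ a b, P a → P b → P (a ⊔ b)) (S : Set α) (hS : ∀ a ∈ S, P a) :
    P (sSup S) := by
  classical
  have hfin : S.Finite := Set.toFinite S
  have : sSup S = hfin.toFinset.sup id := by
    rw [Finset.sup_id_eq_sSup]; simp
  rw [this]
  apply Finset.sup_induction hbot (fun a ha b hb => hsup a b ha hb)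
  intro b hb
  exact hS b (by simpa using hb)

theorem pPrimeCore_coprime [Finite G] (p : ℕ) : (Nat.card (pPrimeCore p G)).Coprime p := by
  have := sSup_ind_of_finite (fun N : Subgroup G => N.Normal ∧ (Nat.card N).Coprime p)
    ⟨inferInstance, by simp⟩
    (by
      rintro a b ⟨ha, ha'⟩ ⟨hb, hb'⟩
      refine ⟨inferInstance, ?_⟩
      exact Nat.Coprime.coprime_dvd_left (card_sup_dvd_mul a b) (Nat.Coprime.mul_left ha' hb'))
    {N : Subgroup G | N.Normal ∧ (Nat.card N).Coprime p} (fun _ h => h)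
  exact this.2

end PPrimeCore

section Main
variable [Finite H] (p : ℕ) [Fact p.Prime]

theorem le_sylow_of_le_normalizer (P : Sylow p H) (R : Subgroup H) (hR : IsPGroup p R)
    (hRN : R ≤ Subgroup.normalizer ((P : Subgroup H) : Set H)) : R ≤ (P : Subgroup H) := by
  have h := hR.inf_normalizer_sylow P
  have h2 : R ≤ R ⊓ Subgroup.normalizer (P : Set H) := le_inf le_rfl hRN
  exact (h2.trans h.le).trans inf_le_right

theorem eq_bot_of_le_normalizer (hOp : Cfsg.pCore p H = ⊥) (hOp' : Cfsg.pPrimeCore p H = ⊥)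
    (P : Sylow p H) (K : Subgroup H) (hK : K.Normal)
    (hKN : K ≤ Subgroup.normalizer ((P : Subgroup H) : Set H)) : K = ⊥ := by
  have hPK : IsPGroup p ((P : Subgroup H) ⊓ K : Subgroup H) := P.2.to_inf_left
  have hnorm : ((P : Subgroup H) ⊓ K).Normal := by
    constructor
    intro n hn g
    have h1 : g * n * g⁻¹ ∈ K := hK.conj_mem n hn.2 g
    refine ⟨?_, h1⟩
    have hR : IsPGroup p (((P : Subgroup H) ⊓ K).map (MulAut.conj g).toMonoidHom) := hPK.map _
    have hRK : ((P : Subgroup H) ⊓ K).map (MulAut.conj g).toMonoidHom ≤ K := by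
      rintro _ ⟨y, hy, rfl⟩
      exact hK.conj_mem y hy.2 g
    have := le_sylow_of_le_normalizer p P _ hR (hRK.trans hKN)
    apply this
    exact ⟨n, hn, rfl⟩
  have hbot : (P : Subgroup H) ⊓ K = ⊥ := by
    rw [eq_bot_iff, ← hOp]
    exact le_sSup ⟨hnorm, hPK⟩
  have hcop : (Nat.card K).Coprime p := by
    rw [Nat.coprime_comm, Nat.Prime.coprime_iff_not_dvd Fact.out]
    intro hdvd
    obtain ⟨k, hk⟩ := exists_prime_orderOf_dvd_card' p hdvd
    have hk' : orderOf (k : H) = p := by rw [Subgroup.orderOf_coe]; exact hk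
    have hz : IsPGroup p (Subgroup.zpowers (k : H)) := by
      apply IsPGroup.of_card (n := 1)
      rw [Nat.card_zpowers, hk', pow_one]
    have hzK : Subgroup.zpowers (k : H) ≤ K := by
      rw [Subgroup.zpowers_le]; exact k.2
    have := le_sylow_of_le_normalizer p P _ hz (hzK.trans hKN)
    have hkP : (k : H) ∈ (P : Subgroup H) ⊓ K := ⟨this (Subgroup.mem_zpowers _), k.2⟩
    rw [hbot, Subgroup.mem_bot] at hkP
    rw [hkP, orderOf_one] at hk'
    exact (Fact.out : p.Prime).one_lt.ne hk'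
  rw [eq_bot_iff, ← hOp']
  exact le_sSup ⟨hK, hcop⟩

theorem exists_mem_sylow_inf (hOp' : Cfsg.pPrimeCore p H = ⊥)
    (P : Sylow p H) (K : Subgroup H) (hK : K.Normal) (hK1 : K ≠ ⊥) :
    ∃ x : H, x ∈ (P : Subgroup H) ∧ x ∈ K ∧ x ≠ 1 := by
  have hdvd : p ∣ Nat.card K := by
    by_contra hnd
    apply hK1
    rw [eq_bot_iff, ← hOp']
    apply le_sSup
    refine ⟨hK, ?_⟩
    rw [Nat.coprime_comm, Nat.Prime.coprime_iff_not_dvd Fact.out]
    exact hnd
  obtain ⟨k, hk⟩ := exists_prime_orderOf_dvd_card' p hdvd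
  have hk' : orderOf (k : H) = p := by rw [Subgroup.orderOf_coe]; exact hk
  have hz : IsPGroup p (Subgroup.zpowers (k : H)) := by
    apply IsPGroup.of_card (n := 1)
    rw [Nat.card_zpowers, hk', pow_one]
  obtain ⟨Q, hQ⟩ := hz.exists_le_sylow
  obtain ⟨g, hg⟩ := MulAction.exists_smul_eq H Q P
  refine ⟨g * k * g⁻¹, ?_, hK.conj_mem _ k.2 g, ?_⟩
  · rw [← hg]
    show g * k * g⁻¹ ∈ MulAut.conj g • (Q : Subgroup H)
    rw [mem_conj_smul_iff]
    have : g⁻¹ * (g * ↑k * g⁻¹) * g = k := by group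
    rw [this]
    exact hQ (Subgroup.mem_zpowers _)
  · intro h
    have : (k : H) = 1 := by
      have e : (k : H) = g⁻¹ * (g * k * g⁻¹) * g := by group
      rw [e, h]; group
    rw [this, orderOf_one] at hk'
    exact (Fact.out : p.Prime).one_lt.ne hk'


theorem inf_ne_bot (hOp : Cfsg.pCore p H = ⊥) (hOp' : Cfsg.pPrimeCore p H = ⊥)
    (P : Sylow p H) (hTI : TI (P : Subgroup H)) (N₁ N₂ : Subgroup H) (h1 : N₁.Normal)
    (h2 : N₂.Normal) (hN1 : N₁ ≠ ⊥) (hN2 : N₂ ≠ ⊥) : N₁ ⊓ N₂ ≠ ⊥ := by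
  intro hdisj
  obtain ⟨x, hxP, hxN, hx1⟩ := exists_mem_sylow_inf p hOp' P N₁ h1 hN1
  apply hN2
  apply eq_bot_of_le_normalizer p hOp hOp' P N₂ h2
  intro n hn
  apply mem_normalizer_of_TI_of_commute hTI hxP hx1
  apply Subgroup.commute_of_normal_of_disjoint N₂ N₁ h2 h1 _ n x hn hxN
  rw [disjoint_iff, inf_comm]; exact hdisj

theorem exists_min_normal (hOp : Cfsg.pCore p H = ⊥) (hOp' : Cfsg.pPrimeCore p H = ⊥)
    (P : Sylow p H) (hP1 : (P : Subgroup H) ≠ ⊥) (hTI : TI (P : Subgroup H)) :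
    ∃ N : Subgroup H, N.Normal ∧ N ≠ ⊥ ∧ (∀ K : Subgroup H, K.Normal → K ≠ ⊥ → N ≤ K) := by
  have htop : (⊤ : Subgroup H) ≠ ⊥ := by
    intro h
    apply hP1
    rw [eq_bot_iff, ← h]; exact le_top
  obtain ⟨N, ⟨hN, hN1⟩, hmin⟩ := exists_minimal_of_wellFoundedLT
    (fun K : Subgroup H => K.Normal ∧ K ≠ ⊥) ⟨⊤, inferInstance, htop⟩
  refine ⟨N, hN, hN1, ?_⟩
  intro K hK hK1
  have h1 : (N ⊓ K).Normal := Subgroup.normal_inf_normal N K
  have h2 : N ⊓ K ≠ ⊥ := inf_ne_bot p hOp hOp' P hTI N K hN hK hN1 hK1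
  exact (hmin ⟨h1, h2⟩ inf_le_left).trans inf_le_right

theorem centralizer_eq_bot (hOp : Cfsg.pCore p H = ⊥) (hOp' : Cfsg.pPrimeCore p H = ⊥)
    (P : Sylow p H) (hTI : TI (P : Subgroup H)) (N : Subgroup H) (hN : N.Normal) (hN1 : N ≠ ⊥)
    (hmin : ∀ K : Subgroup H, K.Normal → K ≠ ⊥ → N ≤ K) :
    Subgroup.centralizer (N : Set H) = ⊥ := by
  by_contra hC
  have hCn : (Subgroup.centralizer (N : Set H)).Normal := Subgroup.normal_centralizer
  have hNC := hmin _ hCn hC
  obtain ⟨x, hxP, hxN, hx1⟩ := exists_mem_sylow_inf p hOp' P N hN hN1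
  apply hN1
  apply eq_bot_of_le_normalizer p hOp hOp' P N hN
  intro n hn
  apply mem_normalizer_of_TI_of_commute hTI hxP hx1
  have := Subgroup.mem_centralizer_iff.mp (hNC hn) x hxN
  exact this.symm


theorem false_of_minNN_p (hOp : Cfsg.pCore p H = ⊥) (hOp' : Cfsg.pPrimeCore p H = ⊥)
    (P : Sylow p H) (hTI : TI (P : Subgroup H)) (N : Subgroup H) (hN : N.Normal)
    (hmin : ∀ K : Subgroup H, K.Normal → K ≠ ⊥ → N ≤ K) (S : Subgroup H) (hS : MinNN N S)
    (hSN : S ≠ N) (x : H) (hxS : x ∈ S) (hxP : x ∈ (P : Subgroup H)) (hx1 : x ≠ 1) : False := by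
  -- a. some conjugate differs
  have ha : ∃ h : H, MulAut.conj h • S ≠ S := by
    by_contra hall
    push Not at hall
    have hSn : S.Normal := Subgroup.Normal.of_conjugate_fixed hall
    exact hSN (le_antisymm hS.1.1 (hmin S hSn hS.1.2.2))
  obtain ⟨h₀, hh₀⟩ := ha
  -- b. conjugates different from S commute with S
  have hcomm : ∀ h : H, MulAut.conj h • S ≠ S → ∀ a ∈ MulAut.conj h • S, ∀ b ∈ S, Commute a b := by
    intro h hh a ha b hb
    have hm := MinNN_conj hN hS h
    have hd := MinNN_inf_eq_bot hm hS hh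
    exact commute_of_normalize_of_disjoint (hm.1.1.trans hS.1.2.1) (hS.1.1.trans hm.1.2.1) hd ha hb
  have hb : ∀ h : H, MulAut.conj h • S ≠ S →
      MulAut.conj h • S ≤ Subgroup.normalizer ((P : Subgroup H) : Set H) := by
    intro h hh a ha
    exact mem_normalizer_of_TI_of_commute hTI hxP hx1 (hcomm h hh a ha x hxS)
  -- c. p divides the order of the conjugate
  have hpS : p ∣ Nat.card S := by
    have hpg : IsPGroup p (S ⊓ (P : Subgroup H) : Subgroup H) := P.2.to_inf_right
    have hne : Nat.card (S ⊓ (P : Subgroup H) : Subgroup H) ≠ 1 := by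
      intro h1
      rw [Subgroup.card_eq_one] at h1
      have : x ∈ S ⊓ (P : Subgroup H) := ⟨hxS, hxP⟩
      rw [h1, Subgroup.mem_bot] at this
      exact hx1 this
    have := hpg.card_eq_or_dvd.resolve_left hne
    exact this.trans (Subgroup.card_dvd_of_le inf_le_left)
  have hpS' : p ∣ Nat.card (MulAut.conj h₀ • S : Subgroup H) := by
    rw [← Nat.card_congr (Subgroup.equivSMul (MulAut.conj h₀) S).toEquiv]
    exact hpS
  -- d. an element of order p in the conjugate lies in P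
  obtain ⟨y, hy⟩ := exists_prime_orderOf_dvd_card' p hpS'
  have hy' : orderOf (y : H) = p := by rw [Subgroup.orderOf_coe]; exact hy
  have hz : IsPGroup p (Subgroup.zpowers (y : H)) := by
    apply IsPGroup.of_card (n := 1)
    rw [Nat.card_zpowers, hy', pow_one]
  have hzS : Subgroup.zpowers (y : H) ≤ MulAut.conj h₀ • S := by
    rw [Subgroup.zpowers_le]; exact y.2
  have hyP : (y : H) ∈ (P : Subgroup H) :=
    le_sylow_of_le_normalizer p P _ hz (hzS.trans (hb h₀ hh₀)) (Subgroup.mem_zpowers _)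
  have hy1 : (y : H) ≠ 1 := by
    intro h1
    rw [h1, orderOf_one] at hy'
    exact (Fact.out : p.Prime).one_lt.ne hy'
  have hSle : S ≤ Subgroup.normalizer ((P : Subgroup H) : Set H) := by
    intro b hb'
    exact mem_normalizer_of_TI_of_commute hTI hyP hy1 (hcomm h₀ hh₀ y y.2 b hb').symm
  -- e. normal closure
  have hcl : Subgroup.normalClosure (S : Set H) ≤ Subgroup.normalizer ((P : Subgroup H) : Set H) := by
    unfold Subgroup.normalClosure
    rw [Subgroup.closure_le]
    intro a ha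
    rw [Group.mem_conjugatesOfSet_iff] at ha
    obtain ⟨s₀, hs₀, hconj⟩ := ha
    rw [isConj_iff] at hconj
    obtain ⟨c, rfl⟩ := hconj
    have hs₀' : s₀ ∈ S := hs₀
    have hmem : c * s₀ * c⁻¹ ∈ MulAut.conj c • S := by
      rw [mem_conj_smul_iff]
      have e : c⁻¹ * (c * s₀ * c⁻¹) * c = s₀ := by group
      rw [e]; exact hs₀'
    by_cases hc : MulAut.conj c • S = S
    · rw [hc] at hmem
      exact hSle hmem
    · exact hb c hc hmem
  have := eq_bot_of_le_normalizer p hOp hOp' P _ Subgroup.normalClosure_normal hcl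
  apply hS.1.2.2
  rw [eq_bot_iff, ← this]
  exact Subgroup.le_normalClosure


theorem eq_bot_of_normal_coprime (hOp' : Cfsg.pPrimeCore p H = ⊥) (N : Subgroup H) (hN : N.Normal)
    (T' : Subgroup N) (hT : T'.Normal) (hcop : (Nat.card T').Coprime p) : T' = ⊥ := by
  have h1 : T' ≤ pPrimeCore p N := le_sSup ⟨hT, hcop⟩
  have hchar : (pPrimeCore p N).Characteristic := pPrimeCore_char p
  have hW : ((pPrimeCore p N).map N.subtype).Normal := ConjAct.normal_of_characteristic_of_normal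
  have hWc : (Nat.card ((pPrimeCore p N).map N.subtype)).Coprime p := by
    rw [Subgroup.card_map_of_injective N.subtype_injective]
    exact pPrimeCore_coprime p
  have hWbot : (pPrimeCore p N).map N.subtype = ⊥ := by
    rw [eq_bot_iff, ← hOp']
    exact le_sSup ⟨hW, hWc⟩
  rw [Subgroup.map_eq_bot_iff_of_injective _ N.subtype_injective] at hWbot
  rw [eq_bot_iff, ← hWbot]
  exact h1


theorem isSimpleGroup_of_min (hOp : Cfsg.pCore p H = ⊥) (hOp' : Cfsg.pPrimeCore p H = ⊥)
    (hTIall : ∀ P : Sylow p H, TI (P : Subgroup H)) (N : Subgroup H) (hN : N.Normal) (hN1 : N ≠ ⊥)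
    (hmin : ∀ K : Subgroup H, K.Normal → K ≠ ⊥ → N ≤ K) : IsSimpleGroup N := by
  have hnt : Nontrivial N := (Subgroup.nontrivial_iff_ne_bot N).mpr hN1
  refine { toNontrivial := hnt, eq_bot_or_eq_top_of_normal := fun T' hT' => ?_ }
  by_contra hcon
  push Not at hcon
  obtain ⟨S', hS'T, ⟨hS'n, hS'1⟩, hS'min⟩ := exists_minimal_le_of_wellFoundedLT
    (fun K : Subgroup N => K.Normal ∧ K ≠ ⊥) T' ⟨hT', hcon.1⟩
  have hS'top : S' ≠ ⊤ := by
    intro h
    apply hcon.2
    rw [eq_top_iff, ← h]; exact hS'T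
  have hSS' : (S'.map N.subtype).subgroupOf N = S' :=
    Subgroup.comap_map_eq_self_of_injective N.subtype_injective S'
  have hSle : S'.map N.subtype ≤ N := Subgroup.map_subtype_le S'
  have hNN : NN N (S'.map N.subtype) := by
    refine ⟨hSle, ?_, ?_⟩
    · rw [← Subgroup.normal_subgroupOf_iff_le_normalizer hSle, hSS']
      exact hS'n
    · rw [Ne, Subgroup.map_eq_bot_iff_of_injective _ N.subtype_injective]
      exact hS'1
  have hMin : MinNN N (S'.map N.subtype) := by
    refine ⟨hNN, ?_⟩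
    intro T hT hTS
    have h1 : (T.subgroupOf N).Normal := by
      rw [Subgroup.normal_subgroupOf_iff_le_normalizer hT.1]
      exact hT.2.1
    have h2 : T.subgroupOf N ≠ ⊥ := by
      rw [Ne, Subgroup.subgroupOf_eq_bot, disjoint_iff, inf_of_le_left hT.1]
      exact hT.2.2
    have h3 : T.subgroupOf N ≤ S' := by
      rw [← hSS']
      exact Subgroup.subgroupOf_mono N hTS
    have h4 := hS'min ⟨h1, h2⟩ h3
    calc S'.map N.subtype ≤ (T.subgroupOf N).map N.subtype := Subgroup.map_mono h4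
      _ = T := Subgroup.map_subgroupOf_eq_of_le hT.1
  have hSN : S'.map N.subtype ≠ N := by
    intro h
    apply hS'top
    rw [← hSS', h, Subgroup.subgroupOf_self]
  by_cases hp : p ∣ Nat.card S'
  · obtain ⟨s, hs⟩ := exists_prime_orderOf_dvd_card' p hp
    have hs' : orderOf ((s : N) : H) = p := by
      rw [Subgroup.orderOf_coe, Subgroup.orderOf_coe]; exact hs
    have hz : IsPGroup p (Subgroup.zpowers ((s : N) : H)) := by
      apply IsPGroup.of_card (n := 1)
      rw [Nat.card_zpowers, hs', pow_one]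
    obtain ⟨Q, hQ⟩ := hz.exists_le_sylow
    have hs1 : ((s : N) : H) ≠ 1 := by
      intro h1
      rw [h1, orderOf_one] at hs'
      exact (Fact.out : p.Prime).one_lt.ne hs'
    have hsS : ((s : N) : H) ∈ S'.map N.subtype := ⟨(s : N), s.2, rfl⟩
    exact false_of_minNN_p p hOp hOp' Q (hTIall Q) N hN hmin _ hMin hSN _ hsS
      (hQ (Subgroup.mem_zpowers _)) hs1
  · apply hS'1
    apply eq_bot_of_normal_coprime p hOp' N hN S' hS'n
    rw [Nat.coprime_comm, Nat.Prime.coprime_iff_not_dvd Fact.out]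
    exact hp


theorem sylow_TI_in_normal (hOp' : Cfsg.pPrimeCore p H = ⊥)
    (hTIall : ∀ P : Sylow p H, TI (P : Subgroup H)) (N : Subgroup H) (hN : N.Normal) (hN1 : N ≠ ⊥)
    (Q : Sylow p N) : (Q : Subgroup N) ≠ ⊥ ∧
      ∀ n : N, n ∉ Subgroup.normalizer ((Q : Subgroup N) : Set N) →
        (Q : Subgroup N) ⊓ (MulAut.conj n • (Q : Subgroup N)) = ⊥ := by
  constructor
  · have P : Sylow p H := default
    obtain ⟨x, hxP, hxN, hx1⟩ := exists_mem_sylow_inf p hOp' P N hN hN1
    have hpN : p ∣ Nat.card N := by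
      have hpg : IsPGroup p (N ⊓ (P : Subgroup H) : Subgroup H) := P.2.to_inf_right
      have hne : Nat.card (N ⊓ (P : Subgroup H) : Subgroup H) ≠ 1 := by
        intro h1
        rw [Subgroup.card_eq_one] at h1
        have : x ∈ N ⊓ (P : Subgroup H) := ⟨hxN, hxP⟩
        rw [h1, Subgroup.mem_bot] at this
        exact hx1 this
      have := hpg.card_eq_or_dvd.resolve_left hne
      exact this.trans (Subgroup.card_dvd_of_le inf_le_left)
    exact Q.ne_bot_of_dvd_card hpN
  · intro n hn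
    by_contra hne
    apply hn
    rw [← Ne, Subgroup.ne_bot_iff_exists_ne_one] at hne
    obtain ⟨⟨y, hy⟩, hy1⟩ := hne
    have hy1' : y ≠ 1 := fun h => hy1 (by ext; simp [h])
    have hyQ : y ∈ (Q : Subgroup N) := hy.1
    have hyQ' : n⁻¹ * y * n ∈ (Q : Subgroup N) := (mem_conj_smul_iff n y _).mp hy.2
    have hmap : IsPGroup p ((Q : Subgroup N).map N.subtype) := Q.2.map _
    obtain ⟨P', hP'⟩ := hmap.exists_le_sylow
    have hTI := hTIall P'
    have h1 : ((n⁻¹ * y * n : N) : H) ∈ (P' : Subgroup H) := hP' ⟨_, hyQ', rfl⟩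
    have h2 : ((n⁻¹ * y * n : N) : H) ≠ 1 := by
      intro h
      apply hy1'
      have h' : n⁻¹ * y * n = 1 := by ext; exact h
      have e : y = n * (n⁻¹ * y * n) * n⁻¹ := by group
      rw [e, h']; group
    have h3 : (n : H) * ((n⁻¹ * y * n : N) : H) * (n : H)⁻¹ ∈ (P' : Subgroup H) := by
      have e : (n : H) * ((n⁻¹ * y * n : N) : H) * (n : H)⁻¹ = (y : H) := by
        push_cast; group
      rw [e]
      exact hP' ⟨_, hyQ, rfl⟩
    have hnP' : (n : H) ∈ Subgroup.normalizer ((P' : Subgroup H) : Set H) :=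
      mem_normalizer_of_TI hTI h1 h2 h3
    -- Q = (P' ⊓ N).subgroupOf N
    have hQ' : IsPGroup p (((P' : Subgroup H) ⊓ N).subgroupOf N) :=
      (P'.2.to_inf_left).comap_subtype
    have hle : (Q : Subgroup N) ≤ ((P' : Subgroup H) ⊓ N).subgroupOf N := by
      intro z hz
      exact ⟨hP' ⟨z, hz, rfl⟩, z.2⟩
    have hQeq := Q.is_maximal' hQ' hle
    have hiff : ∀ z : N, z ∈ (Q : Subgroup N) ↔ (z : H) ∈ (P' : Subgroup H) := by
      intro z
      rw [← hQeq]
      constructor
      · intro hz; exact hz.1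
      · intro hz; exact ⟨hz, z.2⟩
    rw [Subgroup.mem_normalizer_iff]
    intro z
    rw [hiff, hiff]
    have := Subgroup.mem_normalizer_iff.mp hnP' (z : H)
    rw [this]
    push_cast
    rfl

end Main

/-- Let H be a finite group with no nontrivial normal p-subgroup and no nontrivial normal subgroup of order prime to p, whose Sylow p-subgroup P is nontrivial and a trivial-intersection set (P meets its conjugates by elements outside N_H(P) trivially). Then H has a unique minimal normal subgroup N; N is non-abelian simple with trivial centralizer in H (so H embeds in Aut(N)), and a Sylow p-subgroup of N is again a nontrivial trivial-intersection set in N. -/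
theorem result {H : Type*} [Group H] [Finite H] (p : ℕ) [Fact p.Prime] (hOp : Cfsg.pCore p H = ⊥) (hOp' : Cfsg.pPrimeCore p H = ⊥) (P : Sylow p H) (hP1 : (P : Subgroup H) ≠ ⊥)
    (hTI : ∀ g : H, g ∉ Subgroup.normalizer ((P : Subgroup H) : Set H) → (P : Subgroup H) ⊓ (MulAut.conj g • (P : Subgroup H)) = ⊥) :
    ∃ N : Subgroup H, N.Normal ∧ N ≠ ⊥ ∧ (∀ K : Subgroup H, K.Normal → K ≠ ⊥ → N ≤ K) ∧
      IsSimpleGroup N ∧ ¬ IsMulCommutative N ∧ Subgroup.centralizer (N : Set H) = ⊥ ∧
      ∀ Q : Sylow p N, (Q : Subgroup N) ≠ ⊥ ∧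
        ∀ n : N, n ∉ Subgroup.normalizer ((Q : Subgroup N) : Set N) → (Q : Subgroup N) ⊓ (MulAut.conj n • (Q : Subgroup N)) = ⊥ := by
  have hTI0 : TI (P : Subgroup H) := hTI
  have hTIall : ∀ P' : Sylow p H, TI (P' : Subgroup H) := by
    intro P'
    obtain ⟨g, hg⟩ := MulAction.exists_smul_eq H P P'
    rw [← hg]
    exact TI_conj hTI0 g
  obtain ⟨N, hN, hN1, hmin⟩ := exists_min_normal p hOp hOp' P hP1 hTI0
  have hC := centralizer_eq_bot p hOp hOp' P hTI0 N hN hN1 hmin
  refine ⟨N, hN, hN1, hmin, isSimpleGroup_of_min p hOp hOp' hTIall N hN hN1 hmin, ?_, hC,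
    fun Q => sylow_TI_in_normal p hOp' hTIall N hN hN1 Q⟩
  intro hcomm
  apply hN1
  rw [eq_bot_iff, ← hC]
  intro n hn
  rw [Subgroup.mem_centralizer_iff]
  intro m hm
  have := hcomm.is_comm.comm (⟨m, hm⟩ : N) ⟨n, hn⟩
  exact congrArg Subtype.val this

end Cfsg.Agent.S4620
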