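import Cfsg.Statements.S4623
import Cfsg.Agent.Lib.Helper35.SymSylow

set_option autoImplicit false
open Cfsg

namespace Cfsg.Agent.S4623

open Cfsg.Agent.Lib.Helper35

/-- For every prime p and every n, a Sylow p-subgroup P of the symmetric group on n letters has P/P' elementary abelian (the p-th power of every element of P lies in the derived subgroup of P), and the same holds for a Sylow p-subgroup of the alternating group on n letters. -/
theorem result (p : ℕ) [Fact p.Prime] (n : ℕ) (P : Sylow p (Equiv.Perm (Fin n))) (Q : Sylow p (alternatingGroup (Fin n))) :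
    (∀ x : (P : Subgroup (Equiv.Perm (Fin n))), x ^ p ∈ commutator (P : Subgroup (Equiv.Perm (Fin n)))) ∧
    (∀ x : (Q : Subgroup (alternatingGroup (Fin n))), x ^ p ∈ commutator (Q : Subgroup (alternatingGroup (Fin n)))) := by
  obtain ⟨Q0, hcard, hgen, hgenA⟩ := exists_sylow_model p n (Fin n) (by simp)
  have hp : p.Prime := Fact.out
  have hcard' : Nat.card Q0 = p ^ (Nat.card (Equiv.Perm (Fin n))).factorization p := by
    rw [hcard, Nat.card_eq_fintype_card, Fintype.card_perm, Fintype.card_fin,
      Nat.factorization_def _ hp]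
  let P0 : Sylow p (Equiv.Perm (Fin n)) := Sylow.ofCard Q0 hcard'
  have hP0 : (P0 : Subgroup (Equiv.Perm (Fin n))) = Q0 := Sylow.coe_ofCard Q0 hcard'
  constructor
  · have h0 : GenByP p ↥(P0 : Subgroup (Equiv.Perm (Fin n))) := by
      rw [hP0]; exact hgen.genByP
    have h1 : GenByP p ↥(P : Subgroup (Equiv.Perm (Fin n))) := h0.of_mulEquiv (Sylow.equiv P0 P)
    exact h1.pow_mem_commutator
  · -- the alternating group
    have hQp : IsPGroup p ((Q : Subgroup (alternatingGroup (Fin n))).map
        (alternatingGroup (Fin n)).subtype) := Q.isPGroup'.map _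
    obtain ⟨P1, hP1⟩ := hQp.exists_le_sylow
    obtain ⟨g, hg⟩ := MulAction.exists_smul_eq (Equiv.Perm (Fin n)) P0 P1
    -- Q = P1 ∩ A
    have hQeq : (P1 : Subgroup (Equiv.Perm (Fin n))).subgroupOf (alternatingGroup (Fin n)) =
        (Q : Subgroup (alternatingGroup (Fin n))) := by
      apply Q.is_maximal' (P1.isPGroup'.comap_subtype)
      intro x hx
      exact Subgroup.mem_subgroupOf.2 (hP1 (Subgroup.mem_map_of_mem _ hx))
    -- P1 ∩ A is the conjugate of Q0 ∩ A
    have hconj : ((Q0 ⊓ alternatingGroup (Fin n)).map (MulAut.conj g).toMonoidHom) =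
        (P1 : Subgroup (Equiv.Perm (Fin n))) ⊓ alternatingGroup (Fin n) := by
      have h1 : (P1 : Subgroup (Equiv.Perm (Fin n))) =
          (P0 : Subgroup (Equiv.Perm (Fin n))).map (MulAut.conj g).toMonoidHom := by
        rw [← hg, Sylow.coe_subgroup_smul, Subgroup.pointwise_smul_def]
        rfl
      have h2 : (alternatingGroup (Fin n)).map (MulAut.conj g).toMonoidHom =
          alternatingGroup (Fin n) := Subgroup.Normal.map_conj_eq (alternatingGroup (Fin n)) g
      rw [Subgroup.map_inf _ _ _ (MulAut.conj g).injective, ← hP0, ← h1, h2]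
    have hG1 : GenP p ((P1 : Subgroup (Equiv.Perm (Fin n))) ⊓ alternatingGroup (Fin n)) := by
      rw [← hconj]; exact hgenA.map _
    have hG2 : GenByP p ↥((P1 : Subgroup (Equiv.Perm (Fin n))) ⊓ alternatingGroup (Fin n)) :=
      hG1.genByP
    have e1 : ↥(((P1 : Subgroup (Equiv.Perm (Fin n))) ⊓ alternatingGroup (Fin n)).subgroupOf
        (alternatingGroup (Fin n))) ≃*
        ↥((P1 : Subgroup (Equiv.Perm (Fin n))) ⊓ alternatingGroup (Fin n)) :=
      Subgroup.subgroupOfEquivOfLe inf_le_right
    have hsub : ((P1 : Subgroup (Equiv.Perm (Fin n))) ⊓ alternatingGroup (Fin n)).subgroupOf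
        (alternatingGroup (Fin n)) = (Q : Subgroup (alternatingGroup (Fin n))) := by
      rw [Subgroup.inf_subgroupOf_right, hQeq]
    have hG3 : GenByP p ↥(Q : Subgroup (alternatingGroup (Fin n))) := by
      rw [← hsub]; exact hG2.of_mulEquiv e1.symm
    exact hG3.pow_mem_commutator

end Cfsg.Agent.S4623
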