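import Cfsg.Statements.S4625
import Mathlib
import Cfsg.Agent.Lib.Helper72.Lie2Gen
import Cfsg.Agent.Lib.Helper77.Lie2PSL
import Cfsg.Agent.Lib.Helper86.Lie2PSp
import Cfsg.Agent.Lib.Helper86.Lie2PSU
import Cfsg.Agent.Lib.Helper72.Lie2OPc
import Cfsg.Agent.Lib.Helper86.Lie2OMc
import Cfsg.Agent.Lib.Helper6.Lie2Exc
import Cfsg.Agent.Lib.Helper6.Lie2Tw
import Cfsg.Agent.Lib.Helper6.Lie2Sz
import Cfsg.Agent.Lib.Helper40.Lie2SqF4

set_option autoImplicit false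
open Cfsg Cfsg.Agent.Lib.Helper72.Lie2

namespace Cfsg.Agent.S4625

theorem not_odd_card_of_charP_two {F : Type} [Field F] [Fintype F] [CharP F 2] :
    ¬ Odd (Fintype.card F) := by
  intro h
  obtain ⟨n, -, hn⟩ := FiniteField.card F 2
  rw [hn] at h
  have : Even (2 ^ (n : ℕ)) := (Nat.even_pow' (PNat.ne_zero n)).2 even_two
  exact (Nat.not_even_iff_odd.2 h) this

/-- Let G be a finite simple group of Lie type in characteristic 2, not counting the Tits group ²F₄(2)′. Then a Sylow 2-subgroup P of G has P/P' elementary abelian: the square of every element of P lies in the derived subgroup of P. -/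
theorem result {G : Type*} [Group G] [Finite G] [IsSimpleGroup G] (hG : Cfsg.IsLieTypeChar 2 G) (P : Sylow 2 G) :
    ∀ x : (P : Subgroup G), x ^ 2 ∈ commutator (P : Subgroup G) := by
  show SqComm (P : Subgroup G)
  rcases hG with h | h | h | h | h | h | h | h | h | h | h
  · obtain ⟨F, _, _, _, n, hn, -, ⟨e⟩⟩ := h
    exact sqComm_sylow_of_mulEquiv e (fun Q => Cfsg.Agent.Lib.Helper77.Lie2.sqComm_PSL n hn Q) P
  · obtain ⟨F, _, _, _, m, hm, -, ⟨e⟩⟩ := h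
    exact sqComm_sylow_of_mulEquiv e (fun Q => Cfsg.Agent.Lib.Helper86.Lie2.sqComm_PSp m hm Q) P
  · obtain ⟨F, _, _, _, n, q, hF, hn, -, ⟨e⟩⟩ := h
    exact sqComm_sylow_of_mulEquiv e (fun Q => Cfsg.Agent.Lib.Helper86.Lie2.sqComm_PSU n q hF hn Q) P
  · obtain ⟨F, _, _, _, m, -, hodd, -⟩ := h
    exact absurd hodd not_odd_card_of_charP_two
  · obtain ⟨F, _, _, _, m, hm, ⟨e⟩⟩ := h
    exact sqComm_sylow_of_mulEquiv e (fun Q => Cfsg.Agent.Lib.Helper72.Lie2OP.sqComm_POmegaPlus m hm Q) P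
  · obtain ⟨F, _, _, _, m, a, b, hm, hab, ⟨e⟩⟩ := h
    exact sqComm_sylow_of_mulEquiv e (fun Q => Cfsg.Agent.Lib.Helper86.Lie2OM.sqComm_POmegaMinus m hm a b hab Q) P
  · obtain ⟨F, _, _, _, h⟩ := h
    rcases h with ⟨-, ⟨e⟩⟩ | ⟨⟨e⟩⟩ | ⟨⟨e⟩⟩ | ⟨⟨e⟩⟩ | ⟨⟨e⟩⟩
    · exact sqComm_sylow_of_mulEquiv e (fun Q => Cfsg.Agent.Lib.Helper6.Lie2.sqComm_chev Cfsg.Lie.chevG2 (by simp) Q) P
    · exact sqComm_sylow_of_mulEquiv e (fun Q => Cfsg.Agent.Lib.Helper6.Lie2.sqComm_chev Cfsg.Lie.chevF4 (by simp) Q) P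
    · exact sqComm_sylow_of_mulEquiv e (fun Q => Cfsg.Agent.Lib.Helper6.Lie2.sqComm_chev Cfsg.Lie.chevE6 (by simp) Q) P
    · exact sqComm_sylow_of_mulEquiv e (fun Q => Cfsg.Agent.Lib.Helper6.Lie2.sqComm_chev Cfsg.Lie.chevE7 (by simp) Q) P
    · exact sqComm_sylow_of_mulEquiv e (fun Q => Cfsg.Agent.Lib.Helper6.Lie2.sqComm_chev Cfsg.Lie.chevE8 (by simp) Q) P
  · obtain ⟨K, _, _, _, q, hq, h⟩ := h
    rcases h with ⟨hK, ⟨e⟩⟩ | ⟨hK, ⟨e⟩⟩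
    · exact sqComm_sylow_of_mulEquiv e (fun Q => Cfsg.Agent.Lib.Helper6.Lie2.sqComm_twistedE6 q hq hK Q) P
    · exact sqComm_sylow_of_mulEquiv e (fun Q => Cfsg.Agent.Lib.Helper6.Lie2.sqComm_twistedD4 q hq hK Q) P
  · obtain ⟨-, F, _, _, m, hm, hF, ⟨e⟩⟩ := h
    exact sqComm_sylow_of_mulEquiv e (fun Q => Cfsg.Agent.Lib.Helper6.Lie2.sqComm_Sz m hm hF Q) P
  · obtain ⟨-, K, _, _, m, hm, hK, ⟨e⟩⟩ := h
    exact sqComm_sylow_of_mulEquiv e (fun Q => Cfsg.Agent.Lib.Helper40.Lie2.sqComm_twistedF4 m hm hK Q) P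
  · obtain ⟨h23, -⟩ := h
    omega

end Cfsg.Agent.S4625
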