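import Cfsg.Statements.S4626
import Cfsg.Agent.Lib.Helper77.Deflation
import Cfsg.Agent.Lib.Helper79.Schur
import Cfsg.Agent.Lib.Helper16.LocalRing

set_option autoImplicit false
open Cfsg

namespace Cfsg.Agent.S4626

open Cfsg.Agent.Lib

/-- If `p` does not divide the class size of `g`, some conjugate of `g` centralizes `P`. -/
theorem exists_conj_mem_centralizer {G : Type*} [Group G] [Finite G] (p : ℕ) [Fact p.Prime]
    (P : Sylow p G) (g : G) (hp : ¬ p ∣ (Subgroup.centralizer ({g} : Set G)).index) :
    ∃ x : G, x * g * x⁻¹ ∈ Subgroup.centralizer ((P : Subgroup G) : Set G) := by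
  obtain ⟨a, ha⟩ := P.2.nonempty_fixed_point_of_prime_not_dvd_card
    (G ⧸ Subgroup.centralizer ({g} : Set G)) hp
  obtain ⟨x, rfl⟩ := QuotientGroup.mk_surjective a
  refine ⟨x, ?_⟩
  rw [Subgroup.mem_centralizer_iff]
  intro y hy
  have h1 := ha ⟨y, hy⟩
  have h2 : ((y * x : G) : G ⧸ Subgroup.centralizer ({g} : Set G)) = (x : G ⧸ _) := h1
  rw [QuotientGroup.eq] at h2
  rw [Subgroup.mem_centralizer_iff] at h2
  have h3 := h2 g (Set.mem_singleton g)
  -- h3 : g * ((y*x)⁻¹ * x) = (y*x)⁻¹ * x * g
  have h4 : g * (x⁻¹ * y⁻¹ * x) = x⁻¹ * y⁻¹ * x * g := by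
    have e : (y * x)⁻¹ * x = x⁻¹ * y⁻¹ * x := by group
    rw [e] at h3; exact h3
  -- want y * (x g x⁻¹) = x g x⁻¹ * y
  have h5 : x * (g * (x⁻¹ * y⁻¹ * x)) * x⁻¹ = x * (x⁻¹ * y⁻¹ * x * g) * x⁻¹ := by rw [h4]
  have h6 : x * g * x⁻¹ * y⁻¹ = y⁻¹ * (x * g * x⁻¹) := by
    have e1 : x * (g * (x⁻¹ * y⁻¹ * x)) * x⁻¹ = x * g * x⁻¹ * y⁻¹ := by group
    have e2 : x * (x⁻¹ * y⁻¹ * x * g) * x⁻¹ = y⁻¹ * (x * g * x⁻¹) := by group
    rw [← e1, ← e2, h5]
  calc y * (x * g * x⁻¹) = y * (x * g * x⁻¹ * y⁻¹) * y := by group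
    _ = y * (y⁻¹ * (x * g * x⁻¹)) * y := by rw [h6]
    _ = x * g * x⁻¹ * y := by group

theorem irr_one_ne_zero {G : Type*} [Group G] (ψ : Cfsg.IrrCharacter G) : (ψ : G → ℂ) 1 ≠ 0 :=
  Helper79.irr_apply_one_ne_zero ψ

/-- Let G be a finite group, p a prime, M a maximal ideal of the algebraic integers containing p, P a Sylow p-subgroup of G and N a normal subgroup of index prime to p containing the centralizer C_G(P). Then every irreducible character of G whose kernel contains N lies in the principal p-block of G. -/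
theorem result {G : Type*} [Group G] [Finite G] (p : ℕ) [Fact p.Prime] (M : Ideal Cfsg.AlgInt) (hM : Cfsg.IsPModular p M) (P : Sylow p G) (N : Subgroup G) [N.Normal] (hidx : ¬ p ∣ N.index)
    (hC : Subgroup.centralizer ((P : Subgroup G) : Set G) ≤ N) (χ : Cfsg.IrrCharacter G) (hker : ∀ n ∈ N, (χ : G → ℂ) n = (χ : G → ℂ) 1) :
    χ ∈ Cfsg.principalBlock M G := by
  have hMp : M.IsPrime := Helper16.isPModular_isPrime hM
  have hMtop : M ≠ ⊤ := hMp.ne_top
  have hχ1 : (χ : G → ℂ) 1 ≠ 0 := irr_one_ne_zero χ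
  show SameBlock M (fun _ : G => (1 : ℂ)) (χ : G → ℂ)
  intro g
  have h1 : centralChar (fun _ : G => (1 : ℂ)) g =
      ((Subgroup.centralizer ({g} : Set G)).index : ℂ) := by
    unfold centralChar; simp
  rw [h1]
  by_cases hp : p ∣ (Subgroup.centralizer ({g} : Set G)).index
  · -- the class size is divisible by p
    apply Helper16.memLocalIdeal_sub
    · exact (Helper16.memLocalIdeal_natCast_iff hM _).mpr hp
    · -- pass to the quotient
      set χ' := Helper77.deflate N χ hker with hχ'
      set g' : G ⧸ N := (g : G ⧸ N) with hg'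
      set C := Subgroup.centralizer ({g} : Set G) with hCdef
      set C' := Subgroup.centralizer ({g'} : Set (G ⧸ N)) with hC'def
      have hle : C ≤ C'.comap (QuotientGroup.mk' N) := by
        intro c hc
        rw [Subgroup.mem_comap, Subgroup.mem_centralizer_iff]
        intro y hy
        rw [Set.mem_singleton_iff] at hy
        subst hy
        have := Subgroup.mem_centralizer_iff.mp hc g (Set.mem_singleton g)
        show g' * (c : G ⧸ N) = (c : G ⧸ N) * g'
        rw [hg', ← QuotientGroup.mk_mul, ← QuotientGroup.mk_mul, this]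
      have hidx' : (C'.comap (QuotientGroup.mk' N)).index = C'.index :=
        Subgroup.index_comap_of_surjective C' (QuotientGroup.mk'_surjective N)
      have hmul := Subgroup.relIndex_mul_index hle
      rw [hidx'] at hmul
      have hC'dvd : C'.index ∣ N.index := by
        rw [Subgroup.index_eq_card N]
        exact Subgroup.index_dvd_card C'
      have hpC' : ¬ p ∣ C'.index := fun h => hidx (h.trans hC'dvd)
      have hpm : p ∣ C.relIndex (C'.comap (QuotientGroup.mk' N)) := by
        have : p ∣ C.relIndex (C'.comap (QuotientGroup.mk' N)) * C'.index := by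
          rw [hmul]; exact hp
        exact ((Nat.Prime.dvd_mul Fact.out).mp this).resolve_right hpC'
      have heq : centralChar (χ : G → ℂ) g =
          (C.relIndex (C'.comap (QuotientGroup.mk' N)) : ℂ) * centralChar (χ' : G ⧸ N → ℂ) g' := by
        unfold centralChar
        have e1 : (χ' : G ⧸ N → ℂ) g' = (χ : G → ℂ) g := Helper77.deflate_mk N χ hker g
        have e2 : (χ' : G ⧸ N → ℂ) 1 = (χ : G → ℂ) 1 := by
          have := Helper77.deflate_mk N χ hker 1
          rwa [QuotientGroup.mk_one] at this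
        rw [e1, e2, ← hCdef, ← hC'def, ← hmul]
        push_cast
        ring
      rw [heq]
      apply Helper16.memLocalIdeal_mul_right
      · exact (Helper16.memLocalIdeal_natCast_iff hM _).mpr hpm
      · exact Helper16.memLocalRing_of_isIntegral hMtop (Helper79.isIntegral_centralChar χ' g')
  · -- g lies in N
    obtain ⟨x, hx⟩ := exists_conj_mem_centralizer p P g hp
    have hxN : x * g * x⁻¹ ∈ N := hC hx
    have hgN : g ∈ N := by
      have := (inferInstance : N.Normal).conj_mem _ hxN x⁻¹
      convert this using 1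
      group
    have : centralChar (χ : G → ℂ) g = ((Subgroup.centralizer ({g} : Set G)).index : ℂ) := by
      unfold centralChar
      rw [hker g hgN]
      field_simp
    rw [this, sub_self]
    exact Helper16.memLocalIdeal_zero hMtop

end Cfsg.Agent.S4626
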