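import Cfsg.Statements.S4633
import Cfsg.Agent.S4437
import Cfsg.Agent.Lib.Helper77.CyclicAutomizer
import Cfsg.Agent.Lib.Helper77.BrauerStab
import Cfsg.Agent.Lib.Helper77.NrmAct

set_option autoImplicit false
set_option linter.style.haveILetI false
open Cfsg

namespace Cfsg.Agent.S4633

open Cfsg.Agent.Lib Cfsg.Agent.Lib.Helper16 Cfsg.Agent.Lib.Helper77 Cfsg.Agent.Lib.Helper78

attribute [local instance] Cfsg.Agent.Lib.Helper77.nrmMulAction

/-- Let B be a block of the finite group G relative to a maximal ideal M of the algebraic integers containing the prime p, with a nontrivial cyclic defect group P. Let c be a block of C_G(P) inducing B and T the stabilizer of c in N_G(P) (the elements of N_G(P) conjugating c to itself); T contains C_G(P). Then T/C_G(P) is cyclic of order dividing p − 1, and it acts freely on the non-identity elements of P: an element of T fixing some non-identity element of P under conjugation lies in C_G(P). -/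
theorem result {G : Type*} [Group G] [Finite G] (p : ℕ) [Fact p.Prime] (M : Ideal Cfsg.AlgInt) (hM : Cfsg.IsPModular p M) (B : Set (Cfsg.IrrCharacter G)) (hB : Cfsg.IsPBlock M B) (P : Subgroup G) (hPD : Cfsg.IsDefectGroup p M B P) (hP1 : P ≠ ⊥) (hcyc : IsCyclic P) (c : Set (Cfsg.IrrCharacter (Subgroup.centralizer (P : Set G)))) (hc : Cfsg.IsInducedBlock M (Subgroup.centralizer (P : Set G)) c B) (T : Subgroup G) (hT : ∀ g : G, g ∈ T ↔ (g ∈ Subgroup.normalizer (P : Set G) ∧ Cfsg.StabilizesBlock (Subgroup.centralizer (P : Set G)) c g)) [hn : ((Subgroup.centralizer (P : Set G)).subgroupOf T).Normal] : IsCyclic (T ⧸ (Subgroup.centralizer (P : Set G)).subgroupOf T) ∧ (Subgroup.centralizer (P : Set G)).relIndex T ∣ p - 1 ∧ ∀ g ∈ T, ∀ x ∈ P, x ≠ 1 → g * x * g⁻¹ = x → g ∈ Subgroup.centralizer (P : Set G) := by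
  classical
  haveI : Fintype G := Fintype.ofFinite G
  haveI : Fintype ↥(Subgroup.centralizer (P : Set G)) := Fintype.ofFinite _
  haveI hMp := isPModular_isPrime hM
  have hpp : p.Prime := Fact.out
  have hPp : IsPGroup p P := IsPGroup.of_card (card_defectGroup hM hB hPD)
  -- `P` is abelian
  have hPC : P ≤ Subgroup.centralizer (P : Set G) := by
    obtain ⟨g, hg⟩ := IsCyclic.exists_generator (α := P)
    intro a ha b hb
    obtain ⟨i, hi⟩ := Subgroup.mem_zpowers_iff.mp (hg ⟨a, ha⟩)
    obtain ⟨j, hj⟩ := Subgroup.mem_zpowers_iff.mp (hg ⟨b, hb⟩)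
    have h1 : (⟨b, hb⟩ : P) * ⟨a, ha⟩ = ⟨a, ha⟩ * ⟨b, hb⟩ := by
      rw [← hi, ← hj, ← zpow_add, ← zpow_add, add_comm]
    exact congrArg Subtype.val h1
  have hH : Subgroup.centralizer (P : Set G) = P ⊔ Subgroup.centralizer (P : Set G) :=
    (sup_eq_right.mpr hPC).symm
  -- `c` has defect group `P`
  haveI hPn : (P.subgroupOf (Subgroup.centralizer (P : Set G))).Normal := by
    constructor
    intro n hn g
    rw [Subgroup.mem_subgroupOf] at hn ⊢
    have hg := g.2 (n : G) hn
    show (g : G) * (n : G) * (g : G)⁻¹ ∈ P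
    rw [← hg, mul_inv_cancel_right]
    exact hn
  have hbP : IsDefectGroup p M c (P.subgroupOf (Subgroup.centralizer (P : Set G))) := by
    obtain ⟨Db, hDb⟩ := exists_isDefectGroup p hc.1
    have h1 : P.subgroupOf (Subgroup.centralizer (P : Set G)) ≤ Db :=
      normal_pGroup_le_defectGroup hM (P.subgroupOf (Subgroup.centralizer (P : Set G)))
        hPp.comap_subtype hc.1 hDb
    obtain ⟨E, hE, hle⟩ := Cfsg.Agent.S0917.result p M hM _ c hc.1 B hB hc Db hDb
    have h2 : Nat.card E = Nat.card P := by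
      rw [card_defectGroup hM hB hE, card_defectGroup hM hB hPD]
    have h3 : Nat.card Db ≤ Nat.card E := by
      rw [← Subgroup.card_subtype (Subgroup.centralizer (P : Set G)) Db]
      exact Nat.le_of_dvd Nat.card_pos (Subgroup.card_dvd_of_le hle)
    have h4 : Nat.card (P.subgroupOf (Subgroup.centralizer (P : Set G))) = Nat.card P :=
      Nat.card_congr (Subgroup.subgroupOfEquivOfLe hPC).toEquiv
    have hEQ : P.subgroupOf (Subgroup.centralizer (P : Set G)) = Db :=
      Subgroup.eq_of_le_of_card_ge h1 (by rw [h4, ← h2]; exact h3)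
    rw [hEQ]
    exact hDb
  -- the stabilizer in the form of S4437
  have hT' : ∀ g : G, g ∈ T ↔ (g ∈ Subgroup.normalizer (P : Set G) ∧ ∀ θ ∈ c,
      ∀ θ' : IrrCharacter (Subgroup.centralizer (P : Set G)),
      (∀ h h' : Subgroup.centralizer (P : Set G), (h' : G) = g * h * g⁻¹ →
        (θ' : _ → ℂ) h' = (θ : _ → ℂ) h) → θ' ∈ c) := by
    intro g
    rw [hT]
    apply and_congr_right
    intro hg
    have hu := normalizer_le_normalizer_centralizer' P hg
    rw [stabilizesBlock_iff (Subgroup.centralizer (P : Set G)) ⟨g, hu⟩ c]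
    constructor
    · intro h θ hθ θ' hθ'
      have := eq_smul_of_isConjCharOf (Subgroup.centralizer (P : Set G)) ⟨g, hu⟩ θ θ' hθ'
      rw [this, ← h]
      exact Set.smul_mem_smul_set hθ
    · intro h
      rw [← stabilizesBlock_iff]
      refine ⟨hu, fun χ hχ => ⟨(⟨g, hu⟩ : Subgroup.normalizer
        ((Subgroup.centralizer (P : Set G) : Subgroup G) : Set G)) • χ, ?_, ?_⟩⟩
      · exact h χ hχ _ (isConjCharOf_smul (Subgroup.centralizer (P : Set G)) ⟨g, hu⟩ χ)
      · exact isConjCharOf_smul (Subgroup.centralizer (P : Set G)) ⟨g, hu⟩ χ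
  have hidx : ¬ p ∣ (Subgroup.centralizer (P : Set G)).relIndex T :=
    (Cfsg.Agent.S4437.result p M hM P hPp (Subgroup.centralizer (P : Set G)) hH c hc.1 hbP B hc
      T hT').mp hPD
  have hTN : T ≤ Subgroup.normalizer (P : Set G) := fun g hg => ((hT g).mp hg).1
  exact cyclic_pGroup_automizer P T hPp hP1 hcyc hTN hidx

end Cfsg.Agent.S4633
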