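import Cfsg.Statements.S4636
-- import your own Cfsg.Agent.* helpers here

set_option autoImplicit false
open scoped Pointwise
open Cfsg

namespace Cfsg.Agent.S4636

theorem uniq_sub {G : Type*} [Group G] [Finite G] (p : ℕ) [hp : Fact p.Prime] (P : Subgroup G)
    (hcyc : IsCyclic P) (Z W : Subgroup G) (hZ : Z ≤ P) (hW : W ≤ P)
    (hZc : Nat.card Z = p) (hWc : Nat.card W = p) : W = Z := by
  classical
  have : Fintype P := Fintype.ofFinite P
  have hS : ({a : P | a ^ p = 1} : Set P).ncard ≤ p := by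
    have := IsCyclic.card_pow_eq_one_le (α := P) hp.out.pos
    rw [Set.ncard_eq_toFinset_card']
    convert this using 2
    ext a; simp
  have key : ∀ Y : Subgroup G, Y ≤ P → Nat.card Y = p → ((Y.subgroupOf P : Subgroup P) : Set P) = {a : P | a ^ p = 1} := by
    intro Y hY hYc
    apply Set.eq_of_subset_of_ncard_le
    · intro a ha
      have ha' : (a : G) ∈ Y := ha
      have h1 : (⟨(a : G), ha'⟩ : Y) ^ Nat.card Y = 1 := pow_card_eq_one'
      rw [hYc] at h1
      have h2 : ((a : G)) ^ p = 1 := by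
        have := congrArg (Subtype.val) h1
        simpa using this
      show a ^ p = 1
      ext; simpa using h2
    · have : ((Y.subgroupOf P : Subgroup P) : Set P).ncard = p := by
        rw [← hYc]
        have e := Subgroup.subgroupOfEquivOfLe hY
        rw [← Nat.card_congr e.toEquiv]
        exact (Nat.card_coe_set_eq _).symm
      rw [this]; exact hS
    · exact Set.toFinite _
  have h1 := key Z hZ hZc
  have h2 := key W hW hWc
  have h3 : W.subgroupOf P = Z.subgroupOf P := by
    apply SetLike.coe_injective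
    rw [h1, h2]
  rw [Subgroup.subgroupOf_inj] at h3
  rwa [inf_of_le_left hW, inf_of_le_left hZ] at h3

theorem Z_le {G : Type*} [Group G] [Finite G] (p : ℕ) [hp : Fact p.Prime] (P : Subgroup G)
    (hP : IsPGroup p P) (hcyc : IsCyclic P) (Z : Subgroup G) (hZ : Z ≤ P)
    (hZc : Nat.card Z = p) (R : Subgroup G) (hR : R ≤ P) (hR1 : R ≠ ⊥) : Z ≤ R := by
  have hRp : IsPGroup p R := hP.to_le hR
  obtain ⟨n, hn⟩ := IsPGroup.iff_card.mp hRp
  have hn0 : n ≠ 0 := by
    rintro rfl
    apply hR1
    rw [pow_zero] at hn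
    exact Subgroup.card_eq_one.mp hn
  have hdvd : p ∣ Nat.card R := by rw [hn]; exact dvd_pow_self p hn0
  obtain ⟨r, hr⟩ := exists_prime_orderOf_dvd_card' p hdvd
  have hr' : orderOf (r : G) = p := by rw [Subgroup.orderOf_coe]; exact hr
  have hW : Subgroup.zpowers (r : G) ≤ R := by
    rw [Subgroup.zpowers_le]; exact r.2
  have : Subgroup.zpowers (r : G) = Z := by
    apply uniq_sub p P hcyc Z _ hZ (hW.trans hR) hZc
    rw [Nat.card_zpowers, hr']
  rw [← this]; exact hW

theorem conj_eq {G : Type*} [Group G] [Finite G] (p : ℕ) [hp : Fact p.Prime] (P : Subgroup G)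
    (hcyc : IsCyclic P) (Z : Subgroup G) (hZ : Z ≤ P)
    (hZc : Nat.card Z = p) (g : G) (h : MulAut.conj g • Z ≤ P) : g ∈ Subgroup.normalizer (Z : Set G) := by
  rw [Subgroup.mem_normalizer_iff_map_conj_eq]
  apply uniq_sub p P hcyc Z _ hZ h hZc
  rw [← hZc]
  exact (Nat.card_congr (Subgroup.equivSMul (MulAut.conj g) Z).toEquiv).symm


/-- Let P be a nontrivial cyclic p-subgroup of the finite group G and Z its subgroup of order p. For every x outside N_G(Z), P meets its conjugate xPx⁻¹ trivially; consequently N_G(Q) ≤ N_G(Z) for every nontrivial subgroup Q of P. -/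
theorem result {G : Type*} [Group G] [Finite G] (p : ℕ) [Fact p.Prime] (P : Subgroup G) (hP : IsPGroup p P) (hP1 : P ≠ ⊥) (hcyc : IsCyclic P) (Z : Subgroup G) (hZ : Z ≤ P) (hZcard : Nat.card Z = p) : (∀ x : G, x ∉ Subgroup.normalizer (Z : Set G) → P ⊓ MulAut.conj x • P = ⊥) ∧ ∀ Q : Subgroup G, Q ≤ P → Q ≠ ⊥ → Subgroup.normalizer (Q : Set G) ≤ Subgroup.normalizer (Z : Set G) := by
  constructor
  · intro x hx
    by_contra hne
    apply hx
    have h1 : Z ≤ P ⊓ MulAut.conj x • P := Z_le p P hP hcyc Z hZ hZcard _ inf_le_left hne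
    have h2 : Z ≤ MulAut.conj x • P := h1.trans inf_le_right
    have h3 : MulAut.conj x⁻¹ • Z ≤ P := by
      intro y hy
      rw [Subgroup.mem_pointwise_smul_iff_inv_smul_mem] at hy
      have := h2 hy
      rw [Subgroup.mem_pointwise_smul_iff_inv_smul_mem] at this
      simpa [MulAut.smul_def, mul_assoc] using this
    have := conj_eq p P hcyc Z hZ hZcard x⁻¹ h3
    simpa using this
  · intro Q hQ hQ1 g hg
    have h1 : Z ≤ Q := Z_le p P hP hcyc Z hZ hZcard Q hQ hQ1
    apply conj_eq p P hcyc Z hZ hZcard g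
    rw [Subgroup.mem_normalizer_iff_map_conj_eq] at hg
    calc MulAut.conj g • Z ≤ MulAut.conj g • Q := Subgroup.pointwise_smul_le_pointwise_smul_iff.mpr h1
      _ = Q := hg
      _ ≤ P := hQ

end Cfsg.Agent.S4636
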