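import Cfsg.Statements.S4638
import Cfsg.Agent.Lib.Helper82.IsoBuild
import Cfsg.Agent.Lib.Helper82.IsoTransport

set_option autoImplicit false
open Cfsg

namespace Cfsg.Agent.S4638

/-- Let B be a block of the finite group G relative to a maximal ideal M of the algebraic integers containing 2, with a Klein four defect group P, and let c be its Brauer correspondent: the block of N_G(P) with defect group P that induces B. Then there is a perfect isometry from c onto B. -/
theorem result {G : Type*} [Group G] [Finite G] (M : Ideal Cfsg.AlgInt) (hM : Cfsg.IsPModular 2 M) (B : Set (Cfsg.IrrCharacter G)) (hB : Cfsg.IsPBlock M B) (P : Subgroup G) (hPD : Cfsg.IsDefectGroup 2 M B P) (hV : IsKleinFour P) (c : Set (Cfsg.IrrCharacter (Subgroup.normalizer (P : Set G)))) (hcD : Cfsg.IsDefectGroup 2 M c (P.subgroupOf (Subgroup.normalizer (P : Set G)))) (hc : Cfsg.IsInducedBlock M (Subgroup.normalizer (P : Set G)) c B) : ∃ (I : Cfsg.IrrCharacter (Subgroup.normalizer (P : Set G)) → Cfsg.IrrCharacter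 G) (ε : Cfsg.IrrCharacter (Subgroup.normalizer (P : Set G)) → ℤ), Cfsg.IsPerfectIsometry 2 M c B I ε := by
  classical
  have : Fintype G := Fintype.ofFinite G
  have : Fintype ↥(Subgroup.normalizer (P : Set G)) := Fintype.ofFinite _
  obtain ⟨c₀, hmaxG, hmaxN, hB4, hc4, hl13, hlc⟩ :=
    Cfsg.Agent.Lib.Helper82.klein_setup hM hB hPD hV c hcD hc
  have hP4 : Nat.card P = 4 := hV.card_four
  have hexp : ∀ x ∈ P, x * x = 1 := by
    intro x hx
    have h1 : (⟨x, hx⟩ : P) ^ 2 = 1 := by
      rw [← hV.exponent_two]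
      exact Monoid.pow_exponent_eq_one _
    have h2 := congrArg Subtype.val h1
    simpa [pow_two] using h2
  have hP4' : Nat.card (P.subgroupOf (Subgroup.normalizer (P : Set G))) = 4 := by
    rw [Nat.card_congr (Subgroup.subgroupOfEquivOfLe (Subgroup.le_normalizer (H := P))).toEquiv]
    exact hP4
  have hexp' : ∀ n ∈ P.subgroupOf (Subgroup.normalizer (P : Set G)), n * n = 1 := by
    intro n hn
    apply Subtype.ext
    exact hexp (n : G) (Subgroup.mem_subgroupOf.mp hn)
  obtain ⟨I, hI⟩ := Cfsg.Agent.Lib.Helper82.exists_bijOn_of_card_eq (B := B) (c := c) hB4 hc4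
  rcases hl13 with h1 | h3
  · refine ⟨I, fun _ => 1, ?_⟩
    exact Cfsg.Agent.Lib.Helper82.isPerfectIsometry_rank_one hM hc4
      (Cfsg.Agent.Lib.Helper82.rankOneData_of hM hmaxG hP4 hexp hB4 h1)
      (Cfsg.Agent.Lib.Helper82.rankOneData_of hM hmaxN hP4' hexp' hc4 (hlc.trans h1)) hI
  · obtain ⟨ε, hε⟩ := Cfsg.Agent.Lib.Helper82.isPerfectIsometry_rank_three hM hc4
      (Cfsg.Agent.Lib.Helper82.rankThreeData_of hM hmaxG hP4 hB4 h3)
      (Cfsg.Agent.Lib.Helper82.rankThreeData_of hM hmaxN hP4' hc4 (hlc.trans h3)) hI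
    exact ⟨I, ε, hε⟩

end Cfsg.Agent.S4638
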