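import Cfsg.Statements.S4645
import Cfsg.Agent.S4633
import Cfsg.Agent.Lib.Helper16.NilFusion
import Cfsg.Agent.Lib.Helper82.NilAbelRank
import Cfsg.Agent.Lib.Helper82.NilAbelCyclic
import Cfsg.Agent.Lib.Helper82.FusionControl

set_option autoImplicit false
open Cfsg Cfsg.Agent.Lib.Helper16 Cfsg.Agent.Lib.Helper77 Cfsg.Agent.Lib.Helper82

namespace Cfsg.Agent.S4645

/-- Let B be a block of the finite group G relative to a maximal ideal M of the algebraic integers containing the prime p, with a nontrivial cyclic defect group P; let c be a block of C_G(P) inducing B and T the stabilizer of c in N_G(P). Let Q be a nontrivial subgroup of P (so C_G(P) ≤ C_G(Q)), f the block of C_G(Q) induced by c inside C_G(Q), and T' the stabilizer of f in N_G(Q). Then T' = T·C_G(Q), the index of C_G(Q) in T' equals the index of C_G(P) in T, f has p-regular rank 1, and f is a nilpotent block of C_G(Q). -/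
theorem result {G : Type*} [Group G] [Finite G] (p : ℕ) [Fact p.Prime] (M : Ideal Cfsg.AlgInt) (hM : Cfsg.IsPModular p M) (B : Set (Cfsg.IrrCharacter G)) (hB : Cfsg.IsPBlock M B) (P : Subgroup G) (hPD : Cfsg.IsDefectGroup p M B P) (hP1 : P ≠ ⊥) (hcyc : IsCyclic P) (c : Set (Cfsg.IrrCharacter (Subgroup.centralizer (P : Set G)))) (hc : Cfsg.IsInducedBlock M (Subgroup.centralizer (P : Set G)) c B) (T : Subgroup G) (hT : ∀ g : G, g ∈ T ↔ (g ∈ Subgroup.normalizer (P : Set G) ∧ Cfsg.StabilizesBlock (Subgroup.centralizer (P : Set G)) c g)) (Q : Subgroup G) (hQP : Q ≤ P) (hQ1 : Q ≠ ⊥) (f : Set (Cfsg.IrrCharacter (Subgroup.centralizer (Q : Set G)))) (hf : Cfsg.IsInducedBlockIn M (Subgroup.centralizer (Q : Set G)) (Subgroup.centralizer (P : Set G)) c f) (T' : Subgroup G) (hT' : ∀ g : G, g ∈ T' ↔ (g ∈ Subgroup.normalizer (Q : Set G) ∧ Cfsg.StabilizesBlock (Subgroup.centralizer (Q : Set G)) f g)) : T' = T ⊔ Subgroup.centralizer (Q : Set G) ∧ (Subgroup.centralizer (Q : Set G)).relIndex T' = (Subgroup.centralizer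 (P : Set G)).relIndex T ∧ Cfsg.blockRank p f = 1 ∧ Cfsg.IsNilpotentBlock p M f := by
  classical
  have : Fintype G := Fintype.ofFinite G
  have hMp := isPModular_isPrime hM
  have hPp : IsPGroup p P := isPGroup_of_isDefectGroup hPD
  have hpairB : IsBrauerPairOf p M B P c :=
    Cfsg.Agent.Lib.Helper16.isBrauerPairOf_of_isInducedBlock hM hPp hc
  have hmax : IsMaximalBrauerPair p M B P c := isMaximalBrauerPair_of_isDefectGroup hM hpairB hPD
  have hPe : IsBrauerPair p M P c := hpairB.1
  have hPab : ∀ x ∈ P, ∀ y ∈ P, x * y = y * x := by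
    intro x hx y hy
    have hcomm : IsMulCommutative ↥P := IsCyclic.isMulCommutative
    have := (isMulCommutative_iff.mp hcomm) (⟨x, hx⟩ : P) ⟨y, hy⟩
    exact congrArg Subtype.val this
  have hPL : P ≤ Subgroup.centralizer (Q : Set G) := by
    intro y hy
    rw [Subgroup.mem_centralizer_iff]
    intro q hq
    exact hPab q (hQP hq) y hy
  have hCP : Subgroup.centralizer (P : Set G) ≤ Subgroup.centralizer (Q : Set G) :=
    Subgroup.centralizer_le hQP
  have hQC : Q ≤ Subgroup.centralizer (Q : Set G) := hQP.trans hPL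
  have : Fintype ↥(Subgroup.centralizer (Q : Set G)) := Fintype.ofFinite _
  have hTN : T ≤ Subgroup.normalizer (P : Set G) := fun g hg => ((hT g).mp hg).1
  have hCT : Subgroup.centralizer (P : Set G) ≤ T := by
    intro g hg
    rw [hT]
    refine ⟨Subgroup.centralizer_le_normalizer _ hg, ?_⟩
    exact stabilizesBlock_of_mem_sup_centralizer P c (Subgroup.mem_sup_right hg)
  -- membership in `T` through pairs
  have hTpair : ∀ t : G, t ∈ T ↔ conjPair t (⟨P, c⟩ : BrauerPairIdx G) = ⟨P, c⟩ := by
    intro t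
    rw [hT]
    constructor
    · rintro ⟨h1, h2⟩
      exact conjPair_eq_self_of_stabilizes h1 h2
    · intro h
      exact stabilizes_of_conjPair_eq_self h
  -- the free action
  have hn : ((Subgroup.centralizer (P : Set G)).subgroupOf T).Normal :=
    Subgroup.normal_subgroupOf_of_le_normalizer
      (hTN.trans (normalizer_le_normalizer_centralizer' P))
  obtain ⟨_, _, hfree⟩ := Cfsg.Agent.S4633.result p M hM B hB P hPD hP1 hcyc c hc T hT
  obtain ⟨q, hq1⟩ := (Subgroup.ne_bot_iff_exists_ne_one).mp hQ1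
  have hq' : (q : G) ≠ 1 := fun h => hq1 (Subtype.ext h)
  have hloc : ∀ t ∈ Subgroup.centralizer (Q : Set G),
      conjPair t (⟨P, c⟩ : BrauerPairIdx G) = ⟨P, c⟩ → t ∈ Subgroup.centralizer (P : Set G) := by
    intro t htQ ht
    refine hfree t ((hTpair t).mpr ht) (q : G) (hQP q.2) hq' ?_
    have h2 := Subgroup.mem_centralizer_iff.mp htQ (q : G) q.2
    rw [← h2]
    group
  -- `f` is the block below `(P, c)`
  obtain ⟨f₀, hle, hfB, hpair₀⟩ := NilAbel.exists_local_pair hM hmax hQP hPL hCP
  have hab' : P.subgroupOf (Subgroup.centralizer (Q : Set G)) ≤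
      Subgroup.centralizer ((P.subgroupOf (Subgroup.centralizer (Q : Set G)) :
        Subgroup ↥(Subgroup.centralizer (Q : Set G))) :
        Set ↥(Subgroup.centralizer (Q : Set G))) := by
    intro y hy
    rw [Subgroup.mem_centralizer_iff]
    intro z hz
    apply Subtype.ext
    exact hPab _ (Subgroup.mem_subgroupOf.mp hz) _ (Subgroup.mem_subgroupOf.mp hy)
  have hind₀ := Cfsg.Agent.Lib.Helper16.isInducedBlock_of_isBrauerPairOf hM hab' hpair₀
  have hind := (isInducedBlock_centEquivIn_iff (M := M) _ P hPL hCP c f).mpr hf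
  have hff : f₀ = f := Cfsg.Agent.Lib.Helper16.isInducedBlock_unique _ hind₀ hind
  subst hff
  -- rank one and nilpotency
  have hTI : NilAbel.TrivInertial p M f₀ (P.subgroupOf (Subgroup.centralizer (Q : Set G))) :=
    NilAbel.trivInertial_of_isBrauerPairOf hM hmax hPab hQP hPL hCP hpair₀ hloc
  have hrank : blockRank p f₀ = 1 := NilAbel.blockRank_eq_one hM hTI
  have hnil : IsNilpotentBlock p M f₀ := by
    rw [isNilpotentBlock_centralizer_iff hM hmax hPab hQP hPL hCP hpair₀]
    intro g hgN hgS hgQ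
    exact hloc g hgQ (conjPair_eq_self_of_stabilizes hgN hgS)
  -- the stabilizer of `f`
  have hT'eq : T' = T ⊔ Subgroup.centralizer (Q : Set G) := by
    apply le_antisymm
    · intro g hg
      obtain ⟨hgN, hgS⟩ := (hT' g).mp hg
      have hgpair : conjPair g (⟨Q, f₀⟩ : BrauerPairIdx G) = ⟨Q, f₀⟩ :=
        conjPair_eq_self_of_stabilizes hgN hgS
      have hlex : SubpairLE p M Q f₀ (P.map (MulAut.conj g).toMonoidHom) (conjBlock P g c) := by
        have h1 := subpairLE_conjPair hle g
        rw [hgpair] at h1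
        exact h1
      have hPxC : P.map (MulAut.conj g).toMonoidHom ≤ Subgroup.centralizer (Q : Set G) := by
        rintro _ ⟨x, hx, rfl⟩
        rw [Subgroup.mem_centralizer_iff]
        intro r hr
        -- `r = g r' g⁻¹` with `r' ∈ Q`
        have hr' : g⁻¹ * r * g⁻¹⁻¹ ∈ Q :=
          (Subgroup.mem_normalizer_iff.mp (Subgroup.inv_mem _ hgN) r).mp hr
        have hcomm := hPab _ (hQP hr') x hx
        show r * (g * x * g⁻¹) = g * x * g⁻¹ * r
        have e1 : r * (g * x * g⁻¹) = g * ((g⁻¹ * r * g⁻¹⁻¹) * x) * g⁻¹ := by group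
        have e2 : g * x * g⁻¹ * r = g * (x * (g⁻¹ * r * g⁻¹⁻¹)) * g⁻¹ := by group
        rw [e1, e2, hcomm]
      obtain ⟨t, ht, htg⟩ := exists_mul_conjPair_eq_self_of_le hM hmax hle hPL hlex hPxC
      have htC : t ∈ Subgroup.centralizer (Q : Set G) := (sup_le hQC le_rfl) ht
      have htgT : t * g ∈ T := (hTpair _).mpr htg
      have : g = t⁻¹ * (t * g) := by group
      rw [this]
      exact Subgroup.mul_mem _ (Subgroup.mem_sup_right (Subgroup.inv_mem _ htC))
        (Subgroup.mem_sup_left htgT)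
    · apply sup_le
      · intro t ht
        rw [hT']
        have htpair := (hTpair t).mp ht
        have h1 := subpairLE_conjPair hle t
        rw [htpair] at h1
        have hfst : (conjPair t (⟨Q, f₀⟩ : BrauerPairIdx G)).1 = Q :=
          NilAbel.map_conj_eq_of_le_cyclic hcyc hQP (hTN ht)
        have h2 := subpair_unique hM (c := (⟨P, c⟩ : BrauerPairIdx G)) hPe h1 hle hfst
        exact stabilizes_of_conjPair_eq_self h2
      · intro g hg
        rw [hT']
        exact ⟨Subgroup.centralizer_le_normalizer _ hg,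
          stabilizesBlock_of_mem_sup_centralizer Q f₀ (Subgroup.mem_sup_right hg)⟩
  refine ⟨hT'eq, ?_, hrank, hnil⟩
  -- the index
  have hTNQ : T ≤ Subgroup.normalizer ((Subgroup.centralizer (Q : Set G) : Subgroup G) : Set G) := by
    intro t ht
    exact normalizer_le_normalizer_centralizer' Q
      (NilAbel.mem_normalizer_of_le_cyclic hcyc hQP (hTN ht))
  have hinf : Subgroup.centralizer (Q : Set G) ⊓ T = Subgroup.centralizer (P : Set G) := by
    apply le_antisymm
    · rintro t ⟨htQ, htT⟩
      exact hloc t htQ ((hTpair t).mp htT)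
    · exact le_inf hCP hCT
  rw [hT'eq, NilAbel.relIndex_sup_of_le_normalizer hTNQ, ← Subgroup.inf_relIndex_right, hinf]

end Cfsg.Agent.S4645
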