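import Cfsg.Statements.S4646
import Cfsg.Agent.S4691
import Cfsg.Agent.S0938
import Cfsg.Agent.S0939
import Cfsg.Agent.Lib.Helper34.NormalPComplement

set_option autoImplicit false
open Cfsg

namespace Cfsg.Agent.S4646

open Cfsg.Agent.Lib Cfsg.Agent.Lib.Helper16

section

variable {G : Type*} [Group G] [Finite G] {p : ℕ} [Fact p.Prime] {M : Ideal AlgInt}

omit [Finite G] [Fact p.Prime] in
theorem pRegularPart_apply_of_reg (χ : G → ℂ) {g : G} (hg : IsPRegular p g) :
    pRegularPart p χ g = χ g := by
  unfold pRegularPart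
  rw [if_pos hg]

omit [Finite G] [Fact p.Prime] in
theorem pRegularPart_apply_of_not_reg (χ : G → ℂ) {g : G} (hg : ¬ IsPRegular p g) :
    pRegularPart p χ g = 0 := by
  unfold pRegularPart
  rw [if_neg hg]

omit [Finite G] in
theorem isPRegular_one : IsPRegular p (1 : G) := by
  unfold IsPRegular
  rw [orderOf_one]
  exact fun h => (Fact.out : p.Prime).one_lt.ne' (Nat.dvd_one.mp h)

/-- If every member of `B₀` is constant on the `p`-regular elements, the rank is one. -/
theorem blockRank_eq_one_of_const (hM : IsPModular p M)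
    (h : ∀ χ ∈ principalBlock M G, ∀ x : G, IsPRegular p x → (χ : G → ℂ) x = (χ : G → ℂ) 1) :
    blockRank p (principalBlock M G) = 1 := by
  have hMp : M.IsPrime := isPModular_isPrime hM
  unfold blockRank
  set v₁ : G → ℂ := pRegularPart p (fun _ => (1 : ℂ)) with hv₁
  have hv₁ne : v₁ ≠ 0 := by
    intro h0
    have := congrFun h0 1
    rw [hv₁, pRegularPart_apply_of_reg _ isPRegular_one] at this
    exact one_ne_zero this
  have hspan : Submodule.span ℂ ((fun χ : IrrCharacter G => pRegularPart p (χ : G → ℂ)) ''
      principalBlock M G) = Submodule.span ℂ {v₁} := by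
    apply le_antisymm
    · rw [Submodule.span_le]
      rintro _ ⟨χ, hχ, rfl⟩
      rw [SetLike.mem_coe, Submodule.mem_span_singleton]
      refine ⟨(χ : G → ℂ) 1, ?_⟩
      funext x
      by_cases hx : IsPRegular p x
      · simp only [Pi.smul_apply, smul_eq_mul]
        rw [hv₁, pRegularPart_apply_of_reg _ hx, pRegularPart_apply_of_reg _ hx, mul_one,
          h χ hχ x hx]
      · simp only [Pi.smul_apply, smul_eq_mul]
        rw [hv₁, pRegularPart_apply_of_not_reg _ hx, pRegularPart_apply_of_not_reg _ hx, mul_zero]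
    · rw [Submodule.span_le, Set.singleton_subset_iff]
      apply Submodule.subset_span
      exact ⟨Cfsg.Agent.S4691.oneIrr G, Cfsg.Agent.S4691.oneIrr_mem_principalBlock, rfl⟩
  rw [hspan]
  exact finrank_span_singleton hv₁ne

/-- If the rank is one, every member of `B₀` is constant on the `p`-regular elements. -/
theorem const_of_blockRank_eq_one (hM : IsPModular p M)
    (h : blockRank p (principalBlock M G) = 1) :
    ∀ χ ∈ principalBlock M G, ∀ x : G, IsPRegular p x → (χ : G → ℂ) x = (χ : G → ℂ) 1 := by
  have hMp : M.IsPrime := isPModular_isPrime hM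
  intro χ hχ x hx
  unfold blockRank at h
  set S := Submodule.span ℂ ((fun χ : IrrCharacter G => pRegularPart p (χ : G → ℂ)) ''
      principalBlock M G) with hS
  have hv₁mem : pRegularPart p (fun _ : G => (1 : ℂ)) ∈ S :=
    Submodule.subset_span ⟨Cfsg.Agent.S4691.oneIrr G,
      Cfsg.Agent.S4691.oneIrr_mem_principalBlock, rfl⟩
  have hwmem : pRegularPart p (χ : G → ℂ) ∈ S := Submodule.subset_span ⟨χ, hχ, rfl⟩
  have hv₁ne : (⟨_, hv₁mem⟩ : S) ≠ 0 := by
    intro h0
    have := congrFun (congrArg Subtype.val h0) 1
    simp only [ZeroMemClass.coe_zero, Pi.zero_apply] at this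
    rw [pRegularPart_apply_of_reg _ isPRegular_one] at this
    exact one_ne_zero this
  obtain ⟨c, hc⟩ := (finrank_eq_one_iff_of_nonzero' (⟨_, hv₁mem⟩ : S) hv₁ne).mp h ⟨_, hwmem⟩
  have hc' : ∀ y : G, c * pRegularPart p (fun _ : G => (1 : ℂ)) y =
      pRegularPart p (χ : G → ℂ) y := by
    intro y
    have := congrFun (congrArg Subtype.val hc) y
    simpa using this
  have h1 := hc' 1
  rw [pRegularPart_apply_of_reg _ isPRegular_one, pRegularPart_apply_of_reg _ isPRegular_one,
    mul_one] at h1
  have h2 := hc' x
  rw [pRegularPart_apply_of_reg _ hx, pRegularPart_apply_of_reg _ hx, mul_one] at h2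
  rw [← h2, h1]

/-- A normal `p`-complement forces every member of `B₀` to be constant on `p`-regular elements. -/
theorem const_of_hasNormalPComplement (hM : IsPModular p M) (hc : HasNormalPComplement p G) :
    ∀ χ ∈ principalBlock M G, ∀ x : G, IsPRegular p x → (χ : G → ℂ) x = (χ : G → ℂ) 1 := by
  obtain ⟨P, K, hKn, hKP⟩ := hc
  have hKcop : (Nat.card K).Coprime p := Helper34.card_coprime_of_isComplement' P K hKP
  have hKle : K ≤ pPrimeCore p G := by
    unfold pPrimeCore
    exact le_sSup ⟨hKn, hKcop⟩
  have hidx : ∃ k : ℕ, (pPrimeCore p G).index = p ^ k := by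
    have h1 : (pPrimeCore p G).index ∣ K.index := Subgroup.index_dvd_of_le hKle
    have h2 : K.index = Nat.card (P : Subgroup G) := hKP.symm.index_eq_card
    obtain ⟨n, hn⟩ := P.isPGroup'.exists_card_eq
    rw [h2, hn] at h1
    obtain ⟨k, _, hk⟩ := (Nat.dvd_prime_pow (Fact.out : p.Prime)).mp h1
    exact ⟨k, hk⟩
  have hB := Cfsg.Agent.S0939.result (G := G) p M hM hidx
  intro χ hχ x hx
  rw [hB] at hχ
  apply hχ
  apply hKle
  apply Helper34.mem_of_coprime_orderOf_of_isComplement' P K hKP
  exact (Nat.Coprime.symm ((Nat.Prime.coprime_iff_not_dvd (Fact.out : p.Prime)).mpr hx))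

/-- If every member of `B₀` is constant on `p`-regular elements, `G` has a normal
`p`-complement. -/
theorem hasNormalPComplement_of_const (hM : IsPModular p M)
    (h : ∀ χ ∈ principalBlock M G, ∀ x : G, IsPRegular p x → (χ : G → ℂ) x = (χ : G → ℂ) 1) :
    HasNormalPComplement p G := by
  have hMp : M.IsPrime := isPModular_isPrime hM
  obtain ⟨K, hKn, hKeq, hKp, -, -⟩ := Cfsg.Agent.S0938.result (G := G) p M hM (principalBlock M G)
    Cfsg.Agent.S4691.isPBlock_principalBlock (Cfsg.Agent.S4691.oneIrr G)
    Cfsg.Agent.S4691.oneIrr_mem_principalBlock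
  rw [Helper34.hasNormalPComplement_iff_pResidual_coprime]
  have hle : pResidual p G ≤ K := by
    unfold pResidual
    rw [Subgroup.closure_le]
    intro g hg
    have hg' : IsPRegular p g := by
      unfold IsPRegular
      intro hd
      have hg2 : Nat.Coprime (orderOf g) p := hg
      have := Nat.Coprime.eq_one_of_dvd hg2.symm hd
      exact (Fact.out : p.Prime).one_lt.ne' this
    rw [hKeq]
    intro χ hχ
    exact h χ hχ g hg'
  have hKcop : (Nat.card K).Coprime p :=
    ((Nat.Prime.coprime_iff_not_dvd (Fact.out : p.Prime)).mpr hKp).symm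
  exact Nat.Coprime.coprime_dvd_left (Subgroup.card_dvd_of_le hle) hKcop

end

/-- For a finite group G, a prime p and a maximal ideal M of the algebraic integers containing p: the principal block of G is nilpotent if and only if its p-regular rank is 1 (the trivial Brauer character is its only irreducible Brauer character). -/
theorem result {G : Type*} [Group G] [Finite G] (p : ℕ) [Fact p.Prime] (M : Ideal Cfsg.AlgInt) (hM : Cfsg.IsPModular p M) : Cfsg.IsNilpotentBlock p M (Cfsg.principalBlock M G) ↔ Cfsg.blockRank p (Cfsg.principalBlock M G) = 1 := by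
  have : Fintype G := Fintype.ofFinite G
  rw [← Cfsg.Agent.S4691.result p M hM]
  constructor
  · intro hc
    exact blockRank_eq_one_of_const hM (const_of_hasNormalPComplement hM hc)
  · intro hr
    exact hasNormalPComplement_of_const hM (const_of_blockRank_eq_one hM hr)

end Cfsg.Agent.S4646
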