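import Cfsg.Statements.S4650
import Cfsg.Agent.Lib.Helper16.NilCentralizer
import Cfsg.Agent.Lib.Helper16.NilFusion

set_option autoImplicit false
open Cfsg Cfsg.Agent.Lib.Helper16 Cfsg.Agent.Lib.Helper77

namespace Cfsg.Agent.S4650

/-- Let B be a block of the finite group G relative to a maximal ideal M of the algebraic integers containing the prime p, with a nontrivial commutative defect group P; let c be a block of C_G(P) inducing B and T the stabilizer of c in N_G(P). Then T/C_G(P) acts freely on the non-identity elements of P (an element of T fixing a non-identity element of P under conjugation lies in C_G(P)) if and only if, for every nontrivial subgroup Q of P, the block of C_G(Q) induced by c inside C_G(Q) is a nilpotent block of C_G(Q). -/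
theorem result {G : Type*} [Group G] [Finite G] (p : ℕ) [Fact p.Prime] (M : Ideal Cfsg.AlgInt) (hM : Cfsg.IsPModular p M) (B : Set (Cfsg.IrrCharacter G)) (hB : Cfsg.IsPBlock M B) (P : Subgroup G) (hPD : Cfsg.IsDefectGroup p M B P) (hPab : ∀ x ∈ P, ∀ y ∈ P, x * y = y * x) (hP1 : P ≠ ⊥) (c : Set (Cfsg.IrrCharacter (Subgroup.centralizer (P : Set G)))) (hc : Cfsg.IsInducedBlock M (Subgroup.centralizer (P : Set G)) c B) (T : Subgroup G) (hT : ∀ g : G, g ∈ T ↔ (g ∈ Subgroup.normalizer (P : Set G) ∧ Cfsg.StabilizesBlock (Subgroup.centralizer (P : Set G)) c g)) : (∀ g ∈ T, ∀ x ∈ P, x ≠ 1 → g * x * g⁻¹ = x → g ∈ Subgroup.centralizer (P : Set G)) ↔ ∀ Q : Subgroup G, Q ≤ P → Q ≠ ⊥ → ∀ f : Set (Cfsg.IrrCharacter (Subgroup.centralizer (Q : Set G))), Cfsg.IsInducedBlockIn M (Subgroup.centralizer (Q : Set G)) (Subgroup.centralizer (P : Set G)) c f → Cfsg.IsNilpotentBlock p M f := by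
  classical
  have : Fintype G := Fintype.ofFinite G
  have hMp := isPModular_isPrime hM
  have hPp : IsPGroup p P := isPGroup_of_isDefectGroup hPD
  have hpairB : IsBrauerPairOf p M B P c := isBrauerPairOf_of_isInducedBlock hM hPp hc
  have hmax : IsMaximalBrauerPair p M B P c := isMaximalBrauerPair_of_isDefectGroup hM hpairB hPD
  have hPe : IsBrauerPair p M P c := hpairB.1
  have hPLof : ∀ Q : Subgroup G, Q ≤ P → P ≤ Subgroup.centralizer (Q : Set G) := by
    intro Q hQP y hy
    rw [Subgroup.mem_centralizer_iff]
    intro q hq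
    exact hPab q (hQP hq) y hy
  constructor
  · -- free action implies the local blocks are nilpotent
    intro hfree Q hQP hQne f hf
    have hPL := hPLof Q hQP
    have hCP : Subgroup.centralizer (P : Set G) ≤ Subgroup.centralizer (Q : Set G) :=
      Subgroup.centralizer_le hQP
    have : Fintype ↥(Subgroup.centralizer (Q : Set G)) := Fintype.ofFinite _
    have h1 := (isInducedBlock_centEquivIn_iff (M := M) _ P hPL hCP c f).mpr hf
    have hpair := isBrauerPairOf_of_isInducedBlock hM
      (hPp.comap_subtype (H := P) (K := Subgroup.centralizer (Q : Set G))) h1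
    rw [isNilpotentBlock_centralizer_iff hM hmax hPab hQP hPL hCP hpair]
    intro g hgN hgS hgQ
    obtain ⟨q, hq1⟩ := (Subgroup.ne_bot_iff_exists_ne_one).mp hQne
    have hq' : (q : G) ≠ 1 := fun h => hq1 (Subtype.ext h)
    refine hfree g ((hT g).mpr ⟨hgN, hgS⟩) (q : G) (hQP q.2) hq' ?_
    have h2 := Subgroup.mem_centralizer_iff.mp hgQ (q : G) q.2
    rw [← h2]
    group
  · -- nilpotent local blocks imply the free action
    intro h g hg x hx hx1 hgx
    obtain ⟨hgN, hgS⟩ := (hT g).mp hg
    have hQP : Subgroup.zpowers x ≤ P := (Subgroup.zpowers_le).mpr hx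
    have hQne : Subgroup.zpowers x ≠ ⊥ := by
      intro hbot
      apply hx1
      have : x ∈ (⊥ : Subgroup G) := hbot ▸ Subgroup.mem_zpowers x
      exact Subgroup.mem_bot.mp this
    have hPL := hPLof _ hQP
    have hCP : Subgroup.centralizer (P : Set G) ≤
        Subgroup.centralizer ((Subgroup.zpowers x : Subgroup G) : Set G) :=
      Subgroup.centralizer_le hQP
    have : Fintype ↥(Subgroup.centralizer ((Subgroup.zpowers x : Subgroup G) : Set G)) :=
      Fintype.ofFinite _
    obtain ⟨f₀, hf₀, hle⟩ := Cfsg.Agent.S4655.exists_le hM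
      (Nat.card P - Nat.card (Subgroup.zpowers x)) (⟨P, c⟩ : BrauerPairIdx G) hPe
      (Subgroup.zpowers x) hQP le_rfl
    have hPN : P ≤ Subgroup.normalizer ((Subgroup.zpowers x : Subgroup G) : Set G) :=
      hPL.trans (Subgroup.centralizer_le_normalizer _)
    have hN : IsNormalSubpair p M (Subgroup.zpowers x) f₀ P c :=
      isNormalSubpair_of_subpairLE hM hPe hle hPN
    have hF'f : ∀ t : ↥(Subgroup.centralizer ((Subgroup.zpowers x : Subgroup G) : Set G)),
        blockCoeff f₀ t = subgroupBlockCoeff
          (Subgroup.centralizer ((Subgroup.zpowers x : Subgroup G) : Set G)) f₀ (t : G) := by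
      intro t
      unfold subgroupBlockCoeff
      rw [dif_pos t.2]
    have hpair := isBrauerPairOf_subgroupOf_of_isNormalSubpair le_rfl hf₀ hF'f hPL hN
    have hab' : P.subgroupOf (Subgroup.centralizer ((Subgroup.zpowers x : Subgroup G) : Set G)) ≤
        Subgroup.centralizer ((P.subgroupOf
          (Subgroup.centralizer ((Subgroup.zpowers x : Subgroup G) : Set G)) :
          Subgroup ↥(Subgroup.centralizer ((Subgroup.zpowers x : Subgroup G) : Set G))) :
          Set ↥(Subgroup.centralizer ((Subgroup.zpowers x : Subgroup G) : Set G))) := by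
      intro y hy
      rw [Subgroup.mem_centralizer_iff]
      intro z hz
      apply Subtype.ext
      exact hPab _ (Subgroup.mem_subgroupOf.mp hz) _ (Subgroup.mem_subgroupOf.mp hy)
    have hind := isInducedBlock_of_isBrauerPairOf hM hab' hpair
    have hIn := (isInducedBlock_centEquivIn_iff (M := M) _ P hPL hCP c f₀).mp hind
    have hnil := h _ hQP hQne f₀ hIn
    refine (isNilpotentBlock_centralizer_iff hM hmax hPab hQP hPL hCP hpair).mp hnil g hgN hgS ?_
    rw [mem_centralizer_iff_le, Subgroup.zpowers_le, Subgroup.mem_centralizer_singleton_iff]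
    have h3 : g * x = x * g := by
      calc g * x = (g * x * g⁻¹) * g := by group
        _ = x * g := by rw [hgx]
    exact h3.symm

end Cfsg.Agent.S4650
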