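import Cfsg.Statements.S4652
import Cfsg.Agent.Lib.Helper16.DefectClass
import Cfsg.Agent.Lib.Helper78.CharMore

set_option autoImplicit false
open Cfsg

namespace Cfsg.Agent.S4652

open Cfsg.Agent.Lib

theorem centralizer_conj_eq {G : Type*} [Group G] (x g : G) :
    Subgroup.centralizer ({x * g * x⁻¹} : Set G) =
      (Subgroup.centralizer ({g} : Set G)).map (MulAut.conj x).toMonoidHom := by
  ext y
  rw [Subgroup.mem_map_equiv, Subgroup.mem_centralizer_iff, Subgroup.mem_centralizer_iff]
  simp only [MulAut.conj_symm_apply]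
  simp only [Set.mem_singleton_iff, forall_eq]
  constructor
  · intro h
    have : x⁻¹ * (x * g * x⁻¹ * y) * x = x⁻¹ * (y * (x * g * x⁻¹)) * x := by rw [h]
    calc g * (x⁻¹ * y * x) = x⁻¹ * (x * g * x⁻¹ * y) * x := by group
      _ = x⁻¹ * (y * (x * g * x⁻¹)) * x := this
      _ = x⁻¹ * y * x * g := by group
  · intro h
    calc x * g * x⁻¹ * y = x * (g * (x⁻¹ * y * x)) * x⁻¹ := by group
      _ = x * (x⁻¹ * y * x * g) * x⁻¹ := by rw [h]
      _ = y * (x * g * x⁻¹) := by group

theorem index_centralizer_conj {G : Type*} [Group G] (x g : G) :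
    (Subgroup.centralizer ({x * g * x⁻¹} : Set G)).index =
      (Subgroup.centralizer ({g} : Set G)).index := by
  rw [centralizer_conj_eq]
  exact Subgroup.index_map_equiv _ (MulAut.conj x)

theorem centralChar_conj {G : Type*} [Group G] (χ : IrrCharacter G) (x g : G) :
    centralChar (χ : G → ℂ) (x * g * x⁻¹) = centralChar (χ : G → ℂ) g := by
  unfold centralChar
  rw [index_centralizer_conj, Helper16.irr_conj]


theorem centralChar_one' {G : Type*} [Group G] (g : G) :
    centralChar (fun _ : G => (1 : ℂ)) g = ((Subgroup.centralizer ({g} : Set G)).index : ℂ) := by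
  unfold centralChar; simp

/-- The principal character as an irreducible character. -/
noncomputable def oneIrr' (G : Type*) [Group G] : IrrCharacter G :=
  ⟨fun _ => 1, Helper78.isIrrCharacter_one⟩

theorem isPBlock_principalBlock {G : Type*} [Group G] (M : Ideal AlgInt) :
    IsPBlock M (principalBlock M G) := ⟨oneIrr' G, rfl⟩

theorem not_dvd_index_of_isDefectClass {G : Type*} [Group G] [Fintype G] (p : ℕ) [Fact p.Prime]
    (M : Ideal AlgInt) (hM : IsPModular p M) (g : G)
    (hg : IsDefectClass M (principalBlock M G) g) :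
    ¬ p ∣ (Subgroup.centralizer ({g} : Set G)).index := by
  have hMp := Helper16.isPModular_isPrime hM
  have hmem : oneIrr' G ∈ principalBlock M G := by
    show SameBlock M (fun _ : G => (1:ℂ)) (fun _ : G => (1:ℂ))
    exact Helper16.sameBlock_refl hMp.ne_top _
  have h := hg.2.2 (oneIrr' G) hmem
  rw [show ((oneIrr' G : IrrCharacter G) : G → ℂ) = fun _ => 1 from rfl, centralChar_one'] at h
  rwa [Helper16.memLocalIdeal_natCast_iff hM] at h

theorem isDefectClass_conj {G : Type*} [Group G] [Fintype G] (M : Ideal AlgInt)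
    (B : Set (IrrCharacter G)) (x g : G) (hg : IsDefectClass M B g) :
    IsDefectClass M B (x * g * x⁻¹) := by
  obtain ⟨h1, h2, h3⟩ := hg
  refine ⟨?_, ?_, ?_⟩
  · rwa [Helper16.blockCoeff_conj]
  · rwa [Helper16.blockCoeff_conj]
  · intro χ hχ
    rw [centralChar_conj]
    exact h3 χ hχ

/-- A Sylow `p`-subgroup of a subgroup of index prime to `p` is a Sylow `p`-subgroup of `G`. -/
theorem exists_sylow_eq_map {G : Type*} [Group G] [Finite G] (p : ℕ) [Fact p.Prime]
    (C : Subgroup G) (hC : ¬ p ∣ C.index) (P : Sylow p C) :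
    ∃ S : Sylow p G, (S : Subgroup G) = (P : Subgroup C).map C.subtype := by
  have hp : IsPGroup p ((P : Subgroup C).map C.subtype) := P.2.map _
  have hidx : ¬ p ∣ ((P : Subgroup C).map C.subtype).index := by
    rw [Subgroup.index_map_subtype]
    intro h
    rcases (Nat.Prime.dvd_mul (Fact.out : p.Prime)).mp h with h | h
    · exact P.not_dvd_index h
    · exact hC h
  exact ⟨hp.toSylow hidx, rfl⟩

/-- Fix a prime p and a maximal ideal M of the algebraic integers containing p. The defect groups of the principal p-block of a finite group G are exactly the Sylow p-subgroups of G: a subgroup D is a defect group of the principal block if and only if D is a Sylow p-subgroup. -/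
theorem result {G : Type*} [Group G] [Fintype G] (p : ℕ) [Fact p.Prime] (M : Ideal Cfsg.AlgInt) (hM : Cfsg.IsPModular p M) (D : Subgroup G) : Cfsg.IsDefectGroup p M (Cfsg.principalBlock M G) D ↔ ∃ S : Sylow p G, (S : Subgroup G) = D := by
  have hMp := Helper16.isPModular_isPrime hM
  constructor
  · rintro ⟨g, hg, P, rfl⟩
    exact exists_sylow_eq_map p _ (not_dvd_index_of_isDefectClass p M hM g hg) P
  · rintro ⟨S, rfl⟩
    obtain ⟨g₀, hg₀⟩ := Helper16.exists_isDefectClass (M := M) (isPBlock_principalBlock (G := G) M)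
    have hidx := not_dvd_index_of_isDefectClass p M hM g₀ hg₀
    obtain ⟨Q⟩ : Nonempty (Sylow p (Subgroup.centralizer ({g₀} : Set G))) := inferInstance
    obtain ⟨S', hS'⟩ := exists_sylow_eq_map p _ hidx Q
    obtain ⟨x, hx⟩ := MulAction.exists_smul_eq G S' S
    -- S = x • S'
    refine ⟨x * g₀ * x⁻¹, isDefectClass_conj M _ x g₀ hg₀, ?_⟩
    have hle : (S : Subgroup G) ≤ Subgroup.centralizer ({x * g₀ * x⁻¹} : Set G) := by
      rw [centralizer_conj_eq, ← hx, Sylow.coe_subgroup_smul, hS']
      intro y hy
      rw [Subgroup.mem_pointwise_smul_iff_inv_smul_mem] at hy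
      obtain ⟨c, hc, hcy⟩ := hy
      refine ⟨(c : G), c.2, ?_⟩
      have : ((c : G)) = (MulAut.conj x)⁻¹ • y := hcy
      rw [this]
      simp [MulAut.smul_def]
      group
    refine ⟨S.subtype hle, ?_⟩
    rw [Sylow.coe_subtype]
    ext y
    constructor
    · intro hy
      exact ⟨⟨y, hle hy⟩, Subgroup.mem_subgroupOf.mpr hy, rfl⟩
    · rintro ⟨c, hc, rfl⟩
      exact Subgroup.mem_subgroupOf.mp hc

end Cfsg.Agent.S4652
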