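import Cfsg.Statements.S4662
import Cfsg.Agent.Lib.Helper16.NormConj

set_option autoImplicit false
open Cfsg Cfsg.Agent.Lib.Helper16

namespace Cfsg.Agent.S4662

/-- Fix a prime p and a maximal ideal M of the algebraic integers containing p. Let (P, e) be a maximal Brauer pair of the p-block B of the finite group G, Q ≤ P, and f the p-block of C_G(Q) with (Q, f) ≤ (P, e). Let T be the stabilizer of f in N_G(Q). Then the idempotent of f is a block idempotent of T, and N_P(Q) is contained in a defect group of that block of T; moreover for some x in G the conjugate pair (x Q x⁻¹, conjugate of f) again lies below (P, e) and, with T' the stabilizer of the conjugate of f in N_G(x Q x⁻¹), N_P(x Q x⁻¹) is a defect group of the block of T' whose idempotent is that of the conjugate of f. -/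
theorem result {G : Type*} [Group G] [Fintype G] (p : ℕ) [Fact p.Prime] (M : Ideal Cfsg.AlgInt) (hM : Cfsg.IsPModular p M) (B : Set (Cfsg.IrrCharacter G)) (P Q : Subgroup G) (e : Set (Cfsg.IrrCharacter (Subgroup.centralizer (P : Set G)))) (f : Set (Cfsg.IrrCharacter (Subgroup.centralizer (Q : Set G)))) (hmax : Cfsg.IsMaximalBrauerPair p M B P e) (hQP : Q ≤ P) (hf : Cfsg.IsPBlock M f) (hle : Cfsg.SubpairLE p M Q f P e) (T : Subgroup G) (hT : ∀ y : G, y ∈ T ↔ y ∈ Subgroup.normalizer (Q : Set G) ∧ Cfsg.StabilizesBlock (Subgroup.centralizer (Q : Set G)) f y) : (∃ F : Set (Cfsg.IrrCharacter T), Cfsg.IsPBlock M F ∧ (∀ t : T, Cfsg.blockCoeff F t = Cfsg.subgroupBlockCoeff (Subgroup.centralizer (Q : Set G)) f (t : G)) ∧ ∃ D : Subgroup T, Cfsg.IsDefectGroup p M F D ∧ (P ⊓ Subgroup.normalizer (Q : Set G)).subgroupOf T ≤ D) ∧ ∃ x : G, Cfsg.SubpairLE p M (Q.map (MulAut.conj x).toMonoidHom) (Cfsg.conjBlock Q x f) P e ∧ ∀ (T' : Subgroup G), (∀ y : G, y ∈ T' ↔ y ∈ Subgroup.normalizer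 ((Q.map (MulAut.conj x).toMonoidHom) : Set G) ∧ Cfsg.StabilizesBlock (Subgroup.centralizer ((Q.map (MulAut.conj x).toMonoidHom) : Set G)) (Cfsg.conjBlock Q x f) y) → ∃ F' : Set (Cfsg.IrrCharacter T'), Cfsg.IsPBlock M F' ∧ (∀ t : T', Cfsg.blockCoeff F' t = Cfsg.subgroupBlockCoeff (Subgroup.centralizer ((Q.map (MulAut.conj x).toMonoidHom) : Set G)) (Cfsg.conjBlock Q x f) (t : G)) ∧ Cfsg.IsDefectGroup p M F' ((P ⊓ Subgroup.normalizer ((Q.map (MulAut.conj x).toMonoidHom) : Set G)).subgroupOf T') := by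
  classical
  have hMp := isPModular_isPrime hM
  have hPe : IsBrauerPair p M P e := hmax.1.1
  have hQf : IsBrauerPair p M Q f := Cfsg.Agent.S4655.le_pair_left hle hPe
  constructor
  · have : Fintype ↥T := Fintype.ofFinite _
    obtain ⟨F', hF', hF'f⟩ := exists_block_of_stable hM Q T hQf.1 (le_stab hT)
      (stab_le_normalizer hT) (centralizer_le_stab hT) f hf (stab_stabilizes hT)
    obtain ⟨D, d, hDmax, hle'⟩ := exists_isMaximalBrauerPair_ge_normalizerIn hM hT hF' hF'f hPe hle
    exact ⟨F', hF', hF'f, D, isDefectGroup_of_isMaximalBrauerPair hM F' D d hDmax, hle'⟩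
  · obtain ⟨x, hxle, hcard⟩ := exists_conj_card_normalizerIn hM hf hT hmax hle
    refine ⟨x, hxle, ?_⟩
    intro T' hT'
    have : Fintype ↥T' := Fintype.ofFinite _
    have hQxf : IsBrauerPair p M (Q.map (MulAut.conj x).toMonoidHom) (conjBlock Q x f) :=
      Cfsg.Agent.S4655.le_pair_left hxle hPe
    obtain ⟨F'', hF'', hF''f⟩ := exists_block_of_stable hM (Q.map (MulAut.conj x).toMonoidHom) T'
      hQxf.1 (le_stab hT') (stab_le_normalizer hT') (centralizer_le_stab hT') (conjBlock Q x f)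
      hQxf.2 (stab_stabilizes hT')
    obtain ⟨D₂, d₂, hmax₂, hle₂⟩ :=
      exists_isMaximalBrauerPair_ge_normalizerIn hM hT' hF'' hF''f hPe hxle
    obtain ⟨R₂, g₂, hN₂, hRT₂, hDR₂⟩ :=
      exists_isNormalSubpair_of_isMaximalBrauerPair hM hQxf.1 hQxf.2 hT' hF'' hF''f hmax₂
    have h1 := hcard R₂ g₂ hN₂
    have hST' := normalizerIn_le_stab hM hT' hPe hxle
    have h2 : Nat.card D₂ = Nat.card R₂ := by
      rw [hDR₂]
      exact Nat.card_congr (Subgroup.subgroupOfEquivOfLe hRT₂).toEquiv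
    have h3 : Nat.card ((P ⊓ Subgroup.normalizer
        ((Q.map (MulAut.conj x).toMonoidHom : Subgroup G) : Set G)).subgroupOf T') =
        Nat.card (P ⊓ Subgroup.normalizer
          ((Q.map (MulAut.conj x).toMonoidHom : Subgroup G) : Set G) : Subgroup G) :=
      Nat.card_congr (Subgroup.subgroupOfEquivOfLe hST').toEquiv
    have heq := Subgroup.eq_of_le_of_card_ge hle₂ (by rw [h2, h3]; exact h1)
    refine ⟨F'', hF'', hF''f, ?_⟩
    rw [heq]
    exact isDefectGroup_of_isMaximalBrauerPair hM F'' D₂ d₂ hmax₂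

end Cfsg.Agent.S4662
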