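import Cfsg.Statements.S4664
import Cfsg.Agent.Lib.Helper82.BlockInflation
import Cfsg.Agent.Lib.Helper76.Galois

set_option autoImplicit false
open Cfsg

namespace Cfsg.Agent.S4664

open Cfsg.Agent.Lib.Helper16 Cfsg.Agent.Lib.Helper78 Cfsg.Agent.Lib.Helper82
open scoped ComplexConjugate

/-- Fix a prime p and a maximal ideal M of the algebraic integers containing p, and let B be a p-block of the finite group G. Let m be the p'-part of the order of G and η = exp(2πi/m). Then every coefficient of the idempotent of B lies in the cyclotomic field ℚ(η). -/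
theorem result {G : Type*} [Group G] [Fintype G] (p : ℕ) [Fact p.Prime] (M : Ideal Cfsg.AlgInt) (hM : Cfsg.IsPModular p M) (B : Set (Cfsg.IrrCharacter G)) (hB : Cfsg.IsPBlock M B) (g : G) : Cfsg.blockCoeff B g ∈ IntermediateField.adjoin ℚ ({Complex.exp (2 * Real.pi * Complex.I / ((Nat.card G / p ^ (Nat.card G).factorization p : ℕ) : ℂ))} : Set ℂ) := by
  classical
  have hp : p.Prime := Fact.out
  have hG0 : Nat.card G ≠ 0 := Nat.card_pos.ne'
  set m := Nat.card G / p ^ (Nat.card G).factorization p with hm
  have hm0 : m ≠ 0 := (Nat.ordCompl_pos p hG0).ne'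
  have hζ : IsPrimitiveRoot (Complex.exp (2 * Real.pi * Complex.I / (m : ℂ))) m :=
    Complex.isPrimitiveRoot_exp m hm0
  by_cases hg : p ∣ orderOf g
  · rw [blockCoeff_eq_zero_of_pSingular hM hB g hg]
    exact zero_mem _
  · -- `g ^ m = 1`
    have hdvd : orderOf g ∣ m := by
      have h1 : orderOf g ∣ p ^ (Nat.card G).factorization p * m := by
        rw [hm, Nat.ordProj_mul_ordCompl_eq_self]
        exact orderOf_dvd_natCard g
      have hcop : Nat.Coprime (orderOf g) (p ^ (Nat.card G).factorization p) :=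
        Nat.Coprime.pow_right _ ((Nat.Prime.coprime_iff_not_dvd hp).mpr hg).symm
      exact hcop.dvd_of_dvd_mul_left h1
    have hgm : g⁻¹ ^ m = 1 := by
      rw [inv_pow, inv_eq_one]
      exact orderOf_dvd_iff_pow_eq_one.mp hdvd
    rw [blockCoeff_eq_sum]
    apply mul_mem
    · exact inv_mem (natCast_mem _ _)
    · apply sum_mem
      intro χ _
      apply mul_mem
      · rw [IsCharacter.apply_one_eq_charDegree (IsIrrCharacter.isCharacter χ.2)]
        exact natCast_mem _ _
      · rw [← IsCharacter.inv (IsIrrCharacter.isCharacter χ.2)]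
        obtain ⟨n, ρ, _, hχ⟩ := χ.2
        rw [← hχ]
        exact Cfsg.Agent.Lib.Helper76.character_mem_adjoin ρ m (Nat.pos_of_ne_zero hm0) _ hζ g⁻¹ hgm

end Cfsg.Agent.S4664
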