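import Cfsg.Statements.S4665
-- import your own Cfsg.Agent.* helpers here

set_option autoImplicit false
open Cfsg

namespace Cfsg.Agent.S4665

/-- sum of an irreducible character over a subgroup is card times a natural number -/
theorem sum_subgroup_char {G : Type*} [Group G] [Fintype G] (P : Subgroup G) [Fintype P]
    (ψ : Cfsg.IrrCharacter G) :
    ∃ d : ℕ, ∑ x : P, (ψ : G → ℂ) x = (Nat.card P : ℂ) * d := by
  obtain ⟨n, ρ, -, hρ⟩ := ψ.2
  let ρ' : Representation ℂ P (Fin n → ℂ) := ρ.comp P.subtype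
  have hne : (Nat.card P : ℂ) ≠ 0 := by
    exact_mod_cast Nat.card_pos.ne'
  have : Invertible (Nat.card P : ℂ) := invertibleOfNonzero hne
  have h := Representation.card_inv_mul_sum_char_eq_finrank ρ'
  refine ⟨Module.finrank ℂ (Representation.invariants ρ'), ?_⟩
  rw [← h, ← mul_assoc, mul_inv_cancel₀ hne, one_mul]
  apply Finset.sum_congr rfl
  intro x _
  rw [← hρ]
  rfl

theorem irr_one_ne_zero {G : Type*} [Group G] (ψ : Cfsg.IrrCharacter G) : (ψ : G → ℂ) 1 ≠ 0 := by
  obtain ⟨n, ρ, hirr, hρ⟩ := ψ.2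
  rw [← hρ, Representation.char_one]
  simp only [Module.finrank_fin_fun, ne_eq, Nat.cast_eq_zero]
  rintro rfl
  have : Nontrivial (Subrepresentation ρ) := hirr.toNontrivial
  obtain ⟨a, b, hab⟩ := this
  apply hab
  apply Subrepresentation.toSubmodule_injective
  apply Subsingleton.elim

theorem pRegularPart_one {G : Type*} [Group G] (p : ℕ) [hp : Fact p.Prime] (χ : G → ℂ) :
    Cfsg.pRegularPart p χ 1 = χ 1 := by
  unfold Cfsg.pRegularPart
  rw [if_pos]
  unfold Cfsg.IsPRegular
  rw [orderOf_one]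
  exact hp.out.one_lt.ne' ∘ Nat.dvd_one.mp

theorem pRegularPart_of_mem {G : Type*} [Group G] [Fintype G] (p : ℕ) [hp : Fact p.Prime] (χ : G → ℂ)
    (P : Sylow p G) (x : G) (hx : x ∈ (P : Subgroup G)) (hx1 : x ≠ 1) :
    Cfsg.pRegularPart p χ x = 0 := by
  unfold Cfsg.pRegularPart
  rw [if_neg]
  unfold Cfsg.IsPRegular
  rw [not_not]
  obtain ⟨k, hk⟩ := P.2 ⟨x, hx⟩
  have hk' : x ^ p ^ k = 1 := by
    have := congrArg Subtype.val hk
    simpa using this
  obtain ⟨j, -, hj⟩ := (Nat.dvd_prime_pow hp.out).mp (orderOf_dvd_of_pow_eq_one hk')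
  rw [hj]
  have : j ≠ 0 := by
    rintro rfl
    rw [pow_zero, orderOf_eq_one_iff] at hj
    exact hx1 hj
  exact dvd_pow_self p this

/-- Fix a prime p, a maximal ideal M of the algebraic integers containing p, and a p-block B of the finite group G, and let p^a be the p-part of the order of G. Let χ be an integer combination of the irreducible characters in B. If the function that agrees with χ on p-regular elements and vanishes on p-singular elements is again an integer combination of the irreducible characters in B, then p^a divides χ(1). -/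
theorem result {G : Type*} [Group G] [Fintype G] (p : ℕ) [Fact p.Prime] (M : Ideal Cfsg.AlgInt) (hM : Cfsg.IsPModular p M) (B : Set (Cfsg.IrrCharacter G)) (hB : Cfsg.IsPBlock M B) (χ : G → ℂ) (hχ : (∃ n : Cfsg.IrrCharacter G → ℤ, ∀ g : G, χ g = ∑ᶠ ψ ∈ B, (n ψ : ℂ) * (ψ : G → ℂ) g)) (h0 : (∃ n : Cfsg.IrrCharacter G → ℤ, ∀ g : G, Cfsg.pRegularPart p χ g = ∑ᶠ ψ ∈ B, (n ψ : ℂ) * (ψ : G → ℂ) g)) : ∃ k : ℤ, χ 1 = (p ^ (Nat.card G).factorization p : ℂ) * k := by
  classical
  obtain ⟨m, hm⟩ := h0
  by_cases hfin : {ψ : Cfsg.IrrCharacter G | ψ ∈ B ∧ m ψ ≠ 0}.Finite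
  · -- finite support
    let P : Sylow p G := default
    have hcard : Nat.card (P : Subgroup G) = p ^ (Nat.card G).factorization p :=
      Sylow.card_eq_multiplicity P
    have hsum : ∀ g : G, Cfsg.pRegularPart p χ g = ∑ ψ ∈ hfin.toFinset, (m ψ : ℂ) * (ψ : G → ℂ) g := by
      intro g
      rw [hm g]
      apply finsum_mem_eq_sum_of_inter_support_eq
      ext ψ
      simp only [Set.mem_inter_iff, Function.mem_support, ne_eq, mul_eq_zero, Int.cast_eq_zero,
        not_or, Set.Finite.coe_toFinset, Set.mem_setOf_eq]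
      tauto
    have hd : ∀ ψ : Cfsg.IrrCharacter G, ∃ d : ℕ,
        ∑ x : (P : Subgroup G), (ψ : G → ℂ) x = (Nat.card (P : Subgroup G) : ℂ) * d :=
      fun ψ => sum_subgroup_char (P : Subgroup G) ψ
    choose d hd using hd
    have h1 : ∑ x : (P : Subgroup G), Cfsg.pRegularPart p χ x = χ 1 := by
      rw [Finset.sum_eq_single (1 : (P : Subgroup G))]
      · exact pRegularPart_one p χ
      · intro x _ hx
        apply pRegularPart_of_mem p χ P x x.2
        intro h
        apply hx
        ext; exact h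
      · intro h; exact absurd (Finset.mem_univ _) h
    refine ⟨∑ ψ ∈ hfin.toFinset, m ψ * (d ψ : ℤ), ?_⟩
    rw [← h1]
    simp_rw [hsum]
    rw [Finset.sum_comm]
    simp_rw [← Finset.mul_sum, hd, hcard]
    push_cast
    rw [Finset.mul_sum]
    apply Finset.sum_congr rfl
    intro ψ _
    ring
  · refine ⟨0, ?_⟩
    rw [← pRegularPart_one p χ, hm 1]
    simp only [Int.cast_zero, mul_zero]
    apply finsum_mem_eq_zero_of_infinite
    convert hfin using 2
    ext ψ
    simp only [Set.mem_inter_iff, Function.mem_support, ne_eq, mul_eq_zero, Int.cast_eq_zero,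
      not_or, Set.mem_setOf_eq]
    have := irr_one_ne_zero ψ
    tauto

end Cfsg.Agent.S4665
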