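import Cfsg.Statements.S4668
import Cfsg.Agent.S4653
import Cfsg.Agent.S0028
import Cfsg.Agent.Lib.Helper78.WBO

set_option autoImplicit false
open Cfsg

namespace Cfsg.Agent.S4668

open Cfsg.Agent.Lib Cfsg.Agent.Lib.Helper16
open scoped ComplexConjugate

/-- A `p'`-element normalizing a chain of `p`-subgroups and centralizing the stabilizer of the
chain in each member centralizes every member (Thompson's `A × B` lemma along the chain). -/
theorem chain_le_centralizer {G : Type*} [Group G] [Finite G] (p : ℕ) [Fact p.Prime] (m : ℕ)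
    (Q : Fin (m + 1) → Subgroup G) (hQ : Monotone Q) (hQp : ∀ i, IsPGroup p (Q i)) (n : G)
    (hnreg : ¬ p ∣ orderOf n) (hnN : ∀ i, n ∈ Subgroup.normalizer (Q i : Set G))
    (hcent : ∀ i, ∀ x ∈ Q i, (∀ k, x ∈ Subgroup.normalizer (Q k : Set G)) → x * n = n * x) :
    ∀ j, Q j ≤ Subgroup.centralizer ((Subgroup.zpowers n : Subgroup G) : Set G) := by
  have hp : p.Prime := Fact.out
  suffices h : ∀ k : ℕ, ∀ j : Fin (m + 1), j.val = k →
      Q j ≤ Subgroup.centralizer ((Subgroup.zpowers n : Subgroup G) : Set G) from
    fun j => h j.val j rfl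
  intro k
  induction k using Nat.strong_induction_on with
  | _ k ih =>
    intro j hjk
    set Z : Subgroup G := Subgroup.zpowers n with hZ
    set D : Subgroup G := Q j ⊓ Subgroup.centralizer (Z : Set G) with hD
    have hZcard : (Nat.card Z).Coprime p := by
      rw [Nat.card_zpowers]
      exact (Nat.Coprime.symm ((Nat.Prime.coprime_iff_not_dvd hp).mpr hnreg))
    have hmemZ : ∀ x : G, x * n = n * x → x ∈ Subgroup.centralizer (Z : Set G) := by
      intro x hx
      rw [Subgroup.mem_centralizer_iff]
      intro z hz
      obtain ⟨t, rfl⟩ := Subgroup.mem_zpowers_iff.mp hz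
      have hc : Commute x n := hx
      exact ((hc.zpow_right t).eq).symm
    have key := Cfsg.Agent.S0028.result p D Z (Q j) ((hQp j).to_le inf_le_left) hZcard (hQp j)
      inf_le_right (inf_le_left.trans Subgroup.le_normalizer)
      (by rw [hZ, Subgroup.zpowers_le]; exact hnN j)
      (by
        intro x hx
        obtain ⟨hxQ, hxD⟩ := Subgroup.mem_inf.mp hx
        apply hmemZ
        apply hcent j x hxQ
        intro i
        by_cases hij : i < j
        · -- `Q i ≤ D`, and `x` centralizes `D`
          have h1 : Q i ≤ D := by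
            rw [hD]
            exact le_inf (hQ hij.le) (ih i.val (by rw [← hjk]; exact hij) i rfl)
          apply Subgroup.centralizer_le_normalizer
          exact Subgroup.centralizer_le h1 hxD
        · have : Q j ≤ Q i := hQ (not_lt.mp hij)
          exact Subgroup.le_normalizer (this hxQ))
    exact Subgroup.le_centralizer_iff.mp key

/-- Fix a prime p and a maximal ideal M of the algebraic integers containing p. Let Q₀ < Q₁ < ⋯ < Q_m be a strictly increasing chain of p-subgroups of the finite group G and N the intersection of their normalizers. Then every block idempotent of N is supported on C_G(Q_m): for every p-block E of N, the idempotent coefficient of E vanishes at every element of N outside C_G(Q_m). -/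
theorem result {G : Type*} [Group G] [Fintype G] (p : ℕ) [Fact p.Prime] (M : Ideal Cfsg.AlgInt) (hM : Cfsg.IsPModular p M) (m : ℕ) (Q : Fin (m + 1) → Subgroup G) (hQ : StrictMono Q) (hQp : ∀ i, IsPGroup p (Q i)) (N : Subgroup G) (hN : ∀ g : G, g ∈ N ↔ ∀ i, g ∈ Subgroup.normalizer (Q i : Set G)) (E : Set (Cfsg.IrrCharacter N)) (hE : Cfsg.IsPBlock M E) (n : N) (hn : (n : G) ∉ Subgroup.centralizer (Q (Fin.last m) : Set G)) : Cfsg.blockCoeff E n = 0 := by
  classical
  have : Fintype N := Fintype.ofFinite _
  by_contra hne
  -- `n` is `p`-regular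
  have hreg : ¬ p ∣ orderOf (n : G) := by
    intro hdiv
    apply hne
    have hdiv' : p ∣ orderOf n := by rwa [Subgroup.orderOf_coe] at hdiv
    have h := Cfsg.Agent.Lib.Helper78.weak_block_orthogonality hM hE (1 : N) n
      (by rw [orderOf_one]; exact (Fact.out : p.Prime).one_lt.ne' ∘ Nat.dvd_one.mp) hdiv'
    unfold blockCoeff
    rw [h, mul_zero]
  -- `n` centralizes `Q i ∩ N`
  have hcent : ∀ i, ∀ x ∈ Q i, (∀ k, x ∈ Subgroup.normalizer (Q k : Set G)) →
      x * (n : G) = (n : G) * x := by
    intro i x hxQ hxN
    have hxN' : x ∈ N := (hN x).mpr hxN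
    have hnorm : ((Q i).subgroupOf N).Normal := by
      constructor
      intro y hy g
      rw [Subgroup.mem_subgroupOf] at hy ⊢
      have hg := (hN g).mp g.2 i
      have := (Subgroup.mem_normalizer_iff.mp hg (y : G)).mp hy
      simpa using this
    have hP' : IsPGroup p ((Q i).subgroupOf N) := (hQp i).comap_subtype
    have hmem : n ∈ Subgroup.centralizer (((Q i).subgroupOf N : Subgroup N) : Set N) := by
      by_contra hcon
      exact hne (Cfsg.Agent.S4653.result p M hM ((Q i).subgroupOf N) hP' E hE n hcon)
    have := Subgroup.mem_centralizer_iff.mp hmem ⟨x, hxN'⟩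
      (by show (⟨x, hxN'⟩ : N) ∈ (Q i).subgroupOf N; rw [Subgroup.mem_subgroupOf]; exact hxQ)
    exact congrArg Subtype.val this
  have hchain := chain_le_centralizer p m Q hQ.monotone hQp (n : G) hreg
    (fun i => (hN n).mp n.2 i) hcent (Fin.last m)
  apply hn
  rw [Subgroup.mem_centralizer_iff]
  intro x hx
  have := Subgroup.mem_centralizer_iff.mp (hchain hx) (n : G) (Subgroup.mem_zpowers _)
  exact this.symm

end Cfsg.Agent.S4668
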