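import Cfsg.Statements.S4670
import Cfsg.Agent.Lib.Helper16.BrauerOver

set_option autoImplicit false
open Cfsg

namespace Cfsg.Agent.S4670

open Cfsg.Agent.Lib.Helper16

universe u

section

variable {G : Type u} [Group G]

/-- For `N_G(P) ≤ H`, the normalizer of `P` in `G` is isomorphic to the normalizer of `P ∩ H` in
`H`. -/
noncomputable def normEquiv (P H : Subgroup G) (hH : Subgroup.normalizer (P : Set G) ≤ H) :
    ↥(Subgroup.normalizer (P : Set G)) ≃*
      ↥(Subgroup.normalizer ((P.subgroupOf H : Subgroup ↥H) : Set ↥H)) where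
  toFun n := ⟨⟨(n : G), hH n.2⟩, by
    rw [← Subgroup.subgroupOf_normalizer_eq (Subgroup.le_normalizer.trans hH),
      Subgroup.mem_subgroupOf]
    exact n.2⟩
  invFun x := ⟨((x : ↥H) : G), by
    have h2 : (x : ↥H) ∈ (Subgroup.normalizer (P : Set G)).subgroupOf H := by
      rw [Subgroup.subgroupOf_normalizer_eq (Subgroup.le_normalizer.trans hH)]
      exact x.2
    exact Subgroup.mem_subgroupOf.mp h2⟩
  left_inv n := rfl
  right_inv x := rfl
  map_mul' x y := rfl

theorem normEquiv_coe (P H : Subgroup G) (hH : Subgroup.normalizer (P : Set G) ≤ H)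
    (n : ↥(Subgroup.normalizer (P : Set G))) :
    (((normEquiv P H hH n : ↥(Subgroup.normalizer ((P.subgroupOf H : Subgroup ↥H) : Set ↥H))) :
      ↥H) : G) = (n : G) := rfl

theorem normEquiv_mem_centralizer_iff (P H : Subgroup G)
    (hH : Subgroup.normalizer (P : Set G) ≤ H) (n : ↥(Subgroup.normalizer (P : Set G))) :
    ((normEquiv P H hH n : ↥(Subgroup.normalizer ((P.subgroupOf H : Subgroup ↥H) : Set ↥H))) :
      ↥H) ∈ Subgroup.centralizer ((P.subgroupOf H : Subgroup ↥H) : Set ↥H) ↔
    (n : G) ∈ Subgroup.centralizer (P : Set G) := by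
  rw [Subgroup.mem_centralizer_iff, Subgroup.mem_centralizer_iff]
  constructor
  · intro h g hg
    have := h ⟨g, hH (Subgroup.le_normalizer hg)⟩
      (by rw [SetLike.mem_coe, Subgroup.mem_subgroupOf]; exact hg)
    exact congrArg Subtype.val this
  · intro h x hx
    rw [SetLike.mem_coe, Subgroup.mem_subgroupOf] at hx
    exact Subtype.ext (h (x : G) hx)

end

/-- Fix a prime p and a maximal ideal M of the algebraic integers containing p. Let P be a p-subgroup of the finite group G and H a subgroup containing N_G(P). For every p-block B of G with defect group P there is exactly one p-block c of H with defect group P whose idempotent agrees with that of B, modulo the local ideal at M, at every element of C_G(P) (their Brauer-map images at P coincide); and every p-block c of H with defect group P arises in this way from exactly one such B. This is the Brauer correspondence over H. -/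
theorem result {G : Type*} [Group G] [Fintype G] (p : ℕ) [Fact p.Prime] (M : Ideal Cfsg.AlgInt) (hM : Cfsg.IsPModular p M) (P H : Subgroup G) (hP : IsPGroup p P) (hH : Subgroup.normalizer (P : Set G) ≤ H) : (∀ B : Set (Cfsg.IrrCharacter G), Cfsg.IsPBlock M B → Cfsg.IsDefectGroup p M B P → ∃! c : Set (Cfsg.IrrCharacter H), Cfsg.IsPBlock M c ∧ Cfsg.IsDefectGroup p M c (P.subgroupOf H) ∧ ∀ x : G, x ∈ Subgroup.centralizer (P : Set G) → Cfsg.MemLocalIdeal M (Cfsg.blockCoeff B x - Cfsg.subgroupBlockCoeff H c x)) ∧ (∀ c : Set (Cfsg.IrrCharacter H), Cfsg.IsPBlock M c → Cfsg.IsDefectGroup p M c (P.subgroupOf H) → ∃! B : Set (Cfsg.IrrCharacter G), Cfsg.IsPBlock M B ∧ Cfsg.IsDefectGroup p M B P ∧ ∀ x : G, x ∈ Subgroup.centralizer (P : Set G) → Cfsg.MemLocalIdeal M (Cfsg.blockCoeff B x - Cfsg.subgroupBlockCoeff H c x)) := by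
  classical
  have hMp := isPModular_isPrime hM
  have : Fintype ↥H := Fintype.ofFinite _
  have hPH : IsPGroup p (P.subgroupOf H) := hP.comap_subtype
  have hCN : Subgroup.centralizer (P : Set G) ≤ Subgroup.normalizer (P : Set G) :=
    Subgroup.centralizer_le_normalizer _
  -- the two isomorphisms from `N = N_G(P)`
  set φG : ↥(Subgroup.normalizer (P : Set G)) ≃* ↥(Subgroup.normalizer (P : Set G)) :=
    MulEquiv.refl _ with hφG
  set φH := normEquiv P H hH with hφH
  -- the defect group in `N`
  have hQG : (P.subgroupOf (Subgroup.normalizer (P : Set G))).comap φG.toMonoidHom =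
      P.subgroupOf (Subgroup.normalizer (P : Set G)) := by
    ext n
    rfl
  have hQH : (((P.subgroupOf H).subgroupOf
      (Subgroup.normalizer ((P.subgroupOf H : Subgroup ↥H) : Set ↥H))).comap φH.toMonoidHom) =
      P.subgroupOf (Subgroup.normalizer (P : Set G)) := by
    ext n
    rfl
  -- translation of the relations
  have relG : ∀ {B : Set (IrrCharacter G)}
      {β : Set (IrrCharacter ↥(Subgroup.normalizer (P : Set G)))},
      BrauerRel M P φG B β ↔ ∀ x : G, ∀ hx : x ∈ Subgroup.centralizer (P : Set G),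
        MemLocalIdeal M (blockCoeff B x - blockCoeff β ⟨x, hCN hx⟩) := by
    intro B β
    constructor
    · intro h x hx
      exact h ⟨x, hCN hx⟩ hx
    · intro h n hn
      exact h (n : G) hn
  have relH : ∀ {c : Set (IrrCharacter ↥H)}
      {β : Set (IrrCharacter ↥(Subgroup.normalizer (P : Set G)))},
      BrauerRel M (P.subgroupOf H) φH c β ↔ ∀ x : G, ∀ hx : x ∈ Subgroup.centralizer (P : Set G),
        MemLocalIdeal M (subgroupBlockCoeff H c x - blockCoeff β ⟨x, hCN hx⟩) := by
    intro c β
    constructor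
    · intro h x hx
      have h1 := h ⟨x, hCN hx⟩ ((normEquiv_mem_centralizer_iff P H hH ⟨x, hCN hx⟩).mpr hx)
      have h2 : subgroupBlockCoeff H c x = blockCoeff c ⟨x, hH (hCN hx)⟩ := by
        unfold subgroupBlockCoeff
        exact dif_pos (hH (hCN hx))
      rw [h2]
      exact h1
    · intro h n hn
      have hn' := (normEquiv_mem_centralizer_iff P H hH n).mp hn
      have h1 := h (n : G) hn'
      have h2 : subgroupBlockCoeff H c (n : G) = blockCoeff c ⟨(n : G), hH n.2⟩ := by
        unfold subgroupBlockCoeff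
        exact dif_pos (hH n.2)
      rw [h2] at h1
      exact h1
  -- congruence of two blocks of `N` on `C_G(P)` forces equality
  have uniqN : ∀ {β₁ β₂ : Set (IrrCharacter ↥(Subgroup.normalizer (P : Set G)))},
      IsPBlock M β₁ → IsPBlock M β₂ →
      (∀ x : G, ∀ hx : x ∈ Subgroup.centralizer (P : Set G),
        MemLocalIdeal M (blockCoeff β₁ ⟨x, hCN hx⟩ - blockCoeff β₂ ⟨x, hCN hx⟩)) → β₁ = β₂ := by
    intro β₁ β₂ h₁ h₂ h
    apply block_eq_of_congr_on_centralizer hM P hP φG h₁ h₂
    intro n hn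
    exact h (n : G) hn
  refine ⟨?_, ?_⟩
  · intro B hB hDB
    obtain ⟨β, hβ, hDβ, hrel⟩ := exists_brauerRel_of_block hM P hP φG hB hDB
    rw [hQG] at hDβ
    have hDβ' := hDβ
    rw [← hQH] at hDβ'
    obtain ⟨c, hc, hDc, hrelc⟩ := exists_block_of_brauerRel hM (P.subgroupOf H) hPH φH hβ hDβ'
    have hcong : ∀ x : G, x ∈ Subgroup.centralizer (P : Set G) →
        MemLocalIdeal M (blockCoeff B x - subgroupBlockCoeff H c x) := by
      intro x hx
      exact memLocalIdeal_sub_trans (relG.mp hrel x hx)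
        (memLocalIdeal_sub_comm.mp (relH.mp hrelc x hx))
    refine ⟨c, ⟨hc, hDc, hcong⟩, ?_⟩
    rintro c' ⟨hc', hDc', hcong'⟩
    obtain ⟨β', hβ', hDβ'', hrelc'⟩ :=
      exists_brauerRel_of_block hM (P.subgroupOf H) hPH φH hc' hDc'
    have hββ' : β' = β := by
      apply uniqN hβ' hβ
      intro x hx
      -- β' x ≡ c' x ≡ B x ≡ β x
      exact memLocalIdeal_sub_trans
        (memLocalIdeal_sub_trans (memLocalIdeal_sub_comm.mp (relH.mp hrelc' x hx))
          (memLocalIdeal_sub_comm.mp (hcong' x hx)))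
        (relG.mp hrel x hx)
    rw [hββ'] at hrelc'
    exact block_eq_of_brauerRel hM (P.subgroupOf H) hPH φH hc' hDc' hc hDc hrelc' hrelc
  · intro c hc hDc
    obtain ⟨β, hβ, hDβ, hrelc⟩ := exists_brauerRel_of_block hM (P.subgroupOf H) hPH φH hc hDc
    rw [hQH] at hDβ
    have hDβ' := hDβ
    rw [← hQG] at hDβ'
    obtain ⟨B, hB, hDB, hrel⟩ := exists_block_of_brauerRel hM P hP φG hβ hDβ'
    have hcong : ∀ x : G, x ∈ Subgroup.centralizer (P : Set G) →
        MemLocalIdeal M (blockCoeff B x - subgroupBlockCoeff H c x) := by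
      intro x hx
      exact memLocalIdeal_sub_trans (relG.mp hrel x hx)
        (memLocalIdeal_sub_comm.mp (relH.mp hrelc x hx))
    refine ⟨B, ⟨hB, hDB, hcong⟩, ?_⟩
    rintro B' ⟨hB', hDB', hcong'⟩
    obtain ⟨β', hβ', hDβ'', hrel'⟩ := exists_brauerRel_of_block hM P hP φG hB' hDB'
    have hββ' : β' = β := by
      apply uniqN hβ' hβ
      intro x hx
      -- β' x ≡ B' x ≡ c x ≡ β x
      exact memLocalIdeal_sub_trans
        (memLocalIdeal_sub_trans (memLocalIdeal_sub_comm.mp (relG.mp hrel' x hx))
          (hcong' x hx))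
        (relH.mp hrelc x hx)
    rw [hββ'] at hrel'
    exact block_eq_of_brauerRel hM P hP φG hB' hDB' hB hDB hrel' hrel

end Cfsg.Agent.S4670
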