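import Cfsg.Statements.S4676
import Cfsg.Agent.Lib.Helper79.BrauerFeit
import Cfsg.Agent.Lib.Helper78.DefectOrder

set_option autoImplicit false
open Cfsg
open Cfsg.Agent.Lib.Helper79 Cfsg.Agent.Lib.Helper16 Cfsg.Agent.Lib.Helper78

namespace Cfsg.Agent.S4676

/-- Fix a prime p and a maximal ideal M of the algebraic integers containing p. Let B be a p-block of the finite group G with defect group P. For χ in B, let the height of χ be the exponent of p in the degree of χ minus the least such exponent over the members of B. Then the sum over χ in B of p raised to twice the height of χ is at most the integer part of (order of P)²/4, plus 1; in particular B has at most that many irreducible characters. -/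
theorem result {G : Type*} [Group G] [Fintype G] (p : ℕ) [Fact p.Prime] (M : Ideal Cfsg.AlgInt) (hM : Cfsg.IsPModular p M) (B : Set (Cfsg.IrrCharacter G)) (hB : Cfsg.IsPBlock M B) (P : Subgroup G) (hP : Cfsg.IsDefectGroup p M B P) : ∑ᶠ χ ∈ B, p ^ (2 * Cfsg.blockHeight p B (χ : G → ℂ)) ≤ Nat.card P ^ 2 / 4 + 1 := by
  classical
  have hp : p.Prime := Fact.out
  have hfin : B.Finite := Set.toFinite B
  rw [finsum_mem_eq_finite_toFinset_sum _ hfin]
  have hT₀ : ∀ ψ, ψ ∈ hfin.toFinset ↔ ψ ∈ B := fun ψ => Set.Finite.mem_toFinset hfin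
  have hW := four_mul_weighted_sum_le hM hB hfin.toFinset hT₀
  have hcard : Nat.card P = p ^ blockDefect p B := card_defectGroup hM hB hP
  rw [hcard]
  set S : ℕ := ∑ ψ ∈ hfin.toFinset, p ^ (2 * blockHeight p B (ψ : G → ℂ)) with hS
  have hW' : 4 * S ≤ p ^ (2 * blockDefect p B) + 4 := by
    have h1 : ((4 * S : ℕ) : ℤ) ≤ ((p ^ (2 * blockDefect p B) + 4 : ℕ) : ℤ) := by
      rw [hS]
      push_cast
      exact hW
    exact_mod_cast h1
  have h2 : (p ^ blockDefect p B) ^ 2 = p ^ (2 * blockDefect p B) := by
    rw [← pow_mul, mul_comm]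
  rw [h2]
  have h3 : S - 1 ≤ p ^ (2 * blockDefect p B) / 4 := by
    rw [Nat.le_div_iff_mul_le (by norm_num)]
    omega
  omega

end Cfsg.Agent.S4676
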