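import Cfsg.Statements.S4678
import Cfsg.Agent.Lib.Helper16.FusionCent

set_option autoImplicit false
open Cfsg Cfsg.Agent.Lib.Helper16

namespace Cfsg.Agent.S4678

/-- Fix a prime p and a maximal ideal M of the algebraic integers containing p, a p-block B of the finite group G with maximal Brauer pair (P, e), its fusion system F on P, and a Brauer pair (Q, f) ≤ (P, e). Then Q is fully centralized in F if and only if C_P(Q) is a defect group of f as a block of C_G(Q). -/
theorem result {G : Type*} [Group G] [Fintype G] (p : ℕ) [Fact p.Prime] (M : Ideal Cfsg.AlgInt) (hM : Cfsg.IsPModular p M) (B : Set (Cfsg.IrrCharacter G)) (P : Subgroup G) (e : Set (Cfsg.IrrCharacter (Subgroup.centralizer (P : Set G)))) (hmax : Cfsg.IsMaximalBrauerPair p M B P e) (F : Cfsg.FusionSystem P) (hF : Cfsg.IsBlockFusionSystemOn p M B P e F) (Q : Subgroup G) (f : Set (Cfsg.IrrCharacter (Subgroup.centralizer (Q : Set G)))) (hQP : Q ≤ P) (hf : Cfsg.IsPBlock M f) (hle : Cfsg.SubpairLE p M Q f P e) : F.IsFullyCentralized Q ↔ Cfsg.IsDefectGroup p M f ((P ⊓ Subgroup.centralizer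 (Q : Set G)).subgroupOf (Subgroup.centralizer (Q : Set G))) := by
  classical
  have hMp := isPModular_isPrime hM
  have hPe : IsBrauerPair p M P e := hmax.1.1
  have : Fintype ↥(Subgroup.centralizer (Q : Set G)) := Fintype.ofFinite _
  constructor
  · rintro ⟨_, hall⟩
    obtain ⟨x, hxle, hxdef⟩ := exists_conj_isDefectGroup_centralizerIn hM hmax hle
    have hconj := isConj_of_subpairLE_conj hF hle x hxle
    have hcard := hall _ hconj
    obtain ⟨D, hD, hRD⟩ := exists_isDefectGroup_ge_centralizerIn hM hPe hle
    have : Fintype ↥(Subgroup.centralizer ((Q.map (MulAut.conj x).toMonoidHom : Subgroup G) :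
      Set G)) := Fintype.ofFinite _
    have hfx : IsPBlock M (conjBlock Q x f) := by
      rw [conjBlock_eq_pullBlock]
      exact isPBlock_pullBlock _ hf
    have hD' : IsDefectGroup p M (conjBlock Q x f) (D.comap (conjCent Q x).toMonoidHom) := by
      rw [conjBlock_eq_pullBlock]
      exact isDefectGroup_pullBlock _ hD
    have h1 : Nat.card D = Nat.card ((P ⊓ Subgroup.centralizer
        ((Q.map (MulAut.conj x).toMonoidHom : Subgroup G) : Set G)).subgroupOf
        (Subgroup.centralizer ((Q.map (MulAut.conj x).toMonoidHom : Subgroup G) : Set G))) := by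
      rw [← card_comap_mulEquiv (conjCent Q x) D,
        Cfsg.Agent.Lib.Helper78.card_defectGroup hM hfx hD',
        Cfsg.Agent.Lib.Helper78.card_defectGroup hM hfx hxdef]
    have h2 : Nat.card D ≤ Nat.card ((P ⊓ Subgroup.centralizer (Q : Set G)).subgroupOf
        (Subgroup.centralizer (Q : Set G))) := by
      rw [h1, card_inf_subgroupOf, card_inf_subgroupOf]
      exact hcard
    have heq := Subgroup.eq_of_le_of_card_ge hRD h2
    rw [heq]
    exact hD
  · intro hdef
    refine ⟨hQP, ?_⟩
    intro Q' hQ'
    obtain ⟨g, rfl, hgle⟩ := exists_conj_of_isConj hM hF hle hQ'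
    have : Fintype ↥(Subgroup.centralizer ((Q.map (MulAut.conj g).toMonoidHom : Subgroup G) :
      Set G)) := Fintype.ofFinite _
    have hfg : IsPBlock M (conjBlock Q g f) := by
      rw [conjBlock_eq_pullBlock]
      exact isPBlock_pullBlock _ hf
    obtain ⟨D', hD', hRD'⟩ := exists_isDefectGroup_ge_centralizerIn hM hPe hgle
    have hdef' : IsDefectGroup p M (conjBlock Q g f)
        (((P ⊓ Subgroup.centralizer (Q : Set G)).subgroupOf
          (Subgroup.centralizer (Q : Set G))).comap (conjCent Q g).toMonoidHom) := by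
      rw [conjBlock_eq_pullBlock]
      exact isDefectGroup_pullBlock _ hdef
    have h1 : Nat.card D' = Nat.card ((P ⊓ Subgroup.centralizer (Q : Set G)).subgroupOf
        (Subgroup.centralizer (Q : Set G))) := by
      rw [← card_comap_mulEquiv (conjCent Q g),
        Cfsg.Agent.Lib.Helper78.card_defectGroup hM hfg hD',
        Cfsg.Agent.Lib.Helper78.card_defectGroup hM hfg hdef']
    have h2 := Subgroup.card_le_of_le hRD'
    rw [h1, card_inf_subgroupOf, card_inf_subgroupOf] at h2
    exact h2

end Cfsg.Agent.S4678
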