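import Cfsg.Statements.S4680
import Cfsg.Agent.Lib.Helper16.FusionCentric

set_option autoImplicit false
open Cfsg Cfsg.Agent.Lib.Helper16

namespace Cfsg.Agent.S4680

/-- Fix a prime p and a maximal ideal M of the algebraic integers containing p, a p-block B of the finite group G with maximal Brauer pair (P, e), its fusion system F on P, and a Brauer pair (Q, f) ≤ (P, e). Then Q is centric in F if and only if Z(Q) is a defect group of f as a block of C_G(Q). -/
theorem result {G : Type*} [Group G] [Fintype G] (p : ℕ) [Fact p.Prime] (M : Ideal Cfsg.AlgInt) (hM : Cfsg.IsPModular p M) (B : Set (Cfsg.IrrCharacter G)) (P : Subgroup G) (e : Set (Cfsg.IrrCharacter (Subgroup.centralizer (P : Set G)))) (hmax : Cfsg.IsMaximalBrauerPair p M B P e) (F : Cfsg.FusionSystem P) (hF : Cfsg.IsBlockFusionSystemOn p M B P e F) (Q : Subgroup G) (f : Set (Cfsg.IrrCharacter (Subgroup.centralizer (Q : Set G)))) (hQP : Q ≤ P) (hf : Cfsg.IsPBlock M f) (hle : Cfsg.SubpairLE p M Q f P e) : F.IsCentric Q ↔ Cfsg.IsDefectGroup p M f ((Q ⊓ Subgroup.centralizer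 (Q : Set G)).subgroupOf (Subgroup.centralizer (Q : Set G))) := by
  classical
  have hMp := isPModular_isPrime hM
  have hPe : IsBrauerPair p M P e := hmax.1.1
  have : Fintype ↥(Subgroup.centralizer (Q : Set G)) := Fintype.ofFinite _
  have hZR : (Q ⊓ Subgroup.centralizer (Q : Set G)).subgroupOf (Subgroup.centralizer (Q : Set G)) ≤
      (P ⊓ Subgroup.centralizer (Q : Set G)).subgroupOf (Subgroup.centralizer (Q : Set G)) := by
    intro c hc
    rw [Subgroup.mem_subgroupOf] at hc ⊢
    exact ⟨hQP hc.1, hc.2⟩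
  constructor
  · rintro ⟨_, hall⟩
    obtain ⟨x, hxle, hxdef⟩ := exists_conj_isDefectGroup_centralizerIn hM hmax hle
    have hconj := isConj_of_subpairLE_conj hF hle x hxle
    have hcen : P ⊓ Subgroup.centralizer ((Q.map (MulAut.conj x).toMonoidHom : Subgroup G) :
        Set G) ≤ Q.map (MulAut.conj x).toMonoidHom := hall _ hconj
    have hQxP : Q.map (MulAut.conj x).toMonoidHom ≤ P := Cfsg.Agent.S4655.le_le hxle
    have heq : P ⊓ Subgroup.centralizer ((Q.map (MulAut.conj x).toMonoidHom : Subgroup G) :
        Set G) = Q.map (MulAut.conj x).toMonoidHom ⊓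
        Subgroup.centralizer ((Q.map (MulAut.conj x).toMonoidHom : Subgroup G) : Set G) :=
      le_antisymm (le_inf hcen inf_le_right) (inf_le_inf_right _ hQxP)
    rw [heq, ← comap_conjCent_center] at hxdef
    obtain ⟨D, hD, hRD⟩ := exists_isDefectGroup_ge_centralizerIn hM hPe hle
    have : Fintype ↥(Subgroup.centralizer ((Q.map (MulAut.conj x).toMonoidHom : Subgroup G) :
      Set G)) := Fintype.ofFinite _
    have hfx : IsPBlock M (conjBlock Q x f) := by
      rw [conjBlock_eq_pullBlock]
      exact isPBlock_pullBlock _ hf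
    have hD' : IsDefectGroup p M (conjBlock Q x f) (D.comap (conjCent Q x).toMonoidHom) := by
      rw [conjBlock_eq_pullBlock]
      exact isDefectGroup_pullBlock _ hD
    have h1 : Nat.card D = Nat.card ((Q ⊓ Subgroup.centralizer (Q : Set G)).subgroupOf
        (Subgroup.centralizer (Q : Set G))) := by
      rw [← card_comap_mulEquiv (conjCent Q x) D,
        Cfsg.Agent.Lib.Helper78.card_defectGroup hM hfx hD',
        ← Cfsg.Agent.Lib.Helper78.card_defectGroup hM hfx hxdef, card_comap_mulEquiv]
    have heq2 := Subgroup.eq_of_le_of_card_ge (hZR.trans hRD) (le_of_eq h1)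
    rw [heq2]
    exact hD
  · intro hdef
    refine ⟨hQP, ?_⟩
    intro Q' hQ'
    obtain ⟨g, rfl, hgle⟩ := exists_conj_of_isConj hM hF hle hQ'
    have : Fintype ↥(Subgroup.centralizer ((Q.map (MulAut.conj g).toMonoidHom : Subgroup G) :
      Set G)) := Fintype.ofFinite _
    have hfg : IsPBlock M (conjBlock Q g f) := by
      rw [conjBlock_eq_pullBlock]
      exact isPBlock_pullBlock _ hf
    have hQgP : Q.map (MulAut.conj g).toMonoidHom ≤ P := Cfsg.Agent.S4655.le_le hgle
    obtain ⟨D', hD', hRD'⟩ := exists_isDefectGroup_ge_centralizerIn hM hPe hgle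
    have hdef' : IsDefectGroup p M (conjBlock Q g f)
        (((Q ⊓ Subgroup.centralizer (Q : Set G)).subgroupOf
          (Subgroup.centralizer (Q : Set G))).comap (conjCent Q g).toMonoidHom) := by
      rw [conjBlock_eq_pullBlock]
      exact isDefectGroup_pullBlock _ hdef
    rw [comap_conjCent_center] at hdef'
    have hZR' : (Q.map (MulAut.conj g).toMonoidHom ⊓ Subgroup.centralizer
        ((Q.map (MulAut.conj g).toMonoidHom : Subgroup G) : Set G)).subgroupOf
        (Subgroup.centralizer ((Q.map (MulAut.conj g).toMonoidHom : Subgroup G) : Set G)) ≤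
        (P ⊓ Subgroup.centralizer ((Q.map (MulAut.conj g).toMonoidHom : Subgroup G) :
          Set G)).subgroupOf
        (Subgroup.centralizer ((Q.map (MulAut.conj g).toMonoidHom : Subgroup G) : Set G)) := by
      intro c hc
      rw [Subgroup.mem_subgroupOf] at hc ⊢
      exact ⟨hQgP hc.1, hc.2⟩
    have h1 : Nat.card D' = Nat.card ((Q.map (MulAut.conj g).toMonoidHom ⊓ Subgroup.centralizer
        ((Q.map (MulAut.conj g).toMonoidHom : Subgroup G) : Set G)).subgroupOf
        (Subgroup.centralizer ((Q.map (MulAut.conj g).toMonoidHom : Subgroup G) : Set G))) := by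
      rw [Cfsg.Agent.Lib.Helper78.card_defectGroup hM hfg hD',
        Cfsg.Agent.Lib.Helper78.card_defectGroup hM hfg hdef']
    have heq := Subgroup.eq_of_le_of_card_ge (hZR'.trans hRD') (le_of_eq h1)
    intro y hy
    have hy' : y ∈ P ⊓ Subgroup.centralizer ((Q.map (MulAut.conj g).toMonoidHom : Subgroup G) :
        Set G) := hy
    have h2 : (⟨y, hy'.2⟩ : ↥(Subgroup.centralizer
        ((Q.map (MulAut.conj g).toMonoidHom : Subgroup G) : Set G))) ∈ D' :=
      hRD' (Subgroup.mem_subgroupOf.mpr hy')
    rw [← heq, Subgroup.mem_subgroupOf] at h2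
    exact h2.1

end Cfsg.Agent.S4680
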