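import Cfsg.Statements.S4681
import Cfsg.Agent.Lib.Helper16.PrincipalFusion

set_option autoImplicit false
open Cfsg Cfsg.Agent.Lib.Helper16

namespace Cfsg.Agent.S4681

/-- Fix a prime p and a maximal ideal M of the algebraic integers containing p. Let B₀ be the principal p-block of the finite group G, P a Sylow p-subgroup and e₀ the principal p-block of C_G(P). Then (P, e₀) is a maximal Brauer pair of B₀, and the fusion system of B₀ on (P, e₀) is the fusion system of G on P: its maps from each subgroup of P are exactly the conjugation maps into P by elements of G. -/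
theorem result {G : Type*} [Group G] [Fintype G] (p : ℕ) [Fact p.Prime] (M : Ideal Cfsg.AlgInt) (hM : Cfsg.IsPModular p M) (S : Sylow p G) : Cfsg.IsMaximalBrauerPair p M (Cfsg.principalBlock M G) (S : Subgroup G) (Cfsg.principalBlock M (Subgroup.centralizer ((S : Subgroup G) : Set G))) ∧ ∀ F : Cfsg.FusionSystem (S : Subgroup G), Cfsg.IsBlockFusionSystemOn p M (Cfsg.principalBlock M G) (S : Subgroup G) (Cfsg.principalBlock M (Subgroup.centralizer ((S : Subgroup G) : Set G))) F → ∀ Q : Subgroup G, F.Hom Q = (Cfsg.groupFusionSystem (S : Subgroup G)).Hom Q := by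
  classical
  have hSp : IsPGroup p (S : Subgroup G) := S.isPGroup'
  have hBe := Cfsg.Agent.S4691.isBrauerPairOf_principal (M := M) hM (S : Subgroup G) hSp
  constructor
  · refine ⟨hBe, ?_⟩
    intro R g hRg hle
    have h1 : (S : Subgroup G) ≤ R := Cfsg.Agent.S4655.le_le hle
    exact S.is_maximal' hRg.1.1 h1
  · intro F hF Q
    ext φ
    rw [hF.2 Q φ]
    constructor
    · rintro ⟨hQS, g, hφg, hQg, _⟩
      refine ⟨hQS, ?_, g, hφg⟩
      intro u
      rw [hφg u]
      exact hQg ⟨(u : G), u.2, rfl⟩
    · rintro ⟨hQS, hφS, g, hφg⟩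
      have hQg : Q.map (MulAut.conj g).toMonoidHom ≤ (S : Subgroup G) := by
        rintro _ ⟨u, hu, rfl⟩
        have := hφS ⟨u, hu⟩
        rw [hφg ⟨u, hu⟩] at this
        exact this
      refine ⟨hQS, g, hφg, hQg, principalBlock M (Subgroup.centralizer (Q : Set G)),
        subpairLE_principal hM hSp hQS, ?_⟩
      rw [conjBlock_principalBlock]
      exact subpairLE_principal hM hSp hQg

end Cfsg.Agent.S4681
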