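import Cfsg.Statements.S4682
import Cfsg.Agent.Lib.Helper16.AbelianDefect

set_option autoImplicit false
open Cfsg Cfsg.Agent.Lib.Helper16

namespace Cfsg.Agent.S4682

/-- Fix a prime p and a maximal ideal M of the algebraic integers containing p, a p-block B of the finite group G with maximal Brauer pair (P, e), P abelian, and a Brauer pair (Q, f) ≤ (P, e). Let T_Q be the stabilizer of f in N_G(Q) and T_P the stabilizer of e in N_G(P). Then every element of T_Q is a product of an element of T_P and an element of C_G(Q); and the index of C_G(Q) in T_Q equals the index of T_P ∩ C_G(Q) in T_P ∩ N_G(Q). -/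
theorem result {G : Type*} [Group G] [Fintype G] (p : ℕ) [Fact p.Prime] (M : Ideal Cfsg.AlgInt) (hM : Cfsg.IsPModular p M) (B : Set (Cfsg.IrrCharacter G)) (P : Subgroup G) (e : Set (Cfsg.IrrCharacter (Subgroup.centralizer (P : Set G)))) (hmax : Cfsg.IsMaximalBrauerPair p M B P e) (hab : ∀ x ∈ P, ∀ y ∈ P, x * y = y * x) (Q : Subgroup G) (f : Set (Cfsg.IrrCharacter (Subgroup.centralizer (Q : Set G)))) (hQP : Q ≤ P) (hf : Cfsg.IsPBlock M f) (hle : Cfsg.SubpairLE p M Q f P e) (TQ : Subgroup G) (hTQ : ∀ y : G, y ∈ TQ ↔ y ∈ Subgroup.normalizer (Q : Set G) ∧ Cfsg.StabilizesBlock (Subgroup.centralizer (Q : Set G)) f y) (TP : Subgroup G) (hTP : ∀ y : G, y ∈ TP ↔ y ∈ Subgroup.normalizer (P : Set G) ∧ Cfsg.StabilizesBlock (Subgroup.centralizer (P : Set G)) e y) : (∀ x ∈ TQ, ∃ y ∈ TP, ∃ c ∈ Subgroup.centralizer (Q : Set G), x = y * c) ∧ ((Subgroup.centralizer (Q : Set G)).subgroupOf TQ).index = ((TP ⊓ Subgroup.centralizer (Q : Set G)).subgroupOf (TP ⊓ Subgroup.normalizer (Q :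 Set G))).index := by
  classical
  have hMp := isPModular_isPrime hM
  have hPe : IsBrauerPair p M P e := hmax.1.1
  have hQf : IsBrauerPair p M Q f := Cfsg.Agent.S4655.le_pair_left hle hPe
  have hPC : P ≤ Subgroup.centralizer (Q : Set G) := by
    intro y hy
    rw [Subgroup.mem_centralizer_iff]
    intro q hq
    exact hab q (hQP hq) y hy
  have hCN : Subgroup.centralizer (Q : Set G) ≤ Subgroup.normalizer (Q : Set G) :=
    Subgroup.centralizer_le_normalizer _
  have hPTP : P ≤ TP := by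
    intro y hy
    rw [hTP]
    exact ⟨Subgroup.le_normalizer hy, stabilizesBlock_of_mem_supCent P ⊥ e (le_supCent P ⊥ hy)⟩
  -- first part
  have part1 : ∀ x ∈ TQ, ∃ y ∈ TP, ∃ c ∈ Subgroup.centralizer (Q : Set G), x = y * c := by
    intro x hx
    obtain ⟨hxN, hxS⟩ := (hTQ x).mp hx
    obtain ⟨t, htL, hfix⟩ := exists_mul_conjPair_eq_self hM hmax hle hPC hxN hxS
    have htx : t * x ∈ TP := (hTP _).mpr (stabilizes_of_conjPair_eq_self hfix)
    have htL' : t ∈ ((Q ⊔ Subgroup.centralizer (Q : Set G) : Subgroup G) : Set G) := htL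
    rw [Subgroup.coe_mul_of_right_le_normalizer_left _ _ hCN] at htL'
    obtain ⟨q, hq, c₀, hc₀, hqc⟩ := htL'
    have hqc' : q * c₀ = t := hqc
    have hy₀ : c₀ * x ∈ TP := by
      have h1 : c₀ * x = q⁻¹ * (t * x) := by rw [← hqc']; group
      rw [h1]
      exact TP.mul_mem (TP.inv_mem (hPTP (hQP hq))) htx
    have hy₀N : c₀ * x ∈ Subgroup.normalizer (Q : Set G) :=
      Subgroup.mul_mem _ (hCN hc₀) hxN
    refine ⟨c₀ * x, hy₀, (c₀ * x)⁻¹ * c₀⁻¹ * ((c₀ * x)⁻¹)⁻¹, ?_, by group⟩
    exact Cfsg.Agent.Lib.Helper77.conj_mem_centralizer_of_mem_normalizer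
      (Subgroup.inv_mem _ hy₀N) (Subgroup.inv_mem _ hc₀)
  refine ⟨part1, ?_⟩
  -- second part
  have hCTQ : Subgroup.centralizer (Q : Set G) ≤ TQ := centralizer_le_stab hTQ
  have hTQN : TQ ≤ Subgroup.normalizer (Q : Set G) := stab_le_normalizer hTQ
  have hATQ : TP ⊓ Subgroup.normalizer (Q : Set G) ≤ TQ := by
    intro y hy
    obtain ⟨hyP, hyS⟩ := (hTP y).mp hy.1
    have h1 : conjPair y (⟨P, e⟩ : BrauerPairIdx G) = ⟨P, e⟩ :=
      conjPair_eq_self_of_stabilizes hyP hyS
    have h2 : Relation.ReflTransGen (NormalSubpairRel p M) (conjPair y ⟨Q, f⟩)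
        (conjPair y ⟨P, e⟩) := subpairLE_conjPair hle y
    rw [h1] at h2
    have h3 : conjPair y (⟨Q, f⟩ : BrauerPairIdx G) = ⟨Q, f⟩ :=
      subpair_unique hM (c := ⟨P, e⟩) hPe h2 hle (map_conj_eq_of_mem_normalizer Q hy.2)
    rw [hTQ]
    exact stabilizes_of_conjPair_eq_self h3
  have hTQeq : TQ = (TP ⊓ Subgroup.normalizer (Q : Set G)) ⊔ Subgroup.centralizer (Q : Set G) := by
    apply le_antisymm
    · intro x hx
      obtain ⟨y, hy, c, hc, rfl⟩ := part1 x hx
      have hyN : y ∈ Subgroup.normalizer (Q : Set G) := by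
        have h1 : y = (y * c) * c⁻¹ := by group
        rw [h1]
        exact Subgroup.mul_mem _ (hTQN hx) (Subgroup.inv_mem _ (hCN hc))
      exact Subgroup.mul_mem_sup ⟨hy, hyN⟩ hc
    · exact sup_le hATQ hCTQ
  have hnorm : ((Subgroup.centralizer (Q : Set G)).subgroupOf
      (Subgroup.normalizer (Q : Set G))).Normal := by
    have h1 : (Subgroup.centralizer (Q : Set G)).subgroupOf (Subgroup.normalizer (Q : Set G)) =
        Subgroup.centralizer ((Q.subgroupOf (Subgroup.normalizer (Q : Set G)) :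
          Subgroup ↥(Subgroup.normalizer (Q : Set G))) :
          Set ↥(Subgroup.normalizer (Q : Set G))) := by
      ext c
      rw [Subgroup.mem_subgroupOf]
      constructor
      · intro hc
        exact mk_mem_centralizer_of_subgroupOf _ Q c.2 hc
      · intro hc
        exact coe_mem_centralizer_of_subgroupOf _ Q Subgroup.le_normalizer hc
    rw [h1]
    have : (Q.subgroupOf (Subgroup.normalizer (Q : Set G))).Normal :=
      Subgroup.normal_subgroupOf_of_le_normalizer le_rfl
    exact Cfsg.Agent.S4653.centralizer_normal_of_normal _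
  show (Subgroup.centralizer (Q : Set G)).relIndex TQ =
    (TP ⊓ Subgroup.centralizer (Q : Set G)).relIndex (TP ⊓ Subgroup.normalizer (Q : Set G))
  have hinf : TP ⊓ Subgroup.centralizer (Q : Set G) =
      (TP ⊓ Subgroup.normalizer (Q : Set G)) ⊓ Subgroup.centralizer (Q : Set G) := by
    rw [inf_assoc, inf_eq_right.mpr hCN]
  rw [hinf, Subgroup.inf_relIndex_left,
    ← Subgroup.relIndex_subgroupOf (L := Subgroup.normalizer (Q : Set G)) hTQN, hTQeq,
    Subgroup.subgroupOf_sup inf_le_right hCN, Subgroup.relIndex_sup_right,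
    Subgroup.relIndex_subgroupOf inf_le_right]

end Cfsg.Agent.S4682
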