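import Cfsg.Statements.S4686
import Cfsg.Agent.Lib.Helper16.NilFusion
import Cfsg.Agent.S4660

set_option autoImplicit false
open Cfsg Cfsg.Agent.Lib.Helper16

namespace Cfsg.Agent.S4686

/-- Fix a prime p and a maximal ideal M of the algebraic integers containing p, a p-block B of the finite group G with maximal Brauer pair (P, e) and fusion system F on P. Then B is nilpotent (for every Brauer pair (Q, f) of B the stabilizer of f in N_G(Q) is C_G(Q) extended by a p-group) if and only if F is the inner fusion system of P: its maps from each subgroup of P are exactly the conjugations by elements of P. -/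
theorem result {G : Type*} [Group G] [Fintype G] (p : ℕ) [Fact p.Prime] (M : Ideal Cfsg.AlgInt) (hM : Cfsg.IsPModular p M) (B : Set (Cfsg.IrrCharacter G)) (P : Subgroup G) (e : Set (Cfsg.IrrCharacter (Subgroup.centralizer (P : Set G)))) (hmax : Cfsg.IsMaximalBrauerPair p M B P e) (F : Cfsg.FusionSystem P) (hF : Cfsg.IsBlockFusionSystemOn p M B P e F) : Cfsg.IsNilpotentBlock p M B ↔ ∀ Q : Subgroup G, F.Hom Q = (Cfsg.innerFusionSystem P).Hom Q := by
  classical
  have hMp := isPModular_isPrime hM
  have hPe : IsBrauerPair p M P e := hmax.1.1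
  have hB : IsPBlock M B := hmax.1.2.1
  constructor
  · -- nilpotent implies inner
    intro hnil Q
    ext φ
    constructor
    · intro hφ
      obtain ⟨hQP, g, hg, _, f, hle, hgle⟩ := (hF.2 Q φ).mp hφ
      obtain ⟨u, hu, huc⟩ := exists_mem_of_nilpotent hM hmax hnil (Nat.card P - Nat.card Q) Q f g
        le_rfl hle hgle
      refine ⟨hQP, u, hu, ?_⟩
      intro q
      rw [hg q]
      have h1 := Subgroup.mem_centralizer_iff.mp huc (q : G) q.2
      have h2 : g * (q : G) * g⁻¹ = u * ((u⁻¹ * g) * (q : G)) * g⁻¹ := by group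
      rw [h2, ← h1]
      group
    · rintro ⟨hQP, g, hg, hφ⟩
      have h1 : φ = conjHom Q g := by
        ext q
        rw [hφ q]
        rfl
      rw [h1]
      exact F.conj_mem hQP hg
  · -- inner implies nilpotent
    intro h
    refine ⟨hB, ?_⟩
    intro Q f hQf x hxN hxS hxreg
    obtain ⟨z, hz⟩ := Cfsg.Agent.S4660.result p M hM B P Q e f hmax hQf
    have hQ₁P : Q.map (MulAut.conj z).toMonoidHom ≤ P := Cfsg.Agent.S4655.le_le hz
    have hfix : conjPair (z * x * z⁻¹) (conjPair z (⟨Q, f⟩ : BrauerPairIdx G)) =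
        conjPair z ⟨Q, f⟩ := by
      rw [conjPair_conjPair]
      have h1 : z * x * z⁻¹ * z = z * x := by group
      rw [h1, ← conjPair_conjPair, conjPair_eq_self_of_stabilizes hxN hxS]
    obtain ⟨hx₁N, hx₁S⟩ := stabilizes_of_conjPair_eq_self
      (P := Q.map (MulAut.conj z).toMonoidHom) (e := conjBlock Q z f) hfix
    have hφ : conjHom (Q.map (MulAut.conj z).toMonoidHom) (z * x * z⁻¹) ∈
        F.Hom (Q.map (MulAut.conj z).toMonoidHom) := by
      rw [hF.2]
      refine ⟨hQ₁P, z * x * z⁻¹, fun u => rfl, ?_, conjBlock Q z f, hz, ?_⟩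
      · rw [map_conj_eq_of_mem_normalizer _ hx₁N]
        exact hQ₁P
      · have h1 : Relation.ReflTransGen (NormalSubpairRel p M)
            (conjPair (z * x * z⁻¹) (conjPair z (⟨Q, f⟩ : BrauerPairIdx G))) ⟨P, e⟩ := by
          rw [hfix]
          exact hz
        exact h1
    rw [h] at hφ
    obtain ⟨_, u, hu, hφu⟩ := hφ
    have huc : u⁻¹ * (z * x * z⁻¹) ∈ Subgroup.centralizer
        ((Q.map (MulAut.conj z).toMonoidHom : Subgroup G) : Set G) := by
      rw [Subgroup.mem_centralizer_iff]
      intro q hq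
      have h1 : (z * x * z⁻¹) * q * (z * x * z⁻¹)⁻¹ = u * q * u⁻¹ := hφu ⟨q, hq⟩
      have h2 : (z * x * z⁻¹) * q = u * q * u⁻¹ * (z * x * z⁻¹) := by
        rw [← h1]; group
      calc q * (u⁻¹ * (z * x * z⁻¹)) = u⁻¹ * (u * q * u⁻¹ * (z * x * z⁻¹)) := by group
        _ = u⁻¹ * ((z * x * z⁻¹) * q) := by rw [h2]
        _ = u⁻¹ * (z * x * z⁻¹) * q := by group
    have hreg₁ : IsPRegular p (z * x * z⁻¹) := by
      unfold IsPRegular
      have h1 : orderOf (z * x * z⁻¹) = orderOf x := (MulAut.conj z).orderOf_eq x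
      rw [h1]
      exact hxreg
    have hx₁C := mem_centralizer_of_isPRegular_of_mul_mem hPe.1 hx₁N hu huc hreg₁
    have h2 := (mem_centralizer_map_conj_iff Q z _).mp hx₁C
    have h3 : z⁻¹ * (z * x * z⁻¹) * z = x := by group
    rwa [h3] at h2

end Cfsg.Agent.S4686
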