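import Cfsg.Statements.S4688
import Cfsg.Agent.Lib.Helper16.NilLocal

set_option autoImplicit false
open Cfsg Cfsg.Agent.Lib.Helper16 Cfsg.Agent.Lib.Helper77

namespace Cfsg.Agent.S4688

/-- Fix a prime p and a maximal ideal M of the algebraic integers containing p, and a nilpotent p-block B of the finite group G with maximal Brauer pair (P, e). Then for every Brauer pair (Q, f) of B, f is a nilpotent block of C_G(Q); and if moreover (Q, f) ≤ (P, e), then C_P(Q) is a defect group of f as a block of C_G(Q). -/
theorem result {G : Type*} [Group G] [Fintype G] (p : ℕ) [Fact p.Prime] (M : Ideal Cfsg.AlgInt) (hM : Cfsg.IsPModular p M) (B : Set (Cfsg.IrrCharacter G)) (P : Subgroup G) (e : Set (Cfsg.IrrCharacter (Subgroup.centralizer (P : Set G)))) (hmax : Cfsg.IsMaximalBrauerPair p M B P e) (hnil : Cfsg.IsNilpotentBlock p M B) (Q : Subgroup G) (f : Set (Cfsg.IrrCharacter (Subgroup.centralizer (Q : Set G)))) (hQf : Cfsg.IsBrauerPairOf p M B Q f) : Cfsg.IsNilpotentBlock p M f ∧ (Cfsg.SubpairLE p M Q f P e → Cfsg.IsDefectGroup p M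 f ((P ⊓ Subgroup.centralizer (Q : Set G)).subgroupOf (Subgroup.centralizer (Q : Set G)))) := by
  classical
  have hMp := isPModular_isPrime hM
  have hPe : IsBrauerPair p M P e := hmax.1.1
  have hQ : IsBrauerPair p M Q f := hQf.1
  have : Fintype ↥(Subgroup.centralizer (Q : Set G)) := Fintype.ofFinite _
  constructor
  · refine ⟨hQ.2, ?_⟩
    intro R' h' hR' x hxN hxS hxreg
    have hN := isNormalSubpair_supCent_of_isBrauerPairOf Q hQ.1 R' hR'
    have : Fintype ↥(Subgroup.centralizer (supCent Q R' : Set G)) := Fintype.ofFinite _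
    have hBS := isBrauerPairOf_of_isNormalSubpair hM hN hQf
    have hreg : IsPRegular p (x : G) := by
      unfold IsPRegular
      rw [Subgroup.orderOf_coe]
      exact hxreg
    have h1 := hnil.2 (supCent Q R') _ hBS (x : G) (coe_mem_normalizer_supCent Q R' hxN)
      (stabilizesBlock_supCent Q R' h' x hxS) hreg
    obtain ⟨hc, hcR⟩ := (mem_centralizer_supCent_iff Q R' _).mp h1
    exact hcR
  · intro hle
    obtain ⟨x, hxle, hxdef⟩ := exists_conj_isDefectGroup_centralizerIn hM hmax hle
    obtain ⟨u, hu, huc⟩ := exists_mem_of_nilpotent hM hmax hnil _ Q f x le_rfl hle hxle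
    obtain ⟨D, hD, hRD⟩ := exists_isDefectGroup_ge_centralizerIn hM hPe hle
    have : Fintype ↥(Subgroup.centralizer ((Q.map (MulAut.conj x).toMonoidHom : Subgroup G) :
      Set G)) := Fintype.ofFinite _
    have hfx : IsPBlock M (conjBlock Q x f) := by
      rw [conjBlock_eq_pullBlock]
      exact isPBlock_pullBlock _ hQ.2
    have hD' : IsDefectGroup p M (conjBlock Q x f) (D.comap (conjCent Q x).toMonoidHom) := by
      rw [conjBlock_eq_pullBlock]
      exact isDefectGroup_pullBlock _ hD
    have h1 : Nat.card D = Nat.card ((P ⊓ Subgroup.centralizer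
        ((Q.map (MulAut.conj x).toMonoidHom : Subgroup G) : Set G)).subgroupOf
        (Subgroup.centralizer ((Q.map (MulAut.conj x).toMonoidHom : Subgroup G) : Set G))) := by
      rw [← card_comap_mulEquiv (conjCent Q x) D,
        Cfsg.Agent.Lib.Helper78.card_defectGroup hM hfx hD',
        Cfsg.Agent.Lib.Helper78.card_defectGroup hM hfx hxdef]
    have h2 : Nat.card D ≤ Nat.card ((P ⊓ Subgroup.centralizer (Q : Set G)).subgroupOf
        (Subgroup.centralizer (Q : Set G))) := by
      rw [h1, card_inf_subgroupOf, card_inf_subgroupOf, map_conj_eq_of_mul_mem_centralizer huc,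
        inf_centralizer_map_conj hu, card_map_conj]
    have heq := Subgroup.eq_of_le_of_card_ge hRD h2
    rw [heq]
    exact hD

end Cfsg.Agent.S4688
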