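import Cfsg.Statements.S4693
import Cfsg.Agent.Lib.Helper16.CentricNil
import Cfsg.Agent.S4680

set_option autoImplicit false
open Cfsg Cfsg.Agent.Lib.Helper16

namespace Cfsg.Agent.S4693

/-- Fix a prime p and a maximal ideal M of the algebraic integers containing p, a p-block B of the finite group G with maximal Brauer pair (P, e) and fusion system F on P, and a Brauer pair (Q, f) ≤ (P, e) with Q centric in F. Suppose every element of G normalizes Q and stabilizes f. Then the idempotent of B agrees with that of f modulo M at every element of G, and f is the idempotent of a nilpotent block of Q·C_G(Q): some p-block of Q·C_G(Q) has the idempotent coefficients of f and is nilpotent. -/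
theorem result {G : Type*} [Group G] [Fintype G] (p : ℕ) [Fact p.Prime] (M : Ideal Cfsg.AlgInt) (hM : Cfsg.IsPModular p M) (B : Set (Cfsg.IrrCharacter G)) (P : Subgroup G) (e : Set (Cfsg.IrrCharacter (Subgroup.centralizer (P : Set G)))) (hmax : Cfsg.IsMaximalBrauerPair p M B P e) (F : Cfsg.FusionSystem P) (hF : Cfsg.IsBlockFusionSystemOn p M B P e F) (Q : Subgroup G) (f : Set (Cfsg.IrrCharacter (Subgroup.centralizer (Q : Set G)))) (hQP : Q ≤ P) (hf : Cfsg.IsPBlock M f) (hle : Cfsg.SubpairLE p M Q f P e) (hcen : F.IsCentric Q) (hG : ∀ x : G, x ∈ Subgroup.normalizer (Q : Set G) ∧ Cfsg.StabilizesBlock (Subgroup.centralizer (Q : Set G)) f x) : (∀ g : G, Cfsg.MemLocalIdeal M (Cfsg.blockCoeff B g - Cfsg.subgroupBlockCoeff (Subgroup.centralizer (Q : Set G)) f g)) ∧ ∃ F' : Set (Cfsg.IrrCharacter ↥(Q ⊔ Subgroup.centralizer (Q : Set G))), Cfsg.IsPBlock M F' ∧ (∀ t : ↥(Q ⊔ Subgroup.centralizer (Q : Set G)), Cfsg.blockCoeff F' t = Cfsg.subgroupBlockCoeff (Subgroup.centralizer (Q : Set G)) f (t : G)) ∧ Cfsg.IsNilpotentBlock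 p M F' := by
  classical
  have hMp := isPModular_isPrime hM
  have hPe : IsBrauerPair p M P e := hmax.1.1
  have hQf : IsBrauerPair p M Q f := Cfsg.Agent.S4655.le_pair_left hle hPe
  have hBQ : IsBrauerPairOf p M B Q f :=
    (Cfsg.Agent.S4658.chain_iff p M hM B ⟨Q, f⟩ ⟨P, e⟩ hle).mp hmax.1
  constructor
  · have hQn : Q.Normal :=
      Subgroup.normalizer_eq_top_iff.mp (eq_top_iff.mpr fun x _ => (hG x).1)
    have hT : ∀ x : G, x ∈ (⊤ : Subgroup G) ↔
        StabilizesBlock (Subgroup.centralizer (Q : Set G)) f x :=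
      fun x => ⟨fun _ => (hG x).2, fun _ => Subgroup.mem_top x⟩
    have hform := (Cfsg.Agent.S4654.result p M hM Q hQf.1 B f hBQ ⊤ hT).2
    intro g
    have hterm : ∀ x : G, subgroupBlockCoeff (Subgroup.centralizer (Q : Set G)) f (x⁻¹ * g * x) =
        subgroupBlockCoeff (Subgroup.centralizer (Q : Set G)) f g := by
      intro x
      have := subgroupBlockCoeff_conj_of_stabilizes (Subgroup.centralizer (Q : Set G)) f x⁻¹
        (hG x⁻¹).2 g
      rw [inv_inv] at this
      exact this
    have heq : blockCoeff B g = subgroupBlockCoeff (Subgroup.centralizer (Q : Set G)) f g := by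
      rw [hform g, Finset.sum_congr rfl (fun x _ => hterm x), Finset.sum_const, Finset.card_univ,
        nsmul_eq_mul, ← mul_assoc]
      have hcard : (Nat.card (⊤ : Subgroup G) : ℂ) = (Fintype.card G : ℂ) := by
        rw [Subgroup.card_top, Nat.card_eq_fintype_card]
      rw [hcard, inv_mul_cancel₀, one_mul]
      exact_mod_cast Fintype.card_ne_zero
    rw [heq, sub_self]
    exact memLocalIdeal_zero hMp.ne_top
  · have hLN : Q ⊔ Subgroup.centralizer (Q : Set G) ≤ Subgroup.normalizer (Q : Set G) :=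
      sup_le Subgroup.le_normalizer (Subgroup.centralizer_le_normalizer _)
    obtain ⟨F', hF', hF'f⟩ := exists_block_of_stable hM Q (Q ⊔ Subgroup.centralizer (Q : Set G))
      hQf.1 le_sup_left hLN le_sup_right f hf (fun x _ => (hG x).2)
    have hZ := (Cfsg.Agent.S4680.result p M hM B P e hmax F hF Q f hQP hf hle).mp hcen
    exact ⟨F', hF', hF'f, isNilpotentBlock_of_center_defect hM hQf.1 hf hZ hF' hF'f⟩

end Cfsg.Agent.S4693
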