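-- Statement S4705 (Brauer 1966: faithful irreducible character of degree p - 2, |P| = p).
-- Final assembly (helper17) of the modules of the sheet `Lib/Helper17/PM2/SPINE4705.md`.
import Cfsg.Statements.S4705
import Cfsg.Agent.Lib.Helper17.PM2.Defs
import Cfsg.Agent.Lib.Helper17.S4705.KExp
import Cfsg.Agent.Lib.Helper17.S4705.RRel
import Cfsg.Agent.Lib.Helper17.S4705.Order
import Cfsg.Agent.Lib.Helper17.S4705.FinalH
import Cfsg.Agent.Lib.Helper17.S4705.RedIrr
import Cfsg.Agent.Lib.Helper17.S4705.PData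
import Cfsg.Agent.Lib.Helper73.S4705.ZTriv
import Cfsg.Agent.Lib.Helper47.S4705.ValInvol
import Cfsg.Agent.Lib.Helper47.S4705.ValOdd
import Cfsg.Agent.Lib.Helper47.S4705.PsiSum
import Cfsg.Agent.Lib.Helper50.S4705.Chain1
import Cfsg.Agent.Lib.Helper50.S4705.Prod
import Cfsg.Agent.Lib.Helper50.S4705.RedPerf
import Cfsg.Agent.Lib.Helper93.S4705.ZOdd
import Cfsg.Agent.Lib.Helper93.S4705.RedSyl
import Cfsg.Agent.Lib.Helper87.S4705.PSingVan
import Cfsg.Agent.Lib.Helper58.S4705.Lambda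
import Cfsg.Agent.Lib.Helper58.S4705.SymPerp
import Cfsg.Agent.Lib.Helper49.S4705.ValMix
import Cfsg.Agent.Lib.Helper45.S4705.FMod
import Cfsg.Agent.Lib.Helper23.S4705.PsingCount

set_option autoImplicit false
open Cfsg

namespace Cfsg.Agent.S4705

open Cfsg.Agent.Lib.Helper17.PM2

universe u

/-- `ζ 1 = p - 2` in `ℂ` from `charDegree ζ = p - 2`. -/
theorem apply_one_of_degree {G : Type u} [Group G] {ζ : G → ℂ} (hζ : IsIrrCharacter G ζ) {p : ℕ}
    (hp : 5 < p) (hdeg : charDegree ζ = p - 2) : ζ 1 = (p : ℂ) - 2 := by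
  rw [Cfsg.Agent.Lib.Helper78.IsCharacter.apply_one_eq_charDegree
    (Cfsg.Agent.Lib.Helper78.IsIrrCharacter.isCharacter hζ), hdeg, Nat.cast_sub (by omega)]
  norm_num

/-- The perfect case: `G` perfect, then `Z(G) = 1` and `G ≅ SL(2, 2^a)`, `p = 2^a + 1`. -/
theorem perfect_case {G : Type u} [Group G] [Finite G] (p : ℕ) [Fact p.Prime] (hp : 5 < p)
    (P : Sylow p G) (hP : Nat.card P = p) (hnn : ¬ (P : Subgroup G).Normal)
    (hperf : commutator G = ⊤) (ζ : G → ℂ) (hζ : IsIrrCharacter G ζ)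
    (hfaith : ∀ g : G, ζ g = ζ 1 → g = 1) (hdeg : charDegree ζ = p - 2) :
    Subgroup.center G = ⊥ ∧ ∃ (a : ℕ) (F : Type) (_ : Field F) (_ : Fintype F), p = 2 ^ a + 1 ∧
      Fintype.card F = 2 ^ a ∧ Nonempty (G ≃* Matrix.SpecialLinearGroup (Fin 2) F) := by
  classical
  let _ : Fintype G := Fintype.ofFinite G
  obtain ⟨D⟩ := Cfsg.Agent.Lib.Helper17.S4705.exists_blockData hp P hP hnn ζ hζ hfaith hdeg
  obtain ⟨k, hk, hkodd, hk2⟩ := Cfsg.Agent.Lib.Helper17.S4705.exists_exponent G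
  let S : Setting G p :=
    { hp := Fact.out, h5 := hp, P := P, hP := hP, hnn := hnn, hperf := hperf, ζ := ζ, hζ := hζ,
      hfaith := hfaith, hdeg := apply_one_of_degree hζ hp hdeg, D := D, k := k, hk := hk,
      hkodd := hkodd, hk2 := hk2 }
  let _ : Fintype ↥(S.P : Subgroup G) := Fintype.ofFinite _
  have hodd := Cfsg.Agent.Lib.Helper93.S4705.center_odd S
  have hzreg := Cfsg.Agent.Lib.Helper50.S4705.center_preg S
  obtain ⟨t, ht⟩ := Cfsg.Agent.Lib.Helper50.S4705.exists_invol S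
  have hconj := Cfsg.Agent.Lib.Helper50.S4705.psing_conj S
  have hpsi := Cfsg.Agent.Lib.Helper47.S4705.sum_psi S
  have hlamvan := Cfsg.Agent.Lib.Helper87.S4705.altSq_psing S hodd hzreg hpsi hconj
  have hsymvan := Cfsg.Agent.Lib.Helper87.S4705.symSq_psing S hodd hzreg hpsi hconj
  have halt := Cfsg.Agent.Lib.Helper58.S4705.altSq_eq S hlamvan
  have hperp := Cfsg.Agent.Lib.Helper58.S4705.sq_perp S hsymvan halt t ht
  have hR := Cfsg.Agent.Lib.Helper17.S4705.R_rel S halt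
  have hinv := Cfsg.Agent.Lib.Helper47.S4705.val_invol S hR
  have hno4 := Cfsg.Agent.Lib.Helper47.S4705.no_order_four S hR hinv
  have hvalodd := Cfsg.Agent.Lib.Helper47.S4705.val_odd S hR
  have hvalmix := Cfsg.Agent.Lib.Helper49.S4705.val_mix S hR hinv hvalodd
  have hFr := Cfsg.Agent.Lib.Helper45.S4705.F_preg S hodd hinv hno4 hvalodd hvalmix
  have hFc := Cfsg.Agent.Lib.Helper45.S4705.F_center S hodd
  have hFP := Cfsg.Agent.Lib.Helper45.S4705.F_sum_P S
  obtain ⟨hFcl, hFz⟩ := Cfsg.Agent.Lib.Helper45.S4705.F_invariance S hodd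
  have hcount := Cfsg.Agent.Lib.Helper23.S4705.psing_sum S.P S.hP S.hnn S.D.hcent S.D.hidx S.F
    hFcl hFz
  have hFs : (p : ℂ) * ∑ g : G, (if p ∣ orderOf g then S.F g else 0) = 2 * (Nat.card G : ℂ) := by
    rw [hFP] at hcount
    have h2 : (2 : ℂ) ≠ 0 := two_ne_zero
    apply mul_left_cancel₀ h2
    rw [← mul_assoc, hcount]
    ring
  have hcard := Cfsg.Agent.Lib.Helper17.S4705.card_eq S hzreg hperp hFc hFr hFs
  have hZ := Cfsg.Agent.Lib.Helper73.S4705.center_trivial S hzreg hcard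
  exact ⟨hZ, Cfsg.Agent.Lib.Helper17.S4705.final_H S hcard hZ⟩

/-- Let G be a finite group with centre Z and p > 5 a prime such that a Sylow p-subgroup of G has order p and is not normal. If G has a faithful irreducible character of degree p − 2, then p = 2^a + 1 for some a and G is isomorphic to the direct product of SL(2, 2^a) with Z. -/
theorem result {G : Type*} [Group G] [Finite G] (p : ℕ) [Fact p.Prime] (hp : 5 < p) (P : Sylow p G) (hP : Nat.card P = p) (hnn : ¬ (P : Subgroup G).Normal) (ζ : G → ℂ) (hζ : Cfsg.IsIrrCharacter G ζ) (hfaith : ∀ g : G, ζ g = ζ 1 → g = 1) (hdeg : Cfsg.charDegree ζ = p - 2) : ∃ (a : ℕ) (F : Type) (_ : Field F) (_ : Fintype F), p = 2 ^ a + 1 ∧ Fintype.card F = 2 ^ a ∧ Nonempty (G ≃* Matrix.SpecialLinearGroup (Fin 2) F × Subgroup.center G) := by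
  set L : Subgroup G := Subgroup.normalClosure ((P : Subgroup G) : Set G) with hL
  obtain ⟨Q⟩ : Nonempty (Sylow p L) := Sylow.nonempty
  obtain ⟨hQ, hQnn, hQgen⟩ :=
    Cfsg.Agent.Lib.Helper93.S4705.sylow_normalClosure P hP hnn L hL Q
  have hζL := Cfsg.Agent.Lib.Helper17.S4705.restrict_irr hp P hP hnn ζ hζ hfaith hdeg L hL
  have hfaithL : ∀ h : L, (fun h : L => ζ h) h = (fun h : L => ζ h) 1 → h = 1 := by
    intro h hh
    apply Subtype.ext
    exact hfaith h hh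
  have hdegL : charDegree (fun h : L => ζ h) = p - 2 := hdeg
  obtain ⟨DL⟩ :=
    Cfsg.Agent.Lib.Helper17.S4705.exists_blockData hp Q hQ hQnn _ hζL hfaithL hdegL
  have hperf := Cfsg.Agent.Lib.Helper50.S4705.perfect_of_gen Q hQ hQgen DL.hidx
  obtain ⟨hZL, a, F, i1, i2, hpa, hF, ⟨e⟩⟩ :=
    perfect_case p hp Q hQ hQnn hperf _ hζL hfaithL hdegL
  obtain ⟨DG⟩ := Cfsg.Agent.Lib.Helper17.S4705.exists_blockData hp P hP hnn ζ hζ hfaith hdeg
  obtain ⟨e2⟩ :=
    Cfsg.Agent.Lib.Helper50.S4705.prod_decomp P hP L hL DG.hcent DG.hidx Q DL.hidx hZL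
  exact ⟨a, F, i1, i2, hpa, hF, ⟨e2.trans (MulEquiv.prodCongr e (MulEquiv.refl _))⟩⟩

end Cfsg.Agent.S4705
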