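import Cfsg.Statements.S4707
import Mathlib
import Cfsg.Agent.Lib.Helper12.W2pMain
import Cfsg.Agent.S0720
import Cfsg.Agent.S0494
import Cfsg.Agent.Lib.Helper80.CharBasic
import Cfsg.Agent.Lib.Helper78.CharMore
import Cfsg.Agent.Lib.Helper77.Deflation
import Cfsg.Agent.Lib.Helper13.S4707Simple
import Cfsg.Agent.Lib.Helper42.S4707Fin
import Cfsg.Agent.Lib.Helper42.S4707Moment
import Cfsg.Agent.Lib.Helper42.S4707Count
import Cfsg.Agent.Lib.Helper12.W2pInt
import Cfsg.Agent.Lib.Helper12.W2pPVal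
import Cfsg.Agent.Lib.Helper92.S4707Char
import Cfsg.Agent.Lib.Helper92.S4707Kasm

set_option autoImplicit false
open Cfsg

namespace Cfsg.Agent.S4707

open Cfsg.Agent.Lib.Helper12.W2p in
theorem permChar_pow_coprime {α : Type*} [Fintype α] [DecidableEq α] (G : Subgroup (Equiv.Perm α))
    [Fintype ↥G] (k : ℕ) (hk : k.Coprime (Nat.card ↥G)) (g : ↥G) :
    permChar G (g ^ k) = permChar G g := by
  have hk' : k.Coprime (orderOf g) := Nat.Coprime.coprime_dvd_right (orderOf_dvd_natCard g) hk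
  obtain ⟨m, hm⟩ := exists_pow_eq_self_of_coprime hk'
  have hset : MulAction.fixedBy α (g ^ k) = MulAction.fixedBy α g := by
    apply Set.Subset.antisymm
    · intro x hx
      rw [MulAction.mem_fixedBy] at hx ⊢
      rw [← hm]
      exact MulAction.pow_smul_eq_iff_minimalPeriod_dvd.mpr
        (dvd_trans (by rw [MulAction.minimalPeriod_eq_one_iff_fixedBy.mpr hx]) (one_dvd m))
    · intro x hx
      rw [MulAction.mem_fixedBy] at hx ⊢
      exact MulAction.pow_smul_eq_iff_minimalPeriod_dvd.mpr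
        (dvd_trans (by rw [MulAction.minimalPeriod_eq_one_iff_fixedBy.mpr hx]) (one_dvd k))
  unfold permChar
  rw [hset]


open Cfsg.Agent.Lib.Helper12.W2p in
/-- Let p > 3 be a prime and G a primitive permutation group of degree 2p that is not doubly transitive. If a Sylow p-subgroup of G has normalizer of order 2p, then p = 5 and G is isomorphic to the alternating group of degree 5. -/
theorem result {α : Type*} [Fintype α] [DecidableEq α] {p : ℕ} [Fact p.Prime] (hp : 3 < p) (hα : Fintype.card α = 2 * p) (G : Subgroup (Equiv.Perm α)) (hprim : MulAction.IsPreprimitive G α) (hnot2 : ¬ MulAction.IsMultiplyPretransitive G α 2) (P : Sylow p G) (hN : Nat.card (Subgroup.normalizer ((P : Subgroup G) : Set G)) = 2 * p) : p = 5 ∧ Nonempty (G ≃* alternatingGroup (Fin 5)) := by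
  classical
  haveI : Fintype ↥G := Fintype.ofFinite _
  have hpp : p.Prime := Fact.out
  obtain ⟨hsimple, hPcard⟩ := Cfsg.Agent.Lib.Helper13.S4707.simple_of_sylow (by omega) hα G hprim P hN
  haveI := hsimple
  have hC : ∀ x : ↥G, orderOf x = p → ∀ y : ↥G, Commute x y → y ∈ Subgroup.zpowers x :=
    fun x hx y hxy => Cfsg.Agent.Lib.Helper13.S4707.centralizer_order_p (by omega) P hPcard hN x hx y hxy
  obtain ⟨hsing, hcount⟩ := Cfsg.Agent.Lib.Helper42.S4707.count_order_p P hPcard hN hC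
  obtain ⟨χ₁, χ₂, h₁, h₂, hsum, hd₁, hd₂⟩ := Cfsg.Agent.Lib.Helper92.S4707.permChar_decomp hp hα G hprim hnot2 hsimple
  have hone : IsIrrCharacter ↥G (fun _ : ↥G => (1 : ℂ)) :=
    Cfsg.Agent.Lib.Helper78.isIrrCharacter_one
  have hp4 : (4 : ℝ) ≤ (p : ℝ) := by exact_mod_cast hp
  -- distinctness
  have hdne : χ₁ 1 ≠ χ₂ 1 := by
    rw [hd₁, hd₂]
    intro h
    have : (-1 : ℂ) = 0 := by linear_combination h
    norm_num at this
  have hd1ne : χ₁ 1 ≠ 1 := by
    rw [hd₁]
    intro h
    have h' : (p : ℂ) = 2 := by linear_combination h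
    have : p = 2 := by exact_mod_cast h'
    omega
  have hd2ne : χ₂ 1 ≠ 1 := by
    rw [hd₂]
    intro h
    have : p = 1 := by exact_mod_cast h
    omega
  have hne : χ₁ ≠ χ₂ := fun h => hdne (by rw [h])
  have h1ne : χ₁ ≠ fun _ => 1 := fun h => hd1ne (by rw [h])
  -- integrality
  obtain ⟨hint₁, hint₂⟩ := Cfsg.Agent.Lib.Helper12.S4707.int_valued_of_decomp (permChar G) χ₁ χ₂ h₁ h₂ hsum
    (fun k hk g => permChar_pow_coprime G k hk g) hdne hd1ne hd2ne
  have hctx : Ctx p G := ⟨hpp, by omega, hα, hprim,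
    Cfsg.Agent.Lib.Helper67.W2pJor.fpf_of_not_two_trans hpp (by omega) hα G hprim hnot2⟩
  haveI := hctx.isPretransitive
  have hval : ∀ x : ↥G, orderOf x = p → χ₁ x = -1 ∧ χ₂ x = 0 := by
    intro x hx
    have h0 : permChar G x = 0 := hctx.permChar_sing x (by rw [hx])
    have h3 := congrFun hsum x
    rw [h0] at h3
    exact Cfsg.Agent.Lib.Helper12.S4707.values_on_order_p hpp (by omega) χ₁ χ₂ h₁ h₂ hint₁ hint₂ hd₁ hd₂ x hx h3.symm
  -- Wielandt
  have hne_α : Nonempty α := by
    rw [← Fintype.card_pos_iff, hα]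
    omega
  obtain ⟨a₀⟩ := hne_α
  rcases Cfsg.Agent.S0720.result hpp hα G hprim a₀ with h2t | ⟨hrank, a, ha, hpa, hsub⟩
  · exact absurd h2t hnot2
  -- Krein
  have hreal : ∀ g, ∃ r : ℝ, χ₁ g = r := by
    intro g
    obtain ⟨z, hz⟩ := hint₁ g
    exact ⟨z, by rw [hz]; push_cast; rfl⟩
  obtain ⟨r, hr, hcube⟩ := Cfsg.Agent.Lib.Helper92.S4707.sum_cube_pos (G := ↥G) (Ω := α) a ha (by rw [hα, hpa]) a₀ hrank hsub
    χ₁ χ₂ h₁ h₂ hsum hne h1ne hreal (by rw [hd₁, hpa]; push_cast; ring)
  -- the integer values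
  choose c hc using hint₁
  have hcardC : (Nat.card ↥G : ℂ) ≠ 0 := by
    have : 0 < Nat.card ↥G := Nat.card_pos
    exact_mod_cast this.ne'
  have hcardfin : Nat.card ↥G = Fintype.card ↥G := Nat.card_eq_fintype_card
  have hconj : ∀ g, (starRingEnd ℂ) (χ₁ g) = χ₁ g := by
    intro g
    rw [hc g]
    simp
  -- first moment
  have hm1 : ∑ g, c g = 0 := by
    have h := Cfsg.Agent.Lib.Helper78.classInner_irr_ne h₁ hone h1ne
    unfold classInner at h
    rcases mul_eq_zero.mp h with h | h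
    · exact absurd (inv_eq_zero.mp h) hcardC
    · have h' : ((∑ g, c g : ℤ) : ℂ) = 0 := by
        rw [← h]
        push_cast
        apply Finset.sum_congr rfl
        intro g _
        rw [hc g]
        simp
      exact_mod_cast h'
  -- second moment
  have hm2 : ∑ g, (c g) ^ 2 = (Fintype.card ↥G : ℤ) := by
    have h := Cfsg.Agent.Lib.Helper78.classInner_irr_self h₁
    unfold classInner at h
    have h' : ∑ g, χ₁ g * (starRingEnd ℂ) (χ₁ g) = (Nat.card ↥G : ℂ) := by
      field_simp at h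
      linear_combination h
    have h'' : ((∑ g, (c g) ^ 2 : ℤ) : ℂ) = ((Fintype.card ↥G : ℤ) : ℂ) := by
      push_cast
      rw [← hcardfin, ← h']
      apply Finset.sum_congr rfl
      intro g _
      rw [hconj g, hc g]
      ring
    exact_mod_cast h''
  -- third moment
  have hchar3 : IsCharacter ↥G (χ₁ * χ₁ * χ₁) :=
    Cfsg.Agent.Lib.Helper80.isCharacter_mul
      (Cfsg.Agent.Lib.Helper80.isCharacter_mul
        (Cfsg.Agent.Lib.Helper78.IsIrrCharacter.isCharacter h₁)
        (Cfsg.Agent.Lib.Helper78.IsIrrCharacter.isCharacter h₁))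
      (Cfsg.Agent.Lib.Helper78.IsIrrCharacter.isCharacter h₁)
  obtain ⟨b, hb⟩ := Cfsg.Agent.Lib.Helper78.IsCharacter.exists_nat_classInner hchar3
    ⟨fun _ => 1, hone⟩
  have hb' : ∑ g, χ₁ g ^ 3 = (b : ℂ) * (Nat.card ↥G : ℂ) := by
    unfold classInner at hb
    have : ∑ g, (χ₁ * χ₁ * χ₁) g * (starRingEnd ℂ) ((fun _ : ↥G => (1 : ℂ)) g) =
        (b : ℂ) * (Nat.card ↥G : ℂ) := by
      field_simp at hb
      linear_combination hb
    rw [← this]
    apply Finset.sum_congr rfl
    intro g _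
    simp only [Pi.mul_apply, map_one, mul_one]
    ring
  have hb1 : (1 : ℤ) ≤ (b : ℤ) := by
    by_contra hlt
    push Not at hlt
    have hb0 : b = 0 := by omega
    rw [hcube, hb0] at hb'
    have : (r : ℂ) = 0 := by rw [hb']; simp
    have : r = 0 := by exact_mod_cast this
    linarith
  have hm3 : ∑ g, (c g) ^ 3 = (b : ℤ) * (Fintype.card ↥G : ℤ) := by
    have h'' : ((∑ g, (c g) ^ 3 : ℤ) : ℂ) = (((b : ℤ) * (Fintype.card ↥G : ℤ) : ℤ) : ℂ) := by
      push_cast
      rw [← hcardfin, ← hb']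
      apply Finset.sum_congr rfl
      intro g _
      rw [hc g]
    exact_mod_cast h''
  -- the elements of order p
  have hS : ∀ g ∈ (Finset.univ.filter fun g : ↥G => orderOf g = p), c g = -1 := by
    intro g hg
    rw [Finset.mem_filter] at hg
    have h := (hval g hg.2).1
    rw [hc g] at h
    exact_mod_cast h
  have hle : ∀ g, c g ≤ (p : ℤ) - 1 := by
    intro g
    have h := Cfsg.Agent.Lib.Helper80.norm_char_le
      (Cfsg.Agent.Lib.Helper78.IsIrrCharacter.isCharacter h₁) g
    have hdeg : Cfsg.charDegree χ₁ = p - 1 := by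
      apply Cfsg.Agent.Lib.Helper80.charDegree_natCast
      rw [hd₁, Nat.cast_sub (by omega)]
      simp
    rw [hdeg, hc g] at h
    have h2 : ((c g : ℤ) : ℝ) ≤ ‖((c g : ℤ) : ℂ)‖ := by
      have : ((c g : ℤ) : ℂ) = (((c g : ℤ) : ℝ) : ℂ) := by push_cast; rfl
      rw [this, Complex.norm_real]
      exact le_abs_self _
    have h3 : ((c g : ℤ) : ℝ) ≤ ((p - 1 : ℕ) : ℝ) := le_trans h2 h
    have h4 : (c g : ℤ) ≤ ((p - 1 : ℕ) : ℤ) := by exact_mod_cast h3
    rw [Nat.cast_sub (by omega)] at h4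
    simpa using h4
  obtain ⟨hvals, hord⟩ := Cfsg.Agent.Lib.Helper42.S4707.moment_argument p hp c _ (b : ℤ) hb1 hm1 hm2 hm3 hS hle hcount
  -- the kernel of χ₁ is trivial
  obtain ⟨K, hKn, hK, -, -⟩ := Cfsg.Agent.Lib.Helper77.exists_kernel
    (Cfsg.Agent.Lib.Helper78.IsIrrCharacter.isCharacter h₁)
  have hdiv : p ∣ Nat.card ↥G := by
    rw [← hPcard]
    exact Subgroup.card_subgroup_dvd_card _
  obtain ⟨x, hx⟩ := exists_prime_orderOf_dvd_card' p hdiv
  have hKbot : K = ⊥ := by
    rcases hKn.eq_bot_or_eq_top with h | h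
    · exact h
    · exfalso
      have hxK : x ∈ K := by rw [h]; trivial
      have h3 := (hK x).mp hxK
      rw [(hval x hx).1, hd₁] at h3
      have h4 : (p : ℂ) = 0 := by linear_combination -h3
      have : p = 0 := by exact_mod_cast h4
      omega
  have hfilter : (Finset.univ.filter fun g : ↥G => c g = (p : ℤ) - 1) = {1} := by
    ext g
    simp only [Finset.mem_filter, Finset.mem_univ, true_and, Finset.mem_singleton]
    constructor
    · intro hg
      have h3 : χ₁ g = χ₁ 1 := by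
        rw [hc g, hg, hd₁]
        push_cast
        ring
      have h4 := (hK g).mpr h3
      rw [hKbot] at h4
      exact Subgroup.mem_bot.mp h4
    · rintro rfl
      have h3 := hc 1
      rw [hd₁] at h3
      have h4 : (((p : ℤ) - 1 : ℤ) : ℂ) = ((c 1 : ℤ) : ℂ) := by
        push_cast
        exact h3
      exact_mod_cast h4.symm
  rw [hfilter, Finset.card_singleton, mul_one] at hord
  -- the order of the stabilizer
  have hidx := MulAction.index_stabilizer_of_transitive ↥G a₀
  have hmul := Subgroup.card_mul_index (MulAction.stabilizer ↥G a₀)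
  rw [hidx, Nat.card_eq_fintype_card (α := α), hα, Nat.card_eq_fintype_card (α := ↥G), ← hord]
    at hmul
  obtain ⟨s, hs⟩ : ∃ s : ℕ, s = Nat.card (MulAction.stabilizer ↥G a₀) := ⟨_, rfl⟩
  rw [← hs] at hmul
  have hs2 : 2 * s = (p - 1) * (p - 2) := by
    have hp0 : 0 < p := by omega
    have : p * (2 * s) = p * ((p - 1) * (p - 2)) := by
      calc p * (2 * s) = s * (2 * p) := by ring
        _ = p * (p - 1) * (p - 2) := hmul
        _ = p * ((p - 1) * (p - 2)) := by ring
    exact Nat.eq_of_mul_eq_mul_left hp0 this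
  -- a nontrivial suborbit
  obtain ⟨b₀, hb₀⟩ : ∃ b₀ : α, b₀ ≠ a₀ := by
    by_contra hcon
    push Not at hcon
    have hle1 : Fintype.card α ≤ 1 :=
      Fintype.card_le_one_iff.mpr (fun x y => by rw [hcon x, hcon y])
    omega
  have hdvd : Nat.card (MulAction.orbit (MulAction.stabilizer ↥G a₀) b₀) ∣ s := by
    have h3 := MulAction.index_stabilizer (MulAction.stabilizer ↥G a₀) b₀
    have h4 := Subgroup.index_dvd_card
      (MulAction.stabilizer (MulAction.stabilizer ↥G a₀) b₀)
    rw [h3, ← hs] at h4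
    rw [Nat.card_coe_set_eq]
    exact h4
  have ha1 : a = 1 := Cfsg.Agent.Lib.Helper42.S4707.a_eq_one a p s _ ha hpa hs2 (hsub b₀ hb₀) hdvd
  have hp5 : p = 5 := by
    rw [hpa, ha1]
    norm_num
  refine ⟨hp5, ?_⟩
  have h60 : Nat.card ↥G = 60 := by
    rw [Nat.card_eq_fintype_card, ← hord, hp5]
  exact Cfsg.Agent.S0494.result h60


end Cfsg.Agent.S4707
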