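import Cfsg.Statements.S4710
import Cfsg.Agent.Lib.Helper79.BrauerFeit

set_option autoImplicit false
open Cfsg
open Cfsg.Agent.Lib.Helper79 Cfsg.Agent.Lib.Helper16 Cfsg.Agent.Lib.Helper78

namespace Cfsg.Agent.S4710

/-- Let p be a prime, M a maximal ideal of the algebraic integers containing p, and B a p-block of defect d of the finite group G containing k irreducible characters. If B contains a character of positive height then 2k ≤ p^(2d − 2); and every character in B has height 0 when d ≤ 1 and height at most d − 2 when d ≥ 2. -/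
theorem result {G : Type*} [Group G] [Finite G] (p : ℕ) [Fact p.Prime] (M : Ideal Cfsg.AlgInt) (hM : Cfsg.IsPModular p M) (B : Set (Cfsg.IrrCharacter G)) (hB : Cfsg.IsPBlock M B) (d : ℕ) (hd : Cfsg.blockDefect p B = d) : ((∃ χ ∈ B, 0 < Cfsg.blockHeight p B (χ : G → ℂ)) → 2 * Nat.card B ≤ p ^ (2 * d - 2)) ∧ ∀ χ ∈ B, (d ≤ 1 → Cfsg.blockHeight p B (χ : G → ℂ) = 0) ∧ (2 ≤ d → Cfsg.blockHeight p B (χ : G → ℂ) ≤ d - 2) := by
  classical
  have : Fintype G := Fintype.ofFinite G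
  have hp : p.Prime := Fact.out
  have hMp : M.IsPrime := isPModular_isPrime hM
  have hMtop : M ≠ ⊤ := hMp.ne_top
  subst hd
  -- heights
  have hheights : ∀ χ ∈ B, blockHeight p B (χ : G → ℂ) ≠ 0 →
      blockHeight p B (χ : G → ℂ) + 2 ≤ blockDefect p B :=
    fun χ hχ hne => blockHeight_add_two_le hM hB hχ hne
  refine ⟨?_, ?_⟩
  · rintro ⟨ψ₀, hψ₀, hpos⟩
    have hpos' : blockHeight p B (ψ₀ : G → ℂ) ≠ 0 := hpos.ne'
    have hd3 := hheights ψ₀ hψ₀ hpos'
    have hfin : B.Finite := Set.toFinite B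
    have hT₀ : ∀ ψ, ψ ∈ hfin.toFinset ↔ ψ ∈ B := fun ψ => Set.Finite.mem_toFinset hfin
    have hcardB : Nat.card B = hfin.toFinset.card := by
      rw [Nat.card_coe_set_eq, Set.ncard_eq_toFinset_card B hfin]
    rw [hcardB]
    set T₀ := hfin.toFinset with hT₀def
    set Tz := T₀.filter (fun ψ : IrrCharacter G => blockHeight p B (ψ : G → ℂ) = 0) with hTz
    set Tp := T₀.filter (fun ψ : IrrCharacter G => ¬ blockHeight p B (ψ : G → ℂ) = 0) with hTp
    have hcard : T₀.card = Tz.card + Tp.card :=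
      (Finset.card_filter_add_card_filter_not (s := T₀)
        (fun ψ : IrrCharacter G => blockHeight p B (ψ : G → ℂ) = 0)).symm
    -- height-zero characters
    have hK0 := four_mul_card_height_zero_le hM hB hψ₀ hpos' Tz (by
      intro χ hχ
      rw [hTz, Finset.mem_filter] at hχ
      exact ⟨(hT₀ χ).mp hχ.1, hχ.2⟩)
    have hne : B.Nonempty := ⟨ψ₀, hψ₀⟩
    obtain ⟨χ₀, hχ₀, h0⟩ := exists_min_factorization (p := p) hne
    have hht0 : blockHeight p B (χ₀ : G → ℂ) = 0 := by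
      have := factorization_eq_sInf_add_blockHeight (p := p) hχ₀
      omega
    have hTzpos : 1 ≤ Tz.card := by
      apply Finset.card_pos.mpr
      exact ⟨χ₀, by rw [hTz, Finset.mem_filter]; exact ⟨(hT₀ χ₀).mpr hχ₀, hht0⟩⟩
    -- the weighted sum
    have hW := four_mul_weighted_sum_le hM hB T₀ hT₀
    have hsplit : ∑ ψ ∈ T₀, (p : ℤ) ^ (2 * blockHeight p B (ψ : G → ℂ)) =
        ∑ ψ ∈ Tz, (p : ℤ) ^ (2 * blockHeight p B (ψ : G → ℂ)) +
          ∑ ψ ∈ Tp, (p : ℤ) ^ (2 * blockHeight p B (ψ : G → ℂ)) :=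
      (Finset.sum_filter_add_sum_filter_not T₀
        (fun ψ : IrrCharacter G => blockHeight p B (ψ : G → ℂ) = 0) _).symm
    have hppos : (0 : ℤ) < (p : ℤ) := by exact_mod_cast hp.pos
    have hp1 : (1 : ℤ) ≤ (p : ℤ) := by exact_mod_cast hp.one_lt.le
    have hsz : ∑ ψ ∈ Tz, (p : ℤ) ^ (2 * blockHeight p B (ψ : G → ℂ)) = (Tz.card : ℤ) := by
      rw [Finset.card_eq_sum_ones]
      push_cast
      apply Finset.sum_congr rfl
      intro ψ hψ
      rw [hTz, Finset.mem_filter] at hψ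
      rw [hψ.2, mul_zero, pow_zero]
    have hsp : (p : ℤ) ^ 2 * (Tp.card : ℤ) ≤
        ∑ ψ ∈ Tp, (p : ℤ) ^ (2 * blockHeight p B (ψ : G → ℂ)) := by
      rw [Finset.card_eq_sum_ones]
      push_cast
      rw [Finset.mul_sum]
      apply Finset.sum_le_sum
      intro ψ hψ
      rw [hTp, Finset.mem_filter] at hψ
      rw [mul_one]
      apply pow_le_pow_right₀ hp1
      omega
    -- the arithmetic
    set d := blockDefect p B with hd
    set h := blockHeight p B (ψ₀ : G → ℂ) with hh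
    have hQ1 : (p : ℤ) ^ (2 * (d - h)) ≤ (p : ℤ) ^ (2 * d - 2) := by
      apply pow_le_pow_right₀ hp1
      omega
    have hQ2 : (p : ℤ) ^ (2 * d) = (p : ℤ) ^ 2 * (p : ℤ) ^ (2 * d - 2) := by
      rw [← pow_add]
      congr 1
      omega
    set Q : ℤ := (p : ℤ) ^ (2 * d - 2) with hQ
    set k0 : ℤ := (Tz.card : ℤ) with hk0
    set kp : ℤ := (Tp.card : ℤ) with hkp
    have hk0pos : 1 ≤ k0 := by rw [hk0]; exact_mod_cast hTzpos
    have hp2pos : (0 : ℤ) < (p : ℤ) ^ 2 := by positivity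
    have hA : 4 * k0 ≤ Q := le_trans hK0 hQ1
    have hB' : 4 * (k0 + (p : ℤ) ^ 2 * kp) ≤ (p : ℤ) ^ 2 * Q + 4 := by
      rw [← hQ2]
      have : k0 + (p : ℤ) ^ 2 * kp ≤ ∑ ψ ∈ T₀, (p : ℤ) ^ (2 * blockHeight p B (ψ : G → ℂ)) := by
        rw [hsplit, hsz]
        linarith
      linarith
    have hfinal : (p : ℤ) ^ 2 * (2 * (k0 + kp)) ≤ (p : ℤ) ^ 2 * Q := by
      nlinarith
    have hfinal2 : 2 * (k0 + kp) ≤ Q := le_of_mul_le_mul_left hfinal hp2pos
    have hcast : ((2 * T₀.card : ℕ) : ℤ) ≤ ((p ^ (2 * d - 2) : ℕ) : ℤ) := by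
      rw [hcard]
      push_cast
      rw [← hk0, ← hkp, ← hQ]
      exact hfinal2
    exact_mod_cast hcast
  · intro χ hχ
    constructor
    · intro hd1
      by_contra hne
      have := hheights χ hχ hne
      omega
    · intro hd2
      by_cases hne : blockHeight p B (χ : G → ℂ) = 0
      · rw [hne]; exact Nat.zero_le _
      · have := hheights χ hχ hne
        omega

end Cfsg.Agent.S4710
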