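import Cfsg.Statements.S4714
import Cfsg.Agent.Lib.Helper82.CentralProductBlock

set_option autoImplicit false
open Cfsg

namespace Cfsg.Agent.S4714

set_option linter.style.haveILetI false

open Cfsg.Agent.Lib.Helper16 Cfsg.Agent.Lib.Helper78 Cfsg.Agent.Lib.Helper82

/-- Let p be a prime, M a maximal ideal of the algebraic integers containing p, D a p-subgroup of the finite group G with G = D·C_G(D), and B a p-block with defect group D. Let χ be a member of B having D in its kernel (there is exactly one, the canonical character of B). Then the irreducible characters in B are exactly the functions θ on G for which there is an irreducible character ζ of D such that θ(yx) = ζ(y)χ(x) whenever y ∈ D, x has order prime to p and x commutes with y, and θ(z) = 0 whenever the p-part of z does not lie in D. -/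
theorem result {G : Type*} [Group G] [Finite G] (p : ℕ) [Fact p.Prime] (M : Ideal Cfsg.AlgInt) (hM : Cfsg.IsPModular p M) (D : Subgroup G) (hD : IsPGroup p D) (hG : D ⊔ Subgroup.centralizer (D : Set G) = ⊤) (B : Set (Cfsg.IrrCharacter G)) (hB : Cfsg.IsPBlock M B) (hBD : Cfsg.IsDefectGroup p M B D) (χ : Cfsg.IrrCharacter G) (hχ : χ ∈ B) (hχD : ∀ y ∈ D, (χ : G → ℂ) y = (χ : G → ℂ) 1) : (∀ θ : Cfsg.IrrCharacter G, θ ∈ B ↔ ∃ ζ : Cfsg.IrrCharacter D, (∀ (y : D) (x : G), ¬ p ∣ orderOf x → Commute (y : G) x → (θ : G → ℂ) ((y : G) * x) = (ζ : D → ℂ) y * (χ : G → ℂ) x) ∧ (∀ z : G, (∀ y : G, Cfsg.IsPPart p z y → y ∉ D) → (θ : G → ℂ) z = 0)) ∧ ∀ ζ : Cfsg.IrrCharacter D, ∃ θ ∈ B, (∀ (y : D) (x : G), ¬ p ∣ orderOf x → Commute (y : G) x → (θ : G → ℂ) ((y : G) * x) = (ζ : D → ℂ) y * (χ : G → ℂ) x) ∧ (∀ z : G, (∀ y : G, Cfsg.IsPPart p z y → y ∉ D) → (θ : G → ℂ) z = 0) := by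
  classical
  haveI : Fintype G := Fintype.ofFinite G
  haveI hMp := isPModular_isPrime hM
  haveI : D.Normal := normal_of_sup_centralizer_eq_top hG
  -- the two properties of a member `θ` of `B` with `D`-factor `ζ`
  have hprop : ∀ θ ∈ B, ∀ ζ : IrrCharacter D, IsPFactor D (θ : G → ℂ) (ζ : D → ℂ) →
      (∀ (y : D) (x : G), ¬ p ∣ orderOf x → Commute (y : G) x →
        (θ : G → ℂ) ((y : G) * x) = (ζ : D → ℂ) y * (χ : G → ℂ) x) ∧
      (∀ z : G, (∀ y : G, Cfsg.IsPPart p z y → y ∉ D) → (θ : G → ℂ) z = 0) := by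
    intro θ hθ ζ hζ
    refine ⟨fun y x hx _ => apply_mul_of_isPFactor hM hD hG hB hBD hχ hθ hχD hζ y hx, ?_⟩
    intro z hz
    obtain ⟨y, hy⟩ := exists_isPPart p z
    exact vanish_of_defectGroup_normal hM hB hBD hθ hy (hz y hy)
  refine ⟨fun θ => ⟨fun hθ => ?_, ?_⟩, fun ζ => ?_⟩
  · obtain ⟨ζ, hζ⟩ := exists_isPFactor hG θ
    exact ⟨ζ, hprop θ hθ ζ hζ⟩
  · rintro ⟨ζ, hζ, -⟩
    -- `θ` and `χ` have the same central character values on `p`-regular elements
    have h1reg : ¬ p ∣ orderOf (1 : G) := by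
      rw [orderOf_one]; exact (Fact.out : p.Prime).one_lt.ne' ∘ Nat.dvd_one.mp
    have hval : ∀ x : G, ¬ p ∣ orderOf x → (θ : G → ℂ) x = (ζ : D → ℂ) 1 * (χ : G → ℂ) x := by
      intro x hx
      have := hζ 1 x hx (by rw [OneMemClass.coe_one]; exact Commute.one_left x)
      rwa [OneMemClass.coe_one, one_mul] at this
    have hζ1 : (ζ : D → ℂ) 1 ≠ 0 := Cfsg.Agent.Lib.Helper79.irr_apply_one_ne_zero ζ
    have hχ1 : (χ : G → ℂ) 1 ≠ 0 := Cfsg.Agent.Lib.Helper79.irr_apply_one_ne_zero χ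
    have hsame : SameBlock M (χ : G → ℂ) (θ : G → ℂ) := by
      rw [sameBlock_iff_pRegular hM]
      intro g hg
      have : centralChar (χ : G → ℂ) g - centralChar (θ : G → ℂ) g = 0 := by
        unfold centralChar
        rw [hval g hg, hval 1 h1reg]
        field_simp
        ring
      rw [this]
      exact memLocalIdeal_zero hMp.ne_top
    rw [IsPBlock_eq_blockOf hB hχ]
    exact hsame
  · obtain ⟨θ, hθ, hζ⟩ := exists_mem_isPFactor hM hD hG hB ζ
    exact ⟨θ, hθ, hprop θ hθ ζ hζ⟩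

end Cfsg.Agent.S4714
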