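import Cfsg.Statements.S4720
import Cfsg.Agent.Lib.Helper74.PrincipalNorm
import Cfsg.Agent.Lib.Helper78.SMTOrtho2
import Cfsg.Agent.Lib.Helper78.BlockSums

set_option autoImplicit false
open Cfsg

namespace Cfsg.Agent.S4720

open Cfsg.Agent.Lib.Helper78 Cfsg.Agent.Lib.Helper16 Cfsg.Agent.Lib.Helper74
open scoped ComplexConjugate

section Aux

variable {G : Type*} [Group G] [Fintype G] {p : ℕ} [Fact p.Prime] {M : Ideal AlgInt}

theorem isPPart_self {y : G} (hy : ∃ k : ℕ, orderOf y = p ^ k) : IsPPart p y y := by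
  refine ⟨1, mul_one y, Commute.one_right y, hy, ?_⟩
  rw [orderOf_one]
  exact (Fact.out : p.Prime).one_lt.ne' ∘ Nat.dvd_one.mp

open scoped Classical in
/-- Off-diagonal: block orthogonality for non-conjugate `p`-elements. -/
theorem sum_principal_mul_conj_of_not_isConj (hM : IsPModular p M) {y z : G}
    (hy : ∃ k : ℕ, orderOf y = p ^ k) (hz : ∃ k : ℕ, orderOf z = p ^ k) (hzy : ¬ IsConj z y) :
    ∑ χ ∈ Finset.univ.filter (fun χ : IrrCharacter G => χ ∈ principalBlock M G),
      (χ : G → ℂ) z * conj ((χ : G → ℂ) y) = 0 := by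
  haveI : M.IsPrime := hM.2.1.isPrime
  have h := sum_block_mul_inv_eq_zero hM (isPPart_self hz) (isPPart_self hy) hzy
    (isPBlock_principalBlock G M)
  rw [← h]
  apply Finset.sum_congr rfl
  intro χ _
  rw [IsCharacter.inv (IsIrrCharacter.isCharacter χ.2)]

open scoped Classical in
/-- Diagonal: `∑_{χ ∈ B₀(G)} |χ(y)|² = ∑_{ψ ∈ B₀(C_G(y))} ψ(1)²`. -/
theorem sum_principal_mul_conj_self (hM : IsPModular p M) {y : G}
    (hy : ∃ k : ℕ, orderOf y = p ^ k) [Fintype (Subgroup.centralizer ({y} : Set G))] :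
    ∑ χ ∈ Finset.univ.filter (fun χ : IrrCharacter G => χ ∈ principalBlock M G),
      (χ : G → ℂ) y * conj ((χ : G → ℂ) y) =
    ∑ ψ ∈ Finset.univ.filter (fun ψ : IrrCharacter (Subgroup.centralizer ({y} : Set G)) =>
        ψ ∈ principalBlock M (Subgroup.centralizer ({y} : Set G))),
      ((charDegree (ψ : Subgroup.centralizer ({y} : Set G) → ℂ) : ℂ)) ^ 2 := by
  have h := principal_sum_mul_conj_eq hM y hy (1 : Subgroup.centralizer ({y} : Set G))
    (by
      rw [orderOf_one]
      exact (Fact.out : p.Prime).one_lt.ne' ∘ Nat.dvd_one.mp)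
  simp only [OneMemClass.coe_one, mul_one] at h
  rw [h]
  apply Finset.sum_congr rfl
  intro ψ _
  rw [IsCharacter.apply_one_eq_charDegree (IsIrrCharacter.isCharacter ψ.2),
    Complex.conj_natCast, sq]

theorem conj_aux1 (g y z n : G) (hx : g * y * g⁻¹ = z) (hnz : n * y * n⁻¹ = z) :
    (n⁻¹ * g) * y = y * (n⁻¹ * g) := by
  calc n⁻¹ * g * y = n⁻¹ * (g * y * g⁻¹) * g := by group
    _ = n⁻¹ * (n * y * n⁻¹) * g := by rw [hx, hnz]
    _ = y * (n⁻¹ * g) := by group

theorem conj_aux2 (c y z n : G) (hc : c * y = y * c) (hnz : n * y * n⁻¹ = z) :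
    n * c * y * (n * c)⁻¹ = z := by
  calc n * c * y * (n * c)⁻¹ = n * (c * y) * c⁻¹ * n⁻¹ := by group
    _ = n * (y * c) * c⁻¹ * n⁻¹ := by rw [hc]
    _ = n * y * n⁻¹ := by group
    _ = z := hnz

theorem card_conj_eq (N : Subgroup G) (y z n : G) (hn : n ∈ N) (hnz : n * y * n⁻¹ = z) :
    Nat.card {x : N // (x : G) * y * (x : G)⁻¹ = z} =
      Nat.card ↥(N ⊓ Subgroup.centralizer ({y} : Set G)) := by
  apply Nat.card_congr
  refine
    { toFun := fun x => ⟨n⁻¹ * (x.1 : G), ?_, ?_⟩
      invFun := fun c => ⟨⟨n * (c : G), N.mul_mem hn c.2.1⟩, ?_⟩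
      left_inv := ?_
      right_inv := ?_ }
  · exact N.mul_mem (N.inv_mem hn) x.1.2
  · show n⁻¹ * (x.1 : G) ∈ Subgroup.centralizer ({y} : Set G)
    rw [Subgroup.mem_centralizer_singleton_iff]
    exact conj_aux1 _ _ _ _ x.2 hnz
  · have hc : (c : G) ∈ Subgroup.centralizer ({y} : Set G) := c.2.2
    rw [Subgroup.mem_centralizer_singleton_iff] at hc
    exact conj_aux2 _ _ _ _ hc hnz
  · intro x
    apply Subtype.ext
    apply Subtype.ext
    show n * (n⁻¹ * (x.1 : G)) = (x.1 : G)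
    group
  · intro c
    apply Subtype.ext
    show n⁻¹ * (n * (c : G)) = (c : G)
    group

theorem bilinear_swap {ι α β : Type*} (F : Finset ι) (sα : Finset α) (sβ : Finset β) (c : ℂ)
    (a : ι → α → ℂ) (b : ι → β → ℂ) (u : α → ℂ) (v : β → ℂ) :
    ∑ i ∈ F, (c * ∑ y ∈ sα, a i y * u y) * (c * ∑ z ∈ sβ, b i z * v z) =
      c * c * ∑ y ∈ sα, u y * ∑ z ∈ sβ, v z * ∑ i ∈ F, b i z * a i y := by
  calc ∑ i ∈ F, (c * ∑ y ∈ sα, a i y * u y) * (c * ∑ z ∈ sβ, b i z * v z)
      = ∑ i ∈ F, ∑ y ∈ sα, ∑ z ∈ sβ, c * c * (a i y * u y) * (b i z * v z) := by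
        apply Finset.sum_congr rfl
        intro i _
        rw [mul_mul_mul_comm, Finset.sum_mul_sum, Finset.mul_sum]
        apply Finset.sum_congr rfl
        intro y _
        rw [Finset.mul_sum]
        apply Finset.sum_congr rfl
        intro z _
        ring
    _ = ∑ y ∈ sα, ∑ z ∈ sβ, ∑ i ∈ F, c * c * (a i y * u y) * (b i z * v z) := by
        rw [Finset.sum_comm]
        apply Finset.sum_congr rfl
        intro y _
        rw [Finset.sum_comm]
    _ = c * c * ∑ y ∈ sα, u y * ∑ z ∈ sβ, v z * ∑ i ∈ F, b i z * a i y := by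
        rw [Finset.mul_sum]
        apply Finset.sum_congr rfl
        intro y _
        rw [Finset.mul_sum, Finset.mul_sum]
        apply Finset.sum_congr rfl
        intro z _
        rw [Finset.mul_sum, Finset.mul_sum, Finset.mul_sum]
        apply Finset.sum_congr rfl
        intro i _
        ring

end Aux

/-- Let p be a prime, M a maximal ideal of the algebraic integers containing p, P a p-subgroup of the finite group G, N a subgroup with P ≤ N ≤ N_G(P), and U a nonempty subset of P normalized by N such that an element of U and an element of P that are conjugate in G are already conjugate in N, and such that λ(C_G(y)) = w·#C_N(y) for every y ∈ U with one rational number w, where λ(X) denotes the sum of the squares of the degrees of the irreducible characters in the principal p-block of X. For a complex function θ on P and χ in the principal block of G put a_χ(θ) = #P⁻¹ Σ_{y ∈ P} χ(y) θ(y⁻¹). Then for generalized characters θ, η of P with θ vanishing outside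 U, Σ_χ a_χ(θ)·conj(a_χ(η)) = (w/#P²)·Σ_{y ∈ P} θ(y)·conj(Σ_{x ∈ N} η(x y x⁻¹)) (η extended by zero off P; the conjugates lie in P), the first sum over the principal p-block of G. -/
theorem result {G : Type*} [Group G] [Finite G] (p : ℕ) [Fact p.Prime] (M : Ideal Cfsg.AlgInt) (hM : Cfsg.IsPModular p M) (P : Subgroup G) (hP : IsPGroup p P) (N : Subgroup G) (hPN : P ≤ N) (hNN : N ≤ Subgroup.normalizer (P : Set G)) (U : Set G) (hUne : U.Nonempty) (hUP : U ⊆ (P : Set G)) (hUN : ∀ n ∈ N, ∀ u ∈ U, n * u * n⁻¹ ∈ U) (hfus : ∀ u ∈ U, ∀ g : G, g * u * g⁻¹ ∈ (P : Set G) → ∃ n ∈ N, n * u * n⁻¹ = g * u * g⁻¹) (w : ℚ) (hw : ∀ y ∈ U, ((∑ᶠ ψ ∈ Cfsg.principalBlock M ↥(Subgroup.centralizer ({y} : Set G)), Cfsg.charDegree (ψ : ↥(Subgroup.centralizer ({y} : Set G)) → ℂ) ^ 2) : ℚ) = w * Nat.card ↥(N ⊓ Subgroup.centralizer ({y} : Set G))) (θ η : ↥P → ℂ) (hθ : Cfsg.IsGeneralizedCharacter ↥P θ) (hη : Cfsg.IsGeneralizedCharacter ↥P η) (hθU : ∀ y : ↥P, (y : G) ∉ U → θ y = 0) : ∑ᶠ χ ∈ Cfsg.principalBlock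 M G, ((Nat.card ↥P : ℂ)⁻¹ * ∑ᶠ y : ↥P, (χ : G → ℂ) (y : G) * θ y⁻¹) * (starRingEnd ℂ) ((Nat.card ↥P : ℂ)⁻¹ * ∑ᶠ y : ↥P, (χ : G → ℂ) (y : G) * η y⁻¹) = ((w : ℂ) / ((Nat.card ↥P : ℂ) ^ 2)) * ∑ᶠ y : ↥P, θ y * (starRingEnd ℂ) (∑ᶠ x : ↥N, Cfsg.extendByZero P η ((x : G) * (y : G) * (x : G)⁻¹)) := by
  classical
  haveI : Fintype G := Fintype.ofFinite G
  haveI : Fintype P := Fintype.ofFinite _
  haveI : Fintype N := Fintype.ofFinite _
  have hPord : ∀ y : P, ∃ k : ℕ, orderOf (y : G) = p ^ k := by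
    intro y
    obtain ⟨k, hk⟩ := (IsPGroup.iff_orderOf.mp hP) y
    exact ⟨k, by rw [Subgroup.orderOf_coe]; exact hk⟩
  -- reindexing the coefficient sums
  have key1 : ∀ (χ : IrrCharacter G) (f : P → ℂ),
      ∑ y : P, (χ : G → ℂ) (y : G) * f y⁻¹ = ∑ y : P, conj ((χ : G → ℂ) (y : G)) * f y := by
    intro χ f
    rw [← Equiv.sum_comp (Equiv.inv P) (fun y : P => conj ((χ : G → ℂ) (y : G)) * f y)]
    apply Finset.sum_congr rfl
    intro y _
    simp only [Equiv.inv_apply, Subgroup.coe_inv]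
    rw [IsCharacter.inv (IsIrrCharacter.isCharacter χ.2), Complex.conj_conj]
  -- the key evaluation of the block column products
  have key2 : ∀ y : P, (y : G) ∈ U → ∀ z : P,
      ∑ χ ∈ Finset.univ.filter (fun χ : IrrCharacter G => χ ∈ principalBlock M G),
        (χ : G → ℂ) (z : G) * conj ((χ : G → ℂ) (y : G)) =
      (w : ℂ) * (Nat.card {x : N // (x : G) * (y : G) * (x : G)⁻¹ = (z : G)} : ℂ) := by
    intro y hyU z
    by_cases hc : IsConj (z : G) (y : G)
    · obtain ⟨g, hg⟩ := isConj_iff.mp hc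
      have hz' : g⁻¹ * (y : G) * g⁻¹⁻¹ = (z : G) := by rw [← hg]; group
      obtain ⟨n, hn, hnz⟩ := hfus (y : G) hyU g⁻¹ (by rw [hz']; exact z.2)
      rw [hz'] at hnz
      rw [card_conj_eq N (y : G) (z : G) n hn hnz]
      haveI : Fintype (Subgroup.centralizer ({(y : G)} : Set G)) := Fintype.ofFinite _
      have h1 := sum_principal_mul_conj_self hM (hPord y)
      have h2 := hw (y : G) hyU
      rw [finsum_mem_eq_sum_filter_univ] at h2
      have h3 := congrArg (fun q : ℚ => (q : ℂ)) h2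
      simp only [Rat.cast_sum, Rat.cast_pow, Rat.cast_natCast, Rat.cast_mul] at h3
      rw [← h3, ← h1]
      apply Finset.sum_congr rfl
      intro χ _
      rw [← hg, isClassFunction_irr χ]
    · rw [sum_principal_mul_conj_of_not_isConj hM (hPord y) (hPord z) hc]
      haveI : IsEmpty {x : N // (x : G) * (y : G) * (x : G)⁻¹ = (z : G)} := by
        constructor
        rintro ⟨x, hx⟩
        apply hc
        apply IsConj.symm
        exact isConj_iff.mpr ⟨(x : G), hx⟩
      rw [Nat.card_of_isEmpty, Nat.cast_zero, mul_zero]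
  -- `N` normalizes `P`
  have hxP : ∀ (x : N) (y : P), (x : G) * (y : G) * (x : G)⁻¹ ∈ P := by
    intro x y
    have hx := hNN x.2
    rw [Subgroup.mem_normalizer_iff] at hx
    exact (hx (y : G)).mp y.2
  -- the inner sums over `z`
  have key3 : ∀ y : P, (y : G) ∈ U →
      ∑ z : P, conj (η z) *
        ∑ χ ∈ Finset.univ.filter (fun χ : IrrCharacter G => χ ∈ principalBlock M G),
          (χ : G → ℂ) (z : G) * conj ((χ : G → ℂ) (y : G)) =
      (w : ℂ) * conj (∑ x : N, extendByZero P η ((x : G) * (y : G) * (x : G)⁻¹)) := by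
    intro y hyU
    have hcard : ∀ z : P, (Nat.card {x : N // (x : G) * (y : G) * (x : G)⁻¹ = (z : G)} : ℂ) =
        ∑ x : N, if (x : G) * (y : G) * (x : G)⁻¹ = (z : G) then (1 : ℂ) else 0 := by
      intro z
      rw [Nat.card_eq_fintype_card, Fintype.card_subtype, Finset.card_filter, Nat.cast_sum]
      apply Finset.sum_congr rfl
      intro x _
      rw [Nat.cast_ite, Nat.cast_one, Nat.cast_zero]
    simp_rw [key2 y hyU, hcard]
    rw [map_sum, Finset.mul_sum]
    calc ∑ z : P, conj (η z) * ((w : ℂ) *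
          ∑ x : N, if (x : G) * (y : G) * (x : G)⁻¹ = (z : G) then (1 : ℂ) else 0)
        = ∑ x : N, ∑ z : P, (w : ℂ) *
            (if (⟨(x : G) * (y : G) * (x : G)⁻¹, hxP x y⟩ : P) = z then conj (η z) else 0) := by
          rw [Finset.sum_comm]
          apply Finset.sum_congr rfl
          intro z _
          rw [Finset.mul_sum, Finset.mul_sum]
          apply Finset.sum_congr rfl
          intro x _
          by_cases hxz : (x : G) * (y : G) * (x : G)⁻¹ = (z : G)
          · have : (⟨(x : G) * (y : G) * (x : G)⁻¹, hxP x y⟩ : P) = z := Subtype.ext hxz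
            rw [if_pos hxz, if_pos this]
            ring
          · have : ¬ (⟨(x : G) * (y : G) * (x : G)⁻¹, hxP x y⟩ : P) = z := by
              intro h
              exact hxz (congrArg Subtype.val h)
            rw [if_neg hxz, if_neg this]
            ring
      _ = ∑ x : N, (w : ℂ) * conj (extendByZero P η ((x : G) * (y : G) * (x : G)⁻¹)) := by
          apply Finset.sum_congr rfl
          intro x _
          rw [← Finset.mul_sum, Finset.sum_ite_eq, if_pos (Finset.mem_univ _),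
            extendByZero_apply_of_mem P η (hxP x y)]
  -- assemble
  rw [finsum_mem_eq_sum_filter_univ]
  simp only [finsum_eq_sum_of_fintype]
  simp_rw [key1]
  have hconj : ∀ χ : IrrCharacter G,
      conj ((Nat.card P : ℂ)⁻¹ * ∑ y : P, conj ((χ : G → ℂ) (y : G)) * η y) =
        (Nat.card P : ℂ)⁻¹ * ∑ z : P, (χ : G → ℂ) (z : G) * conj (η z) := by
    intro χ
    rw [map_mul, map_inv₀, Complex.conj_natCast, map_sum]
    congr 1
    apply Finset.sum_congr rfl
    intro z _
    rw [map_mul, Complex.conj_conj]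
  simp_rw [hconj]
  rw [bilinear_swap, Finset.mul_sum, Finset.mul_sum]
  apply Finset.sum_congr rfl
  intro y _
  by_cases hyU : (y : G) ∈ U
  · rw [key3 y hyU]
    ring
  · rw [hθU y hyU]
    ring

end Cfsg.Agent.S4720
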