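import Cfsg.Statements.S4721
import Cfsg.Agent.Lib.Helper78.BrauerThreeData

set_option autoImplicit false
open Cfsg

namespace Cfsg.Agent.S4721

open Cfsg.Agent.Lib.Helper78
open scoped ComplexConjugate

open scoped Classical in
/-- Part 2, the case where the involution is `p`-regular. -/
theorem part_two_odd {G : Type*} [Group G] [Finite G] (p : ℕ) [Fact p.Prime]
    (M : Ideal Cfsg.AlgInt) (hM : Cfsg.IsPModular p M) (P : Sylow p G) [hab : IsMulCommutative P]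
    (hCN : (Subgroup.centralizer ((P : Subgroup G) : Set G)).relIndex
      (Subgroup.normalizer ((P : Subgroup G) : Set G)) = 3)
    (hfrob : ∀ y : G, y ∈ (P : Subgroup G) → y ≠ 1 →
      Subgroup.centralizer ({y} : Set G) ⊓ Subgroup.normalizer ((P : Subgroup G) : Set G) =
        Subgroup.centralizer ((P : Subgroup G) : Set G))
    {δ : ℤ} {ζ : (↥(P : Subgroup G) →* ℂˣ) → IrrCharacter G} {a : IrrCharacter G → ℤ}
    {Y : Finset (IrrCharacter G)} (hN : Normalized0 p M P δ ζ a Y)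
    {χ₂ χ₃ : IrrCharacter G} (hT : ThreeSplit M a Y χ₂ χ₃)
    {t : G} (ht : orderOf t = 2) (hK : ∀ K : Subgroup G, K.Normal → t ∈ K → K = ⊤)
    (hreg : ¬ p ∣ orderOf t)
    {y : G} (hyP : y ∈ (P : Subgroup G)) (hy1 : y ≠ 1) (hty : ¬ IsConj t y)
    {η₀ : IrrCharacter G} (hη₀ : η₀ ∈ Y) :
    ((if a χ₂ = -1 then 1 else 0) + (if a χ₃ = -1 then 1 else 0) + (if δ = 1 then 1 else 0) = 2) ∧
      IsSquare (charDegree (η₀ : G → ℂ) *
        (charDegree (χ₂ : G → ℂ) * charDegree (χ₃ : G → ℂ))) := by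
  have hfin := Fintype.ofFinite G
  have hp : p.Prime := Fact.out
  have htt : t * t = 1 := by rw [← pow_two, ← ht, pow_orderOf_eq_one]
  have hone : ¬ p ∣ orderOf (1 : G) := by
    rw [orderOf_one]
    exact hp.one_lt.ne' ∘ Nat.dvd_one.mp
  have hc2 := IsIrrCharacter.isCharacter χ₂.2
  have hc3 := IsIrrCharacter.isCharacter χ₃.2
  have hc0 := IsIrrCharacter.isCharacter η₀.2
  obtain ⟨x₂, hx₂⟩ := Cfsg.Agent.Lib.Helper74.exists_int_apply_of_orderOf_two hc2 t ht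
  obtain ⟨x₃, hx₃⟩ := Cfsg.Agent.Lib.Helper74.exists_int_apply_of_orderOf_two hc3 t ht
  obtain ⟨h, hh⟩ := Cfsg.Agent.Lib.Helper74.exists_int_apply_of_orderOf_two hc0 t ht
  have hf2 := IsCharacter.apply_one_eq_charDegree hc2
  have hf3 := IsCharacter.apply_one_eq_charDegree hc3
  have hf0 := IsCharacter.apply_one_eq_charDegree hc0
  have hpos2 := IsIrrCharacter.charDegree_pos χ₂.2
  have hpos3 := IsIrrCharacter.charDegree_pos χ₃.2
  have hpos0 := IsIrrCharacter.charDegree_pos η₀.2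
  have hη₀t : (η₀ : G → ℂ) ≠ fun _ => 1 := fun h' => hN.htriv η₀ h' hη₀
  have hlt2 : x₂ < (charDegree (χ₂ : G → ℂ) : ℤ) :=
    int_lt_charDegree_of_ne hc2 hx₂ (irr_apply_ne_of_normal_closure χ₂.2 hT.h2t hK)
  have hlt3 : x₃ < (charDegree (χ₃ : G → ℂ) : ℤ) :=
    int_lt_charDegree_of_ne hc3 hx₃ (irr_apply_ne_of_normal_closure χ₃.2 hT.h3t hK)
  have hlt0 : h < (charDegree (η₀ : G → ℂ) : ℤ) :=
    int_lt_charDegree_of_ne hc0 hh (irr_apply_ne_of_normal_closure η₀.2 hη₀t hK)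
  -- e1
  have e1 := rel_at hN hT hone hη₀
  rw [hf2, hf3, hf0] at e1
  have e1' : 1 + a χ₂ * (charDegree (χ₂ : G → ℂ) : ℤ) + a χ₃ * (charDegree (χ₃ : G → ℂ) : ℤ) =
      δ * (charDegree (η₀ : G → ℂ) : ℤ) := by exact_mod_cast e1
  -- e2
  have e2 := rel_at hN hT hreg hη₀
  rw [hx₂, hx₃, hh] at e2
  have e2' : 1 + a χ₂ * x₂ + a χ₃ * x₃ = δ * h := by exact_mod_cast e2
  -- e3
  have hstep := sum_principalBlock_sq_div_mul_eq_zero_of_frob hM P hCN hfrob htt hyP hy1 hty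
  rw [sum_block_split hM hN hT] at hstep
  have hy' : (⟨y, hyP⟩ : ↥(P : Subgroup G)) ≠ 1 := fun h' => hy1 (congrArg Subtype.val h')
  have hv2 : (χ₂ : G → ℂ) y = (a χ₂ : ℂ) := hN.hX χ₂ hT.h2B hT.h2Y ⟨y, hyP⟩ hy'
  have hv3 : (χ₃ : G → ℂ) y = (a χ₃ : ℂ) := hN.hX χ₃ hT.h3B hT.h3Y ⟨y, hyP⟩ hy'
  have hsumY : ∑ η ∈ Y, (η : G → ℂ) y = -(δ : ℂ) := hN.hsumY ⟨y, hyP⟩ hy'
  have hYsum : ∑ η ∈ Y, conj ((η : G → ℂ) t * (η : G → ℂ) t / (η : G → ℂ) 1) * (η : G → ℂ) y =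
      conj ((h : ℂ) * (h : ℂ) / (charDegree (η₀ : G → ℂ) : ℂ)) * (-(δ : ℂ)) := by
    rw [← hsumY, Finset.mul_sum]
    apply Finset.sum_congr rfl
    intro η hη
    rw [(hN.hreg t hreg).1 η hη η₀ hη₀, (hN.hreg 1 hone).1 η hη η₀ hη₀, hh, hf0]
  rw [hYsum, hx₂, hx₃, hv2, hv3, hf2, hf3] at hstep
  simp only [map_div₀, map_mul, map_intCast, map_natCast, map_one] at hstep
  have hf2ne : (charDegree (χ₂ : G → ℂ) : ℂ) ≠ 0 := by exact_mod_cast hpos2.ne'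
  have hf3ne : (charDegree (χ₃ : G → ℂ) : ℂ) ≠ 0 := by exact_mod_cast hpos3.ne'
  have hf0ne : (charDegree (η₀ : G → ℂ) : ℂ) ≠ 0 := by exact_mod_cast hpos0.ne'
  have key : (charDegree (χ₂ : G → ℂ) : ℂ) * (charDegree (χ₃ : G → ℂ) : ℂ) *
        (charDegree (η₀ : G → ℂ) : ℂ) +
      (a χ₂ : ℂ) * (x₂ : ℂ) ^ 2 * (charDegree (χ₃ : G → ℂ) : ℂ) * (charDegree (η₀ : G → ℂ) : ℂ) +
      (a χ₃ : ℂ) * (x₃ : ℂ) ^ 2 * (charDegree (χ₂ : G → ℂ) : ℂ) * (charDegree (η₀ : G → ℂ) : ℂ) -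
      (δ : ℂ) * (h : ℂ) ^ 2 * (charDegree (χ₂ : G → ℂ) : ℂ) * (charDegree (χ₃ : G → ℂ) : ℂ) =
      ((charDegree (χ₂ : G → ℂ) : ℂ) * (charDegree (χ₃ : G → ℂ) : ℂ) *
        (charDegree (η₀ : G → ℂ) : ℂ)) *
      ((h : ℂ) * (h : ℂ) / (charDegree (η₀ : G → ℂ) : ℂ) * -(δ : ℂ) + 1 * 1 / 1 * 1 +
        (x₂ : ℂ) * (x₂ : ℂ) / (charDegree (χ₂ : G → ℂ) : ℂ) * (a χ₂ : ℂ) +
        (x₃ : ℂ) * (x₃ : ℂ) / (charDegree (χ₃ : G → ℂ) : ℂ) * (a χ₃ : ℂ)) := by
    field_simp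
    ring
  rw [hstep, mul_zero] at key
  have e3 : (charDegree (χ₂ : G → ℂ) : ℤ) * (charDegree (χ₃ : G → ℂ) : ℤ) *
        (charDegree (η₀ : G → ℂ) : ℤ) +
      a χ₂ * x₂ ^ 2 * (charDegree (χ₃ : G → ℂ) : ℤ) * (charDegree (η₀ : G → ℂ) : ℤ) +
      a χ₃ * x₃ ^ 2 * (charDegree (χ₂ : G → ℂ) : ℤ) * (charDegree (η₀ : G → ℂ) : ℤ) =
      δ * h ^ 2 * (charDegree (χ₂ : G → ℂ) : ℤ) * (charDegree (χ₃ : G → ℂ) : ℤ) := by
    have h1 : (((charDegree (χ₂ : G → ℂ) : ℤ) * (charDegree (χ₃ : G → ℂ) : ℤ) *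
        (charDegree (η₀ : G → ℂ) : ℤ) +
      a χ₂ * x₂ ^ 2 * (charDegree (χ₃ : G → ℂ) : ℤ) * (charDegree (η₀ : G → ℂ) : ℤ) +
      a χ₃ * x₃ ^ 2 * (charDegree (χ₂ : G → ℂ) : ℤ) * (charDegree (η₀ : G → ℂ) : ℤ) : ℤ) : ℂ) =
      ((δ * h ^ 2 * (charDegree (χ₂ : G → ℂ) : ℤ) * (charDegree (χ₃ : G → ℂ) : ℤ) : ℤ) : ℂ) := by
      push_cast
      linear_combination key
    exact_mod_cast h1
  exact sign_count_and_square hpos2 hpos3 hpos0 hT.ha2 hT.ha3 hN.hδ hlt2 hlt3 hlt0 e1' e2' e3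

open scoped Classical in
/-- Part 2, the case where the involution is conjugate into `P`: impossible. -/
theorem part_two_even_false {G : Type*} [Group G] [Finite G] (p : ℕ) [Fact p.Prime]
    (M : Ideal Cfsg.AlgInt) (hM : Cfsg.IsPModular p M) (P : Sylow p G) [hab : IsMulCommutative P]
    (hm2 : 3 + 1 < Nat.card P)
    (hCN : (Subgroup.centralizer ((P : Subgroup G) : Set G)).relIndex
      (Subgroup.normalizer ((P : Subgroup G) : Set G)) = 3)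
    (hfrob : ∀ y : G, y ∈ (P : Subgroup G) → y ≠ 1 →
      Subgroup.centralizer ({y} : Set G) ⊓ Subgroup.normalizer ((P : Subgroup G) : Set G) =
        Subgroup.centralizer ((P : Subgroup G) : Set G))
    {δ : ℤ} {ζ : (↥(P : Subgroup G) →* ℂˣ) → IrrCharacter G} {a : IrrCharacter G → ℤ}
    {Y : Finset (IrrCharacter G)} (hN : Normalized0 p M P δ ζ a Y)
    {χ₂ χ₃ : IrrCharacter G} (hT : ThreeSplit M a Y χ₂ χ₃)
    {t : G} (ht : orderOf t = 2) (hK : ∀ K : Subgroup G, K.Normal → t ∈ K → K = ⊤)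
    {t₀ : G} (ht₀P : t₀ ∈ (P : Subgroup G)) (hconj : IsConj t t₀)
    {y : G} (hyP : y ∈ (P : Subgroup G)) (hy1 : y ≠ 1) (hty : ¬ IsConj t y)
    {η₀ : IrrCharacter G} (hη₀ : η₀ ∈ Y) : False := by
  have hfin := Fintype.ofFinite G
  have hp : p.Prime := Fact.out
  let instCG : CommGroup ↥(P : Subgroup G) := IsMulCommutative.instCommGroup
  have hfinP : Fintype ↥(P : Subgroup G) := Fintype.ofFinite _
  have hfinN : Fintype ↥(Subgroup.normalizer ((P : Subgroup G) : Set G)) := Fintype.ofFinite _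
  have htt : t * t = 1 := by rw [← pow_two, ← ht, pow_orderOf_eq_one]
  have ht1 : t ≠ 1 := by
    intro h
    rw [h, orderOf_one] at ht
    omega
  have hone : ¬ p ∣ orderOf (1 : G) := by
    rw [orderOf_one]
    exact hp.one_lt.ne' ∘ Nat.dvd_one.mp
  obtain ⟨c, hc⟩ := isConj_iff.mp hconj
  have ht₀t₀ : t₀ * t₀ = 1 := by
    rw [← hc]
    exact Cfsg.Agent.Lib.Helper74.conj_mul_self_of_mul_self htt c
  have ht₀1 : t₀ ≠ 1 := by
    intro h
    rw [h] at hc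
    apply ht1
    have : t = c⁻¹ * (c * t * c⁻¹) * c := by group
    rw [this, hc]
    group
  have ht₀' : (⟨t₀, ht₀P⟩ : ↥(P : Subgroup G)) ≠ 1 := fun h' => ht₀1 (congrArg Subtype.val h')
  have hy' : (⟨y, hyP⟩ : ↥(P : Subgroup G)) ≠ 1 := fun h' => hy1 (congrArg Subtype.val h')
  have hval_conj : ∀ χ : IrrCharacter G, (χ : G → ℂ) t = (χ : G → ℂ) t₀ := by
    intro χ
    rw [← hc]
    exact (isClassFunction_irr χ t c).symm
  have hty₀ : ¬ IsConj t₀ y := fun h => hty (hconj.trans h)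
  -- the order of `P`
  have hq16 : 16 ≤ Nat.card ↥(P : Subgroup G) := by
    have h2 : Nat.card ↥(P : Subgroup G) = Nat.card P := rfl
    have ho : orderOf t₀ = 2 := by
      have : Fact (Nat.Prime 2) := ⟨Nat.prime_two⟩
      exact orderOf_eq_prime (by rw [pow_two]; exact ht₀t₀) ht₀1
    have hdvd : 2 ∣ Nat.card ↥(P : Subgroup G) := by
      have h3 := orderOf_dvd_natCard (⟨t₀, ht₀P⟩ : ↥(P : Subgroup G))
      rwa [Subgroup.orderOf_mk, ho] at h3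
    obtain ⟨n, hn⟩ := IsPGroup.iff_card.mp P.isPGroup'
    have hp2 : p = 2 := by
      rw [hn] at hdvd
      exact ((Nat.prime_dvd_prime_iff_eq Nat.prime_two hp).mp
        (Nat.prime_two.dvd_of_dvd_pow hdvd)).symm
    have hn' : Nat.card ↥(P : Subgroup G) = 2 ^ n := by rw [hn, hp2]
    have hYc := hN.hYcard
    have hcases : n ≤ 2 ∨ n = 3 ∨ 4 ≤ n := by omega
    rcases hcases with h | h | h
    · have : 2 ^ n ≤ 2 ^ 2 := Nat.pow_le_pow_right (by norm_num) h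
      omega
    · rw [h] at hn'
      omega
    · have : 2 ^ 4 ≤ 2 ^ n := Nat.pow_le_pow_right (by norm_num) h
      omega
  have hc2 := IsIrrCharacter.isCharacter χ₂.2
  have hc3 := IsIrrCharacter.isCharacter χ₃.2
  have hc0 := IsIrrCharacter.isCharacter η₀.2
  have hf2 := IsCharacter.apply_one_eq_charDegree hc2
  have hf3 := IsCharacter.apply_one_eq_charDegree hc3
  have hf0 := IsCharacter.apply_one_eq_charDegree hc0
  have hpos2 := IsIrrCharacter.charDegree_pos χ₂.2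
  have hpos3 := IsIrrCharacter.charDegree_pos χ₃.2
  have hpos0 := IsIrrCharacter.charDegree_pos η₀.2
  -- values
  have hv2t : (χ₂ : G → ℂ) t = (a χ₂ : ℂ) := by
    rw [hval_conj]
    exact hN.hX χ₂ hT.h2B hT.h2Y ⟨t₀, ht₀P⟩ ht₀'
  have hv3t : (χ₃ : G → ℂ) t = (a χ₃ : ℂ) := by
    rw [hval_conj]
    exact hN.hX χ₃ hT.h3B hT.h3Y ⟨t₀, ht₀P⟩ ht₀'
  have hv2 : (χ₂ : G → ℂ) y = (a χ₂ : ℂ) := hN.hX χ₂ hT.h2B hT.h2Y ⟨y, hyP⟩ hy'
  have hv3 : (χ₃ : G → ℂ) y = (a χ₃ : ℂ) := hN.hX χ₃ hT.h3B hT.h3Y ⟨y, hyP⟩ hy'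
  have hsumY : ∑ η ∈ Y, (η : G → ℂ) y = -(δ : ℂ) := hN.hsumY ⟨y, hyP⟩ hy'
  -- congruences
  have c2 : (Nat.card ↥(P : Subgroup G) : ℤ) ∣ (charDegree (χ₂ : G → ℂ) : ℤ) - a χ₂ :=
    card_dvd_degree_sub_of_const hc2 (P : Subgroup G) (a χ₂) (fun k hk hk1 =>
      hN.hX χ₂ hT.h2B hT.h2Y ⟨k, hk⟩ (fun h' => hk1 (congrArg Subtype.val h')))
  have c3 : (Nat.card ↥(P : Subgroup G) : ℤ) ∣ (charDegree (χ₃ : G → ℂ) : ℤ) - a χ₃ :=
    card_dvd_degree_sub_of_const hc3 (P : Subgroup G) (a χ₃) (fun k hk hk1 =>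
      hN.hX χ₃ hT.h3B hT.h3Y ⟨k, hk⟩ (fun h' => hk1 (congrArg Subtype.val h')))
  have e1 := rel_at hN hT hone hη₀
  rw [hf2, hf3, hf0] at e1
  have e1' : 1 + a χ₂ * (charDegree (χ₂ : G → ℂ) : ℤ) + a χ₃ * (charDegree (χ₃ : G → ℂ) : ℤ) =
      δ * (charDegree (η₀ : G → ℂ) : ℤ) := by exact_mod_cast e1
  have cc : (Nat.card ↥(P : Subgroup G) : ℤ) ∣ (charDegree (η₀ : G → ℂ) : ℤ) - 3 * δ := by
    have h1 : (charDegree (η₀ : G → ℂ) : ℤ) - 3 * δ =
        δ * (a χ₂ * ((charDegree (χ₂ : G → ℂ) : ℤ) - a χ₂) +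
          a χ₃ * ((charDegree (χ₃ : G → ℂ) : ℤ) - a χ₃)) := by
      rcases hT.ha2 with h2 | h2 <;> rcases hT.ha3 with h3 | h3 <;> rcases hN.hδ with h4 | h4 <;>
        rw [h2, h3, h4] at e1' ⊢ <;> linarith
    rw [h1]
    exact Dvd.dvd.mul_left (dvd_add (Dvd.dvd.mul_left c2 _) (Dvd.dvd.mul_left c3 _)) _
  -- degrees at least two
  have hge : ∀ χ : IrrCharacter G, (χ : G → ℂ) ≠ (fun _ => 1) →
      (Nat.card ↥(P : Subgroup G) : ℤ) ∣ (charDegree (χ : G → ℂ) : ℤ) - a χ →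
      (a χ = 1 ∨ a χ = -1) → (χ : G → ℂ) t = (a χ : ℂ) → 0 < charDegree (χ : G → ℂ) →
      (2 : ℤ) ≤ (charDegree (χ : G → ℂ) : ℤ) := by
    intro χ hχt hdvd ha hval hpos
    by_contra hlt
    have h1 : charDegree (χ : G → ℂ) = 1 := by omega
    rw [h1] at hdvd
    rcases ha with h2 | h2
    · apply irr_apply_ne_of_normal_closure χ.2 hχt hK
      rw [hval, IsCharacter.apply_one_eq_charDegree (IsIrrCharacter.isCharacter χ.2), h1, h2]
      simp
    · rw [h2] at hdvd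
      have h3 := Int.le_of_dvd (by norm_num) hdvd
      have h4 : (16 : ℤ) ≤ (Nat.card ↥(P : Subgroup G) : ℤ) := by exact_mod_cast hq16
      push_cast at h3
      linarith
  have hf2ge := hge χ₂ hT.h2t c2 hT.ha2 hv2t hpos2
  have hf3ge := hge χ₃ hT.h3t c3 hT.ha3 hv3t hpos3
  -- the squares of the exceptional values at `t₀`
  have hS := frob_smul_eq_self_iff P hfrob
  have hcardN : Fintype.card ↥(Subgroup.normalizer ((P : Subgroup G) : Set G)) =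
      Nat.card ((Subgroup.centralizer ((P : Subgroup G) : Set G)).subgroupOf
        (Subgroup.normalizer ((P : Subgroup G) : Set G))) * 3 := by
    rw [← Nat.card_eq_fintype_card]
    exact card_normalizer_eq_of_relIndex (P : Subgroup G) hCN
  have hx : (⟨t₀, ht₀P⟩ : ↥(P : Subgroup G)) * ⟨t₀, ht₀P⟩ = 1 := Subtype.ext ht₀t₀
  have hδ2 : (δ : ℂ) ^ 2 = 1 := by rcases hN.hδ with h | h <;> rw [h] <;> norm_num
  have hsq : ∀ η ∈ Y, ((η : G → ℂ) t₀) ^ 2 = 3 + 2 * (δ : ℂ) * (η : G → ℂ) t₀ := by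
    intro η hη
    obtain ⟨ψ, hψ, hζψ⟩ := hN.hYsurj η hη
    have h1 := hN.hval ψ hψ ⟨t₀, ht₀P⟩ ht₀'
    rw [hζψ] at h1
    have h2 := orbit_sum_sq_of_involution _ hS hcardN hψ hx
    obtain ⟨τ, hτ⟩ : ∃ τ : ℂ, τ = ∑ᶠ ψ' ∈ {ψ' : ↥(P : Subgroup G) →* ℂˣ |
        ∃ n : Subgroup.normalizer ((P : Subgroup G) : Set G),
          ∀ y : ↥(P : Subgroup G), ψ' (n • y) = ψ y},
            ((ψ' (⟨t₀, ht₀P⟩ : ↥(P : Subgroup G)) : ℂˣ) : ℂ) := ⟨_, rfl⟩
    have h1' : (η : G → ℂ) t₀ = (δ : ℂ) * τ := by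
      rw [hτ]
      exact h1
    have h2' : τ ^ 2 = 3 + 2 * τ := by
      rw [hτ]
      exact h2
    rw [h1']
    linear_combination (δ : ℂ) ^ 2 * h2' + 3 * hδ2
  -- integrality at `t₀`
  have hint : ∀ η : IrrCharacter G, ∃ k : ℤ, (η : G → ℂ) t₀ = (k : ℂ) := by
    intro η
    obtain ⟨k, hk⟩ := Cfsg.Agent.Lib.Helper74.exists_int_apply_of_orderOf_two
      (IsIrrCharacter.isCharacter η.2) t ht
    exact ⟨k, by rw [← hval_conj, hk]⟩
  have ha2sq : (a χ₂ : ℂ) * (a χ₂ : ℂ) = 1 := by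
    rcases hT.ha2 with h | h <;> rw [h] <;> norm_num
  have ha3sq : (a χ₃ : ℂ) * (a χ₃ : ℂ) = 1 := by
    rcases hT.ha3 with h | h <;> rw [h] <;> norm_num
  -- orthogonality of the columns `y`, `t₀`
  have horth : ∑ η ∈ Y, (η : G → ℂ) y * conj ((η : G → ℂ) t₀) = -3 := by
    have h1 := sum_principalBlock_mul_conj hM P hfrob ⟨y, hyP⟩ ⟨t₀, ht₀P⟩ hy' ht₀'
    rw [if_neg, sum_block_split hM hN hT] at h1
    · have h2 : (χ₂ : G → ℂ) t₀ = (a χ₂ : ℂ) := hN.hX χ₂ hT.h2B hT.h2Y ⟨t₀, ht₀P⟩ ht₀'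
      have h3 : (χ₃ : G → ℂ) t₀ = (a χ₃ : ℂ) := hN.hX χ₃ hT.h3B hT.h3Y ⟨t₀, ht₀P⟩ ht₀'
      simp only [hv2, hv3, h2, h3, map_intCast, map_one, ha2sq, ha3sq, mul_one] at h1
      linear_combination h1
    · rintro ⟨n, hn⟩
      apply hty₀
      have h2 : (n : G) * y * (n : G)⁻¹ = t₀ := congrArg Subtype.val hn
      exact (isConj_iff.mpr ⟨(n : G), h2⟩).symm
  have hf0ne : (charDegree (η₀ : G → ℂ) : ℂ) ≠ 0 := by exact_mod_cast hpos0.ne'
  have hf2ne : (charDegree (χ₂ : G → ℂ) : ℂ) ≠ 0 := by exact_mod_cast hpos2.ne'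
  have hf3ne : (charDegree (χ₃ : G → ℂ) : ℂ) ≠ 0 := by exact_mod_cast hpos3.ne'
  have hYsum : ∑ η ∈ Y, conj ((η : G → ℂ) t * (η : G → ℂ) t / (η : G → ℂ) 1) * (η : G → ℂ) y =
      -9 * (δ : ℂ) / (charDegree (η₀ : G → ℂ) : ℂ) := by
    have hterm : ∀ η ∈ Y,
        conj ((η : G → ℂ) t * (η : G → ℂ) t / (η : G → ℂ) 1) * (η : G → ℂ) y =
        3 / (charDegree (η₀ : G → ℂ) : ℂ) * (η : G → ℂ) y +
          2 * (δ : ℂ) / (charDegree (η₀ : G → ℂ) : ℂ) *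
            ((η : G → ℂ) y * conj ((η : G → ℂ) t₀)) := by
      intro η hη
      obtain ⟨k, hk⟩ := hint η
      have hk2 := hsq η hη
      rw [hk] at hk2
      rw [hval_conj, (hN.hreg 1 hone).1 η hη η₀ hη₀, hf0, hk]
      simp only [map_div₀, map_mul, map_intCast, map_natCast]
      field_simp
      linear_combination (η : G → ℂ) y * hk2
    rw [Finset.sum_congr rfl hterm, Finset.sum_add_distrib, ← Finset.mul_sum, ← Finset.mul_sum,
      hsumY, horth]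
    field_simp
    ring
  have hstep := sum_principalBlock_sq_div_mul_eq_zero_of_frob hM P hCN hfrob htt hyP hy1 hty
  rw [sum_block_split hM hN hT, hYsum, hv2t, hv3t, hv2, hv3, hf2, hf3] at hstep
  simp only [map_div₀, map_mul, map_natCast, map_one, ha2sq, ha3sq] at hstep
  have key : (charDegree (η₀ : G → ℂ) : ℂ) *
      ((charDegree (χ₂ : G → ℂ) : ℂ) * (charDegree (χ₃ : G → ℂ) : ℂ) +
        (a χ₂ : ℂ) * (charDegree (χ₃ : G → ℂ) : ℂ) + (a χ₃ : ℂ) * (charDegree (χ₂ : G → ℂ) : ℂ)) -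
      9 * (δ : ℂ) * (charDegree (χ₂ : G → ℂ) : ℂ) * (charDegree (χ₃ : G → ℂ) : ℂ) =
      ((charDegree (χ₂ : G → ℂ) : ℂ) * (charDegree (χ₃ : G → ℂ) : ℂ) *
        (charDegree (η₀ : G → ℂ) : ℂ)) *
      (-9 * (δ : ℂ) / (charDegree (η₀ : G → ℂ) : ℂ) + 1 * 1 / 1 * 1 +
        1 / (charDegree (χ₂ : G → ℂ) : ℂ) * (a χ₂ : ℂ) +
        1 / (charDegree (χ₃ : G → ℂ) : ℂ) * (a χ₃ : ℂ)) := by
    field_simp
    ring
  rw [hstep, mul_zero] at key
  have e : (charDegree (η₀ : G → ℂ) : ℤ) *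
      ((charDegree (χ₂ : G → ℂ) : ℤ) * (charDegree (χ₃ : G → ℂ) : ℤ) +
        a χ₂ * (charDegree (χ₃ : G → ℂ) : ℤ) + a χ₃ * (charDegree (χ₂ : G → ℂ) : ℤ)) =
      9 * δ * (charDegree (χ₂ : G → ℂ) : ℤ) * (charDegree (χ₃ : G → ℂ) : ℤ) := by
    have h1 : (((charDegree (η₀ : G → ℂ) : ℤ) *
      ((charDegree (χ₂ : G → ℂ) : ℤ) * (charDegree (χ₃ : G → ℂ) : ℤ) +
        a χ₂ * (charDegree (χ₃ : G → ℂ) : ℤ) + a χ₃ * (charDegree (χ₂ : G → ℂ) : ℤ)) : ℤ) : ℂ) =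
      ((9 * δ * (charDegree (χ₂ : G → ℂ) : ℤ) * (charDegree (χ₃ : G → ℂ) : ℤ) : ℤ) : ℂ) := by
      push_cast
      linear_combination key
    exact_mod_cast h1
  have hq16' : (16 : ℤ) ≤ (Nat.card ↥(P : Subgroup G) : ℤ) := by exact_mod_cast hq16
  have hf0ge : (1 : ℤ) ≤ (charDegree (η₀ : G → ℂ) : ℤ) := by exact_mod_cast hpos0
  exact false_of_two_case hq16' hf2ge hf3ge hf0ge hT.ha2 hT.ha3 hN.hδ c2 c3 cc e

open scoped Classical in
/-- Part 2 in Finset form. -/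
theorem part_two {G : Type*} [Group G] [Finite G] (p : ℕ) [Fact p.Prime]
    (M : Ideal Cfsg.AlgInt) (hM : Cfsg.IsPModular p M) (P : Sylow p G) [hab : IsMulCommutative P]
    (hm2 : 3 + 1 < Nat.card P)
    (hCN : (Subgroup.centralizer ((P : Subgroup G) : Set G)).relIndex
      (Subgroup.normalizer ((P : Subgroup G) : Set G)) = 3)
    (hfrob : ∀ y : G, y ∈ (P : Subgroup G) → y ≠ 1 →
      Subgroup.centralizer ({y} : Set G) ⊓ Subgroup.normalizer ((P : Subgroup G) : Set G) =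
        Subgroup.centralizer ((P : Subgroup G) : Set G))
    {δ : ℤ} {ζ : (↥(P : Subgroup G) →* ℂˣ) → IrrCharacter G} {a : IrrCharacter G → ℤ}
    {Y : Finset (IrrCharacter G)} (hN : Normalized0 p M P δ ζ a Y)
    {χ₂ χ₃ : IrrCharacter G} (hT : ThreeSplit M a Y χ₂ χ₃)
    {t : G} (ht : orderOf t = 2) (hK : ∀ K : Subgroup G, K.Normal → t ∈ K → K = ⊤) :
    ((if a χ₂ = -1 then 1 else 0) + (if a χ₃ = -1 then 1 else 0) + (if δ = 1 then 1 else 0) = 2) ∧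
      ∀ η ∈ Y, IsSquare (charDegree (η : G → ℂ) *
        (charDegree (χ₂ : G → ℂ) * charDegree (χ₃ : G → ℂ))) := by
  have hp : p.Prime := Fact.out
  obtain ⟨y, hyP, hy1, hty⟩ := exists_mem_sylow_not_isConj P hCN hfrob hm2 t
  have hYpos : 0 < Y.card := by
    have := hN.hYcard
    omega
  obtain ⟨η₀, hη₀⟩ := Finset.card_pos.mp hYpos
  by_cases hconj : ∃ c : G, c * t * c⁻¹ ∈ (P : Subgroup G)
  · exfalso
    obtain ⟨c, hc⟩ := hconj
    exact part_two_even_false p M hM P hm2 hCN hfrob hN hT ht hK hc (isConj_iff.mpr ⟨c, rfl⟩)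
      hyP hy1 hty hη₀
  · have hp2 : p ≠ 2 := by
      intro h
      exact hconj (exists_conj_mem_sylow_of_orderOf_eq P (ht.trans h.symm))
    have hreg : ¬ p ∣ orderOf t := by
      rw [ht]
      intro h
      exact hp2 ((Nat.prime_dvd_prime_iff_eq hp Nat.prime_two).mp h)
    have hone : ¬ p ∣ orderOf (1 : G) := by
      rw [orderOf_one]
      exact hp.one_lt.ne' ∘ Nat.dvd_one.mp
    have h0 := part_two_odd p M hM P hCN hfrob hN hT ht hK hreg hyP hy1 hty hη₀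
    refine ⟨h0.1, ?_⟩
    intro η hη
    have h1 : charDegree (η : G → ℂ) = charDegree (η₀ : G → ℂ) := by
      have h2 := (hN.hreg 1 hone).1 η hη η₀ hη₀
      rw [IsCharacter.apply_one_eq_charDegree (IsIrrCharacter.isCharacter η.2),
        IsCharacter.apply_one_eq_charDegree (IsIrrCharacter.isCharacter η₀.2)] at h2
      exact_mod_cast h2
    rw [h1]
    exact h0.2

/-- Let p be a prime, M a maximal ideal of the algebraic integers containing p, and G a finite group with a nontrivial abelian Sylow p-subgroup P, N = N_G(P), C = C_G(P), such that N/C is cyclic of order 3, #P > 4, and C_G(y) ∩ N = C for every non-identity y ∈ P. Then the principal p-block is the disjoint union of a set X of exactly 3 characters containing the principal character and a set Y of (#P − 1)/3 characters, with signs a_χ = ±1 (χ ∈ X, a = 1 at the principal character) and δ = ±1 such that every χ ∈ X takes the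 value a_χ at every element whose p-part is a non-identity element of P, and there is a map ζ from the non-principal linear characters of P onto Y, constant on N-conjugacy classes, with ζ_ψ(z) = δ·Σ ψ'(y) over the N-orbit of ψ, for z with p-part y ≠ 1 in P. If moreover G has an involution lying in no proper normal subgroup of G, then exactly two of the three numbers −δ and a_χ (χ ∈ X non-principal) equal −1, and the product of the degrees of the two non-principal members of X and of any member of Y is a perfect square. -/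
theorem result {G : Type*} [Group G] [Finite G] (p : ℕ) [Fact p.Prime] (M : Ideal Cfsg.AlgInt) (hM : Cfsg.IsPModular p M) (P : Sylow p G) (hab : IsMulCommutative P) (hP1 : Nat.card P ≠ 1) (hCN : (Subgroup.centralizer ((P : Subgroup G) : Set G)).relIndex (Subgroup.normalizer ((P : Subgroup G) : Set G)) = 3) (hcyc : ∃ g : G, g ∈ Subgroup.normalizer ((P : Subgroup G) : Set G) ∧ Subgroup.centralizer ((P : Subgroup G) : Set G) ⊔ Subgroup.zpowers g = Subgroup.normalizer ((P : Subgroup G) : Set G)) (hm2 : 3 + 1 < Nat.card P) (hfrob : ∀ y : G, y ∈ (P : Subgroup G) → y ≠ 1 → Subgroup.centralizer ({y} : Set G) ⊓ Subgroup.normalizer ((P : Subgroup G) : Set G) = Subgroup.centralizer ((P : Subgroup G) : Set G)) : ∃ (X Y : Set (Cfsg.IrrCharacter G)), Cfsg.principalBlock M G = X ∪ Y ∧ Disjoint X Y ∧ Nat.card X = 3 ∧ Nat.card Y = (Nat.card P - 1) / 3 ∧ (∃ χ₁ ∈ X, (χ₁ : G → ℂ) = fun _ => 1) ∧ ∃ (a : Cfsg.IrrCharacter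 G → ℤ) (δ : ℤ) (ζ : (↥(P : Subgroup G) →* ℂˣ) → Cfsg.IrrCharacter G), (δ = 1 ∨ δ = -1) ∧ (∀ χ ∈ X, (a χ = 1 ∨ a χ = -1) ∧ ∀ z y : G, Cfsg.IsPPart p z y → y ∈ (P : Subgroup G) → y ≠ 1 → (χ : G → ℂ) z = (a χ : ℂ)) ∧ (∀ ψ : ↥(P : Subgroup G) →* ℂˣ, ψ ≠ 1 → ζ ψ ∈ Y) ∧ (∀ η ∈ Y, ∃ ψ : ↥(P : Subgroup G) →* ℂˣ, ψ ≠ 1 ∧ ζ ψ = η) ∧ (∀ ψ ψ' : ↥(P : Subgroup G) →* ℂˣ, ψ ≠ 1 → (∃ n : G, n ∈ Subgroup.normalizer ((P : Subgroup G) : Set G) ∧ ∀ w w' : ↥(P : Subgroup G), (w' : G) = n * w * n⁻¹ → ψ' w' = ψ w) → ζ ψ' = ζ ψ) ∧ (∀ ψ : ↥(P : Subgroup G) →* ℂˣ, ψ ≠ 1 → ∀ (z : G) (y : ↥(P : Subgroup G)), Cfsg.IsPPart p z (y : G) → (y : G) ≠ 1 → (ζ ψ : G → ℂ) z = (δ : ℂ) * ∑ᶠ ψ' ∈ {ψ' : ↥(P : Subgroup G) →* ℂˣ | ∃ n : G, n ∈ Subgroup.normalizer ((P : Subgroup G) : Set G) ∧ ∀ w w' : ↥(P : Subgroup G), (w' : G) = n * w * n⁻¹ → ψ' w' = ψ w}, ((ψ' y : ℂˣ) : ℂ)) ∧ ((∃ t : G, orderOf t = 2 ∧ ∀ K : Subgroup G, K.Normal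 → t ∈ K → K = ⊤) → Nat.card {χ : Cfsg.IrrCharacter G // χ ∈ X ∧ (χ : G → ℂ) ≠ (fun _ => 1) ∧ a χ = -1} + (if δ = 1 then 1 else 0) = 2 ∧ ∀ η ∈ Y, IsSquare (Cfsg.charDegree (η : G → ℂ) * ∏ᶠ χ ∈ {χ : Cfsg.IrrCharacter G | χ ∈ X ∧ (χ : G → ℂ) ≠ fun _ => 1}, Cfsg.charDegree (χ : G → ℂ))) := by
  classical
  have hp : p.Prime := Fact.out
  have hab' : IsMulCommutative ↥(P : Subgroup G) := hab
  obtain ⟨δ, ζ, a, Y, hN⟩ := normalized0 p M hM P hm2 hCN hfrob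
  obtain ⟨χ₂, χ₃, hT⟩ := threeSplit p M hM P hm2 hN
  obtain ⟨triv, htrivdef⟩ : ∃ triv : IrrCharacter G,
      triv = ⟨fun _ => 1, Cfsg.Agent.Lib.Helper80.isIrrCharacter_one⟩ := ⟨_, rfl⟩
  have htrivB : triv ∈ principalBlock M G := by
    rw [htrivdef]
    exact Cfsg.Agent.Lib.Helper74.one_mem_principalBlock hM G
  have htrivfun : (triv : G → ℂ) = fun _ => 1 := by rw [htrivdef]
  have htrivY : triv ∉ Y := hN.htriv triv htrivfun
  have heqtriv : ∀ χ : IrrCharacter G, (χ : G → ℂ) = (fun _ => 1) → χ = triv := by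
    intro χ hχ
    apply Subtype.ext
    rw [hχ, htrivfun]
  have ht2 : triv ≠ χ₂ := fun h => hT.h2t (by rw [← h, htrivfun])
  have ht3 : triv ≠ χ₃ := fun h => hT.h3t (by rw [← h, htrivfun])
  obtain ⟨X, hXdef⟩ : ∃ X : Finset (IrrCharacter G), X = {triv, χ₂, χ₃} := ⟨_, rfl⟩
  have hmemX : ∀ χ, χ ∈ X ↔ χ = triv ∨ χ = χ₂ ∨ χ = χ₃ := by
    intro χ
    rw [hXdef]
    simp
  have hXprops : ∀ χ ∈ X, χ ∈ principalBlock M G ∧ χ ∉ Y ∧ (a χ = 1 ∨ a χ = -1) := by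
    intro χ hχ
    rcases (hmemX χ).mp hχ with h | h | h
    · rw [h]
      exact ⟨htrivB, htrivY, Or.inl (hN.hatriv triv htrivfun)⟩
    · rw [h]
      exact ⟨hT.h2B, hT.h2Y, hT.ha2⟩
    · rw [h]
      exact ⟨hT.h3B, hT.h3Y, hT.ha3⟩
  have hset : ∀ ψ : ↥(P : Subgroup G) →* ℂˣ,
      {ψ' : ↥(P : Subgroup G) →* ℂˣ | ∃ n : G,
        n ∈ Subgroup.normalizer ((P : Subgroup G) : Set G) ∧
          ∀ w w' : ↥(P : Subgroup G), (w' : G) = n * w * n⁻¹ → ψ' w' = ψ w} =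
      {ψ' : ↥(P : Subgroup G) →* ℂˣ |
        ∃ n : Subgroup.normalizer ((P : Subgroup G) : Set G),
          ∀ y : ↥(P : Subgroup G), ψ' (n • y) = ψ y} := by
    intro ψ
    ext ψ'
    simp only [Set.mem_ofPred_eq]
    constructor
    · rintro ⟨n, hn, h⟩
      exact ⟨⟨n, hn⟩, fun y => h y
        ((⟨n, hn⟩ : ↥(Subgroup.normalizer ((P : Subgroup G) : Set G))) • y) rfl⟩
    · rintro ⟨n, h⟩
      refine ⟨(n : G), n.2, ?_⟩
      intro w w' hw
      have : w' = n • w := Subtype.ext hw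
      rw [this]
      exact h w
  refine ⟨(X : Set (IrrCharacter G)), (Y : Set (IrrCharacter G)), ?_, ?_, ?_, ?_, ?_,
    a, δ, ζ, hN.hδ, ?_, ?_, ?_, ?_, ?_, ?_⟩
  · ext χ
    simp only [Set.mem_union, Finset.mem_coe]
    constructor
    · intro h
      by_cases hY : χ ∈ Y
      · exact Or.inr hY
      · left
        rw [hmemX]
        rcases hT.hall χ h hY with h1 | h1 | h1
        · exact Or.inl (heqtriv χ h1)
        · exact Or.inr (Or.inl h1)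
        · exact Or.inr (Or.inr h1)
    · rintro (h | h)
      · exact (hXprops χ h).1
      · exact hN.hYB χ h
  · rw [Set.disjoint_left]
    intro χ h1 h2
    exact (hXprops χ (Finset.mem_coe.mp h1)).2.1 (Finset.mem_coe.mp h2)
  · rw [Nat.card_coe_set_eq, Set.ncard_coe_finset, hXdef,
      Finset.card_insert_of_notMem (by simp [ht2, ht3]),
      Finset.card_insert_of_notMem (by simp [hT.h23]), Finset.card_singleton]
  · rw [Nat.card_coe_set_eq, Set.ncard_coe_finset]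
    have := hN.hYcard
    omega
  · exact ⟨triv, Finset.mem_coe.mpr ((hmemX triv).mpr (Or.inl rfl)), htrivfun⟩
  · intro χ hχ
    obtain ⟨hχB, hχY, hχa⟩ := hXprops χ (Finset.mem_coe.mp hχ)
    refine ⟨hχa, ?_⟩
    intro z y hzy hyP hy1
    rw [principalBlock_apply_eq_of_isPPart hM P hfrob hχB hzy hyP hy1]
    exact hN.hX χ hχB hχY ⟨y, hyP⟩ (fun h => hy1 (congrArg Subtype.val h))
  · intro ψ hψ
    exact Finset.mem_coe.mpr (hN.hζY ψ hψ)
  · intro η hη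
    exact hN.hYsurj η (Finset.mem_coe.mp hη)
  · rintro ψ ψ' hψ ⟨n, hn, h⟩
    exact hN.hζR ψ ψ' hψ ⟨⟨n, hn⟩, fun y => h y
      ((⟨n, hn⟩ : ↥(Subgroup.normalizer ((P : Subgroup G) : Set G))) • y) rfl⟩
  · intro ψ hψ z y hzy hy1
    rw [principalBlock_apply_eq_of_isPPart hM P hfrob (hN.hYB _ (hN.hζY ψ hψ)) hzy y.2 hy1, hset ψ]
    exact hN.hval ψ hψ y (fun h => hy1 (by rw [h]; rfl))
  · rintro ⟨t, ht, hK⟩
    obtain ⟨hcount, hsqr⟩ := part_two p M hM P hm2 hCN hfrob hN hT ht hK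
    constructor
    · have hcard : Nat.card {χ : IrrCharacter G // χ ∈ (X : Set (IrrCharacter G)) ∧
          (χ : G → ℂ) ≠ (fun _ => 1) ∧ a χ = -1} =
          (if a χ₂ = -1 then 1 else 0) + (if a χ₃ = -1 then 1 else 0) := by
        rw [Nat.card_eq_fintype_card, Fintype.card_subtype]
        have hfil : Finset.univ.filter (fun χ : IrrCharacter G =>
            χ ∈ (X : Set (IrrCharacter G)) ∧ (χ : G → ℂ) ≠ (fun _ => 1) ∧ a χ = -1) =
            ({χ₂, χ₃} : Finset (IrrCharacter G)).filter (fun χ => a χ = -1) := by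
          ext χ
          simp only [Finset.mem_filter, Finset.mem_univ, true_and, Finset.mem_coe,
            Finset.mem_insert, Finset.mem_singleton]
          rw [hmemX]
          constructor
          · rintro ⟨h1 | h1 | h1, h2, h3⟩
            · exact absurd (by rw [h1, htrivfun]) h2
            · exact ⟨Or.inl h1, h3⟩
            · exact ⟨Or.inr h1, h3⟩
          · rintro ⟨h1 | h1, h3⟩
            · refine ⟨Or.inr (Or.inl h1), ?_, h3⟩
              rw [h1]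
              exact hT.h2t
            · refine ⟨Or.inr (Or.inr h1), ?_, h3⟩
              rw [h1]
              exact hT.h3t
        rw [hfil, Finset.card_filter, Finset.sum_pair hT.h23]
      rw [hcard]
      exact hcount
    · intro η hη
      have hsetX : {χ : IrrCharacter G | χ ∈ (X : Set (IrrCharacter G)) ∧
          (χ : G → ℂ) ≠ fun _ => 1} = {χ₂, χ₃} := by
        ext χ
        simp only [Set.mem_ofPred_eq, Finset.mem_coe, Set.mem_insert_iff, Set.mem_singleton_iff]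
        rw [hmemX]
        constructor
        · rintro ⟨h1 | h1 | h1, h2⟩
          · exact absurd (by rw [h1, htrivfun]) h2
          · exact Or.inl h1
          · exact Or.inr h1
        · rintro (h1 | h1)
          · refine ⟨Or.inr (Or.inl h1), ?_⟩
            rw [h1]
            exact hT.h2t
          · refine ⟨Or.inr (Or.inr h1), ?_⟩
            rw [h1]
            exact hT.h3t
      rw [hsetX, finprod_mem_pair hT.h23]
      exact hsqr η (Finset.mem_coe.mp hη)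

end Cfsg.Agent.S4721
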