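import Cfsg.Statements.S4725
import Cfsg.Agent.Lib.Helper78.BlockSums
import Cfsg.Agent.Lib.Helper78.LocalVal
import Cfsg.Agent.Lib.Helper16.BlockBasic
import Cfsg.Agent.Lib.Helper16.Osima
import Cfsg.Agent.Lib.Helper79.Integrality

set_option autoImplicit false
set_option linter.style.haveILetI false
open Cfsg

namespace Cfsg.Agent.S4725

open Cfsg.Agent.Lib.Helper78 Cfsg.Agent.Lib.Helper16
open scoped ComplexConjugate

universe u

section

variable {G : Type u} [Group G]

theorem isCharacter_restrict (H : Subgroup G) {χ : G → ℂ} (hχ : IsCharacter G χ) :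
    IsCharacter H (fun h : H => χ h) := by
  obtain ⟨n, ρ, rfl⟩ := hχ
  exact ⟨n, resRep ρ H, rfl⟩

variable [Fintype G]

/-- The multiplicity of `χ` in the induced character is a natural number. -/
theorem exists_nat_classInner_indFun (H : Subgroup G) (ζ : IrrCharacter H) (χ : IrrCharacter G) :
    ∃ a : ℕ, classInner (indFun H (ζ : H → ℂ)) (χ : G → ℂ) = (a : ℂ) := by
  haveI : Fintype H := Fintype.ofFinite H
  rw [classInner_indFun H _ (isClassFunction_irr χ)]
  obtain ⟨n, hn⟩ := IsCharacter.exists_nat_classInner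
    (isCharacter_restrict H (IsIrrCharacter.isCharacter χ.2)) ζ
  refine ⟨n, ?_⟩
  rw [← classInner_conj_symm, hn, Complex.conj_natCast]

open Classical in
/-- The key congruence: the `B`-part of the induced character has degree `≡ ζ^G(1)` modulo the
local ideal (relative to `ζ^G(1)`). -/
theorem key_congruence (p : ℕ) (M : Ideal AlgInt) (hM : IsPModular p M) (H : Subgroup G)
    (b : Set (IrrCharacter H)) (B : Set (IrrCharacter G)) (hind : IsInducedBlock M H b B)
    (hOs : ∀ g : G, MemLocalRing M (blockCoeff B g))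
    (ζ : IrrCharacter H) (hζ : ζ ∈ b) (a : IrrCharacter G → ℕ)
    (ha : ∀ χ : IrrCharacter G, classInner (indFun H (ζ : H → ℂ)) (χ : G → ℂ) = (a χ : ℂ)) :
    MemLocalIdeal M
      (((∑ χ ∈ Finset.univ.filter (· ∈ B), a χ * charDegree (χ : G → ℂ) : ℕ) : ℂ) /
        ((H.index * charDegree (ζ : H → ℂ) : ℕ) : ℂ) - 1) := by
  haveI : Fintype H := Fintype.ofFinite H
  haveI hMp := isPModular_isPrime hM
  obtain ⟨hb, hB, hcong⟩ := hind
  obtain ⟨χ₀, hχ₀⟩ := IsPBlock_nonempty hMp.ne_top hB
  set β := blockCoeff B with hβ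
  have hζ1 : (ζ : H → ℂ) 1 ≠ 0 := IsIrrCharacter.apply_one_ne_zero ζ.2
  -- numerator
  have hnum : ((∑ χ ∈ Finset.univ.filter (· ∈ B), a χ * charDegree (χ : G → ℂ) : ℕ) : ℂ) =
      ((Nat.card G : ℂ) / (Nat.card H : ℂ)) * ((ζ : H → ℂ) 1 *
        ∑ c : ConjClasses G, β (Quotient.out c) *
          inducedCentralChar H (ζ : H → ℂ) (Quotient.out c)) := by
    rw [← sum_subgroup_mul_eq_sum_conjClasses H _ hζ1 (isClassFunction_blockCoeff B),
      ← sum_blockCoeff_mul_indFun, Cfsg.Agent.Lib.Helper78.sum_blockCoeff_mul]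
    push_cast
    apply Finset.sum_congr rfl
    intro χ _
    rw [ha χ, IsCharacter.apply_one_eq_charDegree (IsIrrCharacter.isCharacter χ.2)]
    ring
  have hden : ((H.index * charDegree (ζ : H → ℂ) : ℕ) : ℂ) =
      ((Nat.card G : ℂ) / (Nat.card H : ℂ)) * (ζ : H → ℂ) 1 := by
    have hH : (Nat.card H : ℂ) ≠ 0 := by
      exact_mod_cast (Nat.card_pos (α := H)).ne'
    have := H.index_mul_card
    push_cast
    rw [IsCharacter.apply_one_eq_charDegree (IsIrrCharacter.isCharacter ζ.2), ← this]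
    push_cast
    field_simp
  have hden0 : ((Nat.card G : ℂ) / (Nat.card H : ℂ)) * (ζ : H → ℂ) 1 ≠ 0 := by
    have hH : (Nat.card H : ℂ) ≠ 0 := by
      exact_mod_cast (Nat.card_pos (α := H)).ne'
    have hG : (Nat.card G : ℂ) ≠ 0 := NeZero.ne _
    exact mul_ne_zero (div_ne_zero hG hH) hζ1
  rw [hnum, hden]
  have h1 := sum_conjClasses_blockCoeff_mul_centralChar B hχ₀
  have : ((Nat.card G : ℂ) / (Nat.card H : ℂ)) * ((ζ : H → ℂ) 1 *
        ∑ c : ConjClasses G, β (Quotient.out c) *
          inducedCentralChar H (ζ : H → ℂ) (Quotient.out c)) /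
      (((Nat.card G : ℂ) / (Nat.card H : ℂ)) * (ζ : H → ℂ) 1) - 1 =
      ∑ c : ConjClasses G, β (Quotient.out c) *
        (inducedCentralChar H (ζ : H → ℂ) (Quotient.out c) -
          centralChar (χ₀ : G → ℂ) (Quotient.out c)) := by
    simp_rw [mul_sub, Finset.sum_sub_distrib]
    rw [h1, ← mul_assoc, mul_div_cancel_left₀ _ hden0]
  rw [this]
  apply memLocalIdeal_sum
  intro c _
  exact memLocalIdeal_mul_left (hOs _) (hcong ζ hζ χ₀ hχ₀ _)

theorem main_of_osima (p : ℕ) [Fact p.Prime] (M : Ideal AlgInt) (hM : IsPModular p M)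
    (H : Subgroup G) (b : Set (IrrCharacter H)) (B : Set (IrrCharacter G))
    (hind : IsInducedBlock M H b B)
    (hOs : ∀ g : G, MemLocalRing M (blockCoeff B g))
    (hdef : blockDefect p b = blockDefect p B) (ζ : IrrCharacter H) (hζ : ζ ∈ b)
    (hζ0 : blockHeight p b (ζ : H → ℂ) = 0) :
    ∃ χ ∈ B, blockHeight p B (χ : G → ℂ) = 0 ∧ ∃ a : ℕ,
      classInner (indFun H (ζ : H → ℂ)) (χ : G → ℂ) = (a : ℂ) ∧ ¬ p ∣ a := by
  classical
  have hp : p.Prime := Fact.out
  haveI hMp := isPModular_isPrime hM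
  obtain ⟨χ₀, hχ₀⟩ := IsPBlock_nonempty hMp.ne_top hind.2.1
  choose a ha using exists_nat_classInner_indFun H ζ
  have hkey := key_congruence p M hM H b B hind hOs ζ hζ a ha
  set N := ∑ χ ∈ Finset.univ.filter (· ∈ B), a χ * charDegree (χ : G → ℂ) with hN
  set D := H.index * charDegree (ζ : H → ℂ) with hD
  have hζpos : 0 < charDegree (ζ : H → ℂ) := IsIrrCharacter.charDegree_pos ζ.2
  have hidx : H.index ≠ 0 := Subgroup.index_ne_zero_of_finite
  have hD0 : D ≠ 0 := Nat.mul_ne_zero hidx hζpos.ne'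
  obtain ⟨hN0, hval⟩ := factorization_eq_of_div_sub_one_memLocalIdeal hM hD0 hkey
  -- bookkeeping of p-parts
  set mb := sInf ((fun ψ : IrrCharacter H => (charDegree (ψ : H → ℂ)).factorization p) '' b)
    with hmb
  set mB := sInf ((fun ψ : IrrCharacter G => (charDegree (ψ : G → ℂ)).factorization p) '' B)
    with hmB
  have h1 : mb ≤ (charDegree (ζ : H → ℂ)).factorization p := Nat.sInf_le ⟨ζ, hζ, rfl⟩
  have h2 : (charDegree (ζ : H → ℂ)).factorization p ≤ mb := by
    unfold blockHeight at hζ0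
    exact Nat.sub_eq_zero_iff_le.mp hζ0
  have h3 : (charDegree (ζ : H → ℂ)).factorization p ≤ (Nat.card H).factorization p := by
    have hdvd := Cfsg.Agent.Lib.Helper79.irr_charDegree_dvd_card ζ
    exact (Nat.factorization_le_iff_dvd hζpos.ne' Nat.card_pos.ne').mpr hdvd p
  have h4 : mB ≤ (Nat.card G).factorization p := by
    have hdvd := Cfsg.Agent.Lib.Helper79.irr_charDegree_dvd_card χ₀
    have hpos : 0 < charDegree (χ₀ : G → ℂ) := IsIrrCharacter.charDegree_pos χ₀.2
    have hle : mB ≤ (charDegree (χ₀ : G → ℂ)).factorization p := Nat.sInf_le ⟨χ₀, hχ₀, rfl⟩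
    exact hle.trans ((Nat.factorization_le_iff_dvd hpos.ne' Nat.card_pos.ne').mpr hdvd p)
  have h5 : (Nat.card G).factorization p =
      H.index.factorization p + (Nat.card H).factorization p := by
    rw [← H.index_mul_card, Nat.factorization_mul hidx Nat.card_pos.ne']
    rfl
  have h6 : D.factorization p =
      H.index.factorization p + (charDegree (ζ : H → ℂ)).factorization p := by
    rw [hD, Nat.factorization_mul hidx hζpos.ne']
    rfl
  have h7 : (Nat.card H).factorization p - mb = (Nat.card G).factorization p - mB := hdef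
  have hNval : N.factorization p = mB := by omega
  -- find the character
  by_contra hcon
  push Not at hcon
  have hdvd : p ^ (mB + 1) ∣ N := by
    apply Finset.dvd_sum
    intro χ hχ
    simp only [Finset.mem_filter, Finset.mem_univ, true_and] at hχ
    have hle : mB ≤ (charDegree (χ : G → ℂ)).factorization p := Nat.sInf_le ⟨χ, hχ, rfl⟩
    have hpow : p ^ (charDegree (χ : G → ℂ)).factorization p ∣ charDegree (χ : G → ℂ) :=
      Nat.ordProj_dvd _ _
    by_cases hh : blockHeight p B (χ : G → ℂ) = 0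
    · have hpa : p ∣ a χ := hcon χ hχ hh (a χ) (ha χ)
      rw [pow_succ, mul_comm]
      exact Nat.mul_dvd_mul hpa ((pow_dvd_pow p hle).trans hpow)
    · have : mB + 1 ≤ (charDegree (χ : G → ℂ)).factorization p := by
        unfold blockHeight at hh
        omega
      exact Dvd.dvd.mul_left ((pow_dvd_pow p this).trans hpow) _
  have := (hp.pow_dvd_iff_le_factorization hN0).mp hdvd
  omega

end

/-- Let p be a prime, M a maximal ideal of the algebraic integers containing p, H a subgroup of the finite group G, and b a p-block of H inducing the p-block B of G, with b and B of the same defect. Then for every height-zero ζ ∈ b there is a height-zero χ ∈ B whose multiplicity in the character induced from ζ is not divisible by p. -/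
theorem result {G : Type*} [Group G] [Fintype G] (p : ℕ) [Fact p.Prime] (M : Ideal Cfsg.AlgInt) (hM : Cfsg.IsPModular p M) (H : Subgroup G) (b : Set (Cfsg.IrrCharacter ↥H)) (B : Set (Cfsg.IrrCharacter G)) (hind : Cfsg.IsInducedBlock M H b B) (hdef : Cfsg.blockDefect p b = Cfsg.blockDefect p B) (ζ : Cfsg.IrrCharacter ↥H) (hζ : ζ ∈ b) (hζ0 : Cfsg.blockHeight p b (ζ : ↥H → ℂ) = 0) : ∃ χ ∈ B, Cfsg.blockHeight p B (χ : G → ℂ) = 0 ∧ ∃ a : ℕ, Cfsg.classInner (Cfsg.indFun H (ζ : ↥H → ℂ)) (χ : G → ℂ) = (a : ℂ) ∧ ¬ p ∣ a := by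
  haveI := isPModular_isPrime hM
  exact main_of_osima p M hM H b B hind (fun g => blockCoeff_memLocalRing hind.2.1 g) hdef ζ hζ hζ0

end Cfsg.Agent.S4725
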