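import Cfsg.Statements.S4726
import Cfsg.Agent.Lib.Helper16.InducedCent

set_option autoImplicit false
open Cfsg Cfsg.Agent.Lib.Helper16

namespace Cfsg.Agent.S4726

/-- Let p be a prime, M a maximal ideal of the algebraic integers containing p, H a subgroup of the finite group G and b a p-block of H with defect group D₀ such that C_G(D₀) ≤ H. Then b induces a block of G, and for every block B of G induced by b there is a defect group D of B with Z(D) ≤ Z(D₀) ≤ D₀ ≤ D (as subgroups of G). In particular, if the defect groups of B are abelian then D₀ is a defect group of B. -/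
theorem result {G : Type*} [Group G] [Finite G] (p : ℕ) [Fact p.Prime] (M : Ideal Cfsg.AlgInt) (hM : Cfsg.IsPModular p M) (H : Subgroup G) (b : Set (Cfsg.IrrCharacter ↥H)) (hb : Cfsg.IsPBlock M b) (D₀ : Subgroup ↥H) (hD₀ : Cfsg.IsDefectGroup p M b D₀) (hC : Subgroup.centralizer ((D₀.map H.subtype : Subgroup G) : Set G) ≤ H) : Cfsg.InducedBlockDefined M H b ∧ ∀ B : Set (Cfsg.IrrCharacter G), Cfsg.IsInducedBlock M H b B → (∃ D : Subgroup G, Cfsg.IsDefectGroup p M B D ∧ (Subgroup.center ↥D).map D.subtype ≤ ((Subgroup.center ↥D₀).map D₀.subtype).map H.subtype ∧ ((Subgroup.center ↥D₀).map D₀.subtype).map H.subtype ≤ D₀.map H.subtype ∧ D₀.map H.subtype ≤ D) ∧ (∀ D : Subgroup G, Cfsg.IsDefectGroup p M B D → IsMulCommutative ↥D → Cfsg.IsDefectGroup p M B (D₀.map H.subtype)) := by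
  classical
  have : Fintype G := Fintype.ofFinite G
  obtain ⟨h1, h2⟩ := induced_of_centralizer_defectGroup_le hM H hb hD₀ hC
  refine ⟨h1, ?_⟩
  intro B hind
  obtain ⟨D, hD, hle, hinf⟩ := h2 B hind
  have hcen : (Subgroup.center ↥D).map D.subtype ≤
      ((Subgroup.center ↥D₀).map D₀.subtype).map H.subtype := by
    rintro _ ⟨z, hz, rfl⟩
    have hzc : (z : G) ∈ Subgroup.centralizer ((D₀.map H.subtype : Subgroup G) : Set G) := by
      rw [Subgroup.mem_centralizer_iff]
      intro y hy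
      have hyD : y ∈ D := hle hy
      have h3 := Subgroup.mem_center_iff.mp hz ⟨y, hyD⟩
      exact congrArg Subtype.val h3
    have hzH : (z : G) ∈ H := hC hzc
    have hzP : (z : G) ∈ D₀.map H.subtype := by
      rw [← hinf]
      exact ⟨z.2, hzH⟩
    obtain ⟨t, ht, hteq⟩ := hzP
    refine ⟨t, ⟨⟨t, ht⟩, ?_, rfl⟩, hteq⟩
    rw [SetLike.mem_coe, Subgroup.mem_center_iff]
    intro s
    apply Subtype.ext
    apply Subtype.ext
    have hsP : ((s : ↥H) : G) ∈ D₀.map H.subtype := ⟨s, s.2, rfl⟩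
    have h4 := Subgroup.mem_centralizer_iff.mp hzc _ hsP
    rw [← hteq] at h4
    exact h4
  have hmid : ((Subgroup.center ↥D₀).map D₀.subtype).map H.subtype ≤ D₀.map H.subtype := by
    apply Subgroup.map_mono
    rintro _ ⟨s, _, rfl⟩
    exact s.2
  refine ⟨⟨D, hD, hcen, hmid, hle⟩, ?_⟩
  intro D' hD' hcomm
  obtain ⟨z, hz⟩ := exists_conj_eq_of_isDefectGroup hM hind.2.1 hD' hD
  have hDcomm : ∀ x ∈ D, ∀ y ∈ D, x * y = y * x := by
    intro x hx y hy
    rw [← hz] at hx hy
    obtain ⟨x', hx', rfl⟩ := hx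
    obtain ⟨y', hy', rfl⟩ := hy
    have h5 : (⟨x', hx'⟩ : ↥D') * ⟨y', hy'⟩ = ⟨y', hy'⟩ * ⟨x', hx'⟩ := mul_comm' _ _
    have h6 : x' * y' = y' * x' := congrArg Subtype.val h5
    rw [← map_mul, ← map_mul, h6]
  have hDP : D ≤ D₀.map H.subtype := by
    intro x hx
    have h7 : x ∈ (Subgroup.center ↥D).map D.subtype := by
      refine ⟨⟨x, hx⟩, ?_, rfl⟩
      rw [SetLike.mem_coe, Subgroup.mem_center_iff]
      intro g
      exact Subtype.ext (hDcomm g g.2 x hx)
    exact hmid (hcen h7)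
  have hDeq : D = D₀.map H.subtype := le_antisymm hDP hle
  rw [← hDeq]
  exact hD

end Cfsg.Agent.S4726
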