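import Cfsg.Statements.S4735
import Cfsg.Agent.Lib.Helper75.PrimeCoreBlock
import Cfsg.Agent.Lib.Helper78.BlockSums
import Cfsg.Agent.Lib.Helper78.CharMore
import Cfsg.Agent.Lib.Helper76.PCore

set_option autoImplicit false
open Cfsg

namespace Cfsg.Agent.S4735

/-- Let p be a prime, M a maximal ideal of the algebraic integers containing p, G a finite group, H = O_p'(G) and Ḡ = G/H. For x ∈ G write λ(G, x) for the sum of |χ(x)|^2 over the irreducible characters χ in the principal p-block of G. Then λ(G, x) is a positive integer, λ(G, x) = λ(Ḡ, x̄) where x̄ is the image of x, and λ(G, x) ≤ #C_Ḡ(x̄). Moreover λ(G, 1) = [G : H] if and only if the principal block is the only p-block of Ḡ. -/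
theorem result {G : Type*} [Group G] [Finite G] (p : ℕ) [Fact p.Prime] (M : Ideal Cfsg.AlgInt) (hM : Cfsg.IsPModular p M) (x : G) : (∃ n : ℕ, 0 < n ∧ ∑ᶠ χ ∈ Cfsg.principalBlock M G, Complex.normSq ((χ : G → ℂ) x) = n) ∧ ∑ᶠ χ ∈ Cfsg.principalBlock M G, Complex.normSq ((χ : G → ℂ) x) = ∑ᶠ ψ ∈ Cfsg.principalBlock M (G ⧸ Cfsg.pPrimeCore p G), Complex.normSq ((ψ : G ⧸ Cfsg.pPrimeCore p G → ℂ) (QuotientGroup.mk x)) ∧ ∑ᶠ χ ∈ Cfsg.principalBlock M G, Complex.normSq ((χ : G → ℂ) x) ≤ (Nat.card ↥(Subgroup.centralizer ({(QuotientGroup.mk x : G ⧸ Cfsg.pPrimeCore p G)} : Set (G ⧸ Cfsg.pPrimeCore p G))) : ℝ) ∧ ((∑ᶠ χ ∈ Cfsg.principalBlock M G, Cfsg.charDegree (χ : G → ℂ) ^ 2) = (Cfsg.pPrimeCore p G).index ↔ ∀ B : Set (Cfsg.IrrCharacter (G ⧸ Cfsg.pPrimeCore p G)), Cfsg.IsPBlock M B → B = Cfsg.principalBlock M (G ⧸ Cfsg.pPrimeCore p G)) := by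
  classical
  have : Fintype G := Fintype.ofFinite G
  have hMp : M.IsPrime := Cfsg.Agent.Lib.Helper16.isPModular_isPrime hM
  set H := Cfsg.pPrimeCore p G with hH
  have hpH : ¬ p ∣ Nat.card H := by
    have hc := Cfsg.Agent.Lib.Helper76.pPrimeCore_coprime (G := G) p
    intro hd
    have := Nat.Coprime.eq_one_of_dvd hc.symm hd
    exact (Fact.out : p.Prime).one_lt.ne' this
  have : Fintype (G ⧸ H) := Fintype.ofFinite _
  -- transfer to the quotient
  have htrans : ∑ᶠ χ ∈ Cfsg.principalBlock M G, Complex.normSq ((χ : G → ℂ) x) =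
      ∑ᶠ ψ ∈ Cfsg.principalBlock M (G ⧸ H),
        Complex.normSq ((ψ : G ⧸ H → ℂ) (QuotientGroup.mk x)) :=
    Cfsg.Agent.Lib.Helper75.finsum_principalBlock_eq_finsum_quotient H hM hpH
      (fun χ => Complex.normSq ((χ : G → ℂ) x))
  refine ⟨?_, htrans, ?_, ?_⟩
  · -- integrality and positivity
    have hstab : ∀ (u : ℕ) (hu : u.Coprime (Nat.card G)) (χ : Cfsg.IrrCharacter G),
        Cfsg.Agent.Lib.Helper75.powIrr u hu χ ∈ Cfsg.principalBlock M G ↔
          χ ∈ Cfsg.principalBlock M G :=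
      fun u hu χ => Cfsg.Agent.Lib.Helper75.powIrr_mem_principalBlock_iff M u hu χ
    obtain ⟨z, hz⟩ := Cfsg.Agent.Lib.Helper75.exists_int_sum_mul_conj_of_pow_stable
      (Cfsg.principalBlock M G) hstab x
    have hsum : ∑ᶠ χ ∈ Cfsg.principalBlock M G, Complex.normSq ((χ : G → ℂ) x) =
        ∑ χ : {χ : Cfsg.IrrCharacter G // χ ∈ Cfsg.principalBlock M G},
          Complex.normSq ((χ.1 : G → ℂ) x) := by
      rw [Cfsg.Agent.Lib.Helper78.finsum_mem_eq_sum_filter_univ]
      exact Finset.sum_subtype _ (fun χ => by simp) _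
    have hzr : ∑ᶠ χ ∈ Cfsg.principalBlock M G, Complex.normSq ((χ : G → ℂ) x) = (z : ℝ) := by
      rw [hsum]
      apply Complex.ofReal_injective
      push_cast
      rw [← hz]
      refine Finset.sum_congr rfl fun χ _ => ?_
      rw [Complex.mul_conj]
    have hpos : (1 : ℝ) ≤ ∑ᶠ χ ∈ Cfsg.principalBlock M G, Complex.normSq ((χ : G → ℂ) x) := by
      rw [Cfsg.Agent.Lib.Helper78.finsum_mem_eq_sum_filter_univ]
      have hmem : Cfsg.Agent.Lib.Helper75.oneIrr G ∈
          Finset.univ.filter (· ∈ Cfsg.principalBlock M G) := by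
        rw [Finset.mem_filter]
        exact ⟨Finset.mem_univ _, Cfsg.Agent.Lib.Helper16.self_mem_blockOf hMp.ne_top
          (Cfsg.Agent.Lib.Helper75.oneIrr G)⟩
      have h1 := Finset.single_le_sum
        (f := fun χ : Cfsg.IrrCharacter G => Complex.normSq ((χ : G → ℂ) x))
        (fun χ _ => Complex.normSq_nonneg _) hmem
      have h2 : Complex.normSq ((Cfsg.Agent.Lib.Helper75.oneIrr G : G → ℂ) x) = 1 := by
        rw [Cfsg.Agent.Lib.Helper75.oneIrr_apply, map_one]
      rw [h2] at h1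
      exact h1
    rw [hzr] at hpos ⊢
    have hz1 : 1 ≤ z := by exact_mod_cast hpos
    refine ⟨z.toNat, by omega, ?_⟩
    have : ((z.toNat : ℤ) : ℝ) = (z : ℝ) := by
      rw [Int.toNat_of_nonneg (by omega)]
    exact_mod_cast this.symm
  · -- the centralizer bound
    rw [htrans, Cfsg.Agent.Lib.Helper78.finsum_mem_eq_sum_filter_univ]
    have hall : ∑ ψ : Cfsg.IrrCharacter (G ⧸ H),
        Complex.normSq ((ψ : G ⧸ H → ℂ) (QuotientGroup.mk x)) =
        (Nat.card ↥(Subgroup.centralizer ({(QuotientGroup.mk x : G ⧸ H)} : Set (G ⧸ H))) : ℝ) := by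
      apply Complex.ofReal_injective
      push_cast
      rw [← Cfsg.Agent.Lib.Helper78.second_orthogonality_of_isConj
        (IsConj.refl (QuotientGroup.mk x : G ⧸ H))]
      refine Finset.sum_congr rfl fun ψ _ => ?_
      rw [Complex.mul_conj]
    rw [← hall]
    exact Finset.sum_le_sum_of_subset_of_nonneg (Finset.filter_subset _ _)
      (fun ψ _ _ => Complex.normSq_nonneg _)
  · -- the single-block criterion
    have htransd : ∑ᶠ χ ∈ Cfsg.principalBlock M G, Cfsg.charDegree (χ : G → ℂ) ^ 2 =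
        ∑ᶠ ψ ∈ Cfsg.principalBlock M (G ⧸ H), Cfsg.charDegree (ψ : G ⧸ H → ℂ) ^ 2 := by
      rw [Cfsg.Agent.Lib.Helper75.finsum_principalBlock_eq_finsum_quotient H hM hpH
        (fun χ => Cfsg.charDegree (χ : G → ℂ) ^ 2)]
      refine finsum_congr fun ψ => ?_
      refine finsum_congr fun _ => ?_
      congr 1
    have hall := Cfsg.Agent.Lib.Helper78.sum_irr_charDegree_sq (G := G ⧸ H)
    have hidx : Nat.card (G ⧸ H) = H.index := (Subgroup.index_eq_card H).symm
    rw [htransd, Cfsg.Agent.Lib.Helper78.finsum_mem_eq_sum_filter_univ, ← hidx, ← hall]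
    constructor
    · intro heq B hB
      -- every character lies in the principal block
      have hallmem : ∀ ψ : Cfsg.IrrCharacter (G ⧸ H), ψ ∈ Cfsg.principalBlock M (G ⧸ H) := by
        intro ψ
        by_contra hψ
        have hlt : ∑ ψ ∈ Finset.univ.filter (· ∈ Cfsg.principalBlock M (G ⧸ H)),
            Cfsg.charDegree (ψ : G ⧸ H → ℂ) ^ 2 <
            ∑ ψ : Cfsg.IrrCharacter (G ⧸ H), Cfsg.charDegree (ψ : G ⧸ H → ℂ) ^ 2 := by
          apply Finset.sum_lt_sum_of_subset (Finset.filter_subset _ _) (Finset.mem_univ ψ)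
          · simpa using hψ
          · exact pow_pos (Cfsg.Agent.Lib.Helper79.irr_charDegree_pos ψ) 2
          · intro j _ _
            exact Nat.zero_le _
        exact absurd heq hlt.ne
      obtain ⟨ψ₀, hψ₀⟩ := Cfsg.Agent.Lib.Helper16.IsPBlock_nonempty hMp.ne_top hB
      exact Cfsg.Agent.Lib.Helper16.IsPBlock_eq_of_mem hB
        (Cfsg.Agent.Lib.Helper16.isPBlock_blockOf (Cfsg.Agent.Lib.Helper75.oneIrr (G ⧸ H)))
        hψ₀ (hallmem ψ₀)
    · intro hsingle
      congr 1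
      ext ψ
      simp only [Finset.mem_filter, Finset.mem_univ, true_and, iff_true]
      have hb := hsingle _ (Cfsg.Agent.Lib.Helper16.isPBlock_blockOf ψ)
      rw [← hb]
      exact Cfsg.Agent.Lib.Helper16.self_mem_blockOf hMp.ne_top ψ

end Cfsg.Agent.S4735
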