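import Cfsg.Statements.S4736
import Cfsg.Agent.S4713
import Cfsg.Agent.Lib.Helper77.FongPrincipal
import Cfsg.Agent.Lib.Helper79.Integrality

set_option autoImplicit false
open Cfsg

namespace Cfsg.Agent.S4736

open Cfsg.Agent.Lib Cfsg.Agent.Lib.Helper16 Cfsg.Agent.Lib.Helper77

section

variable {G : Type*} [Group G] [Finite G] {p : ℕ} [Fact p.Prime] {M : Ideal AlgInt}

omit [Finite G] [Fact p.Prime] in
/-- In the principal block, the height of a character is the `p`-adic valuation of its degree. -/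
theorem blockHeight_principalBlock (hM : M ≠ ⊤) (χ : G → ℂ) :
    blockHeight p (principalBlock M G) χ = (charDegree χ).factorization p := by
  unfold blockHeight
  have h0 : sInf ((fun ψ : IrrCharacter G => (charDegree (ψ : G → ℂ)).factorization p) ''
      principalBlock M G) = 0 := by
    apply Nat.eq_zero_of_le_zero
    apply Nat.sInf_le
    refine ⟨Cfsg.Agent.S4691.oneIrr G, sameBlock_refl hM _, ?_⟩
    have : charDegree ((Cfsg.Agent.S4691.oneIrr G : IrrCharacter G) : G → ℂ) = 1 := by
      show ⌊((1 : ℂ)).re⌋₊ = 1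
      simp
    show (charDegree ((Cfsg.Agent.S4691.oneIrr G : IrrCharacter G) : G → ℂ)).factorization p = 0
    rw [this]
    simp
  rw [h0, Nat.sub_zero]

theorem blockHeight_principalBlock_eq_zero_iff (hM : M ≠ ⊤) (χ : IrrCharacter G) :
    blockHeight p (principalBlock M G) (χ : G → ℂ) = 0 ↔ ¬ p ∣ charDegree (χ : G → ℂ) := by
  rw [blockHeight_principalBlock hM, Nat.factorization_eq_zero_iff]
  have hpos := Helper79.irr_charDegree_pos χ
  have hp : p.Prime := Fact.out
  constructor
  · rintro (h | h | h)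
    · exact absurd hp h
    · exact h
    · omega
  · intro h
    exact Or.inr (Or.inl h)

end

/-- Let p be a prime, M a maximal ideal of the algebraic integers containing p, and G a finite p-solvable group with Sylow p-subgroup P. Then P is abelian if and only if every irreducible character in the principal p-block of G has height zero. -/
theorem result {G : Type*} [Group G] [Finite G] (p : ℕ) [Fact p.Prime] (M : Ideal Cfsg.AlgInt) (hM : Cfsg.IsPModular p M) (hsolv : Cfsg.IsPSolvable p G) (P : Sylow p G) : IsMulCommutative P ↔ ∀ χ ∈ Cfsg.principalBlock M G, Cfsg.blockHeight p (Cfsg.principalBlock M G) (χ : G → ℂ) = 0 := by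
  classical
  have hMp : M.IsPrime := isPModular_isPrime hM
  have hMt : M ≠ ⊤ := hMp.ne_top
  set N := pPrimeCore p G with hN
  have hq : IsPSolvable p (G ⧸ N) :=
    Helper76.IsPSolvable_of_surjective p (QuotientGroup.mk' N) (QuotientGroup.mk'_surjective _) hsolv
  have hcore : pPrimeCore p (G ⧸ N) = ⊥ := Helper54.pPrimeCore_quotient_pPrimeCore p
  have hNcop : (Nat.card N).Coprime p := Helper76.pPrimeCore_coprime (G := G) p
  have hB := principalBlock_eq_of_isPSolvable p M hM hsolv
  set P' : Sylow p (G ⧸ N) := P.mapSurjective (QuotientGroup.mk'_surjective N) with hP'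
  have hP'coe : (P' : Subgroup (G ⧸ N)) = (P : Subgroup G).map (QuotientGroup.mk' N) := rfl
  have key := Cfsg.Agent.S4713.result p hq P'
  -- elements of `P ∩ N` are trivial
  have htriv : ∀ x : G, x ∈ (P : Subgroup G) → x ∈ N → x = 1 := by
    intro x hxP hxN
    obtain ⟨k, hk⟩ := (P.2 ⟨x, hxP⟩)
    have hk' : x ^ p ^ k = 1 := congrArg Subtype.val hk
    have h2 : x ^ Nat.card N = 1 := by
      have := pow_card_eq_one' (G := N) (x := ⟨x, hxN⟩)
      exact congrArg Subtype.val this
    have hcop : (p ^ k).Coprime (Nat.card N) := (Nat.Coprime.pow_left k hNcop.symm)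
    have h3 : orderOf x ∣ Nat.gcd (p ^ k) (Nat.card N) :=
      Nat.dvd_gcd (orderOf_dvd_of_pow_eq_one hk') (orderOf_dvd_of_pow_eq_one h2)
    rw [hcop, Nat.dvd_one, orderOf_eq_one_iff] at h3
    exact h3
  have hdeg : ∀ χ' : IrrCharacter (G ⧸ N),
      charDegree ((inflate N χ' : IrrCharacter G) : G → ℂ) = charDegree (χ' : G ⧸ N → ℂ) := by
    intro χ'
    unfold charDegree
    rw [inflate_apply, QuotientGroup.mk_one]
  constructor
  · -- abelian Sylow ⇒ all heights zero
    intro hab χ hχ
    rw [blockHeight_principalBlock_eq_zero_iff hMt]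
    rw [hB] at hχ
    have hχ' : ∀ n ∈ N, (χ : G → ℂ) n = (χ : G → ℂ) 1 := hχ
    have h1 : charDegree (χ : G → ℂ) = charDegree (deflate N χ hχ' : G ⧸ N → ℂ) := by
      rw [← hdeg, inflate_deflate]
    rw [h1]
    refine key.mp ⟨?_, ?_⟩ _
    · -- `P'` is normal: it equals `O_p(G/N)`
      have hHH := Helper76.centralizer_pCore_le (G := G ⧸ N) p hq (by
        intro K hKn hKc
        rw [eq_bot_iff, ← hcore]
        exact Helper76.le_pPrimeCore p K hKn hKc)
      have h2 : (P' : Subgroup (G ⧸ N)) ≤ Subgroup.centralizer (pCore p (G ⧸ N) : Set (G ⧸ N)) := by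
        intro x hx
        rw [Subgroup.mem_centralizer_iff]
        intro y hy
        have hy' : y ∈ (P' : Subgroup (G ⧸ N)) := Helper76.pCore_le_sylow p P' hy
        rw [hP'coe] at hx hy'
        obtain ⟨a, ha, rfl⟩ := hx
        obtain ⟨b, hb, rfl⟩ := hy'
        have hc : (⟨b, hb⟩ : (P : Subgroup G)) * ⟨a, ha⟩ = ⟨a, ha⟩ * ⟨b, hb⟩ :=
          hab.is_comm.comm _ _
        have hc' : b * a = a * b := congrArg Subtype.val hc
        rw [← map_mul, ← map_mul, hc']
      have h3 : (P' : Subgroup (G ⧸ N)) = pCore p (G ⧸ N) :=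
        le_antisymm (h2.trans hHH) (Helper76.pCore_le_sylow p P')
      rw [h3]
      infer_instance
    · -- `P'` is commutative
      refine ⟨⟨?_⟩⟩
      rintro ⟨x, hx⟩ ⟨y, hy⟩
      apply Subtype.ext
      show x * y = y * x
      rw [hP'coe] at hx hy
      obtain ⟨a, ha, rfl⟩ := hx
      obtain ⟨b, hb, rfl⟩ := hy
      have hc : (⟨a, ha⟩ : (P : Subgroup G)) * ⟨b, hb⟩ = ⟨b, hb⟩ * ⟨a, ha⟩ :=
        hab.is_comm.comm _ _
      have hc' : a * b = b * a := congrArg Subtype.val hc
      rw [← map_mul, ← map_mul, hc']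
  · -- all heights zero ⇒ abelian Sylow
    intro hht
    have h1 : ∀ χ' : IrrCharacter (G ⧸ N), ¬ p ∣ charDegree (χ' : G ⧸ N → ℂ) := by
      intro χ'
      rw [← hdeg, ← blockHeight_principalBlock_eq_zero_iff (M := M) hMt]
      apply hht
      rw [hB]
      exact inflate_apply_of_mem N χ'
    obtain ⟨-, hab'⟩ := key.mpr h1
    refine ⟨⟨?_⟩⟩
    rintro ⟨x, hx⟩ ⟨y, hy⟩
    apply Subtype.ext
    show x * y = y * x
    have hx' : (QuotientGroup.mk' N x) ∈ (P' : Subgroup (G ⧸ N)) := by
      rw [hP'coe]; exact ⟨x, hx, rfl⟩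
    have hy' : (QuotientGroup.mk' N y) ∈ (P' : Subgroup (G ⧸ N)) := by
      rw [hP'coe]; exact ⟨y, hy, rfl⟩
    have hc : (⟨_, hx'⟩ : (P' : Subgroup (G ⧸ N))) * ⟨_, hy'⟩ = ⟨_, hy'⟩ * ⟨_, hx'⟩ :=
      hab'.is_comm.comm _ _
    have hc' : QuotientGroup.mk' N x * QuotientGroup.mk' N y =
        QuotientGroup.mk' N y * QuotientGroup.mk' N x := congrArg Subtype.val hc
    rw [← map_mul, ← map_mul] at hc'
    have h4 : (y * x)⁻¹ * (x * y) ∈ N := by
      have := QuotientGroup.eq.mp hc'.symm
      exact this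
    have h5 : (y * x)⁻¹ * (x * y) ∈ (P : Subgroup G) :=
      mul_mem (inv_mem (mul_mem hy hx)) (mul_mem hx hy)
    have h6 := htriv _ h5 h4
    rw [inv_mul_eq_one] at h6
    exact h6.symm

end Cfsg.Agent.S4736
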