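import Cfsg.Statements.S4737
-- import your own Cfsg.Agent.* helpers here
import Cfsg.Agent.Lib.Helper79.ClassCount
import Cfsg.Agent.Lib.Helper79.Schur
import Cfsg.Agent.Lib.Helper82.BraidFiber
import Cfsg.Agent.Lib.Helper82.DetParity

set_option autoImplicit false
open Cfsg

namespace Cfsg.Agent.S4737

open Cfsg.Agent.Lib.Helper79 Cfsg.Agent.Lib.Helper82.Braid Cfsg.Agent.Lib.Helper82.DetParity

theorem isIntegral_natCast_complex (n : ℕ) : IsIntegral ℤ (n : ℂ) := by
  simpa using (isIntegral_algebraMap (R := ℤ) (A := ℂ) (x := (n : ℤ)))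

/-- Let G be a finite group of order divisible by 6. Then the number of irreducible characters of G whose degree has the same 2-part as the order of G (the characters of 2-defect zero, each forming a 2-block of defect zero on its own) is at least the number of conjugacy classes of elements of order 3 that normalize no nontrivial 2-subgroup of G. In particular G has a 2-block of defect zero as soon as some element of order 3 normalizes no nontrivial 2-subgroup. -/
theorem result {G : Type*} [Group G] [Finite G] (h6 : 6 ∣ Nat.card G) : Nat.card {C : ConjClasses G // ∃ g ∈ C.carrier, orderOf g = 3 ∧ ∀ Q : Subgroup G, IsPGroup 2 ↥Q → g ∈ Subgroup.normalizer (Q : Set G) → Q = ⊥} ≤ Nat.card {χ : Cfsg.IrrCharacter G // (Cfsg.charDegree (χ : G → ℂ)).factorization 2 = (Nat.card G).factorization 2} := by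
  classical
  have := Fintype.ofFinite G
  have : Fintype (Cfsg.IrrCharacter G) := Fintype.ofFinite _
  have hG0 : (Nat.card G : ℂ) ≠ 0 := by exact_mod_cast Nat.card_pos.ne'
  let ι := {C : ConjClasses G // ∃ g ∈ C.carrier, orderOf g = 3 ∧ ∀ Q : Subgroup G, IsPGroup 2 ↥Q → g ∈ Subgroup.normalizer (Q : Set G) → Q = ⊥}
  let P : Cfsg.IrrCharacter G → Prop := fun χ =>
    (Cfsg.charDegree (χ : G → ℂ)).factorization 2 = (Nat.card G).factorization 2
  let Z := {χ : Cfsg.IrrCharacter G // P χ}
  have : Fintype ι := Fintype.ofFinite _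
  have : Fintype Z := Fintype.ofFinite _
  show Nat.card ι ≤ Nat.card Z
  rw [Nat.card_eq_fintype_card, Nat.card_eq_fintype_card]
  choose rep hrep using fun i : ι => i.2
  have hmk : ∀ i : ι, ConjClasses.mk (rep i) = i.1 := fun i =>
    ConjClasses.mem_carrier_iff_mk_eq.mp (hrep i).1
  have hg3 : ∀ i : ι, (rep i) ^ 3 = 1 := fun i => by
    rw [← (hrep i).2.1]; exact pow_orderOf_eq_one _
  have hsp : ∀ i : ι, Special (rep i) := fun i => (hrep i).2.2
  -- the quotient |G| / χ(1)
  let q : Cfsg.IrrCharacter G → ℕ := fun χ => Nat.card G / Cfsg.charDegree (χ : G → ℂ)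
  have hq : ∀ χ : Cfsg.IrrCharacter G, Cfsg.charDegree (χ : G → ℂ) * q χ = Nat.card G := fun χ =>
    Nat.mul_div_cancel' (irr_charDegree_dvd_card χ)
  have hqC : ∀ χ : Cfsg.IrrCharacter G, (Nat.card G : ℂ) / (χ : G → ℂ) 1 = (q χ : ℂ) := by
    intro χ
    have h1 : (χ : G → ℂ) 1 ≠ 0 := by
      rw [irr_apply_one_eq_charDegree]
      exact_mod_cast (irr_charDegree_pos χ).ne'
    rw [div_eq_iff h1, irr_apply_one_eq_charDegree, ← hq χ]
    push_cast
    ring
  have hq2 : ∀ χ : Cfsg.IrrCharacter G, ¬ P χ → 2 * (q χ / 2) = q χ := by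
    intro χ hχ
    apply Nat.mul_div_cancel'
    have hd0 : Cfsg.charDegree (χ : G → ℂ) ≠ 0 := (irr_charDegree_pos χ).ne'
    have hq0 : q χ ≠ 0 := by
      intro h0
      have := hq χ
      rw [h0, mul_zero] at this
      exact Nat.card_pos.ne' this.symm
    have hfac := congrArg (fun n : ℕ => n.factorization 2) (hq χ)
    simp only [Nat.factorization_mul hd0 hq0, Finsupp.add_apply] at hfac
    apply Nat.dvd_of_factorization_pos
    intro h0
    apply hχ
    show (Cfsg.charDegree (χ : G → ℂ)).factorization 2 = (Nat.card G).factorization 2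
    omega
  -- the matrix
  let D : Matrix ι ι ℤ := fun i l => ((Finset.univ.filter (fun ab : G × G =>
    ab.1 * rep i * ab.1⁻¹ * (ab.2 * rep i * ab.2⁻¹) = (rep l)⁻¹)).card : ℤ)
  have hD : ∀ i l, Odd (D i l) ↔ i = l := by
    intro i l
    have hk3 : ((rep l)⁻¹) ^ 3 = 1 := by rw [inv_pow, hg3 l, inv_one]
    obtain ⟨h1, h2⟩ := card_param_pairs_parity (hg3 i) hk3 (hsp i)
    rw [inv_inv] at h1 h2
    have hconj : IsConj (rep i) (rep l) ↔ i = l := by
      rw [← ConjClasses.mk_eq_mk_iff_isConj, hmk, hmk]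
      exact Subtype.ext_iff.symm
    show Odd ((_ : ℕ) : ℤ) ↔ _
    rw [Int.odd_coe_nat]
    constructor
    · intro hodd
      by_contra hne
      have := h2 (fun hc => hne (hconj.mp hc))
      exact (Nat.not_odd_iff_even.mpr this) hodd
    · intro hil
      exact h1 (hconj.mpr hil)
  let u : Z → ι → ℂ := fun χ i => (χ.1 : G → ℂ) (rep i) * (χ.1 : G → ℂ) (rep i)
  let v : Z → ι → ℂ := fun χ l => (q χ.1 : ℂ) * (χ.1 : G → ℂ) (rep l)
  let E : ι → ι → ℂ := fun i l => ∑ χ ∈ Finset.univ.filter (fun χ : Cfsg.IrrCharacter G => ¬ P χ),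
    ((q χ / 2 : ℕ) : ℂ) * ((χ : G → ℂ) (rep i) * (χ : G → ℂ) (rep i) * (χ : G → ℂ) (rep l))
  have hu : ∀ χ i, IsIntegral ℤ (u χ i) := fun χ i =>
    (isIntegral_irr χ.1 (rep i)).mul (isIntegral_irr χ.1 (rep i))
  have hv : ∀ χ l, IsIntegral ℤ (v χ l) := fun χ l =>
    (isIntegral_natCast_complex _).mul (isIntegral_irr χ.1 (rep l))
  have hE : ∀ i l, IsIntegral ℤ (E i l) := fun i l =>
    IsIntegral.sum _ (fun χ _ => (isIntegral_natCast_complex _).mul
      (((isIntegral_irr χ (rep i)).mul (isIntegral_irr χ (rep i))).mul (isIntegral_irr χ (rep l))))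
  have h : ∀ i l, (D i l : ℂ) = ∑ χ, u χ i * v χ l + 2 * E i l := by
    intro i l
    have h1 := card_conj_pairs (rep i) (rep i) (rep l)⁻¹
    rw [inv_inv] at h1
    show (((Finset.univ.filter (fun ab : G × G =>
      ab.1 * rep i * ab.1⁻¹ * (ab.2 * rep i * ab.2⁻¹) = (rep l)⁻¹)).card : ℤ) : ℂ) = _
    rw [Int.cast_natCast, h1, Finset.mul_sum]
    have hterm : ∀ χ : Cfsg.IrrCharacter G,
        (Nat.card G : ℂ) * ((χ : G → ℂ) (rep i) * (χ : G → ℂ) (rep i) * (χ : G → ℂ) (rep l) /
          (χ : G → ℂ) 1) =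
        (q χ : ℂ) * ((χ : G → ℂ) (rep i) * (χ : G → ℂ) (rep i) * (χ : G → ℂ) (rep l)) := by
      intro χ
      rw [← hqC χ]
      ring
    rw [Finset.sum_congr rfl (fun χ _ => hterm χ),
      ← Finset.sum_filter_add_sum_filter_not Finset.univ P]
    congr 1
    · rw [Finset.sum_subtype (Finset.univ.filter P) (p := P) (by simp)]
      apply Finset.sum_congr rfl
      intro χ _
      simp only [u, v]
      ring
    · simp only [E]
      rw [Finset.mul_sum]
      apply Finset.sum_congr rfl
      intro χ hχ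
      have hχ' : ¬ P χ := (Finset.mem_filter.mp hχ).2
      have := hq2 χ hχ'
      have h2 : (q χ : ℂ) = 2 * ((q χ / 2 : ℕ) : ℂ) := by exact_mod_cast this.symm
      rw [h2]
      ring
  exact card_le_of_det_parity D hD u v E hu hv hE h

end Cfsg.Agent.S4737
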