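import Cfsg.Statements.S4740
-- import your own Cfsg.Agent.* helpers here
import Cfsg.Agent.Lib.Helper79.ClassCount

set_option autoImplicit false
open Cfsg

namespace Cfsg.Agent.S4740

open Cfsg.Agent.Lib.Helper79

/-- The number of pairs `(a, b)` with `a x a⁻¹ * (b x b⁻¹) = 1`, for an involution `x`. -/
theorem card_pairs_one {G : Type*} [Group G] [Fintype G] [DecidableEq G] (x : G)
    (hx : x * x = 1) :
    (Finset.univ.filter (fun ab : G × G => ab.1 * x * ab.1⁻¹ * (ab.2 * x * ab.2⁻¹) = 1)).card =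
      Nat.card G * Nat.card (Subgroup.centralizer ({x} : Set G)) := by
  classical
  have hxinv : x⁻¹ = x := inv_eq_of_mul_eq_one_right hx
  rw [← Nat.card_prod, ← Fintype.card_coe, ← Nat.card_eq_fintype_card]
  apply Nat.card_congr
  refine
    { toFun := fun ab => (ab.1.2, ⟨ab.1.2⁻¹ * ab.1.1, ?_⟩)
      invFun := fun bc => ⟨(bc.1 * bc.2.1, bc.1), ?_⟩
      left_inv := ?_
      right_inv := ?_ }
  · have h := (Finset.mem_filter.mp ab.2).2
    rw [Subgroup.mem_centralizer_singleton_iff]
    -- a x a⁻¹ = (b x b⁻¹)⁻¹ = b x b⁻¹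
    have h1 : ab.1.1 * x * ab.1.1⁻¹ = ab.1.2 * x * ab.1.2⁻¹ := by
      have := eq_inv_of_mul_eq_one_left h
      rw [this]
      simp [mul_inv_rev, hxinv, mul_assoc]
    calc ab.1.2⁻¹ * ab.1.1 * x = ab.1.2⁻¹ * (ab.1.1 * x * ab.1.1⁻¹) * ab.1.1 := by group
      _ = ab.1.2⁻¹ * (ab.1.2 * x * ab.1.2⁻¹) * ab.1.1 := by rw [h1]
      _ = x * (ab.1.2⁻¹ * ab.1.1) := by group
  · rw [Finset.mem_filter]
    refine ⟨Finset.mem_univ _, ?_⟩
    have hc := bc.2.2
    rw [Subgroup.mem_centralizer_singleton_iff] at hc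
    show bc.1 * bc.2.1 * x * (bc.1 * bc.2.1)⁻¹ * (bc.1 * x * bc.1⁻¹) = 1
    calc bc.1 * bc.2.1 * x * (bc.1 * bc.2.1)⁻¹ * (bc.1 * x * bc.1⁻¹)
        = bc.1 * (bc.2.1 * x) * bc.2.1⁻¹ * x * bc.1⁻¹ := by group
      _ = bc.1 * (x * bc.2.1) * bc.2.1⁻¹ * x * bc.1⁻¹ := by rw [hc]
      _ = bc.1 * (x * x) * bc.1⁻¹ := by group
      _ = 1 := by rw [hx]; group
  · intro ab
    apply Subtype.ext
    apply Prod.ext
    · show ab.1.2 * (ab.1.2⁻¹ * ab.1.1) = ab.1.1
      group
    · rfl
  · intro bc
    apply Prod.ext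
    · rfl
    · apply Subtype.ext
      show bc.1⁻¹ * (bc.1 * bc.2.1) = bc.2.1
      group

/-- Let p be an odd prime, G a finite group of even order, x an involution of G and P a subgroup of G of order p ^ c such that no conjugate of x inverts a non-identity element of P. If p ^ a is the p-part of the order of C_G(x), then some irreducible character of G has degree divisible by p ^ (c - a). -/
theorem result {G : Type*} [Group G] [Finite G] (p : ℕ) [Fact p.Prime] (hp2 : p ≠ 2) (hG : Even (Nat.card G)) (x : G) (hx : orderOf x = 2) (P : Subgroup G) (c : ℕ) (hP : Nat.card ↥P = p ^ c) (hinv : ∀ g : G, IsConj x g → ∀ z ∈ P, z ≠ 1 → g * z * g⁻¹ ≠ z⁻¹) (a : ℕ) (ha : (Nat.card ↥(Subgroup.centralizer ({x} : Set G))).factorization p = a) : ∃ χ : Cfsg.IrrCharacter G, p ^ (c - a) ∣ Cfsg.charDegree (χ : G → ℂ) := by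
  classical
  have hp : p.Prime := Fact.out
  have := Fintype.ofFinite G
  have : Fintype (Cfsg.IrrCharacter G) := Fintype.ofFinite _
  have : Fintype P := Fintype.ofFinite _
  have hxx : x * x = 1 := by
    have := pow_orderOf_eq_one x
    rwa [hx, pow_two] at this
  have hG0 : (Nat.card G : ℂ) ≠ 0 := by exact_mod_cast Nat.card_pos.ne'
  have hP0 : (Nat.card P : ℂ) ≠ 0 := by exact_mod_cast Nat.card_pos.ne'
  by_contra hcon
  push Not at hcon
  -- the counts vanish on `P \ {1}`
  have hzero : ∀ u : P, (u : G) ≠ 1 →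
      (Finset.univ.filter
        (fun ab : G × G => ab.1 * x * ab.1⁻¹ * (ab.2 * x * ab.2⁻¹) = (u : G))).card = 0 := by
    intro u hu
    rw [Finset.card_eq_zero, Finset.filter_eq_empty_iff]
    intro ab _ hab
    set g := ab.1 * x * ab.1⁻¹ with hg
    set t := ab.2 * x * ab.2⁻¹ with ht
    have hgg : g * g = 1 := by
      rw [hg]
      calc ab.1 * x * ab.1⁻¹ * (ab.1 * x * ab.1⁻¹) = ab.1 * (x * x) * ab.1⁻¹ := by group
        _ = 1 := by rw [hxx]; group
    have htt : t * t = 1 := by
      rw [ht]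
      calc ab.2 * x * ab.2⁻¹ * (ab.2 * x * ab.2⁻¹) = ab.2 * (x * x) * ab.2⁻¹ := by group
        _ = 1 := by rw [hxx]; group
    have hginv : g⁻¹ = g := inv_eq_of_mul_eq_one_right hgg
    have htinv : t⁻¹ = t := inv_eq_of_mul_eq_one_right htt
    have hconj : IsConj x g := isConj_iff.mpr ⟨ab.1, rfl⟩
    apply hinv g hconj (u : G) u.2 hu
    clear_value g t
    rw [← hab, mul_inv_rev, hginv, htinv]
    calc g * (g * t) * g = (g * g) * t * g := by group
      _ = t * g := by rw [hgg, one_mul]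
  -- the total count
  obtain ⟨m, hm⟩ := sum_card_conj_pairs_subgroup x x P
  have hsum : (∑ u : P, ((Finset.univ.filter
      (fun ab : G × G => ab.1 * x * ab.1⁻¹ * (ab.2 * x * ab.2⁻¹) = (u : G))).card : ℂ)) =
      (Nat.card G : ℂ) * (Nat.card (Subgroup.centralizer ({x} : Set G)) : ℂ) := by
    rw [Finset.sum_eq_single (1 : P)]
    · rw [Subgroup.coe_one, card_pairs_one x hxx]
      push_cast
      rfl
    · intro u _ hu
      have : (u : G) ≠ 1 := fun h => hu (Subtype.ext h)
      rw [hzero u this]; simp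
    · intro h; exact absurd (Finset.mem_univ _) h
  rw [hsum, mul_assoc] at hm
  have hm' := mul_left_cancel₀ hG0 hm
  -- apply the p-adic lemma
  have hN : Nat.card (Subgroup.centralizer ({x} : Set G)) ≠ 0 := Nat.card_pos.ne'
  have hca : a < c := by
    by_contra hle
    rw [not_lt] at hle
    -- there is at least one irreducible character
    have hne : Nonempty (Cfsg.IrrCharacter G) := by
      by_contra hemp
      rw [not_nonempty_iff] at hemp
      have := delta_eq_sum_irr (1 : G)
      rw [if_pos rfl, Finset.univ_eq_empty, Finset.sum_empty] at this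
      exact hG0 this.symm
    obtain ⟨χ⟩ := hne
    apply hcon χ
    rw [Nat.sub_eq_zero_of_le hle, pow_zero]
    exact one_dvd _
  have key := padic_bound_of_sum (Finset.univ : Finset (Cfsg.IrrCharacter G)) p hp
    (fun χ => Cfsg.charDegree (χ : G → ℂ)) (fun χ _ => (irr_charDegree_pos χ).ne')
    (fun χ => (m χ : ℂ) * ((χ : G → ℂ) x * (χ : G → ℂ) x))
    (fun χ _ => by
      apply IsIntegral.mul
      · simpa using (isIntegral_algebraMap (R := ℤ) (A := ℂ) (x := (m χ : ℤ)))
      · exact (isIntegral_irr χ x).mul (isIntegral_irr χ x))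
    (Nat.card (Subgroup.centralizer ({x} : Set G))) c (c - a - 1) hN
    (fun χ _ => by
      have : c - a - 1 + 1 = c - a := by omega
      rw [this]; exact hcon χ)
    (by
      rw [hm', hP]
      push_cast
      congr 1
      apply Finset.sum_congr rfl
      intro χ _
      rw [irr_apply_one_eq_charDegree])
  rw [ha] at key
  omega

end Cfsg.Agent.S4740
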