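import Cfsg.Statements.S4742
-- import your own Cfsg.Agent.* helpers here
import Cfsg.Agent.Lib.Helper79.ClassCount

set_option autoImplicit false
open Cfsg

namespace Cfsg.Agent.S4742

open Cfsg.Agent.Lib.Helper79

/-- The number of pairs `(a, b)` with `a x a⁻¹ * (b x⁻¹ b⁻¹) = 1`. -/
theorem card_pairs_one {G : Type*} [Group G] [Fintype G] [DecidableEq G] (x : G) :
    (Finset.univ.filter (fun ab : G × G => ab.1 * x * ab.1⁻¹ * (ab.2 * x⁻¹ * ab.2⁻¹) = 1)).card =
      Nat.card G * Nat.card (Subgroup.centralizer ({x} : Set G)) := by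
  classical
  rw [← Nat.card_prod, ← Fintype.card_coe, ← Nat.card_eq_fintype_card]
  apply Nat.card_congr
  refine
    { toFun := fun ab => (ab.1.2, ⟨ab.1.2⁻¹ * ab.1.1, ?_⟩)
      invFun := fun bc => ⟨(bc.1 * bc.2.1, bc.1), ?_⟩
      left_inv := ?_
      right_inv := ?_ }
  · have h := (Finset.mem_filter.mp ab.2).2
    rw [Subgroup.mem_centralizer_singleton_iff]
    have h1 : ab.1.1 * x * ab.1.1⁻¹ = ab.1.2 * x * ab.1.2⁻¹ := by
      have := eq_inv_of_mul_eq_one_left h
      rw [this]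
      group
    calc ab.1.2⁻¹ * ab.1.1 * x = ab.1.2⁻¹ * (ab.1.1 * x * ab.1.1⁻¹) * ab.1.1 := by group
      _ = ab.1.2⁻¹ * (ab.1.2 * x * ab.1.2⁻¹) * ab.1.1 := by rw [h1]
      _ = x * (ab.1.2⁻¹ * ab.1.1) := by group
  · rw [Finset.mem_filter]
    refine ⟨Finset.mem_univ _, ?_⟩
    have hc := bc.2.2
    rw [Subgroup.mem_centralizer_singleton_iff] at hc
    show bc.1 * bc.2.1 * x * (bc.1 * bc.2.1)⁻¹ * (bc.1 * x⁻¹ * bc.1⁻¹) = 1
    calc bc.1 * bc.2.1 * x * (bc.1 * bc.2.1)⁻¹ * (bc.1 * x⁻¹ * bc.1⁻¹)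
        = bc.1 * (bc.2.1 * x) * bc.2.1⁻¹ * x⁻¹ * bc.1⁻¹ := by group
      _ = bc.1 * (x * bc.2.1) * bc.2.1⁻¹ * x⁻¹ * bc.1⁻¹ := by rw [hc]
      _ = 1 := by group
  · intro ab
    apply Subtype.ext
    apply Prod.ext
    · show ab.1.2 * (ab.1.2⁻¹ * ab.1.1) = ab.1.1
      group
    · rfl
  · intro bc
    apply Prod.ext
    · rfl
    · apply Subtype.ext
      show bc.1⁻¹ * (bc.1 * bc.2.1) = bc.2.1
      group

/-- Let p ≠ q be primes dividing the order of the finite group G, and suppose the centralizer of every non-identity p-element of G has order prime to q. Then either G has an irreducible character of p-defect zero, or for every non-identity q-element z of G there are conjugates g, h of z such that g h⁻¹ is a non-identity p-element. -/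
theorem result {G : Type*} [Group G] [Finite G] (p q : ℕ) [Fact p.Prime] [Fact q.Prime] (hppq : p ≠ q) (hpG : p ∣ Nat.card G) (hqG : q ∣ Nat.card G) (hC : ∀ g : G, g ≠ 1 → (∃ k : ℕ, orderOf g = p ^ k) → ¬ q ∣ Nat.card ↥(Subgroup.centralizer ({g} : Set G))) : (∃ χ : Cfsg.IrrCharacter G, (Cfsg.charDegree (χ : G → ℂ)).factorization p = (Nat.card G).factorization p) ∨ ∀ z : G, z ≠ 1 → (∃ k : ℕ, orderOf z = q ^ k) → ∃ g h : G, IsConj z g ∧ IsConj z h ∧ g * h⁻¹ ≠ 1 ∧ ∃ k : ℕ, orderOf (g * h⁻¹) = p ^ k := by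
  classical
  have hp : p.Prime := Fact.out
  have hq : q.Prime := Fact.out
  have := Fintype.ofFinite G
  have : Fintype (Cfsg.IrrCharacter G) := Fintype.ofFinite _
  have hG0 : (Nat.card G : ℂ) ≠ 0 := by exact_mod_cast Nat.card_pos.ne'
  by_contra hcon
  rw [not_or] at hcon
  obtain ⟨hno, hz⟩ := hcon
  push Not at hno hz
  obtain ⟨z, hz1, ⟨kz, hkz⟩, hzz⟩ := hz
  -- a Sylow p-subgroup
  obtain ⟨P⟩ : Nonempty (Sylow p G) := inferInstance
  have : Fintype (P : Subgroup G) := Fintype.ofFinite _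
  set n := (Nat.card G).factorization p with hn
  have hPcard : Nat.card (P : Subgroup G) = p ^ n := P.card_eq_multiplicity
  have hn1 : 1 ≤ n := by
    have : p ^ 1 ∣ Nat.card G := by simpa using hpG
    exact (hp.pow_dvd_iff_le_factorization Nat.card_pos.ne').mp this
  -- the counts vanish on `P \ {1}`
  have hzero : ∀ u : (P : Subgroup G), (u : G) ≠ 1 →
      (Finset.univ.filter
        (fun ab : G × G => ab.1 * z * ab.1⁻¹ * (ab.2 * z⁻¹ * ab.2⁻¹) = (u : G))).card = 0 := by
    intro u hu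
    rw [Finset.card_eq_zero, Finset.filter_eq_empty_iff]
    intro ab _ hab
    have hg : IsConj z (ab.1 * z * ab.1⁻¹) := isConj_iff.mpr ⟨ab.1, rfl⟩
    have hh : IsConj z (ab.2 * z * ab.2⁻¹) := isConj_iff.mpr ⟨ab.2, rfl⟩
    have hinv : (ab.2 * z * ab.2⁻¹)⁻¹ = ab.2 * z⁻¹ * ab.2⁻¹ := by group
    have hne : ab.1 * z * ab.1⁻¹ * (ab.2 * z * ab.2⁻¹)⁻¹ ≠ 1 := by
      rw [hinv, hab]; exact hu
    obtain ⟨k, hk⟩ := P.isPGroup'.exists_orderOf_eq_pow u
    rw [← Subgroup.orderOf_coe] at hk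
    exact hzz _ _ hg hh hne k (by rw [hinv, hab]; exact hk)
  -- the total count
  obtain ⟨m, hm⟩ := sum_card_conj_pairs_subgroup z z⁻¹ (P : Subgroup G)
  have hsum : (∑ u : (P : Subgroup G), ((Finset.univ.filter
      (fun ab : G × G => ab.1 * z * ab.1⁻¹ * (ab.2 * z⁻¹ * ab.2⁻¹) = (u : G))).card : ℂ)) =
      (Nat.card G : ℂ) * (Nat.card (Subgroup.centralizer ({z} : Set G)) : ℂ) := by
    rw [Finset.sum_eq_single (1 : (P : Subgroup G))]
    · rw [Subgroup.coe_one, card_pairs_one z]
      push_cast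
      rfl
    · intro u _ hu
      have : (u : G) ≠ 1 := fun h => hu (Subtype.ext h)
      rw [hzero u this]; simp
    · intro h; exact absurd (Finset.mem_univ _) h
  rw [hsum, mul_assoc] at hm
  have hm' := mul_left_cancel₀ hG0 hm
  -- `p` does not divide `|C_G(z)|`
  have hN : Nat.card (Subgroup.centralizer ({z} : Set G)) ≠ 0 := Nat.card_pos.ne'
  have hpC : ¬ p ∣ Nat.card (Subgroup.centralizer ({z} : Set G)) := by
    intro hdvd
    obtain ⟨u, hu⟩ := exists_prime_orderOf_dvd_card' p hdvd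
    have hu1 : (u : G) ≠ 1 := by
      intro h
      have : orderOf (u : G) = 1 := by rw [h]; exact orderOf_one
      rw [Subgroup.orderOf_coe, hu] at this
      exact hp.one_lt.ne' this
    have huo : orderOf (u : G) = p ^ 1 := by rw [Subgroup.orderOf_coe, hu, pow_one]
    apply hC (u : G) hu1 ⟨1, huo⟩
    -- z lies in the centralizer of u
    have hzu : z ∈ Subgroup.centralizer ({(u : G)} : Set G) := by
      rw [Subgroup.mem_centralizer_singleton_iff]
      have := u.2
      rw [Subgroup.mem_centralizer_singleton_iff] at this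
      exact this.symm
    have h1 : orderOf z ∣ Nat.card (Subgroup.centralizer ({(u : G)} : Set G)) := by
      have := orderOf_dvd_natCard (⟨z, hzu⟩ : Subgroup.centralizer ({(u : G)} : Set G))
      rwa [← Subgroup.orderOf_coe] at this
    have hkz0 : kz ≠ 0 := by
      intro h0
      rw [h0, pow_zero, orderOf_eq_one_iff] at hkz
      exact hz1 hkz
    rw [hkz] at h1
    exact (dvd_pow_self q hkz0).trans h1
  have hfac0 : (Nat.card (Subgroup.centralizer ({z} : Set G))).factorization p = 0 :=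
    Nat.factorization_eq_zero_of_not_dvd hpC
  have key := padic_bound_of_sum (Finset.univ : Finset (Cfsg.IrrCharacter G)) p hp
    (fun χ => Cfsg.charDegree (χ : G → ℂ)) (fun χ _ => (irr_charDegree_pos χ).ne')
    (fun χ => (m χ : ℂ) * ((χ : G → ℂ) z * (χ : G → ℂ) z⁻¹))
    (fun χ _ => by
      apply IsIntegral.mul
      · simpa using (isIntegral_algebraMap (R := ℤ) (A := ℂ) (x := (m χ : ℤ)))
      · exact (isIntegral_irr χ z).mul (isIntegral_irr χ z⁻¹))
    (Nat.card (Subgroup.centralizer ({z} : Set G))) n (n - 1) hN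
    (fun χ _ => by
      have h1 : n - 1 + 1 = n := by omega
      rw [h1]
      intro hdvd
      apply hno χ
      have hle : n ≤ (Cfsg.charDegree (χ : G → ℂ)).factorization p :=
        (hp.pow_dvd_iff_le_factorization (irr_charDegree_pos χ).ne').mp hdvd
      have hge : (Cfsg.charDegree (χ : G → ℂ)).factorization p ≤ n :=
        (Nat.factorization_le_iff_dvd (irr_charDegree_pos χ).ne' Nat.card_pos.ne').mpr
          (irr_charDegree_dvd_card χ) p
      omega)
    (by
      rw [hm', hPcard]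
      push_cast
      congr 1
      apply Finset.sum_congr rfl
      intro χ _
      rw [irr_apply_one_eq_charDegree])
  rw [hfac0] at key
  omega

end Cfsg.Agent.S4742
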