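import Cfsg.Statements.S4744
-- import your own Cfsg.Agent.* helpers here
import Cfsg.Agent.S4742
import Cfsg.Agent.Lib.Helper48.Generation

set_option autoImplicit false
open Cfsg

namespace Cfsg.Agent.S4744

/-- The working hypothesis: no involution commutes with a nontrivial `p`-element. -/
def NoInvComm (G : Type*) [Group G] (p : ℕ) : Prop :=
  ∀ s u : G, s ≠ 1 → s * s = 1 → u ≠ 1 → (∃ k : ℕ, orderOf u = p ^ k) → s * u ≠ u * s

theorem noInvComm_of_odd {G : Type*} [Group G] [Finite G] (p : ℕ)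
    (hC : ∀ g : G, g ≠ 1 → (∃ k : ℕ, orderOf g = p ^ k) →
      Odd (Nat.card ↥(Subgroup.centralizer ({g} : Set G)))) : NoInvComm G p := by
  intro s u hs1 hss hu1 hu hcomm
  have hodd := hC u hu1 hu
  have hs : s ∈ Subgroup.centralizer ({u} : Set G) := by
    rw [Subgroup.mem_centralizer_singleton_iff]
    exact hcomm
  have hos : orderOf s = 2 := by
    apply orderOf_eq_prime
    · rw [pow_two]; exact hss
    · exact hs1
  have h1 : orderOf s ∣ Nat.card (Subgroup.centralizer ({u} : Set G)) := by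
    have := orderOf_dvd_natCard (⟨s, hs⟩ : Subgroup.centralizer ({u} : Set G))
    rwa [← Subgroup.orderOf_coe] at this
  rw [hos] at h1
  exact (Nat.not_even_iff_odd.mpr hodd) (even_iff_two_dvd.mpr h1)

theorem inv_eq_self_of_mul_self {G : Type*} [Group G] {t : G} (htt : t * t = 1) : t⁻¹ = t :=
  inv_eq_of_mul_eq_one_left htt

/-- Elements of a `p`-subgroup have `p`-power order. -/
theorem exists_orderOf_eq_of_mem {G : Type*} [Group G] (p : ℕ) [Fact p.Prime] {Q : Subgroup G}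
    (hQ : IsPGroup p Q) {y : G} (hy : y ∈ Q) : ∃ k : ℕ, orderOf y = p ^ k := by
  obtain ⟨k, hk⟩ := (IsPGroup.iff_orderOf.mp hQ) ⟨y, hy⟩
  exact ⟨k, by rw [← hk, Subgroup.orderOf_mk]⟩

/-- Claim A: an involution normalizing a `p`-subgroup inverts it. -/
theorem inverts {G : Type*} [Group G] [Finite G] (p : ℕ) [Fact p.Prime] (hH : NoInvComm G p)
    {t : G} (ht1 : t ≠ 1) (htt : t * t = 1) {Q : Subgroup G} (hQ : IsPGroup p Q)
    (htQ : t ∈ Subgroup.normalizer (Q : Set G)) : ∀ y ∈ Q, t * y * t⁻¹ = y⁻¹ := by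
  have hconj : ∀ y ∈ Q, t * y * t⁻¹ ∈ Q := fun y hy => (Subgroup.mem_normalizer_iff.mp htQ y).mp hy
  have htinv : t⁻¹ = t := inv_eq_self_of_mul_self htt
  let φ : Q → Q := fun z => ⟨(z : G)⁻¹ * (t * z * t⁻¹), Q.mul_mem (Q.inv_mem z.2) (hconj z z.2)⟩
  have hinj : Function.Injective φ := by
    intro z w hzw
    have h1 : (z : G)⁻¹ * (t * z * t⁻¹) = (w : G)⁻¹ * (t * w * t⁻¹) := congrArg Subtype.val hzw
    by_contra hne
    have hzw1 : (z : G) * (w : G)⁻¹ ≠ 1 := by
      intro h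
      apply hne
      apply Subtype.ext
      exact mul_inv_eq_one.mp h
    have hmem : (z : G) * (w : G)⁻¹ ∈ Q := Q.mul_mem z.2 (Q.inv_mem w.2)
    apply hH t ((z : G) * (w : G)⁻¹) ht1 htt hzw1 (exists_orderOf_eq_of_mem p hQ hmem)
    have h2 : t * (z : G) * t⁻¹ = (z : G) * (w : G)⁻¹ * (t * w * t⁻¹) := by
      rw [mul_assoc (z : G), ← h1]; group
    calc t * ((z : G) * (w : G)⁻¹) = (t * z * t⁻¹) * t * (w : G)⁻¹ := by group
      _ = (z : G) * (w : G)⁻¹ * (t * w * t⁻¹) * t * (w : G)⁻¹ := by rw [h2]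
      _ = (z : G) * (w : G)⁻¹ * t := by group
  have hsurj : Function.Surjective φ := Finite.surjective_of_injective hinj
  intro y hy
  obtain ⟨z, hz⟩ := hsurj ⟨y, hy⟩
  have hyz : y = (z : G)⁻¹ * (t * z * t⁻¹) := (congrArg Subtype.val hz).symm
  rw [hyz]
  calc t * ((z : G)⁻¹ * (t * z * t⁻¹)) * t⁻¹ = t * (z : G)⁻¹ * (t * z) * (t⁻¹ * t⁻¹) := by group
    _ = t * (z : G)⁻¹ * (t * z) * (t * t) := by rw [htinv]
    _ = t * (z : G)⁻¹ * t * z := by rw [htt]; group
    _ = t * (z : G)⁻¹ * t⁻¹ * z := by rw [htinv]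
    _ = ((z : G)⁻¹ * (t * z * t⁻¹))⁻¹ := by group

/-- Claim A': a `p`-subgroup normalized by an involution is abelian. -/
theorem comm_of_inverts {G : Type*} [Group G] {t : G} {Q : Subgroup G}
    (hinv : ∀ y ∈ Q, t * y * t⁻¹ = y⁻¹) : ∀ x ∈ Q, ∀ y ∈ Q, x * y = y * x := by
  intro x hx y hy
  have h1 := hinv (x * y) (Q.mul_mem hx hy)
  have h2 : t * (x * y) * t⁻¹ = (t * x * t⁻¹) * (t * y * t⁻¹) := by group
  rw [h2, hinv x hx, hinv y hy, mul_inv_rev] at h1
  -- x⁻¹ * y⁻¹ = y⁻¹ * x⁻¹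
  have h3 : (x⁻¹ * y⁻¹)⁻¹ = (y⁻¹ * x⁻¹)⁻¹ := by rw [h1]
  simpa using h3.symm

/-- The normalizer of `Q` normalizes the centralizer of `Q`. -/
theorem mem_normalizer_centralizer {G : Type*} [Group G] {Q : Subgroup G} {r : G}
    (hr : r ∈ Subgroup.normalizer (Q : Set G)) :
    r ∈ Subgroup.normalizer ((Subgroup.centralizer (Q : Set G) : Subgroup G) : Set G) := by
  have hc1 : ∀ y ∈ Q, r * y * r⁻¹ ∈ Q := fun y hy => (Subgroup.mem_normalizer_iff.mp hr y).mp hy
  have hc2 : ∀ y ∈ Q, r⁻¹ * y * r ∈ Q := fun y hy =>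
    (Subgroup.mem_normalizer_iff.mp hr (r⁻¹ * y * r)).mpr (by
      have : r * (r⁻¹ * y * r) * r⁻¹ = y := by group
      rw [this]; exact hy)
  rw [Subgroup.mem_normalizer_iff]
  intro k
  constructor
  · intro hk
    rw [Subgroup.mem_centralizer_iff] at hk ⊢
    intro y hy
    have h := hk (r⁻¹ * y * r) (hc2 y hy)
    calc y * (r * k * r⁻¹) = r * ((r⁻¹ * y * r) * k) * r⁻¹ := by group
      _ = r * (k * (r⁻¹ * y * r)) * r⁻¹ := by rw [h]
      _ = r * k * r⁻¹ * y := by group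
  · intro hk
    rw [Subgroup.mem_centralizer_iff] at hk ⊢
    intro y hy
    have h := hk (r * y * r⁻¹) (hc1 y hy)
    calc y * k = r⁻¹ * ((r * y * r⁻¹) * (r * k * r⁻¹)) * r := by group
      _ = r⁻¹ * ((r * k * r⁻¹) * (r * y * r⁻¹)) * r := by rw [h]
      _ = k * y := by group

/-- The centralizer of a nontrivial `p`-subgroup has odd order. -/
theorem not_two_dvd_card_centralizer {G : Type*} [Group G] [Finite G] (p : ℕ) [Fact p.Prime]
    (hH : NoInvComm G p) {Q : Subgroup G} (hQ : IsPGroup p Q) {u : G} (huQ : u ∈ Q) (hu1 : u ≠ 1) :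
    ¬ 2 ∣ Nat.card (Subgroup.centralizer (Q : Set G)) := by
  intro hd
  obtain ⟨s, hs⟩ := exists_prime_orderOf_dvd_card' 2 hd
  have hs1 : (s : G) ≠ 1 := by
    intro h
    have : orderOf (s : G) = 1 := by rw [h]; exact orderOf_one
    rw [Subgroup.orderOf_coe, hs] at this
    exact absurd this (by norm_num)
  have hss : (s : G) * (s : G) = 1 := by
    have h := pow_orderOf_eq_one (s : G)
    rw [Subgroup.orderOf_coe, hs, pow_two] at h
    exact h
  have hcomm := (Subgroup.mem_centralizer_iff.mp s.2) u huQ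
  exact hH (s : G) u hs1 hss hu1 (exists_orderOf_eq_of_mem p hQ huQ) hcomm.symm

/-- `(r k)^m ∈ r^m K` when `r` normalizes `K` and `k ∈ K`. -/
theorem exists_mul_pow_eq {G : Type*} [Group G] {K : Subgroup G} {r k : G}
    (hr : r ∈ Subgroup.normalizer (K : Set G)) (hk : k ∈ K) (m : ℕ) :
    ∃ k' ∈ K, (r * k) ^ m = r ^ m * k' := by
  induction m with
  | zero => exact ⟨1, K.one_mem, by simp⟩
  | succ m ih =>
    obtain ⟨k', hk', h⟩ := ih
    have hconj : r⁻¹ * k' * r ∈ K :=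
      (Subgroup.mem_normalizer_iff.mp hr (r⁻¹ * k' * r)).mpr (by
        have : r * (r⁻¹ * k' * r) * r⁻¹ = k' := by group
        rw [this]; exact hk')
    refine ⟨r⁻¹ * k' * r * k, K.mul_mem hconj hk, ?_⟩
    rw [pow_succ, h, pow_succ]
    group

/-- Claim C: a `p`-element normalizing `Q` centralizes `Q`. -/
theorem mem_centralizer_of_mem_normalizer {G : Type*} [Group G] [Finite G] (p : ℕ) [Fact p.Prime]
    (hH : NoInvComm G p) {t : G} (ht1 : t ≠ 1) (htt : t * t = 1) {Q : Subgroup G}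
    (hQ : IsPGroup p Q) {u : G} (huQ : u ∈ Q) (hu1 : u ≠ 1)
    (htQ : t ∈ Subgroup.normalizer (Q : Set G)) {r : G}
    (hrQ : r ∈ Subgroup.normalizer (Q : Set G)) (hr : ∃ a : ℕ, orderOf r = p ^ a) :
    r ∈ Subgroup.centralizer (Q : Set G) := by
  have hp : p.Prime := Fact.out
  have htinv : t⁻¹ = t := inv_eq_self_of_mul_self htt
  have hinv := inverts p hH ht1 htt hQ htQ
  set K : Subgroup G := Subgroup.centralizer (Q : Set G) with hK
  have hKodd : ¬ 2 ∣ Nat.card K := not_two_dvd_card_centralizer p hH hQ huQ hu1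
  have htK : t ∈ Subgroup.normalizer (K : Set G) := mem_normalizer_centralizer htQ
  have hrK : r ∈ Subgroup.normalizer (K : Set G) := mem_normalizer_centralizer hrQ
  have hrc : ∀ y ∈ Q, r * y * r⁻¹ ∈ Q := fun y hy => (Subgroup.mem_normalizer_iff.mp hrQ y).mp hy
  -- the coset `r K` is `t`-stable
  have hx : r⁻¹ * (t * r * t⁻¹) ∈ K := by
    rw [hK, Subgroup.mem_centralizer_iff]
    intro y hy
    have e1 : t⁻¹ * y * t = y⁻¹ := by
      have := hinv y hy
      rw [htinv] at this ⊢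
      exact this
    have hy' : r * y⁻¹ * r⁻¹ ∈ Q := hrc _ (Q.inv_mem hy)
    have e2 : t * (r * y⁻¹ * r⁻¹) * t⁻¹ = r * y * r⁻¹ := by
      rw [hinv _ hy']; group
    -- w y w⁻¹ = y with w = r⁻¹ t r t⁻¹
    have e3 : (r⁻¹ * (t * r * t⁻¹)) * y * (r⁻¹ * (t * r * t⁻¹))⁻¹ = y := by
      calc (r⁻¹ * (t * r * t⁻¹)) * y * (r⁻¹ * (t * r * t⁻¹))⁻¹
          = r⁻¹ * (t * (r * (t⁻¹ * y * t) * r⁻¹) * t⁻¹) * r := by group
        _ = r⁻¹ * (t * (r * y⁻¹ * r⁻¹) * t⁻¹) * r := by rw [e1]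
        _ = r⁻¹ * (r * y * r⁻¹) * r := by rw [e2]
        _ = y := by group
    calc y * (r⁻¹ * (t * r * t⁻¹))
        = ((r⁻¹ * (t * r * t⁻¹)) * y * (r⁻¹ * (t * r * t⁻¹))⁻¹)* (r⁻¹ * (t * r * t⁻¹)) := by rw [e3]
      _ = (r⁻¹ * (t * r * t⁻¹)) * y := by group
  have htpg : IsPGroup 2 (Subgroup.zpowers t) :=
    Cfsg.Agent.Lib.Helper48.isPGroup_zpowers_of_pow_eq_one (by rw [pow_two]; exact htt)
  obtain ⟨k, hkK, hfix⟩ := Cfsg.Agent.Lib.Helper48.exists_fixed_in_coset_of_elem t htpg K hKodd htK r hx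
  set c := r * k with hc
  obtain ⟨a, ha⟩ := hr
  -- `c ^ (p^a) ∈ K`
  have hcpow : c ^ (p ^ a) ∈ K := by
    obtain ⟨k', hk', h⟩ := exists_mul_pow_eq hrK hkK (p ^ a)
    rw [hc, h, ← ha, pow_orderOf_eq_one, one_mul]
    exact hk'
  -- `c` commutes with `t`
  have hct : t * c = c * t := by
    calc t * c = (t * c * t⁻¹) * t := by group
      _ = c * t := by rw [hfix]
  -- `p ∤ orderOf c`
  have hpc : ¬ p ∣ orderOf c := by
    intro hd
    have ho : orderOf (c ^ (orderOf c / p)) = p :=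
      orderOf_pow_orderOf_div (orderOf_pos c).ne' hd
    have hw1 : c ^ (orderOf c / p) ≠ 1 := by
      intro h
      rw [h, orderOf_one] at ho
      exact hp.one_lt.ne' ho.symm
    have hcomm : t * c ^ (orderOf c / p) = c ^ (orderOf c / p) * t :=
      (Commute.pow_right (show Commute t c from hct) _).eq
    exact hH t _ ht1 htt hw1 ⟨1, by rw [ho, pow_one]⟩ hcomm
  have hcop : Nat.Coprime (p ^ a) (orderOf c) :=
    Nat.Coprime.pow_left _ ((Nat.Prime.coprime_iff_not_dvd hp).mpr hpc)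
  have hcK : c ∈ K := by
    obtain ⟨b, hb⟩ := exists_pow_eq_self_of_coprime (x := c) hcop
    rw [← hb]
    exact K.pow_mem hcpow b
  have : r = c * k⁻¹ := by rw [hc]; group
  rw [this]
  exact K.mul_mem hcK (K.inv_mem hkK)

theorem mem_normalizer_of_invol {G : Type*} [Group G] {t : G} (htt : t * t = 1) {Q : Subgroup G}
    (h : ∀ y ∈ Q, t * y * t⁻¹ ∈ Q) : t ∈ Subgroup.normalizer (Q : Set G) := by
  have htinv : t⁻¹ = t := inv_eq_self_of_mul_self htt
  rw [Subgroup.mem_normalizer_iff]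
  intro y
  refine ⟨h y, fun hy => ?_⟩
  have h2 := h _ hy
  have e : t * (t * y * t⁻¹) * t⁻¹ = y := by
    calc t * (t * y * t⁻¹) * t⁻¹ = (t * t) * y * (t⁻¹ * t⁻¹) := by group
      _ = y := by rw [htinv, htt]; group
  rwa [e] at h2

/-- Claim B: the inductive step. -/
theorem step {G : Type*} [Group G] [Finite G] (p : ℕ) [Fact p.Prime] (hH : NoInvComm G p)
    {t : G} (ht1 : t ≠ 1) (htt : t * t = 1) {Q : Subgroup G} {n : ℕ} (hn : n ≠ 0)
    (hQcard : Nat.card Q = p ^ n) (htQ : t ∈ Subgroup.normalizer (Q : Set G))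
    (hdvd : p ^ (n + 1) ∣ Nat.card G) :
    ∃ (R : Subgroup G) (m : ℕ), n + 1 ≤ m ∧ Nat.card R = p ^ m ∧
      t ∈ Subgroup.normalizer (R : Set G) := by
  have hp : p.Prime := Fact.out
  have hQ : IsPGroup p Q := IsPGroup.of_card hQcard
  have hQbot : Q ≠ ⊥ := by
    intro h
    rw [h, Subgroup.card_bot] at hQcard
    exact (Nat.one_lt_pow hn hp.one_lt).ne hQcard
  obtain ⟨u, hu⟩ := Subgroup.ne_bot_iff_exists_ne_one.mp hQbot
  have hu1 : (u : G) ≠ 1 := fun h => hu (Subtype.ext h)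
  set K : Subgroup G := Subgroup.centralizer (Q : Set G) with hK
  have hKodd : ¬ 2 ∣ Nat.card K := not_two_dvd_card_centralizer p hH hQ u.2 hu1
  have htK : t ∈ Subgroup.normalizer (K : Set G) := mem_normalizer_centralizer htQ
  have hN := Sylow.prime_pow_dvd_card_normalizer hdvd hQcard
  obtain ⟨S', hS'⟩ := Sylow.exists_subgroup_card_pow_prime p hN
  have hScard : Nat.card (S'.map (Subgroup.normalizer (Q : Set G)).subtype) = p ^ (n + 1) := by
    rw [Subgroup.card_map_of_injective (Subgroup.subtype_injective _)]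
    exact hS'
  have hSp : IsPGroup p (S'.map (Subgroup.normalizer (Q : Set G)).subtype) := IsPGroup.of_card hScard
  have hSK : S'.map (Subgroup.normalizer (Q : Set G)).subtype ≤ K := by
    intro x hx
    have hxN : x ∈ Subgroup.normalizer (Q : Set G) := by
      obtain ⟨x', _, rfl⟩ := hx
      exact x'.2
    exact mem_centralizer_of_mem_normalizer p hH ht1 htt hQ u.2 hu1 htQ hxN
      (exists_orderOf_eq_of_mem p hSp hx)
  have hdvdK : p ^ (n + 1) ∣ Nat.card K := by
    rw [← hScard]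
    exact Subgroup.card_dvd_of_le hSK
  have htpg : IsPGroup 2 (Subgroup.zpowers t) :=
    Cfsg.Agent.Lib.Helper48.isPGroup_zpowers_of_pow_eq_one (by rw [pow_two]; exact htt)
  have htE : Subgroup.zpowers t ≤ Subgroup.normalizer (K : Set G) := by
    rw [Subgroup.zpowers_le]; exact htK
  obtain ⟨R, _, _, hRcard, hRt⟩ :=
    Cfsg.Agent.Lib.Helper48.exists_invariant_sylow (Subgroup.zpowers t) K htpg htE hKodd p
  refine ⟨R, (Nat.card K).factorization p, ?_, hRcard, hRt (Subgroup.mem_zpowers t)⟩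
  exact (Nat.Prime.pow_dvd_iff_le_factorization hp Nat.card_pos.ne').mp hdvdK

/-- The induction: the involution `t` normalizes a Sylow `p`-subgroup. -/
theorem exists_sylow {G : Type*} [Group G] [Finite G] (p : ℕ) [Fact p.Prime] (hH : NoInvComm G p)
    {t : G} (ht1 : t ≠ 1) (htt : t * t = 1) :
    ∀ d n : ℕ, n ≠ 0 → n + d = (Nat.card G).factorization p → ∀ Q : Subgroup G,
      Nat.card Q = p ^ n → t ∈ Subgroup.normalizer (Q : Set G) →
      ∃ P : Sylow p G, t ∈ Subgroup.normalizer ((P : Subgroup G) : Set G) := by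
  have hp : p.Prime := Fact.out
  intro d
  induction d using Nat.strong_induction_on with
  | _ d ih =>
    intro n hn hnd Q hQcard htQ
    rcases Nat.eq_zero_or_pos d with hd | hd
    · subst hd
      rw [add_zero] at hnd
      refine ⟨Sylow.ofCard Q (by rw [hQcard, hnd]), ?_⟩
      rw [Sylow.coe_ofCard]
      exact htQ
    · have hdvd : p ^ (n + 1) ∣ Nat.card G :=
        (Nat.Prime.pow_dvd_iff_le_factorization hp Nat.card_pos.ne').mpr (by omega)
      obtain ⟨R, m, hm, hRcard, hRt⟩ := step p hH ht1 htt hn hQcard htQ hdvd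
      have hmv : m ≤ (Nat.card G).factorization p := by
        apply (Nat.Prime.pow_dvd_iff_le_factorization hp Nat.card_pos.ne').mp
        rw [← hRcard]
        exact Subgroup.card_subgroup_dvd_card R
      exact ih ((Nat.card G).factorization p - m) (by omega) m (by omega) (by omega) R hRcard hRt

/-- Let p be an odd prime and G a finite group of even order divisible by p in which the centralizer of every non-identity p-element has odd order. Then either G has an irreducible character of p-defect zero, or the normalizer of every Sylow p-subgroup P of G has even order and P is abelian. -/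
theorem result {G : Type*} [Group G] [Finite G] (p : ℕ) [Fact p.Prime] (hp2 : p ≠ 2) (hpG : p ∣ Nat.card G) (h2G : 2 ∣ Nat.card G) (hC : ∀ g : G, g ≠ 1 → (∃ k : ℕ, orderOf g = p ^ k) → Odd (Nat.card ↥(Subgroup.centralizer ({g} : Set G)))) : (∃ χ : Cfsg.IrrCharacter G, (Cfsg.charDegree (χ : G → ℂ)).factorization p = (Nat.card G).factorization p) ∨ ∀ P : Sylow p G, Even (Nat.card ↥(Subgroup.normalizer ((P : Subgroup G) : Set G))) ∧ IsMulCommutative ↥(P : Subgroup G) := by
  have hp : p.Prime := Fact.out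
  by_cases hdef : ∃ χ : Cfsg.IrrCharacter G,
      (Cfsg.charDegree (χ : G → ℂ)).factorization p = (Nat.card G).factorization p
  · exact Or.inl hdef
  right
  have hH : NoInvComm G p := noInvComm_of_odd p hC
  have : Fact (Nat.Prime 2) := ⟨Nat.prime_two⟩
  have hC' : ∀ g : G, g ≠ 1 → (∃ k : ℕ, orderOf g = p ^ k) →
      ¬ 2 ∣ Nat.card ↥(Subgroup.centralizer ({g} : Set G)) := by
    intro g hg1 hg hd
    exact (Nat.not_even_iff_odd.mpr (hC g hg1 hg)) (even_iff_two_dvd.mpr hd)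
  have h42 := (Cfsg.Agent.S4742.result p 2 hp2 hpG h2G hC').resolve_left hdef
  -- an involution
  obtain ⟨z, hz⟩ := exists_prime_orderOf_dvd_card' 2 h2G
  have hz1 : z ≠ 1 := by
    intro h
    rw [h, orderOf_one] at hz
    exact absurd hz (by norm_num)
  have hzz : z * z = 1 := by
    have h := pow_orderOf_eq_one z
    rw [hz, pow_two] at h
    exact h
  obtain ⟨g, h, hg, hh, hne, k, hk⟩ := h42 z hz1 ⟨1, by rw [hz, pow_one]⟩
  have conj_invol : ∀ x : G, IsConj z x → x ≠ 1 ∧ x * x = 1 := by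
    intro x hx
    obtain ⟨c, rfl⟩ := isConj_iff.mp hx
    constructor
    · intro h1
      apply hz1
      have : z = c⁻¹ * (c * z * c⁻¹) * c := by group
      rw [this, h1]; group
    · calc c * z * c⁻¹ * (c * z * c⁻¹) = c * (z * z) * c⁻¹ := by group
        _ = 1 := by rw [hzz]; group
  obtain ⟨hg1, hgg⟩ := conj_invol g hg
  obtain ⟨hh1, hhh⟩ := conj_invol h hh
  have hginv : g⁻¹ = g := inv_eq_self_of_mul_self hgg
  have hhinv : h⁻¹ = h := inv_eq_self_of_mul_self hhh
  set u := g * h⁻¹ with hu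
  -- `g` inverts `u`
  have hgu : g * u * g⁻¹ = u⁻¹ := by
    rw [hu]
    calc g * (g * h⁻¹) * g⁻¹ = (g * g) * h⁻¹ * g⁻¹ := by group
      _ = h⁻¹ * g⁻¹ := by rw [hgg, one_mul]
      _ = h * g⁻¹ := by rw [hhinv]
      _ = (g * h⁻¹)⁻¹ := by group
  have hk0 : k ≠ 0 := by
    intro h0
    rw [h0, pow_zero, orderOf_eq_one_iff] at hk
    exact hne hk
  have hQcard : Nat.card (Subgroup.zpowers u) = p ^ k := by rw [Nat.card_zpowers, hk]
  have hgQ : g ∈ Subgroup.normalizer ((Subgroup.zpowers u : Subgroup G) : Set G) := by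
    apply mem_normalizer_of_invol hgg
    intro y hy
    obtain ⟨i, rfl⟩ := Subgroup.mem_zpowers_iff.mp hy
    have : g * u ^ i * g⁻¹ = (g * u * g⁻¹) ^ i := by
      rw [conj_zpow]
    rw [this, hgu]
    exact Subgroup.zpow_mem _ (Subgroup.inv_mem _ (Subgroup.mem_zpowers u)) i
  have hkv : k ≤ (Nat.card G).factorization p := by
    apply (Nat.Prime.pow_dvd_iff_le_factorization hp Nat.card_pos.ne').mp
    rw [← hQcard]
    exact Subgroup.card_subgroup_dvd_card _
  obtain ⟨P₀, hP₀⟩ := exists_sylow p hH hg1 hgg ((Nat.card G).factorization p - k) k hk0 (by omega)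
    (Subgroup.zpowers u) hQcard hgQ
  intro P
  obtain ⟨c, hc⟩ := MulAction.exists_smul_eq G P₀ P
  have hs1 : c * g * c⁻¹ ≠ 1 := by
    intro h1
    apply hg1
    have : g = c⁻¹ * (c * g * c⁻¹) * c := by group
    rw [this, h1]; group
  have hss : c * g * c⁻¹ * (c * g * c⁻¹) = 1 := by
    calc c * g * c⁻¹ * (c * g * c⁻¹) = c * (g * g) * c⁻¹ := by group
      _ = 1 := by rw [hgg]; group
  have hsP : c * g * c⁻¹ ∈ Subgroup.normalizer ((P : Subgroup G) : Set G) := by
    apply Sylow.smul_eq_iff_mem_normalizer.mp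
    rw [← hc, mul_smul, mul_smul, inv_smul_smul, Sylow.smul_eq_iff_mem_normalizer.mpr hP₀]
  constructor
  · rw [even_iff_two_dvd]
    have hos : orderOf (c * g * c⁻¹) = 2 := by
      apply orderOf_eq_prime
      · rw [pow_two]; exact hss
      · exact hs1
    have h1 := orderOf_dvd_natCard (⟨c * g * c⁻¹, hsP⟩ : Subgroup.normalizer ((P : Subgroup G) : Set G))
    rwa [← Subgroup.orderOf_coe, hos] at h1
  · have hinv := inverts p hH hs1 hss P.isPGroup' hsP
    have hcomm := comm_of_inverts hinv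
    exact ⟨⟨fun a b => Subtype.ext (hcomm a a.2 b b.2)⟩⟩

end Cfsg.Agent.S4744
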