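import Cfsg.Statements.S4738
-- import your own Cfsg.Agent.* helpers here
import Cfsg.Agent.S4744
import Cfsg.Agent.S4740
import Cfsg.Agent.Lib.Helper79.Integrality

set_option autoImplicit false
open Cfsg

namespace Cfsg.Agent.S4738

/-- Two involutions whose product has odd order are conjugate. -/
theorem isConj_of_odd_orderOf_mul {G : Type*} [Group G] {a b : G} (ha : a * a = 1)
    (hb : b * b = 1) (hodd : Odd (orderOf (a * b))) : IsConj a b := by
  obtain ⟨k, hk⟩ := hodd
  set c := a * b with hc
  have hainv : a⁻¹ = a := inv_eq_of_mul_eq_one_left ha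
  have hbinv : b⁻¹ = b := inv_eq_of_mul_eq_one_left hb
  have hcinv : c⁻¹ = b * a := by rw [hc, mul_inv_rev, hainv, hbinv]
  -- a * c = c⁻¹ * a
  have hsemi : SemiconjBy a c c⁻¹ := by
    show a * c = c⁻¹ * a
    rw [hcinv, hc, ← mul_assoc, ha, one_mul, mul_assoc, ha, mul_one]
  have hsemi' : SemiconjBy a c⁻¹ c := by
    have := hsemi.inv_right
    rwa [inv_inv] at this
  have hsemi2 : SemiconjBy a (c⁻¹ ^ k) (c ^ k) := hsemi'.pow_right k
  have hpow : c ^ (2 * k + 1) = 1 := by rw [← hk]; exact pow_orderOf_eq_one c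
  rw [isConj_iff]
  refine ⟨c ^ k, ?_⟩
  have h1 : c ^ k * a = a * c⁻¹ ^ k := hsemi2.eq.symm
  have h2 : (c ^ k)⁻¹ = c⁻¹ ^ k := by rw [inv_pow]
  rw [h1, h2, mul_assoc, ← pow_add]
  have h3 : c⁻¹ ^ (k + k) = c := by
    have h4 : c ^ (k + k) * c = 1 := by rw [← pow_succ]; rw [← hpow]; congr 1; omega
    rw [inv_pow]
    exact inv_eq_of_mul_eq_one_right h4
  rw [h3, hc, ← mul_assoc, ha, one_mul]

/-- Let p be an odd prime and G a finite group of even order containing no element of order 2p. Then either G has an irreducible character of p-defect zero (its degree has the same p-part as the order of G), or every Sylow p-subgroup of G is abelian and all involutions of G are conjugate. -/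
theorem result {G : Type*} [Group G] [Finite G] (p : ℕ) [Fact p.Prime] (hp2 : p ≠ 2) (hG : Even (Nat.card G)) (h2p : ∀ g : G, orderOf g ≠ 2 * p) : (∃ χ : Cfsg.IrrCharacter G, (Cfsg.charDegree (χ : G → ℂ)).factorization p = (Nat.card G).factorization p) ∨ ((∀ P : Sylow p G, IsMulCommutative ↥(P : Subgroup G)) ∧ ∀ s t : G, orderOf s = 2 → orderOf t = 2 → IsConj s t) := by
  classical
  have hp : p.Prime := Fact.out
  by_cases hdef : ∃ χ : Cfsg.IrrCharacter G,
      (Cfsg.charDegree (χ : G → ℂ)).factorization p = (Nat.card G).factorization p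
  · exact Or.inl hdef
  right
  have h2G : 2 ∣ Nat.card G := even_iff_two_dvd.mp hG
  have : Fact (Nat.Prime 2) := ⟨Nat.prime_two⟩
  -- centralizers of nontrivial p-elements are odd
  have hC : ∀ g : G, g ≠ 1 → (∃ k : ℕ, orderOf g = p ^ k) →
      Odd (Nat.card ↥(Subgroup.centralizer ({g} : Set G))) := by
    intro g hg1 ⟨k, hk⟩
    by_contra hno
    have hev : 2 ∣ Nat.card ↥(Subgroup.centralizer ({g} : Set G)) :=
      even_iff_two_dvd.mp (Nat.not_odd_iff_even.mp hno)
    obtain ⟨s, hs⟩ := exists_prime_orderOf_dvd_card' 2 hev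
    have hs' : orderOf (s : G) = 2 := by rw [Subgroup.orderOf_coe]; exact hs
    have hk0 : k ≠ 0 := by
      intro h0
      rw [h0, pow_zero, orderOf_eq_one_iff] at hk
      exact hg1 hk
    obtain ⟨m, rfl⟩ := Nat.exists_eq_succ_of_ne_zero hk0
    have hg' : orderOf (g ^ (p ^ m)) = p := by
      rw [orderOf_pow' g (pow_ne_zero m hp.ne_zero), hk, Nat.gcd_eq_right (pow_dvd_pow p (Nat.le_succ m)),
        pow_succ, Nat.mul_div_cancel_left _ (pow_pos hp.pos m)]
    have hcomm : Commute (s : G) g := by
      have := Subgroup.mem_centralizer_singleton_iff.mp s.2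
      exact this
    have hcomm' : Commute (s : G) (g ^ (p ^ m)) := hcomm.pow_right _
    have hcop : Nat.Coprime (orderOf (s : G)) (orderOf (g ^ (p ^ m))) := by
      rw [hs', hg']
      exact (Nat.coprime_primes Nat.prime_two hp).mpr (Ne.symm hp2)
    have := hcomm'.orderOf_mul_eq_mul_orderOf_of_coprime hcop
    rw [hs', hg'] at this
    exact h2p _ this
  -- an irreducible character exists (apply S4740 with the trivial subgroup)
  obtain ⟨t₀, ht₀⟩ := exists_prime_orderOf_dvd_card' 2 h2G
  have hχ₀ : ∃ χ : Cfsg.IrrCharacter G, True := by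
    obtain ⟨χ, -⟩ := Cfsg.Agent.S4740.result p hp2 hG t₀ ht₀ (⊥ : Subgroup G) 0
      (by simp) (by
        intro g _ z hz hz1
        exact absurd (Subgroup.mem_bot.mp hz) hz1) _ rfl
    exact ⟨χ, trivial⟩
  -- p divides the order
  have hpG : p ∣ Nat.card G := by
    by_contra hnd
    obtain ⟨χ, -⟩ := hχ₀
    apply hdef
    refine ⟨χ, ?_⟩
    have h1 : ¬ p ∣ Cfsg.charDegree (χ : G → ℂ) := fun h =>
      hnd (h.trans (Cfsg.Agent.Lib.Helper79.irr_charDegree_dvd_card χ))
    rw [Nat.factorization_eq_zero_of_not_dvd h1, Nat.factorization_eq_zero_of_not_dvd hnd]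
  have hR := (Cfsg.Agent.S4744.result p hp2 hpG h2G hC).resolve_left hdef
  refine ⟨fun P => (hR P).2, ?_⟩
  have hH : Cfsg.Agent.S4744.NoInvComm G p := Cfsg.Agent.S4744.noInvComm_of_odd p hC
  -- fix a Sylow subgroup and an involution in its normalizer
  obtain ⟨P⟩ : Nonempty (Sylow p G) := inferInstance
  have hNev : 2 ∣ Nat.card ↥(Subgroup.normalizer ((P : Subgroup G) : Set G)) :=
    even_iff_two_dvd.mp (hR P).1
  obtain ⟨y, hy⟩ := exists_prime_orderOf_dvd_card' 2 hNev
  have hy' : orderOf (y : G) = 2 := by rw [Subgroup.orderOf_coe]; exact hy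
  have hy1 : (y : G) ≠ 1 := by
    intro h
    rw [h, orderOf_one] at hy'
    exact absurd hy' (by norm_num)
  have hyy : (y : G) * (y : G) = 1 := by
    have h := pow_orderOf_eq_one (y : G)
    rw [hy', pow_two] at h
    exact h
  have hinvP : ∀ z ∈ (P : Subgroup G), (y : G) * z * (y : G)⁻¹ = z⁻¹ :=
    Cfsg.Agent.S4744.inverts p hH hy1 hyy P.isPGroup' y.2
  -- every involution is conjugate to y
  have key : ∀ t : G, orderOf t = 2 → IsConj t (y : G) := by
    intro t ht
    by_contra hnc
    have hcard : Nat.card ↥(P : Subgroup G) = p ^ (Nat.card G).factorization p :=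
      P.card_eq_multiplicity
    have ha : (Nat.card ↥(Subgroup.centralizer ({t} : Set G))).factorization p = 0 := by
      apply Nat.factorization_eq_zero_of_not_dvd
      intro hd
      obtain ⟨u, hu⟩ := exists_prime_orderOf_dvd_card' p hd
      have hu' : orderOf (u : G) = p := by rw [Subgroup.orderOf_coe]; exact hu
      have hcomm : Commute t (u : G) := by
        have := Subgroup.mem_centralizer_singleton_iff.mp u.2
        exact this.symm
      have hcop : Nat.Coprime (orderOf t) (orderOf (u : G)) := by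
        rw [ht, hu']
        exact (Nat.coprime_primes Nat.prime_two hp).mpr (Ne.symm hp2)
      have := hcomm.orderOf_mul_eq_mul_orderOf_of_coprime hcop
      rw [ht, hu'] at this
      exact h2p _ this
    have hinv : ∀ g : G, IsConj t g → ∀ z ∈ (P : Subgroup G), z ≠ 1 → g * z * g⁻¹ ≠ z⁻¹ := by
      intro g hg z hz hz1 hgz
      apply hnc
      refine hg.trans ?_
      -- g is an involution
      have hog : orderOf g = 2 := by
        obtain ⟨c, hc⟩ := isConj_iff.mp hg
        rw [← hc]
        have : c * t * c⁻¹ = MulAut.conj c t := rfl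
        rw [this, MulEquiv.orderOf_eq]
        exact ht
      have hgg : g * g = 1 := by
        have h := pow_orderOf_eq_one g
        rw [hog, pow_two] at h
        exact h
      apply isConj_of_odd_orderOf_mul hgg hyy
      -- g * y centralizes z
      have hzP : ∃ k : ℕ, orderOf z = p ^ k :=
        Cfsg.Agent.S4744.exists_orderOf_eq_of_mem p P.isPGroup' hz
      have hodd := hC z hz1 hzP
      have hmem : g * (y : G) ∈ Subgroup.centralizer ({z} : Set G) := by
        rw [Subgroup.mem_centralizer_singleton_iff]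
        have h1 := hinvP z hz
        -- (g*y) * z = z * (g*y)
        have h2 : (y : G) * z = z⁻¹ * (y : G) := by
          have := congrArg (· * (y : G)) h1
          simpa [mul_assoc] using this
        have h3 : g * z⁻¹ = z * g := by
          have := congrArg (· * g) hgz
          simp only [inv_mul_cancel_right] at this
          -- g * z = z⁻¹ * g
          have h4 : g * z = z⁻¹ * g := this
          have h5 : z * (g * z) * z⁻¹ = z * (z⁻¹ * g) * z⁻¹ := by rw [h4]
          simp only [mul_assoc, mul_inv_cancel, mul_one, mul_inv_cancel_left] at h5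
          exact h5.symm
        rw [mul_assoc, h2, ← mul_assoc, h3, mul_assoc]
      have hdvd : orderOf (g * (y : G)) ∣ Nat.card ↥(Subgroup.centralizer ({z} : Set G)) := by
        have := orderOf_dvd_natCard (⟨g * (y : G), hmem⟩ : Subgroup.centralizer ({z} : Set G))
        rwa [← Subgroup.orderOf_coe] at this
      exact Odd.of_dvd_nat hodd hdvd
    obtain ⟨χ, hχ⟩ := Cfsg.Agent.S4740.result p hp2 hG t ht (P : Subgroup G) _ hcard hinv 0 ha
    apply hdef
    refine ⟨χ, ?_⟩
    rw [Nat.sub_zero] at hχ
    have hpos : Cfsg.charDegree (χ : G → ℂ) ≠ 0 :=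
      (Cfsg.Agent.Lib.Helper79.irr_charDegree_pos χ).ne'
    have h1 : (Nat.card G).factorization p ≤ (Cfsg.charDegree (χ : G → ℂ)).factorization p :=
      (hp.pow_dvd_iff_le_factorization hpos).mp hχ
    have h2 : (Cfsg.charDegree (χ : G → ℂ)).factorization p ≤ (Nat.card G).factorization p :=
      (Nat.factorization_le_iff_dvd hpos Nat.card_pos.ne').mpr
        (Cfsg.Agent.Lib.Helper79.irr_charDegree_dvd_card χ) p
    omega
  intro s t hs ht
  exact (key s hs).trans (key t ht).symm

end Cfsg.Agent.S4738
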