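import Cfsg.Statements.S4741
import Cfsg.Agent.Lib.Helper79.SepBlocks
import Cfsg.Agent.Lib.Helper79.MinorExists
import Cfsg.Agent.Lib.Helper79.BrauerFeit

set_option autoImplicit false
open Cfsg

namespace Cfsg.Agent.S4741

open Cfsg.Agent.Lib.Helper16 Cfsg.Agent.Lib.Helper79

/-- Let p be a prime, M a maximal ideal of the algebraic integers containing p, and D a subgroup of the finite group G. Let x₁, …, x_r be pairwise non-conjugate elements of G such that D is a Sylow p-subgroup of the centralizer of each xᵢ, and such that for any conjugates g of some xᵢ and h of some xⱼ the element g h⁻¹ is never a non-identity p-element. Then there are r distinct p-blocks B₁, …, B_r of G, each having D as a defect group, such that for every choice of characters χᵢ ∈ Bᵢ of height zero the determinant of the r × r matrix (χᵢ(xⱼ)) does not lie in the local ideal at M. -/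
theorem result {G : Type*} [Group G] [Finite G] (p : ℕ) [Fact p.Prime] (M : Ideal Cfsg.AlgInt) (hM : Cfsg.IsPModular p M) (D : Subgroup G) {r : ℕ} (x : Fin r → G) (hx : ∀ i j : Fin r, IsConj (x i) (x j) → i = j) (hD : ∀ i : Fin r, ∃ S : Sylow p ↥(Subgroup.centralizer ({x i} : Set G)), (S : Subgroup ↥(Subgroup.centralizer ({x i} : Set G))).map (Subgroup.centralizer ({x i} : Set G)).subtype = D) (hsep : ∀ i j : Fin r, ∀ g h : G, IsConj (x i) g → IsConj (x j) h → ∀ k : ℕ, 0 < k → orderOf (g * h⁻¹) ≠ p ^ k) : ∃ B : Fin r → Set (Cfsg.IrrCharacter G), Function.Injective B ∧ (∀ i : Fin r, Cfsg.IsPBlock M (B i) ∧ Cfsg.IsDefectGroup p M (B i) D) ∧ ∀ χ : Fin r → Cfsg.IrrCharacter G, (∀ i : Fin r, χ i ∈ B i ∧ Cfsg.blockHeight p (B i) (χ i : G → ℂ) = 0) → ¬ Cfsg.MemLocalIdeal M (Matrix.det (Matrix.of fun i j : Fin r => (χ i : G → ℂ) (x j))) := by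
  classical
  have : Fintype G := Fintype.ofFinite G
  have hp : p.Prime := Fact.out
  have hMp : M.IsPrime := isPModular_isPrime hM
  have hMtop : M ≠ ⊤ := hMp.ne_top
  choose n hn using fun χ : Cfsg.IrrCharacter G => exists_int_classInner_pElemFun p χ
  -- the separation hypothesis in the form needed
  have hsep' : ∀ i j : Fin r, ∀ a b : G,
      (∃ k : ℕ, orderOf (a * x i * a⁻¹ * (b * x j * b⁻¹)⁻¹) = p ^ k) →
        a * x i * a⁻¹ = b * x j * b⁻¹ := by
    rintro i j a b ⟨k, hk⟩
    by_contra hne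
    have hk0 : 0 < k := by
      by_contra h0
      have hk' : k = 0 := by omega
      subst hk'
      rw [pow_zero, orderOf_eq_one_iff] at hk
      exact hne (mul_inv_eq_one.mp hk)
    exact hsep i j _ _ (isConj_iff.mpr ⟨a, rfl⟩) (isConj_iff.mpr ⟨b, rfl⟩) k hk0 hk
  set g' : ℕ := Nat.card G / p ^ (Nat.card G).factorization p with hg'
  have hg'p : ¬ p ∣ g' := Nat.not_dvd_ordCompl hp Nat.card_pos.ne'
  have hid : ∀ i j : Fin r, ∑ χ : Cfsg.IrrCharacter G,
      (n χ : ℂ) * (Cfsg.centralChar (χ : G → ℂ) (x i) * (χ : G → ℂ) (x j)⁻¹) =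
        if i = j then (g' : ℂ) else 0 := by
    intro i j
    by_cases hij : i = j
    · subst hij
      rw [if_pos rfl]
      exact sep_centralChar_self p (x i) (hsep' i i) n hn
    · rw [if_neg hij]
      exact sep_centralChar_ne p (x i) (x j) (fun h => hij (hx i j h)) (hsep' i j) n hn
  -- blocks
  set blk : Cfsg.IrrCharacter G → Set (Cfsg.IrrCharacter G) :=
    fun χ => Cfsg.blockOf M (χ : G → ℂ) with hblk
  set 𝔹 : Finset (Set (Cfsg.IrrCharacter G)) := Finset.univ.image blk with h𝔹
  set fib : Set (Cfsg.IrrCharacter G) → Finset (Cfsg.IrrCharacter G) :=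
    fun B => Finset.univ.filter (fun χ => blk χ = B) with hfibdef
  have hblock : ∀ B ∈ 𝔹, Cfsg.IsPBlock M B := by
    intro B hB
    obtain ⟨ψ, -, rfl⟩ := Finset.mem_image.mp hB
    exact isPBlock_blockOf ψ
  have hfib : ∀ B ∈ 𝔹, ∀ χ, χ ∈ fib B ↔ χ ∈ B := by
    intro B hB χ
    simp only [hfibdef, Finset.mem_filter, Finset.mem_univ, true_and, hblk]
    constructor
    · intro h
      rw [← h]
      exact self_mem_blockOf hMtop χ
    · intro h
      exact (IsPBlock_eq_blockOf (hblock B hB) h).symm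
  have hex : ∀ B : Set (Cfsg.IrrCharacter G), ∃ ψ : Cfsg.IrrCharacter G, B ∈ 𝔹 → ψ ∈ B := by
    intro B
    by_cases hB : B ∈ 𝔹
    · obtain ⟨ψ, hψ⟩ := IsPBlock_nonempty hMtop (hblock B hB)
      exact ⟨ψ, fun _ => hψ⟩
    · exact ⟨⟨_, Cfsg.Agent.Lib.Helper78.isIrrCharacter_one⟩, fun h => absurd h hB⟩
  choose rep hrep using hex
  -- the two families
  set Ωc : Set (Cfsg.IrrCharacter G) → Fin r → ℂ :=
    fun B i => Cfsg.centralChar (rep B : G → ℂ) (x i) with hΩc
  set Φc : Set (Cfsg.IrrCharacter G) → Fin r → ℂ :=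
    fun B j => ∑ χ ∈ fib B, (n χ : ℂ) * (χ : G → ℂ) (x j)⁻¹ with hΦc
  have hΩR : ∀ B i, Cfsg.MemLocalRing M (Ωc B i) := fun B i =>
    memLocalRing_of_isIntegral hMtop (isIntegral_centralChar _ _)
  have hΦR : ∀ B j, Cfsg.MemLocalRing M (Φc B j) := by
    intro B j
    apply memLocalRing_sum
    intro χ _
    exact memLocalRing_mul (memLocalRing_intCast hMtop _)
      (memLocalRing_of_isIntegral hMtop (isIntegral_irr _ _))
  -- claim 1
  have hclaim1 : ∀ i j : Fin r, Cfsg.MemLocalIdeal M
      ((if i = j then (g' : ℂ) else 0) - ∑ B ∈ 𝔹, Ωc B i * Φc B j) := by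
    intro i j
    rw [← hid i j]
    have hsplit := Finset.sum_fiberwise_of_maps_to (s := (Finset.univ : Finset (Cfsg.IrrCharacter G)))
      (t := 𝔹) (g := blk) (fun χ _ => Finset.mem_image_of_mem blk (Finset.mem_univ χ))
      (fun χ => (n χ : ℂ) * (Cfsg.centralChar (χ : G → ℂ) (x i) * (χ : G → ℂ) (x j)⁻¹))
    rw [← hsplit, ← Finset.sum_sub_distrib]
    apply memLocalIdeal_sum
    intro B hB
    have h1 : Ωc B i * Φc B j = ∑ χ ∈ fib B, (n χ : ℂ) * (Ωc B i * (χ : G → ℂ) (x j)⁻¹) := by
      rw [hΦc]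
      simp only
      rw [Finset.mul_sum]
      apply Finset.sum_congr rfl
      intro χ _
      ring
    rw [h1, ← Finset.sum_sub_distrib]
    apply memLocalIdeal_sum
    intro χ hχ
    have hχB : χ ∈ B := (hfib B hB χ).mp hχ
    have hsame := sameBlock_of_mem (hblock B hB) hχB (hrep B hB)
    have h2 : (n χ : ℂ) * (Cfsg.centralChar (χ : G → ℂ) (x i) * (χ : G → ℂ) (x j)⁻¹) -
        (n χ : ℂ) * (Ωc B i * (χ : G → ℂ) (x j)⁻¹) =
        ((n χ : ℂ) * (χ : G → ℂ) (x j)⁻¹) *
          (Cfsg.centralChar (χ : G → ℂ) (x i) - Cfsg.centralChar (rep B : G → ℂ) (x i)) := by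
      rw [hΩc]; ring
    rw [h2]
    exact memLocalIdeal_mul_left (memLocalRing_mul (memLocalRing_intCast hMtop _)
      (memLocalRing_of_isIntegral hMtop (isIntegral_irr _ _))) (hsame (x i))
  -- claim 2
  have hclaim2 : ∀ B ∈ 𝔹, ¬ Cfsg.IsDefectGroup p M B D → ∀ i j : Fin r,
      Cfsg.MemLocalIdeal M (Ωc B i * Φc B j) := by
    intro B hB hBD i j
    by_contra hcon
    rw [memLocalIdeal_mul_iff (hΩR B i) (hΦR B j)] at hcon
    push Not at hcon
    exact hBD (isDefectGroup_of_nonvanishing p M hM B (hblock B hB) (fib B) (hfib B hB) n hn D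
      (x i) (x j) (hD i) (hD j) (rep B) (hrep B hB) hcon.1 hcon.2)
  set 𝔹₀ : Finset (Set (Cfsg.IrrCharacter G)) :=
    𝔹.filter (fun B => Cfsg.IsDefectGroup p M B D) with h𝔹₀
  have hclaim3 : ∀ i j : Fin r, Cfsg.MemLocalIdeal M
      ((if i = j then (g' : ℂ) else 0) - ∑ B ∈ 𝔹₀, Ωc B i * Φc B j) := by
    intro i j
    have h1 := Finset.sum_filter_add_sum_filter_not 𝔹 (fun B => Cfsg.IsDefectGroup p M B D)
      (fun B => Ωc B i * Φc B j)
    have h2 : Cfsg.MemLocalIdeal M
        (∑ B ∈ 𝔹.filter (fun B => ¬ Cfsg.IsDefectGroup p M B D), Ωc B i * Φc B j) := by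
      apply memLocalIdeal_sum
      intro B hB
      rw [Finset.mem_filter] at hB
      exact hclaim2 B hB.1 hB.2 i j
    have h3 := memLocalIdeal_add (hclaim1 i j) h2
    have h4 : (if i = j then (g' : ℂ) else 0) - ∑ B ∈ 𝔹, Ωc B i * Φc B j +
        ∑ B ∈ 𝔹.filter (fun B => ¬ Cfsg.IsDefectGroup p M B D), Ωc B i * Φc B j =
        (if i = j then (g' : ℂ) else 0) - ∑ B ∈ 𝔹₀, Ωc B i * Φc B j := by
      rw [← h1]; ring
    rwa [h4] at h3
  -- residue field argument
  have hcR : ((g' : ℕ) : localSubring M) ∉ localIdeal M := by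
    rw [mem_localIdeal]
    push_cast
    rw [memLocalIdeal_natCast_iff hM]
    exact hg'p
  set ΩR : ↥𝔹₀ → Fin r → localSubring M := fun B i => ⟨Ωc B i, hΩR B i⟩ with hΩRdef
  set ΦR : ↥𝔹₀ → Fin r → localSubring M := fun B j => ⟨Φc B j, hΦR B j⟩ with hΦRdef
  have hcongR : ∀ i j : Fin r, (if i = j then ((g' : ℕ) : localSubring M) else 0) -
      ∑ B : ↥𝔹₀, ΩR B i * ΦR B j ∈ localIdeal M := by
    intro i j
    rw [mem_localIdeal]
    have h1 := hclaim3 i j
    have h2 : (((if i = j then ((g' : ℕ) : localSubring M) else 0) -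
        ∑ B : ↥𝔹₀, ΩR B i * ΦR B j : localSubring M) : ℂ) =
        (if i = j then (g' : ℂ) else 0) - ∑ B ∈ 𝔹₀, Ωc B i * Φc B j := by
      rw [← Finset.sum_coe_sort 𝔹₀ (fun B => Ωc B i * Φc B j)]
      push_cast
      congr 1
      split_ifs <;> simp
    rw [h2]
    exact h1
  obtain ⟨e, hinj, hdet⟩ := exists_minor_of_congr (localIdeal M) ΩR ΦR _ hcR hcongR
  have he𝔹 : ∀ i, ((e i : Set (Cfsg.IrrCharacter G)) ∈ 𝔹) ∧
      Cfsg.IsDefectGroup p M (e i : Set (Cfsg.IrrCharacter G)) D := by
    intro i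
    exact Finset.mem_filter.mp (e i).2
  refine ⟨fun i => (e i : Set (Cfsg.IrrCharacter G)), ?_, ?_, ?_⟩
  · intro i j h
    exact hinj (Subtype.ext h)
  · intro i
    exact ⟨hblock _ (he𝔹 i).1, (he𝔹 i).2⟩
  · intro χ' hχ'
    -- the matrix of central characters
    set A : Matrix (Fin r) (Fin r) (localSubring M) := Matrix.of fun i j =>
      ⟨Cfsg.centralChar (χ' i : G → ℂ) (x j),
        memLocalRing_of_isIntegral hMtop (isIntegral_centralChar _ _)⟩ with hA
    have hAcong : ∀ i j, A i j - ΩR (e i) j ∈ localIdeal M := by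
      intro i j
      rw [mem_localIdeal]
      have hmem : χ' i ∈ (e i : Set (Cfsg.IrrCharacter G)) := (hχ' i).1
      have hsame := sameBlock_of_mem (hblock _ (he𝔹 i).1) hmem (hrep _ (he𝔹 i).1)
      exact hsame (x j)
    have hdetA := hdet A hAcong
    rw [mem_localIdeal] at hdetA
    set W : Matrix (Fin r) (Fin r) ℂ := Matrix.of fun i j =>
      Cfsg.centralChar (χ' i : G → ℂ) (x j) with hW
    have hAW : ((A.det : localSubring M) : ℂ) = W.det := by
      have := RingHom.map_det (localSubring M).subtype A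
      rw [Subring.coe_subtype] at this
      rw [this]
      rfl
    rw [hAW] at hdetA
    have hWR : Cfsg.MemLocalRing M W.det := by
      rw [← hAW]; exact (A.det).2
    -- the scaling
    set a := (Nat.card G).factorization p with ha
    set d := (Nat.card D).factorization p with hd
    have hidx : ∀ j : Fin r, ∃ kj : ℕ,
        (Subgroup.centralizer ({x j} : Set G)).index = p ^ (a - d) * kj := by
      intro j
      obtain ⟨S, hS⟩ := hD j
      have h1 : Nat.card D =
          p ^ (Nat.card (Subgroup.centralizer ({x j} : Set G))).factorization p := by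
        rw [← hS, card_sylow_map]
      have h2 : d = (Nat.card (Subgroup.centralizer ({x j} : Set G))).factorization p := by
        rw [hd, h1, Nat.Prime.factorization_pow hp]
        simp
      have h3 : Nat.card (Subgroup.centralizer ({x j} : Set G)) *
          (Subgroup.centralizer ({x j} : Set G)).index = Nat.card G :=
        Subgroup.card_mul_index _
      have hidx0 : (Subgroup.centralizer ({x j} : Set G)).index ≠ 0 := by
        intro h0; rw [h0, mul_zero] at h3; exact Nat.card_pos.ne' h3.symm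
      have h4 : a = (Nat.card (Subgroup.centralizer ({x j} : Set G))).factorization p +
          ((Subgroup.centralizer ({x j} : Set G)).index).factorization p := by
        rw [ha, ← h3, Nat.factorization_mul Nat.card_pos.ne' hidx0]
        rfl
      have h5 : ((Subgroup.centralizer ({x j} : Set G)).index).factorization p = a - d := by
        omega
      obtain ⟨kj, hkj⟩ := Nat.ordProj_dvd ((Subgroup.centralizer ({x j} : Set G)).index) p
      rw [h5] at hkj
      exact ⟨kj, hkj⟩
    have hdeg : ∀ i : Fin r, ∃ vi : ℕ, Cfsg.charDegree (χ' i : G → ℂ) = p ^ (a - d) * vi ∧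
        ¬ p ∣ vi := by
      intro i
      have hBi := hblock _ (he𝔹 i).1
      have hne := IsPBlock_nonempty hMtop hBi
      have h1 := Cfsg.Agent.Lib.Helper78.card_defectGroup hM hBi (he𝔹 i).2
      have h2 : d = Cfsg.blockDefect p (e i : Set (Cfsg.IrrCharacter G)) := by
        rw [hd, h1, Nat.Prime.factorization_pow hp]
        simp
      have h3 := card_factorization_eq_sInf_add_blockDefect (p := p) hne
      have hmem : χ' i ∈ (e i : Set (Cfsg.IrrCharacter G)) := (hχ' i).1
      have hht : Cfsg.blockHeight p (e i : Set (Cfsg.IrrCharacter G)) (χ' i : G → ℂ) = 0 :=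
        (hχ' i).2
      have h4 := factorization_eq_sInf_add_blockHeight (p := p) hmem
      rw [hht, add_zero] at h4
      have h5 : (Cfsg.charDegree (χ' i : G → ℂ)).factorization p = a - d := by
        rw [ha, h3, h2, h4]; omega
      refine ⟨Cfsg.charDegree (χ' i : G → ℂ) / p ^ (Cfsg.charDegree (χ' i : G → ℂ)).factorization p,
        ?_, ?_⟩
      · rw [← h5, Nat.ordProj_mul_ordCompl_eq_self]
      · exact Nat.not_dvd_ordCompl hp (irr_charDegree_pos _).ne'
    choose kk hkk using hidx
    choose vv hvv using hdeg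
    set X : Matrix (Fin r) (Fin r) ℂ := Matrix.of fun i j => (χ' i : G → ℂ) (x j) with hX
    have hscale : (Matrix.of fun i j => (vv i : ℂ) * W i j) =
        Matrix.of fun i j => (kk j : ℂ) * X i j := by
      ext i j
      simp only [Matrix.of_apply, hW, hX]
      unfold Cfsg.centralChar
      rw [irr_apply_one_eq_charDegree, hkk j, (hvv i).1]
      have hP : ((p : ℂ) ^ (a - d)) ≠ 0 := by
        exact_mod_cast (pow_pos hp.pos _).ne'
      have hv : (vv i : ℂ) ≠ 0 := by
        intro h0
        have : vv i = 0 := by exact_mod_cast h0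
        exact (hvv i).2 (this ▸ dvd_zero p)
      push_cast
      field_simp
    have hdets : (∏ i, (vv i : ℂ)) * W.det = (∏ j, (kk j : ℂ)) * X.det := by
      rw [← Matrix.det_mul_column, ← Matrix.det_mul_row, hscale]
    intro hmem
    apply hdetA
    have h1 : Cfsg.MemLocalIdeal M ((∏ i, (vv i : ℂ)) * W.det) := by
      rw [hdets]
      apply memLocalIdeal_mul_left _ hmem
      rw [← Nat.cast_prod]
      exact memLocalRing_natCast hMtop _
    have hvR : Cfsg.MemLocalRing M (∏ i, (vv i : ℂ)) := by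
      rw [← Nat.cast_prod]
      exact memLocalRing_natCast hMtop _
    rcases (memLocalIdeal_mul_iff hvR hWR).mp h1 with h2 | h2
    · exfalso
      rw [← Nat.cast_prod, memLocalIdeal_natCast_iff hM] at h2
      obtain ⟨i, -, hi⟩ := (Prime.dvd_finsetProd_iff (Nat.Prime.prime hp) _).mp h2
      exact (hvv i).2 hi
    · exact h2

end Cfsg.Agent.S4741
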