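import Cfsg.Statements.S4743
-- import your own Cfsg.Agent.* helpers here
import Cfsg.Agent.S4742

set_option autoImplicit false
open Cfsg

namespace Cfsg.Agent.S4743

/-- The centralizer hypothesis is symmetric in `p` and `q`. -/
theorem hC_symm {G : Type*} [Group G] [Finite G] (p q : ℕ) [Fact p.Prime] [Fact q.Prime]
    (hC : ∀ g : G, g ≠ 1 → (∃ k : ℕ, orderOf g = p ^ k) →
      ¬ q ∣ Nat.card ↥(Subgroup.centralizer ({g} : Set G))) :
    ∀ z : G, z ≠ 1 → (∃ k : ℕ, orderOf z = q ^ k) →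
      ¬ p ∣ Nat.card ↥(Subgroup.centralizer ({z} : Set G)) := by
  have hp : p.Prime := Fact.out
  intro z hz1 ⟨kz, hkz⟩ hdvd
  obtain ⟨u, hu⟩ := exists_prime_orderOf_dvd_card' p hdvd
  have hu1 : (u : G) ≠ 1 := by
    intro h
    have : orderOf (u : G) = 1 := by rw [h]; exact orderOf_one
    rw [Subgroup.orderOf_coe, hu] at this
    exact hp.one_lt.ne' this
  have huo : orderOf (u : G) = p ^ 1 := by rw [Subgroup.orderOf_coe, hu, pow_one]
  apply hC (u : G) hu1 ⟨1, huo⟩
  have hzu : z ∈ Subgroup.centralizer ({(u : G)} : Set G) := by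
    rw [Subgroup.mem_centralizer_singleton_iff]
    have := u.2
    rw [Subgroup.mem_centralizer_singleton_iff] at this
    exact this.symm
  have h1 : orderOf z ∣ Nat.card (Subgroup.centralizer ({(u : G)} : Set G)) := by
    have := orderOf_dvd_natCard (⟨z, hzu⟩ : Subgroup.centralizer ({(u : G)} : Set G))
    rwa [← Subgroup.orderOf_coe] at this
  have hkz0 : kz ≠ 0 := by
    intro h0
    rw [h0, pow_zero, orderOf_eq_one_iff] at hkz
    exact hz1 hkz
  rw [hkz] at h1
  exact (dvd_pow_self q hkz0).trans h1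

/-- From a `p`-solvable chain: a normal `p'`-subgroup `K` and a normal subgroup `L ≥ K` with
`|L : K|` a power of `p` and `p ∣ |L|`. -/
theorem exists_chain_step {G : Type*} [Group G] [Finite G] (p : ℕ) [Fact p.Prime]
    (hpG : p ∣ Nat.card G) (hsolv : Cfsg.IsPSolvable p G) :
    ∃ K L : Subgroup G, K.Normal ∧ L.Normal ∧ K ≤ L ∧ ¬ p ∣ Nat.card K ∧ p ∣ Nat.card L ∧
      ∃ m : ℕ, K.relIndex L = p ^ m := by
  classical
  have hp : p.Prime := Fact.out
  obtain ⟨n, H, h0, hlast, hmono, hnormal, hstep⟩ := hsolv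
  let Pr : ℕ → Prop := fun j => ∃ hj : j < n + 1, p ∣ Nat.card (H ⟨j, hj⟩)
  have hex : ∃ j, Pr j := ⟨n, Nat.lt_succ_self n, by
    have : H ⟨n, Nat.lt_succ_self n⟩ = ⊤ := hlast
    rw [this, Subgroup.card_top]; exact hpG⟩
  have hj := Nat.find_spec hex
  have hmin := fun j => Nat.find_min hex (m := j)
  set j := Nat.find hex with hjdef
  obtain ⟨hjlt, hjdvd⟩ := hj
  have hj0 : j ≠ 0 := by
    intro h
    have h00 : H ⟨j, hjlt⟩ = ⊥ := by
      have : (⟨j, hjlt⟩ : Fin (n + 1)) = 0 := Fin.ext h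
      rw [this]; exact h0
    rw [h00, Subgroup.card_bot] at hjdvd
    exact hp.one_lt.ne' (Nat.dvd_one.mp hjdvd)
  obtain ⟨j', hj'⟩ := Nat.exists_eq_succ_of_ne_zero hj0
  have hj'n : j' < n := by omega
  let i : Fin n := ⟨j', hj'n⟩
  have hsucc : H i.succ = H ⟨j, hjlt⟩ := by
    congr 1
    apply Fin.ext
    simp [i, hj']
  have hcast : ¬ p ∣ Nat.card (H i.castSucc) := by
    intro hd
    have hlt : j' < j := by omega
    exact hmin j' hlt ⟨by omega, hd⟩
  have hle : H i.castSucc ≤ H i.succ := hmono (by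
    rw [Fin.le_def]; simp)
  have hcard : Nat.card (H i.castSucc) * (H i.castSucc).relIndex (H i.succ) = Nat.card (H i.succ) := by
    have := Subgroup.relIndex_mul_relIndex (⊥ : Subgroup G) (H i.castSucc) (H i.succ) bot_le hle
    rwa [Subgroup.relIndex_bot_left, Subgroup.relIndex_bot_left] at this
  refine ⟨H i.castSucc, H i.succ, hnormal _, hnormal _, hle, hcast, by rw [hsucc]; exact hjdvd, ?_⟩
  rcases hstep i with hm | hcop
  · exact hm
  · exfalso
    have hd : p ∣ Nat.card (H i.castSucc) * (H i.castSucc).relIndex (H i.succ) := by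
      rw [hcard, hsucc]; exact hjdvd
    rcases (Nat.Prime.dvd_mul hp).mp hd with h | h
    · exact hcast h
    · exact (Nat.Prime.coprime_iff_not_dvd hp).mp hcop.symm h

/-- The core argument: `p`-solvable, and both "conjugate quotient" properties, is impossible. -/
theorem core {G : Type*} [Group G] [Finite G] (p q : ℕ) [Fact p.Prime] [Fact q.Prime]
    (hpq : p ≠ q) (hpG : p ∣ Nat.card G) (hsolv : Cfsg.IsPSolvable p G)
    (h1 : ∀ z : G, z ≠ 1 → (∃ k : ℕ, orderOf z = q ^ k) → ∃ g h : G, IsConj z g ∧ IsConj z h ∧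
      g * h⁻¹ ≠ 1 ∧ ∃ k : ℕ, orderOf (g * h⁻¹) = p ^ k)
    (h2 : ∀ u : G, u ≠ 1 → (∃ k : ℕ, orderOf u = p ^ k) → ∃ g h : G, IsConj u g ∧ IsConj u h ∧
      g * h⁻¹ ≠ 1 ∧ ∃ k : ℕ, orderOf (g * h⁻¹) = q ^ k) : False := by
  have hp : p.Prime := Fact.out
  have hq : q.Prime := Fact.out
  obtain ⟨K, L, hKn, hLn, hKL, hpK, hpL, m, hm⟩ := exists_chain_step p hpG hsolv
  have conj_mem : ∀ (N : Subgroup G), N.Normal → ∀ x y : G, x ∈ N → IsConj x y → y ∈ N := by
    intro N hN x y hx hxy
    obtain ⟨c, rfl⟩ := isConj_iff.mp hxy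
    exact hN.conj_mem x hx c
  -- `q` does not divide `|K|`
  have hqK : ¬ q ∣ Nat.card K := by
    intro hd
    obtain ⟨z, hz⟩ := exists_prime_orderOf_dvd_card' q hd
    have hz1 : (z : G) ≠ 1 := by
      intro h
      have : orderOf (z : G) = 1 := by rw [h]; exact orderOf_one
      rw [Subgroup.orderOf_coe, hz] at this
      exact hq.one_lt.ne' this
    obtain ⟨g, h, hg, hh, hne, k, hk⟩ := h1 (z : G) hz1 ⟨1, by rw [Subgroup.orderOf_coe, hz, pow_one]⟩
    have hgK : g ∈ K := conj_mem K hKn _ _ z.2 hg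
    have hhK : h ∈ K := conj_mem K hKn _ _ z.2 hh
    have hghK : g * h⁻¹ ∈ K := K.mul_mem hgK (K.inv_mem hhK)
    have hord : orderOf (g * h⁻¹) ∣ Nat.card K := by
      have := orderOf_dvd_natCard (⟨g * h⁻¹, hghK⟩ : K)
      rwa [← Subgroup.orderOf_coe] at this
    have hk0 : k ≠ 0 := by
      intro h0
      rw [h0, pow_zero, orderOf_eq_one_iff] at hk
      exact hne hk
    rw [hk] at hord
    exact hpK ((dvd_pow_self p hk0).trans hord)
  -- an element of order `p` in `L`
  obtain ⟨u, hu⟩ := exists_prime_orderOf_dvd_card' p hpL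
  have hu1 : (u : G) ≠ 1 := by
    intro h
    have : orderOf (u : G) = 1 := by rw [h]; exact orderOf_one
    rw [Subgroup.orderOf_coe, hu] at this
    exact hp.one_lt.ne' this
  obtain ⟨g, h, hg, hh, hne, k, hk⟩ := h2 (u : G) hu1 ⟨1, by rw [Subgroup.orderOf_coe, hu, pow_one]⟩
  have hgL : g ∈ L := conj_mem L hLn _ _ u.2 hg
  have hhL : h ∈ L := conj_mem L hLn _ _ u.2 hh
  have hyL : g * h⁻¹ ∈ L := L.mul_mem hgL (L.inv_mem hhL)
  set y := g * h⁻¹ with hy
  -- `y ^ (p^m) ∈ K`
  have hypow : y ^ (p ^ m) ∈ K := by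
    have : (K.subgroupOf L).Normal := Subgroup.Normal.subgroupOf hKn L
    have := Subgroup.pow_index_mem (K.subgroupOf L) (⟨y, hyL⟩ : L)
    rw [Subgroup.mem_subgroupOf] at this
    have hidx : (K.subgroupOf L).index = p ^ m := hm
    rw [hidx] at this
    simpa using this
  -- hence `y ∈ K`
  have hcop : Nat.Coprime (orderOf y) (p ^ m) := by
    rw [hk]
    exact Nat.Coprime.pow _ _ ((Nat.coprime_primes hq hp).mpr (Ne.symm hpq))
  have hyK : y ∈ K := by
    have hmem : y ∈ Subgroup.zpowers (y ^ (p ^ m)) := by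
      have h1 : Subgroup.zpowers (y ^ (p ^ m)) = Subgroup.zpowers y := by
        apply le_antisymm
        · exact Subgroup.zpowers_le.mpr (Subgroup.pow_mem _ (Subgroup.mem_zpowers y) _)
        · rw [Subgroup.zpowers_le]
          obtain ⟨a, ha⟩ := exists_pow_eq_self_of_coprime (x := y) hcop.symm
          have hmem' : (y ^ (p ^ m)) ^ a ∈ Subgroup.zpowers (y ^ (p ^ m)) :=
            Subgroup.pow_mem _ (Subgroup.mem_zpowers (y ^ (p ^ m))) a
          rwa [ha] at hmem'
      rw [h1]; exact Subgroup.mem_zpowers y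
    exact (Subgroup.zpowers_le.mpr hypow) hmem
  have hord : orderOf y ∣ Nat.card K := by
    have := orderOf_dvd_natCard (⟨y, hyK⟩ : K)
    rwa [← Subgroup.orderOf_coe] at this
  have hk0 : k ≠ 0 := by
    intro h0
    rw [h0, pow_zero, orderOf_eq_one_iff] at hk
    exact hne hk
  rw [hk] at hord
  exact hqK ((dvd_pow_self q hk0).trans hord)

/-- Let p ≠ q be primes dividing the order of the finite group G, suppose the centralizer of every non-identity p-element has order prime to q, and suppose G is p-solvable or q-solvable. Then G has an irreducible character of p-defect zero or an irreducible character of q-defect zero. -/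
theorem result {G : Type*} [Group G] [Finite G] (p q : ℕ) [Fact p.Prime] [Fact q.Prime] (hppq : p ≠ q) (hpG : p ∣ Nat.card G) (hqG : q ∣ Nat.card G) (hC : ∀ g : G, g ≠ 1 → (∃ k : ℕ, orderOf g = p ^ k) → ¬ q ∣ Nat.card ↥(Subgroup.centralizer ({g} : Set G))) (hsolv : Cfsg.IsPSolvable p G ∨ Cfsg.IsPSolvable q G) : (∃ χ : Cfsg.IrrCharacter G, (Cfsg.charDegree (χ : G → ℂ)).factorization p = (Nat.card G).factorization p) ∨ (∃ χ : Cfsg.IrrCharacter G, (Cfsg.charDegree (χ : G → ℂ)).factorization q = (Nat.card G).factorization q) := by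
  by_contra hcon
  rw [not_or] at hcon
  obtain ⟨hnp, hnq⟩ := hcon
  have hC' := hC_symm p q hC
  have h1 := (Cfsg.Agent.S4742.result p q hppq hpG hqG hC).resolve_left hnp
  have h2 := (Cfsg.Agent.S4742.result q p (Ne.symm hppq) hqG hpG hC').resolve_left hnq
  rcases hsolv with hs | hs
  · exact core p q hppq hpG hs h1 h2
  · exact core q p (Ne.symm hppq) hqG hs h2 h1

end Cfsg.Agent.S4743
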