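import Cfsg.Statements.S4746
-- import your own Cfsg.Agent.* helpers here
import Cfsg.Agent.S4738
import Cfsg.Agent.Lib.Helper16.LocalRing
import Cfsg.Agent.Lib.Helper75.PQRDegree
import Cfsg.Agent.Lib.Helper79.ClassCount
import Cfsg.Agent.Lib.Helper79.Robinson
import Cfsg.Agent.Lib.Helper78.CharValues

set_option autoImplicit false
open Cfsg

namespace Cfsg.Agent.S4746

open Cfsg.Agent.Lib.Helper79 Cfsg.Agent.Lib.Helper16
open scoped ComplexConjugate

/-- Modulo an ideal containing `2`, the square of a sum is the sum of the squares. -/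
theorem sq_sum_sub_sum_sq {M : Ideal AlgInt} [M.IsPrime] (hM : M ≠ ⊤) (h2 : MemLocalIdeal M 2)
    {ι : Type*} (s : Finset ι) (f : ι → ℂ) (hf : ∀ i ∈ s, MemLocalRing M (f i)) :
    MemLocalIdeal M ((∑ i ∈ s, f i) ^ 2 - ∑ i ∈ s, (f i) ^ 2) := by
  classical
  induction s using Finset.induction_on with
  | empty => simpa using memLocalIdeal_zero hM
  | insert a s ha ih =>
    rw [Finset.sum_insert ha, Finset.sum_insert ha]
    have hfs : ∀ i ∈ s, MemLocalRing M (f i) := fun i hi => hf i (Finset.mem_insert_of_mem hi)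
    have hS : MemLocalRing M (∑ i ∈ s, f i) := memLocalRing_sum s f hfs
    have ha' : MemLocalRing M (f a) := hf a (Finset.mem_insert_self a s)
    have h1 : (f a + ∑ i ∈ s, f i) ^ 2 - (f a ^ 2 + ∑ i ∈ s, f i ^ 2) =
        2 * (f a * ∑ i ∈ s, f i) + ((∑ i ∈ s, f i) ^ 2 - ∑ i ∈ s, f i ^ 2) := by ring
    rw [h1]
    exact memLocalIdeal_add (memLocalIdeal_mul_right h2 (memLocalRing_mul ha' hS)) (ih hfs)

/-- The elements of the subgroup generated by an involution. -/
theorem mem_zpowers_invol {G : Type*} [Group G] {t : G} (htt : t * t = 1) (g : G) :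
    g ∈ Subgroup.zpowers t ↔ g = 1 ∨ g = t := by
  constructor
  · intro hg
    obtain ⟨k, rfl⟩ := Subgroup.mem_zpowers_iff.mp hg
    have h2 : t ^ (2 : ℤ) = 1 := by
      rw [zpow_ofNat, pow_two]; exact htt
    rcases Int.emod_two_eq_zero_or_one k with h | h
    · left
      have : k = 2 * (k / 2) := by omega
      rw [this, zpow_mul, h2, one_zpow]
    · right
      have : k = 2 * (k / 2) + 1 := by omega
      rw [this, zpow_add, zpow_mul, h2, one_zpow, one_mul, zpow_one]
  · rintro (rfl | rfl)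
    · exact Subgroup.one_mem _
    · exact Subgroup.mem_zpowers _

/-- For an involution `t`, `χ(1) + χ(t) = 2m` with `m` a natural number. -/
theorem irr_one_add_invol {G : Type*} [Group G] [Finite G] (χ : Cfsg.IrrCharacter G) {t : G}
    (ht1 : t ≠ 1) (htt : t * t = 1) :
    ∃ m : ℕ, (χ : G → ℂ) 1 + (χ : G → ℂ) t = 2 * (m : ℂ) := by
  classical
  have : Fintype G := Fintype.ofFinite G
  have : Fintype (Subgroup.zpowers t) := Fintype.ofFinite _
  obtain ⟨m, hm⟩ := sum_subgroup_irr χ (Subgroup.zpowers t)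
  refine ⟨m, ?_⟩
  have hcard : Nat.card (Subgroup.zpowers t) = 2 := by
    rw [Nat.card_zpowers]
    apply orderOf_eq_prime
    · rw [pow_two]; exact htt
    · exact ht1
  rw [hcard] at hm
  have hs : ∑ u : Subgroup.zpowers t, (χ : G → ℂ) (u : G) =
      ∑ g ∈ ({1, t} : Finset G), (χ : G → ℂ) g := by
    rw [Finset.sum_subtype ({1, t} : Finset G) (p := fun g => g ∈ Subgroup.zpowers t)]
    intro g
    rw [mem_zpowers_invol htt g]
    simp
  rw [hs, Finset.sum_pair (Ne.symm ht1)] at hm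
  rw [hm]; push_cast; ring

/-- Let p be an odd prime and G a finite group of even order divisible by p in which the centralizer of every non-identity p-element has odd order. Then G has an irreducible character of p-defect zero or an irreducible character of even degree. -/
theorem result {G : Type*} [Group G] [Finite G] (p : ℕ) [Fact p.Prime] (hp2 : p ≠ 2) (hpG : p ∣ Nat.card G) (h2G : 2 ∣ Nat.card G) (hC : ∀ g : G, g ≠ 1 → (∃ k : ℕ, orderOf g = p ^ k) → Odd (Nat.card ↥(Subgroup.centralizer ({g} : Set G)))) : (∃ χ : Cfsg.IrrCharacter G, (Cfsg.charDegree (χ : G → ℂ)).factorization p = (Nat.card G).factorization p) ∨ ∃ χ : Cfsg.IrrCharacter G, Even (Cfsg.charDegree (χ : G → ℂ)) := by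
  classical
  have hp : p.Prime := Fact.out
  by_contra hcon
  push Not at hcon
  obtain ⟨hdef, hodd⟩ := hcon
  have : Fintype G := Fintype.ofFinite G
  have : Fintype (Cfsg.IrrCharacter G) := Fintype.ofFinite _
  have hG : Even (Nat.card G) := even_iff_two_dvd.mpr h2G
  have : Fact (Nat.Prime 2) := ⟨Nat.prime_two⟩
  -- no element of order 2p
  have h2p : ∀ g : G, orderOf g ≠ 2 * p := by
    intro g hg
    have h1 : orderOf (g ^ 2) = p := by
      rw [orderOf_pow' g two_ne_zero, hg, Nat.gcd_eq_right (dvd_mul_right 2 p)]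
      exact Nat.mul_div_cancel_left p two_pos
    have h3 : orderOf (g ^ p) = 2 := by
      rw [orderOf_pow' g hp.ne_zero, hg, Nat.gcd_eq_right (dvd_mul_left p 2)]
      exact Nat.mul_div_cancel 2 hp.pos
    have hne : g ^ 2 ≠ 1 := by
      intro h
      rw [h, orderOf_one] at h1
      exact hp.one_lt.ne h1
    have hoddC := hC (g ^ 2) hne ⟨1, by rw [h1, pow_one]⟩
    have hmem : g ^ p ∈ Subgroup.centralizer ({g ^ 2} : Set G) := by
      rw [Subgroup.mem_centralizer_singleton_iff, ← pow_add, ← pow_add, add_comm]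
    have hd : 2 ∣ Nat.card ↥(Subgroup.centralizer ({g ^ 2} : Set G)) := by
      have := orderOf_dvd_natCard (⟨g ^ p, hmem⟩ : Subgroup.centralizer ({g ^ 2} : Set G))
      rwa [← Subgroup.orderOf_coe, Subgroup.coe_mk, h3] at this
    exact (Nat.not_even_iff_odd.mpr hoddC) (even_iff_two_dvd.mpr hd)
  have hno : ¬ ∃ χ : Cfsg.IrrCharacter G,
      (Cfsg.charDegree (χ : G → ℂ)).factorization p = (Nat.card G).factorization p :=
    fun ⟨χ, h⟩ => hdef χ h
  obtain ⟨-, hallconj⟩ := (Cfsg.Agent.S4738.result p hp2 hG h2p).resolve_left hno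
  have hR := (Cfsg.Agent.S4744.result p hp2 hpG h2G hC).resolve_left hno
  have hH : Cfsg.Agent.S4744.NoInvComm G p := Cfsg.Agent.S4744.noInvComm_of_odd p hC
  obtain ⟨P⟩ : Nonempty (Sylow p G) := inferInstance
  -- an involution y inverting P
  have hNev : 2 ∣ Nat.card ↥(Subgroup.normalizer ((P : Subgroup G) : Set G)) :=
    even_iff_two_dvd.mp (hR P).1
  obtain ⟨y, hy⟩ := exists_prime_orderOf_dvd_card' 2 hNev
  have hy' : orderOf (y : G) = 2 := by rw [Subgroup.orderOf_coe]; exact hy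
  have hy1 : (y : G) ≠ 1 := by
    intro h
    rw [h, orderOf_one] at hy'
    exact absurd hy' (by norm_num)
  have hyy : (y : G) * (y : G) = 1 := by
    have h := pow_orderOf_eq_one (y : G)
    rw [hy', pow_two] at h
    exact h
  have hinvP : ∀ z ∈ (P : Subgroup G), (y : G) * z * (y : G)⁻¹ = z⁻¹ :=
    Cfsg.Agent.S4744.inverts p hH hy1 hyy P.isPGroup' y.2
  -- a nontrivial element x₀ of P
  have hPd : p ∣ Nat.card ↥(P : Subgroup G) := by
    rw [P.card_eq_multiplicity]
    apply dvd_pow_self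
    intro h0
    have := (Nat.factorization_eq_zero_iff (Nat.card G) p).mp h0
    rcases this with h | h | h
    · exact h hp
    · exact h hpG
    · exact Nat.card_pos.ne' h
  obtain ⟨x₀, hx₀⟩ := exists_prime_orderOf_dvd_card' p hPd
  have hx₀' : orderOf (x₀ : G) = p := by rw [Subgroup.orderOf_coe]; exact hx₀
  -- a central involution z of a Sylow 2-subgroup
  obtain ⟨T⟩ : Nonempty (Sylow 2 G) := inferInstance
  set a := (Nat.card G).factorization 2 with ha
  have hTcard : Nat.card ↥(T : Subgroup G) = 2 ^ a := T.card_eq_multiplicity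
  have ha0 : a ≠ 0 := by
    intro h0
    have := (Nat.factorization_eq_zero_iff (Nat.card G) 2).mp h0
    rcases this with h | h | h
    · exact h Nat.prime_two
    · exact h h2G
    · exact Nat.card_pos.ne' h
  have hTnt : Nontrivial ↥(T : Subgroup G) := by
    rw [← Finite.one_lt_card_iff_nontrivial, hTcard]
    exact Nat.one_lt_two_pow ha0
  have hZnt : Nontrivial (Subgroup.center ↥(T : Subgroup G)) := T.isPGroup'.center_nontrivial
  have hZ2 : 2 ∣ Nat.card (Subgroup.center ↥(T : Subgroup G)) := by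
    obtain ⟨n, hn⟩ := (IsPGroup.iff_card.mp
      (T.isPGroup'.to_subgroup (Subgroup.center ↥(T : Subgroup G))))
    rw [hn]
    apply dvd_pow_self
    intro h0
    rw [h0, pow_zero] at hn
    have := Finite.one_lt_card_iff_nontrivial.mpr hZnt
    omega
  obtain ⟨z₀, hz₀⟩ := exists_prime_orderOf_dvd_card' 2 hZ2
  set z : G := ((z₀ : ↥(T : Subgroup G)) : G) with hz
  have hzo : orderOf z = 2 := by
    rw [hz, Subgroup.orderOf_coe, Subgroup.orderOf_coe]; exact hz₀
  have hz1 : z ≠ 1 := by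
    intro h
    rw [h, orderOf_one] at hzo
    exact absurd hzo (by norm_num)
  have hzz : z * z = 1 := by
    have h := pow_orderOf_eq_one z
    rw [hzo, pow_two] at h
    exact h
  have hzinv : z⁻¹ = z := inv_eq_of_mul_eq_one_left hzz
  have hTle : (T : Subgroup G) ≤ Subgroup.centralizer ({z} : Set G) := by
    intro s hs
    rw [Subgroup.mem_centralizer_singleton_iff]
    have hc := Subgroup.mem_center_iff.mp z₀.2 ⟨s, hs⟩
    have := congrArg (fun w : ↥(T : Subgroup G) => (w : G)) hc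
    simp only [Subgroup.coe_mul] at this
    exact this
  have hCdvd : 2 ^ a ∣ Nat.card ↥(Subgroup.centralizer ({z} : Set G)) := by
    rw [← hTcard]
    exact Subgroup.card_dvd_of_le hTle
  -- conjugate y to z and transport x₀
  obtain ⟨c, hc⟩ := isConj_iff.mp (hallconj (y : G) z hy' hzo)
  set x : G := c * (x₀ : G) * c⁻¹ with hx
  have hxo : orderOf x = p := by
    have : x = MulAut.conj c (x₀ : G) := rfl
    rw [this, MulEquiv.orderOf_eq]; exact hx₀'
  have hx1 : x ≠ 1 := by
    intro h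
    rw [h, orderOf_one] at hxo
    exact hp.one_lt.ne hxo
  have hzx : z * x * z⁻¹ = x⁻¹ := by
    have h1 := hinvP (x₀ : G) x₀.2
    rw [← hc, hx]
    calc c * (y : G) * c⁻¹ * (c * (x₀ : G) * c⁻¹) * (c * (y : G) * c⁻¹)⁻¹
        = c * ((y : G) * (x₀ : G) * (y : G)⁻¹) * c⁻¹ := by group
      _ = c * (x₀ : G)⁻¹ * c⁻¹ := by rw [h1]
      _ = (c * (x₀ : G) * c⁻¹)⁻¹ := by group
  have hCx : Odd (Nat.card ↥(Subgroup.centralizer ({x} : Set G))) :=
    hC x hx1 ⟨1, by rw [hxo, pow_one]⟩
  -- the 2-modular ideal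
  obtain ⟨M, hM⟩ := Cfsg.Agent.Lib.Helper75.exists_isPModular 2 Nat.prime_two
  have hMprime : M.IsPrime := isPModular_isPrime hM
  have hMtop : M ≠ ⊤ := (isPModular_isMaximal hM).ne_top
  have h2I : MemLocalIdeal M 2 := by
    have := memLocalIdeal_p hM
    simpa using this
  -- the index of the centralizer of z is odd
  set Cz := Subgroup.centralizer ({z} : Set G) with hCz
  have hmul : Nat.card Cz * Cz.index = Nat.card G := Subgroup.card_mul_index Cz
  have hidx : ¬ 2 ∣ Cz.index := by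
    intro hd
    have h0 : Cz.index ≠ 0 := Subgroup.index_ne_zero_of_finite
    have hC0 : Nat.card Cz ≠ 0 := Nat.card_pos.ne'
    have hfac : a = (Nat.card Cz).factorization 2 + Cz.index.factorization 2 := by
      rw [ha, ← hmul, Nat.factorization_mul hC0 h0]; rfl
    have h1 : a ≤ (Nat.card Cz).factorization 2 :=
      (Nat.prime_two.pow_dvd_iff_le_factorization hC0).mp hCdvd
    have h2 : 1 ≤ Cz.index.factorization 2 :=
      (Nat.prime_two.dvd_iff_one_le_factorization h0).mp hd
    omega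
  have hCzev : 2 ∣ Nat.card Cz := dvd_trans (dvd_pow_self 2 ha0) hCdvd
  -- the class multiplication count
  have h1 := card_conj_pairs z z x
  have h2 := card_conjugator_pairs z z (fun g h : G => g * h = x)
  set J := Nat.card {yz : G × G // IsConj z yz.1 ∧ IsConj z yz.2 ∧ yz.1 * yz.2 = x} with hJ
  set S := ∑ χ : Cfsg.IrrCharacter G,
      (χ : G → ℂ) z * (χ : G → ℂ) z * (χ : G → ℂ) x⁻¹ / (χ : G → ℂ) 1 with hS
  rw [h2] at h1
  have hidx0 : (Cz.index : ℂ) ≠ 0 := by exact_mod_cast Subgroup.index_ne_zero_of_finite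
  have hCz0 : (Nat.card Cz : ℂ) ≠ 0 := by exact_mod_cast Nat.card_pos.ne'
  have hSval : S = (Nat.card Cz : ℂ) * (J : ℂ) * (Cz.index : ℂ)⁻¹ := by
    have h3 : (Nat.card G : ℂ) = (Nat.card Cz : ℂ) * (Cz.index : ℂ) := by
      rw [← hmul]; push_cast; ring
    rw [h3] at h1
    push_cast at h1
    field_simp
    have h4 : (Nat.card Cz : ℂ) * ((Nat.card Cz : ℂ) * (J : ℂ)) =
        (Nat.card Cz : ℂ) * ((Cz.index : ℂ) * S) := by
      rw [← mul_assoc, h1]; ring
    have := mul_left_cancel₀ hCz0 h4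
    rw [this]; ring
  have hSI : MemLocalIdeal M S := by
    rw [hSval]
    apply memLocalIdeal_mul_right
    · apply memLocalIdeal_mul_right
      · exact (memLocalIdeal_natCast_iff hM _).mpr hCzev
      · exact memLocalRing_natCast hMtop _
    · exact memLocalRing_inv_natCast hM hidx
  -- each term is congruent to χ(x⁻¹)
  have hterm : ∀ χ : Cfsg.IrrCharacter G,
      MemLocalIdeal M ((χ : G → ℂ) z * (χ : G → ℂ) z * (χ : G → ℂ) x⁻¹ / (χ : G → ℂ) 1 -
        (χ : G → ℂ) x⁻¹) := by
    intro χ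
    obtain ⟨m, hm⟩ := irr_one_add_invol χ hz1 hzz
    set d := Cfsg.charDegree (χ : G → ℂ) with hd
    have hχ1 : (χ : G → ℂ) 1 = (d : ℂ) := irr_apply_one_eq_charDegree χ
    have hdodd : ¬ 2 ∣ d := fun h => hodd χ (even_iff_two_dvd.mpr h)
    have hd0 : (d : ℂ) ≠ 0 := by
      have := irr_charDegree_pos χ
      exact_mod_cast this.ne'
    have hχz : (χ : G → ℂ) z = 2 * (m : ℂ) - (d : ℂ) := by
      rw [← hχ1, ← hm]; ring
    obtain ⟨e, he⟩ : ∃ e : ℤ, (d : ℤ) * ((d : ℤ) - 1) = 2 * e := by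
      have := Int.even_mul_pred_self (d : ℤ)
      obtain ⟨e, he⟩ := this
      exact ⟨e, by rw [he]; ring⟩
    have hnum : (χ : G → ℂ) z * (χ : G → ℂ) z - (χ : G → ℂ) 1 =
        ((2 * (2 * (m : ℤ) * m - 2 * m * d + e) : ℤ) : ℂ) := by
      rw [hχz, hχ1]
      have he' : (d : ℂ) * ((d : ℂ) - 1) = 2 * (e : ℂ) := by exact_mod_cast he
      push_cast
      linear_combination he'
    have hnumI : MemLocalIdeal M ((χ : G → ℂ) z * (χ : G → ℂ) z - (χ : G → ℂ) 1) := by
      rw [hnum]
      apply (memLocalIdeal_intCast_iff hM _).mpr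
      exact ⟨_, rfl⟩
    have hd1I : ¬ MemLocalIdeal M ((χ : G → ℂ) 1) := by
      rw [hχ1, memLocalIdeal_natCast_iff hM]
      exact hdodd
    have hd1R : MemLocalRing M ((χ : G → ℂ) 1) := by
      rw [hχ1]; exact memLocalRing_natCast hMtop _
    have hxR : MemLocalRing M ((χ : G → ℂ) x⁻¹) :=
      memLocalRing_of_isIntegral hMtop (isIntegral_irr χ x⁻¹)
    have heq : (χ : G → ℂ) z * (χ : G → ℂ) z * (χ : G → ℂ) x⁻¹ / (χ : G → ℂ) 1 -
        (χ : G → ℂ) x⁻¹ =
        ((χ : G → ℂ) z * (χ : G → ℂ) z - (χ : G → ℂ) 1) / (χ : G → ℂ) 1 * (χ : G → ℂ) x⁻¹ := by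
      rw [hχ1]; field_simp
    rw [heq]
    exact memLocalIdeal_mul_right (memLocalIdeal_div hnumI hd1R hd1I) hxR
  -- χ(x⁻¹) = χ(x)
  have hxinv : ∀ χ : Cfsg.IrrCharacter G, (χ : G → ℂ) x⁻¹ = (χ : G → ℂ) x := by
    intro χ
    rw [← hzx]
    exact irr_conj_apply χ x z
  set A := ∑ χ : Cfsg.IrrCharacter G, (χ : G → ℂ) x with hA
  have hAI : MemLocalIdeal M A := by
    have h3 : MemLocalIdeal M (S - A) := by
      rw [hS, hA, ← Finset.sum_sub_distrib]
      apply memLocalIdeal_sum
      intro χ _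
      rw [← hxinv χ]
      exact hterm χ
    have h4 : A = S - (S - A) := by ring
    rw [h4]
    exact memLocalIdeal_sub hSI h3
  -- column orthogonality
  have hcol : ∑ χ : Cfsg.IrrCharacter G, ((χ : G → ℂ) x) ^ 2 =
      (Nat.card ↥(Subgroup.centralizer ({x} : Set G)) : ℂ) := by
    rw [← column_orthogonality_of_isConj (IsConj.refl x)]
    apply Finset.sum_congr rfl
    intro χ _
    have hχc : IsCharacter G (χ : G → ℂ) :=
      Cfsg.Agent.Lib.Helper78.IsIrrCharacter.isCharacter χ.2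
    rw [← Cfsg.Agent.Lib.Helper78.IsCharacter.inv hχc, hxinv χ, pow_two]
  have hsq := sq_sum_sub_sum_sq hMtop h2I (Finset.univ : Finset (Cfsg.IrrCharacter G))
    (fun χ => (χ : G → ℂ) x)
    (fun χ _ => memLocalRing_of_isIntegral hMtop (isIntegral_irr χ x))
  rw [hcol] at hsq
  have hA2 : MemLocalIdeal M (A ^ 2) := by
    rw [pow_two]
    exact memLocalIdeal_mul_right hAI (memLocalRing_of_memLocalIdeal hAI)
  have hcard : MemLocalIdeal M (Nat.card ↥(Subgroup.centralizer ({x} : Set G)) : ℂ) := by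
    have h4 : (Nat.card ↥(Subgroup.centralizer ({x} : Set G)) : ℂ) =
        A ^ 2 - (A ^ 2 - (Nat.card ↥(Subgroup.centralizer ({x} : Set G)) : ℂ)) := by ring
    rw [h4]
    exact memLocalIdeal_sub hA2 hsq
  have := (memLocalIdeal_natCast_iff hM _).mp hcard
  exact (Nat.not_even_iff_odd.mpr hCx) (even_iff_two_dvd.mpr this)

end Cfsg.Agent.S4746
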