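import Cfsg.Statements.S4750
import Cfsg.Agent.Lib.Helper63.TILattice
import Cfsg.Agent.Lib.Helper3.CharValues
import Cfsg.Agent.Lib.Helper76.CharBasic
-- import your own Cfsg.Agent.* helpers here

set_option autoImplicit false
open scoped Pointwise
open Cfsg

namespace Cfsg.Agent.S4750

open scoped ComplexConjugate

/-- `classInner χ χ` is the dimension of the space of invariants of the adjoint representation. -/
theorem classInner_self_eq_finrank {G : Type*} [Group G] [Fintype G] (n : ℕ)
    (ρ : Representation ℂ G (Fin n → ℂ)) :
    Cfsg.classInner ρ.character ρ.character =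
      (Module.finrank ℂ (Representation.invariants (Representation.linHom ρ ρ)) : ℂ) := by
  have : Invertible ((Nat.card G : ℕ) : ℂ) :=
    invertibleOfNonzero (Nat.cast_ne_zero.mpr Nat.card_pos.ne')
  rw [← Representation.card_inv_mul_sum_char_eq_finrank]
  unfold Cfsg.classInner
  congr 1
  apply Finset.sum_congr rfl
  intro g _
  rw [Representation.char_linHom, Cfsg.Agent.Lib.Helper3.character_inv, mul_comm]

/-- The adjoint representation of a restriction. -/
theorem linHom_comp_apply {G : Type*} [Group G] (H : Subgroup G) (n : ℕ)
    (ρ : Representation ℂ G (Fin n → ℂ)) (h : H) (A : (Fin n → ℂ) →ₗ[ℂ] (Fin n → ℂ)) :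
    Representation.linHom (ρ.comp H.subtype) (ρ.comp H.subtype) h A =
      Representation.linHom ρ ρ (h : G) A := by
  rw [Representation.linHom_apply, Representation.linHom_apply]
  simp

/-- Let P be a Sylow p-subgroup of the finite group G that meets each conjugate g P g⁻¹ with g outside N_G(P) trivially, χ a character of G with χ(1)² ≤ |P|, and H a subgroup of G containing N_G(P). Then the inner product of χ with itself over G equals the inner product over H of the restriction of χ to H. -/
theorem result {G : Type*} [Group G] [Fintype G] [DecidableEq G] (p : ℕ) [Fact p.Prime] (P : Sylow p G) (hTI : ∀ g : G, g ∉ Subgroup.normalizer ((P : Subgroup G) : Set G) → (P : Subgroup G) ⊓ (MulAut.conj g • (P : Subgroup G)) = ⊥) (χ : G → ℂ) (hχ : Cfsg.IsCharacter G χ) (hdeg : Cfsg.charDegree χ ^ 2 ≤ Nat.card ↥(P : Subgroup G)) (H : Subgroup G) [Fintype ↥H] (hH : Subgroup.normalizer ((P : Subgroup G) : Set G) ≤ H) : Cfsg.classInner χ χ = Cfsg.classInner (fun h : ↥H => χ h) (fun h : ↥H => χ h) := by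
  classical
  obtain ⟨n, ρ, rfl⟩ := hχ
  rw [Cfsg.Agent.Lib.Helper76.charDegree_character] at hdeg
  set M := Fin n → ℂ with hM
  let ρH : Representation ℂ H M := ρ.comp H.subtype
  have hres : (fun h : ↥H => ρ.character h) = ρH.character := rfl
  rw [hres, classInner_self_eq_finrank n ρ, classInner_self_eq_finrank n ρH]
  set Ad : Representation ℂ G (M →ₗ[ℂ] M) := Representation.linHom ρ ρ with hAd
  set AdH : Representation ℂ H (M →ₗ[ℂ] M) := Representation.linHom ρH ρH with hAdH
  have hAdH_apply : ∀ (h : H) A, AdH h A = Ad (h : G) A := fun h A => linHom_comp_apply H n ρ h A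
  suffices hinv : Representation.invariants Ad = Representation.invariants AdH by rw [hinv]
  apply le_antisymm
  · intro A hA
    rw [Representation.mem_invariants] at hA ⊢
    intro h
    rw [hAdH_apply]; exact hA _
  · intro A hA
    rw [Representation.mem_invariants] at hA
    -- the averaged operator
    set Abar : M →ₗ[ℂ] M := ((Fintype.card G : ℂ))⁻¹ • ∑ g : G, Ad g A with hAbar
    have hcardne : (Fintype.card G : ℂ) ≠ 0 := Nat.cast_ne_zero.mpr Fintype.card_ne_zero
    have hAbar_inv : ∀ g : G, Ad g Abar = Abar := by
      intro g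
      rw [hAbar, map_smul, map_sum]
      congr 1
      have hre : ∑ x : G, Ad x A = ∑ x : G, Ad (g * x) A :=
        (Equiv.sum_comp (Equiv.mulLeft g) (fun x => Ad x A)).symm
      rw [hre]
      apply Finset.sum_congr rfl
      intro g' _
      rw [map_mul]
      rfl
    set B : M →ₗ[ℂ] M := A - Abar with hB
    have hBsum : ∑ g : G, Ad g B = 0 := by
      simp only [hB, map_sub, Finset.sum_sub_distrib, hAbar_inv, Finset.sum_const,
        Finset.card_univ]
      rw [hAbar, ← Nat.cast_smul_eq_nsmul ℂ, smul_smul, mul_inv_cancel₀ hcardne, one_smul,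
        sub_self]
    have hBfix : ∀ h ∈ H, Ad h B = B := by
      intro h hh
      rw [hB, map_sub, hAbar_inv]
      have := hA ⟨h, hh⟩
      rw [hAdH_apply] at this
      rw [this]
    by_cases hB0 : B = 0
    · rw [Representation.mem_invariants]
      intro g
      have : A = Abar := sub_eq_zero.mp hB0
      rw [this]; exact hAbar_inv g
    · exfalso
      -- the kernel of the trace map of Ad
      let avg : (M →ₗ[ℂ] M) →ₗ[ℂ] (M →ₗ[ℂ] M) := ∑ g : G, Ad g
      have havg : ∀ X, avg X = ∑ g : G, Ad g X := by
        intro X; simp [avg, LinearMap.sum_apply]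
      let S : Submodule ℂ (M →ₗ[ℂ] M) := LinearMap.ker avg
      have hSorb : ∀ g, Ad g B ∈ S := by
        intro g
        show avg (Ad g B) = 0
        have hre : ∑ x : G, Ad x B = ∑ x : G, Ad (x * g) B :=
          (Equiv.sum_comp (Equiv.mulRight g) (fun x => Ad x B)).symm
        rw [havg, ← hBsum, hre]
        apply Finset.sum_congr rfl
        intro g' _
        rw [map_mul]
        rfl
      have hle := Cfsg.Agent.Lib.Helper63.TILattice.card_le_finrank_of_TI p P hTI H hH Ad B hB0
        hBfix hBsum S hSorb
      -- identity is not in S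
      have hMne : (LinearMap.id : M →ₗ[ℂ] M) ≠ 0 := by
        intro hid
        apply hB0
        have : B = B ∘ₗ LinearMap.id := (LinearMap.comp_id B).symm
        rw [this, hid, LinearMap.comp_zero]
      have hidS : (LinearMap.id : M →ₗ[ℂ] M) ∉ S := by
        intro hmem
        have h1 : avg LinearMap.id = 0 := hmem
        rw [havg] at h1
        have h2 : ∀ g : G, Ad g (LinearMap.id : M →ₗ[ℂ] M) = LinearMap.id := by
          intro g
          rw [hAd, Representation.linHom_apply, LinearMap.id_comp, ← Module.End.mul_eq_comp,
            ← map_mul, mul_inv_cancel, map_one]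
          rfl
        simp only [h2, Finset.sum_const, Finset.card_univ] at h1
        rw [← Nat.cast_smul_eq_nsmul ℂ] at h1
        rcases smul_eq_zero.mp h1 with h3 | h3
        · exact hcardne h3
        · exact hMne h3
      have hlt : Module.finrank ℂ S < Module.finrank ℂ (M →ₗ[ℂ] M) := by
        apply Submodule.finrank_lt
        intro htop
        apply hidS
        rw [htop]; exact Submodule.mem_top
      have hfr : Module.finrank ℂ (M →ₗ[ℂ] M) = n ^ 2 := by
        rw [Module.finrank_linearMap]
        have : Module.finrank ℂ M = n := by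
          show Module.finrank ℂ (Fin n → ℂ) = n
          simp
        rw [this, sq]
      omega

end Cfsg.Agent.S4750
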