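import Cfsg.Statements.S4751
import Cfsg.Agent.Lib.Helper55.Cores
import Cfsg.Agent.Lib.Helper78.CharBasic
import Cfsg.Agent.Lib.Helper58.RU.Defs
import Cfsg.Agent.Lib.Helper58.RU.Bridge
import Cfsg.Agent.Lib.Helper58.RU.Exp
import Cfsg.Agent.Lib.Helper58.RU.Orders
import Cfsg.Agent.Lib.Helper33.RUA
import Cfsg.Agent.Lib.Helper92.RUB
import Cfsg.Agent.Lib.Helper47.RUC
import Cfsg.Agent.Lib.Helper47.RUG
import Cfsg.Agent.Lib.Helper40.RUS

set_option autoImplicit false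
open Cfsg

namespace Cfsg.Agent.S4751
open Cfsg.Agent.Lib.Helper58.RU

/-- Let χ be a faithful, non-linear irreducible character of the finite group G (χ g = χ 1 only for g = 1, χ 1 ≠ 1) whose value at every element of order divisible by p is a root of unity, and suppose P = O_p(G) ≠ 1. Then either P is an elementary abelian Sylow p-subgroup of G, C_G(P) is the internal direct product of P and Z(G), G acts transitively by conjugation on the non-principal linear characters of P, and χ 1 = |P| − 1; or p = 2 and G is the internal direct product of a subgroup isomorphic to the symmetric group S₄ and the centre Z(G), which has odd order. -/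
theorem result {G : Type*} [Group G] [Finite G] (p : ℕ) [Fact p.Prime] (χ : Cfsg.IrrCharacter G) (hfaith : ∀ g : G, (χ : G → ℂ) g = (χ : G → ℂ) 1 → g = 1) (hnl : (χ : G → ℂ) 1 ≠ 1) (hroot : ∀ g : G, p ∣ orderOf g → ∃ n : ℕ, 0 < n ∧ ((χ : G → ℂ) g) ^ n = 1) (hP : Cfsg.pCore p G ≠ ⊥) : ((Nat.card ↥(Cfsg.pCore p G)).factorization p = (Nat.card G).factorization p ∧ Cfsg.IsElementaryAbelian p (Cfsg.pCore p G) ∧ Subgroup.centralizer ((Cfsg.pCore p G : Subgroup G) : Set G) = Cfsg.pCore p G ⊔ Subgroup.center G ∧ Cfsg.pCore p G ⊓ Subgroup.center G = ⊥ ∧ (∀ lam mu : ↥(Cfsg.pCore p G) → ℂ, Cfsg.IsCharacter ↥(Cfsg.pCore p G) lam → lam 1 = 1 → lam ≠ (fun _ => (1 : ℂ)) → Cfsg.IsCharacter ↥(Cfsg.pCore p G) mu → mu 1 = 1 → mu ≠ (fun _ => (1 : ℂ)) → ∃ g : G, ∀ (x : G) (hx : x ∈ Cfsg.pCore p G) (hgx : g * x * g⁻¹ ∈ Cfsg.pCore p G), mu ⟨x, hx⟩ = lam ⟨g * x * g⁻¹, hgx⟩) ∧ (χ : G → ℂ) 1 = (Nat.card ↥(Cfsg.pCore p G) : ℂ) - 1) ∨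 (p = 2 ∧ Odd (Nat.card ↥(Subgroup.center G)) ∧ ∃ H : Subgroup G, Nonempty (↥H ≃* Equiv.Perm (Fin 4)) ∧ H ⊓ Subgroup.center G = ⊥ ∧ H ⊔ Subgroup.center G = ⊤) := by
  classical
  obtain ⟨χ, hχ⟩ := χ
  simp only at hfaith hnl hroot ⊢
  have hp : p.Prime := Fact.out
  have hQn : (pCore p G).Normal := Cfsg.Agent.Lib.Helper55.pCore_normal' p
  have hQp : IsPGroup p (pCore p G) := Cfsg.Agent.Lib.Helper55.isPGroup_pCore p
  set Q : Subgroup G := pCore p G with hQdef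
  have : Fintype Q := Fintype.ofFinite Q
  have hroot' : ∀ g : G, p ∣ orderOf g → ‖χ g‖ = 1 := by
    intro g hg
    obtain ⟨n, hn, h⟩ := hroot g hg
    exact Complex.norm_eq_one_of_pow_eq_one h hn.ne'
  have hnorm : ∀ x ∈ Q, x ≠ 1 → ‖χ x‖ = 1 := by
    intro x hx hx1
    apply hroot'
    obtain ⟨k, hk⟩ := (IsPGroup.iff_orderOf.mp hQp) ⟨x, hx⟩
    rw [Subgroup.orderOf_mk] at hk
    rcases Nat.eq_zero_or_pos k with h0 | h0
    · rw [h0, pow_zero, orderOf_eq_one_iff] at hk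
      exact absurd hk hx1
    · rw [hk]
      exact dvd_pow_self p h0.ne'
  have hcore : Core Q χ := Cfsg.Agent.Lib.Helper92.RU.core_of_root Q hQp hP hχ hfaith hnl hnorm
  have hexp := pow_eq_one_of_core' Q hQp hcore.comm hcore.trans
  have hA := Cfsg.Agent.Lib.Helper33.RU.coset_norm_sq_sum Q
    (Cfsg.Agent.Lib.Helper78.IsIrrCharacter.isCharacter hχ) hcore
  obtain ⟨hC, hQZ, hpC⟩ :=
    Cfsg.Agent.Lib.Helper47.RU.centralizer_eq Q hQp hχ hfaith hnl hroot' hcore hA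
  obtain ⟨P⟩ : Nonempty (Sylow p G) := inferInstance
  have hQP : Q ≤ (P : Subgroup G) := Cfsg.Agent.Lib.Helper55.pCore_le_sylow P
  rcases Cfsg.Agent.Lib.Helper40.RU.sylow_or_two Q hQp hχ hnl hroot' hcore hexp hA P hQP with
    hS | ⟨hp2, hQ4, hP8⟩
  · left
    refine ⟨?_, ⟨?_, hexp⟩, hC, hQZ, ?_, hcore.deg⟩
    · rw [hS, Sylow.card_eq_multiplicity]
      simp [hp.factorization_self]
    · exact ⟨⟨fun a b => Subtype.ext (hcore.comm a a.2 b b.2)⟩⟩
    · intro lam mu hlam hlam1 hlamne hmu hmu1 hmune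
      exact trans_bridge Q hcore.trans lam mu hlam hlam1 hlamne hmu hmu1 hmune
  · right
    subst hp2
    have hexp2 : ∀ x ∈ Q, x * x = 1 := by
      intro x hx
      have := hexp x hx
      rwa [pow_two] at this
    obtain ⟨hcard, hodd⟩ :=
      card_of_two' Q hQ4 hcore.comm hcore.trans hC hQZ hpC P hP8
    exact ⟨rfl, hodd,
      Cfsg.Agent.Lib.Helper47.RU.exists_S4_complement Q hQ4 hexp2 hC hQZ hcard hodd⟩

end Cfsg.Agent.S4751
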