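import Cfsg.Statements.S4754
-- import your own Cfsg.Agent.* helpers here
import Cfsg.Agent.Lib.Helper79.Schur
import Cfsg.Agent.Lib.Helper79.Column

set_option autoImplicit false
open Cfsg

namespace Cfsg.Agent.S4754

open Cfsg.Agent.Lib.Helper79

/-- For elements x, y of a finite group G, the conjugacy class of x y equals the set of all products of a conjugate of x with a conjugate of y if and only if χ(1) χ(a x a⁻¹ b y b⁻¹) = χ(x) χ(y) for all a, b ∈ G and every irreducible character χ. -/
theorem result {G : Type*} [Group G] [Finite G] (x y : G) : (∀ z : G, IsConj (x * y) z ↔ ∃ a b : G, z = a * x * a⁻¹ * (b * y * b⁻¹)) ↔ ∀ (a b : G) (χ : Cfsg.IrrCharacter G), (χ : G → ℂ) 1 * (χ : G → ℂ) (a * x * a⁻¹ * (b * y * b⁻¹)) = (χ : G → ℂ) x * (χ : G → ℂ) y := by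
  classical
  have := Fintype.ofFinite G
  constructor
  · intro H a b χ
    have hχ1 : (χ : G → ℂ) 1 ≠ 0 := irr_apply_one_ne_zero χ
    have hconst : ∀ a b : G, (χ : G → ℂ) (a * x * a⁻¹ * (b * y * b⁻¹)) = (χ : G → ℂ) (x * y) := by
      intro a b
      exact (irr_apply_of_isConj χ ((H _).mpr ⟨a, b, rfl⟩)).symm
    have hsum := irr_sum_sum_conj_mul_conj χ x y
    simp only [hconst, Finset.sum_const, Finset.card_univ, nsmul_eq_mul] at hsum
    have hG : (Nat.card G : ℂ) ≠ 0 := by
      exact_mod_cast Nat.card_pos.ne'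
    rw [← Nat.card_eq_fintype_card] at hsum
    rw [hconst a b]
    field_simp at hsum
    linear_combination hsum
  · intro K z
    constructor
    · intro hz
      obtain ⟨c, rfl⟩ := isConj_iff.mp hz
      exact ⟨c, c, by group⟩
    · rintro ⟨a, b, rfl⟩
      apply isConj_of_forall_irr_eq
      intro χ
      have hχ1 : (χ : G → ℂ) 1 ≠ 0 := irr_apply_one_ne_zero χ
      have h1 := K a b χ
      have h2 := K 1 1 χ
      simp only [one_mul, inv_one, mul_one] at h2
      exact (mul_left_cancel₀ hχ1 (h1.trans h2.symm)).symm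

end Cfsg.Agent.S4754
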