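import Cfsg.Statements.S4755
-- import your own Cfsg.Agent.* helpers here
import Cfsg.Agent.Lib.Helper79.Integrality
import Cfsg.Agent.Lib.Helper79.Column
import Cfsg.Agent.Lib.Helper77.Linear
import Mathlib.GroupTheory.Commutator.Basic

set_option autoImplicit false
open Cfsg

namespace Cfsg.Agent.S4755

open Cfsg.Agent.Lib.Helper79
open scoped ComplexConjugate commutatorElement

/-- A linear character has absolute value one everywhere. -/
theorem norm_eq_one_of_linear {G : Type*} [Group G] [Finite G] (χ : Cfsg.IrrCharacter G)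
    (h1 : (χ : G → ℂ) 1 = 1) (g : G) : ‖(χ : G → ℂ) g‖ = 1 := by
  obtain ⟨n, ρ, _, hχ⟩ := χ.2
  obtain ⟨e1, e2, e3⟩ := char_eq_sum_roots ρ g
  have hn : n = 1 := by
    have : (ρ.character 1) = 1 := by rw [hχ]; exact h1
    rw [Representation.char_one] at this
    simpa using this
  have hcard : Multiset.card ((ρ g).charpoly.roots) = 1 := by
    rw [e2]; simp [hn]
  obtain ⟨μ, hμ⟩ := Multiset.card_eq_one.mp hcard
  rw [← hχ, e1, hμ, Multiset.sum_singleton]
  apply Complex.norm_eq_one_of_pow_eq_one (e3 μ (by rw [hμ]; simp)) (orderOf_pos g).ne'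


/-- Let x, y be non-identity elements of the finite group G such that χ(x' y') = χ(x') χ(y') for all conjugates x' of x, y' of y and every irreducible character χ. Then the conjugacy class of x y is the set of all products of a conjugate of x with a conjugate of y; every irreducible character of degree greater than 1 vanishes at x y; and the conjugacy class of x y is the coset of the commutator subgroup containing x y. -/
theorem result {G : Type*} [Group G] [Finite G] (x y : G) (hx : x ≠ 1) (hy : y ≠ 1) (h : ∀ (a b : G) (χ : Cfsg.IrrCharacter G), (χ : G → ℂ) (a * x * a⁻¹ * (b * y * b⁻¹)) = (χ : G → ℂ) (a * x * a⁻¹) * (χ : G → ℂ) (b * y * b⁻¹)) : (∀ z : G, IsConj (x * y) z ↔ ∃ a b : G, z = a * x * a⁻¹ * (b * y * b⁻¹)) ∧ (∀ χ : Cfsg.IrrCharacter G, (χ : G → ℂ) 1 ≠ 1 → (χ : G → ℂ) (x * y) = 0) ∧ (∀ z : G, IsConj (x * y) z ↔ (x * y)⁻¹ * z ∈ commutator G) := by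
  classical
  have := Fintype.ofFinite G
  have hG : (Nat.card G : ℂ) ≠ 0 := by exact_mod_cast Nat.card_pos.ne'
  -- all products of conjugates have the same character values as `x * y`
  have hprod : ∀ (a b : G) (χ : Cfsg.IrrCharacter G),
      (χ : G → ℂ) (a * x * a⁻¹ * (b * y * b⁻¹)) = (χ : G → ℂ) x * (χ : G → ℂ) y := by
    intro a b χ
    rw [h a b χ, irr_conj_apply, irr_conj_apply]
  have hxy : ∀ χ : Cfsg.IrrCharacter G, (χ : G → ℂ) (x * y) = (χ : G → ℂ) x * (χ : G → ℂ) y := by
    intro χ
    have := hprod 1 1 χ
    simpa using this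
  -- part 2
  have hvanish : ∀ χ : Cfsg.IrrCharacter G, (χ : G → ℂ) 1 ≠ 1 → (χ : G → ℂ) (x * y) = 0 := by
    intro χ hχ
    have hχ1 : (χ : G → ℂ) 1 ≠ 0 := irr_apply_one_ne_zero χ
    have hsum := irr_sum_sum_conj_mul_conj χ x y
    simp only [hprod, Finset.sum_const, Finset.card_univ, nsmul_eq_mul] at hsum
    rw [← Nat.card_eq_fintype_card] at hsum
    rw [hxy χ]
    field_simp at hsum
    have h2 : (χ : G → ℂ) x * (χ : G → ℂ) y * ((χ : G → ℂ) 1 - 1) = 0 := by
      linear_combination hsum
    rcases mul_eq_zero.mp h2 with h3 | h3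
    · exact h3
    · exact absurd (sub_eq_zero.mp h3) hχ
  -- part 1
  have hclass : ∀ z : G, IsConj (x * y) z ↔ ∃ a b : G, z = a * x * a⁻¹ * (b * y * b⁻¹) := by
    intro z
    constructor
    · intro hz
      obtain ⟨c, rfl⟩ := isConj_iff.mp hz
      exact ⟨c, c, by group⟩
    · rintro ⟨a, b, rfl⟩
      apply isConj_of_forall_irr_eq
      intro χ
      rw [hprod a b χ, hxy χ]
  refine ⟨hclass, hvanish, ?_⟩
  -- part 3
  -- centralizer order = number of linear characters = index of commutator
  have hcent : Nat.card (Subgroup.centralizer ({x * y} : Set G)) = (commutator G).index := by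
    have h1 := finsum_column_orthogonality_of_isConj (IsConj.refl (x * y))
    have hterm : ∀ χ : Cfsg.IrrCharacter G,
        (χ : G → ℂ) (x * y) * conj ((χ : G → ℂ) (x * y)) =
          if (χ : G → ℂ) 1 = 1 then 1 else 0 := by
      intro χ
      split_ifs with hχ
      · rw [Complex.mul_conj, Complex.normSq_eq_norm_sq, norm_eq_one_of_linear χ hχ]
        simp
      · rw [hvanish χ hχ]; simp
    simp only [hterm] at h1
    have : Fintype (Cfsg.IrrCharacter G) := Fintype.ofFinite _
    rw [finsum_eq_sum_of_fintype, Finset.sum_ite, Finset.sum_const_zero, add_zero,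
      Finset.sum_const, nsmul_eq_mul, mul_one] at h1
    have h2 : (Finset.univ.filter (fun χ : Cfsg.IrrCharacter G => (χ : G → ℂ) 1 = 1)).card =
        Nat.card {χ : Cfsg.IrrCharacter G // (χ : G → ℂ) 1 = 1} := by
      rw [Nat.card_eq_fintype_card, Fintype.card_subtype]
    rw [h2, Cfsg.Agent.Lib.Helper77.card_linear_characters] at h1
    exact_mod_cast h1.symm
  -- size of the class
  have hcl : (conjFinset (x * y)).card = Nat.card (commutator G) := by
    rw [card_conjFinset]
    have e1 := Subgroup.card_mul_index (Subgroup.centralizer ({x * y} : Set G))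
    have e2 := Subgroup.card_mul_index (commutator G)
    rw [hcent] at e1
    have hpos : 0 < (commutator G).index := Nat.pos_of_ne_zero (Subgroup.index_ne_zero_of_finite)
    have : (commutator G).index * (Subgroup.centralizer ({x * y} : Set G)).index =
        (commutator G).index * Nat.card (commutator G) := by
      rw [e1, mul_comm, e2]
    exact Nat.eq_of_mul_eq_mul_left hpos this
  -- the coset as a finset
  let cosetF : Finset G := Finset.univ.filter (fun z => (x * y)⁻¹ * z ∈ commutator G)
  have hsub : conjFinset (x * y) ⊆ cosetF := by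
    intro z hz
    rw [mem_conjFinset] at hz
    obtain ⟨c, rfl⟩ := isConj_iff.mp hz
    simp only [cosetF, Finset.mem_filter, Finset.mem_univ, true_and]
    have : (x * y)⁻¹ * (c * (x * y) * c⁻¹) = ⁅(x * y)⁻¹, c⁆ := by
      rw [commutatorElement_def, inv_inv]; group
    rw [this, commutator_def]
    exact Subgroup.commutator_mem_commutator (Subgroup.mem_top _) (Subgroup.mem_top _)
  have hcosetcard : cosetF.card = Nat.card (commutator G) := by
    rw [Nat.card_eq_fintype_card, ← Fintype.card_coe]
    apply Fintype.card_congr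
    exact
      { toFun := fun z => ⟨(x * y)⁻¹ * z.1, by
          have := z.2
          simpa only [cosetF, Finset.mem_filter, Finset.mem_univ, true_and] using this⟩
        invFun := fun w => ⟨(x * y) * w.1, by
          simp only [cosetF, Finset.mem_filter, Finset.mem_univ, true_and]
          rw [inv_mul_cancel_left]; exact w.2⟩
        left_inv := fun z => by
          apply Subtype.ext
          show (x * y) * ((x * y)⁻¹ * z.1) = z.1
          rw [mul_inv_cancel_left]
        right_inv := fun w => by
          apply Subtype.ext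
          show (x * y)⁻¹ * ((x * y) * w.1) = w.1
          rw [inv_mul_cancel_left] }
  have heq : conjFinset (x * y) = cosetF :=
    Finset.eq_of_subset_of_card_le hsub (by rw [hcl, hcosetcard])
  intro z
  rw [← mem_conjFinset, heq]
  simp [cosetF]


end Cfsg.Agent.S4755
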