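import Cfsg.Statements.S4757
-- import your own Cfsg.Agent.* helpers here
import Cfsg.Agent.Lib.Helper79.ClassCount
import Cfsg.Agent.Lib.Helper77.Linear
import Cfsg.Agent.Lib.Helper78.CharMore
import Cfsg.Agent.Lib.Helper1.Fitting

set_option autoImplicit false
open Cfsg

namespace Cfsg.Agent.S4757

open Cfsg.Agent.Lib.Helper79 Cfsg.Agent.Lib.Helper77
open scoped ComplexConjugate commutatorElement

/-- The principal character. -/
noncomputable def oneIrr (G : Type*) [Group G] : Cfsg.IrrCharacter G :=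
  ⟨fun _ => 1, Cfsg.Agent.Lib.Helper78.isIrrCharacter_one⟩

/-- The irreducible character attached to a homomorphism to `ℂˣ`. -/
noncomputable def ofHom {G : Type*} [Group G] (φ : G →* ℂˣ) : Cfsg.IrrCharacter G :=
  ⟨fun g => ((φ g : ℂˣ) : ℂ), isIrrCharacter_of_monoidHom φ⟩

theorem ofHom_apply {G : Type*} [Group G] (φ : G →* ℂˣ) (g : G) :
    ((ofHom φ : Cfsg.IrrCharacter G) : G → ℂ) g = ((φ g : ℂˣ) : ℂ) := rfl

theorem ne_fun_one_of_ne {G : Type*} [Group G] {χ : Cfsg.IrrCharacter G} (h : χ ≠ oneIrr G) :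
    (χ : G → ℂ) ≠ (fun _ => (1 : ℂ)) := fun h' => h (Subtype.ext h')

/-- Every irreducible character of degree one is `ofHom` of a homomorphism. -/
theorem exists_hom_of_linear {G : Type*} [Group G] (χ : Cfsg.IrrCharacter G)
    (h1 : (χ : G → ℂ) 1 = 1) : ∃ φ : G →* ℂˣ, χ = ofHom φ := by
  refine ⟨linearCharEquiv ⟨χ, h1⟩, ?_⟩
  apply Subtype.ext
  funext g
  rw [ofHom_apply, linearCharEquiv_apply]

/-- The sum `∑ χ, χ(1) χ(u)` vanishes for `u ≠ 1`. -/
theorem sum_deg_mul {G : Type*} [Group G] [Fintype G] [Fintype (Cfsg.IrrCharacter G)] (u : G)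
    (hu : u ≠ 1) : ∑ χ : Cfsg.IrrCharacter G, (χ : G → ℂ) 1 * (χ : G → ℂ) u = 0 := by
  classical
  rw [delta_eq_sum_irr u, if_neg hu]

/-- The positivity argument: if every nonprincipal character contributes a nonnegative real part
to `∑ χ, χ(1) χ(u)`, we have a contradiction. -/
theorem false_of_nonneg {G : Type*} [Group G] [Fintype G] [Fintype (Cfsg.IrrCharacter G)]
    [DecidableEq (Cfsg.IrrCharacter G)] (u : G) (hu : u ≠ 1)
    (h : ∀ χ : Cfsg.IrrCharacter G, χ ≠ oneIrr G → 0 ≤ ((χ : G → ℂ) 1 * (χ : G → ℂ) u).re) :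
    False := by
  have h0 := sum_deg_mul u hu
  have h1 := congrArg Complex.re h0
  rw [Complex.re_sum, ← Finset.add_sum_erase _ _ (Finset.mem_univ (oneIrr G))] at h1
  have h2 : (((oneIrr G : Cfsg.IrrCharacter G) : G → ℂ) 1
      * ((oneIrr G : Cfsg.IrrCharacter G) : G → ℂ) u).re = 1 := by
    show ((1 : ℂ) * 1).re = 1
    simp
  have h3 : 0 ≤ ∑ χ ∈ (Finset.univ : Finset (Cfsg.IrrCharacter G)).erase (oneIrr G),
      ((χ : G → ℂ) 1 * (χ : G → ℂ) u).re :=
    Finset.sum_nonneg (fun χ hχ => h χ (Finset.mem_erase.mp hχ).1)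
  rw [h2, Complex.zero_re] at h1
  linarith

/-- The constant `c` is not `0`. -/
theorem c_ne_zero {G : Type*} [Group G] [Fintype G] [Fintype (Cfsg.IrrCharacter G)]
    [DecidableEq (Cfsg.IrrCharacter G)] (u : G) (hu : u ≠ 1) (c : ℂ)
    (hyp : ∀ χ : Cfsg.IrrCharacter G, (χ : G → ℂ) ≠ (fun _ => (1 : ℂ)) →
      ((χ : G → ℂ) 1 - (χ : G → ℂ) u = c ∨ (χ : G → ℂ) u = 0)) : c ≠ 0 := by
  intro hc
  apply false_of_nonneg u hu
  intro χ hχ
  rcases hyp χ (ne_fun_one_of_ne hχ) with h | h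
  · have h1 : (χ : G → ℂ) u = (χ : G → ℂ) 1 := by
      rw [hc] at h
      exact (sub_eq_zero.mp h).symm
    rw [h1, irr_apply_one_eq_charDegree]
    have h2 : ((Cfsg.charDegree (χ : G → ℂ) : ℂ) * (Cfsg.charDegree (χ : G → ℂ) : ℂ))
        = ((Cfsg.charDegree (χ : G → ℂ) * Cfsg.charDegree (χ : G → ℂ) : ℕ) : ℂ) := by
      push_cast; ring
    rw [h2, Complex.natCast_re]
    positivity
  · rw [h]; simp

/-- If `c = 2` and every nonprincipal character has degree at least `2`, we have a contradiction. -/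
theorem false_of_two_le {G : Type*} [Group G] [Fintype G] [Fintype (Cfsg.IrrCharacter G)]
    [DecidableEq (Cfsg.IrrCharacter G)] (u : G) (hu : u ≠ 1) (c : ℂ)
    (hyp : ∀ χ : Cfsg.IrrCharacter G, (χ : G → ℂ) ≠ (fun _ => (1 : ℂ)) →
      ((χ : G → ℂ) 1 - (χ : G → ℂ) u = c ∨ (χ : G → ℂ) u = 0)) (hc : c = 2)
    (hdeg : ∀ χ : Cfsg.IrrCharacter G, χ ≠ oneIrr G → 2 ≤ Cfsg.charDegree (χ : G → ℂ)) : False := by
  apply false_of_nonneg u hu
  intro χ hχ
  rcases hyp χ (ne_fun_one_of_ne hχ) with h | h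
  · have h1 : (χ : G → ℂ) u = (χ : G → ℂ) 1 - 2 := by
      rw [hc] at h
      linear_combination -h
    rw [h1, irr_apply_one_eq_charDegree]
    have h2 : ((Cfsg.charDegree (χ : G → ℂ) : ℂ) * ((Cfsg.charDegree (χ : G → ℂ) : ℂ) - 2))
        = ((((Cfsg.charDegree (χ : G → ℂ) : ℝ) * ((Cfsg.charDegree (χ : G → ℂ) : ℝ) - 2) : ℝ)) : ℂ) := by
      push_cast; ring
    rw [h2, Complex.ofReal_re]
    have h3 : (2 : ℝ) ≤ (Cfsg.charDegree (χ : G → ℂ) : ℝ) := by exact_mod_cast hdeg χ hχ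
    nlinarith
  · rw [h]; simp

/-- A character of degree one which is trivial on the (whole) commutator subgroup is principal. -/
theorem eq_oneIrr_of_linear_of_commutator_eq_top {G : Type*} [Group G]
    (hcomm : commutator G = ⊤) (χ : Cfsg.IrrCharacter G) (h1 : (χ : G → ℂ) 1 = 1) :
    χ = oneIrr G := by
  apply Subtype.ext
  funext g
  exact linear_character_eq_one_of_mem_commutator χ h1 g (by rw [hcomm]; exact Subgroup.mem_top g)

/-- `c = 2` implies that `G` is not perfect. -/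
theorem not_perfect_of_c_eq_two {G : Type*} [Group G] [Fintype G] [Fintype (Cfsg.IrrCharacter G)]
    [DecidableEq (Cfsg.IrrCharacter G)] (u : G) (hu : u ≠ 1) (c : ℂ)
    (hyp : ∀ χ : Cfsg.IrrCharacter G, (χ : G → ℂ) ≠ (fun _ => (1 : ℂ)) →
      ((χ : G → ℂ) 1 - (χ : G → ℂ) u = c ∨ (χ : G → ℂ) u = 0)) (hc : c = 2) :
    commutator G ≠ ⊤ := by
  intro hcomm
  apply false_of_two_le u hu c hyp hc
  intro χ hχ
  by_contra hlt
  push Not at hlt
  have hpos := irr_charDegree_pos χ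
  have hd : Cfsg.charDegree (χ : G → ℂ) = 1 := by omega
  apply hχ
  apply eq_oneIrr_of_linear_of_commutator_eq_top hcomm χ
  rw [irr_apply_one_eq_charDegree, hd]
  simp

/-- A non-perfect group has a nonprincipal character of degree one. -/
theorem exists_linear_ne_one {G : Type*} [Group G] [Finite G] (hcomm : commutator G ≠ ⊤) :
    ∃ φ : G →* ℂˣ, ofHom φ ≠ oneIrr G := by
  have h1 : Nat.card {χ : Cfsg.IrrCharacter G // (χ : G → ℂ) 1 = 1} = (commutator G).index :=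
    card_linear_characters
  have h2 : (commutator G).index ≠ 1 := fun h => hcomm (Subgroup.index_eq_one.mp h)
  have h3 : (commutator G).index ≠ 0 := Subgroup.index_ne_zero_of_finite
  have h4 : 1 < Nat.card {χ : Cfsg.IrrCharacter G // (χ : G → ℂ) 1 = 1} := by omega
  have : Finite {χ : Cfsg.IrrCharacter G // (χ : G → ℂ) 1 = 1} :=
    Nat.finite_of_card_ne_zero (by omega)
  have hnt : Nontrivial {χ : Cfsg.IrrCharacter G // (χ : G → ℂ) 1 = 1} :=
    Finite.one_lt_card_iff_nontrivial.mp h4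
  obtain ⟨χ, hχ⟩ := exists_ne (⟨oneIrr G, rfl⟩ : {χ : Cfsg.IrrCharacter G // (χ : G → ℂ) 1 = 1})
  obtain ⟨φ, hφ⟩ := exists_hom_of_linear χ.1 χ.2
  refine ⟨φ, ?_⟩
  intro h
  apply hχ
  apply Subtype.ext
  rw [hφ, h]

/-- Part I: a non-perfect group has `c = 2`, and there is a homomorphism `φ : G →* ℂˣ` with
`φ u = -1` and `φ ^ 2 = 1`. -/
theorem c_eq_two_of_not_perfect {G : Type*} [Group G] [Fintype G] [Fintype (Cfsg.IrrCharacter G)]
    [DecidableEq (Cfsg.IrrCharacter G)] (u : G) (hu : u ≠ 1) (c : ℂ)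
    (hyp : ∀ χ : Cfsg.IrrCharacter G, (χ : G → ℂ) ≠ (fun _ => (1 : ℂ)) →
      ((χ : G → ℂ) 1 - (χ : G → ℂ) u = c ∨ (χ : G → ℂ) u = 0)) (hcomm : commutator G ≠ ⊤) :
    c = 2 ∧ ∃ φ : G →* ℂˣ, ((φ u : ℂˣ) : ℂ) = -1 ∧ ∀ g : G, ((φ g : ℂˣ) : ℂ) ^ 2 = 1 := by
  have hc0 := c_ne_zero u hu c hyp
  obtain ⟨φ, hφ⟩ := exists_linear_ne_one hcomm
  have hφu0 : ((φ u : ℂˣ) : ℂ) ≠ 0 := Units.ne_zero _
  have h1 : 1 - ((φ u : ℂˣ) : ℂ) = c := by
    rcases hyp (ofHom φ) (ne_fun_one_of_ne hφ) with h | h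
    · rw [ofHom_apply, ofHom_apply, map_one] at h
      exact h
    · rw [ofHom_apply] at h
      exact absurd h hφu0
  by_cases h2 : ofHom (φ * φ) = oneIrr G
  · have hsq : ∀ g : G, ((φ g : ℂˣ) : ℂ) ^ 2 = 1 := by
      intro g
      have h5 : ((ofHom (φ * φ) : Cfsg.IrrCharacter G) : G → ℂ) g = 1 := by rw [h2]; rfl
      rw [ofHom_apply] at h5
      rw [pow_two]
      simpa using h5
    have h3 := hsq u
    have h4 : ((φ u : ℂˣ) : ℂ) = 1 ∨ ((φ u : ℂˣ) : ℂ) = -1 := sq_eq_one_iff.mp h3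
    rcases h4 with h4 | h4
    · exfalso
      apply hc0
      rw [← h1, h4, sub_self]
    · refine ⟨?_, φ, h4, hsq⟩
      rw [← h1, h4]
      norm_num
  · exfalso
    rcases hyp (ofHom (φ * φ)) (ne_fun_one_of_ne h2) with h | h
    · rw [ofHom_apply, ofHom_apply, map_one] at h
      have h3 : ((φ u : ℂˣ) : ℂ) * ((φ u : ℂˣ) : ℂ) = ((φ u : ℂˣ) : ℂ) := by
        have : (((φ * φ) u : ℂˣ) : ℂ) = ((φ u : ℂˣ) : ℂ) * ((φ u : ℂˣ) : ℂ) := by simp
        rw [this] at h
        have h5 : (1 : ℂ) - ((φ u : ℂˣ) : ℂ) * ((φ u : ℂˣ) : ℂ) = 1 - ((φ u : ℂˣ) : ℂ) := by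
          rw [h1]; simpa using h
        linear_combination -h5
      have h4 : ((φ u : ℂˣ) : ℂ) = 1 := by
        have := mul_right_cancel₀ hφu0 (by rw [h3, one_mul] : ((φ u : ℂˣ) : ℂ) * ((φ u : ℂˣ) : ℂ) = 1 * ((φ u : ℂˣ) : ℂ))
        exact this
      apply hc0
      rw [← h1, h4, sub_self]
    · rw [ofHom_apply] at h
      exact absurd h (Units.ne_zero _)

theorem oddCore_normal_coprime (G : Type*) [Group G] [Finite G] :
    (Cfsg.oddCore G).Normal ∧ (Nat.card (Cfsg.oddCore G)).Coprime 2 :=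
  Cfsg.Agent.Lib.Helper1.normal_and_coprime_card_sSup (G := G) 2
    {N : Subgroup G | N.Normal ∧ (Nat.card N).Coprime 2} (fun _ h => h)

/-- Part III: `(a)` implies that `G` is not perfect. -/
theorem not_perfect_of_a {G : Type*} [Group G] [Finite G] (u : G) (ho : orderOf u = 2)
    (hsup : Subgroup.zpowers u ⊔ Cfsg.oddCore G = ⊤) : commutator G ≠ ⊤ := by
  intro hcomm
  obtain ⟨hOn, hOc⟩ := oddCore_normal_coprime G
  have hall : ∀ g : G, (g : G ⧸ Cfsg.oddCore G) ∈ Subgroup.zpowers ((u : G) : G ⧸ Cfsg.oddCore G) := by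
    intro g
    have h1 : Subgroup.zpowers u ⊔ Cfsg.oddCore G ≤
        (Subgroup.zpowers ((u : G) : G ⧸ Cfsg.oddCore G)).comap (QuotientGroup.mk' (Cfsg.oddCore G)) := by
      apply sup_le
      · rw [Subgroup.zpowers_le]
        exact Subgroup.mem_zpowers _
      · intro k hk
        rw [Subgroup.mem_comap]
        have : (QuotientGroup.mk' (Cfsg.oddCore G)) k = 1 := (QuotientGroup.eq_one_iff k).mpr hk
        rw [this]
        exact Subgroup.one_mem _
    have h2 : g ∈ Subgroup.zpowers u ⊔ Cfsg.oddCore G := by rw [hsup]; exact Subgroup.mem_top g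
    exact h1 h2
  have hle : commutator G ≤ Cfsg.oddCore G := by
    rw [commutator_def, Subgroup.commutator_le]
    intro g₁ _ g₂ _
    rw [← QuotientGroup.eq_one_iff (N := Cfsg.oddCore G)]
    obtain ⟨i, hi⟩ := Subgroup.mem_zpowers_iff.mp (hall g₁)
    obtain ⟨j, hj⟩ := Subgroup.mem_zpowers_iff.mp (hall g₂)
    have h3 : ((⁅g₁, g₂⁆ : G) : G ⧸ Cfsg.oddCore G)
        = ⁅(g₁ : G ⧸ Cfsg.oddCore G), (g₂ : G ⧸ Cfsg.oddCore G)⁆ :=
      map_commutatorElement (QuotientGroup.mk' (Cfsg.oddCore G)) g₁ g₂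
    rw [h3, commutatorElement_eq_one_iff_commute, ← hi, ← hj]
    exact (Commute.refl _).zpow_zpow i j
  have htop : Cfsg.oddCore G = ⊤ := by
    rw [eq_top_iff, ← hcomm]
    exact hle
  rw [htop, Subgroup.card_top] at hOc
  have h2 : 2 ∣ Nat.card G := ho ▸ orderOf_dvd_natCard u
  have hodd : Odd (Nat.card G) := Nat.coprime_two_right.mp hOc
  exact (Nat.not_even_iff_odd.mpr hodd) (even_iff_two_dvd.mpr h2)

/-- The group-theoretic part of `(b) → (a)`. -/
theorem a_of_card_centralizer {G : Type*} [Group G] [Finite G] (u : G) (hu : u ≠ 1)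
    (hcard : Nat.card (Subgroup.centralizer ({u} : Set G)) = 2) (φ : G →* ℂˣ)
    (hφu : ((φ u : ℂˣ) : ℂ) = -1) (hφ2 : ∀ g : G, ((φ g : ℂˣ) : ℂ) ^ 2 = 1) :
    orderOf u = 2 ∧ Subgroup.zpowers u ⊔ Cfsg.oddCore G = ⊤ ∧
      Subgroup.centralizer ({u} : Set G) = Subgroup.zpowers u := by
  have : Fact (Nat.Prime 2) := ⟨Nat.prime_two⟩
  have hzc : Subgroup.zpowers u ≤ Subgroup.centralizer ({u} : Set G) := by
    rw [Subgroup.zpowers_le, Subgroup.mem_centralizer_singleton_iff]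
  have hle2 : orderOf u ≤ 2 := by
    have := Subgroup.card_le_of_le hzc
    rwa [Nat.card_zpowers, hcard] at this
  have hpos : 0 < orderOf u := orderOf_pos u
  have hne1 : orderOf u ≠ 1 := fun h => hu (orderOf_eq_one_iff.mp h)
  have ho : orderOf u = 2 := by omega
  have hcz : Subgroup.centralizer ({u} : Set G) = Subgroup.zpowers u := by
    symm
    apply Subgroup.eq_of_le_of_card_ge hzc
    rw [Nat.card_zpowers, ho, hcard]
  -- elements of `zpowers u`
  have hmem : ∀ x ∈ Subgroup.zpowers u, x = 1 ∨ x = u := by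
    intro x hx
    obtain ⟨i, rfl⟩ := Subgroup.mem_zpowers_iff.mp hx
    rw [← zpow_mod_orderOf, ho]
    rcases Int.emod_two_eq_zero_or_one i with h | h
    · left; rw [show ((2 : ℕ) : ℤ) = 2 from rfl, h, zpow_zero]
    · right; rw [show ((2 : ℕ) : ℤ) = 2 from rfl, h, zpow_one]
  -- values of `φ`
  have hval : ∀ g : G, ((φ g : ℂˣ) : ℂ) = 1 ∨ ((φ g : ℂˣ) : ℂ) = -1 := fun g =>
    sq_eq_one_iff.mp (hφ2 g)
  have hker : ∀ g : G, g ∈ φ.ker ↔ ((φ g : ℂˣ) : ℂ) = 1 := by
    intro g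
    rw [MonoidHom.mem_ker]
    constructor
    · intro h; rw [h]; rfl
    · intro h; exact Units.ext h
  -- `zpowers u ⊔ ker φ = ⊤`
  have hsupK : Subgroup.zpowers u ⊔ φ.ker = ⊤ := by
    rw [eq_top_iff]
    intro g _
    rcases hval g with h | h
    · exact (le_sup_right : φ.ker ≤ _) ((hker g).mpr h)
    · have h1 : u⁻¹ * g ∈ φ.ker := by
        rw [hker, map_mul, map_inv, Units.val_mul, Units.val_inv_eq_inv_val, hφu, h]
        norm_num
      have h2 : g = u * (u⁻¹ * g) := by group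
      rw [h2]
      exact Subgroup.mul_mem _ ((le_sup_left : Subgroup.zpowers u ≤ _) (Subgroup.mem_zpowers u))
        ((le_sup_right : φ.ker ≤ _) h1)
  -- the index of the kernel is `2`
  have hidx : φ.ker.index = 2 := by
    rw [Subgroup.index_eq_two_iff]
    refine ⟨u, fun b => ?_⟩
    rw [hker, hker, map_mul, Units.val_mul, hφu]
    rcases hval b with h | h
    · right
      refine ⟨h, ?_⟩
      rw [h]; norm_num
    · left
      refine ⟨by rw [h]; norm_num, ?_⟩
      rw [h]; norm_num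
  -- a Sylow `2`-subgroup containing `u` has order `2`
  have hzp : IsPGroup 2 (Subgroup.zpowers u) := by
    apply IsPGroup.of_card (n := 1)
    rw [Nat.card_zpowers, ho, pow_one]
  obtain ⟨T, hT⟩ := hzp.exists_le_sylow
  have huT : u ∈ (T : Subgroup G) := hT (Subgroup.mem_zpowers u)
  have hTnt : Nontrivial (T : Subgroup G) :=
    ⟨⟨⟨u, huT⟩, 1, fun h => hu (congrArg Subtype.val h)⟩⟩
  have hcnt := IsPGroup.center_nontrivial T.isPGroup'
  obtain ⟨z, hz⟩ := exists_ne (1 : Subgroup.center (T : Subgroup G))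
  have hz1 : ((z : (T : Subgroup G)) : G) ≠ 1 := by
    intro h
    apply hz
    apply Subtype.ext
    apply Subtype.ext
    exact h
  have hzu : ((z : (T : Subgroup G)) : G) = u := by
    have h1 := Subgroup.mem_center_iff.mp z.2 ⟨u, huT⟩
    have h2 : u * ((z : (T : Subgroup G)) : G) = ((z : (T : Subgroup G)) : G) * u :=
      congrArg Subtype.val h1
    have h3 : ((z : (T : Subgroup G)) : G) ∈ Subgroup.centralizer ({u} : Set G) := by
      rw [Subgroup.mem_centralizer_singleton_iff]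
      exact h2.symm
    rw [hcz] at h3
    exact (hmem _ h3).resolve_left hz1
  have hTle : (T : Subgroup G) ≤ Subgroup.centralizer ({u} : Set G) := by
    intro x hx
    rw [Subgroup.mem_centralizer_singleton_iff]
    have h1 := Subgroup.mem_center_iff.mp z.2 ⟨x, hx⟩
    have h2 : x * ((z : (T : Subgroup G)) : G) = ((z : (T : Subgroup G)) : G) * x :=
      congrArg Subtype.val h1
    rw [hzu] at h2
    exact h2
  have hTcard : Nat.card (T : Subgroup G) ≤ 2 := by
    have := Subgroup.card_le_of_le hTle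
    rwa [hcard] at this
  have hv : (Nat.card G).factorization 2 ≤ 1 := by
    rw [T.card_eq_multiplicity] at hTcard
    by_contra hlt
    push Not at hlt
    have : 2 ^ 2 ≤ 2 ^ (Nat.card G).factorization 2 := Nat.pow_le_pow_right (by norm_num) hlt
    omega
  have hKodd : Odd (Nat.card φ.ker) := by
    rw [← Nat.not_even_iff_odd, even_iff_two_dvd]
    intro h2
    have h4 : 2 ^ 2 ∣ Nat.card G := by
      rw [← Subgroup.card_mul_index φ.ker, hidx, pow_two]
      exact Nat.mul_dvd_mul_right h2 2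
    have := (Nat.Prime.pow_dvd_iff_le_factorization Nat.prime_two Nat.card_pos.ne').mp h4
    omega
  have hKle : φ.ker ≤ Cfsg.oddCore G := by
    apply le_sSup
    exact ⟨MonoidHom.normal_ker φ, Nat.coprime_two_right.mpr hKodd⟩
  refine ⟨ho, ?_, hcz⟩
  rw [eq_top_iff, ← hsupK]
  exact sup_le_sup_left hKle _

/-- The character-theoretic part of `(b) → (a)`: the centralizer of `u` has order `2`. -/
theorem card_centralizer_eq_two {G : Type*} [Group G] [Fintype G] [Fintype (Cfsg.IrrCharacter G)]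
    [DecidableEq (Cfsg.IrrCharacter G)] (u : G) (hu : u ≠ 1) (c : ℂ)
    (hyp : ∀ χ : Cfsg.IrrCharacter G, (χ : G → ℂ) ≠ (fun _ => (1 : ℂ)) →
      ((χ : G → ℂ) 1 - (χ : G → ℂ) u = c ∨ (χ : G → ℂ) u = 0)) (hc : c = 2)
    (φ : G →* ℂˣ) (hφu : ((φ u : ℂˣ) : ℂ) = -1) (hφ2 : ∀ g : G, ((φ g : ℂˣ) : ℂ) ^ 2 = 1) :
    Nat.card (Subgroup.centralizer ({u} : Set G)) = 2 := by
  have hlam1 : ofHom φ ≠ oneIrr G := by
    intro h
    have h1 : ((ofHom φ : Cfsg.IrrCharacter G) : G → ℂ) u = 1 := by rw [h]; rfl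
    rw [ofHom_apply, hφu] at h1
    norm_num at h1
  -- Step 1: `ofHom φ` is the only nonprincipal linear character
  have huniq : ∀ χ : Cfsg.IrrCharacter G, χ ≠ oneIrr G → (χ : G → ℂ) 1 = 1 → χ = ofHom φ := by
    intro χ hχ h1
    obtain ⟨ψ, rfl⟩ := exists_hom_of_linear χ h1
    have hψu : ((ψ u : ℂˣ) : ℂ) = -1 := by
      rcases hyp (ofHom ψ) (ne_fun_one_of_ne hχ) with h | h
      · rw [ofHom_apply, ofHom_apply, map_one, hc] at h
        have h' : (1 : ℂ) - ((ψ u : ℂˣ) : ℂ) = 2 := by simpa using h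
        linear_combination -h'
      · rw [ofHom_apply] at h
        exact absurd h (Units.ne_zero _)
    have hν : ofHom (φ * ψ) = oneIrr G := by
      by_contra hne
      have hval : (((φ * ψ) u : ℂˣ) : ℂ) = 1 := by
        rw [MonoidHom.mul_apply, Units.val_mul, hφu, hψu]; norm_num
      rcases hyp (ofHom (φ * ψ)) (ne_fun_one_of_ne hne) with h | h
      · rw [ofHom_apply, ofHom_apply, map_one, hc, hval] at h
        norm_num at h
      · rw [ofHom_apply, hval] at h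
        exact one_ne_zero h
    apply Subtype.ext
    funext g
    rw [ofHom_apply, ofHom_apply]
    have h5 : ((ofHom (φ * ψ) : Cfsg.IrrCharacter G) : G → ℂ) g = 1 := by rw [hν]; rfl
    rw [ofHom_apply, MonoidHom.mul_apply, Units.val_mul] at h5
    have h7 := hφ2 g
    calc ((ψ g : ℂˣ) : ℂ) = ((φ g : ℂˣ) : ℂ) ^ 2 * ((ψ g : ℂˣ) : ℂ) := by rw [h7, one_mul]
      _ = ((φ g : ℂˣ) : ℂ) * (((φ g : ℂˣ) : ℂ) * ((ψ g : ℂˣ) : ℂ)) := by ring
      _ = ((φ g : ℂˣ) : ℂ) := by rw [h5, mul_one]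
  -- Step 2: the other characters have degree at least 2 and vanish at `u`
  have hdeg2 : ∀ χ : Cfsg.IrrCharacter G, χ ≠ oneIrr G → χ ≠ ofHom φ →
      2 ≤ Cfsg.charDegree (χ : G → ℂ) := by
    intro χ h1 h2
    by_contra hlt
    push Not at hlt
    have hpos := irr_charDegree_pos χ
    have hd : Cfsg.charDegree (χ : G → ℂ) = 1 := by omega
    exact h2 (huniq χ h1 (by rw [irr_apply_one_eq_charDegree, hd]; simp))
  have hterm : ∀ χ : Cfsg.IrrCharacter G, χ ≠ oneIrr G → χ ≠ ofHom φ →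
      0 ≤ ((χ : G → ℂ) 1 * (χ : G → ℂ) u).re ∧
        (((χ : G → ℂ) 1 * (χ : G → ℂ) u).re = 0 → (χ : G → ℂ) u = 0) := by
    intro χ hχ1 hχ2
    rcases hyp χ (ne_fun_one_of_ne hχ1) with h | h
    · have h1 : (χ : G → ℂ) u = (χ : G → ℂ) 1 - 2 := by
        rw [hc] at h
        linear_combination -h
      rw [h1, irr_apply_one_eq_charDegree]
      have h2 : ((Cfsg.charDegree (χ : G → ℂ) : ℂ) * ((Cfsg.charDegree (χ : G → ℂ) : ℂ) - 2))
          = ((((Cfsg.charDegree (χ : G → ℂ) : ℝ) * ((Cfsg.charDegree (χ : G → ℂ) : ℝ) - 2) : ℝ)) : ℂ) := by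
        push_cast; ring
      rw [h2, Complex.ofReal_re]
      have h3 : (2 : ℝ) ≤ (Cfsg.charDegree (χ : G → ℂ) : ℝ) := by exact_mod_cast hdeg2 χ hχ1 hχ2
      refine ⟨by nlinarith, fun h0 => ?_⟩
      have h4 : (Cfsg.charDegree (χ : G → ℂ) : ℝ) - 2 = 0 := by
        rcases mul_eq_zero.mp h0 with h5 | h5
        · linarith
        · exact h5
      have h5 : (Cfsg.charDegree (χ : G → ℂ) : ℂ) = 2 := by
        have : (Cfsg.charDegree (χ : G → ℂ) : ℝ) = 2 := by linarith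
        exact_mod_cast this
      rw [h5]; norm_num
    · rw [h]
      exact ⟨by simp, fun _ => rfl⟩
  have hsplit : ∀ f : Cfsg.IrrCharacter G → ℂ, ∑ χ : Cfsg.IrrCharacter G, f χ
      = f (oneIrr G) + f (ofHom φ)
        + ∑ χ ∈ ((Finset.univ : Finset (Cfsg.IrrCharacter G)).erase (oneIrr G)).erase (ofHom φ), f χ := by
    intro f
    rw [← Finset.add_sum_erase _ _ (Finset.mem_univ (oneIrr G)),
      ← Finset.add_sum_erase _ _ (show ofHom φ ∈ (Finset.univ : Finset (Cfsg.IrrCharacter G)).erase (oneIrr G)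
        from Finset.mem_erase.mpr ⟨hlam1, Finset.mem_univ _⟩), add_assoc]
  have hmem : ∀ χ : Cfsg.IrrCharacter G,
      χ ∈ ((Finset.univ : Finset (Cfsg.IrrCharacter G)).erase (oneIrr G)).erase (ofHom φ) →
      χ ≠ oneIrr G ∧ χ ≠ ofHom φ := by
    intro χ hχ
    have h1 := Finset.mem_erase.mp hχ
    exact ⟨(Finset.mem_erase.mp h1.2).1, h1.1⟩
  have hzero : ∀ χ : Cfsg.IrrCharacter G,
      χ ∈ ((Finset.univ : Finset (Cfsg.IrrCharacter G)).erase (oneIrr G)).erase (ofHom φ) →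
      (χ : G → ℂ) u = 0 := by
    have hsum := sum_deg_mul u hu
    have h1 := congrArg Complex.re hsum
    rw [hsplit, Complex.add_re, Complex.add_re, Complex.re_sum, Complex.zero_re] at h1
    have h2 : (((oneIrr G : Cfsg.IrrCharacter G) : G → ℂ) 1
        * ((oneIrr G : Cfsg.IrrCharacter G) : G → ℂ) u).re = 1 := by
      show ((1 : ℂ) * 1).re = 1
      simp
    have h3 : (((ofHom φ : Cfsg.IrrCharacter G) : G → ℂ) 1
        * ((ofHom φ : Cfsg.IrrCharacter G) : G → ℂ) u).re = -1 := by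
      rw [ofHom_apply, ofHom_apply, map_one, hφu]
      simp
    rw [h2, h3] at h1
    have h4 : ∑ χ ∈ ((Finset.univ : Finset (Cfsg.IrrCharacter G)).erase (oneIrr G)).erase (ofHom φ),
        ((χ : G → ℂ) 1 * (χ : G → ℂ) u).re = 0 := by linarith
    have h5 := (Finset.sum_eq_zero_iff_of_nonneg
      (fun χ hχ => (hterm χ (hmem χ hχ).1 (hmem χ hχ).2).1)).mp h4
    intro χ hχ
    exact (hterm χ (hmem χ hχ).1 (hmem χ hχ).2).2 (h5 χ hχ)
  -- Step 3: column orthogonality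
  have hcol := column_orthogonality_of_isConj (IsConj.refl u)
  rw [hsplit] at hcol
  have h6 : ∑ χ ∈ ((Finset.univ : Finset (Cfsg.IrrCharacter G)).erase (oneIrr G)).erase (ofHom φ),
      (χ : G → ℂ) u * conj ((χ : G → ℂ) u) = 0 := by
    apply Finset.sum_eq_zero
    intro χ hχ
    rw [hzero χ hχ, zero_mul]
  have h7 : ((oneIrr G : Cfsg.IrrCharacter G) : G → ℂ) u
      * conj (((oneIrr G : Cfsg.IrrCharacter G) : G → ℂ) u) = 1 := by
    show (1 : ℂ) * conj (1 : ℂ) = 1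
    simp
  have h8 : ((ofHom φ : Cfsg.IrrCharacter G) : G → ℂ) u
      * conj (((ofHom φ : Cfsg.IrrCharacter G) : G → ℂ) u) = 1 := by
    rw [ofHom_apply, hφu]
    simp
  rw [h6, h7, h8] at hcol
  have h9 : (Nat.card (Subgroup.centralizer ({u} : Set G)) : ℂ) = ((2 : ℕ) : ℂ) := by
    rw [← hcol]; norm_num
  exact_mod_cast h9

/-- Let u ≠ 1 be an element of the finite group G and c a complex number such that every non-principal irreducible character χ satisfies χ(1) − χ(u) = c or χ(u) = 0. Then the following are equivalent: (a) u has order 2, G is generated by u together with O(G), the largest normal subgroup of G of odd order, and the centralizer of u is {1, u}; (b) G is not perfect; (c) c = 2. -/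
theorem result {G : Type*} [Group G] [Finite G] (u : G) (hu : u ≠ 1) (c : ℂ) (hyp : ∀ χ : Cfsg.IrrCharacter G, (χ : G → ℂ) ≠ (fun _ => (1 : ℂ)) → ((χ : G → ℂ) 1 - (χ : G → ℂ) u = c ∨ (χ : G → ℂ) u = 0)) : ((orderOf u = 2 ∧ Subgroup.zpowers u ⊔ Cfsg.oddCore G = ⊤ ∧ Subgroup.centralizer ({u} : Set G) = Subgroup.zpowers u) ↔ commutator G ≠ ⊤) ∧ (commutator G ≠ ⊤ ↔ c = 2) := by
  classical
  have := Fintype.ofFinite G
  have : Fintype (Cfsg.IrrCharacter G) := Fintype.ofFinite _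
  refine ⟨⟨fun ⟨ho, hsup, _⟩ => not_perfect_of_a u ho hsup, fun hcomm => ?_⟩,
    ⟨fun hcomm => (c_eq_two_of_not_perfect u hu c hyp hcomm).1,
      fun hc => not_perfect_of_c_eq_two u hu c hyp hc⟩⟩
  obtain ⟨hc, φ, hφu, hφ2⟩ := c_eq_two_of_not_perfect u hu c hyp hcomm
  have hcard := card_centralizer_eq_two u hu c hyp hc φ hφu hφ2
  exact a_of_card_centralizer u hu hcard φ hφu hφ2

end Cfsg.Agent.S4757
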