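import Cfsg.Statements.S4763
import Cfsg.Agent.S4452
import Cfsg.Agent.Lib.Helper71.OnePChar
import Cfsg.Agent.Lib.Helper71.OnePClass
import Cfsg.Agent.Lib.Helper75.Ito

set_option autoImplicit false
open Cfsg

namespace Cfsg.Agent.S4763

open Cfsg.Agent.Lib

/-- Let p be a prime and G a finite group that is not nilpotent and has a normal p-complement (a normal subgroup of order prime to p and index a power of p). If G has exactly one irreducible complex character of degree divisible by p, then G has exactly one conjugacy class whose size is divisible by p. -/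
theorem result {G : Type*} [Group G] [Finite G] (p : ℕ) [Fact p.Prime] (hnil : ¬ Group.IsNilpotent G) (N : Subgroup G) [N.Normal] (hN : (Nat.card N).Coprime p) (hidx : ∃ k : ℕ, N.index = p ^ k) (hone : Nat.card {χ : Cfsg.IrrCharacter G // p ∣ Cfsg.charDegree (χ : G → ℂ)} = 1) : Nat.card {C : ConjClasses G // p ∣ Nat.card C.carrier} = 1 := by
  classical
  have hp : p.Prime := Fact.out
  let _ : Fintype G := Fintype.ofFinite G
  obtain ⟨hss, ⟨χ₀, hχ₀⟩⟩ := Nat.card_eq_one_iff_unique.mp hone
  have huniq : ∀ χ ψ : IrrCharacter G, p ∣ charDegree (χ : G → ℂ) → p ∣ charDegree (ψ : G → ℂ) →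
      χ = ψ := by
    intro χ ψ h1 h2
    have := hss.elim ⟨χ, h1⟩ ⟨ψ, h2⟩
    exact congrArg Subtype.val this
  obtain ⟨k, hk⟩ := hidx
  let P : Sylow p G := default
  have hPidx : ¬ p ∣ (P : Subgroup G).index := P.not_dvd_index
  -- `N P = G`
  have hsup : N ⊔ (P : Subgroup G) = ⊤ := by
    rw [← Subgroup.index_eq_one]
    have h1 : (N ⊔ (P : Subgroup G)).index ∣ p ^ k := by
      rw [← hk]
      exact Subgroup.index_dvd_of_le le_sup_left
    have h2 : (N ⊔ (P : Subgroup G)).index ∣ (P : Subgroup G).index :=
      Subgroup.index_dvd_of_le le_sup_right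
    obtain ⟨j, -, hj⟩ := (Nat.dvd_prime_pow hp).mp h1
    rcases Nat.eq_zero_or_pos j with hj0 | hj0
    · rw [hj, hj0, pow_zero]
    · exfalso
      apply hPidx
      refine dvd_trans ?_ h2
      rw [hj]
      exact dvd_pow_self p hj0.ne'
  obtain ⟨n, hn⟩ := IsPGroup.iff_card.mp P.2
  have hcop : (Nat.card N).Coprime (Nat.card (P : Subgroup G)) := by
    rw [hn]
    exact Nat.Coprime.pow_right n hN
  have hinf : N ⊓ (P : Subgroup G) = ⊥ :=
    disjoint_iff.mp (Subgroup.disjoint_of_coprime_natCard hcop)
  -- `P` is nontrivial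
  have hpG : p ∣ Nat.card G := dvd_trans hχ₀ (Helper79.irr_charDegree_dvd_card χ₀)
  have hn0 : 0 < n := by
    rcases Nat.eq_zero_or_pos n with h0 | h0
    · exfalso
      rw [h0, pow_zero] at hn
      have h1 := (P : Subgroup G).index_mul_card
      rw [hn, mul_one] at h1
      rw [← h1] at hpG
      exact hPidx hpG
    · exact h0
  have hcopiff : ∀ d : ℕ, d.Coprime (Nat.card (P : Subgroup G)) ↔ ¬ p ∣ d := by
    intro d
    rw [hn, Nat.coprime_pow_right_iff hn0, Nat.coprime_comm, Nat.Prime.coprime_iff_not_dvd hp]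
  -- the quotient by `N` is abelian
  have hcomm : ∀ a b : G ⧸ N, a * b = b * a := by
    by_contra hcon
    push Not at hcon
    have hbot : N = ⊥ := Helper71.onep_eq_bot_of_quotient_noncomm p N hN ⟨k, hk⟩ huniq hcon
    apply hnil
    have hG : IsPGroup p G := by
      apply IsPGroup.of_card (n := k)
      have h1 := N.index_mul_card
      rw [hbot, Subgroup.card_bot, mul_one] at h1
      rw [← h1, ← hbot, hk]
    exact hG.isNilpotent
  have hab : ∀ x ∈ (P : Subgroup G), ∀ y ∈ (P : Subgroup G), x * y = y * x := by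
    intro x hx y hy
    have h1 : x * y * x⁻¹ * y⁻¹ ∈ N ⊓ (P : Subgroup G) := by
      refine Subgroup.mem_inf.mpr ⟨?_, ?_⟩
      · rw [← QuotientGroup.eq_one_iff]
        simp only [QuotientGroup.mk_mul, QuotientGroup.mk_inv]
        rw [hcomm (x : G ⧸ N) (y : G ⧸ N)]
        group
      · exact Subgroup.mul_mem _ (Subgroup.mul_mem _ (Subgroup.mul_mem _ hx hy)
          (Subgroup.inv_mem _ hx)) (Subgroup.inv_mem _ hy)
    rw [hinf, Subgroup.mem_bot] at h1
    calc x * y = (x * y * x⁻¹ * y⁻¹) * (y * x) := by group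
      _ = y * x := by rw [h1, one_mul]
  -- the normalizer
  have hNC := Helper71.onep_normalizer_le_centralizer N (P : Subgroup G) hinf hsup hab
  set M : Subgroup G := Subgroup.normalizer ((P : Subgroup G) : Set G) with hM
  let _ : Fintype M := Fintype.ofFinite M
  have hsolv : Group.IsSolvable (P : Subgroup G) := by
    have := P.2.isNilpotent
    infer_instance
  have hcount := Cfsg.Agent.S4452.result N (P : Subgroup G) hsup hcop hsolv
  -- all characters of `M` have `p'`-degree
  have hMdeg : ∀ η : IrrCharacter M, (charDegree (η : M → ℂ)).Coprime (Nat.card (P : Subgroup G)) := by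
    intro η
    rw [hcopiff]
    have hA : ∀ a ∈ (P : Subgroup G).subgroupOf M, ∀ b ∈ (P : Subgroup G).subgroupOf M,
        a * b = b * a := by
      intro a ha b hb
      apply Subtype.ext
      exact hab a ha b hb
    have h1 := Helper75.ito ((P : Subgroup G).subgroupOf M) hA (η : M → ℂ) η.2
    have h2 : ((P : Subgroup G).subgroupOf M).index ∣ (P : Subgroup G).index :=
      Subgroup.relIndex_dvd_index_of_le Subgroup.le_normalizer
    intro hdvd
    exact hPidx (dvd_trans hdvd (dvd_trans h1 h2))
  have hMall : Nat.card {η : IrrCharacter M //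
      (charDegree (η : M → ℂ)).Coprime (Nat.card (P : Subgroup G))} = Nat.card (IrrCharacter M) :=
    Nat.card_congr (Equiv.subtypeUnivEquiv hMdeg)
  have hGcop : Nat.card {χ : IrrCharacter G //
      (charDegree (χ : G → ℂ)).Coprime (Nat.card (P : Subgroup G))} =
      Nat.card {χ : IrrCharacter G // ¬ p ∣ charDegree (χ : G → ℂ)} :=
    Nat.card_congr (Equiv.subtypeEquivRight (fun χ => hcopiff _))
  have hclasses := Helper71.onep_card_pprime_classes p P hNC
  have hs1 := Helper71.onep_card_split (fun χ : IrrCharacter G => p ∣ charDegree (χ : G → ℂ))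
  have hs2 := Helper71.onep_card_split (fun C : ConjClasses G => p ∣ Nat.card C.carrier)
  have hk1 := Helper78.card_irrCharacter (G := G)
  have hk2 := Helper78.card_irrCharacter (G := M)
  rw [hone] at hs1
  rw [hGcop, hMall, hk2, ← hclasses] at hcount
  omega

end Cfsg.Agent.S4763
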