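import Cfsg.Statements.S4774
import Cfsg.Agent.Lib.Helper39.SL2OddDegSets

set_option autoImplicit false
open Cfsg

namespace Cfsg.Agent.S4774

/-- Let F be a finite field of odd characteristic t with q > 5 elements and let S be isomorphic to PSL(2,F) or to SL(2,F). Then the vertices of the character degree graph of S are the primes dividing q(q²−1); the prime t is adjacent to no vertex; two distinct primes dividing q² − 1 are adjacent exactly when one of them is 2, or both divide q + 1, or both divide q − 1. -/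
theorem result (F : Type*) [Field F] [Fintype F] (t : ℕ) [Fact t.Prime] [CharP F t] (ht : t ≠ 2) (q : ℕ) (hq : Fintype.card F = q) (h5 : 5 < q) {S : Type*} [Group S] [Finite S] (hS : Nonempty (S ≃* Matrix.ProjectiveSpecialLinearGroup (Fin 2) F) ∨ Nonempty (S ≃* Matrix.SpecialLinearGroup (Fin 2) F)) : Cfsg.degreePrimes S = {r : ℕ | r.Prime ∧ r ∣ q * (q ^ 2 - 1)} ∧ ∀ r s : ℕ, (Cfsg.degreeGraph S).Adj r s ↔ (r ≠ s ∧ r.Prime ∧ s.Prime ∧ r ∣ q ^ 2 - 1 ∧ s ∣ q ^ 2 - 1 ∧ (r = 2 ∨ s = 2 ∨ (r ∣ q + 1 ∧ s ∣ q + 1) ∨ (r ∣ q - 1 ∧ s ∣ q - 1))) := by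
  classical
  subst hq
  have htp := (Fact.out : t.Prime)
  obtain ⟨k, -, hk⟩ := FiniteField.card F t
  have hodd : Odd (Fintype.card F) := by
    rw [hk]
    exact Odd.pow (htp.eq_two_or_odd'.resolve_left ht)
  obtain ⟨N, hN⟩ := hodd
  have hN3 : 3 ≤ N := by omega
  have key : Cfsg.charDegrees S ⊆ {1, 2 * N + 1, 2 * N + 2, 2 * N, N + 1, N} ∧
      2 * N + 1 ∈ Cfsg.charDegrees S ∧ 2 * N + 2 ∈ Cfsg.charDegrees S ∧
      2 * N ∈ Cfsg.charDegrees S := by
    rcases hS with ⟨⟨e⟩⟩ | ⟨⟨e⟩⟩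
    · rw [Cfsg.Agent.Lib.Helper39.charDegrees_congr e]
      exact Cfsg.Agent.Lib.Helper39.charDegrees_PSL2_odd F t N hN hN3
    · rw [Cfsg.Agent.Lib.Helper39.charDegrees_congr e]
      exact Cfsg.Agent.Lib.Helper39.charDegrees_SL2_odd F N hN hN3
  have e1 : Fintype.card F + 1 = 2 * N + 2 := by omega
  have e2 : Fintype.card F - 1 = 2 * N := by omega
  have e3 : (Fintype.card F + 1) / 2 = N + 1 := by omega
  have e4 : (Fintype.card F - 1) / 2 = N := by omega
  refine Cfsg.Agent.Lib.Helper39.degGraph_odd S (Fintype.card F) t k htp ht hk h5 ?_ ?_ ?_ ?_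
  · rw [e3, e4, e1, e2, hN]; exact key.1
  · rw [hN]; exact key.2.1
  · rw [e1]; exact key.2.2.1
  · rw [e2]; exact key.2.2.2

end Cfsg.Agent.S4774
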