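-- Statement S4782: a nonsolvable finite group has at least three primes dividing irreducible
-- character degrees.  Elementary proof (helper80): induction reduces to a nonabelian simple group
-- all of whose degrees are `{p,q}`-numbers; for `1 ≠ g ∈ Z(P)`, `P` a Sylow `p`-subgroup,
-- Burnside's lemma gives `χ(g) = 0` for nonprincipal `χ` of `p`-power degree, so
-- `0 = ∑ χ(1) χ(g) = 1 + q α` with `α` an algebraic integer: impossible.
import Mathlib
import Cfsg.Statements.S4782
import Cfsg.Agent.S0143
import Cfsg.Agent.Lib.Helper80.ItoMichler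

set_option autoImplicit false
open Cfsg
open scoped ComplexConjugate

namespace Cfsg.Agent.S4782

universe u

/-- Core: in a nonabelian finite simple group, for `g ≠ 1` and `t ≥ 2`, not every irreducible
degree is divisible by `t` or coprime to the class size of `g`. -/
lemma simple_core {G : Type*} [Group G] [Finite G] [IsSimpleGroup G]
    (hcomm : ¬ ∀ a b : G, a * b = b * a) (g : G) (hg : g ≠ 1) (t : ℕ) (ht : 2 ≤ t)
    (h : ∀ χ : IrrCharacter G, t ∣ Cfsg.charDegree (χ : G → ℂ) ∨
      Nat.Coprime (Cfsg.charDegree (χ : G → ℂ)) (Subgroup.centralizer ({g} : Set G)).index) :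
    False := by
  classical
  have := Fintype.ofFinite G
  let χ₀ : IrrCharacter G := ⟨fun _ => 1, Cfsg.Agent.Lib.Helper78.isIrrCharacter_one⟩
  have key : ∀ χ : IrrCharacter G, χ ≠ χ₀ →
      (χ : G → ℂ) g = 0 ∨ t ∣ Cfsg.charDegree (χ : G → ℂ) := by
    intro χ hχ
    rcases h χ with hd | hcop
    · exact Or.inr hd
    left
    rcases Cfsg.Agent.Lib.Helper79.irr_burnside_coprime χ g hcop with h0 | hnorm
    · exact h0
    exfalso
    obtain ⟨n, ρ, hirr, hρ⟩ := χ.2
    have hdeg : Cfsg.charDegree (χ : G → ℂ) = n := by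
      rw [← hρ]; exact Cfsg.Agent.Lib.Helper79.charDegree_of_rep ρ
    have hnorm' : ‖ρ.character g‖ = (Module.finrank ℂ (Fin n → ℂ) : ℝ) := by
      rw [hρ, hnorm, hdeg]; simp
    have hscal := (Cfsg.Agent.S0138.result ρ g).mp hnorm'
    have htriv := Cfsg.Agent.S0143.rep_trivial_of_scalar hcomm ρ g hg hscal
    have hconst : ∀ x, (χ : G → ℂ) x = (n : ℂ) := by
      intro x
      rw [← hρ]
      show LinearMap.trace ℂ _ (ρ x) = _
      rw [htriv x]
      simp
    have hself := Cfsg.Agent.Lib.Helper78.classInner_irr_self χ.2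
    unfold Cfsg.classInner at hself
    simp only [hconst] at hself
    have hcard : (Nat.card G : ℂ) ≠ 0 := by
      have : Nat.card G ≠ 0 := Nat.card_pos.ne'
      exact_mod_cast this
    have hn2 : (n : ℂ) * (n : ℂ) = 1 := by
      simp only [Finset.sum_const, Finset.card_univ, nsmul_eq_mul, map_natCast] at hself
      rw [← Nat.card_eq_fintype_card, ← mul_assoc, inv_mul_cancel₀ hcard, one_mul] at hself
      exact hself
    have hn1 : n = 1 := by
      have : n * n = 1 := by exact_mod_cast hn2
      exact Nat.eq_one_of_mul_eq_one_left this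
    apply hχ
    apply Subtype.ext
    funext x
    rw [hconst x, hn1]
    simp [χ₀]
  have hnconj : ¬ IsConj g 1 := by
    intro h
    exact hg (isConj_one_left.mp h)
  have horth := Cfsg.Agent.Lib.Helper78.second_orthogonality_of_not_isConj hnconj
  have h1 : ∀ χ : IrrCharacter G, conj ((χ : G → ℂ) 1) = (Cfsg.charDegree (χ : G → ℂ) : ℂ) := by
    intro χ
    rw [Cfsg.Agent.Lib.Helper79.irr_apply_one_eq_charDegree χ]
    simp
  simp only [h1] at horth
  let a : IrrCharacter G → ℂ := fun χ =>
    if t ∣ Cfsg.charDegree (χ : G → ℂ) then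
      ((Cfsg.charDegree (χ : G → ℂ) / t : ℕ) : ℂ) * (χ : G → ℂ) g else 0
  have ht0 : 0 < t := by omega
  have ha : ∀ χ : IrrCharacter G, χ ≠ χ₀ →
      (χ : G → ℂ) g * (Cfsg.charDegree (χ : G → ℂ) : ℂ) = (t : ℂ) * a χ := by
    intro χ hχ
    rcases key χ hχ with h0 | hd
    · simp only [a]
      rw [h0]; split_ifs <;> simp
    · simp only [a]
      rw [if_pos hd]
      obtain ⟨m, hm⟩ := hd
      rw [hm, Nat.mul_div_cancel_left m ht0]
      push_cast; ring
  have haint : ∀ χ : IrrCharacter G, IsIntegral ℤ (a χ) := by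
    intro χ
    simp only [a]
    split_ifs
    · have hnat : IsIntegral ℤ (((Cfsg.charDegree (χ : G → ℂ) / t : ℕ) : ℂ)) := by
        generalize Cfsg.charDegree (χ : G → ℂ) / t = m
        have := isIntegral_algebraMap (R := ℤ) (A := ℂ) (x := (m : ℤ))
        simpa using this
      exact IsIntegral.mul hnat (Cfsg.Agent.Lib.Helper79.isIntegral_irr χ g)
    · exact isIntegral_zero
  rw [← Finset.add_sum_erase Finset.univ _ (Finset.mem_univ χ₀)] at horth
  have hχ₀ : (χ₀ : G → ℂ) g * (Cfsg.charDegree (χ₀ : G → ℂ) : ℂ) = 1 := by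
    have : Cfsg.charDegree (χ₀ : G → ℂ) = 1 := by
      simp [χ₀, Cfsg.charDegree]
    rw [this]; simp [χ₀]
  rw [hχ₀] at horth
  have hsum : ∑ χ ∈ Finset.univ.erase χ₀, (χ : G → ℂ) g * (Cfsg.charDegree (χ : G → ℂ) : ℂ) =
      (t : ℂ) * ∑ χ ∈ Finset.univ.erase χ₀, a χ := by
    rw [Finset.mul_sum]
    apply Finset.sum_congr rfl
    intro χ hχ
    exact ha χ (Finset.ne_of_mem_erase hχ)
  rw [hsum] at horth
  have hS : IsIntegral ℤ (∑ χ ∈ Finset.univ.erase χ₀, a χ) :=
    IsIntegral.sum _ (fun χ _ => haint χ)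
  have htc : (t : ℂ) ≠ 0 := by exact_mod_cast ht0.ne'
  have hval : ((1 : ℕ) : ℂ) / (t : ℂ) = - ∑ χ ∈ Finset.univ.erase χ₀, a χ := by
    field_simp
    push_cast
    linear_combination horth
  have : IsIntegral ℤ (((1 : ℕ) : ℂ) / (t : ℂ)) := by
    rw [hval]; exact hS.neg
  have := Cfsg.Agent.Lib.Helper79.dvd_of_isIntegral_div ht0.ne' this
  have := Nat.dvd_one.mp this
  omega

/-- If `s` is a prime dividing the order of the nonabelian simple group `G` and `t ≥ 2`, then not
every irreducible degree is divisible by `t` or a power of `s`. -/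
lemma simple_aux {G : Type*} [Group G] [Finite G] [IsSimpleGroup G]
    (hcomm : ¬ ∀ a b : G, a * b = b * a) (s t : ℕ) (hs : s.Prime) (hsG : s ∣ Nat.card G)
    (ht : 2 ≤ t)
    (h : ∀ χ : IrrCharacter G, t ∣ Cfsg.charDegree (χ : G → ℂ) ∨
      ∀ r : ℕ, r.Prime → r ∣ Cfsg.charDegree (χ : G → ℂ) → r = s) : False := by
  classical
  have hsf : Fact s.Prime := ⟨hs⟩
  let P : Sylow s G := default
  have hPcard : Nat.card (P : Subgroup G) ≠ 1 := by
    intro h1
    have h2 := P.card_eq_multiplicity
    rw [h1] at h2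
    have h3 : (Nat.card G).factorization s = 0 := by
      by_contra h4
      have : 1 < s ^ (Nat.card G).factorization s := Nat.one_lt_pow h4 hs.one_lt
      omega
    have h5 : 0 < (Nat.card G).factorization s :=
      hs.factorization_pos_of_dvd Nat.card_pos.ne' hsG
    omega
  have hPnt : Nontrivial (P : Subgroup G) := by
    have : 1 < Nat.card (P : Subgroup G) := by
      have : 0 < Nat.card (P : Subgroup G) := Nat.card_pos
      omega
    exact Finite.one_lt_card_iff_nontrivial.mp this
  have hcnt : Nontrivial (Subgroup.center (P : Subgroup G)) := P.2.center_nontrivial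
  obtain ⟨z, hz⟩ := exists_ne (1 : Subgroup.center (P : Subgroup G))
  have hzG : ((z : (P : Subgroup G)) : G) ≠ 1 := by
    intro h1
    apply hz
    apply Subtype.ext
    apply Subtype.ext
    simpa using h1
  have hle : (P : Subgroup G) ≤ Subgroup.centralizer ({((z : (P : Subgroup G)) : G)} : Set G) := by
    intro x hx
    rw [Subgroup.mem_centralizer_iff]
    intro y hy
    rw [Set.mem_singleton_iff] at hy
    subst hy
    have h1 := Subgroup.mem_center_iff.mp z.2 ⟨x, hx⟩
    have h2 := congrArg (fun w : (P : Subgroup G) => (w : G)) h1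
    simpa using h2.symm
  have hidx : ¬ s ∣ (Subgroup.centralizer ({((z : (P : Subgroup G)) : G)} : Set G)).index := by
    intro h1
    exact P.not_dvd_index (dvd_trans h1 (Subgroup.index_dvd_of_le hle))
  apply simple_core hcomm _ hzG t ht
  intro χ
  rcases h χ with h1 | h1
  · exact Or.inl h1
  · right
    apply Nat.coprime_of_dvd
    intro k hk hkd hki
    rw [h1 k hk hkd] at hki
    exact hidx hki

/-- The simple case. -/
lemma simple_case {G : Type*} [Group G] [Finite G] [IsSimpleGroup G]
    (hcomm : ¬ ∀ a b : G, a * b = b * a) (p q : ℕ)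
    (h : ∀ r ∈ Cfsg.degreePrimes G, r = p ∨ r = q) : False := by
  classical
  have hmem : ∀ (χ : IrrCharacter G) (r : ℕ), r.Prime → r ∣ Cfsg.charDegree (χ : G → ℂ) →
      r ∈ Cfsg.degreePrimes G := fun χ r hr hrd => ⟨hr, _, ⟨χ, rfl⟩, hrd⟩
  by_cases hp : p ∈ Cfsg.degreePrimes G
  · obtain ⟨hpp, d, ⟨χ, rfl⟩, hpd⟩ := hp
    have hpG : p ∣ Nat.card G :=
      dvd_trans hpd (Cfsg.Agent.Lib.Helper79.irr_charDegree_dvd_card χ)
    apply simple_aux hcomm p (if q.Prime then q else 2) hpp hpG
    · split_ifs with hq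
      · exact hq.two_le
      · exact le_refl 2
    · intro χ'
      by_cases hq : q.Prime ∧ q ∣ Cfsg.charDegree (χ' : G → ℂ)
      · left
        rw [if_pos hq.1]
        exact hq.2
      · right
        intro r hr hrd
        rcases h r (hmem χ' r hr hrd) with rfl | rfl
        · rfl
        · exact absurd ⟨hr, hrd⟩ hq
  · by_cases hq : q ∈ Cfsg.degreePrimes G
    · obtain ⟨hqp, d, ⟨χ, rfl⟩, hqd⟩ := hq
      have hqG : q ∣ Nat.card G :=
        dvd_trans hqd (Cfsg.Agent.Lib.Helper79.irr_charDegree_dvd_card χ)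
      apply simple_aux hcomm q 2 hqp hqG (le_refl 2)
      intro χ'
      right
      intro r hr hrd
      rcases h r (hmem χ' r hr hrd) with rfl | rfl
      · exact absurd (hmem χ' r hr hrd) hp
      · rfl
    · have hnt : Nontrivial G := IsSimpleGroup.toNontrivial
      have hcard : Nat.card G ≠ 1 := by
        have := Finite.one_lt_card_iff_nontrivial.mpr hnt
        omega
      apply simple_aux hcomm (Nat.card G).minFac 2 (Nat.minFac_prime hcard)
        (Nat.minFac_dvd _) (le_refl 2)
      intro χ'
      right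
      intro r hr hrd
      exfalso
      rcases h r (hmem χ' r hr hrd) with rfl | rfl
      · exact hp (hmem χ' r hr hrd)
      · exact hq (hmem χ' r hr hrd)

/-- The induction. -/
lemma key : ∀ n : ℕ, ∀ (H : Type u) [Group H] [Finite H], Nat.card H = n →
    ¬ Group.IsSolvable H → ∀ p q : ℕ, ¬ (∀ r ∈ Cfsg.degreePrimes H, r = p ∨ r = q) := by
  intro n
  induction n using Nat.strong_induction_on with
  | _ n ih =>
    intro H _ _ hn hsolv p q hpq
    classical
    have hFin := Fintype.ofFinite H
    by_cases hsimple : IsSimpleGroup H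
    · have hcomm : ¬ ∀ a b : H, a * b = b * a := by
        intro hc
        apply hsolv
        exact Group.isSolvable_of_comm hc
      exact simple_case hcomm p q hpq
    · have hnt : Nontrivial H := by
        by_contra hnt
        rw [not_nontrivial_iff_subsingleton] at hnt
        exact hsolv inferInstance
      have hex : ∃ N : Subgroup H, N.Normal ∧ N ≠ ⊥ ∧ N ≠ ⊤ := by
        by_contra hcon
        push Not at hcon
        apply hsimple
        refine ⟨fun N hN => ?_⟩
        by_cases hb : N = ⊥
        · exact Or.inl hb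
        · exact Or.inr (hcon N hN hb)
      obtain ⟨N, hN, hNb, hNt⟩ := hex
      by_cases hNs : Group.IsSolvable N
      · -- the quotient is not solvable
        have hQs : ¬ Group.IsSolvable (H ⧸ N) := by
          intro hQ
          apply hsolv
          exact Group.isSolvable_of_ker_le_range N.subtype (QuotientGroup.mk' N)
            (by rw [QuotientGroup.ker_mk', Subgroup.range_subtype])
        have hlt : Nat.card (H ⧸ N) < n := by
          rw [← hn, ← Subgroup.index_eq_card, ← N.index_mul_card]
          have h1 : 1 < Nat.card N := by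
            rw [Finite.one_lt_card_iff_nontrivial]
            exact (Subgroup.nontrivial_iff_ne_bot N).mpr hNb
          have h2 : 0 < N.index := Nat.pos_of_ne_zero Subgroup.index_ne_zero_of_finite
          nlinarith
        apply ih _ hlt (H ⧸ N) rfl hQs p q
        intro r hr
        obtain ⟨hrp, d, ⟨χ', rfl⟩, hrd⟩ := hr
        apply hpq r
        refine ⟨hrp, _, ⟨Cfsg.Agent.Lib.Helper77.inflate N χ', rfl⟩, ?_⟩
        rw [Cfsg.Agent.Lib.Helper80.charDegree_inflate]
        exact hrd
      · have hlt : Nat.card N < n := by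
          rw [← hn]
          apply lt_of_le_of_ne (Subgroup.card_le_card_group N)
          intro h1
          exact hNt (Subgroup.card_eq_iff_eq_top N |>.mp h1)
        apply ih _ hlt N rfl hNs p q
        intro r hr
        obtain ⟨hrp, d, ⟨θ, rfl⟩, hrd⟩ := hr
        have hFinN := Fintype.ofFinite N
        obtain ⟨χ, hχ, hover⟩ := Cfsg.Agent.Lib.Helper80.exists_irr_over' N θ.2
        have hdvd := Cfsg.Agent.Lib.Helper80.charDegree_dvd_of_over N hχ θ.2 hover
        apply hpq r
        exact ⟨hrp, _, ⟨⟨χ, hχ⟩, rfl⟩, dvd_trans hrd hdvd⟩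

/-- If the finite group G is not solvable, then at least three distinct primes each divide some irreducible complex character degree of G. -/
theorem result {G : Type*} [Group G] [Finite G] (hG : ¬ Group.IsSolvable G) : ∃ p q r : ℕ, p ≠ q ∧ q ≠ r ∧ p ≠ r ∧ p ∈ Cfsg.degreePrimes G ∧ q ∈ Cfsg.degreePrimes G ∧ r ∈ Cfsg.degreePrimes G := by
  have K := key (Nat.card G) G rfl hG
  have h1 : ∃ a, a ∈ Cfsg.degreePrimes G := by
    by_contra h
    push Not at h
    exact K 0 0 (fun r hr => absurd hr (h r))
  obtain ⟨a, ha⟩ := h1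
  have h2 : ∃ b ∈ Cfsg.degreePrimes G, b ≠ a := by
    by_contra h
    push Not at h
    exact K a a (fun r hr => Or.inl (h r hr))
  obtain ⟨b, hb, hba⟩ := h2
  have h3 : ∃ c ∈ Cfsg.degreePrimes G, c ≠ a ∧ c ≠ b := by
    by_contra h
    push Not at h
    exact K a b (fun r hr => by
      by_cases hra : r = a
      · exact Or.inl hra
      · exact Or.inr (h r hr hra))
  obtain ⟨c, hc, hca, hcb⟩ := h3
  exact ⟨a, b, c, hba.symm, hcb.symm, hca.symm, ha, hb, hc⟩

end Cfsg.Agent.S4782
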