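import Cfsg.Statements.S4784
-- import your own Cfsg.Agent.* helpers here
import Cfsg.Agent.S0146
import Cfsg.Agent.Lib.Helper74.FSCount
import Cfsg.Agent.Lib.Helper15.PermChar
import Cfsg.Agent.Lib.Helper77.CenterIrr
import Cfsg.Agent.Lib.Helper3.IrrBasis
import Cfsg.Agent.Lib.Helper79.ClassCount

set_option autoImplicit false
open Cfsg

namespace Cfsg.Agent.S4784

open Cfsg.Agent.Lib.Helper79 Cfsg.Agent.Lib.Helper3 Cfsg.Agent.Lib.Helper74
open scoped ComplexConjugate

/-- L1: the multiplicity of an irreducible character in the permutation character is a natural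
number, namely the multiplicity of the trivial character of `H` in the restriction. -/
theorem classInner_perm {G : Type*} [Group G] [Fintype G] (H : Subgroup G) [Fintype H]
    (χ : Cfsg.IrrCharacter G) :
    ∃ m : ℕ, Cfsg.classInner (Cfsg.indFun H (fun _ : H => (1 : ℂ))) (χ : G → ℂ) = m ∧
      ∑ h : H, (χ : G → ℂ) (h : G) = (Nat.card H : ℂ) * m := by
  obtain ⟨m, hm⟩ := sum_subgroup_irr χ H
  refine ⟨m, ?_, hm⟩
  rw [Cfsg.Agent.S0146.result H (fun _ : H => (1 : ℂ)) (χ : G → ℂ)
    (IsIrrCharacter.isClassFunction χ.2)]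
  unfold Cfsg.classInner
  have hH : (Nat.card H : ℂ) ≠ 0 := by exact_mod_cast Nat.card_pos.ne'
  have h1 : ∑ h : H, (1 : ℂ) * conj ((χ : G → ℂ) (h : G)) = conj (∑ h : H, (χ : G → ℂ) (h : G)) := by
    rw [map_sum]
    simp
  rw [h1, hm, map_mul, Complex.conj_natCast, Complex.conj_natCast, ← mul_assoc,
    inv_mul_cancel₀ hH, one_mul]

/-- L2: the permutation character is constant on the normal core. -/
theorem perm_apply_core {G : Type*} [Group G] [Fintype G] (H : Subgroup G) (n : G)
    (hn : n ∈ H.normalCore) :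
    Cfsg.indFun H (fun _ : H => (1 : ℂ)) n = Cfsg.indFun H (fun _ : H => (1 : ℂ)) 1 := by
  rw [Cfsg.Agent.Lib.Helper15.indFun_one_apply, Cfsg.Agent.Lib.Helper15.indFun_one_apply]
  congr 2
  apply Nat.card_congr
  apply Equiv.subtypeEquivRight
  intro x
  constructor
  · intro _
    simp
  · intro _
    have := hn x⁻¹
    simpa using this

theorem eq_of_norm_le_of_re_eq {z : ℂ} {d : ℝ} (h1 : ‖z‖ ≤ d) (h2 : z.re = d) : z = (d : ℂ) := by
  have h3 : ‖z‖ ^ 2 = z.re ^ 2 + z.im ^ 2 := by
    rw [Complex.sq_norm, Complex.normSq_apply]; ring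
  have h0 := norm_nonneg z
  have h4 : ‖z‖ ^ 2 ≤ d ^ 2 := by nlinarith
  have h5 : z.im = 0 := by
    rw [h2] at h3
    have h6 : z.im ^ 2 ≤ 0 := by linarith
    have h7 := sq_nonneg z.im
    have : z.im ^ 2 = 0 := le_antisymm h6 h7
    exact pow_eq_zero_iff (two_ne_zero) |>.mp this
  apply Complex.ext <;> simp [h2, h5]

/-- L3: the normal core lies in the kernel of every constituent of the permutation character. -/
theorem apply_core_of_constituent {G : Type*} [Group G] [Fintype G] (H : Subgroup G)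
    (χ : Cfsg.IrrCharacter G)
    (hχ : Cfsg.classInner (Cfsg.indFun H (fun _ : H => (1 : ℂ))) (χ : G → ℂ) ≠ 0) (n : G)
    (hn : n ∈ H.normalCore) : (χ : G → ℂ) n = (χ : G → ℂ) 1 := by
  classical
  have := Fintype.ofFinite H
  have := Fintype.ofFinite (Cfsg.IrrCharacter G)
  have hcf : Cfsg.IsClassFunction G (Cfsg.indFun H (fun _ : H => (1 : ℂ))) :=
    Cfsg.Agent.Lib.Helper75.isClassFunction_indFun H _
  have hexp := classFunction_expansion _ hcf
  have h1 := congrFun hexp n
  have h2 := congrFun hexp 1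
  rw [perm_apply_core H n hn] at h1
  rw [h1] at h2
  simp only [Finset.sum_apply, Pi.smul_apply, smul_eq_mul] at h2
  -- the multiplicities
  choose m hm _ using fun ψ : Cfsg.IrrCharacter G => classInner_perm H ψ
  simp only [hm] at h2
  -- real parts
  have h3 : ∑ ψ : Cfsg.IrrCharacter G,
      (m ψ : ℝ) * ((Cfsg.charDegree (ψ : G → ℂ) : ℝ) - ((ψ : G → ℂ) n).re) = 0 := by
    have h4 := congrArg Complex.re h2
    rw [Complex.re_sum, Complex.re_sum] at h4
    have h5 : ∀ ψ : Cfsg.IrrCharacter G, ((m ψ : ℂ) * (ψ : G → ℂ) 1).re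
        = (m ψ : ℝ) * (Cfsg.charDegree (ψ : G → ℂ) : ℝ) := by
      intro ψ
      rw [irr_apply_one_eq_charDegree]
      simp
    have h6 : ∀ ψ : Cfsg.IrrCharacter G, ((m ψ : ℂ) * (ψ : G → ℂ) n).re
        = (m ψ : ℝ) * ((ψ : G → ℂ) n).re := by
      intro ψ
      simp
    simp only [h5, h6] at h4
    simp only [mul_sub, Finset.sum_sub_distrib]
    linarith
  have hnonneg : ∀ ψ ∈ (Finset.univ : Finset (Cfsg.IrrCharacter G)),
      0 ≤ (m ψ : ℝ) * ((Cfsg.charDegree (ψ : G → ℂ) : ℝ) - ((ψ : G → ℂ) n).re) := by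
    intro ψ _
    apply mul_nonneg (Nat.cast_nonneg _)
    have := irr_norm_le ψ n
    have h7 := Complex.re_le_norm ((ψ : G → ℂ) n)
    linarith
  have h8 := (Finset.sum_eq_zero_iff_of_nonneg hnonneg).mp h3 χ (Finset.mem_univ χ)
  have hmχ : (m χ : ℝ) ≠ 0 := by
    intro h0
    apply hχ
    rw [hm χ]
    have : m χ = 0 := by exact_mod_cast h0
    rw [this]; simp
  have h9 : ((χ : G → ℂ) n).re = (Cfsg.charDegree (χ : G → ℂ) : ℝ) := by
    rcases mul_eq_zero.mp h8 with h | h
    · exact absurd h hmχ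
    · linarith
  rw [eq_of_norm_le_of_re_eq (irr_norm_le χ n) h9, irr_apply_one_eq_charDegree]
  simp

/-- Summing a function of the coset over the group. -/
theorem sum_comp_mk {G : Type*} [Group G] [Fintype G] (N : Subgroup G) [N.Normal]
    [Fintype N] [Fintype (G ⧸ N)] (F : G ⧸ N → ℂ) :
    ∑ g : G, F (g : G ⧸ N) = (Nat.card N : ℂ) * ∑ q : G ⧸ N, F q := by
  classical
  let e : (G ⧸ N) × N ≃ G :=
    { toFun := fun qn => Quotient.out qn.1 * (qn.2 : G)
      invFun := fun g => ((g : G ⧸ N), ⟨(Quotient.out (g : G ⧸ N))⁻¹ * g,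
        QuotientGroup.leftRel_apply.mp (Quotient.exact' (Quotient.out_eq' (g : G ⧸ N)))⟩)
      left_inv := by
        rintro ⟨q, n⟩
        have h1 : ((Quotient.out q * (n : G) : G) : G ⧸ N) = q := by
          rw [QuotientGroup.mk_mul_of_mem _ n.2, QuotientGroup.out_eq']
        apply Prod.ext
        · exact h1
        · apply Subtype.ext
          show (Quotient.out ((Quotient.out q * (n : G) : G) : G ⧸ N))⁻¹ * (Quotient.out q * (n : G)) = n
          rw [h1, inv_mul_cancel_left]
      right_inv := by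
        intro g
        show Quotient.out (g : G ⧸ N) * ((Quotient.out (g : G ⧸ N))⁻¹ * g) = g
        rw [mul_inv_cancel_left] }
  rw [← Equiv.sum_comp e, Fintype.sum_prod_type]
  have h1 : ∀ (q : G ⧸ N) (n : N), F ((e (q, n) : G) : G ⧸ N) = F q := by
    intro q n
    congr 1
    show ((Quotient.out q * (n : G) : G) : G ⧸ N) = q
    rw [QuotientGroup.mk_mul_of_mem _ n.2, QuotientGroup.out_eq']
  simp only [h1, Finset.sum_const, Finset.card_univ, nsmul_eq_mul]
  rw [Finset.mul_sum, Nat.card_eq_fintype_card]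

/-- L4: for an `N`-invariant function with `|G : N|` odd, summing over squares is the same as
summing over the group. -/
theorem sum_sq_eq_sum {G : Type*} [Group G] [Fintype G] (N : Subgroup G) [N.Normal]
    (hodd : Odd N.index) (f : G → ℂ) (hf : ∀ g : G, ∀ n ∈ N, f (g * n) = f g) :
    ∑ g : G, f (g * g) = ∑ g : G, f g := by
  classical
  have := Fintype.ofFinite N
  have := Fintype.ofFinite (G ⧸ N)
  let fq : G ⧸ N → ℂ := fun q => Quotient.liftOn' q f (fun a b hab => by
    rw [QuotientGroup.leftRel_apply] at hab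
    have := hf a (a⁻¹ * b) hab
    rw [mul_inv_cancel_left] at this
    exact this.symm)
  have hfq : ∀ g : G, fq (g : G ⧸ N) = f g := fun g => rfl
  have h1 : ∑ g : G, f (g * g) = ∑ g : G, (fun q : G ⧸ N => fq (q * q)) (g : G ⧸ N) := by
    refine Finset.sum_congr rfl (fun g _ => ?_)
    show f (g * g) = fq ((g : G ⧸ N) * (g : G ⧸ N))
    rw [← QuotientGroup.mk_mul, hfq]
  have h2 : ∑ g : G, f g = ∑ g : G, fq (g : G ⧸ N) := by
    refine Finset.sum_congr rfl (fun g _ => ?_)
    rw [hfq]
  rw [h1, h2, sum_comp_mk N (fun q : G ⧸ N => fq (q * q)), sum_comp_mk N fq]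
  congr 1
  have hcop : (Nat.card (G ⧸ N)).Coprime 2 := by
    rw [← Subgroup.index_eq_card]
    exact Nat.coprime_two_right.mpr hodd
  rw [← Equiv.sum_comp (powCoprime hcop) fq]
  refine Finset.sum_congr rfl (fun q _ => ?_)
  rw [powCoprime_apply, pow_two]

/-- The principal character as an element of `IrrCharacter G`. -/
noncomputable def oneIrr (G : Type*) [Group G] : Cfsg.IrrCharacter G :=
  ⟨fun _ => 1, Cfsg.Agent.Lib.Helper78.isIrrCharacter_one⟩

/-- L5: a nonprincipal irreducible character whose kernel has odd index has indicator `0`. -/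
theorem fsIndFun_eq_zero_of_odd {G : Type*} [Group G] [Fintype G] (N : Subgroup G) [N.Normal]
    (hodd : Odd N.index) (χ : Cfsg.IrrCharacter G) (hχ1 : χ ≠ oneIrr G)
    (hker : ∀ n ∈ N, (χ : G → ℂ) n = (χ : G → ℂ) 1) : fsIndFun (χ : G → ℂ) = 0 := by
  classical
  have hinv : ∀ g : G, ∀ n ∈ N, (χ : G → ℂ) (g * n) = (χ : G → ℂ) g := by
    intro g n hn
    have hk : n ∈ Cfsg.Agent.Lib.Helper77.irrKer χ :=
      (Cfsg.Agent.Lib.Helper77.mem_irrKer χ n).mpr (hker n hn)
    have := Cfsg.Agent.Lib.Helper77.character_mul_of_mem_ker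
      (Cfsg.Agent.Lib.Helper77.irrRep χ) g n hk
    rwa [Cfsg.Agent.Lib.Helper77.irrRep_character] at this
  unfold fsIndFun
  rw [sum_sq_eq_sum N hodd _ hinv]
  have horth := classInner_irrCharacter χ.2 (oneIrr G).2
  rw [if_neg (fun h => hχ1 (Subtype.ext h))] at horth
  unfold Cfsg.classInner at horth
  have h1 : ∑ g : G, (χ : G → ℂ) g * conj (((oneIrr G : Cfsg.IrrCharacter G) : G → ℂ) g)
      = ∑ g : G, (χ : G → ℂ) g := by
    refine Finset.sum_congr rfl (fun g _ => ?_)
    show (χ : G → ℂ) g * conj (1 : ℂ) = _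
    rw [map_one, mul_one]
  rw [h1] at horth
  exact horth

/-- Linearity of the indicator in a finite linear combination. -/
theorem fsIndFun_sum {G : Type*} [Group G] [Fintype G] {ι : Type*} [Fintype ι] (a : ι → ℂ)
    (F : ι → G → ℂ) :
    fsIndFun (∑ i, a i • F i) = ∑ i, a i * fsIndFun (F i) := by
  unfold fsIndFun
  simp only [Finset.sum_apply, Pi.smul_apply, smul_eq_mul]
  rw [Finset.sum_comm, Finset.mul_sum]
  refine Finset.sum_congr rfl (fun i _ => ?_)
  rw [← Finset.mul_sum]
  ring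

/-- L6: the indicator of the permutation character counts the elements whose square lies in `H`. -/
theorem fsIndFun_perm {G : Type*} [Group G] [Fintype G] [DecidableEq G] (H : Subgroup G)
    [DecidablePred (· ∈ H)] :
    fsIndFun (Cfsg.indFun H (fun _ : H => (1 : ℂ)))
      = (Nat.card H : ℂ)⁻¹ * ((Finset.univ.filter (fun s : G => s * s ∈ H)).card : ℂ) := by
  have hG : (Nat.card G : ℂ) ≠ 0 := by exact_mod_cast Nat.card_pos.ne'
  unfold fsIndFun Cfsg.indFun
  simp only [Cfsg.Agent.Lib.Helper15.extendByZero_one_apply]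
  rw [← Finset.mul_sum, Finset.sum_comm]
  have h1 : ∀ x : G, ∑ s : G, (if x⁻¹ * (s * s) * x ∈ H then (1 : ℂ) else 0)
      = ((Finset.univ.filter (fun s : G => s * s ∈ H)).card : ℂ) := by
    intro x
    rw [← Equiv.sum_comp (MulAut.conj x).toEquiv]
    have h2 : ∀ s : G, x⁻¹ * ((MulAut.conj x).toEquiv s * (MulAut.conj x).toEquiv s) * x = s * s := by
      intro s
      show x⁻¹ * ((x * s * x⁻¹) * (x * s * x⁻¹)) * x = s * s
      group
    simp only [h2]
    rw [Finset.sum_ite, Finset.sum_const_zero, add_zero, Finset.sum_const, nsmul_eq_mul, mul_one]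
  simp only [h1]
  rw [Finset.sum_const, Finset.card_univ, nsmul_eq_mul, ← Nat.card_eq_fintype_card]
  field_simp

/-- L7: if the core has even index, strictly more than `|H|` elements have their square in `H`. -/
theorem card_lt_card_sq_mem {G : Type*} [Group G] [Fintype G] [DecidableEq G] (H : Subgroup G)
    [DecidablePred (· ∈ H)] (heven : Even H.normalCore.index) :
    Nat.card H < (Finset.univ.filter (fun s : G => s * s ∈ H)).card := by
  have hN : H.normalCore.Normal := Subgroup.normalCore_normal H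
  have h2 : 2 ∣ Nat.card (G ⧸ H.normalCore) := by
    rw [← Subgroup.index_eq_card]
    exact even_iff_two_dvd.mp heven
  have : Fact (Nat.Prime 2) := ⟨Nat.prime_two⟩
  obtain ⟨q, hq⟩ := exists_prime_orderOf_dvd_card' 2 h2
  obtain ⟨t, rfl⟩ := QuotientGroup.mk_surjective q
  have ht1 : t ∉ H.normalCore := by
    intro h
    have h1 : ((t : G) : G ⧸ H.normalCore) = 1 := (QuotientGroup.eq_one_iff t).mpr h
    rw [h1, orderOf_one] at hq
    norm_num at hq
  have htt : t * t ∈ H.normalCore := by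
    rw [← QuotientGroup.eq_one_iff, QuotientGroup.mk_mul, ← pow_two, ← hq, pow_orderOf_eq_one]
  have hex : ∃ b : G, b * t * b⁻¹ ∉ H := by
    by_contra hcon
    push Not at hcon
    exact ht1 hcon
  obtain ⟨b, hb⟩ := hex
  have hss : (b * t * b⁻¹) * (b * t * b⁻¹) ∈ H := by
    have h1 : (b * t * b⁻¹) * (b * t * b⁻¹) = b * (t * t) * b⁻¹ := by group
    rw [h1]
    exact Subgroup.normalCore_le H (hN.conj_mem _ htt b)
  have hsub : Finset.univ.filter (fun s : G => s ∈ H) ⊂ Finset.univ.filter (fun s : G => s * s ∈ H) := by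
    rw [Finset.ssubset_iff_of_subset]
    · refine ⟨b * t * b⁻¹, ?_, ?_⟩
      · rw [Finset.mem_filter]
        exact ⟨Finset.mem_univ _, hss⟩
      · rw [Finset.mem_filter]
        exact fun h => hb h.2
    · intro x hx
      simp only [Finset.mem_filter, Finset.mem_univ, true_and] at hx ⊢
      exact H.mul_mem hx hx
  have hlt := Finset.card_lt_card hsub
  have hcardH : (Finset.univ.filter (fun s : G => s ∈ H)).card = Nat.card H := by
    rw [Nat.card_eq_fintype_card, Fintype.card_subtype]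
  rwa [hcardH] at hlt

/-- Let H be a subgroup of the finite group G and consider the permutation character of G on the cosets of H (the function induced from the principal character of H). Then exactly one irreducible constituent of it is real-valued with Frobenius–Schur indicator +1 (namely the principal character) if and only if the normal core of H has odd index in G. -/
theorem result {G : Type*} [Group G] [Fintype G] (H : Subgroup G) : Nat.card {χ : Cfsg.IrrCharacter G // Cfsg.classInner (Cfsg.indFun H (fun _ : H => (1 : ℂ))) (χ : G → ℂ) ≠ 0 ∧ (∀ g : G, (starRingEnd ℂ) ((χ : G → ℂ) g) = (χ : G → ℂ) g) ∧ (Nat.card G : ℂ)⁻¹ * ∑ g : G, (χ : G → ℂ) (g * g) = 1} = 1 ↔ Odd H.normalCore.index := by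
  classical
  have := Fintype.ofFinite H
  have := Fintype.ofFinite (Cfsg.IrrCharacter G)
  have hN : H.normalCore.Normal := Subgroup.normalCore_normal H
  have hH : (Nat.card H : ℂ) ≠ 0 := by exact_mod_cast Nat.card_pos.ne'
  -- the principal character
  have hone_inner : Cfsg.classInner (Cfsg.indFun H (fun _ : H => (1 : ℂ)))
      ((oneIrr G : Cfsg.IrrCharacter G) : G → ℂ) = 1 := by
    obtain ⟨m, hm, hsum⟩ := classInner_perm H (oneIrr G)
    have h1 : ∑ h : H, ((oneIrr G : Cfsg.IrrCharacter G) : G → ℂ) (h : G) = (Nat.card H : ℂ) := by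
      show ∑ h : H, (1 : ℂ) = _
      simp [Nat.card_eq_fintype_card]
    rw [h1] at hsum
    have h2 : (m : ℂ) = 1 := by
      have h3 : (Nat.card H : ℂ) * 1 = (Nat.card H : ℂ) * m := by rw [mul_one]; exact hsum
      exact (mul_left_cancel₀ hH h3).symm
    rw [hm, h2]
  have hone_fs : fsIndFun ((oneIrr G : Cfsg.IrrCharacter G) : G → ℂ) = 1 := fsIndFun_one
  have hone : Cfsg.classInner (Cfsg.indFun H (fun _ : H => (1 : ℂ)))
        ((oneIrr G : Cfsg.IrrCharacter G) : G → ℂ) ≠ 0 ∧
      (∀ g : G, (starRingEnd ℂ) (((oneIrr G : Cfsg.IrrCharacter G) : G → ℂ) g)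
        = ((oneIrr G : Cfsg.IrrCharacter G) : G → ℂ) g) ∧
      (Nat.card G : ℂ)⁻¹ * ∑ g : G, ((oneIrr G : Cfsg.IrrCharacter G) : G → ℂ) (g * g) = 1 := by
    refine ⟨by rw [hone_inner]; exact one_ne_zero, fun g => map_one _, hone_fs⟩
  constructor
  · intro hcard
    by_contra hodd
    have heven : Even H.normalCore.index := Nat.not_odd_iff_even.mp hodd
    obtain ⟨hsub, _⟩ := Nat.card_eq_one_iff_unique.mp hcard
    have huniq : ∀ χ : Cfsg.IrrCharacter G,
        (Cfsg.classInner (Cfsg.indFun H (fun _ : H => (1 : ℂ))) (χ : G → ℂ) ≠ 0 ∧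
          (∀ g : G, (starRingEnd ℂ) ((χ : G → ℂ) g) = (χ : G → ℂ) g) ∧
          (Nat.card G : ℂ)⁻¹ * ∑ g : G, (χ : G → ℂ) (g * g) = 1) → χ = oneIrr G :=
      fun χ h => congrArg Subtype.val (hsub.elim ⟨χ, h⟩ ⟨oneIrr G, hone⟩)
    have hexp := classFunction_expansion _
      (Cfsg.Agent.Lib.Helper75.isClassFunction_indFun H (fun _ : H => (1 : ℂ)))
    have hfs : fsIndFun (Cfsg.indFun H (fun _ : H => (1 : ℂ)))
        = ∑ χ : Cfsg.IrrCharacter G,
          Cfsg.classInner (Cfsg.indFun H (fun _ : H => (1 : ℂ))) (χ : G → ℂ) * fsIndFun (χ : G → ℂ) := by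
      conv_lhs => rw [hexp]
      exact fsIndFun_sum _ _
    rw [fsIndFun_perm H] at hfs
    have hterm : ∀ χ : Cfsg.IrrCharacter G, χ ≠ oneIrr G →
        (Cfsg.classInner (Cfsg.indFun H (fun _ : H => (1 : ℂ))) (χ : G → ℂ)
          * fsIndFun (χ : G → ℂ)).re ≤ 0 := by
      intro χ hχ
      obtain ⟨m, hm, _⟩ := classInner_perm H χ
      rcases fsIndFun_trichotomy χ with h0 | h1 | hneg
      · rw [h0]; simp
      · by_cases hm0 : m = 0
        · rw [hm, hm0]; simp
        · exfalso
          apply hχ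
          apply huniq
          refine ⟨by rw [hm]; exact_mod_cast hm0, fun g => ?_, h1⟩
          have him := im_eq_zero_of_fsIndFun_ne_zero χ (by rw [h1]; exact one_ne_zero) g
          exact Complex.conj_eq_iff_im.mpr him
      · rw [hm, hneg]; simp
    have hsumre : (∑ χ : Cfsg.IrrCharacter G,
        Cfsg.classInner (Cfsg.indFun H (fun _ : H => (1 : ℂ))) (χ : G → ℂ)
          * fsIndFun (χ : G → ℂ)).re ≤ 1 := by
      rw [Complex.re_sum, ← Finset.add_sum_erase _ _ (Finset.mem_univ (oneIrr G))]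
      have h1 : (Cfsg.classInner (Cfsg.indFun H (fun _ : H => (1 : ℂ)))
          ((oneIrr G : Cfsg.IrrCharacter G) : G → ℂ)
          * fsIndFun ((oneIrr G : Cfsg.IrrCharacter G) : G → ℂ)).re = 1 := by
        rw [hone_inner, hone_fs]; simp
      have h2 : ∑ χ ∈ (Finset.univ : Finset (Cfsg.IrrCharacter G)).erase (oneIrr G),
          (Cfsg.classInner (Cfsg.indFun H (fun _ : H => (1 : ℂ))) (χ : G → ℂ)
            * fsIndFun (χ : G → ℂ)).re ≤ 0 :=
        Finset.sum_nonpos (fun χ hχ => hterm χ (Finset.mem_erase.mp hχ).1)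
      linarith
    have hlt := card_lt_card_sq_mem H heven
    rw [← hfs] at hsumre
    have hgt : (1 : ℝ) < ((Nat.card H : ℂ)⁻¹
        * ((Finset.univ.filter (fun s : G => s * s ∈ H)).card : ℂ)).re := by
      have e : (Nat.card H : ℂ)⁻¹ * ((Finset.univ.filter (fun s : G => s * s ∈ H)).card : ℂ)
          = ((((Finset.univ.filter (fun s : G => s * s ∈ H)).card : ℝ) / (Nat.card H : ℝ) : ℝ) : ℂ) := by
        push_cast
        rw [div_eq_inv_mul]
      rw [e, Complex.ofReal_re, lt_div_iff₀ (by exact_mod_cast Nat.card_pos), one_mul]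
      exact_mod_cast hlt
    linarith
  · intro hodd
    rw [Nat.card_eq_one_iff_unique]
    have key : ∀ χ : Cfsg.IrrCharacter G,
        (Cfsg.classInner (Cfsg.indFun H (fun _ : H => (1 : ℂ))) (χ : G → ℂ) ≠ 0 ∧
          (∀ g : G, (starRingEnd ℂ) ((χ : G → ℂ) g) = (χ : G → ℂ) g) ∧
          (Nat.card G : ℂ)⁻¹ * ∑ g : G, (χ : G → ℂ) (g * g) = 1) → χ = oneIrr G := by
      rintro χ ⟨h1, _, h3⟩
      by_contra hne
      have hker := fun n hn => apply_core_of_constituent H χ h1 n hn
      have h0 := fsIndFun_eq_zero_of_odd H.normalCore hodd χ hne hker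
      unfold fsIndFun at h0
      rw [h0] at h3
      exact zero_ne_one h3
    refine ⟨⟨fun a b => ?_⟩, ⟨⟨oneIrr G, hone⟩⟩⟩
    apply Subtype.ext
    rw [key a.1 a.2, key b.1 b.2]

end Cfsg.Agent.S4784
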