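import Cfsg.Statements.S4796
import Cfsg.Agent.Lib.Helper80.InducedSylow
import Cfsg.Agent.Lib.Helper80.FrobPrime
import Cfsg.Agent.Lib.Helper75.Clifford2

set_option autoImplicit false
open Cfsg
open Cfsg.Agent.Lib Cfsg.Agent.Lib.Helper80
open scoped ComplexConjugate

namespace Cfsg.Agent.S4796

universe u

/-- The inertia subgroup of a function on a normal subgroup. -/
def inertia {G : Type u} [Group G] (N : Subgroup G) [N.Normal] (θ : N → ℂ) : Subgroup G where
  carrier := {g | Helper75.conjFun N g θ = θ}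
  one_mem' := Helper75.conjFun_one N θ
  mul_mem' := by
    intro a b ha hb
    rw [Set.mem_ofPred_eq] at ha hb ⊢
    rw [Helper75.conjFun_mul, ha, hb]
  inv_mem' := by
    intro a ha
    rw [Set.mem_ofPred_eq] at ha ⊢
    have := Helper75.conjFun_inv_conjFun N a θ
    rwa [ha] at this

theorem mem_inertia {G : Type u} [Group G] (N : Subgroup G) [N.Normal] (θ : N → ℂ) (g : G) :
    g ∈ inertia N θ ↔ Helper75.conjFun N g θ = θ := Iff.rfl

/-- degree bound: `d < p`. -/
theorem degree_lt {G : Type u} [Group G] [Finite G] (χ : IrrCharacter G) (p : ℕ) (hp : p.Prime)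
    (hcod : Nat.card G = p * charDegree (χ : G → ℂ)) : charDegree (χ : G → ℂ) < p := by
  classical
  let _ : Fintype G := Fintype.ofFinite G
  set d := charDegree (χ : G → ℂ) with hd
  have hdpos : 0 < d := Helper79.irr_charDegree_pos χ
  by_cases hd1 : d = 1
  · rw [hd1]; exact hp.one_lt
  · have hsum := Helper78.sum_irr_charDegree_sq (G := G)
    set t : IrrCharacter G := ⟨fun _ => (1 : ℂ), isIrrCharacter_one⟩ with ht
    have htdeg : charDegree (t : G → ℂ) = 1 := by
      apply charDegree_natCast (n := 1)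
      simp [ht]
    have htne : t ≠ χ := by
      intro h
      apply hd1
      rw [hd, ← h, htdeg]
    rw [← Finset.add_sum_erase _ _ (Finset.mem_univ χ)] at hsum
    replace hsum : d ^ 2 + ∑ ψ ∈ Finset.univ.erase χ, charDegree (ψ : G → ℂ) ^ 2 = Nat.card G :=
      hsum
    have hle := Finset.single_le_sum
      (f := fun ψ : IrrCharacter G => charDegree (ψ : G → ℂ) ^ 2)
      (fun ψ _ => Nat.zero_le _) (Finset.mem_erase.2 ⟨htne, Finset.mem_univ t⟩)
    simp only [htdeg] at hle
    have h2 : d ^ 2 + 1 ≤ p * d := by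
      rw [← hcod, ← hsum]
      have : (1 : ℕ) ^ 2 = 1 := one_pow 2
      omega
    by_contra hcon
    push Not at hcon
    have : p * d ≤ d * d := Nat.mul_le_mul_right d hcon
    nlinarith

theorem selfcentralizing {G : Type u} [Group G] [Finite G] (χ : IrrCharacter G) (p : ℕ)
    (hp : p.Prime) (hcod : Nat.card G = p * charDegree (χ : G → ℂ)) :
    ∃ P : Subgroup G, P.Normal ∧ Nat.card P = p ∧
      ∀ c : G, (∀ y ∈ P, c * y = y * c) → c ∈ P := by
  classical
  let _ : Fintype G := Fintype.ofFinite G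
  have : Fact p.Prime := ⟨hp⟩
  set d := charDegree (χ : G → ℂ) with hd
  have hdpos : 0 < d := Helper79.irr_charDegree_pos χ
  have hdp : d < p := degree_lt χ p hp hcod
  have hpd : ¬ p ∣ d := fun h => absurd (Nat.le_of_dvd hdpos h) (by omega)
  obtain ⟨P⟩ : Nonempty (Sylow p G) := inferInstance
  -- |P| = p
  have hPcard : Nat.card P = p := by
    obtain ⟨n, hn⟩ : ∃ n, Nat.card P = p ^ n := ⟨_, P.card_eq_multiplicity⟩
    have hidx := (P : Subgroup G).card_mul_index
    have hnd : ¬ p ∣ (P : Subgroup G).index := P.not_dvd_index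
    rw [hn, hcod] at hidx
    rcases Nat.lt_or_ge n 1 with h0 | h1
    · have hn0 : n = 0 := by omega
      rw [hn0, pow_zero, one_mul] at hidx
      exact absurd (hidx ▸ dvd_mul_right p d) hnd
    · rcases Nat.lt_or_ge 1 n with h2 | h2
      · exfalso
        have h3 : p ^ 2 ∣ p * d := by
          rw [← hidx]
          exact Dvd.dvd.mul_right (pow_dvd_pow p h2) _
        rw [pow_two] at h3
        exact hpd (Nat.dvd_of_mul_dvd_mul_left hp.pos h3)
      · have hn1 : n = 1 := by omega
        rw [hn, hn1, pow_one]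
  have hidx : (P : Subgroup G).index = d := by
    have h1 := (P : Subgroup G).card_mul_index
    rw [hPcard, hcod] at h1
    exact Nat.eq_of_mul_eq_mul_left hp.pos h1
  -- P is normal
  have hsub : Subsingleton (Sylow p G) := by
    have h1 : Nat.card (Sylow p G) ≡ 1 [MOD p] := card_sylow_modEq_one p G
    have h2 : Nat.card (Sylow p G) ∣ d := hidx ▸ P.card_dvd_index
    have h3 : Nat.card (Sylow p G) ≤ d := Nat.le_of_dvd hdpos h2
    have h4 : Nat.card (Sylow p G) < p := by omega
    have h5 : Nat.card (Sylow p G) = 1 := by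
      have := Nat.mod_eq_of_lt h4
      have h6 : Nat.card (Sylow p G) % p = 1 % p := h1
      rw [this, Nat.mod_eq_of_lt hp.one_lt] at h6
      exact h6
    exact (Nat.card_eq_one_iff_unique.1 h5).1
  have hPn : (P : Subgroup G).Normal := P.normal_of_subsingleton
  refine ⟨(P : Subgroup G), hPn, hPcard, ?_⟩
  -- induced
  obtain ⟨θ, hθ⟩ := exists_irr_induced_of_card p χ 1 (by rw [pow_one]; exact hcod) P
  let _ : Fintype ↥(P : Subgroup G) := Fintype.ofFinite _
  let _ : Fintype (inertia (P : Subgroup G) (θ : ↥(P : Subgroup G) → ℂ)) := Fintype.ofFinite _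
  have hnorm := Helper75.classInner_indFun_self (P : Subgroup G)
    (inertia (P : Subgroup G) (θ : ↥(P : Subgroup G) → ℂ)) θ.2
    (fun g => mem_inertia (P : Subgroup G) _ g)
  rw [← hθ, Helper78.classInner_irr_self χ.2] at hnorm
  have hNT : (P : Subgroup G) ≤ inertia (P : Subgroup G) (θ : ↥(P : Subgroup G) → ℂ) := by
    intro n hn
    rw [mem_inertia]
    exact Helper75.conjFun_of_mem (P : Subgroup G) (Helper78.isClassFunction_irr θ) ⟨n, hn⟩
  have hcardT : Nat.card (inertia (P : Subgroup G) (θ : ↥(P : Subgroup G) → ℂ)) =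
      Nat.card (P : Subgroup G) := by
    have hN0 : (Nat.card (P : Subgroup G) : ℂ) ≠ 0 := by
      have : Nat.card (P : Subgroup G) ≠ 0 := Nat.card_pos.ne'
      exact_mod_cast this
    have h1 : (Nat.card (P : Subgroup G) : ℂ) =
        (Nat.card (inertia (P : Subgroup G) (θ : ↥(P : Subgroup G) → ℂ)) : ℂ) := by
      field_simp at hnorm
      exact hnorm
    exact_mod_cast h1.symm
  have hTN : inertia (P : Subgroup G) (θ : ↥(P : Subgroup G) → ℂ) = (P : Subgroup G) :=
    (Subgroup.eq_of_le_of_card_ge hNT hcardT.le).symm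
  intro c hc
  have hcT : c ∈ inertia (P : Subgroup G) (θ : ↥(P : Subgroup G) → ℂ) := by
    rw [mem_inertia]
    funext n
    rw [Helper75.conjFun_apply]
    have hn : (⟨c * (n : G) * c⁻¹, hPn.conj_mem n n.2 c⟩ : ↥(P : Subgroup G)) = n := by
      apply Subtype.ext
      show c * (n : G) * c⁻¹ = n
      rw [hc n n.2]; group
    rw [hn]
  rw [hTN] at hcT
  exact hcT

theorem result {G : Type*} [Group G] [Finite G] (χ : Cfsg.IrrCharacter G) (_hfaith : ∀ g : G, (χ : G → ℂ) g = (χ : G → ℂ) 1 → g = 1) (p : ℕ) (hp : p.Prime) (hcod : Nat.card G = p * Cfsg.charDegree (χ : G → ℂ)) : (IsCyclic G ∧ Nat.card G = p) ∨ ∃ H : Subgroup G, Cfsg.IsFrobeniusComplement H ∧ Nat.card ↥(Cfsg.frobeniusKernel H) = p := by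
  have hdpos : 0 < charDegree (χ : G → ℂ) := Helper79.irr_charDegree_pos χ
  have hdp := degree_lt χ p hp hcod
  by_cases hd1 : charDegree (χ : G → ℂ) = 1
  · left
    rw [hd1, mul_one] at hcod
    have : Fact p.Prime := ⟨hp⟩
    exact ⟨isCyclic_of_prime_card hcod, hcod⟩
  · right
    obtain ⟨P, hPn, hPcard, hC⟩ := selfcentralizing χ p hp hcod
    exact frobenius_of_selfcentralizing hp (by omega) hdp hcod P hPcard hC

end Cfsg.Agent.S4796
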