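import Cfsg.Statements.S4797
import Cfsg.Agent.Lib.Helper80.Codegree

set_option autoImplicit false
open Cfsg

namespace Cfsg.Agent.S4797

open Cfsg.Agent.Lib Cfsg.Agent.Lib.Helper80


/-- A nontrivial group in which all elements commute is not perfect. -/
theorem commutator_ne_top_of_comm {Q : Type*} [Group Q] [Nontrivial Q]
    (h : ∀ a b : Q, a * b = b * a) : commutator Q ≠ ⊤ := by
  intro htop
  have hbot : commutator Q = ⊥ := by
    rw [commutator_def, Subgroup.commutator_eq_bot_iff_le_centralizer]
    intro x _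
    rw [Subgroup.mem_centralizer_iff]
    intro y _
    exact h y x
  rw [hbot] at htop
  exact bot_ne_top htop

/-- If `N` is a normal subgroup with commutative quotient of prime order, `G` is not perfect. -/
theorem commutator_ne_top_of_normal_index_prime {Q : Type*} [Group Q] (N : Subgroup Q) [N.Normal]
    {p : ℕ} (hp : p.Prime) (hN : N.index = p) : commutator Q ≠ ⊤ := by
  intro htop
  haveI : Fact p.Prime := ⟨hp⟩
  have hcard : Nat.card (Q ⧸ N) = p := by rw [← Subgroup.index_eq_card]; exact hN
  haveI : IsCyclic (Q ⧸ N) := isCyclic_of_prime_card hcard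
  letI : CommGroup (Q ⧸ N) := IsCyclic.commGroup
  have hle : commutator Q ≤ (QuotientGroup.mk' N).ker := Abelianization.commutator_subset_ker _
  rw [htop, QuotientGroup.ker_mk'] at hle
  have : N = ⊤ := top_le_iff.mp hle
  rw [this, Subgroup.index_top] at hN
  exact hp.one_lt.ne' hN.symm

theorem commutator_ne_top_of_card {Q : Type*} [Group Q] [Finite Q] {p d : ℕ} (hp : p.Prime)
    (hd1 : 1 ≤ d) (hdp : d ≤ p) (hcard : Nat.card Q = p * d) : commutator Q ≠ ⊤ := by
  haveI : Fact p.Prime := ⟨hp⟩
  have hnt : Nontrivial Q := by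
    rw [← Finite.one_lt_card_iff_nontrivial, hcard]
    calc 1 < p := hp.one_lt
      _ ≤ p * d := Nat.le_mul_of_pos_right p hd1
  rcases Nat.eq_or_lt_of_le hd1 with h1 | h1
  · -- d = 1
    subst h1
    rw [mul_one] at hcard
    haveI : IsCyclic Q := isCyclic_of_prime_card hcard
    exact commutator_ne_top_of_comm (fun a b => IsCyclic.commGroup.mul_comm a b)
  rcases Nat.eq_or_lt_of_le hdp with h2 | h2
  · -- d = p
    subst h2
    have hcard' : Nat.card Q = d ^ 2 := by rw [hcard, sq]
    have := IsPGroup.isMulCommutative_of_card_eq_prime_sq hcard'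
    exact commutator_ne_top_of_comm (fun a b => this.is_comm.comm a b)
  -- 1 < d < p
  have hpd : ¬ p ∣ d := fun h => absurd (Nat.le_of_dvd (by omega) h) (by omega)
  obtain P : Sylow p Q := default
  have hPcard : Nat.card P = p := by
    rw [Sylow.card_eq_multiplicity, hcard, Nat.factorization_mul hp.ne_zero (by omega)]
    simp [hp.factorization_self, Nat.factorization_eq_zero_of_not_dvd hpd]
  have hPindex : (P : Subgroup Q).index = d := by
    have := (P : Subgroup Q).card_mul_index
    rw [hPcard, hcard] at this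
    exact Nat.eq_of_mul_eq_mul_left hp.pos this
  -- the Sylow p-subgroup is normal
  have hnp : Nat.card (Sylow p Q) = 1 := by
    have h1 : Nat.card (Sylow p Q) ∣ d := hPindex ▸ Sylow.card_dvd_index P
    have h2 : Nat.card (Sylow p Q) ≡ 1 [MOD p] := card_sylow_modEq_one p Q
    have h3 : Nat.card (Sylow p Q) ≤ d := Nat.le_of_dvd (by omega) h1
    have h4 : Nat.card (Sylow p Q) < p := by omega
    have h5 := Nat.ModEq.eq_of_lt_of_lt h2 h4 hp.one_lt
    exact h5
  have hnormal : (P : Subgroup Q).Normal := by
    have hsub : Subsingleton (Sylow p Q) := (Nat.card_eq_one_iff_unique.mp hnp).1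
    exact Sylow.normal_of_subsingleton P
  intro htop
  -- `P` is central
  haveI : IsCyclic P := isCyclic_of_prime_card hPcard
  let ψ : Q →* (ZMod (Nat.card P))ˣ :=
    (IsCyclic.mulAutMulEquiv P).toMonoidHom.comp (MulAut.conjNormal (H := (P : Subgroup Q)))
  have hle : commutator Q ≤ ψ.ker := Abelianization.commutator_subset_ker _
  rw [htop] at hle
  have hcent : ∀ g : Q, ∀ x ∈ (P : Subgroup Q), g * x * g⁻¹ = x := by
    intro g x hx
    have hg : ψ g = 1 := MonoidHom.mem_ker.mp (hle (Subgroup.mem_top g))
    have hg' : MulAut.conjNormal (H := (P : Subgroup Q)) g = 1 := by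
      apply (IsCyclic.mulAutMulEquiv P).injective
      rw [map_one]
      exact hg
    have := congrArg (fun f : MulAut P => ((f ⟨x, hx⟩ : P) : Q)) hg'
    simpa [MulAut.conjNormal_apply] using this
  have hP : Subgroup.normalizer ((P : Subgroup Q) : Set Q) ≤ Subgroup.centralizer (P : Set Q) := by
    intro g _
    rw [Subgroup.mem_centralizer_iff]
    intro x hx
    have := hcent g x hx
    rw [mul_inv_eq_iff_eq_mul] at this
    exact this.symm
  have hcompl := MonoidHom.ker_transferSylow_isComplement' P hP
  have hidx : (MonoidHom.transferSylow P hP).ker.index = p := by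
    have := hcompl.symm.index_eq_card
    rw [this, hPcard]
  exact commutator_ne_top_of_normal_index_prime _ hp hidx htop



theorem card_hom_units {G : Type*} [Group G] [Finite G] :
    Nat.card (G →* ℂˣ) = (commutator G).index := by
  rw [Nat.card_congr (Abelianization.lift (G := G) (A := ℂˣ))]
  have hne : NeZero ((Monoid.exponent (Abelianization G) : ℕ) : ℂ) :=
    ⟨by exact_mod_cast Monoid.exponent_ne_zero_of_finite⟩
  rw [CommGroup.card_monoidHom_of_hasEnoughRootsOfUnity (Abelianization G) ℂ]
  rw [Subgroup.index_eq_card]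
  rfl

theorem exists_hom_ker_index_prime {G : Type*} [Group G] [Finite G] (h : commutator G ≠ ⊤) :
    ∃ (ψ : G →* ℂˣ) (p : ℕ), p.Prime ∧ ψ.ker.index = p := by
  have hm : (commutator G).index ≠ 1 := fun h1 => h (Subgroup.index_eq_one.mp h1)
  set p := (commutator G).index.minFac with hp
  have hpp : p.Prime := Nat.minFac_prime hm
  haveI : Fact p.Prime := ⟨hpp⟩
  have hdvd : p ∣ Nat.card (G →* ℂˣ) := by
    rw [card_hom_units]; exact Nat.minFac_dvd _
  have hfin : Finite (G →* ℂˣ) := by
    apply Nat.finite_of_card_ne_zero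
    rw [card_hom_units]
    exact Subgroup.index_ne_zero_of_finite
  obtain ⟨ψ, hψ⟩ := exists_prime_orderOf_dvd_card' p hdvd
  refine ⟨ψ, p, hpp, ?_⟩
  rw [Subgroup.index_ker]
  have hle : ψ.range ≤ rootsOfUnity p ℂ := by
    rintro _ ⟨g, rfl⟩
    rw [mem_rootsOfUnity]
    have : ψ ^ p = 1 := by rw [← hψ]; exact pow_orderOf_eq_one ψ
    have := congrArg (fun f : G →* ℂˣ => f g) this
    simpa using this
  have hcard : Nat.card (rootsOfUnity p ℂ) = p := Complex.card_rootsOfUnity p
  have h1 : Nat.card ψ.range ∣ p := hcard ▸ Subgroup.card_dvd_of_le hle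
  rcases (Nat.dvd_prime hpp).mp h1 with h2 | h2
  · exfalso
    have hbot : ψ.range = ⊥ := Subgroup.card_eq_one.mp h2
    have : ψ = 1 := by
      ext g
      have : ψ g ∈ ψ.range := ⟨g, rfl⟩
      rw [hbot, Subgroup.mem_bot] at this
      simp [this]
    rw [this, orderOf_one] at hψ
    exact hpp.one_lt.ne' hψ.symm
  · exact h2




/-- `|ker χ| * χ(1)² ≤ |G|` for an irreducible character. -/
theorem card_ker_mul_sq_le {G : Type*} [Group G] [Finite G] (χ : IrrCharacter G) :
    Nat.card (charKer (χ : G → ℂ) (isCharacter_of_isIrr χ.2)) * charDegree (χ : G → ℂ) ^ 2 ≤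
      Nat.card G := by
  classical
  let _ : Fintype G := Fintype.ofFinite G
  set K := charKer (χ : G → ℂ) (isCharacter_of_isIrr χ.2) with hK
  set d := charDegree (χ : G → ℂ) with hd
  have h1 := Helper78.classInner_irr_self χ.2
  unfold classInner at h1
  have hne : (Nat.card G : ℂ) ≠ 0 := by exact_mod_cast Nat.card_pos.ne'
  have h2 : ∑ g : G, (χ : G → ℂ) g * (starRingEnd ℂ) ((χ : G → ℂ) g) = (Nat.card G : ℂ) := by
    field_simp at h1
    exact h1
  have h3 : ∑ g : G, Complex.normSq ((χ : G → ℂ) g) = (Nat.card G : ℝ) := by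
    have : ((∑ g : G, Complex.normSq ((χ : G → ℂ) g) : ℝ) : ℂ) = ((Nat.card G : ℝ) : ℂ) := by
      push_cast
      rw [← h2]
      exact Finset.sum_congr rfl fun g _ => (Complex.mul_conj _).symm
    exact_mod_cast this
  have h4 : ∑ g ∈ Finset.univ.filter (fun g => g ∈ K), Complex.normSq ((χ : G → ℂ) g) ≤
      ∑ g : G, Complex.normSq ((χ : G → ℂ) g) :=
    Finset.sum_le_sum_of_subset_of_nonneg (Finset.filter_subset _ _)
      (fun g _ _ => Complex.normSq_nonneg _)
  have h5 : ∑ g ∈ Finset.univ.filter (fun g => g ∈ K), Complex.normSq ((χ : G → ℂ) g) =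
      (Nat.card K : ℝ) * (d : ℝ) ^ 2 := by
    have hconst : ∀ g ∈ Finset.univ.filter (fun g => g ∈ K),
        Complex.normSq ((χ : G → ℂ) g) = (d : ℝ) ^ 2 := by
      intro g hg
      have hgK : g ∈ K := (Finset.mem_filter.mp hg).2
      have : (χ : G → ℂ) g = (χ : G → ℂ) 1 := hgK
      rw [this, char_one_eq_charDegree (isCharacter_of_isIrr χ.2)]
      simp [Complex.normSq_natCast, sq, hd]
    rw [Finset.sum_congr rfl hconst, Finset.sum_const, nsmul_eq_mul]
    congr 1
    rw [Nat.card_eq_fintype_card, Fintype.card_subtype]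
  rw [h5, h3] at h4
  exact_mod_cast h4

/-- The codegree of an irreducible complex character χ of a finite group G is [G : ker χ] / χ(1), where ker χ is the set of elements at which χ takes the value χ(1). A non-trivial finite group is perfect if and only if no irreducible complex character of it has prime codegree. -/
theorem result {G : Type*} [Group G] [Finite G] [Nontrivial G] : commutator G = ⊤ ↔ ∀ χ : Cfsg.IrrCharacter G, ¬ ((Nat.card G / (Nat.card {g : G // (χ : G → ℂ) g = (χ : G → ℂ) 1} * Cfsg.charDegree (χ : G → ℂ)))).Prime := by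
  classical
  constructor
  · -- perfect ⇒ no prime codegree
    intro hperf χ hprime
    have hchar := isCharacter_of_isIrr χ.2
    set K := charKer (χ : G → ℂ) hchar with hK
    set d := charDegree (χ : G → ℂ) with hd
    have hcd : codeg (χ : G → ℂ) * d = K.index := codeg_mul_charDegree χ
    have hd1 : 1 ≤ d := charDegree_pos_of_isIrr χ.2
    have hle := card_ker_mul_sq_le χ
    rw [← hK, ← hd, ← Subgroup.card_mul_index K, ← hcd] at hle
    have hKpos : 0 < Nat.card K := Nat.card_pos
    have hdp : d ≤ codeg (χ : G → ℂ) := by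
      have h1 : d ^ 2 ≤ codeg (χ : G → ℂ) * d := Nat.le_of_mul_le_mul_left hle hKpos
      rw [sq] at h1
      exact Nat.le_of_mul_le_mul_right h1 hd1
    have hcardQ : Nat.card (G ⧸ K) = codeg (χ : G → ℂ) * d := by
      rw [← Subgroup.index_eq_card, hcd]
    have hQ : commutator (G ⧸ K) = ⊤ := by
      rw [commutator_def, ← Subgroup.map_top_of_surjective (QuotientGroup.mk' K)
        (QuotientGroup.mk'_surjective K), ← Subgroup.map_commutator, ← commutator_def, hperf]
    exact commutator_ne_top_of_card hprime hd1 hdp hcardQ hQ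
  · -- no prime codegree ⇒ perfect
    intro hno
    by_contra hne
    obtain ⟨ψ, p, hp, hidx⟩ := exists_hom_ker_index_prime hne
    let χ : IrrCharacter G := ⟨fun g => ((ψ g : ℂˣ) : ℂ), isIrrCharacter_of_hom ψ⟩
    apply hno χ
    have hdeg : charDegree (χ : G → ℂ) = 1 := by
      apply charDegree_natCast
      simp [χ]
    have hker : Nat.card {g : G // (χ : G → ℂ) g = (χ : G → ℂ) 1} = Nat.card ψ.ker := by
      apply Nat.card_congr
      apply Equiv.subtypeEquivRight
      intro g
      simp [χ, MonoidHom.mem_ker]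
    rw [hdeg, hker, mul_one]
    have := ψ.ker.card_mul_index
    rw [hidx] at this
    rw [← this, Nat.mul_div_cancel_left _ Nat.card_pos]
    exact hp

end Cfsg.Agent.S4797
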