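import Cfsg.Statements.S4798
import Cfsg.Agent.Lib.Helper80.CharBasic
import Cfsg.Agent.Lib.Helper80.CharOrth
import Cfsg.Agent.Lib.Helper78.CharMore
import Cfsg.Agent.Lib.Helper79.Integrality
import Cfsg.Agent.Lib.Helper75.Clifford

set_option autoImplicit false
open Cfsg
open Cfsg.Agent.Lib Cfsg.Agent.Lib.Helper80
open scoped ComplexConjugate

namespace Cfsg.Agent.S4798

/-- The multiplicity of an irreducible character of `G` in a function induced from an
irreducible character of a subgroup is a natural number, equal to the multiplicity of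
the latter in the restriction. -/
theorem classInner_indFun_irr {G : Type*} [Group G] [Fintype G] (H : Subgroup G) [Fintype H]
    (φ : IrrCharacter H) (ψ : IrrCharacter G) {n : ℕ}
    (hn : classInner (fun h : H => (ψ : G → ℂ) h) (φ : H → ℂ) = n) :
    classInner (indFun H (φ : H → ℂ)) (ψ : G → ℂ) = n := by
  rw [Helper75.frobenius_reciprocity H (φ : H → ℂ) (Helper78.isClassFunction_irr ψ),
    ← Helper78.classInner_conj_symm, hn]
  simp

theorem induced_of_card {G : Type*} [Group G] [Fintype G] (p : ℕ) [Fact p.Prime]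
    (χ : IrrCharacter G) (k : ℕ)
    (hk : Nat.card G = p ^ k * charDegree (χ : G → ℂ)) :
    ∃ (P : Sylow p G) (θ : ↥(P : Subgroup G) → ℂ),
      IsCharacter ↥(P : Subgroup G) θ ∧ (χ : G → ℂ) = indFun (P : Subgroup G) θ := by
  classical
  have hp : p.Prime := Fact.out
  obtain ⟨P⟩ : Nonempty (Sylow p G) := inferInstance
  refine ⟨P, ?_⟩
  set H : Subgroup G := (P : Subgroup G) with hH
  let _ : Fintype H := Fintype.ofFinite H
  set d := charDegree (χ : G → ℂ) with hd
  have hdpos : 0 < d := Helper79.irr_charDegree_pos χ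
  set m := H.index with hm
  have hcard : Nat.card H * m = Nat.card G := H.card_mul_index
  obtain ⟨n, hn⟩ : ∃ n, Nat.card H = p ^ n := ⟨_, P.card_eq_multiplicity⟩
  have hpm : ¬ p ∣ m := P.not_dvd_index
  have hmpos : 0 < m := Nat.pos_of_ne_zero (fun h => hpm (h ▸ dvd_zero p))
  -- m ∣ d
  have hmd : m ∣ d := by
    have h1 : m ∣ p ^ k * d := by rw [← hk, ← hcard]; exact dvd_mul_left _ _
    have hcop : Nat.Coprime m (p ^ k) :=
      Nat.Coprime.pow_right k ((Nat.Coprime.symm ((Nat.Prime.coprime_iff_not_dvd hp).2 hpm)))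
    exact hcop.dvd_of_dvd_mul_left h1
  -- restriction
  set χH : H → ℂ := fun h : H => (χ : G → ℂ) h with hχH
  have hχHchar : IsCharacter H χH :=
    Helper75.isCharacter_res H (isCharacter_of_isIrr χ.2)
  choose mult hmult using fun φ : IrrCharacter H => Helper78.IsCharacter.exists_nat_classInner hχHchar φ
  have hdecomp : χH = ∑ φ : IrrCharacter H, (mult φ : ℂ) • (φ : H → ℂ) := by
    conv_lhs => rw [Helper78.IsCharacter.eq_sum_irr hχHchar]
    exact Finset.sum_congr rfl (fun φ _ => by rw [hmult φ])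
  -- degrees
  have hdeg : ∀ φ : IrrCharacter H, ((φ : H → ℂ) 1 : ℂ) = (charDegree (φ : H → ℂ) : ℂ) :=
    fun φ => char_one_eq_charDegree (isCharacter_of_isIrr φ.2)
  have hχ1 : (χ : G → ℂ) 1 = (d : ℂ) := char_one_eq_charDegree (isCharacter_of_isIrr χ.2)
  have hsum : d = ∑ φ : IrrCharacter H, mult φ * charDegree (φ : H → ℂ) := by
    have h1 := congrFun hdecomp 1
    simp only [hχH, Finset.sum_apply, Pi.smul_apply, smul_eq_mul, hdeg] at h1
    have h2 : ((1 : H) : G) = 1 := rfl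
    rw [h2, hχ1] at h1
    exact_mod_cast h1
  -- degrees of irreducibles of H are p-powers
  have hppow : ∀ φ : IrrCharacter H, ∃ j, charDegree (φ : H → ℂ) = p ^ j := by
    intro φ
    have h1 : charDegree (φ : H → ℂ) ∣ p ^ n := hn ▸ Helper79.irr_charDegree_dvd_card φ
    obtain ⟨j, -, hj⟩ := (Nat.dvd_prime_pow hp).1 h1
    exact ⟨j, hj⟩
  -- constituent set nonempty
  have hne : (Finset.univ.filter (fun φ : IrrCharacter H => mult φ ≠ 0)).Nonempty := by
    by_contra hcon
    rw [Finset.not_nonempty_iff_eq_empty, Finset.filter_eq_empty_iff] at hcon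
    have : d = 0 := by
      rw [hsum]
      apply Finset.sum_eq_zero
      intro φ hφ
      have := hcon hφ
      push Not at this
      rw [this, zero_mul]
    omega
  obtain ⟨φ, hφmem, hφmin⟩ := Finset.exists_min_image _ (fun φ : IrrCharacter H => charDegree (φ : H → ℂ)) hne
  rw [Finset.mem_filter] at hφmem
  have hφ0 : mult φ ≠ 0 := hφmem.2
  obtain ⟨j, hj⟩ := hppow φ
  -- p^j ∣ d
  have hpjd : p ^ j ∣ d := by
    rw [hsum]
    apply Finset.dvd_sum
    intro φ' _
    by_cases h0 : mult φ' = 0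
    · rw [h0, zero_mul]; exact dvd_zero _
    · have hle := hφmin φ' (Finset.mem_filter.2 ⟨Finset.mem_univ _, h0⟩)
      obtain ⟨j', hj'⟩ := hppow φ'
      rw [hj, hj'] at hle
      rw [hj']
      have : j ≤ j' := (Nat.pow_le_pow_iff_right hp.one_lt).1 hle
      exact Dvd.dvd.mul_left (pow_dvd_pow p this) _
  have hcop : Nat.Coprime (p ^ j) m :=
    Nat.Coprime.pow_left j ((Nat.Prime.coprime_iff_not_dvd hp).2 hpm)
  have hdge : m * p ^ j ≤ d := by
    have : p ^ j * m ∣ d := hcop.mul_dvd_of_dvd_of_dvd hpjd hmd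
    have := Nat.le_of_dvd hdpos this
    linarith [mul_comm (p ^ j) m]
  -- induced character
  refine ⟨(φ : H → ℂ), isCharacter_of_isIrr φ.2, ?_⟩
  set I : G → ℂ := indFun H (φ : H → ℂ) with hI
  have hIcf : IsClassFunction G I := Helper75.isClassFunction_indFun H _
  -- multiplicities of the induced function
  have hb : ∀ ψ : IrrCharacter G, ∃ b : ℕ, classInner I (ψ : G → ℂ) = b := by
    intro ψ
    obtain ⟨b, hb⟩ := Helper78.IsCharacter.exists_nat_classInner
      (Helper75.isCharacter_res H (isCharacter_of_isIrr ψ.2)) φ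
    exact ⟨b, classInner_indFun_irr H φ ψ hb⟩
  choose b hb using hb
  have hbχ : b χ = mult φ := by
    have h1 := classInner_indFun_irr H φ χ (hmult φ)
    rw [← hI, hb χ] at h1
    exact_mod_cast h1
  have hIdecomp : I = ∑ ψ : IrrCharacter G, (b ψ : ℂ) • (ψ : G → ℂ) := by
    conv_lhs => rw [Helper78.classFunction_eq_sum_irr hIcf]
    exact Finset.sum_congr rfl (fun ψ _ => by rw [hb ψ])
  have hdegG : ∀ ψ : IrrCharacter G, ((ψ : G → ℂ) 1 : ℂ) = (charDegree (ψ : G → ℂ) : ℂ) :=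
    fun ψ => char_one_eq_charDegree (isCharacter_of_isIrr ψ.2)
  have hI1 : m * p ^ j = ∑ ψ : IrrCharacter G, b ψ * charDegree (ψ : G → ℂ) := by
    have h1 := congrFun hIdecomp 1
    rw [hI, Helper75.indFun_one, hdeg φ, hj] at h1
    simp only [Finset.sum_apply, Pi.smul_apply, smul_eq_mul, hdegG] at h1
    exact_mod_cast h1
  rw [← Finset.add_sum_erase _ _ (Finset.mem_univ χ)] at hI1
  have hbχpos : 1 ≤ b χ := by rw [hbχ]; omega
  set R := ∑ ψ ∈ Finset.univ.erase χ, b ψ * charDegree (ψ : G → ℂ) with hR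
  have hI1' : m * p ^ j = b χ * d + R := hI1
  have hge : d ≤ b χ * d := Nat.le_mul_of_pos_left d hbχpos
  have key : b χ = 1 ∧ R = 0 := by
    generalize m * p ^ j = T at hI1' hdge
    have hbχ1 : b χ = 1 := by
      by_contra hcon
      have h2 : 2 ≤ b χ := by omega
      have : 2 * d ≤ b χ * d := Nat.mul_le_mul_right d h2
      omega
    refine ⟨hbχ1, ?_⟩
    rw [hbχ1, one_mul] at hI1'
    omega
  obtain ⟨hbχ1, hrest⟩ := key
  have hb0 : ∀ ψ : IrrCharacter G, ψ ≠ χ → b ψ = 0 := by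
    intro ψ hψ
    have h1 := (Finset.sum_eq_zero_iff.1 hrest) ψ (Finset.mem_erase.2 ⟨hψ, Finset.mem_univ _⟩)
    have h2 : 0 < charDegree (ψ : G → ℂ) := Helper79.irr_charDegree_pos ψ
    rcases Nat.mul_eq_zero.1 h1 with h | h
    · exact h
    · omega
  rw [hIdecomp, Finset.sum_eq_single χ]
  · rw [hbχ1]; simp
  · intro ψ _ hψ
    rw [hb0 ψ hψ]; simp
  · intro h; exact absurd (Finset.mem_univ χ) h

theorem card_of_induced {G : Type*} [Group G] [Fintype G] (p : ℕ) [Fact p.Prime]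
    (χ : IrrCharacter G) (P : Sylow p G) (θ : ↥(P : Subgroup G) → ℂ)
    (hθ : IsCharacter ↥(P : Subgroup G) θ) (hχ : (χ : G → ℂ) = indFun (P : Subgroup G) θ) :
    ∃ k : ℕ, Nat.card G = p ^ k * charDegree (χ : G → ℂ) := by
  classical
  have hp : p.Prime := Fact.out
  set H : Subgroup G := (P : Subgroup G) with hH
  set m := H.index with hm
  have hcard : Nat.card H * m = Nat.card G := H.card_mul_index
  obtain ⟨n, hn⟩ : ∃ n, Nat.card H = p ^ n := ⟨_, P.card_eq_multiplicity⟩
  have hpm : ¬ p ∣ m := P.not_dvd_index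
  have hmpos : 0 < m := Nat.pos_of_ne_zero (fun h => hpm (h ▸ dvd_zero p))
  obtain ⟨t, ht⟩ := char_one_eq_natCast hθ
  have hχ1 : (χ : G → ℂ) 1 = ((m * t : ℕ) : ℂ) := by
    rw [hχ, Helper75.indFun_one, ht]; push_cast; ring
  have hdeg : charDegree (χ : G → ℂ) = m * t := charDegree_natCast hχ1
  have hdvd : m * t ∣ p ^ n * m := by
    rw [← hn, hcard, ← hdeg]; exact Helper79.irr_charDegree_dvd_card χ
  have htdvd : t ∣ p ^ n := by
    rw [mul_comm (p ^ n) m] at hdvd
    exact Nat.dvd_of_mul_dvd_mul_left hmpos hdvd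
  obtain ⟨j, hjn, hj⟩ := (Nat.dvd_prime_pow hp).1 htdvd
  refine ⟨n - j, ?_⟩
  rw [hdeg, ← hcard, hn, hj]
  have : p ^ n = p ^ (n - j) * p ^ j := by rw [← pow_add]; congr 1; omega
  rw [this]; ring

theorem result {G : Type*} [Group G] [Fintype G] (p : ℕ) [Fact p.Prime] (χ : Cfsg.IrrCharacter G) (hfaith : ∀ g : G, (χ : G → ℂ) g = (χ : G → ℂ) 1 → g = 1) : (∃ k : ℕ, Nat.card G = p ^ k * Cfsg.charDegree (χ : G → ℂ)) ↔ ∃ (P : Sylow p G) (θ : ↥(P : Subgroup G) → ℂ), Cfsg.IsCharacter ↥(P : Subgroup G) θ ∧ (χ : G → ℂ) = Cfsg.indFun (P : Subgroup G) θ := by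
  constructor
  · rintro ⟨k, hk⟩
    exact induced_of_card p χ k hk
  · rintro ⟨P, θ, hθ, hχ⟩
    exact card_of_induced p χ P θ hθ hχ

end Cfsg.Agent.S4798
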