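import Cfsg.Statements.S4808
import Cfsg.Agent.Lib.Helper80.Codegree

set_option autoImplicit false
open Cfsg
open Cfsg.Agent.Lib Cfsg.Agent.Lib.Helper80

namespace Cfsg.Agent.S4808

universe u

/-- Inflation preserves the codegree. -/
theorem codeg_inflate {G : Type u} [Group G] [Finite G] (N : Subgroup G) [N.Normal]
    (ψ : IrrCharacter (G ⧸ N)) :
    codeg ((Helper77.inflate N ψ : IrrCharacter G) : G → ℂ) = codeg (ψ : G ⧸ N → ℂ) := by
  set χ := Helper77.inflate N ψ with hχ
  have hdeg : charDegree (χ : G → ℂ) = charDegree (ψ : G ⧸ N → ℂ) := by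
    unfold charDegree
    rw [Helper77.inflate_apply, QuotientGroup.mk_one]
  have hker : charKer (χ : G → ℂ) (isCharacter_of_isIrr χ.2) =
      (charKer (ψ : G ⧸ N → ℂ) (isCharacter_of_isIrr ψ.2)).comap (QuotientGroup.mk' N) := by
    ext g
    rw [Subgroup.mem_comap, mem_charKer, mem_charKer, Helper77.inflate_apply,
      Helper77.inflate_apply, QuotientGroup.mk_one]
    rfl
  have hidx : (charKer (χ : G → ℂ) (isCharacter_of_isIrr χ.2)).index =
      (charKer (ψ : G ⧸ N → ℂ) (isCharacter_of_isIrr ψ.2)).index := by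
    rw [hker, Subgroup.index_comap_of_surjective _ (QuotientGroup.mk'_surjective N)]
  have h1 := codeg_mul_charDegree χ
  have h2 := codeg_mul_charDegree ψ
  rw [hidx, ← h2, hdeg] at h1
  exact Nat.eq_of_mul_eq_mul_right (Helper79.irr_charDegree_pos ψ) h1

open Classical in
/-- The squares of the degrees of the irreducible characters with `N` in the kernel sum to
the index of `N`. -/
theorem sum_sq_of_ker {G : Type u} [Group G] [Fintype G] (N : Subgroup G) [N.Normal] :
    ∑ χ ∈ Finset.univ.filter
      (fun χ : IrrCharacter G => ∀ n ∈ N, (χ : G → ℂ) n = (χ : G → ℂ) 1),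
      (charDegree (χ : G → ℂ)) ^ 2 = N.index := by
  let _ : Fintype (G ⧸ N) := Fintype.ofFinite _
  rw [← Finset.sum_subtype_eq_sum_filter, Finset.subtype_univ, Subgroup.index_eq_card,
    ← Helper78.sum_irr_charDegree_sq (G := G ⧸ N)]
  symm
  apply Fintype.sum_equiv (Helper77.irrQuotientEquiv N)
  intro ψ
  unfold charDegree
  show _ = ⌊(((Helper77.inflate N ψ : IrrCharacter G) : G → ℂ) 1).re⌋₊ ^ 2
  rw [Helper77.inflate_apply, QuotientGroup.mk_one]

theorem main (p : ℕ) (hp : p.Prime) : ∀ (n : ℕ) (G : Type u) [Group G] [Finite G],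
    Nat.card G = n → p ∣ Nat.card G → ∃ χ : IrrCharacter G, p ∣ codeg (χ : G → ℂ) := by
  intro n
  induction n using Nat.strong_induction_on with
  | _ n ih =>
    intro G _ _ hn hpG
    by_contra hall
    push Not at hall
    -- Step 1
    have step1 : ∀ K : Subgroup G, K.Normal → K ≠ ⊥ → ¬ p ∣ K.index := by
      intro K hK hK0 hpK
      have hlt : Nat.card (G ⧸ K) < n := by
        rw [← hn, ← Subgroup.index_eq_card, ← K.card_mul_index]
        have h1 : 1 < Nat.card K := K.one_lt_card_iff_ne_bot.2 hK0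
        have h2 : 0 < K.index := Nat.pos_of_ne_zero (Subgroup.index_ne_zero_of_finite)
        nlinarith
      obtain ⟨ψ, hψ⟩ := ih _ hlt (G ⧸ K) rfl (by rwa [← Subgroup.index_eq_card])
      exact hall (Helper77.inflate K ψ) (by rwa [codeg_inflate])
    -- Step 2: element of order p
    have : Fact p.Prime := ⟨hp⟩
    obtain ⟨x, hx⟩ := exists_prime_orderOf_dvd_card' p hpG
    set N := Subgroup.normalClosure ({x} : Set G) with hNdef
    have hN : N.Normal := Subgroup.normalClosure_normal
    have hxN : x ∈ N := Subgroup.subset_normalClosure (Set.mem_singleton x)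
    have hx1 : x ≠ 1 := by
      rintro rfl
      rw [orderOf_one] at hx
      exact hp.one_lt.ne hx
    have hN0 : N ≠ ⊥ := fun h => hx1 (by rwa [h, Subgroup.mem_bot] at hxN)
    have hpN : ¬ p ∣ N.index := step1 N hN hN0
    -- Step 3
    have step3 : ∀ χ : IrrCharacter G,
        (∀ n ∈ N, (χ : G → ℂ) n = (χ : G → ℂ) 1) ∨ p ∣ charDegree (χ : G → ℂ) := by
      intro χ
      set K := charKer (χ : G → ℂ) (isCharacter_of_isIrr χ.2) with hKdef
      by_cases hK : K = ⊥
      · right
        have h := codeg_mul χ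
        rw [card_ker_set_eq (isCharacter_of_isIrr χ.2), ← hKdef, hK, Subgroup.card_bot,
          one_mul] at h
        have : p ∣ codeg (χ : G → ℂ) * charDegree (χ : G → ℂ) := h ▸ hpG
        exact ((Nat.Prime.dvd_mul hp).1 this).resolve_left (hall χ)
      · left
        have hpK := step1 K inferInstance hK
        have hxK : x ∈ K := by
          have h1 : orderOf (x : G ⧸ K) ∣ p := by
            rw [← hx]; exact orderOf_map_dvd (QuotientGroup.mk' K) x
          have h2 : orderOf (x : G ⧸ K) ∣ K.index := by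
            rw [Subgroup.index_eq_card]; exact orderOf_dvd_natCard _
          rcases (Nat.dvd_prime hp).1 h1 with h | h
          · rw [orderOf_eq_one_iff] at h
            exact (QuotientGroup.eq_one_iff x).1 h
          · rw [h] at h2; exact absurd h2 hpK
        have hNK : N ≤ K := Subgroup.normalClosure_le_normal (Set.singleton_subset_iff.2 hxK)
        intro n hn; exact hNK hn
    -- Step 4
    classical
    let _ : Fintype G := Fintype.ofFinite G
    have hsum := Helper78.sum_irr_charDegree_sq (G := G)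
    rw [← Finset.sum_filter_add_sum_filter_not Finset.univ
      (fun χ : IrrCharacter G => ∀ n ∈ N, (χ : G → ℂ) n = (χ : G → ℂ) 1)] at hsum
    have h1 := sum_sq_of_ker N
    have h2 : p ∣ ∑ χ ∈ Finset.univ.filter
        (fun χ : IrrCharacter G => ¬ ∀ n ∈ N, (χ : G → ℂ) n = (χ : G → ℂ) 1),
        (charDegree (χ : G → ℂ)) ^ 2 := by
      apply Finset.dvd_sum
      intro χ hχ
      rw [Finset.mem_filter] at hχ
      have := (step3 χ).resolve_left hχ.2
      exact Dvd.dvd.pow this two_ne_zero
    have h3 : p ∣ N.index := by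
      have h4 : p ∣ N.index + ∑ χ ∈ Finset.univ.filter
        (fun χ : IrrCharacter G => ¬ ∀ n ∈ N, (χ : G → ℂ) n = (χ : G → ℂ) 1),
        (charDegree (χ : G → ℂ)) ^ 2 := by
        rw [← h1]
        convert hpG using 1
      exact (Nat.dvd_add_left h2).1 h4
    exact hpN h3

theorem result {G : Type*} [Group G] [Finite G] (p : ℕ) (hp : p.Prime) : p ∣ Nat.card G ↔ ∃ χ : Cfsg.IrrCharacter G, p ∣ (Nat.card G / (Nat.card {g : G // (χ : G → ℂ) g = (χ : G → ℂ) 1} * Cfsg.charDegree (χ : G → ℂ))) := by
  constructor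
  · intro h
    exact main p hp _ G rfl h
  · rintro ⟨χ, h⟩
    exact dvd_trans h (codeg_dvd_card χ)

end Cfsg.Agent.S4808
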