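import Cfsg.Statements.S4811
import Cfsg.Agent.Lib.Helper80.DG.PCase
import Cfsg.Agent.Lib.Helper80.DG.FrobC
import Cfsg.Agent.Lib.Helper73.DGDich
import Cfsg.Agent.Lib.Helper89.DGGraph

set_option autoImplicit false
open Cfsg

namespace Cfsg.Agent.S4811

open Cfsg.Agent.Lib

/-- the vertices of the degree graph of an abelian group: none -/
theorem degreePrimes_eq_empty_of_comm {G : Type*} [Group G] [Finite G]
    (hcomm : ∀ a b : G, a * b = b * a) : Cfsg.degreePrimes G = ∅ := by
  classical
  let _ : Fintype G := Fintype.ofFinite G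
  ext p
  simp only [Cfsg.degreePrimes, Set.mem_ofPred_eq, Set.mem_empty_iff_false, iff_false]
  rintro ⟨hp, d, ⟨χ, rfl⟩, hpd⟩
  rw [Helper80.charDegree_eq_one_of_comm hcomm χ] at hpd
  exact hp.one_lt.ne' (Nat.dvd_one.mp hpd)

/-- a maximal normal subgroup with nonabelian quotient -/
theorem exists_maximal_nonabelian_quotient {G : Type*} [Group G] [Finite G]
    (hnc : ∃ a b : G, a * b ≠ b * a) :
    ∃ K : Subgroup G, K.Normal ∧ ¬ commutator G ≤ K ∧
      ∀ L : Subgroup G, L.Normal → K < L → commutator G ≤ L := by
  have hbot : (fun K : Subgroup G => K.Normal ∧ ¬ commutator G ≤ K) ⊥ := by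
    refine ⟨inferInstance, ?_⟩
    intro h
    obtain ⟨a, b, hab⟩ := hnc
    apply hab
    have h1 : a * b * a⁻¹ * b⁻¹ ∈ commutator G := Helper73.DGDich.comm_mem a b
    have h2 := h h1
    rw [Subgroup.mem_bot] at h2
    calc a * b = (a * b * a⁻¹ * b⁻¹) * (b * a) := by group
      _ = b * a := by rw [h2, one_mul]
  obtain ⟨K, -, hK⟩ := Finite.exists_le_maximal
    (p := fun K : Subgroup G => K.Normal ∧ ¬ commutator G ≤ K) (a := ⊥) hbot
  refine ⟨K, hK.prop.1, hK.prop.2, ?_⟩
  intro L hL hKL
  by_contra hcon
  exact absurd (hK.le_of_ge ⟨hL, hcon⟩ hKL.le) (not_le_of_gt hKL)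

/-- For every finite solvable group G the character degree graph of G (vertices: the primes dividing some irreducible complex character degree; edges: distinct primes whose product divides some degree) has at most two connected components. -/
theorem result {G : Type*} [Group G] [Finite G] [Group.IsSolvable G] : Nat.card ((Cfsg.degreeGraph G).induce (Cfsg.degreePrimes G)).ConnectedComponent ≤ 2 := by
  classical
  let _ : Fintype G := Fintype.ofFinite G
  by_cases hcomm : ∀ a b : G, a * b = b * a
  · have hempty := degreePrimes_eq_empty_of_comm hcomm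
    have h1 : IsEmpty (Cfsg.degreePrimes G) := by
      rw [hempty]
      infer_instance
    have h2 : IsEmpty ((Cfsg.degreeGraph G).induce (Cfsg.degreePrimes G)).ConnectedComponent :=
      ⟨fun c => c.ind (fun v => h1.false v)⟩
    rw [Nat.card_of_isEmpty]
    omega
  · push Not at hcomm
    obtain ⟨K, hKn, hKnon, hKmax⟩ := exists_maximal_nonabelian_quotient hcomm
    -- the quotient
    have hnonab : ∃ a b : G ⧸ K, a * b ≠ b * a := by
      by_contra hall
      push Not at hall
      apply hKnon
      rw [commutator_def, Subgroup.commutator_le]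
      intro x _ y _
      rw [← QuotientGroup.eq_one_iff, commutatorElement_def]
      simp only [QuotientGroup.mk_mul, QuotientGroup.mk_inv]
      rw [hall (x : G ⧸ K) (y : G ⧸ K)]
      group
    have hmin : ∀ L : Subgroup (G ⧸ K), L.Normal → L ≠ ⊥ → commutator (G ⧸ K) ≤ L := by
      intro L hL hLne
      have hKL : K < L.comap (QuotientGroup.mk' K) := by
        refine lt_of_le_of_ne ?_ ?_
        · intro k hk
          rw [Subgroup.mem_comap, QuotientGroup.mk'_apply, (QuotientGroup.eq_one_iff k).mpr hk]
          exact L.one_mem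
        · intro heq
          apply hLne
          rw [Subgroup.eq_bot_iff_forall]
          intro x hx
          obtain ⟨g, rfl⟩ := QuotientGroup.mk_surjective x
          have hg : g ∈ L.comap (QuotientGroup.mk' K) := hx
          rw [← heq] at hg
          exact (QuotientGroup.eq_one_iff g).mpr hg
      have h1 := hKmax _ (hL.comap _) hKL
      intro x hx
      rw [commutator_def, ← Subgroup.map_top_of_surjective (QuotientGroup.mk' K)
        (QuotientGroup.mk'_surjective K), ← Subgroup.map_commutator, ← commutator_def] at hx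
      obtain ⟨g, hg, rfl⟩ := hx
      exact h1 hg
    rcases Helper73.DGDich.dichotomy_of_commutator_minimal hnonab hmin with
      ⟨p, hp, hpQ⟩ | ⟨hA, ⟨q, hq, hqA⟩, hfpfQ⟩
    · -- the p-group case
      have : Fact p.Prime := ⟨hp⟩
      apply Helper89.DG.card_connectedComponent_le_two_of_anchors p p hp hp
      rintro r ⟨-, d, ⟨χ, rfl⟩, hrd⟩
      left
      right
      by_cases hpχ : p ∣ charDegree (χ : G → ℂ)
      · exact ⟨_, ⟨χ, rfl⟩, hpχ, hrd⟩
      · obtain ⟨ξ, hpξ, hχξ⟩ := Helper80.DG.pgroup_case K p hpQ hnonab χ hpχ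
        exact ⟨_, ⟨ξ, rfl⟩, hpξ, hrd.trans hχξ⟩
    · -- the Frobenius case
      set A : Subgroup (G ⧸ K) := commutator (G ⧸ K) with hAdef
      set N : Subgroup G := A.comap (QuotientGroup.mk' K) with hNdef
      have hNn : N.Normal := Subgroup.Normal.comap inferInstance _
      let _ : Fintype N := Fintype.ofFinite N
      have hmemN : ∀ g : G, g ∈ N ↔ (g : G ⧸ K) ∈ A := fun g => Iff.rfl
      have hKN : K ≤ N := by
        intro k hk
        rw [hmemN, (QuotientGroup.eq_one_iff k).mpr hk]
        exact A.one_mem
      set K' : Subgroup N := K.subgroupOf N with hK'def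
      have hmemK' : ∀ n : N, n ∈ K' ↔ (n : G) ∈ K := fun n => Subgroup.mem_subgroupOf
      have hKinv : ∀ (g : G) (n : N), n ∈ K' → Helper80.DG.cj N g n ∈ K' := by
        intro g n hn
        rw [hmemK'] at hn ⊢
        exact hKn.conj_mem _ hn g
      have habN : ∀ a b : N, a * b * a⁻¹ * b⁻¹ ∈ K' := by
        intro a b
        rw [hmemK']
        simp only [Subgroup.coe_mul, Subgroup.coe_inv]
        rw [← QuotientGroup.eq_one_iff]
        simp only [QuotientGroup.mk_mul, QuotientGroup.mk_inv]
        rw [hA _ ((hmemN a).mp a.2) _ ((hmemN b).mp b.2)]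
        group
      have habG : ∀ x y : G, x * y * x⁻¹ * y⁻¹ ∈ N := by
        intro x y
        rw [hmemN]
        simp only [QuotientGroup.mk_mul, QuotientGroup.mk_inv]
        exact Helper73.DGDich.comm_mem _ _
      have hfpf : ∀ g : G, g ∉ N → ∀ n : N, Helper80.DG.cj N g n * n⁻¹ ∈ K' → n ∈ K' := by
        intro g hg n hn
        rw [hmemK'] at hn ⊢
        simp only [Subgroup.coe_mul, Subgroup.coe_inv, Helper80.DG.cj_coe] at hn
        rw [← QuotientGroup.eq_one_iff] at hn ⊢
        simp only [QuotientGroup.mk_mul, QuotientGroup.mk_inv] at hn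
        apply hfpfQ (g : G ⧸ K) (fun h => hg ((hmemN g).mpr h)) _ ((hmemN n).mp n.2)
        calc (g : G ⧸ K) * (n : G ⧸ K)
            = ((g : G ⧸ K) * (n : G ⧸ K) * (g : G ⧸ K)⁻¹ * (n : G ⧸ K)⁻¹) *
              ((n : G ⧸ K) * (g : G ⧸ K)) := by group
          _ = (n : G ⧸ K) * (g : G ⧸ K) := by rw [hn, one_mul]
      -- the index of K' in N
      have hAne : A ≠ ⊥ := by
        intro hbot
        obtain ⟨a, b, hab⟩ := hnonab
        apply hab
        have h1 : a * b * a⁻¹ * b⁻¹ ∈ A := Helper73.DGDich.comm_mem a b
        rw [hbot, Subgroup.mem_bot] at h1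
        calc a * b = (a * b * a⁻¹ * b⁻¹) * (b * a) := by group
          _ = b * a := by rw [h1, one_mul]
      have hidx : ∃ a : ℕ, 0 < a ∧ K'.index = q ^ a := by
        have : Fact q.Prime := ⟨hq⟩
        obtain ⟨a, ha⟩ := IsPGroup.iff_card.mp hqA
        have hcard : K'.index = Nat.card A := by
          have h1 : K.relIndex N * N.index = K.index := Subgroup.relIndex_mul_index hKN
          have h2 : N.index = A.index :=
            Subgroup.index_comap_of_surjective A (QuotientGroup.mk'_surjective K)
          have h3 : K.index = Nat.card (G ⧸ K) := Subgroup.index_eq_card K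
          have h4 : A.index * Nat.card A = Nat.card (G ⧸ K) := Subgroup.index_mul_card A
          have h5 : K.relIndex N * A.index = Nat.card A * A.index := by
            calc K.relIndex N * A.index = K.relIndex N * N.index := by rw [h2]
              _ = K.index := h1
              _ = Nat.card (G ⧸ K) := h3
              _ = A.index * Nat.card A := h4.symm
              _ = Nat.card A * A.index := mul_comm _ _
          have h6 : 0 < A.index := Nat.pos_of_ne_zero Subgroup.index_ne_zero_of_finite
          exact Nat.eq_of_mul_eq_mul_right h6 h5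
        refine ⟨a, ?_, by rw [hcard, ha]⟩
        rcases Nat.eq_zero_or_pos a with h0 | hpos
        · exfalso
          apply hAne
          rw [h0, pow_zero] at ha
          exact Subgroup.card_eq_one.mp ha
        · exact hpos
      -- the index of N
      have hNidx : N.index ≠ 1 := by
        intro h1
        have h2 : N = ⊤ := Subgroup.index_eq_one.mp h1
        have : Nontrivial (G ⧸ K) := by
          obtain ⟨a, b, hab⟩ := hnonab
          exact ⟨⟨a * b, b * a, hab⟩⟩
        have h3 : A < ⊤ := Group.IsSolvable.commutator_lt_top_of_nontrivial (G ⧸ K)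
        apply h3.ne
        rw [eq_top_iff]
        intro x _
        obtain ⟨g, rfl⟩ := QuotientGroup.mk_surjective x
        have : g ∈ N := by rw [h2]; exact Subgroup.mem_top g
        exact (hmemN g).mp this
      have hs : (N.index).minFac.Prime := Nat.minFac_prime hNidx
      apply Helper89.DG.card_connectedComponent_le_two_of_anchors q (N.index).minFac hq hs
      rintro r ⟨-, d, ⟨χ, rfl⟩, hrd⟩
      rcases Helper80.DG.frob_case N K' hKinv habN habG hfpf q hq hidx χ with hqχ | ⟨ξ, hfξ, hχξ⟩
      · left
        right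
        exact ⟨_, ⟨χ, rfl⟩, hqχ, hrd⟩
      · right
        right
        exact ⟨_, ⟨ξ, rfl⟩, (Nat.minFac_dvd _).trans hfξ, hrd.trans hχξ⟩

end Cfsg.Agent.S4811
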