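import Cfsg.Statements.S4814
import Cfsg.Agent.Lib.Helper80.CharBasic
import Cfsg.Agent.Lib.Helper78.CharMore
import Cfsg.Agent.Lib.Helper81.SchurClassSum

set_option autoImplicit false
open Cfsg

namespace Cfsg.Agent.S4814

open Cfsg.Agent.Lib Cfsg.Agent.Lib.Helper80
open scoped ComplexConjugate

section
variable {G : Type*} [Group G] [Fintype G]

/-- Rep-level formula: `∑_{a,b,c,d} χ([a,b][c,d]h) = (|G|/χ(1))⁴ χ(h)`. -/
theorem rep_sum_two_comm {V : Type*} [AddCommGroup V] [Module ℂ V] [FiniteDimensional ℂ V]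
    (ρ : Representation ℂ G V) [ρ.IsIrreducible] (h : G) :
    ∑ a : G, ∑ b : G, ∑ c : G, ∑ d : G,
        ρ.character ((a * b * a⁻¹ * b⁻¹) * (c * d * c⁻¹ * d⁻¹) * h) =
      (((Fintype.card G : ℂ) / (Module.finrank ℂ V : ℂ)) *
        ((Fintype.card G : ℂ) / (Module.finrank ℂ V : ℂ))) ^ 2 * ρ.character h := by
  set k : ℂ := ((Fintype.card G : ℂ) / (Module.finrank ℂ V : ℂ)) *
        ((Fintype.card G : ℂ) / (Module.finrank ℂ V : ℂ)) with hk
  have hS := Helper81.sum_commutator_eq_smul ρ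
  rw [← hk] at hS
  have key : ∑ a : G, ∑ b : G, ∑ c : G, ∑ d : G,
      ρ ((a * b * a⁻¹ * b⁻¹) * (c * d * c⁻¹ * d⁻¹) * h) =
      (k ^ 2) • ρ h := by
    have : ∀ a b c d : G, ρ ((a * b * a⁻¹ * b⁻¹) * (c * d * c⁻¹ * d⁻¹) * h) =
        ρ (a * b * a⁻¹ * b⁻¹) * (ρ (c * d * c⁻¹ * d⁻¹) * ρ h) := by
      intro a b c d
      rw [map_mul, map_mul, mul_assoc]
    simp only [this]
    simp only [← Finset.mul_sum, ← Finset.sum_mul]
    rw [hS]
    simp only [sq, smul_mul_assoc, mul_smul_comm, smul_smul]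
    congr 1
  have := congrArg (LinearMap.trace ℂ V) key
  simp only [map_sum, map_smul, smul_eq_mul] at this
  exact this

theorem irr_sum_two_comm (χ : IrrCharacter G) (h : G) :
    ∑ a : G, ∑ b : G, ∑ c : G, ∑ d : G,
        (χ : G → ℂ) ((a * b * a⁻¹ * b⁻¹) * (c * d * c⁻¹ * d⁻¹) * h) =
      (((Fintype.card G : ℂ) / (χ : G → ℂ) 1) * ((Fintype.card G : ℂ) / (χ : G → ℂ) 1)) ^ 2 *
        (χ : G → ℂ) h := by
  obtain ⟨n, ρ, hirr, hχ⟩ := χ.2
  haveI := hirr
  rw [← hχ, Representation.char_one]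
  exact rep_sum_two_comm ρ h

end


/-- Let G be a finite group such that the sum, over the irreducible complex characters χ of G, of 1/χ(1)² is less than 2. Then every element of G is a product of two commutators. -/
theorem result {G : Type*} [Group G] [Finite G]
    (h : ∑ᶠ χ : Cfsg.IrrCharacter G, 1 / ‖(χ : G → ℂ) 1‖ ^ 2 < (2 : ℝ)) (g : G) :
    ∃ a b c d : G, (a * b * a⁻¹ * b⁻¹) * (c * d * c⁻¹ * d⁻¹) = g := by
  classical
  let _ : Fintype G := Fintype.ofFinite G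
  by_contra hcon
  push Not at hcon
  -- Step 1: orthogonality kills every term
  have h1 : ∀ a b c d : G, ∑ χ : IrrCharacter G,
      (χ : G → ℂ) ((a * b * a⁻¹ * b⁻¹) * (c * d * c⁻¹ * d⁻¹) * g⁻¹) * conj ((χ : G → ℂ) 1) = 0 := by
    intro a b c d
    apply Helper78.second_orthogonality_of_not_isConj
    intro hc
    have : (a * b * a⁻¹ * b⁻¹) * (c * d * c⁻¹ * d⁻¹) * g⁻¹ = 1 := by
      rw [isConj_comm, isConj_one_right] at hc
      exact hc
    exact hcon a b c d (mul_inv_eq_one.mp this)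
  -- Step 2: sum over all quadruples and swap
  have h2 : ∑ χ : IrrCharacter G, conj ((χ : G → ℂ) 1) *
      ∑ a : G, ∑ b : G, ∑ c : G, ∑ d : G,
        (χ : G → ℂ) ((a * b * a⁻¹ * b⁻¹) * (c * d * c⁻¹ * d⁻¹) * g⁻¹) = 0 := by
    have : ∑ a : G, ∑ b : G, ∑ c : G, ∑ d : G, ∑ χ : IrrCharacter G,
        (χ : G → ℂ) ((a * b * a⁻¹ * b⁻¹) * (c * d * c⁻¹ * d⁻¹) * g⁻¹) * conj ((χ : G → ℂ) 1)
          = 0 := by
      simp only [h1, Finset.sum_const_zero]
    rw [← this]
    simp only [Finset.mul_sum]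
    rw [Finset.sum_comm]
    refine Finset.sum_congr rfl fun a _ => ?_
    rw [Finset.sum_comm]
    refine Finset.sum_congr rfl fun b _ => ?_
    rw [Finset.sum_comm]
    refine Finset.sum_congr rfl fun c _ => ?_
    rw [Finset.sum_comm]
    refine Finset.sum_congr rfl fun d _ => ?_
    refine Finset.sum_congr rfl fun χ _ => ?_
    ring
  -- Step 3: insert the formula
  have hG0 : (Fintype.card G : ℂ) ≠ 0 := by exact_mod_cast Fintype.card_ne_zero
  have h3 : ∑ χ : IrrCharacter G,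
      (χ : G → ℂ) g⁻¹ / ((charDegree (χ : G → ℂ) : ℂ)) ^ 3 = 0 := by
    have h3' : ∑ χ : IrrCharacter G, (Fintype.card G : ℂ) ^ 4 *
        ((χ : G → ℂ) g⁻¹ / ((charDegree (χ : G → ℂ) : ℂ)) ^ 3) = 0 := by
      rw [← h2]
      refine Finset.sum_congr rfl fun χ _ => ?_
      rw [irr_sum_two_comm χ g⁻¹, char_one_eq_charDegree (isCharacter_of_isIrr χ.2)]
      have hd : (charDegree (χ : G → ℂ) : ℂ) ≠ 0 := by
        exact_mod_cast (charDegree_pos_of_isIrr χ.2).ne'
      rw [Complex.conj_natCast]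
      field_simp
    rw [← Finset.mul_sum] at h3'
    rcases mul_eq_zero.mp h3' with h0 | h0
    · exact absurd (pow_eq_zero_iff (by norm_num) |>.mp h0) hG0
    · exact h0
  -- Step 4: split off the principal character
  let triv : IrrCharacter G := ⟨fun _ => (1 : ℂ), isIrrCharacter_one⟩
  have htriv : charDegree (triv : G → ℂ) = 1 := by
    apply charDegree_natCast
    simp [triv]
  rw [← Finset.add_sum_erase Finset.univ _ (Finset.mem_univ triv)] at h3
  have h4 : (1 : ℂ) = - ∑ χ ∈ Finset.univ.erase triv,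
      (χ : G → ℂ) g⁻¹ / ((charDegree (χ : G → ℂ) : ℂ)) ^ 3 := by
    have : (triv : G → ℂ) g⁻¹ / ((charDegree (triv : G → ℂ) : ℂ)) ^ 3 = 1 := by
      rw [htriv]; simp [triv]
    rw [this] at h3
    exact eq_neg_of_add_eq_zero_left h3
  have h5 : (1 : ℝ) ≤ ∑ χ ∈ Finset.univ.erase triv,
      1 / ((charDegree (χ : G → ℂ) : ℝ)) ^ 2 := by
    have := congrArg norm h4
    rw [norm_one, norm_neg] at this
    refine this.le.trans ?_
    refine (norm_sum_le _ _).trans (Finset.sum_le_sum fun χ _ => ?_)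
    have hdpos : (0 : ℝ) < (charDegree (χ : G → ℂ) : ℝ) := by
      exact_mod_cast charDegree_pos_of_isIrr χ.2
    rw [norm_div, norm_pow, Complex.norm_natCast]
    have hle := norm_char_le (isCharacter_of_isIrr χ.2) g⁻¹
    rw [div_le_div_iff₀ (by positivity) (by positivity)]
    calc ‖(χ : G → ℂ) g⁻¹‖ * (charDegree (χ : G → ℂ) : ℝ) ^ 2
        ≤ (charDegree (χ : G → ℂ) : ℝ) * (charDegree (χ : G → ℂ) : ℝ) ^ 2 :=
          mul_le_mul_of_nonneg_right hle (by positivity)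
      _ = 1 * (charDegree (χ : G → ℂ) : ℝ) ^ 3 := by ring
  -- Step 5: the hypothesis
  rw [finsum_eq_sum_of_fintype] at h
  rw [← Finset.add_sum_erase Finset.univ _ (Finset.mem_univ triv)] at h
  have h6 : (1 : ℝ) / ‖(triv : G → ℂ) 1‖ ^ 2 = 1 := by simp [triv]
  rw [h6] at h
  have h7 : ∑ χ ∈ Finset.univ.erase triv, 1 / ‖(χ : G → ℂ) 1‖ ^ 2 =
      ∑ χ ∈ Finset.univ.erase triv, 1 / ((charDegree (χ : G → ℂ) : ℝ)) ^ 2 := by
    refine Finset.sum_congr rfl fun χ _ => ?_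
    rw [char_one_eq_charDegree (isCharacter_of_isIrr χ.2), Complex.norm_natCast]
  rw [h7] at h
  linarith

end Cfsg.Agent.S4814
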