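import Cfsg.Statements.S4838
import Cfsg.Agent.Lib.Helper80.Gagola2

set_option autoImplicit false
open Cfsg
open Cfsg.Agent.Lib Cfsg.Agent.Lib.Helper80

namespace Cfsg.Agent.S4838

universe u

variable {G : Type u} [Group G] [Finite G] {χ : IrrCharacter G} {N : Subgroup G} {g₀ : G}

/-- arithmetic: orders of `P`, `N` and the index of `N` -/
theorem pow_dvd_index_le (h : GagolaData χ N g₀) (p : ℕ) [hp : Fact p.Prime]
    (hNp : IsPGroup p N) (P : Sylow p G) {j : ℕ} (hj : p ^ j ∣ N.index) :
    p ^ j * Nat.card N ≤ Nat.card (P : Subgroup G) := by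
  obtain ⟨k, hk⟩ := IsPGroup.iff_card.1 hNp
  have hPcard : Nat.card (P : Subgroup G) = p ^ (Nat.card G).factorization p :=
    P.card_eq_multiplicity
  have hdvd : p ^ (j + k) ∣ Nat.card G := by
    rw [← N.card_mul_index, hk, pow_add, mul_comm]
    exact Nat.mul_dvd_mul_left _ hj
  have hle : j + k ≤ (Nat.card G).factorization p :=
    (hp.out.pow_dvd_iff_le_factorization Nat.card_pos.ne').1 hdvd
  rw [hPcard, hk, ← pow_add]
  exact Nat.pow_le_pow_right hp.out.pos hle

/-- (b1): the centre of `P` lies in `N`. -/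
theorem center_le (h : GagolaData χ N g₀) [N.Normal] (p : ℕ) [hp : Fact p.Prime]
    (hNp : IsPGroup p N) (P : Sylow p G) :
    (Subgroup.center ↥(P : Subgroup G)).map (P : Subgroup G).subtype ≤ N := by
  intro z hz
  obtain ⟨z', hz', rfl⟩ := Subgroup.mem_map.1 hz
  by_contra hzN
  have hcard := h.card_centralizer_quot hzN
  -- P ≤ C_G(z)
  have hPle : (P : Subgroup G) ≤ Subgroup.centralizer ({((P : Subgroup G).subtype z' : G)} : Set G) := by
    intro y hy
    rw [Subgroup.mem_centralizer_iff]
    intro w hw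
    rw [Set.mem_singleton_iff] at hw
    subst hw
    have := (Subgroup.mem_center_iff.1 hz') ⟨y, hy⟩
    exact congrArg Subtype.val this.symm
  have h1 : Nat.card (P : Subgroup G) ∣
      Nat.card (Subgroup.centralizer ({((P : Subgroup G).subtype z' : G)} : Set G)) :=
    Subgroup.card_dvd_of_le hPle
  rw [hcard] at h1
  have h2 : Nat.card (Subgroup.centralizer
      ({(((P : Subgroup G).subtype z' : G) : G ⧸ N)} : Set (G ⧸ N))) ∣ N.index := by
    rw [Subgroup.index_eq_card]
    exact Subgroup.card_subgroup_dvd_card _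
  have hPcard : Nat.card (P : Subgroup G) = p ^ (Nat.card G).factorization p :=
    P.card_eq_multiplicity
  have h3 : p ^ (Nat.card G).factorization p ∣ N.index := hPcard ▸ h1.trans h2
  have h4 := pow_dvd_index_le h p hNp P h3
  rw [← hPcard] at h4
  have h5 : 1 < Nat.card N := N.one_lt_card_iff_ne_bot.2 h.ne_bot
  have h6 : 0 < Nat.card (P : Subgroup G) := Nat.card_pos
  nlinarith

/-- (b2) -/
theorem center_eq_iff (h : GagolaData χ N g₀) [N.Normal] (p : ℕ) [hp : Fact p.Prime]
    (hNp : IsPGroup p N) (P : Sylow p G) :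
    (Subgroup.center ↥(P : Subgroup G)).map (P : Subgroup G).subtype = N ↔
      (P : Subgroup G).Normal := by
  have hNP : N ≤ (P : Subgroup G) := hNp.le_sylow_of_normal P
  constructor
  · intro heq
    -- P ≤ C_G(x) for x ∈ N
    have hcent : ∀ x ∈ N, x ≠ 1 → Subgroup.centralizer ({x} : Set G) = (P : Subgroup G) := by
      intro x hx hx1
      obtain ⟨Q, hQ⟩ := h.centralizer_sylow p hNp hx hx1
      have hPQ : (P : Subgroup G) ≤ (Q : Subgroup G) := by
        rw [← hQ]
        intro y hy
        rw [Subgroup.mem_centralizer_iff]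
        intro w hw
        rw [Set.mem_singleton_iff] at hw
        subst hw
        rw [← heq] at hx
        obtain ⟨z', hz', rfl⟩ := Subgroup.mem_map.1 hx
        have := (Subgroup.mem_center_iff.1 hz') ⟨y, hy⟩
        exact congrArg Subtype.val this.symm
      rw [hQ]
      exact (P.3 Q.2 hPQ)
    constructor
    intro y hy c
    have hg := h.g₀_mem
    have h1 := hcent g₀ hg h.ne_one
    have hcg : c⁻¹ * g₀ * c ∈ N := by
      have := ‹N.Normal›.conj_mem g₀ hg c⁻¹
      simpa using this
    have hcg1 : c⁻¹ * g₀ * c ≠ 1 := by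
      intro h0
      apply h.ne_one
      have : g₀ = c * (c⁻¹ * g₀ * c) * c⁻¹ := by group
      rw [this, h0]; simp
    have h2 := hcent _ hcg hcg1
    rw [← h1] at hy ⊢
    rw [Subgroup.mem_centralizer_iff] at hy ⊢
    intro w hw
    rw [Set.mem_singleton_iff] at hw
    subst hw
    -- y commutes with c⁻¹ w c since y ∈ P = C(c⁻¹ w c)
    have hyP : y ∈ (P : Subgroup G) := by
      rw [← h1, Subgroup.mem_centralizer_iff]
      intro w' hw'
      rw [Set.mem_singleton_iff] at hw'
      subst hw'
      exact hy w' (Set.mem_singleton _)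
    rw [← h2, Subgroup.mem_centralizer_iff] at hyP
    have h3 := hyP (c⁻¹ * w * c) (Set.mem_singleton _)
    calc w * (c * y * c⁻¹) = c * ((c⁻¹ * w * c) * y) * c⁻¹ := by group
      _ = c * (y * (c⁻¹ * w * c)) * c⁻¹ := by rw [h3]
      _ = c * y * c⁻¹ * w := by group
  · intro hPn
    apply le_antisymm (center_le h p hNp P)
    have hnorm : ((Subgroup.center ↥(P : Subgroup G)).map (P : Subgroup G).subtype).Normal :=
      ConjAct.normal_of_characteristic_of_normal
    apply h.minimal _ hnorm
    have hPnt : Nontrivial ↥(P : Subgroup G) := by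
      rw [Subgroup.nontrivial_iff_ne_bot]
      intro hb
      apply h.ne_bot
      rw [eq_bot_iff, ← hb]
      exact hNP
    have hZnt : Nontrivial (Subgroup.center ↥(P : Subgroup G)) := P.2.center_nontrivial
    intro hb
    obtain ⟨z, hz⟩ := exists_ne (1 : Subgroup.center ↥(P : Subgroup G))
    apply hz
    have h1 : (((z : ↥(P : Subgroup G)) : G)) ∈
        (Subgroup.center ↥(P : Subgroup G)).map (P : Subgroup G).subtype :=
      Subgroup.mem_map_of_mem _ z.2
    rw [hb, Subgroup.mem_bot] at h1
    apply Subtype.ext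
    apply Subtype.ext
    exact h1

/-- (c), key step -/
theorem le_upperCentralSeries_of (h : GagolaData χ N g₀) [N.Normal] (p : ℕ) [hp : Fact p.Prime]
    (hNp : IsPGroup p N) (P : Sylow p G) (i : ℕ)
    (hi : Subgroup.upperCentralSeries ↥(P : Subgroup G) i ≤ N.subgroupOf (P : Subgroup G))
    (x : ↥(P : Subgroup G)) (hx : x ∈ Subgroup.upperCentralSeries ↥(P : Subgroup G) (i + 1))
    (hxN : (x : G) ∉ N) :
    N.subgroupOf (P : Subgroup G) ≤ Subgroup.upperCentralSeries ↥(P : Subgroup G) i := by
  classical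
  have hNP : N ≤ (P : Subgroup G) := hNp.le_sylow_of_normal P
  -- the centralizer of x in P
  set C := Subgroup.centralizer ({x} : Set ↥(P : Subgroup G)) with hC
  have hCp : IsPGroup p C := P.2.to_subgroup C
  obtain ⟨j, hj⟩ := IsPGroup.iff_card.1 hCp
  -- |C| divides |C_G(x)|
  have hCdvd : Nat.card C ∣ Nat.card (Subgroup.centralizer ({(x : G)} : Set G)) := by
    have hle : C.map (P : Subgroup G).subtype ≤ Subgroup.centralizer ({(x : G)} : Set G) := by
      intro y hy
      obtain ⟨y', hy', rfl⟩ := Subgroup.mem_map.1 hy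
      rw [Subgroup.mem_centralizer_iff] at hy' ⊢
      intro w hw
      rw [Set.mem_singleton_iff] at hw
      subst hw
      exact congrArg Subtype.val (hy' x (Set.mem_singleton x))
    have := Subgroup.card_dvd_of_le hle
    rwa [Subgroup.card_map_of_injective (Subgroup.subtype_injective _)] at this
  rw [h.card_centralizer_quot hxN] at hCdvd
  have h2 : Nat.card (Subgroup.centralizer ({((x : G) : G ⧸ N)} : Set (G ⧸ N))) ∣ N.index := by
    rw [Subgroup.index_eq_card]
    exact Subgroup.card_subgroup_dvd_card _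
  have h3 : p ^ j ∣ N.index := hj ▸ hCdvd.trans h2
  have h4 := pow_dvd_index_le h p hNp P h3
  rw [← hj] at h4
  -- class of x in P
  have hcl := ncard_isConj_mul_card_centralizer x
  rw [← hC] at hcl
  have hclge : Nat.card N ≤ Set.ncard {y : ↥(P : Subgroup G) | IsConj x y} := by
    have hCpos : 0 < Nat.card C := Nat.card_pos
    have : Nat.card C * Nat.card N ≤ Nat.card C * Set.ncard {y : ↥(P : Subgroup G) | IsConj x y} := by
      rw [mul_comm (Nat.card C) (Set.ncard _), hcl]; exact h4
    exact Nat.le_of_mul_le_mul_left this hCpos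
  -- the map from the class into N.subgroupOf P
  have hxinv : x⁻¹ ∈ Subgroup.upperCentralSeries ↥(P : Subgroup G) (i + 1) := Subgroup.inv_mem _ hx
  have hcomm : ∀ y : ↥(P : Subgroup G), x⁻¹ * (y * x * y⁻¹) ∈
      Subgroup.upperCentralSeries ↥(P : Subgroup G) i := by
    intro y
    have := (Subgroup.mem_upperCentralSeries_succ_iff.1 hxinv) y
    rw [commutatorElement_def, inv_inv] at this
    convert this using 1
    group
  let f : {y : ↥(P : Subgroup G) // IsConj x y} → N.subgroupOf (P : Subgroup G) := fun y =>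
    ⟨x⁻¹ * y.1, by
      obtain ⟨c, hc⟩ := isConj_iff.1 y.2
      rw [← hc]
      exact hi (hcomm c)⟩
  have hfinj : Function.Injective f := by
    intro y₁ y₂ h12
    have : x⁻¹ * y₁.1 = x⁻¹ * y₂.1 := congrArg Subtype.val h12
    exact Subtype.ext (mul_left_cancel this)
  have hcardN' : Nat.card (N.subgroupOf (P : Subgroup G)) = Nat.card N :=
    Nat.card_congr (Subgroup.subgroupOfEquivOfLe hNP).toEquiv
  have hfbij : Function.Bijective f := by
    apply hfinj.bijective_of_nat_card_le
    rw [hcardN']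
    have : Nat.card {y : ↥(P : Subgroup G) // IsConj x y} =
        Set.ncard {y : ↥(P : Subgroup G) | IsConj x y} := Nat.card_coe_set_eq _
    rw [this]
    exact hclge
  intro n hn
  obtain ⟨y, hy⟩ := hfbij.2 ⟨n, hn⟩
  have hy' : x⁻¹ * y.1 = n := congrArg Subtype.val hy
  obtain ⟨c, hc⟩ := isConj_iff.1 y.2
  rw [← hy', ← hc]
  exact hcomm c

/-- (c) -/
theorem exists_upperCentralSeries_eq (h : GagolaData χ N g₀) [N.Normal] (p : ℕ)
    [hp : Fact p.Prime] (hNp : IsPGroup p N) (P : Sylow p G) :
    ∃ i : ℕ, Subgroup.upperCentralSeries ↥(P : Subgroup G) i = N.subgroupOf (P : Subgroup G) := by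
  have hnil : Group.IsNilpotent ↥(P : Subgroup G) := P.2.isNilpotent
  obtain ⟨n, hn⟩ := hnil.nilpotent'
  have key : ∀ i : ℕ, (∃ j, Subgroup.upperCentralSeries ↥(P : Subgroup G) j =
      N.subgroupOf (P : Subgroup G)) ∨
      Subgroup.upperCentralSeries ↥(P : Subgroup G) i ≤ N.subgroupOf (P : Subgroup G) := by
    intro i
    induction i with
    | zero => right; rw [Subgroup.upperCentralSeries_zero]; exact bot_le
    | succ i ih =>
      rcases ih with ih | ih
      · exact Or.inl ih
      · by_cases hle : Subgroup.upperCentralSeries ↥(P : Subgroup G) (i + 1) ≤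
            N.subgroupOf (P : Subgroup G)
        · exact Or.inr hle
        · left
          rw [SetLike.not_le_iff_exists] at hle
          obtain ⟨x, hx, hxN⟩ := hle
          have hxN' : (x : G) ∉ N := fun h0 => hxN (Subgroup.mem_subgroupOf.2 h0)
          exact ⟨i, le_antisymm ih (le_upperCentralSeries_of h p hNp P i ih x hx hxN')⟩
  rcases key n with hk | hk
  · exact hk
  · refine ⟨n, ?_⟩
    rw [hn] at hk ⊢
    exact (top_le_iff.1 hk).symm

theorem result {G : Type*} [Group G] [Finite G] (hG : 2 < Nat.card G) (χ : Cfsg.IrrCharacter G) (hχ : Nat.card {C : ConjClasses G // ∃ g ∈ C.carrier, (χ : G → ℂ) g ≠ 0} = 2) (p : ℕ) [Fact p.Prime] (N : Subgroup G) [N.Normal] (hN : ∀ g : G, g ∈ N ↔ (χ : G → ℂ) g ≠ 0) (hNp : IsPGroup p N) (hN1 : N ≠ ⊥) (P : Sylow p G) :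
    (∀ x : G, x ∉ N → Nat.card (Subgroup.centralizer ({x} : Set G)) = Nat.card (Subgroup.centralizer ({(x : G ⧸ N)} : Set (G ⧸ N)))) ∧
      ((Subgroup.center ↥(P : Subgroup G)).map (P : Subgroup G).subtype ≤ N ∧
        ((Subgroup.center ↥(P : Subgroup G)).map (P : Subgroup G).subtype = N ↔ (P : Subgroup G).Normal)) ∧
      (∃ i : ℕ, Subgroup.upperCentralSeries ↥(P : Subgroup G) i = N.subgroupOf (P : Subgroup G)) := by
  obtain ⟨g₀, h⟩ := gagolaData_of hG χ hχ N hN
  exact ⟨fun x hx => h.card_centralizer_quot hx,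
    ⟨center_le h p hNp P, center_eq_iff h p hNp P⟩,
    exists_upperCentralSeries_eq h p hNp P⟩

end Cfsg.Agent.S4838
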