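import Cfsg.Statements.S4840
import Cfsg.Agent.Lib.Helper15.SolvGagC
import Cfsg.Agent.Lib.Helper46.S4840B1
import Cfsg.Agent.Lib.Helper46.S4840T1
import Cfsg.Agent.Lib.Helper46.S4840B2
import Cfsg.Agent.Lib.Helper76.S4840EXC

set_option autoImplicit false
open Cfsg

namespace Cfsg.Agent.S4840

open Cfsg.Agent.Lib.Helper80 Cfsg.Agent.Lib.Helper15.Gagola Cfsg.Agent.Lib.Helper15.SolvGag

/-- the linear theorem with all modules plugged in -/
theorem lin_full {p : ℕ} [hp : Fact p.Prime] (V : Type*) [AddCommGroup V] [Module (ZMod p) V]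
    [Finite V] [Nontrivial V] (X : Subgroup (V ≃ₗ[ZMod p] V)) [Group.IsSolvable X]
    (htrans : ∀ v w : V, v ≠ 0 → w ≠ 0 → ∃ g ∈ X, g v = w)
    (hstab : ∀ v : V, v ≠ 0 → ∀ g ∈ X, g v = v → ∃ k : ℕ, g ^ p ^ k = 1) :
    ∃ D : Subgroup X, D.Normal ∧ (Nat.card D).Coprime p ∧ commutator X ≤ D := by
  have := finite_GL' (p := p) (V := V)
  apply lin_main X htrans hstab
  · intro R hR hc
    exact Cfsg.Agent.Lib.Helper46.S4840.commutator_le_centralizer_of_cyclic_normal R
  · intro R hR hR2 hcyc hp2 g k hg hne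
    exact Cfsg.Agent.Lib.Helper46.S4840.centralizes_two_group_or R hR2 hcyc p hp2 g k hg hne
  · intro h3 R hRn h8 hna
    subst h3
    exact Cfsg.Agent.Lib.Helper76.S4840.exceptional X htrans hstab R h8 hna

/-- Let G be a finite solvable group of order greater than 2 with an irreducible character nonzero on exactly two conjugacy classes. Then there is exactly one prime p with O_p(G) ≠ 1, and the quotient G/O_p(G) has a normal p-complement and commutative Sylow p-subgroups. -/
theorem result {G : Type*} [Group G] [Finite G] [hs : Group.IsSolvable G] (hG : 2 < Nat.card G) (χ : Cfsg.IrrCharacter G) (hχ : Nat.card {C : ConjClasses G // ∃ g ∈ C.carrier, (χ : G → ℂ) g ≠ 0} = 2) :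
    ∃ p : ℕ, p.Prime ∧ (∀ q : ℕ, q.Prime → (Cfsg.pCore q G ≠ ⊥ ↔ q = p)) ∧
      Cfsg.HasNormalPComplement p (G ⧸ Cfsg.pCore p G) ∧ ∀ Q : Sylow p (G ⧸ Cfsg.pCore p G), IsMulCommutative (Q : Subgroup (G ⧸ Cfsg.pCore p G)) := by
  obtain ⟨g, hg, hsupp, hmem, hfaith⟩ := twoClasses_main hG χ hχ
  obtain ⟨hN0, hmin, ⟨p, hp, hcommN, hel⟩, -⟩ := twoClasses_group χ g hg hmem hfaith
  have hpF : Fact p.Prime := ⟨hp⟩
  have hN : ∀ x : G, x ∈ otherKer χ ↔ (χ : G → ℂ) x ≠ 0 := by
    intro x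
    rw [hmem, hsupp]
  obtain ⟨g₀, hd⟩ := gagolaData_of hG χ hχ (otherKer χ) hN
  have hNp : IsPGroup p (otherKer χ) := by
    intro x
    refine ⟨1, ?_⟩
    apply Subtype.ext
    rw [pow_one, Subgroup.coe_pow]
    exact hel _ x.2
  have hcam : Cam (otherKer χ) p :=
    { pgroup := hNp
      comm := hd.comm
      ne_bot := ⟨g₀, hd.g₀_mem, hd.ne_one⟩
      conj := fun x hx hx1 y => hd.isConj_iff hx hx1 y
      camina := fun y hy n hn => hd.camina hy hn
      card_cent := fun x hx hx1 => hd.card_centralizer_mul hx hx1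
      card_gt := hG }
  refine ⟨p, hp, ?_, ?_⟩
  · intro q hq
    have hqF : Fact q.Prime := ⟨hq⟩
    constructor
    · intro hne
      have hle : otherKer χ ≤ pCore q G :=
        hmin _ (Cfsg.Agent.Lib.Helper55.pCore_normal' q) hne
      have hg₀q := hle hd.g₀_mem
      obtain ⟨k, hk⟩ := (Cfsg.Agent.Lib.Helper55.isPGroup_pCore (G := G) q) ⟨g₀, hg₀q⟩
      have hk' : g₀ ^ q ^ k = 1 := by
        have := congrArg Subtype.val hk
        simpa using this
      have h1 : orderOf g₀ ∣ q ^ k := orderOf_dvd_of_pow_eq_one hk'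
      have h2 : orderOf g₀ ∣ p := orderOf_dvd_of_pow_eq_one (hel _ hd.g₀_mem)
      have h3 : orderOf g₀ = p := by
        rcases (Nat.dvd_prime hp).1 h2 with h | h
        · exact absurd (orderOf_eq_one_iff.1 h) hd.ne_one
        · exact h
      rw [h3] at h1
      have h4 : p ∣ q := hp.dvd_of_dvd_pow h1
      exact ((Nat.prime_dvd_prime_iff_eq hp hq).1 h4).symm
    · rintro rfl hbot
      have hle : otherKer χ ≤ pCore q G :=
        Cfsg.Agent.Lib.Helper55.le_pCore inferInstance hNp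
      rw [hbot] at hle
      exact hN0 (le_bot_iff.1 hle)
  · obtain ⟨D, hDn, hDc, hDab⟩ := cam_quotient_main hcam hel
      (fun V _ _ _ _ X _ htr hst => lin_full V X htr hst)
    exact Cfsg.Agent.Lib.Helper46.S4840.npc_of_normal_coprime_abelian p D hDc hDab

end Cfsg.Agent.S4840
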