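import Cfsg.Statements.S4859
-- import your own Cfsg.Agent.* helpers here
import Cfsg.Agent.Lib.Helper81.SqrtCount

set_option autoImplicit false
open Cfsg

namespace Cfsg.Agent.S4859

theorem not_square {G : Type*} [Group G] [Finite G] (p : ℕ) [Fact p.Prime] (hp : p ≠ 2) (x : G)
    (hx : ∃ k : ℕ, orderOf x = p ^ k)
    (heven : Even (Nat.card (Subgroup.centralizer ({x} : Set G)))) (y : G)
    (hy : y ∈ Subgroup.centralizer ({x} : Set G)) (hy2 : ∃ k : ℕ, orderOf y = 2 ^ k)
    (hmax : ∀ z ∈ Subgroup.centralizer ({x} : Set G), (∃ k : ℕ, orderOf z = 2 ^ k) →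
      orderOf z ≤ orderOf y) : ¬ ∃ u : G, u * u = x * y := by
  rintro ⟨u, hu⟩
  obtain ⟨k, hk⟩ := hx
  obtain ⟨j, hj⟩ := hy2
  have hpp : p.Prime := Fact.out
  -- x and y commute
  have hxy : Commute x y := by
    have := (Subgroup.mem_centralizer_iff.mp hy) x (Set.mem_singleton x)
    exact this
  -- j ≥ 1
  have hj1 : 1 ≤ j := by
    have h2 : 2 ∣ Nat.card (Subgroup.centralizer ({x} : Set G)) := even_iff_two_dvd.mp heven
    have : Fact (Nat.Prime 2) := ⟨Nat.prime_two⟩
    obtain ⟨z, hz⟩ := exists_prime_orderOf_dvd_card' 2 h2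
    have hz' : orderOf (z : G) = 2 := by rw [Subgroup.orderOf_coe]; exact hz
    have := hmax z z.2 ⟨1, by rw [hz']; norm_num⟩
    rw [hz', hj] at this
    by_contra hcon
    have : j = 0 := by omega
    subst this
    norm_num at *
  -- a = p^k is coprime to 2^j
  have hcop : Nat.Coprime (p ^ k) (2 ^ j) := by
    apply Nat.Coprime.pow
    rw [Nat.coprime_primes hpp Nat.prime_two]
    exact hp
  have h2j : 1 < 2 ^ j := Nat.one_lt_two_pow (by omega)
  obtain ⟨b, -, hb⟩ := Nat.exists_mul_mod_eq_one_of_coprime hcop h2j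
  -- y ^ (p^k * b) = y
  have hyab : y ^ (p ^ k * b) = y := by
    have : p ^ k * b = 2 ^ j * (p ^ k * b / 2 ^ j) + 1 := by
      have := Nat.div_add_mod (p ^ k * b) (2 ^ j)
      omega
    rw [this, pow_succ, pow_mul, ← hj, pow_orderOf_eq_one, one_pow, one_mul]
  have hxab : x ^ (p ^ k * b) = 1 := by
    rw [pow_mul, ← hk, pow_orderOf_eq_one, one_pow]
  -- w^(ab) = y
  have hwab : (x * y) ^ (p ^ k * b) = y := by
    rw [hxy.mul_pow, hxab, one_mul, hyab]
  set t := u ^ (p ^ k * b) with ht
  have htt : t * t = y := by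
    rw [ht, ← (Commute.refl u).mul_pow, hu, hwab]
  -- u commutes with x
  have hux : Commute u x := by
    have huw : Commute u (x * y) := by
      rw [← hu]
      exact (Commute.refl u).mul_right (Commute.refl u)
    have huy : Commute u y := by
      rw [← hwab]
      exact huw.pow_right _
    have : x = (x * y) * y⁻¹ := by group
    rw [this]
    exact huw.mul_right huy.inv_right
  have htC : t ∈ Subgroup.centralizer ({x} : Set G) := by
    rw [Subgroup.mem_centralizer_iff]
    intro h hh
    rw [Set.mem_singleton_iff] at hh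
    subst hh
    exact ((hux.pow_left _).eq).symm
  -- order of t
  have hord : orderOf (t ^ 2) = 2 ^ j := by
    rw [pow_two, htt, hj]
  rw [orderOf_pow' t (by norm_num : (2:ℕ) ≠ 0)] at hord
  have hg : Nat.gcd (orderOf t) 2 = 1 ∨ Nat.gcd (orderOf t) 2 = 2 := by
    have := Nat.gcd_dvd_right (orderOf t) 2
    rcases (Nat.dvd_prime Nat.prime_two).mp this with h | h
    · exact Or.inl h
    · exact Or.inr h
  rcases hg with hg | hg
  · rw [hg, Nat.div_one] at hord
    have h1 : 2 ∣ orderOf t := by
      rw [hord]; exact dvd_pow_self 2 (by omega)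
    have h2 : 2 ∣ Nat.gcd (orderOf t) 2 := Nat.dvd_gcd h1 (dvd_refl 2)
    rw [hg] at h2
    norm_num at h2
  · rw [hg] at hord
    have h1 : 2 ∣ orderOf t := by
      have := Nat.gcd_dvd_left (orderOf t) 2
      rwa [hg] at this
    have hot : orderOf t = 2 ^ (j + 1) := by
      obtain ⟨m, hm⟩ := h1
      rw [hm, Nat.mul_div_cancel_left _ (by norm_num : 0 < 2)] at hord
      rw [hm, hord, pow_succ, mul_comm]
    have := hmax t htC ⟨j + 1, hot⟩
    rw [hot, hj, pow_succ] at this
    have : 0 < 2 ^ j := by positivity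
    omega

/-- Let p be an odd prime, G a finite group and x an element of G whose order is a power of p (possibly 1) and whose centralizer has even order. Let y be a 2-element of the centralizer of x whose order is largest among the 2-elements of that centralizer. Then x * y is not a square in G, and some non-principal real-valued irreducible character of G does not vanish at x * y. -/
theorem result {G : Type*} [Group G] [Finite G] (p : ℕ) [Fact p.Prime] (hp : p ≠ 2) (x : G) (hx : ∃ k : ℕ, orderOf x = p ^ k) (heven : Even (Nat.card (Subgroup.centralizer ({x} : Set G)))) (y : G) (hy : y ∈ Subgroup.centralizer ({x} : Set G)) (hy2 : ∃ k : ℕ, orderOf y = 2 ^ k) (hmax : ∀ z ∈ Subgroup.centralizer ({x} : Set G), (∃ k : ℕ, orderOf z = 2 ^ k) → orderOf z ≤ orderOf y) : (¬ ∃ u : G, u * u = x * y) ∧ ∃ χ : Cfsg.IrrCharacter G, ¬ ((χ : G → ℂ) = fun _ => (1 : ℂ)) ∧ (∀ g : G, ((χ : G → ℂ) g).im = 0) ∧ (χ : G → ℂ) (x * y) ≠ 0 := by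
  have h1 := not_square p hp x hx heven y hy hy2 hmax
  refine ⟨h1, ?_⟩
  have := Fintype.ofFinite G
  exact Cfsg.Agent.Lib.Helper81.exists_real_irr_ne_zero_of_not_square (x * y) h1

end Cfsg.Agent.S4859
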