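import Cfsg.Statements.S4870
import Cfsg.Agent.Lib.Helper75.Clifford2
import Cfsg.Agent.Lib.Helper81.Gallagher

set_option autoImplicit false
open Cfsg

namespace Cfsg.Agent.S4870

open Cfsg.Agent.Lib.Helper81 Cfsg.Agent.Lib.Helper75 Cfsg.Agent.Lib.Helper78
open scoped ComplexConjugate

/-- The key fibre property: if `ν χ = χ` for `χ = Ind_I^G ψ`, with `ψ` extending the
`G`-stabilised-by-`I` character `φ` of the perfect normal subgroup `N`, then `ν` is trivial on
`I`. -/
theorem le_ker_of_mul_ind_eq {G : Type*} [Group G] [Fintype G] (N I : Subgroup G) [hN : N.Normal]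
    [Fintype N] [Fintype I]
    (hNI : N ≤ I) {φ : N → ℂ} (hφ : IsIrrCharacter N φ)
    (hT : ∀ g : G, g ∈ I ↔ conjFun N g φ = φ) {ψ : I → ℂ} (hψ : IsIrrCharacter I ψ)
    (hres : resNT N I hNI ψ = φ) (ν : G →* ℂˣ) (hνN : N ≤ ν.ker)
    (hmul : ∀ g, ((ν g : ℂˣ) : ℂ) * indFun I ψ g = indFun I ψ g) : I ≤ ν.ker := by
  classical
  have hover : classInner (resNT N I hNI ψ) φ ≠ 0 := by
    rw [hres, classInner_irr_self hφ]; exact one_ne_zero
  -- the twisted character of `I`
  have hψ' : IsIrrCharacter I (fun t : I => ((ν (t : G) : ℂˣ) : ℂ) * ψ t) :=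
    isIrrCharacter_monoidHom_mul (ν.comp I.subtype) hψ
  have hres' : resNT N I hNI (fun t : I => ((ν (t : G) : ℂˣ) : ℂ) * ψ t) = φ := by
    rw [← hres]
    funext n
    show ((ν (n : G) : ℂˣ) : ℂ) * ψ ⟨(n : G), hNI n.2⟩ = ψ ⟨(n : G), hNI n.2⟩
    rw [MonoidHom.mem_ker.mp (hνN n.2), Units.val_one, one_mul]
  have hover' : classInner (resNT N I hNI (fun t : I => ((ν (t : G) : ℂˣ) : ℂ) * ψ t)) φ ≠ 0 := by
    rw [hres', classInner_irr_self hφ]; exact one_ne_zero
  have heq : indFun I (fun t : I => ((ν (t : G) : ℂˣ) : ℂ) * ψ t) = indFun I ψ := by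
    rw [indFun_monoidHom_mul]
    funext g
    exact hmul g
  have h1 : (fun t : I => ((ν (t : G) : ℂˣ) : ℂ) * ψ t) = ψ :=
    indFun_injective_of_over N I hNI hφ hT hψ' hψ hover' hover heq
  have hφ' : IsIrrCharacter N (ψ ∘ Subgroup.inclusion hNI) := by
    have : ψ ∘ Subgroup.inclusion hNI = φ := by
      rw [← hres]; rfl
    rw [this]; exact hφ
  have h2 : ν.comp I.subtype = 1 :=
    monoidHom_eq_one_of_mul_eq (Subgroup.inclusion hNI) hψ hφ' (ν.comp I.subtype)
      (fun n => MonoidHom.mem_ker.mp (hνN n.2)) (fun t => congrFun h1 t)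
  intro t ht
  rw [MonoidHom.mem_ker]
  exact congrArg (fun f : I →* ℂˣ => f ⟨t, ht⟩) h2

/-- Let G be a finite group with a non-abelian minimal normal subgroup N, and let φ be an irreducible complex character of N with stabilizer I in G (the elements g with φ(g n g⁻¹) = φ(n) for all n ∈ N) such that φ extends to an irreducible character of I. Put d = φ(1)·[G : I]. Then the number of linear characters of G is at most [G : I] times the number of irreducible characters of G of degree d. -/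
theorem result {G : Type*} [Group G] [Finite G] (N : Subgroup G) (hN : N.Normal) (hN1 : N ≠ ⊥) (hmin : ∀ M : Subgroup G, M.Normal → M ≤ N → M = ⊥ ∨ M = N) (hna : ¬ IsMulCommutative ↥N) (φ : Cfsg.IrrCharacter ↥N) (I : Subgroup G) (hI : ∀ g : G, g ∈ I ↔ ∀ n n' : ↥N, (n' : G) = g * (n : G) * g⁻¹ → (φ : ↥N → ℂ) n' = (φ : ↥N → ℂ) n) (hNI : N ≤ I) (hext : ∃ ψ : Cfsg.IrrCharacter ↥I, ∀ n : ↥N, (ψ : ↥I → ℂ) (Subgroup.inclusion hNI n) = (φ : ↥N → ℂ) n) : Nat.card {χ : Cfsg.IrrCharacter G // Cfsg.charDegree (χ : G → ℂ) = 1} ≤ I.index * Nat.card {χ : Cfsg.IrrCharacter G // Cfsg.charDegree (χ : G → ℂ) = Cfsg.charDegree (φ : ↥N → ℂ) * I.index} := by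
  classical
  have := Fintype.ofFinite G
  have := hN
  obtain ⟨ψ, hψ⟩ := hext
  -- `N` is perfect
  have hperf : ⁅N, N⁆ = N := commutator_eq_of_minimal_normal N hmin hna
  -- translate the stabiliser condition
  have hT : ∀ g : G, g ∈ I ↔ conjFun N g (φ : N → ℂ) = (φ : N → ℂ) := by
    intro g
    rw [hI g]
    constructor
    · intro h
      funext n
      rw [conjFun_apply]
      exact h n ⟨g * n * g⁻¹, hN.conj_mem n n.2 g⟩ rfl
    · intro h n n' hn'
      have h1 := congrFun h n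
      rw [conjFun_apply] at h1
      rw [← h1]
      have h2 : n' = ⟨g * n * g⁻¹, hN.conj_mem n n.2 g⟩ := Subtype.ext hn'
      rw [h2]
  have hres : resNT N I hNI (ψ : I → ℂ) = (φ : N → ℂ) := by
    funext n
    exact hψ n
  have hover : classInner (resNT N I hNI (ψ : I → ℂ)) (φ : N → ℂ) ≠ 0 := by
    rw [hres, classInner_irr_self φ.2]; exact one_ne_zero
  -- the induced character
  have hχ : IsIrrCharacter G (indFun I (ψ : I → ℂ)) :=
    isIrrCharacter_indFun_of_over N I hNI φ.2 hT ψ.2 hover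
  have hχ1 : indFun I (ψ : I → ℂ) 1 = ((charDegree (φ : N → ℂ) * I.index : ℕ) : ℂ) := by
    rw [indFun_one]
    have h1 : (ψ : I → ℂ) 1 = (φ : N → ℂ) 1 := hψ 1
    rw [h1, IsCharacter.apply_one_eq_charDegree (IsIrrCharacter.isCharacter φ.2)]
    push_cast
    ring
  -- homs attached to the linear characters
  have hlin : ∀ a : {χ : IrrCharacter G // charDegree (χ : G → ℂ) = 1},
      ∃ lam : G →* ℂˣ, ∀ g, (a.1 : G → ℂ) g = ((lam g : ℂˣ) : ℂ) := by
    intro a
    apply Cfsg.Agent.Lib.Helper77.exists_monoidHom_of_degree_one (IsIrrCharacter.isCharacter a.1.2)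
    rw [IsCharacter.apply_one_eq_charDegree (IsIrrCharacter.isCharacter a.1.2), a.2]
    simp
  choose lam hlam using hlin
  -- the map to characters of degree `d`
  let F : {χ : IrrCharacter G // charDegree (χ : G → ℂ) = 1} →
      {χ : IrrCharacter G // charDegree (χ : G → ℂ) = charDegree (φ : N → ℂ) * I.index} :=
    fun a => ⟨⟨fun g => ((lam a g : ℂˣ) : ℂ) * indFun I (ψ : I → ℂ) g,
      isIrrCharacter_monoidHom_mul (lam a) hχ⟩, by
        apply Cfsg.Agent.Lib.Helper80.charDegree_natCast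
        show ((lam a 1 : ℂˣ) : ℂ) * indFun I (ψ : I → ℂ) 1 = _
        rw [map_one, Units.val_one, one_mul, hχ1]⟩
  have hFfib : ∀ a a₀, F a = F a₀ → I ≤ (lam a / lam a₀).ker := by
    intro a a₀ hF
    apply le_ker_of_mul_ind_eq N I hNI φ.2 hT ψ.2 hres (lam a / lam a₀)
      (le_ker_of_commutator_eq N hperf _)
    intro g
    have h1 : ((lam a g : ℂˣ) : ℂ) * indFun I (ψ : I → ℂ) g =
        ((lam a₀ g : ℂˣ) : ℂ) * indFun I (ψ : I → ℂ) g :=
      congrFun (congrArg (fun b => (b.1.1 : G → ℂ)) hF) g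
    rw [MonoidHom.div_apply, Units.val_div_eq_div_val, div_mul_eq_mul_div, h1]
    exact mul_div_cancel_left₀ _ (Units.ne_zero _)
  -- counting
  have hfinA : Finite {χ : IrrCharacter G // charDegree (χ : G → ℂ) = 1} := inferInstance
  have hfinB : Finite {χ : IrrCharacter G //
      charDegree (χ : G → ℂ) = charDegree (φ : N → ℂ) * I.index} := inferInstance
  have := Fintype.ofFinite {χ : IrrCharacter G // charDegree (χ : G → ℂ) = 1}
  have := Fintype.ofFinite {χ : IrrCharacter G //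
      charDegree (χ : G → ℂ) = charDegree (φ : N → ℂ) * I.index}
  rw [Nat.card_eq_fintype_card, Nat.card_eq_fintype_card, ← Finset.card_univ, ← Finset.card_univ]
  apply Finset.card_le_mul_card_image_of_maps_to (f := F) (fun _ _ => Finset.mem_univ _)
  intro b _
  by_cases hb : ∃ a₀, F a₀ = b
  · obtain ⟨a₀, ha₀⟩ := hb
    obtain ⟨hfin, hcard⟩ := card_monoidHom_trivial_on_le_index I
    refine le_trans ?_ hcard
    rw [← Fintype.card_subtype, ← Nat.card_eq_fintype_card]
    let J : {a // F a = b} → {ν : G →* ℂˣ // I ≤ ν.ker} :=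
      fun a => ⟨lam a.1 / lam a₀, hFfib a.1 a₀ (a.2.trans ha₀.symm)⟩
    apply Nat.card_le_card_of_injective J
    intro a a' haa'
    have h1 : lam a.1 / lam a₀ = lam a'.1 / lam a₀ := congrArg Subtype.val haa'
    have h2 : lam a.1 = lam a'.1 := div_left_injective h1
    apply Subtype.ext
    apply Subtype.ext
    apply Subtype.ext
    funext g
    rw [hlam a.1 g, hlam a'.1 g, h2]
  · have : (Finset.univ.filter (fun a => F a = b)) = ∅ := by
      apply Finset.filter_eq_empty_iff.mpr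
      intro a _ ha
      exact hb ⟨a, ha⟩
    rw [this]
    simp

end Cfsg.Agent.S4870
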