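import Cfsg.Statements.S4871
-- import your own Cfsg.Agent.* helpers here
import Cfsg.Agent.Lib.Helper75.Clifford2
import Cfsg.Agent.Lib.Helper15.Gallagher
import Cfsg.Agent.Lib.Helper77.Linear
import Cfsg.Agent.Lib.Helper81.Gallagher
import Cfsg.Agent.Lib.Helper78.CharOrtho
import Cfsg.Agent.Lib.Helper78.CharValues

set_option autoImplicit false
open Cfsg

namespace Cfsg.Agent.S4871

open scoped ComplexConjugate
open Cfsg.Agent.Lib.Helper75 Cfsg.Agent.Lib.Helper78

section Decomp

variable {G : Type*} [Group G] (N P : Subgroup G) [hN : N.Normal]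

theorem exists_decomp (hprod : N ⊔ P = ⊤) (g : G) : ∃ n ∈ N, ∃ h ∈ P, g = n * h := by
  have hg : g ∈ N ⊔ P := by rw [hprod]; trivial
  rw [← SetLike.mem_coe, Subgroup.normal_mul] at hg
  obtain ⟨n, hn, h, hh, rfl⟩ := Set.mem_mul.mp hg
  exact ⟨n, hn, h, hh, rfl⟩

omit hN in
theorem decomp_unique (hdisj : N ⊓ P = ⊥) {n n' h h' : G} (hn : n ∈ N) (hn' : n' ∈ N)
    (hh : h ∈ P) (hh' : h' ∈ P) (e : n * h = n' * h') : n = n' ∧ h = h' := by
  have h1 : n'⁻¹ * n = h' * h⁻¹ := by
    have : n'⁻¹ * (n * h) * h⁻¹ = n'⁻¹ * (n' * h') * h⁻¹ := by rw [e]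
    simpa [mul_assoc] using this
  have h2 : n'⁻¹ * n ∈ N ⊓ P :=
    ⟨N.mul_mem (N.inv_mem hn') hn, by rw [h1]; exact P.mul_mem hh' (P.inv_mem hh)⟩
  rw [hdisj, Subgroup.mem_bot] at h2
  have h3 : n = n' := by
    have := inv_mul_eq_one.mp h2
    exact this.symm
  refine ⟨h3, ?_⟩
  subst h3
  exact mul_left_cancel e

/-- The `N`-part of an element of `G = N P`. -/
noncomputable def nP (hprod : N ⊔ P = ⊤) (g : G) : N :=
  ⟨(exists_decomp N P hprod g).choose, (exists_decomp N P hprod g).choose_spec.1⟩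

/-- The `P`-part of an element of `G = N P`. -/
noncomputable def hP (hprod : N ⊔ P = ⊤) (g : G) : P :=
  ⟨(exists_decomp N P hprod g).choose_spec.2.choose,
    (exists_decomp N P hprod g).choose_spec.2.choose_spec.1⟩

theorem nP_mul_hP (hprod : N ⊔ P = ⊤) (g : G) : (nP N P hprod g : G) * (hP N P hprod g : G) = g :=
  (exists_decomp N P hprod g).choose_spec.2.choose_spec.2.symm

theorem nP_eq (hprod : N ⊔ P = ⊤) (hdisj : N ⊓ P = ⊥) {n h : G} (hn : n ∈ N) (hh : h ∈ P) :
    nP N P hprod (n * h) = ⟨n, hn⟩ := by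
  have e := nP_mul_hP N P hprod (n * h)
  have := (decomp_unique N P hdisj (nP N P hprod (n * h)).2 hn (hP N P hprod (n * h)).2 hh e).1
  exact Subtype.ext this

theorem hP_eq (hprod : N ⊔ P = ⊤) (hdisj : N ⊓ P = ⊥) {n h : G} (hn : n ∈ N) (hh : h ∈ P) :
    hP N P hprod (n * h) = ⟨h, hh⟩ := by
  have e := nP_mul_hP N P hprod (n * h)
  have := (decomp_unique N P hdisj (nP N P hprod (n * h)).2 hn (hP N P hprod (n * h)).2 hh e).2
  exact Subtype.ext this

/-- The bijection `N × P ≃ G`. -/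
noncomputable def decompEquiv (hprod : N ⊔ P = ⊤) (hdisj : N ⊓ P = ⊥) : N × P ≃ G where
  toFun x := (x.1 : G) * (x.2 : G)
  invFun g := (nP N P hprod g, hP N P hprod g)
  left_inv x := by
    rcases x with ⟨n, h⟩
    simp only
    rw [nP_eq N P hprod hdisj n.2 h.2, hP_eq N P hprod hdisj n.2 h.2]
  right_inv g := nP_mul_hP N P hprod g

end Decomp

section Invert

variable {G : Type*} [Group G] [Finite G] (N P : Subgroup G) [hN : N.Normal]

/-- A central involution of the `2`-group `P` inverts the odd-order minimal normal subgroup `N`. -/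
theorem exists_inverting (q : ℕ) (hNel : Cfsg.IsElementaryAbelian q N)
    (hP : IsPGroup 2 ↥P) (hP1 : P ≠ ⊥) (hdisj : N ⊓ P = ⊥) (hprod : N ⊔ P = ⊤)
    (hmin : N ≠ ⊥ ∧ ∀ M : Subgroup G, M.Normal → M ≠ ⊥ → N ≤ M) :
    ∃ z ∈ P, ∀ n ∈ N, z * n * z⁻¹ = n⁻¹ := by
  classical
  have hNcomm : ∀ a ∈ N, ∀ b ∈ N, a * b = b * a := by
    intro a ha b hb
    have h := hNel.1.is_comm.comm (⟨a, ha⟩ : N) ⟨b, hb⟩
    exact congrArg Subtype.val h
  -- a central involution of P
  have hPnt : Nontrivial ↥P := by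
    rw [Subgroup.nontrivial_iff_ne_bot]; exact hP1
  have hcnt : Nontrivial ↥(Subgroup.center ↥P) := hP.center_nontrivial
  have hcP : IsPGroup 2 ↥(Subgroup.center ↥P) := hP.to_subgroup _
  obtain ⟨k, hk⟩ := hcP.exists_card_eq
  have hk0 : k ≠ 0 := by
    rintro rfl
    have h1 : Nat.card ↥(Subgroup.center ↥P) = 1 := by simpa using hk
    have := Finite.one_lt_card_iff_nontrivial.mpr hcnt
    omega
  have h2dvd : 2 ∣ Nat.card ↥(Subgroup.center ↥P) := by
    rw [hk]; exact dvd_pow_self 2 hk0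
  obtain ⟨z₀, hz₀⟩ := exists_prime_orderOf_dvd_card' 2 h2dvd
  set z : G := ((z₀ : ↥P) : G) with hzdef
  have hzP : z ∈ P := (z₀ : ↥P).2
  have hz2 : z * z = 1 := by
    have h1 : z₀ ^ 2 = 1 := by rw [← hz₀]; exact pow_orderOf_eq_one z₀
    have h2 : ((z₀ ^ 2 : ↥(Subgroup.center ↥P)) : ↥P) = 1 := by rw [h1]; rfl
    have h3 : (((z₀ ^ 2 : ↥(Subgroup.center ↥P)) : ↥P) : G) = 1 := by rw [h2]; rfl
    simpa [pow_two] using h3
  have hz1 : z ≠ 1 := by
    intro h
    have h1 : z₀ = 1 := by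
      apply Subtype.ext; apply Subtype.ext; exact h
    rw [h1, orderOf_one] at hz₀
    omega
  have hzc : ∀ h ∈ P, h * z = z * h := by
    intro h hh
    have := Subgroup.mem_center_iff.mp z₀.2 ⟨h, hh⟩
    exact congrArg Subtype.val this
  have hzinv : z⁻¹ = z := inv_eq_of_mul_eq_one_left hz2
  -- the centralizer of z in N is normal in G
  let C : Subgroup G := N ⊓ Subgroup.centralizer {z}
  have hCn : C.Normal := by
    constructor
    intro c hc g
    obtain ⟨n, hn, h, hh, rfl⟩ := exists_decomp N P hprod g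
    have hcN : c ∈ N := hc.1
    have hcz : c * z = z * c := by
      have := Subgroup.mem_centralizer_singleton_iff.mp hc.2
      exact this
    have h1 : h * c * h⁻¹ ∈ N := hN.conj_mem c hcN h
    have h2 : (h * c * h⁻¹) * z = z * (h * c * h⁻¹) := by
      have e1 : h⁻¹ * z = z * h⁻¹ := by
        have := hzc h⁻¹ (P.inv_mem hh)
        exact this
      calc h * c * h⁻¹ * z = h * c * (h⁻¹ * z) := by group
        _ = h * c * (z * h⁻¹) := by rw [e1]
        _ = h * (c * z) * h⁻¹ := by group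
        _ = h * (z * c) * h⁻¹ := by rw [hcz]
        _ = (h * z) * c * h⁻¹ := by group
        _ = (z * h) * c * h⁻¹ := by rw [hzc h hh]
        _ = z * (h * c * h⁻¹) := by group
    have h3 : n * h * c * (n * h)⁻¹ = h * c * h⁻¹ := by
      have := hNcomm n hn (h * c * h⁻¹) h1
      calc n * h * c * (n * h)⁻¹ = n * (h * c * h⁻¹) * n⁻¹ := by group
        _ = (h * c * h⁻¹) * n * n⁻¹ := by rw [this]
        _ = h * c * h⁻¹ := by group
    rw [h3]
    exact ⟨h1, Subgroup.mem_centralizer_singleton_iff.mpr h2⟩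
  have hCbot : C = ⊥ := by
    by_contra hne
    have hNC : N ≤ C := hmin.2 C hCn hne
    -- z is central in G
    have hzN : ∀ n ∈ N, n * z = z * n := by
      intro n hn
      exact Subgroup.mem_centralizer_singleton_iff.mp (hNC hn).2
    have hZn : (Subgroup.zpowers z).Normal := by
      constructor
      intro x hx g
      obtain ⟨n, hn, h, hh, rfl⟩ := exists_decomp N P hprod g
      obtain ⟨k, rfl⟩ := Subgroup.mem_zpowers_iff.mp hx
      have hcomm : (n * h) * z = z * (n * h) := by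
        calc n * h * z = n * (h * z) := by group
          _ = n * (z * h) := by rw [hzc h hh]
          _ = (n * z) * h := by group
          _ = (z * n) * h := by rw [hzN n hn]
          _ = z * (n * h) := by group
      have hc2 : Commute (n * h) (z ^ k) := (Commute.zpow_right hcomm k)
      have : n * h * z ^ k * (n * h)⁻¹ = z ^ k := by
        rw [hc2.eq]; group
      rw [this]
      exact Subgroup.zpow_mem_zpowers z k
    have hZne : Subgroup.zpowers z ≠ ⊥ := by
      intro h
      exact hz1 (Subgroup.zpowers_eq_bot.mp h)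
    have hNZ : N ≤ Subgroup.zpowers z := hmin.2 _ hZn hZne
    obtain ⟨n, hn, hn1⟩ : ∃ n ∈ N, n ≠ 1 := by
      by_contra hcon
      push Not at hcon
      apply hmin.1
      rw [Subgroup.eq_bot_iff_forall]
      exact hcon
    obtain ⟨k, hk⟩ := Subgroup.mem_zpowers_iff.mp (hNZ hn)
    have hnP : n ∈ P := by
      rw [← hk]; exact P.zpow_mem hzP k
    have : n ∈ N ⊓ P := ⟨hn, hnP⟩
    rw [hdisj, Subgroup.mem_bot] at this
    exact hn1 this
  refine ⟨z, hzP, ?_⟩
  intro n hn
  have h1 : z * n * z⁻¹ ∈ N := hN.conj_mem n hn z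
  have hw : n * (z * n * z⁻¹) ∈ C := by
    refine ⟨N.mul_mem hn h1, Subgroup.mem_centralizer_singleton_iff.mpr ?_⟩
    have hc := hNcomm n hn (z * n * z⁻¹) h1
    rw [hzinv] at hc ⊢
    calc n * (z * n * z) * z = n * z * n * (z * z) := by group
      _ = n * z * n := by rw [hz2, mul_one]
      _ = (z * z) * n * z * n := by rw [hz2, one_mul]
      _ = z * ((z * n * z) * n) := by group
      _ = z * (n * (z * n * z)) := by rw [hc]
  rw [hCbot, Subgroup.mem_bot] at hw
  exact (eq_inv_of_mul_eq_one_right hw)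

end Invert

section Inertia

variable {G : Type*} [Group G] (N P : Subgroup G) [hN : N.Normal]

/-- The inertia group of a linear character of the normal subgroup `N`. -/
def inertia (lam : N →* ℂˣ) : Subgroup G where
  carrier := {g | ∀ n : N, lam ⟨g * n * g⁻¹, hN.conj_mem n n.2 g⟩ = lam n}
  one_mem' := by
    intro n
    congr 1
    apply Subtype.ext
    simp
  mul_mem' := by
    intro a b ha hb n
    have h1 := hb n
    have h2 := ha ⟨b * n * b⁻¹, hN.conj_mem n n.2 b⟩
    rw [← h1, ← h2]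
    congr 1
    apply Subtype.ext
    simp [mul_assoc]
  inv_mem' := by
    intro a ha n
    have h1 := ha ⟨a⁻¹ * n * a⁻¹⁻¹, hN.conj_mem n n.2 a⁻¹⟩
    rw [← h1]
    congr 1
    apply Subtype.ext
    simp [mul_assoc]

theorem mem_inertia (lam : N →* ℂˣ) (g : G) :
    g ∈ inertia N lam ↔ ∀ n : N, lam ⟨g * n * g⁻¹, hN.conj_mem n n.2 g⟩ = lam n := Iff.rfl

theorem le_inertia (hNcomm : ∀ a ∈ N, ∀ b ∈ N, a * b = b * a) (lam : N →* ℂˣ) :
    N ≤ inertia N lam := by
  intro m hm n
  congr 1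
  apply Subtype.ext
  simp only
  rw [hNcomm m hm n n.2]
  group

theorem mem_inertia_iff_conjFun (lam : N →* ℂˣ) (g : G) :
    g ∈ inertia N lam ↔ conjFun N g (fun n : N => ((lam n : ℂˣ) : ℂ)) = fun n : N => ((lam n : ℂˣ) : ℂ) := by
  rw [mem_inertia]
  constructor
  · intro h
    funext n
    rw [conjFun_apply, h n]
  · intro h n
    have := congrFun h n
    rw [conjFun_apply] at this
    exact Units.ext this

/-- The extension of `lam` to its inertia group, trivial on the `P`-part. -/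
noncomputable def lamHat (hprod : N ⊔ P = ⊤) (hdisj : N ⊓ P = ⊥)
    (hNcomm : ∀ a ∈ N, ∀ b ∈ N, a * b = b * a) (lam : N →* ℂˣ) :
    ↥(inertia N lam) →* ℂˣ where
  toFun t := lam (nP N P hprod (t : G))
  map_one' := by
    have : nP N P hprod ((1 : ↥(inertia N lam)) : G) = 1 := by
      have h := nP_eq N P hprod hdisj (N.one_mem) (P.one_mem)
      rw [mul_one] at h
      rw [Subgroup.coe_one, h]; rfl
    rw [this, map_one]
  map_mul' := by
    intro t t'
    set n := nP N P hprod (t : G)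
    set h := hP N P hprod (t : G)
    set n' := nP N P hprod (t' : G)
    set h' := hP N P hprod (t' : G)
    have e1 : (n : G) * h = t := nP_mul_hP N P hprod t
    have e2 : (n' : G) * h' = t' := nP_mul_hP N P hprod t'
    have hhT : (h : G) ∈ inertia N lam := by
      have : (h : G) = (n : G)⁻¹ * t := by rw [← e1]; group
      rw [this]
      exact (inertia N lam).mul_mem ((inertia N lam).inv_mem (le_inertia N hNcomm lam n.2)) t.2
    have hc : (h : G) * n' * (h : G)⁻¹ ∈ N := hN.conj_mem n' n'.2 h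
    have e3 : ((t * t' : ↥(inertia N lam)) : G)
        = ((n : G) * ((h : G) * n' * (h : G)⁻¹)) * ((h : G) * h') := by
      rw [Subgroup.coe_mul, ← e1, ← e2]; group
    have e4 : nP N P hprod ((t * t' : ↥(inertia N lam)) : G)
        = n * ⟨(h : G) * n' * (h : G)⁻¹, hc⟩ := by
      rw [e3, nP_eq N P hprod hdisj (N.mul_mem n.2 hc) (P.mul_mem h.2 h'.2)]
      rfl
    rw [e4, map_mul, hhT n']

theorem lamHat_apply (hprod : N ⊔ P = ⊤) (hdisj : N ⊓ P = ⊥)
    (hNcomm : ∀ a ∈ N, ∀ b ∈ N, a * b = b * a) (lam : N →* ℂˣ) (t : ↥(inertia N lam)) :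
    lamHat N P hprod hdisj hNcomm lam t = lam (nP N P hprod (t : G)) := rfl

end Inertia

section FS

variable {G : Type*} [Group G] [Fintype G]

/-- The Frobenius–Schur sum of an induced function. -/
theorem fs_indFun (H : Subgroup G) (φ : H → ℂ) :
    (Nat.card G : ℂ)⁻¹ * ∑ g : G, indFun H φ (g * g)
      = (Nat.card H : ℂ)⁻¹ * ∑ g : G, extendByZero H φ (g * g) := by
  have h1 : ∀ x : G, ∑ g : G, extendByZero H φ (x⁻¹ * (g * g) * x)
      = ∑ g : G, extendByZero H φ (g * g) := by
    intro x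
    have h2 : ∀ g : G, x⁻¹ * (g * g) * x = (x⁻¹ * g * x) * (x⁻¹ * g * x) := by
      intro g; group
    simp_rw [h2]
    exact Equiv.sum_comp ((Equiv.mulLeft x⁻¹).trans (Equiv.mulRight x))
      (fun g => extendByZero H φ (g * g))
  have hG : (Nat.card G : ℂ) ≠ 0 := by
    exact_mod_cast (Nat.card_pos (α := G)).ne'
  unfold indFun
  rw [← Finset.mul_sum, Finset.sum_comm]
  simp_rw [h1]
  rw [Finset.sum_const, Finset.card_univ, nsmul_eq_mul, ← Nat.card_eq_fintype_card]
  field_simp

end FS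

section Chi0

variable {G : Type*} [Group G] (N P : Subgroup G) [hN : N.Normal]

/-- The conjugate of a linear character of `N` by an element of `G`. -/
noncomputable def lamc (lam : N →* ℂˣ) (g : G) : N →* ℂˣ :=
  lam.comp (MulAut.conjNormal g : MulAut N).toMonoidHom

theorem lamc_apply (lam : N →* ℂˣ) (g : G) (n : N) :
    lamc N lam g n = lam ⟨g * n * g⁻¹, hN.conj_mem n n.2 g⟩ := by
  unfold lamc
  rw [MonoidHom.comp_apply]
  congr 1

theorem mem_inertia_iff_lamc (lam : N →* ℂˣ) (g : G) :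
    g ∈ inertia N lam ↔ lamc N lam g = lam := by
  rw [mem_inertia]
  constructor
  · intro h
    ext n
    rw [lamc_apply, h n]
  · intro h n
    rw [← lamc_apply, h]

theorem lamc_mul (lam : N →* ℂˣ) (g g' : G) :
    lamc N lam (g * g') = lamc N (lamc N lam g) g' := by
  ext n
  rw [lamc_apply, lamc_apply, lamc_apply]
  congr 2
  apply Subtype.ext
  simp [mul_assoc]

variable (hprod : N ⊔ P = ⊤) (hdisj : N ⊓ P = ⊥) (hNcomm : ∀ a ∈ N, ∀ b ∈ N, a * b = b * a)

include hprod hdisj hNcomm in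
/-- The inner sum in the Frobenius–Schur computation. -/
theorem inner_sum [Fintype N] [DecidableEq (N →* ℂˣ)] (lam : N →* ℂˣ) (h : P) :
    ∑ n : N, extendByZero (inertia N lam)
        (fun t => ((lamHat N P hprod hdisj hNcomm lam t : ℂˣ) : ℂ))
        (((n : G) * (h : G)) * ((n : G) * (h : G)))
      = if lam * lamc N lam (h : G) = 1 then (Nat.card N : ℂ) else 0 := by
  classical
  have hsq : lam * lamc N lam (h : G) = 1 → (h : G) * (h : G) ∈ inertia N lam := by
    intro hA
    rw [mem_inertia_iff_lamc, lamc_mul]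
    have h1 : lamc N lam (h : G) = lam⁻¹ := by
      ext n
      have h2 := congrArg (fun f : N →* ℂˣ => f n) hA
      simp only [MonoidHom.mul_apply, MonoidHom.one_apply] at h2
      rw [MonoidHom.inv_apply, eq_inv_of_mul_eq_one_right h2]
    rw [h1]
    ext n
    rw [lamc_apply, MonoidHom.inv_apply, ← lamc_apply, h1, MonoidHom.inv_apply, inv_inv]
  have hdec : ∀ n : N, ((n : G) * (h : G)) * ((n : G) * (h : G))
      = ((n : G) * ((h : G) * n * (h : G)⁻¹)) * ((h : G) * (h : G)) := by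
    intro n; group
  by_cases hT : (h : G) * (h : G) ∈ inertia N lam
  · have hval : ∀ n : N, extendByZero (inertia N lam)
        (fun t => ((lamHat N P hprod hdisj hNcomm lam t : ℂˣ) : ℂ))
        (((n : G) * (h : G)) * ((n : G) * (h : G)))
        = (((lam * lamc N lam (h : G)) n : ℂˣ) : ℂ) := by
      intro n
      have hc : (h : G) * n * (h : G)⁻¹ ∈ N := hN.conj_mem n n.2 h
      have hmem : ((n : G) * (h : G)) * ((n : G) * (h : G)) ∈ inertia N lam := by
        rw [hdec]
        exact (inertia N lam).mul_mem (le_inertia N hNcomm lam (N.mul_mem n.2 hc)) hT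
      rw [extendByZero_of_mem _ _ hmem]
      simp only [lamHat_apply]
      have e : nP N P hprod (((n : G) * (h : G)) * ((n : G) * (h : G)))
          = n * ⟨(h : G) * n * (h : G)⁻¹, hc⟩ := by
        rw [hdec, nP_eq N P hprod hdisj (N.mul_mem n.2 hc) (P.mul_mem h.2 h.2)]
        rfl
      rw [e, map_mul, MonoidHom.mul_apply, lamc_apply]
    simp_rw [hval]
    by_cases hA : lam * lamc N lam (h : G) = 1
    · rw [if_pos hA, hA]
      simp [Nat.card_eq_fintype_card]
    · rw [if_neg hA]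
      have hne : (Units.coeHom ℂ).comp (lam * lamc N lam (h : G)) ≠ 1 := by
        intro h1
        apply hA
        ext n
        have := congrArg (fun f : N →* ℂ => f n) h1
        simpa using this
      have := sum_hom_units_eq_zero _ hne
      simpa using this
  · have hA : ¬ (lam * lamc N lam (h : G) = 1) := fun hA => hT (hsq hA)
    rw [if_neg hA]
    apply Finset.sum_eq_zero
    intro n _
    apply extendByZero_of_not_mem
    intro hmem
    apply hT
    have hc : (h : G) * n * (h : G)⁻¹ ∈ N := hN.conj_mem n n.2 h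
    have : (h : G) * (h : G) = ((n : G) * ((h : G) * n * (h : G)⁻¹))⁻¹
        * (((n : G) * (h : G)) * ((n : G) * (h : G))) := by group
    rw [this]
    exact (inertia N lam).mul_mem
      ((inertia N lam).inv_mem (le_inertia N hNcomm lam (N.mul_mem n.2 hc))) hmem

include hprod hdisj hNcomm in
/-- The order of the inertia group. -/
theorem card_inertia [Fintype P] (lam : N →* ℂˣ)
    [DecidablePred (fun h : P => (h : G) ∈ inertia N lam)] :
    Nat.card ↥(inertia N lam)
      = Nat.card N * (Finset.univ.filter (fun h : P => (h : G) ∈ inertia N lam)).card := by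
  classical
  let e : ↥(inertia N lam) ≃ N × {h : P // (h : G) ∈ inertia N lam} :=
    { toFun := fun t => (nP N P hprod (t : G), ⟨hP N P hprod (t : G), by
        have e1 : (nP N P hprod (t : G) : G) * hP N P hprod (t : G) = t := nP_mul_hP N P hprod t
        have : (hP N P hprod (t : G) : G) = (nP N P hprod (t : G) : G)⁻¹ * t :=
          eq_inv_mul_of_mul_eq e1
        rw [this]
        exact (inertia N lam).mul_mem
          ((inertia N lam).inv_mem (le_inertia N hNcomm lam (nP N P hprod (t : G)).2)) t.2⟩)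
      invFun := fun x => ⟨(x.1 : G) * (x.2.1 : G),
        (inertia N lam).mul_mem (le_inertia N hNcomm lam x.1.2) x.2.2⟩
      left_inv := by
        intro t
        apply Subtype.ext
        exact nP_mul_hP N P hprod t
      right_inv := by
        rintro ⟨n, ⟨h, hh⟩⟩
        apply Prod.ext
        · exact nP_eq N P hprod hdisj n.2 h.2
        · apply Subtype.ext
          exact hP_eq N P hprod hdisj n.2 h.2 }
  rw [Nat.card_congr e, Nat.card_prod, Nat.card_eq_fintype_card (α := {h : P // (h : G) ∈ inertia N lam}),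
    Fintype.card_subtype]

include hprod hdisj hNcomm in
/-- The induced character from the inertia group has Frobenius–Schur indicator `1`. -/
theorem fs_chi0 [Fintype G] [Fintype N] [Fintype P] (lam : N →* ℂˣ) (z : G) (hzP : z ∈ P)
    (hz : ∀ n ∈ N, z * n * z⁻¹ = n⁻¹) :
    (Nat.card G : ℂ)⁻¹ * ∑ g : G, indFun (inertia N lam)
      (fun t => ((lamHat N P hprod hdisj hNcomm lam t : ℂˣ) : ℂ)) (g * g) = 1 := by
  classical
  rw [fs_indFun]
  have h1 : ∑ g : G, extendByZero (inertia N lam)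
      (fun t => ((lamHat N P hprod hdisj hNcomm lam t : ℂˣ) : ℂ)) (g * g)
      = ∑ x : N × P, extendByZero (inertia N lam)
      (fun t => ((lamHat N P hprod hdisj hNcomm lam t : ℂˣ) : ℂ))
        (((x.1 : G) * (x.2 : G)) * ((x.1 : G) * (x.2 : G))) :=
    ((decompEquiv N P hprod hdisj).sum_comp (fun g => extendByZero (inertia N lam)
      (fun t => ((lamHat N P hprod hdisj hNcomm lam t : ℂˣ) : ℂ)) (g * g))).symm
  rw [h1, Fintype.sum_prod_type_right]
  simp_rw [inner_sum N P hprod hdisj hNcomm lam]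
  rw [Finset.sum_ite, Finset.sum_const_zero, add_zero, Finset.sum_const, nsmul_eq_mul]
  -- the inverting element gives a bijection
  have hzl : lamc N lam z = lam⁻¹ := by
    ext n
    rw [lamc_apply, MonoidHom.inv_apply]
    have : (⟨z * n * z⁻¹, hN.conj_mem n n.2 z⟩ : N) = n⁻¹ := Subtype.ext (hz n n.2)
    rw [this, map_inv]
  have hAiff : ∀ h : P, lam * lamc N lam (z * (h : G)) = 1 ↔ (h : G) ∈ inertia N lam := by
    intro h
    rw [lamc_mul, hzl, mem_inertia_iff_lamc]
    have h2 : lamc N lam⁻¹ (h : G) = (lamc N lam (h : G))⁻¹ := by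
      ext n
      rw [lamc_apply, MonoidHom.inv_apply, MonoidHom.inv_apply, lamc_apply]
    rw [h2]
    constructor
    · intro h3
      ext n
      have h4 := congrArg (fun f : N →* ℂˣ => f n) h3
      simp only [MonoidHom.mul_apply, MonoidHom.inv_apply, MonoidHom.one_apply] at h4
      rw [mul_inv_eq_one] at h4
      rw [h4]
    · intro h3
      rw [h3]
      ext n
      simp
  have hcard : (Finset.univ.filter (fun h : P => lam * lamc N lam (h : G) = 1)).card
      = (Finset.univ.filter (fun h : P => (h : G) ∈ inertia N lam)).card := by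
    symm
    apply Finset.card_bij (fun h _ => (⟨z, hzP⟩ : P) * h)
    · intro h hh
      rw [Finset.mem_filter] at hh ⊢
      refine ⟨Finset.mem_univ _, ?_⟩
      rw [Subgroup.coe_mul]
      exact (hAiff h).mpr hh.2
    · intro a _ b _ hab
      exact mul_left_cancel hab
    · intro b hb
      rw [Finset.mem_filter] at hb
      refine ⟨(⟨z, hzP⟩ : P)⁻¹ * b, ?_, by group⟩
      rw [Finset.mem_filter]
      refine ⟨Finset.mem_univ _, ?_⟩
      rw [← hAiff]
      have : z * ((((⟨z, hzP⟩ : P)⁻¹ * b : P)) : G) = (b : G) := by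
        rw [Subgroup.coe_mul, Subgroup.coe_inv]; simp
      rw [this]
      exact hb.2
  rw [hcard, card_inertia N P hprod hdisj hNcomm lam]
  have hN0 : (Nat.card N : ℂ) ≠ 0 := by exact_mod_cast (Nat.card_pos (α := N)).ne'
  have hc0 : ((Finset.univ.filter (fun h : P => (h : G) ∈ inertia N lam)).card : ℂ) ≠ 0 := by
    have : (⟨1, P.one_mem⟩ : P) ∈ Finset.univ.filter (fun h : P => (h : G) ∈ inertia N lam) := by
      rw [Finset.mem_filter]
      exact ⟨Finset.mem_univ _, (inertia N lam).one_mem⟩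
    exact_mod_cast (Finset.card_pos.mpr ⟨_, this⟩).ne'
  push_cast
  field_simp

end Chi0

section Count

variable {G : Type*} [Group G] [Fintype G]

/-- At most `[G : T]` irreducible characters are identically `1` on the subgroup `T`. -/
theorem card_trivial_on_le_index (T : Subgroup G)
    [DecidablePred (fun ξ : IrrCharacter G => ∀ t ∈ T, (ξ : G → ℂ) t = 1)] :
    (Finset.univ.filter (fun ξ : IrrCharacter G => ∀ t ∈ T, (ξ : G → ℂ) t = 1)).card
      ≤ T.index := by
  classical
  set Ξ := Finset.univ.filter (fun ξ : IrrCharacter G => ∀ t ∈ T, (ξ : G → ℂ) t = 1) with hΞ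
  set k := Ξ.card with hk
  let F : G → ℂ := fun g => ∑ ξ ∈ Ξ, (ξ : G → ℂ) g
  have hF : F = ∑ ξ ∈ Ξ, (ξ : G → ℂ) := by
    funext g; simp [F, Finset.sum_apply]
  -- norm of F
  have h1 : classInner F F = (k : ℂ) := by
    rw [hF, classInner_sum_left]
    have : ∀ ξ ∈ Ξ, classInner (ξ : G → ℂ) (∑ ξ' ∈ Ξ, (ξ' : G → ℂ)) = 1 := by
      intro ξ hξ
      rw [← classInner_conj_symm, classInner_sum_left]
      rw [Finset.sum_eq_single ξ]
      · rw [classInner_irr_self ξ.2, map_one]
      · intro ξ' _ hne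
        exact classInner_irr_ne ξ'.2 ξ.2 (fun h => hne (Subtype.ext h))
      · intro h; exact absurd hξ h
    rw [Finset.sum_congr rfl this]
    simp [hk]
  -- lower bound
  have hFT : ∀ t ∈ T, F t = (k : ℂ) := by
    intro t ht
    have : ∀ ξ ∈ Ξ, (ξ : G → ℂ) t = 1 := by
      intro ξ hξ
      rw [hΞ, Finset.mem_filter] at hξ
      exact hξ.2 t ht
    simp only [F]
    rw [Finset.sum_congr rfl this]
    simp [hk]
  have h2 : ((k : ℝ)) = (Nat.card G : ℝ)⁻¹ * ∑ g : G, Complex.normSq (F g) := by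
    have := congrArg Complex.re h1
    rw [Complex.natCast_re] at this
    rw [← this]
    unfold classInner
    have hcast : ((Nat.card G : ℂ)⁻¹) = (((Nat.card G : ℝ)⁻¹ : ℝ) : ℂ) := by push_cast; rfl
    rw [hcast, Complex.re_ofReal_mul, Complex.re_sum]
    congr 1
    apply Finset.sum_congr rfl
    intro g _
    rw [Complex.mul_conj]
    exact Complex.ofReal_re _
  have h3 : (Nat.card T : ℝ) * (k : ℝ) ^ 2 ≤ ∑ g : G, Complex.normSq (F g) := by
    have hsub : ∑ g ∈ Finset.univ.filter (fun g : G => g ∈ T), Complex.normSq (F g)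
        ≤ ∑ g : G, Complex.normSq (F g) :=
      Finset.sum_le_sum_of_subset_of_nonneg (Finset.filter_subset _ _)
        (fun g _ _ => Complex.normSq_nonneg _)
    refine le_trans ?_ hsub
    have : ∀ g ∈ Finset.univ.filter (fun g : G => g ∈ T), Complex.normSq (F g) = (k : ℝ) ^ 2 := by
      intro g hg
      rw [Finset.mem_filter] at hg
      rw [hFT g hg.2, Complex.normSq_natCast, pow_two]
    rw [Finset.sum_congr rfl this, Finset.sum_const, nsmul_eq_mul]
    have hc : (Finset.univ.filter (fun g : G => g ∈ T)).card = Nat.card T := by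
      rw [Nat.card_eq_fintype_card, Fintype.card_subtype]
    rw [hc]
  have hG : (0 : ℝ) < (Nat.card G : ℝ) := by exact_mod_cast Nat.card_pos (α := G)
  have h4 : (Nat.card T : ℝ) * (k : ℝ) ^ 2 ≤ (Nat.card G : ℝ) * (k : ℝ) := by
    have : ∑ g : G, Complex.normSq (F g) = (Nat.card G : ℝ) * (k : ℝ) := by
      rw [h2]; field_simp
    rw [← this]; exact h3
  by_cases hk0 : k = 0
  · rw [hk0]; exact Nat.zero_le _
  · have hkpos : (0 : ℝ) < (k : ℝ) := by exact_mod_cast Nat.pos_of_ne_zero hk0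
    have h5 : (Nat.card T : ℝ) * (k : ℝ) ≤ (Nat.card G : ℝ) := by
      have : (Nat.card T : ℝ) * (k : ℝ) * (k : ℝ) ≤ (Nat.card G : ℝ) * (k : ℝ) := by
        calc (Nat.card T : ℝ) * (k : ℝ) * (k : ℝ) = (Nat.card T : ℝ) * (k : ℝ) ^ 2 := by ring
          _ ≤ _ := h4
      exact le_of_mul_le_mul_right this hkpos
    have h6 : Nat.card T * k ≤ Nat.card T * T.index := by
      rw [Subgroup.card_mul_index]
      exact_mod_cast h5
    exact Nat.le_of_mul_le_mul_left h6 Nat.card_pos

end Count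

section Linear

variable {G : Type*} [Group G] [Fintype G]

/-- A linear character with Frobenius–Schur sum `1` has square `1`. -/
theorem hom_sq_eq_one (f : G →* ℂˣ)
    (hν : (Nat.card G : ℂ)⁻¹ * ∑ g : G, ((f (g * g) : ℂˣ) : ℂ) = 1) (g : G) : f g * f g = 1 := by
  classical
  by_contra hne
  have hne' : (Units.coeHom ℂ).comp (f * f) ≠ 1 := by
    intro h1
    apply hne
    have := congrArg (fun φ : G →* ℂ => φ g) h1
    simp only [MonoidHom.comp_apply, MonoidHom.mul_apply, MonoidHom.one_apply] at this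
    exact Units.ext (by simpa using this)
  have h0 := sum_hom_units_eq_zero _ hne'
  have h1 : ∑ g : G, ((f (g * g) : ℂˣ) : ℂ) = 0 := by
    rw [← h0]
    apply Finset.sum_congr rfl
    intro x _
    simp [map_mul]
  rw [h1, mul_zero] at hν
  exact zero_ne_one hν

omit [Fintype G] in
/-- A hom of square one is trivial on elements of odd order. -/
theorem hom_eq_one_of_odd_pow (f : G →* ℂˣ) (hsq : ∀ g : G, f g * f g = 1) (x : G) (q : ℕ)
    (hq : Odd q) (hx : x ^ q = 1) : f x = 1 := by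
  obtain ⟨k, rfl⟩ := hq
  have h1 : f x ^ (2 * k + 1) = 1 := by rw [← map_pow, hx, map_one]
  have h2 : f x ^ 2 = 1 := by rw [pow_two]; exact hsq x
  rw [pow_succ, pow_mul, h2, one_pow, one_mul] at h1
  exact h1

end Linear

section Key

variable {G : Type*} [Group G] [Finite G]

/-- The key character: a strongly real irreducible character of even degree `[G : T]` whose
stabilizer among the real linear characters consists of characters trivial on `T`. -/
theorem exists_chi0 (N P : Subgroup G) (hN : N.Normal) (q : ℕ) [Fact q.Prime] (hq : q ≠ 2)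
    (hNel : Cfsg.IsElementaryAbelian q N) (hP : IsPGroup 2 ↥P) (hP1 : P ≠ ⊥) (hdisj : N ⊓ P = ⊥)
    (hprod : N ⊔ P = ⊤) (hmin : N ≠ ⊥ ∧ ∀ M : Subgroup G, M.Normal → M ≠ ⊥ → N ≤ M) :
    ∃ (T : Subgroup G) (χ₀ : IrrCharacter G), 2 ∣ T.index ∧
      Cfsg.charDegree (χ₀ : G → ℂ) = T.index ∧
      (Nat.card G : ℂ)⁻¹ * ∑ᶠ g : G, (χ₀ : G → ℂ) (g * g) = 1 ∧
      ∀ ξ : G →* ℂˣ, (∀ n ∈ N, ξ n = 1) →
        (fun g => ((ξ g : ℂˣ) : ℂ) * (χ₀ : G → ℂ) g) = (χ₀ : G → ℂ) → ∀ t ∈ T, ξ t = 1 := by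
  classical
  have : Fintype G := Fintype.ofFinite G
  have hqodd : Odd q := (Fact.out : q.Prime).odd_of_ne_two hq
  have hNcomm : ∀ a ∈ N, ∀ b ∈ N, a * b = b * a := by
    intro a ha b hb
    have h := hNel.1.is_comm.comm (⟨a, ha⟩ : N) ⟨b, hb⟩
    exact congrArg Subtype.val h
  obtain ⟨z, hzP, hz⟩ := exists_inverting N P q hNel hP hP1 hdisj hprod hmin
  -- a nontrivial linear character of N
  have hNcg : IsMulCommutative N := hNel.1
  let _ : CommGroup N := { (inferInstance : Group N) with mul_comm := hNcg.is_comm.comm }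
  obtain ⟨n₀, hn₀⟩ : ∃ n : N, n ≠ 1 := by
    by_contra hcon
    push Not at hcon
    apply hmin.1
    rw [Subgroup.eq_bot_iff_forall]
    intro x hx
    exact congrArg Subtype.val (hcon ⟨x, hx⟩)
  obtain ⟨lam, hlam⟩ := CommGroup.exists_apply_ne_one_of_hasEnoughRootsOfUnity N ℂ hn₀
  set T := inertia N lam with hTdef
  have hNT : N ≤ T := le_inertia N hNcomm lam
  let lh := lamHat N P hprod hdisj hNcomm lam
  let θ : N → ℂ := fun n => ((lam n : ℂˣ) : ℂ)
  let ψ : T → ℂ := fun t => ((lh t : ℂˣ) : ℂ)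
  have hθ : IsIrrCharacter N θ := Cfsg.Agent.Lib.Helper77.isIrrCharacter_of_monoidHom lam
  have hψ : IsIrrCharacter T ψ := Cfsg.Agent.Lib.Helper77.isIrrCharacter_of_monoidHom lh
  have hT : ∀ g : G, g ∈ T ↔ conjFun N g θ = θ := fun g => mem_inertia_iff_conjFun N lam g
  have hnPN : ∀ n : N, nP N P hprod (n : G) = n := by
    intro n
    have h := nP_eq N P hprod hdisj n.2 (P.one_mem)
    rw [mul_one] at h
    rw [h]
  have hres : ∀ (ξ : G →* ℂˣ), (∀ n ∈ N, ξ n = 1) →
      resNT N T hNT (fun t : T => ψ t * ((ξ t : ℂˣ) : ℂ)) = θ := by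
    intro ξ hξ
    funext n
    simp only [resNT, ψ, θ, lh, lamHat_apply]
    rw [hnPN n, hξ n n.2]
    simp
  have hres1 : resNT N T hNT ψ = θ := by
    have := hres 1 (fun _ _ => rfl)
    simpa using this
  have hover : classInner (resNT N T hNT ψ) θ ≠ 0 := by
    rw [hres1, classInner_irr_self hθ]; exact one_ne_zero
  have hχ₀ : IsIrrCharacter G (indFun T ψ) :=
    isIrrCharacter_indFun_of_over N T hNT hθ hT hψ hover
  refine ⟨T, ⟨indFun T ψ, hχ₀⟩, ?_, ?_, ?_, ?_⟩
  · -- the index is even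
    have hzT : z ∉ T := by
      intro hzT
      rw [hTdef, mem_inertia_iff_lamc] at hzT
      have h1 := congrArg (fun f : N →* ℂˣ => f n₀) hzT
      simp only [lamc_apply] at h1
      have h2 : (⟨z * n₀ * z⁻¹, hN.conj_mem n₀ n₀.2 z⟩ : N) = n₀⁻¹ := Subtype.ext (hz n₀ n₀.2)
      rw [h2, map_inv] at h1
      have h3 : lam n₀ * lam n₀ = 1 := by
        nth_rewrite 1 [← h1]
        exact inv_mul_cancel _
      have h4 : (n₀ : N) ^ q = 1 := by
        apply Subtype.ext
        rw [Subgroup.coe_pow]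
        exact hNel.2 n₀ n₀.2
      obtain ⟨k, hk⟩ := hqodd
      have h5 : lam n₀ ^ q = 1 := by rw [← map_pow, h4, map_one]
      rw [hk, pow_succ, pow_mul, pow_two, h3, one_pow, one_mul] at h5
      exact hlam h5
    have hT1 : T.index ≠ 1 := by
      intro h
      rw [Subgroup.index_eq_one] at h
      apply hzT
      rw [h]; trivial
    have hdvd : T.index ∣ Nat.card P := by
      have h1 : T.index ∣ N.index := Subgroup.index_dvd_of_le hNT
      have h2 : Nat.card G = Nat.card N * Nat.card P := by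
        rw [← Nat.card_prod]
        exact (Nat.card_congr (decompEquiv N P hprod hdisj)).symm
      have h3 : Nat.card N * N.index = Nat.card G := Subgroup.card_mul_index N
      have h4 : N.index = Nat.card P := by
        rw [h2] at h3
        exact Nat.eq_of_mul_eq_mul_left Nat.card_pos h3
      rwa [h4] at h1
    obtain ⟨k, hk⟩ := hP.exists_card_eq
    rw [hk] at hdvd
    obtain ⟨j, _, hj⟩ := (Nat.dvd_prime_pow Nat.prime_two).mp hdvd
    rw [hj]
    have hj0 : j ≠ 0 := by
      rintro rfl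
      exact hT1 (by rw [hj, pow_zero])
    exact dvd_pow_self 2 hj0
  · -- the degree
    have h1 : indFun T ψ 1 = (T.index : ℂ) := by
      rw [indFun_one]
      simp [ψ]
    change Cfsg.charDegree (indFun T ψ) = T.index
    unfold Cfsg.charDegree
    rw [h1]
    simp
  · -- the indicator
    rw [finsum_eq_sum_of_fintype]
    exact fs_chi0 N P hprod hdisj hNcomm lam z hzP hz
  · -- the stabilizer
    intro ξ hξN hfix t ht
    have hcf : IsClassFunction G (fun g => ((ξ g : ℂˣ) : ℂ)) :=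
      isClassFunction_irr ⟨_, Cfsg.Agent.Lib.Helper77.isIrrCharacter_of_monoidHom ξ⟩
    have h1 := Cfsg.Agent.Lib.Helper15.indFun_mul_res T ψ hcf
    let ξT : T →* ℂˣ := ξ.comp T.subtype
    have hψ' : IsIrrCharacter T (fun t : T => ψ t * ((ξ t : ℂˣ) : ℂ)) := by
      have := Cfsg.Agent.Lib.Helper77.isIrrCharacter_of_monoidHom (lh * ξT)
      convert this using 2
      simp [ψ, ξT]
    have hover' : classInner (resNT N T hNT (fun t : T => ψ t * ((ξ t : ℂˣ) : ℂ))) θ ≠ 0 := by
      rw [hres ξ hξN, classInner_irr_self hθ]; exact one_ne_zero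
    have heq : indFun T ψ = indFun T (fun t : T => ψ t * ((ξ t : ℂˣ) : ℂ)) := by
      rw [h1]
      funext g
      have := congrFun hfix g
      simp only at this
      rw [Pi.mul_apply, mul_comm]
      exact this.symm
    have h2 := indFun_injective_of_over N T hNT hθ hT hψ hψ' hover hover' heq
    have h3 := congrFun h2 ⟨t, ht⟩
    simp only [ψ] at h3
    have h4 : ((lh ⟨t, ht⟩ : ℂˣ) : ℂ) ≠ 0 := Units.ne_zero _
    have h5 : ((ξ t : ℂˣ) : ℂ) = 1 := by
      have : ((lh ⟨t, ht⟩ : ℂˣ) : ℂ) * 1 = ((lh ⟨t, ht⟩ : ℂˣ) : ℂ) * ((ξ t : ℂˣ) : ℂ) := by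
        rw [mul_one]; exact h3
      exact (mul_left_cancel₀ h4 this).symm
    exact Units.ext h5

end Key

section Final

variable {G : Type*} [Group G] [Fintype G]

/-- Data attached to a real linear character. -/
theorem lin_data (μ : IrrCharacter G) (h1 : Cfsg.charDegree (μ : G → ℂ) = 1)
    (hν : (Nat.card G : ℂ)⁻¹ * ∑ᶠ g : G, (μ : G → ℂ) (g * g) = 1) (N : Subgroup G) (q : ℕ)
    (hqodd : Odd q) (hNq : ∀ a ∈ N, a ^ q = 1) :
    ∃ f : G →* ℂˣ, (∀ g, (μ : G → ℂ) g = ((f g : ℂˣ) : ℂ)) ∧ (∀ g, f g * f g = 1) ∧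
      ∀ n ∈ N, f n = 1 := by
  have hc : IsCharacter G (μ : G → ℂ) := IsIrrCharacter.isCharacter μ.2
  have h11 : (μ : G → ℂ) 1 = 1 := by
    rw [IsCharacter.apply_one_eq_charDegree hc, h1]; simp
  obtain ⟨f, hf⟩ := Cfsg.Agent.Lib.Helper77.exists_monoidHom_of_degree_one hc h11
  have hsq : ∀ g, f g * f g = 1 := by
    apply hom_sq_eq_one f
    rw [finsum_eq_sum_of_fintype] at hν
    rw [← hν]
    congr 1
    apply Finset.sum_congr rfl
    intro g _
    rw [hf]
  exact ⟨f, hf, hsq, fun n hn => hom_eq_one_of_odd_pow f hsq n q hqodd (hNq n hn)⟩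

/-- Twisting by a real linear character preserves irreducibility, degree and indicator. -/
theorem twist_props (f : G →* ℂˣ) (hsq : ∀ g, f g * f g = 1) (χ : IrrCharacter G) :
    IsIrrCharacter G (fun g => ((f g : ℂˣ) : ℂ) * (χ : G → ℂ) g) ∧
    Cfsg.charDegree (fun g => ((f g : ℂˣ) : ℂ) * (χ : G → ℂ) g) = Cfsg.charDegree (χ : G → ℂ) ∧
    (Nat.card G : ℂ)⁻¹ * ∑ᶠ g : G, (fun g => ((f g : ℂˣ) : ℂ) * (χ : G → ℂ) g) (g * g)
      = (Nat.card G : ℂ)⁻¹ * ∑ᶠ g : G, (χ : G → ℂ) (g * g) := by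
  refine ⟨Cfsg.Agent.Lib.Helper81.isIrrCharacter_monoidHom_mul f χ.2, ?_, ?_⟩
  · unfold Cfsg.charDegree
    simp
  · congr 1
    apply finsum_congr
    intro g
    simp only
    rw [map_mul, hsq g]
    simp

end Final


/-- Let G be a finite group that is the semidirect product of a normal elementary abelian subgroup N of odd order by a non-trivial 2-subgroup P, with N the unique minimal normal subgroup of G. Consider the strongly real irreducible complex characters of G (Frobenius–Schur indicator +1) whose degree is 1 or even. Then their average degree is at least 4/3: four times their number is at most three times the sum of their degrees. -/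
theorem result {G : Type*} [Group G] [Finite G] (N P : Subgroup G) (hN : N.Normal) (q : ℕ) [Fact q.Prime] (hq : q ≠ 2) (hNel : Cfsg.IsElementaryAbelian q N) (hP : IsPGroup 2 ↥P) (hP1 : P ≠ ⊥) (hdisj : N ⊓ P = ⊥) (hprod : N ⊔ P = ⊤) (hmin : N ≠ ⊥ ∧ ∀ M : Subgroup G, M.Normal → M ≠ ⊥ → N ≤ M) : 4 * Nat.card {χ : Cfsg.IrrCharacter G // (Cfsg.charDegree (χ : G → ℂ) = 1 ∨ 2 ∣ Cfsg.charDegree (χ : G → ℂ)) ∧ (Nat.card G : ℂ)⁻¹ * ∑ᶠ g : G, (χ : G → ℂ) (g * g) = 1} ≤ 3 * (∑ᶠ χ : {χ : Cfsg.IrrCharacter G // (Cfsg.charDegree (χ : G → ℂ) = 1 ∨ 2 ∣ Cfsg.charDegree (χ : G → ℂ)) ∧ (Nat.card G : ℂ)⁻¹ * ∑ᶠ g : G, (χ : G → ℂ) (g * g) = 1}, Cfsg.charDegree (χ.1 : G → ℂ)) := by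
  classical
  have : Fintype G := Fintype.ofFinite G
  have hqodd : Odd q := (Fact.out : q.Prime).odd_of_ne_two hq
  obtain ⟨T, χ₀, heven, hdeg, hν₀, hstab⟩ :=
    exists_chi0 N P hN q hq hNel hP hP1 hdisj hprod hmin
  have hNq : ∀ a ∈ N, a ^ q = 1 := hNel.2
  have ha0 : T.index ≠ 0 := Subgroup.index_ne_zero_of_finite
  have ha2 : 2 ≤ T.index := Nat.le_of_dvd (Nat.pos_of_ne_zero ha0) heven
  let Spred : Cfsg.IrrCharacter G → Prop := fun χ =>
    (Cfsg.charDegree (χ : G → ℂ) = 1 ∨ 2 ∣ Cfsg.charDegree (χ : G → ℂ)) ∧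
      (Nat.card G : ℂ)⁻¹ * ∑ᶠ g : G, (χ : G → ℂ) (g * g) = 1
  change 4 * Nat.card {χ // Spred χ} ≤ 3 * ∑ᶠ χ : {χ // Spred χ}, Cfsg.charDegree (χ.1 : G → ℂ)
  have : Fintype {χ // Spred χ} := Fintype.ofFinite _
  rw [finsum_eq_sum_of_fintype, Nat.card_eq_fintype_card, ← Finset.card_univ]
  -- the twisting map
  have hex : ∀ s : {χ // Spred χ}, ∃ s' : {χ // Spred χ},
      Cfsg.charDegree (s.1 : G → ℂ) = 1 →
        ((s'.1 : G → ℂ) = fun g => (s.1 : G → ℂ) g * (χ₀ : G → ℂ) g) := by
    intro s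
    by_cases h1 : Cfsg.charDegree (s.1 : G → ℂ) = 1
    · obtain ⟨f, hf, hsq, -⟩ := lin_data s.1 h1 s.2.2 N q hqodd hNq
      obtain ⟨hirr, hd, hnu⟩ := twist_props f hsq χ₀
      have hfun : (fun g => ((f g : ℂˣ) : ℂ) * (χ₀ : G → ℂ) g)
          = fun g => (s.1 : G → ℂ) g * (χ₀ : G → ℂ) g := by
        funext g; rw [hf]
      refine ⟨⟨⟨_, hirr⟩, ?_, ?_⟩, fun _ => hfun⟩
      · right
        change 2 ∣ Cfsg.charDegree (fun g => ((f g : ℂˣ) : ℂ) * (χ₀ : G → ℂ) g)
        rw [hd, hdeg]; exact heven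
      · change (Nat.card G : ℂ)⁻¹ * ∑ᶠ g : G,
          (fun g => ((f g : ℂˣ) : ℂ) * (χ₀ : G → ℂ) g) (g * g) = 1
        rw [hnu]; exact hν₀
    · exact ⟨s, fun h => absurd h h1⟩
  choose Φ hΦ using hex
  set S₁ := Finset.univ.filter (fun s : {χ // Spred χ} => Cfsg.charDegree (s.1 : G → ℂ) = 1)
    with hS₁
  set S₂ := Finset.univ.filter (fun s : {χ // Spred χ} => ¬ Cfsg.charDegree (s.1 : G → ℂ) = 1)
    with hS₂
  have hone : ∀ s : {χ // Spred χ}, Cfsg.charDegree (s.1 : G → ℂ) = 1 →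
      (s.1 : G → ℂ) 1 = 1 := by
    intro s h1
    rw [IsCharacter.apply_one_eq_charDegree (IsIrrCharacter.isCharacter s.1.2), h1]; simp
  have hΦdeg : ∀ s ∈ S₁, Cfsg.charDegree ((Φ s).1 : G → ℂ) = T.index := by
    intro s hs
    rw [hS₁, Finset.mem_filter] at hs
    rw [hΦ s hs.2, ← hdeg]
    unfold Cfsg.charDegree
    simp only
    rw [hone s hs.2, one_mul]
  have hΦS₂ : ∀ s ∈ S₁, Φ s ∈ S₂ := by
    intro s hs
    rw [hS₂, Finset.mem_filter]
    refine ⟨Finset.mem_univ _, ?_⟩
    rw [hΦdeg s hs]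
    omega
  -- the fibres of the twisting map are small
  have hfib : ∀ b ∈ S₁.image Φ, (S₁.filter (fun s => Φ s = b)).card ≤ T.index := by
    intro b hb
    obtain ⟨s₀, hs₀, rfl⟩ := Finset.mem_image.mp hb
    have hs₀1 : Cfsg.charDegree (s₀.1 : G → ℂ) = 1 := by
      rw [hS₁, Finset.mem_filter] at hs₀; exact hs₀.2
    obtain ⟨f₀, hf₀, hsq₀, hN₀⟩ := lin_data s₀.1 hs₀1 s₀.2.2 N q hqodd hNq
    have hex2 : ∀ s : {χ // Spred χ}, ∃ ξ : Cfsg.IrrCharacter G,
        Cfsg.charDegree (s.1 : G → ℂ) = 1 →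
          ((ξ : G → ℂ) = fun g => (s.1 : G → ℂ) g * (s₀.1 : G → ℂ) g) := by
      intro s
      by_cases h1 : Cfsg.charDegree (s.1 : G → ℂ) = 1
      · obtain ⟨f, hf, hsq, -⟩ := lin_data s.1 h1 s.2.2 N q hqodd hNq
        refine ⟨⟨_, Cfsg.Agent.Lib.Helper77.isIrrCharacter_of_monoidHom (f * f₀)⟩, fun _ => ?_⟩
        funext g
        simp only [MonoidHom.mul_apply, Units.val_mul]
        rw [hf, hf₀]
      · exact ⟨χ₀, fun h => absurd h h1⟩
    choose j hj using hex2
    refine le_trans ?_ (card_trivial_on_le_index T)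
    apply Finset.card_le_card_of_injOn j
    · intro s hs
      simp only [Finset.coe_filter, Set.mem_ofPred_eq] at hs
      obtain ⟨hs1, hΦs⟩ := hs
      have h1 : Cfsg.charDegree (s.1 : G → ℂ) = 1 := by
        rw [hS₁, Finset.mem_filter] at hs1; exact hs1.2
      obtain ⟨f, hf, hsq, hNf⟩ := lin_data s.1 h1 s.2.2 N q hqodd hNq
      simp only [Finset.coe_filter, Finset.mem_univ, true_and, Set.mem_ofPred_eq]
      intro t ht
      rw [hj s h1]
      simp only
      rw [hf, hf₀]
      have heq : ∀ g, ((f g : ℂˣ) : ℂ) * (χ₀ : G → ℂ) g = ((f₀ g : ℂˣ) : ℂ) * (χ₀ : G → ℂ) g := by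
        intro g
        have e1 := congrFun (hΦ s h1) g
        have e2 := congrFun (hΦ s₀ hs₀1) g
        rw [← hf, ← hf₀, ← e1, ← e2, hΦs]
      have hfix : (fun g => (((f * f₀) g : ℂˣ) : ℂ) * (χ₀ : G → ℂ) g) = (χ₀ : G → ℂ) := by
        funext g
        simp only [MonoidHom.mul_apply, Units.val_mul]
        rw [mul_assoc, ← heq g, ← mul_assoc, ← Units.val_mul, hsq g]
        simp
      have h2 := hstab (f * f₀) (fun n hn => by
        rw [MonoidHom.mul_apply, hNf n hn, hN₀ n hn, one_mul]) hfix t ht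
      rw [MonoidHom.mul_apply] at h2
      rw [← Units.val_mul, h2]
      simp
    · intro s hs s' hs' hjs
      simp only [Finset.coe_filter, Set.mem_ofPred_eq] at hs hs'
      have h1 : Cfsg.charDegree (s.1 : G → ℂ) = 1 := by
        have := hs.1; rw [hS₁, Finset.mem_filter] at this; exact this.2
      have h1' : Cfsg.charDegree (s'.1 : G → ℂ) = 1 := by
        have := hs'.1; rw [hS₁, Finset.mem_filter] at this; exact this.2
      apply Subtype.ext
      apply Subtype.ext
      funext g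
      have e := congrArg (fun ξ : Cfsg.IrrCharacter G => (ξ : G → ℂ) g) hjs
      simp only [hj s h1, hj s' h1'] at e
      have hne : (s₀.1 : G → ℂ) g ≠ 0 := by rw [hf₀]; exact Units.ne_zero _
      exact mul_right_cancel₀ hne e
  have hcard : S₁.card ≤ T.index * (S₁.image Φ).card := Finset.card_le_mul_card_image S₁ _ hfib
  have himg : T.index * (S₁.image Φ).card ≤ ∑ s ∈ S₂, Cfsg.charDegree (s.1 : G → ℂ) := by
    have hsub : S₁.image Φ ⊆ S₂ := by
      intro b hb
      obtain ⟨s, hs, rfl⟩ := Finset.mem_image.mp hb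
      exact hΦS₂ s hs
    calc T.index * (S₁.image Φ).card
        = ∑ b ∈ S₁.image Φ, Cfsg.charDegree (b.1 : G → ℂ) := by
          rw [mul_comm, ← smul_eq_mul, ← Finset.sum_const]
          apply Finset.sum_congr rfl
          intro b hb
          obtain ⟨s, hs, rfl⟩ := Finset.mem_image.mp hb
          exact (hΦdeg s hs).symm
      _ ≤ _ := Finset.sum_le_sum_of_subset hsub
  have hS₂deg : 2 * S₂.card ≤ ∑ s ∈ S₂, Cfsg.charDegree (s.1 : G → ℂ) := by
    rw [mul_comm, ← smul_eq_mul, ← Finset.sum_const]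
    apply Finset.sum_le_sum
    intro s hs
    rw [hS₂, Finset.mem_filter] at hs
    have hpos : 0 < Cfsg.charDegree (s.1 : G → ℂ) := IsIrrCharacter.charDegree_pos s.1.2
    rcases s.2.1 with h | h
    · exact absurd h hs.2
    · exact Nat.le_of_dvd hpos h
  have hsplit : ∑ s : {χ // Spred χ}, Cfsg.charDegree (s.1 : G → ℂ)
      = S₁.card + ∑ s ∈ S₂, Cfsg.charDegree (s.1 : G → ℂ) := by
    rw [← Finset.sum_filter_add_sum_filter_not Finset.univ
      (fun s : {χ // Spred χ} => Cfsg.charDegree (s.1 : G → ℂ) = 1)]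
    congr 1
    rw [Finset.card_eq_sum_ones]
    apply Finset.sum_congr rfl
    intro s hs
    rw [Finset.mem_filter] at hs
    exact hs.2
  have hcsplit : (Finset.univ : Finset {χ // Spred χ}).card = S₁.card + S₂.card := by
    rw [hS₁, hS₂, Finset.card_filter_add_card_filter_not]
  rw [hsplit, hcsplit]
  omega

end Cfsg.Agent.S4871
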