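import Cfsg.Statements.S4873
-- import your own Cfsg.Agent.* helpers here
import Cfsg.Agent.S4866
import Cfsg.Agent.Lib.Helper81.SqrtCount
import Cfsg.Agent.Lib.Helper74.RealCount
import Cfsg.Agent.Lib.Helper74.OddOrder
import Cfsg.Agent.Lib.Helper74.FSCount
import Cfsg.Agent.Lib.Helper75.Clifford

set_option autoImplicit false
set_option linter.unusedSectionVars false
set_option linter.style.haveILetI false
set_option linter.unusedSimpArgs false
open Cfsg

namespace Cfsg.Agent.S4873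

open scoped ComplexConjugate
open Cfsg.Agent.Lib.Helper78 Cfsg.Agent.Lib.Helper81 Cfsg.Agent.Lib.Helper75
open Cfsg.Agent.S4866


section
variable {G : Type*} [Group G] [Finite G] (N : Subgroup G) [N.Normal]

/-- In a normal subgroup of odd index, square roots of elements of `N` lie in `N`. -/
theorem mem_of_sq_mem (hodd : Odd N.index) (u : G) (hu : u * u ∈ N) : u ∈ N := by
  obtain ⟨t, ht⟩ := hodd
  have h1 : u ^ N.index ∈ N := Subgroup.pow_index_mem N u
  have h2 : (u * u) ^ t ∈ N := N.pow_mem hu t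
  have h3 : u = u ^ N.index * ((u * u) ^ t)⁻¹ := by
    rw [ht, ← pow_two, ← pow_mul, pow_succ]
    group
  rw [h3]
  exact N.mul_mem h1 (N.inv_mem h2)

/-- Square-root counts in `G` and in `N` agree on `N` (odd index). -/
theorem sqrtCount_coe (hodd : Odd N.index) (n : N) :
    sqrtCount ((n : N) : G) = sqrtCount n := by
  unfold sqrtCount
  congr 1
  refine Nat.card_congr ?_
  refine ⟨fun u => ⟨⟨u.1, mem_of_sq_mem N hodd u.1 (by rw [u.2]; exact n.2)⟩, ?_⟩,
    fun u => ⟨(u.1 : G), ?_⟩, ?_, ?_⟩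
  · apply Subtype.ext
    exact u.2
  · have := congrArg Subtype.val u.2
    simpa using this
  · intro u
    rfl
  · intro u
    rfl

/-- The multiplicity of `ψ` in the restriction of `χ` to `N`. -/
noncomputable def mult [Fintype N] (χ : G → ℂ) (ψ : N → ℂ) : ℂ := classInner (fun n : N => χ n) ψ

/-- The Frobenius–Schur restriction identity: `∑ χ, conj ν(χ) [χ_N, φ] = conj ν(φ)`. -/
theorem sum_fs_mult [Fintype G] [Fintype N] (hodd : Odd N.index) (φ : N → ℂ) :
    ∑ χ : IrrCharacter G, conj (fsIndicator (χ : G → ℂ)) * mult N (χ : G → ℂ) φ =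
      conj (fsIndicator φ) := by
  rw [← classInner_sqrtCount φ]
  have h1 : (sqrtCount : N → ℂ) = fun n : N => sqrtCount ((n : N) : G) := by
    funext n
    exact (sqrtCount_coe N hodd n).symm
  rw [h1]
  have h2 : (fun n : N => sqrtCount ((n : N) : G)) =
      ∑ χ : IrrCharacter G, conj (fsIndicator (χ : G → ℂ)) • (fun n : N => (χ : G → ℂ) n) := by
    funext n
    rw [sqrtCount_eq_sum_irr]
    simp [Finset.sum_apply]
  rw [h2, classInner_sum_left]
  refine Finset.sum_congr rfl (fun χ _ => ?_)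
  rw [classInner_smul_left]
  rfl

end


section
variable {G : Type*} [Group G] [Finite G] (N : Subgroup G) [N.Normal]


/-- Every irreducible character of `G` has an irreducible constituent on `N`. -/
theorem exists_constituent [Fintype N] (χ : IrrCharacter G) :
    ∃ ψ : IrrCharacter N, mult N (χ : G → ℂ) (ψ : N → ℂ) ≠ 0 := by
  by_contra hcon
  push Not at hcon
  have hcf : IsClassFunction N (fun n : N => (χ : G → ℂ) n) :=
    isClassFunction_res N (isClassFunction_irr χ)
  have h := classFunction_eq_sum_irr hcf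
  have h0 : (fun n : N => (χ : G → ℂ) n) = 0 := by
    rw [h]
    apply Finset.sum_eq_zero
    intro ψ _
    have := hcon ψ
    unfold mult at this
    rw [this, zero_smul]
  have h1 := congrFun h0 1
  simp only [Pi.zero_apply, Subgroup.coe_one] at h1
  exact IsIrrCharacter.apply_one_ne_zero χ.2 h1

/-- For a real character `χ` of `G`: `[χ_N, conj ψ] = conj [χ_N, ψ]`. -/
theorem mult_bar [Fintype N] (χ : IrrCharacter G) (hχ : ∀ g : G, ((χ : G → ℂ) g).im = 0)
    (ψ : IrrCharacter N) :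
    mult N (χ : G → ℂ) (barIrr N ψ : N → ℂ) = conj (mult N (χ : G → ℂ) (ψ : N → ℂ)) := by
  unfold mult classInner
  simp only [map_mul, map_sum, map_inv₀, map_natCast, barIrr_apply, Complex.conj_conj]
  congr 1
  refine Finset.sum_congr rfl (fun n _ => ?_)
  rw [Complex.conj_eq_iff_im.mpr (hχ n)]

/-- The link between `conjFun` (helper75) and `conjIrr` (helper81). -/
theorem conjFun_eq_conjIrr (g : G) (ψ : IrrCharacter N) :
    conjFun N g (ψ : N → ℂ) = (conjIrr N g⁻¹ ψ : N → ℂ) := by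
  funext n
  rw [conjFun_apply, conjIrr_apply]
  refine congrArg _ (Subtype.ext ?_)
  simp [MulAut.conjNormal_apply]

/-- Constituents of a real character of `G` on a normal subgroup of odd index are real. -/
theorem constituent_real [Fintype G] [Fintype N] (hodd : Odd N.index) (χ : IrrCharacter G)
    (hχ : ∀ g : G, ((χ : G → ℂ) g).im = 0)
    (ψ : IrrCharacter N) (hψ : mult N (χ : G → ℂ) (ψ : N → ℂ) ≠ 0) :
    ∀ n : N, ((ψ : N → ℂ) n).im = 0 := by
  have h1 : mult N (χ : G → ℂ) (barIrr N ψ : N → ℂ) ≠ 0 := by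
    rw [mult_bar N χ hχ ψ]
    simpa using hψ
  obtain ⟨g, hg⟩ := clifford_conj N χ.2 ψ.2 (barIrr N ψ).2 hψ h1
  rw [conjFun_eq_conjIrr] at hg
  have h2 : conjIrr N g⁻¹ ψ = barIrr N ψ := Subtype.ext hg
  have h3 : barIrr N (conjIrr N g⁻¹ ψ) = ψ := by rw [h2, barIrr_barIrr]
  exact (barIrr_eq_self_iff N ψ).mp (real_and_fixed_of_odd N hodd g⁻¹ ψ h3).1

end


section
variable {G : Type*} [Group G] [Finite G] (N : Subgroup G) [N.Normal]

/-- A real element of `G` lies in a normal subgroup of odd index. -/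
theorem mem_of_real (hodd : Odd N.index) (g : G) (hg : IsConj g g⁻¹) : g ∈ N := by
  have h1 : IsConj (QuotientGroup.mk' N g) (QuotientGroup.mk' N g)⁻¹ := by
    have := (QuotientGroup.mk' N).map_isConj hg
    simpa using this
  have hodd' : Odd (Nat.card (G ⧸ N)) := by
    rw [← Subgroup.index_eq_card]; exact hodd
  have h2 := Cfsg.Agent.Lib.Helper74.eq_one_of_isConj_inv_of_odd hodd' h1
  exact (QuotientGroup.eq_one_iff g).mp h2

/-- The relation on real elements of `N` from the statement of S4866. -/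
abbrev relElt : {x : N // IsConj x x⁻¹} → {x : N // IsConj x x⁻¹} → Prop :=
  fun x y => ∃ g : G, (y.1 : G) = g * x.1 * g⁻¹

/-- The real conjugacy classes of `G`. -/
abbrev RealClass (G : Type*) [Group G] : Type _ :=
  {C : ConjClasses G // ∀ g : G, ConjClasses.mk g = C → IsConj g g⁻¹}

/-- The map from `G`-orbits of `N`-real elements of `N` to real classes of `G`. -/
noncomputable def orbitToClass : Quot (relElt N) → RealClass G :=
  Quot.lift (fun x => ⟨ConjClasses.mk ((x.1 : N) : G), by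
    intro g hg
    have h1 : IsConj ((x.1 : N) : G) ((x.1 : N) : G)⁻¹ := by
      have := N.subtype.map_isConj x.2
      simpa using this
    have h2 : IsConj g ((x.1 : N) : G) := ConjClasses.mk_eq_mk_iff_isConj.mp hg
    have h3 : IsConj g⁻¹ (((x.1 : N) : G))⁻¹ := by
      obtain ⟨c, hc⟩ := isConj_iff.mp h2
      rw [isConj_iff]
      exact ⟨c, by rw [← hc]; group⟩
    exact h2.trans (h1.trans h3.symm)⟩) (by
    rintro x y ⟨g, hg⟩
    apply Subtype.ext
    show ConjClasses.mk ((x.1 : N) : G) = ConjClasses.mk ((y.1 : N) : G)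
    rw [ConjClasses.mk_eq_mk_iff_isConj, isConj_iff]
    exact ⟨g, hg.symm⟩)

theorem orbitToClass_bijective (hodd : Odd N.index) : Function.Bijective (orbitToClass N) := by
  constructor
  · rintro ⟨x⟩ ⟨y⟩ h
    have h1 : ConjClasses.mk ((x.1 : N) : G) = ConjClasses.mk ((y.1 : N) : G) :=
      congrArg Subtype.val h
    rw [ConjClasses.mk_eq_mk_iff_isConj, isConj_iff] at h1
    obtain ⟨g, hg⟩ := h1
    exact Quot.sound ⟨g, hg.symm⟩
  · rintro ⟨C, hC⟩
    obtain ⟨g, rfl⟩ := ConjClasses.exists_rep C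
    have hg : IsConj g g⁻¹ := hC g rfl
    have hgN : g ∈ N := mem_of_real N hodd g hg
    obtain ⟨c, hc⟩ := isConj_iff.mp hg
    have hc' : c * ((⟨g, hgN⟩ : N) : G)⁻¹ * c⁻¹ = ((⟨g, hgN⟩ : N) : G) := by
      show c * g⁻¹ * c⁻¹ = g
      calc c * g⁻¹ * c⁻¹ = (c * g * c⁻¹)⁻¹ := by group
        _ = g := by rw [hc, inv_inv]
    have hreal : IsConj (⟨g, hgN⟩ : N) (⟨g, hgN⟩ : N)⁻¹ := isConj_inv_of_odd N hodd ⟨g, hgN⟩ c hc'
    exact ⟨Quot.mk _ ⟨⟨g, hgN⟩, hreal⟩, rfl⟩

theorem card_quot_relElt (hodd : Odd N.index) :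
    Nat.card (Quot (relElt N)) = Nat.card (RealClass G) :=
  Nat.card_congr (Equiv.ofBijective _ (orbitToClass_bijective N hodd))

end


section
variable {G : Type*} [Group G] [Finite G] (N : Subgroup G) [N.Normal]

/-- The relation on real irreducible characters of `N` from the statement of S4866. -/
abbrev relIrr : RealIrr N → RealIrr N → Prop :=
  fun θ η => ∃ g : G, ∀ k k' : N, (k' : G) = g * (k : G) * g⁻¹ →
    (η.1 : N → ℂ) k' = (θ.1 : N → ℂ) k

/-- The real irreducible characters of `G`. -/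
abbrev RealIrrG (G : Type*) [Group G] : Type _ :=
  {χ : IrrCharacter G // ∀ g : G, ((χ : G → ℂ) g).im = 0}

/-- Two constituents of the same irreducible character of `G` are related. -/
theorem relIrr_of_constituents [Fintype G] [Fintype N] (χ : IrrCharacter G) (θ η : RealIrr N)
    (hθ : mult N (χ : G → ℂ) (θ.1 : N → ℂ) ≠ 0) (hη : mult N (χ : G → ℂ) (η.1 : N → ℂ) ≠ 0) :
    relIrr N θ η := by
  obtain ⟨g, hg⟩ := clifford_conj N χ.2 η.1.2 θ.1.2 hη hθ
  refine ⟨g, ?_⟩
  intro k k' hkk'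
  have := congrFun hg k
  rw [conjFun_apply] at this
  rw [← this]
  exact congrArg _ (Subtype.ext hkk')

/-- The orbit of constituents of a real irreducible character of `G`. -/
noncomputable def constOrbit [Fintype G] [Fintype N] (hodd : Odd N.index) (χ : RealIrrG G) :
    Quot (relIrr N) :=
  Quot.mk _ ⟨Classical.choose (exists_constituent N χ.1),
    constituent_real N hodd χ.1 χ.2 _ (Classical.choose_spec (exists_constituent N χ.1))⟩

theorem constOrbit_eq [Fintype G] [Fintype N] (hodd : Odd N.index) (χ : RealIrrG G)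
    (θ : RealIrr N) (hθ : mult N (χ.1 : G → ℂ) (θ.1 : N → ℂ) ≠ 0) :
    constOrbit N hodd χ = Quot.mk _ θ := by
  unfold constOrbit
  apply Quot.sound
  exact relIrr_of_constituents N χ.1 _ θ (Classical.choose_spec (exists_constituent N χ.1)) hθ

/-- Every real irreducible character of `N` lies under a real irreducible character of `G`. -/
theorem exists_real_over [Fintype G] [Fintype N] (hodd : Odd N.index) (θ : RealIrr N) :
    ∃ χ : RealIrrG G, mult N (χ.1 : G → ℂ) (θ.1 : N → ℂ) ≠ 0 := by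
  have h := sum_fs_mult N hodd (θ.1 : N → ℂ)
  have hν : fsIndicator (θ.1 : N → ℂ) ≠ 0 := by
    intro h0
    obtain ⟨s, hs⟩ := (Cfsg.Agent.Lib.Helper74.fsIndFun_eq_zero_iff θ.1).mp h0
    exact hs (θ.2 s)
  have hne : ∑ χ : IrrCharacter G, conj (fsIndicator (χ : G → ℂ)) * mult N (χ : G → ℂ) (θ.1 : N → ℂ)
      ≠ 0 := by
    rw [h]
    simpa using hν
  obtain ⟨χ, -, hχ⟩ := Finset.exists_ne_zero_of_sum_ne_zero hne
  have h1 : fsIndicator (χ : G → ℂ) ≠ 0 := by
    intro h0
    rw [h0] at hχ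
    simp at hχ
  have h2 : mult N (χ : G → ℂ) (θ.1 : N → ℂ) ≠ 0 := by
    intro h0
    rw [h0] at hχ
    simp at hχ
  exact ⟨⟨χ, real_of_fsIndicator_ne_zero χ h1⟩, h2⟩

theorem constOrbit_surjective [Fintype G] [Fintype N] (hodd : Odd N.index) :
    Function.Surjective (constOrbit N hodd) := by
  rintro ⟨θ⟩
  obtain ⟨χ, hχ⟩ := exists_real_over N hodd θ
  exact ⟨χ, constOrbit_eq N hodd χ θ hχ⟩

theorem constOrbit_bijective [Fintype G] [Fintype N] (hodd : Odd N.index) :
    Function.Bijective (constOrbit N hodd) := by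
  apply (constOrbit_surjective N hodd).bijective_of_nat_card_le
  have h1 : Nat.card (Quot (relIrr N)) = Nat.card (Quot (relElt N)) :=
    Cfsg.Agent.S4866.result N hodd
  rw [h1, card_quot_relElt N hodd]
  exact (Cfsg.Agent.Lib.Helper74.card_real_irr_eq_card_real_classes (G := G)).le

/-- A real irreducible character of `N` lies under a unique real irreducible character of `G`. -/
theorem real_over_unique [Fintype G] [Fintype N] (hodd : Odd N.index) (θ : RealIrr N)
    (χ χ' : RealIrrG G) (h : mult N (χ.1 : G → ℂ) (θ.1 : N → ℂ) ≠ 0)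
    (h' : mult N (χ'.1 : G → ℂ) (θ.1 : N → ℂ) ≠ 0) : χ = χ' := by
  apply (constOrbit_bijective N hodd).1
  rw [constOrbit_eq N hodd χ θ h, constOrbit_eq N hodd χ' θ h']

end


/-- Let N be a normal subgroup of odd index in the finite group G. Then every irreducible complex character of N with Frobenius–Schur indicator +1 lies under exactly one irreducible character of G with Frobenius–Schur indicator +1. -/
theorem result {G : Type*} [Group G] [Finite G] (N : Subgroup G) [N.Normal] (hodd : Odd N.index) (φ : Cfsg.IrrCharacter ↥N) (hφ : (Nat.card ↥N : ℂ)⁻¹ * ∑ᶠ g : ↥N, (φ : ↥N → ℂ) (g * g) = 1) : ∃! χ : Cfsg.IrrCharacter G, (Nat.card G : ℂ)⁻¹ * ∑ᶠ g : G, (χ : G → ℂ) (g * g) = 1 ∧ (∑ᶠ n : ↥N, (χ : G → ℂ) n * (starRingEnd ℂ) ((φ : ↥N → ℂ) n)) ≠ 0 := by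
  classical
  have := Fintype.ofFinite G
  have : Fintype N := Fintype.ofFinite N
  have hN0 : (Nat.card N : ℂ) ≠ 0 := by
    have : Nat.card N ≠ 0 := Nat.card_pos.ne'
    exact_mod_cast this
  -- ν(φ) = 1 and φ is real
  have hφ1 : fsIndicator (φ : N → ℂ) = 1 := by
    unfold fsIndicator
    rw [← finsum_eq_sum_of_fintype]
    exact hφ
  have hφreal : ∀ n : N, ((φ : N → ℂ) n).im = 0 :=
    real_of_fsIndicator_ne_zero φ (by rw [hφ1]; exact one_ne_zero)
  let θ : RealIrr N := ⟨φ, hφreal⟩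
  -- the restriction identity
  have hsum := sum_fs_mult N hodd (φ : N → ℂ)
  rw [hφ1, map_one] at hsum
  -- any χ with nonzero term is real and lies over φ
  have hterm : ∀ χ : IrrCharacter G,
      (starRingEnd ℂ) (fsIndicator (χ : G → ℂ)) * mult N (χ : G → ℂ) (φ : N → ℂ) ≠ 0 →
      (∀ g : G, ((χ : G → ℂ) g).im = 0) ∧ mult N (χ : G → ℂ) (φ : N → ℂ) ≠ 0 := by
    intro χ hχ
    constructor
    · apply real_of_fsIndicator_ne_zero
      intro h0
      rw [h0] at hχ
      simp at hχ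
    · intro h0
      rw [h0] at hχ
      simp at hχ
  have hne : ∑ χ : IrrCharacter G,
      (starRingEnd ℂ) (fsIndicator (χ : G → ℂ)) * mult N (χ : G → ℂ) (φ : N → ℂ) ≠ 0 := by
    rw [hsum]; exact one_ne_zero
  obtain ⟨χ₀, -, hχ₀⟩ := Finset.exists_ne_zero_of_sum_ne_zero hne
  have huniq : ∀ χ : IrrCharacter G,
      (starRingEnd ℂ) (fsIndicator (χ : G → ℂ)) * mult N (χ : G → ℂ) (φ : N → ℂ) ≠ 0 → χ = χ₀ := by
    intro χ hχ
    obtain ⟨hr, hm⟩ := hterm χ hχ
    obtain ⟨hr₀, hm₀⟩ := hterm χ₀ hχ₀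
    have := real_over_unique N hodd θ ⟨χ, hr⟩ ⟨χ₀, hr₀⟩ hm hm₀
    exact congrArg Subtype.val this
  -- the sum reduces to the single term at χ₀
  have hsingle : (starRingEnd ℂ) (fsIndicator (χ₀ : G → ℂ)) * mult N (χ₀ : G → ℂ) (φ : N → ℂ) = 1 := by
    rw [← hsum]
    symm
    apply Finset.sum_eq_single χ₀
    · intro χ _ hne'
      by_contra hχ
      exact hne' (huniq χ hχ)
    · intro h
      exact absurd (Finset.mem_univ χ₀) h
  -- ν(χ₀) = 1
  obtain ⟨m, hm⟩ := IsCharacter.exists_nat_classInner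
    (isCharacter_res N (IsIrrCharacter.isCharacter χ₀.2)) φ
  have hmult : mult N (χ₀ : G → ℂ) (φ : N → ℂ) = (m : ℂ) := hm
  have hν₀ : fsIndicator (χ₀ : G → ℂ) = 1 := by
    rcases Cfsg.Agent.Lib.Helper74.fsIndFun_trichotomy χ₀ with h | h | h
    · exfalso
      have h' : fsIndicator (χ₀ : G → ℂ) = 0 := h
      rw [h'] at hsingle
      simp at hsingle
    · exact h
    · exfalso
      have h' : fsIndicator (χ₀ : G → ℂ) = -1 := h
      rw [h', hmult] at hsingle
      have := congrArg Complex.re hsingle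
      simp at this
      have hm0 : (0 : ℝ) ≤ m := Nat.cast_nonneg m
      linarith
  have hmult_eq : ∀ χ : IrrCharacter G, mult N (χ : G → ℂ) (φ : N → ℂ) =
      (Nat.card N : ℂ)⁻¹ * ∑ᶠ n : N, (χ : G → ℂ) n * (starRingEnd ℂ) ((φ : N → ℂ) n) := by
    intro χ
    rw [finsum_eq_sum_of_fintype]
    rfl
  have hfs_eq : ∀ χ : IrrCharacter G, fsIndicator (χ : G → ℂ) =
      (Nat.card G : ℂ)⁻¹ * ∑ᶠ g : G, (χ : G → ℂ) (g * g) := by
    intro χ
    rw [finsum_eq_sum_of_fintype]
    rfl
  refine ⟨χ₀, ⟨?_, ?_⟩, ?_⟩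
  · rw [← hfs_eq, hν₀]
  · intro h0
    have hm₀ := (hterm χ₀ hχ₀).2
    rw [hmult_eq, h0, mul_zero] at hm₀
    exact hm₀ rfl
  · rintro χ ⟨h1, h2⟩
    apply huniq
    rw [hfs_eq, h1, map_one, one_mul, hmult_eq]
    exact mul_ne_zero (inv_ne_zero hN0) h2

end Cfsg.Agent.S4873
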