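import Cfsg.Statements.S4912
-- import your own Cfsg.Agent.* helpers here
import Cfsg.Agent.S4870
import Cfsg.Agent.S4871
import Cfsg.Agent.Lib.Helper74.FSReal

set_option autoImplicit false
open Cfsg

namespace Cfsg.Agent.S4912


open Cfsg.Agent.Lib.Helper81 Cfsg.Agent.Lib.Helper75 Cfsg.Agent.Lib.Helper78
  Cfsg.Agent.Lib.Helper74
open scoped ComplexConjugate
open Matrix

section Ortho

variable {N : Type*} [Group N] [Fintype N] {d : ℕ}

/-- If the characters of two matrix representations `σ`, `τ` of `N` satisfy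
`∑ n, χ_σ(n) χ_τ(n) = 0` (no common constituent between `σ` and the dual of `τ`), then all the
entrywise sums `∑ n, σ(n)_{bc} τ(n)_{c'a}` vanish. -/
theorem sum_entry_mul_entry_eq_zero (σ τ : Representation ℂ N (Fin d → ℂ))
    (h0 : ∑ n : N, σ.character n * τ.character n = 0) (b c c' a : Fin d) :
    ∑ n : N, matOf σ n b c * matOf τ n c' a = 0 := by
  have hinv : Invertible (Nat.card N : ℂ) :=
    invertibleOfNonzero (by exact_mod_cast (Nat.card_pos (α := N)).ne')
  have h1 := Representation.card_inv_mul_sum_char_mul_char_eq_finrank (contra τ) σ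
  have h2 : ∑ g : N, σ.character g * (contra τ).character g⁻¹ = 0 := by
    rw [← h0]
    apply Finset.sum_congr rfl
    intro g _
    rw [contra_character, inv_inv]
  rw [h2, mul_zero] at h1
  have h3 : Module.finrank ℂ (Representation.IntertwiningMap (contra τ) σ) = 0 := by
    exact_mod_cast h1.symm
  set Φ := ∑ g : N, matOf σ g * Matrix.single c a (1 : ℂ) * matOf (contra τ) g⁻¹ with hΦ
  have hcomm := sum_mul_mul_inv_comm σ (contra τ) (Matrix.single c a (1 : ℂ))
  let T : Representation.IntertwiningMap (contra τ) σ :=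
    ⟨Matrix.toLin' Φ, fun g => by
      rw [← toLin'_matOf, ← toLin'_matOf, ← Matrix.toLin'_mul, ← Matrix.toLin'_mul, hcomm]⟩
  have hT0 : T = 0 := by
    by_contra hne
    have := (Module.finrank_pos_iff_exists_ne_zero (R := ℂ)).mpr ⟨T, hne⟩
    omega
  have hΦ0 : Φ = 0 := by
    have h4 : T.toLinearMap = 0 := by rw [hT0]; rfl
    have h5 : Matrix.toLin' Φ = 0 := h4
    simpa using congrArg LinearMap.toMatrix' h5
  have h6 : ∀ g : N, (matOf σ g * Matrix.single c a (1 : ℂ) * matOf (contra τ) g⁻¹) b c'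
      = matOf σ g b c * matOf τ g c' a := by
    intro g
    rw [Matrix.mul_apply, Finset.sum_eq_single a]
    · rw [Matrix.mul_single_apply_same, mul_one, matOf_contra, inv_inv, Matrix.transpose_apply]
    · intro x _ hx
      rw [Matrix.mul_single_apply_of_ne _ _ _ _ _ hx, zero_mul]
    · intro hk
      exact absurd (Finset.mem_univ a) hk
  have h7 := congrFun (congrFun hΦ0 b) c'
  rw [hΦ, Matrix.sum_apply] at h7
  simp only [h6] at h7
  exact h7

end Ortho


section Main

variable {G : Type*} [Group G] [Fintype G] (N I : Subgroup G) [hN : N.Normal]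

/-- Conjugation by `g` as a homomorphism `N →* I`. -/
def cjHom (hNI : N ≤ I) (g : G) : N →* I :=
  (Subgroup.inclusion hNI).comp (MulAut.conjNormal g : MulAut N).toMonoidHom

omit [Fintype G] in
theorem cjHom_coe (hNI : N ≤ I) (g : G) (n : N) :
    ((cjHom N I hNI g n : I) : G) = g * n * g⁻¹ := by
  simp [cjHom]

omit [Fintype G] in
/-- For a representation `ρ` of `I` whose restriction to `N` has no common constituent between
its `g`-conjugate and its dual, the twisted sums `∑ n, χ(n^g · h · n)` vanish. -/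
theorem sum_char_twisted_eq_zero [Fintype N] (hNI : N ≤ I) {d : ℕ}
    (ρ : Representation ℂ I (Fin d → ℂ)) (g : G)
    (h0 : ∑ n : N, ρ.character (cjHom N I hNI g n) * ρ.character (Subgroup.inclusion hNI n) = 0)
    (h : I) :
    ∑ n : N, ρ.character (cjHom N I hNI g n * h * Subgroup.inclusion hNI n) = 0 := by
  let σ : Representation ℂ N (Fin d → ℂ) := (ρ : I →* _).comp (cjHom N I hNI g)
  let τ : Representation ℂ N (Fin d → ℂ) := (ρ : I →* _).comp (Subgroup.inclusion hNI)
  have hσ : ∀ n, matOf σ n = matOf ρ (cjHom N I hNI g n) := fun n => rfl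
  have hτ : ∀ n, matOf τ n = matOf ρ (Subgroup.inclusion hNI n) := fun n => rfl
  have h0' : ∑ n : N, σ.character n * τ.character n = 0 := h0
  have hS : ∑ n : N, matOf τ n * matOf σ n = 0 := by
    ext x y
    rw [Matrix.sum_apply]
    simp only [Matrix.mul_apply, Matrix.zero_apply]
    rw [Finset.sum_comm]
    apply Finset.sum_eq_zero
    intro c _
    have := sum_entry_mul_entry_eq_zero σ τ h0' c y x c
    rw [← this]
    apply Finset.sum_congr rfl
    intro n _
    ring
  have h1 : ∀ n : N, ρ.character (cjHom N I hNI g n * h * Subgroup.inclusion hNI n)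
      = ((matOf τ n * matOf σ n) * matOf ρ h).trace := by
    intro n
    rw [← trace_matOf, matOf_mul, matOf_mul, Matrix.trace_mul_cycle, hσ, hτ]
  simp_rw [h1]
  rw [← Matrix.trace_sum, ← Matrix.sum_mul, hS, Matrix.zero_mul, Matrix.trace_zero]

/-- The Frobenius–Schur indicator of the Clifford correspondent of a strongly real extension
`ψ` of `φ` to its stabilizer is again `+1`. -/
theorem fs_indFun_eq_one [Fintype N] [Fintype I] (hNI : N ≤ I) {φ : N → ℂ}
    (hφ : IsIrrCharacter N φ) (hT : ∀ g : G, g ∈ I ↔ conjFun N g φ = φ) {ψ : I → ℂ}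
    (hψ : IsIrrCharacter I ψ) (hres : resNT N I hNI ψ = φ)
    (hfs : (Nat.card I : ℂ)⁻¹ * ∑ t : I, ψ (t * t) = 1) :
    (Nat.card G : ℂ)⁻¹ * ∑ g : G, indFun I ψ (g * g) = 1 := by
  classical
  obtain ⟨d, ρ, hirr, hρ⟩ := hψ
  have := hirr
  -- `ψ` is real valued
  have hreal : ∀ t : I, conj (ψ t) = ψ t := by
    have hfsi := (frobenius_schur_indicator ρ).2
    rw [hρ] at hfsi
    have hne : ¬ ((Nat.card I : ℂ)⁻¹ * ∑ s : I, ψ (s * s) = 0) := by
      rw [hfs]; exact one_ne_zero
    have h2 : ¬ ∃ s : I, (ψ s).im ≠ 0 := fun h => hne (hfsi.mpr h)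
    push Not at h2
    intro t
    exact Complex.conj_eq_iff_im.mpr (h2 t)
  -- the key vanishing
  have hkey : ∀ g : G, g ∉ I → ∀ h : I,
      ∑ n : N, ψ (cjHom N I hNI g n * h * Subgroup.inclusion hNI n) = 0 := by
    intro g hg h
    rw [← hρ]
    apply sum_char_twisted_eq_zero N I hNI ρ g
    rw [hρ]
    have hne : conjFun N g φ ≠ φ := fun h => hg ((hT g).mpr h)
    have h3 := classInner_irr_ne (isIrrCharacter_conjFun N hφ g) hφ hne
    unfold classInner at h3
    have hN0 : (Nat.card N : ℂ) ≠ 0 := by exact_mod_cast (Nat.card_pos (α := N)).ne'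
    have h4 : ∑ n : N, conjFun N g φ n * conj (φ n) = 0 := by
      rcases mul_eq_zero.mp h3 with h | h
      · exact absurd (inv_eq_zero.mp h) hN0
      · exact h
    rw [← h4]
    apply Finset.sum_congr rfl
    intro n _
    rw [← hres]
    simp only [conjFun_apply, resNT]
    rw [hreal]
    rfl
  rw [Cfsg.Agent.S4871.fs_indFun]
  -- split the sum
  have hsplit : ∑ g : G, extendByZero I ψ (g * g) = ∑ t : I, ψ (t * t)
      + ∑ g : G, (if g ∈ I then 0 else extendByZero I ψ (g * g)) := by
    have h1 : ∀ g : G, extendByZero I ψ (g * g)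
        = (if g ∈ I then extendByZero I ψ (g * g) else 0)
          + (if g ∈ I then 0 else extendByZero I ψ (g * g)) := by
      intro g; split_ifs <;> simp
    rw [Finset.sum_congr rfl (fun g _ => h1 g), Finset.sum_add_distrib]
    congr 1
    rw [sum_eq_sum_subgroup_of_vanish I (fun g => if g ∈ I then extendByZero I ψ (g * g) else 0)
      (fun t ht => if_neg ht)]
    apply Finset.sum_congr rfl
    intro t _
    rw [if_pos t.2]
    have h2 : ((t * t : I) : G) = (t : G) * t := rfl
    rw [← h2, extendByZero_coe]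
  -- the outside part vanishes
  have hout : ∑ g : G, (if g ∈ I then 0 else extendByZero I ψ (g * g)) = 0 := by
    set S := ∑ g : G, (if g ∈ I then 0 else extendByZero I ψ (g * g)) with hS
    have hshift : ∀ n : N,
        S = ∑ g : G, (if g ∈ I then 0 else extendByZero I ψ (g * n * (g * n))) := by
      intro n
      rw [hS, ← Equiv.sum_comp (Equiv.mulRight (n : G))]
      apply Finset.sum_congr rfl
      intro g _
      simp only [Equiv.coe_mulRight]
      have h1 : g * n ∈ I ↔ g ∈ I := I.mul_mem_cancel_right (hNI n.2)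
      simp only [h1]
    have hNS : (Nat.card N : ℂ) * S = 0 := by
      rw [Nat.card_eq_fintype_card, ← Finset.card_univ (α := N), ← nsmul_eq_mul,
        ← Finset.sum_const]
      rw [Finset.sum_congr rfl (fun n _ => hshift n), Finset.sum_comm]
      apply Finset.sum_eq_zero
      intro g _
      by_cases hg : g ∈ I
      · simp [hg]
      · simp only [if_neg hg]
        by_cases hg2 : g * g ∈ I
        · have h1 : ∀ n : N, extendByZero I ψ (g * n * (g * n))
              = ψ (cjHom N I hNI g n * ⟨g * g, hg2⟩ * Subgroup.inclusion hNI n) := by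
            intro n
            have hmem : g * n * (g * n)
                = ((cjHom N I hNI g n * ⟨g * g, hg2⟩ * Subgroup.inclusion hNI n : I) : G) := by
              simp only [Subgroup.coe_mul, cjHom_coe, Subgroup.coe_inclusion]
              group
            rw [hmem, extendByZero_coe]
          simp_rw [h1]
          exact hkey g hg ⟨g * g, hg2⟩
        · apply Finset.sum_eq_zero
          intro n _
          apply extendByZero_of_not_mem
          intro hmem
          apply hg2
          have h1 : g * n * g⁻¹ ∈ I := hNI (hN.conj_mem n n.2 g)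
          have h2 : g * g = (g * n * g⁻¹)⁻¹ * (g * n * (g * n)) * (n : G)⁻¹ := by group
          rw [h2]
          exact I.mul_mem (I.mul_mem (I.inv_mem h1) hmem) (I.inv_mem (hNI n.2))
    have hN0 : (Nat.card N : ℂ) ≠ 0 := by exact_mod_cast (Nat.card_pos (α := N)).ne'
    rcases mul_eq_zero.mp hNS with h | h
    · exact absurd h hN0
    · exact h
  rw [hsplit, hout, add_zero]
  exact hfs

end Main

/-- Let G be a finite group with a non-abelian minimal normal subgroup N, and let φ be an irreducible complex character of N with stabilizer I in G such that φ extends to an irreducible character of I with Frobenius–Schur indicator +1. Put d = φ(1)·[G : I]. Then the number of linear characters of G with Frobenius–Schur indicator +1 is at most [G : I] times the number of irreducible characters of G of degree d with Frobenius–Schur indicator +1. -/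
theorem result {G : Type*} [Group G] [Finite G] (N : Subgroup G) (hN : N.Normal) (hN1 : N ≠ ⊥) (hmin : ∀ M : Subgroup G, M.Normal → M ≤ N → M = ⊥ ∨ M = N) (hna : ¬ IsMulCommutative ↥N) (φ : Cfsg.IrrCharacter ↥N) (I : Subgroup G) (hI : ∀ g : G, g ∈ I ↔ ∀ n n' : ↥N, (n' : G) = g * (n : G) * g⁻¹ → (φ : ↥N → ℂ) n' = (φ : ↥N → ℂ) n) (hNI : N ≤ I) (hext : ∃ ψ : Cfsg.IrrCharacter ↥I, (Nat.card ↥I : ℂ)⁻¹ * ∑ᶠ g : ↥I, (ψ : ↥I → ℂ) (g * g) = 1 ∧ ∀ n : ↥N, (ψ : ↥I → ℂ) (Subgroup.inclusion hNI n) = (φ : ↥N → ℂ) n) : Nat.card {χ : Cfsg.IrrCharacter G // Cfsg.charDegree (χ : G → ℂ) = 1 ∧ (Nat.card G : ℂ)⁻¹ * ∑ᶠ g : G, (χ : G → ℂ) (g * g) = 1} ≤ I.index * Nat.card {χ : Cfsg.IrrCharacter G // Cfsg.charDegree (χ : G → ℂ) = Cfsg.charDegree (φ : ↥N → ℂ) * I.index ∧ (Nat.card G : ℂ)⁻¹ * ∑ᶠ g : G, (χ : G → ℂ) (g * g) = 1} := by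
  classical
  have := Fintype.ofFinite G
  have := hN
  have := Fintype.ofFinite N
  have := Fintype.ofFinite I
  obtain ⟨ψ, hfsψ, hψ⟩ := hext
  -- `N` is perfect
  have hperf : ⁅N, N⁆ = N := commutator_eq_of_minimal_normal N hmin hna
  -- translate the stabiliser condition
  have hT : ∀ g : G, g ∈ I ↔ conjFun N g (φ : N → ℂ) = (φ : N → ℂ) := by
    intro g
    rw [hI g]
    constructor
    · intro h
      funext n
      rw [conjFun_apply]
      exact h n ⟨g * n * g⁻¹, hN.conj_mem n n.2 g⟩ rfl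
    · intro h n n' hn'
      have h1 := congrFun h n
      rw [conjFun_apply] at h1
      rw [← h1]
      have h2 : n' = ⟨g * n * g⁻¹, hN.conj_mem n n.2 g⟩ := Subtype.ext hn'
      rw [h2]
  have hres : resNT N I hNI (ψ : I → ℂ) = (φ : N → ℂ) := by
    funext n
    exact hψ n
  have hover : classInner (resNT N I hNI (ψ : I → ℂ)) (φ : N → ℂ) ≠ 0 := by
    rw [hres, classInner_irr_self φ.2]; exact one_ne_zero
  -- the induced character
  have hχ : IsIrrCharacter G (indFun I (ψ : I → ℂ)) :=
    isIrrCharacter_indFun_of_over N I hNI φ.2 hT ψ.2 hover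
  have hχ1 : indFun I (ψ : I → ℂ) 1 = ((charDegree (φ : N → ℂ) * I.index : ℕ) : ℂ) := by
    rw [indFun_one]
    have h1 : (ψ : I → ℂ) 1 = (φ : N → ℂ) 1 := hψ 1
    rw [h1, IsCharacter.apply_one_eq_charDegree (IsIrrCharacter.isCharacter φ.2)]
    push_cast
    ring
  -- its indicator
  have hχfs : (Nat.card G : ℂ)⁻¹ * ∑ᶠ g : G, indFun I (ψ : I → ℂ) (g * g) = 1 := by
    rw [finsum_eq_sum_of_fintype]
    apply fs_indFun_eq_one N I hNI φ.2 hT ψ.2 hres
    rw [← finsum_eq_sum_of_fintype]
    exact hfsψ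
  -- homs attached to the real linear characters
  have hlin : ∀ a : {χ : IrrCharacter G // charDegree (χ : G → ℂ) = 1 ∧
        (Nat.card G : ℂ)⁻¹ * ∑ᶠ g : G, (χ : G → ℂ) (g * g) = 1},
      ∃ lam : G →* ℂˣ, (∀ g, (a.1 : G → ℂ) g = ((lam g : ℂˣ) : ℂ)) ∧ ∀ g, lam g * lam g = 1 := by
    intro a
    have h11 : (a.1 : G → ℂ) 1 = 1 := by
      rw [IsCharacter.apply_one_eq_charDegree (IsIrrCharacter.isCharacter a.1.2), a.2.1]
      simp
    obtain ⟨f, hf⟩ := Cfsg.Agent.Lib.Helper77.exists_monoidHom_of_degree_one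
      (IsIrrCharacter.isCharacter a.1.2) h11
    refine ⟨f, hf, ?_⟩
    apply Cfsg.Agent.S4871.hom_sq_eq_one f
    have hν := a.2.2
    rw [finsum_eq_sum_of_fintype] at hν
    rw [← hν]
    congr 1
    apply Finset.sum_congr rfl
    intro g _
    rw [hf]
  choose lam hlam hlamsq using hlin
  -- the map to characters of degree `d`
  let F : {χ : IrrCharacter G // charDegree (χ : G → ℂ) = 1 ∧
        (Nat.card G : ℂ)⁻¹ * ∑ᶠ g : G, (χ : G → ℂ) (g * g) = 1} →
      {χ : IrrCharacter G // charDegree (χ : G → ℂ) = charDegree (φ : N → ℂ) * I.index ∧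
        (Nat.card G : ℂ)⁻¹ * ∑ᶠ g : G, (χ : G → ℂ) (g * g) = 1} :=
    fun a => ⟨⟨fun g => ((lam a g : ℂˣ) : ℂ) * indFun I (ψ : I → ℂ) g,
      isIrrCharacter_monoidHom_mul (lam a) hχ⟩, by
        constructor
        · apply Cfsg.Agent.Lib.Helper80.charDegree_natCast
          show ((lam a 1 : ℂˣ) : ℂ) * indFun I (ψ : I → ℂ) 1 = _
          rw [map_one, Units.val_one, one_mul, hχ1]
        · have h3 := (Cfsg.Agent.S4871.twist_props (lam a) (hlamsq a)
            ⟨indFun I (ψ : I → ℂ), hχ⟩).2.2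
          exact h3.trans hχfs⟩
  have hFfib : ∀ a a₀, F a = F a₀ → I ≤ (lam a / lam a₀).ker := by
    intro a a₀ hF
    apply Cfsg.Agent.S4870.le_ker_of_mul_ind_eq N I hNI φ.2 hT ψ.2 hres (lam a / lam a₀)
      (le_ker_of_commutator_eq N hperf _)
    intro g
    have h1 : ((lam a g : ℂˣ) : ℂ) * indFun I (ψ : I → ℂ) g =
        ((lam a₀ g : ℂˣ) : ℂ) * indFun I (ψ : I → ℂ) g :=
      congrFun (congrArg (fun b => (b.1.1 : G → ℂ)) hF) g
    rw [MonoidHom.div_apply, Units.val_div_eq_div_val, div_mul_eq_mul_div, h1]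
    exact mul_div_cancel_left₀ _ (Units.ne_zero _)
  -- counting
  have := Fintype.ofFinite {χ : IrrCharacter G // charDegree (χ : G → ℂ) = 1 ∧
        (Nat.card G : ℂ)⁻¹ * ∑ᶠ g : G, (χ : G → ℂ) (g * g) = 1}
  have := Fintype.ofFinite {χ : IrrCharacter G //
      charDegree (χ : G → ℂ) = charDegree (φ : N → ℂ) * I.index ∧
        (Nat.card G : ℂ)⁻¹ * ∑ᶠ g : G, (χ : G → ℂ) (g * g) = 1}
  have hA : Nat.card {χ : IrrCharacter G // charDegree (χ : G → ℂ) = 1 ∧
        (Nat.card G : ℂ)⁻¹ * ∑ᶠ g : G, (χ : G → ℂ) (g * g) = 1}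
      = (Finset.univ : Finset {χ : IrrCharacter G // charDegree (χ : G → ℂ) = 1 ∧
        (Nat.card G : ℂ)⁻¹ * ∑ᶠ g : G, (χ : G → ℂ) (g * g) = 1}).card := by
    rw [Finset.card_univ]; exact Nat.card_eq_fintype_card
  have hB : Nat.card {χ : IrrCharacter G //
      charDegree (χ : G → ℂ) = charDegree (φ : N → ℂ) * I.index ∧
        (Nat.card G : ℂ)⁻¹ * ∑ᶠ g : G, (χ : G → ℂ) (g * g) = 1}
      = (Finset.univ : Finset {χ : IrrCharacter G //
      charDegree (χ : G → ℂ) = charDegree (φ : N → ℂ) * I.index ∧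
        (Nat.card G : ℂ)⁻¹ * ∑ᶠ g : G, (χ : G → ℂ) (g * g) = 1}).card := by
    rw [Finset.card_univ]; exact Nat.card_eq_fintype_card
  rw [hA, hB]
  apply Finset.card_le_mul_card_image_of_maps_to (f := F) (fun _ _ => Finset.mem_univ _)
  intro b _
  by_cases hb : ∃ a₀, F a₀ = b
  · obtain ⟨a₀, ha₀⟩ := hb
    obtain ⟨hfin, hcard⟩ := card_monoidHom_trivial_on_le_index I
    refine le_trans ?_ hcard
    rw [← Fintype.card_subtype, ← Nat.card_eq_fintype_card]
    let J : {a // F a = b} → {ν : G →* ℂˣ // I ≤ ν.ker} :=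
      fun a => ⟨lam a.1 / lam a₀, hFfib a.1 a₀ (a.2.trans ha₀.symm)⟩
    apply Nat.card_le_card_of_injective J
    intro a a' haa'
    have h1 : lam a.1 / lam a₀ = lam a'.1 / lam a₀ := congrArg Subtype.val haa'
    have h2 : lam a.1 = lam a'.1 := div_left_injective h1
    apply Subtype.ext
    apply Subtype.ext
    apply Subtype.ext
    funext g
    rw [hlam a.1 g, hlam a'.1 g, h2]
  · have : (Finset.univ.filter (fun a => F a = b)) = ∅ := by
      apply Finset.filter_eq_empty_iff.mpr
      intro a _ ha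
      exact hb ⟨a, ha⟩
    rw [this]
    simp

end Cfsg.Agent.S4912
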