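import Cfsg.Statements.S4916
import Cfsg.Agent.Lib.Helper16.Osima
import Cfsg.Agent.Lib.Helper78.CharMore

set_option autoImplicit false
open Cfsg

namespace Cfsg.Agent.S4916

set_option linter.style.haveILetI false

open Cfsg.Agent.Lib.Helper16 Cfsg.Agent.Lib.Helper78
open scoped ComplexConjugate

/-- The principal character as an element of `IrrCharacter G`. -/
noncomputable def oneIrr (G : Type*) [Group G] : Cfsg.IrrCharacter G :=
  ⟨fun _ : G => (1 : ℂ), isIrrCharacter_one⟩

theorem card_centralizer_mul_index {G : Type*} [Group G] [Finite G] (g : G) :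
    ((Nat.card (Subgroup.centralizer ({g} : Set G)) : ℂ)) *
      ((Subgroup.centralizer ({g} : Set G)).index : ℂ) = (Nat.card G : ℂ) := by
  rw [← Nat.cast_mul, Subgroup.card_mul_index]

/-- `p ∤ |G|` implies the principal block is `{1}`. -/
theorem backward {G : Type*} [Group G] [Finite G] (p : ℕ) (M : Ideal Cfsg.AlgInt)
    (hM : Cfsg.IsPModular p M) (hp : ¬ p ∣ Nat.card G) (χ : Cfsg.IrrCharacter G)
    (hχ : χ ∈ Cfsg.principalBlock M G) : (χ : G → ℂ) = fun _ => (1 : ℂ) := by
  classical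
  haveI := Fintype.ofFinite G
  haveI := isPModular_isPrime hM
  have hMtop : M ≠ ⊤ := (isPModular_isPrime hM).ne_top
  by_contra hne
  have hne' : χ ≠ oneIrr G := fun h => hne (congrArg Subtype.val h)
  have hsum : ∑ g : G, (χ : G → ℂ) g = 0 := by
    have := Cfsg.Agent.S4969.irr_orthogonality χ (oneIrr G)
    rw [if_neg hne'] at this
    simpa [oneIrr] using this
  have hχ1 : (χ : G → ℂ) 1 ≠ 0 := Cfsg.Agent.Lib.Helper79.irr_apply_one_ne_zero χ
  rw [mem_principalBlock_iff] at hχ
  -- sum the congruences weighted by centralizer orders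
  have key : MemLocalIdeal M (∑ g : G,
      (Nat.card (Subgroup.centralizer ({g} : Set G)) : ℂ) *
        (centralChar (fun _ : G => (1 : ℂ)) g - centralChar (χ : G → ℂ) g)) := by
    apply memLocalIdeal_sum
    intro g _
    exact memLocalIdeal_mul_left (memLocalRing_natCast hMtop _) (hχ g)
  have hcalc : ∑ g : G, (Nat.card (Subgroup.centralizer ({g} : Set G)) : ℂ) *
        (centralChar (fun _ : G => (1 : ℂ)) g - centralChar (χ : G → ℂ) g) =
      ((Nat.card G * Nat.card G : ℕ) : ℂ) := by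
    have h1 : ∀ g : G, (Nat.card (Subgroup.centralizer ({g} : Set G)) : ℂ) *
        (centralChar (fun _ : G => (1 : ℂ)) g - centralChar (χ : G → ℂ) g) =
        (Nat.card G : ℂ) - (Nat.card G : ℂ) / (χ : G → ℂ) 1 * (χ : G → ℂ) g := by
      intro g
      unfold centralChar
      rw [← card_centralizer_mul_index g]
      field_simp
    rw [Finset.sum_congr rfl (fun g _ => h1 g), Finset.sum_sub_distrib, ← Finset.mul_sum, hsum,
      mul_zero, sub_zero, Finset.sum_const, Finset.card_univ, nsmul_eq_mul,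
      ← Nat.card_eq_fintype_card]
    push_cast
    ring
  rw [hcalc, memLocalIdeal_natCast_iff hM] at key
  exact hp ((isPModular_prime hM).dvd_mul.mp key |>.elim id id)

theorem forward {G : Type*} [Group G] [Finite G] (p : ℕ) (M : Ideal Cfsg.AlgInt)
    (hM : Cfsg.IsPModular p M)
    (h : ∀ χ : Cfsg.IrrCharacter G, χ ∈ Cfsg.principalBlock M G →
      ¬ p ∣ Cfsg.charDegree (χ : G → ℂ) → (χ : G → ℂ) = fun _ => (1 : ℂ)) :
    ¬ p ∣ Nat.card G := by
  classical
  haveI := Fintype.ofFinite G
  haveI := isPModular_isPrime hM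
  have hMtop : M ≠ ⊤ := (isPModular_isPrime hM).ne_top
  have hpp : p.Prime := isPModular_prime hM
  intro hdvd
  set B := Cfsg.principalBlock M G with hBdef
  have hBblock : Cfsg.IsPBlock M B := ⟨oneIrr G, rfl⟩
  have h1B : oneIrr G ∈ B := self_mem_blockOf hMtop (oneIrr G)
  have hO := blockCoeff_memLocalRing hBblock (1 : G)
  rw [blockCoeff_eq_sum] at hO
  set F := Finset.univ.filter (fun χ : Cfsg.IrrCharacter G => χ ∈ B) with hF
  -- the sum of squares of degrees
  have hsq : ∑ χ ∈ F, (χ : G → ℂ) 1 * conj ((χ : G → ℂ) 1) =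
      ((∑ χ ∈ F, (Cfsg.charDegree (χ : G → ℂ)) ^ 2 : ℕ) : ℂ) := by
    push_cast
    refine Finset.sum_congr rfl fun χ _ => ?_
    rw [IsCharacter.apply_one_eq_charDegree (IsIrrCharacter.isCharacter χ.2),
      Complex.conj_natCast, sq]
  rw [hsq] at hO
  set S := ∑ χ ∈ F, (Cfsg.charDegree (χ : G → ℂ)) ^ 2 with hS
  have hGne : (Nat.card G : ℂ) ≠ 0 := by exact_mod_cast Nat.card_pos.ne'
  have hSideal : MemLocalIdeal M (S : ℂ) := by
    have h2 : (S : ℂ) = (Nat.card G : ℂ) * ((Nat.card G : ℂ)⁻¹ * (S : ℂ)) := by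
      field_simp
    rw [h2]
    exact memLocalIdeal_mul_right ((memLocalIdeal_natCast_iff hM _).mpr hdvd) hO
  rw [memLocalIdeal_natCast_iff hM] at hSideal
  -- but S ≡ 1 mod p
  have h1F : oneIrr G ∈ F := by
    rw [hF, Finset.mem_filter]; exact ⟨Finset.mem_univ _, h1B⟩
  have hsplit : S = (Cfsg.charDegree ((oneIrr G : Cfsg.IrrCharacter G) : G → ℂ)) ^ 2 +
      ∑ χ ∈ F.erase (oneIrr G), (Cfsg.charDegree (χ : G → ℂ)) ^ 2 := by
    rw [hS, ← Finset.add_sum_erase F _ h1F]
  have hdeg1 : Cfsg.charDegree ((oneIrr G : Cfsg.IrrCharacter G) : G → ℂ) = 1 := by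
    have := IsCharacter.apply_one_eq_charDegree (IsIrrCharacter.isCharacter (oneIrr G).2)
    have h3 : ((oneIrr G : Cfsg.IrrCharacter G) : G → ℂ) 1 = 1 := rfl
    rw [h3] at this
    exact_mod_cast this.symm
  have hrest : p ∣ ∑ χ ∈ F.erase (oneIrr G), (Cfsg.charDegree (χ : G → ℂ)) ^ 2 := by
    apply Finset.dvd_sum
    intro χ hχ
    rw [Finset.mem_erase, hF, Finset.mem_filter] at hχ
    have : p ∣ Cfsg.charDegree (χ : G → ℂ) := by
      by_contra hnd
      exact hχ.1 (Subtype.ext (h χ hχ.2.2 hnd))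
    exact dvd_pow this (by norm_num)
  rw [hsplit, hdeg1, one_pow] at hSideal
  have : p ∣ 1 := (Nat.dvd_add_left hrest).mp hSideal
  exact hpp.one_lt.ne' (Nat.dvd_one.mp this)


/-- Let G be a finite group, p a prime and M a maximal ideal of the algebraic integers containing p. Then the principal character is the only irreducible character of degree prime to p in the principal p-block of G if and only if p does not divide the order of G. -/
theorem result {G : Type*} [Group G] [Finite G] (p : ℕ) [Fact p.Prime] (M : Ideal Cfsg.AlgInt) (hM : Cfsg.IsPModular p M) : (∀ χ : Cfsg.IrrCharacter G, χ ∈ Cfsg.principalBlock M G → ¬ p ∣ Cfsg.charDegree (χ : G → ℂ) → (χ : G → ℂ) = fun _ => (1 : ℂ)) ↔ ¬ p ∣ Nat.card G := by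
  constructor
  · exact forward p M hM
  · intro hp χ hχ _
    exact backward p M hM hp χ hχ

end Cfsg.Agent.S4916
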