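import Cfsg.Statements.S4964
import Cfsg.Agent.Lib.Helper82.BlockInflation
import Cfsg.Agent.Lib.Helper82.NormalPSupport
import Cfsg.Agent.S0941
import Cfsg.Agent.S0029
import Cfsg.Agent.S0012

set_option autoImplicit false
open Cfsg

namespace Cfsg.Agent.S4964

set_option linter.style.haveILetI false

open Cfsg.Agent.Lib.Helper16 Cfsg.Agent.Lib.Helper78 Cfsg.Agent.Lib.Helper82

/-- A `p`-regular element whose image in `G ⧸ ⁅D, D⁆` centralizes the image of the normal
`p`-subgroup `D` centralizes `D`. -/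
theorem mem_centralizer_of_image {G : Type*} [Group G] [Finite G] (p : ℕ) [hp : Fact p.Prime]
    (D : Subgroup G) [D.Normal] (hD : IsPGroup p D) (x : G) (hx : ¬ p ∣ orderOf x)
    (hxc : (x : G ⧸ ⁅D, D⁆) ∈
      Subgroup.centralizer ((D.map (QuotientGroup.mk' ⁅D, D⁆) : Subgroup (G ⧸ ⁅D, D⁆)) :
        Set (G ⧸ ⁅D, D⁆))) :
    x ∈ Subgroup.centralizer (D : Set G) := by
  have key : Subgroup.zpowers x ≤ Subgroup.centralizer (D : Set G) := by
    apply Cfsg.Agent.S0029.result (Subgroup.zpowers x) D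
    · rw [Subgroup.normalizer_eq_top]; exact le_top
    · rw [Nat.card_zpowers]
      obtain ⟨n, hn⟩ := IsPGroup.iff_card.mp hD
      have h1 : Nat.card (frattini D) ∣ p ^ n := by
        rw [← hn]; exact Subgroup.card_subgroup_dvd_card _
      obtain ⟨j, _, hj⟩ := (Nat.dvd_prime_pow hp.out).mp h1
      rw [hj]
      exact (Nat.Coprime.pow_right _ ((Nat.Prime.coprime_iff_not_dvd hp.out).mpr hx).symm)
    · intro a ha k hk
      -- the image of `a` centralizes the image of `D`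
      have hac : (a : G ⧸ ⁅D, D⁆) ∈
          Subgroup.centralizer ((D.map (QuotientGroup.mk' ⁅D, D⁆) : Subgroup (G ⧸ ⁅D, D⁆)) :
            Set (G ⧸ ⁅D, D⁆)) := by
        obtain ⟨j, rfl⟩ := Subgroup.mem_zpowers_iff.mp ha
        rw [QuotientGroup.mk_zpow]
        exact Subgroup.zpow_mem _ hxc j
      have hkm : (k : G ⧸ ⁅D, D⁆) ∈ (D.map (QuotientGroup.mk' ⁅D, D⁆) : Subgroup (G ⧸ ⁅D, D⁆)) :=
        Subgroup.mem_map_of_mem _ hk
      have hcomm := hac _ hkm
      have hmem : a * k * a⁻¹ * k⁻¹ ∈ ⁅D, D⁆ := by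
        rw [← QuotientGroup.eq_one_iff]
        have e : ((a * k * a⁻¹ * k⁻¹ : G) : G ⧸ ⁅D, D⁆) =
            (a : G ⧸ ⁅D, D⁆) * (k : G ⧸ ⁅D, D⁆) * (a : G ⧸ ⁅D, D⁆)⁻¹ * (k : G ⧸ ⁅D, D⁆)⁻¹ := by
          simp
        rw [e, ← hcomm]
        group
      rw [← Subgroup.map_subtype_commutator] at hmem
      exact Subgroup.map_mono (Cfsg.Agent.S0012.result p hD).1 hmem
  exact key (Subgroup.mem_zpowers x)

/-- Let D be a normal p-subgroup of the finite group G, let D′ be its commutator subgroup (normal in G), and fix a maximal ideal M of the algebraic integers containing p. Then (i) two irreducible characters of G ⧸ D′ lie in the same p-block if and only if their inflations to G do, and (ii) every p-block of G contains the inflation of some irreducible character of G ⧸ D′; so inflation induces a bijection between the p-blocks of G ⧸ D′ and the p-blocks of G. -/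
theorem result {G : Type*} [Group G] [Finite G] (p : ℕ) [Fact p.Prime] (M : Ideal Cfsg.AlgInt) (hM : Cfsg.IsPModular p M) (D : Subgroup G) [D.Normal] (hD : IsPGroup p D) : (∀ χ ψ : Cfsg.IrrCharacter (G ⧸ ⁅D, D⁆), Cfsg.SameBlock M (χ : G ⧸ ⁅D, D⁆ → ℂ) (ψ : G ⧸ ⁅D, D⁆ → ℂ) ↔ Cfsg.SameBlock M ((χ : G ⧸ ⁅D, D⁆ → ℂ) ∘ QuotientGroup.mk) ((ψ : G ⧸ ⁅D, D⁆ → ℂ) ∘ QuotientGroup.mk)) ∧ ∀ B : Set (Cfsg.IrrCharacter G), Cfsg.IsPBlock M B → ∃ χ : Cfsg.IrrCharacter (G ⧸ ⁅D, D⁆), ∃ θ ∈ B, (θ : G → ℂ) = (χ : G ⧸ ⁅D, D⁆ → ℂ) ∘ QuotientGroup.mk := by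
  classical
  haveI : Fintype G := Fintype.ofFinite G
  haveI : Fintype (G ⧸ ⁅D, D⁆) := Fintype.ofFinite _
  haveI : Fintype (⁅D, D⁆ : Subgroup G) := Fintype.ofFinite _
  haveI := isPModular_isPrime hM
  have hMtop : M ≠ ⊤ := (isPModular_isPrime hM).ne_top
  have hN : IsPGroup p (⁅D, D⁆ : Subgroup G) := hD.to_le (Subgroup.commutator_le_self D)
  refine ⟨fun χ ψ => ⟨fun h => sameBlock_comp_mk ⁅D, D⁆ hMtop h, fun h => ?_⟩, fun B hB => ?_⟩
  · apply sameBlock_of_forall_support hM χ ψ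
    intro y
    -- the image of `D`
    set Dbar : Subgroup (G ⧸ ⁅D, D⁆) := D.map (QuotientGroup.mk' ⁅D, D⁆) with hDbar
    haveI : Dbar.Normal := Subgroup.Normal.map inferInstance _ (QuotientGroup.mk'_surjective _)
    have hDbarp : IsPGroup p Dbar := hD.map _
    by_cases hy : p ∣ orderOf y
    · left
      rw [blockCoeff_eq_zero_of_pSingular hM (isPBlock_blockOf χ) y hy]
      exact memLocalIdeal_zero hMtop
    by_cases hyc : y ∈ Subgroup.centralizer (Dbar : Set (G ⧸ ⁅D, D⁆))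
    · right
      obtain ⟨x, hx, rfl⟩ := Cfsg.Agent.S0941.exists_pRegular_lift p ⁅D, D⁆ y hy
      have hxD := mem_centralizer_of_image p D hD x hx hyc
      have hxN : x ∈ Subgroup.centralizer ((⁅D, D⁆ : Subgroup G) : Set G) :=
        Subgroup.centralizer_le (Subgroup.commutator_le_self D) hxD
      have hle := Cfsg.Agent.S0941.comap_centralizer_le p ⁅D, D⁆ hN x hx hxN
      have hrel : (Subgroup.centralizer ({x} : Set G)).relIndex
          ((Subgroup.centralizer ({(x : G ⧸ ⁅D, D⁆)} : Set (G ⧸ ⁅D, D⁆))).comap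
            (QuotientGroup.mk' ⁅D, D⁆)) = 1 :=
        Subgroup.relIndex_eq_one.mpr hle
      have h1 := h x
      rw [centralChar_comp_mk, centralChar_comp_mk, hrel, Nat.cast_one, one_mul, one_mul] at h1
      exact h1
    · left
      exact blockCoeff_memLocalIdeal_of_not_mem_centralizer hM Dbar hDbarp (isPBlock_blockOf χ) y hyc
  · obtain ⟨θ, hθB, hθ⟩ := exists_mem_block_forall_mem_eq ⁅D, D⁆ hM hN hB
    refine ⟨Cfsg.Agent.Lib.Helper77.deflate ⁅D, D⁆ θ hθ, θ, hθB, ?_⟩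
    funext g
    exact (Cfsg.Agent.Lib.Helper77.deflate_mk ⁅D, D⁆ θ hθ g).symm

end Cfsg.Agent.S4964
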