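-- Statement S4965: k(X) ≤ k(V ⋊ X/V) for an abelian normal subgroup V.
import Cfsg.Statements.S4965
import Mathlib.GroupTheory.GroupAction.CardCommute
import Mathlib.Tactic.Group

set_option autoImplicit false
open Cfsg

namespace Cfsg.Agent.S4965

section aux

variable {X : Type*} [Group X] (V : Subgroup X)

/-- A base point in the fibre of commuting pairs over `(a, b)` (junk `(1,1)` if the fibre is
empty). -/
noncomputable def base (ab : (X ⧸ V) × (X ⧸ V)) : X × X :=
  open Classical in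
  if h : ∃ q : X × X, Commute q.1 q.2 ∧ (QuotientGroup.mk q.1 : X ⧸ V) = ab.1 ∧
      (QuotientGroup.mk q.2 : X ⧸ V) = ab.2 then h.choose else (1, 1)

theorem base_spec (x y : X) (hxy : Commute x y) :
    Commute (base V (QuotientGroup.mk x, QuotientGroup.mk y)).1
        (base V (QuotientGroup.mk x, QuotientGroup.mk y)).2 ∧
      (QuotientGroup.mk (base V (QuotientGroup.mk x, QuotientGroup.mk y)).1 : X ⧸ V) =
        QuotientGroup.mk x ∧
      (QuotientGroup.mk (base V (QuotientGroup.mk x, QuotientGroup.mk y)).2 : X ⧸ V) =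
        QuotientGroup.mk y := by
  have h : ∃ q : X × X, Commute q.1 q.2 ∧
      (QuotientGroup.mk q.1 : X ⧸ V) = ((QuotientGroup.mk x, QuotientGroup.mk y) :
        (X ⧸ V) × (X ⧸ V)).1 ∧
      (QuotientGroup.mk q.2 : X ⧸ V) = ((QuotientGroup.mk x, QuotientGroup.mk y) :
        (X ⧸ V) × (X ⧸ V)).2 := ⟨(x, y), hxy, rfl, rfl⟩
  unfold base
  rw [dif_pos h]
  exact h.choose_spec

theorem mul_inv_mem_of_mk_eq [V.Normal] {x x₀ : X}
    (h : (QuotientGroup.mk x₀ : X ⧸ V) = QuotientGroup.mk x) :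
    x * x₀⁻¹ ∈ V := by
  have h1 : x₀⁻¹ * x ∈ V := QuotientGroup.eq.mp h
  have h2 : x * (x₀⁻¹ * x) * x⁻¹ ∈ V := Subgroup.Normal.conj_mem inferInstance _ h1 x
  simpa [mul_assoc] using h2

/-- The commutation of the images in the split extension. -/
theorem commute_image [V.Normal] (φ : X ⧸ V →* MulAut ↥V)
    (hφ : ∀ (x : X) (v : ↥V), ((φ (QuotientGroup.mk x) v : ↥V) : X) = x * v * x⁻¹)
    (x y x₀ y₀ : X) (hxy : x * y = y * x) (h0 : x₀ * y₀ = y₀ * x₀)
    (h1 : (QuotientGroup.mk x₀ : X ⧸ V) = QuotientGroup.mk x)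
    (h2 : (QuotientGroup.mk y₀ : X ⧸ V) = QuotientGroup.mk y)
    (hu : x * x₀⁻¹ ∈ V) (hw : y * y₀⁻¹ ∈ V) :
    Commute (⟨⟨x * x₀⁻¹, hu⟩, QuotientGroup.mk x⟩ : SemidirectProduct ↥V (X ⧸ V) φ)
      ⟨⟨y * y₀⁻¹, hw⟩, QuotientGroup.mk y⟩ := by
  show (⟨⟨x * x₀⁻¹, hu⟩, QuotientGroup.mk x⟩ : SemidirectProduct ↥V (X ⧸ V) φ) *
      ⟨⟨y * y₀⁻¹, hw⟩, QuotientGroup.mk y⟩ =
    ⟨⟨y * y₀⁻¹, hw⟩, QuotientGroup.mk y⟩ * ⟨⟨x * x₀⁻¹, hu⟩, QuotientGroup.mk x⟩
  have hφ1 : ∀ v : ↥V, ((φ (QuotientGroup.mk x) v : ↥V) : X) = x₀ * v * x₀⁻¹ :=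
    fun v => by rw [← hφ x₀ v, h1]
  have hφ2 : ∀ v : ↥V, ((φ (QuotientGroup.mk y) v : ↥V) : X) = y₀ * v * y₀⁻¹ :=
    fun v => by rw [← hφ y₀ v, h2]
  ext
  · simp only [SemidirectProduct.mul_left, Subgroup.coe_mul]
    rw [hφ1, hφ2]
    have e1 : x * x₀⁻¹ * (x₀ * (y * y₀⁻¹) * x₀⁻¹) = x * y * (x₀ * y₀)⁻¹ := by
      group
    have e2 : y * y₀⁻¹ * (y₀ * (x * x₀⁻¹) * y₀⁻¹) = y * x * (y₀ * x₀)⁻¹ := by
      group
    rw [e1, e2, hxy, h0]
  · simp only [SemidirectProduct.mul_right]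
    rw [← QuotientGroup.mk_mul, ← QuotientGroup.mk_mul, hxy]

end aux

/-- Let X be a finite group with an abelian normal subgroup V (any two elements of V commute), and let φ be the action of X ⧸ V on V induced by conjugation (well defined because V is abelian; the hypothesis hφ says that the class of x acts as conjugation by x). Then X has at most as many conjugacy classes as the semidirect product of V by X ⧸ V formed with this action: the split extension has the largest class number among extensions with the given action. -/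
theorem result {X : Type*} [Group X] [Finite X] (V : Subgroup X) [V.Normal] (hab : ∀ a ∈ V, ∀ b ∈ V, a * b = b * a) (φ : X ⧸ V →* MulAut ↥V) (hφ : ∀ (x : X) (v : ↥V), ((φ (QuotientGroup.mk x) v : ↥V) : X) = x * v * x⁻¹) : Nat.card (ConjClasses X) ≤ Nat.card (ConjClasses (SemidirectProduct ↥V (X ⧸ V) φ)) := by
  classical
  have : Finite (SemidirectProduct ↥V (X ⧸ V) φ) :=
    Finite.of_equiv _ (SemidirectProduct.equivProd (φ := φ)).symm
  -- the injection on commuting pairs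
  let f : {p : X × X // Commute p.1 p.2} →
      {p : SemidirectProduct ↥V (X ⧸ V) φ × SemidirectProduct ↥V (X ⧸ V) φ // Commute p.1 p.2} :=
    fun p =>
      ⟨(⟨⟨p.1.1 * (base V ((QuotientGroup.mk p.1.1 : X ⧸ V), (QuotientGroup.mk p.1.2 : X ⧸ V))).1⁻¹,
            mul_inv_mem_of_mk_eq V (base_spec V p.1.1 p.1.2 p.2).2.1⟩, QuotientGroup.mk p.1.1⟩,
        ⟨⟨p.1.2 * (base V ((QuotientGroup.mk p.1.1 : X ⧸ V), (QuotientGroup.mk p.1.2 : X ⧸ V))).2⁻¹,
            mul_inv_mem_of_mk_eq V (base_spec V p.1.1 p.1.2 p.2).2.2⟩, QuotientGroup.mk p.1.2⟩),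
        commute_image V φ hφ _ _ _ _ p.2 (base_spec V p.1.1 p.1.2 p.2).1
          (base_spec V p.1.1 p.1.2 p.2).2.1 (base_spec V p.1.1 p.1.2 p.2).2.2 _ _⟩
  have hf : Function.Injective f := by
    rintro ⟨⟨x, y⟩, hxy⟩ ⟨⟨x', y'⟩, hxy'⟩ h
    have h' := congrArg Subtype.val h
    simp only [f, Prod.mk.injEq] at h'
    obtain ⟨h1, h2⟩ := h'
    have ha : (QuotientGroup.mk x : X ⧸ V) = QuotientGroup.mk x' := congrArg (·.right) h1
    have hb : (QuotientGroup.mk y : X ⧸ V) = QuotientGroup.mk y' := congrArg (·.right) h2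
    have hu := congrArg (fun s => ((s.left : ↥V) : X)) h1
    have hw := congrArg (fun s => ((s.left : ↥V) : X)) h2
    simp only at hu hw
    rw [ha, hb] at hu hw
    have hx : x = x' := mul_right_cancel hu
    have hy : y = y' := mul_right_cancel hw
    subst hx; subst hy; rfl
  have hcard := Nat.card_le_card_of_injective f hf
  rw [card_comm_eq_card_conjClasses_mul_card, card_comm_eq_card_conjClasses_mul_card,
    SemidirectProduct.card] at hcard
  have hX : Nat.card X = Nat.card ↥V * Nat.card (X ⧸ V) := by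
    rw [mul_comm]; exact Subgroup.card_eq_card_quotient_mul_card_subgroup V
  rw [← hX] at hcard
  exact Nat.le_of_mul_le_mul_right hcard Nat.card_pos

end Cfsg.Agent.S4965
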