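import Cfsg.Statements.S4966
import Mathlib

set_option autoImplicit false
open Cfsg

namespace Cfsg.Agent.S4966

set_option linter.unusedSectionVars false
set_option linter.style.haveILetI false


open LinearMap

section common

variable {F : Type*} [Field F] {G : Type*} [Group G] {V : Type*} [AddCommGroup V] [Module F V]
  [FiniteDimensional F V] (ρ : Representation F G V) (B : LinearMap.BilinForm F V)

/-- the asymmetry of a nondegenerate form: `B x y = B y (τ x)`. -/
theorem exists_asym (hB : B.Nondegenerate) :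
    ∃ τ : Module.End F V, ∀ x y : V, B x y = B y (τ x) := by
  refine ⟨LinearMap.BilinForm.symmCompOfNondegenerate B B.flip hB.flip, fun x y => ?_⟩
  have := LinearMap.BilinForm.symmCompOfNondegenerate_left_apply B hB.flip y x
  exact this.symm

variable {B}

theorem eq_of_forall_right (hB : B.Nondegenerate) {a b : V} (h : ∀ y, B y a = B y b) : a = b := by
  have h2 : ∀ y, B y (a - b) = 0 := fun y => by rw [map_sub, h y, sub_self]
  exact sub_eq_zero.mp (hB.2 (a - b) h2)

theorem eq_of_forall_left (hB : B.Nondegenerate) {a b : V} (h : ∀ y, B a y = B b y) : a = b := by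
  have h2 : ∀ y, B (a - b) y = 0 := fun y => by rw [map_sub, LinearMap.sub_apply, h y, sub_self]
  exact sub_eq_zero.mp (hB.1 (a - b) h2)

variable {ρ}
variable (hB : B.Nondegenerate) (hBinv : ∀ g : G, ∀ x y : V, B (ρ g x) (ρ g y) = B x y)
  {τ : Module.End F V} (hτ : ∀ x y : V, B x y = B y (τ x))

include hBinv in
theorem form_inv_right (g : G) (x y : V) : B (ρ g x) y = B x (ρ g⁻¹ y) := by
  have := hBinv g x (ρ g⁻¹ y)
  rw [← Module.End.mul_apply, ← map_mul, mul_inv_cancel, map_one, Module.End.one_apply] at this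
  exact this

include hB hBinv hτ in
theorem tau_comm (g : G) : Commute τ (ρ g) := by
  apply LinearMap.ext
  intro x
  apply eq_of_forall_right hB
  intro y
  show B y (τ (ρ g x)) = B y (ρ g (τ x))
  rw [← hτ, form_inv_right hBinv, hτ, ← inv_inv g, ← form_inv_right hBinv, inv_inv]

include hτ in
theorem tau_isometry (x y : V) : B (τ x) (τ y) = B x y := by
  rw [← hτ y (τ x), ← hτ x y]

include hB hτ in
theorem tau_injective : Function.Injective τ := by
  rw [← LinearMap.ker_eq_bot, LinearMap.ker_eq_bot']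
  intro x hx
  apply hB.1
  intro y
  rw [hτ, hx, map_zero]

include hB hτ in
/-- an inverse of τ -/
theorem exists_tau_inv : ∃ σ : Module.End F V, σ * τ = 1 ∧ τ * σ = 1 := by
  have hbij : Function.Bijective τ :=
    ⟨tau_injective hB hτ, LinearMap.surjective_of_injective (tau_injective hB hτ)⟩
  let e := LinearEquiv.ofBijective τ hbij
  refine ⟨e.symm.toLinearMap, ?_, ?_⟩
  · ext x; exact e.symm_apply_apply x
  · ext x; exact e.apply_symm_apply x

variable {σ : Module.End F V} (hσ1 : σ * τ = 1) (hσ2 : τ * σ = 1)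

include hτ hσ2 in
theorem form_tau_right (x y : V) : B x (τ y) = B (σ x) y := by
  have h := tau_isometry hτ (σ x) y
  have h2 : τ (σ x) = x := by
    rw [← Module.End.mul_apply, hσ2, Module.End.one_apply]
  rw [h2] at h
  exact h

include hτ hσ1 hσ2 in
theorem form_N_right (x y : V) : B x ((τ - 1) y) = B ((-σ * (τ - 1)) x) y := by
  have e : (-σ * (τ - 1)) = σ - 1 := by
    rw [neg_mul, mul_sub, hσ1, mul_one, neg_sub]
  rw [e, LinearMap.sub_apply, LinearMap.sub_apply, map_sub, map_sub, LinearMap.sub_apply,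
    form_tau_right hτ hσ2, Module.End.one_apply, Module.End.one_apply]

include hτ hσ1 hσ2 in
theorem form_N_pow_right (k : ℕ) (x y : V) :
    B x (((τ - 1) ^ k) y) = B (((-σ * (τ - 1)) ^ k) x) y := by
  induction k generalizing x y with
  | zero => simp
  | succ k ih =>
    rw [pow_succ, Module.End.mul_apply, ih, form_N_right hτ hσ1 hσ2, ← Module.End.mul_apply,
      ← pow_succ']

include hσ1 hσ2 in
theorem sigma_comm_N : Commute (-σ) (τ - 1) := by
  have h : Commute σ τ := by rw [Commute, SemiconjBy, hσ1, hσ2]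
  exact (h.sub_right (Commute.one_right σ)).neg_left

include hτ hσ1 hσ2 in
theorem ortho_left (n : ℕ) (x y : V) (hx : x ∈ LinearMap.ker ((τ - 1) ^ n))
    (hy : y ∈ LinearMap.range ((τ - 1) ^ n)) : B x y = 0 := by
  obtain ⟨w, rfl⟩ := hy
  rw [form_N_pow_right hτ hσ1 hσ2, (sigma_comm_N hσ1 hσ2).mul_pow, Module.End.mul_apply,
    LinearMap.mem_ker.mp hx, map_zero, map_zero, LinearMap.zero_apply]

include hτ hσ1 hσ2 in
theorem ortho_right (n : ℕ) (x y : V) (hx : x ∈ LinearMap.ker ((τ - 1) ^ n))
    (hy : y ∈ LinearMap.range ((τ - 1) ^ n)) : B y x = 0 := by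
  rw [hτ]
  apply ortho_left hτ hσ1 hσ2 n x (τ y) hx
  obtain ⟨w, rfl⟩ := hy
  refine ⟨τ w, ?_⟩
  have hc : Commute τ ((τ - 1) ^ n) :=
    ((Commute.refl τ).sub_right (Commute.one_right τ)).pow_right n
  rw [← Module.End.mul_apply, ← hc.eq, Module.End.mul_apply]

/-- Fitting decomposition with positive exponent. -/
theorem exists_fitting (N : Module.End F V) :
    ∃ n : ℕ, 1 ≤ n ∧ IsCompl (LinearMap.ker (N ^ n)) (LinearMap.range (N ^ n)) := by
  obtain ⟨k, hk⟩ := Filter.eventually_atTop.mp N.eventually_isCompl_ker_pow_range_pow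
  exact ⟨max k 1, le_max_right _ _, hk _ (le_max_left _ _)⟩

theorem ker_le_ker_pow (N : Module.End F V) {n : ℕ} (hn : 1 ≤ n) :
    LinearMap.ker N ≤ LinearMap.ker (N ^ n) := by
  intro x hx
  rw [LinearMap.mem_ker] at hx ⊢
  obtain ⟨m, rfl⟩ := Nat.exists_eq_add_of_le' hn
  rw [pow_succ, Module.End.mul_apply, hx, map_zero]

include hB hBinv hτ hσ1 hσ2 in
theorem concl_odd (h2 : (2 : F) ≠ 0) (p : ℕ) (hp : p ≠ 2) :
    ∃ U W : Submodule F V, IsCompl U W ∧ (∀ g : G, ∀ u ∈ U, ρ g u ∈ U) ∧
      (∀ g : G, ∀ w ∈ W, ρ g w ∈ W) ∧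
      (∃ A : LinearMap.BilinForm F V, (∀ x : V, A x x = 0) ∧
        (∀ g : G, ∀ x ∈ U, ∀ y ∈ U, A (ρ g x) (ρ g y) = A x y) ∧
        (∀ x ∈ U, (∀ y ∈ U, A x y = 0) → x = 0)) ∧
      (∃ S : LinearMap.BilinForm F V, (∀ x y : V, S x y = S y x) ∧
        (∀ g : G, ∀ x ∈ W, ∀ y ∈ W, S (ρ g x) (ρ g y) = S x y) ∧
        (∀ x ∈ W, (∀ y ∈ W, S x y = 0) → x = 0)) ∧
      (p = 2 → ∀ g : G, ∀ w ∈ W, ρ g w = w) := by
  obtain ⟨n, hn1, hcompl⟩ := exists_fitting (τ - 1)
  have hNcomm : ∀ g : G, Commute ((τ - 1) ^ n) (ρ g) := fun g =>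
    (((tau_comm hB hBinv hτ g).sub_left (Commute.one_left _)).pow_left n)
  have hsum : ∀ y : V, ∃ y₁ ∈ LinearMap.ker ((τ - 1) ^ n), ∃ y₂ ∈ LinearMap.range ((τ - 1) ^ n),
      y₁ + y₂ = y := by
    intro y
    have : y ∈ LinearMap.ker ((τ - 1) ^ n) ⊔ LinearMap.range ((τ - 1) ^ n) := by
      rw [hcompl.sup_eq_top]; trivial
    exact Submodule.mem_sup.mp this
  refine ⟨LinearMap.range ((τ - 1) ^ n), LinearMap.ker ((τ - 1) ^ n), hcompl.symm, ?_, ?_,
    ⟨B - B.flip, ?_, ?_, ?_⟩, ⟨B + B.flip, ?_, ?_, ?_⟩, fun h => absurd h hp⟩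
  · rintro g u ⟨w, rfl⟩
    exact ⟨ρ g w, by rw [← Module.End.mul_apply, (hNcomm g).eq, Module.End.mul_apply]⟩
  · intro g w hw
    rw [LinearMap.mem_ker] at hw ⊢
    rw [← Module.End.mul_apply, (hNcomm g).eq, Module.End.mul_apply, hw, map_zero]
  · intro x
    simp
  · intro g x _ y _
    simp only [LinearMap.sub_apply, LinearMap.BilinForm.flip_apply, hBinv]
  · intro x hx hxy
    have hall : ∀ y, B x y = B y x := by
      intro y
      obtain ⟨y₁, hy₁, y₂, hy₂, rfl⟩ := hsum y
      have h1 := hxy y₂ hy₂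
      simp only [LinearMap.sub_apply, LinearMap.BilinForm.flip_apply, sub_eq_zero] at h1
      rw [map_add, map_add, LinearMap.add_apply, h1,
        ortho_right hτ hσ1 hσ2 n y₁ x hy₁ hx, ortho_left hτ hσ1 hσ2 n y₁ x hy₁ hx]
    have hfix : τ x = x := by
      apply eq_of_forall_right hB
      intro y
      rw [← hτ, hall]
    have hker : x ∈ LinearMap.ker ((τ - 1) ^ n) := by
      apply ker_le_ker_pow _ hn1
      rw [LinearMap.mem_ker, LinearMap.sub_apply, hfix, Module.End.one_apply, sub_self]
    have : x ∈ LinearMap.ker ((τ - 1) ^ n) ⊓ LinearMap.range ((τ - 1) ^ n) := ⟨hker, hx⟩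
    rw [hcompl.inf_eq_bot] at this
    exact (Submodule.mem_bot F).mp this
  · intro x y
    simp only [LinearMap.add_apply, LinearMap.BilinForm.flip_apply]
    exact add_comm _ _
  · intro g x _ y _
    simp only [LinearMap.add_apply, LinearMap.BilinForm.flip_apply, hBinv]
  · intro x hx hxy
    have hall : ∀ y, B x y + B y x = 0 := by
      intro y
      obtain ⟨y₁, hy₁, y₂, hy₂, rfl⟩ := hsum y
      have h1 := hxy y₁ hy₁
      simp only [LinearMap.add_apply, LinearMap.BilinForm.flip_apply] at h1
      rw [map_add, map_add, LinearMap.add_apply, ortho_left hτ hσ1 hσ2 n x y₂ hx hy₂,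
        ortho_right hτ hσ1 hσ2 n x y₂ hx hy₂, add_zero, add_zero, h1]
    have hneg : τ x = -x := by
      apply eq_of_forall_right hB
      intro y
      rw [← hτ, map_neg]
      exact eq_neg_of_add_eq_zero_left (hall y)
    have hN : (τ - 1) x = (-2 : F) • x := by
      rw [LinearMap.sub_apply, hneg, Module.End.one_apply]
      module
    have hNk : ∀ k : ℕ, ((τ - 1) ^ k) x = ((-2 : F) ^ k) • x := by
      intro k
      induction k with
      | zero => simp
      | succ k ih =>
        rw [pow_succ, Module.End.mul_apply, hN, map_smul, ih, smul_smul, pow_succ, mul_comm]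
    have h0 := LinearMap.mem_ker.mp hx
    rw [hNk n] at h0
    rcases smul_eq_zero.mp h0 with h | h
    · exact absurd h (pow_ne_zero n (neg_ne_zero.mpr h2))
    · exact h

end common

section two

variable {F : Type*} [Field F] {G : Type*} [Group G] [Fintype G] {V : Type*} [AddCommGroup V]
  [Module F V] [FiniteDimensional F V] (ρ : Representation F G V)

/-- the sum of all group elements -/
noncomputable def Eop : Module.End F V := ∑ g : G, ρ g

/-- averaged half sum -/
noncomputable def zop (T : Finset G) : Module.End F V := ∑ h : G, ∑ g ∈ T, ρ (h * g * h⁻¹)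

/-- its adjoint -/
noncomputable def zst (T : Finset G) : Module.End F V := ∑ h : G, ∑ g ∈ T, ρ (h * g⁻¹ * h⁻¹)

theorem rho_mul_Eop (k : G) : ρ k * Eop ρ = Eop ρ := by
  unfold Eop
  rw [Finset.mul_sum]
  simp_rw [← map_mul]
  exact Fintype.sum_equiv (Equiv.mulLeft k) _ _ fun g => rfl

theorem Eop_mul_rho (k : G) : Eop ρ * ρ k = Eop ρ := by
  unfold Eop
  rw [Finset.sum_mul]
  simp_rw [← map_mul]
  exact Fintype.sum_equiv (Equiv.mulRight k) _ _ fun g => rfl

theorem Eop_comm (k : G) : Commute (Eop ρ) (ρ k) := by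
  rw [Commute, SemiconjBy, Eop_mul_rho, rho_mul_Eop]

theorem Eop_idem (hcard : (Fintype.card G : F) = 1) : Eop ρ * Eop ρ = Eop ρ := by
  have h : Eop ρ * Eop ρ = ∑ g : G, ρ g * Eop ρ := by
    rw [← Finset.sum_mul]; rfl
  rw [h]
  simp_rw [rho_mul_Eop]
  rw [Finset.sum_const, Finset.card_univ, ← Nat.cast_smul_eq_nsmul F, hcard, one_smul]

theorem zop_conj (T : Finset G) (k : G) : ρ k * zop ρ T * ρ k⁻¹ = zop ρ T := by
  unfold zop
  rw [Finset.mul_sum, Finset.sum_mul]
  simp_rw [Finset.mul_sum, Finset.sum_mul, ← map_mul]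
  refine Fintype.sum_equiv (Equiv.mulLeft k) _ _ fun h => ?_
  refine Finset.sum_congr rfl fun g _ => ?_
  simp [mul_assoc]

theorem zop_comm (T : Finset G) (k : G) : Commute (zop ρ T) (ρ k) := by
  have h := zop_conj ρ T k
  have h2 : ρ k * zop ρ T * ρ k⁻¹ * ρ k = zop ρ T * ρ k := by rw [h]
  rw [mul_assoc, ← map_mul, inv_mul_cancel, map_one, mul_one] at h2
  exact h2.symm

/-- half system sum identity -/
theorem half_sum [DecidableEq G] (T : Finset G) (hT1 : (1 : G) ∉ T)
    (hT : ∀ g : G, g ≠ 1 → (g ∈ T ↔ g⁻¹ ∉ T)) :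
    ∑ g ∈ T, (ρ g + ρ g⁻¹) = Eop ρ - 1 := by
  have hdisj : Disjoint T (T.image (fun g => g⁻¹)) := by
    rw [Finset.disjoint_left]
    intro g hg hg'
    obtain ⟨k, hk, hkg⟩ := Finset.mem_image.mp hg'
    have hg1 : g ≠ 1 := fun h => hT1 (h ▸ hg)
    have : g⁻¹ ∉ T := (hT g hg1).mp hg
    apply this
    rw [← hkg, inv_inv]; exact hk
  have hunion : T ∪ T.image (fun g => g⁻¹) = Finset.univ.erase 1 := by
    ext g
    simp only [Finset.mem_union, Finset.mem_image, Finset.mem_erase, Finset.mem_univ, and_true]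
    constructor
    · rintro (hg | ⟨k, hk, rfl⟩)
      · exact fun h => hT1 (h ▸ hg)
      · intro h
        apply hT1
        have : k = 1 := by rw [← inv_inv k, h, inv_one]
        exact this ▸ hk
    · intro hg1
      by_cases hg : g ∈ T
      · exact Or.inl hg
      · right
        refine ⟨g⁻¹, ?_, inv_inv g⟩
        by_contra hcon
        have hinv1 : g⁻¹ ≠ 1 := fun h => hg1 (by rw [← inv_inv g, h, inv_one])
        have := (hT g⁻¹ hinv1).mpr
        rw [inv_inv] at this
        exact hcon (this hg)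
  rw [Finset.sum_add_distrib]
  have h2 : ∑ g ∈ T, ρ g⁻¹ = ∑ g ∈ T.image (fun g => g⁻¹), ρ g := by
    rw [Finset.sum_image]
    intro a _ b _ h
    exact inv_injective h
  rw [h2, ← Finset.sum_union hdisj, hunion, Eop, ← Finset.add_sum_erase Finset.univ _ (Finset.mem_univ 1),
    map_one, add_sub_cancel_left]

theorem zop_add_zst [DecidableEq G] (hcard : (Fintype.card G : F) = 1) (T : Finset G) (hT1 : (1 : G) ∉ T)
    (hT : ∀ g : G, g ≠ 1 → (g ∈ T ↔ g⁻¹ ∉ T)) :
    zop ρ T + zst ρ T = Eop ρ - 1 := by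
  unfold zop zst
  rw [← Finset.sum_add_distrib]
  have h1 : ∀ h : G, ∑ g ∈ T, ρ (h * g * h⁻¹) + ∑ g ∈ T, ρ (h * g⁻¹ * h⁻¹) = Eop ρ - 1 := by
    intro h
    rw [← Finset.sum_add_distrib]
    have : ∀ g ∈ T, ρ (h * g * h⁻¹) + ρ (h * g⁻¹ * h⁻¹) = ρ h * (ρ g + ρ g⁻¹) * ρ h⁻¹ := by
      intro g _
      simp only [map_mul, mul_add, add_mul]
    rw [Finset.sum_congr rfl this, ← Finset.sum_mul, ← Finset.mul_sum, half_sum ρ T hT1 hT]
    rw [mul_sub, sub_mul, mul_one, ← map_mul, mul_inv_cancel, map_one, (Eop_comm ρ h).symm.eq,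
      mul_assoc, ← map_mul, mul_inv_cancel, map_one, mul_one]
  rw [Finset.sum_congr rfl fun h _ => h1 h, Finset.sum_const, Finset.card_univ,
    ← Nat.cast_smul_eq_nsmul F, hcard, one_smul]


variable {ρ} {B : LinearMap.BilinForm F V}
  (hBinv : ∀ g : G, ∀ x y : V, B (ρ g x) (ρ g y) = B x y)
  {τ : Module.End F V} (hτ : ∀ x y : V, B x y = B y (τ x))

include hBinv in
theorem Eop_adj (x y : V) : B (Eop ρ x) y = B x (Eop ρ y) := by
  unfold Eop
  simp only [LinearMap.sum_apply, map_sum]
  simp_rw [form_inv_right hBinv]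
  exact Fintype.sum_equiv (Equiv.inv G) _ _ fun g => rfl

include hBinv in
theorem zop_adj (T : Finset G) (x y : V) : B (zop ρ T x) y = B x (zst ρ T y) := by
  unfold zop zst
  simp only [LinearMap.sum_apply, map_sum]
  refine Finset.sum_congr rfl fun h _ => Finset.sum_congr rfl fun g _ => ?_
  rw [form_inv_right hBinv]
  congr 3
  group

include hτ in
/-- the key alternating lemma -/
theorem alt_of_adj {a a' : Module.End F V} (h : ∀ x y, B (a x) y = B x (a' y)) (x : V) :
    B x ((a - a' * τ) x) = 0 := by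
  rw [LinearMap.sub_apply, map_sub, Module.End.mul_apply, ← h, ← hτ, sub_self]

end two

theorem exists_half {G : Type*} [Group G] [Fintype G] [DecidableEq G]
    (hodd : ∀ g : G, g * g = 1 → g = 1) :
    ∃ T : Finset G, (1 : G) ∉ T ∧ ∀ g : G, g ≠ 1 → (g ∈ T ↔ g⁻¹ ∉ T) := by
  let φ := Fintype.equivFin G
  refine ⟨Finset.univ.filter (fun g => φ g < φ g⁻¹), ?_, ?_⟩
  · simp
  · intro g hg
    have hne : g⁻¹ ≠ g := by
      intro h
      apply hg
      apply hodd
      calc g * g = g⁻¹ * g := by rw [h]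
        _ = 1 := inv_mul_cancel g
    have hφ : φ g⁻¹ ≠ φ g := fun h => hne (φ.injective h)
    simp only [Finset.mem_filter, Finset.mem_univ, true_and, inv_inv, not_lt]
    constructor
    · intro h; exact le_of_lt h
    · intro h; exact lt_of_le_of_ne h (Ne.symm hφ)

theorem no_involution {G : Type*} [Group G] [Finite G] (h2 : ¬ 2 ∣ Nat.card G) (g : G)
    (hg : g * g = 1) : g = 1 := by
  have h1 : orderOf g ∣ 2 := orderOf_dvd_of_pow_eq_one (by rw [pow_two, hg])
  have h3 : orderOf g ∣ Nat.card G := orderOf_dvd_natCard g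
  have : orderOf g = 1 := by
    rcases (Nat.dvd_prime Nat.prime_two).mp h1 with h | h
    · exact h
    · exact absurd (h ▸ h3) h2
  exact orderOf_eq_one_iff.mp this

theorem card_cast_eq_one {F : Type*} [Field F] (h2 : (2 : F) = 0) (n : ℕ) (hn : ¬ 2 ∣ n) :
    (n : F) = 1 := by
  have : n % 2 = 1 := Nat.mod_two_ne_zero.mp (fun h => hn (Nat.dvd_of_mod_eq_zero h))
  have h3 : n = 2 * (n / 2) + 1 := by omega
  rw [h3]
  push_cast
  rw [h2, zero_mul, zero_add]

section proj

variable {F : Type*} [Field F] {V : Type*} [AddCommGroup V] [Module F V]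
  {B : LinearMap.BilinForm F V} {p q : Submodule F V} (hpq : IsCompl p q)

theorem proj_comm (a : Module.End F V) (hp : ∀ x ∈ p, a x ∈ p) (hq : ∀ x ∈ q, a x ∈ q) :
    Commute (p.projection q hpq) a := by
  apply LinearMap.ext
  intro x
  show p.projection q hpq (a x) = a (p.projection q hpq x)
  have hx : x = p.projection q hpq x + (x - p.projection q hpq x) := by abel
  conv_lhs => rw [hx, map_add, map_add]
  rw [Submodule.projection_apply_of_mem_left hpq (hp _ (Submodule.projection_apply_mem hpq x)),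
    Submodule.projection_apply_of_mem_right hpq (hq _ (Submodule.sub_projection_mem hpq x)),
    add_zero]

theorem proj_adj (h1 : ∀ u ∈ p, ∀ v ∈ q, B u v = 0) (h2 : ∀ u ∈ p, ∀ v ∈ q, B v u = 0) (x y : V) :
    B (p.projection q hpq x) y = B x (p.projection q hpq y) := by
  have hx : x = p.projection q hpq x + (x - p.projection q hpq x) := by abel
  have hy : y = p.projection q hpq y + (y - p.projection q hpq y) := by abel
  conv_lhs => rw [hy, map_add, h1 _ (Submodule.projection_apply_mem hpq x) _
    (Submodule.sub_projection_mem hpq y), add_zero]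
  conv_rhs => rw [hx, map_add, LinearMap.add_apply, h2 _ (Submodule.projection_apply_mem hpq y) _
    (Submodule.sub_projection_mem hpq x), add_zero]

end proj

theorem exists_sym_form {F : Type*} [Field F] {V : Type*} [AddCommGroup V] [Module F V]
    [FiniteDimensional F V] (W : Submodule F V) (Q : Module.End F V) (hQW : ∀ x, Q x ∈ W)
    (hQid : ∀ w ∈ W, Q w = w) :
    ∃ S : LinearMap.BilinForm F V, (∀ x y, S x y = S y x) ∧
      (∀ x ∈ W, (∀ y ∈ W, S x y = 0) → x = 0) := by
  classical
  let b := Module.finBasis F W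
  let Qr : V →ₗ[F] W := Q.codRestrict W hQW
  let f : Fin (Module.finrank F W) → (V →ₗ[F] F) := fun i => (b.coord i) ∘ₗ Qr
  refine ⟨∑ i, LinearMap.BilinForm.linMulLin (f i) (f i), ?_, ?_⟩
  · intro x y
    simp only [LinearMap.sum_apply, LinearMap.BilinForm.linMulLin_apply]
    exact Finset.sum_congr rfl fun i _ => mul_comm _ _
  · intro x hx hxy
    have hQx : Qr x = ⟨x, hx⟩ := Subtype.ext (hQid x hx)
    have hcoord : ∀ j, b.repr ⟨x, hx⟩ j = 0 := by
      intro j
      have h := hxy (b j) (b j).2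
      simp only [LinearMap.sum_apply, LinearMap.BilinForm.linMulLin_apply] at h
      have hbj : ∀ i, f i (b j : V) = if i = j then 1 else 0 := by
        intro i
        have : Qr (b j : V) = b j := Subtype.ext (hQid _ (b j).2)
        show b.coord i (Qr (b j : V)) = _
        rw [this, Module.Basis.coord_apply, Module.Basis.repr_self, Finsupp.single_apply]
        simp [eq_comm]
      simp only [hbj, mul_ite, mul_one, mul_zero, Finset.sum_ite_eq', Finset.mem_univ, if_true] at h
      show b.repr ⟨x, hx⟩ j = 0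
      rw [← hQx]
      exact h
    have : (⟨x, hx⟩ : W) = 0 := by
      apply b.repr.injective
      ext j
      rw [hcoord j]; simp
    exact congrArg Subtype.val this




section final2

variable {F : Type*} [Field F] {G : Type*} [Group G] [Fintype G] {V : Type*} [AddCommGroup V]
  [Module F V] [FiniteDimensional F V] {ρ : Representation F G V} {B : LinearMap.BilinForm F V}
variable (hB : B.Nondegenerate) (hBinv : ∀ g : G, ∀ x y : V, B (ρ g x) (ρ g y) = B x y)
  {τ σ : Module.End F V} (hτ : ∀ x y : V, B x y = B y (τ x)) (hσ1 : σ * τ = 1) (hσ2 : τ * σ = 1)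

theorem zst_conj (T : Finset G) (k : G) : ρ k * zst ρ T * ρ k⁻¹ = zst ρ T := by
  unfold zst
  rw [Finset.mul_sum, Finset.sum_mul]
  simp_rw [Finset.mul_sum, Finset.sum_mul, ← map_mul]
  refine Fintype.sum_equiv (Equiv.mulLeft k) _ _ fun h => ?_
  refine Finset.sum_congr rfl fun g _ => ?_
  simp [mul_assoc]

theorem zst_comm (T : Finset G) (k : G) : Commute (zst ρ T) (ρ k) := by
  have h := zst_conj (ρ := ρ) T k
  have h2 : ρ k * zst ρ T * ρ k⁻¹ * ρ k = zst ρ T * ρ k := by rw [h]
  rw [mul_assoc, ← map_mul, inv_mul_cancel, map_one, mul_one] at h2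
  exact h2.symm

include hB hBinv hτ hσ1 hσ2 in
theorem concl_two (h2 : (2 : F) = 0) (hcard : (Fintype.card G : F) = 1) (T : Finset G)
    (hT1 : (1 : G) ∉ T) (hT : ∀ g : G, g ≠ 1 → (g ∈ T ↔ g⁻¹ ∉ T)) (p : ℕ) :
    ∃ U W : Submodule F V, IsCompl U W ∧ (∀ g : G, ∀ u ∈ U, ρ g u ∈ U) ∧
      (∀ g : G, ∀ w ∈ W, ρ g w ∈ W) ∧
      (∃ A : LinearMap.BilinForm F V, (∀ x : V, A x x = 0) ∧
        (∀ g : G, ∀ x ∈ U, ∀ y ∈ U, A (ρ g x) (ρ g y) = A x y) ∧
        (∀ x ∈ U, (∀ y ∈ U, A x y = 0) → x = 0)) ∧
      (∃ S : LinearMap.BilinForm F V, (∀ x y : V, S x y = S y x) ∧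
        (∀ g : G, ∀ x ∈ W, ∀ y ∈ W, S (ρ g x) (ρ g y) = S x y) ∧
        (∀ x ∈ W, (∀ y ∈ W, S x y = 0) → x = 0)) ∧
      (p = 2 → ∀ g : G, ∀ w ∈ W, ρ g w = w) := by
  classical
  obtain ⟨n, hn1, hcompl⟩ := exists_fitting (τ - 1)
  set N : Module.End F V := τ - 1 with hN
  set Kr := LinearMap.ker (N ^ n) with hKr
  set Rg := LinearMap.range (N ^ n) with hRg
  set π : Module.End F V := Rg.projection Kr hcompl.symm with hπ
  set E : Module.End F V := Eop ρ with hE
  set z : Module.End F V := zop ρ T with hz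
  set zs : Module.End F V := zst ρ T with hzs
  -- commutation with N^n gives commutation with π
  have hπcomm : ∀ a : Module.End F V, Commute a (N ^ n) → Commute π a := by
    intro a ha
    apply proj_comm hcompl.symm a
    · rintro x ⟨w, rfl⟩
      exact ⟨a w, by rw [← Module.End.mul_apply, ← ha.eq, Module.End.mul_apply]⟩
    · intro x hx
      rw [hKr, LinearMap.mem_ker] at hx ⊢
      rw [← Module.End.mul_apply, ← ha.eq, Module.End.mul_apply, hx, map_zero]
  have hτρ : ∀ g : G, Commute τ (ρ g) := tau_comm hB hBinv hτ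
  have hNρ : ∀ g : G, Commute N (ρ g) := fun g => (hτρ g).sub_left (Commute.one_left _)
  have hτN : Commute τ N := (Commute.refl τ).sub_right (Commute.one_right τ)
  have hzρ : ∀ g : G, Commute z (ρ g) := zop_comm ρ T
  have hzsρ : ∀ g : G, Commute zs (ρ g) := zst_comm T
  have hEρ : ∀ g : G, Commute E (ρ g) := Eop_comm ρ
  have hτE : Commute τ E := Commute.sum_right _ _ _ fun g _ => hτρ g
  have hτz : Commute τ z :=
    Commute.sum_right _ _ _ fun h _ => Commute.sum_right _ _ _ fun g _ => hτρ _
  have hτzs : Commute τ zs :=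
    Commute.sum_right _ _ _ fun h _ => Commute.sum_right _ _ _ fun g _ => hτρ _
  have hNE : Commute N E := hτE.sub_left (Commute.one_left _)
  have hNz : Commute N z := hτz.sub_left (Commute.one_left _)
  have hNzs : Commute N zs := hτzs.sub_left (Commute.one_left _)
  have hzE : Commute z E := Commute.sum_right _ _ _ fun g _ => hzρ g
  have hzsE : Commute zs E := Commute.sum_right _ _ _ fun g _ => hzsρ g
  have hπρ : ∀ g : G, Commute π (ρ g) := fun g => hπcomm _ ((hNρ g).pow_left n).symm
  have hπτ : Commute π τ := hπcomm _ (hτN.pow_right n)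
  have hπN : Commute π N := hπcomm _ ((Commute.refl N).pow_right n)
  have hπE : Commute π E := hπcomm _ (hNE.pow_left n).symm
  have hπz : Commute π z := hπcomm _ (hNz.pow_left n).symm
  have hπzs : Commute π zs := hπcomm _ (hNzs.pow_left n).symm
  have hπidem : π * π = π := Submodule.isIdempotentElem_projection hcompl.symm
  have hEidem : E * E = E := Eop_idem ρ hcard
  have hπadj : ∀ x y, B (π x) y = B x (π y) :=
    proj_adj hcompl.symm (fun u hu v hv => ortho_right hτ hσ1 hσ2 n v u hv hu)
      (fun u hu v hv => ortho_left hτ hσ1 hσ2 n v u hv hu)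
  have h1π_idem : (1 - π) * (1 - π) = 1 - π := by
    rw [mul_sub, sub_mul, sub_mul, one_mul, mul_one, one_mul, hπidem, sub_self, sub_zero]
  -- the idempotent Q
  set Q : Module.End F V := E * (1 - π) with hQ
  have hE1π : Commute E (1 - π) := (Commute.one_right E).sub_right hπE.symm
  have hQidem : IsIdempotentElem Q := by
    show Q * Q = Q
    rw [hQ, mul_assoc, ← mul_assoc (1 - π), ← hE1π.eq, mul_assoc, h1π_idem, ← mul_assoc, hEidem]
  have hQρ : ∀ g : G, Commute Q (ρ g) := fun g =>
    (hEρ g).mul_left ((Commute.one_left _).sub_left (hπρ g))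
  have hQadj : ∀ x y, B (Q x) y = B x (Q y) := by
    intro x y
    have h1 : ∀ u v, B ((1 - π) u) v = B u ((1 - π) v) := by
      intro u v
      simp only [LinearMap.sub_apply, Module.End.one_apply, map_sub, hπadj]
    show B (E ((1 - π) x)) y = B x (Q y)
    rw [hE, Eop_adj hBinv, h1]
    show B x (((1 - π) * E) y) = B x (Q y)
    rw [← hE1π.eq]
  refine ⟨LinearMap.ker Q, LinearMap.range Q, hQidem.isCompl.symm, ?_, ?_, ?_, ?_, ?_⟩
  · intro g u hu
    rw [LinearMap.mem_ker] at hu ⊢
    rw [← Module.End.mul_apply, (hQρ g).eq, Module.End.mul_apply, hu, map_zero]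
  · rintro g w ⟨v, rfl⟩
    exact ⟨ρ g v, by rw [← Module.End.mul_apply, (hQρ g).eq, Module.End.mul_apply]⟩
  · set Ψ : Module.End F V := (1 - π) * (z - zs * τ) + π * N with hΨ
    have h1πzs : Commute (1 - π) zs := (Commute.one_left zs).sub_left hπzs
    have hΨρ : ∀ g : G, Commute Ψ (ρ g) := by
      intro g
      have c1 : Commute (1 - π) (ρ g) := (Commute.one_left _).sub_left (hπρ g)
      exact (c1.mul_left ((hzρ g).sub_left ((hzsρ g).mul_left (hτρ g)))).add_left
        ((hπρ g).mul_left (hNρ g))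
    have hΨE : Commute Ψ E := Commute.sum_right _ _ _ fun g _ => hΨρ g
    have hΨπ : Commute Ψ π := by
      have c1 : Commute (1 - π) π := (Commute.one_left _).sub_left (Commute.refl π)
      exact (c1.mul_left ((hπz.symm).sub_left ((hπzs.symm).mul_left hπτ.symm))).add_left
        ((Commute.refl π).mul_left hπN.symm)
    have hΨQ : Commute Ψ Q := hΨE.mul_right ((Commute.one_right _).sub_right hΨπ)
    refine ⟨B.compl₂ Ψ, ?_, ?_, ?_⟩
    · intro x
      show B x (Ψ x) = 0
      have ha1 : ∀ u v, B (((1 - π) * z) u) v = B u ((zs * (1 - π)) v) := by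
        intro u v
        show B ((1 - π) (z u)) v = B u (zs ((1 - π) v))
        rw [hzs, ← zop_adj hBinv]
        simp only [LinearMap.sub_apply, Module.End.one_apply, map_sub, hπadj]
        rfl
      have ha2 : ∀ u v, B ((-π) u) v = B u ((-π) v) := by
        intro u v
        simp only [LinearMap.neg_apply, map_neg, hπadj]
      have e : Ψ = ((1 - π) * z - (zs * (1 - π)) * τ) + ((-π) - (-π) * τ) := by
        rw [hΨ, hN, ← h1πzs.eq]
        noncomm_ring
      rw [e, LinearMap.add_apply, map_add, alt_of_adj hτ ha1, alt_of_adj hτ ha2, add_zero]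
    · intro g x _ y _
      show B (ρ g x) (Ψ (ρ g y)) = B x (Ψ y)
      rw [← Module.End.mul_apply, (hΨρ g).eq, Module.End.mul_apply, hBinv]
    · intro x hx hxy
      have hΨU : ∀ u ∈ LinearMap.ker Q, Ψ u ∈ LinearMap.ker Q := by
        intro u hu
        rw [LinearMap.mem_ker] at hu ⊢
        rw [← Module.End.mul_apply, ← hΨQ.eq, Module.End.mul_apply, hu, map_zero]
      have hzsum : z + zs = E - 1 := zop_add_zst ρ hcard T hT1 hT
      have hσcomm : ∀ a : Module.End F V, Commute a τ → Commute σ a := by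
        intro a ha
        show σ * a = a * σ
        calc σ * a = σ * a * (τ * σ) := by rw [hσ2, mul_one]
          _ = σ * (a * τ) * σ := by noncomm_ring
          _ = σ * (τ * a) * σ := by rw [ha.eq]
          _ = (σ * τ) * a * σ := by noncomm_ring
          _ = a * σ := by rw [hσ1, one_mul]
      have hinj : ∀ u ∈ LinearMap.ker Q, Ψ u = 0 → u = 0 := by
        intro u hu hΨu
        rw [LinearMap.mem_ker] at hu
        -- π u = 0
        have hπ1π : π * (1 - π) = 0 := by rw [mul_sub, mul_one, hπidem, sub_self]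
        have h1 : π (Ψ u) = N (π u) := by
          have e : π * Ψ = N * π := by
            rw [hΨ, mul_add, ← mul_assoc, hπ1π, zero_mul, zero_add, ← mul_assoc, hπidem, hπN.eq]
          exact DFunLike.congr_fun e u
        rw [hΨu, map_zero] at h1
        have hπu : π u = 0 := by
          have hk : π u ∈ Kr := by
            apply ker_le_ker_pow N hn1
            rw [LinearMap.mem_ker]; exact h1.symm
          have hr : π u ∈ Rg := Submodule.projection_apply_mem hcompl.symm u
          have : π u ∈ Kr ⊓ Rg := ⟨hk, hr⟩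
          rw [hcompl.inf_eq_bot] at this
          exact (Submodule.mem_bot F).mp this
        have huK : u ∈ Kr := (Submodule.projection_apply_eq_zero_iff hcompl.symm).mp hπu
        have hEu : E u = 0 := by
          have : Q u = E (u - π u) := rfl
          rw [hπu, sub_zero] at this
          rw [← this]; exact hu
        -- Ψ u = z N u + τ u
        have h2u : u + u = 0 := by
          rw [← two_smul F u, h2, zero_smul]
        have hΨu' : Ψ u = z (N u) + τ u := by
          have e1 : Ψ u = (z - zs * τ) (u - π u) + π (N u) := by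
            have e : Ψ = (z - zs * τ) * (1 - π) + π * N := by
              rw [hΨ]
              congr 1
              have c : Commute (1 - π) (z - zs * τ) :=
                ((Commute.one_left _).sub_left (hπz.sub_right (hπzs.mul_right hπτ)))
              exact c.eq
            exact DFunLike.congr_fun e u
          have e2 : π (N u) = 0 := by
            rw [← Module.End.mul_apply, hπN.eq, Module.End.mul_apply, hπu, map_zero]
          rw [e1, e2, hπu, sub_zero, add_zero]
          have hzs' : zs = E - 1 - z := by rw [← hzsum]; abel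
          have e3 : (z - zs * τ) u = z u - (E (τ u) - τ u - z (τ u)) := by
            rw [hzs']; rfl
          have e4 : E (τ u) = 0 := by
            rw [← Module.End.mul_apply, ← hτE.eq, Module.End.mul_apply, hEu, map_zero]
          rw [e3, e4]
          have e5 : N u = τ u - u := rfl
          rw [e5, map_sub]
          have hzu : z u + z u = 0 := by rw [← map_add, h2u, map_zero]
          have e6 : z u - (0 - τ u - z (τ u)) - (z (τ u) - z u + τ u) = z u + z u := by abel
          exact sub_eq_zero.mp (e6.trans hzu)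
        rw [hΨu] at hΨu'
        -- u = (-σ z) N u
        have hσz : Commute σ z := hσcomm z hτz.symm
        have hσN : Commute σ N := hσcomm N hτN.symm
        have hM : u = ((-(σ * z)) * N) u := by
          have h3 : τ u = -(z (N u)) := eq_neg_of_add_eq_zero_right hΨu'.symm
          have h4 : σ (τ u) = u := by
            rw [← Module.End.mul_apply, hσ1, Module.End.one_apply]
          calc u = σ (τ u) := h4.symm
            _ = σ (-(z (N u))) := by rw [h3]
            _ = ((-(σ * z)) * N) u := by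
              simp only [Module.End.mul_apply, LinearMap.neg_apply, map_neg]
        have hMc : Commute (-(σ * z)) N := ((hσN.mul_left hNz.symm)).neg_left
        have hMk : ∀ k : ℕ, u = (((-(σ * z)) * N) ^ k) u := by
          intro k
          induction k with
          | zero => simp
          | succ k ih =>
            rw [pow_succ, Module.End.mul_apply, ← hM]
            exact ih
        have := hMk n
        rw [hMc.mul_pow, Module.End.mul_apply, LinearMap.mem_ker.mp huK, map_zero] at this
        exact this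
      -- surjectivity on U
      have hsurj : ∀ u ∈ LinearMap.ker Q, ∃ y ∈ LinearMap.ker Q, Ψ y = u := by
        let ΨU : LinearMap.ker Q →ₗ[F] LinearMap.ker Q := Ψ.restrict hΨU
        have hinjU : Function.Injective ΨU := by
          rw [← LinearMap.ker_eq_bot, LinearMap.ker_eq_bot']
          intro u hu
          have : Ψ (u : V) = 0 := by
            have := congrArg Subtype.val hu
            simpa [ΨU] using this
          exact Subtype.ext (hinj u u.2 this)
        have hsurjU := LinearMap.surjective_of_injective hinjU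
        intro u hu
        obtain ⟨y, hy⟩ := hsurjU ⟨u, hu⟩
        refine ⟨y, y.2, ?_⟩
        have := congrArg Subtype.val hy
        simpa [ΨU] using this
      apply hB.1
      intro y
      have hy : y ∈ LinearMap.ker Q ⊔ LinearMap.range Q := by
        rw [hQidem.isCompl.symm.sup_eq_top]; trivial
      obtain ⟨u, hu, w, hw, rfl⟩ := Submodule.mem_sup.mp hy
      rw [map_add]
      obtain ⟨y', hy', rfl⟩ := hsurj u hu
      have e1 : B x (Ψ y') = 0 := hxy y' hy'
      obtain ⟨v, rfl⟩ := hw
      have e2 : B x (Q v) = 0 := by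
        rw [← hQadj, LinearMap.mem_ker.mp hx, map_zero, LinearMap.zero_apply]
      rw [e1, e2, add_zero]
  · obtain ⟨S, hS1, hS2⟩ := exists_sym_form (LinearMap.range Q) Q (fun x => LinearMap.mem_range_self Q x)
      (by
        rintro w ⟨v, rfl⟩
        rw [← Module.End.mul_apply, hQidem.eq])
    refine ⟨S, hS1, ?_, hS2⟩
    rintro g x ⟨v, rfl⟩ y ⟨w, rfl⟩
    have hfix : ∀ u, ρ g (Q u) = Q u := by
      intro u
      show ρ g (E ((1 - π) u)) = E ((1 - π) u)
      rw [← Module.End.mul_apply, rho_mul_Eop]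
    rw [hfix, hfix]
  · rintro _ g w ⟨v, rfl⟩
    show ρ g (E ((1 - π) v)) = E ((1 - π) v)
    rw [← Module.End.mul_apply, rho_mul_Eop]

end final2



/-- Let F be a finite field of characteristic p, G a finite group of order prime to p, and V a finite-dimensional representation of G over F carrying a nondegenerate G-invariant bilinear form (equivalently, V is self-dual). Then V is the direct sum of two G-invariant subspaces U and W such that U carries a G-invariant alternating bilinear form that is nondegenerate on U and W carries a G-invariant symmetric bilinear form that is nondegenerate on W; moreover when p = 2 the decomposition can be chosen with G acting trivially on W. -/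
theorem result {F : Type*} [Field F] [Fintype F] (p : ℕ) [Fact p.Prime] [CharP F p] {G : Type*} [Group G] [Finite G] (hcop : ¬ p ∣ Nat.card G) {V : Type*} [AddCommGroup V] [Module F V] [FiniteDimensional F V] (ρ : Representation F G V) (B : LinearMap.BilinForm F V) (hB : B.Nondegenerate) (hBinv : ∀ g : G, ∀ x y : V, B (ρ g x) (ρ g y) = B x y) : ∃ U W : Submodule F V, IsCompl U W ∧ (∀ g : G, ∀ u ∈ U, ρ g u ∈ U) ∧ (∀ g : G, ∀ w ∈ W, ρ g w ∈ W) ∧ (∃ A : LinearMap.BilinForm F V, (∀ x : V, A x x = 0) ∧ (∀ g : G, ∀ x ∈ U, ∀ y ∈ U, A (ρ g x) (ρ g y) = A x y) ∧ (∀ x ∈ U, (∀ y ∈ U, A x y = 0) → x = 0)) ∧ (∃ S : LinearMap.BilinForm F V, (∀ x y : V, S x y = S y x) ∧ (∀ g : G, ∀ x ∈ W, ∀ y ∈ W, S (ρ g x) (ρ g y) = S x y) ∧ (∀ x ∈ W, (∀ y ∈ W, S x y = 0) → x = 0)) ∧ (p = 2 → ∀ g : G, ∀ w ∈ W, ρ g w = w) := by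
  classical
  haveI : Fintype G := Fintype.ofFinite G
  obtain ⟨τ, hτ⟩ := exists_asym B hB
  obtain ⟨σ, hσ1, hσ2⟩ := exists_tau_inv hB hτ
  by_cases hp2 : p = 2
  · subst hp2
    have h2 : (2 : F) = 0 := by
      have := CharP.cast_eq_zero F 2
      exact_mod_cast this
    have hcop' : ¬ 2 ∣ Fintype.card G := by rwa [← Nat.card_eq_fintype_card]
    have hcard : (Fintype.card G : F) = 1 := card_cast_eq_one h2 (Fintype.card G) hcop'
    obtain ⟨T, hT1, hT⟩ := exists_half (G := G) (no_involution hcop)
    exact concl_two hB hBinv hτ hσ1 hσ2 h2 hcard T hT1 hT 2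
  · have h2 : (2 : F) ≠ 0 := by
      intro h
      have h' : ((2 : ℕ) : F) = 0 := by exact_mod_cast h
      have hd : p ∣ 2 := (CharP.cast_eq_zero_iff F p 2).mp h'
      have hpp : p.Prime := Fact.out
      rcases (Nat.dvd_prime Nat.prime_two).mp hd with h1 | h1
      · exact hpp.one_lt.ne' h1
      · exact hp2 h1
    exact concl_odd hB hBinv hτ hσ1 hσ2 h2 p hp2

end Cfsg.Agent.S4966
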