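import Cfsg.Statements.S4967
import Mathlib

set_option autoImplicit false
open Cfsg

namespace Cfsg.Agent.S4967

set_option linter.unusedSectionVars false
set_option linter.style.haveILetI false


section setup

variable {F : Type*} [Field F] {H : Type*} [CommGroup H] {V : Type*} [AddCommGroup V]
  [Module F V] (ρ : Representation F H V)

/-- The commutative subalgebra generated by the image of `ρ`. -/
def KK : Subalgebra F (Module.End F V) := Algebra.adjoin F (Set.range ρ)

theorem rho_mem (h : H) : ρ h ∈ KK ρ := Algebra.subset_adjoin ⟨h, rfl⟩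

theorem range_comm : ∀ a ∈ Set.range ρ, ∀ b ∈ Set.range ρ, a * b = b * a := by
  rintro _ ⟨g, rfl⟩ _ ⟨h, rfl⟩
  rw [← map_mul, ← map_mul, mul_comm]

theorem KK_comm (a b : Module.End F V) (ha : a ∈ KK ρ) (hb : b ∈ KK ρ) : a * b = b * a := by
  haveI := Algebra.isMulCommutative_adjoin F (range_comm ρ)
  have := mul_comm' (⟨a, ha⟩ : Algebra.adjoin F (Set.range ρ)) ⟨b, hb⟩
  exact congrArg Subtype.val this

variable (hirr : ∀ U : Submodule F V, (∀ h : H, ∀ u ∈ U, ρ h u ∈ U) → U = ⊥ ∨ U = ⊤)

include hirr in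
theorem ker_eq_bot_of_ne_zero (k : Module.End F V) (hk : k ∈ KK ρ) (hk0 : k ≠ 0) :
    LinearMap.ker k = ⊥ := by
  rcases hirr (LinearMap.ker k) (by
    intro h u hu
    rw [LinearMap.mem_ker] at hu ⊢
    have := KK_comm ρ k (ρ h) hk (rho_mem ρ h)
    rw [← Module.End.mul_apply, this, Module.End.mul_apply, hu, map_zero]) with h | h
  · exact h
  · exfalso
    apply hk0
    exact LinearMap.ker_eq_top.mp h

include hirr in
theorem KK_noZeroDivisors (a b : Module.End F V) (ha : a ∈ KK ρ)
    (hab : a * b = 0) : a = 0 ∨ b = 0 := by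
  by_cases ha0 : a = 0
  · exact Or.inl ha0
  · right
    have hker := ker_eq_bot_of_ne_zero ρ hirr a ha ha0
    ext x
    have : a (b x) = 0 := by rw [← Module.End.mul_apply, hab]; rfl
    have : b x ∈ LinearMap.ker a := this
    rw [hker] at this
    simpa using this

variable [Fintype F] [FiniteDimensional F V]

theorem finite_KK : Finite (KK ρ) := by
  haveI : Finite (Module.End F V) := Module.finite_of_finite F
  exact Finite.of_injective (fun k : KK ρ => (k : Module.End F V)) Subtype.val_injective

include hirr in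
theorem KK_isField [Nontrivial V] : IsField (KK ρ) := by
  haveI := finite_KK ρ
  refine ⟨⟨0, 1, ?_⟩, ?_, ?_⟩
  · intro h
    have h1 : (0 : Module.End F V) = 1 := congrArg Subtype.val h
    exact zero_ne_one h1
  · intro a b
    exact Subtype.ext (KK_comm ρ a.1 b.1 a.2 b.2)
  · intro a ha
    have hinj : Function.Injective (fun b : KK ρ => a * b) := by
      intro b c hbc
      have h1 : a * (b - c) = 0 := by rw [mul_sub]; exact sub_eq_zero.mpr hbc
      have h2 : a.1 * (b - c).1 = 0 := congrArg Subtype.val h1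
      rcases KK_noZeroDivisors ρ hirr a.1 (b - c).1 a.2 h2 with h | h
      · exact absurd (Subtype.ext h) ha
      · have : b - c = 0 := Subtype.ext h
        exact sub_eq_zero.mp this
    exact (Finite.injective_iff_surjective.mp hinj) 1

end setup

section field

variable {F : Type*} [Field F] [Fintype F] {K : Type*} [Field K] [Finite K] [Algebra F K]
  {H : Type*} [CommGroup H] [Finite H] (ι : H →* K)

theorem frob_pow_apply (j : ℕ) (x : K) :
    (FiniteField.frobeniusAlgHom F K ^ j) x = x ^ (Fintype.card F ^ j) := by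
  rw [AlgHom.coe_pow, FiniteField.coe_frobeniusAlgHom, pow_iterate]

/-- Backward direction at field level. -/
theorem exists_inverting_aut (m : ℕ) (hdiv : Nat.card H ∣ Fintype.card F ^ m + 1) :
    ∃ τ : K ≃ₐ[F] K, ∀ h : H, τ (ι h) * ι h = 1 := by
  haveI : Algebra.IsAlgebraic F K := Algebra.IsAlgebraic.of_finite F K
  refine ⟨FiniteField.frobeniusAlgEquivOfAlgebraic F K ^ m, fun h => ?_⟩
  rw [AlgEquiv.coe_pow, FiniteField.coe_frobeniusAlgEquivOfAlgebraic_iterate]
  show (ι h) ^ (Fintype.card F ^ m) * ι h = 1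
  rw [← pow_succ, ← map_pow]
  obtain ⟨c, hc⟩ := hdiv
  rw [hc, pow_mul, pow_card_eq_one', one_pow, map_one]

/-- Forward direction at field level. -/
theorem even_and_dvd_of_inverting (hι : Function.Injective ι)
    (hgen : Algebra.adjoin F (Set.range ι) = ⊤) (τ : K →ₐ[F] K)
    (hτ : ∀ h : H, τ (ι h) = ι h⁻¹) (hn : 2 ≤ Module.finrank F K) :
    Even (Module.finrank F K) ∧ Nat.card H ∣ Fintype.card F ^ (Module.finrank F K / 2) + 1 := by
  classical
  set n := Module.finrank F K with hndef
  set r := Fintype.card F with hr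
  obtain ⟨⟨j, hj⟩, hjτ⟩ := (FiniteField.bijective_frobeniusAlgHom_pow F K).2 τ
  simp only at hjτ
  -- ι h⁻¹ = (ι h)^(r^j)
  have h1 : ∀ h : H, (ι h) ^ (r ^ j) = ι h⁻¹ := by
    intro h
    rw [← hτ h, ← hjτ, frob_pow_apply]
  -- Frobenius^(2j) = 1
  have h2 : FiniteField.frobeniusAlgHom F K ^ (2 * j) = 1 := by
    apply AlgHom.ext_of_adjoin_eq_top hgen
    rintro _ ⟨h, rfl⟩
    rw [frob_pow_apply, AlgHom.one_apply, two_mul, pow_add, pow_mul, h1]
    have := h1 h⁻¹
    rw [inv_inv] at this
    exact this
  have h3 : n ∣ 2 * j := by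
    rw [hndef, ← FiniteField.orderOf_frobeniusAlgHom F K]
    exact orderOf_dvd_of_pow_eq_one h2
  -- j ≠ 0
  have hj0 : j ≠ 0 := by
    intro hj0
    subst hj0
    have h4 : ∀ h : H, ι h = 1 ∨ ι h = -1 := by
      intro h
      have := h1 h
      rw [pow_zero, pow_one] at this
      have h5 : ι h * ι h = 1 := by
        nth_rewrite 1 [this]
        rw [← map_mul, inv_mul_cancel, map_one]
      exact mul_self_eq_one_iff.mp h5
    have h6 : Algebra.adjoin F (Set.range ι) ≤ ⊥ := by
      apply Algebra.adjoin_le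
      rintro _ ⟨h, rfl⟩
      rcases h4 h with h | h
      · rw [h]; exact one_mem _
      · rw [h]; exact neg_mem (one_mem _)
    rw [hgen] at h6
    have h7 : (⊥ : Subalgebra F K) = ⊤ := le_antisymm bot_le h6
    have := Subalgebra.bot_eq_top_iff_finrank_eq_one.mp h7
    omega
  have h8 : 2 * j = n := by
    obtain ⟨c, hc⟩ := h3
    have hc1 : c = 1 := by
      rcases c with _ | _ | c
      · omega
      · rfl
      · exfalso
        have : n * (c + 1 + 1) ≥ n * 2 := Nat.mul_le_mul_left n (by omega)
        omega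
    rw [hc, hc1, mul_one]
  refine ⟨⟨j, by omega⟩, ?_⟩
  have h9 : n / 2 = j := by omega
  rw [h9]
  -- H is cyclic
  haveI : IsCyclic H := isCyclic_of_injective_ringHom ι hι
  rw [← IsCyclic.exponent_eq_card]
  apply Monoid.exponent_dvd_of_forall_pow_eq_one
  intro h
  apply hι
  rw [map_pow, map_one, pow_succ, h1, ← map_mul, inv_mul_cancel, map_one]

end field

section main

variable {F : Type*} [Field F] [Fintype F] {H : Type*} [CommGroup H] [Finite H] {V : Type*}
  [AddCommGroup V] [Module F V] [FiniteDimensional F V] (ρ : Representation F H V)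
  (hirr : ∀ U : Submodule F V, (∀ h : H, ∀ u ∈ U, ρ h u ∈ U) → U = ⊥ ∨ U = ⊤)

/-- evaluation at a vector -/
def evalMap (v₀ : V) : KK ρ →ₗ[F] V where
  toFun k := k.1 v₀
  map_add' _ _ := rfl
  map_smul' _ _ := rfl

@[simp] theorem evalMap_apply (v₀ : V) (k : KK ρ) : evalMap ρ v₀ k = k.1 v₀ := rfl

include hirr in
theorem evalMap_bijective (v₀ : V) (hv₀ : v₀ ≠ 0) : Function.Bijective (evalMap ρ v₀) := by
  constructor
  · rw [← LinearMap.ker_eq_bot, LinearMap.ker_eq_bot']
    intro k hk
    by_contra hk0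
    have hk0' : k.1 ≠ 0 := fun h => hk0 (Subtype.ext h)
    have hker := ker_eq_bot_of_ne_zero ρ hirr k.1 k.2 hk0'
    have : v₀ ∈ LinearMap.ker k.1 := hk
    rw [hker] at this
    exact hv₀ ((Submodule.mem_bot F).mp this)
  · rw [← LinearMap.range_eq_top]
    rcases hirr (LinearMap.range (evalMap ρ v₀)) (by
      rintro h _ ⟨k, rfl⟩
      exact ⟨⟨ρ h, rho_mem ρ h⟩ * k, rfl⟩) with h | h
    · exfalso
      have : v₀ ∈ LinearMap.range (evalMap ρ v₀) := ⟨1, rfl⟩
      rw [h] at this
      exact hv₀ ((Submodule.mem_bot F).mp this)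
    · exact h

/-- the representation as a monoid hom into the subalgebra -/
def iotaHom : H →* KK ρ where
  toFun h := ⟨ρ h, rho_mem ρ h⟩
  map_one' := Subtype.ext (map_one ρ)
  map_mul' a b := Subtype.ext (map_mul ρ a b)

@[simp] theorem iotaHom_coe (h : H) : ((iotaHom ρ h : KK ρ) : Module.End F V) = ρ h := rfl

theorem adjoin_iotaHom : Algebra.adjoin F (Set.range (iotaHom ρ)) = ⊤ := by
  have h := Algebra.adjoin_adjoin_coe_preimage (R := F) (s := Set.range ρ)
  have e : Set.range (iotaHom ρ) = ((↑) ⁻¹' (Set.range ρ) : Set (Algebra.adjoin F (Set.range ρ))) := by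
    ext k
    constructor
    · rintro ⟨h, rfl⟩
      exact ⟨h, rfl⟩
    · rintro ⟨h, hh⟩
      exact ⟨h, Subtype.ext hh⟩
  rw [e]
  exact h

include hirr in
theorem exists_form [Nontrivial V] (m : ℕ) (hdiv : Nat.card H ∣ Fintype.card F ^ m + 1) :
    ∃ B : LinearMap.BilinForm F V, B.Nondegenerate ∧
      ∀ h : H, ∀ x y : V, B (ρ h x) (ρ h y) = B x y := by
  letI : Field (KK ρ) := (KK_isField ρ hirr).toField
  haveI : Finite (KK ρ) := finite_KK ρ
  obtain ⟨v₀, hv₀⟩ := exists_ne (0 : V)
  obtain ⟨τ, hτ⟩ := exists_inverting_aut (F := F) (iotaHom ρ) m hdiv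
  let e : KK ρ ≃ₗ[F] V := LinearEquiv.ofBijective (evalMap ρ v₀) (evalMap_bijective ρ hirr v₀ hv₀)
  have he : ∀ (h : H) (x : V), e.symm (ρ h x) = iotaHom ρ h * e.symm x := by
    intro h x
    apply e.injective
    rw [LinearEquiv.apply_symm_apply]
    show ρ h x = (ρ h * (e.symm x).1) v₀
    rw [Module.End.mul_apply]
    congr 1
    exact (LinearEquiv.apply_symm_apply e x).symm
  let B : LinearMap.BilinForm F V :=
    (Algebra.traceForm F (KK ρ)).compl₁₂ (e.symm : V →ₗ[F] KK ρ)
      ((τ.toLinearMap).comp (e.symm : V →ₗ[F] KK ρ))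
  have hBapp : ∀ x y, B x y = Algebra.trace F (KK ρ) (e.symm x * τ (e.symm y)) := by
    intro x y
    rfl
  have hnd := traceForm_nondegenerate F (KK ρ)
  refine ⟨B, ⟨?_, ?_⟩, ?_⟩
  · intro x hx
    have : e.symm x = 0 := by
      apply hnd.1
      intro c
      have := hx (e (τ.symm c))
      rw [hBapp, LinearEquiv.symm_apply_apply, AlgEquiv.apply_symm_apply] at this
      exact this
    simpa using this
  · intro y hy
    have : τ (e.symm y) = 0 := by
      apply hnd.2
      intro c
      have := hy (e c)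
      rw [hBapp, LinearEquiv.symm_apply_apply] at this
      exact this
    have : e.symm y = 0 := by simpa using this
    simpa using this
  · intro h x y
    have : iotaHom ρ h * e.symm x * (τ (iotaHom ρ h) * τ (e.symm y)) =
        (τ (iotaHom ρ h) * iotaHom ρ h) * (e.symm x * τ (e.symm y)) := by ring
    rw [hBapp, hBapp, he, he, map_mul τ, this, hτ, one_mul]

include hirr in
theorem forward_main (hfaith : Function.Injective ρ) (B : LinearMap.BilinForm F V)
    (hB : B.Nondegenerate) (hBinv : ∀ h : H, ∀ x y : V, B (ρ h x) (ρ h y) = B x y)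
    (hn : 2 ≤ Module.finrank F V) :
    Even (Module.finrank F V) ∧
      Nat.card H ∣ Fintype.card F ^ (Module.finrank F V / 2) + 1 := by
  haveI : Nontrivial V := Module.nontrivial_of_finrank_pos (R := F) (by omega)
  letI : Field (KK ρ) := (KK_isField ρ hirr).toField
  haveI : Finite (KK ρ) := finite_KK ρ
  obtain ⟨v₀, hv₀⟩ := exists_ne (0 : V)
  let e : KK ρ ≃ₗ[F] V := LinearEquiv.ofBijective (evalMap ρ v₀) (evalMap_bijective ρ hirr v₀ hv₀)
  have hfin : Module.finrank F (KK ρ) = Module.finrank F V := e.finrank_eq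
  -- adjoints exist inside `KK ρ`
  have hadj : ∀ k ∈ KK ρ, ∃ k' ∈ KK ρ, ∀ x y : V, B (k x) y = B x (k' y) := by
    intro k hk
    induction hk using Algebra.adjoin_induction with
    | mem x hx =>
      obtain ⟨h, rfl⟩ := hx
      refine ⟨ρ h⁻¹, rho_mem ρ h⁻¹, fun x y => ?_⟩
      have h1 : y = ρ h (ρ h⁻¹ y) := by
        rw [← Module.End.mul_apply, ← map_mul, mul_inv_cancel, map_one, Module.End.one_apply]
      conv_lhs => rw [h1]
      exact hBinv h x _
    | algebraMap r =>
      refine ⟨algebraMap F _ r, Subalgebra.algebraMap_mem _ r, fun x y => ?_⟩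
      simp [Module.algebraMap_end_apply]
    | add a b _ _ iha ihb =>
      obtain ⟨a', ha', ha''⟩ := iha
      obtain ⟨b', hb', hb''⟩ := ihb
      refine ⟨a' + b', add_mem ha' hb', fun x y => ?_⟩
      simp only [LinearMap.add_apply, map_add, ha'', hb'']
    | mul a b _ _ iha ihb =>
      obtain ⟨a', ha', ha''⟩ := iha
      obtain ⟨b', hb', hb''⟩ := ihb
      refine ⟨b' * a', mul_mem hb' ha', fun x y => ?_⟩
      simp only [Module.End.mul_apply, ha'', hb'']
  have huniq : ∀ k' k'' : Module.End F V, (∀ x y : V, B x (k' y) = B x (k'' y)) → k' = k'' := by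
    intro k' k'' h
    ext y
    have h1 : ∀ x, B x (k' y - k'' y) = 0 := fun x => by rw [map_sub, h, sub_self]
    exact sub_eq_zero.mp (hB.2 _ h1)
  choose! adj hadj1 hadj2 using hadj
  have hadj_eq : ∀ k ∈ KK ρ, ∀ k' : Module.End F V, (∀ x y : V, B (k x) y = B x (k' y)) →
      adj k = k' := by
    intro k hk k' h
    apply huniq
    intro x y
    rw [← hadj2 k hk, h]
  let τ : KK ρ →ₐ[F] KK ρ :=
    { toFun := fun k => ⟨adj k.1, hadj1 k.1 k.2⟩
      map_one' := by
        apply Subtype.ext
        exact hadj_eq _ (one_mem _) 1 (fun x y => rfl)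
      map_mul' := by
        intro a b
        apply Subtype.ext
        show adj (a.1 * b.1) = adj a.1 * adj b.1
        apply hadj_eq _ (mul_mem a.2 b.2)
        intro x y
        rw [KK_comm ρ _ _ (hadj1 _ a.2) (hadj1 _ b.2)]
        simp only [Module.End.mul_apply, hadj2 _ a.2, hadj2 _ b.2]
      map_zero' := by
        apply Subtype.ext
        exact hadj_eq _ (zero_mem _) 0 (fun x y => by simp)
      map_add' := by
        intro a b
        apply Subtype.ext
        show adj (a.1 + b.1) = adj a.1 + adj b.1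
        apply hadj_eq _ (add_mem a.2 b.2)
        intro x y
        simp only [LinearMap.add_apply, map_add, hadj2 _ a.2, hadj2 _ b.2]
      commutes' := by
        intro r
        apply Subtype.ext
        show adj (algebraMap F (Module.End F V) r) = algebraMap F (Module.End F V) r
        apply hadj_eq _ (Subalgebra.algebraMap_mem _ r)
        intro x y
        simp [Module.algebraMap_end_apply] }
  have hτ : ∀ h : H, τ (iotaHom ρ h) = iotaHom ρ h⁻¹ := by
    intro h
    apply Subtype.ext
    show adj (ρ h) = ρ h⁻¹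
    apply hadj_eq _ (rho_mem ρ h)
    intro x y
    have h1 : y = ρ h (ρ h⁻¹ y) := by
      rw [← Module.End.mul_apply, ← map_mul, mul_inv_cancel, map_one, Module.End.one_apply]
    conv_lhs => rw [h1]
    exact hBinv h x _
  have hι : Function.Injective (iotaHom ρ) := by
    intro a b hab
    apply hfaith
    exact congrArg Subtype.val hab
  have := even_and_dvd_of_inverting (F := F) (iotaHom ρ) hι (adjoin_iotaHom ρ) τ hτ (by omega)
  rw [hfin] at this
  exact this

end main



theorem part_one {F : Type*} [Field F] {H : Type*} [Group H] [Finite H] {V : Type*}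
    [AddCommGroup V] [Module F V] (ρ : Representation F H V)
    (hfaith : Function.Injective ρ) (B : LinearMap.BilinForm F V) (hB : B.Nondegenerate)
    (hBinv : ∀ h : H, ∀ x y : V, B (ρ h x) (ρ h y) = B x y) (h1 : Module.finrank F V = 1) :
    Nat.card H ≤ 2 := by
  obtain ⟨v, hv0, hv⟩ := finrank_eq_one_iff'.mp h1
  -- a pair with nonzero form value
  obtain ⟨y, hy⟩ : ∃ y, B v y ≠ 0 := by
    by_contra hcon
    push Not at hcon
    exact hv0 (hB.1 v hcon)
  have hsub : Set.range ρ ⊆ ({1, -1} : Set (Module.End F V)) := by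
    rintro _ ⟨h, rfl⟩
    obtain ⟨c, hc⟩ := hv (ρ h v)
    have hρ : ρ h = c • (1 : Module.End F V) := by
      ext w
      obtain ⟨d, rfl⟩ := hv w
      rw [map_smul, ← hc, LinearMap.smul_apply, Module.End.one_apply, smul_comm]
    have hc2 : c * c = 1 := by
      have h2 := hBinv h v y
      rw [hρ] at h2
      simp only [LinearMap.smul_apply, Module.End.one_apply, map_smul, smul_eq_mul] at h2
      have h3 : (c * c - 1) * B v y = 0 := by
        rw [sub_mul, one_mul, mul_assoc]
        exact sub_eq_zero.mpr h2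
      rcases mul_eq_zero.mp h3 with h4 | h4
      · exact sub_eq_zero.mp h4
      · exact absurd h4 hy
    rcases mul_self_eq_one_iff.mp hc2 with h5 | h5
    · left; rw [hρ, h5, one_smul]
    · right
      rw [Set.mem_singleton_iff, hρ, h5, neg_smul, one_smul]
  calc Nat.card H = Nat.card (Set.range ρ) := (Nat.card_range_of_injective hfaith).symm
    _ = (Set.range ρ).ncard := rfl
    _ ≤ ({1, -1} : Set (Module.End F V)).ncard := Set.ncard_le_ncard hsub (Set.toFinite _)
    _ ≤ ({-1} : Set (Module.End F V)).ncard + 1 := Set.ncard_insert_le _ _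
    _ = 2 := by rw [Set.ncard_singleton]


/-- Let F be a finite field with r elements and of characteristic p, H a finite abelian group of order prime to p, and V a faithful irreducible representation of H over F of dimension n (faithful: distinct elements act differently; irreducible: the only H-invariant subspaces are 0 and V). Call V self-dual when it carries a nondegenerate H-invariant bilinear form. If n = 1 and V is self-dual then H has order at most 2. If n ≥ 2 then V is self-dual if and only if n is even and the order of H divides r^(n/2) + 1. -/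
theorem result {F : Type*} [Field F] [Fintype F] (p : ℕ) [Fact p.Prime] [CharP F p] {H : Type*} [CommGroup H] [Finite H] (hcop : ¬ p ∣ Nat.card H) {V : Type*} [AddCommGroup V] [Module F V] [FiniteDimensional F V] (ρ : Representation F H V) (hfaith : Function.Injective ρ) (hirr : ∀ U : Submodule F V, (∀ h : H, ∀ u ∈ U, ρ h u ∈ U) → U = ⊥ ∨ U = ⊤) : (Module.finrank F V = 1 → (∃ B : LinearMap.BilinForm F V, B.Nondegenerate ∧ ∀ h : H, ∀ x y : V, B (ρ h x) (ρ h y) = B x y) → Nat.card H ≤ 2) ∧ (2 ≤ Module.finrank F V → ((∃ B : LinearMap.BilinForm F V, B.Nondegenerate ∧ ∀ h : H, ∀ x y : V, B (ρ h x) (ρ h y) = B x y) ↔ (Even (Module.finrank F V) ∧ Nat.card H ∣ Fintype.card F ^ (Module.finrank F V / 2) + 1))) := by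
  constructor
  · rintro h1 ⟨B, hB, hBinv⟩
    exact part_one ρ hfaith B hB hBinv h1
  · intro hn
    constructor
    · rintro ⟨B, hB, hBinv⟩
      exact forward_main ρ hirr hfaith B hB hBinv hn
    · rintro ⟨_, hdiv⟩
      haveI : Nontrivial V := Module.nontrivial_of_finrank_pos (R := F) (by omega)
      exact exists_form ρ hirr _ hdiv

end Cfsg.Agent.S4967
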