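import Cfsg.Statements.S4989
-- import your own Cfsg.Agent.* helpers here
import Cfsg.Agent.S4574

set_option autoImplicit false
open Cfsg

namespace Cfsg.Agent.S4989

open Cfsg.Agent.Lib.Helper76 IntermediateField

section main

variable {G : Type*} [Group G] [Fintype G]

omit [Fintype G] in
/-- If `u` is coprime to `N` and `g ^ N = 1` then `g` is a power of `g ^ u`. -/
theorem exists_zpow_eq {g : G} {N u : ℕ} (hg : g ^ N = 1) (hu : u.Coprime N) :
    ∃ a : ℤ, (g ^ u) ^ a = g := by
  refine ⟨Nat.gcdA u N, ?_⟩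
  have h1 := Nat.gcd_eq_gcd_ab u N
  rw [hu] at h1
  have h2 : g ^ (((1 : ℕ) : ℤ)) = g ^ ((u : ℤ) * Nat.gcdA u N + (N : ℤ) * Nat.gcdB u N) := by
    rw [h1]
  rw [Nat.cast_one, zpow_one, zpow_add, zpow_mul, zpow_mul, zpow_natCast, zpow_natCast, hg,
    one_zpow, mul_one] at h2
  exact h2.symm

/-- The Galois/AM–GM inequality on a subset closed under coprime powers: the sum of `‖χ‖²` over
the subset is at least the number of its elements at which `χ` does not vanish. -/
theorem sum_ge_card_nonzero {V : Type*} [AddCommGroup V] [Module ℂ V] [FiniteDimensional ℂ V]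
    (ρ : Representation ℂ G V) [DecidableEq G] (T : Finset G)
    (hT : ∀ (g : G) (u : ℕ), u.Coprime (Fintype.card G) → (g ∈ T ↔ g ^ u ∈ T)) :
    ((T.filter (fun g => ρ.character g ≠ 0)).card : ℝ) ≤ ∑ g ∈ T, ‖ρ.character g‖ ^ 2 := by
  classical
  set N := Fintype.card G with hNdef
  have hN : 0 < N := Fintype.card_pos
  have hG : ∀ g : G, g ^ N = 1 := fun g => pow_card_eq_one
  set ζ : ℂ := Complex.exp (2 * Real.pi * Complex.I / (N : ℂ)) with hζdef
  have hζ : IsPrimitiveRoot ζ N := Complex.isPrimitiveRoot_exp N hN.ne'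
  have hζint : IsIntegral ℚ ζ := (hζ.isIntegral hN).tower_top
  have hfd : FiniteDimensional ℚ (adjoin ℚ ({ζ} : Set ℂ)) := adjoin.finiteDimensional hζint
  have hmem : ∀ g : G, ρ.character g ∈ adjoin ℚ ({ζ} : Set ℂ) :=
    fun g => character_mem_adjoin ρ N hN ζ hζ g (hG g)
  choose u hucop hu using fun σ : adjoin ℚ ({ζ} : Set ℂ) →ₐ[ℚ] ℂ =>
    exists_pow_of_embedding ρ N hN hG ζ hζ σ
  set F : G → ℝ := fun g => ‖ρ.character g‖ ^ 2 with hF
  -- each power map is a bijection preserving `T`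
  have hbij : ∀ σ, ∑ g ∈ T, F (g ^ u σ) = ∑ g ∈ T, F g := by
    intro σ
    have hc : (Nat.card G).Coprime (u σ) := by
      rw [Nat.card_eq_fintype_card]; exact (hucop σ).symm
    have h1 : ∑ g ∈ T, F (g ^ u σ) = ∑ g : G, (if g ^ u σ ∈ T then F (g ^ u σ) else 0) := by
      rw [← Finset.sum_filter]
      apply Finset.sum_congr
      · ext g
        simp only [Finset.mem_filter, Finset.mem_univ, true_and]
        exact hT g (u σ) (hucop σ)
      · intro _ _; rfl
    have h2 : ∑ g ∈ T, F g = ∑ g : G, (if g ∈ T then F g else 0) := by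
      rw [← Finset.sum_filter]
      apply Finset.sum_congr
      · ext g; simp
      · intro _ _; rfl
    rw [h1, h2]
    exact Equiv.sum_comp (powCoprime hc) (fun g => if g ∈ T then F g else 0)
  -- (i)
  have hi : ∑ g ∈ T, ∑ σ : adjoin ℚ ({ζ} : Set ℂ) →ₐ[ℚ] ℂ, F (g ^ u σ)
      = (Fintype.card (adjoin ℚ ({ζ} : Set ℂ) →ₐ[ℚ] ℂ) : ℝ) * ∑ g ∈ T, F g := by
    rw [Finset.sum_comm]
    simp_rw [hbij]
    simp
  -- value formula
  have hval : ∀ σ g, F (g ^ u σ) = ‖σ ⟨ρ.character g, hmem g⟩‖ ^ 2 := by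
    intro σ g
    rw [hF, hu σ g (hmem g)]
  -- (ii) pointwise
  have hii : ∀ g : G, (Fintype.card (adjoin ℚ ({ζ} : Set ℂ) →ₐ[ℚ] ℂ) : ℝ) *
      (if ρ.character g ≠ 0 then 1 else 0)
      ≤ ∑ σ : adjoin ℚ ({ζ} : Set ℂ) →ₐ[ℚ] ℂ, F (g ^ u σ) := by
    intro g
    by_cases hgR : ρ.character g ≠ 0
    · rw [if_pos hgR, mul_one]
      simp_rw [hval]
      apply card_le_sum_of_one_le_prod
      · intro σ; positivity
      · rw [Finset.prod_pow, ← norm_prod]
        have hne : (⟨ρ.character g, hmem g⟩ : adjoin ℚ ({ζ} : Set ℂ)) ≠ 0 := by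
          intro h0
          apply hgR
          have := congrArg Subtype.val h0
          simpa using this
        have hint : IsIntegral ℤ ((⟨ρ.character g, hmem g⟩ : adjoin ℚ ({ζ} : Set ℂ)) : ℂ) := by
          change IsIntegral ℤ (ρ.character g)
          obtain ⟨μ, hμ, hk⟩ := exists_character_pow_eq_sum ρ g N hN (hG g)
          have h1 := hk 1
          rw [pow_one] at h1
          rw [h1]
          refine IsIntegral.sum _ fun i _ => ?_
          rw [pow_one]
          exact IsIntegral.of_pow hN (by rw [hμ i]; exact isIntegral_one)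
        have := one_le_norm_prod_embeddings _ _ hint hne
        exact one_le_pow₀ this
    · rw [if_neg hgR, mul_zero]
      exact Finset.sum_nonneg fun σ _ => by positivity
  -- (iii)
  have hE : (0 : ℝ) < Fintype.card (adjoin ℚ ({ζ} : Set ℂ) →ₐ[ℚ] ℂ) := by
    have : Nonempty (adjoin ℚ ({ζ} : Set ℂ) →ₐ[ℚ] ℂ) := ⟨(adjoin ℚ ({ζ} : Set ℂ)).val⟩
    exact_mod_cast Fintype.card_pos
  have hsum2 := Finset.sum_le_sum (s := T) (fun g _ => hii g)
  rw [hi, ← Finset.mul_sum] at hsum2
  have h6 : ∑ g ∈ T, (if ρ.character g ≠ 0 then (1 : ℝ) else 0)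
      = ((T.filter (fun g => ρ.character g ≠ 0)).card : ℝ) := by
    rw [← Finset.sum_filter]; simp
  rw [h6] at hsum2
  exact le_of_mul_le_mul_left hsum2 hE

end main

/-- Let H be a subgroup of the finite group G and χ an irreducible complex character of G. Then the inner product of the restriction of χ to H with itself, (1/#H)·Σ_{h ∈ H} |χ(h)|², is at most 1 + #(Z ∖ H)/#H, where Z is the set of zeros of χ in G. -/
theorem result {G : Type*} [Group G] [Finite G] (H : Subgroup G) (χ : Cfsg.IrrCharacter G) : (Nat.card ↥H : ℝ)⁻¹ * ∑ᶠ h : ↥H, ‖(χ : G → ℂ) h‖ ^ 2 ≤ 1 + (Set.ncard ({x : G | (χ : G → ℂ) x = 0} \ (H : Set G)) : ℝ) / (Nat.card ↥H : ℝ) := by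
  classical
  have := Fintype.ofFinite G
  obtain ⟨n, ρ, hirr, hχ⟩ := χ.2
  have := hirr
  rw [← hχ]
  set T : Finset G := Finset.univ.filter (fun g => g ∉ H) with hTdef
  have hT : ∀ (g : G) (u : ℕ), u.Coprime (Fintype.card G) → (g ∈ T ↔ g ^ u ∈ T) := by
    intro g u hu
    simp only [hTdef, Finset.mem_filter, Finset.mem_univ, true_and, not_iff_not]
    constructor
    · intro h; exact H.pow_mem h u
    · intro h
      obtain ⟨a, ha⟩ := exists_zpow_eq (pow_card_eq_one (x := g)) hu
      rw [← ha]; exact H.zpow_mem h a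
  have hkey := sum_ge_card_nonzero ρ T hT
  have hsum := Cfsg.Agent.S4574.sum_norm_sq ρ
  have hsplit : ∑ g : G, ‖ρ.character g‖ ^ 2
      = ∑ g ∈ Finset.univ.filter (fun g => g ∈ H), ‖ρ.character g‖ ^ 2
        + ∑ g ∈ T, ‖ρ.character g‖ ^ 2 :=
    (Finset.sum_filter_add_sum_filter_not _ _ _).symm
  have hcardT : (T.filter (fun g => ρ.character g ≠ 0)).card
      + (T.filter (fun g => ρ.character g = 0)).card = T.card := by
    have := Finset.card_filter_add_card_filter_not (s := T) (fun g => ρ.character g ≠ 0)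
    simpa using this
  have hcardG : (Finset.univ.filter (fun g : G => g ∈ H)).card + T.card = Fintype.card G := by
    have := Finset.card_filter_add_card_filter_not (s := (Finset.univ : Finset G)) (fun g => g ∈ H)
    simpa using this
  have hHcard : (Finset.univ.filter (fun g : G => g ∈ H)).card = Nat.card H := by
    rw [Nat.card_eq_fintype_card, Fintype.card_subtype]
  have hfin : ∑ᶠ h : ↥H, ‖ρ.character (h : G)‖ ^ 2
      = ∑ g ∈ Finset.univ.filter (fun g => g ∈ H), ‖ρ.character g‖ ^ 2 := by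
    rw [finsum_eq_sum_of_fintype]
    rw [← Finset.sum_subtype (Finset.univ.filter (fun g => g ∈ H)) (by simp)
      (fun g => ‖ρ.character g‖ ^ 2)]
  have hncard : Set.ncard ({x : G | ρ.character x = 0} \ (H : Set G))
      = (T.filter (fun g => ρ.character g = 0)).card := by
    rw [← Set.ncard_coe_finset]
    congr 1
    ext x
    simp [hTdef, and_comm]
  rw [hfin, hncard]
  have hHpos : (0 : ℝ) < (Nat.card H : ℝ) := by exact_mod_cast Nat.card_pos
  rw [inv_mul_le_iff₀ hHpos]
  have e1 : (Nat.card H : ℝ) * (1 + ((T.filter (fun g => ρ.character g = 0)).card : ℝ) / (Nat.card H : ℝ))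
      = (Nat.card H : ℝ) + ((T.filter (fun g => ρ.character g = 0)).card : ℝ) := by
    field_simp
  rw [e1]
  have h1 : ((T.filter (fun g => ρ.character g ≠ 0)).card : ℝ)
      + ((T.filter (fun g => ρ.character g = 0)).card : ℝ) = (T.card : ℝ) := by
    exact_mod_cast hcardT
  have h2 : (Nat.card H : ℝ) + (T.card : ℝ) = (Fintype.card G : ℝ) := by
    rw [← hHcard]; exact_mod_cast hcardG
  rw [hsplit] at hsum
  linarith

end Cfsg.Agent.S4989
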