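import Cfsg.Statements.S4996
-- import your own Cfsg.Agent.* helpers here
import Cfsg.Agent.S4574
import Cfsg.Agent.Lib.Helper78.CharMore
import Cfsg.Agent.Lib.Helper79.Integrality

set_option autoImplicit false
open Cfsg

namespace Cfsg.Agent.S4996

open Cfsg.Agent.Lib.Helper76 IntermediateField
open scoped ComplexConjugate

section trace

variable {G : Type*} [Group G] {W : Type*} [AddCommGroup W] [Module ℂ W] [FiniteDimensional ℂ W]

omit [FiniteDimensional ℂ W] in
/-- The average map of a representation of a finite group, written out. -/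
theorem averageMap_eq (σ : Representation ℂ G W) [Fintype G] [Invertible (Fintype.card G : ℂ)] :
    σ.averageMap = (Fintype.card G : ℂ)⁻¹ • ∑ g : G, σ g := by
  simp [Representation.averageMap, GroupAlgebra.average, map_sum, invOf_eq_inv]

/-- The character of the action of `G` on the `N`-invariants of a representation. -/
theorem character_toInvariants (τ : Representation ℂ G W) (N : Subgroup G) [N.Normal] [Fintype N]
    (x : G) :
    (τ.toInvariants N).character x
      = (Nat.card N : ℂ)⁻¹ * ∑ n : N, τ.character (x * (n : G)) := by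
  have hN0 : (Fintype.card N : ℂ) ≠ 0 := by exact_mod_cast Fintype.card_ne_zero
  have : Invertible (Fintype.card N : ℂ) := invertibleOfNonzero hN0
  set σN : Representation ℂ N W := τ.comp N.subtype with hσN
  set U := σN.invariants with hU
  have hproj := Representation.isProj_averageMap σN
  let P' : W →ₗ[ℂ] U := σN.averageMap.codRestrict U (fun w => hproj.map_mem w)
  have hres : (τ.toInvariants N) x = P' ∘ₗ (τ x ∘ₗ U.subtype) := by
    ext u
    show ((τ.toInvariants N) x u : W) = σN.averageMap (τ x (u : W))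
    have hmem : τ x (u : W) ∈ U := Representation.le_comap_invariants τ N x u.2
    rw [hproj.map_id _ hmem]
    rfl
  unfold Representation.character
  rw [hres, LinearMap.trace_comp_comm']
  have h2 : (τ x ∘ₗ U.subtype) ∘ₗ P' = τ x ∘ₗ σN.averageMap := by
    ext w
    rfl
  rw [h2, averageMap_eq σN, LinearMap.comp_smul, map_smul, smul_eq_mul, Nat.card_eq_fintype_card]
  congr 1
  have h3 : τ x ∘ₗ ∑ g : N, σN g = ∑ n : N, τ (x * (n : G)) := by
    ext w
    simp only [LinearMap.comp_apply, LinearMap.sum_apply, map_sum]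
    refine Finset.sum_congr rfl (fun n _ => ?_)
    rw [map_mul]
    rfl
  rw [h3, map_sum]

end trace

section galois

variable {G : Type*} [Group G] [Fintype G]

omit [Fintype G] in
/-- If `u` is coprime to `N` and `g ^ N = 1` then `g` is a power of `g ^ u`. -/
theorem exists_zpow_eq {g : G} {N u : ℕ} (hg : g ^ N = 1) (hu : u.Coprime N) :
    ∃ a : ℤ, (g ^ u) ^ a = g := by
  refine ⟨Nat.gcdA u N, ?_⟩
  have h1 := Nat.gcd_eq_gcd_ab u N
  rw [hu] at h1
  have h2 : g ^ (((1 : ℕ) : ℤ)) = g ^ ((u : ℤ) * Nat.gcdA u N + (N : ℤ) * Nat.gcdB u N) := by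
    rw [h1]
  rw [Nat.cast_one, zpow_one, zpow_add, zpow_mul, zpow_mul, zpow_natCast, zpow_natCast, hg,
    one_zpow, mul_one] at h2
  exact h2.symm

/-- The Galois/AM–GM inequality on a subset closed under coprime powers: the sum of `‖χ‖` over
the subset is at least the number of its elements at which `χ` does not vanish. -/
theorem sum_norm_ge_card_nonzero {V : Type*} [AddCommGroup V] [Module ℂ V] [FiniteDimensional ℂ V]
    (ρ : Representation ℂ G V) [DecidableEq G] (T : Finset G)
    (hT : ∀ (g : G) (u : ℕ), u.Coprime (Fintype.card G) → (g ∈ T ↔ g ^ u ∈ T)) :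
    ((T.filter (fun g => ρ.character g ≠ 0)).card : ℝ) ≤ ∑ g ∈ T, ‖ρ.character g‖ := by
  classical
  set N := Fintype.card G with hNdef
  have hN : 0 < N := Fintype.card_pos
  have hG : ∀ g : G, g ^ N = 1 := fun g => pow_card_eq_one
  set ζ : ℂ := Complex.exp (2 * Real.pi * Complex.I / (N : ℂ)) with hζdef
  have hζ : IsPrimitiveRoot ζ N := Complex.isPrimitiveRoot_exp N hN.ne'
  have hζint : IsIntegral ℚ ζ := (hζ.isIntegral hN).tower_top
  have hfd : FiniteDimensional ℚ (adjoin ℚ ({ζ} : Set ℂ)) := adjoin.finiteDimensional hζint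
  have hmem : ∀ g : G, ρ.character g ∈ adjoin ℚ ({ζ} : Set ℂ) :=
    fun g => character_mem_adjoin ρ N hN ζ hζ g (hG g)
  choose u hucop hu using fun σ : adjoin ℚ ({ζ} : Set ℂ) →ₐ[ℚ] ℂ =>
    exists_pow_of_embedding ρ N hN hG ζ hζ σ
  set F : G → ℝ := fun g => ‖ρ.character g‖ with hF
  have hbij : ∀ σ, ∑ g ∈ T, F (g ^ u σ) = ∑ g ∈ T, F g := by
    intro σ
    have hc : (Nat.card G).Coprime (u σ) := by
      rw [Nat.card_eq_fintype_card]; exact (hucop σ).symm
    have h1 : ∑ g ∈ T, F (g ^ u σ) = ∑ g : G, (if g ^ u σ ∈ T then F (g ^ u σ) else 0) := by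
      rw [← Finset.sum_filter]
      apply Finset.sum_congr
      · ext g
        simp only [Finset.mem_filter, Finset.mem_univ, true_and]
        exact hT g (u σ) (hucop σ)
      · intro _ _; rfl
    have h2 : ∑ g ∈ T, F g = ∑ g : G, (if g ∈ T then F g else 0) := by
      rw [← Finset.sum_filter]
      apply Finset.sum_congr
      · ext g; simp
      · intro _ _; rfl
    rw [h1, h2]
    exact Equiv.sum_comp (powCoprime hc) (fun g => if g ∈ T then F g else 0)
  have hi : ∑ g ∈ T, ∑ σ : adjoin ℚ ({ζ} : Set ℂ) →ₐ[ℚ] ℂ, F (g ^ u σ)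
      = (Fintype.card (adjoin ℚ ({ζ} : Set ℂ) →ₐ[ℚ] ℂ) : ℝ) * ∑ g ∈ T, F g := by
    rw [Finset.sum_comm]
    simp_rw [hbij]
    simp
  have hval : ∀ σ g, F (g ^ u σ) = ‖σ ⟨ρ.character g, hmem g⟩‖ := by
    intro σ g
    rw [hF, hu σ g (hmem g)]
  have hii : ∀ g : G, (Fintype.card (adjoin ℚ ({ζ} : Set ℂ) →ₐ[ℚ] ℂ) : ℝ) *
      (if ρ.character g ≠ 0 then 1 else 0)
      ≤ ∑ σ : adjoin ℚ ({ζ} : Set ℂ) →ₐ[ℚ] ℂ, F (g ^ u σ) := by
    intro g
    by_cases hgR : ρ.character g ≠ 0
    · rw [if_pos hgR, mul_one]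
      simp_rw [hval]
      apply card_le_sum_of_one_le_prod
      · intro σ; positivity
      · rw [← norm_prod]
        have hne : (⟨ρ.character g, hmem g⟩ : adjoin ℚ ({ζ} : Set ℂ)) ≠ 0 := by
          intro h0
          apply hgR
          have := congrArg Subtype.val h0
          simpa using this
        have hint : IsIntegral ℤ ((⟨ρ.character g, hmem g⟩ : adjoin ℚ ({ζ} : Set ℂ)) : ℂ) := by
          change IsIntegral ℤ (ρ.character g)
          obtain ⟨μ, hμ, hk⟩ := exists_character_pow_eq_sum ρ g N hN (hG g)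
          have h1 := hk 1
          rw [pow_one] at h1
          rw [h1]
          refine IsIntegral.sum _ fun i _ => ?_
          rw [pow_one]
          exact IsIntegral.of_pow hN (by rw [hμ i]; exact isIntegral_one)
        exact one_le_norm_prod_embeddings _ _ hint hne
    · rw [if_neg hgR, mul_zero]
      exact Finset.sum_nonneg fun σ _ => by positivity
  have hE : (0 : ℝ) < Fintype.card (adjoin ℚ ({ζ} : Set ℂ) →ₐ[ℚ] ℂ) := by
    have : Nonempty (adjoin ℚ ({ζ} : Set ℂ) →ₐ[ℚ] ℂ) := ⟨(adjoin ℚ ({ζ} : Set ℂ)).val⟩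
    exact_mod_cast Fintype.card_pos
  have hsum2 := Finset.sum_le_sum (s := T) (fun g _ => hii g)
  rw [hi, ← Finset.mul_sum] at hsum2
  have h6 : ∑ g ∈ T, (if ρ.character g ≠ 0 then (1 : ℝ) else 0)
      = ((T.filter (fun g => ρ.character g ≠ 0)).card : ℝ) := by
    rw [← Finset.sum_filter]; simp
  rw [h6] at hsum2
  exact le_of_mul_le_mul_left hsum2 hE

end galois

section main

variable {G : Type*} [Group G] [Fintype G] {V : Type*} [AddCommGroup V] [Module ℂ V]
  [FiniteDimensional ℂ V]

/-- The averaged square norm of the character over the coset `xN`. -/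
noncomputable def cosetAvg (ρ : Representation ℂ G V) (N : Subgroup G) [Fintype N] (x : G) : ℝ :=
  (Nat.card N : ℝ)⁻¹ * ∑ n : N, ‖ρ.character (x * (n : G))‖ ^ 2

theorem cosetAvg_nonneg (ρ : Representation ℂ G V) (N : Subgroup G) [Fintype N] (x : G) :
    0 ≤ cosetAvg ρ N x := by
  unfold cosetAvg
  positivity

/-- The representation whose character is `cosetAvg`. -/
noncomputable abbrev invRep (ρ : Representation ℂ G V) (N : Subgroup G) [N.Normal] :=
  (Representation.linHom ρ ρ).toInvariants N

theorem invRep_character (ρ : Representation ℂ G V) (N : Subgroup G) [N.Normal] [Fintype N]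
    (x : G) : (invRep ρ N).character x = ((cosetAvg ρ N x : ℝ) : ℂ) := by
  rw [invRep, character_toInvariants]
  unfold cosetAvg
  push_cast
  congr 1
  refine Finset.sum_congr rfl (fun n _ => ?_)
  rw [Representation.char_linHom, mul_comm, Cfsg.Agent.S4574.char_mul_char_inv]
  push_cast
  rfl

theorem sum_cosetAvg (ρ : Representation ℂ G V) [ρ.IsIrreducible] (N : Subgroup G) [Fintype N] :
    ∑ x : G, cosetAvg ρ N x = (Fintype.card G : ℝ) := by
  unfold cosetAvg
  rw [← Finset.mul_sum, Finset.sum_comm]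
  have h1 : ∀ n : N, ∑ x : G, ‖ρ.character (x * (n : G))‖ ^ 2 = (Fintype.card G : ℝ) := by
    intro n
    rw [← Cfsg.Agent.S4574.sum_norm_sq ρ]
    exact Equiv.sum_comp (Equiv.mulRight (n : G)) (fun g => ‖ρ.character g‖ ^ 2)
  simp_rw [h1]
  rw [Finset.sum_const, Finset.card_univ, nsmul_eq_mul, Nat.card_eq_fintype_card]
  have hN0 : (Fintype.card N : ℝ) ≠ 0 := by exact_mod_cast Fintype.card_ne_zero
  field_simp

theorem cosetAvg_one_eq_classInner (ρ : Representation ℂ G V) (N : Subgroup G) [Fintype N] :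
    ((cosetAvg ρ N 1 : ℝ) : ℂ)
      = classInner (fun n : N => ρ.character (n : G)) (fun n : N => ρ.character (n : G)) := by
  unfold cosetAvg classInner
  push_cast
  congr 1
  refine Finset.sum_congr rfl (fun n _ => ?_)
  rw [one_mul, Complex.mul_conj']

theorem card_nonzero_le (ρ : Representation ℂ G V) [ρ.IsIrreducible] (N : Subgroup G) [N.Normal]
    [Fintype N] [DecidableEq G] :
    (((Finset.univ.erase (1 : G)).filter (fun g => cosetAvg ρ N g ≠ 0)).card : ℝ)
      ≤ (Fintype.card G : ℝ) - cosetAvg ρ N 1 := by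
  have hT : ∀ (g : G) (u : ℕ), u.Coprime (Fintype.card G) →
      (g ∈ Finset.univ.erase (1 : G) ↔ g ^ u ∈ Finset.univ.erase (1 : G)) := by
    intro g u hu
    simp only [Finset.mem_erase, Finset.mem_univ, and_true, ne_eq]
    refine not_congr ⟨fun h => by rw [h, one_pow], fun h => ?_⟩
    have h1 : orderOf g ∣ u := orderOf_dvd_of_pow_eq_one h
    have h2 : orderOf g ∣ Fintype.card G := orderOf_dvd_card
    have h3 : orderOf g ∣ 1 := by
      have := Nat.dvd_gcd h1 h2
      rwa [hu] at this
    exact orderOf_eq_one_iff.mp (Nat.dvd_one.mp h3)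
  have h := sum_norm_ge_card_nonzero (invRep ρ N) (Finset.univ.erase (1 : G)) hT
  have h2 : ∑ g ∈ Finset.univ.erase (1 : G), ‖(invRep ρ N).character g‖
      = (Fintype.card G : ℝ) - cosetAvg ρ N 1 := by
    rw [← sum_cosetAvg ρ N, ← Finset.add_sum_erase Finset.univ _ (Finset.mem_univ (1 : G)),
      add_sub_cancel_left]
    refine Finset.sum_congr rfl (fun g _ => ?_)
    rw [invRep_character, Complex.norm_real, Real.norm_eq_abs, abs_of_nonneg (cosetAvg_nonneg ρ N g)]
  rw [h2] at h
  refine le_trans (le_of_eq ?_) h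
  congr 2
  refine Finset.filter_congr (fun g _ => ?_)
  rw [invRep_character]
  exact_mod_cast Iff.rfl

theorem cosetAvg_eq_zero_iff (ρ : Representation ℂ G V) (N : Subgroup G) [Fintype N] (x : G) :
    cosetAvg ρ N x = 0 ↔ ∀ n : N, ρ.character ((n : G) * x) = 0 := by
  unfold cosetAvg
  have hN0 : (Nat.card N : ℝ)⁻¹ ≠ 0 := by
    rw [Nat.card_eq_fintype_card]
    exact inv_ne_zero (by exact_mod_cast Fintype.card_ne_zero)
  rw [mul_eq_zero, or_iff_right hN0,
    Finset.sum_eq_zero_iff_of_nonneg (fun n _ => by positivity)]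
  constructor
  · intro h n
    have := h n (Finset.mem_univ n)
    rw [Representation.char_mul_comm]
    simpa using this
  · intro h n _
    have := h n
    rw [Representation.char_mul_comm] at this
    simp [this]

theorem cosetAvg_one_eq_nat (ρ : Representation ℂ G V) (N : Subgroup G) [N.Normal]
    [Fintype N] :
    ∃ k : ℕ, cosetAvg ρ N 1 = (k : ℝ) ∧ ∀ g : G, cosetAvg ρ N g ≤ (k : ℝ) := by
  refine ⟨Module.finrank ℂ (Representation.invariants
    ((ρ.linHom ρ).comp N.subtype : Representation ℂ N (V →ₗ[ℂ] V))), ?_, fun g => ?_⟩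
  · have h := invRep_character ρ N 1
    rw [Representation.char_one] at h
    exact_mod_cast h.symm
  · have := Cfsg.Agent.Lib.Helper79.norm_char_le (invRep ρ N) g
    rw [invRep_character, Complex.norm_real, Real.norm_eq_abs,
      abs_of_nonneg (cosetAvg_nonneg ρ N g)] at this
    exact this

theorem main_iff (ρ : Representation ℂ G V) [ρ.IsIrreducible] (N : Subgroup G) [N.Normal]
    [Fintype N] :
    classInner (fun n : N => ρ.character (n : G)) (fun n : N => ρ.character (n : G)) ≠ 1
      ↔ ∃ x : G, ∀ n : N, ρ.character ((n : G) * x) = 0 := by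
  classical
  rw [← cosetAvg_one_eq_classInner]
  obtain ⟨k, hk, hkle⟩ := cosetAvg_one_eq_nat ρ N
  constructor
  · intro h1
    by_contra hno
    push Not at hno
    apply h1
    have hall : ∀ g : G, cosetAvg ρ N g ≠ 0 := by
      intro g hg
      obtain ⟨n, hn⟩ := hno g
      exact hn ((cosetAvg_eq_zero_iff ρ N g).mp hg n)
    have hle := card_nonzero_le ρ N
    rw [Finset.filter_true_of_mem (fun g _ => hall g), Finset.card_erase_of_mem (Finset.mem_univ _),
      Finset.card_univ] at hle
    have hpos : 0 < Fintype.card G := Fintype.card_pos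
    rw [Nat.cast_sub hpos, Nat.cast_one] at hle
    have hle1 : cosetAvg ρ N 1 ≤ 1 := by linarith
    have hne : cosetAvg ρ N 1 ≠ 0 := hall 1
    rw [hk] at hle1 hne
    have h2 : k ≤ 1 := by exact_mod_cast hle1
    have h3 : k ≠ 0 := by exact_mod_cast hne
    have h4 : k = 1 := by omega
    rw [hk, h4]
    simp
  · rintro ⟨x, hx⟩ h1
    have hx0 : cosetAvg ρ N x = 0 := (cosetAvg_eq_zero_iff ρ N x).mpr hx
    have h1' : cosetAvg ρ N 1 = 1 := by exact_mod_cast h1
    have hk1 : (k : ℝ) = 1 := by rw [← hk, h1']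
    have hle : ∀ g : G, cosetAvg ρ N g ≤ 1 := fun g => hk1 ▸ hkle g
    have hsum : ∑ g : G, (1 - cosetAvg ρ N g) = 0 := by
      rw [Finset.sum_sub_distrib, sum_cosetAvg ρ N]
      simp
    have hz := (Finset.sum_eq_zero_iff_of_nonneg (fun g _ => by linarith [hle g])).mp hsum x
      (Finset.mem_univ x)
    rw [hx0] at hz
    norm_num at hz

end main

/-- Let N be a normal subgroup of the finite group G and χ an irreducible complex character of G. Then the restriction of χ to N is not irreducible if and only if χ vanishes on some whole coset Nx of N in G. -/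
theorem result {G : Type*} [Group G] [Finite G] (N : Subgroup G) [N.Normal] (χ : Cfsg.IrrCharacter G) : ¬ Cfsg.IsIrrCharacter ↥N (fun n : ↥N => (χ : G → ℂ) n) ↔ ∃ x : G, ∀ n : ↥N, (χ : G → ℂ) ((n : G) * x) = 0 := by
  classical
  let _ : Fintype G := Fintype.ofFinite G
  let _ : Fintype N := Fintype.ofFinite N
  obtain ⟨n₀, ρ, hirr, hχ⟩ := χ.2
  have hchar : IsCharacter N (fun n : N => (χ : G → ℂ) n) :=
    ⟨n₀, ρ.comp N.subtype, by funext n; rw [← hχ]; rfl⟩
  rw [Cfsg.Agent.Lib.Helper78.isIrrCharacter_iff_classInner_self hchar, ← hχ]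
  exact main_iff ρ N

end Cfsg.Agent.S4996
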