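import Cfsg.Statements.S5001
import Cfsg.Agent.Lib.Helper78.CentralTwist
import Cfsg.Agent.S0927

set_option autoImplicit false
open Cfsg

namespace Cfsg.Agent.S5001

open Cfsg.Agent.Lib.Helper16 Cfsg.Agent.Lib.Helper78

/-- Core: if `χ y` is a unit modulo the ideal, `Q` is a `p`-subgroup of `C_G(y)` containing the
central subgroup `Z`, and `χ` lies over `λ`, then `λ` extends to `Q`. -/
theorem core {G : Type*} [Group G] [Fintype G] (p : ℕ) [Fact p.Prime] (M : Ideal Cfsg.AlgInt)
    (hM : Cfsg.IsPModular p M) (χ : Cfsg.IrrCharacter G) (y : G)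
    (Q : Subgroup (Subgroup.centralizer ({y} : Set G))) (hQ : IsPGroup p Q)
    (hnv : ¬ MemLocalIdeal M ((χ : G → ℂ) y))
    (Z : Subgroup G) (hZc : Z ≤ Subgroup.center G)
    (hZQ : Z ≤ Q.map (Subgroup.centralizer ({y} : Set G)).subtype) (lam : ↥Z →* ℂˣ)
    (hover : (∀ z : ↥Z, (χ : G → ℂ) z = (χ : G → ℂ) 1 * (lam z : ℂ))) :
    ∃ μ : ↥(Q.map (Subgroup.centralizer ({y} : Set G)).subtype) →* ℂˣ,
      ∀ z : ↥Z, μ ⟨(z : G), hZQ z.2⟩ = lam z := by
  classical
  have hMp := isPModular_isPrime hM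
  have : Fintype (Subgroup.centralizer ({y} : Set G)) := Fintype.ofFinite _
  have : Fintype Q := Fintype.ofFinite _
  obtain ⟨yC, hyC⟩ : ∃ yC : Subgroup.centralizer ({y} : Set G), (yC : G) = y :=
    ⟨⟨y, Subgroup.mem_centralizer_singleton_iff.mpr rfl⟩, rfl⟩
  have hycen : yC ∈ Subgroup.center (Subgroup.centralizer ({y} : Set G)) := by
    rw [Subgroup.mem_center_iff]
    intro c
    apply Subtype.ext
    push_cast
    rw [hyC]
    exact Subgroup.mem_centralizer_singleton_iff.mp c.2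
  have hη : IsCharacter (Subgroup.centralizer ({y} : Set G))
      (fun c : Subgroup.centralizer ({y} : Set G) => (χ : G → ℂ) (c : G)) :=
    isCharacter_subgroup_res _ (IsIrrCharacter.isCharacter χ.2)
  obtain ⟨f, hf⟩ : ∃ f : Q → ℂ,
      f = fun x : Q => (fun c : Subgroup.centralizer ({y} : Set G) => (χ : G → ℂ) (c : G))
        ((x : Subgroup.centralizer ({y} : Set G)) * yC) := ⟨_, rfl⟩
  have hfapp : ∀ x : Q,
      f x = (χ : G → ℂ) (((x : Subgroup.centralizer ({y} : Set G)) : G) * y) := by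
    intro x
    rw [hf]
    simp only [Subgroup.coe_mul, hyC]
  have hfcf : IsClassFunction Q f := by
    rw [hf]
    exact isClassFunction_twist_central (IsCharacter.isClassFunction hη) hycen _
  have hfint : ∀ θ : IrrCharacter Q, IsIntegral ℤ (classInner f (θ : Q → ℂ)) := by
    intro θ
    rw [hf]
    exact isIntegral_classInner_twist hη hycen _ θ
  have hf1 : ¬ MemLocalIdeal M (f 1) := by
    rw [hfapp]
    simpa using hnv
  obtain ⟨θ, hθ1, hθne⟩ := exists_linear_constituent hM hQ hfcf hfint hf1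
  obtain ⟨μ₀, hμ₀⟩ := Cfsg.Agent.Lib.Helper77.exists_monoidHom_of_degree_one
    (IsIrrCharacter.isCharacter θ.2) hθ1
  have hθfun : (θ : Q → ℂ) = fun x => ((μ₀ x : ℂˣ) : ℂ) := funext hμ₀
  rw [hθfun] at hθne
  obtain ⟨e, he⟩ : ∃ e : Q ≃* (Q.map (Subgroup.centralizer ({y} : Set G)).subtype),
      e = Q.equivMapOfInjective
        (Subgroup.centralizer ({y} : Set G)).subtype (Subgroup.subtype_injective _) := ⟨_, rfl⟩
  refine ⟨μ₀.comp e.symm.toMonoidHom, fun z => ?_⟩
  obtain ⟨z₀, hz₀⟩ : ∃ z₀ : Q, z₀ = e.symm ⟨(z : G), hZQ z.2⟩ := ⟨_, rfl⟩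
  have hz₀G : ((z₀ : Subgroup.centralizer ({y} : Set G)) : G) = (z : G) := by
    have h1 : e z₀ = ⟨(z : G), hZQ z.2⟩ := by rw [hz₀, MulEquiv.apply_symm_apply]
    have h2 := congrArg (fun w : (Q.map (Subgroup.centralizer ({y} : Set G)).subtype) =>
      (w : G)) h1
    simp only at h2
    rw [he, Subgroup.coe_equivMapOfInjective_apply] at h2
    exact h2
  have hfz : ∀ x : Q, f (z₀ * x) = (lam z : ℂ) * f x := by
    intro x
    rw [hfapp, hfapp]
    have e1 : (((z₀ * x : Q) : Subgroup.centralizer ({y} : Set G)) : G) * y =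
        (z : G) * (((x : Subgroup.centralizer ({y} : Set G)) : G) * y) := by
      push_cast
      rw [hz₀G, mul_assoc]
    rw [e1]
    exact irr_center_mul_of_apply χ (hZc z.2) _ (hover z) _
  have hscal := linear_constituent_scalar μ₀ z₀ (lam z : ℂ) hfz hθne
  apply Units.ext
  show ((μ₀ (e.symm ⟨(z : G), hZQ z.2⟩) : ℂˣ) : ℂ) = _
  rw [← hz₀]
  exact hscal

/-- Let p be a prime, G a finite group and B a p-block of G (relative to a maximal ideal M of the algebraic integers containing p) with defect group D. Let Z be a central p-subgroup of G contained in D and λ a linear character of Z (a homomorphism to the nonzero complex numbers). Say an irreducible character χ of G lies over λ when χ(z) = χ(1)λ(z) for all z ∈ Z. If some irreducible character in B lying over λ has height zero, then λ extends to a linear character of D. -/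
theorem result {G : Type*} [Group G] [Finite G] (p : ℕ) [Fact p.Prime] (M : Ideal Cfsg.AlgInt) (hM : Cfsg.IsPModular p M) (B : Set (Cfsg.IrrCharacter G)) (hB : Cfsg.IsPBlock M B) (D : Subgroup G) (hD : Cfsg.IsDefectGroup p M B D) (Z : Subgroup G) (hZc : Z ≤ Subgroup.center G) (hZp : IsPGroup p ↥Z) (hZD : Z ≤ D) (lam : ↥Z →* ℂˣ) (χ : Cfsg.IrrCharacter G) (hχ : χ ∈ B) (hover : (∀ z : ↥Z, (χ : G → ℂ) z = (χ : G → ℂ) 1 * (lam z : ℂ))) (h0 : Cfsg.blockHeight p B (χ : G → ℂ) = 0) : (∃ μ : ↥D →* ℂˣ, ∀ z : ↥Z, μ ⟨(z : G), hZD z.2⟩ = lam z) := by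
  classical
  have := Fintype.ofFinite G
  obtain ⟨y, hy, P, rfl⟩ := hD
  have hnv := (Cfsg.Agent.S0927.result p M hM B hB y hy P 1 (Subgroup.one_mem _)).1 χ hχ h0
  have hnv' : ¬ MemLocalIdeal M ((χ : G → ℂ) y) := by
    simpa using hnv
  exact core p M hM χ y (P : Subgroup (Subgroup.centralizer ({y} : Set G))) P.2 hnv' Z hZc hZD
    lam hover

end Cfsg.Agent.S5001
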