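import Cfsg.Statements.S5011

set_option autoImplicit false
open Cfsg

namespace Cfsg.Agent.S5011

/-- The subgroup of elements acting as scalars. -/
def scalarSubgroup {G : Type*} [Group G] {V : Type*} [AddCommGroup V] [Module ℂ V]
    (ρ : Representation ℂ G V) : Subgroup G where
  carrier := {x | ∃ μ : ℂ, ∀ v : V, ρ x v = μ • v}
  one_mem' := ⟨1, fun v => by simp⟩
  mul_mem' := by
    rintro x y ⟨μ, hμ⟩ ⟨ν, hν⟩
    refine ⟨μ * ν, fun v => ?_⟩
    rw [map_mul, Module.End.mul_apply, hν, map_smul, hμ, smul_smul, mul_comm]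
  inv_mem' := by
    rintro x ⟨μ, hμ⟩
    by_cases hV : ∀ v : V, v = 0
    · refine ⟨1, fun v => ?_⟩
      rw [hV v]; simp
    · push Not at hV
      obtain ⟨w, hw⟩ := hV
      have hμ0 : μ ≠ 0 := by
        intro h0
        have h1 : ρ x⁻¹ (ρ x w) = w := by
          rw [← Module.End.mul_apply, ← map_mul]; simp
        rw [hμ w, h0, zero_smul, map_zero] at h1
        exact hw h1.symm
      refine ⟨μ⁻¹, fun v => ?_⟩
      have h1 : ρ x⁻¹ (ρ x v) = v := by
        rw [← Module.End.mul_apply, ← map_mul]; simp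
      rw [hμ v, map_smul] at h1
      calc ρ x⁻¹ v = μ⁻¹ • (μ • ρ x⁻¹ v) := by rw [smul_smul, inv_mul_cancel₀ hμ0, one_smul]
        _ = μ⁻¹ • v := by rw [h1]

lemma scalarSubgroup_normal {G : Type*} [Group G] {V : Type*} [AddCommGroup V] [Module ℂ V]
    (ρ : Representation ℂ G V) : (scalarSubgroup ρ).Normal := by
  constructor
  rintro x ⟨μ, hμ⟩ y
  refine ⟨μ, fun v => ?_⟩
  rw [map_mul, map_mul, Module.End.mul_apply, Module.End.mul_apply, hμ, map_smul]
  congr 1
  rw [← Module.End.mul_apply, ← map_mul]; simp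

theorem result {G : Type*} [Group G] [Finite G] [IsSimpleGroup G]
    (hG : ¬ IsMulCommutative G) {V : Type*} [AddCommGroup V] [Module ℂ V] [FiniteDimensional ℂ V]
    (ρ : Representation ℂ G V)
    (hirr : ∀ W : Submodule ℂ V, (∀ x : G, ∀ v ∈ W, ρ x v ∈ W) → W = ⊥ ∨ W = ⊤)
    (hdim : 1 < Module.finrank ℂ V) (g : G) (hg : g ≠ 1) :
    ∃ W : Submodule ℂ V, W ≠ ⊥ ∧ W ≠ ⊤ ∧ ∀ c ∈ Subgroup.centralizer ({g} : Set G), ∀ v ∈ W, ρ c v ∈ W := by
  by_contra hcon
  push Not at hcon
  have hnt : Nontrivial V := Module.nontrivial_of_finrank_pos (R := ℂ) (by omega)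
  -- eigenvalue of ρ g
  obtain ⟨μ, hμ⟩ := Module.End.exists_eigenvalue (ρ g)
  have hWinv : ∀ c ∈ Subgroup.centralizer ({g} : Set G),
      ∀ v ∈ Module.End.eigenspace (ρ g) μ, ρ c v ∈ Module.End.eigenspace (ρ g) μ := by
    intro c hc v hv
    rw [Module.End.mem_eigenspace_iff] at hv ⊢
    have hcg : g * c = c * g := (Subgroup.mem_centralizer_iff.mp hc) g rfl
    rw [← Module.End.mul_apply, ← map_mul, hcg, map_mul, Module.End.mul_apply, hv, map_smul]
  have hWtop : Module.End.eigenspace (ρ g) μ = ⊤ := by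
    by_contra hne
    obtain ⟨c, hc, v, hv, hcv⟩ := hcon _ hμ hne
    exact hcv (hWinv c hc v hv)
  have hgmem : g ∈ scalarSubgroup ρ := by
    refine ⟨μ, fun v => ?_⟩
    have : v ∈ Module.End.eigenspace (ρ g) μ := by rw [hWtop]; trivial
    exact Module.End.mem_eigenspace_iff.mp this
  have hN := scalarSubgroup_normal ρ
  have htop : scalarSubgroup ρ = ⊤ := by
    rcases hN.eq_bot_or_eq_top with h | h
    · exfalso
      rw [h, Subgroup.mem_bot] at hgmem
      exact hg hgmem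
    · exact h
  obtain ⟨w, hw⟩ := exists_ne (0 : V)
  have hspan : ∀ x : G, ∀ v ∈ Submodule.span ℂ {w}, ρ x v ∈ Submodule.span ℂ {w} := by
    intro x v hv
    have hx : x ∈ scalarSubgroup ρ := by rw [htop]; trivial
    obtain ⟨ν, hν⟩ := hx
    rw [hν]
    exact Submodule.smul_mem _ _ hv
  rcases hirr _ hspan with h | h
  · rw [Submodule.span_singleton_eq_bot] at h
    exact hw h
  · have h1 : Module.finrank ℂ (Submodule.span ℂ {w}) = 1 := finrank_span_singleton hw
    rw [h, finrank_top] at h1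
    omega

end Cfsg.Agent.S5011
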