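import Cfsg.Statements.S5014
import Cfsg.Agent.Lib.Helper83.RankOne

set_option autoImplicit false
open Cfsg

namespace Cfsg.Agent.S5014

open Cfsg.Agent.Lib.Helper83

/-- `A` acts regularly on `Ω ∖ {A}`. -/
lemma regular {G : Type*} [Group G] {A B : Subgroup G} (h : Cfsg.IsRankOnePair A B) :
    ∀ C ∈ Cfsg.unipotentSubgroups A B, ∀ D ∈ Cfsg.unipotentSubgroups A B, C ≠ A → D ≠ A →
      ∃! a : G, a ∈ A ∧ Cfsg.conjBy C a = D := by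
  intro C hC D hD hCA hDA
  obtain ⟨a₁, ha₁, rfl⟩ := RankOne.exists_of_mem_unipotentSubgroups_of_ne h hC hCA
  obtain ⟨a₂, ha₂, rfl⟩ := RankOne.exists_of_mem_unipotentSubgroups_of_ne h hD hDA
  refine ⟨a₂ * a₁⁻¹, ⟨A.mul_mem ha₂ (A.inv_mem ha₁), ?_⟩, ?_⟩
  · rw [conjBy_conjBy]; simp [mul_assoc]
  · rintro a ⟨ha, heq⟩
    rw [conjBy_conjBy] at heq
    have := RankOne.conjBy_right_injOn h (A.mul_mem ha ha₁) ha₂ heq
    rw [← this]; simp [mul_assoc]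

theorem result {G : Type*} [Group G] {A B : Subgroup G} (h : Cfsg.IsRankOnePair A B) :
    (∃ C₁ ∈ Cfsg.unipotentSubgroups A B, ∃ C₂ ∈ Cfsg.unipotentSubgroups A B, ∃ C₃ ∈ Cfsg.unipotentSubgroups A B,
      C₁ ≠ C₂ ∧ C₁ ≠ C₃ ∧ C₂ ≠ C₃) ∧
    (∀ C₁ ∈ Cfsg.unipotentSubgroups A B, ∀ C₂ ∈ Cfsg.unipotentSubgroups A B, ∀ D₁ ∈ Cfsg.unipotentSubgroups A B,
      ∀ D₂ ∈ Cfsg.unipotentSubgroups A B, C₁ ≠ C₂ → D₁ ≠ D₂ →
        ∃ x ∈ A ⊔ B, Cfsg.conjBy C₁ x = D₁ ∧ Cfsg.conjBy C₂ x = D₂) ∧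
    (∀ C ∈ Cfsg.unipotentSubgroups A B, ∀ D ∈ Cfsg.unipotentSubgroups A B, C ≠ A → D ≠ A →
      ∃! a : G, a ∈ A ∧ Cfsg.conjBy C a = D) := by
  refine ⟨?_, ?_, regular h⟩
  · obtain ⟨a, ha, ha1⟩ := RankOne.exists_ne_one_left h
    refine ⟨A, RankOne.left_mem_unipotentSubgroups, B, RankOne.right_mem_unipotentSubgroups h,
      Cfsg.conjBy B a, ?_, h.ne, RankOne.left_ne_conjBy_right h ha, ?_⟩
    · exact (RankOne.mem_unipotentSubgroups_iff h).mpr (Or.inr ⟨a, ha, rfl⟩)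
    · intro heq
      have h1 : Cfsg.conjBy B 1 = Cfsg.conjBy B a := by rw [conjBy_one]; exact heq
      exact ha1 (RankOne.conjBy_right_injOn h A.one_mem ha h1).symm
  · intro C₁ hC₁ C₂ hC₂ D₁ hD₁ D₂ hD₂ hC hD
    obtain ⟨x, hx, rfl, rfl⟩ := RankOne.exists_conj_pair h hC₁ hC₂ hC
    obtain ⟨y, hy, rfl, rfl⟩ := RankOne.exists_conj_pair h hD₁ hD₂ hD
    refine ⟨y * x⁻¹, Subgroup.mul_mem _ hy (Subgroup.inv_mem _ hx), ?_, ?_⟩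
    · rw [conjBy_conjBy]; simp [mul_assoc]
    · rw [conjBy_conjBy]; simp [mul_assoc]

end Cfsg.Agent.S5014
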