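import Cfsg.Statements.S5015
import Cfsg.Agent.Lib.Helper83.RankOne

set_option autoImplicit false
open Cfsg

namespace Cfsg.Agent.S5015

open Cfsg.Agent.Lib.Helper83

section
variable {Y Ω : Type*} [Group Y] [MulAction Y Ω] {α : Ω} {A : Subgroup Y}

/-- The conjugate `conjBy A z` only depends on `z • α`. -/
lemma conjBy_eq_of_smul_eq (hAn : ∀ y ∈ MulAction.stabilizer Y α, Cfsg.conjBy A y = A)
    {z z' : Y} (hz : z • α = z' • α) : Cfsg.conjBy A z = Cfsg.conjBy A z' := by
  rw [conjBy_eq_conjBy_iff, ← conjBy_eq_self_iff]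
  apply hAn
  rw [MulAction.mem_stabilizer_iff, mul_smul, hz, inv_smul_smul]

/-- Elements of `conjBy A z` fix `z • α`. -/
lemma smul_eq_of_mem_conjBy (hA : A ≤ MulAction.stabilizer Y α) {z b : Y}
    (hb : b ∈ Cfsg.conjBy A z) : b • (z • α) = z • α := by
  rw [mem_conjBy] at hb
  have h1 := MulAction.mem_stabilizer_iff.mp (hA hb)
  rw [mul_smul, mul_smul] at h1
  have := congrArg (fun w => z • w) h1
  simpa using this

/-- Transitivity of `conjBy A z` off its fixed point. -/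
lemma exists_mem_conjBy_smul_eq
    (hreg : ∀ β γ : Ω, β ≠ α → γ ≠ α → ∃! a : Y, a ∈ A ∧ a • β = γ) (z : Y) {β γ : Ω}
    (hβ : β ≠ z • α) (hγ : γ ≠ z • α) : ∃ b ∈ Cfsg.conjBy A z, b • β = γ := by
  have hβ' : z⁻¹ • β ≠ α := by
    intro h; apply hβ; rw [← h, smul_inv_smul]
  have hγ' : z⁻¹ • γ ≠ α := by
    intro h; apply hγ; rw [← h, smul_inv_smul]
  obtain ⟨a, ⟨ha, haβ⟩, _⟩ := hreg _ _ hβ' hγ'
  refine ⟨z * a * z⁻¹, conj_mem_conjBy ha, ?_⟩
  rw [mul_smul, mul_smul, haβ, smul_inv_smul]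

/-- Semiregularity of `A` off `α`. -/
lemma eq_one_of_smul_eq (hreg : ∀ β γ : Ω, β ≠ α → γ ≠ α → ∃! a : Y, a ∈ A ∧ a • β = γ)
    {a : Y} (ha : a ∈ A) {β : Ω} (hβ : β ≠ α) (h : a • β = β) : a = 1 := by
  obtain ⟨c, _, hc⟩ := hreg β β hβ hβ
  rw [hc a ⟨ha, h⟩, hc 1 ⟨A.one_mem, one_smul _ _⟩]

/-- Semiregularity of `conjBy A z` off `z • α`. -/
lemma eq_one_of_smul_eq' (hreg : ∀ β γ : Ω, β ≠ α → γ ≠ α → ∃! a : Y, a ∈ A ∧ a • β = γ)
    {z b : Y} (hb : b ∈ Cfsg.conjBy A z) {β : Ω} (hβ : β ≠ z • α) (h : b • β = β) : b = 1 := by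
  rw [mem_conjBy] at hb
  have hβ' : z⁻¹ • β ≠ α := by
    intro h; apply hβ; rw [← h, smul_inv_smul]
  have h1 : (z⁻¹ * b * z) • (z⁻¹ • β) = z⁻¹ • β := by
    rw [mul_smul, mul_smul, smul_inv_smul, h]
  have h2 := eq_one_of_smul_eq hreg hb hβ' h1
  have : b = z * (z⁻¹ * b * z) * z⁻¹ := by group
  rw [this, h2]; group

lemma exists_third (hΩ : 3 ≤ ENat.card Ω) (α β : Ω) : ∃ γ : Ω, γ ≠ α ∧ γ ≠ β := by
  by_contra hcon
  push Not at hcon
  have hsub : (Set.univ : Set Ω) ⊆ {α, β} := by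
    intro γ _
    by_cases h : γ = α
    · left; exact h
    · right; exact hcon γ h
  have h1 : ENat.card Ω ≤ 2 := by
    rw [← Set.encard_univ]
    refine (Set.encard_le_encard hsub).trans ?_
    refine (Set.encard_insert_le _ _).trans ?_
    rw [Set.encard_singleton]
    norm_num
  have : (3 : ℕ∞) ≤ 2 := hΩ.trans h1
  exact absurd this (by decide)

end

theorem result {Y Ω : Type*} [Group Y] [MulAction Y Ω]
    (h2 : MulAction.IsMultiplyPretransitive Y Ω 2) (hΩ : 3 ≤ ENat.card Ω) (α : Ω) (A : Subgroup Y)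
    (hA : A ≤ MulAction.stabilizer Y α) (hAn : ∀ y ∈ MulAction.stabilizer Y α, Cfsg.conjBy A y = A)
    (hnil : Group.IsNilpotent A) (hreg : ∀ β γ : Ω, β ≠ α → γ ≠ α → ∃! a : Y, a ∈ A ∧ a • β = γ)
    (y : Y) (hy : y ∉ MulAction.stabilizer Y α) :
    Cfsg.IsRankOnePair A (Cfsg.conjBy A y) ∧ Subgroup.normalClosure (A : Set Y) = A ⊔ Cfsg.conjBy A y := by
  have hβ : y • α ≠ α := fun h => hy (MulAction.mem_stabilizer_iff.mpr h)
  have hfixA : ∀ a ∈ A, a • α = α := fun a ha => MulAction.mem_stabilizer_iff.mp (hA ha)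
  constructor
  · refine ⟨?_, hnil, conjBy_isNilpotent hnil y, ?_, ?_⟩
    · -- A ≠ B
      intro heq
      obtain ⟨γ, hγα, hγβ⟩ := exists_third hΩ α (y • α)
      obtain ⟨a, ⟨ha, haγ⟩, _⟩ := hreg (y • α) γ hβ hγα
      rw [heq] at ha
      have := smul_eq_of_mem_conjBy hA ha
      rw [haγ] at this
      exact hγβ this
    · -- cond_left
      intro a ha ha1
      have h1 : a⁻¹ • (y • α) ≠ y • α := by
        intro h
        have := eq_one_of_smul_eq hreg (A.inv_mem ha) hβ h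
        exact ha1 (inv_eq_one.mp this)
      have h2 : a⁻¹ • (y • α) ≠ α := by
        intro h
        have h3 : a⁻¹ • α = α := hfixA _ (A.inv_mem ha)
        have h4 : a⁻¹ • (y • α) = a⁻¹ • α := h.trans h3.symm
        exact hβ (smul_left_cancel _ h4)
      obtain ⟨b', hb', hb'α⟩ := exists_mem_conjBy_smul_eq hreg y hβ.symm h1
      refine ⟨b'⁻¹, Subgroup.inv_mem _ hb', ?_, ?_⟩
      · intro h
        rw [inv_eq_one] at h
        rw [h, one_smul] at hb'α
        exact h2 hb'α.symm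
      · rw [inv_inv, conjBy_conjBy]
        apply conjBy_eq_of_smul_eq hAn
        rw [hb'α, mul_smul]
    · -- cond_right
      intro b hb hb1
      have hb' : b⁻¹ ∈ Cfsg.conjBy A y := Subgroup.inv_mem _ hb
      have h1 : b⁻¹ • α ≠ α := by
        intro h
        have := eq_one_of_smul_eq' hreg hb' hβ.symm h
        exact hb1 (inv_eq_one.mp this)
      have h2 : b⁻¹ • α ≠ y • α := by
        intro h
        have h3 : b⁻¹ • (y • α) = y • α := smul_eq_of_mem_conjBy hA hb'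
        have h4 : b⁻¹ • α = b⁻¹ • (y • α) := h.trans h3.symm
        exact hβ.symm (smul_left_cancel _ h4)
      obtain ⟨a', ⟨ha', ha'β⟩, _⟩ := hreg (y • α) (b⁻¹ • α) hβ h1
      refine ⟨a'⁻¹, A.inv_mem ha', ?_, ?_⟩
      · intro h
        rw [inv_eq_one] at h
        rw [h, one_smul] at ha'β
        exact h2 ha'β.symm
      · rw [inv_inv, conjBy_conjBy]
        apply conjBy_eq_of_smul_eq hAn
        rw [mul_smul, ha'β]
  · apply le_antisymm
    · -- every conjugate of A lies in A ⊔ B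
      have hconj : ∀ z : Y, Cfsg.conjBy A z ≤ A ⊔ Cfsg.conjBy A y := by
        intro z
        by_cases hz : z • α = α
        · rw [hAn z (MulAction.mem_stabilizer_iff.mpr hz)]
          exact le_sup_left
        · obtain ⟨a', ⟨ha', ha'β⟩, _⟩ := hreg (y • α) (z • α) hβ hz
          have : Cfsg.conjBy A z = Cfsg.conjBy A (a' * y) := by
            apply conjBy_eq_of_smul_eq hAn
            rw [mul_smul, ha'β]
          rw [this, ← conjBy_conjBy]
          exact conjBy_le_of_mem le_sup_right (Subgroup.mem_sup_left ha')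
      unfold Subgroup.normalClosure
      rw [Subgroup.closure_le]
      intro g hg
      rw [Group.mem_conjugatesOfSet_iff] at hg
      obtain ⟨a, ha, hag⟩ := hg
      rw [isConj_iff] at hag
      obtain ⟨c, rfl⟩ := hag
      exact hconj c (conj_mem_conjBy ha)
    · refine sup_le Subgroup.le_normalClosure ?_
      intro x hx
      rw [mem_conjBy] at hx
      have h1 : y⁻¹ * x * y ∈ Subgroup.normalClosure (A : Set Y) := Subgroup.le_normalClosure hx
      have h3 := (Subgroup.normalClosure_normal (s := (A : Set Y))).conj_mem _ h1 y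
      have : x = y * (y⁻¹ * x * y) * y⁻¹ := by group
      rw [this]; exact h3

end Cfsg.Agent.S5015
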