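import Cfsg.Statements.S5017
import Cfsg.Agent.Lib.Helper83.RankOneNormal

set_option autoImplicit false
open Cfsg

namespace Cfsg.Agent.S5017

open Cfsg.Agent.Lib.Helper83

lemma dichotomy {X : Type*} [Group X] {A B : Subgroup X} (h : Cfsg.IsRankOneGroup X A B) :
    ∀ N : Subgroup X, N.Normal → N ⊔ A = ⊤ ∨ N ≤ Subgroup.center X := by
  intro N hN
  obtain ⟨htop, hp⟩ := h
  have hconj : ∀ x ∈ A ⊔ B, Cfsg.conjBy N x = N := by
    intro x _
    rw [conjBy_eq_self_iff, Subgroup.normalizer_eq_top]
    trivial
  rcases RankOne.sup_le_or_le_centralizer hp (N := N) (by rw [htop]; exact le_top) hconj with h1 | h1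
  · left
    rw [htop] at h1
    exact top_le_iff.mp h1
  · right
    rw [htop, Subgroup.coe_top, Subgroup.centralizer_univ] at h1
    exact h1

lemma center_ne_top {X : Type*} [Group X] {A B : Subgroup X} (h : Cfsg.IsRankOneGroup X A B) :
    Subgroup.center X ≠ ⊤ := by
  intro hZ
  obtain ⟨htop, hp⟩ := h
  obtain ⟨a, ha, ha1⟩ := RankOne.exists_ne_one_left hp
  apply ha1
  apply RankOne.eq_one_of_mem_of_mem_normalizer hp ha
  have : a ∈ Subgroup.center X := by rw [hZ]; trivial
  exact Subgroup.center_le_normalizer _ this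

theorem result {X : Type*} [Group X] {A B : Subgroup X} (h : Cfsg.IsRankOneGroup X A B) :
    (∀ N : Subgroup X, N.Normal → N ⊔ A = ⊤ ∨ N ≤ Subgroup.center X) ∧
    (Group.IsPerfect X → Cfsg.IsQuasisimple X) := by
  refine ⟨dichotomy h, fun hperf => ⟨hperf, ?_⟩⟩
  have : Nontrivial (X ⧸ Subgroup.center X) := QuotientGroup.nontrivial_iff.mpr (center_ne_top h)
  refine ⟨fun M hM => ?_⟩
  have hNn : (M.comap (QuotientGroup.mk' (Subgroup.center X))).Normal := hM.comap _
  rcases dichotomy h _ hNn with h1 | h1
  · right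
    set N := M.comap (QuotientGroup.mk' (Subgroup.center X)) with hNdef
    -- X ⧸ N is a quotient of A, hence nilpotent; it is perfect, hence trivial
    have := hNn
    have : Group.IsNilpotent A := h.2.nilpotent_left
    have hsurj : Function.Surjective ((QuotientGroup.mk' N).comp A.subtype) := by
      intro q
      obtain ⟨x, rfl⟩ := QuotientGroup.mk'_surjective N q
      have hx : x ∈ N ⊔ A := by rw [h1]; trivial
      obtain ⟨n, hn, a, ha, rfl⟩ := Subgroup.mem_sup_of_normal_left.mp hx
      refine ⟨⟨a, ha⟩, ?_⟩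
      simp only [MonoidHom.coe_comp, Function.comp_apply, Subgroup.subtype_apply,
        QuotientGroup.mk'_apply]
      rw [QuotientGroup.eq]
      have : a⁻¹ * (n * a) = a⁻¹ * n * a := by group
      rw [this]
      have := hNn.conj_mem n hn a⁻¹
      simpa using this
    have : Group.IsNilpotent (X ⧸ N) := Group.nilpotent_of_surjective _ hsurj
    have hsub : Subsingleton (X ⧸ N) := by
      by_contra hns
      rw [not_subsingleton_iff_nontrivial] at hns
      exact Group.IsPerfect.not_isNilpotent (X ⧸ N) inferInstance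
    have hNtop : N = ⊤ := QuotientGroup.subsingleton_iff.mp hsub
    rw [eq_top_iff]
    intro m _
    obtain ⟨x, rfl⟩ := QuotientGroup.mk'_surjective _ m
    have : x ∈ N := by rw [hNtop]; trivial
    exact this
  · left
    rw [eq_bot_iff]
    intro m hm
    obtain ⟨x, rfl⟩ := QuotientGroup.mk'_surjective _ m
    have hx : x ∈ M.comap (QuotientGroup.mk' (Subgroup.center X)) := hm
    have := h1 hx
    rw [Subgroup.mem_bot]
    exact (QuotientGroup.eq_one_iff x).mpr this

end Cfsg.Agent.S5017
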