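import Cfsg.Statements.S5018
import Cfsg.Agent.Lib.Helper83.RankOneNormal

set_option autoImplicit false
open Cfsg

namespace Cfsg.Agent.S5018

open Cfsg.Agent.Lib.Helper83
open scoped commutatorElement

lemma Z2_le_normalizer {X : Type*} [Group X] {A B : Subgroup X} (h : Cfsg.IsRankOneGroup X A B) :
    Subgroup.upperCentralSeries X 2 ≤ Subgroup.normalizer (A : Set X) := by
  obtain ⟨htop, hp⟩ := h
  intro n hn
  rw [← conjBy_eq_self_iff]
  apply RankOne.conjBy_eq_of_le_normalizer hp
  · exact ⟨n, by rw [htop]; trivial, rfl⟩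
  · intro x hx
    rw [mem_conjBy] at hx
    -- x = n a n⁻¹ = [n, a] * a with [n, a] central
    have hc : ⁅n, n⁻¹ * x * n⁆ ∈ Subgroup.upperCentralSeries X 1 :=
      (Subgroup.mem_upperCentralSeries_succ_iff.mp hn) _
    rw [Subgroup.upperCentralSeries_one] at hc
    have hx' : x = ⁅n, n⁻¹ * x * n⁆ * (n⁻¹ * x * n) := by
      rw [commutatorElement_def]; group
    rw [hx']
    exact Subgroup.mul_mem _ (Subgroup.center_le_normalizer _ hc) (Subgroup.le_normalizer hx)

theorem result {X : Type*} [Group X] {A B : Subgroup X} (h : Cfsg.IsRankOneGroup X A B) :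
    Subgroup.upperCentralSeries X 2 = Subgroup.center X ∧ ¬ Group.IsNilpotent X := by
  have htop := h.1
  have hp := h.2
  constructor
  · apply le_antisymm
    · have hconj : ∀ x ∈ A ⊔ B, Cfsg.conjBy (Subgroup.upperCentralSeries X 2) x =
          Subgroup.upperCentralSeries X 2 := by
        intro x _
        rw [conjBy_eq_self_iff, Subgroup.normalizer_eq_top]
        trivial
      have := RankOne.le_centralizer_of_le_normalizer hp hconj (Z2_le_normalizer h)
      rwa [htop, Subgroup.coe_top, Subgroup.centralizer_univ] at this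
    · rw [← Subgroup.upperCentralSeries_one]
      exact Subgroup.upperCentralSeries_mono X (by norm_num)
  · intro hnil
    have hnc : NormalizerCondition X := Group.normalizerCondition_of_isNilpotent
    have hB : ¬ B ≤ Subgroup.normalizer (A : Set X) := by
      intro hle
      have h2 : B ⊓ Subgroup.normalizer (A : Set X) = B := inf_eq_left.mpr hle
      rw [RankOne.inf_normalizer_left hp] at h2
      exact RankOne.right_ne_bot hp h2.symm
    have hlt : Subgroup.normalizer (A : Set X) < ⊤ := by
      rw [lt_top_iff_ne_top]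
      intro heq
      apply hB
      rw [heq]; exact le_top
    have hlt2 := hnc _ hlt
    obtain ⟨x, hx, hxA⟩ := SetLike.exists_of_lt hlt2
    apply hxA
    rw [← conjBy_eq_self_iff]
    apply RankOne.conjBy_eq_of_le_normalizer hp
    · exact ⟨x, by rw [htop]; trivial, rfl⟩
    · have h1 : Cfsg.conjBy (Subgroup.normalizer (A : Set X)) x = Subgroup.normalizer (A : Set X) :=
        conjBy_eq_self_iff.mpr hx
      rw [← h1]
      exact conjBy_mono Subgroup.le_normalizer x

end Cfsg.Agent.S5018
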