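import Cfsg.Statements.S5019
import Cfsg.Agent.Lib.Helper83.Quadratic

set_option autoImplicit false
open Cfsg

namespace Cfsg.Agent.S5019

open Cfsg.Agent.Lib.Helper83

section
variable {X : Type*} [Group X] {A B : Subgroup X} {V : Type*} [AddCommGroup V] [DistribMulAction X V]

/-- `v ↦ x • v - v` as an additive map. -/
def dl (V : Type*) [AddCommGroup V] [DistribMulAction X V] (x : X) : V →+ V where
  toFun v := x • v - v
  map_zero' := by simp
  map_add' := by intro v w; rw [smul_add]; abel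

lemma dl_apply (x : X) (v : V) : dl V x v = x • v - v := rfl

lemma smul_eq (x : X) (v : V) : x • v = v + dl V x v := by rw [dl_apply]; abel

lemma quadB (h : Cfsg.IsRankOneGroup X A B) (hq : Quad.IsQuad V A) : Quad.IsQuad V B := by
  obtain ⟨x, _, hx⟩ := RankOne.right_mem_unipotentSubgroups h.2
  rw [hx]
  exact hq.conjBy x

/-- The formula for the difference of the actions of `b⁻¹ a b` and `a⁻¹ b⁻¹ a`. -/
lemma diff_formula (hqA : Quad.IsQuad V A) (hqB : Quad.IsQuad V B) {a b : X} (ha : a ∈ A)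
    (hb : b ∈ B) (v : V) :
    (b⁻¹ * a * b) • v - (a⁻¹ * b⁻¹ * a) • v =
      dl V a v + dl V b v - dl V b (dl V a (dl V b v)) - dl V a (dl V b (dl V a v)) := by
  have hbs : ∀ u : V, b • u = u + dl V b u := smul_eq b
  have has : ∀ u : V, a • u = u + dl V a u := smul_eq a
  have hbi : ∀ u : V, b⁻¹ • u = u - dl V b u := fun u => hqB.inv_smul hb u
  have hai : ∀ u : V, a⁻¹ • u = u - dl V a u := fun u => hqA.inv_smul ha u
  have hββ : ∀ u : V, dl V b (dl V b u) = 0 := by
    intro u
    rw [dl_apply, dl_apply, hqB b hb b hb u, sub_self]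
  have hαα : ∀ u : V, dl V a (dl V a u) = 0 := by
    intro u
    rw [dl_apply, dl_apply, hqA a ha a ha u, sub_self]
  have e1 : (b⁻¹ * a * b) • v = b⁻¹ • (a • (b • v)) := by
    simp only [SemigroupAction.mul_smul]
  have e2 : (a⁻¹ * b⁻¹ * a) • v = a⁻¹ • (b⁻¹ • (a • v)) := by
    simp only [SemigroupAction.mul_smul]
  rw [e1, e2, hbs v, has (v + dl V b v), hbi, has v, hbi (v + dl V a v), hai]
  simp only [map_add, map_sub, hββ, hαα]
  abel

end

/-- Let X be a rank one group with abelian unipotent subgroups A and B, and suppose X acts on an abelian group N (written additively) in such a way that A acts quadratically, meaning a' • (a • n − n) = a • n − n for all a, a' in A and n in N, while X as a whole does not: y • (x • n − n) ≠ x • n − n for some x, y in X and n in N. Then X is a special rank one group. -/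
theorem result {X : Type*} [Group X] {A B : Subgroup X} (h : Cfsg.IsRankOneGroup X A B)
    (hab : Cfsg.HasAbelianUnipotents A B) {N : Type*} [AddCommGroup N] [DistribMulAction X N]
    (hq : ∀ a ∈ A, ∀ a' ∈ A, ∀ n : N, a' • (a • n - n) = a • n - n)
    (hX : ∃ x y : X, ∃ n : N, y • (x • n - n) ≠ x • n - n) : Cfsg.IsSpecialRankOnePair A B := by
  have htop := h.1
  have hp := h.2
  have hqA : Quad.IsQuad N A := hq
  have hqB : Quad.IsQuad N B := quadB h hqA
  refine ⟨hp, ?_⟩
  intro a ha ha1 b hb hb1 hab'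
  -- the common conjugate C
  obtain ⟨C, hC⟩ : ∃ C : Subgroup X, C = Cfsg.conjBy A b⁻¹ := ⟨_, rfl⟩
  have hqC : Quad.IsQuad N C := by rw [hC]; exact hqA.conjBy b⁻¹
  have hc₁ : b⁻¹ * a * b ∈ C := by
    rw [hC]
    have := conj_mem_conjBy (A := A) (g := b⁻¹) ha
    rwa [inv_inv] at this
  have hc₂ : a⁻¹ * b⁻¹ * a ∈ C := by
    rw [hC, hab']
    have := conj_mem_conjBy (A := B) (g := a⁻¹) (B.inv_mem hb)
    rwa [inv_inv] at this
  have hc : (a⁻¹ * b⁻¹ * a)⁻¹ * (b⁻¹ * a * b) ∈ C := C.mul_mem (C.inv_mem hc₂) hc₁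
  -- it suffices to show that c = c₂⁻¹ c₁ = 1
  suffices hc1 : (a⁻¹ * b⁻¹ * a)⁻¹ * (b⁻¹ * a * b) = 1 by
    rw [inv_mul_eq_one] at hc1
    exact hc1.symm
  by_contra hcne
  -- action of c
  have hcact : ∀ v : N, ((a⁻¹ * b⁻¹ * a)⁻¹ * (b⁻¹ * a * b)) • v =
      v + ((b⁻¹ * a * b) • v - (a⁻¹ * b⁻¹ * a) • v) := by
    intro v
    rw [hqC.mul_smul (C.inv_mem hc₂) hc₁, hqC.inv_smul hc₂]
    abel
  -- ★ and ★★
  have star1 : ∀ w ∈ Quad.fixedPts N A, dl N b w = dl N b (dl N a (dl N b w)) := by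
    intro w hw
    have h1 := Quad.rel_one hqB ha hb hab' hw
    have h2 := h1 b hb
    rw [smul_sub, sub_eq_sub_iff_add_eq_add] at h2
    -- h2 : b • w + (..) = w + b • (..)
    have h3 : b • w - w = b • (a • (b • w - w) - (b • w - w)) - (a • (b • w - w) - (b • w - w)) := by
      rw [sub_eq_sub_iff_add_eq_add]; exact h2.trans (add_comm _ _)
    exact h3
  have star2 : ∀ u ∈ Quad.fixedPts N B, dl N a u = dl N a (dl N b (dl N a u)) := by
    intro u hu
    have h1 := Quad.rel_one hqA hb ha hab'.symm hu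
    have h2 := h1 a ha
    rw [smul_sub, sub_eq_sub_iff_add_eq_add] at h2
    have h3 : a • u - u = a • (b • (a • u - u) - (a • u - u)) - (b • (a • u - u) - (a • u - u)) := by
      rw [sub_eq_sub_iff_add_eq_add]; exact h2.trans (add_comm _ _)
    exact h3
  -- c fixes fixedPts A and fixedPts B
  have hcA : ∀ w ∈ Quad.fixedPts N A, ((a⁻¹ * b⁻¹ * a)⁻¹ * (b⁻¹ * a * b)) • w = w := by
    intro w hw
    have hαw : dl N a w = 0 := by rw [dl_apply, hw a ha, sub_self]
    rw [hcact, diff_formula hqA hqB ha hb, hαw, map_zero, map_zero, ← star1 w hw]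
    abel
  have hcB : ∀ u ∈ Quad.fixedPts N B, ((a⁻¹ * b⁻¹ * a)⁻¹ * (b⁻¹ * a * b)) • u = u := by
    intro u hu
    have hβu : dl N b u = 0 := by rw [dl_apply, hu b hb, sub_self]
    rw [hcact, diff_formula hqA hqB ha hb, hβu, map_zero, map_zero, ← star2 u hu]
    abel
  -- the invariant subgroup M' = V_A + V_B
  set M' : AddSubgroup N := Quad.fixedPts N A ⊔ Quad.fixedPts N B with hM'
  have hM'A : ∀ a' ∈ A, ∀ m ∈ M', a' • m ∈ M' := by
    intro a' ha' m hm
    obtain ⟨w, hw, u, hu, rfl⟩ := AddSubgroup.mem_sup.mp hm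
    have e : a' • (w + u) = (w + (a' • u - u)) + u := by
      rw [smul_add, hw a' ha']; abel
    rw [e]
    exact AddSubgroup.mem_sup.mpr ⟨_, (Quad.fixedPts N A).add_mem hw (hqA.sub_mem_fixedPts ha' u), u, hu, rfl⟩
  have hM'B : ∀ b' ∈ B, ∀ m ∈ M', b' • m ∈ M' := by
    intro b' hb' m hm
    obtain ⟨w, hw, u, hu, rfl⟩ := AddSubgroup.mem_sup.mp hm
    have e : b' • (w + u) = w + ((b' • w - w) + u) := by
      rw [smul_add, hu b' hb']; abel
    rw [e]
    exact AddSubgroup.mem_sup.mpr ⟨w, hw, _, (Quad.fixedPts N B).add_mem (hqB.sub_mem_fixedPts hb' w) hu, rfl⟩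
  -- the subgroup of X leaving M' invariant
  let T : Subgroup X :=
    { carrier := {x | ∀ m ∈ M', x • m ∈ M' ∧ x⁻¹ • m ∈ M'}
      one_mem' := by intro m hm; simpa using hm
      mul_mem' := by
        intro x y hx hy m hm
        refine ⟨?_, ?_⟩
        · rw [SemigroupAction.mul_smul]; exact (hx _ (hy m hm).1).1
        · rw [mul_inv_rev, SemigroupAction.mul_smul]; exact (hy _ (hx m hm).2).2
      inv_mem' := by
        intro x hx m hm
        rw [inv_inv]
        exact ⟨(hx m hm).2, (hx m hm).1⟩ }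
  have hT : T = ⊤ := by
    rw [eq_top_iff, ← htop]
    refine sup_le ?_ ?_
    · intro a' ha' m hm
      exact ⟨hM'A a' ha' m hm, hM'A _ (A.inv_mem ha') m hm⟩
    · intro b' hb' m hm
      exact ⟨hM'B b' hb' m hm, hM'B _ (B.inv_mem hb') m hm⟩
  have hinv : ∀ x : X, ∀ m ∈ M', x • m ∈ M' := by
    intro x m hm
    have : x ∈ T := by rw [hT]; trivial
    exact (this m hm).1
  -- the centralizer K' of M'
  let K' : Subgroup X :=
    { carrier := {x | ∀ m ∈ M', x • m = m}
      one_mem' := by intro m _; simp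
      mul_mem' := by
        intro x y hx hy m hm
        rw [SemigroupAction.mul_smul, hy m hm, hx m hm]
      inv_mem' := by
        intro x hx m hm
        rw [inv_smul_eq_iff, hx m hm] }
  have hK'n : K'.Normal := by
    constructor
    intro x hx g m hm
    rw [SemigroupAction.mul_smul, SemigroupAction.mul_smul, hx _ (hinv g⁻¹ m hm), smul_inv_smul]
  have hcK' : (a⁻¹ * b⁻¹ * a)⁻¹ * (b⁻¹ * a * b) ∈ K' := by
    intro m hm
    obtain ⟨w, hw, u, hu, rfl⟩ := AddSubgroup.mem_sup.mp hm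
    rw [smul_add, hcA w hw, hcB u hu]
  -- rank one pair (C, A)
  have hCΩ : C ∈ Cfsg.unipotentSubgroups A B :=
    ⟨b⁻¹, Subgroup.mem_sup_right (B.inv_mem hb), hC⟩
  have hCA : C ≠ A := by
    intro heq
    rw [hC] at heq
    have hb1' : b⁻¹ = 1 :=
      RankOne.eq_one_of_mem_of_mem_normalizer' hp (B.inv_mem hb) (conjBy_eq_self_iff.mp heq)
    exact hb1 (inv_eq_one.mp hb1')
  obtain ⟨hpCA, hsupCA⟩ := RankOne.pair_of_mem_unipotentSubgroups hp hCΩ
    RankOne.left_mem_unipotentSubgroups hCA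
  have hconj : ∀ x ∈ C ⊔ A, Cfsg.conjBy K' x = K' := by
    intro x _
    rw [conjBy_eq_self_iff, Subgroup.normalizer_eq_top]
    trivial
  rcases RankOne.sup_le_or_le_centralizer hpCA (N := K') (by rw [hsupCA, htop]; exact le_top) hconj
    with h1 | h1
  · -- X = K' C
    have hdec : ∀ x : X, ∃ k' ∈ K', ∃ c' ∈ C, x = k' * c' := by
      intro x
      have hx : x ∈ K' ⊔ C := h1 (by rw [hsupCA, htop]; trivial)
      obtain ⟨k', hk', c', hc', rfl⟩ := Subgroup.mem_sup_of_normal_left.mp hx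
      exact ⟨k', hk', c', hc', rfl⟩
    -- X acts quadratically on M'
    have hquadM : ∀ m ∈ M', ∀ x y : X, y • (x • m - m) = x • m - m := by
      intro m hm x y
      obtain ⟨k', hk', c', hc', rfl⟩ := hdec x
      obtain ⟨k'', hk'', c'', hc'', rfl⟩ := hdec y
      have e1 : (k' * c') • m = c' • m := by
        rw [SemigroupAction.mul_smul, hk' _ (hinv c' m hm)]
      have hmem : c' • m - m ∈ M' := M'.sub_mem (hinv c' m hm) hm
      rw [e1, SemigroupAction.mul_smul, hqC c' hc' c'' hc'' m, hk'' _ hmem]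
    have hwM : ∀ w ∈ Quad.fixedPts N A, w ∈ M' := fun w hw =>
      AddSubgroup.mem_sup_left hw
    have huM : ∀ u ∈ Quad.fixedPts N B, u ∈ M' := fun u hu =>
      AddSubgroup.mem_sup_right hu
    -- V_A ≤ V_B and V_B ≤ V_A
    have hAB : ∀ w ∈ Quad.fixedPts N A, w ∈ Quad.fixedPts N B := by
      intro w hw
      have h2 := Quad.rel_one hqB ha hb hab' hw
      rwa [hquadM w (hwM w hw) b a, sub_self, sub_zero] at h2
    have hBA : ∀ u ∈ Quad.fixedPts N B, u ∈ Quad.fixedPts N A := by
      intro u hu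
      have h2 := Quad.rel_one hqA hb ha hab'.symm hu
      rwa [hquadM u (huM u hu) a b, sub_self, sub_zero] at h2
    -- then stab = ⊤
    have hstab : Quad.stab X N = ⊤ := by
      rw [eq_top_iff, ← htop]
      refine sup_le ?_ ?_
      · intro a' ha' v y
        have h3 := hqA.sub_mem_fixedPts ha' v
        exact Quad.fixedPts_top_eq_inf htop h3 (hAB _ h3) y
      · intro b' hb' v y
        have h3 := hqB.sub_mem_fixedPts hb' v
        exact Quad.fixedPts_top_eq_inf htop (hBA _ h3) h3 y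
    obtain ⟨x, y, n, hxy⟩ := hX
    have hx : x ∈ Quad.stab X N := by rw [hstab]; trivial
    exact hxy (hx n y)
  · -- c central, hence normalizes A
    apply hcne
    apply RankOne.eq_one_of_mem_of_mem_normalizer hpCA hc
    apply Subgroup.centralizer_le_normalizer _
    have h2 := h1 hcK'
    rw [Subgroup.mem_centralizer_iff] at h2 ⊢
    intro a' ha'
    exact h2 a' (Subgroup.mem_sup_right ha')

end Cfsg.Agent.S5019
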