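import Cfsg.Statements.S5036
import Cfsg.Agent.Lib.Helper83.RootTriple

set_option autoImplicit false
open Cfsg

namespace Cfsg.Agent.S5036

open Cfsg.Agent.Lib.Helper83
open scoped commutatorElement

section
variable {G : Type*} [Group G] {S : Set (Subgroup G)} {A B C D : Subgroup G}

lemma conj_mem_centralizer_conjBy {E : Subgroup G} {x : G} (g : G)
    (hx : x ∈ Subgroup.centralizer (E : Set G)) :
    g * x * g⁻¹ ∈ Subgroup.centralizer ((Cfsg.conjBy E g : Subgroup G) : Set G) := by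
  rw [Subgroup.mem_centralizer_iff] at hx ⊢
  intro e he
  have he' : g⁻¹ * e * g ∈ E := mem_conjBy.mp he
  have h1 := hx _ he'
  calc e * (g * x * g⁻¹) = g * ((g⁻¹ * e * g) * x) * g⁻¹ := by group
    _ = g * (x * (g⁻¹ * e * g)) * g⁻¹ := by rw [h1]
    _ = _ := by group

/-- Step 1: `B` and `D` form a rank one pair. -/
lemma rankOne_BD (hS : Cfsg.IsRootSubgroupSet S) (hA : A ∈ S) (hB : B ∈ S) (hC : ⁅A, B⁆ ∈ S)
    (hD : D ∈ S) (hDC : ⁅D, ⁅A, B⁆⁆ = A) : Cfsg.IsRankOnePair B D := by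
  have hAB := RootSet.commCase_of_commutator_mem hS hA hB hC
  have hDCc : Cfsg.RootCommutatorCase S D ⁅A, B⁆ :=
    RootSet.commCase_of_commutator_mem hS hD hC (by rw [hDC]; exact hA)
  have hDA : ⁅D, A⁆ = ⊥ := by
    have := RootSet.commCase_left_comm hDCc
    rwa [hDC] at this
  have hAD : ⁅A, D⁆ = ⊥ := by rw [Subgroup.commutator_comm]; exact hDA
  rcases hS.pair B hB D hD with h | h | h
  · exfalso
    have h1 : ⁅⁅B, D⁆, A⁆ = ⊥ := by rw [h]; exact Subgroup.commutator_bot_left _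
    have h2 : ⁅⁅D, A⁆, B⁆ = ⊥ := by rw [hDA]; exact Subgroup.commutator_bot_left _
    have h3 := Subgroup.commutator_commutator_eq_bot_of_rotate h1 h2
    rw [Subgroup.commutator_comm, hDC] at h3
    exact hS.ne_bot A hA h3
  · exact h
  · exfalso
    have t : RootSet.Triple S A B D :=
      ⟨hS, hA, hB, hD, hAB, RootSet.commCase_symm h, hAD⟩
    obtain ⟨n, hn⟩ := (Subgroup.isNilpotent_iff_lowerCentralSeries _).mp t.isNilpotent
    have hAW : A ≤ A ⊔ B ⊔ D := le_sup_left.trans le_sup_left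
    have hBW : B ≤ A ⊔ B ⊔ D := le_sup_right.trans le_sup_left
    have hDW : D ≤ A ⊔ B ⊔ D := le_sup_right
    have key : ∀ m, A ≤ (A ⊔ B ⊔ D).lowerCentralSeries m := by
      intro m
      induction m with
      | zero => exact hAW
      | succ m ih =>
        have h1 : ⁅A, B⁆ ≤ (A ⊔ B ⊔ D).lowerCentralSeries (m + 1) := by
          rw [Subgroup.lowerCentralSeries_succ]
          exact Subgroup.commutator_mono ih hBW
        have h2 : ⁅⁅A, B⁆, D⁆ ≤ (A ⊔ B ⊔ D).lowerCentralSeries (m + 2) := by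
          rw [Subgroup.lowerCentralSeries_succ]
          exact Subgroup.commutator_mono h1 hDW
        rw [Subgroup.commutator_comm, hDC] at h2
        exact h2.trans (Subgroup.lowerCentralSeries_antitone _ (Nat.le_succ _))
    have := key n
    rw [hn, le_bot_iff] at this
    exact hS.ne_bot A hA this

/-- The symmetric configuration: `⁅A, B⁆ = C`, `⁅C, D⁆ = A`, `(B, D)` a rank one pair. -/
structure Opp (S : Set (Subgroup G)) (A B C D : Subgroup G) : Prop where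
  hS : Cfsg.IsRootSubgroupSet S
  hA : A ∈ S
  hB : B ∈ S
  hC : C ∈ S
  hD : D ∈ S
  hAB : Cfsg.RootCommutatorCase S A B
  hCD : Cfsg.RootCommutatorCase S C D
  eAB : ⁅A, B⁆ = C
  eCD : ⁅C, D⁆ = A
  hBD : Cfsg.IsRankOnePair B D

namespace Opp

lemma symm (o : Opp S A B C D) : Opp S C D A B :=
  ⟨o.hS, o.hC, o.hD, o.hA, o.hB, o.hCD, o.hAB, o.eCD, o.eAB, Cfsg.RankOnePair_symm o.hBD⟩

lemma AC (o : Opp S A B C D) : ⁅A, C⁆ = ⊥ := by
  have := RootSet.commCase_left_comm o.hAB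
  rwa [o.eAB] at this

lemma BC (o : Opp S A B C D) : ⁅B, C⁆ = ⊥ := by
  have := RootSet.commCase_right_comm o.hAB
  rwa [o.eAB] at this

lemma AD (o : Opp S A B C D) : ⁅A, D⁆ = ⊥ := by
  rw [Subgroup.commutator_comm]; exact o.symm.BC

lemma inj (o : Opp S A B C D) {b a : G} (hb : b ∈ B) (hb1 : b ≠ 1) (ha : a ∈ A)
    (hab : b * a = a * b) : a = 1 :=
  RootSet.eq_one_of_commute o.hS o.hB (RootSet.commCase_symm o.hAB) o.hD o.hBD hb hb1 ha hab

lemma inf_eq_bot (o : Opp S A B C D) : A ⊓ C = ⊥ := by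
  rw [eq_bot_iff]
  intro x hx
  obtain ⟨hxA, hxC⟩ := Subgroup.mem_inf.mp hx
  obtain ⟨b, hb, hb1⟩ := RankOne.exists_ne_one_left o.hBD
  rw [Subgroup.mem_bot]
  exact o.inj hb hb1 hxA (mul_comm_of_commutator_eq_bot o.BC hb hxC)

/-- The fixed points of `B` on `A ⊔ C` are `C`. -/
lemma fix (o : Opp S A B C D) {x : G} (hx : x ∈ A ⊔ C)
    (hxB : x ∈ Subgroup.centralizer (B : Set G)) : x ∈ C := by
  obtain ⟨a, ha, c, hc, rfl⟩ :=
    (mem_sup_of_commute (fun a ha c hc => mul_comm_of_commutator_eq_bot o.AC ha hc)).mp hx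
  obtain ⟨b, hb, hb1⟩ := RankOne.exists_ne_one_left o.hBD
  have h1 : b * (a * c) = (a * c) * b := Subgroup.mem_centralizer_iff.mp hxB b hb
  have h2 : b * c = c * b := mul_comm_of_commutator_eq_bot o.BC hb hc
  have h3 : b * a = a * b := by
    have : (b * a) * c = (a * b) * c := by
      rw [mul_assoc, h1, mul_assoc, mul_assoc, h2]
    exact mul_right_cancel this
  rw [o.inj hb hb1 ha h3, one_mul]
  exact hc

lemma conjN_B (o : Opp S A B C D) {b : G} (hb : b ∈ B) : Cfsg.conjBy (A ⊔ C) b ≤ A ⊔ C := by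
  rw [conjBy_sup]
  refine sup_le ?_ ?_
  · have := Cfsg.Agent.S5029.conj_le (A := A) (B := B) b hb
    rwa [o.eAB] at this
  · have : Cfsg.conjBy C b = C := by
      rw [conjBy_eq_self_iff]
      apply Subgroup.centralizer_le_normalizer _
      rw [Subgroup.mem_centralizer_iff]
      intro c hc
      exact (mul_comm_of_commutator_eq_bot o.BC hb hc).symm
    rw [this]
    exact le_sup_right

lemma conjN_D (o : Opp S A B C D) {d : G} (hd : d ∈ D) : Cfsg.conjBy (A ⊔ C) d ≤ A ⊔ C := by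
  rw [sup_comm]; exact o.symm.conjN_B hd

lemma conj_le' (o : Opp S A B C D) {b d : G} (hb : b ∈ B) (hd : d ∈ D)
    (hE : Cfsg.conjBy B d⁻¹ = Cfsg.conjBy D b⁻¹) : Cfsg.conjBy A b⁻¹ ≤ Cfsg.conjBy C d⁻¹ := by
  intro x hx
  have hxN : x ∈ A ⊔ C := by
    have := Cfsg.Agent.S5029.conj_le (A := A) (B := B) b⁻¹ (B.inv_mem hb) hx
    rwa [o.eAB] at this
  have ha : (b⁻¹)⁻¹ * x * b⁻¹ ∈ A := mem_conjBy.mp hx
  have haD : (b⁻¹)⁻¹ * x * b⁻¹ ∈ Subgroup.centralizer (D : Set G) := by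
    rw [Subgroup.mem_centralizer_iff]
    intro e he
    exact (mul_comm_of_commutator_eq_bot o.AD ha he).symm
  have h1 := conj_mem_centralizer_conjBy b⁻¹ haD
  have e1 : b⁻¹ * ((b⁻¹)⁻¹ * x * b⁻¹) * (b⁻¹)⁻¹ = x := by group
  rw [e1, ← hE] at h1
  have h2 := conj_mem_centralizer_conjBy d h1
  rw [conjBy_conjBy_inv] at h2
  have hyN : d * x * d⁻¹ ∈ A ⊔ C := o.conjN_D hd (conj_mem_conjBy hxN)
  have := o.fix hyN h2
  rw [mem_conjBy, inv_inv]
  exact this

lemma conj_eq (o : Opp S A B C D) {b d : G} (hb : b ∈ B) (hd : d ∈ D)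
    (hE : Cfsg.conjBy B d⁻¹ = Cfsg.conjBy D b⁻¹) : Cfsg.conjBy A b⁻¹ = Cfsg.conjBy C d⁻¹ :=
  le_antisymm (o.conj_le' hb hd hE) (o.symm.conj_le' hd hb hE.symm)

lemma exists_d (o : Opp S A B C D) {b : G} (hb : b ∈ B) (hb1 : b ≠ 1) :
    ∃ d ∈ D, d ≠ 1 ∧ Cfsg.conjBy A b⁻¹ = Cfsg.conjBy C d⁻¹ := by
  obtain ⟨d, hd, hd1, hE⟩ := o.hBD.cond_left b hb hb1
  exact ⟨d, hd, hd1, o.conj_eq hb hd hE⟩

/-- The set `A^B ∪ {C}`. -/
def omega (A B C : Subgroup G) : Set (Subgroup G) :=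
  (fun b : G => Cfsg.conjBy A b) '' (B : Set G) ∪ {C}

lemma omega_sub (o : Opp S A B C D) : omega A B C ⊆ omega C D A := by
  rintro E (⟨b, hb, rfl⟩ | hE)
  · by_cases hb1 : b = 1
    · right
      simp only [hb1, conjBy_one, Set.mem_singleton_iff]
    · left
      have hb' : b⁻¹ ∈ B := B.inv_mem hb
      have hb1' : b⁻¹ ≠ 1 := by simpa using hb1
      obtain ⟨d, hd, _, heq⟩ := o.exists_d hb' hb1'
      rw [inv_inv] at heq
      exact ⟨d⁻¹, D.inv_mem hd, heq.symm⟩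
  · left
    rw [Set.mem_singleton_iff] at hE
    exact ⟨1, D.one_mem, by simp only [conjBy_one, hE]⟩

lemma omega_eq (o : Opp S A B C D) : omega A B C = omega C D A :=
  Set.Subset.antisymm o.omega_sub o.symm.omega_sub

lemma conj_omega_B (o : Opp S A B C D) {b : G} (hb : b ∈ B) {E : Subgroup G}
    (hE : E ∈ omega A B C) : Cfsg.conjBy E b ∈ omega A B C := by
  rcases hE with ⟨b', hb', rfl⟩ | hE
  · left
    exact ⟨b * b', B.mul_mem hb hb', (conjBy_conjBy _ _ _).symm⟩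
  · right
    rw [Set.mem_singleton_iff] at hE
    rw [Set.mem_singleton_iff, hE, conjBy_eq_self_iff]
    apply Subgroup.centralizer_le_normalizer _
    rw [Subgroup.mem_centralizer_iff]
    intro c hc
    exact (mul_comm_of_commutator_eq_bot o.BC hb hc).symm

lemma conj_omega_D (o : Opp S A B C D) {d : G} (hd : d ∈ D) {E : Subgroup G}
    (hE : E ∈ omega A B C) : Cfsg.conjBy E d ∈ omega A B C := by
  rw [o.omega_eq] at hE ⊢
  exact o.symm.conj_omega_B hd hE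

/-- The stabilizer of `omega`. -/
def stab (A B C : Subgroup G) : Subgroup G where
  carrier := {x | ∀ E ∈ omega A B C, Cfsg.conjBy E x ∈ omega A B C ∧
    Cfsg.conjBy E x⁻¹ ∈ omega A B C}
  one_mem' := by
    intro E hE
    simp only [inv_one, conjBy_one]
    exact ⟨hE, hE⟩
  mul_mem' := by
    intro g h hg hh E hE
    constructor
    · rw [← conjBy_conjBy]
      exact (hg _ (hh E hE).1).1
    · rw [mul_inv_rev, ← conjBy_conjBy]
      exact (hh _ (hg E hE).2).2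
  inv_mem' := by
    intro g hg E hE
    rw [inv_inv]
    exact ⟨(hg E hE).2, (hg E hE).1⟩

lemma le_stab (o : Opp S A B C D) : B ⊔ D ≤ stab A B C := by
  refine sup_le ?_ ?_
  · intro b hb E hE
    exact ⟨o.conj_omega_B hb hE, o.conj_omega_B (B.inv_mem hb) hE⟩
  · intro d hd E hE
    exact ⟨o.conj_omega_D hd hE, o.conj_omega_D (D.inv_mem hd) hE⟩

/-- `C` is conjugate to `A` under `⟨B, D⟩`. -/
lemma exists_conj (o : Opp S A B C D) : ∃ g ∈ B ⊔ D, C = Cfsg.conjBy A g := by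
  obtain ⟨b, hb, hb1⟩ := RankOne.exists_ne_one_left o.hBD
  obtain ⟨d, hd, _, heq⟩ := o.exists_d hb hb1
  refine ⟨d * b⁻¹, Subgroup.mul_mem _ (Subgroup.mem_sup_right hd)
    (Subgroup.mem_sup_left (B.inv_mem hb)), ?_⟩
  rw [← conjBy_conjBy, heq, conjBy_conjBy_inv]

lemma orbit_eq (o : Opp S A B C D) :
    {E | ∃ x ∈ B ⊔ D, E = Cfsg.conjBy A x} = omega A B C := by
  ext E
  constructor
  · rintro ⟨x, hx, rfl⟩
    have hA : A ∈ omega A B C := Or.inl ⟨1, B.one_mem, conjBy_one A⟩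
    exact (o.le_stab hx A hA).1
  · rintro (⟨b, hb, rfl⟩ | hE)
    · exact ⟨b, Subgroup.mem_sup_left hb, rfl⟩
    · rw [Set.mem_singleton_iff] at hE
      obtain ⟨g, hg, hCg⟩ := o.exists_conj
      exact ⟨g, hg, hE.trans hCg⟩

lemma orbit_eq' (o : Opp S A B C D) :
    {E | ∃ x ∈ B ⊔ D, E = Cfsg.conjBy A x} = {E | ∃ x ∈ B ⊔ D, E = Cfsg.conjBy C x} := by
  obtain ⟨g, hg, hCg⟩ := o.exists_conj
  ext E
  constructor
  · rintro ⟨x, hx, rfl⟩
    refine ⟨x * g⁻¹, Subgroup.mul_mem _ hx (Subgroup.inv_mem _ hg), ?_⟩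
    rw [hCg, conjBy_conjBy]
    simp [mul_assoc]
  · rintro ⟨x, hx, rfl⟩
    refine ⟨x * g, Subgroup.mul_mem _ hx hg, ?_⟩
    rw [hCg, conjBy_conjBy]

lemma inf_conj (o : Opp S A B C D) {β : G} (hβ : β ∈ B) (hβ1 : β ≠ 1) :
    A ⊓ Cfsg.conjBy A β = ⊥ := by
  rw [eq_bot_iff]
  intro x hx
  obtain ⟨hxA, hxβ⟩ := Subgroup.mem_inf.mp hx
  have ha : β⁻¹ * x * β ∈ A := mem_conjBy.mp hxβ
  rw [Subgroup.mem_bot]
  -- ⁅β, a⁆ = x * a⁻¹ ∈ A ⊓ C
  have h1 : ⁅β, β⁻¹ * x * β⁆ ∈ A ⊓ C := by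
    refine Subgroup.mem_inf.mpr ⟨?_, ?_⟩
    · have e : ⁅β, β⁻¹ * x * β⁆ = x * (β⁻¹ * x * β)⁻¹ := by
        rw [commutatorElement_def]; group
      rw [e]
      exact A.mul_mem hxA (A.inv_mem ha)
    · rw [← o.eAB, Subgroup.commutator_comm]
      exact Subgroup.commutator_mem_commutator hβ ha
  rw [o.inf_eq_bot, Subgroup.mem_bot, commutatorElement_eq_one_iff_mul_comm] at h1
  have h2 := o.inj hβ hβ1 ha h1
  have : x = β * (β⁻¹ * x * β) * β⁻¹ := by group
  rw [this, h2]; group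

lemma partition (o : Opp S A B C D) : Cfsg.IsSubgroupPartition (A ⊔ C) (omega A B C) := by
  refine ⟨?_, ?_, ?_⟩
  · rintro E (⟨b, hb, rfl⟩ | hE)
    · have := Cfsg.Agent.S5029.conj_le (A := A) (B := B) b hb
      rwa [o.eAB] at this
    · rw [Set.mem_singleton_iff] at hE
      rw [hE]; exact le_sup_right
  · intro x hx _
    have hx' : x ∈ A ⊔ ⁅A, B⁆ := by rw [o.eAB]; exact hx
    rcases Cfsg.Agent.S5029.cover o.hAB hx' with h | ⟨b, hb, h⟩
    · exact ⟨C, Or.inr rfl, by rwa [o.eAB] at h⟩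
    · exact ⟨_, Or.inl ⟨b, hb, rfl⟩, h⟩
  · have hAC : ∀ b ∈ B, Cfsg.conjBy A b ⊓ C = ⊥ := by
      intro b hb
      have hCb : Cfsg.conjBy C b = C := by
        rw [conjBy_eq_self_iff]
        apply Subgroup.centralizer_le_normalizer _
        rw [Subgroup.mem_centralizer_iff]
        intro c hc
        exact (mul_comm_of_commutator_eq_bot o.BC hb hc).symm
      conv_lhs => rw [← hCb]
      rw [← conjBy_inf, o.inf_eq_bot, conjBy_bot]
    rintro E₁ (⟨b, hb, rfl⟩ | hE₁) E₂ (⟨b', hb', rfl⟩ | hE₂) hne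
    · simp only at hne ⊢
      have hββ : b⁻¹ * b' ≠ 1 := by
        intro h
        apply hne
        have : b' = b := by
          have := congrArg (fun t => b * t) h
          simpa using this
        rw [this]
      have e : Cfsg.conjBy A b' = Cfsg.conjBy (Cfsg.conjBy A (b⁻¹ * b')) b := by
        rw [conjBy_conjBy]; simp
      rw [e, ← conjBy_inf, o.inf_conj (B.mul_mem (B.inv_mem hb) hb') hββ, conjBy_bot]
    · rw [Set.mem_singleton_iff] at hE₂
      rw [hE₂]; exact hAC b hb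
    · rw [Set.mem_singleton_iff] at hE₁
      rw [hE₁, inf_comm]; exact hAC b' hb'
    · rw [Set.mem_singleton_iff] at hE₁ hE₂
      exact absurd (hE₁.trans hE₂.symm) hne

/-- An element of `⟨B, D⟩` centralizing `A ⊔ C` normalizes `B`. -/
lemma conj_B_eq (o : Opp S A B C D) {x : G} (hx : x ∈ B ⊔ D)
    (hxN : x ∈ Subgroup.centralizer ((A ⊔ C : Subgroup G) : Set G)) : Cfsg.conjBy B x = B := by
  by_contra hne
  have hB' : Cfsg.conjBy B x ∈ Cfsg.unipotentSubgroups B D := ⟨x, hx, rfl⟩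
  obtain ⟨_, hsup⟩ := RankOne.pair_of_mem_unipotentSubgroups o.hBD hB'
    RankOne.left_mem_unipotentSubgroups hne
  have hxC : ∀ c ∈ C, c * x = x * c := fun c hc =>
    Subgroup.mem_centralizer_iff.mp hxN c (Subgroup.mem_sup_right hc)
  have hle : Cfsg.conjBy B x ⊔ B ≤ Subgroup.centralizer (C : Set G) := by
    refine sup_le ?_ ?_
    · intro y hy
      have hb : x⁻¹ * y * x ∈ B := mem_conjBy.mp hy
      rw [Subgroup.mem_centralizer_iff]
      intro c hc
      have h1 := hxC c hc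
      have h2 : (x⁻¹ * y * x) * c = c * (x⁻¹ * y * x) :=
        mul_comm_of_commutator_eq_bot o.BC hb hc
      have h3 : c * x⁻¹ = x⁻¹ * c := by
        have : x⁻¹ * (c * x) * x⁻¹ = x⁻¹ * (x * c) * x⁻¹ := by rw [h1]
        simpa [mul_assoc] using this.symm
      calc c * y = c * (x * (x⁻¹ * y * x) * x⁻¹) := by group
        _ = (c * x) * (x⁻¹ * y * x) * x⁻¹ := by group
        _ = x * (c * (x⁻¹ * y * x)) * x⁻¹ := by rw [h1]; group
        _ = x * ((x⁻¹ * y * x) * c) * x⁻¹ := by rw [h2]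
        _ = y * x * (c * x⁻¹) := by group
        _ = y * x * (x⁻¹ * c) := by rw [h3]
        _ = y * c := by group
    · intro b hb
      rw [Subgroup.mem_centralizer_iff]
      intro c hc
      exact (mul_comm_of_commutator_eq_bot o.BC hb hc).symm
  rw [hsup] at hle
  have hCD : ⁅C, D⁆ = ⊥ := by
    rw [Subgroup.commutator_comm, Subgroup.commutator_eq_bot_iff_le_centralizer]
    exact le_sup_right.trans hle
  rw [o.eCD] at hCD
  exact o.hS.ne_bot A o.hA hCD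

/-- An element of `⟨B, D⟩` centralizing `A ⊔ C` centralizes `B`. -/
lemma central_B (o : Opp S A B C D) {x : G} (hx : x ∈ B ⊔ D)
    (hxN : x ∈ Subgroup.centralizer ((A ⊔ C : Subgroup G) : Set G)) :
    ∀ b ∈ B, x * b = b * x := by
  intro b hb
  have hconj := o.conj_B_eq hx hxN
  have hz : x * b * x⁻¹ * b⁻¹ ∈ B := by
    have h1 : x * b * x⁻¹ ∈ Cfsg.conjBy B x := conj_mem_conjBy hb
    rw [hconj] at h1
    exact B.mul_mem h1 (B.inv_mem hb)
  have hxn : ∀ n ∈ A ⊔ C, n * x = x * n := fun n hn =>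
    Subgroup.mem_centralizer_iff.mp hxN n hn
  by_contra hne
  have hz1 : x * b * x⁻¹ * b⁻¹ ≠ 1 := by
    intro h
    apply hne
    have : x * b = (x * b * x⁻¹ * b⁻¹) * (b * x) := by group
    rw [this, h, one_mul]
  obtain ⟨a, ha1⟩ := (Subgroup.ne_bot_iff_exists_ne_one).mp (o.hS.ne_bot A o.hA)
  have ha : (a : G) ∈ A := a.2
  have ha1' : (a : G) ≠ 1 := by simpa using ha1
  apply ha1'
  apply o.inj hz hz1 ha
  -- z commutes with a
  have hn' : b⁻¹ * (a : G) * b ∈ A ⊔ C := by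
    have := o.conjN_B (B.inv_mem hb) (conj_mem_conjBy (Subgroup.mem_sup_left ha : (a : G) ∈ A ⊔ C))
    simpa using this
  have h1 := hxn _ hn'
  have h2 := hxn _ (Subgroup.mem_sup_left ha : (a : G) ∈ A ⊔ C)
  have h1' : x⁻¹ * (b⁻¹ * (a : G) * b) = (b⁻¹ * (a : G) * b) * x⁻¹ := by
    have : x⁻¹ * ((b⁻¹ * (a : G) * b) * x) * x⁻¹ = x⁻¹ * (x * (b⁻¹ * (a : G) * b)) * x⁻¹ := by
      rw [h1]
    simpa [mul_assoc] using this
  calc x * b * x⁻¹ * b⁻¹ * (a : G) = x * b * (x⁻¹ * (b⁻¹ * (a : G) * b)) * b⁻¹ := by group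
    _ = x * b * ((b⁻¹ * (a : G) * b) * x⁻¹) * b⁻¹ := by rw [h1']
    _ = (x * (a : G)) * b * x⁻¹ * b⁻¹ := by group
    _ = ((a : G) * x) * b * x⁻¹ * b⁻¹ := by rw [h2]
    _ = (a : G) * (x * b * x⁻¹ * b⁻¹) := by group

lemma central (o : Opp S A B C D) {x : G} (hx : x ∈ B ⊔ D)
    (hxN : x ∈ Subgroup.centralizer ((A ⊔ C : Subgroup G) : Set G)) :
    ∀ y ∈ B ⊔ D, x * y = y * x := by
  have hB := o.central_B hx hxN
  have hx' : x ∈ D ⊔ B := by rwa [sup_comm]
  have hxN' : x ∈ Subgroup.centralizer ((C ⊔ A : Subgroup G) : Set G) := by rwa [sup_comm]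
  have hD := o.symm.central_B hx' hxN'
  have hle : B ⊔ D ≤ Subgroup.centralizer ({x} : Set G) := by
    refine sup_le ?_ ?_
    · intro b hb
      rw [Subgroup.mem_centralizer_iff]
      rintro m rfl
      exact hB b hb
    · intro d hd
      rw [Subgroup.mem_centralizer_iff]
      rintro m rfl
      exact hD d hd
  intro y hy
  exact Subgroup.mem_centralizer_iff.mp (hle hy) x rfl

end Opp

end

/-- Let S be a set of abstract root subgroups of G, A, B ∈ S with C = ⁅A, B⁆ ∈ S, and D ∈ S with ⁅D, C⁆ = A. Put X = ⟨B, D⟩ and N = AC. Then B, D form a rank one pair; the conjugates of A under X are the conjugates of C under X, namely the conjugates of A by elements of B together with C, equally the conjugates of C by elements of D together with A, and they partition N; and the centralizer of N in X is central in X. -/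
theorem result {G : Type*} [Group G] {S : Set (Subgroup G)} (hS : Cfsg.IsRootSubgroupSet S)
    {A B D : Subgroup G} (hA : A ∈ S) (hB : B ∈ S) (hC : ⁅A, B⁆ ∈ S) (hD : D ∈ S) (hDC : ⁅D, ⁅A, B⁆⁆ = A) :
    Cfsg.IsRankOnePair B D ∧
    {E | ∃ x ∈ B ⊔ D, E = Cfsg.conjBy A x} = {E | ∃ x ∈ B ⊔ D, E = Cfsg.conjBy ⁅A, B⁆ x} ∧
    {E | ∃ x ∈ B ⊔ D, E = Cfsg.conjBy A x} = (fun b : G => Cfsg.conjBy A b) '' (B : Set G) ∪ {⁅A, B⁆} ∧
    {E | ∃ x ∈ B ⊔ D, E = Cfsg.conjBy A x} = (fun d : G => Cfsg.conjBy ⁅A, B⁆ d) '' (D : Set G) ∪ {A} ∧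
    Cfsg.IsSubgroupPartition (A ⊔ ⁅A, B⁆) {E | ∃ x ∈ B ⊔ D, E = Cfsg.conjBy A x} ∧
    ∀ x ∈ (B ⊔ D) ⊓ Subgroup.centralizer ((A ⊔ ⁅A, B⁆ : Subgroup G) : Set G), ∀ y ∈ B ⊔ D, x * y = y * x := by
  have hBD := rankOne_BD hS hA hB hC hD hDC
  have hCDeq : ⁅⁅A, B⁆, D⁆ = A := by rw [Subgroup.commutator_comm]; exact hDC
  have o : Opp S A B ⁅A, B⁆ D :=
    ⟨hS, hA, hB, hC, hD, RootSet.commCase_of_commutator_mem hS hA hB hC,
      RootSet.commCase_of_commutator_mem hS hC hD (by rw [hCDeq]; exact hA), rfl, hCDeq, hBD⟩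
  refine ⟨hBD, o.orbit_eq', o.orbit_eq, ?_, ?_, ?_⟩
  · rw [o.orbit_eq, o.omega_eq]; rfl
  · rw [o.orbit_eq]; exact o.partition
  · intro x hx y hy
    obtain ⟨hx1, hx2⟩ := Subgroup.mem_inf.mp hx
    exact o.central hx1 hx2 y hy

end Cfsg.Agent.S5036
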