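import Cfsg.Statements.S5034
import Cfsg.Agent.Lib.Helper83.RootClass
import Cfsg.Agent.S5036

set_option autoImplicit false
open Cfsg

namespace Cfsg.Agent.S5034

open Cfsg.Agent.Lib.Helper83
open scoped commutatorElement

section
variable {G : Type*} [Group G]

/-- The group computation behind the special relation: `b⁻¹ a b` and `a⁻¹ b⁻¹ a` conjugate `f` to
the same element. -/
lemma conj_eq_of_relations {a b f α : G} (hα : α = a * f * a⁻¹ * f⁻¹) (h1 : a * α = α * a)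
    (h2 : f * α = α * f) (h3 : b * f = f * b) (h4 : b⁻¹ * α * b = f⁻¹ * α) :
    (b⁻¹ * a * b) * f * (b⁻¹ * a * b)⁻¹ = (a⁻¹ * b⁻¹ * a) * f * (a⁻¹ * b⁻¹ * a)⁻¹ := by
  have e1 : a * f * a⁻¹ = α * f := by rw [hα]; group
  have e2 : b * f * b⁻¹ = f := by rw [h3]; group
  have e2' : b⁻¹ * f * b = f := by
    have : b⁻¹ * (b * f) * b⁻¹ * b = b⁻¹ * (f * b) * b⁻¹ * b := by rw [h3]
    have h : f = b⁻¹ * f * b := by simpa [mul_assoc] using this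
    exact h.symm
  have e3 : f⁻¹ * α * f = α := by
    calc f⁻¹ * α * f = f⁻¹ * (α * f) := by group
      _ = f⁻¹ * (f * α) := by rw [h2]
      _ = α := by group
  have e4 : a⁻¹ * α * a = α := by
    calc a⁻¹ * α * a = a⁻¹ * (α * a) := by group
      _ = a⁻¹ * (a * α) := by rw [h1]
      _ = α := by group
  have e5 : b⁻¹ * (α * f) * b = α := by
    calc b⁻¹ * (α * f) * b = (b⁻¹ * α * b) * (b⁻¹ * f * b) := by group
      _ = (f⁻¹ * α) * f := by rw [h4, e2']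
      _ = f⁻¹ * α * f := by group
      _ = α := e3
  have hL : (b⁻¹ * a * b) * f * (b⁻¹ * a * b)⁻¹ = α := by
    calc (b⁻¹ * a * b) * f * (b⁻¹ * a * b)⁻¹ = b⁻¹ * (a * (b * f * b⁻¹) * a⁻¹) * b := by group
      _ = b⁻¹ * (a * f * a⁻¹) * b := by rw [e2]
      _ = b⁻¹ * (α * f) * b := by rw [e1]
      _ = α := e5
  have hR : (a⁻¹ * b⁻¹ * a) * f * (a⁻¹ * b⁻¹ * a)⁻¹ = α := by
    calc (a⁻¹ * b⁻¹ * a) * f * (a⁻¹ * b⁻¹ * a)⁻¹ = a⁻¹ * (b⁻¹ * (a * f * a⁻¹) * b) * a := by group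
      _ = a⁻¹ * (b⁻¹ * (α * f) * b) * a := by rw [e1]
      _ = a⁻¹ * α * a := by rw [e5]
      _ = α := e4
  rw [hL, hR]

end

/-- Let S be a non-degenerate class of abstract root subgroups of G, A ∈ S and B a rank one partner of A. Then some line partner C of A has ⁅B, C⁆ ∈ S, and the rank one pair A, B is special. -/
theorem result {G : Type*} [Group G] {S : Set (Subgroup G)} (hS : Cfsg.IsRootSubgroupClass S) (hnd : Cfsg.IsNondegenerateRootSet S)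
    {A B : Subgroup G} (hA : A ∈ S) (hB : B ∈ Cfsg.rankOnePartners S A) :
    (∃ C ∈ Cfsg.linePartners S A, C ∈ Cfsg.commutatorPartners S B) ∧ Cfsg.IsSpecialRankOnePair A B := by
  obtain ⟨hBS, hAB⟩ := hB
  obtain ⟨C, hCline, hCB, hAF, hK⟩ := RootClass.exists_linePartner_commCase hS hnd hA hBS hAB
  have hCS : C ∈ S := hCline.1.1
  have hFS : ⁅C, B⁆ ∈ S := hCB.1
  refine ⟨⟨C, hCline, hCS, by rw [Subgroup.commutator_comm]; exact hFS⟩, hAB, ?_⟩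
  intro a ha ha1 b hb hb1 hE
  have hFA : ⁅⁅C, B⁆, A⁆ = C := by rw [Subgroup.commutator_comm]; exact hK
  have o : Cfsg.Agent.S5036.Opp S C B ⁅C, B⁆ A :=
    ⟨hS.1, hCS, hBS, hFS, hA, hCB, RootSet.commCase_symm hAF, rfl, hFA,
      Cfsg.RankOnePair_symm hAB⟩
  have hline := o.conj_eq hb ha hE.symm
  -- a non-identity element of F
  obtain ⟨f, hf, hf1'⟩ : ∃ f : G, f ∈ ⁅C, B⁆ ∧ f ≠ 1 := by
    obtain ⟨f, hf1⟩ := (Subgroup.ne_bot_iff_exists_ne_one).mp (hS.1.ne_bot _ hFS)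
    exact ⟨f, f.2, by simpa using hf1⟩
  obtain ⟨α, hαdef⟩ : ∃ α : G, α = a * f * a⁻¹ * f⁻¹ := ⟨_, rfl⟩
  have hαC : α ∈ C := by
    have := Subgroup.commutator_mem_commutator ha hf
    rw [commutatorElement_def, hK] at this
    rw [hαdef]
    exact this
  have h1 : a * α = α * a := (mul_comm_of_commutator_eq_bot o.AD hαC ha).symm
  have h2 : f * α = α * f := (mul_comm_of_commutator_eq_bot o.AC hαC hf).symm
  have h3 : b * f = f * b := mul_comm_of_commutator_eq_bot o.BC hb hf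
  -- the element x = a⁻¹ f a of the common line member
  have hx : a⁻¹ * f * a ∈ Cfsg.conjBy ⁅C, B⁆ a⁻¹ := by
    have := conj_mem_conjBy (A := ⁅C, B⁆) (g := a⁻¹) hf
    rw [inv_inv] at this
    exact this
  rw [← hline, mem_conjBy, inv_inv] at hx
  -- c' = b x b⁻¹ ∈ C
  obtain ⟨c', hc'def⟩ : ∃ c' : G, c' = b * (a⁻¹ * f * a) * b⁻¹ := ⟨_, rfl⟩
  rw [← hc'def] at hx
  have hxα : a⁻¹ * f * a = α⁻¹ * f := by
    have e : a * (α⁻¹ * f) * a⁻¹ = f := by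
      have h1' : a * α⁻¹ = α⁻¹ * a := by
        have : α⁻¹ * (a * α) * α⁻¹ = α⁻¹ * (α * a) * α⁻¹ := by rw [h1]
        have h' : α⁻¹ * a = a * α⁻¹ := by simpa [mul_assoc] using this
        exact h'.symm
      calc a * (α⁻¹ * f) * a⁻¹ = (a * α⁻¹) * f * a⁻¹ := by group
        _ = (α⁻¹ * a) * f * a⁻¹ := by rw [h1']
        _ = α⁻¹ * (a * f * a⁻¹ * f⁻¹) * f := by group
        _ = α⁻¹ * α * f := by rw [← hαdef]
        _ = f := by group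
    calc a⁻¹ * f * a = a⁻¹ * (a * (α⁻¹ * f) * a⁻¹) * a := by rw [e]
      _ = α⁻¹ * f := by group
  have hφ : c'⁻¹ * b⁻¹ * c' * b ∈ ⁅C, B⁆ := by
    have := Subgroup.commutator_mem_commutator (C.inv_mem hx) (B.inv_mem hb)
    rw [commutatorElement_def] at this
    simpa using this
  have hdecomp : α⁻¹ * f = c' * (c'⁻¹ * b⁻¹ * c' * b) := by
    rw [← hxα, hc'def]; group
  -- uniqueness of the decomposition
  have hinf : c'⁻¹ * α⁻¹ ∈ C ⊓ ⁅C, B⁆ := by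
    refine Subgroup.mem_inf.mpr ⟨C.mul_mem (C.inv_mem hx) (C.inv_mem hαC), ?_⟩
    have e : c'⁻¹ * α⁻¹ = (c'⁻¹ * b⁻¹ * c' * b) * f⁻¹ := by
      have : c'⁻¹ * (α⁻¹ * f) * f⁻¹ =
          c'⁻¹ * (c' * (c'⁻¹ * b⁻¹ * c' * b)) * f⁻¹ := by rw [hdecomp]
      calc c'⁻¹ * α⁻¹ = c'⁻¹ * (α⁻¹ * f) * f⁻¹ := by group
        _ = c'⁻¹ * (c' * (c'⁻¹ * b⁻¹ * c' * b)) * f⁻¹ := this
        _ = _ := by group
    rw [e]
    exact Subgroup.mul_mem _ hφ (Subgroup.inv_mem _ hf)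
  rw [o.inf_eq_bot, Subgroup.mem_bot] at hinf
  have hc'α : c' = α⁻¹ := by
    have : c'⁻¹ = α := by
      have := eq_inv_of_mul_eq_one_left hinf
      simpa using this
    rw [← this, inv_inv]
  have hfφ : f = α * b⁻¹ * α⁻¹ * b := by
    have h5 := hdecomp
    rw [hc'α, inv_inv] at h5
    have : f = α * (α⁻¹ * f) := by group
    rw [this, h5]; group
  have h4 : b⁻¹ * α * b = f⁻¹ * α := by
    have : f⁻¹ = b⁻¹ * α * b * α⁻¹ := by rw [hfφ]; group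
    rw [this]; group
  have hconj := conj_eq_of_relations hαdef h1 h2 h3 h4
  -- w = v⁻¹ u commutes with f and lies in E
  have hu : b⁻¹ * a * b ∈ Cfsg.conjBy A b⁻¹ := by
    have := conj_mem_conjBy (A := A) (g := b⁻¹) ha
    simpa using this
  have hv : a⁻¹ * b⁻¹ * a ∈ Cfsg.conjBy A b⁻¹ := by
    rw [hE]
    have := conj_mem_conjBy (A := B) (g := a⁻¹) (B.inv_mem hb)
    simpa using this
  have hw : (a⁻¹ * b⁻¹ * a)⁻¹ * (b⁻¹ * a * b) ∈ Cfsg.conjBy A b⁻¹ :=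
    Subgroup.mul_mem _ (Subgroup.inv_mem _ hv) hu
  have hfw : f * ((a⁻¹ * b⁻¹ * a)⁻¹ * (b⁻¹ * a * b)) =
      ((a⁻¹ * b⁻¹ * a)⁻¹ * (b⁻¹ * a * b)) * f := by
    have e : f = (a⁻¹ * b⁻¹ * a)⁻¹ * ((b⁻¹ * a * b) * f * (b⁻¹ * a * b)⁻¹) *
        (a⁻¹ * b⁻¹ * a) := by
      rw [hconj]; group
    calc f * ((a⁻¹ * b⁻¹ * a)⁻¹ * (b⁻¹ * a * b))
        = ((a⁻¹ * b⁻¹ * a)⁻¹ * ((b⁻¹ * a * b) * f * (b⁻¹ * a * b)⁻¹) *
          (a⁻¹ * b⁻¹ * a)) * ((a⁻¹ * b⁻¹ * a)⁻¹ * (b⁻¹ * a * b)) := by rw [← e]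
      _ = _ := by group
  -- (F, E) is in the commutator case
  have hES : Cfsg.conjBy A b⁻¹ ∈ S := hS.1.conj_mem A hA b⁻¹
  have hFE : Cfsg.RootCommutatorCase S ⁅C, B⁆ (Cfsg.conjBy A b⁻¹) := by
    apply RootSet.commCase_of_commutator_mem hS.1 hFS hES
    have hFb : Cfsg.conjBy ⁅C, B⁆ b⁻¹ = ⁅C, B⁆ :=
      conjBy_commutator_of_mem_sup C B (Subgroup.mem_sup_right (B.inv_mem hb))
    have : ⁅⁅C, B⁆, Cfsg.conjBy A b⁻¹⁆ = Cfsg.conjBy C b⁻¹ := by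
      conv_lhs => rw [← hFb]
      rw [← conjBy_commutator, hFA]
    rw [this]
    exact hS.1.conj_mem C hCS b⁻¹
  obtain ⟨P, hP, hFP⟩ := RootClass.exists_partner hS hnd hFS
  have hw1 := RootSet.eq_one_of_commute hS.1 hFS hFE hP hFP hf hf1' hw hfw
  have : b⁻¹ * a * b = (a⁻¹ * b⁻¹ * a) * ((a⁻¹ * b⁻¹ * a)⁻¹ * (b⁻¹ * a * b)) := by group
  rw [this, hw1, mul_one]

end Cfsg.Agent.S5034
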