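import Cfsg.Statements.S5033
import Cfsg.Agent.Lib.Helper83.SROPerfect
import Cfsg.Agent.Lib.Helper83.NilSeries
import Cfsg.Agent.S5032
import Cfsg.Agent.S5034
import Cfsg.Agent.S5035

set_option autoImplicit false
open Cfsg

namespace Cfsg.Agent.S5033

open Cfsg.Agent.Lib.Helper83
open Cfsg.Agent.S5035 (map_conjBy)

section
variable {G : Type*} [Group G] {S : Set (Subgroup G)}

/-- A connected family is a single conjugacy class. -/
lemma isClass (h2 : ∃ A ∈ S, ∃ B ∈ S, A ≠ B) (h1 : IsConnectedFamily (FAdj S) S) :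
    IsConjClassOfSubgroups S := by
  obtain ⟨A₀, hA₀, _⟩ := h2
  exact ⟨⟨A₀, hA₀⟩, fun A hA B hB => Cfsg.Agent.S5032.conj_of_rtg (h1 A hA B hB)⟩

/-- Every member has a rank one partner. -/
lemma exists_partner (h2 : ∃ A ∈ S, ∃ B ∈ S, A ≠ B) (h1 : IsConnectedFamily (FAdj S) S)
    {A : Subgroup G} (hA : A ∈ S) : ∃ B ∈ S, IsRankOnePair A B := by
  obtain ⟨A₀, hA₀, B₀, hB₀, hne⟩ := h2
  have : ∃ C ∈ S, A ≠ C := by
    by_cases h : A = A₀
    · exact ⟨B₀, hB₀, h ▸ hne⟩
    · exact ⟨A₀, hA₀, h⟩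
  obtain ⟨C, hC, hAC⟩ := this
  rcases Relation.ReflTransGen.cases_head (h1 A hA C hC) with h | ⟨D, hAD, _⟩
  · exact absurd h hAC
  · exact ⟨D, hAD.2.1, hAD.2.2⟩

/-- A normal subgroup containing a member of a generating conjugacy class is everything. -/
lemma eq_top_of_member_le (hS : IsRootSubgroupSet S) (hcl : IsConjClassOfSubgroups S)
    {N : Subgroup G} (hN : N.Normal) {E : Subgroup G} (hE : E ∈ S) (hEN : E ≤ N) : N = ⊤ := by
  rw [eq_top_iff, ← hS.generates]
  refine iSup₂_le fun A hA => ?_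
  obtain ⟨g, rfl⟩ := hcl.2 E hE A hA
  intro x hx
  rw [mem_conjBy] at hx
  have := hN.conj_mem _ (hEN hx) g
  have e : g * (g⁻¹ * x * g) * g⁻¹ = x := by group
  rwa [e] at this

lemma commutator_self_eq_bot (hS : IsRootSubgroupSet S) {A : Subgroup G} (hA : A ∈ S) :
    ⁅A, A⁆ = ⊥ := by
  have := hS.commutative A hA
  exact commutator_eq_bot_of_forall_mul_comm fun x hx y hy => setLike_mul_comm hx hy

/-- Not degenerate implies non-degenerate (given a rank one pair). -/
lemma nondegenerate_of_not_degenerate (hS : IsRootSubgroupSet S)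
    (hr : ∃ A ∈ S, ∃ B ∈ S, IsRankOnePair A B) (hd : ¬ IsDegenerateRootSet S) :
    IsNondegenerateRootSet S := by
  unfold IsDegenerateRootSet at hd
  push Not at hd
  obtain ⟨A, hA, B, hB, hc⟩ := hd
  refine ⟨?_, hr, ⟨A, hA, B, hB, hc⟩⟩
  have hcen : ∀ D : Subgroup G, D ≤ A ⊔ B → ⁅⁅A, B⁆, D⁆ = ⊥ := by
    intro D hD
    exact commutator_eq_bot_of_forall_mul_comm fun c hc' x hx => hc.2.1 c hc' x (hD hx)
  by_cases hEA : ⁅A, B⁆ = A
  · have hEB : ⁅A, B⁆ ≠ B := by
      intro hEB
      have hAB : A = B := hEA.symm.trans hEB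
      have h0 : ⁅A, B⁆ = ⊥ := by rw [← hAB]; exact commutator_self_eq_bot hS hA
      exact hS.ne_bot _ hc.1 h0
    exact ⟨⁅A, B⁆, hc.1, B, hB, hEB, hcen B le_sup_right⟩
  · exact ⟨⁅A, B⁆, hc.1, A, hA, hEA, hcen A le_sup_left⟩

/-- `G` is perfect. -/
lemma commutator_eq_top (hS : IsRootSubgroupSet S) (h2 : ∃ A ∈ S, ∃ B ∈ S, A ≠ B)
    (h1 : IsConnectedFamily (FAdj S) S)
    (h3 : IsDegenerateRootSet S → ∀ A ∈ S, 3 < ENat.card A)
    (h4 : ∀ A ∈ S, ∀ B ∈ rankOnePartners S A, IsSpecialRankOnePair A B) :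
    commutator G = ⊤ := by
  have hcl := isClass h2 h1
  have hn : (commutator G).Normal := inferInstance
  by_cases hdeg : IsDegenerateRootSet S
  · obtain ⟨A, hA, _⟩ := h2
    obtain ⟨B, hB, hAB⟩ := exists_partner ⟨A, hA, ‹_›⟩ h1 hA
    have hsetup := SRO.Setup.of_special (h4 A hA B ⟨hB, hAB⟩)
      ⟨hS.commutative A hA, hS.commutative B hB⟩
    have hle := SRO.left_le_commutator hsetup (h3 hdeg A hA)
    refine eq_top_of_member_le hS hcl hn hA (hle.trans ?_)
    rw [commutator_def]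
    exact Subgroup.commutator_mono le_top le_top
  · unfold IsDegenerateRootSet at hdeg
    push Not at hdeg
    obtain ⟨A, hA, B, hB, hc⟩ := hdeg
    refine eq_top_of_member_le hS hcl hn hc.1 ?_
    rw [commutator_def]
    exact Subgroup.commutator_mono le_top le_top

/-! ### Normal subgroups -/

lemma map_mk_eq_bot_iff {N : Subgroup G} [N.Normal] {A : Subgroup G} :
    A.map (QuotientGroup.mk' N) = ⊥ ↔ A ≤ N := by
  rw [Subgroup.map_eq_bot_iff, QuotientGroup.ker_mk']

/-- The hypotheses of the theorem, bundled. -/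
structure Hyp (S : Set (Subgroup G)) : Prop where
  hS : IsRootSubgroupSet S
  h2 : ∃ A ∈ S, ∃ B ∈ S, A ≠ B
  h1 : IsConnectedFamily (FAdj S) S
  h2' : ∀ A ∈ S, ∀ C ∈ S, A ≠ C → centralizingMembers S A ≠ centralizingMembers S C
  h3 : IsDegenerateRootSet S → ∀ A ∈ S, 3 < ENat.card A
  h4 : ∀ A ∈ S, ∀ B ∈ rankOnePartners S A, IsSpecialRankOnePair A B

/-- Claim 1: a rank one pair has different images modulo a proper normal subgroup. -/
lemma map_ne_of_rankOne (H : Hyp S) {N : Subgroup G} [hN : N.Normal] (hNtop : N ≠ ⊤)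
    {A C : Subgroup G} (hA : A ∈ S) (hC : C ∈ S) (hAC : IsRankOnePair A C) :
    A.map (QuotientGroup.mk' N) ≠ C.map (QuotientGroup.mk' N) := by
  intro heq
  have hcl := isClass H.h2 H.h1
  have hno : ∀ E ∈ S, ¬ E ≤ N := fun E hE hEN => hNtop (eq_top_of_member_le H.hS hcl hN hE hEN)
  have hAA : ⁅A.map (QuotientGroup.mk' N), A.map (QuotientGroup.mk' N)⁆ = ⊥ := by
    rw [← Subgroup.map_commutator, commutator_self_eq_bot H.hS hA, Subgroup.map_bot]
  by_cases hdeg : IsDegenerateRootSet S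
  · have hsetup := SRO.Setup.of_special (H.h4 A hA C ⟨hC, hAC⟩)
      ⟨H.hS.commutative A hA, H.hS.commutative C hC⟩
    have hle := SRO.left_le_commutator hsetup (H.h3 hdeg A hA)
    have h5 : A.map (QuotientGroup.mk' N) ≤ ⊥ := by
      calc A.map (QuotientGroup.mk' N) ≤ (⁅A ⊔ C, A ⊔ C⁆).map (QuotientGroup.mk' N) :=
            Subgroup.map_mono hle
        _ = ⊥ := by
            rw [Subgroup.map_commutator, Subgroup.map_sup, ← heq, sup_idem, hAA]
    exact hno A hA (map_mk_eq_bot_iff.mp (le_bot_iff.mp h5))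
  · have hnd := nondegenerate_of_not_degenerate H.hS ⟨A, hA, C, hC, hAC⟩ hdeg
    obtain ⟨⟨E, hE1, hE2⟩, _⟩ := Cfsg.Agent.S5034.result ⟨H.hS, hcl⟩ hnd hA
      (show C ∈ rankOnePartners S A from ⟨hC, hAC⟩)
    -- `[A, E] = 1` and `[C, E] ∈ S`
    have hAE : ⁅A, E⁆ = ⊥ := hE1.1.2.2
    have hCE : ⁅C, E⁆ ∈ S := hE2.2
    apply hno _ hCE
    rw [← map_mk_eq_bot_iff, Subgroup.map_commutator, ← heq, ← Subgroup.map_commutator, hAE,
      Subgroup.map_bot]

/-- If the images of `D` and `C` commute and `(D, C)` is a rank one pair, the images are equal. -/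
lemma map_eq_of_rankOne_of_commute {H' : Type*} [Group H'] (f : G →* H') {D C : Subgroup G}
    (hDC : IsRankOnePair D C) (hcomm : ⁅D.map f, C.map f⁆ = ⊥) : D.map f = C.map f := by
  obtain ⟨d, hd, hd1⟩ := RankOne.exists_ne_one_left hDC
  obtain ⟨c, hc, _, heq⟩ := hDC.cond_left d hd hd1
  have h1 := congrArg (Subgroup.map f) heq
  rw [map_conjBy, map_conjBy] at h1
  have hcD : conjBy (D.map f) (f c⁻¹) = D.map f := by
    rw [conjBy_eq_self_iff]
    apply Subgroup.centralizer_le_normalizer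
    rw [Subgroup.commutator_comm, Subgroup.commutator_eq_bot_iff_le_centralizer] at hcomm
    exact hcomm (Subgroup.mem_map_of_mem f (C.inv_mem hc))
  have hdC : conjBy (C.map f) (f d⁻¹) = C.map f := by
    rw [conjBy_eq_self_iff]
    apply Subgroup.centralizer_le_normalizer
    rw [Subgroup.commutator_eq_bot_iff_le_centralizer] at hcomm
    exact hcomm (Subgroup.mem_map_of_mem f (D.inv_mem hd))
  rw [hcD, hdC] at h1
  exact h1

/-- Half of the comparison of centralizing members. -/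
lemma centralizing_of_map_eq (H : Hyp S) {N : Subgroup G} [hN : N.Normal] (hNtop : N ≠ ⊤)
    {A C : Subgroup G} (hC : C ∈ S)
    (heq : A.map (QuotientGroup.mk' N) = C.map (QuotientGroup.mk' N)) {D : Subgroup G}
    (hD : D ∈ centralizingMembers S A) : D ∈ centralizingMembers S C := by
  have hcl := isClass H.h2 H.h1
  have hno : ∀ E ∈ S, ¬ E ≤ N := fun E hE hEN => hNtop (eq_top_of_member_le H.hS hcl hN hE hEN)
  obtain ⟨hDS, hDA⟩ := hD
  refine ⟨hDS, ?_⟩
  rw [← Subgroup.commutator_eq_bot_iff_le_centralizer] at hDA ⊢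
  have hDCbar : ⁅D.map (QuotientGroup.mk' N), C.map (QuotientGroup.mk' N)⁆ = ⊥ := by
    rw [← heq, ← Subgroup.map_commutator, hDA, Subgroup.map_bot]
  rcases H.hS.pair D hDS C hC with h | h | h
  · exact h
  · exact absurd (map_eq_of_rankOne_of_commute _ h hDCbar) (map_ne_of_rankOne H hNtop hDS hC h)
  · exfalso
    apply hno _ h.1
    rw [← map_mk_eq_bot_iff, Subgroup.map_commutator, hDCbar]

/-- Claim 2: the members of `S` have pairwise different images modulo a proper normal subgroup. -/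
lemma map_injOn (H : Hyp S) {N : Subgroup G} [hN : N.Normal] (hNtop : N ≠ ⊤)
    {A C : Subgroup G} (hA : A ∈ S) (hC : C ∈ S)
    (heq : A.map (QuotientGroup.mk' N) = C.map (QuotientGroup.mk' N)) : A = C := by
  by_contra hne
  have hcl := isClass H.h2 H.h1
  have hno : ∀ E ∈ S, ¬ E ≤ N := fun E hE hEN => hNtop (eq_top_of_member_le H.hS hcl hN hE hEN)
  have hAA : ⁅A.map (QuotientGroup.mk' N), A.map (QuotientGroup.mk' N)⁆ = ⊥ := by
    rw [← Subgroup.map_commutator, commutator_self_eq_bot H.hS hA, Subgroup.map_bot]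
  rcases H.hS.pair A hA C hC with h | h | h
  · apply H.h2' A hA C hC hne
    ext D
    exact ⟨fun hD => centralizing_of_map_eq H hNtop hC heq hD,
      fun hD => centralizing_of_map_eq H hNtop hA heq.symm hD⟩
  · exact map_ne_of_rankOne H hNtop hA hC h heq
  · apply hno _ h.1
    rw [← map_mk_eq_bot_iff, Subgroup.map_commutator, ← heq, hAA]

/-- (II): a proper normal subgroup is central. -/
theorem le_center_of_normal (H : Hyp S) {N : Subgroup G} [hN : N.Normal] (hNtop : N ≠ ⊤) :
    N ≤ Subgroup.center G := by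
  have hnorm : ∀ g ∈ N, ∀ A ∈ S, conjBy A g = A := by
    intro g hg A hA
    apply map_injOn H hNtop (H.hS.conj_mem A hA g) hA
    rw [map_conjBy]
    have : (QuotientGroup.mk' N) g = 1 := (QuotientGroup.eq_one_iff g).mpr hg
    rw [this, conjBy_one]
  have hcomm : ∀ g ∈ N, ∀ A ∈ S, ∀ a ∈ A, a * g = g * a := by
    intro g hg A hA a ha
    obtain ⟨B, hB, hAB⟩ := exists_partner H.h2 H.h1 hA
    -- `x = a g a⁻¹ g⁻¹ ∈ A ∩ N` normalizes `B`
    have hxN : a * g * a⁻¹ * g⁻¹ ∈ N := by
      have h1 : a * g * a⁻¹ ∈ N := hN.conj_mem g hg a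
      exact N.mul_mem h1 (N.inv_mem hg)
    have hxA : a * g * a⁻¹ * g⁻¹ ∈ A := by
      have h1 : g * a⁻¹ * g⁻¹ ∈ conjBy A g := conj_mem_conjBy (A.inv_mem ha)
      rw [hnorm g hg A hA] at h1
      have : a * g * a⁻¹ * g⁻¹ = a * (g * a⁻¹ * g⁻¹) := by group
      rw [this]
      exact A.mul_mem ha h1
    have hxB : a * g * a⁻¹ * g⁻¹ ∈ Subgroup.normalizer (B : Set G) :=
      conjBy_eq_self_iff.mp (hnorm _ hxN B hB)
    have hx1 := RankOne.eq_one_of_mem_of_mem_normalizer hAB hxA hxB
    have : a * g = (a * g * a⁻¹ * g⁻¹) * (g * a) := by group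
    rw [this, hx1, one_mul]
  intro g hg
  rw [Subgroup.mem_center_iff]
  have hle : (⨆ A ∈ S, A) ≤ Subgroup.centralizer ({g} : Set G) := by
    refine iSup₂_le fun A hA a ha => ?_
    rw [Subgroup.mem_centralizer_iff]
    intro h hh
    rw [Set.mem_singleton_iff] at hh
    rw [hh]
    exact (hcomm g hg A hA a ha).symm
  intro x
  have hx : x ∈ Subgroup.centralizer ({g} : Set G) := hle (by rw [H.hS.generates]; trivial)
  rw [Subgroup.mem_centralizer_iff] at hx
  exact (hx g rfl).symm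

lemma center_ne_top (H : Hyp S) : Subgroup.center G ≠ ⊤ := by
  intro hZ
  obtain ⟨A, hA, _⟩ := H.h2
  obtain ⟨B, hB, hAB⟩ := exists_partner H.h2 H.h1 hA
  obtain ⟨a, ha, ha1⟩ := RankOne.exists_ne_one_left hAB
  apply ha1
  apply RankOne.eq_one_of_mem_of_mem_normalizer hAB ha
  have : a ∈ Subgroup.center G := by rw [hZ]; trivial
  exact Subgroup.center_le_normalizer _ this

/-- `G` is quasisimple. -/
theorem isQuasisimple (H : Hyp S) : IsQuasisimple G := by
  refine ⟨⟨commutator_eq_top H.hS H.h2 H.h1 H.h3 H.h4⟩, ?_⟩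
  have : Nontrivial (G ⧸ Subgroup.center G) := QuotientGroup.nontrivial_iff.mpr (center_ne_top H)
  refine ⟨fun M hM => ?_⟩
  have hNn : (M.comap (QuotientGroup.mk' (Subgroup.center G))).Normal := hM.comap _
  by_cases hNtop : M.comap (QuotientGroup.mk' (Subgroup.center G)) = ⊤
  · right
    rw [eq_top_iff]
    intro m _
    obtain ⟨x, rfl⟩ := QuotientGroup.mk'_surjective _ m
    have : x ∈ M.comap (QuotientGroup.mk' (Subgroup.center G)) := by rw [hNtop]; trivial
    exact this
  · left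
    have h1 := le_center_of_normal H hNtop
    rw [eq_bot_iff]
    intro m hm
    obtain ⟨x, rfl⟩ := QuotientGroup.mk'_surjective _ m
    have hx : x ∈ M.comap (QuotientGroup.mk' (Subgroup.center G)) := hm
    have := h1 hx
    rw [Subgroup.mem_bot]
    exact (QuotientGroup.eq_one_iff x).mpr this

lemma map_center_equiv {G' H' : Type*} [Group G'] [Group H'] (e : G' ≃* H') :
    (Subgroup.center G').map (e : G' →* H') = Subgroup.center H' := by
  ext y
  rw [Subgroup.mem_map, Subgroup.mem_center_iff]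
  constructor
  · rintro ⟨x, hx, rfl⟩ h
    rw [Subgroup.mem_center_iff] at hx
    have := congrArg e (hx (e.symm h))
    simpa using this
  · intro hy
    refine ⟨e.symm y, ?_, by simp⟩
    rw [Subgroup.mem_center_iff]
    intro g
    apply e.injective
    simpa using hy (e g)

lemma isQuasisimple_of_equiv {G' H' : Type*} [Group G'] [Group H'] (e : G' ≃* H')
    (hG : IsQuasisimple G') : IsQuasisimple H' := by
  obtain ⟨hp, hs⟩ := hG
  refine ⟨Group.IsPerfect.ofSurjective (f := (e : G' →* H')) e.surjective, ?_⟩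
  have e' : G' ⧸ Subgroup.center G' ≃* H' ⧸ Subgroup.center H' :=
    QuotientGroup.congr _ _ e (map_center_equiv e)
  exact e'.symm.isSimpleGroup

end

/-- Quasisimplicity criterion for groups generated by abstract root subgroups. Let S be a set of abstract root subgroups of G with more than one member such that: the graph of rank one pairs on S is connected; no two different members of S have the same set of commuting members of S; if S is degenerate then every member of S has more than three elements; and every rank one pair in S is special. Then for every A ∈ S one has G = G' A with A ∩ G' ≠ 1, and the commutator subgroup G' is quasisimple. Moreover G is perfect if S is non-degenerate, or if some rank one pair A, B in S generates a perfect group. -/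
theorem result {G : Type*} [Group G] {S : Set (Subgroup G)} (hS : Cfsg.IsRootSubgroupSet S) (h2 : ∃ A ∈ S, ∃ B ∈ S, A ≠ B)
    (h1 : Cfsg.IsConnectedFamily (Cfsg.FAdj S) S)
    (h2' : ∀ A ∈ S, ∀ C ∈ S, A ≠ C → Cfsg.centralizingMembers S A ≠ Cfsg.centralizingMembers S C)
    (h3 : Cfsg.IsDegenerateRootSet S → ∀ A ∈ S, 3 < ENat.card A)
    (h4 : ∀ A ∈ S, ∀ B ∈ Cfsg.rankOnePartners S A, Cfsg.IsSpecialRankOnePair A B) :
    (∀ A ∈ S, commutator G ⊔ A = ⊤ ∧ A ⊓ commutator G ≠ ⊥) ∧ Cfsg.IsQuasisimple ↥(commutator G) ∧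
    (Cfsg.IsNondegenerateRootSet S → commutator G = ⊤) ∧
    ((∃ A ∈ S, ∃ B ∈ Cfsg.rankOnePartners S A, Group.IsPerfect ↥(A ⊔ B)) → commutator G = ⊤) := by
  have H : Hyp S := ⟨hS, h2, h1, h2', h3, h4⟩
  have htop : commutator G = ⊤ := commutator_eq_top hS h2 h1 h3 h4
  refine ⟨fun A hA => ?_, ?_, fun _ => htop, fun _ => htop⟩
  · rw [htop]
    exact ⟨top_sup_eq _, by rw [inf_top_eq]; exact hS.ne_bot A hA⟩
  · have e : G ≃* ↥(commutator G) := by
      rw [htop]
      exact Subgroup.topEquiv.symm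
    exact isQuasisimple_of_equiv e (isQuasisimple H)

end Cfsg.Agent.S5033
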