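import Cfsg.Statements.S5020
import Cfsg.Agent.Lib.Helper83.SROPerfect
import Cfsg.Agent.Lib.Helper83.SmallSL2
import Cfsg.Agent.S5017
import Cfsg.Agent.S5033

set_option autoImplicit false
open Cfsg

namespace Cfsg.Agent.S5020

open Cfsg.Agent.Lib.Helper83

section
variable {X : Type*} [Group X] {A B : Subgroup X}

/-- Four different elements of `A` give `|A| > 3`. -/
lemma card_gt_three {w x y z : X} (hw : w ∈ A) (hx : x ∈ A) (hy : y ∈ A) (hz : z ∈ A)
    (h1 : w ≠ x) (h2 : w ≠ y) (h3 : w ≠ z) (h4 : x ≠ y) (h5 : x ≠ z) (h6 : y ≠ z) :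
    3 < ENat.card A := by
  let f : Fin 4 → A := ![⟨w, hw⟩, ⟨x, hx⟩, ⟨y, hy⟩, ⟨z, hz⟩]
  have hinj : Function.Injective f := by
    intro i j hij
    have hij' : (f i : X) = (f j : X) := congrArg Subtype.val hij
    fin_cases i <;> fin_cases j <;> simp [f] at hij' <;> simp_all
  have := ENat.card_le_card_of_injective hinj
  rw [ENat.card_eq_coe_fintype_card, Fintype.card_fin] at this
  exact lt_of_lt_of_le (by norm_num) this

/-- The perfect case. -/
lemma right_case (h : IsRankOneGroup X A B) (S : SRO.Setup A B) (h3 : 3 < ENat.card A) :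
    commutator X ⊔ A = ⊤ ∧ IsQuasisimple (commutator X) ∧
      3 < ENat.card ↥(⁅A, rankOneDiagonal A B⁆ : Subgroup X) := by
  have hA : A ≤ ⁅A, rankOneDiagonal A B⁆ := SRO.le_commutator_diagonal S h3
  have hAc : A ≤ commutator X := by
    refine (SRO.left_le_commutator S h3).trans ?_
    rw [commutator_def]
    exact Subgroup.commutator_mono le_top le_top
  obtain ⟨a, ha, ha1⟩ := RankOne.exists_ne_one_left S.rk
  obtain ⟨b, hp⟩ := SRO.exists_partner_left S.rk ha ha1
  have hBc : B ≤ commutator X := by
    rw [← SRO.conjBy_n_left S hp]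
    intro y hy
    rw [mem_conjBy] at hy
    have hn : (commutator X).Normal := inferInstance
    have := hn.conj_mem _ (hAc hy) (a * b⁻¹ * a)
    have e : (a * b⁻¹ * a) * ((a * b⁻¹ * a)⁻¹ * y * (a * b⁻¹ * a)) * (a * b⁻¹ * a)⁻¹ = y := by
      group
    rwa [e] at this
  have htop : commutator X = ⊤ := by
    rw [eq_top_iff, ← h.1]
    exact sup_le hAc hBc
  refine ⟨by rw [htop]; exact top_sup_eq _, ?_, ?_⟩
  · have hq : IsQuasisimple X := (Cfsg.Agent.S5017.result h).2 ⟨htop⟩
    have e : X ≃* ↥(commutator X) := by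
      rw [htop]
      exact Subgroup.topEquiv.symm
    exact Cfsg.Agent.S5033.isQuasisimple_of_equiv e hq
  · have heq : ⁅A, rankOneDiagonal A B⁆ = A := le_antisymm SRO.commutator_diagonal_le hA
    rw [heq]
    exact h3

/-- The small cases. -/
lemma left_case (h : IsRankOneGroup X A B) (S : SRO.Setup A B) (h3 : ENat.card A ≤ 3) :
    Nonempty (X ≃* Matrix.SpecialLinearGroup (Fin 2) (ZMod 2)) ∨
      Nonempty (X ≃* Matrix.SpecialLinearGroup (Fin 2) (ZMod 3)) ∨
      Nonempty (X ≃* Matrix.ProjectiveSpecialLinearGroup (Fin 2) (ZMod 3)) := by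
  obtain ⟨a, ha, ha1⟩ := RankOne.exists_ne_one_left S.rk
  obtain ⟨b, hp⟩ := SRO.exists_partner_left S.rk ha ha1
  have hb : b ∈ B := hp.2.2.1
  have hnot : ¬ 3 < ENat.card A := not_lt.mpr h3
  have hn := SRO.n_conj S hp
  have hbraid := SRO.n_eq S hp
  -- elements of `B` are conjugates of elements of `A`
  have hB : ∀ y ∈ B, ∃ x ∈ A, y = (a * b⁻¹ * a) * x * (a * b⁻¹ * a)⁻¹ := by
    intro y hy
    rw [← SRO.conjBy_n_left S hp, mem_conjBy] at hy
    exact ⟨_, hy, by group⟩
  by_cases haa : a * a = 1
  · left
    have hainv : a⁻¹ = a := inv_eq_of_mul_eq_one_left haa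
    have hAel : ∀ x ∈ A, x = 1 ∨ x = a := by
      intro x hx
      by_contra hcon
      push Not at hcon
      apply hnot
      refine card_gt_three A.one_mem ha hx (A.mul_mem ha hx) (Ne.symm ha1) (Ne.symm hcon.1) ?_
        (Ne.symm hcon.2) ?_ ?_
      · intro h1
        apply hcon.2
        have := eq_inv_of_mul_eq_one_right h1.symm
        rw [hainv] at this
        exact this
      · intro h1
        apply hcon.1
        have : a * 1 = a * x := by rw [mul_one]; exact h1
        exact (mul_left_cancel this).symm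
      · intro h1
        apply ha1
        have : 1 * x = a * x := by rw [one_mul]; exact h1
        exact (mul_right_cancel this).symm
    have hbinv : b⁻¹ = b := by
      have h1 := hp.inv S
      rw [hainv] at h1
      exact SRO.Partner.unique_right S.rk h1 hp
    have hbb : b * b = 1 := by
      rw [← hbinv]; nth_rewrite 2 [hbinv]; exact inv_mul_cancel b
    have hbr : a * b * a = b * a * b := by
      rw [hbinv] at hbraid; exact hbraid
    have hab : a ≠ b := by
      intro hab
      apply ha1
      apply RankOne.eq_one_of_mem_of_mem_normalizer S.rk ha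
      exact Subgroup.le_normalizer (hab ▸ hb)
    have hgen : Subgroup.closure ({a, b} : Set X) = ⊤ := by
      have haM : a ∈ Subgroup.closure ({a, b} : Set X) := Subgroup.subset_closure (by simp)
      have hbM : b ∈ Subgroup.closure ({a, b} : Set X) := Subgroup.subset_closure (by simp)
      rw [eq_top_iff, ← h.1]
      refine sup_le ?_ ?_
      · intro x hx
        rcases hAel x hx with rfl | rfl
        · exact Subgroup.one_mem _
        · exact haM
      · intro y hy
        obtain ⟨x, hx, rfl⟩ := hB y hy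
        rcases hAel x hx with rfl | rfl
        · have : (a * b⁻¹ * a) * 1 * (a * b⁻¹ * a)⁻¹ = 1 := by group
          rw [this]; exact Subgroup.one_mem _
        · rw [hn, hbinv]; exact hbM
    exact SmallSL2.nonempty_mulEquiv_SL22 haa hbb hbr hab hgen
  · right
    have hane : a ≠ a⁻¹ := by
      intro h1
      apply haa
      nth_rewrite 2 [h1]
      exact mul_inv_cancel a
    have hAel : ∀ x ∈ A, x = 1 ∨ x = a ∨ x = a⁻¹ := by
      intro x hx
      by_contra hcon
      push Not at hcon
      apply hnot
      exact card_gt_three A.one_mem ha (A.inv_mem ha) hx (Ne.symm ha1)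
        (fun h1 => ha1 (by rw [← inv_inv a, ← h1, inv_one])) (Ne.symm hcon.1) hane (Ne.symm hcon.2.1) (Ne.symm hcon.2.2)
    have ha3 : a ^ 3 = 1 := by
      rcases hAel (a * a) (A.mul_mem ha ha) with h1 | h1 | h1
      · exact absurd h1 haa
      · exfalso
        apply ha1
        have : a * a = a * 1 := by rw [mul_one]; exact h1
        exact mul_left_cancel this
      · rw [pow_succ, pow_two, h1, inv_mul_cancel]
    have hb3 : (b⁻¹) ^ 3 = 1 := by
      rw [← hn, SRO.conj_pow', ha3]; group
    have hu1 : a * b⁻¹ * a ≠ 1 := by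
      intro h1
      have := SRO.conjBy_n_left S hp
      rw [h1, conjBy_one] at this
      exact S.rk.ne this
    have hgen : Subgroup.closure ({a, b⁻¹} : Set X) = ⊤ := by
      have haM : a ∈ Subgroup.closure ({a, b⁻¹} : Set X) := Subgroup.subset_closure (by simp)
      have hbM : b⁻¹ ∈ Subgroup.closure ({a, b⁻¹} : Set X) := Subgroup.subset_closure (by simp)
      rw [eq_top_iff, ← h.1]
      refine sup_le ?_ ?_
      · intro x hx
        rcases hAel x hx with rfl | rfl | rfl
        · exact Subgroup.one_mem _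
        · exact haM
        · exact Subgroup.inv_mem _ haM
      · intro y hy
        obtain ⟨x, hx, rfl⟩ := hB y hy
        rcases hAel x hx with rfl | rfl | rfl
        · have : (a * b⁻¹ * a) * 1 * (a * b⁻¹ * a)⁻¹ = 1 := by group
          rw [this]; exact Subgroup.one_mem _
        · rw [hn]; exact hbM
        · have : (a * b⁻¹ * a) * a⁻¹ * (a * b⁻¹ * a)⁻¹ =
              ((a * b⁻¹ * a) * a * (a * b⁻¹ * a)⁻¹)⁻¹ := by group
          rw [this, hn]
          exact Subgroup.inv_mem _ hbM
    exact SmallSL2.sl23_or_psl23 ha3 hb3 hbraid ha1 hu1 hgen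

end

/-- Let X be a special rank one group with abelian unipotent subgroups A and B, and H = N(A) ∩ N(B) its diagonal subgroup. Then either A has at most three elements and X is isomorphic to SL₂(2), SL₂(3) or PSL₂(3); or X = X' A with the commutator subgroup X' quasisimple and the commutator subgroup ⁅A, H⁆ having more than three elements. -/
theorem result {X : Type*} [Group X] {A B : Subgroup X} (h : Cfsg.IsRankOneGroup X A B)
    (hs : Cfsg.IsSpecialRankOnePair A B) (hab : Cfsg.HasAbelianUnipotents A B) :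
    (ENat.card A ≤ 3 ∧ (Nonempty (X ≃* Matrix.SpecialLinearGroup (Fin 2) (ZMod 2)) ∨
        Nonempty (X ≃* Matrix.SpecialLinearGroup (Fin 2) (ZMod 3)) ∨
        Nonempty (X ≃* Matrix.ProjectiveSpecialLinearGroup (Fin 2) (ZMod 3)))) ∨
    (commutator X ⊔ A = ⊤ ∧ Cfsg.IsQuasisimple (commutator X) ∧
      3 < ENat.card ↥(⁅A, Cfsg.rankOneDiagonal A B⁆ : Subgroup X)) := by
  have S := SRO.Setup.of_special hs hab
  by_cases h3 : 3 < ENat.card A
  · right
    exact right_case h S h3
  · left
    exact ⟨not_lt.mp h3, left_case h S (not_lt.mp h3)⟩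

end Cfsg.Agent.S5020
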