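-- helper83: S5022 — ⟨a, b(a)⟩ ≅ (P)SL₂(p) in a special rank one group with abelian unipotent
-- subgroups, `A` elementary abelian.  Route: `b(a^t) = b(a)^(1/t)` (SpecialRankOne.PA_PB) gives the
-- rank-one Steinberg relations for `t ↦ a^t`, `t ↦ b^t` over `ZMod p`; helper53's
-- `Steinberg.Data.exists_hom` then gives `SL₂(p) →* X`, whose kernel is trivial or the centre.
import Cfsg.Statements.S5022
import Cfsg.Agent.Lib.Helper83.SpecialRankOne
import Cfsg.Agent.Lib.Helper53.SteinbergSL2Lift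

set_option autoImplicit false
open Cfsg
open Cfsg.Agent.Lib.Helper83
open Cfsg.Agent.Lib.Helper53

namespace Cfsg.Agent.S5022

section zp

variable {G : Type*} [Group G] {p : ℕ} [Fact p.Prime]

/-- `g ^ t` for `t : ZMod p`. -/
def zp (g : G) (t : ZMod p) : G := g ^ t.val

omit [Fact p.Prime] in
lemma pow_mod_of_pow_eq_one {g : G} (hg : g ^ p = 1) (n : ℕ) : g ^ (n % p) = g ^ n := by
  conv_rhs => rw [← Nat.mod_add_div n p, pow_add, pow_mul, hg, one_pow, mul_one]

lemma zp_add {g : G} (hg : g ^ p = 1) (t u : ZMod p) : zp g t * zp g u = zp g (t + u) := by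
  unfold zp
  rw [← pow_add, ZMod.val_add, pow_mod_of_pow_eq_one hg]

lemma zp_mul {g : G} (hg : g ^ p = 1) (t u : ZMod p) : zp (zp g t) u = zp g (t * u) := by
  unfold zp
  rw [← pow_mul, ZMod.val_mul, pow_mod_of_pow_eq_one hg]

lemma zp_zero (g : G) : zp g (0 : ZMod p) = 1 := by
  unfold zp; rw [ZMod.val_zero, pow_zero]

lemma zp_one (g : G) : zp g (1 : ZMod p) = g := by
  unfold zp
  have : Fact (1 < p) := ⟨(Fact.out : p.Prime).one_lt⟩
  rw [ZMod.val_one, pow_one]

lemma zp_neg {g : G} (hg : g ^ p = 1) (t : ZMod p) : zp g (-t) = (zp g t)⁻¹ := by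
  rw [eq_inv_iff_mul_eq_one, zp_add hg, neg_add_cancel, zp_zero]

omit [Fact p.Prime] in
lemma zp_conj (n g : G) (t : ZMod p) : n * zp g t * n⁻¹ = zp (n * g * n⁻¹) t := by
  unfold zp; rw [SRO.conj_pow']

omit [Fact p.Prime] in
lemma zp_mem {H : Subgroup G} {g : G} (hg : g ∈ H) (t : ZMod p) : zp g t ∈ H := H.pow_mem hg _

lemma zp_ne_one {g : G} (hg : g ^ p = 1) (hg1 : g ≠ 1) {t : ZMod p} (ht : t ≠ 0) :
    zp g t ≠ 1 := by
  intro h
  apply hg1
  have := zp_mul hg t t⁻¹
  rw [mul_inv_cancel₀ ht, zp_one, h] at this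
  rw [← this]; unfold zp; rw [one_pow]

lemma zp_injective {g : G} (hg : g ^ p = 1) (hg1 : g ≠ 1) :
    Function.Injective (zp (p := p) g) := by
  intro t u h
  by_contra htu
  have h1 : zp g (t - u) = 1 := by
    rw [sub_eq_add_neg, ← zp_add hg, zp_neg hg, h, mul_inv_cancel]
  exact zp_ne_one hg hg1 (sub_ne_zero.mpr htu) h1

end zp

section main

variable {X : Type*} [Group X] {A B : Subgroup X} {p : ℕ} [Fact p.Prime]

lemma pow_ne_one_of_prime {x : X} (hx : x ^ p = 1) (hx1 : x ≠ 1) :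
    ∀ j, 1 ≤ j → j ≤ p - 1 → x ^ j ≠ 1 := by
  intro j hj hjp h
  have ho : orderOf x = p := orderOf_eq_prime hx hx1
  have h1 := orderOf_dvd_of_pow_eq_one h
  rw [ho] at h1
  have h2 := Nat.le_of_dvd (by omega) h1
  have h3 := (Fact.out : p.Prime).two_le
  omega

omit [Fact p.Prime] in
/-- `B` has exponent `p` as well. -/
lemma expB (S : SRO.Setup A B) (hA : ∀ x ∈ A, x ^ p = 1) : ∀ y ∈ B, y ^ p = 1 := by
  obtain ⟨a₀, ha₀, ha₀1⟩ := RankOne.exists_ne_one_left S.rk
  obtain ⟨b₀, hp⟩ := SRO.exists_partner_left S.rk ha₀ ha₀1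
  intro y hy
  have hmem : (a₀ * b₀⁻¹ * a₀)⁻¹ * y * (a₀ * b₀⁻¹ * a₀) ∈ A := by
    rw [← SRO.conjBy_n_left S hp] at hy
    exact mem_conjBy.mp hy
  have h1 := hA _ hmem
  have h2 := SRO.conj_pow' (a₀ * b₀⁻¹ * a₀)⁻¹ y p
  rw [inv_inv] at h2
  rw [h2] at h1
  have h3 : y ^ p = (a₀ * b₀⁻¹ * a₀) * ((a₀ * b₀⁻¹ * a₀)⁻¹ * y ^ p * (a₀ * b₀⁻¹ * a₀)) *
      (a₀ * b₀⁻¹ * a₀)⁻¹ := by group
  rw [h3, h1]; group

/-- `b(a^t) = b(a)^(1/t)`. -/
lemma partner_zp (S : SRO.Setup A B) (hA : ∀ x ∈ A, x ^ p = 1) {a b : X}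
    (hp : SRO.Partner A B a b) {t : ZMod p} (ht : t ≠ 0) :
    SRO.Partner A B (zp a t) (zp b t⁻¹) := by
  have hB := expB S hA
  have htv : t.val ≤ p - 1 := by
    have := ZMod.val_lt t
    omega
  have hP := SRO.PA_PB t.val S
    (fun x hx hx1 j hj hjk => pow_ne_one_of_prime (hA x hx) hx1 j hj (hjk.trans htv))
    (fun x hx hx1 j hj hjk => pow_ne_one_of_prime (hB x hx) hx1 j hj (hjk.trans htv))
  have hne : zp a t ≠ 1 := zp_ne_one (hA a hp.1) hp.2.1 ht
  obtain ⟨b', hb'⟩ := SRO.exists_partner_left S.rk (zp_mem hp.1 t) hne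
  have h1 : b' ^ t.val = b := hP.1 a b b' hp hb'
  have h2 : zp b t⁻¹ = b' := by
    rw [← h1]
    show zp (zp b' t) t⁻¹ = b'
    rw [zp_mul (hB b' hb'.2.2.1), mul_inv_cancel₀ ht, zp_one]
  rw [h2]; exact hb'

lemma W_eq {a b : X} (hb : b ^ p = 1) (t : ZMod p) :
    Steinberg.W (zp a) (zp b) t = zp a t * (zp b t⁻¹)⁻¹ * zp a t := by
  unfold Steinberg.W; rw [zp_neg hb]

/-- The Steinberg relation. -/
lemma rel (S : SRO.Setup A B) (hA : ∀ x ∈ A, x ^ p = 1) {a b : X}
    (hp : SRO.Partner A B a b) (t u : ZMod p) (ht : t ≠ 0) :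
    MulAut.conj (Steinberg.W (zp a) (zp b) t) (zp a u) = zp b (-(t⁻¹ ^ 2 * u)) := by
  have hB := expB S hA
  have ha := hA a hp.1
  have hb := hB b hp.2.2.1
  have hpt := partner_zp S hA hp ht
  have hn := SRO.n_conj S hpt
  rw [MulAut.conj_apply, W_eq hb]
  have hu : zp a u = zp (zp a t) (t⁻¹ * u) := by
    rw [zp_mul ha, ← mul_assoc, mul_inv_cancel₀ ht, one_mul]
  rw [hu, zp_conj, hn, ← zp_neg hb, zp_mul hb]
  congr 1
  ring

theorem data (S : SRO.Setup A B) (hA : ∀ x ∈ A, x ^ p = 1) {a b : X}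
    (hp : SRO.Partner A B a b) : Steinberg.Data (K := ZMod p) (zp a) (zp b) :=
  ⟨zp_add (hA a hp.1), zp_add (expB S hA b hp.2.2.1), rel S hA hp,
    rel S.swap (expB S hA) hp.swap⟩

end main

/-- Let X be a special rank one group with abelian unipotent subgroups A and B, where A is an elementary abelian p-group for the prime p. Then for every non-identity a in A and the non-identity b in B with b⁻¹ A b = a⁻¹ B a, the subgroup generated by a and b is isomorphic to SL₂(p) or to PSL₂(p). -/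
theorem result {X : Type*} [Group X] {A B : Subgroup X} (h : Cfsg.IsRankOneGroup X A B)
    (hs : Cfsg.IsSpecialRankOnePair A B) (hab : Cfsg.HasAbelianUnipotents A B)
    {p : ℕ} [Fact p.Prime] (hA : Cfsg.IsElementaryAbelian p A)
    {a b : X} (ha : a ∈ A) (ha1 : a ≠ 1) (hb : b ∈ B) (hb1 : b ≠ 1) (hab' : Cfsg.conjBy A b⁻¹ = Cfsg.conjBy B a⁻¹) :
    Nonempty (↥(Subgroup.closure ({a, b} : Set X)) ≃* Matrix.SpecialLinearGroup (Fin 2) (ZMod p)) ∨
    Nonempty (↥(Subgroup.closure ({a, b} : Set X)) ≃* Matrix.ProjectiveSpecialLinearGroup (Fin 2) (ZMod p)) := by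
  have S := SRO.Setup.of_special hs hab
  have hp : SRO.Partner A B a b := ⟨ha, ha1, hb, hb1, hab'⟩
  have hAp : ∀ x ∈ A, x ^ p = 1 := hA.2
  have hBp := expB S hAp
  have d := data S hAp hp
  obtain ⟨φ, hφX, hφY⟩ := d.exists_hom
  have htop : Subgroup.closure (Set.range (Steinberg.xM : ZMod p → _) ∪
      Set.range (Steinberg.yM : ZMod p → _)) = ⊤ :=
    top_unique (fun M _ => Steinberg.mem_closure_xM_yM M)
  have hrange : φ.range = Subgroup.closure ({a, b} : Set X) := by
    rw [MonoidHom.range_eq_map, ← htop, MonoidHom.map_closure]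
    apply le_antisymm
    · rw [Subgroup.closure_le]
      rintro _ ⟨M, (⟨t, rfl⟩ | ⟨t, rfl⟩), rfl⟩
      · rw [hφX]
        exact zp_mem (Subgroup.subset_closure (by simp)) t
      · rw [hφY]
        exact zp_mem (Subgroup.subset_closure (by simp)) t
    · rw [Subgroup.closure_le]
      rintro x (rfl | rfl)
      · apply Subgroup.subset_closure
        exact ⟨Steinberg.xM 1, Or.inl ⟨1, rfl⟩, by rw [hφX, zp_one]⟩
      · apply Subgroup.subset_closure
        exact ⟨Steinberg.yM 1, Or.inr ⟨1, rfl⟩, by rw [hφY, zp_one]⟩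
  have hφW : ∀ t, φ (Steinberg.W Steinberg.xM Steinberg.yM t) = Steinberg.W (zp a) (zp b) t := by
    intro t; unfold Steinberg.W; rw [map_mul, map_mul, hφX, hφY]
  have hφH : ∀ t, φ (Steinberg.Hh Steinberg.xM Steinberg.yM t) = Steinberg.Hh (zp a) (zp b) t := by
    intro t; unfold Steinberg.Hh; rw [map_mul, hφW, hφW]
  have hWA : ∀ t : ZMod p, t ≠ 0 → conjBy A (Steinberg.W (zp a) (zp b) t) = B := by
    intro t ht
    rw [W_eq (hBp b hb)]
    exact SRO.conjBy_n_left S (partner_zp S hAp hp ht)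
  have hWB : ∀ t : ZMod p, t ≠ 0 → conjBy B (Steinberg.W (zp a) (zp b) t) = A := by
    intro t ht
    rw [W_eq (hBp b hb)]
    exact SRO.conjBy_n_right S (partner_zp S hAp hp ht)
  have hm1 : (-1 : ZMod p) ≠ 0 := neg_ne_zero.mpr one_ne_zero
  have hHA : ∀ t : ZMod p, t ≠ 0 → conjBy A (Steinberg.Hh (zp a) (zp b) t) = A := by
    intro t ht
    unfold Steinberg.Hh
    rw [← conjBy_conjBy, hWA _ hm1, hWB t ht]
  have hHB : ∀ t : ZMod p, t ≠ 0 → conjBy B (Steinberg.Hh (zp a) (zp b) t) = B := by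
    intro t ht
    unfold Steinberg.Hh
    rw [← conjBy_conjBy, hWB _ hm1, hWA t ht]
  have hker : ∀ g ∈ φ.ker, g = 1 ∨ g = Steinberg.Hh Steinberg.xM Steinberg.yM (-1 : ZMod p) := by
    intro g hg
    rw [MonoidHom.mem_ker] at hg
    rcases Steinberg.dataM.mem_Nset htop g with ⟨a', t, ht, rfl⟩ | ⟨_, ⟨a', t, ht, rfl⟩, c, rfl⟩
    · rw [map_mul, hφX, hφH] at hg
      have h1 : Steinberg.Hh (zp a) (zp b) t = (zp a a')⁻¹ := eq_inv_of_mul_eq_one_right hg
      have h2 : (zp a a')⁻¹ ∈ A := A.inv_mem (zp_mem ha a')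
      have h3 : (zp a a')⁻¹ ∈ Subgroup.normalizer (B : Set X) := by
        rw [← h1, ← conjBy_eq_self_iff]; exact hHB t ht
      have h4 := RankOne.eq_one_of_mem_of_mem_normalizer S.rk h2 h3
      have h5 : a' = 0 := by
        by_contra h
        exact zp_ne_one (hAp a ha) ha1 h (inv_eq_one.mp h4)
      have h6 : Steinberg.Hh (zp a) (zp b) t = 1 := by rw [h1, h4]
      have h7 := d.Hh_conjX ht 1
      rw [h6, map_one, MulAut.one_apply] at h7
      have h8 := zp_injective (hAp a ha) ha1 h7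
      have h9 : t = 1 ∨ t = -1 := by
        have h10 : (t - 1) * (t + 1) = 0 := by
          have : t ^ 2 = 1 := by rw [mul_one] at h8; exact h8.symm
          linear_combination this
        rcases mul_eq_zero.mp h10 with h | h
        · left; exact sub_eq_zero.mp h
        · right; exact eq_neg_of_add_eq_zero_left h
      rcases h9 with rfl | rfl
      · left
        rw [h5, (Steinberg.dataM (K := ZMod p)).X_zero, (Steinberg.dataM (K := ZMod p)).Hh_one,
          one_mul]
      · right; rw [h5, (Steinberg.dataM (K := ZMod p)).X_zero, one_mul]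
    · exfalso
      rw [map_mul, map_mul, map_mul, hφX, hφH, hφW, hφX] at hg
      have h1 : Steinberg.Hh (zp a) (zp b) t * Steinberg.W (zp a) (zp b) (1 : ZMod p) ∈ A := by
        have : Steinberg.Hh (zp a) (zp b) t * Steinberg.W (zp a) (zp b) (1 : ZMod p) =
            (zp a a')⁻¹ * (zp a c)⁻¹ := by
          calc _ = (zp a a')⁻¹ * (zp a a' * Steinberg.Hh (zp a) (zp b) t *
                Steinberg.W (zp a) (zp b) (1 : ZMod p) * zp a c) * (zp a c)⁻¹ := by group
            _ = _ := by rw [hg, mul_one]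
        rw [this]; exact A.mul_mem (A.inv_mem (zp_mem ha _)) (A.inv_mem (zp_mem ha _))
      have h2 : conjBy A (Steinberg.Hh (zp a) (zp b) t * Steinberg.W (zp a) (zp b) (1 : ZMod p)) = B := by
        rw [← conjBy_conjBy, hWA (1 : ZMod p) one_ne_zero, hHB t ht]
      rw [conjBy_of_mem h1] at h2
      exact S.rk.ne h2
  have hzval : (Steinberg.Hh Steinberg.xM Steinberg.yM (-1 : ZMod p)).1 = !![-1, 0; 0, (-1)⁻¹] :=
    Steinberg.map_Hh_val (MonoidHom.id _) (fun _ => rfl) (fun _ => rfl) hm1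
  by_cases hinj : φ.ker = ⊥
  · left
    have hinj' : Function.Injective φ := (MonoidHom.ker_eq_bot_iff φ).mp hinj
    exact ⟨((MonoidHom.ofInjective hinj').trans (MulEquiv.subgroupCongr hrange)).symm⟩
  · right
    have hzker : Steinberg.Hh Steinberg.xM Steinberg.yM (-1 : ZMod p) ∈ φ.ker := by
      obtain ⟨g, hg, hg1⟩ : ∃ g ∈ φ.ker, g ≠ 1 := by
        by_contra hcon
        push Not at hcon
        exact hinj ((Subgroup.eq_bot_iff_forall _).mpr hcon)
      rcases hker g hg with h | h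
      · exact absurd h hg1
      · rw [← h]; exact hg
    have hkc : φ.ker = Subgroup.center (Matrix.SpecialLinearGroup (Fin 2) (ZMod p)) := by
      apply le_antisymm
      · intro g hg
        rcases hker g hg with rfl | rfl
        · exact Subgroup.one_mem _
        · rw [Matrix.SpecialLinearGroup.mem_center_iff]
          refine ⟨-1, by simp, ?_⟩
          rw [hzval]
          ext i j
          fin_cases i <;> fin_cases j <;> simp
      · intro c hc
        rw [Matrix.SpecialLinearGroup.mem_center_iff] at hc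
        obtain ⟨r, hr, hrc⟩ := hc
        have hr2 : r = 1 ∨ r = -1 := by
          have h10 : (r - 1) * (r + 1) = 0 := by
            have : r ^ 2 = 1 := by simpa using hr
            linear_combination this
          rcases mul_eq_zero.mp h10 with h | h
          · left; exact sub_eq_zero.mp h
          · right; exact eq_neg_of_add_eq_zero_left h
        rcases hr2 with rfl | rfl
        · have : c = 1 := by
            apply Subtype.ext
            rw [← hrc]; simp
          rw [this]; exact Subgroup.one_mem _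
        · have : c = Steinberg.Hh Steinberg.xM Steinberg.yM (-1 : ZMod p) := by
            apply Subtype.ext
            rw [← hrc, hzval]
            ext i j
            fin_cases i <;> fin_cases j <;> simp
          rw [this]; exact hzker
    exact ⟨((QuotientGroup.quotientMulEquivOfEq hkc).symm.trans
      ((QuotientGroup.quotientKerEquivRange φ).trans (MulEquiv.subgroupCongr hrange))).symm⟩

end Cfsg.Agent.S5022
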