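import Cfsg.Statements.S5023
import Cfsg.Agent.Lib.Helper83.Quadratic

set_option autoImplicit false
open Cfsg

namespace Cfsg.Agent.S5023

open Cfsg.Agent.Lib.Helper83

section
variable {X : Type*} [Group X] {A B : Subgroup X} {V : Type*} [AddCommGroup V] [DistribMulAction X V]

lemma quadB (h : Cfsg.IsRankOneGroup X A B) (hq : Quad.IsQuad V A) : Quad.IsQuad V B := by
  obtain ⟨x, _, hx⟩ := RankOne.right_mem_unipotentSubgroups h.2
  rw [hx]
  exact hq.conjBy x

/-- If everything moves vectors into the fixed points of `A`, we reach a contradiction. -/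
lemma false_of_forall_fixed (h : Cfsg.IsRankOneGroup X A B)
    (hf : ∀ x : X, (∀ v : V, x • v = v) → x = 1) (hq : Quad.IsQuad V A)
    (hall : ∀ a ∈ A, ∀ x : X, ∀ v : V, a • (x • v - v) = x • v - v) : False := by
  obtain ⟨htop, hp⟩ := h
  have hqB := quadB ⟨htop, hp⟩ hq
  obtain ⟨a₁, ha₁, ha₁1⟩ := RankOne.exists_ne_one_left hp
  obtain ⟨b₁, hb₁, _, hab⟩ := hp.cond_left a₁ ha₁ ha₁1
  -- fixed points of A are fixed by B
  have hAB : ∀ w ∈ Quad.fixedPts V A, ∀ x : X, x • w = w := by
    intro w hw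
    have h1 := Quad.rel_one hqB ha₁ hb₁ hab hw
    rw [hall a₁ ha₁ b₁ w, sub_self, sub_zero] at h1
    exact Quad.fixedPts_top_eq_inf htop hw h1
  have hstab : Quad.stab X V = ⊤ := by
    rw [eq_top_iff]
    intro x _ v y
    exact hAB _ (fun a ha => hall a ha x v) y
  have hcomm := Quad.comm_of_stab_eq_top hf hstab
  apply ha₁1
  apply RankOne.eq_one_of_mem_of_mem_normalizer hp ha₁
  apply Subgroup.centralizer_le_normalizer _
  rw [Subgroup.mem_centralizer_iff]
  intro b _
  exact hcomm b a₁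

lemma pow_eq_one_of (h : Cfsg.IsRankOneGroup X A B)
    (hf : ∀ x : X, (∀ v : V, x • v = v) → x = 1) (hq : Quad.IsQuad V A)
    {a₁ : X} (ha₁ : a₁ ∈ A) (ha₁1 : a₁ ≠ 1) {p : ℕ} (hpow : a₁ ^ p = 1) :
    ∀ a' ∈ A, a' ^ p = 1 := by
  intro a' ha'
  by_contra hc
  obtain ⟨htop, hp⟩ := h
  have hqB := quadB ⟨htop, hp⟩ hq
  obtain ⟨b₁, hb₁, _, hab⟩ := hp.cond_left a₁ ha₁ ha₁1
  have hp0 : ∀ v : V, p • (a₁ • v - v) = 0 := by
    intro v
    have h1 := hq.pow_smul ha₁ p v
    rw [hpow, one_smul] at h1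
    have : v + p • (a₁ • v - v) = v + 0 := by rw [← h1, add_zero]
    exact add_left_cancel this
  -- p • w is fixed by X for w fixed by A
  have hpw : ∀ w ∈ Quad.fixedPts V A, ∀ x : X, x • (p • w) = p • w := by
    intro w hw
    have h1 := Quad.rel_one hqB ha₁ hb₁ hab hw
    have h2 := (Quad.fixedPts V B).nsmul_mem h1 p
    rw [smul_sub, hp0, sub_zero] at h2
    exact Quad.fixedPts_top_eq_inf htop ((Quad.fixedPts V A).nsmul_mem hw p) h2
  -- c = a' ^ p lies in stab
  have hc_stab : a' ^ p ∈ Quad.stab X V := by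
    intro v y
    have h1 := hq.pow_smul ha' p v
    have h2 : a' ^ p • v - v = p • (a' • v - v) := by rw [h1]; abel
    rw [h2]
    exact hpw _ (hq.sub_mem_fixedPts ha' v) y
  have hcA : a' ^ p ∈ A := A.pow_mem ha' p
  have := Quad.stab_normal (X := X) (V := V)
  have hconj : ∀ x ∈ A ⊔ B, Cfsg.conjBy (Quad.stab X V) x = Quad.stab X V := by
    intro x _
    rw [conjBy_eq_self_iff, Subgroup.normalizer_eq_top]
    trivial
  rcases RankOne.sup_le_or_le_centralizer hp (N := Quad.stab X V) (by rw [htop]; exact le_top) hconj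
    with h1 | h1
  · -- X = stab ⊔ A
    apply false_of_forall_fixed ⟨htop, hp⟩ hf hq
    intro a ha x v
    have hx : x ∈ Quad.stab X V ⊔ A := h1 (by rw [htop]; trivial)
    obtain ⟨n, hn, a'', ha'', rfl⟩ := Subgroup.mem_sup_of_normal_left.mp hx
    have e : (n * a'') • v - v = (n • (a'' • v) - a'' • v) + (a'' • v - v) := by
      rw [SemigroupAction.mul_smul]; abel
    rw [e, smul_add, hn (a'' • v) a, hq a'' ha'' a ha v]
  · -- c central
    apply hc
    apply RankOne.eq_one_of_mem_of_mem_normalizer hp hcA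
    apply Subgroup.centralizer_le_normalizer _
    have h2 := h1 hc_stab
    rw [Subgroup.mem_centralizer_iff] at h2 ⊢
    intro b hb
    exact h2 b (Subgroup.mem_sup_right hb)

end

/-- Let X be a rank one group with unipotent subgroups A and B that acts faithfully on an abelian group V (written additively) with A acting quadratically: a' • (a • v − v) = a • v − v for all a, a' in A and v in V. Then A is either torsion-free or an elementary abelian p-group for some prime p. -/
theorem result {X : Type*} [Group X] {A B : Subgroup X} (h : Cfsg.IsRankOneGroup X A B)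
    {V : Type*} [AddCommGroup V] [DistribMulAction X V] (hf : ∀ x : X, (∀ v : V, x • v = v) → x = 1)
    (hq : ∀ a ∈ A, ∀ a' ∈ A, ∀ v : V, a' • (a • v - v) = a • v - v) :
    (∀ a ∈ A, a ≠ 1 → ¬ IsOfFinOrder a) ∨ ∃ p : ℕ, p.Prime ∧ Cfsg.IsElementaryAbelian p A := by
  have hq' : Quad.IsQuad V A := hq
  by_cases hfin : ∀ a ∈ A, a ≠ 1 → ¬ IsOfFinOrder a
  · left; exact hfin
  · right
    push Not at hfin
    obtain ⟨a, ha, ha1, hfo⟩ := hfin
    have hn0 : orderOf a ≠ 0 := by
      rw [Ne, orderOf_eq_zero_iff]; exact not_not.mpr hfo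
    have hn1 : orderOf a ≠ 1 := by
      rw [Ne, orderOf_eq_one_iff]; exact ha1
    have hpp : (orderOf a).minFac.Prime := Nat.minFac_prime hn1
    have hdvd : (orderOf a).minFac ∣ orderOf a := Nat.minFac_dvd _
    refine ⟨(orderOf a).minFac, hpp, ?_, ?_⟩
    · refine ⟨⟨fun x y => Subtype.ext ?_⟩⟩
      exact hq'.mul_comm hf x.2 y.2
    · have hpos : 0 < orderOf a / (orderOf a).minFac :=
        Nat.div_pos (Nat.le_of_dvd (Nat.pos_of_ne_zero hn0) hdvd) hpp.pos
      have hlt : orderOf a / (orderOf a).minFac < orderOf a :=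
        Nat.div_lt_self (Nat.pos_of_ne_zero hn0) hpp.one_lt
      have h1 : a ^ (orderOf a / (orderOf a).minFac) ≠ 1 :=
        pow_ne_one_of_lt_orderOf hpos.ne' hlt
      have h2 : (a ^ (orderOf a / (orderOf a).minFac)) ^ (orderOf a).minFac = 1 := by
        rw [← pow_mul, Nat.div_mul_cancel hdvd, pow_orderOf_eq_one]
      exact pow_eq_one_of h hf hq' (A.pow_mem ha _) h1 h2

end Cfsg.Agent.S5023
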