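import Cfsg.Statements.S5024
import Cfsg.Agent.Lib.Helper83.RootSetCentral

set_option autoImplicit false
open Cfsg

namespace Cfsg.Agent.S5024

open Cfsg.Agent.Lib.Helper83

variable {G : Type*} [Group G] {S : Set (Subgroup G)}

lemma mem_S_of_mem_unipotentSubgroups (hS : Cfsg.IsRootSubgroupSet S) {C D E : Subgroup G}
    (hC : C ∈ S) (hE : E ∈ Cfsg.unipotentSubgroups C D) : E ∈ S := by
  obtain ⟨x, _, rfl⟩ := hE
  exact hS.conj_mem C hC x

/-- If the rank one group `⟨A, B⟩` lies in the rank one group `⟨C, D⟩` (with `A, C, D ∈ S`), then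
`A` is a conjugate of `C` under `⟨C, D⟩`. -/
lemma mem_unipotentSubgroups_of_le (hS : Cfsg.IsRootSubgroupSet S) {A B C D : Subgroup G}
    (hA : A ∈ S) (hC : C ∈ S) (hAB : Cfsg.IsRankOnePair A B) (hCD : Cfsg.IsRankOnePair C D)
    (hle : A ⊔ B ≤ C ⊔ D) : A ∈ Cfsg.unipotentSubgroups C D := by
  by_contra hAΩ
  have hAX : A ≤ C ⊔ D := le_sup_left.trans hle
  -- Step 1: no member of Ω forms a rank one pair with A
  have step1 : ∀ E ∈ Cfsg.unipotentSubgroups C D, ¬ Cfsg.IsRankOnePair A E := by
    intro E hE hAE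
    obtain ⟨a, ha, ha1⟩ := RankOne.exists_ne_one_left hAE
    obtain ⟨e, he, _, heq⟩ := hAE.cond_left a ha ha1
    apply hAΩ
    have h1 : Cfsg.conjBy E a⁻¹ ∈ Cfsg.unipotentSubgroups C D :=
      RankOne.conjBy_mem_unipotentSubgroups hE (Subgroup.inv_mem _ (hAX ha))
    have h2 : A = Cfsg.conjBy (Cfsg.conjBy E a⁻¹) e := by
      rw [← heq, conjBy_conjBy_inv]
    rw [h2]
    exact RankOne.conjBy_mem_unipotentSubgroups h1 (RankOne.le_of_mem_unipotentSubgroups hE he)
  -- Step 2: A normalizes every member of Ω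
  have step2 : ∀ E ∈ Cfsg.unipotentSubgroups C D, A ≤ Subgroup.normalizer (E : Set G) := by
    intro E hE
    have hES : E ∈ S := mem_S_of_mem_unipotentSubgroups hS hC hE
    rcases hS.pair A hA E hES with h | h | h
    · rw [Subgroup.commutator_eq_bot_iff_le_centralizer] at h
      exact h.trans (Subgroup.centralizer_le_normalizer _)
    · exact absurd h (step1 E hE)
    · intro a ha
      by_contra haN
      have hne : Cfsg.conjBy E a ≠ E := fun heq => haN (conjBy_eq_self_iff.mp heq)
      have hE' : Cfsg.conjBy E a ∈ Cfsg.unipotentSubgroups C D :=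
        RankOne.conjBy_mem_unipotentSubgroups hE (hAX ha)
      obtain ⟨e, he1⟩ := (Subgroup.ne_bot_iff_exists_ne_one).mp (hS.ne_bot E hES)
      have he : (e : G) ∈ E := e.2
      have hcen := RootSet.commutator_central h ha he
      -- a e a⁻¹ = c e with c central in ⟨A, E⟩, so a e a⁻¹ normalizes E
      have hN : a * e * a⁻¹ ∈ Subgroup.normalizer (E : Set G) := by
        have : a * (e : G) * a⁻¹ = (a * e * a⁻¹ * (e : G)⁻¹) * e := by group
        rw [this]
        refine Subgroup.mul_mem _ ?_ (Subgroup.le_normalizer he)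
        apply Subgroup.centralizer_le_normalizer _
        rw [Subgroup.mem_centralizer_iff]
        intro y hy
        exact (hcen y (Subgroup.mem_sup_right hy)).symm
      have hmem : a * e * a⁻¹ ∈ Cfsg.conjBy E a := conj_mem_conjBy he
      have h1 := RankOne.eq_one_of_mem_of_mem_normalizer
        (RankOne.pair_of_mem_unipotentSubgroups hCD hE' hE hne).1 hmem hN
      apply he1
      have h2 : (e : G) = a⁻¹ * (a * e * a⁻¹) * a := by group
      have h3 : (e : G) = 1 := by rw [h2, h1]; group
      exact Subtype.ext h3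
  -- Step 3: A centralizes ⟨C, D⟩, hence B
  have step3 : A ≤ Subgroup.centralizer ((C ⊔ D : Subgroup G) : Set G) := by
    intro a ha
    exact RankOne.mem_centralizer_of_forall_normalizer hCD (fun E hE => step2 E hE ha)
  have hBN : B ≤ Subgroup.normalizer (A : Set G) := by
    intro b hb
    apply Subgroup.centralizer_le_normalizer _
    rw [Subgroup.mem_centralizer_iff]
    intro a ha
    have := Subgroup.mem_centralizer_iff.mp (step3 ha) b (hle (Subgroup.mem_sup_right hb))
    exact this.symm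
  have h2 : B ⊓ Subgroup.normalizer (A : Set G) = B := inf_eq_left.mpr hBN
  rw [RankOne.inf_normalizer_left hAB] at h2
  exact RankOne.right_ne_bot hAB h2.symm

/-- Let S be a set of abstract root subgroups of G, A and C members of S, B a rank one partner of A in S and D a rank one partner of C in S. If the rank one group ⟨A, B⟩ is contained in ⟨C, D⟩ then the two coincide, and C and D are conjugates of A inside ⟨A, B⟩. -/
theorem result {G : Type*} [Group G] {S : Set (Subgroup G)} (hS : Cfsg.IsRootSubgroupSet S)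
    {A B C D : Subgroup G} (hA : A ∈ S) (hC : C ∈ S) (hB : B ∈ Cfsg.rankOnePartners S A) (hD : D ∈ Cfsg.rankOnePartners S C)
    (hle : A ⊔ B ≤ C ⊔ D) : A ⊔ B = C ⊔ D ∧ C ∈ Cfsg.unipotentSubgroups A B ∧ D ∈ Cfsg.unipotentSubgroups A B := by
  have hAΩ : A ∈ Cfsg.unipotentSubgroups C D := mem_unipotentSubgroups_of_le hS hA hC hB.2 hD.2 hle
  have hBΩ : B ∈ Cfsg.unipotentSubgroups C D :=
    mem_unipotentSubgroups_of_le hS hB.1 hC (RankOnePair_symm hB.2) hD.2 (by rwa [sup_comm])
  have h1 := RankOne.pair_of_mem_unipotentSubgroups hD.2 hAΩ hBΩ hB.2.ne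
  have h2 := RankOne.unipotentSubgroups_eq_of_mem hD.2 hAΩ hBΩ hB.2.ne
  refine ⟨h1.2, ?_, ?_⟩
  · rw [h2]; exact RankOne.left_mem_unipotentSubgroups
  · rw [h2]; exact RankOne.right_mem_unipotentSubgroups hD.2

end Cfsg.Agent.S5024
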