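import Cfsg.Statements.S5026
import Cfsg.Agent.Lib.Helper83.RootSetCentral

set_option autoImplicit false
open Cfsg

namespace Cfsg.Agent.S5026

open Cfsg.Agent.Lib.Helper83

variable {G : Type*} [Group G] {S : Set (Subgroup G)}

lemma le_centralizer_zpowers_iff {E : Subgroup G} {x : G} :
    E ≤ Subgroup.centralizer ((Subgroup.zpowers x : Subgroup G) : Set G) ↔ ∀ e ∈ E, e * x = x * e := by
  constructor
  · intro h e he
    exact (Subgroup.mem_centralizer_iff.mp (h he) x (Subgroup.mem_zpowers x)).symm
  · intro h e he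
    rw [Subgroup.mem_centralizer_iff]
    rintro y ⟨n, rfl⟩
    have : Commute e x := h e he
    exact (this.zpow_right n).eq.symm

/-- The contradiction in the case where `E` forms a rank one pair with both `A` and `B`. -/
lemma both_rank_one_false {A B E : Subgroup G} (hEA : Cfsg.IsRankOnePair E A)
    (hEB : Cfsg.IsRankOnePair E B) {a b : G} (ha : a ∈ A) (ha1 : a ≠ 1) (hb : b ∈ B) (hb1 : b ≠ 1)
    (hab : a * b = b * a) (hab1 : a * b ≠ 1) (hE : ∀ e ∈ E, e * (a * b) = (a * b) * e) : False := by
  obtain ⟨e, he, _, h1⟩ := hEA.cond_right a ha ha1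
  have hb1' : b⁻¹ ≠ 1 := by simpa using hb1
  obtain ⟨e', he', _, h2⟩ := hEB.cond_right b⁻¹ (B.inv_mem hb) hb1'
  rw [inv_inv] at h2
  -- a * b normalizes E
  have hN : Cfsg.conjBy E (a * b) = E := by
    rw [conjBy_eq_self_iff]
    apply Subgroup.centralizer_le_normalizer _
    rw [Subgroup.mem_centralizer_iff]
    intro x hx
    exact hE x hx
  have h3 : Cfsg.conjBy E b = Cfsg.conjBy E a⁻¹ := by
    have hN' := hN
    rw [← conjBy_conjBy] at hN'
    exact conjBy_eq_iff.mp hN'
  -- B is a conjugate of A under E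
  have hB' : B = Cfsg.conjBy A (e' * e⁻¹) := by
    rw [← conjBy_conjBy, h1, ← h3, ← h2, conjBy_conjBy_inv]
  have hAE := RankOnePair_symm hEA
  by_cases hf : e' * e⁻¹ = 1
  · rw [hf, conjBy_one] at hB'
    -- a * b ∈ A normalizes E
    apply hab1
    apply RankOne.eq_one_of_mem_of_mem_normalizer hAE (A.mul_mem ha (hB' ▸ hb))
    exact conjBy_eq_self_iff.mp hN
  · have hBΩ : B ∈ Cfsg.unipotentSubgroups A E := by
      rw [hB']
      exact ⟨_, Subgroup.mem_sup_right (E.mul_mem he' (E.inv_mem he)), rfl⟩
    have hne : B ≠ A := by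
      intro heq
      rw [hB'] at heq
      apply hf
      exact RankOne.eq_one_of_mem_of_mem_normalizer' hAE (E.mul_mem he' (E.inv_mem he))
        (conjBy_eq_self_iff.mp heq)
    have hbX : b ∈ A ⊔ E := RankOne.le_of_mem_unipotentSubgroups hBΩ hb
    have hbN : b ∈ Subgroup.normalizer (A : Set G) :=
      RankOne.mem_normalizer_of_commute hAE ha ha1 hbX hab.symm
    have hinf := RankOne.inf_normalizer_of_mem_unipotentSubgroups hAE hBΩ
      RankOne.left_mem_unipotentSubgroups hne
    have : b ∈ B ⊓ Subgroup.normalizer (A : Set G) := Subgroup.mem_inf.mpr ⟨hb, hbN⟩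
    rw [hinf, Subgroup.mem_bot] at this
    exact hb1 this

/-- Let S be a degenerate set of abstract root subgroups of G (a set of abstract transvection groups) and let a, b be commuting non-identity elements of members of S with a b ≠ 1. Then the members of S centralizing a b are exactly those centralizing both a and b. -/
theorem result {G : Type*} [Group G] {S : Set (Subgroup G)} (hS : Cfsg.IsRootSubgroupSet S) (hdeg : Cfsg.IsDegenerateRootSet S)
    {a b : G} (ha : a ∈ Cfsg.rootElements S) (hb : b ∈ Cfsg.rootElements S) (hab : a * b = b * a) (hab1 : a * b ≠ 1) :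
    Cfsg.centralizingMembers S (Subgroup.zpowers (a * b)) =
      Cfsg.centralizingMembers S (Subgroup.zpowers a) ∩ Cfsg.centralizingMembers S (Subgroup.zpowers b) := by
  obtain ⟨ha1, A, hA, haA⟩ := ha
  obtain ⟨hb1, B, hB, hbB⟩ := hb
  ext E
  simp only [Cfsg.centralizingMembers, Set.mem_inter_iff, Set.mem_ofPred_eq,
    le_centralizer_zpowers_iff]
  constructor
  · rintro ⟨hE, hEab⟩
    -- it suffices to show that E commutes with a or with b
    have fromA : (∀ e ∈ E, e * a = a * e) → (E ∈ S ∧ ∀ e ∈ E, e * a = a * e) ∧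
        (E ∈ S ∧ ∀ e ∈ E, e * b = b * e) := by
      intro h
      refine ⟨⟨hE, h⟩, hE, fun e he => ?_⟩
      have h1 := hEab e he
      have h2 := h e he
      have : a * (e * b) = a * (b * e) := by
        rw [← mul_assoc, ← h2, mul_assoc, h1, mul_assoc]
      exact mul_left_cancel this
    have fromB : (∀ e ∈ E, e * b = b * e) → (E ∈ S ∧ ∀ e ∈ E, e * a = a * e) ∧
        (E ∈ S ∧ ∀ e ∈ E, e * b = b * e) := by
      intro h
      refine ⟨⟨hE, fun e he => ?_⟩, hE, h⟩
      have h1 := hEab e he
      have h2 := h e he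
      have : (e * a) * b = (a * e) * b := by
        rw [mul_assoc, h1, mul_assoc, mul_assoc, ← h2]
      exact mul_right_cancel this
    rcases hS.pair E hE A hA with h | h | h
    · exact fromA (fun e he => RootSet.commute_of_commutator_eq_bot h he haA)
    · rcases hS.pair E hE B hB with h' | h' | h'
      · exact fromB (fun e he => RootSet.commute_of_commutator_eq_bot h' he hbB)
      · exact (both_rank_one_false h h' haA ha1 hbB hb1 hab hab1 hEab).elim
      · exact absurd h' (hdeg E hE B hB)
    · exact absurd h (hdeg E hE A hA)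
  · rintro ⟨⟨hE, hEa⟩, _, hEb⟩
    refine ⟨hE, fun e he => ?_⟩
    rw [← mul_assoc, hEa e he, mul_assoc, hEb e he, mul_assoc]

end Cfsg.Agent.S5026
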