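import Cfsg.Statements.S5027
import Cfsg.Agent.Lib.Helper83.RootSetCentral

set_option autoImplicit false
open Cfsg

namespace Cfsg.Agent.S5027

open Cfsg.Agent.Lib.Helper83
open scoped commutatorElement

/-- Let S be a set of abstract root subgroups of G such that every member of S has a rank one partner in S (the graph of rank one pairs on S has no isolated vertex). Then the second centre of G equals its centre. -/
theorem result {G : Type*} [Group G] {S : Set (Subgroup G)} (hS : Cfsg.IsRootSubgroupSet S)
    (hF : ∀ A ∈ S, ¬ Cfsg.IsIsolatedIn (Cfsg.FAdj S) S A) : Subgroup.upperCentralSeries G 2 = Subgroup.center G := by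
  apply le_antisymm
  · intro n hn
    -- n commutes with every element of every member of S
    have hcomm : ∀ A ∈ S, ∀ a ∈ A, n * a = a * n := by
      intro A hA a ha
      by_cases ha1 : a = 1
      · rw [ha1]; simp
      obtain ⟨B, hB, hAB⟩ := RootSet.rankOnePair_of_not_isolated (hF A hA) hA
      have hc : ⁅n, a⁆ ∈ Subgroup.upperCentralSeries G 1 :=
        (Subgroup.mem_upperCentralSeries_succ_iff.mp hn) _
      rw [Subgroup.upperCentralSeries_one] at hc
      have hz : ⁅n, a⁆ ∈ Subgroup.centralizer ((A ⊔ B : Subgroup G) : Set G) :=
        Subgroup.center_le_centralizer _ hc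
      have hna : ⁅n, a⁆ * a = n * a * n⁻¹ := by rw [commutatorElement_def]; group
      have hE : Cfsg.conjBy A n ∈ S := hS.conj_mem A hA n
      have hmem : ⁅n, a⁆ * a ∈ Cfsg.conjBy A n := by rw [hna]; exact conj_mem_conjBy ha
      have hne : ⁅n, a⁆ * a ≠ 1 := by
        rw [hna]
        intro h
        apply ha1
        have : a = n⁻¹ * (n * a * n⁻¹) * n := by group
        rw [this, h]; group
      have h1 := RootSet.central_eq_one hS hA hB hAB hz ha ha1 hE hmem hne
      rw [commutatorElement_def] at h1
      have : n * a = (n * a * n⁻¹ * a⁻¹) * (a * n) := by group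
      rw [this, h1, one_mul]
    rw [Subgroup.mem_center_iff]
    have hle : (⨆ A ∈ S, A) ≤ Subgroup.centralizer ({n} : Set G) := by
      refine iSup₂_le ?_
      intro A hA a ha
      rw [Subgroup.mem_centralizer_iff]
      rintro m rfl
      exact hcomm A hA a ha
    rw [hS.generates] at hle
    intro g
    have := Subgroup.mem_centralizer_iff.mp (hle (Subgroup.mem_top g)) n rfl
    exact this.symm
  · rw [← Subgroup.upperCentralSeries_one]
    exact Subgroup.upperCentralSeries_mono G (by norm_num)

end Cfsg.Agent.S5027
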