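import Cfsg.Statements.S5041
import Cfsg.Agent.Lib.Helper83.RootClass

set_option autoImplicit false
open Cfsg

namespace Cfsg.Agent.S5041

open Cfsg.Agent.Lib.Helper83

section
variable {G : Type*} [Group G] {S : Set (Subgroup G)}

/-- A conjugation-step criterion for connectedness of a graph on a class of subgroups. -/
lemma connected_of_step {adj : Subgroup G → Subgroup G → Prop} (hS : Cfsg.IsRootSubgroupSet S)
    (hconj : ∀ A ∈ S, ∀ B ∈ S, ∃ g : G, B = Cfsg.conjBy A g)
    (hstep : ∀ C ∈ S, ∀ D ∈ S, ∀ d ∈ D, Relation.ReflTransGen adj C (Cfsg.conjBy C d)) :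
    Cfsg.IsConnectedFamily adj S := by
  intro A hA B hB
  let T : Subgroup G :=
    { carrier := {g | ∀ C ∈ S, Relation.ReflTransGen adj A C →
        Relation.ReflTransGen adj A (Cfsg.conjBy C g) ∧
        Relation.ReflTransGen adj A (Cfsg.conjBy C g⁻¹)}
      one_mem' := by
        intro C _ hC
        simp only [inv_one, conjBy_one]
        exact ⟨hC, hC⟩
      mul_mem' := by
        intro g h hg hh C hCS hC
        constructor
        · rw [← conjBy_conjBy]
          exact (hg _ (hS.conj_mem C hCS h) (hh C hCS hC).1).1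
        · rw [mul_inv_rev, ← conjBy_conjBy]
          exact (hh _ (hS.conj_mem C hCS g⁻¹) (hg C hCS hC).2).2
      inv_mem' := by
        intro g hg C hCS hC
        rw [inv_inv]
        exact ⟨(hg C hCS hC).2, (hg C hCS hC).1⟩ }
  have hT : T = ⊤ := by
    rw [eq_top_iff, ← hS.generates]
    refine iSup₂_le ?_
    intro D hD d hd C hCS hC
    exact ⟨hC.trans (hstep C hCS D hD d hd), hC.trans (hstep C hCS D hD d⁻¹ (D.inv_mem hd))⟩
  obtain ⟨g, rfl⟩ := hconj A hA B hB
  have hg : g ∈ T := by rw [hT]; exact Subgroup.mem_top g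
  exact (hg A hA Relation.ReflTransGen.refl).1

/-- The conjugation step in the graph of line partners. -/
lemma estep (hS : Cfsg.IsRootSubgroupClass S) (hnd : Cfsg.IsNondegenerateRootSet S)
    {C D : Subgroup G} (hC : C ∈ S) (hD : D ∈ S) {d : G} (hd : d ∈ D) :
    Relation.ReflTransGen (Cfsg.EAdj S S) C (Cfsg.conjBy C d) := by
  have hF := RootClass.not_isolated hS hnd
  rcases hS.1.pair C hC D hD with h | h | h
  · have : Cfsg.conjBy C d = C := by
      rw [conjBy_eq_self_iff]
      apply Subgroup.centralizer_le_normalizer _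
      rw [Subgroup.mem_centralizer_iff]
      intro c hc
      exact mul_comm_of_commutator_eq_bot h hc hd
    rw [this]
  · obtain ⟨C', hC', h1, _, _⟩ := RootClass.exists_linePartner_commCase hS hnd hC hD h
    have hC'S : C' ∈ S := hC'.1.1
    have e1 : Cfsg.EAdj S S C C' := ⟨hC, hC'S, hC'⟩
    have e3 : Cfsg.EAdj S S (Cfsg.conjBy C' d) (Cfsg.conjBy C d) :=
      ⟨hS.1.conj_mem C' hC'S d, hS.1.conj_mem C hC d,
        RootSet.linePartners_conj hS.1 (RootSet.linePartners_symm hC hC') d⟩
    by_cases hne : Cfsg.conjBy C' d = C'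
    · rw [hne] at e3
      exact (Relation.ReflTransGen.single e1).trans (Relation.ReflTransGen.single e3)
    · have e2 : Cfsg.EAdj S S C' (Cfsg.conjBy C' d) :=
        ⟨hC'S, hS.1.conj_mem C' hC'S d,
          RootSet.conjBy_mem_linePartners hS.1 (hF C' hC'S) hC'S hD h1 hd hne⟩
      exact ((Relation.ReflTransGen.single e1).trans (Relation.ReflTransGen.single e2)).trans
        (Relation.ReflTransGen.single e3)
  · by_cases hne : Cfsg.conjBy C d = C
    · rw [hne]
    · exact Relation.ReflTransGen.single ⟨hC, hS.1.conj_mem C hC d,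
        RootSet.conjBy_mem_linePartners hS.1 (hF C hC) hC hD h hd hne⟩

end

/-- Let S be a non-degenerate class of abstract root subgroups of G. Then the graph on S joining A to its line partners, and the commuting graph on S, are both connected. -/
theorem result {G : Type*} [Group G] {S : Set (Subgroup G)} (hS : Cfsg.IsRootSubgroupClass S) (hnd : Cfsg.IsNondegenerateRootSet S) :
    Cfsg.IsConnectedFamily (Cfsg.EAdj S S) S ∧ Cfsg.IsConnectedFamily (Cfsg.DAdj S) S := by
  have hE : Cfsg.IsConnectedFamily (Cfsg.EAdj S S) S :=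
    connected_of_step hS.1 hS.2.2 (fun C hC D hD d hd => estep hS hnd hC hD hd)
  refine ⟨hE, ?_⟩
  intro A hA B hB
  have hle : Cfsg.EAdj S S ≤ Cfsg.DAdj S := by
    rintro P Q ⟨hP, hQ, ⟨_, hne, hcomm⟩, _⟩
    exact ⟨hP, hQ, hne.symm, hcomm⟩
  exact Relation.ReflTransGen.mono hle A B (hE A hA B hB)

end Cfsg.Agent.S5041
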