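import Cfsg.Statements.S5040
import Cfsg.Agent.Lib.Helper83.RootClass
import Cfsg.Agent.S5036
import Cfsg.Agent.S5041

set_option autoImplicit false
open Cfsg

namespace Cfsg.Agent.S5040

open Cfsg.Agent.Lib.Helper83

section
variable {G : Type*} [Group G] {S Δ : Set (Subgroup G)}

/-! ### Lines -/

/-- A line has at least three members. -/
lemma exists_third (hS : IsRootSubgroupSet S) {A L : Subgroup G} (hA : A ∈ S)
    (hL : L ∈ linePartners S A) :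
    ∀ P ∈ membersIn S (A ⊔ L), ∀ Q ∈ membersIn S (A ⊔ L),
      ∃ M ∈ membersIn S (A ⊔ L), M ≠ P ∧ M ≠ Q := by
  obtain ⟨⟨hLS, hLA, hAL⟩, hpart⟩ := hL
  obtain ⟨hle, hcov, hdisj⟩ := hpart
  have hAmem : A ∈ membersIn S (A ⊔ L) := ⟨hA, le_sup_left⟩
  have hLmem : L ∈ membersIn S (A ⊔ L) := ⟨hLS, le_sup_right⟩
  intro P hP Q hQ
  by_cases hPQ : P = Q
  · subst hPQ
    by_cases hPA : A = P
    · exact ⟨L, hLmem, fun h => hLA (h.trans hPA.symm), fun h => hLA (h.trans hPA.symm)⟩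
    · exact ⟨A, hAmem, hPA, hPA⟩
  · obtain ⟨p, hp1⟩ := (Subgroup.ne_bot_iff_exists_ne_one).mp (hS.ne_bot P hP.1)
    obtain ⟨q, hq1⟩ := (Subgroup.ne_bot_iff_exists_ne_one).mp (hS.ne_bot Q hQ.1)
    have hp : (p : G) ∈ P := p.2
    have hq : (q : G) ∈ Q := q.2
    have hp1' : (p : G) ≠ 1 := by simpa using hp1
    have hq1' : (q : G) ≠ 1 := by simpa using hq1
    have hinf := hdisj P hP Q hQ hPQ
    have hinf' : ∀ x, x ∈ P → x ∈ Q → x = 1 := by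
      intro x hxP hxQ
      have : x ∈ P ⊓ Q := Subgroup.mem_inf.mpr ⟨hxP, hxQ⟩
      rwa [hinf, Subgroup.mem_bot] at this
    have hpq : (p : G) * q ∈ A ⊔ L := Subgroup.mul_mem _ (hP.2 hp) (hQ.2 hq)
    have hpq1 : (p : G) * q ≠ 1 := by
      intro h
      apply hq1'
      have : (q : G) = (p : G)⁻¹ := eq_inv_of_mul_eq_one_right h
      exact hinf' q (this ▸ P.inv_mem hp) hq
    obtain ⟨M, hM, hpqM⟩ := hcov _ hpq hpq1
    refine ⟨M, hM, ?_, ?_⟩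
    · rintro rfl
      apply hq1'
      have : (q : G) ∈ M := by
        have e : (q : G) = (p : G)⁻¹ * ((p : G) * q) := by group
        rw [e]; exact M.mul_mem (M.inv_mem hp) hpqM
      exact hinf' q this hq
    · rintro rfl
      apply hp1'
      have : (p : G) ∈ M := by
        have e : (p : G) = ((p : G) * q) * (q : G)⁻¹ := by group
        rw [e]; exact M.mul_mem hpqM (M.inv_mem hq)
      exact hinf' p hp this

/-- On the line through `A` and `L` there is a member `D` which is in the commutator case with the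
rank one partner `B` of `A`; the members of the line are the conjugates of `A` under `⁅D, B⁆`
together with `D`. -/
lemma line_nonpartner (hS : IsRootSubgroupSet S)
    (hF : ∀ A ∈ S, ¬ IsIsolatedIn (FAdj S) S A) {A L B : Subgroup G} (hA : A ∈ S)
    (hL : L ∈ linePartners S A) (hB : B ∈ S) (hAB : IsRankOnePair A B) :
    ∃ D, D ∈ linePartners S A ∧ A ⊔ D = A ⊔ L ∧ RootCommutatorCase S D B ∧
      ⁅A, ⁅D, B⁆⁆ = D ∧
      membersIn S (A ⊔ D) = (fun f : G => conjBy A f) '' ((⁅D, B⁆ : Subgroup G) : Set G) ∪ {D} := by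
  obtain ⟨⟨hLS, hLA, hAL⟩, hle, hcov, hdisj⟩ := id hL
  have hcover : ∀ x ∈ A ⊔ L, x ≠ 1 → ∃ D ∈ S, x ∈ D := by
    intro x hx hx1
    obtain ⟨D, hD, hxD⟩ := hcov x hx hx1
    exact ⟨D, hD.1, hxD⟩
  have key : ∀ D, D ∈ S → D ≠ A → ⁅A, D⁆ = ⊥ → (∀ x ∈ A ⊔ D, x ≠ 1 → ∃ D' ∈ S, x ∈ D') →
      ¬ IsRankOnePair D B →
      D ∈ linePartners S A ∧ RootCommutatorCase S D B ∧ ⁅A, ⁅D, B⁆⁆ = D ∧
      membersIn S (A ⊔ D) =
        (fun f : G => conjBy A f) '' ((⁅D, B⁆ : Subgroup G) : Set G) ∪ {D} := by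
    intro D hD hDA hAD hcoverD hDB
    obtain ⟨E', hE', hDE'⟩ := RootSet.rankOnePair_of_not_isolated (hF D hD) hD
    obtain ⟨h1, h2, h3⟩ :=
      RootSet.half hS hA hD hB hE' hAB hDE' hAD (Ne.symm hDA) hcoverD hDB
    have hr := Cfsg.Agent.S5029.result hS (hF A hA) hA h1.1 h2.1
    have hmem := hr.1
    have hpartD := hr.2.1
    rw [h3] at hmem hpartD
    exact ⟨⟨⟨hD, hDA, hAD⟩, hpartD⟩, h1, h3, hmem⟩
  by_cases hLB : IsRankOnePair L B
  · have hAmem : A ∈ membersIn S (A ⊔ L) := ⟨hA, le_sup_left⟩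
    have hLmem : L ∈ membersIn S (A ⊔ L) := ⟨hLS, le_sup_right⟩
    obtain ⟨D, hD, hDA, _, hDB, b, hb, hb1, hbAD⟩ :=
      Cfsg.Agent.S5038.exists_nonpartner hAL (hdisj A hAmem L hLmem (Ne.symm hLA)) hcov hAB hLB
    have hNN : ⁅A ⊔ L, A ⊔ L⁆ = ⊥ := by
      have hLA' : ⁅L, A⁆ = ⊥ := by rw [Subgroup.commutator_comm]; exact hAL
      exact sup_commutator_sup_eq_bot (RootSet.commutator_self hS hA) hAL hLA'
        (RootSet.commutator_self hS hLS)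
    have hAD : ⁅A, D⁆ = ⊥ := by
      rw [eq_bot_iff, ← hNN]
      exact Subgroup.commutator_mono le_sup_left hD.2
    have hcoverD : ∀ x ∈ A ⊔ D, x ≠ 1 → ∃ D' ∈ S, x ∈ D' := by
      intro x hx hx1
      exact hcover x ((sup_le le_sup_left hD.2) hx) hx1
    obtain ⟨k1, k2, k3, k4⟩ := key D hD.1 hDA hAD hcoverD hDB
    refine ⟨D, k1, ?_, k2, k3, k4⟩
    apply le_antisymm (sup_le le_sup_left hD.2)
    refine sup_le le_sup_left ?_
    obtain ⟨M', hM', hbM'⟩ := k1.2.2.1 b hbAD hb1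
    obtain ⟨E', hE', hLE'⟩ := RootSet.rankOnePair_of_not_isolated (hF L hLS) hLS
    have hLM' : L = M' := RootSet.eq_of_inf_ne_bot hS hE' hM'.1 hLE' hb hbM' hb1
    rw [hLM']
    exact hM'.2
  · obtain ⟨k1, k2, k3, k4⟩ := key L hLS hLA hAL hcover hLB
    exact ⟨L, k1, rfl, k2, k3, k4⟩

/-! ### The stabilizer of `Δ` -/

/-- The elements of `G` permuting `Δ` by conjugation. -/
def Stab (Δ : Set (Subgroup G)) : Subgroup G where
  carrier := {g | ∀ A ∈ Δ, conjBy A g ∈ Δ ∧ conjBy A g⁻¹ ∈ Δ}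
  one_mem' := by
    intro A hA
    simp only [inv_one, conjBy_one]
    exact ⟨hA, hA⟩
  mul_mem' := by
    intro g h hg hh A hA
    constructor
    · rw [← conjBy_conjBy]
      exact (hg _ (hh A hA).1).1
    · rw [mul_inv_rev, ← conjBy_conjBy]
      exact (hh _ (hg A hA).2).2
  inv_mem' := by
    intro g hg A hA
    rw [inv_inv]
    exact ⟨(hg A hA).2, (hg A hA).1⟩

lemma mem_Stab {g : G} : g ∈ Stab Δ ↔ ∀ A ∈ Δ, conjBy A g ∈ Δ ∧ conjBy A g⁻¹ ∈ Δ := Iff.rfl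

/-- Fact 1: an element of a member of `S` mapping some member of `Δ` into `Δ` stabilizes `Δ`. -/
lemma mem_Stab_of_conj_mem (hΔ : IsWeakTISubset S Δ) {D E : Subgroup G} (hD : D ∈ S) {d : G}
    (hd : d ∈ D) (hE : E ∈ Δ) (hEd : conjBy E d ∈ Δ) : d ∈ Stab Δ := by
  by_cases hd1 : d = 1
  · rw [hd1]; exact (Stab Δ).one_mem
  have hroot : d ∈ rootElements S := ⟨hd1, D, hD, hd⟩
  rcases hΔ.2.2.2 d hroot with h | h
  · intro A hA
    constructor
    · rw [← h]; exact ⟨A, hA, rfl⟩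
    · have : A ∈ (fun A => conjBy A d) '' Δ := by rw [h]; exact hA
      obtain ⟨A', hA', rfl⟩ := this
      show conjBy (conjBy A' d) d⁻¹ ∈ Δ
      rw [conjBy_inv_conjBy]; exact hA'
  · exact absurd hEd (Set.disjoint_left.mp h ⟨E, hE, rfl⟩)

/-- Fact 2: a member of `S` commuting with a member of `Δ` stabilizes `Δ`. -/
lemma le_Stab_of_commute (hΔ : IsWeakTISubset S Δ) {D E : Subgroup G} (hD : D ∈ S)
    (hE : E ∈ Δ) (hcomm : ∀ e ∈ E, ∀ d ∈ D, e * d = d * e) : D ≤ Stab Δ := by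
  intro d hd
  apply mem_Stab_of_conj_mem hΔ hD hd hE
  have : conjBy E d = E := by
    rw [conjBy_eq_self_iff]
    apply Subgroup.centralizer_le_normalizer _
    rw [Subgroup.mem_centralizer_iff]
    intro e he
    exact hcomm e he d hd
  rw [this]; exact hE

/-- Fact 3: the stabilizer is proper. -/
lemma Stab_ne_top (hS : IsRootSubgroupClass S) (hΔ : IsWeakTISubset S Δ) : Stab Δ ≠ ⊤ := by
  intro htop
  apply hΔ.2.2.1
  apply Set.Subset.antisymm hΔ.1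
  intro C hC
  obtain ⟨E, hE, _⟩ := hΔ.2.1
  obtain ⟨g, rfl⟩ := hS.2.2 E (hΔ.1 hE) C hC
  have hg : g ∈ Stab Δ := by rw [htop]; trivial
  exact (hg E hE).1

/-- Step A: if all members of a line except possibly one lie in `Δ`, then all do, and they are
conjugate under the stabilizer. -/
lemma line_trick (hS : IsRootSubgroupSet S) (hF : ∀ A ∈ S, ¬ IsIsolatedIn (FAdj S) S A)
    (hΔ : IsWeakTISubset S Δ) {A L L₀ : Subgroup G} (hA : A ∈ S) (hL : L ∈ linePartners S A)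
    (hL₀ : L₀ ∈ membersIn S (A ⊔ L))
    (hmem : ∀ M ∈ membersIn S (A ⊔ L), M ≠ L₀ → M ∈ Δ) :
    ∀ M₁ ∈ membersIn S (A ⊔ L), M₁ ∈ Δ ∧
      ∀ M₂ ∈ membersIn S (A ⊔ L), ∃ x ∈ Stab Δ, conjBy M₁ x = M₂ := by
  have h3 := exists_third hS hA hL
  have h2t := Cfsg.Agent.S5038.result hS hF hA hL
  -- the normalizing members stabilize `Δ`
  have hR : (⨆ E ∈ normalizingMembers S (A ⊔ L), E) ≤ Stab Δ := by
    refine iSup₂_le fun E hE d hd => ?_
    have hdN : d ∈ Subgroup.normalizer ((A ⊔ L : Subgroup G) : Set G) := hE.2 hd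
    have hperm : ∀ g ∈ Subgroup.normalizer ((A ⊔ L : Subgroup G) : Set G),
        ∀ M ∈ membersIn S (A ⊔ L), conjBy M g ∈ membersIn S (A ⊔ L) := by
      intro g hg M hM
      refine ⟨hS.conj_mem M hM.1 g, ?_⟩
      have h1 : conjBy (A ⊔ L) g = A ⊔ L := conjBy_eq_self_iff.mpr hg
      rw [← h1]
      exact conjBy_mono hM.2 g
    have hM₁ : conjBy L₀ d⁻¹ ∈ membersIn S (A ⊔ L) :=
      hperm _ (Subgroup.inv_mem _ hdN) L₀ hL₀
    obtain ⟨M, hM, hML₀, hMM₁⟩ := h3 L₀ hL₀ _ hM₁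
    have hMd : conjBy M d ≠ L₀ := by
      intro h
      apply hMM₁
      rw [← h, conjBy_inv_conjBy]
    exact mem_Stab_of_conj_mem hΔ hE.1 hd (hmem M hM hML₀) (hmem _ (hperm d hdN M hM) hMd)
  -- transitivity
  have htrans : ∀ M₁ ∈ membersIn S (A ⊔ L), ∀ M₂ ∈ membersIn S (A ⊔ L),
      ∃ x ∈ Stab Δ, conjBy M₁ x = M₂ := by
    intro M₁ hM₁ M₂ hM₂
    obtain ⟨C₂, hC₂, hC₂M₁, _⟩ := h3 M₁ hM₁ M₁ hM₁
    obtain ⟨D₂, hD₂, hD₂M₂, _⟩ := h3 M₂ hM₂ M₂ hM₂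
    obtain ⟨x, hx, hx1, _⟩ := h2t M₁ hM₁ C₂ hC₂ M₂ hM₂ D₂ hD₂ (Ne.symm hC₂M₁) (Ne.symm hD₂M₂)
    exact ⟨x, hR hx, hx1⟩
  have hL₀Δ : L₀ ∈ Δ := by
    obtain ⟨M, hM, hML₀, _⟩ := h3 L₀ hL₀ L₀ hL₀
    obtain ⟨x, hx, hxM⟩ := htrans M hM L₀ hL₀
    rw [← hxM]
    exact (hx M (hmem M hM hML₀)).1
  intro M₁ hM₁
  refine ⟨?_, htrans M₁ hM₁⟩
  by_cases h : M₁ = L₀
  · rw [h]; exact hL₀Δ
  · exact hmem M₁ hM₁ h

/-- Step B: if `A ∈ Δ` has a rank one partner `B ∈ Δ`, every line partner of `A` lies in `Δ` and is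
conjugate to `A` under the stabilizer. -/
lemma linePartner_mem (hS : IsRootSubgroupSet S) (hF : ∀ A ∈ S, ¬ IsIsolatedIn (FAdj S) S A)
    (hΔ : IsWeakTISubset S Δ) {A B L : Subgroup G} (hA : A ∈ Δ) (hB : B ∈ Δ)
    (hAB : IsRankOnePair A B) (hL : L ∈ linePartners S A) :
    L ∈ Δ ∧ ∃ x ∈ Stab Δ, conjBy A x = L := by
  have hAS := hΔ.1 hA
  have hBS := hΔ.1 hB
  obtain ⟨D, hD, hsup, hDB, hK, hmem⟩ := line_nonpartner hS hF hAS hL hBS hAB
  -- `⁅D, B⁆` stabilizes `Δ`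
  have hFS : ⁅D, B⁆ ≤ Stab Δ := by
    apply le_Stab_of_commute hΔ hDB.1 hB
    intro b hb f hf
    exact (hDB.2.1 f hf b (Subgroup.mem_sup_right hb)).symm
  have hDmem : D ∈ membersIn S (A ⊔ D) := ⟨hD.1.1, le_sup_right⟩
  have hAmem : A ∈ membersIn S (A ⊔ D) := ⟨hAS, le_sup_left⟩
  have hall := line_trick hS hF hΔ hAS hD hDmem (by
    intro M hM hMD
    rw [hmem] at hM
    rcases hM with ⟨f, hf, rfl⟩ | hM
    · exact ((hFS hf) A hA).1
    · exact absurd hM hMD)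
  have hLmem : L ∈ membersIn S (A ⊔ D) := by
    rw [hsup]; exact ⟨hL.1.1, le_sup_right⟩
  exact ⟨(hall L hLmem).1, (hall A hAmem).2 L hLmem⟩

/-- Step C: `Δ` contains no rank one pair. -/
lemma no_rankOne (hS : IsRootSubgroupClass S) (hnd : IsNondegenerateRootSet S)
    (hΔ : IsWeakTISubset S Δ) {A B : Subgroup G} (hA : A ∈ Δ) (hB : B ∈ Δ)
    (hAB : IsRankOnePair A B) : False := by
  have hF := RootClass.not_isolated hS hnd
  have hconn := (Cfsg.Agent.S5041.result hS hnd).1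
  have key : ∀ C, Relation.ReflTransGen (EAdj S S) A C → C ∈ Δ ∧ ∃ x ∈ Stab Δ, conjBy A x = C := by
    intro C hC
    induction hC with
    | refl => exact ⟨hA, 1, (Stab Δ).one_mem, conjBy_one A⟩
    | tail _ hbc ih =>
      obtain ⟨hCΔ, x, hx, rfl⟩ := ih
      have hB' : conjBy B x ∈ Δ := (hx B hB).1
      obtain ⟨h1, y, hy, hy1⟩ := linePartner_mem hS.1 hF hΔ hCΔ hB' (RankOne.conj hAB x) hbc.2.2
      refine ⟨h1, y * x, (Stab Δ).mul_mem hy hx, ?_⟩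
      rw [← conjBy_conjBy, hy1]
  apply hΔ.2.2.1
  apply Set.Subset.antisymm hΔ.1
  intro C hC
  exact (key C (hconn A (hΔ.1 hA) C hC)).1

/-- Step D: `Δ` contains no pair in the commutator case. -/
lemma no_commCase (hS : IsRootSubgroupClass S) (hnd : IsNondegenerateRootSet S)
    (hΔ : IsWeakTISubset S Δ) {A B : Subgroup G} (hA : A ∈ Δ) (hB : B ∈ Δ)
    (hAB : RootCommutatorCase S A B) : False := by
  have hF := RootClass.not_isolated hS hnd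
  have hAS := hΔ.1 hA
  have hBS := hΔ.1 hB
  have hFl : ⁅A, B⁆ ∈ linePartners S A :=
    RootSet.commutator_mem_linePartners hS.1 (hF A hAS) hAS hBS hAB
  obtain ⟨A', hA', hAA'⟩ := RootClass.exists_partner hS hnd hAS
  obtain ⟨D, hD, hsup, hDA', hK, _⟩ := line_nonpartner hS.1 hF hAS hFl hA' hAA'
  -- move `(A, D)` to `(⁅A, B⁆, A)` on the line
  have hAmem : A ∈ membersIn S (A ⊔ ⁅A, B⁆) := ⟨hAS, le_sup_left⟩
  have hFmem : ⁅A, B⁆ ∈ membersIn S (A ⊔ ⁅A, B⁆) := ⟨hAB.1, le_sup_right⟩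
  have hDmem : D ∈ membersIn S (A ⊔ ⁅A, B⁆) := by
    rw [← hsup]; exact ⟨hD.1.1, le_sup_right⟩
  obtain ⟨x, _, hx1, hx2⟩ := Cfsg.Agent.S5038.result hS.1 hF hAS hFl A hAmem D hDmem _ hFmem A hAmem
    (Ne.symm hD.1.2.1) hFl.1.2.1
  -- `D₁ = ⁅D, A'⁆ ^ x` satisfies `⁅⁅A, B⁆, D₁⁆ = A`
  have hD₁S : conjBy ⁅D, A'⁆ x ∈ S := hS.1.conj_mem _ hDA'.1 x
  have hrel : ⁅⁅A, B⁆, conjBy ⁅D, A'⁆ x⁆ = A := by
    rw [← hx1, ← conjBy_commutator, hK, hx2]
  have hrel' : ⁅conjBy ⁅D, A'⁆ x, ⁅A, B⁆⁆ = A := by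
    rw [Subgroup.commutator_comm]; exact hrel
  have hBD₁ : IsRankOnePair B (conjBy ⁅D, A'⁆ x) :=
    (Cfsg.Agent.S5036.result hS.1 hAS hBS hAB.1 hD₁S hrel').1
  -- `D₁` commutes with `A`
  have hcc : RootCommutatorCase S ⁅A, B⁆ (conjBy ⁅D, A'⁆ x) :=
    RootSet.commCase_of_commutator_mem hS.1 hAB.1 hD₁S (by rw [hrel]; exact hAS)
  have hD₁Stab : conjBy ⁅D, A'⁆ x ≤ Stab Δ := by
    apply le_Stab_of_commute hΔ hD₁S hA
    intro a ha d hd
    have ha' : a ∈ ⁅⁅A, B⁆, conjBy ⁅D, A'⁆ x⁆ := by rw [hrel]; exact ha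
    exact hcc.2.1 a ha' d (Subgroup.mem_sup_right hd)
  obtain ⟨d, hd, hd1⟩ := RankOne.exists_ne_one_right hBD₁
  have hB' : conjBy B d ∈ Δ := ((hD₁Stab hd) B hB).1
  have hne : B ≠ conjBy B d := by
    intro h
    apply hd1
    apply RankOne.eq_one_of_mem_of_mem_normalizer' hBD₁ hd
    rw [← conjBy_eq_self_iff]
    exact h.symm
  have hpair := (RankOne.pair_of_mem_unipotentSubgroups hBD₁ RankOne.left_mem_unipotentSubgroups
    (⟨d, Subgroup.mem_sup_right hd, rfl⟩ : conjBy B d ∈ unipotentSubgroups B _) hne).1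
  exact no_rankOne hS hnd hΔ hB hB' hpair

end

/-- Let S be a non-degenerate class of abstract root subgroups of G and Δ a weak TI-subset of S. Then the members of Δ commute with one another elementwise. -/
theorem result {G : Type*} [Group G] {S : Set (Subgroup G)} (hS : Cfsg.IsRootSubgroupClass S) (hnd : Cfsg.IsNondegenerateRootSet S)
    {Δ : Set (Subgroup G)} (hΔ : Cfsg.IsWeakTISubset S Δ) : Cfsg.IsAbelianFamily Δ := by
  intro A hA B hB a ha b hb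
  rcases hS.1.pair A (hΔ.1 hA) B (hΔ.1 hB) with h | h | h
  · exact RootSet.commute_of_commutator_eq_bot h ha hb
  · exact absurd (no_rankOne hS hnd hΔ hA hB h) id
  · exact absurd (no_commCase hS hnd hΔ hA hB h) id

end Cfsg.Agent.S5040
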