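import Cfsg.Statements.S5037
import Cfsg.Agent.Lib.Helper83.RootClass
import Cfsg.Agent.S5036
import Cfsg.Agent.S5038
import Cfsg.Agent.S5040

set_option autoImplicit false
open Cfsg

namespace Cfsg.Agent.S5037

open Cfsg.Agent.Lib.Helper83
open Cfsg.Agent.S5040 (line_nonpartner)

section
variable {G : Type*} [Group G]

/-- Elementwise commuting of two subgroups is preserved by conjugation. -/
lemma commute_conjBy {A C : Subgroup G} (h : ∀ a ∈ A, ∀ c ∈ C, a * c = c * a) (g : G) :
    ∀ x ∈ conjBy A g, ∀ y ∈ conjBy C g, x * y = y * x := by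
  intro x hx y hy
  rw [mem_conjBy] at hx hy
  have h1 := h _ hx _ hy
  have e : x * y = g * ((g⁻¹ * x * g) * (g⁻¹ * y * g)) * g⁻¹ := by group
  rw [e, h1]; group

/-- The members of a rank one pair do not commute elementwise. -/
lemma not_commute_of_rankOne {A B : Subgroup G} (h : IsRankOnePair A B) :
    ¬ ∀ a ∈ A, ∀ b ∈ B, a * b = b * a := by
  intro hc
  obtain ⟨a, ha, ha1⟩ := RankOne.exists_ne_one_left h
  apply ha1
  apply RankOne.eq_one_of_mem_of_mem_normalizer h ha
  apply Subgroup.centralizer_le_normalizer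
  rw [Subgroup.mem_centralizer_iff]
  intro b hb
  exact (hc a ha b hb).symm

/-- The swap lemma: a conjugation invariant relation that holds for a commuting pair `(A, C)` with a
common rank one partner `B` also holds for `(C, A)`. -/
lemma swap {R : Subgroup G → Subgroup G → Prop}
    (hR : ∀ A C : Subgroup G, ∀ g : G, R A C → R (conjBy A g) (conjBy C g))
    {A B C : Subgroup G} (hcomm : ∀ a ∈ A, ∀ c ∈ C, a * c = c * a)
    (hAB : IsRankOnePair A B) (hCB : IsRankOnePair C B) (h : R A C) : R C A := by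
  obtain ⟨a, ha, ha1⟩ := RankOne.exists_ne_one_left hAB
  obtain ⟨b, hb, hb1, e1⟩ := hAB.cond_left a ha ha1
  obtain ⟨c, hc, hc1, e2⟩ := hCB.cond_right b hb hb1
  have ha1' : a⁻¹ ≠ 1 := by simpa using ha1
  have hc1' : c⁻¹ ≠ 1 := by simpa using hc1
  obtain ⟨b₁, hb₁, hb₁1, e3⟩ := hAB.cond_left a⁻¹ (A.inv_mem ha) ha1'
  obtain ⟨b₂, hb₂, hb₂1, e4⟩ := hCB.cond_left c⁻¹ (C.inv_mem hc) hc1'
  rw [inv_inv] at e3 e4
  have hac : a * c = c * a := hcomm a ha c hc
  have k1 : a * c * a⁻¹ = c := by rw [hac]; group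
  have k2 : a * c * c⁻¹ = a := by group
  have k3 : a⁻¹ * c⁻¹ * a = c⁻¹ := by
    have : a⁻¹ * c⁻¹ = c⁻¹ * a⁻¹ := by
      rw [← mul_inv_rev, ← mul_inv_rev, hac]
    rw [this]; group
  have k4 : a⁻¹ * c⁻¹ * c = a⁻¹ := by group
  -- `b₁ = b₂`
  have hbb : b₁ = b₂ := by
    by_contra hne
    -- `conjBy B a⁻¹` and `conjBy B c⁻¹` commute
    have c1 := commute_conjBy hcomm b⁻¹
    rw [e1, ← e2] at c1
    have c2 := commute_conjBy c1 (a * c)
    rw [conjBy_conjBy, conjBy_conjBy, k1, k2] at c2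
    rw [← e3, ← e4] at c2
    have c3 := commute_conjBy c2 b₁
    rw [conjBy_conjBy_inv, conjBy_conjBy] at c3
    -- `β = b₁ * b₂⁻¹`
    have hβ : b₁ * b₂⁻¹ ∈ B := B.mul_mem hb₁ (B.inv_mem hb₂)
    have hβ1 : (b₁ * b₂⁻¹)⁻¹ ≠ 1 := by
      intro h1
      apply hne
      have : b₁ * b₂⁻¹ = 1 := inv_eq_one.mp h1
      exact mul_inv_eq_one.mp this
    obtain ⟨c₁, hc₁, _, e5⟩ := hCB.cond_right _ (B.inv_mem hβ) hβ1
    rw [inv_inv] at e5
    rw [← e5] at c3
    apply not_commute_of_rankOne hAB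
    intro x hx y hy
    have hy' : c₁⁻¹ * y * c₁⁻¹⁻¹ ∈ conjBy B c₁⁻¹ := conj_mem_conjBy hy
    have h1 := (c3 _ hy' x hx).symm
    have h2 : x * c₁ = c₁ * x := hcomm x hx c₁ hc₁
    have h3 : x * c₁⁻¹ = c₁⁻¹ * x := by
      have : c₁⁻¹ * (x * c₁) * c₁⁻¹ = c₁⁻¹ * (c₁ * x) * c₁⁻¹ := by rw [h2]
      have e : c₁⁻¹ * (x * c₁) * c₁⁻¹ = c₁⁻¹ * x := by group
      have e' : c₁⁻¹ * (c₁ * x) * c₁⁻¹ = x * c₁⁻¹ := by group
      rw [e, e'] at this
      exact this.symm
    rw [inv_inv] at h1
    calc x * y = c₁ * (x * (c₁⁻¹ * y * c₁)) * c₁⁻¹ := by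
          rw [show x * (c₁⁻¹ * y * c₁) = (x * c₁⁻¹) * y * c₁ by group, h3]; group
      _ = c₁ * ((c₁⁻¹ * y * c₁) * x) * c₁⁻¹ := by rw [h1]
      _ = y * (c₁ * x * c₁⁻¹) := by group
      _ = y * x := by rw [← h2]; group
  subst hbb
  have r2 := hR A C b₁⁻¹ h
  rw [e3, e4] at r2
  have r3 := hR _ _ (a⁻¹ * c⁻¹) r2
  rw [conjBy_conjBy, conjBy_conjBy, k3, k4, e2, ← e1] at r3
  have r4 := hR _ _ b r3
  rwa [conjBy_conjBy_inv, conjBy_conjBy_inv] at r4


variable {S : Set (Subgroup G)}

lemma le_centralizer_iff {D A : Subgroup G} :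
    D ≤ Subgroup.centralizer (A : Set G) ↔ ∀ d ∈ D, ∀ a ∈ A, d * a = a * d := by
  constructor
  · intro h d hd a ha
    exact (Subgroup.mem_centralizer_iff.mp (h hd) a ha).symm
  · intro h d hd
    rw [Subgroup.mem_centralizer_iff]
    intro a ha
    exact (h d hd a ha).symm

lemma centralizing_conj (hS : IsRootSubgroupSet S) {A C : Subgroup G} (g : G)
    (h : centralizingMembers S A ⊆ centralizingMembers S C) :
    centralizingMembers S (conjBy A g) ⊆ centralizingMembers S (conjBy C g) := by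
  rintro D ⟨hD, hle⟩
  have h1 : conjBy D g⁻¹ ∈ centralizingMembers S A := by
    refine ⟨hS.conj_mem D hD _, ?_⟩
    rw [le_centralizer_iff] at hle ⊢
    have := commute_conjBy hle g⁻¹
    rwa [conjBy_inv_conjBy] at this
  obtain ⟨_, h2⟩ := h h1
  refine ⟨hD, ?_⟩
  rw [le_centralizer_iff] at h2 ⊢
  have := commute_conjBy h2 g
  rwa [conjBy_conjBy_inv] at this

lemma rankOnePartners_conj (hS : IsRootSubgroupSet S) {A C : Subgroup G} (g : G)
    (h : rankOnePartners S A ⊆ rankOnePartners S C) :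
    rankOnePartners S (conjBy A g) ⊆ rankOnePartners S (conjBy C g) := by
  rintro D ⟨hD, hp⟩
  have h1 : conjBy D g⁻¹ ∈ rankOnePartners S A := by
    refine ⟨hS.conj_mem D hD _, ?_⟩
    have := RankOne.conj hp g⁻¹
    rwa [conjBy_inv_conjBy] at this
  obtain ⟨_, h2⟩ := h h1
  refine ⟨hD, ?_⟩
  have := RankOne.conj h2 g
  rwa [conjBy_conjBy_inv] at this

/-- In a degenerate or non-degenerate class with two different members every member has a rank one
partner. -/
lemma exists_partner' (hS : IsRootSubgroupClass S)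
    (hdn : IsDegenerateRootSet S ∨ IsNondegenerateRootSet S) {A C : Subgroup G}
    (hA : A ∈ S) (hC : C ∈ S) (hAC : A ≠ C) : ∃ B ∈ S, IsRankOnePair A B := by
  rcases hdn with hd | hnd
  · by_contra hno
    push Not at hno
    apply hAC
    -- `A` is central
    have hcen : ∀ a ∈ A, ∀ x : G, a * x = x * a := by
      intro a ha x
      have hx : x ∈ (⨆ B ∈ S, B) := by rw [hS.1.generates]; trivial
      have hle : (⨆ B ∈ S, B) ≤ Subgroup.centralizer ({a} : Set G) := by
        refine iSup₂_le fun B hB => ?_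
        intro y hy
        rw [Subgroup.mem_centralizer_iff]
        rintro _ rfl
        rcases hS.1.pair A hA B hB with h | h | h
        · exact RootSet.commute_of_commutator_eq_bot h ha hy
        · exact absurd h (hno B hB)
        · exact absurd h (hd A hA B hB)
      exact Subgroup.mem_centralizer_iff.mp (hle hx) a rfl
    obtain ⟨g, rfl⟩ := hS.2.2 A hA C hC
    symm
    rw [conjBy_eq_self_iff]
    rw [Subgroup.mem_normalizer_iff]
    intro h
    constructor
    · intro hh
      have e : g * h * g⁻¹ = h := by rw [← hcen h hh g]; group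
      rwa [e]
    · intro hh
      have e : h = g⁻¹ * (g * h * g⁻¹) * g := by group
      have e' : g⁻¹ * (g * h * g⁻¹) * g = g * h * g⁻¹ := by
        rw [← hcen _ hh g⁻¹]; group
      rw [e, e']
      exact hh
  · exact RootClass.exists_partner hS hnd hA


/-- Part (1). -/
lemma part_one (hS : IsRootSubgroupClass S)
    (hdn : IsDegenerateRootSet S ∨ IsNondegenerateRootSet S) {A C : Subgroup G}
    (hA : A ∈ S) (hC : C ∈ S) (hAC : A ≠ C)
    (hsub : centralizingMembers S A ⊆ centralizingMembers S C) :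
    centralizingMembers S A = centralizingMembers S C := by
  -- `A` and `C` commute
  have hAA : A ∈ centralizingMembers S A := by
    refine ⟨hA, ?_⟩
    rw [le_centralizer_iff]
    intro d hd a ha
    exact RootSet.mul_comm_of_mem hS.1 hA hd ha
  have hcommCA : ∀ a ∈ A, ∀ c ∈ C, a * c = c * a := le_centralizer_iff.mp (hsub hAA).2
  -- a rank one partner `E` of `C`
  obtain ⟨E, hE, hCE⟩ := exists_partner' hS hdn hC hA hAC.symm
  have hAE : IsRankOnePair A E := by
    rcases hS.1.pair A hA E hE with h | h | h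
    · exfalso
      have h1 : E ∈ centralizingMembers S A := by
        refine ⟨hE, ?_⟩
        rw [le_centralizer_iff]
        intro e he a ha
        exact (RootSet.commute_of_commutator_eq_bot h ha he).symm
      have h2 := le_centralizer_iff.mp (hsub h1).2
      exact not_commute_of_rankOne hCE fun c hc e he => (h2 e he c hc).symm
    · exact h
    · exfalso
      obtain ⟨e, he, he1⟩ := RankOne.exists_ne_one_right hCE
      -- `conjBy A e` commutes with `A`
      have hle : conjBy A e ≤ A ⊔ ⁅A, E⁆ := Cfsg.Agent.S5029.conj_le e he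
      have hab := RootSet.commCase_sup_comm hS.1 hA h
      have h1 : conjBy A e ∈ centralizingMembers S A := by
        refine ⟨hS.1.conj_mem A hA e, ?_⟩
        rw [le_centralizer_iff]
        intro d hd a ha
        exact RootSet.commute_of_commutator_eq_bot hab (hle hd) (Subgroup.mem_sup_left ha)
      have h2 := le_centralizer_iff.mp (hsub h1).2
      -- `C` centralizes `conjBy A e`, hence `conjBy C e`
      have h3 : C ∈ centralizingMembers S (conjBy A e) := by
        refine ⟨hC, ?_⟩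
        rw [le_centralizer_iff]
        intro c hc d hd
        exact (h2 d hd c hc).symm
      have h4 := le_centralizer_iff.mp (centralizing_conj hS.1 e hsub h3).2
      -- `conjBy C e = conjBy E c'⁻¹`
      have he1' : e⁻¹ ≠ 1 := by simpa using he1
      obtain ⟨c', hc', _, e5⟩ := hCE.cond_right e⁻¹ (E.inv_mem he) he1'
      rw [inv_inv] at e5
      rw [← e5] at h4
      have h5 := commute_conjBy h4 c'
      rw [conjBy_conjBy_inv, conjBy_of_mem hc'] at h5
      exact not_commute_of_rankOne hCE h5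
  apply Set.Subset.antisymm hsub
  exact swap (R := fun A C => centralizingMembers S A ⊆ centralizingMembers S C)
    (fun A C g h => centralizing_conj hS.1 g h) hcommCA hAE hCE hsub


/-- In a non-degenerate class the commutator case is incompatible with `Ω_A ⊆ Ω_C`. -/
lemma no_commCase (hS : IsRootSubgroupClass S) (hnd : IsNondegenerateRootSet S) {A C : Subgroup G}
    (hA : A ∈ S) (hC : C ∈ S) (hsub : rankOnePartners S A ⊆ rankOnePartners S C)
    (h : RootCommutatorCase S A C) : False := by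
  have hF := RootClass.not_isolated hS hnd
  have h' : RootCommutatorCase S C A := RootSet.commCase_symm h
  have hFS : ⁅C, A⁆ ∈ S := h'.1
  have k1 : ⁅C, A⁆ ∈ linePartners S C :=
    RootSet.commutator_mem_linePartners hS.1 (hF C hC) hC hA h'
  have k2 : C ∈ linePartners S ⁅C, A⁆ := RootSet.linePartners_symm hC k1
  obtain ⟨B₀, hB₀, hFB₀⟩ := RootSet.rankOnePair_of_not_isolated (hF _ hFS) hFS
  obtain ⟨D, hD, hsup, hDB, hK, _⟩ := line_nonpartner hS.1 hF hFS k2 hB₀ hFB₀
  have hFmem : ⁅C, A⁆ ∈ membersIn S (⁅C, A⁆ ⊔ C) := ⟨hFS, le_sup_left⟩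
  have hCmem : C ∈ membersIn S (⁅C, A⁆ ⊔ C) := ⟨hC, le_sup_right⟩
  have hDmem : D ∈ membersIn S (⁅C, A⁆ ⊔ C) := by
    rw [← hsup]; exact ⟨hD.1.1, le_sup_right⟩
  obtain ⟨x, _, hx1, hx2⟩ := Cfsg.Agent.S5038.result hS.1 hF hFS k2 _ hFmem D hDmem _ hFmem C hCmem
    (Ne.symm hD.1.2.1) (Ne.symm k2.1.2.1)
  -- `D₁ = conjBy ⁅D, B₀⁆ x`
  have hD₁S : conjBy ⁅D, B₀⁆ x ∈ S := hS.1.conj_mem _ hDB.1 x
  have hrel : ⁅conjBy ⁅D, B₀⁆ x, ⁅C, A⁆⁆ = C := by
    calc ⁅conjBy ⁅D, B₀⁆ x, ⁅C, A⁆⁆ = ⁅conjBy ⁅D, B₀⁆ x, conjBy ⁅C, A⁆ x⁆ := by rw [hx1]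
      _ = conjBy ⁅⁅D, B₀⁆, ⁅C, A⁆⁆ x := (conjBy_commutator _ _ _).symm
      _ = conjBy D x := by rw [Subgroup.commutator_comm, hK]
      _ = C := hx2
  have hAD₁ : IsRankOnePair A (conjBy ⁅D, B₀⁆ x) :=
    (Cfsg.Agent.S5036.result hS.1 hC hA hFS hD₁S hrel).1
  have hCD₁ : IsRankOnePair C (conjBy ⁅D, B₀⁆ x) := (hsub ⟨hD₁S, hAD₁⟩).2
  have hcc : RootCommutatorCase S (conjBy ⁅D, B₀⁆ x) ⁅C, A⁆ :=
    RootSet.commCase_of_commutator_mem hS.1 hD₁S hFS (by rw [hrel]; exact hC)
  apply not_commute_of_rankOne hCD₁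
  intro c hc d hd
  have hc' : c ∈ ⁅conjBy ⁅D, B₀⁆ x, ⁅C, A⁆⁆ := by rw [hrel]; exact hc
  exact hcc.2.1 c hc' d (Subgroup.mem_sup_left hd)

/-- Part (2). -/
lemma part_two (hS : IsRootSubgroupClass S)
    (hdn : IsDegenerateRootSet S ∨ IsNondegenerateRootSet S) {A C : Subgroup G}
    (hA : A ∈ S) (hC : C ∈ S) (hAC : A ≠ C)
    (hsub : rankOnePartners S A ⊆ rankOnePartners S C) :
    ⁅A, C⁆ = ⊥ ∧ rankOnePartners S A = rankOnePartners S C := by
  have hcomm : ⁅A, C⁆ = ⊥ := by
    rcases hS.1.pair A hA C hC with h | h | h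
    · exact h
    · exact absurd rfl (hsub ⟨hC, h⟩).2.ne
    · rcases hdn with hd | hnd
      · exact absurd h (hd A hA C hC)
      · exact (no_commCase hS hnd hA hC hsub h).elim
  refine ⟨hcomm, Set.Subset.antisymm hsub ?_⟩
  obtain ⟨B, hB, hAB⟩ := exists_partner' hS hdn hA hC hAC
  have hCB : IsRankOnePair C B := (hsub ⟨hB, hAB⟩).2
  exact swap (R := fun A C => rankOnePartners S A ⊆ rankOnePartners S C)
    (fun A C g h => rankOnePartners_conj hS.1 g h)
    (fun a ha c hc => RootSet.commute_of_commutator_eq_bot hcomm ha hc) hAB hCB hsub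

end

/-- Let S be a class of abstract root subgroups of G that is either degenerate or non-degenerate (so either the commutator case never occurs, or all three cases occur), and A ≠ C members of S. If every member of S commuting with A commutes with C, then A and C have the same commuting members of S; and if every rank one partner of A is a rank one partner of C, then A and C commute and have the same rank one partners. -/
theorem result {G : Type*} [Group G] {S : Set (Subgroup G)} (hS : Cfsg.IsRootSubgroupClass S)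
    (hdn : Cfsg.IsDegenerateRootSet S ∨ Cfsg.IsNondegenerateRootSet S)
    {A C : Subgroup G} (hA : A ∈ S) (hC : C ∈ S) (hAC : A ≠ C) :
    (Cfsg.centralizingMembers S A ⊆ Cfsg.centralizingMembers S C →
      Cfsg.centralizingMembers S A = Cfsg.centralizingMembers S C) ∧
    (Cfsg.rankOnePartners S A ⊆ Cfsg.rankOnePartners S C →
      ⁅A, C⁆ = ⊥ ∧ Cfsg.rankOnePartners S A = Cfsg.rankOnePartners S C) :=
  ⟨part_one hS hdn hA hC hAC, part_two hS hdn hA hC hAC⟩

end Cfsg.Agent.S5037
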