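import Cfsg.Statements.S5042
import Cfsg.Agent.Lib.Helper83.RootClass
import Cfsg.Agent.S5040
import Cfsg.Agent.S5041

set_option autoImplicit false
open Cfsg

namespace Cfsg.Agent.S5042

open Cfsg.Agent.Lib.Helper83
open Cfsg.Agent.S5040 (line_nonpartner exists_third)

section
variable {G : Type*} [Group G] {S : Set (Subgroup G)}

lemma commutator_le_of_le {H₁ H₂ K : Subgroup G} (h1 : H₁ ≤ K) (h2 : H₂ ≤ K) : ⁅H₁, H₂⁆ ≤ K := by
  rw [Subgroup.commutator_le]
  intro g₁ hg₁ g₂ hg₂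
  rw [commutatorElement_def]
  exact K.mul_mem (K.mul_mem (K.mul_mem (h1 hg₁) (h2 hg₂)) (K.inv_mem (h1 hg₁)))
    (K.inv_mem (h2 hg₂))

/-- The step: if `K` contains a rank one partner `B` of `C` and all line partners of `C`, then every
line partner of `C` is conjugate to `C` under `K`. -/
lemma step (hS : IsRootSubgroupSet S) (hF : ∀ A ∈ S, ¬ IsIsolatedIn (FAdj S) S A)
    {C B L K : Subgroup G} (hC : C ∈ S) (hB : B ∈ S) (hCB : IsRankOnePair C B) (hBK : B ≤ K)
    (hΛ : ∀ L ∈ linePartners S C, L ≤ K) (hL : L ∈ linePartners S C) :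
    ∃ g ∈ K, L = conjBy C g := by
  obtain ⟨D, hD, hsup, hDB, hK, hmem⟩ := line_nonpartner hS hF hC hL hB hCB
  have hDS : D ∈ S := hD.1.1
  have hDK : D ≤ K := hΛ D hD
  have hEK : ⁅D, B⁆ ≤ K := commutator_le_of_le hDK hBK
  have hCmem : C ∈ membersIn S (C ⊔ D) := ⟨hC, le_sup_left⟩
  have hDmem : D ∈ membersIn S (C ⊔ D) := ⟨hDS, le_sup_right⟩
  have hLmem : L ∈ membersIn S (C ⊔ D) := by rw [hsup]; exact ⟨hL.1.1, le_sup_right⟩
  by_cases hLD : L = D
  · -- swap `C` and `D` on the line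
    obtain ⟨x, _, hx1, hx2⟩ := Cfsg.Agent.S5038.result hS hF hC hD C hCmem D hDmem D hDmem C hCmem
      (Ne.symm hD.1.2.1) hD.1.2.1
    have hL'S : conjBy ⁅D, B⁆ x ∈ S := hS.conj_mem _ hDB.1 x
    have hrel : ⁅D, conjBy ⁅D, B⁆ x⁆ = C := by
      calc ⁅D, conjBy ⁅D, B⁆ x⁆ = ⁅conjBy C x, conjBy ⁅D, B⁆ x⁆ := by rw [hx1]
        _ = conjBy ⁅C, ⁅D, B⁆⁆ x := (conjBy_commutator _ _ _).symm
        _ = conjBy D x := by rw [hK]
        _ = C := hx2
    have hrel' : ⁅conjBy ⁅D, B⁆ x, D⁆ = C := by rw [Subgroup.commutator_comm]; exact hrel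
    have hcc : RootCommutatorCase S (conjBy ⁅D, B⁆ x) D :=
      RootSet.commCase_of_commutator_mem hS hL'S hDS (by rw [hrel']; exact hC)
    have h1 := RootSet.commutator_mem_linePartners hS (hF _ hL'S) hL'S hDS hcc
    rw [hrel'] at h1
    have hL'Λ : conjBy ⁅D, B⁆ x ∈ linePartners S C := RootSet.linePartners_symm hL'S h1
    have hL'K : conjBy ⁅D, B⁆ x ≤ K := hΛ _ hL'Λ
    -- members of the line as conjugates of `D`
    have hmem2 := (Cfsg.Agent.S5029.result hS (hF D hDS) hDS hL'S (by rw [hrel]; exact hC)).1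
    rw [hrel, sup_comm] at hmem2
    -- a third member
    obtain ⟨M, hM, hMC, hMD⟩ := exists_third hS hC hD C hCmem D hDmem
    have hM1 := hM
    rw [hmem] at hM1
    have hM2 := hM
    rw [hmem2] at hM2
    rcases hM1 with ⟨f, hf, hfM⟩ | hM1
    · rcases hM2 with ⟨l, hl, hlM⟩ | hM2
      · refine ⟨l⁻¹ * f, K.mul_mem (K.inv_mem (hL'K hl)) (hEK hf), ?_⟩
        rw [hLD, ← conjBy_conjBy]
        show D = conjBy (conjBy C f) l⁻¹
        have e1 : conjBy C f = M := hfM
        have e2 : conjBy D l = M := hlM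
        rw [e1, ← e2, conjBy_inv_conjBy]
      · exact absurd hM2 hMC
    · exact absurd hM1 hMD
  · have hL1 := hLmem
    rw [hmem] at hL1
    rcases hL1 with ⟨f, hf, hfL⟩ | hL1
    · exact ⟨f, hEK hf, hfL.symm⟩
    · exact absurd hL1 hLD

end

/-- Let S be a non-degenerate class of abstract root subgroups of G, A ∈ S and B a rank one partner of A. Then G is generated by the line partners of A together with B. -/
theorem result {G : Type*} [Group G] {S : Set (Subgroup G)} (hS : Cfsg.IsRootSubgroupClass S) (hnd : Cfsg.IsNondegenerateRootSet S)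
    {A B : Subgroup G} (hA : A ∈ S) (hB : B ∈ Cfsg.rankOnePartners S A) :
    (⨆ C ∈ Cfsg.linePartners S A, C) ⊔ B = ⊤ := by
  have hF := RootClass.not_isolated hS hnd
  set G₀ := (⨆ C ∈ Cfsg.linePartners S A, C) ⊔ B with hG₀
  have hΛ : ∀ L ∈ linePartners S A, L ≤ G₀ := fun L hL =>
    (le_iSup₂ (f := fun (C : Subgroup G) (_ : C ∈ linePartners S A) => C) L hL).trans le_sup_left
  have hBG : B ≤ G₀ := le_sup_right
  -- `A ≤ G₀`
  have hAG : A ≤ G₀ := by
    obtain ⟨A₀, hA₀, B₀, hB₀, h⟩ := hnd.2.2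
    have h' : RootCommutatorCase S B₀ A₀ :=
      RootSet.commCase_of_commutator_mem hS.1 hB₀ hA₀ (by rw [Subgroup.commutator_comm]; exact h.1)
    have k1 := RootSet.linePartners_symm hA₀
      (RootSet.commutator_mem_linePartners hS.1 (hF A₀ hA₀) hA₀ hB₀ h)
    have k2 := RootSet.commutator_mem_linePartners hS.1 (hF B₀ hB₀) hB₀ hA₀ h'
    rw [Subgroup.commutator_comm] at k2
    have k2' := RootSet.linePartners_symm hB₀ k2
    obtain ⟨g, hg⟩ := hS.2.2 _ h.1 A hA
    have m1 := RootSet.linePartners_conj hS.1 k1 g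
    have m2 := RootSet.linePartners_conj hS.1 k2' g
    rw [← hg] at m1 m2
    rw [hg, conjBy_commutator]
    exact Cfsg.Agent.S5042.commutator_le_of_le (hΛ _ m1) (hΛ _ m2)
  -- all members are conjugate to `A` under `G₀`
  have hconn := (Cfsg.Agent.S5041.result hS hnd).1
  have key : ∀ C, Relation.ReflTransGen (EAdj S S) A C → ∃ g ∈ G₀, C = conjBy A g := by
    intro C hC
    induction hC with
    | refl => exact ⟨1, G₀.one_mem, (conjBy_one A).symm⟩
    | tail _ hbc ih =>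
      obtain ⟨g, hg, rfl⟩ := ih
      have hCS : conjBy A g ∈ S := hbc.1
      have hB'S : conjBy B g ∈ S := hS.1.conj_mem B hB.1 g
      have hΛ' : ∀ L ∈ linePartners S (conjBy A g), L ≤ G₀ := by
        intro L hL
        have h1 := RootSet.linePartners_conj hS.1 hL g⁻¹
        rw [conjBy_inv_conjBy] at h1
        have h2 := conjBy_le_of_mem (hΛ _ h1) hg
        rwa [conjBy_conjBy_inv] at h2
      obtain ⟨g', hg', hL⟩ := step hS.1 hF hCS hB'S (RankOne.conj hB.2 g)
        (conjBy_le_of_mem hBG hg) hΛ' hbc.2.2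
      exact ⟨g' * g, G₀.mul_mem hg' hg, by rw [hL, conjBy_conjBy]⟩
  rw [eq_top_iff, ← hS.1.generates]
  refine iSup₂_le fun C hC => ?_
  obtain ⟨g, hg, rfl⟩ := key C (hconn A hA C hC)
  exact conjBy_le_of_mem hAG hg

end Cfsg.Agent.S5042
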