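import Cfsg.Statements.S5043
import Cfsg.Agent.Lib.Helper83.TransvSL2
import Cfsg.Agent.Lib.Helper83.TransvConj
import Cfsg.Agent.Lib.Helper83.RootComm
import Cfsg.Agent.Lib.Helper83.NilSeries
import Cfsg.Agent.Lib.Helper5.SLGen
import Cfsg.Agent.S5032

set_option autoImplicit false
open Matrix
open Cfsg

namespace Cfsg.Agent.S5043

open Cfsg.Agent.Lib.Helper83

section General

variable {G : Type*} [Group G] {S : Set (Subgroup G)}

/-- A pair in the commutator case is not a rank one pair. -/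
lemma not_rankOne_of_commCase {A B : Subgroup G} (h : Cfsg.RootCommutatorCase S A B) :
    ¬ Cfsg.IsRankOnePair A B := by
  intro hr
  obtain ⟨a, ha, ha1⟩ := RankOne.exists_ne_one_left hr
  obtain ⟨b, hb, _, heq⟩ := hr.cond_left a ha ha1
  have h1 : b⁻¹ * a * b ∈ Cfsg.conjBy A b⁻¹ := by
    rw [mem_conjBy]; simpa [mul_assoc] using ha
  rw [heq, mem_conjBy, inv_inv] at h1
  have hc : a⁻¹ * b⁻¹ * a * b ∈ ⁅A, B⁆ := by
    have := Subgroup.commutator_mem_commutator (A.inv_mem ha) (B.inv_mem hb)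
    rwa [commutatorElement_def, inv_inv, inv_inv] at this
  have hca : (a⁻¹ * b⁻¹ * a * b) * a = a * (a⁻¹ * b⁻¹ * a * b) :=
    h.2.1 _ hc a (Subgroup.mem_sup_left ha)
  have h2 : a * (b⁻¹ * a * b) * a⁻¹ = a * (a⁻¹ * b⁻¹ * a * b) := by
    calc a * (b⁻¹ * a * b) * a⁻¹ = a * ((a⁻¹ * b⁻¹ * a * b) * a) * a⁻¹ := by rw [hca]; group
      _ = a * (a⁻¹ * b⁻¹ * a * b) := by group
  rw [h2] at h1
  have hcN : a⁻¹ * b⁻¹ * a * b ∈ Subgroup.normalizer (B : Set G) := by
    apply Subgroup.centralizer_le_normalizer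
    rw [Subgroup.mem_centralizer_iff]
    intro y hy
    exact (h.2.1 _ hc y (Subgroup.mem_sup_right hy)).symm
  have haN : a ∈ Subgroup.normalizer (B : Set G) := by
    have h3 : a = (a * (a⁻¹ * b⁻¹ * a * b)) * (a⁻¹ * b⁻¹ * a * b)⁻¹ := by group
    rw [h3]
    exact Subgroup.mul_mem _ (Subgroup.le_normalizer h1) (Subgroup.inv_mem _ hcN)
  exact ha1 (RankOne.eq_one_of_mem_of_mem_normalizer hr ha haN)

/-- Commuting subgroups do not form a rank one pair. -/
lemma not_rankOne_of_comm {A B : Subgroup G} (h : ⁅A, B⁆ = ⊥) : ¬ Cfsg.IsRankOnePair A B := by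
  intro hr
  obtain ⟨a, ha, ha1⟩ := RankOne.exists_ne_one_left hr
  apply ha1
  apply RankOne.eq_one_of_mem_of_mem_normalizer hr ha
  apply Subgroup.centralizer_le_normalizer
  rw [Subgroup.commutator_eq_bot_iff_le_centralizer] at h
  exact h ha

end General

section TS

variable {k : Type*} [Field k] {ι : Type*} [Fintype ι] [DecidableEq ι]

/-- The set of all transvection subgroups of `SL(ι, k)`. -/
def TS (k : Type*) [Field k] (ι : Type*) [Fintype ι] [DecidableEq ι] :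
    Set (Subgroup (SpecialLinearGroup ι k)) :=
  {A | ∃ (v φ : ι → k) (h : φ ⬝ᵥ v = 0), v ≠ 0 ∧ φ ≠ 0 ∧ A = tvSub v φ h}

lemma tvSub_mem_TS {v φ : ι → k} (h : φ ⬝ᵥ v = 0) (hv : v ≠ 0) (hφ : φ ≠ 0) :
    tvSub v φ h ∈ TS k ι := ⟨v, φ, h, hv, hφ, rfl⟩

lemma comm_of_dot_zero {v φ w ψ : ι → k} (h : φ ⬝ᵥ v = 0) (h' : ψ ⬝ᵥ w = 0)
    (hφw : φ ⬝ᵥ w = 0) (hψv : ψ ⬝ᵥ v = 0) : ⁅tvSub v φ h, tvSub w ψ h'⁆ = ⊥ := by
  apply commutator_eq_bot_of_forall_mul_comm
  rintro _ ⟨a, rfl⟩ _ ⟨b, rfl⟩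
  exact tvE_commute h h' hφw hψv a b

lemma commutator_tvSub {v φ w ψ : ι → k} (h : φ ⬝ᵥ v = 0) (h' : ψ ⬝ᵥ w = 0)
    (hφw : φ ⬝ᵥ w ≠ 0) (hψv : ψ ⬝ᵥ v = 0) :
    ⁅tvSub v φ h, tvSub w ψ h'⁆ = tvSub v ψ hψv := by
  apply le_antisymm
  · rw [Subgroup.commutator_le]
    rintro _ ⟨a, rfl⟩ _ ⟨b, rfl⟩
    rw [commutatorElement_def, tvE_commutator h h' hψv]
    exact tvE_mem _ _ _ _
  · rintro _ ⟨c, rfl⟩
    have := Subgroup.commutator_mem_commutator (tvE_mem v φ h 1) (tvE_mem w ψ h' (c * (φ ⬝ᵥ w)⁻¹))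
    rw [commutatorElement_def, tvE_commutator h h' hψv] at this
    have e : 1 * (c * (φ ⬝ᵥ w)⁻¹) * (φ ⬝ᵥ w) = c := by field_simp
    rwa [e] at this

lemma commCase_tvSub {v φ w ψ : ι → k} (h : φ ⬝ᵥ v = 0) (h' : ψ ⬝ᵥ w = 0)
    (hv : v ≠ 0) (hψ : ψ ≠ 0) (hφw : φ ⬝ᵥ w ≠ 0) (hψv : ψ ⬝ᵥ v = 0) :
    Cfsg.RootCommutatorCase (TS k ι) (tvSub v φ h) (tvSub w ψ h') := by
  have hcomm := commutator_tvSub h h' hφw hψv
  refine ⟨?_, ?_, ?_, ?_⟩
  · rw [hcomm]; exact tvSub_mem_TS hψv hv hψ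
  · rw [hcomm]
    rintro _ ⟨c, rfl⟩ x hx
    have hle : tvSub v φ h ⊔ tvSub w ψ h' ≤
        Subgroup.centralizer ({tvE v ψ hψv c} : Set (SpecialLinearGroup ι k)) := by
      refine sup_le ?_ ?_
      · rintro _ ⟨a, rfl⟩
        rw [Subgroup.mem_centralizer_singleton_iff]
        exact tvE_commute h hψv h hψv a c
      · rintro _ ⟨b, rfl⟩
        rw [Subgroup.mem_centralizer_singleton_iff]
        exact tvE_commute h' hψv hψv h' b c
    have := hle hx
    rw [Subgroup.mem_centralizer_singleton_iff] at this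
    exact this.symm
  · rintro _ ⟨a, rfl⟩ ha1
    have ha : a ≠ 0 := fun h0 => ha1 (by rw [h0, tvE_zero])
    rw [hcomm]
    have hset : (fun b : SpecialLinearGroup ι k => tvE v φ h a * b * (tvE v φ h a)⁻¹ * b⁻¹) ''
        ((tvSub w ψ h' : Subgroup (SpecialLinearGroup ι k)) : Set (SpecialLinearGroup ι k)) =
        ((tvSub v ψ hψv : Subgroup (SpecialLinearGroup ι k)) : Set (SpecialLinearGroup ι k)) := by
      ext x
      constructor
      · rintro ⟨_, ⟨b, rfl⟩, rfl⟩
        dsimp only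
        rw [tvE_commutator h h' hψv]
        exact tvE_mem _ _ _ _
      · rintro ⟨c, rfl⟩
        refine ⟨tvE w ψ h' (c * (a * (φ ⬝ᵥ w))⁻¹), tvE_mem _ _ _ _, ?_⟩
        dsimp only
        rw [tvE_commutator h h' hψv]
        congr 1
        field_simp
    rw [hset, Subgroup.closure_eq]
  · rintro _ ⟨b, rfl⟩ hb1
    have hb : b ≠ 0 := fun h0 => hb1 (by rw [h0, tvE_zero])
    rw [hcomm]
    have hset : (fun a : SpecialLinearGroup ι k => a * tvE w ψ h' b * a⁻¹ * (tvE w ψ h' b)⁻¹) ''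
        ((tvSub v φ h : Subgroup (SpecialLinearGroup ι k)) : Set (SpecialLinearGroup ι k)) =
        ((tvSub v ψ hψv : Subgroup (SpecialLinearGroup ι k)) : Set (SpecialLinearGroup ι k)) := by
      ext x
      constructor
      · rintro ⟨_, ⟨a, rfl⟩, rfl⟩
        dsimp only
        rw [tvE_commutator h h' hψv]
        exact tvE_mem _ _ _ _
      · rintro ⟨c, rfl⟩
        refine ⟨tvE v φ h (c * (b * (φ ⬝ᵥ w))⁻¹), tvE_mem _ _ _ _, ?_⟩
        dsimp only
        rw [tvE_commutator h h' hψv]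
        congr 1
        field_simp
    rw [hset, Subgroup.closure_eq]

lemma pair_TS {A B : Subgroup (SpecialLinearGroup ι k)} (hA : A ∈ TS k ι) (hB : B ∈ TS k ι) :
    ⁅A, B⁆ = ⊥ ∨ Cfsg.IsRankOnePair A B ∨ Cfsg.RootCommutatorCase (TS k ι) A B := by
  obtain ⟨v, φ, h, hv, hφ, rfl⟩ := hA
  obtain ⟨w, ψ, h', hw, hψ, rfl⟩ := hB
  by_cases h1 : φ ⬝ᵥ w = 0
  · by_cases h2 : ψ ⬝ᵥ v = 0
    · left; exact comm_of_dot_zero h h' h1 h2
    · right; right; exact RootSet.commCase_symm (commCase_tvSub h' h hw hφ h2 h1)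
  · by_cases h2 : ψ ⬝ᵥ v = 0
    · right; right; exact commCase_tvSub h h' hv hψ h1 h2
    · right; left; exact (tvSub_rankOne v φ w ψ h h' h1 h2).1

/-- Rank one pairs of transvection subgroups are `PSL₂`-pairs. -/
lemma psl2_TS {A B : Subgroup (SpecialLinearGroup ι k)} (hA : A ∈ TS k ι) (hB : B ∈ TS k ι)
    (hr : Cfsg.IsRankOnePair A B) : Cfsg.IsPSL2PairOver k A B := by
  obtain ⟨v, φ, h, hv, hφ, rfl⟩ := hA
  obtain ⟨w, ψ, h', hw, hψ, rfl⟩ := hB
  by_cases h1 : φ ⬝ᵥ w = 0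
  · by_cases h2 : ψ ⬝ᵥ v = 0
    · exact absurd hr (not_rankOne_of_comm (comm_of_dot_zero h h' h1 h2))
    · exact absurd (Cfsg.RankOnePair_symm hr)
        (not_rankOne_of_commCase (commCase_tvSub h' h hw hφ h2 h1))
  · by_cases h2 : ψ ⬝ᵥ v = 0
    · exact absurd hr (not_rankOne_of_commCase (commCase_tvSub h h' hv hψ h1 h2))
    · exact (tvSub_rankOne v φ w ψ h h' h1 h2).2

lemma single_dot {i j : ι} (hij : i ≠ j) :
    (Pi.single j (1 : k)) ⬝ᵥ (Pi.single i (1 : k)) = 0 := by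
  rw [single_dotProduct, one_mul, Pi.single_apply, if_neg hij.symm]

lemma single_ne_zero (i : ι) : (Pi.single i (1 : k) : ι → k) ≠ 0 := by
  intro h0
  have := congrFun h0 i
  simp at this

lemma coe_tvE_single {i j : ι} (hij : i ≠ j) (c : k) :
    ((tvE (Pi.single i (1 : k)) (Pi.single j (1 : k)) (single_dot hij) c :
      SpecialLinearGroup ι k) : Matrix ι ι k) = Matrix.transvection i j c := by
  rw [coe_tvE, Matrix.transvection]
  congr 1
  ext a b
  simp only [Matrix.smul_apply, vecMulVec_apply, Matrix.single_apply, Pi.single_apply, smul_eq_mul]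
  by_cases ha : a = i
  · by_cases hb : b = j
    · simp [ha, hb]
    · have hb' : ¬ j = b := fun h => hb h.symm
      simp [ha, hb, hb']
  · have ha' : ¬ i = a := fun h => ha h.symm
    simp [ha, ha']

lemma generates_TS : (⨆ A ∈ TS k ι, A) = ⊤ := by
  rw [eq_top_iff, ← Cfsg.Agent.Lib.Helper5.closure_transvection_eq_top, Subgroup.closure_le]
  rintro _ ⟨i, j, hij, c, rfl⟩
  have hmem : SpecialLinearGroup.transvection hij c ∈
      tvSub (Pi.single i (1 : k)) (Pi.single j (1 : k)) (single_dot hij) :=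
    ⟨c, Subtype.ext (by rw [coe_tvE_single hij]; rfl)⟩
  exact Subgroup.mem_iSup_of_mem _ (Subgroup.mem_iSup_of_mem
    (tvSub_mem_TS (single_dot hij) (single_ne_zero i) (single_ne_zero j)) hmem)

lemma conj_mem_TS {A : Subgroup (SpecialLinearGroup ι k)} (hA : A ∈ TS k ι)
    (g : SpecialLinearGroup ι k) : Cfsg.conjBy A g ∈ TS k ι := by
  obtain ⟨v, φ, h, hv, hφ, rfl⟩ := hA
  rw [conjBy_tvSub]
  exact tvSub_mem_TS _ (mulVec_ne_zero g hv) (vecMul_ne_zero g⁻¹ hφ)

lemma isRootSubgroupSet_TS : Cfsg.IsRootSubgroupSet (TS k ι) where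
  commutative := by
    rintro _ ⟨v, φ, h, _, _, rfl⟩
    exact tvSub_isMulCommutative v φ h
  ne_bot := by
    rintro _ ⟨v, φ, h, hv, hφ, rfl⟩
    exact tvSub_ne_bot h hv hφ
  generates := generates_TS
  conj_mem := fun A hA g => conj_mem_TS hA g
  pair := fun A hA B hB => pair_TS hA hB

lemma conjClass_TS (h3 : 3 ≤ Fintype.card ι) {i j : ι} (hij : i ≠ j) :
    Cfsg.IsConjClassOfSubgroups (TS k ι) := by
  refine ⟨⟨_, tvSub_mem_TS (single_dot hij) (single_ne_zero i) (single_ne_zero j)⟩, ?_⟩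
  rintro _ ⟨v, φ, h, hv, hφ, rfl⟩ _ ⟨w, ψ, h', hw, hψ, rfl⟩
  exact tvSub_conj h3 h h' hv hφ hw hψ

lemma stdSub_ne {i j l : ι} (hij : i ≠ j) (hil : i ≠ l) (hjl : j ≠ l) :
    tvSub (Pi.single i (1 : k)) (Pi.single j (1 : k)) (single_dot hij) ≠
      tvSub (Pi.single i (1 : k)) (Pi.single l (1 : k)) (single_dot hil) := by
  intro heq
  have h1 : tvE (Pi.single i (1 : k)) (Pi.single l (1 : k)) (single_dot hil) 1 ∈
      tvSub (Pi.single i (1 : k)) (Pi.single j (1 : k)) (single_dot hij) := by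
    rw [heq]; exact tvE_mem _ _ _ _
  obtain ⟨c, hc⟩ := h1
  have h2 : ((tvE (Pi.single i (1 : k)) (Pi.single l (1 : k)) (single_dot hil) 1 :
      SpecialLinearGroup ι k) : Matrix ι ι k) i l =
      ((tvE (Pi.single i (1 : k)) (Pi.single j (1 : k)) (single_dot hij) c :
      SpecialLinearGroup ι k) : Matrix ι ι k) i l := by rw [hc]
  rw [coe_tvE_single hil, coe_tvE_single hij] at h2
  simp [Matrix.transvection, Matrix.single_apply, hil, hjl] at h2

lemma nondegenerate_TS {i j l : ι} (hij : i ≠ j) (hil : i ≠ l) (hjl : j ≠ l) :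
    Cfsg.IsNondegenerateRootSet (TS k ι) := by
  have hA := tvSub_mem_TS (k := k) (single_dot hij) (single_ne_zero i) (single_ne_zero j)
  refine ⟨⟨_, hA, _, tvSub_mem_TS (single_dot hil) (single_ne_zero i) (single_ne_zero l),
      stdSub_ne hij hil hjl, ?_⟩,
    ⟨_, hA, _, tvSub_mem_TS (single_dot hij.symm) (single_ne_zero j) (single_ne_zero i), ?_⟩,
    ⟨_, hA, _, tvSub_mem_TS (single_dot hjl) (single_ne_zero j) (single_ne_zero l), ?_⟩⟩
  · apply comm_of_dot_zero
    · rw [single_dotProduct, one_mul, Pi.single_apply, if_neg hij.symm]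
    · rw [single_dotProduct, one_mul, Pi.single_apply, if_neg hil.symm]
  · refine (tvSub_rankOne _ _ _ _ _ _ ?_ ?_).1
    · rw [single_dotProduct, one_mul, Pi.single_apply, if_pos rfl]; exact one_ne_zero
    · rw [single_dotProduct, one_mul, Pi.single_apply, if_pos rfl]; exact one_ne_zero
  · apply commCase_tvSub _ _ (single_ne_zero i) (single_ne_zero l)
    · rw [single_dotProduct, one_mul, Pi.single_apply, if_pos rfl]; exact one_ne_zero
    · rw [single_dotProduct, one_mul, Pi.single_apply, if_neg hil.symm]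

lemma connected_TS (h3 : 3 ≤ Fintype.card ι) {i j l : ι} (hij : i ≠ j) (hil : i ≠ l) (hjl : j ≠ l) :
    Cfsg.IsConnectedFamily (Cfsg.FAdj (TS k ι)) (TS k ι) := by
  have hA := tvSub_mem_TS (k := k) (single_dot hij) (single_ne_zero i) (single_ne_zero j)
  have hB := tvSub_mem_TS (k := k) (single_dot hil) (single_ne_zero i) (single_ne_zero l)
  have hC := tvSub_mem_TS (k := k) (single_dot hij.symm) (single_ne_zero j) (single_ne_zero i)
  rw [Cfsg.Agent.S5032.result isRootSubgroupSet_TS ⟨_, hA, _, hB, stdSub_ne hij hil hjl⟩]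
  refine ⟨conjClass_TS h3 hij, _, hA, ?_⟩
  intro hiso
  refine (hiso.2 _).1 ⟨hA, hC, (tvSub_rankOne _ _ _ _ _ _ ?_ ?_).1⟩
  · rw [single_dotProduct, one_mul, Pi.single_apply, if_pos rfl]; exact one_ne_zero
  · rw [single_dotProduct, one_mul, Pi.single_apply, if_pos rfl]; exact one_ne_zero

end TS

section Final

variable (k : Type*) [Field k] (n : ℕ)

lemma closure_std :
    Subgroup.closure {t : Matrix.SpecialLinearGroup (Fin (n + 3)) k |
      ∃ c : k, (t : Matrix (Fin (n + 3)) (Fin (n + 3)) k) = Matrix.transvection 0 1 c} =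
    tvSub (Pi.single (0 : Fin (n + 3)) (1 : k)) (Pi.single (1 : Fin (n + 3)) (1 : k))
      (single_dot (by simp)) := by
  have hset : {t : Matrix.SpecialLinearGroup (Fin (n + 3)) k |
      ∃ c : k, (t : Matrix (Fin (n + 3)) (Fin (n + 3)) k) = Matrix.transvection 0 1 c} =
      ((tvSub (Pi.single (0 : Fin (n + 3)) (1 : k)) (Pi.single (1 : Fin (n + 3)) (1 : k))
        (single_dot (by simp)) : Subgroup (SpecialLinearGroup (Fin (n + 3)) k)) :
        Set (SpecialLinearGroup (Fin (n + 3)) k)) := by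
    ext t
    constructor
    · rintro ⟨c, hc⟩
      refine ⟨c, Subtype.ext ?_⟩
      rw [coe_tvE_single (by simp)]
      exact hc
    · rintro ⟨c, rfl⟩
      exact ⟨c, coe_tvE_single (by simp) c⟩
  rw [hset, Subgroup.closure_eq]

lemma card_fin : 3 ≤ Fintype.card (Fin (n + 3)) := by simp

lemma sigma_eq :
    {A : Subgroup (Matrix.SpecialLinearGroup (Fin (n + 3)) k) |
        ∃ g : Matrix.SpecialLinearGroup (Fin (n + 3)) k,
          A = Cfsg.conjBy (Subgroup.closure {t : Matrix.SpecialLinearGroup (Fin (n + 3)) k |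
            ∃ c : k, (t : Matrix (Fin (n + 3)) (Fin (n + 3)) k) = Matrix.transvection 0 1 c}) g} =
      TS k (Fin (n + 3)) := by
  rw [closure_std]
  ext A
  constructor
  · rintro ⟨g, rfl⟩
    exact conj_mem_TS (tvSub_mem_TS _ (single_ne_zero _) (single_ne_zero _)) g
  · rintro ⟨v, φ, h, hv, hφ, rfl⟩
    exact tvSub_conj (card_fin n) _ h (single_ne_zero _) (single_ne_zero _) hv hφ

end Final

/-- Let k be a field and n a natural number. In SL_{n+3}(k) (so in every dimension at least 3) the conjugates of the root subgroup of elementary transvections 1 + c E₁₂ (c ∈ k) — that is, the groups of transvections attached to an incident point–hyperplane pair — form a non-degenerate class of abstract k-root subgroups of SL_{n+3}(k) whose graph of rank one pairs is connected. -/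
theorem result (k : Type*) [Field k] (n : ℕ) :
    Cfsg.IsRootSubgroupClass {A : Subgroup (Matrix.SpecialLinearGroup (Fin (n + 3)) k) |
        ∃ g : Matrix.SpecialLinearGroup (Fin (n + 3)) k,
          A = Cfsg.conjBy (Subgroup.closure {t : Matrix.SpecialLinearGroup (Fin (n + 3)) k |
            ∃ c : k, (t : Matrix (Fin (n + 3)) (Fin (n + 3)) k) = Matrix.transvection 0 1 c}) g} ∧
    Cfsg.IsNondegenerateRootSet {A : Subgroup (Matrix.SpecialLinearGroup (Fin (n + 3)) k) |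
        ∃ g : Matrix.SpecialLinearGroup (Fin (n + 3)) k,
          A = Cfsg.conjBy (Subgroup.closure {t : Matrix.SpecialLinearGroup (Fin (n + 3)) k |
            ∃ c : k, (t : Matrix (Fin (n + 3)) (Fin (n + 3)) k) = Matrix.transvection 0 1 c}) g} ∧
    Cfsg.IsKRootSubgroupSet k {A : Subgroup (Matrix.SpecialLinearGroup (Fin (n + 3)) k) |
        ∃ g : Matrix.SpecialLinearGroup (Fin (n + 3)) k,
          A = Cfsg.conjBy (Subgroup.closure {t : Matrix.SpecialLinearGroup (Fin (n + 3)) k |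
            ∃ c : k, (t : Matrix (Fin (n + 3)) (Fin (n + 3)) k) = Matrix.transvection 0 1 c}) g} ∧
    Cfsg.IsConnectedFamily (Cfsg.FAdj {A : Subgroup (Matrix.SpecialLinearGroup (Fin (n + 3)) k) |
        ∃ g : Matrix.SpecialLinearGroup (Fin (n + 3)) k,
          A = Cfsg.conjBy (Subgroup.closure {t : Matrix.SpecialLinearGroup (Fin (n + 3)) k |
            ∃ c : k, (t : Matrix (Fin (n + 3)) (Fin (n + 3)) k) = Matrix.transvection 0 1 c}) g})
      {A : Subgroup (Matrix.SpecialLinearGroup (Fin (n + 3)) k) |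
        ∃ g : Matrix.SpecialLinearGroup (Fin (n + 3)) k,
          A = Cfsg.conjBy (Subgroup.closure {t : Matrix.SpecialLinearGroup (Fin (n + 3)) k |
            ∃ c : k, (t : Matrix (Fin (n + 3)) (Fin (n + 3)) k) = Matrix.transvection 0 1 c}) g} := by
  rw [sigma_eq]
  have h01 : (0 : Fin (n + 3)) ≠ 1 := by
    intro h; have := congrArg Fin.val h; simp at this
  have h02 : (0 : Fin (n + 3)) ≠ 2 := by
    intro h
    have := congrArg Fin.val h
    rw [Fin.val_zero, Fin.val_two] at this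
    omega
  have h12 : (1 : Fin (n + 3)) ≠ 2 := by
    intro h
    have := congrArg Fin.val h
    rw [Fin.val_one, Fin.val_two] at this
    omega
  exact ⟨⟨isRootSubgroupSet_TS, conjClass_TS (card_fin n) h01⟩, nondegenerate_TS h01 h02 h12,
    ⟨isRootSubgroupSet_TS, fun A hA B hB hr => psl2_TS hA hB hr⟩,
    connected_TS (card_fin n) h01 h02 h12⟩

end Cfsg.Agent.S5043
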