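import Cfsg.Statements.S5045
import Cfsg.Agent.Lib.Helper83.RootInv
import Cfsg.Agent.Lib.Helper96.BaerSuzuki

set_option autoImplicit false
open Cfsg

namespace Cfsg.Agent.S5045

open Cfsg.Agent.Lib.Helper83 Cfsg.Agent.Lib.Helper83.RootInv

section

variable {G : Type*} [Group G] {D : Set G}

/-- The set `W` of isolated vertices of the odd-order-product graph. -/
def W (D : Set G) : Set G := {w | Cfsg.IsIsolatedElem (Cfsg.OddAdj D) D w}

lemma conj_oddAdj (hD : Cfsg.IsRootInvolutionSet D) {a b : G} (g : G) (h : Cfsg.OddAdj D a b) :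
    Cfsg.OddAdj D (g * a * g⁻¹) (g * b * g⁻¹) := by
  obtain ⟨ha, hb, hne, hodd⟩ := h
  refine ⟨hD.conj_mem a ha g, hD.conj_mem b hb g, ?_, ?_⟩
  · intro h
    apply hne
    have := congrArg (fun y => g⁻¹ * y * g) h
    simpa [mul_assoc] using this
  · have : g * a * g⁻¹ * (g * b * g⁻¹) = g * (a * b) * g⁻¹ := by group
    rw [this, orderOf_conj']
    exact hodd

lemma conj_mem_W (hD : Cfsg.IsRootInvolutionSet D) {w : G} (hw : w ∈ W D) (g : G) :
    g * w * g⁻¹ ∈ W D := by
  obtain ⟨hwD, hiso⟩ := hw
  refine ⟨hD.conj_mem w hwD g, fun b => ⟨?_, ?_⟩⟩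
  · intro h
    have h1 := conj_oddAdj hD g⁻¹ h
    have h2 : g⁻¹ * (g * w * g⁻¹) * g⁻¹⁻¹ = w := by group
    rw [h2] at h1
    exact (hiso _).1 h1
  · intro h
    have h1 := conj_oddAdj hD g⁻¹ h
    have h2 : g⁻¹ * (g * w * g⁻¹) * g⁻¹⁻¹ = w := by group
    rw [h2] at h1
    exact (hiso _).2 h1

lemma normal_closure_W (hD : Cfsg.IsRootInvolutionSet D) : (Subgroup.closure (W D)).Normal := by
  constructor
  intro n hn g
  have hle : (Subgroup.closure (W D)).map (MulAut.conj g).toMonoidHom ≤ Subgroup.closure (W D) := by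
    rw [MonoidHom.map_closure, Subgroup.closure_le]
    rintro _ ⟨w, hw, rfl⟩
    apply Subgroup.subset_closure
    exact conj_mem_W hD hw g
  exact hle ⟨n, hn, rfl⟩

/-- Products of an isolated vertex with members of `D` have order dividing `4`. -/
lemma pow_four_of_mem_W (hD : Cfsg.IsRootInvolutionSet D) {a b : G} (ha : a ∈ W D) (hb : b ∈ D) :
    (a * b) ^ 4 = 1 := by
  by_cases hab : a = b
  · rw [← hab, sq hD ha.1, one_pow]
  rcases hD.pair a ha.1 b hb with h | h | ⟨h, _⟩
  · have h2 : (a * b) ^ 2 = 1 := by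
      rw [pow_two]
      calc a * b * (a * b) = a * (b * a) * b := by group
        _ = a * (a * b) * b := by rw [h]
        _ = (a * a) * (b * b) := by group
        _ = 1 := by rw [sq hD ha.1, sq hD hb, one_mul]
    calc (a * b) ^ 4 = ((a * b) ^ 2) ^ 2 := by rw [← pow_mul]
      _ = 1 := by rw [h2, one_pow]
  · exact absurd ⟨ha.1, hb, hab, h⟩ (ha.2 b).1
  · rw [← h]
    exact pow_orderOf_eq_one _

lemma isPGroup_closure_W [Finite G] (hD : Cfsg.IsRootInvolutionSet D) :
    IsPGroup 2 ↥(Subgroup.closure (W D)) := by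
  have : Fact (Nat.Prime 2) := ⟨Nat.prime_two⟩
  apply Cfsg.Agent.Lib.Helper96.isPGroup_closure_of_pairwise (W D) (fun k hk g => conj_mem_W hD hk g)
  intro a ha b hb
  exact isPGroup_closure_pair (sq hD ha.1) (sq hD hb.1) (pow_four_of_mem_W hD ha hb.1)

lemma inter_eq [Finite G] (hD : Cfsg.IsRootInvolutionSet D) :
    (Subgroup.closure (W D) : Set G) ∩ D = W D := by
  ext d
  constructor
  · rintro ⟨hdN, hdD⟩
    have hN := normal_closure_W hD
    have hP := isPGroup_closure_W hD
    -- no neighbour
    have key : ∀ b : G, ¬ Cfsg.OddAdj D d b := by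
      rintro b ⟨_, hb, hne, hodd⟩
      have hmem : (d * b) ^ 2 ∈ Subgroup.closure (W D) := by
        have h1 : (d * b) ^ 2 = d * (b * d * b⁻¹) := by
          rw [pow_two, inv_eq hD hb]; group
        rw [h1]
        exact Subgroup.mul_mem _ hdN (hN.conj_mem d hdN b)
      obtain ⟨k, hk⟩ := hP ⟨(d * b) ^ 2, hmem⟩
      have hk' : ((d * b) ^ 2) ^ (2 ^ k) = 1 := by
        have := congrArg Subtype.val hk
        simpa using this
      have hdvd : orderOf (d * b) ∣ 2 ^ (k + 1) := by
        apply orderOf_dvd_of_pow_eq_one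
        rw [pow_succ', pow_mul]
        exact hk'
      have hcop : (orderOf (d * b)).Coprime (2 ^ (k + 1)) :=
        Nat.Coprime.pow_right _ ((Nat.coprime_two_right).mpr hodd)
      have h1 : orderOf (d * b) = 1 := Nat.Coprime.eq_one_of_dvd hcop hdvd
      rw [orderOf_eq_one_iff] at h1
      apply hne
      have : d = b⁻¹ := eq_inv_of_mul_eq_one_left h1
      rw [this, inv_eq hD hb]
    exact ⟨hdD, fun b => ⟨key b, fun h => key b (oddAdj_symm h)⟩⟩
  · intro hd
    exact ⟨Subgroup.subset_closure hd, hd.1⟩

/-- A member of a component with more than one element has a neighbour. -/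
lemma exists_neighbour {a : G}
    (h : ∃ a' ∈ Cfsg.elemComponentOf (Cfsg.OddAdj D) D a, a' ≠ a) : ∃ x, Cfsg.OddAdj D a x := by
  obtain ⟨a', ⟨_, hrtg⟩, hne⟩ := h
  rcases Relation.ReflTransGen.cases_head hrtg with h | ⟨c, hac, _⟩
  · exact absurd h.symm hne
  · exact ⟨c, hac⟩

lemma mem_component_of_adj {a x e : G} (h1 : Cfsg.OddAdj D a x) (h2 : Cfsg.OddAdj D x e) :
    e ∈ Cfsg.elemComponentOf (Cfsg.OddAdj D) D a :=
  ⟨h2.2.1, (Relation.ReflTransGen.single h1).trans (Relation.ReflTransGen.single h2)⟩

/-- Part (6): product partners of `a` lie in the component of `a` or are isolated. -/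
lemma productPartners_subset (hD : Cfsg.IsRootInvolutionSet D) {a : G} (ha : a ∈ D)
    (hcomp : ∃ a' ∈ Cfsg.elemComponentOf (Cfsg.OddAdj D) D a, a' ≠ a) :
    Cfsg.productPartners D a ⊆ Cfsg.elemComponentOf (Cfsg.OddAdj D) D a ∪ W D := by
  rintro e ⟨⟨he, hea, hne⟩, heaD⟩
  by_cases heW : e ∈ W D
  · exact Or.inr heW
  left
  obtain ⟨x, hax⟩ := exists_neighbour hcomp
  have hey : ∃ y, Cfsg.OddAdj D e y := by
    by_contra hno
    push Not at hno
    exact heW ⟨he, fun b => ⟨hno b, fun h => hno b (oddAdj_symm h)⟩⟩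
  obtain ⟨y, hey⟩ := hey
  have hae : a * e = e * a := hea.symm
  have haeD : a * e ∈ D := by rw [hae]; exact heaD
  rcases line_lemma hD ha he hae haeD hax with h1 | h1
  · exact mem_component_of_adj hax (oddAdj_symm h1)
  · rcases line_lemma hD he ha hea heaD hey with h2 | h2
    · exact mem_component_of_adj h2 (oddAdj_symm hey)
    · rw [hea] at h2
      refine ⟨he, ?_⟩
      exact ((Relation.ReflTransGen.single hax).trans
        (Relation.ReflTransGen.single (oddAdj_symm h1))).trans
        ((Relation.ReflTransGen.single h2).trans (Relation.ReflTransGen.single (oddAdj_symm hey)))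

/-- Part (5): commutators of members of different non-trivial components lie in `⟨W⟩`. -/
lemma commutator_mem (hD : Cfsg.IsRootInvolutionSet D) {a b : G} (ha : a ∈ D) (hb : b ∈ D)
    (hca : ∃ a' ∈ Cfsg.elemComponentOf (Cfsg.OddAdj D) D a, a' ≠ a)
    (hcb : ∃ b' ∈ Cfsg.elemComponentOf (Cfsg.OddAdj D) D b, b' ≠ b)
    (hne : Cfsg.elemComponentOf (Cfsg.OddAdj D) D a ≠ Cfsg.elemComponentOf (Cfsg.OddAdj D) D b) :
    a * b * a⁻¹ * b⁻¹ ∈ Subgroup.closure (W D) := by
  have ha2 := sq hD ha
  have hb2 := sq hD hb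
  rw [inv_eq hD ha, inv_eq hD hb]
  rcases hD.pair a ha b hb with h | h | ⟨h4, hcD⟩
  · have : a * b * a * b = 1 := by
      calc a * b * a * b = a * (b * a) * b := by group
        _ = a * (a * b) * b := by rw [h]
        _ = (a * a) * (b * b) := by group
        _ = 1 := by rw [ha2, hb2, one_mul]
    rw [this]
    exact Subgroup.one_mem _
  · exfalso
    apply hne
    by_cases hab : a = b
    · rw [hab]
    · exact component_eq_of_rtg (Relation.ReflTransGen.single ⟨ha, hb, hab, h⟩)
  · have h4p : (a * b) ^ 4 = 1 := by rw [← h4]; exact pow_orderOf_eq_one _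
    obtain ⟨hcc, hbc, hac, haba⟩ := four_calc ha2 hb2 h4p
    have hc : (a * b) ^ 2 = a * b * a * b := by rw [pow_two]; group
    rw [← hc]
    apply Subgroup.subset_closure
    by_contra hcW
    -- `c` is a product partner of `a`
    have hc1 : (a * b) ^ 2 ≠ 1 := ne_one hD hcD
    have hpa : (a * b) ^ 2 ∈ Cfsg.productPartners D a := by
      refine ⟨⟨hcD, hac.symm, ?_⟩, ?_⟩
      · intro h
        rw [hc] at h
        have : b * a * b = 1 := by
          have h' : a * (b * a * b) = a * 1 := by
            calc a * (b * a * b) = a * b * a * b := by group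
              _ = a := h
              _ = a * 1 := (mul_one a).symm
          exact mul_left_cancel h'
        apply ne_one hD ha
        calc a = b * (b * a * b) * b := by
              calc a = (b * b) * a * (b * b) := by rw [hb2, one_mul, mul_one]
                _ = b * (b * a * b) * b := by group
          _ = 1 := by rw [this, mul_one, hb2]
      · have : (a * b) ^ 2 * a = b * a * b⁻¹ := by
          rw [inv_eq hD hb, ← hac, hc]
          calc a * (a * b * a * b) = (a * a) * b * a * b := by group
            _ = b * a * b := by rw [ha2, one_mul]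
        rw [this]
        exact hD.conj_mem a ha b
    have hpb : (a * b) ^ 2 ∈ Cfsg.productPartners D b := by
      refine ⟨⟨hcD, hbc.symm, ?_⟩, ?_⟩
      · intro h
        rw [hc] at h
        have : a * b * a = 1 := by
          have h' : (a * b * a) * b = 1 * b := by rw [one_mul]; exact h
          exact mul_right_cancel h'
        apply ne_one hD hb
        calc b = a * (a * b * a) * a := by
              calc b = (a * a) * b * (a * a) := by rw [ha2, one_mul, mul_one]
                _ = a * (a * b * a) * a := by group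
          _ = 1 := by rw [this, mul_one, ha2]
      · have : (a * b) ^ 2 * b = a * b * a⁻¹ := by
          rw [inv_eq hD ha, hc]
          calc a * b * a * b * b = a * b * a * (b * b) := by group
            _ = a * b * a := by rw [hb2, mul_one]
        rw [this]
        exact hD.conj_mem b hb a
    have h1 : (a * b) ^ 2 ∈ Cfsg.elemComponentOf (Cfsg.OddAdj D) D a := by
      rcases productPartners_subset hD ha hca hpa with h | h
      · exact h
      · exact absurd h hcW
    have h2 : (a * b) ^ 2 ∈ Cfsg.elemComponentOf (Cfsg.OddAdj D) D b := by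
      rcases productPartners_subset hD hb hcb hpb with h | h
      · exact h
      · exact absurd h hcW
    apply hne
    rw [component_eq_of_rtg h1.2, component_eq_of_rtg h2.2]

end

/-- Let G be a finite group generated by a set D of root involutions, and W the set of members of D whose product with every other member of D has even order or is trivial (the isolated vertices of the odd-order-product graph on D). Then W is conjugation-invariant and generates a normal 2-subgroup of G meeting D in exactly W; the commutator of two members of D lying in different connected components of that graph, each with more than one member, lies in the subgroup generated by W; and for a in such a component, every member of D commuting with a, different from a and with product with a in D, lies in that component or in W. -/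
theorem result {G : Type*} [Group G] [Finite G] {D : Set G} (hD : Cfsg.IsRootInvolutionSet D) :
    (∀ w ∈ {w | Cfsg.IsIsolatedElem (Cfsg.OddAdj D) D w}, ∀ g : G, g * w * g⁻¹ ∈ {w | Cfsg.IsIsolatedElem (Cfsg.OddAdj D) D w}) ∧
    (Subgroup.closure {w | Cfsg.IsIsolatedElem (Cfsg.OddAdj D) D w}).Normal ∧
    IsPGroup 2 ↥(Subgroup.closure {w | Cfsg.IsIsolatedElem (Cfsg.OddAdj D) D w}) ∧
    (Subgroup.closure {w | Cfsg.IsIsolatedElem (Cfsg.OddAdj D) D w} : Set G) ∩ D = {w | Cfsg.IsIsolatedElem (Cfsg.OddAdj D) D w} ∧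
    (∀ a ∈ D, ∀ b ∈ D, (∃ a' ∈ Cfsg.elemComponentOf (Cfsg.OddAdj D) D a, a' ≠ a) →
      (∃ b' ∈ Cfsg.elemComponentOf (Cfsg.OddAdj D) D b, b' ≠ b) →
      Cfsg.elemComponentOf (Cfsg.OddAdj D) D a ≠ Cfsg.elemComponentOf (Cfsg.OddAdj D) D b →
        a * b * a⁻¹ * b⁻¹ ∈ Subgroup.closure {w | Cfsg.IsIsolatedElem (Cfsg.OddAdj D) D w}) ∧
    (∀ a ∈ D, (∃ a' ∈ Cfsg.elemComponentOf (Cfsg.OddAdj D) D a, a' ≠ a) →
      Cfsg.productPartners D a ⊆ Cfsg.elemComponentOf (Cfsg.OddAdj D) D a ∪ {w | Cfsg.IsIsolatedElem (Cfsg.OddAdj D) D w}) :=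
  ⟨fun _ hw g => conj_mem_W hD hw g, normal_closure_W hD, isPGroup_closure_W hD, inter_eq hD,
    fun _ ha _ hb hca hcb hne => commutator_mem hD ha hb hca hcb hne,
    fun _ ha hca => productPartners_subset hD ha hca⟩

end Cfsg.Agent.S5045
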