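import Cfsg.Statements.S5048
import Cfsg.Agent.Lib.Helper55.Cores2

set_option autoImplicit false
open Cfsg

namespace Cfsg.Agent.S5048

open Cfsg.Agent.Lib.Helper55

variable {G : Type*} [Group G]

/-- two involutions with product of odd order are conjugate -/
theorem conj_of_odd {a b : G} (ha : a * a = 1) (hb : b * b = 1) (hodd : Odd (orderOf (a * b))) :
    ∃ g : G, b = g * a * g⁻¹ := by
  obtain ⟨k, hk⟩ := hodd
  obtain ⟨r, hr⟩ : ∃ r, r = a * b := ⟨_, rfl⟩
  have hrk : r ^ (2 * k + 1) = 1 := by rw [hr, ← hk]; exact pow_orderOf_eq_one _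
  have ha' : a⁻¹ = a := inv_eq_of_mul_eq_one_left ha
  have hb' : b⁻¹ = b := inv_eq_of_mul_eq_one_left hb
  have har : a * r * a⁻¹ = r⁻¹ := by
    rw [hr, mul_inv_rev, ha', hb']
    calc a * (a * b) * a = (a * a) * b * a := by group
      _ = b * a := by rw [ha, one_mul]
  have hark : a * r ^ k * a⁻¹ = (r ^ k)⁻¹ := by
    rw [← conj_pow, har, inv_pow]
  refine ⟨r ^ k, ?_⟩
  have h2k : r ^ k * r ^ k = r⁻¹ := by
    have : r ^ k * r ^ k * r = 1 := by
      rw [← pow_add, ← pow_succ]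
      have : k + k + 1 = 2 * k + 1 := by ring
      rw [this]; exact hrk
    exact eq_inv_of_mul_eq_one_left this
  calc b = r⁻¹ * a := by rw [hr, mul_inv_rev, ha', hb', mul_assoc, ha, mul_one]
    _ = r ^ k * r ^ k * a := by rw [h2k]
    _ = r ^ k * (a * a) * r ^ k * a⁻¹ := by rw [ha, mul_one, ha']
    _ = r ^ k * a * (a * r ^ k * a⁻¹) := by group
    _ = r ^ k * a * (r ^ k)⁻¹ := by rw [hark]

section basic

variable {D : Set G} (hD : Cfsg.IsRootInvolutionSet D)
include hD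

theorem sq_eq_one {d : G} (hd : d ∈ D) : d * d = 1 := by
  have := hD.orderOf_eq d hd
  have h2 := pow_orderOf_eq_one d
  rw [this, pow_two] at h2
  exact h2

theorem inv_eq_self {d : G} (hd : d ∈ D) : d⁻¹ = d :=
  inv_eq_of_mul_eq_one_left (sq_eq_one hD hd)

theorem ne_one {d : G} (hd : d ∈ D) : d ≠ 1 := by
  intro h
  have := hD.orderOf_eq d hd
  rw [h, orderOf_one] at this
  omega

theorem conj_of_reach {a b : G} (h : Relation.ReflTransGen (Cfsg.OddAdj D) a b) :
    ∃ g : G, b = g * a * g⁻¹ := by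
  induction h with
  | refl => exact ⟨1, by simp⟩
  | tail _ hbc ih =>
    obtain ⟨g₁, hg₁⟩ := ih
    obtain ⟨hb, hc, -, hodd⟩ := hbc
    obtain ⟨g₂, hg₂⟩ := conj_of_odd (sq_eq_one hD hb) (sq_eq_one hD hc) hodd
    refine ⟨g₂ * g₁, ?_⟩
    rw [hg₂, hg₁]; group

theorem conj_of_connected (hc : Cfsg.IsConnectedSet (Cfsg.OddAdj D) D) {a b : G} (ha : a ∈ D)
    (hb : b ∈ D) : ∃ g : G, b = g * a * g⁻¹ :=
  conj_of_reach hD (hc a ha b hb)

/-- a normal subgroup meeting `D` is everything -/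
theorem eq_top_of_meets (hc : Cfsg.IsConnectedSet (Cfsg.OddAdj D) D) (N : Subgroup G) [N.Normal]
    {d : G} (hd : d ∈ D) (hdN : d ∈ N) : N = ⊤ := by
  rw [eq_top_iff, ← hD.generates, Subgroup.closure_le]
  intro x hx
  obtain ⟨g, rfl⟩ := conj_of_connected hD hc hd hx
  exact Subgroup.Normal.conj_mem inferInstance d hdN g

/-- every member of `D` has a commuting partner in `D` with product in `D` -/
theorem exists_partner (hc : Cfsg.IsConnectedSet (Cfsg.OddAdj D) D)
    (hDD : (D ∩ Cfsg.commutingProducts D).Nonempty) {d : G} (hd : d ∈ D) :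
    ∃ b ∈ D, d * b = b * d ∧ d * b ∈ D := by
  obtain ⟨x, hxD, a, ha, b, hb, hab, -, rfl⟩ := hDD
  obtain ⟨g, rfl⟩ := conj_of_connected hD hc ha hd
  refine ⟨g * b * g⁻¹, hD.conj_mem b hb g, ?_, ?_⟩
  · calc g * a * g⁻¹ * (g * b * g⁻¹) = g * (a * b) * g⁻¹ := by group
      _ = g * (b * a) * g⁻¹ := by rw [hab]
      _ = g * b * g⁻¹ * (g * a * g⁻¹) := by group
  · have := hD.conj_mem (a * b) hxD g
    have h2 : g * a * g⁻¹ * (g * b * g⁻¹) = g * (a * b) * g⁻¹ := by group
    rw [h2]; exact this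

end basic

theorem eq_one_of_sq_of_odd {y : G} (h2 : y * y = 1) (hodd : Odd (orderOf y)) : y = 1 := by
  have hdvd : orderOf y ∣ 2 := orderOf_dvd_of_pow_eq_one (by rw [pow_two]; exact h2)
  rcases (Nat.dvd_prime Nat.prime_two).mp hdvd with h | h
  · exact orderOf_eq_one_iff.mp h
  · rw [h] at hodd; exact absurd hodd (by decide)

theorem mem_of_sq_mem_of_odd (H : Subgroup G) {x : G} (h2 : x ^ 2 ∈ H) (hodd : Odd (orderOf x)) :
    x ∈ H := by
  obtain ⟨j, hj⟩ := hodd
  have h1 : x ^ (2 * j + 1) = 1 := by rw [← hj]; exact pow_orderOf_eq_one x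
  have h3 : (x ^ 2) ^ (j + 1) = x := by
    rw [← pow_mul]
    have : 2 * (j + 1) = (2 * j + 1) + 1 := by ring
    rw [this, pow_succ, h1, one_mul]
  rw [← h3]
  exact H.pow_mem h2 _

section key

variable {D : Set G} (hD : Cfsg.IsRootInvolutionSet D)
include hD

/-- Key lemma: if the normal subgroup `N` misses `D`, then `d ∈ D` commutes with its
`N`-conjugates. -/
theorem key_commute (N : Subgroup G) [N.Normal] (hN : ∀ x ∈ D, x ∉ N)
    (hpart : ∀ d ∈ D, ∃ b ∈ D, d * b = b * d ∧ d * b ∈ D)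
    {d n : G} (hd : d ∈ D) (hn : n ∈ N) : d * (n * d * n⁻¹) = (n * d * n⁻¹) * d := by
  have hdd : d * d = 1 := sq_eq_one hD hd
  have hdinv : d⁻¹ = d := inv_eq_self hD hd
  obtain ⟨e, he_def⟩ : ∃ e, e = n * d * n⁻¹ := ⟨_, rfl⟩
  rw [← he_def]
  have he : e ∈ D := by rw [he_def]; exact hD.conj_mem d hd n
  have hee : e * e = 1 := sq_eq_one hD he
  have heinv : e⁻¹ = e := inv_eq_self hD he
  obtain ⟨y, hy_def⟩ : ∃ y, y = d * e := ⟨_, rfl⟩
  have hy : y ∈ N := by
    have h1 : y = (d * n * d⁻¹) * n⁻¹ := by rw [hy_def, he_def, hdinv]; group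
    rw [h1]
    exact N.mul_mem (Subgroup.Normal.conj_mem inferInstance n hn d) (N.inv_mem hn)
  have hdyd : d * y * d = y⁻¹ := by
    rw [hy_def, mul_inv_rev, hdinv, heinv, ← mul_assoc, hdd, one_mul]
  have he_eq : e = d * y := by rw [hy_def, ← mul_assoc, hdd, one_mul]
  rcases hD.pair d hd e he with h | h | ⟨-, hsq⟩
  · exact h
  · rw [← hy_def] at h
    -- sub-lemma
    have sub : ∀ c ∈ D, c * d = d * c → d * c ∈ D → c * y = y * c := by
      intro c hc hcd hdc
      have hcc : c * c = 1 := sq_eq_one hD hc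
      have hcinv : c⁻¹ = c := inv_eq_self hD hc
      have hsqN : (e * c) ^ 2 ∈ N := by
        have : (e * c) ^ 2 = y⁻¹ * (c * y * c⁻¹) := by
          calc (e * c) ^ 2 = (d * y * c) * (d * y * c) := by rw [pow_two, he_eq]
            _ = d * y * (c * d) * y * c := by group
            _ = d * y * (d * c) * y * c := by rw [hcd]
            _ = (d * y * d) * (c * y * c) := by group
            _ = y⁻¹ * (c * y * c⁻¹) := by rw [hdyd, hcinv]
        rw [this]
        exact N.mul_mem (N.inv_mem hy) (Subgroup.Normal.conj_mem inferInstance y hy c)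
      rcases hD.pair e he c hc with h1 | h1 | ⟨-, h2⟩
      · have : d * (y * c) = d * (c * y) := by
          rw [← mul_assoc, ← he_eq, h1, he_eq, ← mul_assoc, hcd, mul_assoc]
        exact (mul_left_cancel this).symm
      · exfalso
        have hecN : e * c ∈ N := mem_of_sq_mem_of_odd N hsqN h1
        have hdcN : d * c ∈ N := by
          have : d * c = (e * c) * (c⁻¹ * y⁻¹ * c⁻¹⁻¹) := by rw [he_eq]; group
          rw [this]
          exact N.mul_mem hecN (Subgroup.Normal.conj_mem inferInstance _ (N.inv_mem hy) c⁻¹)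
        exact hN _ hdc hdcN
      · exact absurd hsqN (hN _ h2)
    obtain ⟨b, hb, hdb, hdbD⟩ := hpart d hd
    have hby : b * y = y * b := sub b hb hdb.symm hdbD
    have hdby : (d * b) * y = y * (d * b) := by
      refine sub (d * b) hdbD ?_ ?_
      · rw [mul_assoc, ← hdb]
      · rw [← mul_assoc, hdd, one_mul]; exact hb
    have hdy : d * y = y * d := by
      have : d * y * b = y * d * b := by
        rw [mul_assoc, ← hby, ← mul_assoc, hdby, mul_assoc]
      exact mul_right_cancel this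
    have hyy : y * y = 1 := by
      have : y⁻¹ = y := by rw [← hdyd, hdy, mul_assoc, hdd, mul_one]
      calc y * y = y⁻¹ * y := by rw [this]
        _ = 1 := inv_mul_cancel y
    have hy1 : y = 1 := eq_one_of_sq_of_odd hyy h
    have : e = d := by rw [he_eq, hy1, mul_one]
    rw [this]
  · exfalso
    rw [← hy_def] at hsq
    exact hN _ hsq (N.pow_mem hy 2)

end key

section core

variable {D : Set G} (hD : Cfsg.IsRootInvolutionSet D)
include hD

/-- commutators `[n, d]` of `n ∈ N` with `d ∈ D` lie in `O₂(G)` when `N` misses `D` -/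
theorem comm_mem_pCore (N : Subgroup G) [N.Normal] (hN : ∀ x ∈ D, x ∉ N)
    (hpart : ∀ d ∈ D, ∃ b ∈ D, d * b = b * d ∧ d * b ∈ D)
    {d n : G} (hd : d ∈ D) (hn : n ∈ N) : n * d * n⁻¹ * d⁻¹ ∈ pCore 2 G := by
  obtain ⟨T, hT⟩ : ∃ T : Set G, T = {x | ∃ m ∈ N, x = m * d * m⁻¹} := ⟨_, rfl⟩
  have hTD : ∀ x ∈ T, x ∈ D := by
    intro x hx
    rw [hT] at hx
    obtain ⟨m, -, rfl⟩ := hx
    exact hD.conj_mem d hd m
  have hTcomm : ∀ x ∈ T, ∀ y ∈ T, x * y = y * x := by
    intro x hx y hy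
    rw [hT] at hx hy
    obtain ⟨n₁, hn₁, rfl⟩ := hx
    obtain ⟨n₂, hn₂, rfl⟩ := hy
    have key := key_commute hD N hN hpart hd (N.mul_mem (N.inv_mem hn₁) hn₂)
    calc n₁ * d * n₁⁻¹ * (n₂ * d * n₂⁻¹)
        = n₁ * (d * ((n₁⁻¹ * n₂) * d * (n₁⁻¹ * n₂)⁻¹)) * n₁⁻¹ := by group
      _ = n₁ * (((n₁⁻¹ * n₂) * d * (n₁⁻¹ * n₂)⁻¹) * d) * n₁⁻¹ := by rw [key]
      _ = n₂ * d * n₂⁻¹ * (n₁ * d * n₁⁻¹) := by group
  obtain ⟨A, hA⟩ : ∃ A : Subgroup G, A = Subgroup.closure T := ⟨_, rfl⟩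
  have hAcomm : ∀ x ∈ A, ∀ y ∈ A, x * y = y * x := by
    intro x hx y hy
    rw [hA] at hx hy
    have := (Subgroup.isMulCommutative_closure hTcomm).is_comm.comm ⟨x, hx⟩ ⟨y, hy⟩
    exact congrArg Subtype.val this
  have hAsq : ∀ x ∈ A, x * x = 1 := by
    intro x hx
    have hx' := hx
    rw [hA] at hx'
    induction hx' using Subgroup.closure_induction with
    | mem x hxT => exact sq_eq_one hD (hTD x hxT)
    | one => simp
    | mul x y hx1 hy1 ihx ihy =>
      have hxA : x ∈ A := by rw [hA]; exact hx1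
      have hyA : y ∈ A := by rw [hA]; exact hy1
      calc x * y * (x * y) = x * (y * x) * y := by group
        _ = x * (x * y) * y := by rw [hAcomm y hyA x hxA]
        _ = (x * x) * (y * y) := by group
        _ = 1 := by rw [ihx hxA, ihy hyA, one_mul]
    | inv x hx1 ihx =>
      have hxA : x ∈ A := by rw [hA]; exact hx1
      calc x⁻¹ * x⁻¹ = (x * x)⁻¹ := by group
        _ = 1 := by rw [ihx hxA, inv_one]
  have hAconj : ∀ m ∈ N, ∀ x ∈ A, m * x * m⁻¹ ∈ A := by
    intro m hm x hx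
    have hx' := hx
    rw [hA] at hx'
    induction hx' using Subgroup.closure_induction with
    | mem x hxT =>
      rw [hA]
      apply Subgroup.subset_closure
      rw [hT] at hxT ⊢
      obtain ⟨m', hm', rfl⟩ := hxT
      exact ⟨m * m', N.mul_mem hm hm', by group⟩
    | one => simp [A.one_mem]
    | mul x y hx1 hy1 ihx ihy =>
      have hxA : x ∈ A := by rw [hA]; exact hx1
      have hyA : y ∈ A := by rw [hA]; exact hy1
      have : m * (x * y) * m⁻¹ = (m * x * m⁻¹) * (m * y * m⁻¹) := by group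
      rw [this]
      exact A.mul_mem (ihx hxA) (ihy hyA)
    | inv x hx1 ihx =>
      have hxA : x ∈ A := by rw [hA]; exact hx1
      have : m * x⁻¹ * m⁻¹ = (m * x * m⁻¹)⁻¹ := by group
      rw [this]
      exact A.inv_mem (ihx hxA)
  -- the normal 2-subgroup of `N`
  have hBn : (A.subgroupOf N).Normal := by
    refine ⟨fun x hx g => ?_⟩
    rw [Subgroup.mem_subgroupOf] at hx ⊢
    exact hAconj g g.2 x hx
  have hBp : IsPGroup 2 ↥(A.subgroupOf N) := by
    intro g
    refine ⟨1, ?_⟩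
    apply Subtype.ext
    apply Subtype.ext
    have hg : ((g : ↥N) : G) ∈ A := Subgroup.mem_subgroupOf.mp g.2
    have := hAsq _ hg
    rw [pow_one, pow_two]
    exact this
  have hBle : A.subgroupOf N ≤ pCore 2 ↥N := le_pCore hBn hBp
  have hcN : n * d * n⁻¹ * d⁻¹ ∈ N := by
    have : n * d * n⁻¹ * d⁻¹ = n * (d * n⁻¹ * d⁻¹) := by group
    rw [this]
    exact N.mul_mem hn (Subgroup.Normal.conj_mem inferInstance _ (N.inv_mem hn) d)
  have hcA : n * d * n⁻¹ * d⁻¹ ∈ A := by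
    have h1 : n * d * n⁻¹ ∈ A := by
      rw [hA]; apply Subgroup.subset_closure; rw [hT]; exact ⟨n, hn, rfl⟩
    have h2 : d ∈ A := by
      rw [hA]; apply Subgroup.subset_closure; rw [hT]; exact ⟨1, N.one_mem, by group⟩
    exact A.mul_mem h1 (A.inv_mem h2)
  have hmem : (⟨n * d * n⁻¹ * d⁻¹, hcN⟩ : ↥N) ∈ A.subgroupOf N := by
    rw [Subgroup.mem_subgroupOf]; exact hcA
  exact pCore_map_subtype_le 2 N (Subgroup.mem_map_of_mem N.subtype (hBle hmem))

/-- a normal subgroup missing `D` lies in `O_{2,Z}(G)` -/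
theorem le_twoZCore (N : Subgroup G) [N.Normal] (hN : ∀ x ∈ D, x ∉ N)
    (hpart : ∀ d ∈ D, ∃ b ∈ D, d * b = b * d ∧ d * b ∈ D) : N ≤ Cfsg.twoZCore G := by
  intro n hn
  show (QuotientGroup.mk' (pCore 2 G)) n ∈ Subgroup.center (G ⧸ pCore 2 G)
  rw [Subgroup.mem_center_iff]
  intro q
  obtain ⟨g, rfl⟩ := QuotientGroup.mk'_surjective _ q
  have hg : g ∈ Subgroup.closure D := by rw [hD.generates]; trivial
  induction hg using Subgroup.closure_induction with
  | mem d hd =>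
    rw [← map_mul, ← map_mul]
    show ((d * n : G) : G ⧸ pCore 2 G) = ((n * d : G) : G ⧸ pCore 2 G)
    rw [QuotientGroup.eq]
    have h := comm_mem_pCore hD N hN hpart hd (N.inv_mem hn)
    have hdinv : d⁻¹ = d := inv_eq_self hD hd
    have : (d * n)⁻¹ * (n * d) = n⁻¹ * d * n⁻¹⁻¹ * d⁻¹ := by
      rw [mul_inv_rev, inv_inv, hdinv]; group
    rw [this]; exact h
  | one => simp
  | mul x y _ _ hx hy =>
    rw [map_mul, mul_assoc, hy, ← mul_assoc, hx, mul_assoc]
  | inv x _ hx =>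
    rw [map_inv]
    have : ((QuotientGroup.mk' (pCore 2 G)) x)⁻¹ * ((QuotientGroup.mk' (pCore 2 G)) x *
        (QuotientGroup.mk' (pCore 2 G)) n) * ((QuotientGroup.mk' (pCore 2 G)) x)⁻¹ =
        ((QuotientGroup.mk' (pCore 2 G)) x)⁻¹ * ((QuotientGroup.mk' (pCore 2 G)) n *
        (QuotientGroup.mk' (pCore 2 G)) x) * ((QuotientGroup.mk' (pCore 2 G)) x)⁻¹ := by rw [hx]
    simpa [mul_assoc] using this.symm

end core

theorem eq_one_of_pow_two_pow_of_odd {x : G} {k : ℕ} (h : x ^ (2 ^ k) = 1)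
    (hodd : Odd (orderOf x)) : x = 1 := by
  have hdvd : orderOf x ∣ 2 ^ k := orderOf_dvd_of_pow_eq_one h
  have hcop : Nat.Coprime (orderOf x) (2 ^ k) :=
    Nat.Coprime.pow_right k (Nat.coprime_two_right.mpr hodd)
  exact orderOf_eq_one_iff.mp (Nat.Coprime.eq_one_of_dvd hcop hdvd)

section main

variable {D : Set G} (hD : Cfsg.IsRootInvolutionSet D)
include hD

/-- `G / O_{2,Z}(G)` is not commutative -/
theorem not_comm_quot (hc : Cfsg.IsConnectedSet (Cfsg.OddAdj D) D)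
    (hDD : (D ∩ Cfsg.commutingProducts D).Nonempty)
    (hcomm : ∀ x y : G ⧸ Cfsg.twoZCore G, x * y = y * x) : False := by
  obtain ⟨x, hxD, a₀, ha₀, b₀, hb₀, hab, hne, rfl⟩ := hDD
  have hne' : a₀ ≠ b₀ := by
    intro h; apply hne; rw [← h]; exact sq_eq_one hD ha₀
  rcases (hc a₀ ha₀ b₀ hb₀).cases_head with h | ⟨c, hadj, -⟩
  · exact hne' h
  obtain ⟨-, hcD, hac, hodd⟩ := hadj
  obtain ⟨r, hr⟩ : ∃ r, r = a₀ * c := ⟨_, rfl⟩
  rw [← hr] at hodd
  have haa := sq_eq_one hD ha₀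
  have hcc := sq_eq_one hD hcD
  have hainv := inv_eq_self hD ha₀
  have hcinv := inv_eq_self hD hcD
  have hr2Z : r ^ 2 ∈ Cfsg.twoZCore G := by
    rw [← QuotientGroup.eq_one_iff]
    have e1 : ((r ^ 2 : G) : G ⧸ Cfsg.twoZCore G) =
        ((a₀ : G) : G ⧸ Cfsg.twoZCore G) * ((c : G) : G ⧸ Cfsg.twoZCore G) *
        (((a₀ : G) : G ⧸ Cfsg.twoZCore G) * ((c : G) : G ⧸ Cfsg.twoZCore G)) := by
      rw [pow_two, hr]; rfl
    have e2 : ((a₀ : G) : G ⧸ Cfsg.twoZCore G) * ((a₀ : G) : G ⧸ Cfsg.twoZCore G) = 1 := by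
      rw [← QuotientGroup.mk_mul, haa]; rfl
    have e3 : ((c : G) : G ⧸ Cfsg.twoZCore G) * ((c : G) : G ⧸ Cfsg.twoZCore G) = 1 := by
      rw [← QuotientGroup.mk_mul, hcc]; rfl
    have e4 := hcomm ((a₀ : G) : G ⧸ Cfsg.twoZCore G) ((c : G) : G ⧸ Cfsg.twoZCore G)
    rw [e1]
    calc ((a₀ : G) : G ⧸ Cfsg.twoZCore G) * ((c : G) : G ⧸ Cfsg.twoZCore G) *
        (((a₀ : G) : G ⧸ Cfsg.twoZCore G) * ((c : G) : G ⧸ Cfsg.twoZCore G))
        = ((a₀ : G) : G ⧸ Cfsg.twoZCore G) * (((c : G) : G ⧸ Cfsg.twoZCore G) *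
          ((a₀ : G) : G ⧸ Cfsg.twoZCore G)) * ((c : G) : G ⧸ Cfsg.twoZCore G) := by group
      _ = ((a₀ : G) : G ⧸ Cfsg.twoZCore G) * (((a₀ : G) : G ⧸ Cfsg.twoZCore G) *
          ((c : G) : G ⧸ Cfsg.twoZCore G)) * ((c : G) : G ⧸ Cfsg.twoZCore G) := by rw [← e4]
      _ = (((a₀ : G) : G ⧸ Cfsg.twoZCore G) * ((a₀ : G) : G ⧸ Cfsg.twoZCore G)) *
          (((c : G) : G ⧸ Cfsg.twoZCore G) * ((c : G) : G ⧸ Cfsg.twoZCore G)) := by group
      _ = 1 := by rw [e2, e3, one_mul]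
  have hrZ : r ∈ Cfsg.twoZCore G := mem_of_sq_mem_of_odd _ hr2Z hodd
  have hcen : (QuotientGroup.mk' (pCore 2 G)) r ∈ Subgroup.center (G ⧸ pCore 2 G) := hrZ
  rw [Subgroup.mem_center_iff] at hcen
  have h1 := hcen ((QuotientGroup.mk' (pCore 2 G)) a₀)
  rw [← map_mul, ← map_mul] at h1
  have h2 : ((a₀ * r : G) : G ⧸ pCore 2 G) = ((r * a₀ : G) : G ⧸ pCore 2 G) := h1
  rw [QuotientGroup.eq] at h2
  have h3 : (a₀ * r)⁻¹ * (r * a₀) = r⁻¹ * r⁻¹ := by
    have : a₀ * r * a₀ = r⁻¹ := by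
      rw [hr, mul_inv_rev, hainv, hcinv, ← mul_assoc, haa, one_mul]
    calc (a₀ * r)⁻¹ * (r * a₀) = r⁻¹ * (a₀⁻¹ * r * a₀) := by group
      _ = r⁻¹ * (a₀ * r * a₀) := by rw [hainv]
      _ = r⁻¹ * r⁻¹ := by rw [this]
  rw [h3] at h2
  obtain ⟨k, hk⟩ := (isPGroup_pCore (G := G) 2) ⟨r⁻¹ * r⁻¹, h2⟩
  have hk' : (r⁻¹ * r⁻¹) ^ (2 ^ k) = 1 := by
    have := congrArg Subtype.val hk
    simpa using this
  have hk2 : r⁻¹ ^ (2 ^ (k + 1)) = 1 := by
    rw [pow_succ, mul_comm, pow_mul, pow_two]; exact hk'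
  have hodd' : Odd (orderOf r⁻¹) := by rw [orderOf_inv]; exact hodd
  have hr1 : r⁻¹ = 1 := eq_one_of_pow_two_pow_of_odd hk2 hodd'
  rw [inv_eq_one, hr] at hr1
  apply hac
  calc a₀ = a₀⁻¹ := hainv.symm
    _ = c := inv_eq_of_mul_eq_one_right hr1

end main

/-- Let G be a finite group generated by a set D of root involutions whose odd-order-product graph is connected, with some product of two different commuting members of D again in D. Then the largest solvable normal subgroup of G is the preimage of the centre of G/O₂(G), and the quotient of G by it is a simple group. -/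
theorem result {G : Type*} [Group G] [Finite G] {D : Set G} (hD : Cfsg.IsRootInvolutionSet D)
    (hc : Cfsg.IsConnectedSet (Cfsg.OddAdj D) D) (hDD : (D ∩ Cfsg.commutingProducts D).Nonempty) :
    Cfsg.solvableRadical G = Cfsg.twoZCore G ∧ IsSimpleGroup (G ⧸ Cfsg.twoZCore G) := by
  have hpart : ∀ d ∈ D, ∃ b ∈ D, d * b = b * d ∧ d * b ∈ D :=
    fun d hd => exists_partner hD hc hDD hd
  have hsimple : IsSimpleGroup (G ⧸ Cfsg.twoZCore G) := by
    have hnt : Nontrivial (G ⧸ Cfsg.twoZCore G) := by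
      by_contra hnn
      rw [not_nontrivial_iff_subsingleton] at hnn
      exact not_comm_quot hD hc hDD (fun x y => Subsingleton.elim _ _)
    refine { exists_pair_ne := hnt.exists_pair_ne, eq_bot_or_eq_top_of_normal := ?_ }
    intro H hH
    have : (H.comap (QuotientGroup.mk' (Cfsg.twoZCore G))).Normal := hH.comap _
    by_cases hmeet : ∃ d ∈ D, d ∈ H.comap (QuotientGroup.mk' (Cfsg.twoZCore G))
    · right
      obtain ⟨d, hd, hdN⟩ := hmeet
      have htop := eq_top_of_meets hD hc _ hd hdN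
      rw [eq_top_iff]
      intro q _
      obtain ⟨g, rfl⟩ := QuotientGroup.mk'_surjective _ q
      have : g ∈ H.comap (QuotientGroup.mk' (Cfsg.twoZCore G)) := by rw [htop]; trivial
      exact this
    · left
      have hle := le_twoZCore hD _ (fun x hx hxN => hmeet ⟨x, hx, hxN⟩) hpart
      rw [eq_bot_iff]
      intro q hq
      obtain ⟨g, rfl⟩ := QuotientGroup.mk'_surjective _ q
      rw [Subgroup.mem_bot]
      exact (QuotientGroup.eq_one_iff g).mpr (hle hq)
  refine ⟨?_, hsimple⟩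
  apply le_antisymm
  · apply sSup_le
    rintro N ⟨hNn, hNs⟩
    have := hNn
    by_cases hmeet : ∃ d ∈ D, d ∈ N
    · exfalso
      obtain ⟨d, hd, hdN⟩ := hmeet
      have htop := eq_top_of_meets hD hc N hd hdN
      have hGs : Group.IsSolvable G := by
        have := hNs
        refine Group.isSolvable_of_surjective (f := N.subtype) ?_
        intro g
        exact ⟨⟨g, by rw [htop]; trivial⟩, rfl⟩
      have hQs : Group.IsSolvable (G ⧸ Cfsg.twoZCore G) := inferInstance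
      exact not_comm_quot hD hc hDD (IsSimpleGroup.comm_iff_isSolvable.mpr hQs)
    · exact le_twoZCore hD N (fun x hx hxN => hmeet ⟨x, hx, hxN⟩) hpart
  · apply le_sSup
    refine ⟨inferInstance, ?_⟩
    have h1 : pCore 2 G ≤ Cfsg.twoZCore G := by
      intro x hx
      show (QuotientGroup.mk' (pCore 2 G)) x ∈ Subgroup.center _
      have : (QuotientGroup.mk' (pCore 2 G)) x = 1 := (QuotientGroup.eq_one_iff x).mpr hx
      rw [this]; exact Subgroup.one_mem _
    have : Group.IsSolvable ↥(pCore 2 G) := by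
      have := (isPGroup_pCore (G := G) 2).isNilpotent
      infer_instance
    have : Group.IsSolvable ↥(Subgroup.center (G ⧸ pCore 2 G)) :=
      Group.isSolvable_of_comm (fun a b => Subtype.ext (Subgroup.mem_center_iff.mp b.2 a))
    refine Group.isSolvable_of_ker_le_range (Subgroup.inclusion h1)
      ((QuotientGroup.mk' (pCore 2 G)).subgroupComap (Subgroup.center _)) ?_
    intro x hx
    have hx' := MonoidHom.mem_ker.mp hx
    have hx2 : (x : G) ∈ pCore 2 G := by
      have := congrArg Subtype.val hx'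
      exact (QuotientGroup.eq_one_iff (x : G)).mp this
    exact ⟨⟨x, hx2⟩, Subtype.ext rfl⟩

end Cfsg.Agent.S5048
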