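import Cfsg.Statements.S5049
-- import your own Cfsg.Agent.* helpers here

set_option autoImplicit false
open Cfsg

namespace Cfsg.Agent.S5049

variable {G : Type*} [Group G]

theorem pCore_normal (p : ℕ) : (pCore p G).Normal :=
  Subgroup.sSup_normal _ (fun _ h => h.1)

theorem pCore_isPGroup (p : ℕ) [Fact p.Prime] : IsPGroup p (pCore p G) :=
  Sylow.sSup_of_normal _ (fun _ h => h.2) (fun _ h => h.1)

theorem sq_eq_one_of_mem {D : Set G} (hD : IsRootInvolutionSet D) {d : G} (hd : d ∈ D) : d * d = 1 := by
  have := pow_orderOf_eq_one d
  rw [hD.orderOf_eq d hd, pow_two] at this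
  exact this

theorem inv_eq_self_of_mem {D : Set G} (hD : IsRootInvolutionSet D) {d : G} (hd : d ∈ D) : d⁻¹ = d :=
  inv_eq_of_mul_eq_one_left (sq_eq_one_of_mem hD hd)

/-- Two odd transpositions whose product is a 2-element commute. -/
theorem commute_of_two_elt {D : Set G} (hD : IsOddTranspositionSet D) {x y : G} (hx : x ∈ D) (hy : y ∈ D)
    {n : ℕ} (hn : (x * y) ^ 2 ^ n = 1) : x * y = y * x := by
  rcases hD.1.pair x hx y hy with h | h | h
  · exact h
  · have hdvd : orderOf (x * y) ∣ 2 ^ n := orderOf_dvd_of_pow_eq_one hn
    obtain ⟨j, -, hj⟩ := (Nat.dvd_prime_pow Nat.prime_two).mp hdvd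
    have hj0 : j = 0 := by
      by_contra hj0
      rw [hj] at h
      exact (Nat.not_even_iff_odd.mpr h) (Nat.even_pow.mpr ⟨even_two, hj0⟩)
    rw [hj0, pow_zero, orderOf_eq_one_iff] at hj
    have hxy : y = x⁻¹ := (inv_eq_of_mul_eq_one_right hj).symm
    rw [hxy, mul_inv_cancel, inv_mul_cancel]
  · exact absurd h.1 (hD.2 x hx y hy)

/-- An odd transposition `e` commuting with `a ∈ D` commutes with every conjugate of `a` under `O₂(G)`. -/
theorem commute_conj {D : Set G} (hD : IsOddTranspositionSet D) {a e : G} (ha : a ∈ D) (he : e ∈ D)
    (hea : e * a = a * e) {q : G} (hq : q ∈ pCore 2 G) : e * (q * a * q⁻¹) = (q * a * q⁻¹) * e := by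
  have := pCore_normal (G := G) 2
  have hmem : (e * (q * a * q⁻¹)) ^ 2 ∈ pCore 2 G := by
    rw [← QuotientGroup.eq_one_iff, QuotientGroup.mk_pow, QuotientGroup.mk_mul, QuotientGroup.mk_mul,
      QuotientGroup.mk_mul, QuotientGroup.mk_inv, (QuotientGroup.eq_one_iff q).mpr hq, one_mul, inv_one, mul_one,
      ← QuotientGroup.mk_mul, ← QuotientGroup.mk_pow, pow_two]
    have : e * a * (e * a) = 1 := by
      calc e * a * (e * a) = e * (a * e) * a := by group
        _ = e * (e * a) * a := by rw [hea]
        _ = (e * e) * (a * a) := by group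
        _ = 1 := by rw [sq_eq_one_of_mem hD.1 he, sq_eq_one_of_mem hD.1 ha, one_mul]
    rw [this]; rfl
  obtain ⟨n, hn⟩ := (pCore_isPGroup (G := G) 2) ⟨_, hmem⟩
  have hn' : (e * (q * a * q⁻¹)) ^ 2 ^ (n + 1) = 1 := by
    have := congrArg Subtype.val hn
    rw [pow_succ', pow_mul]
    simpa using this
  exact commute_of_two_elt hD he (hD.1.conj_mem a ha q) hn'

/-- Let G be a finite group generated by a set D of odd transpositions (root involutions with no product of order 4), Q = O₂(G), and for a ∈ D let Q_a be the commutator subgroup of Q with a. Then every member of D commuting with a centralizes Q_a; and for b ∈ D with ab of odd order greater than 1, the centralizer of ab in Q is the intersection of the centralizers of a and b in Q. -/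
theorem result {G : Type*} [Group G] [Finite G] {D : Set G} (hD : Cfsg.IsOddTranspositionSet D) {a : G} (ha : a ∈ D) :
    (∀ e ∈ Cfsg.commutingMembers D a, ∀ q ∈ ⁅Cfsg.pCore 2 G, Subgroup.zpowers a⁆, e * q = q * e) ∧
    (∀ b ∈ Cfsg.oddPartners D a,
      Cfsg.pCore 2 G ⊓ Subgroup.centralizer {a * b} = Cfsg.pCore 2 G ⊓ Subgroup.centralizer {a} ⊓ Subgroup.centralizer {b}) := by
  constructor
  · rintro e ⟨he, hea⟩ q hq
    have hle : ⁅pCore 2 G, Subgroup.zpowers a⁆ ≤ Subgroup.centralizer {e} := by
      rw [Subgroup.commutator_le]
      intro g hg z hz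
      rw [Subgroup.mem_centralizer_singleton_iff]
      obtain ⟨i, rfl⟩ := Subgroup.mem_zpowers_iff.mp hz
      have h1 : Commute e (a ^ i) := (Commute.zpow_right (show Commute e a from hea) i)
      have h2 : Commute e (g * a ^ i * g⁻¹) := by
        have h3 : Commute e (g * a * g⁻¹) := commute_conj hD ha he hea hg
        have h4 : g * a ^ i * g⁻¹ = (g * a * g⁻¹) ^ i := by
          rw [← MulAut.conj_apply, ← MulAut.conj_apply, map_zpow]
        rw [h4]
        exact Commute.zpow_right h3 i
      rw [commutatorElement_def]
      exact ((h2.mul_right h1.inv_right).eq).symm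
    have := hle hq
    rw [Subgroup.mem_centralizer_singleton_iff] at this
    exact this.symm
  · rintro b ⟨hb, hba, hodd⟩
    apply le_antisymm
    · intro q hq
      rw [Subgroup.mem_inf] at hq
      obtain ⟨hqQ, hqr⟩ := hq
      rw [Subgroup.mem_centralizer_singleton_iff] at hqr
      -- hqr : q * (a * b) = a * b * q
      have haa : a * a = 1 := sq_eq_one_of_mem hD.1 ha
      have hbb : b * b = 1 := sq_eq_one_of_mem hD.1 hb
      have hainv : a⁻¹ = a := inv_eq_self_of_mem hD.1 ha
      have hbinv : b⁻¹ = b := inv_eq_self_of_mem hD.1 hb
      set r := a * b with hr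
      set a' := q * a * q⁻¹ with ha'
      have ha'D : a' ∈ D := hD.1.conj_mem a ha q
      have ha'a' : a' * a' = 1 := sq_eq_one_of_mem hD.1 ha'D
      -- a commutes with a'
      have hcomm : a * a' = a' * a := commute_conj hD ha ha rfl hqQ
      set c := a' * a with hc
      have hcc : c * c = 1 := by
        calc c * c = a' * (a * a') * a := by rw [hc]; group
          _ = a' * (a' * a) * a := by rw [hcomm]
          _ = (a' * a') * (a * a) := by group
          _ = 1 := by rw [ha'a', haa, one_mul]
      have hcinv : c⁻¹ = c := inv_eq_of_mul_eq_one_left hcc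
      -- a inverts r, a' inverts r
      have har : a * r * a = r⁻¹ := by
        rw [hr, mul_inv_rev, hainv, hbinv]
        calc a * (a * b) * a = (a * a) * b * a := by group
          _ = b * a := by rw [haa, one_mul]
      have ha'r : a' * r * a' = r⁻¹ := by
        have h1 : q⁻¹ * r * q = r := by
          calc q⁻¹ * r * q = q⁻¹ * (r * q) := by group
            _ = q⁻¹ * (q * r) := by rw [hqr]
            _ = r := by group
        calc a' * r * a' = q * (a * (q⁻¹ * r * q) * a) * q⁻¹ := by rw [ha']; group
          _ = q * r⁻¹ * q⁻¹ := by rw [h1, har]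
          _ = (q * r * q⁻¹)⁻¹ := by group
          _ = r⁻¹ := by
            have : q * r * q⁻¹ = r := by rw [hqr]; group
            rw [this]
      -- c commutes with r
      have hcr : Commute c r := by
        show c * r = r * c
        have h1 : a * r = r⁻¹ * a := by
          have := har
          calc a * r = (a * r * a) * a := by rw [mul_assoc (a * r), haa, mul_one]
            _ = r⁻¹ * a := by rw [this]
        have h2 : a' * r⁻¹ = r * a' := by
          have h3 : a' * r = r⁻¹ * a' := by
            calc a' * r = (a' * r * a') * a' := by rw [mul_assoc (a' * r), ha'a', mul_one]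
              _ = r⁻¹ * a' := by rw [ha'r]
          calc a' * r⁻¹ = r * (r⁻¹ * a') * r⁻¹ := by group
            _ = r * (a' * r) * r⁻¹ := by rw [h3]
            _ = r * a' := by group
        calc c * r = a' * (a * r) := by rw [hc]; group
          _ = a' * (r⁻¹ * a) := by rw [h1]
          _ = (a' * r⁻¹) * a := by group
          _ = (r * a') * a := by rw [h2]
          _ = r * c := by rw [hc]; group
      -- a' * b = c * r
      have ha'b : a' * b = c * r := by
        rw [hc, hr]
        calc a' * b = a' * (a * a) * b := by rw [haa, mul_one]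
          _ = a' * a * (a * b) := by group
      have hrne : r ≠ 1 := by
        intro h
        apply hba
        have : b = a⁻¹ := (inv_eq_of_mul_eq_one_right h).symm
        rw [this, hainv]
      -- c = 1
      have hc1 : c = 1 := by
        rcases hD.1.pair a' ha'D b hb with h | h | h
        · -- commute case: contradiction
          exfalso
          have h1 : (a' * b) * (a' * b) = 1 := by
            calc (a' * b) * (a' * b) = a' * (b * a') * b := by group
              _ = a' * (a' * b) * b := by rw [h]
              _ = (a' * a') * (b * b) := by group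
              _ = 1 := by rw [ha'a', hbb, one_mul]
          rw [ha'b] at h1
          have h2 : r * r = 1 := by
            calc r * r = (c * c) * (r * r) := by rw [hcc, one_mul]
              _ = c * (c * r) * r := by group
              _ = c * (r * c) * r := by rw [hcr.eq]
              _ = (c * r) * (c * r) := by group
              _ = 1 := h1
          have h3 : orderOf r ∣ 2 := orderOf_dvd_of_pow_eq_one (by rw [pow_two]; exact h2)
          rcases (Nat.dvd_prime Nat.prime_two).mp h3 with h4 | h4
          · exact hrne (orderOf_eq_one_iff.mp h4)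
          · rw [h4] at hodd
            exact absurd hodd (by decide)
        · -- odd case
          rw [ha'b] at h
          set m := orderOf (c * r) with hm
          have h1 : (c * r) ^ m = 1 := pow_orderOf_eq_one _
          rw [hcr.mul_pow] at h1
          have hcm : c ^ m = c := by
            obtain ⟨j, hj⟩ := h
            rw [hj, pow_succ, pow_mul, pow_two, hcc, one_pow, one_mul]
          rw [hcm] at h1
          -- c = (r^m)⁻¹
          have h2 : c = (r ^ m)⁻¹ := eq_inv_of_mul_eq_one_left h1
          have h3 : r ^ (2 * m) = 1 := by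
            have : (r ^ m)⁻¹ * (r ^ m)⁻¹ = 1 := by rw [← h2]; exact hcc
            rw [← mul_inv_rev, inv_eq_one, ← pow_add, ← two_mul] at this
            exact this
          have h4 : orderOf r ∣ 2 * m := orderOf_dvd_of_pow_eq_one h3
          have h5 : orderOf r ∣ m := by
            have hcop : Nat.Coprime (orderOf r) 2 := Nat.coprime_two_right.mpr hodd
            exact hcop.dvd_of_dvd_mul_left h4
          have h6 : r ^ m = 1 := orderOf_dvd_iff_pow_eq_one.mp h5
          rw [h2, h6, inv_one]
        · exact absurd h.1 (hD.2 a' ha'D b hb)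
      -- hence q commutes with a
      have hqa : q * a = a * q := by
        have h1 : a' = a := by
          have : a' = c * a := by rw [hc, mul_assoc, haa, mul_one]
          rw [this, hc1, one_mul]
        calc q * a = (q * a * q⁻¹) * q := by group
          _ = a * q := by rw [← ha', h1]
      have hqb : q * b = b * q := by
        have hb_eq : b = a * r := by rw [hr, ← mul_assoc, haa, one_mul]
        calc q * b = q * a * r := by rw [hb_eq]; group
          _ = a * (q * r) := by rw [hqa]; group
          _ = a * (r * q) := by rw [hqr]
          _ = b * q := by rw [hb_eq]; group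
      rw [Subgroup.mem_inf, Subgroup.mem_inf, Subgroup.mem_centralizer_singleton_iff,
        Subgroup.mem_centralizer_singleton_iff]
      exact ⟨⟨hqQ, hqa⟩, hqb⟩
    · intro q hq
      rw [Subgroup.mem_inf, Subgroup.mem_inf, Subgroup.mem_centralizer_singleton_iff,
        Subgroup.mem_centralizer_singleton_iff] at hq
      obtain ⟨⟨hqQ, hqa⟩, hqb⟩ := hq
      rw [Subgroup.mem_inf, Subgroup.mem_centralizer_singleton_iff]
      refine ⟨hqQ, ?_⟩
      calc q * (a * b) = (q * a) * b := by group
        _ = a * (q * b) := by rw [hqa]; group
        _ = a * b * q := by rw [hqb]; group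

end Cfsg.Agent.S5049
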