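import Cfsg.Statements.S5057

set_option autoImplicit false
open Cfsg

namespace Cfsg.Agent.S5057

open Equiv Equiv.Perm

/-- The multisets that can be cycle types of even permutations of six points. -/
theorem cycleType_classify (m : Multiset ℕ) (h2 : ∀ n ∈ m, 2 ≤ n) (h6 : m.sum ≤ 6)
    (hs : (m.map fun n => -(-1 : ℤˣ) ^ n).prod = 1) :
    m = 0 ∨ m = {3} ∨ m = {5} ∨ m = {2, 2} ∨ m = {2, 4} ∨ m = {3, 3} := by
  obtain ⟨l, rfl⟩ : ∃ l : List ℕ, (l : Multiset ℕ) = m := ⟨m.toList, Multiset.coe_toList m⟩
  simp only [Multiset.mem_coe, Multiset.sum_coe, Multiset.map_coe, Multiset.prod_coe] at h2 h6 hs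
  match l, h2, h6, hs with
  | [], _, _, _ => left; rfl
  | [a], h2, h6, hs =>
    have ha : 2 ≤ a := h2 a (by simp)
    have ha' : a ≤ 6 := by simpa using h6
    interval_cases a <;> first | (exfalso; revert hs; decide) | decide
  | [a, b], h2, h6, hs =>
    have ha : 2 ≤ a := h2 a (by simp)
    have hb : 2 ≤ b := h2 b (by simp)
    have hab : a + b ≤ 6 := by simpa using h6
    have ha' : a ≤ 4 := by omega
    have hb' : b ≤ 4 := by omega
    interval_cases a <;> interval_cases b <;> first | omega | (exfalso; revert hs; decide) | decide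
  | [a, b, c], h2, h6, hs =>
    have ha : 2 ≤ a := h2 a (by simp)
    have hb : 2 ≤ b := h2 b (by simp)
    have hc : 2 ≤ c := h2 c (by simp)
    have habc : a + (b + c) ≤ 6 := by simpa using h6
    have ha' : a = 2 := by omega
    have hb' : b = 2 := by omega
    have hc' : c = 2 := by omega
    subst ha' hb' hc'
    exfalso; revert hs; decide
  | a :: b :: c :: d :: l', h2, h6, _ =>
    have ha : 2 ≤ a := h2 a (by simp)
    have hb : 2 ≤ b := h2 b (by simp)
    have hc : 2 ≤ c := h2 c (by simp)
    have hd : 2 ≤ d := h2 d (by simp)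
    have : a + (b + (c + (d + l'.sum))) ≤ 6 := by simpa using h6
    omega

theorem a6_cycleType (g : Perm (Fin 6)) (hg : g ∈ alternatingGroup (Fin 6)) :
    g.cycleType = 0 ∨ g.cycleType = {3} ∨ g.cycleType = {5} ∨ g.cycleType = {2, 2} ∨
      g.cycleType = {2, 4} ∨ g.cycleType = {3, 3} := by
  apply cycleType_classify
  · intro n hn
    exact two_le_of_mem_cycleType hn
  · rw [sum_cycleType]
    have := Finset.card_le_univ g.support
    simpa using this
  · rw [← sign_of_cycleType']
    exact mem_alternatingGroup.1 hg

/-- Orders of the elements of `A₆`. -/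
theorem a6_orderOf (g : alternatingGroup (Fin 6)) :
    orderOf g = 1 ∨ orderOf g = 2 ∨ orderOf g = 3 ∨ orderOf g = 4 ∨ orderOf g = 5 := by
  rw [← Subgroup.orderOf_coe, ← lcm_cycleType]
  rcases a6_cycleType g g.2 with h | h | h | h | h | h <;> rw [h] <;> decide

/-- An involution of `A₆` has cycle type `(2,2)`. -/
theorem a6_involution_cycleType (g : alternatingGroup (Fin 6)) (hg : orderOf g = 2) :
    (g : Perm (Fin 6)).cycleType = {2, 2} := by
  rw [← Subgroup.orderOf_coe, ← lcm_cycleType] at hg
  rcases a6_cycleType g g.2 with h | h | h | h | h | h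
  · rw [h] at hg; exfalso; revert hg; decide
  · rw [h] at hg; exfalso; revert hg; decide
  · rw [h] at hg; exfalso; revert hg; decide
  · exact h
  · rw [h] at hg; exfalso; revert hg; decide
  · rw [h] at hg; exfalso; revert hg; decide

/-- The involution set. -/
abbrev D : Set (alternatingGroup (Fin 6)) := {g | orderOf g = 2}

theorem conj_mem_D (d : alternatingGroup (Fin 6)) (hd : d ∈ D) (g : alternatingGroup (Fin 6)) :
    g * d * g⁻¹ ∈ D := by
  show orderOf (g * d * g⁻¹) = 2
  have h : orderOf (g * d * g⁻¹) = orderOf d := by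
    have := orderOf_injective (MulAut.conj g).toMonoidHom (MulAut.conj g).injective d
    simpa using this
  rw [h]
  exact hd

/-- A particular involution of `A₆`. -/
def d₀ : alternatingGroup (Fin 6) := ⟨swap 0 1 * swap 2 3, mem_alternatingGroup.2 (by decide)⟩

theorem d₀_mem : d₀ ∈ D := by
  show orderOf d₀ = 2
  rw [← Subgroup.orderOf_coe]
  apply orderOf_eq_prime
  · show (swap (0 : Fin 6) 1 * swap 2 3) ^ 2 = 1
    decide
  · show swap (0 : Fin 6) 1 * swap 2 3 ≠ 1
    decide

theorem closure_D : Subgroup.closure D = ⊤ := by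
  have hsimple : IsSimpleGroup (alternatingGroup (Fin 6)) := alternatingGroup.isSimpleGroup (by simp)
  have hnormal : (Subgroup.closure D).Normal := by
    refine ⟨fun n hn g => ?_⟩
    induction hn using Subgroup.closure_induction with
    | mem x hx => exact Subgroup.subset_closure (conj_mem_D x hx g)
    | one => simp
    | mul x y _ _ hx hy =>
      have : g * (x * y) * g⁻¹ = (g * x * g⁻¹) * (g * y * g⁻¹) := by group
      rw [this]; exact Subgroup.mul_mem _ hx hy
    | inv x _ hx =>
      have : g * x⁻¹ * g⁻¹ = (g * x * g⁻¹)⁻¹ := by group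
      rw [this]; exact Subgroup.inv_mem _ hx
  rcases hnormal.eq_bot_or_eq_top with h | h
  · exfalso
    have h1 : d₀ ∈ Subgroup.closure D := Subgroup.subset_closure d₀_mem
    rw [h, Subgroup.mem_bot] at h1
    have h2 : orderOf d₀ = 2 := d₀_mem
    rw [h1, orderOf_one] at h2
    omega
  · exact h

theorem conj_D (a b : alternatingGroup (Fin 6)) (ha : a ∈ D) (hb : b ∈ D) :
    ∃ g : alternatingGroup (Fin 6), b = g * a * g⁻¹ := by
  have hca := a6_involution_cycleType a ha
  have hcb := a6_involution_cycleType b hb
  have hconj : IsConj (a : Perm (Fin 6)) (b : Perm (Fin 6)) := by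
    rw [isConj_iff_cycleType_eq, hca, hcb]
  have hsupp : (a : Perm (Fin 6)).support.card + 2 ≤ Fintype.card (Fin 6) := by
    rw [← sum_cycleType, hca]
    decide
  obtain ⟨g, hg⟩ := isConj_iff.1 (alternatingGroup.isConj_of hconj hsupp)
  exact ⟨g, hg.symm⟩

/-- The involutions of the alternating group of degree 6 form a class of root involutions (a single conjugacy class of involutions generating the group, any two of which commute, have product of odd order, or have product of order 4 whose square is again an involution of the class), and the product of any two of them has order at most 5. -/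
theorem result :
    Cfsg.IsRootInvolutionClass {g : ↥(alternatingGroup (Fin 6)) | orderOf g = 2} ∧
    ∀ d ∈ {g : ↥(alternatingGroup (Fin 6)) | orderOf g = 2}, ∀ e ∈ {g : ↥(alternatingGroup (Fin 6)) | orderOf g = 2},
      orderOf (d * e) ≤ 5 := by
  refine ⟨⟨⟨fun d hd => hd, closure_D, conj_mem_D, ?_⟩, ⟨d₀, d₀_mem⟩, fun a ha b hb => conj_D a b ha hb⟩, ?_⟩
  · intro a ha b hb
    have ha2 : a * a = 1 := by
      have := pow_orderOf_eq_one a
      rw [show orderOf a = 2 from ha, pow_two] at this
      exact this
    have hb2 : b * b = 1 := by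
      have := pow_orderOf_eq_one b
      rw [show orderOf b = 2 from hb, pow_two] at this
      exact this
    rcases a6_orderOf (a * b) with h | h | h | h | h
    · right; left; rw [h]; decide
    · left
      have h1 : (a * b) * (a * b) = 1 := by
        have := pow_orderOf_eq_one (a * b)
        rw [h, pow_two] at this
        exact this
      calc a * b = a * ((a * b) * (a * b)) * b := by rw [h1, mul_one]
        _ = (a * a) * b * a * (b * b) := by group
        _ = b * a := by rw [ha2, hb2, one_mul, mul_one]
    · right; left; rw [h]; decide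
    · right; right
      refine ⟨h, ?_⟩
      show orderOf ((a * b) ^ 2) = 2
      rw [orderOf_pow' (a * b) (by norm_num), h]
      rfl
    · right; left; rw [h]; decide
  · intro d _ e _
    rcases a6_orderOf (d * e) with h | h | h | h | h <;> rw [h] <;> norm_num

end Cfsg.Agent.S5057
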