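import Cfsg.Statements.S5058
import Cfsg.Agent.Lib.Helper83.TransvSL2
import Cfsg.Agent.Lib.Helper83.TransvConj
import Cfsg.Agent.Lib.Helper5.SLGen
import Cfsg.Agent.S5043

set_option autoImplicit false
open Matrix
open Cfsg

namespace Cfsg.Agent.S5058

open Cfsg.Agent.Lib.Helper83

section SL2

variable {F : Type*} [Field F] [CharP F 2]

/-- The matrix of `U 1 * L l`. -/
lemma coe_UL (l : F) :
    ((Cfsg.Agent.S5016.U (1 : F) * Cfsg.Agent.S5016.L l : SpecialLinearGroup (Fin 2) F) :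
      Matrix (Fin 2) (Fin 2) F) = !![1 + l, 1; l, 1] := by
  change (!![1, 1; 0, 1] : Matrix (Fin 2) (Fin 2) F) * !![1, 0; l, 1] = _
  ext i j
  fin_cases i <;> fin_cases j <;> simp [Matrix.mul_apply, Fin.sum_univ_two]

lemma UL_sq (l : F) :
    (!![1 + l, 1; l, 1] : Matrix (Fin 2) (Fin 2) F) * !![1 + l, 1; l, 1] =
      l • !![1 + l, 1; l, 1] + 1 := by
  have h2 : (2 : F) = 0 := CharTwo.two_eq_zero
  ext i j
  fin_cases i <;> fin_cases j <;> simp [Matrix.mul_apply, Fin.sum_univ_two]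
  · linear_combination (l) * h2
  · linear_combination h2
  · linear_combination (l) * h2

/-- Powers of `Y` with `Y * Y = l • Y + 1` lie in the span of `1` and `Y`. -/
lemma pow_span {Y : Matrix (Fin 2) (Fin 2) F} {l : F} (hY : Y * Y = l • Y + 1) (n : ℕ) :
    ∃ a b : F, Y ^ n = a • (1 : Matrix (Fin 2) (Fin 2) F) + b • Y := by
  induction n with
  | zero => exact ⟨1, 0, by simp⟩
  | succ n ih =>
    obtain ⟨a, b, hab⟩ := ih
    refine ⟨b, a + b * l, ?_⟩
    rw [pow_succ, hab, add_mul, Matrix.smul_mul, Matrix.smul_mul, one_mul, hY, smul_add, smul_smul,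
      add_smul]
    abel

omit [CharP F 2] in
lemma sq_span {Y : Matrix (Fin 2) (Fin 2) F} {l : F} (hY : Y * Y = l • Y + 1) (a b : F) :
    (a • (1 : Matrix (Fin 2) (Fin 2) F) + b • Y) * (a • (1 : Matrix (Fin 2) (Fin 2) F) + b • Y) =
      (a * a + b * b) • (1 : Matrix (Fin 2) (Fin 2) F) + (2 * a * b + b * b * l) • Y := by
  simp only [add_mul, mul_add, Matrix.smul_mul, Matrix.mul_smul, one_mul, mul_one, hY, smul_add,
    smul_smul]
  module

/-- In characteristic 2 the element `U 1 * L l` (`l ≠ 0`) of `SL₂(F)` has odd order if its order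
is finite. -/
lemma odd_order_UL [Finite F] (l : F) (hl : l ≠ 0) :
    Odd (orderOf (Cfsg.Agent.S5016.U (1 : F) * Cfsg.Agent.S5016.L l)) := by
  set y := Cfsg.Agent.S5016.U (1 : F) * Cfsg.Agent.S5016.L l with hy
  have h2 : (2 : F) = 0 := CharTwo.two_eq_zero
  have : Finite (Matrix.SpecialLinearGroup (Fin 2) F) := by
    unfold Matrix.SpecialLinearGroup; infer_instance
  by_contra hodd
  rw [Nat.not_odd_iff_even] at hodd
  obtain ⟨r, hr⟩ := hodd
  have hpos : 0 < orderOf y := orderOf_pos y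
  have hr0 : 0 < r := by omega
  have hne : y ^ r ≠ 1 := pow_ne_one_of_lt_orderOf hr0.ne' (by omega)
  have hsq : y ^ r * y ^ r = 1 := by
    rw [← pow_add, ← hr, pow_orderOf_eq_one]
  have hY := UL_sq l
  obtain ⟨a, b, hab⟩ := pow_span hY r
  have hcoe : ((y ^ r : SpecialLinearGroup (Fin 2) F) : Matrix (Fin 2) (Fin 2) F) =
      a • (1 : Matrix (Fin 2) (Fin 2) F) + b • !![1 + l, 1; l, 1] := by
    have h1 := Matrix.SpecialLinearGroup.coe_pow y r
    rw [hy, coe_UL] at h1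
    rw [hy, h1, hab]
  have hsq' : (a • (1 : Matrix (Fin 2) (Fin 2) F) + b • !![1 + l, 1; l, 1]) *
      (a • (1 : Matrix (Fin 2) (Fin 2) F) + b • !![1 + l, 1; l, 1]) = 1 := by
    have h1 := Matrix.SpecialLinearGroup.coe_mul (y ^ r) (y ^ r)
    rw [hsq, hcoe] at h1
    rw [← h1]; rfl
  rw [sq_span hY] at hsq'
  have e01 := congrFun (congrFun hsq' 0) 1
  have e00 := congrFun (congrFun hsq' 0) 0
  simp at e01 e00
  have hb : b = 0 := by
    have h3 : b * b * l = 0 := by linear_combination e01 - (a * b) * h2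
    rcases mul_eq_zero.mp h3 with h4 | h4
    · exact mul_self_eq_zero.mp h4
    · exact absurd h4 hl
  have ha : a = 1 := by
    rw [e01, hb] at e00
    have h3 : (a + 1) * (a + 1) = 0 := by linear_combination e00 + (a + 1) * h2
    have h4 : a + 1 = 0 := mul_self_eq_zero.mp h3
    linear_combination h4 - h2
  apply hne
  apply Subtype.ext
  rw [hcoe, ha, hb]
  simp

end SL2


section SL2b

variable {F : Type*} [Field F] [CharP F 2]

/-- `(U 1 * L 1) ^ 3 = 1` in characteristic 2. -/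
lemma UL_one_pow_three : (Cfsg.Agent.S5016.U (1 : F) * Cfsg.Agent.S5016.L 1) ^ 3 = 1 := by
  have h2 : (2 : F) = 0 := CharTwo.two_eq_zero
  have hY := UL_sq (1 : F)
  apply Subtype.ext
  have h1 := Matrix.SpecialLinearGroup.coe_pow
    (Cfsg.Agent.S5016.U (1 : F) * Cfsg.Agent.S5016.L 1) 3
  rw [coe_UL] at h1
  rw [h1, pow_succ, pow_two, hY, one_smul, add_mul, one_mul, hY, one_smul]
  have : (!![1 + 1, 1; 1, 1] : Matrix (Fin 2) (Fin 2) F) + 1 + !![1 + 1, 1; 1, 1] =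
      (2 : F) • !![1 + 1, 1; 1, 1] + 1 := by
    rw [two_smul]; abel
  rw [this, h2, zero_smul, zero_add]
  rfl

end SL2b

section TE

variable {F : Type*} [Field F] [CharP F 2] {ι : Type*} [Fintype ι] [DecidableEq ι]

/-- The set of all transvections `1 + v φᵀ` of `SL(ι, F)`. -/
def TE (F : Type*) [Field F] (ι : Type*) [Fintype ι] [DecidableEq ι] :
    Set (SpecialLinearGroup ι F) :=
  {t | ∃ (v φ : ι → F) (h : φ ⬝ᵥ v = 0), v ≠ 0 ∧ φ ≠ 0 ∧ t = tvE v φ h 1}

omit [CharP F 2] in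
lemma smul_dot_zero {v φ : ι → F} (h : φ ⬝ᵥ v = 0) (c : F) : (c • φ) ⬝ᵥ v = 0 := by
  rw [smul_dotProduct, h, smul_zero]

omit [CharP F 2] in
lemma tvE_smul_right {v φ : ι → F} (h : φ ⬝ᵥ v = 0) (c : F) :
    tvE v φ h c = tvE v (c • φ) (smul_dot_zero h c) 1 := by
  apply Subtype.ext
  rw [coe_tvE, coe_tvE, vecMulVec_smul, one_smul]

omit [CharP F 2] in
lemma tvE_mem_TE {v φ : ι → F} (h : φ ⬝ᵥ v = 0) (hv : v ≠ 0) (hφ : φ ≠ 0) {c : F} (hc : c ≠ 0) :
    tvE v φ h c ∈ TE F ι :=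
  ⟨v, c • φ, smul_dot_zero h c, hv, smul_ne_zero hc hφ, tvE_smul_right h c⟩

lemma sq_eq_one {t : SpecialLinearGroup ι F} (ht : t ∈ TE F ι) : t * t = 1 := by
  obtain ⟨v, φ, h, _, _, rfl⟩ := ht
  rw [← tvE_add, CharTwo.add_self_eq_zero, tvE_zero]

omit [CharP F 2] in
lemma ne_one_of_mem {t : SpecialLinearGroup ι F} (ht : t ∈ TE F ι) : t ≠ 1 := by
  obtain ⟨v, φ, h, hv, hφ, rfl⟩ := ht
  intro h1
  exact one_ne_zero ((tvE_eq_one_iff hv hφ).mp h1)

lemma inv_eq_self {t : SpecialLinearGroup ι F} (ht : t ∈ TE F ι) : t⁻¹ = t :=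
  inv_eq_of_mul_eq_one_left (sq_eq_one ht)

lemma orderOf_TE {t : SpecialLinearGroup ι F} (ht : t ∈ TE F ι) : orderOf t = 2 := by
  apply orderOf_eq_prime
  · rw [pow_two]; exact sq_eq_one ht
  · exact ne_one_of_mem ht

omit [CharP F 2] in
lemma conj_mem_TE {t : SpecialLinearGroup ι F} (ht : t ∈ TE F ι) (g : SpecialLinearGroup ι F) :
    g * t * g⁻¹ ∈ TE F ι := by
  obtain ⟨v, φ, h, hv, hφ, rfl⟩ := ht
  rw [conj_tvE]
  exact tvE_mem_TE _ (mulVec_ne_zero g hv) (vecMul_ne_zero g⁻¹ hφ) one_ne_zero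

omit [CharP F 2] in
lemma closure_TE : Subgroup.closure (TE F ι) = ⊤ := by
  rw [eq_top_iff, ← Cfsg.Agent.Lib.Helper5.closure_transvection_eq_top, Subgroup.closure_le]
  rintro _ ⟨i, j, hij, c, rfl⟩
  have heq : SpecialLinearGroup.transvection hij c =
      tvE (Pi.single i (1 : F)) (Pi.single j (1 : F)) (Cfsg.Agent.S5043.single_dot hij) c :=
    Subtype.ext (by rw [Cfsg.Agent.S5043.coe_tvE_single hij]; rfl)
  by_cases hc : c = 0
  · rw [heq, hc, tvE_zero]
    exact Subgroup.one_mem _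
  · rw [heq]
    exact Subgroup.subset_closure (tvE_mem_TE _ (Cfsg.Agent.S5043.single_ne_zero i)
      (Cfsg.Agent.S5043.single_ne_zero j) hc)

/-- The order 4 case. -/
lemma order_four {v φ w ψ : ι → F} (h : φ ⬝ᵥ v = 0) (h' : ψ ⬝ᵥ w = 0) (hv : v ≠ 0) (hφ : φ ≠ 0)
    (hw : w ≠ 0) (hψ : ψ ≠ 0) (hφw : φ ⬝ᵥ w ≠ 0) (hψv : ψ ⬝ᵥ v = 0) :
    orderOf (tvE v φ h 1 * tvE w ψ h' 1) = 4 ∧ (tvE v φ h 1 * tvE w ψ h' 1) ^ 2 ∈ TE F ι := by
  have ha : tvE v φ h 1 ∈ TE F ι := tvE_mem_TE h hv hφ one_ne_zero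
  have hb : tvE w ψ h' 1 ∈ TE F ι := tvE_mem_TE h' hw hψ one_ne_zero
  have hsq : (tvE v φ h 1 * tvE w ψ h' 1) ^ 2 = tvE v ψ hψv (1 * 1 * (φ ⬝ᵥ w)) := by
    rw [← tvE_commutator h h' hψv, inv_eq_self ha, inv_eq_self hb, pow_two]
    group
  have hmem : (tvE v φ h 1 * tvE w ψ h' 1) ^ 2 ∈ TE F ι := by
    rw [hsq]
    exact tvE_mem_TE hψv hv hψ (by simpa using hφw)
  refine ⟨?_, hmem⟩
  have : orderOf (tvE v φ h 1 * tvE w ψ h' 1) = 2 ^ (1 + 1) := by
    apply orderOf_eq_prime_pow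
    · rw [pow_one]; exact ne_one_of_mem hmem
    · have := sq_eq_one hmem
      rw [← pow_two, ← pow_mul] at this
      exact this
  rw [this]
  norm_num

/-- The trichotomy for two transvections in characteristic 2. -/
lemma pair_TE {a b : SpecialLinearGroup ι F} (ha : a ∈ TE F ι) (hb : b ∈ TE F ι) :
    a * b = b * a ∨ (orderOf (a * b) = 4 ∧ (a * b) ^ 2 ∈ TE F ι) ∨
      ∃ l : F, l ≠ 0 ∧ orderOf (a * b) =
        orderOf (Cfsg.Agent.S5016.U (1 : F) * Cfsg.Agent.S5016.L l) := by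
  obtain ⟨v, φ, h, hv, hφ, rfl⟩ := ha
  obtain ⟨w, ψ, h', hw, hψ, rfl⟩ := hb
  by_cases h1 : φ ⬝ᵥ w = 0
  · by_cases h2 : ψ ⬝ᵥ v = 0
    · left; exact tvE_commute h h' h1 h2 1 1
    · right; left
      obtain ⟨ho, hm⟩ := order_four h' h hw hψ hv hφ h2 h1
      have hord : orderOf (tvE v φ h 1 * tvE w ψ h' 1) =
          orderOf (tvE w ψ h' 1 * tvE v φ h 1) := by
        have e0 : tvE v φ h 1 * tvE w ψ h' 1 =
            (MulAut.conj (tvE v φ h 1)).toMonoidHom (tvE w ψ h' 1 * tvE v φ h 1) := by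
          simp only [MulEquiv.toMonoidHom_eq_coe, MonoidHom.coe_coe, MulAut.conj_apply]
          group
        rw [e0]
        exact orderOf_injective _ (MulAut.conj (tvE v φ h 1)).injective _
      refine ⟨by rw [hord]; exact ho, ?_⟩
      have := conj_mem_TE hm (tvE v φ h 1)
      have e : tvE v φ h 1 * (tvE w ψ h' 1 * tvE v φ h 1) ^ 2 * (tvE v φ h 1)⁻¹ =
          (tvE v φ h 1 * tvE w ψ h' 1) ^ 2 := by
        rw [pow_two, pow_two]; group
      rwa [e] at this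
  · by_cases h2 : ψ ⬝ᵥ v = 0
    · right; left; exact order_four h h' hv hφ hw hψ h1 h2
    · right; right
      refine ⟨(φ ⬝ᵥ w) * (ψ ⬝ᵥ v), mul_ne_zero h1 h2, ?_⟩
      have h11 : ((ψ ⬝ᵥ v)⁻¹ • ψ) ⬝ᵥ v = 1 := by
        rw [smul_dotProduct, smul_eq_mul, inv_mul_cancel₀ h2]
      have h12 : ((ψ ⬝ᵥ v)⁻¹ • ψ) ⬝ᵥ ((φ ⬝ᵥ w)⁻¹ • w) = 0 := by
        rw [smul_dotProduct, dotProduct_smul, h']
        simp
      have h22 : φ ⬝ᵥ ((φ ⬝ᵥ w)⁻¹ • w) = 1 := by
        rw [dotProduct_smul, smul_eq_mul, inv_mul_cancel₀ h1]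
      have hU := sl2Hom_U v ((φ ⬝ᵥ w)⁻¹ • w) ((ψ ⬝ᵥ v)⁻¹ • ψ) φ h11 h12 h h22 1
      have hL := sl2Hom_L v ((φ ⬝ᵥ w)⁻¹ • w) ((ψ ⬝ᵥ v)⁻¹ • ψ) φ h11 h12 h h22
        ((φ ⬝ᵥ w) * (ψ ⬝ᵥ v))
      have hL' : tvE ((φ ⬝ᵥ w)⁻¹ • w) ((ψ ⬝ᵥ v)⁻¹ • ψ) h12 ((φ ⬝ᵥ w) * (ψ ⬝ᵥ v)) =
          tvE w ψ h' 1 := by
        apply Subtype.ext
        rw [coe_tvE, coe_tvE, smul_vecMulVec, vecMulVec_smul, smul_smul, smul_smul]
        congr 2
        field_simp
      rw [← hU, ← hL', ← hL, ← map_mul]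
      exact orderOf_injective _ (sl2Hom_injective _ _ _ _ h11 h12 h h22) _

end TE

section Final

variable (F : Type*) [Field F] [Fintype F] [CharP F 2] (n : ℕ)

lemma h01 : (0 : Fin (n + 3)) ≠ 1 := by
  intro h; have := congrArg Fin.val h; simp at this

lemma D_eq :
    {t : Matrix.SpecialLinearGroup (Fin (n + 3)) F | ∃ c : F, c ≠ 0 ∧
        ∃ g : Matrix.SpecialLinearGroup (Fin (n + 3)) F,
          ((g⁻¹ * t * g : Matrix.SpecialLinearGroup (Fin (n + 3)) F) :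
          Matrix (Fin (n + 3)) (Fin (n + 3)) F) = Matrix.transvection 0 1 c} =
      TE F (Fin (n + 3)) := by
  ext t
  constructor
  · rintro ⟨c, hc, g, hg⟩
    have h1 : g⁻¹ * t * g = tvE (Pi.single (0 : Fin (n + 3)) (1 : F)) (Pi.single 1 (1 : F))
        (Cfsg.Agent.S5043.single_dot (h01 n)) c :=
      Subtype.ext (hg.trans (Cfsg.Agent.S5043.coe_tvE_single (h01 n) c).symm)
    have h2 : t = g * tvE (Pi.single (0 : Fin (n + 3)) (1 : F)) (Pi.single 1 (1 : F))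
        (Cfsg.Agent.S5043.single_dot (h01 n)) c * g⁻¹ := by
      rw [← h1]; group
    rw [h2, conj_tvE]
    exact tvE_mem_TE _ (mulVec_ne_zero g (Cfsg.Agent.S5043.single_ne_zero _))
      (vecMul_ne_zero g⁻¹ (Cfsg.Agent.S5043.single_ne_zero _)) hc
  · rintro ⟨v, φ, h, hv, hφ, rfl⟩
    obtain ⟨g, hg⟩ := tvE_conj (Cfsg.Agent.S5043.card_fin n)
      (Cfsg.Agent.S5043.single_dot (k := F) (h01 n)) h
      (Cfsg.Agent.S5043.single_ne_zero _) (Cfsg.Agent.S5043.single_ne_zero _) hv hφ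
    refine ⟨1, one_ne_zero, g, ?_⟩
    have h1 : g⁻¹ * tvE v φ h 1 * g = tvE (Pi.single (0 : Fin (n + 3)) (1 : F))
        (Pi.single 1 (1 : F)) (Cfsg.Agent.S5043.single_dot (h01 n)) 1 := by
      rw [hg 1]; group
    rw [h1]
    exact Cfsg.Agent.S5043.coe_tvE_single (h01 n) 1

lemma isRootInvolutionSet_TE : Cfsg.IsRootInvolutionSet (TE F (Fin (n + 3))) where
  orderOf_eq := fun d hd => orderOf_TE hd
  generates := closure_TE
  conj_mem := fun d hd g => conj_mem_TE hd g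
  pair := by
    intro a ha b hb
    rcases pair_TE ha hb with h | h | ⟨l, hl, h⟩
    · left; exact h
    · right; right; exact h
    · right; left
      rw [h]
      exact odd_order_UL l hl

end Final

/-- Let F be a finite field of characteristic 2 and n a natural number. Then the transvections of SL_{n+3}(F) (so in every dimension at least 3) (the conjugates of the elementary matrices 1 + c E₁₂, c ≠ 0) form a class of root involutions of SL_{n+3}(F); when F has two elements they form a class of {3,4}⁺-transpositions (every product of odd order has order 1 or 3). -/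
theorem result (F : Type*) [Field F] [Fintype F] [CharP F 2] (n : ℕ) :
    Cfsg.IsRootInvolutionClass {t : Matrix.SpecialLinearGroup (Fin (n + 3)) F | ∃ c : F, c ≠ 0 ∧
        ∃ g : Matrix.SpecialLinearGroup (Fin (n + 3)) F, ((g⁻¹ * t * g : Matrix.SpecialLinearGroup (Fin (n + 3)) F) :
          Matrix (Fin (n + 3)) (Fin (n + 3)) F) = Matrix.transvection 0 1 c} ∧
    (Fintype.card F = 2 → Cfsg.IsThreeFourPlusTranspositionSet {t : Matrix.SpecialLinearGroup (Fin (n + 3)) F | ∃ c : F, c ≠ 0 ∧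
        ∃ g : Matrix.SpecialLinearGroup (Fin (n + 3)) F, ((g⁻¹ * t * g : Matrix.SpecialLinearGroup (Fin (n + 3)) F) :
          Matrix (Fin (n + 3)) (Fin (n + 3)) F) = Matrix.transvection 0 1 c}) := by
  rw [D_eq]
  have hRS := isRootInvolutionSet_TE F n
  refine ⟨⟨hRS, ?_, ?_⟩, ?_⟩
  · exact ⟨_, tvE_mem_TE (Cfsg.Agent.S5043.single_dot (k := F) (h01 n))
      (Cfsg.Agent.S5043.single_ne_zero _) (Cfsg.Agent.S5043.single_ne_zero _) one_ne_zero⟩
  · rintro _ ⟨v, φ, h, hv, hφ, rfl⟩ _ ⟨w, ψ, h', hw, hψ, rfl⟩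
    obtain ⟨g, hg⟩ := tvE_conj (Cfsg.Agent.S5043.card_fin n) h h' hv hφ hw hψ
    exact ⟨g, hg 1⟩
  · intro hcard
    refine ⟨hRS, ?_⟩
    intro a ha b hb hodd
    rcases pair_TE ha hb with h | h | ⟨l, hl, h⟩
    · left
      have h2 : (a * b) ^ 2 = 1 := by
        rw [pow_two]
        calc a * b * (a * b) = a * (b * a) * b := by group
          _ = a * (a * b) * b := by rw [h]
          _ = (a * a) * (b * b) := by group
          _ = 1 := by rw [sq_eq_one ha, sq_eq_one hb, one_mul]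
      have hdvd := orderOf_dvd_of_pow_eq_one h2
      rcases (Nat.dvd_prime Nat.prime_two).mp hdvd with h3 | h3
      · exact h3
      · rw [h3] at hodd
        exact absurd hodd (by decide)
    · rw [h.1] at hodd
      exact absurd hodd (by decide)
    · have hl1 : l = 1 := by
        have := FiniteField.pow_card_sub_one_eq_one l hl
        rwa [hcard, show 2 - 1 = 1 from rfl, pow_one] at this
      rw [h, hl1]
      have hdvd := orderOf_dvd_of_pow_eq_one (UL_one_pow_three (F := F))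
      rcases (Nat.dvd_prime Nat.prime_three).mp hdvd with h3 | h3
      · left; exact h3
      · right; exact h3

end Cfsg.Agent.S5058
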