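import Cfsg.Statements.S5059
-- import your own Cfsg.Agent.* helpers here

set_option autoImplicit false
universe u
open Cfsg

namespace Cfsg.Agent.S5059

section helpers

variable {k : Type u} [Field k] {M : Type u} [AddCommGroup M] [Module k M]

/-- The unit `1 + t` for an endomorphism `t` with `t * t = 0`. -/
def unitOfSq (t : Module.End k M) (ht : t * t = 0) : LinearMap.GeneralLinearGroup k M where
  val := 1 + t
  inv := 1 - t
  val_inv := by
    calc (1 + t) * (1 - t) = 1 - t * t := by noncomm_ring
      _ = 1 := by rw [ht, sub_zero]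
  inv_val := by
    calc (1 - t) * (1 + t) = 1 - t * t := by noncomm_ring
      _ = 1 := by rw [ht, sub_zero]

theorem range_le_ker_of_sq {t : Module.End k M} (ht : t * t = 0) : LinearMap.range t ≤ LinearMap.ker t := by
  rintro _ ⟨m, rfl⟩
  rw [LinearMap.mem_ker]
  have : (t * t) m = 0 := by rw [ht]; rfl
  exact this

theorem mul_eq_zero_of_range_le_ker {t t' : Module.End k M} (h : LinearMap.range t' ≤ LinearMap.ker t) :
    t * t' = 0 := by
  ext m
  have : t' m ∈ LinearMap.ker t := h ⟨m, rfl⟩
  exact this

theorem one_add_pow_of_sq {t : Module.End k M} (ht : t * t = 0) (n : ℕ) :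
    (1 + t) ^ n = 1 + (n : k) • t := by
  induction n with
  | zero => simp
  | succ n ih =>
    rw [pow_succ, ih]
    calc (1 + (n : k) • t) * (1 + t) = 1 + (n : k) • t + t + (n : k) • (t * t) := by
          rw [mul_add, mul_one, add_mul, one_mul, smul_mul_assoc]; abel
      _ = 1 + ((n + 1 : ℕ) : k) • t := by
          rw [ht, smul_zero, add_zero, Nat.cast_succ, add_smul, one_smul]; abel

end helpers

section main

variable {k : Type u} [Field k] {M : Type u} [AddCommGroup M] [Module k M] [FiniteDimensional k M]
variable {G : Subgroup (LinearMap.GeneralLinearGroup k M)} {σ : LinearMap.GeneralLinearGroup k M}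

/-- The data carried by a member of `E_σ`. -/
theorem mem_class_iff {τ : LinearMap.GeneralLinearGroup k M} :
    τ ∈ sameActionClass G σ ↔
      (τ ∈ G ∧ ((τ : M →ₗ[k] M) - 1) * ((τ : M →ₗ[k] M) - 1) = 0 ∧ (τ : M →ₗ[k] M) - 1 ≠ 0 ∧
        scalarFamily τ ⊆ (G : Set (LinearMap.GeneralLinearGroup k M))) ∧
      (∀ υ ∈ quadraticElements G, commutatorRank τ ≤ commutatorRank υ) ∧
      LinearMap.ker ((τ : M →ₗ[k] M) - 1) = LinearMap.ker ((σ : M →ₗ[k] M) - 1) ∧
      LinearMap.range ((τ : M →ₗ[k] M) - 1) = LinearMap.range ((σ : M →ₗ[k] M) - 1) := by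
  unfold sameActionClass minimalQuadraticElements quadraticElements IsQuadraticOn
  simp only [Set.mem_ofPred_eq]
  tauto

theorem mul_mem_class (hσ : σ ∈ minimalQuadraticElements G) {τ τ' : LinearMap.GeneralLinearGroup k M}
    (hτ : τ ∈ sameActionClass G σ) (hτ' : τ' ∈ sameActionClass G σ) :
    ((τ * τ' : LinearMap.GeneralLinearGroup k M) : M →ₗ[k] M) - 1 = ((τ : M →ₗ[k] M) - 1) + ((τ' : M →ₗ[k] M) - 1) ∧
    (τ * τ' ∈ sameActionClass G σ ∨ τ * τ' = 1) := by
  obtain ⟨⟨hG1, hsq1, hne1, hfam1⟩, hmin1, hker1, hran1⟩ := mem_class_iff.mp hτ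
  obtain ⟨⟨hG2, hsq2, hne2, hfam2⟩, hmin2, hker2, hran2⟩ := mem_class_iff.mp hτ'
  set t : Module.End k M := (τ : M →ₗ[k] M) - 1 with ht
  set t' : Module.End k M := (τ' : M →ₗ[k] M) - 1 with ht'
  have htt' : t * t' = 0 := mul_eq_zero_of_range_le_ker (by
    rw [hran2, ← hran1]
    exact range_le_ker_of_sq hsq1)
  have ht't : t' * t = 0 := mul_eq_zero_of_range_le_ker (by
    rw [hran1, ← hran2]
    exact range_le_ker_of_sq hsq2)
  have hτv : (τ : M →ₗ[k] M) = 1 + t := by rw [ht]; abel
  have hτ'v : (τ' : M →ₗ[k] M) = 1 + t' := by rw [ht']; abel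
  have hprod : ((τ * τ' : LinearMap.GeneralLinearGroup k M) : M →ₗ[k] M) - 1 = t + t' := by
    rw [Units.val_mul, hτv, hτ'v]
    calc (1 + t) * (1 + t') - 1 = t + t' + t * t' := by noncomm_ring
      _ = t + t' := by rw [htt', add_zero]
  refine ⟨hprod, ?_⟩
  by_cases hs : t + t' = 0
  · right
    apply Units.ext
    have := hprod
    rw [hs, sub_eq_zero] at this
    exact this
  · left
    have hssq : (t + t') * (t + t') = 0 := by
      calc (t + t') * (t + t') = t * t + t * t' + t' * t + t' * t' := by noncomm_ring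
        _ = 0 := by rw [hsq1, hsq2, htt', ht't]; simp
    have hquad : τ * τ' ∈ quadraticElements G := by
      refine ⟨G.mul_mem hG1 hG2, ⟨by rw [hprod]; exact hssq, by rw [hprod]; exact hs⟩, ?_⟩
      rintro υ ⟨c, hc⟩
      rw [hprod] at hc
      -- υ = (1 + c t)(1 + c t')
      have h1 : (c • t) * (c • t) = 0 := by rw [smul_mul_smul_comm, hsq1, smul_zero]
      have h2 : (c • t') * (c • t') = 0 := by rw [smul_mul_smul_comm, hsq2, smul_zero]
      have hu1 : unitOfSq (c • t) h1 ∈ G := hfam1 ⟨c, rfl⟩
      have hu2 : unitOfSq (c • t') h2 ∈ G := hfam2 ⟨c, rfl⟩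
      have : υ = unitOfSq (c • t) h1 * unitOfSq (c • t') h2 := by
        apply Units.ext
        rw [hc, Units.val_mul]
        show 1 + c • (t + t') = (1 + c • t) * (1 + c • t')
        calc 1 + c • (t + t') = 1 + c • t + c • t' + (c * c) • (t * t') := by
              rw [htt', smul_zero, add_zero, smul_add]; abel
          _ = (1 + c • t) * (1 + c • t') := by
              rw [mul_add, mul_one, add_mul, one_mul, smul_mul_smul_comm]; abel
      rw [this]
      exact G.mul_mem hu1 hu2
    have hrle : LinearMap.range (t + t') ≤ LinearMap.range ((σ : M →ₗ[k] M) - 1) := by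
      rintro _ ⟨m, rfl⟩
      rw [LinearMap.add_apply]
      refine Submodule.add_mem _ ?_ ?_
      · rw [← hran1]; exact ⟨m, rfl⟩
      · rw [← hran2]; exact ⟨m, rfl⟩
    have hrank_le : commutatorRank (τ * τ') ≤ commutatorRank σ := by
      unfold commutatorRank
      rw [hprod]
      exact Submodule.finrank_mono hrle
    have hrank_ge : commutatorRank σ ≤ commutatorRank (τ * τ') := hσ.2 _ hquad
    have hrank : commutatorRank (τ * τ') = commutatorRank σ := le_antisymm hrank_le hrank_ge
    have hrange : LinearMap.range (t + t') = LinearMap.range ((σ : M →ₗ[k] M) - 1) := by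
      apply Submodule.eq_of_le_of_finrank_eq hrle
      have := hrank
      unfold commutatorRank at this
      rw [hprod] at this
      exact this
    have hkle : LinearMap.ker ((σ : M →ₗ[k] M) - 1) ≤ LinearMap.ker (t + t') := by
      intro m hm
      rw [LinearMap.mem_ker, LinearMap.add_apply]
      have h1 : t m = 0 := by rw [← hker1] at hm; exact hm
      have h2 : t' m = 0 := by rw [← hker2] at hm; exact hm
      rw [h1, h2, add_zero]
    have hker : LinearMap.ker (t + t') = LinearMap.ker ((σ : M →ₗ[k] M) - 1) := by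
      symm
      apply Submodule.eq_of_le_of_finrank_eq hkle
      have e1 := LinearMap.finrank_range_add_finrank_ker (t + t')
      have e2 := LinearMap.finrank_range_add_finrank_ker ((σ : M →ₗ[k] M) - 1)
      rw [hrange] at e1
      omega
    rw [mem_class_iff]
    refine ⟨⟨hquad.1, hquad.2.1.1, hquad.2.1.2, hquad.2.2⟩, ?_, ?_, ?_⟩
    · intro υ hυ
      rw [hrank]
      exact hσ.2 υ hυ
    · rw [hprod]; exact hker
    · rw [hprod]; exact hrange

theorem inv_mem_class {τ : LinearMap.GeneralLinearGroup k M}
    (hτ : τ ∈ sameActionClass G σ) : τ⁻¹ ∈ sameActionClass G σ := by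
  obtain ⟨⟨hG1, hsq1, hne1, hfam1⟩, hmin1, hker1, hran1⟩ := mem_class_iff.mp hτ
  set t : Module.End k M := (τ : M →ₗ[k] M) - 1 with ht
  have hτv : (τ : M →ₗ[k] M) = 1 + t := by rw [ht]; abel
  have hinv : ((τ⁻¹ : LinearMap.GeneralLinearGroup k M) : M →ₗ[k] M) - 1 = -t := by
    have h1 : τ⁻¹ = unitOfSq (-t) (by rw [neg_mul_neg]; exact hsq1) := by
      rw [inv_eq_iff_eq_inv]
      apply Units.ext
      rw [hτv]
      show 1 + t = 1 - -t
      abel
    rw [h1]
    show 1 + -t - 1 = -t
    abel
  rw [mem_class_iff, hinv]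
  refine ⟨⟨G.inv_mem hG1, by rw [neg_mul_neg]; exact hsq1, neg_ne_zero.mpr hne1, ?_⟩, ?_, ?_, ?_⟩
  · rintro υ ⟨c, hc⟩
    rw [hinv] at hc
    apply hfam1
    refine ⟨-c, ?_⟩
    rw [hc, smul_neg, neg_smul]
  · intro υ hυ
    have : commutatorRank τ⁻¹ = commutatorRank τ := by
      unfold commutatorRank
      rw [hinv, LinearMap.range_neg]
    rw [this]
    exact hmin1 υ hυ
  · rw [LinearMap.ker_neg]; exact hker1
  · rw [LinearMap.range_neg]; exact hran1

end main

/-- Let k be a field of characteristic not 2 with k not of order 3, M a finite-dimensional k-vector space and G ≤ GL(M) such that (G, M) is a quadratic pair (M irreducible for G, and G generated by its quadratically acting elements σ whose scalar family 1 + c(σ − 1), c ∈ k, lies in G). Write 𝒬_d for the quadratic elements of G of minimal commutator rank, E(σ) for the subgroup generated by the members of 𝒬_d with the same fixed space and commutator space as σ, and Σ for the set of these subgroups. Then for σ ∈ 𝒬_d the subgroup E(σ) consists exactly of those members together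 with the identity, it is abelian, and if k has prime characteristic p every element of E(σ) has order dividing p. -/
theorem result {k : Type u} [Field k] (hk2 : ringChar k ≠ 2) (hk3 : Nat.card k ≠ 3)
    {M : Type u} [AddCommGroup M] [Module k M] [FiniteDimensional k M]
    {G : Subgroup (LinearMap.GeneralLinearGroup k M)} (hG : Cfsg.IsQuadraticPair G)
    {σ : LinearMap.GeneralLinearGroup k M} (hσ : σ ∈ Cfsg.minimalQuadraticElements G) :
    (Cfsg.sameActionSubgroup G σ : Set (LinearMap.GeneralLinearGroup k M)) = Cfsg.sameActionClass G σ ∪ {1} ∧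
    IsMulCommutative ↥(Cfsg.sameActionSubgroup G σ) ∧
    (∀ p : ℕ, p.Prime → ringChar k = p → ∀ x ∈ Cfsg.sameActionSubgroup G σ, x ^ p = 1) := by
  -- the subgroup with carrier E_σ ∪ {1}
  let H : Subgroup (LinearMap.GeneralLinearGroup k M) :=
    { carrier := sameActionClass G σ ∪ {1}
      one_mem' := Or.inr rfl
      mul_mem' := by
        rintro a b (ha | ha) (hb | hb)
        · rcases (mul_mem_class hσ ha hb).2 with h | h
          · exact Or.inl h
          · exact Or.inr h
        · rw [Set.mem_singleton_iff] at hb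
          rw [hb, mul_one]; exact Or.inl ha
        · rw [Set.mem_singleton_iff] at ha
          rw [ha, one_mul]; exact Or.inl hb
        · rw [Set.mem_singleton_iff] at ha hb
          rw [ha, hb, mul_one]; exact Or.inr rfl
      inv_mem' := by
        rintro a (ha | ha)
        · exact Or.inl (inv_mem_class ha)
        · rw [Set.mem_singleton_iff] at ha
          rw [ha, inv_one]; exact Or.inr rfl }
  have hset : (sameActionSubgroup G σ : Set (LinearMap.GeneralLinearGroup k M)) = sameActionClass G σ ∪ {1} := by
    apply Set.Subset.antisymm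
    · have : sameActionSubgroup G σ ≤ H := by
        unfold sameActionSubgroup
        rw [Subgroup.closure_le]
        exact Set.subset_union_left
      exact this
    · rintro x (hx | hx)
      · exact Subgroup.subset_closure hx
      · rw [Set.mem_singleton_iff] at hx
        rw [hx]; exact Subgroup.one_mem _
  have hmem : ∀ x ∈ sameActionSubgroup G σ, x ∈ sameActionClass G σ ∨ x = 1 := by
    intro x hx
    have : x ∈ (sameActionSubgroup G σ : Set (LinearMap.GeneralLinearGroup k M)) := hx
    rw [hset] at this
    exact this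
  refine ⟨hset, ⟨⟨?_⟩⟩, ?_⟩
  · rintro ⟨a, ha⟩ ⟨b, hb⟩
    apply Subtype.ext
    show a * b = b * a
    rcases hmem a ha with ha' | rfl
    · rcases hmem b hb with hb' | rfl
      · apply Units.ext
        have h1 := (mul_mem_class hσ ha' hb').1
        have h2 := (mul_mem_class hσ hb' ha').1
        have : ((a * b : LinearMap.GeneralLinearGroup k M) : M →ₗ[k] M) - 1 =
            ((b * a : LinearMap.GeneralLinearGroup k M) : M →ₗ[k] M) - 1 := by
          rw [h1, h2, add_comm]
        exact sub_left_injective this
      · rw [mul_one, one_mul]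
    · rw [mul_one, one_mul]
  · intro p hp hchar x hx
    rcases hmem x hx with hx' | rfl
    · obtain ⟨⟨-, hsq1, -, -⟩, -, -, -⟩ := mem_class_iff.mp hx'
      apply Units.ext
      rw [Units.val_pow_eq_pow_val]
      have hxv : (x : M →ₗ[k] M) = 1 + ((x : M →ₗ[k] M) - 1) := by abel
      rw [hxv, one_add_pow_of_sq hsq1]
      have : (p : k) = 0 := by
        rw [← hchar]; exact ringChar.Nat.cast_ringChar
      rw [this, zero_smul, add_zero]
      rfl
    · exact one_pow p

end Cfsg.Agent.S5059
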