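import Cfsg.Statements.S5061

set_option autoImplicit false
open Cfsg

namespace Cfsg.Agent.S5061

variable {k : Type*} [Field k] {M : Type*} [AddCommGroup M] [Module k M]

/-- the span of the `u - 1`, `u ∈ U` -/
def D (U : Subgroup (LinearMap.GeneralLinearGroup k M)) : Submodule k (Module.End k M) :=
  Submodule.span k {x | ∃ u ∈ U, x = (u : Module.End k M) - 1}

theorem sub_one_mem_D {U : Subgroup (LinearMap.GeneralLinearGroup k M)}
    {u : LinearMap.GeneralLinearGroup k M} (hu : u ∈ U) : (u : Module.End k M) - 1 ∈ D U :=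
  Submodule.subset_span ⟨u, hu, rfl⟩

theorem D_mono {U U' : Subgroup (LinearMap.GeneralLinearGroup k M)} (h : U ≤ U') : D U ≤ D U' :=
  Submodule.span_mono (fun _ ⟨u, hu, hx⟩ => ⟨u, h hu, hx⟩)

theorem D_mul_le (U : Subgroup (LinearMap.GeneralLinearGroup k M)) : D U * D U ≤ D U := by
  unfold D
  rw [Submodule.span_mul_span, Submodule.span_le]
  rintro x ⟨a, ⟨u, hu, rfl⟩, b, ⟨v, hv, rfl⟩, rfl⟩
  have h1 : ((u : Module.End k M) - 1) * ((v : Module.End k M) - 1) =
      (((u * v : LinearMap.GeneralLinearGroup k M) : Module.End k M) - 1)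
        - ((u : Module.End k M) - 1) - ((v : Module.End k M) - 1) := by
    rw [Units.val_mul]; noncomm_ring
  show ((u : Module.End k M) - 1) * ((v : Module.End k M) - 1) ∈ _
  rw [h1]
  exact Submodule.sub_mem _ (Submodule.sub_mem _
    (Submodule.subset_span ⟨u * v, U.mul_mem hu hv, rfl⟩)
    (Submodule.subset_span ⟨u, hu, rfl⟩)) (Submodule.subset_span ⟨v, hv, rfl⟩)

/-- the group of units `g` with `g - 1, g⁻¹ - 1 ∈ N`, for a multiplicatively closed `N` -/
def Gof (N : Submodule k (Module.End k M)) (hN : N * N ≤ N) :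
    Subgroup (LinearMap.GeneralLinearGroup k M) where
  carrier := {g | (g : Module.End k M) - 1 ∈ N ∧
    ((g⁻¹ : LinearMap.GeneralLinearGroup k M) : Module.End k M) - 1 ∈ N}
  mul_mem' := by
    rintro g h ⟨hg, hg'⟩ ⟨hh, hh'⟩
    have key : ∀ a b : Module.End k M, a - 1 ∈ N → b - 1 ∈ N → a * b - 1 ∈ N := by
      intro a b ha hb
      have h1 : a * b - 1 = (a - 1) * (b - 1) + (a - 1) + (b - 1) := by noncomm_ring
      rw [h1]
      exact N.add_mem (N.add_mem (hN (Submodule.mul_mem_mul ha hb)) ha) hb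
    refine ⟨?_, ?_⟩
    · rw [Units.val_mul]; exact key _ _ hg hh
    · rw [mul_inv_rev, Units.val_mul]; exact key _ _ hh' hg'
  one_mem' := by simp
  inv_mem' := by
    rintro g ⟨hg, hg'⟩
    exact ⟨hg', by rwa [inv_inv]⟩

theorem D_Gof_le (N : Submodule k (Module.End k M)) (hN : N * N ≤ N) : D (Gof N hN) ≤ N := by
  unfold D
  rw [Submodule.span_le]
  rintro x ⟨u, hu, rfl⟩
  exact hu.1

theorem le_Gof {N : Submodule k (Module.End k M)} (hN : N * N ≤ N)
    {A : Subgroup (LinearMap.GeneralLinearGroup k M)} (hA : D A ≤ N) : A ≤ Gof N hN := by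
  intro a ha
  exact ⟨hA (sub_one_mem_D ha), hA (sub_one_mem_D (A.inv_mem ha))⟩

/-- nilpotent submodule of endomorphisms -/
def IsNilp (N : Submodule k (Module.End k M)) : Prop := ∃ n : ℕ, N ^ n = ⊥

theorem IsNilp.mono {N N' : Submodule k (Module.End k M)} (h : N' ≤ N) (hN : IsNilp N) :
    IsNilp N' := by
  obtain ⟨n, hn⟩ := hN
  exact ⟨n, le_bot_iff.mp (hn ▸ pow_le_pow_left' h n)⟩

theorem list_prod_mem_pow (N : Submodule k (Module.End k M)) :
    ∀ l : List (Module.End k M), (∀ x ∈ l, x ∈ N) → l.prod ∈ N ^ l.length := by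
  intro l
  induction l with
  | nil =>
    intro _
    simp only [List.prod_nil, List.length_nil, pow_zero]
    exact Submodule.one_le.mp le_rfl
  | cons a l ih =>
    intro h
    rw [List.prod_cons, List.length_cons, pow_succ']
    exact Submodule.mul_mem_mul (h a (List.mem_cons_self ..))
      (ih (fun x hx => h x (List.mem_cons_of_mem _ hx)))

theorem unipOn_iff' (H : Subgroup (LinearMap.GeneralLinearGroup k M)) :
    Cfsg.IsUnipotentOn H ↔ ∃ n : ℕ, ∀ l : List (LinearMap.GeneralLinearGroup k M),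
      (∀ g ∈ l, g ∈ H) → l.length = n →
        (l.map fun g : LinearMap.GeneralLinearGroup k M => (g : Module.End k M) - 1).prod = 0 := by
  unfold Cfsg.IsUnipotentOn
  have h : ∀ l : List (LinearMap.GeneralLinearGroup k M),
      (List.map (fun g : Module.End k M => g - 1) (do let a ← l; pure (a : Module.End k M))) =
        l.map fun g : LinearMap.GeneralLinearGroup k M => (g : Module.End k M) - 1 := by
    intro l
    induction l with
    | nil => rfl
    | cons a l ih =>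
      have h2 : (do let b ← (a :: l); pure (b : Module.End k M)) =
          (a : Module.End k M) :: (do let b ← l; pure (b : Module.End k M)) := by
        simp
      rw [h2, List.map_cons, List.map_cons, ih]
  simp only [h]

theorem unip_iff (H : Subgroup (LinearMap.GeneralLinearGroup k M)) :
    Cfsg.IsUnipotentOn H ↔ IsNilp (D H) := by
  rw [unipOn_iff']
  constructor
  · rintro ⟨n, hn⟩
    refine ⟨n, ?_⟩
    unfold D
    rw [Submodule.span_pow, Submodule.span_eq_bot]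
    intro x hx
    rw [Set.mem_pow] at hx
    obtain ⟨f, rfl⟩ := hx
    have hf : ∀ i, ∃ u ∈ H, ((f i : Module.End k M)) = (u : Module.End k M) - 1 := fun i => (f i).2
    choose g hgH hg using hf
    have h1 := hn (List.ofFn g) (by
      intro u hu
      rw [List.mem_ofFn] at hu
      obtain ⟨i, rfl⟩ := hu
      exact hgH i) (List.length_ofFn)
    rw [List.map_ofFn] at h1
    rw [← h1]
    congr 1
    apply List.ofFn_inj.mpr
    funext i
    exact hg i
  · rintro ⟨n, hn⟩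
    refine ⟨n, ?_⟩
    intro l hl hlen
    have h1 := list_prod_mem_pow (D H) (l.map fun g : LinearMap.GeneralLinearGroup k M => (g : Module.End k M) - 1) (by
      intro x hx
      rw [List.mem_map] at hx
      obtain ⟨g, hg, rfl⟩ := hx
      exact sub_one_mem_D (hl g hg))
    rw [List.length_map, hlen, hn] at h1
    exact (Submodule.mem_bot k).mp h1

/-- a nilpotent algebra `R` "normalized" by a nilpotent algebra `T` -/
theorem prod_nilp (R T : Submodule k (Module.End k M)) (hR : R * R ≤ R) (hT : T * T ≤ T)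
    (hRn : IsNilp R) (hTn : IsNilp T) (hTR : T * R ≤ R ⊔ R * T) :
    ∃ S : Submodule k (Module.End k M), S * S ≤ S ∧ IsNilp S ∧ R ≤ S ∧ T ≤ S := by
  obtain ⟨a, ha⟩ := hRn
  obtain ⟨b, hb⟩ := hTn
  set X : Submodule k (Module.End k M) := 1 ⊔ T with hX
  set I : Submodule k (Module.End k M) := R * X with hI
  have hX1 : (1 : Submodule k (Module.End k M)) ≤ X := le_sup_left
  have hTX : T ≤ X := le_sup_right
  have hXX : X * X ≤ X := by
    rw [hX, Submodule.mul_sup, Submodule.sup_mul, Submodule.sup_mul, one_mul, one_mul, mul_one]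
    exact sup_le (sup_le le_sup_left le_sup_right) (sup_le le_sup_right (hT.trans le_sup_right))
  have hRI : R ≤ I := by
    calc R = R * 1 := (mul_one R).symm
      _ ≤ R * X := mul_le_mul' le_rfl hX1
  have hXR : X * R ≤ R * X := by
    rw [hX, Submodule.sup_mul, one_mul]
    refine sup_le ?_ (hTR.trans (sup_le ?_ ?_))
    · calc R = R * 1 := (mul_one R).symm
        _ ≤ R * (1 ⊔ T) := mul_le_mul' le_rfl le_sup_left
    · calc R = R * 1 := (mul_one R).symm
        _ ≤ R * (1 ⊔ T) := mul_le_mul' le_rfl le_sup_left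
    · exact mul_le_mul' le_rfl le_sup_right
  -- X * I ≤ I and I * X ≤ I
  have hXI : X * I ≤ I := by
    calc X * I = (X * R) * X := by rw [hI, mul_assoc]
      _ ≤ (R * X) * X := mul_le_mul' hXR le_rfl
      _ = R * (X * X) := by rw [mul_assoc]
      _ ≤ R * X := mul_le_mul' le_rfl hXX
  have hIX : I * X ≤ I := by
    calc I * X = R * (X * X) := by rw [hI, mul_assoc]
      _ ≤ R * X := mul_le_mul' le_rfl hXX
  have hII : I * I ≤ I := by
    calc I * I = (R * X) * I := by rw [hI]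
      _ = R * (X * I) := by rw [mul_assoc]
      _ ≤ R * I := mul_le_mul' le_rfl hXI
      _ = (R * R) * X := by rw [hI, mul_assoc]
      _ ≤ R * X := mul_le_mul' hR le_rfl
  refine ⟨I ⊔ T, ?_, ?_, hRI.trans le_sup_left, le_sup_right⟩
  · rw [Submodule.mul_sup, Submodule.sup_mul, Submodule.sup_mul]
    refine sup_le (sup_le (hII.trans le_sup_left) ?_) (sup_le ?_ (hT.trans le_sup_right))
    · exact ((mul_le_mul' hTX le_rfl).trans hXI).trans le_sup_left
    · exact ((mul_le_mul' le_rfl hTX).trans hIX).trans le_sup_left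
  · -- nilpotency
    have hTpow : ∀ j : ℕ, T ^ j ≤ X := by
      intro j
      induction j with
      | zero => rw [pow_zero]; exact hX1
      | succ j ih =>
        rw [pow_succ]
        exact (mul_le_mul' ih hTX).trans hXX
    have hSpow : ∀ j : ℕ, (I ⊔ T) ^ (j + 1) ≤ I ⊔ T ^ (j + 1) := by
      intro j
      induction j with
      | zero => rw [zero_add, pow_one, pow_one]
      | succ j ih =>
        rw [pow_succ (I ⊔ T) (j + 1)]
        refine (mul_le_mul' ih le_rfl).trans ?_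
        rw [Submodule.mul_sup, Submodule.sup_mul, Submodule.sup_mul]
        refine sup_le (sup_le (hII.trans le_sup_left) ?_) (sup_le ?_ ?_)
        · exact ((mul_le_mul' (hTpow _) le_rfl).trans hXI).trans le_sup_left
        · exact ((mul_le_mul' le_rfl hTX).trans hIX).trans le_sup_left
        · rw [← pow_succ]; exact le_sup_right
    have hIpow : ∀ j : ℕ, I ^ j ≤ R ^ j * X := by
      intro j
      induction j with
      | zero => rw [pow_zero, pow_zero, one_mul]; exact hX1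
      | succ j ih =>
        rw [pow_succ I j]
        calc I ^ j * I ≤ (R ^ j * X) * I := mul_le_mul' ih le_rfl
          _ = R ^ j * (X * I) := by rw [mul_assoc]
          _ ≤ R ^ j * I := mul_le_mul' le_rfl hXI
          _ = R ^ (j + 1) * X := by rw [hI, ← mul_assoc, ← pow_succ]
    refine ⟨(b + 1) * (a + 1), ?_⟩
    rw [pow_mul]
    have h1 : (I ⊔ T) ^ (b + 1) ≤ I := by
      refine (hSpow b).trans (sup_le le_rfl ?_)
      rw [pow_succ, hb, Submodule.bot_mul]
      exact bot_le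
    have h2 : ((I ⊔ T) ^ (b + 1)) ^ (a + 1) ≤ R ^ (a + 1) * X :=
      (pow_le_pow_left' h1 (a + 1)).trans (hIpow (a + 1))
    rw [pow_succ R a, ha, Submodule.bot_mul, Submodule.bot_mul] at h2
    exact le_bot_iff.mp h2

/-- in a nilpotent algebra, a proper subalgebra is properly contained in its idealizer -/
theorem exists_idealizing (N R : Submodule k (Module.End k M)) (hN : N * N ≤ N) (hNn : IsNilp N)
    (hRN : R ≤ N) (hne : R ≠ N) :
    ∃ x ∈ N, x ∉ R ∧ (∀ r ∈ R, x * r ∈ R) ∧ (∀ r ∈ R, r * x ∈ R) := by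
  obtain ⟨n, hn⟩ := hNn
  have hex : ∃ j : ℕ, N ^ (j + 1) ≤ R := ⟨n, by rw [pow_succ, hn, Submodule.bot_mul]; exact bot_le⟩
  classical
  have hj := Nat.find_spec hex
  have hmin := fun m (hm : m < Nat.find hex) => Nat.find_min hex hm
  set j := Nat.find hex with hjdef
  have hj0 : j ≠ 0 := by
    intro h0
    rw [h0, zero_add, pow_one] at hj
    exact hne (le_antisymm hRN hj)
  obtain ⟨i, hi⟩ : ∃ i, j = i + 1 := ⟨j - 1, by omega⟩
  have hnot : ¬ N ^ (i + 1) ≤ R := hmin i (by omega)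
  obtain ⟨x, hxN, hxR⟩ := SetLike.not_le_iff_exists.mp hnot
  have hpowle : ∀ m : ℕ, N ^ (m + 1) ≤ N := by
    intro m
    induction m with
    | zero => rw [zero_add, pow_one]
    | succ m ih =>
      rw [pow_succ]
      exact (mul_le_mul' ih le_rfl).trans hN
  refine ⟨x, hpowle i hxN, hxR, ?_, ?_⟩
  · intro r hr
    apply hj
    rw [hi, pow_succ]
    exact Submodule.mul_mem_mul hxN (hRN hr)
  · intro r hr
    apply hj
    rw [hi, pow_succ']
    exact Submodule.mul_mem_mul (hRN hr) hxN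

/-- members of `W` inside `N` -/
def mem (W : Set (Subgroup (LinearMap.GeneralLinearGroup k M))) (N : Submodule k (Module.End k M)) :
    Set (Subgroup (LinearMap.GeneralLinearGroup k M)) := {A | A ∈ W ∧ D A ≤ N}

/-- the algebra generated by the members inside `N` -/
def gen (W : Set (Subgroup (LinearMap.GeneralLinearGroup k M))) (N : Submodule k (Module.End k M)) :
    Submodule k (Module.End k M) := D (⨆ A ∈ mem W N, A)

variable (W : Set (Subgroup (LinearMap.GeneralLinearGroup k M)))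

theorem gen_mul_le (N : Submodule k (Module.End k M)) : gen W N * gen W N ≤ gen W N := D_mul_le _

theorem gen_le {N : Submodule k (Module.End k M)} (hN : N * N ≤ N) : gen W N ≤ N := by
  refine (D_mono ?_).trans (D_Gof_le N hN)
  exact iSup₂_le fun A hA => le_Gof hN hA.2

theorem D_le_gen {N : Submodule k (Module.End k M)}
    {A : Subgroup (LinearMap.GeneralLinearGroup k M)} (hA : A ∈ mem W N) : D A ≤ gen W N :=
  D_mono (le_iSup₂ (f := fun (A : Subgroup (LinearMap.GeneralLinearGroup k M))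
    (_ : A ∈ mem W N) => A) A hA)

theorem mem_mono {N N' : Submodule k (Module.End k M)} (h : N ≤ N') : mem W N ⊆ mem W N' :=
  fun _ hA => ⟨hA.1, hA.2.trans h⟩

theorem mem_gen {N : Submodule k (Module.End k M)} (hN : N * N ≤ N) :
    mem W (gen W N) = mem W N := by
  apply Set.Subset.antisymm
  · exact mem_mono W (gen_le W hN)
  · intro A hA
    exact ⟨hA.1, D_le_gen W hA⟩

theorem gen_mono' {N N' : Submodule k (Module.End k M)} (h : mem W N ⊆ mem W N') :
    gen W N ≤ gen W N' := by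
  apply D_mono
  exact iSup₂_le fun A hA => le_iSup₂ (f := fun (A : Subgroup (LinearMap.GeneralLinearGroup k M))
    (_ : A ∈ mem W N') => A) A (h hA)

theorem gen_gen {N : Submodule k (Module.End k M)} (hN : N * N ≤ N) :
    gen W (gen W N) = gen W N := by
  unfold gen
  rw [show mem W (D (⨆ A ∈ mem W N, A)) = mem W N from mem_gen W hN]

/-- nilpotent algebras generated by their members -/
def InM (N : Submodule k (Module.End k M)) : Prop := N * N ≤ N ∧ IsNilp N ∧ gen W N = N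

def IsMaxM (N : Submodule k (Module.End k M)) : Prop :=
  InM W N ∧ ∀ N', InM W N' → N ≤ N' → N' = N

theorem gen_inM {N : Submodule k (Module.End k M)} (hN : N * N ≤ N) (hNn : IsNilp N) :
    InM W (gen W N) :=
  ⟨gen_mul_le W N, hNn.mono (gen_le W hN), gen_gen W hN⟩

theorem exists_max [FiniteDimensional k M] {N0 : Submodule k (Module.End k M)} (h : InM W N0) :
    ∃ N, IsMaxM W N ∧ N0 ≤ N := by
  have hwf : WellFounded ((· > ·) : Submodule k (Module.End k M) → Submodule k (Module.End k M) → Prop) :=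
    wellFounded_gt
  obtain ⟨N, ⟨hN1, hN2⟩, hmax⟩ := hwf.has_min {N | InM W N ∧ N0 ≤ N} ⟨N0, h, le_rfl⟩
  refine ⟨N, ⟨hN1, ?_⟩, hN2⟩
  intro N' hN' hle
  by_contra hne
  exact hmax N' ⟨hN', hN2.trans hle⟩ (lt_of_le_of_ne hle (Ne.symm hne))

local notation "GLn" => LinearMap.GeneralLinearGroup k M
local notation "En" => Module.End k M

theorem conj_sub_one (y u : GLn) :
    (y : En) * ((u : En) - 1) * ((y⁻¹ : GLn) : En) = ((y * u * y⁻¹ : GLn) : En) - 1 := by
  have h1 : (y : En) * ((y⁻¹ : GLn) : En) = 1 := by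
    rw [← Units.val_mul, mul_inv_cancel, Units.val_one]
  rw [Units.val_mul, Units.val_mul, mul_sub, sub_mul, mul_one, h1]

theorem exists_normalizing [FiniteDimensional k M] (G : Subgroup GLn)
    (hWG : ∀ A ∈ W, A ≤ G) (hWconj : ∀ A ∈ W, ∀ g ∈ G, Cfsg.conjBy A g ∈ W)
    (N1 N2 : Submodule k En) (h1 : IsMaxM W N1) (h2 : IsMaxM W N2) (hne : N1 ≠ N2) :
    ∃ Y ∈ W, D Y ≤ N1 ∧ ¬ D Y ≤ N2 ∧ ∀ y ∈ Y, ∀ r ∈ gen W (N1 ⊓ N2),
      (y : En) * r * ((y⁻¹ : GLn) : En) ∈ gen W (N1 ⊓ N2) := by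
  have hN12 : (N1 ⊓ N2) * (N1 ⊓ N2) ≤ N1 ⊓ N2 :=
    le_inf ((mul_le_mul' inf_le_left inf_le_left).trans h1.1.1)
      ((mul_le_mul' inf_le_right inf_le_right).trans h2.1.1)
  have hRle : gen W (N1 ⊓ N2) ≤ N1 ⊓ N2 := gen_le W hN12
  have hmemR : mem W (gen W (N1 ⊓ N2)) = mem W (N1 ⊓ N2) := mem_gen W hN12
  have hwf : WellFounded ((· > ·) : Submodule k En → Submodule k En → Prop) := wellFounded_gt
  obtain ⟨T, ⟨hTT, hRT, hTN, hTmem⟩, hTmax⟩ := hwf.has_min
    {T | T * T ≤ T ∧ gen W (N1 ⊓ N2) ≤ T ∧ T ≤ N1 ∧ mem W T ⊆ mem W (N1 ⊓ N2)}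
    ⟨gen W (N1 ⊓ N2), gen_mul_le W _, le_rfl, hRle.trans inf_le_left, hmemR.le⟩
  have hTne : T ≠ N1 := by
    intro hT
    apply hne
    have h3 : mem W N1 ⊆ mem W N2 := by
      intro A hA
      have h5 := hTmem (hT ▸ hA)
      exact ⟨h5.1, h5.2.trans inf_le_right⟩
    have h4 : N1 ≤ N2 := by
      calc N1 = gen W N1 := h1.1.2.2.symm
        _ ≤ gen W N2 := gen_mono' W h3
        _ = N2 := h2.1.2.2
    exact (h1.2 N2 h2.1 h4).symm
  let T' : Submodule k En :=
    { carrier := {x | x ∈ N1 ∧ (∀ t ∈ T, x * t ∈ T) ∧ (∀ t ∈ T, t * x ∈ T)}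
      add_mem' := by
        rintro x y ⟨hx1, hx2, hx3⟩ ⟨hy1, hy2, hy3⟩
        refine ⟨N1.add_mem hx1 hy1, fun t ht => ?_, fun t ht => ?_⟩
        · rw [add_mul]; exact T.add_mem (hx2 t ht) (hy2 t ht)
        · rw [mul_add]; exact T.add_mem (hx3 t ht) (hy3 t ht)
      zero_mem' := ⟨N1.zero_mem, fun t _ => by rw [zero_mul]; exact T.zero_mem,
        fun t _ => by rw [mul_zero]; exact T.zero_mem⟩
      smul_mem' := by
        rintro c x ⟨hx1, hx2, hx3⟩
        refine ⟨N1.smul_mem c hx1, fun t ht => ?_, fun t ht => ?_⟩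
        · rw [smul_mul_assoc]; exact T.smul_mem c (hx2 t ht)
        · rw [mul_smul_comm]; exact T.smul_mem c (hx3 t ht) }
  have hTT' : T ≤ T' := fun x hx => ⟨hTN hx, fun t ht => hTT (Submodule.mul_mem_mul hx ht),
    fun t ht => hTT (Submodule.mul_mem_mul ht hx)⟩
  have hT'N : T' ≤ N1 := fun x hx => hx.1
  have hT'T' : T' * T' ≤ T' := by
    rw [Submodule.mul_le]
    rintro x ⟨hx1, hx2, hx3⟩ y ⟨hy1, hy2, hy3⟩
    refine ⟨h1.1.1 (Submodule.mul_mem_mul hx1 hy1), fun t ht => ?_, fun t ht => ?_⟩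
    · rw [mul_assoc]; exact hx2 _ (hy2 t ht)
    · rw [← mul_assoc]; exact hy3 _ (hx3 t ht)
  obtain ⟨x, hxN, hxT, hx2, hx3⟩ := exists_idealizing N1 T h1.1.1 h1.1.2.1 hTN hTne
  have hxT' : x ∈ T' := ⟨hxN, hx2, hx3⟩
  have hlt : T < T' := lt_of_le_of_ne hTT' (fun h => hxT (h ▸ hxT'))
  have hnot : ¬ mem W T' ⊆ mem W (N1 ⊓ N2) :=
    fun h => hTmax T' ⟨hT'T', hRT.trans hTT', hT'N, h⟩ hlt
  obtain ⟨Y, hYT', hYI⟩ := Set.not_subset.mp hnot
  have hmemT : mem W T = mem W (N1 ⊓ N2) :=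
    Set.Subset.antisymm hTmem (hmemR ▸ mem_mono W hRT)
  refine ⟨Y, hYT'.1, hYT'.2.trans hT'N,
    fun h => hYI ⟨hYT'.1, le_inf (hYT'.2.trans hT'N) h⟩, ?_⟩
  intro y hy
  have hyT : ∀ t ∈ T, (y : En) * t * ((y⁻¹ : GLn) : En) ∈ T := by
    intro t ht
    have hx : (y : En) - 1 ∈ T' := hYT'.2 (sub_one_mem_D hy)
    have hx' : ((y⁻¹ : GLn) : En) - 1 ∈ T' := hYT'.2 (sub_one_mem_D (Y.inv_mem hy))
    have h3 : (y : En) * t * ((y⁻¹ : GLn) : En) =
        t + ((y : En) - 1) * t + t * (((y⁻¹ : GLn) : En) - 1)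
          + ((y : En) - 1) * (t * (((y⁻¹ : GLn) : En) - 1)) := by
      noncomm_ring
    rw [h3]
    have h4 := hx.2.1 t ht
    have h5 := hx'.2.2 t ht
    exact T.add_mem (T.add_mem (T.add_mem ht h4) h5) (hx.2.1 _ h5)
  have hyG : y ∈ G := hWG Y hYT'.1 hy
  have hperm : ∀ A ∈ mem W (N1 ⊓ N2), Cfsg.conjBy A y ∈ mem W (N1 ⊓ N2) := by
    intro A hA
    rw [← hmemT] at hA ⊢
    refine ⟨hWconj A hA.1 y hyG, ?_⟩
    unfold D
    rw [Submodule.span_le]
    rintro z ⟨u, hu, rfl⟩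
    obtain ⟨a, ha, rfl⟩ := Subgroup.mem_map.mp hu
    show (((MulAut.conj y).toMonoidHom a : GLn) : En) - 1 ∈ T
    have h3 : (((MulAut.conj y).toMonoidHom a : GLn) : En) - 1 =
        (y : En) * ((a : En) - 1) * ((y⁻¹ : GLn) : En) := by
      rw [conj_sub_one]; rfl
    rw [h3]
    exact hyT _ (hA.2 (sub_one_mem_D ha))
  have hU : Cfsg.conjBy (⨆ A ∈ mem W (N1 ⊓ N2), A) y ≤ ⨆ A ∈ mem W (N1 ⊓ N2), A := by
    show Subgroup.map _ _ ≤ _
    rw [Subgroup.map_iSup]
    apply iSup_le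
    intro A
    rw [Subgroup.map_iSup]
    apply iSup_le
    intro hA
    exact le_iSup₂ (f := fun (A : Subgroup GLn) (_ : A ∈ mem W (N1 ⊓ N2)) => A) _ (hperm A hA)
  intro r hr
  unfold gen D at hr ⊢
  induction hr using Submodule.span_induction with
  | mem z hz =>
    obtain ⟨u, hu, rfl⟩ := hz
    rw [conj_sub_one]
    apply Submodule.subset_span
    exact ⟨y * u * y⁻¹, hU (Subgroup.mem_map.mpr ⟨u, hu, by simp [MulAut.conj_apply]⟩), rfl⟩
  | zero => simp
  | add a b _ _ ha hb => rw [mul_add, add_mul]; exact Submodule.add_mem _ ha hb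
  | smul c a _ ha => rw [mul_smul_comm, smul_mul_assoc]; exact Submodule.smul_mem _ c ha

/-- the units normalizing (in both directions) a submodule of endomorphisms -/
def Nrm (R : Submodule k En) : Subgroup GLn where
  carrier := {g | (∀ r ∈ R, (g : En) * r * ((g⁻¹ : GLn) : En) ∈ R) ∧
    (∀ r ∈ R, ((g⁻¹ : GLn) : En) * r * (g : En) ∈ R)}
  mul_mem' := by
    rintro g h ⟨hg, hg'⟩ ⟨hh, hh'⟩
    refine ⟨fun r hr => ?_, fun r hr => ?_⟩
    · have h1 : ((g * h : GLn) : En) * r * (((g * h)⁻¹ : GLn) : En) =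
          (g : En) * ((h : En) * r * ((h⁻¹ : GLn) : En)) * ((g⁻¹ : GLn) : En) := by
        rw [mul_inv_rev, Units.val_mul, Units.val_mul]; noncomm_ring
      rw [h1]
      exact hg _ (hh r hr)
    · have h1 : (((g * h)⁻¹ : GLn) : En) * r * ((g * h : GLn) : En) =
          ((h⁻¹ : GLn) : En) * (((g⁻¹ : GLn) : En) * r * (g : En)) * (h : En) := by
        rw [mul_inv_rev, Units.val_mul, Units.val_mul]; noncomm_ring
      rw [h1]
      exact hh' _ (hg' r hr)
  one_mem' := by simp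
  inv_mem' := by
    rintro g ⟨hg, hg'⟩
    refine ⟨hg', ?_⟩
    rw [inv_inv]
    exact hg

theorem step [FiniteDimensional k M] (G : Subgroup GLn)
    (hWG : ∀ A ∈ W, A ≤ G) (hWW : ∀ A ∈ W, ∀ B ∈ W, Cfsg.IsUnipotentOn (A ⊔ B))
    (hWconj : ∀ A ∈ W, ∀ g ∈ G, Cfsg.conjBy A g ∈ W)
    (N1 N2 : Submodule k En) (h1 : IsMaxM W N1) (h2 : IsMaxM W N2) (hne : N1 ≠ N2) :
    ∃ N1' N2', IsMaxM W N1' ∧ IsMaxM W N2' ∧ N1' ≠ N2' ∧
      Module.finrank k (gen W (N1 ⊓ N2)) < Module.finrank k (gen W (N1' ⊓ N2')) := by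
  obtain ⟨Y, hYW, hY1, hY2, hYR⟩ := exists_normalizing W G hWG hWconj N1 N2 h1 h2 hne
  obtain ⟨Z, hZW, hZ2, hZ1, hZR⟩ := exists_normalizing W G hWG hWconj N2 N1 h2 h1 (Ne.symm hne)
  rw [inf_comm N2 N1] at hZR
  set R := gen W (N1 ⊓ N2) with hR
  have hN12 : (N1 ⊓ N2) * (N1 ⊓ N2) ≤ N1 ⊓ N2 :=
    le_inf ((mul_le_mul' inf_le_left inf_le_left).trans h1.1.1)
      ((mul_le_mul' inf_le_right inf_le_right).trans h2.1.1)
  have hRle : R ≤ N1 ⊓ N2 := gen_le W hN12
  have hRn : IsNilp R := h1.1.2.1.mono (hRle.trans inf_le_left)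
  -- Q = Y ⊔ Z normalizes R
  have hYN : Y ≤ Nrm R := by
    intro y hy
    refine ⟨hYR y hy, ?_⟩
    have h3 := hYR y⁻¹ (Y.inv_mem hy)
    rwa [inv_inv] at h3
  have hZN : Z ≤ Nrm R := by
    intro z hz
    refine ⟨hZR z hz, ?_⟩
    have h3 := hZR z⁻¹ (Z.inv_mem hz)
    rwa [inv_inv] at h3
  have hQN : Y ⊔ Z ≤ Nrm R := sup_le hYN hZN
  have hQn : IsNilp (D (Y ⊔ Z)) := (unip_iff _).mp (hWW Y hYW Z hZW)
  have hTR : D (Y ⊔ Z) * R ≤ R ⊔ R * D (Y ⊔ Z) := by
    rw [Submodule.mul_le]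
    intro t ht r hr
    unfold D at ht
    induction ht using Submodule.span_induction with
    | mem z hz =>
      obtain ⟨q, hq, rfl⟩ := hz
      have h3 : ((q : En) - 1) * r = (q : En) * r * ((q⁻¹ : GLn) : En) * ((q : En) - 1)
          + ((q : En) * r * ((q⁻¹ : GLn) : En) - r) := by
        have h4 : ((q⁻¹ : GLn) : En) * (q : En) = 1 := by
          rw [← Units.val_mul, inv_mul_cancel, Units.val_one]
        rw [mul_sub, mul_one, mul_assoc ((q : En) * r), h4, mul_one]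
        noncomm_ring
      rw [h3]
      have h5 := (hQN hq).1 r hr
      exact Submodule.add_mem _
        (Submodule.mem_sup_right (Submodule.mul_mem_mul h5 (sub_one_mem_D hq)))
        (Submodule.mem_sup_left (R.sub_mem h5 hr))
    | zero => rw [zero_mul]; exact Submodule.zero_mem _
    | add a b _ _ ha hb => rw [add_mul]; exact Submodule.add_mem _ ha hb
    | smul c a _ ha => rw [smul_mul_assoc]; exact Submodule.smul_mem _ c ha
  obtain ⟨S, hSS, hSn, hRS, hQS⟩ := prod_nilp R (D (Y ⊔ Z)) (gen_mul_le W _) (D_mul_le _) hRn hQn hTR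
  obtain ⟨N3, hN3, hle3⟩ := exists_max W (gen_inM W hSS hSn)
  have hmemS : mem W S ⊆ mem W N3 := by
    rw [← mem_gen W hSS]
    exact mem_mono W hle3
  have hIS : mem W (N1 ⊓ N2) ⊆ mem W N3 := by
    intro A hA
    apply hmemS
    exact ⟨hA.1, (D_le_gen W hA).trans hRS⟩
  have hY3 : Y ∈ mem W N3 := hmemS ⟨hYW, (D_mono le_sup_left).trans hQS⟩
  have hZ3 : Z ∈ mem W N3 := hmemS ⟨hZW, (D_mono le_sup_right).trans hQS⟩
  by_cases h31 : N3 = N1
  · -- then N3 ≠ N2
    have h32 : N3 ≠ N2 := fun h => hne (h31.symm.trans h)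
    refine ⟨N3, N2, hN3, h2, h32, ?_⟩
    apply Submodule.finrank_lt_finrank_of_lt
    have hle : R ≤ gen W (N3 ⊓ N2) := by
      apply gen_mono'
      intro A hA
      exact ⟨hA.1, le_inf (hIS hA).2 (hA.2.trans inf_le_right)⟩
    refine lt_of_le_of_ne hle ?_
    intro heq
    apply hZ1
    have h5 : D Z ≤ gen W (N3 ⊓ N2) := D_le_gen W ⟨hZW, le_inf hZ3.2 hZ2⟩
    rw [← heq] at h5
    exact h5.trans (hRle.trans inf_le_left)
  · refine ⟨N3, N1, hN3, h1, h31, ?_⟩
    apply Submodule.finrank_lt_finrank_of_lt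
    have hle : R ≤ gen W (N3 ⊓ N1) := by
      apply gen_mono'
      intro A hA
      exact ⟨hA.1, le_inf (hIS hA).2 (hA.2.trans inf_le_left)⟩
    refine lt_of_le_of_ne hle ?_
    intro heq
    apply hY2
    have h5 : D Y ≤ gen W (N3 ⊓ N1) := D_le_gen W ⟨hYW, le_inf hY3.2 hY1⟩
    rw [← heq] at h5
    exact h5.trans (hRle.trans inf_le_right)

theorem main [FiniteDimensional k M] (G : Subgroup GLn)
    (hWG : ∀ A ∈ W, A ≤ G) (hWW : ∀ A ∈ W, ∀ B ∈ W, Cfsg.IsUnipotentOn (A ⊔ B))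
    (hWconj : ∀ A ∈ W, ∀ g ∈ G, Cfsg.conjBy A g ∈ W) : IsNilp (D (⨆ A ∈ W, A)) := by
  by_cases hpair : ∃ N1 N2, IsMaxM W N1 ∧ IsMaxM W N2 ∧ N1 ≠ N2
  · exfalso
    have hall : ∀ n : ℕ, ∃ N1 N2, IsMaxM W N1 ∧ IsMaxM W N2 ∧ N1 ≠ N2 ∧
        n ≤ Module.finrank k (gen W (N1 ⊓ N2)) := by
      intro n
      induction n with
      | zero =>
        obtain ⟨N1, N2, h1, h2, hne⟩ := hpair
        exact ⟨N1, N2, h1, h2, hne, Nat.zero_le _⟩
      | succ n ih =>
        obtain ⟨N1, N2, h1, h2, hne, hn⟩ := ih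
        obtain ⟨N1', N2', h1', h2', hne', hlt⟩ := step W G hWG hWW hWconj N1 N2 h1 h2 hne
        exact ⟨N1', N2', h1', h2', hne', by omega⟩
    obtain ⟨N1, N2, -, -, -, hn⟩ := hall (Module.finrank k En + 1)
    have h3 := Submodule.finrank_le (gen W (N1 ⊓ N2))
    omega
  · push Not at hpair
    have hbot : InM W (gen W (⊥ : Submodule k En)) :=
      gen_inM W (by rw [Submodule.bot_mul]) ⟨1, by rw [pow_one]⟩
    obtain ⟨Ns, hNs, -⟩ := exists_max W hbot
    have hall : ∀ A ∈ W, D A ≤ Ns := by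
      intro A hA
      have hAn : IsNilp (D A) := by
        have h3 := (unip_iff _).mp (hWW A hA A hA)
        rwa [sup_idem] at h3
      obtain ⟨NA, hNA, hle⟩ := exists_max W (gen_inM W (D_mul_le A) hAn)
      have h4 : NA = Ns := by
        by_contra h5
        exact h5 (hpair NA Ns hNA hNs)
      rw [← h4]
      exact (D_le_gen W ⟨hA, le_rfl⟩).trans hle
    refine hNs.1.2.1.mono ?_
    refine (D_mono ?_).trans (D_Gof_le Ns hNs.1.1)
    exact iSup₂_le fun A hA => le_Gof hNs.1.1 (hall A hA)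

theorem result {k : Type*} [Field k] {M : Type*} [AddCommGroup M] [Module k M] [FiniteDimensional k M]
    {G : Subgroup (LinearMap.GeneralLinearGroup k M)} {W : Set (Subgroup (LinearMap.GeneralLinearGroup k M))} (hWG : ∀ A ∈ W, A ≤ G)
    (hWW : ∀ A ∈ W, ∀ B ∈ W, Cfsg.IsUnipotentOn (A ⊔ B)) (hWconj : ∀ A ∈ W, ∀ g ∈ G, Cfsg.conjBy A g ∈ W) :
    Cfsg.IsUnipotentOn (⨆ A ∈ W, A) ∧ ∀ g ∈ G, Cfsg.conjBy (⨆ A ∈ W, A) g = ⨆ A ∈ W, A := by
  refine ⟨(unip_iff _).mpr (main W G hWG hWW hWconj), ?_⟩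
  intro g hg
  have hle : ∀ h ∈ G, Cfsg.conjBy (⨆ A ∈ W, A) h ≤ ⨆ A ∈ W, A := by
    intro h hh
    show Subgroup.map _ _ ≤ _
    rw [Subgroup.map_iSup]
    apply iSup_le
    intro A
    rw [Subgroup.map_iSup]
    apply iSup_le
    intro hA
    exact le_iSup₂ (f := fun (A : Subgroup (LinearMap.GeneralLinearGroup k M)) (_ : A ∈ W) => A) _
      (hWconj A hA h hh)
  apply le_antisymm (hle g hg)
  intro x hx
  have h1 := hle g⁻¹ (G.inv_mem hg) (Subgroup.mem_map.mpr ⟨x, hx, rfl⟩)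
  refine Subgroup.mem_map.mpr ⟨_, h1, ?_⟩
  simp only [MulEquiv.coe_toMonoidHom, MulAut.conj_apply, inv_inv]
  group

end Cfsg.Agent.S5061
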