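import Cfsg.Statements.S5067
-- import your own Cfsg.Agent.* helpers here

set_option autoImplicit false
open Cfsg
open scoped commutatorElement

namespace Cfsg.Agent.S5067

/-- In a group in which all commutators are central, the normal closure of a commutative subgroup is commutative. -/
theorem commute_normalClosure {Q : Type*} [Group Q] (hQ : ∀ a b c : Q, Commute ⁅a, b⁆ c)
    (E : Subgroup Q) (hE : ∀ a ∈ E, ∀ b ∈ E, Commute a b) :
    ∀ x ∈ Subgroup.normalClosure (E : Set Q), ∀ y ∈ Subgroup.normalClosure (E : Set Q), Commute x y := by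
  intro x hx y hy
  unfold Subgroup.normalClosure at hx hy
  induction hx, hy using Subgroup.closure_induction₂ with
  | mem x y hx hy =>
    obtain ⟨a, ha, hax⟩ := Group.mem_conjugatesOfSet_iff.mp hx
    obtain ⟨b, hb, hby⟩ := Group.mem_conjugatesOfSet_iff.mp hy
    obtain ⟨g, rfl⟩ := isConj_iff.mp hax
    obtain ⟨h, rfl⟩ := isConj_iff.mp hby
    have h1 : g * a * g⁻¹ = ⁅g, a⁆ * a := by simp [commutatorElement_def]
    have h2 : h * b * h⁻¹ = ⁅h, b⁆ * b := by simp [commutatorElement_def]
    rw [h1, h2]
    exact Commute.mul_left (hQ g a _) (Commute.mul_right (hQ h b a).symm (hE a ha b hb))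
  | one_left x hx => exact Commute.one_left x
  | one_right x hx => exact Commute.one_right x
  | mul_left x y z hx hy hz h1 h2 => exact Commute.mul_left h1 h2
  | mul_right y z x hy hz hx h1 h2 => exact Commute.mul_right h1 h2
  | inv_left x y hx hy h => exact Commute.inv_left h
  | inv_right x y hx hy h => exact Commute.inv_right h

/-- The derived subgroup of the normal closure of a commutative subgroup lies in the third term of the lower central series. -/
theorem commutator_normalClosure_le {P : Type*} [Group P] (E : Subgroup P) (hE : IsMulCommutative E) :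
    ⁅Subgroup.normalClosure (E : Set P), Subgroup.normalClosure (E : Set P)⁆ ≤
      (⊤ : Subgroup P).lowerCentralSeries 2 := by
  have hKn : ((⊤ : Subgroup P).lowerCentralSeries 2).Normal := inferInstance
  have hπ : Function.Surjective (QuotientGroup.mk' ((⊤ : Subgroup P).lowerCentralSeries 2)) :=
    QuotientGroup.mk'_surjective _
  have hcentral : ∀ a b c : P ⧸ (⊤ : Subgroup P).lowerCentralSeries 2, Commute ⁅a, b⁆ c := by
    intro a b c
    obtain ⟨a, rfl⟩ := hπ a
    obtain ⟨b, rfl⟩ := hπ b
    obtain ⟨c, rfl⟩ := hπ c
    rw [← commutatorElement_eq_one_iff_commute, ← map_commutatorElement, ← map_commutatorElement]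
    rw [← MonoidHom.mem_ker, QuotientGroup.ker_mk']
    have h1 : ⁅a, b⁆ ∈ (⊤ : Subgroup P).lowerCentralSeries 1 :=
      Subgroup.commutator_mem_commutator (Subgroup.mem_top a) (Subgroup.mem_top b)
    exact Subgroup.commutator_mem_commutator h1 (Subgroup.mem_top c)
  have hcomm := commute_normalClosure hcentral
    (E.map (QuotientGroup.mk' ((⊤ : Subgroup P).lowerCentralSeries 2))) (by
      rintro _ ⟨a, ha, rfl⟩ _ ⟨b, hb, rfl⟩
      have hab : a * b = b * a := by
        have := hE.is_comm.comm ⟨a, ha⟩ ⟨b, hb⟩
        exact congrArg Subtype.val this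
      show _ * _ = _ * _
      rw [← map_mul, ← map_mul, hab])
  rw [← QuotientGroup.ker_mk' ((⊤ : Subgroup P).lowerCentralSeries 2), ← Subgroup.map_eq_bot_iff,
    Subgroup.map_commutator, Subgroup.map_normalClosure _ _ hπ, Subgroup.commutator_eq_bot_iff_le_centralizer]
  intro x hx
  rw [Subgroup.mem_centralizer_iff]
  intro y hy
  rw [← Subgroup.coe_map] at hx hy
  exact (hcomm y hy x hx).eq

/-- The lower central series of the normal closure of a commutative subgroup, shifted by one. -/
theorem lcs_normalClosure_le {P : Type*} [Group P] (E : Subgroup P) (hE : IsMulCommutative E) (k : ℕ) :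
    (Subgroup.normalClosure (E : Set P)).lowerCentralSeries (k + 1) ≤ (⊤ : Subgroup P).lowerCentralSeries (k + 2) := by
  induction k with
  | zero => exact commutator_normalClosure_le E hE
  | succ k ih =>
    rw [Subgroup.lowerCentralSeries_succ, Subgroup.lowerCentralSeries_succ _ (k + 1 + 1)]
    exact Subgroup.commutator_mono ih le_top

theorem main {P : Type*} [Group P] [Group.IsNilpotent P]
    (hna : ¬ IsMulCommutative P) {E : Subgroup P} (hE : IsMulCommutative ↥E) :
    Group.nilpotencyClass ↥(Subgroup.normalClosure (E : Set P)) < Group.nilpotencyClass P := by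
  have hc : 2 ≤ Group.nilpotencyClass P := by
    by_contra h
    push Not at h
    have h1 : Group.nilpotencyClass P ≤ 1 := by omega
    rw [← Subgroup.lowerCentralSeries_eq_bot_iff_nilpotencyClass_le] at h1
    apply hna
    refine ⟨⟨fun a b => ?_⟩⟩
    have : ⁅a, b⁆ ∈ (⊤ : Subgroup P).lowerCentralSeries 1 :=
      Subgroup.commutator_mem_commutator (Subgroup.mem_top a) (Subgroup.mem_top b)
    rw [h1, Subgroup.mem_bot] at this
    exact commutatorElement_eq_one_iff_mul_comm.mp this
  obtain ⟨c, hc'⟩ : ∃ c, Group.nilpotencyClass P = c + 2 := ⟨Group.nilpotencyClass P - 2, by omega⟩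
  have h1 := lcs_normalClosure_le E hE c
  rw [← hc', Subgroup.lowerCentralSeries_nilpotencyClass, le_bot_iff, ← Subgroup.top_subtype_lowerCentralSeries,
    Subgroup.map_eq_bot_iff_of_injective _ (Subgroup.subtype_injective _),
    Subgroup.lowerCentralSeries_eq_bot_iff_nilpotencyClass_le] at h1
  omega

/-- Let P be a non-abelian nilpotent p-group (every element of p-power order; P possibly infinite) generated by two abelian subgroups E and F. Then the normal closure of E in P, and likewise that of F, has nilpotency class strictly smaller than that of P. -/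
theorem result {P : Type*} [Group P] {p : ℕ} [Fact p.Prime] (hP : IsPGroup p P) [Group.IsNilpotent P]
    (hna : ¬ IsMulCommutative P) {E F : Subgroup P} (hE : IsMulCommutative ↥E) (hF : IsMulCommutative ↥F) (hgen : E ⊔ F = ⊤) :
    Group.nilpotencyClass ↥(Subgroup.normalClosure (E : Set P)) < Group.nilpotencyClass P ∧
    Group.nilpotencyClass ↥(Subgroup.normalClosure (F : Set P)) < Group.nilpotencyClass P := by
  exact ⟨main hna hE, main hna hF⟩

end Cfsg.Agent.S5067
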