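import Cfsg.Statements.S5070
import Cfsg.Agent.Lib.Helper83.TransvSL2
import Cfsg.Agent.Lib.Helper83.Pullback
import Cfsg.Agent.S0765
import Cfsg.Agent.S0271
import Cfsg.Agent.S5032
import Cfsg.Agent.S5043

set_option autoImplicit false
open Matrix
open Cfsg

namespace Cfsg.Agent.S5070

open Cfsg.Agent.Lib.Helper83

section Sp

variable {F : Type*} [Field F] {m : ℕ}

/-- The embedding of the symplectic group into the special linear group. -/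
def toSL : ↥(Matrix.symplecticGroup (Fin m) F) →* SpecialLinearGroup (Fin m ⊕ Fin m) F where
  toFun g := ⟨g.1, SymplecticGroup.det_eq_one g.2⟩
  map_one' := rfl
  map_mul' _ _ := rfl

lemma toSL_injective : Function.Injective (toSL (F := F) (m := m)) := by
  intro g h hgh
  apply Subtype.ext
  exact congrArg (fun s : SpecialLinearGroup (Fin m ⊕ Fin m) F => s.1) hgh

lemma Jdot (p : Fin m ⊕ Fin m → F) : (Matrix.J (Fin m) F *ᵥ p) ⬝ᵥ p = 0 := by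
  rw [dotProduct_comm]
  exact Cfsg.Agent.S0765.B_self p

/-- The group of symplectic transvections with centre `p`. -/
def TSp (p : Fin m ⊕ Fin m → F) : Subgroup ↥(Matrix.symplecticGroup (Fin m) F) :=
  Subgroup.closure {g : ↥(Matrix.symplecticGroup (Fin m) F) | ∃ c : F, ∀ v : Fin m ⊕ Fin m → F,
    (g : Matrix (Fin m ⊕ Fin m) (Fin m ⊕ Fin m) F) *ᵥ v =
      v + (c * (v ⬝ᵥ (Matrix.J (Fin m) F *ᵥ p))) • p}

lemma coe_eq_of_forall {g : ↥(Matrix.symplecticGroup (Fin m) F)} {p : Fin m ⊕ Fin m → F} {c : F}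
    (h : ∀ v : Fin m ⊕ Fin m → F, (g : Matrix (Fin m ⊕ Fin m) (Fin m ⊕ Fin m) F) *ᵥ v =
      v + (c * (v ⬝ᵥ (Matrix.J (Fin m) F *ᵥ p))) • p) :
    (g : Matrix (Fin m ⊕ Fin m) (Fin m ⊕ Fin m) F) =
      1 + c • vecMulVec p (Matrix.J (Fin m) F *ᵥ p) := by
  rw [Matrix.ext_iff_mulVec]
  intro v
  rw [h v]
  exact (Cfsg.Agent.S0765.T_mulVec p c v).symm

lemma map_TSp (p : Fin m ⊕ Fin m → F) :
    (TSp p).map toSL = tvSub p (Matrix.J (Fin m) F *ᵥ p) (Jdot p) := by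
  unfold TSp
  rw [MonoidHom.map_closure]
  have hset : (toSL (F := F) (m := m)) '' {g : ↥(Matrix.symplecticGroup (Fin m) F) |
      ∃ c : F, ∀ v : Fin m ⊕ Fin m → F,
      (g : Matrix (Fin m ⊕ Fin m) (Fin m ⊕ Fin m) F) *ᵥ v =
        v + (c * (v ⬝ᵥ (Matrix.J (Fin m) F *ᵥ p))) • p} =
      ((tvSub p (Matrix.J (Fin m) F *ᵥ p) (Jdot p) :
        Subgroup (SpecialLinearGroup (Fin m ⊕ Fin m) F)) :
        Set (SpecialLinearGroup (Fin m ⊕ Fin m) F)) := by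
    ext s
    constructor
    · rintro ⟨g, ⟨c, hc⟩, rfl⟩
      exact ⟨c, Subtype.ext (coe_eq_of_forall hc)⟩
    · rintro ⟨c, rfl⟩
      refine ⟨Cfsg.Agent.S0765.Tg p c, ⟨c, fun v => ?_⟩, Subtype.ext rfl⟩
      exact Cfsg.Agent.S0765.T_mulVec p c v
  rw [hset, Subgroup.closure_eq]

lemma J_mulVec_eq (x : Fin m ⊕ Fin m → F) :
    Matrix.J (Fin m) F *ᵥ x = x ᵥ* (-Matrix.J (Fin m) F) := by
  rw [← Matrix.J_transpose, vecMul_transpose]

lemma conj_vec (g : ↥(Matrix.symplecticGroup (Fin m) F)) (p : Fin m ⊕ Fin m → F) :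
    (Matrix.J (Fin m) F *ᵥ p) ᵥ* (((toSL g)⁻¹ : SpecialLinearGroup (Fin m ⊕ Fin m) F) :
      Matrix (Fin m ⊕ Fin m) (Fin m ⊕ Fin m) F) =
      Matrix.J (Fin m) F *ᵥ ((g : Matrix (Fin m ⊕ Fin m) (Fin m ⊕ Fin m) F) *ᵥ p) := by
  have h1 : (((toSL g)⁻¹ : SpecialLinearGroup (Fin m ⊕ Fin m) F) :
      Matrix (Fin m ⊕ Fin m) (Fin m ⊕ Fin m) F) =
      -Matrix.J (Fin m) F * (g : Matrix (Fin m ⊕ Fin m) (Fin m ⊕ Fin m) F)ᵀ * Matrix.J (Fin m) F := by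
    rw [← map_inv]
    exact SymplecticGroup.coe_inv g
  rw [h1, J_mulVec_eq p, J_mulVec_eq, vecMul_vecMul, ← vecMul_transpose
    (g : Matrix (Fin m ⊕ Fin m) (Fin m ⊕ Fin m) F) p, vecMul_vecMul]
  congr 1
  have hJ := Matrix.J_squared (Fin m) F
  calc -Matrix.J (Fin m) F * (-Matrix.J (Fin m) F * (g : Matrix (Fin m ⊕ Fin m) (Fin m ⊕ Fin m) F)ᵀ *
        Matrix.J (Fin m) F)
      = (Matrix.J (Fin m) F * Matrix.J (Fin m) F) *
        ((g : Matrix (Fin m ⊕ Fin m) (Fin m ⊕ Fin m) F)ᵀ * Matrix.J (Fin m) F) := by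
        simp only [Matrix.neg_mul, Matrix.mul_neg, neg_neg, Matrix.mul_assoc]
    _ = (g : Matrix (Fin m ⊕ Fin m) (Fin m ⊕ Fin m) F)ᵀ * -Matrix.J (Fin m) F := by
        rw [hJ]; simp

lemma conjBy_TSp (g : ↥(Matrix.symplecticGroup (Fin m) F)) (p : Fin m ⊕ Fin m → F) :
    Cfsg.conjBy (TSp p) g = TSp ((g : Matrix (Fin m ⊕ Fin m) (Fin m ⊕ Fin m) F) *ᵥ p) := by
  apply Subgroup.map_injective (toSL_injective (F := F) (m := m))
  rw [Cfsg.Agent.S5035.map_conjBy, map_TSp, map_TSp, conjBy_tvSub]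
  apply tvSub_congr
  rw [conj_vec]
  rfl

/-- The set of all groups of symplectic transvections. -/
def SS (F : Type*) [Field F] (m : ℕ) : Set (Subgroup ↥(Matrix.symplecticGroup (Fin m) F)) :=
  {A | ∃ p : Fin m ⊕ Fin m → F, p ≠ 0 ∧ A = TSp p}

lemma dot_left (p q : Fin m ⊕ Fin m → F) :
    (Matrix.J (Fin m) F *ᵥ p) ⬝ᵥ q = Cfsg.Agent.S0765.B q p := by
  rw [dotProduct_comm]; rfl

lemma J_mulVec_ne_zero {p : Fin m ⊕ Fin m → F} (hp : p ≠ 0) : Matrix.J (Fin m) F *ᵥ p ≠ 0 := by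
  intro h0
  obtain ⟨y, hy⟩ := Cfsg.Agent.S0765.B_nondeg p hp
  apply hy
  rw [Cfsg.Agent.S0765.B_skew y p]
  unfold Cfsg.Agent.S0765.B
  rw [h0, dotProduct_zero, neg_zero]

lemma comm_TSp {p q : Fin m ⊕ Fin m → F} (h : Cfsg.Agent.S0765.B q p = 0) :
    ⁅TSp p, TSp q⁆ = ⊥ := by
  apply commutator_eq_bot_of_map (toSL_injective (F := F) (m := m))
  rw [map_TSp, map_TSp]
  apply Cfsg.Agent.S5043.comm_of_dot_zero
  · rw [dot_left]; exact h
  · rw [dot_left, Cfsg.Agent.S0765.B_skew, h, neg_zero]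

lemma rankOne_TSp {p q : Fin m ⊕ Fin m → F} (h : Cfsg.Agent.S0765.B q p ≠ 0) :
    Cfsg.IsRankOnePair (TSp p) (TSp q) ∧ Cfsg.IsPSL2PairOver F (TSp p) (TSp q) := by
  have key := tvSub_rankOne p (Matrix.J (Fin m) F *ᵥ p) q (Matrix.J (Fin m) F *ᵥ q) (Jdot p) (Jdot q)
    (by rw [dot_left]; exact h)
    (by rw [dot_left, Cfsg.Agent.S0765.B_skew]; exact neg_ne_zero.mpr h)
  rw [← map_TSp, ← map_TSp] at key
  exact ⟨rankOnePair_of_map toSL_injective key.1, psl2Pair_of_map toSL_injective F key.2⟩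

lemma TSp_isMulCommutative (p : Fin m ⊕ Fin m → F) : IsMulCommutative (TSp p) := by
  rw [← Subgroup.commutator_self_eq_bot_iff]
  exact comm_TSp (Cfsg.Agent.S0765.B_self p)

lemma TSp_ne_bot {p : Fin m ⊕ Fin m → F} (hp : p ≠ 0) : TSp p ≠ ⊥ := by
  intro h
  have h1 := map_TSp p
  rw [h, Subgroup.map_bot] at h1
  exact tvSub_ne_bot (Jdot p) hp (J_mulVec_ne_zero hp) h1.symm

lemma generates_SS : (⨆ A ∈ SS F m, A) = ⊤ := by
  rw [eq_top_iff, ← Cfsg.Agent.S0765.result (F := F) m, Subgroup.closure_le]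
  rintro g ⟨w, c, hg⟩
  by_cases hw : w = 0
  · have : g = 1 := by
      apply Subtype.ext
      rw [hg, hw]
      simp [Cfsg.sympTransvection]
    rw [this]
    exact Subgroup.one_mem _
  · have hmem : g ∈ TSp w := by
      apply Subgroup.subset_closure
      refine ⟨c, fun v => ?_⟩
      rw [hg]
      exact Cfsg.Agent.S0765.T_mulVec w c v
    exact Subgroup.mem_iSup_of_mem _ (Subgroup.mem_iSup_of_mem ⟨w, hw, rfl⟩ hmem)

lemma mulVec_ne_zero_sp (g : ↥(Matrix.symplecticGroup (Fin m) F)) {p : Fin m ⊕ Fin m → F}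
    (hp : p ≠ 0) : (g : Matrix (Fin m ⊕ Fin m) (Fin m ⊕ Fin m) F) *ᵥ p ≠ 0 :=
  mulVec_ne_zero (toSL g) hp

lemma isRootSubgroupSet_SS : Cfsg.IsRootSubgroupSet (SS F m) where
  commutative := by
    rintro _ ⟨p, _, rfl⟩
    exact TSp_isMulCommutative p
  ne_bot := by
    rintro _ ⟨p, hp, rfl⟩
    exact TSp_ne_bot hp
  generates := generates_SS
  conj_mem := by
    rintro _ ⟨p, hp, rfl⟩ g
    rw [conjBy_TSp]
    exact ⟨_, mulVec_ne_zero_sp g hp, rfl⟩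
  pair := by
    rintro _ ⟨p, hp, rfl⟩ _ ⟨q, hq, rfl⟩
    by_cases h : Cfsg.Agent.S0765.B q p = 0
    · left; exact comm_TSp h
    · right; left; exact (rankOne_TSp h).1

lemma exists_ne_zero (hm : 0 < m) : ∃ p : Fin m ⊕ Fin m → F, p ≠ 0 := by
  refine ⟨Pi.single (Sum.inl ⟨0, hm⟩) 1, ?_⟩
  intro h0
  have := congrFun h0 (Sum.inl ⟨0, hm⟩)
  simp at this

lemma conjClass_SS (hm : 0 < m) : Cfsg.IsConjClassOfSubgroups (SS F m) := by
  obtain ⟨p, hp⟩ := exists_ne_zero (F := F) hm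
  refine ⟨⟨_, p, hp, rfl⟩, ?_⟩
  rintro _ ⟨v, hv, rfl⟩ _ ⟨w, hw, rfl⟩
  obtain ⟨g, hg⟩ := Cfsg.Agent.S0271.result m v w hv hw
  refine ⟨g, ?_⟩
  rw [conjBy_TSp]
  change TSp w = TSp ((g : Matrix (Fin m ⊕ Fin m) (Fin m ⊕ Fin m) F).mulVec v)
  rw [hg]

lemma degenerate_SS : Cfsg.IsDegenerateRootSet (SS F m) := by
  rintro _ ⟨p, hp, rfl⟩ _ ⟨q, hq, rfl⟩ hcc
  by_cases h : Cfsg.Agent.S0765.B q p = 0
  · have h1 := hcc.1
    rw [comm_TSp h] at h1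
    obtain ⟨r, hr, hbot⟩ := h1
    exact TSp_ne_bot hr hbot.symm
  · exact Cfsg.Agent.S5043.not_rankOne_of_commCase hcc (rankOne_TSp h).1

lemma kRoot_SS : Cfsg.IsKRootSubgroupSet F (SS F m) := by
  refine ⟨isRootSubgroupSet_SS, ?_⟩
  rintro _ ⟨p, hp, rfl⟩ _ ⟨q, hq, rfl⟩ hr
  by_cases h : Cfsg.Agent.S0765.B q p = 0
  · exact absurd hr (Cfsg.Agent.S5043.not_rankOne_of_comm (comm_TSp h))
  · exact (rankOne_TSp h).2

lemma connected_SS (hm : 0 < m) : Cfsg.IsConnectedFamily (Cfsg.FAdj (SS F m)) (SS F m) := by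
  obtain ⟨p, hp⟩ := exists_ne_zero (F := F) hm
  obtain ⟨q, hq⟩ := Cfsg.Agent.S0765.B_nondeg p hp
  have hq0 : q ≠ 0 := by
    rintro rfl
    exact hq (Cfsg.Agent.S0765.B_zero_right p)
  have hr := (rankOne_TSp hq).1
  have hA : TSp q ∈ SS F m := ⟨q, hq0, rfl⟩
  have hB : TSp p ∈ SS F m := ⟨p, hp, rfl⟩
  rw [Cfsg.Agent.S5032.result isRootSubgroupSet_SS ⟨_, hA, _, hB, hr.ne⟩]
  refine ⟨conjClass_SS hm, _, hA, ?_⟩
  intro hiso
  exact (hiso.2 _).1 ⟨hA, hB, hr⟩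

end Sp

/-- Let F be a field, m a natural number and V = F^{2(m+1)} with the standard non-degenerate alternating form f(u, v) = uᵀ J v. For a non-zero vector p let T(p) be the group of symplectic transvections v ↦ v + c f(v, p) p, c ∈ F. Then the subgroups T(p), p ≠ 0, generate the symplectic group Sp_{2(m+1)}(F) and form a degenerate class of abstract F-root subgroups of it (any two of them either commute elementwise or are the unipotent subgroups of a rank one group that is an image of SL₂(F) with central kernel, never the commutator case), and their graph of rank one pairs is connected. -/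
theorem result (F : Type*) [Field F] (m : ℕ) :
    Cfsg.IsRootSubgroupClass {A : Subgroup ↥(Matrix.symplecticGroup (Fin (m + 1)) F) | ∃ p : Fin (m + 1) ⊕ Fin (m + 1) → F, p ≠ 0 ∧
        A = Subgroup.closure {g : ↥(Matrix.symplecticGroup (Fin (m + 1)) F) | ∃ c : F, ∀ v : Fin (m + 1) ⊕ Fin (m + 1) → F,
          (g : Matrix (Fin (m + 1) ⊕ Fin (m + 1)) (Fin (m + 1) ⊕ Fin (m + 1)) F) *ᵥ v =
            v + (c * (v ⬝ᵥ (Matrix.J (Fin (m + 1)) F *ᵥ p))) • p}} ∧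
    Cfsg.IsDegenerateRootSet {A : Subgroup ↥(Matrix.symplecticGroup (Fin (m + 1)) F) | ∃ p : Fin (m + 1) ⊕ Fin (m + 1) → F, p ≠ 0 ∧
        A = Subgroup.closure {g : ↥(Matrix.symplecticGroup (Fin (m + 1)) F) | ∃ c : F, ∀ v : Fin (m + 1) ⊕ Fin (m + 1) → F,
          (g : Matrix (Fin (m + 1) ⊕ Fin (m + 1)) (Fin (m + 1) ⊕ Fin (m + 1)) F) *ᵥ v =
            v + (c * (v ⬝ᵥ (Matrix.J (Fin (m + 1)) F *ᵥ p))) • p}} ∧
    Cfsg.IsKRootSubgroupSet F {A : Subgroup ↥(Matrix.symplecticGroup (Fin (m + 1)) F) | ∃ p : Fin (m + 1) ⊕ Fin (m + 1) → F, p ≠ 0 ∧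
        A = Subgroup.closure {g : ↥(Matrix.symplecticGroup (Fin (m + 1)) F) | ∃ c : F, ∀ v : Fin (m + 1) ⊕ Fin (m + 1) → F,
          (g : Matrix (Fin (m + 1) ⊕ Fin (m + 1)) (Fin (m + 1) ⊕ Fin (m + 1)) F) *ᵥ v =
            v + (c * (v ⬝ᵥ (Matrix.J (Fin (m + 1)) F *ᵥ p))) • p}} ∧
    Cfsg.IsConnectedFamily (Cfsg.FAdj {A : Subgroup ↥(Matrix.symplecticGroup (Fin (m + 1)) F) | ∃ p : Fin (m + 1) ⊕ Fin (m + 1) → F, p ≠ 0 ∧
        A = Subgroup.closure {g : ↥(Matrix.symplecticGroup (Fin (m + 1)) F) | ∃ c : F, ∀ v : Fin (m + 1) ⊕ Fin (m + 1) → F,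
          (g : Matrix (Fin (m + 1) ⊕ Fin (m + 1)) (Fin (m + 1) ⊕ Fin (m + 1)) F) *ᵥ v =
            v + (c * (v ⬝ᵥ (Matrix.J (Fin (m + 1)) F *ᵥ p))) • p}})
      {A : Subgroup ↥(Matrix.symplecticGroup (Fin (m + 1)) F) | ∃ p : Fin (m + 1) ⊕ Fin (m + 1) → F, p ≠ 0 ∧
        A = Subgroup.closure {g : ↥(Matrix.symplecticGroup (Fin (m + 1)) F) | ∃ c : F, ∀ v : Fin (m + 1) ⊕ Fin (m + 1) → F,
          (g : Matrix (Fin (m + 1) ⊕ Fin (m + 1)) (Fin (m + 1) ⊕ Fin (m + 1)) F) *ᵥ v =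
            v + (c * (v ⬝ᵥ (Matrix.J (Fin (m + 1)) F *ᵥ p))) • p}} :=
  ⟨⟨isRootSubgroupSet_SS (F := F) (m := m + 1), conjClass_SS (Nat.succ_pos m)⟩,
    degenerate_SS (F := F) (m := m + 1), kRoot_SS (F := F) (m := m + 1),
    connected_SS (F := F) (Nat.succ_pos m)⟩

end Cfsg.Agent.S5070
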