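import Cfsg.Statements.S5071
import Cfsg.Agent.Lib.Helper83.UnitaryTransv
import Cfsg.Agent.S5032
import Cfsg.Agent.S5043

set_option autoImplicit false
open Matrix
open Cfsg

namespace Cfsg.Agent.S5071

open Cfsg.Agent.Lib.Helper83 Cfsg.Agent.Lib.Helper5

section

variable {F : Type*} [Field F] [Fintype F] {q n : ℕ}

/-- A field of type `Type` with `q` elements mapping onto the fixed field of `x ↦ x ^ q`. -/
lemma exists_fixed_field_model (hF : Fintype.card F = q ^ 2) :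
    ∃ (L : Type) (_ : Field L) (_ : Fintype L) (i : L →+* F), Fintype.card L = q ∧
      ∀ x : F, x ^ q = x ↔ ∃ t : L, i t = x := by
  obtain ⟨p, k, hp, hchar, hq⟩ := exists_prime_pow_eq hF
  haveI := Fact.mk hp
  have hk : k ≠ 0 := by
    rintro rfl
    have := two_le_of_card_eq_sq hF
    simp at hq
    omega
  letI : Fintype (GaloisField p k) := Fintype.ofFinite _
  have hcardL : Fintype.card (GaloisField p k) = q := by
    rw [Fintype.card_eq_nat_card, GaloisField.card p k hk, hq]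
  letI : Fintype (fixedSubfield hF) := Fintype.ofFinite _
  have hcardK : Fintype.card (fixedSubfield hF) = q := by
    rw [Fintype.card_eq_nat_card]
    exact card_fixedSubfield hF
  let e : GaloisField p k ≃+* fixedSubfield hF :=
    FiniteField.ringEquivOfCardEq (hcardL.trans hcardK.symm)
  refine ⟨GaloisField p k, inferInstance, inferInstance,
    (fixedSubfield hF).subtype.comp e.toRingHom, hcardL, fun x => ?_⟩
  constructor
  · intro hx
    refine ⟨e.symm ⟨x, hx⟩, ?_⟩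
    simp
  · rintro ⟨t, rfl⟩
    exact (e t).2

end

section Main

variable (F : Type*) [Field F] (q n : ℕ)

/-- The set `Σ` of unitary transvection groups inside `SU`. -/
def SigU : Set (Subgroup ↥(Cfsg.SU n F q)) :=
  {A | ∃ p : Fin n → F, p ≠ 0 ∧ Cfsg.hermForm n F q p p = 0 ∧ A = TU F q n p}

/-- The subgroup `G₀` generated by `Σ`. -/
def G0 : Subgroup ↥(Cfsg.SU n F q) := ⨆ B ∈ SigU F q n, B

/-- The set `Σ` viewed inside `G₀`. -/
def Sig0 : Set (Subgroup ↥(G0 F q n)) := (fun A => A.subgroupOf (G0 F q n)) '' SigU F q n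

/-- The embedding of `G₀` into the special linear group. -/
def f0 : ↥(G0 F q n) →* SpecialLinearGroup (Fin n) F :=
  (Cfsg.SU n F q).subtype.comp (G0 F q n).subtype

variable {F q n}

lemma f0_injective : Function.Injective (f0 F q n) :=
  (Subgroup.subtype_injective _).comp (Subgroup.subtype_injective _)

lemma f0_mem_SU (g : ↥(G0 F q n)) : f0 F q n g ∈ Cfsg.SU n F q := g.1.2

lemma TU_le_G0 {p : Fin n → F} (hp0 : p ≠ 0) (hp : Cfsg.hermForm n F q p p = 0) :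
    TU F q n p ≤ G0 F q n :=
  le_iSup₂_of_le (TU F q n p) ⟨p, hp0, hp, rfl⟩ le_rfl

lemma mem_Sig0 {p : Fin n → F} (hp0 : p ≠ 0) (hp : Cfsg.hermForm n F q p p = 0) :
    (TU F q n p).subgroupOf (G0 F q n) ∈ Sig0 F q n :=
  ⟨_, ⟨p, hp0, hp, rfl⟩, rfl⟩

variable [Fintype F]

lemma map_f0 (hF : Fintype.card F = q ^ 2) {p : Fin n → F} (hp0 : p ≠ 0)
    (hp : Cfsg.hermForm n F q p p = 0) :
    ((TU F q n p).subgroupOf (G0 F q n)).map (f0 F q n) = utSub hF p hp := by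
  rw [f0, ← Subgroup.map_map, Subgroup.subgroupOf_map_subtype, inf_of_le_left (TU_le_G0 hp0 hp),
    map_TU hF hp0 hp]

lemma comm_Sig0 (hF : Fintype.card F = q ^ 2) {p r : Fin n → F} (hp0 : p ≠ 0)
    (hp : Cfsg.hermForm n F q p p = 0) (hr0 : r ≠ 0) (hr : Cfsg.hermForm n F q r r = 0)
    (hpr : Cfsg.hermForm n F q p r = 0) :
    ⁅(TU F q n p).subgroupOf (G0 F q n), (TU F q n r).subgroupOf (G0 F q n)⁆ = ⊥ := by
  apply commutator_eq_bot_of_map (f0_injective (F := F) (q := q) (n := n))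
  rw [map_f0 hF hp0 hp, map_f0 hF hr0 hr]
  exact utSub_comm hF hp hr hpr

lemma rankOne_Sig0 (hF : Fintype.card F = q ^ 2) {L : Type*} [Field L] (i : L →+* F)
    (hi : ∀ x : F, x ^ q = x ↔ ∃ t : L, i t = x) {p r : Fin n → F} (hp0 : p ≠ 0)
    (hp : Cfsg.hermForm n F q p p = 0) (hr0 : r ≠ 0) (hr : Cfsg.hermForm n F q r r = 0)
    (hpr : Cfsg.hermForm n F q p r ≠ 0) :
    Cfsg.IsRankOnePair ((TU F q n p).subgroupOf (G0 F q n)) ((TU F q n r).subgroupOf (G0 F q n)) ∧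
      Cfsg.IsPSL2PairOver L ((TU F q n p).subgroupOf (G0 F q n))
        ((TU F q n r).subgroupOf (G0 F q n)) := by
  have key := utSub_rankOne hF i hi hp hr hpr
  rw [← map_f0 hF hp0 hp, ← map_f0 hF hr0 hr] at key
  exact ⟨rankOnePair_of_map f0_injective key.1, psl2Pair_of_map f0_injective L key.2⟩

lemma ne_bot_Sig0 (hF : Fintype.card F = q ^ 2) {p : Fin n → F} (hp0 : p ≠ 0)
    (hp : Cfsg.hermForm n F q p p = 0) : (TU F q n p).subgroupOf (G0 F q n) ≠ ⊥ := by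
  intro h
  have h1 := map_f0 hF hp0 hp
  rw [h, Subgroup.map_bot] at h1
  exact utSub_ne_bot hF hp0 hp h1.symm

lemma conj_Sig0 (hF : Fintype.card F = q ^ 2) {p : Fin n → F} (hp0 : p ≠ 0)
    (hp : Cfsg.hermForm n F q p p = 0) (g : ↥(G0 F q n)) :
    Cfsg.conjBy ((TU F q n p).subgroupOf (G0 F q n)) g =
      (TU F q n ((f0 F q n g : Matrix (Fin n) (Fin n) F) *ᵥ p)).subgroupOf (G0 F q n) := by
  have hp' : Cfsg.hermForm n F q ((f0 F q n g : Matrix (Fin n) (Fin n) F) *ᵥ p)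
      ((f0 F q n g : Matrix (Fin n) (Fin n) F) *ᵥ p) = 0 := (f0_mem_SU g p p).trans hp
  have hp0' : (f0 F q n g : Matrix (Fin n) (Fin n) F) *ᵥ p ≠ 0 := mulVec_ne_zero _ hp0
  apply Subgroup.map_injective (f0_injective (F := F) (q := q) (n := n))
  rw [Cfsg.Agent.S5035.map_conjBy, map_f0 hF hp0 hp, map_f0 hF hp0' hp',
    conjBy_utSub hF (f0_mem_SU g) p hp]

omit [Fintype F] in
lemma generates_Sig0 : (⨆ A ∈ Sig0 F q n, A) = ⊤ := by
  rw [eq_top_iff]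
  have hle : G0 F q n ≤ (⨆ A ∈ Sig0 F q n, A).map (G0 F q n).subtype := by
    unfold G0
    apply iSup₂_le
    intro B hB
    have hBle : B ≤ G0 F q n := le_iSup₂_of_le B hB le_rfl
    have h1 : B = (B.subgroupOf (G0 F q n)).map (G0 F q n).subtype := by
      rw [Subgroup.subgroupOf_map_subtype, inf_of_le_left hBle]
    rw [h1]
    apply Subgroup.map_mono
    exact le_iSup₂_of_le (B.subgroupOf (G0 F q n)) ⟨B, hB, rfl⟩ le_rfl
  intro x _
  obtain ⟨y, hy, hyx⟩ := hle x.2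
  have : y = x := Subtype.ext hyx
  rwa [← this]

lemma isRootSubgroupSet_Sig0 (hF : Fintype.card F = q ^ 2) :
    Cfsg.IsRootSubgroupSet (Sig0 F q n) := by
  obtain ⟨L, _, _, i, _, hi⟩ := exists_fixed_field_model hF
  refine ⟨?_, ?_, generates_Sig0, ?_, ?_⟩
  · rintro _ ⟨_, ⟨p, hp0, hp, rfl⟩, rfl⟩
    rw [← Subgroup.commutator_self_eq_bot_iff]
    exact comm_Sig0 hF hp0 hp hp0 hp hp
  · rintro _ ⟨_, ⟨p, hp0, hp, rfl⟩, rfl⟩
    exact ne_bot_Sig0 hF hp0 hp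
  · rintro _ ⟨_, ⟨p, hp0, hp, rfl⟩, rfl⟩ g
    rw [conj_Sig0 hF hp0 hp g]
    exact mem_Sig0 (mulVec_ne_zero _ hp0) ((f0_mem_SU g p p).trans hp)
  · rintro _ ⟨_, ⟨p, hp0, hp, rfl⟩, rfl⟩ _ ⟨_, ⟨r, hr0, hr, rfl⟩, rfl⟩
    by_cases h : Cfsg.hermForm n F q p r = 0
    · left; exact comm_Sig0 hF hp0 hp hr0 hr h
    · right; left; exact (rankOne_Sig0 hF i hi hp0 hp hr0 hr h).1

lemma degenerate_Sig0 (hF : Fintype.card F = q ^ 2) : Cfsg.IsDegenerateRootSet (Sig0 F q n) := by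
  obtain ⟨L, _, _, i, _, hi⟩ := exists_fixed_field_model hF
  rintro _ ⟨_, ⟨p, hp0, hp, rfl⟩, rfl⟩ _ ⟨_, ⟨r, hr0, hr, rfl⟩, rfl⟩ hcc
  by_cases h : Cfsg.hermForm n F q p r = 0
  · have h1 := hcc.1
    rw [comm_Sig0 hF hp0 hp hr0 hr h] at h1
    obtain ⟨_, ⟨s, hs0, hs, rfl⟩, hbot⟩ := h1
    exact ne_bot_Sig0 hF hs0 hs hbot
  · exact Cfsg.Agent.S5043.not_rankOne_of_commCase hcc (rankOne_Sig0 hF i hi hp0 hp hr0 hr h).1

lemma kRoot_Sig0 (hF : Fintype.card F = q ^ 2) {L : Type*} [Field L] (i : L →+* F)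
    (hi : ∀ x : F, x ^ q = x ↔ ∃ t : L, i t = x) : Cfsg.IsKRootSubgroupSet L (Sig0 F q n) := by
  refine ⟨isRootSubgroupSet_Sig0 hF, ?_⟩
  rintro _ ⟨_, ⟨p, hp0, hp, rfl⟩, rfl⟩ _ ⟨_, ⟨r, hr0, hr, rfl⟩, rfl⟩ hrk
  by_cases h : Cfsg.hermForm n F q p r = 0
  · exact absurd hrk (Cfsg.Agent.S5043.not_rankOne_of_comm (comm_Sig0 hF hp0 hp hr0 hr h))
  · exact (rankOne_Sig0 hF i hi hp0 hp hr0 hr h).2

lemma connected_Sig0 (hF : Fintype.card F = q ^ 2) :
    Cfsg.IsConnectedFamily (Cfsg.FAdj (Sig0 F q n)) (Sig0 F q n) := by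
  obtain ⟨L, _, _, i, _, hi⟩ := exists_fixed_field_model hF
  rintro _ ⟨_, ⟨p, hp0, hp, rfl⟩, rfl⟩ _ ⟨_, ⟨r, hr0, hr, rfl⟩, rfl⟩
  by_cases h : Cfsg.hermForm n F q p r = 0
  · obtain ⟨s, hs, hsp, hsr⟩ := exists_isotropic_nonperp hF hp0 hr0 hp h
    have hs0 : s ≠ 0 := by
      rintro rfl
      exact hsp (hermForm_zero_left p)
    have hps : Cfsg.hermForm n F q p s ≠ 0 := by
      rw [← hermForm_conj hF]
      exact pow_ne_zero _ hsp
    exact Relation.ReflTransGen.trans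
      (Relation.ReflTransGen.single ⟨mem_Sig0 hp0 hp, mem_Sig0 hs0 hs,
        (rankOne_Sig0 hF i hi hp0 hp hs0 hs hps).1⟩)
      (Relation.ReflTransGen.single ⟨mem_Sig0 hs0 hs, mem_Sig0 hr0 hr,
        (rankOne_Sig0 hF i hi hs0 hs hr0 hr hsr).1⟩)
  · exact Relation.ReflTransGen.single ⟨mem_Sig0 hp0 hp, mem_Sig0 hr0 hr,
      (rankOne_Sig0 hF i hi hp0 hp hr0 hr h).1⟩

lemma conjClass_Sig0 (hF : Fintype.card F = q ^ 2) :
    Cfsg.IsConjClassOfSubgroups (Sig0 F q (n + 2)) := by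
  obtain ⟨L, _, _, i, _, hi⟩ := exists_fixed_field_model hF
  obtain ⟨p, hp0, hp⟩ := exists_isotropic (n := n) hF
  obtain ⟨s, hs, hsp, _⟩ := exists_isotropic_nonperp hF hp0 hp0 hp hp
  have hs0 : s ≠ 0 := by
    rintro rfl
    exact hsp (hermForm_zero_left p)
  have hps : Cfsg.hermForm (n + 2) F q p s ≠ 0 := by
    rw [← hermForm_conj hF]
    exact pow_ne_zero _ hsp
  have hr := (rankOne_Sig0 hF i hi hp0 hp hs0 hs hps).1
  exact ((Cfsg.Agent.S5032.result (isRootSubgroupSet_Sig0 hF)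
    ⟨_, mem_Sig0 hp0 hp, _, mem_Sig0 hs0 hs, hr.ne⟩).mp (connected_Sig0 hF)).1

end Main

/-- Let F be a finite field with q² elements, n a natural number, and h the Hermitian form Σ uᵢ vᵢ^q on F^{n+2}. For a non-zero isotropic vector p let T(p) be the group of unitary transvections with centre ⟨p⟩: the elements of SU_{n+2}(q) moving every vector by a multiple of p and fixing every vector perpendicular to p. Let Σ be the set of these T(p) and G₀ the subgroup they generate. Then, viewed inside G₀, the members of Σ form a degenerate class of abstract k-root subgroups of G₀ for some field k with q elements (any two commute or are the unipotent subgroups of a rank one group that is an image of SL₂(k) with central kernel, never the commutator case), and their graph of rank one pairs is connected. -/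
theorem result (F : Type*) [Field F] [Fintype F] (q n : ℕ) (hF : Fintype.card F = q ^ 2) :
    Cfsg.IsRootSubgroupClass ((fun A : Subgroup ↥(Cfsg.SU (n + 2) F q) => A.subgroupOf (⨆ B ∈ {A : Subgroup ↥(Cfsg.SU (n + 2) F q) | ∃ p : Fin (n + 2) → F, p ≠ 0 ∧ Cfsg.hermForm (n + 2) F q p p = 0 ∧
          A = Subgroup.closure {g : ↥(Cfsg.SU (n + 2) F q) |
            (∀ v : Fin (n + 2) → F, ∃ c : F, ((g : Matrix.SpecialLinearGroup (Fin (n + 2)) F) : Matrix (Fin (n + 2)) (Fin (n + 2)) F) *ᵥ v = v + c • p) ∧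
            ∀ v : Fin (n + 2) → F, Cfsg.hermForm (n + 2) F q v p = 0 →
              ((g : Matrix.SpecialLinearGroup (Fin (n + 2)) F) : Matrix (Fin (n + 2)) (Fin (n + 2)) F) *ᵥ v = v}}, B)) ''
      {A : Subgroup ↥(Cfsg.SU (n + 2) F q) | ∃ p : Fin (n + 2) → F, p ≠ 0 ∧ Cfsg.hermForm (n + 2) F q p p = 0 ∧
          A = Subgroup.closure {g : ↥(Cfsg.SU (n + 2) F q) |
            (∀ v : Fin (n + 2) → F, ∃ c : F, ((g : Matrix.SpecialLinearGroup (Fin (n + 2)) F) : Matrix (Fin (n + 2)) (Fin (n + 2)) F) *ᵥ v = v + c • p) ∧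
            ∀ v : Fin (n + 2) → F, Cfsg.hermForm (n + 2) F q v p = 0 →
              ((g : Matrix.SpecialLinearGroup (Fin (n + 2)) F) : Matrix (Fin (n + 2)) (Fin (n + 2)) F) *ᵥ v = v}}) ∧
    Cfsg.IsDegenerateRootSet ((fun A : Subgroup ↥(Cfsg.SU (n + 2) F q) => A.subgroupOf (⨆ B ∈ {A : Subgroup ↥(Cfsg.SU (n + 2) F q) | ∃ p : Fin (n + 2) → F, p ≠ 0 ∧ Cfsg.hermForm (n + 2) F q p p = 0 ∧
          A = Subgroup.closure {g : ↥(Cfsg.SU (n + 2) F q) |
            (∀ v : Fin (n + 2) → F, ∃ c : F, ((g : Matrix.SpecialLinearGroup (Fin (n + 2)) F) : Matrix (Fin (n + 2)) (Fin (n + 2)) F) *ᵥ v = v + c • p) ∧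
            ∀ v : Fin (n + 2) → F, Cfsg.hermForm (n + 2) F q v p = 0 →
              ((g : Matrix.SpecialLinearGroup (Fin (n + 2)) F) : Matrix (Fin (n + 2)) (Fin (n + 2)) F) *ᵥ v = v}}, B)) ''
      {A : Subgroup ↥(Cfsg.SU (n + 2) F q) | ∃ p : Fin (n + 2) → F, p ≠ 0 ∧ Cfsg.hermForm (n + 2) F q p p = 0 ∧
          A = Subgroup.closure {g : ↥(Cfsg.SU (n + 2) F q) |
            (∀ v : Fin (n + 2) → F, ∃ c : F, ((g : Matrix.SpecialLinearGroup (Fin (n + 2)) F) : Matrix (Fin (n + 2)) (Fin (n + 2)) F) *ᵥ v = v + c • p) ∧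
            ∀ v : Fin (n + 2) → F, Cfsg.hermForm (n + 2) F q v p = 0 →
              ((g : Matrix.SpecialLinearGroup (Fin (n + 2)) F) : Matrix (Fin (n + 2)) (Fin (n + 2)) F) *ᵥ v = v}}) ∧
    (∃ (L : Type) (_ : Field L) (_ : Fintype L), Fintype.card L = q ∧ Cfsg.IsKRootSubgroupSet L ((fun A : Subgroup ↥(Cfsg.SU (n + 2) F q) => A.subgroupOf (⨆ B ∈ {A : Subgroup ↥(Cfsg.SU (n + 2) F q) | ∃ p : Fin (n + 2) → F, p ≠ 0 ∧ Cfsg.hermForm (n + 2) F q p p = 0 ∧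
          A = Subgroup.closure {g : ↥(Cfsg.SU (n + 2) F q) |
            (∀ v : Fin (n + 2) → F, ∃ c : F, ((g : Matrix.SpecialLinearGroup (Fin (n + 2)) F) : Matrix (Fin (n + 2)) (Fin (n + 2)) F) *ᵥ v = v + c • p) ∧
            ∀ v : Fin (n + 2) → F, Cfsg.hermForm (n + 2) F q v p = 0 →
              ((g : Matrix.SpecialLinearGroup (Fin (n + 2)) F) : Matrix (Fin (n + 2)) (Fin (n + 2)) F) *ᵥ v = v}}, B)) ''
      {A : Subgroup ↥(Cfsg.SU (n + 2) F q) | ∃ p : Fin (n + 2) → F, p ≠ 0 ∧ Cfsg.hermForm (n + 2) F q p p = 0 ∧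
          A = Subgroup.closure {g : ↥(Cfsg.SU (n + 2) F q) |
            (∀ v : Fin (n + 2) → F, ∃ c : F, ((g : Matrix.SpecialLinearGroup (Fin (n + 2)) F) : Matrix (Fin (n + 2)) (Fin (n + 2)) F) *ᵥ v = v + c • p) ∧
            ∀ v : Fin (n + 2) → F, Cfsg.hermForm (n + 2) F q v p = 0 →
              ((g : Matrix.SpecialLinearGroup (Fin (n + 2)) F) : Matrix (Fin (n + 2)) (Fin (n + 2)) F) *ᵥ v = v}})) ∧
    Cfsg.IsConnectedFamily (Cfsg.FAdj ((fun A : Subgroup ↥(Cfsg.SU (n + 2) F q) => A.subgroupOf (⨆ B ∈ {A : Subgroup ↥(Cfsg.SU (n + 2) F q) | ∃ p : Fin (n + 2) → F, p ≠ 0 ∧ Cfsg.hermForm (n + 2) F q p p = 0 ∧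
          A = Subgroup.closure {g : ↥(Cfsg.SU (n + 2) F q) |
            (∀ v : Fin (n + 2) → F, ∃ c : F, ((g : Matrix.SpecialLinearGroup (Fin (n + 2)) F) : Matrix (Fin (n + 2)) (Fin (n + 2)) F) *ᵥ v = v + c • p) ∧
            ∀ v : Fin (n + 2) → F, Cfsg.hermForm (n + 2) F q v p = 0 →
              ((g : Matrix.SpecialLinearGroup (Fin (n + 2)) F) : Matrix (Fin (n + 2)) (Fin (n + 2)) F) *ᵥ v = v}}, B)) ''
      {A : Subgroup ↥(Cfsg.SU (n + 2) F q) | ∃ p : Fin (n + 2) → F, p ≠ 0 ∧ Cfsg.hermForm (n + 2) F q p p = 0 ∧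
          A = Subgroup.closure {g : ↥(Cfsg.SU (n + 2) F q) |
            (∀ v : Fin (n + 2) → F, ∃ c : F, ((g : Matrix.SpecialLinearGroup (Fin (n + 2)) F) : Matrix (Fin (n + 2)) (Fin (n + 2)) F) *ᵥ v = v + c • p) ∧
            ∀ v : Fin (n + 2) → F, Cfsg.hermForm (n + 2) F q v p = 0 →
              ((g : Matrix.SpecialLinearGroup (Fin (n + 2)) F) : Matrix (Fin (n + 2)) (Fin (n + 2)) F) *ᵥ v = v}})) ((fun A : Subgroup ↥(Cfsg.SU (n + 2) F q) => A.subgroupOf (⨆ B ∈ {A : Subgroup ↥(Cfsg.SU (n + 2) F q) | ∃ p : Fin (n + 2) → F, p ≠ 0 ∧ Cfsg.hermForm (n + 2) F q p p = 0 ∧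
          A = Subgroup.closure {g : ↥(Cfsg.SU (n + 2) F q) |
            (∀ v : Fin (n + 2) → F, ∃ c : F, ((g : Matrix.SpecialLinearGroup (Fin (n + 2)) F) : Matrix (Fin (n + 2)) (Fin (n + 2)) F) *ᵥ v = v + c • p) ∧
            ∀ v : Fin (n + 2) → F, Cfsg.hermForm (n + 2) F q v p = 0 →
              ((g : Matrix.SpecialLinearGroup (Fin (n + 2)) F) : Matrix (Fin (n + 2)) (Fin (n + 2)) F) *ᵥ v = v}}, B)) ''
      {A : Subgroup ↥(Cfsg.SU (n + 2) F q) | ∃ p : Fin (n + 2) → F, p ≠ 0 ∧ Cfsg.hermForm (n + 2) F q p p = 0 ∧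
          A = Subgroup.closure {g : ↥(Cfsg.SU (n + 2) F q) |
            (∀ v : Fin (n + 2) → F, ∃ c : F, ((g : Matrix.SpecialLinearGroup (Fin (n + 2)) F) : Matrix (Fin (n + 2)) (Fin (n + 2)) F) *ᵥ v = v + c • p) ∧
            ∀ v : Fin (n + 2) → F, Cfsg.hermForm (n + 2) F q v p = 0 →
              ((g : Matrix.SpecialLinearGroup (Fin (n + 2)) F) : Matrix (Fin (n + 2)) (Fin (n + 2)) F) *ᵥ v = v}}) := by
  obtain ⟨L, instL, instFL, i, hcard, hi⟩ := exists_fixed_field_model hF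
  exact ⟨⟨isRootSubgroupSet_Sig0 hF, conjClass_Sig0 hF⟩, degenerate_Sig0 hF,
    ⟨L, instL, instFL, hcard, kRoot_Sig0 hF i hi⟩, connected_Sig0 hF⟩

end Cfsg.Agent.S5071
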