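import Cfsg.Statements.S5072
import Cfsg.Agent.Lib.Helper83.SiegelPair
import Cfsg.Agent.Lib.Helper83.SiegelIso
import Cfsg.Agent.Lib.Helper83.SiegelConn
import Cfsg.Agent.Lib.Helper83.Pullback2
import Cfsg.Agent.S5043

set_option autoImplicit false
open Matrix
open Cfsg

namespace Cfsg.Agent.S5072

open Cfsg.Agent.Lib.Helper83 Cfsg.Agent.Lib.Helper83.Siegel

section Main

variable (F : Type*) [Field F] (N : ℕ)

/-- The isometry group of the hyperbolic form. -/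
abbrev OQ : Subgroup (Matrix.GeneralLinearGroup (Fin N ⊕ Fin N) F) :=
  Cfsg.isometryGroup F (Cfsg.quadFormPlus N F)

variable {F N}

lemma Q_eq (v : Fin N ⊕ Fin N → F) : Cfsg.quadFormPlus N F v = Qf v := rfl

lemma mem_OQ {g : Matrix.GeneralLinearGroup (Fin N ⊕ Fin N) F} :
    g ∈ OQ F N ↔ ∀ v : Fin N ⊕ Fin N → F,
      Qf ((g : Matrix (Fin N ⊕ Fin N) (Fin N ⊕ Fin N) F) *ᵥ v) = Qf v := by
  constructor
  · intro h v
    exact h v v
  · intro h u _
    exact h u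

variable (F N)

/-- The Siegel transvection group of the pair `p, r`, as in the statement. -/
def TS (p r : Fin N ⊕ Fin N → F) : Subgroup ↥(OQ F N) :=
  Subgroup.closure {σ : ↥(OQ F N) | ∀ v : Fin N ⊕ Fin N → F,
    Cfsg.quadFormPlus N F (v + p) - Cfsg.quadFormPlus N F v - Cfsg.quadFormPlus N F p = 0 →
    Cfsg.quadFormPlus N F (v + r) - Cfsg.quadFormPlus N F v - Cfsg.quadFormPlus N F r = 0 →
      ((σ : Matrix.GeneralLinearGroup (Fin N ⊕ Fin N) F) :
        Matrix (Fin N ⊕ Fin N) (Fin N ⊕ Fin N) F) *ᵥ v = v}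

/-- The set `Σ` of Siegel transvection groups. -/
def SigO : Set (Subgroup ↥(OQ F N)) :=
  {A | ∃ p r : Fin N ⊕ Fin N → F, LinearIndependent F ![p, r] ∧
    Cfsg.quadFormPlus N F p = 0 ∧ Cfsg.quadFormPlus N F r = 0 ∧
    Cfsg.quadFormPlus N F (p + r) = 0 ∧ A = TS F N p r}

/-- The subgroup `G₀` generated by `Σ`. -/
def G0 : Subgroup ↥(OQ F N) := ⨆ B ∈ SigO F N, B

/-- The set `Σ` viewed inside `G₀`. -/
def Sig0 : Set (Subgroup ↥(G0 F N)) := (fun A => A.subgroupOf (G0 F N)) '' SigO F N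

/-- The embedding of `G₀` into the general linear group. -/
def f0 : ↥(G0 F N) →* Matrix.GeneralLinearGroup (Fin N ⊕ Fin N) F :=
  (OQ F N).subtype.comp (G0 F N).subtype

variable {F N}

lemma f0_injective : Function.Injective (f0 F N) :=
  (Subgroup.subtype_injective _).comp (Subgroup.subtype_injective _)

lemma f0_mem (g : ↥(G0 F N)) : f0 F N g ∈ OQ F N := g.1.2

lemma mem_SigO_iff {A : Subgroup ↥(OQ F N)} :
    A ∈ SigO F N ↔ ∃ p r : Fin N ⊕ Fin N → F, LinearIndependent F ![p, r] ∧ SingPair p r ∧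
      A = TS F N p r := by
  constructor
  · rintro ⟨p, r, hli, hp, hr, hpr, rfl⟩
    exact ⟨p, r, hli, SingPair.of_add hp hr hpr, rfl⟩
  · rintro ⟨p, r, hli, hs, rfl⟩
    exact ⟨p, r, hli, hs.qp, hs.qr, hs.qf_add, rfl⟩

/-- The Siegel transvection group, inside `GL`. -/
def gS (p r : Fin N ⊕ Fin N → F) : Subgroup (Matrix.GeneralLinearGroup (Fin N ⊕ Fin N) F) :=
  (sgSub p r).map Matrix.SpecialLinearGroup.toGL

lemma toGL_sgE_mem_OQ {p r : Fin N ⊕ Fin N → F} (hs : SingPair p r) (c : F) :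
    Matrix.SpecialLinearGroup.toGL (sgE p r hs c) ∈ OQ F N := by
  rw [mem_OQ]
  intro v
  exact Qf_sgE hs c v

lemma map_TS {p r : Fin N ⊕ Fin N → F} (hli : LinearIndependent F ![p, r]) (hs : SingPair p r) :
    (TS F N p r).map (OQ F N).subtype = gS p r := by
  apply le_antisymm
  · rw [Subgroup.map_le_iff_le_comap]
    unfold TS
    rw [Subgroup.closure_le]
    intro σ hσ
    rw [SetLike.mem_coe, Subgroup.mem_comap]
    have hQ := mem_OQ.mp σ.2
    obtain ⟨c, hc⟩ := exists_of_fixes_perp hli hs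
      ((σ : Matrix.GeneralLinearGroup (Fin N ⊕ Fin N) F) :
        Matrix (Fin N ⊕ Fin N) (Fin N ⊕ Fin N) F) hQ (by
        intro v hvp hvr
        apply hσ v
        · rw [Q_eq, Q_eq, Q_eq, Qf_add, hvp]; ring
        · rw [Q_eq, Q_eq, Q_eq, Qf_add, hvr]; ring)
    refine ⟨sgE p r hs c, sgE_mem p r hs c, ?_⟩
    apply Units.ext
    rw [Matrix.SpecialLinearGroup.coe_GL_coe_matrix, coe_sgE]
    exact hc.symm
  · rintro _ ⟨g, hg, rfl⟩
    obtain ⟨c, rfl⟩ := (mem_sgSub hs).mp hg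
    refine ⟨⟨_, toGL_sgE_mem_OQ hs c⟩, ?_, rfl⟩
    apply Subgroup.subset_closure
    intro v hvp hvr
    apply sgE_fix hs c
    · rw [Q_eq, Q_eq, Q_eq, Qf_add] at hvp
      linear_combination hvp
    · rw [Q_eq, Q_eq, Q_eq, Qf_add] at hvr
      linear_combination hvr

lemma TS_le_G0 {p r : Fin N ⊕ Fin N → F} (hli : LinearIndependent F ![p, r]) (hs : SingPair p r) :
    TS F N p r ≤ G0 F N :=
  le_iSup₂_of_le (TS F N p r) (mem_SigO_iff.mpr ⟨p, r, hli, hs, rfl⟩) le_rfl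

lemma mem_Sig0 {p r : Fin N ⊕ Fin N → F} (hli : LinearIndependent F ![p, r]) (hs : SingPair p r) :
    (TS F N p r).subgroupOf (G0 F N) ∈ Sig0 F N :=
  ⟨_, mem_SigO_iff.mpr ⟨p, r, hli, hs, rfl⟩, rfl⟩

lemma map_f0 {p r : Fin N ⊕ Fin N → F} (hli : LinearIndependent F ![p, r]) (hs : SingPair p r) :
    ((TS F N p r).subgroupOf (G0 F N)).map (f0 F N) = gS p r := by
  rw [f0, ← Subgroup.map_map, Subgroup.subgroupOf_map_subtype, inf_of_le_left (TS_le_G0 hli hs),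
    map_TS hli hs]

lemma gS_injective {p r p' r' : Fin N ⊕ Fin N → F} (h : gS p r = gS p' r') :
    sgSub p r = sgSub p' r' :=
  Subgroup.map_injective Matrix.SpecialLinearGroup.toGL_injective h

/-- Conjugating a Siegel transvection group by an isometry. -/
lemma conjBy_gS {p r : Fin N ⊕ Fin N → F} (hs : SingPair p r)
    {g : Matrix.GeneralLinearGroup (Fin N ⊕ Fin N) F} (hg : g ∈ OQ F N) :
    Cfsg.conjBy (gS p r) g =
      gS ((g : Matrix (Fin N ⊕ Fin N) (Fin N ⊕ Fin N) F) *ᵥ p)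
        ((g : Matrix (Fin N ⊕ Fin N) (Fin N ⊕ Fin N) F) *ᵥ r) := by
  have hQ := mem_OQ.mp hg
  have hs' := singPair_of_isometry hQ hs
  have hginv : (g : Matrix (Fin N ⊕ Fin N) (Fin N ⊕ Fin N) F) *
      ((g⁻¹ : Matrix.GeneralLinearGroup (Fin N ⊕ Fin N) F) :
        Matrix (Fin N ⊕ Fin N) (Fin N ⊕ Fin N) F) = 1 := by
    rw [← Units.val_mul, mul_inv_cancel]; rfl
  have key : ∀ c : F, g * Matrix.SpecialLinearGroup.toGL (sgE p r hs c) * g⁻¹ =
      Matrix.SpecialLinearGroup.toGL (sgE _ _ hs' c) := by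
    intro c
    apply Units.ext
    rw [Units.val_mul, Units.val_mul, Matrix.SpecialLinearGroup.coe_GL_coe_matrix,
      Matrix.SpecialLinearGroup.coe_GL_coe_matrix, coe_sgE, coe_sgE, Matrix.mul_add, Matrix.add_mul,
      Matrix.mul_one, hginv, Matrix.mul_smul, Matrix.smul_mul, conj_sgN hginv (Bf_of_Qf hQ)]
  ext x
  rw [mem_conjBy]
  unfold gS
  rw [Subgroup.mem_map, Subgroup.mem_map]
  constructor
  · rintro ⟨y, hy, hyx⟩
    obtain ⟨c, rfl⟩ := (mem_sgSub hs).mp hy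
    refine ⟨sgE _ _ hs' c, sgE_mem _ _ _ _, ?_⟩
    rw [← key c, hyx]
    group
  · rintro ⟨y, hy, rfl⟩
    obtain ⟨c, rfl⟩ := (mem_sgSub hs').mp hy
    refine ⟨sgE p r hs c, sgE_mem _ _ _ _, ?_⟩
    rw [← key c]
    group

/-- The set of all Siegel transvection groups inside `GL`. -/
def GSet (F : Type*) [Field F] (N : ℕ) :
    Set (Subgroup (Matrix.GeneralLinearGroup (Fin N ⊕ Fin N) F)) :=
  (fun A : Subgroup (Matrix.SpecialLinearGroup (Fin N ⊕ Fin N) F) =>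
    A.map Matrix.SpecialLinearGroup.toGL) '' SS F (Fin N)

/-- The trichotomy inside `GL`. -/
lemma gS_trichotomy {p r p' r' : Fin N ⊕ Fin N → F} (hli : LinearIndependent F ![p, r])
    (hs : SingPair p r) (hli' : LinearIndependent F ![p', r']) (hs' : SingPair p' r') :
    ⁅gS p r, gS p' r'⁆ = ⊥ ∨
      (Cfsg.IsRankOnePair (gS p r) (gS p' r') ∧ Cfsg.IsPSL2PairOver F (gS p r) (gS p' r')) ∨
      Cfsg.RootCommutatorCase (GSet F N) (gS p r) (gS p' r') := by
  rcases trichotomy hli hs hli' hs' with h | h | h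
  · left
    unfold gS
    rw [← Subgroup.map_commutator, h, Subgroup.map_bot]
  · right; left
    refine ⟨Cfsg.Agent.S5035.map_rankOnePair _ h.1 ?_,
      map_psl2Pair Matrix.SpecialLinearGroup.toGL_injective F h.2⟩
    intro heq
    exact h.1.ne (gS_injective heq)
  · right; right
    exact Cfsg.Agent.S5035.map_commCase _ h

lemma Sig0_of_map {C : Subgroup ↥(G0 F N)} (hC : C.map (f0 F N) ∈ GSet F N) : C ∈ Sig0 F N := by
  obtain ⟨_, ⟨p, r, hli, hs, rfl⟩, hA⟩ := hC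
  have : C = (TS F N p r).subgroupOf (G0 F N) := by
    apply Subgroup.map_injective (f0_injective (F := F) (N := N))
    rw [map_f0 hli hs]
    exact hA.symm
  rw [this]
  exact mem_Sig0 hli hs

/-- The trichotomy inside `G₀`. -/
lemma Sig0_trichotomy {p r p' r' : Fin N ⊕ Fin N → F} (hli : LinearIndependent F ![p, r])
    (hs : SingPair p r) (hli' : LinearIndependent F ![p', r']) (hs' : SingPair p' r') :
    ⁅(TS F N p r).subgroupOf (G0 F N), (TS F N p' r').subgroupOf (G0 F N)⁆ = ⊥ ∨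
      (Cfsg.IsRankOnePair ((TS F N p r).subgroupOf (G0 F N)) ((TS F N p' r').subgroupOf (G0 F N)) ∧
        Cfsg.IsPSL2PairOver F ((TS F N p r).subgroupOf (G0 F N))
          ((TS F N p' r').subgroupOf (G0 F N))) ∨
      Cfsg.RootCommutatorCase (Sig0 F N) ((TS F N p r).subgroupOf (G0 F N))
        ((TS F N p' r').subgroupOf (G0 F N)) := by
  have key := gS_trichotomy hli hs hli' hs'
  rw [← map_f0 hli hs, ← map_f0 hli' hs'] at key
  rcases key with h | h | h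
  · left
    exact commutator_eq_bot_of_map f0_injective h
  · right; left
    exact ⟨rankOnePair_of_map f0_injective h.1, psl2Pair_of_map f0_injective F h.2⟩
  · right; right
    exact commCase_of_map f0_injective (fun C hC => Sig0_of_map hC) h

lemma generates_Sig0 : (⨆ A ∈ Sig0 F N, A) = ⊤ := by
  rw [eq_top_iff]
  have hle : G0 F N ≤ (⨆ A ∈ Sig0 F N, A).map (G0 F N).subtype := by
    unfold G0
    apply iSup₂_le
    intro B hB
    have hBle : B ≤ G0 F N := le_iSup₂_of_le B hB le_rfl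
    have h1 : B = (B.subgroupOf (G0 F N)).map (G0 F N).subtype := by
      rw [Subgroup.subgroupOf_map_subtype, inf_of_le_left hBle]
    rw [h1]
    apply Subgroup.map_mono
    exact le_iSup₂_of_le (B.subgroupOf (G0 F N)) ⟨B, hB, rfl⟩ le_rfl
  intro x _
  obtain ⟨y, hy, hyx⟩ := hle x.2
  have : y = x := Subtype.ext hyx
  rwa [← this]

lemma ne_bot_Sig0 {p r : Fin N ⊕ Fin N → F} (hli : LinearIndependent F ![p, r])
    (hs : SingPair p r) : (TS F N p r).subgroupOf (G0 F N) ≠ ⊥ := by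
  intro h
  have h1 := map_f0 hli hs
  rw [h, Subgroup.map_bot] at h1
  unfold gS at h1
  exact sgSub_ne_bot hs hli
    ((Subgroup.map_eq_bot_iff_of_injective _ Matrix.SpecialLinearGroup.toGL_injective).mp h1.symm)

lemma comm_Sig0 {p r : Fin N ⊕ Fin N → F} (hli : LinearIndependent F ![p, r])
    (hs : SingPair p r) : IsMulCommutative ((TS F N p r).subgroupOf (G0 F N)) := by
  rw [← Subgroup.commutator_self_eq_bot_iff]
  apply commutator_eq_bot_of_map (f0_injective (F := F) (N := N))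
  rw [map_f0 hli hs]
  unfold gS
  rw [← Subgroup.map_commutator, sgSub_commute hs hs rfl, Subgroup.map_bot]

lemma conj_Sig0 {p r : Fin N ⊕ Fin N → F} (hli : LinearIndependent F ![p, r])
    (hs : SingPair p r) (g : ↥(G0 F N)) :
    Cfsg.conjBy ((TS F N p r).subgroupOf (G0 F N)) g ∈ Sig0 F N := by
  apply Sig0_of_map
  rw [Cfsg.Agent.S5035.map_conjBy, map_f0 hli hs, conjBy_gS hs (f0_mem g)]
  have hQ := mem_OQ.mp (f0_mem g)
  have hinv : ((f0 F N g)⁻¹ : Matrix.GeneralLinearGroup (Fin N ⊕ Fin N) F).1 * (f0 F N g).1 = 1 := by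
    rw [← Units.val_mul, inv_mul_cancel]; rfl
  exact ⟨_, ⟨_, _, linearIndependent_of_invertible hinv hli, singPair_of_isometry hQ hs, rfl⟩, rfl⟩

lemma isRootSubgroupSet_Sig0 : Cfsg.IsRootSubgroupSet (Sig0 F N) := by
  refine ⟨?_, ?_, generates_Sig0, ?_, ?_⟩
  · rintro _ ⟨_, hA, rfl⟩
    obtain ⟨p, r, hli, hs, rfl⟩ := mem_SigO_iff.mp hA
    exact comm_Sig0 hli hs
  · rintro _ ⟨_, hA, rfl⟩
    obtain ⟨p, r, hli, hs, rfl⟩ := mem_SigO_iff.mp hA
    exact ne_bot_Sig0 hli hs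
  · rintro _ ⟨_, hA, rfl⟩ g
    obtain ⟨p, r, hli, hs, rfl⟩ := mem_SigO_iff.mp hA
    exact conj_Sig0 hli hs g
  · rintro _ ⟨_, hA, rfl⟩ _ ⟨_, hB, rfl⟩
    obtain ⟨p, r, hli, hs, rfl⟩ := mem_SigO_iff.mp hA
    obtain ⟨p', r', hli', hs', rfl⟩ := mem_SigO_iff.mp hB
    rcases Sig0_trichotomy hli hs hli' hs' with h | h | h
    · left; exact h
    · right; left; exact h.1
    · right; right; exact h

lemma kRoot_Sig0 : Cfsg.IsKRootSubgroupSet F (Sig0 F N) := by
  refine ⟨isRootSubgroupSet_Sig0, ?_⟩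
  rintro _ ⟨_, hA, rfl⟩ _ ⟨_, hB, rfl⟩ hrk
  obtain ⟨p, r, hli, hs, rfl⟩ := mem_SigO_iff.mp hA
  obtain ⟨p', r', hli', hs', rfl⟩ := mem_SigO_iff.mp hB
  rcases Sig0_trichotomy hli hs hli' hs' with h | h | h
  · exact absurd hrk (Cfsg.Agent.S5043.not_rankOne_of_comm h)
  · exact h.2
  · exact absurd hrk (Cfsg.Agent.S5043.not_rankOne_of_commCase h)

/-- Opposite lines give a rank one pair in the isometry group. -/
lemma rankOne_TS {p r p' r' : Fin N ⊕ Fin N → F} (hli : LinearIndependent F ![p, r])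
    (hs : SingPair p r) (hli' : LinearIndependent F ![p', r']) (hs' : SingPair p' r')
    (hΔ : Bf p p' * Bf r r' - Bf p r' * Bf r p' ≠ 0) :
    Cfsg.IsRankOnePair (TS F N p r) (TS F N p' r') := by
  apply rankOnePair_of_map (Subgroup.subtype_injective (OQ F N))
  rw [map_TS hli hs, map_TS hli' hs']
  have h := rankOne_of_det hs hs' hΔ
  refine Cfsg.Agent.S5035.map_rankOnePair _ h.1 ?_
  intro heq
  exact h.1.ne (gS_injective heq)

lemma exists_third (a b : Fin (N + 3)) : ∃ c, c ≠ a ∧ c ≠ b := by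
  by_cases h0 : a.val ≠ 0 ∧ b.val ≠ 0
  · refine ⟨⟨0, by omega⟩, ?_, ?_⟩ <;> (rw [Ne, Fin.ext_iff]; dsimp only; omega)
  · by_cases h1 : a.val ≠ 1 ∧ b.val ≠ 1
    · refine ⟨⟨1, by omega⟩, ?_, ?_⟩ <;> (rw [Ne, Fin.ext_iff]; dsimp only; omega)
    · refine ⟨⟨2, by omega⟩, ?_, ?_⟩ <;> (rw [Ne, Fin.ext_iff]; dsimp only; omega)

lemma rtg_of_conn {x y : (Fin N ⊕ Fin N → F) × (Fin N ⊕ Fin N → F)} (h : Conn x y) :
    Relation.ReflTransGen (Cfsg.FAdj (SigO F N)) (TS F N x.1 x.2) (TS F N y.1 y.2) := by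
  induction h with
  | refl => exact Relation.ReflTransGen.refl
  | @tail y z _ hyz ih =>
    refine ih.tail ⟨mem_SigO_iff.mpr ⟨y.1, y.2, hyz.1.1, hyz.1.2, rfl⟩,
      mem_SigO_iff.mpr ⟨z.1, z.2, hyz.2.1.1, hyz.2.1.2, rfl⟩,
      rankOne_TS hyz.1.1 hyz.1.2 hyz.2.1.1 hyz.2.1.2 hyz.2.2⟩

lemma connected_SigO :
    Cfsg.IsConnectedFamily (Cfsg.FAdj (SigO F (N + 3))) (SigO F (N + 3)) := by
  intro A hA B hB
  obtain ⟨p, r, hli, hs, rfl⟩ := mem_SigO_iff.mp hA
  obtain ⟨p', r', hli', hs', rfl⟩ := mem_SigO_iff.mp hB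
  have hc : Conn ((p, r) : (Fin (N + 3) ⊕ Fin (N + 3) → F) × (Fin (N + 3) ⊕ Fin (N + 3) → F))
      (p', r') := lines_connected exists_third ⟨hli, hs⟩ ⟨hli', hs'⟩
  have key := rtg_of_conn hc
  exact key

end Main

/-- Let F be a field, m a natural number and V = F^{2(m+3)} with the hyperbolic quadratic form q(x, y) = Σ xᵢ yᵢ (non-degenerate, Witt index m + 3 ≥ 3). For a singular line ℓ (a 2-dimensional subspace on which q vanishes) let T(ℓ) be the group of isometries of q fixing every vector of ℓ^⊥ (the Siegel transvection group of ℓ), let Σ be the set of these groups and G₀ the subgroup they generate. Then, viewed inside G₀, the members of Σ form a set of abstract F-root subgroups of G₀ (any two commute, or are the unipotent subgroups of a rank one group that is an image of SL₂(F) with central kernel, or satisfy the commutator case), and their graph of rank one pairs is connected. -/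
theorem result (F : Type*) [Field F] (m : ℕ) :
    Cfsg.IsKRootSubgroupSet F ((fun A : Subgroup ↥(Cfsg.isometryGroup F (Cfsg.quadFormPlus (m + 3) F)) => A.subgroupOf (⨆ B ∈ {A : Subgroup ↥(Cfsg.isometryGroup F (Cfsg.quadFormPlus (m + 3) F)) | ∃ p r : Fin (m + 3) ⊕ Fin (m + 3) → F, LinearIndependent F ![p, r] ∧
          Cfsg.quadFormPlus (m + 3) F p = 0 ∧ Cfsg.quadFormPlus (m + 3) F r = 0 ∧
          Cfsg.quadFormPlus (m + 3) F (p + r) = 0 ∧
          A = Subgroup.closure {σ : ↥(Cfsg.isometryGroup F (Cfsg.quadFormPlus (m + 3) F)) | ∀ v : Fin (m + 3) ⊕ Fin (m + 3) → F,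
            Cfsg.quadFormPlus (m + 3) F (v + p) - Cfsg.quadFormPlus (m + 3) F v - Cfsg.quadFormPlus (m + 3) F p = 0 →
            Cfsg.quadFormPlus (m + 3) F (v + r) - Cfsg.quadFormPlus (m + 3) F v - Cfsg.quadFormPlus (m + 3) F r = 0 →
              ((σ : Matrix.GeneralLinearGroup (Fin (m + 3) ⊕ Fin (m + 3)) F) : Matrix (Fin (m + 3) ⊕ Fin (m + 3)) (Fin (m + 3) ⊕ Fin (m + 3)) F) *ᵥ v = v}}, B)) ''
      {A : Subgroup ↥(Cfsg.isometryGroup F (Cfsg.quadFormPlus (m + 3) F)) | ∃ p r : Fin (m + 3) ⊕ Fin (m + 3) → F, LinearIndependent F ![p, r] ∧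
          Cfsg.quadFormPlus (m + 3) F p = 0 ∧ Cfsg.quadFormPlus (m + 3) F r = 0 ∧
          Cfsg.quadFormPlus (m + 3) F (p + r) = 0 ∧
          A = Subgroup.closure {σ : ↥(Cfsg.isometryGroup F (Cfsg.quadFormPlus (m + 3) F)) | ∀ v : Fin (m + 3) ⊕ Fin (m + 3) → F,
            Cfsg.quadFormPlus (m + 3) F (v + p) - Cfsg.quadFormPlus (m + 3) F v - Cfsg.quadFormPlus (m + 3) F p = 0 →
            Cfsg.quadFormPlus (m + 3) F (v + r) - Cfsg.quadFormPlus (m + 3) F v - Cfsg.quadFormPlus (m + 3) F r = 0 →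
              ((σ : Matrix.GeneralLinearGroup (Fin (m + 3) ⊕ Fin (m + 3)) F) : Matrix (Fin (m + 3) ⊕ Fin (m + 3)) (Fin (m + 3) ⊕ Fin (m + 3)) F) *ᵥ v = v}}) ∧
    Cfsg.IsConnectedFamily (Cfsg.FAdj {A : Subgroup ↥(Cfsg.isometryGroup F (Cfsg.quadFormPlus (m + 3) F)) | ∃ p r : Fin (m + 3) ⊕ Fin (m + 3) → F, LinearIndependent F ![p, r] ∧
          Cfsg.quadFormPlus (m + 3) F p = 0 ∧ Cfsg.quadFormPlus (m + 3) F r = 0 ∧
          Cfsg.quadFormPlus (m + 3) F (p + r) = 0 ∧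
          A = Subgroup.closure {σ : ↥(Cfsg.isometryGroup F (Cfsg.quadFormPlus (m + 3) F)) | ∀ v : Fin (m + 3) ⊕ Fin (m + 3) → F,
            Cfsg.quadFormPlus (m + 3) F (v + p) - Cfsg.quadFormPlus (m + 3) F v - Cfsg.quadFormPlus (m + 3) F p = 0 →
            Cfsg.quadFormPlus (m + 3) F (v + r) - Cfsg.quadFormPlus (m + 3) F v - Cfsg.quadFormPlus (m + 3) F r = 0 →
              ((σ : Matrix.GeneralLinearGroup (Fin (m + 3) ⊕ Fin (m + 3)) F) : Matrix (Fin (m + 3) ⊕ Fin (m + 3)) (Fin (m + 3) ⊕ Fin (m + 3)) F) *ᵥ v = v}})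
      {A : Subgroup ↥(Cfsg.isometryGroup F (Cfsg.quadFormPlus (m + 3) F)) | ∃ p r : Fin (m + 3) ⊕ Fin (m + 3) → F, LinearIndependent F ![p, r] ∧
          Cfsg.quadFormPlus (m + 3) F p = 0 ∧ Cfsg.quadFormPlus (m + 3) F r = 0 ∧
          Cfsg.quadFormPlus (m + 3) F (p + r) = 0 ∧
          A = Subgroup.closure {σ : ↥(Cfsg.isometryGroup F (Cfsg.quadFormPlus (m + 3) F)) | ∀ v : Fin (m + 3) ⊕ Fin (m + 3) → F,
            Cfsg.quadFormPlus (m + 3) F (v + p) - Cfsg.quadFormPlus (m + 3) F v - Cfsg.quadFormPlus (m + 3) F p = 0 →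
            Cfsg.quadFormPlus (m + 3) F (v + r) - Cfsg.quadFormPlus (m + 3) F v - Cfsg.quadFormPlus (m + 3) F r = 0 →
              ((σ : Matrix.GeneralLinearGroup (Fin (m + 3) ⊕ Fin (m + 3)) F) : Matrix (Fin (m + 3) ⊕ Fin (m + 3)) (Fin (m + 3) ⊕ Fin (m + 3)) F) *ᵥ v = v}} :=
  ⟨kRoot_Sig0, connected_SigO⟩

end Cfsg.Agent.S5072
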