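import Cfsg.Statements.S5075
import Mathlib
-- import your own Cfsg.Agent.* helpers here
import Cfsg.Agent.Lib.Helper5.McFin4

set_option autoImplicit false
open Cfsg

namespace Cfsg.Agent.S5075

open Cfsg.Agent.Lib.Helper5.Mc in
theorem aux {p : ℕ} [Fact p.Prime] (hp : Odd p) {V : Type*} [AddCommGroup V] [Module (ZMod p) V] [Finite V]
    (H : Subgroup (V ≃ₗ[ZMod p] V)) (hOp : Cfsg.pCore p ↥H = ⊥) :
    ∃ (n : ℕ) (π : Fin n → V →ₗ[ZMod p] V)
      (π' : Fin n → Module.Dual (ZMod p) V →ₗ[ZMod p] Module.Dual (ZMod p) V), 1 ≤ n ∧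
      (∀ j, IsComp (evB (ZMod p) V) (TH H) (π j) (π' j)) ∧
      (∀ i j, i ≠ j → ∀ v, π i (π j v) = 0) ∧
      (∀ ϖ ϖ', IsComp (evB (ZMod p) V) (TH H) ϖ ϖ' → ∃ j, π j = ϖ ∧ π' j = ϖ') := by
  classical
  haveI : Module.Finite (ZMod p) V := Module.Finite.of_finite
  have hTS := tsys_TH (H := H) hp hOp
  have hB := perf_evB (ZMod p) V
  haveI : Finite (V →ₗ[ZMod p] V) := DFunLike.finite _
  haveI : Finite (Module.Dual (ZMod p) V) := DFunLike.finite _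
  haveI : Finite (Module.Dual (ZMod p) V →ₗ[ZMod p] Module.Dual (ZMod p) V) := DFunLike.finite _
  let ι := {P : (V →ₗ[ZMod p] V) × (Module.Dual (ZMod p) V →ₗ[ZMod p] Module.Dual (ZMod p) V) //
    IsComp (evB (ZMod p) V) (TH H) P.1 P.2}
  haveI : Finite ι := Subtype.finite
  obtain ⟨n, ⟨e⟩⟩ := Finite.exists_equiv_fin ι
  have hall : ∀ ϖ ϖ', IsComp (evB (ZMod p) V) (TH H) ϖ ϖ' →
      ∃ j, (e.symm j).1.1 = ϖ ∧ (e.symm j).1.2 = ϖ' := by
    intro ϖ ϖ' hc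
    refine ⟨e ⟨(ϖ, ϖ'), hc⟩, ?_, ?_⟩ <;> rw [Equiv.symm_apply_apply]
  refine ⟨n, fun j => (e.symm j).1.1, fun j => (e.symm j).1.2, ?_, fun j => (e.symm j).2, ?_, hall⟩
  · obtain ⟨j, -, -⟩ := hall 0 0 (isComp_zero hTS)
    exact j.pos
  · intro i j hij
    rcases comp_eq_or_orth hB (e.symm i).2 (e.symm j).2 with ⟨h1, h2⟩ | ⟨h1, -, -, -⟩
    · exfalso
      apply hij
      have : e.symm i = e.symm j := Subtype.ext (Prod.ext h1 h2)
      exact e.symm.injective this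
    · exact h1

/-- Let p be an odd prime, V a finite-dimensional vector space over the field with p elements, and H a group of linear automorphisms of V generated by transvections (elements of order p fixing a hyperplane pointwise) and having no nontrivial normal p-subgroup. Then for some n ≥ 1 there are a decomposition V = V₀ ⊕ V₁ ⊕ ⋯ ⊕ Vₙ into H-invariant subspaces and a decomposition of H as the internal direct product of normal subgroups H₁, …, Hₙ such that Hⱼ acts trivially on every Vᵢ with i ≠ j, and Hⱼ induces on Vⱼ exactly the special linear group of Vⱼ or exactly the isometry group of a non-degenerate alternating form on Vⱼ. -/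
theorem result {p : ℕ} [Fact p.Prime] (hp : Odd p) {V : Type*} [AddCommGroup V] [Module (ZMod p) V] [Finite V]
    (H : Subgroup (V ≃ₗ[ZMod p] V)) (T : Set (V ≃ₗ[ZMod p] V)) (hHT : H = Subgroup.closure T)
    (hT : ∀ t ∈ T, orderOf t = p ∧
      Module.finrank (ZMod p) ↥(LinearMap.ker ((t : V →ₗ[ZMod p] V) - LinearMap.id)) + 1 =
        Module.finrank (ZMod p) V)
    (hOp : Cfsg.pCore p ↥H = ⊥) :
    ∃ (n : ℕ) (W : Fin (n + 1) → Submodule (ZMod p) V) (K : Fin n → Subgroup (V ≃ₗ[ZMod p] V)),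
      1 ≤ n ∧ DirectSum.IsInternal W ∧
      (∀ h ∈ H, ∀ i, (W i).map (h : V →ₗ[ZMod p] V) = W i) ∧
      (∀ j, K j ≤ H ∧ ((K j).subgroupOf H).Normal) ∧ ⨆ j, K j = H ∧
      (∀ j, K j ⊓ (⨆ j' ∈ {j' : Fin n | j' ≠ j}, K j') = ⊥) ∧
      (∀ j j', j ≠ j' → ∀ a ∈ K j, ∀ b ∈ K j', a * b = b * a) ∧
      (∀ j, ∀ h ∈ K j, ∀ i : Fin (n + 1), i ≠ j.succ → ∀ v ∈ W i, h v = v) ∧
      (∀ j, ∃ ρ : ↥(K j) →* (↥(W j.succ) ≃ₗ[ZMod p] ↥(W j.succ)),
        (∀ (h : ↥(K j)) (v : ↥(W j.succ)), ((ρ h v : ↥(W j.succ)) : V) = (h : V ≃ₗ[ZMod p] V) (v : V)) ∧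
        ((ρ.range : Set (↥(W j.succ) ≃ₗ[ZMod p] ↥(W j.succ))) =
            {f : ↥(W j.succ) ≃ₗ[ZMod p] ↥(W j.succ) | LinearMap.det (f : ↥(W j.succ) →ₗ[ZMod p] ↥(W j.succ)) = 1} ∨
          ∃ B : LinearMap.BilinForm (ZMod p) ↥(W j.succ), B.IsAlt ∧ B.Nondegenerate ∧
            (ρ.range : Set (↥(W j.succ) ≃ₗ[ZMod p] ↥(W j.succ))) = {f : ↥(W j.succ) ≃ₗ[ZMod p] ↥(W j.succ) | ∀ x y, B (f x) (f y) = B x y})) := by
  obtain ⟨n, π, π', hn, hcomp, horth, hall⟩ := aux hp H hOp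
  obtain ⟨W, K, h⟩ := Cfsg.Agent.Lib.Helper5.Mc.main_of_family hp H T hHT hT hOp n π π' hcomp horth hall
  exact ⟨n, W, K, hn, h⟩

end Cfsg.Agent.S5075
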