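import Cfsg.Statements.S5078
-- import your own Cfsg.Agent.* helpers here

set_option autoImplicit false
open Cfsg

namespace Cfsg.Agent.S5078

/-- In any fusion system over a finite subgroup S, a receptive subgroup is fully centralized. -/
theorem result {Ω : Type*} [Group Ω] {S : Subgroup Ω} [Finite S] (F : Cfsg.FusionSystem S) (P : Subgroup Ω) (hP : F.IsReceptive P) : F.IsFullyCentralized P := by
  refine ⟨hP.1, ?_⟩
  rintro Q ⟨φ, hφ, rfl⟩
  obtain ⟨ψ, hψ, hψφ⟩ := F.inv_mem hφ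
  have hrange : ψ.range = P := by
    ext y
    constructor
    · rintro ⟨⟨_, x, rfl⟩, rfl⟩
      rw [hψφ x]
      exact x.2
    · intro hy
      exact ⟨⟨φ ⟨y, hy⟩, ⟨⟨y, hy⟩, rfl⟩⟩, hψφ ⟨y, hy⟩⟩
  obtain ⟨χ, hχ, hχψ⟩ := hP.2 φ.range ψ hψ hrange
  have hQS : φ.range ≤ S := (F.le_of_mem hψ).1
  have hψS : ∀ x : φ.range, ψ x ∈ S := (F.le_of_mem hψ).2
  have hχS : ∀ x, χ x ∈ S := (F.le_of_mem hχ).2
  -- C_S(Q) ≤ N_ψ
  have hCN : FusionSystem.centralizerIn S φ.range ≤ FusionSystem.extender S φ.range ψ := by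
    intro g hg
    apply Subgroup.subset_closure
    refine ⟨hg.1, Subgroup.centralizer_le_normalizer _ hg.2, 1, S.one_mem, ?_⟩
    intro x hx
    have hc : (x : Ω) * g = g * (x : Ω) := (Subgroup.mem_centralizer_iff.mp hg.2) (x : Ω) x.2
    have : (⟨g * (x : Ω) * g⁻¹, hx⟩ : φ.range) = x := by
      apply Subtype.ext
      show g * (x : Ω) * g⁻¹ = (x : Ω)
      rw [← hc]; group
    rw [this]; simp
  -- Q ≤ N_ψ
  have hQN : φ.range ≤ FusionSystem.extender S φ.range ψ := by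
    intro g hg
    apply Subgroup.subset_closure
    refine ⟨hQS hg, Subgroup.le_normalizer hg, ψ ⟨g, hg⟩, hψS _, ?_⟩
    intro x hx
    have : (⟨g * (x : Ω) * g⁻¹, hx⟩ : φ.range) = ⟨g, hg⟩ * x * ⟨g, hg⟩⁻¹ := by
      apply Subtype.ext
      rfl
    rw [this, map_mul, map_mul, map_inv]
  -- the injection C_S(Q) → C_S(P)
  have hmem : ∀ g : FusionSystem.centralizerIn S φ.range,
      χ ⟨(g : Ω), hCN g.2⟩ ∈ FusionSystem.centralizerIn S P := by
    intro g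
    refine ⟨hχS _, ?_⟩
    show _ ∈ Subgroup.centralizer (P : Set Ω)
    rw [Subgroup.mem_centralizer_iff]
    intro y hy
    have hφy : φ ⟨y, hy⟩ ∈ φ.range := ⟨⟨y, hy⟩, rfl⟩
    have h1 : χ ⟨φ ⟨y, hy⟩, hQN hφy⟩ = y := by
      rw [hχψ _ hφy (hQN hφy)]
      exact hψφ ⟨y, hy⟩
    have hc : φ ⟨y, hy⟩ * (g : Ω) = (g : Ω) * φ ⟨y, hy⟩ :=
      (Subgroup.mem_centralizer_iff.mp g.2.2) _ hφy
    have h2 : (⟨φ ⟨y, hy⟩, hQN hφy⟩ : FusionSystem.extender S φ.range ψ) * ⟨(g : Ω), hCN g.2⟩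
        = ⟨(g : Ω), hCN g.2⟩ * ⟨φ ⟨y, hy⟩, hQN hφy⟩ := Subtype.ext hc
    have h3 := congrArg χ h2
    rw [map_mul, map_mul, h1] at h3
    exact h3
  have : Finite (FusionSystem.centralizerIn S P) :=
    Finite.of_injective (Subgroup.inclusion (inf_le_left : FusionSystem.centralizerIn S P ≤ S))
      (Subgroup.inclusion_injective _)
  refine Nat.card_le_card_of_injective
    (fun g : FusionSystem.centralizerIn S φ.range =>
      (⟨χ ⟨(g : Ω), hCN g.2⟩, hmem g⟩ : FusionSystem.centralizerIn S P)) ?_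
  intro g₁ g₂ h
  have h1 : χ ⟨(g₁ : Ω), hCN g₁.2⟩ = χ ⟨(g₂ : Ω), hCN g₂.2⟩ := congrArg Subtype.val h
  have h2 := F.injective_of_mem hχ h1
  apply Subtype.ext
  exact congrArg (fun z : FusionSystem.extender S φ.range ψ => (z : Ω)) h2

end Cfsg.Agent.S5078
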