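import Cfsg.Statements.S5077
import Cfsg.Agent.Lib.Helper87.FusionFully
import Cfsg.Agent.Lib.Helper85.FusionNormal
import Cfsg.Agent.S5078
-- import your own Cfsg.Agent.* helpers here

set_option autoImplicit false
open Cfsg

namespace Cfsg.Agent.S5077

open Cfsg.FusionSystem Cfsg.Agent.Lib.Helper87 in
/-- A fusion system over a finite p-group S is saturated if and only if (Sylow axiom) every fully normalized subgroup is fully centralized and fully automized, and (extension axiom) every fully centralized subgroup is receptive. -/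
theorem result {Ω : Type*} [Group Ω] {S : Subgroup Ω} [Finite S] (p : ℕ) [Fact p.Prime] (hS : IsPGroup p S) (F : Cfsg.FusionSystem S) : F.IsSaturated p ↔ ((∀ P : Subgroup Ω, F.IsFullyNormalized P → F.IsFullyCentralized P ∧ F.IsFullyAutomized p P) ∧ (∀ P : Subgroup Ω, F.IsFullyCentralized P → F.IsReceptive P)) := by
  constructor
  · intro hF
    refine ⟨fun P hP => ?_, fun P hP => receptive_of_fullyCentralized F hS hF hP⟩
    obtain ⟨ha, hr⟩ := fullyAutomized_receptive_of_fullyNormalized F hS hF hP
    exact ⟨Cfsg.Agent.S5078.result F P hr, ha⟩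
  · rintro ⟨h1, h2⟩ P hPS
    have hfin : {Q : Subgroup Ω | F.IsConj P Q}.Finite :=
      (Cfsg.Agent.Lib.Helper85.finite_subgroups_le S).subset (fun Q hQ => IsConj_le_right hQ)
    obtain ⟨Q, hQ, hmax⟩ := Set.exists_max_image _ (fun Q => Nat.card (normalizerIn S Q)) hfin
      ⟨P, isConj_refl F hPS⟩
    have hQn : F.IsFullyNormalized Q := by
      refine ⟨IsConj_le_right hQ, fun Q' hQ' => ?_⟩
      exact hmax Q' (IsConj_trans hQ hQ')
    obtain ⟨hc, ha⟩ := h1 Q hQn
    exact ⟨Q, hQ, ha, h2 Q hc⟩

end Cfsg.Agent.S5077
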