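import Cfsg.Statements.S5081
-- import your own Cfsg.Agent.* helpers here

import Cfsg.Agent.Lib.Helper84.Alperin2
import Cfsg.Agent.Lib.Helper87.FusionFully
import Cfsg.Agent.Lib.Helper34.StronglyEmbedded

set_option autoImplicit false
open Cfsg

namespace Cfsg.Agent.S5081

open Cfsg.FusionSystem
open Cfsg.Agent.Lib.Helper87
open Cfsg.Agent.Lib.Helper84

/-- The image in `A ⧸ I` of a subgroup `B` containing the normalizers of all `Q` with `I < Q ≤ T` contains `Γ_{T̄,1}`. -/
theorem kGeneratedCore_mapSurjective_le {A : Type*} [Group A] [Finite A] {p : ℕ} [Fact p.Prime]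
    (I : Subgroup A) [I.Normal] (T : Sylow p A) (hIT : I ≤ T) (B : Subgroup A)
    (hB : ∀ Q : Subgroup A, I ≤ Q → ¬ Q ≤ I → Q ≤ T → Subgroup.normalizer (Q : Set A) ≤ B) :
    kGeneratedCore p 1 ((T.mapSurjective (QuotientGroup.mk'_surjective I) : Sylow p (A ⧸ I)) : Subgroup (A ⧸ I)) ≤
      B.map (QuotientGroup.mk' I) := by
  have hπ : Function.Surjective (QuotientGroup.mk' I) := QuotientGroup.mk'_surjective I
  have hker : (QuotientGroup.mk' I).ker = I := QuotientGroup.ker_mk' I
  have hTbar_coe : ((T.mapSurjective hπ : Sylow p (A ⧸ I)) : Subgroup (A ⧸ I)) =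
      (T : Subgroup A).map (QuotientGroup.mk' I) := Sylow.coe_mapSurjective hπ T
  unfold kGeneratedCore
  apply iSup_le
  rintro ⟨Qb, hQbT, hrank⟩
  have hQb_ne : Qb ≠ ⊥ := ne_bot_of_not_pRankLE_zero hrank
  have hIQ : I ≤ Qb.comap (QuotientGroup.mk' I) := by
    have := (QuotientGroup.mk' I).ker_le_comap Qb
    rwa [hker] at this
  have hQI : ¬ Qb.comap (QuotientGroup.mk' I) ≤ I := by
    intro h
    apply hQb_ne
    have h1 := Subgroup.map_mono (f := QuotientGroup.mk' I) h
    rw [Subgroup.map_comap_eq_self_of_surjective hπ] at h1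
    have h2 : I.map (QuotientGroup.mk' I) = ⊥ := by
      rw [Subgroup.map_eq_bot_iff, hker]
    rw [h2] at h1
    exact le_bot_iff.mp h1
  have hQT : Qb.comap (QuotientGroup.mk' I) ≤ T := by
    have h1 := Subgroup.comap_mono (f := QuotientGroup.mk' I) hQbT
    rw [hTbar_coe, Subgroup.comap_map_eq, hker, sup_eq_left.mpr hIT] at h1
    exact h1
  have h3 := hB _ hIQ hQI hQT
  rw [← Subgroup.comap_normalizer_eq_of_surjective _ hπ] at h3
  have h4 := Subgroup.map_mono (f := QuotientGroup.mk' I) h3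
  rw [Subgroup.map_comap_eq_self_of_surjective hπ] at h4
  exact h4

variable {Ω : Type*} [Group Ω] {S : Subgroup Ω}

/-- For a centric subgroup `R`, an element of `N_S(R)` inducing an inner automorphism of `R` lies in `R`. -/
theorem mem_of_conjAut_mem_inn (F : FusionSystem S) {R : Subgroup Ω} (hcen : F.IsCentric R) {x : Ω}
    (hxS : x ∈ S) (hxN : x ∈ Subgroup.normalizer (R : Set Ω)) (hinn : conjAut R x hxN ∈ Inn R) : x ∈ R := by
  have hRS : R ≤ S := hcen.1
  obtain ⟨y, hy⟩ := hinn
  have hcent : (y : Ω)⁻¹ * x ∈ centralizerIn S R := by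
    refine ⟨S.mul_mem (S.inv_mem (hRS y.2)) hxS, ?_⟩
    show (y : Ω)⁻¹ * x ∈ Subgroup.centralizer (R : Set Ω)
    rw [Subgroup.mem_centralizer_iff]
    intro z hz
    have h2 : ((MulAut.conj y) ⟨z, hz⟩ : R) = conjAut R x hxN ⟨z, hz⟩ := by
      have := congrArg (fun f : MulAut R => f ⟨z, hz⟩) hy
      exact this
    have h3 : (y : Ω) * z * (y : Ω)⁻¹ = x * z * x⁻¹ := by
      have := congrArg Subtype.val h2
      simpa [MulAut.conj_apply, conjAut_apply] using this
    calc z * ((y : Ω)⁻¹ * x) = (y : Ω)⁻¹ * ((y : Ω) * z * (y : Ω)⁻¹) * x := by group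
      _ = (y : Ω)⁻¹ * (x * z * x⁻¹) * x := by rw [h3]
      _ = (y : Ω)⁻¹ * x * z := by group
  have h4 : (y : Ω)⁻¹ * x ∈ R := hcen.2 R (isConj_refl F hRS) hcent
  have : x = (y : Ω) * ((y : Ω)⁻¹ * x) := by group
  rw [this]
  exact R.mul_mem y.2 h4

/-- The generators of `H`: automorphisms of `P` extending to maps of the system on strictly larger subgroups. -/
def gens (F : FusionSystem S) (P : Subgroup Ω) : Set (MulAut P) :=
  {α : MulAut P | ∃ (Q : Subgroup Ω) (hPQ : P < Q) (φ : Q →* Ω), φ ∈ F.Hom Q ∧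
    ∀ x : P, φ (Subgroup.inclusion hPQ.le x) = α x}

theorem gens_le_autGroup (F : FusionSystem S) {P : Subgroup Ω} {α : MulAut P} (hα : α ∈ gens F P) :
    α ∈ F.autGroup P := by
  obtain ⟨Q, hPQ, φ, hφ, hφα⟩ := hα
  have hPS : P ≤ S := hPQ.le.trans (hom_le F hφ)
  rw [mem_autGroup_iff F hPS]
  refine hom_of_eq_on F rfl (restrict_mem F hφ hPQ.le) ?_
  intro x hx _
  exact (hφα ⟨x, hx⟩).symm

/-- In the centric case, each generator `α` of `H` conjugates some element of `Aut_S(P)` outside `Inn(P)` into `Aut_S(P)`. -/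
theorem exists_conj_of_gens (F : FusionSystem S) [Finite S] {p : ℕ} [Fact p.Prime] (hS : IsPGroup p S)
    {P : Subgroup Ω} (hcen : F.IsCentric P) {α : MulAut P} (hα : α ∈ gens F P) :
    ∃ c : MulAut P, c ∈ autInducedBy S P ∧ c ∉ Inn P ∧ α * c * α⁻¹ ∈ autInducedBy S P := by
  obtain ⟨Q, hPQ, φ, hφ, hφα⟩ := hα
  have hQS : Q ≤ S := hom_le F hφ
  have : Finite Q := finite_of_le hQS
  have hQp : IsPGroup p Q := hS.to_le hQS
  obtain ⟨g, hgN, hgP⟩ := exists_mem_normalizerIn_not_mem (S := Q) hQp hPQ.le hPQ.ne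
  refine ⟨conjAut P g hgN.2, mem_autInducedBy_iff.2 ⟨g, hQS hgN.1, fun _ => rfl⟩, ?_, ?_⟩
  · intro hinn
    exact hgP (mem_of_conjAut_mem_inn F hcen (hQS hgN.1) hgN.2 hinn)
  · rw [mem_autInducedBy_iff]
    refine ⟨φ ⟨g, hgN.1⟩, hom_map_mem F hφ _, fun x => ?_⟩
    have h1 : (α * conjAut P g hgN.2 * α⁻¹) x = α (conjAut P g hgN.2 (α⁻¹ x)) := rfl
    rw [h1, ← hφα]
    have h2 : Subgroup.inclusion hPQ.le (conjAut P g hgN.2 (α⁻¹ x)) =
        ⟨g, hgN.1⟩ * Subgroup.inclusion hPQ.le (α⁻¹ x) * ⟨g, hgN.1⟩⁻¹ := Subtype.ext rfl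
    rw [h2, map_mul, map_mul, map_inv, hφα]
    simp

/-- Let F be a saturated fusion system over a finite p-group S, P a proper subgroup of S that is fully normalized, and H the subgroup of Aut_F(P) generated by the automorphisms that extend to maps of the system defined on strictly larger subgroups of S. Then either P is not essential and H is all of Aut_F(P), or P is essential and the image of H in Out_F(P) = Aut_F(P)/Inn(P) is strongly p-embedded there. -/
theorem result {Ω : Type*} [Group Ω] {S : Subgroup Ω} [Finite S] (p : ℕ) [Fact p.Prime] (hS : IsPGroup p S) (F : Cfsg.FusionSystem S) (hF : F.IsSaturated p) (P : Subgroup Ω) (hPS : P < S) (hPn : F.IsFullyNormalized P) (H : Subgroup (MulAut P)) (hH : H = Subgroup.closure {α : MulAut P | ∃ (Q : Subgroup Ω) (hPQ : P < Q) (φ : Q →* Ω), φ ∈ F.Hom Q ∧ ∀ x : P, φ (Subgroup.inclusion hPQ.le x) = α x}) : (¬ F.IsEssential p P ∧ H = F.autGroup P) ∨ (F.IsEssential p P ∧ ∃ _ : ((Cfsg.Inn P).subgroupOf (F.autGroup P)).Normal, Cfsg.IsStronglyPEmbedded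 p ((H.subgroupOf (F.autGroup P)).map (QuotientGroup.mk' ((Cfsg.Inn P).subgroupOf (F.autGroup P))))) := by
  have hH' : H = Subgroup.closure (gens F P) := hH
  clear hH
  subst hH'
  have hPS' : P ≤ S := hPS.le
  have hfin : Finite P := finite_of_le hPS'
  obtain ⟨hPa, hPr⟩ := fullyAutomized_receptive_of_fullyNormalized F hS hF hPn
  have hHA : Subgroup.closure (gens F P) ≤ F.autGroup P :=
    (Subgroup.closure_le _).2 (fun α hα => gens_le_autGroup F hα)
  have hInnNormal : ((Inn P).subgroupOf (F.autGroup P)).Normal := inferInstance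
  obtain ⟨-, T', hT'⟩ := hPa
  -- normalizers of subgroups of `Aut_S(P)` not inside `Inn(P)` lie in `H`
  have hB : ∀ Q : Subgroup (F.autGroup P), (Inn P).subgroupOf (F.autGroup P) ≤ Q →
      ¬ Q ≤ (Inn P).subgroupOf (F.autGroup P) → Q ≤ T' →
      Subgroup.normalizer (Q : Set (F.autGroup P)) ≤ (Subgroup.closure (gens F P)).subgroupOf (F.autGroup P) := by
    intro Q _ hQI hQT β hβ
    rw [Subgroup.mem_subgroupOf]
    rw [hT'] at hQT
    exact Subgroup.subset_closure (exists_extension_of_normalizes F hPr β Q hQT hQI hβ)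
  by_cases hess : F.IsEssential p P
  · right
    refine ⟨hess, hInnNormal, ?_⟩
    obtain ⟨hcen, -, hN₀, E₀, hE₀⟩ := hess
    obtain ⟨hdvd, hE₀top, P', hP'⟩ := hE₀
    have hπ := QuotientGroup.mk'_surjective ((Inn P).subgroupOf (F.autGroup P))
    refine ⟨hdvd, ?_, T'.mapSurjective hπ, ?_⟩
    · -- the image of `H` is proper
      intro htop
      apply hE₀top
      have hΓ : ∀ U : Subgroup (F.autGroup P ⧸ (Inn P).subgroupOf (F.autGroup P)),
          U ≤ (P' : Subgroup _) → U ≠ ⊥ → Subgroup.normalizer (U : Set _) ≤ E₀ :=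
        fun U hU hne => (normalizer_le_kGeneratedCore P' hU hne).trans hP'
      obtain ⟨y, hy⟩ := MulAction.exists_smul_eq (F.autGroup P ⧸ (Inn P).subgroupOf (F.autGroup P)) P'
        (T'.mapSurjective hπ)
      have hTbar_coe : ((T'.mapSurjective hπ : Sylow p _) : Subgroup _) =
          (T' : Subgroup (F.autGroup P)).map (QuotientGroup.mk' ((Inn P).subgroupOf (F.autGroup P))) :=
        Sylow.coe_mapSurjective hπ T'
      -- each generator lies in `y E₀ y⁻¹`
      have key : ∀ (α : MulAut P) (hα : α ∈ gens F P),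
          y⁻¹ * (QuotientGroup.mk' ((Inn P).subgroupOf (F.autGroup P)) ⟨α, gens_le_autGroup F hα⟩) * y ∈ E₀ := by
        intro α hα
        obtain ⟨c, hcS, hcI, hconj⟩ := exists_conj_of_gens F hS hcen hα
        have hαA := gens_le_autGroup F hα
        have hcA : c ∈ F.autGroup P := autInducedBy_le_autGroup F hPS' hcS
        set π := QuotientGroup.mk' ((Inn P).subgroupOf (F.autGroup P)) with hπdef
        set a := π ⟨α, hαA⟩ with ha
        set t := π ⟨c, hcA⟩ with ht
        have htT : t ∈ ((y • P' : Sylow p _) : Subgroup _) := by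
          rw [hy, hTbar_coe]
          refine ⟨⟨c, hcA⟩, ?_, rfl⟩
          rw [SetLike.mem_coe, hT', Subgroup.mem_subgroupOf]
          exact hcS
        have hatT : a * t * a⁻¹ ∈ ((y • P' : Sylow p _) : Subgroup _) := by
          rw [hy, hTbar_coe]
          refine ⟨⟨α, hαA⟩ * ⟨c, hcA⟩ * ⟨α, hαA⟩⁻¹, ?_, ?_⟩
          · rw [SetLike.mem_coe, hT', Subgroup.mem_subgroupOf]
            exact hconj
          · rw [map_mul, map_mul, map_inv]
        have ht1 : t ≠ 1 := by
          intro h
          rw [ht, hπdef, QuotientGroup.mk'_apply, QuotientGroup.eq_one_iff, Subgroup.mem_subgroupOf] at h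
          exact hcI h
        rw [Cfsg.Agent.Lib.Helper34.mem_sylow_smul_iff] at htT hatT
        refine Cfsg.Agent.Lib.Helper34.mem_of_inf_smul_ne_bot P' E₀ hΓ _ (y⁻¹ * a * y) rfl ?_
        intro hbot
        have hmem : y⁻¹ * (a * t * a⁻¹) * y ∈ (P' : Subgroup _) ⊓ (((y⁻¹ * a * y) • P' : Sylow p _) : Subgroup _) := by
          refine Subgroup.mem_inf.2 ⟨hatT, ?_⟩
          rw [Cfsg.Agent.Lib.Helper34.mem_sylow_smul_iff]
          have : (y⁻¹ * a * y)⁻¹ * (y⁻¹ * (a * t * a⁻¹) * y) * (y⁻¹ * a * y) = y⁻¹ * t * y := by group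
          rw [this]
          exact htT
        rw [hbot, Subgroup.mem_bot] at hmem
        apply ht1
        have : t = a⁻¹ * (y * (y⁻¹ * (a * t * a⁻¹) * y) * y⁻¹) * a := by group
        rw [this, hmem]
        group
      -- hence `H` maps into `y E₀ y⁻¹`
      set E' : Subgroup (F.autGroup P ⧸ (Inn P).subgroupOf (F.autGroup P)) :=
        E₀.comap (MulAut.conj y⁻¹).toMonoidHom with hE'
      have hle : Subgroup.closure (gens F P) ≤
          (E'.comap (QuotientGroup.mk' ((Inn P).subgroupOf (F.autGroup P)))).map (F.autGroup P).subtype := by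
        rw [Subgroup.closure_le]
        intro α hα
        refine ⟨⟨α, gens_le_autGroup F hα⟩, ?_, rfl⟩
        show (MulAut.conj y⁻¹) _ ∈ E₀
        have := key α hα
        simpa [MulAut.conj_apply] using this
      rw [eq_top_iff]
      intro z _
      have hz : y * z * y⁻¹ ∈ ((Subgroup.closure (gens F P)).subgroupOf (F.autGroup P)).map
          (QuotientGroup.mk' ((Inn P).subgroupOf (F.autGroup P))) := by
        rw [htop]; trivial
      obtain ⟨b, hb, hbz⟩ := hz
      obtain ⟨b', hb', hbb'⟩ := hle (Subgroup.mem_subgroupOf.1 hb)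
      have hbeq : b' = b := Subtype.ext hbb'
      rw [hbeq] at hb'
      have h1 : (MulAut.conj y⁻¹) (QuotientGroup.mk' ((Inn P).subgroupOf (F.autGroup P)) b) ∈ E₀ := hb'
      rw [hbz] at h1
      have h2 : (MulAut.conj y⁻¹) (y * z * y⁻¹) = z := by
        simp [mul_assoc]
      rw [h2] at h1
      exact h1
    · -- `Γ_{T̄,1}` lies in the image of `H`
      exact kGeneratedCore_mapSurjective_le ((Inn P).subgroupOf (F.autGroup P)) T'
        (by rw [hT']; exact inn_subgroupOf_le F hPS') _ hB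
  · left
    refine ⟨hess, le_antisymm hHA ?_⟩
    by_cases hcen : F.IsCentric P
    · have hno : ∀ Y : Subgroup (F.autGroup P ⧸ (Inn P).subgroupOf (F.autGroup P)), ¬ IsStronglyPEmbedded p Y :=
        fun Y hY => hess ⟨hcen, hPn, hInnNormal, Y, hY⟩
      have htop := eq_top_of_no_stronglyPEmbedded ((Inn P).subgroupOf (F.autGroup P)) T'
        (by rw [hT']; exact inn_subgroupOf_le F hPS')
        (by rw [hT']; exact autInducedBy_not_le_inn F hS hcen hPS.ne)
        hno ((Subgroup.closure (gens F P)).subgroupOf (F.autGroup P)) hB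
      intro α hα
      have h1 : (⟨α, hα⟩ : F.autGroup P) ∈ (Subgroup.closure (gens F P)).subgroupOf (F.autGroup P) := by
        rw [htop]; trivial
      exact Subgroup.mem_subgroupOf.1 h1
    · intro α hα
      exact Subgroup.subset_closure (exists_extension_of_not_centric F hPr hcen hα)

end Cfsg.Agent.S5081
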