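import Cfsg.Statements.S5084
import Cfsg.Agent.Lib.Helper84.Alperin2
import Cfsg.Agent.Lib.Helper85.FusionNC
-- import your own Cfsg.Agent.* helpers here

set_option autoImplicit false
open Cfsg

namespace Cfsg.Agent.S5084

open Cfsg.FusionSystem Cfsg.Agent.Lib.Helper87 Cfsg.Agent.Lib.Helper84

variable {Ω : Type*} [Group Ω] {S : Subgroup Ω}

/-- If the elements of `Q ≤ S` are conjugate in the system only to themselves, an automorphism of the system of a subgroup
containing `Q` fixes `Q` elementwise. -/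
theorem aut_fix (F : Cfsg.FusionSystem S) {Q P : Subgroup Ω}
    (h : ∀ x ∈ Q, ∀ y : Ω, F.IsConjElt x y → y = x) (hQP : Q ≤ P) (hPS : P ≤ S) {α : MulAut P}
    (hα : α ∈ F.autGroup P) (x : Ω) (hx : x ∈ Q) : ((α ⟨x, hQP hx⟩ : P) : Ω) = x := by
  have hφ : P.subtype.comp α.toMonoidHom ∈ F.Hom P := (mem_autGroup_iff F hPS).1 hα
  have hle : Subgroup.zpowers x ≤ P := by
    rw [Subgroup.zpowers_le]
    exact hQP hx
  have h1 := restrict_mem F hφ hle
  exact h x hx _ ⟨_, h1, rfl⟩

/-- In a saturated fusion system over a finite p-group S, a subgroup Q is central in the system if and only if Q ≤ S and no element of Q is conjugate in the system to any element other than itself. -/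
theorem result {Ω : Type*} [Group Ω] {S : Subgroup Ω} [Finite S] (p : ℕ) [Fact p.Prime] (hS : IsPGroup p S) (F : Cfsg.FusionSystem S) (hF : F.IsSaturated p) (Q : Subgroup Ω) : F.IsCentral Q ↔ (Q ≤ S ∧ ∀ x ∈ Q, ∀ y : Ω, F.IsConjElt x y → y = x) := by
  constructor
  · intro hQ
    refine ⟨hQ.1, ?_⟩
    rintro x hx y ⟨φ, hφ, rfl⟩
    obtain ⟨ψ, -, hψ1, hψ2⟩ := hQ.2 _ φ hφ
    have h1 := hψ1 ⟨x, Subgroup.mem_zpowers x⟩
    have h2 := hψ2 ⟨x, hx⟩
    rw [← h1]
    exact h2
  · rintro ⟨hQS, h⟩
    -- `Q` is central in `S`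
    have hQZ : ∀ x ∈ Q, ∀ s ∈ S, s * x * s⁻¹ = x := by
      intro x hx s hs
      have hle : Subgroup.zpowers x ≤ S := by
        rw [Subgroup.zpowers_le]
        exact hQS hx
      exact h x hx _ ⟨conjHom (Subgroup.zpowers x) s, F.conj_mem hle hs, rfl⟩
    have hSC : S ≤ centralizerIn S Q := by
      intro s hs
      refine ⟨hs, ?_⟩
      show s ∈ Subgroup.centralizer (Q : Set Ω)
      rw [Subgroup.mem_centralizer_iff]
      intro x hx
      have := hQZ x hx s hs
      calc x * s = (s * x * s⁻¹) * s := by rw [this]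
        _ = s * x := by group
    have key := alperin_goldschmidt' F (Cfsg.Agent.Lib.Helper85.centralizerSystem F Q hQS) hS hF (by
      intro P hP α hα
      have hPS : P ≤ S := by
        rcases hP with rfl | hess
        · exact le_rfl
        · exact hess.1.1
      have hQP : Q ≤ P := by
        rcases hP with rfl | hess
        · exact hQS
        · intro x hx
          apply hess.1.2 P (isConj_refl F hPS)
          refine ⟨hQS hx, ?_⟩
          show x ∈ Subgroup.centralizer (P : Set Ω)
          rw [Subgroup.mem_centralizer_iff]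
          intro y hy
          have := hQZ x hx y (hPS hy)
          calc y * x = (y * x * y⁻¹) * y := by group
            _ = x * y := by rw [this]
      have hφ : P.subtype.comp α.toMonoidHom ∈ F.Hom P := (mem_autGroup_iff F hPS).1 hα
      show P.subtype.comp (α : P ≃* P).toMonoidHom ∈ F.centralizerHom Q P
      have hsup : P = P ⊔ Q := (sup_eq_left.mpr hQP).symm
      refine ⟨hφ, hPS.trans hSC, fun x => hSC (hPS (α x).2),
        (P.subtype.comp α.toMonoidHom).comp (MulEquiv.subgroupCongr hsup.symm).toMonoidHom, ?_, ?_, ?_⟩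
      · exact hom_of_eq_on F hsup hφ (fun x hx hx' => rfl)
      · intro x
        rfl
      · intro x
        exact aut_fix F h hQP hPS hα (x : Ω) x.2)
    refine ⟨hQS, fun P φ hφ => ?_⟩
    obtain ⟨-, -, -, ψ, hψ, hψ1, hψ2⟩ := key P hφ
    exact ⟨ψ, hψ, hψ1, hψ2⟩

end Cfsg.Agent.S5084
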