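import Cfsg.Statements.S5089
import Cfsg.Agent.S5088
-- import your own Cfsg.Agent.* helpers here

set_option autoImplicit false
open Cfsg

namespace Cfsg.Agent.S5089

open Cfsg.FusionSystem Cfsg.Agent.Lib.Helper87 in
/-- A saturated fusion system over a finite p-group has a nontrivial subgroup that is normal in the system (O_p(F) ≠ 1) if and only if some nontrivial abelian subgroup is strongly closed in the system. -/
theorem result {Ω : Type*} [Group Ω] {S : Subgroup Ω} [Finite S] (p : ℕ) [Fact p.Prime] (hS : IsPGroup p S) (F : Cfsg.FusionSystem S) (hF : F.IsSaturated p) : F.core ≠ ⊥ ↔ ∃ Q : Subgroup Ω, Q ≠ ⊥ ∧ IsMulCommutative Q ∧ F.StronglyClosed Q := by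
  constructor
  · intro hne
    have hcore : F.IsNormal F.core := Cfsg.Agent.Lib.Helper85.isNormal_core F
    set Q := F.core with hQdef
    have hQS : Q ≤ S := hcore.1
    have : Finite Q := finite_of_le hQS
    have hQp : IsPGroup p Q := hS.to_le hQS
    have : Nontrivial Q := (Subgroup.nontrivial_iff_ne_bot Q).mpr hne
    refine ⟨(Subgroup.center Q).map Q.subtype, ?_, ?_, ?_⟩
    · intro h
      rw [Subgroup.map_eq_bot_iff_of_injective _ (Subgroup.subtype_injective Q)] at h
      exact (hQp.bot_lt_center).ne' h
    · exact Subgroup.map_isMulCommutative _ _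
    · apply Cfsg.Agent.S5088.stronglyClosed_of_isNormal
      apply Cfsg.Agent.S5085.result F Q _ hcore (Subgroup.map_subtype_le _)
      have : ((Subgroup.center Q).map Q.subtype).subgroupOf Q = Subgroup.center Q :=
        Subgroup.comap_map_eq_self_of_injective (Subgroup.subtype_injective Q) _
      rw [this]
      infer_instance
  · rintro ⟨Q, hne, hcomm, hsc⟩
    have hQn : F.IsNormal Q := by
      rw [Cfsg.Agent.S5088.result p hS F hF Q]
      refine ⟨1, ![⊥, Q], rfl, rfl, ?_, ?_⟩
      · intro i j hij
        fin_cases i <;> fin_cases j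
        · exact le_rfl
        · exact bot_le
        · exact absurd hij (by decide)
        · exact le_rfl
      · intro i
        fin_cases i
        refine ⟨hsc, ?_⟩
        show ⁅Q, Q⁆ ≤ ⊥
        rw [le_bot_iff, Subgroup.commutator_eq_bot_iff_le_centralizer]
        intro x hx
        rw [Subgroup.mem_centralizer_iff]
        intro y hy
        have := hcomm.is_comm.comm ⟨y, hy⟩ ⟨x, hx⟩
        exact congrArg Subtype.val this
    intro hbot
    apply hne
    have := Cfsg.Agent.Lib.Helper85.le_core_of_isNormal F hQn
    rw [hbot] at this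
    exact le_bot_iff.mp this

end Cfsg.Agent.S5089
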