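import Cfsg.Statements.S5095
import Cfsg.Agent.Lib.Helper88.FusionCentricExt
-- import your own Cfsg.Agent.* helpers here

set_option autoImplicit false
open Cfsg

namespace Cfsg.Agent.S5095

open Cfsg.FusionSystem Cfsg.Agent.Lib.Helper87 Cfsg.Agent.Lib.Helper88

variable {Ω : Type*} [Group Ω] {S : Subgroup Ω}

theorem main (F : FusionSystem S) [Finite S] {p : ℕ} [Fact p.Prime] (hS : IsPGroup p S) (hF : F.IsSaturated p)
    (P : Subgroup Ω) :
    ∀ (n : ℕ) (Q : Subgroup Ω), Q ≤ P → F.IsCentric Q → Nat.card P - Nat.card Q = n →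
      ∀ (φ φ' : P →* Ω), φ ∈ F.Hom P → φ' ∈ F.Hom P → (∀ x : P, (x : Ω) ∈ Q → φ x = φ' x) →
      ∃ z : P, (z : Ω) ∈ Q ∧ (z : Ω) ∈ Subgroup.centralizer (Q : Set Ω) ∧ ∀ y : P, φ' y = φ (z * y * z⁻¹) := by
  intro n
  induction n using Nat.strong_induction_on with
  | _ n ih =>
    intro Q hQP hQ hn φ φ' hφ hφ' h
    have hPS : P ≤ S := hom_le F hφ
    have hfinP : Finite P := finite_of_le hPS
    have hPp : IsPGroup p P := hS.to_le hPS
    by_cases hne : Q = P
    · refine ⟨1, Q.one_mem, Subgroup.one_mem _, fun y => ?_⟩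
      have hy : (y : Ω) ∈ Q := by rw [hne]; exact y.2
      rw [one_mul, inv_one, mul_one]
      exact (h y hy).symm
    · obtain ⟨x₀, hx₀N, hx₀Q⟩ := exists_mem_normalizerIn_not_mem (S := P) hPp hQP hne
      have hNP : normalizerIn P Q ≤ P := inf_le_left
      have hQN : Q ≤ normalizerIn P Q := le_inf hQP Subgroup.le_normalizer
      have hNS : normalizerIn P Q ≤ S := hNP.trans hPS
      have hNc : F.IsCentric (normalizerIn P Q) := isCentric_of_le F hQ hQN hNS
      have h₁ : φ'.comp (Subgroup.inclusion hNP) ∈ F.Hom (normalizerIn P Q) := restrict_mem F hφ' hNP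
      have h₂ : φ.comp (Subgroup.inclusion hNP) ∈ F.Hom (normalizerIn P Q) := restrict_mem F hφ hNP
      obtain ⟨z, hzQ, hz⟩ := eq_comp_conj_of_eqOn_centric F hS hF hQN inf_le_right hQ h₁ h₂
        (fun x hx => (h ⟨x, hNP x.2⟩ hx).symm)
      -- `z` centralizes `Q`
      have hzP : (z : Ω) ∈ P := hNP z.2
      have hzc : (z : Ω) ∈ Subgroup.centralizer (Q : Set Ω) := by
        rw [Subgroup.mem_centralizer_iff]
        intro g hg
        have h1 := hz ⟨g, hQN hg⟩
        have h2 : φ' ⟨g, hQP hg⟩ = φ ⟨(z : Ω) * g * (z : Ω)⁻¹, hNP (z * ⟨g, hQN hg⟩ * z⁻¹).2⟩ := h1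
        rw [← h ⟨g, hQP hg⟩ hg] at h2
        have h3 := F.injective_of_mem hφ h2
        have h4 : g = (z : Ω) * g * (z : Ω)⁻¹ := congrArg (fun w : P => (w : Ω)) h3
        calc g * (z : Ω) = ((z : Ω) * g * (z : Ω)⁻¹) * (z : Ω) := by rw [← h4]
          _ = (z : Ω) * g := by group
      -- the twisted map
      have hconj : conjHom P (z : Ω) ∈ F.Hom P := F.conj_mem hPS (hPS hzP)
      have hconjP : ∀ y : P, conjHom P (z : Ω) y ∈ P := fun y =>
        P.mul_mem (P.mul_mem hzP y.2) (P.inv_mem hzP)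
      have hφ₂ : φ.comp ((conjHom P (z : Ω)).codRestrict P hconjP) ∈ F.Hom P :=
        F.comp_mem hconj hφ hconjP
      have hagree : ∀ x : P, (x : Ω) ∈ normalizerIn P Q →
          (φ.comp ((conjHom P (z : Ω)).codRestrict P hconjP)) x = φ' x := by
        intro x hx
        have := hz ⟨x, hx⟩
        exact this.symm
      have hfinN : Finite ↥(normalizerIn P Q) := finite_of_le hNS
      have hcardlt : Nat.card P - Nat.card (normalizerIn P Q) < n := by
        have h1 : Nat.card Q < Nat.card (normalizerIn P Q) := by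
          by_contra hge
          have : Q = normalizerIn P Q := Subgroup.eq_of_le_of_card_ge hQN (not_lt.1 hge)
          exact hx₀Q (this ▸ hx₀N)
        have h2 : Nat.card (normalizerIn P Q) ≤ Nat.card P := Subgroup.card_le_of_le hNP
        omega
      obtain ⟨z₁, hz₁N, hz₁c, hz₁⟩ := ih _ hcardlt (normalizerIn P Q) hNP hNc rfl _ φ' hφ₂ hφ' hagree
      have hz₁Q : (z₁ : Ω) ∈ Q := by
        apply hQ.2 Q (isConj_refl F hQ.1)
        refine ⟨hPS z₁.2, ?_⟩
        show (z₁ : Ω) ∈ Subgroup.centralizer (Q : Set Ω)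
        rw [Subgroup.mem_centralizer_iff]
        intro g hg
        exact (Subgroup.mem_centralizer_iff.1 hz₁c) g (hQN hg)
      refine ⟨⟨z, hzP⟩ * z₁, Q.mul_mem hzQ hz₁Q, ?_, fun y => ?_⟩
      · refine Subgroup.mul_mem _ hzc ?_
        rw [Subgroup.mem_centralizer_iff]
        intro g hg
        exact (Subgroup.mem_centralizer_iff.1 hz₁c) g (hQN hg)
      · rw [hz₁ y]
        show φ (⟨(z : Ω) * ((z₁ * y * z₁⁻¹ : P) : Ω) * (z : Ω)⁻¹, _⟩) = _
        congr 1
        apply Subtype.ext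
        simp only [Subgroup.coe_mul, Subgroup.coe_inv]
        group

/-- In a saturated fusion system over a finite p-group S: if Q ≤ P ≤ S with Q centric, and two maps of the system with source P agree on Q, then they differ by an inner automorphism of P induced by an element of the centre of Q. -/
theorem result {Ω : Type*} [Group Ω] {S : Subgroup Ω} [Finite S] (p : ℕ) [Fact p.Prime] (hS : IsPGroup p S) (F : Cfsg.FusionSystem S) (hF : F.IsSaturated p) (P Q : Subgroup Ω) (hQP : Q ≤ P) (hQ : F.IsCentric Q) (φ φ' : P →* Ω) (hφ : φ ∈ F.Hom P) (hφ' : φ' ∈ F.Hom P) (h : ∀ x : P, (x : Ω) ∈ Q → φ x = φ' x) : ∃ z : P, (z : Ω) ∈ Q ∧ (z : Ω) ∈ Subgroup.centralizer (Q : Set Ω) ∧ ∀ y : P, φ' y = φ (z * y * z⁻¹) := by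
  exact main F hS hF P _ Q hQP hQ rfl φ φ' hφ hφ' h

end Cfsg.Agent.S5095
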