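import Cfsg.Statements.S5102
import Cfsg.Agent.Lib.Helper85.FusionGroup

set_option autoImplicit false
open Cfsg

namespace Cfsg.Agent.S5102

/-- A normal p-subgroup of a finite group G is normal in the fusion system of G on a Sylow p-subgroup. -/
theorem result {G : Type*} [Group G] [Finite G] (p : ℕ) [Fact p.Prime] (S : Sylow p G) (R : Subgroup G) [R.Normal] (hR : IsPGroup p R) : (Cfsg.groupFusionSystem (S : Subgroup G)).IsNormal R := by
  have hRS : R ≤ (S : Subgroup G) := hR.le_sylow_of_normal S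
  refine ⟨hRS, ?_⟩
  rintro P φ ⟨hP, hφS, g, hg⟩
  have hPR : P ⊔ R ≤ (S : Subgroup G) := sup_le hP hRS
  have hval : ∀ x : ↥(P ⊔ R), g * (x : G) * g⁻¹ ∈ (S : Subgroup G) := by
    have : (P ⊔ R).map (MulAut.conj g).toMonoidHom ≤ (S : Subgroup G) := by
      rw [Subgroup.map_sup]
      apply sup_le
      · rintro _ ⟨x, hx, rfl⟩
        have := hφS ⟨x, hx⟩
        rw [hg] at this
        exact this
      · rintro _ ⟨x, hx, rfl⟩
        exact hRS (‹R.Normal›.conj_mem x hx g)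
    intro x
    exact this ⟨x, x.2, rfl⟩
  refine ⟨conjHom (P ⊔ R) g, ⟨hPR, hval, g, fun _ => rfl⟩, fun x => ?_, ?_⟩
  · rw [hg]
    rfl
  · ext y
    constructor
    · rintro ⟨⟨x, hx⟩, hxR, rfl⟩
      exact ‹R.Normal›.conj_mem x hxR g
    · intro hy
      have hy' : g⁻¹ * y * g⁻¹⁻¹ ∈ R := ‹R.Normal›.conj_mem y hy g⁻¹
      refine ⟨⟨g⁻¹ * y * g⁻¹⁻¹, le_sup_right (a := P) hy'⟩, hy', ?_⟩
      show g * (g⁻¹ * y * g⁻¹⁻¹) * g⁻¹ = y
      group

end Cfsg.Agent.S5102
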