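import Cfsg.Statements.S5103
import Cfsg.Agent.Lib.Helper85.FusionRealized
import Cfsg.Agent.Lib.Helper88.FusionAut

set_option autoImplicit false
open Cfsg

namespace Cfsg.Agent.S5103

open Cfsg.FusionSystem Cfsg.Agent.Lib.Helper85

/-- A fusion system over a finite p-group that has a model (a finite group realizing it on a Sylow p-subgroup with self-centralizing largest normal p-subgroup) is constrained. -/
theorem result {Ω : Type*} [Group Ω] {S : Subgroup Ω} [Finite S] (p : ℕ) [Fact p.Prime] (hS : IsPGroup p S) (F : Cfsg.FusionSystem S) {G : Type*} [Group G] (ι : S →* G) (hG : F.IsModel p G ι) : F.IsConstrained p := by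
  obtain ⟨hfin, hι, ⟨T, hT⟩, hC⟩ := hG
  have := hfin
  have hinj := hι.1
  refine ⟨isSaturated_of_isRealizedBy hι T hT, ?_⟩
  have hOn : (Cfsg.pCore p G).Normal := Subgroup.sSup_normal _ (fun _ h => h.1)
  have hOp : IsPGroup p (Cfsg.pCore p G) := Sylow.sSup_of_normal _ (fun _ h => h.2) (fun _ h => h.1)
  have hOT : Cfsg.pCore p G ≤ ι.range := hT ▸ hOp.le_sylow_of_normal T
  set Q : Subgroup Ω := ((Cfsg.pCore p G).comap ι).map S.subtype with hQdef
  have hQS : Q ≤ S := Subgroup.map_subtype_le _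
  have hmemQ : ∀ (x : Ω) (hx : x ∈ S), x ∈ Q ↔ ι ⟨x, hx⟩ ∈ Cfsg.pCore p G := by
    intro x hx
    constructor
    · rintro ⟨y, hy, hyx⟩
      have : y = ⟨x, hx⟩ := Subtype.ext hyx
      rw [← this]
      exact hy
    · intro h
      exact ⟨⟨x, hx⟩, h, rfl⟩
  have hconjO : ∀ (g w : G), w ∈ Cfsg.pCore p G → g * w * g⁻¹ ∈ Cfsg.pCore p G :=
    fun g w hw => hOn.conj_mem w hw g
  have hQnormal : F.IsNormal Q := by
    refine ⟨hQS, fun P φ hφ => ?_⟩
    have hP : P ≤ S := (F.le_of_mem hφ).1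
    have hPQ : P ⊔ Q ≤ S := sup_le hP hQS
    obtain ⟨g, hg⟩ := exists_of_mem_Hom hι hφ
    have hval : ∀ x : ↥(P ⊔ Q), g * ι ⟨x, hPQ x.2⟩ * g⁻¹ ∈ ι.range := by
      apply forall_mem_of_sup ((MulAut.conj g).toMonoidHom.comp (ι.comp (Subgroup.inclusion hPQ)))
      · intro a ha
        show g * ι ⟨a, _⟩ * g⁻¹ ∈ ι.range
        have := hg ⟨a, ha⟩
        exact ⟨_, this⟩
      · intro b hb
        show g * ι ⟨b, _⟩ * g⁻¹ ∈ ι.range
        exact hOT (hconjO g _ ((hmemQ b (hQS hb)).mp hb))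
    refine ⟨conjι hinj hPQ g hval, conjι_mem_Hom hι hPQ g hval, fun x => ?_, ?_⟩
    · have h1 := ι_conjι hinj hPQ g hval (Subgroup.inclusion le_sup_left x)
      have h2 : ι ⟨conjι hinj hPQ g hval (Subgroup.inclusion le_sup_left x), conjι_mem hinj hPQ g hval _⟩ =
          ι ⟨φ x, (F.le_of_mem hφ).2 x⟩ := by
        rw [h1, hg x]
        rfl
      exact congrArg (fun t : S => (t : Ω)) (hinj h2)
    · rw [map_subgroupOf_eq_iff]
      constructor
      · intro x hxR hxQ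
        rw [hmemQ _ (conjι_mem hinj hPQ g hval ⟨x, hxR⟩), ι_conjι hinj hPQ g hval ⟨x, hxR⟩]
        exact hconjO g _ ((hmemQ x (hQS hxQ)).mp hxQ)
      · intro y hy
        have hyO : ι ⟨y, hQS hy⟩ ∈ Cfsg.pCore p G := (hmemQ y (hQS hy)).mp hy
        have h1 : g⁻¹ * ι ⟨y, hQS hy⟩ * g⁻¹⁻¹ ∈ Cfsg.pCore p G := hconjO g⁻¹ _ hyO
        obtain ⟨x₀, hx₀⟩ := hOT h1
        have hx₀Q : (x₀ : Ω) ∈ Q := (hmemQ x₀ x₀.2).mpr (by rw [Subtype.coe_eta, hx₀]; exact h1)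
        refine ⟨x₀, le_sup_right (a := P) hx₀Q, hx₀Q, ?_⟩
        have h2 := ι_conjι hinj hPQ g hval ⟨x₀, le_sup_right (a := P) hx₀Q⟩
        have h3 : ι ⟨conjι hinj hPQ g hval ⟨x₀, le_sup_right (a := P) hx₀Q⟩, conjι_mem hinj hPQ g hval _⟩ =
            ι ⟨y, hQS hy⟩ := by
          rw [h2]
          have : ι ⟨(x₀ : Ω), hPQ (le_sup_right (a := P) hx₀Q)⟩ = g⁻¹ * ι ⟨y, hQS hy⟩ * g⁻¹⁻¹ := by
            rw [← hx₀]
          rw [this]
          group
        exact congrArg (fun t : S => (t : Ω)) (hinj h3)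
  refine ⟨Q, hQnormal, hQS, fun R hR => ?_⟩
  obtain ⟨φ, hφ, hr⟩ := hR
  have hRQ : R = Q := by
    rw [← hr]
    exact Cfsg.Agent.Lib.Helper88.isNormal_range_eq F hQnormal hφ
  rw [hRQ]
  intro c hc
  rw [hmemQ c hc.1]
  apply hC
  rw [Subgroup.mem_centralizer_iff]
  intro w hw
  obtain ⟨z, hz⟩ := hOT hw
  have hzQ : (z : Ω) ∈ Q := (hmemQ z z.2).mpr (by rw [Subtype.coe_eta, hz]; exact hw)
  have h1 : (z : Ω) * c = c * z := Subgroup.mem_centralizer_iff.mp hc.2 z hzQ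
  rw [← hz, ← map_mul, ← map_mul]
  congr 1
  exact Subtype.ext h1

end Cfsg.Agent.S5103
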