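import Cfsg.Statements.S5104
import Cfsg.Agent.Lib.Helper87.FusionSat

set_option autoImplicit false
open Cfsg

namespace Cfsg.Agent.S5104

open Cfsg.FusionSystem Cfsg.Agent.Lib.Helper87

variable {Ω : Type*} [Group Ω] {S : Subgroup Ω}

/-- A map defined on `N ≥ Q` restricting to an isomorphism `Q ≃ P` sends `N ∩ C_S(Q)` into `C_S(P)`. -/
theorem map_centralizerIn (F : FusionSystem S) {N Q P : Subgroup Ω} {ψ : N →* Ω} (hψ : ψ ∈ F.Hom N)
    (e : Q ≃* P) (hψe : ∀ (x : Ω) (hx : x ∈ Q) (hx' : x ∈ N), ψ ⟨x, hx'⟩ = e ⟨x, hx⟩)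
    (hQN : Q ≤ N) (c : N) (hc : (c : Ω) ∈ centralizerIn S Q) : ψ c ∈ centralizerIn S P := by
  refine ⟨hom_map_mem F hψ c, ?_⟩
  show ψ c ∈ Subgroup.centralizer (P : Set Ω)
  rw [Subgroup.mem_centralizer_iff]
  intro y hy
  set u := e.symm ⟨y, hy⟩ with hu
  have hyu : y = ψ ⟨u, hQN u.2⟩ := by
    rw [hψe u u.2 (hQN u.2)]
    simp [hu]
  rw [hyu, ← map_mul, ← map_mul]
  congr 1
  apply Subtype.ext
  exact Subgroup.mem_centralizer_iff.mp hc.2 u u.2

/-- In a saturated fusion system over a finite p-group S, a fully centralized subgroup U with C_S(U) ≤ U is centric. -/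
theorem result {Ω : Type*} [Group Ω] {S : Subgroup Ω} [Finite S] (p : ℕ) [Fact p.Prime] (hS : IsPGroup p S) (F : Cfsg.FusionSystem S) (hF : F.IsSaturated p) (U : Subgroup Ω) (hU : F.IsFullyCentralized U) (hC : Cfsg.FusionSystem.centralizerIn S U ≤ U) : F.IsCentric U := by
  obtain ⟨hUS, hUmax⟩ := hU
  obtain ⟨P, hUP, hPa, hPr⟩ := hF U hUS
  have hPS : P ≤ S := IsConj_le_right hUP
  -- the extension for `U`
  obtain ⟨ψU, eU, hψU, heU, hψUe⟩ := exists_extension F hS hPa hPr hUP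
  have hUN : U ≤ normalizerIn S U := le_normalizerIn hUS
  have hCN : ∀ Q : Subgroup Ω, centralizerIn S Q ≤ normalizerIn S Q := fun Q =>
    inf_le_inf_left S (Subgroup.centralizer_le_normalizer _)
  -- `C_S(P) ≤ P`
  have hCP : centralizerIn S P ≤ P := by
    have hfin : Finite (centralizerIn S U) := finite_of_le inf_le_left
    have hfin' : Finite (centralizerIn S P) := finite_of_le inf_le_left
    let f : centralizerIn S U → centralizerIn S P := fun c =>
      ⟨ψU ⟨c, hCN U c.2⟩, map_centralizerIn F hψU eU hψUe hUN ⟨c, hCN U c.2⟩ c.2⟩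
    have hfinj : Function.Injective f := by
      intro a b hab
      have h1 : ψU ⟨a, hCN U a.2⟩ = ψU ⟨b, hCN U b.2⟩ := congrArg Subtype.val hab
      have h2 := F.injective_of_mem hψU h1
      exact Subtype.ext (congrArg (fun z : normalizerIn S U => (z : Ω)) h2)
    have hcard : Nat.card (centralizerIn S P) ≤ Nat.card (centralizerIn S U) := hUmax P hUP
    have hfsurj : Function.Surjective f := by
      have hbij : Function.Bijective f := by
        rw [Nat.bijective_iff_injective_and_card]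
        refine ⟨hfinj, le_antisymm (Nat.card_le_card_of_injective f hfinj) hcard⟩
      exact hbij.2
    intro c' hc'
    obtain ⟨c, hc⟩ := hfsurj ⟨c', hc'⟩
    have h1 : ψU ⟨c, hCN U c.2⟩ = c' := congrArg Subtype.val hc
    have hcU : (c : Ω) ∈ U := hC c.2
    rw [hψUe c hcU (hCN U c.2)] at h1
    rw [← h1]
    exact (eU ⟨c, hcU⟩).2
  refine ⟨hUS, fun Q hUQ => ?_⟩
  have hQP : F.IsConj Q P := IsConj_trans (IsConj_symm hUQ) hUP
  have hQS : Q ≤ S := IsConj_le_left hQP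
  obtain ⟨ψQ, eQ, hψQ, heQ, hψQe⟩ := exists_extension F hS hPa hPr hQP
  have hQN : Q ≤ normalizerIn S Q := le_normalizerIn hQS
  intro c hc
  have h1 : ψQ ⟨c, hCN Q hc⟩ ∈ P :=
    hCP (map_centralizerIn F hψQ eQ hψQe hQN ⟨c, hCN Q hc⟩ hc)
  set q := eQ.symm ⟨_, h1⟩ with hq
  have h2 : ψQ ⟨q, hQN q.2⟩ = ψQ ⟨c, hCN Q hc⟩ := by
    rw [hψQe q q.2 (hQN q.2)]
    simp [hq]
  have h3 := F.injective_of_mem hψQ h2
  have h4 : (q : Ω) = c := congrArg Subtype.val h3
  rw [← h4]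
  exact q.2

end Cfsg.Agent.S5104
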