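import Cfsg.Statements.S5105


set_option autoImplicit false
open Cfsg

namespace Cfsg.Agent.S5105

open Cfsg.FusionSystem

/-- An automorphism of a finite group `G` fixing a Sylow `p`-subgroup elementwise, where `Q ≤ T` is a normal subgroup
with `C_G(Q) ≤ Q`, is conjugation by an element of `C_G(Q) = Z(Q)`. -/
theorem aut_eq_conj_of_fix_sylow {G : Type*} [Group G] [Finite G] {p : ℕ} [Fact p.Prime] (T : Sylow p G)
    (Q : Subgroup G) [Q.Normal] (hQT : Q ≤ T) (hC : Subgroup.centralizer (Q : Set G) ≤ Q)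
    (ψ : G ≃* G) (hψ : ∀ x ∈ (T : Subgroup G), ψ x = x) :
    ∃ z ∈ Subgroup.centralizer (Q : Set G), ∀ g, ψ g = z * g * z⁻¹ := by
  classical
  set A := Subgroup.centralizer (Q : Set G) with hA
  have hAQ : A ≤ Q := hC
  have hcomm : ∀ a ∈ A, ∀ b ∈ A, a * b = b * a := fun a ha b hb =>
    Subgroup.mem_centralizer_iff.mp hb a (hAQ ha)
  let instA : CommGroup A :=
    { (inferInstance : Group A) with mul_comm := fun a b => Subtype.ext (hcomm a a.2 b b.2) }
  have hAnorm : A.Normal := inferInstance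
  have hζmem : ∀ g, ψ g * g⁻¹ ∈ A := by
    intro g
    rw [hA, Subgroup.mem_centralizer_iff]
    intro q hq
    have h1 : g⁻¹ * q * g ∈ Q := by
      have := ‹Q.Normal›.conj_mem q hq g⁻¹
      simpa using this
    have h2 : ψ (g⁻¹ * q * g) = g⁻¹ * q * g := hψ _ (hQT h1)
    have h3 : ψ q = q := hψ _ (hQT hq)
    have h4 : ψ g * (g⁻¹ * q * g) * (ψ g)⁻¹ = q := by
      rw [← h2, ← map_mul, ← map_inv, ← map_mul]
      have : g * (g⁻¹ * q * g) * g⁻¹ = q := by group
      rw [this, h3]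
    calc q * (ψ g * g⁻¹) = (ψ g * (g⁻¹ * q * g) * (ψ g)⁻¹) * (ψ g * g⁻¹) := by rw [h4]
      _ = ψ g * g⁻¹ * q := by group
  let ζ : G → A := fun g => ⟨ψ g * g⁻¹, hζmem g⟩
  let κ : G → A →* A := fun h =>
    { toFun := fun a => ⟨h * a * h⁻¹, hAnorm.conj_mem a a.2 h⟩
      map_one' := by apply Subtype.ext; simp
      map_mul' := by intro a b; apply Subtype.ext; simp }
  have hcocycle : ∀ g h, ζ (g * h) = ζ g * κ g (ζ h) := by
    intro g h
    apply Subtype.ext
    show ψ (g * h) * (g * h)⁻¹ = ψ g * g⁻¹ * (g * (ψ h * h⁻¹) * g⁻¹)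
    rw [map_mul]
    group
  have hζT : ∀ s ∈ (T : Subgroup G), ζ s = 1 := by
    intro s hs
    apply Subtype.ext
    show ψ s * s⁻¹ = 1
    rw [hψ s hs, mul_inv_cancel]
  have hκ1 : ∀ g, κ g 1 = 1 := fun g => map_one _
  let ζbar : G ⧸ (T : Subgroup G) → A := fun c => Quotient.liftOn' c ζ (by
    intro a b hab
    have hab' : a⁻¹ * b ∈ (T : Subgroup G) := QuotientGroup.leftRel_apply.mp hab
    have : b = a * (a⁻¹ * b) := by group
    rw [this, hcocycle, hζT _ hab', hκ1, mul_one])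
  have hζbar : ∀ (h : G) (c : G ⧸ (T : Subgroup G)), ζbar (h • c) = ζ h * κ h (ζbar c) := by
    intro h c
    induction c using Quotient.inductionOn' with
    | h g =>
      show ζbar (h • (QuotientGroup.mk g : G ⧸ (T : Subgroup G))) = _
      rw [MulAction.Quotient.smul_mk]
      exact hcocycle h g
  have : Fintype (G ⧸ (T : Subgroup G)) := Fintype.ofFinite _
  set w : A := ∏ c : G ⧸ (T : Subgroup G), ζbar c with hw
  set n := Fintype.card (G ⧸ (T : Subgroup G)) with hn
  have hkey : ∀ h : G, w = ζ h ^ n * κ h w := by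
    intro h
    have h1 : ∏ c : G ⧸ (T : Subgroup G), ζbar (h • c) = w :=
      Equiv.prod_comp (MulAction.toPerm h : Equiv.Perm (G ⧸ (T : Subgroup G))) ζbar
    have h2 : ∏ c : G ⧸ (T : Subgroup G), ζbar (h • c) = ζ h ^ n * κ h w := by
      simp only [hζbar, Finset.prod_mul_distrib, Finset.prod_const, Finset.card_univ, ← map_prod]
      rfl
    exact h1.symm.trans h2
  -- coprimality
  have hAp : IsPGroup p A := T.isPGroup'.to_le (hAQ.trans hQT)
  have hcop : (Nat.card A).Coprime n := by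
    obtain ⟨k, hk⟩ := IsPGroup.iff_card.mp hAp
    rw [hk]
    apply Nat.Coprime.pow_left
    rw [Nat.Prime.coprime_iff_not_dvd Fact.out]
    have : n = (T : Subgroup G).index := by
      rw [hn, Subgroup.index, Nat.card_eq_fintype_card]
    rw [this]
    exact T.not_dvd_index
  obtain ⟨z, hzn⟩ : ∃ z : A, z ^ n = w := by
    refine ⟨(powCoprime hcop).symm w, ?_⟩
    have := (powCoprime hcop).apply_symm_apply w
    rwa [powCoprime_apply] at this
  have hζ : ∀ h : G, ζ h = z * (κ h z)⁻¹ := by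
    intro h
    have h1 : (ζ h) ^ n = (z * (κ h z)⁻¹) ^ n := by
      rw [mul_pow, inv_pow, ← map_pow, hzn]
      have := hkey h
      rw [eq_mul_inv_iff_mul_eq]
      exact this.symm
    have h2 := (powCoprime hcop).injective (a₁ := ζ h) (a₂ := z * (κ h z)⁻¹)
    apply h2
    rw [powCoprime_apply, powCoprime_apply]
    exact h1
  refine ⟨z, z.2, fun g => ?_⟩
  have h1 := congrArg Subtype.val (hζ g)
  have h2 : ψ g * g⁻¹ = z * (g * z * g⁻¹)⁻¹ := h1
  calc ψ g = ψ g * g⁻¹ * g := by group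
    _ = z * (g * z * g⁻¹)⁻¹ * g := by rw [h2]
    _ = z * g * (z : G)⁻¹ := by group

/-- Model Theorem, rigidity: if G is a model of a constrained fusion system over a finite p-group S (through ι : S → G), then every automorphism of G fixing ι(S) elementwise is conjugation by ι(z) for some z in the centre of S. -/
theorem result {Ω : Type*} [Group Ω] {S : Subgroup Ω} [Finite S] (p : ℕ) [Fact p.Prime] (hS : IsPGroup p S) (F : Cfsg.FusionSystem S) (hF : F.IsConstrained p) {G : Type*} [Group G] (ι : S →* G) (hG : F.IsModel p G ι) (ψ : G ≃* G) (hψ : ∀ x : S, ψ (ι x) = ι x) : ∃ z : S, z ∈ Subgroup.center S ∧ ∀ g : G, ψ g = ι z * g * (ι z)⁻¹ := by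
  obtain ⟨hfin, ⟨hinj, -⟩, ⟨T, hT⟩, hC⟩ := hG
  have := hfin
  have hQn : (Cfsg.pCore p G).Normal := Subgroup.sSup_normal _ (fun _ h => h.1)
  have hQp : IsPGroup p (Cfsg.pCore p G) := Sylow.sSup_of_normal _ (fun _ h => h.2) (fun _ h => h.1)
  have hQT : Cfsg.pCore p G ≤ (T : Subgroup G) := hQp.le_sylow_of_normal T
  have hψT : ∀ x ∈ (T : Subgroup G), ψ x = x := by
    intro x hx
    rw [hT] at hx
    obtain ⟨s, rfl⟩ := hx
    exact hψ s
  obtain ⟨z', hz', hconj⟩ := aut_eq_conj_of_fix_sylow T (Cfsg.pCore p G) hQT hC ψ hψT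
  have hz'T : z' ∈ (T : Subgroup G) := hQT (hC hz')
  rw [hT] at hz'T
  obtain ⟨z, rfl⟩ := hz'T
  refine ⟨z, ?_, hconj⟩
  rw [Subgroup.mem_center_iff]
  intro x
  have h1 := hconj (ι x)
  rw [hψ x] at h1
  have h2 : ι x = ι (z * x * z⁻¹) := by
    rw [map_mul, map_mul, map_inv]
    exact h1
  have h3 := hinj h2
  calc x * z = (z * x * z⁻¹) * z := by rw [← h3]
    _ = z * x := by group

end Cfsg.Agent.S5105
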