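import Cfsg.Statements.S5106
import Cfsg.Agent.S5086
import Cfsg.Agent.Lib.Helper88.FusionAut
import Cfsg.Agent.Lib.Helper87.FusionNormal

set_option autoImplicit false
open Cfsg

namespace Cfsg.Agent.S5106

open Cfsg.FusionSystem
open Cfsg.Agent.Lib.Helper87

variable {Ω : Type*} [Group Ω] {S : Subgroup Ω}

/-- The automorphisms in `Aut_F(P)` that are trivial modulo `R` and act on `P ∩ R` as conjugation by an element of `R`. -/
def autY (F : FusionSystem S) (P R : Subgroup Ω) : Subgroup (MulAut P) where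
  carrier := {α | α ∈ F.autGroup P ∧ (∀ x : P, (x : Ω)⁻¹ * ((α x : P) : Ω) ∈ R) ∧
    ∃ s ∈ R, ∀ x : P, (x : Ω) ∈ R → ((α x : P) : Ω) = s * x * s⁻¹}
  one_mem' := ⟨Subgroup.one_mem _, fun x => by
      show (x : Ω)⁻¹ * (x : Ω) ∈ R
      rw [inv_mul_cancel]; exact R.one_mem,
    1, R.one_mem, fun x _ => by
      show (x : Ω) = 1 * x * 1⁻¹
      simp⟩
  mul_mem' := by
    rintro α β ⟨hα, hα1, sα, hsα, hα2⟩ ⟨hβ, hβ1, sβ, hsβ, hβ2⟩
    refine ⟨Subgroup.mul_mem _ hα hβ, fun x => ?_, sα * sβ, R.mul_mem hsα hsβ, fun x hx => ?_⟩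
    · have e : (x : Ω)⁻¹ * (((α * β) x : P) : Ω) =
          ((x : Ω)⁻¹ * ((β x : P) : Ω)) * (((β x : P) : Ω)⁻¹ * ((α (β x) : P) : Ω)) := by
        rw [MulAut.mul_apply]; group
      rw [e]
      exact R.mul_mem (hβ1 x) (hα1 (β x))
    · have h1 : ((β x : P) : Ω) ∈ R := by
        rw [hβ2 x hx]
        exact R.mul_mem (R.mul_mem hsβ hx) (R.inv_mem hsβ)
      rw [MulAut.mul_apply, hα2 (β x) h1, hβ2 x hx]
      group
  inv_mem' := by
    rintro α ⟨hα, hα1, sα, hsα, hα2⟩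
    have e1 : ∀ x : P, α (α⁻¹ x) = x := fun x => MulAut.apply_inv_self _ _ _
    have h1 : ∀ x : P, (x : Ω)⁻¹ * ((α⁻¹ x : P) : Ω) ∈ R := by
      intro x
      have h := hα1 (α⁻¹ x)
      rw [e1] at h
      have e : (x : Ω)⁻¹ * ((α⁻¹ x : P) : Ω) = (((α⁻¹ x : P) : Ω)⁻¹ * (x : Ω))⁻¹ := by group
      rw [e]
      exact R.inv_mem h
    refine ⟨Subgroup.inv_mem _ hα, h1, sα⁻¹, R.inv_mem hsα, fun x hx => ?_⟩
    have h2 : ((α⁻¹ x : P) : Ω) ∈ R := by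
      have e : ((α⁻¹ x : P) : Ω) = (x : Ω) * ((x : Ω)⁻¹ * ((α⁻¹ x : P) : Ω)) := by group
      rw [e]
      exact R.mul_mem hx (h1 x)
    have h3 := hα2 (α⁻¹ x) h2
    rw [e1] at h3
    rw [h3]
    group

theorem autY_le (F : FusionSystem S) (P R : Subgroup Ω) : autY F P R ≤ F.autGroup P := fun _ h => h.1

/-- `autY` is a `p`-group. -/
theorem autY_isPGroup [Finite S] {p : ℕ} [Fact p.Prime] (hS : IsPGroup p S) (F : FusionSystem S)
    {P R : Subgroup Ω} (hPS : P ≤ S) (hRS : R ≤ S) : IsPGroup p (autY F P R) := by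
  obtain ⟨e, he⟩ := IsPGroup.iff_card.1 hS
  rintro ⟨α, hα, hα1, s, hs, hα2⟩
  refine ⟨e + e, Subtype.ext ?_⟩
  show α ^ p ^ (e + e) = 1
  have hpow : ∀ g : Ω, g ∈ S → g ^ p ^ e = 1 := by
    intro g hg
    have : (⟨g, hg⟩ : S) ^ p ^ e = 1 := by
      rw [← he]; exact pow_card_eq_one'
    exact congrArg Subtype.val this
  -- powers of `α` act on `P ∩ R` as conjugation by powers of `s`
  have hstep : ∀ n : ℕ, ∀ x : P, (x : Ω) ∈ R → (((α ^ n) x : P) : Ω) = s ^ n * x * (s ^ n)⁻¹ := by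
    intro n
    induction n with
    | zero => intro x _; simp
    | succ n ih =>
      intro x hx
      have h1 : (((α ^ n) x : P) : Ω) ∈ R := by
        rw [ih x hx]
        exact R.mul_mem (R.mul_mem (R.pow_mem hs n) hx) (R.inv_mem (R.pow_mem hs n))
      rw [pow_succ', MulAut.mul_apply, hα2 _ h1, ih x hx, pow_succ']
      group
  have hβfix : ∀ x : P, (x : Ω) ∈ R → (α ^ p ^ e) x = x := by
    intro x hx
    apply Subtype.ext
    rw [hstep _ x hx, hpow s (hRS hs)]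
    simp
  have hαY : α ∈ autY F P R := ⟨hα, hα1, s, hs, hα2⟩
  have hβmem : α ^ p ^ e ∈ autY F P R := Subgroup.pow_mem _ hαY _
  ext x
  rw [pow_add, pow_mul]
  have hb : (α ^ p ^ e) (x⁻¹ * (α ^ p ^ e) x) = x⁻¹ * (α ^ p ^ e) x := hβfix _ (hβmem.2.1 x)
  have hxb : (α ^ p ^ e) x = x * (x⁻¹ * (α ^ p ^ e) x) := by group
  have h2 := pow_apply_mul_pow' (α ^ p ^ e) x _ hxb hb (p ^ e)
  rw [h2]
  have h3 : (x⁻¹ * (α ^ p ^ e) x) ^ p ^ e = 1 := by
    apply Subtype.ext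
    have := hpow ((x⁻¹ * (α ^ p ^ e) x : P) : Ω) (hPS (x⁻¹ * (α ^ p ^ e) x).2)
    simpa using this
  rw [h3, mul_one]
  rfl

/-- Under the extension hypothesis, `autY` is normalized by `Aut_F(P)`. -/
theorem autY_conj_mem (F : FusionSystem S) {P R : Subgroup Ω} (hPS : P ≤ S) (hsc : F.StronglyClosed R)
    (hstar : ∀ (P' : Subgroup Ω) (hPR : P' ≤ R) (φ : P' →* Ω), φ ∈ F.Hom P' →
      ∃ α ∈ F.autGroup R, ∀ x : P', ((α (Subgroup.inclusion hPR x) : R) : Ω) = φ x)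
    {γ α : MulAut P} (hγ : γ ∈ F.autGroup P) (hα : α ∈ autY F P R) : γ * α * γ⁻¹ ∈ autY F P R := by
  obtain ⟨hαF, hα1, s, hs, hα2⟩ := hα
  have e1 : ∀ x : P, γ (γ⁻¹ x) = x := fun x => MulAut.apply_inv_self _ _ _
  have hγF : P.subtype.comp (γ : P ≃* P).toMonoidHom ∈ F.Hom P := (mem_autGroup_iff F hPS).1 hγ
  have hres := restrict_mem F hγF (inf_le_left : P ⊓ R ≤ P)
  obtain ⟨γt, hγt, hγte⟩ := hstar (P ⊓ R) inf_le_right _ hres
  have hγte' : ∀ (z : P) (hz : (z : Ω) ∈ R), ((γt ⟨z, hz⟩ : R) : Ω) = ((γ z : P) : Ω) :=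
    fun z hz => hγte ⟨z, z.2, hz⟩
  refine ⟨Subgroup.mul_mem _ (Subgroup.mul_mem _ hγ hαF) (Subgroup.inv_mem _ hγ), fun x => ?_,
    ((γt ⟨s, hs⟩ : R) : Ω), (γt ⟨s, hs⟩).2, fun x hx => ?_⟩
  · have h1 := hα1 (γ⁻¹ x)
    have h2 := StronglyClosed_aut_mem hsc hPS hγ (r := (γ⁻¹ x)⁻¹ * α (γ⁻¹ x)) h1
    have e : (x : Ω)⁻¹ * (((γ * α * γ⁻¹) x : P) : Ω) = ((γ ((γ⁻¹ x)⁻¹ * α (γ⁻¹ x)) : P) : Ω) := by
      rw [map_mul, map_inv, e1]; rfl
    rw [e]; exact h2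
  · have hyR : ((γ⁻¹ x : P) : Ω) ∈ R := StronglyClosed_aut_mem hsc hPS (Subgroup.inv_mem _ hγ) hx
    have h1 : ((α (γ⁻¹ x) : P) : Ω) = s * (γ⁻¹ x : P) * s⁻¹ := hα2 _ hyR
    have h1R : ((α (γ⁻¹ x) : P) : Ω) ∈ R := by
      rw [h1]; exact R.mul_mem (R.mul_mem hs hyR) (R.inv_mem hs)
    have h2 := hγte' (α (γ⁻¹ x)) h1R
    have h3 := hγte' (γ⁻¹ x) hyR
    rw [e1] at h3
    have h4 : (⟨((α (γ⁻¹ x) : P) : Ω), h1R⟩ : R) = ⟨s, hs⟩ * ⟨((γ⁻¹ x : P) : Ω), hyR⟩ * ⟨s, hs⟩⁻¹ :=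
      Subtype.ext h1
    show ((γ (α (γ⁻¹ x)) : P) : Ω) = _
    rw [← h2, h4, map_mul, map_mul, map_inv, ← h3]
    rfl

/-- In a saturated fusion system over a finite p-group S, a subgroup R ≤ S is normal in the system if and only if every map of the system whose source is a subgroup of R is the restriction of an element of Aut_F(R). -/
theorem result {Ω : Type*} [Group Ω] {S : Subgroup Ω} [Finite S] (p : ℕ) [Fact p.Prime] (hS : IsPGroup p S) (F : Cfsg.FusionSystem S) (hF : F.IsSaturated p) (R : Subgroup Ω) (hRS : R ≤ S) : F.IsNormal R ↔ ∀ (P : Subgroup Ω) (hPR : P ≤ R) (φ : P →* Ω), φ ∈ F.Hom P → ∃ α ∈ F.autGroup R, ∀ x : P, ((α (Subgroup.inclusion hPR x) : R) : Ω) = φ x := by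
  constructor
  · intro hN P hPR φ hφ
    obtain ⟨ψ, hψ, hψ1, α, hα, hαe⟩ := Cfsg.Agent.Lib.Helper88.exists_extension_aut_of_isNormal F hN hφ
    refine ⟨α, hα, fun x => ?_⟩
    rw [hαe, ← hψ1 x]
    rfl
  · intro hstar
    have hsc : F.StronglyClosed R := ⟨hRS, fun P hPR φ hφ x => by
      obtain ⟨α, -, e⟩ := hstar P hPR φ hφ
      rw [← e x]; exact (α _).2⟩
    rw [Cfsg.Agent.S5086.result p hS F hF R]
    refine ⟨hsc, fun P hcen hrad => ?_⟩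
    by_contra hRP
    have hPS : P ≤ S := hcen.1
    have hPR : P ⊔ R ≤ S := sup_le hPS hRS
    have hfin : Finite ↥(P ⊔ R) := finite_of_le hPR
    have hne : P ≠ P ⊔ R := fun h => hRP (h ▸ le_sup_right)
    obtain ⟨x, hxN, hxP⟩ := exists_mem_normalizerIn_not_mem (hS.to_le hPR) (le_sup_left : P ≤ P ⊔ R) hne
    have hx' : x ∈ R ⊔ P := by rw [sup_comm]; exact hxN.1
    obtain ⟨r, hr, u, hu, rfl⟩ := exists_mul_of_mem_sup
      (fun k hk h hh => StronglyClosed_conj_mem hsc (hPS hk) hh) hx'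
    have hrN : r ∈ Subgroup.normalizer (P : Set Ω) := by
      have : r = (r * u) * u⁻¹ := by group
      rw [this]
      exact Subgroup.mul_mem _ hxN.2 (Subgroup.inv_mem _ (Subgroup.le_normalizer hu))
    have hrP : r ∉ P := fun h => hxP (P.mul_mem h hu)
    have hcY : conjAut P r hrN ∈ autY F P R := by
      refine ⟨autInducedBy_le_autGroup F hPS (mem_autInducedBy_iff.2 ⟨r, hRS hr, fun y => rfl⟩),
        fun y => ?_, r, hr, fun y _ => rfl⟩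
      show (y : Ω)⁻¹ * (r * y * r⁻¹) ∈ R
      have h1 := StronglyClosed_conj_mem hsc (S.inv_mem (hPS y.2)) hr
      have e : (y : Ω)⁻¹ * (r * (y : Ω) * r⁻¹) = ((y : Ω)⁻¹ * r * ((y : Ω)⁻¹)⁻¹) * r⁻¹ := by group
      rw [e]; exact R.mul_mem h1 (R.inv_mem hr)
    have hYn : ((autY F P R).subgroupOf (F.autGroup P)).Normal := by
      constructor
      intro n hn g
      rw [Subgroup.mem_subgroupOf] at hn ⊢
      exact autY_conj_mem F hPS hsc hstar g.2 hn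
    have hYp : IsPGroup p ((autY F P R).subgroupOf (F.autGroup P)) :=
      (autY_isPGroup hS F hPS hRS).comap_subtype
    have hYle : (autY F P R).subgroupOf (F.autGroup P) ≤ pCore p (F.autGroup P) := le_sSup ⟨hYn, hYp⟩
    have hInn : conjAut P r hrN ∈ Inn P := by
      rw [← hrad.2]
      exact ⟨⟨conjAut P r hrN, hcY.1⟩, hYle hcY, rfl⟩
    obtain ⟨u', hu'⟩ := hInn
    have hcent : (u' : Ω)⁻¹ * r ∈ centralizerIn S P := by
      refine ⟨S.mul_mem (S.inv_mem (hPS u'.2)) (hRS hr), ?_⟩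
      show (u' : Ω)⁻¹ * r ∈ Subgroup.centralizer (P : Set Ω)
      rw [Subgroup.mem_centralizer_iff]
      intro y hy
      have h1 := congrArg (fun a : MulAut P => ((a ⟨y, hy⟩ : P) : Ω)) hu'
      have h2 : (u' : Ω) * y * (u' : Ω)⁻¹ = r * y * r⁻¹ := h1
      have h3 : y = (u' : Ω)⁻¹ * (r * y * r⁻¹) * u' := by rw [← h2]; group
      calc y * ((u' : Ω)⁻¹ * r) = ((u' : Ω)⁻¹ * (r * y * r⁻¹) * u') * ((u' : Ω)⁻¹ * r) := by rw [← h3]
        _ = (u' : Ω)⁻¹ * r * y := by group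
    have h5 := hcen.2 P (isConj_refl F hPS) hcent
    apply hrP
    have e : r = (u' : Ω) * ((u' : Ω)⁻¹ * r) := by group
    rw [e]; exact P.mul_mem u'.2 h5

end Cfsg.Agent.S5106
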