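import Cfsg.Statements.S5107
import Cfsg.Agent.Lib.Helper85.FusionRealized
import Cfsg.Agent.Lib.Helper87.FusionNormal

set_option autoImplicit false
open Cfsg

namespace Cfsg.Agent.S5107

open Cfsg.FusionSystem Cfsg.Agent.Lib.Helper85
open scoped commutatorElement

/-- If a Sylow p-subgroup S of a finite group G has nilpotency class at most two and its centre is strongly closed in S with respect to G, then every map of the fusion system of G on S is conjugation by an element of N_G(S), and S is the largest subgroup normal in that fusion system. -/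
theorem result {G : Type*} [Group G] [Finite G] (p : ℕ) [Fact p.Prime] (S : Sylow p G) (hcl : ⁅(S : Subgroup G), (S : Subgroup G)⁆ ≤ (S : Subgroup G) ⊓ Subgroup.centralizer ((S : Subgroup G) : Set G)) (hZ : Cfsg.IsStronglyClosed ((S : Subgroup G) ⊓ Subgroup.centralizer ((S : Subgroup G) : Set G)) (S : Subgroup G)) : (∀ (P : Subgroup G) (φ : P →* G), φ ∈ (Cfsg.groupFusionSystem (S : Subgroup G)).Hom P → ∃ g ∈ Subgroup.normalizer ((S : Subgroup G) : Set G), ∀ x : P, φ x = g * (x : G) * g⁻¹) ∧ (Cfsg.groupFusionSystem (S : Subgroup G)).core = S := by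
  set F := Cfsg.groupFusionSystem (S : Subgroup G) with hFdef
  set Z := (S : Subgroup G) ⊓ Subgroup.centralizer ((S : Subgroup G) : Set G) with hZdef
  have hfinS : Finite (S : Subgroup G) := inferInstance
  have hS : IsPGroup p (S : Subgroup G) := S.isPGroup'
  have hF : F.IsSaturated p := groupFusionSystem_isSaturated S
  have hSsc : F.StronglyClosed (S : Subgroup G) :=
    ⟨le_rfl, fun R hR φ hφ x => (F.le_of_mem hφ).2 x⟩
  set c : ℕ → Subgroup G := fun k => if k = 0 then ⊥ else if k = 1 then Z else (S : Subgroup G) with hc
  have hnormal : F.IsNormal (S : Subgroup G) := by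
    refine Cfsg.Agent.Lib.Helper87.isNormal_of_chain F hS hF (S : Subgroup G) hSsc 2 c ?_ ?_ ?_ ?_ ?_
    · simp [hc]
    · intro k hk
      have h0 : k ≠ 0 := by omega
      have h1 : k ≠ 1 := by omega
      simp [hc, h0, h1]
    · intro a b hab
      by_cases ha : a = 0
      · simp [hc, ha]
      · have hb : b ≠ 0 := by omega
        by_cases ha1 : a = 1
        · by_cases hb1 : b = 1
          · simp [hc, ha1, hb1]
          · simp only [hc, ha1, hb, hb1, if_false, if_true]
            exact inf_le_left
        · have hb1 : b ≠ 1 := by omega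
          simp [hc, ha, ha1, hb, hb1]
    · intro k hk
      rw [Subgroup.commutator_le]
      intro x hx y hy
      interval_cases k
      · have hx' : x ∈ Z := by simpa [hc] using hx
        have : ⁅x, y⁆ = 1 := by
          rw [commutatorElement_eq_one_iff_commute]
          exact (Subgroup.mem_centralizer_iff.mp hx'.2 y hy).symm
        rw [this]
        exact Subgroup.one_mem _
      · have hx' : x ∈ (S : Subgroup G) := by simpa [hc] using hx
        have : ⁅x, y⁆ ∈ Z := hcl (Subgroup.commutator_mem_commutator hx' hy)
        simpa [hc] using this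
    · intro k hk
      interval_cases k
      · have : c 0 = ⊥ := by simp [hc]
        rw [this]
        refine ⟨bot_le, fun φ _ => ?_⟩
        apply le_antisymm _ bot_le
        rintro _ ⟨⟨x, hx⟩, rfl⟩
        have : x = 1 := Subgroup.mem_bot.mp hx
        subst this
        have e : (⟨1, hx⟩ : (⊥ : Subgroup G)) = 1 := rfl
        rw [e, map_one]
        exact Subgroup.one_mem _
      · have : c 1 = Z := by simp [hc]
        rw [this]
        refine ⟨inf_le_left, fun φ hφ => ?_⟩
        obtain ⟨-, hφS, g, hg⟩ := hφ
        have hle : φ.range ≤ Z := by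
          rintro _ ⟨x, rfl⟩
          have h1 := hφS x
          rw [hg x] at h1 ⊢
          exact hZ.2 x x.2 g h1
        have hfinZ : Finite Z := Finite.of_injective (Subgroup.inclusion (inf_le_left : Z ≤ (S : Subgroup G)))
          (Subgroup.inclusion_injective _)
        apply Subgroup.eq_of_le_of_card_ge hle
        have hinj : Function.Injective φ := by
          intro a b hab
          rw [hg a, hg b] at hab
          exact Subtype.ext (mul_left_cancel (mul_right_cancel hab))
        rw [Nat.card_congr (Equiv.ofInjective φ hinj)]
        rfl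
  constructor
  · intro P φ hφ
    obtain ⟨ψ, ⟨-, hψS, g, hg⟩, hψP, hψQ⟩ := hnormal.2 P φ hφ
    obtain ⟨hQ1, hQ2⟩ := (map_subgroupOf_eq_iff ψ).mp hψQ
    refine ⟨g, ?_, fun x => ?_⟩
    · rw [Subgroup.mem_normalizer_iff]
      intro h
      constructor
      · intro hh
        have := hQ1 h (le_sup_right (a := P) hh) hh
        rwa [hg] at this
      · intro hh
        obtain ⟨x, hxR, hxS, hx⟩ := hQ2 _ hh
        rw [hg] at hx
        have : x = h := mul_left_cancel (mul_right_cancel hx)
        rw [← this]
        exact hxS
    · rw [← hψP x, hg]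
      rfl
  · apply le_antisymm
    · exact sSup_le fun Q hQ => hQ.1
    · exact le_sSup hnormal

end Cfsg.Agent.S5107
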