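import Cfsg.Statements.S5112
import Cfsg.Agent.Lib.Helper87.FusionSat

set_option autoImplicit false
open Cfsg

namespace Cfsg.Agent.S5112

open Cfsg.FusionSystem Cfsg.Agent.Lib.Helper87


theorem isPGroup_mulAut_of_dihedralLike {D : Type*} [Group D] {N K : ℕ} (hN : N = 2 ^ K) (ρ σ : ZMod N → D)
    (hcover : ∀ x : D, (∃ i, x = ρ i) ∨ (∃ i, x = σ i))
    (hρρ : ∀ i j, ρ i * ρ j = ρ (i + j))
    (hσρ : ∀ i j, σ i * ρ j = σ (i + j))
    (hρinj : Function.Injective ρ) (hρσ : ∀ i j, ρ i ≠ σ j)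
    (hord : ∀ i, orderOf (σ i) ≠ orderOf (ρ 1)) :
    IsPGroup 2 (MulAut D) := by
  subst hN
  have hNpos : NeZero (2 ^ K) := ⟨by positivity⟩
  have hρ0 : ρ 0 = 1 := by
    have := hρρ 0 0
    rw [add_zero] at this
    exact mul_left_cancel (this.trans (mul_one _).symm)
  have hρpow : ∀ (i : ZMod (2 ^ K)) (k : ℕ), (ρ i) ^ k = ρ (i * k) := by
    intro i k
    induction k with
    | zero => simp [hρ0]
    | succ k ih => rw [pow_succ, ih, hρρ]; congr 1; push_cast; ring
  -- Claim 1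
  have claim1 : ∀ α : MulAut D, ∃ a, ∀ i, α (ρ i) = ρ (a * i) := by
    intro α
    have h1 : orderOf (α (ρ 1)) = orderOf (ρ 1) := MulEquiv.orderOf_eq α (ρ 1)
    obtain ⟨a, ha⟩ : ∃ a, α (ρ 1) = ρ a := by
      rcases hcover (α (ρ 1)) with h | ⟨i, hi⟩
      · exact h
      · exfalso
        rw [hi] at h1
        exact hord i h1
    refine ⟨a, fun i => ?_⟩
    have hi : ρ i = (ρ 1) ^ i.val := by
      rw [hρpow, one_mul, ZMod.natCast_zmod_val]
    rw [hi, map_pow, ha, hρpow, ZMod.natCast_zmod_val]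
  -- Claim 2
  have claim2 : ∀ (α : MulAut D) (a : ZMod (2 ^ K)), (∀ i, α (ρ i) = ρ (a * i)) →
      ∀ (t : ℕ) i, (α ^ t) (ρ i) = ρ (a ^ t * i) := by
    intro α a ha t
    induction t with
    | zero => intro i; simp
    | succ t ih =>
      intro i
      rw [pow_succ, MulAut.mul_apply, ha, ih]
      congr 1
      ring
  -- Claim 3: `a ^ (2^K) = 1`
  have claim3 : ∀ (α : MulAut D) (a : ZMod (2 ^ K)), (∀ i, α (ρ i) = ρ (a * i)) → a ^ (2 ^ K) = 1 := by
    intro α a ha
    obtain ⟨a', ha'⟩ := claim1 α⁻¹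
    have h1 : a' * a = 1 := by
      have := ha' (a * 1)
      rw [← ha 1, MulAut.inv_apply_self, mul_one] at this
      have := hρinj this
      rw [this]
    have hu : IsUnit a := IsUnit.of_mul_eq_one_right a' h1
    obtain ⟨u, rfl⟩ := hu
    have h2 : u ^ (2 ^ K) = 1 := by
      have hc : Nat.card (ZMod (2 ^ K))ˣ ∣ 2 ^ K := by
        rw [Nat.card_eq_fintype_card, ZMod.card_units_eq_totient]
        rcases K with _ | K
        · simp
        · rw [Nat.totient_prime_pow Nat.prime_two (Nat.succ_pos K)]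
          simp only [Nat.reduceSub, mul_one]
          exact pow_dvd_pow 2 (Nat.le_succ K)
      exact orderOf_dvd_iff_pow_eq_one.mp ((orderOf_dvd_natCard u).trans hc)
    rw [← Units.val_pow_eq_pow_val, h2, Units.val_one]
  intro α
  refine ⟨K + K, ?_⟩
  obtain ⟨a, ha⟩ := claim1 α
  set β := α ^ (2 ^ K) with hβ
  have hβρ : ∀ i, β (ρ i) = ρ i := by
    intro i
    rw [hβ, claim2 α a ha, claim3 α a ha, one_mul]
  -- Claim 4
  obtain ⟨c, hc⟩ : ∃ c, β (σ 0) = σ c := by
    rcases hcover (β (σ 0)) with ⟨j, hj⟩ | h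
    · exfalso
      rw [← hβρ j] at hj
      exact hρσ j 0 (β.injective hj).symm
    · exact h
  have hβσ : ∀ i, β (σ i) = σ (c + i) := by
    intro i
    have : σ i = σ 0 * ρ i := by rw [hσρ, zero_add]
    rw [this, map_mul, hc, hβρ, hσρ]
  have hpowρ : ∀ (s : ℕ) i, (β ^ s) (ρ i) = ρ i := by
    intro s
    induction s with
    | zero => intro i; simp
    | succ s ih => intro i; rw [pow_succ, MulAut.mul_apply, hβρ, ih]
  have hpowσ : ∀ (s : ℕ) i, (β ^ s) (σ i) = σ (s * c + i) := by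
    intro s
    induction s with
    | zero => intro i; simp
    | succ s ih =>
      intro i
      rw [pow_succ, MulAut.mul_apply, hβσ, ih]
      congr 1
      push_cast
      ring
  have : α ^ 2 ^ (K + K) = β ^ (2 ^ K) := by
    rw [hβ, ← pow_mul, ← pow_add]
  rw [this]
  apply MulEquiv.ext
  intro x
  rcases hcover x with ⟨i, rfl⟩ | ⟨i, rfl⟩
  · rw [hpowρ]; rfl
  · rw [hpowσ]
    have : ((2 ^ K : ℕ) : ZMod (2 ^ K)) = 0 := ZMod.natCast_self _
    rw [this, zero_mul, zero_add]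
    rfl

theorem isPGroup_mulAut_dihedral (n : ℕ) (hn : 4 ≤ n) : IsPGroup 2 (MulAut (DihedralGroup (2 ^ (n - 1)))) := by
  have h8 : 2 ^ 3 ≤ 2 ^ (n - 1) := Nat.pow_le_pow_right (by norm_num) (by omega)
  apply isPGroup_mulAut_of_dihedralLike (K := n - 1) rfl DihedralGroup.r DihedralGroup.sr
  · intro x
    cases x with
    | r i => exact Or.inl ⟨i, rfl⟩
    | sr i => exact Or.inr ⟨i, rfl⟩
  · exact DihedralGroup.r_mul_r
  · exact DihedralGroup.sr_mul_r
  · intro i j h
    exact DihedralGroup.r.inj h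
  · intro i j h
    cases h
  · intro i
    rw [DihedralGroup.orderOf_sr, DihedralGroup.orderOf_r_one]
    omega

theorem isPGroup_mulAut_quaternion (n : ℕ) (hn : 4 ≤ n) :
    IsPGroup 2 (MulAut (QuaternionGroup (2 ^ (n - 2)))) := by
  have h4 : 2 ^ 2 ≤ 2 ^ (n - 2) := Nat.pow_le_pow_right (by norm_num) (by omega)
  have hN : 2 * 2 ^ (n - 2) = 2 ^ (n - 1) := by
    have : n - 1 = (n - 2) + 1 := by omega
    rw [this, pow_succ, mul_comm]
  have : NeZero (2 ^ (n - 2)) := ⟨by positivity⟩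
  apply isPGroup_mulAut_of_dihedralLike (K := n - 1) hN QuaternionGroup.a QuaternionGroup.xa
  · intro x
    cases x with
    | a i => exact Or.inl ⟨i, rfl⟩
    | xa i => exact Or.inr ⟨i, rfl⟩
  · exact QuaternionGroup.a_mul_a
  · exact QuaternionGroup.xa_mul_a
  · intro i j h
    exact QuaternionGroup.a.inj h
  · intro i j h
    cases h
  · intro i
    rw [QuaternionGroup.orderOf_xa, QuaternionGroup.orderOf_a_one]
    omega

theorem autInducedBy_self_eq_inn {Ω : Type*} [Group Ω] (S : Subgroup Ω) : autInducedBy S S = Cfsg.Inn S := by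
  ext α
  rw [mem_autInducedBy_iff]
  constructor
  · rintro ⟨g, hg, hα⟩
    refine ⟨⟨g, hg⟩, ?_⟩
    apply MulEquiv.ext
    intro x
    apply Subtype.ext
    rw [hα]
    rfl
  · rintro ⟨s, rfl⟩
    exact ⟨s, s.2, fun x => rfl⟩

/-- If S is a dihedral or generalized quaternion 2-group of order at least 16, then in every saturated fusion system over S (at the prime 2) the automorphism group Aut_F(S) consists of the inner automorphisms of S. -/
theorem result {Ω : Type*} [Group Ω] {S : Subgroup Ω} [Finite S] (n : ℕ) (hn : 4 ≤ n) (hshape : Nonempty (S ≃* DihedralGroup (2 ^ (n - 1))) ∨ Nonempty (S ≃* QuaternionGroup (2 ^ (n - 2)))) (F : Cfsg.FusionSystem S) (hF : F.IsSaturated 2) : F.autGroup S = Cfsg.Inn S := by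
  have hAut : IsPGroup 2 (MulAut S) := by
    rcases hshape with ⟨⟨e⟩⟩ | ⟨⟨e⟩⟩
    · exact (isPGroup_mulAut_dihedral n hn).of_equiv (MulAut.congr e).symm
    · exact (isPGroup_mulAut_quaternion n hn).of_equiv (MulAut.congr e).symm
  obtain ⟨Q, hSQ, hQa, -⟩ := hF S le_rfl
  have hQS : Q = S := by
    apply Subgroup.eq_of_le_of_card_ge (IsConj_le_right hSQ)
    exact (IsConj_card_eq hSQ).le
  subst hQS
  obtain ⟨-, R, hR⟩ := hQa
  have hA : IsPGroup 2 (F.autGroup Q) := hAut.to_subgroup _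
  have hRtop : (⊤ : Subgroup (F.autGroup Q)) = R := R.is_maximal' (hA.to_subgroup ⊤) le_top
  apply le_antisymm
  · intro α hα
    have h1 : (⟨α, hα⟩ : F.autGroup Q) ∈ (R : Subgroup (F.autGroup Q)) := by
      rw [← hRtop]
      exact Subgroup.mem_top _
    rw [hR] at h1
    rw [← autInducedBy_self_eq_inn]
    exact Subgroup.mem_subgroupOf.mp h1
  · rw [← autInducedBy_self_eq_inn]
    exact autInducedBy_le_autGroup F le_rfl

end Cfsg.Agent.S5112
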