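import Cfsg.Statements.S5115
import Cfsg.Agent.Lib.Helper87.FusionConstrained
import Cfsg.Agent.Lib.Helper85.FusionRealized
import Cfsg.Agent.Lib.Helper85.SylowAux
-- import your own Cfsg.Agent.* helpers here

set_option autoImplicit false
open Cfsg

namespace Cfsg.Agent.S5115

open Cfsg.FusionSystem

section aux

variable {G : Type*} [Group G] [Finite G] {p : ℕ} [Fact p.Prime]

/-- `F_T(K)` is saturated when `T` is a Sylow `p`-subgroup of `K`. -/
theorem sat_of_sylow {K T : Subgroup G} (hTK : T ≤ K) (R : Sylow p K)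
    (hR : (R : Subgroup K) = T.subgroupOf K) :
    (fusionSystemOfSubgroup K T hTK).IsSaturated p := by
  have hι : (fusionSystemOfSubgroup K T hTK).IsRealizedBy (Subgroup.inclusion hTK) := by
    refine ⟨Subgroup.inclusion_injective hTK, fun P hP φ hφ => ?_⟩
    constructor
    · rintro ⟨-, -, g, hgK, hg⟩
      refine ⟨⟨g, hgK⟩, fun x => Subtype.ext ?_⟩
      exact hg x
    · rintro ⟨g, hg⟩
      refine ⟨hP, hφ, g, g.2, fun x => ?_⟩
      exact congrArg Subtype.val (hg x)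
  refine Cfsg.Agent.Lib.Helper85.isSaturated_of_isRealizedBy hι R ?_
  rw [hR, Subgroup.inclusion_range]

/-- Sylow subgroups pass to normal subgroups, relative version. -/
theorem sylow_step {K H T : Subgroup G} (hHK : H ≤ K) (hN : (H.subgroupOf K).Normal) (hTK : T ≤ K)
    (R : Sylow p K) (hR : (R : Subgroup K) = T.subgroupOf K) :
    ∃ R' : Sylow p H, (R' : Subgroup H) = (T ⊓ H).subgroupOf H := by
  rw [Cfsg.Agent.Lib.Helper85.sylow_subgroupOf_iff inf_le_right]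
  have hT : IsPGroup p T := ((Cfsg.Agent.Lib.Helper85.sylow_subgroupOf_iff hTK).1 ⟨R, hR⟩).1
  refine ⟨hT.to_le inf_le_left, fun T₁ hT₁H hT₁ => ?_⟩
  have hT₁' : IsPGroup p (T₁.subgroupOf K) := hT₁.comap_subtype
  obtain ⟨Q', hQ'⟩ := hT₁'.exists_le_sylow
  obtain ⟨k, hk⟩ := MulAction.exists_smul_eq K Q' R
  have hle : T₁.map (MulAut.conj (k : G)).toMonoidHom ≤ T ⊓ H := by
    rintro _ ⟨x, hx, rfl⟩
    have hxH : x ∈ H := hT₁H hx
    have hxK : x ∈ K := hHK hxH
    have h1 : (⟨x, hxK⟩ : K) ∈ (Q' : Subgroup K) := hQ' (show (⟨x, hxK⟩ : K) ∈ T₁.subgroupOf K from hx)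
    have h2 : k * ⟨x, hxK⟩ * k⁻¹ ∈ (R : Subgroup K) := by
      rw [← hk, Sylow.coe_subgroup_smul]
      exact Subgroup.smul_mem_pointwise_smul _ (MulAut.conj k) _ h1
    rw [hR] at h2
    have h3 : (k * ⟨x, hxK⟩ * k⁻¹ : K) ∈ H.subgroupOf K :=
      hN.conj_mem ⟨x, hxK⟩ (show (⟨x, hxK⟩ : K) ∈ H.subgroupOf K from hxH) k
    exact ⟨h2, h3⟩
  calc Nat.card T₁ = Nat.card (T₁.map (MulAut.conj (k : G)).toMonoidHom) :=
        (Subgroup.card_map_of_injective (MulAut.conj (k : G)).injective).symm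
    _ ≤ Nat.card (T ⊓ H : Subgroup G) := Subgroup.card_le_of_le hle

/-- Constrainedness descends from `F_T(K)` to `F_{T ∩ H}(H)` for `H` normal in `K`. -/
theorem constrained_step {K H T : Subgroup G} (hHK : H ≤ K) (hN : (H.subgroupOf K).Normal) (hTK : T ≤ K)
    (R : Sylow p K) (hR : (R : Subgroup K) = T.subgroupOf K)
    (hc : (fusionSystemOfSubgroup K T hTK).IsConstrained p) :
    (fusionSystemOfSubgroup H (T ⊓ H) inf_le_right).IsConstrained p := by
  obtain ⟨R', hR'⟩ := sylow_step hHK hN hTK R hR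
  have hT : IsPGroup p T := ((Cfsg.Agent.Lib.Helper85.sylow_subgroupOf_iff hTK).1 ⟨R, hR⟩).1
  refine Cfsg.Agent.Lib.Helper87.isConstrained_of_subsystem (fusionSystemOfSubgroup K T hTK) hT hc
    (fusionSystemOfSubgroup H (T ⊓ H) inf_le_right) (sat_of_sylow inf_le_right R' hR') ?_ ?_
  · rintro P φ ⟨hP, hφ, g, hgH, hg⟩
    exact ⟨hP.trans inf_le_left, fun x => (hφ x).1, g, hHK hgH, hg⟩
  · refine ⟨inf_le_left, ?_⟩
    rintro P hP φ ⟨-, hφ, g, hgK, hg⟩ x
    refine ⟨hφ x, ?_⟩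
    rw [hg x]
    have hxH : (x : G) ∈ H := (hP x.2).2
    have h3 : ((⟨g, hgK⟩ : K) * ⟨x, hHK hxH⟩ * (⟨g, hgK⟩ : K)⁻¹ : K) ∈ H.subgroupOf K :=
      hN.conj_mem ⟨x, hHK hxH⟩ (show (⟨(x : G), hHK hxH⟩ : K) ∈ H.subgroupOf K from hxH) ⟨g, hgK⟩
    exact h3

omit [Finite G] [Fact p.Prime] in
/-- Transport of constrainedness from `F_T(H)` inside `G` to the fusion system of the group `H` on `T`. -/
theorem transport {H T : Subgroup G} (hTH : T ≤ H)
    (hsat : (groupFusionSystem (T.subgroupOf H)).IsSaturated p)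
    (hc : (fusionSystemOfSubgroup H T hTH).IsConstrained p) :
    (groupFusionSystem (T.subgroupOf H)).IsConstrained p := by
  obtain ⟨-, Q, hQn, hQc⟩ := hc
  have hQT : Q ≤ T := hQn.1
  have hQH : Q ≤ H := hQT.trans hTH
  refine ⟨hsat, Q.subgroupOf H, ⟨fun x hx => hQT hx, ?_⟩, ⟨fun x hx => hQT hx, ?_⟩⟩
  · -- normal
    rintro P' φ' ⟨hP', hφ'T, g, hg⟩
    have hPT : P'.map H.subtype ≤ T := by
      rintro _ ⟨y, hy, rfl⟩
      exact hP' hy
    have hφ : conjHom (P'.map H.subtype) (g : G) ∈ (fusionSystemOfSubgroup H T hTH).Hom (P'.map H.subtype) := by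
      refine ⟨hPT, ?_, (g : G), g.2, fun x => rfl⟩
      rintro ⟨_, y, hy, rfl⟩
      have h1 := hφ'T ⟨y, hy⟩
      rw [hg] at h1
      exact h1
    obtain ⟨ψ, ⟨-, hψT, k, hkH, hk⟩, hext, hmap⟩ := hQn.2 _ _ hφ
    have hsup : ∀ x : H, x ∈ P' ⊔ Q.subgroupOf H → (x : G) ∈ P'.map H.subtype ⊔ Q := by
      intro x hx
      have h1 : (x : G) ∈ (P' ⊔ Q.subgroupOf H).map H.subtype := ⟨x, hx, rfl⟩
      rw [Subgroup.map_sup, Subgroup.subgroupOf_map_subtype] at h1
      have h2 : P'.map H.subtype ⊔ Q ⊓ H ≤ P'.map H.subtype ⊔ Q := sup_le le_sup_left (inf_le_left.trans le_sup_right)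
      exact h2 h1
    refine ⟨conjHom (P' ⊔ Q.subgroupOf H) ⟨k, hkH⟩, ⟨sup_le hP' (fun x hx => hQT hx), ?_, ⟨k, hkH⟩, fun x => rfl⟩, ?_, ?_⟩
    · intro x
      have h1 := hψT ⟨(x : H), hsup x x.2⟩
      rw [hk] at h1
      exact h1
    · intro x
      apply Subtype.ext
      have h1 := hext ⟨(x : H), ⟨x, x.2, rfl⟩⟩
      rw [hk] at h1
      rw [hg]
      exact h1
    · ext y
      constructor
      · rintro ⟨x, hx, rfl⟩
        have h1 : ψ ⟨((x : H) : G), hsup x x.2⟩ ∈ (Q.subgroupOf (P'.map H.subtype ⊔ Q)).map ψ :=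
          ⟨_, hx, rfl⟩
        rw [hmap, hk] at h1
        exact h1
      · intro hy
        have h1 : (y : G) ∈ (Q.subgroupOf (P'.map H.subtype ⊔ Q)).map ψ := by
          rw [hmap]; exact hy
        obtain ⟨x, hx, hxy⟩ := h1
        rw [hk] at hxy
        have hxQ : (x : G) ∈ Q := hx
        refine ⟨⟨⟨x, hQH hxQ⟩, ?_⟩, hxQ, ?_⟩
        · exact (le_sup_right : Q.subgroupOf H ≤ P' ⊔ Q.subgroupOf H) hxQ
        · apply Subtype.ext
          exact hxy
  · -- centric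
    rintro R' ⟨φ', ⟨-, hφ'T, g, hg⟩, hrange⟩
    have hφ : conjHom Q (g : G) ∈ (fusionSystemOfSubgroup H T hTH).Hom Q := by
      refine ⟨hQT, ?_, (g : G), g.2, fun x => rfl⟩
      intro x
      have h1 := hφ'T ⟨⟨x, hQH x.2⟩, x.2⟩
      rw [hg] at h1
      exact h1
    have hr : (conjHom Q (g : G)).range = R'.map H.subtype := by
      ext y
      constructor
      · rintro ⟨x, rfl⟩
        refine ⟨φ' ⟨⟨x, hQH x.2⟩, x.2⟩, ?_, ?_⟩
        · rw [← hrange]; exact ⟨_, rfl⟩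
        · rw [hg]; rfl
      · rintro ⟨r, hr, rfl⟩
        rw [← hrange] at hr
        obtain ⟨x, rfl⟩ := hr
        refine ⟨⟨(x : H), x.2⟩, ?_⟩
        rw [hg]; rfl
    have hcen := hQc.2 _ ⟨_, hφ, hr⟩
    intro c hc
    have h1 : (c : G) ∈ centralizerIn T (R'.map H.subtype) := by
      refine ⟨hc.1, ?_⟩
      rintro _ ⟨r, hr, rfl⟩
      have h2 := hc.2 r hr
      exact congrArg Subtype.val h2
    obtain ⟨r, hr, hrc⟩ := hcen h1
    have : r = c := Subtype.ext hrc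
    exact this ▸ hr

/-- Main induction. -/
theorem main (S : Sylow p G) (hF : (groupFusionSystem (S : Subgroup G)).IsConstrained p) (H : Subgroup G)
    (hH : H.IsSubnormal) :
    (∃ R : Sylow p H, (R : Subgroup H) = ((S : Subgroup G) ⊓ H).subgroupOf H) ∧
      (fusionSystemOfSubgroup H ((S : Subgroup G) ⊓ H) inf_le_right).IsConstrained p := by
  induction hH with
  | top =>
    have hsyl : ∃ R : Sylow p (⊤ : Subgroup G), (R : Subgroup (⊤ : Subgroup G)) =
        ((S : Subgroup G) ⊓ ⊤).subgroupOf ⊤ := by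
      rw [Cfsg.Agent.Lib.Helper85.sylow_subgroupOf_iff inf_le_right]
      refine ⟨S.isPGroup'.to_le inf_le_left, fun T₁ _ hT₁ => ?_⟩
      obtain ⟨Q', hQ'⟩ := hT₁.exists_le_sylow
      calc Nat.card T₁ ≤ Nat.card Q' := Subgroup.card_le_of_le hQ'
        _ = Nat.card S := by rw [Sylow.card_eq_multiplicity, Sylow.card_eq_multiplicity]
        _ = Nat.card ((S : Subgroup G) ⊓ ⊤ : Subgroup G) := by rw [inf_top_eq]
    refine ⟨hsyl, ?_⟩
    obtain ⟨R, hR⟩ := hsyl
    refine Cfsg.Agent.Lib.Helper87.isConstrained_of_subsystem (groupFusionSystem (S : Subgroup G)) S.isPGroup' hF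
      (fusionSystemOfSubgroup ⊤ ((S : Subgroup G) ⊓ ⊤) inf_le_right) (sat_of_sylow inf_le_right R hR) ?_ ?_
    · rintro P φ ⟨hP, hφ, g, -, hg⟩
      exact ⟨hP.trans inf_le_left, fun x => (hφ x).1, g, hg⟩
    · refine ⟨inf_le_left, ?_⟩
      rintro P hP φ ⟨-, hφ, -⟩ x
      exact ⟨hφ x, Subgroup.mem_top _⟩
  | step H K h_le hSubn hN ih =>
    obtain ⟨⟨R, hR⟩, hc⟩ := ih
    have hinf : ((S : Subgroup G) ⊓ K) ⊓ H = (S : Subgroup G) ⊓ H := by
      rw [inf_assoc, inf_eq_right.2 h_le]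
    have h1 := sylow_step h_le hN inf_le_right R hR
    have h2 := constrained_step h_le hN inf_le_right R hR hc
    constructor
    · obtain ⟨R', hR'⟩ := h1
      exact ⟨R', by rw [hR', hinf]⟩
    · have key : ∀ (T₁ T₂ : Subgroup G) (h : T₁ = T₂) (h₁ : T₁ ≤ H) (h₂ : T₂ ≤ H),
          (fusionSystemOfSubgroup H T₁ h₁).IsConstrained p → (fusionSystemOfSubgroup H T₂ h₂).IsConstrained p := by
        rintro T₁ _ rfl _ _ h
        exact h
      exact key _ _ hinf _ _ h2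

end aux

/-- If the 2-fusion system of a finite group G on a Sylow 2-subgroup S is constrained, then for every subnormal subgroup H of G the 2-fusion system of H on S ∩ H is constrained. -/
theorem result {G : Type*} [Group G] [Finite G] (S : Sylow 2 G) (hF : (Cfsg.groupFusionSystem (S : Subgroup G)).IsConstrained 2) (H : Subgroup G) (hH : H.IsSubnormal) : (Cfsg.groupFusionSystem ((S : Subgroup G).subgroupOf H)).IsConstrained 2 := by
  obtain ⟨⟨R, hR⟩, hc⟩ := main S hF H hH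
  rw [← Subgroup.inf_subgroupOf_right]
  refine transport inf_le_right ?_ hc
  rw [← hR]
  exact Cfsg.Agent.Lib.Helper85.groupFusionSystem_isSaturated R

end Cfsg.Agent.S5115
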