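import Cfsg.Statements.S5118
import Cfsg.Agent.Lib.Helper85.FusionRealized

set_option autoImplicit false
open Cfsg

namespace Cfsg.Agent.S5118

open Cfsg.FusionSystem Cfsg.Agent.Lib.Helper85

variable {G : Type*} [Group G]

/-- `g K g⁻¹ ≤ K` with `K` finite implies `g` normalizes `K`. -/
theorem mem_normalizer_of_conj_le [Finite G] {K : Subgroup G} {g : G} (h : ∀ x ∈ K, g * x * g⁻¹ ∈ K) :
    g ∈ Subgroup.normalizer (K : Set G) := by
  have hle : K.map (MulAut.conj g).toMonoidHom ≤ K := by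
    rintro _ ⟨x, hx, rfl⟩
    exact h x hx
  have heq : K.map (MulAut.conj g).toMonoidHom = K :=
    Subgroup.eq_of_le_of_card_ge hle (card_map_conj K g).ge
  rw [Subgroup.mem_normalizer_iff]
  intro x
  constructor
  · exact h x
  · intro hx
    rw [← heq] at hx
    rw [mem_map_conj_iff] at hx
    simpa [mul_assoc] using hx

theorem sylow_inf_normal [Finite G] {p : ℕ} [Fact p.Prime] (S : Sylow p G) (H : Subgroup G) [hH : H.Normal] :
    ∃ R : Sylow p H, (R : Subgroup H) = ((S : Subgroup G) ⊓ H).subgroupOf H := by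
  rw [sylow_subgroupOf_iff inf_le_right]
  refine ⟨S.isPGroup'.to_le inf_le_left, fun Q hQH hQ => ?_⟩
  obtain ⟨g, hg⟩ := exists_conj_le_sylow S hQ
  have h1 : Q.map (MulAut.conj g).toMonoidHom ≤ (S : Subgroup G) ⊓ H := by
    refine le_inf hg ?_
    rintro _ ⟨x, hx, rfl⟩
    exact hH.conj_mem x (hQH hx) g
  calc Nat.card Q = Nat.card (Q.map (MulAut.conj g).toMonoidHom) := (card_map_conj Q g).symm
    _ ≤ _ := Subgroup.card_le_of_le h1

theorem D_saturated [Finite G] (p : ℕ) [Fact p.Prime] (S : Sylow p G) (H : Subgroup G) [H.Normal] :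
    (fusionSystemOfSubgroup H ((S : Subgroup G) ⊓ H) inf_le_right).IsSaturated p := by
  obtain ⟨R, hR⟩ := sylow_inf_normal S H
  have hι : (fusionSystemOfSubgroup H ((S : Subgroup G) ⊓ H) inf_le_right).IsRealizedBy
      (Subgroup.inclusion (inf_le_right : (S : Subgroup G) ⊓ H ≤ H)) := by
    refine ⟨Subgroup.inclusion_injective _, fun P hP φ hφ => ?_⟩
    constructor
    · rintro ⟨-, -, g, hgH, hg⟩
      refine ⟨⟨g, hgH⟩, fun x => Subtype.ext ?_⟩
      exact hg x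
    · rintro ⟨g, hg⟩
      refine ⟨hP, hφ, g, g.2, fun x => ?_⟩
      exact congrArg Subtype.val (hg x)
  exact isSaturated_of_isRealizedBy hι R (hR.trans (Subgroup.inclusion_range _).symm)

theorem D_invariant [Finite G] (p : ℕ) [Fact p.Prime] (S : Sylow p G) (H : Subgroup G) [hH : H.Normal]
    (hSyl : ∃ R : Sylow p H, (R : Subgroup H) = ((S : Subgroup G) ⊓ H).subgroupOf H) :
    (fusionSystemOfSubgroup H ((S : Subgroup G) ⊓ H) inf_le_right).IsInvariantIn
      (groupFusionSystem (S : Subgroup G)) := by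
  refine ⟨?_, ?_, ?_, ?_⟩
  · -- subsystem
    rintro P φ ⟨hP, hφ, g, -, hg⟩
    exact ⟨hP.trans inf_le_left, fun x => (hφ x).1, g, hg⟩
  · -- strongly closed
    refine ⟨inf_le_left, fun R hR φ hφ x => ?_⟩
    obtain ⟨-, hφS, g, hg⟩ := hφ
    refine ⟨hφS x, ?_⟩
    rw [hg]
    exact hH.conj_mem _ (hR x.2).2 g
  · -- invariance
    intro P hPT φ hφ α hα
    obtain ⟨-, hφT, h, hhH, hh⟩ := hφ
    rw [mem_autGroup_iff _ (inf_le_left : (S : Subgroup G) ⊓ H ≤ S)] at hα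
    obtain ⟨-, -, g, hg⟩ := hα
    have hg' : ∀ x : ↥((S : Subgroup G) ⊓ H), ((α x : ↥((S : Subgroup G) ⊓ H)) : G) = g * x * g⁻¹ := hg
    refine ⟨conjHom _ (g * h * g⁻¹), ⟨?_, ?_, g * h * g⁻¹, hH.conj_mem h hhH g, fun _ => rfl⟩, ?_⟩
    · rintro _ ⟨x, -, rfl⟩
      exact (α x).2
    · rintro ⟨_, x, hx, rfl⟩
      show g * h * g⁻¹ * ((α x : ↥((S : Subgroup G) ⊓ H)) : G) * (g * h * g⁻¹)⁻¹ ∈ (S : Subgroup G) ⊓ H
      rw [hg' x]
      have e : g * h * g⁻¹ * (g * (x : G) * g⁻¹) * (g * h * g⁻¹)⁻¹ = g * (h * x * h⁻¹) * g⁻¹ := by group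
      have hx' : (x : G) ∈ P := hx
      have e2 := hh ⟨x, hx'⟩
      rw [e, ← e2]
      have := hg' ⟨φ ⟨x, hx'⟩, hφT _⟩
      rw [← this]
      exact (α _).2
    · intro x hφx hαx
      show g * h * g⁻¹ * ((α ⟨x, hPT x.2⟩ : ↥((S : Subgroup G) ⊓ H)) : G) * (g * h * g⁻¹)⁻¹ = _
      rw [hg', hg']
      show _ = g * φ x * g⁻¹
      rw [hh x]
      group
  · -- Frattini
    intro P hPT φ hφ
    obtain ⟨-, hφS, g, hg⟩ := hφ
    obtain ⟨R, hR⟩ := hSyl
    have htop := Sylow.normalizer_sup_eq_top R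
    have hmap : (R : Subgroup H).map H.subtype = (S : Subgroup G) ⊓ H := by
      rw [hR, Subgroup.subgroupOf_map_subtype]
      exact inf_of_le_left inf_le_right
    rw [hmap] at htop
    have hgtop : g ∈ (Subgroup.normalizer (((S : Subgroup G) ⊓ H : Subgroup G) : Set G)) ⊔ H := by
      rw [htop]; exact Subgroup.mem_top g
    rw [← SetLike.mem_coe, Subgroup.mul_normal] at hgtop
    obtain ⟨n, hn, h, hhH, rfl⟩ := hgtop
    have hn' : n ∈ Subgroup.normalizer (((S : Subgroup G) ⊓ H : Subgroup G) : Set G) := hn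
    have hhH' : h ∈ H := hhH
    have hφT : ∀ x : P, φ x ∈ (S : Subgroup G) ⊓ H := fun x => by
      refine ⟨hφS x, ?_⟩
      rw [hg]
      exact hH.conj_mem _ (hPT x.2).2 _
    have hval : ∀ x : P, h * (x : G) * h⁻¹ ∈ (S : Subgroup G) ⊓ H := fun x => by
      have h1 : h * (x : G) * h⁻¹ = n⁻¹ * φ x * n⁻¹⁻¹ := by
        rw [hg]; group
      rw [h1]
      exact (Subgroup.mem_normalizer_iff.mp (Subgroup.inv_mem _ hn') _).mp (hφT x)
    refine ⟨(Subgroup.normalizerMonoidHom _ ⟨n, hn'⟩ : MulAut ↥((S : Subgroup G) ⊓ H)), ?_,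
      conjHom P h, ⟨hPT, hval, h, hhH', fun _ => rfl⟩, ?_⟩
    · rw [mem_autGroup_iff _ (inf_le_left : (S : Subgroup G) ⊓ H ≤ S)]
      refine ⟨inf_le_left, fun x => ?_, n, fun x => rfl⟩
      exact ((Subgroup.normalizerMonoidHom _ ⟨n, hn'⟩ : MulAut ↥((S : Subgroup G) ⊓ H)) x).2.1
    · intro x hx
      rw [hg]
      show _ = n * (h * (x : G) * h⁻¹) * n⁻¹
      group


theorem map_conj_eq_of_mem_normalizer {K : Subgroup G} {g : G} (hg : g ∈ Subgroup.normalizer (K : Set G)) :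
    K.map (MulAut.conj g).toMonoidHom = K := by
  ext x
  rw [mem_map_conj_iff]
  exact (Subgroup.mem_normalizer_iff''.mp hg x).symm

theorem D_extension [Finite G] (p : ℕ) [Fact p.Prime] (S : Sylow p G) (H : Subgroup G) [hH : H.Normal]
    (T : Subgroup G) (hT : T = (S : Subgroup G) ⊓ H) (hTH : T ≤ H) :
    ∀ α ∈ (fusionSystemOfSubgroup H T hTH).autGroup T,
    ∃ β ∈ (groupFusionSystem (S : Subgroup G)).autGroup (T ⊔ centralizerIn (S : Subgroup G) T),
      (∀ x : T, ((β (Subgroup.inclusion le_sup_left x) : ↥(T ⊔ centralizerIn (S : Subgroup G) T)) : G) =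
        ((α x : T) : G)) ∧
      ∀ c : ↥(T ⊔ centralizerIn (S : Subgroup G) T), (c : G) ∈ centralizerIn (S : Subgroup G) T →
        (c : G)⁻¹ * ((β c : ↥(T ⊔ centralizerIn (S : Subgroup G) T)) : G) ∈
          T ⊓ Subgroup.centralizer (T : Set G) := by
  intro α hα
  have hTS : T ≤ (S : Subgroup G) := hT ▸ inf_le_left
  have hmemT : ∀ z : G, z ∈ (S : Subgroup G) → z ∈ H → z ∈ T := fun z h1 h2 => by
    rw [hT]; exact ⟨h1, h2⟩
  rw [mem_autGroup_iff _ (le_refl T)] at hα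
  obtain ⟨-, -, h, hhH, hh⟩ := hα
  have hh' : ∀ x : T, ((α x : T) : G) = h * x * h⁻¹ := hh
  have hhN : h ∈ Subgroup.normalizer (T : Set G) := mem_normalizer_of_induces hh'
  have hSN : (S : Subgroup G) ≤ Subgroup.normalizer (T : Set G) := by
    intro s hs
    apply mem_normalizer_of_conj_le
    intro x hx
    rw [hT] at hx ⊢
    exact ⟨Subgroup.mul_mem _ (Subgroup.mul_mem _ hs hx.1) (Subgroup.inv_mem _ hs), hH.conj_mem x hx.2 s⟩
  have hNST : normalizerIn (S : Subgroup G) T = S := inf_of_le_left hSN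
  -- `N_S(T) = S` is Sylow in `N_G(T)`
  have hN : ∃ R : Sylow p ↥(Subgroup.normalizer (T : Set G)),
      (R : Subgroup ↥(Subgroup.normalizer (T : Set G))) =
        (normalizerIn (S : Subgroup G) T).subgroupOf (Subgroup.normalizer (T : Set G)) := by
    have hle : normalizerIn (S : Subgroup G) T ≤ Subgroup.normalizer (T : Set G) := inf_le_right
    rw [sylow_subgroupOf_iff hle]
    refine ⟨S.isPGroup'.to_le inf_le_left, fun Q _ hQ => ?_⟩
    obtain ⟨g, hg⟩ := exists_conj_le_sylow S hQ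
    rw [hNST]
    calc Nat.card Q = Nat.card (Q.map (MulAut.conj g).toMonoidHom) := (card_map_conj Q g).symm
      _ ≤ _ := Subgroup.card_le_of_le hg
  have hCsyl := centralizerIn_sylow_of_normalizerIn_sylow S hN
  have hCle : centralizerIn (S : Subgroup G) T ≤ Subgroup.centralizer (T : Set G) := inf_le_right
  rw [sylow_subgroupOf_iff hCle] at hCsyl
  obtain ⟨hCp, hCmax⟩ := hCsyl
  set C := centralizerIn (S : Subgroup G) T with hC
  set X := H ⊓ Subgroup.centralizer (T : Set G) with hX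
  have hCX : C ≤ Subgroup.normalizer (X : Set G) := by
    intro s hs
    apply mem_normalizer_of_conj_le
    intro x hx
    exact ⟨hH.conj_mem x hx.1 s, Subgroup.mul_mem _ (Subgroup.mul_mem _ (hCle hs) hx.2)
      (Subgroup.inv_mem _ (hCle hs))⟩
  have hYle : C ⊔ X ≤ Subgroup.centralizer (T : Set G) := sup_le hCle inf_le_right
  have hCY : ∃ R : Sylow p ↥(C ⊔ X), (R : Subgroup ↥(C ⊔ X)) = C.subgroupOf (C ⊔ X) := by
    rw [sylow_subgroupOf_iff le_sup_left]
    exact ⟨hCp, fun Q hQ hQp => hCmax Q (hQ.trans hYle) hQp⟩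
  -- `h` normalizes `C_G(T)`
  have hcent : ∀ c ∈ Subgroup.centralizer (T : Set G), h * c * h⁻¹ ∈ Subgroup.centralizer (T : Set G) := by
    intro c hc
    have h1 : Subgroup.centralizer (T : Set G) =
        (Subgroup.centralizer (T : Set G)).map (MulAut.conj h).toMonoidHom := by
      rw [← centralizer_map_conj, map_conj_eq_of_mem_normalizer hhN]
    rw [h1]
    exact conj_mem_map_conj h hc
  have hChY : C.map (MulAut.conj h).toMonoidHom ≤ C ⊔ X := by
    rintro _ ⟨c, hc, rfl⟩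
    have e : (MulAut.conj h).toMonoidHom c = (h * c * h⁻¹ * c⁻¹) * c := by
      simp [MulAut.conj_apply]
    rw [e, sup_comm]
    refine Subgroup.mul_mem_sup ⟨?_, ?_⟩ hc
    · have : h * c * h⁻¹ * c⁻¹ = h * (c * h⁻¹ * c⁻¹) := by group
      rw [this]
      exact Subgroup.mul_mem _ hhH (hH.conj_mem _ (Subgroup.inv_mem _ hhH) c)
    · exact Subgroup.mul_mem _ (hcent c (hCle hc)) (Subgroup.inv_mem _ (hCle hc))
  have hChp : IsPGroup p ↥(C.map (MulAut.conj h).toMonoidHom) := hCp.map _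
  obtain ⟨y, hyY, hy⟩ := exists_conj_le_of_sylow_subgroupOf hCY hChY hChp
  obtain ⟨s, hs, c₁, hc₁, rfl⟩ := mem_sup_of_le_normalizer hCX hyY
  rw [map_conj_map_conj] at hy
  have hgC : ∀ c ∈ C, (c₁ * h) * c * (c₁ * h)⁻¹ ∈ C := by
    intro c hc
    have h1 : (s * c₁ * h) * c * (s * c₁ * h)⁻¹ ∈ C := hy (conj_mem_map_conj _ hc)
    have h2 : (c₁ * h) * c * (c₁ * h)⁻¹ = s⁻¹ * ((s * c₁ * h) * c * (s * c₁ * h)⁻¹) * s := by group
    rw [h2]
    exact Subgroup.mul_mem _ (Subgroup.mul_mem _ (Subgroup.inv_mem _ hs) h1) hs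
  have hgNC : c₁ * h ∈ Subgroup.normalizer (C : Set G) := mem_normalizer_of_conj_le hgC
  have hgNT : c₁ * h ∈ Subgroup.normalizer (T : Set G) :=
    Subgroup.mul_mem _ (Subgroup.centralizer_le_normalizer _ hc₁.2) hhN
  have hgN : c₁ * h ∈ Subgroup.normalizer ((T ⊔ C : Subgroup G) : Set G) := by
    apply mem_normalizer_of_conj_le
    intro x hx
    have h1 : (T ⊔ C).map (MulAut.conj (c₁ * h)).toMonoidHom = T ⊔ C := by
      rw [Subgroup.map_sup, map_conj_eq_of_mem_normalizer hgNT, map_conj_eq_of_mem_normalizer hgNC]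
    rw [← h1]
    exact conj_mem_map_conj _ hx
  have hgH : c₁ * h ∈ H := Subgroup.mul_mem _ hc₁.1 hhH
  refine ⟨(Subgroup.normalizerMonoidHom _ ⟨c₁ * h, hgN⟩ : MulAut ↥(T ⊔ C)), ?_, ?_, ?_⟩
  · rw [mem_autGroup_iff _ (sup_le hTS inf_le_left : T ⊔ C ≤ S)]
    refine ⟨sup_le hTS inf_le_left, fun x => ?_, c₁ * h, fun x => rfl⟩
    exact (sup_le hTS inf_le_left : T ⊔ C ≤ S)
      ((Subgroup.normalizerMonoidHom _ ⟨c₁ * h, hgN⟩ : MulAut ↥(T ⊔ C)) x).2
  · intro x
    show (c₁ * h) * (x : G) * (c₁ * h)⁻¹ = _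
    rw [hh']
    have h1 := (Subgroup.mem_centralizer_iff.mp hc₁.2) _ (α x).2
    have h2 : (c₁ * h) * (x : G) * (c₁ * h)⁻¹ = c₁ * (h * x * h⁻¹) * c₁⁻¹ := by group
    rw [h2, ← hh', ← h1]
    group
  · intro c hc
    have hcC : (c₁ * h) * (c : G) * (c₁ * h)⁻¹ ∈ C := hgC c hc
    show (c : G)⁻¹ * ((c₁ * h) * (c : G) * (c₁ * h)⁻¹) ∈ _
    refine ⟨?_, Subgroup.mul_mem _ (Subgroup.inv_mem _ (hCle hc)) (hCle hcC)⟩
    refine hmemT _ (Subgroup.mul_mem _ (Subgroup.inv_mem _ hc.1) hcC.1) ?_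
    have e : (c : G)⁻¹ * ((c₁ * h) * (c : G) * (c₁ * h)⁻¹) =
        ((c : G)⁻¹ * (c₁ * h) * ((c : G)⁻¹)⁻¹) * (c₁ * h)⁻¹ := by group
    rw [e]
    exact Subgroup.mul_mem _ (hH.conj_mem _ hgH _) (Subgroup.inv_mem _ hgH)

/-- For a finite group G with Sylow p-subgroup S and a normal subgroup H, the fusion system of H on S ∩ H is a normal subsystem of the fusion system of G on S. -/
theorem result {G : Type*} [Group G] [Finite G] (p : ℕ) [Fact p.Prime] (S : Sylow p G) (H : Subgroup G) [H.Normal] : (Cfsg.fusionSystemOfSubgroup H ((S : Subgroup G) ⊓ H) inf_le_right).IsNormalIn (Cfsg.groupFusionSystem (S : Subgroup G)) p := by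
  exact ⟨⟨D_saturated p S H, groupFusionSystem_isSaturated S, D_invariant p S H (sylow_inf_normal S H)⟩,
    D_extension p S H _ rfl inf_le_right⟩

end Cfsg.Agent.S5118
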