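import Cfsg.Statements.S5125
import Cfsg.Agent.Lib.Helper87.FusionNormal
import Cfsg.Agent.Lib.Helper88.FusionAut

set_option autoImplicit false
open Cfsg

namespace Cfsg.Agent.S5125

open Cfsg.FusionSystem
open scoped commutatorElement

/-- The upper central series of `S`, viewed in the ambient group. -/
def Zs {Ω : Type*} [Group Ω] (S : Subgroup Ω) (k : ℕ) : Subgroup Ω :=
  (Subgroup.upperCentralSeries S k).map S.subtype

theorem Zs_zero {Ω : Type*} [Group Ω] (S : Subgroup Ω) : Zs S 0 = ⊥ := by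
  rw [Zs, Subgroup.upperCentralSeries_zero, Subgroup.map_bot]

theorem Zs_le {Ω : Type*} [Group Ω] (S : Subgroup Ω) (k : ℕ) : Zs S k ≤ S := Subgroup.map_subtype_le _

theorem Zs_mono {Ω : Type*} [Group Ω] (S : Subgroup Ω) : Monotone (Zs S) := fun _ _ h =>
  Subgroup.map_mono (Subgroup.upperCentralSeries_mono S h)

theorem Zs_conj_mem {Ω : Type*} [Group Ω] (S : Subgroup Ω) (k : ℕ) {g x : Ω} (hg : g ∈ S) (hx : x ∈ Zs S k) :
    g * x * g⁻¹ ∈ Zs S k := by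
  obtain ⟨y, hy, rfl⟩ := hx
  have hn : (Subgroup.upperCentralSeries S k).Normal := inferInstance
  exact ⟨⟨g, hg⟩ * y * ⟨g, hg⟩⁻¹, hn.conj_mem y hy ⟨g, hg⟩, rfl⟩

theorem Zs_comm_mem {Ω : Type*} [Group Ω] (S : Subgroup Ω) (k : ℕ) {x y : Ω} (hx : x ∈ Zs S (k + 1)) (hy : y ∈ S) :
    ⁅x, y⁆ ∈ Zs S k := by
  obtain ⟨x', hx', rfl⟩ := hx
  exact ⟨⁅x', ⟨y, hy⟩⁆, Subgroup.mem_upperCentralSeries_succ_iff.mp hx' ⟨y, hy⟩, rfl⟩

/-- Let F be a saturated fusion system over a finite p-group S and Q a subgroup strongly closed in F. If Q has a subgroup Q₁ that is normal in F, with Q/Q₁ abelian and Aut_F(Q₁) a p-group, then Q is normal in F. -/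
theorem result {Ω : Type*} [Group Ω] {S : Subgroup Ω} [Finite S] (p : ℕ) [Fact p.Prime] (hS : IsPGroup p S) (F : Cfsg.FusionSystem S) (hF : F.IsSaturated p) (Q Q₁ : Subgroup Ω) (hQ : F.StronglyClosed Q) (hQ₁Q : Q₁ ≤ Q) (hQ₁ : F.IsNormal Q₁) (hab : ⁅Q, Q⁆ ≤ Q₁) (hAut : IsPGroup p ↥(F.autGroup Q₁)) : F.IsNormal Q := by
  have hQS : Q ≤ S := hQ.1
  have hQ₁S : Q₁ ≤ S := hQ₁.1
  have hQ₁wc : F.WeaklyClosed Q₁ := Cfsg.Agent.Lib.Helper88.weaklyClosed_of_isNormal F hQ₁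
  have hQ₁conj : ∀ {g x : Ω}, g ∈ S → x ∈ Q₁ → g * x * g⁻¹ ∈ Q₁ := fun hg hx =>
    Cfsg.Agent.Lib.Helper87.WeaklyClosed_conj_mem hQ₁wc hg hx
  -- `Aut_F(Q₁) = Aut_S(Q₁)`
  have hQ₁fa : F.IsFullyAutomized p Q₁ :=
    (Cfsg.Agent.Lib.Helper88.fullyAutomized_receptive_of_weaklyClosed F p hF hQ₁wc).1
  have hAutS : F.autGroup Q₁ ≤ Cfsg.autInducedBy S Q₁ :=
    Cfsg.Agent.Lib.Helper87.autGroup_le_autInducedBy_of_isPGroup F hQ₁fa hAut
  -- nilpotency class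
  have hnil : Group.IsNilpotent S := hS.isNilpotent
  obtain ⟨m, hm⟩ := hnil.nilpotent'
  have hZm : Zs S m = S := by
    rw [Zs, hm, ← MonoidHom.range_eq_map, Subgroup.range_subtype]
  -- the chain
  set c : ℕ → Subgroup Ω := fun k => if k ≤ m then Q₁ ⊓ Zs S k else Q with hc
  have hck : ∀ k, k ≤ m → c k = Q₁ ⊓ Zs S k := fun k hk => by simp [hc, hk]
  have hck' : ∀ k, ¬ k ≤ m → c k = Q := fun k hk => by simp [hc, hk]
  refine Cfsg.Agent.Lib.Helper87.isNormal_of_chain F hS hF Q hQ (m + 1) c ?_ ?_ ?_ ?_ ?_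
  · rw [hck 0 (Nat.zero_le _), Zs_zero, inf_bot_eq]
  · intro k hk
    exact hck' k (by omega)
  · intro a b hab
    by_cases hb : b ≤ m
    · rw [hck a (hab.trans hb), hck b hb]
      exact inf_le_inf_left _ (Zs_mono S hab)
    · rw [hck' b hb]
      by_cases ha : a ≤ m
      · rw [hck a ha]
        exact inf_le_left.trans hQ₁Q
      · rw [hck' a ha]
  · intro k hk
    rw [Subgroup.commutator_le]
    intro x hx y hy
    have hkm : k ≤ m := by omega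
    rw [hck k hkm]
    by_cases hk1 : k + 1 ≤ m
    · rw [hck (k + 1) hk1] at hx
      refine ⟨?_, Zs_comm_mem S k hx.2 (hQS hy)⟩
      -- `⁅x, y⁆ = x * (y * x⁻¹ * y⁻¹) ∈ Q₁`
      have h1 : y * x⁻¹ * y⁻¹ ∈ Q₁ := hQ₁conj (hQS hy) (Q₁.inv_mem hx.1)
      have e : ⁅x, y⁆ = x * (y * x⁻¹ * y⁻¹) := by rw [commutatorElement_def]; group
      rw [e]
      exact Q₁.mul_mem hx.1 h1
    · rw [hck' (k + 1) hk1] at hx
      have hkm' : k = m := by omega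
      subst hkm'
      rw [hZm]
      exact ⟨hab (Subgroup.commutator_mem_commutator hx hy), hQ₁S (hab (Subgroup.commutator_mem_commutator hx hy))⟩
  · intro k hk
    have hkm : k ≤ m := by omega
    rw [hck k hkm]
    have hle : Q₁ ⊓ Zs S k ≤ Q₁ := inf_le_left
    refine ⟨hle.trans hQ₁S, fun φ hφ => ?_⟩
    obtain ⟨ψ, -, hψ1, α, hα, hαψ⟩ := Cfsg.Agent.Lib.Helper88.exists_extension_aut_of_isNormal F hQ₁ hφ
    obtain ⟨s, hs, hsα⟩ := (Cfsg.Agent.Lib.Helper87.mem_autInducedBy_iff).mp (hAutS hα)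
    have hφx : ∀ x : ↥(Q₁ ⊓ Zs S k), φ x = s * (x : Ω) * s⁻¹ := by
      intro x
      rw [← hψ1 x]
      have e : (Subgroup.inclusion (le_sup_left : Q₁ ⊓ Zs S k ≤ (Q₁ ⊓ Zs S k) ⊔ Q₁) x) =
          Subgroup.inclusion (le_sup_right : Q₁ ≤ (Q₁ ⊓ Zs S k) ⊔ Q₁) ⟨x, hle x.2⟩ := Subtype.ext rfl
      rw [e, ← hαψ, hsα]
    apply le_antisymm
    · rintro _ ⟨x, rfl⟩
      rw [hφx]
      exact ⟨hQ₁conj hs x.2.1, Zs_conj_mem S k hs x.2.2⟩
    · intro y hy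
      have hy' : s⁻¹ * y * s⁻¹⁻¹ ∈ Q₁ ⊓ Zs S k :=
        ⟨hQ₁conj (S.inv_mem hs) hy.1, Zs_conj_mem S k (S.inv_mem hs) hy.2⟩
      refine ⟨⟨_, hy'⟩, ?_⟩
      rw [hφx]
      show s * (s⁻¹ * y * s⁻¹⁻¹) * s⁻¹ = y
      group

end Cfsg.Agent.S5125
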