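import Cfsg.Statements.S5130
import Cfsg.Agent.S5119
import Cfsg.Agent.Lib.Helper85.FusionNC
import Cfsg.Agent.Lib.Helper85.FusionRS
import Cfsg.Agent.Lib.Helper85.FusionSub
import Cfsg.Agent.Lib.Helper85.FusionFactor
import Cfsg.Agent.Lib.Helper85.FusionBasic
import Cfsg.Agent.Lib.Helper87.FusionCore
import Cfsg.Agent.Lib.Helper87.FusionSat
import Cfsg.Agent.Lib.Helper87.FusionNormal
import Cfsg.Agent.Lib.Helper87.FusionFully
import Cfsg.Agent.Lib.Helper87.FusionKNormSat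
import Cfsg.Agent.Lib.Helper88.FusionAlperinCR

set_option autoImplicit false
open Cfsg

namespace Cfsg.Agent.S5130

open Cfsg.FusionSystem
open Cfsg.Agent.Lib.Helper87

variable {Ω : Type*} [Group Ω] {S : Subgroup Ω}

/-- The full subsystem of a saturated system on a strongly closed subgroup `A` with `S = A C_S(A)` is saturated. -/
theorem full_isSaturated [Finite S] {p : ℕ} [Fact p.Prime] (hS : IsPGroup p S) (F : FusionSystem S)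
    (hF : F.IsSaturated p) {A : Subgroup Ω} (hA : F.StronglyClosed A)
    (hdec : ∀ g ∈ S, ∃ a ∈ A, ∃ b ∈ Subgroup.centralizer (A : Set Ω), g = a * b)
    (R : FusionSystem A) (hR : ∀ P : Subgroup Ω, P ≤ A → R.Hom P = F.Hom P) : R.IsSaturated p := by
  have hAS : A ≤ S := hA.1
  intro P hP
  obtain ⟨Q, hPQ, hQn⟩ := Cfsg.Agent.Lib.Helper85.exists_fullyNormalized_conj F (hP.trans hAS)
  obtain ⟨φ, hφ, hφr⟩ := hPQ
  have hQA : Q ≤ A := by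
    rw [← hφr]
    rintro _ ⟨x, rfl⟩
    exact hA.2 P hP φ hφ x
  obtain ⟨⟨hQS, R₀, hR₀⟩, hQr⟩ := fullyAutomized_receptive_of_fullyNormalized F hS hF hQn
  refine ⟨Q, ⟨φ, by rw [hR P hP]; exact hφ, hφr⟩, ⟨hQA, ?_⟩, ⟨hQA, ?_⟩⟩
  · have hAut : R.autGroup Q = F.autGroup Q := by
      unfold autGroup
      rw [hR Q hQA]
    have hInd : autInducedBy A Q = autInducedBy S Q := by
      apply le_antisymm
      · intro α hα
        obtain ⟨g, hg, hgα⟩ := mem_autInducedBy_iff.1 hα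
        exact mem_autInducedBy_iff.2 ⟨g, hAS hg, hgα⟩
      · intro α hα
        obtain ⟨g, hg, hgα⟩ := mem_autInducedBy_iff.1 hα
        obtain ⟨a, ha, b, hb, rfl⟩ := hdec g hg
        refine mem_autInducedBy_iff.2 ⟨a, ha, fun x => ?_⟩
        rw [hgα]
        have hbx : (x : Ω) * b = b * (x : Ω) := (Subgroup.mem_centralizer_iff.1 hb) x (hQA x.2)
        calc a * b * (x : Ω) * (a * b)⁻¹ = a * (b * (x : Ω)) * b⁻¹ * a⁻¹ := by group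
          _ = a * ((x : Ω) * b) * b⁻¹ * a⁻¹ := by rw [hbx]
          _ = a * (x : Ω) * a⁻¹ := by group
    rw [hAut, hInd]
    exact ⟨R₀, hR₀⟩
  · intro P' φ' hφ' hφ'r
    have hP'A : P' ≤ A := (R.le_of_mem hφ').1
    have hφ'F : φ' ∈ F.Hom P' := by rw [← hR P' hP'A]; exact hφ'
    obtain ⟨ψ₀, hψ₀, hψ₀e⟩ := hQr.2 P' φ' hφ'F hφ'r
    have hle : extender A P' φ' ≤ extender S P' φ' := by
      unfold extender
      apply Subgroup.closure_mono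
      rintro g ⟨hgA, hgN, h, hhA, hh⟩
      exact ⟨hAS hgA, hgN, h, hAS hhA, hh⟩
    have hextA : extender A P' φ' ≤ A := by
      unfold extender
      rw [Subgroup.closure_le]
      rintro g ⟨hgA, -⟩
      exact hgA
    refine ⟨ψ₀.comp (Subgroup.inclusion hle), ?_, fun x hP hN => hψ₀e x hP (hle hN)⟩
    rw [hR _ hextA]
    exact restrict_mem F hψ₀ hle

theorem exists_hom_of_eq (F : FusionSystem S) {P P' : Subgroup Ω} (h : P = P') {φ : P →* Ω}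
    (hφ : φ ∈ F.Hom P) :
    ∃ χ ∈ F.Hom P', ∀ (x : Ω) (hx : x ∈ P) (hx' : x ∈ P'), χ ⟨x, hx'⟩ = φ ⟨x, hx⟩ := by
  subst h
  exact ⟨φ, hφ, fun _ _ _ => rfl⟩

/-- Transport of a map `φ` of the system along a map `ψ` of the system. -/
theorem exists_conj_map (F : FusionSystem S) {P Q : Subgroup Ω} (hPQ : P ≤ Q) {φ : P →* Ω}
    (hφ : φ ∈ F.Hom P) (hφQ : ∀ x : P, φ x ∈ Q) {ψ : Q →* Ω} (hψ : ψ ∈ F.Hom Q) :
    ∃ χ ∈ F.Hom ((P.subgroupOf Q).map ψ),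
      ∀ (x : P) (hx : ψ (Subgroup.inclusion hPQ x) ∈ (P.subgroupOf Q).map ψ),
        χ ⟨ψ (Subgroup.inclusion hPQ x), hx⟩ = ψ ⟨φ x, hφQ x⟩ := by
  have hψP : ψ.comp (Subgroup.inclusion hPQ) ∈ F.Hom P := restrict_mem F hψ hPQ
  obtain ⟨inv, hinv, hinve⟩ := F.inv_mem hψP
  have hinvP : ∀ y : (ψ.comp (Subgroup.inclusion hPQ)).range, inv y ∈ P := by
    rintro ⟨_, x, rfl⟩
    rw [hinve x]
    exact x.2
  have h1 := F.comp_mem hinv hφ hinvP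
  have h2 := F.comp_mem h1 hψ (fun y => hφQ _)
  have hrange : (ψ.comp (Subgroup.inclusion hPQ)).range = (P.subgroupOf Q).map ψ := by
    ext y
    constructor
    · rintro ⟨x, rfl⟩
      exact ⟨Subgroup.inclusion hPQ x, x.2, rfl⟩
    · rintro ⟨z, hz, rfl⟩
      exact ⟨⟨z, hz⟩, rfl⟩
  obtain ⟨χ, hχ, hχe⟩ := exists_hom_of_eq F hrange h2
  refine ⟨χ, hχ, fun x hx => ?_⟩
  have hx0 : ψ (Subgroup.inclusion hPQ x) ∈ (ψ.comp (Subgroup.inclusion hPQ)).range := ⟨x, rfl⟩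
  refine (hχe (ψ (Subgroup.inclusion hPQ x)) hx0 hx).trans ?_
  show ψ ⟨φ ⟨inv ⟨ψ (Subgroup.inclusion hPQ x), hx0⟩, _⟩, _⟩ = ψ ⟨φ x, _⟩
  congr 2
  exact congrArg φ (Subtype.ext (hinve x))

/-- Every map of the saturated system `F` with source `Q` and image `Q'` extends to `Q ⊔ B`, for `B` strongly closed
and centralizing both `Q` and `Q'`. -/
theorem exists_extension_sup [Finite S] {p : ℕ} [Fact p.Prime] (F : FusionSystem S)
    (hF : F.IsSaturated p) {B : Subgroup Ω} (hB : F.StronglyClosed B) {Q : Subgroup Ω} {ψ : Q →* Ω}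
    (hψ : ψ ∈ F.Hom Q) (hBQ : B ≤ Subgroup.centralizer (Q : Set Ω))
    (hBQ' : B ≤ Subgroup.centralizer (ψ.range : Set Ω)) :
    ∃ ψ' ∈ F.Hom (Q ⊔ B), ∀ x : Q, ψ' (Subgroup.inclusion le_sup_left x) = ψ x := by
  have hQS : Q ≤ S := hom_le F hψ
  have hQ'S : ψ.range ≤ S := by
    rintro _ ⟨x, rfl⟩
    exact hom_map_mem F hψ x
  obtain ⟨Qs, ⟨χ, hχ, hχr⟩, -, hQsr⟩ := hF ψ.range hQ'S
  have hχψ : χ.comp ψ.rangeRestrict ∈ F.Hom Q := F.comp_mem hψ hχ (fun x => ⟨x, rfl⟩)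
  have hχψr : (χ.comp ψ.rangeRestrict).range = Qs := by
    rw [← hχr]
    ext y
    constructor
    · rintro ⟨x, rfl⟩
      exact ⟨_, rfl⟩
    · rintro ⟨⟨_, x, rfl⟩, rfl⟩
      exact ⟨x, rfl⟩
  obtain ⟨ν₁, hν₁, hν₁e⟩ := hQsr.2 Q _ hχψ hχψr
  obtain ⟨ν₂, hν₂, hν₂e⟩ := hQsr.2 ψ.range χ hχ hχr
  have hle₁ : Q ⊔ B ≤ extender S Q (χ.comp ψ.rangeRestrict) := by
    refine sup_le (le_extender_of_hom F hχψ) ?_
    intro b hb
    exact Cfsg.Agent.Lib.Helper88.centralizerIn_le_extender _ ⟨hB.1 hb, hBQ hb⟩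
  have hle₂ : ψ.range ⊔ B ≤ extender S ψ.range χ := by
    refine sup_le (le_extender_of_hom F hχ) ?_
    intro b hb
    exact Cfsg.Agent.Lib.Helper88.centralizerIn_le_extender _ ⟨hB.1 hb, hBQ' hb⟩
  have hμ₁ : ν₁.comp (Subgroup.inclusion hle₁) ∈ F.Hom (Q ⊔ B) := restrict_mem F hν₁ hle₁
  have hμ₂ : ν₂.comp (Subgroup.inclusion hle₂) ∈ F.Hom (ψ.range ⊔ B) := restrict_mem F hν₂ hle₂
  obtain ⟨inv₂, hinv₂, hinv₂e⟩ := F.inv_mem hμ₂
  -- `μ₁` maps into the range of `μ₂`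
  have hmaps : ∀ y, (ν₁.comp (Subgroup.inclusion hle₁)) y ∈ (ν₂.comp (Subgroup.inclusion hle₂)).range := by
    apply Cfsg.Agent.Lib.Helper85.forall_mem_of_sup
    · intro a ha
      have h1 : (ν₁.comp (Subgroup.inclusion hle₁)) ⟨a, le_sup_left (b := B) ha⟩ = χ ⟨ψ ⟨a, ha⟩, ⟨_, rfl⟩⟩ :=
        hν₁e a ha _
      rw [h1]
      refine ⟨Subgroup.inclusion le_sup_left ⟨ψ ⟨a, ha⟩, ⟨_, rfl⟩⟩, ?_⟩
      exact hν₂e _ _ _
    · intro b hb
      have hb' : (ν₁.comp (Subgroup.inclusion hle₁)) ⟨b, le_sup_right (a := Q) hb⟩ ∈ B :=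
        (Cfsg.Agent.Lib.Helper85.stronglyClosed_apply_mem_iff F hB hμ₁ _).mpr hb
      obtain ⟨x, -, hx⟩ := Cfsg.Agent.Lib.Helper85.stronglyClosed_surj F hB hμ₂ le_sup_right _ hb'
      exact ⟨x, hx⟩
  refine ⟨inv₂.comp ((ν₁.comp (Subgroup.inclusion hle₁)).codRestrict _ hmaps), F.comp_mem hμ₁ hinv₂ hmaps,
    fun x => ?_⟩
  have h1 : (ν₁.comp (Subgroup.inclusion hle₁)) (Subgroup.inclusion le_sup_left x) = χ ⟨ψ x, ⟨_, rfl⟩⟩ :=
    hν₁e x x.2 _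
  have h2 : (ν₂.comp (Subgroup.inclusion hle₂)) (Subgroup.inclusion le_sup_left ⟨ψ x, ⟨x, rfl⟩⟩) =
      χ ⟨ψ x, ⟨_, rfl⟩⟩ := hν₂e _ _ _
  have h3 := hinv₂e (Subgroup.inclusion le_sup_left ⟨ψ x, ⟨x, rfl⟩⟩)
  show inv₂ ⟨(ν₁.comp (Subgroup.inclusion hle₁)) (Subgroup.inclusion le_sup_left x), hmaps _⟩ = ψ x
  have h4 : (⟨(ν₁.comp (Subgroup.inclusion hle₁)) (Subgroup.inclusion le_sup_left x), hmaps _⟩ :
      (ν₂.comp (Subgroup.inclusion hle₂)).range) =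
      ⟨(ν₂.comp (Subgroup.inclusion hle₂)) (Subgroup.inclusion le_sup_left ⟨ψ x, ⟨x, rfl⟩⟩), ⟨_, rfl⟩⟩ :=
    Subtype.ext (h1.trans h2.symm)
  rw [h4, h3]
  rfl

/-- Strong invariance of the `S₂`-centralizing maps. -/
theorem strongInv_cent [Finite S] {p : ℕ} [Fact p.Prime] (F : FusionSystem S) (hF : F.IsSaturated p)
    {S₁ S₂ : Subgroup Ω} (hcomm : ∀ a ∈ S₁, ∀ b ∈ S₂, a * b = b * a) (h₁ : F.StronglyClosed S₁)
    (h₂ : F.StronglyClosed S₂) {P Q : Subgroup Ω} (hPQ : P ≤ Q) (hQ : Q ≤ S₁) {φ : P →* Ω}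
    (hφ : φ ∈ F.centralizerHom S₂ P) (hφQ : ∀ x : P, φ x ∈ Q) {ψ : Q →* Ω} (hψ : ψ ∈ F.Hom Q) :
    ∃ χ ∈ F.centralizerHom S₂ ((P.subgroupOf Q).map ψ),
      ∀ (x : P) (hx : ψ (Subgroup.inclusion hPQ x) ∈ (P.subgroupOf Q).map ψ),
        χ ⟨ψ (Subgroup.inclusion hPQ x), hx⟩ = ψ ⟨φ x, hφQ x⟩ := by
  obtain ⟨hφF, -, -, φ', hφ', hφ'P, hφ'S⟩ := hφ
  obtain ⟨χ, hχ, hχe⟩ := exists_conj_map F hPQ hφF hφQ hψ
  have hcent : ∀ X : Subgroup Ω, X ≤ S₁ → S₂ ≤ Subgroup.centralizer (X : Set Ω) := by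
    intro X hX b hb
    rw [Subgroup.mem_centralizer_iff]
    intro x hx
    exact hcomm x (hX hx) b hb
  have hS₁cent : S₁ ≤ centralizerIn S S₂ := by
    intro a ha
    refine ⟨h₁.1 ha, ?_⟩
    show a ∈ Subgroup.centralizer (S₂ : Set Ω)
    rw [Subgroup.mem_centralizer_iff]
    intro b hb
    exact (hcomm a ha b hb).symm
  have hψr : ψ.range ≤ S₁ := by
    rintro _ ⟨x, rfl⟩
    exact h₁.2 Q hQ ψ hψ x
  obtain ⟨ψ', hψ', hψ'Q⟩ := exists_extension_sup F hF h₂ hψ (hcent Q hQ) (hcent _ hψr)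
  have hP₁ : (P.subgroupOf Q).map ψ ≤ S₁ := by
    rintro _ ⟨z, -, rfl⟩
    exact hψr ⟨z, rfl⟩
  refine ⟨χ, ⟨hχ, hP₁.trans hS₁cent, fun x => hS₁cent (h₁.2 _ hP₁ χ hχ x), ?_⟩, hχe⟩
  have hle : P ⊔ S₂ ≤ Q ⊔ S₂ := sup_le_sup_right hPQ S₂
  have hφ'maps : ∀ y, φ' y ∈ Q ⊔ S₂ := by
    apply Cfsg.Agent.Lib.Helper85.forall_mem_of_sup
    · intro a ha
      have : φ' ⟨a, le_sup_left (b := S₂) ha⟩ = φ ⟨a, ha⟩ := hφ'P ⟨a, ha⟩
      rw [this]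
      exact le_sup_left (a := Q) (b := S₂) (hφQ _)
    · intro b hb
      have : φ' ⟨b, le_sup_right (a := P) hb⟩ = b := hφ'S ⟨b, hb⟩
      rw [this]
      exact le_sup_right (a := Q) (b := S₂) hb
  obtain ⟨χ₀, hχ₀, hχ₀e⟩ := exists_conj_map F hle hφ' hφ'maps hψ'
  have hχ₀e' : ∀ (y : ↥(P ⊔ S₂)) (v : Ω) (hv : v ∈ ((P ⊔ S₂).subgroupOf (Q ⊔ S₂)).map ψ'),
      v = ψ' (Subgroup.inclusion hle y) → χ₀ ⟨v, hv⟩ = ψ' ⟨φ' y, hφ'maps y⟩ := by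
    intro y v hv hvy
    subst hvy
    exact hχ₀e y hv
  have hψ'S₂ : ∀ (y : ↥(Q ⊔ S₂)), (y : Ω) ∈ S₂ → ψ' y ∈ S₂ := fun y hy =>
    (Cfsg.Agent.Lib.Helper85.stronglyClosed_apply_mem_iff F h₂ hψ' y).mpr hy
  have hsrc : ((P ⊔ S₂).subgroupOf (Q ⊔ S₂)).map ψ' = (P.subgroupOf Q).map ψ ⊔ S₂ := by
    apply le_antisymm
    · rintro _ ⟨z, hz, rfl⟩
      have hz' : (z : Ω) ∈ P ⊔ S₂ := Subgroup.mem_subgroupOf.1 hz
      have key := Cfsg.Agent.Lib.Helper85.forall_mem_of_sup (ψ'.comp (Subgroup.inclusion hle))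
        (C := (P.subgroupOf Q).map ψ ⊔ S₂) (fun a ha => ?_) (fun b hb => ?_) ⟨z, hz'⟩
      · exact key
      · have : (ψ'.comp (Subgroup.inclusion hle)) ⟨a, le_sup_left (b := S₂) ha⟩ = ψ ⟨a, hPQ ha⟩ :=
          hψ'Q ⟨a, hPQ ha⟩
        rw [this]
        exact le_sup_left (a := (P.subgroupOf Q).map ψ) (b := S₂)
          ⟨⟨a, hPQ ha⟩, Subgroup.mem_subgroupOf.2 ha, rfl⟩
      · exact le_sup_right (a := (P.subgroupOf Q).map ψ) (b := S₂) (hψ'S₂ _ hb)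
    · apply sup_le
      · rintro _ ⟨w, hw, rfl⟩
        refine ⟨Subgroup.inclusion le_sup_left w, ?_, hψ'Q w⟩
        exact Subgroup.mem_subgroupOf.2 (le_sup_left (a := P) (b := S₂) (Subgroup.mem_subgroupOf.1 hw))
      · intro s hs
        obtain ⟨x, hxS₂, hxs⟩ := Cfsg.Agent.Lib.Helper85.stronglyClosed_surj F h₂ hψ' le_sup_right s hs
        exact ⟨x, Subgroup.mem_subgroupOf.2 (le_sup_right (a := P) (b := S₂) hxS₂), hxs⟩
  obtain ⟨χ', hχ', hχ'e⟩ := exists_hom_of_eq F hsrc hχ₀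
  refine ⟨χ', hχ', fun x => ?_, fun s => ?_⟩
  · obtain ⟨⟨w, hwQ⟩, hwP, hwx⟩ := x.2
    have hwP' : w ∈ P := Subgroup.mem_subgroupOf.1 hwP
    have hv : (x : Ω) ∈ ((P ⊔ S₂).subgroupOf (Q ⊔ S₂)).map ψ' := by
      rw [hsrc]; exact le_sup_left (a := (P.subgroupOf Q).map ψ) (b := S₂) x.2
    have e1 : (x : Ω) = ψ' (Subgroup.inclusion hle (Subgroup.inclusion le_sup_left ⟨w, hwP'⟩)) := by
      rw [← hwx]
      exact (hψ'Q ⟨w, hwQ⟩).symm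
    have h3 := hχ₀e' (Subgroup.inclusion le_sup_left ⟨w, hwP'⟩) (x : Ω) hv e1
    have h4 : χ' (Subgroup.inclusion le_sup_left x) = χ₀ ⟨(x : Ω), hv⟩ := hχ'e _ hv _
    rw [h4, h3]
    have h5 : φ' (Subgroup.inclusion le_sup_left ⟨w, hwP'⟩) = φ ⟨w, hwP'⟩ := hφ'P ⟨w, hwP'⟩
    have h6 : (⟨φ' (Subgroup.inclusion le_sup_left ⟨w, hwP'⟩), hφ'maps _⟩ : ↥(Q ⊔ S₂)) =
        Subgroup.inclusion le_sup_left ⟨φ ⟨w, hwP'⟩, hφQ _⟩ := Subtype.ext h5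
    rw [h6, hψ'Q]
    have hx1 : ψ (Subgroup.inclusion hPQ ⟨w, hwP'⟩) ∈ (P.subgroupOf Q).map ψ :=
      ⟨_, Subgroup.mem_subgroupOf.2 hwP', rfl⟩
    have h7 := hχe ⟨w, hwP'⟩ hx1
    rw [← h7]
    congr 1
    exact Subtype.ext hwx
  · obtain ⟨x, hxS₂, hxs⟩ := Cfsg.Agent.Lib.Helper85.stronglyClosed_surj F h₂ hψ' le_sup_right s s.2
    have hv : (s : Ω) ∈ ((P ⊔ S₂).subgroupOf (Q ⊔ S₂)).map ψ' := by
      rw [hsrc]; exact le_sup_right (a := (P.subgroupOf Q).map ψ) (b := S₂) s.2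
    have e1 : (s : Ω) = ψ' (Subgroup.inclusion hle (Subgroup.inclusion le_sup_right ⟨(x : Ω), hxS₂⟩)) := by
      rw [← hxs]
      congr 1
    have h3 := hχ₀e' (Subgroup.inclusion le_sup_right ⟨(x : Ω), hxS₂⟩) (s : Ω) hv e1
    have h4 : χ' (Subgroup.inclusion le_sup_right s) = χ₀ ⟨(s : Ω), hv⟩ := hχ'e _ hv _
    rw [h4, h3]
    have h5 : φ' (Subgroup.inclusion le_sup_right ⟨(x : Ω), hxS₂⟩) = (x : Ω) := hφ'S ⟨(x : Ω), hxS₂⟩
    have h6 : (⟨φ' (Subgroup.inclusion le_sup_right ⟨(x : Ω), hxS₂⟩), hφ'maps _⟩ : ↥(Q ⊔ S₂)) = x :=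
      Subtype.ext h5
    rw [h6, hxs]

/-- An automorphism maps central elements to central elements; so `a⁻¹ α(a)` is central. -/
theorem inv_mul_aut_mem_center {A : Subgroup Ω} (α : MulAut A) {a : Ω} (haA : a ∈ A)
    (hac : a ∈ Subgroup.centralizer (A : Set Ω)) :
    a⁻¹ * ((α ⟨a, haA⟩ : A) : Ω) ∈ A ⊓ Subgroup.centralizer (A : Set Ω) := by
  refine ⟨A.mul_mem (A.inv_mem haA) (α _).2, ?_⟩
  have hαc : ((α ⟨a, haA⟩ : A) : Ω) ∈ Subgroup.centralizer (A : Set Ω) := by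
    rw [Subgroup.mem_centralizer_iff]
    intro y hy
    have h1 : (⟨y, hy⟩ : A) = α (α⁻¹ ⟨y, hy⟩) := by rw [MulAut.apply_inv_self]
    have h2 : (α⁻¹ ⟨y, hy⟩ : A) * ⟨a, haA⟩ = ⟨a, haA⟩ * (α⁻¹ ⟨y, hy⟩ : A) := by
      apply Subtype.ext
      exact (Subgroup.mem_centralizer_iff.1 hac) _ (α⁻¹ ⟨y, hy⟩ : A).2
    have h3 := congrArg (fun t : A => ((α t : A) : Ω)) h2
    simp only [map_mul, MulAut.apply_inv_self, Subgroup.coe_mul] at h3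
    exact h3
  exact Subgroup.mul_mem _ (Subgroup.inv_mem _ hac) hαc

/-- Let F be a saturated fusion system over a finite p-group S that is the direct product of two subgroups S₁ and S₂, each strongly closed in F. Let R be the full subsystem of F over S₁ (all maps of F between subgroups of S₁) and R′ the subsystem over S₁ of those maps that extend to the subgroup generated with S₂ fixing S₂ elementwise. Then R and R′ are saturated, R′ is normal in F and in R, and R is weakly normal in F. -/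
theorem result {Ω : Type*} [Group Ω] {S : Subgroup Ω} [Finite S] (p : ℕ) [Fact p.Prime] (hS : IsPGroup p S) (F : Cfsg.FusionSystem S) (hF : F.IsSaturated p) (S₁ S₂ : Subgroup Ω) (hprod : Cfsg.IsInternalDirectProduct S₁ S₂ S) (h₁ : F.StronglyClosed S₁) (h₂ : F.StronglyClosed S₂) (R R' : Cfsg.FusionSystem S₁) (hR : ∀ P : Subgroup Ω, P ≤ S₁ → R.Hom P = F.Hom P) (hR' : ∀ P : Subgroup Ω, P ≤ S₁ → R'.Hom P = F.centralizerHom S₂ P) : R.IsSaturated p ∧ R'.IsSaturated p ∧ R'.IsNormalIn F p ∧ R'.IsNormalIn R p ∧ R.IsWeaklyNormalIn F p := by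
  obtain ⟨hS₁S, hS₂S, hcomm, -, hsup⟩ := hprod
  haveI : Finite S₁ := finite_of_le hS₁S
  have hdec : ∀ g ∈ S, ∃ a ∈ S₁, ∃ b ∈ S₂, g = a * b := by
    intro g hg
    have hg' : g ∈ S₁ ⊔ S₂ := by rw [hsup]; exact hg
    refine exists_mul_of_mem_sup (H := S₁) (K := S₂) (fun k hk h hh => ?_) hg'
    have : k * h * k⁻¹ = h := by rw [← hcomm h hh k hk]; group
    rw [this]; exact hh
  have hcent : ∀ X : Subgroup Ω, X ≤ S₁ → S₂ ≤ Subgroup.centralizer (X : Set Ω) := by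
    intro X hX b hb
    rw [Subgroup.mem_centralizer_iff]
    intro x hx
    exact hcomm x (hX hx) b hb
  have hS₁cent : S₁ ≤ centralizerIn S S₂ := by
    intro a ha
    refine ⟨hS₁S ha, ?_⟩
    show a ∈ Subgroup.centralizer (S₂ : Set Ω)
    rw [Subgroup.mem_centralizer_iff]
    intro b hb
    exact (hcomm a ha b hb).symm
  -- `R` is saturated
  have hRsat : R.IsSaturated p := full_isSaturated hS F hF h₁
    (fun g hg => by
      obtain ⟨a, ha, b, hb, e⟩ := hdec g hg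
      exact ⟨a, ha, b, hcent S₁ le_rfl hb, e⟩) R hR
  -- `R'` is saturated
  have hfc : F.IsFullyCentralized S₂ := by
    refine ⟨hS₂S, ?_⟩
    rintro Q ⟨φ, hφ, rfl⟩
    have hle : φ.range ≤ S₂ := by
      rintro _ ⟨x, rfl⟩
      exact h₂.2 S₂ le_rfl φ hφ x
    haveI : Finite S₂ := finite_of_le hS₂S
    have hcard : Nat.card S₂ ≤ Nat.card φ.range := by
      have := Nat.card_congr (Equiv.ofInjective φ (F.injective_of_mem hφ))
      rw [this]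
      exact le_of_eq rfl
    have := Subgroup.eq_of_le_of_card_ge hle hcard
    rw [this]
  have hCsat : (Cfsg.Agent.Lib.Helper85.centralizerSystem F S₂ hS₂S).IsSaturated p :=
    isSaturated_of_isCentralizerSystem F hS hF hfc
      (Cfsg.Agent.Lib.Helper85.isCentralizerSystem_centralizerSystem F S₂ hS₂S)
  have hT₂S : centralizerIn S S₂ ≤ S := inf_le_left
  haveI : Finite ↥(centralizerIn S S₂) := finite_of_le hT₂S
  have hR'sat : R'.IsSaturated p := by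
    refine full_isSaturated (hS.to_le hT₂S) (Cfsg.Agent.Lib.Helper85.centralizerSystem F S₂ hS₂S) hCsat
      (A := S₁) ⟨hS₁cent, fun R₀ hR₀ φ hφ x => h₁.2 R₀ hR₀ φ hφ.1 x⟩ (fun g hg => ?_) R' (fun P hP => hR' P hP)
    obtain ⟨a, ha, b, hb, e⟩ := hdec g hg.1
    exact ⟨a, ha, b, hcent S₁ le_rfl hb, e⟩
  -- subsystems
  have hR'F : R'.IsSubsystemOf F := fun P φ hφ => by
    have hP := (R'.le_of_mem hφ).1
    rw [hR' P hP] at hφ
    exact hφ.1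
  have hRF : R.IsSubsystemOf F := fun P φ hφ => by
    have hP := (R.le_of_mem hφ).1
    rw [hR P hP] at hφ
    exact hφ
  have hR'R : R'.IsSubsystemOf R := fun P φ hφ => by
    have hP := (R'.le_of_mem hφ).1
    rw [hR P hP]
    exact hR'F P hφ
  have h₁R : R.StronglyClosed S₁ := ⟨le_rfl, fun R₀ _ φ hφ x => (R.le_of_mem hφ).2 x⟩
  have hP₁ : ∀ {P Q : Subgroup Ω} (_ : Q ≤ S₁) {ψ : Q →* Ω}, ψ ∈ F.Hom Q → (P.subgroupOf Q).map ψ ≤ S₁ := by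
    intro P Q hQ ψ hψ
    rintro _ ⟨z, -, rfl⟩
    exact h₁.2 Q hQ ψ hψ z
  -- invariance
  have hInvR'F : R'.IsInvariantIn F := (Cfsg.Agent.S5119.result p hS F hF R' hR'F h₁).2
    (fun P Q hPQ hQ φ hφ hφQ ψ hψ => by
      rw [hR' P (hPQ.trans hQ)] at hφ
      obtain ⟨χ, hχ, hχe⟩ := strongInv_cent F hF hcomm h₁ h₂ hPQ hQ hφ hφQ hψ
      exact ⟨χ, by rw [hR' _ (hP₁ hQ hψ)]; exact hχ, hχe⟩)
  have hInvR'R : R'.IsInvariantIn R := (Cfsg.Agent.S5119.result p (hS.to_le hS₁S) R hRsat R' hR'R h₁R).2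
    (fun P Q hPQ hQ φ hφ hφQ ψ hψ => by
      rw [hR' P (hPQ.trans hQ)] at hφ
      rw [hR Q hQ] at hψ
      obtain ⟨χ, hχ, hχe⟩ := strongInv_cent F hF hcomm h₁ h₂ hPQ hQ hφ hφQ hψ
      exact ⟨χ, by rw [hR' _ (hP₁ hQ hψ)]; exact hχ, hχe⟩)
  have hInvRF : R.IsInvariantIn F := (Cfsg.Agent.S5119.result p hS F hF R hRF h₁).2
    (fun P Q hPQ hQ φ hφ hφQ ψ hψ => by
      rw [hR P (hPQ.trans hQ)] at hφ
      obtain ⟨χ, hχ, hχe⟩ := exists_conj_map F hPQ hφ hφQ hψ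
      exact ⟨χ, by rw [hR _ (hP₁ hQ hψ)]; exact hχ, hχe⟩)
  refine ⟨hRsat, hR'sat, ⟨⟨hR'sat, hF, hInvR'F⟩, ?_⟩, ⟨⟨hR'sat, hRsat, hInvR'R⟩, ?_⟩, ⟨hRsat, hF, hInvRF⟩⟩
  · -- extension condition in `F`
    intro α hα
    have hαR' : S₁.subtype.comp (α : S₁ ≃* S₁).toMonoidHom ∈ R'.Hom S₁ := (mem_autGroup_iff R' le_rfl).1 hα
    rw [hR' S₁ le_rfl] at hαR'
    obtain ⟨hαF, -, -, α', hα', hα'S₁, hα'S₂⟩ := hαR'
    have hM : S₁ ⊔ S₂ = S₁ ⊔ centralizerIn S S₁ := by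
      apply le_antisymm
      · refine sup_le_sup_left ?_ S₁
        intro b hb
        exact ⟨hS₂S hb, hcent S₁ le_rfl hb⟩
      · rw [hsup]
        exact sup_le hS₁S inf_le_left
    obtain ⟨β₀, hβ₀, hβ₀e⟩ := exists_hom_of_eq F hM hα'
    have hMS : S₁ ⊔ centralizerIn S S₁ = S := by rw [← hM, hsup]
    haveI : Finite ↥(S₁ ⊔ centralizerIn S S₁) := finite_of_le (le_of_eq hMS)
    have hval : ∀ y, β₀ y ∈ S₁ ⊔ centralizerIn S S₁ := fun y =>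
      (le_of_eq hMS.symm) (hom_map_mem F hβ₀ y)
    obtain ⟨β, hβ, hβe⟩ := exists_aut_of_maps_into' F hβ₀ hval
    refine ⟨β, hβ, fun x => ?_, fun c hc => ?_⟩
    · rw [hβe]
      have h1 : β₀ (Subgroup.inclusion le_sup_left x) = α' (Subgroup.inclusion le_sup_left x) :=
        hβ₀e _ _ _
      rw [h1, hα'S₁]
      rfl
    · obtain ⟨a, ha, b, hb, hcab⟩ := hdec (c : Ω) hc.1
      have hbc : b ∈ Subgroup.centralizer (S₁ : Set Ω) := hcent S₁ le_rfl hb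
      have hac : a ∈ Subgroup.centralizer (S₁ : Set Ω) := by
        have : a = (c : Ω) * b⁻¹ := by rw [hcab]; group
        rw [this]
        exact Subgroup.mul_mem _ hc.2 (Subgroup.inv_mem _ hbc)
      have hcmem : (c : Ω) ∈ S₁ ⊔ S₂ := by rw [hM]; exact c.2
      have h1 : β₀ c = α' ⟨(c : Ω), hcmem⟩ := hβ₀e _ _ _
      have h2 : (⟨(c : Ω), hcmem⟩ : ↥(S₁ ⊔ S₂)) =
          Subgroup.inclusion le_sup_left ⟨a, ha⟩ * Subgroup.inclusion le_sup_right ⟨b, hb⟩ :=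
        Subtype.ext hcab
      have h3 : ((β c : ↥(S₁ ⊔ centralizerIn S S₁)) : Ω) = ((α ⟨a, ha⟩ : S₁) : Ω) * b := by
        rw [hβe, h1, h2, map_mul, hα'S₁, hα'S₂]
        rfl
      rw [h3]
      have h4 := inv_mul_aut_mem_center α ha hac
      have h5 : (c : Ω)⁻¹ * (((α ⟨a, ha⟩ : S₁) : Ω) * b) = a⁻¹ * ((α ⟨a, ha⟩ : S₁) : Ω) := by
        have hcomm2 : (a⁻¹ * ((α ⟨a, ha⟩ : S₁) : Ω)) * b = b * (a⁻¹ * ((α ⟨a, ha⟩ : S₁) : Ω)) :=
          hcomm _ h4.1 b hb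
        calc (c : Ω)⁻¹ * (((α ⟨a, ha⟩ : S₁) : Ω) * b) = b⁻¹ * ((a⁻¹ * ((α ⟨a, ha⟩ : S₁) : Ω)) * b) := by
              rw [hcab]; group
          _ = a⁻¹ * ((α ⟨a, ha⟩ : S₁) : Ω) := by rw [hcomm2]; group
      rw [h5]
      exact h4
  · -- extension condition in `R`
    intro α hα
    have hαR' : S₁.subtype.comp (α : S₁ ≃* S₁).toMonoidHom ∈ R'.Hom S₁ := (mem_autGroup_iff R' le_rfl).1 hα
    have hαR : S₁.subtype.comp (α : S₁ ≃* S₁).toMonoidHom ∈ R.Hom S₁ := hR'R S₁ hαR'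
    have hM : S₁ = S₁ ⊔ centralizerIn S₁ S₁ := by
      apply le_antisymm le_sup_left
      exact sup_le le_rfl inf_le_left
    obtain ⟨β₀, hβ₀, hβ₀e⟩ := exists_hom_of_eq R hM hαR
    haveI : Finite ↥(S₁ ⊔ centralizerIn S₁ S₁) := finite_of_le (le_of_eq hM.symm)
    have hval : ∀ y, β₀ y ∈ S₁ ⊔ centralizerIn S₁ S₁ := fun y =>
      le_sup_left (a := S₁) (b := centralizerIn S₁ S₁) ((R.le_of_mem hβ₀).2 y)
    obtain ⟨β, hβ, hβe⟩ := exists_aut_of_maps_into' R hβ₀ hval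
    refine ⟨β, hβ, fun x => ?_, fun c hc => ?_⟩
    · rw [hβe]
      exact hβ₀e _ x.2 _
    · have h1 : ((β c : ↥(S₁ ⊔ centralizerIn S₁ S₁)) : Ω) = ((α ⟨(c : Ω), hc.1⟩ : S₁) : Ω) := by
        rw [hβe]
        exact hβ₀e _ hc.1 _
      rw [h1]
      exact inv_mul_aut_mem_center α hc.1 hc.2

end Cfsg.Agent.S5130
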