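import Cfsg.Statements.S5133
import Cfsg.Agent.Lib.Helper85.FusionQuotSat

set_option autoImplicit false
open Cfsg

namespace Cfsg.Agent.S5133

open Cfsg.FusionSystem Cfsg.Agent.Lib.Helper85

variable {Ω : Type*} [Group Ω] {S : Subgroup Ω} {Ω' : Type*} [Group Ω'] {S' : Subgroup Ω'}

theorem mem_ker_iff (θ : S →* Ω') (s : S) : θ s = 1 ↔ (s : Ω) ∈ preimageAlong θ ⊥ := by
  rw [mem_preimageAlong_iff]
  constructor
  · intro h
    exact ⟨s.2, Subgroup.mem_bot.mpr h⟩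
  · rintro ⟨_, h⟩
    exact Subgroup.mem_bot.mp h

theorem ker_stronglyClosed (F : FusionSystem S) (F' : FusionSystem S') (θ : S →* Ω')
    (hθ : F.IsMorphism F' θ) : F.StronglyClosed (preimageAlong θ ⊥) := by
  refine ⟨preimageAlong_le θ ⊥, fun R hR φ hφ x => ?_⟩
  obtain ⟨φ', -, hP, hφS, hP', hind⟩ := hθ.2 R φ hφ
  have h1 := hind x
  have hx : θ ⟨x, hP x.2⟩ = 1 := (mem_ker_iff θ _).mpr (hR x.2)
  have h2 : (⟨θ ⟨x, hP x.2⟩, hP' x⟩ : ↥(imageAlong θ R)) = 1 := Subtype.ext hx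
  rw [h2, map_one] at h1
  exact (mem_ker_iff θ ⟨φ x, hφS x⟩).mp h1.symm

theorem isFactorSystem_of_isSurjectiveMorphism (F : FusionSystem S) (F' : FusionSystem S') (θ : S →* Ω')
    (hθ : F.IsSurjectiveMorphism F' θ) : F.IsFactorSystem (preimageAlong θ ⊥) θ F' := by
  obtain ⟨hmor, hrange, hsurj⟩ := hθ
  refine ⟨preimageAlong_le θ ⊥, mem_ker_iff θ, hrange, fun P' φ' => ?_⟩
  constructor
  · intro hφ'
    have hP'S : P' ≤ S' := (F'.le_of_mem hφ').1
    exact ⟨hP'S, hsurj P' hP'S φ' hφ'⟩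
  · rintro ⟨hP'S, φ, hφ, hP, hφS, hP', hind⟩
    have hP'r : P' ≤ θ.range := hrange ▸ hP'S
    obtain ⟨φ'', hφ'', hP₂, hφS₂, hP'₂, hind₂⟩ := hmor.2 _ φ hφ
    refine Cfsg.Agent.Lib.Helper87.hom_of_eq_on F' (imageAlong_preimageAlong θ hP'r) hφ'' ?_
    intro y hy hy'
    obtain ⟨x, hx⟩ := exists_θp_eq θ hP'r ⟨y, hy'⟩
    have h1 := hind x
    have h2 := hind₂ x
    have e1 : (⟨θ ⟨x, hP x.2⟩, hP' x⟩ : P') = ⟨y, hy'⟩ := Subtype.ext hx
    have e2 : (⟨θ ⟨x, hP₂ x.2⟩, hP'₂ x⟩ : ↥(imageAlong θ (preimageAlong θ P'))) = ⟨y, hy⟩ :=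
      Subtype.ext hx
    rw [e1] at h1
    rw [e2] at h2
    rw [h1, h2]

/-- Let F be a saturated fusion system over a finite p-group S, F' a fusion system over S', and α : S → S' a surjective morphism of fusion systems from F to F' (α maps S onto S' and every map of F' with source P' ≤ S' is induced along α by a map of F on the full preimage of P'). Then F' is saturated. -/
theorem result {Ω : Type*} [Group Ω] {S : Subgroup Ω} [Finite S] (p : ℕ) [Fact p.Prime] (hS : IsPGroup p S) (F : Cfsg.FusionSystem S) (hF : F.IsSaturated p) {Ω' : Type*} [Group Ω'] {S' : Subgroup Ω'} (F' : Cfsg.FusionSystem S') (α : S →* Ω') (hα : F.IsSurjectiveMorphism F' α) : F'.IsSaturated p := by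
  exact isSaturated_of_isFactorSystem hS F hF (ker_stronglyClosed F F' α hα.1) α F'
    (isFactorSystem_of_isSurjectiveMorphism F F' α hα)

end Cfsg.Agent.S5133
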