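import Cfsg.Statements.S5135
import Cfsg.Agent.Lib.Helper85.FusionFactor
import Cfsg.Agent.Lib.Helper85.FusionGroupSat

set_option autoImplicit false
open Cfsg

namespace Cfsg.Agent.S5135

open Cfsg.FusionSystem Cfsg.Agent.Lib.Helper85

variable {G : Type*} [Group G]

theorem card_le_card_sylow_top [Finite G] {p : ℕ} [Fact p.Prime] (S : Sylow p G) {T : Subgroup G}
    (hT : IsPGroup p T) : Nat.card T ≤ Nat.card (S : Subgroup G) := by
  obtain ⟨g, hg⟩ := exists_conj_le_sylow S hT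
  calc Nat.card T = Nat.card (T.map (MulAut.conj g).toMonoidHom) := (card_map_conj T g).symm
    _ ≤ _ := Subgroup.card_le_of_le hg

/-- A `p`-subgroup of `S H` (`H` normal) is conjugate into `S` by an element of `H`. -/
theorem exists_conj_le_of_le_sup [Finite G] {p : ℕ} [Fact p.Prime] (S : Sylow p G) (H : Subgroup G) [H.Normal]
    {T : Subgroup G} (hT : IsPGroup p T) (hTK : T ≤ (S : Subgroup G) ⊔ H) :
    ∃ h ∈ H, T.map (MulAut.conj h).toMonoidHom ≤ S := by
  have hle : (S : Subgroup G) ≤ (S : Subgroup G) ⊔ H := le_sup_left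
  have hSyl : ∃ R : Sylow p ↥((S : Subgroup G) ⊔ H),
      (R : Subgroup ↥((S : Subgroup G) ⊔ H)) = (S : Subgroup G).subgroupOf ((S : Subgroup G) ⊔ H) := by
    rw [sylow_subgroupOf_iff hle]
    exact ⟨S.isPGroup', fun T' _ hT' => card_le_card_sylow_top S hT'⟩
  obtain ⟨k, hk, hkT⟩ := exists_conj_le_of_sylow_subgroupOf hSyl hTK hT
  have hnorm : (S : Subgroup G) ≤ Subgroup.normalizer (H : Set G) := by
    rw [Subgroup.normalizer_eq_top]
    exact le_top
  obtain ⟨s, hs, h, hh, rfl⟩ := mem_sup_of_le_normalizer hnorm hk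
  refine ⟨h, hh, ?_⟩
  rintro _ ⟨x, hx, rfl⟩
  have h1 : s * h * x * (s * h)⁻¹ ∈ (S : Subgroup G) := hkT ⟨x, hx, rfl⟩
  have h2 : s⁻¹ * (s * h * x * (s * h)⁻¹) * s ∈ (S : Subgroup G) :=
    Subgroup.mul_mem _ (Subgroup.mul_mem _ (Subgroup.inv_mem _ hs) h1) hs
  have e : s⁻¹ * (s * h * x * (s * h)⁻¹) * s = h * x * h⁻¹ := by group
  rw [e] at h2
  exact h2

/-- Let G be a finite group, S a Sylow p-subgroup and H a normal subgroup of G. Then the fusion system of G/H on the image SH/H of S is the factor system of the fusion system of G on S modulo S ∩ H, read through the quotient map restricted to S: for each subgroup P' of SH/H, the conjugation maps by elements of G/H defined on P' with values in SH/H are exactly the homomorphisms induced by the conjugation maps by elements of G defined on the full preimage of P' in S with values in S. -/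
theorem result {G : Type*} [Group G] [Finite G] (p : ℕ) [Fact p.Prime] (S : Sylow p G) (H : Subgroup G) [H.Normal] : (Cfsg.groupFusionSystem (S : Subgroup G)).IsFactorSystem ((S : Subgroup G) ⊓ H) ((QuotientGroup.mk' H).comp (S : Subgroup G).subtype) (Cfsg.groupFusionSystem ((S : Subgroup G).map (QuotientGroup.mk' H))) := by
  set π := QuotientGroup.mk' H with hπ
  set θ : ↥(S : Subgroup G) →* G ⧸ H := π.comp (S : Subgroup G).subtype with hθ
  have hrange : θ.range = (S : Subgroup G).map π := by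
    rw [hθ, MonoidHom.range_comp, Subgroup.range_subtype]
  have hker : ∀ s : ↥(S : Subgroup G), θ s = 1 ↔ (s : G) ∈ (S : Subgroup G) ⊓ H := by
    intro s
    show π (s : G) = 1 ↔ _
    rw [hπ, QuotientGroup.mk'_apply, QuotientGroup.eq_one_iff]
    exact ⟨fun h => ⟨s.2, h⟩, fun h => h.2⟩
  refine ⟨inf_le_left, hker, hrange, fun P' φ' => ⟨?_, ?_⟩⟩
  · rintro ⟨hP', hφ'S, gbar, hgbar⟩
    obtain ⟨g, rfl⟩ := QuotientGroup.mk'_surjective H gbar
    refine ⟨hP', ?_⟩
    set Pt := preimageAlong θ P' with hPt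
    have hPtS : Pt ≤ (S : Subgroup G) := preimageAlong_le θ P'
    have hθPt : ∀ x : Pt, θ ⟨x, hPtS x.2⟩ ∈ P' := fun x => ((mem_preimageAlong_iff θ P' x).mp x.2).2
    have hT : IsPGroup p (Pt.map (MulAut.conj g).toMonoidHom) := (S.isPGroup'.to_le hPtS).map _
    have hTK : Pt.map (MulAut.conj g).toMonoidHom ≤ (S : Subgroup G) ⊔ H := by
      rintro _ ⟨x, hx, rfl⟩
      have h1 : π (g * x * g⁻¹) ∈ (S : Subgroup G).map π := by
        have := hφ'S ⟨θ ⟨x, hPtS hx⟩, hθPt ⟨x, hx⟩⟩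
        rw [hgbar] at this
        rw [map_mul, map_mul, map_inv]
        exact this
      obtain ⟨s, hs, hsz⟩ := h1
      have h2 : s⁻¹ * (g * x * g⁻¹) ∈ H := by
        rw [← QuotientGroup.eq_one_iff, QuotientGroup.mk_mul, QuotientGroup.mk_inv]
        have : (QuotientGroup.mk s : G ⧸ H) = QuotientGroup.mk (g * x * g⁻¹) := hsz
        rw [this, inv_mul_cancel]
      have e : (MulAut.conj g).toMonoidHom x = s * (s⁻¹ * (g * x * g⁻¹)) := by
        show g * x * g⁻¹ = _
        group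
      rw [e]
      exact Subgroup.mul_mem _ (le_sup_left (b := H) hs) (le_sup_right (a := (S : Subgroup G)) h2)
    obtain ⟨h, hh, hhT⟩ := exists_conj_le_of_le_sup S H hT hTK
    have hval : ∀ x : Pt, (h * g) * (x : G) * (h * g)⁻¹ ∈ (S : Subgroup G) := by
      intro x
      have : h * (g * x * g⁻¹) * h⁻¹ ∈ (S : Subgroup G) := hhT ⟨_, ⟨x, x.2, rfl⟩, rfl⟩
      have e : (h * g) * (x : G) * (h * g)⁻¹ = h * (g * x * g⁻¹) * h⁻¹ := by group
      rw [e]
      exact this
    refine ⟨conjHom Pt (h * g), ⟨hPtS, hval, h * g, fun _ => rfl⟩, hPtS, hval, hθPt, fun x => ?_⟩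
    rw [hgbar]
    show π g * π (x : G) * (π g)⁻¹ = π ((h * g) * (x : G) * (h * g)⁻¹)
    have hh1 : π h = 1 := by
      rw [hπ, QuotientGroup.mk'_apply, QuotientGroup.eq_one_iff]
      exact hh
    rw [map_mul, map_mul, map_inv, map_mul, hh1, one_mul]
  · rintro ⟨hP', φ, ⟨hPt, hφS, g, hg⟩, hP, hφS', hθP, hind⟩
    have key : ∀ y : P', ∃ x : ↥(preimageAlong θ P'), θ ⟨x, hP x.2⟩ = y ∧ φ' y = θ ⟨φ x, hφS' x⟩ := by
      intro y
      obtain ⟨x, hx, hxS, hxy⟩ := exists_preimage_of_mem θ hrange hP' y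
      refine ⟨⟨x, hx⟩, hxy, ?_⟩
      rw [← hind ⟨x, hx⟩]
      congr 1
      exact Subtype.ext hxy.symm
    refine ⟨hP', fun y => ?_, π g, fun y => ?_⟩
    · obtain ⟨x, -, hx⟩ := key y
      rw [hx]
      exact ⟨φ x, hφS x, rfl⟩
    · obtain ⟨x, hxy, hx⟩ := key y
      rw [hx, ← hxy]
      show π (φ x) = π g * π (x : G) * (π g)⁻¹
      rw [hg x, map_mul, map_mul, map_inv]

end Cfsg.Agent.S5135
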