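import Cfsg.Statements.S5137
import Cfsg.Agent.Lib.Helper87.FusionSat
import Cfsg.Agent.Lib.Helper88.FusionAut

set_option autoImplicit false
open Cfsg

namespace Cfsg.Agent.S5137

open Cfsg.FusionSystem
open Cfsg.Agent.Lib.Helper87 Cfsg.Agent.Lib.Helper88

variable {Ω₁ Ω₂ : Type*} [Group Ω₁] [Group Ω₂]

/-- first projection of a subgroup of the product -/
abbrev p1 (P : Subgroup (Ω₁ × Ω₂)) : Subgroup Ω₁ := P.map (MonoidHom.fst Ω₁ Ω₂)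

/-- second projection of a subgroup of the product -/
abbrev p2 (P : Subgroup (Ω₁ × Ω₂)) : Subgroup Ω₂ := P.map (MonoidHom.snd Ω₁ Ω₂)

theorem fst_mem {P : Subgroup (Ω₁ × Ω₂)} (x : P) : (x : Ω₁ × Ω₂).1 ∈ p1 P := ⟨x, x.2, rfl⟩

theorem snd_mem {P : Subgroup (Ω₁ × Ω₂)} (x : P) : (x : Ω₁ × Ω₂).2 ∈ p2 P := ⟨x, x.2, rfl⟩

/-- the restriction to `P` of the product of two homomorphisms on the projections -/
def prodMap (P : Subgroup (Ω₁ × Ω₂)) (φ₁ : p1 P →* Ω₁) (φ₂ : p2 P →* Ω₂) : P →* Ω₁ × Ω₂ :=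
  MonoidHom.prod (φ₁.comp ((MonoidHom.fst Ω₁ Ω₂).subgroupMap P))
    (φ₂.comp ((MonoidHom.snd Ω₁ Ω₂).subgroupMap P))

theorem prodMap_apply (P : Subgroup (Ω₁ × Ω₂)) (φ₁ : p1 P →* Ω₁) (φ₂ : p2 P →* Ω₂) (x : P) :
    prodMap P φ₁ φ₂ x = (φ₁ ⟨(x : Ω₁ × Ω₂).1, fst_mem x⟩, φ₂ ⟨(x : Ω₁ × Ω₂).2, snd_mem x⟩) := rfl

theorem isPGroup_prod {G₁ G₂ : Type*} [Group G₁] [Group G₂] {p : ℕ} {H : Subgroup G₁} {K : Subgroup G₂}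
    (hH : IsPGroup p H) (hK : IsPGroup p K) : IsPGroup p (H.prod K) := by
  rintro ⟨⟨g₁, g₂⟩, hg⟩
  obtain ⟨k₁, hk₁⟩ := hH ⟨g₁, hg.1⟩
  obtain ⟨k₂, hk₂⟩ := hK ⟨g₂, hg.2⟩
  have e₁ : g₁ ^ p ^ k₁ = 1 := by simpa using congrArg Subtype.val hk₁
  have e₂ : g₂ ^ p ^ k₂ = 1 := by simpa using congrArg Subtype.val hk₂
  refine ⟨k₁ + k₂, Subtype.ext ?_⟩
  show ((g₁, g₂) : G₁ × G₂) ^ p ^ (k₁ + k₂) = 1
  rw [Prod.pow_mk, pow_add, pow_mul, e₁, one_pow, mul_comm (p ^ k₁), pow_mul, e₂, one_pow]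
  rfl

theorem normalizer_fst {P : Subgroup (Ω₁ × Ω₂)} {g : Ω₁ × Ω₂} (hg : g ∈ Subgroup.normalizer (P : Set (Ω₁ × Ω₂))) :
    g.1 ∈ Subgroup.normalizer (p1 P : Set Ω₁) := by
  rw [Subgroup.mem_normalizer_iff] at hg ⊢
  intro x
  constructor
  · rintro ⟨y, hy, rfl⟩
    exact ⟨g * y * g⁻¹, (hg y).1 hy, rfl⟩
  · rintro ⟨y, hy, hyx⟩
    refine ⟨g⁻¹ * y * g, (hg _).2 (by simpa [mul_assoc] using hy), ?_⟩
    show g.1⁻¹ * y.1 * g.1 = x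
    have : y.1 = g.1 * x * g.1⁻¹ := hyx
    rw [this]; group

theorem normalizer_snd {P : Subgroup (Ω₁ × Ω₂)} {g : Ω₁ × Ω₂} (hg : g ∈ Subgroup.normalizer (P : Set (Ω₁ × Ω₂))) :
    g.2 ∈ Subgroup.normalizer (p2 P : Set Ω₂) := by
  rw [Subgroup.mem_normalizer_iff] at hg ⊢
  intro x
  constructor
  · rintro ⟨y, hy, rfl⟩
    exact ⟨g * y * g⁻¹, (hg y).1 hy, rfl⟩
  · rintro ⟨y, hy, hyx⟩
    refine ⟨g⁻¹ * y * g, (hg _).2 (by simpa [mul_assoc] using hy), ?_⟩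
    show g.2⁻¹ * y.2 * g.2 = x
    have : y.2 = g.2 * x * g.2⁻¹ := hyx
    rw [this]; group

variable {S₁ : Subgroup Ω₁} {S₂ : Subgroup Ω₂}

theorem p1_le {P : Subgroup (Ω₁ × Ω₂)} (hP : P ≤ S₁.prod S₂) : p1 P ≤ S₁ := by
  rintro _ ⟨x, hx, rfl⟩
  exact (hP hx).1

theorem p2_le {P : Subgroup (Ω₁ × Ω₂)} (hP : P ≤ S₁.prod S₂) : p2 P ≤ S₂ := by
  rintro _ ⟨x, hx, rfl⟩
  exact (hP hx).2

variable {F₁ : FusionSystem S₁} {F₂ : FusionSystem S₂} {E : FusionSystem (S₁.prod S₂)}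

theorem mem_hom_iff (hE : IsProductSystem F₁ F₂ E) {P : Subgroup (Ω₁ × Ω₂)} {φ : P →* Ω₁ × Ω₂} :
    φ ∈ E.Hom P ↔ P ≤ S₁.prod S₂ ∧ ∃ φ₁ ∈ F₁.Hom (p1 P), ∃ φ₂ ∈ F₂.Hom (p2 P), φ = prodMap P φ₁ φ₂ := by
  rw [hE P φ]
  constructor
  · rintro ⟨hP, φ₁, hφ₁, φ₂, hφ₂, h⟩
    refine ⟨hP, φ₁, hφ₁, φ₂, hφ₂, ?_⟩
    ext x
    · rw [h x (fst_mem x) (snd_mem x)]; rfl
    · rw [h x (fst_mem x) (snd_mem x)]; rfl
  · rintro ⟨hP, φ₁, hφ₁, φ₂, hφ₂, rfl⟩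
    exact ⟨hP, φ₁, hφ₁, φ₂, hφ₂, fun x _ _ => rfl⟩

theorem mem_hom_of_prod (hE : IsProductSystem F₁ F₂ E) {A₁ : Subgroup Ω₁} {A₂ : Subgroup Ω₂}
    {ψ₁ : A₁ →* Ω₁} {ψ₂ : A₂ →* Ω₂} (h₁ : ψ₁ ∈ F₁.Hom A₁) (h₂ : ψ₂ ∈ F₂.Hom A₂)
    {P : Subgroup (Ω₁ × Ω₂)} (hP : P ≤ A₁.prod A₂) (φ : P →* Ω₁ × Ω₂)
    (hφ : ∀ x : P, φ x = (ψ₁ ⟨(x : Ω₁ × Ω₂).1, (hP x.2).1⟩, ψ₂ ⟨(x : Ω₁ × Ω₂).2, (hP x.2).2⟩)) :
    φ ∈ E.Hom P := by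
  have hA₁ : A₁ ≤ S₁ := hom_le F₁ h₁
  have hA₂ : A₂ ≤ S₂ := hom_le F₂ h₂
  have hPS : P ≤ S₁.prod S₂ := fun x hx => ⟨hA₁ (hP hx).1, hA₂ (hP hx).2⟩
  have h1 : p1 P ≤ A₁ := by
    rintro _ ⟨x, hx, rfl⟩
    exact (hP hx).1
  have h2 : p2 P ≤ A₂ := by
    rintro _ ⟨x, hx, rfl⟩
    exact (hP hx).2
  rw [mem_hom_iff hE]
  refine ⟨hPS, _, restrict_mem F₁ h₁ h1, _, restrict_mem F₂ h₂ h2, ?_⟩
  ext x
  · rw [hφ x]; rfl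
  · rw [hφ x]; rfl

theorem p1_range_prodMap (P : Subgroup (Ω₁ × Ω₂)) (φ₁ : p1 P →* Ω₁) (φ₂ : p2 P →* Ω₂) :
    p1 (prodMap P φ₁ φ₂).range = φ₁.range := by
  ext y
  constructor
  · rintro ⟨_, ⟨x, rfl⟩, rfl⟩
    exact ⟨⟨(x : Ω₁ × Ω₂).1, fst_mem x⟩, rfl⟩
  · rintro ⟨⟨_, ⟨x, hx, rfl⟩⟩, rfl⟩
    exact ⟨prodMap P φ₁ φ₂ ⟨x, hx⟩, ⟨_, rfl⟩, rfl⟩

theorem p2_range_prodMap (P : Subgroup (Ω₁ × Ω₂)) (φ₁ : p1 P →* Ω₁) (φ₂ : p2 P →* Ω₂) :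
    p2 (prodMap P φ₁ φ₂).range = φ₂.range := by
  ext y
  constructor
  · rintro ⟨_, ⟨x, rfl⟩, rfl⟩
    exact ⟨⟨(x : Ω₁ × Ω₂).2, snd_mem x⟩, rfl⟩
  · rintro ⟨⟨_, ⟨x, hx, rfl⟩⟩, rfl⟩
    exact ⟨prodMap P φ₁ φ₂ ⟨x, hx⟩, ⟨_, rfl⟩, rfl⟩

/-- **Step A**: every subgroup is conjugate to one whose projections are fully automized and receptive. -/
theorem exists_conj_good (hE : IsProductSystem F₁ F₂ E) {p : ℕ} (hF₁ : F₁.IsSaturated p)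
    (hF₂ : F₂.IsSaturated p) {P : Subgroup (Ω₁ × Ω₂)} (hP : P ≤ S₁.prod S₂) :
    ∃ Q, E.IsConj P Q ∧ (F₁.IsFullyAutomized p (p1 Q) ∧ F₁.IsReceptive (p1 Q)) ∧
      (F₂.IsFullyAutomized p (p2 Q) ∧ F₂.IsReceptive (p2 Q)) := by
  obtain ⟨R₁, ⟨ρ₁, hρ₁, rfl⟩, h1a, h1r⟩ := hF₁ (p1 P) (p1_le hP)
  obtain ⟨R₂, ⟨ρ₂, hρ₂, rfl⟩, h2a, h2r⟩ := hF₂ (p2 P) (p2_le hP)
  refine ⟨(prodMap P ρ₁ ρ₂).range, ⟨prodMap P ρ₁ ρ₂, ?_, rfl⟩, ?_, ?_⟩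
  · rw [mem_hom_iff hE]
    exact ⟨hP, ρ₁, hρ₁, ρ₂, hρ₂, rfl⟩
  · rw [p1_range_prodMap]
    exact ⟨h1a, h1r⟩
  · rw [p2_range_prodMap]
    exact ⟨h2a, h2r⟩

/-- **Step C**: a subgroup whose projections are receptive is receptive. -/
theorem receptive_of_proj (hE : IsProductSystem F₁ F₂ E) {Q : Subgroup (Ω₁ × Ω₂)} (hQ : Q ≤ S₁.prod S₂)
    (h₁ : F₁.IsReceptive (p1 Q)) (h₂ : F₂.IsReceptive (p2 Q)) : E.IsReceptive Q := by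
  refine ⟨hQ, fun P φ hφ hr => ?_⟩
  obtain ⟨hP, φ₁, hφ₁, φ₂, hφ₂, rfl⟩ := (mem_hom_iff hE).1 hφ
  subst hr
  rw [p1_range_prodMap] at h₁
  rw [p2_range_prodMap] at h₂
  obtain ⟨ψ₁, hψ₁, hψ₁e⟩ := h₁.2 (p1 P) φ₁ hφ₁ rfl
  obtain ⟨ψ₂, hψ₂, hψ₂e⟩ := h₂.2 (p2 P) φ₂ hφ₂ rfl
  have hle : extender (S₁.prod S₂) P (prodMap P φ₁ φ₂) ≤
      (extender S₁ (p1 P) φ₁).prod (extender S₂ (p2 P) φ₂) := by
    unfold extender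
    rw [Subgroup.closure_le]
    rintro g ⟨hgS, hgN, h, hhS, hgh⟩
    refine Subgroup.mem_prod.2 ⟨Subgroup.subset_closure ⟨hgS.1, normalizer_fst hgN, h.1, hhS.1, ?_⟩,
      Subgroup.subset_closure ⟨hgS.2, normalizer_snd hgN, h.2, hhS.2, ?_⟩⟩
    · rintro ⟨_, ⟨y, hy, rfl⟩⟩ hx
      have hy' : g * y * g⁻¹ ∈ P := ((Subgroup.mem_normalizer_iff.1 hgN) y).1 hy
      have := hgh ⟨y, hy⟩ hy'
      exact congrArg Prod.fst this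
    · rintro ⟨_, ⟨y, hy, rfl⟩⟩ hx
      have hy' : g * y * g⁻¹ ∈ P := ((Subgroup.mem_normalizer_iff.1 hgN) y).1 hy
      have := hgh ⟨y, hy⟩ hy'
      exact congrArg Prod.snd this
  let f1 : ↥(extender (S₁.prod S₂) P (prodMap P φ₁ φ₂)) →* ↥(extender S₁ (p1 P) φ₁) :=
    ((MonoidHom.fst Ω₁ Ω₂).comp (Subgroup.subtype _)).codRestrict _ (fun x => (hle x.2).1)
  let f2 : ↥(extender (S₁.prod S₂) P (prodMap P φ₁ φ₂)) →* ↥(extender S₂ (p2 P) φ₂) :=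
    ((MonoidHom.snd Ω₁ Ω₂).comp (Subgroup.subtype _)).codRestrict _ (fun x => (hle x.2).2)
  refine ⟨MonoidHom.prod (ψ₁.comp f1) (ψ₂.comp f2),
    mem_hom_of_prod hE hψ₁ hψ₂ hle _ (fun x => rfl), fun x hxP hxN => ?_⟩
  exact Prod.ext (hψ₁e _ (fst_mem ⟨x, hxP⟩) (hle hxN).1) (hψ₂e _ (snd_mem ⟨x, hxP⟩) (hle hxN).2)

/-! ### Step B: making the subgroup fully automized -/

/-- the pair `a` of automorphisms of the projections induces the automorphism `β` of `Q` -/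
def Rel (Q : Subgroup (Ω₁ × Ω₂)) (a : MulAut (p1 Q) × MulAut (p2 Q)) (β : MulAut Q) : Prop :=
  ∀ x : Q, ((β x : Q) : Ω₁ × Ω₂) =
    (((a.1 ⟨(x : Ω₁ × Ω₂).1, fst_mem x⟩ : p1 Q) : Ω₁), ((a.2 ⟨(x : Ω₁ × Ω₂).2, snd_mem x⟩ : p2 Q) : Ω₂))

theorem rel_one {Q : Subgroup (Ω₁ × Ω₂)} : Rel Q 1 1 := fun _ => rfl

theorem rel_mul {Q : Subgroup (Ω₁ × Ω₂)} {a a' : MulAut (p1 Q) × MulAut (p2 Q)} {β β' : MulAut Q}
    (h : Rel Q a β) (h' : Rel Q a' β') : Rel Q (a * a') (β * β') := by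
  intro x
  have e := h' x
  have e2 := h (β' x)
  rw [MulAut.mul_apply, e2]
  apply Prod.ext
  · exact congrArg (fun z : p1 Q => ((a.1 z : p1 Q) : Ω₁)) (Subtype.ext (congrArg Prod.fst e))
  · exact congrArg (fun z : p2 Q => ((a.2 z : p2 Q) : Ω₂)) (Subtype.ext (congrArg Prod.snd e))

theorem rel_inv {Q : Subgroup (Ω₁ × Ω₂)} {a : MulAut (p1 Q) × MulAut (p2 Q)} {β : MulAut Q}
    (h : Rel Q a β) : Rel Q a⁻¹ β⁻¹ := by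
  intro x
  have e := h (β⁻¹ x)
  rw [MulAut.apply_inv_self] at e
  apply Prod.ext
  · have h1 : (⟨(x : Ω₁ × Ω₂).1, fst_mem x⟩ : p1 Q) = a.1 ⟨((β⁻¹ x : Q) : Ω₁ × Ω₂).1, fst_mem _⟩ :=
      Subtype.ext (congrArg Prod.fst e)
    show ((β⁻¹ x : Q) : Ω₁ × Ω₂).1 = ((a.1⁻¹ ⟨(x : Ω₁ × Ω₂).1, fst_mem x⟩ : p1 Q) : Ω₁)
    rw [h1, MulAut.inv_apply_self]
  · have h1 : (⟨(x : Ω₁ × Ω₂).2, snd_mem x⟩ : p2 Q) = a.2 ⟨((β⁻¹ x : Q) : Ω₁ × Ω₂).2, snd_mem _⟩ :=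
      Subtype.ext (congrArg Prod.snd e)
    show ((β⁻¹ x : Q) : Ω₁ × Ω₂).2 = ((a.2⁻¹ ⟨(x : Ω₁ × Ω₂).2, snd_mem x⟩ : p2 Q) : Ω₂)
    rw [h1, MulAut.inv_apply_self]

theorem rel_faithful {Q : Subgroup (Ω₁ × Ω₂)} {a a' : MulAut (p1 Q) × MulAut (p2 Q)} {β : MulAut Q}
    (h : Rel Q a β) (h' : Rel Q a' β) : a = a' := by
  apply Prod.ext
  · apply MulEquiv.ext
    rintro ⟨_, ⟨y, hy, rfl⟩⟩
    apply Subtype.ext
    exact congrArg Prod.fst ((h ⟨y, hy⟩).symm.trans (h' ⟨y, hy⟩))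
  · apply MulEquiv.ext
    rintro ⟨_, ⟨y, hy, rfl⟩⟩
    apply Subtype.ext
    exact congrArg Prod.snd ((h ⟨y, hy⟩).symm.trans (h' ⟨y, hy⟩))

/-- the graph of the correspondence between pairs of automorphisms and automorphisms of `Q` -/
def graphSub (Q : Subgroup (Ω₁ × Ω₂)) (A₁ : Subgroup (MulAut (p1 Q))) (A₂ : Subgroup (MulAut (p2 Q))) :
    Subgroup ((A₁ × A₂) × MulAut Q) where
  carrier := {z | Rel Q ((z.1.1 : MulAut (p1 Q)), (z.1.2 : MulAut (p2 Q))) z.2}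
  one_mem' := rel_one
  mul_mem' := fun h h' => rel_mul h h'
  inv_mem' := fun h => rel_inv h

theorem exists_rel_of_mem (hE : IsProductSystem F₁ F₂ E) {Q : Subgroup (Ω₁ × Ω₂)} (hQ : Q ≤ S₁.prod S₂)
    {β : MulAut Q} (hβ : β ∈ E.autGroup Q) :
    ∃ a₁ ∈ F₁.autGroup (p1 Q), ∃ a₂ ∈ F₂.autGroup (p2 Q), Rel Q (a₁, a₂) β := by
  have h : IsIso E (β : Q ≃* Q) := (mem_autGroup_iff E hQ).1 hβ
  obtain ⟨-, φ₁, hφ₁, φ₂, hφ₂, hβφ⟩ := (mem_hom_iff hE).1 h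
  have hr : (Q.subtype.comp (β : Q ≃* Q).toMonoidHom).range = Q := range_subtype_comp _
  have hr₁ : φ₁.range = p1 Q := by
    have := p1_range_prodMap Q φ₁ φ₂
    rw [← hβφ, hr] at this
    exact this.symm
  have hr₂ : φ₂.range = p2 Q := by
    have := p2_range_prodMap Q φ₁ φ₂
    rw [← hβφ, hr] at this
    exact this.symm
  obtain ⟨α₁, hα₁, hα₁e⟩ := exists_aut_of_range_eq F₁ hφ₁ hr₁
  obtain ⟨α₂, hα₂, hα₂e⟩ := exists_aut_of_range_eq F₂ hφ₂ hr₂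
  refine ⟨α₁, hα₁, α₂, hα₂, fun x => ?_⟩
  show _ = (((α₁ _ : p1 Q) : Ω₁), ((α₂ _ : p2 Q) : Ω₂))
  rw [hα₁e, hα₂e]
  exact DFunLike.congr_fun hβφ x

/-- the product of two Sylow subgroups is a Sylow subgroup of the product -/
noncomputable def sylowProd {G₁ G₂ : Type*} [Group G₁] [Group G₂] [Finite G₁] [Finite G₂] {p : ℕ}
    [Fact p.Prime] (T₁ : Sylow p G₁) (T₂ : Sylow p G₂) : Sylow p (G₁ × G₂) :=
  (isPGroup_prod T₁.isPGroup' T₂.isPGroup').toSylow (by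
    rw [Subgroup.index_prod]
    exact (Fact.out : p.Prime).not_dvd_mul T₁.not_dvd_index T₂.not_dvd_index)

theorem coe_sylowProd {G₁ G₂ : Type*} [Group G₁] [Group G₂] [Finite G₁] [Finite G₂] {p : ℕ}
    [Fact p.Prime] (T₁ : Sylow p G₁) (T₂ : Sylow p G₂) :
    (sylowProd T₁ T₂ : Subgroup (G₁ × G₂)) = (T₁ : Subgroup G₁).prod (T₂ : Subgroup G₂) := rfl

/-- **Step B**: a subgroup whose projections are fully automized is conjugate, by a pair of automorphisms of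
the projections, to a fully automized subgroup with the same projections. -/
theorem exists_conj_automized [Finite S₁] [Finite S₂] {p : ℕ} [Fact p.Prime] (hS₁ : IsPGroup p S₁)
    (hS₂ : IsPGroup p S₂) (hE : IsProductSystem F₁ F₂ E) {Q : Subgroup (Ω₁ × Ω₂)} (hQ : Q ≤ S₁.prod S₂)
    (h₁ : F₁.IsFullyAutomized p (p1 Q)) (h₂ : F₂.IsFullyAutomized p (p2 Q)) :
    ∃ Q', E.IsConj Q Q' ∧ p1 Q' = p1 Q ∧ p2 Q' = p2 Q ∧ E.IsFullyAutomized p Q' := by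
  obtain ⟨hQ₁, T₁, hT₁⟩ := h₁
  obtain ⟨hQ₂, T₂, hT₂⟩ := h₂
  have hfS : Finite (S₁.prod S₂) := Finite.of_equiv _ (Subgroup.prodEquiv S₁ S₂).symm.toEquiv
  have hfQ : Finite Q := finite_of_le hQ
  have hfQ₁ : Finite (p1 Q) := finite_of_le hQ₁
  have hfQ₂ : Finite (p2 Q) := finite_of_le hQ₂
  have hfA₁ : Finite (F₁.autGroup (p1 Q)) := inferInstance
  have hfA₂ : Finite (F₂.autGroup (p2 Q)) := inferInstance
  have hfB : Finite (E.autGroup Q) := inferInstance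
  obtain ⟨Pi⟩ : Nonempty (Sylow p (E.autGroup Q)) := inferInstance
  -- the p-subgroup of pairs corresponding to `Pi`
  have hinj : Function.Injective ((MonoidHom.snd (F₁.autGroup (p1 Q) × F₂.autGroup (p2 Q)) (MulAut Q)).comp
      (graphSub Q (F₁.autGroup (p1 Q)) (F₂.autGroup (p2 Q))).subtype) := by
    rintro ⟨⟨a, β⟩, h⟩ ⟨⟨a', β'⟩, h'⟩ (hb : β = β')
    subst hb
    have := rel_faithful h h'
    apply Subtype.ext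
    refine Prod.ext ?_ rfl
    exact Prod.ext (Subtype.ext (congrArg Prod.fst this)) (Subtype.ext (congrArg Prod.snd this))
  have hPi' : IsPGroup p ((Pi : Subgroup (E.autGroup Q)).map (E.autGroup Q).subtype) := Pi.isPGroup'.map _
  have hPt : IsPGroup p ((((Pi : Subgroup (E.autGroup Q)).map (E.autGroup Q).subtype).comap
      ((MonoidHom.snd (F₁.autGroup (p1 Q) × F₂.autGroup (p2 Q)) (MulAut Q)).comp
      (graphSub Q (F₁.autGroup (p1 Q)) (F₂.autGroup (p2 Q))).subtype)).map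
      ((MonoidHom.fst (F₁.autGroup (p1 Q) × F₂.autGroup (p2 Q)) (MulAut Q)).comp
      (graphSub Q (F₁.autGroup (p1 Q)) (F₂.autGroup (p2 Q))).subtype)) :=
    (hPi'.comap_of_injective _ hinj).map _
  obtain ⟨c, hc⟩ := exists_conj_mem_sylow (sylowProd T₁ T₂) hPt
  -- the conjugating map
  have hc₁ : IsIso F₁ ((c.1 : MulAut (p1 Q)) : p1 Q ≃* p1 Q) := (mem_autGroup_iff F₁ hQ₁).1 c.1.2
  have hc₂ : IsIso F₂ ((c.2 : MulAut (p2 Q)) : p2 Q ≃* p2 Q) := (mem_autGroup_iff F₂ hQ₂).1 c.2.2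
  have hκ : prodMap Q ((p1 Q).subtype.comp ((c.1 : MulAut (p1 Q)) : p1 Q ≃* p1 Q).toMonoidHom)
      ((p2 Q).subtype.comp ((c.2 : MulAut (p2 Q)) : p2 Q ≃* p2 Q).toMonoidHom) ∈ E.Hom Q :=
    (mem_hom_iff hE).2 ⟨hQ, _, hc₁, _, hc₂, rfl⟩
  have hκ1 : p1 (prodMap Q ((p1 Q).subtype.comp ((c.1 : MulAut (p1 Q)) : p1 Q ≃* p1 Q).toMonoidHom)
      ((p2 Q).subtype.comp ((c.2 : MulAut (p2 Q)) : p2 Q ≃* p2 Q).toMonoidHom)).range = p1 Q := by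
    rw [p1_range_prodMap]; exact range_subtype_comp _
  have hκ2 : p2 (prodMap Q ((p1 Q).subtype.comp ((c.1 : MulAut (p1 Q)) : p1 Q ≃* p1 Q).toMonoidHom)
      ((p2 Q).subtype.comp ((c.2 : MulAut (p2 Q)) : p2 Q ≃* p2 Q).toMonoidHom)).range = p2 Q := by
    rw [p2_range_prodMap]; exact range_subtype_comp _
  refine ⟨_, ⟨_, hκ, rfl⟩, hκ1, hκ2, ?_⟩
  have hQ' := hom_range_le E hκ
  have he : IsIso E (MonoidHom.ofInjective (E.injective_of_mem hκ)) := isIso_ofInjective E hκ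
  have hfQ' : Finite (prodMap Q ((p1 Q).subtype.comp ((c.1 : MulAut (p1 Q)) : p1 Q ≃* p1 Q).toMonoidHom)
      ((p2 Q).subtype.comp ((c.2 : MulAut (p2 Q)) : p2 Q ≃* p2 Q).toMonoidHom)).range := finite_of_le hQ'
  -- transport of automorphisms
  have hf : Function.Surjective (((MulAut.congr (MonoidHom.ofInjective (E.injective_of_mem hκ))).toMonoidHom.comp
      (E.autGroup Q).subtype).codRestrict (E.autGroup _) (fun β => congr_mem_autGroup E he β.2)) := by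
    rintro ⟨β', hβ'⟩
    have h1 : MulAut.congr (MonoidHom.ofInjective (E.injective_of_mem hκ))
        ((MulAut.congr (MonoidHom.ofInjective (E.injective_of_mem hκ))).symm β') = β' :=
      MulEquiv.apply_symm_apply _ _
    have hmem : (MulAut.congr (MonoidHom.ofInjective (E.injective_of_mem hκ))).symm β' ∈ E.autGroup Q := by
      rw [← congr_mem_autGroup_iff E he, h1]
      exact hβ'
    exact ⟨⟨_, hmem⟩, Subtype.ext h1⟩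
  refine ⟨hQ', Pi.mapSurjective hf, ?_⟩
  have hS : IsPGroup p (S₁.prod S₂) := isPGroup_prod hS₁ hS₂
  have hp' : IsPGroup p ((autInducedBy (S₁.prod S₂) (prodMap Q ((p1 Q).subtype.comp ((c.1 : MulAut (p1 Q)) : p1 Q ≃* p1 Q).toMonoidHom)
      ((p2 Q).subtype.comp ((c.2 : MulAut (p2 Q)) : p2 Q ≃* p2 Q).toMonoidHom)).range).subgroupOf (E.autGroup _)) :=
    (autInducedBy_isPGroup hS _).comap_subtype
  refine ((Pi.mapSurjective hf).is_maximal' hp' ?_).symm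
  rintro _ ⟨β, hβ, rfl⟩
  rw [Subgroup.mem_subgroupOf]
  show MulAut.congr (MonoidHom.ofInjective (E.injective_of_mem hκ)) (β : MulAut Q) ∈ autInducedBy _ _
  obtain ⟨a₁, ha₁, a₂, ha₂, hrel⟩ := exists_rel_of_mem hE hQ β.2
  have hmemG : (((⟨a₁, ha₁⟩, ⟨a₂, ha₂⟩), (β : MulAut Q)) : (F₁.autGroup (p1 Q) × F₂.autGroup (p2 Q)) × MulAut Q) ∈
      graphSub Q (F₁.autGroup (p1 Q)) (F₂.autGroup (p2 Q)) := hrel
  have hcT := hc ((⟨a₁, ha₁⟩, ⟨a₂, ha₂⟩) : F₁.autGroup (p1 Q) × F₂.autGroup (p2 Q))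
    ⟨⟨_, hmemG⟩, ⟨β, hβ, rfl⟩, rfl⟩
  have hcT' : c * ((⟨a₁, ha₁⟩, ⟨a₂, ha₂⟩) : F₁.autGroup (p1 Q) × F₂.autGroup (p2 Q)) * c⁻¹ ∈
      (T₁ : Subgroup (F₁.autGroup (p1 Q))).prod (T₂ : Subgroup (F₂.autGroup (p2 Q))) := hcT
  have hm1 : (c * ((⟨a₁, ha₁⟩, ⟨a₂, ha₂⟩) : F₁.autGroup (p1 Q) × F₂.autGroup (p2 Q)) * c⁻¹).1 ∈
      (T₁ : Subgroup (F₁.autGroup (p1 Q))) := hcT'.1
  have hm2 : (c * ((⟨a₁, ha₁⟩, ⟨a₂, ha₂⟩) : F₁.autGroup (p1 Q) × F₂.autGroup (p2 Q)) * c⁻¹).2 ∈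
      (T₂ : Subgroup (F₂.autGroup (p2 Q))) := hcT'.2
  rw [hT₁, Subgroup.mem_subgroupOf] at hm1
  rw [hT₂, Subgroup.mem_subgroupOf] at hm2
  obtain ⟨s₁, hs₁, hs₁e⟩ := mem_autInducedBy_iff.1 hm1
  obtain ⟨s₂, hs₂, hs₂e⟩ := mem_autInducedBy_iff.1 hm2
  rw [mem_autInducedBy_iff]
  refine ⟨(s₁, s₂), ⟨hs₁, hs₂⟩, fun y => ?_⟩
  obtain ⟨x, rfl⟩ := (MonoidHom.ofInjective (E.injective_of_mem hκ)).surjective y
  have h1 : (MulAut.congr (MonoidHom.ofInjective (E.injective_of_mem hκ)) (β : MulAut Q))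
      ((MonoidHom.ofInjective (E.injective_of_mem hκ)) x) =
      (MonoidHom.ofInjective (E.injective_of_mem hκ)) ((β : MulAut Q) x) := by
    show (MonoidHom.ofInjective (E.injective_of_mem hκ)) ((β : MulAut Q)
      ((MonoidHom.ofInjective (E.injective_of_mem hκ)).symm
        ((MonoidHom.ofInjective (E.injective_of_mem hκ)) x))) = _
    rw [MulEquiv.symm_apply_apply]
  rw [h1]
  have hx := hrel x
  apply Prod.ext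
  · show (((c.1 : MulAut (p1 Q)) ⟨(((β : MulAut Q) x : Q) : Ω₁ × Ω₂).1, fst_mem _⟩ : p1 Q) : Ω₁) =
      s₁ * (((c.1 : MulAut (p1 Q)) ⟨(x : Ω₁ × Ω₂).1, fst_mem x⟩ : p1 Q) : Ω₁) * s₁⁻¹
    rw [← hs₁e]
    have h2 : (⟨(((β : MulAut Q) x : Q) : Ω₁ × Ω₂).1, fst_mem _⟩ : p1 Q) =
        a₁ ⟨(x : Ω₁ × Ω₂).1, fst_mem x⟩ := Subtype.ext (congrArg Prod.fst hx)
    rw [h2]
    show _ = ((((c.1 : MulAut (p1 Q)) * a₁ * (c.1 : MulAut (p1 Q))⁻¹)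
      ((c.1 : MulAut (p1 Q)) ⟨(x : Ω₁ × Ω₂).1, fst_mem x⟩) : p1 Q) : Ω₁)
    rw [MulAut.mul_apply, MulAut.mul_apply, MulAut.inv_apply_self]
  · show (((c.2 : MulAut (p2 Q)) ⟨(((β : MulAut Q) x : Q) : Ω₁ × Ω₂).2, snd_mem _⟩ : p2 Q) : Ω₂) =
      s₂ * (((c.2 : MulAut (p2 Q)) ⟨(x : Ω₁ × Ω₂).2, snd_mem x⟩ : p2 Q) : Ω₂) * s₂⁻¹
    rw [← hs₂e]
    have h2 : (⟨(((β : MulAut Q) x : Q) : Ω₁ × Ω₂).2, snd_mem _⟩ : p2 Q) =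
        a₂ ⟨(x : Ω₁ × Ω₂).2, snd_mem x⟩ := Subtype.ext (congrArg Prod.snd hx)
    rw [h2]
    show _ = ((((c.2 : MulAut (p2 Q)) * a₂ * (c.2 : MulAut (p2 Q))⁻¹)
      ((c.2 : MulAut (p2 Q)) ⟨(x : Ω₁ × Ω₂).2, snd_mem x⟩) : p2 Q) : Ω₂)
    rw [MulAut.mul_apply, MulAut.mul_apply, MulAut.inv_apply_self]

/-- Let F₁ and F₂ be saturated fusion systems over finite p-groups S₁ and S₂. Then their direct product (the fusion system over S₁ × S₂ whose maps are the restrictions of the product maps (φ₁, φ₂)) is saturated. -/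
theorem result {Ω₁ Ω₂ : Type*} [Group Ω₁] [Group Ω₂] {S₁ : Subgroup Ω₁} {S₂ : Subgroup Ω₂} [Finite S₁] [Finite S₂] (p : ℕ) [Fact p.Prime] (h₁ : IsPGroup p S₁) (h₂ : IsPGroup p S₂) (F₁ : Cfsg.FusionSystem S₁) (F₂ : Cfsg.FusionSystem S₂) (hF₁ : F₁.IsSaturated p) (hF₂ : F₂.IsSaturated p) (E : Cfsg.FusionSystem (S₁.prod S₂)) (hE : Cfsg.FusionSystem.IsProductSystem F₁ F₂ E) : E.IsSaturated p := by
  have hS : IsPGroup p (S₁.prod S₂) := isPGroup_prod h₁ h₂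
  intro P hP
  obtain ⟨Q, hPQ, ⟨h1a, h1r⟩, ⟨h2a, h2r⟩⟩ := exists_conj_good hE hF₁ hF₂ hP
  have hQ : Q ≤ S₁.prod S₂ := IsConj_le_right hPQ
  obtain ⟨Q', hQQ', e1, e2, hQ'a⟩ := exists_conj_automized h₁ h₂ hE hQ h1a h2a
  have hQ' : Q' ≤ S₁.prod S₂ := IsConj_le_right hQQ'
  refine ⟨Q', IsConj_trans hPQ hQQ', hQ'a, receptive_of_proj hE hQ' ?_ ?_⟩
  · rw [e1]; exact h1r
  · rw [e2]; exact h2r

end Cfsg.Agent.S5137
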