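import Cfsg.Statements.S5139
import Cfsg.Agent.S5093
import Cfsg.Agent.S5118
import Cfsg.Agent.Lib.Helper86.ResidualLimit
import Cfsg.Agent.Lib.Helper34.PResidual

set_option autoImplicit false
open Cfsg

namespace Cfsg.Agent.S5139

open Cfsg.FusionSystem Cfsg.Agent.Lib.Helper85

variable {G : Type*} [Group G]

/-- A `p'`-automorphism of `P` induced by an element of the finite group `G` is induced by a `p'`-element of `G`. -/
theorem exists_pPrime_inducing [Finite G] {p : ℕ} [Fact p.Prime] {P : Subgroup G} (a : MulAut P)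
    (ha : Nat.Coprime (orderOf a) p) (g₀ : G) (hg₀ : ∀ x : P, ((a x : P) : G) = g₀ * x * g₀⁻¹) :
    ∃ g : G, Nat.Coprime (orderOf g) p ∧ ∀ x : P, ((a x : P) : G) = g * x * g⁻¹ := by
  have hp : p.Prime := Fact.out
  have hg₀N : g₀ ∈ Subgroup.normalizer (P : Set G) := mem_normalizer_of_induces hg₀
  have hae : a = Subgroup.normalizerMonoidHom P ⟨g₀, hg₀N⟩ := by
    ext x
    exact hg₀ x
  have hord : orderOf g₀ ≠ 0 := (orderOf_pos g₀).ne'
  obtain ⟨k, m, hpm, hnm⟩ := Nat.exists_eq_pow_mul_and_not_dvd hord p hp.ne_one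
  have hcop : Nat.Coprime (p ^ k) (orderOf a) := (Nat.Coprime.pow_left k ha.symm)
  obtain ⟨u, hu⟩ := exists_pow_eq_self_of_coprime hcop
  refine ⟨g₀ ^ (p ^ k * u), ?_, fun x => ?_⟩
  · have h1 : (g₀ ^ (p ^ k * u)) ^ m = 1 := by
      rw [← pow_mul, mul_right_comm, ← hnm, pow_mul, pow_orderOf_eq_one, one_pow]
    have h2 : orderOf (g₀ ^ (p ^ k * u)) ∣ m := orderOf_dvd_of_pow_eq_one h1
    have h3 : Nat.Coprime m p := ((hp.coprime_iff_not_dvd).mpr hpm).symm
    exact Nat.Coprime.coprime_dvd_left h2 h3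
  · have h1 : a = Subgroup.normalizerMonoidHom P (⟨g₀, hg₀N⟩ ^ (p ^ k * u)) := by
      rw [map_pow, ← hae, pow_mul, hu]
    have h2 := congrArg (fun b : MulAut P => ((b x : P) : G)) h1
    exact h2

/-- Let G be a finite group with Sylow p-subgroup S and O^p(G) the subgroup generated by the elements of order prime to p. Then the p-residual subsystem of the fusion system of G on S — the saturated subsystem of p-power index over the hyperfocal subgroup — is the fusion system of O^p(G) on S ∩ O^p(G): its maps are exactly the conjugation maps by elements of O^p(G) between subgroups of S ∩ O^p(G). -/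
theorem result {G : Type*} [Group G] [Finite G] (p : ℕ) [Fact p.Prime] (S : Sylow p G) (E : Cfsg.FusionSystem ((Cfsg.groupFusionSystem (S : Subgroup G)).hyperfocalSubgroup p)) (hE : (Cfsg.groupFusionSystem (S : Subgroup G)).IsPResidual p E) : ∃ h : (S : Subgroup G) ⊓ Cfsg.pResidual p G ≤ Cfsg.pResidual p G, ∀ P : Subgroup G, E.Hom P = (Cfsg.fusionSystemOfSubgroup (Cfsg.pResidual p G) ((S : Subgroup G) ⊓ Cfsg.pResidual p G) h).Hom P := by
  have hKn : (Cfsg.pResidual p G).Normal := Cfsg.Agent.Lib.Helper34.pResidual_normal p G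
  refine ⟨inf_le_right, ?_⟩
  have hT := Cfsg.Agent.S5093.result p S
  have hD₂sat := Cfsg.Agent.S5118.D_saturated p S (Cfsg.pResidual p G)
  refine Cfsg.Agent.Lib.Helper86.same_of_pPowerIndex S.isPGroup' (Cfsg.groupFusionSystem (S : Subgroup G)) E
    (Cfsg.fusionSystemOfSubgroup (Cfsg.pResidual p G) ((S : Subgroup G) ⊓ Cfsg.pResidual p G) inf_le_right)
    hT hE.1 hD₂sat hE.2 ⟨?_, hT.le, ?_⟩
  · rintro P φ ⟨hP, hφ, g, -, hg⟩
    exact ⟨hP.trans inf_le_left, fun x => (hφ x).1, g, hg⟩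
  · intro P hPT
    have hPS : P ≤ (S : Subgroup G) := hPT.trans inf_le_left
    rw [Subgroup.map_le_iff_le_comap]
    refine (Subgroup.closure_le _).mpr ?_
    intro a ha
    rw [SetLike.mem_coe, Subgroup.mem_comap]
    have haF : (a : MulAut P) ∈ (Cfsg.groupFusionSystem (S : Subgroup G)).autGroup P := a.2
    rw [mem_autGroup_iff _ hPS] at haF
    obtain ⟨-, -, g₀, hg₀⟩ := haF
    have ha' : Nat.Coprime (orderOf (a : MulAut P)) p := by
      rw [Subgroup.orderOf_coe]
      exact ha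
    obtain ⟨g, hgcop, hg⟩ := exists_pPrime_inducing (a : MulAut P) ha' g₀ hg₀
    show (a : MulAut P) ∈ (Cfsg.fusionSystemOfSubgroup _ _ _).autGroup P
    rw [mem_autGroup_iff _ hPT]
    exact ⟨hPT, fun x => hPT ((a : MulAut P) x).2, g, Subgroup.subset_closure hgcop, hg⟩

end Cfsg.Agent.S5139
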