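import Cfsg.Statements.S5147
import Cfsg.Agent.S5115
import Cfsg.Agent.Lib.Helper85.FusionCentralComm
import Cfsg.Agent.Lib.Helper85.FusionRealized
import Cfsg.Agent.Lib.Helper85.FusionGroup
import Cfsg.Agent.Lib.Helper85.FusionRS
import Cfsg.Agent.Lib.Helper49.SubnormalSylow

set_option autoImplicit false
open Cfsg

namespace Cfsg.Agent.S5147

open Cfsg.FusionSystem Cfsg.Agent.Lib.Helper87

section

variable {L : Type*} [Group L] [Finite L] {p : ℕ} [Fact p.Prime]

omit [Finite L] [Fact p.Prime] in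
/-- a `p`-element whose image modulo a central subgroup lies in the image of the Sylow subgroup `T` lies in `T` -/
theorem mem_sylow_of_map_mem (T : Sylow p L) (Z : Subgroup L) [Z.Normal] (hZ : Z ≤ Subgroup.center L)
    {x : L} {k : ℕ} (hx : x ^ p ^ k = 1)
    (hπ : QuotientGroup.mk' Z x ∈ (T : Subgroup L).map (QuotientGroup.mk' Z)) : x ∈ (T : Subgroup L) := by
  obtain ⟨t, ht, hte⟩ := hπ
  have hz : t⁻¹ * x ∈ Z := by
    rw [← QuotientGroup.eq]
    exact hte
  have hzc : t⁻¹ * x ∈ Subgroup.center L := hZ hz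
  obtain ⟨m, hm⟩ := T.isPGroup' ⟨t, ht⟩
  have htm : t ^ p ^ m = 1 := congrArg Subtype.val hm
  have hcomm : Commute t⁻¹ x := by
    have h1 : (t⁻¹ * x) * t = t * (t⁻¹ * x) := (Subgroup.mem_center_iff.1 hzc t).symm
    have h2 : x * t = t * x := by
      calc x * t = t * ((t⁻¹ * x) * t) := by group
        _ = t * (t * (t⁻¹ * x)) := by rw [h1]
        _ = t * x := by group
    exact (Commute.inv_left (show Commute t x from h2.symm))
  have hzpow : (t⁻¹ * x) ^ p ^ (k + m) = 1 := by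
    have hx' : x ^ (p ^ k * p ^ m) = 1 := by rw [pow_mul, hx, one_pow]
    have ht' : t⁻¹ ^ (p ^ k * p ^ m) = 1 := by rw [mul_comm, pow_mul, inv_pow, htm, inv_one, one_pow]
    rw [hcomm.mul_pow, pow_add, ht', hx', one_mul]
  have hPz : IsPGroup p (Subgroup.zpowers (t⁻¹ * x)) :=
    Cfsg.Agent.Lib.Helper85.isPGroup_zpowers_of_pow_eq_one hzpow
  have : (Subgroup.zpowers (t⁻¹ * x)).Normal := by
    constructor
    intro n hn g
    have hnc : n ∈ Subgroup.center L := (Subgroup.zpowers_le.2 hzc) hn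
    have : g * n * g⁻¹ = n := by
      rw [Subgroup.mem_center_iff.1 hnc g]
      group
    rw [this]; exact hn
  have hzT : t⁻¹ * x ∈ (T : Subgroup L) := hPz.le_sylow_of_normal T (Subgroup.mem_zpowers _)
  have : x = t * (t⁻¹ * x) := by group
  rw [this]
  exact Subgroup.mul_mem _ ht hzT

/-- **Central quotients of constrained group fusion systems.** -/
theorem constrained_central_quotient (T : Sylow p L)
    (hcon : (Cfsg.groupFusionSystem (T : Subgroup L)).IsConstrained p) (Z : Subgroup L) [Z.Normal]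
    (hZ : Z ≤ Subgroup.center L) :
    (Cfsg.groupFusionSystem ((T : Subgroup L).map (QuotientGroup.mk' Z))).IsConstrained p := by
  set π := QuotientGroup.mk' Z with hπdef
  have hπs : Function.Surjective π := QuotientGroup.mk'_surjective Z
  set F := Cfsg.groupFusionSystem (T : Subgroup L) with hFdef
  have hTp : IsPGroup p (T : Subgroup L) := T.isPGroup'
  have : Finite (T : Subgroup L) := inferInstance
  obtain ⟨hFsat, Q₀, hQ₀n, hQ₀c⟩ := hcon
  -- saturation of the quotient system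
  have hsat : (Cfsg.groupFusionSystem ((T : Subgroup L).map π)).IsSaturated p := by
    have := Cfsg.Agent.Lib.Helper85.groupFusionSystem_isSaturated (T.mapSurjective hπs)
    rwa [Sylow.coe_mapSurjective] at this
  -- the core
  have hQ : F.IsNormal F.core := Cfsg.Agent.Lib.Helper85.isNormal_core F
  have hQmax : ∀ M : Subgroup L, F.IsNormal M → M ≤ F.core :=
    fun M hM => Cfsg.Agent.Lib.Helper85.le_core_of_isNormal F hM
  have hQT : F.core ≤ (T : Subgroup L) := hQ.1
  have hQc : centralizerIn (T : Subgroup L) F.core ≤ F.core := by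
    have h0 := hQ₀c.2 Q₀ (Cfsg.Agent.Lib.Helper85.isConj_refl F hQ₀c.1)
    have h1 : Q₀ ≤ F.core := hQmax Q₀ hQ₀n
    refine le_trans ?_ (h0.trans h1)
    exact inf_le_inf_left _ (Subgroup.centralizer_le h1)
  -- the central subgroup
  have hZ₀ : F.IsCentral ((T : Subgroup L) ⊓ Z) := by
    refine ⟨inf_le_left, fun P φ hφ => ?_⟩
    obtain ⟨hPT, hφT, g, hg⟩ := hφ
    have hle : P ⊔ ((T : Subgroup L) ⊓ Z) ≤ (T : Subgroup L) := sup_le hPT inf_le_left
    have hmaps : ∀ y : ↥(P ⊔ ((T : Subgroup L) ⊓ Z)), g * (y : L) * g⁻¹ ∈ (T : Subgroup L) := by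
      have hW : P ⊔ ((T : Subgroup L) ⊓ Z) ≤ (T : Subgroup L).comap (MulAut.conj g).toMonoidHom := by
        refine sup_le ?_ ?_
        · intro x hx
          have := hφT ⟨x, hx⟩
          rw [hg] at this
          exact this
        · rintro z ⟨hzT, hzZ⟩
          have hzc := Subgroup.mem_center_iff.1 (hZ hzZ) g
          change g * z * g⁻¹ ∈ (T : Subgroup L)
          rw [hzc]
          have : z * g * g⁻¹ = z := by group
          rw [this]; exact hzT
      intro y
      exact hW y.2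
    refine ⟨Cfsg.conjHom _ g, ⟨hle, hmaps, g, fun _ => rfl⟩, fun x => (hg x).symm, ?_⟩
    rintro ⟨z, hzT, hzZ⟩
    have hzc := Subgroup.mem_center_iff.1 (hZ hzZ) g
    change g * z * g⁻¹ = z
    rw [hzc]
    group
  have key : ∀ t ∈ (T : Subgroup L), (∀ q ∈ F.core, q⁻¹ * (t * q * t⁻¹) ∈ (T : Subgroup L) ⊓ Z) → t ∈ F.core :=
    fun t ht h => Cfsg.Agent.Lib.Helper85.mem_of_comm_mem_central F hTp hFsat hQ hQmax hQc hZ₀ ht h
  -- normality of the image of the core
  have hnormal : (Cfsg.groupFusionSystem ((T : Subgroup L).map π)).IsNormal (F.core.map π) := by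
    refine ⟨Subgroup.map_mono hQT, fun Pb φb hφb => ?_⟩
    obtain ⟨hPbT, hφbT, gb, hgb⟩ := hφb
    obtain ⟨g, rfl⟩ := hπs gb
    -- the lift of the source
    set A : Subgroup L := (T : Subgroup L) ⊓ Pb.comap π with hA
    have hAT : A ≤ (T : Subgroup L) := inf_le_left
    have hAmap : A.map π = Pb := by
      apply le_antisymm
      · rintro _ ⟨a, ha, rfl⟩
        exact ha.2
      · intro xb hxb
        obtain ⟨t, ht, rfl⟩ := hPbT hxb
        exact ⟨t, ⟨ht, hxb⟩, rfl⟩
    have hgA : ∀ a : A, g * (a : L) * g⁻¹ ∈ (T : Subgroup L) := by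
      intro a
      obtain ⟨k, hk⟩ := hTp ⟨a, hAT a.2⟩
      have hk' : (a : L) ^ p ^ k = 1 := congrArg Subtype.val hk
      refine mem_sylow_of_map_mem T Z hZ (k := k) ?_ ?_
      · have : (g * (a : L) * g⁻¹) ^ p ^ k = g * (a : L) ^ p ^ k * g⁻¹ := conj_pow
        rw [this, hk']
        group
      · have h1 := hφbT ⟨π a, a.2.2⟩
        rw [hgb] at h1
        have h2 : π (g * (a : L) * g⁻¹) = π g * π a * (π g)⁻¹ := by
          rw [map_mul, map_mul, map_inv]
        rw [h2]
        exact h1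
    have hφ : Cfsg.conjHom A g ∈ F.Hom A := ⟨hAT, hgA, g, fun _ => rfl⟩
    obtain ⟨ψ, hψ, hψA, hψQ⟩ := hQ.2 A _ hφ
    rw [map_subgroupOf_eq_iff] at hψQ
    obtain ⟨hAQT, hψT, h, hh⟩ := hψ
    have hsup : Pb ⊔ F.core.map π = (A ⊔ F.core).map π := by
      rw [Subgroup.map_sup, hAmap]
    have hlift : ∀ y : ↥(Pb ⊔ F.core.map π), ∃ y' : ↥(A ⊔ F.core), π y' = y := by
      intro y
      obtain ⟨y', hy', hy'e⟩ := hsup.le y.2
      exact ⟨⟨y', hy'⟩, hy'e⟩
    have hconj : ∀ y' : ↥(A ⊔ F.core), π h * π y' * (π h)⁻¹ = π (ψ y') := by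
      intro y'
      rw [hh, map_mul, map_mul, map_inv]
    refine ⟨Cfsg.conjHom _ (π h), ⟨?_, ?_, π h, fun _ => rfl⟩, ?_, ?_⟩
    · exact sup_le hPbT (Subgroup.map_mono hQT)
    · intro y
      obtain ⟨y', hy'⟩ := hlift y
      change π h * (y : L ⧸ Z) * (π h)⁻¹ ∈ _
      rw [← hy', hconj]
      exact ⟨_, hψT y', rfl⟩
    · intro xb
      obtain ⟨a, ha, hae⟩ : (xb : L ⧸ Z) ∈ A.map π := by rw [hAmap]; exact xb.2
      change π h * (xb : L ⧸ Z) * (π h)⁻¹ = φb xb
      rw [hgb, ← hae]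
      have h1 := hconj ⟨a, (le_sup_left : A ≤ A ⊔ F.core) ha⟩
      have h2 := hψA ⟨a, ha⟩
      have h3 : (Subgroup.inclusion (le_sup_left : A ≤ A ⊔ F.core) ⟨a, ha⟩) =
          ⟨a, (le_sup_left : A ≤ A ⊔ F.core) ha⟩ := rfl
      rw [h3] at h2
      rw [h1, h2]
      change π (g * a * g⁻¹) = _
      rw [map_mul, map_mul, map_inv]
    · rw [map_subgroupOf_eq_iff]
      constructor
      · intro y hy
        obtain ⟨q, hq, hqe⟩ := hy
        change π h * (y : L ⧸ Z) * (π h)⁻¹ ∈ _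
        rw [← hqe]
        have h1 := hconj ⟨q, (le_sup_right : F.core ≤ A ⊔ F.core) hq⟩
        rw [h1]
        exact ⟨_, hψQ.1 ⟨q, (le_sup_right : F.core ≤ A ⊔ F.core) hq⟩ hq, rfl⟩
      · rintro _ ⟨q, hq, rfl⟩
        obtain ⟨q', hq'Q, hq'⟩ := hψQ.2 q hq
        have hmem : π (q' : L) ∈ Pb ⊔ F.core.map π :=
          (le_sup_right : F.core.map π ≤ Pb ⊔ F.core.map π) ⟨_, hq'Q, rfl⟩
        refine ⟨⟨π (q' : L), hmem⟩, ⟨_, hq'Q, rfl⟩, ?_⟩
        change π h * π (q' : L) * (π h)⁻¹ = π q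
        rw [hconj q', hq']
  -- centricity
  have : Finite ((T : Subgroup L).map π) := inferInstance
  have hsc := Cfsg.Agent.S5088.stronglyClosed_of_isNormal _ hnormal
  have hwc := Cfsg.Agent.S5088.weaklyClosed_of_stronglyClosed _ hsc
  refine ⟨hsat, F.core.map π, hnormal, Subgroup.map_mono hQT, ?_⟩
  rintro R ⟨φ, hφ, rfl⟩
  rw [hwc.2 φ hφ]
  rintro _ ⟨⟨t, ht, rfl⟩, htc⟩
  refine ⟨t, key t ht (fun q hq => ⟨?_, ?_⟩), rfl⟩
  · exact Subgroup.mul_mem _ (Subgroup.inv_mem _ (hQT hq))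
      (Subgroup.mul_mem _ (Subgroup.mul_mem _ ht (hQT hq)) (Subgroup.inv_mem _ ht))
  · have h1 := Subgroup.mem_centralizer_iff.1 htc (π q) ⟨q, hq, rfl⟩
    refine (QuotientGroup.eq_one_iff _).1 ?_
    change π (q⁻¹ * (t * q * t⁻¹)) = 1
    rw [map_mul, map_mul, map_mul, map_inv, map_inv, ← h1]
    group

end

/-- Let G be a finite group with Sylow 2-subgroup S whose 2-fusion system on S is constrained, and L a component of G (a subnormal quasisimple subgroup). Then the 2-fusion system of L/Z(L) on the image of S ∩ L is constrained. -/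
theorem result {G : Type*} [Group G] [Finite G] (S : Sylow 2 G) (hF : (Cfsg.groupFusionSystem (S : Subgroup G)).IsConstrained 2) (L : Subgroup G) (hL : Cfsg.IsComponent L) : (Cfsg.groupFusionSystem (((S : Subgroup G).subgroupOf L).map (QuotientGroup.mk' (Subgroup.center L)))).IsConstrained 2 := by
  obtain ⟨hsub, -⟩ := hL
  have hcon := Cfsg.Agent.S5115.result S hF L hsub
  obtain ⟨P, hP⟩ := Cfsg.Agent.Lib.Helper49.exists_sylow_eq_subgroupOf_of_isSubnormal S hsub
  rw [← hP] at hcon ⊢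
  exact constrained_central_quotient P hcon (Subgroup.center L) le_rfl

end Cfsg.Agent.S5147
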