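import Cfsg.Statements.S5148
import Cfsg.Agent.Lib.Helper85.FusionFactor
import Cfsg.Agent.Lib.Helper85.FusionNormal
import Cfsg.Agent.Lib.Helper85.FusionRealized
import Cfsg.Agent.Lib.Helper87.FusionLift
import Cfsg.Agent.Lib.Helper88.FusionAbelian

set_option autoImplicit false
open Cfsg

namespace Cfsg.Agent.S5148

open Cfsg.FusionSystem
open Cfsg.Agent.Lib.Helper85

variable {Ω : Type*} [Group Ω] {S : Subgroup Ω}

/-- The inner fusion system of a finite `p`-group is saturated. -/
theorem innerFusionSystem_isSaturated [Finite S] {p : ℕ} [Fact p.Prime] (hS : IsPGroup p S) :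
    (innerFusionSystem S).IsSaturated p := by
  have hι : (innerFusionSystem S).IsRealizedBy (MonoidHom.id S) := by
    refine ⟨fun a b h => h, fun P hP φ hφ => ?_⟩
    constructor
    · rintro ⟨-, g, hg, hgφ⟩
      exact ⟨⟨g, hg⟩, fun x => Subtype.ext (hgφ x)⟩
    · rintro ⟨g, hg⟩
      exact ⟨hP, g, g.2, fun x => congrArg Subtype.val (hg x)⟩
  have htop : IsPGroup p (⊤ : Subgroup S) := hS.to_subgroup ⊤
  obtain ⟨Q, hQ⟩ := htop.exists_le_sylow
  have hQtop : (Q : Subgroup S) = ⊤ := top_le_iff.mp hQ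
  refine isSaturated_of_isRealizedBy hι Q ?_
  rw [hQtop]
  exact (MonoidHom.range_eq_top.mpr fun x => ⟨x, rfl⟩).symm

/-- A simple fusion system over an abelian `p`-group has only inclusions as maps (it is the inner system). -/
theorem eq_self_of_simple_abelian [Finite S] {p : ℕ} [Fact p.Prime] (hS : IsPGroup p S) (E : FusionSystem S)
    (hE : E.IsSimple p) (hab : ∀ x ∈ S, ∀ y ∈ S, x * y = y * x) {P : Subgroup Ω} {φ : P →* Ω}
    (hφ : φ ∈ E.Hom P) (x : P) : φ x = x := by
  obtain ⟨hEsat, hSne, hEsimple⟩ := hE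
  have hinner : ∀ {P : Subgroup Ω} {φ : P →* Ω}, φ ∈ (innerFusionSystem S).Hom P → ∀ x : P, φ x = x := by
    rintro P φ ⟨hP, g, hg, hgφ⟩ x
    rw [hgφ x, hab g hg x (hP x.2), mul_inv_cancel_right]
  have hnormal : (innerFusionSystem S).IsNormalIn E p := by
    refine ⟨⟨innerFusionSystem_isSaturated hS, hEsat, ?_, ?_, ?_, ?_⟩, ?_⟩
    · rintro P φ ⟨hP, g, hg, hgφ⟩
      have : φ = conjHom P g := by
        ext x; exact hgφ x
      rw [this]
      exact E.conj_mem hP hg
    · exact ⟨le_rfl, fun R _ φ hφ x => (E.le_of_mem hφ).2 x⟩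
    · intro P hPS φ hφ α hα
      have hle : (P.subgroupOf S).map (S.subtype.comp α.toMonoidHom) ≤ S := by
        rintro _ ⟨y, -, rfl⟩
        exact (α y).2
      refine ⟨Subgroup.subtype _, id_mem _ hle, fun x hφx hαx => ?_⟩
      show ((α ⟨x, hPS x.2⟩ : S) : Ω) = ((α ⟨φ x, hφx⟩ : S) : Ω)
      have : (⟨φ x, hφx⟩ : S) = ⟨x, hPS x.2⟩ := Subtype.ext (hinner hφ x)
      rw [this]
    · intro P hPS φ hφ
      obtain ⟨α, hα, hαx⟩ := Cfsg.Agent.Lib.Helper88.exists_aut_extension_of_abelian E p hEsat hab hφ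
      refine ⟨α, hα, P.subtype, id_mem _ hPS, fun x hx => ?_⟩
      exact (hαx x hx).symm
    · intro α hα
      rw [mem_autGroup_iff _ le_rfl] at hα
      have hαx : ∀ x : S, ((α x : S) : Ω) = x := fun x => hinner hα x
      refine ⟨1, Subgroup.one_mem _, fun x => ?_, fun c _ => ?_⟩
      · exact (hαx x).symm
      · show (c : Ω)⁻¹ * (c : Ω) ∈ _
        rw [inv_mul_cancel]
        exact Subgroup.one_mem _
  rcases hEsimple S (innerFusionSystem S) hnormal with h | ⟨-, h⟩
  · exact absurd h hSne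
  · exact hinner (h P ▸ hφ) x

/-- A quasisimple fusion system over a finite p-group S (saturated, equal to its p-residual subsystem, with simple — in particular nontrivial — factor system modulo its centre) has S nonabelian. -/
theorem result {Ω : Type*} [Group Ω] {S : Subgroup Ω} [Finite S] (p : ℕ) [Fact p.Prime] (hS : IsPGroup p S) (F : Cfsg.FusionSystem S) (hq : F.Quasisimple p) : ¬ IsMulCommutative S := by
  intro hab
  obtain ⟨hF, hhyp, hsimp⟩ := hq
  have hcomm : ∀ a b : S, a * b = b * a := fun a b => hab.is_comm.comm a b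
  have hZc : F.IsCentral F.center := isCentral_center F
  have hZS : F.center ≤ S := hZc.1
  have hZsc : F.StronglyClosed F.center := by
    refine ⟨hZS, fun R hR φ hφ x => ?_⟩
    obtain ⟨ψ, -, hψ1, hψ2⟩ := hZc.2 R φ hφ
    have h1 := hψ1 x
    have h2 := hψ2 ⟨x, hR x.2⟩
    have h12 : (Subgroup.inclusion (le_sup_left : R ≤ R ⊔ F.center) x) =
        Subgroup.inclusion (le_sup_right : F.center ≤ R ⊔ F.center) ⟨x, hR x.2⟩ := Subtype.ext rfl
    rw [h12, h2] at h1
    rw [← h1]
    exact hR x.2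
  set θ := QuotientGroup.mk' ((F.center).subgroupOf S) with hθ
  have hker : ∀ s : S, θ s = 1 ↔ (s : Ω) ∈ F.center := by
    intro s
    rw [hθ, QuotientGroup.mk'_apply, QuotientGroup.eq_one_iff, Subgroup.mem_subgroupOf]
  have hrange : θ.range = ⊤ := MonoidHom.range_eq_top.mpr (QuotientGroup.mk'_surjective _)
  have hE := isFactorSystem_factorSystem F F.center hZsc θ hker hrange
  have hEsimple := hsimp _ hE
  have hS' : IsPGroup p (⊤ : Subgroup (↥S ⧸ (F.center).subgroupOf S)) :=
    (hS.to_quotient _).to_subgroup ⊤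
  have hab' : ∀ x ∈ (⊤ : Subgroup (↥S ⧸ (F.center).subgroupOf S)),
      ∀ y ∈ (⊤ : Subgroup (↥S ⧸ (F.center).subgroupOf S)), x * y = y * x := by
    intro x _ y _
    induction x using QuotientGroup.induction_on with
    | H a =>
      induction y using QuotientGroup.induction_on with
      | H b =>
        rw [← QuotientGroup.mk_mul, ← QuotientGroup.mk_mul, hcomm a b]
  -- every generator of the hyperfocal subgroup lies in the centre
  have hle : F.hyperfocalSubgroup p ≤ F.center := by
    unfold FusionSystem.hyperfocalSubgroup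
    rw [Subgroup.closure_le]
    rintro y ⟨P, α, x, hPS, -, rfl⟩
    have hφ : P.subtype.comp (α : MulAut P).toMonoidHom ∈ F.Hom P := (mem_autGroup_iff F hPS _).mp α.2
    obtain ⟨φ', hφ', hP, hφS, hP', hind⟩ :=
      Cfsg.Agent.Lib.Helper87.exists_induced_of_isFactorSystem F hS hF hZsc θ _ hE hφ
    have h1 := hind x
    rw [eq_self_of_simple_abelian hS' _ hEsimple hab' hφ'] at h1
    have h2 : θ (⟨x, hP x.2⟩⁻¹ * ⟨_, hφS x⟩) = 1 := by
      rw [map_mul, map_inv, ← h1, inv_mul_cancel]
    exact (hker _).mp h2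
  have hSZ : S ≤ F.center := fun z hz => hle (hhyp.symm ▸ hz)
  apply hEsimple.2.1
  rw [eq_bot_iff]
  intro x _
  induction x using QuotientGroup.induction_on with
  | H a =>
    rw [Subgroup.mem_bot]
    exact (hker a).mpr (hSZ a.2)

end Cfsg.Agent.S5148
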