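import Cfsg.Statements.S5153
import Cfsg.Agent.Lib.Helper87.FusionFully
import Cfsg.Agent.Lib.Helper85.FusionFactor

set_option autoImplicit false
open Cfsg

namespace Cfsg.Agent.S5153

open Cfsg.FusionSystem
open Cfsg.Agent.Lib.Helper87

variable {Ω : Type*} [Group Ω]

/-- A subgroup of a strongly closed `U` that is fully normalized in the saturated system `F` is fully normalized in every
subsystem of `F` over `U`. -/
theorem fullyNormalized_of_subsystem {S : Subgroup Ω} [Finite S] {p : ℕ} [Fact p.Prime] (hS : IsPGroup p S)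
    (F : FusionSystem S) (hF : F.IsSaturated p) {U : Subgroup Ω} (D : FusionSystem U) (hDF : D.IsSubsystemOf F)
    (hU : F.StronglyClosed U) {P : Subgroup Ω} (hPU : P ≤ U) (hP : F.IsFullyNormalized P) :
    D.IsFullyNormalized P := by
  refine ⟨hPU, fun P' hconj => ?_⟩
  obtain ⟨φ, hφ, hφr⟩ := hconj
  have hconjF : F.IsConj P P' := ⟨φ, hDF P hφ, hφr⟩
  have hP'S : P' ≤ S := IsConj_le_right hconjF
  obtain ⟨hPa, hPr⟩ := fullyAutomized_receptive_of_fullyNormalized F hS hF hP
  obtain ⟨ψ, e, hψ, he, hψe⟩ := exists_extension F hS hPa hPr (IsConj_symm hconjF)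
  have hmapN := map_mem_normalizerIn F hP'S hψ e hψe
  have hle : normalizerIn U P' ≤ normalizerIn S P' := fun x hx => ⟨hU.1 hx.1, hx.2⟩
  have hfin : Finite (normalizerIn U P) :=
    finite_of_le (fun x hx => hU.1 hx.1 : normalizerIn U P ≤ S)
  let f : normalizerIn U P' → normalizerIn U P := fun x =>
    ⟨ψ ⟨x, hle x.2⟩, (Cfsg.Agent.Lib.Helper85.stronglyClosed_apply_mem_iff F hU hψ ⟨x, hle x.2⟩).mpr x.2.1,
      (hmapN ⟨x, hle x.2⟩).2⟩
  have hinj : Function.Injective f := by
    intro a b hab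
    have h1 : ψ ⟨a, hle a.2⟩ = ψ ⟨b, hle b.2⟩ := congrArg Subtype.val hab
    have h2 := F.injective_of_mem hψ h1
    have h3 : (a : Ω) = (b : Ω) := congrArg (fun t : normalizerIn S P' => (t : Ω)) h2
    exact Subtype.ext h3
  exact Nat.card_le_card_of_injective f hinj

theorem subnormal_aux {T S : Subgroup Ω} {E : FusionSystem T} {F : FusionSystem S} {p : ℕ}
    (h : E.IsSubnormalIn F p) : Fact p.Prime → Finite S → IsPGroup p S → F.IsSaturated p →
      T ≤ S ∧ ∀ P : Subgroup Ω, P ≤ T → F.IsFullyNormalized P → E.IsFullyNormalized P := by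
  induction h with
  | refl F p =>
    intro _ _ _ _
    exact ⟨le_rfl, fun P _ hP => hP⟩
  | step h1 h2 ih =>
    intro hp hfin hS hF
    obtain ⟨⟨hDs, -, hDsub, hUsc, -, -⟩, -⟩ := h2
    have hUS := hUsc.1
    have hfinU := finite_of_le hUS
    obtain ⟨hTU, ih'⟩ := ih hp hfinU (hS.to_le hUS) hDs
    exact ⟨hTU.trans hUS, fun P hPT hP =>
      ih' P hPT (fullyNormalized_of_subsystem hS _ hF _ hDsub hUsc (hPT.trans hTU) hP)⟩

/-- Let F be a saturated fusion system over a finite p-group S and E a subnormal subsystem of F over T. Then every subgroup of T that is fully normalized in F is fully normalized in E. -/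
theorem result {Ω : Type*} [Group Ω] {S : Subgroup Ω} [Finite S] (p : ℕ) [Fact p.Prime] (hS : IsPGroup p S) (F : Cfsg.FusionSystem S) (hF : F.IsSaturated p) {T : Subgroup Ω} (E : Cfsg.FusionSystem T) (hE : E.IsSubnormalIn F p) (P : Subgroup Ω) (hPT : P ≤ T) (hP : F.IsFullyNormalized P) : E.IsFullyNormalized P := by
  exact (subnormal_aux hE inferInstance inferInstance hS hF).2 P hPT hP

end Cfsg.Agent.S5153
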