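import Cfsg.Statements.S5157
import Cfsg.Agent.S5089
import Cfsg.Agent.S5128
import Cfsg.Agent.S5132
import Cfsg.Agent.Lib.Helper87.FusionLift
import Cfsg.Agent.Lib.Helper85.FusionQuotSat

set_option autoImplicit false
open Cfsg

namespace Cfsg.Agent.S5157

open Cfsg.FusionSystem Cfsg.Agent.Lib.Helper87 Cfsg.Agent.Lib.Helper85
open scoped commutatorElement

variable {Ω : Type*} [Group Ω] {S : Subgroup Ω}

/-- The whole group `S` is strongly closed. -/
theorem stronglyClosed_self (F : FusionSystem S) : F.StronglyClosed S :=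
  ⟨le_rfl, fun _ _ _ hφ x => apply_mem_of_mem_Hom F hφ x⟩

/-- A strongly closed subgroup is normal in `S`. -/
theorem normal_of_stronglyClosed (F : FusionSystem S) {R : Subgroup Ω} (hR : F.StronglyClosed R) :
    (R.subgroupOf S).Normal := by
  constructor
  intro n hn g
  rw [Subgroup.mem_subgroupOf] at hn ⊢
  exact StronglyClosed_conj_mem hR g.2 hn

/-- A nontrivial subgroup normal in the system has a nontrivial abelian strongly closed subgroup (no saturation). -/
theorem exists_abelian_of_core_ne_bot (p : ℕ) [Fact p.Prime] [Finite S] (hS : IsPGroup p S)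
    (F : FusionSystem S) (hne : F.core ≠ ⊥) :
    ∃ Q : Subgroup Ω, Q ≠ ⊥ ∧ IsMulCommutative Q ∧ F.StronglyClosed Q := by
  have hcore : F.IsNormal F.core := Cfsg.Agent.Lib.Helper85.isNormal_core F
  set Q := F.core with hQdef
  have hQS : Q ≤ S := hcore.1
  have : Finite Q := finite_of_le hQS
  have hQp : IsPGroup p Q := hS.to_le hQS
  have : Nontrivial Q := (Subgroup.nontrivial_iff_ne_bot Q).mpr hne
  refine ⟨(Subgroup.center Q).map Q.subtype, ?_, ?_, ?_⟩
  · intro h
    rw [Subgroup.map_eq_bot_iff_of_injective _ (Subgroup.subtype_injective Q)] at h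
    exact (hQp.bot_lt_center).ne' h
  · exact Subgroup.map_isMulCommutative _ _
  · apply Cfsg.Agent.S5088.stronglyClosed_of_isNormal
    apply Cfsg.Agent.S5085.result F Q _ hcore (Subgroup.map_subtype_le _)
    have : ((Subgroup.center Q).map Q.subtype).subgroupOf Q = Subgroup.center Q :=
      Subgroup.comap_map_eq_self_of_injective (Subgroup.subtype_injective Q) _
    rw [this]
    infer_instance


section factor

variable {Ω' : Type*} [Group Ω'] {S' : Subgroup Ω'}

/-- Step up: the preimage of a nontrivial abelian strongly closed subgroup of the factor system. -/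
theorem exists_step_up (p : ℕ) [Fact p.Prime] [Finite S] (hS : IsPGroup p S)
    (F : FusionSystem S) (hF : F.IsSaturated p) {R : Subgroup Ω} (hR : F.StronglyClosed R)
    (θ : S →* Ω') (E : FusionSystem S') (hE : F.IsFactorSystem R θ E)
    {Z : Subgroup Ω'} (hZne : Z ≠ ⊥) (hZc : IsMulCommutative Z) (hZ : E.StronglyClosed Z) :
    ∃ R' : Subgroup Ω, F.StronglyClosed R' ∧ R ≤ R' ∧ R ≠ R' ∧ ⁅R', R'⁆ ≤ R := by
  have hE' := hE
  obtain ⟨hRS, hker, hrange, hHom⟩ := hE
  refine ⟨preimageAlong θ Z, ⟨preimageAlong_le θ Z, ?_⟩, ?_, ?_, ?_⟩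
  · intro P hP φ hφ x
    obtain ⟨φ', hφ', hPS, hφS, hP', hcomm⟩ :=
      exists_induced_of_isFactorSystem F hS hF hR θ E hE' hφ
    have hle : imageAlong θ P ≤ Z := by
      rintro _ ⟨y, hy, rfl⟩
      have : (y : Ω) ∈ preimageAlong θ Z := hP (Subgroup.mem_subgroupOf.1 hy)
      exact ((mem_preimageAlong_iff θ Z _).mp this).2
    have h1 := hZ.2 _ hle φ' hφ' ⟨θ ⟨x, hPS x.2⟩, hP' x⟩
    rw [hcomm x] at h1
    exact (mem_preimageAlong_iff θ Z _).mpr ⟨hφS x, h1⟩
  · intro x hx
    refine (mem_preimageAlong_iff θ Z x).mpr ⟨hRS hx, ?_⟩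
    rw [(hker ⟨x, hRS hx⟩).2 hx]
    exact Z.one_mem
  · intro heq
    apply hZne
    rw [eq_bot_iff]
    intro z hz
    have hzS : z ∈ θ.range := by rw [hrange]; exact hZ.1 hz
    obtain ⟨s, rfl⟩ := hzS
    have : (s : Ω) ∈ preimageAlong θ Z := (mem_preimageAlong_iff θ Z _).mpr ⟨s.2, hz⟩
    rw [← heq] at this
    exact (hker s).2 this
  · rw [Subgroup.commutator_le]
    intro x hx y hy
    obtain ⟨hxS, hxZ⟩ := (mem_preimageAlong_iff θ Z x).mp hx
    obtain ⟨hyS, hyZ⟩ := (mem_preimageAlong_iff θ Z y).mp hy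
    have hc : θ ⟨x, hxS⟩ * θ ⟨y, hyS⟩ = θ ⟨y, hyS⟩ * θ ⟨x, hxS⟩ :=
      congrArg Subtype.val (hZc.is_comm.comm ⟨_, hxZ⟩ ⟨_, hyZ⟩)
    have h1 : θ ⁅(⟨x, hxS⟩ : S), ⟨y, hyS⟩⁆ = 1 := by
      rw [map_commutatorElement, commutatorElement_eq_one_iff_mul_comm]
      exact hc
    exact (hker _).1 h1

/-- Step for the converse: a strongly closed subgroup abelian modulo `R` and not inside `R` makes the core of the
(saturated) factor system nontrivial. -/
theorem core_ne_bot_of_step (p : ℕ) [Fact p.Prime] [Finite S] (hS : IsPGroup p S)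
    (F : FusionSystem S) (hF : F.IsSaturated p) {R : Subgroup Ω} (hR : F.StronglyClosed R)
    (θ : S →* Ω') (E : FusionSystem S') (hE : F.IsFactorSystem R θ E) [Finite S'] (hS' : IsPGroup p S')
    (hEs : E.IsSaturated p) {Q : Subgroup Ω} (hQ : F.StronglyClosed Q) (hQR : ⁅Q, Q⁆ ≤ R) (hnle : ¬ Q ≤ R) :
    E.core ≠ ⊥ := by
  obtain ⟨hRS, hker, hrange, hHom⟩ := hE
  have hQR' : F.StronglyClosed (Q ⊔ R) := Cfsg.Agent.S5128.result p hS F hF Q R hQ hR
  have hpre : preimageAlong θ (imageAlong θ Q) = Q ⊔ R := preimageAlong_imageAlong θ hker hRS hQ.1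
  rw [Cfsg.Agent.S5089.result p hS' E hEs]
  refine ⟨imageAlong θ Q, ?_, ?_, ?_, ?_⟩
  · intro hbot
    apply hnle
    intro x hx
    have : θ ⟨x, hQ.1 hx⟩ ∈ imageAlong θ Q := ⟨⟨x, hQ.1 hx⟩, Subgroup.mem_subgroupOf.2 hx, rfl⟩
    rw [hbot, Subgroup.mem_bot] at this
    exact (hker _).1 this
  · refine ⟨⟨?_⟩⟩
    rintro ⟨_, a, ha, rfl⟩ ⟨_, b, hb, rfl⟩
    apply Subtype.ext
    show θ a * θ b = θ b * θ a
    have hab : (⁅(a : Ω), (b : Ω)⁆) ∈ R :=
      hQR (Subgroup.commutator_mem_commutator (Subgroup.mem_subgroupOf.1 ha) (Subgroup.mem_subgroupOf.1 hb))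
    have : θ ⁅a, b⁆ = 1 := (hker _).2 hab
    rw [map_commutatorElement, commutatorElement_eq_one_iff_mul_comm] at this
    exact this
  · rw [← hrange]
    rintro _ ⟨y, -, rfl⟩
    exact ⟨y, rfl⟩
  · intro P' hP' φ' hφ' y
    obtain ⟨hP'S, φ, hφ, hQS, hφS, hθP, hcomm⟩ := (hHom P' φ').1 hφ'
    have hyr : (y : Ω') ∈ θ.range := by rw [hrange]; exact hP'S y.2
    obtain ⟨s, hs⟩ := hyr
    have hsP : (s : Ω) ∈ preimageAlong θ P' := (mem_preimageAlong_iff θ P' _).mpr ⟨s.2, by rw [hs]; exact y.2⟩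
    have hle : preimageAlong θ P' ≤ Q ⊔ R := by
      rw [← hpre]; exact preimageAlong_mono θ hP'
    have h1 : φ ⟨s, hsP⟩ ∈ Q ⊔ R := hQR'.2 _ hle φ hφ ⟨s, hsP⟩
    rw [← hpre] at h1
    have h2 := ((mem_preimageAlong_iff θ _ _).mp h1).2
    have h3 := hcomm ⟨s, hsP⟩
    have h4 : (⟨θ ⟨(⟨(s : Ω), hsP⟩ : ↥(preimageAlong θ P')), hQS hsP⟩, hθP ⟨s, hsP⟩⟩ : P') = y :=
      Subtype.ext hs
    rw [h4] at h3
    rw [h3]
    exact h2

end factor


/-- `ℕ`-indexed chains of strongly closed subgroups with abelian quotients from `R` up to `S`. -/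
def Chain (F : FusionSystem S) (R : Subgroup Ω) : Prop :=
  ∃ (n : ℕ) (T : ℕ → Subgroup Ω), T 0 = R ∧ T n = S ∧ (∀ i, T i ≤ T (i + 1)) ∧
    (∀ i, F.StronglyClosed (T i)) ∧ ∀ i, ⁅T (i + 1), T (i + 1)⁆ ≤ T i

theorem chain_self (F : FusionSystem S) : Chain F S :=
  ⟨0, fun _ => S, rfl, rfl, fun _ => le_rfl, fun _ => stronglyClosed_self F, fun _ =>
    (Subgroup.commutator_le).mpr fun _ hx _ hy =>
      S.mul_mem (S.mul_mem (S.mul_mem hx hy) (S.inv_mem hx)) (S.inv_mem hy)⟩

theorem chain_cons (F : FusionSystem S) {R R' : Subgroup Ω} (hR : F.StronglyClosed R) (hle : R ≤ R')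
    (hc : ⁅R', R'⁆ ≤ R) (h : Chain F R') : Chain F R := by
  obtain ⟨n, T, h0, hn, hmono, hsc, hcomm⟩ := h
  refine ⟨n + 1, fun i => Nat.casesOn i R T, rfl, hn, ?_, ?_, ?_⟩
  · intro i
    cases i with
    | zero => show R ≤ T 0; rw [h0]; exact hle
    | succ i => exact hmono i
  · intro i
    cases i with
    | zero => exact hR
    | succ i => exact hsc i
  · intro i
    cases i with
    | zero => show ⁅T 0, T 0⁆ ≤ R; rw [h0]; exact hc
    | succ i => exact hcomm i

theorem stronglyClosed_bot (F : FusionSystem S) : F.StronglyClosed ⊥ := by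
  refine ⟨bot_le, fun P hP φ _ x => ?_⟩
  have hx : (x : Ω) = 1 := Subgroup.mem_bot.1 (hP x.2)
  have : x = 1 := Subtype.ext hx
  rw [this, map_one]
  exact Subgroup.one_mem _

theorem chain_of_solvable (p : ℕ) [Fact p.Prime] [Finite S] (hS : IsPGroup p S)
    (F : FusionSystem S) (hF : F.IsSaturated p) (hsolv : F.IsSolvableSystem) :
    ∀ (k : ℕ) (R : Subgroup Ω), F.StronglyClosed R → Nat.card S - Nat.card R ≤ k → Chain F R := by
  intro k
  induction k with
  | zero =>
    intro R hR hk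
    have hcard : Nat.card S ≤ Nat.card R := by omega
    have : R = S := Subgroup.eq_of_le_of_card_ge hR.1 hcard
    rw [this]
    exact chain_self F
  | succ k ih =>
    intro R hR hk
    by_cases hRS : R = S
    · rw [hRS]; exact chain_self F
    · have hn : (R.subgroupOf S).Normal := normal_of_stronglyClosed F hR
      obtain ⟨E, hE⟩ := Cfsg.Agent.S5132.result p hS F R hR
      have hcore : E.core ≠ ⊥ := hsolv R hR hRS E hE
      have hfin : Finite (⊤ : Subgroup (S ⧸ R.subgroupOf S)) := inferInstance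
      have hp' : IsPGroup p (⊤ : Subgroup (S ⧸ R.subgroupOf S)) :=
        (hS.to_quotient (R.subgroupOf S)).to_subgroup _
      obtain ⟨Z, hZne, hZc, hZ⟩ := exists_abelian_of_core_ne_bot p hp' E hcore
      obtain ⟨R', hR', hle, hne, hc⟩ := exists_step_up p hS F hF hR _ E hE hZne hZc hZ
      have : Finite R' := finite_of_le hR'.1
      have hlt : Nat.card R < Nat.card R' := by
        by_contra hcon
        exact hne (Subgroup.eq_of_le_of_card_ge hle (not_lt.mp hcon))
      have hle' : Nat.card R' ≤ Nat.card S := Subgroup.card_le_of_le hR'.1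
      exact chain_cons F hR hle hc (ih R' hR' (by omega))

/-- The statement, modulo saturation of the factor systems. -/
theorem result_aux [Finite S] (p : ℕ) [Fact p.Prime] (hS : IsPGroup p S) (F : Cfsg.FusionSystem S)
    (hF : F.IsSaturated p)
    (hsat : ∀ R : Subgroup Ω, F.StronglyClosed R → ∀ [(R.subgroupOf S).Normal],
      ∀ E : FusionSystem (⊤ : Subgroup (S ⧸ R.subgroupOf S)),
        F.IsFactorSystem R (QuotientGroup.mk' (R.subgroupOf S)) E → E.IsSaturated p) :
    F.IsSolvableSystem ↔ ∃ (n : ℕ) (T : Fin (n + 1) → Subgroup Ω), T 0 = ⊥ ∧ T (Fin.last n) = S ∧ Monotone T ∧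
      (∀ i, F.StronglyClosed (T i)) ∧ ∀ i : Fin n, ⁅T i.succ, T i.succ⁆ ≤ T (Fin.castSucc i) := by
  constructor
  · intro hsolv
    obtain ⟨n, T, h0, hn, hmono, hsc, hcomm⟩ :=
      chain_of_solvable p hS F hF hsolv _ ⊥ (stronglyClosed_bot F) le_rfl
    refine ⟨n, fun i => T i, ?_, ?_, ?_, fun i => hsc i, ?_⟩
    · show T ((0 : Fin (n + 1)) : ℕ) = ⊥
      rw [Fin.val_zero]; exact h0
    · show T ((Fin.last n : Fin (n + 1)) : ℕ) = S
      rw [Fin.val_last]; exact hn
    · intro i j hij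
      exact monotone_nat_of_le_succ hmono (Fin.le_def.mp hij)
    · intro i
      show ⁅T (i.succ : ℕ), T (i.succ : ℕ)⁆ ≤ T (i.castSucc : ℕ)
      rw [Fin.val_succ, Fin.val_castSucc]
      exact hcomm i
  · rintro ⟨n, T, h0, hn, hmono, hsc, hcomm⟩
    intro R hR hRS hnorm E hE
    by_contra hbot
    have hEs : E.IsSaturated p := hsat R hR E hE
    have hfin : Finite (⊤ : Subgroup (S ⧸ R.subgroupOf S)) := inferInstance
    have hp' : IsPGroup p (⊤ : Subgroup (S ⧸ R.subgroupOf S)) :=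
      (hS.to_quotient (R.subgroupOf S)).to_subgroup _
    have hall : ∀ i : Fin (n + 1), T i ≤ R := by
      intro i
      induction i using Fin.induction with
      | zero => rw [h0]; exact bot_le
      | succ i ih =>
        by_contra hnle
        exact core_ne_bot_of_step p hS F hF hR _ E hE hp' hEs (hsc i.succ)
          ((hcomm i).trans ih) hnle hbot
    apply hRS
    have := hall (Fin.last n)
    rw [hn] at this
    exact le_antisymm hR.1 this


/-- A saturated fusion system F over a finite p-group S is solvable (for every subgroup R other than S that is strongly closed in F, the factor system of F modulo R has a nontrivial subgroup normal in it) if and only if there is a chain 1 = S₀ ≤ S₁ ≤ ⋯ ≤ Sₘ = S of subgroups strongly closed in F with every quotient Sᵢ₊₁/Sᵢ abelian. -/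
theorem result {Ω : Type*} [Group Ω] {S : Subgroup Ω} [Finite S] (p : ℕ) [Fact p.Prime] (hS : IsPGroup p S) (F : Cfsg.FusionSystem S) (hF : F.IsSaturated p) : F.IsSolvableSystem ↔ ∃ (n : ℕ) (T : Fin (n + 1) → Subgroup Ω), T 0 = ⊥ ∧ T (Fin.last n) = S ∧ Monotone T ∧ (∀ i, F.StronglyClosed (T i)) ∧ ∀ i : Fin n, ⁅T i.succ, T i.succ⁆ ≤ T (Fin.castSucc i) := by
  exact result_aux p hS F hF fun R hR _ E hE =>
    Cfsg.Agent.Lib.Helper85.isSaturated_of_isFactorSystem hS F hF hR _ E hE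

end Cfsg.Agent.S5157
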