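import Cfsg.Statements.S5158
import Cfsg.Agent.S5157

set_option autoImplicit false
open Cfsg

namespace Cfsg.Agent.S5158

open Cfsg.FusionSystem Cfsg.Agent.Lib.Helper87 Cfsg.Agent.Lib.Helper85
open scoped commutatorElement

variable {Ω : Type*} [Group Ω] {S : Subgroup Ω}

/-- The centralizer in `S` of a subgroup normal in the system is strongly closed. -/
theorem stronglyClosed_centralizerIn (F : FusionSystem S) {Q : Subgroup Ω} (hQ : F.IsNormal Q) :
    F.StronglyClosed (centralizerIn S Q) := by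
  refine ⟨inf_le_left, fun P hP φ hφ x => ⟨apply_mem_of_mem_Hom F hφ x, ?_⟩⟩
  obtain ⟨ψ, hψ, hψ1, hψ2⟩ := hQ.2 P φ hφ
  show φ x ∈ Subgroup.centralizer (Q : Set Ω)
  rw [Subgroup.mem_centralizer_iff]
  intro q hq
  have hq' : q ∈ (Q.subgroupOf (P ⊔ Q)).map ψ := by rw [hψ2]; exact hq
  obtain ⟨q', hq'Q, rfl⟩ := hq'
  rw [← hψ1 x, ← map_mul, ← map_mul]
  congr 1
  apply Subtype.ext
  show (q' : Ω) * (x : Ω) = (x : Ω) * (q' : Ω)
  have hx : (x : Ω) ∈ Subgroup.centralizer (Q : Set Ω) := (hP x.2).2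
  exact Subgroup.mem_centralizer_iff.1 hx _ (Subgroup.mem_subgroupOf.1 hq'Q)

theorem stronglyClosed_inf (F : FusionSystem S) {A B : Subgroup Ω} (hA : F.StronglyClosed A)
    (hB : F.StronglyClosed B) : F.StronglyClosed (A ⊓ B) :=
  ⟨inf_le_left.trans hA.1, fun P hP φ hφ x =>
    ⟨hA.2 P (hP.trans inf_le_left) φ hφ x, hB.2 P (hP.trans inf_le_right) φ hφ x⟩⟩

/-- Group-theoretic core: `Q ⊔ A` is abelian modulo `Q` when `A` centralizes `Q`, `[A, A] ≤ Q` and `Q` is normalized. -/
theorem commutator_sup_le {Q A : Subgroup Ω} (hcent : ∀ a ∈ A, ∀ q ∈ Q, a * q = q * a)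
    (hAA : ⁅A, A⁆ ≤ Q) : ⁅Q ⊔ A, Q ⊔ A⁆ ≤ Q := by
  have hnorm : ∀ k ∈ A, ∀ h ∈ Q, k * h * k⁻¹ ∈ Q := by
    intro k hk h hh
    rw [hcent k hk h hh, mul_assoc, mul_inv_cancel, mul_one]
    exact hh
  have hnormX : ∀ y ∈ Q ⊔ A, ∀ q ∈ Q, y * q * y⁻¹ ∈ Q := by
    intro y hy q hq
    obtain ⟨q', hq', a', ha', rfl⟩ := exists_mul_of_mem_sup hnorm hy
    have : q' * a' * q * (q' * a')⁻¹ = q' * (a' * q * a'⁻¹) * q'⁻¹ := by group
    rw [this]
    exact Q.mul_mem (Q.mul_mem hq' (hnorm a' ha' q hq)) (Q.inv_mem hq')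
  -- step 1
  have h1 : ∀ a ∈ A, ∀ y ∈ Q ⊔ A, ⁅a, y⁆ ∈ Q := by
    intro a ha y hy
    obtain ⟨q', hq', a', ha', rfl⟩ := exists_mul_of_mem_sup hnorm hy
    have hc := hcent a ha q' hq'
    have : ⁅a, q' * a'⁆ = q' * ⁅a, a'⁆ * q'⁻¹ := by
      rw [commutatorElement_def, commutatorElement_def, ← mul_assoc a q' a', hc]
      group
    rw [this]
    exact Q.mul_mem (Q.mul_mem hq' (hAA (Subgroup.commutator_mem_commutator ha ha'))) (Q.inv_mem hq')
  rw [Subgroup.commutator_le]
  intro x hx y hy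
  obtain ⟨q, hq, a, ha, rfl⟩ := exists_mul_of_mem_sup hnorm hx
  have : ⁅q * a, y⁆ = q * ⁅a, y⁆ * q⁻¹ * (q * (y * q⁻¹ * y⁻¹)) := by
    rw [commutatorElement_def, commutatorElement_def]; group
  rw [this]
  exact Q.mul_mem (Q.mul_mem (Q.mul_mem hq (h1 a ha y hy)) (Q.inv_mem hq))
    (Q.mul_mem hq (hnormX y hy _ (Q.inv_mem hq)))

/-- `[z, q a] = [z, q]` when `a` commutes with `z`. -/
theorem commutator_mul_of_commute (z q a : Ω) (h : a * z = z * a) : ⁅z, q * a⁆ = ⁅z, q⁆ := by
  have h' : a * z⁻¹ = z⁻¹ * a := by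
    have : z⁻¹ * (a * z) * z⁻¹ = z⁻¹ * (z * a) * z⁻¹ := by rw [h]
    have e1 : z⁻¹ * (a * z) * z⁻¹ = z⁻¹ * a := by group
    have e2 : z⁻¹ * (z * a) * z⁻¹ = a * z⁻¹ := by group
    rw [e1, e2] at this
    exact this.symm
  have : z * (q * a) * z⁻¹ = z * q * z⁻¹ * a := by
    rw [mul_assoc z (q * a), mul_assoc q a, h']
    group
  rw [commutatorElement_def, commutatorElement_def, this]
  group


theorem commutator_self_le (H : Subgroup Ω) : ⁅H, H⁆ ≤ H :=
  (Subgroup.commutator_le).mpr fun _ hx _ hy =>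
    H.mul_mem (H.mul_mem (H.mul_mem hx hy) (H.inv_mem hx)) (H.inv_mem hy)

/-- A strongly closed subgroup centralizing `O_p(F)` and abelian modulo it lies in `O_p(F)`. -/
theorem le_core_step (p : ℕ) [Fact p.Prime] [Finite S] (hS : IsPGroup p S) (F : FusionSystem S)
    (hF : F.IsSaturated p) {A : Subgroup Ω} (hA : F.StronglyClosed A)
    (hAC : A ≤ centralizerIn S F.core) (hAA : ⁅A, A⁆ ≤ F.core) : A ≤ F.core := by
  have hQn : F.IsNormal F.core := isNormal_core F
  have hQsc : F.StronglyClosed F.core := Cfsg.Agent.S5088.stronglyClosed_of_isNormal F hQn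
  set Q := F.core with hQdef
  have hXsc : F.StronglyClosed (Q ⊔ A) := Cfsg.Agent.S5128.result p hS F hF Q A hQsc hA
  have hcent : ∀ a ∈ A, ∀ q ∈ Q, a * q = q * a := by
    intro a ha q hq
    exact (Subgroup.mem_centralizer_iff.1 (hAC ha).2 q hq).symm
  have hnorm : ∀ k ∈ A, ∀ h ∈ Q, k * h * k⁻¹ ∈ Q := by
    intro k hk h hh
    rw [hcent k hk h hh, mul_assoc, mul_inv_cancel, mul_one]
    exact hh
  have hXX : ⁅Q ⊔ A, Q ⊔ A⁆ ≤ Q := commutator_sup_le hcent hAA
  have hQS : Q ≤ S := hQn.1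
  have hfinQ : Finite Q := finite_of_le hQS
  have hQp : IsPGroup p Q := hS.to_le hQS
  have hnil : Group.IsNilpotent Q := hQp.isNilpotent
  obtain ⟨n, hn⟩ := hnil.nilpotent'
  have hmapQ : ∀ k, (Subgroup.upperCentralSeries Q k).map Q.subtype ≤ Q := fun k => Subgroup.map_subtype_le _
  have hXn : F.IsNormal (Q ⊔ A) := by
    refine isNormal_of_chain F hS hF (Q ⊔ A) hXsc (n + 1)
      (fun k => if k ≤ n then (Subgroup.upperCentralSeries Q k).map Q.subtype else Q ⊔ A) ?_ ?_ ?_ ?_ ?_
    · show (if 0 ≤ n then (Subgroup.upperCentralSeries Q 0).map Q.subtype else Q ⊔ A) = ⊥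
      rw [if_pos (Nat.zero_le n), Subgroup.upperCentralSeries_zero, Subgroup.map_bot]
    · intro k hk
      show (if k ≤ n then (Subgroup.upperCentralSeries Q k).map Q.subtype else Q ⊔ A) = Q ⊔ A
      rw [if_neg (by omega)]
    · intro a b hab
      show (if a ≤ n then (Subgroup.upperCentralSeries Q a).map Q.subtype else Q ⊔ A) ≤
        (if b ≤ n then (Subgroup.upperCentralSeries Q b).map Q.subtype else Q ⊔ A)
      by_cases hb : b ≤ n
      · rw [if_pos hb, if_pos (le_trans hab hb)]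
        exact Subgroup.map_mono (Subgroup.upperCentralSeries_mono Q hab)
      · rw [if_neg hb]
        by_cases ha : a ≤ n
        · rw [if_pos ha]
          exact (hmapQ a).trans le_sup_left
        · rw [if_neg ha]
    · intro k hk
      show ⁅(if k + 1 ≤ n then (Subgroup.upperCentralSeries Q (k + 1)).map Q.subtype else Q ⊔ A), Q ⊔ A⁆ ≤
        (if k ≤ n then (Subgroup.upperCentralSeries Q k).map Q.subtype else Q ⊔ A)
      rw [if_pos (by omega : k ≤ n)]
      by_cases hk1 : k + 1 ≤ n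
      · rw [if_pos hk1, Subgroup.commutator_le]
        rintro _ ⟨z, hz, rfl⟩ y hy
        obtain ⟨q, hq, a, ha, rfl⟩ := exists_mul_of_mem_sup hnorm hy
        have hz' : z ∈ Subgroup.upperCentralSeries Q (k + 1) := hz
        rw [Subgroup.mem_upperCentralSeries_succ_iff] at hz'
        show ⁅(z : Ω), q * a⁆ ∈ _
        rw [commutator_mul_of_commute _ _ _ (hcent a ha z z.2)]
        exact ⟨_, hz' ⟨q, hq⟩, rfl⟩
      · rw [if_neg hk1]
        have hkn : k = n := by omega
        rw [hkn, hn, ← MonoidHom.range_eq_map, Subgroup.range_subtype]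
        exact hXX
    · intro k hk
      show F.WeaklyClosed (if k ≤ n then (Subgroup.upperCentralSeries Q k).map Q.subtype else Q ⊔ A)
      rw [if_pos (by omega : k ≤ n)]
      apply Cfsg.Agent.S5088.weaklyClosed_of_stronglyClosed
      apply Cfsg.Agent.S5088.stronglyClosed_of_isNormal
      apply Cfsg.Agent.S5085.result F Q _ hQn (hmapQ k)
      have : ((Subgroup.upperCentralSeries Q k).map Q.subtype).subgroupOf Q = Subgroup.upperCentralSeries Q k :=
        Subgroup.comap_map_eq_self_of_injective (Subgroup.subtype_injective Q) _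
      rw [this]
      infer_instance
  exact le_sup_right.trans (le_core_of_isNormal F hXn)


/-- A solvable saturated fusion system over a finite p-group (solvable: for every subgroup R other than S that is strongly closed in F, the factor system of F modulo R has a nontrivial subgroup normal in it) is constrained. -/
theorem result {Ω : Type*} [Group Ω] {S : Subgroup Ω} [Finite S] (p : ℕ) [Fact p.Prime] (hS : IsPGroup p S) (F : Cfsg.FusionSystem S) (hF : F.IsSaturated p) (h : F.IsSolvableSystem) : F.IsConstrained p := by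
  have hQn : F.IsNormal F.core := isNormal_core F
  have hQsc : F.StronglyClosed F.core := Cfsg.Agent.S5088.stronglyClosed_of_isNormal F hQn
  refine ⟨hF, F.core, hQn, hQn.1, ?_⟩
  intro Q' hconj
  obtain ⟨φ, hφ, hrange⟩ := hconj
  have hwc := Cfsg.Agent.S5088.weaklyClosed_of_stronglyClosed F hQsc
  have hQ' : Q' = F.core := by rw [← hrange]; exact hwc.2 φ hφ
  rw [hQ']
  obtain ⟨n, T, h0, hn, hmono, hsc, hcomm⟩ := (Cfsg.Agent.S5157.result p hS F hF).1 h
  have hC := stronglyClosed_centralizerIn F hQn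
  have hall : ∀ i : Fin (n + 1), centralizerIn S F.core ⊓ T i ≤ F.core := by
    intro i
    induction i using Fin.induction with
    | zero => rw [h0, inf_bot_eq]; exact bot_le
    | succ i ih =>
      apply le_core_step p hS F hF (Cfsg.Agent.S5158.stronglyClosed_inf F hC (hsc i.succ)) inf_le_left
      refine le_trans (le_inf ?_ ?_) ih
      · exact (Subgroup.commutator_mono inf_le_left inf_le_left).trans (commutator_self_le _)
      · exact (Subgroup.commutator_mono inf_le_right inf_le_right).trans (hcomm i)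
  have := hall (Fin.last n)
  rw [hn, inf_of_le_left hC.1] at this
  exact this

end Cfsg.Agent.S5158
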