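import Cfsg.Statements.S5159
import Cfsg.Agent.S5158
import Cfsg.Agent.Lib.Helper86.FusionSolvable

set_option autoImplicit false
open Cfsg

namespace Cfsg.Agent.S5159

open Cfsg.FusionSystem Cfsg.Agent.Lib.Helper87 Cfsg.Agent.Lib.Helper85 Cfsg.Agent.Lib.Helper86
open scoped commutatorElement

variable {Ω : Type*} [Group Ω] {S : Subgroup Ω}

/-- Intersecting a strongly closed subgroup of `F` with `T` gives a strongly closed subgroup of a subsystem over `T`. -/
theorem stronglyClosed_inf_of_sub (F : FusionSystem S) {T : Subgroup Ω} (E : FusionSystem T)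
    (hsub : E.IsSubsystemOf F) {A : Subgroup Ω} (hA : F.StronglyClosed A) : E.StronglyClosed (A ⊓ T) :=
  ⟨inf_le_right, fun P hP φ hφ x =>
    ⟨hA.2 P (hP.trans inf_le_left) φ (hsub P hφ) x, apply_mem_of_mem_Hom E hφ x⟩⟩

theorem forward_E [Finite S] (p : ℕ) [Fact p.Prime] (hS : IsPGroup p S) (F : FusionSystem S)
    (hF : F.IsSaturated p) {T : Subgroup Ω} (E : FusionSystem T) (hE : E.IsNormalIn F p)
    (h : F.IsSolvableSystem) : E.IsSolvableSystem := by
  obtain ⟨⟨hEsat, -, hsub, hTsc, -, -⟩, -⟩ := hE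
  have hTS : T ≤ S := hTsc.1
  obtain ⟨n, Ts, h0, hn, hmono, hsc, hcomm⟩ := (Cfsg.Agent.S5157.result p hS F hF).1 h
  have : Finite T := finite_of_le hTS
  rw [Cfsg.Agent.S5157.result p (hS.to_le hTS) E hEsat]
  refine ⟨n, fun i => Ts i ⊓ T, ?_, ?_, ?_, ?_, ?_⟩
  · show Ts 0 ⊓ T = ⊥
    rw [h0, bot_inf_eq]
  · show Ts (Fin.last n) ⊓ T = T
    rw [hn, inf_of_le_right hTS]
  · intro i j hij
    exact inf_le_inf_right _ (hmono hij)
  · intro i
    exact stronglyClosed_inf_of_sub F E hsub (hsc i)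
  · intro i
    exact le_inf ((Subgroup.commutator_mono inf_le_left inf_le_left).trans (hcomm i))
      ((Subgroup.commutator_mono inf_le_right inf_le_right).trans (Cfsg.Agent.S5158.commutator_self_le T))


section aut

variable {T : Subgroup Ω}

/-- The `Ω`-world image of `U` under `α ∈ Aut(T)`. -/
def mv (α : MulAut T) (U : Subgroup Ω) : Subgroup Ω :=
  (U.subgroupOf T).map (T.subtype.comp α.toMonoidHom)

theorem mv_le (α : MulAut T) (U : Subgroup Ω) : mv α U ≤ T := by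
  rintro _ ⟨t, -, rfl⟩
  exact (α t).2

theorem mem_mv {α : MulAut T} {U : Subgroup Ω} {x : Ω} :
    x ∈ mv α U ↔ ∃ t : T, (t : Ω) ∈ U ∧ ((α t : T) : Ω) = x := by
  constructor
  · rintro ⟨t, ht, rfl⟩
    exact ⟨t, Subgroup.mem_subgroupOf.1 ht, rfl⟩
  · rintro ⟨t, ht, rfl⟩
    exact ⟨t, Subgroup.mem_subgroupOf.2 ht, rfl⟩

theorem card_mv [Finite T] (α : MulAut T) {U : Subgroup Ω} (hU : U ≤ T) : Nat.card (mv α U) = Nat.card U := by
  have hinj : Function.Injective (T.subtype.comp α.toMonoidHom) :=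
    (Subgroup.subtype_injective T).comp α.injective
  have h1 : Nat.card (mv α U) = Nat.card (U.subgroupOf T) :=
    Nat.card_congr ((U.subgroupOf T).equivMapOfInjective _ hinj).symm.toEquiv
  rw [h1]
  exact Nat.card_congr (Subgroup.subgroupOfEquivOfLe hU).toEquiv

/-- Invariance: `α(U)` is strongly closed in `E` for `α ∈ Aut_F(T)`. -/
theorem stronglyClosed_mv (F : FusionSystem S) (E : FusionSystem T)
    (hinv : ∀ (P : Subgroup Ω) (hPT : P ≤ T) (φ : P →* Ω), φ ∈ E.Hom P → ∀ α ∈ F.autGroup T,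
      ∃ χ ∈ E.Hom ((P.subgroupOf T).map (T.subtype.comp α.toMonoidHom)),
        ∀ (x : P) (hφx : φ x ∈ T)
          (hαx : ((α ⟨x, hPT x.2⟩ : T) : Ω) ∈ (P.subgroupOf T).map (T.subtype.comp α.toMonoidHom)),
          χ ⟨(α ⟨x, hPT x.2⟩ : T), hαx⟩ = ((α ⟨φ x, hφx⟩ : T) : Ω))
    {U : Subgroup Ω} (hU : E.StronglyClosed U) {α : MulAut T} (hα : α ∈ F.autGroup T) :
    E.StronglyClosed (mv α U) := by
  refine ⟨mv_le α U, ?_⟩
  intro P hP ψ hψ x
  have hPT : P ≤ T := hP.trans (mv_le α U)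
  obtain ⟨χ, hχ, hχ'⟩ := hinv P hPT ψ hψ α⁻¹ ((F.autGroup T).inv_mem hα)
  have hψx : ψ x ∈ T := apply_mem_of_mem_Hom E hψ x
  have hαx : ((α⁻¹ ⟨x, hPT x.2⟩ : T) : Ω) ∈ (P.subgroupOf T).map (T.subtype.comp (α⁻¹).toMonoidHom) :=
    ⟨⟨x, hPT x.2⟩, Subgroup.mem_subgroupOf.2 x.2, rfl⟩
  have h1 := hχ' x hψx hαx
  have hP'U : (P.subgroupOf T).map (T.subtype.comp (α⁻¹).toMonoidHom) ≤ U := by
    rintro _ ⟨t, ht, rfl⟩
    have ht' : (t : Ω) ∈ mv α U := hP (Subgroup.mem_subgroupOf.1 ht)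
    obtain ⟨u, hu, hut⟩ := mem_mv.1 ht'
    have : t = α u := Subtype.ext hut.symm
    show ((α⁻¹ t : T) : Ω) ∈ U
    rw [this]
    simpa using hu
  have h2 := hU.2 _ hP'U χ hχ ⟨_, hαx⟩
  rw [h1] at h2
  refine mem_mv.2 ⟨α⁻¹ ⟨ψ x, hψx⟩, h2, ?_⟩
  simp

end aut

/-- Case `T ≰ R`: a strongly closed subgroup of `F` inside `T`, abelian modulo `R`, not inside `R`. -/
theorem exists_of_not_le [Finite S] (p : ℕ) [Fact p.Prime] (hS : IsPGroup p S) (F : FusionSystem S)
    {T : Subgroup Ω} (E : FusionSystem T) (hE : E.IsNormalIn F p)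
    (hEs : E.IsSolvableSystem) {R : Subgroup Ω} (hR : F.StronglyClosed R) (hTR : ¬ T ≤ R) :
    ∃ Q, F.StronglyClosed Q ∧ ⁅Q, Q⁆ ≤ R ∧ ¬ Q ≤ R := by
  obtain ⟨⟨hEsat, -, hsub, hTsc, hinv, hfrat⟩, -⟩ := hE
  have hTS : T ≤ S := hTsc.1
  have hfinT : Finite T := finite_of_le hTS
  have hTp : IsPGroup p T := hS.to_le hTS
  set R₀ := R ⊓ T with hR₀def
  have hR₀E : E.StronglyClosed R₀ := stronglyClosed_inf_of_sub F E hsub hR
  have hR₀F : F.StronglyClosed R₀ := Cfsg.Agent.S5158.stronglyClosed_inf F hR hTsc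
  have hR₀T : R₀ ≠ T := fun h => hTR (h ▸ inf_le_left)
  have hn : (R₀.subgroupOf T).Normal := Cfsg.Agent.S5157.normal_of_stronglyClosed E hR₀E
  obtain ⟨E₀, hE₀⟩ := Cfsg.Agent.S5132.result p hTp E R₀ hR₀E
  have hcore : E₀.core ≠ ⊥ := hEs R₀ hR₀E hR₀T E₀ hE₀
  have hp' : IsPGroup p (⊤ : Subgroup (T ⧸ R₀.subgroupOf T)) := (hTp.to_quotient _).to_subgroup _
  obtain ⟨Z, hZne, hZc, hZ⟩ := Cfsg.Agent.S5157.exists_abelian_of_core_ne_bot p hp' E₀ hcore
  obtain ⟨U₀, hU₀sc, hU₀le, hU₀ne, hU₀c⟩ :=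
    Cfsg.Agent.S5157.exists_step_up p hTp E hEsat hR₀E _ E₀ hE₀ hZne hZc hZ
  -- a minimal good subgroup
  let Good : Subgroup Ω → Prop := fun X => E.StronglyClosed X ∧ R₀ ≤ X ∧ ⁅X, X⁆ ≤ R₀
  have hex : ∃ k, ∃ X, Good X ∧ X ≠ R₀ ∧ Nat.card X = k :=
    ⟨_, U₀, ⟨hU₀sc, hU₀le, hU₀c⟩, hU₀ne.symm, rfl⟩
  classical
  obtain ⟨U, hUgood, hUne, hUcard⟩ := Nat.find_spec hex
  have hmin : ∀ X, Good X → X ≠ R₀ → Nat.card U ≤ Nat.card X := fun X hX hXne => by
    rw [hUcard]; exact Nat.find_min' hex ⟨X, hX, hXne, rfl⟩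
  have hUT : U ≤ T := hUgood.1.1
  have hgood_mv : ∀ α ∈ F.autGroup T, Good (mv α U) := by
    intro α hα
    refine ⟨stronglyClosed_mv F E hinv hUgood.1 hα, ?_, ?_⟩
    · intro r hr
      have hrT : r ∈ T := inf_le_right (a := R) hr
      have h1 := StronglyClosed_aut_mem hR₀F hTS ((F.autGroup T).inv_mem hα) (r := ⟨r, hrT⟩) hr
      exact mem_mv.2 ⟨α⁻¹ ⟨r, hrT⟩, hUgood.2.1 h1, by simp⟩
    · rw [Subgroup.commutator_le]
      intro x hx y hy
      obtain ⟨u, hu, rfl⟩ := mem_mv.1 hx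
      obtain ⟨v, hv, rfl⟩ := mem_mv.1 hy
      have h1 : ((⁅u, v⁆ : T) : Ω) ∈ R₀ := hUgood.2.2 (Subgroup.commutator_mem_commutator hu hv)
      have h2 := StronglyClosed_aut_mem hR₀F hTS hα (r := ⁅u, v⁆) h1
      rw [map_commutatorElement] at h2
      exact h2
  -- the `T`-world
  let H : ↥(F.autGroup T) → Subgroup T := fun β => (U.subgroupOf T).map (β : MulAut T).toMonoidHom
  have hHmv : ∀ β : ↥(F.autGroup T), (H β).map T.subtype = mv (β : MulAut T) U :=
    fun β => Subgroup.map_map _ _ _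
  have hHnormal : ∀ β : ↥(F.autGroup T), (H β).Normal := by
    intro β
    have h1 := Cfsg.Agent.S5157.normal_of_stronglyClosed E (hgood_mv β β.2).1
    rw [← hHmv β] at h1
    rwa [Subgroup.subgroupOf, Subgroup.comap_map_eq_self_of_injective (Subgroup.subtype_injective T)] at h1
  have hfin_mv : ∀ α : MulAut T, Finite (mv α U) := fun α => finite_of_le ((mv_le α U).trans hTS)
  have hpair : ∀ α β : ↥(F.autGroup T), ⁅H α, H β⁆ ≤ R₀.subgroupOf T := by
    intro α β
    by_cases hab : H α = H β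
    · rw [← hab, Subgroup.commutator_le]
      intro x hx y hy
      show ((⁅x, y⁆ : T) : Ω) ∈ R₀
      apply (hgood_mv α α.2).2.2
      refine Subgroup.commutator_mem_commutator ?_ ?_
      · rw [← hHmv]; exact ⟨x, hx, rfl⟩
      · rw [← hHmv]; exact ⟨y, hy, rfl⟩
    · have := hHnormal α
      have := hHnormal β
      refine (Subgroup.commutator_le_inf _ _).trans ?_
      have hXeq : (H α ⊓ H β).map T.subtype = mv (α : MulAut T) U ⊓ mv (β : MulAut T) U := by
        rw [Subgroup.map_inf _ _ _ (Subgroup.subtype_injective T), hHmv, hHmv]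
      have hXgood : Good ((H α ⊓ H β).map T.subtype) := by
        rw [hXeq]
        exact ⟨Cfsg.Agent.S5158.stronglyClosed_inf E (hgood_mv α α.2).1 (hgood_mv β β.2).1,
          le_inf (hgood_mv α α.2).2.1 (hgood_mv β β.2).2.1,
          (Subgroup.commutator_mono inf_le_left inf_le_left).trans (hgood_mv α α.2).2.2⟩
      by_cases hXR : (H α ⊓ H β).map T.subtype = R₀
      · intro t ht
        show (t : Ω) ∈ R₀
        rw [← hXR]
        exact ⟨t, ht, rfl⟩
      · exfalso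
        have hc := hmin _ hXgood hXR
        have := hfin_mv (α : MulAut T)
        have := hfin_mv (β : MulAut T)
        have h1 : (H α ⊓ H β).map T.subtype = mv (α : MulAut T) U :=
          Subgroup.eq_of_le_of_card_ge (hXeq ▸ inf_le_left) (by rw [card_mv _ hUT]; exact hc)
        have h2 : (H α ⊓ H β).map T.subtype = mv (β : MulAut T) U :=
          Subgroup.eq_of_le_of_card_ge (hXeq ▸ inf_le_right) (by rw [card_mv _ hUT]; exact hc)
        apply hab
        apply Subgroup.map_injective (Subgroup.subtype_injective T)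
        rw [hHmv, hHmv, ← h1, ← h2]
  have hVV : ⁅⨆ β, H β, ⨆ β, H β⁆ ≤ R₀.subgroupOf T := commutator_iSup_le (R₀.subgroupOf T) H hpair
  have hVmv : (⨆ β, H β).map T.subtype = ⨆ β : ↥(F.autGroup T), mv (β : MulAut T) U := by
    rw [Subgroup.map_iSup]
    exact iSup_congr hHmv
  have hVE : E.StronglyClosed ((⨆ β, H β).map T.subtype) := by
    rw [hVmv]
    let _ := Fintype.ofFinite ↥(F.autGroup T)
    rw [← Finset.sup_univ_eq_iSup]
    apply Finset.sup_induction (p := fun X => E.StronglyClosed X)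
    · exact Cfsg.Agent.S5157.stronglyClosed_bot E
    · intro a ha b hb
      exact Cfsg.Agent.S5128.result p hTp E hEsat a b ha hb
    · intro β _
      exact (hgood_mv β β.2).1
  have hVV' : ⁅(⨆ β, H β).map T.subtype, (⨆ β, H β).map T.subtype⁆ ≤ R₀ := by
    rw [← Subgroup.map_commutator]
    rintro _ ⟨t, ht, rfl⟩
    exact hVV ht
  have hmapV : ∀ α ∈ F.autGroup T, (⨆ β, H β).map α.toMonoidHom ≤ ⨆ β, H β := by
    intro α hα
    rw [Subgroup.map_iSup]
    apply iSup_le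
    intro β
    have : (H β).map α.toMonoidHom = H (⟨α, hα⟩ * β) := by
      show ((U.subgroupOf T).map _).map _ = (U.subgroupOf T).map _
      rw [Subgroup.map_map]
      rfl
    rw [this]
    exact le_iSup H _
  have hVF : F.StronglyClosed ((⨆ β, H β).map T.subtype) := by
    refine ⟨hVE.1.trans hTS, ?_⟩
    intro P hP φ hφ x
    have hPT : P ≤ T := hP.trans hVE.1
    obtain ⟨α, hα, φ₀, hφ₀, hcomp⟩ := hfrat P hPT φ hφ
    have h1 : φ₀ x ∈ (⨆ β, H β).map T.subtype := hVE.2 P hP φ₀ hφ₀ x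
    have hT1 : φ₀ x ∈ T := hVE.1 h1
    rw [hcomp x hT1]
    obtain ⟨t, ht, hte⟩ := h1
    have : (⟨φ₀ x, hT1⟩ : T) = t := Subtype.ext hte.symm
    rw [this]
    exact ⟨α t, hmapV α hα ⟨t, ht, rfl⟩, rfl⟩
  have hUV : U ≤ (⨆ β, H β).map T.subtype := by
    intro u hu
    refine ⟨⟨u, hUT hu⟩, ?_, rfl⟩
    apply le_iSup H (1 : ↥(F.autGroup T))
    exact ⟨⟨u, hUT hu⟩, Subgroup.mem_subgroupOf.2 hu, rfl⟩
  refine ⟨_, hVF, hVV'.trans inf_le_left, fun hVR => hUne ?_⟩
  exact le_antisymm (le_inf (hUV.trans hVR) hUT) hUgood.2.1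

section factor

variable {Ω' : Type*} [Group Ω'] {S' : Subgroup Ω'}

theorem finite_of_range [Finite S] (θ : S →* Ω') (hrange : θ.range = S') : Finite S' := by
  rw [← hrange]
  exact Finite.of_surjective θ.rangeRestrict θ.rangeRestrict_surjective

theorem isPGroup_of_range {p : ℕ} (hS : IsPGroup p S) (θ : S →* Ω') (hrange : θ.range = S') : IsPGroup p S' := by
  rw [← hrange]
  exact hS.of_surjective θ.rangeRestrict θ.rangeRestrict_surjective

theorem imageAlong_commutator_le (θ : S →* Ω') {A B : Subgroup Ω} (h : ⁅A, A⁆ ≤ B) :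
    ⁅imageAlong θ A, imageAlong θ A⁆ ≤ imageAlong θ B := by
  show ⁅(A.subgroupOf S).map θ, (A.subgroupOf S).map θ⁆ ≤ (B.subgroupOf S).map θ
  rw [← Subgroup.map_commutator]
  apply Subgroup.map_mono
  rw [Subgroup.commutator_le]
  intro x hx y hy
  rw [Subgroup.mem_subgroupOf] at hx hy ⊢
  exact h (Subgroup.commutator_mem_commutator hx hy)

theorem forward_D [Finite S] (p : ℕ) [Fact p.Prime] (hS : IsPGroup p S) (F : FusionSystem S)
    (hF : F.IsSaturated p) {T : Subgroup Ω} (hTsc : F.StronglyClosed T)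
    (θ : S →* Ω') (D : FusionSystem S') (hD : F.IsFactorSystem T θ D)
    (h : F.IsSolvableSystem) : D.IsSolvableSystem := by
  have hDsat : D.IsSaturated p := isSaturated_of_isFactorSystem hS F hF hTsc θ D hD
  have hrange : θ.range = S' := hD.2.2.1
  have hfin : Finite S' := finite_of_range θ hrange
  have hp' : IsPGroup p S' := isPGroup_of_range hS θ hrange
  obtain ⟨n, Ts, h0, hn, hmono, hsc, hcomm⟩ := (Cfsg.Agent.S5157.result p hS F hF).1 h
  rw [Cfsg.Agent.S5157.result p hp' D hDsat]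
  refine ⟨n, fun i => imageAlong θ (Ts i), ?_, ?_, ?_, ?_, ?_⟩
  · show ((Ts 0).subgroupOf S).map θ = ⊥
    rw [h0, Subgroup.bot_subgroupOf, Subgroup.map_bot]
  · show ((Ts (Fin.last n)).subgroupOf S).map θ = S'
    rw [hn, Subgroup.subgroupOf_self, ← MonoidHom.range_eq_map, hrange]
  · intro i j hij
    exact Subgroup.map_mono (Subgroup.comap_mono (hmono hij))
  · intro i
    exact stronglyClosed_imageAlong p hS F hF hTsc θ D hD (hsc i)
  · intro i
    exact imageAlong_commutator_le θ (hcomm i)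

theorem preimageAlong_commutator_le (θ : S →* Ω') {Z Z₀ : Subgroup Ω'} (h : ⁅Z, Z⁆ ≤ Z₀) :
    ⁅preimageAlong θ Z, preimageAlong θ Z⁆ ≤ preimageAlong θ Z₀ := by
  rw [Subgroup.commutator_le]
  intro x hx y hy
  obtain ⟨hxS, hxZ⟩ := (mem_preimageAlong_iff θ Z x).mp hx
  obtain ⟨hyS, hyZ⟩ := (mem_preimageAlong_iff θ Z y).mp hy
  have hS' : (((⁅(⟨x, hxS⟩ : S), ⟨y, hyS⟩⁆ : S)) : Ω) ∈ preimageAlong θ Z₀ := by
    refine (mem_preimageAlong_iff θ Z₀ _).mpr ⟨(⁅(⟨x, hxS⟩ : S), ⟨y, hyS⟩⁆ : S).2, ?_⟩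
    have : θ ⁅(⟨x, hxS⟩ : S), ⟨y, hyS⟩⁆ ∈ Z₀ := by
      rw [map_commutatorElement]
      exact h (Subgroup.commutator_mem_commutator hxZ hyZ)
    exact this
  exact hS'

/-- Case `T ≤ R`: use the chain of the factor system. -/
theorem exists_of_le [Finite S] (p : ℕ) [Fact p.Prime] (hS : IsPGroup p S) (F : FusionSystem S)
    (hF : F.IsSaturated p) {T : Subgroup Ω} (hTsc : F.StronglyClosed T)
    (θ : S →* Ω') (D : FusionSystem S') (hD : F.IsFactorSystem T θ D) (hDs : D.IsSolvableSystem)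
    {R : Subgroup Ω} (hR : F.StronglyClosed R) (hRS : R ≠ S) (hTR : T ≤ R) :
    ∃ Q, F.StronglyClosed Q ∧ ⁅Q, Q⁆ ≤ R ∧ ¬ Q ≤ R := by
  have hDsat : D.IsSaturated p := isSaturated_of_isFactorSystem hS F hF hTsc θ D hD
  have hrange : θ.range = S' := hD.2.2.1
  have hker := hD.2.1
  have hfin : Finite S' := finite_of_range θ hrange
  have hp' : IsPGroup p S' := isPGroup_of_range hS θ hrange
  obtain ⟨n, Us, h0, hn, hmono, hsc, hcomm⟩ := (Cfsg.Agent.S5157.result p hp' D hDsat).1 hDs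
  by_contra hcon
  push Not at hcon
  have hall : ∀ i : Fin (n + 1), preimageAlong θ (Us i) ≤ R := by
    intro i
    induction i using Fin.induction with
    | zero =>
      rw [h0]
      intro x hx
      obtain ⟨hxS, hx1⟩ := (mem_preimageAlong_iff θ ⊥ x).mp hx
      exact hTR ((hker ⟨x, hxS⟩).1 (Subgroup.mem_bot.1 hx1))
    | succ i ih =>
      exact hcon _ (stronglyClosed_preimageAlong p hS F hF hTsc θ D hD (hsc i.succ))
        ((preimageAlong_commutator_le θ (hcomm i)).trans ih)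
  apply hRS
  apply le_antisymm hR.1
  refine le_trans ?_ (hall (Fin.last n))
  intro x hx
  rw [hn]
  refine (mem_preimageAlong_iff θ S' x).mpr ⟨hx, ?_⟩
  rw [← hrange]
  exact ⟨⟨x, hx⟩, rfl⟩

theorem backward [Finite S] (p : ℕ) [Fact p.Prime] (hS : IsPGroup p S) (F : FusionSystem S)
    (hF : F.IsSaturated p) {T : Subgroup Ω} (E : FusionSystem T) (hE : E.IsNormalIn F p)
    (θ : S →* Ω') (D : FusionSystem S') (hD : F.IsFactorSystem T θ D)
    (hEs : E.IsSolvableSystem) (hDs : D.IsSolvableSystem) : F.IsSolvableSystem := by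
  intro R hR hRS hnorm E' hE'
  have hE'sat : E'.IsSaturated p := isSaturated_of_isFactorSystem hS F hF hR _ E' hE'
  have hp' : IsPGroup p (⊤ : Subgroup (S ⧸ R.subgroupOf S)) :=
    (hS.to_quotient (R.subgroupOf S)).to_subgroup _
  have hTsc : F.StronglyClosed T := hE.1.2.2.2.1
  have hex : ∃ Q, F.StronglyClosed Q ∧ ⁅Q, Q⁆ ≤ R ∧ ¬ Q ≤ R := by
    by_cases hTR : T ≤ R
    · exact exists_of_le p hS F hF hTsc θ D hD hDs hR hRS hTR
    · exact exists_of_not_le p hS F E hE hEs hR hTR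
  obtain ⟨Q, hQ, hQQ, hQR⟩ := hex
  exact Cfsg.Agent.S5157.core_ne_bot_of_step p hS F hF hR _ E' hE' hp' hE'sat hQ hQQ hQR

end factor


/-- Let F be a saturated fusion system over a finite p-group S, E a normal subsystem over T, and D the factor system of F modulo T (read through any homomorphism on S with kernel T). Then F is solvable if and only if E and D are solvable (solvable, for a system over a subgroup S: for every subgroup R other than S that is strongly closed in F, the factor system of F modulo R has a nontrivial subgroup normal in it). -/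
theorem result {Ω : Type*} [Group Ω] {S : Subgroup Ω} [Finite S] (p : ℕ) [Fact p.Prime] (hS : IsPGroup p S) (F : Cfsg.FusionSystem S) (hF : F.IsSaturated p) {T : Subgroup Ω} (E : Cfsg.FusionSystem T) (hE : E.IsNormalIn F p) {Ω' : Type*} [Group Ω'] {S' : Subgroup Ω'} (θ : S →* Ω') (D : Cfsg.FusionSystem S') (hD : F.IsFactorSystem T θ D) : F.IsSolvableSystem ↔ (E.IsSolvableSystem ∧ D.IsSolvableSystem) := by
  have hTsc : F.StronglyClosed T := hE.1.2.2.2.1
  exact ⟨fun h => ⟨forward_E p hS F hF E hE h, forward_D p hS F hF hTsc θ D hD h⟩,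
    fun h => backward p hS F hF E hE θ D hD h.1 h.2⟩

end Cfsg.Agent.S5159
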