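import Cfsg.Statements.S5160
import Cfsg.Agent.Lib.Helper85.FusionRealized
import Cfsg.Agent.Lib.Helper87.FusionFully
import Cfsg.Agent.Lib.Helper88.FusionInvariance
import Cfsg.Agent.Lib.Helper88.FusionCentricExt

set_option autoImplicit false
open Cfsg

namespace Cfsg.Agent.S5160

open Cfsg.FusionSystem
open Cfsg.Agent.Lib.Helper87 Cfsg.Agent.Lib.Helper88

section aux
variable {Ω : Type*} [Group Ω] {S : Subgroup Ω}

/-- For `E` strongly invariant in `F` (both over `S`) and `R` fully automized in `F`, every element of `Aut_F(R)` of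
`p`-power order lies in `Aut_E(R)`. -/
theorem pElement_mem_autGroup (E F : FusionSystem S) [Finite S] {p : ℕ} [Fact p.Prime]
    (hSI : Invariance.SIProp E F) {R : Subgroup Ω} (hRa : F.IsFullyAutomized p R)
    {γ : MulAut R} (hγ : γ ∈ F.autGroup R) {k : ℕ} (hk : γ ^ p ^ k = 1) : γ ∈ E.autGroup R := by
  obtain ⟨hRS, TR, hTR⟩ := hRa
  have : Finite R := finite_of_le hRS
  let γ' : F.autGroup R := ⟨γ, hγ⟩
  have hγ'k : γ' ^ p ^ k = 1 := Subtype.ext hk
  have hH : IsPGroup p (Subgroup.zpowers γ') := by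
    rintro ⟨x, hx⟩
    obtain ⟨n, rfl⟩ := Subgroup.mem_zpowers_iff.1 hx
    refine ⟨k, Subtype.ext ?_⟩
    show (γ' ^ n) ^ p ^ k = 1
    rw [← zpow_natCast, ← zpow_mul, mul_comm, zpow_mul, zpow_natCast, hγ'k, one_zpow]
  obtain ⟨c, hc⟩ := exists_conj_mem_sylow TR hH
  have h1 : c * γ' * c⁻¹ ∈ (TR : Subgroup (F.autGroup R)) := hc γ' (Subgroup.mem_zpowers γ')
  rw [hTR, Subgroup.mem_subgroupOf] at h1
  have h2 : ((c * γ' * c⁻¹ : F.autGroup R) : MulAut R) ∈ E.autGroup R :=
    Cfsg.Agent.Lib.Helper87.autInducedBy_le_autGroup E hRS h1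
  have h3 := Invariance.autE_conj_mem E F le_rfl hSI hRS h2 (c⁻¹).2
  have h4 : ((c⁻¹ : F.autGroup R) : MulAut R) * ((c * γ' * c⁻¹ : F.autGroup R) : MulAut R) *
      ((c⁻¹ : F.autGroup R) : MulAut R)⁻¹ = γ := by
    have : c⁻¹ * (c * γ' * c⁻¹) * (c⁻¹)⁻¹ = γ' := by group
    have := congrArg (fun z : F.autGroup R => (z : MulAut R)) this
    simpa using this
  rw [h4] at h3
  exact h3

end aux

/-- Let G be a finite group with nontrivial Sylow p-subgroup S and F its fusion system on S. Suppose (a) no nontrivial proper subgroup of S is strongly closed in F, and (b) the automorphisms of S induced by G are generated by those induced, for R running over the fully normalized radical centric subgroups of F, by the subgroup of N_G(R) generated by its elements of p-power order. Then F is simple. -/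
theorem result {G : Type*} [Group G] [Finite G] (p : ℕ) [Fact p.Prime] (S : Sylow p G) (hS1 : (S : Subgroup G) ≠ ⊥) (ha : ∀ T : Subgroup G, (Cfsg.groupFusionSystem (S : Subgroup G)).StronglyClosed T → T = ⊥ ∨ T = (S : Subgroup G)) (hb : Cfsg.autInducedBy ⊤ (S : Subgroup G) = ⨆ (R : Subgroup G) (_ : (Cfsg.groupFusionSystem (S : Subgroup G)).IsFullyNormalized R ∧ (Cfsg.groupFusionSystem (S : Subgroup G)).IsRadical p R ∧ (Cfsg.groupFusionSystem (S : Subgroup G)).IsCentric R), Cfsg.autInducedBy (Subgroup.closure {g : G | g ∈ Subgroup.normalizer (R : Set G) ∧ ∃ k : ℕ, orderOf g = p ^ k}) (S : Subgroup G)) : (Cfsg.groupFusionSystem (S : Subgroup G)).IsSimple p := by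
  have hS : IsPGroup p (S : Subgroup G) := S.isPGroup'
  have hF : (Cfsg.groupFusionSystem (S : Subgroup G)).IsSaturated p :=
    Cfsg.Agent.Lib.Helper85.groupFusionSystem_isSaturated S
  refine ⟨hF, hS1, ?_⟩
  intro T E hE
  obtain ⟨⟨hEsat, -, hEinv⟩, -⟩ := hE
  have hTsc : (Cfsg.groupFusionSystem (S : Subgroup G)).StronglyClosed T := hEinv.2.1
  rcases ha T hTsc with h | h
  · exact Or.inl h
  · right
    subst h
    refine ⟨rfl, fun P => ?_⟩
    have hEF : E.IsSubsystemOf (Cfsg.groupFusionSystem (S : Subgroup G)) := hEinv.1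
    have hSI : Invariance.SIProp E (Cfsg.groupFusionSystem (S : Subgroup G)) :=
      (Invariance.invariant_iff_strong p hS _ hF E hEF hTsc).1 hEinv
    have hfrat := hEinv.2.2.2
    -- Aut_F(S) ≤ Aut_E(S)
    have hkey : (Cfsg.groupFusionSystem (S : Subgroup G)).autGroup (S : Subgroup G) ≤
        E.autGroup (S : Subgroup G) := by
      have h1 : (Cfsg.groupFusionSystem (S : Subgroup G)).autGroup (S : Subgroup G) ≤
          Cfsg.autInducedBy ⊤ (S : Subgroup G) := by
        intro α hα
        have h2 := (Cfsg.Agent.Lib.Helper87.mem_autGroup_iff _ le_rfl).1 hα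
        obtain ⟨-, -, g, hg⟩ := h2
        exact mem_autInducedBy_iff.2 ⟨g, Subgroup.mem_top g, fun x => hg x⟩
      refine h1.trans ?_
      rw [hb]
      refine iSup_le fun R => iSup_le fun hR => ?_
      obtain ⟨hRfn, -, hRc⟩ := hR
      have hRS : R ≤ (S : Subgroup G) := hRc.1
      have hRa := (fullyAutomized_receptive_of_fullyNormalized _ hS hF hRfn).1
      -- every element of K_R induces an element of Aut_E(R)
      have hsub : ∀ g ∈ Subgroup.closure {g : G | g ∈ Subgroup.normalizer (R : Set G) ∧ ∃ k : ℕ, orderOf g = p ^ k},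
          ∃ β ∈ E.autGroup R, ∀ x : R, ((β x : R) : G) = g * (x : G) * g⁻¹ := by
        intro g hg
        induction hg using Subgroup.closure_induction with
        | mem g hg =>
          obtain ⟨hgN, k, hk⟩ := hg
          refine ⟨conjAut R g hgN, ?_, fun x => rfl⟩
          have hγF : conjAut R g hgN ∈ (Cfsg.groupFusionSystem (S : Subgroup G)).autGroup R := by
            rw [Cfsg.Agent.Lib.Helper87.mem_autGroup_iff _ hRS]
            exact ⟨hRS, fun x => hRS (conjAut R g hgN x).2, g, fun x => rfl⟩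
          have hpow : conjAut R g hgN ^ p ^ k = 1 := by
            ext x
            rw [conj_pow_apply (g := g) (fun y => rfl), ← hk, pow_orderOf_eq_one]
            simp
          exact pElement_mem_autGroup E _ hSI hRa hγF hpow
        | one => exact ⟨1, Subgroup.one_mem _, fun x => by simp⟩
        | mul a b _ _ iha ihb =>
          obtain ⟨β₁, hβ₁, h₁⟩ := iha
          obtain ⟨β₂, hβ₂, h₂⟩ := ihb
          refine ⟨β₁ * β₂, Subgroup.mul_mem _ hβ₁ hβ₂, fun x => ?_⟩
          rw [MulAut.mul_apply, h₁, h₂]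
          simp [mul_assoc]
        | inv a _ iha =>
          obtain ⟨β₁, hβ₁, h₁⟩ := iha
          refine ⟨β₁⁻¹, Subgroup.inv_mem _ hβ₁, fun x => ?_⟩
          have := h₁ (β₁⁻¹ x)
          rw [MulAut.apply_inv_self] at this
          rw [this]
          simp [mul_assoc]
      intro α hα
      obtain ⟨g, hg, hgα⟩ := mem_autInducedBy_iff.1 hα
      obtain ⟨β, hβ, hβg⟩ := hsub g hg
      rw [Cfsg.Agent.Lib.Helper87.mem_autGroup_iff E le_rfl]
      have hψF : (S : Subgroup G).subtype.comp (α : (S : Subgroup G) ≃* (S : Subgroup G)).toMonoidHom ∈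
          (Cfsg.groupFusionSystem (S : Subgroup G)).Hom (S : Subgroup G) :=
        ⟨le_rfl, fun x => (α x).2, g, fun x => hgα x⟩
      refine mem_of_restrict_centric_mem _ E hS hF hEsat hEF hRS hRc hψF ?_
      have hβE := (Cfsg.Agent.Lib.Helper87.mem_autGroup_iff E hRS).1 hβ
      refine hom_of_eq_on E rfl hβE (fun x hx _ => ?_)
      show ((α ⟨x, hRS hx⟩ : (S : Subgroup G)) : G) = ((β ⟨x, hx⟩ : R) : G)
      rw [hgα, hβg]
    apply Set.Subset.antisymm (hEF P)
    intro φ hφ
    have hPS : P ≤ (S : Subgroup G) := hom_le _ hφ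
    obtain ⟨α, hα, φ₀, hφ₀, hφeq⟩ := hfrat P hPS φ hφ
    have hαE := (Cfsg.Agent.Lib.Helper87.mem_autGroup_iff E le_rfl).1 (hkey hα)
    exact comp_mem' E hφ₀ hαE (fun x => hom_map_mem E hφ₀ x) (fun x => hφeq x _)

end Cfsg.Agent.S5160
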