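import Cfsg.Statements.S5163
import Cfsg.Agent.Lib.Helper86.PSLUnitriE

set_option autoImplicit false
open Cfsg

namespace Cfsg.Agent.S5163

/-- For a finite field K of characteristic p and n ≥ 3, the p-fusion system of the projective special linear group PSL_n(K) on a Sylow p-subgroup is simple. -/
theorem result {K : Type*} [Field K] [Fintype K] (p : ℕ) [Fact p.Prime] [CharP K p] (n : ℕ) (hn : 3 ≤ n) (S : Sylow p (Matrix.ProjectiveSpecialLinearGroup (Fin n) K)) : (Cfsg.groupFusionSystem (S : Subgroup (Matrix.ProjectiveSpecialLinearGroup (Fin n) K))).IsSimple p := by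
  obtain ⟨m, rfl⟩ : ∃ m, n = m + 1 := ⟨n - 1, by omega⟩
  have hm : 2 ≤ m := by omega
  obtain ⟨f, -, hF⟩ := FiniteField.card K p
  have hP : IsPGroup p (Cfsg.Agent.Lib.Helper45.PSLAut.UBar m K) :=
    Cfsg.Agent.Lib.Helper86.PSLFus.isPGroup_UBar
  have hidx : ¬ p ∣ (Cfsg.Agent.Lib.Helper45.PSLAut.UBar m K).index := fun h =>
    Cfsg.Agent.Lib.Helper45.PSLAut.not_dvd_index_UU (n := m + 1) hF f.pos
      (h.trans (Subgroup.index_map_dvd _ (QuotientGroup.mk'_surjective _)))
  let S₀ : Sylow p (Matrix.ProjectiveSpecialLinearGroup (Fin (m + 1)) K) := hP.toSylow hidx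
  obtain ⟨g, hg⟩ := MulAction.exists_smul_eq (Matrix.ProjectiveSpecialLinearGroup (Fin (m + 1)) K) S₀ S
  apply Cfsg.Agent.Lib.Helper86.FusSimple.isSimple_of_simpleData
  have h1 : (S : Subgroup (Matrix.ProjectiveSpecialLinearGroup (Fin (m + 1)) K)) =
      (Cfsg.Agent.Lib.Helper45.PSLAut.UBar m K).map (MulAut.conj g).toMonoidHom := by
    rw [← hg]
    rfl
  rw [h1]
  exact (Cfsg.Agent.Lib.Helper86.PSLFus.simpleData_UBar hm).map (MulAut.conj g)

end Cfsg.Agent.S5163
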