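import Mathlib
import Cfsg.Statements.S5164
-- import your own Cfsg.Agent.* helpers here

set_option autoImplicit false
open Cfsg

namespace Cfsg.Agent.S5164

open scoped commutatorElement

/-- A finite `p`-group acting faithfully on a set with fewer than `p ^ 2` points is commutative. -/
theorem comm_of_faithful_of_card_lt {G X : Type*} [Group G] [Finite G] [MulAction G X] [FaithfulSMul G X]
    [Finite X] {p : ℕ} [hp : Fact p.Prime] (hG : IsPGroup p G) (hX : Nat.card X < p ^ 2) (a b : G) :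
    a * b = b * a := by
  have key : ∀ x : X, commutator G ≤ MulAction.stabilizer G x := by
    intro x
    set H := MulAction.stabilizer G x with hH
    obtain ⟨k, hk⟩ := hG.index H
    have hle : H.index ≤ Nat.card X := by
      rw [hH, MulAction.index_stabilizer, ← Set.ncard_univ]
      exact Set.ncard_le_ncard (Set.subset_univ _) Set.finite_univ
    have hk1 : k < 2 := by
      have : p ^ k < p ^ 2 := by rw [← hk]; exact lt_of_le_of_lt hle hX
      exact (Nat.pow_lt_pow_iff_right hp.out.one_lt).mp this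
    interval_cases k
    · -- index 1
      rw [pow_zero] at hk
      rw [Subgroup.index_eq_one.mp hk]
      exact le_top
    · -- index p
      rw [pow_one] at hk
      obtain ⟨m, hm⟩ := IsPGroup.iff_card.mp hG
      have hm0 : m ≠ 0 := by
        rintro rfl
        have h1 : H.index ∣ Nat.card G := Subgroup.index_dvd_card H
        rw [hk, hm, pow_zero] at h1
        exact hp.out.one_lt.ne' (Nat.dvd_one.mp h1)
      have hnorm : H.Normal := by
        apply Subgroup.normal_of_index_eq_minFac_card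
        rw [hk, hm, Nat.pow_minFac hm0, hp.out.minFac_eq]
      have hcard : Nat.card (G ⧸ H) = p := by
        rw [← hk]; rfl
      have hcyc : IsCyclic (G ⧸ H) := isCyclic_of_prime_card hcard
      let _ : CommGroup (G ⧸ H) := IsCyclic.commGroup
      have := Abelianization.commutator_subset_ker (QuotientGroup.mk' H)
      rwa [QuotientGroup.ker_mk'] at this
  have h1 : ⁅a, b⁆ = 1 := by
    have hmem : ⁅a, b⁆ ∈ commutator G := Subgroup.commutator_mem_commutator (Subgroup.mem_top a) (Subgroup.mem_top b)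
    apply FaithfulSMul.eq_of_smul_eq_smul (α := X)
    intro x
    rw [one_smul]
    exact MulAction.mem_stabilizer_iff.mp (key x hmem)
  exact (commutatorElement_eq_one_iff_mul_comm.mp h1)





/-- cyclic subgroup generated by an element of `p`-power order is a `p`-group -/
theorem isPGroup_zpowers {G : Type*} [Group G] {p : ℕ} (g : G) (a : ℕ) (hg : g ^ (p ^ a) = 1) :
    IsPGroup p (Subgroup.zpowers g) := by
  rintro ⟨h, hh⟩
  obtain ⟨k, rfl⟩ := Subgroup.mem_zpowers_iff.mp hh
  refine ⟨a, Subtype.ext ?_⟩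
  show (g ^ k) ^ (p ^ a) = 1
  rw [← zpow_natCast, ← zpow_mul, mul_comm, zpow_mul, zpow_natCast, hg, one_zpow]

/-- two elements of `p`-power order, one normalizing the cyclic group of the other, generate a `p`-group. -/
theorem isPGroup_sup_zpowers {G : Type*} [Group G] [Finite G] {p : ℕ} [Fact p.Prime] (t m : G) (a b : ℕ)
    (ht : t ^ (p ^ a) = 1) (hm : m ^ (p ^ b) = 1) (hmt : m * t * m⁻¹ ∈ Subgroup.zpowers t) :
    IsPGroup p (Subgroup.zpowers m ⊔ Subgroup.zpowers t : Subgroup G) := by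
  refine IsPGroup.to_sup_of_normal_right' (isPGroup_zpowers m b hm) (isPGroup_zpowers t a ht) ?_
  rw [Subgroup.zpowers_le]
  apply Subgroup.mem_normalizer_fintype
  intro n hn
  obtain ⟨k, rfl⟩ := Subgroup.mem_zpowers_iff.mp hn
  have : m * t ^ k * m⁻¹ = (m * t * m⁻¹) ^ k := by
    rw [conj_zpow]
  rw [this]
  exact Subgroup.zpow_mem _ hmt k



open scoped Pointwise in
/-- If `A` has a `p`-subgroup containing two non-commuting elements, no Sylow `p`-subgroup of `A` is commutative. -/
theorem not_comm_sylow {A : Type*} [Group A] [Finite A] {p : ℕ} [Fact p.Prime] (H : Subgroup A)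
    (hH : IsPGroup p H) (x y : A) (hx : x ∈ H) (hy : y ∈ H) (hxy : x * y ≠ y * x) (S : Sylow p A) :
    ¬ IsMulCommutative S := by
  intro hS
  obtain ⟨R, hR⟩ := hH.exists_le_sylow
  obtain ⟨g, hg⟩ := MulAction.exists_smul_eq A R S
  have mem : ∀ z ∈ H, g * z * g⁻¹ ∈ (S : Subgroup A) := by
    intro z hz
    have h2 : g * z * g⁻¹ ∈ ((g • R : Sylow p A) : Subgroup A) := by
      rw [Sylow.coe_subgroup_smul, Subgroup.mem_pointwise_smul_iff_inv_smul_mem]
      simpa [MulAut.smul_def, mul_assoc] using hR hz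
    rwa [hg] at h2
  have hc := hS.is_comm.comm (⟨g * x * g⁻¹, mem x hx⟩ : S) ⟨g * y * g⁻¹, mem y hy⟩
  have hc' : g * x * g⁻¹ * (g * y * g⁻¹) = g * y * g⁻¹ * (g * x * g⁻¹) := congrArg Subtype.val hc
  apply hxy
  have e1 : x * y = g⁻¹ * (g * x * g⁻¹ * (g * y * g⁻¹)) * g := by group
  have e2 : y * x = g⁻¹ * (g * y * g⁻¹ * (g * x * g⁻¹)) * g := by group
  rw [e1, e2, hc']

/-- Transport along an embedding `α ↪ Fin n`: two non-commuting even permutations of `α` generating a `p`-group
prevent the Sylow `p`-subgroups of `A_n` from being commutative. -/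
theorem not_comm_sylow_alt {α : Type*} [Fintype α] [DecidableEq α] {n p : ℕ} [Fact p.Prime]
    (ι : α ↪ Fin n) (t m : Equiv.Perm α) (ht : Equiv.Perm.sign t = 1) (hm : Equiv.Perm.sign m = 1)
    (hP : IsPGroup p (Subgroup.zpowers m ⊔ Subgroup.zpowers t : Subgroup (Equiv.Perm α)))
    (hmt : m * t ≠ t * m) (S : Sylow p (alternatingGroup (Fin n))) : ¬ IsMulCommutative S := by
  classical
  set φ : Equiv.Perm α →* Equiv.Perm (Fin n) := Equiv.Perm.viaEmbeddingHom ι with hφ
  have hφinj : Function.Injective φ := Equiv.Perm.viaEmbeddingHom_injective ι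
  have hsign : ∀ g : Equiv.Perm α, Equiv.Perm.sign (φ g) = Equiv.Perm.sign g := by
    intro g
    exact @Equiv.Perm.sign_extendDomain _ _ _ _ _ _ g _ (fun a => Classical.propDecidable _) (Equiv.ofInjective ι.1 ι.2)
  set H₀ : Subgroup (Equiv.Perm (Fin n)) := (Subgroup.zpowers m ⊔ Subgroup.zpowers t).map φ with hH₀
  have hH₀p : IsPGroup p H₀ := hP.map φ
  have hφt : φ t ∈ alternatingGroup (Fin n) := by
    rw [Equiv.Perm.mem_alternatingGroup, hsign, ht]
  have hφm : φ m ∈ alternatingGroup (Fin n) := by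
    rw [Equiv.Perm.mem_alternatingGroup, hsign, hm]
  set H₁ : Subgroup (alternatingGroup (Fin n)) := H₀.subgroupOf (alternatingGroup (Fin n)) with hH₁
  have hH₁p : IsPGroup p H₁ := hH₀p.comap_subtype
  refine not_comm_sylow H₁ hH₁p ⟨φ m, hφm⟩ ⟨φ t, hφt⟩ ?_ ?_ ?_ S
  · rw [hH₁, Subgroup.mem_subgroupOf]
    exact Subgroup.mem_map_of_mem φ (Subgroup.mem_sup_left (Subgroup.mem_zpowers m))
  · rw [hH₁, Subgroup.mem_subgroupOf]
    exact Subgroup.mem_map_of_mem φ (Subgroup.mem_sup_right (Subgroup.mem_zpowers t))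
  · intro h
    apply hmt
    apply hφinj
    have := congrArg Subtype.val h
    simpa using this



/-- an element of odd prime power order is an even permutation -/
theorem sign_eq_one_of_pow {α : Type*} [Fintype α] [DecidableEq α] {p : ℕ} (hp : Odd p) (g : Equiv.Perm α) (a : ℕ)
    (hg : g ^ (p ^ a) = 1) : Equiv.Perm.sign g = 1 := by
  have h1 : (Equiv.Perm.sign g) ^ (p ^ a) = 1 := by
    rw [← map_pow, hg, map_one]
  rcases Int.units_eq_one_or (Equiv.Perm.sign g) with h | h
  · exact h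
  · rw [h] at h1
    have hodd : Odd (p ^ a) := hp.pow
    rw [hodd.neg_one_pow] at h1
    exact absurd h1 (by decide)

section affine

variable (p : ℕ) [hp : Fact p.Prime]

instance neZeroSq : NeZero (p ^ 2) := ⟨pow_ne_zero 2 hp.out.ne_zero⟩

/-- translation by one on `ZMod (p^2)` -/
def tr : Equiv.Perm (ZMod (p ^ 2)) := Equiv.addRight 1

theorem one_add_p_pow : ((1 : ZMod (p ^ 2)) + (p : ZMod (p ^ 2))) ^ p = 1 := by
  have h := dvd_sub_pow_of_dvd_sub (R := ZMod (p ^ 2)) (p := p) (a := 1 + (p : ZMod (p ^ 2))) (b := 1)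
    (by simp) 1
  have h0 : ((p : ZMod (p ^ 2)) ^ (1 + 1)) = 0 := by
    have : ((p ^ 2 : ℕ) : ZMod (p ^ 2)) = 0 := ZMod.natCast_self _
    rw [← this]; push_cast; ring
  rw [h0, zero_dvd_iff, pow_one, one_pow, sub_eq_zero] at h
  exact h

/-- the unit `1 + p` of `ZMod (p^2)` -/
def uu : (ZMod (p ^ 2))ˣ :=
  ⟨1 + (p : ZMod (p ^ 2)), 1 - (p : ZMod (p ^ 2)), by
    have : ((p ^ 2 : ℕ) : ZMod (p ^ 2)) = 0 := ZMod.natCast_self _
    push_cast at this
    linear_combination -this, by
    have : ((p ^ 2 : ℕ) : ZMod (p ^ 2)) = 0 := ZMod.natCast_self _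
    push_cast at this
    linear_combination -this⟩

theorem uu_pow : (uu p) ^ p = 1 := by
  apply Units.ext
  rw [Units.val_pow_eq_pow_val]
  exact one_add_p_pow p

/-- multiplication by `1 + p` on `ZMod (p^2)` -/
def mu : Equiv.Perm (ZMod (p ^ 2)) := MulAction.toPermHom (ZMod (p ^ 2))ˣ (ZMod (p ^ 2)) (uu p)

theorem mu_apply (k : ZMod (p ^ 2)) : mu p k = (1 + (p : ZMod (p ^ 2))) * k := rfl

theorem mu_inv_apply (k : ZMod (p ^ 2)) : (mu p)⁻¹ k = (1 - (p : ZMod (p ^ 2))) * k := by
  rw [mu, ← map_inv]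
  rfl

theorem mu_pow : (mu p) ^ (p ^ 1) = 1 := by
  rw [pow_one, mu, ← map_pow, uu_pow, map_one]

theorem tr_pow : (tr p) ^ (p ^ 2) = 1 := by
  rw [tr, Equiv.nsmul_addRight]
  have : (p ^ 2) • (1 : ZMod (p ^ 2)) = 0 := by
    rw [nsmul_eq_mul, mul_one]; exact ZMod.natCast_self _
  rw [this]
  exact Equiv.addRight_zero

theorem mu_tr : mu p * tr p * (mu p)⁻¹ = (tr p) ^ (1 + p) := by
  ext k
  rw [tr, Equiv.nsmul_addRight]
  simp only [Equiv.Perm.coe_mul, Function.comp_apply, Equiv.coe_addRight, mu_apply, mu_inv_apply]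
  have : ((p ^ 2 : ℕ) : ZMod (p ^ 2)) = 0 := ZMod.natCast_self _
  push_cast at this
  congr 1
  rw [nsmul_eq_mul]; push_cast
  linear_combination -(k : ZMod (p^2)) * this

theorem mu_tr_ne : mu p * tr p ≠ tr p * mu p := by
  intro h
  have h0 := congrArg (fun f : Equiv.Perm (ZMod (p ^ 2)) => f 0) h
  simp only [Equiv.Perm.coe_mul, Function.comp_apply, tr, Equiv.coe_addRight, mu_apply, zero_add, mul_zero,
    mul_one] at h0
  have h1 : (p : ZMod (p ^ 2)) = 0 := by linear_combination h0
  rw [ZMod.natCast_eq_zero_iff] at h1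
  have : p ^ 2 ≤ p := Nat.le_of_dvd hp.out.pos h1
  have h2 : p < p ^ 2 := by
    calc p = p ^ 1 := (pow_one p).symm
    _ < p ^ 2 := Nat.pow_lt_pow_right hp.out.one_lt (by norm_num)
  omega

end affine



/-- `(0 1 2 3)(4 5)` -/
def rr : Equiv.Perm (Fin 6) := c[0, 1, 2, 3] * c[4, 5]
/-- `(0 2)(4 5)` -/
def ss : Equiv.Perm (Fin 6) := c[0, 2] * c[4, 5]

theorem rr_pow : rr ^ (2 ^ 2) = 1 := by decide
theorem ss_pow : ss ^ (2 ^ 1) = 1 := by decide
theorem ss_rr : ss * rr * ss⁻¹ = rr ^ (3 : ℤ) := by decide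
theorem ss_rr_ne : ss * rr ≠ rr * ss := by decide
theorem sign_rr : Equiv.Perm.sign rr = 1 := by decide
theorem sign_ss : Equiv.Perm.sign ss = 1 := by decide

/-- For n ≥ 6 and a prime p, a nontrivial Sylow p-subgroup of the alternating group of degree n is abelian if and only if n < p². -/
theorem result (n p : ℕ) (hn : 6 ≤ n) [Fact p.Prime] (S : Sylow p (alternatingGroup (Fin n))) (hS : (S : Subgroup (alternatingGroup (Fin n))) ≠ ⊥) : IsMulCommutative S ↔ n < p ^ 2 := by
  have hp : p.Prime := Fact.out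
  constructor
  · -- a commutative Sylow subgroup forces `n < p ^ 2`
    intro hcomm
    by_contra hlt
    have hle : p ^ 2 ≤ n := not_lt.mp hlt
    rcases hp.eq_two_or_odd' with h2 | hodd
    · subst h2
      refine not_comm_sylow_alt (Fin.castLEEmb hn) rr ss sign_rr sign_ss ?_ ss_rr_ne S hcomm
      refine isPGroup_sup_zpowers rr ss 2 1 rr_pow ss_pow ?_
      rw [ss_rr]
      exact Subgroup.zpow_mem_zpowers rr 3
    · have hcard : Fintype.card (ZMod (p ^ 2)) ≤ Fintype.card (Fin n) := by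
        rw [ZMod.card, Fintype.card_fin]; exact hle
      obtain ⟨ι⟩ := Function.Embedding.nonempty_of_card_le hcard
      refine not_comm_sylow_alt ι (tr p) (mu p) (sign_eq_one_of_pow hodd _ 2 (tr_pow p))
        (sign_eq_one_of_pow hodd _ 1 (mu_pow p)) ?_ (mu_tr_ne p) S hcomm
      refine isPGroup_sup_zpowers (tr p) (mu p) 2 1 (tr_pow p) (mu_pow p) ?_
      rw [mu_tr]
      exact Subgroup.npow_mem_zpowers (tr p) (1 + p)
  · -- `n < p ^ 2` forces commutativity
    intro hlt
    have hfaith : FaithfulSMul (↥(S : Subgroup (alternatingGroup (Fin n)))) (Fin n) := by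
      refine ⟨fun {a b} h => ?_⟩
      apply Subtype.ext
      apply Subtype.ext
      ext x
      have := h x
      exact congrArg Fin.val this
    have hX : Nat.card (Fin n) < p ^ 2 := by rwa [Nat.card_eq_fintype_card, Fintype.card_fin]
    exact ⟨⟨fun a b => comm_of_faithful_of_card_lt S.2 hX a b⟩⟩

end Cfsg.Agent.S5164
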