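import Cfsg.Statements.S5167
import Cfsg.Agent.Lib.Helper61.M12Syl

set_option autoImplicit false
open Cfsg

namespace Cfsg.Agent.S5167

open Cfsg.FusionSystem
open Cfsg.Agent.Lib.Helper98.FusionSelfNorm Cfsg.Agent.Lib.Helper98.FusionCyclicQuot
open Cfsg.Agent.Lib.Helper61.M12Syl
open Cfsg.Agent.Lib.Helper7 Cfsg.Agent.S5522

section transport

variable {Γ : Type*} [Group Γ]

/-- A conjugate of a self-normalizing subgroup is self-normalizing. -/
theorem normalizer_map_conj (S₀ : Subgroup Γ) (c : Γ)
    (h : Subgroup.normalizer (S₀ : Set Γ) = S₀) :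
    Subgroup.normalizer ((S₀.map (MulAut.conj c).toMonoidHom : Subgroup Γ) : Set Γ) =
      S₀.map (MulAut.conj c).toMonoidHom := by
  rw [← Subgroup.map_equiv_normalizer_eq, h]

/-- Fusion-closed subgroups of a conjugate. -/
theorem fusClosed_transport (S₀ : Subgroup Γ) (c : Γ)
    (h : ∀ T : Subgroup Γ, T ≤ S₀ → FusClosed T S₀ → T ≠ ⊥ → T = S₀)
    (T : Subgroup Γ) (hTS : T ≤ S₀.map (MulAut.conj c).toMonoidHom)
    (hT : FusClosed T (S₀.map (MulAut.conj c).toMonoidHom)) (hne : T ≠ ⊥) :
    T = S₀.map (MulAut.conj c).toMonoidHom := by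
  have h1 : T.comap (MulAut.conj c).toMonoidHom ≤ S₀ := by
    intro x hx
    obtain ⟨y, hy, hyx⟩ := hTS hx
    have := (MulAut.conj c).injective hyx
    rwa [← this]
  have h2 : FusClosed (T.comap (MulAut.conj c).toMonoidHom) S₀ := by
    intro m hm g hg
    show (MulAut.conj c) (g * m * g⁻¹) ∈ T
    have e : (MulAut.conj c) (g * m * g⁻¹) =
        (MulAut.conj c) g * (MulAut.conj c) m * ((MulAut.conj c) g)⁻¹ := by
      rw [map_mul, map_mul, map_inv]
    rw [e]
    have hm' : (MulAut.conj c) m ∈ T := hm
    refine hT _ hm' _ ?_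
    rw [← e]
    exact Subgroup.mem_map_of_mem (MulAut.conj c).toMonoidHom hg
  have h3 : T.comap (MulAut.conj c).toMonoidHom ≠ ⊥ := by
    intro hbot
    apply hne
    rw [eq_bot_iff]
    intro t ht
    have hmem : (MulAut.conj c).symm t ∈ T.comap (MulAut.conj c).toMonoidHom := by
      show (MulAut.conj c) ((MulAut.conj c).symm t) ∈ T
      rw [MulEquiv.apply_symm_apply]
      exact ht
    rw [hbot, Subgroup.mem_bot] at hmem
    rw [Subgroup.mem_bot]
    have := congrArg (MulAut.conj c) hmem
    rwa [MulEquiv.apply_symm_apply, map_one] at this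
  have h4 := h _ h1 h2 h3
  rw [← h4, Subgroup.map_comap_eq_self_of_surjective (MulAut.conj c).surjective]

end transport

theorem factorization_95040 : (95040 : ℕ).factorization 2 = 6 := by
  have h : (95040 : ℕ) = 2 ^ 6 * 1485 := by norm_num
  rw [h, Nat.factorization_mul (by norm_num) (by norm_num),
    Nat.Prime.factorization_pow Nat.prime_two]
  simp [Nat.factorization_eq_zero_of_not_dvd (show ¬ 2 ∣ 1485 by norm_num)]

/-- The 2-fusion system of the stabilizer of the dodecad of squares is simple. -/
theorem main (S : Sylow 2 G) : (groupFusionSystem (S : Subgroup G)).IsSimple 2 := by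
  have hcardG : Nat.card G = 95040 := card_stabM24_dodecad dsq_mem_dodecads
  have hfin : Finite G := Nat.finite_of_card_ne_zero (by rw [hcardG]; norm_num)
  let P0 : Sylow 2 G := Sylow.ofCard S0 (by rw [card_S0, hcardG, factorization_95040]; norm_num)
  obtain ⟨c, hc⟩ := MulAction.exists_smul_eq G P0 S
  have hS : (S : Subgroup G) = S0.map (MulAut.conj c).toMonoidHom := by
    rw [← hc]
    rfl
  have hN : Subgroup.normalizer ((S : Subgroup G) : Set G) = (S : Subgroup G) := by
    rw [hS]
    exact normalizer_map_conj S0 c normalizer_eq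
  have hSp : IsPGroup 2 (S : Subgroup G) := S.isPGroup'
  have hS1 : (S : Subgroup G) ≠ ⊥ := by
    intro h
    have hmem : (MulAut.conj c) z ∈ (S : Subgroup G) := by
      rw [hS]
      exact Subgroup.mem_map_of_mem _ z_mem
    rw [h, Subgroup.mem_bot] at hmem
    apply z_ne_one
    have := congrArg (MulAut.conj c).symm hmem
    rwa [MulEquiv.symm_apply_apply, map_one] at this
  apply Cfsg.Agent.S5160.result 2 S hS1
  · intro T hT
    by_cases hTbot : T = ⊥
    · exact Or.inl hTbot
    right
    have hfc := fusClosed_of_stronglyClosed hT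
    have hTS : T ≤ (S : Subgroup G) := hT.1
    rw [hS] at hfc hTS ⊢
    exact fusClosed_transport S0 c eq_of_fusClosed T hTS hfc hTbot
  · apply le_antisymm
    · rw [autInducedBy_top_eq_of_selfNormalizing hN]
      refine le_trans ?_ (le_iSup₂ (f := fun (R : Subgroup G)
        (_ : (groupFusionSystem (S : Subgroup G)).IsFullyNormalized R ∧
          (groupFusionSystem (S : Subgroup G)).IsRadical 2 R ∧
          (groupFusionSystem (S : Subgroup G)).IsCentric R) =>
        autInducedBy (Subgroup.closure {g : G | g ∈ Subgroup.normalizer (R : Set G) ∧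
          ∃ k : ℕ, orderOf g = 2 ^ k}) (S : Subgroup G)) (S : Subgroup G)
        ⟨isFullyNormalized_self _, isRadical_self_of_selfNormalizing hSp hN, isCentric_self _⟩)
      apply autInducedBy_mono'
      intro g hg
      apply Subgroup.subset_closure
      refine ⟨Subgroup.le_normalizer hg, ?_⟩
      obtain ⟨k, hk⟩ := hSp ⟨g, hg⟩
      have h1 : g ^ 2 ^ k = 1 := congrArg Subtype.val hk
      obtain ⟨j, -, hj⟩ := (Nat.dvd_prime_pow Nat.prime_two).1 (orderOf_dvd_of_pow_eq_one h1)
      exact ⟨j, hj⟩
    · apply iSup₂_le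
      intro R _
      exact autInducedBy_mono' le_top _

theorem M12_eq : Cfsg.Spor.M12 = stabM24 D := by
  show stabM24 Spor.squareDodecad = stabM24 D
  rw [squareDodecad_eq]

theorem aux (H : Subgroup (Equiv.Perm GolayPt)) (hH : H = stabM24 D) (S : Sylow 2 H) :
    (groupFusionSystem (S : Subgroup H)).IsSimple 2 := by
  subst hH
  exact main S

/-- The 2-fusion system of the Mathieu group M₁₂ (as the explicit permutation group carved out of the automorphism group of the binary Golay code) on a Sylow 2-subgroup is simple: saturated, over a nontrivial 2-group, with no normal subsystem other than the trivial one and itself. -/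
theorem result (S : Sylow 2 Cfsg.Spor.M12) : (Cfsg.groupFusionSystem (S : Subgroup Cfsg.Spor.M12)).IsSimple 2 := by
  exact aux Cfsg.Spor.M12 M12_eq S

end Cfsg.Agent.S5167
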