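import Cfsg.Statements.S5172
import Cfsg.Agent.Lib.Helper86.PSUFusN

set_option autoImplicit false
open Cfsg

namespace Cfsg.Agent.S5172

/-- For a finite field K with q² elements of characteristic p and n ≥ 4, the p-fusion system of the projective special unitary group PSU_n(q) (realised over K) on a Sylow p-subgroup is simple. -/
theorem result {K : Type*} [Field K] [Fintype K] (p q : ℕ) [Fact p.Prime] [CharP K p] (hK : Fintype.card K = q ^ 2) (n : ℕ) (hn : 4 ≤ n) (S : Sylow p (Cfsg.PSU n K q)) : (Cfsg.groupFusionSystem (S : Subgroup (Cfsg.PSU n K q))).IsSimple p := by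
  obtain ⟨σ, hS⟩ := Cfsg.Agent.Lib.Helper45.PSUAut.exists_frob hK
  obtain ⟨P, hW⟩ := Cfsg.Agent.Lib.Helper86.PSUFus.exists_WF (n := n) hS
  obtain ⟨S₀, hS₀⟩ := Cfsg.Agent.Lib.Helper86.PSUFus.exists_sylow_eq_UBar hW hS hK (by omega) p
  obtain ⟨g, hg⟩ := MulAction.exists_smul_eq (Cfsg.PSU n K q) S₀ S
  apply Cfsg.Agent.Lib.Helper86.FusSimple.isSimple_of_simpleData
  have h1 : (S : Subgroup (Cfsg.PSU n K q)) =
      (Cfsg.Agent.Lib.Helper86.PSUFus.UBar (q := q) hW).map (MulAut.conj g).toMonoidHom := by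
    rw [← hg, ← hS₀]
    rfl
  rw [h1]
  exact (Cfsg.Agent.Lib.Helper86.PSUFus.simpleData_UBar hW hS hK hn p).map (MulAut.conj g)

end Cfsg.Agent.S5172
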