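import Cfsg.Statements.S5178
import Cfsg.Agent.S0012
import Cfsg.Agent.Lib.Helper86.Transvection
import Cfsg.Agent.Lib.Helper86.SL2Inv
import Cfsg.Agent.Lib.Helper86.FusionExt
import Cfsg.Agent.Lib.Helper84.Alperin2
import Cfsg.Agent.Lib.Helper85.FusionNormal
import Cfsg.Agent.Lib.Helper87.OliverIndexP
import Cfsg.Agent.Lib.Helper63.PGroupBasic

set_option autoImplicit false
universe u
open Cfsg

namespace Cfsg.Agent.S5178

open Cfsg.Agent.Lib.Helper86
open scoped commutatorElement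

/-- The structure of `S` when `Z(S) ≠ Z(Q)`: commutators and `p`-th powers of `S` lie in `W = Z(Q)`, of order `p`,
properly contained in `Z(S)`. -/
theorem structure_of_center_ne {Ω : Type*} [Group Ω] {S : Subgroup Ω} [Finite S] (p : ℕ) [Fact p.Prime]
    (hS : IsPGroup p S) (Q : Subgroup Ω) (hQS : Q ≤ S) (hQ : Cfsg.IsExtraspecial p ↥Q)
    (hQi : (Q.subgroupOf S).index = p)
    (hne : S ⊓ Subgroup.centralizer (S : Set Ω) ≠ Q ⊓ Subgroup.centralizer (Q : Set Ω)) :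
    ∃ W : Subgroup Ω, Nat.card W = p ∧ W ≤ S ⊓ Subgroup.centralizer (S : Set Ω) ∧
      W ≠ S ⊓ Subgroup.centralizer (S : Set Ω) ∧ (∀ x ∈ S, ∀ y ∈ S, ⁅x, y⁆ ∈ W) ∧ (∀ x ∈ S, x ^ p ∈ W) ∧
      (∃ x ∈ S, ∃ y ∈ S, ⁅x, y⁆ ≠ 1) := by
  classical
  have hpp : p.Prime := Fact.out
  obtain ⟨⟨hQp, hΦZ, hcZ⟩, hZcard⟩ := hQ
  have hQfin : Finite Q := Finite.of_injective (Subgroup.inclusion hQS) (Subgroup.inclusion_injective hQS)
  set ZQ : Subgroup Ω := Q ⊓ Subgroup.centralizer (Q : Set Ω) with hZQ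
  set ZS : Subgroup Ω := S ⊓ Subgroup.centralizer (S : Set Ω) with hZS
  have hZQmap : ZQ = (Subgroup.center ↥Q).map Q.subtype := by
    ext z
    constructor
    · rintro ⟨hzQ, hzc⟩
      have hzc' : z ∈ Subgroup.centralizer (Q : Set Ω) := hzc
      refine ⟨⟨z, hzQ⟩, Subgroup.mem_center_iff.mpr ?_, rfl⟩
      intro q
      apply Subtype.ext
      exact Subgroup.mem_centralizer_iff.mp hzc' q q.2
    · rintro ⟨z', hz', rfl⟩
      refine ⟨z'.2, ?_⟩
      show (z' : Ω) ∈ Subgroup.centralizer (Q : Set Ω)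
      rw [Subgroup.mem_centralizer_iff]
      intro q hq
      have := Subgroup.mem_center_iff.mp hz' ⟨q, hq⟩
      exact congrArg Subtype.val this
  have hZQcard : Nat.card ZQ = p := by
    rw [hZQmap, Subgroup.card_map_of_injective Q.subtype_injective, hZcard]
  have hZQQ : ZQ ≤ Q := inf_le_left
  have hZQc : ∀ z ∈ ZQ, ∀ q ∈ Q, z * q = q * z := by
    intro z hz q hq
    exact (Subgroup.mem_centralizer_iff.mp hz.2 q hq).symm
  have hcommQ : ∀ x ∈ Q, ∀ y ∈ Q, ⁅x, y⁆ ∈ ZQ := by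
    intro x hx y hy
    have h1 : ⁅(⟨x, hx⟩ : Q), (⟨y, hy⟩ : Q)⁆ ∈ commutator ↥Q :=
      Subgroup.commutator_mem_commutator (Subgroup.mem_top _) (Subgroup.mem_top _)
    rw [hcZ] at h1
    rw [hZQmap]
    exact ⟨_, h1, rfl⟩
  have hpowQ : ∀ x ∈ Q, x ^ p ∈ ZQ := by
    intro x hx
    have h1 := (Cfsg.Agent.S0012.result p hQp).2 ⟨x, hx⟩
    rw [hΦZ] at h1
    rw [hZQmap]
    exact ⟨_, h1, rfl⟩
  -- `Q` is normal in `S`
  have hQn : ∀ s ∈ S, ∀ q ∈ Q, s * q * s⁻¹ ∈ Q := fun s hs q hq =>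
    Cfsg.Agent.Lib.Helper87.conj_mem_of_relIndex_prime hS hQi hs (hQS hq) hq
  -- `Z(Q)` is normal in `S`, hence central
  have hZQn : ∀ s ∈ S, ∀ z ∈ ZQ, s * z * s⁻¹ ∈ ZQ := by
    intro s hs z hz
    refine ⟨hQn s hs z hz.1, ?_⟩
    show s * z * s⁻¹ ∈ Subgroup.centralizer (Q : Set Ω)
    rw [Subgroup.mem_centralizer_iff]
    intro q hq
    have h1 : s⁻¹ * q * s ∈ Q := by
      have := hQn s⁻¹ (S.inv_mem hs) q hq
      rwa [inv_inv] at this
    have h2 := hZQc z hz _ h1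
    calc q * (s * z * s⁻¹) = s * ((s⁻¹ * q * s) * z) * s⁻¹ := by group
      _ = s * (z * (s⁻¹ * q * s)) * s⁻¹ := by rw [h2]
      _ = s * z * s⁻¹ * q := by group
  have hZQZS : ZQ ≤ ZS := by
    have hn : (ZQ.subgroupOf S).Normal := by
      refine ⟨fun z hz s => ?_⟩
      rw [Subgroup.mem_subgroupOf] at hz ⊢
      exact hZQn s s.2 z hz
    have hle : ZQ ≤ S := hZQQ.trans hQS
    have hcard : Nat.card (ZQ.subgroupOf S) = p := by
      rw [Nat.card_congr (Subgroup.subgroupOfEquivOfLe hle).toEquiv, hZQcard]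
    have h1 := Cfsg.Agent.Lib.Helper63.normal_card_prime_le_center hS (ZQ.subgroupOf S) hcard
    intro z hz
    refine ⟨hle hz, ?_⟩
    show z ∈ Subgroup.centralizer (S : Set Ω)
    rw [Subgroup.mem_centralizer_iff]
    intro s hs
    have h2 : (⟨z, hle hz⟩ : S) ∈ Subgroup.center ↥S := h1 (Subgroup.mem_subgroupOf.mpr hz)
    have h3 := Subgroup.mem_center_iff.mp h2 ⟨s, hs⟩
    exact congrArg Subtype.val h3
  -- an element of `Z(S)` outside `Q`
  obtain ⟨c, hcZS, hcQ⟩ : ∃ c ∈ ZS, c ∉ Q := by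
    by_contra hcon
    push Not at hcon
    apply hne
    apply le_antisymm _ hZQZS
    intro z hz
    refine ⟨hcon z hz, ?_⟩
    exact Subgroup.centralizer_le (SetLike.coe_subset_coe.2 hQS) hz.2
  have hcS : c ∈ S := hcZS.1
  have hcc : ∀ s ∈ S, c * s = s * c := fun s hs => (Subgroup.mem_centralizer_iff.mp hcZS.2 s hs).symm
  have hSdec : ∀ s ∈ S, ∃ q ∈ Q, ∃ u ∈ Subgroup.zpowers c, s = q * u := fun s hs =>
    Cfsg.Agent.Lib.Helper87.exists_decomp_of_relIndex_prime hS hQS hQi hcS hcQ hs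
  have huc : ∀ u ∈ Subgroup.zpowers c, u ∈ S ∧ ∀ s ∈ S, u * s = s * u := by
    intro u hu
    obtain ⟨k, rfl⟩ := Subgroup.mem_zpowers_iff.mp hu
    refine ⟨S.zpow_mem hcS k, fun s hs => ?_⟩
    exact ((show Commute c s from hcc s hs).zpow_left k).eq
  have hcommS : ∀ x ∈ S, ∀ y ∈ S, ⁅x, y⁆ ∈ ZQ := by
    intro x hx y hy
    obtain ⟨q, hq, u, hu, rfl⟩ := hSdec x hx
    obtain ⟨q', hq', u', hu', rfl⟩ := hSdec y hy
    have h1 : ⁅q * u, q' * u'⁆ = ⁅q, q'⁆ := by
      have e1 := (huc u hu).2 (q' * u') hy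
      have e2 := (huc u' hu').2 q (hQS hq)
      have e3 := (huc u' hu').2 q' (hQS hq')
      rw [commutatorElement_def, commutatorElement_def]
      calc q * u * (q' * u') * (q * u)⁻¹ * (q' * u')⁻¹
          = q * (u * (q' * u')) * u⁻¹ * q⁻¹ * (q' * u')⁻¹ := by group
        _ = q * (q' * u' * u) * u⁻¹ * q⁻¹ * (q' * u')⁻¹ := by rw [e1]
        _ = q * q' * (u' * q⁻¹) * u'⁻¹ * q'⁻¹ := by group
        _ = q * q' * (q⁻¹ * u') * u'⁻¹ * q'⁻¹ := by
            have : u' * q⁻¹ = q⁻¹ * u' := ((show Commute u' q from e2).inv_right).eq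
            rw [this]
        _ = q * q' * q⁻¹ * q'⁻¹ := by group
    rw [h1]
    exact hcommQ q hq q' hq'
  -- `c ^ p ∈ Z(Q)`
  have hcpQ : c ^ p ∈ Q := by
    have hn : (Q.subgroupOf S).Normal := by
      refine ⟨fun q hq s => ?_⟩
      rw [Subgroup.mem_subgroupOf] at hq ⊢
      exact hQn s s.2 q hq
    have hcardq : Nat.card (↥S ⧸ Q.subgroupOf S) = p := by rw [← Subgroup.index_eq_card, hQi]
    have h1 : ((⟨c, hcS⟩ : S) : ↥S ⧸ Q.subgroupOf S) ^ p = 1 := by
      rw [← hcardq]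
      exact pow_card_eq_one'
    rw [← QuotientGroup.mk_pow, QuotientGroup.eq_one_iff, Subgroup.mem_subgroupOf] at h1
    exact h1
  have hcpZ : c ^ p ∈ ZQ := by
    refine ⟨hcpQ, ?_⟩
    show c ^ p ∈ Subgroup.centralizer (Q : Set Ω)
    rw [Subgroup.mem_centralizer_iff]
    intro q hq
    exact (((show Commute c q from hcc q (hQS hq)).pow_left p).eq).symm
  have hpowS : ∀ x ∈ S, x ^ p ∈ ZQ := by
    intro x hx
    obtain ⟨q, hq, u, hu, rfl⟩ := hSdec x hx
    have e2 : Commute q u := (show Commute u q from (huc u hu).2 q (hQS hq)).symm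
    rw [e2.mul_pow]
    apply ZQ.mul_mem (hpowQ q hq)
    obtain ⟨k, rfl⟩ := Subgroup.mem_zpowers_iff.mp hu
    rw [← zpow_natCast, ← zpow_mul, mul_comm, zpow_mul, zpow_natCast]
    exact ZQ.zpow_mem hcpZ k
  refine ⟨ZQ, hZQcard, hZQZS, ?_, hcommS, hpowS, ?_⟩
  · intro h
    apply hcQ
    have : c ∈ ZQ := by rw [h]; exact hcZS
    exact hZQQ this
  · -- `Q` is not abelian
    by_contra hcon
    push Not at hcon
    have hbot : commutator ↥Q = ⊥ := by
      rw [commutator_def, Subgroup.commutator_eq_bot_iff_le_centralizer]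
      intro x _
      rw [Subgroup.mem_centralizer_iff]
      intro y _
      have := hcon y (hQS y.2) x (hQS x.2)
      rw [commutatorElement_eq_one_iff_mul_comm] at this
      exact Subtype.ext this
    rw [hcZ] at hbot
    rw [hbot, Subgroup.card_bot] at hZcard
    exact hpp.one_lt.ne hZcard


/-- Data attached to an essential subgroup. -/
theorem essential_data {Ω : Type u} [Group Ω] {S : Subgroup Ω} [Finite S] (p : ℕ) [Fact p.Prime] (hp : Odd p)
    (hS : IsPGroup p S) (F : Cfsg.FusionSystem S) (hF : F.IsSaturated p)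
    (W : Subgroup Ω) (hWcard : Nat.card W = p) (hWZ : W ≤ S ⊓ Subgroup.centralizer (S : Set Ω))
    (hcomm : ∀ x ∈ S, ∀ y ∈ S, ⁅x, y⁆ ∈ W) (hpow : ∀ x ∈ S, x ^ p ∈ W)
    (E : Subgroup Ω) (hE : F.IsEssential p E) :
    ∃ (C : Subgroup Ω) (T' : MulAut S), C ≤ S ⊓ Subgroup.centralizer (S : Set Ω) ∧ C ≤ E ∧
      (∀ α ∈ F.autGroup E, ∀ x : E, (x : Ω) ∈ C → ((α x : E) : Ω) ∈ C) ∧
      T' ∈ F.autGroup S ∧ (∀ w : S, (w : Ω) ∈ W → T' w = w⁻¹) ∧ (∀ c : S, (c : Ω) ∈ C → T' c = c) ∧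
      (∀ z ∈ S ⊓ Subgroup.centralizer (S : Set Ω), ∃ w ∈ W, ∃ c ∈ C, z = w * c) ∧
      (∀ x, x ∈ C → x ∈ W → x = 1) := by
  classical
  have hpp : p.Prime := Fact.out
  have hEne : E ≠ S := Cfsg.Agent.Lib.Helper88.ne_top_of_essential F hF hE
  have hEcen : F.IsCentric E := hE.1
  obtain ⟨⟨hES, hcen⟩, hfn, hnorm, M, hM⟩ := hE
  have hEfin : Finite E := Finite.of_injective (Subgroup.inclusion hES) (Subgroup.inclusion_injective hES)
  have hEp : IsPGroup p E := hS.to_le hES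
  have hWS : W ≤ S := hWZ.trans inf_le_left
  have hWc : ∀ w ∈ W, ∀ s ∈ S, w * s = s * w := fun w hw s hs =>
    (Subgroup.mem_centralizer_iff.mp (hWZ hw).2 s hs).symm
  have hZSE : S ⊓ Subgroup.centralizer (S : Set Ω) ≤ E := Cfsg.Agent.Lib.Helper87.center_le_of_centric F hEcen
  have hWE : W ≤ E := hWZ.trans hZSE
  -- `S` normalises `E`
  have hEn : ∀ g ∈ S, ∀ e ∈ E, g * e * g⁻¹ ∈ E := by
    intro g hg e he
    have h1 : g * e * g⁻¹ = ⁅g, e⁆ * e := by rw [commutatorElement_def]; group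
    rw [h1]
    exact E.mul_mem (hWE (hcomm g hg e (hES he))) he
  have hEn' : ∀ g ∈ S, ∀ e ∈ E, g⁻¹ * e * g ∈ E := by
    intro g hg e he
    have := hEn g⁻¹ (S.inv_mem hg) e he
    rwa [inv_inv] at this
  have hnotinn : ∀ x (hx : x ∈ S), x ∉ E → conjAutOfMem E x (hEn x hx) (hEn' x hx) ∉ Cfsg.Inn ↥E := by
    rintro x hx hxE ⟨e₀, he₀⟩
    apply hxE
    refine Cfsg.Agent.Lib.Helper87.mem_of_induces_inner F hEcen hx e₀.2 (fun y hy => ?_)
    have h2 := congrArg (fun φ : MulAut ↥E => ((φ ⟨y, hy⟩ : E) : Ω)) he₀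
    simp only [MulAut.conj_apply, conjAutOfMem_apply] at h2
    simpa using h2.symm
  have hmemU : ∀ x (hx : x ∈ S), conjAutOfMem E x (hEn x hx) (hEn' x hx) ∈ autInducedBy S E := by
    intro x hx
    rw [Cfsg.Agent.Lib.Helper87.mem_autInducedBy_iff]
    exact ⟨x, hx, fun y => rfl⟩
  have hUA : autInducedBy S E ≤ F.autGroup E := Cfsg.Agent.Lib.Helper87.autInducedBy_le_autGroup F hES
  obtain ⟨s, hsS, hsE⟩ : ∃ s ∈ S, s ∉ E := by
    by_contra hcon
    push Not at hcon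
    exact hEne (le_antisymm hES hcon)
  set t := conjAutOfMem E s (hEn s hsS) (hEn' s hsS) with ht
  have htA : t ∈ F.autGroup E := hUA (hmemU s hsS)
  have htinn : t ∉ Cfsg.Inn ↥E := hnotinn s hsS hsE
  have ht1 : t ≠ 1 := fun h => htinn (h ▸ Subgroup.one_mem _)
  set W' : Subgroup E := W.subgroupOf E with hW'
  have hW'card : Nat.card W' = p := by
    rw [Nat.card_congr (Subgroup.subgroupOfEquivOfLe hWE).toEquiv, hWcard]
  have htW : ∀ e : E, e⁻¹ * t e ∈ W' := by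
    intro e
    rw [Subgroup.mem_subgroupOf]
    have : ((e⁻¹ * t e : E) : Ω) = ⁅(e : Ω)⁻¹, s⁆ := by
      rw [commutatorElement_def]
      push_cast
      rw [conjAutOfMem_apply]
      group
    rw [this]
    exact hcomm _ (S.inv_mem (hES e.2)) _ hsS
  have htfix : ∀ w ∈ W', t w = w := by
    intro w hw
    apply Subtype.ext
    rw [conjAutOfMem_apply]
    rw [Subgroup.mem_subgroupOf] at hw
    rw [← hWc _ hw s hsS, mul_inv_cancel_right]
  -- generation of `W'`
  have hgen : ∀ g ∈ W', g ≠ 1 → ∀ z ∈ W', ∃ k : ℕ, g ^ k = z := by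
    intro g hg hg1 z hz
    have h1 : (⟨g, hg⟩ : W') ≠ 1 := fun h => hg1 (congrArg Subtype.val h)
    obtain ⟨k, hk⟩ := mem_powers_of_prime_card (G := W') hW'card (g := ⟨g, hg⟩) (g' := ⟨z, hz⟩) h1
    exact ⟨k, by simpa using congrArg Subtype.val hk⟩
  -- `W'` is not invariant
  have key : ¬ ∀ α ∈ F.autGroup E, ∀ x ∈ W', α x ∈ W' := by
    intro hinvW
    let c : ℕ → Subgroup E := fun j => match j with
      | 0 => ⊤
      | 1 => W'
      | _ => ⊥
    have hinv : ∀ j ≤ 2, ∀ α ∈ F.autGroup E, ∀ x ∈ c j, α x ∈ c j := by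
      intro j hj α hα x hx
      interval_cases j
      · exact Subgroup.mem_top _
      · exact hinvW α hα x hx
      · have hx' : x = 1 := Subgroup.mem_bot.mp hx
        rw [hx', map_one]
        exact Subgroup.one_mem _
    apply htinn
    refine mem_inn_of_mem_chainStab hEp (F.autGroup E) M hM 2 c rfl rfl hinv t ⟨htA, ?_⟩
    intro j hj r hr
    interval_cases j
    · exact htW r
    · rw [htfix r hr, inv_mul_cancel]
      exact Subgroup.one_mem _
  have hab : ∀ x y : E, x * y = y * x := by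
    by_contra hcon
    push Not at hcon
    obtain ⟨x, y, hxy⟩ := hcon
    apply key
    have hcW : ∀ a b : E, ⁅a, b⁆ ∈ W' := by
      intro a b
      rw [Subgroup.mem_subgroupOf]
      have : ((⁅a, b⁆ : E) : Ω) = ⁅(a : Ω), (b : Ω)⁆ := by
        rw [commutatorElement_def, commutatorElement_def]; push_cast; rfl
      rw [this]
      exact hcomm _ (hES a.2) _ (hES b.2)
    have h1 : ⁅x, y⁆ ≠ 1 := fun h => hxy (commutatorElement_eq_one_iff_mul_comm.mp h)
    intro α hα z hz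
    obtain ⟨k, rfl⟩ := hgen _ (hcW x y) h1 z hz
    rw [map_pow, map_commutatorElement]
    exact W'.pow_mem (hcW _ _) k
  have hexp : ∀ x : E, x ^ p = 1 := by
    by_contra hcon
    push Not at hcon
    obtain ⟨x, hx⟩ := hcon
    apply key
    have hpW : ∀ a : E, a ^ p ∈ W' := by
      intro a
      rw [Subgroup.mem_subgroupOf]
      push_cast
      exact hpow _ (hES a.2)
    intro α hα z hz
    obtain ⟨k, rfl⟩ := hgen _ (hpW x) hx z hz
    rw [map_pow, map_pow]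
    exact W'.pow_mem (hpW _) k
  -- some element of `E` has its centraliser in `S` inside `E`
  obtain ⟨w₁, hw₁⟩ : ∃ w₁ : E, ∀ x ∈ S, (w₁ : Ω) * x = x * w₁ → x ∈ E := by
    by_contra hcon
    push Not at hcon
    refine false_of_transvections hEp (F.autGroup E) M hM W' hW'card ?_ ?_ (autInducedBy S E) hUA ?_ ?_
      ⟨t, hmemU s hsS, htinn⟩ ?_
    · intro x
      rw [hexp]
      exact W'.one_mem
    · intro x y
      rw [commutatorElement_eq_one_iff_mul_comm.mpr (hab x y)]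
      exact W'.one_mem
    · intro φ hφ e
      obtain ⟨g, hg, hgφ⟩ := Cfsg.Agent.Lib.Helper87.mem_autInducedBy_iff.1 hφ
      rw [Subgroup.mem_subgroupOf]
      have : ((e⁻¹ * φ e : E) : Ω) = ⁅(e : Ω)⁻¹, g⁆ := by
        rw [commutatorElement_def]
        push_cast
        rw [hgφ e]
        group
      rw [this]
      exact hcomm _ (S.inv_mem (hES e.2)) _ hg
    · intro φ hφ z hz
      obtain ⟨g, hg, hgφ⟩ := Cfsg.Agent.Lib.Helper87.mem_autInducedBy_iff.1 hφ
      apply Subtype.ext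
      rw [hgφ z]
      rw [Subgroup.mem_subgroupOf] at hz
      rw [← hWc _ hz g hg, mul_inv_cancel_right]
    · intro _ w
      obtain ⟨x, hxS, hxw, hxE⟩ := hcon w
      refine ⟨_, hmemU x hxS, hnotinn x hxS hxE, ?_⟩
      apply Subtype.ext
      rw [conjAutOfMem_apply, ← hxw, mul_inv_cancel_right]
  have hdecS : ∀ x ∈ S, ∃ e ∈ E, ∃ k : ℕ, x = e * s ^ k := by
    intro x hx
    set w₁' : S := ⟨w₁, hES w₁.2⟩ with hw₁'
    have hwc : ∀ y : S, ⁅w₁', y⁆ ∈ Subgroup.center ↥S := by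
      intro y
      rw [Subgroup.mem_center_iff]
      intro g
      apply Subtype.ext
      have h1 : ((⁅w₁', y⁆ : S) : Ω) = ⁅(w₁ : Ω), (y : Ω)⁆ := by
        rw [commutatorElement_def, commutatorElement_def]; push_cast; rfl
      push_cast
      rw [h1]
      exact (hWc _ (hcomm _ (hES w₁.2) _ y.2) g g.2).symm
    set φc := commHom w₁' hwc with hφc
    have hs1 : φc ⟨s, hsS⟩ ≠ 1 := by
      intro h
      have h2 : (⟨s, hsS⟩ : S) ∈ φc.ker := h
      rw [mem_commHom_ker] at h2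
      exact hsE (hw₁ s hsS (congrArg Subtype.val h2))
    set WS : Subgroup S := W.subgroupOf S with hWS'
    have hWScard : Nat.card WS = p := by
      rw [Nat.card_congr (Subgroup.subgroupOfEquivOfLe hWS).toEquiv, hWcard]
    have hval : ∀ y : S, φc y ∈ WS := by
      intro y
      rw [commHom_apply, Subgroup.mem_subgroupOf]
      have h1 : ((⁅w₁', y⁆ : S) : Ω) = ⁅(w₁ : Ω), (y : Ω)⁆ := by
        rw [commutatorElement_def, commutatorElement_def]; push_cast; rfl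
      rw [h1]
      exact hcomm _ (hES w₁.2) _ y.2
    have h1 : (⟨φc ⟨s, hsS⟩, hval _⟩ : WS) ≠ 1 := fun h => hs1 (congrArg Subtype.val h)
    obtain ⟨k, hk⟩ := mem_powers_of_prime_card (G := WS) hWScard (g := ⟨φc ⟨s, hsS⟩, hval _⟩)
      (g' := ⟨φc ⟨x, hx⟩, hval _⟩) h1
    have hk' : (φc ⟨s, hsS⟩) ^ k = φc ⟨x, hx⟩ := by simpa using congrArg Subtype.val hk
    have h3 : (⟨x, hx⟩ : S) * (⟨s, hsS⟩ ^ k)⁻¹ ∈ φc.ker := by
      rw [MonoidHom.mem_ker, map_mul, map_inv, map_pow, hk', mul_inv_cancel]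
    rw [mem_commHom_ker] at h3
    have h4 : (w₁ : Ω) * (x * (s ^ k)⁻¹) = x * (s ^ k)⁻¹ * w₁ := by
      have := congrArg (Subtype.val : S → Ω) h3
      simpa using this
    have hmem := hw₁ (x * (s ^ k)⁻¹) (S.mul_mem hx (S.inv_mem (S.pow_mem hsS k))) h4
    exact ⟨x * (s ^ k)⁻¹, hmem, k, by group⟩
  -- fixed points of `t` are central in `S`
  have hfixZ : ∀ e : E, t e = e → (e : Ω) ∈ S ⊓ Subgroup.centralizer (S : Set Ω) := by
    intro e he
    refine ⟨hES e.2, ?_⟩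
    show (e : Ω) ∈ Subgroup.centralizer (S : Set Ω)
    rw [Subgroup.mem_centralizer_iff]
    intro x hx
    obtain ⟨e', he', k, rfl⟩ := hdecS x hx
    have h1 : s * (e : Ω) = e * s := by
      have := congrArg (Subtype.val : E → Ω) he
      rw [conjAutOfMem_apply] at this
      calc s * (e : Ω) = s * e * s⁻¹ * s := by group
        _ = e * s := by rw [this]
    have h2 : e' * (e : Ω) = e * e' := congrArg (Subtype.val : E → Ω) (hab ⟨e', he'⟩ e)
    have h3 : s ^ k * (e : Ω) = e * s ^ k := ((show Commute s (e : Ω) from h1).pow_left k).eq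
    rw [mul_assoc, h3, ← mul_assoc, h2, mul_assoc]
  have hZfix : ∀ e : E, (e : Ω) ∈ S ⊓ Subgroup.centralizer (S : Set Ω) → t e = e := by
    intro e he
    apply Subtype.ext
    rw [conjAutOfMem_apply]
    have := Subgroup.mem_centralizer_iff.mp he.2 s hsS
    rw [this, mul_inv_cancel_right]
  -- `Aut_S(E)` is generated by `t`
  have hUle : autInducedBy S E ≤ Subgroup.zpowers t := by
    intro φ hφ
    obtain ⟨g, hg, hgφ⟩ := Cfsg.Agent.Lib.Helper87.mem_autInducedBy_iff.1 hφ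
    obtain ⟨e', he', k, rfl⟩ := hdecS g hg
    have : φ = t ^ k := by
      apply MulEquiv.ext
      intro x
      apply Subtype.ext
      have hpow := Cfsg.Agent.Lib.Helper87.conj_pow_apply (α := t) (g := s)
        (fun y => conjAutOfMem_apply E s (hEn s hsS) (hEn' s hsS) y) k x
      rw [hgφ x, hpow]
      have hy : s ^ k * (x : Ω) * (s ^ k)⁻¹ ∈ E := hpow ▸ ((t ^ k) x).2
      have h1 : e' * (s ^ k * (x : Ω) * (s ^ k)⁻¹) = (s ^ k * (x : Ω) * (s ^ k)⁻¹) * e' :=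
        congrArg (Subtype.val : E → Ω) (hab ⟨e', he'⟩ ⟨_, hy⟩)
      calc e' * s ^ k * (x : Ω) * (e' * s ^ k)⁻¹ = e' * (s ^ k * (x : Ω) * (s ^ k)⁻¹) * e'⁻¹ := by group
        _ = (s ^ k * (x : Ω) * (s ^ k)⁻¹) * e' * e'⁻¹ := by rw [h1]
        _ = s ^ k * (x : Ω) * (s ^ k)⁻¹ := by group
    rw [this]
    exact Subgroup.pow_mem _ (Subgroup.mem_zpowers t) k
  have hfinA : Finite (MulAut E) := Finite.of_injective (fun α : MulAut E => (α : E → E)) DFunLike.coe_injective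
  obtain ⟨⟨-, R, hR⟩, hrec⟩ := Cfsg.Agent.Lib.Helper87.fullyAutomized_receptive_of_fullyNormalized F hS hF hfn
  have hsyl : ∀ P : Subgroup (MulAut E), P ≤ F.autGroup E → IsPGroup p P →
      ∃ σ ∈ F.autGroup E, ∀ φ ∈ P, σ * φ * σ⁻¹ ∈ Subgroup.zpowers t := by
    intro P hPA hPp
    have hP' : IsPGroup p (P.subgroupOf (F.autGroup E)) := hPp.comap_subtype
    obtain ⟨c, hc⟩ := Cfsg.Agent.Lib.Helper87.exists_conj_mem_sylow R hP'
    refine ⟨c, c.2, fun φ hφ => ?_⟩
    have h1 := hc ⟨φ, hPA hφ⟩ (Subgroup.mem_subgroupOf.mpr hφ)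
    have h2 : c * ⟨φ, hPA hφ⟩ * c⁻¹ ∈ (autInducedBy S E).subgroupOf (F.autGroup E) := by
      rw [← hR]
      exact h1
    rw [Subgroup.mem_subgroupOf] at h2
    exact hUle h2
  have hnn : ∃ σ ∈ F.autGroup E, σ * t * σ⁻¹ ∉ Subgroup.zpowers t := by
    by_contra hcon
    push Not at hcon
    apply htinn
    set I := (Cfsg.Inn ↥E).subgroupOf (F.autGroup E) with hI
    set π := QuotientGroup.mk' I with hπ
    set N' : Subgroup (F.autGroup E) := (Subgroup.zpowers t).subgroupOf (F.autGroup E) with hN'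
    have hN'n : N'.Normal := ⟨fun n hn g => by
      rw [hN', Subgroup.mem_subgroupOf] at hn ⊢
      obtain ⟨k, hk⟩ := Subgroup.mem_zpowers_iff.mp hn
      have : ((g * n * g⁻¹ : F.autGroup E) : MulAut E) = ((g : MulAut E) * t * (g : MulAut E)⁻¹) ^ k := by
        rw [conj_zpow, hk]
        rfl
      rw [this]
      exact Subgroup.zpow_mem _ (hcon g g.2) k⟩
    have hZp : IsPGroup p (Subgroup.zpowers t) :=
      (Cfsg.Agent.Lib.Helper87.autInducedBy_isPGroup hS E).to_le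
        (by rw [Subgroup.zpowers_le]; exact hmemU s hsS)
    have hN'p : IsPGroup p N' := hZp.comap_subtype
    set N'' := N'.map π with hN''
    have hN''n : N''.Normal := Subgroup.Normal.map hN'n π (QuotientGroup.mk'_surjective I)
    have hN''p : IsPGroup p N'' := hN'p.map π
    have hbot : N'' = ⊥ := Cfsg.Agent.Lib.Helper84.normal_pgroup_eq_bot hM N'' hN''p
    have h1 : π ⟨t, htA⟩ ∈ N'' :=
      Subgroup.mem_map_of_mem π (Subgroup.mem_subgroupOf.mpr (Subgroup.mem_zpowers t))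
    rw [hbot, Subgroup.mem_bot] at h1
    have h2 : (⟨t, htA⟩ : F.autGroup E) ∈ I := (QuotientGroup.eq_one_iff _).mp h1
    exact Subgroup.mem_subgroupOf.mp h2
  -- the central involution
  let iC : CommGroup E := { (inferInstance : Group E) with mul_comm := hab }
  obtain ⟨C₀, T, hTA, hTcomm, hTW, hTC, htC, hCinv, hdec, hdisj⟩ :=
    @exists_central_involution E iC _ p _ hp hexp (F.autGroup E) t htA ht1 W' hW'card htW htfix hsyl hnn
  -- `T` extends to `S`
  have hext : ∀ g ∈ S, g ∈ Subgroup.normalizer (E : Set Ω) ∧ ∃ h ∈ S, ∀ (x : E) (hx : g * (x : Ω) * g⁻¹ ∈ E),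
      ((T ⟨g * x * g⁻¹, hx⟩ : E) : Ω) = h * (T x : E) * h⁻¹ := by
    intro g hg
    have hgN : g ∈ Subgroup.normalizer (E : Set Ω) := by
      rw [Subgroup.mem_normalizer_iff]
      intro h
      refine ⟨hEn g hg h, fun hh => ?_⟩
      have := hEn' g hg _ hh
      have e : g⁻¹ * (g * h * g⁻¹) * g = h := by group
      rwa [e] at this
    refine ⟨hgN, ?_⟩
    obtain ⟨e', he', k, rfl⟩ := hdecS g hg
    refine ⟨s ^ k, S.pow_mem hsS k, fun x hx => ?_⟩
    have hpow := Cfsg.Agent.Lib.Helper87.conj_pow_apply (α := t) (g := s)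
      (fun y => conjAutOfMem_apply E s (hEn s hsS) (hEn' s hsS) y) k
    have h1 : (⟨e' * s ^ k * (x : Ω) * (e' * s ^ k)⁻¹, hx⟩ : E) = (t ^ k) x := by
      apply Subtype.ext
      rw [hpow x]
      have hy : s ^ k * (x : Ω) * (s ^ k)⁻¹ ∈ E := hpow x ▸ ((t ^ k) x).2
      have h1 : e' * (s ^ k * (x : Ω) * (s ^ k)⁻¹) = (s ^ k * (x : Ω) * (s ^ k)⁻¹) * e' :=
        congrArg (Subtype.val : E → Ω) (hab ⟨e', he'⟩ ⟨_, hy⟩)
      calc e' * s ^ k * (x : Ω) * (e' * s ^ k)⁻¹ = e' * (s ^ k * (x : Ω) * (s ^ k)⁻¹) * e'⁻¹ := by group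
        _ = (s ^ k * (x : Ω) * (s ^ k)⁻¹) * e' * e'⁻¹ := by rw [h1]
        _ = s ^ k * (x : Ω) * (s ^ k)⁻¹ := by group
    rw [h1]
    have h2 : T ((t ^ k) x) = (t ^ k) (T x) := by
      have hc : (t ^ k) * T = T * (t ^ k) := hTcomm (t ^ k) (Subgroup.pow_mem _ htA k)
      have := congrArg (fun φ : MulAut E => φ x) hc
      simpa [MulAut.mul_apply] using this.symm
    rw [h2, hpow (T x)]
  obtain ⟨T', hT'A, hT'e⟩ := exists_aut_extension F hES hrec T hTA hext
  refine ⟨C₀.map E.subtype, T', ?_, ?_, ?_, hT'A, ?_, ?_, ?_, ?_⟩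
  · rintro _ ⟨c, hc, rfl⟩
    exact hfixZ c (htC c hc)
  · rintro _ ⟨c, hc, rfl⟩
    exact c.2
  · intro α hα x hx
    obtain ⟨c, hc, hcx⟩ := hx
    have : c = x := Subtype.ext hcx
    subst this
    exact ⟨α c, hCinv α hα c hc, rfl⟩
  · intro w hw
    have hwE : (w : Ω) ∈ E := hWE hw
    apply Subtype.ext
    have h1 := hT'e ⟨w, hwE⟩
    have h2 := hTW ⟨w, hwE⟩ (Subgroup.mem_subgroupOf.mpr hw)
    have h3 : (⟨((⟨w, hwE⟩ : E) : Ω), hES hwE⟩ : S) = w := Subtype.ext rfl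
    rw [h3, h2] at h1
    rw [h1]
    rfl
  · intro c hc
    obtain ⟨c', hc', hcc⟩ := hc
    apply Subtype.ext
    have h1 := hT'e c'
    rw [hTC c' hc'] at h1
    have : c = ⟨c', hES c'.2⟩ := Subtype.ext hcc.symm
    rw [this]
    exact h1
  · intro z hz
    have hzE := hZSE hz
    obtain ⟨w, hw, c, hc, hzwc⟩ := hdec ⟨z, hzE⟩ (hZfix ⟨z, hzE⟩ hz)
    exact ⟨w, Subgroup.mem_subgroupOf.mp hw, c, ⟨c, hc, rfl⟩, congrArg Subtype.val hzwc⟩
  · rintro x ⟨c, hc, rfl⟩ hxW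
    have := hdisj c hc (Subgroup.mem_subgroupOf.mpr hxW)
    rw [this]
    rfl


theorem map_eq_of_forall_mem {Ω : Type*} [Group Ω] {P : Subgroup Ω} [Finite P] (K : Subgroup Ω) (α : MulAut P)
    (h : ∀ x : P, (x : Ω) ∈ K → ((α x : P) : Ω) ∈ K) :
    (K.subgroupOf P).map α.toMonoidHom = K.subgroupOf P := by
  have hle : (K.subgroupOf P).map α.toMonoidHom ≤ K.subgroupOf P := by
    rintro _ ⟨x, hx, rfl⟩
    exact Subgroup.mem_subgroupOf.mpr (h x (Subgroup.mem_subgroupOf.mp hx))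
  apply Subgroup.eq_of_le_of_card_ge hle
  rw [Subgroup.card_map_of_injective (show Function.Injective α.toMonoidHom from α.injective)]

/-- The main theorem in terms of `W`. -/
theorem core_ne_bot {Ω : Type u} [Group Ω] {S : Subgroup Ω} [Finite S] (p : ℕ) [Fact p.Prime] (hp : Odd p)
    (hS : IsPGroup p S) (F : Cfsg.FusionSystem S) (hF : F.IsSaturated p)
    (W : Subgroup Ω) (hWcard : Nat.card W = p) (hWZ : W ≤ S ⊓ Subgroup.centralizer (S : Set Ω))
    (hWne : W ≠ S ⊓ Subgroup.centralizer (S : Set Ω))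
    (hcomm : ∀ x ∈ S, ∀ y ∈ S, ⁅x, y⁆ ∈ W) (hpow : ∀ x ∈ S, x ^ p ∈ W)
    (hnab : ∃ x ∈ S, ∃ y ∈ S, ⁅x, y⁆ ≠ 1) : F.core ≠ ⊥ := by
  classical
  have hpp : p.Prime := Fact.out
  intro hcore
  have hWS : W ≤ S := hWZ.trans inf_le_left
  obtain ⟨x₀, hx₀, y₀, hy₀, hxy₀⟩ := hnab
  have hZc : ∀ z ∈ S ⊓ Subgroup.centralizer (S : Set Ω), z ∈ S ∧ ∀ s ∈ S, z * s = s * z := fun z hz =>
    ⟨hz.1, fun s hs => (Subgroup.mem_centralizer_iff.mp hz.2 s hs).symm⟩
  have hWp : ∀ w ∈ W, w ^ p = 1 := by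
    intro w hw
    have : (⟨w, hw⟩ : W) ^ Nat.card W = 1 := pow_card_eq_one'
    rw [hWcard] at this
    exact congrArg Subtype.val this
  -- `W` is invariant under all automorphisms of `S`
  have hWinv : ∀ α : MulAut S, ∀ w : S, (w : Ω) ∈ W → ((α w : S) : Ω) ∈ W := by
    intro α w hw
    set WS : Subgroup S := W.subgroupOf S with hWS'
    have hWScard : Nat.card WS = p := by
      rw [Nat.card_congr (Subgroup.subgroupOfEquivOfLe hWS).toEquiv, hWcard]
    have hc : ∀ a b : S, ⁅a, b⁆ ∈ WS := by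
      intro a b
      rw [Subgroup.mem_subgroupOf]
      have : ((⁅a, b⁆ : S) : Ω) = ⁅(a : Ω), (b : Ω)⁆ := by
        rw [commutatorElement_def, commutatorElement_def]; push_cast; rfl
      rw [this]
      exact hcomm _ a.2 _ b.2
    have h1 : ⁅(⟨x₀, hx₀⟩ : S), (⟨y₀, hy₀⟩ : S)⁆ ≠ 1 := by
      intro h
      apply hxy₀
      have := congrArg (Subtype.val : S → Ω) h
      rw [commutatorElement_def] at this
      rw [commutatorElement_def]
      simpa using this
    have h1' : (⟨_, hc ⟨x₀, hx₀⟩ ⟨y₀, hy₀⟩⟩ : WS) ≠ 1 := fun h => h1 (congrArg Subtype.val h)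
    obtain ⟨k, hk⟩ := mem_powers_of_prime_card (G := WS) hWScard (g := ⟨_, hc ⟨x₀, hx₀⟩ ⟨y₀, hy₀⟩⟩)
      (g' := ⟨w, Subgroup.mem_subgroupOf.mpr hw⟩) h1'
    have hk' : ⁅(⟨x₀, hx₀⟩ : S), (⟨y₀, hy₀⟩ : S)⁆ ^ k = w := by simpa using congrArg Subtype.val hk
    rw [← hk', map_pow, map_commutatorElement]
    exact Subgroup.mem_subgroupOf.mp (WS.pow_mem (hc _ _) k)
  by_cases hex : ∃ E, F.IsEssential p E
  · obtain ⟨E₀, hE₀⟩ := hex
    obtain ⟨C, T₀, hCZ, hCE, hCinv, hT₀A, hT₀W, hT₀C, hdec, hdisj⟩ :=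
      essential_data p hp hS F hF W hWcard hWZ hcomm hpow E₀ hE₀
    have hCS : C ≤ S := hCZ.trans inf_le_left
    have hCnorm : F.IsNormal C := by
      refine Cfsg.Agent.Lib.Helper84.isNormal_of_forall_essential F hS hF C (fun P hP => ?_)
      rcases hP with hPS | hP
      · rw [hPS]
        refine ⟨hCS, fun α hα => ?_⟩
        apply map_eq_of_forall_mem
        intro x hx
        -- the image of `C`
        set C₂ : Subgroup Ω := ((C.subgroupOf S).map α.toMonoidHom).map S.subtype with hC₂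
        have hmemC₂ : ∀ c : S, (c : Ω) ∈ C₂ ↔ ∃ c' : S, (c' : Ω) ∈ C ∧ α c' = c := by
          intro c
          constructor
          · rintro ⟨c₁, ⟨c', hc', rfl⟩, hc₁⟩
            refine ⟨c', Subgroup.mem_subgroupOf.mp hc', ?_⟩
            exact Subtype.ext hc₁
          · rintro ⟨c', hc', rfl⟩
            exact ⟨α c', ⟨c', Subgroup.mem_subgroupOf.mpr hc', rfl⟩, rfl⟩
        have hC₂Z : ∀ c ∈ C₂, c ∈ S ∧ ∀ s ∈ S, c * s = s * c := by
          rintro _ ⟨c₁, ⟨c', hc', rfl⟩, rfl⟩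
          refine ⟨(α c').2, fun s hs => ?_⟩
          have h1 := (hZc _ (hCZ (Subgroup.mem_subgroupOf.mp hc'))).2 _ (α⁻¹ ⟨s, hs⟩).2
          have h2 : c' * α⁻¹ ⟨s, hs⟩ = α⁻¹ ⟨s, hs⟩ * c' := Subtype.ext h1
          have h3 := congrArg (fun y => ((α y : S) : Ω)) h2
          simpa using h3
        have hle : C₂ ≤ C := by
          refine complement_le_of_inverting hp hS F hF W C C₂ (fun w hw => hZc w (hWZ hw)) hC₂Z hCS hWp
            (fun c hc => hdec c ⟨(hC₂Z c hc).1, ?_⟩) T₀ (α * T₀ * α⁻¹) hT₀A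
            (Subgroup.mul_mem _ (Subgroup.mul_mem _ hα hT₀A) (Subgroup.inv_mem _ hα)) hT₀W hT₀C ?_ ?_
          · show c ∈ Subgroup.centralizer (S : Set Ω)
            rw [Subgroup.mem_centralizer_iff]
            intro s hs
            exact ((hC₂Z c hc).2 s hs).symm
          · intro w hw
            rw [MulAut.mul_apply, MulAut.mul_apply, hT₀W _ (hWinv α⁻¹ w hw), map_inv, MulAut.apply_inv_self]
          · intro c hc
            obtain ⟨c', hc', rfl⟩ := (hmemC₂ c).mp hc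
            rw [MulAut.mul_apply, MulAut.mul_apply, MulAut.inv_apply_self, hT₀C c' hc']
        exact hle ((hmemC₂ (α x)).mpr ⟨x, hx, rfl⟩)
      · obtain ⟨C', T₁, hC'Z, hC'E, hC'inv, hT₁A, hT₁W, hT₁C, hdec', hdisj'⟩ :=
          essential_data p hp hS F hF W hWcard hWZ hcomm hpow P hP
        have hC'S : C' ≤ S := hC'Z.trans inf_le_left
        have h1 : C' ≤ C :=
          complement_le_of_inverting hp hS F hF W C C' (fun w hw => hZc w (hWZ hw)) (fun c hc => hZc c (hC'Z hc))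
            hCS hWp (fun c hc => hdec c (hC'Z hc)) T₀ T₁ hT₀A hT₁A hT₀W hT₀C hT₁W hT₁C
        have h2 : C ≤ C' :=
          complement_le_of_inverting hp hS F hF W C' C (fun w hw => hZc w (hWZ hw)) (fun c hc => hZc c (hCZ hc))
            hC'S hWp (fun c hc => hdec' c (hCZ hc)) T₁ T₀ hT₁A hT₀A hT₁W hT₁C hT₀W hT₀C
        have heq : C = C' := le_antisymm h2 h1
        have hPfin : Finite P := Finite.of_injective (Subgroup.inclusion hP.1.1)
          (Subgroup.inclusion_injective hP.1.1)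
        refine ⟨heq ▸ hC'E, fun α hα => ?_⟩
        apply map_eq_of_forall_mem
        intro x hx
        rw [heq] at hx ⊢
        exact hC'inv α hα x hx
    have hCle : C ≤ F.core := Cfsg.Agent.Lib.Helper85.le_core_of_isNormal F hCnorm
    rw [hcore] at hCle
    apply hWne
    apply le_antisymm hWZ
    intro z hz
    obtain ⟨w, hw, c, hc, rfl⟩ := hdec z hz
    have : c = 1 := Subgroup.mem_bot.mp (hCle hc)
    rw [this, mul_one]
    exact hw
  · have hSnorm : F.IsNormal S := by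
      refine Cfsg.Agent.Lib.Helper84.isNormal_of_forall_essential F hS hF S (fun P hP => ?_)
      rcases hP with hPS | hP
      · rw [hPS]
        refine ⟨le_rfl, fun α _ => ?_⟩
        apply map_eq_of_forall_mem
        intro x _
        exact (α x).2
      · exact absurd ⟨P, hP⟩ hex
    have hSle := Cfsg.Agent.Lib.Helper85.le_core_of_isNormal F hSnorm
    rw [hcore] at hSle
    apply hxy₀
    have h1 : x₀ = 1 := Subgroup.mem_bot.mp (hSle hx₀)
    rw [h1, commutatorElement_one_left]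

/-- Let p be an odd prime, S a finite p-group containing an extraspecial subgroup Q of index p, and F a saturated fusion system over S whose largest subgroup normal in F is trivial. Then the centre of S equals the centre of Q. -/
theorem result {Ω : Type u} [Group Ω] {S : Subgroup Ω} [Finite S] (p : ℕ) [Fact p.Prime] (hp : Odd p) (hS : IsPGroup p S)
    (Q : Subgroup Ω) (hQS : Q ≤ S) (hQ : Cfsg.IsExtraspecial p ↥Q) (hQi : (Q.subgroupOf S).index = p)
    (F : Cfsg.FusionSystem S) (hF : F.IsSaturated p) (hO : F.core = ⊥) :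
    S ⊓ Subgroup.centralizer (S : Set Ω) = Q ⊓ Subgroup.centralizer (Q : Set Ω) := by
  by_contra hne
  obtain ⟨W, hWcard, hWZ, hWne, hcomm, hpow, hnab⟩ := structure_of_center_ne p hS Q hQS hQ hQi hne
  exact core_ne_bot p hp hS F hF W hWcard hWZ hWne hcomm hpow hnab hO

end Cfsg.Agent.S5178
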