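import Cfsg.Statements.S5179
import Cfsg.Agent.Lib.Helper86.Transvection
import Cfsg.Agent.Lib.Helper87.FusionCore

set_option autoImplicit false
universe u
open Cfsg

namespace Cfsg.Agent.S5179

open Cfsg.Agent.Lib.Helper86
open scoped commutatorElement

/-- Let p be an odd prime, S a finite p-group of order at least p⁶ containing an extraspecial subgroup Q of index p, and F a saturated fusion system over S whose largest subgroup normal in F is trivial. Then no proper subgroup of Q is essential in F: an essential subgroup of F contained in Q equals Q. -/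
theorem result {Ω : Type u} [Group Ω] {S : Subgroup Ω} [Finite S] (p : ℕ) [Fact p.Prime] (hp : Odd p) (hS : IsPGroup p S)
    (Q : Subgroup Ω) (hQS : Q ≤ S) (hQ : Cfsg.IsExtraspecial p ↥Q) (hQi : (Q.subgroupOf S).index = p)
    (h6 : p ^ 6 ≤ Nat.card S)
    (F : Cfsg.FusionSystem S) (hF : F.IsSaturated p) (hO : F.core = ⊥)
    (E : Subgroup Ω) (hEQ : E ≤ Q) (hE : F.IsEssential p E) : E = Q := by
  classical
  have hpp : p.Prime := Fact.out
  have hp0 : 0 < p := hpp.pos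
  obtain ⟨⟨hES, hcen⟩, hfn, hnorm, M, hM⟩ := hE
  obtain ⟨⟨hQp, hΦZ, hcZ⟩, hZcard⟩ := hQ
  have hQfin : Finite Q := Finite.of_injective (Subgroup.inclusion hQS) (Subgroup.inclusion_injective hQS)
  have hEfin : Finite E := Finite.of_injective (Subgroup.inclusion hES) (Subgroup.inclusion_injective hES)
  have hEp : IsPGroup p E := hS.to_le hES
  by_contra hne
  -- the order of `Q`
  have hQcard : p ^ 5 ≤ Nat.card Q := by
    have h1 := Subgroup.card_mul_index (Q.subgroupOf S)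
    rw [hQi, Nat.card_congr (Subgroup.subgroupOfEquivOfLe hQS).toEquiv] at h1
    rw [← h1] at h6
    have : p ^ 5 * p ≤ Nat.card Q * p := by rw [← pow_succ]; exact h6
    exact Nat.le_of_mul_le_mul_right this hp0
  -- the centre of `Q`
  set ZQ : Subgroup Ω := (Subgroup.center ↥Q).map Q.subtype with hZQ
  have hZQcard : Nat.card ZQ = p := by
    rw [hZQ, Subgroup.card_map_of_injective Q.subtype_injective, hZcard]
  have hZQQ : ZQ ≤ Q := by
    rintro _ ⟨z, -, rfl⟩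
    exact z.2
  have hZQc : ∀ z ∈ ZQ, ∀ q ∈ Q, z * q = q * z := by
    rintro _ ⟨z, hz, rfl⟩ q hq
    have := Subgroup.mem_center_iff.mp hz ⟨q, hq⟩
    exact (congrArg Subtype.val this).symm
  have hcomm : ∀ x ∈ Q, ∀ y ∈ Q, ⁅x, y⁆ ∈ ZQ := by
    intro x hx y hy
    have h1 : ⁅(⟨x, hx⟩ : Q), (⟨y, hy⟩ : Q)⁆ ∈ commutator ↥Q :=
      Subgroup.commutator_mem_commutator (Subgroup.mem_top _) (Subgroup.mem_top _)
    rw [hcZ] at h1
    exact ⟨_, h1, rfl⟩
  have hpow : ∀ x ∈ Q, x ^ p ∈ ZQ := by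
    intro x hx
    have h1 := (Cfsg.Agent.S0012.result p hQp).2 ⟨x, hx⟩
    rw [hΦZ] at h1
    exact ⟨_, h1, rfl⟩
  -- `Z(Q) ≤ E`
  have hZQE : ZQ ≤ E := by
    intro z hz
    apply hcen E (Cfsg.Agent.Lib.Helper87.isConj_refl F hES)
    show z ∈ S ⊓ Subgroup.centralizer (E : Set Ω)
    refine Subgroup.mem_inf.mpr ⟨hQS (hZQQ hz), ?_⟩
    rw [Subgroup.mem_centralizer_iff]
    intro e he
    exact (hZQc z hz e (hEQ he)).symm
  -- `Q` normalises `E`
  have hEn : ∀ g ∈ Q, ∀ e ∈ E, g * e * g⁻¹ ∈ E := by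
    intro g hg e he
    have h1 : g * e * g⁻¹ = ⁅g, e⁆ * e := by rw [commutatorElement_def]; group
    rw [h1]
    exact E.mul_mem (hZQE (hcomm g hg e (hEQ he))) he
  have hEn' : ∀ g ∈ Q, ∀ e ∈ E, g⁻¹ * e * g ∈ E := by
    intro g hg e he
    have := hEn g⁻¹ (Q.inv_mem hg) e he
    rwa [inv_inv] at this
  -- elements of `Q` outside `E` induce non-inner automorphisms
  have hnotinn : ∀ x (hx : x ∈ Q), x ∉ E → conjAutOfMem E x (hEn x hx) (hEn' x hx) ∉ Cfsg.Inn ↥E := by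
    rintro x hx hxE ⟨e₀, he₀⟩
    apply hxE
    have h1 : (e₀ : Ω)⁻¹ * x ∈ E := by
      apply hcen E (Cfsg.Agent.Lib.Helper87.isConj_refl F hES)
      show (e₀ : Ω)⁻¹ * x ∈ S ⊓ Subgroup.centralizer (E : Set Ω)
      refine Subgroup.mem_inf.mpr ⟨S.mul_mem (S.inv_mem (hES e₀.2)) (hQS hx), ?_⟩
      rw [Subgroup.mem_centralizer_iff]
      intro y hy
      have h2 := congrArg (fun φ : MulAut ↥E => ((φ ⟨y, hy⟩ : E) : Ω)) he₀
      simp only [MulAut.conj_apply, conjAutOfMem_apply] at h2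
      have h3 : (e₀ : Ω) * y * (e₀ : Ω)⁻¹ = x * y * x⁻¹ := by
        simpa using h2
      calc y * ((e₀ : Ω)⁻¹ * x) = (e₀ : Ω)⁻¹ * ((e₀ : Ω) * y * (e₀ : Ω)⁻¹) * x := by group
        _ = (e₀ : Ω)⁻¹ * (x * y * x⁻¹) * x := by rw [h3]
        _ = (e₀ : Ω)⁻¹ * x * y := by group
    have : x = (e₀ : Ω) * ((e₀ : Ω)⁻¹ * x) := by group
    rw [this]
    exact E.mul_mem e₀.2 h1
  have hmemU : ∀ x (hx : x ∈ Q), conjAutOfMem E x (hEn x hx) (hEn' x hx) ∈ autInducedBy Q E := by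
    intro x hx
    rw [Cfsg.Agent.Lib.Helper87.mem_autInducedBy_iff]
    exact ⟨x, hx, fun y => rfl⟩
  obtain ⟨x₀, hx₀Q, hx₀E⟩ : ∃ x₀ ∈ Q, x₀ ∉ E := by
    by_contra hcon
    push Not at hcon
    exact hne (le_antisymm hEQ hcon)
  refine false_of_transvections hEp (F.autGroup E) M hM (ZQ.subgroupOf E) ?_ ?_ ?_ (autInducedBy Q E) ?_ ?_ ?_
    ⟨_, hmemU x₀ hx₀Q, hnotinn x₀ hx₀Q hx₀E⟩ ?_
  · rw [Nat.card_congr (Subgroup.subgroupOfEquivOfLe hZQE).toEquiv, hZQcard]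
  · intro x
    rw [Subgroup.mem_subgroupOf]
    push_cast
    exact hpow _ (hEQ x.2)
  · intro x y
    rw [Subgroup.mem_subgroupOf]
    have : ((⁅x, y⁆ : E) : Ω) = ⁅(x : Ω), (y : Ω)⁆ := by
      rw [commutatorElement_def, commutatorElement_def]; push_cast; rfl
    rw [this]
    exact hcomm _ (hEQ x.2) _ (hEQ y.2)
  · intro φ hφ
    obtain ⟨g, hg, hgφ⟩ := Cfsg.Agent.Lib.Helper87.mem_autInducedBy_iff.1 hφ
    apply Cfsg.Agent.Lib.Helper87.autInducedBy_le_autGroup F hES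
    exact Cfsg.Agent.Lib.Helper87.mem_autInducedBy_iff.2 ⟨g, hQS hg, hgφ⟩
  · intro φ hφ e
    obtain ⟨g, hg, hgφ⟩ := Cfsg.Agent.Lib.Helper87.mem_autInducedBy_iff.1 hφ
    rw [Subgroup.mem_subgroupOf]
    have : ((e⁻¹ * φ e : E) : Ω) = ⁅(e : Ω)⁻¹, g⁆ := by
      rw [commutatorElement_def]
      push_cast
      rw [hgφ e]
      group
    rw [this]
    exact hcomm _ (Q.inv_mem (hEQ e.2)) _ hg
  · intro φ hφ z hz
    obtain ⟨g, hg, hgφ⟩ := Cfsg.Agent.Lib.Helper87.mem_autInducedBy_iff.1 hφ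
    apply Subtype.ext
    rw [hgφ z]
    rw [Subgroup.mem_subgroupOf] at hz
    rw [← hZQc _ hz g hg, mul_inv_cancel_right]
  · -- the elementary abelian case
    intro hab w
    have hwQ : (w : Ω) ∈ Q := hEQ w.2
    set w' : Q := ⟨w, hwQ⟩ with hw'
    have hwc : ∀ y : Q, ⁅w', y⁆ ∈ Subgroup.center ↥Q := fun y =>
      hcZ ▸ Subgroup.commutator_mem_commutator (Subgroup.mem_top _) (Subgroup.mem_top _)
    set φ := commHom w' hwc with hφ
    have hBidx : φ.ker.index ≤ p := by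
      rw [Subgroup.index_ker, ← hZcard]
      apply Subgroup.card_le_of_le
      rintro _ ⟨y, rfl⟩
      exact hwc y
    obtain ⟨x', hx'B, hx'E⟩ : ∃ x' ∈ φ.ker, (x' : Ω) ∉ E := by
      by_contra hcon
      push Not at hcon
      have hB : ∀ a ∈ φ.ker, ∀ b ∈ φ.ker, a * b = b * a := by
        intro a ha b hb
        have h1 := hab ⟨a, hcon a ha⟩ ⟨b, hcon b hb⟩
        have h2 : ((a : Ω)) * (b : Ω) = (b : Ω) * (a : Ω) := congrArg (Subtype.val : E → Ω) h1
        apply Subtype.ext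
        exact h2
      have := card_le_of_abelian_of_index_le hQp hcZ.le hZcard φ.ker hB hBidx
      have h35 : p ^ 3 < p ^ 5 := Nat.pow_lt_pow_right hpp.one_lt (by norm_num)
      omega
    have hx'w : (w : Ω) * x' = x' * w := by
      have := (mem_commHom_ker w' hwc x').mp hx'B
      exact congrArg Subtype.val this
    refine ⟨_, hmemU x' x'.2, hnotinn x' x'.2 hx'E, ?_⟩
    apply Subtype.ext
    rw [conjAutOfMem_apply, ← hx'w, mul_inv_cancel_right]

end Cfsg.Agent.S5179
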