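import Cfsg.Statements.S5186
import Cfsg.Agent.Lib.Helper86.EssChain
import Cfsg.Agent.Lib.Helper24.PGroupBasic
import Cfsg.Agent.Lib.Helper96.ElemAb

set_option autoImplicit false
universe u
open Cfsg

namespace Cfsg.Agent.S5186

open Cfsg.Agent.Lib.Helper86
open scoped commutatorElement

/-- the chain `G > B > Φ(G) > 1` for a group of order `p ^ 3` -/
theorem false_of_mid {G : Type*} [Group G] [Finite G] {p : ℕ} [hp : Fact p.Prime] (hcard : Nat.card G = p ^ 3)
    (hΦ : Nat.card (frattini G) = p)
    (A : Subgroup (MulAut G)) [hn : ((Cfsg.Inn G).subgroupOf A).Normal]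
    (E : Subgroup (A ⧸ (Cfsg.Inn G).subgroupOf A)) (hE : IsStronglyPEmbedded p E)
    (B : Subgroup G) [hBn : B.Normal] (hBidx : B.index = p) (hΦB : frattini G ≤ B)
    (hBinv : ∀ α ∈ A, ∀ x ∈ B, α x ∈ B) : False := by
  have hG : IsPGroup p G := IsPGroup.of_card hcard
  have hp0 : 0 < p := hp.out.pos
  have hΦidx : (frattini G).index = p ^ 2 := by
    have := Subgroup.card_mul_index (frattini G)
    rw [hΦ, hcard] at this
    apply Nat.eq_of_mul_eq_mul_left hp0
    rw [this]; ring
  have hrel : (frattini G).relIndex B = p := by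
    have := Subgroup.relIndex_mul_index hΦB
    rw [hBidx, hΦidx] at this
    apply Nat.eq_of_mul_eq_mul_right hp0
    rw [this]; ring
  let c : ℕ → Subgroup G := fun j => match j with
    | 0 => ⊤
    | 1 => B
    | 2 => frattini G
    | _ => ⊥
  apply false_of_chain hG A E hE 3 c rfl rfl
  · intro j hj
    interval_cases j
    · show (⊤ : Subgroup G).Normal; infer_instance
    · exact hBn
    · show (frattini G).Normal; infer_instance
    · show (⊥ : Subgroup G).Normal; infer_instance
  · intro j hj
    interval_cases j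
    · show B.relIndex ⊤ = p
      rw [Subgroup.relIndex_top_right]; exact hBidx
    · exact hrel
    · show (⊥ : Subgroup G).relIndex (frattini G) = p
      rw [Subgroup.relIndex_bot_left]; exact hΦ
  · intro j hj α hα x hx
    interval_cases j
    · trivial
    · exact hBinv α hα x hx
    · exact frattini_apply_mem α x hx
    · have hx' : x ∈ (⊥ : Subgroup G) := hx
      show α x ∈ (⊥ : Subgroup G)
      rw [Subgroup.mem_bot] at hx' ⊢; rw [hx', map_one]

theorem false_of_pow_hom {G : Type*} [Group G] [Finite G] {p : ℕ} [hp : Fact p.Prime] (hcard : Nat.card G = p ^ 3)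
    (hΦ : Nat.card (frattini G) = p)
    (A : Subgroup (MulAut G)) [hn : ((Cfsg.Inn G).subgroupOf A).Normal]
    (E : Subgroup (A ⧸ (Cfsg.Inn G).subgroupOf A)) (hE : IsStronglyPEmbedded p E)
    (hmul : ∀ x y : G, (x * y) ^ p = x ^ p * y ^ p) (hne : ∃ x : G, x ^ p ≠ 1) : False := by
  have hG : IsPGroup p G := IsPGroup.of_card hcard
  obtain ⟨-, hpow⟩ := Cfsg.Agent.S0012.result p hG
  let f : G →* G := MonoidHom.mk' (fun x => x ^ p) hmul
  have hf : ∀ x, f x = x ^ p := fun x => rfl
  have hrange : f.range ≤ frattini G := by rintro _ ⟨x, rfl⟩; exact hpow x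
  have hrange_card : Nat.card f.range = p := by
    have h1 : Nat.card f.range ∣ p := hΦ ▸ Subgroup.card_dvd_of_le hrange
    rcases (Nat.dvd_prime hp.out).mp h1 with h | h
    · exfalso
      obtain ⟨x, hx⟩ := hne
      apply hx
      have h2 := Subgroup.card_eq_one.mp h
      have hx' : f x ∈ f.range := ⟨x, rfl⟩
      rw [h2, Subgroup.mem_bot] at hx'
      exact hx'
    · exact h
  have hKidx : f.ker.index = p := by rw [Subgroup.index_ker, hrange_card]
  have hΦK : frattini G ≤ f.ker := by
    intro x hx
    rw [MonoidHom.mem_ker, hf]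
    have : (⟨x, hx⟩ : frattini G) ^ p = 1 := by rw [← hΦ]; exact pow_card_eq_one'
    exact congrArg Subtype.val this
  refine false_of_mid hcard hΦ A E hE f.ker hKidx hΦK ?_
  intro α hα x hx
  rw [MonoidHom.mem_ker, hf] at hx ⊢
  rw [← map_pow, hx, map_one]


theorem special_of_nonabelian {G : Type u} [Group G] [Finite G] {p : ℕ} [hp : Fact p.Prime] (hcard : Nat.card G = p ^ 3)
    (hΦ : Nat.card (frattini G) = p) (hnab : ∃ a b : G, a * b ≠ b * a) :
    frattini G = Subgroup.center G ∧ commutator G = Subgroup.center G := by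
  have hG : IsPGroup p G := IsPGroup.of_card hcard
  have hp1 : 1 < p := hp.out.one_lt
  obtain ⟨hcomm, hpow⟩ := Cfsg.Agent.S0012.result p hG
  have hc_ne : commutator G ≠ ⊥ := by
    intro h
    obtain ⟨a, b, hab⟩ := hnab
    apply hab
    have : ⁅a, b⁆ ∈ commutator G := Subgroup.commutator_mem_commutator (Subgroup.mem_top a) (Subgroup.mem_top b)
    rw [h, Subgroup.mem_bot] at this
    exact commutatorElement_eq_one_iff_mul_comm.mp this
  have hc_eq : commutator G = frattini G := by
    apply Subgroup.eq_of_le_of_card_ge hcomm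
    rw [hΦ]
    have h1 : Nat.card (commutator G) ∣ p := hΦ ▸ Subgroup.card_dvd_of_le hcomm
    rcases (Nat.dvd_prime hp.out).mp h1 with h | h
    · exact absurd (Subgroup.card_eq_one.mp h) hc_ne
    · exact h.ge
  have hnt : Nontrivial G := by
    obtain ⟨a, b, hab⟩ := hnab
    exact ⟨⟨a * b, b * a, hab⟩⟩
  have hZnt : Nontrivial (Subgroup.center G) := hG.center_nontrivial
  have hZ1 : Nat.card (Subgroup.center G) ≠ 1 := by
    intro h
    have := Subgroup.card_eq_one.mp h
    exact (Subgroup.nontrivial_iff_ne_bot _).mp hZnt this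
  obtain ⟨k, hk3, hk⟩ := (Nat.dvd_prime_pow hp.out).mp (hcard ▸ Subgroup.card_subgroup_dvd_card (Subgroup.center G))
  have hk0 : k ≠ 0 := by
    rintro rfl
    exact hZ1 (by rw [hk, pow_zero])
  have hidx : (Subgroup.center G).index = p ^ (3 - k) := by
    have := Subgroup.card_mul_index (Subgroup.center G)
    rw [hk, hcard] at this
    apply Nat.eq_of_mul_eq_mul_left (pow_pos hp.out.pos k)
    rw [this, ← pow_add]; congr 1; omega
  have hk1 : k = 1 := by
    by_contra hne
    have hk2 : k = 2 ∨ k = 3 := by omega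
    obtain ⟨a, b, hab⟩ := hnab
    apply hab
    rcases hk2 with rfl | rfl
    · have hc : Nat.card (G ⧸ Subgroup.center G) = p := by
        rw [← Subgroup.index_eq_card, hidx]; simp
      have : IsCyclic (G ⧸ Subgroup.center G) := isCyclic_of_prime_card hc
      exact ((QuotientGroup.mk' (Subgroup.center G)).isMulCommutative_of_isCyclic_of_ker_le_center
        (by rw [QuotientGroup.ker_mk'])).is_comm.comm a b
    · have : Subgroup.center G = ⊤ := by
        apply Subgroup.eq_top_of_card_eq
        rw [hk, hcard]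
      have ha : a ∈ Subgroup.center G := by rw [this]; trivial
      exact (Subgroup.mem_center_iff.mp ha b).symm
  subst hk1
  have hqc : Nat.card (G ⧸ Subgroup.center G) = p ^ 2 := by
    rw [← Subgroup.index_eq_card, hidx]
  have hqcomm : IsMulCommutative (G ⧸ Subgroup.center G) := IsPGroup.isMulCommutative_of_card_eq_prime_sq hqc
  have hcZ : commutator G ≤ Subgroup.center G := Subgroup.Normal.quotient_commutative_iff_commutator_le.mp hqcomm
  have hcZ' : commutator G = Subgroup.center G := by
    apply Subgroup.eq_of_le_of_card_ge hcZ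
    rw [hk, hc_eq, hΦ, pow_one]
  exact ⟨hc_eq ▸ hcZ', hcZ'⟩


theorem quaternion_of_relations {G : Type*} [Group G] [Finite G] (hcard : Nat.card G = 8) (a b : G)
    (ha : orderOf a = 4) (hb : b ^ 2 = a ^ 2) (hba : b * a * b⁻¹ = a⁻¹) (hbB : b ∉ Subgroup.zpowers a) :
    Nonempty (G ≃* QuaternionGroup 2) := by
  have ha4 : a ^ 4 = 1 := by rw [← ha]; exact pow_orderOf_eq_one a
  let e : ZMod (2 * 2) → G := fun i => a ^ i.val
  have he : ∀ i, e i = a ^ i.val := fun i => rfl
  have he_add : ∀ i j, e (i + j) = e i * e j := by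
    intro i j
    rw [he, he, he, ZMod.val_add, ← pow_add]
    have := pow_mod_orderOf a (i.val + j.val)
    rw [ha] at this
    exact this
  have he_sub : ∀ i j, e (i - j) = e i * (e j)⁻¹ := by
    intro i j
    have := he_add (i - j) j
    rw [sub_add_cancel] at this
    rw [this, mul_inv_cancel_right]
  have hc : ∀ i j, Commute (e i) (e j) := by
    intro i j
    show e i * e j = e j * e i
    rw [← he_add, ← he_add, add_comm]
  have hab : a * b = b * a⁻¹ := by
    have h1 : b * a = a⁻¹ * b := mul_inv_eq_iff_eq_mul.mp hba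
    calc a * b = a * (b * a) * a⁻¹ := by group
      _ = a * (a⁻¹ * b) * a⁻¹ := by rw [h1]
      _ = b * a⁻¹ := by group
  have hpow : ∀ n : ℕ, a ^ n * b = b * (a ^ n)⁻¹ := by
    intro n
    induction n with
    | zero => simp
    | succ n ih =>
      calc a ^ (n + 1) * b = a ^ n * (a * b) := by rw [pow_succ, mul_assoc]
        _ = a ^ n * (b * a⁻¹) := by rw [hab]
        _ = (a ^ n * b) * a⁻¹ := by rw [mul_assoc]
        _ = b * (a ^ n)⁻¹ * a⁻¹ := by rw [ih]
        _ = b * (a ^ (n + 1))⁻¹ := by rw [pow_succ', mul_inv_rev, mul_assoc]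
  have hconj : ∀ i, e i * b = b * (e i)⁻¹ := fun i => hpow _
  have he2 : e ((2 : ℕ) : ZMod (2 * 2)) = a ^ 2 := by
    rw [he]; rfl
  -- the map
  let φ : QuaternionGroup 2 → G := fun u => match u with
    | QuaternionGroup.a i => e i
    | QuaternionGroup.xa i => b * e i
  have hφmul : ∀ u v, φ (u * v) = φ u * φ v := by
    rintro (i | i) (j | j)
    · show e (i + j) = e i * e j
      exact he_add i j
    · show b * e (j - i) = e i * (b * e j)
      rw [he_sub, ← mul_assoc (e i), hconj, mul_assoc, ((hc i j).inv_left).eq]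
    · show b * e (i + j) = b * e i * e j
      rw [he_add, mul_assoc]
    · show e (((2 : ℕ) : ZMod (2 * 2)) + j - i) = b * e i * (b * e j)
      rw [he_sub, he_add, he2, ← hb]
      calc b ^ 2 * e j * (e i)⁻¹ = b * (b * (e i)⁻¹) * e j := by
            rw [mul_assoc, ((hc i j).inv_left).eq.symm, pow_two]; simp only [mul_assoc]
        _ = b * (e i * b) * e j := by rw [hconj]
        _ = b * e i * (b * e j) := by simp only [mul_assoc]
  let Φ : QuaternionGroup 2 →* G := MonoidHom.mk' φ hφmul
  have hinj : Function.Injective Φ := by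
    rw [injective_iff_map_eq_one]
    rintro (i | i) hi
    · have h1 : a ^ i.val = 1 := hi
      have h2 : orderOf a ∣ i.val := orderOf_dvd_of_pow_eq_one h1
      rw [ha] at h2
      have h3 : i.val < 4 := ZMod.val_lt i
      have h4 : i.val = 0 := Nat.eq_zero_of_dvd_of_lt h2 h3
      have h5 : i = 0 := (ZMod.val_eq_zero i).mp h4
      rw [h5]; rfl
    · exfalso
      apply hbB
      have h1 : b * a ^ i.val = 1 := hi
      have h2 : b = (a ^ i.val)⁻¹ := eq_inv_of_mul_eq_one_left h1
      rw [h2]
      exact Subgroup.inv_mem _ (Subgroup.pow_mem _ (Subgroup.mem_zpowers a) _)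
  have hbij : Function.Bijective Φ := by
    rw [Nat.bijective_iff_injective_and_card]
    refine ⟨hinj, ?_⟩
    rw [Nat.card_eq_fintype_card, QuaternionGroup.card, hcard]
  exact ⟨(MulEquiv.ofBijective Φ hbij).symm⟩

theorem order_eight {G : Type u} [Group G] [Finite G] (hcard : Nat.card G = 2 ^ 3)
    (hΦ : Nat.card (frattini G) = 2) (hnab : ∃ a b : G, a * b ≠ b * a)
    (A : Subgroup (MulAut G)) [hn : ((Cfsg.Inn G).subgroupOf A).Normal]
    (E : Subgroup (A ⧸ (Cfsg.Inn G).subgroupOf A)) (hE : IsStronglyPEmbedded 2 E) :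
    Nonempty (G ≃* QuaternionGroup 2) := by
  classical
  have : Fact (Nat.Prime 2) := ⟨Nat.prime_two⟩
  have hG : IsPGroup 2 G := IsPGroup.of_card hcard
  obtain ⟨hΦZ, hcZ⟩ := special_of_nonabelian hcard hΦ hnab
  obtain ⟨-, hpow⟩ := Cfsg.Agent.S0012.result 2 hG
  have hZcard : Nat.card (Subgroup.center G) = 2 := hΦZ ▸ hΦ
  have hsq : ∀ x : G, x ^ 2 ∈ Subgroup.center G := fun x => hΦZ ▸ hpow x
  -- the central involution
  obtain ⟨z, hzZ, hz1, hzall⟩ : ∃ z ∈ Subgroup.center G, z ≠ 1 ∧ ∀ w ∈ Subgroup.center G, w = 1 ∨ w = z := by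
    obtain ⟨⟨z, hz⟩, hz1, hzu⟩ := (Nat.card_eq_two_iff' (1 : Subgroup.center G)).mp hZcard
    refine ⟨z, hz, fun h => hz1 (Subtype.ext h), fun w hw => ?_⟩
    by_cases hw1 : w = 1
    · left; exact hw1
    · right
      have := hzu ⟨w, hw⟩ (fun h => hw1 (congrArg Subtype.val h))
      exact congrArg Subtype.val this
  have hz2 : z ^ 2 = 1 := by
    have : (⟨z, hzZ⟩ : Subgroup.center G) ^ 2 = 1 := by rw [← hZcard]; exact pow_card_eq_one'
    exact congrArg Subtype.val this
  have hfour : ∀ a : G, a ^ 2 = z → a ^ 4 = 1 := by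
    intro a ha
    have : a ^ 4 = (a ^ 2) ^ 2 := by rw [← pow_mul]
    rw [this, ha, hz2]
  have hord : ∀ a : G, a ^ 2 = z → orderOf a = 4 := by
    intro a ha
    have h1 : ¬ a ^ 2 ^ 1 = 1 := by rw [pow_one, ha]; exact hz1
    have h2 : a ^ 2 ^ (1 + 1) = 1 := hfour a ha
    exact orderOf_eq_prime_pow h1 h2
  have hidx : ∀ a : G, a ^ 2 = z → (Subgroup.zpowers a).index = 2 := by
    intro a ha
    have := Subgroup.card_mul_index (Subgroup.zpowers a)
    rw [Nat.card_zpowers, hord a ha, hcard] at this
    omega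
  -- an element of the center squares to one
  have hZsq : ∀ w ∈ Subgroup.center G, w ^ 2 = 1 := by
    intro w hw
    rcases hzall w hw with h | h
    · rw [h, one_pow]
    · rw [h, hz2]
  -- inversion lemma
  have hinvl : ∀ a t : G, a ^ 2 = z → t ∉ Subgroup.zpowers a → t * a * t⁻¹ = a⁻¹ := by
    intro a t ha ht
    have hcomm : ⁅t, a⁆ ∈ Subgroup.center G :=
      hcZ ▸ Subgroup.commutator_mem_commutator (Subgroup.mem_top t) (Subgroup.mem_top a)
    rcases hzall _ hcomm with h | h
    · exfalso
      have hta : t * a = a * t := commutatorElement_eq_one_iff_mul_comm.mp h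
      have hK : Subgroup.centralizer {a} = ⊤ := by
        apply eq_top_of_index_prime (Subgroup.zpowers a) _ ?_ (hidx a ha) t ?_ ht
        · rw [Subgroup.zpowers_le]
          exact Subgroup.mem_centralizer_singleton_iff.mpr rfl
        · exact Subgroup.mem_centralizer_singleton_iff.mpr hta
      have haZ : a ∈ Subgroup.center G := by
        rw [Subgroup.mem_center_iff]; intro g
        have : g ∈ Subgroup.centralizer {a} := hK ▸ Subgroup.mem_top g
        exact Subgroup.mem_centralizer_singleton_iff.mp this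
      have := hZsq a haZ
      rw [ha] at this
      exact hz1 this
    · rw [commutatorElement_def] at h
      have h4 := hfour a ha
      calc t * a * t⁻¹ = (t * a * t⁻¹ * a⁻¹) * a := by group
        _ = a ^ 2 * a := by rw [h, ha]
        _ = a⁻¹ := by
          rw [← pow_succ]
          apply eq_inv_of_mul_eq_one_left
          rw [← pow_succ]; exact h4
  by_cases hinv : ∃ t : G, t ∉ Subgroup.center G ∧ t ^ 2 = 1
  · -- dihedral case: contradiction
    exfalso
    obtain ⟨t, htZ, ht2⟩ := hinv
    obtain ⟨a, ha⟩ : ∃ a : G, a ^ 2 ≠ 1 := by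
      by_contra hcon
      push Not at hcon
      obtain ⟨x, y, hxy⟩ := hnab
      apply hxy
      have h1 := hcon (x * y)
      have hx := hcon x
      have hy := hcon y
      have hxi : x⁻¹ = x := by rw [inv_eq_iff_mul_eq_one, ← pow_two]; exact hx
      have hyi : y⁻¹ = y := by rw [inv_eq_iff_mul_eq_one, ← pow_two]; exact hy
      have h2 : (x * y)⁻¹ = x * y := by rw [inv_eq_iff_mul_eq_one, ← pow_two]; exact h1
      rw [mul_inv_rev, hxi, hyi] at h2
      exact h2.symm
    have haz : a ^ 2 = z := by
      rcases hzall _ (hsq a) with h | h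
      · exact absurd h ha
      · exact h
    set B := Subgroup.zpowers a with hB
    have hBidx : B.index = 2 := hidx a haz
    have hBn : B.Normal := Subgroup.normal_of_index_eq_two hBidx
    have htB : t ∉ B := by
      intro htB
      rw [hB, mem_zpowers_iff_mem_range_orderOf, hord a haz] at htB
      simp only [Finset.mem_image, Finset.mem_range] at htB
      obtain ⟨k, hk, rfl⟩ := htB
      interval_cases k
      · apply htZ; rw [pow_zero]; exact Subgroup.one_mem _
      · rw [pow_one] at ht2; exact ha ht2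
      · apply htZ; rw [haz]; exact hzZ
      · have : (a ^ 3) ^ 2 = a ^ 4 * a ^ 2 := by rw [← pow_mul, ← pow_add]
        rw [this, hfour a haz, one_mul] at ht2
        exact ha ht2
    have hta := hinvl a t haz htB
    have hclaim : ∀ x : G, x ∉ B → x ^ 2 = 1 := by
      intro x hx
      have h1 : x * t⁻¹ ∈ B := by
        rw [Subgroup.mul_mem_iff_of_index_two hBidx]
        constructor
        · intro h; exact absurd h hx
        · intro h; exact absurd (B.inv_mem_iff.mp h) htB
      obtain ⟨k, hk⟩ := Subgroup.mem_zpowers_iff.mp h1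
      have hx' : x = a ^ k * t := by rw [hk]; group
      have h2 : t * a ^ k * t⁻¹ = (a ^ k)⁻¹ := by
        rw [← conj_zpow, hta, inv_zpow]
      have htinv : t⁻¹ = t := by rw [inv_eq_iff_mul_eq_one, ← pow_two]; exact ht2
      calc x ^ 2 = a ^ k * t * (a ^ k * t) := by rw [hx', pow_two]
        _ = a ^ k * (t * a ^ k * t⁻¹) * (t * t) := by group
        _ = 1 := by rw [h2, mul_inv_cancel, one_mul, ← pow_two, ht2]
    refine false_of_mid hcard hΦ A E hE B hBidx ?_ ?_
    · rw [hΦZ]
      intro w hw
      rcases hzall w hw with h | h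
      · rw [h]; exact B.one_mem
      · rw [h, ← haz]; exact Subgroup.pow_mem _ (Subgroup.mem_zpowers a) 2
    · intro α _ x hx
      obtain ⟨k, rfl⟩ := Subgroup.mem_zpowers_iff.mp hx
      rw [map_zpow]
      apply Subgroup.zpow_mem
      by_contra hαa
      have h1 := hclaim _ hαa
      rw [← map_pow, haz] at h1
      apply hz1
      have : α z = α 1 := by rw [h1, map_one]
      exact α.injective this
  · -- quaternion case
    push Not at hinv
    have hZtop : Subgroup.center G ≠ ⊤ := by
      intro h
      obtain ⟨x, y, hxy⟩ := hnab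
      apply hxy
      have hx : x ∈ Subgroup.center G := h ▸ Subgroup.mem_top x
      exact (Subgroup.mem_center_iff.mp hx y).symm
    obtain ⟨a, haZ⟩ : ∃ a : G, a ∉ Subgroup.center G := by
      by_contra hcon
      push Not at hcon
      exact hZtop (eq_top_iff.mpr fun x _ => hcon x)
    have haz : a ^ 2 = z := by
      rcases hzall _ (hsq a) with h | h
      · exact absurd h (hinv a haZ)
      · exact h
    have hBidx := hidx a haz
    obtain ⟨b, hbB⟩ : ∃ b : G, b ∉ Subgroup.zpowers a := by
      by_contra hcon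
      push Not at hcon
      have : Subgroup.zpowers a = ⊤ := eq_top_iff.mpr fun x _ => hcon x
      rw [this, Subgroup.index_top] at hBidx
      omega
    have hbZ : b ∉ Subgroup.center G := by
      intro h
      apply hbB
      rcases hzall b h with h1 | h1
      · rw [h1]; exact Subgroup.one_mem _
      · rw [h1, ← haz]; exact Subgroup.pow_mem _ (Subgroup.mem_zpowers a) 2
    have hbz : b ^ 2 = z := by
      rcases hzall _ (hsq b) with h | h
      · exact absurd h (hinv b hbZ)
      · exact h
    exact quaternion_of_relations (by rw [hcard]; norm_num) a b (hord a haz) (by rw [hbz, haz])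
      (hinvl a b haz hbB) hbB


theorem mul_pow_of_special {G : Type u} [Group G] [Finite G] {p : ℕ} [hp : Fact p.Prime] (hodd : p ≠ 2)
    (hZ : Nat.card (Subgroup.center G) = p) (hc : commutator G = Subgroup.center G) (x y : G) :
    (x * y) ^ p = x ^ p * y ^ p := by
  set z := ⁅y, x⁆ with hz
  have hzZ : z ∈ Subgroup.center G :=
    hc ▸ Subgroup.commutator_mem_commutator (Subgroup.mem_top y) (Subgroup.mem_top x)
  have hzp : z ^ p = 1 := by
    have : (⟨z, hzZ⟩ : Subgroup.center G) ^ p = 1 := by rw [← hZ]; exact pow_card_eq_one'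
    exact congrArg Subtype.val this
  have h1 : y * x = z * x * y := by rw [hz, commutatorElement_def]; group
  have h2 := Cfsg.Agent.Lib.Helper24.mul_pow_of_central_comm x y z h1
    (Subgroup.mem_center_iff.mp hzZ x).symm (Subgroup.mem_center_iff.mp hzZ y).symm p
  rw [h2]
  have hdvd : p ∣ p.choose 2 :=
    hp.out.dvd_choose_self (by norm_num) (lt_of_le_of_ne hp.out.two_le (Ne.symm hodd))
  obtain ⟨m, hm⟩ := hdvd
  rw [hm, pow_mul, hzp, one_pow, mul_one]

/-- The group-theoretic core: a group `G` of order `p ^ 3` and a group `A` of automorphisms such that `A / Inn(G)`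
has a strongly `p`-embedded subgroup. -/
theorem core {G : Type u} [Group G] [Finite G] (p : ℕ) [hp : Fact p.Prime] (hcard : Nat.card G = p ^ 3)
    (A : Subgroup (MulAut G)) [hn : ((Cfsg.Inn G).subgroupOf A).Normal]
    (E : Subgroup (A ⧸ (Cfsg.Inn G).subgroupOf A)) (hE : IsStronglyPEmbedded p E) :
    ((∀ a b : G, a * b = b * a) ∧ ∀ x : G, x ^ p = 1) ∨
      (Odd p ∧ Cfsg.IsExtraspecial p G ∧ ∀ x : G, x ^ p = 1) ∨
      (p = 2 ∧ Nonempty (G ≃* QuaternionGroup 2)) := by
  classical
  have hG : IsPGroup p G := IsPGroup.of_card hcard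
  have hp1 := hp.out.one_lt
  have hnt : Nontrivial G := by
    apply (Finite.one_lt_card_iff_nontrivial).mp
    rw [hcard]; exact Nat.one_lt_pow (by norm_num) hp1
  obtain ⟨hcomm, hpow⟩ := Cfsg.Agent.S0012.result p hG
  obtain ⟨k, hk3, hk⟩ := (Nat.dvd_prime_pow hp.out).mp (hcard ▸ Subgroup.card_subgroup_dvd_card (frattini G))
  have hidx : (frattini G).index = p ^ (3 - k) := by
    have := Subgroup.card_mul_index (frattini G)
    rw [hk, hcard] at this
    apply Nat.eq_of_mul_eq_mul_left (pow_pos hp.out.pos k)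
    rw [this, ← pow_add]; congr 1; omega
  interval_cases k
  · left
    have hbot : frattini G = ⊥ := Subgroup.card_eq_one.mp (by rw [hk, pow_zero])
    constructor
    · intro a b
      have h1 : ⁅a, b⁆ ∈ commutator G :=
        Subgroup.commutator_mem_commutator (Subgroup.mem_top a) (Subgroup.mem_top b)
      have h2 := hcomm h1
      rw [hbot, Subgroup.mem_bot] at h2
      exact commutatorElement_eq_one_iff_mul_comm.mp h2
    · intro x
      have := hpow x
      rwa [hbot, Subgroup.mem_bot] at this
  · rw [pow_one] at hk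
    by_cases hab : ∀ a b : G, a * b = b * a
    · exfalso
      have hmul : ∀ x y : G, (x * y) ^ p = x ^ p * y ^ p := fun x y => Commute.mul_pow (hab x y) p
      apply false_of_pow_hom hcard hk A E hE hmul
      by_contra hcon
      push Not at hcon
      have hbot : frattini G = ⊥ := Cfsg.Agent.Lib.Helper96.frattini_eq_bot_of_elemAb p hab hcon
      rw [hbot, Subgroup.card_bot] at hk
      omega
    · push Not at hab
      obtain ⟨hΦZ, hcZ⟩ := special_of_nonabelian hcard hk hab
      have hZcard : Nat.card (Subgroup.center G) = p := hΦZ ▸ hk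
      have hex : Cfsg.IsExtraspecial p G := ⟨⟨hG, hΦZ, hcZ⟩, hZcard⟩
      by_cases h2 : p = 2
      · subst h2
        right; right
        exact ⟨rfl, order_eight hcard hk hab A E hE⟩
      · have hodd : Odd p := hp.out.odd_of_ne_two h2
        have hmul := mul_pow_of_special h2 hZcard hcZ
        by_cases hexp : ∀ x : G, x ^ p = 1
        · right; left
          exact ⟨hodd, hex, hexp⟩
        · push Not at hexp
          exact (false_of_pow_hom hcard hk A E hE hmul hexp).elim
  · exfalso
    have h1 : (frattini G).index = p := by rw [hidx]; simp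
    exact false_of_cyclic (isCyclic_of_frattini_index_prime h1) A E hE
  · exfalso
    apply frattini_ne_top (G := G)
    apply Subgroup.eq_top_of_card_eq
    rw [hk, hcard]

/-- Let F be a saturated fusion system over a finite p-group S and H an essential subgroup of order p³. Then H is elementary abelian, or p is odd and H is extraspecial of exponent p, or p = 2 and H is the quaternion group of order 8. -/
theorem result {Ω : Type u} [Group Ω] {S : Subgroup Ω} [Finite S] (p : ℕ) [Fact p.Prime] (hS : IsPGroup p S)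
    (F : Cfsg.FusionSystem S) (hF : F.IsSaturated p) (H : Subgroup Ω) (hH : F.IsEssential p H) (hcard : Nat.card H = p ^ 3) :
    Cfsg.IsElementaryAbelian p H ∨ (Odd p ∧ Cfsg.IsExtraspecial p ↥H ∧ ∀ x ∈ H, x ^ p = 1) ∨
      (p = 2 ∧ Nonempty (↥H ≃* QuaternionGroup 2)) := by
  classical
  have hp : p.Prime := Fact.out
  obtain ⟨hcen, hfn, hnorm, E, hE⟩ := hH
  have hHfin : Finite H := Nat.finite_of_card_ne_zero (by rw [hcard]; exact pow_ne_zero 3 hp.ne_zero)
  rcases core p hcard (F.autGroup H) E hE with ⟨h1, h2⟩ | ⟨h1, h2, h3⟩ | ⟨h1, h2⟩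
  · left
    refine ⟨⟨⟨h1⟩⟩, fun x hx => ?_⟩
    exact congrArg Subtype.val (h2 ⟨x, hx⟩)
  · right; left
    refine ⟨h1, h2, fun x hx => ?_⟩
    exact congrArg Subtype.val (h3 ⟨x, hx⟩)
  · right; right
    exact ⟨h1, h2⟩

end Cfsg.Agent.S5186
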