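import Cfsg.Statements.S5187
import Cfsg.Agent.Lib.Helper86.AbelianEss

set_option autoImplicit false
universe u
open Cfsg

namespace Cfsg.Agent.S5187

open Cfsg.Agent.Lib.Helper86

/-- The group-theoretic core: a finite abelian `p`-group `G` with `|G : Φ(G)| ≤ p²` and a group `A` of automorphisms such
that `A / Inn(G)` has a strongly `p`-embedded subgroup. -/
theorem comm_core {G : Type u} [CommGroup G] [Finite G] (p : ℕ) [hp : Fact p.Prime] (hG : IsPGroup p G)
    (A : Subgroup (MulAut G)) [hn : ((Cfsg.Inn G).subgroupOf A).Normal]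
    (E : Subgroup (A ⧸ (Cfsg.Inn G).subgroupOf A)) (hE : IsStronglyPEmbedded p E)
    (hrk : (frattini G).index ≤ p ^ 2) :
    ((∀ x : G, x ^ p = 1) ∧ Nat.card G = p ^ 2) ∨
      (p ≤ 3 ∧ ∃ k : ℕ, Nonempty (G ≃* Multiplicative (ZMod (p ^ k) × ZMod (p ^ k)))) := by
  classical
  have hp1 := hp.out.one_lt
  obtain ⟨n, hn'⟩ := IsPGroup.iff_card.mp hG
  obtain ⟨k, hkn, hk⟩ := (Nat.dvd_prime_pow hp.out).mp (hn' ▸ Subgroup.index_dvd_card (frattini G))
  have hk2 : k ≤ 2 := by
    rw [hk] at hrk
    exact (Nat.pow_le_pow_iff_right hp1).mp hrk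
  interval_cases k
  · -- index one
    exfalso
    rw [pow_zero] at hk
    have htop : frattini G = ⊤ := Subgroup.index_eq_one.mp hk
    by_cases hnt : Nontrivial G
    · exact frattini_ne_top htop
    · rw [not_nontrivial_iff_subsingleton] at hnt
      exact false_of_cyclic (isCyclic_of_subsingleton) A E hE
  · -- cyclic
    exfalso
    rw [pow_one] at hk
    exact false_of_cyclic (isCyclic_of_frattini_index_prime hk) A E hE
  · -- rank two
    have hex : ∃ a : ℕ, ∀ g : G, g ^ (p ^ a) = 1 := ⟨n, fun g => by rw [← hn']; exact pow_card_eq_one'⟩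
    set a := Nat.find hex with ha_def
    have ha : ∀ g : G, g ^ (p ^ a) = 1 := Nat.find_spec hex
    have ha1 : 1 ≤ a := by
      by_contra h0
      have h0' : a = 0 := by omega
      rw [h0'] at ha
      have hsub : Subsingleton G := ⟨fun x y => by
        have hx := ha x
        have hy := ha y
        rw [pow_zero, pow_one] at hx hy
        rw [hx, hy]⟩
      have : frattini G = ⊤ := Subsingleton.elim _ _
      rw [this, Subgroup.index_top] at hk
      have : 1 < p ^ 2 := Nat.one_lt_pow (by norm_num) hp1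
      omega
    set Ω : Subgroup G := (powMonoidHom (p ^ (a - 1)) : G →* G).ker with hΩ
    have hΩmem : ∀ g : G, g ∈ Ω ↔ g ^ (p ^ (a - 1)) = 1 := fun g => by
      rw [hΩ, MonoidHom.mem_ker, powMonoidHom_apply]
    have hΩtop : Ω ≠ ⊤ := by
      intro h
      have h1 : ∀ g : G, g ^ (p ^ (a - 1)) = 1 := fun g => (hΩmem g).mp (h ▸ Subgroup.mem_top g)
      have := Nat.find_min hex (m := a - 1) (by omega)
      exact this h1
    have hΩinv : ∀ α ∈ A, ∀ x ∈ Ω, α x ∈ Ω := by
      intro α _ x hx
      rw [hΩmem] at hx ⊢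
      rw [← map_pow, hx, map_one]
    have hΩΦ : Ω ≤ frattini G := le_frattini_of_invariant hG A E hE hk Ω hΩinv hΩtop
    obtain ⟨e⟩ := homocyclic hG hk a ha1 ha (fun g hg => hΩΦ ((hΩmem g).mpr hg))
    by_cases ha' : a = 1
    · left
      rw [ha'] at ha
      refine ⟨fun x => by simpa using ha x, ?_⟩
      rw [Nat.card_congr e.toEquiv, ha']
      show Nat.card (ZMod (p ^ 1) × ZMod (p ^ 1)) = p ^ 2
      rw [Nat.card_prod, Nat.card_zmod, pow_one, pow_two]
    · right
      refine ⟨?_, a, ⟨e⟩⟩
      by_contra hp3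
      push Not at hp3
      refine false_of_large_exponent hG A E hE hk (by omega) ?_
      intro h hh
      apply hΩΦ
      rw [hΩmem]
      have : p ^ (a - 1) = p * p ^ (a - 2) := by
        rw [← pow_succ']; congr 1; omega
      rw [this, pow_mul, hh, one_pow]

/-- Let F be a saturated fusion system over a finite p-group S and H an abelian essential subgroup that can be generated by two elements (its Frattini quotient has order at most p²). Then H is elementary abelian of order p², or p ≤ 3 and H is homocyclic of rank two, that is isomorphic to C_{pᵏ} × C_{pᵏ} for some k. -/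
theorem result {Ω : Type u} [Group Ω] {S : Subgroup Ω} [Finite S] (p : ℕ) [Fact p.Prime] (hS : IsPGroup p S)
    (F : Cfsg.FusionSystem S) (hF : F.IsSaturated p) (H : Subgroup Ω) (hH : F.IsEssential p H) (hab : IsMulCommutative ↥H) (hrk : (frattini ↥H).index ≤ p ^ 2) :
    (Cfsg.IsElementaryAbelian p H ∧ Nat.card H = p ^ 2) ∨
      (p ≤ 3 ∧ ∃ k : ℕ, Nonempty (↥H ≃* Multiplicative (ZMod (p ^ k) × ZMod (p ^ k)))) := by
  classical
  obtain ⟨hcen, hfn, hnorm, E, hE⟩ := hH
  have hHS : H ≤ S := hcen.1
  have hHfin : Finite H := Finite.of_injective (Subgroup.inclusion hHS) (Subgroup.inclusion_injective hHS)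
  have hHp : IsPGroup p H := hS.to_le hHS
  let iC : CommGroup H := { (inferInstance : Group H) with mul_comm := hab.is_comm.comm }
  rcases @comm_core H iC hHfin p _ hHp (F.autGroup H) hnorm E hE hrk with ⟨h1, h2⟩ | ⟨h1, h2⟩
  · left
    refine ⟨⟨hab, fun x hx => ?_⟩, h2⟩
    exact congrArg Subtype.val (h1 ⟨x, hx⟩)
  · right
    exact ⟨h1, h2⟩

end Cfsg.Agent.S5187
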