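import Cfsg.Statements.S5188
import Cfsg.Agent.Lib.Helper86.P4Three
import Cfsg.Agent.S5187

set_option autoImplicit false
universe u
open Cfsg

namespace Cfsg.Agent.S5188

open Cfsg.Agent.Lib.Helper86
open scoped commutatorElement

/-- The group-theoretic core: a group `G` of order `p ^ 4` and a group `A` of automorphisms such that `A / Inn(G)`
has a strongly `p`-embedded subgroup. -/
theorem core4 {G : Type u} [Group G] [Finite G] (p : ℕ) [hp : Fact p.Prime] (hcard : Nat.card G = p ^ 4)
    (A : Subgroup (MulAut G)) [hn : ((Cfsg.Inn G).subgroupOf A).Normal]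
    (E : Subgroup (A ⧸ (Cfsg.Inn G).subgroupOf A)) (hE : IsStronglyPEmbedded p E) :
    ((∀ a b : G, a * b = b * a) ∧ ∀ x : G, x ^ p = 1) ∨
      Nonempty (G ≃* Multiplicative (ZMod (p ^ 2) × ZMod p × ZMod p)) ∨
      ((p = 2 ∨ p = 3) ∧ Nonempty (G ≃* Multiplicative (ZMod (p ^ 2) × ZMod (p ^ 2)))) ∨
      (Odd p ∧ ∃ (E₀ : Type) (_ : Group E₀) (_ : Finite E₀), Cfsg.IsExtraspecial p E₀ ∧ Nat.card E₀ = p ^ 3 ∧
        (∀ x : E₀, x ^ p = 1) ∧ Nonempty (G ≃* E₀ × Multiplicative (ZMod p))) ∨
      (p = 2 ∧ Nonempty (G ≃* QuaternionGroup 2 × Multiplicative (ZMod 2))) ∨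
      ((∃ a b : G, a * b ≠ b * a) ∧ (∀ x : G, x ^ (p ^ 2) = 1) ∧ IsCyclic (Subgroup.center G) ∧
        Nat.card (Subgroup.center G) = p ^ 2) := by
  classical
  have hG : IsPGroup p G := IsPGroup.of_card hcard
  have hp1 := hp.out.one_lt
  have hp0 := hp.out.pos
  have hnt : Nontrivial G := by
    apply (Finite.one_lt_card_iff_nontrivial).mp
    rw [hcard]; exact Nat.one_lt_pow (by norm_num) hp1
  obtain ⟨hcomm, hpow⟩ := Cfsg.Agent.S0012.result p hG
  obtain ⟨k, hk4, hk⟩ := card_eq_pow_of_le hcard (frattini G)
  have hidx : (frattini G).index = p ^ (4 - k) := index_of_card_p4 hcard _ hk4 hk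
  interval_cases k
  · -- elementary abelian
    left
    have hbot : frattini G = ⊥ := Subgroup.card_eq_one.mp (by rw [hk, pow_zero])
    constructor
    · intro a b
      have h1 : ⁅a, b⁆ ∈ commutator G :=
        Subgroup.commutator_mem_commutator (Subgroup.mem_top a) (Subgroup.mem_top b)
      have h2 := hcomm h1
      rw [hbot, Subgroup.mem_bot] at h2
      exact commutatorElement_eq_one_iff_mul_comm.mp h2
    · intro x
      have := hpow x
      rwa [hbot, Subgroup.mem_bot] at this
  · -- `|Φ(G)| = p`
    rw [pow_one] at hk
    by_cases hab : ∀ a b : G, a * b = b * a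
    · right; left
      let iC : CommGroup G := { (inferInstance : Group G) with mul_comm := hab }
      exact @abelian_p4_frattini_p G iC _ p hp hcard hk
    · push Not at hab
      obtain ⟨hDΦ, hDZ⟩ := commutator_eq_frattini_of_card_p hG hk hab
      have hD : Nat.card (commutator G) = p := hDΦ ▸ hk
      obtain ⟨a, b, hab'⟩ := hab
      obtain ⟨-, hZcard⟩ := centralizer_inf_centralizer hcard hD hDZ a b hab'
      have hp2 : ∀ x : G, x ^ (p ^ 2) = 1 := by
        intro x
        rw [pow_two, pow_mul]
        have h1 : (⟨x ^ p, hpow x⟩ : frattini G) ^ Nat.card (frattini G) = 1 := pow_card_eq_one'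
        rw [hk] at h1
        exact congrArg Subtype.val h1
      by_cases hcyc : IsCyclic (Subgroup.center G)
      · right; right; right; right; right
        exact ⟨⟨a, b, hab'⟩, hp2, hcyc, hZcard⟩
      · have hZexp : ∀ z ∈ Subgroup.center G, z ^ p = 1 := by
          intro z hz
          by_contra hne
          apply hcyc
          have h1 : orderOf (⟨z, hz⟩ : Subgroup.center G) = p ^ (1 + 1) := by
            apply orderOf_eq_prime_pow
            · rw [pow_one]
              intro h
              exact hne (congrArg Subtype.val h)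
            · apply Subtype.ext
              exact hp2 z
          exact isCyclic_of_orderOf_eq_card _ (h1.trans hZcard.symm)
        obtain ⟨z, hzZ, hzD⟩ : ∃ z ∈ Subgroup.center G, z ∉ commutator G := by
          by_contra hcon
          push Not at hcon
          have hle : Subgroup.center G ≤ commutator G := hcon
          have := Subgroup.card_le_of_le hle
          rw [hZcard, hD] at this
          nlinarith
        obtain ⟨M, hMcard, ⟨e⟩⟩ := exists_direct_factor hcard z hzZ (hZexp z hzZ) (hDΦ ▸ hzD)
        have hMnab : ∃ a b : M, a * b ≠ b * a := by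
          by_contra hcon
          push Not at hcon
          apply hab'
          apply e.injective
          rw [map_mul, map_mul]
          refine Prod.ext ?_ ?_
          · exact hcon _ _
          · exact mul_comm _ _
        by_cases h2 : p = 2
        · subst h2
          right; right; right; right; left
          obtain ⟨eQ⟩ := quaternion_factor hcard A E hE hk hDΦ hDZ hZcard hZexp M hMcard hMnab
          exact ⟨rfl, ⟨e.trans (MulEquiv.prodCongr eQ (MulEquiv.refl _))⟩⟩
        · right; right; right; left
          have hodd : Odd p := hp.out.odd_of_ne_two h2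
          have hexp : ∀ x : G, x ^ p = 1 := by
            intro x
            by_contra hx
            exact false_of_pow_ne_one_odd hcard A E hE h2 hk hDΦ hDZ hZcard hZexp x hx
          have eS : Shrink.{0} M ≃* M := Shrink.mulEquiv
          have hfin : Finite (Shrink.{0} M) := Finite.of_equiv M eS.symm.toEquiv
          have hScard : Nat.card (Shrink.{0} M) = p ^ 3 := by
            rw [Nat.card_congr eS.toEquiv, hMcard]
          have hSnab : ∃ a b : Shrink.{0} M, a * b ≠ b * a := by
            obtain ⟨a', b', hab''⟩ := hMnab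
            refine ⟨eS.symm a', eS.symm b', ?_⟩
            intro h
            apply hab''
            apply eS.symm.injective
            rw [map_mul, map_mul]
            exact h
          refine ⟨hodd, Shrink.{0} M, inferInstance, hfin, extraspecial_of_nonabelian_p3 hScard hSnab, hScard, ?_, ?_⟩
          · intro x
            apply eS.injective
            rw [map_pow, map_one]
            apply Subtype.ext
            push_cast
            exact hexp _
          · exact ⟨e.trans (MulEquiv.prodCongr eS.symm (MulEquiv.refl _))⟩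
  · -- `|Φ(G)| = p ^ 2`
    by_cases hab : ∀ a b : G, a * b = b * a
    · right; right; left
      let iC : CommGroup G := { (inferInstance : Group G) with mul_comm := hab }
      have hrk : (frattini G).index ≤ p ^ 2 := by rw [hidx]
      rcases @Cfsg.Agent.S5187.comm_core G iC _ p hp hG A hn E hE hrk with ⟨h1, h2⟩ | ⟨h1, k', ⟨e⟩⟩
      · exfalso
        rw [hcard] at h2
        have := Nat.pow_right_injective hp1 h2
        omega
      · have hc : p ^ k' * p ^ k' = p ^ 4 := by
          rw [← hcard, Nat.card_congr e.toEquiv]
          show _ = Nat.card (ZMod (p ^ k') × ZMod (p ^ k'))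
          rw [Nat.card_prod, Nat.card_zmod]
        rw [← pow_add] at hc
        have hk' : k' = 2 := by
          have := Nat.pow_right_injective hp1 hc
          omega
        subst hk'
        refine ⟨?_, ⟨e⟩⟩
        have := hp.out.two_le
        omega
    · exfalso
      push Not at hab
      obtain ⟨a, b, hab'⟩ := hab
      obtain ⟨j, hj2, hj⟩ := (Nat.dvd_prime_pow hp.out).mp (hk ▸ Subgroup.card_dvd_of_le hcomm)
      interval_cases j
      · have hbot : commutator G = ⊥ := Subgroup.card_eq_one.mp (by rw [hj, pow_zero])
        have h1 : ⁅a, b⁆ ∈ commutator G :=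
          Subgroup.commutator_mem_commutator (Subgroup.mem_top a) (Subgroup.mem_top b)
        rw [hbot, Subgroup.mem_bot] at h1
        exact hab' (commutatorElement_eq_one_iff_mul_comm.mp h1)
      · rw [pow_one] at hj
        exact false_of_commutator_card_p hcard A E hE hk hj
      · exact false_of_commutator_card_sq hcard A E hE hj
  · -- cyclic
    exfalso
    have h1 : (frattini G).index = p := by rw [hidx]; simp
    exact false_of_cyclic (isCyclic_of_frattini_index_prime h1) A E hE
  · exfalso
    apply frattini_ne_top (G := G)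
    apply Subgroup.eq_top_of_card_eq
    rw [hk, hcard]

/-- Let F be a saturated fusion system over a finite p-group S and H an essential subgroup of order p⁴. Then H is isomorphic to one of: C_p⁴ or C_{p²} × C_p × C_p (any p); C_{p²} × C_{p²} with p ∈ {2, 3}; p^{1+2}_+ × C_p with p odd (the direct product of an extraspecial group of order p³ and exponent p with a group of order p); Q₈ × C₂ (p = 2); or the non-abelian group of order p⁴ of exponent p² whose centre is cyclic of order p² (the central product of an extraspecial group of order p³ with a cyclic group of order p²; for p = 2 this is D₈ ∘ C₄). -/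
theorem result {Ω : Type u} [Group Ω] {S : Subgroup Ω} [Finite S] (p : ℕ) [Fact p.Prime] (hS : IsPGroup p S)
    (F : Cfsg.FusionSystem S) (hF : F.IsSaturated p) (H : Subgroup Ω) (hH : F.IsEssential p H) (hcard : Nat.card H = p ^ 4) :
    Cfsg.IsElementaryAbelian p H ∨
      Nonempty (↥H ≃* Multiplicative (ZMod (p ^ 2) × ZMod p × ZMod p)) ∨
      ((p = 2 ∨ p = 3) ∧ Nonempty (↥H ≃* Multiplicative (ZMod (p ^ 2) × ZMod (p ^ 2)))) ∨
      (Odd p ∧ ∃ (E : Type) (_ : Group E) (_ : Finite E), Cfsg.IsExtraspecial p E ∧ Nat.card E = p ^ 3 ∧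
        (∀ x : E, x ^ p = 1) ∧ Nonempty (↥H ≃* E × Multiplicative (ZMod p))) ∨
      (p = 2 ∧ Nonempty (↥H ≃* QuaternionGroup 2 × Multiplicative (ZMod 2))) ∨
      (¬ IsMulCommutative ↥H ∧ (∀ x ∈ H, x ^ (p ^ 2) = 1) ∧ IsCyclic ↥(Subgroup.center ↥H) ∧
        Nat.card (Subgroup.center ↥H) = p ^ 2) := by
  classical
  have hp : p.Prime := Fact.out
  obtain ⟨hcen, hfn, hnorm, E, hE⟩ := hH
  have hHfin : Finite H := Nat.finite_of_card_ne_zero (by rw [hcard]; exact pow_ne_zero 4 hp.ne_zero)
  rcases core4 p hcard (F.autGroup H) E hE with ⟨h1, h2⟩ | h | h | h | h | ⟨⟨a, b, hab⟩, h2, h3, h4⟩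
  · left
    refine ⟨⟨⟨h1⟩⟩, fun x hx => ?_⟩
    exact congrArg Subtype.val (h2 ⟨x, hx⟩)
  · right; left; exact h
  · right; right; left; exact h
  · right; right; right; left; exact h
  · right; right; right; right; left; exact h
  · right; right; right; right; right
    refine ⟨fun hc => hab (hc.is_comm.comm a b), fun x hx => ?_, h3, h4⟩
    exact congrArg Subtype.val (h2 ⟨x, hx⟩)

end Cfsg.Agent.S5188
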