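import Cfsg.Statements.S5191
-- import your own Cfsg.Agent.* helpers here

set_option autoImplicit false
open Cfsg

namespace Cfsg.Agent.S5191

open scoped Pointwise in
/-- Sylow conjugacy inside a subgroup `H`: if `S` is a Sylow `p`-subgroup of `G` contained in `H` and `Q ≤ H` is a
`p`-group, then some `h ∈ H` conjugates `Q` into `S`. -/
theorem exists_conj_le_of_le {G : Type*} [Group G] [Finite G] {p : ℕ} [Fact p.Prime]
    (S : Sylow p G) (H Q : Subgroup G) (hSH : (S : Subgroup G) ≤ H) (hQH : Q ≤ H) (hQ : IsPGroup p Q) :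
    ∃ h ∈ H, ∀ x ∈ Q, h * x * h⁻¹ ∈ S := by
  -- the Sylow subgroup of `H` given by `S`
  let S' : Sylow p H := S.subtype hSH
  have hQ' : IsPGroup p (Q.subgroupOf H) := hQ.comap_subtype
  obtain ⟨R, hR⟩ := hQ'.exists_le_sylow
  obtain ⟨h, hh⟩ := MulAction.exists_smul_eq H R S'
  refine ⟨h, h.2, fun x hx => ?_⟩
  have hxH : x ∈ H := hQH hx
  have h1 : (⟨x, hxH⟩ : H) ∈ (R : Subgroup H) := hR (Subgroup.mem_subgroupOf.mpr hx)
  have h2 : h * ⟨x, hxH⟩ * h⁻¹ ∈ ((h • R : Sylow p H) : Subgroup H) := by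
    rw [Sylow.coe_subgroup_smul] -- pointwise
    rw [Subgroup.mem_pointwise_smul_iff_inv_smul_mem]
    simpa [MulAut.smul_def, mul_assoc] using h1
  rw [hh] at h2
  have h3 : ((h * ⟨x, hxH⟩ * h⁻¹ : H) : G) ∈ (S : Subgroup G) := by
    have := h2
    simpa [S', Sylow.coe_subtype, Subgroup.mem_subgroupOf] using this
  have h4 : (h : G) * x * (h : G)⁻¹ ∈ (S : Subgroup G) := by simpa using h3
  exact h4

open scoped Pointwise in
/-- Fusion in a finite group G and in its quotient by O_{p'}(G) agree. Let S be a Sylow p-subgroup of G, N = O_{p'}(G) and P ≤ S. If an element of G/N conjugates the image of P into the image of S, then some element g of G conjugates P into S and induces the same map on P modulo N. (Together with the injectivity of S → G/N this says that g ↦ gN induces an isomorphism of the fusion system of G on S with that of G/N on SN/N.) -/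
theorem result {G : Type*} [Group G] [Finite G] {p : ℕ} [Fact p.Prime]
    [hN : (Cfsg.pPrimeCore p G).Normal] (S : Sylow p G) (P : Subgroup G) (hP : P ≤ (S : Subgroup G))
    (γ : G ⧸ Cfsg.pPrimeCore p G)
    (hγ : ∀ x ∈ P, γ * QuotientGroup.mk x * γ⁻¹ ∈ ((S : Subgroup G).map (QuotientGroup.mk' (Cfsg.pPrimeCore p G)))) :
    ∃ g : G, ∀ x ∈ P, g * x * g⁻¹ ∈ S ∧
      (QuotientGroup.mk (g * x * g⁻¹) : G ⧸ Cfsg.pPrimeCore p G) = γ * QuotientGroup.mk x * γ⁻¹ := by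
  obtain ⟨g₀, rfl⟩ := QuotientGroup.mk_surjective γ
  set N := Cfsg.pPrimeCore p G with hNdef
  -- the conjugate `Q = g₀ P g₀⁻¹` lies in `S N`
  let Q : Subgroup G := P.map (MulAut.conj g₀).toMonoidHom
  have hQp : IsPGroup p Q := (S.2.to_le hP).map _
  have hQH : Q ≤ (S : Subgroup G) ⊔ N := by
    rintro _ ⟨x, hx, rfl⟩
    obtain ⟨s, hs, hsx⟩ := hγ x hx
    -- `mk s = mk (g₀ x g₀⁻¹)`
    have h1 : (QuotientGroup.mk s : G ⧸ N) = QuotientGroup.mk (g₀ * x * g₀⁻¹) := by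
      simpa using hsx
    have h2 : s⁻¹ * (g₀ * x * g₀⁻¹) ∈ N := QuotientGroup.eq.mp h1
    have h3 : g₀ * x * g₀⁻¹ = s * (s⁻¹ * (g₀ * x * g₀⁻¹)) := by group
    show g₀ * x * g₀⁻¹ ∈ (S : Subgroup G) ⊔ N
    rw [h3]
    exact Subgroup.mul_mem_sup hs h2
  obtain ⟨h, hh, hhQ⟩ := exists_conj_le_of_le S ((S : Subgroup G) ⊔ N) Q le_sup_left hQH hQp
  -- write `h = s * n`
  have hh' : h ∈ ((S : Subgroup G) : Set G) * (N : Set G) := by
    rw [← Subgroup.mul_normal]; exact hh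
  obtain ⟨s, hs, n, hn, rfl⟩ := Set.mem_mul.mp hh'
  refine ⟨n * g₀, fun x hx => ⟨?_, ?_⟩⟩
  · have h1 : s * n * (g₀ * x * g₀⁻¹) * (s * n)⁻¹ ∈ (S : Subgroup G) := hhQ _ ⟨x, hx, rfl⟩
    have h2 : n * g₀ * x * (n * g₀)⁻¹ = s⁻¹ * (s * n * (g₀ * x * g₀⁻¹) * (s * n)⁻¹) * s := by group
    rw [h2]
    exact (S : Subgroup G).mul_mem ((S : Subgroup G).mul_mem ((S : Subgroup G).inv_mem hs) h1) hs
  · have hn1 : (QuotientGroup.mk n : G ⧸ N) = 1 := (QuotientGroup.eq_one_iff n).mpr hn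
    simp only [QuotientGroup.mk_mul, QuotientGroup.mk_inv]
    rw [hn1, one_mul]

end Cfsg.Agent.S5191
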