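import Cfsg.Statements.S5192
import Cfsg.Agent.S5092
import Cfsg.Agent.Lib.Helper88.CharBisetAdapter

set_option autoImplicit false
open Cfsg

namespace Cfsg.Agent.S5192

/-- A Thompson-type transfer for saturated fusion systems. Let F be a saturated fusion system on a finite 2-group S, T a subgroup of S of index 2, and i an involution of S such that every fully normalized F-conjugate of i lies in S but outside T. Then i does not lie in the hyperfocal subgroup of F (the Sylow group of the 2-residual subsystem). -/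
theorem result {Ω : Type*} [Group Ω] [Finite Ω] {S : Subgroup Ω}
    (hS : IsPGroup 2 ↥S) (F : Cfsg.FusionSystem S) (hF : F.IsSaturated 2)
    (T : Subgroup Ω) (hTS : T ≤ S) (hT : T.relIndex S = 2)
    (i : Ω) (hi : i ∈ S) (hi2 : orderOf i = 2)
    (h : ∀ j : Ω, F.IsConjElt i j → F.IsFullyNormalized (Subgroup.zpowers j) → j ∉ T) :
    i ∉ F.hyperfocalSubgroup 2 := by
  have : Fact (Nat.Prime 2) := ⟨Nat.prime_two⟩
  have hfoc := Cfsg.Agent.S5092.result 2 hS F hF
  intro hih
  have hif : i ∈ F.focalSubgroup := by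
    rw [hfoc]
    exact (le_sup_left : F.hyperfocalSubgroup 2 ≤ _) hih
  obtain ⟨X, hXfin, hXact, hstab, hst, m, hm, hpm⟩ :=
    Cfsg.Agent.Lib.Helper85.exists_char_biset F hS hF
  have hii : i * i = 1 := by
    have := pow_orderOf_eq_one i
    rwa [hi2, pow_two] at this
  refine Cfsg.Agent.Lib.Helper88.ThompsonTransfer.not_mem_focal_of_biset F (X := X) hS T hT i hi hii h
    (Cfsg.Agent.Lib.Helper88.CharBiset.isConjElt_of_stab F hstab) ?_ ?_ hif
  · intro m' hm'
    have hpos : 0 < Nat.card ↥S := Nat.card_pos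
    have hmm : m' = m := by
      rw [hm] at hm'
      exact Nat.eq_of_mul_eq_mul_right hpos hm'
    rw [hmm, ← Nat.not_even_iff_odd, even_iff_two_dvd]
    exact hpm
  · intro P φ hφ u
    obtain ⟨e, he⟩ := Cfsg.Agent.Lib.Helper88.CharBiset.exists_perm_of_stable F hstab hst φ hφ
    exact ⟨e, fun b x => he u b x⟩

end Cfsg.Agent.S5192
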