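import Cfsg.Statements.S5253
import Cfsg.Agent.Lib.Helper86.WCGlobal
import Cfsg.Agent.Lib.Helper86.WCModel

set_option autoImplicit false
universe u
open Cfsg

namespace Cfsg.Agent.S5253

/-- Let p be a prime and W a positive characteristic p-functor with Z(Q) ≤ W(Q): W assigns to every finite p-group Q (in a fixed universe) a subgroup W(Q), nontrivial when Q is, carried to W(R) by every isomorphism Q ≅ R, and containing the centre of Q. Suppose that for every finite group G with Sylow p-subgroup P in which W(P) is not normal there is g ∈ P outside O_p(G) with [Z(O_p(G)), g, g] = 1. Then for every saturated fusion system F over a finite p-group S and every normalizer fusion system N of W(S) in F, every p-th power of an element of Z(S) that lies in the centre of N lies in the centre of F. -/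
theorem result {p : ℕ} [Fact p.Prime] (W : ∀ (Q : Type u) [Group Q], Subgroup Q) (hW1 : ∀ (Q : Type u) [Group Q] [Finite Q], IsPGroup p Q → Nontrivial Q → W Q ≠ ⊥) (hW2 : ∀ (Q R : Type u) [Group Q] [Group R] [Finite Q], IsPGroup p Q → ∀ φ : Q ≃* R, (W Q).map φ.toMonoidHom = W R) (hWZ : ∀ (Q : Type u) [Group Q] [Finite Q], IsPGroup p Q → Subgroup.center Q ≤ W Q) (hq : ∀ (G : Type u) [Group G] [Finite G] (P : Sylow p G), ¬ (((W ↥(P : Subgroup G)).map (P : Subgroup G).subtype : Subgroup G)).Normal → ∃ g : G, g ∈ (P : Subgroup G) ∧ g ∉ Cfsg.pCore p G ∧ ⁅⁅Subgroup.center ↥(Cfsg.pCore p G) |>.map (Cfsg.pCore p G).subtype, Subgroup.zpowers g⁆, Subgroup.zpowers g⁆ = ⊥) {Ω : Type u} [Group Ω] {S : Subgroup Ω} [Finite S] (hS : IsPGroup p S) (F : Cfsg.FusionSystem S) (hF : F.IsSaturated p) (N : Cfsg.FusionSystem (Cfsg.FusionSystem.normalizerIn S ((W ↥S).map S.subtype))) (hN : F.IsNormalizerSystem ((W ↥S).map S.subtype) N) : Subgroup.closure ((fun z => z ^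 p) '' ((S ⊓ Subgroup.centralizer (S : Set Ω) : Subgroup Ω) : Set Ω)) ⊓ N.center ≤ F.center := by
  classical
  have H : Cfsg.Agent.Lib.Helper86.WC.WCHyp p W
      (fun (T : Subgroup Ω) (z : Ω) => ∃ y ∈ T ⊓ Subgroup.centralizer (T : Set Ω), z = y ^ p) :=
    { hW := ⟨hW1, hW2⟩
      hWZ := hWZ
      a1 := by
        rintro T z ⟨y, hy, rfl⟩
        exact Subgroup.pow_mem _ hy p
      a2 := by
        rintro T₁ T₂ z ⟨y, hy, rfl⟩ hle hZ
        exact ⟨y, ⟨hZ hy, Subgroup.centralizer_le hle hy.2⟩, rfl⟩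
      hmod := by
        rintro T _ hT E L _ ι hM z ⟨y, hy, rfl⟩ hfix
        exact Cfsg.Agent.Lib.Helper86.WC.fix_of_model_quad ⟨hW1, hW2⟩ hWZ hq hT E L ι hM hy hfix }
  have hpow : ∀ x ∈ Subgroup.closure ((fun z => z ^ p) ''
      ((S ⊓ Subgroup.centralizer (S : Set Ω) : Subgroup Ω) : Set Ω)),
      ∃ y ∈ S ⊓ Subgroup.centralizer (S : Set Ω), x = y ^ p := by
    intro x hx
    induction hx using Subgroup.closure_induction with
    | mem x hx =>
      obtain ⟨y, hy, rfl⟩ := hx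
      exact ⟨y, hy, rfl⟩
    | one => exact ⟨1, Subgroup.one_mem _, (one_pow p).symm⟩
    | mul a b _ _ ha hb =>
      obtain ⟨y1, hy1, rfl⟩ := ha
      obtain ⟨y2, hy2, rfl⟩ := hb
      refine ⟨y1 * y2, Subgroup.mul_mem _ hy1 hy2, ?_⟩
      have hc : Commute y1 y2 := ((Subgroup.mem_centralizer_iff.1 hy2.2) y1 hy1.1)
      exact (hc.mul_pow p).symm
    | inv a _ ha =>
      obtain ⟨y, hy, rfl⟩ := ha
      exact ⟨y⁻¹, Subgroup.inv_mem _ hy, (inv_pow y p).symm⟩
  intro x hx
  obtain ⟨y, hy, rfl⟩ := hpow x hx.1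
  have : Finite ↥(Cfsg.FusionSystem.normalizerIn S ((W ↥S).map S.subtype)) :=
    Cfsg.Agent.Lib.Helper87.finite_of_le inf_le_left
  have hfixN : Cfsg.Agent.Lib.Helper86.WC.Fix N (y ^ p) := Cfsg.Agent.Lib.Helper86.WC.fix_of_mem_center N hx.2
  exact Cfsg.Agent.Lib.Helper86.WC.mem_center_of_fixN H hS F hF ⟨y, hy, rfl⟩
    (Cfsg.Agent.Lib.Helper86.WC.fixN_of_fix hN hfixN)

end Cfsg.Agent.S5253
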