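import Cfsg.Statements.S5193
import Cfsg.Agent.Lib.Helper85.GlaubFusModel
import Cfsg.Agent.Lib.Helper85.FusionWCGlobal
import Cfsg.Agent.S5253
import Cfsg.Agent.S2799

set_option autoImplicit false
open Cfsg

namespace Cfsg.Agent.S5193

universe u

open Cfsg.FusionSystem Cfsg.Agent.Lib.Helper33 Cfsg.Agent.Lib.Helper47 Cfsg.Agent.Lib.Helper85
open Cfsg.Agent.Lib.Helper86 Cfsg.Agent.Lib.Helper86.WC

/-- the centre of a finite group lies in its abelian-version Thompson subgroup -/
theorem center_le_thompsonSubgroupA (Q : Type u) [Group Q] [Finite Q] :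
    Subgroup.center Q ≤ Cfsg.thompsonSubgroupA Q := by
  obtain ⟨A, hA⟩ := Cfsg.Agent.Lib.Helper50.exists_mem_maxAbelianSubgroups Q
  have h1 : Subgroup.center Q ≤ A := by
    rw [← Cfsg.Agent.Lib.Helper50.centralizer_eq_of_mem_maxAbelianSubgroups A hA]
    exact Subgroup.center_le_centralizer _
  exact h1.trans (le_sSup hA)

/-- the quadratic element property of the abelian-version Thompson subgroup, in the form used by `S5253` -/
theorem hq_thompsonA {p : ℕ} [Fact p.Prime] (G : Type u) [Group G] [Finite G] (P : Sylow p G)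
    (hn : ¬ (((Cfsg.thompsonSubgroupA ↥(P : Subgroup G)).map (P : Subgroup G).subtype : Subgroup G)).Normal) :
    ∃ g : G, g ∈ (P : Subgroup G) ∧ g ∉ Cfsg.pCore p G ∧
      ⁅⁅Subgroup.center ↥(Cfsg.pCore p G) |>.map (Cfsg.pCore p G).subtype, Subgroup.zpowers g⁆,
        Subgroup.zpowers g⁆ = ⊥ := by
  obtain ⟨B, hBP, hBQ, hquad⟩ := Cfsg.Agent.S2799.exists_quadratic_of_not_normal P hn
  obtain ⟨g, hgB, hgQ⟩ := SetLike.not_le_iff_exists.mp hBQ
  refine ⟨g, hBP hgB, hgQ, ?_⟩
  have hz : Subgroup.zpowers g ≤ B := by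
    rw [Subgroup.zpowers_le]; exact hgB
  have hle : (Subgroup.center ↥(Cfsg.pCore p G)).map (Cfsg.pCore p G).subtype ≤
      Cfsg.pCore p G ⊓ Subgroup.centralizer ((Cfsg.pCore p G : Subgroup G) : Set G) := by
    rintro _ ⟨c, hc, rfl⟩
    refine Subgroup.mem_inf.mpr ⟨c.2, ?_⟩
    rw [Subgroup.mem_centralizer_iff]
    intro q hq
    have := Subgroup.mem_center_iff.1 hc ⟨q, hq⟩
    exact congrArg Subtype.val this
  rw [eq_bot_iff, ← hquad]
  exact Subgroup.commutator_mono (Subgroup.commutator_mono hle hz) hz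

/-- `Z(F) ≤ Z(N_F(V))` when `S` normalizes `V ≤ S`. -/
theorem center_le_center_normalizer {Ω : Type*} [Group Ω] {S : Subgroup Ω} [Finite S] (F : Cfsg.FusionSystem S)
    {V : Subgroup Ω} (hVS : V ≤ S) (hSN : S ≤ normalizerIn S V)
    {N : Cfsg.FusionSystem (normalizerIn S V)} (hN : F.IsNormalizerSystem V N) : F.center ≤ N.center := by
  have hfinV : Finite V := Cfsg.Agent.Lib.Helper87.finite_of_le hVS
  have hfinN : Finite (normalizerIn S V) :=
    Cfsg.Agent.Lib.Helper87.finite_of_le (Cfsg.Agent.Lib.Helper87.normalizerIn_le S _)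
  apply le_center_of_isCentral N
  have hZ : F.IsCentral F.center := isCentral_center F
  refine ⟨hZ.1.trans hSN, fun P φ hφ => ?_⟩
  rw [hN] at hφ
  obtain ⟨hφF, hPN, hφN, ψ, hψ, hψe, hψV⟩ := hφ
  obtain ⟨ψ', hψ', hψ'e, hψ'Z⟩ := hZ.2 _ ψ hψ
  have hψ'V : (V.subgroupOf ((P ⊔ V) ⊔ F.center)).map ψ' = V :=
    map_eq_of_extends le_sup_left hψ'e le_sup_right hψV
  have hle : (P ⊔ V) ⊔ F.center ≤ normalizerIn S V := (F.le_of_mem hψ').1.trans hSN
  have hψ'N : ψ' ∈ N.Hom ((P ⊔ V) ⊔ F.center) := by
    rw [hN]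
    exact Cfsg.Agent.S5126.mem_normalizerHom_of_map_eq F (le_sup_right.trans le_sup_left) hle hψ' hψ'V
  have hPZ : P ⊔ F.center ≤ (P ⊔ V) ⊔ F.center := sup_le (le_sup_left.trans le_sup_left) le_sup_right
  refine ⟨ψ'.comp (Subgroup.inclusion hPZ), Cfsg.Agent.Lib.Helper87.restrict_mem N hψ'N hPZ, ?_, ?_⟩
  · intro x
    have h1 : (Subgroup.inclusion hPZ) (Subgroup.inclusion le_sup_left x) =
        Subgroup.inclusion (le_sup_left : P ⊔ V ≤ (P ⊔ V) ⊔ F.center)
          (Subgroup.inclusion (le_sup_left : P ≤ P ⊔ V) x) := Subtype.ext rfl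
    show ψ' ((Subgroup.inclusion hPZ) (Subgroup.inclusion le_sup_left x)) = φ x
    rw [h1, hψ'e, hψe]
  · intro z
    have h1 : (Subgroup.inclusion hPZ) (Subgroup.inclusion le_sup_right z) =
        Subgroup.inclusion (le_sup_right : F.center ≤ (P ⊔ V) ⊔ F.center) z := Subtype.ext rfl
    show ψ' ((Subgroup.inclusion hPZ) (Subgroup.inclusion le_sup_right z)) = z
    rw [h1, hψ'Z]

/-- the hypotheses of the reduction for `J` and the predicate "`p` odd or `S₄`-free" -/
theorem wcHypP_thompsonA (p : ℕ) [Fact p.Prime] {Ω : Type u} [Group Ω] :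
    WCHypP p (fun (Q : Type u) [Group Q] => Cfsg.thompsonSubgroupA Q)
      (fun (T : Subgroup Ω) (z : Ω) => z ∈ T ⊓ Subgroup.centralizer (T : Set Ω))
      (fun (T : Subgroup Ω) (E : Cfsg.FusionSystem T) => ThompsonFus.Free p E) where
  hW := isCharPFunctor_thompsonA p
  hWZ := fun Q _ _ _ => center_le_thompsonSubgroupA Q
  a1 := fun _ _ h => h
  a2 := fun _ _ z hz hle hZ => ⟨hZ hz, Subgroup.centralizer_le hle hz.2⟩
  pr := by
    intro T _ hT E hE hfree Q hQ N hN
    exact (ThompsonFus.freeHyp p).norm hT E hE hfree Q hQ N hN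
  hmod := by
    intro T _ hT E L _ ι hM hfree z hz hfix
    refine fix_of_model_of_group (isCharPFunctor_thompsonA p) (fun Q _ _ _ => center_le_thompsonSubgroupA Q)
      hT E L ι hM ?_ hz hfix
    intro hfin P hcen x hx hNx
    have hfr : p ≠ 2 ∨ ¬ Cfsg.Involves (Equiv.Perm (Fin 4)) L := by
      rcases hfree with h | h
      · exact Or.inl h
      · exact Or.inr (ThompsonFus.not_involves_of_isModel E hM h)
    exact glauberman_center P hcen hfr x hx hNx

/-- Glauberman's Theorem for fusion systems. Let F be a saturated fusion system over a finite p-group S, let J(S) be the subgroup generated by the abelian subgroups of S of largest order, and let N be the normalizer fusion system of J(S) in F (a fusion system over N_S(J(S)) = S). Then every p-th power of an element of Z(S) that lies in the centre of N lies in the centre of F; and if p is odd, or if the symmetric group of degree 4 is not involved in any model of the normalizer system of a fully normalized F-centric subgroup (F is S₄-free),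 then the centre of N equals the centre of F. -/
theorem result {Ω : Type*} [Group Ω] {S : Subgroup Ω} [Finite S] (p : ℕ) [Fact p.Prime] (hS : IsPGroup p S) (F : Cfsg.FusionSystem S) (hF : F.IsSaturated p) (N : Cfsg.FusionSystem (Cfsg.FusionSystem.normalizerIn S (Cfsg.thompsonSubgroupAOf S))) (hN : F.IsNormalizerSystem (Cfsg.thompsonSubgroupAOf S) N) : Subgroup.closure ((fun z : Ω => z ^ p) '' ((S ⊓ Subgroup.centralizer (S : Set Ω) : Subgroup Ω) : Set Ω)) ⊓ N.center ≤ F.center ∧ (p ≠ 2 ∨ F.IsSectionFree p (Equiv.Perm (Fin 4)) → N.center = F.center) := by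
  classical
  have hW0 := isCharPFunctor_thompsonA p
  refine ⟨?_, ?_⟩
  · exact Cfsg.Agent.S5253.result (fun (Q : Type _) [Group Q] => Cfsg.thompsonSubgroupA Q) hW0.1 hW0.2
      (fun Q _ _ _ => center_le_thompsonSubgroupA Q) (fun G _ _ P hn => hq_thompsonA G P hn) hS F hF N hN
  · intro hfree
    have hVS : Cfsg.thompsonSubgroupAOf S ≤ S := thompsonSubgroupAOf_le' S
    have hSN : S ≤ normalizerIn S (Cfsg.thompsonSubgroupAOf S) :=
      le_normalizerIn_inducedFunctor hW0 hS
    have hfinN : Finite (normalizerIn S (Cfsg.thompsonSubgroupAOf S)) :=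
      Cfsg.Agent.Lib.Helper87.finite_of_le (Cfsg.Agent.Lib.Helper87.normalizerIn_le S _)
    apply le_antisymm
    · intro z hz
      have hNc : N.IsCentral N.center := isCentral_center N
      have hzS : z ∈ S := (Cfsg.Agent.Lib.Helper87.normalizerIn_le S _) (hNc.1 hz)
      have hzZ : z ∈ S ⊓ Subgroup.centralizer (S : Set _) := by
        refine Subgroup.mem_inf.mpr ⟨hzS, ?_⟩
        rw [Subgroup.mem_centralizer_iff]
        intro s hs
        have h1 := commute_of_isCentral N hNc hz (hSN hs)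
        calc s * z = s * z * s⁻¹ * s := by group
          _ = z * s := by rw [h1]
      exact mem_center_of_fixN_pr (wcHypP_thompsonA p) hS F hF hfree hzZ
        (fixN_of_fix hN (fix_of_mem_center N hz))
    · exact center_le_center_normalizer F hVS hSN hN

end Cfsg.Agent.S5193
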