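import Cfsg.Statements.S5202
import Cfsg.Agent.Lib.Helper84.RedMain

set_option autoImplicit false
open Cfsg

namespace Cfsg.Agent.S5202

/-- Let F be a saturated fusion system over a finite p-group S and E a normal subsystem of F over T such that Aut_F(T)/Aut_E(T) is p-solvable. Then there is a normal subsystem F₀ of F over T·C_S(T) containing E, with Aut_{F₀}(T) = Aut_E(T), containing every residual limit of F, and whose residual limits have the same maps as those of F. -/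
theorem result {Ω : Type*} [Group Ω] {S : Subgroup Ω} [Finite S] (p : ℕ) [Fact p.Prime] (hS : IsPGroup p S) (F : Cfsg.FusionSystem S) (hF : F.IsSaturated p) {T : Subgroup Ω} (E : Cfsg.FusionSystem T) (hE : E.IsNormalIn F p) [hn : ((E.autGroup T).subgroupOf (F.autGroup T)).Normal] (hsolv : Cfsg.IsPSolvable p (↥(F.autGroup T) ⧸ (E.autGroup T).subgroupOf (F.autGroup T))) : ∃ F₀ : Cfsg.FusionSystem (T ⊔ Cfsg.FusionSystem.centralizerIn S T), F₀.IsNormalIn F p ∧ E.IsSubsystemOf F₀ ∧ F₀.autGroup T = E.autGroup T ∧ ∀ {U : Subgroup Ω} (Finf : Cfsg.FusionSystem U), Finf.IsResidualLimitOf F p → Finf.IsSubsystemOf F₀ ∧ ∀ {V : Subgroup Ω} (L : Cfsg.FusionSystem V), L.IsResidualLimitOf F₀ p → ∀ P : Subgroup Ω, L.Hom P = Finf.Hom P := by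
  obtain ⟨hEsat, -, hEinv⟩ := hE.1
  have hT : F.StronglyClosed T := hEinv.2.1
  have hBA : E.autGroup T ≤ F.autGroup T := Cfsg.Agent.Lib.Helper84.autGroup_mono E F hEinv.1 le_rfl
  have hps := Cfsg.Agent.Lib.Helper84.psolvPair_of_isPSolvable p (F.autGroup T) (E.autGroup T) hBA hsolv
  obtain ⟨S₀, F₀, rfl, hw, hEF₀, haut, hlim, -⟩ :=
    Cfsg.Agent.Lib.Helper84.red_main E hEsat hps hS F hF hEinv rfl
  have hS₀S : T ⊔ Cfsg.FusionSystem.centralizerIn S T ≤ S := sup_le hT.1 inf_le_left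
  have hcen : Cfsg.FusionSystem.centralizerIn S (T ⊔ Cfsg.FusionSystem.centralizerIn S T) ≤
      T ⊔ Cfsg.FusionSystem.centralizerIn S T := by
    intro x hx
    refine le_sup_right (a := T) ⟨hx.1, ?_⟩
    exact Subgroup.centralizer_le (by exact_mod_cast (le_sup_left : T ≤ T ⊔ Cfsg.FusionSystem.centralizerIn S T)) hx.2
  refine ⟨F₀, Cfsg.Agent.Lib.Helper84.isNormalIn_of_weakly_of_centralizerIn_le p F F₀ hw hcen, hEF₀, haut, ?_⟩
  intro U Finf hFinf
  have hfin₀ : Finite ↥(T ⊔ Cfsg.FusionSystem.centralizerIn S T) := Cfsg.Agent.Lib.Helper87.finite_of_le hS₀S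
  obtain ⟨W, L, hL⟩ := Cfsg.Agent.Lib.Helper84.exists_residualLimit _ rfl (hS.to_le hS₀S) F₀ hw.1
  have hs := hlim L Finf hL hFinf
  refine ⟨fun P φ hφ => Cfsg.Agent.Lib.Helper84.IsResidualLimitOf_le hL P ((hs P).symm ▸ hφ), ?_⟩
  intro V L' hL' P
  exact hlim L' Finf hL' hFinf P

end Cfsg.Agent.S5202
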