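import Cfsg.Statements.S5204
import Cfsg.Agent.Lib.Helper88.FusionNilpZJ

set_option autoImplicit false
open Cfsg

namespace Cfsg.Agent.S5204

open Cfsg.FusionSystem Cfsg.Agent.Lib.Helper87 Cfsg.Agent.Lib.Helper88.NilpRed

/-- The Glauberman–Thompson normal p-complement criterion for fusion systems, p odd. Let F be a saturated fusion system over a finite p-group S with p odd, and let Z(J(S)) be the centre of the subgroup generated by the abelian subgroups of S of largest order. Then F is the inner fusion system of S if and only if the normalizer fusion system of Z(J(S)) in F is the inner fusion system of N_S(Z(J(S))) = S. -/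
theorem result {Ω : Type*} [Group Ω] {S : Subgroup Ω} [Finite S] (p : ℕ) [Fact p.Prime] (hS : IsPGroup p S) (F : Cfsg.FusionSystem S) (hF : F.IsSaturated p) (hp : p ≠ 2) : (∀ P : Subgroup Ω, F.Hom P = (Cfsg.innerFusionSystem S).Hom P) ↔ ∀ N : Cfsg.FusionSystem (Cfsg.FusionSystem.normalizerIn S (Cfsg.centerThompsonAOf S)), F.IsNormalizerSystem (Cfsg.centerThompsonAOf S) N → ∀ P : Subgroup Ω, N.Hom P = (Cfsg.innerFusionSystem (Cfsg.FusionSystem.normalizerIn S (Cfsg.centerThompsonAOf S))).Hom P := by
  have hWS : centerThompsonAOf S ≤ S := by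
    rw [← inducedFunctor_zjA]
    exact inducedFunctor_le zjA S
  have hSN : S ≤ normalizerIn S (centerThompsonAOf S) := by
    intro s hs
    refine ⟨hs, ?_⟩
    rw [← inducedFunctor_zjA]
    exact inducedFunctor_normalizer (isCharPFunctor_zjA p) hS (Subgroup.le_normalizer hs)
  constructor
  · intro h N hN P
    apply Set.Subset.antisymm _ (inner_hom_subset N P)
    intro φ hφ
    have hφ' := hφ
    rw [hN P] at hφ'
    obtain ⟨hφF, hPN, -, -⟩ := hφ'
    rw [h P] at hφF
    obtain ⟨-, g, hg, hgφ⟩ := hφF
    exact ⟨hPN, g, hSN hg, hgφ⟩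
  · intro h
    have hN := isNormalizerSystem_normalizerSystem F (centerThompsonAOf S) hWS
    have hTS : normalizerIn S (centerThompsonAOf S) ≤ S := inf_le_left
    have h1 : PAut (normalizerSystem F (centerThompsonAOf S) hWS) p :=
      paut_of_inner (hS.to_le hTS) _ (h _ hN)
    have h2 : NPAut F p (centerThompsonAOf S) := npaut_of_paut F hN h1
    exact inner_of_paut hS F hF (paut_of_npaut_zj hp hS F hF h2)

end Cfsg.Agent.S5204
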