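import Cfsg.Statements.S5206
import Cfsg.Agent.Lib.Helper11.QdLocal5
import Cfsg.Agent.S5091
-- import your own Cfsg.Agent.* helpers here

set_option autoImplicit false
universe u
open Cfsg

namespace Cfsg.Agent.S5206

open Cfsg.Agent.Lib.Helper11 Cfsg.FusionSystem

/-- Let p be an odd prime, G a finite group and P a Sylow p-subgroup of G. Then the fusion system of G on P is Qd(p)-free (Qd(p), the natural semidirect product of an elementary abelian group of order p² by SL₂(p), is not involved in any model of the normalizer system of a fully normalized centric subgroup) if and only if Qd(p) is not involved in G. -/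
theorem result {G : Type u} [Group G] [Finite G] {p : ℕ} [Fact p.Prime] (hp : p ≠ 2) (P : Sylow p G) : (Cfsg.groupFusionSystem (P : Subgroup G)).IsSectionFree p ↥(Cfsg.qd p) ↔ ¬ Cfsg.Involves ↥(Cfsg.qd p) G := by
  constructor
  · intro hfree hinv
    obtain ⟨Q, hfn, hcen, hQd⟩ := exists_centric_fullyNormalized_involvesQd hp P hinv
    have hN := Cfsg.Agent.Lib.Helper87.isNormalizerSystem_normalizerSystem
      (groupFusionSystem (P : Subgroup G)) Q hfn.1
    have hM := normalizerSystem_isModel P Q hfn hcen _ hN
    exact hfree Q hfn hcen _ hN _ _ hM (involvesGrp_iff_involves.mp hQd)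
  · intro hG Q hfn hcen N hN L _ ι hM hinv
    apply hG
    have hM₀ := normalizerSystem_isModel P Q hfn hcen N hN
    have hS : IsPGroup p ↥(normalizerIn (P : Subgroup G) Q) := P.isPGroup'.to_le inf_le_left
    have hcon : N.IsConstrained p := isConstrained_of_isModel N ι hM
    obtain ⟨φ, -⟩ := Cfsg.Agent.S5091.result p hS N hcon ι _ hM hM₀
    have h1 : InvolvesGrp ↥(Cfsg.qd p) L := involvesGrp_iff_involves.mpr hinv
    have h2 : InvolvesGrp ↥(Cfsg.qd p)
        (↥(Subgroup.normalizer (Q : Set G)) ⧸ pPrimeCore p ↥(Subgroup.normalizer (Q : Set G))) :=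
      InvolvesGrp.of_surjective φ.symm.toMonoidHom φ.symm.surjective h1
    have h3 : InvolvesGrp ↥(Cfsg.qd p) ↥(Subgroup.normalizer (Q : Set G)) :=
      InvolvesGrp.of_surjective (QuotientGroup.mk' _) (QuotientGroup.mk'_surjective _) h2
    exact involvesGrp_iff_involves.mp h3.of_subgroup

end Cfsg.Agent.S5206
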