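import Cfsg.Statements.S5222
import Cfsg.Agent.Lib.Helper85.FusionInnerCrit

set_option autoImplicit false
open Cfsg

namespace Cfsg.Agent.S5222

open scoped commutatorElement

open Cfsg.FusionSystem Cfsg.Agent.Lib.Helper85 in
theorem aut_inner_of_eq {Ω : Type*} [Group Ω] {S : Subgroup Ω} [Finite S] (F : Cfsg.FusionSystem S)
    (hN : ∀ N : Cfsg.FusionSystem (Cfsg.FusionSystem.normalizerIn S S), F.IsNormalizerSystem S N →
      ∀ P : Subgroup Ω, N.Hom P = (Cfsg.innerFusionSystem (Cfsg.FusionSystem.normalizerIn S S)).Hom P)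
    (R : Subgroup Ω) (hR : R = S) (ν : R →* Ω) (hν : ν ∈ F.Hom R) :
    ∃ g ∈ S, ∀ x : R, ν x = g * (x : Ω) * g⁻¹ := by
  subst hR
  exact aut_top_inner_of_normalizer_inner F hN ν hν

/-- Let F be a saturated fusion system over a finite p-group S whose normalizer fusion system of S is the inner fusion system of S (Aut_F(S) is a p-group). Then for every subgroup Q of S with [S, S] ≤ Q ≤ Φ(S), the normalizer fusion system of Q in F is the inner fusion system of N_S(Q) = S. -/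
theorem result {Ω : Type*} [Group Ω] {S : Subgroup Ω} [Finite S] (p : ℕ) [Fact p.Prime] (hS : IsPGroup p S) (F : Cfsg.FusionSystem S) (hF : F.IsSaturated p) (hN : ∀ N : Cfsg.FusionSystem (Cfsg.FusionSystem.normalizerIn S S), F.IsNormalizerSystem S N → ∀ P : Subgroup Ω, N.Hom P = (Cfsg.innerFusionSystem (Cfsg.FusionSystem.normalizerIn S S)).Hom P) (Q : Subgroup Ω) (h1 : (commutator ↥S).map S.subtype ≤ Q) (h2 : Q ≤ (frattini ↥S).map S.subtype) : ∀ N : Cfsg.FusionSystem (Cfsg.FusionSystem.normalizerIn S Q), F.IsNormalizerSystem Q N → ∀ P : Subgroup Ω, N.Hom P = (Cfsg.innerFusionSystem (Cfsg.FusionSystem.normalizerIn S Q)).Hom P := by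
  open Cfsg.FusionSystem Cfsg.Agent.Lib.Helper85 in
  intro N hNQ P
  have hcomm : ⁅(S : Subgroup Ω), (S : Subgroup Ω)⁆ ≤ Q := by
    refine le_trans ?_ h1
    rw [Subgroup.commutator_le]
    intro g₁ hg₁ g₂ hg₂
    exact ⟨⁅(⟨g₁, hg₁⟩ : S), ⟨g₂, hg₂⟩⁆,
      Subgroup.commutator_mem_commutator (Subgroup.mem_top _) (Subgroup.mem_top _), rfl⟩
  have hQS : Q ≤ S := h2.trans (Subgroup.map_subtype_le _)
  have hQn : S ≤ Subgroup.normalizer (Q : Set Ω) := by
    intro s hs
    rw [Subgroup.mem_normalizer_iff]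
    intro h
    constructor
    · intro hh
      have e : s * h * s⁻¹ = ⁅s, h⁆ * h := by rw [commutatorElement_def]; group
      rw [e]
      exact Q.mul_mem (hcomm (Subgroup.commutator_mem_commutator hs (hQS hh))) hh
    · intro hh
      have e : h = ⁅s⁻¹, s * h * s⁻¹⁆ * (s * h * s⁻¹) := by rw [commutatorElement_def]; group
      rw [e]
      exact Q.mul_mem (hcomm (Subgroup.commutator_mem_commutator (S.inv_mem hs) (hQS hh))) hh
  have hNS : normalizerIn S Q = S := le_antisymm inf_le_left (le_inf le_rfl hQn)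
  have hfin : Finite ↥(normalizerIn S Q) := Cfsg.Agent.Lib.Helper87.finite_of_le inf_le_left
  have hS' : IsPGroup p ↥(normalizerIn S Q) := hS.to_le inf_le_left
  have hQfn : F.IsFullyNormalized Q := by
    refine ⟨hQS, fun Q' _ => ?_⟩
    rw [hNS]
    exact Subgroup.card_le_of_le inf_le_left
  have hNsat : N.IsSaturated p :=
    Cfsg.Agent.Lib.Helper87.isSaturated_of_isNormalizerSystem F hS hF hQfn hNQ
  have hAut' : ∀ ν : ↥(normalizerIn S Q) →* Ω, ν ∈ N.Hom (normalizerIn S Q) →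
      ∃ g ∈ normalizerIn S Q, ∀ x : ↥(normalizerIn S Q), ν x = g * (x : Ω) * g⁻¹ := by
    intro ν hν
    rw [hNQ] at hν
    obtain ⟨g, hg, hgx⟩ := aut_inner_of_eq F hN _ hNS ν hν.1
    exact ⟨g, hNS.symm ▸ hg, hgx⟩
  have hQ' : N.StronglyClosed Q := by
    refine ⟨hNS.symm ▸ hQS, fun R hRQ φ hφ x => ?_⟩
    rw [hNQ] at hφ
    obtain ⟨-, -, -, ψ, -, hψx, hψQ⟩ := hφ
    rw [← hψx x]
    exact ((Cfsg.Agent.Lib.Helper87.map_subgroupOf_eq_iff ψ).1 hψQ).1 _ (hRQ x.2)
  have h1' : ⁅(normalizerIn S Q : Subgroup Ω), (normalizerIn S Q : Subgroup Ω)⁆ ≤ Q := by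
    rw [hNS]
    exact hcomm
  have h2' : Q ≤ (frattini ↥(normalizerIn S Q)).map (normalizerIn S Q).subtype := by
    rw [hNS]
    exact h2
  have := eq_inner_of_stronglyClosed_le_frattini N hS' hNsat hAut' Q hQ' h1' h2'
  rw [this]

end Cfsg.Agent.S5222
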