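import Cfsg.Statements.S5223
import Cfsg.Agent.Lib.Helper87.FusionSat

set_option autoImplicit false
open Cfsg

namespace Cfsg.Agent.S5223

open Cfsg.Agent.Lib.Helper87 Cfsg.FusionSystem

variable {Ω : Type*} [Group Ω] {S : Subgroup Ω}

/-- The restriction of an element of `Aut_F(P)` to the cyclic subgroup generated by an element of `P`, evaluated at that
element, as a value of a map of the system defined on that cyclic subgroup. -/
theorem exists_hom_zpowers (F : FusionSystem S) {P : Subgroup Ω} (hP : P ≤ S) {β : MulAut P}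
    (hβ : β ∈ F.autGroup P) (y : P) :
    ∃ φ ∈ F.Hom (Subgroup.zpowers (y : Ω)), φ ⟨(y : Ω), Subgroup.mem_zpowers (y : Ω)⟩ = ((β y : P) : Ω) := by
  have hle : Subgroup.zpowers (y : Ω) ≤ P := (Subgroup.zpowers_le).2 y.2
  have hiso : IsIso F (β : P ≃* P) := (mem_autGroup_iff F hP).1 hβ
  refine ⟨(P.subtype.comp (β : P ≃* P).toMonoidHom).comp (Subgroup.inclusion hle), ?_, rfl⟩
  exact restrict_mem F hiso hle

theorem pow_apply_mul_pow {P : Type*} [Group P] (β : MulAut P) (x b : P) (hx : β x = x * b) (hb : β b = b) (j : ℕ) :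
    (β ^ j) x = x * b ^ j := by
  induction j with
  | zero => simp
  | succ j ih =>
    rw [pow_succ', MulAut.mul_apply, ih, map_mul, map_pow, hx, hb, pow_succ', mul_assoc]

theorem isPGroup_autGroup [Finite S] (p : ℕ) [Fact p.Prime] (hS : IsPGroup p S) (F : FusionSystem S)
    (n : ℕ) (Q : Fin (n + 1) → Subgroup Ω) (hQ0 : Q 0 = S) (hQn : Q (Fin.last n) = ⊥)
    (hstep : ∀ i : Fin n, Subgroup.closure {y : Ω | ∃ x ∈ Q i.castSucc, ∃ φ ∈ F.Hom (Subgroup.zpowers x),
      y = x⁻¹ * φ ⟨x, Subgroup.mem_zpowers x⟩} ≤ Q i.succ)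
    (P : Subgroup Ω) (hP : P ≤ S) : IsPGroup p (F.autGroup P) := by
  have hfin : Finite P := finite_of_le hP
  have hPp : IsPGroup p P := hS.to_le hP  
  obtain ⟨e, he⟩ := IsPGroup.iff_card.1 hPp
  rintro ⟨α, hα⟩
  -- the key claim, by downward induction on `i`
  have claim : ∀ i : Fin (n + 1), ∃ k : ℕ, ∀ x : P, (∀ m : ℕ, (((α ^ m) x : P) : Ω) ∈ Q i) →
      (α ^ (p ^ k)) x = x := by
    intro i
    induction i using Fin.reverseInduction with
    | last =>
      refine ⟨0, fun x hx => ?_⟩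
      have h0 := hx 0
      rw [hQn, Subgroup.mem_bot] at h0
      have hx1 : x = 1 := Subtype.ext (by simpa using h0)
      rw [hx1, map_one]
    | cast i ih =>
      obtain ⟨k, hk⟩ := ih
      refine ⟨k + e, fun x hx => ?_⟩
      set β : MulAut P := α ^ (p ^ k) with hβdef
      have hβF : β ∈ F.autGroup P := Subgroup.pow_mem _ hα _
      set b : P := x⁻¹ * β x with hbdef
      have hcomm : ∀ m : ℕ, ∀ z : P, (α ^ m) (β z) = β ((α ^ m) z) := by
        intro m z
        rw [hβdef, ← MulAut.mul_apply, ← MulAut.mul_apply, ← pow_add, ← pow_add, add_comm]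
      have hb : β b = b := by
        apply hk
        intro m
        have h1 : (α ^ m) b = ((α ^ m) x)⁻¹ * β ((α ^ m) x) := by
          rw [hbdef, map_mul, map_inv, hcomm]
        rw [h1]
        obtain ⟨φ, hφ, hφy⟩ := exists_hom_zpowers F hP hβF ((α ^ m) x)
        apply hstep i
        apply Subgroup.subset_closure
        refine ⟨(((α ^ m) x : P) : Ω), hx m, φ, hφ, ?_⟩
        rw [hφy]
        rfl
      have hxb : β x = x * b := by rw [hbdef]; group
      have h2 := pow_apply_mul_pow β x b hxb hb (p ^ e)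
      have hb1 : b ^ (p ^ e) = 1 := by
        rw [← he]
        exact pow_card_eq_one'
      rw [hb1, mul_one] at h2
      rw [pow_add, pow_mul]
      exact h2
  obtain ⟨k, hk⟩ := claim 0
  refine ⟨k, Subtype.ext ?_⟩
  show α ^ p ^ k = 1
  ext x
  have := hk x (fun m => by rw [hQ0]; exact hP ((α ^ m) x).2)
  rw [this]
  rfl

/-- Let F be a saturated fusion system over a finite p-group S. Suppose there are subgroups Q₀ = S, Q₁, …, Qₙ = 1 (not required to be nested) such that for each i < n the focal subgroup of Qᵢ (generated by the elements x⁻¹φ(x), x ∈ Qᵢ, φ a map of F defined on the cyclic group generated by x) lies in Qᵢ₊₁. Then F is the inner fusion system of S. -/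
theorem result {Ω : Type*} [Group Ω] {S : Subgroup Ω} [Finite S] (p : ℕ) [Fact p.Prime] (hS : IsPGroup p S) (F : Cfsg.FusionSystem S) (hF : F.IsSaturated p) (n : ℕ) (Q : Fin (n + 1) → Subgroup Ω) (hQ0 : Q 0 = S) (hQn : Q (Fin.last n) = ⊥) (hstep : ∀ i : Fin n, Subgroup.closure {y : Ω | ∃ x ∈ Q i.castSucc, ∃ φ ∈ F.Hom (Subgroup.zpowers x), y = x⁻¹ * φ ⟨x, Subgroup.mem_zpowers x⟩} ≤ Q i.succ) : ∀ P : Subgroup Ω, F.Hom P = (Cfsg.innerFusionSystem S).Hom P := by
  exact eq_inner_of_autGroup_isPGroup F hS hF (fun P hP => isPGroup_autGroup p hS F n Q hQ0 hQn hstep P hP)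

end Cfsg.Agent.S5223
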