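import Cfsg.Statements.S5225
import Cfsg.Agent.Lib.Helper85.FusionYoshida

set_option autoImplicit false
open Cfsg

namespace Cfsg.Agent.S5225

open Cfsg.Agent.Lib.Helper85 in
/-- automorphisms of `S` in `F` are maps of the normalizer system of `S` -/
theorem mem_normalizerHom_top {Ω : Type*} [Group Ω] {S : Subgroup Ω} [Finite S] (F : Cfsg.FusionSystem S)
    (ν : S →* Ω) (hν : ν ∈ F.Hom S) : ν ∈ F.normalizerHom S S := by
  have hSN : S ≤ Cfsg.FusionSystem.normalizerIn S S := le_inf le_rfl Subgroup.le_normalizer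
  have hle : S ⊔ S ≤ S := sup_le le_rfl le_rfl
  have hrange : ν.range = S := by
    apply Subgroup.eq_of_le_of_card_ge
    · rintro _ ⟨x, rfl⟩
      exact (F.le_of_mem hν).2 x
    · rw [Nat.card_congr (MonoidHom.ofInjective (F.injective_of_mem hν)).toEquiv]
  refine ⟨hν, hSN, fun x => hSN ((F.le_of_mem hν).2 x), ν.comp (Subgroup.inclusion hle),
    restrict_mem F hν hle, fun x => rfl, ?_⟩
  apply le_antisymm
  · rintro _ ⟨y, -, rfl⟩
    exact (F.le_of_mem hν).2 _
  · intro s hs
    rw [← hrange] at hs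
    obtain ⟨x, rfl⟩ := hs
    refine ⟨⟨x, (le_sup_left : S ≤ S ⊔ S) x.2⟩, ?_, rfl⟩
    rw [SetLike.mem_coe, Subgroup.mem_subgroupOf]
    exact x.2

/-- Yoshida's Theorem for fusion systems. Let F be a saturated fusion system over a finite p-group S and N the normalizer fusion system of S in F. If the focal subgroups of F and N differ (N does not control transfer in F), then S has a quotient isomorphic to the wreath product C_p ≀ C_p (realised as a Sylow p-subgroup of the symmetric group of degree p²). -/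
theorem result {Ω : Type*} [Group Ω] {S : Subgroup Ω} [Finite S] (p : ℕ) [Fact p.Prime] (hS : IsPGroup p S) (F : Cfsg.FusionSystem S) (hF : F.IsSaturated p) (N : Cfsg.FusionSystem (Cfsg.FusionSystem.normalizerIn S S)) (hN : F.IsNormalizerSystem S N) (hne : N.focalSubgroup ≠ F.focalSubgroup) : ∃ (W : Sylow p (Equiv.Perm (Fin (p ^ 2)))) (f : ↥S →* ↥(W : Subgroup (Equiv.Perm (Fin (p ^ 2))))), Function.Surjective f := by
  have hSN : S ≤ Cfsg.FusionSystem.normalizerIn S S := le_inf le_rfl Subgroup.le_normalizer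
  have hDW : N.focalSubgroup ≤ F.focalSubgroup := by
    unfold Cfsg.FusionSystem.focalSubgroup
    apply Subgroup.closure_mono
    rintro y ⟨P, φ, x, hφ, rfl⟩
    rw [hN P] at hφ
    exact ⟨P, φ, x, hφ.1, rfl⟩
  have hSD : ⁅(S : Subgroup Ω), (S : Subgroup Ω)⁆ ≤ N.focalSubgroup := by
    rw [Subgroup.commutator_le]
    intro a ha b hb
    rw [commutatorElement_def]
    have e : a * b * a⁻¹ * b⁻¹ = (a⁻¹)⁻¹ * (b * a⁻¹ * b⁻¹) := by group
    rw [e]
    apply Subgroup.subset_closure
    exact ⟨S, Cfsg.conjHom S b, ⟨a⁻¹, S.inv_mem ha⟩, N.conj_mem hSN (hSN hb), rfl⟩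
  obtain ⟨lam, hlamp, hlamD, u, huW, hu⟩ :=
    Lib.Helper85.exists_char_of_focal_lt F hS hF N.focalSubgroup hDW hSD hne
  refine Lib.Helper85.yoshida_of_char F hS hF lam hlamp ?_ u huW hu
  intro ν hν s h
  have h1 : ν ∈ N.Hom S := by
    rw [hN S]
    exact mem_normalizerHom_top F ν hν
  have h2 : ((s⁻¹ * ⟨ν s, h⟩ : S) : Ω) ∈ N.focalSubgroup := by
    apply Subgroup.subset_closure
    exact ⟨S, ν, s, h1, rfl⟩
  have h3 := hlamD _ h2
  rw [map_mul, map_inv, inv_mul_eq_one] at h3
  exact h3.symm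

end Cfsg.Agent.S5225
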