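-- Statement S5226 (row 5226), helper87.
import Cfsg.Statements.S5226
import Cfsg.Agent.Lib.Helper87.FusionNormal

set_option autoImplicit false
open Cfsg

namespace Cfsg.Agent.S5226

open Cfsg.Agent.Lib.Helper87 Cfsg.FusionSystem
open scoped commutatorElement

variable {Ω : Type*} [Group Ω] {S : Subgroup Ω}

/-- A subgroup normal in the system is strongly closed. -/
theorem stronglyClosed_of_isNormal (F : FusionSystem S) {Q : Subgroup Ω} (hQ : F.IsNormal Q) :
    F.StronglyClosed Q := by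
  refine ⟨hQ.1, fun R hRQ φ hφ x => ?_⟩
  obtain ⟨ψ, -, hψe, hψQ⟩ := hQ.2 R φ hφ
  rw [map_subgroupOf_eq_iff] at hψQ
  rw [← hψe x]
  exact hψQ.1 _ (hRQ x.2)

/-- If `Q` is normal in the system, every map of the system defined on a subgroup `W` of `Q` is the restriction of an
automorphism of `Q` (as a group). -/
theorem exists_aut_of_isNormal (F : FusionSystem S) {Q : Subgroup Ω} (hQ : F.IsNormal Q) {W : Subgroup Ω}
    (hWQ : W ≤ Q) {φ : W →* Ω} (hφ : φ ∈ F.Hom W) :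
    ∃ β : MulAut Q, ∀ w : W, φ w = ((β ⟨(w : Ω), hWQ w.2⟩ : Q) : Ω) := by
  obtain ⟨ψ, hψ, hψe, hψQ⟩ := hQ.2 W φ hφ
  rw [map_subgroupOf_eq_iff] at hψQ
  have hsup : W ⊔ Q = Q := sup_eq_right.2 hWQ
  let f : Q →* Q :=
    { toFun := fun q => ⟨ψ ⟨(q : Ω), (le_sup_right : Q ≤ W ⊔ Q) q.2⟩, hψQ.1 _ q.2⟩
      map_one' := by
        apply Subtype.ext
        exact map_one ψ
      map_mul' := by
        intro a b
        apply Subtype.ext
        exact map_mul ψ ⟨(a : Ω), _⟩ ⟨(b : Ω), _⟩ }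
  have hinj : Function.Injective f := by
    intro a b hab
    have h1 : ψ ⟨(a : Ω), (le_sup_right : Q ≤ W ⊔ Q) a.2⟩ = ψ ⟨(b : Ω), (le_sup_right : Q ≤ W ⊔ Q) b.2⟩ :=
      congrArg Subtype.val hab
    have h2 := F.injective_of_mem hψ h1
    have h3 : (a : Ω) = (b : Ω) := congrArg (fun z : ↥(W ⊔ Q) => (z : Ω)) h2
    exact Subtype.ext h3
  have hsurj : Function.Surjective f := by
    intro q
    obtain ⟨x, hx, hxq⟩ := hψQ.2 (q : Ω) q.2
    exact ⟨⟨(x : Ω), hx⟩, Subtype.ext hxq⟩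
  refine ⟨MulEquiv.ofBijective f ⟨hinj, hsurj⟩, fun w => ?_⟩
  rw [← hψe w]
  rfl

theorem forward (F : FusionSystem S) [Finite S] {p : ℕ} [Fact p.Prime] (hS : IsPGroup p S) {Q : Subgroup Ω}
    (hQ : F.IsNormal Q) :
    ∃ (n : ℕ) (C : Fin (n + 1) → Subgroup Ω), C 0 = ⊥ ∧ C (Fin.last n) = Q ∧ Monotone C ∧
      (∀ i : Fin n, ⁅C i.succ, Q⁆ ≤ C i.castSucc) ∧ ∀ i : Fin n, F.WeaklyClosed (C i.castSucc) := by
  have hQS : Q ≤ S := hQ.1
  have hfin : Finite Q := finite_of_le hQS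
  have hQp : IsPGroup p Q := hS.to_le hQS
  have hnil : Group.IsNilpotent Q := hQp.isNilpotent
  refine ⟨Group.nilpotencyClass Q, fun i => (Subgroup.upperCentralSeries Q i).map Q.subtype, ?_, ?_, ?_, ?_, ?_⟩
  · show (Subgroup.upperCentralSeries Q 0).map Q.subtype = ⊥
    rw [Subgroup.upperCentralSeries_zero, Subgroup.map_bot]
  · show (Subgroup.upperCentralSeries Q (Group.nilpotencyClass Q)).map Q.subtype = Q
    rw [Subgroup.upperCentralSeries_nilpotencyClass, ← MonoidHom.range_eq_map, Subgroup.range_subtype]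
  · intro i j hij
    exact Subgroup.map_mono (Subgroup.upperCentralSeries_mono Q hij)
  · intro i
    rw [Subgroup.commutator_le]
    rintro _ ⟨z, hz, rfl⟩ q hq
    have h1 : ⁅z, (⟨q, hq⟩ : Q)⁆ ∈ Subgroup.upperCentralSeries Q i :=
      Subgroup.mem_upperCentralSeries_succ_iff.1 hz ⟨q, hq⟩
    exact ⟨_, h1, rfl⟩
  · intro i
    refine ⟨(Subgroup.map_subtype_le _).trans hQS, fun φ hφ => ?_⟩
    have hWQ : (Subgroup.upperCentralSeries Q i.castSucc).map Q.subtype ≤ Q := Subgroup.map_subtype_le _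
    obtain ⟨β, hβ⟩ := exists_aut_of_isNormal F hQ hWQ hφ
    have hchar : (Subgroup.upperCentralSeries Q i.castSucc).map β.toMonoidHom =
        Subgroup.upperCentralSeries Q i.castSucc :=
      Subgroup.characteristic_iff_map_eq.1 inferInstance β
    ext y
    constructor
    · rintro ⟨w, rfl⟩
      rw [hβ w]
      obtain ⟨z, hz, hzw⟩ := w.2
      have h1 : (⟨(w : Ω), hWQ w.2⟩ : Q) = z := Subtype.ext hzw.symm
      rw [h1]
      refine ⟨β z, ?_, rfl⟩
      rw [← hchar]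
      exact ⟨z, hz, rfl⟩
    · rintro ⟨z, hz, rfl⟩
      rw [← hchar] at hz
      obtain ⟨z', hz', rfl⟩ := hz
      refine ⟨⟨(z' : Ω), ⟨z', hz', rfl⟩⟩, ?_⟩
      rw [hβ]
      rfl

theorem backward (F : FusionSystem S) [Finite S] {p : ℕ} [Fact p.Prime] (hS : IsPGroup p S)
    (hF : F.IsSaturated p) {Q : Subgroup Ω} (hQ : F.StronglyClosed Q) (n : ℕ) (C : Fin (n + 1) → Subgroup Ω)
    (hC0 : C 0 = ⊥) (hCn : C (Fin.last n) = Q) (hmono : Monotone C)
    (hcomm : ∀ i : Fin n, ⁅C i.succ, Q⁆ ≤ C i.castSucc) (hwc : ∀ i : Fin n, F.WeaklyClosed (C i.castSucc)) :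
    F.IsNormal Q := by
  let c : ℕ → Subgroup Ω := fun k => C ⟨min k n, Nat.lt_succ_of_le (min_le_right k n)⟩
  refine isNormal_of_chain F hS hF Q hQ n c ?_ ?_ ?_ ?_ ?_
  · show C ⟨min 0 n, _⟩ = ⊥
    have : (⟨min 0 n, Nat.lt_succ_of_le (min_le_right 0 n)⟩ : Fin (n + 1)) = 0 := by
      apply Fin.ext
      simp
    rw [this, hC0]
  · intro k hk
    show C ⟨min k n, _⟩ = Q
    have : (⟨min k n, Nat.lt_succ_of_le (min_le_right k n)⟩ : Fin (n + 1)) = Fin.last n := by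
      apply Fin.ext
      simp [hk]
    rw [this, hCn]
  · intro a b hab
    apply hmono
    show (⟨min a n, _⟩ : Fin (n + 1)) ≤ ⟨min b n, _⟩
    rw [Fin.mk_le_mk]
    exact min_le_min_right n hab
  · intro k hk
    have h1 : (⟨min (k + 1) n, Nat.lt_succ_of_le (min_le_right (k + 1) n)⟩ : Fin (n + 1)) =
        (⟨k, hk⟩ : Fin n).succ := by
      apply Fin.ext
      simp
      omega
    have h2 : (⟨min k n, Nat.lt_succ_of_le (min_le_right k n)⟩ : Fin (n + 1)) = (⟨k, hk⟩ : Fin n).castSucc := by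
      apply Fin.ext
      simp
      omega
    show ⁅C _, Q⁆ ≤ C _
    rw [h1, h2]
    exact hcomm ⟨k, hk⟩
  · intro k hk
    have h2 : (⟨min k n, Nat.lt_succ_of_le (min_le_right k n)⟩ : Fin (n + 1)) = (⟨k, hk⟩ : Fin n).castSucc := by
      apply Fin.ext
      simp
      omega
    show F.WeaklyClosed (C _)
    rw [h2]
    exact hwc ⟨k, hk⟩

/-- Let F be a saturated fusion system over a finite p-group S and Q a subgroup of S. Then Q is normal in F (F equals the normalizer system of Q) if and only if Q is strongly closed in F and admits a central series 1 = Q₀ ≤ Q₁ ≤ ⋯ ≤ Qₙ = Q ([Qᵢ₊₁, Q] ≤ Qᵢ) all of whose proper terms are weakly closed in F. -/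
theorem result {Ω : Type*} [Group Ω] {S : Subgroup Ω} [Finite S] (p : ℕ) [Fact p.Prime] (hS : IsPGroup p S) (F : Cfsg.FusionSystem S) (hF : F.IsSaturated p) (Q : Subgroup Ω) : F.IsNormal Q ↔ F.StronglyClosed Q ∧ ∃ (n : ℕ) (C : Fin (n + 1) → Subgroup Ω), C 0 = ⊥ ∧ C (Fin.last n) = Q ∧ Monotone C ∧ (∀ i : Fin n, ⁅C i.succ, Q⁆ ≤ C i.castSucc) ∧ ∀ i : Fin n, F.WeaklyClosed (C i.castSucc) := by
  constructor
  · intro hQ
    exact ⟨stronglyClosed_of_isNormal F hQ, forward F hS hQ⟩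
  · rintro ⟨hQ, n, C, hC0, hCn, hmono, hcomm, hwc⟩
    exact backward F hS hF hQ n C hC0 hCn hmono hcomm hwc

end Cfsg.Agent.S5226
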