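import Cfsg.Statements.S5233
import Cfsg.Agent.Lib.Helper73.NormalLocal
import Cfsg.Agent.Lib.Helper87.GenExtra
import Cfsg.Agent.Lib.Helper87.SL2Trans
import Cfsg.Agent.Lib.Helper87.FusionFrattini
import Cfsg.Agent.Lib.Helper87.FusionLift
import Cfsg.Agent.Lib.Helper87.FusionFully
import Cfsg.Agent.S0012

set_option autoImplicit false
open Cfsg

namespace Cfsg.Agent.S5233

open Cfsg.Agent.Lib
open Cfsg.Agent.Lib.Helper87
open Cfsg.Agent.Lib.Helper73 (resAut chainTwo resAut_apply)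
open scoped commutatorElement

/-- The interface: the image `Z` in `Ω` of the derived subgroup of `P` and its properties. -/
theorem interface {Ω : Type*} [Group Ω] {P : Subgroup Ω} [Finite P] {p : ℕ} [hpF : Fact p.Prime]
    (hPp : IsPGroup p P) (hge : frattini ↥P = commutator ↥P ∧ Nat.card ↥(commutator ↥P) = p) :
    ∃ Z : Subgroup Ω, Z ≤ P ∧ Nat.card Z = p ∧ (∀ x ∈ P, ∀ y ∈ P, x * y * x⁻¹ * y⁻¹ ∈ Z) ∧
      (∀ x ∈ P, x ^ p ∈ Z) ∧ (∀ z ∈ Z, ∀ x ∈ P, z * x = x * z) ∧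
      (p ≠ 2 → ∀ x ∈ P, ∀ y ∈ P, (x * y) ^ p = x ^ p * y ^ p) ∧
      (∀ g : Ω, (∀ x, x ∈ P ↔ g * x * g⁻¹ ∈ P) → ∀ z ∈ Z, g * z * g⁻¹ ∈ Z) ∧
      (∀ z ∈ Z, ∃ hz : z ∈ P, (⟨z, hz⟩ : P) ∈ commutator P) := by
  have hD : Nat.card (commutator P) = p := hge.2
  have hDZ : commutator P ≤ Subgroup.center P := commutator_le_center_of_card_eq hPp hD
  have hpow : ∀ x : P, x ^ p ∈ commutator P := fun x => hge.1 ▸ (Cfsg.Agent.S0012.result p hPp).2 x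
  have hmem : ∀ x, x ∈ (commutator P).map P.subtype ↔ ∃ hx : x ∈ P, (⟨x, hx⟩ : P) ∈ commutator P := by
    intro x
    rw [Subgroup.mem_map]
    constructor
    · rintro ⟨y, hy, rfl⟩
      exact ⟨y.2, hy⟩
    · rintro ⟨hx, hy⟩
      exact ⟨⟨x, hx⟩, hy, rfl⟩
  refine ⟨(commutator P).map P.subtype, ?_, ?_, ?_, ?_, ?_, ?_, ?_, ?_⟩
  · intro x hx
    obtain ⟨hxP, -⟩ := (hmem x).1 hx
    exact hxP
  · rw [Subgroup.card_map_of_injective P.subtype_injective, hD]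
  · intro x hx y hy
    rw [hmem]
    refine ⟨P.mul_mem (P.mul_mem (P.mul_mem hx hy) (P.inv_mem hx)) (P.inv_mem hy), ?_⟩
    have h1 : ⁅(⟨x, hx⟩ : P), ⟨y, hy⟩⁆ ∈ commutator P :=
      Subgroup.commutator_mem_commutator (Subgroup.mem_top _) (Subgroup.mem_top _)
    exact h1
  · intro x hx
    rw [hmem]
    exact ⟨P.pow_mem hx p, hpow ⟨x, hx⟩⟩
  · intro z hz x hx
    obtain ⟨hzP, hzc⟩ := (hmem z).1 hz
    have h1 := Subgroup.mem_center_iff.1 (hDZ hzc) ⟨x, hx⟩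
    exact (congrArg Subtype.val h1).symm
  · intro hp2 x hx y hy
    have h1 := Cfsg.Agent.Lib.Helper86.mul_pow_of_class_two hp2 hD hDZ (⟨x, hx⟩ : P) ⟨y, hy⟩
    exact congrArg Subtype.val h1
  · intro g hg z hz
    obtain ⟨hzP, hzc⟩ := (hmem z).1 hz
    rw [hmem]
    refine ⟨(hg z).1 hzP, ?_⟩
    -- conjugation by `g` as an automorphism of `P`
    let c : P ≃* P :=
      { toFun := fun x => ⟨g * x * g⁻¹, (hg x).1 x.2⟩
        invFun := fun x => ⟨g⁻¹ * x * g, (hg _).2 (by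
          have : g * (g⁻¹ * (x : Ω) * g) * g⁻¹ = x := by group
          rw [this]
          exact x.2)⟩
        left_inv := fun x => Subtype.ext (by show g⁻¹ * (g * (x : Ω) * g⁻¹) * g = x; group)
        right_inv := fun x => Subtype.ext (by show g * (g⁻¹ * (x : Ω) * g) * g⁻¹ = x; group)
        map_mul' := fun x y => Subtype.ext (by show g * ((x : Ω) * y) * g⁻¹ = g * x * g⁻¹ * (g * y * g⁻¹); group) }
    have hchar : (commutator P).Characteristic := by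
      rw [commutator_def]
      infer_instance
    have h1 := (Subgroup.characteristic_iff_map_le.1 hchar) c
    exact h1 (Subgroup.mem_map_of_mem _ hzc)
  · intro z hz
    exact (hmem z).1 hz


/-- **Key lemma.** If an automorphism `β ∈ Aut_F(R)` moves `z ∈ Z` out of `Z`, the centralizer in `P` of `β z` is
abelian of exponent `p`. -/
theorem key_lemma {Ω : Type*} [Group Ω] {S : Subgroup Ω} [Finite S] {p : ℕ} [hpF : Fact p.Prime]
    (hS : IsPGroup p S) (F : FusionSystem S) (hF : F.IsSaturated p) (P : Subgroup Ω) (hP : F.StronglyClosed P)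
    (Z : Subgroup Ω) (hZP : Z ≤ P) (hZcard : Nat.card Z = p)
    (hcomm : ∀ x ∈ P, ∀ y ∈ P, x * y * x⁻¹ * y⁻¹ ∈ Z) (hpow : ∀ x ∈ P, x ^ p ∈ Z)
    (hZn : ∀ g ∈ S, ∀ z ∈ Z, g * z * g⁻¹ ∈ Z)
    (R : Subgroup Ω) (hRS : R ≤ S) (β : MulAut R) (hβ : β ∈ F.autGroup R) (z : R) (hz : (z : Ω) ∈ Z)
    (z' : Ω) (hz'def : z' = ((β z : R) : Ω)) (hz' : z' ∉ Z) :
    (∀ a ∈ P, ∀ b ∈ P, a * z' = z' * a → b * z' = z' * b → a * b = b * a) ∧
      (∀ a ∈ P, a * z' = z' * a → a ^ p = 1) := by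
  classical
  have hpp : p.Prime := hpF.out
  have hPS : P ≤ S := hP.1
  have hZS : Z ≤ S := hZP.trans hPS
  have hz'P : z' ∈ P := hz'def ▸ StronglyClosed_aut_mem hP hRS hβ (hZP hz)
  have hz1 : (z : Ω) ≠ 1 := by
    intro h
    apply hz'
    have : z = 1 := Subtype.ext h
    rw [hz'def, this, map_one]
    exact Z.one_mem
  have hz'1 : z' ≠ 1 := fun h => hz' (h ▸ Z.one_mem)
  have hZgen : ∀ w ∈ Z, ∃ k : ℕ, (z : Ω) ^ k = w := fun w hw => exists_pow_eq_of_card_prime Z hZcard hz hz1 hw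
  have hZR : Z ≤ R := by
    intro w hw
    obtain ⟨k, rfl⟩ := hZgen w hw
    exact R.pow_mem z.2 k
  have hzp : (z : Ω) ^ p = 1 := by
    have h1 : (⟨(z : Ω), hz⟩ : Z) ^ Nat.card Z = 1 := pow_card_eq_one'
    rw [hZcard] at h1
    exact congrArg Subtype.val h1
  have hz'p : z' ^ p = 1 := by
    rw [hz'def, ← Subgroup.coe_pow, ← map_pow]
    have : z ^ p = 1 := Subtype.ext (by rw [Subgroup.coe_pow]; exact hzp)
    rw [this, map_one]
    rfl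
  -- `Z` is fully normalized
  have hZfn : F.IsFullyNormalized Z := by
    refine ⟨hZS, fun Q _ => ?_⟩
    have h1 : S ≤ FusionSystem.normalizerIn S Z := le_normalizerIn_of_conj_mem hZn
    have hfin : Finite (FusionSystem.normalizerIn S Z) := finite_of_le (normalizerIn_le S Z)
    exact (Subgroup.card_le_of_le (normalizerIn_le S Q)).trans (Subgroup.card_le_of_le h1)
  obtain ⟨hZa, hZr⟩ := fullyAutomized_receptive_of_fullyNormalized F hS hF hZfn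
  -- the conjugate `Z'` of `Z`
  have hφ₀ := restrict_mem F ((mem_autGroup_iff F hRS).1 hβ) hZR
  obtain ⟨φ₀, hφ₀def⟩ : ∃ φ₀ : Z →* Ω, φ₀ = (R.subtype.comp (β : R ≃* R).toMonoidHom).comp
    (Subgroup.inclusion hZR) := ⟨_, rfl⟩
  rw [← hφ₀def] at hφ₀
  have hφ₀_apply : ∀ w : Z, φ₀ w = ((β ⟨(w : Ω), hZR w.2⟩ : R) : Ω) := fun w => by rw [hφ₀def]; rfl
  obtain ⟨Z', hZ'def⟩ : ∃ Z' : Subgroup Ω, Z' = φ₀.range := ⟨_, rfl⟩
  have hconj : F.IsConj Z Z' := ⟨φ₀, hφ₀, hZ'def.symm⟩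
  obtain ⟨ψ, e, hψ, -, hψe⟩ := exists_extension F hS hZa hZr (IsConj_symm hconj)
  have hψinj := F.injective_of_mem hψ
  have hz'Z' : z' ∈ Z' := by
    rw [hZ'def]
    exact ⟨⟨(z : Ω), hz⟩, by rw [hφ₀_apply, hz'def]⟩
  have hZ'gen : ∀ x ∈ Z', ∃ k : ℕ, x = z' ^ k := by
    intro x hx
    rw [hZ'def] at hx
    obtain ⟨w, rfl⟩ := hx
    obtain ⟨k, hk⟩ := hZgen w w.2
    refine ⟨k, ?_⟩
    have h1 : (⟨(w : Ω), hZR w.2⟩ : R) = z ^ k := Subtype.ext (by rw [Subgroup.coe_pow]; exact hk.symm)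
    rw [hφ₀_apply, h1, map_pow, Subgroup.coe_pow, hz'def]
  have hN : ∀ a ∈ S, a * z' = z' * a → a ∈ FusionSystem.normalizerIn S Z' := by
    intro a haS hac
    refine ⟨haS, ?_⟩
    show a ∈ Subgroup.normalizer (Z' : Set Ω)
    have hc : ∀ k : ℕ, a * z' ^ k * a⁻¹ = z' ^ k := by
      intro k
      have h1 : Commute a (z' ^ k) := Commute.pow_right hac k
      rw [h1.eq, mul_inv_cancel_right]
    rw [Subgroup.mem_normalizer_iff]
    intro h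
    constructor
    · intro hh
      obtain ⟨k, rfl⟩ := hZ'gen h hh
      rw [hc k]
      exact hh
    · intro hh
      obtain ⟨k, hk⟩ := hZ'gen _ hh
      have h1 : h = z' ^ k := by
        have h2 : a * h * a⁻¹ = a * z' ^ k * a⁻¹ := by rw [hc k]; exact hk
        exact mul_left_cancel (mul_right_cancel h2)
      rw [h1]
      exact Z'.pow_mem hz'Z' k
  have hz'N : z' ∈ FusionSystem.normalizerIn S Z' := hN z' (hPS hz'P) rfl
  have hψz'Z : ψ ⟨z', hz'N⟩ ∈ Z := by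
    rw [hψe z' hz'Z' hz'N]
    exact (e ⟨z', hz'Z'⟩).2
  have hψz'1 : ψ ⟨z', hz'N⟩ ≠ 1 := by
    intro h
    have h1 : (⟨z', hz'N⟩ : FusionSystem.normalizerIn S Z') = 1 := hψinj (by rw [h, map_one])
    exact hz'1 (congrArg Subtype.val h1)
  have hZ'card : Nat.card (Subgroup.zpowers z') = p := card_zpowers_of_pow_eq_one hz'p hz'1
  -- the sub-lemma
  have hSL : ∀ (w : Ω) (hwN : w ∈ FusionSystem.normalizerIn S Z'), w ∈ Z → ψ ⟨w, hwN⟩ ∈ Z → w = 1 := by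
    intro w hwN hwZ hψw
    obtain ⟨k, hk⟩ := exists_pow_eq_of_card_prime Z hZcard hψz'Z hψz'1 hψw
    rw [← map_pow] at hk
    have h1 := congrArg Subtype.val (hψinj hk)
    have h2 : z' ^ k = w := h1
    by_contra hw1
    obtain ⟨j, hj⟩ := exists_pow_eq_of_card_prime (Subgroup.zpowers z') hZ'card
      (h2 ▸ Subgroup.pow_mem _ (Subgroup.mem_zpowers z') k) hw1 (Subgroup.mem_zpowers z')
    exact hz' (hj ▸ Z.pow_mem hwZ j)
  have hψP : ∀ (a : Ω) (haN : a ∈ FusionSystem.normalizerIn S Z'), a ∈ P → ψ ⟨a, haN⟩ ∈ P :=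
    fun a haN haP => StronglyClosed_map_mem hP hψ (x := ⟨a, haN⟩) haP
  constructor
  · intro a ha b hb hac hbc
    have haN := hN a (hPS ha) hac
    have hbN := hN b (hPS hb) hbc
    have hwN : a * b * a⁻¹ * b⁻¹ ∈ FusionSystem.normalizerIn S Z' :=
      Subgroup.mul_mem _ (Subgroup.mul_mem _ (Subgroup.mul_mem _ haN hbN) (Subgroup.inv_mem _ haN))
        (Subgroup.inv_mem _ hbN)
    have h1 : ψ ⟨a * b * a⁻¹ * b⁻¹, hwN⟩ = ψ ⟨a, haN⟩ * ψ ⟨b, hbN⟩ * (ψ ⟨a, haN⟩)⁻¹ * (ψ ⟨b, hbN⟩)⁻¹ := by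
      rw [← map_inv, ← map_inv, ← map_mul, ← map_mul, ← map_mul]
      rfl
    have h2 := hSL _ hwN (hcomm a ha b hb) (h1 ▸ hcomm _ (hψP a haN ha) _ (hψP b hbN hb))
    have h3 : a * b = (a * b * a⁻¹ * b⁻¹) * (b * a) := by group
    rw [h3, h2, one_mul]
  · intro a ha hac
    have haN := hN a (hPS ha) hac
    have hwN : a ^ p ∈ FusionSystem.normalizerIn S Z' := Subgroup.pow_mem _ haN p
    have h1 : ψ ⟨a ^ p, hwN⟩ = (ψ ⟨a, haN⟩) ^ p := by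
      rw [← map_pow]
      rfl
    exact hSL _ hwN (hpow a ha) (h1 ▸ hpow _ (hψP a haN ha))

/-- The excluded isomorphism types: in a group `P` which is not of the excluded types, if the centralizer of `z'` is
abelian of exponent `p` then `p` is odd and that centralizer contains all elements of order `p`. -/
theorem modular_case {Ω : Type*} [Group Ω] {P : Subgroup Ω} [Finite P] {p : ℕ} [hpF : Fact p.Prime]
    (hPp : IsPGroup p P) (hge : frattini ↥P = commutator ↥P ∧ Nat.card ↥(commutator ↥P) = p)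
    (h2 : p = 2 → ¬ ∃ (A : Type) (_ : CommGroup A), (∀ a : A, a ^ 2 = 1) ∧ Nonempty (↥P ≃* DihedralGroup 4 × A))
    (hodd : p ≠ 2 → ¬ ∃ (E : Type) (_ : Group E) (A : Type) (_ : CommGroup A), Cfsg.IsExtraspecial p E ∧
      Nat.card E = p ^ 3 ∧ Monoid.exponent E = p ∧ (∀ a : A, a ^ p = 1) ∧ Nonempty (↥P ≃* E × A))
    (z' : Ω) (hz'P : z' ∈ P)
    (hab : ∀ a ∈ P, ∀ b ∈ P, a * z' = z' * a → b * z' = z' * b → a * b = b * a)
    (hexp : ∀ a ∈ P, a * z' = z' * a → a ^ p = 1) :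
    p ≠ 2 ∧ ∀ v ∈ P, v ^ p = 1 → v * z' = z' * v := by
  have hD : Nat.card (commutator P) = p := hge.2
  have hDZ : commutator P ≤ Subgroup.center P := commutator_le_center_of_card_eq hPp hD
  have hpow : ∀ x : P, x ^ p ∈ commutator P := fun x => hge.1 ▸ (Cfsg.Agent.S0012.result p hPp).2 x
  have hab' : ∀ a b : P, a * ⟨z', hz'P⟩ = ⟨z', hz'P⟩ * a → b * ⟨z', hz'P⟩ = ⟨z', hz'P⟩ * b → a * b = b * a :=
    fun a b ha hb => Subtype.ext (hab a a.2 b b.2 (congrArg Subtype.val ha) (congrArg Subtype.val hb))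
  have hexp' : ∀ a : P, a * ⟨z', hz'P⟩ = ⟨z', hz'P⟩ * a → a ^ p = 1 :=
    fun a ha => Subtype.ext (by rw [Subgroup.coe_pow]; exact hexp a a.2 (congrArg Subtype.val ha))
  have hex : ∃ v : P, v * ⟨z', hz'P⟩ ≠ ⟨z', hz'P⟩ * v := by
    by_contra hcon
    push Not at hcon
    have h1 : commutator P = ⊥ := by
      rw [commutator_def, eq_bot_iff, Subgroup.commutator_le]
      intro a _ b _
      rw [Subgroup.mem_bot, commutatorElement_eq_one_iff_mul_comm]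
      exact hab' a b (hcon a) (hcon b)
    rw [h1, Subgroup.card_bot] at hD
    exact hpF.out.one_lt.ne hD
  obtain ⟨v, hv⟩ := hex
  by_cases hp2 : p = 2
  · exact absurd (exists_dihedral_prod hp2 hD hDZ hpow ⟨z', hz'P⟩ v hab' hexp' hv) (h2 hp2)
  · refine ⟨hp2, fun w hw hwp => ?_⟩
    by_contra hne
    refine hodd hp2 (exists_extraspecial_prod hp2 hD hDZ ⟨z', hz'P⟩ ⟨w, hw⟩ hab' hexp' (fun h => hne ?_) ?_)
    · exact congrArg Subtype.val h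
    · exact Subtype.ext (by rw [Subgroup.coe_pow]; exact hwp)

/-- A subgroup whose elements commute, as a commutative group. -/
@[reducible] def commGroupOfComm {R : Type*} [Group R] (V : Subgroup R) (h : ∀ a ∈ V, ∀ b ∈ V, a * b = b * a) :
    CommGroup V :=
  { (inferInstance : Group V) with
    mul_comm := fun a b => Subtype.ext (h a a.2 b b.2) }

/-- The modular sub-case is impossible. -/
theorem no_modular {Ω : Type*} [Group Ω] {S : Subgroup Ω} [Finite S] {p : ℕ} [hpF : Fact p.Prime] (hp2 : p ≠ 2)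
    (hS : IsPGroup p S) (F : FusionSystem S) (P : Subgroup Ω) (hP : F.StronglyClosed P)
    (Z : Subgroup Ω) (hZP : Z ≤ P) (hZcard : Nat.card Z = p)
    (hcomm : ∀ x ∈ P, ∀ y ∈ P, x * y * x⁻¹ * y⁻¹ ∈ Z) (hpow : ∀ x ∈ P, x ^ p ∈ Z)
    (hcen : ∀ z ∈ Z, ∀ x ∈ P, z * x = x * z)
    (hmulpow : ∀ x ∈ P, ∀ y ∈ P, (x * y) ^ p = x ^ p * y ^ p)
    (R : Subgroup Ω) (hRa : F.IsFullyAutomized p R) (hRr : F.IsReceptive R)
    (α : MulAut R) (hα : α ∈ F.autGroup R) (z : R) (hz : (z : Ω) ∈ Z) (hz' : ((α z : R) : Ω) ∉ Z)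
    (hC : ∀ v ∈ P, v * ((α z : R) : Ω) = ((α z : R) : Ω) * v ↔ v ^ p = 1)
    (hC' : ∀ v ∈ P, v * ((α⁻¹ z : R) : Ω) = ((α⁻¹ z : R) : Ω) * v ↔ v ^ p = 1)
    (hab : ∀ a ∈ P, ∀ b ∈ P, a ^ p = 1 → b ^ p = 1 → a * b = b * a)
    (hP₀R : ∀ v ∈ P, v ^ p = 1 → v ∈ R) (hH : ∀ h ∈ P, h ∈ R → h ^ p = 1)
    (y₀ : Ω) (hy₀P : y₀ ∈ P) (hy₀N : y₀ ∈ FusionSystem.normalizerIn S R) (hy₀R : y₀ ∉ R) : False := by
  classical
  have hpp : p.Prime := hpF.out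
  have hRS : R ≤ S := hRa.1
  have hPS : P ≤ S := hP.1
  have hRfin : Finite R := finite_of_le hRS
  have hRp : IsPGroup p R := hS.to_le hRS
  have hPn : ∀ g ∈ S, ∀ x ∈ P, g * x * g⁻¹ ∈ P := fun g hg x hx => StronglyClosed_conj_mem hP hg hx
  have hαinv : α⁻¹ ∈ F.autGroup R := Subgroup.inv_mem _ hα
  have hz1 : (z : Ω) ≠ 1 := by
    intro h
    apply hz'
    have : z = 1 := Subtype.ext h
    rw [this, map_one]
    exact Z.one_mem
  have hZgen : ∀ w ∈ Z, ∃ k : ℕ, (z : Ω) ^ k = w := fun w hw => exists_pow_eq_of_card_prime Z hZcard hz hz1 hw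
  have hZexp : ∀ w ∈ Z, w ^ p = 1 := by
    intro w hw
    have h1 : (⟨w, hw⟩ : Z) ^ Nat.card Z = 1 := pow_card_eq_one'
    rw [hZcard] at h1
    exact congrArg Subtype.val h1
  have hy₀p : y₀ ^ p ≠ 1 := fun h => hy₀R (hP₀R y₀ hy₀P h)
  -- the subgroup `V` of `R` of the elements of `P` of order dividing `p`
  let V : Subgroup R :=
    { carrier := {r | (r : Ω) ∈ P ∧ (r : Ω) ^ p = 1}
      one_mem' := ⟨P.one_mem, one_pow p⟩
      mul_mem' := fun {a b} ha hb => ⟨P.mul_mem ha.1 hb.1, by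
        show ((a : Ω) * (b : Ω)) ^ p = 1
        rw [hmulpow _ ha.1 _ hb.1, ha.2, hb.2, one_mul]⟩
      inv_mem' := fun {a} ha => ⟨P.inv_mem ha.1, by
        show ((a : Ω)⁻¹) ^ p = 1
        rw [inv_pow, ha.2, inv_one]⟩ }
  have hVmem : ∀ r : R, r ∈ V ↔ (r : Ω) ∈ P ∧ (r : Ω) ^ p = 1 := fun r => Iff.rfl
  have hVH : ∀ r : R, (r : Ω) ∈ P → r ∈ V := fun r hr => ⟨hr, hH _ hr r.2⟩
  have hinvV : ∀ β ∈ F.autGroup R, ∀ x ∈ V, β x ∈ V :=
    fun β hβ x hx => hVH _ (StronglyClosed_aut_mem hP hRS hβ hx.1)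
  have hVc : ∀ a ∈ V, ∀ b ∈ V, a * b = b * a :=
    fun a ha b hb => Subtype.ext (hab _ ha.1 _ hb.1 ha.2 hb.2)
  have hVe : ∀ a : V, a ^ p = 1 := fun a => Subtype.ext (Subtype.ext a.2.2)
  have hzV : z ∈ V := ⟨hZP hz, hZexp _ hz⟩
  have hz'V : α z ∈ V := hinvV α hα z hzV
  -- the automorphisms `t` and `t'`
  have hcA : ∀ (x : Ω) (hx : x ∈ FusionSystem.normalizerIn S R), conjAut R x hx.2 ∈ F.autGroup R :=
    fun x hx => Helper87.autInducedBy_le_autGroup F hRS (mem_autInducedBy_iff.2 ⟨x, hx.1, fun _ => rfl⟩)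
  obtain ⟨t, ht⟩ : ∃ t : MulAut R, t = conjAut R y₀ hy₀N.2 := ⟨_, rfl⟩
  have ht_apply : ∀ r : R, ((t r : R) : Ω) = y₀ * (r : Ω) * y₀⁻¹ := fun r => by rw [ht]; rfl
  have htA : t ∈ F.autGroup R := ht ▸ hcA y₀ hy₀N
  have htS : t ∈ autInducedBy S R := mem_autInducedBy_iff.2 ⟨y₀, hy₀N.1, ht_apply⟩
  obtain ⟨a, ha⟩ : ∃ a : ℕ, y₀ ^ p ^ a = 1 := by
    obtain ⟨k, hk⟩ := hS ⟨y₀, hPS hy₀P⟩
    exact ⟨k, congrArg Subtype.val hk⟩
  have hta : t ^ p ^ a = 1 := by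
    ext x
    rw [conj_pow_apply (g := y₀) ht_apply, ha]
    simp
  obtain ⟨t', ht'⟩ : ∃ t' : MulAut R, t' = α * t * α⁻¹ := ⟨_, rfl⟩
  have ht'A : t' ∈ F.autGroup R := ht' ▸ Subgroup.mul_mem _ (Subgroup.mul_mem _ hα htA) hαinv
  have ht'a : t' ^ p ^ a = 1 := by rw [ht', conj_pow, hta, mul_one, mul_inv_cancel]
  -- `t` acts on `V`
  have htV : ∀ v ∈ V, ∃ k : ℕ, v⁻¹ * t v = z ^ k := by
    intro v hv
    have h1 : (v : Ω)⁻¹ * y₀ * (v : Ω)⁻¹⁻¹ * y₀⁻¹ ∈ Z := hcomm _ (P.inv_mem hv.1) _ hy₀P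
    obtain ⟨k, hk⟩ := hZgen _ h1
    refine ⟨k, Subtype.ext ?_⟩
    show (v : Ω)⁻¹ * ((t v : R) : Ω) = ((z ^ k : R) : Ω)
    rw [ht_apply, Subgroup.coe_pow, hk, inv_inv]
    group
  have htz : t z = z := by
    apply Subtype.ext
    rw [ht_apply, ← hcen _ hz _ hy₀P, mul_inv_cancel_right]
  have htz' : t (α z) ≠ α z := by
    intro h
    have h1 := congrArg Subtype.val h
    rw [ht_apply] at h1
    have h2 : y₀ * ((α z : R) : Ω) = ((α z : R) : Ω) * y₀ := mul_inv_eq_iff_eq_mul.1 h1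
    exact hy₀p ((hC y₀ hy₀P).1 h2)
  have htz'' : t (α⁻¹ z) ≠ α⁻¹ z := by
    intro h
    have h1 := congrArg Subtype.val h
    rw [ht_apply] at h1
    have h2 : y₀ * ((α⁻¹ z : R) : Ω) = ((α⁻¹ z : R) : Ω) * y₀ := mul_inv_eq_iff_eq_mul.1 h1
    exact hy₀p ((hC' y₀ hy₀P).1 h2)
  -- `t'` acts on `V`
  have ht'V : ∀ v ∈ V, ∃ k : ℕ, v⁻¹ * t' v = (α z) ^ k := by
    intro v hv
    obtain ⟨k, hk⟩ := htV (α⁻¹ v) (hinvV _ hαinv v hv)
    refine ⟨k, ?_⟩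
    rw [ht', MulAut.mul_apply, MulAut.mul_apply, ← map_pow, ← hk, map_mul, map_inv, MulAut.apply_inv_self]
  have ht'z' : t' (α z) = α z := by
    rw [ht', MulAut.mul_apply, MulAut.mul_apply, MulAut.inv_apply_self, htz]
  have ht'z : t' z ≠ z := by
    intro h
    rw [ht', MulAut.mul_apply, MulAut.mul_apply] at h
    apply htz''
    have h1 := congrArg (fun x => α⁻¹ x) h
    simp only [MulAut.inv_apply_self] at h1
    exact h1
  -- the `SL₂`-lemma on `V`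
  let _ : CommGroup V := commGroupOfComm V hVc
  obtain ⟨ρ, hρ⟩ : ∃ ρ : F.autGroup R →* MulAut V, ρ = resAut (F.autGroup R) V hinvV := ⟨_, rfl⟩
  have hρ_apply : ∀ (β : F.autGroup R) (v : V), ((ρ β v : V) : R) = β.1 v := fun β v => by rw [hρ]; rfl
  have hρpow : ∀ (β : MulAut R) (hβ : β ∈ F.autGroup R) (n : ℕ), β ^ n = 1 → (ρ ⟨β, hβ⟩) ^ n = 1 := by
    intro β hβ n h
    rw [← map_pow]
    have : (⟨β, hβ⟩ : F.autGroup R) ^ n = 1 := Subtype.ext h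
    rw [this, map_one]
  obtain ⟨τV, hτVcl, hτVz, hτVt⟩ := exists_inverting_of_transvections hp2 hVe (ρ ⟨t, htA⟩) (ρ ⟨t', ht'A⟩)
    (hρpow t htA _ hta) (hρpow t' ht'A _ ht'a) ⟨z, hzV⟩ ⟨α z, hz'V⟩
    (by
      intro v
      obtain ⟨k, hk⟩ := htV v v.2
      exact ⟨k, Subtype.ext (by rw [Subgroup.coe_mul, Subgroup.coe_inv, hρ_apply, Subgroup.coe_pow]; exact hk)⟩)
    (Subtype.ext (by rw [hρ_apply]; exact htz))
    (fun h => htz' (by
      have h1 := congrArg Subtype.val h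
      rw [hρ_apply] at h1
      exact h1))
    (by
      intro v
      obtain ⟨k, hk⟩ := ht'V v v.2
      exact ⟨k, Subtype.ext (by rw [Subgroup.coe_mul, Subgroup.coe_inv, hρ_apply, Subgroup.coe_pow]; exact hk)⟩)
    (Subtype.ext (by rw [hρ_apply]; exact ht'z'))
    (fun h => ht'z (by
      have h1 := congrArg Subtype.val h
      rw [hρ_apply] at h1
      exact h1))
  have hτVr : τV ∈ ρ.range := by
    have hle : Subgroup.closure ({ρ ⟨t, htA⟩, ρ ⟨t', ht'A⟩} : Set (MulAut V)) ≤ ρ.range := by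
      rw [Subgroup.closure_le]
      rintro β (rfl | rfl)
      · exact ⟨_, rfl⟩
      · exact ⟨_, rfl⟩
    exact hle hτVcl
  obtain ⟨τ, hτ⟩ := hτVr
  have hτz : τ.1 z = z⁻¹ := by
    have h1 := congrArg (fun v : V => (v : R)) hτVz
    rw [← hτ] at h1
    simp only [hρ_apply, Subgroup.coe_inv] at h1
    exact h1
  have hτt : ∀ v ∈ V, (τ.1 * t * τ.1⁻¹) v = t v := by
    intro v hv
    have h1 : ρ (τ * ⟨t, htA⟩ * τ⁻¹) = ρ ⟨t, htA⟩ := by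
      rw [map_mul, map_mul, map_inv, hτ]
      exact hτVt
    have h2 := congrArg (fun f : MulAut V => ((f ⟨v, hv⟩ : V) : R)) h1
    simp only [hρ_apply] at h2
    exact h2
  have hτA : τ.1 ∈ F.autGroup R := τ.2
  -- the chain stabilizers
  have hinv2 : ∀ j ≤ 2, ∀ β ∈ F.autGroup R, ∀ x ∈ chainTwo V j, β x ∈ chainTwo V j := by
    intro j hj β hβ x hx
    match j, hj, hx with
    | 0, _, _ => trivial
    | 1, _, hx => exact hinvV β hβ x hx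
    | 2, _, hx =>
      have h1 : x = 1 := hx
      rw [h1, map_one]
      exact Subgroup.one_mem _
  have hinv1 : ∀ j ≤ 1, ∀ β ∈ F.autGroup R, ∀ x ∈ chainTwo V j, β x ∈ chainTwo V j :=
    fun j hj => hinv2 j (by omega)
  obtain ⟨K₁, hK₁⟩ : ∃ K₁ : Subgroup (MulAut R), K₁ = chainStab (F.autGroup R) 1 (chainTwo V) hinv1 := ⟨_, rfl⟩
  obtain ⟨K₀, hK₀⟩ : ∃ K₀ : Subgroup (MulAut R), K₀ = chainStab (F.autGroup R) 2 (chainTwo V) hinv2 := ⟨_, rfl⟩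
  have hK₁mem : ∀ β, β ∈ K₁ ↔ β ∈ F.autGroup R ∧ ∀ r : R, r⁻¹ * β r ∈ V := by
    intro β
    rw [hK₁]
    constructor
    · rintro ⟨h1, h2⟩
      exact ⟨h1, fun r => h2 0 (by norm_num) r trivial⟩
    · rintro ⟨h1, h2⟩
      refine ⟨h1, fun j hj r _ => ?_⟩
      have hj0 : j = 0 := by omega
      subst hj0
      exact h2 r
  have hK₀mem : ∀ β, β ∈ K₀ ↔ β ∈ F.autGroup R ∧ (∀ r : R, r⁻¹ * β r ∈ V) ∧ ∀ v ∈ V, β v = v := by
    intro β
    rw [hK₀]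
    constructor
    · rintro ⟨h1, h2⟩
      refine ⟨h1, fun r => h2 0 (by norm_num) r trivial, fun v hv => ?_⟩
      have h3 : v⁻¹ * β v = 1 := h2 1 (by norm_num) v hv
      exact (inv_mul_eq_one.1 h3).symm
    · rintro ⟨h1, h2, h3⟩
      refine ⟨h1, fun j hj r hr => ?_⟩
      match j, hj, hr with
      | 0, _, _ => exact h2 r
      | 1, _, hr =>
        show r⁻¹ * β r = 1
        rw [h3 r hr, inv_mul_cancel]
  have htK₁ : t ∈ K₁ := by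
    rw [hK₁mem]
    refine ⟨htA, fun r => hVH _ ?_⟩
    show (r : Ω)⁻¹ * ((t r : R) : Ω) ∈ P
    rw [ht_apply]
    have h1 : (r : Ω)⁻¹ * y₀ * (r : Ω)⁻¹⁻¹ ∈ P := hPn _ (S.inv_mem (hRS r.2)) y₀ hy₀P
    have h2 : (r : Ω)⁻¹ * (y₀ * (r : Ω) * y₀⁻¹) = ((r : Ω)⁻¹ * y₀ * (r : Ω)⁻¹⁻¹) * y₀⁻¹ := by
      rw [inv_inv]; simp only [mul_assoc]
    rw [h2]
    exact P.mul_mem h1 (P.inv_mem hy₀P)
  have hK₁n : ∀ γ ∈ F.autGroup R, ∀ β ∈ K₁, γ * β * γ⁻¹ ∈ K₁ := by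
    intro γ hγ β hβ
    rw [hK₁] at hβ ⊢
    exact chainStab_conj_mem _ _ _ hinv1 hγ hβ
  obtain ⟨κ, hκ⟩ : ∃ κ : MulAut R, κ = τ.1 * t * τ.1⁻¹ * t⁻¹ := ⟨_, rfl⟩
  have hκK₀ : κ ∈ K₀ := by
    have h1 : κ ∈ K₁ := hκ ▸ K₁.mul_mem (hK₁n _ hτA _ htK₁) (K₁.inv_mem htK₁)
    obtain ⟨h2, h3⟩ := (hK₁mem κ).1 h1
    rw [hK₀mem]
    refine ⟨h2, h3, fun v hv => ?_⟩
    have h4 : t⁻¹ v ∈ V := hinvV _ (Subgroup.inv_mem _ htA) v hv
    rw [hκ, MulAut.mul_apply, hτt _ h4, MulAut.apply_inv_self]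
  have hK₀S : K₀ ≤ autInducedBy S R := by
    refine le_autInducedBy_of_normal_isPGroup F hRa K₀ ?_ ?_ ?_
    · rw [hK₀]; exact chainStab_le _ _ _ _
    · intro γ hγ β hβ
      rw [hK₀] at hβ ⊢
      exact chainStab_conj_mem _ _ _ hinv2 hγ hβ
    · rw [hK₀]
      exact chainStab_isPGroup hRp _ 2 (chainTwo V) rfl rfl hinv2
  have hτtS : τ.1 * conjAut R y₀ hy₀N.2 * τ.1⁻¹ ∈ autInducedBy S R := by
    have h1 : τ.1 * conjAut R y₀ hy₀N.2 * τ.1⁻¹ = κ * t := by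
      rw [hκ, ← ht, inv_mul_cancel_right]
    rw [h1]
    exact Subgroup.mul_mem _ (hK₀S hκK₀) htS
  -- the extension of `τ`
  obtain ⟨X, ψ, hψ, hRX, hXN, hψR, hX⟩ := exists_extension_aut F hRS hRr τ.1 hτA
  have hy₀X : y₀ ∈ X := hX y₀ hy₀N hτtS
  obtain ⟨u, hu⟩ : ∃ u : Ω, u = ψ ⟨y₀, hy₀X⟩ := ⟨_, rfl⟩
  have huP : u ∈ P := hu ▸ StronglyClosed_map_mem hP hψ (x := ⟨y₀, hy₀X⟩) hy₀P
  -- `u ^ p = (y₀ ^ p)⁻¹`
  have hup : u ^ p = (y₀ ^ p)⁻¹ := by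
    obtain ⟨k, hk⟩ := hZgen _ (hpow y₀ hy₀P)
    have hzkR : (z : Ω) ^ k ∈ R := R.pow_mem z.2 k
    have h1 : ψ ⟨y₀ ^ p, X.pow_mem hy₀X p⟩ = u ^ p := by
      rw [hu, ← map_pow]
      rfl
    have h2 : ψ ⟨y₀ ^ p, X.pow_mem hy₀X p⟩ = ψ ⟨(z : Ω) ^ k, hRX hzkR⟩ := by
      congr 1
      exact Subtype.ext hk.symm
    rw [← h1, h2, hψR _ hzkR]
    have h3 : (⟨(z : Ω) ^ k, hzkR⟩ : R) = z ^ k := Subtype.ext (by rw [Subgroup.coe_pow])
    rw [h3, map_pow, hτz, Subgroup.coe_pow, Subgroup.coe_inv, inv_pow, hk]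
  -- `u` acts on `α z` as `y₀` does
  have huz : u * ((α z : R) : Ω) * u⁻¹ = y₀ * ((α z : R) : Ω) * y₀⁻¹ := by
    obtain ⟨w, hw⟩ : ∃ w : R, w = τ.1⁻¹ (α z) := ⟨_, rfl⟩
    have hτw : τ.1 w = α z := by rw [hw, MulAut.apply_inv_self]
    have hwX : (w : Ω) ∈ X := hRX w.2
    have h1 : ψ ⟨(w : Ω), hwX⟩ = ((α z : R) : Ω) := by rw [hψR _ w.2, ← hτw]
    have htwX : ((t w : R) : Ω) ∈ X := hRX (t w).2
    have h2 : ψ ⟨((t w : R) : Ω), htwX⟩ = ((t (α z) : R) : Ω) := by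
      rw [hψR _ (t w).2]
      have h3 := hτt _ hz'V
      rw [MulAut.mul_apply, MulAut.mul_apply, ← hw] at h3
      exact congrArg Subtype.val h3
    have h4 : (⟨((t w : R) : Ω), htwX⟩ : X) = ⟨y₀, hy₀X⟩ * ⟨(w : Ω), hwX⟩ * ⟨y₀, hy₀X⟩⁻¹ :=
      Subtype.ext (ht_apply w)
    rw [h4, map_mul, map_mul, map_inv, h1, ← hu, ht_apply] at h2
    exact h2
  -- conclusion
  obtain ⟨q, hq⟩ : ∃ q : Ω, q = y₀⁻¹ * u := ⟨_, rfl⟩
  have hqP : q ∈ P := hq ▸ P.mul_mem (P.inv_mem hy₀P) huP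
  have hqz : q * ((α z : R) : Ω) = ((α z : R) : Ω) * q := by
    have h1 : u * ((α z : R) : Ω) = y₀ * ((α z : R) : Ω) * y₀⁻¹ * u := by
      rw [← huz, inv_mul_cancel_right]
    rw [hq, mul_assoc, h1]
    group
  have hqp : q ^ p = 1 := (hC q hqP).1 hqz
  have huy : u = y₀ * q := by rw [hq, mul_inv_cancel_left]
  have h5 : y₀ ^ p = (y₀ ^ p)⁻¹ := by
    rw [← hup, huy, hmulpow _ hy₀P _ hqP, hqp, mul_one]
  have h6 : (y₀ ^ p) ^ 2 = 1 := by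
    rw [pow_two]
    nth_rewrite 2 [h5]
    exact mul_inv_cancel _
  have h7 : (y₀ ^ p) ^ p = 1 := hZexp _ (hpow y₀ hy₀P)
  have h8 : (y₀ ^ p) ^ Nat.gcd 2 p = 1 := pow_gcd_eq_one.2 ⟨h6, h7⟩
  have hcop : Nat.gcd 2 p = 1 := (Nat.coprime_primes Nat.prime_two hpp).2 (Ne.symm hp2)
  rw [hcop, pow_one] at h8
  exact hy₀p h8

/-- The chain `G ≥ H ≥ Z ≥ 1 ≥ ⋯`. -/
def chainThree {G : Type*} [Group G] (H Z : Subgroup G) : ℕ → Subgroup G
  | 0 => ⊤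
  | 1 => H
  | 2 => Z
  | (_ + 3) => ⊥

/-- The local step: for `R` fully automized and receptive, not containing `P`, a normal `p`-subgroup of `Aut_F(R)`
containing the conjugation by an element of `N_S(R)` outside `R`. -/
theorem local_step {Ω : Type*} [Group Ω] {S : Subgroup Ω} [Finite S] {p : ℕ} [hpF : Fact p.Prime]
    (hS : IsPGroup p S) (F : FusionSystem S) (hF : F.IsSaturated p) (P : Subgroup Ω) (hP : F.StronglyClosed P)
    (hge : frattini ↥P = commutator ↥P ∧ Nat.card ↥(commutator ↥P) = p)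
    (h2 : p = 2 → ¬ ∃ (A : Type) (_ : CommGroup A), (∀ a : A, a ^ 2 = 1) ∧ Nonempty (↥P ≃* DihedralGroup 4 × A))
    (hodd : p ≠ 2 → ¬ ∃ (E : Type) (_ : Group E) (A : Type) (_ : CommGroup A), Cfsg.IsExtraspecial p E ∧
      Nat.card E = p ^ 3 ∧ Monoid.exponent E = p ∧ (∀ a : A, a ^ p = 1) ∧ Nonempty (↥P ≃* E × A))
    (R : Subgroup Ω) (hRa : F.IsFullyAutomized p R) (hRr : F.IsReceptive R) (hPR : ¬ P ≤ R) :
    ∃ K : Subgroup (MulAut R), K ≤ F.autGroup R ∧ (∀ α ∈ F.autGroup R, ∀ β ∈ K, α * β * α⁻¹ ∈ K) ∧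
      IsPGroup p K ∧ ∃ (x : Ω) (hx : x ∈ FusionSystem.normalizerIn S R), x ∉ R ∧ conjAut R x hx.2 ∈ K := by
  classical
  have hpp : p.Prime := hpF.out
  have hRS : R ≤ S := hRa.1
  have hPS : P ≤ S := hP.1
  have hPfin : Finite P := finite_of_le hPS
  have hPp : IsPGroup p P := hS.to_le hPS
  have hRfin : Finite R := finite_of_le hRS
  have hRp : IsPGroup p R := hS.to_le hRS
  have hPn : ∀ g ∈ S, ∀ x ∈ P, g * x * g⁻¹ ∈ P := fun g hg x hx => StronglyClosed_conj_mem hP hg hx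
  obtain ⟨Z, hZP, hZcard, hcomm, hpow, hcen, hmulpow, hZchar, -⟩ := interface hPp hge
  have hZn : ∀ g ∈ S, ∀ z ∈ Z, g * z * g⁻¹ ∈ Z := by
    intro g hg
    refine hZchar g (fun x => ⟨hPn g hg x, fun h => ?_⟩)
    have := hPn g⁻¹ (S.inv_mem hg) _ h
    simpa [mul_assoc] using this
  have hZexp : ∀ w ∈ Z, w ^ p = 1 := by
    intro w hw
    have h1 : (⟨w, hw⟩ : Z) ^ Nat.card Z = 1 := pow_card_eq_one'
    rw [hZcard] at h1
    exact congrArg Subtype.val h1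
  obtain ⟨y₀, hy₀P, hy₀N', hy₀R⟩ := exists_mem_normalizer_not_mem hS hPS hRS hPn hPR
  have hy₀N : y₀ ∈ FusionSystem.normalizerIn S R := ⟨hPS hy₀P, hy₀N'⟩
  obtain ⟨H, hH⟩ : ∃ H : Subgroup R, H = P.subgroupOf R := ⟨_, rfl⟩
  have hmemH : ∀ r : R, r ∈ H ↔ (r : Ω) ∈ P := fun r => by rw [hH, Subgroup.mem_subgroupOf]
  have hinvH : ∀ α ∈ F.autGroup R, ∀ x ∈ H, α x ∈ H := fun α hα x hx =>
    (hmemH _).2 (StronglyClosed_aut_mem hP hRS hα ((hmemH x).1 hx))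
  have hconj : ∀ (x : Ω) (hx : x ∈ FusionSystem.normalizerIn S R), x ∈ P →
      ∀ r : R, r⁻¹ * conjAut R x hx.2 r ∈ H := by
    intro x hx hxP r
    rw [hmemH]
    show (r : Ω)⁻¹ * (x * (r : Ω) * x⁻¹) ∈ P
    have h1 : (r : Ω)⁻¹ * x * (r : Ω)⁻¹⁻¹ ∈ P := hPn _ (S.inv_mem (hRS r.2)) x hxP
    have h2 : (r : Ω)⁻¹ * (x * (r : Ω) * x⁻¹) = ((r : Ω)⁻¹ * x * (r : Ω)⁻¹⁻¹) * x⁻¹ := by
      rw [inv_inv]; simp only [mul_assoc]
    rw [h2]
    exact P.mul_mem h1 (P.inv_mem hxP)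
  have hcA : ∀ (x : Ω) (hx : x ∈ FusionSystem.normalizerIn S R), conjAut R x hx.2 ∈ F.autGroup R :=
    fun x hx => Helper87.autInducedBy_le_autGroup F hRS (mem_autInducedBy_iff.2 ⟨x, hx.1, fun _ => rfl⟩)
  -- the stabilizer `K₂` of the chain `R ≥ H ≥ 1`
  have hinv2 : ∀ j ≤ 2, ∀ β ∈ F.autGroup R, ∀ x ∈ chainTwo H j, β x ∈ chainTwo H j := by
    intro j hj β hβ x hx
    match j, hj, hx with
    | 0, _, _ => trivial
    | 1, _, hx => exact hinvH β hβ x hx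
    | 2, _, hx =>
      have h1 : x = 1 := hx
      rw [h1, map_one]
      exact Subgroup.one_mem _
  obtain ⟨K₂, hK₂⟩ : ∃ K₂ : Subgroup (MulAut R), K₂ = chainStab (F.autGroup R) 2 (chainTwo H) hinv2 := ⟨_, rfl⟩
  have hK₂le : K₂ ≤ F.autGroup R := by rw [hK₂]; exact chainStab_le _ _ _ _
  have hK₂n : ∀ α ∈ F.autGroup R, ∀ β ∈ K₂, α * β * α⁻¹ ∈ K₂ := by
    intro γ hγ β hβ
    rw [hK₂] at hβ ⊢
    exact chainStab_conj_mem _ _ _ hinv2 hγ hβ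
  have hK₂p : IsPGroup p K₂ := by
    rw [hK₂]
    exact chainStab_isPGroup hRp _ 2 (chainTwo H) rfl rfl hinv2
  have hK₂mem : ∀ (x : Ω) (hx : x ∈ FusionSystem.normalizerIn S R), x ∈ P →
      (∀ h ∈ H, conjAut R x hx.2 h = h) → conjAut R x hx.2 ∈ K₂ := by
    intro x hx hxP hfix
    rw [hK₂]
    refine ⟨hcA x hx, fun j hj r hr => ?_⟩
    match j, hj, hr with
    | 0, _, _ => exact hconj x hx hxP r
    | 1, _, hr =>
      show r⁻¹ * conjAut R x hx.2 r = 1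
      rw [hfix r hr, inv_mul_cancel]
  by_cases hZR : Z ≤ R
  swap
  · -- `Z ∩ R = 1`
    obtain ⟨x, hxZ, hxR⟩ := SetLike.not_le_iff_exists.1 hZR
    have hZR0 : Z ⊓ R = ⊥ := inf_eq_bot_of_card_prime hZcard hxZ hxR
    refine ⟨K₂, hK₂le, hK₂n, hK₂p, y₀, hy₀N, hy₀R, hK₂mem y₀ hy₀N hy₀P ?_⟩
    intro h hh
    have hhP : (h : Ω) ∈ P := (hmemH h).1 hh
    have h1 : (h : Ω)⁻¹ * y₀ * (h : Ω)⁻¹⁻¹ * y₀⁻¹ ∈ Z := hcomm _ (P.inv_mem hhP) _ hy₀P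
    have h2 : (h : Ω)⁻¹ * y₀ * (h : Ω)⁻¹⁻¹ * y₀⁻¹ = ((h⁻¹ * conjAut R y₀ hy₀N.2 h : R) : Ω) := by
      show _ = (h : Ω)⁻¹ * (y₀ * (h : Ω) * y₀⁻¹)
      rw [inv_inv]; simp only [mul_assoc]
    have h3 : ((h⁻¹ * conjAut R y₀ hy₀N.2 h : R) : Ω) ∈ Z ⊓ R := ⟨h2 ▸ h1, (h⁻¹ * conjAut R y₀ hy₀N.2 h).2⟩
    rw [hZR0, Subgroup.mem_bot] at h3
    have h4 : h⁻¹ * conjAut R y₀ hy₀N.2 h = 1 := Subtype.ext h3
    exact (inv_mul_eq_one.1 h4).symm
  by_cases hB1 : ∀ β ∈ F.autGroup R, ∀ x : R, (x : Ω) ∈ Z → ((β x : R) : Ω) ∈ Z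
  · -- `Z` invariant: the chain `R ≥ H ≥ Z ≥ 1`
    obtain ⟨ZR, hZRdef⟩ : ∃ ZR : Subgroup R, ZR = Z.subgroupOf R := ⟨_, rfl⟩
    have hmemZR : ∀ r : R, r ∈ ZR ↔ (r : Ω) ∈ Z := fun r => by rw [hZRdef, Subgroup.mem_subgroupOf]
    have hinv3 : ∀ j ≤ 3, ∀ β ∈ F.autGroup R, ∀ x ∈ chainThree H ZR j, β x ∈ chainThree H ZR j := by
      intro j hj β hβ x hx
      match j, hj, hx with
      | 0, _, _ => trivial
      | 1, _, hx => exact hinvH β hβ x hx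
      | 2, _, hx => exact (hmemZR _).2 (hB1 β hβ x ((hmemZR x).1 hx))
      | 3, _, hx =>
        have h1 : x = 1 := hx
        rw [h1, map_one]
        exact Subgroup.one_mem _
    have hmem3 : conjAut R y₀ hy₀N.2 ∈ chainStab (F.autGroup R) 3 (chainThree H ZR) hinv3 := by
      refine ⟨hcA y₀ hy₀N, fun j hj r hr => ?_⟩
      have hj3 : j = 0 ∨ j = 1 ∨ j = 2 := by omega
      rcases hj3 with rfl | rfl | rfl
      · exact hconj y₀ hy₀N hy₀P r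
      · have hrP : (r : Ω) ∈ P := (hmemH r).1 hr
        show r⁻¹ * conjAut R y₀ hy₀N.2 r ∈ ZR
        rw [hmemZR]
        show (r : Ω)⁻¹ * (y₀ * (r : Ω) * y₀⁻¹) ∈ Z
        have h1 : (r : Ω)⁻¹ * y₀ * (r : Ω)⁻¹⁻¹ * y₀⁻¹ ∈ Z := hcomm _ (P.inv_mem hrP) _ hy₀P
        have h2 : (r : Ω)⁻¹ * (y₀ * (r : Ω) * y₀⁻¹) = (r : Ω)⁻¹ * y₀ * (r : Ω)⁻¹⁻¹ * y₀⁻¹ := by
          rw [inv_inv]; simp only [mul_assoc]
        rw [h2]
        exact h1
      · have hrZ : (r : Ω) ∈ Z := (hmemZR r).1 hr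
        show r⁻¹ * conjAut R y₀ hy₀N.2 r = 1
        rw [inv_mul_eq_one]
        apply Subtype.ext
        show (r : Ω) = y₀ * (r : Ω) * y₀⁻¹
        rw [← hcen _ hrZ _ hy₀P, mul_inv_cancel_right]
    exact ⟨chainStab (F.autGroup R) 3 (chainThree H ZR) hinv3, chainStab_le _ _ _ _,
      fun γ hγ β hβ => chainStab_conj_mem _ _ _ hinv3 hγ hβ,
      chainStab_isPGroup hRp _ 3 (chainThree H ZR) rfl rfl hinv3, y₀, hy₀N, hy₀R, hmem3⟩
  -- some automorphism moves `Z`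
  push Not at hB1
  obtain ⟨α, hα, z, hz, hz'⟩ := hB1
  have hαinv : α⁻¹ ∈ F.autGroup R := Subgroup.inv_mem _ hα
  have hz1 : (z : Ω) ≠ 1 := by
    intro h
    apply hz'
    have : z = 1 := Subtype.ext h
    rw [this, map_one]
    exact Z.one_mem
  obtain ⟨hab, hexp⟩ := key_lemma hS F hF P hP Z hZP hZcard hcomm hpow hZn R hRS α hα z hz _ rfl hz'
  have hz'P : ((α z : R) : Ω) ∈ P := StronglyClosed_aut_mem hP hRS hα (hZP hz)
  obtain ⟨hp2, hmod⟩ := modular_case hPp hge h2 hodd _ hz'P hab hexp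
  have hC : ∀ v ∈ P, v * ((α z : R) : Ω) = ((α z : R) : Ω) * v ↔ v ^ p = 1 :=
    fun v hv => ⟨hexp v hv, hmod v hv⟩
  -- the same for `α⁻¹`
  have hz'' : ((α⁻¹ z : R) : Ω) ∉ Z := by
    intro h
    have hu1 : ((α⁻¹ z : R) : Ω) ≠ 1 := by
      intro h1
      have h2 : α⁻¹ z = 1 := Subtype.ext h1
      have h3 : z = 1 := by
        have := congrArg α h2
        rwa [MulAut.apply_inv_self, map_one] at this
      exact hz1 (congrArg Subtype.val h3)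
    obtain ⟨k, hk⟩ := exists_pow_eq_of_card_prime Z hZcard h hu1 hz
    have h4 : z = (α⁻¹ z) ^ k := Subtype.ext (by rw [Subgroup.coe_pow]; exact hk.symm)
    apply hz'
    rw [h4, map_pow, MulAut.apply_inv_self, Subgroup.coe_pow]
    exact Z.pow_mem hz k
  obtain ⟨hab', hexp'⟩ := key_lemma hS F hF P hP Z hZP hZcard hcomm hpow hZn R hRS α⁻¹ hαinv z hz _ rfl hz''
  have hz''P : ((α⁻¹ z : R) : Ω) ∈ P := StronglyClosed_aut_mem hP hRS hαinv (hZP hz)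
  obtain ⟨-, hmod'⟩ := modular_case hPp hge h2 hodd _ hz''P hab' hexp'
  have hC' : ∀ v ∈ P, v * ((α⁻¹ z : R) : Ω) = ((α⁻¹ z : R) : Ω) * v ↔ v ^ p = 1 :=
    fun v hv => ⟨hexp' v hv, hmod' v hv⟩
  have habp : ∀ a ∈ P, ∀ b ∈ P, a ^ p = 1 → b ^ p = 1 → a * b = b * a :=
    fun a ha b hb hap hbp => hab a ha b hb (hmod a ha hap) (hmod b hb hbp)
  have hHp : ∀ h ∈ P, h ∈ R → h ^ p = 1 := by
    intro h hhP hhR
    by_contra hne
    obtain ⟨k, hk⟩ := exists_pow_eq_of_card_prime Z hZcard (hpow h hhP) hne hz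
    apply hz'
    have h1 : z = (⟨h, hhR⟩ : R) ^ (p * k) := Subtype.ext (by rw [Subgroup.coe_pow, pow_mul]; exact hk.symm)
    rw [h1, map_pow, Subgroup.coe_pow, pow_mul]
    exact Z.pow_mem (hpow _ (StronglyClosed_aut_mem hP hRS hα (r := ⟨h, hhR⟩) hhP)) k
  by_cases hP₀R : ∀ v ∈ P, v ^ p = 1 → v ∈ R
  · exact (no_modular hp2 hS F P hP Z hZP hZcard hcomm hpow hcen (hmulpow hp2) R hRa hRr α hα z hz hz' hC hC' habp
      hP₀R hHp y₀ hy₀P hy₀N hy₀R).elim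
  · -- an element of order `p` of `P` outside `R` normalizing `R`
    let P₀ : Subgroup Ω :=
      { carrier := {v | v ∈ P ∧ v ^ p = 1}
        one_mem' := ⟨P.one_mem, one_pow p⟩
        mul_mem' := fun {a b} ha hb => ⟨P.mul_mem ha.1 hb.1, by
          rw [hmulpow hp2 _ ha.1 _ hb.1, ha.2, hb.2, one_mul]⟩
        inv_mem' := fun {a} ha => ⟨P.inv_mem ha.1, by rw [inv_pow, ha.2, inv_one]⟩ }
    have hP₀S : P₀ ≤ S := fun v hv => hPS hv.1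
    have hP₀n : ∀ g ∈ S, ∀ x ∈ P₀, g * x * g⁻¹ ∈ P₀ := by
      intro g hg x hx
      exact ⟨hPn g hg x hx.1, by rw [conj_pow, hx.2, mul_one, mul_inv_cancel]⟩
    have hP₀R' : ¬ P₀ ≤ R := by
      intro h
      apply hP₀R
      intro v hv hvp
      exact h ⟨hv, hvp⟩
    obtain ⟨y, hyP₀, hyN', hyR⟩ := exists_mem_normalizer_not_mem hS hP₀S hRS hP₀n hP₀R'
    have hyN : y ∈ FusionSystem.normalizerIn S R := ⟨hP₀S hyP₀, hyN'⟩
    refine ⟨K₂, hK₂le, hK₂n, hK₂p, y, hyN, hyR, hK₂mem y hyN hyP₀.1 ?_⟩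
    intro h hh
    have hhP : (h : Ω) ∈ P := (hmemH h).1 hh
    apply Subtype.ext
    show y * (h : Ω) * y⁻¹ = h
    rw [habp y hyP₀.1 _ hhP hyP₀.2 (hHp _ hhP h.2), mul_inv_cancel_right]

/-- Let F be a saturated fusion system over a finite p-group S and P a subgroup of S strongly closed in F that is generalized extraspecial (its Frattini subgroup equals its commutator subgroup and has order p) and not isomorphic to E × A with A elementary abelian and E dihedral of order 8 (p = 2) or extraspecial of order p³ and exponent p (p odd). Then P is normal in F. -/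
theorem result {Ω : Type*} [Group Ω] {S : Subgroup Ω} [Finite S] (p : ℕ) [Fact p.Prime] (hS : IsPGroup p S) (F : Cfsg.FusionSystem S) (hF : F.IsSaturated p) (P : Subgroup Ω) (hP : F.StronglyClosed P) (hge : frattini ↥P = commutator ↥P ∧ Nat.card ↥(commutator ↥P) = p) (h2 : p = 2 → ¬ ∃ (A : Type) (_ : CommGroup A), (∀ a : A, a ^ 2 = 1) ∧ Nonempty (↥P ≃* DihedralGroup 4 × A)) (hodd : p ≠ 2 → ¬ ∃ (E : Type) (_ : Group E) (A : Type) (_ : CommGroup A), Cfsg.IsExtraspecial p E ∧ Nat.card E = p ^ 3 ∧ Monoid.exponent E = p ∧ (∀ a : A, a ^ p = 1) ∧ Nonempty (↥P ≃* E × A)) : F.IsNormal P := by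
  exact Cfsg.Agent.Lib.Helper73.isNormal_of_local F hS hF P hP
    (fun R hRa hRr hPR => local_step hS F hF P hP hge h2 hodd R hRa hRr hPR)

end Cfsg.Agent.S5233
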