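import Cfsg.Statements.S5234
import Cfsg.Agent.Lib.Helper73.NormalLocal
import Cfsg.Agent.Lib.Helper87.MetaOmega
import Cfsg.Agent.Lib.Helper87.SL2Inv
import Cfsg.Agent.Lib.Helper87.AutOmega
import Cfsg.Agent.Lib.Helper87.FusionFrattini

set_option autoImplicit false
open Cfsg

namespace Cfsg.Agent.S5234

open Cfsg.Agent.Lib
open Cfsg.Agent.Lib.Helper87
open Cfsg.Agent.Lib.Helper73 (resAut chainTwo resAut_apply)

/-- The local step: for `R` fully automized and receptive, not containing the strongly closed metacyclic subgroup `P`, a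
normal `p`-subgroup of `Aut_F(R)` containing the conjugation by an element of `N_S(R)` outside `R`. -/
theorem local_step {Ω : Type*} [Group Ω] {S : Subgroup Ω} [Finite S] {p : ℕ} [hpF : Fact p.Prime] (hp2 : p ≠ 2)
    (hS : IsPGroup p S) (F : FusionSystem S) (P : Subgroup Ω) (hP : F.StronglyClosed P) (hm : IsMetacyclic P)
    (R : Subgroup Ω) (hRa : F.IsFullyAutomized p R) (hRr : F.IsReceptive R) (hPR : ¬ P ≤ R) :
    ∃ K : Subgroup (MulAut R), K ≤ F.autGroup R ∧ (∀ α ∈ F.autGroup R, ∀ β ∈ K, α * β * α⁻¹ ∈ K) ∧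
      IsPGroup p K ∧ ∃ (x : Ω) (hx : x ∈ FusionSystem.normalizerIn S R), x ∉ R ∧ conjAut R x hx.2 ∈ K := by
  classical
  have hpp : p.Prime := hpF.out
  have hRS : R ≤ S := hRa.1
  have hPS : P ≤ S := hP.1
  have hPn : ∀ g ∈ S, ∀ x ∈ P, g * x * g⁻¹ ∈ P := fun g hg x hx => StronglyClosed_conj_mem hP hg hx
  obtain ⟨x₀, hx₀P, hx₀N, hx₀R⟩ := exists_mem_normalizer_not_mem hS hPS hRS hPn hPR
  have hx₀NS : x₀ ∈ FusionSystem.normalizerIn S R := ⟨hPS hx₀P, hx₀N⟩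
  obtain ⟨R₀, hR₀⟩ : ∃ R₀ : Subgroup R, R₀ = P.subgroupOf R := ⟨_, rfl⟩
  have hmemR₀ : ∀ r : R, r ∈ R₀ ↔ (r : Ω) ∈ P := fun r => by rw [hR₀, Subgroup.mem_subgroupOf]
  have hinvH : ∀ α ∈ F.autGroup R, ∀ x ∈ R₀, α x ∈ R₀ := fun α hα x hx =>
    (hmemR₀ _).2 (StronglyClosed_aut_mem hP hRS hα ((hmemR₀ x).1 hx))
  have hRfin : Finite R := finite_of_le hRS
  have hRp : IsPGroup p R := hS.to_le hRS
  have hconj : ∀ (x : Ω) (hx : x ∈ FusionSystem.normalizerIn S R), x ∈ P →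
      ∀ r : R, r⁻¹ * conjAut R x hx.2 r ∈ R₀ := by
    intro x hx hxP r
    rw [hmemR₀]
    show (r : Ω)⁻¹ * (x * (r : Ω) * x⁻¹) ∈ P
    have h1 : (r : Ω)⁻¹ * x * (r : Ω)⁻¹⁻¹ ∈ P := hPn _ (S.inv_mem (hRS r.2)) x hxP
    have h2 : (r : Ω)⁻¹ * (x * (r : Ω) * x⁻¹) = ((r : Ω)⁻¹ * x * (r : Ω)⁻¹⁻¹) * x⁻¹ := by
      rw [inv_inv]; simp only [mul_assoc]
    rw [h2]
    exact P.mul_mem h1 (P.inv_mem hxP)
  have hcA : ∀ (x : Ω) (hx : x ∈ FusionSystem.normalizerIn S R), conjAut R x hx.2 ∈ F.autGroup R :=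
    fun x hx => Helper87.autInducedBy_le_autGroup F hRS (mem_autInducedBy_iff.2 ⟨x, hx.1, fun _ => rfl⟩)
  -- `R₀ = P ∩ R` is metacyclic
  let f : R₀ →* P :=
    { toFun := fun x => ⟨(x.1 : Ω), (hmemR₀ x.1).1 x.2⟩
      map_one' := rfl
      map_mul' := fun _ _ => rfl }
  have hf : Function.Injective f := by
    intro x y hxy
    have h1 : ((x.1 : R) : Ω) = ((y.1 : R) : Ω) := congrArg (fun z : P => (z : Ω)) hxy
    exact Subtype.ext (Subtype.ext h1)
  have hR₀m : IsMetacyclic R₀ := Helper24.isMetacyclic_of_injective f hf hm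
  have hcR₀ := commute_of_pow_eq_one_of_isMetacyclic_subgroup hp2 R₀ (hRp.to_subgroup R₀) hR₀m
  -- `W₀ = Ω₁(P ∩ R)`
  obtain ⟨W₀, hW₀⟩ : ∃ W₀ : Subgroup R, W₀ = omegaSub p R₀ hcR₀ := ⟨_, rfl⟩
  have hW : ∀ x, x ∈ W₀ ↔ x ∈ R₀ ∧ x ^ p = 1 := fun x => by rw [hW₀]; exact mem_omegaSub
  have hinvW : ∀ α ∈ F.autGroup R, ∀ x ∈ W₀, α x ∈ W₀ := by
    intro α hα x hx
    rw [hW] at hx ⊢
    exact ⟨hinvH α hα x hx.1, by rw [← map_pow, hx.2, map_one]⟩
  -- the normal `p`-subgroup of automorphisms trivial on `R/R₀` and on `W₀`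
  obtain ⟨K₁, hK₁le, hK₁n, hK₁p, hK₁mem⟩ :=
    exists_normal_pgroup_of_omega hp2 hRp (F.autGroup R) R₀ W₀ hinvH hW hinvW ⊥ IsPGroup.of_bot
      (by
        intro α τ hτ
        rw [Subgroup.mem_bot] at hτ ⊢
        rw [hτ, mul_one, mul_inv_cancel])
  by_cases hA : ∃ (x : Ω) (hx : x ∈ FusionSystem.normalizerIn S R), x ∈ P ∧ x ∉ R ∧
      ∀ w ∈ W₀, conjAut R x hx.2 w = w
  · obtain ⟨x, hx, hxP, hxR, hxw⟩ := hA
    refine ⟨K₁, hK₁le, hK₁n, hK₁p, x, hx, hxR, hK₁mem _ (hcA x hx) (hconj x hx hxP) ?_⟩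
    rw [Subgroup.mem_bot]
    ext w
    exact congrArg Subtype.val (hxw w.1 w.2)
  · push Not at hA
    -- the transvection induced by `x₀`
    obtain ⟨t₀, ht₀⟩ : ∃ t₀ : MulAut R, t₀ = conjAut R x₀ hx₀NS.2 := ⟨_, rfl⟩
    have ht₀A : t₀ ∈ F.autGroup R := ht₀ ▸ hcA x₀ hx₀NS
    obtain ⟨a, ha⟩ : ∃ a : ℕ, x₀ ^ p ^ a = 1 := by
      obtain ⟨k, hk⟩ := hS ⟨x₀, hPS hx₀P⟩
      exact ⟨k, congrArg Subtype.val hk⟩
    have ht₀a : t₀ ^ p ^ a = 1 := by
      ext x
      rw [ht₀, conj_pow_apply (g := x₀) (fun y => rfl), ha]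
      simp
    obtain ⟨tρ, htρ⟩ : ∃ tρ : MulAut W₀, tρ = resAut (F.autGroup R) W₀ hinvW ⟨t₀, ht₀A⟩ := ⟨_, rfl⟩
    have htρa : tρ ^ p ^ a = 1 := by
      rw [htρ, ← map_pow]
      have : (⟨t₀, ht₀A⟩ : F.autGroup R) ^ p ^ a = 1 := Subtype.ext ht₀a
      rw [this, map_one]
    have hTp : IsPGroup p (Subgroup.zpowers tρ) := by
      rintro ⟨x, hx⟩
      obtain ⟨n, rfl⟩ := Subgroup.mem_zpowers_iff.1 hx
      refine ⟨a, Subtype.ext ?_⟩
      show (tρ ^ n) ^ p ^ a = 1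
      rw [← zpow_natCast, ← zpow_mul, mul_comm, zpow_mul, zpow_natCast, htρa, one_zpow]
    by_cases hB : ∀ α : F.autGroup R, ∀ τ ∈ Subgroup.zpowers tρ,
        resAut (F.autGroup R) W₀ hinvW α * τ * (resAut (F.autGroup R) W₀ hinvW α)⁻¹ ∈ Subgroup.zpowers tρ
    · obtain ⟨K₂, hK₂le, hK₂n, hK₂p, hK₂mem⟩ :=
        exists_normal_pgroup_of_omega hp2 hRp (F.autGroup R) R₀ W₀ hinvH hW hinvW (Subgroup.zpowers tρ) hTp hB
      refine ⟨K₂, hK₂le, hK₂n, hK₂p, x₀, hx₀NS, hx₀R, ?_⟩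
      have := hK₂mem t₀ ht₀A (by rw [ht₀]; exact hconj x₀ hx₀NS hx₀P) (by rw [← htρ]; exact Subgroup.mem_zpowers tρ)
      rw [ht₀] at this
      exact this
    · exfalso
      push Not at hB
      obtain ⟨α, τ, hτT, hτn⟩ := hB
      obtain ⟨ρα, hρα⟩ : ∃ ρα : MulAut W₀, ρα = resAut (F.autGroup R) W₀ hinvW α := ⟨_, rfl⟩
      have ht'ne : ρα * tρ * ρα⁻¹ ∉ Subgroup.zpowers tρ := by
        intro h
        apply hτn
        obtain ⟨i, rfl⟩ := Subgroup.mem_zpowers_iff.1 hτT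
        rw [← hρα, ← conj_zpow]
        exact Subgroup.zpow_mem _ h i
      -- the group `K₀` of automorphisms trivial on `R/R₀`
      have hinv1 : ∀ j ≤ 1, ∀ α ∈ F.autGroup R, ∀ x ∈ chainTwo R₀ j, α x ∈ chainTwo R₀ j := by
        intro j hj α hα x hx
        match j, hj, hx with
        | 0, _, _ => trivial
        | 1, _, hx => exact hinvH α hα x hx
      obtain ⟨K₀, hK₀⟩ : ∃ K₀ : Subgroup (MulAut R), K₀ = chainStab (F.autGroup R) 1 (chainTwo R₀) hinv1 :=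
        ⟨_, rfl⟩
      have hK₀mem : ∀ β, β ∈ K₀ ↔ β ∈ F.autGroup R ∧ ∀ r : R, r⁻¹ * β r ∈ R₀ := by
        intro β
        rw [hK₀]
        constructor
        · rintro ⟨h1, h2⟩
          exact ⟨h1, fun r => h2 0 (by norm_num) r trivial⟩
        · rintro ⟨h1, h2⟩
          refine ⟨h1, fun j hj r _ => ?_⟩
          have hj0 : j = 0 := by omega
          subst hj0
          exact h2 r
      have hK₀conj : ∀ α ∈ F.autGroup R, ∀ β ∈ K₀, α * β * α⁻¹ ∈ K₀ := by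
        intro α hα β hβ
        rw [hK₀] at hβ ⊢
        exact chainStab_conj_mem _ _ _ hinv1 hα hβ
      have hcK₀ : ∀ (x : Ω) (hx : x ∈ FusionSystem.normalizerIn S R), x ∈ P → conjAut R x hx.2 ∈ K₀ :=
        fun x hx hxP => (hK₀mem _).2 ⟨hcA x hx, hconj x hx hxP⟩
      have ht₀K₀ : t₀ ∈ K₀ := by rw [ht₀]; exact hcK₀ x₀ hx₀NS hx₀P
      obtain ⟨G, hG⟩ : ∃ G : Subgroup (MulAut W₀),
          G = (K₀.comap (F.autGroup R).subtype).map (resAut (F.autGroup R) W₀ hinvW) := ⟨_, rfl⟩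
      have htρG : tρ ∈ G := by
        rw [hG]
        exact ⟨⟨t₀, ht₀A⟩, ht₀K₀, htρ.symm⟩
      have ht'G : ρα * tρ * ρα⁻¹ ∈ G := by
        rw [hG]
        refine ⟨α * ⟨t₀, ht₀A⟩ * α⁻¹, ?_, ?_⟩
        · exact hK₀conj α.1 α.2 t₀ ht₀K₀
        · rw [map_mul, map_mul, map_inv, hρα, htρ]
      have hWle : W₀ ≤ R₀ := fun x hx => ((hW x).1 hx).1
      have hWc : ∀ a b : W₀, a * b = b * a := by
        intro a b
        have ha := (hW a.1).1 a.2
        have hb := (hW b.1).1 b.2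
        exact Subtype.ext (hcR₀ a.1 ha.1 b.1 hb.1 ha.2 hb.2)
      have hWe : ∀ a : W₀, a ^ p = 1 := fun a => Subtype.ext (by simpa using ((hW a.1).1 a.2).2)
      have hcardW : Nat.card W₀ ≤ p ^ 2 :=
        card_le_sq_of_le_of_exponent R₀ hR₀m W₀ hWle (fun x hx => ((hW x).1 hx).2)
      have htρ1 : tρ ≠ 1 := by
        obtain ⟨w, hwW, hw⟩ := hA x₀ hx₀NS hx₀P hx₀R
        intro h
        apply hw
        have h2 := congrArg (fun f : MulAut W₀ => ((f ⟨w, hwW⟩ : W₀) : R)) h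
        rw [htρ] at h2
        have h3 : t₀ w = w := h2
        rw [ht₀] at h3
        exact h3
      have ht'b : (ρα * tρ * ρα⁻¹) ^ p ^ a = 1 := by
        rw [conj_pow, htρa, mul_one, mul_inv_cancel]
      obtain ⟨hcardW2, τ', hτ'G, hτ'inv⟩ :=
        exists_inverting hp2 hWc hWe hcardW G tρ (ρα * tρ * ρα⁻¹) htρG ht'G htρ1 htρa ht'b ht'ne
      rw [hG] at hτ'G
      obtain ⟨b, hbK₀, hbτ⟩ := hτ'G
      obtain ⟨τ₁, hτ₁⟩ : ∃ τ₁ : MulAut R, τ₁ = (b : MulAut R) := ⟨_, rfl⟩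
      have hτ₁K₀ : τ₁ ∈ K₀ := hτ₁ ▸ hbK₀
      have hτ₁A : τ₁ ∈ F.autGroup R := hτ₁ ▸ b.2
      have hτ₁inv : ∀ w ∈ W₀, τ₁ w = w⁻¹ := by
        intro w hw
        have h1 := hτ'inv ⟨w, hw⟩
        rw [← hbτ] at h1
        have h2 := congrArg (fun z : W₀ => (z : R)) h1
        rw [hτ₁]
        exact h2
      have hτ₁inv' : ∀ w ∈ W₀, τ₁⁻¹ w = w⁻¹ := by
        intro w hw
        have h1 : τ₁ w⁻¹ = w := by rw [hτ₁inv _ (W₀.inv_mem hw), inv_inv]
        conv_lhs => rw [← h1]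
        exact MulAut.inv_apply_self R τ₁ w⁻¹
      have hK₁S := le_autInducedBy_of_normal_isPGroup F hRa K₁ hK₁le hK₁n hK₁p
      -- `M = N_P(R)`
      obtain ⟨M, hM⟩ : ∃ M : Subgroup Ω, M = P ⊓ FusionSystem.normalizerIn S R := ⟨_, rfl⟩
      have hMP : M ≤ P := hM ▸ inf_le_left
      have hMN : M ≤ FusionSystem.normalizerIn S R := hM ▸ inf_le_right
      have hmemM : ∀ z : Ω, z ∈ M ↔ z ∈ P ∧ z ∈ FusionSystem.normalizerIn S R := fun z => by
        rw [hM]; exact Subgroup.mem_inf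
      have hτcy : ∀ (y : Ω) (hy : y ∈ M), τ₁ * conjAut R y (hMN hy).2 * τ₁⁻¹ ∈ autInducedBy S R := by
        intro y hy
        obtain ⟨c, hc⟩ : ∃ c : MulAut R, c = conjAut R y (hMN hy).2 := ⟨_, rfl⟩
        rw [← hc]
        have hcA' : c ∈ F.autGroup R := hc ▸ hcA y (hMN hy)
        have hcy : c ∈ K₀ := hc ▸ hcK₀ y (hMN hy) (hMP hy)
        have hδK₀ : τ₁ * c * τ₁⁻¹ * c⁻¹ ∈ K₀ :=
          K₀.mul_mem (K₀.mul_mem (K₀.mul_mem hτ₁K₀ hcy) (K₀.inv_mem hτ₁K₀)) (K₀.inv_mem hcy)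
        obtain ⟨hδA, hδR⟩ := (hK₀mem _).1 hδK₀
        have hδK₁ : τ₁ * c * τ₁⁻¹ * c⁻¹ ∈ K₁ := by
          refine hK₁mem _ hδA hδR ?_
          rw [Subgroup.mem_bot]
          refine MulEquiv.ext (fun w => Subtype.ext ?_)
          show (τ₁ * c * τ₁⁻¹ * c⁻¹) w.1 = w.1
          have hw₁ : c⁻¹ w.1 ∈ W₀ := hinvW _ (Subgroup.inv_mem _ hcA') w.1 w.2
          calc (τ₁ * c * τ₁⁻¹ * c⁻¹) w.1 = τ₁ (c (τ₁⁻¹ (c⁻¹ w.1))) := rfl
            _ = τ₁ (c ((c⁻¹ w.1)⁻¹)) := by rw [hτ₁inv' _ hw₁]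
            _ = τ₁ ((w.1)⁻¹) := by rw [map_inv, MulAut.apply_inv_self]
            _ = w.1 := by rw [hτ₁inv _ (W₀.inv_mem w.2), inv_inv]
        have hcS : c ∈ autInducedBy S R := hc ▸ mem_autInducedBy_iff.2 ⟨y, (hMN hy).1, fun _ => rfl⟩
        have h3 := (autInducedBy S R).mul_mem (hK₁S hδK₁) hcS
        have h4 : τ₁ * c * τ₁⁻¹ * c⁻¹ * c = τ₁ * c * τ₁⁻¹ := by group
        rw [h4] at h3
        exact h3
      obtain ⟨X, ψ, hψ, hRX, hXN, hψτ, hXmem⟩ := exists_extension_aut F hRS hRr τ₁ hτ₁A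
      have hMX : M ≤ X := fun y hy => hXmem y (hMN hy) (hτcy y hy)
      have hMS : M ≤ S := hMP.trans hPS
      have hMfin : Finite M := finite_of_le hMS
      have hMp : IsPGroup p M := hS.to_le hMS
      have hMm : IsMetacyclic M :=
        Helper24.isMetacyclic_of_injective (Subgroup.inclusion hMP) (Subgroup.inclusion_injective hMP) hm
      have hψM : ∀ m : M, ψ ⟨m, hMX m.2⟩ ∈ M := by
        intro m
        rw [hmemM]
        refine ⟨?_, hom_map_mem F hψ _, ?_⟩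
        · have h1 : ψ.comp (Subgroup.inclusion hMX) ∈ F.Hom M := restrict_mem F hψ hMX
          exact hP.2 M hMP _ h1 m
        · apply Subgroup.mem_normalizer_fintype
          intro h hh
          obtain ⟨h', hh'⟩ : ∃ h' : R, h' = τ₁⁻¹ ⟨h, hh⟩ := ⟨_, rfl⟩
          have e1 : ψ ⟨h', hRX h'.2⟩ = h := by
            rw [hψτ h' h'.2 (hRX h'.2)]
            show ((τ₁ ⟨(h' : Ω), h'.2⟩ : R) : Ω) = h
            rw [Subtype.coe_eta, hh', MulAut.apply_inv_self]
          have hmh : (m : Ω) * h' * (m : Ω)⁻¹ ∈ R :=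
            (Subgroup.mem_normalizer_iff.1 (hMN m.2).2 _).1 h'.2
          have e2 : ψ ⟨m, hMX m.2⟩ * h * (ψ ⟨m, hMX m.2⟩)⁻¹ =
              ψ ⟨(m : Ω) * h' * (m : Ω)⁻¹, hRX hmh⟩ := by
            rw [← e1, ← map_inv, ← map_mul, ← map_mul]
            rfl
          rw [e2, hψτ _ hmh (hRX hmh)]
          exact (τ₁ ⟨_, hmh⟩).2
      let σ₀ : M →* M :=
        { toFun := fun m => ⟨ψ ⟨m, hMX m.2⟩, hψM m⟩
          map_one' := Subtype.ext (map_one ψ)
          map_mul' := fun x y => Subtype.ext (by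
            show ψ ⟨(x : Ω) * (y : Ω), _⟩ = ψ ⟨x, _⟩ * ψ ⟨y, _⟩
            rw [← map_mul]
            rfl) }
      have hσ₀inj : Function.Injective σ₀ := by
        intro x y hxy
        have h1 : ψ ⟨x, hMX x.2⟩ = ψ ⟨y, hMX y.2⟩ := congrArg Subtype.val hxy
        have h2 := F.injective_of_mem hψ h1
        exact Subtype.ext (congrArg (fun z : X => (z : Ω)) h2)
      obtain ⟨σe, hσe⟩ : ∃ σe : MulAut M, ∀ m : M, ((σe m : M) : Ω) = ψ ⟨m, hMX m.2⟩ :=
        ⟨MulEquiv.ofBijective σ₀ ⟨hσ₀inj, Finite.injective_iff_surjective.1 hσ₀inj⟩, fun m => rfl⟩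
      have hWM : ∀ w ∈ W₀, ((w : R) : Ω) ∈ M := by
        intro w hw
        rw [hmemM]
        exact ⟨(hmemR₀ w).1 (hWle hw), le_normalizerIn hRS w.2⟩
      have hσinv : ∀ (w : R) (hw : w ∈ W₀), σe ⟨(w : Ω), hWM w hw⟩ = (⟨(w : Ω), hWM w hw⟩ : M)⁻¹ := by
        intro w hw
        apply Subtype.ext
        rw [hσe]
        show ψ ⟨(w : Ω), _⟩ = ((w : Ω))⁻¹
        rw [hψτ (w : Ω) w.2 _, Subtype.coe_eta, hτ₁inv w hw]
        rfl
      have hσpow : ∀ (n : ℕ) (u : M), (∃ w ∈ W₀, ((w : R) : Ω) = (u : Ω)) →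
          (σe ^ n) u = u ^ ((-1 : ℤ) ^ n) := by
        intro n
        induction n with
        | zero => intro u _; simp
        | succ n ih =>
          intro u hu
          obtain ⟨w, hw, hwu⟩ := hu
          have hu' : u = ⟨(w : Ω), hWM w hw⟩ := Subtype.ext hwu.symm
          rw [pow_succ', MulAut.mul_apply, ih u ⟨w, hw, hwu⟩, map_zpow, hu', hσinv w hw, inv_zpow, pow_succ,
            zpow_mul, zpow_neg_one]
      have hcM := commute_of_pow_eq_one_of_isMetacyclic_subgroup hp2 M hMp hMm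
      have hΩM : ∀ z : Ω, z ∈ M → z ^ p = 1 → ∃ w ∈ W₀, ((w : R) : Ω) = z := by
        obtain ⟨WM, hWMdef⟩ : ∃ WM : Subgroup Ω, WM = W₀.map R.subtype := ⟨_, rfl⟩
        have hΩle : omegaSub p M hcM ≤ M := fun x hx => hx.1
        have hWMle : WM ≤ omegaSub p M hcM := by
          rw [hWMdef]
          rintro _ ⟨w, hw, rfl⟩
          refine ⟨hWM w hw, ?_⟩
          have := ((hW w).1 hw).2
          have h2 := congrArg (fun z : R => (z : Ω)) this
          simpa using h2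
        have hcardΩ : Nat.card (omegaSub p M hcM) ≤ p ^ 2 :=
          card_le_sq_of_le_of_exponent M hMm _ hΩle (fun x hx => hx.2)
        have hcardWM : Nat.card WM = p ^ 2 := by
          rw [hWMdef, Subgroup.card_map_of_injective R.subtype_injective]
          exact hcardW2
        have : Finite (omegaSub p M hcM) := finite_of_le (hΩle.trans hMS)
        have heq : WM = omegaSub p M hcM :=
          Subgroup.eq_of_le_of_card_ge hWMle (by rw [hcardWM]; exact hcardΩ)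
        intro z hzM hzp
        have hz : z ∈ WM := by rw [heq]; exact ⟨hzM, hzp⟩
        rw [hWMdef] at hz
        obtain ⟨w, hw, rfl⟩ := hz
        exact ⟨w, hw, rfl⟩
      have hfinAut : Finite (MulAut M) := by
        apply Finite.of_injective (fun f : MulAut M => (f : M → M))
        intro f g hfg
        exact DFunLike.coe_injective hfg
      obtain ⟨c, m', hm', hN⟩ := Nat.exists_eq_pow_mul_and_not_dvd (orderOf_pos σe).ne' p hpp.ne_one
      obtain ⟨σ, hσ⟩ : ∃ σ : MulAut M, σ = σe ^ p ^ c := ⟨_, rfl⟩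
      have hσord : (orderOf σ).Coprime p := by
        have h1 : σ ^ m' = 1 := by
          rw [hσ, ← pow_mul, ← hN]
          exact pow_orderOf_eq_one σe
        have h2 : orderOf σ ∣ m' := orderOf_dvd_of_pow_eq_one h1
        have h3 : Nat.Coprime m' p := ((Nat.Prime.coprime_iff_not_dvd hpp).2 hm').symm
        exact Nat.Coprime.coprime_dvd_left h2 h3
      have hodd : Odd (p ^ c) := (hpp.odd_of_ne_two hp2).pow
      have hσinvW : ∀ u : M, (∃ w ∈ W₀, ((w : R) : Ω) = (u : Ω)) → σ u = u⁻¹ := by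
        intro u hu
        rw [hσ, hσpow _ u hu, hodd.neg_one_pow, zpow_neg_one]
      have hfpf : ∀ m : M, σ m = m → m = 1 := by
        intro m hm
        by_contra hm1
        have hdvd : p ∣ Nat.card (Subgroup.zpowers m) := by
          have hnt : Nontrivial (Subgroup.zpowers m) :=
            (Subgroup.nontrivial_iff_ne_bot _).2 (fun h => hm1 (Subgroup.zpowers_eq_bot.1 h))
          obtain ⟨k, hk0, hk⟩ := (hMp.to_subgroup (Subgroup.zpowers m)).nontrivial_iff_card.mp hnt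
          exact hk.symm ▸ dvd_pow_self _ (ne_of_gt hk0)
        obtain ⟨⟨z, hzm⟩, hz⟩ := exists_prime_orderOf_dvd_card' p hdvd
        have hzo : orderOf z = p := by
          rw [← hz]
          exact (Subgroup.orderOf_mk z hzm).symm
        have hσz : σ z = z := by
          obtain ⟨i, rfl⟩ := Subgroup.mem_zpowers_iff.1 hzm
          rw [map_zpow, hm]
        have hzp : (z : Ω) ^ p = 1 := by
          have h1 : z ^ p = 1 := by rw [← hzo]; exact pow_orderOf_eq_one z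
          have h2 := congrArg (fun y : M => (y : Ω)) h1
          simpa using h2
        have hzW := hΩM (z : Ω) z.2 hzp
        have h1 := hσinvW z hzW
        rw [hσz] at h1
        have h2 : z ^ 2 = 1 := by
          rw [sq]
          nth_rewrite 1 [h1]
          exact inv_mul_cancel z
        have h3 : p ∣ 2 := hzo ▸ orderOf_dvd_of_pow_eq_one h2
        exact hp2 ((Nat.prime_dvd_prime_iff_eq hpp Nat.prime_two).1 h3)
      have hcomm := Helper24.comm_of_metacyclic_of_coprime_action p hp2 hMp hMm (A := Subgroup.zpowers σ)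
        (Subgroup.zpowers σ).subtype (by rw [Nat.card_zpowers]; exact hσord)
        (by
          rw [Subgroup.eq_top_iff']
          intro k
          have hinj : Function.Injective (fun y : M => σ y * y⁻¹) := by
            intro y y' hyy'
            have hyy'' : σ y * y⁻¹ = σ y' * y'⁻¹ := hyy'
            have h1 : σ (y'⁻¹ * y) = y'⁻¹ * y := by
              rw [map_mul, map_inv]
              have h0 : σ y = σ y' * y'⁻¹ * y := by
                calc σ y = (σ y * y⁻¹) * y := by group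
                  _ = σ y' * y'⁻¹ * y := by rw [hyy'']
              rw [h0]
              group
            have h2 := hfpf _ h1
            calc y = y' * (y'⁻¹ * y) := by group
              _ = y' := by rw [h2, mul_one]
          obtain ⟨y, hy⟩ := (Finite.injective_iff_surjective.1 hinj) k
          exact Subgroup.subset_closure ⟨⟨σ, Subgroup.mem_zpowers σ⟩, y, hy.symm⟩)
      obtain ⟨w, hwW, hw⟩ := hA x₀ hx₀NS hx₀P hx₀R
      apply hw
      have hx₀M : x₀ ∈ M := (hmemM x₀).2 ⟨hx₀P, hx₀NS⟩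
      have h1 := hcomm ⟨x₀, hx₀M⟩ ⟨(w : Ω), hWM w hwW⟩
      have h2 : x₀ * (w : Ω) = (w : Ω) * x₀ := congrArg Subtype.val h1
      apply Subtype.ext
      show x₀ * (w : Ω) * x₀⁻¹ = (w : Ω)
      rw [h2, mul_inv_cancel_right]

/-- Let p be an odd prime, F a saturated fusion system over a finite p-group S and P a metacyclic subgroup of S strongly closed in F. Then P is normal in F. -/
theorem result {Ω : Type*} [Group Ω] {S : Subgroup Ω} [Finite S] (p : ℕ) [Fact p.Prime] (hS : IsPGroup p S) (F : Cfsg.FusionSystem S) (hF : F.IsSaturated p) (P : Subgroup Ω) (hP : F.StronglyClosed P) (hp : p ≠ 2) (hm : Cfsg.IsMetacyclic ↥P) : F.IsNormal P := by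
  refine Helper73.isNormal_of_local F hS hF P hP ?_
  intro R hRa hRr hPR
  exact local_step hp hS F P hP hm R hRa hRr hPR

end Cfsg.Agent.S5234
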