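import Cfsg.Statements.S5235
import Cfsg.Agent.Lib.Helper73.NormalLocal
import Cfsg.Agent.Lib.Helper73.AutChainTwo
import Cfsg.Agent.S5212

set_option autoImplicit false
open Cfsg

namespace Cfsg.Agent.S5235

open Cfsg.Agent.Lib

/-- The local step: for `R` not containing the strongly closed metacyclic subgroup `P`, a normal 2-subgroup of
`Aut_F(R)` containing the conjugation by an element of `N_S(R)` outside `R`. -/
theorem local_step {Ω : Type*} [Group Ω] {S : Subgroup Ω} [Finite S] (hS : IsPGroup 2 S)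
    (F : FusionSystem S) (P : Subgroup Ω) (hP : F.StronglyClosed P) (hm : IsMetacyclic P)
    (hno : ¬ ∃ H : Subgroup P, Nonempty (H ≃* DihedralGroup 4) ∨ Nonempty (H ≃* QuaternionGroup 2))
    (R : Subgroup Ω) (hRS : R ≤ S) (hPR : ¬ P ≤ R) :
    ∃ K : Subgroup (MulAut R), K ≤ F.autGroup R ∧ (∀ α ∈ F.autGroup R, ∀ β ∈ K, α * β * α⁻¹ ∈ K) ∧
      IsPGroup 2 K ∧ ∃ (x : Ω) (hx : x ∈ FusionSystem.normalizerIn S R), x ∉ R ∧ Helper87.conjAut R x hx.2 ∈ K := by
  classical
  have : Fact (Nat.Prime 2) := ⟨Nat.prime_two⟩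
  have hPS : P ≤ S := hP.1
  have hPn : ∀ g ∈ S, ∀ x ∈ P, g * x * g⁻¹ ∈ P := fun g hg x hx => Helper87.StronglyClosed_conj_mem hP hg hx
  obtain ⟨x₀, hx₀P, hx₀N, hx₀R⟩ := Helper87.exists_mem_normalizer_not_mem hS hPS hRS hPn hPR
  have hx₀NS : x₀ ∈ FusionSystem.normalizerIn S R := ⟨hPS hx₀P, hx₀N⟩
  obtain ⟨R₀, hR₀⟩ : ∃ R₀ : Subgroup R, R₀ = P.subgroupOf R := ⟨_, rfl⟩
  have hmemR₀ : ∀ r : R, r ∈ R₀ ↔ (r : Ω) ∈ P := fun r => by rw [hR₀, Subgroup.mem_subgroupOf]
  have hinv : ∀ α ∈ F.autGroup R, ∀ x ∈ R₀, α x ∈ R₀ := fun α hα x hx =>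
    (hmemR₀ _).2 (Helper87.StronglyClosed_aut_mem hP hRS hα ((hmemR₀ x).1 hx))
  have hRfin : Finite R := Helper87.finite_of_le hRS
  have hRp : IsPGroup 2 R := hS.to_le hRS
  have hconj : ∀ (x : Ω) (hx : x ∈ FusionSystem.normalizerIn S R), x ∈ P →
      ∀ r : R, r⁻¹ * Helper87.conjAut R x hx.2 r ∈ R₀ := by
    intro x hx hxP r
    rw [hmemR₀]
    show (r : Ω)⁻¹ * (x * (r : Ω) * x⁻¹) ∈ P
    have h1 : (r : Ω)⁻¹ * x * (r : Ω)⁻¹⁻¹ ∈ P := hPn _ (S.inv_mem (hRS r.2)) x hxP
    have h2 : (r : Ω)⁻¹ * (x * (r : Ω) * x⁻¹) = ((r : Ω)⁻¹ * x * (r : Ω)⁻¹⁻¹) * x⁻¹ := by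
      rw [inv_inv]; simp only [mul_assoc]
    rw [h2]
    exact P.mul_mem h1 (P.inv_mem hxP)
  have hcA : ∀ (x : Ω) (hx : x ∈ FusionSystem.normalizerIn S R), Helper87.conjAut R x hx.2 ∈ F.autGroup R :=
    fun x hx => Helper87.autInducedBy_le_autGroup F hRS (Helper87.mem_autInducedBy_iff.2 ⟨x, hx.1, fun _ => rfl⟩)
  by_cases hAut : IsPGroup 2 (MulAut R₀)
  · obtain ⟨K, hKle, hKn, hKp, hKmem⟩ :=
      Helper73.exists_normal_pgroup_of_aut_isPGroup hRp (F.autGroup R) R₀ hinv hAut
    exact ⟨K, hKle, hKn, hKp, x₀, hx₀NS, hx₀R, hKmem _ (hcA x₀ hx₀NS) (hconj x₀ hx₀NS hx₀P)⟩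
  · -- `R₀` is `Q₈` or homocyclic
    let f : R₀ →* P :=
      { toFun := fun x => ⟨(x.1 : Ω), (hmemR₀ x.1).1 x.2⟩
        map_one' := rfl
        map_mul' := fun _ _ => rfl }
    have hf : Function.Injective f := by
      intro x y hxy
      have h1 : ((x.1 : R) : Ω) = ((y.1 : R) : Ω) := congrArg (fun z : P => (z : Ω)) hxy
      exact Subtype.ext (Subtype.ext h1)
    have hR₀m : IsMetacyclic R₀ := Helper24.isMetacyclic_of_injective f hf hm
    rcases Cfsg.Agent.S1896.result (hRp.to_subgroup R₀) hR₀m hAut with ⟨⟨e⟩⟩ | ⟨n, ⟨e⟩⟩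
    · exfalso
      exact hno ⟨f.range, Or.inr ⟨(MonoidHom.ofInjective hf).symm.trans e⟩⟩
    · -- the homocyclic case
      have hcR₀' : ∀ x y : R₀, x * y = y * x := fun x y => e.injective (by rw [map_mul, map_mul, mul_comm])
      have hcR₀ : ∀ x ∈ R₀, ∀ y ∈ R₀, x * y = y * x := fun x hx y hy =>
        congrArg Subtype.val (hcR₀' ⟨x, hx⟩ ⟨y, hy⟩)
      obtain ⟨K, hKle, hKn, hKp, hKmem⟩ :=
        Helper73.exists_normal_pgroup_of_abelian hRp (F.autGroup R) R₀ hinv hcR₀
      by_cases hex : ∃ (x : Ω) (hx : x ∈ FusionSystem.normalizerIn S R), x ∉ R ∧ Helper87.conjAut R x hx.2 ∈ K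
      · exact ⟨K, hKle, hKn, hKp, hex⟩
      · exfalso
        push Not at hex
        -- the subgroup `D = P ∩ R` of `Ω`
        obtain ⟨D, hD⟩ : ∃ D : Subgroup Ω, D = P ⊓ R := ⟨_, rfl⟩
        have hDP : D ≤ P := hD ▸ inf_le_left
        have hDR : D ≤ R := hD ▸ inf_le_right
        have hmemD : ∀ y : Ω, y ∈ D ↔ y ∈ P ∧ y ∈ R := fun y => by rw [hD, Subgroup.mem_inf]
        have hDfin : Finite D := Helper87.finite_of_le (hDR.trans hRS)
        let eD : D ≃* R₀ :=
          { toFun := fun d => ⟨⟨d.1, hDR d.2⟩, (hmemR₀ _).2 (hDP d.2)⟩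
            invFun := fun r => ⟨(r.1 : Ω), (hmemD _).2 ⟨(hmemR₀ r.1).1 r.2, r.1.2⟩⟩
            left_inv := fun _ => rfl
            right_inv := fun _ => rfl
            map_mul' := fun _ _ => rfl }
        have e' : D ≃* Multiplicative (ZMod (2 ^ n)) × Multiplicative (ZMod (2 ^ n)) := eD.trans e
        have hc : ∀ x y : D, x * y = y * x := fun x y => e'.injective (by rw [map_mul, map_mul, mul_comm])
        have hDc : ∀ x ∈ D, ∀ y ∈ D, x * y = y * x := fun x hx y hy =>
          congrArg Subtype.val (hc ⟨x, hx⟩ ⟨y, hy⟩)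
        have hcz : Nat.card (Multiplicative (ZMod (2 ^ n))) = 2 ^ n :=
          (Nat.card_congr Multiplicative.toAdd).trans (Nat.card_zmod _)
        have hcard : Nat.card D = 2 ^ n * 2 ^ n := by
          rw [Nat.card_congr e'.toEquiv, Nat.card_prod, hcz]
        have hexpz : ∀ y : Multiplicative (ZMod (2 ^ n)), y ^ (2 ^ n) = 1 := fun y => by
          have := pow_card_eq_one' (x := y)
          rwa [hcz] at this
        have hexp : ∀ x ∈ D, x ^ (2 ^ n) = 1 := by
          intro x hx
          have h1 : (⟨x, hx⟩ : D) ^ (2 ^ n) = 1 := by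
            apply e'.injective
            rw [map_pow, map_one]
            exact Prod.ext (hexpz _) (hexpz _)
          exact congrArg Subtype.val h1
        have hDp : IsPGroup 2 D := hS.to_le (hDR.trans hRS)
        have hDm : IsMetacyclic D :=
          Helper24.isMetacyclic_of_injective (Subgroup.inclusion hDP) (Subgroup.inclusion_injective hDP) hm
        -- an element `t ∈ P ∩ N_S(R)` outside `R` with square in `R`
        have hx2pow : ∃ k : ℕ, x₀ ^ (2 ^ k) = 1 := by
          obtain ⟨k, hk⟩ := hS ⟨x₀, hPS hx₀P⟩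
          exact ⟨k, congrArg Subtype.val hk⟩
        obtain ⟨t, htN, htR, ht2⟩ :=
          Cfsg.Agent.S5212.exists_sq_mem (P ⊓ FusionSystem.normalizerIn S R) R x₀ ⟨hx₀P, hx₀NS⟩ hx₀R hx2pow
        have htP : t ∈ P := htN.1
        have htNS : t ∈ FusionSystem.normalizerIn S R := htN.2
        have htS : t ∈ S := htNS.1
        have htK : Helper87.conjAut R t htNS.2 ∉ K := hex t htNS htR
        have htnR : ∀ y ∈ R, t * y * t⁻¹ ∈ R := fun y hy => (Subgroup.mem_normalizer_iff.1 htNS.2 y).1 hy
        have htn : ∀ y ∈ D, t * y * t⁻¹ ∈ D := fun y hy =>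
          (hmemD _).2 ⟨hPn t htS y (hDP hy), htnR y (hDR hy)⟩
        have htnorm : t ∈ Subgroup.normalizer (D : Set Ω) := by
          rw [Subgroup.mem_normalizer_iff]
          intro y
          constructor
          · exact htn y
          · intro h
            have h1 : y = t⁻¹ * (t * y * t⁻¹) * t⁻¹⁻¹ := by rw [inv_inv]; simp only [mul_assoc, inv_mul_cancel_left, inv_mul_cancel, mul_one]
            rw [h1, hmemD]
            refine ⟨hPn t⁻¹ (S.inv_mem htS) _ (hDP h), ?_⟩
            have h2 : t⁻¹ ∈ Subgroup.normalizer (R : Set Ω) := Subgroup.inv_mem _ htNS.2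
            exact (Subgroup.mem_normalizer_iff.1 h2 _).1 (hDR h)
        have ht2D : t ^ 2 ∈ D := (hmemD _).2 ⟨P.pow_mem htP 2, ht2⟩
        have htD : t ∉ D := fun h => htR (hDR h)
        -- some element of `R₀` is moved nontrivially modulo squares
        have hex2 : ∃ h ∈ R₀, ∀ g ∈ R₀, h⁻¹ * Helper87.conjAut R t htNS.2 h ≠ g ^ 2 := by
          by_contra hcon
          push Not at hcon
          exact htK (hKmem _ (hcA t htNS) (hconj t htNS htP) hcon)
        obtain ⟨h, hh, hhg⟩ := hex2
        obtain ⟨a, ha⟩ : ∃ a : D, a = ⟨(h : Ω), (hmemD _).2 ⟨(hmemR₀ h).1 hh, h.2⟩⟩ := ⟨_, rfl⟩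
        have haΩ : (a : Ω) = (h : Ω) := by rw [ha]
        have haF : a⁻¹ * Helper87.conjAut D t htnorm a ∉ frattini D := by
          intro hmem
          let iC : CommGroup D := { (inferInstance : Group D) with mul_comm := hc }
          have hfr := @Helper86.frattini_eq_range_pow D iC hDfin 2 _ hDp
          rw [hfr] at hmem
          obtain ⟨g, hg⟩ := hmem
          have hg' : ((g : D) : Ω) ^ 2 = (a : Ω)⁻¹ * (t * (a : Ω) * t⁻¹) := by
            have := congrArg (fun z : D => (z : Ω)) hg
            exact this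
          refine hhg ⟨(g : Ω), hDR g.2⟩ ((hmemR₀ _).2 (hDP g.2)) ?_
          apply Subtype.ext
          show (h : Ω)⁻¹ * (t * (h : Ω) * t⁻¹) = (g : Ω) ^ 2
          rw [hg', haΩ]
        -- the Frattini quotient of `D` has order 4
        have hidx : (frattini D).index = 4 := by
          have hle : (frattini D).index ≤ 4 := by
            have hQm : IsMetacyclic (D ⧸ frattini D) :=
              Helper73.isMetacyclic_of_surjective (QuotientGroup.mk' (frattini D))
                (QuotientGroup.mk'_surjective _) hDm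
            have hrk := Helper73.pRankLE_two_of_isMetacyclic 2 (by norm_num) hQm
            have h1 := hrk ⊤ ⟨⟨fun x y => by
                apply Subtype.ext
                obtain ⟨x', hx'⟩ := QuotientGroup.mk_surjective x.1
                obtain ⟨y', hy'⟩ := QuotientGroup.mk_surjective y.1
                show x.1 * y.1 = y.1 * x.1
                rw [← hx', ← hy', ← QuotientGroup.mk_mul, ← QuotientGroup.mk_mul, hc x' y']⟩⟩
              (by
                intro x _
                obtain ⟨x', rfl⟩ := QuotientGroup.mk_surjective x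
                rw [← QuotientGroup.mk_pow, QuotientGroup.eq_one_iff]
                exact (Cfsg.Agent.S0012.result 2 hDp).2 x')
            rw [Subgroup.card_top] at h1
            rw [Subgroup.index_eq_card]
            exact h1
          have hdvd : (frattini D).index ∣ 2 ^ (n + n) := by
            rw [pow_add, ← hcard]; exact Subgroup.index_dvd_card _
          obtain ⟨k, -, hk⟩ := (Nat.dvd_prime_pow Nat.prime_two).1 hdvd
          have hk2 : k ≤ 2 := by
            by_contra hlt
            push Not at hlt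
            have : 2 ^ 3 ≤ 2 ^ k := Nat.pow_le_pow_right (by norm_num) hlt
            omega
          interval_cases k
          · exfalso
            rw [pow_zero] at hk
            have htop : frattini D = ⊤ := Subgroup.index_eq_one.mp hk
            apply haF
            rw [htop]; trivial
          · exfalso
            rw [pow_one] at hk
            have hcyc : IsCyclic D := Helper86.isCyclic_of_frattini_index_prime (p := 2) hk
            have h1 : Nat.card D ≤ 2 ^ n :=
              Helper73.card_le_of_isCyclic_of_pow_eq_one (2 ^ n) (by positivity)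
                (fun x => Subtype.ext (hexp x x.2))
            have hn0 : n = 0 := by
              by_contra hn
              have h2 : 2 ≤ 2 ^ n := by
                calc 2 = 2 ^ 1 := by norm_num
                  _ ≤ 2 ^ n := Nat.pow_le_pow_right (by norm_num) (by omega)
              rw [hcard] at h1
              nlinarith
            have h3 : (frattini D).index ∣ Nat.card D := Subgroup.index_dvd_card _
            rw [hk, hcard, hn0] at h3
            norm_num at h3
          · rw [hk]; norm_num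
        obtain ⟨hsurj, hinj⟩ :=
          Cfsg.Agent.S5212.swap_basis_subgroup D hDc n hcard hexp hidx t htnorm ht2D a haF
        have hn0 : n ≠ 0 := by
          intro h0
          have h1 : (frattini D).index ∣ Nat.card D := Subgroup.index_dvd_card _
          rw [hidx, hcard, h0] at h1
          norm_num at h1
        obtain ⟨s, hsP, hsD, hs2, hsconj⟩ :=
          Cfsg.Agent.S5212.exists_swap_involution P D hDP hDc t htP htD ht2D htn n a a.2 hsurj hinj
        -- the involution `u = a^(2^(n-1))`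
        obtain ⟨m, hm1⟩ : ∃ m, n = m + 1 := Nat.exists_eq_succ_of_ne_zero hn0
        obtain ⟨u, hu⟩ : ∃ u : Ω, u = (a : Ω) ^ (2 ^ m) := ⟨_, rfl⟩
        have huD : u ∈ D := hu ▸ D.pow_mem a.2 _
        have hu2 : u ^ 2 = 1 := by
          rw [hu, ← pow_mul, ← pow_succ, ← hm1]
          exact hexp a a.2
        have hsu : s * u * s⁻¹ = (t * (a : Ω) * t⁻¹) ^ (2 ^ m) := by
          rw [hsconj u huD, hu, conj_pow]
        have hlt : 2 ^ m < 2 ^ n := by
          rw [hm1]; exact Nat.pow_lt_pow_right (by norm_num) (by omega)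
        have hpos : 0 < 2 ^ n := by positivity
        have hm0 : 2 ^ m ≠ 0 := by positivity
        obtain ⟨H, ⟨eH⟩⟩ := Cfsg.Agent.S5212.partV4 P s hsP hs2 u (hDP huD) hu2
          (by
            have h1 : s * u * s⁻¹ ∈ D := by rw [hsconj u huD]; exact htn u huD
            exact hDc u huD _ h1)
          (by
            rw [hsu, hu]
            intro hEq
            have h1 : (a : Ω) ^ (2 ^ m) * (t * (a : Ω) * t⁻¹) ^ 0 = (a : Ω) ^ 0 * (t * (a : Ω) * t⁻¹) ^ (2 ^ m) := by
              rw [pow_zero, pow_zero, mul_one, one_mul, hEq]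
            have := (hinj (2 ^ m) 0 0 (2 ^ m) hlt hpos hpos hlt h1).1
            exact hm0 this)
        exact hno ⟨H, Or.inl ⟨eH⟩⟩

/-- Let F be a saturated fusion system over a finite 2-group S (p = 2) and P a metacyclic subgroup of S strongly closed in F that is not dihedral, not semidihedral and not generalized quaternion (here the group of order 2, the Klein four-group and the cyclic group of order 4 also count as excluded). Then P is normal in F. -/
theorem result {Ω : Type*} [Group Ω] {S : Subgroup Ω} [Finite S] (p : ℕ) [Fact p.Prime] (hS : IsPGroup p S) (F : Cfsg.FusionSystem S) (hF : F.IsSaturated p) (P : Subgroup Ω) (hP : F.StronglyClosed P) (hp : p = 2) (hm : Cfsg.IsMetacyclic ↥P) (hd : ¬ ∃ m : ℕ, Nonempty (↥P ≃* DihedralGroup m)) (hq : ¬ ∃ m : ℕ, Nonempty (↥P ≃* QuaternionGroup m)) (hsd : ¬ Cfsg.IsQuasiDihedral ↥P) : F.IsNormal P := by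
  subst hp
  classical
  have hPS : P ≤ S := hP.1
  have hPfin : Finite P := Helper87.finite_of_le hPS
  have hP2 : IsPGroup 2 P := hS.to_le hPS
  have hr : SectionalPRankLE 2 2 P :=
    Helper73.sectionalPRankLE_two_of_isMetacyclic 2 (by norm_num) hm
  have hno : ¬ ∃ H : Subgroup P, Nonempty (H ≃* DihedralGroup 4) ∨ Nonempty (H ≃* QuaternionGroup 2) := by
    intro h
    rcases Cfsg.Agent.S4398.result hP2 hr h with ⟨k, h1⟩ | ⟨k, hc, a, b, ha, hb, hab⟩ | ⟨k, h1⟩
    · exact hd ⟨_, h1⟩
    · apply hsd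
      refine ⟨k + 3, by omega, ?_, a, b, ha, hb, ?_⟩
      · rw [hc]
      · rw [hab]
        congr 2
    · exact hq ⟨_, h1⟩
  refine Helper73.isNormal_of_local F hS hF P hP ?_
  intro R hRa _ hPR
  exact local_step hS F P hP hm hno R hRa.1 hPR

end Cfsg.Agent.S5235
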