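import Cfsg.Statements.S5236
import Cfsg.Agent.Lib.Helper87.FusionOmega
import Cfsg.Agent.S5086
import Cfsg.Agent.S5088

set_option autoImplicit false
open Cfsg

namespace Cfsg.Agent.S5236

open Cfsg.FusionSystem Cfsg.Agent.Lib.Helper87

/-- Let p be an odd prime, F a saturated fusion system over a finite p-group S and P a subgroup of S strongly closed in F. Then P is normal in F if and only if Ω₁(P) (the subgroup generated by the elements of order p of P) has a chain of subgroups 1 = Q₀ ≤ Q₁ ≤ ⋯ ≤ Qₙ = Ω₁(P), each strongly closed in F, with [Qᵢ₊₁, P] ≤ Qᵢ for all i. -/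
theorem result {Ω : Type*} [Group Ω] {S : Subgroup Ω} [Finite S] (p : ℕ) [Fact p.Prime] (hS : IsPGroup p S) (F : Cfsg.FusionSystem S) (hF : F.IsSaturated p) (hp : p ≠ 2) (P : Subgroup Ω) (hP : F.StronglyClosed P) : F.IsNormal P ↔ ∃ (n : ℕ) (Q : Fin (n + 1) → Subgroup Ω), Q 0 = ⊥ ∧ Q (Fin.last n) = Cfsg.omegaOne p P ∧ Monotone Q ∧ (∀ i : Fin (n + 1), F.StronglyClosed (Q i)) ∧ ∀ i : Fin n, ⁅Q i.succ, P⁆ ≤ Q i.castSucc := by
  have hPS : P ≤ S := hP.1
  constructor
  · intro hN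
    obtain ⟨n, Qs, h0, hlast, hmono, hi⟩ := (Cfsg.Agent.S5088.result p hS F hF P).1 hN
    have hΩ : F.StronglyClosed (Cfsg.omegaOne p P) := stronglyClosed_omegaOne_of_isNormal F p hN
    refine ⟨n, fun i => Cfsg.omegaOne p P ⊓ Qs i, ?_, ?_, ?_, ?_, ?_⟩
    · show Cfsg.omegaOne p P ⊓ Qs 0 = ⊥
      rw [h0, inf_bot_eq]
    · show Cfsg.omegaOne p P ⊓ Qs (Fin.last n) = Cfsg.omegaOne p P
      rw [hlast]
      exact inf_eq_left.2 (omegaOne_le' p P)
    · intro i j hij
      exact inf_le_inf_left _ (hmono hij)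
    · intro i
      show F.StronglyClosed (Cfsg.omegaOne p P ⊓ Qs i)
      induction i using Fin.cases with
      | zero =>
        rw [h0, inf_bot_eq]
        exact stronglyClosed_bot F
      | succ j => exact stronglyClosed_inf hΩ (hi j).1
    · intro i
      show ⁅Cfsg.omegaOne p P ⊓ Qs i.succ, P⁆ ≤ Cfsg.omegaOne p P ⊓ Qs i.castSucc
      apply le_inf
      · rw [Subgroup.commutator_le]
        intro g₁ hg₁ g₂ hg₂
        rw [commutatorElement_def]
        have h1 : g₂ * g₁⁻¹ * g₂⁻¹ ∈ Cfsg.omegaOne p P :=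
          StronglyClosed_conj_mem hΩ (hPS hg₂) (Subgroup.inv_mem _ hg₁.1)
        have e : g₁ * g₂ * g₁⁻¹ * g₂⁻¹ = g₁ * (g₂ * g₁⁻¹ * g₂⁻¹) := by group
        rw [e]
        exact Subgroup.mul_mem _ hg₁.1 h1
      · have h1 : ⁅Cfsg.omegaOne p P ⊓ Qs i.succ, P⁆ ≤ ⁅Qs i.succ, P⁆ :=
          Subgroup.commutator_mono inf_le_right le_rfl
        have h2 := (hi i).2
        rw [Subgroup.commutator_comm] at h2
        exact h1.trans h2
  · rintro ⟨n, Q, hQ0, hQn, hmono, hsc, hcomm⟩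
    rw [Cfsg.Agent.S5086.result p hS F hF P]
    refine ⟨hP, fun R hRc hRr => ?_⟩
    refine le_of_centric_radical_of_omega_chain F hS hp hP n (fun k => Q ⟨min k n, by omega⟩) ?_ ?_
      (fun k => hsc _) ?_ hRc hRr
    · show Q ⟨min 0 n, _⟩ = ⊥
      have e : (⟨min 0 n, by omega⟩ : Fin (n + 1)) = 0 := by
        apply Fin.ext
        simp
      rw [e, hQ0]
    · show Q ⟨min n n, _⟩ = Cfsg.omegaOne p P
      have e : (⟨min n n, by omega⟩ : Fin (n + 1)) = Fin.last n := by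
        apply Fin.ext
        simp
      rw [e, hQn]
    · intro k hk
      show ⁅Q ⟨min (k + 1) n, _⟩, P⁆ ≤ Q ⟨min k n, _⟩
      have h2 := hcomm ⟨k, hk⟩
      have e1 : (⟨min (k + 1) n, by omega⟩ : Fin (n + 1)) = (⟨k, hk⟩ : Fin n).succ := by
        apply Fin.ext
        show min (k + 1) n = k + 1
        omega
      have e2 : (⟨min k n, by omega⟩ : Fin (n + 1)) = (⟨k, hk⟩ : Fin n).castSucc := by
        apply Fin.ext
        show min k n = k
        omega
      rw [e1, e2]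
      exact h2

end Cfsg.Agent.S5236
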