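import Cfsg.Statements.S5239
import Cfsg.Agent.Lib.Helper87.B3Final
import Cfsg.Agent.Lib.Helper85.PearlElement
import Cfsg.Agent.Lib.Helper85.PearlFus27
-- import your own Cfsg.Agent.* helpers here

set_option autoImplicit false
open Cfsg

namespace Cfsg.Agent.S5239

/-- Let F be a saturated fusion system over a finite 3-group S having a pearl: an F-essential subgroup E that is elementary abelian of order 9 or nonabelian of order 27. Then either S is extraspecial of order 27 and exponent 3, or S has order at least 81 and every subgroup of S can be generated by at most two elements, or S is isomorphic to the wreath product C₃ ≀ C₃ (a Sylow 3-subgroup of the symmetric group of degree 9). -/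
theorem result {Ω : Type*} [Group Ω] {S : Subgroup Ω} [Finite S] (hS : IsPGroup 3 S) (F : Cfsg.FusionSystem S) (hF : F.IsSaturated 3) [Fact (Nat.Prime 3)] (E : Subgroup Ω) (hE : F.IsEssential 3 E) (hpearl : (Nat.card E = 9 ∧ ∀ x ∈ E, x ^ 3 = 1 ∧ IsMulCommutative ↥E) ∨ (Nat.card E = 27 ∧ ¬ IsMulCommutative ↥E)) : (Cfsg.IsExtraspecial 3 ↥S ∧ Nat.card S = 27 ∧ Monoid.exponent ↥S = 3) ∨ (81 ≤ Nat.card S ∧ ∀ H : Subgroup Ω, H ≤ S → ∃ T : Finset Ω, T.card ≤ 2 ∧ Subgroup.closure (T : Set Ω) = H) ∨ (∃ W : Sylow 3 (Equiv.Perm (Fin 9)), Nonempty (↥S ≃* ↥(W : Subgroup (Equiv.Perm (Fin 9))))) := by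
  classical
  have hpearl' : (Nat.card E = 3 ^ 2 ∧ ∀ x ∈ E, x ^ 3 = 1 ∧ IsMulCommutative ↥E) ∨
      (Nat.card E = 3 ^ 3 ∧ ¬ IsMulCommutative ↥E) := by
    rcases hpearl with h | h
    · exact Or.inl ⟨by rw [h.1]; norm_num, h.2⟩
    · exact Or.inr ⟨by rw [h.1]; norm_num, h.2⟩
  obtain ⟨hcls, x, hxp, hxC⟩ :=
    Cfsg.Agent.Lib.Helper85.Pearl.pearl_element 3 hS F hF (by norm_num) E hE hpearl'
  obtain ⟨n, hn⟩ := IsPGroup.iff_card.mp hS
  obtain ⟨hn3, hcl⟩ := hcls n hn
  rcases Nat.lt_or_ge n 4 with hlt | hge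
  · -- `|S| = 27`
    have hn3' : n = 3 := by omega
    subst hn3'
    exact Or.inl (Cfsg.Agent.Lib.Helper85.PearlFus27.pearl_card27 hS F hF E hE hpearl (by rw [hn]; norm_num))
  · rcases Cfsg.Agent.Lib.Helper87.B3.b3_main n hge hn hcl x hxp hxC with h2 | hW
    · refine Or.inr (Or.inl ⟨?_, ?_⟩)
      · rw [hn]
        calc 81 = 3 ^ 4 := by norm_num
          _ ≤ 3 ^ n := Nat.pow_le_pow_right (by norm_num) hge
      · intro H hH
        obtain ⟨T, hT, hcl'⟩ := h2 (H.subgroupOf S)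
        refine ⟨T.map ⟨Subtype.val, Subtype.val_injective⟩, by simpa using hT, ?_⟩
        have h2 : ((T.map ⟨Subtype.val, Subtype.val_injective⟩ : Finset Ω) : Set Ω) =
            S.subtype '' (T : Set ↥S) := by
          ext y
          simp
        rw [h2, ← MonoidHom.map_closure, hcl', Subgroup.subgroupOf_map_subtype, inf_eq_left.mpr hH]
    · exact Or.inr (Or.inr hW)

end Cfsg.Agent.S5239
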