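import Cfsg.Statements.S5243
import Cfsg.Agent.Lib.Helper84.NormalPPrimeLift

set_option autoImplicit false
open Cfsg

namespace Cfsg.Agent.S5243

/-- Let F be a saturated fusion system over a finite p-group S, E a normal subsystem of F over T ≤ S, and χ a surjective homomorphism from Aut_F(T) onto a nontrivial finite group Δ of order prime to p whose kernel contains Aut_E(T). Then there is a proper normal subsystem F₀ of F over S containing E such that Aut_{F₀}(S) consists of those α ∈ Aut_F(S) whose restriction to T is an element of Aut_F(T) in the kernel of χ; moreover every p'-residual subsystem O^{p'}(F) of F is contained in F₀. -/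
theorem result {Ω : Type*} [Group Ω] {S : Subgroup Ω} [Finite S] (p : ℕ) [Fact p.Prime] (hS : IsPGroup p S) (F : Cfsg.FusionSystem S) (hF : F.IsSaturated p) {T : Subgroup Ω} (hTS : T ≤ S) (E : Cfsg.FusionSystem T) (hE : E.IsNormalIn F p) {Δ : Type*} [Group Δ] [Finite Δ] [Nontrivial Δ] (hΔ : (Nat.card Δ).Coprime p) (χ : ↥(F.autGroup T) →* Δ) (hχ : Function.Surjective χ) (hker : (E.autGroup T).subgroupOf (F.autGroup T) ≤ χ.ker) : ∃ F₀ : Cfsg.FusionSystem S, F₀.IsNormalIn F p ∧ ¬ (∀ P : Subgroup Ω, F₀.Hom P = F.Hom P) ∧ E.IsSubsystemOf F₀ ∧ (∀ α : MulAut ↥S, α ∈ F₀.autGroup S ↔ α ∈ F.autGroup S ∧ ∃ β : ↥(F.autGroup T), χ β = 1 ∧ ∀ t : ↥T, (((β : MulAut ↥T) t : ↥T) : Ω) = ((α ⟨(t : Ω), hTS t.2⟩ : ↥S) : Ω)) ∧ ∀ R : Cfsg.FusionSystem S, F.IsPPrimeResidual p R → R.IsSubsystemOf F₀ := by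
  classical
  have hT : F.StronglyClosed T := hE.1.2.2.2.1
  have hsub : E.IsSubsystemOf F := hE.1.2.2.1
  have hD : Cfsg.Agent.Lib.Helper84.TData F p E ((χ.ker).map (F.autGroup T).subtype) := by
    refine ⟨hE.1, ?_, ?_, ?_, ?_⟩
    · rintro _ ⟨x, -, rfl⟩
      exact x.2
    · rintro β hβ _ ⟨x, hx, rfl⟩
      refine ⟨⟨β, hβ⟩ * x * ⟨β, hβ⟩⁻¹, ?_, rfl⟩
      exact (MonoidHom.normal_ker χ).conj_mem x hx ⟨β, hβ⟩
    · intro α hα
      have hαF : α ∈ F.autGroup T :=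
        (Cfsg.Agent.Lib.Helper87.mem_autGroup_iff F hTS).2
          (hsub T ((Cfsg.Agent.Lib.Helper87.mem_autGroup_iff E le_rfl).1 hα))
      exact ⟨⟨α, hαF⟩, hker (Subgroup.mem_subgroupOf.2 hα), rfl⟩
    · rintro β hβ k ⟨x, hx, hxe⟩
      have hxe' : x = (⟨β, hβ⟩ : F.autGroup T) ^ (p ^ k) := Subtype.ext hxe
      have h1 : (χ ⟨β, hβ⟩) ^ (p ^ k) = 1 := by
        rw [← map_pow, ← hxe']
        exact hx
      have h2 : (χ ⟨β, hβ⟩) ^ (Nat.card Δ) = 1 := pow_card_eq_one'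
      have h3 := pow_gcd_eq_one.2 ⟨h1, h2⟩
      have h4 : Nat.gcd (p ^ k) (Nat.card Δ) = 1 := Nat.Coprime.pow_left k hΔ.symm
      rw [h4, pow_one] at h3
      exact ⟨⟨β, hβ⟩, h3, rfl⟩
  refine ⟨hD.sys, hD.sys_isNormalIn hS hF, ?_, hD.le_sys hS hF, ?_, ?_⟩
  · intro hall
    obtain ⟨d, hd⟩ := exists_ne (1 : Δ)
    obtain ⟨β, rfl⟩ := hχ d
    apply hd
    have h1 : T.subtype.comp ((β : MulAut T) : T ≃* T).toMonoidHom ∈ F.Hom T :=
      (Cfsg.Agent.Lib.Helper87.mem_autGroup_iff F hTS).1 β.2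
    rw [← hall T] at h1
    have h2 := hD.mem_tSys_of_mem_pullSys hS le_rfl (hD.sys_le_pullSys hS hF T h1)
    obtain ⟨x, hx, hxe⟩ := hD.mem_of_mem_tSys h2
    have hxβ : x = β := Subtype.ext hxe
    rw [← hxβ]
    exact hx
  · intro α
    rw [hD.mem_autGroup_sys hS hF, Cfsg.Agent.Lib.Helper84.mem_liftSub]
    constructor
    · rintro ⟨hα, x, hx, hxe⟩
      refine ⟨hα, x, hx, fun t => ?_⟩
      have h1 : (x : MulAut T) = Cfsg.Agent.Lib.Helper84.resTFun F hD.stronglyClosed α hα := hxe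
      rw [h1]
      rfl
    · rintro ⟨hα, β, hβ, hag⟩
      refine ⟨hα, β, hβ, ?_⟩
      apply MulEquiv.ext
      intro t
      apply Subtype.ext
      exact hag t
  · intro R hR
    exact hR.2.2 hD.sys (hD.sys_isSaturated hS hF) (hD.sys_hasPrimeToPIndexIn hS hF)

end Cfsg.Agent.S5243
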