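import Cfsg.Statements.S5244
import Cfsg.Agent.Lib.Helper87.OliverIndexP4
-- import your own Cfsg.Agent.* helpers here

set_option autoImplicit false
open Cfsg

namespace Cfsg.Agent.S5244

open Cfsg.FusionSystem Cfsg.Agent.Lib.Helper87

/-- Let p be an odd prime, S a finite nonabelian p-group with a unique abelian subgroup A of index p, and F a saturated fusion system over S with no nontrivial normal subgroup (O_p(F) = 1) in which A is not F-essential. Then some subgroup Z(S)⟨x⟩ with x ∈ S outside A is F-essential, the centre Z(S) is contained in the commutator subgroup of S, and S has maximal nilpotency class (if S has order pⁿ with n ≥ 3, the term of index n − 2 of its lower central series, counting S itself as the term of index 0, is nontrivial). -/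
theorem result {Ω : Type*} [Group Ω] {S : Subgroup Ω} [Finite S] (p : ℕ) [Fact p.Prime] (hS : IsPGroup p S) (F : Cfsg.FusionSystem S) (hF : F.IsSaturated p) (hp : p ≠ 2) (hna : ¬ IsMulCommutative ↥S) (A : Subgroup Ω) (hA : A ≤ S ∧ IsMulCommutative ↥A ∧ (A.subgroupOf S).index = p) (huniq : ∀ B : Subgroup Ω, B ≤ S → IsMulCommutative ↥B → (B.subgroupOf S).index = p → B = A) (hcore : F.core = ⊥) (hAe : ¬ F.IsEssential p A) : (∃ x ∈ S, x ∉ A ∧ F.IsEssential p ((S ⊓ Subgroup.centralizer (S : Set Ω)) ⊔ Subgroup.zpowers x)) ∧ (S ⊓ Subgroup.centralizer (S : Set Ω)) ≤ (commutator ↥S).map S.subtype ∧ ∀ n : ℕ, Nat.card S = p ^ n → 3 ≤ n → Subgroup.lowerCentralSeries S (n - 2) ≠ ⊥ := by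
  obtain ⟨hAS, hAc, hAi⟩ := hA
  have hdata : IndexPData p S A := by
    refine ⟨hS, hAS, fun a ha b hb => ?_, hAi, ?_⟩
    · exact congrArg Subtype.val (hAc.is_comm.comm (⟨a, ha⟩ : A) ⟨b, hb⟩)
    · by_contra hcon
      push Not at hcon
      apply hna
      exact ⟨⟨fun a b => Subtype.ext (hcon a a.2 b b.2)⟩⟩
  have huniq' : ∀ B : Subgroup Ω, B ≤ S → (∀ y ∈ B, ∀ z ∈ B, y * z = z * y) → B.relIndex S = p → B = A := by
    intro B hBS hBc hBi
    exact huniq B hBS ⟨⟨fun a b => Subtype.ext (hBc a a.2 b b.2)⟩⟩ hBi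
  have c : OliverCtx p S A F := ⟨hdata, hF, hp, huniq', hAe⟩
  have hpp : p.Prime := Fact.out
  obtain ⟨P, hP, hab⟩ := c.exists_abelian_essential hcore
  have hPA := c.ne hP
  have hPS : P ≤ S := hP.1.1
  have hnle := (hdata.essential_key F hF hP hPA).1
  obtain ⟨x, hxP, hxA⟩ := SetLike.not_le_iff_exists.1 hnle
  have hxS : x ∈ S := hPS hxP
  obtain ⟨hZle, hZcard⟩ := c.center_le_commutator hcore
  refine ⟨⟨x, hxS, hxA, ?_⟩, ?_, ?_⟩
  · have h1 := hdata.eq_sup hPS hxP hxA
    rw [(c.abelian_facts hP hab).1] at h1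
    have h2 : (S ⊓ Subgroup.centralizer (S : Set Ω)) = centralizerIn S S := rfl
    rw [h2, ← h1]
    exact hP
  · rw [commutator_map_subtype]
    exact hZle
  · intro n hn hn3
    have h2A := hdata.Z2_le_A F hF huniq' hP hPA
    have hrel := hdata.relIndex_center_Z2 F hF h2A hP hPA
    have hc := hdata.card_delta_ker_inf_range hxS hxA h2A
    rw [hrel] at hc
    have hm : (centralizerIn S S).relIndex S = p ^ (n - 1) := by
      have h1 : Nat.card (centralizerIn S S) * (centralizerIn S S).relIndex S = Nat.card S :=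
        card_mul_relIndex' (inf_le_left : centralizerIn S S ≤ S)
      rw [hZcard, hn] at h1
      have e : p ^ n = p * p ^ (n - 1) := by
        rw [← pow_succ']
        congr 1
        omega
      rw [e] at h1
      exact Nat.eq_of_mul_eq_mul_left hpp.pos h1
    have h3 := hdata.lcs_not_le_center hxS hxA hc hm (by omega)
    intro hbot
    apply h3
    have e : n - 2 = (n - 1 - 2) + 1 := by omega
    rw [e, Subgroup.lowerCentralSeries_succ, Subgroup.commutator_eq_bot_iff_le_centralizer] at hbot
    have hle : S.lowerCentralSeries (n - 1 - 2) ≤ S := by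
      have := Subgroup.lowerCentralSeries_antitone (S := S) (Nat.zero_le (n - 1 - 2))
      simpa using this
    exact le_inf hle hbot

end Cfsg.Agent.S5244
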