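import Cfsg.Statements.S5245
import Cfsg.Agent.Lib.Helper84.SemidirectFusion
import Cfsg.Agent.Lib.Helper87.FusionSat
import Cfsg.Agent.Lib.Helper88.FusionAlperinCR
import Cfsg.Agent.S5124
import Cfsg.Agent.S5092
-- import your own Cfsg.Agent.* helpers here

set_option autoImplicit false
open Cfsg

namespace Cfsg.Agent.S5245

open Cfsg.FusionSystem Cfsg.Agent.Lib.Helper87 Cfsg.Agent.Lib.Helper84

variable {Ω : Type*} [Group Ω] {S : Subgroup Ω}

theorem inn_le_autGroup (F : FusionSystem S) {P : Subgroup Ω} (hP : P ≤ S) : Inn P ≤ F.autGroup P :=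
  (Cfsg.Agent.Lib.Helper88.inn_le_autInducedBy hP).trans (autInducedBy_le_autGroup F hP)

/-- An automorphism of prime order `q ≠ p` of a `p`-group is not inner. -/
theorem not_mem_inn {p : ℕ} [Fact p.Prime] (hS : IsPGroup p S) {P : Subgroup Ω} (hP : P ≤ S) {q : ℕ} (hq : q.Prime)
    (hqp : q ≠ p) {β : MulAut P} (hoβ : orderOf β = q) : β ∉ Inn P := by
  intro hβ
  obtain ⟨k, hk⟩ := Cfsg.Agent.Lib.Helper88.inn_isPGroup hS hP ⟨β, hβ⟩
  have h1 : β ^ p ^ k = 1 := by
    have := congrArg Subtype.val hk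
    simpa using this
  have h2 : q ∣ p ^ k := by
    rw [← hoβ]; exact orderOf_dvd_of_pow_eq_one h1
  have h3 : q ∣ p := hq.dvd_of_dvd_pow h2
  exact hqp ((Nat.prime_dvd_prime_iff_eq hq Fact.out).1 h3)

/-- If `F` is not inner, some `Aut_F(P)` has an element of prime order `q ≠ p`. -/
theorem exists_prime_order_aut [Finite S] (p : ℕ) [Fact p.Prime] (hS : IsPGroup p S) (F : FusionSystem S)
    (hF : F.IsSaturated p) (hne : ¬ ∀ P : Subgroup Ω, F.Hom P = (innerFusionSystem S).Hom P) :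
    ∃ P : Subgroup Ω, P ≤ S ∧ ∃ (q : ℕ) (β : MulAut P), q.Prime ∧ q ≠ p ∧ β ∈ F.autGroup P ∧ orderOf β = q := by
  by_contra hcon
  apply hne
  apply eq_inner_of_autGroup_isPGroup F hS hF
  intro P hP
  have : Finite P := finite_of_le hP
  have : Finite (MulAut P) := inferInstance
  have hpos : Nat.card (F.autGroup P) ≠ 0 := Nat.card_pos.ne'
  refine IsPGroup.of_card (Nat.eq_prime_pow_of_unique_prime_dvd hpos ?_)
  intro d hd hdvd
  by_contra hdp
  have : Fact d.Prime := ⟨hd⟩
  obtain ⟨x, hx⟩ := exists_prime_orderOf_dvd_card' d hdvd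
  exact hcon ⟨P, hP, d, x.1, hd, hdp, x.2, by rw [Subgroup.orderOf_coe]; exact hx⟩

/-- The sparseness hypothesis applied to the system of `P ⋊ ⟨β⟩`. -/
theorem sparse_step [Finite S] (p : ℕ) [Fact p.Prime] (hS : IsPGroup p S) (F : FusionSystem S)
    (hsp : ∀ (T : Subgroup Ω) (E : Cfsg.FusionSystem T), E.IsSaturated p → E.IsSubsystemOf F →
      (T = S ∧ ∀ P : Subgroup Ω, E.Hom P = F.Hom P) ∨
        (∀ P : Subgroup Ω, E.Hom P = (Cfsg.innerFusionSystem T).Hom P))
    {P : Subgroup Ω} (hP : P ≤ S) {q : ℕ} (hq : q.Prime) (hqp : q ≠ p) {β : MulAut P} (hβ : β ∈ F.autGroup P)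
    (hoβ : orderOf β = q) :
    P = S ∧ ∀ Q : Subgroup Ω, (autSystem P (Inn P ⊔ Subgroup.zpowers β) le_sup_left).Hom Q = F.Hom Q := by
  have : Finite P := finite_of_le hP
  have hpP : IsPGroup p P := by
    intro x
    obtain ⟨k, hk⟩ := hS ⟨x, hP x.2⟩
    refine ⟨k, ?_⟩
    apply Subtype.ext
    have := congrArg (fun z : S => (z : Ω)) hk
    simpa using this
  have hC : Nat.Coprime (Nat.card (Subgroup.zpowers β)) p := by
    rw [Nat.card_zpowers, hoβ]
    exact (Nat.coprime_primes hq Fact.out).2 hqp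
  have hsat := autSystem_isSaturated (Subgroup.zpowers β) hpP hC
  have hsub := autSystem_isSubsystemOf F hP (Inn P ⊔ Subgroup.zpowers β) le_sup_left
    (sup_le (inn_le_autGroup F hP) ((Subgroup.zpowers_le).2 hβ))
  rcases hsp P _ hsat hsub with h | h
  · exact h
  · exfalso
    have h1 : P.subtype.comp β.toMonoidHom ∈ (autSystem P (Inn P ⊔ Subgroup.zpowers β) le_sup_left).Hom P :=
      ⟨le_rfl, β, Subgroup.mem_sup_right (Subgroup.mem_zpowers β), fun x => rfl⟩
    rw [h P] at h1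
    obtain ⟨-, g, hg, hφ⟩ := h1
    apply not_mem_inn hS hP hq hqp hoβ
    refine ⟨⟨g, hg⟩, ?_⟩
    ext x
    exact (hφ x).symm

/-- Restriction of an automorphism of `S` in `Aut_F(S)` to a strongly closed subgroup. -/
def restrictAut (F : FusionSystem S) {T : Subgroup Ω} (hT : F.StronglyClosed T) (β : MulAut S)
    (hβ : β ∈ F.autGroup S) : MulAut T where
  toFun x := ⟨β ⟨x, hT.1 x.2⟩, hT.2 T le_rfl _ (restrict_mem F ((mem_autGroup_iff F le_rfl).1 hβ) hT.1) x⟩
  invFun x := ⟨β⁻¹ ⟨x, hT.1 x.2⟩,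
    hT.2 T le_rfl _ (restrict_mem F ((mem_autGroup_iff F le_rfl).1 (Subgroup.inv_mem _ hβ)) hT.1) x⟩
  left_inv x := by
    apply Subtype.ext
    show ((β⁻¹ (β ⟨x, hT.1 x.2⟩) : S) : Ω) = x
    simp
  right_inv x := by
    apply Subtype.ext
    show ((β (β⁻¹ ⟨x, hT.1 x.2⟩) : S) : Ω) = x
    simp
  map_mul' x y := by
    apply Subtype.ext
    show ((β (⟨x, hT.1 x.2⟩ * ⟨y, hT.1 y.2⟩) : S) : Ω) = _
    rw [map_mul]
    rfl

theorem restrictAut_apply (F : FusionSystem S) {T : Subgroup Ω} (hT : F.StronglyClosed T) (β : MulAut S)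
    (hβ : β ∈ F.autGroup S) (x : T) : ((restrictAut F hT β hβ x : T) : Ω) = (β ⟨x, hT.1 x.2⟩ : S) := rfl

theorem restrictAut_mem (F : FusionSystem S) {T : Subgroup Ω} (hT : F.StronglyClosed T) (β : MulAut S)
    (hβ : β ∈ F.autGroup S) : restrictAut F hT β hβ ∈ F.autGroup T := by
  rw [mem_autGroup_iff F hT.1]
  exact hom_of_eq_on F rfl (restrict_mem F ((mem_autGroup_iff F le_rfl).1 hβ) hT.1) (fun x hx _ => rfl)

theorem restrictAut_pow (F : FusionSystem S) {T : Subgroup Ω} (hT : F.StronglyClosed T) (β : MulAut S)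
    (hβ : β ∈ F.autGroup S) (k : ℕ) (x : T) :
    (((restrictAut F hT β hβ) ^ k) x : Ω) = ((β ^ k) ⟨x, hT.1 x.2⟩ : S) := by
  induction k generalizing x with
  | zero => simp
  | succ k ih =>
    rw [pow_succ, pow_succ, MulAut.mul_apply, MulAut.mul_apply, ih]
    rfl

theorem main [Finite S] (p : ℕ) [Fact p.Prime] (hS : IsPGroup p S) (F : FusionSystem S) (hF : F.IsSaturated p)
    (hsp : ∀ (T : Subgroup Ω) (E : Cfsg.FusionSystem T), E.IsSaturated p → E.IsSubsystemOf F →
      (T = S ∧ ∀ P : Subgroup Ω, E.Hom P = F.Hom P) ∨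
        (∀ P : Subgroup Ω, E.Hom P = (Cfsg.innerFusionSystem T).Hom P))
    {q : ℕ} (hq : q.Prime) (hqp : q ≠ p) {β : MulAut S} (hβ : β ∈ F.autGroup S) (hoβ : orderOf β = q)
    (hEF : ∀ Q : Subgroup Ω, (autSystem S (Inn S ⊔ Subgroup.zpowers β) le_sup_left).Hom Q = F.Hom Q) :
    F.IsNormal S ∧ F.focalSubgroup = S ∧ F.hyperfocalSubgroup p = S ∧
      (F.autGroup S : Subgroup (MulAut ↥S)) = Cfsg.Inn ↥S ⊔ Subgroup.zpowers β := by
  have hhyp : F.hyperfocalSubgroup p = S := by
    have hT : F.StronglyClosed (F.hyperfocalSubgroup p) := Cfsg.Agent.S5124.result p hS F hF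
    by_cases hγ1 : restrictAut F hT β hβ = 1
    · exfalso
      -- `β` is trivial on `hyp(F)` and `x⁻¹ β(x) ∈ hyp(F)`, so `β = 1`
      have hfix : ∀ t : S, (t : Ω) ∈ F.hyperfocalSubgroup p → β t = t := by
        intro t ht
        have := restrictAut_apply F hT β hβ ⟨t, ht⟩
        rw [hγ1] at this
        apply Subtype.ext
        exact this.symm
      have hmem : ∀ x : S, ((x⁻¹ * β x : S) : Ω) ∈ F.hyperfocalSubgroup p := by
        intro x
        have hres : (⟨β, hβ⟩ : F.autGroup S) ∈ pResidual p (F.autGroup S) := by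
          apply Subgroup.subset_closure
          show Nat.Coprime (orderOf (⟨β, hβ⟩ : F.autGroup S)) p
          rw [← Subgroup.orderOf_coe]
          show Nat.Coprime (orderOf β) p
          rw [hoβ]
          exact (Nat.coprime_primes hq Fact.out).2 hqp
        exact Subgroup.subset_closure ⟨S, ⟨β, hβ⟩, x, le_rfl, hres, rfl⟩
      have hpow : ∀ (k : ℕ) (x : S), (β ^ k) x = x * (x⁻¹ * β x) ^ k := by
        intro k x
        induction k with
        | zero => simp
        | succ k ih =>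
          rw [pow_succ', MulAut.mul_apply, ih, map_mul, map_pow, hfix _ (hmem x), pow_succ']
          simp only [← mul_assoc, mul_inv_cancel, one_mul]
      have hβ1 : β = 1 := by
        ext x
        have h1 := hpow q x
        rw [← hoβ, pow_orderOf_eq_one, hoβ] at h1
        have h2 : (x⁻¹ * β x) ^ q = 1 := by
          have : x = x * (x⁻¹ * β x) ^ q := h1
          exact (mul_eq_left.1 this.symm)
        obtain ⟨m, hm⟩ := hS (x⁻¹ * β x)
        have h3 : orderOf (x⁻¹ * β x) ∣ q := orderOf_dvd_of_pow_eq_one h2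
        have h4 : orderOf (x⁻¹ * β x) ∣ p ^ m := orderOf_dvd_of_pow_eq_one hm
        have hcop : Nat.Coprime q (p ^ m) := Nat.Coprime.pow_right m ((Nat.coprime_primes hq Fact.out).2 hqp)
        have h5 : orderOf (x⁻¹ * β x) = 1 := Nat.eq_one_of_dvd_coprimes hcop h3 h4
        have h6 : x⁻¹ * β x = 1 := orderOf_eq_one_iff.1 h5
        have h7 : β x = x := by
          have := congrArg (fun z => x * z) h6
          simpa using this
        rw [h7]; rfl
      rw [hβ1, orderOf_one] at hoβ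
      exact hq.one_lt.ne hoβ
    · have hγq : orderOf (restrictAut F hT β hβ) = q := by
        have h1 : (restrictAut F hT β hβ) ^ q = 1 := by
          ext x
          rw [restrictAut_pow, ← hoβ, pow_orderOf_eq_one]
          rfl
        rcases hq.eq_one_or_self_of_dvd _ (orderOf_dvd_of_pow_eq_one h1) with h | h
        · exact absurd (orderOf_eq_one_iff.1 h) hγ1
        · exact h
      exact (sparse_step p hS F hsp hT.1 hq hqp (restrictAut_mem F hT β hβ) hγq).1
  refine ⟨?_, ?_, hhyp, ?_⟩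
  · refine ⟨le_rfl, fun Q φ hφ => ?_⟩
    rw [← hEF Q] at hφ
    obtain ⟨hQ, a, ha, h⟩ := hφ
    have hQS : Q ⊔ S ≤ S := sup_le hQ le_rfl
    refine ⟨S.subtype.comp (a.toMonoidHom.comp (Subgroup.inclusion hQS)), ?_, ?_, ?_⟩
    · rw [← hEF (Q ⊔ S)]
      exact ⟨hQS, a, ha, fun x => rfl⟩
    · intro x
      exact (h x).symm
    · ext y
      constructor
      · rintro ⟨x, -, rfl⟩
        exact (a _).2
      · intro hy
        refine ⟨⟨((a⁻¹ : MulAut S) ⟨y, hy⟩ : S), le_sup_right (a := Q) ((a⁻¹ : MulAut S) ⟨y, hy⟩).2⟩, ?_, ?_⟩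
        · exact ((a⁻¹ : MulAut S) ⟨y, hy⟩).2
        · show ((a ((a⁻¹ : MulAut S) ⟨y, hy⟩) : S) : Ω) = y
          simp
  · rw [Cfsg.Agent.S5092.result p hS F hF, hhyp]
    refine sup_eq_left.2 (Subgroup.commutator_le.2 (fun a ha b hb => ?_))
    exact S.mul_mem (S.mul_mem (S.mul_mem ha hb) (S.inv_mem ha)) (S.inv_mem hb)
  · have : F.autGroup S = (autSystem S (Inn S ⊔ Subgroup.zpowers β) le_sup_left).autGroup S := by
      unfold FusionSystem.autGroup
      rw [hEF S]
    rw [this]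
    exact autGroup_autSystem S _ _

/-- Let F be an extremely sparse fusion system over a finite p-group S (saturated, not the inner system, and every saturated fusion system over any subgroup T of S contained in F is F itself or the inner system of T). Then S is normal in F, the focal and hyperfocal subgroups of F are both S, and Aut_F(S) is generated by the inner automorphisms of S together with a single automorphism of prime order q ≠ p (F is the fusion system of the semidirect product of S by a cyclic group of prime order). -/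
theorem result {Ω : Type*} [Group Ω] {S : Subgroup Ω} [Finite S] (p : ℕ) [Fact p.Prime] (hS : IsPGroup p S) (F : Cfsg.FusionSystem S) (hF : F.IsSaturated p) (hxs : ¬ (∀ P : Subgroup Ω, F.Hom P = (Cfsg.innerFusionSystem S).Hom P) ∧ ∀ (T : Subgroup Ω) (E : Cfsg.FusionSystem T), E.IsSaturated p → E.IsSubsystemOf F → (T = S ∧ ∀ P : Subgroup Ω, E.Hom P = F.Hom P) ∨ (∀ P : Subgroup Ω, E.Hom P = (Cfsg.innerFusionSystem T).Hom P)) : F.IsNormal S ∧ F.focalSubgroup = S ∧ F.hyperfocalSubgroup p = S ∧ ∃ (q : ℕ) (β : MulAut ↥S), q.Prime ∧ q ≠ p ∧ β ∈ F.autGroup S ∧ orderOf β = q ∧ (F.autGroup S : Subgroup (MulAut ↥S)) = Cfsg.Inn ↥S ⊔ Subgroup.zpowers β := by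
  obtain ⟨hne, hsp⟩ := hxs
  obtain ⟨P, hP, q, β, hq, hqp, hβ, hoβ⟩ := exists_prime_order_aut p hS F hF hne
  obtain ⟨hPS, hEF⟩ := sparse_step p hS F hsp hP hq hqp hβ hoβ
  subst hPS
  obtain ⟨h1, h2, h3, h4⟩ := main p hS F hF hsp hq hqp hβ hoβ hEF
  exact ⟨h1, h2, h3, q, β, hq, hqp, hβ, hoβ, h4⟩

end Cfsg.Agent.S5245
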