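import Cfsg.Statements.S5246
import Cfsg.Agent.Lib.Helper85.FusionGroupSat
import Cfsg.Agent.Lib.Helper97.Cores
-- import your own Cfsg.Agent.* helpers here

set_option autoImplicit false
open Cfsg

namespace Cfsg.Agent.S5246

open Cfsg.FusionSystem Cfsg.Agent.Lib.Helper85 Cfsg.Agent.Lib.Helper97
open scoped commutatorElement

section aux

variable {Ω : Type*} [Group Ω]

/-- The homomorphism `N(Q) → Aut(xQx⁻¹)`, `n ↦` conjugation by `x n x⁻¹`. -/
noncomputable def twistHom (Q : Subgroup Ω) (x : Ω) :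
    ↥(Subgroup.normalizer (Q : Set Ω)) →* MulAut ↥(Q.map (MulAut.conj x).toMonoidHom) :=
  (Subgroup.normalizerMonoidHom (Q.map (MulAut.conj x).toMonoidHom)).comp
    (((MulAut.conj x).toMonoidHom.comp (Subgroup.normalizer (Q : Set Ω)).subtype).codRestrict _
      (fun n => by
        rw [normalizer_map_conj]
        exact ⟨n, n.2, rfl⟩))

theorem twistHom_apply (Q : Subgroup Ω) (x : Ω) (n : ↥(Subgroup.normalizer (Q : Set Ω)))
    (a : ↥(Q.map (MulAut.conj x).toMonoidHom)) :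
    ((twistHom Q x n a : ↥(Q.map (MulAut.conj x).toMonoidHom)) : Ω) =
      (x * n * x⁻¹) * a * (x * n * x⁻¹)⁻¹ := rfl

theorem twistHom_ker (Q : Subgroup Ω) (x : Ω) :
    (twistHom Q x).ker =
      (Subgroup.centralizer (Q : Set Ω)).subgroupOf (Subgroup.normalizer (Q : Set Ω)) := by
  ext n
  rw [MonoidHom.mem_ker, Subgroup.mem_subgroupOf, Subgroup.mem_centralizer_iff]
  constructor
  · intro h b hb
    have h1 := congrArg (fun α : MulAut ↥(Q.map (MulAut.conj x).toMonoidHom) =>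
      ((α ⟨x * b * x⁻¹, ⟨b, hb, rfl⟩⟩ : ↥(Q.map (MulAut.conj x).toMonoidHom)) : Ω)) h
    simp only [twistHom_apply, MulAut.one_apply] at h1
    have h2 : x * (↑n * b * (↑n)⁻¹) * x⁻¹ = x * b * x⁻¹ := by
      rw [← h1]; group
    have h3 : (↑n : Ω) * b * (↑n)⁻¹ = b := mul_left_cancel (mul_right_cancel h2)
    exact (mul_inv_eq_iff_eq_mul.mp h3).symm
  · intro h
    apply MulEquiv.ext
    intro a
    apply Subtype.ext
    rw [twistHom_apply, MulAut.one_apply]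
    obtain ⟨b, hb, hba⟩ := a.2
    have h3 := h b hb
    have hba' : (a : Ω) = x * b * x⁻¹ := hba.symm
    rw [hba']
    have : x * ↑n * x⁻¹ * (x * b * x⁻¹) * (x * ↑n * x⁻¹)⁻¹ = x * ((↑n : Ω) * b) * (↑n)⁻¹ * x⁻¹ := by
      group
    rw [this, ← h3]
    group

theorem mem_autGroup_group_iff (P : Subgroup Ω) {R : Subgroup Ω} (hR : R ≤ P) (α : MulAut R) :
    α ∈ (groupFusionSystem P).autGroup R ↔ ∃ y : Ω, ∀ a : R, ((α a : R) : Ω) = y * a * y⁻¹ := by
  rw [mem_autGroup_iff _ hR]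
  constructor
  · rintro ⟨-, -, y, hy⟩
    exact ⟨y, hy⟩
  · rintro ⟨y, hy⟩
    exact ⟨hR, fun a => hR (α a).2, y, hy⟩

theorem twistHom_mem_autGroup (P Q : Subgroup Ω) (x : Ω)
    (hQ' : Q.map (MulAut.conj x).toMonoidHom ≤ P) (n : ↥(Subgroup.normalizer (Q : Set Ω))) :
    twistHom Q x n ∈ (groupFusionSystem P).autGroup (Q.map (MulAut.conj x).toMonoidHom) :=
  (mem_autGroup_group_iff P hQ' _).mpr ⟨x * n * x⁻¹, fun a => twistHom_apply Q x n a⟩

theorem exists_twistHom_eq (P Q : Subgroup Ω) (x : Ω)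
    (hQ' : Q.map (MulAut.conj x).toMonoidHom ≤ P)
    (α : MulAut ↥(Q.map (MulAut.conj x).toMonoidHom))
    (hα : α ∈ (groupFusionSystem P).autGroup (Q.map (MulAut.conj x).toMonoidHom)) :
    ∃ n, twistHom Q x n = α := by
  obtain ⟨y, hy⟩ := (mem_autGroup_group_iff P hQ' α).mp hα
  have hyN : y ∈ Subgroup.normalizer ((Q.map (MulAut.conj x).toMonoidHom : Subgroup Ω) : Set Ω) :=
    mem_normalizer_of_induces hy
  rw [normalizer_map_conj] at hyN
  obtain ⟨n, hn, hny⟩ := hyN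
  refine ⟨⟨n, hn⟩, ?_⟩
  apply MulEquiv.ext
  intro a
  apply Subtype.ext
  rw [twistHom_apply, hy, ← hny]
  rfl

/-- The isomorphism `N(Q)/C(Q) ≃ Aut_F(xQx⁻¹)`. -/
noncomputable def twistEquiv (P Q : Subgroup Ω) (x : Ω)
    (hQ' : Q.map (MulAut.conj x).toMonoidHom ≤ P) :
    (↥(Subgroup.normalizer (Q : Set Ω)) ⧸
      (Subgroup.centralizer (Q : Set Ω)).subgroupOf (Subgroup.normalizer (Q : Set Ω))) ≃*
      ↥((groupFusionSystem P).autGroup (Q.map (MulAut.conj x).toMonoidHom)) :=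
  MulEquiv.ofBijective
    (QuotientGroup.lift _ ((twistHom Q x).codRestrict _ (twistHom_mem_autGroup P Q x hQ'))
      (by
        intro n hn
        rw [← twistHom_ker] at hn
        rw [MonoidHom.mem_ker]
        apply Subtype.ext
        exact hn))
    (by
      constructor
      · rw [injective_iff_map_eq_one]
        intro q
        induction q using QuotientGroup.induction_on with
        | H n =>
          intro h
          rw [QuotientGroup.lift_mk] at h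
          have h1 : twistHom Q x n = 1 := congrArg Subtype.val h
          rw [QuotientGroup.eq_one_iff, ← twistHom_ker]
          exact h1
      · rintro ⟨α, hα⟩
        obtain ⟨n, hn⟩ := exists_twistHom_eq P Q x hQ' α hα
        refine ⟨QuotientGroup.mk n, ?_⟩
        rw [QuotientGroup.lift_mk]
        exact Subtype.ext hn)

theorem twistEquiv_mk (P Q : Subgroup Ω) (x : Ω)
    (hQ' : Q.map (MulAut.conj x).toMonoidHom ≤ P) (n : ↥(Subgroup.normalizer (Q : Set Ω))) :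
    ((twistEquiv P Q x hQ' (QuotientGroup.mk n) :
      ↥((groupFusionSystem P).autGroup (Q.map (MulAut.conj x).toMonoidHom))) :
        MulAut ↥(Q.map (MulAut.conj x).toMonoidHom)) = twistHom Q x n := rfl

theorem key (p : ℕ) (P Q : Subgroup Ω) (x : Ω)
    (hQ' : Q.map (MulAut.conj x).toMonoidHom ≤ P) (n : ↥(Subgroup.normalizer (Q : Set Ω))) :
    (QuotientGroup.mk n : ↥(Subgroup.normalizer (Q : Set Ω)) ⧸
      (Subgroup.centralizer (Q : Set Ω)).subgroupOf (Subgroup.normalizer (Q : Set Ω))) ∈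
        pCore p (↥(Subgroup.normalizer (Q : Set Ω)) ⧸
          (Subgroup.centralizer (Q : Set Ω)).subgroupOf (Subgroup.normalizer (Q : Set Ω))) ↔
    twistHom Q x n ∈
      (pCore p ↥((groupFusionSystem P).autGroup (Q.map (MulAut.conj x).toMonoidHom))).map
        ((groupFusionSystem P).autGroup (Q.map (MulAut.conj x).toMonoidHom)).subtype := by
  have h := pCore_map_equiv (twistEquiv P Q x hQ') p
  constructor
  · intro hn
    refine ⟨twistEquiv P Q x hQ' (QuotientGroup.mk n), ?_, twistEquiv_mk P Q x hQ' n⟩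
    rw [← h]
    exact ⟨_, hn, rfl⟩
  · rintro ⟨β, hβ, hβn⟩
    rw [← h] at hβ
    obtain ⟨q, hq, hqβ⟩ := hβ
    have : q = QuotientGroup.mk n := by
      apply (twistEquiv P Q x hQ').injective
      apply Subtype.ext
      rw [twistEquiv_mk, ← hβn]
      exact congrArg Subtype.val hqβ
    rw [← this]
    exact hq

theorem key' (p : ℕ) (P Q Q' : Subgroup Ω) (x : Ω)
    (hQQ' : Q.map (MulAut.conj x).toMonoidHom = Q') (hQ' : Q' ≤ P)
    (n : ↥(Subgroup.normalizer (Q : Set Ω))) (χ : MulAut ↥Q')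
    (hχ : ∀ a : Q', ((χ a : Q') : Ω) = (x * n * x⁻¹) * a * (x * n * x⁻¹)⁻¹) :
    (QuotientGroup.mk n : ↥(Subgroup.normalizer (Q : Set Ω)) ⧸
      (Subgroup.centralizer (Q : Set Ω)).subgroupOf (Subgroup.normalizer (Q : Set Ω))) ∈
        pCore p (↥(Subgroup.normalizer (Q : Set Ω)) ⧸
          (Subgroup.centralizer (Q : Set Ω)).subgroupOf (Subgroup.normalizer (Q : Set Ω))) ↔
    χ ∈ (pCore p ↥((groupFusionSystem P).autGroup Q')).map
        ((groupFusionSystem P).autGroup Q').subtype := by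
  subst hQQ'
  have : χ = twistHom Q x n :=
    MulEquiv.ext (fun a => Subtype.ext (by rw [hχ, twistHom_apply]))
  rw [this]
  exact key p P Q x hQ' n

theorem quad_iff (g b : Ω) :
    g * b⁻¹ * g⁻¹ * b * (g * b⁻¹ * g⁻¹) * (g * (g * b * g⁻¹) * g⁻¹) = 1 ↔
      ⁅b⁻¹, g⁆ * g = g * ⁅b⁻¹, g⁆ := by
  have h : g * b⁻¹ * g⁻¹ * b * (g * b⁻¹ * g⁻¹) * (g * (g * b * g⁻¹) * g⁻¹) =
      ⁅b⁻¹, g⁆⁻¹ * g * ⁅b⁻¹, g⁆ * g⁻¹ := by
    rw [commutatorElement_def]; group
  rw [h]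
  constructor
  · intro h1
    have h2 := mul_inv_eq_one.mp h1
    calc ⁅b⁻¹, g⁆ * g = ⁅b⁻¹, g⁆ * (⁅b⁻¹, g⁆⁻¹ * g * ⁅b⁻¹, g⁆) := by rw [h2]
      _ = g * ⁅b⁻¹, g⁆ := by group
  · intro h1
    rw [mul_inv_eq_one]
    calc ⁅b⁻¹, g⁆⁻¹ * g * ⁅b⁻¹, g⁆ = ⁅b⁻¹, g⁆⁻¹ * (g * ⁅b⁻¹, g⁆) := by group
      _ = ⁅b⁻¹, g⁆⁻¹ * (⁅b⁻¹, g⁆ * g) := by rw [h1]
      _ = g := by group

theorem comm_eq_bot_of (Q : Subgroup Ω) (g : Ω) (h : ∀ b ∈ Q, ⁅b, g⁆ * g = g * ⁅b, g⁆) :
    ⁅⁅Q, Subgroup.zpowers g⁆, Subgroup.zpowers g⁆ = ⊥ := by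
  rw [Subgroup.commutator_eq_bot_iff_le_centralizer, Subgroup.commutator_le]
  have hZ : ∀ z : Ω, z * g = g * z →
      z ∈ Subgroup.centralizer ((Subgroup.zpowers g : Subgroup Ω) : Set Ω) := by
    intro z hz
    rw [Subgroup.mem_centralizer_iff]
    rintro _ ⟨n, rfl⟩
    exact ((Commute.zpow_left (show Commute g z from hz.symm) n)).eq
  let T : Subgroup Ω :=
    { carrier := {k | k ∈ Subgroup.zpowers g ∧ ∀ b ∈ Q,
        ⁅b, k⁆ ∈ Subgroup.centralizer ((Subgroup.zpowers g : Subgroup Ω) : Set Ω)}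
      one_mem' := ⟨Subgroup.one_mem _, fun b _ => by
        rw [commutatorElement_one_right]; exact Subgroup.one_mem _⟩
      mul_mem' := by
        rintro k₁ k₂ ⟨hk₁, h₁⟩ ⟨hk₂, h₂⟩
        refine ⟨Subgroup.mul_mem _ hk₁ hk₂, fun b hb => ?_⟩
        have e : ⁅b, k₁ * k₂⁆ = ⁅b, k₁⁆ * (k₁ * ⁅b, k₂⁆ * k₁⁻¹) := by
          simp only [commutatorElement_def]; group
        have e2 : k₁ * ⁅b, k₂⁆ * k₁⁻¹ = ⁅b, k₂⁆ := by
          have := (Subgroup.mem_centralizer_iff.mp (h₂ b hb)) k₁ hk₁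
          rw [this]; group
        rw [e, e2]
        exact Subgroup.mul_mem _ (h₁ b hb) (h₂ b hb)
      inv_mem' := by
        rintro k ⟨hk, h₁⟩
        refine ⟨Subgroup.inv_mem _ hk, fun b hb => ?_⟩
        have e : ⁅b, k⁻¹⁆ = k⁻¹ * ⁅b, k⁆⁻¹ * k := by
          simp only [commutatorElement_def]; group
        have e2 : k⁻¹ * ⁅b, k⁆⁻¹ * k = ⁅b, k⁆⁻¹ := by
          have := (Subgroup.mem_centralizer_iff.mp (Subgroup.inv_mem _ (h₁ b hb))) k⁻¹
            (Subgroup.inv_mem _ hk)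
          rw [this]; group
        rw [e, e2]
        exact Subgroup.inv_mem _ (h₁ b hb) }
  have hgT : g ∈ T := ⟨Subgroup.mem_zpowers g, fun b hb => hZ _ (h b hb)⟩
  have hle : Subgroup.zpowers g ≤ T := Subgroup.zpowers_le.mpr hgT
  intro b hb k hk
  exact (hle hk).2 b hb

theorem comm_of_eq_bot (Q : Subgroup Ω) (g : Ω)
    (h : ⁅⁅Q, Subgroup.zpowers g⁆, Subgroup.zpowers g⁆ = ⊥) :
    ∀ b ∈ Q, ⁅b, g⁆ * g = g * ⁅b, g⁆ := by
  rw [Subgroup.commutator_eq_bot_iff_le_centralizer] at h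
  intro b hb
  have h1 : ⁅b, g⁆ ∈ ⁅Q, Subgroup.zpowers g⁆ :=
    Subgroup.commutator_mem_commutator hb (Subgroup.mem_zpowers g)
  exact ((Subgroup.mem_centralizer_iff.mp (h h1)) g (Subgroup.mem_zpowers g)).symm

theorem exists_fn [Finite Ω] {p : ℕ} [Fact p.Prime] (P : Sylow p Ω) (Q : Subgroup Ω)
    (hQ : IsPGroup p Q) :
    ∃ x : Ω, (groupFusionSystem (P : Subgroup Ω)).IsFullyNormalized
      (Q.map (MulAut.conj x).toMonoidHom) := by
  obtain ⟨x₀, hx₀⟩ := exists_conj_le_sylow P hQ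
  have : Nonempty {x : Ω // Q.map (MulAut.conj x).toMonoidHom ≤ P} := ⟨⟨x₀, hx₀⟩⟩
  obtain ⟨⟨x, hx⟩, hmax⟩ := Finite.exists_max
    (fun t : {x : Ω // Q.map (MulAut.conj x).toMonoidHom ≤ P} =>
      Nat.card (normalizerIn (P : Subgroup Ω) (Q.map (MulAut.conj t.1).toMonoidHom)))
  refine ⟨x, hx, fun R hR => ?_⟩
  obtain ⟨-, hRP, y, rfl⟩ := groupFusionSystem_isConj_iff.mp hR
  rw [map_conj_map_conj] at hRP ⊢
  exact hmax ⟨y * x, hRP⟩

end aux

/-- Let p be an odd prime, G a finite group and P a Sylow p-subgroup. Call a fusion system F p-stable when, for every fully normalized subgroup Q and every χ ∈ Aut_F(Q) acting quadratically on Q (that is, χ fixes a⁻¹χ(a) for every a ∈ Q; equivalently χ(a⁻¹)·a·χ(a⁻¹)·χ(χ(a)) = 1), χ lies in O_p(Aut_F(Q)). Then G is p-stable in the normalizer form (for every p-subgroup Q and x ∈ N_G(Q) with [Q, x, x] = 1, the image of x lies in O_p(N_G(Q)/C_G(Q))) if and only if the fusion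 system of G on P is p-stable. -/
theorem result {Ω : Type*} [Group Ω] [Finite Ω] {p : ℕ} [Fact p.Prime] (hp : p ≠ 2) (P : Sylow p Ω) : Cfsg.IsNormalizerPStable p Ω ↔ (∀ Q : Subgroup Ω, (Cfsg.groupFusionSystem (P : Subgroup Ω)).IsFullyNormalized Q → ∀ χ : MulAut ↥Q, χ ∈ (Cfsg.groupFusionSystem (P : Subgroup Ω)).autGroup Q → (∀ a : ↥Q, (χ a⁻¹) * a * (χ a⁻¹) * (χ (χ a)) = 1) → χ ∈ ((Cfsg.pCore p ↥((Cfsg.groupFusionSystem (P : Subgroup Ω)).autGroup Q)).map ((Cfsg.groupFusionSystem (P : Subgroup Ω)).autGroup Q).subtype : Subgroup (MulAut ↥Q))) := by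
  constructor
  · intro hG Q hQ χ hχ hquad
    have hQP : Q ≤ (P : Subgroup Ω) := hQ.1
    obtain ⟨g, hg⟩ := (mem_autGroup_group_iff (P : Subgroup Ω) hQP χ).mp hχ
    have hgN : g ∈ Subgroup.normalizer (Q : Set Ω) := mem_normalizer_of_induces hg
    have hcomm : ∀ b ∈ Q, ⁅b, g⁆ * g = g * ⁅b, g⁆ := by
      intro b hb
      have h1 := hquad ⟨b⁻¹, Q.inv_mem hb⟩
      have h2 := congrArg Subtype.val h1
      simp only [Subgroup.coe_mul, hg, Subgroup.coe_one, Subgroup.coe_inv] at h2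
      have h3 := (quad_iff g b⁻¹).mp h2
      rwa [inv_inv] at h3
    have hbot := comm_eq_bot_of Q g hcomm
    have hmem := hG Q (P.isPGroup'.to_le hQP) g hgN hbot
    refine (key' p (P : Subgroup Ω) Q Q 1 ?_ hQP ⟨g, hgN⟩ χ ?_).mp hmem
    · ext z; simp
    · intro a
      rw [hg]; simp
  · intro hF Q hQp g hgN hbot
    obtain ⟨x, hx⟩ := exists_fn P Q hQp
    have hQ'P : Q.map (MulAut.conj x).toMonoidHom ≤ (P : Subgroup Ω) := hx.1
    have hcomm := comm_of_eq_bot Q g hbot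
    have hχ := twistHom_mem_autGroup (P : Subgroup Ω) Q x hQ'P ⟨g, hgN⟩
    have hquad : ∀ a : ↥(Q.map (MulAut.conj x).toMonoidHom),
        (twistHom Q x ⟨g, hgN⟩ a⁻¹) * a * (twistHom Q x ⟨g, hgN⟩ a⁻¹) *
          (twistHom Q x ⟨g, hgN⟩ (twistHom Q x ⟨g, hgN⟩ a)) = 1 := by
      intro a
      apply Subtype.ext
      simp only [Subgroup.coe_mul, twistHom_apply, Subgroup.coe_one, Subgroup.coe_inv]
      rw [quad_iff]
      obtain ⟨b, hb, hba⟩ := a.2
      have h1 := hcomm b⁻¹ (Q.inv_mem hb)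
      have e1 : ⁅((a : Ω))⁻¹, x * g * x⁻¹⁆ = x * ⁅b⁻¹, g⁆ * x⁻¹ := by
        rw [← hba]
        simp only [commutatorElement_def, MulEquiv.coe_toMonoidHom, MulAut.conj_apply]
        group
      rw [e1]
      calc x * ⁅b⁻¹, g⁆ * x⁻¹ * (x * g * x⁻¹) = x * (⁅b⁻¹, g⁆ * g) * x⁻¹ := by group
        _ = x * (g * ⁅b⁻¹, g⁆) * x⁻¹ := by rw [h1]
        _ = _ := by group
    have := hF _ hx _ hχ hquad
    exact (key p (P : Subgroup Ω) Q x hQ'P ⟨g, hgN⟩).mpr this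

end Cfsg.Agent.S5246
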