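-- Statement S5247 (row 5247), helper87.
import Cfsg.Statements.S5247
import Cfsg.Agent.Lib.Helper87.FusionFully
import Cfsg.Agent.Lib.Helper97.Cores

set_option autoImplicit false
open Cfsg

namespace Cfsg.Agent.S5247

open Cfsg.Agent.Lib.Helper87 Cfsg.Agent.Lib.Helper97 Cfsg.FusionSystem

variable {Ω : Type*} [Group Ω] {S : Subgroup Ω}

/-- The quadratic condition on an automorphism. -/
def Quad {Q : Type*} [Group Q] (χ : MulAut Q) : Prop :=
  ∀ a : Q, (χ a⁻¹) * a * (χ a⁻¹) * (χ (χ a)) = 1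

theorem quad_congr {Q Q' : Type*} [Group Q] [Group Q'] (e : Q ≃* Q') {χ : MulAut Q} (h : Quad χ) :
    Quad (MulAut.congr e χ) := by
  intro a'
  have h1 : ∀ x : Q', MulAut.congr e χ x = e (χ (e.symm x)) := fun x => rfl
  simp only [h1]
  have h2 := congrArg e (h (e.symm a'))
  simp only [map_mul, map_one, map_inv, MulEquiv.apply_symm_apply, MulEquiv.symm_apply_apply] at h2 ⊢
  exact h2

/-- A quadratic automorphism fixes every `a⁻¹ χ(a)`. -/
theorem quad_fix {Q : Type*} [Group Q] {χ : MulAut Q} (h : Quad χ) (a : Q) : χ (a⁻¹ * χ a) = a⁻¹ * χ a := by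
  have h1 := h a
  rw [map_mul, map_inv]
  have h2 : χ a⁻¹ * a * χ a⁻¹ * χ (χ a) = 1 := h1
  rw [map_inv] at h2
  calc (χ a)⁻¹ * χ (χ a) = a⁻¹ * χ a * ((χ a)⁻¹ * a * (χ a)⁻¹ * χ (χ a)) := by group
    _ = a⁻¹ * χ a := by rw [h2, mul_one]

/-- A quadratic automorphism of a finite group has order dividing the order of the group. -/
theorem quad_pow_card {Q : Type*} [Group Q] [Finite Q] {χ : MulAut Q} (h : Quad χ) : χ ^ Nat.card Q = 1 := by
  ext x
  have hx : χ x = x * (x⁻¹ * χ x) := by group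
  have := pow_apply_mul_pow' χ x (x⁻¹ * χ x) hx (quad_fix h x) (Nat.card Q)
  rw [this, pow_card_eq_one', mul_one]
  rfl

theorem mulAut_comm_of_cyclic {Q : Type*} [Group Q] [IsCyclic Q] (a b : MulAut Q) : a * b = b * a := by
  obtain ⟨m, hm⟩ := MonoidHom.map_cyclic (a : Q ≃* Q).toMonoidHom
  obtain ⟨n, hn⟩ := MonoidHom.map_cyclic (b : Q ≃* Q).toMonoidHom
  have ha : ∀ g : Q, a g = g ^ m := hm
  have hb : ∀ g : Q, b g = g ^ n := hn
  ext x
  rw [MulAut.mul_apply, MulAut.mul_apply, ha, hb, ha, hb, ← zpow_mul, ← zpow_mul, mul_comm]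

/-- `p`-stability of the system at the subgroup `Q`. -/
def StableAt {T : Subgroup Ω} (E : FusionSystem T) (p : ℕ) (Q : Subgroup Ω) : Prop :=
  ∀ χ : MulAut Q, χ ∈ E.autGroup Q → Quad χ →
    χ ∈ ((pCore p ↥(E.autGroup Q)).map (E.autGroup Q).subtype : Subgroup (MulAut ↥Q))

/-- Every subgroup of `S` has a fully normalized conjugate. -/
theorem exists_fullyNormalized_conj (F : FusionSystem S) [Finite S] {Q : Subgroup Ω} (hQ : Q ≤ S) :
    ∃ Q' : Subgroup Ω, F.IsConj Q Q' ∧ F.IsFullyNormalized Q' := by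
  classical
  let P : ℕ → Prop := fun n => ∃ Q', F.IsConj Q Q' ∧ Nat.card (normalizerIn S Q') = n
  have hbound : ∀ Q', Nat.card (normalizerIn S Q') ≤ Nat.card S :=
    fun Q' => Subgroup.card_le_of_le (normalizerIn_le S Q')
  have h0 : P (Nat.card (normalizerIn S Q)) := ⟨Q, isConj_refl F hQ, rfl⟩
  obtain ⟨Q', hQ', hcard⟩ := Nat.findGreatest_spec (P := P) (hbound Q) h0
  refine ⟨Q', hQ', IsConj_le_right hQ', fun Q'' hQ'' => ?_⟩
  have h1 : P (Nat.card (normalizerIn S Q'')) := ⟨Q'', IsConj_trans hQ' hQ'', rfl⟩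
  have h2 := Nat.le_findGreatest (P := P) (hbound Q'') h1
  rw [hcard]
  exact h2

/-- Stability transports along isomorphisms of the system. -/
theorem stableAt_of_iso (F : FusionSystem S) [Finite S] (p : ℕ) {Q Q' : Subgroup Ω} {e : Q ≃* Q'} (he : IsIso F e)
    (h : StableAt F p Q') : StableAt F p Q := by
  intro χ hχ hquad
  have hχ' : MulAut.congr e χ ∈ F.autGroup Q' := congr_mem_autGroup F he.symm.symm hχ
  have h1 := h _ hχ' (quad_congr e hquad)
  -- the isomorphism `Aut_F(Q) ≃* Aut_F(Q')`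
  have hmap : (F.autGroup Q).map (MulAut.congr e).toMonoidHom = F.autGroup Q' := by
    ext β
    constructor
    · rintro ⟨α, hα, rfl⟩
      exact congr_mem_autGroup F he.symm.symm hα
    · intro hβ
      refine ⟨MulAut.congr e.symm β, congr_mem_autGroup F he.symm hβ, ?_⟩
      ext y
      simp [MulAut.congr]
  let ε : F.autGroup Q ≃* F.autGroup Q' :=
    ((MulAut.congr e).subgroupMap (F.autGroup Q)).trans (MulEquiv.subgroupCongr hmap)
  have hε : ∀ x : F.autGroup Q, ((ε x : F.autGroup Q') : MulAut Q') = MulAut.congr e (x : MulAut Q) := fun x => rfl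
  have h2 := pCore_map_equiv ε p
  obtain ⟨y, hy, hyχ⟩ := h1
  rw [← h2] at hy
  obtain ⟨x, hx, rfl⟩ := hy
  refine ⟨x, hx, ?_⟩
  have h3 : MulAut.congr e (x : MulAut Q) = MulAut.congr e χ := by
    rw [← hε]
    exact hyχ
  exact (MulAut.congr e).injective h3

/-- Stability at fully normalized subgroups gives stability at all subgroups of `S`. -/
theorem stableAt_all (F : FusionSystem S) [Finite S] (p : ℕ)
    (h : ∀ Q : Subgroup Ω, F.IsFullyNormalized Q → StableAt F p Q) {Q : Subgroup Ω} (hQ : Q ≤ S) :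
    StableAt F p Q := by
  obtain ⟨Q', hconj, hfn⟩ := exists_fullyNormalized_conj F hQ
  obtain ⟨e, he⟩ := (isConj_iff F).1 hconj
  exact stableAt_of_iso F p he (h Q' hfn)

/-- The `p`-core of a subgroup contains the intersection with the `p`-core of a bigger subgroup. -/
theorem mem_pCore_map_of_le {M : Type*} [Group M] {p : ℕ} {A B : Subgroup M} (hAB : A ≤ B) {χ : M} (hχA : χ ∈ A)
    (hχ : χ ∈ ((pCore p ↥B).map B.subtype : Subgroup M)) : χ ∈ ((pCore p ↥A).map A.subtype : Subgroup M) := by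
  let K : Subgroup M := (pCore p ↥B).map B.subtype
  have hKp : IsPGroup p K := (isPGroup_pCore p ↥B).map _
  have hn : (K.subgroupOf A).Normal := by
    constructor
    intro n hn g
    rw [Subgroup.mem_subgroupOf] at hn ⊢
    obtain ⟨y, hy, hyn⟩ := hn
    have hgB : (g : M) ∈ B := hAB g.2
    have h1 : (⟨(g : M), hgB⟩ : B) * y * (⟨(g : M), hgB⟩ : B)⁻¹ ∈ pCore p ↥B :=
      (inferInstance : (pCore p ↥B).Normal).conj_mem y hy _
    refine ⟨_, h1, ?_⟩
    show (g : M) * (y : M) * (g : M)⁻¹ = _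
    have hyn' : (y : M) = (n : M) := hyn
    rw [hyn']
    rfl
  have hp : IsPGroup p (K.subgroupOf A) := hKp.comap_subtype
  have hle := le_pCore_of_normal hn hp
  have h2 : (⟨χ, hχA⟩ : A) ∈ K.subgroupOf A := Subgroup.mem_subgroupOf.2 hχ
  exact ⟨⟨χ, hχA⟩, hle h2, rfl⟩

/-- `Aut_N(Q) ≤ Aut_F(Q)` for a normalizer system `N` of `F`. -/
theorem autGroup_normalizer_le (F : FusionSystem S) {R : Subgroup Ω} (N : FusionSystem (normalizerIn S R))
    (hN : F.IsNormalizerSystem R N) {Q : Subgroup Ω} (hQ : Q ≤ normalizerIn S R) :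
    N.autGroup Q ≤ F.autGroup Q := by
  intro χ hχ
  have h1 : IsIso N (χ : Q ≃* Q) := (mem_autGroup_iff N hQ).1 hχ
  have h2 : Q.subtype.comp (χ : Q ≃* Q).toMonoidHom ∈ F.normalizerHom R Q := by
    rw [← hN Q]
    exact h1
  exact (mem_autGroup_iff F (hQ.trans (normalizerIn_le S R))).2 h2.1

theorem forward (F : FusionSystem S) [Finite S] (p : ℕ)
    (h : ∀ Q : Subgroup Ω, F.IsFullyNormalized Q → StableAt F p Q) {R : Subgroup Ω}
    (N : FusionSystem (normalizerIn S R)) (hN : F.IsNormalizerSystem R N) {Q : Subgroup Ω}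
    (hQ : N.IsFullyNormalized Q) : StableAt N p Q := by
  intro χ hχ hquad
  have hQN : Q ≤ normalizerIn S R := hQ.1
  have hQS : Q ≤ S := hQN.trans (normalizerIn_le S R)
  have hle := autGroup_normalizer_le F N hN hQN
  have h1 := stableAt_all F p h hQS χ (hle hχ) hquad
  exact mem_pCore_map_of_le hle hχ h1

/-- For the normalizer system `N` of `Q` itself: `Q` is fully normalized in `N` and `Aut_N(Q) = Aut_F(Q)`. -/
theorem self_normalizer (F : FusionSystem S) {Q : Subgroup Ω} (hQS : Q ≤ S) (N : FusionSystem (normalizerIn S Q))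
    (hN : F.IsNormalizerSystem Q N) : N.IsFullyNormalized Q ∧ N.autGroup Q = F.autGroup Q := by
  have hQN : Q ≤ normalizerIn S Q := le_normalizerIn hQS
  constructor
  · refine ⟨hQN, fun Q'' hconj => ?_⟩
    obtain ⟨φ, hφ, rfl⟩ := hconj
    rw [hN Q] at hφ
    obtain ⟨-, -, -, ψ, -, hψe, hψQ⟩ := hφ
    rw [map_subgroupOf_eq_iff] at hψQ
    have : φ.range = Q := by
      ext y
      constructor
      · rintro ⟨x, rfl⟩
        rw [← hψe x]
        exact hψQ.1 _ x.2
      · intro hy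
        obtain ⟨z, hz, hzy⟩ := hψQ.2 y hy
        refine ⟨⟨(z : Ω), hz⟩, ?_⟩
        rw [← hzy, ← hψe ⟨(z : Ω), hz⟩]
        rfl
    rw [this]
  · apply le_antisymm (autGroup_normalizer_le F N hN hQN)
    intro χ hχ
    have h1 : Q.subtype.comp (χ : Q ≃* Q).toMonoidHom ∈ F.Hom Q := (mem_autGroup_iff F hQS).1 hχ
    rw [mem_autGroup_iff N hQN]
    show Q.subtype.comp (χ : Q ≃* Q).toMonoidHom ∈ N.Hom Q
    rw [hN Q]
    have hsup : Q ⊔ Q = Q := sup_idem Q
    refine ⟨h1, hQN, fun x => hQN (χ x).2,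
      (Q.subtype.comp (χ : Q ≃* Q).toMonoidHom).comp (MulEquiv.subgroupCongr hsup).toMonoidHom,
      hom_of_eq_on F hsup.symm h1 (fun x hx hx' => rfl), fun x => rfl, ?_⟩
    rw [map_subgroupOf_eq_iff]
    constructor
    · intro x _
      exact (χ ⟨(x : Ω), hsup.le x.2⟩).2
    · intro q hq
      refine ⟨⟨((χ⁻¹ ⟨q, hq⟩ : Q) : Ω), (le_sup_left : Q ≤ Q ⊔ Q) (χ⁻¹ ⟨q, hq⟩).2⟩, (χ⁻¹ ⟨q, hq⟩).2, ?_⟩
      show ((χ (χ⁻¹ ⟨q, hq⟩) : Q) : Ω) = q
      rw [MulAut.apply_inv_self]

/-- The cyclic case: a quadratic automorphism in `Aut_F(Q)`, `Q` cyclic, lies in `O_p(Aut_F(Q))`. -/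
theorem stableAt_cyclic (F : FusionSystem S) [Finite S] {p : ℕ} [Fact p.Prime] (hS : IsPGroup p S)
    {Q : Subgroup Ω} (hQS : Q ≤ S) (hcyc : IsCyclic Q) : StableAt F p Q := by
  intro χ hχ hquad
  have hfin : Finite Q := finite_of_le hQS
  have hQp : IsPGroup p Q := hS.to_le hQS
  obtain ⟨n, hn⟩ := IsPGroup.iff_card.1 hQp
  have hpow : χ ^ p ^ n = 1 := by rw [← hn]; exact quad_pow_card hquad
  let x : F.autGroup Q := ⟨χ, hχ⟩
  let H : Subgroup (F.autGroup Q) := Subgroup.zpowers x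
  have hHn : H.Normal := by
    constructor
    intro y hy g
    have : g * y * g⁻¹ = y := by
      apply Subtype.ext
      show (g : MulAut Q) * (y : MulAut Q) * (g : MulAut Q)⁻¹ = y
      rw [mulAut_comm_of_cyclic (g : MulAut Q) (y : MulAut Q), mul_inv_cancel_right]
    rw [this]
    exact hy
  have hHp : IsPGroup p H := by
    rintro ⟨y, hy⟩
    obtain ⟨k, rfl⟩ := Subgroup.mem_zpowers_iff.1 hy
    refine ⟨n, Subtype.ext ?_⟩
    show (x ^ k) ^ p ^ n = 1
    rw [← zpow_natCast, ← zpow_mul, mul_comm, zpow_mul, zpow_natCast]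
    have : x ^ p ^ n = 1 := Subtype.ext hpow
    rw [this, one_zpow]
  exact ⟨x, le_pCore_of_normal hHn hHp (Subgroup.mem_zpowers x), rfl⟩

/-- Let p be an odd prime and F a saturated fusion system over a finite p-group S. Call a fusion system E (over any subgroup) p-stable when, for every fully E-normalized subgroup Q and every χ ∈ Aut_E(Q) with χ(a⁻¹)·a·χ(a⁻¹)·χ(χ(a)) = 1 for all a ∈ Q (χ acts quadratically), χ lies in O_p(Aut_E(Q)). Then F is p-stable if and only if every normalizer fusion system N_F(R) of every non-cyclic fully F-normalized subgroup R of S is p-stable. -/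
theorem result {Ω : Type*} [Group Ω] {S : Subgroup Ω} [Finite S] (p : ℕ) [Fact p.Prime] (hS : IsPGroup p S) (F : Cfsg.FusionSystem S) (hF : F.IsSaturated p) (hp : p ≠ 2) : (∀ Q : Subgroup Ω, F.IsFullyNormalized Q → ∀ χ : MulAut ↥Q, χ ∈ F.autGroup Q → (∀ a : ↥Q, (χ a⁻¹) * a * (χ a⁻¹) * (χ (χ a)) = 1) → χ ∈ ((Cfsg.pCore p ↥(F.autGroup Q)).map (F.autGroup Q).subtype : Subgroup (MulAut ↥Q))) ↔ ∀ R : Subgroup Ω, F.IsFullyNormalized R → ¬ IsCyclic ↥R → ∀ N : Cfsg.FusionSystem (Cfsg.FusionSystem.normalizerIn S R), F.IsNormalizerSystem R N → (∀ Q : Subgroup Ω, N.IsFullyNormalized Q → ∀ χ : MulAut ↥Q, χ ∈ N.autGroup Q → (∀ a : ↥Q, (χ a⁻¹) * a * (χ a⁻¹) * (χ (χ a)) = 1) → χ ∈ ((Cfsg.pCore p ↥(N.autGroup Q)).map (N.autGroup Q).subtype : Subgroup (MulAut ↥Q))) := by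
  constructor
  · intro h R _ _ N hN Q hQ χ hχ hquad
    exact forward F p (fun Q' hQ' χ' hχ' hq' => h Q' hQ' χ' hχ' hq') N hN hQ χ hχ hquad
  · intro h Q hQ χ hχ hquad
    have hQS : Q ≤ S := hQ.1
    by_cases hcyc : IsCyclic Q
    · exact stableAt_cyclic F hS hQS hcyc χ hχ hquad
    · obtain ⟨hfn, hEq⟩ := self_normalizer F hQS (normalizerSystem F Q hQS)
        (isNormalizerSystem_normalizerSystem F Q hQS)
      have h1 := h Q hQ hcyc (normalizerSystem F Q hQS) (isNormalizerSystem_normalizerSystem F Q hQS) Q hfn χ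
        (hEq ▸ hχ) hquad
      have h2 : ((pCore p ↥((normalizerSystem F Q hQS).autGroup Q)).map
          ((normalizerSystem F Q hQS).autGroup Q).subtype : Subgroup (MulAut ↥Q)) =
          ((pCore p ↥(F.autGroup Q)).map (F.autGroup Q).subtype : Subgroup (MulAut ↥Q)) :=
        congrArg (fun A : Subgroup (MulAut ↥Q) => ((pCore p ↥A).map A.subtype : Subgroup (MulAut ↥Q))) hEq
      rw [← h2]
      exact h1

end Cfsg.Agent.S5247
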