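import Cfsg.Statements.S5249
import Cfsg.Agent.Lib.Helper11.QdFreeQuot
-- import your own Cfsg.Agent.* helpers here

set_option autoImplicit false
open Cfsg

namespace Cfsg.Agent.S5249

open Cfsg.Agent.Lib.Helper11 Cfsg.Agent.Lib.Helper33 Cfsg.Agent.Lib.Helper51

universe u

/-- the factor system of `F_S(G)` modulo a proper strongly closed subgroup `R` has a nontrivial normal subgroup:
the image of the full preimage of `Z(J(S/R))`. -/
theorem core_ne_bot {G : Type u} [Group G] [Finite G] {p : ℕ} [Fact p.Prime] (hp : p ≠ 2)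
    (hno : ¬ InvolvesGrp ↥(Cfsg.qd p) G) (P : Sylow p G) (S : Subgroup G) (hS : S = (P : Subgroup G))
    (R : Subgroup G) (hRsc : (groupFusionSystem S).StronglyClosed R) (hRne : R ≠ S)
    [hRn : (R.subgroupOf S).Normal]
    (E : FusionSystem (⊤ : Subgroup (↥S ⧸ R.subgroupOf S)))
    (hE : (groupFusionSystem S).IsFactorSystem R (QuotientGroup.mk' (R.subgroupOf S)) E) :
    E.core ≠ ⊥ := by
  classical
  obtain ⟨hRS, hker, -, hHom⟩ := hE
  have hθs : Function.Surjective (QuotientGroup.mk' (R.subgroupOf S)) := QuotientGroup.mk'_surjective _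
  have hθeq : ∀ s t : ↥S, QuotientGroup.mk' (R.subgroupOf S) s = QuotientGroup.mk' (R.subgroupOf S) t ↔
      ((s : G))⁻¹ * (t : G) ∈ R := by
    intro s t
    rw [QuotientGroup.mk'_apply, QuotientGroup.mk'_apply, QuotientGroup.eq, Subgroup.mem_subgroupOf]
    rfl
  -- strong closure in the group sense
  have hR : IsStronglyClosed R S := by
    refine ⟨hRsc.1, ?_⟩
    intro x hx g hg
    have hzle : Subgroup.zpowers x ≤ R := (Subgroup.zpowers_le).mpr hx
    have hmem : conjHom (Subgroup.zpowers x) g ∈ (groupFusionSystem S).Hom (Subgroup.zpowers x) := by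
      refine ⟨hzle.trans hRsc.1, ?_, g, fun _ => rfl⟩
      rintro ⟨y, hy⟩
      obtain ⟨k, rfl⟩ := Subgroup.mem_zpowers_iff.mp hy
      show g * x ^ k * g⁻¹ ∈ S
      have : g * x ^ k * g⁻¹ = (g * x * g⁻¹) ^ k := by rw [conj_zpow]
      rw [this]
      exact S.zpow_mem hg k
    exact hRsc.2 (Subgroup.zpowers x) hzle _ hmem ⟨x, Subgroup.mem_zpowers x⟩
  subst hS
  obtain ⟨Z, hRZ, hZS, hZR, hSNZ, hctl⟩ := exists_control_mod_stronglyClosed hp hno P R hR hRne
  set θ := QuotientGroup.mk' (R.subgroupOf (P : Subgroup G)) with hθ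
  set Z' := (Z.subgroupOf (P : Subgroup G)).map θ with hZ'
  have hmemZ' : ∀ s : ↥(P : Subgroup G), θ s ∈ Z' ↔ (s : G) ∈ Z := by
    intro s
    constructor
    · rintro ⟨t, ht, hts⟩
      have ht : (t : G) ∈ Z := Subgroup.mem_subgroupOf.mp ht
      have h1 := (hθeq t s).mp hts
      have : (s : G) = (t : G) * (((t : G))⁻¹ * (s : G)) := by group
      rw [this]
      exact mul_mem ht (hRZ h1)
    · intro hs
      exact ⟨s, Subgroup.mem_subgroupOf.mpr hs, rfl⟩
  have hZ'ne : Z' ≠ ⊥ := by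
    intro hbot
    apply hZR
    apply le_antisymm _ hRZ
    intro z hz
    have h1 : θ ⟨z, hZS hz⟩ ∈ Z' := (hmemZ' _).mpr hz
    rw [hbot, Subgroup.mem_bot, hker] at h1
    exact h1
  have hZ'n : Z'.Normal := by
    refine ⟨fun x hx g => ?_⟩
    obtain ⟨s, rfl⟩ := hθs x
    obtain ⟨t, rfl⟩ := hθs g
    have hs := (hmemZ' s).mp hx
    have h1 : θ t * θ s * (θ t)⁻¹ = θ (t * s * t⁻¹) := by
      rw [map_mul, map_mul, map_inv]
    rw [h1, hmemZ']
    exact (Subgroup.mem_normalizer_iff.mp (hSNZ t.2) (s : G)).mp hs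
  have hnorm : E.IsNormal Z' := by
    refine ⟨le_top, ?_⟩
    intro P' φ' hφ'
    obtain ⟨-, φ, hφF, hP, hφS, hP', hind⟩ := (hHom P' φ').mp hφ'
    obtain ⟨hXS, -, g, hg⟩ := hφF
    let X : Subgroup G := FusionSystem.preimageAlong θ P'
    have hmemX : ∀ s : ↥(P : Subgroup G), (s : G) ∈ X ↔ θ s ∈ P' := by
      intro s
      constructor
      · rintro ⟨t, ht, hts⟩
        have : t = s := Subtype.ext hts
        subst this
        exact ht
      · intro h
        exact ⟨s, h, rfl⟩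
    have hRX : R ≤ X := by
      intro r hr
      have h1 : θ ⟨r, hRS hr⟩ = 1 := (hker _).mpr hr
      have h2 : ((⟨r, hRS hr⟩ : ↥(P : Subgroup G)) : G) ∈ X := by
        rw [hmemX, h1]
        exact one_mem _
      exact h2
    have hgX : ∀ x ∈ X, g * x * g⁻¹ ∈ (P : Subgroup G) := by
      intro x hx
      have := hφS ⟨x, hx⟩
      rwa [hg] at this
    obtain ⟨n, hnR, hnZ, hnY, hagree⟩ := hctl X g hRX hXS hgX
    let T' : Subgroup (↥(P : Subgroup G) ⧸ R.subgroupOf (P : Subgroup G)) := P' ⊔ Z'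
    let Y : Subgroup G := FusionSystem.preimageAlong θ T'
    have hmemY : ∀ s : ↥(P : Subgroup G), (s : G) ∈ Y ↔ θ s ∈ T' := by
      intro s
      constructor
      · rintro ⟨t, ht, hts⟩
        have : t = s := Subtype.ext hts
        subst this
        exact ht
      · intro h
        exact ⟨s, h, rfl⟩
    have hYS : Y ≤ (P : Subgroup G) := by
      rintro _ ⟨s, -, rfl⟩
      exact s.2
    have hYXZ : Y ≤ X ⊔ Z := by
      rintro _ ⟨s, hs, rfl⟩
      have hs' : θ s ∈ P' ⊔ Z' := hs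
      obtain ⟨a, ha, b, hb, hab⟩ := exists_mul_of_mem_sup_normal hs'
      obtain ⟨s₁, rfl⟩ := hθs a
      obtain ⟨s₂, rfl⟩ := hθs b
      have h1 : (s₁ : G) ∈ X := (hmemX s₁).mpr ha
      have h2 : (s₂ : G) ∈ Z := (hmemZ' s₂).mp hb
      rw [← map_mul] at hab
      have h3 := (hθeq _ _).mp hab.symm
      have h4 : (((s₁ * s₂ : ↥(P : Subgroup G)) : G))⁻¹ * (s : G) ∈ Z := hRZ h3
      have e : (s : G) = (s₁ : G) * ((s₂ : G) * ((((s₁ * s₂ : ↥(P : Subgroup G)) : G))⁻¹ * (s : G))) := by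
        rw [Subgroup.coe_mul]
        group
      show (s : G) ∈ X ⊔ Z
      rw [e]
      exact Subgroup.mul_mem_sup h1 (mul_mem h2 h4)
    have hnYS : ∀ y ∈ Y, n * y * n⁻¹ ∈ (P : Subgroup G) := fun y hy => hnY y (hYXZ hy)
    have hψ₀ : conjHom Y n ∈ (groupFusionSystem (P : Subgroup G)).Hom Y :=
      ⟨hYS, fun y => hnYS y y.2, n, fun _ => rfl⟩
    -- the induced homomorphism on `T'`
    let C : Subgroup ↥(P : Subgroup G) := T'.comap θ
    let f₁ : ↥C →* ↥T' := θ.subgroupComap T'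
    have hf₁ : Function.Surjective f₁ := θ.subgroupComap_surjective_of_surjective T' hθs
    have hCY : ∀ c : ↥C, ((c : ↥(P : Subgroup G)) : G) ∈ Y := fun c => ⟨c.1, c.2, rfl⟩
    let c₁ : ↥C →* ↥(P : Subgroup G) :=
      ((MulAut.conj n).toMonoidHom.comp ((P : Subgroup G).subtype.comp C.subtype)).codRestrict
        (P : Subgroup G) (fun c => hnYS _ (hCY c))
    have hc₁ : ∀ c : ↥C, ((c₁ c : ↥(P : Subgroup G)) : G) = n * ((c : ↥(P : Subgroup G)) : G) * n⁻¹ :=
      fun c => rfl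
    have hker' : f₁.ker ≤ (θ.comp c₁).ker := by
      intro c hc
      rw [MonoidHom.mem_ker] at hc ⊢
      have h1 : θ (c : ↥(P : Subgroup G)) = 1 := congrArg Subtype.val hc
      have h2 : ((c : ↥(P : Subgroup G)) : G) ∈ R := (hker _).mp h1
      show θ (c₁ c) = 1
      rw [hker, hc₁]
      exact (Subgroup.mem_normalizer_iff.mp hnR _).mp h2
    let ψ : ↥T' →* (↥(P : Subgroup G) ⧸ R.subgroupOf (P : Subgroup G)) :=
      f₁.liftOfSurjective hf₁ ⟨θ.comp c₁, hker'⟩
    have hψ : ∀ c : ↥C, ψ (f₁ c) = θ (c₁ c) := fun c =>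
      f₁.liftOfRightInverse_comp_apply _ _ ⟨θ.comp c₁, hker'⟩ c
    have hψE : ψ ∈ E.Hom T' := by
      rw [hHom]
      refine ⟨le_top, conjHom Y n, hψ₀, hYS, fun y => hnYS y y.2,
        fun y => (hmemY ⟨y, hYS y.2⟩).mp y.2, ?_⟩
      intro y
      have hc : (⟨y, hYS y.2⟩ : ↥(P : Subgroup G)) ∈ C := (hmemY _).mp y.2
      exact hψ ⟨⟨y, hYS y.2⟩, hc⟩
    refine ⟨ψ, hψE, ?_, ?_⟩
    · rintro ⟨x'v, hx'⟩
      obtain ⟨s, rfl⟩ := hθs x'v
      have hsX : (s : G) ∈ X := (hmemX s).mpr hx'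
      have hsC : s ∈ C := show θ s ∈ T' from (le_sup_left : P' ≤ T') hx'
      have h3 : θ ⟨φ ⟨(s : G), hsX⟩, hφS _⟩ = θ (c₁ ⟨s, hsC⟩) := by
        rw [hθeq]
        show (φ ⟨(s : G), hsX⟩)⁻¹ * ((c₁ ⟨s, hsC⟩ : ↥(P : Subgroup G)) : G) ∈ R
        rw [hg, hc₁]
        exact hagree _ hsX
      calc ψ (Subgroup.inclusion le_sup_left ⟨θ s, hx'⟩) = ψ (f₁ ⟨s, hsC⟩) := rfl
        _ = θ (c₁ ⟨s, hsC⟩) := hψ _
        _ = θ ⟨φ ⟨(s : G), hsX⟩, hφS _⟩ := h3.symm
        _ = φ' ⟨θ s, hx'⟩ := (hind ⟨(s : G), hsX⟩).symm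
    · have hle : (Z'.subgroupOf T').map ψ ≤ Z' := by
        rintro _ ⟨⟨tv, ht⟩, htZ, rfl⟩
        have htZ' : tv ∈ Z' := Subgroup.mem_subgroupOf.mp htZ
        obtain ⟨s, rfl⟩ := hθs tv
        have hsZ : (s : G) ∈ Z := (hmemZ' s).mp htZ'
        have hsC : s ∈ C := ht
        have e : ψ ⟨θ s, ht⟩ = θ (c₁ ⟨s, hsC⟩) := hψ ⟨s, hsC⟩
        rw [e, hmemZ', hc₁]
        exact (Subgroup.mem_normalizer_iff.mp hnZ _).mp hsZ
      apply Subgroup.eq_of_le_of_card_ge hle
      have hinj : Function.Injective ψ := E.injective_of_mem hψE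
      rw [Subgroup.card_map_of_injective hinj]
      exact (Nat.card_congr (Subgroup.subgroupOfEquivOfLe (le_sup_right : Z' ≤ T')).toEquiv).ge
  intro hcore
  apply hZ'ne
  rw [eq_bot_iff, ← hcore]
  exact le_sSup hnorm

/-- Let p be an odd prime, G a finite group in which Qd(p) (the natural semidirect product of an elementary abelian group of order p² by SL₂(p)) is not involved, and P a Sylow p-subgroup of G. Then the fusion system of G on P is a solvable fusion system. -/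
theorem result {G : Type*} [Group G] [Finite G] {p : ℕ} [Fact p.Prime] (hp : p ≠ 2) (hqd : ¬ Cfsg.Involves ↥(Cfsg.qd p) G) (P : Sylow p G) : (Cfsg.groupFusionSystem (P : Subgroup G)).IsSolvableSystem := by
  have hno : ¬ InvolvesGrp ↥(Cfsg.qd p) G := fun h => hqd (involvesGrp_iff_involves.mp h)
  intro R hRsc hRne hRn E hE
  exact core_ne_bot hp hno P _ rfl R hRsc hRne E hE

end Cfsg.Agent.S5249
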