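import Cfsg.Statements.S5251
import Cfsg.Agent.Lib.Helper87.FusionLift
import Cfsg.Agent.Lib.Helper87.FusionFully
import Cfsg.Agent.Lib.Helper97.Cores
-- import your own Cfsg.Agent.* helpers here

set_option autoImplicit false
open Cfsg

namespace Cfsg.Agent.S5251

open Cfsg.FusionSystem Cfsg.Agent.Lib.Helper87 Cfsg.Agent.Lib.Helper97

variable {Ω : Type*} [Group Ω] {S : Subgroup Ω}

/-- The chain `R ≥ R ∩ T ≥ 1`. -/
def chain3 (R T : Subgroup Ω) : ℕ → Subgroup R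
  | 0 => ⊤
  | 1 => T.subgroupOf R
  | _ => ⊥

/-- An automorphism in `Aut_F(R)` that is trivial on `R ∩ T` and on `R/(R ∩ T)`, `T` strongly closed, lies in
`O_p(Aut_F(R))`. -/
theorem mem_pCore_of_stab (F : FusionSystem S) [Finite S] {p : ℕ} [Fact p.Prime] (hS : IsPGroup p S)
    {T : Subgroup Ω} (hT : F.StronglyClosed T) {R : Subgroup Ω} (hRS : R ≤ S) (α : MulAut R)
    (hα : α ∈ F.autGroup R) (h1 : ∀ r : R, (r : Ω) ∈ T → α r = r)
    (h2 : ∀ r : R, (r : Ω)⁻¹ * ((α r : R) : Ω) ∈ T) :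
    α ∈ ((pCore p ↥(F.autGroup R)).map (F.autGroup R).subtype : Subgroup (MulAut R)) := by
  have hfin : Finite R := finite_of_le hRS
  have hRp : IsPGroup p R := hS.to_le hRS
  have hinv : ∀ j ≤ 2, ∀ β ∈ F.autGroup R, ∀ x ∈ chain3 R T j, β x ∈ chain3 R T j := by
    intro j hj β hβ x hx
    match j, hx with
    | 0, _ => exact Subgroup.mem_top _
    | 1, hx =>
      show β x ∈ T.subgroupOf R
      rw [Subgroup.mem_subgroupOf]
      exact StronglyClosed_aut_mem hT hRS hβ (Subgroup.mem_subgroupOf.1 hx)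
    | (n + 2), hx =>
      have hx' : x ∈ (⊥ : Subgroup R) := hx
      rw [Subgroup.mem_bot] at hx'
      show β x ∈ (⊥ : Subgroup R)
      rw [hx', map_one]
      exact Subgroup.one_mem _
  let K := chainStab (F.autGroup R) 2 (chain3 R T) hinv
  have hKp : IsPGroup p K := chainStab_isPGroup hRp (F.autGroup R) 2 (chain3 R T) rfl rfl hinv
  have hαK : α ∈ K := by
    refine ⟨hα, fun j hj r hr => ?_⟩
    match j, hj, hr with
    | 0, _, _ =>
      show r⁻¹ * α r ∈ T.subgroupOf R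
      rw [Subgroup.mem_subgroupOf]
      exact h2 r
    | 1, _, hr =>
      show r⁻¹ * α r ∈ (⊥ : Subgroup R)
      have hrT : (r : Ω) ∈ T := Subgroup.mem_subgroupOf.1 hr
      rw [h1 r hrT, inv_mul_cancel]
      exact Subgroup.one_mem _
  have hn : (K.subgroupOf (F.autGroup R)).Normal := by
    constructor
    intro n hn g
    rw [Subgroup.mem_subgroupOf] at hn ⊢
    exact chainStab_conj_mem (F.autGroup R) 2 (chain3 R T) hinv g.2 hn
  have hp : IsPGroup p (K.subgroupOf (F.autGroup R)) := hKp.comap_subtype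
  have hle := le_pCore_of_normal hn hp
  have h3 : (⟨α, hα⟩ : F.autGroup R) ∈ K.subgroupOf (F.autGroup R) := Subgroup.mem_subgroupOf.2 hαK
  exact ⟨⟨α, hα⟩, hle h3, rfl⟩

/-- If `M ≤ S` is normalized by `R ≤ S` and not contained in `R`, some element of `M` outside `R` normalizes `R`. -/
theorem exists_mem_normalizer_not_mem'' [Finite S] {p : ℕ} [Fact p.Prime] (hS : IsPGroup p S)
    {M R : Subgroup Ω} (hMS : M ≤ S) (hRS : R ≤ S) (hMn : ∀ g ∈ R, ∀ x ∈ M, g * x * g⁻¹ ∈ M) (hMR : ¬ M ≤ R) :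
    ∃ x ∈ M, x ∈ Subgroup.normalizer (R : Set Ω) ∧ x ∉ R := by
  have hle : M ⊔ R ≤ S := sup_le hMS hRS
  have hfin : Finite ↥(M ⊔ R) := finite_of_le hle
  have hp : IsPGroup p ↥(M ⊔ R) := hS.to_le hle
  have hne : R ≠ M ⊔ R := by
    intro h
    apply hMR
    rw [h]
    exact le_sup_left
  obtain ⟨y, hyN, hyR⟩ := exists_mem_normalizerIn_not_mem hp (le_sup_right : R ≤ M ⊔ R) hne
  obtain ⟨m, hm, r, hr, rfl⟩ := exists_mul_of_mem_sup (fun k hk h hh => hMn k hk h hh) hyN.1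
  refine ⟨m, hm, ?_, ?_⟩
  · have h1 : m = (m * r) * r⁻¹ := by group
    rw [h1]
    exact Subgroup.mul_mem _ hyN.2 (Subgroup.inv_mem _ (Subgroup.le_normalizer hr))
  · intro hmR
    exact hyR (R.mul_mem hmR hr)

/-- Let F be a saturated fusion system over a finite p-group S, E a normal subsystem of F over T, and P an F-centric subgroup of S such that P ∩ T is not E-centric. Then some F-conjugate P* of P satisfies Out_S(P*) ∩ O_p(Out_F(P*)) ≠ 1: there is an element of N_S(P*) outside P* whose conjugation action on P* lies in O_p(Aut_F(P*)). In particular P is not both centric and radical in F. -/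
theorem result {Ω : Type*} [Group Ω] {S : Subgroup Ω} [Finite S] (p : ℕ) [Fact p.Prime] (hS : IsPGroup p S) (F : Cfsg.FusionSystem S) (hF : F.IsSaturated p) {T : Subgroup Ω} (E : Cfsg.FusionSystem T) (hE : E.IsNormalIn F p) (P : Subgroup Ω) (hP : F.IsCentric P) (hPT : ¬ E.IsCentric (P ⊓ T)) : (∃ φ ∈ F.Hom P, ∃ x ∈ S ⊓ Subgroup.normalizer (φ.range : Set Ω), x ∉ φ.range ∧ ∃ α ∈ ((Cfsg.pCore p ↥(F.autGroup φ.range)).map (F.autGroup φ.range).subtype : Subgroup (MulAut ↥φ.range)), ∀ y : ↥φ.range, ((α y : ↥φ.range) : Ω) = x * (y : Ω) * x⁻¹) ∧ ¬ F.IsRadical p P := by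
  have hsub : E.IsSubsystemOf F := hE.1.2.2.1
  have hT : F.StronglyClosed T := hE.1.2.2.2.1
  have hPS : P ≤ S := hP.1
  have hTS : T ≤ S := hT.1
  have hQS : P ⊓ T ≤ S := inf_le_left.trans hPS
  -- a conjugate of `P ⊓ T` in `T` that does not contain its centralizer
  obtain ⟨Q₀, hQ₀conjE, hQ₀c⟩ : ∃ Q₀, E.IsConj (P ⊓ T) Q₀ ∧ ¬ centralizerIn T Q₀ ≤ Q₀ := by
    by_contra hcon
    apply hPT
    refine ⟨inf_le_right, fun Q hQ => ?_⟩
    by_contra hc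
    exact hcon ⟨Q, hQ, hc⟩
  have hQ₀conj : F.IsConj (P ⊓ T) Q₀ := by
    obtain ⟨φ, hφ, hr⟩ := hQ₀conjE
    exact ⟨φ, hsub _ hφ, hr⟩
  obtain ⟨c₀, hc₀, hc₀Q⟩ := SetLike.not_le_iff_exists.1 hQ₀c
  -- a fully automized receptive conjugate `R`
  obtain ⟨R, hQR, hRa, hRr⟩ := hF (P ⊓ T) hQS
  have hRS : R ≤ S := hRa.1
  obtain ⟨ψ₁, e₁, hψ₁, he₁, hψ₁e⟩ := exists_extension F hS hRa hRr hQR
  have hQ₀R : F.IsConj Q₀ R := IsConj_trans (IsConj_symm hQ₀conj) hQR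
  have hQ₀S : Q₀ ≤ S := IsConj_le_left hQ₀R
  obtain ⟨ψ₀, e₀, hψ₀, he₀, hψ₀e⟩ := exists_extension F hS hRa hRr hQ₀R
  -- the element `d ∈ C_T(R) ∖ R`
  have hc₀S : c₀ ∈ centralizerIn S Q₀ := ⟨hTS hc₀.1, hc₀.2⟩
  have hc₀N : c₀ ∈ normalizerIn S Q₀ := centralizerIn_le_normalizerIn S Q₀ hc₀S
  have hd1 : ψ₀ ⟨c₀, hc₀N⟩ ∈ centralizerIn S R :=
    map_mem_centralizerIn F hQ₀S hψ₀ e₀ hψ₀e ⟨c₀, hc₀N⟩ hc₀S
  have hd2 : ψ₀ ⟨c₀, hc₀N⟩ ∈ T := StronglyClosed_map_mem hT hψ₀ (x := ⟨c₀, hc₀N⟩) hc₀.1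
  have hd3 : ψ₀ ⟨c₀, hc₀N⟩ ∉ R := by
    intro hmem
    have h1 : ψ₀ ⟨c₀, hc₀N⟩ = ψ₀ ⟨(e₀.symm ⟨_, hmem⟩ : Q₀), le_normalizerIn hQ₀S (e₀.symm ⟨_, hmem⟩).2⟩ := by
      rw [hψ₀e _ (e₀.symm ⟨_, hmem⟩).2]
      simp
    have h2 := F.injective_of_mem hψ₀ h1
    have h3 : c₀ = ((e₀.symm ⟨_, hmem⟩ : Q₀) : Ω) := congrArg (fun z : normalizerIn S Q₀ => (z : Ω)) h2
    apply hc₀Q
    rw [h3]
    exact (e₀.symm ⟨_, hmem⟩).2
  -- the conjugate `P* = ψ₁(P)`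
  have hPN : P ≤ normalizerIn S (P ⊓ T) := by
    intro g hg
    refine ⟨hPS hg, ?_⟩
    show g ∈ Subgroup.normalizer ((P ⊓ T : Subgroup Ω) : Set Ω)
    rw [Subgroup.mem_normalizer_iff]
    intro h
    constructor
    · rintro ⟨h1, h2⟩
      exact ⟨P.mul_mem (P.mul_mem hg h1) (P.inv_mem hg), StronglyClosed_conj_mem hT (hPS hg) h2⟩
    · rintro ⟨h1, h2⟩
      have e : h = g⁻¹ * (g * h * g⁻¹) * g⁻¹⁻¹ := by group
      rw [e]
      exact ⟨P.mul_mem (P.mul_mem (P.inv_mem hg) h1) (P.inv_mem (P.inv_mem hg)),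
        StronglyClosed_conj_mem hT (S.inv_mem (hPS hg)) h2⟩
  have hφ : ψ₁.comp (Subgroup.inclusion hPN) ∈ F.Hom P := restrict_mem F hψ₁ hPN
  set φ : P →* Ω := ψ₁.comp (Subgroup.inclusion hPN) with hφdef
  have hφS : φ.range ≤ S := hom_range_le F hφ
  -- `P* ⊓ T = R`
  have hR_le : R ≤ φ.range := by
    intro r hr
    refine ⟨⟨(e₁.symm ⟨r, hr⟩ : ↥(P ⊓ T)), (e₁.symm ⟨r, hr⟩).2.1⟩, ?_⟩
    show ψ₁ ⟨(e₁.symm ⟨r, hr⟩ : ↥(P ⊓ T)), _⟩ = r
    rw [hψ₁e _ (e₁.symm ⟨r, hr⟩).2]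
    simp
  have hR_T : R ≤ T := by
    intro r hr
    have h1 : ψ₁ ⟨(e₁.symm ⟨r, hr⟩ : ↥(P ⊓ T)), le_normalizerIn hQS (e₁.symm ⟨r, hr⟩).2⟩ = r := by
      rw [hψ₁e _ (e₁.symm ⟨r, hr⟩).2]
      simp
    rw [← h1]
    exact StronglyClosed_map_mem hT hψ₁ (e₁.symm ⟨r, hr⟩).2.2
  have hPT_R : ∀ z ∈ φ.range, z ∈ T → z ∈ R := by
    rintro _ ⟨y, rfl⟩ hz
    have hyT : (y : Ω) ∈ T := StronglyClosed_mem_of_map_mem hT hφ hz
    have h1 : φ y = e₁ ⟨(y : Ω), ⟨y.2, hyT⟩⟩ := hψ₁e _ ⟨y.2, hyT⟩ _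
    rw [h1]
    exact (e₁ _).2
  -- `P*` normalizes `C_T(R)`
  have hMn : ∀ g ∈ φ.range, ∀ m ∈ centralizerIn T R, g * m * g⁻¹ ∈ centralizerIn T R := by
    intro g hg m hm
    refine ⟨StronglyClosed_conj_mem hT (hφS hg) hm.1, ?_⟩
    show g * m * g⁻¹ ∈ Subgroup.centralizer (R : Set Ω)
    rw [Subgroup.mem_centralizer_iff]
    intro r hr
    have hr' : g⁻¹ * r * g⁻¹⁻¹ ∈ R := by
      apply hPT_R
      · exact Subgroup.mul_mem _ (Subgroup.mul_mem _ (Subgroup.inv_mem _ hg) (hR_le hr))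
          (Subgroup.inv_mem _ (Subgroup.inv_mem _ hg))
      · exact StronglyClosed_conj_mem hT (S.inv_mem (hφS hg)) (hR_T hr)
    have h1 := (Subgroup.mem_centralizer_iff.1 hm.2) _ hr'
    calc r * (g * m * g⁻¹) = g * ((g⁻¹ * r * g⁻¹⁻¹) * m) * g⁻¹ := by group
      _ = g * (m * (g⁻¹ * r * g⁻¹⁻¹)) * g⁻¹ := by rw [h1]
      _ = g * m * g⁻¹ * r := by group
  have hMS : centralizerIn T R ≤ S := inf_le_left.trans hTS
  have hMnot : ¬ centralizerIn T R ≤ φ.range := by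
    intro hle
    have hd : ψ₀ ⟨c₀, hc₀N⟩ ∈ centralizerIn T R := ⟨hd2, hd1.2⟩
    exact hd3 (hPT_R _ (hle hd) hd2)
  obtain ⟨x, hxM, hxN, hxP⟩ := exists_mem_normalizer_not_mem'' hS hMS hφS hMn hMnot
  have hxS : x ∈ S := hMS hxM
  have hαS : conjAut φ.range x hxN ∈ autInducedBy S φ.range :=
    mem_autInducedBy_iff.2 ⟨x, hxS, fun y => rfl⟩
  have hαF : conjAut φ.range x hxN ∈ F.autGroup φ.range := autInducedBy_le_autGroup F hφS hαS
  have hα1 : ∀ r : φ.range, (r : Ω) ∈ T → conjAut φ.range x hxN r = r := by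
    intro r hr
    apply Subtype.ext
    rw [conjAut_apply]
    have h1 := (Subgroup.mem_centralizer_iff.1 hxM.2) _ (hPT_R _ r.2 hr)
    rw [← h1]
    group
  have hα2 : ∀ r : φ.range, (r : Ω)⁻¹ * ((conjAut φ.range x hxN r : φ.range) : Ω) ∈ T := by
    intro r
    rw [conjAut_apply]
    have h1 : (r : Ω)⁻¹ * x * ((r : Ω)⁻¹)⁻¹ ∈ T :=
      StronglyClosed_conj_mem hT (S.inv_mem (hφS r.2)) hxM.1
    have e : (r : Ω)⁻¹ * (x * r * x⁻¹) = ((r : Ω)⁻¹ * x * ((r : Ω)⁻¹)⁻¹) * x⁻¹ := by group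
    rw [e]
    exact T.mul_mem h1 (T.inv_mem hxM.1)
  have hαcore := mem_pCore_of_stab F hS hT hφS _ hαF hα1 hα2
  refine ⟨⟨φ, hφ, x, ⟨hxS, hxN⟩, hxP, conjAut φ.range x hxN, hαcore, fun y => rfl⟩, ?_⟩
  -- `P` is not radical
  intro hrad
  have he : IsIso F (MonoidHom.ofInjective (F.injective_of_mem hφ)) := isIso_ofInjective F hφ
  set e : P ≃* φ.range := MonoidHom.ofInjective (F.injective_of_mem hφ) with hedef
  have heφ : ∀ y : P, ((e y : φ.range) : Ω) = φ y := fun y => rfl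
  have hα'F : MulAut.congr e.symm (conjAut φ.range x hxN) ∈ F.autGroup P :=
    congr_mem_autGroup F he.symm hαF
  have hα'apply : ∀ r : P, MulAut.congr e.symm (conjAut φ.range x hxN) r =
      e.symm (conjAut φ.range x hxN (e r)) := fun r => rfl
  have hα'1 : ∀ r : P, (r : Ω) ∈ T → MulAut.congr e.symm (conjAut φ.range x hxN) r = r := by
    intro r hr
    rw [hα'apply, hα1 (e r) (by rw [heφ]; exact StronglyClosed_map_mem hT hφ hr)]
    simp
  have hα'2 : ∀ r : P, (r : Ω)⁻¹ * ((MulAut.congr e.symm (conjAut φ.range x hxN) r : P) : Ω) ∈ T := by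
    intro r
    rw [hα'apply]
    have h1 := hα2 (e r)
    -- `t = (e r)⁻¹ * α (e r) ∈ P*`, in `T`
    have h2 : e.symm (conjAut φ.range x hxN (e r)) = r * e.symm ((e r)⁻¹ * conjAut φ.range x hxN (e r)) := by
      rw [map_mul, map_inv, MulEquiv.symm_apply_apply]
      group
    rw [h2]
    have h3 : ((e.symm ((e r)⁻¹ * conjAut φ.range x hxN (e r)) : P) : Ω) ∈ T := by
      apply StronglyClosed_mem_of_map_mem hT hφ
      rw [← heφ, MulEquiv.apply_symm_apply]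
      exact h1
    have e4 : (r : Ω)⁻¹ * ((r * e.symm ((e r)⁻¹ * conjAut φ.range x hxN (e r)) : P) : Ω) =
        ((e.symm ((e r)⁻¹ * conjAut φ.range x hxN (e r)) : P) : Ω) := by
      rw [Subgroup.coe_mul]
      group
    rw [e4]
    exact h3
  have hα'core := mem_pCore_of_stab F hS hT hPS _ hα'F hα'1 hα'2
  rw [hrad.2] at hα'core
  obtain ⟨z, hz⟩ := hα'core
  -- `α = c_{e z}` on `P*`
  have hkey : ∀ y : φ.range, x * (y : Ω) * x⁻¹ = ((e z : φ.range) : Ω) * (y : Ω) * ((e z : φ.range) : Ω)⁻¹ := by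
    intro y
    have h1 : MulAut.congr e.symm (conjAut φ.range x hxN) (e.symm y) = MulAut.conj z (e.symm y) := by
      rw [hz]
    rw [hα'apply, MulEquiv.apply_symm_apply, MulAut.conj_apply] at h1
    have h2 := congrArg e h1
    rw [MulEquiv.apply_symm_apply, map_mul, map_mul, map_inv, MulEquiv.apply_symm_apply] at h2
    have h3 := congrArg (fun w : φ.range => (w : Ω)) h2
    simpa [conjAut_apply] using h3
  have hconjP : F.IsConj P φ.range := ⟨φ, hφ, rfl⟩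
  have hcent := hP.2 φ.range hconjP
  have hmem : ((e z : φ.range) : Ω)⁻¹ * x ∈ centralizerIn S φ.range := by
    refine ⟨S.mul_mem (S.inv_mem (hφS (e z).2)) hxS, ?_⟩
    show _ ∈ Subgroup.centralizer (φ.range : Set Ω)
    rw [Subgroup.mem_centralizer_iff]
    intro y hy
    have h1 := hkey ⟨y, hy⟩
    have h1' : x * y * x⁻¹ = ((e z : φ.range) : Ω) * y * ((e z : φ.range) : Ω)⁻¹ := h1
    calc y * (((e z : φ.range) : Ω)⁻¹ * x)
        = ((e z : φ.range) : Ω)⁻¹ * (((e z : φ.range) : Ω) * y * ((e z : φ.range) : Ω)⁻¹) * x := by group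
      _ = ((e z : φ.range) : Ω)⁻¹ * (x * y * x⁻¹) * x := by rw [h1']
      _ = ((e z : φ.range) : Ω)⁻¹ * x * y := by group
  have hfin := hcent hmem
  apply hxP
  have e5 : x = ((e z : φ.range) : Ω) * (((e z : φ.range) : Ω)⁻¹ * x) := by group
  rw [e5]
  exact Subgroup.mul_mem _ (e z).2 hfin

end Cfsg.Agent.S5251
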