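import Cfsg.Statements.S5252
import Cfsg.Agent.Lib.Helper87.FocalLt
import Cfsg.Agent.Lib.Helper33.KInfFunctor
import Cfsg.Agent.S1993
import Cfsg.Agent.S5197
-- import your own Cfsg.Agent.* helpers here

set_option autoImplicit false
open Cfsg

namespace Cfsg.Agent.S5252

open Cfsg.FusionSystem Cfsg.Agent.Lib.Helper87

universe u

/-- The local transfer condition of S5197 for the upper K-infinity functor, `p ≥ 5` (from S1993). -/
theorem hT_kInfUpper {p : ℕ} [Fact p.Prime] (hp : 5 ≤ p) (G : Type u) [Group G] [Finite G] (P : Sylow p G) :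
    Cfsg.pCore p G ⊓ commutator G = Cfsg.pCore p G ⊓ (commutator ↥(Subgroup.normalizer (((Cfsg.kInfUpper ↥(P : Subgroup G)).map (P : Subgroup G).subtype : Subgroup G) : Set G))).map (Subgroup.normalizer (((Cfsg.kInfUpper ↥(P : Subgroup G)).map (P : Subgroup G).subtype : Subgroup G) : Set G)).subtype := by
  have h1 := (Cfsg.Agent.S1993.result P).1 hp
  have hOP : Cfsg.pCore p G ≤ (P : Subgroup G) := Cfsg.Agent.Lib.Helper97.pCore_le_sylow' P
  have h2 : (commutator ↥(Subgroup.normalizer (((Cfsg.kInfUpper ↥(P : Subgroup G)).map (P : Subgroup G).subtype : Subgroup G) : Set G))).map (Subgroup.normalizer (((Cfsg.kInfUpper ↥(P : Subgroup G)).map (P : Subgroup G).subtype : Subgroup G) : Set G)).subtype =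
      ⁅Subgroup.normalizer (((Cfsg.kInfUpper ↥(P : Subgroup G)).map (P : Subgroup G).subtype : Subgroup G) : Set G), Subgroup.normalizer (((Cfsg.kInfUpper ↥(P : Subgroup G)).map (P : Subgroup G).subtype : Subgroup G) : Set G)⁆ := by
    rw [commutator_def, Subgroup.map_commutator, ← MonoidHom.range_eq_map, Subgroup.range_subtype]
  rw [h2]
  have h3 : Cfsg.pCore p G ⊓ commutator G = Cfsg.pCore p G ⊓ ((P : Subgroup G) ⊓ commutator G) := by
    rw [← inf_assoc, inf_of_le_left hOP]
  rw [h3, h1, ← inf_assoc, inf_of_le_left hOP]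
  rfl

/-- Let p ≥ 5 be a prime and F a saturated fusion system over a nontrivial finite p-group S such that Aut_F(S) is a p-group. Then the focal subgroup of F is a proper subgroup of S. -/
theorem result {Ω : Type*} [Group Ω] {S : Subgroup Ω} [Finite S] (p : ℕ) [Fact p.Prime] (hS : IsPGroup p S) (F : Cfsg.FusionSystem S) (hF : F.IsSaturated p) (hp : 5 ≤ p) (hS1 : S ≠ ⊥) (haut : IsPGroup p ↥(F.autGroup S)) : F.focalSubgroup < S := by
  have hW := Cfsg.Agent.Lib.Helper33.isCharPFunctor_kInfUpper p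
  refine focal_lt_of_controls (fun Q _ => Cfsg.kInfUpper Q) hW ?_ (Nat.card S) rfl hS F hF hS1 haut
  intro Ω' _ S' _ hS' F' hF' N hN
  exact Cfsg.Agent.S5197.result (fun Q _ => Cfsg.kInfUpper Q) hW.1 hW.2
    (fun G _ _ P _ => hT_kInfUpper hp G P) hS' F' hF' N hN

end Cfsg.Agent.S5252
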