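import Cfsg.Statements.S5254
import Cfsg.Agent.Lib.Helper87.OliverIndexP
-- import your own Cfsg.Agent.* helpers here

set_option autoImplicit false
open Cfsg

namespace Cfsg.Agent.S5254

open Cfsg.FusionSystem Cfsg.Agent.Lib.Helper87

/-- Let p be an odd prime, S a finite nonabelian p-group with a unique abelian subgroup A of index p, and F a saturated fusion system over S. Then every F-essential subgroup P is A, or Z(S)⟨x⟩ for some x ∈ S outside A, or (when the second centre Z₂(S) lies in A) Z₂(S)⟨x⟩ for some x ∈ S outside A; and P has index p in its normalizer in S. -/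
theorem result {Ω : Type*} [Group Ω] {S : Subgroup Ω} [Finite S] (p : ℕ) [Fact p.Prime] (hS : IsPGroup p S) (F : Cfsg.FusionSystem S) (hF : F.IsSaturated p) (hp : p ≠ 2) (hna : ¬ IsMulCommutative ↥S) (A : Subgroup Ω) (hA : A ≤ S ∧ IsMulCommutative ↥A ∧ (A.subgroupOf S).index = p) (huniq : ∀ B : Subgroup Ω, B ≤ S → IsMulCommutative ↥B → (B.subgroupOf S).index = p → B = A) (P : Subgroup Ω) (hP : F.IsEssential p P) : (P = A ∨ (∃ x ∈ S, x ∉ A ∧ P = (S ⊓ Subgroup.centralizer (S : Set Ω)) ⊔ Subgroup.zpowers x) ∨ (((upperCentralSeries ↥S 2).map S.subtype) ≤ A ∧ ∃ x ∈ S, x ∉ A ∧ P = ((upperCentralSeries ↥S 2).map S.subtype) ⊔ Subgroup.zpowers x)) ∧ (P.subgroupOf (S ⊓ Subgroup.normalizer (P : Set Ω))).index = p := by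
  obtain ⟨hAS, hAc, hAi⟩ := hA
  have hdata : IndexPData p S A := by
    refine ⟨hS, hAS, fun a ha b hb => ?_, hAi, ?_⟩
    · exact congrArg Subtype.val (hAc.is_comm.comm (⟨a, ha⟩ : A) ⟨b, hb⟩)
    · by_contra hcon
      push Not at hcon
      apply hna
      exact ⟨⟨fun a b => Subtype.ext (hcon a a.2 b b.2)⟩⟩
  have hPS : P ≤ S := hP.1.1
  by_cases hPA : P = A
  · refine ⟨Or.inl hPA, ?_⟩
    subst hPA
    have hSN : S ≤ Subgroup.normalizer (P : Set Ω) := by
      intro g hg
      rw [Subgroup.mem_normalizer_iff]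
      intro a
      constructor
      · intro ha
        exact hdata.conj_mem hg ha
      · intro ha
        have := hdata.conj_mem (S.inv_mem hg) ha
        have e : g⁻¹ * (g * a * g⁻¹) * g⁻¹⁻¹ = a := by group
        rwa [e] at this
    rw [inf_eq_left.2 hSN]
    exact hAi
  · refine ⟨Or.inr ?_, hdata.essential_index F hF hP hPA⟩
    have hnle := (hdata.essential_key F hF hP hPA).1
    obtain ⟨x, hxP, hxA⟩ := SetLike.not_le_iff_exists.1 hnle
    have hPeq := hdata.eq_sup hPS hxP hxA
    by_cases hab : ∀ y ∈ P, ∀ z ∈ P, y * z = z * y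
    · left
      refine ⟨x, hPS hxP, hxA, ?_⟩
      rw [← show centralizerIn S S = S ⊓ Subgroup.centralizer (S : Set Ω) from rfl,
        ← hdata.inf_eq_center_of_comm F hP.1 hnle hab]
      exact hPeq
    · right
      obtain ⟨-, h2A, hinf, -, -⟩ := hdata.essential_nonab F hF hP hPA hab
      refine ⟨h2A, x, hPS hxP, hxA, ?_⟩
      rw [← hinf]
      exact hPeq

end Cfsg.Agent.S5254
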