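-- Statement S5255 (row 5255), helper87.
import Cfsg.Statements.S5255
import Cfsg.Agent.Lib.Helper87.FusionFrattini

set_option autoImplicit false
open Cfsg

namespace Cfsg.Agent.S5255

open Cfsg.Agent.Lib.Helper87 Cfsg.FusionSystem
open scoped commutatorElement

variable {Ω : Type*} [Group Ω] {S : Subgroup Ω}

/-- `C_S(T)` is normalized by `S` when `T` is. -/
theorem centralizerIn_conj_mem {T : Subgroup Ω} (hTn : ∀ g ∈ S, ∀ x ∈ T, g * x * g⁻¹ ∈ T) {g : Ω} (hg : g ∈ S)
    {c : Ω} (hc : c ∈ centralizerIn S T) : g * c * g⁻¹ ∈ centralizerIn S T := by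
  refine ⟨S.mul_mem (S.mul_mem hg hc.1) (S.inv_mem hg), ?_⟩
  show g * c * g⁻¹ ∈ Subgroup.centralizer (T : Set Ω)
  rw [Subgroup.mem_centralizer_iff]
  intro t ht
  have h1 : g⁻¹ * t * g⁻¹⁻¹ ∈ T := hTn g⁻¹ (S.inv_mem hg) t ht
  have h2 := (Subgroup.mem_centralizer_iff.1 hc.2) _ h1
  have h3 : t * (g * c * g⁻¹) = g * ((g⁻¹ * t * g⁻¹⁻¹) * c) * g⁻¹ := by group
  rw [h3, h2]
  group

/-- Membership in `T·C_S(T)` is invariant under conjugation by `S`. -/
theorem sup_conj_mem_iff {T : Subgroup Ω} (hTn : ∀ g ∈ S, ∀ x ∈ T, g * x * g⁻¹ ∈ T) :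
    ∀ g ∈ S, ∀ x, x ∈ T ⊔ centralizerIn S T ↔ g * x * g⁻¹ ∈ T ⊔ centralizerIn S T := by
  have key : ∀ g ∈ S, ∀ x, x ∈ T ⊔ centralizerIn S T → g * x * g⁻¹ ∈ T ⊔ centralizerIn S T := by
    intro g hg x hx
    have hle : T ⊔ centralizerIn S T ≤ (T ⊔ centralizerIn S T).comap (MulAut.conj g).toMonoidHom := by
      apply sup_le
      · intro t ht
        exact (le_sup_left : T ≤ T ⊔ centralizerIn S T) (hTn g hg t ht)
      · intro c hc
        exact (le_sup_right : centralizerIn S T ≤ T ⊔ centralizerIn S T) (centralizerIn_conj_mem hTn hg hc)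
    exact hle hx
  intro g hg x
  constructor
  · exact key g hg x
  · intro h
    have := key g⁻¹ (S.inv_mem hg) _ h
    simpa [mul_assoc] using this

theorem main (F : FusionSystem S) [Finite S] {p : ℕ} [Fact p.Prime] (hS : IsPGroup p S) (hF : F.IsSaturated p)
    (T : Subgroup Ω) (hT : F.StronglyClosed T) : F.StronglyClosed (T ⊔ centralizerIn S T) := by
  have hTS : T ≤ S := hT.1
  have hTn : ∀ g ∈ S, ∀ x ∈ T, g * x * g⁻¹ ∈ T := fun g hg x hx => StronglyClosed_conj_mem hT hg hx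
  have hUS : T ⊔ centralizerIn S T ≤ S := sup_le hTS inf_le_left
  have hU := sup_conj_mem_iff hTn
  -- product decomposition of elements of `U`
  have hdecomp : ∀ x ∈ T ⊔ centralizerIn S T, ∃ t ∈ T, ∃ c ∈ centralizerIn S T, x = t * c := by
    intro x hx
    refine exists_mul_of_mem_sup ?_ hx
    intro k hk h hh
    have := (Subgroup.mem_centralizer_iff.1 hk.2) h hh
    rw [← this]
    simpa using hh
  have key : ∀ P : Subgroup Ω, F.Hom P ⊆ (preserveSystem F _ hU).Hom P := by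
    refine alperin_weak F (preserveSystem F _ hU) hS hF ?_
    intro R hRa hRr IH α hα
    have hRS : R ≤ S := hRa.1
    have hφ : R.subtype.comp (α : R ≃* R).toMonoidHom ∈ F.Hom R := (mem_autGroup_iff F hRS).1 hα
    -- it suffices to show one direction for all automorphisms
    suffices hone : ∀ β ∈ F.autGroup R, ∀ r : R, (r : Ω) ∈ T ⊔ centralizerIn S T →
        ((β r : R) : Ω) ∈ T ⊔ centralizerIn S T by
      refine ⟨hφ, fun r => ⟨hone α hα r, fun h => ?_⟩⟩
      have := hone α⁻¹ (Subgroup.inv_mem _ hα) (α r) h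
      rwa [MulAut.inv_apply_self] at this
    intro β hβ r hr
    have hβinv : β⁻¹ ∈ F.autGroup R := Subgroup.inv_mem _ hβ
    by_cases hTR : T ≤ R
    · -- `T ≤ R`: `β` normalizes `T` hence `C_R(T)`
      obtain ⟨t, ht, c, hc, hrtc⟩ := hdecomp _ hr
      have hcR : c ∈ R := by
        have : c = t⁻¹ * (r : Ω) := by rw [hrtc]; group
        rw [this]
        exact R.mul_mem (R.inv_mem (hTR ht)) r.2
      have hr' : r = ⟨t, hTR ht⟩ * ⟨c, hcR⟩ := Subtype.ext hrtc
      rw [hr', map_mul]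
      refine Subgroup.mul_mem _ ((le_sup_left : T ≤ _) ?_) ((le_sup_right : centralizerIn S T ≤ _) ?_)
      · exact StronglyClosed_aut_mem hT hRS hβ (r := ⟨t, hTR ht⟩) ht
      · refine ⟨hRS (β ⟨c, hcR⟩).2, ?_⟩
        show ((β ⟨c, hcR⟩ : R) : Ω) ∈ Subgroup.centralizer (T : Set Ω)
        rw [Subgroup.mem_centralizer_iff]
        intro t' ht'
        have h1 : ((β⁻¹ ⟨t', hTR ht'⟩ : R) : Ω) ∈ T :=
          StronglyClosed_aut_mem hT hRS hβinv (r := ⟨t', hTR ht'⟩) ht'
        have h2 := (Subgroup.mem_centralizer_iff.1 hc.2) _ h1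
        have h3 : (β⁻¹ ⟨t', hTR ht'⟩ : R) * ⟨c, hcR⟩ = ⟨c, hcR⟩ * (β⁻¹ ⟨t', hTR ht'⟩ : R) := Subtype.ext h2
        have h4 := congrArg (fun z : R => ((β z : R) : Ω)) h3
        simp only [map_mul, MulAut.apply_inv_self] at h4
        exact h4
    · -- `T ≰ R`: Frattini argument
      obtain ⟨x, hxT, hxN, hxR⟩ := exists_mem_normalizer_not_mem hS hTS hRS hTn hTR
      have hxS : x ∈ S := hTS hxT
      have hxNS : x ∈ normalizerIn S R := ⟨hxS, hxN⟩
      have hinv : ∀ j ≤ 1, ∀ γ ∈ F.autGroup R, ∀ y ∈ (fun j : ℕ => if j = 0 then (⊤ : Subgroup R) else T.subgroupOf R) j,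
          γ y ∈ (fun j : ℕ => if j = 0 then (⊤ : Subgroup R) else T.subgroupOf R) j := by
        intro j _ γ hγ y hy
        by_cases hj : j = 0
        · simp [hj]
        · simp only [hj, if_false] at hy ⊢
          exact Subgroup.mem_subgroupOf.2 (StronglyClosed_aut_mem hT hRS hγ (Subgroup.mem_subgroupOf.1 hy))
      let D := chainStab (F.autGroup R) 1 _ hinv
      have hDn : ∀ α' ∈ F.autGroup R, ∀ γ ∈ D, α' * γ * α'⁻¹ ∈ D :=
        fun α' hα' γ hγ => chainStab_conj_mem _ _ _ hinv hα' hγ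
      have hDmem : ∀ γ ∈ D, ∀ y : R, ((y⁻¹ * γ y : R) : Ω) ∈ T := by
        intro γ hγ y
        have := hγ.2 0 Nat.zero_lt_one y (by simp)
        simpa [Subgroup.mem_subgroupOf] using this
      have hcx : conjAut R x hxNS.2 ∈ D := by
        refine ⟨autInducedBy_le_autGroup F hRS (mem_autInducedBy_iff.2 ⟨x, hxS, fun y => rfl⟩), ?_⟩
        intro j hj y _
        have hj0 : j = 0 := by omega
        subst hj0
        simp only [Nat.zero_add, one_ne_zero, if_false]
        apply Subgroup.mem_subgroupOf.2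
        show (y : Ω)⁻¹ * (x * (y : Ω) * x⁻¹) ∈ T
        have h1 : (y : Ω)⁻¹ * x * (y : Ω)⁻¹⁻¹ ∈ T := hTn _ (S.inv_mem (hRS y.2)) x hxT
        have h2 : (y : Ω)⁻¹ * (x * (y : Ω) * x⁻¹) = ((y : Ω)⁻¹ * x * (y : Ω)⁻¹⁻¹) * x⁻¹ := by group
        rw [h2]
        exact T.mul_mem h1 (T.inv_mem hxT)
      obtain ⟨δ, hδD, X, ψ, hψ, hRX, hXN, hxX, hψν⟩ :=
        exists_frattini_extension F hS hRa hRr D hDn β hβ x hxNS hcx
      have hcard : Nat.card R < Nat.card X := by
        have hfinX : Finite X := finite_of_le (hXN.trans (normalizerIn_le S R))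
        by_contra hlt
        push Not at hlt
        have := Subgroup.eq_of_le_of_card_ge hRX hlt
        rw [this] at hxR
        exact hxR hxX
      have hψE := IH X hcard hψ
      -- `δ * β` preserves `U`
      have h1 : (((δ * β) r : R) : Ω) ∈ T ⊔ centralizerIn S T := by
        have := (hψE.2 ⟨(r : Ω), hRX r.2⟩).1 hr
        rwa [hψν (r : Ω) r.2 (hRX r.2)] at this
      -- `δ⁻¹` moves elements by elements of `T`
      have hδinv : δ⁻¹ ∈ D := Subgroup.inv_mem _ hδD
      have h2 := hDmem δ⁻¹ hδinv ((δ * β) r)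
      have h3 : β r = (δ * β) r * (((δ * β) r)⁻¹ * δ⁻¹ ((δ * β) r)) := by
        rw [MulAut.mul_apply, MulAut.inv_apply_self]
        group
      rw [h3]
      exact Subgroup.mul_mem _ h1 ((le_sup_left : T ≤ _) h2)
  refine ⟨hUS, fun R hRU φ hφ x => ?_⟩
  exact ((key R hφ).2 x).1 (hRU x.2)

/-- Let F be a saturated fusion system over a finite p-group S and T a subgroup of S strongly closed in F. Then T·C_S(T) is strongly closed in F. -/
theorem result {Ω : Type*} [Group Ω] {S : Subgroup Ω} [Finite S] (p : ℕ) [Fact p.Prime] (hS : IsPGroup p S) (F : Cfsg.FusionSystem S) (hF : F.IsSaturated p) (T : Subgroup Ω) (hT : F.StronglyClosed T) : F.StronglyClosed (T ⊔ Cfsg.FusionSystem.centralizerIn S T) := by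
  exact main F hS hF T hT

end Cfsg.Agent.S5255
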