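import Cfsg.Statements.S5257
import Cfsg.Agent.Lib.Helper87.OliverIndexP2
-- import your own Cfsg.Agent.* helpers here

set_option autoImplicit false
open Cfsg

namespace Cfsg.Agent.S5257

open Cfsg.FusionSystem Cfsg.Agent.Lib.Helper87

/-- Let p be an odd prime, S a finite nonabelian p-group with a unique abelian subgroup A of index p, and F a saturated fusion system over S having an F-essential subgroup other than A. Then the second centre Z₂(S) lies in A; Z(S) ∩ [S, S] has order p; Z(S)[S, S] has index p in A; Z(S) has index p in Z₂(S); and S/Z(S) has maximal nilpotency class (if S/Z(S) has order pᵐ with m ≥ 3 then the term of index m − 2 of the lower central series of S, counting S as index 0, is not contained in Z(S)). -/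
theorem result {Ω : Type*} [Group Ω] {S : Subgroup Ω} [Finite S] (p : ℕ) [Fact p.Prime] (hS : IsPGroup p S) (F : Cfsg.FusionSystem S) (hF : F.IsSaturated p) (hp : p ≠ 2) (hna : ¬ IsMulCommutative ↥S) (A : Subgroup Ω) (hA : A ≤ S ∧ IsMulCommutative ↥A ∧ (A.subgroupOf S).index = p) (huniq : ∀ B : Subgroup Ω, B ≤ S → IsMulCommutative ↥B → (B.subgroupOf S).index = p → B = A) (P : Subgroup Ω) (hP : F.IsEssential p P) (hPA : P ≠ A) : ((upperCentralSeries ↥S 2).map S.subtype) ≤ A ∧ Nat.card ↥((S ⊓ Subgroup.centralizer (S : Set Ω)) ⊓ ((commutator ↥S).map S.subtype)) = p ∧ (((S ⊓ Subgroup.centralizer (S : Set Ω)) ⊔ ((commutator ↥S).map S.subtype)).subgroupOf A).index = p ∧ (((S ⊓ Subgroup.centralizer (S : Set Ω))).subgroupOf ((upperCentralSeries ↥S 2).map S.subtype)).index = p ∧ ∀ m : ℕ, ((S ⊓ Subgroup.centralizer (S : Set Ω)).subgroupOf S).index = p ^ m → 3 ≤ m → ¬ Subgroup.lowerCentralSeries S (m - 2) ≤ (S ⊓ Subgroup.centralizer (S : Set Ω)) := by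
  obtain ⟨hAS, hAc, hAi⟩ := hA
  have hdata : IndexPData p S A := by
    refine ⟨hS, hAS, fun a ha b hb => ?_, hAi, ?_⟩
    · exact congrArg Subtype.val (hAc.is_comm.comm (⟨a, ha⟩ : A) ⟨b, hb⟩)
    · by_contra hcon
      push Not at hcon
      apply hna
      exact ⟨⟨fun a b => Subtype.ext (hcon a a.2 b b.2)⟩⟩
  have huniq' : ∀ B : Subgroup Ω, B ≤ S → (∀ y ∈ B, ∀ z ∈ B, y * z = z * y) → B.relIndex S = p → B = A := by
    intro B hBS hBc hBi
    exact huniq B hBS ⟨⟨fun a b => Subtype.ext (hBc a a.2 b b.2)⟩⟩ hBi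
  have hPS : P ≤ S := hP.1.1
  have hnle := (hdata.essential_key F hF hP hPA).1
  obtain ⟨x, hxP, hxA⟩ := SetLike.not_le_iff_exists.1 hnle
  have hxS : x ∈ S := hPS hxP
  have h2A := hdata.Z2_le_A F hF huniq' hP hPA
  have hrel := hdata.relIndex_center_Z2 F hF h2A hP hPA
  have hcard := hdata.card_center_inf_commutator hxS hxA h2A
  rw [hrel] at hcard
  have hsup := hdata.relIndex_center_sup_commutator hxS hxA
  rw [hcard] at hsup
  have hc := hdata.card_delta_ker_inf_range hxS hxA h2A
  rw [hrel] at hc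
  rw [commutator_map_subtype]
  refine ⟨h2A, hcard, hsup, hrel, fun m hm hm3 => ?_⟩
  exact hdata.lcs_not_le_center hxS hxA hc hm (by omega)

end Cfsg.Agent.S5257
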