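import Cfsg.Statements.S5265
import Cfsg.Agent.Lib.Helper86.CenterIndexFinal

set_option autoImplicit false
open Cfsg

namespace Cfsg.Agent.S5265

open Cfsg.Agent.Lib.Helper86
open scoped commutatorElement

/-- Let p be a prime, S a nontrivial finite p-group whose centre has index at most p², and F a saturated fusion system over S with no nontrivial normal subgroup and with hyperfocal subgroup equal to S. Then S is extraspecial of order p³; for odd p it has exponent p, and for p = 2 it is dihedral of order 8. -/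
theorem result {Ω : Type*} [Group Ω] {S : Subgroup Ω} [Finite S] (p : ℕ) [Fact p.Prime] (hS : IsPGroup p ↥S) (F : Cfsg.FusionSystem S) (hF : F.IsSaturated p) (hS1 : S ≠ ⊥) (hcore : F.core = ⊥) (hhyp : F.hyperfocalSubgroup p = S) (hZ : (Subgroup.center ↥S).index ≤ p ^ 2) : Cfsg.IsExtraspecial p ↥S ∧ Nat.card S = p ^ 3 ∧ (p ≠ 2 → Monoid.exponent ↥S = p) ∧ (p = 2 → Nonempty (↥S ≃* DihedralGroup 4)) := by
  classical
  have hpp : p.Prime := Fact.out
  obtain ⟨E₀, h₀⟩ := exists_essential_of_core_eq_bot p hS F hF hS1 hcore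
  have hE₀S : E₀ ≤ S := h₀.1.1
  -- `S` is not abelian
  have hnab : ∃ x y : S, x * y ≠ y * x := by
    by_contra hcon
    push Not at hcon
    apply Cfsg.Agent.Lib.Helper88.ne_top_of_essential F hF h₀
    apply le_antisymm hE₀S
    intro g hg
    apply h₀.1.2 E₀ (Cfsg.Agent.Lib.Helper87.isConj_refl F hE₀S)
    refine ⟨hg, ?_⟩
    show g ∈ Subgroup.centralizer (E₀ : Set Ω)
    rw [Subgroup.mem_centralizer_iff]
    intro e he
    exact congrArg (Subtype.val : S → Ω) (hcon ⟨e, hE₀S he⟩ ⟨g, hg⟩)
  obtain ⟨hidx, W', hW'card, hW'Z, hW'comm⟩ := center_index_sq_structure hS hZ hnab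
  -- transfer to the ambient group
  obtain ⟨W, hW⟩ : ∃ W : Subgroup Ω, W = W'.map S.subtype := ⟨_, rfl⟩
  have hWcard : Nat.card W = p := by
    rw [hW, Subgroup.card_map_of_injective S.subtype_injective, hW'card]
  have hWZ : W ≤ S ⊓ Subgroup.centralizer (S : Set Ω) := by
    rw [hW]
    rintro _ ⟨w, hw, rfl⟩
    exact (mem_center_iff_mem_inf_centralizer w).mp (hW'Z hw)
  have hcomm : ∀ x ∈ S, ∀ y ∈ S, ⁅x, y⁆ ∈ W := by
    intro x hx y hy
    rw [hW]
    refine ⟨⁅(⟨x, hx⟩ : S), ⟨y, hy⟩⁆, hW'comm _ _, ?_⟩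
    rw [commutatorElement_def, commutatorElement_def]
    rfl
  have hZidx : (S ⊓ Subgroup.centralizer (S : Set Ω)).relIndex S = p ^ 2 := by
    rw [Subgroup.relIndex, inf_centralizer_subgroupOf_eq_center]
    exact hidx
  have hnabΩ : ∃ x ∈ S, ∃ y ∈ S, ⁅x, y⁆ ≠ 1 := by
    obtain ⟨x, y, hxy⟩ := hnab
    refine ⟨x, x.2, y, y.2, fun h => hxy ?_⟩
    apply Subtype.ext
    exact commutatorElement_eq_one_iff_mul_comm.mp h
  have hZW : S ⊓ Subgroup.centralizer (S : Set Ω) = W := by
    rcases hpp.eq_two_or_odd' with h2 | hodd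
    · exact center_eq_of_two p h2 hS F hF hS1 hcore hhyp W hWcard hWZ hcomm hZidx
    · exact center_eq_of_odd p hodd hS F hF hS1 hcore W hWcard hWZ hcomm hZidx hnabΩ
  have hcenter : Subgroup.center S = W' := by
    ext u
    rw [mem_center_iff_mem_inf_centralizer, hZW, hW]
    constructor
    · rintro ⟨w, hw, hwu⟩
      have : w = u := Subtype.ext hwu
      exact this ▸ hw
    · intro hu
      exact ⟨u, hu, rfl⟩
  have hccard : Nat.card (Subgroup.center S) = p := by rw [hcenter, hW'card]
  have hScard : Nat.card S = p ^ 3 := by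
    rw [← Subgroup.index_mul_card (Subgroup.center S), hidx, hccard]
    ring
  have hW'p : ∀ w ∈ W', w ^ p = 1 := by
    intro w hw
    have : (⟨w, hw⟩ : W') ^ Nat.card W' = 1 := pow_card_eq_one'
    rw [hW'card] at this
    exact congrArg Subtype.val this
  have hcommutator : commutator S = Subgroup.center S := by
    rw [hcenter]
    apply le_antisymm
    · rw [commutator_def, Subgroup.commutator_le]
      intro a _ b _
      exact hW'comm a b
    · intro w hw
      obtain ⟨x, y, hxy⟩ := hnab
      have h1 : ⁅x, y⁆ ≠ 1 := fun h => hxy (commutatorElement_eq_one_iff_mul_comm.mp h)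
      have h1' : (⟨_, hW'comm x y⟩ : W') ≠ 1 := fun h => h1 (congrArg Subtype.val h)
      obtain ⟨k, hk⟩ := mem_powers_of_prime_card (G := W') hW'card (g := ⟨_, hW'comm x y⟩) (g' := ⟨w, hw⟩) h1'
      have hk' : ⁅x, y⁆ ^ k = w := by simpa using congrArg Subtype.val hk
      rw [← hk']
      exact Subgroup.pow_mem _ (Subgroup.commutator_mem_commutator (Subgroup.mem_top x) (Subgroup.mem_top y)) k
  have hcc : ∀ u v : S, ⁅u, v⁆ ∈ Subgroup.center S := fun u v => hcenter ▸ hW'comm u v
  have hfrat : frattini S = Subgroup.center S := by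
    apply le_antisymm
    · apply frattini_le_of_quotient_elemAb p (Subgroup.center S) hcommutator.le
      intro x
      rw [Subgroup.mem_center_iff]
      intro g
      have hpow : ∀ k : ℕ, ⁅x ^ k, g⁆ = ⁅x, g⁆ ^ k := by
        intro k
        induction k with
        | zero => simp
        | succ k ih => rw [pow_succ, commutator_mul_left_of_central hcc, ih, pow_succ]
      have h1 : ⁅x ^ p, g⁆ = 1 := by
        rw [hpow]
        exact hW'p _ (hW'comm x g)
      exact (commutatorElement_eq_one_iff_mul_comm.mp h1).symm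
    · rw [← hcommutator, commutator_def, Subgroup.commutator_le]
      intro a _ b _
      exact comm_mem_frattini_of_isPGroup hS a b
  refine ⟨⟨⟨hS, hfrat, hcommutator⟩, hccard⟩, hScard, fun hp2 => ?_, fun hp2 => ?_⟩
  · -- exponent `p` for odd `p`
    have hmulpow : ∀ x y : S, (x * y) ^ p = x ^ p * y ^ p := by
      intro x y
      have h1 : y * x = ⁅y, x⁆ * x * y := by rw [commutatorElement_def]; group
      have hcz : ∀ g : S, Commute ⁅y, x⁆ g := fun g => (Subgroup.mem_center_iff.mp (hcc y x) g).symm
      have h2 := Cfsg.Agent.Lib.Helper24.mul_pow_of_central_comm x y ⁅y, x⁆ h1 (hcz x) (hcz y) p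
      have hdvd : p ∣ p.choose 2 := by
        apply hpp.dvd_choose_self (by norm_num)
        have := hpp.two_le
        omega
      obtain ⟨k, hk⟩ := hdvd
      rw [h2, hk, pow_mul, hW'p _ (hW'comm y x), one_pow, mul_one]
    have hall : ∀ u : S, u ^ p = 1 := by
      by_contra hcon
      push Not at hcon
      obtain ⟨u₀, hu₀⟩ := hcon
      have hess : ∀ E, F.IsEssential p E → ∀ u ∈ S, (u ∈ E ↔ u ^ p = 1) := by
        intro E hE u hu
        obtain ⟨hES, hEexp, hEidx⟩ := essential_omega p hS F hF W hWcard hWZ hcomm hZidx hZW E hE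
        constructor
        · exact hEexp u
        · intro hup
          by_contra huE
          apply hu₀
          obtain ⟨e, he, v, hv, huv⟩ :=
            Cfsg.Agent.Lib.Helper87.exists_decomp_of_relIndex_prime hS hES hEidx hu huE u₀.2
          obtain ⟨k, rfl⟩ := Subgroup.mem_zpowers_iff.mp hv
          have h1 : u₀ = ⟨e, hES he⟩ * (⟨u, hu⟩ : S) ^ k := Subtype.ext (by rw [huv]; rfl)
          have h2 : (⟨e, hES he⟩ : S) ^ p = 1 := Subtype.ext (hEexp e he)
          have h3 : (⟨u, hu⟩ : S) ^ p = 1 := Subtype.ext hup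
          rw [h1, hmulpow, h2, one_mul, ← zpow_natCast, ← zpow_mul, mul_comm, zpow_mul, zpow_natCast, h3, one_zpow]
      have hEeq : ∀ E, F.IsEssential p E → E = E₀ := by
        intro E hE
        ext u
        constructor
        · intro hu
          have huS := hE.1.1 hu
          exact (hess E₀ h₀ u huS).mpr ((hess E hE u huS).mp hu)
        · intro hu
          have huS := hE₀S hu
          exact (hess E hE u huS).mpr ((hess E₀ h₀ u huS).mp hu)
      have hE₀fin : Finite E₀ := Finite.of_injective (Subgroup.inclusion hE₀S) (Subgroup.inclusion_injective hE₀S)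
      have hnorm : F.IsNormal E₀ := by
        refine Cfsg.Agent.Lib.Helper84.isNormal_of_forall_essential F hS hF E₀ (fun P hP => ?_)
        rcases hP with hPS | hP
        · rw [hPS]
          refine ⟨hE₀S, fun α hα => ?_⟩
          apply subgroupOf_map_eq_of_forall_mem
          intro x hx
          rw [hess E₀ h₀ _ (α x).2]
          have h1 := (hess E₀ h₀ _ x.2).mp hx
          have h2 : x ^ p = 1 := Subtype.ext h1
          have h3 : (α x) ^ p = 1 := by rw [← map_pow, h2, map_one]
          exact congrArg Subtype.val h3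
        · rw [hEeq P hP]
          refine ⟨le_rfl, fun α hα => ?_⟩
          apply subgroupOf_map_eq_of_forall_mem
          intro x _
          exact (α x).2
      have hle := Cfsg.Agent.Lib.Helper85.le_core_of_isNormal F hnorm
      rw [hcore] at hle
      have hZSE₀ := Cfsg.Agent.Lib.Helper87.center_le_of_centric F h₀.1
      have hWbot : W = ⊥ := by
        rw [eq_bot_iff]
        exact hWZ.trans (hZSE₀.trans hle)
      rw [hWbot, Subgroup.card_bot] at hWcard
      exact hpp.one_lt.ne hWcard
    have hdvd : Monoid.exponent S ∣ p := Monoid.exponent_dvd_of_forall_pow_eq_one hall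
    rcases (Nat.dvd_prime hpp).mp hdvd with h | h
    · exfalso
      have hsub := Monoid.exp_eq_one_iff.mp h
      apply hS1
      rw [eq_bot_iff]
      intro g hg
      have : (⟨g, hg⟩ : S) = 1 := Subsingleton.elim _ _
      exact Subgroup.mem_bot.mpr (congrArg Subtype.val this)
    · exact h
  · -- `p = 2`: dihedral of order `8`
    obtain ⟨z, hzW, hz1, hzz, hW2⟩ := exists_generator_of_card_two W (hp2 ▸ hWcard)
    obtain ⟨x, s, V, C, hES, hZSE, hxE, hxx, hxZ, hsS, hsE, hsx, hcos, hEl, -⟩ :=
      essential_data_two p hp2 hS F hF W hWcard hWZ hcomm hZidx z hz1 hW2 E₀ h₀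
    have hzc : ∀ g ∈ S, z * g = g * z := fun g hg =>
      (Subgroup.mem_centralizer_iff.mp (hWZ hzW).2 g hg).symm
    have hxS : x ∈ S := hES hxE
    have hxinv : x⁻¹ = x := inv_eq_of_mul_eq_one_right hxx
    have hss : s * s = 1 ∨ s * s = z := by
      have h1 : s * s ∈ E₀ := by
        rcases hcos s hsS hsE (s * s) (S.mul_mem hsS hsS) with h | ⟨e, he, h⟩
        · exact h
        · exfalso
          apply hsE
          rw [mul_right_cancel h]
          exact he
      obtain ⟨ζ, hζ, h | h⟩ := hEl (s * s) h1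
      · rw [h]
        exact hW2 ζ (hZW ▸ hζ)
      · exfalso
        have hx : x = s * s * ζ⁻¹ := by rw [h]; group
        have hζs : ζ⁻¹ * s = s * ζ⁻¹ :=
          (Subgroup.mem_centralizer_iff.mp (Subgroup.inv_mem _ hζ).2 s hsS).symm
        have h2 : s * x * s⁻¹ = x := by
          rw [hx]
          calc s * (s * s * ζ⁻¹) * s⁻¹ = s * s * (s * ζ⁻¹) * s⁻¹ := by group
            _ = s * s * (ζ⁻¹ * s) * s⁻¹ := by rw [hζs]
            _ = s * s * ζ⁻¹ := by group
        rw [hsx] at h2
        exact hz1 (mul_left_cancel (a := x) (by rw [h2, mul_one]))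
    obtain ⟨r, hrS, hr2, hxr⟩ : ∃ r ∈ S, r * r = z ∧ x * r * x⁻¹ = r⁻¹ := by
      rcases hss with h | h
      · have hsinv : s⁻¹ = s := inv_eq_of_mul_eq_one_right h
        refine ⟨s * x, S.mul_mem hsS hxS, ?_, ?_⟩
        · calc s * x * (s * x) = (s * x * s) * x := by group
            _ = (s * x * s⁻¹) * x := by rw [hsinv]
            _ = x * z * x := by rw [hsx]
            _ = x * (z * x) := by group
            _ = x * (x * z) := by rw [hzc x hxS]
            _ = z := by rw [← mul_assoc, hxx, one_mul]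
        · calc x * (s * x) * x⁻¹ = x * s := by group
            _ = x⁻¹ * s⁻¹ := by rw [hxinv, hsinv]
            _ = (s * x)⁻¹ := by rw [mul_inv_rev]
      · refine ⟨s, hsS, h, ?_⟩
        have h1 : x⁻¹ * s * x = z * s := by
          calc x⁻¹ * s * x = x⁻¹ * (s * x * s⁻¹) * s := by group
            _ = x⁻¹ * (x * z) * s := by rw [hsx]
            _ = z * s := by group
        have h2 : s⁻¹ = z * s := by
          apply inv_eq_of_mul_eq_one_right
          calc s * (z * s) = s * (s * z) := by rw [hzc s hsS]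
            _ = (s * s) * z := by group
            _ = 1 := by rw [h, hzz]
        rw [h2, ← h1, hxinv]
    have hcard8 : Nat.card S = 2 * 4 := by rw [hScard, hp2]; norm_num
    -- the two generators
    obtain ⟨α, hα⟩ : ∃ α : S, α = ⟨r, hrS⟩ := ⟨_, rfl⟩
    obtain ⟨β, hβ⟩ : ∃ β : S, β = ⟨x, hxS⟩ := ⟨_, rfl⟩
    have hα2 : α * α = ⟨z, hWZ.trans inf_le_left hzW⟩ := by rw [hα]; exact Subtype.ext hr2
    have hα21 : α ^ 2 ≠ 1 := by
      rw [pow_two, hα2]
      intro h
      exact hz1 (congrArg Subtype.val h)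
    have hα4 : α ^ 4 = 1 := by
      rw [show (4 : ℕ) = 2 + 2 from rfl, pow_add, pow_two, hα2]
      exact Subtype.ext hzz
    have hβ2 : β ^ 2 = 1 := by rw [pow_two, hβ]; exact Subtype.ext hxx
    have hc : β * α * β⁻¹ = α⁻¹ := by rw [hα, hβ]; exact Subtype.ext hxr
    have hgen : Subgroup.zpowers α ⊔ Subgroup.zpowers β = ⊤ := by
      obtain ⟨H, hH⟩ : ∃ H : Subgroup S, H = Subgroup.zpowers α ⊔ Subgroup.zpowers β := ⟨_, rfl⟩
      rw [← hH]
      have hαH : Subgroup.zpowers α ≤ H := hH ▸ le_sup_left
      have hβH : β ∈ H := hH ▸ Subgroup.mem_sup_right (Subgroup.mem_zpowers β)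
      have hord : orderOf α = 4 := by
        have := orderOf_eq_prime_pow (p := 2) (n := 1) (x := α) (by simpa using hα21) (by simpa using hα4)
        simpa using this
      have hzc4 : Nat.card (Subgroup.zpowers α) = 4 := by rw [Nat.card_zpowers, hord]
      have h4 : 4 ∣ Nat.card H := hzc4 ▸ Subgroup.card_dvd_of_le hαH
      have h8 : Nat.card H ∣ 8 := by
        have := Subgroup.card_subgroup_dvd_card H
        rwa [hcard8] at this
      have hne4 : Nat.card H ≠ 4 := by
        intro h
        have heq : Subgroup.zpowers α = H := Subgroup.eq_of_le_of_card_ge hαH (by rw [h, hzc4])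
        have hβz : β ∈ Subgroup.zpowers α := heq ▸ hβH
        obtain ⟨k, hk⟩ := Subgroup.mem_zpowers_iff.mp hβz
        have hcm : β * α = α * β := by
          rw [← hk]
          exact ((Commute.refl α).zpow_left k).eq
        apply hα21
        have h5 : α = α⁻¹ := by
          rw [← hc, hcm, mul_inv_cancel_right]
        rw [pow_two]
        nth_rewrite 2 [h5]
        exact mul_inv_cancel α
      have hcardH : Nat.card H = 8 := by
        have hle : Nat.card H ≤ 8 := Nat.le_of_dvd (by norm_num) h8
        obtain ⟨m, hm⟩ := h4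
        have hm2 : m ≤ 2 := by omega
        interval_cases m
        · rw [hm] at h8; norm_num at h8
        · omega
        · omega
      exact (Subgroup.card_eq_iff_eq_top H).mp (hcardH.trans hcard8.symm)
    obtain ⟨e⟩ := Cfsg.Agent.Lib.Helper73.dihedral_equiv α β 4 (by norm_num) hα4 hβ2 hc hgen hcard8
    exact ⟨e.symm⟩

end Cfsg.Agent.S5265
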