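import Cfsg.Statements.S5270
import Cfsg.Agent.Lib.Helper87.MaxClassBasic
import Cfsg.Agent.Lib.Helper87.FusionKNormSat
import Cfsg.Agent.Lib.Helper88.FusionAlperinCR
import Cfsg.Agent.S5081

set_option autoImplicit false
open Cfsg

namespace Cfsg.Agent.S5270

open Cfsg.FusionSystem Cfsg.Agent.Lib.Helper87

variable {Ω : Type*} [Group Ω] {S : Subgroup Ω}

/-- Membership in the image of `Z(S)` in `Ω`. -/
theorem mem_centerMap {y : Ω} :
    y ∈ (Subgroup.center ↥S).map S.subtype ↔ y ∈ S ∧ ∀ s ∈ S, s * y = y * s := by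
  constructor
  · rintro ⟨c, hc, rfl⟩
    refine ⟨c.2, fun s hs => ?_⟩
    have := Subgroup.mem_center_iff.1 hc ⟨s, hs⟩
    exact congrArg (fun w : ↥S => (w : Ω)) this
  · rintro ⟨hy, h⟩
    refine ⟨⟨y, hy⟩, ?_, rfl⟩
    rw [SetLike.mem_coe, Subgroup.mem_center_iff]
    intro s
    exact Subtype.ext (h s s.2)

/-- The automorphisms of `P` that preserve the image of `Z(S)`. -/
def stabZ (S P : Subgroup Ω) : Subgroup (MulAut P) where
  carrier := {β | ∀ x : P, (x : Ω) ∈ (Subgroup.center ↥S).map S.subtype ↔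
    ((β x : P) : Ω) ∈ (Subgroup.center ↥S).map S.subtype}
  one_mem' := fun x => Iff.rfl
  mul_mem' := by
    intro a b ha hb x
    exact (hb x).trans (ha (b x))
  inv_mem' := by
    intro a ha x
    have := ha (a⁻¹ x)
    rw [MulAut.apply_inv_self] at this
    exact this.symm


/-- Let p ≥ 5 be a prime, S a finite p-group of maximal class of order p^n with n ≥ 4, and F a saturated fusion system over S. If some map of F defined on the second centre Z₂(S) with image Z₂(S) does not carry Z(S) into itself, then the centralizer C_S(Z₂(S)) is an F-essential subgroup. -/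
theorem result {Ω : Type*} [Group Ω] {S : Subgroup Ω} [Finite S] (p : ℕ) [Fact p.Prime] (hS : IsPGroup p ↥S) (n : ℕ) (hn : Nat.card S = p ^ n) (h4 : 4 ≤ n) (hmax : Subgroup.lowerCentralSeries S (n - 2) ≠ ⊥) (F : Cfsg.FusionSystem S) (hF : F.IsSaturated p) (hp : 5 ≤ p) (φ : ↥((Subgroup.upperCentralSeries ↥S 2).map S.subtype) →* Ω) (hφ : φ ∈ F.Hom ((Subgroup.upperCentralSeries ↥S 2).map S.subtype)) (hφZ : φ.range = ((Subgroup.upperCentralSeries ↥S 2).map S.subtype)) (hmove : ∃ (z : Ω) (hz : z ∈ ((Subgroup.upperCentralSeries ↥S 2).map S.subtype)), z ∈ ((Subgroup.center ↥S).map S.subtype) ∧ φ ⟨z, hz⟩ ∉ ((Subgroup.center ↥S).map S.subtype)) : F.IsEssential p (S ⊓ Subgroup.centralizer (((Subgroup.upperCentralSeries ↥S 2).map S.subtype) : Set Ω)) := by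
  have hp' : p.Prime := Fact.out
  have hnil : Group.IsNilpotent ↥S := hS.isNilpotent
  -- the class of `S` is at least `n - 1`
  have hc : n - 1 ≤ Group.nilpotencyClass ↥S := by
    by_contra h
    have h1 : Group.nilpotencyClass ↥S ≤ n - 2 := by omega
    have h2 : Subgroup.lowerCentralSeries (⊤ : Subgroup ↥S) (n - 2) = ⊥ :=
      Subgroup.lowerCentralSeries_eq_bot_iff_nilpotencyClass_le.2 h1
    apply hmax
    rw [← Subgroup.top_subtype_lowerCentralSeries, h2, Subgroup.map_bot]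
  have hmaxl := maxClass_centralizer_Z2 hn h4 hc
  have hZ2S : (Subgroup.upperCentralSeries ↥S 2).map S.subtype ≤ S := Subgroup.map_subtype_le _
  -- `Z₂(S)` is normal in `S`
  have hZ2n : ∀ g ∈ S, ∀ x ∈ (Subgroup.upperCentralSeries ↥S 2).map S.subtype,
      g * x * g⁻¹ ∈ (Subgroup.upperCentralSeries ↥S 2).map S.subtype := by
    rintro g hg _ ⟨y, hy, rfl⟩
    have hnorm : (Subgroup.upperCentralSeries ↥S 2).Normal := inferInstance
    have h1 : (⟨g, hg⟩ : ↥S) * y * (⟨g, hg⟩ : ↥S)⁻¹ ∈ Subgroup.upperCentralSeries ↥S 2 :=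
      hnorm.conj_mem y hy ⟨g, hg⟩
    exact Subgroup.mem_map.2 ⟨_, h1, rfl⟩
  have hcardS : ∀ Q : Subgroup Ω, Nat.card ↥(normalizerIn S Q) ≤ Nat.card ↥S :=
    fun Q => Subgroup.card_le_of_le (normalizerIn_le S Q)
  have hZ2fn : F.IsFullyNormalized ((Subgroup.upperCentralSeries ↥S 2).map S.subtype) := by
    refine ⟨hZ2S, fun Q _ => ?_⟩
    have h1 : normalizerIn S ((Subgroup.upperCentralSeries ↥S 2).map S.subtype) = S :=
      le_antisymm (normalizerIn_le S _) (le_normalizerIn_of_conj_mem hZ2n)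
    rw [h1]
    exact hcardS Q
  -- `S₁ = C_S(Z₂(S))` is normal in `S`
  have hS1S : S ⊓ Subgroup.centralizer (((Subgroup.upperCentralSeries ↥S 2).map S.subtype : Subgroup Ω) : Set Ω) ≤ S :=
    inf_le_left
  have hS1n : ∀ g ∈ S, ∀ x ∈ S ⊓ Subgroup.centralizer
      (((Subgroup.upperCentralSeries ↥S 2).map S.subtype : Subgroup Ω) : Set Ω),
      g * x * g⁻¹ ∈ S ⊓ Subgroup.centralizer
        (((Subgroup.upperCentralSeries ↥S 2).map S.subtype : Subgroup Ω) : Set Ω) := by
    rintro g hg x ⟨hxS, hxC⟩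
    refine ⟨S.mul_mem (S.mul_mem hg hxS) (S.inv_mem hg), ?_⟩
    show g * x * g⁻¹ ∈ Subgroup.centralizer _
    rw [Subgroup.mem_centralizer_iff]
    intro w hw
    have hw' : g⁻¹ * w * g⁻¹⁻¹ ∈ (Subgroup.upperCentralSeries ↥S 2).map S.subtype :=
      hZ2n g⁻¹ (S.inv_mem hg) w hw
    have h1 := Subgroup.mem_centralizer_iff.1 hxC _ hw'
    calc w * (g * x * g⁻¹) = g * ((g⁻¹ * w * g⁻¹⁻¹) * x) * g⁻¹ := by group
      _ = g * (x * (g⁻¹ * w * g⁻¹⁻¹)) * g⁻¹ := by rw [h1]
      _ = g * x * g⁻¹ * w := by group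
  have hS1fn : F.IsFullyNormalized (S ⊓ Subgroup.centralizer
      (((Subgroup.upperCentralSeries ↥S 2).map S.subtype : Subgroup Ω) : Set Ω)) := by
    refine ⟨hS1S, fun Q _ => ?_⟩
    have h1 : normalizerIn S (S ⊓ Subgroup.centralizer
        (((Subgroup.upperCentralSeries ↥S 2).map S.subtype : Subgroup Ω) : Set Ω)) = S :=
      le_antisymm (normalizerIn_le S _) (le_normalizerIn_of_conj_mem hS1n)
    rw [h1]
    exact hcardS Q
  obtain ⟨z, hz, hzZ, hφz⟩ := hmove
  have hφzZ2 : φ ⟨z, hz⟩ ∈ (Subgroup.upperCentralSeries ↥S 2).map S.subtype := by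
    have h1 : φ ⟨z, hz⟩ ∈ φ.range := ⟨_, rfl⟩
    rw [hφZ] at h1
    exact h1
  -- `S₁ < S`
  have hS1lt : S ⊓ Subgroup.centralizer (((Subgroup.upperCentralSeries ↥S 2).map S.subtype : Subgroup Ω) : Set Ω)
      < S := by
    refine lt_of_le_of_ne hS1S (fun heq => ?_)
    apply hφz
    rw [mem_centerMap]
    refine ⟨hZ2S hφzZ2, fun s hs => ?_⟩
    have hs' : s ∈ S ⊓ Subgroup.centralizer
        (((Subgroup.upperCentralSeries ↥S 2).map S.subtype : Subgroup Ω) : Set Ω) := by
      rw [heq]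
      exact hs
    exact (Subgroup.mem_centralizer_iff.1 hs'.2 _ hφzZ2).symm
  -- extend `φ` to `S₁`
  obtain ⟨-, hrec⟩ := fullyAutomized_receptive_of_fullyNormalized F hS hF hZ2fn
  obtain ⟨ψ, hψ, hψφ⟩ := hrec.2 _ φ hφ hφZ
  have hle1 : S ⊓ Subgroup.centralizer (((Subgroup.upperCentralSeries ↥S 2).map S.subtype : Subgroup Ω) : Set Ω) ≤
      extender S ((Subgroup.upperCentralSeries ↥S 2).map S.subtype) φ :=
    Cfsg.Agent.Lib.Helper88.centralizerIn_le_extender φ
  have hle2 : (Subgroup.upperCentralSeries ↥S 2).map S.subtype ≤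
      extender S ((Subgroup.upperCentralSeries ↥S 2).map S.subtype) φ := le_extender_of_hom F hφ
  have hψ1 : ψ.comp (Subgroup.inclusion hle1) ∈ F.Hom (S ⊓ Subgroup.centralizer
      (((Subgroup.upperCentralSeries ↥S 2).map S.subtype : Subgroup Ω) : Set Ω)) := restrict_mem F hψ hle1
  have hval : ∀ x : ↥(S ⊓ Subgroup.centralizer
      (((Subgroup.upperCentralSeries ↥S 2).map S.subtype : Subgroup Ω) : Set Ω)),
      (ψ.comp (Subgroup.inclusion hle1)) x ∈ S ⊓ Subgroup.centralizer
        (((Subgroup.upperCentralSeries ↥S 2).map S.subtype : Subgroup Ω) : Set Ω) := by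
    intro x
    refine ⟨hom_map_mem F hψ1 x, ?_⟩
    show ψ (Subgroup.inclusion hle1 x) ∈ Subgroup.centralizer _
    rw [Subgroup.mem_centralizer_iff]
    intro w hw
    rw [← hφZ] at hw
    obtain ⟨w', rfl⟩ := hw
    have h1 : φ w' = ψ ⟨(w' : Ω), hle2 w'.2⟩ := (hψφ (w' : Ω) w'.2 (hle2 w'.2)).symm
    rw [h1, ← map_mul, ← map_mul]
    congr 1
    apply Subtype.ext
    exact Subgroup.mem_centralizer_iff.1 x.2.2 _ w'.2
  have hfinS1 : Finite ↥(S ⊓ Subgroup.centralizer
      (((Subgroup.upperCentralSeries ↥S 2).map S.subtype : Subgroup Ω) : Set Ω)) := finite_of_le hS1S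
  obtain ⟨α, hαF, hαψ⟩ := exists_aut_of_maps_into' F hψ1 hval
  -- apply the criterion
  rcases Cfsg.Agent.S5081.result p hS F hF _ hS1lt hS1fn _ rfl with ⟨-, hH⟩ | ⟨hess, -⟩
  · exfalso
    -- the generators preserve `Z(S)`
    have hHle : Subgroup.closure {α : MulAut ↥(S ⊓ Subgroup.centralizer
        (((Subgroup.upperCentralSeries ↥S 2).map S.subtype : Subgroup Ω) : Set Ω)) |
        ∃ (Q : Subgroup Ω) (hPQ : S ⊓ Subgroup.centralizer
          (((Subgroup.upperCentralSeries ↥S 2).map S.subtype : Subgroup Ω) : Set Ω) < Q) (φ : Q →* Ω),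
          φ ∈ F.Hom Q ∧ ∀ x, φ (Subgroup.inclusion hPQ.le x) = α x} ≤ stabZ S _ := by
      rw [Subgroup.closure_le]
      rintro β ⟨Q, hPQ, φ', hφ', hφ'β⟩
      have hQS : Q ≤ S := hom_le F hφ'
      -- `Q = S`
      have hQtop : Q.subgroupOf S = ⊤ := by
        apply hmaxl
        refine lt_of_le_of_ne ?_ ?_
        · intro y hy
          rw [Subgroup.mem_subgroupOf]
          apply hPQ.le
          refine ⟨y.2, ?_⟩
          show (y : Ω) ∈ Subgroup.centralizer _
          rw [Subgroup.mem_centralizer_iff]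
          rintro _ ⟨w, hw, rfl⟩
          have := Subgroup.mem_centralizer_iff.1 hy w hw
          exact congrArg (fun v : ↥S => (v : Ω)) this
        · intro heq
          apply lt_irrefl Q
          refine lt_of_le_of_lt ?_ hPQ
          intro q hq
          have h1 : (⟨q, hQS hq⟩ : ↥S) ∈ Q.subgroupOf S := Subgroup.mem_subgroupOf.2 hq
          rw [← heq] at h1
          refine ⟨hQS hq, ?_⟩
          show q ∈ Subgroup.centralizer _
          rw [Subgroup.mem_centralizer_iff]
          rintro _ ⟨w, hw, rfl⟩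
          have := Subgroup.mem_centralizer_iff.1 h1 w hw
          exact congrArg (fun v : ↥S => (v : Ω)) this
      have hSQ : S ≤ Q := by
        intro s hs
        have : (⟨s, hs⟩ : ↥S) ∈ Q.subgroupOf S := by
          rw [hQtop]
          exact Subgroup.mem_top _
        exact Subgroup.mem_subgroupOf.1 this
      -- `φ'` is onto `S`
      have hfinQ : Finite Q := finite_of_le hQS
      have hsurj : ∀ t ∈ S, ∃ q : Q, φ' q = t := by
        have hrange : φ'.range = S := by
          apply Subgroup.eq_of_le_of_card_ge (hom_range_le F hφ')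
          have h1 : Nat.card φ'.range = Nat.card Q :=
            (Nat.card_congr (Equiv.ofInjective φ' (F.injective_of_mem hφ'))).symm
          rw [h1]
          exact Subgroup.card_le_of_le hSQ
        intro t ht
        rw [← hrange] at ht
        exact ht
      intro x
      rw [← hφ'β x, mem_centerMap, mem_centerMap]
      constructor
      · rintro ⟨hxS, hx⟩
        refine ⟨hom_map_mem F hφ' _, fun t ht => ?_⟩
        obtain ⟨q, rfl⟩ := hsurj t ht
        rw [← map_mul, ← map_mul]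
        congr 1
        apply Subtype.ext
        exact hx q (hQS q.2)
      · rintro ⟨-, hx⟩
        refine ⟨hS1S x.2, fun s hs => ?_⟩
        have h1 := hx (φ' ⟨s, hSQ hs⟩) (hom_map_mem F hφ' _)
        rw [← map_mul, ← map_mul] at h1
        have h2 := F.injective_of_mem hφ' h1
        exact congrArg (fun v : Q => (v : Ω)) h2
    have hαH : α ∈ stabZ S _ := hHle (by rw [hH]; exact hαF)
    have hzS : z ∈ S := hZ2S hz
    have hzS1 : z ∈ S ⊓ Subgroup.centralizer
        (((Subgroup.upperCentralSeries ↥S 2).map S.subtype : Subgroup Ω) : Set Ω) := by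
      refine ⟨hzS, ?_⟩
      show z ∈ Subgroup.centralizer _
      rw [Subgroup.mem_centralizer_iff]
      intro w hw
      exact (mem_centerMap.1 hzZ).2 w (hZ2S hw)
    have h1 := (hαH ⟨z, hzS1⟩).1 hzZ
    rw [hαψ] at h1
    apply hφz
    have h2 : (ψ.comp (Subgroup.inclusion hle1)) ⟨z, hzS1⟩ = φ ⟨z, hz⟩ := hψφ z hz (hle1 hzS1)
    rw [h2] at h1
    exact h1
  · exact hess

end Cfsg.Agent.S5270
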