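import Cfsg.Statements.S5271
import Cfsg.Agent.Lib.Helper88.WeakEmbMain

set_option autoImplicit false
open Cfsg

namespace Cfsg.Agent.S5271

open Cfsg.FusionSystem in
/-- The normalizer systems of the inner fusion system are inner. -/
theorem normalizer_inner_of_inner {Ω : Type*} [Group Ω] {S : Subgroup Ω} (F : Cfsg.FusionSystem S)
    (h : ∀ P : Subgroup Ω, F.Hom P = (Cfsg.innerFusionSystem S).Hom P) (H : Subgroup Ω) (hHS : H ≤ S)
    (N : Cfsg.FusionSystem (normalizerIn S H)) (hN : F.IsNormalizerSystem H N) (P : Subgroup Ω) :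
    N.Hom P = (Cfsg.innerFusionSystem (normalizerIn S H)).Hom P := by
  rw [hN P]
  ext φ
  constructor
  · rintro ⟨-, hP, -, ψ, hψ, hψφ, hψH⟩
    rw [h (P ⊔ H)] at hψ
    obtain ⟨-, g, hg, hgx⟩ := hψ
    rw [Cfsg.Agent.Lib.Helper87.map_subgroupOf_eq_iff] at hψH
    have hgH : g ∈ Subgroup.normalizer (H : Set Ω) := by
      rw [Subgroup.mem_normalizer_iff]
      intro x
      constructor
      · intro hx
        have := hψH.1 ⟨x, le_sup_right (a := P) hx⟩ hx
        rw [hgx] at this
        exact this
      · intro hx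
        obtain ⟨y, hy, hyx⟩ := hψH.2 _ hx
        rw [hgx] at hyx
        have e : (y : Ω) = x := mul_left_cancel (mul_right_cancel hyx)
        rw [← e]
        exact hy
    refine ⟨hP, g, ⟨hg, hgH⟩, fun x => ?_⟩
    rw [← hψφ x, hgx]
    rfl
  · rintro ⟨hP, g, hg, hgx⟩
    have hPS : P ≤ S := hP.trans inf_le_left
    have hφ : φ = Cfsg.conjHom P g := by
      ext x
      exact hgx x
    rw [hφ]
    have hgn : g ∈ Subgroup.normalizer (H : Set Ω) := hg.2
    rw [Subgroup.mem_normalizer_iff] at hgn
    refine ⟨F.conj_mem hPS hg.1, hP, fun x => ?_, Cfsg.conjHom (P ⊔ H) g,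
      F.conj_mem (sup_le hPS hHS) hg.1, fun x => rfl, ?_⟩
    · exact (normalizerIn S H).mul_mem ((normalizerIn S H).mul_mem hg (hP x.2)) ((normalizerIn S H).inv_mem hg)
    · rw [Cfsg.Agent.Lib.Helper87.map_subgroupOf_eq_iff]
      refine ⟨fun x hx => (hgn _).1 hx, fun q hq => ?_⟩
      have hq' : g⁻¹ * q * g ∈ H := by
        apply (hgn _).2
        have e : g * (g⁻¹ * q * g) * g⁻¹ = q := by group
        rw [e]
        exact hq
      refine ⟨⟨g⁻¹ * q * g, le_sup_right (a := P) hq'⟩, hq', ?_⟩
      show g * (g⁻¹ * q * g) * g⁻¹ = q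
      group

/-- A nilpotency criterion for fusion systems. Let F be a saturated fusion system over a finite p-group S of order at least p². Call a subgroup Q of S weakly embedded in F when there is a subgroup P of S strongly closed in F such that both the product QP and the intersection Q ∩ P are strongly closed in F. Then F is the inner fusion system of S if and only if there is a subgroup D of S with 1 < D < S such that every subgroup of S of the same order as D is weakly embedded in F and, for every fully normalized subgroup H of S of that order, the normalizer fusion system of H in F is the inner fusion system of N_S(H). -/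
theorem result {Ω : Type*} [Group Ω] {S : Subgroup Ω} [Finite S] (p : ℕ) [Fact p.Prime] (hS : IsPGroup p ↥S) (F : Cfsg.FusionSystem S) (hF : F.IsSaturated p) (hcard : p ^ 2 ≤ Nat.card S) : (∀ P : Subgroup Ω, F.Hom P = (Cfsg.innerFusionSystem S).Hom P) ↔ ∃ D : Subgroup Ω, ⊥ < D ∧ D < S ∧ (∀ Q : Subgroup Ω, Q ≤ S → Nat.card ↥Q = Nat.card ↥D → ∃ P : Subgroup Ω, F.StronglyClosed P ∧ F.StronglyClosed (Q ⊔ P) ∧ F.StronglyClosed (Q ⊓ P)) ∧ (∀ H : Subgroup Ω, F.IsFullyNormalized H → Nat.card ↥H = Nat.card ↥D → ∀ N : Cfsg.FusionSystem (Cfsg.FusionSystem.normalizerIn S H), F.IsNormalizerSystem H N → ∀ P : Subgroup Ω, N.Hom P = (Cfsg.innerFusionSystem (Cfsg.FusionSystem.normalizerIn S H)).Hom P) := by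
  have hp : p.Prime := Fact.out
  constructor
  · intro h
    obtain ⟨m, hm⟩ := hS.exists_card_eq
    have hm2 : 2 ≤ m := by
      rw [hm] at hcard
      exact (Nat.pow_le_pow_iff_right hp.one_lt).1 hcard
    obtain ⟨K, hK⟩ := Sylow.exists_subgroup_card_pow_prime p
      (show p ^ (m - 1) ∣ Nat.card S by rw [hm]; exact pow_dvd_pow p (Nat.sub_le m 1))
    obtain ⟨D, hDc, hDS⟩ : ∃ D : Subgroup Ω, Nat.card D = p ^ (m - 1) ∧ D ≤ S :=
      ⟨K.map S.subtype, by rw [Subgroup.card_map_of_injective S.subtype_injective, hK], Subgroup.map_subtype_le K⟩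
    have hlt : 1 < p ^ (m - 1) := Nat.one_lt_pow (by omega) hp.one_lt
    refine ⟨D, ?_, ?_, ?_, ?_⟩
    · rw [bot_lt_iff_ne_bot]
      intro hbot
      rw [hbot, Subgroup.card_bot] at hDc
      omega
    · refine lt_of_le_of_ne hDS ?_
      intro hDeq
      rw [hDeq, hm] at hDc
      have := Nat.pow_right_injective hp.two_le hDc
      omega
    · intro Q hQS hQc
      have hQsc : F.StronglyClosed Q := by
        haveI hn : (Q.subgroupOf S).Normal := by
          apply Subgroup.normal_of_index_eq_minFac_card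
          have h1 : Nat.card (Q.subgroupOf S) = p ^ (m - 1) := by
            rw [Nat.card_congr (Subgroup.subgroupOfEquivOfLe hQS).toEquiv, hQc, hDc]
          have h2 := Subgroup.card_mul_index (Q.subgroupOf S)
          rw [h1, hm] at h2
          have h3 : p ^ m = p ^ (m - 1) * p := by
            rw [← pow_succ]
            congr 1
            omega
          rw [h3] at h2
          have h4 := Nat.eq_of_mul_eq_mul_left (pow_pos hp.pos _) h2
          rw [h4, hm, Nat.Prime.pow_minFac hp (by omega)]
        refine ⟨hQS, fun R hR φ hφ x => ?_⟩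
        rw [h R] at hφ
        obtain ⟨-, g, hg, hgx⟩ := hφ
        rw [hgx]
        have := hn.conj_mem ⟨(x : Ω), hQS (hR x.2)⟩ (Subgroup.mem_subgroupOf.2 (hR x.2)) ⟨g, hg⟩
        exact Subgroup.mem_subgroupOf.1 this
      refine ⟨Q, hQsc, ?_, ?_⟩
      · rw [sup_idem]; exact hQsc
      · rw [inf_idem]; exact hQsc
    · intro H hH _ N hN P
      exact normalizer_inner_of_inner F h H hH.1 N hN P
  · rintro ⟨D, -, hDS, hi, hii⟩
    haveI : Finite D := Cfsg.Agent.Lib.Helper87.finite_of_le hDS.le
    obtain ⟨k, hk⟩ := (hS.to_le hDS.le).exists_card_eq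
    rw [hk] at hi hii
    have hkS : p ^ k < Nat.card S := by
      rw [← hk]
      by_contra hcon
      push Not at hcon
      exact hDS.ne (Subgroup.eq_of_le_of_card_ge hDS.le hcon)
    have hbot := Cfsg.Agent.Lib.Helper88.WeakEmb.hyperfocal_eq_bot_of_weakly_embedded hS F hF k hkS hi hii
    have hEq := Cfsg.Agent.Lib.Helper85.eq_inner_of_hyperfocal_eq_bot F hS hF hbot
    intro P
    rw [hEq]

end Cfsg.Agent.S5271
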