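import Cfsg.Statements.S5272
import Cfsg.Agent.Lib.Helper87.AxFusion
-- import your own Cfsg.Agent.* helpers here

set_option autoImplicit false
open Cfsg

namespace Cfsg.Agent.S5272

open Cfsg.FusionSystem Cfsg.Agent.Lib.Helper87 Cfsg.Agent.Lib.Helper88.NilpRed

/-- An axiomatic Glauberman–Thompson nilpotency criterion for fusion systems. Let p be an odd prime, F a saturated fusion system over a finite p-group S, and 𝒜 a nonempty family of abelian subgroups of S. For Q ≤ S write I(Q) for the intersection of the members of 𝒜 contained in Q. Assume (invariance) that for every Q ≤ S containing a member of 𝒜, every F-automorphism of Q maps I(Q) into itself, and (replacement) that for every subgroup B of S of nilpotency class at most 2, if some member of 𝒜 contains [B,B] but not B, then B normalizes some member of 𝒜 that contains [B,B] but not B. Then F is the inner fusion system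 of S if and only if the normalizer fusion system of I(S) in F is the inner fusion system of N_S(I(S)). -/
theorem result {Ω : Type*} [Group Ω] {S : Subgroup Ω} [Finite S] (p : ℕ) [Fact p.Prime] (hS : IsPGroup p ↥S) (F : Cfsg.FusionSystem S) (hF : F.IsSaturated p) (hp : p ≠ 2) (𝒜 : Set (Subgroup Ω)) (h𝒜 : ∀ A ∈ 𝒜, A ≤ S ∧ IsMulCommutative ↥A) (hne : 𝒜.Nonempty) (hinv : ∀ Q : Subgroup Ω, Q ≤ S → (∃ A ∈ 𝒜, A ≤ Q) → ∀ α ∈ F.autGroup Q, ∀ x : ↥Q, (x : Ω) ∈ (⨅ A ∈ {A : Subgroup Ω | A ∈ 𝒜 ∧ A ≤ Q}, A) → (((α : MulAut ↥Q) x : ↥Q) : Ω) ∈ (⨅ A ∈ {A : Subgroup Ω | A ∈ 𝒜 ∧ A ≤ Q}, A)) (hrep : ∀ B : Subgroup Ω, B ≤ S → ⁅⁅B, B⁆, B⁆ = ⊥ → (∃ A ∈ 𝒜, ⁅B, B⁆ ≤ A ∧ ¬ B ≤ A) → ∃ A ∈ 𝒜, ⁅B, B⁆ ≤ A ∧ ¬ B ≤ A ∧ B ≤ Subgroup.normalizer (A : Set Ω)) : (∀ P : Subgroup Ω, F.Hom P = (Cfsg.innerFusionSystem S).Hom P) ↔ ∀ N : Cfsg.FusionSystem (Cfsg.FusionSystem.normalizerIn S (⨅ A ∈ 𝒜, A)), F.IsNormalizerSystem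 (⨅ A ∈ 𝒜, A) N → ∀ P : Subgroup Ω, N.Hom P = (Cfsg.innerFusionSystem (Cfsg.FusionSystem.normalizerIn S (⨅ A ∈ 𝒜, A))).Hom P := by
  have h𝒜S : ∀ A ∈ 𝒜, A ≤ S := fun A hA => (h𝒜 A hA).1
  have hIeq : axInf 𝒜 S = ⨅ A ∈ 𝒜, A := axInf_top_eq h𝒜S
  have hWS : (⨅ A ∈ 𝒜, A) ≤ S := by
    obtain ⟨A, hA⟩ := hne
    exact (iInf₂_le A hA).trans (h𝒜S A hA)
  have hSN : S ≤ normalizerIn S (⨅ A ∈ 𝒜, A) := by
    rw [← hIeq]
    exact le_normalizerIn_axInf F 𝒜 h𝒜S hne hinv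
  constructor
  · intro h N hN P
    apply Set.Subset.antisymm _ (inner_hom_subset N P)
    intro φ hφ
    have hφ' := hφ
    rw [hN P] at hφ'
    obtain ⟨hφF, hPN, -, -⟩ := hφ'
    rw [h P] at hφF
    obtain ⟨-, g, hg, hgφ⟩ := hφF
    exact ⟨hPN, g, hSN hg, hgφ⟩
  · intro h
    have hN := isNormalizerSystem_normalizerSystem F (⨅ A ∈ 𝒜, A) hWS
    have hTS : normalizerIn S (⨅ A ∈ 𝒜, A) ≤ S := inf_le_left
    have h1 : PAut (normalizerSystem F (⨅ A ∈ 𝒜, A) hWS) p :=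
      paut_of_inner (hS.to_le hTS) _ (h _ hN)
    have h2 : NPAut F p (⨅ A ∈ 𝒜, A) := npaut_of_paut F hN h1
    rw [← hIeq] at h2
    exact inner_of_paut hS F hF (paut_of_npaut_axFam hp hS F hF 𝒜 h𝒜 hne hinv hrep h2)

end Cfsg.Agent.S5272
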