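import Cfsg.Statements.S5296
import Cfsg.Agent.Lib.Helper84.FusionSmallControl3
import Cfsg.Agent.S5124

set_option autoImplicit false
universe u
open Cfsg

namespace Cfsg.Agent.S5296

open Cfsg.FusionSystem Cfsg.Agent.Lib.Helper84 Cfsg.Agent.Lib.Helper87 Cfsg.Agent.Lib.Helper29

/-- Small-exponent abelian subgroups of the hyperfocal subgroup control fusion. Let E and F be saturated fusion systems over the same finite p-group S with E contained in F. Suppose that E and F have the same maps between A and B for all subgroups A, B of the hyperfocal subgroup of F that are elementary abelian when p is odd, respectively abelian of exponent dividing 4 when p = 2. Then E = F. -/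
theorem result {Ω : Type u} [Group Ω] {S : Subgroup Ω} [Finite S] (p : ℕ) [Fact p.Prime] (hS : IsPGroup p S)
    (E F : Cfsg.FusionSystem S) (hE : E.IsSaturated p) (hF : F.IsSaturated p) (hEF : E.IsSubsystemOf F)
    (hodd : p ≠ 2 → ∀ A B : Subgroup Ω, A ≤ (F.hyperfocalSubgroup p) → B ≤ (F.hyperfocalSubgroup p) →
      Cfsg.IsElementaryAbelian p A → Cfsg.IsElementaryAbelian p B → E.homSet A B = F.homSet A B)
    (htwo : p = 2 → ∀ A B : Subgroup Ω, A ≤ (F.hyperfocalSubgroup p) → B ≤ (F.hyperfocalSubgroup p) →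
      IsMulCommutative ↥A → IsMulCommutative ↥B → (∀ a ∈ A, a ^ 4 = 1) → (∀ b ∈ B, b ^ 4 = 1) → E.homSet A B = F.homSet A B) :
    ∀ P : Subgroup Ω, E.Hom P = F.Hom P := by
  have hsc : F.StronglyClosed (F.hyperfocalSubgroup p) := Cfsg.Agent.S5124.result p hS F hF
  have hcomm : ∀ A : Subgroup Ω, (∀ a ∈ A, ∀ b ∈ A, a * b = b * a) → IsMulCommutative ↥A :=
    fun A h => ⟨⟨fun a b => Subtype.ext (h a a.2 b b.2)⟩⟩
  have hfoc : ∀ R₀ : Subgroup Ω, R₀ ≤ S → ∀ ρ ∈ F.autGroup R₀, (orderOf ρ).Coprime p →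
      ∀ x : R₀, ((x⁻¹ * ρ x : R₀) : Ω) ∈ F.hyperfocalSubgroup p := by
    intro R₀ hR₀S ρ hρ hcop x
    have hres : (⟨ρ, hρ⟩ : F.autGroup R₀) ∈ pResidual p (F.autGroup R₀) := by
      apply Subgroup.subset_closure
      show Nat.Coprime (orderOf (⟨ρ, hρ⟩ : F.autGroup R₀)) p
      have : orderOf (⟨ρ, hρ⟩ : F.autGroup R₀) = orderOf ρ := by
        rw [← Subgroup.orderOf_coe]
      rw [this]; exact hcop
    apply Subgroup.subset_closure
    exact ⟨R₀, ⟨ρ, hρ⟩, x, hR₀S, hres, by simp⟩
  have hsm : ∀ A B : Subgroup Ω, IsSmallSub p (F.hyperfocalSubgroup p) A → IsSmallSub p (F.hyperfocalSubgroup p) B →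
      ∀ f : A ≃* B, IsIso F f → IsIso E f := by
    intro A B hA hB f hf
    have hmem : B.subtype.comp f.toMonoidHom ∈ F.homSet A B := ⟨hf, fun x => (f x).2⟩
    have heq : E.homSet A B = F.homSet A B := by
      by_cases hp2 : p = 2
      · have h4 : smallExp p = 4 := by unfold smallExp; rw [if_pos hp2]
        exact htwo hp2 A B hA.1 hB.1 (hcomm A hA.2.1) (hcomm B hB.2.1)
          (fun a ha => h4 ▸ hA.2.2 a ha) (fun b hb => h4 ▸ hB.2.2 b hb)
      · have hpp : smallExp p = p := by unfold smallExp; rw [if_neg hp2]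
        exact hodd hp2 A B hA.1 hB.1 ⟨hcomm A hA.2.1, fun a ha => hpp ▸ hA.2.2 a ha⟩
          ⟨hcomm B hB.2.1, fun b hb => hpp ▸ hB.2.2 b hb⟩
    rw [← heq] at hmem
    exact hmem.1
  have main := le_of_small_control F E p hS hF hE hEF (F.hyperfocalSubgroup p) hsc hfoc hsm
  intro P
  exact Set.Subset.antisymm (hEF P) (main P)

end Cfsg.Agent.S5296
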