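import Cfsg.Statements.S5275
import Cfsg.Agent.Lib.Helper88.FusionNilpStrongly

set_option autoImplicit false
open Cfsg

namespace Cfsg.Agent.S5275

open Cfsg.FusionSystem Cfsg.Agent.Lib.Helper87 Cfsg.Agent.Lib.Helper88.NilpRed

/-- A Glauberman–Thompson nilpotency criterion for fusion systems relative to a strongly closed subgroup. Let p be an odd prime, F a saturated fusion system over a finite p-group S, and D a subgroup of S that is strongly closed in F. Let Z(J(D)) be the centre of the subgroup of D generated by the abelian subgroups of D of largest order. Then F is the inner fusion system of S if and only if the normalizer fusion system of Z(J(D)) in F is the inner fusion system of N_S(Z(J(D))) = S. -/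
theorem result {Ω : Type*} [Group Ω] {S : Subgroup Ω} [Finite S] (p : ℕ) [Fact p.Prime] (hS : IsPGroup p ↥S) (F : Cfsg.FusionSystem S) (hF : F.IsSaturated p) (hp : p ≠ 2) (D : Subgroup Ω) (hD : F.StronglyClosed D) : (∀ P : Subgroup Ω, F.Hom P = (Cfsg.innerFusionSystem S).Hom P) ↔ ∀ N : Cfsg.FusionSystem (Cfsg.FusionSystem.normalizerIn S (Cfsg.centerThompsonAOf D)), F.IsNormalizerSystem (Cfsg.centerThompsonAOf D) N → ∀ P : Subgroup Ω, N.Hom P = (Cfsg.innerFusionSystem (Cfsg.FusionSystem.normalizerIn S (Cfsg.centerThompsonAOf D))).Hom P := by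
  have hDn : ∀ g ∈ S, ∀ x ∈ D, g * x * g⁻¹ ∈ D := fun g hg x hx => StronglyClosed_conj_mem hD hg hx
  have hWS : centerThompsonAOf D ≤ S := (zjOf_le D).trans hD.1
  have hSN : S ≤ normalizerIn S (centerThompsonAOf D) := le_normalizerIn_zjOf hS hD.1 hDn
  constructor
  · intro h N hN P
    apply Set.Subset.antisymm _ (inner_hom_subset N P)
    intro φ hφ
    have hφ' := hφ
    rw [hN P] at hφ'
    obtain ⟨hφF, hPN, -, -⟩ := hφ'
    rw [h P] at hφF
    obtain ⟨-, g, hg, hgφ⟩ := hφF
    exact ⟨hPN, g, hSN hg, hgφ⟩
  · intro h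
    have hN := isNormalizerSystem_normalizerSystem F (centerThompsonAOf D) hWS
    have hTS : normalizerIn S (centerThompsonAOf D) ≤ S := inf_le_left
    have h1 : PAut (normalizerSystem F (centerThompsonAOf D) hWS) p :=
      paut_of_inner (hS.to_le hTS) _ (h _ hN)
    have h2 : NPAut F p (centerThompsonAOf D) := npaut_of_paut F hN h1
    exact inner_of_paut hS F hF (paut_of_npaut_zj_stronglyClosed hp hS F hF hD h2)

end Cfsg.Agent.S5275
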