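import Cfsg.Statements.S5276
import Cfsg.Agent.Lib.Helper85.FusionInnerCrit

set_option autoImplicit false
open Cfsg

namespace Cfsg.Agent.S5276

open scoped commutatorElement

open Cfsg.FusionSystem Cfsg.Agent.Lib.Helper85 in
/-- the normalizer system of `S` in the inner system is inner, and `Φ(S)` is strongly closed in it -/
theorem forward {Ω : Type*} [Group Ω] {S : Subgroup Ω} (F : Cfsg.FusionSystem S)
    (h : ∀ P : Subgroup Ω, F.Hom P = (Cfsg.innerFusionSystem S).Hom P) :
    (∀ N : Cfsg.FusionSystem (Cfsg.FusionSystem.normalizerIn S S), F.IsNormalizerSystem S N →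
      ∀ P : Subgroup Ω, N.Hom P = (Cfsg.innerFusionSystem (Cfsg.FusionSystem.normalizerIn S S)).Hom P) ∧
    F.StronglyClosed ((frattini ↥S).map S.subtype) := by
  have hSN : S ≤ normalizerIn S S := fun x hx => ⟨hx, Subgroup.le_normalizer hx⟩
  constructor
  · intro N hN P
    rw [hN P]
    ext φ
    constructor
    · rintro ⟨hφ, hP, -, -⟩
      rw [h P] at hφ
      obtain ⟨-, g, hg, hgx⟩ := hφ
      exact ⟨hP, g, hSN hg, hgx⟩
    · rintro ⟨hP, g, hg, hgx⟩
      have hPS : P ≤ S := hP.trans inf_le_left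
      have hφ : φ = Cfsg.conjHom P g := by
        ext x
        exact hgx x
      rw [hφ]
      refine ⟨F.conj_mem hPS hg.1, hP, fun x => hSN ?_, Cfsg.conjHom (P ⊔ S) g,
        F.conj_mem (sup_le hPS le_rfl) hg.1, fun x => rfl, ?_⟩
      · exact S.mul_mem (S.mul_mem hg.1 (hPS x.2)) (S.inv_mem hg.1)
      · rw [Cfsg.Agent.Lib.Helper87.map_subgroupOf_eq_iff]
        refine ⟨fun x hx => S.mul_mem (S.mul_mem hg.1 hx) (S.inv_mem hg.1), fun q hq => ?_⟩
        refine ⟨⟨g⁻¹ * q * g, le_sup_right (a := P) (S.mul_mem (S.mul_mem (S.inv_mem hg.1) hq) hg.1)⟩,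
          S.mul_mem (S.mul_mem (S.inv_mem hg.1) hq) hg.1, ?_⟩
        show g * (g⁻¹ * q * g) * g⁻¹ = q
        group
  · refine ⟨Subgroup.map_subtype_le _, fun R hR φ hφ x => ?_⟩
    rw [h R] at hφ
    obtain ⟨hRS, g, hg, hgx⟩ := hφ
    rw [hgx x]
    obtain ⟨y, hy, hyx⟩ := hR x.2
    have hn : (frattini ↥S).Normal := inferInstance
    refine ⟨(⟨g, hg⟩ : S) * y * (⟨g, hg⟩ : S)⁻¹, hn.conj_mem y hy _, ?_⟩
    show g * (y : Ω) * g⁻¹ = g * (x : Ω) * g⁻¹
    rw [← hyx]
    rfl

/-- Let p be a prime and F a saturated fusion system over a finite p-group S. Then F is the inner fusion system of S if and only if the normalizer fusion system of S itself in F is the inner fusion system (equivalently, Aut_F(S) is induced by S) and the Frattini subgroup Φ(S) is strongly closed in F. -/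
theorem result {Ω : Type*} [Group Ω] {S : Subgroup Ω} [Finite S] (p : ℕ) [Fact p.Prime] (hS : IsPGroup p ↥S) (F : Cfsg.FusionSystem S) (hF : F.IsSaturated p) : (∀ P : Subgroup Ω, F.Hom P = (Cfsg.innerFusionSystem S).Hom P) ↔ (∀ N : Cfsg.FusionSystem (Cfsg.FusionSystem.normalizerIn S S), F.IsNormalizerSystem S N → ∀ P : Subgroup Ω, N.Hom P = (Cfsg.innerFusionSystem (Cfsg.FusionSystem.normalizerIn S S)).Hom P) ∧ F.StronglyClosed ((frattini ↥S).map S.subtype) := by
  open Cfsg.Agent.Lib.Helper85 in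
  constructor
  · exact forward F
  · rintro ⟨hN, hΦ⟩
    have hcomm : ⁅(S : Subgroup Ω), (S : Subgroup Ω)⁆ ≤ (frattini ↥S).map S.subtype := by
      rw [Subgroup.commutator_le]
      intro g₁ hg₁ g₂ hg₂
      refine ⟨⁅(⟨g₁, hg₁⟩ : S), ⟨g₂, hg₂⟩⁆, ?_, rfl⟩
      exact commutator_le_frattini_of_isPGroup hS
        (Subgroup.commutator_mem_commutator (Subgroup.mem_top _) (Subgroup.mem_top _))
    have := eq_inner_of_stronglyClosed_le_frattini F hS hF (aut_top_inner_of_normalizer_inner F hN)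
      _ hΦ hcomm le_rfl
    intro P
    rw [this]

end Cfsg.Agent.S5276
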