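import Cfsg.Statements.S5278
import Cfsg.Agent.Lib.Helper88.GlaubSubCore
import Cfsg.Agent.S5193
import Cfsg.Agent.S2999

set_option autoImplicit false
open Cfsg

namespace Cfsg.Agent.S5278

universe u

open Cfsg.FusionSystem Cfsg.Agent.Lib.Helper33 Cfsg.Agent.Lib.Helper47 Cfsg.Agent.Lib.Helper85
open Cfsg.Agent.Lib.Helper86 Cfsg.Agent.Lib.Helper86.WC Cfsg.Agent.Lib.Helper88.StabWC

/-- a torus subgroup of `Aut_N(T)` for a normalizer system `N` of `F` is a torus subgroup of `Aut_F(T)` -/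
theorem hasTorusAut_mono {Ω : Type*} [Group Ω] {S : Subgroup Ω} (p : ℕ) (F : Cfsg.FusionSystem S) {Q : Subgroup Ω}
    {N : Cfsg.FusionSystem (normalizerIn S Q)} (hN : F.IsNormalizerSystem Q N) (T : Subgroup Ω)
    (h : HasTorusAut p N T) : HasTorusAut p F T := by
  obtain ⟨X, hX, h2⟩ := h
  refine ⟨X, hX.trans ?_, h2⟩
  unfold FusionSystem.autGroup
  apply Subgroup.closure_mono
  intro α hα
  have h1 : T.subtype.comp α.toMonoidHom ∈ N.Hom T := hα
  rw [hN T] at h1
  exact h1.1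

/-- the hypotheses of the subgroup reduction for `J` and the predicate "no torus subgroup in `Aut(T)`", `p` odd -/
theorem stabHyp_thompsonA (h2999 : Cfsg.Agent.Lib.Helper88.GlaubSub.S2999Stmt.{u}) (p : ℕ) [Fact p.Prime] (hp : p ≠ 2) {Ω : Type u} [Group Ω] (T : Subgroup Ω) :
    StabHyp p (fun (Q : Type u) [Group Q] => Cfsg.thompsonSubgroupA Q) T
      (fun (S' : Subgroup Ω) (E : Cfsg.FusionSystem S') => ¬ HasTorusAut p E T) where
  hW := isCharPFunctor_thompsonA p
  hWZ := fun Q _ _ _ => Cfsg.Agent.S5193.center_le_thompsonSubgroupA Q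
  pr := by
    intro S' _ hS' E hE hfree Q hQ N hN hcon
    exact hfree (hasTorusAut_mono p E hN T hcon)
  hmod := by
    intro S' _ hS' E L _ ι hM hfree hT hfix
    refine stab_of_model_of_group (isCharPFunctor_thompsonA p)
      (fun Q _ _ _ => Cfsg.Agent.S5193.center_le_thompsonSubgroupA Q) hS' E L ι hM ?_ hT hfix hfree
    intro hfin R hcen T' hT' hN
    exact Cfsg.Agent.Lib.Helper88.GlaubSub.core h2999 hp R hcen T' hT' hN

/-- Let p be an odd prime, F a saturated fusion system over a finite p-group S, and T a subgroup of Z(S) such that the normalizer fusion system of J(S) in F is contained in the normalizer fusion system of T, J(S) being the subgroup generated by the abelian subgroups of S of largest order. Then either T is weakly closed in F, or Aut_F(T) has a nontrivial cyclic subgroup X of order prime to p that permutes transitively the non-identity elements of the commutator [T, X] (the subgroup of T generated by the elements ψ(t)·t⁻¹ with ψ in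 X and t in T). -/
theorem result {Ω : Type*} [Group Ω] {S : Subgroup Ω} [Finite S] (p : ℕ) [Fact p.Prime] (hS : IsPGroup p ↥S) (F : Cfsg.FusionSystem S) (hF : F.IsSaturated p) (hp : p ≠ 2) (T : Subgroup Ω) (hT : T ≤ S ⊓ Subgroup.centralizer (S : Set Ω)) (hJT : ∀ NJ : Cfsg.FusionSystem (Cfsg.FusionSystem.normalizerIn S (Cfsg.thompsonSubgroupAOf S)), F.IsNormalizerSystem (Cfsg.thompsonSubgroupAOf S) NJ → ∀ NT : Cfsg.FusionSystem (Cfsg.FusionSystem.normalizerIn S T), F.IsNormalizerSystem T NT → NJ.IsSubsystemOf NT) : F.WeaklyClosed T ∨ ∃ X : Subgroup (MulAut ↥T), X ≤ F.autGroup T ∧ X ≠ ⊥ ∧ IsCyclic ↥X ∧ (Nat.card ↥X).Coprime p ∧ ∀ a b : ↥T, a ∈ Subgroup.closure {y : ↥T | ∃ ψ ∈ X, ∃ t : ↥T, y = ψ t * t⁻¹} → b ∈ Subgroup.closure {y : ↥T | ∃ ψ ∈ X, ∃ t : ↥T, y = ψ t * t⁻¹} → a ≠ 1 → b ≠ 1 → ∃ ψ ∈ X, ψ a = b := by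
  classical
  by_cases hX : HasTorusAut p F T
  · exact Or.inr hX
  left
  have hTS : T ≤ S := hT.trans inf_le_left
  have hJS : Cfsg.thompsonSubgroupAOf S ≤ S := thompsonSubgroupAOf_le' S
  have hNJ := Cfsg.Agent.Lib.Helper87.isNormalizerSystem_normalizerSystem F (Cfsg.thompsonSubgroupAOf S) hJS
  have hNT := Cfsg.Agent.Lib.Helper87.isNormalizerSystem_normalizerSystem F T hTS
  have hsub := hJT _ hNJ _ hNT
  -- `N_F(J(S))` stabilizes `T`
  have hfix : StabN F (Cfsg.inducedFunctor (fun (Q : Type _) [Group Q] => Cfsg.thompsonSubgroupA Q) S) T := by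
    intro P φ hφ hTP t
    have h1 : φ ∈ (Cfsg.Agent.Lib.Helper87.normalizerSystem F (Cfsg.thompsonSubgroupAOf S) hJS).Hom P := by
      rw [hNJ P]
      exact hφ
    have h2 := hsub P h1
    rw [hNT P] at h2
    obtain ⟨-, -, -, ψ, -, e1, e2⟩ := h2
    rw [← e1 ⟨t, hTP t.2⟩]
    exact e2.le ⟨_, Subgroup.mem_subgroupOf.2 (by exact t.2), rfl⟩
  exact weaklyClosed_of_stabN (stabHyp_thompsonA (fun V P hV hPV hfaith hmin T M hM hTM A hAT hAel hi hii hiii =>
    Cfsg.Agent.S2999.result V P hV hPV hfaith hmin T M hM hTM A hAT hAel hi hii hiii) p hp T) hS F hF hX hT hfix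

end Cfsg.Agent.S5278
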