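import Cfsg.Statements.S5279
import Cfsg.Agent.Lib.Helper10.PStableZJOdd
import Cfsg.Agent.S5246
import Cfsg.Agent.Lib.Helper85.FusionNormal

set_option autoImplicit false
open Cfsg

namespace Cfsg.Agent.S5279

/-- Let p be an odd prime, G a finite group with a nontrivial Sylow p-subgroup P, and F the fusion system of G on P. Suppose F is p-stable: for every fully normalized subgroup Q and every χ in Aut_F(Q) acting quadratically on Q (χ(a⁻¹)·a·χ(a⁻¹)·χ(χ(a)) = 1 for all a in Q), χ lies in O_p(Aut_F(Q)). Then some nontrivial subgroup of P is normal in F. -/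
theorem result {Ω : Type*} [Group Ω] [Finite Ω] (p : ℕ) [Fact p.Prime] (hp : p ≠ 2) (P : Sylow p Ω) (hP : (P : Subgroup Ω) ≠ ⊥) (hst : (∀ Q : Subgroup Ω, (Cfsg.groupFusionSystem (P : Subgroup Ω)).IsFullyNormalized Q → ∀ χ : MulAut ↥Q, χ ∈ (Cfsg.groupFusionSystem (P : Subgroup Ω)).autGroup Q → (∀ a : ↥Q, (χ a⁻¹) * a * (χ a⁻¹) * (χ (χ a)) = 1) → χ ∈ ((Cfsg.pCore p ↥((Cfsg.groupFusionSystem (P : Subgroup Ω)).autGroup Q)).map ((Cfsg.groupFusionSystem (P : Subgroup Ω)).autGroup Q).subtype : Subgroup (MulAut ↥Q)))) : (Cfsg.groupFusionSystem (P : Subgroup Ω)).core ≠ ⊥ := by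
  classical
  have hnps : Cfsg.IsNormalizerPStable p Ω := (Cfsg.Agent.S5246.result hp P).mpr hst
  have hctl := Cfsg.Agent.Lib.Helper10.controlsStrongFusionOf_zj_of_pstable_odd hp hnps P
  obtain ⟨Z, hZ⟩ : ∃ Z : Subgroup Ω, Z = Cfsg.centerThompsonAOf (P : Subgroup Ω) := ⟨_, rfl⟩
  rw [← hZ] at hctl
  have hZP : Z ≤ (P : Subgroup Ω) := by
    rw [hZ, ← Cfsg.Agent.Lib.Helper10.inducedFunctor_zjFun]
    exact Subgroup.map_subtype_le _
  have hZne : Z ≠ ⊥ := by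
    rw [hZ, ← Cfsg.Agent.Lib.Helper10.inducedFunctor_zjFun]
    intro h
    have h1 : Cfsg.Agent.Lib.Helper10.zjFun ↥(P : Subgroup Ω) = ⊥ := by
      have h2 : (Cfsg.Agent.Lib.Helper10.zjFun ↥(P : Subgroup Ω)).map (P : Subgroup Ω).subtype = ⊥ := h
      rwa [Subgroup.map_eq_bot_iff_of_injective _ (P : Subgroup Ω).subtype_injective] at h2
    have hnt : Nontrivial ↥(P : Subgroup Ω) := (Subgroup.nontrivial_iff_ne_bot _).mpr hP
    exact (Cfsg.Agent.Lib.Helper10.isCharPFunctor_zjFun p).1 ↥(P : Subgroup Ω) P.isPGroup' hnt h1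
  have hnormal : (Cfsg.groupFusionSystem (P : Subgroup Ω)).IsNormal Z := by
    refine ⟨hZP, ?_⟩
    rintro A φ ⟨hAP, hφP, g, hg⟩
    obtain ⟨-, hc⟩ := hctl (A : Set Ω) hAP
    obtain ⟨n, hn, hna⟩ := hc g (by
      rintro _ ⟨x, hx, rfl⟩
      have := hφP ⟨x, hx⟩
      rwa [hg ⟨x, hx⟩] at this)
    have hAZ : A ⊔ Z ≤ (P : Subgroup Ω) := sup_le hAP hZP
    have hnZ : ∀ x, x ∈ Z ↔ n * x * n⁻¹ ∈ Z := Subgroup.mem_normalizer_iff.mp hn
    have hnval : ∀ x ∈ A ⊔ Z, n * x * n⁻¹ ∈ (P : Subgroup Ω) := by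
      intro x hx
      have h1 : (A ⊔ Z).map (MulAut.conj n).toMonoidHom ≤ (P : Subgroup Ω) := by
        rw [Subgroup.map_sup]
        apply sup_le
        · rintro _ ⟨y, hy, rfl⟩
          show n * y * n⁻¹ ∈ (P : Subgroup Ω)
          rw [← hna y hy, ← hg ⟨y, hy⟩]
          exact hφP ⟨y, hy⟩
        · rintro _ ⟨y, hy, rfl⟩
          exact hZP ((hnZ y).mp hy)
      exact h1 ⟨x, hx, rfl⟩
    refine ⟨Cfsg.conjHom (A ⊔ Z) n, ⟨hAZ, fun x => hnval x x.2, n, fun x => rfl⟩, ?_, ?_⟩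
    · intro x
      show n * (x : Ω) * n⁻¹ = φ x
      rw [hg x, hna x x.2]
    · ext y
      constructor
      · rintro ⟨x, hx, rfl⟩
        exact (hnZ x).mp hx
      · intro hy
        have hy' : n⁻¹ * y * n ∈ Z := by
          rw [hnZ]
          have e : n * (n⁻¹ * y * n) * n⁻¹ = y := by group
          rw [e]; exact hy
        refine ⟨⟨n⁻¹ * y * n, (le_sup_right : Z ≤ A ⊔ Z) hy'⟩, hy', ?_⟩
        show n * (n⁻¹ * y * n) * n⁻¹ = y
        group
  have hle := Cfsg.Agent.Lib.Helper85.le_core_of_isNormal _ hnormal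
  intro h
  rw [h] at hle
  exact hZne (le_bot_iff.mp hle)

end Cfsg.Agent.S5279
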