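import Cfsg.Statements.S5280
import Cfsg.Agent.Lib.Helper33.FusionPStable
import Cfsg.Agent.Lib.Helper33.CentralQuotZJ
import Cfsg.Agent.Lib.Helper33.GroupFusionNormal
import Cfsg.Agent.Lib.Helper85.FusionNormal
import Cfsg.Agent.Lib.Helper85.FusionRealized
import Cfsg.Agent.Lib.Helper87.FusionNormal
import Cfsg.Agent.Lib.Helper88.FusionAut
import Cfsg.Agent.Lib.Helper88.FusionNormalCrit

set_option autoImplicit false
open Cfsg

namespace Cfsg.Agent.S5280

open Cfsg.FusionSystem Cfsg.Agent.Lib.Helper33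
open scoped commutatorElement

set_option linter.unusedSectionVars false
set_option linter.style.haveILetI false

/-- In a `p`-stable group (`p ≥ 5`), `O_p(F_P(G))` contains its centralizer in `P`. -/
theorem centralizerIn_core_le {Ω : Type*} [Group Ω] [Finite Ω] (p : ℕ) [Fact p.Prime]
    (hp5 : 5 ≤ p) (P : Sylow p Ω) (hstG : IsNormalizerPStable p Ω) :
    centralizerIn (P : Subgroup Ω) (groupFusionSystem (P : Subgroup Ω)).core ≤
      (groupFusionSystem (P : Subgroup Ω)).core := by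
  classical
  set F := groupFusionSystem (P : Subgroup Ω) with hF
  have hS : IsPGroup p (P : Subgroup Ω) := P.isPGroup'
  have hsat : F.IsSaturated p := Cfsg.Agent.Lib.Helper85.groupFusionSystem_isSaturated P
  obtain ⟨Q, hQdef⟩ : ∃ Q : Subgroup Ω, Q = F.core := ⟨_, rfl⟩
  rw [← hQdef]
  have hQn : F.IsNormal Q := by rw [hQdef]; exact Cfsg.Agent.Lib.Helper85.isNormal_core F
  have hQP : Q ≤ P := hQn.1
  have hQsc : F.StronglyClosed Q := Cfsg.Agent.Lib.Helper88.isNormal_stronglyClosed F hQn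
  by_contra hnc
  obtain ⟨N, hN⟩ : ∃ N : Subgroup Ω, N = Subgroup.normalizer (Q : Set Ω) := ⟨_, rfl⟩
  have hPN : (P : Subgroup Ω) ≤ N := by
    intro s hs
    rw [hN, Subgroup.mem_normalizer_iff]
    intro x
    constructor
    · intro hx; exact Cfsg.Agent.Lib.Helper87.StronglyClosed_conj_mem hQsc hs hx
    · intro hx
      have h1 := Cfsg.Agent.Lib.Helper87.StronglyClosed_conj_mem hQsc
        (Subgroup.inv_mem _ hs) hx
      have e : s⁻¹ * (s * x * s⁻¹) * s⁻¹⁻¹ = x := by group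
      rwa [e] at h1
  have hQN : Q ≤ N := hQP.trans hPN
  -- the group `↥N`
  obtain ⟨QN, hQNdef⟩ : ∃ QN : Subgroup N, QN = Q.subgroupOf N := ⟨_, rfl⟩
  have hQNmem : ∀ x : N, x ∈ QN ↔ (x : Ω) ∈ Q := by
    intro x; rw [hQNdef, Subgroup.mem_subgroupOf]
  haveI hQNn : QN.Normal := by
    rw [hQNdef, hN]; exact Subgroup.normal_in_normalizer
  have hQNp : IsPGroup p QN := by rw [hQNdef]; exact (hS.to_le hQP).comap_subtype
  obtain ⟨SN, hSN⟩ : ∃ SN : Sylow p N, (SN : Subgroup N) = (P : Subgroup Ω).subgroupOf N :=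
    ⟨P.subtype hPN, Sylow.coe_subtype P hPN⟩
  have hSNmem : ∀ x : N, x ∈ (SN : Subgroup N) ↔ (x : Ω) ∈ (P : Subgroup Ω) := by
    intro x; rw [hSN, Subgroup.mem_subgroupOf]
  have hcentN : ∀ x : N, x ∈ Subgroup.centralizer (QN : Set N) ↔
      (x : Ω) ∈ Subgroup.centralizer (Q : Set Ω) := by
    intro x
    rw [Subgroup.mem_centralizer_iff, Subgroup.mem_centralizer_iff]
    constructor
    · intro h q hq
      exact congrArg Subtype.val (h ⟨q, hQN hq⟩ ((hQNmem _).mpr hq))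
    · intro h q hq
      exact Subtype.ext (h q ((hQNmem q).mp hq))
  have hstN : IsNormalizerPStable p N := Cfsg.Agent.S3836.result hstG N
  have hncN : ¬ (SN : Subgroup N) ⊓ Subgroup.centralizer (QN : Set N) ≤ QN := by
    intro hle
    apply hnc
    intro x hx
    have hx' : x ∈ (P : Subgroup Ω) ∧ x ∈ Subgroup.centralizer (Q : Set Ω) := Subgroup.mem_inf.mp hx
    have hxN : x ∈ N := hPN hx'.1
    have h1 : (⟨x, hxN⟩ : N) ∈ (SN : Subgroup N) ⊓ Subgroup.centralizer (QN : Set N) :=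
      Subgroup.mem_inf.mpr ⟨(hSNmem _).mpr hx'.1, (hcentN _).mpr hx'.2⟩
    exact (hQNmem _).mp (hle h1)
  obtain ⟨Y0, hY0S, hY0C, hZY0, hY0Q, hY0comm, hY0sc⟩ :=
    exists_stronglyClosed_of_not_centric hp5 hstN QN hQNp SN hncN
  obtain ⟨Y, hY⟩ : ∃ Y : Subgroup Ω, Y = Y0.map N.subtype := ⟨_, rfl⟩
  have hYmem : ∀ y : Ω, y ∈ Y ↔ ∃ hy : y ∈ N, (⟨y, hy⟩ : N) ∈ Y0 := by
    intro y; rw [hY]; constructor
    · rintro ⟨y', hy', rfl⟩; exact ⟨y'.2, hy'⟩
    · rintro ⟨hy, hy'⟩; exact ⟨⟨y, hy⟩, hy', rfl⟩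
  have hYP : Y ≤ P := by
    intro y hy
    obtain ⟨hyN, hy0⟩ := (hYmem y).mp hy
    exact (hSNmem _).mp (hY0S hy0)
  have hYC : Y ≤ Subgroup.centralizer (Q : Set Ω) := by
    intro y hy
    obtain ⟨hyN, hy0⟩ := (hYmem y).mp hy
    exact (hcentN _).mp (hY0C hy0)
  obtain ⟨Z, hZ⟩ : ∃ Z : Subgroup Ω, Z = Q ⊓ Subgroup.centralizer (Q : Set Ω) := ⟨_, rfl⟩
  have hZY : Z ≤ Y := by
    intro z hz
    rw [hZ] at hz
    have hz' := Subgroup.mem_inf.mp hz
    exact (hYmem z).mpr ⟨hQN hz'.1, hZY0 (Subgroup.mem_inf.mpr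
      ⟨(hQNmem _).mpr hz'.1, (hcentN _).mpr hz'.2⟩)⟩
  have hYQ : ¬ Y ≤ Q := by
    intro h
    apply hY0Q
    intro y hy
    exact (hQNmem _).mpr (h ((hYmem _).mpr ⟨y.2, hy⟩))
  have hYcomm : ⁅Y, Y⁆ ≤ Z := by
    rw [Subgroup.commutator_le]
    intro a ha b hb
    obtain ⟨haN, ha0⟩ := (hYmem a).mp ha
    obtain ⟨hbN, hb0⟩ := (hYmem b).mp hb
    have h1 : ⁅(⟨a, haN⟩ : N), ⟨b, hbN⟩⁆ ∈ QN :=
      hY0comm (Subgroup.commutator_mem_commutator ha0 hb0)
    have h2 : ⁅a, b⁆ ∈ Q := (hQNmem _).mp h1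
    have h3 : ⁅a, b⁆ ∈ Y := by
      rw [commutatorElement_def]
      exact Y.mul_mem (Y.mul_mem (Y.mul_mem ha hb) (Y.inv_mem ha)) (Y.inv_mem hb)
    rw [hZ]
    exact Subgroup.mem_inf.mpr ⟨h2, hYC h3⟩
  have hYsc : F.StronglyClosed Y := by
    refine ⟨hYP, fun R hRY φ hφ x => ?_⟩
    obtain ⟨hRP, hφP, g, hg⟩ := hφ
    obtain ⟨g', hg'N, hg'⟩ := exists_mem_normalizer_of_isNormal hQn R hRP g
      (fun y hy => by rw [← hg ⟨y, hy⟩]; exact hφP _)
    rw [hg, ← hg' x x.2]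
    obtain ⟨hxN, hx0⟩ := (hYmem _).mp (hRY x.2)
    have hg'N' : g' ∈ N := by rw [hN]; exact hg'N
    have hconjP : g' * x * g'⁻¹ ∈ (P : Subgroup Ω) := by
      rw [hg' x x.2, ← hg]; exact hφP x
    have h1 := hY0sc ⟨x, hxN⟩ hx0 ⟨g', hg'N'⟩ ((hSNmem _).mpr hconjP)
    exact (hYmem _).mpr ⟨N.mul_mem (N.mul_mem hg'N' hxN) (N.inv_mem hg'N'), h1⟩
  have hZwc : F.WeaklyClosed Z := by rw [hZ]; exact weaklyClosed_center_of_isNormal hQn
  have hbot : F.WeaklyClosed ⊥ := by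
    refine ⟨bot_le, fun φ _ => ?_⟩
    ext y
    constructor
    · rintro ⟨x, rfl⟩
      have hx : x = 1 := Subsingleton.elim _ _
      rw [hx, map_one]; exact Subgroup.one_mem _
    · intro hy
      rw [Subgroup.mem_bot] at hy
      rw [hy]; exact Subgroup.one_mem _
  obtain ⟨c, hc⟩ : ∃ c : ℕ → Subgroup Ω, c = fun k => if k = 0 then ⊥ else if k = 1 then Z else Y :=
    ⟨_, rfl⟩
  have hc0 : c 0 = ⊥ := by rw [hc]; simp
  have hc1 : c 1 = Z := by rw [hc]; simp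
  have hcn : ∀ k, 2 ≤ k → c k = Y := by
    intro k hk
    rw [hc]
    show (if k = 0 then ⊥ else if k = 1 then Z else Y) = Y
    rw [if_neg (by omega), if_neg (by omega)]
  have hmono : Monotone c := by
    apply monotone_nat_of_le_succ
    intro n
    rcases n with _ | _ | n
    · rw [hc0]; exact bot_le
    · rw [hc1, hcn 2 le_rfl]; exact hZY
    · rw [hcn (n + 2) (by omega), hcn (n + 2 + 1) (by omega)]
  have hcomm : ∀ k < 2, ⁅c (k + 1), Y⁆ ≤ c k := by
    intro k hk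
    interval_cases k
    · rw [hc1, hc0, Subgroup.commutator_le]
      intro z hz y hy
      rw [Subgroup.mem_bot, commutatorElement_eq_one_iff_mul_comm]
      rw [hZ] at hz
      exact (Subgroup.mem_centralizer_iff.mp (hYC hy)) z (Subgroup.mem_inf.mp hz).1
    · rw [hc1, hcn 2 le_rfl]; exact hYcomm
  have hwc : ∀ k < 2, F.WeaklyClosed (c k) := by
    intro k hk
    interval_cases k
    · rw [hc0]; exact hbot
    · rw [hc1]; exact hZwc
  have hYn : F.IsNormal Y :=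
    Cfsg.Agent.Lib.Helper87.isNormal_of_chain F hS hsat Y hYsc 2 c hc0 hcn hmono hcomm hwc
  have := Cfsg.Agent.Lib.Helper85.le_core_of_isNormal F hYn
  rw [← hQdef] at this
  exact hYQ this

/-- Let p be a prime greater than 3, G a finite group with Sylow p-subgroup P, and F the fusion system of G on P. Suppose F is p-stable: for every fully normalized subgroup Q and every χ in Aut_F(Q) acting quadratically on Q (χ(a⁻¹)·a·χ(a⁻¹)·χ(χ(a)) = 1 for all a in Q), χ lies in O_p(Aut_F(Q)). Then F is constrained: some subgroup normal in F is F-centric. -/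
theorem result {Ω : Type*} [Group Ω] [Finite Ω] (p : ℕ) [Fact p.Prime] (hp : 3 < p) (P : Sylow p Ω) (hst : (∀ Q : Subgroup Ω, (Cfsg.groupFusionSystem (P : Subgroup Ω)).IsFullyNormalized Q → ∀ χ : MulAut ↥Q, χ ∈ (Cfsg.groupFusionSystem (P : Subgroup Ω)).autGroup Q → (∀ a : ↥Q, (χ a⁻¹) * a * (χ a⁻¹) * (χ (χ a)) = 1) → χ ∈ ((Cfsg.pCore p ↥((Cfsg.groupFusionSystem (P : Subgroup Ω)).autGroup Q)).map ((Cfsg.groupFusionSystem (P : Subgroup Ω)).autGroup Q).subtype : Subgroup (MulAut ↥Q)))) : (Cfsg.groupFusionSystem (P : Subgroup Ω)).IsConstrained p := by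
  have hp5 : 5 ≤ p := by
    have hpp : p.Prime := Fact.out
    by_contra h
    have h4 : p = 4 := by omega
    rw [h4] at hpp
    norm_num at hpp
  have hstG : IsNormalizerPStable p Ω := isNormalizerPStable_of_fusion P hst
  have hQn := Cfsg.Agent.Lib.Helper85.isNormal_core (Cfsg.groupFusionSystem (P : Subgroup Ω))
  refine ⟨Cfsg.Agent.Lib.Helper85.groupFusionSystem_isSaturated P, _, hQn, hQn.1, fun Q' hconj => ?_⟩
  obtain ⟨φ, hφ, hr⟩ := hconj
  have h1 := Cfsg.Agent.Lib.Helper88.isNormal_range_eq _ hQn hφ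
  rw [h1] at hr
  rw [← hr]
  exact centralizerIn_core_le p hp5 P hstG

end Cfsg.Agent.S5280
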