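-- Statement S5281 (row 5281), helper88.
import Cfsg.Statements.S5281
import Cfsg.Agent.S5247
import Cfsg.Agent.Lib.Helper87.FusionNormalizer
import Cfsg.Agent.Lib.Helper88.FusionAlperinCR

set_option autoImplicit false
open Cfsg

namespace Cfsg.Agent.S5281

open Cfsg.Agent.Lib.Helper87 Cfsg.FusionSystem Cfsg.Agent.S5247

variable {Ω : Type*} [Group Ω] {S : Subgroup Ω}

/-- every automorphism of `Q` in the system extends to an automorphism of `X` in the system -/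
def Ext (F : FusionSystem S) (Q X : Subgroup Ω) : Prop :=
  Q ≤ X ∧ X ≤ S ∧ ∀ α : MulAut Q, α ∈ F.autGroup Q → ∃ β : MulAut X, β ∈ F.autGroup X ∧
    ∀ (x : Ω) (hx : x ∈ Q) (hx' : x ∈ X), ((β ⟨x, hx'⟩ : X) : Ω) = ((α ⟨x, hx⟩ : Q) : Ω)

theorem ext_refl (F : FusionSystem S) {X : Subgroup Ω} (hX : X ≤ S) : Ext F X X :=
  ⟨le_rfl, hX, fun α hα => ⟨α, hα, fun _ _ _ => rfl⟩⟩

theorem ext_trans {F : FusionSystem S} {Q X Y : Subgroup Ω} (h1 : Ext F Q X) (h2 : Ext F X Y) :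
    Ext F Q Y := by
  refine ⟨h1.1.trans h2.1, h2.2.1, fun α hα => ?_⟩
  obtain ⟨β, hβ, hβα⟩ := h1.2.2 α hα
  obtain ⟨γ, hγ, hγβ⟩ := h2.2.2 β hβ
  refine ⟨γ, hγ, fun x hx hx' => ?_⟩
  rw [hγβ x (h1.1 hx) hx', hβα x hx (h1.1 hx)]

/-- transport of the extension property along an isomorphism of the system -/
theorem ext_transport (F : FusionSystem S) {Q X X' : Subgroup Ω} (h : Ext F Q X) (ε : X ≃* X')
    (hε : IsIso F ε) : ∃ (Q' : Subgroup Ω) (e : Q ≃* Q'), IsIso F e ∧ Ext F Q' X' := by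
  obtain ⟨hQX, hXS, hext⟩ := h
  have hX'S : X' ≤ S := hε.le_right
  let φ : Q →* Ω := (X'.subtype.comp ε.toMonoidHom).comp (Subgroup.inclusion hQX)
  have hφ : φ ∈ F.Hom Q := Cfsg.Agent.Lib.Helper87.restrict_mem F hε hQX
  let e : Q ≃* φ.range := MonoidHom.ofInjective (F.injective_of_mem hφ)
  have he : IsIso F e := isIso_ofInjective F hφ
  have he_apply : ∀ q : Q, ((e q : φ.range) : Ω) = ((ε ⟨q.1, hQX q.2⟩ : X') : Ω) := fun q => rfl
  have hQ'X' : φ.range ≤ X' := by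
    rintro _ ⟨q, rfl⟩
    exact (ε ⟨q.1, hQX q.2⟩).2
  refine ⟨φ.range, e, he, hQ'X', hX'S, fun α' hα' => ?_⟩
  have hα : MulAut.congr e.symm α' ∈ F.autGroup Q := congr_mem_autGroup F he.symm hα'
  obtain ⟨β, hβ, hβα⟩ := hext _ hα
  refine ⟨MulAut.congr ε β, congr_mem_autGroup F hε hβ, ?_⟩
  intro y hy hy'
  obtain ⟨q, rfl⟩ : ∃ q : Q, ((e q : φ.range) : Ω) = y := ⟨e.symm ⟨y, hy⟩, by simp⟩
  have h1 : (⟨((e q : φ.range) : Ω), hy'⟩ : X') = ε ⟨q.1, hQX q.2⟩ := Subtype.ext rfl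
  have h2 : (⟨((e q : φ.range) : Ω), hy⟩ : φ.range) = e q := Subtype.ext rfl
  rw [h2]
  show ((ε (β (ε.symm ⟨((e q : φ.range) : Ω), hy'⟩)) : X') : Ω) = _
  rw [h1, MulEquiv.symm_apply_apply]
  have h3 : β ⟨q.1, hQX q.2⟩ = ⟨((e.symm (α' (e q)) : Q) : Ω), hQX (e.symm (α' (e q))).2⟩ := by
    apply Subtype.ext
    rw [hβα q.1 q.2 (hQX q.2)]
    rfl
  rw [h3]
  have h4 := he_apply (e.symm (α' (e q)))
  rw [MulEquiv.apply_symm_apply] at h4
  exact h4.symm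

theorem mem_normalizer_of_conj_eq {X : Subgroup Ω} {g : Ω} (k : MulAut X)
    (hgk : ∀ x : X, ((k x : X) : Ω) = g * (x : Ω) * g⁻¹) :
    g ∈ Subgroup.normalizer (X : Set Ω) := by
  rw [Subgroup.mem_normalizer_iff]
  intro h
  constructor
  · intro hh
    have := hgk ⟨h, hh⟩
    rw [← this]
    exact (k ⟨h, hh⟩).2
  · intro hh
    have := hgk (k.symm ⟨_, hh⟩)
    rw [MulEquiv.apply_symm_apply] at this
    have h2 : h = ((k.symm ⟨_, hh⟩ : X) : Ω) := by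
      have h3 : g * h * g⁻¹ = g * ((k.symm ⟨_, hh⟩ : X) : Ω) * g⁻¹ := this
      exact mul_left_cancel (mul_right_cancel h3)
    rw [h2]
    exact (k.symm ⟨_, hh⟩).2

/-- **Growing step.** A fully automized receptive subgroup `X` is centric and radical, or there is a strictly
bigger subgroup `X₁` of `S` to which every automorphism of `X` in the system extends. -/
theorem grow (F : FusionSystem S) [Finite S] {p : ℕ} [Fact p.Prime] (hS : IsPGroup p S)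
    {X : Subgroup Ω} (hXa : F.IsFullyAutomized p X) (hXr : F.IsReceptive X) :
    (F.IsCentric X ∧ F.IsRadical p X) ∨
      ∃ X₁ : Subgroup Ω, Nat.card X < Nat.card X₁ ∧ Ext F X X₁ := by
  have hXS : X ≤ S := hXa.1
  have hfinX : Finite X := finite_of_le hXS
  obtain ⟨-, R', hR'⟩ := hXa
  obtain ⟨K, hK⟩ : ∃ K : Subgroup (F.autGroup X), K = pCore p (F.autGroup X) := ⟨_, rfl⟩
  have hKn : K.Normal := hK ▸ Subgroup.sSup_normal _ (fun H hH => hH.1)
  have hKp : IsPGroup p K := hK ▸ Sylow.sSup_of_normal _ (fun _ h => h.2) (fun _ h => h.1)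
  have hKR' : K ≤ (R' : Subgroup (F.autGroup X)) := hKp.le_sylow_of_normal R'
  have hInnA : Inn X ≤ F.autGroup X :=
    (Cfsg.Agent.Lib.Helper88.inn_le_autInducedBy hXS).trans (autInducedBy_le_autGroup F hXS)
  have hInnK : Inn X ≤ K.map (F.autGroup X).subtype := by
    have hIn : ((Inn X).subgroupOf (F.autGroup X)).Normal := inferInstance
    have hIp : IsPGroup p ((Inn X).subgroupOf (F.autGroup X)) :=
      (Cfsg.Agent.Lib.Helper88.inn_isPGroup hS hXS).comap_subtype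
    have : (Inn X).subgroupOf (F.autGroup X) ≤ K := hK ▸ le_sSup ⟨hIn, hIp⟩
    intro x hx
    exact ⟨⟨x, hInnA hx⟩, this (Subgroup.mem_subgroupOf.mpr hx), rfl⟩
  have hKS : ∀ k ∈ K, (k : MulAut X) ∈ autInducedBy S X := by
    intro k hk
    have : k ∈ (autInducedBy S X).subgroupOf (F.autGroup X) := hR' ▸ hKR' hk
    exact Subgroup.mem_subgroupOf.mp this
  let X₁ : Subgroup Ω :=
    { carrier := {g | g ∈ S ∧ ∃ k ∈ K, ∀ x : X, (((k : MulAut X) x : X) : Ω) = g * (x : Ω) * g⁻¹}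
      one_mem' := ⟨S.one_mem, 1, K.one_mem, fun x => by simp⟩
      mul_mem' := by
        rintro a b ⟨ha, k, hk, hka⟩ ⟨hb, l, hl, hlb⟩
        refine ⟨S.mul_mem ha hb, k * l, K.mul_mem hk hl, fun x => ?_⟩
        show ((((k : MulAut X) ((l : MulAut X) x)) : X) : Ω) = _
        rw [hka, hlb]
        group
      inv_mem' := by
        rintro a ⟨ha, k, hk, hka⟩
        refine ⟨S.inv_mem ha, k⁻¹, K.inv_mem hk, fun x => ?_⟩
        have := hka ((k : MulAut X)⁻¹ x)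
        rw [MulAut.apply_inv_self] at this
        show ((((k : MulAut X)⁻¹ x) : X) : Ω) = _
        have h2 : (((k : MulAut X)⁻¹ x : X) : Ω) =
            a⁻¹ * (a * (((k : MulAut X)⁻¹ x : X) : Ω) * a⁻¹) * a⁻¹⁻¹ := by group
        rw [h2, ← this] }
  have hX₁_mem : ∀ g : Ω, g ∈ X₁ ↔
      g ∈ S ∧ ∃ k ∈ K, ∀ x : X, (((k : MulAut X) x : X) : Ω) = g * (x : Ω) * g⁻¹ := fun g => Iff.rfl
  have hX₁S : X₁ ≤ S := fun g hg => hg.1
  have hXX₁ : X ≤ X₁ := by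
    intro g hg
    refine ⟨hXS hg, ?_⟩
    have hmem : MulAut.conj (⟨g, hg⟩ : X) ∈ Inn X := ⟨⟨g, hg⟩, rfl⟩
    obtain ⟨k, hkK, hk⟩ := hInnK hmem
    refine ⟨k, hkK, fun x => ?_⟩
    have hk' : (k : MulAut X) = MulAut.conj (⟨g, hg⟩ : X) := hk
    rw [hk']
    rfl
  by_cases hle : X₁ ≤ X
  · left
    constructor
    · by_contra hnc
      obtain ⟨g, hg, hgX⟩ := Cfsg.Agent.Lib.Helper88.exists_centralizer_not_mem_of_not_centric F hS
        ⟨hXS, R', hR'⟩ hXr hnc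
      apply hgX
      apply hle
      refine ⟨hg.1, 1, K.one_mem, fun x => ?_⟩
      have hc := Subgroup.mem_centralizer_iff.1 hg.2 (x : Ω) x.2
      show (x : Ω) = g * (x : Ω) * g⁻¹
      rw [← hc, mul_inv_cancel_right]
    · refine ⟨hXS, ?_⟩
      rw [← hK]
      refine le_antisymm ?_ hInnK
      rintro _ ⟨k, hk, rfl⟩
      obtain ⟨g, hgS, hgk⟩ := mem_autInducedBy_iff.1 (hKS k hk)
      have hgX : g ∈ X := hle ⟨hgS, k, hk, hgk⟩
      refine ⟨⟨g, hgX⟩, ?_⟩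
      ext x
      show ((MulAut.conj (⟨g, hgX⟩ : X) x : X) : Ω) = (((k : MulAut X) x : X) : Ω)
      rw [hgk x]
      rfl
  · right
    have hfinX₁ : Finite X₁ := finite_of_le hX₁S
    have hlt : Nat.card X < Nat.card X₁ := by
      by_contra hcon
      exact hle (le_of_eq (Subgroup.eq_of_le_of_card_ge hXX₁ (not_lt.mp hcon)).symm)
    refine ⟨X₁, hlt, hXX₁, hX₁S, fun α hα => ?_⟩
    let φ : X →* Ω := X.subtype.comp α.toMonoidHom
    have hφ : φ ∈ F.Hom X := (mem_autGroup_iff F hXS).1 hα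
    have hφr : φ.range = X := range_subtype_comp α
    obtain ⟨ψ, hψ, hψe⟩ := hXr.2 X φ hφ hφr
    have hconjK : ∀ k ∈ K, (⟨α, hα⟩ : F.autGroup X) * k * (⟨α, hα⟩ : F.autGroup X)⁻¹ ∈ K :=
      fun k hk => hKn.conj_mem k hk _
    have hconj_apply : ∀ (k : F.autGroup X) (x : X),
        (((⟨α, hα⟩ : F.autGroup X) * k * (⟨α, hα⟩ : F.autGroup X)⁻¹ : F.autGroup X) : MulAut X) (α x) =
          α ((k : MulAut X) x) := by
      intro k x
      show α ((k : MulAut X) (α⁻¹ (α x))) = _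
      rw [MulAut.inv_apply_self]
    have hX₁N : X₁ ≤ extender S X φ := by
      rintro g ⟨hgS, k, hkK, hgk⟩
      rw [Cfsg.Agent.Lib.Helper85.mem_extender_iff]
      refine ⟨hgS, mem_normalizer_of_conj_eq _ hgk, ?_⟩
      obtain ⟨h, hhS, hh⟩ := mem_autInducedBy_iff.1 (hKS _ (hconjK k hkK))
      refine ⟨h, hhS, fun x hx => ?_⟩
      have h1 := hh (α x)
      rw [hconj_apply] at h1
      have h3 : (k : MulAut X) x = ⟨g * (x : Ω) * g⁻¹, hx⟩ := Subtype.ext (hgk x)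
      rw [h3] at h1
      exact h1
    have hψ_on_X : ∀ x : X, ψ ⟨x.1, hX₁N (hXX₁ x.2)⟩ = ((α x : X) : Ω) := fun x => hψe x.1 x.2 _
    have hψ₁_mem : ∀ g : X₁, ψ ⟨g.1, hX₁N g.2⟩ ∈ X₁ := by
      rintro ⟨g, hg⟩
      obtain ⟨hgS, k, hkK, hgk⟩ := (hX₁_mem g).1 hg
      refine ⟨hom_map_mem F hψ _, _, hconjK k hkK, fun x => ?_⟩
      obtain ⟨x₀, rfl⟩ : ∃ x₀, α x₀ = x := ⟨α⁻¹ x, MulAut.apply_inv_self _ α x⟩
      rw [hconj_apply]
      rw [← hψ_on_X ((k : MulAut X) x₀), ← hψ_on_X x₀, ← map_inv, ← map_mul, ← map_mul]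
      congr 1
      exact Subtype.ext (hgk x₀)
    let ψ₁ : X₁ →* Ω := ψ.comp (Subgroup.inclusion hX₁N)
    have hψ₁ : ψ₁ ∈ F.Hom X₁ := Cfsg.Agent.Lib.Helper87.restrict_mem F hψ hX₁N
    have hψ₁_mem' : ∀ g : X₁, ψ₁ g ∈ X₁ := hψ₁_mem
    have hinj : Function.Injective (ψ₁.codRestrict X₁ hψ₁_mem') :=
      (MonoidHom.injective_codRestrict _ _ _).2 (F.injective_of_mem hψ₁)
    have hsurj : Function.Surjective (ψ₁.codRestrict X₁ hψ₁_mem') :=
      Finite.injective_iff_surjective.1 hinj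
    let β : MulAut X₁ := MulEquiv.ofBijective (ψ₁.codRestrict X₁ hψ₁_mem') ⟨hinj, hsurj⟩
    refine ⟨β, ?_, ?_⟩
    · rw [mem_autGroup_iff F hX₁S]
      exact hom_of_eq_on F rfl hψ₁ (fun x hx hx' => rfl)
    · intro x hx hx'
      exact hψe x hx _

/-- **Extension to a centric radical subgroup.** -/
theorem exists_frc_ext (F : FusionSystem S) [Finite S] {p : ℕ} [Fact p.Prime] (hS : IsPGroup p S)
    (hF : F.IsSaturated p) :
    ∀ (n : ℕ) (Q X : Subgroup Ω), Ext F Q X → Nat.card S - Nat.card X = n →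
      ∃ (Q' R : Subgroup Ω) (e : Q ≃* Q'), IsIso F e ∧ Ext F Q' R ∧ F.IsFullyNormalized R ∧
        F.IsCentric R ∧ F.IsRadical p R := by
  intro n
  induction n using Nat.strong_induction_on with
  | _ n ih =>
    intro Q X hQX hn
    have hXS : X ≤ S := hQX.2.1
    obtain ⟨X', hconj, hfn⟩ := exists_fullyNormalized_conj F hXS
    obtain ⟨ε, hε⟩ := (isConj_iff F).1 hconj
    obtain ⟨Q₁, e₁, he₁, hext₁⟩ := ext_transport F hQX ε hε
    obtain ⟨hX'a, hX'r⟩ := fullyAutomized_receptive_of_fullyNormalized F hS hF hfn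
    rcases grow F hS hX'a hX'r with ⟨hc, hr⟩ | ⟨X₁, hlt, hX₁⟩
    · exact ⟨Q₁, X', e₁, he₁, hext₁, hfn, hc, hr⟩
    · have hcard : Nat.card X = Nat.card X' := Nat.card_congr ε.toEquiv
      have hX₁S : X₁ ≤ S := hX₁.2.1
      have hle : Nat.card X₁ ≤ Nat.card S := Subgroup.card_le_of_le hX₁S
      have hlt' : Nat.card S - Nat.card X₁ < n := by omega
      obtain ⟨Q', R, e, he, hR⟩ := ih _ hlt' Q₁ X₁ (ext_trans hext₁ hX₁) rfl
      exact ⟨Q', R, e₁.trans e, he₁.trans he, hR⟩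

theorem backward (F : FusionSystem S) [Finite S] (p : ℕ) [Fact p.Prime] (hS : IsPGroup p S)
    (hF : F.IsSaturated p)
    (h : ∀ R : Subgroup Ω, F.IsFullyNormalized R → F.IsCentric R → F.IsRadical p R →
      ∀ N : FusionSystem (normalizerIn S R), F.IsNormalizerSystem R N →
        ∀ Q : Subgroup Ω, N.IsFullyNormalized Q → StableAt N p Q)
    {Q : Subgroup Ω} (hQ : Q ≤ S) : StableAt F p Q := by
  obtain ⟨Q', R, e, he, hext, hRn, hRc, hRr⟩ :=
    exists_frc_ext F hS hF _ Q Q (ext_refl F hQ) rfl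
  apply stableAt_of_iso F p he
  obtain ⟨hQ'R, hRS, hextend⟩ := hext
  have hRN : R ≤ normalizerIn S R := le_normalizerIn hRS
  have hQ'N : Q' ≤ normalizerIn S R := hQ'R.trans hRN
  let N := normalizerSystem F R hRS
  have hN : F.IsNormalizerSystem R N := isNormalizerSystem_normalizerSystem F R hRS
  have hfinN : Finite (normalizerIn S R) := finite_of_le (normalizerIn_le S R)
  have hNst : StableAt N p Q' := stableAt_all N p (h R hRn hRc hRr N hN) hQ'N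
  have hle : F.autGroup Q' ≤ N.autGroup Q' := by
    intro α hα
    obtain ⟨β, hβ, hβα⟩ := hextend α hα
    rw [mem_autGroup_iff N hQ'N]
    show Q'.subtype.comp (α : Q' ≃* Q').toMonoidHom ∈ N.Hom Q'
    rw [hN Q']
    refine ⟨(mem_autGroup_iff F (hQ'R.trans hRS)).1 hα, hQ'N, fun x => hQ'N (α x).2, ?_⟩
    have hsup : Q' ⊔ R ≤ R := sup_le hQ'R le_rfl
    have hsupeq : R = Q' ⊔ R := (sup_eq_right.2 hQ'R).symm
    let ψ : ↥(Q' ⊔ R) →* Ω :=
      (R.subtype.comp (β : R ≃* R).toMonoidHom).comp (Subgroup.inclusion hsup)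
    refine ⟨ψ, ?_, ?_, ?_⟩
    · exact hom_of_eq_on F hsupeq ((mem_autGroup_iff F hRS).1 hβ) (fun x hx hx' => rfl)
    · intro x
      exact hβα x.1 x.2 (hQ'R x.2)
    · rw [map_subgroupOf_eq_iff]
      refine ⟨fun x _ => (β _).2, fun q hq => ?_⟩
      refine ⟨⟨(((β : MulAut R)⁻¹ ⟨q, hq⟩ : R) : Ω),
        (le_sup_right : R ≤ Q' ⊔ R) ((β : MulAut R)⁻¹ ⟨q, hq⟩).2⟩, ((β : MulAut R)⁻¹ ⟨q, hq⟩).2, ?_⟩
      show ((β ((β : MulAut R)⁻¹ ⟨q, hq⟩) : R) : Ω) = q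
      rw [MulAut.apply_inv_self]
  intro χ hχ hquad
  exact mem_pCore_map_of_le hle hχ (hNst χ (hle hχ) hquad)

/-- Let p be an odd prime and F a saturated fusion system over a finite p-group S. Call a fusion system E (over any subgroup) p-stable when, for every fully E-normalized subgroup Q and every χ in Aut_E(Q) with χ(a⁻¹)·a·χ(a⁻¹)·χ(χ(a)) = 1 for all a in Q (χ acts quadratically), χ lies in O_p(Aut_E(Q)). Then F is p-stable if and only if the normalizer fusion system of R in F is p-stable for every fully F-normalized, F-centric, F-radical subgroup R of S. -/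
theorem result {Ω : Type*} [Group Ω] {S : Subgroup Ω} [Finite S] (p : ℕ) [Fact p.Prime] (hS : IsPGroup p ↥S) (F : Cfsg.FusionSystem S) (hF : F.IsSaturated p) (hp : p ≠ 2) : (∀ Q : Subgroup Ω, F.IsFullyNormalized Q → ∀ χ : MulAut ↥Q, χ ∈ F.autGroup Q → (∀ a : ↥Q, (χ a⁻¹) * a * (χ a⁻¹) * (χ (χ a)) = 1) → χ ∈ ((Cfsg.pCore p ↥(F.autGroup Q)).map (F.autGroup Q).subtype : Subgroup (MulAut ↥Q))) ↔ ∀ R : Subgroup Ω, F.IsFullyNormalized R → F.IsCentric R → F.IsRadical p R → ∀ N : Cfsg.FusionSystem (Cfsg.FusionSystem.normalizerIn S R), F.IsNormalizerSystem R N → (∀ Q : Subgroup Ω, N.IsFullyNormalized Q → ∀ χ : MulAut ↥Q, χ ∈ N.autGroup Q → (∀ a : ↥Q, (χ a⁻¹) * a * (χ a⁻¹) * (χ (χ a)) = 1) → χ ∈ ((Cfsg.pCore p ↥(N.autGroup Q)).map (N.autGroup Q).subtype : Subgroup (MulAut ↥Q))) := by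
  constructor
  · intro h R _ _ _ N hN Q hQ χ hχ hq
    exact forward F p h N hN hQ χ hχ hq
  · intro h Q hQ χ hχ hq
    exact backward F p hS hF (fun R h1 h2 h3 N hN Q hQ => h R h1 h2 h3 N hN Q hQ) hQ.1 χ hχ hq

end Cfsg.Agent.S5281
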