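import Cfsg.Statements.S5283
import Cfsg.Agent.Lib.Helper84.PStepAut
import Cfsg.Agent.Lib.Helper84.CyclicNormalStep
import Cfsg.Agent.Lib.Helper84.SemidirectFusion
import Cfsg.Agent.Lib.Helper87.FusionNormal
import Cfsg.Agent.Lib.Helper88.FusionAut
import Cfsg.Agent.Lib.Helper88.FusionAlperinCR
import Cfsg.Agent.S5088

set_option autoImplicit false
open Cfsg

namespace Cfsg.Agent.S5283

open Cfsg.FusionSystem Cfsg.Agent.Lib.Helper84 Cfsg.Agent.Lib.Helper87

variable {Ω : Type*} [Group Ω] {S : Subgroup Ω}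

/-- A subgroup of `S` whose image in `Ω` is strongly closed is normal in `S`. -/
theorem normal_of_sc (F : FusionSystem S) {A : Subgroup S} (hA : F.StronglyClosed (A.map S.subtype)) :
    A.Normal := by
  refine ⟨fun n hn g => ?_⟩
  have h1 : ((n : S) : Ω) ∈ A.map S.subtype := ⟨n, hn, rfl⟩
  obtain ⟨a, ha, hag⟩ := StronglyClosed_conj_mem hA g.2 h1
  have : a = g * n * g⁻¹ := Subtype.ext (by rw [← Subgroup.subtype_apply, hag]; simp)
  rw [← this]; exact ha

/-- Strongly closed subgroups are closed under `{y ∈ B | y ^ p ∈ A}`. -/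
theorem sc_pow (F : FusionSystem S) (p : ℕ) {A B D : Subgroup S} (hA : F.StronglyClosed (A.map S.subtype))
    (hB : F.StronglyClosed (B.map S.subtype)) (hD : ∀ y, y ∈ D ↔ y ∈ B ∧ y ^ p ∈ A) :
    F.StronglyClosed (D.map S.subtype) := by
  refine ⟨Subgroup.map_subtype_le _, fun R hR φ hφ x => ?_⟩
  have hDB : D ≤ B := fun y hy => ((hD y).mp hy).1
  have hRB : R ≤ B.map S.subtype := hR.trans (Subgroup.map_mono hDB)
  obtain ⟨b, hb, hbx⟩ := hB.2 R hRB φ hφ x
  refine ⟨b, (hD b).mpr ⟨hb, ?_⟩, hbx⟩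
  obtain ⟨y, hy, hyx⟩ := hR x.2
  have hyp : y ^ p ∈ A := ((hD y).mp hy).2
  have hxp : ((x ^ p : R) : Ω) ∈ A.map S.subtype := by
    refine ⟨y ^ p, hyp, ?_⟩
    rw [map_pow, hyx]; rfl
  have hres := restrict_mem F hφ (inf_le_left : R ⊓ A.map S.subtype ≤ R)
  obtain ⟨a, ha, hax⟩ := hA.2 (R ⊓ A.map S.subtype) inf_le_right _ hres
    ⟨((x ^ p : R) : Ω), ⟨(x ^ p).2, hxp⟩⟩
  have h1 : (φ.comp (Subgroup.inclusion (inf_le_left : R ⊓ A.map S.subtype ≤ R)))
      ⟨((x ^ p : R) : Ω), ⟨(x ^ p).2, hxp⟩⟩ = (φ x) ^ p := by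
    rw [← map_pow]; rfl
  have h2 : a = b ^ p := by
    apply Subtype.ext
    rw [← Subgroup.subtype_apply, hax, h1, ← hbx]; rfl
  rw [← h2]; exact ha

/-- Refinement of a chain of strongly closed subgroups with cyclic steps to one with `p`-steps. -/
theorem exists_pstep_seq_of_chain [Finite S] {p : ℕ} [Fact p.Prime] (hS : IsPGroup p S) (F : FusionSystem S)
    (m : ℕ) (c : Fin (m + 1) → Subgroup Ω) (hc0 : c 0 = ⊥) (hcm : c (Fin.last m) = S)
    (hcsc : ∀ i, F.StronglyClosed (c i))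
    (hstep : ∀ i : Fin m, c i.castSucc ≤ c i.succ ∧ ∃ x ∈ S, c i.succ = c i.castSucc ⊔ Subgroup.zpowers x) :
    ∃ (n : ℕ) (d : ℕ → Subgroup S), d 0 = ⊥ ∧ (∀ k, n ≤ k → d k = ⊤) ∧
      (∀ k, F.StronglyClosed ((d k).map S.subtype)) ∧
      ∀ k, ∃ x, d (k + 1) = d k ⊔ Subgroup.zpowers x ∧ x ^ p ∈ d k := by
  have hcS : ∀ i, c i ≤ S := fun i => (hcsc i).1
  have hmap : ∀ i, ((c i).subgroupOf S).map S.subtype = c i :=
    fun i => Subgroup.map_subgroupOf_eq_of_le (hcS i)
  refine exists_pstep_chain hS (fun A => F.StronglyClosed (A.map S.subtype)) (fun A hA => normal_of_sc F hA)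
    (fun A B D hA hB _ hD => sc_pow F p hA hB hD) m (fun i => (c i).subgroupOf S) ?_ ?_ ?_ ?_
  · show (c 0).subgroupOf S = ⊥
    rw [hc0]; exact Subgroup.bot_subgroupOf S
  · show (c (Fin.last m)).subgroupOf S = ⊤
    rw [hcm]; exact Subgroup.subgroupOf_self S
  · intro i
    show F.StronglyClosed (((c i).subgroupOf S).map S.subtype)
    rw [hmap]; exact hcsc i
  · intro i
    obtain ⟨hle, x, hxS, hx⟩ := hstep i
    refine ⟨fun y hy => hle hy, ⟨x, hxS⟩, ?_⟩
    apply Subgroup.map_injective S.subtype_injective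
    rw [Subgroup.map_sup, hmap, hmap, MonoidHom.map_zpowers]
    exact hx

/-- A saturated fusion system with a supersoluble chain has `S` normal. -/
theorem isNormal_of_supersoluble [Finite S] {p : ℕ} [Fact p.Prime] (hS : IsPGroup p S) (F : FusionSystem S)
    (hF : F.IsSaturated p)
    (m : ℕ) (c : Fin (m + 1) → Subgroup Ω) (hc0 : c 0 = ⊥) (hcm : c (Fin.last m) = S)
    (hcsc : ∀ i, F.StronglyClosed (c i))
    (hstep : ∀ i : Fin m, c i.castSucc ≤ c i.succ ∧ ∃ x ∈ S, c i.succ = c i.castSucc ⊔ Subgroup.zpowers x) :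
    F.IsNormal S := by
  obtain ⟨n, d, hd0, hdn, hdsc, hds⟩ := exists_pstep_seq_of_chain hS F m c hc0 hcm hcsc hstep
  have hSsc : F.StronglyClosed S := ⟨le_rfl, fun R _ φ hφ x => (F.le_of_mem hφ).2 x⟩
  have htop : (⊤ : Subgroup S).map S.subtype = S := by
    rw [← MonoidHom.range_eq_map, Subgroup.range_subtype]
  refine isNormal_of_chain F hS hF S hSsc n (fun k => (d k).map S.subtype) ?_ ?_ ?_ ?_ ?_
  · show (d 0).map S.subtype = ⊥
    rw [hd0, Subgroup.map_bot]
  · intro k hk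
    show (d k).map S.subtype = S
    rw [hdn k hk, htop]
  · apply monotone_nat_of_le_succ
    intro k
    apply Subgroup.map_mono
    obtain ⟨x, hx, -⟩ := hds k
    rw [hx]; exact le_sup_left
  · intro k _
    show ⁅(d (k + 1)).map S.subtype, S⁆ ≤ (d k).map S.subtype
    obtain ⟨x, hx, hxp⟩ := hds k
    have hn1 := normal_of_sc F (hdsc k)
    have hn2 := normal_of_sc F (hdsc (k + 1))
    have h1 := commutator_le_of_pstep hS (d k) (d (k + 1)) x hx hxp
    calc ⁅(d (k + 1)).map S.subtype, S⁆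
        = ⁅(d (k + 1)).map S.subtype, (⊤ : Subgroup S).map S.subtype⁆ := by rw [htop]
      _ = (⁅d (k + 1), (⊤ : Subgroup S)⁆).map S.subtype := (Subgroup.map_commutator _ _ _).symm
      _ ≤ (d k).map S.subtype := Subgroup.map_mono h1
  · intro k _
    exact Cfsg.Agent.S5088.weaklyClosed_of_stronglyClosed F (hdsc k)

/-- If every saturated fusion system over `S` is supersoluble, the `p'`-subgroups of `Aut(S)` are abelian of exponent
dividing `p - 1`. -/
theorem comm_pow_of_hyp [Finite S] {p : ℕ} [Fact p.Prime] (hS : IsPGroup p S)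
    (hyp : ∀ F : Cfsg.FusionSystem S, F.IsSaturated p → (∃ (m : ℕ) (c : Fin (m + 1) → Subgroup Ω), c 0 = ⊥ ∧
      c (Fin.last m) = S ∧ (∀ i : Fin (m + 1), F.StronglyClosed (c i)) ∧
      ∀ i : Fin m, c i.castSucc ≤ c i.succ ∧ ∃ x ∈ S, c i.succ = c i.castSucc ⊔ Subgroup.zpowers x))
    (H : Subgroup (MulAut S)) (hH : (Nat.card H).Coprime p) :
    IsMulCommutative H ∧ ∀ h ∈ H, h ^ (p - 1) = 1 := by
  have hsat := autSystem_isSaturated H hS hH
  obtain ⟨m, c, hc0, hcm, hcsc, hstep⟩ := hyp _ hsat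
  obtain ⟨n, d, hd0, hdn, hdsc, hds⟩ := exists_pstep_seq_of_chain hS _ m c hc0 hcm hcsc hstep
  have hinv : ∀ h ∈ H, ∀ k, ∀ y ∈ d k, h y ∈ d k := by
    intro h hh k y hy
    have hα : h ∈ (autSystem S (Inn S ⊔ H) le_sup_left).autGroup S := by
      rw [autGroup_autSystem]; exact Subgroup.mem_sup_right hh
    obtain ⟨b, hb, hby⟩ := StronglyClosed_aut_mem (hdsc k) le_rfl hα (r := y) ⟨y, hy, rfl⟩
    have : b = h y := Subtype.ext hby
    rw [← this]; exact hb
  obtain ⟨h1, h2⟩ := comm_and_pow_of_pstep_chain hS H hH n d hd0 (hdn n le_rfl)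
    (fun k => normal_of_sc _ (hdsc k)) hinv hds
  exact ⟨⟨⟨fun a b => Subtype.ext (h1 a a.2 b b.2)⟩⟩, h2⟩

/-- If `S` is normal in the saturated system `F`, a subgroup of `S` invariant under `Aut_F(S)` has strongly closed image. -/
theorem sc_of_invariant (F : FusionSystem S) (hN : F.IsNormal S) (A : Subgroup S)
    (hA : ∀ α ∈ F.autGroup S, ∀ y ∈ A, α y ∈ A) : F.StronglyClosed (A.map S.subtype) := by
  refine ⟨Subgroup.map_subtype_le _, fun R hR φ hφ x => ?_⟩
  obtain ⟨ψ, -, hψ1, α, hα, hαx⟩ := Cfsg.Agent.Lib.Helper88.exists_extension_aut_of_isNormal F hN hφ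
  obtain ⟨y, hy, hyx⟩ := hR x.2
  refine ⟨α y, hA α hα y hy, ?_⟩
  rw [Subgroup.subtype_apply, hαx y, ← hψ1 x]
  congr 1
  exact Subtype.ext hyx

/-- If `S` is normal in the saturated system `F` and the `p'`-subgroups of `Aut(S)` are abelian of exponent dividing
`p - 1`, then `F` is supersoluble. -/
theorem exists_chain_of_normal [Finite S] {p : ℕ} [hp : Fact p.Prime] (hS : IsPGroup p S) (F : FusionSystem S)
    (hF : F.IsSaturated p) (hN : F.IsNormal S)
    (hA : ∀ H : Subgroup (MulAut S), (Nat.card H).Coprime p → IsMulCommutative H ∧ ∀ h ∈ H, h ^ (p - 1) = 1) :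
    ∃ (m : ℕ) (c : Fin (m + 1) → Subgroup Ω), c 0 = ⊥ ∧ c (Fin.last m) = S ∧
      (∀ i : Fin (m + 1), F.StronglyClosed (c i)) ∧
      ∀ i : Fin m, c i.castSucc ≤ c i.succ ∧ ∃ x ∈ S, c i.succ = c i.castSucc ⊔ Subgroup.zpowers x := by
  classical
  -- `Inn(S)` is a normal Sylow `p`-subgroup of `Aut_F(S)`
  have hInn : Inn S ≤ F.autGroup S :=
    (Cfsg.Agent.Lib.Helper88.inn_le_autInducedBy le_rfl).trans (autInducedBy_le_autGroup F le_rfl)
  have hauto : F.IsFullyAutomized p S :=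
    (Cfsg.Agent.Lib.Helper88.fullyAutomized_receptive_of_weaklyClosed F p hF
      (Cfsg.Agent.Lib.Helper88.weaklyClosed_of_isNormal F hN)).1
  obtain ⟨-, R, hR⟩ := hauto
  have hSS : autInducedBy S S = Inn S := by
    apply le_antisymm
    · intro α hα
      obtain ⟨g, hg, hgα⟩ := mem_autInducedBy_iff.1 hα
      refine ⟨⟨g, hg⟩, ?_⟩
      ext x
      rw [hgα x]
      rfl
    · exact Cfsg.Agent.Lib.Helper88.inn_le_autInducedBy le_rfl
  rw [hSS] at hR
  have hNn : ((Inn S).subgroupOf (F.autGroup S)).Normal := inferInstance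
  have hcop : Nat.Coprime (Nat.card ((Inn S).subgroupOf (F.autGroup S)))
      ((Inn S).subgroupOf (F.autGroup S)).index := by
    rw [← hR]
    obtain ⟨k, hk⟩ := (R.isPGroup').exists_card_eq
    rw [hk]
    exact Nat.Coprime.pow_left k ((Nat.Prime.coprime_iff_not_dvd hp.out).mpr R.not_dvd_index)
  obtain ⟨H', hH'⟩ := Subgroup.exists_right_complement'_of_coprime hcop
  -- the complement, as a subgroup of `Aut(S)`
  have hH'card : (Nat.card (H'.map (F.autGroup S).subtype)).Coprime p := by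
    have h1 : Nat.card (H'.map (F.autGroup S).subtype) = Nat.card H' :=
      Nat.card_congr (H'.equivMapOfInjective _ (F.autGroup S).subtype_injective).symm.toEquiv
    have h2 : ((Inn S).subgroupOf (F.autGroup S)).index = Nat.card H' := by
      have := hH'.symm.index_eq_card
      exact this
    rw [h1, ← h2, ← hR]
    exact ((Nat.Prime.coprime_iff_not_dvd hp.out).mpr R.not_dvd_index).symm
  obtain ⟨hHcomm, hHexp⟩ := hA _ hH'card
  -- every element of `Aut_F(S)` is a product of an inner automorphism and an element of the complement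
  have hdec : ∀ α ∈ F.autGroup S, ∃ g : S, ∃ h ∈ H'.map (F.autGroup S).subtype, α = MulAut.conj g * h := by
    intro α hα
    obtain ⟨⟨n, h⟩, hnh, -⟩ := (Subgroup.isComplement'_def.mp hH').existsUnique (⟨α, hα⟩ : F.autGroup S)
    have hn : ((n : F.autGroup S) : MulAut S) ∈ Inn S := n.2
    obtain ⟨g, hg⟩ := hn
    refine ⟨g, ((h : F.autGroup S) : MulAut S), ⟨h, h.2, rfl⟩, ?_⟩
    have := congrArg (fun z : F.autGroup S => (z : MulAut S)) hnh
    simp only [Subgroup.coe_mul] at this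
    rw [hg, ← this]
  -- the semidirect product
  set H : Subgroup (MulAut S) := H'.map (F.autGroup S).subtype with hHdef
  have hfinG : Finite (S ⋊[H.subtype] H) := Finite.of_equiv _ SemidirectProduct.equivProd.symm
  have hPn : (SemidirectProduct.inl : S →* S ⋊[H.subtype] H).range.Normal := by
    rw [SemidirectProduct.range_inl_eq_ker_rightHom]; infer_instance
  have hPp : IsPGroup p (SemidirectProduct.inl : S →* S ⋊[H.subtype] H).range :=
    IsPGroup.of_surjective hS (SemidirectProduct.inl : S →* S ⋊[H.subtype] H).rangeRestrict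
      (MonoidHom.rangeRestrict_surjective _)
  obtain ⟨n, d, hd0, hdn, hdN, hds⟩ := exists_normal_pstep_seq (p := p)
    (SemidirectProduct.inl : S →* S ⋊[H.subtype] H).range
    (SemidirectProduct.inr : H →* S ⋊[H.subtype] H).range hPp
    (fun g => ⟨SemidirectProduct.inl g.left, ⟨_, rfl⟩, SemidirectProduct.inr g.right, ⟨_, rfl⟩,
      (SemidirectProduct.inl_left_mul_inr_right g).symm⟩)
    (by
      rintro _ ⟨a, rfl⟩ _ ⟨b, rfl⟩
      rw [← map_mul, ← map_mul, hHcomm.is_comm.comm a b])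
    (by
      rintro _ ⟨a, rfl⟩
      rw [← map_pow]
      have : a ^ (p - 1) = 1 := Subtype.ext (by rw [Subgroup.coe_pow]; exact hHexp a a.2)
      rw [this, map_one])
  -- pull the chain back to `S`
  have hdinv : ∀ k, ∀ α ∈ F.autGroup S, ∀ y ∈ (d k).comap (SemidirectProduct.inl : S →* S ⋊[H.subtype] H),
      α y ∈ (d k).comap (SemidirectProduct.inl : S →* S ⋊[H.subtype] H) := by
    intro k α hα y hy
    obtain ⟨g, h, hh, rfl⟩ := hdec α hα
    have hy' : (SemidirectProduct.inl y : S ⋊[H.subtype] H) ∈ d k := hy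
    have h1 : (SemidirectProduct.inl (h y) : S ⋊[H.subtype] H) ∈ d k := by
      have := SemidirectProduct.inl_aut (φ := H.subtype) (⟨h, hh⟩ : H) y
      have e : (H.subtype ⟨h, hh⟩) y = h y := rfl
      rw [e] at this
      rw [this]
      have hc := (hdN k).1.conj_mem _ hy' (SemidirectProduct.inr (⟨h, hh⟩ : H))
      rwa [← map_inv] at hc
    show (SemidirectProduct.inl ((MulAut.conj g * h) y) : S ⋊[H.subtype] H) ∈ d k
    have e2 : (MulAut.conj g * h) y = g * h y * g⁻¹ := rfl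
    rw [e2, map_mul, map_mul, map_inv]
    exact (hdN k).1.conj_mem _ h1 _
  have hker : (⊥ : Subgroup (S ⋊[H.subtype] H)).comap (SemidirectProduct.inl : S →* S ⋊[H.subtype] H) = ⊥ := by
    rw [MonoidHom.comap_bot]; exact (MonoidHom.ker_eq_bot_iff _).mpr SemidirectProduct.inl_injective
  have htop : (⊤ : Subgroup S).map S.subtype = S := by
    rw [← MonoidHom.range_eq_map, Subgroup.range_subtype]
  refine ⟨n, fun i => ((d i).comap (SemidirectProduct.inl : S →* S ⋊[H.subtype] H)).map S.subtype,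
    ?_, ?_, ?_, ?_⟩
  · show ((d ((0 : Fin (n + 1)) : ℕ)).comap _).map S.subtype = ⊥
    rw [Fin.val_zero, hd0, hker, Subgroup.map_bot]
  · show ((d ((Fin.last n : Fin (n + 1)) : ℕ)).comap _).map S.subtype = S
    rw [Fin.val_last, hdn n le_rfl, MonoidHom.range_eq_map, Subgroup.comap_map_eq, top_sup_eq, htop]
  · intro i
    exact sc_of_invariant F hN _ (hdinv i)
  · intro i
    obtain ⟨x, hx, hxp⟩ := hds (i : ℕ)
    have hxd : x ∈ d ((i : ℕ) + 1) := by rw [hx]; exact Subgroup.mem_sup_right (Subgroup.mem_zpowers x)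
    obtain ⟨x', rfl⟩ := (hdN _).2 hxd
    have e1 : ((i.castSucc : Fin (n + 1)) : ℕ) = (i : ℕ) := Fin.val_castSucc i
    have e2 : ((i.succ : Fin (n + 1)) : ℕ) = (i : ℕ) + 1 := Fin.val_succ i
    show ((d ((i.castSucc : Fin (n + 1)) : ℕ)).comap _).map S.subtype ≤
        ((d ((i.succ : Fin (n + 1)) : ℕ)).comap _).map S.subtype ∧
      ∃ x ∈ S, ((d ((i.succ : Fin (n + 1)) : ℕ)).comap _).map S.subtype =
        ((d ((i.castSucc : Fin (n + 1)) : ℕ)).comap _).map S.subtype ⊔ Subgroup.zpowers x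
    rw [e1, e2]
    have hcm : (d ((i : ℕ) + 1)).comap (SemidirectProduct.inl : S →* S ⋊[H.subtype] H) =
        (d (i : ℕ)).comap SemidirectProduct.inl ⊔ Subgroup.zpowers x' := by
      rw [hx, ← Subgroup.comap_sup_eq_of_le_range _ (hdN _).2
        ((Subgroup.zpowers_le).mpr ⟨x', rfl⟩), ← MonoidHom.map_zpowers,
        Subgroup.comap_map_eq_self_of_injective SemidirectProduct.inl_injective]
    refine ⟨Subgroup.map_mono (by rw [hcm]; exact le_sup_left), (x' : Ω), x'.2, ?_⟩
    rw [hcm, Subgroup.map_sup, MonoidHom.map_zpowers]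
    rfl

/-- Call a saturated fusion system F over a finite p-group S supersoluble when S has a chain of subgroups 1 = S_0 ≤ S_1 ≤ … ≤ S_m = S, each strongly closed in F, with each S_{i+1} generated by S_i together with one further element (cyclic steps). Then every saturated fusion system over S is supersoluble if and only if S is normal in every saturated fusion system over S (S is resistant) and every subgroup of Aut(S) of order prime to p is abelian of exponent dividing p − 1. -/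
theorem result {Ω : Type*} [Group Ω] {S : Subgroup Ω} [Finite S] (p : ℕ) [Fact p.Prime] (hS : IsPGroup p ↥S) : (∀ F : Cfsg.FusionSystem S, F.IsSaturated p → (∃ (m : ℕ) (c : Fin (m + 1) → Subgroup Ω), c 0 = ⊥ ∧ c (Fin.last m) = S ∧ (∀ i : Fin (m + 1), F.StronglyClosed (c i)) ∧ ∀ i : Fin m, c i.castSucc ≤ c i.succ ∧ ∃ x ∈ S, c i.succ = c i.castSucc ⊔ Subgroup.zpowers x)) ↔ (∀ F : Cfsg.FusionSystem S, F.IsSaturated p → F.IsNormal S) ∧ ∀ H : Subgroup (MulAut ↥S), (Nat.card ↥H).Coprime p → IsMulCommutative ↥H ∧ ∀ h ∈ H, h ^ (p - 1) = 1 := by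
  constructor
  · intro hyp
    refine ⟨fun F hF => ?_, fun H hH => comm_pow_of_hyp hS hyp H hH⟩
    obtain ⟨m, c, hc0, hcm, hcsc, hstep⟩ := hyp F hF
    exact isNormal_of_supersoluble hS F hF m c hc0 hcm hcsc hstep
  · rintro ⟨hN, hA⟩ F hF
    exact exists_chain_of_normal hS F hF (hN F hF) hA

end Cfsg.Agent.S5283
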