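import Cfsg.Statements.S5284
import Cfsg.Agent.S5283
import Cfsg.Agent.Lib.Helper84.AbelianPAut2
import Cfsg.Agent.Lib.Helper84.AbelianPAut3
import Cfsg.Agent.Lib.Helper88.FusionTopNormal
import Cfsg.Agent.Lib.Helper88.FusionAbelian

set_option autoImplicit false
open Cfsg

namespace Cfsg.Agent.S5284

open Cfsg.FusionSystem Cfsg.Agent.Lib.Helper84

/-- Transport of the condition on `p'`-groups of automorphisms along an isomorphism. -/
theorem aut_cond_congr {P Q : Type*} [Group P] [Group Q] (ε : P ≃* Q) (p m : ℕ)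
    (hyp : ∀ K : Subgroup (MulAut P), (Nat.card K).Coprime p → IsMulCommutative K ∧ ∀ h ∈ K, h ^ m = 1) :
    ∀ K : Subgroup (MulAut Q), (Nat.card K).Coprime p → IsMulCommutative K ∧ ∀ h ∈ K, h ^ m = 1 := by
  intro K hK
  have hcard : Nat.card (K.map (MulAut.congr ε.symm).toMonoidHom) = Nat.card K :=
    Nat.card_congr (K.equivMapOfInjective _ (MulAut.congr ε.symm).injective).symm.toEquiv
  obtain ⟨h1, h2⟩ := hyp (K.map (MulAut.congr ε.symm).toMonoidHom) (by rw [hcard]; exact hK)
  constructor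
  · refine ⟨⟨fun a b => Subtype.ext ?_⟩⟩
    show a.1 * b.1 = b.1 * a.1
    have := h1.is_comm.comm ⟨MulAut.congr ε.symm a.1, Subgroup.mem_map_of_mem _ a.2⟩
      ⟨MulAut.congr ε.symm b.1, Subgroup.mem_map_of_mem _ b.2⟩
    have h3 := congrArg Subtype.val this
    simp only [Subgroup.coe_mul] at h3
    rw [← map_mul, ← map_mul] at h3
    exact (MulAut.congr ε.symm).injective h3
  · intro h hh
    have h3 := h2 (MulAut.congr ε.symm h) (Subgroup.mem_map_of_mem _ hh)
    rw [← map_pow] at h3
    exact (MulAut.congr ε.symm).injective (by rw [h3, map_one])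

/-- An abelian `p`-group is normal in every saturated fusion system over it. -/
theorem isNormal_of_abelian {Ω : Type*} [Group Ω] {S : Subgroup Ω} [Finite S] (p : ℕ)
    (hab : IsMulCommutative ↥S) (F : FusionSystem S) (hF : F.IsSaturated p) : F.IsNormal S := by
  apply Cfsg.Agent.Lib.Helper88.isNormal_top_of_le_autRestrictSystem
  intro P φ hφ
  have hab' : ∀ x ∈ S, ∀ y ∈ S, x * y = y * x := by
    intro x hx y hy
    have := hab.is_comm.comm (⟨x, hx⟩ : S) ⟨y, hy⟩
    exact congrArg Subtype.val this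
  obtain ⟨α, hα, hαx⟩ := Cfsg.Agent.Lib.Helper88.exists_aut_extension_of_abelian F p hF hab' hφ
  have hPS : P ≤ S := (F.le_of_mem hφ).1
  exact ⟨hPS, α, hα, fun x => (hαx x (hPS x.2)).symm⟩

theorem orderOf_gen (m : ℕ) : orderOf (Multiplicative.ofAdd (1 : ZMod m)) = m := by
  rw [orderOf_ofAdd_eq_addOrderOf, ZMod.addOrderOf_one]

/-- Let S be a finite abelian p-group. Every saturated fusion system over S is supersoluble (S has a chain of F-strongly closed subgroups from 1 to S with cyclic steps) if and only if the invariants of S are pairwise distinct, that is, S is not isomorphic to a direct product (Z/p^n × Z/p^n) × H with n ≥ 1. -/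
theorem result {Ω : Type*} [Group Ω] {S : Subgroup Ω} [Finite S] (p : ℕ) [Fact p.Prime] (hS : IsPGroup p ↥S) (hab : IsMulCommutative ↥S) : (∀ F : Cfsg.FusionSystem S, F.IsSaturated p → (∃ (m : ℕ) (c : Fin (m + 1) → Subgroup Ω), c 0 = ⊥ ∧ c (Fin.last m) = S ∧ (∀ i : Fin (m + 1), F.StronglyClosed (c i)) ∧ ∀ i : Fin m, c i.castSucc ≤ c i.succ ∧ ∃ x ∈ S, c i.succ = c i.castSucc ⊔ Subgroup.zpowers x)) ↔ ¬ ∃ (n : ℕ) (H : Type) (_ : CommGroup H), 0 < n ∧ Nonempty (↥S ≃* (Multiplicative (ZMod (p ^ n)) × Multiplicative (ZMod (p ^ n))) × H) := by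
  have hp : p.Prime := Fact.out
  constructor
  · rintro hyp ⟨n, H, instH, hn, ⟨ε⟩⟩
    have hA := ((Cfsg.Agent.S5283.result p hS).mp hyp).2
    have hA' := aut_cond_congr ε p (p - 1) hA
    have : Finite ((Multiplicative (ZMod (p ^ n)) × Multiplicative (ZMod (p ^ n))) × H) :=
      Finite.of_equiv S ε.toEquiv
    have : Finite H := Finite.prod_right (Multiplicative (ZMod (p ^ n)) × Multiplicative (ZMod (p ^ n)))
    have hpn : 1 < p ^ n := Nat.one_lt_pow hn.ne' hp.one_lt
    by_cases hp2 : p = 2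
    · subst hp2
      refine not_aut_comm_pow_two (Multiplicative.ofAdd (1 : ZMod (2 ^ n))) ?_ hA'
      intro h1
      have h2 := orderOf_gen (2 ^ n)
      rw [h1, orderOf_one] at h2
      omega
    · refine not_aut_comm_pow_odd p hp2 (Multiplicative.ofAdd (1 : ZMod (p ^ n))) ?_ hA'
      intro h1
      have h2 : p ^ n ∣ 2 := by
        have := orderOf_dvd_of_pow_eq_one h1
        rwa [orderOf_gen] at this
      have h3 : p ∣ 2 := (dvd_pow_self p hn.ne').trans h2
      exact hp2 ((Nat.prime_dvd_prime_iff_eq hp Nat.prime_two).mp h3)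
  · intro hno
    refine (Cfsg.Agent.S5283.result p hS).mpr ⟨fun F hF => isNormal_of_abelian p hab F hF, ?_⟩
    intro K hK
    exact abelian_p_aut_comm_pow hS hno K hK

end Cfsg.Agent.S5284
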