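-- Statement S5286 (row 5286): Leary--Stancu: every fusion system over a finite p-group is realized by a
-- virtually free group.  Project LS (sheet by helper88; modules by helper26, helper80, helper88).
import Cfsg.Statements.S5286
import Cfsg.Agent.Lib.Helper88.LSTransport
import Cfsg.Agent.Lib.Helper88.LSFus
import Cfsg.Agent.Lib.Helper80.LSFin
import Cfsg.Agent.Lib.Helper26.LSTAU
import Cfsg.Agent.Lib.Helper26.LSNS
import Cfsg.Agent.Lib.Helper26.LSDESC

set_option autoImplicit false
universe u
open Cfsg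

namespace Cfsg.Agent.S5286

open Cfsg.Agent.Lib.Helper88.LS SemidirectProduct

/-- Every fusion system F over a finite p-group S, saturated or not, is realized by a possibly infinite group: there are a group G and an injective homomorphism ι of S into G such that the maps of F are exactly the conjugations by elements of G between subgroups of ι(S), every finite subgroup of G is conjugate to a subgroup of ι(S), and G has a free normal subgroup whose index divides (#S)!. -/
theorem result {Ω : Type u} [Group Ω] {S : Subgroup Ω} [Finite S] (p : ℕ) [Fact p.Prime] (hS : IsPGroup p ↥S) (F : Cfsg.FusionSystem S) : ∃ (G : Type u) (_ : Group G) (ι : ↥S →* G), F.IsRealizedBy ι ∧ (∀ H : Subgroup G, Finite ↥H → ∃ g : G, ∀ h ∈ H, g * h * g⁻¹ ∈ ι.range) ∧ ∃ N : Subgroup G, N.Normal ∧ IsFreeGroup ↥N ∧ N.index ∣ (Nat.card ↥S).factorial := by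
  classical
  let lam : ↥S →* Equiv.Perm ↥S := MulAction.toPermHom ↥S ↥S
  have hlam : Function.Injective lam := MulAction.toPerm_injective
  have hex : ∀ i : LSI F, ∃ τ : Equiv.Perm ↥S, ∀ a : LSA F i,
      τ * lam (a : ↥S) = lam (LSe F i a) * τ :=
    fun i => Cfsg.Agent.Lib.Helper26.LS.exists_tau (LSA F i) (LSe F i) (LSe_injective F i)
  choose tau htau using hex
  have hc : ∀ i (a : LSA F i), tau i * lam a = lam (LSe F i a) * tau i := htau
  refine ⟨↥(Gsub lam (LSe F) tau), inferInstance, iota lam (LSe F) tau,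
    ⟨Cfsg.Agent.Lib.Helper26.LS.iota_injective lam (LSe F) tau hlam, ?_⟩, ?_, ?_⟩
  · intro P hP φ hφ
    constructor
    · intro hmem
      let i : LSI F := ⟨⟨P, φ⟩, hmem⟩
      refine ⟨⟨T lam (LSe F) tau i, Subgroup.subset_closure (Or.inr ⟨i, rfl⟩)⟩, fun x => ?_⟩
      have hx : (⟨(x : Ω), hP x.2⟩ : ↥S) ∈ LSA F i := Subgroup.mem_subgroupOf.mpr x.2
      have h1 := T_rel lam (LSe F) tau hc i ⟨⟨(x : Ω), hP x.2⟩, hx⟩
      apply Subtype.ext
      have h2 : LSe F i ⟨⟨(x : Ω), hP x.2⟩, hx⟩ = ⟨φ x, hφ x⟩ := by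
        apply Subtype.ext
        rfl
      rw [h2] at h1
      exact h1.symm
    · rintro ⟨g, hg⟩
      let P' : Subgroup ↥S := P.subgroupOf S
      let ψ : P' →* ↥S :=
        { toFun := fun x' => ⟨φ ⟨(x' : ↥S), Subgroup.mem_subgroupOf.mp x'.2⟩, hφ _⟩
          map_one' := by
            apply Subtype.ext
            exact map_one φ
          map_mul' := fun a b => by
            apply Subtype.ext
            exact map_mul φ ⟨(a : ↥S), Subgroup.mem_subgroupOf.mp a.2⟩
              ⟨(b : ↥S), Subgroup.mem_subgroupOf.mp b.2⟩ }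
      have hψ : ∀ x' : P', ((g : M lam (LSe F))⁻¹)⁻¹ * inr (lam (x' : ↥S)) * (g : M lam (LSe F))⁻¹
          = inr (lam (ψ x')) := by
        intro x'
        have h3 := hg ⟨(x' : ↥S), Subgroup.mem_subgroupOf.mp x'.2⟩
        have h4 := congrArg (Subtype.val) h3
        rw [inv_inv]
        exact h4.symm
      have hC := fusion lam (LSe F) tau (LSC F) (LSC_conj F) (LSC_fwd F) (LSC_bwd F)
        (LSC_comp F) hlam hc (g : M lam (LSe F))⁻¹ ((Gsub lam (LSe F) tau).inv_mem g.2) P' ψ hψ
      apply hC P φ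
      · intro x
        constructor
        · intro hx
          exact ⟨hP hx, Subgroup.mem_subgroupOf.mpr hx⟩
        · rintro ⟨h, hx⟩
          exact Subgroup.mem_subgroupOf.mp hx
      · intro x x' hxx'
        have : x = ⟨(x' : ↥S), Subgroup.mem_subgroupOf.mp x'.2⟩ := Subtype.ext hxx'
        rw [this]
        rfl
  · intro H hH
    have := hH
    exact Cfsg.Agent.Lib.Helper80.LS.fin_conj_of lam (LSe F) tau hlam hc
      (fun H _ hne => Cfsg.Agent.Lib.Helper26.LS.descent lam (LSe F) H hne) H
  · obtain ⟨N, hN, hfree, hidx⟩ := Cfsg.Agent.Lib.Helper26.LS.free_normal lam (LSe F) tau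
    refine ⟨N, hN, hfree, ?_⟩
    rwa [Nat.card_perm] at hidx

end Cfsg.Agent.S5286
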