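import Cfsg.Statements.S5287
import Cfsg.Agent.S5212
import Cfsg.Agent.S5234
import Cfsg.Agent.S5283
import Cfsg.Agent.S5284
import Cfsg.Agent.Lib.Helper84.SSQD
import Cfsg.Agent.Lib.Helper84.SSDihedral
import Cfsg.Agent.Lib.Helper84.MetaAbelian
import Cfsg.Agent.Lib.Helper84.MetaAutCond
import Cfsg.Agent.Lib.Helper84.MetaTwoInner

set_option autoImplicit false
open Cfsg

namespace Cfsg.Agent.S5287

/-- Let S be a finite metacyclic p-group (an extension of a cyclic group by a cyclic group). Every saturated fusion system over S is supersoluble (S has a chain of F-strongly closed subgroups from 1 to S with cyclic steps) if and only if S is not homocyclic of rank two (isomorphic to Z/p^n × Z/p^n with n ≥ 1) and, when p = 2, S is not dihedral of order at least 4, not quasi-dihedral (semidihedral) and not generalized quaternion of order at least 8. -/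
theorem result {Ω : Type*} [Group Ω] {S : Subgroup Ω} [Finite S] (p : ℕ) [Fact p.Prime] (hS : IsPGroup p ↥S) (hm : Cfsg.IsMetacyclic ↥S) : (∀ F : Cfsg.FusionSystem S, F.IsSaturated p → (∃ (m : ℕ) (c : Fin (m + 1) → Subgroup Ω), c 0 = ⊥ ∧ c (Fin.last m) = S ∧ (∀ i : Fin (m + 1), F.StronglyClosed (c i)) ∧ ∀ i : Fin m, c i.castSucc ≤ c i.succ ∧ ∃ x ∈ S, c i.succ = c i.castSucc ⊔ Subgroup.zpowers x)) ↔ ¬ ((∃ n : ℕ, 0 < n ∧ Nonempty (↥S ≃* Multiplicative (ZMod (p ^ n)) × Multiplicative (ZMod (p ^ n)))) ∨ (p = 2 ∧ ((∃ n : ℕ, 2 ≤ n ∧ Nonempty (↥S ≃* DihedralGroup n)) ∨ Cfsg.IsQuasiDihedral ↥S ∨ (∃ n : ℕ, 2 ≤ n ∧ Nonempty (↥S ≃* QuaternionGroup n))))) := by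
  have hp : p.Prime := Fact.out
  constructor
  · -- every saturated system supersoluble ⇒ `S` is not of the excluded types
    intro hyp hbad
    rcases hbad with ⟨n, hn, ⟨ε⟩⟩ | ⟨rfl, hD | hQD | hQ⟩
    · have hab : IsMulCommutative ↥S :=
        ⟨⟨fun a b => ε.injective (by rw [map_mul, map_mul, mul_comm])⟩⟩
      apply (Cfsg.Agent.S5284.result p hS hab).mp hyp
      exact ⟨n, PUnit, inferInstance, hn, ⟨ε.trans MulEquiv.prodUnique.symm⟩⟩
    · obtain ⟨n, hn, ⟨e⟩⟩ := hD
      obtain ⟨F, hsat, hno⟩ := Cfsg.Agent.Lib.Helper84.exists_saturated_not_hasSSChain_of_dihedral hS n hn e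
      exact hno (hyp F hsat)
    · obtain ⟨F, hsat, hno⟩ := Cfsg.Agent.Lib.Helper84.exists_saturated_not_hasSSChain_of_quasiDihedral hS hQD
      exact hno (hyp F hsat)
    · obtain ⟨n, hn, ⟨e⟩⟩ := hQ
      obtain ⟨F, hsat, hno⟩ := Cfsg.Agent.Lib.Helper84.exists_saturated_not_hasSSChain_of_quaternion hS n hn e
      exact hno (hyp F hsat)
  · -- `S` not of the excluded types ⇒ every saturated system is supersoluble
    intro hgood F hF
    by_cases hab : IsMulCommutative ↥S
    · refine (Cfsg.Agent.S5284.result p hS hab).mpr ?_ F hF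
      rintro ⟨n, H, instH, hn, ⟨ε⟩⟩
      apply hgood
      left
      exact ⟨n, hn, Cfsg.Agent.Lib.Helper84.nonempty_equiv_homocyclic_of_isMetacyclic p hS hm hn ε⟩
    · by_cases hp2 : p = 2
      · subst hp2
        apply Cfsg.Agent.Lib.Helper84.hasSSChain_of_inner_of_isMetacyclic F _ hm
        apply Cfsg.Agent.S5212.result hS F hF hm
        · rintro ⟨n, k, ⟨e⟩⟩
          apply hab
          exact ⟨⟨fun a b => e.injective (by rw [map_mul, map_mul, mul_comm])⟩⟩
        · rintro ⟨m, ⟨e⟩⟩
          by_cases hm2 : 2 ≤ m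
          · exact hgood (Or.inr ⟨rfl, Or.inl ⟨m, hm2, ⟨e⟩⟩⟩)
          · have hcard : Nat.card ↥S = 2 * m := by
              rw [Nat.card_congr e.toEquiv, DihedralGroup.nat_card]
            have hpos : 0 < Nat.card ↥S := Nat.card_pos
            have hm1 : m = 1 := by omega
            rw [hm1] at hcard
            have : Fact (Nat.Prime 2) := ⟨Nat.prime_two⟩
            have hcyc : IsCyclic ↥S := isCyclic_of_prime_card (p := 2) hcard
            apply hab
            exact ⟨⟨fun a b => (IsCyclic.commGroup (α := ↥S)).mul_comm a b⟩⟩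
        · rintro ⟨m, ⟨e⟩⟩
          by_cases hm2 : 2 ≤ m
          · exact hgood (Or.inr ⟨rfl, Or.inr (Or.inr ⟨m, hm2, ⟨e⟩⟩)⟩)
          · have hfin : Finite (QuaternionGroup m) := Finite.of_equiv ↥S e.toEquiv
            have hpos := orderOf_pos (QuaternionGroup.a 1 : QuaternionGroup m)
            rw [QuaternionGroup.orderOf_a_one] at hpos
            have hm1 : m = 1 := by omega
            subst hm1
            have hcyc : IsCyclic (QuaternionGroup 1) := QuaternionGroup.quaternionGroup_one_isCyclic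
            apply hab
            refine ⟨⟨fun a b => e.injective ?_⟩⟩
            rw [map_mul, map_mul]
            exact (IsCyclic.commGroup (α := QuaternionGroup 1)).mul_comm _ _
        · intro h
          exact hgood (Or.inr ⟨rfl, Or.inr (Or.inl h)⟩)
      · refine (Cfsg.Agent.S5283.result p hS).mpr ⟨fun F' hF' => ?_, fun H hH => ?_⟩ F hF
        · exact Cfsg.Agent.S5234.result p hS F' hF' S (Cfsg.Agent.Lib.Helper84.ss_stronglyClosed_self F') hp2 hm
        · exact Cfsg.Agent.Lib.Helper84.aut_comm_pow_of_isMetacyclic p hp2 hS hm hab H hH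

end Cfsg.Agent.S5287
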