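import Cfsg.Statements.S5289
import Cfsg.Agent.S3888
import Cfsg.Agent.S5234
import Cfsg.Agent.Lib.Helper73.NormalLocal
import Cfsg.Agent.Lib.Helper70.RkRes.Glue3
import Cfsg.Agent.Lib.Helper70.RkRes.Exp3

set_option autoImplicit false
open Cfsg

namespace Cfsg.Agent.S5289

open Cfsg.Agent.Lib.Helper70.RkRes

/-- Generators of `↥S` generate `S` inside `Ω`. -/
theorem closure_coe_eq {Ω : Type*} [Group Ω] {S : Subgroup Ω} (x y z : S)
    (hgen : Subgroup.closure ({x, y, z} : Set S) = ⊤) :
    Subgroup.closure ({(x : Ω), (y : Ω), (z : Ω)} : Set Ω) = S := by
  have h1 := congrArg (Subgroup.map S.subtype) hgen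
  rw [MonoidHom.map_closure, ← MonoidHom.range_eq_map, Subgroup.range_subtype] at h1
  have h2 : (S.subtype '' ({x, y, z} : Set S)) = ({(x : Ω), (y : Ω), (z : Ω)} : Set Ω) := by
    ext g
    simp [Set.image_insert_eq]
  rw [h2] at h1
  exact h1

/-- Let p ≥ 5 be a prime and S a finite p-group of p-rank two (it has an elementary abelian subgroup of order p² and none of order p³) which is not the extraspecial group of order p³ and exponent p. Then S is resistant: for every saturated fusion system F over S, S is normal in F, that is, every map of F extends to an F-automorphism of S. -/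
theorem result {Ω : Type*} [Group Ω] {S : Subgroup Ω} [Finite S] (p : ℕ) [Fact p.Prime] (hS : IsPGroup p S)
    (F : Cfsg.FusionSystem S) (hF : F.IsSaturated p)
    (hp : 5 ≤ p)
    (hrank2 : ∃ E : Subgroup Ω, E ≤ S ∧ Cfsg.IsElementaryAbelian p E ∧ Nat.card E = p ^ 2)
    (hrank3 : ∀ E : Subgroup Ω, E ≤ S → Cfsg.IsElementaryAbelian p E → Nat.card E ≤ p ^ 2)
    (hnotE : ¬ (Nat.card S = p ^ 3 ∧ Monoid.exponent ↥S = p)) : F.IsNormal S := by
  classical
  have hpp : p.Prime := Fact.out
  have hp2 : p ≠ 2 := by omega
  obtain ⟨n, hn⟩ := IsPGroup.iff_card.1 hS
  have hSc : F.StronglyClosed S := ⟨le_rfl, fun R _ φ hφ x => (F.le_of_mem hφ).2 x⟩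
  -- the rank condition on `↥S`
  have hrk : Cfsg.PRankLE p 2 ↥S := by
    intro A hAc hAe
    have h1 := hrank3 (A.map S.subtype) (by
      rintro _ ⟨a, -, rfl⟩
      exact a.2) ⟨?_, ?_⟩
    · have h2 : Nat.card ↥(A.map S.subtype) = Nat.card A :=
        (Nat.card_congr (A.equivMapOfInjective S.subtype S.subtype_injective).toEquiv).symm
      rwa [h2] at h1
    · refine ⟨⟨?_⟩⟩
      rintro ⟨_, a, ha, rfl⟩ ⟨_, b, hb, rfl⟩
      apply Subtype.ext
      have := hAc.is_comm.comm ⟨a, ha⟩ ⟨b, hb⟩
      have h3 : a * b = b * a := congrArg Subtype.val this
      show S.subtype a * S.subtype b = S.subtype b * S.subtype a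
      rw [← map_mul, ← map_mul, h3]
    · rintro _ ⟨a, ha, rfl⟩
      rw [← map_pow, hAe a ha, map_one]
  rcases Cfsg.Agent.S3888.result hp2 n hn hrk with hmeta | ⟨hn3, x, y, z, hgen, hx, hy, hz, hxz, hyz, hxy⟩ |
    ⟨hn4, s, x, y, z, hs, hgen, hx, hy, hz, hyz, hxy, hxz⟩ | ⟨hp3, -, -⟩
  · exact Cfsg.Agent.S5234.result p hS F hF S hSc hp2 hmeta
  · by_cases h3 : n = 3
    · exfalso
      apply hnotE
      subst h3
      refine ⟨hn, ?_⟩
      have hexp : ∀ g : S, g ^ p = 1 := by
        intro g
        have hz' : z ^ p = 1 := by simpa using hz
        have hxy' : x⁻¹ * y * x = y * z := by simpa using hxy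
        refine exp_three hp2 hx hy hz' hxz hyz hxy' g ?_
        rw [hgen]; trivial
      have hdvd : Monoid.exponent ↥S ∣ p := Monoid.exponent_dvd_of_forall_pow_eq_one hexp
      rcases (Nat.dvd_prime hpp).1 hdvd with h1 | h1
      · exfalso
        have hsub : Subsingleton ↥S := Monoid.exp_eq_one_iff.1 h1
        have : Nat.card ↥S = 1 := Nat.card_of_subsingleton 1
        rw [hn] at this
        have h4 : 1 < p ^ 3 := Nat.one_lt_pow (by norm_num) hpp.one_lt
        omega
      · exact h1
    · have D : RData p n S (x : Ω) (y : Ω) (z : Ω) 0 1 :=
        { hp5 := hp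
          hn := by omega
          he := by
            intro h
            have := Nat.le_of_dvd (by norm_num) h
            omega
          gen := closure_coe_eq x y z hgen
          card := hn
          xp := by
            have := congrArg Subtype.val hx
            simpa using this
          yp := by
            have := congrArg Subtype.val hy
            simpa using this
          zp := by
            have := congrArg Subtype.val hz
            simpa using this
          yz := by
            have := congrArg Subtype.val hyz
            simpa using this
          xy := by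
            have := congrArg Subtype.val hxy
            simpa using this
          xz := by
            have := congrArg Subtype.val hxz
            have h4 : (x : Ω) * z = z * x := by simpa using this
            rw [pow_zero, one_mul, mul_assoc, ← h4]
            group }
      exact Cfsg.Agent.Lib.Helper73.isNormal_of_local F hS hF S hSc
        (fun R hRa hRr hSR => local_step D (Or.inl rfl) hS F hF R hRa hRr hSR)
  · have D : RData p n S (x : Ω) (y : Ω) (z : Ω) 1 s :=
      { hp5 := hp
        hn := hn4
        he := by
          intro h
          rcases hs with rfl | hs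
          · have := Nat.le_of_dvd (by norm_num) h
            omega
          · apply hs
            have : (s : ZMod p) = 0 := (ZMod.natCast_eq_zero_iff s p).2 h
            rw [this]
            exact ⟨0, by simp⟩
        gen := closure_coe_eq x y z hgen
        card := hn
        xp := by
          have := congrArg Subtype.val hx
          simpa using this
        yp := by
          have := congrArg Subtype.val hy
          simpa using this
        zp := by
          have := congrArg Subtype.val hz
          simpa using this
        yz := by
          have := congrArg Subtype.val hyz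
          simpa using this
        xy := by
          have := congrArg Subtype.val hxy
          simpa using this
        xz := by
          have := congrArg Subtype.val hxz
          simpa using this }
    exact Cfsg.Agent.Lib.Helper73.isNormal_of_local F hS hF S hSc
      (fun R hRa hRr hSR => local_step D (Or.inr rfl) hS F hF R hRa hRr hSR)
  · omega

end Cfsg.Agent.S5289
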