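import Cfsg.Statements.S5290
import Cfsg.Agent.Lib.Helper88.FusionInner
import Cfsg.Agent.Lib.Helper88.FusionAut
import Cfsg.Agent.Lib.Helper87.FusionNormal

set_option autoImplicit false
open Cfsg

namespace Cfsg.Agent.S5290

open Cfsg.FusionSystem
open Cfsg.Agent.Lib.Helper87 Cfsg.Agent.Lib.Helper88

variable {Ω : Type*} [Group Ω] {S : Subgroup Ω}

theorem stronglyClosed_of_isNormal' (F : FusionSystem S) {Q : Subgroup Ω} (hn : F.IsNormal Q) :
    F.StronglyClosed Q := by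
  refine ⟨hn.1, fun R hRQ φ hφ x => ?_⟩
  obtain ⟨ψ, -, hψ1, hψ2⟩ := hn.2 R φ hφ
  rw [← hψ1 x]
  exact hψ2.le ⟨_, hRQ x.2, rfl⟩

/-- forward direction -/
theorem forward [Finite S] (p : ℕ) [Fact p.Prime] (hS : IsPGroup p S) (F : FusionSystem S)
    (hF : F.IsSaturated p) (Q : Subgroup Ω) (hQ : Q ≤ S) (hn : F.IsNormal Q) :
    (innerFusionSystem Q).IsWeaklyNormalIn F p := by
  have hfinQ : Finite Q := finite_of_le hQ
  have hQp : IsPGroup p Q := by
    intro x
    obtain ⟨k, hk⟩ := hS ⟨x, hQ x.2⟩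
    refine ⟨k, Subtype.ext ?_⟩
    have := congrArg (fun z : S => (z : Ω)) hk
    simpa using this
  refine ⟨inner_isSaturated hQp, hF, ?_, stronglyClosed_of_isNormal' F hn, ?_, ?_⟩
  · rintro P φ ⟨hP, g, hg, h⟩
    refine hom_of_eq_on F rfl (F.conj_mem (hP.trans hQ) (hQ hg)) (fun x hx _ => ?_)
    exact h ⟨x, hx⟩
  · rintro P hPQ φ ⟨-, g, hg, h⟩ α hα
    refine ⟨conjHom _ ((α ⟨g, hg⟩ : Q) : Ω), ⟨?_, _, (α ⟨g, hg⟩).2, fun _ => rfl⟩, ?_⟩
    · rintro _ ⟨y, -, rfl⟩
      exact (α y).2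
    · intro x hφx hαx
      show ((α ⟨g, hg⟩ : Q) : Ω) * ((α ⟨x, hPQ x.2⟩ : Q) : Ω) * ((α ⟨g, hg⟩ : Q) : Ω)⁻¹ = _
      have h1 : (⟨φ x, hφx⟩ : Q) = ⟨g, hg⟩ * ⟨x, hPQ x.2⟩ * ⟨g, hg⟩⁻¹ := Subtype.ext (h x)
      rw [h1, map_mul, map_mul, map_inv]
      rfl
  · intro P hPQ φ hφ
    obtain ⟨ψ, hψ, hψ1, hψ2⟩ := hn.2 P φ hφ
    have hle : Q ≤ P ⊔ Q := le_sup_right
    have hψQ : ψ.comp (Subgroup.inclusion hle) ∈ F.Hom Q := restrict_mem F hψ hle
    have hr : (ψ.comp (Subgroup.inclusion hle)).range = Q := by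
      apply le_antisymm
      · rintro _ ⟨y, rfl⟩
        exact hψ2.le ⟨_, y.2, rfl⟩
      · intro y hy
        obtain ⟨z, hz, rfl⟩ := hψ2.ge hy
        exact ⟨⟨z, hz⟩, rfl⟩
    obtain ⟨α, hα, hαe⟩ := exists_aut_of_range_eq F hψQ hr
    refine ⟨α, hα, P.subtype, ⟨hPQ, 1, Q.one_mem, fun x => by simp⟩, fun x hx => ?_⟩
    rw [hαe, ← hψ1 x]
    rfl

/-- backward direction -/
theorem backward [Finite S] (p : ℕ) [Fact p.Prime] (hS : IsPGroup p S) (F : FusionSystem S)
    (hF : F.IsSaturated p) (Q : Subgroup Ω) (hQ : Q ≤ S)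
    (hw : (innerFusionSystem Q).IsWeaklyNormalIn F p) : F.IsNormal Q := by
  obtain ⟨-, -, -, hsc, -, hfr⟩ := hw
  have hfinQ : Finite Q := finite_of_le hQ
  have hQp : IsPGroup p Q := by
    intro x
    obtain ⟨k, hk⟩ := hS ⟨x, hQ x.2⟩
    refine ⟨k, Subtype.ext ?_⟩
    have := congrArg (fun z : S => (z : Ω)) hk
    simpa using this
  have hnil : Group.IsNilpotent Q := hQp.isNilpotent
  obtain ⟨n, hn⟩ := hnil.nilpotent'
  have htop : ∀ k, n ≤ k → Subgroup.upperCentralSeries Q k = ⊤ := by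
    intro k hk
    exact top_le_iff.1 (hn ▸ Subgroup.upperCentralSeries_mono Q hk)
  refine isNormal_of_chain F hS hF Q hsc n (fun k => (Subgroup.upperCentralSeries Q k).map Q.subtype) ?_ ?_ ?_ ?_ ?_
  · show (Subgroup.upperCentralSeries Q 0).map Q.subtype = ⊥
    rw [Subgroup.upperCentralSeries_zero, Subgroup.map_bot]
  · intro k hk
    show (Subgroup.upperCentralSeries Q k).map Q.subtype = Q
    rw [htop k hk, ← MonoidHom.range_eq_map, Subgroup.range_subtype]
  · intro a b hab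
    exact Subgroup.map_mono (Subgroup.upperCentralSeries_mono Q hab)
  · intro k _
    rw [Subgroup.commutator_le]
    rintro _ ⟨a, ha, rfl⟩ b hb
    have ha' : a ∈ Subgroup.upperCentralSeries Q (k + 1) := ha
    rw [Subgroup.mem_upperCentralSeries_succ_iff] at ha'
    exact ⟨_, ha' ⟨b, hb⟩, rfl⟩
  · intro k _
    have hle : (Subgroup.upperCentralSeries Q k).map Q.subtype ≤ Q := Subgroup.map_subtype_le _
    refine ⟨hle.trans hQ, fun φ hφ => ?_⟩
    obtain ⟨α, -, φ₀, ⟨-, g, hg, hφ₀⟩, hfac⟩ := hfr _ hle φ hφ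
    have hfinc : Finite ((Subgroup.upperCentralSeries Q k).map Q.subtype : Subgroup Ω) := finite_of_le (hle.trans hQ)
    have hsub : φ.range ≤ (Subgroup.upperCentralSeries Q k).map Q.subtype := by
      rintro _ ⟨x, rfl⟩
      obtain ⟨x', hx', hxx'⟩ := x.2
      have hφ₀x : φ₀ x ∈ Q := by
        rw [hφ₀]
        exact Q.mul_mem (Q.mul_mem hg (hle x.2)) (Q.inv_mem hg)
      rw [hfac x hφ₀x]
      have h1 : (⟨φ₀ x, hφ₀x⟩ : Q) = ⟨g, hg⟩ * x' * ⟨g, hg⟩⁻¹ := by
        apply Subtype.ext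
        show φ₀ x = g * (x' : Ω) * g⁻¹
        rw [hφ₀]
        congr 2
        exact hxx'.symm
      have h2 : (⟨φ₀ x, hφ₀x⟩ : Q) ∈ Subgroup.upperCentralSeries Q k := by
        rw [h1]
        exact (inferInstance : (Subgroup.upperCentralSeries Q k).Normal).conj_mem x' hx' _
      have h3 : α ⟨φ₀ x, hφ₀x⟩ ∈ Subgroup.upperCentralSeries Q k := by
        have hc : (Subgroup.upperCentralSeries Q k).Characteristic := inferInstance
        have := Subgroup.characteristic_iff_le_comap.1 hc α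
        exact this h2
      exact ⟨_, h3, rfl⟩
    apply Subgroup.eq_of_le_of_card_ge hsub
    have hinj := F.injective_of_mem hφ
    exact le_of_eq (Nat.card_congr (MonoidHom.ofInjective hinj).toEquiv)

/-- Let F be a saturated fusion system over a finite p-group S and Q a subgroup of S. Then Q is normal in F (F = N_F(Q)) if and only if the inner fusion system of Q, consisting of the conjugations by elements of Q on subgroups of Q, is a weakly normal subsystem of F (both saturated, Q strongly closed, invariant under F-conjugation, with the Frattini property). -/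
theorem result {Ω : Type*} [Group Ω] {S : Subgroup Ω} [Finite S] (p : ℕ) [Fact p.Prime] (hS : IsPGroup p S)
    (F : Cfsg.FusionSystem S) (hF : F.IsSaturated p)
    (Q : Subgroup Ω) (hQ : Q ≤ S) :
    F.IsNormal Q ↔ (Cfsg.innerFusionSystem Q).IsWeaklyNormalIn F p := by
  exact ⟨forward p hS F hF Q hQ, backward p hS F hF Q hQ⟩

end Cfsg.Agent.S5290
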