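import Cfsg.Statements.S5294
import Cfsg.Agent.Lib.Helper85.FusionBasic
import Cfsg.Agent.Lib.Helper85.FusionNormal
import Cfsg.Agent.Lib.Helper88.FusionAut
import Cfsg.Agent.Lib.Helper88.TraceDecomp

set_option autoImplicit false
universe u
open Cfsg

namespace Cfsg.Agent.S5294

open Cfsg.Agent.Lib.Helper85 Cfsg.Agent.Lib.Helper88
open scoped IsMulCommutative

theorem aut_apply_mem_center {G : Type*} [Group G] (a : MulAut G) (z : Subgroup.center G) :
    a (z : G) ∈ Subgroup.center G := by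
  rw [Subgroup.mem_center_iff]
  intro g
  have hz := Subgroup.mem_center_iff.mp z.2 (a.symm g)
  have := congrArg a hz
  simpa using this

/-- restriction of automorphisms to the centre, as endomorphisms -/
def centerEnd (G : Type*) [Group G] : MulAut G →* Monoid.End (Subgroup.center G) where
  toFun a := (a.toMonoidHom.comp (Subgroup.center G).subtype).codRestrict (Subgroup.center G)
    (fun z => aut_apply_mem_center a z)
  map_one' := by ext z; rfl
  map_mul' := by intro a b; ext z; rfl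

theorem centerEnd_apply {G : Type*} [Group G] (a : MulAut G) (z : Subgroup.center G) :
    ((centerEnd G a z : Subgroup.center G) : G) = a (z : G) := rfl

/-- Let F be a saturated fusion system over a finite p-group S whose centre Z(S) lies in the largest subgroup O_p(F) normal in F. Then the centre Z(F) of F is a direct factor of Z(S): there is a subgroup K of Z(S) with Z(F) ∩ K = 1 and Z(F)K = Z(S). -/
theorem result {Ω : Type u} [Group Ω] {S : Subgroup Ω} [Finite S] (p : ℕ) [Fact p.Prime] (hS : IsPGroup p S)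
    (F : Cfsg.FusionSystem S) (hF : F.IsSaturated p) (hZ : (S ⊓ Subgroup.centralizer (S : Set Ω)) ≤ F.core) :
    ∃ K : Subgroup Ω, K ≤ (S ⊓ Subgroup.centralizer (S : Set Ω)) ∧ F.center ⊓ K = ⊥ ∧ F.center ⊔ K = (S ⊓ Subgroup.centralizer (S : Set Ω)) := by
  set Q : Subgroup Ω := F.core with hQdef
  have hQn : F.IsNormal Q := isNormal_core F
  have hQS : Q ≤ S := hQn.1
  have hfinQ : Finite Q := Finite.of_injective (Subgroup.inclusion hQS) (Subgroup.inclusion_injective hQS)
  -- the action on the centre of Q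
  let ρ : ↥(F.autGroup Q) →* Monoid.End (Subgroup.center Q) :=
    (centerEnd Q).comp (F.autGroup Q).subtype
  let T : Subgroup ↥(F.autGroup Q) := (autInducedBy S Q).subgroupOf (F.autGroup Q)
  -- T is a Sylow p-subgroup
  obtain ⟨⟨-, R, hR⟩, -⟩ :=
    fullyAutomized_receptive_of_weaklyClosed F p hF (weaklyClosed_of_isNormal F hQn)
  have hidx : ¬ p ∣ T.index := by
    have := R.not_dvd_index
    rw [hR] at this
    exact this
  have hp : p.Prime := Fact.out
  have hpQ : IsPGroup p Q := by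
    intro x
    obtain ⟨k, hk⟩ := hS ⟨x, hQS x.2⟩
    refine ⟨k, ?_⟩
    apply Subtype.ext
    have := congrArg (fun z : S => (z : Ω)) hk
    simpa using this
  have hpZ : IsPGroup p (Subgroup.center Q) := hpQ.to_subgroup _
  obtain ⟨k, hk⟩ := IsPGroup.iff_card.mp hpZ
  have hcop : (T.index).Coprime (Nat.card (Subgroup.center Q)) := by
    rw [hk]
    exact Nat.Coprime.pow_right k ((Nat.Prime.coprime_iff_not_dvd hp).2 hidx).symm
  obtain ⟨K₀, hK1, hK2, hK3⟩ := trace_decomp ρ T hcop
  let ι : Subgroup.center Q →* Ω := Q.subtype.comp (Subgroup.center Q).subtype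
  have hι : Function.Injective ι :=
    (Subgroup.subtype_injective Q).comp (Subgroup.subtype_injective _)
  -- centre elements of S lie in Z(Q)
  have hZS_center : ∀ z : Ω, z ∈ S ⊓ Subgroup.centralizer (S : Set Ω) →
      ∃ hzQ : z ∈ Q, (⟨z, hzQ⟩ : Q) ∈ Subgroup.center Q := by
    intro z hz
    have hzQ : z ∈ Q := hZ hz
    refine ⟨hzQ, ?_⟩
    rw [Subgroup.mem_center_iff]
    intro q
    apply Subtype.ext
    exact (Subgroup.mem_centralizer_iff.mp hz.2 q (hQS q.2))
  -- Claim B
  have hB : (fixOf ρ T).map ι = S ⊓ Subgroup.centralizer (S : Set Ω) := by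
    apply le_antisymm
    · rintro _ ⟨z, hz, rfl⟩
      refine ⟨hQS (z : Q).2, ?_⟩
      show ι z ∈ Subgroup.centralizer (S : Set Ω)
      rw [Subgroup.mem_centralizer_iff]
      intro g hg
      obtain ⟨α, hα, hαx⟩ := exists_autInducedBy_of_isNormal F hQn hg
      have hαA : α ∈ F.autGroup Q := autInducedBy_le_autGroup F hQS hα
      have hmem : (⟨α, hαA⟩ : F.autGroup Q) ∈ T := by
        show (⟨α, hαA⟩ : F.autGroup Q) ∈ (autInducedBy S Q).subgroupOf (F.autGroup Q)
        rw [Subgroup.mem_subgroupOf]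
        exact hα
      have hfix := hz ⟨α, hαA⟩ hmem
      have h2 : ((α (z : Q) : Q) : Ω) = ((z : Q) : Ω) := by
        have := congrArg (fun w : Subgroup.center Q => ((w : Q) : Ω)) hfix
        exact this
      rw [hαx] at h2
      show g * ((z : Q) : Ω) = ((z : Q) : Ω) * g
      calc g * ((z : Q) : Ω) = g * ((z : Q) : Ω) * g⁻¹ * g := by group
        _ = ((z : Q) : Ω) * g := by rw [h2]
    · intro z hz
      obtain ⟨hzQ, hzc⟩ := hZS_center z hz
      refine ⟨⟨⟨z, hzQ⟩, hzc⟩, ?_, rfl⟩
      intro t ht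
      have ht' : (t : MulAut Q) ∈ autInducedBy S Q := by
        have : t ∈ (autInducedBy S Q).subgroupOf (F.autGroup Q) := ht
        rwa [Subgroup.mem_subgroupOf] at this
      rw [mem_autInducedBy_iff] at ht'
      obtain ⟨g, hg, hgt⟩ := ht'
      apply Subtype.ext
      apply Subtype.ext
      show (((t : MulAut Q) ⟨z, hzQ⟩ : Q) : Ω) = z
      rw [hgt]
      show g * z * g⁻¹ = z
      rw [Subgroup.mem_centralizer_iff.mp hz.2 g hg, mul_inv_cancel_right]
  -- Claim A
  have hA : (fixOf ρ ⊤).map ι = F.center := by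
    apply le_antisymm
    · apply le_center_of_isCentral
      have hCQ : (fixOf ρ ⊤).map ι ≤ Q := by
        rintro _ ⟨z, -, rfl⟩
        exact (z : Q).2
      refine ⟨hCQ.trans hQS, fun P φ hφ => ?_⟩
      obtain ⟨ψ, hψ, hψ1, α, hα, hαx⟩ := exists_extension_aut_of_isNormal F hQn hφ
      have hle : P ⊔ (fixOf ρ ⊤).map ι ≤ P ⊔ Q := sup_le_sup_left hCQ P
      refine ⟨_, restrict_mem F hψ hle, fun x => ?_, fun x => ?_⟩
      · exact hψ1 x
      · obtain ⟨_, ⟨z, hz, rfl⟩⟩ := x
        have hfix := hz ⟨α, hα⟩ (Subgroup.mem_top _)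
        have h2 : ((α (z : Q) : Q) : Ω) = ((z : Q) : Ω) := by
          have := congrArg (fun w : Subgroup.center Q => ((w : Q) : Ω)) hfix
          exact this
        rw [hαx] at h2
        exact h2
    · have hc := isCentral_center F
      intro z hz
      have hzS : z ∈ S := hc.1 hz
      have hzZ : z ∈ S ⊓ Subgroup.centralizer (S : Set Ω) := ⟨hzS, F.center_le_centralizer hz⟩
      obtain ⟨hzQ, hzc⟩ := hZS_center z hzZ
      refine ⟨⟨⟨z, hzQ⟩, hzc⟩, ?_, rfl⟩
      intro a _
      have hφ : Q.subtype.comp (a : MulAut Q).toMonoidHom ∈ F.Hom Q :=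
        (mem_autGroup_iff F hQS _).1 a.2
      obtain ⟨ψ, -, hψ1, hψ2⟩ := hc.2 Q _ hφ
      have h1 := hψ1 ⟨z, hzQ⟩
      have h2 := hψ2 ⟨z, hz⟩
      have e : Subgroup.inclusion (le_sup_left : Q ≤ Q ⊔ F.center) ⟨z, hzQ⟩ =
          Subgroup.inclusion (le_sup_right : F.center ≤ Q ⊔ F.center) ⟨z, hz⟩ := Subtype.ext rfl
      rw [e, h2] at h1
      apply Subtype.ext
      apply Subtype.ext
      exact h1.symm
  refine ⟨K₀.map ι, ?_, ?_, ?_⟩
  · rw [← hB]
    exact Subgroup.map_mono hK1
  · rw [← hA, ← Subgroup.map_inf _ _ _ hι, hK2, Subgroup.map_bot]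
  · rw [← hA, ← Subgroup.map_sup, hK3, hB]

end Cfsg.Agent.S5294
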