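import Cfsg.Statements.S5295
import Cfsg.Agent.Lib.Helper85.FusionCenterFactor

set_option autoImplicit false
universe u
open Cfsg

namespace Cfsg.Agent.S5295

/-- Let F be a saturated fusion system over a finite p-group S with p odd. Then the centre Z(F) of F is a direct factor of Z(S): there is a subgroup K of Z(S) with Z(F) ∩ K = 1 and Z(F)K = Z(S). (At the prime 2 this can fail.) -/
theorem result {Ω : Type u} [Group Ω] {S : Subgroup Ω} [Finite S] (p : ℕ) [Fact p.Prime] (hp : p ≠ 2) (hS : IsPGroup p S)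
    (F : Cfsg.FusionSystem S) (hF : F.IsSaturated p) :
    ∃ K : Subgroup Ω, K ≤ (S ⊓ Subgroup.centralizer (S : Set Ω)) ∧ F.center ⊓ K = ⊥ ∧ F.center ⊔ K = (S ⊓ Subgroup.centralizer (S : Set Ω)) := by
  have hW := Cfsg.Agent.Lib.Helper33.isCharPFunctor_kInfLower.{u} p
  have hWZ : Cfsg.Agent.Lib.Helper85.CenterLe.{u} p (fun Q _ => Cfsg.kInfLower Q) :=
    Cfsg.Agent.Lib.Helper85.centerLe_kInfLower
  have hC : Cfsg.Agent.Lib.Helper85.WCHyp.{u} p (fun Q _ => Cfsg.kInfLower Q) :=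
    Cfsg.Agent.Lib.Helper85.wcHyp_kInfLower hp
  have hVS : Cfsg.inducedFunctor (fun Q _ => Cfsg.kInfLower Q) S ≤ S :=
    Cfsg.Agent.Lib.Helper88.NilpRed.inducedFunctor_le _ S
  have hN := Cfsg.Agent.Lib.Helper85.isNormalizerSystem_normalizerSystem F _ hVS
  have hcen := Cfsg.Agent.Lib.Helper85.center_normalizer_eq hW hWZ hC hS F hF hN
  have hVn : Cfsg.FusionSystem.normalizerIn S (Cfsg.inducedFunctor (fun Q _ => Cfsg.kInfLower Q) S) = S :=
    le_antisymm (Cfsg.Agent.Lib.Helper87.normalizerIn_le S _)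
      (Cfsg.Agent.Lib.Helper85.le_normalizerIn_inducedFunctor hW hS)
  have hZV : Cfsg.FusionSystem.centralizerIn S S ≤ Cfsg.inducedFunctor (fun Q _ => Cfsg.kInfLower Q) S :=
    Cfsg.Agent.Lib.Helper85.centralizerIn_le_inducedFunctor hWZ hS
  obtain ⟨K, hK1, hK2, hK3⟩ :=
    Cfsg.Agent.Lib.Helper85.exists_complement_center_normalizer hS F hF hVS hVn hZV hN
  rw [hcen] at hK2 hK3
  exact ⟨K, hK1, hK2, hK3⟩

end Cfsg.Agent.S5295
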