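import Cfsg.Statements.S5298
import Cfsg.Agent.Lib.Helper29.OmegaAut
import Cfsg.Agent.Lib.Helper87.FusionSat
import Cfsg.Agent.Lib.Helper47.Coprime
-- import your own Cfsg.Agent.* helpers here

set_option autoImplicit false
universe u
open Cfsg

namespace Cfsg.Agent.S5298

open Cfsg.FusionSystem
open scoped commutatorElement

variable {Ω : Type u} [Group Ω] {S : Subgroup Ω}

/-- an element `w ≠ 1` with `w ^ p = 1`, or `p = 2` and `w ^ 4 = 1`, generates a cyclic group of order `p` or `4` -/
theorem card_zpowers_small {p : ℕ} [hp : Fact p.Prime] (w : Ω) (hw : w ≠ 1)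
    (hsmall : w ^ p = 1 ∨ (p = 2 ∧ w ^ 4 = 1)) :
    Nat.card (Subgroup.zpowers w) = p ∨ Nat.card (Subgroup.zpowers w) = 4 := by
  rw [Nat.card_zpowers]
  have hne : orderOf w ≠ 1 := fun h => hw (orderOf_eq_one_iff.mp h)
  rcases hsmall with h | ⟨h2, h⟩
  · left
    rcases (Nat.dvd_prime hp.out).mp (orderOf_dvd_of_pow_eq_one h) with h1 | h1
    · exact absurd h1 hne
    · exact h1
  · subst h2
    have hd : orderOf w ∣ 2 ^ 2 := orderOf_dvd_of_pow_eq_one (by norm_num; exact h)
    obtain ⟨k, hk, hkeq⟩ := (Nat.dvd_prime_pow Nat.prime_two).mp hd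
    interval_cases k
    · exact absurd (by simpa using hkeq) hne
    · left; simpa using hkeq
    · right; simpa using hkeq

/-- every `p'`-automorphism in `Aut_F(P)` is trivial -/
theorem aut_eq_one [Finite S] (p : ℕ) [Fact p.Prime] (hS : IsPGroup p S)
    (F : Cfsg.FusionSystem S)
    (h : ∀ A B : Subgroup Ω, A ≤ (F.hyperfocalSubgroup p) → B ≤ (F.hyperfocalSubgroup p) → IsCyclic ↥A → (Nat.card ↥A = p ∨ Nat.card ↥A = 4) → IsCyclic ↥B → (Nat.card ↥B = p ∨ Nat.card ↥B = 4) →
      F.homSet A B ⊆ (Cfsg.innerFusionSystem S).Hom A)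
    (P : Subgroup Ω) (hP : P ≤ S) (α : MulAut P) (hα : α ∈ F.autGroup P)
    (hcop : (orderOf α).Coprime p) : α = 1 := by
  have hfinP : Finite P := Cfsg.Agent.Lib.Helper87.finite_of_le hP
  have hPp : IsPGroup p P := hS.to_le hP
  set Hy : Subgroup Ω := F.hyperfocalSubgroup p with hHy
  -- `x⁻¹ α x` lies in the hyperfocal subgroup
  have hres : (⟨α, hα⟩ : F.autGroup P) ∈ pResidual p (F.autGroup P) := by
    apply Subgroup.subset_closure
    show Nat.Coprime (orderOf (⟨α, hα⟩ : F.autGroup P)) p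
    have : orderOf (⟨α, hα⟩ : F.autGroup P) = orderOf α := by
      rw [← Subgroup.orderOf_coe]
    rw [this]; exact hcop
  have hgen : ∀ x : P, (x : Ω)⁻¹ * (α x : P) ∈ Hy := by
    intro x
    apply Subgroup.subset_closure
    exact ⟨P, ⟨α, hα⟩, x, hP, hres, rfl⟩
  set K : Subgroup P := Hy.subgroupOf P with hK
  have hKinv : ∀ x ∈ K, α x ∈ K := by
    intro x hx
    rw [hK, Subgroup.mem_subgroupOf] at hx ⊢
    have : ((α x : P) : Ω) = (x : Ω) * ((x : Ω)⁻¹ * (α x : P)) := by group
    rw [this]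
    exact mul_mem hx (hgen x)
  by_contra hne1
  -- `α` does not fix `K` elementwise
  have hneK : ∃ x ∈ K, α x ≠ x := by
    by_contra hall
    push Not at hall
    apply hne1
    ext x
    have hc : x⁻¹ * α x ∈ K := by
      rw [hK, Subgroup.mem_subgroupOf]
      simpa using hgen x
    have h1 := hall _ hc
    have h2 : ∃ k : ℕ, (x⁻¹ * α x) ^ p ^ k = 1 := hPp _
    have := Cfsg.Agent.Lib.Helper29.fixed_of_comm_fixed p α hcop x h1 h2
    simp [this]
  obtain ⟨U, hUK, hUinv, hexp, u₀, hu₀, hu₀ne⟩ :=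
    Cfsg.Agent.Lib.Helper29.exists_small_exponent_not_fixed p hPp α hcop K hKinv hneK
  -- the maps of `F` on small cyclic subgroups of `U` are conjugations by elements of `S`
  have hconj : ∀ w ∈ U, ∀ β ∈ F.autGroup P, β w ∈ U → ∃ s ∈ S, ((β w : P) : Ω) = s * (w : Ω) * s⁻¹ := by
    intro w hw β hβ hβw
    by_cases hw1 : w = 1
    · exact ⟨1, one_mem _, by simp [hw1]⟩
    have hwΩ : (w : Ω) ≠ 1 := fun h => hw1 (Subtype.ext h)
    have hβwΩ : ((β w : P) : Ω) ≠ 1 := by
      intro h
      apply hw1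
      have : β w = 1 := Subtype.ext h
      exact (MulEquiv.map_eq_one_iff β).mp this
    have hsmall : ∀ v ∈ U, ((v : P) : Ω) ^ p = 1 ∨ (p = 2 ∧ ((v : P) : Ω) ^ 4 = 1) := by
      intro v hv
      rcases hexp v hv with h1 | ⟨h2, h1⟩
      · left
        have := congrArg Subtype.val h1
        simpa using this
      · right
        refine ⟨h2, ?_⟩
        have := congrArg Subtype.val h1
        simpa using this
    set A : Subgroup Ω := Subgroup.zpowers (w : Ω) with hA
    set B : Subgroup Ω := Subgroup.zpowers ((β w : P) : Ω) with hB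
    have hAP : A ≤ P := Subgroup.zpowers_le.mpr w.2
    have hAHy : A ≤ Hy := by
      rw [hA, Subgroup.zpowers_le]
      exact Subgroup.mem_subgroupOf.mp (hUK hw)
    have hBHy : B ≤ Hy := by
      rw [hB, Subgroup.zpowers_le]
      exact Subgroup.mem_subgroupOf.mp (hUK hβw)
    have hβF : P.subtype.comp β.toMonoidHom ∈ F.Hom P :=
      (Cfsg.Agent.Lib.Helper87.mem_autGroup_iff F hP).mp hβ
    set φ : A →* Ω := (P.subtype.comp β.toMonoidHom).comp (Subgroup.inclusion hAP) with hφ
    have hφF : φ ∈ F.Hom A := Cfsg.Agent.Lib.Helper87.restrict_mem F hβF hAP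
    have hφB : ∀ x : A, φ x ∈ B := by
      rintro ⟨x, hx⟩
      obtain ⟨i, rfl⟩ := Subgroup.mem_zpowers_iff.mp hx
      have h1 : (Subgroup.inclusion hAP ⟨(w : Ω) ^ i, hx⟩ : P) = w ^ i := by
        apply Subtype.ext
        simp
      have h2 : φ ⟨(w : Ω) ^ i, hx⟩ = ((β w : P) : Ω) ^ i := by
        rw [hφ, MonoidHom.comp_apply, h1]
        simp
      rw [h2]
      exact Subgroup.zpow_mem_zpowers _ i
    have hmem : φ ∈ F.homSet A B := ⟨hφF, hφB⟩
    obtain ⟨-, s, hs, hsφ⟩ := h A B hAHy hBHy (Subgroup.isCyclic_zpowers _)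
      (card_zpowers_small _ hwΩ (hsmall w hw)) (Subgroup.isCyclic_zpowers _)
      (card_zpowers_small _ hβwΩ (hsmall _ hβw)) hmem
    refine ⟨s, hs, ?_⟩
    have h3 := hsφ ⟨(w : Ω), Subgroup.mem_zpowers _⟩
    rw [← h3, hφ, MonoidHom.comp_apply]
    have h1 : (Subgroup.inclusion hAP ⟨(w : Ω), Subgroup.mem_zpowers _⟩ : P) = w := by
      apply Subtype.ext
      simp
    rw [h1]
    rfl
  -- descent along the lower central series of `S`
  have hnil : Group.IsNilpotent S := hS.isNilpotent
  obtain ⟨n, hn⟩ := (Subgroup.isNilpotent_iff_lowerCentralSeries S).mp hnil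
  have hfix := Cfsg.Agent.Lib.Helper29.descent_aut p hPp α hcop U hUinv
    (fun k => (S.lowerCentralSeries k).subgroupOf P) n
    (by
      intro x _
      rw [Subgroup.mem_subgroupOf, Subgroup.lowerCentralSeries_zero]
      exact hP x.2)
    (by
      rw [hn]
      ext x
      simp)
    (by
      intro k v hv hvL j
      rw [Subgroup.mem_subgroupOf] at hvL ⊢
      have hαj : α ^ j ∈ F.autGroup P := zpow_mem hα j
      have hvinv : v⁻¹ ∈ U := inv_mem hv
      have hαjU : ∀ i : ℤ, ∀ x ∈ U, (α ^ i) x ∈ U := by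
        intro i
        have hnat : ∀ m : ℕ, ∀ x ∈ U, (α ^ m) x ∈ U := by
          intro m
          induction m with
          | zero => intro x hx; simpa using hx
          | succ m ih =>
            intro x hx
            rw [pow_succ', MulAut.mul_apply]
            exact hUinv _ (ih x hx)
        -- `α ^ i` is a natural power of `α` since `α` has finite order
        have hfinA : Finite (MulAut P) := Cfsg.Agent.Lib.Helper29.finite_mulAut
        obtain ⟨m, hm⟩ : ∃ m : ℕ, α ^ i = α ^ m := by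
          have hpos : (0 : ℤ) < orderOf α := by exact_mod_cast orderOf_pos α
          refine ⟨(i % (orderOf α : ℤ)).toNat, ?_⟩
          rw [← zpow_natCast, Int.toNat_of_nonneg (Int.emod_nonneg _ hpos.ne'), zpow_mod_orderOf]
        rw [hm]
        exact hnat m
      obtain ⟨s, hs, hse⟩ := hconj v⁻¹ hvinv (α ^ j) hαj (hαjU j _ hvinv)
      have : ((v * (α ^ j) v⁻¹ : P) : Ω) = ⁅(v : Ω), s⁆ := by
        rw [Subgroup.coe_mul, hse, commutatorElement_def]
        simp only [Subgroup.coe_inv]
        group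
      rw [this, Subgroup.lowerCentralSeries_succ]
      exact Subgroup.commutator_mem_commutator hvL hs)
  exact hu₀ne (hfix u₀ hu₀)

/-- Let F be a saturated fusion system over a finite p-group S. If every map of F between cyclic subgroups of the hyperfocal subgroup of F of order p or 4 is conjugation by an element of S, then F is the inner fusion system of S. -/
theorem result {Ω : Type u} [Group Ω] {S : Subgroup Ω} [Finite S] (p : ℕ) [Fact p.Prime] (hS : IsPGroup p S)
    (F : Cfsg.FusionSystem S) (hF : F.IsSaturated p)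
    (h : ∀ A B : Subgroup Ω, A ≤ (F.hyperfocalSubgroup p) → B ≤ (F.hyperfocalSubgroup p) → IsCyclic ↥A → (Nat.card ↥A = p ∨ Nat.card ↥A = 4) → IsCyclic ↥B → (Nat.card ↥B = p ∨ Nat.card ↥B = 4) →
      F.homSet A B ⊆ (Cfsg.innerFusionSystem S).Hom A) :
    ∀ P : Subgroup Ω, F.Hom P = (Cfsg.innerFusionSystem S).Hom P := by
  apply Cfsg.Agent.Lib.Helper87.eq_inner_of_autGroup_isPGroup F hS hF
  intro P hP
  have hfinP : Finite P := Cfsg.Agent.Lib.Helper87.finite_of_le hP
  have hfinA : Finite (MulAut P) := Cfsg.Agent.Lib.Helper29.finite_mulAut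
  apply Cfsg.Agent.Lib.Helper47.isPGroup_subgroup_of_forall_coprime_eq_one
  intro α hα hcop
  exact aut_eq_one p hS F h P hP α hα hcop

end Cfsg.Agent.S5298
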