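import Cfsg.Statements.S5297
import Cfsg.Agent.Lib.Helper84.InvariantOmegaAut
import Cfsg.Agent.Lib.Helper87.FusionSat
import Cfsg.Agent.Lib.Helper87.FusionNormal
import Cfsg.Agent.Lib.Helper88.FusionAlperinCR
import Cfsg.Agent.Lib.Helper88.FusionTopNormal
import Cfsg.Agent.Lib.Helper88.FusionNormalCrit
import Cfsg.Agent.Lib.Helper47.Coprime
import Cfsg.Agent.S5124
import Cfsg.Agent.Lib.Helper84.Alperin
import Cfsg.Agent.S5298

set_option autoImplicit false
universe u
open Cfsg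
open scoped commutatorElement

namespace Cfsg.Agent.S5297

open Cfsg.FusionSystem Cfsg.Agent.Lib.Helper84 Cfsg.Agent.Lib.Helper87 Cfsg.Agent.Lib.Helper88

variable {Ω : Type u} [Group Ω] {S : Subgroup Ω}

/-- Under the hypothesis, an `F`-automorphism of `P` maps an element of small order of `hyp(F) ∩ Z_i(S)` into `Z_i(S)`. -/
theorem aut_apply_mem_ucs [Finite S] (p : ℕ) [Fact p.Prime] (F : FusionSystem S)
    (hsc : F.StronglyClosed (F.hyperfocalSubgroup p))
    (h : ∀ A B : Subgroup Ω, A ≤ (F.hyperfocalSubgroup p) → B ≤ (F.hyperfocalSubgroup p) → IsCyclic ↥A → (Nat.card ↥A = p ∨ Nat.card ↥A = 4) → IsCyclic ↥B → (Nat.card ↥B = p ∨ Nat.card ↥B = 4) →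
      F.homSet A B ⊆ F.normalizerHom S A)
    (P : Subgroup Ω) (hP : P ≤ S) (c : MulAut P) (hc : c ∈ F.autGroup P) (i : ℕ) (x : P)
    (hxH : (x : Ω) ∈ F.hyperfocalSubgroup p) (hsm : x ^ p = 1 ∨ (p = 2 ∧ x ^ 4 = 1))
    (hxZ : (x : Ω) ∈ (Subgroup.upperCentralSeries S i).map S.subtype) :
    ((c x : P) : Ω) ∈ (Subgroup.upperCentralSeries S i).map S.subtype := by
  by_cases hx1 : x = 1
  · rw [hx1, map_one]; exact Subgroup.one_mem _
  have hxΩ : (x : Ω) ≠ 1 := fun h => hx1 (Subtype.ext h)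
  have hcxΩ : ((c x : P) : Ω) ≠ 1 := by
    intro h
    apply hx1
    have : c x = 1 := Subtype.ext h
    exact (MulEquiv.map_eq_one_iff c).mp this
  have hsmallΩ : ∀ v : P, (v ^ p = 1 ∨ (p = 2 ∧ v ^ 4 = 1)) →
      ((v : Ω) ^ p = 1 ∨ (p = 2 ∧ (v : Ω) ^ 4 = 1)) := by
    intro v hv
    rcases hv with h1 | ⟨h2, h1⟩
    · left
      have := congrArg Subtype.val h1
      simpa using this
    · right
      refine ⟨h2, ?_⟩
      have := congrArg Subtype.val h1
      simpa using this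
  have hcsm : (c x) ^ p = 1 ∨ (p = 2 ∧ (c x) ^ 4 = 1) := by
    rcases hsm with h1 | ⟨h2, h1⟩
    · left; rw [← map_pow, h1, map_one]
    · right; exact ⟨h2, by rw [← map_pow, h1, map_one]⟩
  set A : Subgroup Ω := Subgroup.zpowers (x : Ω) with hA
  set B : Subgroup Ω := Subgroup.zpowers ((c x : P) : Ω) with hB
  have hAP : A ≤ P := Subgroup.zpowers_le.mpr x.2
  have hAHy : A ≤ F.hyperfocalSubgroup p := Subgroup.zpowers_le.mpr hxH
  have hBHy : B ≤ F.hyperfocalSubgroup p :=
    Subgroup.zpowers_le.mpr (StronglyClosed_aut_mem hsc hP hc hxH)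
  have hcF : P.subtype.comp c.toMonoidHom ∈ F.Hom P := (mem_autGroup_iff F hP).mp hc
  set φ : A →* Ω := (P.subtype.comp c.toMonoidHom).comp (Subgroup.inclusion hAP) with hφ
  have hφF : φ ∈ F.Hom A := restrict_mem F hcF hAP
  have hφB : ∀ y : A, φ y ∈ B := by
    rintro ⟨y, hy⟩
    obtain ⟨j, rfl⟩ := Subgroup.mem_zpowers_iff.mp hy
    have h1 : (Subgroup.inclusion hAP ⟨(x : Ω) ^ j, hy⟩ : P) = x ^ j := by
      apply Subtype.ext
      simp
    have h2 : φ ⟨(x : Ω) ^ j, hy⟩ = ((c x : P) : Ω) ^ j := by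
      rw [hφ, MonoidHom.comp_apply, h1]
      simp
    rw [h2]
    exact Subgroup.zpow_mem_zpowers _ j
  obtain ⟨-, -, -, ψ, hψ, hψe, -⟩ := h A B hAHy hBHy (Subgroup.isCyclic_zpowers _)
    (Cfsg.Agent.S5298.card_zpowers_small _ hxΩ (hsmallΩ x hsm)) (Subgroup.isCyclic_zpowers _)
    (Cfsg.Agent.S5298.card_zpowers_small _ hcxΩ (hsmallΩ _ hcsm)) ⟨hφF, hφB⟩
  have hle : S ≤ A ⊔ S := le_sup_right
  set ψ' : S →* Ω := ψ.comp (Subgroup.inclusion hle) with hψ'def
  have hψ' : ψ' ∈ F.Hom S := restrict_mem F hψ hle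
  have hinj := F.injective_of_mem hψ'
  have hval : ∀ s : S, ψ' s ∈ S := (F.le_of_mem hψ').2
  obtain ⟨s, hs, hsx⟩ := hxZ
  have hmem := upperCentralSeries_map_mem ψ' hinj hval i hs
  have e : ψ' s = ((c x : P) : Ω) := by
    have h1 : (Subgroup.inclusion hle s : ↥(A ⊔ S)) =
        Subgroup.inclusion le_sup_left (⟨(x : Ω), Subgroup.mem_zpowers _⟩ : A) := Subtype.ext hsx
    show ψ (Subgroup.inclusion hle s) = _
    rw [h1, hψe, hφ, MonoidHom.comp_apply]
    have h2 : (Subgroup.inclusion hAP ⟨(x : Ω), Subgroup.mem_zpowers _⟩ : P) = x := Subtype.ext rfl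
    rw [h2]
    rfl
  rw [← e]; exact hmem

/-- The normal closure of `Aut_S(P)` in `Aut_F(P)` is a `p`-group. -/
theorem normalClosure_isPGroup [Finite S] (p : ℕ) [Fact p.Prime] (hS : IsPGroup p S)
    (F : FusionSystem S) (hF : F.IsSaturated p)
    (h : ∀ A B : Subgroup Ω, A ≤ (F.hyperfocalSubgroup p) → B ≤ (F.hyperfocalSubgroup p) → IsCyclic ↥A → (Nat.card ↥A = p ∨ Nat.card ↥A = 4) → IsCyclic ↥B → (Nat.card ↥B = p ∨ Nat.card ↥B = 4) →
      F.homSet A B ⊆ F.normalizerHom S A)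
    (P : Subgroup Ω) (hP : P ≤ S) :
    IsPGroup p (Subgroup.closure {g : MulAut P | ∃ c ∈ F.autGroup P,
      ∃ t ∈ (autInducedBy S P : Set (MulAut P)), g = c * t * c⁻¹}) := by
  have hfinP : Finite P := finite_of_le hP
  have hfinA : Finite (MulAut P) := Cfsg.Agent.Lib.Helper29.finite_mulAut
  have hPp : IsPGroup p P := hS.to_le hP
  have hsc : F.StronglyClosed (F.hyperfocalSubgroup p) := Cfsg.Agent.S5124.result p hS F hF
  set Hy : Subgroup Ω := F.hyperfocalSubgroup p with hHy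
  set K : Subgroup P := Hy.subgroupOf P with hK
  set Zs : ℕ → Subgroup Ω := fun i => (Subgroup.upperCentralSeries S i).map S.subtype with hZs
  have hnil : Group.IsNilpotent S := hS.isNilpotent
  obtain ⟨n, hn⟩ := hnil.nilpotent'
  have hTA : (autInducedBy S P : Set (MulAut P)) ⊆ F.autGroup P := autInducedBy_le_autGroup F hP
  have hX : Subgroup.closure {g : MulAut P | ∃ c ∈ F.autGroup P,
      ∃ t ∈ (autInducedBy S P : Set (MulAut P)), g = c * t * c⁻¹} ≤ F.autGroup P := by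
    rw [Subgroup.closure_le]
    rintro _ ⟨c, hc, t, ht, rfl⟩
    exact (F.autGroup P).mul_mem ((F.autGroup P).mul_mem hc (hTA ht)) ((F.autGroup P).inv_mem hc)
  have key := mulAut_coprime_fixes_of_small_chain p hPp (F.autGroup P)
    (autInducedBy S P : Set (MulAut P)) hTA K
    (fun a ha x hx => by
      rw [hK, Subgroup.mem_subgroupOf] at hx ⊢
      exact StronglyClosed_aut_mem hsc hP ha hx)
    (fun i => (Zs i).subgroupOf P) n
    (by
      rw [eq_bot_iff]
      rintro x ⟨-, hx⟩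
      have hx' : x ∈ (Zs 0).subgroupOf P := hx
      rw [Subgroup.mem_subgroupOf] at hx'
      obtain ⟨s, hs, hsx⟩ := hx'
      have hs' : s ∈ Subgroup.upperCentralSeries S 0 := hs
      rw [Subgroup.upperCentralSeries_zero, Subgroup.mem_bot] at hs'
      rw [Subgroup.mem_bot]
      apply Subtype.ext
      rw [← hsx, hs']
      rfl)
    (by
      intro x _
      rw [Subgroup.mem_subgroupOf]
      refine ⟨⟨(x : Ω), hP x.2⟩, ?_, rfl⟩
      rw [hn]
      exact Subgroup.mem_top _)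
    (fun c hc i x hx hsm hxZ => by
      rw [Subgroup.mem_subgroupOf] at hxZ ⊢
      rw [hK, Subgroup.mem_subgroupOf] at hx
      exact aut_apply_mem_ucs p F hsc h P hP c hc i x hx hsm hxZ)
    (fun t ht i x _ hxZ => by
      rw [Subgroup.mem_subgroupOf] at hxZ ⊢
      obtain ⟨g, hg, hgt⟩ := mem_autInducedBy_iff.1 ht
      obtain ⟨s, hs, hsx⟩ := hxZ
      have hs' : s⁻¹ ∈ Subgroup.upperCentralSeries S (i + 1) :=
        (Subgroup.upperCentralSeries S (i + 1)).inv_mem hs
      rw [Subgroup.mem_upperCentralSeries_succ_iff] at hs'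
      have h1 := hs' ⟨g, hg⟩
      refine ⟨_, h1, ?_⟩
      have hsx' : ((s : S) : Ω) = (x : Ω) := hsx
      show ((⁅s⁻¹, (⟨g, hg⟩ : S)⁆ : S) : Ω) = ((x⁻¹ * t x : P) : Ω)
      rw [commutatorElement_def]
      simp only [Subgroup.coe_mul, Subgroup.coe_inv, inv_inv]
      rw [hsx', hgt x]
      group)
  apply Cfsg.Agent.Lib.Helper47.isPGroup_subgroup_of_forall_coprime_eq_one
  intro a ha hcop
  have haA : a ∈ F.autGroup P := hX ha
  have hfix := key a ha hcop
  -- `x⁻¹ * a x` lies in the hyperfocal subgroup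
  have hres : (⟨a, haA⟩ : F.autGroup P) ∈ pResidual p (F.autGroup P) := by
    apply Subgroup.subset_closure
    show Nat.Coprime (orderOf (⟨a, haA⟩ : F.autGroup P)) p
    have : orderOf (⟨a, haA⟩ : F.autGroup P) = orderOf a := by
      rw [← Subgroup.orderOf_coe]
    rw [this]; exact hcop
  ext x
  have hc : x⁻¹ * a x ∈ K := by
    rw [hK, Subgroup.mem_subgroupOf]
    apply Subgroup.subset_closure
    exact ⟨P, ⟨a, haA⟩, x, hP, hres, by simp⟩
  have h1 := hfix _ hc
  have h2 : ∃ k : ℕ, (x⁻¹ * a x) ^ p ^ k = 1 := hPp _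
  have := Cfsg.Agent.Lib.Helper29.fixed_of_comm_fixed p a hcop x h1 h2
  simp [this]

/-- Under the hypothesis, the only centric radical subgroup is `S`. -/
theorem eq_of_centric_radical [Finite S] (p : ℕ) [Fact p.Prime] (hS : IsPGroup p S)
    (F : FusionSystem S) (hF : F.IsSaturated p)
    (h : ∀ A B : Subgroup Ω, A ≤ (F.hyperfocalSubgroup p) → B ≤ (F.hyperfocalSubgroup p) → IsCyclic ↥A → (Nat.card ↥A = p ∨ Nat.card ↥A = 4) → IsCyclic ↥B → (Nat.card ↥B = p ∨ Nat.card ↥B = 4) →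
      F.homSet A B ⊆ F.normalizerHom S A)
    (R : Subgroup Ω) (hc : F.IsCentric R) (hr : F.IsRadical p R) : R = S := by
  by_contra hne
  have hRS : R ≤ S := hc.1
  have hXp := normalClosure_isPGroup p hS F hF h R hRS
  set X : Subgroup (MulAut R) := Subgroup.closure {g : MulAut R | ∃ c ∈ F.autGroup R,
      ∃ t ∈ (autInducedBy S R : Set (MulAut R)), g = c * t * c⁻¹} with hX
  have hTA : (autInducedBy S R : Set (MulAut R)) ⊆ F.autGroup R := autInducedBy_le_autGroup F hRS
  have hXA : X ≤ F.autGroup R := by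
    rw [hX, Subgroup.closure_le]
    rintro _ ⟨c, hc, t, ht, rfl⟩
    exact (F.autGroup R).mul_mem ((F.autGroup R).mul_mem hc (hTA ht)) ((F.autGroup R).inv_mem hc)
  have hXinv : ∀ c ∈ F.autGroup R, ∀ x ∈ X, c * x * c⁻¹ ∈ X := by
    intro c hc x hx
    induction hx using Subgroup.closure_induction with
    | mem y hy =>
      obtain ⟨d, hd, t, ht, rfl⟩ := hy
      apply Subgroup.subset_closure
      exact ⟨c * d, (F.autGroup R).mul_mem hc hd, t, ht, by group⟩
    | one => simp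
    | mul x y _ _ hx hy =>
      have : c * (x * y) * c⁻¹ = (c * x * c⁻¹) * (c * y * c⁻¹) := by group
      rw [this]; exact X.mul_mem hx hy
    | inv x _ hx =>
      have : c * x⁻¹ * c⁻¹ = (c * x * c⁻¹)⁻¹ := by group
      rw [this]; exact X.inv_mem hx
  have hnorm : (X.subgroupOf (F.autGroup R)).Normal := ⟨fun n hn g => by
    rw [Subgroup.mem_subgroupOf] at hn ⊢
    simp only [Subgroup.coe_mul, Subgroup.coe_inv]
    exact hXinv g g.2 n hn⟩
  have hp' : IsPGroup p (X.subgroupOf (F.autGroup R)) :=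
    hXp.of_equiv (Subgroup.subgroupOfEquivOfLe hXA).symm
  have hle : X.subgroupOf (F.autGroup R) ≤ pCore p (F.autGroup R) := le_sSup ⟨hnorm, hp'⟩
  have hXI : X ≤ Inn R := by
    intro a ha
    rw [← hr.2]
    exact ⟨⟨a, hXA ha⟩, hle (Subgroup.mem_subgroupOf.mpr ha), rfl⟩
  apply autInducedBy_not_le_inn F hS hc hne
  intro a ha
  rw [Subgroup.mem_subgroupOf] at ha ⊢
  apply hXI
  apply Subgroup.subset_closure
  exact ⟨1, one_mem _, a, ha, by simp⟩

/-- Let F be a saturated fusion system over a finite p-group S. If every map of F between cyclic subgroups of the hyperfocal subgroup of F of order p or 4 is a map of the normalizer system of S (it extends to a map of F defined on all of S), then S is normal in F. -/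
theorem result {Ω : Type u} [Group Ω] {S : Subgroup Ω} [Finite S] (p : ℕ) [Fact p.Prime] (hS : IsPGroup p S)
    (F : Cfsg.FusionSystem S) (hF : F.IsSaturated p)
    (h : ∀ A B : Subgroup Ω, A ≤ (F.hyperfocalSubgroup p) → B ≤ (F.hyperfocalSubgroup p) → IsCyclic ↥A → (Nat.card ↥A = p ∨ Nat.card ↥A = 4) → IsCyclic ↥B → (Nat.card ↥B = p ∨ Nat.card ↥B = 4) →
      F.homSet A B ⊆ F.normalizerHom S A) :
    F.IsNormal S := by
  apply isNormal_top_of_le_autRestrictSystem
  apply alperin_cr F (autRestrictSystem F) hS hF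
  intro R _ hRc hRr _ _ α hα
  have hRS : R = S := eq_of_centric_radical p hS F hF h R hRc hRr
  subst hRS
  exact isIso_autRestrictSystem F hα

end Cfsg.Agent.S5297
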