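import Cfsg.Statements.S5299
import Cfsg.Agent.Lib.Helper88.Involves

set_option autoImplicit false
universe u
open Cfsg

namespace Cfsg.Agent.S5299

/-- Let F be a saturated fusion system over a finite p-group S, H a finite group and Q a p-subgroup of H. If Q is not involved in S (no section of S is isomorphic to Q), then F is H-free: H is involved in no model of the normalizer system of a fully normalized centric subgroup. -/
theorem result {Ω : Type u} [Group Ω] {S : Subgroup Ω} [Finite S] (p : ℕ) [Fact p.Prime] (hS : IsPGroup p S)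
    (F : Cfsg.FusionSystem S) (hF : F.IsSaturated p) (H : Type*) [Group H] [Finite H] (Q : Subgroup H) (hQ : IsPGroup p Q)
    (hfree : ¬ Cfsg.Involves (↥Q) (↥S)) : F.IsSectionFree p H := by
  intro Q₀ _ _ N _ L _ ι hM hinv
  obtain ⟨hfin, ⟨hinj, -⟩, ⟨T, hT⟩, -⟩ := hM
  apply hfree
  have h1 : Involves Q L := Cfsg.Agent.Lib.Helper88.Involves.subgroup Q hinv
  have h2 : Involves Q T := Cfsg.Agent.Lib.Helper88.Involves.sylow hQ h1 T
  -- T = ι.range ≃ N_S(Q₀) ↪ S
  let e : (Cfsg.FusionSystem.normalizerIn S Q₀) ≃* ι.range := MonoidHom.ofInjective hinj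
  have hTle : (T : Subgroup L) ≤ ι.range := hT.le
  let f : (T : Subgroup L) →* S :=
    ((Subgroup.inclusion (inf_le_left : Cfsg.FusionSystem.normalizerIn S Q₀ ≤ S)).comp
      e.symm.toMonoidHom).comp (Subgroup.inclusion hTle)
  have hf : Function.Injective f := by
    intro a b hab
    have h3 : (Subgroup.inclusion (inf_le_left : Cfsg.FusionSystem.normalizerIn S Q₀ ≤ S))
        (e.symm (Subgroup.inclusion hTle a)) =
        (Subgroup.inclusion (inf_le_left : Cfsg.FusionSystem.normalizerIn S Q₀ ≤ S))
        (e.symm (Subgroup.inclusion hTle b)) := hab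
    exact Subgroup.inclusion_injective hTle (e.symm.injective (Subgroup.inclusion_injective _ h3))
  exact Cfsg.Agent.Lib.Helper88.Involves.of_injective f hf h2

end Cfsg.Agent.S5299
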