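import Cfsg.Statements.S5300
import Cfsg.Agent.Lib.Helper29.OmegaAut
import Cfsg.Agent.Lib.Helper87.FusionSat
import Cfsg.Agent.Lib.Helper84.Alperin2
import Cfsg.Agent.Lib.Helper86.EssChain2
import Cfsg.Agent.Lib.Helper47.Coprime
-- import your own Cfsg.Agent.* helpers here

set_option autoImplicit false
universe u
open Cfsg

namespace Cfsg.Agent.S5300

open Cfsg.FusionSystem

variable {Ω : Type u} [Group Ω]

/-- the "small order" predicate -/
def Small (p : ℕ) {M : Type*} [Monoid M] (x : M) : Prop := x ^ p = 1 ∨ (p = 2 ∧ x ^ 4 = 1)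

/-- an element of a `p`-group `S` normalizing the cyclic group generated by a small element `y`
centralizes it or (for `p = 2`) inverts it -/
theorem conj_small {S : Subgroup Ω} {p : ℕ} [hp : Fact p.Prime] (hS : IsPGroup p S) (g y : Ω)
    (hg : g ∈ S) (hy : Small p y) (hgy : g * y * g⁻¹ ∈ Subgroup.zpowers y) :
    g * y * g⁻¹ = y ∨ (p = 2 ∧ g * y * g⁻¹ = y⁻¹) := by
  obtain ⟨k, hk⟩ := Subgroup.mem_zpowers_iff.mp hgy
  by_cases hy1 : y = 1
  · left; subst hy1; simp
  have hone : g * y * g⁻¹ ≠ 1 := by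
    intro h
    apply hy1
    have : y = g⁻¹ * (g * y * g⁻¹) * g := by group
    rw [this, h]; group
  by_cases hp2 : p = 2
  · subst hp2
    have hy4 : y ^ (4 : ℤ) = 1 := by
      rcases hy with h | ⟨-, h⟩
      · have : y ^ (4 : ℕ) = (y ^ 2) ^ 2 := by rw [← pow_mul]
        rw [show (4 : ℤ) = ((4 : ℕ) : ℤ) by norm_num, zpow_natCast, this, h, one_pow]
      · rw [show (4 : ℤ) = ((4 : ℕ) : ℤ) by norm_num, zpow_natCast, h]
    have hkmod : y ^ k = y ^ (k % 4) := by
      conv_lhs => rw [← Int.emod_add_mul_ediv k 4, zpow_add, zpow_mul, hy4, one_zpow, mul_one]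
    have h0 : 0 ≤ k % 4 := Int.emod_nonneg _ (by norm_num)
    have h4 : k % 4 < 4 := Int.emod_lt_of_pos _ (by norm_num)
    rw [← hk, hkmod]
    have hcases : k % 4 = 0 ∨ k % 4 = 1 ∨ k % 4 = 2 ∨ k % 4 = 3 := by omega
    rcases hcases with h | h | h | h
    · exfalso
      apply hone
      rw [← hk, hkmod, h, zpow_zero]
    · left; rw [h, zpow_one]
    · exfalso
      -- `(g y g⁻¹)² = y⁴ = 1`, so `y² = 1`, so `g y g⁻¹ = y² = 1`
      have h1 : g * y * g⁻¹ = y ^ (2 : ℤ) := by rw [← hk, hkmod, h]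
      have h2 : (g * y * g⁻¹) ^ 2 = 1 := by
        rw [h1, ← zpow_natCast, ← zpow_mul]
        exact hy4
      rw [conj_pow] at h2
      have h3 : y ^ 2 = 1 := by
        have : y ^ 2 = g⁻¹ * (g * y ^ 2 * g⁻¹) * g := by group
        rw [this, h2]; group
      apply hone
      rw [h1, show (2 : ℤ) = ((2 : ℕ) : ℤ) by norm_num, zpow_natCast, h3]
    · right
      refine ⟨rfl, ?_⟩
      rw [h]
      have : y ^ (3 : ℤ) * y = 1 := by
        rw [← zpow_add_one]; exact hy4
      exact eq_inv_of_mul_eq_one_left this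
  · left
    have hyp : y ^ p = 1 := by
      rcases hy with h | ⟨h2, -⟩
      · exact h
      · exact absurd h2 hp2
    have hord : orderOf y = p := by
      rcases (Nat.dvd_prime hp.out).mp (orderOf_dvd_of_pow_eq_one hyp) with h1 | h1
      · exact absurd (orderOf_eq_one_iff.mp h1) hy1
      · exact h1
    obtain ⟨m, hm⟩ := (IsPGroup.iff_orderOf.mp hS) ⟨g, hg⟩
    rw [Subgroup.orderOf_mk] at hm
    have hgm : g ^ p ^ m = 1 := by rw [← hm]; exact pow_orderOf_eq_one g
    have hiter : ∀ i : ℕ, g ^ i * y * (g ^ i)⁻¹ = y ^ (k ^ i) := by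
      intro i
      induction i with
      | zero => simp
      | succ i ih =>
        have : g ^ (i + 1) * y * (g ^ (i + 1))⁻¹ = g * (g ^ i * y * (g ^ i)⁻¹) * g⁻¹ := by
          rw [pow_succ']; group
        rw [this, ih]
        have h5 : g * y ^ (k ^ i) * g⁻¹ = (g * y * g⁻¹) ^ (k ^ i) := by
          rw [← MulAut.conj_apply, ← MulAut.conj_apply, map_zpow]
        rw [h5, ← hk, ← zpow_mul, pow_succ']
    have h6 := hiter (p ^ m)
    rw [hgm] at h6
    simp only [one_mul, inv_one, mul_one] at h6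
    have h7 : y ^ (1 : ℤ) = y ^ (k ^ (p ^ m)) := by rw [zpow_one]; exact h6
    rw [zpow_eq_zpow_iff_modEq, hord] at h7
    have h8 : ((k ^ (p ^ m) : ℤ) : ZMod p) = ((1 : ℤ) : ZMod p) :=
      ((ZMod.intCast_eq_intCast_iff _ _ p).mpr h7).symm
    push_cast at h8
    rw [ZMod.pow_card_pow] at h8
    have h9 : (k : ZMod p) = ((1 : ℤ) : ZMod p) := by rw [h8]; simp
    have h10 : k ≡ 1 [ZMOD (p : ℤ)] := (ZMod.intCast_eq_intCast_iff _ _ p).mp h9
    rw [← hk]
    have : y ^ k = y ^ (1 : ℤ) := by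
      rw [zpow_eq_zpow_iff_modEq, hord]; exact h10
    rw [this, zpow_one]

section main

variable {S : Subgroup Ω} [Finite S] {p : ℕ} [Fact p.Prime]

/-- the subgroup of `Aut_F(P)` of automorphisms fixing or (for `p = 2`) inverting every small
element of `R` -/
def stab (p : ℕ) {P : Subgroup Ω} (A : Subgroup (MulAut P)) (R : Subgroup P) : Subgroup (MulAut P) where
  carrier := {β | β ∈ A ∧ ∀ x ∈ R, Small p x → (β x = x ∨ (p = 2 ∧ β x = x⁻¹))}
  one_mem' := ⟨one_mem _, fun x _ _ => Or.inl rfl⟩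
  mul_mem' := by
    rintro α β ⟨hα, hα'⟩ ⟨hβ, hβ'⟩
    refine ⟨mul_mem hα hβ, fun x hx hs => ?_⟩
    rw [MulAut.mul_apply]
    rcases hβ' x hx hs with h | ⟨h2, h⟩
    · rw [h]; exact hα' x hx hs
    · rw [h, map_inv]
      rcases hα' x hx hs with h' | ⟨_, h'⟩
      · right; exact ⟨h2, by rw [h']⟩
      · left; rw [h', inv_inv]
  inv_mem' := by
    rintro α ⟨hα, hα'⟩
    refine ⟨inv_mem hα, fun x hx hs => ?_⟩
    rcases hα' x hx hs with h | ⟨h2, h⟩
    · left
      have := congrArg (α⁻¹ : MulAut P) h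
      rw [MulAut.inv_apply_self] at this
      exact this.symm
    · right
      refine ⟨h2, ?_⟩
      have := congrArg (α⁻¹ : MulAut P) h
      rw [MulAut.inv_apply_self, map_inv] at this
      calc α⁻¹ x = ((α⁻¹ x)⁻¹)⁻¹ := (inv_inv _).symm
        _ = x⁻¹ := by rw [← this]

theorem no_essential (hS : IsPGroup p S) (F : Cfsg.FusionSystem S)
    (hnorm : ∀ x ∈ F.focalSubgroup, (x ^ p = 1 ∨ (p = 2 ∧ x ^ 4 = 1)) → ∀ s ∈ S, s * x * s⁻¹ ∈ Subgroup.zpowers x)
    (P : Subgroup Ω) (hPS : P ≠ S) (hess : F.IsEssential p P) : False := by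
  obtain ⟨hcen, hfn, hInn, E, hE⟩ := hess
  have hP : P ≤ S := hcen.1
  have hfinP : Finite P := Cfsg.Agent.Lib.Helper87.finite_of_le hP
  have hfinA : Finite (MulAut P) := Cfsg.Agent.Lib.Helper29.finite_mulAut
  have hPp : IsPGroup p P := hS.to_le hP
  set A : Subgroup (MulAut P) := F.autGroup P with hA
  set R : Subgroup P := F.focalSubgroup.subgroupOf P with hR
  -- `x⁻¹ α x ∈ R`
  have hgen : ∀ α ∈ A, ∀ x : P, x⁻¹ * α x ∈ R := by
    intro α hα x
    rw [hR, Subgroup.mem_subgroupOf]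
    apply Subgroup.subset_closure
    refine ⟨P, P.subtype.comp α.toMonoidHom, x, (Cfsg.Agent.Lib.Helper87.mem_autGroup_iff F hP).mp hα, ?_⟩
    simp
  have hRinv : ∀ α ∈ A, ∀ x ∈ R, α x ∈ R := by
    intro α hα x hx
    have : α x = x * (x⁻¹ * α x) := by group
    rw [this]
    exact mul_mem hx (hgen α hα x)
  have hsmall_map : ∀ (α : MulAut P) (x : P), Small p x → Small p (α x) := by
    intro α x hx
    rcases hx with h | ⟨h2, h⟩
    · left; rw [← map_pow, h, map_one]
    · right; exact ⟨h2, by rw [← map_pow, h, map_one]⟩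
  set N : Subgroup (MulAut P) := stab p A R with hN
  have hNA : N ≤ A := fun β hβ => hβ.1
  -- `N` is a `p`-group
  have hNp : IsPGroup p N := by
    apply Cfsg.Agent.Lib.Helper47.isPGroup_subgroup_of_forall_coprime_eq_one
    rintro β ⟨hβA, hβ⟩ hcop
    -- `β` fixes the small elements of `R`
    have hfixsmall : ∀ x ∈ R, (x ^ p = 1 ∨ (p = 2 ∧ x ^ 4 = 1)) → β x = x := by
      intro x hx hs
      rcases hβ x hx hs with h | ⟨h2, h⟩
      · exact h
      · -- `p = 2`, `β` of odd order inverting `x`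
        subst h2
        have hpow : ∀ i : ℕ, (β ^ i) x = x ^ ((-1 : ℤ) ^ i) := by
          intro i
          induction i with
          | zero => simp
          | succ i ih =>
            rw [pow_succ', MulAut.mul_apply, ih, map_zpow, h, pow_succ', inv_zpow, ← zpow_neg]
            congr 1
            ring
        have h1 := hpow (orderOf β)
        rw [pow_orderOf_eq_one, MulAut.one_apply] at h1
        have hodd : Odd (orderOf β) := by
          rw [← Nat.not_even_iff_odd]
          intro he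
          have : 2 ∣ orderOf β := even_iff_two_dvd.mp he
          have h2 := Nat.Coprime.eq_one_of_dvd hcop.symm this
          omega
        rw [hodd.neg_one_pow, zpow_neg_one] at h1
        rw [h, ← h1]
    have hfixR : ∀ x ∈ R, β x = x :=
      Cfsg.Agent.Lib.Helper29.fixed_of_fixed_small p hPp β hcop R (hRinv β hβA) hfixsmall
    ext x
    have hc := hfixR _ (hgen β hβA x)
    have := Cfsg.Agent.Lib.Helper29.fixed_of_comm_fixed p β hcop x hc (hPp _)
    simp [this]
  -- `N` is normal in `A`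
  have hNn : ∀ α ∈ A, ∀ β ∈ N, α * β * α⁻¹ ∈ N := by
    rintro α hα β ⟨hβA, hβ⟩
    refine ⟨mul_mem (mul_mem hα hβA) (inv_mem hα), fun x hx hs => ?_⟩
    have hx' : α⁻¹ x ∈ R := hRinv _ (inv_mem hα) x hx
    have hs' : Small p (α⁻¹ x) := hsmall_map _ x hs
    simp only [MulAut.mul_apply]
    rcases hβ _ hx' hs' with h | ⟨h2, h⟩
    · left; rw [h, MulAut.apply_inv_self]
    · right; exact ⟨h2, by rw [h, map_inv, MulAut.apply_inv_self]⟩
  -- `Aut_S(P) ≤ N`
  have hSN : autInducedBy S P ≤ N := by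
    intro α hα
    obtain ⟨g, hg, hgα⟩ := (Cfsg.Agent.Lib.Helper85.mem_autInducedBy_iff S P α).mp hα
    refine ⟨Cfsg.Agent.Lib.Helper87.autInducedBy_le_autGroup F hP hα, fun x hx hs => ?_⟩
    have hxfoc : (x : Ω) ∈ F.focalSubgroup := Subgroup.mem_subgroupOf.mp hx
    have hsΩ : Small p (x : Ω) := by
      rcases hs with h | ⟨h2, h⟩
      · left
        have := congrArg Subtype.val h
        simpa using this
      · right
        refine ⟨h2, ?_⟩
        have := congrArg Subtype.val h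
        simpa using this
    have h1 := hnorm (x : Ω) hxfoc hsΩ g hg
    rcases conj_small hS g (x : Ω) hg hsΩ h1 with h | ⟨h2, h⟩
    · left
      apply Subtype.ext
      rw [hgα, h]
    · right
      refine ⟨h2, ?_⟩
      apply Subtype.ext
      rw [hgα, h]
      simp
  have hNInn := Cfsg.Agent.Lib.Helper86.normal_pSubgroup_le_inn A E hE N hNA hNp hNn
  apply Cfsg.Agent.Lib.Helper84.autInducedBy_not_le_inn F hS hcen hPS
  intro α hα
  rw [Subgroup.mem_subgroupOf] at hα ⊢
  exact hNInn (hSN hα)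

end main

/-- Let F be a saturated fusion system over a finite p-group S. If every cyclic subgroup of the focal subgroup of F of order p (of order 2 or 4 when p = 2) is normal in S, then S is normal in F. -/
theorem result {Ω : Type u} [Group Ω] {S : Subgroup Ω} [Finite S] (p : ℕ) [Fact p.Prime] (hS : IsPGroup p S)
    (F : Cfsg.FusionSystem S) (hF : F.IsSaturated p)
    (hnorm : ∀ x ∈ F.focalSubgroup, (x ^ p = 1 ∨ (p = 2 ∧ x ^ 4 = 1)) → ∀ s ∈ S, s * x * s⁻¹ ∈ Subgroup.zpowers x) :
    F.IsNormal S := by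
  apply Cfsg.Agent.Lib.Helper84.isNormal_of_forall_essential F hS hF S
  intro P hP
  by_cases hPS : P = S
  · subst hPS
    refine ⟨le_rfl, fun α _ => ?_⟩
    have htop : P.subgroupOf P = ⊤ := Subgroup.subgroupOf_self P
    rw [htop]
    exact Subgroup.map_top_of_surjective _ α.surjective
  · exact (no_essential hS F hnorm P hPS (hP.resolve_left hPS)).elim

end Cfsg.Agent.S5300
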