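import Cfsg.Statements.S5301
import Cfsg.Agent.Lib.Helper88.FusionAlperinCR
import Cfsg.Agent.Lib.Helper88.FusionTopNormal

set_option autoImplicit false
universe u
open Cfsg

namespace Cfsg.Agent.S5301

open Cfsg.FusionSystem Cfsg.Agent.Lib.Helper87 Cfsg.Agent.Lib.Helper88

/-- If `R` is centric, radical, fully automized and `Aut_F(R)` has a normal Sylow `p`-subgroup,
then `N_S(R) = R`, hence `R = S`. -/
theorem eq_top_of_pClosed {Ω : Type u} [Group Ω] {S : Subgroup Ω} [Finite S] (p : ℕ) [Fact p.Prime]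
    (hS : IsPGroup p S) (F : Cfsg.FusionSystem S) {R : Subgroup Ω} (hc : F.IsCentric R)
    (hr : F.IsRadical p R) (hRa : F.IsFullyAutomized p R)
    (hcl : ∃ R₀ : Sylow p ↥(F.autGroup R), (R₀ : Subgroup ↥(F.autGroup R)).Normal) : R = S := by
  have hRS : R ≤ S := hRa.1
  by_contra hne
  obtain ⟨x, hxN, hxR⟩ := exists_mem_normalizerIn_not_mem hS hRS hne
  obtain ⟨-, R', hR'⟩ := hRa
  obtain ⟨R₀, hR₀⟩ := hcl
  -- R' = R₀
  have h1 : (R₀ : Subgroup (F.autGroup R)) ≤ R' := R₀.isPGroup'.le_sylow_of_normal R'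
  have h2 : (R' : Subgroup (F.autGroup R)) = R₀ := R₀.is_maximal' R'.isPGroup' h1
  have h3 : (R₀ : Subgroup (F.autGroup R)) ≤ pCore p (F.autGroup R) := le_sSup ⟨hR₀, R₀.isPGroup'⟩
  -- the conjugation by x
  let γ : MulAut R := conjAut R x hxN.2
  have hγ : γ ∈ autInducedBy S R := mem_autInducedBy_iff.2 ⟨x, hxN.1, fun y => rfl⟩
  have hγF : γ ∈ F.autGroup R := autInducedBy_le_autGroup F hRS hγ
  have hγR' : (⟨γ, hγF⟩ : F.autGroup R) ∈ (R' : Subgroup (F.autGroup R)) := by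
    rw [hR', Subgroup.mem_subgroupOf]
    exact hγ
  have hγK : (⟨γ, hγF⟩ : F.autGroup R) ∈ pCore p (F.autGroup R) := h3 (h2 ▸ hγR')
  have hγI : γ ∈ Inn R := by
    rw [← hr.2]
    exact ⟨⟨γ, hγF⟩, hγK, rfl⟩
  obtain ⟨r, hrγ⟩ := hγI
  -- r⁻¹ x centralizes R
  have hcent : (r : Ω)⁻¹ * x ∈ centralizerIn S R := by
    refine ⟨S.mul_mem (S.inv_mem (hRS r.2)) hxN.1, ?_⟩
    show (r : Ω)⁻¹ * x ∈ Subgroup.centralizer (R : Set Ω)
    rw [Subgroup.mem_centralizer_iff]
    intro y hy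
    have h4 : ((MulAut.conj r) ⟨y, hy⟩ : R) = γ ⟨y, hy⟩ := by rw [hrγ]
    have h5 : (r : Ω) * y * (r : Ω)⁻¹ = x * y * x⁻¹ := congrArg (fun z : R => (z : Ω)) h4
    calc y * ((r : Ω)⁻¹ * x) = (r : Ω)⁻¹ * ((r : Ω) * y * (r : Ω)⁻¹) * x := by group
      _ = (r : Ω)⁻¹ * (x * y * x⁻¹) * x := by rw [h5]
      _ = (r : Ω)⁻¹ * x * y := by group
  have hle : centralizerIn S R ≤ R := hc.2 R (isConj_refl F hRS)
  have : (r : Ω)⁻¹ * x ∈ R := hle hcent
  apply hxR
  have h6 : x = (r : Ω) * ((r : Ω)⁻¹ * x) := by group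
  rw [h6]
  exact R.mul_mem r.2 this

/-- Let F be a saturated fusion system over a finite p-group S. If for every subgroup P of S that is fully normalized, centric and radical in F the automorphism group that F induces on P has a normal Sylow p-subgroup, then S is normal in F. -/
theorem result {Ω : Type u} [Group Ω] {S : Subgroup Ω} [Finite S] (p : ℕ) [Fact p.Prime] (hS : IsPGroup p S)
    (F : Cfsg.FusionSystem S) (hF : F.IsSaturated p)
    (hcl : ∀ P : Subgroup Ω, F.IsFullyNormalized P → F.IsCentric P → F.IsRadical p P →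
      ∃ R : Sylow p ↥(F.autGroup P), (R : Subgroup ↥(F.autGroup P)).Normal) :
    F.IsNormal S := by
  apply isNormal_top_of_le_autRestrictSystem
  apply alperin_cr F (autRestrictSystem F) hS hF
  intro R hn hc hr hRa hRr α hα
  have hRS : R = S := eq_top_of_pClosed p hS F hc hr hRa (hcl R hn hc hr)
  subst hRS
  exact isIso_autRestrictSystem F hα

end Cfsg.Agent.S5301
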