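import Cfsg.Statements.S5306
import Cfsg.Agent.Lib.Helper97.Thompson2

set_option autoImplicit false
open Cfsg

namespace Cfsg.Agent.S5306

open Cfsg.Agent.Lib.Helper97

universe u

variable {X : Type u} [Group X] [Finite X]

/-- `J(P)` for a Sylow subgroup `P` is generated by the max elementary abelian subgroups of `X` inside `P`. -/
theorem thompson_sylow_eq (p : ℕ) [Fact p.Prime] (P : Sylow p X) :
    thompsonSubgroupOf p (P : Subgroup X) =
      sSup {A | A ∈ maxElementaryAbelianSubgroups p X ∧ A ≤ (P : Subgroup X)} := by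
  obtain ⟨A₀, hA₀, hA₀P⟩ := exists_max_le_sylow P
  exact thompsonSubgroupOf_eq_sSup _ hA₀ hA₀P

theorem thompson_conj (p : ℕ) [Fact p.Prime] (P : Sylow p X) (g : X) :
    thompsonSubgroupOf p ((g • P : Sylow p X) : Subgroup X) =
      (thompsonSubgroupOf p (P : Subgroup X)).map (MulAut.conj g).toMonoidHom := by
  rw [thompson_sylow_eq, thompson_sylow_eq]
  apply le_antisymm
  · apply sSup_le
    rintro A ⟨hA, hAP⟩
    have hA' : A.map (MulAut.conj g⁻¹).toMonoidHom ∈ maxElementaryAbelianSubgroups p X :=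
      map_mem_maxElementaryAbelian (MulAut.conj g⁻¹) hA
    have hA'P : A.map (MulAut.conj g⁻¹).toMonoidHom ≤ (P : Subgroup X) := by
      rintro _ ⟨a, ha, rfl⟩
      have h1 : a ∈ ((g • P : Sylow p X) : Subgroup X) := hAP ha
      rw [Sylow.coe_subgroup_smul] at h1
      obtain ⟨b, hb, hba⟩ := h1
      have : (MulAut.conj g⁻¹).toMonoidHom a = b := by
        rw [← hba]
        simp [MulAut.conj_apply, mul_assoc]
      rw [this]; exact hb
    have h2 : A = (A.map (MulAut.conj g⁻¹).toMonoidHom).map (MulAut.conj g).toMonoidHom := by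
      rw [Subgroup.map_map]
      have : (MulAut.conj g).toMonoidHom.comp (MulAut.conj g⁻¹).toMonoidHom = MonoidHom.id X := by
        ext a
        simp [MulAut.conj_apply, mul_assoc]
      rw [this, Subgroup.map_id]
    rw [h2]
    exact Subgroup.map_mono (le_sSup ⟨hA', hA'P⟩)
  · rw [Subgroup.map_le_iff_le_comap]
    apply sSup_le
    rintro A ⟨hA, hAP⟩
    rw [← Subgroup.map_le_iff_le_comap]
    apply le_sSup
    refine ⟨map_mem_maxElementaryAbelian (MulAut.conj g) hA, ?_⟩
    rintro _ ⟨a, ha, rfl⟩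
    rw [Sylow.coe_subgroup_smul]
    exact ⟨a, hAP ha, rfl⟩

/-- If `J(P) ≤ P₁` for Sylow subgroups `P`, `P₁` then `J(P) = J(P₁)`. -/
theorem thompson_eq_of_le (p : ℕ) [Fact p.Prime] (P P₁ : Sylow p X)
    (h : thompsonSubgroupOf p (P : Subgroup X) ≤ (P₁ : Subgroup X)) :
    thompsonSubgroupOf p (P : Subgroup X) = thompsonSubgroupOf p (P₁ : Subgroup X) := by
  have hle : thompsonSubgroupOf p (P : Subgroup X) ≤ thompsonSubgroupOf p (P₁ : Subgroup X) := by
    have h0 := thompson_sylow_eq p P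
    rw [thompson_sylow_eq p P₁]
    rw [h0]
    apply sSup_le
    rintro A ⟨hA, hAP⟩
    apply le_sSup
    refine ⟨hA, le_trans ?_ h⟩
    rw [h0]
    exact le_sSup ⟨hA, hAP⟩
  obtain ⟨g, rfl⟩ := MulAction.exists_smul_eq X P P₁
  apply Subgroup.eq_of_le_of_card_ge hle
  rw [thompson_conj]
  exact le_of_eq (card_map_of_injective' _ (MulAut.conj g).injective _)

/-- Let P be a Sylow p-subgroup of the finite group X and J = J(P) its Thompson subgroup (generated by the elementary abelian subgroups of P of largest order). If x and y lie in the centre of J and y = g x g⁻¹ for some g in X, then y = n x n⁻¹ for some n in the normalizer N_X(J). -/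
theorem result {X : Type*} [Group X] [Finite X] (p : ℕ) [Fact p.Prime] (P : Sylow p X) (J : Subgroup X) (hJ : J = Cfsg.thompsonSubgroupOf p (P : Subgroup X))
    (x y : X) (hx : x ∈ J ∧ ∀ j ∈ J, Commute j x) (hy : y ∈ J ∧ ∀ j ∈ J, Commute j y) (g : X) (hg : g * x * g⁻¹ = y) :
    ∃ n ∈ Subgroup.normalizer (J : Set X), n * x * n⁻¹ = y := by
  have hJP : J ≤ (P : Subgroup X) := by
    rw [hJ]; exact Subgroup.map_subtype_le _
  have hJp : IsPGroup p J := P.isPGroup'.to_le hJP
  -- the centralizer of y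
  have hJC : J ≤ Subgroup.centralizer {y} := by
    intro j hj
    rw [Subgroup.mem_centralizer_singleton_iff]
    exact (hy.2 j hj).eq
  have hJ'C : J.map (MulAut.conj g).toMonoidHom ≤ Subgroup.centralizer {y} := by
    rintro _ ⟨j, hj, rfl⟩
    rw [Subgroup.mem_centralizer_singleton_iff]
    have h1 : j * x = x * j := (hx.2 j hj).eq
    show g * j * g⁻¹ * y = y * (g * j * g⁻¹)
    rw [← hg]
    calc g * j * g⁻¹ * (g * x * g⁻¹) = g * (j * x) * g⁻¹ := by group
      _ = g * (x * j) * g⁻¹ := by rw [h1]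
      _ = g * x * g⁻¹ * (g * j * g⁻¹) := by group
  have hJ'p : IsPGroup p (J.map (MulAut.conj g).toMonoidHom) := hJp.map _
  obtain ⟨R, hR⟩ := (hJp.comap_subtype (K := Subgroup.centralizer {y})).exists_le_sylow
  obtain ⟨R', hR'⟩ := (hJ'p.comap_subtype (K := Subgroup.centralizer {y})).exists_le_sylow
  obtain ⟨c, hc⟩ := MulAction.exists_smul_eq (Subgroup.centralizer {y}) R' R
  obtain ⟨P₁, hP₁⟩ := (R.isPGroup'.map (Subgroup.centralizer {y}).subtype).exists_le_sylow
  have hJP₁ : J ≤ (P₁ : Subgroup X) := by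
    intro j hj
    apply hP₁
    exact ⟨⟨j, hJC hj⟩, hR hj, rfl⟩
  have hcy : (c : X) * y = y * c := Subgroup.mem_centralizer_singleton_iff.1 c.2
  have hnJP₁ : J.map (MulAut.conj ((c : X) * g)).toMonoidHom ≤ (P₁ : Subgroup X) := by
    rintro _ ⟨j, hj, rfl⟩
    apply hP₁
    have h1 : (⟨g * j * g⁻¹, hJ'C ⟨j, hj, rfl⟩⟩ : Subgroup.centralizer {y}) ∈ (R' : Subgroup _) :=
      hR' ⟨j, hj, rfl⟩
    have h2 : c * ⟨g * j * g⁻¹, hJ'C ⟨j, hj, rfl⟩⟩ * c⁻¹ ∈ ((c • R' : Sylow p _) : Subgroup _) := by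
      rw [Sylow.coe_subgroup_smul]
      exact ⟨_, h1, rfl⟩
    rw [hc] at h2
    refine ⟨_, h2, ?_⟩
    show (c : X) * (g * j * g⁻¹) * (c : X)⁻¹ = (c : X) * g * j * ((c : X) * g)⁻¹
    group
  -- Thompson subgroups
  have e1 : J = thompsonSubgroupOf p (P₁ : Subgroup X) := by
    rw [hJ]
    apply thompson_eq_of_le
    rw [← hJ]; exact hJP₁
  have e2 : J.map (MulAut.conj ((c : X) * g)).toMonoidHom = thompsonSubgroupOf p (P₁ : Subgroup X) := by
    rw [hJ, ← thompson_conj]
    apply thompson_eq_of_le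
    rw [thompson_conj, ← hJ]
    exact hnJP₁
  have e3 : J.map (MulAut.conj ((c : X) * g)).toMonoidHom = J := by rw [e2, ← e1]
  refine ⟨(c : X) * g, ?_, ?_⟩
  · rw [Subgroup.mem_normalizer_iff]
    intro h
    constructor
    · intro hh
      rw [← e3]
      exact ⟨h, hh, rfl⟩
    · intro hh
      rw [← e3] at hh
      obtain ⟨j, hj, hjh⟩ := hh
      have : j = h := (MulAut.conj ((c : X) * g)).injective hjh
      rw [← this]; exact hj
  · calc (c : X) * g * x * ((c : X) * g)⁻¹ = (c : X) * (g * x * g⁻¹) * (c : X)⁻¹ := by group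
      _ = (c : X) * y * (c : X)⁻¹ := by rw [hg]
      _ = y := by rw [hcy]; group

end Cfsg.Agent.S5306
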