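import Cfsg.Statements.S5311
import Cfsg.Agent.Lib.Helper84.FTr.Derived

set_option autoImplicit false
open Cfsg
open Cfsg.Agent.Lib.Helper84.FTr

namespace Cfsg.Agent.S5311

/-- The layer of a saturated fusion system F over a finite p-group S is characteristic in F: for every automorphism α of S that is an automorphism of F (α and its inverse are morphisms from F to F) and every layer E of F over T, α carries T onto T and, for every map φ of E with source P, the map induced by α on α(P) (that is, α ∘ φ ∘ α⁻¹) is a map of E. -/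
theorem result {Ω : Type*} [Group Ω] {S : Subgroup Ω} [Finite S] (p : ℕ) [Fact p.Prime] (hS : IsPGroup p S) (F : Cfsg.FusionSystem S) (hF : F.IsSaturated p)
    (α : ↥S ≃* ↥S) (hα : F.IsMorphism F (S.subtype.comp α.toMonoidHom))
    (hα' : F.IsMorphism F (S.subtype.comp α.symm.toMonoidHom))
    {T : Subgroup Ω} (E : Cfsg.FusionSystem T) (hE : E.IsLayerOf F p) :
    Cfsg.FusionSystem.imageAlong (S.subtype.comp α.toMonoidHom) T = T ∧
      ∀ (P : Subgroup Ω) (φ : ↥P →* Ω), φ ∈ E.Hom P →
        ∀ φ' : ↥(Cfsg.FusionSystem.imageAlong (S.subtype.comp α.toMonoidHom) P) →* Ω,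
          Cfsg.FusionSystem.InducedAlong (S.subtype.comp α.toMonoidHom) φ φ' →
            φ' ∈ E.Hom (Cfsg.FusionSystem.imageAlong (S.subtype.comp α.toMonoidHom) P) := by
  classical
  have hFF : Corr α F F := corr_self_of_isMorphism α hα hα'
  have hFF' : Corr α.symm F F := by
    apply corr_self_of_isMorphism α.symm hα'
    rw [MulEquiv.symm_symm]
    exact hα
  have hTS : T ≤ S := le_of_isNormalIn hE.1
  obtain ⟨TD, D, hD⟩ := exists_corr α.symm hTS E
  have hDn : D.IsNormalIn F p := hD.isNormalIn hS hFF' hE.1
  have hcomp : ∀ (U : Subgroup Ω) (C : Cfsg.FusionSystem U), C.IsComponentIn F p → C.IsSubsystemOf D := by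
    intro U C hC
    have hUS : U ≤ S := le_of_isSubnormalIn hC.1
    obtain ⟨U', C', hC'⟩ := exists_corr α hUS C
    have hC'comp : C'.IsComponentIn F p := Corr.isComponentIn hS hC' hFF hC
    have hC'E : C'.IsSubsystemOf E := hE.2.1 _ C' hC'comp
    have hC'C : Corr α.symm C' C := hC'.symm
    exact Corr.isSubsystemOf hC'C hD hC'E
  have hED : E.IsSubsystemOf D := hE.2.2 _ D hDn hcomp
  have hTle : T ≤ im α.symm T := by
    have h1 : T.subtype ∈ D.Hom T := hED T (Cfsg.Agent.Lib.Helper87.subtype_mem E le_rfl)
    have h2 : T ≤ TD := (D.le_of_mem h1).1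
    rw [hD.eq_im] at h2
    exact h2
  have hTeq : im α.symm T = T := by
    have : Finite T := Finite.of_injective (Subgroup.inclusion hTS) (Subgroup.inclusion_injective hTS)
    have : Finite (im α.symm T) :=
      Finite.of_injective (Subgroup.inclusion (im_le α.symm T)) (Subgroup.inclusion_injective _)
    have hcard : Nat.card (im α.symm T) = Nat.card T := card_im α.symm hTS
    symm
    apply SetLike.coe_injective
    apply Set.eq_of_subset_of_ncard_le hTle
    · show Nat.card (im α.symm T) ≤ Nat.card T
      rw [hcard]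
  have hDE : Corr α D E := by
    have := hD.symm
    rwa [MulEquiv.symm_symm] at this
  refine ⟨?_, ?_⟩
  · show im α T = T
    calc im α T = im α (im α.symm T) := by rw [hTeq]
      _ = T := im_im_symm α hTS
  · intro P φ hφ φ' hi
    exact hDE.mem_of_mem (hED P hφ) rfl hi

end Cfsg.Agent.S5311
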