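import Cfsg.Statements.S5315
import Cfsg.Agent.Lib.Helper85.FusionNormal
import Cfsg.Agent.Lib.Helper85.FusionNC
import Cfsg.Agent.Lib.Helper85.FusionFactor
import Cfsg.Agent.Lib.Helper85.FusionRS
import Cfsg.Agent.Lib.Helper87.FusionLift
import Cfsg.Agent.Lib.Helper87.FusionFully
import Cfsg.Agent.Lib.Helper87.FusionNormal
import Cfsg.Agent.Lib.Helper87.FusionKNormSat
import Cfsg.Agent.Lib.Helper88.FusionAlperinCR

set_option autoImplicit false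
open Cfsg

namespace Cfsg.Agent.S5315

open Cfsg.FusionSystem
open Cfsg.Agent.Lib.Helper87

variable {Ω : Type*} [Group Ω] {S : Subgroup Ω}

/-- Maps of the system defined on a subgroup containing elements of a central subgroup fix them. -/
theorem map_eq_of_isCentral (F : FusionSystem S) {Z : Subgroup Ω} (hZ : F.IsCentral Z) {Q : Subgroup Ω}
    {ψ : Q →* Ω} (hψ : ψ ∈ F.Hom Q) {z : Ω} (hzZ : z ∈ Z) (hzQ : z ∈ Q) : ψ ⟨z, hzQ⟩ = z := by
  obtain ⟨ψ', -, h1, h2⟩ := hZ.2 Q ψ hψ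
  have e : Subgroup.inclusion (le_sup_left : Q ≤ Q ⊔ Z) ⟨z, hzQ⟩ =
      Subgroup.inclusion (le_sup_right : Z ≤ Q ⊔ Z) ⟨z, hzZ⟩ := Subtype.ext rfl
  rw [← h1, e, h2]

theorem stronglyClosed_of_isCentral (F : FusionSystem S) {Z : Subgroup Ω} (hZ : F.IsCentral Z) :
    F.StronglyClosed Z := by
  refine ⟨hZ.1, fun R hR φ hφ x => ?_⟩
  have := map_eq_of_isCentral F hZ hφ (hR x.2) x.2
  rw [this]
  exact hR x.2

theorem le_centralizer_of_isCentral (F : FusionSystem S) {Z : Subgroup Ω} (hZ : F.IsCentral Z) :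
    Z ≤ Subgroup.centralizer (S : Set Ω) :=
  (Cfsg.Agent.Lib.Helper85.le_center_of_isCentral F hZ).trans (center_le_centralizer F)

/-- `Y` is central modulo `Z`, in lifted form. -/
def LiftProp (F : FusionSystem S) (Z Y : Subgroup Ω) : Prop :=
  Z ≤ Y ∧ Y ≤ S ∧ (∀ y ∈ Y, ∀ s ∈ S, y * s * y⁻¹ * s⁻¹ ∈ Z) ∧
  ∀ (P : Subgroup Ω) (φ : P →* Ω), φ ∈ F.Hom P → ∃ (M : Subgroup Ω) (β : M →* Ω) (hPM : P ≤ M) (hYM : Y ≤ M),
    β ∈ F.Hom M ∧ (∀ x : P, (φ x)⁻¹ * β (Subgroup.inclusion hPM x) ∈ Z) ∧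
      ∀ y : Y, (y : Ω)⁻¹ * β (Subgroup.inclusion hYM y) ∈ Z

theorem liftProp_of_factor [Finite S] {p : ℕ} [Fact p.Prime] (hS : IsPGroup p S) (F : FusionSystem S)
    (hF : F.IsSaturated p) {Z : Subgroup Ω} (hZ : F.IsCentral Z) {Ω' : Type*} [Group Ω'] {S' : Subgroup Ω'}
    (θ : S →* Ω') (E : FusionSystem S') (hE : F.IsFactorSystem Z θ E) {Y' : Subgroup Ω'}
    (hY' : E.IsCentral Y') : LiftProp F Z (preimageAlong θ Y') := by
  have hZsc := stronglyClosed_of_isCentral F hZ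
  obtain ⟨hZS, hker, hrange, hHom⟩ := id hE
  have hY'C : Y' ≤ Subgroup.centralizer (S' : Set Ω') := le_centralizer_of_isCentral E hY'
  refine ⟨?_, Cfsg.Agent.Lib.Helper85.preimageAlong_le θ Y', ?_, ?_⟩
  · intro z hz
    rw [Cfsg.Agent.Lib.Helper85.mem_preimageAlong_iff]
    refine ⟨hZS hz, ?_⟩
    rw [(hker ⟨z, hZS hz⟩).2 hz]
    exact Y'.one_mem
  · intro y hy s hs
    obtain ⟨hyS, hyY'⟩ := (Cfsg.Agent.Lib.Helper85.mem_preimageAlong_iff θ Y' y).1 hy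
    have hsS' : θ ⟨s, hs⟩ ∈ S' := by rw [← hrange]; exact ⟨_, rfl⟩
    have hcomm : θ ⟨s, hs⟩ * θ ⟨y, hyS⟩ = θ ⟨y, hyS⟩ * θ ⟨s, hs⟩ := hY'C hyY' _ hsS'
    have h1 : θ (⟨y, hyS⟩ * ⟨s, hs⟩ * ⟨y, hyS⟩⁻¹ * ⟨s, hs⟩⁻¹) = 1 := by
      rw [map_mul, map_mul, map_mul, map_inv, map_inv, ← hcomm]
      group
    exact (hker _).1 h1
  · intro P φ hφ
    have hPS : P ≤ S := hom_le F hφ
    obtain ⟨φ', hφ', hPS', hφS, hθP, hind⟩ := exists_induced_of_isFactorSystem F hS hF hZsc θ E hE hφ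
    obtain ⟨ψ', hψ', hψ'1, hψ'2⟩ := hY'.2 _ φ' hφ'
    obtain ⟨-, β, hβ, hMS, hβS, hθM, hβind⟩ := (hHom _ ψ').1 hψ'
    have hPM : P ≤ preimageAlong θ (imageAlong θ P ⊔ Y') := by
      intro x hx
      rw [Cfsg.Agent.Lib.Helper85.mem_preimageAlong_iff]
      exact ⟨hPS hx, le_sup_left (a := imageAlong θ P) (b := Y') (hθP ⟨x, hx⟩)⟩
    have hYM : preimageAlong θ Y' ≤ preimageAlong θ (imageAlong θ P ⊔ Y') :=
      Cfsg.Agent.Lib.Helper85.preimageAlong_mono θ le_sup_right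
    refine ⟨_, β, hPM, hYM, hβ, fun x => ?_, fun y => ?_⟩
    · have h1 := hβind (Subgroup.inclusion hPM x)
      have h2 := hψ'1 ⟨θ ⟨x, hPS' x.2⟩, hθP x⟩
      have h3 := hind x
      have e : (⟨θ ⟨(Subgroup.inclusion hPM x : ↥(preimageAlong θ (imageAlong θ P ⊔ Y'))), hMS (Subgroup.inclusion hPM x).2⟩,
          hθM (Subgroup.inclusion hPM x)⟩ : ↥(imageAlong θ P ⊔ Y')) =
          Subgroup.inclusion le_sup_left ⟨θ ⟨x, hPS' x.2⟩, hθP x⟩ := Subtype.ext rfl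
      rw [e, h2, h3] at h1
      have h4 : θ (⟨φ x, hφS x⟩⁻¹ * ⟨β (Subgroup.inclusion hPM x), hβS _⟩) = 1 := by
        rw [map_mul, map_inv, h1, inv_mul_cancel]
      exact (hker _).1 h4
    · obtain ⟨hyS, hyY'⟩ := (Cfsg.Agent.Lib.Helper85.mem_preimageAlong_iff θ Y' y).1 y.2
      have h1 := hβind (Subgroup.inclusion hYM y)
      have h2 := hψ'2 ⟨θ ⟨y, hyS⟩, hyY'⟩
      have e : (⟨θ ⟨(Subgroup.inclusion hYM y : ↥(preimageAlong θ (imageAlong θ P ⊔ Y'))), hMS (Subgroup.inclusion hYM y).2⟩,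
          hθM (Subgroup.inclusion hYM y)⟩ : ↥(imageAlong θ P ⊔ Y')) =
          Subgroup.inclusion le_sup_right ⟨θ ⟨y, hyS⟩, hyY'⟩ := Subtype.ext rfl
      rw [e, h2] at h1
      have h4 : θ (⟨y, hyS⟩⁻¹ * ⟨β (Subgroup.inclusion hYM y), hβS _⟩) = 1 := by
        rw [map_mul, map_inv, ← h1]
        exact inv_mul_cancel _
      exact (hker _).1 h4

theorem conj_calc {G : Type*} [Group G] {x y a b z₁ ζ ζ' βy : G} (h1 : y * x * y⁻¹ = z₁ * x)
    (h2 : βy * b * βy⁻¹ = z₁ * b) (hβy : βy = y * ζ) (hζb : ζ * b = b * ζ) (hba : b = a * ζ')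
    (hc : y * ζ' = ζ' * y) : y * (x⁻¹ * a) = (x⁻¹ * a) * y := by
  subst hβy
  subst hba
  have h7 : y * (a * ζ') * y⁻¹ = z₁ * (a * ζ') := by
    calc y * (a * ζ') * y⁻¹ = y * ((a * ζ') * ζ) * ζ⁻¹ * y⁻¹ := by group
      _ = y * (ζ * (a * ζ')) * ζ⁻¹ * y⁻¹ := by rw [hζb]
      _ = y * ζ * (a * ζ') * (y * ζ)⁻¹ := by group
      _ = _ := h2
  have hcζ' : y * ζ' * y⁻¹ = ζ' := by rw [hc]; group
  have h6 : y * a * y⁻¹ = z₁ * a := by
    calc y * a * y⁻¹ = (y * (a * ζ') * y⁻¹) * (y * ζ' * y⁻¹)⁻¹ := by group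
      _ = z₁ * (a * ζ') * ζ'⁻¹ := by rw [h7, hcζ']
      _ = z₁ * a := by group
  calc y * (x⁻¹ * a) = (y * x * y⁻¹)⁻¹ * (y * a * y⁻¹) * y := by group
    _ = (z₁ * x)⁻¹ * (z₁ * a) * y := by rw [h1, h6]
    _ = x⁻¹ * a * y := by group

theorem centralizes_of_liftProp {p : ℕ} (F : FusionSystem S) {Z Y : Subgroup Ω}
    (hZ : F.IsCentral Z) (hL : LiftProp F Z Y) (hperf : F.hyperfocalSubgroup p = S) :
    S ≤ Subgroup.centralizer (Y : Set Ω) := by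
  obtain ⟨hZY, hYS, hcomm, hlift⟩ := hL
  have hZC := le_centralizer_of_isCentral F hZ
  suffices h : F.hyperfocalSubgroup p ≤ Subgroup.centralizer (Y : Set Ω) by
    intro s hs
    apply h
    rw [hperf]; exact hs
  unfold hyperfocalSubgroup
  rw [Subgroup.closure_le]
  rintro _ ⟨P, α, x, hPS, -, rfl⟩
  rw [SetLike.mem_coe, Subgroup.mem_centralizer_iff]
  intro y hy
  have hαF : P.subtype.comp ((α : MulAut P) : P ≃* P).toMonoidHom ∈ F.Hom P :=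
    (mem_autGroup_iff F hPS).1 α.2
  obtain ⟨M, β, hPM, hYM, hβ, hβP, hβY⟩ := hlift P _ hαF
  have hbS : β (Subgroup.inclusion hPM x) ∈ S := hom_map_mem F hβ _
  have hxS : (x : Ω) ∈ S := hPS x.2
  have hz₁Z : y * x * y⁻¹ * (x : Ω)⁻¹ ∈ Z := hcomm y hy x hxS
  have h1 : y * x * y⁻¹ = (y * x * y⁻¹ * (x : Ω)⁻¹) * x := by group
  have hyM : y ∈ M := hYM hy
  have hz₁M : y * x * y⁻¹ * (x : Ω)⁻¹ ∈ M := hYM (hZY hz₁Z)
  have h2 : β ⟨y, hyM⟩ * β (Subgroup.inclusion hPM x) * (β ⟨y, hyM⟩)⁻¹ =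
      (y * x * y⁻¹ * (x : Ω)⁻¹) * β (Subgroup.inclusion hPM x) := by
    have e : (⟨y, hyM⟩ : M) * Subgroup.inclusion hPM x * (⟨y, hyM⟩ : M)⁻¹ =
        ⟨y * x * y⁻¹ * (x : Ω)⁻¹, hz₁M⟩ * Subgroup.inclusion hPM x := Subtype.ext h1
    have := congrArg β e
    rw [map_mul, map_mul, map_inv, map_mul, map_eq_of_isCentral F hZ hβ hz₁Z hz₁M] at this
    exact this
  have hζZ : y⁻¹ * β ⟨y, hyM⟩ ∈ Z := hβY ⟨y, hy⟩
  have hζ'Z : (((α : MulAut P) x : P) : Ω)⁻¹ * β (Subgroup.inclusion hPM x) ∈ Z := hβP x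
  exact (conj_calc (x := (x : Ω)) (a := (((α : MulAut P) x : P) : Ω)) h1 h2
    (ζ := y⁻¹ * β ⟨y, hyM⟩) (by group) (hZC hζZ _ hbS).symm
    (ζ' := (((α : MulAut P) x : P) : Ω)⁻¹ * β (Subgroup.inclusion hPM x)) (by group)
    (hZC hζ'Z y (hYS hy)))

theorem map_eq_of_liftProp [Finite S] {p : ℕ} [Fact p.Prime] (hS : IsPGroup p S) (F : FusionSystem S)
    (hF : F.IsSaturated p) {Z Y : Subgroup Ω} (hZ : F.IsCentral Z) (hL : LiftProp F Z Y)
    (hYC : S ≤ Subgroup.centralizer (Y : Set Ω)) {Q : Subgroup Ω} {ψ : Q →* Ω} (hψ : ψ ∈ F.Hom Q)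
    (hYQ : Y ≤ Q) (y : Y) : ψ ⟨y, hYQ y.2⟩ = y := by
  obtain ⟨hZY, hYS, hcomm, hlift⟩ := hL
  haveI : Finite Y := finite_of_le hYS
  have hψY : ψ.comp (Subgroup.inclusion hYQ) ∈ F.Hom Y := restrict_mem F hψ hYQ
  -- `ψ` is the identity modulo `Z` on `Y`
  have hmod : ∀ y : Y, (y : Ω)⁻¹ * ψ ⟨y, hYQ y.2⟩ ∈ Z := by
    intro y
    obtain ⟨M, β, hQM, hYM, hβ, hβQ, hβY⟩ := hlift Q ψ hψ
    have h1 := hβQ ⟨y, hYQ y.2⟩
    have h2 := hβY y
    have e : Subgroup.inclusion hQM ⟨y, hYQ y.2⟩ = Subgroup.inclusion hYM y := Subtype.ext rfl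
    rw [e] at h1
    have : (y : Ω)⁻¹ * ψ ⟨y, hYQ y.2⟩ =
        ((y : Ω)⁻¹ * β (Subgroup.inclusion hYM y)) * ((ψ ⟨y, hYQ y.2⟩)⁻¹ * β (Subgroup.inclusion hYM y))⁻¹ := by
      group
    rw [this]
    exact Z.mul_mem h2 (Z.inv_mem h1)
  have hval : ∀ y : Y, (ψ.comp (Subgroup.inclusion hYQ)) y ∈ Y := by
    intro y
    have : (ψ.comp (Subgroup.inclusion hYQ)) y = (y : Ω) * ((y : Ω)⁻¹ * ψ ⟨y, hYQ y.2⟩) := by
      show ψ ⟨y, hYQ y.2⟩ = _
      group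
    rw [this]
    exact Y.mul_mem y.2 (hZY (hmod y))
  obtain ⟨α, hα, hαe⟩ := exists_aut_of_maps_into' F hψY hval
  have hαe' : ∀ y : Y, ((α y : Y) : Ω) = ψ ⟨y, hYQ y.2⟩ := hαe
  -- `α` fixes `Z`
  have hαZ : ∀ (z : Ω) (hz : z ∈ Z), α ⟨z, hZY hz⟩ = ⟨z, hZY hz⟩ := by
    intro z hz
    apply Subtype.ext
    rw [hαe']
    exact map_eq_of_isCentral F hZ hψ hz _
  -- powers of `α`
  have hpow : ∀ (k : ℕ) (y : Y), (((α ^ k) y : Y) : Ω) = (y : Ω) * ((y : Ω)⁻¹ * ψ ⟨y, hYQ y.2⟩) ^ k := by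
    intro k y
    induction k with
    | zero => simp
    | succ k ih =>
      have hζk : ((y : Ω)⁻¹ * ψ ⟨y, hYQ y.2⟩) ^ k ∈ Z := Z.pow_mem (hmod y) k
      have e1 : (α ^ k) y = y * ⟨((y : Ω)⁻¹ * ψ ⟨y, hYQ y.2⟩) ^ k, hZY hζk⟩ := Subtype.ext ih
      rw [pow_succ', MulAut.mul_apply, e1, map_mul, hαZ _ hζk]
      show ((α y : Y) : Ω) * ((y : Ω)⁻¹ * ψ ⟨y, hYQ y.2⟩) ^ k = _
      rw [hαe', pow_succ', ← mul_assoc, mul_inv_cancel_left]
  obtain ⟨n, hn⟩ := IsPGroup.exists_card_eq hS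
  have hαpow : α ^ (p ^ n) = 1 := by
    ext y
    rw [hpow, ← hn]
    have hζS : (y : Ω)⁻¹ * ψ ⟨y, hYQ y.2⟩ ∈ S := hYS (hZY (hmod y))
    have : ((y : Ω)⁻¹ * ψ ⟨y, hYQ y.2⟩) ^ Nat.card S = 1 := by
      have h := pow_card_eq_one' (G := S) (x := ⟨_, hζS⟩)
      exact congrArg Subtype.val h
    rw [this, mul_one]
    rfl
  -- `Y` is fully normalized, so `Aut_S(Y)`, which is trivial, is a Sylow subgroup of `Aut_F(Y)`
  have hYN : S ≤ normalizerIn S Y := fun s hs => ⟨hs, Subgroup.centralizer_le_normalizer _ (hYC hs)⟩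
  have hYfn : F.IsFullyNormalized Y := by
    refine ⟨hYS, fun Q' _ => ?_⟩
    haveI : Finite ↥(normalizerIn S Y) := finite_of_le (normalizerIn_le S Y)
    exact Subgroup.card_le_of_le ((normalizerIn_le S Q').trans hYN)
  obtain ⟨⟨-, R, hR⟩, -⟩ := fullyAutomized_receptive_of_fullyNormalized F hS hF hYfn
  have hHp : IsPGroup p (Subgroup.zpowers (⟨α, hα⟩ : F.autGroup Y)) := by
    apply Cfsg.Agent.Lib.Helper85.isPGroup_zpowers_of_pow_eq_one (a := n)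
    apply Subtype.ext
    show α ^ (p ^ n) = 1
    exact hαpow
  obtain ⟨c, hc⟩ := exists_conj_mem_sylow R hHp
  have h1 := hc ⟨α, hα⟩ (Subgroup.mem_zpowers _)
  have h2 : c * ⟨α, hα⟩ * c⁻¹ ∈ (autInducedBy S Y).subgroupOf (F.autGroup Y) := by
    rw [← hR]; exact h1
  rw [Subgroup.mem_subgroupOf] at h2
  obtain ⟨g, hg, hgα⟩ := mem_autInducedBy_iff.1 h2
  have h3 : ((c * ⟨α, hα⟩ * c⁻¹ : F.autGroup Y) : MulAut Y) = 1 := by
    ext y
    rw [hgα]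
    have hcomm : g * (y : Ω) = (y : Ω) * g := (hYC hg (y : Ω) y.2).symm
    show g * (y : Ω) * g⁻¹ = y
    rw [hcomm]; group
  have h4 : (c * ⟨α, hα⟩ * c⁻¹ : F.autGroup Y) = 1 := Subtype.ext h3
  have h5 : (⟨α, hα⟩ : F.autGroup Y) = 1 := by
    have : (⟨α, hα⟩ : F.autGroup Y) = c⁻¹ * (c * ⟨α, hα⟩ * c⁻¹) * c := by group
    rw [this, h4]; group
  have h6 : α = 1 := congrArg Subtype.val h5
  rw [← hαe', h6]
  rfl

theorem isCentral_of_liftProp [Finite S] {p : ℕ} [Fact p.Prime] (hS : IsPGroup p S) (F : FusionSystem S)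
    (hF : F.IsSaturated p) {Z Y : Subgroup Ω} (hZ : F.IsCentral Z) (hL : LiftProp F Z Y)
    (hYC : S ≤ Subgroup.centralizer (Y : Set Ω)) : F.IsCentral Y := by
  have hYS : Y ≤ S := hL.2.1
  have hcent : ∀ x ∈ S, x ∈ centralizerIn S Y := fun x hx => ⟨hx, hYC hx⟩
  have key : ∀ P : Subgroup Ω, F.Hom P ⊆ (Cfsg.Agent.Lib.Helper85.centralizerSystem F Y hYS).Hom P := by
    apply alperin_weak' F (Cfsg.Agent.Lib.Helper85.centralizerSystem F Y hYS) hS hF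
    intro R hRa hRr _ α hα
    have hRS : R ≤ S := hRa.1
    have hαF : R.subtype.comp (α : R ≃* R).toMonoidHom ∈ F.Hom R := (mem_autGroup_iff F hRS).1 hα
    have hrange : (R.subtype.comp (α : R ≃* R).toMonoidHom).range = R := by
      ext y
      constructor
      · rintro ⟨x, rfl⟩
        exact (α x).2
      · intro hy
        refine ⟨α⁻¹ ⟨y, hy⟩, ?_⟩
        show ((α (α⁻¹ ⟨y, hy⟩) : R) : Ω) = y
        rw [MulAut.apply_inv_self]
    obtain ⟨ψ₀, hψ₀, hψ₀e⟩ := hRr.2 R _ hαF hrange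
    have hle : R ⊔ Y ≤ extender S R (R.subtype.comp (α : R ≃* R).toMonoidHom) := by
      refine sup_le (le_extender_of_hom F hαF) ?_
      intro y hy
      apply Cfsg.Agent.Lib.Helper88.centralizerIn_le_extender
      refine ⟨hYS hy, ?_⟩
      show y ∈ Subgroup.centralizer (R : Set Ω)
      rw [Subgroup.mem_centralizer_iff]
      intro r hr
      exact (hYC (hRS hr) y hy).symm
    have hψ : ψ₀.comp (Subgroup.inclusion hle) ∈ F.Hom (R ⊔ Y) := restrict_mem F hψ₀ hle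
    refine ⟨hαF, fun x hx => hcent x (hRS hx), fun x => hcent _ (hRS (α x).2),
      ψ₀.comp (Subgroup.inclusion hle), hψ, fun x => ?_, fun y => ?_⟩
    · exact hψ₀e x x.2 _
    · exact map_eq_of_liftProp hS F hF hZ hL hYC hψ le_sup_right y
  exact ⟨hYS, fun P φ hφ => (key P hφ).2.2.2⟩

/-- An analogue of Grün's lemma for fusion systems. Let F be a saturated fusion system over a finite p-group S that is perfect in the sense that its hyperfocal subgroup is all of S (F coincides with its p-residual subsystem). Then the second centre of F equals its centre: every fusion system over S/(Z(F) ∩ S) that is the factor system of F modulo its centre Z(F), read through the quotient map, has trivial centre. -/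
theorem result {Ω : Type*} [Group Ω] {S : Subgroup Ω} [Finite S] (p : ℕ) [Fact p.Prime] (hS : IsPGroup p S) (F : Cfsg.FusionSystem S) (hF : F.IsSaturated p)
    (hperf : F.hyperfocalSubgroup p = S)
    (E : Cfsg.FusionSystem (⊤ : Subgroup (↥S ⧸ (F.center).subgroupOf S)))
    (hE : F.IsFactorSystem F.center (QuotientGroup.mk' ((F.center).subgroupOf S)) E) : E.center = ⊥ := by
  have hZ : F.IsCentral F.center := Cfsg.Agent.Lib.Helper85.isCentral_center F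
  apply le_antisymm _ bot_le
  show sSup {Q | E.IsCentral Q} ≤ ⊥
  refine sSup_le fun Y' hY' => ?_
  have hL := liftProp_of_factor hS F hF hZ _ E hE hY'
  have hYC := centralizes_of_liftProp F hZ hL hperf
  have hYcen := isCentral_of_liftProp hS F hF hZ hL hYC
  have hYZ := Cfsg.Agent.Lib.Helper85.le_center_of_isCentral F hYcen
  intro y' hy'
  obtain ⟨s, rfl⟩ := QuotientGroup.mk'_surjective _ y'
  have hsY : (s : Ω) ∈ preimageAlong (QuotientGroup.mk' ((F.center).subgroupOf S)) Y' :=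
    (Cfsg.Agent.Lib.Helper85.mem_preimageAlong_iff _ Y' _).2 ⟨s.2, hy'⟩
  rw [Subgroup.mem_bot]
  exact (hE.2.1 s).2 (hYZ hsY)

end Cfsg.Agent.S5315
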