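import Cfsg.Statements.S5322
import Cfsg.Agent.Lib.Helper93.J3FusFacts
import Cfsg.Agent.Lib.Helper73.FusShapeQA5

set_option autoImplicit false
open Cfsg

namespace Cfsg.Agent.S5322

/-- For a finite group G isomorphic to the third Janko group J₃, the 2-fusion system of G on a Sylow 2-subgroup is simple: saturated, over a nontrivial 2-group, with no normal subsystem other than the trivial one and itself. -/
theorem result {G : Type*} [Group G] [Finite G] (hG : Cfsg.Spor.IsoJ3 G) (S : Sylow 2 G) : (Cfsg.groupFusionSystem (S : Subgroup G)).IsSimple 2 := by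
  obtain ⟨F, instField, instFintype, ω, hF, hω, ⟨e⟩⟩ := hG
  have hchar := Cfsg.Agent.Lib.Helper93.J3.charP_two_of_card hF
  obtain ⟨m, hcard, hm, hconj, t, ht, hC, Q, hQ, htQ, hQt, hZQ, hQgen, a, b, ha, hb, hab, ha1, hat,
    hbt, hna, hnb, hact⟩ := Cfsg.Agent.Lib.Helper93.J3.ShapeQA5.of_equiv e
      (Cfsg.Agent.Lib.Helper93.J3.shapeQA5_J3 ω hω hF)
  exact Cfsg.Agent.Lib.Helper73.FusShape.isSimple_of_shape_Q_A5 m hcard hm hconj t ht hC Q hQ htQ
    hQt hZQ hQgen a b ha hb hab ha1 hat hbt hna hnb hact S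

end Cfsg.Agent.S5322
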