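import Cfsg.Statements.S5323
import Cfsg.Agent.Lib.Helper86.McL.Conj
import Cfsg.Agent.Lib.Helper76.McLFusEmb
import Cfsg.Agent.Lib.Helper49.McLFusIso

set_option autoImplicit false
open Cfsg

namespace Cfsg.Agent.S5323

/-- For a finite group G isomorphic to the McLaughlin group, the 2-fusion system of G on a Sylow 2-subgroup is simple: saturated, over a nontrivial 2-group, with no normal subsystem other than the trivial one and itself. -/
theorem result {G : Type*} [Group G] [Finite G] (hG : Cfsg.Spor.IsoMcL G) (S : Sylow 2 G) : (Cfsg.groupFusionSystem (S : Subgroup G)).IsSimple 2 := by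
  obtain ⟨e⟩ := hG
  obtain ⟨hcard, φ, hφ⟩ := Cfsg.Agent.Lib.Helper49.McLFus.exists_hom_McL
  have hGc : Nat.card G = 128 * 7016625 := by
    rw [Nat.card_congr e.toEquiv, hcard]
  exact Cfsg.Agent.Lib.Helper76.McLFus.isSimple_of_embedded_data
    Cfsg.Agent.Lib.Helper49.McLFus.M0 (e.symm.toMonoidHom.comp φ)
    (e.symm.injective.comp hφ) 7016625 (by decide) hGc
    Cfsg.Agent.Lib.Helper86.McLFus.S0 Cfsg.Agent.Lib.Helper86.McLFus.S0_le_M22mon
    Cfsg.Agent.Lib.Helper86.McLFus.card_S0 Cfsg.Agent.Lib.Helper86.McLFus.odd_aut_S0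
    (Cfsg.Agent.Lib.Helper86.McLFus.el 127) Cfsg.Agent.Lib.Helper86.McLFus.center_S0
    {Cfsg.Agent.Lib.Helper86.McLFus.el 1, Cfsg.Agent.Lib.Helper86.McLFus.el 2,
      Cfsg.Agent.Lib.Helper86.McLFus.el 3}
    Subgroup.subset_closure le_rfl Cfsg.Agent.Lib.Helper86.McLFus.gen_conj S

end Cfsg.Agent.S5323
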