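import Cfsg.Statements.S5326
import Cfsg.Agent.Lib.Helper88.FusionEssential
import Cfsg.Agent.Lib.Helper88.FusionFC

set_option autoImplicit false
open Cfsg

namespace Cfsg.Agent.S5326

open Cfsg.FusionSystem
open Cfsg.Agent.Lib.Helper87 Cfsg.Agent.Lib.Helper88

variable {Ω : Type*} [Group Ω] {S : Subgroup Ω}

/-- `e : P ≃* Q` is an anchor: it is the restriction of a map of the system defined on `N_S(P)`. -/
def IsAnchor (F : FusionSystem S) {P Q : Subgroup Ω} (e : P ≃* Q) : Prop :=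
  P ≤ S ∧ ∃ θ ∈ F.Hom (normalizerIn S P),
    ∀ (x : Ω) (hx : x ∈ P) (hx' : x ∈ normalizerIn S P), θ ⟨x, hx'⟩ = e ⟨x, hx⟩

theorem IsAnchor.isIso {F : FusionSystem S} {P Q : Subgroup Ω} {e : P ≃* Q} (h : IsAnchor F e) :
    IsIso F e := by
  obtain ⟨hPS, θ, hθ, hθe⟩ := h
  exact isIso_of_restrict F hθ (le_normalizerIn hPS) e hθe

theorem isAnchor_refl (F : FusionSystem S) {Q : Subgroup Ω} (hQS : Q ≤ S) :
    IsAnchor F (MulEquiv.refl Q) :=
  ⟨hQS, (normalizerIn S Q).subtype, subtype_mem F inf_le_left, fun _ _ _ => rfl⟩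

/-- good isomorphisms with respect to `H ≤ Aut(Q)` -/
def Good (F : FusionSystem S) {Q : Subgroup Ω} (H : Subgroup (MulAut Q)) {P P' : Subgroup Ω}
    (e : P ≃* P') : Prop :=
  ∀ (e' : P ≃* Q) (e'' : P' ≃* Q), IsAnchor F e' → IsAnchor F e'' →
    (e'.symm.trans (e.trans e'') : MulAut Q) ∈ H

theorem good_congr (F : FusionSystem S) {Q : Subgroup Ω} (H : Subgroup (MulAut Q))
    {P₁ P₂ P₁' P₂' : Subgroup Ω} (hP : P₁ = P₂) (e₁ : P₁ ≃* P₁') (e₂ : P₂ ≃* P₂')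
    (h : ∀ (x : Ω) (hx₁ : x ∈ P₁) (hx₂ : x ∈ P₂), ((e₁ ⟨x, hx₁⟩ : P₁') : Ω) = e₂ ⟨x, hx₂⟩)
    (hg : Good F H e₁) : Good F H e₂ := by
  subst hP
  have hP' : P₁' = P₂' := by
    ext y
    constructor
    · intro hy
      have := h _ (e₁.symm ⟨y, hy⟩).2 (e₁.symm ⟨y, hy⟩).2
      rw [MulEquiv.apply_symm_apply] at this
      have h2 : y = ((e₂ (e₁.symm ⟨y, hy⟩) : P₂') : Ω) := this
      rw [h2]; exact (e₂ _).2
    · intro hy
      have := h _ (e₂.symm ⟨y, hy⟩).2 (e₂.symm ⟨y, hy⟩).2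
      rw [MulEquiv.apply_symm_apply] at this
      have h2 : ((e₁ (e₂.symm ⟨y, hy⟩) : P₁') : Ω) = y := this
      rw [← h2]; exact (e₁ _).2
  subst hP'
  have : e₁ = e₂ := by
    ext x
    exact h x.1 x.2 x.2
  rw [← this]; exact hg

theorem good_symm (F : FusionSystem S) {Q : Subgroup Ω} (H : Subgroup (MulAut Q))
    {P P' : Subgroup Ω} {e : P ≃* P'} (hg : Good F H e) : Good F H e.symm := by
  intro e' e'' ha' ha''
  have h1 := H.inv_mem (hg e'' e' ha'' ha')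
  have h2 : ((e''.symm.trans (e.trans e') : MulAut Q))⁻¹ = (e'.symm.trans (e.symm.trans e'') : MulAut Q) := by
    ext y
    rw [MulAut.inv_apply]
    rfl
  rw [h2] at h1
  exact h1

theorem good_trans (F : FusionSystem S) {Q : Subgroup Ω} (H : Subgroup (MulAut Q))
    {P P' P'' : Subgroup Ω} {e₁ : P ≃* P'} {e₂ : P' ≃* P''} (h₁ : Good F H e₁) (h₂ : Good F H e₂)
    (hex : (∃ e : P ≃* Q, IsAnchor F e) → ∃ e' : P' ≃* Q, IsAnchor F e') :
    Good F H (e₁.trans e₂) := by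
  intro e' e''' ha' ha'''
  obtain ⟨e'', ha''⟩ := hex ⟨e', ha'⟩
  have h := H.mul_mem (h₂ e'' e''' ha'' ha''') (h₁ e' e'' ha' ha'')
  have h2 : (e''.symm.trans (e₂.trans e''') : MulAut Q) * (e'.symm.trans (e₁.trans e'') : MulAut Q) =
      (e'.symm.trans ((e₁.trans e₂).trans e''') : MulAut Q) := by
    ext y
    rw [MulAut.mul_apply]
    simp
  rw [h2] at h
  exact h

/-- The hypotheses on the control subgroup `H`. -/
structure Ctrl (F : FusionSystem S) (p : ℕ) (Q : Subgroup Ω) (H : Subgroup (MulAut Q)) : Prop where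
  cen : F.IsCentric Q
  h1 : autInducedBy S Q ≤ H
  h2 : ∀ α ∈ F.autGroup Q, ∀ β ∈ H, β ∉ Inn Q → (∃ k : ℕ, β ^ p ^ k = 1) → α * β * α⁻¹ ∈ H → α ∈ H
  anchor : ∀ Q' : Subgroup Ω, F.IsConj Q' Q → ∃ e : Q' ≃* Q, IsAnchor F e
  ne : Q ≠ S

/-- **Key lemma.** The restriction of a map of the system to a proper subgroup of its source is good. -/
theorem good_of_restrict (F : FusionSystem S) [Finite S] {p : ℕ} [Fact p.Prime] (hS : IsPGroup p S)
    {Q : Subgroup Ω} {H : Subgroup (MulAut Q)} (hC : Ctrl F p Q H)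
    {R P P' : Subgroup Ω} {ψ : R →* Ω} (hψ : ψ ∈ F.Hom R) (hPR : P ≤ R) (hne : P ≠ R) (e : P ≃* P')
    (he : ∀ x : P, ((e x : P') : Ω) = ψ ⟨x, hPR x.2⟩) : Good F H e := by
  rintro e' e'' ⟨hPS, θ', hθ', hθ'e⟩ ⟨hP'S, θ'', hθ'', hθ''e⟩
  have hQS : Q ≤ S := hC.cen.1
  have hRS : R ≤ S := hom_le F hψ
  have hfinR : Finite R := finite_of_le hRS
  have hfinP' : Finite P' := finite_of_le hP'S
  have hRp : IsPGroup p R := by
    intro x
    obtain ⟨k, hk⟩ := hS ⟨x, hRS x.2⟩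
    refine ⟨k, Subtype.ext ?_⟩
    have := congrArg (fun z : S => (z : Ω)) hk
    simpa using this
  have heIso : IsIso F e := isIso_of_restrict F hψ hPR e (fun x hx hx' => (he ⟨x, hx⟩).symm)
  have ha' : IsAnchor F e' := ⟨hPS, θ', hθ', hθ'e⟩
  have ha'' : IsAnchor F e'' := ⟨hP'S, θ'', hθ'', hθ''e⟩
  -- an element of N_R(P) outside P
  obtain ⟨r, hrN, hrP⟩ := exists_mem_normalizerIn_not_mem (S := R) hRp hPR hne
  have hNle : normalizerIn R P ≤ normalizerIn S P := fun x hx => ⟨hRS hx.1, hx.2⟩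
  have hPN : P ≤ normalizerIn R P := le_normalizerIn hPR
  -- ψ maps N_R(P) into N_S(P')
  have hψN : ∀ n : normalizerIn R P, ψ ⟨n, n.2.1⟩ ∈ normalizerIn S P' := by
    intro n
    refine ⟨hom_map_mem F hψ _, mem_normalizer_of_conj_mem_of_finite (fun y hy => ?_)⟩
    obtain ⟨x, hx⟩ : ∃ x : P, ((e x : P') : Ω) = y := ⟨e.symm ⟨y, hy⟩, by simp⟩
    have hnx : (n : Ω) * x * (n : Ω)⁻¹ ∈ P := (Subgroup.mem_normalizer_iff.mp n.2.2 x).mp x.2
    have h1 := he ⟨_, hnx⟩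
    have h2 : (⟨(n : Ω) * x * (n : Ω)⁻¹, hPR hnx⟩ : R) = ⟨n, n.2.1⟩ * ⟨x, hPR x.2⟩ * ⟨n, n.2.1⟩⁻¹ :=
      Subtype.ext rfl
    rw [h2, map_mul, map_mul, map_inv, ← he x, hx] at h1
    rw [← h1]
    exact (e _).2
  let Θ' : normalizerIn R P →* Ω := θ'.comp (Subgroup.inclusion hNle)
  let Θ : normalizerIn R P →* Ω :=
    θ''.comp ((ψ.comp (Subgroup.inclusion (inf_le_left : normalizerIn R P ≤ R))).codRestrict
      (normalizerIn S P') hψN)
  have hΘ'P : ∀ x : P, Θ' ⟨x, hPN x.2⟩ = e' x := fun x => hθ'e x x.2 (hNle (hPN x.2))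
  have hΘP : ∀ x : P, Θ ⟨x, hPN x.2⟩ = e'' (e x) := by
    intro x
    have h1 := hθ''e (e x) (e x).2 (le_normalizerIn hP'S (e x).2)
    rw [← h1]
    show θ'' ⟨ψ ⟨x, _⟩, _⟩ = _
    congr 1
    exact Subtype.ext (he x).symm
  have hconjP : ∀ x : P, (r : Ω) * x * (r : Ω)⁻¹ ∈ P :=
    fun x => (Subgroup.mem_normalizer_iff.mp hrN.2 x).mp x.2
  have hΘ'c : ∀ x : P, ((e' ⟨r * x * r⁻¹, hconjP x⟩ : Q) : Ω) = Θ' ⟨r, hrN⟩ * e' x * (Θ' ⟨r, hrN⟩)⁻¹ := by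
    intro x
    rw [← hΘ'P, ← hΘ'P, ← map_inv, ← map_mul, ← map_mul]
    rfl
  have hΘc : ∀ x : P, ((e'' (e ⟨r * x * r⁻¹, hconjP x⟩) : Q) : Ω) =
      Θ ⟨r, hrN⟩ * e'' (e x) * (Θ ⟨r, hrN⟩)⁻¹ := by
    intro x
    rw [← hΘP, ← hΘP, ← map_inv, ← map_mul, ← map_mul]
    rfl
  -- r₁ normalizes Q and is not in Q
  have hr₁N : Θ' ⟨r, hrN⟩ ∈ normalizerIn S Q := map_normalizerIn_mem F hθ' e' hPS hθ'e _
  have hr₁Q : Θ' ⟨r, hrN⟩ ∉ Q := by
    intro h
    have h1 := hθ'e _ (e'.symm ⟨_, h⟩).2 (le_normalizerIn hPS (e'.symm ⟨_, h⟩).2)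
    rw [MulEquiv.apply_symm_apply] at h1
    have h2 := F.injective_of_mem hθ' h1
    apply hrP
    have h3 : ((e'.symm ⟨_, h⟩ : P) : Ω) = r := congrArg (fun z : normalizerIn S P => (z : Ω)) h2
    rw [← h3]
    exact (e'.symm ⟨_, h⟩).2
  -- β
  have hβS : conjAut Q (Θ' ⟨r, hrN⟩) hr₁N.2 ∈ autInducedBy S Q :=
    mem_autInducedBy_iff.2 ⟨_, hr₁N.1, fun _ => rfl⟩
  have hβI : conjAut Q (Θ' ⟨r, hrN⟩) hr₁N.2 ∉ Inn Q := by
    rintro ⟨q, hq⟩
    apply hr₁Q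
    have hcen : (q : Ω)⁻¹ * Θ' ⟨r, hrN⟩ ∈ centralizerIn S Q := by
      refine ⟨S.mul_mem (S.inv_mem (hQS q.2)) hr₁N.1, ?_⟩
      show _ ∈ Subgroup.centralizer (Q : Set Ω)
      rw [Subgroup.mem_centralizer_iff]
      intro y hy
      have h1 : ((MulAut.conj q ⟨y, hy⟩ : Q) : Ω) = ((conjAut Q (Θ' ⟨r, hrN⟩) hr₁N.2 ⟨y, hy⟩ : Q) : Ω) := by
        rw [hq]
      rw [conjAut_apply] at h1
      have h2 : (q : Ω) * y * (q : Ω)⁻¹ = Θ' ⟨r, hrN⟩ * y * (Θ' ⟨r, hrN⟩)⁻¹ := h1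
      calc y * ((q : Ω)⁻¹ * Θ' ⟨r, hrN⟩) = (q : Ω)⁻¹ * ((q : Ω) * y * (q : Ω)⁻¹) * Θ' ⟨r, hrN⟩ := by group
        _ = (q : Ω)⁻¹ * (Θ' ⟨r, hrN⟩ * y * (Θ' ⟨r, hrN⟩)⁻¹) * Θ' ⟨r, hrN⟩ := by rw [h2]
        _ = (q : Ω)⁻¹ * Θ' ⟨r, hrN⟩ * y := by group
    have h3 := hC.cen.2 Q (isConj_refl F hQS) hcen
    have h4 := Q.mul_mem q.2 h3
    rwa [mul_inv_cancel_left] at h4
  have hβk : ∃ k : ℕ, (conjAut Q (Θ' ⟨r, hrN⟩) hr₁N.2) ^ p ^ k = 1 := by
    obtain ⟨k, hk⟩ := autInducedBy_isPGroup hS Q ⟨_, hβS⟩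
    exact ⟨k, congrArg (fun z : autInducedBy S Q => (z : MulAut Q)) hk⟩
  have hαF : (e'.symm.trans (e.trans e'') : MulAut Q) ∈ F.autGroup Q := by
    rw [mem_autGroup_iff F hQS]
    exact ha'.isIso.symm.trans (heIso.trans ha''.isIso)
  refine hC.h2 _ hαF _ (hC.h1 hβS) hβI hβk ?_
  apply hC.h1
  rw [mem_autInducedBy_iff]
  refine ⟨Θ ⟨r, hrN⟩, hom_map_mem F hθ'' _, fun y => ?_⟩
  obtain ⟨x, rfl⟩ : ∃ x : P, (e'.symm.trans (e.trans e'') : MulAut Q) (e' x) = y :=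
    ⟨e'.symm ((e'.symm.trans (e.trans e'') : MulAut Q)⁻¹ y), by simp⟩
  rw [MulAut.mul_apply, MulAut.mul_apply, MulAut.inv_apply_self]
  have h1 : conjAut Q (Θ' ⟨r, hrN⟩) hr₁N.2 (e' x) = e' ⟨r * x * r⁻¹, hconjP x⟩ := by
    apply Subtype.ext
    rw [conjAut_apply, hΘ'c]
  rw [h1]
  have h2 : ∀ z : P, (e'.symm.trans (e.trans e'') : MulAut Q) (e' z) = e'' (e z) := by
    intro z
    show e'' (e (e'.symm (e' z))) = _
    rw [MulEquiv.symm_apply_apply]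
  rw [h2, h2, hΘc]

/-- a good map restricted to any subgroup of its source is good -/
theorem good_restrict (F : FusionSystem S) [Finite S] {p : ℕ} [Fact p.Prime] (hS : IsPGroup p S)
    {Q : Subgroup Ω} {H : Subgroup (MulAut Q)} (hC : Ctrl F p Q H)
    {R P P' : Subgroup Ω} {ψ : R →* Ω} (hψ : ψ ∈ F.Hom R)
    (gψ : Good F H (MonoidHom.ofInjective (F.injective_of_mem hψ))) (hPR : P ≤ R) (e : P ≃* P')
    (he : ∀ x : P, ((e x : P') : Ω) = ψ ⟨x, hPR x.2⟩) : Good F H e := by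
  by_cases hne : P = R
  · refine good_congr F H hne.symm _ e (fun x hx₁ hx₂ => ?_) gψ
    exact (he ⟨x, hx₂⟩).symm
  · exact good_of_restrict F hS hC hψ hPR hne e he

/-- The maps of the smaller system. -/
def omitHom (F : FusionSystem S) {Q : Subgroup Ω} (H : Subgroup (MulAut Q)) (P : Subgroup Ω) :
    Set (P →* Ω) :=
  {φ | ∃ hφ : φ ∈ F.Hom P, Good F H (MonoidHom.ofInjective (F.injective_of_mem hφ))}

theorem exists_anchor_of_iso (F : FusionSystem S) {p : ℕ} {Q : Subgroup Ω} {H : Subgroup (MulAut Q)}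
    (hC : Ctrl F p Q H) {P P' : Subgroup Ω} {e : P ≃* P'} (he : IsIso F e)
    (h : ∃ e' : P ≃* Q, IsAnchor F e') : ∃ e'' : P' ≃* Q, IsAnchor F e'' := by
  obtain ⟨e', ha'⟩ := h
  exact hC.anchor P' ((isConj_iff F).2 ⟨_, he.symm.trans ha'.isIso⟩)

/-- The smaller fusion system. -/
def omitSystem (F : FusionSystem S) [Finite S] {p : ℕ} [Fact p.Prime] (hS : IsPGroup p S)
    {Q : Subgroup Ω} {H : Subgroup (MulAut Q)} (hC : Ctrl F p Q H) : FusionSystem S where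
  Hom := omitHom F H
  le_of_mem := fun h => F.le_of_mem h.1
  injective_of_mem := fun h => F.injective_of_mem h.1
  conj_mem := by
    intro P g hP hg
    refine ⟨F.conj_mem hP hg, ?_⟩
    by_cases hPS : P = S
    · intro e' e'' ha' _
      exfalso
      apply hC.ne
      have hQS : Q ≤ S := hC.cen.1
      have hfinQ : Finite Q := finite_of_le hQS
      apply Subgroup.eq_of_le_of_card_ge hQS
      rw [← hPS]
      exact le_of_eq (Nat.card_congr e'.toEquiv)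
    · exact good_of_restrict F hS hC (F.conj_mem le_rfl hg) hP hPS _ (fun x => rfl)
  comp_mem := by
    rintro P R φ ψ ⟨hφ, gφ⟩ ⟨hψ, gψ⟩ h
    refine ⟨F.comp_mem hφ hψ h, ?_⟩
    have hle : φ.range ≤ R := by
      rintro _ ⟨x, rfl⟩; exact h x
    have hψ' : ψ.comp (Subgroup.inclusion hle) ∈ F.Hom φ.range := restrict_mem F hψ hle
    have gmid : Good F H (MonoidHom.ofInjective (F.injective_of_mem hψ')) :=
      good_restrict F hS hC hψ gψ hle _ (fun x => rfl)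
    have gcomp := good_trans F H gφ gmid (exists_anchor_of_iso F hC (isIso_ofInjective F hφ))
    exact good_congr F H rfl ((MonoidHom.ofInjective (F.injective_of_mem hφ)).trans
      (MonoidHom.ofInjective (F.injective_of_mem hψ'))) _ (fun x hx₁ hx₂ => rfl) gcomp
  inv_mem := by
    rintro P φ ⟨hφ, gφ⟩
    obtain ⟨ψ, hψ, hψφ⟩ := F.inv_mem hφ
    refine ⟨ψ, ⟨hψ, ?_⟩, hψφ⟩
    refine good_congr F H rfl _ _ (fun y hy₁ hy₂ => ?_) (good_symm F H gφ)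
    have h1 := hψφ ((MonoidHom.ofInjective (F.injective_of_mem hφ)).symm ⟨y, hy₁⟩)
    have h2 : (⟨φ ((MonoidHom.ofInjective (F.injective_of_mem hφ)).symm ⟨y, hy₁⟩), ⟨_, rfl⟩⟩ : φ.range) =
        ⟨y, hy₁⟩ := by
      have := (MonoidHom.ofInjective (F.injective_of_mem hφ)).apply_symm_apply ⟨y, hy₁⟩
      exact this
    rw [h2] at h1
    exact h1.symm

/-- Let F be a saturated fusion system over a finite p-group S and Q an essential subgroup. Then the F-conjugacy class of Q cannot be left out of a generating family: there is a fusion system E over S whose automorphism group of every subgroup R ≤ S not F-conjugate to Q contains Aut_F(R), and yet E does not contain every map of F. -/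
theorem result {Ω : Type*} [Group Ω] {S : Subgroup Ω} [Finite S] (p : ℕ) [Fact p.Prime] (hS : IsPGroup p S) (F : Cfsg.FusionSystem S) (hF : F.IsSaturated p) (Q : Subgroup Ω) (hQ : F.IsEssential p Q) : ∃ E : Cfsg.FusionSystem S, (∀ R : Subgroup Ω, R ≤ S → ¬ F.IsConj Q R → F.autGroup R ≤ E.autGroup R) ∧ ¬ F ≤ E := by
  obtain ⟨hcen, hfn, hN, M, hM⟩ := hQ
  have hQS : Q ≤ S := hcen.1
  obtain ⟨H, hH1, ⟨α₀, hα₀F, hα₀H⟩, hH2⟩ := exists_control_subgroup F hS hQS hN M hM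
  have hC : Ctrl F p Q H :=
    { cen := hcen
      h1 := hH1
      h2 := hH2
      anchor := by
        intro Q' hQ'Q
        obtain ⟨θ, e, hθ, he, hθe⟩ := exists_extension_of_fullyNormalized F hS hF hfn hQ'Q
        exact ⟨e, he.le_left, θ, hθ, hθe⟩
      ne := ne_top_of_essential F hF ⟨hcen, hfn, hN, M, hM⟩ }
  refine ⟨omitSystem F hS hC, ?_, ?_⟩
  · intro R hRS hQR α hα
    rw [mem_autGroup_iff F hRS] at hα
    rw [mem_autGroup_iff (omitSystem F hS hC) hRS]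
    refine ⟨hα, ?_⟩
    intro e' _ ha' _
    exfalso
    exact hQR (IsConj_symm ((isConj_iff F).2 ⟨e', ha'.isIso⟩))
  · intro hle
    have hα₀ : IsIso F (α₀ : Q ≃* Q) := (mem_autGroup_iff F hQS).1 hα₀F
    obtain ⟨hφ, g⟩ := hle Q hα₀
    have g' : Good F H (α₀ : Q ≃* Q) :=
      good_congr F H rfl (MonoidHom.ofInjective (F.injective_of_mem hφ)) (α₀ : Q ≃* Q)
        (fun x hx₁ hx₂ => rfl) g
    have := g' (MulEquiv.refl Q) (MulEquiv.refl Q) (isAnchor_refl F hQS) (isAnchor_refl F hQS)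
    apply hα₀H
    have h2 : ((MulEquiv.refl Q).symm.trans ((α₀ : Q ≃* Q).trans (MulEquiv.refl Q)) : MulAut Q) = α₀ := by
      ext y; rfl
    rw [h2] at this
    exact this

end Cfsg.Agent.S5326
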