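import Cfsg.Statements.S5327
import Cfsg.Agent.Lib.Helper88.FusionBasic
-- import your own Cfsg.Agent.* helpers here

set_option autoImplicit false
open Cfsg

namespace Cfsg.Agent.S5327

open Cfsg.Agent.Lib.Helper88

/-- The hybrid system: maps of `F` that, on the subgroups satisfying `C`, are maps of `E`. -/
def hybrid {Ω : Type*} [Group Ω] {S : Subgroup Ω} (F E : FusionSystem S) (C : Subgroup Ω → Prop)
    (hup : ∀ (P Q : Subgroup Ω) (φ : P →* Ω), φ ∈ F.Hom P → (∀ x, φ x ∈ Q) → Q ≤ S → C P → C Q)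
    (hinv : ∀ (P : Subgroup Ω) (φ : P →* Ω), φ ∈ F.Hom P → C φ.range → C P) : FusionSystem S where
  Hom P := {φ | φ ∈ F.Hom P ∧ (C P → φ ∈ E.Hom P)}
  le_of_mem h := F.le_of_mem h.1
  injective_of_mem h := F.injective_of_mem h.1
  conj_mem hP hg := ⟨F.conj_mem hP hg, fun _ => E.conj_mem hP hg⟩
  comp_mem := by
    rintro P Q φ ψ ⟨hφF, hφE⟩ ⟨hψF, hψE⟩ h
    refine ⟨F.comp_mem hφF hψF h, fun hC => ?_⟩
    have hCQ : C Q := hup P Q φ hφF h (F.le_of_mem hψF).1 hC
    exact E.comp_mem (hφE hC) (hψE hCQ) h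
  inv_mem := by
    rintro P φ ⟨hφF, hφE⟩
    obtain ⟨ψ, hψ, hψx⟩ := F.inv_mem hφF
    refine ⟨ψ, ⟨hψ, fun hC => ?_⟩, hψx⟩
    have hCP : C P := hinv P φ hφF hC
    obtain ⟨ψ', hψ', hψx'⟩ := E.inv_mem (hφE hCP)
    have : ψ = ψ' := by
      ext ⟨y, x, rfl⟩
      rw [hψx, hψx']
    rw [this]
    exact hψ'

theorem card_le_of_hom {Ω : Type*} [Group Ω] {S : Subgroup Ω} [Finite S] (F : FusionSystem S)
    {P Q : Subgroup Ω} {φ : P →* Ω} (hφ : φ ∈ F.Hom P) (h : ∀ x, φ x ∈ Q) (hQ : Q ≤ S) :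
    Nat.card P ≤ Nat.card Q := by
  have : Finite Q := Finite.of_injective (Subgroup.inclusion hQ) (Subgroup.inclusion_injective hQ)
  apply Nat.card_le_card_of_injective (φ.codRestrict Q h)
  intro a b hab
  apply F.injective_of_mem hφ
  have := congrArg (fun z : Q => (z : Ω)) hab
  simpa using this

theorem card_range_eq {Ω : Type*} [Group Ω] {S : Subgroup Ω} (F : FusionSystem S)
    {P : Subgroup Ω} {φ : P →* Ω} (hφ : φ ∈ F.Hom P) :
    Nat.card φ.range = Nat.card P := by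
  apply Nat.card_congr
  exact (MonoidHom.ofInjective (F.injective_of_mem hφ)).toEquiv.symm

theorem range_eq_of_card_eq {Ω : Type*} [Group Ω] {S : Subgroup Ω} [Finite S] (F : FusionSystem S)
    {P Q : Subgroup Ω} {φ : P →* Ω} (hφ : φ ∈ F.Hom P) (h : ∀ x, φ x ∈ Q) (hQ : Q ≤ S)
    (hcard : Nat.card P = Nat.card Q) : φ.range = Q := by
  have : Finite Q := Finite.of_injective (Subgroup.inclusion hQ) (Subgroup.inclusion_injective hQ)
  have hle : φ.range ≤ Q := by
    rintro _ ⟨x, rfl⟩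
    exact h x
  apply Subgroup.eq_of_le_of_card_ge hle
  rw [card_range_eq F hφ, hcard]

/-- Let F be a saturated fusion system over a finite p-group S. Call a family of subgroups of S generating when every fusion system over S whose automorphism group of each member R contains Aut_F(R) contains every map of F. If two families are each closed under F-conjugacy and each generating, then their intersection is generating. -/
theorem result {Ω : Type*} [Group Ω] {S : Subgroup Ω} [Finite S] (p : ℕ) [Fact p.Prime] (hS : IsPGroup p S) (F : Cfsg.FusionSystem S) (hF : F.IsSaturated p) (𝒬₁ 𝒬₂ : Set (Subgroup Ω)) (h₁ : ∀ R ∈ 𝒬₁, ∀ R' : Subgroup Ω, F.IsConj R R' → R' ∈ 𝒬₁) (h₂ : ∀ R ∈ 𝒬₂, ∀ R' : Subgroup Ω, F.IsConj R R' → R' ∈ 𝒬₂) (hg₁ : ∀ E : Cfsg.FusionSystem S, (∀ R ∈ 𝒬₁, F.autGroup R ≤ E.autGroup R) → F ≤ E) (hg₂ : ∀ E : Cfsg.FusionSystem S, (∀ R ∈ 𝒬₂, F.autGroup R ≤ E.autGroup R) → F ≤ E) (E : Cfsg.FusionSystem S) (hE : ∀ R ∈ 𝒬₁ ∩ 𝒬₂, F.autGroup R ≤ E.autGroup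 R) : F ≤ E := by
  -- downward induction on the order
  have key : ∀ k n : ℕ, n + k = Nat.card S + 1 →
      ∀ P : Subgroup Ω, n ≤ Nat.card P → F.Hom P ⊆ E.Hom P := by
    intro k
    induction k with
    | zero =>
      intro n hn P hnP φ hφ
      exfalso
      have hPS : P ≤ S := (F.le_of_mem hφ).1
      have : Nat.card P ≤ Nat.card S := Subgroup.card_le_of_le hPS
      omega
    | succ k ih =>
      intro n hn
      have IH := ih (n + 1) (by omega)
      -- first hybrid: E on orders > n and on members of 𝒬₁ of order n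
      let C₂ : Subgroup Ω → Prop := fun P => n < Nat.card P ∨ (Nat.card P = n ∧ P ∈ 𝒬₁)
      have hup₂ : ∀ (P Q : Subgroup Ω) (φ : P →* Ω), φ ∈ F.Hom P → (∀ x, φ x ∈ Q) → Q ≤ S →
          C₂ P → C₂ Q := by
        intro P Q φ hφ h hQ hC
        have hle := card_le_of_hom F hφ h hQ
        rcases hC with hC | ⟨hC, hP1⟩
        · exact Or.inl (lt_of_lt_of_le hC hle)
        · rcases lt_or_eq_of_le hle with hlt | heq
          · exact Or.inl (hC ▸ hlt)
          · refine Or.inr ⟨heq ▸ hC, ?_⟩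
            exact h₁ P hP1 Q ⟨φ, hφ, range_eq_of_card_eq F hφ h hQ heq⟩
      have hinv₂ : ∀ (P : Subgroup Ω) (φ : P →* Ω), φ ∈ F.Hom P → C₂ φ.range → C₂ P := by
        intro P φ hφ hC
        have hc := card_range_eq F hφ
        rcases hC with hC | ⟨hC, hP1⟩
        · exact Or.inl (hc ▸ hC)
        · refine Or.inr ⟨hc ▸ hC, ?_⟩
          obtain ⟨ψ, hψ, hψx⟩ := F.inv_mem hφ
          refine h₁ _ hP1 P ⟨ψ, hψ, ?_⟩
          apply le_antisymm
          · rintro _ ⟨⟨_, x, rfl⟩, rfl⟩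
            rw [hψx]
            exact x.2
          · intro x hx
            exact ⟨⟨φ ⟨x, hx⟩, ⟨⟨x, hx⟩, rfl⟩⟩, hψx ⟨x, hx⟩⟩
      have hF2 : F ≤ hybrid F E C₂ hup₂ hinv₂ := by
        apply hg₂
        intro R hR2
        apply Subgroup.closure_mono
        intro α hα
        refine ⟨hα, fun hC => ?_⟩
        rcases hC with hC | ⟨hC, hR1⟩
        · exact IH R hC hα
        · have hRS : R ≤ S := (F.le_of_mem hα).1
          have : α ∈ E.autGroup R := hE R ⟨hR1, hR2⟩ (Subgroup.subset_closure hα)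
          exact (mem_autGroup_iff E hRS α).1 this
      -- second hybrid: E on orders ≥ n
      let C₁ : Subgroup Ω → Prop := fun P => n ≤ Nat.card P
      have hup₁ : ∀ (P Q : Subgroup Ω) (φ : P →* Ω), φ ∈ F.Hom P → (∀ x, φ x ∈ Q) → Q ≤ S →
          C₁ P → C₁ Q := by
        intro P Q φ hφ h hQ hC
        exact le_trans hC (card_le_of_hom F hφ h hQ)
      have hinv₁ : ∀ (P : Subgroup Ω) (φ : P →* Ω), φ ∈ F.Hom P → C₁ φ.range → C₁ P := by
        intro P φ hφ hC
        have hc := card_range_eq F hφ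
        show n ≤ Nat.card P
        have hC' : n ≤ Nat.card φ.range := hC
        omega
      have hF1 : F ≤ hybrid F E C₁ hup₁ hinv₁ := by
        apply hg₁
        intro R hR1
        apply Subgroup.closure_mono
        intro α hα
        refine ⟨hα, fun hC => ?_⟩
        rcases lt_or_eq_of_le hC with hlt | heq
        · exact IH R hlt hα
        · exact (hF2 R hα).2 (Or.inr ⟨heq.symm, hR1⟩)
      intro P hnP φ hφ
      exact (hF1 P hφ).2 hnP
  intro P
  exact key (Nat.card S + 1) 0 (by omega) P (Nat.zero_le _)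

end Cfsg.Agent.S5327
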