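import Cfsg.Statements.S5329
import Cfsg.Agent.Lib.Helper85.FusionTransfer
import Cfsg.Agent.Lib.Helper85.FusionNormal

set_option autoImplicit false
open Cfsg

namespace Cfsg.Agent.S5329

/-- For a saturated fusion system F over a finite p-group S, the focal subgroup and the derived subgroup of S meet the centre Z(F) of the system in the same subgroup: foc(F) ∩ Z(F) = S′ ∩ Z(F). -/
theorem result {Ω : Type*} [Group Ω] {S : Subgroup Ω} [Finite S] (p : ℕ) [Fact p.Prime] (hS : IsPGroup p S) (F : Cfsg.FusionSystem S) (hF : F.IsSaturated p) : F.focalSubgroup ⊓ F.center = ⁅(S : Subgroup Ω), (S : Subgroup Ω)⁆ ⊓ F.center := by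
  obtain ⟨m, τ, hpm, hτconj, hτz⟩ := Lib.Helper85.exists_transfer_hom F hS hF
  have hp : p.Prime := Fact.out
  apply le_antisymm
  · rintro z ⟨hzfoc, hzcen⟩
    refine ⟨?_, hzcen⟩
    have hfoc : F.focalSubgroup ≤ (τ.ker).map S.subtype := by
      unfold FusionSystem.focalSubgroup
      rw [Subgroup.closure_le]
      rintro y ⟨P, φ, x, hφ, rfl⟩
      have hx : (x : Ω) ∈ S := (F.le_of_mem hφ).1 x.2
      have hφx : φ x ∈ S := (F.le_of_mem hφ).2 x
      refine ⟨⟨(x : Ω)⁻¹ * φ x, S.mul_mem (S.inv_mem hx) hφx⟩, ?_, rfl⟩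
      rw [SetLike.mem_coe, MonoidHom.mem_ker]
      have e : (⟨(x : Ω)⁻¹ * φ x, S.mul_mem (S.inv_mem hx) hφx⟩ : S) =
          (⟨x, hx⟩ : S)⁻¹ * ⟨φ x, hφx⟩ := rfl
      rw [e, map_mul, map_inv, hτconj P φ hφ x hx hφx, inv_mul_cancel]
    obtain ⟨z', hz'ker, rfl⟩ := hfoc hzfoc
    have h1 : (Abelianization.of z') ^ m = 1 := by
      rw [← hτz z' hzcen]
      exact hz'ker
    obtain ⟨k, hk⟩ := hS z'
    have h2 : (Abelianization.of z') ^ (p ^ k) = 1 := by
      rw [← map_pow, hk, map_one]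
    have hcop : Nat.Coprime m (p ^ k) :=
      (Nat.Coprime.pow_left k ((Nat.Prime.coprime_iff_not_dvd hp).2 hpm)).symm
    have h3 : Abelianization.of z' = 1 := by
      have hd1 := orderOf_dvd_of_pow_eq_one h1
      have hd2 := orderOf_dvd_of_pow_eq_one h2
      have hd := Nat.dvd_gcd hd1 hd2
      rw [hcop] at hd
      exact orderOf_eq_one_iff.1 (Nat.dvd_one.1 hd)
    have h4 : z' ∈ commutator S := by
      rw [← Abelianization.ker_of]
      exact h3
    rw [← Subgroup.map_subtype_commutator]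
    exact ⟨z', h4, rfl⟩
  · rintro z ⟨hzS', hzcen⟩
    refine ⟨?_, hzcen⟩
    have hle : ⁅(S : Subgroup Ω), (S : Subgroup Ω)⁆ ≤ F.focalSubgroup := by
      rw [Subgroup.commutator_le]
      intro a ha b hb
      rw [commutatorElement_def]
      have e : a * b * a⁻¹ * b⁻¹ = (a⁻¹)⁻¹ * (b * a⁻¹ * b⁻¹) := by group
      rw [e]
      apply Subgroup.subset_closure
      exact ⟨S, conjHom S b, ⟨a⁻¹, S.inv_mem ha⟩, F.conj_mem le_rfl hb, rfl⟩
    exact hle hzS'

end Cfsg.Agent.S5329
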