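import Cfsg.Statements.S5330
import Cfsg.Agent.Lib.Helper85.FusionBasic
import Cfsg.Agent.Lib.Helper85.FusionNormal
import Cfsg.Agent.Lib.Helper88.CoprimeAbelian
import Cfsg.Agent.Lib.Helper88.FusionAbelian

set_option autoImplicit false
open Cfsg

namespace Cfsg.Agent.S5330

open Cfsg.Agent.Lib.Helper85 Cfsg.Agent.Lib.Helper88

theorem center_eq {Ω : Type*} [Group Ω] {S : Subgroup Ω} [Finite S] (p : ℕ)
    (F : Cfsg.FusionSystem S) (hF : F.IsSaturated p) (hab : ∀ x ∈ S, ∀ y ∈ S, x * y = y * x) :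
    F.center = (fixedSub (F.autGroup S)).map S.subtype := by
  apply le_antisymm
  · have hc := isCentral_center F
    intro z hz
    have hzS : z ∈ S := hc.1 hz
    refine ⟨⟨z, hzS⟩, ?_, rfl⟩
    intro a ha
    have hφ : S.subtype.comp a.toMonoidHom ∈ F.Hom S := (mem_autGroup_iff F le_rfl a).1 ha
    obtain ⟨ψ, -, hψ1, hψ2⟩ := hc.2 S _ hφ
    have h1 := hψ1 ⟨z, hzS⟩
    have h2 := hψ2 ⟨z, hz⟩
    have e : Subgroup.inclusion (le_sup_left : S ≤ S ⊔ F.center) ⟨z, hzS⟩ =
        Subgroup.inclusion (le_sup_right : F.center ≤ S ⊔ F.center) ⟨z, hz⟩ := Subtype.ext rfl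
    rw [e, h2] at h1
    apply Subtype.ext
    exact h1.symm
  · apply le_center_of_isCentral
    have hQS : (fixedSub (F.autGroup S)).map S.subtype ≤ S := by
      rintro _ ⟨y, -, rfl⟩
      exact y.2
    refine ⟨hQS, fun P φ hφ => ?_⟩
    have hPS : P ≤ S := le_of_mem_Hom F hφ
    obtain ⟨α, hα, hαx⟩ := exists_aut_extension_of_abelian F p hF hab hφ
    have hle : P ⊔ (fixedSub (F.autGroup S)).map S.subtype ≤ S := sup_le hPS hQS
    have hα' : S.subtype.comp α.toMonoidHom ∈ F.Hom S := (mem_autGroup_iff F le_rfl α).1 hα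
    refine ⟨_, restrict_mem F hα' hle, fun x => ?_, fun x => ?_⟩
    · exact hαx x (hPS x.2)
    · obtain ⟨_, ⟨y, hy, rfl⟩⟩ := x
      show ((α y : S) : Ω) = y
      rw [hy α hα]

theorem focal_eq {Ω : Type*} [Group Ω] {S : Subgroup Ω} [Finite S] (p : ℕ)
    (F : Cfsg.FusionSystem S) (hF : F.IsSaturated p) (hab : ∀ x ∈ S, ∀ y ∈ S, x * y = y * x) :
    F.focalSubgroup = (commSub (F.autGroup S)).map S.subtype := by
  apply le_antisymm
  · unfold FusionSystem.focalSubgroup
    rw [Subgroup.closure_le]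
    rintro _ ⟨P, φ, x, hφ, rfl⟩
    have hPS : P ≤ S := le_of_mem_Hom F hφ
    obtain ⟨α, hα, hαx⟩ := exists_aut_extension_of_abelian F p hF hab hφ
    refine ⟨(⟨x, hPS x.2⟩ : S)⁻¹ * α ⟨x, hPS x.2⟩, ?_, ?_⟩
    · apply Subgroup.subset_closure
      exact ⟨α, hα, _, rfl⟩
    · show ((x : Ω))⁻¹ * ((α ⟨x, hPS x.2⟩ : S) : Ω) = _
      rw [hαx]
  · rw [Subgroup.map_le_iff_le_comap]
    unfold commSub
    rw [Subgroup.closure_le]
    rintro _ ⟨a, ha, x, rfl⟩
    have hφ : S.subtype.comp a.toMonoidHom ∈ F.Hom S := (mem_autGroup_iff F le_rfl a).1 ha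
    show S.subtype (x⁻¹ * a x) ∈ F.focalSubgroup
    apply Subgroup.subset_closure
    exact ⟨S, _, x, hφ, rfl⟩

/-- Let F be a saturated fusion system over a finite abelian p-group S. Then S is the internal direct product of the centre of the system and the focal subgroup: Z(F) ∩ foc(F) = 1 and Z(F)·foc(F) = S. -/
theorem result {Ω : Type*} [Group Ω] {S : Subgroup Ω} [Finite S] (p : ℕ) [Fact p.Prime] (hS : IsPGroup p S) (F : Cfsg.FusionSystem S) (hF : F.IsSaturated p) (hab : ∀ x ∈ S, ∀ y ∈ S, x * y = y * x) : F.center ⊓ F.focalSubgroup = ⊥ ∧ F.center ⊔ F.focalSubgroup = S := by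
  have hcomm : ∀ x y : S, x * y = y * x := fun x y => Subtype.ext (hab x x.2 y y.2)
  have hcopA := card_autGroup_top_coprime_of_abelian F p hF hab
  obtain ⟨n, hn⟩ := IsPGroup.iff_card.mp hS
  have hcop : (Nat.card (F.autGroup S)).Coprime (Nat.card S) := by
    rw [hn]
    exact Nat.Coprime.pow_right n hcopA
  obtain ⟨h1, h2⟩ := coprime_abelian_decomp hcomm (F.autGroup S) hcop
  rw [center_eq p F hF hab, focal_eq p F hF hab]
  constructor
  · rw [← Subgroup.map_inf _ _ _ (Subgroup.subtype_injective S), h1, Subgroup.map_bot]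
  · rw [← Subgroup.map_sup, h2, ← MonoidHom.range_eq_map, Subgroup.range_subtype]

end Cfsg.Agent.S5330
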