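import Cfsg.Statements.S5331
import Cfsg.Agent.Lib.Helper85.FusionBasic
import Cfsg.Agent.Lib.Helper88.FusionAbelian

set_option autoImplicit false
open Cfsg

namespace Cfsg.Agent.S5331


section algebra

variable {n : ℕ} (a : Fin n → ℕ)

/-- the module `∏ ZMod (2 ^ a i)` -/
abbrev MM {n : ℕ} (a : Fin n → ℕ) : Type := (i : Fin n) → ZMod (2 ^ a i)

local notation "M" => MM a

/-- parity lemma in `ZMod (2^b)` -/
theorem even_of_pow_smul_eq_zero {b k : ℕ} (hk : k < b) (u : ZMod (2 ^ b)) (h : (2 ^ k) • u = 0) :
    Even u := by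
  haveI : NeZero (2 ^ b) := ⟨by positivity⟩
  have hu : u = ((u.val : ℕ) : ZMod (2 ^ b)) := (ZMod.natCast_zmod_val u).symm
  rw [hu, nsmul_eq_mul] at h
  have h' : (((2 ^ k * u.val : ℕ)) : ZMod (2 ^ b)) = 0 := by
    rw [Nat.cast_mul]
    exact h
  rw [ZMod.natCast_eq_zero_iff] at h'
  have hb : 2 ^ b = 2 ^ k * 2 ^ (b - k) := by
    rw [← pow_add]; congr 1; omega
  have h'' : 2 ^ k * 2 ^ (b - k) ∣ 2 ^ k * u.val := hb ▸ h'
  have h2 : 2 ^ (b - k) ∣ u.val := Nat.dvd_of_mul_dvd_mul_left (by positivity) h''
  have h3 : 2 ∣ u.val := dvd_trans (dvd_pow_self 2 (by omega)) h2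
  obtain ⟨q, hq⟩ := h3
  rw [hu, hq]
  exact ⟨(q : ZMod (2 ^ b)), by push_cast; ring⟩

theorem even_sub_of_not_even {b : ℕ} (u v : ZMod (2 ^ b)) (hu : ¬ Even u) (hv : ¬ Even v) :
    Even (u - v) := by
  haveI : NeZero (2 ^ b) := ⟨by positivity⟩
  have hu' : u = ((u.val : ℕ) : ZMod (2 ^ b)) := (ZMod.natCast_zmod_val u).symm
  have hv' : v = ((v.val : ℕ) : ZMod (2 ^ b)) := (ZMod.natCast_zmod_val v).symm
  rcases Nat.even_or_odd' u.val with ⟨q, hq | hq⟩
  · exfalso; apply hu; rw [hu', hq]; exact ⟨(q : ZMod (2 ^ b)), by push_cast; ring⟩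
  rcases Nat.even_or_odd' v.val with ⟨r, hr | hr⟩
  · exfalso; apply hv; rw [hv', hr]; exact ⟨(r : ZMod (2 ^ b)), by push_cast; ring⟩
  rw [hu', hv', hq, hr]
  exact ⟨(q : ZMod (2 ^ b)) - r, by push_cast; ring⟩

/-- The subgroup `M[2^k] + 2M` in coordinates. -/
def E (k : ℕ) : AddSubgroup M where
  carrier := {x | ∀ i, k < a i → Even (x i)}
  zero_mem' := fun i _ => ⟨0, by simp⟩
  add_mem' := by
    intro x y hx hy i hi
    exact (hx i hi).add (hy i hi)
  neg_mem' := by
    intro x hx i hi
    exact (hx i hi).neg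

theorem mem_E (k : ℕ) (x : M) : x ∈ E a k ↔ ∀ i, k < a i → Even (x i) := Iff.rfl

theorem E_invariant (k : ℕ) (β : M ≃+ M) (x : M) (hx : x ∈ E a k) : β x ∈ E a k := by
  classical
  -- decompose x = y + 2 z
  choose r hr using fun i (hi : k < a i) => hx i hi
  let y : M := fun i => if a i ≤ k then x i else 0
  let z : M := fun i => if h : a i ≤ k then 0 else r i (by omega)
  have hxyz : x = y + 2 • z := by
    funext i
    by_cases h : a i ≤ k
    · simp [y, z, h]
    · simp only [Pi.add_apply, Pi.smul_apply, y, z, h, if_false, dif_neg, not_false_eq_true, zero_add]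
      rw [hr i (by omega), two_nsmul]
  have hy : (2 ^ k) • y = 0 := by
    funext i
    by_cases h : a i ≤ k
    · simp only [Pi.smul_apply, y, h, if_true, Pi.zero_apply]
      rw [nsmul_eq_mul]
      have : ((2 ^ k : ℕ) : ZMod (2 ^ a i)) = 0 := by
        rw [ZMod.natCast_eq_zero_iff]
        exact pow_dvd_pow 2 h
      rw [this, zero_mul]
    · simp [y, h]
  have hβy : (2 ^ k) • β y = 0 := by
    rw [← map_nsmul, hy, map_zero]
  intro i hi
  rw [hxyz, map_add, map_nsmul]
  apply Even.add
  · apply even_of_pow_smul_eq_zero hi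
    have := congrFun hβy i
    simpa using this
  · refine ⟨β z i, ?_⟩
    simp only [Pi.smul_apply, two_nsmul]

theorem E_invariant_iff (k : ℕ) (β : M ≃+ M) (x : M) : β x ∈ E a k ↔ x ∈ E a k := by
  constructor
  · intro h
    have := E_invariant a k β.symm (β x) h
    simpa using this
  · exact E_invariant a k β x

theorem E_step (ha : Function.Injective a) (k : ℕ) (β : M ≃+ M) (x : M) (hx : x ∈ E a (k + 1)) :
    β x - x ∈ E a k := by
  have hβx : β x ∈ E a (k + 1) := E_invariant a (k + 1) β x hx
  intro i hi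
  by_cases hik : a i = k + 1
  · -- the critical coordinate
    by_cases hxi : Even (x i)
    · have hxk : x ∈ E a k := by
        intro j hj
        by_cases hjk : a j = k + 1
        · have : j = i := ha (hjk.trans hik.symm)
          rw [this]; exact hxi
        · exact hx j (by omega)
      have := E_invariant a k β x hxk
      exact (this i hi).sub hxi
    · have hβxi : ¬ Even (β x i) := by
        intro hev
        apply hxi
        have hβxk : β x ∈ E a k := by
          intro j hj
          by_cases hjk : a j = k + 1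
          · have : j = i := ha (hjk.trans hik.symm)
            rw [this]; exact hev
          · exact hβx j (by omega)
        exact ((E_invariant_iff a k β x).1 hβxk) i hi
      exact even_sub_of_not_even _ _ hβxi hxi
  · have h1 : k + 1 < a i := by omega
    exact (hβx i h1).sub (hx i h1)

theorem iterate_of_fixed (β : M ≃+ M) (X Y : M) (hX : β X = X + Y) (hY : β Y = Y) (m : ℕ) :
    (β^[m]) X = X + m • Y := by
  induction m with
  | zero => simp
  | succ m ih =>
    rw [Function.iterate_succ_apply', ih, map_add, map_nsmul, hX, hY, succ_nsmul]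
    abel

theorem pow_smul_eq_zero (T : ℕ) (hT : ∀ i, a i ≤ T) (x : M) : (2 ^ T) • x = 0 := by
  funext i
  simp only [Pi.smul_apply, Pi.zero_apply]
  rw [nsmul_eq_mul]
  have : ((2 ^ T : ℕ) : ZMod (2 ^ a i)) = 0 := by
    rw [ZMod.natCast_eq_zero_iff]
    exact pow_dvd_pow 2 (hT i)
  rw [this, zero_mul]

theorem eq_zero_of_odd_smul (T : ℕ) (hT : ∀ i, a i ≤ T) (m : ℕ) (hm : Odd m) (y : M)
    (h : m • y = 0) : y = 0 := by
  have h1 : addOrderOf y ∣ m := addOrderOf_dvd_of_nsmul_eq_zero h
  have h2 : addOrderOf y ∣ 2 ^ T := addOrderOf_dvd_of_nsmul_eq_zero (pow_smul_eq_zero a T hT y)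
  have hcop : Nat.Coprime m (2 ^ T) := by
    apply Nat.Coprime.pow_right
    exact Nat.coprime_two_right.2 hm
  have : addOrderOf y ∣ 1 := by
    have := Nat.dvd_gcd h1 h2
    rwa [hcop] at this
  exact AddMonoid.addOrderOf_eq_one_iff.mp (Nat.dvd_one.mp this)

/-- An additive automorphism of odd order of `∏ ZMod (2 ^ a i)` with the `a i` pairwise distinct and
positive is trivial. -/
theorem aut_trivial (ha : Function.Injective a) (ha1 : ∀ i, 1 ≤ a i) (β : M ≃+ M) (m : ℕ)
    (hm : Odd m) (hβ : ∀ x, (β^[m]) x = x) : ∀ x, β x = x := by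
  classical
  obtain ⟨T, hT⟩ : ∃ T, ∀ i, a i ≤ T := ⟨Finset.univ.sup a, fun i => Finset.le_sup (Finset.mem_univ i)⟩
  -- Claim(t) by downward induction: β fixes 2^t M pointwise
  have claim : ∀ d t : ℕ, t + d = T → ∀ z : M, β ((2 ^ t) • z) = (2 ^ t) • z := by
    intro d
    induction d with
    | zero =>
      intro t ht z
      have : t = T := by omega
      subst this
      rw [pow_smul_eq_zero a t hT z, map_zero]
    | succ d ih =>
      intro t ht
      have IH := ih (t + 1) (by omega)
      have sub : ∀ k : ℕ, ∀ x ∈ E a k, β ((2 ^ t) • x) = (2 ^ t) • x := by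
        intro k
        induction k with
        | zero =>
          intro x hx
          -- all coordinates even
          choose r hr using fun i => hx i (ha1 i)
          have : x = 2 • (fun i => r i : M) := by
            funext i
            simp only [Pi.smul_apply]
            rw [hr i, two_nsmul]
          rw [this, ← mul_nsmul, mul_comm, ← pow_succ]
          exact IH _
        | succ k ihk =>
          intro x hx
          have hw := E_step a ha k β x hx
          have hY := ihk _ hw
          have hX : β ((2 ^ t) • x) = (2 ^ t) • x + (2 ^ t) • (β x - x) := by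
            rw [map_nsmul, ← nsmul_add]
            congr 1
            abel
          have := iterate_of_fixed a β _ _ hX hY m
          rw [hβ] at this
          have h0 : m • ((2 ^ t) • (β x - x)) = 0 := by
            have h' : (2 ^ t) • x + 0 = (2 ^ t) • x + m • ((2 ^ t) • (β x - x)) := by
              rw [add_zero]; exact this
            exact (add_left_cancel h').symm
          have := eq_zero_of_odd_smul a T hT m hm _ h0
          rw [hX, this, add_zero]
      intro z
      apply sub T
      intro i hi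
      exact absurd (hT i) (by omega)
  intro x
  have := claim T 0 (by omega) x
  simpa using this

end algebra


open Cfsg.Agent.Lib.Helper85 Cfsg.Agent.Lib.Helper88

/-- transport a multiplicative automorphism of `S` to an additive automorphism of the model -/
noncomputable def transport {G : Type*} [Group G] {n : ℕ} (a : Fin n → ℕ)
    (e : G ≃* Multiplicative (MM a)) (α : G ≃* G) : MM a ≃+ MM a :=
  AddEquiv.toMultiplicative.symm (e.symm.trans (α.trans e))

theorem transport_apply {G : Type*} [Group G] {n : ℕ} (a : Fin n → ℕ)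
    (e : G ≃* Multiplicative (MM a)) (α : G ≃* G) (x : MM a) :
    transport a e α x = Multiplicative.toAdd (e (α (e.symm (Multiplicative.ofAdd x)))) := rfl

theorem transport_iterate {G : Type*} [Group G] {n : ℕ} (a : Fin n → ℕ)
    (e : G ≃* Multiplicative (MM a)) (α : MulAut G) (k : ℕ) (x : MM a) :
    ((transport a e α)^[k]) x = Multiplicative.toAdd (e ((α ^ k) (e.symm (Multiplicative.ofAdd x)))) := by
  induction k with
  | zero => simp
  | succ k ih =>
    rw [Function.iterate_succ_apply', ih, transport_apply, pow_succ']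
    simp

theorem aut_eq_one {Ω : Type*} [Group Ω] {S : Subgroup Ω} [Finite S] (n : ℕ) (a : Fin n → ℕ)
    (ha : StrictMono a) (ha1 : ∀ i, 1 ≤ a i) (e : ↥S ≃* Multiplicative ((i : Fin n) → ZMod (2 ^ a i)))
    (A : Subgroup (MulAut S)) (hA : (Nat.card A).Coprime 2) (α : MulAut S) (hα : α ∈ A) : α = 1 := by
  have hm : Odd (orderOf α) := by
    have h1 : orderOf α ∣ Nat.card A := by
      have := orderOf_dvd_natCard (⟨α, hα⟩ : A)
      rwa [← Subgroup.orderOf_coe] at this
    have h2 : (orderOf α).Coprime 2 := Nat.Coprime.coprime_dvd_left h1 hA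
    exact Nat.coprime_two_right.1 h2
  have hβ : ∀ x, ((transport a e α)^[orderOf α]) x = x := by
    intro x
    rw [transport_iterate, pow_orderOf_eq_one]
    simp
  have h := aut_trivial a ha.injective ha1 (transport a e α) (orderOf α) hm hβ
  ext s
  have hs := h (Multiplicative.toAdd (e s))
  rw [transport_apply] at hs
  have hs' : e (α s) = e s := by
    have : e (α (e.symm (Multiplicative.ofAdd (Multiplicative.toAdd (e s))))) = e s := hs
    simpa using this
  have := e.injective hs'
  rw [this]
  rfl

/-- Let S be a finite abelian 2-group that is a direct product of cyclic groups of pairwise distinct orders 2^{a_1} < 2^{a_2} < ⋯ < 2^{a_n} (all a_i ≥ 1). Then every saturated fusion system over S is the inner one: its maps are exactly the conjugations by elements of S. -/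
theorem result {Ω : Type*} [Group Ω] {S : Subgroup Ω} [Finite S] (n : ℕ) (a : Fin n → ℕ) (ha : StrictMono a) (ha1 : ∀ i, 1 ≤ a i) (e : ↥S ≃* Multiplicative ((i : Fin n) → ZMod (2 ^ a i))) (F : Cfsg.FusionSystem S) (hF : F.IsSaturated 2) (P : Subgroup Ω) : F.Hom P = (Cfsg.innerFusionSystem S).Hom P := by
  have hab : ∀ x ∈ S, ∀ y ∈ S, x * y = y * x := by
    intro x hx y hy
    have : (⟨x, hx⟩ : S) * ⟨y, hy⟩ = ⟨y, hy⟩ * ⟨x, hx⟩ := by
      apply e.injective
      rw [map_mul, map_mul, mul_comm]
    exact congrArg (fun z : S => (z : Ω)) this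
  have hcop := card_autGroup_top_coprime_of_abelian F 2 hF hab
  ext φ
  constructor
  · intro hφ
    have hPS : P ≤ S := le_of_mem_Hom F hφ
    obtain ⟨α, hα, hαx⟩ := exists_aut_extension_of_abelian F 2 hF hab hφ
    have h1 : α = 1 := aut_eq_one n a ha ha1 e (F.autGroup S) hcop α hα
    refine ⟨hPS, 1, S.one_mem, fun x => ?_⟩
    rw [← hαx x (hPS x.2), h1]
    simp
  · rintro ⟨hPS, g, hg, hgx⟩
    have : φ = conjHom P g := by
      ext x
      rw [hgx x]
      rfl
    rw [this]
    exact F.conj_mem hPS hg

end Cfsg.Agent.S5331
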