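import Cfsg.Statements.S5333
import Cfsg.Agent.Lib.Helper88.FusionFC
import Cfsg.Agent.Lib.Helper85.FusionNC
import Cfsg.Agent.S5078

set_option autoImplicit false
open Cfsg

namespace Cfsg.Agent.S5333

open Cfsg.FusionSystem
open Cfsg.Agent.Lib.Helper87 Cfsg.Agent.Lib.Helper88

variable {Ω : Type*} [Group Ω] {S : Subgroup Ω}

/-- transporting "P centralizes Z" along an isomorphism respecting `Z`, `Z'` -/
theorem centralizes_of_iso {Z P Z' A : Subgroup Ω} (a : P ≃* A)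
    (hPC : P ≤ Subgroup.centralizer (Z : Set Ω)) (hZ'A : Z' ≤ A)
    (hiff : ∀ x : P, (x : Ω) ∈ Z ↔ ((a x : A) : Ω) ∈ Z') :
    A ≤ Subgroup.centralizer (Z' : Set Ω) := by
  intro y hy
  rw [Subgroup.mem_centralizer_iff]
  intro w hw
  have hwA : w ∈ A := hZ'A hw
  have h1 : ((a.symm ⟨w, hwA⟩ : P) : Ω) ∈ Z := by
    rw [hiff]; simpa using hw
  have h2 := Subgroup.mem_centralizer_iff.mp (hPC (a.symm ⟨y, hy⟩).2) _ h1
  have h3 : a.symm ⟨w, hwA⟩ * a.symm ⟨y, hy⟩ = a.symm ⟨y, hy⟩ * a.symm ⟨w, hwA⟩ := Subtype.ext h2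
  rw [← map_mul, ← map_mul] at h3
  have h4 := a.symm.injective h3
  exact congrArg (fun z : A => (z : Ω)) h4

theorem isIso_of_le {F F' : FusionSystem S} (hle : F' ≤ F) {P Q : Subgroup Ω} {e : P ≃* Q}
    (he : IsIso F' e) : IsIso F e := hle P he

/-- The key step: an `F`-isomorphism `κ : A ≃ A₁` carrying `Z'` onto `Z₁'` (both of order `p`, receptive in
`F'`, centralized by `A` resp. `A₁`) is an `F'`-isomorphism. -/
theorem key [Finite S] (p : ℕ) [Fact p.Prime] (F F' : FusionSystem S) (hle : F' ≤ F)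
    (hZ : ∀ Z : Subgroup Ω, Z ≤ S → Nat.card Z = p → F'.IsFullyCentralized Z → F.Hom Z = F'.Hom Z ∧ ∀ (C C' : Cfsg.FusionSystem (Cfsg.FusionSystem.centralizerIn S Z)), F.IsCentralizerSystem Z C → F'.IsCentralizerSystem Z C' → ∀ P : Subgroup Ω, C.Hom P = C'.Hom P)
    {Z' A Z₁' A₁ : Subgroup Ω} (hZ'c : Nat.card Z' = p) (hZ₁'c : Nat.card Z₁' = p)
    (hZ'r : F'.IsReceptive Z') (hZ₁'r : F'.IsReceptive Z₁')
    (hZ'A : Z' ≤ A) (hZ₁'A₁ : Z₁' ≤ A₁)
    (hAC : A ≤ Subgroup.centralizer (Z' : Set Ω)) (hA₁C : A₁ ≤ Subgroup.centralizer (Z₁' : Set Ω))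
    (κ : A ≃* A₁) (hκ : IsIso F κ)
    (hκZ : ∀ y : A, (y : Ω) ∈ Z' ↔ ((κ y : A₁) : Ω) ∈ Z₁') : IsIso F' κ := by
  have hAS : A ≤ S := hκ.le_left
  have hA₁S : A₁ ≤ S := hκ.le_right
  have hZ'S : Z' ≤ S := hZ'r.1
  have hZ₁'S : Z₁' ≤ S := hZ₁'r.1
  obtain ⟨hHom', -⟩ := hZ Z' hZ'S hZ'c (Cfsg.Agent.S5078.result F' Z' hZ'r)
  obtain ⟨-, hCen⟩ := hZ Z₁' hZ₁'S hZ₁'c (Cfsg.Agent.S5078.result F' Z₁' hZ₁'r)
  -- κ restricted to Z'
  let κZ : Z' →* Ω := (A₁.subtype.comp κ.toMonoidHom).comp (Subgroup.inclusion hZ'A)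
  have hκZF : κZ ∈ F.Hom Z' := restrict_mem F hκ hZ'A
  have hκZF' : κZ ∈ F'.Hom Z' := by rw [← hHom']; exact hκZF
  have hκZr : κZ.range = Z₁' := by
    apply le_antisymm
    · rintro _ ⟨x, rfl⟩
      exact (hκZ ⟨x, hZ'A x.2⟩).1 x.2
    · intro w hw
      have hwA₁ : w ∈ A₁ := hZ₁'A₁ hw
      have h1 : ((κ.symm ⟨w, hwA₁⟩ : A) : Ω) ∈ Z' := by
        rw [hκZ]; simpa using hw
      refine ⟨⟨_, h1⟩, ?_⟩
      show ((κ (Subgroup.inclusion hZ'A ⟨_, h1⟩) : A₁) : Ω) = w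
      have : Subgroup.inclusion hZ'A ⟨((κ.symm ⟨w, hwA₁⟩ : A) : Ω), h1⟩ = κ.symm ⟨w, hwA₁⟩ :=
        Subtype.ext rfl
      rw [this, MulEquiv.apply_symm_apply]
  obtain ⟨ψ, hψ, hψe⟩ := hZ₁'r.2 Z' κZ hκZF' hκZr
  have hAext : A ≤ extender S Z' κZ := fun x hx => centralizerIn_le_extender _ ⟨hAS hx, hAC hx⟩
  have hb₀ : ψ.comp (Subgroup.inclusion hAext) ∈ F'.Hom A := restrict_mem F' hψ hAext
  let b := MonoidHom.ofInjective (F'.injective_of_mem hb₀)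
  have hb : IsIso F' b := isIso_ofInjective F' hb₀
  -- values of b on Z'
  have hbZ : ∀ (y : A) (hy : (y : Ω) ∈ Z'), ((b y : _) : Ω) = ((κ y : A₁) : Ω) := by
    intro y hy
    have := hψe y hy (hAext y.2)
    show ψ (Subgroup.inclusion hAext y) = _
    have h2 : Subgroup.inclusion hAext y = ⟨(y : Ω), hAext y.2⟩ := rfl
    rw [h2, this]
    rfl
  -- ω := b⁻¹ ≫ κ
  let ω := b.symm.trans κ
  have hω : IsIso F ω := (isIso_of_le hle hb).symm.trans hκ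
  have hBS : (ψ.comp (Subgroup.inclusion hAext)).range ≤ S := hb.le_right
  -- Z₁' ≤ B and ω fixes Z₁'
  have hfix : ∀ w (hw : w ∈ Z₁'), ∃ hwB : w ∈ (ψ.comp (Subgroup.inclusion hAext)).range,
      ((ω ⟨w, hwB⟩ : A₁) : Ω) = w := by
    intro w hw
    have hwA₁ : w ∈ A₁ := hZ₁'A₁ hw
    have h1 : ((κ.symm ⟨w, hwA₁⟩ : A) : Ω) ∈ Z' := by
      rw [hκZ]; simpa using hw
    have h2 := hbZ (κ.symm ⟨w, hwA₁⟩) h1
    rw [MulEquiv.apply_symm_apply] at h2
    have hwB : w ∈ (ψ.comp (Subgroup.inclusion hAext)).range := by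
      have := (b (κ.symm ⟨w, hwA₁⟩)).2
      rwa [h2] at this
    refine ⟨hwB, ?_⟩
    have h3 : (⟨w, hwB⟩ : (ψ.comp (Subgroup.inclusion hAext)).range) = b (κ.symm ⟨w, hwA₁⟩) :=
      Subtype.ext h2.symm
    show ((κ (b.symm ⟨w, hwB⟩) : A₁) : Ω) = w
    rw [h3, MulEquiv.symm_apply_apply, MulEquiv.apply_symm_apply]
  have hZ₁'B : Z₁' ≤ (ψ.comp (Subgroup.inclusion hAext)).range := fun w hw => (hfix w hw).1
  -- B centralizes Z₁'
  have hBC : (ψ.comp (Subgroup.inclusion hAext)).range ≤ Subgroup.centralizer (Z₁' : Set Ω) := by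
    refine centralizes_of_iso b hAC hZ₁'B (fun y => ?_)
    constructor
    · intro hy
      rw [hbZ y hy]
      exact (hκZ y).1 hy
    · intro hy
      obtain ⟨hwB, hw⟩ := hfix _ hy
      have h3 : (⟨((b y : _) : Ω), hwB⟩ : (ψ.comp (Subgroup.inclusion hAext)).range) = b y :=
        Subtype.ext rfl
      rw [h3] at hw
      have h4 : ((κ (b.symm (b y)) : A₁) : Ω) = ((b y : _) : Ω) := hw
      rw [MulEquiv.symm_apply_apply] at h4
      rw [hκZ, h4]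
      exact hy
  -- ω is a map of the centralizer system
  have hsup : (ψ.comp (Subgroup.inclusion hAext)).range ⊔ Z₁' = (ψ.comp (Subgroup.inclusion hAext)).range :=
    sup_eq_left.2 hZ₁'B
  have hωcen : A₁.subtype.comp ω.toMonoidHom ∈
      F.centralizerHom Z₁' (ψ.comp (Subgroup.inclusion hAext)).range := by
    refine ⟨hω, fun x hx => ⟨hBS hx, hBC hx⟩, fun x => ⟨hA₁S (ω x).2, hA₁C (ω x).2⟩, ?_⟩
    refine ⟨(A₁.subtype.comp ω.toMonoidHom).comp (Subgroup.inclusion hsup.le), ?_, fun x => rfl, ?_⟩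
    · exact hom_of_eq_on F hsup.symm hω (fun x hx hx' => rfl)
    · intro x
      obtain ⟨hwB, hw⟩ := hfix x x.2
      exact hw
  have hωcen' : A₁.subtype.comp ω.toMonoidHom ∈
      F'.centralizerHom Z₁' (ψ.comp (Subgroup.inclusion hAext)).range := by
    have := hCen (Cfsg.Agent.Lib.Helper85.centralizerSystem F Z₁' hZ₁'S)
      (Cfsg.Agent.Lib.Helper85.centralizerSystem F' Z₁' hZ₁'S)
      (Cfsg.Agent.Lib.Helper85.isCentralizerSystem_centralizerSystem F Z₁' hZ₁'S)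
      (Cfsg.Agent.Lib.Helper85.isCentralizerSystem_centralizerSystem F' Z₁' hZ₁'S)
      (ψ.comp (Subgroup.inclusion hAext)).range
    have h2 : A₁.subtype.comp ω.toMonoidHom ∈
        (Cfsg.Agent.Lib.Helper85.centralizerSystem F Z₁' hZ₁'S).Hom
          (ψ.comp (Subgroup.inclusion hAext)).range := hωcen
    rw [this] at h2
    exact h2
  have hω' : IsIso F' ω := hωcen'.1
  have := hb.trans hω'
  refine hom_of_eq_on F' rfl this (fun x hx hx' => ?_)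
  show ((κ ⟨x, hx'⟩ : A₁) : Ω) = ((κ (b.symm (b ⟨x, hx⟩)) : A₁) : Ω)
  rw [MulEquiv.symm_apply_apply]

/-- The main reduction, given a subgroup `Z ≤ P` of order `p` centralized by `P`. -/
theorem main [Finite S] (p : ℕ) [Fact p.Prime] (F : FusionSystem S)
    (F' : FusionSystem S) (hF' : F'.IsSaturated p) (hle : F' ≤ F)
    (hZ : ∀ Z : Subgroup Ω, Z ≤ S → Nat.card Z = p → F'.IsFullyCentralized Z → F.Hom Z = F'.Hom Z ∧ ∀ (C C' : Cfsg.FusionSystem (Cfsg.FusionSystem.centralizerIn S Z)), F.IsCentralizerSystem Z C → F'.IsCentralizerSystem Z C' → ∀ P : Subgroup Ω, C.Hom P = C'.Hom P)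
    {P : Subgroup Ω} {φ : P →* Ω} (hφ : φ ∈ F.Hom P) {Z : Subgroup Ω} (hZP : Z ≤ P)
    (hZc : Nat.card Z = p) (hPC : P ≤ Subgroup.centralizer (Z : Set Ω)) : φ ∈ F'.Hom P := by
  have hPS : P ≤ S := hom_le F hφ
  let e₀ := MonoidHom.ofInjective (F.injective_of_mem hφ)
  have he₀ : IsIso F e₀ := isIso_ofInjective F hφ
  have hP₁S : φ.range ≤ S := he₀.le_right
  -- Z₁ = φ(Z)
  have hZ₁P₁ : (Z.subgroupOf P).map φ ≤ φ.range := by
    rintro _ ⟨x, -, rfl⟩; exact ⟨x, rfl⟩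
  have hiff₀ : ∀ x : P, (x : Ω) ∈ Z ↔ ((e₀ x : φ.range) : Ω) ∈ (Z.subgroupOf P).map φ := by
    intro x
    constructor
    · intro hx; exact ⟨x, hx, rfl⟩
    · rintro ⟨y, hy, hyx⟩
      have : y = x := F.injective_of_mem hφ hyx
      rw [← this]; exact hy
  have hP₁C : φ.range ≤ Subgroup.centralizer (((Z.subgroupOf P).map φ : Subgroup Ω) : Set Ω) :=
    centralizes_of_iso e₀ hPC hZ₁P₁ hiff₀
  obtain ⟨Z', A, a, ha, -, hZ'r, hconj, hZ'A, hiff⟩ := exists_iso_to_receptive F' hF' hZP hPS hPC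
  obtain ⟨Z₁', A₁, a₁, ha₁, -, hZ₁'r, hconj₁, hZ₁'A₁, hiff₁⟩ :=
    exists_iso_to_receptive F' hF' hZ₁P₁ hP₁S hP₁C
  have hZ'c : Nat.card Z' = p := by rw [← IsConj_card_eq hconj]; exact hZc
  have hZ₁c : Nat.card ((Z.subgroupOf P).map φ : Subgroup Ω) = p := by
    rw [← hZc]
    refine Nat.card_congr (Equiv.ofBijective
      (fun w : ((Z.subgroupOf P).map φ : Subgroup Ω) =>
        (⟨((e₀.symm ⟨w, hZ₁P₁ w.2⟩ : P) : Ω), by
          rw [hiff₀]; simpa using w.2⟩ : Z)) ⟨?_, ?_⟩)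
    · intro w w' hww'
      have h1 : ((e₀.symm ⟨w, hZ₁P₁ w.2⟩ : P) : Ω) = ((e₀.symm ⟨w', hZ₁P₁ w'.2⟩ : P) : Ω) :=
        congrArg (fun z : Z => (z : Ω)) hww'
      have h2 := e₀.symm.injective (Subtype.ext h1)
      exact Subtype.ext (congrArg (fun z : φ.range => (z : Ω)) h2)
    · intro x
      refine ⟨⟨φ ⟨x, hZP x.2⟩, ⟨⟨x, hZP x.2⟩, x.2, rfl⟩⟩, ?_⟩
      apply Subtype.ext
      show ((e₀.symm ⟨φ ⟨x, hZP x.2⟩, _⟩ : P) : Ω) = x
      have : (⟨φ ⟨x, hZP x.2⟩, hZ₁P₁ ⟨⟨x, hZP x.2⟩, x.2, rfl⟩⟩ : φ.range) = e₀ ⟨x, hZP x.2⟩ := rfl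
      rw [this, MulEquiv.symm_apply_apply]
  have hZ₁'c : Nat.card Z₁' = p := by rw [← IsConj_card_eq hconj₁]; exact hZ₁c
  have hAC : A ≤ Subgroup.centralizer (Z' : Set Ω) := centralizes_of_iso a hPC hZ'A hiff
  have hA₁C : A₁ ≤ Subgroup.centralizer (Z₁' : Set Ω) := centralizes_of_iso a₁ hP₁C hZ₁'A₁ hiff₁
  let κ : A ≃* A₁ := a.symm.trans (e₀.trans a₁)
  have hκ : IsIso F κ := (isIso_of_le hle ha).symm.trans (he₀.trans (isIso_of_le hle ha₁))
  have hκZ : ∀ y : A, (y : Ω) ∈ Z' ↔ ((κ y : A₁) : Ω) ∈ Z₁' := by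
    intro y
    have h1 := hiff (a.symm y)
    rw [MulEquiv.apply_symm_apply] at h1
    rw [← h1, hiff₀, hiff₁]
    rfl
  have hκ' : IsIso F' κ :=
    key p F F' hle hZ hZ'c hZ₁'c hZ'r hZ₁'r hZ'A hZ₁'A₁ hAC hA₁C κ hκ hκZ
  have h3 : IsIso F' (a.trans (κ.trans a₁.symm)) := ha.trans (hκ'.trans ha₁.symm)
  refine hom_of_eq_on F' rfl h3 (fun x hx hx' => ?_)
  show φ ⟨x, hx'⟩ = ((a₁.symm (a₁ (e₀ (a.symm (a ⟨x, hx⟩)))) : φ.range) : Ω)
  rw [MulEquiv.symm_apply_apply, MulEquiv.symm_apply_apply]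
  rfl

/-- Let F′ ≤ F be saturated fusion systems over the same finite p-group S. Suppose that for every subgroup Z ≤ S of order p that is fully centralized in F′, the maps of F and of F′ with source Z coincide and the centralizer systems C_F(Z) and C_{F′}(Z) coincide. Then F = F′. -/
theorem result {Ω : Type*} [Group Ω] {S : Subgroup Ω} [Finite S] (p : ℕ) [Fact p.Prime] (hS : IsPGroup p S) (F : Cfsg.FusionSystem S) (hF : F.IsSaturated p) (F' : Cfsg.FusionSystem S) (hF' : F'.IsSaturated p) (hle : F' ≤ F) (hZ : ∀ Z : Subgroup Ω, Z ≤ S → Nat.card Z = p → F'.IsFullyCentralized Z → F.Hom Z = F'.Hom Z ∧ ∀ (C C' : Cfsg.FusionSystem (Cfsg.FusionSystem.centralizerIn S Z)), F.IsCentralizerSystem Z C → F'.IsCentralizerSystem Z C' → ∀ P : Subgroup Ω, C.Hom P = C'.Hom P) (P : Subgroup Ω) : F.Hom P = F'.Hom P := by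
  apply Set.Subset.antisymm _ (hle P)
  intro φ hφ
  have hPS : P ≤ S := hom_le F hφ
  by_cases hPbot : P = ⊥
  · subst hPbot
    have : φ = (⊥ : Subgroup Ω).subtype := by
      ext x
      have hx : (x : Ω) = 1 := Subgroup.mem_bot.1 x.2
      have hx' : x = 1 := Subtype.ext hx
      rw [hx']
      simp
    rw [this]
    exact subtype_mem F' bot_le
  -- an element of order p in the centre of P
  have hfinP : Finite P := finite_of_le hPS
  have hPp : IsPGroup p P := by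
    intro x
    obtain ⟨k, hk⟩ := hS ⟨x, hPS x.2⟩
    refine ⟨k, ?_⟩
    apply Subtype.ext
    have := congrArg (fun z : S => (z : Ω)) hk
    simpa using this
  have hntP : Nontrivial P := (Subgroup.nontrivial_iff_ne_bot P).2 hPbot
  have hcnt : Nontrivial (Subgroup.center P) := hPp.center_nontrivial
  have hcp : IsPGroup p (Subgroup.center P) := hPp.to_subgroup _
  obtain ⟨n, hn⟩ := hcp.exists_card_eq
  have hdvd : p ∣ Nat.card (Subgroup.center P) := by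
    rw [hn]
    have hn0 : n ≠ 0 := by
      rintro rfl
      have h1 : Nat.card (Subgroup.center P) = 1 := by simpa using hn
      have := (Nat.card_eq_one_iff_unique.1 h1).1
      exact not_subsingleton _ this
    exact dvd_pow_self p hn0
  obtain ⟨z, hz⟩ := exists_prime_orderOf_dvd_card' p hdvd
  have hzc : ∀ x : P, x * (z : P) = (z : P) * x := fun x => (Subgroup.mem_center_iff.1 z.2 x)
  have hzo : orderOf (((z : P) : Ω)) = p := by
    rw [Subgroup.orderOf_coe, Subgroup.orderOf_coe]; exact hz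
  -- Z = ⟨z⟩
  have hZP : Subgroup.zpowers (((z : P) : Ω)) ≤ P := by
    rw [Subgroup.zpowers_le]; exact (z : P).2
  have hZc : Nat.card (Subgroup.zpowers (((z : P) : Ω))) = p := by
    rw [Nat.card_zpowers]; exact hzo
  have hPC : P ≤ Subgroup.centralizer ((Subgroup.zpowers (((z : P) : Ω)) : Subgroup Ω) : Set Ω) := by
    intro x hx
    rw [Subgroup.mem_centralizer_iff]
    intro w hw
    obtain ⟨k, rfl⟩ := Subgroup.mem_zpowers_iff.1 hw
    have h1 : (x * (((z : P) : Ω))) = (((z : P) : Ω)) * x := congrArg (fun y : P => (y : Ω)) (hzc ⟨x, hx⟩)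
    exact ((Commute.zpow_right (show Commute x (((z : P) : Ω)) from h1) k).eq).symm
  exact main p F F' hF' hle hZ hφ hZP hZc hPC

end Cfsg.Agent.S5333
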