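import Cfsg.Statements.S5334
import Cfsg.Agent.Lib.Helper88.FusionCentricExt

set_option autoImplicit false
open Cfsg

namespace Cfsg.Agent.S5334

open Cfsg.FusionSystem Cfsg.Agent.Lib.Helper87 Cfsg.Agent.Lib.Helper88

/-- Let F′ ≤ F be saturated fusion systems over the same finite p-group S, let Q and R be F-centric subgroups, φ a map of F with source Q and values in R, and ψ a map of F with source R. If two of φ, ψ and the composite ψ ∘ φ are maps of F′ then so is the third. -/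
theorem result {Ω : Type*} [Group Ω] {S : Subgroup Ω} [Finite S] (p : ℕ) [Fact p.Prime] (hS : IsPGroup p S) (F : Cfsg.FusionSystem S) (hF : F.IsSaturated p) (F' : Cfsg.FusionSystem S) (hF' : F'.IsSaturated p) (hle : F' ≤ F) (Q R : Subgroup Ω) (hQ : F.IsCentric Q) (hR : F.IsCentric R) (φ : ↥Q →* Ω) (hφ : φ ∈ F.Hom Q) (hφR : ∀ x : Q, φ x ∈ R) (ψ : ↥R →* Ω) (hψ : ψ ∈ F.Hom R) : (φ ∈ F'.Hom Q → ψ ∈ F'.Hom R → ψ.comp (φ.codRestrict R hφR) ∈ F'.Hom Q) ∧ (ψ ∈ F'.Hom R → ψ.comp (φ.codRestrict R hφR) ∈ F'.Hom Q → φ ∈ F'.Hom Q) ∧ (φ ∈ F'.Hom Q → ψ.comp (φ.codRestrict R hφR) ∈ F'.Hom Q → ψ ∈ F'.Hom R) := by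
  refine ⟨fun h1 h2 => F'.comp_mem h1 h2 hφR, fun h2 h3 => ?_, fun h1 h3 => ?_⟩
  · -- φ = ψ⁻¹ ∘ (ψ ∘ φ)
    let eψ := MonoidHom.ofInjective (F'.injective_of_mem h2)
    have heψ : IsIso F' eψ := isIso_ofInjective F' h2
    have hval : ∀ x : Q, (ψ.comp (φ.codRestrict R hφR)) x ∈ ψ.range := fun x => ⟨_, rfl⟩
    refine heψ.symm.comp_hom h3 hval (fun x => ?_)
    have : (⟨(ψ.comp (φ.codRestrict R hφR)) x, hval x⟩ : ψ.range) = eψ ⟨φ x, hφR x⟩ := rfl
    rw [this, MulEquiv.symm_apply_apply]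
  · -- ψ restricted to φ(Q) lies in F'
    have hPR : φ.range ≤ R := by
      rintro _ ⟨x, rfl⟩
      exact hφR x
    have hPc : F.IsCentric φ.range := isCentric_of_isConj F hQ ⟨φ, hφ, rfl⟩
    let eφ := MonoidHom.ofInjective (F'.injective_of_mem h1)
    have heφ : IsIso F' eφ := isIso_ofInjective F' h1
    have hres : ψ.comp (Subgroup.inclusion hPR) ∈ F'.Hom φ.range := by
      refine comp_mem' F' heφ.symm h3 (fun y => (eφ.symm y).2) (fun y => ?_)
      show ψ (Subgroup.inclusion hPR y) = ψ ⟨φ (eφ.symm y), _⟩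
      congr 1
      apply Subtype.ext
      show (y : Ω) = φ (eφ.symm y)
      have : eφ (eφ.symm y) = y := MulEquiv.apply_symm_apply _ _
      exact (congrArg (fun z : φ.range => (z : Ω)) this).symm
    exact mem_of_restrict_centric_mem F F' hS hF hF' hle hPR hPc hψ hres

end Cfsg.Agent.S5334
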