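import Cfsg.Statements.S5335
import Cfsg.Agent.Lib.Helper88.FusionCentricExt
import Cfsg.Agent.Lib.Helper88.FusionAlperinCR

set_option autoImplicit false
open Cfsg

namespace Cfsg.Agent.S5335

open Cfsg.FusionSystem Cfsg.Agent.Lib.Helper87 Cfsg.Agent.Lib.Helper88

/-- every centric subgroup contains a minimal centric subgroup -/
theorem exists_minimal_centric {Ω : Type*} [Group Ω] {S : Subgroup Ω} [Finite S]
    (F : Cfsg.FusionSystem S) (R : Subgroup Ω) (hR : F.IsCentric R) :
    ∃ Q : Subgroup Ω, Q ≤ R ∧ F.IsCentric Q ∧ ∀ Q' : Subgroup Ω, Q' < Q → ¬ F.IsCentric Q' := by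
  induction' hn : Nat.card R using Nat.strong_induction_on with n ih generalizing R
  by_cases h : ∀ Q' : Subgroup Ω, Q' < R → ¬ F.IsCentric Q'
  · exact ⟨R, le_rfl, hR, h⟩
  · push Not at h
    obtain ⟨Q', hlt, hQ'⟩ := h
    have hfin : Finite R := finite_of_le hR.1
    have hcard : Nat.card Q' < Nat.card R := by
      by_contra hle'
      have heq := Subgroup.eq_of_le_of_card_ge hlt.le (not_lt.mp hle')
      exact (ne_of_lt hlt) heq
    obtain ⟨Q, hQQ', hQc, hQmin⟩ := ih (Nat.card Q') (hn ▸ hcard) Q' hQ' rfl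
    exact ⟨Q, hQQ'.trans hlt.le, hQc, hQmin⟩

/-- Let F′ ≤ F be saturated fusion systems over the same finite p-group S. If the maps of F and of F′ with source Q coincide for every F-centric subgroup Q that is minimal among F-centric subgroups, then F = F′. -/
theorem result {Ω : Type*} [Group Ω] {S : Subgroup Ω} [Finite S] (p : ℕ) [Fact p.Prime] (hS : IsPGroup p S) (F : Cfsg.FusionSystem S) (hF : F.IsSaturated p) (F' : Cfsg.FusionSystem S) (hF' : F'.IsSaturated p) (hle : F' ≤ F) (hmin : ∀ Q : Subgroup Ω, F.IsCentric Q → (∀ R : Subgroup Ω, R < Q → ¬ F.IsCentric R) → F.Hom Q = F'.Hom Q) (P : Subgroup Ω) : F.Hom P = F'.Hom P := by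
  apply Set.Subset.antisymm _ (hle P)
  revert P
  apply alperin_cr F F' hS hF
  intro R _ hc _ hRa _ α hα
  obtain ⟨Q, hQR, hQc, hQmin⟩ := exists_minimal_centric F R hc
  have hαF : R.subtype.comp (α : R ≃* R).toMonoidHom ∈ F.Hom R := (mem_autGroup_iff F hRa.1).1 hα
  have hres : (R.subtype.comp (α : R ≃* R).toMonoidHom).comp (Subgroup.inclusion hQR) ∈ F'.Hom Q := by
    rw [← hmin Q hQc hQmin]
    exact restrict_mem F hαF hQR
  exact mem_of_restrict_centric_mem F F' hS hF hF' hle hQR hQc hαF hres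

end Cfsg.Agent.S5335
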