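import Cfsg.Statements.S5336
import Cfsg.Agent.Lib.Helper88.FusionNormalSubgroup

set_option autoImplicit false
open Cfsg

namespace Cfsg.Agent.S5336

/-- Let G be a finite group with Sylow p-subgroup S whose fusion system F_S(G) is simple. If G has no nontrivial normal subgroup of order prime to p and no proper subgroup H containing S induces the same fusion system on S as G does, then G is a simple group. -/
theorem result {G : Type*} [Group G] [Finite G] (p : ℕ) [Fact p.Prime] (S : Sylow p G) (hsimple : (Cfsg.groupFusionSystem (S : Subgroup G)).IsSimple p) (hcore : Cfsg.pPrimeCore p G = ⊥) (hmin : ∀ (H : Subgroup G) (hSH : (S : Subgroup G) ≤ H), H ≠ ⊤ → ∃ P : Subgroup G, (Cfsg.fusionSystemOfSubgroup H (S : Subgroup G) hSH).Hom P ≠ (Cfsg.groupFusionSystem (S : Subgroup G)).Hom P) : IsSimpleGroup G := by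
  obtain ⟨hsat, hSne, hsimp⟩ := hsimple
  have hnt : Nontrivial G := by
    obtain ⟨x, hx1⟩ := (Subgroup.ne_bot_iff_exists_ne_one).1 hSne
    exact ⟨⟨(x : G), 1, fun h => hx1 (Subtype.ext h)⟩⟩
  refine { exists_pair_ne := hnt.exists_pair_ne, eq_bot_or_eq_top_of_normal := ?_ }
  intro N hN
  rcases hsimp _ _ (Cfsg.Agent.Lib.Helper88.fusionSystemOfSubgroup_inf_isNormalIn S N) with hT | ⟨hT, hE⟩
  · -- `S ∩ N = 1`: `N` is a `p'`-group
    left
    have hcop : (Nat.card N).Coprime p := by
      rw [Nat.coprime_comm, Nat.Prime.coprime_iff_not_dvd Fact.out]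
      intro hdvd
      obtain ⟨x, hx⟩ := exists_prime_orderOf_dvd_card' p hdvd
      have hxp : IsPGroup p (Subgroup.zpowers ((x : N) : G)) := by
        apply IsPGroup.of_card (n := 1)
        rw [Nat.card_zpowers, Subgroup.orderOf_coe, hx, pow_one]
      obtain ⟨g, hg⟩ := Cfsg.Agent.Lib.Helper85.exists_conj_le_sylow S hxp
      have h1 : g * (x : G) * g⁻¹ ∈ (S : Subgroup G) ⊓ N :=
        ⟨hg ⟨_, Subgroup.mem_zpowers _, rfl⟩, hN.conj_mem _ x.2 g⟩
      rw [hT, Subgroup.mem_bot] at h1
      have h2 : (x : G) = 1 := by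
        have : (x : G) = g⁻¹ * (g * (x : G) * g⁻¹) * g := by group
        rw [this, h1]; group
      have h3 : x = 1 := Subtype.ext h2
      rw [h3, orderOf_one] at hx
      exact (Fact.out : p.Prime).one_lt.ne hx
    have hle : N ≤ Cfsg.pPrimeCore p G := le_sSup ⟨hN, hcop⟩
    rw [hcore] at hle
    exact le_bot_iff.1 hle
  · -- `S ≤ N` and `N` induces the full fusion system
    right
    by_contra hne
    have hSN : (S : Subgroup G) ≤ N := by
      rw [← hT]; exact inf_le_right
    obtain ⟨P, hP⟩ := hmin N hSN hne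
    apply hP
    ext φ
    constructor
    · rintro ⟨hPS, hφS, g, -, hg⟩
      exact ⟨hPS, hφS, g, hg⟩
    · intro hφ
      have hφ' := hφ
      rw [← hE P] at hφ'
      obtain ⟨-, -, g, hgN, hg⟩ := hφ'
      exact ⟨hφ.1, hφ.2.1, g, hgN, hg⟩

end Cfsg.Agent.S5336
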