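import Cfsg.Statements.S5337
-- import your own Cfsg.Agent.* helpers here
import Cfsg.Agent.Lib.Helper85.FusionBasic
import Cfsg.Agent.Lib.Helper88.FusionAbelian

set_option autoImplicit false
open Cfsg

namespace Cfsg.Agent.S5337

open Cfsg.FusionSystem
open Cfsg.Agent.Lib.Helper85

variable {Ω : Type*} [Group Ω] {S : Subgroup Ω}

/-- Maps of the inner system of `T ≤ S`, `S` abelian, are inclusions. -/
theorem inner_apply (hab : ∀ x ∈ S, ∀ y ∈ S, x * y = y * x) {T : Subgroup Ω} (hTS : T ≤ S)
    {P : Subgroup Ω} {φ : P →* Ω} (hφ : φ ∈ (Cfsg.innerFusionSystem T).Hom P) (x : P) : φ x = (x : Ω) := by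
  obtain ⟨hP, g, hg, h⟩ := hφ
  rw [h x, hab g (hTS hg) x (hTS (hP x.2)), mul_inv_cancel_right]

/-- The automorphism group of the inner system of an abelian `T` on any `P` is trivial. -/
theorem inner_autGroup_eq_one (hab : ∀ x ∈ S, ∀ y ∈ S, x * y = y * x) {T : Subgroup Ω} (hTS : T ≤ S)
    {P : Subgroup Ω} (hPT : P ≤ T) (α : MulAut P) (hα : α ∈ (Cfsg.innerFusionSystem T).autGroup P) : α = 1 := by
  rw [mem_autGroup_iff _ hPT] at hα
  ext x
  exact inner_apply hab hTS hα x

/-- The inner system of an abelian group is saturated. -/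
theorem inner_saturated (hab : ∀ x ∈ S, ∀ y ∈ S, x * y = y * x) {T : Subgroup Ω} (hTS : T ≤ S) (p : ℕ)
    [Fact p.Prime] [Finite S] : (Cfsg.innerFusionSystem T).IsSaturated p := by
  intro P hPT
  refine ⟨P, isConj_refl _ hPT, ⟨hPT, ?_⟩, ⟨hPT, ?_⟩⟩
  · have hfin : Finite ((Cfsg.innerFusionSystem T).autGroup P) := by
      have : Subsingleton ((Cfsg.innerFusionSystem T).autGroup P) := by
        constructor
        intro a b
        apply Subtype.ext
        rw [inner_autGroup_eq_one hab hTS hPT a.1 a.2, inner_autGroup_eq_one hab hTS hPT b.1 b.2]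
      infer_instance
    obtain ⟨R⟩ : Nonempty (Sylow p ((Cfsg.innerFusionSystem T).autGroup P)) := inferInstance
    refine ⟨R, ?_⟩
    ext a
    have ha : a = 1 := Subtype.ext (inner_autGroup_eq_one hab hTS hPT a.1 a.2)
    rw [ha]
    exact ⟨fun _ => Subgroup.one_mem _, fun _ => Subgroup.one_mem _⟩
  · intro R φ hφ hr
    have hle : extender T R φ ≤ T := by
      intro g hg
      exact ((mem_extender_iff T R φ g).1 hg).1
    refine ⟨(extender T R φ).subtype, id_mem _ hle, ?_⟩
    intro x hP hN
    rw [inner_apply hab hTS hφ]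
    rfl

/-- An injective map `T → T` in the system is an automorphism of `T` in the system. -/
theorem exists_aut_of_mem_hom (F : Cfsg.FusionSystem S) {T : Subgroup Ω} [Finite T] {ψ : T →* Ω}
    (hψ : ψ ∈ F.Hom T) (hval : ∀ x : T, ψ x ∈ T) :
    ∃ α : MulAut T, α ∈ F.autGroup T ∧ ∀ x : T, ((α x : T) : Ω) = ψ x := by
  have hTS : T ≤ S := le_of_mem_Hom F hψ
  let f : T →* T := ψ.codRestrict T hval
  have hinj : Function.Injective f := by
    intro a b hab'
    apply F.injective_of_mem hψ
    exact congrArg (fun z : T => (z : Ω)) hab'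
  have hbij : Function.Bijective f := Finite.injective_iff_bijective.mp hinj
  let α : MulAut T := MulEquiv.ofBijective f hbij
  refine ⟨α, ?_, fun x => rfl⟩
  rw [mem_autGroup_iff F hTS]
  have : T.subtype.comp α.toMonoidHom = ψ := by
    ext x
    rfl
  rw [this]
  exact hψ

/-- For `S` abelian, `F` saturated and `T` strongly closed, the inner system of `T` is normal in `F`. -/
theorem inner_normal [Finite S] (p : ℕ) [Fact p.Prime] (F : Cfsg.FusionSystem S) (hF : F.IsSaturated p)
    (hab : ∀ x ∈ S, ∀ y ∈ S, x * y = y * x) {T : Subgroup Ω} (hT : F.StronglyClosed T) :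
    (Cfsg.innerFusionSystem T).IsNormalIn F p := by
  have hTS : T ≤ S := hT.1
  have hfinT : Finite T := Finite.of_injective (Subgroup.inclusion hTS) (Subgroup.inclusion_injective hTS)
  refine ⟨⟨inner_saturated hab hTS p, hF, ?_, hT, ?_, ?_⟩, ?_⟩
  · -- subsystem
    rintro P φ ⟨hP, g, hg, h⟩
    have : φ = Cfsg.conjHom P g := by
      ext x; exact h x
    rw [this]
    exact F.conj_mem (hP.trans hTS) (hTS hg)
  · -- invariance
    intro P hPT φ hφ α _
    have hle : (P.subgroupOf T).map (T.subtype.comp α.toMonoidHom) ≤ T := by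
      rintro _ ⟨y, _, rfl⟩
      exact (α y).2
    refine ⟨((P.subgroupOf T).map (T.subtype.comp α.toMonoidHom)).subtype, id_mem _ hle, ?_⟩
    intro x hφx hαx
    have e : (⟨φ x, hφx⟩ : T) = ⟨x, hPT x.2⟩ := Subtype.ext (inner_apply hab hTS hφ x)
    rw [e]
    rfl
  · -- Frattini
    intro P hPT φ hφ
    obtain ⟨α', hα', hα'x⟩ := Cfsg.Agent.Lib.Helper88.exists_aut_extension_of_abelian F p hF hab hφ
    rw [mem_autGroup_iff F le_rfl] at hα'
    have hψ : (S.subtype.comp α'.toMonoidHom).comp (Subgroup.inclusion hTS) ∈ F.Hom T :=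
      restrict_mem F hα' hTS
    have hval : ∀ x : T, ((S.subtype.comp α'.toMonoidHom).comp (Subgroup.inclusion hTS)) x ∈ T :=
      fun x => hT.2 T le_rfl _ hψ x
    obtain ⟨α, hα, hαx⟩ := exists_aut_of_mem_hom F hψ hval
    refine ⟨α, hα, P.subtype, id_mem _ hPT, ?_⟩
    intro x hx
    rw [hαx]
    exact (hα'x x (hTS hx)).symm
  · -- extension condition
    intro α hα
    have hα1 : α = 1 := inner_autGroup_eq_one hab hTS le_rfl α hα
    refine ⟨1, Subgroup.one_mem _, ?_, ?_⟩
    · intro x
      rw [hα1]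
      rfl
    · intro c _
      have : (c : Ω)⁻¹ * (((1 : MulAut ↥(T ⊔ centralizerIn S T)) c : ↥(T ⊔ centralizerIn S T)) : Ω) = 1 := by
        show (c : Ω)⁻¹ * (c : Ω) = 1
        exact inv_mul_cancel _
      rw [this]
      exact Subgroup.one_mem _


/-- Let F be a saturated fusion system over a finite abelian p-group S. Then F is simple if and only if S has order p and F is the inner system of S (whose only maps are the inclusions, S being abelian). -/
theorem result {Ω : Type*} [Group Ω] {S : Subgroup Ω} [Finite S] (p : ℕ) [Fact p.Prime] (hS : IsPGroup p S) (F : Cfsg.FusionSystem S) (hF : F.IsSaturated p) (hab : ∀ x ∈ S, ∀ y ∈ S, x * y = y * x) : F.IsSimple p ↔ (Nat.card S = p ∧ ∀ P : Subgroup Ω, F.Hom P = (Cfsg.innerFusionSystem S).Hom P) := by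
  have hp : p.Prime := Fact.out
  constructor
  · rintro ⟨hsat, hS1, hall⟩
    have hS_sc : F.StronglyClosed S := ⟨le_rfl, fun R _ φ hφ x => (F.le_of_mem hφ).2 x⟩
    have hinner : ∀ P : Subgroup Ω, (Cfsg.innerFusionSystem S).Hom P = F.Hom P := by
      rcases hall S (Cfsg.innerFusionSystem S) (inner_normal p F hsat hab hS_sc) with h | ⟨_, h⟩
      · exact absurd h hS1
      · exact h
    refine ⟨?_, fun P => (hinner P).symm⟩
    -- every subgroup of S is strongly closed
    have hsc : ∀ T : Subgroup Ω, T ≤ S → F.StronglyClosed T := by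
      intro T hTS
      refine ⟨hTS, fun R hRT φ hφ x => ?_⟩
      rw [← hinner R] at hφ
      rw [inner_apply hab le_rfl hφ x]
      exact hRT x.2
    have hsub : ∀ T : Subgroup Ω, T ≤ S → T = ⊥ ∨ T = S := by
      intro T hTS
      rcases hall T (Cfsg.innerFusionSystem T) (inner_normal p F hsat hab (hsc T hTS)) with h | ⟨h, _⟩
      · left; exact h
      · right; exact h
    -- element of order p
    have hdvd : p ∣ Nat.card S := by
      rcases hS.card_eq_or_dvd with h | h
      · exact absurd (Subgroup.card_eq_one.mp h) hS1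
      · exact h
    obtain ⟨y, hy⟩ := exists_prime_orderOf_dvd_card' p hdvd
    have hy' : orderOf (y : Ω) = p := by rw [Subgroup.orderOf_coe]; exact hy
    have hle : Subgroup.zpowers (y : Ω) ≤ S := by
      rw [Subgroup.zpowers_le]; exact y.2
    rcases hsub _ hle with h | h
    · exfalso
      have h1 : (y : Ω) = 1 := by
        have : (y : Ω) ∈ Subgroup.zpowers (y : Ω) := Subgroup.mem_zpowers _
        rw [h] at this
        exact Subgroup.mem_bot.mp this
      rw [h1, orderOf_one] at hy'
      exact hp.one_lt.ne hy'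
    · rw [← h, Nat.card_zpowers, hy']
  · rintro ⟨hcard, hinner⟩
    have hS1 : S ≠ ⊥ := by
      intro h
      rw [h, Subgroup.card_bot] at hcard
      exact hp.one_lt.ne hcard
    refine ⟨hF, hS1, ?_⟩
    intro T E hE
    have hTS : T ≤ S := hE.1.2.2.2.1.1
    have hdvd : Nat.card T ∣ p := hcard ▸ Subgroup.card_dvd_of_le hTS
    rcases (Nat.dvd_prime hp).mp hdvd with h | h
    · left; exact Subgroup.card_eq_one.mp h
    · right
      have hT : T = S := by
        apply Subgroup.eq_of_le_of_card_ge hTS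
        rw [h, hcard]
      refine ⟨hT, ?_⟩
      subst hT
      intro P
      apply Set.Subset.antisymm (hE.1.2.2.1 P)
      rw [hinner P]
      rintro φ ⟨hP, g, hg, h⟩
      have : φ = Cfsg.conjHom P g := by
        ext x; exact h x
      rw [this]
      exact E.conj_mem hP hg

end Cfsg.Agent.S5337
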